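import Cfsg.Statements.S0499
import Cfsg.Agent.Lib.Classif.SimpleComplement
import Cfsg.Agent.Lib.SmallGroups.Counting

set_option autoImplicit false
open Cfsg

namespace Cfsg.Agent.S0499

/-- A group of order 8 has no automorphism of order 5. -/
theorem no_order_five {Q : Type*} [Group Q] [Finite Q] (hQ : Nat.card Q = 8) (φ : MulAut Q) :
    orderOf φ ≠ 5 := by
  intro h
  haveI : Fact (Nat.Prime 5) := ⟨by norm_num⟩
  set A := Subgroup.zpowers φ
  have hA : IsPGroup 5 A := IsPGroup.of_card (n := 1) (by rw [Nat.card_zpowers, h, pow_one])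
  let F : Subgroup Q :=
    { carrier := MulAction.fixedPoints A Q
      one_mem' := fun a => map_one (a : MulAut Q)
      mul_mem' := fun {x y} hx hy a => by
        change (a : MulAut Q) (x * y) = x * y
        rw [map_mul]; exact congrArg₂ (· * ·) (hx a) (hy a)
      inv_mem' := fun {x} hx a => by
        change (a : MulAut Q) x⁻¹ = x⁻¹
        rw [map_inv]; exact congrArg _ (hx a) }
  have hmod := hA.card_modEq_card_fixedPoints Q
  rw [hQ] at hmod
  have hdvd : Nat.card F ∣ 8 := hQ ▸ Subgroup.card_subgroup_dvd_card F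
  have hF : Nat.card F = Nat.card (MulAction.fixedPoints A Q) := rfl
  rw [← hF] at hmod
  have hle : Nat.card F ≤ 8 := Nat.le_of_dvd (by norm_num) hdvd
  have h8 : Nat.card F = 8 := by
    unfold Nat.ModEq at hmod
    interval_cases Nat.card F <;> simp_all
  have hall : F = ⊤ := Subgroup.eq_top_of_card_eq F (by rw [h8, hQ])
  have : φ = 1 := by
    ext x
    have hx : x ∈ F := hall ▸ Subgroup.mem_top x
    exact hx ⟨φ, Subgroup.mem_zpowers φ⟩
  rw [this, orderOf_one] at h
  norm_num at h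

theorem result {G : Type*} [Group G] [Finite G] [IsSimpleGroup G]
    (hG : ¬ IsMulCommutative G) (h2 : Even (Nat.card G)) :
    12 ∣ Nat.card G ∨ 16 ∣ Nat.card G ∨ 56 ∣ Nat.card G := by
  haveI : Fact (Nat.Prime 2) := ⟨Nat.prime_two⟩
  obtain ⟨Q, hQ, hQ1, q, hq, hq2, hqG, φ, hφ⟩ :=
    Cfsg.Agent.Lib.Classif.exists_prime_automorphism (p := 2) hG h2.two_dvd
  obtain ⟨k, hk⟩ := IsPGroup.iff_card.mp hQ
  have hQG : 2 ^ k ∣ Nat.card G := hk ▸ Subgroup.card_subgroup_dvd_card Q
  rcases Nat.lt_or_ge k 4 with hk4 | hk4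
  swap
  · exact Or.inr (Or.inl (dvd_trans (by exact pow_dvd_pow 2 hk4 : 2 ^ 4 ∣ 2 ^ k) hQG))
  have hk0 : k ≠ 0 := by
    rintro rfl
    exact hQ1 (Subgroup.eq_bot_of_card_eq Q (by simpa using hk))
  have hdvd : q ∣ (2 ^ k - 1).factorial := by
    rw [← hk, ← hφ]
    exact (orderOf_dvd_natCard φ).trans (Cfsg.Agent.Lib.SmallGroups.Counting.card_mulAut_dvd_factorial Q)
  have hle : q ≤ 2 ^ k - 1 := (Nat.Prime.dvd_factorial hq).mp hdvd
  have hk2 : 2 ≤ k := by
    by_contra h'
    have : 2 ^ k ≤ 2 ^ 1 := Nat.pow_le_pow_right (by norm_num) (by omega)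
    have := hq.two_le
    omega
  have h4 : 4 ∣ Nat.card G := dvd_trans (by exact pow_dvd_pow 2 hk2 : 2 ^ 2 ∣ 2 ^ k) hQG
  have h12 : q = 3 → 12 ∣ Nat.card G := by
    rintro rfl
    exact Nat.Coprime.mul_dvd_of_dvd_of_dvd (by norm_num : Nat.Coprime 4 3) h4 hqG
  interval_cases k
  · exact Or.inl (h12 (by have := hq.two_le; omega))
  · have hq5 : q ≠ 5 := fun h => no_order_five (by rw [hk]; norm_num) φ (hφ.trans h)
    have : q = 3 ∨ q = 7 := by
      have := hq.two_le
      interval_cases q <;> simp_all +decide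
    rcases this with h | h
    · exact Or.inl (h12 h)
    · subst h
      exact Or.inr (Or.inr (Nat.Coprime.mul_dvd_of_dvd_of_dvd (by norm_num : Nat.Coprime 8 7) hQG hqG))

end Cfsg.Agent.S0499
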