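import Cfsg.Statements.S0494
import Cfsg.Agent.Lib.Classif.IntersectionSubgroup
import Cfsg.Agent.Lib.Classif.OrderSieve

set_option autoImplicit false
open Cfsg

namespace Cfsg.Agent.S0494

theorem result {G : Type*} [Group G] [Finite G] [IsSimpleGroup G]
    (h : Nat.card G = 60) : Nonempty (G ≃* alternatingGroup (Fin 5)) := by
  classical
  haveI : Fact (Nat.Prime 2) := ⟨Nat.prime_two⟩
  have hna : ¬ IsMulCommutative G :=
    Cfsg.Agent.Lib.SmallGroups.Sylow.not_comm_of_card (by rw [h]; norm_num)
  have hf : Nat.card G = 2 ^ 2 * 15 := by rw [h]; norm_num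
  obtain ⟨H, hH, hidx⟩ : ∃ H : Subgroup G, H ≠ ⊤ ∧ H.index = 5 := by
    have hm := Cfsg.Agent.Lib.Classif.OrderSieve.mem_adm hna hf (by norm_num) (by norm_num)
      (by norm_num)
    have hne := Cfsg.Agent.Lib.SmallGroups.Sylow.card_sylow_ne_one hf (by norm_num) (by norm_num)
      (by norm_num)
    rw [h] at hm
    have hlist : Cfsg.Agent.Lib.Classif.OrderSieve.adm 60 2 2 15 = [5, 15] := by decide +kernel
    rw [hlist] at hm
    simp only [List.mem_cons, List.not_mem_nil, or_false] at hm
    let P : Sylow 2 G := default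
    rcases hm with h5 | h15
    · exact ⟨_, Cfsg.Agent.Lib.SmallGroups.Sylow.normalizer_ne_top P hne,
        (Cfsg.Agent.Lib.SmallGroups.Sylow.index_normalizer P).trans h5⟩
    · obtain ⟨P, R, N, -, -, -, -, -, hN, m', d, -, hidx, hd, hdp, hpd⟩ :=
        Cfsg.Agent.Lib.Classif.exists_intersection_normalizer hf (by norm_num) le_rfl
          (by rw [h15]; norm_num)
      have hk := Cfsg.Agent.Lib.SmallGroups.Sylow.two_mul_card_dvd_factorial hna hN
      rw [h] at hk
      have hm' : m' ∣ 15 := Dvd.intro _ hidx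
      have hle : m' ≤ 15 := Nat.le_of_dvd (by norm_num) hm'
      have hd' : d ≤ m' := Nat.le_of_dvd (Nat.pos_of_ne_zero (by rintro rfl; simp at hidx)) hd
      refine ⟨N, hN, ?_⟩
      have hcases : ∀ k, k < 16 → m' * k = 15 → 2 < m' → 2 * 60 ∣ k.factorial → k = 5 := by
        intro k hk16 hk15 h2 hkf
        interval_cases k <;> first
          | omega
          | (exfalso; revert hkf; decide)
      exact hcases N.index (by
        have := Nat.le_of_dvd (by norm_num) (Dvd.intro_left _ hidx : N.index ∣ 15)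
        omega) hidx (by omega) hk
  obtain ⟨f, hinj⟩ := Cfsg.Agent.Lib.SmallGroups.Sylow.exists_alt_embedding hna hH hidx
  refine ⟨MulEquiv.ofBijective f ⟨hinj, ?_⟩⟩
  haveI : Fintype G := Fintype.ofFinite G
  refine ((Fintype.bijective_iff_injective_and_card f).mpr ⟨hinj, ?_⟩).2
  rw [← Nat.card_eq_fintype_card, ← Nat.card_eq_fintype_card, h,
    nat_card_alternatingGroup, Nat.card_fin]
  decide

end Cfsg.Agent.S0494
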