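import Cfsg.Statements.S0300
import Cfsg.Agent.Lib.LowIso.Small
import Cfsg.Agent.Lib.LowIso.QuadExt
import Cfsg.Agent.Lib.Unitary.Basic
import Cfsg.Agent.Lib.Linear.Simple
import Cfsg.Agent.Lib.Linear.Order

set_option autoImplicit false
open Cfsg

namespace Cfsg.Agent.S0300

/-- PΩ^-_4(q) is isomorphic to PSL_2(q^2). -/
theorem result {F K : Type*} [Field F] [Fintype F] [Field K] [Fintype K] {q : ℕ} (hF : Fintype.card F = q) (hK : Fintype.card K = q ^ 2) (a b : F) (hab : ∀ z₁ z₂ : F, z₁ ^ 2 + a * z₁ * z₂ + b * z₂ ^ 2 = 0 → z₁ = 0 ∧ z₂ = 0) : Nonempty (Cfsg.POmega F (Cfsg.quadFormMinus 1 F a b) ≃* Matrix.ProjectiveSpecialLinearGroup (Fin 2) K) := by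
  classical
  obtain ⟨φ, ω, hfix, hadd, hqq, hwa, hwb, hind, hsurj, hfixed, hN⟩ :=
    Cfsg.Agent.Lib.LowIso.QuadExt.exists_quad hF hK a b hab
  set σ : K →+* K := Cfsg.Agent.Lib.Unitary.conj hK with hσ
  have hσσ : ∀ z, σ (σ z) = z := fun z => hqq z
  have hσφ : ∀ x, σ (φ x) = φ x := hfix
  have hq : 2 ≤ q := hF ▸ Fintype.one_lt_card
  let E : ((Fin 1 ⊕ Fin 1) ⊕ Fin 2 → F) → Matrix (Fin 2) (Fin 2) K := fun v =>
    !![φ (v (.inl (.inl 0))), φ (v (.inr 0)) + φ (v (.inr 1)) * ω;
      σ (φ (v (.inr 0)) + φ (v (.inr 1)) * ω), -φ (v (.inl (.inr 0)))]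
  let act : Matrix.SpecialLinearGroup (Fin 2) K →* Module.End K (Matrix (Fin 2) (Fin 2) K) :=
    { toFun := fun g =>
        { toFun := fun X => g.1 * X * (g.1.map σ).transpose
          map_add' := fun X Y => by rw [Matrix.mul_add, Matrix.add_mul]
          map_smul' := fun t X => by rw [RingHom.id_apply, Matrix.mul_smul, Matrix.smul_mul] }
      map_one' := LinearMap.ext fun X => by simp
      map_mul' := fun g h => LinearMap.ext fun X => by
        show g.1 * h.1 * X * ((g.1 * h.1).map σ).transpose =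
          g.1 * (h.1 * X * (h.1.map σ).transpose) * (g.1.map σ).transpose
        simp only [Matrix.map_mul, Matrix.transpose_mul, Matrix.mul_assoc] }
  obtain ⟨φ', hφ⟩ := Cfsg.Agent.Lib.LowIso.exists_hom φ act E
    (fun u v => by
      ext i j; fin_cases i <;> fin_cases j <;> simp [E] <;> ring)
    (fun t v => by
      ext i j; fin_cases i <;> fin_cases j <;> simp [E, hσφ] <;> ring)
    (fun u v h => by
      have h1 : φ (u (.inl (.inl 0))) = φ (v (.inl (.inl 0))) := congrFun (congrFun h 0) 0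
      have h2 : φ (u (.inr 0)) + φ (u (.inr 1)) * ω = φ (v (.inr 0)) + φ (v (.inr 1)) * ω :=
        congrFun (congrFun h 0) 1
      have h3 : -φ (u (.inl (.inr 0))) = -φ (v (.inl (.inr 0))) := congrFun (congrFun h 1) 1
      have h4 := hind (u (.inr 0) - v (.inr 0)) (u (.inr 1) - v (.inr 1))
        (by simp only [map_sub]; linear_combination h2)
      funext k
      rcases k with (k | k) | k <;> fin_cases k
      · exact φ.injective h1
      · exact φ.injective (neg_injective h3)
      · exact sub_eq_zero.mp h4.1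
      · exact sub_eq_zero.mp h4.2)
    (Cfsg.quadFormMinus 1 F a b) (fun X => -X.det)
    (fun g v => by
      show -(g.1 * E v * (g.1.map σ).transpose).det = -(E v).det
      rw [Matrix.det_mul, Matrix.det_mul, Matrix.det_transpose, ← RingHom.mapMatrix_apply,
        ← RingHom.map_det, g.2, map_one, one_mul, mul_one])
    (fun v => by
      have h := hN (v (.inr 0)) (v (.inr 1))
      simp only [E, Matrix.det_fin_two_of, Cfsg.quadFormMinus, Fin.sum_univ_one]
      simp only [map_add, map_mul, hσφ, show σ ω = ω ^ q from rfl] at h ⊢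
      rw [hadd, mul_pow, hfix, hfix] at h
      linear_combination h)
    (fun g v => by
      have hH : ((E v).map σ).transpose = E v := by
        ext i j
        fin_cases i <;> fin_cases j <;>
          simp only [E, Matrix.transpose_apply, Matrix.map_apply] <;> simp [hσφ, hσσ]
      have hM : ((g.1 * E v * (g.1.map σ).transpose).map σ).transpose =
          g.1 * E v * (g.1.map σ).transpose := by
        rw [Matrix.map_mul, Matrix.map_mul, Matrix.transpose_mul, Matrix.transpose_mul,
          Matrix.transpose_map, Matrix.transpose_transpose, Matrix.map_map, hH]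
        rw [show (σ : K → K) ∘ σ = id from funext hσσ, Matrix.map_id, Matrix.mul_assoc]
      show ∃ w, E w = g.1 * E v * (g.1.map σ).transpose
      generalize g.1 * E v * (g.1.map σ).transpose = M at hM
      have e := fun i j => congrFun (congrFun hM i) j
      obtain ⟨l, hl⟩ := hfixed (M 0 0) (e 0 0)
      obtain ⟨r, hr⟩ := hfixed (M 1 1) (e 1 1)
      obtain ⟨z1, z2, hz⟩ := hsurj (M 0 1)
      have h10 : σ (M 0 1) = M 1 0 := e 1 0
      refine ⟨Sum.elim (Sum.elim ![l] ![-r]) ![z1, z2], ?_⟩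
      ext i j
      fin_cases i <;> fin_cases j
      · simpa [E] using hl
      · simpa [E] using hz
      · simpa [E, ← hz] using h10
      · simpa [E] using hr)
  have hne : ∃ g, φ' g ≠ 1 := by
    refine ⟨⟨Matrix.transvection 0 1 1, by simp⟩, fun h => ?_⟩
    have h1 := hφ ⟨Matrix.transvection 0 1 1, by simp⟩ (Sum.elim (Sum.elim 0 ![1]) 0)
    rw [h] at h1
    simp only [OneMemClass.coe_one, Units.val_one, Matrix.one_mulVec] at h1
    change _ = Matrix.transvection (0 : Fin 2) 1 (1 : K) * _ *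
      ((Matrix.transvection (0 : Fin 2) 1 (1 : K)).map σ).transpose at h1
    have h2 := congrFun (congrFun h1 0) 1
    simp [E, Matrix.mul_apply, Fin.sum_univ_succ, Matrix.transvection, Matrix.single_apply,
      Matrix.one_apply] at h2
  have h4K : 4 ≤ Nat.card K := by
    rw [Nat.card_eq_fintype_card, hK]; nlinarith
  have hperf := Cfsg.Agent.Lib.Linear.commutator_SL_eq_top (F := K) (le_refl 2) fun _ => h4K
  have hsimp := Cfsg.Agent.Lib.Linear.isSimpleGroup_PSL (F := K) (le_refl 2) fun _ => h4K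
  refine Cfsg.Agent.Lib.LowIso.nonempty_pOmega_equiv_of_le _ φ' hperf hsimp hne ?_
  show _ ≤ Nat.card (Matrix.ProjectiveSpecialLinearGroup (Fin 2) K)
  refine Cfsg.Agent.Lib.LowIso.Small.card_pOmega_le.trans ?_
  have hO := Cfsg.Agent.Lib.OrthStd.card_orth_minus (F := F) hF 2 (by norm_num) hab
  simp only [show (2 : ℕ) - 1 = 1 from rfl, Finset.prod_range_one] at hO
  obtain ⟨p, hp⟩ : ∃ p, q ^ 2 = p + 1 :=
    ⟨_, (Nat.sub_add_cancel (Nat.one_le_pow 2 q (by omega))).symm⟩
  rcases Nat.even_or_odd q with hev | hodd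
  · have hKe : Even (Fintype.card K) := by rw [hK]; exact hev.pow_of_ne_zero two_ne_zero
    have hc : Subgroup.center (Matrix.SpecialLinearGroup (Fin 2) K) = ⊥ := by
      rw [← Subgroup.card_eq_one, Cfsg.Agent.Lib.Linear.card_center_SL, Fintype.card_fin,
        Nat.card_eq_fintype_card, ← Nat.coprime_iff_gcd_eq_one, Nat.coprime_two_left]
      obtain ⟨k, hk⟩ := hKe
      have := Fintype.one_lt_card (α := K)
      exact ⟨k - 1, by omega⟩
    have e : Matrix.ProjectiveSpecialLinearGroup (Fin 2) K ≃*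
        Matrix.SpecialLinearGroup (Fin 2) K :=
      (QuotientGroup.quotientMulEquivOfEq hc).trans QuotientGroup.quotientBot
    have := hsimp
    have : IsSimpleGroup (Matrix.SpecialLinearGroup (Fin 2) K) := e.symm.isSimpleGroup
    rw [Nat.card_congr e.toEquiv]
    refine Cfsg.Agent.Lib.LowIso.Small.card_omega_le φ' hne ?_
    rw [hO, Cfsg.Agent.Lib.Linear.card_SL_two, hK]
    simp only [mul_one, zero_add, pow_one]
    apply le_of_eq
    ring
  · have hKo : Odd (Fintype.card K) := by rw [hK]; exact hodd.pow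
    have h4 := Cfsg.Agent.Lib.LowIso.Small.four_mul_card_omega
      (Cfsg.Agent.Lib.Forms.qMinus 1 a b) (Cfsg.Agent.Lib.Forms.qMinus_nondeg 1 hab)
      (Cfsg.Agent.Lib.OrthOmega.two_ne_zero_of_odd (hF ▸ hodd))
      (by rw [Cfsg.Agent.Lib.OrthOmega.finrank_fun]; simp)
      (f := Cfsg.quadFormMinus 1 F a b) (fun v => (Cfsg.Agent.Lib.Forms.qMinus_apply 1 a b v).symm)
    have hP := Cfsg.Agent.Lib.Linear.two_mul_card_PSL_two_of_odd hKo
    rw [hK] at hP
    rw [hO] at h4
    simp only [mul_one, zero_add, pow_one] at h4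
    have : 4 * Nat.card (Cfsg.Omega F (Cfsg.quadFormMinus 1 F a b)) =
        4 * Nat.card (Matrix.ProjectiveSpecialLinearGroup (Fin 2) K) := by
      rw [h4, show 4 * Nat.card (Matrix.ProjectiveSpecialLinearGroup (Fin 2) K) =
        2 * (2 * Nat.card (Matrix.ProjectiveSpecialLinearGroup (Fin 2) K)) by ring, hP]
      ring
    omega

end Cfsg.Agent.S0300
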