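import Cfsg.Statements.S0840
import Cfsg.Agent.Lib.Characters.Complete

set_option autoImplicit false
open Cfsg
open scoped ComplexConjugate

namespace Cfsg.Agent.S0840

open Cfsg.Agent.Lib.Induced.Basic Cfsg.Agent.Lib.Characters.Basic Cfsg.Agent.Lib.Characters

variable {G : Type*} [Group G] [Fintype G]

/-- Sum over a conjugacy class in an irreducible representation. -/
theorem classSum_scalar [DecidableRel (IsConj : G → G → Prop)] {V : Type*} [AddCommGroup V] [Module ℂ V] [FiniteDimensional ℂ V]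
    (ρ : Representation ℂ G V) [ρ.IsIrreducible] (a : G) :
    ∃ c : ℂ, (∑ x ∈ Finset.univ.filter (IsConj a), ρ x) = c • (1 : Module.End ℂ V) ∧
      c * (Module.finrank ℂ V : ℂ) = (Nat.card {x : G // IsConj a x} : ℂ) * ρ.character a := by
  let θ : G → ℂ := fun g => if IsConj a g⁻¹ then 1 else 0
  have hθ : Cfsg.IsClassFunction G θ := by
    intro g h
    have e : IsConj g⁻¹ (h * g * h⁻¹)⁻¹ := isConj_iff.mpr ⟨h, by group⟩
    simp only [θ]
    exact if_congr ⟨fun H => H.trans e.symm, fun H => H.trans e⟩ rfl rfl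
  obtain ⟨c, hc, hc'⟩ := Complete.avg_eq_scalar hθ ρ
  refine ⟨c, ?_, ?_⟩
  · rw [← hc, Complete.avg, Finset.sum_filter]
    refine Fintype.sum_equiv (Equiv.inv G) _ _ fun g => ?_
    simp only [θ, Equiv.inv_apply, inv_inv]
    split_ifs <;> simp
  · rw [hc', Nat.card_eq_fintype_card, Fintype.card_subtype, ← nsmul_eq_mul, ← Finset.sum_const,
      Finset.sum_filter]
    refine Fintype.sum_equiv (Equiv.inv G) _ _ fun g => ?_
    simp only [θ, Equiv.inv_apply]
    split_ifs with h
    · rw [one_mul, ← Diag.char_inv_eq_conj,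
        classFunction_apply_of_isConj (isClassFunction_character ρ) h]
    · rw [zero_mul]

/-- For elements a, b, c of a finite group G, the number of pairs (x, y) with x conjugate to a, y conjugate to b and x*y = c equals the product of the class sizes of a and b, divided by the order of G, times the sum over all irreducible characters χ of χ a * χ b * conj (χ c) / χ 1. -/
theorem result {G : Type*} [Group G] [Finite G] (a b c : G) : (Nat.card {p : G × G // IsConj a p.1 ∧ IsConj b p.2 ∧ p.1 * p.2 = c} : ℂ) = (Nat.card {x : G // IsConj a x} : ℂ) * (Nat.card {x : G // IsConj b x} : ℂ) / (Nat.card G : ℂ) * ∑ᶠ χ : Cfsg.IrrCharacter G, (χ : G → ℂ) a * (χ : G → ℂ) b * conj ((χ : G → ℂ) c) / (χ : G → ℂ) 1 := by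
  classical
  have := Fintype.ofFinite G
  have := Fintype.ofFinite (Cfsg.IrrCharacter G)
  set A := Finset.univ.filter (IsConj a)
  set B := Finset.univ.filter (IsConj b)
  let f : G → ℂ := fun g => ∑ x ∈ A, ∑ y ∈ B, if x * y = g then 1 else 0
  have hf : Cfsg.IsClassFunction G f := by
    intro g h
    simp only [f]
    have hmem : ∀ (u x : G), IsConj u (h * x * h⁻¹) ↔ IsConj u x := fun u x =>
      ⟨fun H => H.trans (isConj_iff.mpr ⟨h⁻¹, by group⟩),
        fun H => H.trans (isConj_iff.mpr ⟨h, rfl⟩)⟩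
    refine (Finset.sum_equiv (MulAut.conj h).toEquiv (fun x => ?_) fun x _ => ?_).symm
    · simp only [A, Finset.mem_filter, Finset.mem_univ, true_and]
      exact (hmem a x).symm
    refine Finset.sum_equiv (MulAut.conj h).toEquiv (fun x => ?_) fun y _ => ?_
    · simp only [B, Finset.mem_filter, Finset.mem_univ, true_and]
      exact (hmem b x).symm
    refine if_congr ?_ rfl rfl
    simp only [MulEquiv.toEquiv_eq_coe, MulEquiv.coe_toEquiv, MulAut.conj_apply]
    rw [show h * x * h⁻¹ * (h * y * h⁻¹) = h * (x * y) * h⁻¹ by group]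
    simp
  have hcount : (Nat.card {p : G × G // IsConj a p.1 ∧ IsConj b p.2 ∧ p.1 * p.2 = c} : ℂ) = f c := by
    simp only [f]
    rw [← Finset.sum_product', Finset.sum_boole]
    rw [Nat.card_eq_fintype_card, Fintype.card_subtype]
    congr 2
    ext p
    simp [A, B, and_assoc]
  have hinner : ∀ χ : Cfsg.IrrCharacter G, Cfsg.classInner f χ =
      (Nat.card {x : G // IsConj a x} : ℂ) * (Nat.card {x : G // IsConj b x} : ℂ) / (Nat.card G : ℂ) *
        conj ((χ : G → ℂ) a * (χ : G → ℂ) b / (χ : G → ℂ) 1) := by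
    intro χ
    obtain ⟨n, ρ, hρ, hχ⟩ := exists_rep χ
    obtain ⟨u, hu, hu'⟩ := classSum_scalar ρ a
    obtain ⟨v, hv, hv'⟩ := classSum_scalar ρ b
    have h1 : ∑ x ∈ A, ∑ y ∈ B, ρ.character (x * y) = u * v * (Module.finrank ℂ (Fin n → ℂ) : ℂ) := by
      have : (∑ x ∈ A, ρ x) * (∑ y ∈ B, ρ y) = (u * v) • (1 : Module.End ℂ (Fin n → ℂ)) := by
        rw [hu, hv, smul_mul_smul_comm, one_mul]
      have h2 := congrArg (LinearMap.trace ℂ _) this
      rw [map_smul, LinearMap.trace_one, smul_eq_mul, Finset.sum_mul_sum, map_sum] at h2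
      rw [← h2]
      refine Finset.sum_congr rfl fun x _ => ?_
      rw [map_sum]
      refine Finset.sum_congr rfl fun y _ => ?_
      rw [← map_mul]
      rfl
    have hd : (Module.finrank ℂ (Fin n → ℂ) : ℂ) ≠ 0 :=
      Nat.cast_ne_zero.mpr (finrank_pos_of_isIrreducible ρ).ne'
    have h3 : ∀ g : G, f g * conj ((χ : G → ℂ) g)
        = ∑ x ∈ A, ∑ y ∈ B, if x * y = g then conj ((χ : G → ℂ) g) else 0 := fun g => by
      simp only [f, Finset.sum_mul, ite_mul, one_mul, zero_mul]
    rw [Cfsg.classInner, Finset.sum_congr rfl fun g _ => h3 g, Finset.sum_comm,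
      Finset.sum_congr rfl fun x _ => Finset.sum_comm]
    simp only [Finset.sum_ite_eq, Finset.mem_univ, if_true, ← map_sum]
    rw [← hχ, h1, Representation.char_one, map_div₀, map_mul (starRingEnd ℂ) (ρ.character a),
      div_mul_eq_mul_div, eq_div_iff natCard_ne_zero]
    have e1 := congrArg (starRingEnd ℂ) hu'
    have e2 := congrArg (starRingEnd ℂ) hv'
    simp only [map_mul, map_natCast] at e1 e2 ⊢
    field_simp
    linear_combination ((conj v) * (Module.finrank ℂ (Fin n → ℂ) : ℂ)) * e1 +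
      ((Nat.card {x : G // IsConj a x} : ℂ) * conj (ρ.character a)) * e2
  rw [hcount, Complete.classFunction_eq_sum hf, finsum_eq_sum_of_fintype, Finset.sum_apply,
    Finset.mul_sum]
  have hreal : conj (∑ χ : Cfsg.IrrCharacter G, (Cfsg.classInner f χ • (χ : G → ℂ)) c)
      = ∑ χ : Cfsg.IrrCharacter G, (Cfsg.classInner f χ • (χ : G → ℂ)) c := by
    rw [← Finset.sum_apply, ← Complete.classFunction_eq_sum hf, ← hcount, map_natCast]
  rw [← hreal, map_sum]
  refine Finset.sum_congr rfl fun χ _ => ?_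
  rw [Pi.smul_apply, smul_eq_mul, map_mul, hinner, map_mul, Complex.conj_conj]
  simp only [map_div₀, map_mul, map_natCast]
  ring

end Cfsg.Agent.S0840
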