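import Cfsg.Statements.S0842
import Cfsg.Agent.Lib.QuatSylow.Basic

set_option autoImplicit false
open Cfsg

namespace Cfsg.Agent.S0842

open Cfsg.Agent.Lib Subgroup

/-- Suppose a Sylow 2-subgroup S of the finite group G is generalized quaternion of order at least 16, and let D be the commutator subgroup of S, C its centralizer and N its normalizer in G. Then there is a subgroup K of odd order, contained in C and normalized by N, with K ⊔ S = N and K ⊔ (S ⊓ C) = C, and C has index 2 in N. -/
theorem result {G : Type*} [Group G] [Finite G] (S : Sylow 2 G) (n : ℕ) (e : (S : Subgroup G) ≃* QuaternionGroup (2 ^ (n + 2))) (D : Subgroup G) (hD : D = ⁅(S : Subgroup G), (S : Subgroup G)⁆) : ∃ K : Subgroup G, Odd (Nat.card K) ∧ K ≤ Subgroup.centralizer (D : Set G) ∧ Subgroup.normalizer (D : Set G) ≤ Subgroup.normalizer (K : Set G) ∧ K ⊔ (S : Subgroup G) = Subgroup.normalizer (D : Set G) ∧ K ⊔ ((S : Subgroup G) ⊓ Subgroup.centralizer (D : Set G)) = Subgroup.centralizer (D : Set G) ∧ ((Subgroup.centralizer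 (D : Set G)).subgroupOf (Subgroup.normalizer (D : Set G))).index = 2 := by
  set C := centralizer (D : Set G) with hCdef
  set N := normalizer (D : Set G) with hNdef
  set R := QuatSylow.gen S n e with hRdef
  have hSC : (S : Subgroup G) ⊓ C = zpowers R := QuatSylow.inf_centralizer S n hD e
  have hRC : zpowers R ≤ C := hSC ▸ inf_le_right
  have hR2 : IsPGroup 2 ((zpowers R).subgroupOf C) :=
    (IsPGroup.of_card (n := n + 3)
      (by rw [Nat.card_zpowers, QuatSylow.orderOf_gen])).comap_subtype
  obtain ⟨T, hT⟩ := hR2.exists_le_sylow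
  have hTeq : (T : Subgroup C) = (zpowers R).subgroupOf C := by
    refine (eq_of_le_of_card_ge hT ?_).symm
    obtain ⟨g, hg, hgT⟩ := QuatSylow.exists_conj_le S n hD e (T.2.map C.subtype)
      (map_subtype_le _)
    rw [Nat.card_congr (subgroupOfEquivOfLe hRC).toEquiv,
      ← card_subtype C (T : Subgroup C)]
    refine le_of_eq_of_le
      (Nat.card_congr (equivMapOfInjective _ (MulAut.conj g).toMonoidHom
        (MulAut.conj g).injective).toEquiv) (card_le_of_le ?_)
    rintro _ ⟨x, hx, rfl⟩
    exact hgT x hx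
  have hcyc : IsCyclic T := by
    rw [hTeq]
    exact isCyclic_of_injective (subgroupOfEquivOfLe hRC).toMonoidHom
      (subgroupOfEquivOfLe hRC).injective
  have h2C : (Nat.card C).minFac = 2 := by
    rw [Nat.minFac_eq_two_iff]
    refine dvd_trans ?_ (card_dvd_of_le hRC)
    rw [Nat.card_zpowers, QuatSylow.orderOf_gen]
    exact dvd_pow_self 2 (by omega)
  have hcompl := hcyc.isComplement' h2C
  set K' := (MonoidHom.transferSylow T (hcyc.normalizer_le_centralizer h2C)).ker with hK'
  have hK'normal : K'.Normal := MonoidHom.normal_ker _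
  set K := K'.map C.subtype with hKdef
  have hKodd : Odd (Nat.card K) := by
    rw [hKdef, card_subtype, Nat.odd_iff, ← Nat.two_dvd_ne_zero]
    exact MonoidHom.not_dvd_card_ker_transferSylow _ _
  have hKC : K ≤ C := map_subtype_le _
  have hmemK : ∀ x : C, x ∈ K' ↔ Odd (orderOf x) := by
    intro x
    constructor
    · intro hx
      have h := MonoidHom.not_dvd_card_ker_transferSylow T (hcyc.normalizer_le_centralizer h2C)
      rw [Nat.odd_iff, ← Nat.two_dvd_ne_zero]
      exact fun h2 => h (h2.trans (orderOf_dvd_natCard K' hx))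
    · intro hx
      rw [hK', MonoidHom.mem_ker, ← orderOf_eq_one_iff]
      obtain ⟨k, hk⟩ := T.2.exists_card_eq
      have h1 : orderOf (MonoidHom.transferSylow T (hcyc.normalizer_le_centralizer h2C) x) ∣ 2 ^ k :=
        hk ▸ _root_.orderOf_dvd_natCard _
      have h2 := orderOf_map_dvd (MonoidHom.transferSylow T (hcyc.normalizer_le_centralizer h2C)) x
      exact Nat.eq_one_of_dvd_coprimes (Nat.Coprime.pow_left k (Nat.coprime_two_left.mpr hx)) h1 h2
  have hNC : ∀ g ∈ N, ∀ x ∈ C, g * x * g⁻¹ ∈ C := by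
    intro g hg x hx
    rw [mem_centralizer_iff] at hx ⊢
    intro d hd
    have hd' : g⁻¹ * d * g ∈ D := by
      apply (mem_normalizer_iff.mp hg (g⁻¹ * d * g)).2
      simpa [mul_assoc] using hd
    have h := hx _ hd'
    calc d * (g * x * g⁻¹) = g * ((g⁻¹ * d * g) * x) * g⁻¹ := by group
      _ = g * (x * (g⁻¹ * d * g)) * g⁻¹ := by rw [h]
      _ = g * x * g⁻¹ * d := by group
  have hKN : N ≤ normalizer (K : Set G) := by
    have h1 : ∀ g ∈ N, ∀ x ∈ K, g * x * g⁻¹ ∈ K := by
      rintro g hg _ ⟨x, hx, rfl⟩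
      refine ⟨⟨g * (x : G) * g⁻¹, hNC g hg x x.2⟩, (hmemK _).2 ?_, rfl⟩
      rw [← orderOf_coe]
      show Odd (orderOf (MulAut.conj g (x : G)))
      rw [MulEquiv.orderOf_eq, orderOf_coe]
      exact (hmemK x).1 hx
    intro g hg
    rw [mem_normalizer_iff]
    intro x
    refine ⟨h1 g hg x, fun h => ?_⟩
    have := h1 g⁻¹ (inv_mem hg) _ h
    rwa [show g⁻¹ * (g * x * g⁻¹) * g⁻¹⁻¹ = x by group] at this
  have hKR : K ⊔ ((S : Subgroup G) ⊓ C) = C := by
    rw [hSC]
    apply le_antisymm (sup_le hKC hRC)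
    intro x hx
    have h : (⟨x, hx⟩ : C) ∈ K' ⊔ (T : Subgroup C) := by
      rw [hcompl.sup_eq_top]; trivial
    have hm : x ∈ (K' ⊔ (T : Subgroup C)).map C.subtype := ⟨⟨x, hx⟩, h, rfl⟩
    rw [Subgroup.map_sup, hTeq, subgroupOf_map_subtype, inf_eq_left.mpr hRC] at hm
    exact hm
  have hSN := QuatSylow.sylow_le_normalizer S hD
  have hCN : C ≤ N := centralizer_le_normalizer _
  have hnorm : (C.subgroupOf N).Normal := by
    refine ⟨fun x hx g => ?_⟩
    exact hNC g g.2 x hx
  have hDc : IsCyclic D := by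
    rw [hD, QuatSylow.derived_eq S n e]
    infer_instance
  have hcard2 : ∃ k : ℕ, (C.subgroupOf N).index = 2 ^ k := by
    have hker : (normalizerMonoidHom D).ker = C.subgroupOf N := normalizerMonoidHom_ker D
    have h1 : (C.subgroupOf N).index ∣ Nat.totient (2 ^ (n + 2)) := by
      rw [← hker, index_ker, ← QuatSylow.card_D S n hD e, ← hDc.card_mulAut]
      exact card_subgroup_dvd_card _
    rw [Nat.totient_prime_pow Nat.prime_two (by omega)] at h1
    simp at h1
    obtain ⟨k, -, hk⟩ := (Nat.dvd_prime_pow Nat.prime_two).mp h1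
    exact ⟨k, hk⟩
  have hsup : (S : Subgroup G).subgroupOf N ⊔ C.subgroupOf N = ⊤ := by
    rw [← index_eq_one]
    obtain ⟨k, hk⟩ := hcard2
    have h1 := index_dvd_of_le (H := C.subgroupOf N)
      (le_sup_right (a := (S : Subgroup G).subgroupOf N))
    have h2 := index_dvd_of_le (H := (S : Subgroup G).subgroupOf N)
      (le_sup_left (b := C.subgroupOf N))
    have h3 : ¬ 2 ∣ ((S : Subgroup G).subgroupOf N).index := by
      have := (S.subtype hSN).not_dvd_index
      rwa [Sylow.coe_subtype] at this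
    refine Nat.eq_one_of_dvd_coprimes ?_ (hk ▸ h1) h2
    exact Nat.Coprime.pow_left k ((Nat.Prime.coprime_iff_not_dvd Nat.prime_two).mpr h3)
  have hN : (S : Subgroup G) ⊔ C = N := by
    apply le_antisymm (sup_le hSN hCN)
    rw [← subgroupOf_eq_top, subgroupOf_sup hSN hCN]
    exact hsup
  refine ⟨K, hKodd, hKC, hKN, ?_, hKR, ?_⟩
  · apply le_antisymm (sup_le (hKC.trans hCN) hSN)
    rw [← hN]
    refine sup_le le_sup_right ?_
    exact hKR.symm.le.trans (sup_le le_sup_left (inf_le_left.trans le_sup_right))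
  · have h2 : C.relIndex N = C.relIndex (S : Subgroup G) := by
      rw [relIndex, ← relIndex_top_right, ← hsup, relIndex_sup_right,
        relIndex_subgroupOf hSN]
    rw [← relIndex, h2]
    have h4 := relIndex_mul_relIndex ⊥ (zpowers R) (S : Subgroup G) bot_le
      (hSC ▸ inf_le_left)
    rw [relIndex_bot_left, relIndex_bot_left, Nat.card_zpowers, hRdef, QuatSylow.orderOf_gen,
      Nat.card_congr e.toEquiv, Nat.card_eq_fintype_card, QuaternionGroup.card] at h4
    rw [← inf_relIndex_right, inf_comm, hSC]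
    have h5 : 2 ^ (n + 3) * (zpowers R).relIndex (S : Subgroup G) = 2 ^ (n + 3) * 2 := by
      rw [hRdef, h4]; ring
    exact Nat.eq_of_mul_eq_mul_left (by positivity) h5

end Cfsg.Agent.S0842
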