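import Cfsg.Statements.S0843
import Cfsg.Agent.Lib.QuatSylow.Basic

set_option autoImplicit false
open Cfsg

namespace Cfsg.Agent.S0843

open Cfsg.Agent.Lib

/-- Suppose a Sylow 2-subgroup S of the finite group G is generalized quaternion of order at least 16; let D be the commutator subgroup of S and X the set of elements of the centralizer of D whose order is divisible by the order of D. Then D is contained in the cyclic subgroup generated by any element of X; an element of G conjugating some element of X into the centralizer of D normalizes D; and the normalizer of D maps X to itself under conjugation. -/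
theorem result {G : Type*} [Group G] [Finite G] (S : Sylow 2 G) (n : ℕ) (e : (S : Subgroup G) ≃* QuaternionGroup (2 ^ (n + 2))) (D : Subgroup G) (hD : D = ⁅(S : Subgroup G), (S : Subgroup G)⁆) : (∀ y : G, y ∈ Subgroup.centralizer (D : Set G) → Nat.card D ∣ orderOf y → D ≤ Subgroup.zpowers y) ∧ (∀ g y : G, y ∈ Subgroup.centralizer (D : Set G) → Nat.card D ∣ orderOf y → g * y * g⁻¹ ∈ Subgroup.centralizer (D : Set G) → g ∈ Subgroup.normalizer (D : Set G)) ∧ (∀ g y : G, g ∈ Subgroup.normalizer (D : Set G) → y ∈ Subgroup.centralizer (D : Set G) → Nat.card D ∣ orderOf y → g * y * g⁻¹ ∈ Subgroup.centralizer (D : Set G) ∧ Nat.card D ∣ orderOf (g * y * g⁻¹)) := by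
  have hc := QuatSylow.card_D S n hD e
  have key : ∀ y : G, Nat.card D ∣ orderOf y →
      orderOf (y ^ (orderOf y / Nat.card D)) = 2 ^ (n + 2) := by
    intro y hy
    have h0 : orderOf y / Nat.card D ≠ 0 :=
      (Nat.div_pos (Nat.le_of_dvd (orderOf_pos y) hy) Nat.card_pos).ne'
    rw [orderOf_pow_of_dvd h0 (Nat.div_dvd_of_dvd hy), Nat.div_div_self hy (orderOf_pos y).ne', hc]
  refine ⟨?_, ?_, ?_⟩
  · intro y hy hdvd
    rw [← QuatSylow.zpowers_eq S n hD e (pow_mem hy _) (key y hdvd), Subgroup.zpowers_le]
    exact pow_mem (Subgroup.mem_zpowers y) _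
  · intro g y hy hdvd hgy
    have h1 := QuatSylow.zpowers_eq S n hD e (pow_mem hy (orderOf y / Nat.card D)) (key y hdvd)
    have h2 := QuatSylow.zpowers_eq S n hD e
      (pow_mem hgy (orderOf y / Nat.card D)) (by
        rw [conj_pow, ← MulAut.conj_apply, MulEquiv.orderOf_eq]
        exact key y hdvd)
    rw [Subgroup.mem_normalizer_iff]
    have h3 : D.map (MulAut.conj g).toMonoidHom = D := by
      conv_lhs => rw [← h1, MonoidHom.map_zpowers]
      conv_rhs => rw [← h2, conj_pow]
      rfl
    intro d
    constructor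
    · intro hd
      rw [← h3]
      exact ⟨d, hd, rfl⟩
    · intro hd
      rw [← h3] at hd
      obtain ⟨d', hd', he⟩ := hd
      have : d' = d := (MulAut.conj g).injective he
      exact this ▸ hd'
  · intro g y hg hy hdvd
    refine ⟨?_, ?_⟩
    · rw [Subgroup.mem_centralizer_iff] at hy ⊢
      intro d hd
      have hd' : g⁻¹ * d * g ∈ D := by
        apply (Subgroup.mem_normalizer_iff.mp hg (g⁻¹ * d * g)).2
        simpa [mul_assoc] using hd
      have h := hy _ hd'
      calc d * (g * y * g⁻¹) = g * ((g⁻¹ * d * g) * y) * g⁻¹ := by group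
        _ = g * (y * (g⁻¹ * d * g)) * g⁻¹ := by rw [h]
        _ = g * y * g⁻¹ * d := by group
    · rw [← MulAut.conj_apply, MulEquiv.orderOf_eq]
      exact hdvd

end Cfsg.Agent.S0843
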