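import Cfsg.Statements.S0942
import Cfsg.Agent.Lib.Balance.Basic
import Cfsg.Agent.Lib.BrauerMap.SecondMain

set_option autoImplicit false
open Cfsg

namespace Cfsg.Agent.S0942

open MonoidAlgebra Cfsg.Agent.Lib.BrauerMap.Basic Cfsg.Agent.Lib.BrauerMap.SecondMain
open Cfsg.Agent.Lib.Blocks (localRing residue natCast_inv_mem_localRing)
open Cfsg.Agent.Lib.BrauerPairs

attribute [local instance] Ideal.Quotient.field

section

variable {G : Type*} [Group G] {R : Type*} [CommRing R]

open scoped Classical in
theorem coeff_avg (K : Subgroup G) [Fintype K] (c : R) (g : G) :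
    (c • ∑ k : K, single (k : G) (1 : R)).coeff g = if g ∈ K then c else 0 := by
  simp only [coeff_smul, Finsupp.smul_apply, coeff_sum, Finsupp.finsetSum_apply, coeff_single,
    Finsupp.single_apply, smul_eq_mul]
  split_ifs with hg
  · rw [Finset.sum_eq_single (⟨g, hg⟩ : K)]
    · simp
    · intro k _ hk
      rw [if_neg fun e => hk (Subtype.ext e)]
    · simp
  · rw [Finset.sum_eq_zero, mul_zero]
    intro k _
    rw [if_neg]
    exact fun e => hg (e ▸ k.2)

theorem avg_mul_self (K : Subgroup G) [Fintype K] (c : R) (hc : (Fintype.card K : R) * c = 1) :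
    (c • ∑ k : K, single (k : G) (1 : R)) * (c • ∑ k : K, single (k : G) (1 : R)) =
      c • ∑ k : K, single (k : G) (1 : R) := by
  have h : ∀ k : K, single (k : G) (1 : R) * ∑ l : K, single (l : G) (1 : R) =
      ∑ l : K, single (l : G) (1 : R) := fun k => by
    rw [Finset.mul_sum]
    refine Fintype.sum_equiv (Equiv.mulLeft k) _ _ fun l => ?_
    simp
  rw [smul_mul_smul_comm, Finset.sum_mul, Finset.sum_congr rfl fun k _ => h k, Finset.sum_const,
    Finset.card_univ, ← Nat.cast_smul_eq_nsmul R, smul_smul]
  congr 1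
  linear_combination c * hc

end

/-- Let u be a p-element of the finite group G, let v lie in the largest normal subgroup of C_G(u) of order prime to p, and let χ belong to the principal block (relative to a maximal ideal M of the algebraic integers containing p). Then χ (u * v) = χ u. -/
theorem result {G : Type*} [Group G] [Finite G] (p : ℕ) [Fact p.Prime] (M : Ideal Cfsg.AlgInt) (hM : Cfsg.IsPModular p M) (u : G) (hu : ∃ k : ℕ, orderOf u = p ^ k) (v : G) (hv : v ∈ Cfsg.centralizerPPrimeCore p u) (χ : Cfsg.IrrCharacter G) (hχ : χ ∈ Cfsg.principalBlock M G) : (χ : G → ℂ) (u * v) = (χ : G → ℂ) u := by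
  classical
  haveI := Fintype.ofFinite G
  haveI := hM.2.1
  haveI := Bridge.charP_res hM
  set K := Cfsg.centralizerPPrimeCore p u
  haveI := Fintype.ofFinite K
  have hK : ¬ p ∣ Fintype.card K := by
    rw [← Nat.card_eq_fintype_card]
    exact Lib.Balance.not_dvd_card_centralizerPPrimeCore u
  set c : localRing M := ⟨(Fintype.card K : ℂ)⁻¹, natCast_inv_mem_localRing hM hK⟩
  have hc : (Fintype.card K : localRing M) * c = 1 := by
    apply Subtype.ext
    push_cast
    exact mul_inv_cancel₀ (Nat.cast_ne_zero.mpr Fintype.card_ne_zero)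
  set f : MonoidAlgebra (localRing M) G := c • ∑ k : K, single (k : G) (1 : localRing M) with hf
  have hfC : ∀ w, Commute w u → Commute (single w 1) f := by
    intro w hw
    have hn := Lib.Balance.centralizer_le_normalizer_centralizerPPrimeCore (p := p) u
      (Subgroup.mem_centralizer_singleton_iff.mpr hw.eq)
    show _ = _
    ext g
    rw [coeff_single_mul_apply, coeff_mul_single_apply, one_mul, mul_one, coeff_avg, coeff_avg]
    have hiff : w⁻¹ * g ∈ K ↔ g * w⁻¹ ∈ K := by
      have h' := Subgroup.mem_normalizer_iff.mp hn (w⁻¹ * g)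
      rw [mul_inv_cancel_left] at h'
      exact h'
    simp only [hiff]
  have hB := Bridge.isPBlock_principalBlock (M := M) (G := G)
  have hvK : Commute u v :=
    (Subgroup.mem_centralizer_singleton_iff.mp (Lib.Balance.centralizerPPrimeCore_le u hv)).symm
  have hx : Cfsg.IsPPart p (u * v) u := by
    refine ⟨v, rfl, hvK, hu, fun hd => hK (hd.trans ?_)⟩
    have h1 := orderOf_dvd_card (x := (⟨v, hv⟩ : K))
    rwa [Subgroup.orderOf_mk] at h1
  have hval : ∀ ω : Center.Blk (Bridge.Res M) (Subgroup.centralizer (Subgroup.zpowers u : Set G)),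
      Maximal.PairOf p (Bridge.blk hB) (⟨Subgroup.zpowers u, ω⟩ : Pairs.Idx (Bridge.Res M) G) →
        Trunc.val (Subgroup.zpowers u) ω (red M f) = 1 := by
    intro ω hω
    obtain ⟨n, hn⟩ := hu
    have hQ : IsPGroup p (Subgroup.zpowers u) :=
      IsPGroup.of_card (n := n) (by rw [Nat.card_zpowers, hn])
    rw [Bridge.blk_principalBlock, Principal.pairOf_princ_iff hQ] at hω
    subst hω
    have hfix : ∀ w, Commute w u → ∀ h, (red M f).coeff (w * h * w⁻¹) = (red M f).coeff h :=
      fun w hw h => by rw [coeff_red, coeff_red, coeff_conj_of_commute (hfC w hw)]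
    rw [Principal.val_princ hQ
      (fun w hw => hfix w (by
        obtain ⟨m, rfl⟩ := hw
        exact (Commute.refl u).zpow_left m))
      (fun w hw => hfix w (mem_centralizer_zpowers_iff.mp hw))]
    simp only [coeff_red, hf, coeff_avg, apply_ite (residue M), map_zero]
    rw [← Finset.sum_filter, Finset.sum_const, ← Fintype.card_subtype, nsmul_eq_mul,
      ← map_natCast (residue M), ← map_mul]
    convert map_one (residue M)
  have key : ∀ g, Cfsg.IsPPart p g u →
      (χ : G → ℂ) g = ∑ k : G, (f.coeff k : ℂ) * (χ : G → ℂ) (g * k) := fun g hg =>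
    apply_eq_sum_of_val_eq_one hM hB hg f (avg_mul_self K c hc) hfC hval hχ
  rw [key _ hx, key u (Lib.Blocks.isPPart_self (Fact.out : p.Prime) hu)]
  refine Fintype.sum_equiv (Equiv.mulLeft v) _ _ fun k => ?_
  rw [Equiv.coe_mulLeft, mul_assoc]
  congr 2
  rw [hf, coeff_avg, coeff_avg]
  exact if_congr ⟨fun h => K.mul_mem hv h, fun h => (K.mul_mem_cancel_left hv).mp h⟩ rfl rfl

end Cfsg.Agent.S0942
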