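import Cfsg.Statements.S1328
import Cfsg.Agent.Lib.CoreAction.Basic
-- import your own Cfsg.Agent.* helpers here

set_option autoImplicit false
open Cfsg

namespace Cfsg.Agent.S1328

open Cfsg.Agent.Lib

/-- Let G be finite, H ≤ G with O(H) = 1, t an involution of G normalizing H, and Y a nontrivial subgroup of O(C_H(t)). Then some component E of H is normalized by t and by Y and centralized by neither t nor Y. -/
theorem result {G : Type*} [Group G] [Finite G] (H : Subgroup G) (hO : Cfsg.oddCore ↥H = ⊥) (t : G) (ht : orderOf t = 2) (htH : t ∈ Subgroup.normalizer (H : Set G)) (Y : Subgroup G) (hY1 : Y ≠ ⊥) (hY : Y ≤ (Cfsg.oddCore ↥(H ⊓ Subgroup.centralizer ({t} : Set G))).map (H ⊓ Subgroup.centralizer ({t} : Set G)).subtype) : ∃ E : Subgroup ↥H, Cfsg.IsComponent E ∧ (E.map H.subtype).map (MulAut.conj t).toMonoidHom = E.map H.subtype ∧ Y ≤ Subgroup.normalizer ((E.map H.subtype : Subgroup G) : Set G) ∧ ¬ (t ∈ Subgroup.centralizer ((E.map H.subtype : Subgroup G) : Set G)) ∧ ¬ (Y ≤ Subgroup.centralizer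 ((E.map H.subtype : Subgroup G) : Set G)) := by
  have hTH : Balance.coreIn 2 (CoreAction.cent H t) =
      (Cfsg.oddCore ↥(H ⊓ Subgroup.centralizer ({t} : Set G))).map
        (H ⊓ Subgroup.centralizer ({t} : Set G)).subtype := rfl
  have hYO : Y ≤ Balance.coreIn 2 (CoreAction.cent H t) := hTH ▸ hY
  obtain ⟨⟨y, hyY⟩, hy1⟩ := Subgroup.ne_bot_iff_exists_ne_one.1 hY1
  have hy := hYO hyY
  have hyH : y ∈ H := (Balance.coreIn_le _ hy).1
  obtain ⟨E0, hE0, hnc⟩ : ∃ E : Subgroup ↥H, IsComponent E ∧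
      (⟨y, hyH⟩ : ↥H) ∉ Subgroup.centralizer (E : Set ↥H) := by
    by_contra hcon
    push Not at hcon
    have hF : fittingSubgroup ↥H ≤ Subgroup.centralizer ({⟨y, hyH⟩} : Set ↥H) := by
      intro q hq
      have : (q : G) ∈ CoreAction.two H := by
        rw [CoreAction.two_eq_fitting hO]; exact ⟨q, hq, rfl⟩
      exact Subgroup.mem_centralizer_singleton_iff.2 (Subtype.ext
        (Subgroup.mem_centralizer_iff.1 (CoreAction.core_le_centralizer_two ht htH hy) _ this))
    have hE : layer ↥H ≤ Subgroup.centralizer ({⟨y, hyH⟩} : Set ↥H) := sSup_le fun K hK k hk =>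
      Subgroup.mem_centralizer_singleton_iff.2 (Subgroup.mem_centralizer_iff.1 (hcon K hK) k hk)
    have hc : (⟨y, hyH⟩ : ↥H) ∈
        Subgroup.centralizer (generalizedFittingSubgroup ↥H : Set ↥H) :=
      Subgroup.mem_centralizer_iff.2 fun x hx =>
        Subgroup.mem_centralizer_singleton_iff.1 (sup_le hE hF hx)
    have h2 : y ∈ CoreAction.two H := by
      rw [CoreAction.two_eq_fitting hO]
      exact ⟨_, FStarTools.center_genFitting_le hc, rfl⟩
    exact hy1 (Subtype.ext (CoreAction.eq_one_of_sq_mem_two (CoreAction.odd_of_mem_coreIn hy)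
      (Subgroup.mul_mem _ h2 h2)))
  have hE : CoreAction.Cp H (E0.map H.subtype) := by
    refine ⟨Subgroup.map_subtype_le _, ?_⟩
    rw [Subgroup.subgroupOf, Subgroup.comap_map_eq_self_of_injective H.subtype_injective]
    exact hE0
  have hyc : ¬ y ∈ Subgroup.centralizer ((E0.map H.subtype : Subgroup G) : Set G) := fun h =>
    hnc (Subgroup.mem_centralizer_iff.2 fun e he => Subtype.ext
      (Subgroup.mem_centralizer_iff.1 h e ⟨e, he, rfl⟩))
  have hfix : (E0.map H.subtype).map (MulAut.conj t).toMonoidHom = E0.map H.subtype := by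
    by_contra hne
    exact hyc (CoreAction.mem_centralizer_of_moved hO ht htH hE hne hy)
  refine ⟨E0, hE0, hfix, fun u hu =>
      CoreAction.mem_normalizer_of_fixed hO ht htH hE hfix (hYO hu), fun htc => ?_,
    fun h => hyc (h hyY)⟩
  exact hyc (CoreAction.mem_centralizer_of_centralized hO ht htH hE htc hy)

end Cfsg.Agent.S1328
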