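import Cfsg.Statements.S3909
import Mathlib.GroupTheory.Sylow
-- import your own Cfsg.Agent.* helpers here

set_option autoImplicit false
open Cfsg

namespace Cfsg.Agent.S3909

theorem le_sylow_of_normal {G : Type*} [Group G] [Finite G] {p : ℕ} [Fact p.Prime] {M : Subgroup G}
    [M.Normal] (hM : IsPGroup p M) (P : Sylow p G) : M ≤ (P : Subgroup G) := by
  obtain ⟨Q, hQ⟩ := hM.exists_le_sylow
  obtain ⟨g, rfl⟩ := MulAction.exists_smul_eq G Q P
  intro m hm
  change m ∈ (Q : Subgroup G).map (MulAut.conj g).toMonoidHom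
  refine ⟨g⁻¹ * m * g, hQ ?_, by simp [mul_assoc]⟩
  simpa using Subgroup.Normal.conj_mem ‹M.Normal› m hm g⁻¹

/-- Let G be a finite group in which any two abelian subgroups of the same order are conjugate. Let M be a normal subgroup of G. If M contains an element of the same order as a ∈ G, then a ∈ M; and if M is elementary abelian of order p^t with p prime and t ≥ 2, then M is the unique Sylow p-subgroup of G. -/
theorem result {G : Type*} [Group G] [Finite G] (hB : ∀ A B : Subgroup G, IsMulCommutative ↥A → IsMulCommutative ↥B → Nat.card ↥A = Nat.card ↥B → ∃ g : G, B = A.map (MulAut.conj g).toMonoidHom) (M : Subgroup G) [M.Normal] :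
    (∀ a : G, (∃ m ∈ M, orderOf m = orderOf a) → a ∈ M) ∧
    ∀ (p t : ℕ) [Fact p.Prime], 2 ≤ t → Nat.card ↥M = p ^ t → Cfsg.IsElementaryAbelian p M → ∀ P : Sylow p G, (P : Subgroup G) = M := by
  constructor
  · intro a ⟨m, hm, hma⟩
    obtain ⟨g, hg⟩ := hB (Subgroup.zpowers m) (Subgroup.zpowers a) inferInstance inferInstance
      (by rw [Nat.card_zpowers, Nat.card_zpowers, hma])
    have ha := hg ▸ Subgroup.mem_zpowers a
    obtain ⟨y, hy, rfl⟩ := ha
    exact Subgroup.Normal.conj_mem ‹M.Normal› y (Subgroup.zpowers_le.mpr hm hy) g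
  intro p t _ ht hcard hM P
  have hp : p.Prime := Fact.out
  have hMP : M ≤ (P : Subgroup G) :=
    Cfsg.Agent.S3909.le_sylow_of_normal (IsPGroup.of_card hcard) P
  refine le_antisymm (fun x hx => ?_) hMP
  by_contra hxM
  -- pass to an element outside `M` whose `p`-th power lies in `M`
  obtain ⟨k, hk⟩ := P.2 ⟨x, hx⟩
  have hk' : x ^ p ^ k ∈ M := by
    have : x ^ p ^ k = 1 := congrArg Subtype.val hk
    rw [this]; exact M.one_mem
  clear hk
  induction k generalizing x with
  | zero => exact hxM (by simpa using hk')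
  | succ k ih =>
    by_cases hxp : x ^ p ∈ M
    · have hne : x ^ p ≠ 1 := by
        intro h
        apply hxM
        obtain ⟨m, hm, hm1⟩ : ∃ m ∈ M, m ≠ 1 := by
          have h2 : M ≠ ⊥ := fun h => by
            rw [h, Subgroup.card_bot] at hcard
            exact (Nat.one_lt_pow (by omega) hp.one_lt).ne hcard
          obtain ⟨a, ha⟩ := Subgroup.ne_bot_iff_exists_ne_one.mp h2
          exact ⟨a, a.2, fun h => ha (Subtype.ext h)⟩
        obtain ⟨g, hg⟩ := hB (Subgroup.zpowers m) (Subgroup.zpowers x) inferInstance inferInstance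
          (by rw [Nat.card_zpowers, Nat.card_zpowers, orderOf_eq_prime (hM.2 m hm) hm1,
            orderOf_eq_prime h (fun h => hxM (h ▸ M.one_mem))])
        obtain ⟨y, hy, rfl⟩ := hg ▸ Subgroup.mem_zpowers x
        exact Subgroup.Normal.conj_mem ‹M.Normal› y (Subgroup.zpowers_le.mpr hm hy) g
      have hox : orderOf x = p ^ (1 + 1) := orderOf_eq_prime_pow (by simpa using hne)
        (by rw [pow_succ, pow_one, pow_mul]; exact hM.2 _ hxp)
      obtain ⟨A, hA, -⟩ := Sylow.exists_subgroup_card_pow_prime_le p (G := ↥M) (n := 0) (m := 2)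
        (hcard ▸ pow_dvd_pow p ht) ⊥ (by simp) (by omega)
      have := hM.1
      obtain ⟨g, hg⟩ := hB (A.map M.subtype) (Subgroup.zpowers x) inferInstance inferInstance
        (by rw [Subgroup.card_subtype, hA, Nat.card_zpowers, hox])
      obtain ⟨y, ⟨z, hz, rfl⟩, hy⟩ := hg ▸ Subgroup.mem_zpowers x
      apply hxM
      rw [← hy]
      exact Subgroup.Normal.conj_mem ‹M.Normal› _ z.2 g
    · exact ih _ (pow_mem hx p) hxp (by rwa [← pow_mul, ← pow_succ'])

end Cfsg.Agent.S3909
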