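import Cfsg.Statements.S1420
import Cfsg.Agent.Lib.OddTau.TauTwoAbelian

set_option autoImplicit false
open Cfsg

namespace Cfsg.Agent.S1420

/-- Let G be a minimal simple group of odd order, M a maximal subgroup and E a complement to M_σ in M. Then every nilpotent subgroup of M whose order involves no prime of σ(M) is abelian; E' is abelian; for p ∈ σ(M) and every noncyclic p-subgroup P of M, N_G(P) ≤ M; and if x ≠ 1 in M has every prime divisor of its order in τ₂(M) and centralizes a non-identity element of M_σ, then C_G(x) ≤ M and M is the unique maximal subgroup containing C_G(x). -/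
theorem result {G : Type*} [Group G] [Finite G] (hG : Cfsg.IsMinSimpleOddOrder G)
    (M : Subgroup G) (hM : IsCoatom M) (E : Subgroup G) (hE : Cfsg.IsComplIn E (Cfsg.sigmaCore M) M) :
    (∀ N : Subgroup G, N ≤ M → Group.IsNilpotent N → (∀ p : ℕ, p.Prime → p ∣ Nat.card N → p ∉ Cfsg.sigma M) → IsMulCommutative N) ∧
      IsMulCommutative ↥⁅E, E⁆ ∧
      (∀ (p : ℕ) (P : Subgroup G), p ∈ Cfsg.sigma M → IsPGroup p P → P ≤ M → ¬ IsCyclic P → Subgroup.normalizer (P : Set G) ≤ M) ∧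
      ∀ x ∈ M, x ≠ 1 → (∀ p : ℕ, p.Prime → p ∣ orderOf x → p ∈ Cfsg.tau2 M) → x ∈ Cfsg.sigmaHat M →
        Subgroup.centralizer ({x} : Set G) ≤ M ∧ ∀ L : Subgroup G, IsCoatom L → Subgroup.centralizer ({x} : Set G) ≤ L → L = M := by
  refine ⟨fun N hNM hN hpr => Lib.OddTau.TauTwoAbelian.isMulCommutative_of_sigma' hG hM hNM hN hpr,
    ?_, fun p P hp hP hPM hnc => haveI := Fact.mk hp.1
      Lib.OddOrder.SigmaEmbedding.normalizer_le_of_not_isCyclic hG hM hp hP hPM hnc,
    fun x hxM hx1 hτ hhat => ?_⟩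
  · have hle : ⁅E, E⁆ ≤ E := Subgroup.map_subtype_commutator E ▸ Subgroup.map_subtype_le _
    exact Lib.OddTau.TauTwoAbelian.isMulCommutative_of_sigma' hG hM (hle.trans hE.1)
      (Lib.OddOrder.SigmaCompl.isNilpotent_derived hG hM hE)
      fun q hq hd => Lib.OddTau.TauTwoAbelian.not_sigma_of_dvd hG hM hE hq
        (hd.trans (Subgroup.card_dvd_of_le hle))
  obtain ⟨r, _, A, h, hAx⟩ :=
    Lib.OddTau.TauTwoAbelian.exists_ctx_centralizing hG hM hE hxM hx1 hτ
  obtain ⟨-, y, hy, hy1, hxy⟩ := hhat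
  have key : ∀ L : Subgroup G, IsCoatom L → Subgroup.centralizer ({x} : Set G) ≤ L → L = M :=
    fun L hL hCL => Lib.OddTau.Unique.eq_of_meet h hL (hAx.trans hCL) fun e => hy1 (by
      have hm : y ∈ Cfsg.sigmaCore M ⊓ L :=
        ⟨hy, hCL (Subgroup.mem_centralizer_singleton_iff.2 hxy.symm)⟩
      rwa [e, Subgroup.mem_bot] at hm)
  obtain ⟨L, hL, hCL⟩ := Lib.OddOrder.MinSimple.exists_coatom_ge hG
    (Lib.OddOrder.MinSimple.centralizer_singleton_ne_top hG hx1)
  exact ⟨key L hL hCL ▸ hCL, key⟩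

end Cfsg.Agent.S1420
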