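import Cfsg.Statements.S1444
import Cfsg.Agent.Lib.OddLocal.PLengthOne

set_option autoImplicit false
open Cfsg

namespace Cfsg.Agent.S1444

/-- Let G be a solvable group of odd order, H a normal subgroup of order coprime to its index, R a complement to H in G, and R₀ ≤ R a subgroup of prime order such that every Sylow subgroup of H ∩ C_G(R₀) is cyclic. Then for every prime p the commutator subgroup [H, R] satisfies [H,R] = O_{p',p,p'}([H,R]). -/
theorem result {G : Type*} [Group G] [Finite G] [Group.IsSolvable G] (hodd : Odd (Nat.card G)) (H R R₀ : Subgroup G) [H.Normal] (hHall : (Nat.card H).Coprime H.index)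
    (hR : Subgroup.IsComplement' H R) (hR₀ : R₀ ≤ R) (hR₀p : (Nat.card R₀).Prime) (hZ : IsZGroup ↥(H ⊓ Subgroup.centralizer (R₀ : Set G)))
    (p : ℕ) [Fact p.Prime] :
    Cfsg.PLengthLE p 1 ↥⁅H, R⁆ := by
  classical
  obtain ⟨x, hx0, hxr, hx1, hXeq⟩ := Cfsg.Agent.Lib.Shult.exists_gen hR₀p rfl
  haveI : Fact (Nat.card R₀).Prime := ⟨hR₀p⟩
  have hcard : Nat.card R = H.index := (hR.symm.index_eq_card).symm
  have hcop : (Nat.card H).Coprime (Nat.card R) := hcard ▸ hHall
  have hRH : R ≤ Subgroup.normalizer (H : Set G) := Subgroup.le_normalizer_of_normal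
  haveI : (⁅H, R⁆ : Subgroup G).Normal := by
    rw [← Subgroup.normalizer_eq_top_iff, ← top_le_iff, ← hR.sup_eq_top]
    exact sup_le (Cfsg.Agent.Lib.Coprime.left_le_normalizer_commutator H R)
      (Cfsg.Agent.Lib.Coprime.right_le_normalizer_commutator H R)
  have hle : ⁅H, R⁆ ≤ H := Cfsg.Agent.Lib.Coprime.commutator_le_of_le_normalizer hRH
  have hZ' : IsZGroup ↥(⁅H, R⁆ ⊓ Subgroup.centralizer (Subgroup.zpowers x : Set G)) := by
    rw [← hXeq]
    haveI := hZ
    exact IsZGroup.of_injective (Subgroup.inclusion_injective (inf_le_inf_right _ hle))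
  exact Cfsg.Agent.Lib.OddLocal.PLengthMain.pLength_le_one hodd ⁅H, R⁆ R
    (Cfsg.Agent.Lib.Coprime.commutator_commutator_eq hRH hcop.symm (Or.inr inferInstance))
    (hR₀ hx0) (r := Nat.card R₀) (orderOf_eq_prime hxr hx1)
    ((hcop.coprime_dvd_left (Subgroup.card_dvd_of_le hle)).coprime_dvd_right
      (Subgroup.card_dvd_of_le hR₀))
    hZ' p

end Cfsg.Agent.S1444
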