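import Cfsg.Statements.S1492
import Cfsg.Agent.Lib.Isometry.Clifford
import Cfsg.Agent.Lib.Clifford.Rep
import Cfsg.Agent.Lib.Brauer.DegreeRatio
import Cfsg.Agent.Lib.Characters.Kernel
-- import your own Cfsg.Agent.* helpers here

set_option autoImplicit false
open Cfsg

namespace Cfsg.Agent.S1492

open scoped ComplexConjugate
open Cfsg.Agent.Lib.Clifford.Basic (conjC inertia)


/-- Let ψ be an irreducible character of the finite group G and B ≤ D ≤ C subgroups with B normal in C, every commutator of an element of D with an element of C lying in B (so D/B is central in C/B), and ψ constant equal to ψ 1 on B. Then ψ(1) ^ 2 * |C| * |D| ≤ |G| ^ 2. -/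
theorem result {G : Type*} [Group G] [Finite G] (ψ : G → ℂ) (hψ : Cfsg.IsIrrCharacter G ψ) (B C D : Subgroup G) (hBD : B ≤ D) (hDC : D ≤ C) (hBn : ∀ c ∈ C, ∀ b ∈ B, c * b * c⁻¹ ∈ B) (hcent : ∀ d ∈ D, ∀ c ∈ C, d * c * d⁻¹ * c⁻¹ ∈ B) (hker : ∀ b ∈ B, ψ b = ψ 1) : ‖ψ 1‖ ^ 2 * (Nat.card C : ℝ) * (Nat.card D : ℝ) ≤ (Nat.card G : ℝ) ^ 2 := by
  classical
  haveI := Fintype.ofFinite G
  have hψc := Cfsg.Agent.Lib.Characters.Basic.IsCharacter_of_isIrrCharacter hψ
  have hres : Cfsg.IsCharacter C (fun c : C => ψ c) :=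
    Cfsg.Agent.Lib.Characters.Basic.isCharacter_comp C.subtype hψc
  obtain ⟨n, hn0, hn'⟩ := Cfsg.Agent.Lib.Characters.Basic.exists_degree_pos ⟨ψ, hψ⟩
  have hn : ψ 1 = (n : ℂ) := hn'
  obtain ⟨a, ha⟩ := Cfsg.Agent.Lib.Clifford.Basic.exists_constituent hres (fun h => by
    have := congrFun h 1
    simp [hn, hn0.ne'] at this)
  -- the degree of `ψ` is at most the index times that of its constituent
  obtain ⟨d, hd0, hd⟩ := Cfsg.Agent.Lib.Characters.Basic.exists_degree_pos a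
  have hind : Cfsg.IsCharacter G (Cfsg.indFun C (a : C → ℂ)) :=
    Cfsg.Agent.Lib.Induced.Character.isCharacter_indFun C (Cfsg.Agent.Lib.Characters.Basic.isCharacter_irr a)
  have hne : Cfsg.classInner (Cfsg.indFun C (a : C → ℂ)) ψ ≠ 0 := by
    rw [Cfsg.Agent.Lib.Induced.Basic.frobenius_reciprocity C (a : C → ℂ)
      (Cfsg.Agent.Lib.Characters.Basic.isClassFunction_irr ⟨ψ, hψ⟩)]
    exact Cfsg.Agent.Lib.Clifford.Basic.classInner_ne_zero_symm ha
  obtain ⟨m, r, hr, hm, -, hdec⟩ := Cfsg.Agent.Lib.Clifford.Basic.exists_eq_nsmul_add hind ⟨ψ, hψ⟩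
  have hm0 : m ≠ 0 := fun h => hne (by rw [h, Nat.cast_zero] at hm; exact hm)
  obtain ⟨t, ht⟩ := Cfsg.Agent.Lib.Characters.Basic.exists_degree hr
  have hdeg : n ≤ C.index * d := by
    have h := congrFun hdec 1
    rw [Cfsg.Agent.Lib.Induced.Basic.indFun_one, hd] at h
    simp only [Pi.add_apply, nsmul_eq_mul, Pi.mul_apply, Pi.natCast_apply, hn, ht] at h
    have h' : C.index * d = m * n + t := by exact_mod_cast h
    have : 1 * n ≤ m * n := Nat.mul_le_mul_right n (Nat.pos_of_ne_zero hm0)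
    omega
  -- on `D` the constituent acts by scalars
  have hker' : ∀ b : C, (b : G) ∈ B → (a : C → ℂ) b = (a : C → ℂ) 1 := by
    intro b hb
    obtain ⟨k, r', hr', hk, -, hdec'⟩ := Cfsg.Agent.Lib.Clifford.Basic.exists_eq_nsmul_add hres a
    have hk0 : k ≠ 0 := fun h => ha (by rw [h, Nat.cast_zero] at hk; exact hk)
    obtain ⟨t', ht'⟩ := Cfsg.Agent.Lib.Characters.Basic.exists_degree hr'
    have h1 : ψ (b : G) = (k • (a : C → ℂ) + r') b := congrFun hdec' b
    have h2 : ψ 1 = (k • (a : C → ℂ) + r') 1 := congrFun hdec' 1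
    rw [hker _ hb, h2] at h1
    simp only [Pi.add_apply, Pi.smul_apply, nsmul_eq_mul, Pi.mul_apply, Pi.natCast_apply, hd, ht'] at h1
    have e := congrArg Complex.re h1
    simp only [Complex.add_re, Complex.mul_re, Complex.natCast_re, Complex.natCast_im, zero_mul, sub_zero] at e
    have hac := Cfsg.Agent.Lib.Characters.Basic.isCharacter_irr a
    have na := Cfsg.Agent.Lib.Characters.Basic.norm_apply_le hac b
    have nr := (Complex.re_le_norm (r' b)).trans (Cfsg.Agent.Lib.Characters.Basic.norm_apply_le hr' b)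
    rw [hd, Complex.norm_natCast] at na
    rw [ht', Complex.norm_natCast] at nr
    have hkpos : (1 : ℝ) ≤ k := by exact_mod_cast Nat.one_le_iff_ne_zero.2 hk0
    have hre : ((a : C → ℂ) b).re = d := le_antisymm ((Complex.re_le_norm _).trans na) (by nlinarith)
    rw [hd]
    refine Complex.ext (by rw [Complex.natCast_re]; exact hre) ?_
    rw [Complex.natCast_im]
    have h3 : Complex.normSq ((a : C → ℂ) b) ≤ (d : ℝ) ^ 2 := by
      rw [Complex.normSq_eq_norm_sq]; exact pow_le_pow_left₀ (norm_nonneg _) na 2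
    rw [Complex.normSq_apply, hre] at h3
    nlinarith [mul_self_nonneg ((a : C → ℂ) b).im]
  obtain ⟨k, ρ, hρ, hρc⟩ := Cfsg.Agent.Lib.Characters.Basic.exists_rep a
  have hscal : ∀ y : C, (y : G) ∈ D → ‖(a : C → ℂ) y‖ = d := by
    intro y hy
    obtain ⟨c, hc⟩ := Cfsg.Agent.Lib.Clifford.Rep.schur ρ (ρ y) fun g => by
      have hz : ρ (y * g * y⁻¹ * g⁻¹) = 1 := by
        rw [Cfsg.Agent.Lib.Characters.Kernel.rep_eq_one_iff, hρc]
        exact hker' _ (hcent (y : G) hy (g : G) g.2)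
      calc ρ y * ρ g = ρ ((y * g * y⁻¹ * g⁻¹) * (g * y)) := by rw [← map_mul]; congr 1; group
        _ = ρ g * ρ y := by rw [map_mul, hz, one_mul, map_mul]
    have hfin : (d : ℝ) = (Module.finrank ℂ (Fin k → ℂ) : ℝ) := by
      have := hρc ▸ Representation.char_one ρ
      rw [hd] at this
      exact_mod_cast this
    rw [hfin, ← hρc, Cfsg.Agent.Lib.Characters.Diag.norm_char_eq_finrank_iff]
    exact ⟨c, by rw [hc, Module.End.one_eq_id]⟩
  have hsum : ∑ y : C, ‖(a : C → ℂ) y‖ ^ 2 = (Nat.card C : ℝ) := by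
    have h := Cfsg.Agent.Lib.Characters.Basic.classInner_self_irr a
    rw [Cfsg.classInner, inv_mul_eq_one₀ (Cfsg.Agent.Lib.Induced.Basic.subgroup_card_ne_zero C)] at h
    have h2 := congrArg Complex.re h
    rw [Complex.natCast_re, Complex.re_sum] at h2
    rw [h2]
    exact Finset.sum_congr rfl fun y _ => by
      rw [Complex.mul_conj, Complex.ofReal_re, Complex.normSq_eq_norm_sq]
  have hD : (Nat.card D : ℝ) * (d : ℝ) ^ 2 ≤ (Nat.card C : ℝ) := by
    rw [← hsum]
    refine le_trans (le_of_eq ?_) (Finset.sum_le_sum_of_subset_of_nonneg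
      (Finset.subset_univ (Finset.univ.filter fun y : C => (y : G) ∈ D)) fun _ _ _ => sq_nonneg _)
    rw [Finset.sum_congr rfl (g := fun _ => (d : ℝ) ^ 2) fun y hy => by
      rw [hscal y (Finset.mem_filter.1 hy).2], Finset.sum_const, nsmul_eq_mul]
    congr 1
    rw [← Fintype.card_subtype, Nat.card_eq_fintype_card]
    congr 1
    exact Fintype.card_congr ⟨fun z => ⟨⟨(z : G), hDC z.2⟩, z.2⟩, fun z => ⟨(z.1 : G), z.2⟩,
      fun _ => rfl, fun _ => rfl⟩
  rw [hn, Complex.norm_natCast]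
  have hG : (Nat.card C : ℝ) * C.index = Nat.card G := by exact_mod_cast C.card_mul_index
  have hdeg' : (n : ℝ) ≤ (C.index : ℝ) * d := by exact_mod_cast hdeg
  calc (n : ℝ) ^ 2 * Nat.card C * Nat.card D
      ≤ ((C.index : ℝ) * d) ^ 2 * Nat.card C * Nat.card D := by gcongr
    _ = (C.index : ℝ) ^ 2 * Nat.card C * (Nat.card D * (d : ℝ) ^ 2) := by ring
    _ ≤ (C.index : ℝ) ^ 2 * Nat.card C * Nat.card C := by gcongr
    _ = _ := by rw [← hG]; ring

end Cfsg.Agent.S1492
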