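import Cfsg.Statements.S1496
import Mathlib
-- import your own Cfsg.Agent.* helpers here

set_option autoImplicit false
open Cfsg

namespace Cfsg.Agent.S1496

/-- Let H be a subgroup of the finite group G and g an element normalising H whose order is coprime to the order of H. Then for every h ∈ H there are x ∈ H and c ∈ H commuting with g such that x * (h * g) * x⁻¹ = c * g. -/
theorem result {G : Type*} [Group G] [Finite G] (H : Subgroup G) (g : G) (hg : g ∈ Subgroup.normalizer (H : Set G)) (hcop : Nat.Coprime (orderOf g) (Nat.card H)) (h : G) (hh : h ∈ H) : ∃ x ∈ H, ∃ c ∈ H, c * g = g * c ∧ x * (h * g) * x⁻¹ = c * g := by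
  classical
  set C : Subgroup H := (Subgroup.centralizer ({g} : Set G)).subgroupOf H with hC
  have hgN : ∀ x ∈ H, g * x * g⁻¹ ∈ H := fun x hx => ((Subgroup.mem_normalizer_iff.1 hg) x).1 hx
  let f : (H ⧸ C) × C → H := fun p =>
    ⟨((p.1.out : H) : G) * ((p.2 : H) : G) * (g * ((p.1.out : H) : G)⁻¹ * g⁻¹),
      H.mul_mem (H.mul_mem (p.1.out).2 (p.2 : H).2) (hgN _ (H.inv_mem (p.1.out).2))⟩
  have hcom : ∀ c : C, Commute ((c : H) : G) g := fun c =>
    Subgroup.mem_centralizer_singleton_iff.1 (Subgroup.mem_subgroupOf.1 c.2)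
  obtain ⟨k, hk1, hk0⟩ := Nat.chineseRemainder hcop 1 0
  have hpow : ∀ c : C, (((c : H) : G) * g) ^ k = g := by
    intro c
    rw [(hcom c).mul_pow]
    have e1 : g ^ k = g := by
      conv_rhs => rw [← pow_one g]
      exact pow_eq_pow_iff_modEq.2 hk1
    have e2 : ((c : H) : G) ^ k = 1 := orderOf_dvd_iff_pow_eq_one.1
      (dvd_trans (Subgroup.orderOf_dvd_natCard _ (c : H).2) (Nat.modEq_zero_iff_dvd.1 hk0))
    rw [e1, e2, one_mul]
  have hinj : Function.Injective f := by
    intro p q hpq
    have e : ((p.1.out : H) : G) * (((p.2 : H) : G) * g) * ((p.1.out : H) : G)⁻¹ =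
        ((q.1.out : H) : G) * (((q.2 : H) : G) * g) * ((q.1.out : H) : G)⁻¹ := by
      have := congrArg (fun y : H => (y : G) * g) hpq
      simp only [f] at this
      convert this using 1 <;> group
    have e2 := congrArg (· ^ k) e
    simp only [conj_pow, hpow] at e2
    have hd : (q.1.out : H)⁻¹ * p.1.out ∈ C := by
      refine Subgroup.mem_subgroupOf.2 (Subgroup.mem_centralizer_singleton_iff.2 ?_)
      push_cast
      calc ((q.1.out : H) : G)⁻¹ * ((p.1.out : H) : G) * g
          = ((q.1.out : H) : G)⁻¹ * (((p.1.out : H) : G) * g * ((p.1.out : H) : G)⁻¹) *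
              ((p.1.out : H) : G) := by group
        _ = _ := by rw [e2]; group
    have h1 : q.1 = p.1 := by
      rw [← QuotientGroup.out_eq' p.1, ← QuotientGroup.out_eq' q.1]
      exact QuotientGroup.eq.2 hd
    rw [h1] at e
    exact Prod.ext h1.symm (Subtype.ext (Subtype.ext
      (mul_right_cancel (mul_left_cancel (mul_right_cancel e)))))
  have hcard : Nat.card ((H ⧸ C) × C) = Nat.card H := by
    rw [Nat.card_prod, ← C.card_eq_card_quotient_mul_card_subgroup]
  have hbij : Function.Bijective f := (Nat.bijective_iff_injective_and_card f).2 ⟨hinj, hcard⟩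
  obtain ⟨p, hp⟩ := hbij.2 ⟨h, hh⟩
  have e : h = _ := (congrArg Subtype.val hp).symm
  simp only [f] at e
  refine ⟨((p.1.out : H) : G)⁻¹, H.inv_mem (p.1.out).2, ((p.2 : H) : G), (p.2 : H).2, (hcom p.2).eq, ?_⟩
  rw [e]; group

end Cfsg.Agent.S1496
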