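import Cfsg.Statements.S1512
import Mathlib
import Cfsg.Agent.S1496
-- import your own Cfsg.Agent.* helpers here

set_option autoImplicit false
open Cfsg

namespace Cfsg.Agent.S1512

/-- Let K be a normal subgroup of the finite group L and x a non-identity element whose order is coprime to the order of K, such that K ⊓ C_L(y) = W₂ for every non-identity element y of the cyclic group generated by x. Then the number of conjugacy classes of K mapped to themselves by conjugation by x is at most Nat.card W₂. -/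
theorem result {L : Type*} [Group L] [Finite L] (K W₂ : Subgroup L) [hK : K.Normal] (x : L) (hx1 : x ≠ 1) (hx : Nat.Coprime (orderOf x) (Nat.card K)) (hC : ∀ y ∈ Subgroup.zpowers x, y ≠ 1 → K ⊓ Subgroup.centralizer ({y} : Set L) = W₂) : Nat.card {C : ConjClasses K // ConjClasses.map (MulEquiv.toMonoidHom ((MulAut.conjNormal x : MulAut K))) C = C} ≤ Nat.card W₂ := by
  have hxN : x ∈ Subgroup.normalizer (K : Set L) := by
    rw [Subgroup.normalizer_eq_top]; trivial
  have hW : K ⊓ Subgroup.centralizer ({x} : Set L) = W₂ :=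
    hC x (Subgroup.mem_zpowers x) hx1
  have hW2K : W₂ ≤ K := hW ▸ inf_le_left
  let F := fun w : W₂ => ConjClasses.mk (⟨(w : L), hW2K w.2⟩ : K)
  have hF : ∀ w, ConjClasses.map (MulEquiv.toMonoidHom ((MulAut.conjNormal x : MulAut K))) (F w) = F w := by
    intro w
    show ConjClasses.mk _ = ConjClasses.mk _
    congr 1
    apply Subtype.ext
    have hw : (w : L) ∈ Subgroup.centralizer ({x} : Set L) := (hW.ge w.2).2
    rw [Subgroup.mem_centralizer_singleton_iff] at hw
    show x * (w : L) * x⁻¹ = w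
    rw [← hw, mul_inv_cancel_right]
  refine Nat.card_le_card_of_surjective (fun w => ⟨F w, hF w⟩) ?_
  rintro ⟨C, hCfix⟩
  obtain ⟨k, rfl⟩ := ConjClasses.exists_rep C
  have hc : IsConj ((MulAut.conjNormal x : MulAut K) k) k := ConjClasses.mk_eq_mk_iff_isConj.1 hCfix
  obtain ⟨l, hl⟩ := isConj_iff.1 hc
  have hl' : (l : L) * (x * (k : L) * x⁻¹) * (l : L)⁻¹ = k := by
    simpa using congrArg Subtype.val hl
  obtain ⟨y, hy, c, hcK, hcx, he⟩ := Cfsg.Agent.S1496.result K x hxN hx (l : L) l.2
  obtain ⟨t, ht1, ht0⟩ := Nat.chineseRemainder hx 1 0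
  have hpow : (c * x) ^ t = x := by
    rw [(show Commute c x from hcx).mul_pow]
    have e1 : x ^ t = x := by
      conv_rhs => rw [← pow_one x]
      exact pow_eq_pow_iff_modEq.2 ht1
    have e2 : c ^ t = 1 := orderOf_dvd_iff_pow_eq_one.1
      (dvd_trans (Subgroup.orderOf_dvd_natCard _ hcK) (Nat.modEq_zero_iff_dvd.1 ht0))
    rw [e1, e2, one_mul]
  have hcomm : Commute ((l : L) * x) (k : L) := by
    show (l : L) * x * k = k * ((l : L) * x)
    calc (l : L) * x * k = (l : L) * (x * k * x⁻¹) * (l : L)⁻¹ * ((l : L) * x) := by group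
      _ = _ := by rw [hl']
  have hcomm' : Commute x (y * (k : L) * y⁻¹) := by
    rw [← hpow]
    apply Commute.pow_left
    rw [← he]
    exact hcomm.map (MulAut.conj y).toMonoidHom
  have hmem : y * (k : L) * y⁻¹ ∈ W₂ := by
    rw [← hW]
    exact ⟨K.mul_mem (K.mul_mem hy k.2) (K.inv_mem hy),
      Subgroup.mem_centralizer_singleton_iff.2 hcomm'.symm⟩
  refine ⟨⟨_, hmem⟩, Subtype.ext (ConjClasses.mk_eq_mk_iff_isConj.2 (isConj_iff.2 ?_))⟩
  refine ⟨⟨y, hy⟩⁻¹, Subtype.ext ?_⟩
  show y⁻¹ * (y * (k : L) * y⁻¹) * y⁻¹⁻¹ = k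
  group

end Cfsg.Agent.S1512
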