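import Cfsg.Statements.S1513
import Cfsg.Agent.Lib.CyclicTI.Invariant

set_option autoImplicit false
open Cfsg

namespace Cfsg.Agent.S1513

/-- Let L be a finite group with K normal with complement W₁ ≠ 1 a cyclic Hall subgroup, and W₂ ≠ 1 a cyclic subgroup of K equal to C_K(x) for every non-identity x ∈ W₁, with W₁W₂ of odd order. For an irreducible character θ of K: if θ is not fixed under conjugation by some element of W₁, then the function induced from θ to L is an irreducible character of L; and the irreducible characters of K fixed by all of W₁ are exactly Nat.card W₂ in number, each inducing to the sum of Nat.card W₁ pairwise distinct irreducible characters of L. -/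
theorem result {L : Type*} [Group L] [Fintype L] (K W₁ W₂ : Subgroup L) [hK : K.Normal] (hKW₁ : K ⊓ W₁ = ⊥) (hKW₁' : K ⊔ W₁ = ⊤) (hW₁ : W₁ ≠ ⊥) (hW₁c : IsCyclic W₁) (hHall : Nat.Coprime (Nat.card W₁) W₁.index) (hW₂ : W₂ ≠ ⊥) (hW₂c : IsCyclic W₂) (hW₂K : W₂ ≤ K) (hC : ∀ x ∈ W₁, x ≠ 1 → K ⊓ Subgroup.centralizer ({x} : Set L) = W₂) (hodd : Odd (Nat.card ↥(W₁ ⊔ W₂))) : (∀ θ : K → ℂ, Cfsg.IsIrrCharacter K θ → (∃ x ∈ W₁, (fun k : K => θ ⟨x * k * x⁻¹, hK.conj_mem (k : L) k.2 x⟩) ≠ θ) → Cfsg.IsIrrCharacter L (Cfsg.indFun K θ)) ∧ Nat.card {θ : Cfsg.IrrCharacter K // ∀ x ∈ W₁, (fun k : K => (θ : K → ℂ) ⟨x * k * x⁻¹, hK.conj_mem (k : L) k.2 x⟩) = θ} = Nat.card W₂ ∧ (∀ θ : K → ℂ, Cfsg.IsIrrCharacter K θ → (∀ x ∈ W₁, (fun k : K => θ ⟨x * k * x⁻¹, hK.conj_mem (k : L) k.2 x⟩) = θ) → ∃ C : Finset (L → ℂ), C.card = Nat.card W₁ ∧ (∀ μ ∈ C, Cfsg.IsIrrCharacter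 L μ) ∧ Cfsg.indFun K θ = ∑ μ ∈ C, μ) := by
  classical
  have h : Cfsg.Agent.Lib.CyclicTI.IsPLike K W₁ W₂ :=
    ⟨hKW₁, hKW₁', hW₁, hW₁c, hHall, hW₂, hW₂c, hW₂K, hC, hodd⟩
  obtain ⟨Q, hQf, f, hQ, hinj, hirr, hfix, hsum, hall⟩ := h.exists_invariant
  obtain ⟨⟨x₀, hx₀m⟩, hx₀n⟩ := Subgroup.ne_bot_iff_exists_ne_one.1 hW₁
  have hx₀ : x₀ ∈ W₁ ∧ x₀ ≠ 1 := ⟨hx₀m, fun e => hx₀n (Subtype.ext e)⟩
  refine ⟨fun θ hθ hmv => ?_, ?_, fun θ hθ hinv => ?_⟩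
  · refine Cfsg.Agent.Lib.Induced.Mackey.isIrrCharacter_indFun K hθ fun g hg => ?_
    by_contra hgK
    obtain ⟨x, hx, hne⟩ := hmv
    obtain ⟨k, hk, v, hv, rfl⟩ : ∃ k ∈ K, ∃ v ∈ W₁, k * v = g :=
      Subgroup.mem_sup_of_normal_left.mp (hKW₁' ▸ Subgroup.mem_top g)
    have hv1 : v ≠ 1 := fun e => hgK (by rw [e, mul_one]; exact hk)
    rw [Cfsg.Agent.Lib.Clifford.Basic.conjC_mul, Cfsg.Agent.Lib.Clifford.Basic.conjC_of_mem K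
      (Cfsg.Agent.Lib.Characters.Basic.isClassFunction_irr ⟨θ, hθ⟩) hk] at hg
    obtain ⟨q, rfl⟩ := hall θ v hθ hv hv1 hg
    exact hne (hfix q x)
  · rw [← hQ]
    refine (Nat.card_congr (Equiv.ofBijective
      (fun q => ⟨⟨f q, hirr q⟩, fun x _ => hfix q x⟩) ⟨fun a b e => ?_, fun t => ?_⟩)).symm
    · exact hinj (congrArg (fun t => ((Subtype.val t : Cfsg.IrrCharacter K) : K → ℂ)) e)
    · obtain ⟨q, hq⟩ := hall t.1.1 x₀ t.1.2 hx₀.1 hx₀.2 (t.2 _ hx₀.1)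
      exact ⟨q, Subtype.ext (Subtype.ext hq.symm)⟩
  · obtain ⟨q, rfl⟩ := hall θ x₀ hθ hx₀.1 hx₀.2 (hinv _ hx₀.1)
    exact hsum q

end Cfsg.Agent.S1513
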