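import Cfsg.Statements.S1518
import Cfsg.Agent.Lib.Isometry.DadeGen
import Cfsg.Agent.Lib.Characters.Basic
-- import your own Cfsg.Agent.* helpers here

set_option autoImplicit false
open Cfsg

namespace Cfsg.Agent.S1518

/-- Under the Dade hypothesis for (A, L, H): if χ is an irreducible character of L vanishing at every non-identity element of L outside A, then the Dade image of χ − conj χ equals μ − conj μ for some irreducible character μ of G. -/
theorem result {G : Type*} [Group G] [Fintype G] (A : Set G) (L : Subgroup G) [Fintype L] (H : G → Subgroup G) (hD : Cfsg.DadeHypothesis A L H) (χ : L → ℂ) (hχ : Cfsg.IsIrrCharacter L χ) (hsupp : ∀ x : L, x ≠ 1 → (x : G) ∉ A → χ x = 0) : ∃ μ : G → ℂ, Cfsg.IsIrrCharacter G μ ∧ Cfsg.dadeIsometry A L H (χ - Cfsg.conjFun χ) = μ - Cfsg.conjFun μ := by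
  classical
  open Cfsg.Agent.Lib.Isometry in
  open Cfsg.Agent.Lib.Induced.Basic in
  exact (by
    have := Fintype.ofFinite (Cfsg.IrrCharacter G)
    have hc := Inner.conjFun_irr hχ
    have hgen := Inner.gen_sub (Inner.gen_of_irr hχ) (Inner.gen_of_irr hc)
    set α := χ - Cfsg.conjFun χ with hα
    have hα1 : α 1 = 0 := by
      rw [hα, Pi.sub_apply, show Cfsg.conjFun χ 1 = χ 1 from
        Cfsg.Agent.Lib.Characters.Basic.conj_apply_one
          (Cfsg.Agent.Lib.Characters.Basic.IsCharacter_of_isIrrCharacter hχ), sub_self]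
    have hαA : ∀ x : L, (x : G) ∉ A → α x = 0 := by
      intro x hx
      by_cases h1 : x = 1
      · rw [h1, hα1]
      · rw [hα, Pi.sub_apply, Cfsg.conjFun, hsupp x h1 hx, map_zero, sub_zero]
    set D := Cfsg.dadeIsometry A L H α with hDdef
    have hDgen : Cfsg.IsGeneralizedCharacter G D := DadeGen.gen_dade hD hgen hαA
    have hDconj : Cfsg.conjFun D = -D := by
      funext g
      show (starRingEnd ℂ) (D g) = -D g
      simp only [hDdef, Cfsg.dadeIsometry]
      split_ifs with h
      · simp only [hα, Pi.sub_apply, Cfsg.conjFun, map_sub, Complex.conj_conj]; ring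
      · rw [map_zero, neg_zero]
    by_cases hreal : Cfsg.conjFun χ = χ
    · refine ⟨fun _ => 1, ?_, ?_⟩
      · rw [show (fun _ : G => (1 : ℂ)) = (Cfsg.Agent.Lib.Characters.Basic.oneChar G : G → ℂ) from
          funext fun x => (Cfsg.Agent.Lib.Characters.Basic.oneChar_apply x).symm]
        exact (Cfsg.Agent.Lib.Characters.Basic.oneChar G).2
      · funext g
        have hz : α = 0 := by rw [hα, hreal, sub_self]
        simp [hDdef, hz, Cfsg.dadeIsometry, Cfsg.conjFun]
    obtain ⟨c, hc1, hc2, hc3⟩ := Inner.gen_coeff hDgen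
    have hnorm : Cfsg.classInner D D = 2 := by
      rw [hDdef, Dade.classInner_dade_dade hD (Inner.gen_classFun hgen) hαA (Inner.gen_classFun hgen), hα]
      simp only [classInner_sub_left, classInner_sub_right, Inner.classInner_irr_eq hχ hχ,
        Inner.classInner_irr_eq hχ hc, Inner.classInner_irr_eq hc hχ, Inner.classInner_irr_eq hc hc,
        if_neg hreal, if_neg (Ne.symm hreal)]
      norm_num
    have hsum : ∑ x, c x ^ 2 = 2 := by rw [hnorm] at hc3; exact_mod_cast hc3.symm
    let cj : Cfsg.IrrCharacter G → Cfsg.IrrCharacter G := fun x => ⟨Cfsg.conjFun (x : G → ℂ), Inner.conjFun_irr x.2⟩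
    have hanti : ∀ x, c (cj x) = -c x := fun x => by
      have h := hc1 (cj x)
      rw [show ((cj x : Cfsg.IrrCharacter G) : G → ℂ) = Cfsg.conjFun (x : G → ℂ) from rfl,
        ← neg_neg D, ← hDconj, Inner.classInner_neg_left, Inner.classInner_conjFun, hc1 x, map_intCast] at h
      exact_mod_cast h.symm
    obtain ⟨x, hx⟩ : ∃ x, 0 < c x := by
      obtain ⟨x, hx⟩ : ∃ x, c x ≠ 0 := by
        by_contra hne; push Not at hne; simp [hne] at hsum
      rcases lt_or_gt_of_ne hx with h | h
      exacts [⟨cj x, by rw [hanti]; omega⟩, ⟨x, h⟩]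
    have hne : cj x ≠ x := fun e => by have := hanti x; rw [e] at this; omega
    have h2 := Finset.sum_le_sum_of_subset_of_nonneg (Finset.subset_univ ({x, cj x} : Finset _))
      (f := fun y => c y ^ 2) fun y _ _ => sq_nonneg _
    rw [hsum, Finset.sum_pair hne.symm, hanti] at h2
    have hcx : c x = 1 := by nlinarith
    have hrest : ∀ y, y ∉ ({x, cj x} : Finset _) → c y = 0 := by
      intro y hy
      have h3 := Finset.sum_le_sum_of_subset_of_nonneg (Finset.subset_univ (insert y ({x, cj x} : Finset _)))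
        (f := fun y => c y ^ 2) fun y _ _ => sq_nonneg _
      rw [hsum, Finset.sum_insert hy, Finset.sum_pair hne.symm, hanti, hcx] at h3
      nlinarith
    refine ⟨(x : G → ℂ), x.2, ?_⟩
    rw [hc2, ← Finset.sum_subset (Finset.subset_univ ({x, cj x} : Finset _)) fun y _ hy => by
      rw [hrest y hy, Int.cast_zero, zero_smul], Finset.sum_pair hne.symm, hanti, hcx]
    simp [cj, sub_eq_add_neg])

end Cfsg.Agent.S1518
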