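import Cfsg.Statements.S1472
import Cfsg.Agent.Lib.AppendixC.Concrete

set_option autoImplicit false
open Cfsg

namespace Cfsg.Agent.S1472

/-- Let p, q be primes with (p^q − 1)/(p − 1) coprime to p − 1, G a finite group, F a field with p ^ q elements, and P, U, Q subgroups of G with: f : G → F bijective from P onto F and additive on P; U normalizing P and acting through ψ : G → F, injective and multiplicative on U with ψ(u) ≠ 0 and f(uxu⁻¹) = ψ(u) f(x); #U · (p − 1) = p^q − 1; Q abelian of order coprime to p, normalized by every x ∈ P with f(x) in the prime field; and some y ∈ Q such that y x y⁻¹ normalizes U for every such x. Then p ≤ q. -/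
theorem result {G : Type*} [Group G] [Finite G] (p q : ℕ) [Fact p.Prime] [Fact q.Prime] (hA : Nat.Coprime ((p ^ q - 1) / (p - 1)) (p - 1))
    (F : Type*) [Field F] [Fintype F] (hF : Fintype.card F = p ^ q) (P U Q : Subgroup G) (f ψ : G → F)
    (hf : Set.BijOn f (P : Set G) Set.univ) (hfadd : ∀ x ∈ P, ∀ z ∈ P, f (x * z) = f x + f z)
    (hUP : U ≤ Subgroup.normalizer (P : Set G)) (hψ : ∀ u ∈ U, ψ u ≠ 0 ∧ ∀ x ∈ P, f (u * x * u⁻¹) = ψ u * f x)
    (hψmul : ∀ u ∈ U, ∀ v ∈ U, ψ (u * v) = ψ u * ψ v) (hψinj : Set.InjOn ψ (U : Set G)) (hUcard : Nat.card U * (p - 1) = p ^ q - 1)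
    (hQ : IsMulCommutative Q) (hQp : (Nat.card Q).Coprime p) (hP0Q : ∀ x ∈ P, f x ^ p = f x → x ∈ Subgroup.normalizer (Q : Set G))
    (y : G) (hy : y ∈ Q) (hP0U : ∀ x ∈ P, f x ^ p = f x → y * x * y⁻¹ ∈ Subgroup.normalizer (U : Set G)) :
    p ≤ q := by
  classical
  by_contra hlt
  push Not at hlt
  have hp := (Fact.out : p.Prime)
  haveI : CharP F p := by
    haveI : CharP F (ringChar F) := ringChar.charP F
    obtain ⟨n, hr, hn⟩ := FiniteField.card F (ringChar F)
    have hdvd : ringChar F ∣ p ^ q := hF ▸ hn ▸ dvd_pow_self _ n.pos.ne'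
    have := (Nat.prime_dvd_prime_iff_eq hr hp).1 (hr.dvd_of_dvd_pow hdvd)
    exact this ▸ ringChar.charP F
  letI := ZMod.algebra F p
  have hyp : Lib.AppendixC.NormOne.Hyp p q F :=
    ⟨hp, Fact.out, hlt, hF, by rw [Lib.AppendixC.NormOne.nrm_eq_div p q hp.two_le]; exact hA⟩
  have hπ : ∀ x : F, Function.invFunOn f (P : Set G) x ∈ P ∧ f (Function.invFunOn f (P : Set G) x) = x :=
    fun x => ⟨Function.invFunOn_mem (hf.surjOn (Set.mem_univ x)),
      Function.invFunOn_eq (hf.surjOn (Set.mem_univ x))⟩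
  have hπe : ∀ g ∈ P, Function.invFunOn f (P : Set G) (f g) = g := fun g hg =>
    hf.injOn (hπ _).1 hg (hπ _).2
  have hscal : ∀ c : ZMod p, f (Function.invFunOn f (P : Set G) (algebraMap _ F c)) ^ p =
      f (Function.invFunOn f (P : Set G) (algebraMap _ F c)) := fun c => by
    rw [(hπ _).2, ← map_pow, ZMod.pow_card]
  exact Lib.AppendixC.Concrete.Setup.contradiction (p := p) (q := q) (F := F) (G := G)
    { hyp := hyp
      P := P
      U := U
      Q := Q
      π := Function.invFunOn f (P : Set G)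
      π_mem := fun x => (hπ x).1
      π_add := fun x x' => hf.injOn (hπ _).1 (P.mul_mem (hπ x).1 (hπ x').1) (by
        rw [(hπ _).2, hfadd _ (hπ x).1 _ (hπ x').1, (hπ x).2, (hπ x').2])
      π_inj := fun x x' h => by rw [← (hπ x).2, h, (hπ x').2]
      ψ := ψ
      ψ_ne := fun u hu => (hψ u hu).1
      ψ_mul := hψmul
      ψ_inj := hψinj
      π_surj := fun g hg => ⟨f g, hπe g hg⟩
      conjU := fun u hu x => by
        have hmem : u * Function.invFunOn f (P : Set G) x * u⁻¹ ∈ P :=
          ((Subgroup.mem_normalizer_iff.1 (hUP hu)) _).1 (hπ x).1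
        refine hf.injOn hmem (hπ _).1 ?_
        rw [(hψ u hu).2 _ (hπ x).1, (hπ x).2, (hπ _).2]
      cardU := by
        have h2 := hp.two_le
        rw [← Lib.AppendixC.NormOne.nrm_mul p q h2] at hUcard
        exact Nat.eq_of_mul_eq_mul_right (by omega) hUcard
      finG := inferInstance
      comm := fun a ha b hb => congrArg Subtype.val (hQ.is_comm.comm (⟨a, ha⟩ : Q) ⟨b, hb⟩)
      coprimeQ := hQp
      normQ := fun c w hw =>
        ((Subgroup.mem_normalizer_iff.1 (hP0Q _ (hπ _).1 (hscal c))) w).1 hw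
      y := y
      y_mem := hy
      normU := fun c u hu =>
        ((Subgroup.mem_normalizer_iff.1 (hP0U _ (hπ _).1 (hscal c))) u).1 hu }

end Cfsg.Agent.S1472
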