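import Cfsg.Statements.S0198
import Cfsg.Agent.Lib.Induced.Generalized
import Cfsg.Agent.Lib.Characters.Linear
import Mathlib
-- import your own Cfsg.Agent.* helpers here

set_option autoImplicit false
open Cfsg

namespace Cfsg.Agent.S0198

/-- The isometry lemma behind exceptional characters. Let τ be a family of generalized characters of a finite group G indexed by Fin n, with τ i₀ = 0, every τ i vanishing at the identity, and inner products ⟨τ i, τ j⟩ = 2 if i = j and 1 otherwise for i, j ≠ i₀. Then there are a sign ε and pairwise distinct irreducible characters μ i with τ i = ε (μ i − μ i₀) for all i. -/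
theorem result {G : Type*} [Group G] [Fintype G] (n : ℕ) (i₀ : Fin n) (τ : Fin n → (G → ℂ)) (h0 : τ i₀ = 0) (hgen : ∀ i, Cfsg.IsGeneralizedCharacter G (τ i)) (hone : ∀ i, τ i 1 = 0) (hgram : ∀ i j, i ≠ i₀ → j ≠ i₀ → Cfsg.classInner (τ i) (τ j) = if i = j then 2 else 1) : ∃ ε : ℂ, (ε = 1 ∨ ε = -1) ∧ ∃ μ : Fin n → (G → ℂ), (∀ i, Cfsg.IsIrrCharacter G (μ i)) ∧ Function.Injective μ ∧ ∀ i, τ i = ε • (μ i - μ i₀) := by
  classical
  -- each `τ i` is a difference of two irreducible characters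
  have hnorm : ∀ i, i ≠ i₀ → Cfsg.classInner (τ i) (τ i) = 2 := fun i hi => by
    rw [hgram i i hi hi, if_pos rfl]
  have hex : ∀ i, i ≠ i₀ → ∃ a b : Cfsg.IrrCharacter G, a ≠ b ∧
      τ i = (a : G → ℂ) - (b : G → ℂ) := fun i hi =>
    Cfsg.Agent.Lib.Induced.Generalized.exists_sub_of_norm_two (hgen i) (hnorm i hi) (hone i)
  let one := Cfsg.Agent.Lib.Characters.Basic.oneChar G
  have hex' : ∀ i, ∃ a b : Cfsg.IrrCharacter G, i ≠ i₀ →
      a ≠ b ∧ τ i = (a : G → ℂ) - (b : G → ℂ) := fun i => by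
    by_cases hi : i = i₀
    · exact ⟨one, one, fun h => absurd hi h⟩
    · obtain ⟨a, b, hab⟩ := hex i hi
      exact ⟨a, b, fun _ => hab⟩
  choose a b hab using hex'
  let δ : Cfsg.IrrCharacter G → Cfsg.IrrCharacter G → ℤ := fun x y => if x = y then 1 else 0
  have hδ : ∀ x y : Cfsg.IrrCharacter G, Cfsg.classInner (x : G → ℂ) y = (δ x y : ℂ) := by
    intro x y
    rw [Cfsg.Agent.Lib.Characters.Basic.classInner_irr]
    simp [δ]
  have hinner : ∀ i j, i ≠ i₀ → j ≠ i₀ → i ≠ j →
      δ (a i) (a j) + δ (b i) (b j) - δ (a i) (b j) - δ (b i) (a j) = 1 := by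
    intro i j hi hj hij
    have h := hgram i j hi hj
    rw [if_neg hij, (hab i hi).2, (hab j hj).2] at h
    simp only [Cfsg.Agent.Lib.Induced.Basic.classInner_sub_left,
      Cfsg.Agent.Lib.Induced.Basic.classInner_sub_right, hδ] at h
    have h' : ((δ (a i) (a j) + δ (b i) (b j) - δ (a i) (b j) - δ (b i) (a j) : ℤ) : ℂ) = 1 := by
      rw [← h]; push_cast; ring
    exact_mod_cast h'
  have hpair : ∀ i j, i ≠ i₀ → j ≠ i₀ → i ≠ j →
      (a i = a j ∧ b i ≠ b j) ∨ (b i = b j ∧ a i ≠ a j) := by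
    intro i j hi hj hij
    have h := hinner i j hi hj hij
    have h1 := (hab i hi).1
    have h2 := (hab j hj).1
    by_cases e1 : a i = a j
    · refine Or.inl ⟨e1, fun e2 => ?_⟩
      have e3 : ¬ a i = b j := fun e => h2 (e1.symm.trans e)
      have e4 : ¬ b i = a j := fun e => h2 (e.symm.trans e2)
      simp only [δ, if_pos e1, if_pos e2, if_neg e3, if_neg e4] at h
      omega
    · refine Or.inr ⟨?_, e1⟩
      by_contra e2
      simp only [δ, if_neg e1, if_neg e2] at h
      split_ifs at h <;> omega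
  -- all share the first, or all share the second, constituent
  have hall : (∃ c, ∀ i, i ≠ i₀ → a i = c) ∨ (∃ c, ∀ i, i ≠ i₀ → b i = c) := by
    by_cases hn : ∃ i j, i ≠ i₀ ∧ j ≠ i₀ ∧ a i ≠ a j
    · obtain ⟨i, j, hi, hj, hne⟩ := hn
      have hij : i ≠ j := fun e => hne (by rw [e])
      have hb : b i = b j := ((hpair i j hi hj hij).resolve_left fun h => hne h.1).1
      refine Or.inr ⟨b i, fun k hk => ?_⟩
      by_contra hk'
      have hki : k ≠ i := fun e => hk' (by rw [e])
      have hkj : k ≠ j := fun e => hk' (by rw [e, hb])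
      have h1 := ((hpair k i hk hi hki).resolve_right fun h => hk' h.1).1
      have h2 := ((hpair k j hk hj hkj).resolve_right fun h => hk' (h.1.trans hb.symm)).1
      exact hne (h1.symm.trans h2)
    · push Not at hn
      by_cases h1 : ∃ i, i ≠ i₀
      · obtain ⟨i, hi⟩ := h1
        exact Or.inl ⟨a i, fun k hk => hn k i hk hi⟩
      · exact Or.inl ⟨one, fun i hi => absurd ⟨i, hi⟩ h1⟩
  -- package the two cases
  have finish : ∀ (ε : ℂ) (c : Cfsg.IrrCharacter G) (f : Fin n → Cfsg.IrrCharacter G),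
      (ε = 1 ∨ ε = -1) → (∀ i, i ≠ i₀ → f i ≠ c ∧ τ i = ε • ((f i : G → ℂ) - (c : G → ℂ))) →
      ∃ ε : ℂ, (ε = 1 ∨ ε = -1) ∧ ∃ μ : Fin n → (G → ℂ), (∀ i, Cfsg.IsIrrCharacter G (μ i)) ∧
        Function.Injective μ ∧ ∀ i, τ i = ε • (μ i - μ i₀) := by
    intro ε c f hε hf
    refine ⟨ε, hε, fun i => ((if i = i₀ then c else f i : Cfsg.IrrCharacter G) : G → ℂ),
      fun i => (if i = i₀ then c else f i : Cfsg.IrrCharacter G).2, fun i j hij => ?_, fun i => ?_⟩
    · have hij' := Subtype.ext hij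
      by_cases hi : i = i₀ <;> by_cases hj : j = i₀
      · rw [hi, hj]
      · rw [if_pos hi, if_neg hj] at hij'
        exact absurd hij'.symm (hf j hj).1
      · rw [if_neg hi, if_pos hj] at hij'
        exact absurd hij' (hf i hi).1
      · rw [if_neg hi, if_neg hj] at hij'
        by_contra hne
        have e : τ i = τ j := by rw [(hf i hi).2, (hf j hj).2, hij']
        have h1 := hnorm i hi
        have h2 := hgram i j hi hj
        rw [if_neg hne, ← e, h1] at h2
        norm_num at h2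
    · by_cases hi : i = i₀
      · simp [hi, h0]
      · simp only [if_neg hi, if_true]
        exact (hf i hi).2
  rcases hall with ⟨c, hc⟩ | ⟨c, hc⟩
  · refine finish (-1) c b (Or.inr rfl) fun i hi => ⟨fun e => (hab i hi).1 (by rw [e, hc i hi]), ?_⟩
    rw [(hab i hi).2, hc i hi, neg_one_smul, neg_sub]
  · refine finish 1 c a (Or.inl rfl) fun i hi => ⟨fun e => (hab i hi).1 (by rw [e, hc i hi]), ?_⟩
    rw [(hab i hi).2, hc i hi, one_smul]

end Cfsg.Agent.S0198
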