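import Cfsg.Statements.S1494
import Cfsg.Agent.Lib.Characters.Complete
import Cfsg.Agent.Lib.Characters.Linear

set_option autoImplicit false
open Cfsg
open Cfsg.Agent.Lib.Induced.Basic Cfsg.Agent.Lib.Characters.Basic Cfsg.Agent.Lib.Characters.Complete
open Cfsg.Agent.Lib.Characters.Linear

namespace Cfsg.Agent.S1494

/-- Let χ be a generalized character of the finite group G, p a prime, x an element of order p and y an element commuting with x. Then χ(x * y) − χ(y) = (1 − ε) * ω for some algebraic integer ω, where ε = exp(2πi/p). -/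
theorem result {G : Type*} [Group G] [Finite G] (χ : G → ℂ) (hχ : Cfsg.IsGeneralizedCharacter G χ) (p : ℕ) (hp : p.Prime) (x y : G) (hx : orderOf x = p) (hxy : x * y = y * x) : ∃ ω : ℂ, IsIntegral ℤ ω ∧ χ (x * y) - χ y = (1 - Complex.exp (2 * Real.pi * Complex.I / p)) * ω := by
  classical
  haveI := Fintype.ofFinite G
  let H : Subgroup G := Subgroup.closure {x, y}
  haveI := Fintype.ofFinite (Cfsg.IrrCharacter H)
  haveI := Fintype.ofFinite H
  have hle : H ≤ Subgroup.centralizer ({x, y} : Set G) := by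
    rw [Subgroup.closure_le]
    rintro a (rfl | rfl) b (rfl | rfl)
    · rfl
    · exact hxy.symm
    · exact hxy
    · rfl
  have hHc : ∀ u v : H, u * v = v * u := by
    intro u v
    refine Subtype.ext ?_
    have h2 : H ≤ Subgroup.centralizer ({(u : G)} : Set G) := by
      rw [Subgroup.closure_le]
      intro b hb
      exact Subgroup.mem_centralizer_singleton_iff.2 (Subgroup.mem_centralizer_iff.1 (hle u.2) b hb)
    exact (Subgroup.mem_centralizer_singleton_iff.1 (h2 v.2)).symm
  let x' : H := ⟨x, Subgroup.subset_closure (Set.mem_insert x {y})⟩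
  let y' : H := ⟨y, Subgroup.subset_closure (Set.mem_insert_of_mem x rfl)⟩
  let f : H → ℂ := fun h => χ h
  obtain ⟨a, b, ha, hb, hab⟩ := hχ
  have hfcl : Cfsg.IsClassFunction H f := by
    intro u v
    rw [hHc v u, mul_inv_cancel_right]
  have hz : ∀ φ : Cfsg.IrrCharacter H, ∃ n : ℤ, Cfsg.classInner f φ = n := by
    intro φ
    obtain ⟨i, hi⟩ := exists_classInner_nat (isCharacter_comp H.subtype ha) (isCharacter_irr φ)
    obtain ⟨j, hj⟩ := exists_classInner_nat (isCharacter_comp H.subtype hb) (isCharacter_irr φ)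
    refine ⟨(i : ℤ) - j, ?_⟩
    rw [show f = (a ∘ H.subtype) - (b ∘ H.subtype) by funext h; simp [f, hab],
      classInner_sub_left, hi, hj]
    push_cast
    rfl
  choose n hn using hz
  set ε := Complex.exp (2 * Real.pi * Complex.I / p) with hε
  haveI : NeZero p := ⟨hp.ne_zero⟩
  have hprim : IsPrimitiveRoot ε p := Complex.isPrimitiveRoot_exp p hp.ne_zero
  have hd : ∀ φ : Cfsg.IrrCharacter H, ∃ w : ℂ, IsIntegral ℤ w ∧
      (φ : H → ℂ) (x' * y') - (φ : H → ℂ) y' = (1 - ε) * w := by
    intro φ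
    have h1 := degree_eq_one_of_comm hHc φ
    have hxp : ((degOneHom (isCharacter_irr φ) h1 x' : ℂˣ) : ℂ) ^ p = 1 := by
      rw [← Units.val_pow_eq_pow_val, ← map_pow,
        show x' ^ p = 1 from Subtype.ext (by simp [x', ← hx, pow_orderOf_eq_one]), map_one, Units.val_one]
    obtain ⟨j, -, hj⟩ := hprim.eq_pow_of_pow_eq_one hxp
    refine ⟨-((∑ i ∈ Finset.range j, ε ^ i) * (φ : H → ℂ) y'), ?_, ?_⟩
    · exact ((IsIntegral.sum _ fun i _ => (hprim.isIntegral hp.pos).pow i).mul
        (isIntegral_apply (isCharacter_irr φ) _)).neg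
    · rw [apply_mul_of_degree_one (isCharacter_irr φ) h1, ← degOneHom_apply (isCharacter_irr φ) h1 x',
        ← hj]
      linear_combination -(φ : H → ℂ) y' * geom_sum_mul ε j
  choose w hw hw' using hd
  refine ⟨∑ φ : Cfsg.IrrCharacter H, (n φ : ℂ) * w φ,
    IsIntegral.sum _ fun φ _ => (isIntegral_algebraMap (x := n φ)).mul (hw φ), ?_⟩
  have hf := classFunction_eq_sum hfcl
  have e1 : χ (x * y) = ∑ φ : Cfsg.IrrCharacter H, (n φ : ℂ) * (φ : H → ℂ) (x' * y') := by
    have := congrFun hf (x' * y')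
    simpa [Finset.sum_apply, hn, f, x', y'] using this
  have e2 : χ y = ∑ φ : Cfsg.IrrCharacter H, (n φ : ℂ) * (φ : H → ℂ) y' := by
    have := congrFun hf y'
    simpa [Finset.sum_apply, hn, f, x', y'] using this
  rw [e1, e2, ← Finset.sum_sub_distrib, Finset.mul_sum]
  refine Finset.sum_congr rfl fun φ _ => ?_
  rw [← mul_sub, hw']
  ring

end Cfsg.Agent.S1494
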