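import Cfsg.Statements.S1495
import Mathlib
-- import your own Cfsg.Agent.* helpers here

set_option autoImplicit false
open Cfsg

namespace Cfsg.Agent.S1495

/-- Let p be a prime, ε = exp(2πi/p), and n an integer such that n = (1 − ε) * ω for some algebraic integer ω. Then p divides n. -/
theorem result (p : ℕ) (hp : p.Prime) (n : ℤ) (ω : ℂ) (hω : IsIntegral ℤ ω) (h : (n : ℂ) = (1 - Complex.exp (2 * Real.pi * Complex.I / p)) * ω) : (p : ℤ) ∣ n := by
  set ε : ℂ := Complex.exp (2 * Real.pi * Complex.I / p) with hεdef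
  have hε : IsPrimitiveRoot ε p := Complex.isPrimitiveRoot_exp p hp.pos.ne'
  haveI := Fact.mk hp
  have hεi : IsIntegral ℤ ε := hε.isIntegral hp.pos
  have hprod : ∏ μ ∈ primitiveRoots p ℂ, (1 - μ) = (p : ℂ) := by
    have := Polynomial.eval_one_cyclotomic_prime (R := ℂ) (p := p)
    rw [Polynomial.cyclotomic_eq_prod_X_sub_primitiveRoots hε, Polynomial.eval_prod] at this
    simpa using this
  by_contra hn
  have hg : Int.gcd n p = 1 := (Nat.coprime_comm.1 ((Nat.Prime.coprime_iff_not_dvd hp).2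
    (fun hd => hn (Int.natCast_dvd.2 hd))))
  obtain ⟨a, b, hab⟩ := Int.isCoprime_iff_gcd_eq_one.2 hg
  have hεmem : ε ∈ primitiveRoots p ℂ := (mem_primitiveRoots hp.pos).2 hε
  set ν := ∏ μ ∈ (primitiveRoots p ℂ).erase ε, (1 - μ) with hν
  have hνi : IsIntegral ℤ ν := IsIntegral.prod _ fun μ hμ => by
    exact isIntegral_one.sub (((mem_primitiveRoots hp.pos).1 (Finset.mem_of_mem_erase hμ)).isIntegral hp.pos)
  set z := (a : ℂ) * ω + (b : ℂ) * ν with hz
  have hzi : IsIntegral ℤ z :=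
    (isIntegral_algebraMap.mul hω).add (isIntegral_algebraMap.mul hνi)
  have hz1 : (1 - ε) * z = 1 := by
    have h2 : (1 - ε) * ν = (p : ℂ) := by rw [hν, Finset.mul_prod_erase _ (fun μ => 1 - μ) hεmem, hprod]
    have h3 : (a : ℂ) * n + (b : ℂ) * p = 1 := by exact_mod_cast congrArg (Int.cast : ℤ → ℂ) hab
    rw [hz]; linear_combination h3 + (a : ℂ) * (h.symm) + (b : ℂ) * h2
  have hunit : ∀ μ ∈ primitiveRoots p ℂ, ∃ y : ℂ, IsIntegral ℤ y ∧ (1 - μ) * y = 1 := by
    intro μ hμ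
    have hμ' := (mem_primitiveRoots hp.pos).1 hμ
    obtain ⟨j, -, hj⟩ := hμ'.eq_pow_of_pow_eq_one hε.pow_eq_one
    refine ⟨(∑ i ∈ Finset.range j, μ ^ i) * z,
      (IsIntegral.sum _ fun i _ => (hμ'.isIntegral hp.pos).pow i).mul hzi, ?_⟩
    rw [← mul_assoc, mul_neg_geom_sum, hj]
    exact hz1
  choose y hyi hy using hunit
  have hpy : (p : ℂ) * ∏ μ ∈ (primitiveRoots p ℂ).attach, y μ.1 μ.2 = 1 := by
    rw [← hprod, ← Finset.prod_attach (primitiveRoots p ℂ) (fun μ => 1 - μ), ← Finset.prod_mul_distrib]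
    exact Finset.prod_eq_one fun μ _ => hy μ.1 μ.2
  have hint : IsIntegral ℤ ((p : ℂ)⁻¹) := by
    rw [← eq_inv_of_mul_eq_one_right hpy]
    exact IsIntegral.prod _ fun μ _ => hyi μ.1 μ.2
  have hint' : IsIntegral ℤ ((p : ℚ)⁻¹) := by
    apply (isIntegral_algebraMap_iff (R := ℤ) (B := ℂ) (algebraMap ℚ ℂ).injective).1
    simpa using hint
  obtain ⟨m, hm⟩ := IsIntegrallyClosed.isIntegral_iff.1 hint'
  simp only [eq_intCast] at hm
  have hmp : (m : ℤ) * p = 1 := by
    have : ((m : ℚ)) * p = 1 := by rw [hm, inv_mul_cancel₀ (by exact_mod_cast hp.pos.ne')]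
    exact_mod_cast this
  have : (p : ℤ) ∣ 1 := Dvd.intro_left m hmp
  exact hp.one_lt.ne' (by simpa using Int.natCast_dvd.1 this)

end Cfsg.Agent.S1495
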