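import Cfsg.Statements.S1528
import Cfsg.Agent.Lib.Isometry.Clifford
-- import your own Cfsg.Agent.* helpers here

set_option autoImplicit false
open Cfsg

namespace Cfsg.Agent.S1528

open scoped ComplexConjugate
open Cfsg.Agent.Lib.Clifford.Basic (conjC inertia)


/-- Let N be a normal subgroup of the finite group G such that every element of G commuting with a non-identity element of N lies in N. If χ is an irreducible character of G with χ n ≠ χ 1 for some n ∈ N, then χ is the function induced from some irreducible character of N. -/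
theorem result {G : Type*} [Group G] [Fintype G] (N : Subgroup G) [N.Normal] (hC : ∀ n ∈ N, n ≠ 1 → Subgroup.centralizer ({n} : Set G) ≤ N) (χ : G → ℂ) (hχ : Cfsg.IsIrrCharacter G χ) (hker : ∃ n ∈ N, χ n ≠ χ 1) : ∃ φ : N → ℂ, Cfsg.IsIrrCharacter N φ ∧ χ = Cfsg.indFun N φ := by
  classical
  obtain ⟨θ, hθ⟩ := Cfsg.Agent.Lib.Clifford.Basic.exists_constituent_restrict N hχ
  have hne : (θ : N → ℂ) ≠ fun _ => 1 := by
    intro h1
    obtain ⟨n, hn, hn'⟩ := hker
    refine hn' ?_
    have hinv : ∀ g, conjC N g (θ : N → ℂ) = (θ : N → ℂ) := fun g => by rw [h1]; rfl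
    have hr := Cfsg.Agent.Lib.Clifford.Basic.restrict_eq_smul N hχ θ hθ hinv
    rw [h1] at hr
    exact (congrFun hr ⟨n, hn⟩).trans (congrFun hr 1).symm
  have hstab : ∀ g : G, conjC N g (θ : N → ℂ) = θ → g ∈ N := by
    intro g hg
    by_contra hgN
    refine hne (Cfsg.Agent.Lib.Induced.Mackey.eq_one_of_fixed (MulAut.conjNormal g) ?_ θ.2 hg)
    intro n hn
    by_contra hn1
    obtain ⟨m, hm⟩ := isConj_iff.1 hn
    have hm' : (m : G) * (g * (n : G) * g⁻¹) * (m : G)⁻¹ = n := by
      simpa using congrArg Subtype.val hm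
    have hmem : (m : G) * g ∈ Subgroup.centralizer ({(n : G)} : Set G) := by
      rw [Subgroup.mem_centralizer_singleton_iff]
      calc (m : G) * g * n = (m : G) * (g * (n : G) * g⁻¹) * (m : G)⁻¹ * ((m : G) * g) := by group
        _ = _ := by rw [hm']
    have := hC (n : G) n.2 (fun e => hn1 (Subtype.ext e)) hmem
    exact hgN (by simpa using N.mul_mem (N.inv_mem m.2) this)
  have hirr := Cfsg.Agent.Lib.Induced.Mackey.isIrrCharacter_indFun N θ.2 hstab
  refine ⟨θ, θ.2, ?_⟩
  have := Cfsg.Agent.Lib.Induced.Basic.frobenius_reciprocity N (θ : N → ℂ)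
    (Cfsg.Agent.Lib.Characters.Basic.isClassFunction_irr ⟨χ, hχ⟩)
  rw [Cfsg.Agent.Lib.Isometry.Inner.classInner_irr_eq hirr hχ] at this
  by_contra h
  rw [if_neg (Ne.symm h)] at this
  exact Cfsg.Agent.Lib.Clifford.Basic.classInner_ne_zero_symm hθ this.symm

end Cfsg.Agent.S1528
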