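import Cfsg.Statements.S1514
import Cfsg.Agent.Lib.Isometry.Coherence
-- import your own Cfsg.Agent.* helpers here

set_option autoImplicit false
open Cfsg

namespace Cfsg.Agent.S1514

open Cfsg.Agent.Lib.Isometry.Inner
open Cfsg.Agent.Lib.Induced.Basic (classInner_add_left classInner_add_right classInner_sub_left classInner_sub_right classInner_smul_left classInner_smul_right classInner_conj_symm)
open scoped ComplexConjugate


/-- Let S be a nonempty set of irreducible characters of the finite group L, closed under complex conjugation and containing no real-valued member, and τ a linear isometry on the integer combinations of S vanishing at 1, with values virtual characters of G vanishing at 1. Then there is a choice R making (S, τ, R) a coherence system. -/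
theorem result {L : Type*} [Group L] [Fintype L] {G : Type*} [Group G] [Fintype G] (S : Set (L → ℂ)) (hS : S.Nonempty) (hirr : ∀ χ ∈ S, Cfsg.IsIrrCharacter L χ) (hconj : ∀ χ ∈ S, Cfsg.conjFun χ ∈ S ∧ Cfsg.conjFun χ ≠ χ) (τ : (L → ℂ) → (G → ℂ)) (hτ : Cfsg.IsLinearIsometryOn (Cfsg.zspanOn S {1}ᶜ) τ) (hτ1 : ∀ α ∈ Cfsg.zspanOn S {1}ᶜ, τ α 1 = 0) : ∃ R : (L → ℂ) → Finset (G → ℂ), Cfsg.IsCoherenceSystem S τ R := by
  classical
  have := Fintype.ofFinite (Cfsg.IrrCharacter G)
  have hdiff : ∀ χ ∈ S, χ - Cfsg.conjFun χ ∈ Cfsg.zspanOn S {1}ᶜ := fun χ hχ =>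
    mem_zspanOn_one.2 ⟨Cfsg.Agent.Lib.Isometry.Coherence.zspan_sub (subset_zspan S hχ)
      (subset_zspan S (hconj χ hχ).1), by
        rw [Pi.sub_apply, show Cfsg.conjFun χ 1 = χ 1 from Cfsg.Agent.Lib.Characters.Basic.conj_apply_one
          (Cfsg.Agent.Lib.Characters.Basic.IsCharacter_of_isIrrCharacter (hirr χ hχ)), sub_self]⟩
  have hnorm : ∀ χ ∈ S, Cfsg.classInner (χ - Cfsg.conjFun χ) (χ - Cfsg.conjFun χ) = 2 := by
    intro χ hχ
    have h := conjFun_irr (hirr χ hχ)
    simp only [classInner_sub_left, classInner_sub_right, classInner_irr_eq (hirr χ hχ) (hirr χ hχ),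
      classInner_irr_eq (hirr χ hχ) h, classInner_irr_eq h (hirr χ hχ), classInner_irr_eq h h,
      if_neg (hconj χ hχ).2, if_neg (hconj χ hχ).2.symm]
    norm_num
  have hex : ∀ χ, ∃ c : Cfsg.IrrCharacter G → ℤ, χ ∈ S →
      (∀ x : Cfsg.IrrCharacter G, Cfsg.classInner (τ (χ - Cfsg.conjFun χ)) (x : G → ℂ) = c x) ∧
      τ (χ - Cfsg.conjFun χ) = ∑ x : Cfsg.IrrCharacter G, (c x : ℂ) • (x : G → ℂ) ∧
      ∑ x, c x ^ 2 = 2 := by
    intro χ
    by_cases hχ : χ ∈ S
    · obtain ⟨c, h1, h2, h3⟩ := gen_coeff (hτ.2.2.2 _ (hdiff χ hχ))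
      refine ⟨c, fun _ => ⟨h1, h2, ?_⟩⟩
      rw [hτ.2.2.1 _ (hdiff χ hχ) _ (hdiff χ hχ), hnorm χ hχ] at h3
      exact_mod_cast h3.symm
    · exact ⟨0, fun h => absurd h hχ⟩
  choose c hc using hex
  refine ⟨fun χ => (Finset.univ.filter fun x => c χ x ≠ 0).image
      (fun x : Cfsg.IrrCharacter G => (c χ x : ℂ) • (x : G → ℂ)), ?_⟩
  have hinner : ∀ (χ φ : L → ℂ) (x y : Cfsg.IrrCharacter G),
      Cfsg.classInner ((c χ x : ℂ) • (x : G → ℂ)) ((c φ y : ℂ) • (y : G → ℂ)) =
        if x = y then (c χ x : ℂ) * c φ y else 0 := by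
    intro χ φ x y
    rw [classInner_smul_left, classInner_smul_right, Cfsg.Agent.Lib.Characters.Basic.classInner_irr,
      map_intCast]
    split_ifs <;> ring
  have hinj : ∀ χ (x y : Cfsg.IrrCharacter G), c χ x ≠ 0 →
      (c χ x : ℂ) • (x : G → ℂ) = (c χ y : ℂ) • (y : G → ℂ) → x = y := by
    intro χ x y hx h
    by_contra hne
    have h2 := hinner χ χ x y
    rw [← h, if_neg hne, hinner χ χ x x, if_pos rfl] at h2
    exact hx (by exact_mod_cast (mul_self_eq_zero.1 h2))
  refine {
    nonempty := hS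
    isCharacter := fun χ h => Cfsg.Agent.Lib.Characters.Basic.IsCharacter_of_isIrrCharacter (hirr χ h)
    conj_mem := fun χ h => (hconj χ h).1
    conj_ne := fun χ h => (hconj χ h).2
    isometry := hτ
    map_one := hτ1
    orthogonal := fun χ h φ h' hne => by rw [classInner_irr_eq (hirr χ h) (hirr φ h'), if_neg hne]
    orthonormal := ?_
    virtual := ?_
    sum_eq := ?_
    disjoint := ?_ }
  · intro χ hχ α hα β hβ
    simp only [Finset.mem_image, Finset.mem_filter, Finset.mem_univ, true_and] at hα hβ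
    obtain ⟨x, hx, rfl⟩ := hα
    obtain ⟨y, hy, rfl⟩ := hβ
    rw [hinner]
    by_cases hxy : x = y
    · subst hxy
      rw [if_pos rfl, if_pos rfl]
      have h1 : c χ x ^ 2 ≤ 2 := (hc χ hχ).2.2 ▸ Finset.single_le_sum
        (f := fun i => c χ i ^ 2) (fun i _ => sq_nonneg _) (Finset.mem_univ x)
      have h2 : c χ x * c χ x = 1 := by
        have : -1 ≤ c χ x := by nlinarith
        have : c χ x ≤ 1 := by nlinarith
        rcases (by omega : c χ x = 1 ∨ c χ x = -1) with e | e <;> rw [e] <;> norm_num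
      exact_mod_cast h2
    · rw [if_neg hxy, if_neg fun e => hxy (hinj χ x y hx e)]
  · intro χ hχ α hα
    simp only [Finset.mem_image] at hα
    obtain ⟨x, -, rfl⟩ := hα
    exact gen_intCast_smul (gen_of_irr x.2) _
  · intro χ hχ
    rw [(hc χ hχ).2.1, Finset.sum_image fun x hx y _ e => hinj χ x y (Finset.mem_filter.1 hx).2 e]
    refine (Finset.sum_filter_of_ne fun x _ hne => ?_).symm
    intro h0; exact hne (by rw [h0]; simp)
  · intro χ hχ φ hφ h1 h2 α hα β hβ
    simp only [Finset.mem_image, Finset.mem_filter, Finset.mem_univ, true_and] at hα hβ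
    obtain ⟨a, ha, rfl⟩ := hα
    obtain ⟨y, hy, rfl⟩ := hβ
    rw [hinner]
    refine if_neg ?_
    rintro rfl
    -- `a` would be a constituent of both differences
    have h3 : Cfsg.classInner (Cfsg.conjFun φ) χ = 0 := by
      rw [show χ = Cfsg.conjFun (Cfsg.conjFun χ) from (conjFun_conjFun χ).symm, classInner_conjFun,
        h2, map_zero]
    have horth : Cfsg.classInner (τ (φ - Cfsg.conjFun φ)) (τ (χ - Cfsg.conjFun χ)) = 0 := by
      rw [hτ.2.2.1 _ (hdiff φ hφ) _ (hdiff χ hχ), classInner_sub_left, classInner_sub_right,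
        classInner_sub_right, classInner_conjFun, h1, h2, h3]
      simp
    rw [(hc φ hφ).2.1, Cfsg.Agent.Lib.Characters.Basic.classInner_sum_left] at horth
    have hsum : ∑ x, c φ x * c χ x = 0 := by
      have : ((∑ x, c φ x * c χ x : ℤ) : ℂ) = ((0 : ℤ) : ℂ) := by
        rw [Int.cast_zero, ← horth, Int.cast_sum]
        refine Finset.sum_congr rfl fun x _ => ?_
        rw [classInner_smul_left, ← classInner_conj_symm (τ (χ - Cfsg.conjFun χ)) (x : G → ℂ),
          (hc χ hχ).1 x, map_intCast]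
        push_cast; rfl
      exact_mod_cast this
    obtain ⟨b, hba, hb⟩ : ∃ b, b ≠ a ∧ c φ b * c χ b ≠ 0 := by
      by_contra hne
      push Not at hne
      rw [Finset.sum_eq_single a (fun x _ hx => hne x hx) (fun h => absurd (Finset.mem_univ _) h)] at hsum
      exact mul_ne_zero ha hy hsum
    obtain ⟨hb1, hb2⟩ := mul_ne_zero_iff.1 hb
    have supp : ∀ ω ∈ S, c ω a ≠ 0 → c ω b ≠ 0 → ∀ x, x ≠ a → x ≠ b → c ω x = 0 := by
      intro ω hω h5 h6 x hxa hxb
      by_contra h7
      have := Finset.sum_le_sum_of_subset_of_nonneg (f := fun i => c ω i ^ 2)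
        (Finset.subset_univ {a, b, x}) (fun i _ _ => sq_nonneg _)
      rw [(hc ω hω).2.2, Finset.sum_insert (by simp [hba.symm, hxa.symm]),
        Finset.sum_insert (by simp [hxb.symm]), Finset.sum_singleton] at this
      have : 0 < c ω a ^ 2 := by positivity
      have : 0 < c ω b ^ 2 := by positivity
      have : 0 < c ω x ^ 2 := by positivity
      linarith
    have deg : ∀ ω ∈ S, c ω a ≠ 0 → c ω b ≠ 0 →
        (c ω a : ℂ) * (a : G → ℂ) 1 + (c ω b : ℂ) * (b : G → ℂ) 1 = 0 := by
      intro ω hω h5 h6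
      have h8 := hτ1 _ (hdiff ω hω)
      rw [(hc ω hω).2.1, Finset.sum_apply, Finset.sum_eq_add a b hba.symm
        (fun x _ hx => by simp [supp ω hω h5 h6 x hx.1 hx.2])
        (fun h => absurd (Finset.mem_univ _) h) (fun h => absurd (Finset.mem_univ _) h)] at h8
      simpa using h8
    rw [Finset.sum_eq_add a b hba.symm
      (fun x _ hx => by rw [supp φ hφ ha hb1 x hx.1 hx.2, zero_mul])
      (fun h => absurd (Finset.mem_univ _) h) (fun h => absurd (Finset.mem_univ _) h)] at hsum
    obtain ⟨m, hm, em⟩ := Cfsg.Agent.Lib.Characters.Basic.exists_degree_pos a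
    obtain ⟨k, hk, ek⟩ := Cfsg.Agent.Lib.Characters.Basic.exists_degree_pos b
    have d1 := deg φ hφ ha hb1
    have d2 := deg χ hχ hy hb2
    rw [em, ek] at d1 d2
    have d1' : c φ a * m + c φ b * k = 0 := by exact_mod_cast d1
    have d2' : c χ a * m + c χ b * k = 0 := by exact_mod_cast d2
    have : (c φ a * c χ a) * ((k : ℤ) ^ 2 + (m : ℤ) ^ 2) = 0 := by
      linear_combination (k : ℤ) ^ 2 * hsum + (c χ a * m) * d1' - (c φ b * k) * d2'
    rcases mul_eq_zero.1 this with h | h
    · exact mul_ne_zero ha hy h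
    · have : (0 : ℤ) < (k : ℤ) ^ 2 + (m : ℤ) ^ 2 := by positivity
      omega

end Cfsg.Agent.S1514
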