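import Cfsg.Statements.S1536
import Cfsg.Agent.Lib.Isometry.Clifford
import Cfsg.Agent.S1496
-- import your own Cfsg.Agent.* helpers here

set_option autoImplicit false
open Cfsg

namespace Cfsg.Agent.S1536

open scoped ComplexConjugate
open Cfsg.Agent.Lib.Clifford.Basic (conjC inertia)


/-- Let H be a normal subgroup of the finite group M whose order is coprime to its index. For x ∈ M: some non-principal irreducible character of H is unchanged under h ↦ θ(x h x⁻¹) if and only if some non-identity element of H commutes with x. -/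
theorem result {M : Type*} [Group M] [Finite M] (H : Subgroup M) [hN : H.Normal] (hHall : Nat.Coprime (Nat.card H) H.index) (x : M) : (∃ θ : H → ℂ, Cfsg.IsIrrCharacter H θ ∧ θ ≠ (fun _ => 1) ∧ (fun h : H => θ ⟨x * h * x⁻¹, hN.conj_mem h h.2 x⟩) = θ) ↔ ∃ h ∈ H, h ≠ 1 ∧ x * h = h * x := by
  classical
  set α : H ≃* H := MulAut.conjNormal x with hα
  have hB := Cfsg.Agent.Lib.Induced.Mackey.card_fixed_classes_eq α
  have hone : ∀ a : H, α a = ⟨x * a * x⁻¹, hN.conj_mem (a : M) a.2 x⟩ := fun a => Subtype.ext rfl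
  constructor
  · rintro ⟨θ, hθ, hne, hfix⟩
    by_contra hcon
    push Not at hcon
    -- a power of `x` lying in `H` is trivial, so `x` has order prime to the order of `H`
    have hcop : Nat.Coprime (orderOf x) (Nat.card H) := by
      have hpow : ∀ k : ℕ, x ^ k ∈ H → x ^ k = 1 := fun k hk => by
        by_contra h1
        exact hcon (x ^ k) hk h1 ((Commute.self_pow x k).eq)
      have hmem : x ^ H.index ∈ H := by
        rw [← QuotientGroup.eq_one_iff, QuotientGroup.mk_pow, Subgroup.index_eq_card]
        exact pow_card_eq_one'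
      exact Nat.Coprime.coprime_dvd_left (orderOf_dvd_iff_pow_eq_one.2 (hpow _ hmem)) hHall.symm
    refine hne (Cfsg.Agent.Lib.Induced.Mackey.eq_one_of_fixed α ?_ hθ (by funext a; rw [Function.comp_apply, hone]; exact congrFun hfix a))
    intro k hk
    by_contra hk1
    have hxN : x ∈ Subgroup.normalizer (H : Set M) := by rw [Subgroup.normalizer_eq_top]; trivial
    obtain ⟨l, hl⟩ := isConj_iff.1 hk
    have hl' : (l : M) * (x * (k : M) * x⁻¹) * (l : M)⁻¹ = k := by
      simpa [hone] using congrArg Subtype.val hl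
    obtain ⟨y, hy, c, hcH, hcx, he⟩ := Cfsg.Agent.S1496.result H x hxN hcop (l : M) l.2
    obtain ⟨t, ht1, ht0⟩ := Nat.chineseRemainder hcop 1 0
    have hpow : (c * x) ^ t = x := by
      rw [(show Commute c x from hcx).mul_pow]
      have e1 : x ^ t = x := by
        conv_rhs => rw [← pow_one x]
        exact pow_eq_pow_iff_modEq.2 ht1
      have e2 : c ^ t = 1 := orderOf_dvd_iff_pow_eq_one.1
        (dvd_trans (Subgroup.orderOf_dvd_natCard _ hcH) (Nat.modEq_zero_iff_dvd.1 ht0))
      rw [e1, e2, one_mul]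
    have hcomm : Commute ((l : M) * x) (k : M) := by
      show (l : M) * x * k = k * ((l : M) * x)
      calc (l : M) * x * k = (l : M) * (x * k * x⁻¹) * (l : M)⁻¹ * ((l : M) * x) := by group
        _ = _ := by rw [hl']
    have hcomm' : Commute x (y * (k : M) * y⁻¹) := by
      rw [← hpow]
      apply Commute.pow_left
      rw [← he]
      exact hcomm.map (MulAut.conj y).toMonoidHom
    refine hcon (y * (k : M) * y⁻¹) (H.mul_mem (H.mul_mem hy k.2) (H.inv_mem hy)) ?_ hcomm'.eq
    intro e
    exact hk1 (Subtype.ext (by simpa using e))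
  · rintro ⟨h, hh, hne, hcomm⟩
    by_contra hcon
    push Not at hcon
    have hsub : Subsingleton {χ : Cfsg.IrrCharacter H // (χ : H → ℂ) ∘ α = (χ : H → ℂ)} := by
      refine ⟨fun a b => ?_⟩
      have : ∀ c : {χ : Cfsg.IrrCharacter H // (χ : H → ℂ) ∘ α = (χ : H → ℂ)}, (c.1 : H → ℂ) = fun _ => 1 := by
        intro c
        by_contra hc1
        refine hcon (c.1 : H → ℂ) c.1.2 hc1 (funext fun a => ?_)
        rw [← hone]; exact congrFun c.2 a
      exact Subtype.ext (Subtype.ext ((this a).trans (this b).symm))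
    have : Subsingleton {C : ConjClasses H // ConjClasses.map α.toMonoidHom C = C} := by
      rw [← Finite.card_le_one_iff_subsingleton] at hsub ⊢
      rw [hB]; exact hsub
    have e1 : ConjClasses.map α.toMonoidHom (ConjClasses.mk (1 : H)) = ConjClasses.mk 1 := by
      show ConjClasses.mk (α 1) = _
      rw [map_one]
    have e2 : ConjClasses.map α.toMonoidHom (ConjClasses.mk (⟨h, hh⟩ : H)) = ConjClasses.mk ⟨h, hh⟩ := by
      show ConjClasses.mk (α ⟨h, hh⟩) = _
      congr 1
      rw [hone]
      exact Subtype.ext (show x * h * x⁻¹ = h by rw [hcomm, mul_inv_cancel_right])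
    have := congrArg Subtype.val (Subsingleton.elim
      (⟨_, e1⟩ : {C : ConjClasses H // ConjClasses.map α.toMonoidHom C = C}) ⟨_, e2⟩)
    obtain ⟨c, hc⟩ := isConj_iff.1 (ConjClasses.mk_eq_mk_iff_isConj.1 this)
    rw [mul_one, mul_inv_cancel] at hc
    exact hne (congrArg Subtype.val hc).symm

end Cfsg.Agent.S1536
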