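import Cfsg.Statements.S1525
import Cfsg.Agent.Lib.Isometry.Dade
-- import your own Cfsg.Agent.* helpers here

set_option autoImplicit false
open Cfsg

namespace Cfsg.Agent.S1525

/-- Under the Dade hypothesis for (A, L, H), let χ be a class function of G and let ψ be a function on L whose value at each a ∈ A is the average of χ over the coset a·H(a). Then (1/|G|) Σ |χ g|² over the elements g of G conjugate into some coset a·H(a) with a ∈ A is at least (1/|L|) Σ_{a ∈ A ∩ L} |ψ a|². -/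
theorem result {G : Type*} [Group G] [Fintype G] (A : Set G) (L : Subgroup G) [Fintype L] (H : G → Subgroup G) (hD : Cfsg.DadeHypothesis A L H) (χ : G → ℂ) (hχ : Cfsg.IsClassFunction G χ) (ψ : L → ℂ) (hψ : ∀ a : L, (a : G) ∈ A → ψ a = (Nat.card (H a) : ℂ)⁻¹ * ∑ᶠ u ∈ (H a : Set G), χ (a * u)) : (Nat.card L : ℝ)⁻¹ * ∑ᶠ a ∈ {a : L | (a : G) ∈ A}, ‖ψ a‖ ^ 2 ≤ (Nat.card G : ℝ)⁻¹ * ∑ᶠ g ∈ {g : G | ∃ a ∈ A, ∃ u ∈ H a, ∃ x : G, x * g * x⁻¹ = a * u}, ‖χ g‖ ^ 2 := by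
  classical
  have key := Cfsg.Agent.Lib.Isometry.Dade.sum_support hD (fun g => ‖χ g‖ ^ 2)
    (fun g y => by rw [hχ g y])
  have hset : {g : G | ∃ a ∈ A, ∃ u ∈ H a, ∃ x : G, x * g * x⁻¹ = a * u} =
      Cfsg.Agent.Lib.Isometry.Dade.support A H := rfl
  rw [hset, finsum_mem_eq_toFinset_sum, finsum_mem_eq_toFinset_sum, Set.toFinset_setOf]
  have hG : (0:ℝ) < Fintype.card G := by exact_mod_cast Fintype.card_pos
  have hL : (0:ℝ) < Nat.card L := by exact_mod_cast Nat.card_pos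
  rw [Nat.card_eq_fintype_card (α := G)]
  have e : (Fintype.card G : ℝ)⁻¹ * ∑ g ∈ (Cfsg.Agent.Lib.Isometry.Dade.support A H).toFinset, ‖χ g‖ ^ 2 =
      (Nat.card L : ℝ)⁻¹ * ∑ a ∈ Finset.univ.filter (fun a => a ∈ A),
        (Nat.card (H a) : ℝ)⁻¹ * ∑ u ∈ Finset.univ.filter (fun u => u ∈ H a), ‖χ (a * u)‖ ^ 2 := by
    have : (Cfsg.Agent.Lib.Isometry.Dade.support A H).toFinset =
        Finset.univ.filter (fun g => g ∈ Cfsg.Agent.Lib.Isometry.Dade.support A H) := by ext; simp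
    rw [this]
    rw [inv_mul_eq_iff_eq_mul₀ hG.ne', mul_left_comm, eq_inv_mul_iff_mul_eq₀ hL.ne']
    exact key
  rw [e]
  refine mul_le_mul_of_nonneg_left ?_ (by positivity)
  refine le_of_eq_of_le (Finset.sum_bij (fun (x : L) _ => (x : G)) ?_ ?_ ?_ ?_
    (g := fun a => if h : a ∈ A then ‖ψ ⟨a, hD.subset h⟩‖ ^ 2 else 0)) (Finset.sum_le_sum ?_)
  · intro x hx; simpa using hx
  · intro x _ y _ h; exact Subtype.ext h
  · intro a ha
    simp only [Finset.mem_filter, Finset.mem_univ, true_and] at ha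
    exact ⟨⟨a, hD.subset ha⟩, by simpa using ha, rfl⟩
  · intro x hx
    simp only [Finset.mem_filter, Finset.mem_univ, true_and] at hx
    rw [dif_pos hx]
  · intro a ha
    simp only [Finset.mem_filter, Finset.mem_univ, true_and] at ha
    rw [dif_pos ha, hψ ⟨a, hD.subset ha⟩ ha, finsum_mem_eq_toFinset_sum]
    have hs : (H a : Set G).toFinset = Finset.univ.filter (fun u => u ∈ H a) := by ext; simp
    rw [hs]
    set s := Finset.univ.filter (fun u => u ∈ H a) with hs'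
    have hc : (s.card : ℝ) = Nat.card (H a) := by
      rw [Nat.card_eq_fintype_card, Fintype.card_subtype]
    have hn : (0:ℝ) < Nat.card (H a) := by exact_mod_cast Nat.card_pos
    have h2 : ‖∑ u ∈ s, χ (a * u)‖ ^ 2 ≤ (s.card : ℝ) * ∑ u ∈ s, ‖χ (a * u)‖ ^ 2 :=
      (pow_le_pow_left₀ (norm_nonneg _) (norm_sum_le _ _) 2).trans sq_sum_le_card_mul_sum_sq
    rw [hc] at h2
    rw [norm_mul, norm_inv, Complex.norm_natCast, mul_pow]
    calc ((Nat.card (H a) : ℝ)⁻¹) ^ 2 * ‖∑ u ∈ s, χ (a * u)‖ ^ 2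
        ≤ ((Nat.card (H a) : ℝ)⁻¹) ^ 2 * ((Nat.card (H a) : ℝ) * ∑ u ∈ s, ‖χ (a * u)‖ ^ 2) :=
          mul_le_mul_of_nonneg_left h2 (sq_nonneg _)
      _ = _ := by field_simp

end Cfsg.Agent.S1525
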