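import Cfsg.Statements.S1545
import Cfsg.Agent.Lib.Isometry.FrobeniusFixed
-- import your own Cfsg.Agent.* helpers here

set_option autoImplicit false
open Cfsg

namespace Cfsg.Agent.S1545

/-- Let X be a finite group with subgroups U, E and H such that U and E generate a subgroup UE = U ⊔ E normalising H, with U normal in UE, U ⊓ E = ⊥, U ≠ ⊥, E ≠ ⊥, every non-identity element of E commuting with no non-identity element of U (UE is a Frobenius group with kernel U acting on H by conjugation), H solvable, H ⊓ (U ⊔ E) = ⊥ and the orders of H and U ⊔ E coprime. Then Nat.card (H ⊓ C(U ⊔ E)) ^ Nat.card E * Nat.card H = Nat.card (H ⊓ C(E)) ^ Nat.card E * Nat.card (H ⊓ C(U)), where C(·) denotes the centraliser. -/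
theorem result {X : Type*} [Group X] [Finite X] (U E H : Subgroup X) (hU1 : U ≠ ⊥) (hE1 : E ≠ ⊥) (hUE : U ⊓ E = ⊥) (hUn : ∀ e ∈ E, ∀ u ∈ U, e * u * e⁻¹ ∈ U) (hfpf : ∀ e ∈ E, e ≠ 1 → ∀ u ∈ U, e * u = u * e → u = 1) (hHn : ∀ x ∈ U ⊔ E, ∀ h ∈ H, x * h * x⁻¹ ∈ H) (hdisj : H ⊓ (U ⊔ E) = ⊥) (hsolv : Group.IsSolvable H) (hcop : Nat.Coprime (Nat.card H) (Nat.card ↥(U ⊔ E))) : Nat.card ↥(H ⊓ Subgroup.centralizer ((U ⊔ E : Subgroup X) : Set X)) ^ Nat.card E * Nat.card H = Nat.card ↥(H ⊓ Subgroup.centralizer (E : Set X)) ^ Nat.card E * Nat.card ↥(H ⊓ Subgroup.centralizer (U : Set X)) := by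
  have hEU : E ≤ Subgroup.normalizer (U : Set X) :=
    Subgroup.le_normalizer_iff.2 fun e he u hu => hUn e he u hu
  have hUH : U ≤ Subgroup.normalizer (H : Set X) :=
    Subgroup.le_normalizer_iff.2 fun u hu h hh => hHn u (Subgroup.mem_sup_left hu) h hh
  have hEH : E ≤ Subgroup.normalizer (H : Set X) :=
    Subgroup.le_normalizer_iff.2 fun u hu h hh => hHn u (Subgroup.mem_sup_right hu) h hh
  haveI := Cfsg.Agent.Lib.OddLocal.FrobeniusAmbient.normal_subgroupOf_sup hEU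
  have hfix := fun (S : Subgroup X) (hS : S ≤ U ⊔ E) =>
    (Cfsg.Agent.Lib.OddLocal.FrobeniusAmbient.map_fixed hUH hEH hS)
  have h := Cfsg.Agent.Lib.Isometry.FrobeniusFixed.formula
    (Cfsg.Agent.Lib.OddLocal.FrobeniusAmbient.isComplement'_subgroupOf hUE hEU)
    (Cfsg.Agent.Lib.OddLocal.FrobeniusAmbient.fpf_subgroupOf fun e he he1 =>
      (Subgroup.eq_bot_iff_forall _).2 fun u hu => hfpf e he he1 u hu.1
        (Subgroup.mem_centralizer_singleton_iff.1 hu.2).symm)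
    _ H (Cfsg.Agent.Lib.OddLocal.FrobeniusAmbient.act hUH hEH) rfl hsolv hcop.symm
  rw [← hfix _ le_rfl, ← hfix _ le_sup_right, ← hfix _ le_sup_left]
  simp only [Subgroup.subgroupOf_self] at h ⊢
  simp only [Subgroup.card_map_of_injective H.subtype_injective]
  rw [← Nat.card_congr (Subgroup.subgroupOfEquivOfLe (le_sup_right : E ≤ U ⊔ E)).toEquiv]
  exact h

end Cfsg.Agent.S1545
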