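import Cfsg.Statements.S3736
import Cfsg.Agent.Lib.Coprime.Commutator
import Cfsg.Agent.Lib.PGroups.MaxAbelian
import Cfsg.Agent.Lib.PGroups.Frattini

set_option autoImplicit false
open Cfsg

namespace Cfsg.Agent.S3736

open Subgroup Cfsg.Agent.Lib.Coprime
open scoped Pointwise commutatorElement

theorem char_map_invariant {X : Type*} [Group X] {B P : Subgroup X}
    (hBP : B ≤ normalizer (P : Set X)) (H : Subgroup P) [H.Characteristic] :
    B ≤ normalizer ((H.map P.subtype : Subgroup X) : Set X) := by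
  refine (le_normalizer_iff.mpr ?_)
  intro b hb x hx
  obtain ⟨⟨y, hyP⟩, hy, rfl⟩ := hx
  exact ⟨⟨b * y * b⁻¹, (mem_normalizer_iff.mp (hBP hb) y).mp hyP⟩,
    Subgroup.characteristic_iff_map_le.mp inferInstance
      (P.normalizerMonoidHom ⟨b, hBP hb⟩) ⟨⟨y, hyP⟩, hy, rfl⟩, rfl⟩

/-- If `[P, A] = P`, a point fixed by `A` is killed by every map to an abelian group. -/
theorem hom_eq_one_of_fixed {X : Type*} [Group X] [Finite X] {p : ℕ} [Fact p.Prime]
    {A P : Subgroup X} (hP : IsPGroup p P) (hAP : A ≤ normalizer (P : Set X))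
    (hAp : (Nat.card A).Coprime p) (hPA : ⁅P, A⁆ = P) {M : Type*} [CommGroup M]
    (π : P →* M) (x : P) (hx : (x : X) ∈ centralizer (A : Set X)) : π x = 1 := by
  classical
  haveI : Fintype A := Fintype.ofFinite A
  let c : A → (P →* P) := fun a => (P.normalizerMonoidHom ⟨a, hAP a.2⟩).toMonoidHom
  have hc : ∀ (a : A) (y : P), ((c a y : P) : X) = a * y * (a : X)⁻¹ := fun a y => rfl
  let φ : P →* M :=
    { toFun := fun y => ∏ a : A, π (c a y)
      map_one' := by simp
      map_mul' := fun y z => by simp [Finset.prod_mul_distrib] }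
  have hinv : ∀ (a : A) (z : P), φ (c a z) = φ z := by
    intro a z
    refine Fintype.prod_equiv (Equiv.mulRight a) _ _ (fun b => ?_)
    show π (c b (c a z)) = π (c (b * a) z)
    congr 1
    apply Subtype.ext
    rw [hc, hc, hc, Subgroup.coe_mul]
    group
  have hker : P ≤ φ.ker.map P.subtype := by
    conv_lhs => rw [← hPA]
    rw [commutator_le]
    intro y hy a ha
    refine ⟨⟨y, hy⟩ * c ⟨a, ha⟩ ⟨y, hy⟩⁻¹, ?_, ?_⟩
    · show φ _ = 1
      rw [map_mul, hinv, map_inv, mul_inv_cancel]
    · simp only [coe_subtype, Subgroup.coe_mul, hc, commutatorElement_def, InvMemClass.coe_inv]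
      group
  have hφx : φ x = 1 := by
    obtain ⟨y, hy, hyx⟩ := hker x.2
    rwa [Subtype.ext hyx] at hy
  have hpow : π x ^ Nat.card A = 1 := by
    have h1 : φ x = ∏ _a : A, π x := by
      refine Finset.prod_congr rfl fun a _ => ?_
      congr 1
      apply Subtype.ext
      rw [hc, mem_centralizer_iff.mp hx a a.2, mul_inv_cancel_right]
    rw [Nat.card_eq_fintype_card, ← Finset.card_univ, ← Finset.prod_const, ← h1, hφx]
  obtain ⟨k, hk⟩ := hP x
  have h2 : π x ^ p ^ k = 1 := by rw [← map_pow, hk, map_one]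
  have := pow_gcd_eq_one.mpr ⟨hpow, h2⟩
  rwa [Nat.Coprime.pow_right k hAp, pow_one] at this

/-- The Hall–Higman reduction for a minimal non-trivial action. Let B, A and P be subgroups of a finite group with P a p-group, B normalizing P, and A a normal subgroup of B of order prime to p. Suppose A does not centralize P but centralizes every proper B-invariant subgroup of P. Then [P, A] = P; P is elementary abelian or special; B acts irreducibly on P/Φ(P), that is, the only B-invariant subgroups of P containing Φ(P) are Φ(P) and P; and if p is odd then every element of P has order dividing p. -/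
theorem result {X : Type*} [Group X] [Finite X] {p : ℕ} [Fact p.Prime] (B A P : Subgroup X) (hP : IsPGroup p P) (hBP : B ≤ Subgroup.normalizer (P : Set X)) (hAB : A ≤ B) (hAn : B ≤ Subgroup.normalizer (A : Set X)) (hAp : (Nat.card A).Coprime p) (hnt : ⁅P, A⁆ ≠ ⊥) (hmin : ∀ U : Subgroup X, U < P → B ≤ Subgroup.normalizer (U : Set X) → ⁅U, A⁆ = ⊥) : ⁅P, A⁆ = P ∧ (Cfsg.IsElementaryAbelian p P ∨ Cfsg.IsSpecial p ↥P) ∧ (∀ U : Subgroup X, (frattini ↥P).map P.subtype ≤ U → U ≤ P → B ≤ Subgroup.normalizer (U : Set X) → U = (frattini ↥P).map P.subtype ∨ U = P) ∧ (p ≠ 2 → ∀ x ∈ P, x ^ p = 1) := by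
  have hAP : A ≤ normalizer (P : Set X) := hAB.trans hBP
  have hcop : (Nat.card A).Coprime (Nat.card P) := by
    obtain ⟨n, hn⟩ := IsPGroup.iff_card.mp hP
    rw [hn]
    exact Nat.Coprime.pow_right n hAp
  have hPsol : Group.IsSolvable A ∨ Group.IsSolvable P := Or.inr (isSolvable_of_isPGroup hP)
  have hPA : ⁅P, A⁆ = P := by
    by_contra hne
    have hlt : ⁅P, A⁆ < P := lt_of_le_of_ne (commutator_le_of_le_normalizer hAP) hne
    have hB : B ≤ normalizer ((⁅P, A⁆ : Subgroup X) : Set X) := by
      intro b hb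
      apply mem_normalizer_of_conj_smul_eq
      rw [conj_smul_eq_map, map_commutator, ← conj_smul_eq_map, ← conj_smul_eq_map,
        conj_smul_eq_self_of_mem_normalizer (hBP hb),
        conj_smul_eq_self_of_mem_normalizer (hAn hb)]
    exact hnt ((commutator_commutator_eq hAP hcop hPsol).symm.trans (hmin _ hlt hB))
  have hcentral : ∀ N : Subgroup X, N ≤ P → P ≤ normalizer (N : Set X) → ⁅N, A⁆ = ⊥ →
      ⁅P, N⁆ = ⊥ := by
    intro N hN hPN hNA
    have h := commutator_commutator_eq_bot_of_rotate (H₁ := A) (H₂ := P) (H₃ := N) ?_ ?_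
    · rwa [commutator_comm A P, hPA] at h
    · rw [eq_bot_iff, ← hNA]
      refine commutator_mono ?_ le_rfl
      rw [commutator_comm]
      exact commutator_le_of_le_normalizer hPN
    · rw [hNA]; exact commutator_bot_left P
  let C : Subgroup P := (P ⊓ centralizer (A : Set X)).subgroupOf P
  have hmemC : ∀ H : Subgroup P, H.Characteristic → H ≠ ⊤ → H ≤ C := by
    intro H hH hne
    have hlt : H.map P.subtype < P := by
      refine lt_of_le_of_ne (map_subtype_le H) fun h => hne ?_
      apply map_injective P.subtype_injective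
      rw [h, ← MonoidHom.range_eq_map, range_subtype]
    have := hmin _ hlt (char_map_invariant hBP H)
    rw [commutator_eq_bot_iff_le_centralizer] at this
    exact fun x hx => mem_inf.mpr ⟨x.2, this (mem_map_of_mem _ hx)⟩
  have hPne : P ≠ ⊥ := by rintro rfl; exact hnt (commutator_bot_left A)
  haveI : Nontrivial P := P.nontrivial_iff_ne_bot.mpr hPne
  have hΦne : frattini (P : Type _) ≠ ⊤ := fun h => by
    have hb := frattini_nongenerating (show (⊥ : Subgroup P) ⊔ frattini P = ⊤ by rw [h, bot_sup_eq])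
    exact bot_ne_top hb
  have hΦC : frattini (P : Type _) ≤ C := hmemC _ inferInstance hΦne
  have hΦZ : frattini (P : Type _) ≤ center P := by
    have hΦA : ⁅(frattini (P : Type _)).map P.subtype, A⁆ = ⊥ := by
      rw [commutator_eq_bot_iff_le_centralizer]
      rintro _ ⟨x, hx, rfl⟩
      exact (mem_inf.mp (hΦC hx)).2
    have := hcentral _ (map_subtype_le _) (char_map_invariant le_normalizer _) hΦA
    intro x hx
    rw [mem_center_iff]
    intro y
    apply Subtype.ext
    have h1 : ⁅(y : X), (x : X)⁆ = 1 := by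
      rw [← mem_bot, ← this]
      exact commutator_mem_commutator y.2 (mem_map_of_mem P.subtype hx)
    exact commutatorElement_eq_one_iff_mul_comm.mp h1
  have hCcomm : C ≤ commutator P := by
    intro x hx
    have := hom_eq_one_of_fixed hP hAP hAp hPA (Abelianization.of (G := P)) x (mem_inf.mp hx).2
    rw [← Abelianization.ker_of]
    exact this
  have hcommΦ : commutator (P : Type _) ≤ frattini P := Cfsg.Agent.Lib.PGroups.commutator_le_frattini hP
  have hCΦ : C ≤ frattini (P : Type _) := hCcomm.trans hcommΦ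
  have hexp : p ≠ 2 → ∀ x : P, x ^ p = 1 := by
    intro hp2 x
    have hodd : p ∣ p.choose 2 :=
      (Fact.out : p.Prime).dvd_choose_self two_ne_zero
        (lt_of_le_of_ne (Fact.out : p.Prime).two_le hp2.symm)
    have hzc : ∀ z : P, z ∈ frattini (P : Type _) → ∀ y : P, Commute y z := fun z hz y =>
      mem_center_iff.mp (hΦZ hz) y
    have hcomm : ∀ y z : P, ⁅y, z⁆ ^ p = 1 := by
      intro y z
      have hc : Commute y ⁅y, z⁆ ∧ Commute z ⁅y, z⁆ :=
        ⟨hzc _ (Cfsg.Agent.Lib.PGroups.commutatorElement_mem_frattini hP y z) y,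
          hzc _ (Cfsg.Agent.Lib.PGroups.commutatorElement_mem_frattini hP y z) z⟩
      have key : ∀ n : ℕ, ⁅y, z⁆ ^ n = ⁅y ^ n, z⁆ := by
        intro n
        induction n with
        | zero => simp [commutatorElement_def]
        | succ n ih =>
          rw [pow_succ, ih, commutatorElement_def, commutatorElement_def, commutatorElement_def]
          have h1 : y ^ n * z * (y ^ n)⁻¹ * z⁻¹ * (y * z * y⁻¹ * z⁻¹) =
              y ^ n * (z * (y ^ n)⁻¹ * z⁻¹) * (y * z * y⁻¹ * z⁻¹) := by group
          have h2 : Commute (z * (y ^ n)⁻¹ * z⁻¹) (y * z * y⁻¹ * z⁻¹) := by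
            rw [← commutatorElement_def]
            exact ((hc.2.mul_left (hc.1.pow_left n).inv_left).mul_left hc.2.inv_left)
          rw [h1, mul_assoc (y ^ n), h2.eq]
          group
      rw [key, commutatorElement_eq_one_iff_commute]
      exact ((hzc _ (Cfsg.Agent.Lib.PGroups.pow_mem_frattini hP y) z).symm)
    let π : P →* center P :=
      { toFun := fun y => ⟨y ^ p, hΦZ (Cfsg.Agent.Lib.PGroups.pow_mem_frattini hP y)⟩
        map_one' := Subtype.ext (one_pow p)
        map_mul' := fun y z => by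
          apply Subtype.ext
          show (y * z) ^ p = y ^ p * z ^ p
          rw [Cfsg.Agent.Lib.PGroups.mul_pow_of_central_commutator y z
            (hzc _ (Cfsg.Agent.Lib.PGroups.commutatorElement_mem_frattini hP z y) y)
            (hzc _ (Cfsg.Agent.Lib.PGroups.commutatorElement_mem_frattini hP z y) z)]
          obtain ⟨k, hk⟩ := hodd
          rw [hk, pow_mul, hcomm, one_pow, mul_one] }
    have hker : P ≤ π.ker.map P.subtype := by
      conv_lhs => rw [← hPA]
      rw [commutator_le]
      intro y hy a ha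
      have hmem : ⁅y, a⁆ ∈ P := commutator_le_of_le_normalizer hAP (commutator_mem_commutator hy ha)
      refine ⟨⟨⁅y, a⁆, hmem⟩, ?_, rfl⟩
      have hw : a * y⁻¹ * a⁻¹ ∈ P := (mem_normalizer_iff.mp (hAP ha) _).mp (inv_mem hy)
      show π _ = 1
      have h1 : (⟨⁅y, a⁆, hmem⟩ : P) = ⟨y, hy⟩ * ⟨a * y⁻¹ * a⁻¹, hw⟩ := by
        apply Subtype.ext
        show ⁅y, a⁆ = y * (a * y⁻¹ * a⁻¹)
        rw [commutatorElement_def]; group
      rw [h1, map_mul, mul_eq_one_iff_eq_inv, ← map_inv]
      apply Subtype.ext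
      apply Subtype.ext
      show y ^ p = ((⟨a * y⁻¹ * a⁻¹, hw⟩⁻¹ : P) ^ p : X)
      have h2 : a * y ^ p = y ^ p * a := by
        have hm := (mem_inf.mp (hΦC (Cfsg.Agent.Lib.PGroups.pow_mem_frattini hP ⟨y, hy⟩))).2
        simpa using mem_centralizer_iff.mp hm a ha
      calc y ^ p = a * y ^ p * a⁻¹ := by rw [h2, mul_inv_cancel_right]
        _ = (a * y * a⁻¹) ^ p := by rw [conj_pow]
        _ = _ := by congr 1; simp [mul_assoc]
    obtain ⟨y, hy, hyx⟩ := hker x.2
    obtain rfl : y = x := Subtype.ext hyx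
    exact congrArg Subtype.val hy
  refine ⟨hPA, ?_, ?_, fun hp2 x hx => by simpa using congrArg Subtype.val (hexp hp2 ⟨x, hx⟩)⟩
  · by_cases hab : center (P : Type _) = ⊤
    · left
      haveI hcomm : IsMulCommutative P :=
        ⟨⟨fun a b => (mem_center_iff.mp (hab ▸ mem_top b) a)⟩⟩
      refine ⟨hcomm, fun a ha => ?_⟩
      have hbot : commutator (P : Type _) = ⊥ := by
        rw [commutator_def, commutator_eq_bot_iff_le_centralizer]
        intro a _
        rw [mem_centralizer_iff]
        exact fun b _ => hcomm.is_comm.comm b a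
      have h1 : (⟨a, ha⟩ : P) ^ p ∈ (⊥ : Subgroup P) :=
        hbot ▸ hCcomm (hΦC (Cfsg.Agent.Lib.PGroups.pow_mem_frattini hP ⟨a, ha⟩))
      simpa using congrArg Subtype.val (mem_bot.mp h1)
    · right
      have hZC : center (P : Type _) ≤ C := hmemC _ inferInstance hab
      exact ⟨hP, le_antisymm hΦZ (hZC.trans hCΦ),
        le_antisymm (hcommΦ.trans hΦZ) (hZC.trans hCcomm)⟩
  · intro U hΦU hUP hBU
    by_cases hU : U = P
    · exact Or.inr hU
    left
    refine le_antisymm ?_ hΦU
    have h0 := commutator_eq_bot_iff_le_centralizer.mp (hmin U (lt_of_le_of_ne hUP hU) hBU)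
    exact fun x hx => ⟨⟨x, hUP hx⟩, hCΦ (mem_inf.mpr ⟨hUP hx, h0 hx⟩), rfl⟩

end Cfsg.Agent.S3736
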