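import Cfsg.Statements.S1463
import Cfsg.Agent.Lib.OddLocal.GL2Odd

set_option autoImplicit false
open scoped MatrixGroups
open Cfsg

namespace Cfsg.Agent.S1463

/-- Let F be a field of odd characteristic p and H a finite subgroup of odd order of GL(2, F) that leaves no 1-dimensional subspace of F² invariant. Then p does not divide the order of H. -/
theorem result {F : Type*} [Field F] (p : ℕ) [Fact p.Prime] [CharP F p] (hp : p ≠ 2)
    (H : Subgroup (GL (Fin 2) F)) [Finite H] (hodd : Odd (Nat.card H))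
    (hirr : ∀ v : Fin 2 → F, v ≠ 0 → ∃ g ∈ H, (g : Matrix (Fin 2) (Fin 2) F).mulVec v ∉ Submodule.span F {v}) :
    ¬ p ∣ Nat.card H := by
  intro hdvd
  let d : H →* F := Matrix.detMonoidHom.comp ((Units.coeHom _).comp H.subtype)
  let X : Subgroup H := d.ker
  let φ : X →* Matrix (Fin 2) (Fin 2) F := ((Units.coeHom _).comp H.subtype).comp X.subtype
  have hinj : Function.Injective φ := fun a b hab => Subtype.ext (Subtype.ext (Units.ext hab))
  have hdet : ∀ g, (φ g).det = 1 := fun g => MonoidHom.mem_ker.mp g.2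
  have hoX : Odd (Nat.card X) := hodd.of_dvd_nat X.card_subgroup_dvd_card
  obtain ⟨u, hu⟩ := exists_prime_orderOf_dvd_card' (G := H) p hdvd
  have hup : u ^ p = 1 := orderOf_dvd_iff_pow_eq_one.mp hu.dvd
  have huX : ∀ g : H, g ^ p = 1 → g ∈ X := by
    intro g hg
    rw [MonoidHom.mem_ker]
    refine frobenius_inj F p ?_
    simp only [frobenius_def, ← map_pow, hg, map_one, one_pow]
  let u' : X := ⟨u, huX u hup⟩
  have hu'1 : u' ≠ 1 := fun h => (Fact.out : p.Prime).ne_one (by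
    rw [← hu, show u = 1 from congrArg Subtype.val h, orderOf_one])
  have hu'p : u' ^ p = 1 := Subtype.ext hup
  have hφ1 : φ u' ≠ 1 := fun h => hu'1 (hinj (by rw [h, map_one]))
  obtain ⟨v, hv0, hv⟩ : ∃ v : Fin 2 → F, v ≠ 0 ∧ Matrix.mulVec (φ u') v = v := by
    have ht := (Cfsg.Agent.Lib.OddLocal.GL2Odd.pow_eq_one_iff_trace p hp hoX φ hinj hdet).mp hu'p
    have hd : (φ u' - 1).det = 0 := by
      have hdu := hdet u'
      rw [Matrix.trace_fin_two] at ht
      simp [Matrix.det_fin_two] at hdu ⊢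
      linear_combination hdu - ht
    obtain ⟨v, hv0, hv⟩ := Matrix.exists_mulVec_eq_zero_iff.mpr hd
    exact ⟨v, hv0, by rwa [Matrix.sub_mulVec, Matrix.one_mulVec, sub_eq_zero] at hv⟩
  obtain ⟨g, hg, hgv⟩ := hirr v hv0
  apply hgv
  let g' : H := ⟨g, hg⟩
  have hconj : (g'⁻¹ * u * g') ^ p = 1 := by
    have := conj_pow (a := g'⁻¹) (b := u) (i := p)
    rw [inv_inv] at this
    rw [this, hup, mul_one, inv_mul_cancel]
  have hfix := Cfsg.Agent.Lib.OddLocal.GL2Odd.unipotent_fix_common p hp hoX φ hinj hdet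
    (w := ⟨g'⁻¹ * u * g', huX _ hconj⟩) hu'1 hu'p (Subtype.ext hconj) hv
  refine Cfsg.Agent.Lib.OddLocal.GL2Odd.fixed_mem_span hφ1 hv0 hv ?_
  change Matrix.mulVec ((g'⁻¹ * u * g' : H) : GL (Fin 2) F).1 v = v at hfix
  conv_rhs => rw [← hfix]
  rw [Matrix.mulVec_mulVec, Matrix.mulVec_mulVec]
  congr 1
  simp only [Subgroup.coe_mul, Subgroup.coe_inv, Units.val_mul]
  change (u : GL (Fin 2) F).1 * g.1 = g.1 * (((g⁻¹ : GL (Fin 2) F)).1 * (u : GL (Fin 2) F).1 * g.1)
  rw [← mul_assoc, ← mul_assoc, ← Units.val_mul g g⁻¹, mul_inv_cancel, Units.val_one, one_mul]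

end Cfsg.Agent.S1463
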