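import Cfsg.Statements.S1250
import Cfsg.Agent.Lib.Fusion.Alperin

set_option autoImplicit false
open Cfsg

namespace Cfsg.Agent.S1250

/-- Let S be a Sylow p-subgroup of the finite group G, A ≤ S strongly closed in S, and N a normal subgroup. Then the image of A in G ⧸ N is strongly closed in the image of S (which is a Sylow p-subgroup of G ⧸ N). -/
theorem result {G : Type*} [Group G] [Finite G] {p : ℕ} [Fact p.Prime] (S : Sylow p G) (A : Subgroup G) (hA : Cfsg.IsStronglyClosed A (S : Subgroup G)) (N : Subgroup G) [N.Normal] : Cfsg.IsStronglyClosed (A.map (QuotientGroup.mk' N)) ((S : Subgroup G).map (QuotientGroup.mk' N)) := by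
  open Cfsg.Agent.Lib.Fusion.Alperin in
  · refine ⟨Subgroup.map_mono hA.1, ?_⟩
    rintro _ ⟨a, ha, rfl⟩ q hq
    obtain ⟨g, rfl⟩ := QuotientGroup.mk'_surjective N q
    rw [← map_inv, ← map_mul, ← map_mul] at hq ⊢
    set M := (S : Subgroup G) ⊔ N with hM
    have hmemM : g * a * g⁻¹ ∈ M := by
      have : g * a * g⁻¹ ∈ ((S : Subgroup G).map (QuotientGroup.mk' N)).comap (QuotientGroup.mk' N) := hq
      rwa [Subgroup.comap_map_eq, QuotientGroup.ker_mk'] at this
    have hp : IsPGroup p (Subgroup.zpowers (g * a * g⁻¹)) := by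
      refine ((S.2.to_le hA.1).map (MulAut.conj g).toMonoidHom).to_le ?_
      rw [Subgroup.zpowers_le]
      exact ⟨a, ha, by simp⟩
    obtain ⟨m, hm, hmle⟩ := exists_conj_le_of_maximal (N := M) S.2 le_sup_left
      (fun U hU _ hle => S.3 hU hle) hp (Subgroup.zpowers_le.2 hmemM)
    have hcS := hmle (conj_mem_conjS (Subgroup.mem_zpowers (g * a * g⁻¹)))
    rw [hM, ← SetLike.mem_coe, Subgroup.mul_normal] at hm
    obtain ⟨s, hs, n, hn, rfl⟩ := hm
    have hnS : (n * g) * a * (n * g)⁻¹ ∈ (S : Subgroup G) := by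
      have := (S : Subgroup G).mul_mem ((S : Subgroup G).mul_mem ((S : Subgroup G).inv_mem hs) hcS) hs
      simpa [mul_assoc] using this
    refine ⟨_, hA.2 a ha (n * g) hnS, ?_⟩
    have hn1 : QuotientGroup.mk' N n = 1 := (QuotientGroup.eq_one_iff n).2 hn
    simp [map_mul, map_inv, hn1]
    

end Cfsg.Agent.S1250
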