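import Cfsg.Statements.S1457
import Cfsg.Agent.Lib.OddLocal.PStable
import Cfsg.Agent.Lib.PSolvable.HallHigman

set_option autoImplicit false
open Cfsg

namespace Cfsg.Agent.S1457

/-- Let G be a solvable group of odd order, p a prime, S a Sylow p-subgroup of G and A an abelian subgroup of S normal in S. Then A ≤ O_{p',p}(G). -/
theorem result {G : Type*} [Group G] [Finite G] [Group.IsSolvable G] (hodd : Odd (Nat.card G)) (p : ℕ) [Fact p.Prime] (S : Sylow p G) (A : Subgroup G) (hA : A ≤ (S : Subgroup G)) (hAc : IsMulCommutative A)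
    (hAn : (S : Subgroup G) ≤ Subgroup.normalizer (A : Set G)) :
    A ≤ Cfsg.pPrimePCore p G := by
  open Cfsg.Agent.Lib.OddLocal.PStable in
  by_cases hp2 : p = 2
  · subst hp2
    have hS : (S : Subgroup G) = ⊥ := by
      obtain ⟨n, hn⟩ := IsPGroup.iff_card.mp S.isPGroup'
      rcases Nat.eq_zero_or_pos n with h0 | h0
      · exact Subgroup.eq_bot_of_card_eq _ (by rw [hn, h0, pow_zero])
      · have h2 : 2 ∣ Nat.card G :=
          (dvd_pow_self 2 h0.ne').trans (hn ▸ Subgroup.card_subgroup_dvd_card (S : Subgroup G))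
        exact absurd (even_iff_two_dvd.mpr h2) (Nat.not_even_iff_odd.mpr hodd)
    intro x hx
    have := hA hx
    rw [hS, Subgroup.mem_bot] at this
    rw [this]
    exact one_mem _
  intro x hx
  let f := QuotientGroup.mk' (Cfsg.pPrimeCore p G)
  have hodd' : Odd (Nat.card (G ⧸ Cfsg.pPrimeCore p G)) :=
    hodd.of_dvd_nat (Subgroup.card_quotient_dvd_card _)
  have hC : Subgroup.centralizer ((Cfsg.pCore p (G ⧸ Cfsg.pPrimeCore p G) : Subgroup _) :
      Set (G ⧸ Cfsg.pPrimeCore p G)) ≤ Cfsg.pCore p (G ⧸ Cfsg.pPrimeCore p G) :=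
    Cfsg.Agent.Lib.PSolvable.centralizer_pCore_le Cfsg.Agent.Lib.PSolvable.isPSolvable_of_isSolvable
      (Cfsg.Agent.Lib.PSolvable.pPrimeCore_quotient_eq_bot _ rfl)
  refine mem_pCore_of_quad_of_centralizer hodd' hp2 (Cfsg.pCore p (G ⧸ Cfsg.pPrimeCore p G))
    (Cfsg.Agent.Lib.Cores.pCore_isPGroup p) ((Cfsg.Agent.Lib.Cores.pCore_isPGroup p).to_le hC)
    (x := f x) ?_
  haveI := hAc
  refine isQuad_of_abelian (A := A.map f) inferInstance ?_ (Subgroup.mem_map_of_mem f hx)
  refine le_trans ?_ ((Subgroup.map_mono hAn).trans (Subgroup.le_normalizer_map f))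
  exact (Cfsg.Agent.Lib.Cores.pCore_le_sylow (S.mapSurjective (f := f) (QuotientGroup.mk'_surjective _))).trans
    (le_of_eq (Sylow.coe_mapSurjective _ _))

end Cfsg.Agent.S1457
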