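import Cfsg.Statements.S1127
import Cfsg.Agent.Lib.RankOne.Basic

set_option autoImplicit false
open Cfsg Cfsg.Agent.Lib.RankOne.Basic Cfsg.Agent.Lib.RankOne.Involution
open scoped Pointwise

namespace Cfsg.Agent.S1127

/-- In the rank-one set-up (`G` finite and doubly transitive on `Ω`, `t` an involution moving `a`, `Q` normal in `G_a` with `G_a = Q D`, `Q ⊓ D = 1` for the two-point stabiliser `D = G_a ⊓ G_{t • a}`, `|Q|` even, `|D|` odd): if `s` is an involution of `G_a` and `r ∈ Q` satisfy `t s t = r⁻¹ t r`, then `C_D(t) = C_D(s)`; moreover `C_D(t) ⊓ C_D(K) = C_D(I ∩ G_a)`, where `K` is the set of elements of `D` inverted by `t` and `I ∩ G_a` the set of involutions of `G_a`. -/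
theorem result {G Ω : Type*} [Group G] [Finite G] [MulAction G Ω] {a : Ω} {t : G} {Q : Subgroup G}
    (hS : Cfsg.IsRankOneSetup G Ω a t Q) :
    (∀ s r : G, s ∈ Cfsg.involutionsIn (MulAction.stabilizer G a : Set G) → r ∈ Q → t * s * t = r⁻¹ * t * r →
        (MulAction.stabilizer G a ⊓ MulAction.stabilizer G (t • a)) ⊓ Subgroup.centralizer {t} = (MulAction.stabilizer G a ⊓ MulAction.stabilizer G (t • a)) ⊓ Subgroup.centralizer {s}) ∧
      (MulAction.stabilizer G a ⊓ MulAction.stabilizer G (t • a)) ⊓ Subgroup.centralizer {t} ⊓ Subgroup.centralizer (Cfsg.invertedBy (MulAction.stabilizer G a ⊓ MulAction.stabilizer G (t • a)) t) =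
        (MulAction.stabilizer G a ⊓ MulAction.stabilizer G (t • a)) ⊓ Subgroup.centralizer (Cfsg.involutionsIn (MulAction.stabilizer G a : Set G)) := by
  constructor
  · intro s r hs hr h
    ext d
    simp only [Subgroup.mem_inf, Subgroup.mem_centralizer_singleton_iff]
    refine and_congr_right fun hd => ?_
    have key := centralizer_t_eq hS hs hr h (Subgroup.mem_inf.2 hd)
    rw [mul_inv_eq_iff_eq_mul, mul_inv_eq_iff_eq_mul] at key
    exact ⟨fun h' => key.1 h'.symm, fun h' => (key.2 h').symm⟩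
  · obtain ⟨⟨s, r⟩, ⟨hs, hr, h⟩, -⟩ := structure_equation hS
    simp only at hs hr h
    ext d
    constructor
    · rintro ⟨hdt, hdK⟩
      obtain ⟨hd, hdt⟩ := (centralizer_t_iff hS).1 hdt
      refine ⟨hd, Subgroup.mem_centralizer_iff.2 fun s' hs' => ?_⟩
      obtain ⟨k, ⟨hk, rfl⟩, -⟩ := existsUnique_K hS hs hs'
      have h1 := (centralizer_t_eq hS hs hr h hd).1 hdt
      rw [mul_inv_eq_iff_eq_mul] at h1
      have h2 : Commute d k := (Subgroup.mem_centralizer_iff.1 hdK k hk).symm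
      exact (((h2.mul_right h1).mul_right h2.inv_right)).eq.symm
    · rintro ⟨hd, hdI⟩
      have hds : ∀ s' ∈ Cfsg.involutionsIn (MulAction.stabilizer G a : Set G), d * s' * d⁻¹ = s' := by
        intro s' hs'
        rw [mul_inv_eq_iff_eq_mul]
        exact (Subgroup.mem_centralizer_iff.1 hdI s' hs').symm
      have hdt := (centralizer_t_eq hS hs hr h hd).2 (hds s hs)
      refine ⟨(centralizer_t_iff hS).2 ⟨hd, hdt⟩, Subgroup.mem_centralizer_iff.2 fun k hk => ?_⟩
      have hk' : d * k * d⁻¹ ∈ Cfsg.invertedBy (twoStab G a t) t :=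
        ⟨Subgroup.mul_mem _ (Subgroup.mul_mem _ hd hk.1) (Subgroup.inv_mem _ hd), by
          calc t * (d * k * d⁻¹) * t⁻¹ = (t * d * t⁻¹) * (t * k * t⁻¹) * (t * d * t⁻¹)⁻¹ := by group
            _ = d * k⁻¹ * d⁻¹ := by rw [hdt, hk.2]
            _ = _ := by group⟩
      have hks := inverted_conj_mem hS hs hk.1.1
      have h2 : d * k * d⁻¹ * s * (d * k * d⁻¹)⁻¹ = k * s * k⁻¹ := by
        calc d * k * d⁻¹ * s * (d * k * d⁻¹)⁻¹ = d * k * d⁻¹ * (d * s * d⁻¹) * (d * k * d⁻¹)⁻¹ := by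
              rw [hds s hs]
          _ = d * (k * s * k⁻¹) * d⁻¹ := by group
          _ = _ := hds _ hks
      have := (existsUnique_K hS hs hks).unique ⟨hk', h2⟩ ⟨hk, rfl⟩
      rw [mul_inv_eq_iff_eq_mul] at this
      exact this.symm

end Cfsg.Agent.S1127
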