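import Cfsg.Statements.S1137
import Cfsg.Agent.Lib.Suzuki2.Basic

set_option autoImplicit false
open Cfsg Cfsg.Agent.Lib.Suzuki2.Basic

namespace Cfsg.Agent.S1137

/-- In a Suzuki 2-group `P` (a finite non-abelian 2-group with more than one involution admitting a cyclic group of automorphisms regular on its involutions) the involutions are exactly the non-identity central elements, and `Z(P)` is elementary abelian. -/
theorem result {P : Type*} [Group P] (hP : Cfsg.IsSuzukiTwoGroup P) :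
    (∀ x : P, (x ≠ 1 ∧ x * x = 1) ↔ (x ∈ Subgroup.center P ∧ x ≠ 1)) ∧
      ∀ z ∈ Subgroup.center P, z * z = 1 := by
  obtain ⟨hfin, h2, hnc, -, K, hcyc, htrans⟩ := hP
  haveI := hfin
  have hK : TransInvol K := by
    refine ⟨fun k hk l hl => ?_, fun x y hx hx2 hy hy2 => ?_⟩
    · have : IsMulCommutative K := inferInstance
      exact congrArg Subtype.val (mul_comm' (⟨k, hk⟩ : K) ⟨l, hl⟩)
    · obtain ⟨⟨k, hk⟩, h, -⟩ := htrans x y hx hx2 hy hy2
      exact ⟨k, hk, h⟩
  have hz : ∀ z ∈ Subgroup.center P, z * z = 1 := fun z h => center_sq_eq_one h2 hK hnc h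
  exact ⟨fun x => ⟨fun ⟨h1, hx⟩ => ⟨involution_central h2 hK hx, h1⟩, fun ⟨h, h1⟩ => ⟨h1, hz x h⟩⟩, hz⟩

end Cfsg.Agent.S1137
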