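import Cfsg.Statements.S1138
import Cfsg.Agent.Lib.Suzuki2.ClassTwo.Orders

set_option autoImplicit false
open Cfsg

namespace Cfsg.Agent.S1138

/-- Let `P` be a Suzuki 2-group with `|Z(P)| = q`. Then every square lies in `Z(P)` and `P/Z(P)` is abelian (so elementary abelian), `|P| = q²` or `|P| = q³`, and `P` has exponent 4. -/
theorem result {P : Type*} [Group P] (hP : Cfsg.IsSuzukiTwoGroup P) :
    (∀ x : P, x * x ∈ Subgroup.center P) ∧ (∀ x y : P, x⁻¹ * y⁻¹ * x * y ∈ Subgroup.center P) ∧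
      (Nat.card P = Nat.card (Subgroup.center P) ^ 2 ∨ Nat.card P = Nat.card (Subgroup.center P) ^ 3) ∧
      Monoid.exponent P = 4 := by
  obtain ⟨hfin, h2, hnc, htwo, K, hcyc, htrans⟩ := hP
  haveI := hfin
  have hK : Lib.Suzuki2.ClassTwo.RegInvol K := by
    refine ⟨h2, ⟨fun k hk l hl => ?_, fun x y hx hx2 hy hy2 => ?_⟩, fun k hk x hx hx2 hkx => ?_, hnc, htwo⟩
    · have : IsMulCommutative K := inferInstance
      exact congrArg Subtype.val (mul_comm' (⟨k, hk⟩ : K) ⟨l, hl⟩)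
    · obtain ⟨⟨k, hk⟩, h, -⟩ := htrans x y hx hx2 hy hy2
      exact ⟨k, hk, h⟩
    · obtain ⟨l, hl, huniq⟩ := htrans x x hx hx2 hx hx2
      exact congrArg Subtype.val ((huniq ⟨k, hk⟩ hkx).trans (huniq 1 rfl).symm)
  refine ⟨hK.sq_mem_center, fun x y => ?_, hK.card_eq, ?_⟩
  · have := hK.comm_mem_center x⁻¹ y⁻¹
    simpa [commutatorElement_def] using this
  · have h4 : ∀ x : P, x ^ 4 = 1 := fun x => by
      rw [show x ^ 4 = x * x * (x * x) by simp [pow_succ, mul_assoc]]
      exact hK.mem_center_iff.1 (hK.sq_mem_center x)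
    have hd : Monoid.exponent P ∣ 2 ^ 2 := Monoid.exponent_dvd_of_forall_pow_eq_one h4
    obtain ⟨i, hi, he⟩ := (Nat.dvd_prime_pow Nat.prime_two).1 hd
    rcases eq_or_lt_of_le hi with rfl | hlt
    · simpa using he
    · exfalso
      obtain ⟨x, y, hxy⟩ := hnc
      have h2' : ∀ z : P, z ^ 2 = 1 := fun z => by
        have h5 := Monoid.pow_exponent_eq_one z
        rw [he] at h5
        interval_cases i <;> simp_all
      exact hxy (Subgroup.mem_center_iff.1 (hK.mem_center_iff.2 (by rw [← sq]; exact h2' y)) x)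

end Cfsg.Agent.S1138
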