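import Cfsg.Statements.S1134
import Cfsg.Agent.Lib.RankOne.Basic

set_option autoImplicit false
open Cfsg Cfsg.Agent.Lib.RankOne.Basic Cfsg.Agent.Lib.RankOne.Involution
open scoped Pointwise

namespace Cfsg.Agent.S1134

/-- In the rank-one set-up (`G` finite and doubly transitive on `Ω`, `t` an involution moving `a`, `Q` normal in `G_a` with `G_a = Q D`, `Q ⊓ D = 1` for the two-point stabiliser `D = G_a ⊓ G_{t • a}`, `|Q|` even, `|D|` odd), with the action faithful and `G` containing two distinct commuting involutions, with `V = C_D(t)`: subsets of `V` conjugate in `G` are conjugate in `V`. -/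
theorem result {G Ω : Type*} [Group G] [Finite G] [MulAction G Ω] [FaithfulSMul G Ω] {a : Ω} {t : G} {Q : Subgroup G}
    (hS : Cfsg.IsRankOneSetup G Ω a t Q)
    (h2 : ∃ x y : G, x ≠ 1 ∧ y ≠ 1 ∧ x ≠ y ∧ x * x = 1 ∧ y * y = 1 ∧ x * y = y * x)
    (X : Set G) (hX : X ⊆ (((MulAction.stabilizer G a ⊓ MulAction.stabilizer G (t • a)) ⊓ Subgroup.centralizer {t} : Subgroup G) : Set G)) (g : G)
    (hY : (fun x => g * x * g⁻¹) '' X ⊆ (((MulAction.stabilizer G a ⊓ MulAction.stabilizer G (t • a)) ⊓ Subgroup.centralizer {t} : Subgroup G) : Set G)) :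
    ∃ v ∈ (MulAction.stabilizer G a ⊓ MulAction.stabilizer G (t • a)) ⊓ Subgroup.centralizer {t}, (fun x => v * x * v⁻¹) '' X = (fun x => g * x * g⁻¹) '' X := by
  obtain ⟨g', hg', hgD⟩ : ∃ g', (∀ x ∈ X, g' * x * g'⁻¹ = g * x * g⁻¹) ∧ g' ∈ twoStab G a t := by
    have haX : ∀ x ∈ X, x • a = a ∧ x • (t • a) = t • a := fun x hx => ((hX hx).1 :)
    obtain ⟨c, hc1, hct, -⟩ : ∃ c, c ≠ a ∧ t • c = c ∧ c ≠ t • a := by
      obtain ⟨c, hc, -⟩ := exists_fixed hS hS.ne_one hS.mul_self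
      refine ⟨c, fun h => t_smul_ne hS (h ▸ hc), hc, fun h => t_smul_ne hS ?_⟩
      rw [h, tt_smul hS] at hc
      exact hc.symm
    have hXD : X ⊆ (twoStab G a t : Set G) := fun x hx => (hX hx).1
    have h3 : ∃ b c d : Ω, b ≠ c ∧ b ≠ d ∧ c ≠ d ∧ ∀ x ∈ X, x • b = b ∧ x • c = c ∧ x • d = d := by
      refine ⟨a, t • a, c, (t_smul_ne hS).symm, hc1.symm, fun h => ?_, fun x hx => ⟨(haX x hx).1, (haX x hx).2, ?_⟩⟩
      · rw [← h, tt_smul hS] at hct
        exact hc1 (h.symm.trans hct.symm)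
      · obtain ⟨c₀, -, hu⟩ := exists_fixed hS hS.ne_one hS.mul_self
        have h := (Subgroup.mem_centralizer_singleton_iff.1 (hX hx).2)
        rw [hu c hct]
        exact hu _ (by rw [← hu c hct, ← mul_smul, ← h, mul_smul, hct])
    have hback : ∀ p : Ω, (∀ x ∈ X, (g * x * g⁻¹) • p = p) → g⁻¹ • p ∈ fixedSet X Ω := by
      intro p hp x hx
      rw [eq_inv_smul_iff, ← mul_smul, ← mul_smul]
      exact hp x hx
    obtain ⟨h, hh, hha, hhb⟩ := centralizer_two_trans hS hXD h3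
      (show a ∈ fixedSet X Ω from fun x hx => (haX x hx).1)
      (show t • a ∈ fixedSet X Ω from fun x hx => (haX x hx).2)
      (hback a fun x hx => (hY ⟨x, hx, rfl⟩).1.1)
      (hback (t • a) fun x hx => (hY ⟨x, hx, rfl⟩).1.2) (t_smul_ne hS).symm
      (fun h => t_smul_ne hS (smul_left_cancel g⁻¹ h).symm)
    refine ⟨g * h, fun x hx => ?_, ?_⟩
    · rw [show g * h * x * (g * h)⁻¹ = g * (h * x * h⁻¹) * g⁻¹ by group,
        (mul_inv_eq_iff_eq_mul.2 (Subgroup.mem_centralizer_iff.1 hh x hx).symm)]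
    · rw [mem_twoStab, mul_smul, mul_smul, hha, hhb, smul_inv_smul, smul_inv_smul]
      exact ⟨rfl, rfl⟩
  obtain ⟨c, hc, k, hk, hct, rfl⟩ := exists_CK hS hgD
  refine ⟨c, (centralizer_t_iff hS).2 ⟨hc, hct⟩, Set.image_congr fun x hx => ?_⟩
  rw [← hg' x hx]
  obtain ⟨hxD, hxt⟩ := (centralizer_t_iff hS).1 (hX hx)
  obtain ⟨-, hyt⟩ := (centralizer_t_iff hS).1 (hY ⟨x, hx, rfl⟩)
  simp only [← hg' x hx] at hyt
  suffices Commute k x by
    rw [show c * k * x * (c * k)⁻¹ = c * (k * x * k⁻¹) * c⁻¹ by group,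
      mul_inv_eq_iff_eq_mul.2 this.eq]
  have e1 : c * (k⁻¹ * x * k) * c⁻¹ = c * (k * x * k⁻¹) * c⁻¹ := by
    calc c * (k⁻¹ * x * k) * c⁻¹
        = (t * c * t⁻¹) * ((t * k * t⁻¹) * (t * x * t⁻¹) * (t * k * t⁻¹)⁻¹) * (t * c * t⁻¹)⁻¹ := by
          rw [hct, hk.2, hxt, inv_inv]
      _ = t * (c * k * x * (c * k)⁻¹) * t⁻¹ := by group
      _ = c * k * x * (c * k)⁻¹ := hyt
      _ = _ := by group
  have e2 : Commute (k * k) x := by
    have h := mul_left_cancel (mul_right_cancel e1)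
    show k * k * x = x * (k * k)
    calc k * k * x = k * (k * x * k⁻¹) * k := by group
      _ = k * (k⁻¹ * x * k) * k := by rw [h]
      _ = _ := by group
  obtain ⟨k', hk', hkk', n, hn⟩ := exists_sqrt hS.odd_card (Subgroup.mul_mem _ hk.1 hk.1)
  rw [← eq_of_sq_eq hS.odd_card hk' hk.1 hkk', hn]
  exact e2.pow_left n

end Cfsg.Agent.S1134
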