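import Cfsg.Statements.S0345
import Cfsg.Agent.Lib.Zassenhaus.Sharp

set_option autoImplicit false
open Cfsg

namespace Cfsg.Agent.S0345

/-- In a finite simple Zassenhaus group the stabiliser `H` of two points `a ≠ b` is cyclic, and some involution
interchanging `a` and `b` inverts every element of `H`. -/
theorem result {G Ω : Type*} [Group G] [Finite G] [MulAction G Ω] [Finite Ω]
    (hZ : Cfsg.IsZassenhausGroup G Ω) [IsSimpleGroup G]
    {a b : Ω} (hab : a ≠ b) :
    IsCyclic ↥(MulAction.stabilizer G a ⊓ MulAction.stabilizer G b) ∧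
      ∃ v : G, orderOf v = 2 ∧ v • a = b ∧ v • b = a ∧ ∀ h ∈ MulAction.stabilizer G a ⊓ MulAction.stabilizer G b, v * h * v⁻¹ = h⁻¹ := by
  obtain ⟨v, hv, hva, hvb⟩ := Cfsg.Agent.Lib.Zassenhaus.exists_swap hZ hab
  suffices h : IsCyclic ↥(MulAction.stabilizer G a ⊓ MulAction.stabilizer G b) ∧
      ∀ h ∈ MulAction.stabilizer G a ⊓ MulAction.stabilizer G b, v * h * v⁻¹ = h⁻¹ from
    ⟨h.1, v, hv, hva, hvb, h.2⟩
  rcases Nat.even_or_odd (Nat.card ↥(MulAction.stabilizer G a ⊓ MulAction.stabilizer G b)) with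
    heven | hodd
  · obtain ⟨hc, hs⟩ := (Cfsg.Agent.Lib.Zassenhaus.card_le_and_inverted hZ hab heven).2
      (Cfsg.Agent.Lib.Zassenhaus.two_mul_card_le_of_simple hZ hab heven)
    exact ⟨hc, (hs v hva hvb).2.2⟩
  · obtain ⟨hc, hs⟩ := Cfsg.Agent.Lib.Zassenhaus.pair_cyclic_inverted hZ hab hodd (by
      rintro q hq hdvd ⟨N, hN, hidx⟩
      rcases IsSimpleGroup.eq_bot_or_eq_top_of_normal N hN with h | h
      · -- `G` would be a `q`-group, hence abelian
        rw [h, Subgroup.index_bot] at hidx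
        have : Fact q.Prime := ⟨hq⟩
        have hp : IsPGroup q G := IsPGroup.of_card hidx
        have hnil : Group.IsNilpotent G := hp.isNilpotent
        have : Nontrivial G := ⟨v, 1, fun h1 => by rw [h1, orderOf_one] at hv; omega⟩
        have hz : Subgroup.center G = ⊤ :=
          (IsSimpleGroup.eq_bot_or_eq_top_of_normal _ inferInstance).resolve_left
            (Group.IsNilpotent.center_ne_bot G)
        obtain ⟨g, hg1, hga, hgb⟩ := Cfsg.Agent.Lib.Zassenhaus.exists_fix_pair hZ hab
        have := Cfsg.Agent.Lib.Zassenhaus.faithful hZ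
        have := Cfsg.Agent.Lib.Zassenhaus.pretransitive hZ
        refine hg1 (eq_of_smul_eq_smul fun w : Ω => ?_)
        obtain ⟨s, rfl⟩ := MulAction.exists_smul_eq G a w
        rw [one_smul, smul_smul, ← Subgroup.mem_center_iff.1 (hz ▸ Subgroup.mem_top g) s, mul_smul,
          hga]
      · rw [h, Subgroup.index_top] at hidx
        have h1 : q ∣ Nat.card G := hdvd.trans (Subgroup.card_subgroup_dvd_card _)
        have h2 := hq.factorization_pos_of_dvd Nat.card_pos.ne' h1
        exact absurd hidx.symm (Nat.one_lt_pow h2.ne' hq.one_lt).ne')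
    exact ⟨hc, hs v hva hvb⟩

end Cfsg.Agent.S0345
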