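import Cfsg.Statements.S0852
import Cfsg.Agent.Lib.Clifford.TICoherent

set_option autoImplicit false
open Cfsg

namespace Cfsg.Agent.S0852

/-- Let K be a subgroup of the finite group G that meets each conjugate by an element outside its normalizer N trivially, is properly contained in N, and contains the centralizer of each of its non-identity elements (a T.I. subgroup with Frobenius normalizer). Let S be the set of irreducible characters of N taking at some element of K a value different from their degree, suppose S has at least two members, and let star be a linear isometry on the integer span of S into the generalized characters of G that agrees with induction on the members vanishing at the identity (so S is coherent, with star as the extending isometry). Then an irreducible character ψ of G is of the form star χ or -star χ for some χ in S if and only if ψ is not constant on the non-identity elements of K. -/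
theorem result {G : Type*} [Group G] [Fintype G] (K : Subgroup G) (hTI : ∀ g : G, g ∉ Subgroup.normalizer (K : Set G) → ∀ k ∈ K, g * k * g⁻¹ ∈ K → k = 1) (hlt : K < Subgroup.normalizer (K : Set G)) (hC : ∀ k ∈ K, k ≠ 1 → Subgroup.centralizer ({k} : Set G) ≤ K) [Fintype ↥(Subgroup.normalizer (K : Set G))] (S : Set (↥(Subgroup.normalizer (K : Set G)) → ℂ)) (hS : S = {χ : ↥(Subgroup.normalizer (K : Set G)) → ℂ | Cfsg.IsIrrCharacter ↥(Subgroup.normalizer (K : Set G)) χ ∧ ∃ k : ↥(Subgroup.normalizer (K : Set G)), (k : G) ∈ K ∧ χ k ≠ χ 1}) (htwo : ∃ χ ∈ S, ∃ ξ ∈ S, χ ≠ ξ) (star : (↥(Subgroup.normalizer (K : Set G)) → ℂ) → (G → ℂ)) (hstar : Cfsg.IsLinearIsometryOn (Cfsg.zspan S) star) (hext : ∀ α ∈ Cfsg.zspanOn S ({1}ᶜ : Set ↥(Subgroup.normalizer (K : Set G))), star α = Cfsg.indFun (Subgroup.normalizer (K : Set G)) α) (ψ : G → ℂ) (hψ : Cfsg.IsIrrCharacter G ψ) : (∃ χ ∈ S, ψ = star χ ∨ ψ = -star χ) ↔ ∃ a ∈ K, ∃ b ∈ K, a ≠ 1 ∧ b ≠ 1 ∧ ψ a ≠ ψ b := by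
  classical
  have hψc : Cfsg.IsClassFunction G ψ :=
    Lib.Characters.Basic.isClassFunction_irr ⟨ψ, hψ⟩
  obtain ⟨χ₀, hχ₀, ξ₀, hξ₀, hne₀⟩ := htwo
  constructor
  · rintro ⟨χ, hχ, hor⟩
    obtain ⟨hχi, hχr⟩ := (Lib.Clifford.TICoherent.mem_S_iff K hS χ).mp hχ
    obtain ⟨ξ, hξ, hne⟩ : ∃ ξ ∈ S, χ ≠ ξ := by
      by_cases h : χ = χ₀
      · exact ⟨ξ₀, hξ₀, h ▸ hne₀⟩
      · exact ⟨χ₀, hχ₀, h⟩
    obtain ⟨hξi, hξr⟩ := (Lib.Clifford.TICoherent.mem_S_iff K hS ξ).mp hξ
    obtain ⟨b, hb⟩ := Lib.Clifford.TICoherent.exists_shift K hS hstar hext hχ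
    by_contra hcon
    push Not at hcon
    obtain ⟨k₀, hk₀, hk₀ne⟩ := hχr
    have hk₀1 : (k₀ : G) ≠ 1 := fun e => hk₀ne (by rw [show k₀ = 1 from Subtype.ext e])
    refine Lib.Clifford.KernelChars.not_const (K.subgroupOf (Subgroup.normalizer (K : Set G)))
      (Lib.Clifford.TICoherent.self_centralizing K hC) ⟨χ, hχi⟩ ⟨ξ, hξi⟩ ⟨k₀, hk₀, hk₀ne⟩ hξr
      (fun e => hne (congrArg Subtype.val e)) (χ k₀) ?_
    intro k hk hk1
    show χ k = χ k₀
    have hk1' : (k : G) ≠ 1 := fun e => hk1 (Subtype.ext e)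
    have h1 := hb k hk hk1
    have h2 := hb k₀ hk₀ (fun e => hk₀1 (by rw [e]; rfl))
    have h3 := hcon k hk k₀ hk₀ hk1' hk₀1
    rcases hor with rfl | rfl
    · linear_combination h2 - h1 + h3
    · simp only [Pi.neg_apply, neg_inj] at h3
      linear_combination h2 - h1 + h3
  · rintro ⟨a, ha, b, hb, ha1, hb1, hab⟩
    by_contra hcon
    push Not at hcon
    have horth : ∀ χ ∈ S, Cfsg.classInner (star χ) ψ = 0 := by
      intro χ hχ
      rcases Lib.Isometry.Inner.signed_cases (Lib.Clifford.TICoherent.star_signed K hS hstar hχ)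
        (Or.inl hψ) with h | ⟨ε, hε, he, -⟩
      · exact h
      · exfalso
        rcases hε with rfl | rfl
        · exact (hcon χ hχ).1 (by rw [he, one_smul])
        · exact (hcon χ hχ).2 (by rw [he, neg_one_smul, neg_neg])
    obtain ⟨c, hc⟩ := Lib.Clifford.KernelChars.eq_const (K.subgroupOf (Subgroup.normalizer (K : Set G)))
      (Lib.Clifford.TICoherent.classFun_restrict K hψc) (fun μ ν hμ hν => by
        have hμS := (Lib.Clifford.TICoherent.mem_S_iff K hS _).mpr ⟨μ.2, hμ⟩
        have hνS := (Lib.Clifford.TICoherent.mem_S_iff K hS _).mpr ⟨ν.2, hν⟩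
        rw [Lib.Clifford.TICoherent.inner_restrict K hS hext hψc hμS hνS,
          Lib.Clifford.TICoherent.star_comb K hS hstar hμS hνS,
          Lib.Induced.Basic.classInner_sub_left, Lib.Induced.Basic.classInner_smul_left,
          Lib.Induced.Basic.classInner_smul_left, horth _ hμS, horth _ hνS]
        ring)
    apply hab
    have haN : a ∈ (Subgroup.normalizer (K : Set G)) := Subgroup.le_normalizer ha
    have hbN : b ∈ (Subgroup.normalizer (K : Set G)) := Subgroup.le_normalizer hb
    have e1 := hc ⟨a, haN⟩ ha (fun e => ha1 (congrArg Subtype.val e))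
    have e2 := hc ⟨b, hbN⟩ hb (fun e => hb1 (congrArg Subtype.val e))
    exact e1.trans e2.symm

end Cfsg.Agent.S0852
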