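import Cfsg.Statements.S0853
import Cfsg.Agent.Lib.Clifford.TICoherent
import Cfsg.Agent.Lib.Characters.Degree

set_option autoImplicit false
open Cfsg

namespace Cfsg.Agent.S0853

/-- Let K be a subgroup of the finite group G that meets each conjugate by an element outside its normalizer N trivially, is properly contained in N, and contains the centralizer of each of its non-identity elements (a T.I. subgroup with Frobenius normalizer). Let S be the set of irreducible characters of N taking at some element of K a value different from their degree, suppose S has at least two members, and let star be a linear isometry on the integer span of S into the generalized characters of G that agrees with induction on the members vanishing at the identity (so S is coherent, with star as the extending isometry). Then there is a single integer m such that star χ k - χ k = m * χ 1 / e for every χ in S and every non-identity element k of K, where e is the index of K in N. -/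
theorem result {G : Type*} [Group G] [Fintype G] (K : Subgroup G) (hTI : ∀ g : G, g ∉ Subgroup.normalizer (K : Set G) → ∀ k ∈ K, g * k * g⁻¹ ∈ K → k = 1) (hlt : K < Subgroup.normalizer (K : Set G)) (hC : ∀ k ∈ K, k ≠ 1 → Subgroup.centralizer ({k} : Set G) ≤ K) [Fintype ↥(Subgroup.normalizer (K : Set G))] (S : Set (↥(Subgroup.normalizer (K : Set G)) → ℂ)) (hS : S = {χ : ↥(Subgroup.normalizer (K : Set G)) → ℂ | Cfsg.IsIrrCharacter ↥(Subgroup.normalizer (K : Set G)) χ ∧ ∃ k : ↥(Subgroup.normalizer (K : Set G)), (k : G) ∈ K ∧ χ k ≠ χ 1}) (htwo : ∃ χ ∈ S, ∃ ξ ∈ S, χ ≠ ξ) (star : (↥(Subgroup.normalizer (K : Set G)) → ℂ) → (G → ℂ)) (hstar : Cfsg.IsLinearIsometryOn (Cfsg.zspan S) star) (hext : ∀ α ∈ Cfsg.zspanOn S ({1}ᶜ : Set ↥(Subgroup.normalizer (K : Set G))), star α = Cfsg.indFun (Subgroup.normalizer (K : Set G)) α) : ∃ m : ℤ, ∀ χ ∈ S, ∀ k : ↥(Subgroup.normalizer (K : Set G)), (k : G) ∈ K → k ≠ 1 → star χ k - χ k = (m : ℂ) * χ 1 / ((K.subgroupOf (Subgroup.normalizer (K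 : Set G))).index : ℂ) := by
  classical
  set K' : Subgroup (Subgroup.normalizer (K : Set G)) := K.subgroupOf (Subgroup.normalizer (K : Set G)) with hK'
  have := Fintype.ofFinite (Cfsg.IrrCharacter (Subgroup.normalizer (K : Set G)))
  obtain ⟨χ₀, hχ₀, -⟩ := htwo
  obtain ⟨hχ₀i, hχ₀r⟩ := (Lib.Clifford.TICoherent.mem_S_iff K hS χ₀).mp hχ₀
  obtain ⟨k₀, hk₀, hk₀ne⟩ := hχ₀r
  have hk₀1 : k₀ ≠ 1 := fun e => hk₀ne (by rw [e])
  have hχ₀1 : χ₀ 1 ≠ 0 := Lib.Characters.Basic.apply_one_ne_zero ⟨χ₀, hχ₀i⟩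
  -- the common factor
  set F : ℂ := (star χ₀ k₀ - χ₀ k₀) / χ₀ 1 with hF
  have hval : ∀ χ ∈ S, ∀ k : (Subgroup.normalizer (K : Set G)), (k : G) ∈ K → k ≠ 1 → star χ k - χ k = F * χ 1 := by
    intro χ hχ k hk hk1
    obtain ⟨b, hb⟩ := Lib.Clifford.TICoherent.exists_shift K hS hstar hext hχ
    have h := Lib.Clifford.TICoherent.comb_restrict K hTI hC hS hstar hext hχ hχ₀ k₀
    simp only [Pi.sub_apply, Pi.smul_apply, smul_eq_mul] at h
    rw [hb k hk hk1, ← hb k₀ hk₀ hk₀1, hF, div_mul_eq_mul_div, eq_div_iff hχ₀1]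
    linear_combination -h
  have hint : ∀ χ ∈ S, IsIntegral ℤ (F * χ 1) := by
    intro χ hχ
    rw [← hval χ hχ k₀ hk₀ hk₀1]
    refine IsIntegral.sub ?_ (Lib.Characters.Basic.isIntegral_apply
      (Lib.Characters.Basic.isCharacter_irr ⟨χ, ((Lib.Clifford.TICoherent.mem_S_iff K hS χ).mp hχ).1⟩) k₀)
    rcases Lib.Clifford.TICoherent.star_signed K hS hstar hχ with h | h
    · exact Lib.Characters.Basic.isIntegral_apply (Lib.Characters.Basic.isCharacter_irr ⟨_, h⟩) _
    · simpa using (Lib.Characters.Basic.isIntegral_apply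
        (Lib.Characters.Basic.isCharacter_irr ⟨_, h⟩) (k₀ : G)).neg
  -- `e * F` times the order of `K` is integral
  have hA : IsIntegral ℤ ((Nat.card K' : ℂ) * ((K'.index : ℂ) * F)) := by
    obtain ⟨d, -, ⟨r, hr⟩, hd⟩ := Lib.Characters.Degree.exists_degree_dvd
      (⟨χ₀, hχ₀i⟩ : Cfsg.IrrCharacter (Subgroup.normalizer (K : Set G)))
    change χ₀ 1 = d at hd
    have : (Nat.card K' : ℂ) * ((K'.index : ℂ) * F) = (r : ℤ) * (F * χ₀ 1) := by
      rw [← mul_assoc, ← Nat.cast_mul, K'.card_mul_index, hr, hd]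
      push_cast; ring
    rw [this]
    exact isIntegral_algebraMap.mul (hint χ₀ hχ₀)
  -- so is one less than the order of `K` times `e * F`
  have hB : IsIntegral ℤ (((Nat.card K' : ℂ) - 1) * ((K'.index : ℂ) * F)) := by
    rw [show ((Nat.card K' : ℂ) - 1) * ((K'.index : ℂ) * F) =
      ((K'.index : ℂ) * ((Nat.card K' : ℂ) - 1)) * F by ring,
      ← Lib.Clifford.KernelChars.sum_rel_sq K', Finset.sum_mul]
    refine IsIntegral.sum _ fun χ hχ => ?_
    have h := hint _ ((Lib.Clifford.TICoherent.mem_S_iff K hS _).mpr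
      ⟨χ.2, (Finset.mem_filter.mp hχ).2⟩)
    rw [show (χ : (Subgroup.normalizer (K : Set G)) → ℂ) 1 ^ 2 * F = (χ : (Subgroup.normalizer (K : Set G)) → ℂ) 1 * (F * (χ : (Subgroup.normalizer (K : Set G)) → ℂ) 1) by ring]
    exact (Lib.Characters.Basic.isIntegral_apply (Lib.Characters.Basic.isCharacter_irr χ) 1).mul h
  have hI : IsIntegral ℤ ((K'.index : ℂ) * F) := by
    have := hA.sub hB
    rwa [show (Nat.card K' : ℂ) * ((K'.index : ℂ) * F) -
      ((Nat.card K' : ℂ) - 1) * ((K'.index : ℂ) * F) = (K'.index : ℂ) * F by ring] at this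
  -- rationality
  obtain ⟨q, hq⟩ : ∃ q : ℚ, (q : ℂ) = (K'.index : ℂ) * F := by
    obtain ⟨d, -, hd⟩ := Lib.Characters.Basic.exists_degree_pos
      (⟨χ₀, hχ₀i⟩ : Cfsg.IrrCharacter (Subgroup.normalizer (K : Set G)))
    change χ₀ 1 = d at hd
    set D : (Subgroup.normalizer (K : Set G)) → ℂ := (fun x : (Subgroup.normalizer (K : Set G)) => star χ₀ x) - χ₀ with hD
    have hDg : Cfsg.IsGeneralizedCharacter K' (fun x : K' => D x) := by
      refine Lib.Induced.Generalized.isGen_comp K'.subtype ?_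
      exact Lib.Induced.Generalized.isGen_sub
        (Lib.Induced.Generalized.isGen_comp (Subgroup.normalizer (K : Set G)).subtype (Lib.Clifford.TICoherent.star_gen K hS hstar hχ₀))
        (Lib.Induced.Generalized.of_irr ⟨χ₀, hχ₀i⟩)
    obtain ⟨i, hi⟩ := Lib.Induced.Generalized.exists_classInner_int hDg
      (Lib.Induced.Generalized.of_irr (Lib.Characters.Basic.oneChar K'))
    simp only [Cfsg.classInner, Lib.Characters.Basic.oneChar_apply, map_one, mul_one] at hi
    rw [← Finset.add_sum_erase _ _ (Finset.mem_univ (1 : K')),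
      Finset.sum_congr rfl (fun x hx => by
        show D x = F * χ₀ 1
        exact hval χ₀ hχ₀ x x.2 (fun e => Finset.ne_of_mem_erase hx (Subtype.ext e))),
      Finset.sum_const, nsmul_eq_mul, Finset.card_erase_of_mem (Finset.mem_univ _)] at hi
    have hD1 : ∃ j : ℤ, D 1 = j := by
      rcases Lib.Clifford.TICoherent.star_signed K hS hstar hχ₀ with h | h
      · obtain ⟨d', -, hd'⟩ := Lib.Characters.Basic.exists_degree_pos (⟨_, h⟩ : Cfsg.IrrCharacter G)
        refine ⟨(d' : ℤ) - d, ?_⟩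
        show star χ₀ ((1 : (Subgroup.normalizer (K : Set G))) : G) - χ₀ 1 = _
        rw [hd, OneMemClass.coe_one, show star χ₀ 1 = (d' : ℂ) from hd']
        push_cast; ring
      · obtain ⟨d', -, hd'⟩ := Lib.Characters.Basic.exists_degree_pos (⟨_, h⟩ : Cfsg.IrrCharacter G)
        refine ⟨-(d' : ℤ) - d, ?_⟩
        show star χ₀ ((1 : (Subgroup.normalizer (K : Set G))) : G) - χ₀ 1 = _
        change -star χ₀ 1 = (d' : ℂ) at hd'
        rw [hd, OneMemClass.coe_one, show star χ₀ 1 = -(d' : ℂ) by rw [← hd', neg_neg]]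
        push_cast; ring
    obtain ⟨j, hj⟩ := hD1
    rw [OneMemClass.coe_one, hj, hd, Finset.card_univ, ← Nat.card_eq_fintype_card] at hi
    have hK2 : 2 ≤ Nat.card K' := by
      have : Nontrivial K' := ⟨⟨⟨k₀, hk₀⟩, 1, fun e => hk₀1 (congrArg Subtype.val e)⟩⟩
      exact Finite.one_lt_card
    refine ⟨(K'.index : ℚ) * (((Nat.card K' : ℚ) * i - j) / (((Nat.card K' - 1 : ℕ) : ℚ) * d)), ?_⟩
    have hn : ((Nat.card K' - 1 : ℕ) : ℂ) ≠ 0 := Nat.cast_ne_zero.mpr (by omega)
    have hd0 : (d : ℂ) ≠ 0 := hd ▸ hχ₀1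
    have hK0 : (Nat.card K' : ℂ) ≠ 0 := Lib.Induced.Basic.natCard_ne_zero
    push_cast
    field_simp at hi ⊢
    clear_value F
    linear_combination -(K'.index : ℂ) * hi
  have hqi : IsIntegral ℤ q :=
    (isIntegral_algebraMap_iff (A := ℚ) (B := ℂ) Rat.cast_injective).mp (by
      show IsIntegral ℤ (q : ℂ)
      rw [hq]; exact hI)
  obtain ⟨m, hm⟩ := IsIntegrallyClosed.isIntegral_iff.mp hqi
  refine ⟨m, fun χ hχ k hk hk1 => ?_⟩
  have hm' : (m : ℂ) = (K'.index : ℂ) * F := by
    rw [← hq, ← hm]; simp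
  rw [hval χ hχ k hk hk1, hm', show (K.subgroupOf (Subgroup.normalizer (K : Set G))).index = K'.index from rfl]
  field_simp [Lib.Clifford.KernelChars.index_ne_zero K']

end Cfsg.Agent.S0853
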