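import Cfsg.Statements.S0170
import Cfsg.Agent.Lib.Induced.Generalized
import Cfsg.Agent.S0198
import Cfsg.Agent.S0150
import Cfsg.Agent.Lib.Induced.Character
import Mathlib
-- import your own Cfsg.Agent.* helpers here

set_option autoImplicit false
open Cfsg

namespace Cfsg.Agent.S0170

/-- Exceptional characters. Let S be a subset of a finite group contained in its normalizer N and meeting its conjugates by elements outside N only in the identity. Given n ≥ 2 distinct irreducible characters of N of equal degree that vanish on N away from S, there exist a sign ε and n distinct irreducible characters θ_i of G such that inducing χ_i − χ_j to G gives ε (θ_i − θ_j) for all i, j. -/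
theorem result {G : Type*} [Group G] [Fintype G] (S : Set G) (hSN : S ⊆ Subgroup.normalizer S) (hTI : ∀ g : G, g ∉ Subgroup.normalizer S → ∀ s ∈ S, g * s * g⁻¹ ∈ S → s = 1) (n : ℕ) (hn : 2 ≤ n) (χ : Fin n → (Subgroup.normalizer S → ℂ)) (hirr : ∀ i, Cfsg.IsIrrCharacter (Subgroup.normalizer S) (χ i)) (hinj : Function.Injective χ) (hvan : ∀ i, ∀ x : Subgroup.normalizer S, (x : G) ∉ S → χ i x = 0) (hdeg : ∀ i j, χ i 1 = χ j 1) : ∃ ε : ℂ, (ε = 1 ∨ ε = -1) ∧ ∃ θ : Fin n → (G → ℂ), (∀ i, Cfsg.IsIrrCharacter G (θ i)) ∧ Function.Injective θ ∧ ∀ i j, Cfsg.indFun (Subgroup.normalizer S) (χ i) - Cfsg.indFun (Subgroup.normalizer S) (χ j) = ε • (θ i - θ j) := by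
  classical
  let i₀ : Fin n := ⟨0, by omega⟩
  let χ' : Fin n → Cfsg.IrrCharacter (Subgroup.normalizer S) := fun i => ⟨χ i, hirr i⟩
  have hgenN : ∀ i, Cfsg.IsGeneralizedCharacter (Subgroup.normalizer S) (χ i - χ i₀) := fun i =>
    Cfsg.Agent.Lib.Induced.Generalized.isGen_sub (Cfsg.Agent.Lib.Induced.Generalized.of_irr (χ' i)) (Cfsg.Agent.Lib.Induced.Generalized.of_irr (χ' i₀))
  let τ : Fin n → (G → ℂ) := fun i => Cfsg.indFun (Subgroup.normalizer S) (χ i - χ i₀)
  have hgram : ∀ i j, i ≠ i₀ → j ≠ i₀ → Cfsg.classInner (τ i) (τ j) = if i = j then 2 else 1 := by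
    intro i j hi hj
    rw [Cfsg.Agent.S0150.result S hTI hSN _ _ (Cfsg.Agent.Lib.Induced.Generalized.isClassFunction_of_isGen (hgenN i))
      (Cfsg.Agent.Lib.Induced.Generalized.isClassFunction_of_isGen (hgenN j)) (fun x hx => by simp [hvan _ x hx])
      (fun x hx => by simp [hvan _ x hx]) (by simp [hdeg i i₀])]
    have hne : ∀ k l, k ≠ l → Cfsg.classInner (χ k) (χ l) = 0 := fun k l h =>
      Cfsg.Agent.Lib.Characters.Basic.classInner_irr_of_ne (χ := χ' k) (ψ := χ' l)
        (fun e => h (hinj (congrArg Subtype.val e)))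
    have hself : ∀ k, Cfsg.classInner (χ k) (χ k) = 1 := fun k =>
      Cfsg.Agent.Lib.Characters.Basic.classInner_self_irr (χ' k)
    rw [Cfsg.Agent.Lib.Induced.Basic.classInner_sub_left,
      Cfsg.Agent.Lib.Induced.Basic.classInner_sub_right,
      Cfsg.Agent.Lib.Induced.Basic.classInner_sub_right, hne i i₀ hi, hne i₀ j (Ne.symm hj),
      hself i₀]
    split_ifs with hij
    · rw [hij, hself j]; norm_num
    · rw [hne i j hij]; norm_num
  obtain ⟨ε, hε, μ, hμ, hμinj, hτ⟩ := Cfsg.Agent.S0198.result n i₀ τ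
    (by simp [τ, Cfsg.Agent.Lib.Induced.Basic.indFun_zero])
    (fun i => Cfsg.Agent.Lib.Induced.Character.isGeneralizedCharacter_indFun (Subgroup.normalizer S) (hgenN i))
    (fun i => by simp [τ, Cfsg.Agent.Lib.Induced.Basic.indFun_one, hdeg i i₀]) hgram
  refine ⟨ε, hε, μ, hμ, hμinj, fun i j => ?_⟩
  have hi := hτ i
  have hj := hτ j
  simp only [τ, Cfsg.Agent.Lib.Induced.Basic.indFun_sub] at hi hj
  calc Cfsg.indFun (Subgroup.normalizer S) (χ i) - Cfsg.indFun (Subgroup.normalizer S) (χ j)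
      = (Cfsg.indFun (Subgroup.normalizer S) (χ i) - Cfsg.indFun (Subgroup.normalizer S) (χ i₀)) -
          (Cfsg.indFun (Subgroup.normalizer S) (χ j) - Cfsg.indFun (Subgroup.normalizer S) (χ i₀)) := by abel
    _ = ε • (μ i - μ j) := by rw [hi, hj, ← smul_sub]; congr 1; abel

end Cfsg.Agent.S0170
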