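import Cfsg.Statements.S0338
import Cfsg.Agent.Lib.Zassenhaus.Kernel

set_option autoImplicit false
open Cfsg

namespace Cfsg.Agent.S0338

open Cfsg.Agent.Lib.Zassenhaus

/-- A Zassenhaus group of odd degree is a simple group. -/
theorem result {G Ω : Type*} [Group G] [MulAction G Ω] [Fintype Ω]
    (hZ : Cfsg.IsZassenhausGroup G Ω) (hodd : Odd (Fintype.card Ω)) : IsSimpleGroup G := by
  have := finite_group hZ
  obtain ⟨g, hg1, a, b, hab, hga, hgb⟩ := hZ.2.2.2.1
  have : Nontrivial G := ⟨g, 1, hg1⟩
  refine ⟨fun N hN => or_iff_not_imp_left.2 fun hne => ?_⟩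
  rw [← Nat.card_eq_fintype_card] at hodd
  -- `N` has even order: its point stabiliser is transitive on an even number of points
  obtain ⟨l, hl, hl1, hla, hlb⟩ := normal_exists_fix_pair hZ N hne hab
  have h2 := normal_two_trans hZ N hab hl hl1 hla hlb
  have heven : 2 ∣ Nat.card N := by
    have := MulAction.isPretransitive_of_is_two_pretransitive (G := N) (α := Ω)
    have h1 := Cfsg.Agent.Lib.Perm.Basic.card_eq_card_mul_card_stabilizer (G := N) a
    obtain ⟨k, hk⟩ := hodd
    have hind := h2.index_of_fixingSubgroup_mul (G := N) (s := ({a, b} : Set Ω))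
      (by rw [Set.ncard_pair hab])
    rw [hk, show 2 * k + 1 - 2 = 2 * k - 1 by omega] at hind
    have hfac : (2 * k + 1).factorial = (2 * k + 1) * (2 * k) * (2 * k - 1).factorial := by
      rcases k with _ | j
      · obtain ⟨c, hc, -⟩ := exists_third hZ a b
        have h1 : 1 < Nat.card Ω := Finite.one_lt_card_iff_nontrivial.2 ⟨a, b, hab⟩
        omega
      · rw [show 2 * (j + 1) + 1 = 2 * j + 1 + 1 + 1 by ring, Nat.factorial_succ,
          Nat.factorial_succ, show 2 * (j + 1) = 2 * j + 1 + 1 by ring, Nat.add_sub_cancel]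
        ring
    rw [hfac] at hind
    have hidx := Nat.eq_of_mul_eq_mul_right (Nat.factorial_pos _) hind
    refine dvd_trans ?_ (fixingSubgroup N ({a, b} : Set Ω)).index_dvd_card
    rw [hidx]
    exact Dvd.intro ((2 * k + 1) * k) (by ring)
  have := Fact.mk Nat.prime_two
  obtain ⟨i, hi⟩ := exists_prime_orderOf_dvd_card' 2 heven
  exact normal_eq_top_of_involution hZ hodd N i.2 (by rw [Subgroup.orderOf_coe, hi]) hab

end Cfsg.Agent.S0338
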