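import Cfsg.Statements.S0054
import Cfsg.Agent.Lib.Cores.Basic
import Cfsg.Agent.Lib.Cores.MinNormal

set_option autoImplicit false
set_option linter.style.haveILetI false
open Cfsg

namespace Cfsg.Agent.S0054

/-- A regular normal subgroup of a finite 2-transitive group is elementary abelian: it is commutative and all its elements have order dividing one prime. -/
theorem result {G : Type*} [Group G] [Finite G]
    {X : Type*} [Nonempty X] [MulAction G X] (h2 : MulAction.IsMultiplyPretransitive G X 2)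
    (N : Subgroup G) [N.Normal] (htrans : MulAction.IsPretransitive N X) (hreg : ∀ x : X, MulAction.stabilizer N x = ⊥) :
    IsMulCommutative N ∧ ∃ p : ℕ, p.Prime ∧ ∀ n ∈ N, n ^ p = 1 := by
  rcases eq_or_ne N ⊥ with rfl | hN
  · exact ⟨inferInstance, 2, Nat.prime_two, fun n hn => by rw [Subgroup.mem_bot.1 hn, one_pow]⟩
  obtain ⟨p, hp, hdvd⟩ := Nat.exists_prime_and_dvd (mt Subgroup.card_eq_one.1 hN)
  haveI : Fact p.Prime := ⟨hp⟩
  obtain ⟨n₀, hn₀⟩ := exists_prime_orderOf_dvd_card' p hdvd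
  have hn₀1 : (n₀ : N) ≠ 1 := fun h => by rw [h, orderOf_one] at hn₀; exact hp.ne_one hn₀.symm
  obtain ⟨x⟩ := ‹Nonempty X›
  have hfree : ∀ m : N, m ≠ 1 → (m : G) • x ≠ x := fun m hm h => hm
    (Subgroup.mem_bot.1 (hreg x ▸ (h : m ∈ MulAction.stabilizer N x)))
  have hconj : ∀ n ∈ N, n ≠ 1 → ∃ g : G, g * n₀ * g⁻¹ = n := by
    intro n hn hn1
    have h1 : (⟨n, hn⟩ : N) ≠ 1 := fun h => hn1 (congrArg Subtype.val h)
    obtain ⟨g, hg1, hg2⟩ := MulAction.is_two_pretransitive_iff.1 h2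
      (fun h => hfree n₀ hn₀1 h.symm) (fun h => hfree _ h1 h.symm)
    refine ⟨g, ?_⟩
    have hmem : n⁻¹ * (g * n₀ * g⁻¹) ∈ N :=
      N.mul_mem (N.inv_mem hn) (Subgroup.Normal.conj_mem ‹_› _ n₀.2 g)
    have hfix : (n⁻¹ * (g * (n₀ : G) * g⁻¹)) • x = x := by
      rw [mul_smul, mul_smul, mul_smul, inv_smul_eq_iff.2 hg1.symm, hg2, inv_smul_smul]
    by_contra hne
    exact hfree ⟨_, hmem⟩ (fun h => hne (inv_mul_eq_one.1 (congrArg Subtype.val h)).symm) hfix
  have hexp : ∀ n ∈ N, n ^ p = 1 := by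
    intro n hn
    by_cases hn1 : n = 1
    · rw [hn1, one_pow]
    obtain ⟨g, hg⟩ := hconj n hn hn1
    have h0 : (n₀ : G) ^ p = 1 := by
      rw [← hn₀, ← Subgroup.orderOf_coe, pow_orderOf_eq_one]
    rw [← hg, conj_pow, h0, mul_one, mul_inv_cancel]
  haveI : Nontrivial N := (Subgroup.nontrivial_iff_ne_bot N).2 hN
  have hZ := (Lib.Cores.MinNormal.isPGroup_of_pow_eq_one hexp).bot_lt_center
  set Z := (Subgroup.center N).map N.subtype with hZdef
  haveI : Z.Normal := ConjAct.normal_of_characteristic_of_normal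
  obtain ⟨⟨z, hzc⟩, hz1⟩ := (Subgroup.ne_bot_iff_exists_ne_one).1 hZ.ne'
  have hzN : (z : G) ∈ Z := ⟨z, hzc, rfl⟩
  have hz' : (z : G) ≠ 1 := fun h => hz1 (Subtype.ext (Subtype.ext h))
  obtain ⟨g, hg⟩ := hconj z z.2 hz'
  have h0Z : (n₀ : G) ∈ Z := by
    have := Subgroup.Normal.conj_mem ‹Z.Normal› _ hzN g⁻¹
    rw [← hg] at this
    simpa [mul_assoc] using this
  refine ⟨⟨⟨fun a b => ?_⟩⟩, p, hp, hexp⟩
  have ha : (a : G) ∈ Z := by
    by_cases ha1 : (a : G) = 1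
    · rw [ha1]; exact one_mem Z
    obtain ⟨g', hg'⟩ := hconj a a.2 ha1
    rw [← hg']
    exact Subgroup.Normal.conj_mem ‹Z.Normal› _ h0Z g'
  obtain ⟨a', ha', hae⟩ := ha
  rw [Subtype.ext hae] at ha'
  exact (Subgroup.mem_center_iff.1 ha' b).symm

end Cfsg.Agent.S0054
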