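import Cfsg.Statements.S0339
import Cfsg.Agent.Lib.Zassenhaus.Kernel
import Cfsg.Agent.S0054

set_option autoImplicit false
open Cfsg

namespace Cfsg.Agent.S0339

open Cfsg.Agent.Lib.Zassenhaus

/-- A non-trivial normal subgroup of a Zassenhaus group is itself a Zassenhaus group on the same set. -/
theorem result {G Ω : Type*} [Group G] [MulAction G Ω] [Finite Ω]
    (hZ : Cfsg.IsZassenhausGroup G Ω) (N : Subgroup G) [N.Normal] (hN : N ≠ ⊥) :
    Cfsg.IsZassenhausGroup N Ω := by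
  have := finite_group hZ
  have := faithful hZ
  obtain ⟨g, hg1, a, b, hab, hga, hgb⟩ := hZ.2.2.2.1
  obtain ⟨l, hl, hl1, hla, hlb⟩ := normal_exists_fix_pair hZ N hN hab
  have h2 := normal_two_trans hZ N hab hl hl1 hla hlb
  refine ⟨⟨fun {x y} h => Subtype.ext (eq_of_smul_eq_smul h)⟩, h2,
    fun x c d e hcd hde hce hc hd he =>
      Subtype.ext (eq_one_of_three hZ hcd hde hce hc hd he),
    ⟨⟨l, hl⟩, fun h => hl1 (congrArg Subtype.val h), a, b, hab, hla, hlb⟩,
    fun R hR htr => ?_⟩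
  by_contra! hreg
  have : MulAction.IsPretransitive R Ω := htr
  have : Nonempty Ω := ⟨a⟩
  have habel := (Cfsg.Agent.S0054.result h2 R htr hreg).1
  have hcent := fun c : Ω =>
    Cfsg.Agent.Lib.Perm.Basic.stabilizer_eq_bot_of_comm_transitive (G := N) R habel c
  let R' : Subgroup G := R.map N.subtype
  have : MulAction.IsPreprimitive N Ω := MulAction.isPreprimitive_of_is_two_pretransitive h2
  have : FaithfulSMul N Ω := ⟨fun {x y} h => Subtype.ext (eq_of_smul_eq_smul h)⟩
  have hnorm : R'.Normal := by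
    refine ⟨fun x hx g => ?_⟩
    let φ : MulAut N := MulAut.conjNormal g
    have hR2 : (R.map φ.toMonoidHom).Normal := hR.map _ φ.surjective
    have hreg2 : ∀ (y : N) (c : Ω), y ∈ R.map φ.toMonoidHom → y • c = c → y = 1 := by
      rintro _ c ⟨y, hy, rfl⟩ hc
      have hy' : (y : G) • g⁻¹ • c = g⁻¹ • c := by
        change (MulAut.conjNormal g y : G) • c = c at hc
        rw [MulAut.conjNormal_apply, mul_smul, mul_smul, smul_eq_iff_eq_inv_smul] at hc
        exact hc
      have : (⟨y, hy⟩ : R) ∈ MulAction.stabilizer R (g⁻¹ • c) := hy'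
      rw [hreg, Subgroup.mem_bot] at this
      rw [show y = 1 from congrArg Subtype.val this, map_one]
    obtain ⟨y, hy, rfl⟩ := hx
    refine ⟨φ y, ?_, MulAut.conjNormal_apply g y⟩
    -- `R` and its conjugate coincide
    show φ y ∈ R
    by_cases hI : R ⊓ R.map φ.toMonoidHom = ⊥
    · obtain ⟨r, hr⟩ := MulAction.exists_smul_eq R a (φ y • a)
      have hr' : (r : N) • a = φ y • a := hr
      have hcomm : ∀ s ∈ R, s * φ y = φ y * s := by
        intro s hs
        have h1 : s * φ y * s⁻¹ * (φ y)⁻¹ ∈ R := by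
          rw [mul_assoc (s * φ y), mul_assoc s]
          exact R.mul_mem hs (by simpa [mul_assoc] using hR.conj_mem _ (R.inv_mem hs) (φ y))
        have h3 : s * φ y * s⁻¹ * (φ y)⁻¹ ∈ R.map φ.toMonoidHom :=
          mul_mem (hR2.conj_mem _ (Subgroup.mem_map_of_mem _ hy) s)
            (inv_mem (Subgroup.mem_map_of_mem _ hy))
        have h4 : s * φ y * s⁻¹ * (φ y)⁻¹ ∈ (⊥ : Subgroup N) := hI ▸ ⟨h1, h3⟩
        rw [Subgroup.mem_bot, mul_inv_eq_one, mul_inv_eq_iff_eq_mul] at h4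
        exact h4
      have hfix : ((r : N)⁻¹ * φ y) • a = a := by rw [mul_smul, ← hr', inv_smul_smul]
      have := Cfsg.Agent.Lib.Perm.Basic.eq_one_of_commute_transitive (G := N) R
        (c := (r : N)⁻¹ * φ y) (fun s hs => by
          rw [← mul_assoc, show s * (r : N)⁻¹ = (r : N)⁻¹ * s from congrArg Subtype.val
            (habel.is_comm.comm ⟨s, hs⟩ r⁻¹), mul_assoc, hcomm s hs, mul_assoc]) hfix
      have h5 : (r : N) = φ y := inv_mul_eq_one.1 this
      exact h5 ▸ r.2
    · have := Cfsg.Agent.Lib.Perm.Basic.isPretransitive_of_normal_ne_bot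
        (R ⊓ R.map φ.toMonoidHom) (α := Ω) hI
      obtain ⟨s, hs⟩ := MulAction.exists_smul_eq (R ⊓ R.map φ.toMonoidHom : Subgroup N) a (φ y • a)
      have h1 : ((s : N)⁻¹ * φ y) • a = a := by
        rw [mul_smul, ← hs]; exact inv_smul_smul (s : N) a
      have h3 := hreg2 _ a (mul_mem (inv_mem s.2.2) (Subgroup.mem_map_of_mem _ hy)) h1
      have h5 : (s : N) = φ y := inv_mul_eq_one.1 h3
      exact h5 ▸ s.2.1
  have htr' : MulAction.IsPretransitive R' Ω := by
    refine ⟨fun c d => ?_⟩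
    obtain ⟨r, hr⟩ := MulAction.exists_smul_eq R c d
    exact ⟨⟨_, Subgroup.mem_map_of_mem _ r.2⟩, hr⟩
  obtain ⟨c, hc⟩ := hZ.2.2.2.2 R' hnorm htr'
  refine hc ((Subgroup.eq_bot_iff_forall _).2 ?_)
  rintro ⟨_, y, hy, rfl⟩ hfix
  have h1 : (⟨y, hy⟩ : R) ∈ MulAction.stabilizer R c := hfix
  rw [hreg, Subgroup.mem_bot] at h1
  exact Subtype.ext (congrArg (fun z : R => ((z : N) : G)) h1)

end Cfsg.Agent.S0339
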