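import Cfsg.Statements.S0727
import Cfsg.Agent.Lib.SharpThree.Exists
import Cfsg.Agent.Lib.SharpThree.PGL

set_option autoImplicit false
open Cfsg
open scoped Pointwise

namespace Cfsg.Agent.S0727

/-- A sharply triply transitive permutation group of degree `2^f + 1` is isomorphic to the projective general linear group of degree 2 over the field with `2^f` elements. -/
theorem result {α : Type*} [Fintype α] [DecidableEq α] {f : ℕ} (hf : 1 ≤ f) (hα : Fintype.card α = 2 ^ f + 1) (G : Subgroup (Equiv.Perm α)) (h3 : MulAction.IsMultiplyPretransitive G α 3) (hsharp : ∀ x : Fin 3 ↪ α, MulAction.stabilizer G x = ⊥) : ∃ (F : Type) (_ : Field F) (_ : Fintype F), Fintype.card F = 2 ^ f ∧ Nonempty (G ≃* Matrix.ProjGenLinGroup (Fin 2) F) := by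
  classical
  haveI := h3
  obtain ⟨a, b, c, hab, hac, hbc⟩ : ∃ a b c : α, a ≠ b ∧ a ≠ c ∧ b ≠ c :=
    Fintype.two_lt_card_iff.1 (by
      have := Nat.pow_le_pow_right (show 0 < 2 by omega) hf
      omega)
  obtain ⟨s, hsa, hsb, hsc⟩ := Cfsg.Agent.Lib.SharpThree.exists_of_trans (G := G) h3 a b c b a c
    hab hac hbc hab.symm hbc hac
  obtain ⟨p, j, V, _, F, hp, hj, hexp, hcard, -⟩ :=
    Cfsg.Agent.Lib.SharpThree.exists_frame (G := G) h3 hsharp hab hac hbc s hsa hsb hsc
  have heq : 2 ^ f = p ^ j := by rw [Nat.card_eq_fintype_card, hα] at hcard; omega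
  obtain rfl : p = 2 := by
    have h2 : (2 : ℕ) ∣ p ^ j := heq ▸ dvd_pow_self 2 (by omega)
    exact ((Nat.prime_dvd_prime_iff_eq Nat.prime_two hp).1 (Nat.prime_two.dvd_of_dvd_pow h2)).symm
  have hone : ∀ v : V, (1 : F.H) • v = -v := fun v => by
    rw [one_smul]
    exact eq_neg_of_add_eq_zero_left (by rw [← two_nsmul, hexp])
  have hinv : ∀ h : F.H, F.swap h = h⁻¹ := F.inverts_of_fixed_trivial fun k hk =>
    (Cfsg.Agent.Lib.SharpThree.Frame.eq_of_swap_eq hone hk).elim id id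
  have hcomm : ∀ g h : F.H, g * h = h * g := fun g h => by
    calc g * h = F.swap (g * h)⁻¹ := by rw [hinv, inv_inv]
      _ = F.swap h⁻¹ * F.swap g⁻¹ := by rw [mul_inv_rev, map_mul]
      _ = h * g := by rw [hinv, hinv, inv_inv, inv_inv]
  obtain ⟨K, hK, hK', hcK, he⟩ := F.nonempty_iso_pgl hcomm hinv
  refine ⟨K, hK, hK', ?_, he⟩
  rw [Nat.card_eq_fintype_card, hα] at hcK
  omega

end Cfsg.Agent.S0727
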