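import Cfsg.Statements.S4702
import Cfsg.Agent.S0727
import Cfsg.Agent.Lib.PrimeSharp.PGLTwo

set_option autoImplicit false
open Cfsg

namespace Cfsg.Agent.S4702

/-- Let G be a triply transitive permutation group on a finite set of odd size m ≥ 3 in which only the identity fixes three or more points. Then m = 2^a + 1 for some a ≥ 1 and G is isomorphic to SL(2, 2^a). -/
theorem result {α : Type*} [Fintype α] [DecidableEq α] (hm : 3 ≤ Fintype.card α) (hodd : Odd (Fintype.card α)) (G : Subgroup (Equiv.Perm α)) (h3 : MulAction.IsMultiplyPretransitive G α 3) (hfix : ∀ g : G, 3 ≤ Nat.card (MulAction.fixedBy α g) → g = 1) : ∃ a : ℕ, 1 ≤ a ∧ Fintype.card α = 2 ^ a + 1 ∧ ∃ (F : Type) (_ : Field F) (_ : Fintype F), Fintype.card F = 2 ^ a ∧ Nonempty (G ≃* Matrix.SpecialLinearGroup (Fin 2) F) := by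
  classical
  haveI := h3
  obtain ⟨a, b, c, hab, hac, hbc⟩ : ∃ a b c : α, a ≠ b ∧ a ≠ c ∧ b ≠ c :=
    Fintype.two_lt_card_iff.1 (by omega)
  obtain ⟨s, hsa, hsb, hsc⟩ := Lib.SharpThree.exists_of_trans (G := G) h3 a b c b a c
    hab hac hbc hab.symm hbc hac
  have hsharp : ∀ x : Fin 3 ↪ α, MulAction.stabilizer G x = ⊥ := by
    intro x
    rw [Subgroup.eq_bot_iff_forall]
    intro g hg
    refine hfix g ?_
    have hmem : ∀ i, x i ∈ MulAction.fixedBy α g := fun i =>
      congrArg (fun t : Fin 3 ↪ α => t i) hg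
    have := Nat.card_le_card_of_injective
      (fun i => (⟨x i, hmem i⟩ : MulAction.fixedBy α g))
      (fun i j h => x.injective (congrArg Subtype.val h))
    rwa [Nat.card_eq_fintype_card (α := Fin 3), Fintype.card_fin] at this
  obtain ⟨r, f, V, _, F, hr, hf, -, hcard, -⟩ :=
    Lib.SharpThree.exists_frame (G := G) h3 hsharp hab hac hbc s hsa hsb hsc
  rw [Nat.card_eq_fintype_card] at hcard
  obtain rfl : r = 2 := by
    by_contra h2
    have h1 : Odd (r ^ f) := (hr.odd_of_ne_two h2).pow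
    rw [hcard] at hodd
    exact (Nat.not_even_iff_odd.2 hodd) (h1.add_odd odd_one)
  obtain ⟨K, hK, hK', hcK, ⟨e⟩⟩ := S0727.result hf hcard G h3 hsharp
  obtain ⟨e'⟩ := Lib.PrimeSharp.PGLTwo.nonempty_sl_iso_pgl (F := K) hf hcK
  exact ⟨f, hf, hcard, K, hK, hK', hcK, ⟨e.trans e'.symm⟩⟩

end Cfsg.Agent.S4702
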