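import Cfsg.Statements.S0252
import Cfsg.Agent.Lib.Linear.ProjLine

set_option autoImplicit false
open Cfsg

namespace Cfsg.Agent.S0252

/-- PSL_2(4) is isomorphic to A_5. -/
theorem result {F : Type*} [Field F] [Fintype F] (hF : Fintype.card F = 4) : Nonempty (Matrix.ProjectiveSpecialLinearGroup (Fin 2) F ≃* alternatingGroup (Fin 5)) := by
  refine Cfsg.Agent.Lib.Linear.nonempty_mulEquiv_alternating (by norm_num)
    (Cfsg.Agent.Lib.Linear.pslPermFin (F := F) (k := 5) (by omega))
    (Cfsg.Agent.Lib.Linear.pslPermFin_injective _) ?_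
  rw [Cfsg.Agent.Lib.Linear.card_PSL_two_of_even (by rw [hF]; decide), hF]
  rfl

end Cfsg.Agent.S0252
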