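import Cfsg.Statements.S0514
import Cfsg.Agent.Lib.Transfer.Frobenius
import Cfsg.Agent.Lib.Classif.OddTransvection

set_option autoImplicit false
open Cfsg

namespace Cfsg.Agent.S0514

/-- An element of odd order normalising a subgroup of a dihedral 2-group and fixing a central
involution `t` of it centralises it. -/
theorem dihedral_odd_fix {G : Type*} [Group G] [Finite G] (Q : Subgroup G) {n : ℕ}
    (ψ : Q →* DihedralGroup n) (hψ : Function.Injective ψ) (hQ : IsPGroup 2 Q)
    (t : Q) (ht : orderOf t = 2) (htc : ∀ x : Q, t * x = x * t)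
    (g : G) (hg : ∀ x ∈ Q, g * x * g⁻¹ ∈ Q) (hgodd : Odd (orderOf g))
    (hgt : g * (t : G) * g⁻¹ = t) :
    ∀ x ∈ Q, g * x * g⁻¹ = x := by
  classical
  let σ : Q → Q := fun x => ⟨g * x * g⁻¹, hg x x.2⟩
  have hσinj : Function.Injective σ := fun a b h => by
    have := congrArg Subtype.val h
    exact Subtype.ext (by simpa [σ] using this)
  have hσord : ∀ x : Q, orderOf (σ x) = orderOf x := by
    intro x
    rw [← Subgroup.orderOf_coe (σ x), ← Subgroup.orderOf_coe x]
    exact MulEquiv.orderOf_eq (MulAut.conj g) (x : G)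
  let Rot : Q → Prop := fun x => ∃ i : ZMod n, ψ x = DihedralGroup.r i
  -- a reflection squares to one
  have hrefl : ∀ x : Q, ¬ Rot x → ∃ j : ZMod n, ψ x = DihedralGroup.sr j ∧ x * x = 1 := by
    intro x hx
    cases hx' : ψ x with
    | r i => exact absurd ⟨i, hx'⟩ hx
    | sr j => exact ⟨j, rfl, hψ (by rw [map_mul, hx', DihedralGroup.sr_mul_self, map_one])⟩
  have hsr : ∀ x : Q, 2 < orderOf x → Rot x := by
    intro x hx
    by_contra h
    obtain ⟨j, -, h2⟩ := hrefl x h
    have := orderOf_le_of_pow_eq_one (x := x) (by norm_num : 0 < 2) (by rw [pow_two]; exact h2)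
    omega
  -- rotations of equal order generate the same subgroup
  let K : Subgroup Q := (Subgroup.zpowers (DihedralGroup.r (1 : ZMod n))).comap ψ
  have hKrot : ∀ x : Q, Rot x → x ∈ K := by
    rintro x ⟨i, hi⟩
    rw [Subgroup.mem_comap, hi]
    refine ⟨(i.cast : ℤ), ?_⟩
    simp
  haveI hKcyc : IsCyclic K := by
    let f : K →* Subgroup.zpowers (DihedralGroup.r (1 : ZMod n)) := ψ.subgroupComap _
    exact isCyclic_of_injective f fun a b h =>
      Subtype.ext (hψ (congrArg Subtype.val h))
  have hsame : ∀ x y : Q, Rot x → Rot y → orderOf x = orderOf y → y ∈ Subgroup.zpowers x := by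
    intro x y hx hy hxy
    set a : K := ⟨x, hKrot x hx⟩
    set b : K := ⟨y, hKrot y hy⟩
    have hab : orderOf a = orderOf b := by
      rw [← Subgroup.orderOf_coe a, ← Subgroup.orderOf_coe b]; exact hxy
    haveI : Fintype K := Fintype.ofFinite K
    have hle := IsCyclic.card_pow_eq_one_le (α := K) (orderOf_pos a)
    have hsub : (Subgroup.zpowers a : Set K).toFinset ⊆
        Finset.univ.filter (fun c => c ^ orderOf a = 1) := by
      intro c hc
      rw [Set.mem_toFinset] at hc
      rw [Finset.mem_filter]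
      refine ⟨Finset.mem_univ _, ?_⟩
      obtain ⟨i, rfl⟩ := Subgroup.mem_zpowers_iff.mp hc
      rw [← zpow_natCast, ← zpow_mul, mul_comm, zpow_mul, zpow_natCast, pow_orderOf_eq_one,
        one_zpow]
    have hcard : (Subgroup.zpowers a : Set K).toFinset.card = orderOf a := by
      rw [Set.toFinset_card, ← Nat.card_eq_fintype_card]; exact Nat.card_zpowers a
    have heq := Finset.eq_of_subset_of_card_le hsub (by omega)
    have hb : b ∈ (Subgroup.zpowers a : Set K).toFinset := by
      rw [heq, Finset.mem_filter]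
      exact ⟨Finset.mem_univ _, by rw [hab]; exact pow_orderOf_eq_one b⟩
    rw [Set.mem_toFinset] at hb
    obtain ⟨i, hi⟩ := Subgroup.mem_zpowers_iff.mp hb
    exact Subgroup.mem_zpowers_iff.mpr ⟨i, congrArg Subtype.val hi⟩
  have h2pow : ∀ x : Q, ∃ k, orderOf x = 2 ^ k := IsPGroup.iff_orderOf.mp hQ
  -- Step 1: elements of order > 2 are fixed
  have step1 : ∀ x : Q, 2 < orderOf x → σ x = x := by
    intro x hx
    have hx' : 2 < orderOf (σ x) := by rw [hσord]; exact hx
    obtain ⟨i, hi⟩ := Subgroup.mem_zpowers_iff.mp (hsame x _ (hsr x hx) (hsr _ hx') (hσord x).symm)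
    set A : Subgroup G := Subgroup.zpowers (x : G) with hA
    have hgA : g ∈ Subgroup.normalizer (A : Set G) := by
      refine Subgroup.mem_normalizer_fintype fun m hm => ?_
      obtain ⟨j, rfl⟩ := Subgroup.mem_zpowers_iff.mp hm
      rw [← conj_zpow]
      have : g * (x : G) * g⁻¹ = (x : G) ^ i := by
        have := congrArg Subtype.val hi
        simpa [σ] using this.symm
      rw [this, ← zpow_mul]
      exact zpow_mem (Subgroup.mem_zpowers _) _
    obtain ⟨k, hk⟩ := h2pow x
    have hk1 : 1 ≤ k := by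
      rcases Nat.eq_zero_or_pos k with h | h
      · rw [h, pow_zero] at hk; omega
      · exact h
    have hφ : A.normalizerMonoidHom ⟨g, hgA⟩ = 1 := by
      rw [← orderOf_eq_one_iff]
      refine Nat.eq_one_of_dvd_coprimes ?_ ((orderOf_map_dvd _ _).trans
        (by rw [Subgroup.orderOf_mk])) (orderOf_dvd_natCard _)
      rw [IsCyclic.card_mulAut, Nat.card_zpowers, Subgroup.orderOf_coe, hk,
        Nat.totient_prime_pow Nat.prime_two hk1, Nat.add_one_sub_one, mul_one]
      exact (Nat.coprime_two_right.mpr hgodd).pow_right _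
    rw [← MonoidHom.mem_ker, Subgroup.normalizerMonoidHom_ker, Subgroup.mem_subgroupOf] at hφ
    have := Subgroup.mem_centralizer_iff.mp hφ (x : G) (Subgroup.mem_zpowers _)
    exact Subtype.ext (mul_inv_eq_iff_eq_mul.mpr this.symm)
  -- Step 2: rotations are fixed
  have step2 : ∀ x : Q, Rot x → σ x = x := by
    intro z hz
    by_cases hz2 : 2 < orderOf z
    · exact step1 z hz2
    by_cases hz1 : z = 1
    · exact Subtype.ext (by simp [σ, hz1])
    have ho : orderOf z = 2 := by
      have := orderOf_pos z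
      have : orderOf z ≠ 1 := fun h => hz1 (orderOf_eq_one_iff.mp h)
      omega
    have huniq : ∀ y : Q, Rot y → y ^ 2 = 1 → y ≠ 1 → y = z := by
      intro y hy hy2 hy1
      have hoy : orderOf y = 2 := orderOf_eq_prime hy2 hy1
      obtain ⟨j, hj⟩ := Subgroup.mem_zpowers_iff.mp (hsame z y hz hy (ho.trans hoy.symm))
      rcases Int.emod_two_eq_zero_or_one j with hj' | hj'
      · rw [← zpow_mod_orderOf, ho, show ((2 : ℕ) : ℤ) = 2 from rfl, hj', zpow_zero] at hj
        exact absurd hj.symm hy1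
      · rw [← zpow_mod_orderOf, ho, show ((2 : ℕ) : ℤ) = 2 from rfl, hj', zpow_one] at hj
        exact hj.symm
    by_cases hw : Rot (σ z)
    · refine huniq _ hw ?_ ?_
      · rw [← ho, ← hσord z, pow_orderOf_eq_one]
      · intro h
        have := hσord z
        rw [h, orderOf_one, ho] at this
        norm_num at this
    have ht1 : t ≠ 1 := fun h => by rw [h, orderOf_one] at ht; norm_num at ht
    have ht2 : t ^ 2 = 1 := by rw [← ht]; exact pow_orderOf_eq_one t
    have hσt : σ t = t := Subtype.ext hgt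
    by_cases hrt : Rot t
    · rw [← huniq t hrt ht2 ht1, hσt]
    obtain ⟨i, hti, htt⟩ := hrefl t hrt
    obtain ⟨j, hwj, hww⟩ := hrefl _ hw
    have hrot : Rot (σ z * t) := ⟨i - j, by rw [map_mul, hwj, hti, DihedralGroup.sr_mul_sr]⟩
    have hne : σ z * t ≠ 1 := by
      intro h
      have : σ z = t := by
        calc σ z = σ z * (t * t) := by rw [htt, mul_one]
          _ = t := by rw [← mul_assoc, h, one_mul]
      exact hrt (hσinj (this.trans hσt.symm) ▸ hz)
    have hwt : σ z * t = z := huniq _ hrot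
      (by rw [(show Commute (σ z) t from (htc _).symm).mul_pow, pow_two, hww, ht2, one_mul]) hne
    have h2 : σ (σ z) = z := by
      have hσmul : σ (σ z * t) = σ (σ z) * σ t :=
        Subtype.ext (by simp only [σ, Subgroup.coe_mul]; group)
      rw [hwt, hσt] at hσmul
      calc σ (σ z) = σ (σ z) * (t * t) := by rw [htt, mul_one]
        _ = σ z * t := by rw [← mul_assoc, ← hσmul]
        _ = z := hwt
    have hfix2 : g ^ 2 * (z : G) * (g ^ 2)⁻¹ = z := by
      have := congrArg Subtype.val h2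
      simpa [σ, pow_two, mul_assoc] using this
    obtain ⟨m, hm⟩ := exists_pow_eq_self_of_coprime (x := g) (n := 2)
      (Nat.coprime_two_left.mpr hgodd)
    have := Cfsg.Agent.Lib.Classif.pow_conj_of_fixed (z := g ^ 2) (m := (z : G)) (c := 1)
      (by rw [mul_one]; exact hfix2) (by group) m
    rw [one_pow, mul_one, hm] at this
    exact Subtype.ext this
  -- Step 3: everything is fixed
  intro x hxQ
  by_cases hx : Rot ⟨x, hxQ⟩
  · exact congrArg Subtype.val (step2 _ hx)
  obtain ⟨i, hi, hii⟩ := hrefl _ hx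
  have hy : ¬ Rot (σ ⟨x, hxQ⟩) := fun h => hx (by
    have := hσinj (step2 _ h)
    rwa [this] at h)
  obtain ⟨j, hj, -⟩ := hrefl _ hy
  have hrot : Rot (⟨x, hxQ⟩ * σ ⟨x, hxQ⟩) :=
    ⟨j - i, by rw [map_mul, hi, hj, DihedralGroup.sr_mul_sr]⟩
  have hc := congrArg Subtype.val (step2 _ hrot)
  set c : Q := ⟨x, hxQ⟩ * σ ⟨x, hxQ⟩ with hcdef
  have hxx : x * x = 1 := congrArg Subtype.val hii
  have hgx : g * x * g⁻¹ = x * (c : G) := by
    simp only [hcdef, σ, Subgroup.coe_mul]
    rw [← mul_assoc, hxx, one_mul]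
  have h1 := Cfsg.Agent.Lib.Classif.pow_conj_of_fixed hgx hc (orderOf g)
  rw [pow_orderOf_eq_one] at h1
  simp only [one_mul, inv_one, mul_one] at h1
  have hcm : c ^ orderOf g = 1 := Subtype.ext (by simpa using (mul_eq_left.mp h1.symm))
  obtain ⟨k, hk⟩ := h2pow c
  have hc1 : orderOf c = 1 := by
    refine Nat.eq_one_of_dvd_coprimes ?_ (orderOf_dvd_of_pow_eq_one hcm) dvd_rfl
    rw [hk]; exact (Nat.coprime_two_right.mpr hgodd).pow_right k
  rw [hgx, orderOf_eq_one_iff.mp hc1]
  simp

theorem result {X : Type*} [Group X] [Finite X]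
    (S : Sylow 2 X) (n : ℕ) (hn : 2 ≤ n) (hS : Nonempty ((S : Subgroup X) ≃* DihedralGroup n)) (t : X)
    (ht : orderOf t = 2) :
    ∃ N : Subgroup (Subgroup.centralizer ({t} : Set X)), N.Normal ∧ Odd (Nat.card N) ∧ ∃ k : ℕ, N.index = 2 ^ k := by
  classical
  haveI : Fact (Nat.Prime 2) := ⟨Nat.prime_two⟩
  obtain ⟨e⟩ := hS
  set C := Subgroup.centralizer ({t} : Set X) with hC
  let t' : C := ⟨t, Subgroup.mem_centralizer_iff.mpr fun y hy => by
    rw [Set.mem_singleton_iff.mp hy]⟩
  have ht' : orderOf t' = 2 := by rw [← ht, ← Subgroup.orderOf_coe]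
  have htc : ∀ c : C, c * t' = t' * c := fun c =>
    Subtype.ext (Subgroup.mem_centralizer_iff.mp c.2 t rfl).symm
  have hcomp : Cfsg.HasNormalPComplement 2 C := by
    refine Cfsg.Agent.Lib.Transfer.Frobenius.hasNormalPComplement_of_forall_centralizes
      fun Q hQ _ g hg hgp => ?_
    set Q' : Subgroup C := Q ⊔ Subgroup.zpowers t' with hQ'
    haveI hTn : (Subgroup.zpowers t').Normal := by
      refine ⟨fun a ha c => ?_⟩
      obtain ⟨i, rfl⟩ := Subgroup.mem_zpowers_iff.mp ha
      rw [← conj_zpow, htc c, mul_inv_cancel_right]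
      exact zpow_mem (Subgroup.mem_zpowers _) i
    have hTp : IsPGroup 2 (Subgroup.zpowers t') :=
      IsPGroup.of_card (n := 1) (by rw [Nat.card_zpowers, ht', pow_one])
    have hQ'p : IsPGroup 2 Q' := hQ.to_sup_of_normal_right hTp
    obtain ⟨P, hP⟩ := (hQ'p.map C.subtype).exists_le_sylow
    let ψ : Q' →* DihedralGroup n :=
      ((P.equiv S).trans e).toMonoidHom.comp
        ((Subgroup.inclusion hP).comp (C.subtype.subgroupMap Q'))
    have hψ : Function.Injective ψ := by
      intro a b hab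
      have h1 := congrArg Subtype.val
        (((P.equiv S).trans e).injective hab)
      exact Subtype.ext (Subtype.ext h1)
    have hgQ' : ∀ x ∈ Q', g * x * g⁻¹ ∈ Q' := by
      intro x hx
      rw [hQ', ← SetLike.mem_coe, Subgroup.mul_normal] at hx
      obtain ⟨q, hq, s, hs, rfl⟩ := hx
      rw [show g * (q * s) * g⁻¹ = (g * q * g⁻¹) * (g * s * g⁻¹) by group]
      exact mul_mem (Subgroup.mem_sup_left ((Subgroup.mem_normalizer_iff.mp hg q).mp hq))
        (Subgroup.mem_sup_right (hTn.conj_mem s hs g))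
    have hfix := dihedral_odd_fix Q' ψ hψ hQ'p
      ⟨t', Subgroup.mem_sup_right (Subgroup.mem_zpowers t')⟩
      (by rw [← ht', ← Subgroup.orderOf_coe])
      (fun x => Subtype.ext (htc x).symm) g hgQ' (Nat.coprime_two_right.mp hgp)
      (by change g * t' * g⁻¹ = t'; rw [htc g, mul_inv_cancel_right])
    exact Subgroup.mem_centralizer_iff.mpr fun q hq =>
      (mul_inv_eq_iff_eq_mul.mp (hfix q (Subgroup.mem_sup_left hq))).symm
  obtain ⟨P, N, hN, hc⟩ := hcomp
  refine ⟨N, hN, ?_, ?_⟩
  · rw [← Nat.not_even_iff_odd, even_iff_two_dvd, ← hc.index_eq_card]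
    exact P.not_dvd_index
  · obtain ⟨k, hk⟩ := IsPGroup.iff_card.mp P.isPGroup'
    exact ⟨k, by rw [← hk, hc.symm.index_eq_card]⟩

end Cfsg.Agent.S0514
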