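import Cfsg.Statements.S0947
import Cfsg.Prelude.Def_CaseTheorems
import Cfsg.Agent.Lib.Cores.Basic
import Cfsg.Agent.Lib.BrauerMap.PrincipalSection

set_option autoImplicit false
open Cfsg

namespace Cfsg.Agent.S0947

/-- Let z ≠ 1 be a p-element of the finite group G with centralizer H, and fix a maximal ideal M of the algebraic integers containing p. (i) For every y ∈ H of order prime to p, the sum over ζ in the principal block of G of |ζ (z * y)|² equals the sum over χ in the principal block of H of |χ y|². (ii) If moreover H has a normal p-complement (its largest normal subgroup of order prime to p has p-power index), that common value is the largest power of p dividing the order of H. -/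
theorem result {G : Type*} [Group G] [Finite G] (p : ℕ) [Fact p.Prime] (M : Ideal Cfsg.AlgInt) (hM : Cfsg.IsPModular p M) (z : G) (hz : ∃ k : ℕ, orderOf z = p ^ k) (hz1 : z ≠ 1) (y : Subgroup.centralizer ({z} : Set G)) (hy : ¬ p ∣ orderOf y) : (∑ᶠ ζ ∈ Cfsg.principalBlock M G, ‖(ζ : G → ℂ) (z * (y : G))‖ ^ 2 = ∑ᶠ χ ∈ Cfsg.principalBlock M (Subgroup.centralizer ({z} : Set G)), ‖(χ : Subgroup.centralizer ({z} : Set G) → ℂ) y‖ ^ 2) ∧ ((∃ k : ℕ, (Cfsg.pPrimeCore p (Subgroup.centralizer ({z} : Set G))).index = p ^ k) → ∑ᶠ ζ ∈ Cfsg.principalBlock M G, ‖(ζ : G → ℂ) (z * (y : G))‖ ^ 2 = ((p ^ (Nat.card (Subgroup.centralizer ({z} : Set G))).factorization p : ℕ) : ℝ)) := by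
  classical
  haveI := hM.2.1
  haveI := Fintype.ofFinite G
  have hp : p.Prime := Fact.out
  set zH : Subgroup.centralizer ({z} : Set G) :=
    ⟨z, Subgroup.mem_centralizer_singleton_iff.mpr rfl⟩ with hzH
  have hzc : ∀ w : Subgroup.centralizer ({z} : Set G), Commute zH w := fun w =>
    Subtype.ext (Subgroup.mem_centralizer_singleton_iff.mp w.2).symm
  have hpart : Cfsg.IsPPart p ((zH * y : Subgroup.centralizer ({z} : Set G)) : G) z :=
    ⟨y, rfl, congrArg Subtype.val (hzc y).eq, hz, by rwa [Subgroup.orderOf_coe]⟩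
  have hsec := Lib.BrauerMap.PrincipalSection.sum_principal_section hM (zH * y) (zH * y) hpart hpart
  simp only [Lib.BrauerMap.PrincipalSection.char_central_mul_mul_inv hzc] at hsec
  have hnorm : ∀ {X : Type _} [Group X] [Finite X] (B : Set (Cfsg.IrrCharacter X)) (x : X),
      ((∑ᶠ θ ∈ B, ‖(θ : X → ℂ) x‖ ^ 2 : ℝ) : ℂ) =
        ∑ᶠ θ ∈ B, (θ : X → ℂ) x * (θ : X → ℂ) x⁻¹ := by
    intro X _ _ B x
    rw [finsum_mem_eq_finite_toFinset_sum _ (Set.toFinite B),
      finsum_mem_eq_finite_toFinset_sum _ (Set.toFinite B), Complex.ofReal_sum]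
    refine Finset.sum_congr rfl fun θ _ => ?_
    rw [Lib.Characters.Basic.apply_inv (Lib.Characters.Basic.isCharacter_irr θ),
      Complex.mul_conj']
    push_cast
    rfl
  have h1 : ∑ᶠ ζ ∈ Cfsg.principalBlock M G, ‖(ζ : G → ℂ) (z * (y : G))‖ ^ 2 =
      ∑ᶠ χ ∈ Cfsg.principalBlock M (Subgroup.centralizer ({z} : Set G)),
        ‖(χ : Subgroup.centralizer ({z} : Set G) → ℂ) y‖ ^ 2 := by
    apply Complex.ofReal_injective
    rw [hnorm, hnorm]
    exact hsec
  refine ⟨h1, fun hidx => ?_⟩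
  obtain ⟨k, hk⟩ := hidx
  rw [h1]
  set K := Cfsg.pPrimeCore p (Subgroup.centralizer ({z} : Set G)) with hKdef
  haveI : K.Normal := Cfsg.pPrimeCore_normal p _
  have hK : ¬ p ∣ Nat.card K := Lib.Cores.not_dvd_card_pPrimeCore p
  have hyK : y ∈ K := by
    rw [← QuotientGroup.eq_one_iff, ← orderOf_eq_one_iff]
    have ha : orderOf (y : Subgroup.centralizer ({z} : Set G) ⧸ K) ∣ p ^ k := by
      rw [← hk, Subgroup.index_eq_card]
      exact orderOf_dvd_natCard _
    obtain ⟨i, -, hi⟩ := (Nat.dvd_prime_pow hp).mp ha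
    rcases Nat.eq_zero_or_pos i with rfl | hpos
    · simpa using hi
    · exact absurd ((dvd_pow_self p hpos.ne').trans
        (hi ▸ orderOf_map_dvd (QuotientGroup.mk' K) y)) hy
  have hfac : (Nat.card (Subgroup.centralizer ({z} : Set G))).factorization p = k := by
    rw [← K.card_mul_index, hk, Nat.factorization_mul Nat.card_pos.ne' (pow_ne_zero _ hp.ne_zero),
      Finsupp.add_apply, Nat.factorization_eq_zero_of_not_dvd hK, hp.factorization_pow,
      Finsupp.single_eq_same, zero_add]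
  rw [hfac]
  apply Complex.ofReal_injective
  rw [hnorm, Lib.BrauerMap.PrincipalSection.principalBlock_eq_trivialOn hM K hK ⟨k, hk⟩]
  simp only [Complex.ofReal_natCast]
  rw [← hk, ← Lib.BrauerMap.PrincipalSection.sum_sq_trivialOn K]
  refine finsum_congr fun θ => finsum_congr fun hθ => ?_
  rw [hθ y hyK, hθ y⁻¹ (K.inv_mem hyK)]

end Cfsg.Agent.S0947
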