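import Cfsg.Statements.S0508
import Cfsg.Agent.Lib.BSWRecog.Main
import Cfsg.Agent.Lib.BSWRecog.Dihedral

set_option autoImplicit false
open Cfsg

namespace Cfsg.Agent.S0508

/-- Let G be a finite simple group with a dihedral Sylow 2-subgroup S (of order at least 4), t an involution in the
centre of S, C the centralizer of t and O the core of C (its largest normal subgroup of odd order). Suppose that: if O
is nontrivial then the centralizer of O in S is cyclic of index 2 in S; every element of S not centralizing O inverts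
every element of O; and the normalizer of every nontrivial subgroup of O lies in C. Then G is isomorphic to a projective
special linear group of dimension 2 over a field of odd order. -/
theorem result {G : Type*} [Group G] [Finite G] [IsSimpleGroup G] (S : Sylow 2 G) (n : ℕ)
    (hn : 2 ≤ n) (hS : Nonempty ((S : Subgroup G) ≃* DihedralGroup n)) (t : G) (ht : orderOf t = 2)
    (htS : t ∈ (S : Subgroup G))
    (htZ : ∀ s ∈ (S : Subgroup G), s * t = t * s) (O : Subgroup G)
    (hO : O = (Cfsg.oddCore (Subgroup.centralizer ({t} : Set G))).map (Subgroup.centralizer ({t} : Set G)).subtype)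
    (ha : O ≠ ⊥ → IsCyclic ((S : Subgroup G) ⊓ Subgroup.centralizer (O : Set G) : Subgroup G) ∧
      ((S : Subgroup G) ⊓ Subgroup.centralizer (O : Set G)).relIndex (S : Subgroup G) = 2)
    (hb : ∀ s ∈ (S : Subgroup G), s ∉ Subgroup.centralizer (O : Set G) → ∀ y ∈ O, s * y * s⁻¹ = y⁻¹)
    (hc : ∀ Y : Subgroup G, Y ≤ O → Y ≠ ⊥ → Subgroup.normalizer (Y : Set G) ≤ Subgroup.centralizer ({t} : Set G)) :
    ∃ (F : Type) (_ : Field F) (_ : Fintype F), Odd (Fintype.card F) ∧ Nonempty (G ≃* Matrix.ProjectiveSpecialLinearGroup (Fin 2) F) := by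
  classical
  obtain ⟨e⟩ := hS
  let D : Lib.Fusion.Dihedral.Coords S n := Lib.Fusion.Dihedral.Coords.ofEquiv e
  have h2p : Fact (Nat.Prime 2) := ⟨Nat.prime_two⟩
  set C := Subgroup.centralizer ({t} : Set G) with hCdef
  have hmemC : ∀ g, g ∈ C ↔ g * t = t * g := fun g => Subgroup.mem_centralizer_singleton_iff
  have hSC : (S : Subgroup G) ≤ C := fun x hx => (hmemC x).2 (htZ x hx)
  have htt : t * t = 1 := by rw [← pow_two, ← ht]; exact pow_orderOf_eq_one t
  have ht1 : t ≠ 1 := fun e => by simp [e] at ht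
  -- the Sylow subgroup inside `C`
  let S' : Sylow 2 ↥C := S.subtype hSC
  have hS' : (S' : Subgroup ↥C) = (S : Subgroup G).subgroupOf C := rfl
  let D' : Lib.Fusion.Dihedral.Coords S' n := Lib.Fusion.Dihedral.Coords.ofEquiv
    ((Subgroup.subgroupOfEquivOfLe hSC).trans e)
  -- elements of `O`
  have hmemO : ∀ y, y ∈ O → ∃ hy : y ∈ C, (⟨y, hy⟩ : ↥C) ∈ Cfsg.oddCore ↥C := by
    intro y hy
    rw [hO] at hy
    obtain ⟨z, hz, rfl⟩ := hy
    exact ⟨z.2, hz⟩
  have hOC : O ≤ C := fun y hy => (hmemO y hy).1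
  have hOodd : ∀ y ∈ O, Odd (orderOf y) := by
    intro y hy
    obtain ⟨hyC, hy'⟩ := hmemO y hy
    have h1 : orderOf (⟨y, hyC⟩ : ↥C) ∣ Nat.card (Cfsg.oddCore ↥C) :=
      Subgroup.orderOf_dvd_natCard _ hy'
    rw [Subgroup.orderOf_mk] at h1
    exact Nat.coprime_two_right.1 (Nat.Coprime.coprime_dvd_left h1
      (Lib.Cores.pPrimeCore_coprime (G := ↥C) 2))
  have hnormO : ∀ c ∈ C, ∀ y ∈ O, c * y * c⁻¹ ∈ O := by
    intro c hc' y hy
    obtain ⟨hyC, hy'⟩ := hmemO y hy
    rw [hO]
    exact ⟨_, (inferInstance : (Cfsg.oddCore ↥C).Normal).conj_mem _ hy' ⟨c, hc'⟩, rfl⟩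
  have hSpow : ∀ x ∈ (S : Subgroup G), ∀ k : ℕ, Odd k → x ^ k = 1 → x = 1 := by
    intro x hx k hk hxk
    obtain ⟨j, hj⟩ := IsPGroup.iff_orderOf.1 S.2 ⟨x, hx⟩
    rw [Subgroup.orderOf_mk] at hj
    have h1 : orderOf x ∣ k := orderOf_dvd_of_pow_eq_one hxk
    rw [← orderOf_eq_one_iff]
    exact Nat.eq_one_of_dvd_coprimes ((Nat.coprime_two_left.2 hk).pow_left j) (dvd_of_eq hj) h1
  have hOS : ∀ x ∈ O, x ∈ (S : Subgroup G) → x = 1 := fun x hx hxS =>
    hSpow x hxS _ (hOodd x hx) (pow_orderOf_eq_one x)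
  have hdecomp : ∀ g ∈ C, ∃ y ∈ O, ∃ x ∈ (S : Subgroup G), g = y * x := by
    intro g hg
    have htC : t ∈ C := (hmemC t).2 rfl
    obtain ⟨y, hy, x, hx, he⟩ := Lib.BSWRecog.exists_eq_core_mul D' hn
      (t := (⟨t, htC⟩ : ↥C)) (by rw [Subgroup.orderOf_mk]; exact ht)
      (fun c => Subtype.ext ((hmemC c).1 c.2)) htS ⟨g, hg⟩
    exact ⟨y, hO ▸ Subgroup.mem_map_of_mem _ hy, x, hx, congrArg Subtype.val he⟩
  -- the cyclic subgroup of index two
  obtain ⟨A, hAS, hAcyc, hAcard, htA, hAO, hAinv⟩ : ∃ A : Subgroup G, A ≤ S ∧ IsCyclic A ∧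
      Nat.card A = n ∧ t ∈ A ∧ A ≤ Subgroup.centralizer (O : Set G) ∧
      ∀ s ∈ (S : Subgroup G), s ∉ A → ∀ y ∈ O, s * y * s⁻¹ = y⁻¹ := by
    by_cases hbot : O = ⊥
    · have htriv : ∀ B : Subgroup G, B ≤ Subgroup.centralizer (O : Set G) := by
        intro B x hx y hy
        rw [SetLike.mem_coe, hbot, Subgroup.mem_bot] at hy
        simp [hy]
      have hinvt : ∀ B : Subgroup G, ∀ s ∈ (S : Subgroup G), s ∉ B →
          ∀ y ∈ O, s * y * s⁻¹ = y⁻¹ := by
        intro B s _ _ y hy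
        rw [hbot, Subgroup.mem_bot] at hy
        simp [hy]
      rcases Nat.lt_or_ge n 3 with h3 | h3
      · exact ⟨Subgroup.zpowers t, Subgroup.zpowers_le.2 htS, inferInstance,
          by rw [Nat.card_zpowers, ht]; omega, Subgroup.mem_zpowers t, htriv _, hinvt _⟩
      · exact ⟨D.rot, D.rot_le, Lib.BSWRecog.rot_isCyclic D, Lib.BSWRecog.card_rot D,
          Lib.BSWRecog.mem_rot_of_central D h3 htS htZ, htriv _, hinvt _⟩
    · obtain ⟨hcyc, hidx⟩ := ha hbot
      refine ⟨(S : Subgroup G) ⊓ Subgroup.centralizer (O : Set G), inf_le_left, hcyc, ?_, ?_,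
        inf_le_right, fun s hs hsA => hb s hs fun hm => hsA ⟨hs, hm⟩⟩
      · have h1 := Subgroup.card_mul_index
          (((S : Subgroup G) ⊓ Subgroup.centralizer (O : Set G)).subgroupOf S)
        rw [Nat.card_congr (Subgroup.subgroupOfEquivOfLe inf_le_left).toEquiv,
          show (((S : Subgroup G) ⊓ Subgroup.centralizer (O : Set G)).subgroupOf S).index = 2
            from hidx, D.card] at h1
        omega
      · exact ⟨htS, fun y hy => (hmemC y).1 (hOC hy)⟩
  have hsqA : ∀ s ∈ (S : Subgroup G), s ∉ A → s * s = 1 := fun s hs hsA =>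
    Lib.BSWRecog.sq_of_notMem_cyclic D hn hAS hAcyc hAcard hs hsA
  obtain ⟨s, hsS, hsA⟩ : ∃ s ∈ (S : Subgroup G), s ∉ A := by
    by_contra hall
    push Not at hall
    have h1 := Subgroup.card_le_of_le (show (S : Subgroup G) ≤ A from hall)
    rw [hAcard, D.card] at h1
    omega
  have hss := hsqA s hsS hsA
  have hsO := hAinv s hsS hsA
  have hsinvA : ∀ a ∈ A, s * a * s⁻¹ = a⁻¹ := by
    intro a ha'
    have h1 : s * a * (s * a) = 1 := hsqA _ (mul_mem hsS (hAS ha'))
      (fun hm => hsA (by simpa using mul_mem hm (inv_mem ha')))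
    rw [inv_eq_of_mul_eq_one_right hss]
    exact eq_inv_of_mul_eq_one_left (by simpa [mul_assoc] using h1)
  have hOab : ∀ a ∈ O, ∀ b ∈ O, a * b = b * a := by
    intro a ha' b hb'
    have h1 := hsO _ (mul_mem ha' hb')
    have h2 : s * (a * b) * s⁻¹ = a⁻¹ * b⁻¹ := by
      rw [← hsO a ha', ← hsO b hb']; group
    rw [h2] at h1
    calc a * b = (b⁻¹ * a⁻¹)⁻¹ := by group
      _ = (a⁻¹ * b⁻¹)⁻¹ := by rw [← mul_inv_rev, ← h1]
      _ = b * a := by group
  have hAab : ∀ a ∈ A, ∀ b ∈ A, a * b = b * a := by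
    have : IsMulCommutative A := hAcyc.isMulCommutative
    intro a ha' b hb'
    exact setLike_mul_comm ha' hb'
  have hAOc : ∀ a ∈ A, ∀ y ∈ O, a * y = y * a := fun a ha' y hy => (hAO ha' y hy).symm
  -- the subgroup `K`
  let K : Subgroup G :=
    { carrier := {g | ∃ y ∈ O, ∃ a ∈ A, g = y * a}
      one_mem' := ⟨1, one_mem O, 1, one_mem A, by simp⟩
      mul_mem' := by
        rintro _ _ ⟨y, hy, a, ha', rfl⟩ ⟨y', hy', a', ha'', rfl⟩
        refine ⟨y * y', mul_mem hy hy', a * a', mul_mem ha' ha'', ?_⟩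
        rw [mul_assoc, ← mul_assoc a, hAOc a ha' y' hy']
        simp [mul_assoc]
      inv_mem' := by
        rintro _ ⟨y, hy, a, ha', rfl⟩
        refine ⟨y⁻¹, inv_mem hy, a⁻¹, inv_mem ha', ?_⟩
        rw [mul_inv_rev, hAOc a⁻¹ (inv_mem ha') y⁻¹ (inv_mem hy)] }
  have hK : ∀ g, g ∈ K ↔ ∃ y ∈ O, ∃ a ∈ A, g = y * a := fun g => Iff.rfl
  have hKinv : ∀ k ∈ K, s * k * s⁻¹ = k⁻¹ := by
    rintro _ ⟨y, hy, a, ha', rfl⟩
    rw [show s * (y * a) * s⁻¹ = (s * y * s⁻¹) * (s * a * s⁻¹) by group, hsO y hy, hsinvA a ha',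
      mul_inv_rev, hAOc a⁻¹ (inv_mem ha') y⁻¹ (inv_mem hy)]
  have hKcomm : ∀ a ∈ K, ∀ b ∈ K, a * b = b * a := by
    intro a ha' b hb'
    have h1 := hKinv _ (mul_mem ha' hb')
    have h2 : s * (a * b) * s⁻¹ = a⁻¹ * b⁻¹ := by
      rw [← hKinv a ha', ← hKinv b hb']; group
    rw [h2] at h1
    calc a * b = (b⁻¹ * a⁻¹)⁻¹ := by group
      _ = (a⁻¹ * b⁻¹)⁻¹ := by rw [← mul_inv_rev, ← h1]
      _ = b * a := by group
  have hcases : ∀ g : G, g * t = t * g → g ∈ K ∨ s * g ∈ K := by
    intro g hg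
    obtain ⟨y, hy, x, hx, rfl⟩ := hdecomp g ((hmemC g).2 hg)
    by_cases hxA : x ∈ A
    · exact Or.inl ⟨y, hy, x, hxA, rfl⟩
    · refine Or.inr ⟨y⁻¹, inv_mem hy, s * x, ?_, ?_⟩
      · have hidx : (A.subgroupOf (S : Subgroup G)).index = 2 := by
          have h1 := Subgroup.card_mul_index (A.subgroupOf (S : Subgroup G))
          rw [Nat.card_congr (Subgroup.subgroupOfEquivOfLe hAS).toEquiv, hAcard, D.card] at h1
          exact Nat.eq_of_mul_eq_mul_left (show 0 < n by omega) (h1.trans (mul_comm _ _))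
        exact (Subgroup.mul_mem_iff_of_index_two hidx (a := ⟨s, hsS⟩) (b := ⟨x, hx⟩)).2
          (iff_of_false hsA hxA)
      · rw [← hsO y hy]; group
  have hKodd : ∀ k ∈ K, Odd (orderOf k) → k ∈ O := by
    rintro _ ⟨y, hy, a, ha', rfl⟩ hodd
    have h1 : y ^ orderOf (y * a) * a ^ orderOf (y * a) = 1 := by
      rw [← (show Commute y a from (hAOc a ha' y hy).symm).mul_pow, pow_orderOf_eq_one]
    have h2 : a ^ orderOf (y * a) = 1 := hOS _
      (by rw [eq_inv_of_mul_eq_one_right h1]; exact inv_mem (pow_mem hy _))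
      (pow_mem (hAS ha') _)
    rw [hSpow a (hAS ha') _ hodd h2, mul_one]
    exact hy
  have huniq : ∀ a ∈ K, a * a = 1 → a = 1 ∨ a = t := by
    rintro _ ⟨y, hy, a, ha', rfl⟩ h2
    have h3 : y * y * (a * a) = 1 := by
      rw [← h2, mul_assoc, mul_assoc, ← mul_assoc a y a, hAOc a ha' y hy]; group
    have h4 : a * a = 1 := hOS _
      (by rw [eq_inv_of_mul_eq_one_right h3]; exact inv_mem (mul_mem hy hy))
      (mul_mem (hAS ha') (hAS ha'))
    rw [h4, mul_one] at h3
    have hy1 : y = 1 := by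
      obtain ⟨j, hj⟩ := hOodd y hy
      have := pow_orderOf_eq_one y
      rw [hj, pow_succ, pow_mul, pow_two, h3, one_pow, one_mul] at this
      exact this
    rw [hy1, one_mul]
    have hfin : Fintype A := Fintype.ofFinite A
    have := hAcyc
    have hle := IsCyclic.card_pow_eq_one_le (α := A) (n := 2) two_pos
    by_contra hne
    push Not at hne
    have hsub : ({1, ⟨t, htA⟩, ⟨a, ha'⟩} : Finset A) ⊆
        Finset.univ.filter fun z : A => z ^ 2 = 1 := by
      intro z hz
      simp only [Finset.mem_insert, Finset.mem_singleton] at hz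
      simp only [Finset.mem_filter, Finset.mem_univ, true_and]
      rcases hz with rfl | rfl | rfl
      · simp
      · exact Subtype.ext (by simpa [pow_two] using htt)
      · exact Subtype.ext (by simpa [pow_two] using h4)
    have h5 := (Finset.card_le_card hsub).trans hle
    rw [Finset.card_eq_three.2 ⟨1, ⟨t, htA⟩, ⟨a, ha'⟩,
      fun e => ht1 (congrArg Subtype.val e).symm, fun e => hne.1 (congrArg Subtype.val e).symm,
      fun e => hne.2 (congrArg Subtype.val e).symm, rfl⟩] at h5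
    omega
  have htK : t ∈ K := ⟨1, one_mem O, t, htA, (one_mul t).symm⟩
  have hti : ∀ a ∈ K, a ≠ 1 → ∀ g : G, g * a * g⁻¹ ∈ K → g * t = t * g := by
    intro a ha' ha1 g hg
    suffices hw : g * t * g⁻¹ ∈ K by
      have h1 : g * t * g⁻¹ * (g * t * g⁻¹) = 1 := by
        rw [show g * t * g⁻¹ * (g * t * g⁻¹) = g * (t * t) * g⁻¹ by group, htt]; simp
      rcases huniq _ hw h1 with e1 | e1
      · exact absurd (by simpa using e1) ht1
      · exact mul_inv_eq_iff_eq_mul.1 e1
    rcases Nat.even_or_odd (orderOf a) with ⟨j, hj⟩ | hodd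
    · have hpos := orderOf_pos a
      have h1 : a ^ j * a ^ j = 1 := by rw [← pow_add, ← hj]; exact pow_orderOf_eq_one a
      have h2 : a ^ j ≠ 1 := fun e1 => by
        have := Nat.le_of_dvd (by omega) (orderOf_dvd_of_pow_eq_one e1)
        omega
      rw [← (huniq _ (pow_mem ha' j) h1).resolve_left h2, ← conj_pow]
      exact pow_mem hg j
    · set b := g * a * g⁻¹ with hbdef
      have hbo : Odd (orderOf b) := by
        have h1 := MulEquiv.orderOf_eq (MulAut.conj g) a
        rw [MulAut.conj_apply] at h1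
        rw [hbdef, h1]; exact hodd
      have hbO : b ∈ O := hKodd b hg hbo
      have hb1 : b ≠ 1 := fun e1 => ha1 (by simpa [hbdef] using e1)
      have hwb : g * t * g⁻¹ * b = b * (g * t * g⁻¹) := by
        have h1 : a * t = t * a := hKcomm a ha' t htK
        calc g * t * g⁻¹ * b = g * (t * a) * g⁻¹ := by rw [hbdef]; group
          _ = b * (g * t * g⁻¹) := by rw [← h1, hbdef]; group
      have hwC : g * t * g⁻¹ ∈ C := by
        refine hc (Subgroup.zpowers b) (Subgroup.zpowers_le.2 hbO) (by simpa using hb1) ?_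
        refine Subgroup.centralizer_le_normalizer _ fun z hz => ?_
        obtain ⟨k, rfl⟩ := Subgroup.mem_zpowers_iff.1 hz
        exact ((show Commute (g * t * g⁻¹) b from hwb).zpow_right k).symm
      refine (hcases _ ((hmemC _).1 hwC)).resolve_right fun hsw => hb1 ?_
      have h1 : b = b⁻¹ := by
        calc b = g * t * g⁻¹ * b * (g * t * g⁻¹)⁻¹ := by rw [hwb, mul_inv_cancel_right]
          _ = s⁻¹ * ((s * (g * t * g⁻¹)) * b * (s * (g * t * g⁻¹))⁻¹) * s := by group
          _ = s⁻¹ * b * s := by rw [hKcomm _ hsw b hg, mul_inv_cancel_right]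
          _ = b⁻¹ := by
            conv_lhs => rw [show b = (s * b * s⁻¹)⁻¹ by rw [hsO b hbO, inv_inv]]
            group
      obtain ⟨j, hj⟩ := hbo
      have := pow_orderOf_eq_one b
      rw [hj, pow_succ, pow_mul, pow_two, show b * b = 1 from (congrArg (· * b) h1).trans (inv_mul_cancel b),
        one_pow, one_mul] at this
      exact this
  have hnoidx : ∀ H : Subgroup G, H.index ≠ 2 := by
    intro H hH
    have := Subgroup.normal_of_index_eq_two hH
    rcases this.eq_bot_or_eq_top with e1 | e1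
    · rw [e1, Subgroup.index_bot] at hH
      have h1 := Subgroup.card_le_card_group (S : Subgroup G)
      rw [D.card, hH] at h1
      omega
    · rw [e1, Subgroup.index_top] at hH; omega
  have hconj : ∀ x y : G, orderOf x = 2 → orderOf y = 2 → IsConj x y :=
    D.isConj_of_three hn fun U hU hf => by
      by_contra h3
      obtain ⟨H, hH⟩ := D.exists_index_two hn hU hf fun m hm hmo =>
        Lib.Fusion.Dihedral.commute_of_not_three hf h3 hm hmo
      exact hnoidx H hH
  exact Lib.BSWRecog.iso_psl_of_hyp (t := t) (s := s) (K := K)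
    { ht := ht
      hs := orderOf_eq_prime (by rw [pow_two, hss]) fun e1 => hsA (e1 ▸ one_mem A)
      htK := htK
      hsK := by
        rintro ⟨y, hy, a, ha', e1⟩
        have hyS : y ∈ (S : Subgroup G) := by
          rw [show y = s * a⁻¹ by rw [e1]; group]
          exact mul_mem hsS (inv_mem (hAS ha'))
        exact hsA (by rw [e1, hOS y hy hyS, one_mul]; exact ha')
      hst := htZ s hsS
      comm := hKcomm
      inv := hKinv
      cases' := hcases
      unique := huniq
      ti := hti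
      conj := hconj }

end Cfsg.Agent.S0508
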