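import Cfsg.Statements.S0217
import Cfsg.Agent.Lib.Signalizer.Complete

set_option autoImplicit false
open Cfsg

namespace Cfsg.Agent.S0217

theorem result {G : Type*} [Group G] [Finite G] {p : ℕ} [Fact p.Prime] (A : Subgroup G) (hAcomm : ∀ a ∈ A, ∀ b ∈ A, a * b = b * a) (hAexp : ∀ a ∈ A, a ^ p = 1) (hArank : p ^ 3 ≤ Nat.card A) (θ : G → Subgroup G) (hθC : ∀ a ∈ A, a ≠ 1 → θ a ≤ Subgroup.centralizer {a}) (hθp : ∀ a ∈ A, a ≠ 1 → ¬ p ∣ Nat.card (θ a)) (hθinv : ∀ a ∈ A, a ≠ 1 → ∀ b ∈ A, ∀ x ∈ θ a, b * x * b⁻¹ ∈ θ a) (hθsolv : ∀ a ∈ A, a ≠ 1 → Group.IsSolvable (θ a)) (hbal : ∀ a ∈ A, a ≠ 1 → ∀ b ∈ A, b ≠ 1 → θ a ⊓ Subgroup.centralizer {b} ≤ θ b) : ¬ p ∣ Nat.card ↥(⨆ a : {a : G // a ∈ A ∧ a ≠ 1}, θ a) ∧ ∀ a ∈ A, a ≠ 1 → (⨆ b : {a : G // a ∈ A ∧ a ≠ 1}, θ b) ⊓ Subgroup.centralizer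 {a} = θ a := by
  have hA : IsElementaryAbelian p A := ⟨⟨⟨fun a b => Subtype.ext (hAcomm a a.2 b b.2)⟩⟩, hAexp⟩
  have hθ : IsSolvableSignalizerFunctor p A θ := ⟨⟨hθC, hθp, hθinv, hbal⟩, hθsolv⟩
  obtain ⟨hm, heq⟩ := Lib.Signalizer.Completes.closure hA hArank hθ.1
    (Lib.Signalizer.completes hA hArank hθ)
  exact ⟨hm.2.1, heq⟩

end Cfsg.Agent.S0217
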