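import Cfsg.Statements.S1217
import Mathlib
import Cfsg.Agent.Lib.Fusion.SylowRecognize
import Cfsg.Agent.Lib.FusionPSL3.GL2Two
-- import your own Cfsg.Agent.* helpers here

set_option autoImplicit false
open scoped MatrixGroups
open Cfsg

namespace Cfsg.Agent.S1217

open Cfsg.Agent.Lib.Fusion Cfsg.Agent.Lib.FusionPSL3

variable {F : Type*} [Field F] [Fintype F]

theorem two_part {N : ℕ} (hN : N ≠ 0) : ∃ a o : ℕ, Odd o ∧ N = 2 ^ a * o := by
  obtain ⟨a, o, ho, h⟩ := Nat.exists_eq_two_pow_mul_odd hN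
  exact ⟨a, o, ho, h⟩

theorem wr_case (P : Sylow 2 (GL (Fin 2) F))
    (hcard : Nat.card (GL (Fin 2) F) =
      (Fintype.card F - 1) * ((Fintype.card F - 1) * (Fintype.card F + 1)) * Fintype.card F)
    (hq : Fintype.card F % 4 = 1) : Cfsg.IsWreathed (P : Subgroup (GL (Fin 2) F)) := by
  classical
  have h1 : 1 < Fintype.card F := Fintype.one_lt_card
  obtain ⟨n, o, ho, hno⟩ := two_part (N := Fintype.card F - 1) (by omega)
  have hn : 2 ≤ n := by
    by_contra h
    obtain ⟨t, rfl⟩ := ho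
    interval_cases n <;> omega
  obtain ⟨o', ho', ho''⟩ : ∃ o', Odd o' ∧ Fintype.card F + 1 = 2 * o' :=
    ⟨(Fintype.card F + 1) / 2, by rw [Nat.odd_iff]; omega, by omega⟩
  have hF : Odd (Fintype.card F) := by rw [Nat.odd_iff]; omega
  obtain ⟨a, ha⟩ := SylowRecognize.exists_orderOf (C := Fˣ) (d := 2 ^ n) (by
    rw [Nat.card_units, Nat.card_eq_fintype_card, hno]; exact dvd_mul_right _ _)
  have hinj : Function.Injective fun u : Fˣ => (diagU u 1 : GL (Fin 2) F) := by
    intro u v h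
    have := congrArg (fun g : GL (Fin 2) F => g.1 0 0) h
    simpa [diagU_val, Units.val_inj] using this
  have hx : orderOf (diagU a 1 : GL (Fin 2) F) = 2 ^ n := by
    rw [← ha]
    exact orderOf_injective
      ({ toFun := fun u => diagU u 1, map_one' := diagU_one,
         map_mul' := fun u v => by rw [diagU_mul, one_mul] } : Fˣ →* GL (Fin 2) F) hinj a
  refine SylowRecognize.wreathed P (o := o * o * o' * Fintype.card F) (y := diagU 1 a)
    (z := swapU) hn ?_ ((((ho.mul ho).mul ho').mul hF)) hx ?_ ?_ ?_ ?_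
  · rw [hcard, hno, ho'', two_mul n, pow_succ, pow_add]; ring
  · rw [diagU_mul, diagU_mul, one_mul, mul_one]
  · refine (Subgroup.eq_bot_iff_forall _).2 ?_
    rintro g ⟨⟨i, hi⟩, ⟨j, hj⟩⟩
    obtain ⟨k, hk⟩ : ∃ k : ℕ, (diagU a 1 : GL (Fin 2) F) ^ k = g := by
      have := Subgroup.mem_zpowers_iff.2 ⟨i, hi⟩
      rwa [← mem_powers_iff_mem_zpowers, Submonoid.mem_powers_iff] at this
    obtain ⟨l, hl⟩ : ∃ l : ℕ, (diagU 1 a : GL (Fin 2) F) ^ l = g := by
      have := Subgroup.mem_zpowers_iff.2 ⟨j, hj⟩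
      rwa [← mem_powers_iff_mem_zpowers, Submonoid.mem_powers_iff] at this
    rw [diagU_pow, one_pow] at hk hl
    have h00 := congrArg (fun g : GL (Fin 2) F => g.1 0 0) (hk.trans hl.symm)
    have : a ^ k = 1 := by simpa [diagU_val, ← Units.val_pow_eq_pow_val] using h00
    rw [← hk, this, diagU_one]
  · refine orderOf_eq_prime ?_ ?_
    · rw [pow_two]
      apply gl_ext <;> simp [swapU_val, Matrix.mul_apply, Fin.sum_univ_two]
    · intro h
      have := congrArg (fun g : GL (Fin 2) F => g.1 0 0) h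
      simp [swapU_val] at this
  · rw [mul_inv_eq_iff_eq_mul]
    apply gl_ext <;> simp [swapU_val, diagU_val, Matrix.mul_apply, Fin.sum_univ_two]

theorem qd_case (P : Sylow 2 (GL (Fin 2) F))
    (hcard : Nat.card (GL (Fin 2) F) =
      (Fintype.card F - 1) * ((Fintype.card F - 1) * (Fintype.card F + 1)) * Fintype.card F)
    (hq : Fintype.card F % 4 = 3) : Cfsg.IsQuasiDihedral (P : Subgroup (GL (Fin 2) F)) := by
  classical
  have h1 : 1 < Fintype.card F := Fintype.one_lt_card
  obtain ⟨m, o, ho, hmo⟩ := two_part (N := Fintype.card F + 1) (by omega)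
  have hm : 2 ≤ m := by
    by_contra h
    obtain ⟨t, rfl⟩ := ho
    interval_cases m <;> omega
  obtain ⟨o', ho', ho''⟩ : ∃ o', Odd o' ∧ Fintype.card F - 1 = 2 * o' :=
    ⟨(Fintype.card F - 1) / 2, by rw [Nat.odd_iff]; omega, by omega⟩
  have hF : Odd (Fintype.card F) := by rw [Nat.odd_iff]; omega
  obtain ⟨p, hp⟩ := CharP.exists F
  haveI : Fact p.Prime := ⟨(CharP.char_is_prime_or_zero F p).resolve_right
    (fun h => CharP.char_ne_zero_of_finite F p h)⟩
  let K := FiniteField.Extension F p 2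
  have hK : Nat.card K = Fintype.card F ^ 2 := by
    rw [FiniteField.natCard_extension, Nat.card_eq_fintype_card]
  have hfr : Module.finrank F K = 2 := FiniteField.finrank_extension F p 2
  obtain ⟨ζ, hζ⟩ := SylowRecognize.exists_orderOf (C := Kˣ) (d := 2 ^ (m + 1)) (by
    rw [Nat.card_units, hK]
    refine ⟨o * o', ?_⟩
    rw [show Fintype.card F ^ 2 - 1 = (Fintype.card F + 1) * (Fintype.card F - 1) by
      rw [← one_pow 2, Nat.sq_sub_sq, one_pow], hmo, ho'', pow_succ]
    ring)
  let b := Module.finBasisOfFinrankEq F K hfr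
  let e : (Module.End F K)ˣ ≃* GL (Fin 2) F := Units.mapEquiv (algEquivMatrix b).toMulEquiv
  let L : Kˣ →* (Module.End F K)ˣ := Units.map (Algebra.lmul F K).toMonoidHom
  have hL : Function.Injective L := Units.map_injective Algebra.lmul_injective
  have hL' : ∀ (u : Kˣ) (v : K), (L u : Module.End F K) v = u * v := fun _ _ => rfl
  let σ : Module.End F K := (FiniteField.Extension.frob F p 2).toLinearMap
  have hσ : ∀ v : K, σ v = v ^ Fintype.card F := fun v => by
    show FiniteField.Extension.frob F p 2 v = _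
    rw [FiniteField.Extension.frob_apply, Nat.card_eq_fintype_card]
  have hσ2 : σ * σ = 1 := by
    refine LinearMap.ext fun v => ?_
    show σ (σ v) = v
    rw [hσ, hσ, ← pow_mul, ← pow_two, ← hK]
    have := Fintype.ofFinite K
    rw [Nat.card_eq_fintype_card]
    exact FiniteField.pow_card v
  let s : (Module.End F K)ˣ := ⟨σ, σ, hσ2, hσ2⟩
  have hr : Fintype.card F ≡ 2 ^ m - 1 [MOD 2 ^ (m + 1)] := by
    obtain ⟨t, rfl⟩ := ho
    have hle := Nat.one_le_two_pow (n := m)
    have : Fintype.card F = 2 ^ (m + 1) * t + (2 ^ m - 1) := by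
      have e : 2 ^ m * (2 * t + 1) = 2 ^ (m + 1) * t + 2 ^ m := by ring
      omega
    rw [this]
    unfold Nat.ModEq
    rw [Nat.mul_add_mod]
  have hpow : ζ ^ Fintype.card F = ζ ^ (2 ^ m - 1) := by
    rw [pow_eq_pow_iff_modEq, hζ]; exact hr
  have hrel : s * L ζ * s⁻¹ = L ζ ^ (2 ^ m - 1) := by
    rw [← map_pow, ← hpow]
    apply Units.ext
    refine LinearMap.ext fun v => ?_
    show σ ((L ζ : Module.End F K) (σ v)) = (L (ζ ^ Fintype.card F) : Module.End F K) v
    rw [hL', hL', hσ, hσ, mul_pow, Units.val_pow_eq_pow_val]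
    congr 1
    rw [← pow_mul, ← pow_two, ← hK]
    have := Fintype.ofFinite K
    rw [Nat.card_eq_fintype_card]
    exact FiniteField.pow_card v
  have hs : orderOf s = 2 := by
    refine orderOf_eq_prime (by rw [pow_two]; exact Units.ext hσ2) ?_
    intro hs1
    rw [hs1, one_mul, inv_one, mul_one] at hrel
    have hζ1 : ζ ^ 1 = ζ ^ (2 ^ m - 1) := by
      rw [pow_one]
      exact hL (by rw [map_pow]; exact hrel)
    rw [pow_eq_pow_iff_modEq, hζ] at hζ1
    have h4 : 4 ∣ 2 ^ (m + 1) := by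
      have := Nat.pow_dvd_pow 2 (show 2 ≤ m + 1 by omega)
      simpa using this
    have h4' : 4 ∣ 2 ^ m := by
      have := Nat.pow_dvd_pow 2 hm
      simpa using this
    have hle := Nat.one_le_two_pow (n := m)
    have := hζ1.of_dvd h4
    unfold Nat.ModEq at this
    omega
  refine SylowRecognize.quasiDihedral P (n := m + 1) (o := o' * o' * o * Fintype.card F)
    (by omega) ?_ (((ho'.mul ho').mul ho).mul hF) (x := e (L ζ)) (y := e s) ?_ ?_ ?_
  · rw [hcard, hmo, ho'']; ring
  · rw [e.orderOf_eq, orderOf_injective L hL, hζ]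
  · rw [e.orderOf_eq, hs]
  · rw [Nat.add_sub_cancel, ← map_inv, ← map_mul, ← map_mul, ← map_pow, hrel]

/-- Let F be a finite field with q elements, q odd, and P a Sylow 2-subgroup of GL(2,F). If q ≡ 3 (mod 4) then P is quasi-dihedral; if q ≡ 1 (mod 4) then P is wreathed. -/
theorem result {F : Type*} [Field F] [Fintype F] (P : Sylow 2 (GL (Fin 2) F)) : (Fintype.card F % 4 = 3 → Cfsg.IsQuasiDihedral (P : Subgroup (GL (Fin 2) F))) ∧ (Fintype.card F % 4 = 1 → Cfsg.IsWreathed (P : Subgroup (GL (Fin 2) F))) := by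
  have hcard : Nat.card (GL (Fin 2) F) =
      (Fintype.card F - 1) * ((Fintype.card F - 1) * (Fintype.card F + 1)) * Fintype.card F := by
    rw [Matrix.card_GL_field]
    simp only [Fin.prod_univ_two, Fin.val_zero, Fin.val_one, pow_zero, pow_one]
    obtain ⟨r, hr⟩ : ∃ r, Fintype.card F = r + 1 :=
      ⟨Fintype.card F - 1, (Nat.sub_add_cancel Fintype.card_pos).symm⟩
    rw [hr]
    rw [show (r + 1) ^ 2 - 1 = r * (r + 2) by rw [Nat.sub_eq_iff_eq_add] <;> nlinarith,
      show (r + 1) ^ 2 - (r + 1) = r * (r + 1) by rw [Nat.sub_eq_iff_eq_add] <;> nlinarith,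
      Nat.add_sub_cancel]
    ring
  refine ⟨fun hq => ?_, fun hq => ?_⟩
  · exact qd_case P hcard hq
  · exact wr_case P hcard hq

end Cfsg.Agent.S1217
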