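import Cfsg.Statements.S0218
import Cfsg.Agent.Lib.Involutions.Basic


set_option autoImplicit false
open Cfsg

namespace Cfsg.Agent.S0218

/-- The generalized quaternion group of order 2^(n+3) contains exactly one element of order 2. -/
theorem result (n : ℕ) : Nat.card {x : QuaternionGroup (2 ^ (n + 1)) // orderOf x = 2} = 1 := by
  have hneq : 2 ^ (n + 1) ≠ 0 := by positivity
  have : NeZero (2 ^ (n + 1)) := ⟨hneq⟩
  have hm : ((2 ^ (n + 1) : ℕ) : ZMod (2 * 2 ^ (n + 1))) ≠ 0 := by
    rw [ne_eq, ZMod.natCast_eq_zero_iff]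
    intro h
    have := Nat.le_of_dvd (Nat.pos_of_ne_zero hneq) h
    omega
  refine Nat.card_eq_one_iff_exists.2
    ⟨⟨QuaternionGroup.a ((2 ^ (n + 1) : ℕ) : ZMod _), ?_⟩, ?_⟩
  · refine Cfsg.Agent.Lib.Involutions.Basic.invol_iff.2 ⟨?_, fun h => hm ?_⟩
    · rw [QuaternionGroup.a_mul_a, ← Nat.cast_add, QuaternionGroup.one_def]
      congr 1
      rw [ZMod.natCast_eq_zero_iff]
      exact ⟨1, by ring⟩
    · rw [QuaternionGroup.one_def] at h
      exact QuaternionGroup.a.inj h
  · rintro ⟨x, hx⟩
    apply Subtype.ext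
    cases x with
    | xa i =>
      exfalso
      rw [QuaternionGroup.orderOf_xa] at hx
      omega
    | a i =>
      have h1 := Cfsg.Agent.Lib.Involutions.Basic.invol_mul_self hx
      rw [QuaternionGroup.a_mul_a, QuaternionGroup.one_def] at h1
      have h2 := QuaternionGroup.a.inj h1
      have h3 : i ≠ 0 := by
        rintro rfl
        simp [QuaternionGroup.a_zero] at hx
      rw [← ZMod.natCast_zmod_val i, ← Nat.cast_add, ZMod.natCast_eq_zero_iff] at h2
      have h4 : i.val ≠ 0 := fun h => h3 ((ZMod.val_eq_zero i).1 h)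
      have h5 := i.val_lt
      obtain ⟨c, hc⟩ := h2
      have : c = 1 := by
        rcases Nat.lt_trichotomy c 1 with h | h | h
        · interval_cases c
          omega
        · exact h
        · have := Nat.mul_le_mul_left (2 * 2 ^ (n + 1)) (show 2 ≤ c from h)
          omega
      subst this
      show QuaternionGroup.a i = _
      rw [← ZMod.natCast_zmod_val i, show i.val = 2 ^ (n + 1) by omega]

end Cfsg.Agent.S0218
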