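import Cfsg.Statements.S0201
import Cfsg.Agent.Lib.ZStar.RankOne
import Cfsg.Agent.S0218


set_option autoImplicit false
open Cfsg

namespace Cfsg.Agent.S0201

/-- Brauer–Suzuki Theorem: if a Sylow 2-subgroup of a finite group is generalized quaternion (of order at least 8) and the group has no nontrivial normal subgroup of odd order, then its centre has order 2. -/
theorem result {G : Type*} [Group G] [Finite G] (S : Sylow 2 G) (n : ℕ) (e : (S : Subgroup G) ≃* QuaternionGroup (2 ^ (n + 1))) (hO : ∀ N : Subgroup G, N.Normal → Odd (Nat.card N) → N = ⊥) : Nat.card (Subgroup.center G) = 2 := by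
  obtain ⟨Q, hQ⟩ : ∃ m : ℕ, 2 ^ (n + 1) = m + 2 := ⟨2 ^ (n + 1) - 2, by
    have : 2 ≤ 2 ^ (n + 1) := Nat.le_self_pow (by omega) 2
    omega⟩
  have hcenter : ∀ q : QuaternionGroup (2 ^ (n + 1)), (∀ r, r * q = q * r) → q * q = 1 := by
    intro q hq
    rcases q with i | i
    · have h := hq (QuaternionGroup.xa 0)
      rw [QuaternionGroup.xa_mul_a, QuaternionGroup.a_mul_xa, QuaternionGroup.xa.injEq] at h
      rw [QuaternionGroup.a_mul_a, QuaternionGroup.one_def]
      congr 1
      linear_combination h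
    · exfalso
      have h := hq (QuaternionGroup.a 1)
      rw [QuaternionGroup.a_mul_xa, QuaternionGroup.xa_mul_a, QuaternionGroup.xa.injEq] at h
      have h2 : ((2 : ℕ) : ZMod (2 * 2 ^ (n + 1))) = 0 := by
        push_cast
        linear_combination -h
      have h3 := (ZMod.natCast_eq_zero_iff 2 (2 * 2 ^ (n + 1))).1 h2
      have h4 := Nat.le_of_dvd (by norm_num) h3
      omega
  have huniq : ∀ q : QuaternionGroup (2 ^ (n + 1)), orderOf q = 2 →
      q = QuaternionGroup.a (2 ^ (n + 1) : ℕ) := by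
    intro q hq
    have h := S0218.result n
    have hmem : orderOf (QuaternionGroup.a ((2 ^ (n + 1) : ℕ)) : QuaternionGroup (2 ^ (n + 1))) = 2 := by
      have : NeZero (2 ^ (n + 1)) := ⟨by positivity⟩
      rw [QuaternionGroup.orderOf_a]
      rw [ZMod.val_natCast, Nat.mod_eq_of_lt (by omega), Nat.gcd_mul_left_left]
      exact Nat.mul_div_left 2 (by positivity)
    obtain ⟨a, ha⟩ := Nat.card_eq_one_iff_exists.1 h
    exact congrArg Subtype.val ((ha ⟨q, hq⟩).trans (ha ⟨_, hmem⟩).symm)
  obtain ⟨t, ht⟩ : ∃ t : (S : Subgroup G), orderOf t = 2 := by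
    obtain ⟨q, hq⟩ := Nat.card_eq_one_iff_exists.1 (S0218.result n)
    exact ⟨e.symm q, (MulEquiv.orderOf_eq e.symm q.1).trans q.2⟩
  have htG : orderOf (t : G) = 2 := by rw [Subgroup.orderOf_coe, ht]
  have hS : ∀ y ∈ (S : Subgroup G), orderOf y = 2 → y = (t : G) := by
    intro y hy hyo
    refine congrArg Subtype.val (e.injective
      ((huniq _ ?_).trans (huniq _ ?_).symm) : (⟨y, hy⟩ : (S : Subgroup G)) = t)
    · rw [MulEquiv.orderOf_eq, Subgroup.orderOf_mk, hyo]
    · rw [MulEquiv.orderOf_eq, ht]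
  have htc : (t : G) ∈ Subgroup.center G :=
    Lib.ZStar.UniqueCase.mem_center_of_iso ⟨htG,
      (Lib.Involutions.Isolated.isolated_iff_odd_commutators htG t.2).1 fun g hg =>
        hS _ hg (by rw [Lib.Involutions.Basic.orderOf_conj_eq, htG])⟩ hO
  have hcS : ∀ z ∈ Subgroup.center G, z ∈ Subgroup.zpowers (t : G) := by
    intro z hz
    obtain ⟨k, m, hm, hzm⟩ := Nat.exists_eq_pow_mul_and_not_dvd (orderOf_pos z).ne' 2 (by norm_num)
    have hm1 : z ^ (2 ^ k) = 1 := by
      have hn : (Subgroup.zpowers (z ^ 2 ^ k)).Normal := by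
        constructor
        intro a ha b
        rw [Subgroup.mem_center_iff.1 ((Subgroup.zpowers_le.2 (pow_mem hz _)) ha) b,
          mul_inv_cancel_right]
        exact ha
      have h := hO _ hn (by
        rw [Nat.card_zpowers, orderOf_pow' _ (by positivity), hzm,
          Nat.gcd_mul_right_left, Nat.mul_div_cancel_left _ (by positivity)]
        exact Nat.odd_iff.2 (by omega))
      exact Subgroup.zpowers_eq_bot.1 h
    have hzp : IsPGroup 2 (Subgroup.zpowers z) := by
      obtain ⟨j, -, hj⟩ := (Nat.dvd_prime_pow Nat.prime_two).1 (orderOf_dvd_of_pow_eq_one hm1)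
      exact IsPGroup.of_card (n := j) (by rw [Nat.card_zpowers, hj])
    have hzS : z ∈ (S : Subgroup G) := by
      rw [← S.3 (IsPGroup.to_sup_of_normal_left' S.2 hzp (Subgroup.zpowers_le.2 (by
        rw [Subgroup.mem_normalizer_iff]
        intro a
        rw [← Subgroup.mem_center_iff.1 hz a, mul_inv_cancel_right]))) le_sup_left]
      exact Subgroup.mem_sup_right (Subgroup.mem_zpowers z)
    have h2 : z * z = 1 := by
      have h := hcenter (e ⟨z, hzS⟩) fun r => by
        obtain ⟨r, rfl⟩ := e.surjective r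
        rw [← map_mul, ← map_mul]
        exact congrArg e (Subtype.ext (Subgroup.mem_center_iff.1 hz r))
      rw [← map_mul, ← map_one e] at h
      exact congrArg Subtype.val (e.injective h)
    rcases eq_or_ne z 1 with h1 | h1
    · exact h1 ▸ one_mem _
    · rw [hS z hzS (Lib.Involutions.Basic.invol_iff.2 ⟨h2, h1⟩)]
      exact Subgroup.mem_zpowers _
  rw [le_antisymm hcS (Subgroup.zpowers_le.2 htc), Nat.card_zpowers, htG]

end Cfsg.Agent.S0201
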