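import Cfsg.Statements.S1248
import Mathlib
import Cfsg.Agent.Lib.Fusion.U34Sylow
import Cfsg.Agent.Lib.TwoGroups.Recognition
-- import your own Cfsg.Agent.* helpers here

set_option autoImplicit false
open Cfsg

namespace Cfsg.Agent.S1248

open Cfsg.Agent.Lib.Fusion.U34Sylow Cfsg.Agent.Lib.Unitary Subgroup
open scoped commutatorElement

/-- The structure of a group with the coordinates of the Sylow `2`-subgroup. -/
theorem structure_of_coords {F : Type*} [Field F] [Fintype F] (hF : Fintype.card F = 16)
    {S : Type*} [Group S] (C : Coords F S) :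
    Nat.card S = 64 ∧ IsKleinFour (center S) ∧ center S = closure {x : S | orderOf x = 2} ∧
      center S = commutator S ∧ Nat.card (S ⧸ center S) = 16 ∧
      ∀ x : S ⧸ center S, x ^ 2 = 1 := by
  classical
  have hF' := card_eq hF
  have h2 := two_eq_zero hF
  have hcard : Nat.card S = 64 := by rw [← Nat.card_congr C.equiv, card_pairs hF]
  have : Finite S := Nat.finite_of_card_ne_zero (by omega)
  have hext : ∀ p r : Pairs F, p.1.1 = r.1.1 → p.1.2 = r.1.2 → C.equiv p = C.equiv r :=
    fun p r a b => congrArg C.equiv (Subtype.ext (Prod.ext a b))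
  let co : S → F × F := fun g => (C.equiv.symm g).1
  have hco : ∀ g h, co (g * h) = ((co g).1 + (co h).1, (co g).2 + (co h).2 + (co g).1 ^ 4 * (co h).1) := by
    intro g h
    obtain ⟨w, hw⟩ := C.mul (C.equiv.symm g) (C.equiv.symm h)
    rw [C.equiv.apply_symm_apply, C.equiv.apply_symm_apply] at hw
    simp [co, hw]
  have hinj : ∀ g h, co g = co h → g = h := fun g h e =>
    C.equiv.symm.injective (Subtype.ext e)
  have hcond : ∀ g, (co g).2 + (co g).2 ^ 4 = (co g).1 * (co g).1 ^ 4 := fun g =>
    (C.equiv.symm g).2
  have hone : co 1 = (0, 0) := by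
    have h := hco 1 1
    rw [mul_one] at h
    have e1 : (co 1).1 = 0 := by
      have := congrArg Prod.fst h
      exact add_eq_left.1 this.symm
    have e2 : (co 1).2 = 0 := by
      have := congrArg Prod.snd h
      simp only [e1, mul_zero, add_zero] at this
      exact add_eq_left.1 this.symm
    exact Prod.ext e1 e2
  have hsq : ∀ g, co (g * g) = (0, (co g).1 ^ 4 * (co g).1) := by
    intro g
    rw [hco]
    refine Prod.ext ?_ ?_
    · show (co g).1 + (co g).1 = 0; linear_combination (co g).1 * h2
    · show (co g).2 + (co g).2 + _ = _; linear_combination (co g).2 * h2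
  have hcomm_iff : ∀ g h, g * h = h * g ↔ (co g).1 ^ 4 * (co h).1 = (co h).1 ^ 4 * (co g).1 := by
    intro g h
    constructor
    · intro e
      have := congrArg Prod.snd ((hco g h).symm.trans ((congrArg co e).trans (hco h g)))
      linear_combination this
    · intro e
      apply hinj
      rw [hco, hco, add_comm (co g).1, add_comm (co g).2]
      exact Prod.ext rfl (by show _ + _ = _ + _; rw [e])
  obtain ⟨c₀, hc₀, hc₀'⟩ : ∃ c : F, c ≠ 0 ∧ c ^ 4 ≠ c := by
    by_contra h
    push Not at h
    have : Nat.card {x : F // x ^ 4 = x} = Nat.card F := by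
      refine Nat.card_congr (Equiv.subtypeUnivEquiv fun x => ?_)
      rcases eq_or_ne x 0 with rfl | hx
      · simp
      · exact h x hx
    rw [card_fixed hF', Nat.card_eq_fintype_card, hF] at this
    omega
  have hlift : ∀ a : F, ∃ g, (co g).1 = a := by
    intro a
    obtain ⟨p, hp⟩ := exists_pair hF a
    exact ⟨C.equiv p, by simp [co, hp]⟩
  have hmemZ : ∀ g, g ∈ center S ↔ (co g).1 = 0 := by
    intro g
    rw [mem_center_iff]
    constructor
    · intro h
      obtain ⟨u, hu⟩ := hlift 1
      obtain ⟨w, hw⟩ := hlift c₀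
      have e1 := (hcomm_iff u g).1 (h u)
      have e2 := (hcomm_iff w g).1 (h w)
      rw [hu, one_pow, one_mul, mul_one] at e1
      rw [hw, ← e1, mul_comm ((co g).1)] at e2
      by_contra hne
      exact hc₀' (mul_right_cancel₀ hne e2)
    · intro h g'
      rw [hcomm_iff, h]; ring
  have hinv_iff : ∀ g, g * g = 1 ↔ (co g).1 = 0 := by
    intro g
    constructor
    · intro h
      have := congrArg Prod.snd ((hsq g).symm.trans (h ▸ hone))
      simp only [mul_eq_zero, pow_eq_zero_iff (show (4 : ℕ) ≠ 0 by norm_num), or_self] at this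
      exact this
    · intro h
      apply hinj
      rw [hsq, h, hone]; simp
  have hZ4 : Nat.card (center S) = 4 := by
    refine Eq.trans ?_ (card_trace_zero hF')
    refine Nat.card_congr (Equiv.ofBijective (fun g => ⟨(co (g : S)).2, by
      have := hcond (g : S)
      rw [(hmemZ _).1 g.2, zero_mul] at this
      exact this⟩) ⟨?_, ?_⟩)
    · intro a b h
      exact Subtype.ext (hinj _ _ (Prod.ext (((hmemZ _).1 a.2).trans ((hmemZ _).1 b.2).symm)
        (congrArg Subtype.val h)))
    · rintro ⟨b, hb⟩
      let p : Pairs F := ⟨(0, b), by simpa using hb⟩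
      exact ⟨⟨C.equiv p, (hmemZ _).2 (by simp [co, p])⟩, by simp [co, p]⟩
  have hK : IsKleinFour (center S) :=
    Cfsg.Agent.Lib.TwoGroups.Recognition.isKleinFour_of_card hZ4 fun g hg => (hinv_iff g).2 ((hmemZ g).1 hg)
  have hquot : ∀ x : S ⧸ center S, x ^ 2 = 1 := by
    intro x
    induction x using QuotientGroup.induction_on with
    | H g =>
      rw [← QuotientGroup.mk_pow, QuotientGroup.eq_one_iff, hmemZ, pow_two, hsq]
  refine ⟨hcard, hK, ?_, ?_, ?_, hquot⟩
  · apply le_antisymm
    · intro g hg
      by_cases h1 : g = 1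
      · subst h1; exact one_mem _
      · exact subset_closure (orderOf_eq_prime (by rw [pow_two]; exact (hinv_iff g).2 ((hmemZ g).1 hg)) h1)
    · rw [closure_le]
      intro g hg
      exact (hmemZ g).2 ((hinv_iff g).1 (by rw [← pow_two, ← show orderOf g = 2 from hg, pow_orderOf_eq_one]))
  · apply le_antisymm
    · intro g hg
      obtain ⟨c, hc⟩ := trace_surj hF' (y := (co g).2) (by
        have := hcond g
        rw [(hmemZ g).1 hg, zero_mul] at this
        linear_combination this - (co g).2 * h2)
      obtain ⟨u, hu⟩ := hlift 1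
      obtain ⟨w, hw⟩ := hlift c
      have e : g * (w * u) = u * w := by
        apply hinj
        rw [hco, hco, hco, (hmemZ g).1 hg, hu, hw]
        refine Prod.ext ?_ ?_
        · show 0 + (c + 1) = 1 + c; ring
        · show _ + ((co w).2 + (co u).2 + c ^ 4 * 1) + _ = (co u).2 + (co w).2 + 1 ^ 4 * c
          linear_combination (c ^ 4) * h2 - hc
      have : g = ⁅u, w⁆ := by
        rw [commutatorElement_def]
        rw [show u * w = g * (w * u) from e.symm]
        group
      rw [this, _root_.commutator_def]
      exact commutator_mem_commutator (mem_top _) (mem_top _)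
    · rw [_root_.commutator_def, commutator_le]
      intro a _ b _
      rw [← QuotientGroup.eq_one_iff]
      have hi : ∀ x : S ⧸ center S, x⁻¹ = x := fun x =>
        inv_eq_of_mul_eq_one_right (by rw [← pow_two]; exact hquot x)
      have hab : (a : S ⧸ center S) * b = b * a := by
        conv_lhs => rw [← hi ((a : S ⧸ center S) * b), mul_inv_rev, hi, hi]
      show ((⁅a, b⁆ : S) : S ⧸ center S) = 1
      rw [commutatorElement_def, QuotientGroup.mk_mul, QuotientGroup.mk_mul, QuotientGroup.mk_mul,
        QuotientGroup.mk_inv, QuotientGroup.mk_inv, hab]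
      group
  · have := card_eq_card_quotient_mul_card_subgroup (center S)
    rw [hcard, hZ4] at this
    omega

/-- Let F be a field with 16 elements and S a Sylow 2-subgroup of PSU(3) over F (the unitary group U₃(4)). Then |S| = 64; the centre Z(S) is a Klein four-group and coincides with the subgroup generated by the involutions of S and with the derived subgroup; and every element of S ⧸ Z(S) squares to the identity, S ⧸ Z(S) having order 16. -/
theorem result {F : Type*} [Field F] [Fintype F] (hF : Fintype.card F = 16) (S : Sylow 2 (Cfsg.PSU 3 F 4)) : Nat.card S = 64 ∧ IsKleinFour (Subgroup.center (S : Subgroup (Cfsg.PSU 3 F 4))) ∧ Subgroup.center (S : Subgroup (Cfsg.PSU 3 F 4)) = Subgroup.closure {x : (S : Subgroup (Cfsg.PSU 3 F 4)) | orderOf x = 2} ∧ Subgroup.center (S : Subgroup (Cfsg.PSU 3 F 4)) = commutator (S : Subgroup (Cfsg.PSU 3 F 4)) ∧ Nat.card ((S : Subgroup (Cfsg.PSU 3 F 4)) ⧸ Subgroup.center (S : Subgroup (Cfsg.PSU 3 F 4))) = 16 ∧ ∀ x : (S : Subgroup (Cfsg.PSU 3 F 4)) ⧸ Subgroup.center (S : Subgroup (Cfsg.PSU 3 F 4)),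 x ^ 2 = 1 := by
  obtain ⟨C⟩ := exists_coords hF S
  exact structure_of_coords hF C

end Cfsg.Agent.S1248
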