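import Cfsg.Statements.S1237
import Mathlib
import Cfsg.Agent.Lib.Fusion.U34Sylow
import Cfsg.Agent.Lib.Fusion.TransInvolutionsBasis
import Cfsg.Agent.S1248
import Cfsg.Agent.Lib.Fusion.SylowRecognize
import Cfsg.Agent.Lib.TwoGroups.Recognition
-- import your own Cfsg.Agent.* helpers here

set_option autoImplicit false
open Cfsg

namespace Cfsg.Agent.S1237

open Cfsg.Agent.Lib Cfsg.Agent.Lib.Fusion Cfsg.Agent.Lib.Fusion.TransInvolutions Subgroup

universe u

/-- The automorphism `(a, b) ↦ (ω a, ω² b)` of the coordinate group. -/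
theorem u34_hyp {F : Type*} [Field F] [Fintype F] (hF : Fintype.card F = 16) {S : Type*} [Group S]
    [Finite S] (hS : IsPGroup 2 S) (C : U34Sylow.Coords F S) :
    (∃ σ : MulAut S, Hyp σ (center S)) ∧ ∃ x y : S, x * y ≠ y * x := by
  classical
  obtain ⟨hcard, hK, hclo, -, -, -⟩ := S1248.structure_of_coords hF C
  have h2 := U34Sylow.two_eq_zero hF
  obtain ⟨w, hw⟩ := SylowRecognize.exists_orderOf (C := Fˣ) (d := 3) (by
    rw [Nat.card_units, Nat.card_eq_fintype_card, hF]; norm_num)
  have hw3 : (w : F) ^ 3 = 1 := by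
    rw [← Units.val_pow_eq_pow_val, ← hw, pow_orderOf_eq_one, Units.val_one]
  have hw1 : (w : F) ≠ 1 := by
    intro h
    rw [show w = 1 from Units.ext h, orderOf_one] at hw
    omega
  let fp : U34Sylow.Pairs F → U34Sylow.Pairs F := fun p =>
    ⟨((w : F) * p.1.1, (w : F) ^ 2 * p.1.2), by
      show (w : F) ^ 2 * p.1.2 + ((w : F) ^ 2 * p.1.2) ^ 4 = _
      linear_combination (w : F) ^ 2 * p.2 +
        ((p.1.2 ^ 4) * (w : F) ^ 2 * ((w : F) ^ 3 + 1) - p.1.1 * p.1.1 ^ 4 * (w : F) ^ 2) * hw3⟩
  let f : S → S := fun g => C.equiv (fp (C.equiv.symm g))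
  have hfp : Function.Injective fp := by
    intro p r h
    have h' := congrArg Subtype.val h
    simp only [fp, Prod.mk.injEq] at h'
    exact Subtype.ext (Prod.ext (mul_left_cancel₀ w.ne_zero h'.1)
      (mul_left_cancel₀ (pow_ne_zero 2 w.ne_zero) h'.2))
  have hf : Function.Bijective f := Finite.injective_iff_bijective.1
    fun a b h => C.equiv.symm.injective (hfp (C.equiv.injective h))
  have hmul : ∀ g h, f (g * h) = f g * f h := by
    intro g h
    obtain ⟨h1, e1⟩ := C.mul (C.equiv.symm g) (C.equiv.symm h)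
    obtain ⟨h3, e3⟩ := C.mul (fp (C.equiv.symm g)) (fp (C.equiv.symm h))
    rw [C.equiv.apply_symm_apply, C.equiv.apply_symm_apply] at e1
    show C.equiv (fp (C.equiv.symm (g * h))) = C.equiv (fp _) * C.equiv (fp _)
    rw [e3, e1, C.equiv.symm_apply_apply]
    refine congrArg C.equiv (Subtype.ext (Prod.ext ?_ ?_))
    · show (w : F) * (_ + _) = _ * _ + _ * _
      ring
    · show (w : F) ^ 2 * (_ + _ + _) = _ * _ + _ * _ + (_ * _) ^ 4 * (_ * _)
      rw [mul_pow]
      linear_combination -((C.equiv.symm g).1.1 ^ 4 * (C.equiv.symm h).1.1 * (w : F) ^ 2) * hw3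
  let σ : MulAut S := { Equiv.ofBijective f hf with map_mul' := hmul }
  have hσ : ∀ g, σ g = f g := fun g => rfl
  have hcard4 : Nat.card (center S) = 4 := hK.card_four
  have hinv : ∀ x : S, x * x = 1 ↔ x ∈ center S := by
    intro x
    constructor
    · intro h
      by_cases hx : x = 1
      · rw [hx]; exact one_mem _
      rw [hclo]
      exact Subgroup.subset_closure (orderOf_eq_prime (by rw [pow_two]; exact h) hx)
    · intro h
      have := hK
      have h' := IsKleinFour.mul_self (G := center S) ⟨x, h⟩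
      exact congrArg Subtype.val h'
  have hone : (C.equiv.symm 1).1 = (0, 0) := by
    obtain ⟨w', e⟩ := C.mul (C.equiv.symm 1) (C.equiv.symm 1)
    rw [C.equiv.apply_symm_apply, mul_one] at e
    have := congrArg (fun p : U34Sylow.Pairs F => p.1) ((congrArg C.equiv.symm e).trans (C.equiv.symm_apply_apply _))
    have a1 := congrArg Prod.fst this
    have a2 := congrArg Prod.snd this
    simp only at a1 a2
    have e1 : (C.equiv.symm 1).1.1 = 0 := left_eq_add.1 a1
    rw [e1, mul_zero, add_zero] at a2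
    exact Prod.ext e1 (left_eq_add.1 a2)
  refine ⟨⟨σ, ⟨hS, ⟨1, ?_⟩, hcard4, le_rfl, hinv, ?_, ?_⟩⟩, ?_⟩
  · ext g
    rw [pow_one, pow_succ, pow_succ, pow_one, MulAut.mul_apply, MulAut.mul_apply, MulAut.one_apply,
      hσ, hσ, hσ]
    simp only [f, C.equiv.symm_apply_apply]
    conv_rhs => rw [← C.equiv.apply_symm_apply g]
    refine congrArg C.equiv (Subtype.ext (Prod.ext ?_ ?_))
    · show (w : F) * ((w : F) * ((w : F) * _)) = _
      linear_combination (C.equiv.symm g).1.1 * hw3
    · show (w : F) ^ 2 * ((w : F) ^ 2 * ((w : F) ^ 2 * _)) = _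
      linear_combination (C.equiv.symm g).1.2 * ((w : F) ^ 3 + 1) * hw3
  · intro z hz
    rw [← hinv] at hz ⊢
    rw [← map_mul, hz, map_one]
  · intro z hz h
    rw [← hinv] at hz
    obtain ⟨w', e⟩ := C.mul (C.equiv.symm z) (C.equiv.symm z)
    rw [C.equiv.apply_symm_apply, hz] at e
    have e' : ((C.equiv.symm 1).1) = _ :=
      congrArg (fun p : U34Sylow.Pairs F => p.1) ((congrArg C.equiv.symm e).trans (C.equiv.symm_apply_apply _))
    rw [hone] at e'
    have hsq := congrArg Prod.snd e'
    simp only at hsq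
    have ha : (C.equiv.symm z).1.1 = 0 := by
      have h5 : (C.equiv.symm z).1.1 ^ 4 * (C.equiv.symm z).1.1 = 0 := by
        linear_combination -hsq - (C.equiv.symm z).1.2 * h2
      rw [← pow_succ] at h5
      exact eq_zero_of_pow_eq_zero h5
    have hb := congrArg (fun p : U34Sylow.Pairs F => p.1.2)
      ((congrArg C.equiv.symm (hσ z ▸ h : f z = z)).symm.trans (C.equiv.symm_apply_apply _))
    simp only [fp] at hb
    have hw2 : (w : F) ^ 2 ≠ 1 := fun h' => hw1 (by linear_combination hw3 - (w : F) * h')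
    have hb0 : (C.equiv.symm z).1.2 = 0 := by
      by_contra hne
      exact hw2 (mul_right_cancel₀ hne (by linear_combination -hb))
    apply C.equiv.symm.injective
    exact Subtype.ext (by rw [hone]; exact Prod.ext ha hb0)
  · by_contra h
    push Not at h
    have : center S = ⊤ := eq_top_iff.2 fun x _ => mem_center_iff.2 fun g => h g x
    rw [this, Subgroup.card_top, hcard] at hcard4
    omega

theorem homocyclic {T : Type*} [Group T] [Finite T] {σ : MulAut T} {Z : Subgroup T} (H : Hyp σ Z)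
    (hc : ∀ x y : T, x * y = y * x) :
    ∃ n : ℕ, 1 ≤ n ∧ Nonempty (T ≃* Multiplicative (ZMod (2 ^ n) × ZMod (2 ^ n))) := by
  classical
  have : Fact (Nat.Prime 2) := ⟨Nat.prime_two⟩
  obtain ⟨N, hN⟩ := IsPGroup.iff_card.1 H.pgroup
  have hex : ∃ n, ∀ x : T, x ^ 2 ^ n = 1 := ⟨N, fun x => by rw [← hN]; exact pow_card_eq_one'⟩
  obtain ⟨z0, hz0, hz01⟩ := H.z_ne_bot
  have hn0 : Nat.find hex ≠ 0 := fun h => hz01 (by simpa [h] using Nat.find_spec hex z0)
  obtain ⟨e, he⟩ : ∃ e, Nat.find hex = e + 1 := ⟨Nat.find hex - 1, by omega⟩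
  have hspec : ∀ x : T, x ^ 2 ^ (e + 1) = 1 := he ▸ Nat.find_spec hex
  obtain ⟨x, hx⟩ : ∃ x : T, x ^ 2 ^ e ≠ 1 := by
    have := Nat.find_min hex (show e < Nat.find hex by omega)
    push Not at this
    exact this
  set y := σ x
  have hxo : orderOf x = 2 ^ (e + 1) := orderOf_eq_prime_pow hx (hspec x)
  have hyo : orderOf y = 2 ^ (e + 1) := (σ.orderOf_eq x).trans hxo
  have : NeZero (2 ^ (e + 1)) := ⟨by positivity⟩
  let p : T → ZMod (2 ^ (e + 1)) → T := fun t i => Cfsg.Agent.Lib.TwoGroups.Recognition.powZ _ t i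
  let g : Multiplicative (ZMod (2 ^ (e + 1)) × ZMod (2 ^ (e + 1))) →* T :=
    { toFun := fun q => p x q.toAdd.1 * p y q.toAdd.2
      map_one' := by simp [p, Cfsg.Agent.Lib.TwoGroups.Recognition.powZ]
      map_mul' := fun q q' => by
        show p x (q.toAdd.1 + q'.toAdd.1) * p y (q.toAdd.2 + q'.toAdd.2) = _
        simp only [p]
        rw [Cfsg.Agent.Lib.TwoGroups.Recognition.powZ_add (hspec x),
          Cfsg.Agent.Lib.TwoGroups.Recognition.powZ_add (hspec y)]
        rw [mul_assoc, ← mul_assoc (Cfsg.Agent.Lib.TwoGroups.Recognition.powZ _ x q'.toAdd.1),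
          hc (Cfsg.Agent.Lib.TwoGroups.Recognition.powZ _ x q'.toAdd.1)
            (Cfsg.Agent.Lib.TwoGroups.Recognition.powZ _ y q.toAdd.2)]
        group }
  have hdis : ∀ i j : ℕ, x ^ i * y ^ j = 1 → 2 ^ (e + 1) ∣ i ∧ 2 ^ (e + 1) ∣ j := by
    intro i j hij
    have key : ∀ m, m ≤ e + 1 → 2 ^ m ∣ i ∧ 2 ^ m ∣ j := by
      intro m
      induction m with
      | zero => intro _; exact ⟨by simp, by simp⟩
      | succ m ih =>
        intro hm
        obtain ⟨⟨i', rfl⟩, ⟨j', rfl⟩⟩ := ih (by omega)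
        have h := congrArg (fun t => t ^ 2 ^ (e - m)) hij
        simp only [one_pow, Commute.mul_pow (hc _ _ : Commute (x ^ (2 ^ m * i')) (y ^ (2 ^ m * j')))] at h
        rw [← pow_mul, ← pow_mul, show 2 ^ m * i' * 2 ^ (e - m) = 2 ^ e * i' by
            rw [mul_right_comm, ← pow_add, show m + (e - m) = e by omega],
          show 2 ^ m * j' * 2 ^ (e - m) = 2 ^ e * j' by
            rw [mul_right_comm, ← pow_add, show m + (e - m) = e by omega], pow_mul, pow_mul] at h
        set z := x ^ 2 ^ e with hz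
        have hy' : y ^ 2 ^ e = σ z := (map_pow σ x _).symm
        rw [hy'] at h
        have hzZ : z ∈ Z := (H.invol z).1 (by rw [hz, ← pow_add, ← two_mul, ← pow_succ', hspec x])
        obtain ⟨o1, o2, o3, -, -⟩ := H.orbit hzZ hx
        have pw : ∀ (a : T), a * a = 1 → ∀ k, a ^ k = if Even k then 1 else a := by
          intro a ha k
          obtain ⟨l, rfl | rfl⟩ := Nat.even_or_odd' k
          · rw [pow_mul, pow_two, ha, one_pow, if_pos (by simp)]
          · rw [pow_succ, pow_mul, pow_two, ha, one_pow, one_mul, if_neg (by simp)]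
        rw [pw z (H.zsq hzZ), pw (σ z) (H.zsq (H.inv z hzZ))] at h
        have hev : Even i' ∧ Even j' := by
          by_cases hi : Even i' <;> by_cases hj : Even j' <;>
            simp only [hi, hj, if_true, if_false, one_mul, mul_one, and_self, and_true,
              true_and] at h ⊢
          · exact o1 h
          · exact hx h
          · exact o2 ((inv_eq_of_mul_eq_one_right h).symm.trans (H.zinv hzZ))
        exact ⟨by rw [pow_succ]; exact mul_dvd_mul_left _ hev.1.two_dvd,
          by rw [pow_succ]; exact mul_dvd_mul_left _ hev.2.two_dvd⟩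
    exact key (e + 1) le_rfl
  have hg : Function.Injective g := by
    rw [injective_iff_map_eq_one]
    intro q hq
    obtain ⟨h1, h2⟩ := hdis q.toAdd.1.val q.toAdd.2.val hq
    have hzero : ∀ a : ZMod (2 ^ (e + 1)), 2 ^ (e + 1) ∣ a.val → a = 0 := fun a ha => by
      have := Nat.eq_zero_of_dvd_of_lt ha a.val_lt
      exact (ZMod.val_eq_zero a).1 this
    exact Multiplicative.toAdd.injective (Prod.ext (hzero _ h1) (hzero _ h2))
  have hbound : ∀ i, Nat.card {t : T // t ^ 2 ^ i = 1} ≤ 4 ^ i := by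
    intro i
    induction i with
    | zero =>
      have : Subsingleton {t : T // t ^ 2 ^ 0 = 1} := ⟨fun a b => Subtype.ext (by
        have ha := a.2; have hb := b.2
        simp at ha hb; rw [ha, hb])⟩
      simpa using Finite.card_le_one_iff_subsingleton.2 this
    | succ i ih =>
      let A : Subgroup T :=
        { carrier := {t | t ^ 2 ^ (i + 1) = 1}
          one_mem' := one_pow _
          mul_mem' := fun {a b} ha hb => by
            simp only [Set.mem_setOf_eq] at *
            rw [Commute.mul_pow (hc a b), ha, hb, one_mul]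
          inv_mem' := fun {a} ha => by simp only [Set.mem_setOf_eq] at *; rw [inv_pow, ha, inv_one] }
      let B : Subgroup T :=
        { carrier := {t | t ^ 2 ^ i = 1}
          one_mem' := one_pow _
          mul_mem' := fun {a b} ha hb => by
            simp only [Set.mem_setOf_eq] at *
            rw [Commute.mul_pow (hc a b), ha, hb, one_mul]
          inv_mem' := fun {a} ha => by simp only [Set.mem_setOf_eq] at *; rw [inv_pow, ha, inv_one] }
      let f : A →* B :=
        { toFun := fun a => ⟨(a : T) * a, by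
            show ((a : T) * a) ^ 2 ^ i = 1
            rw [← pow_two, ← pow_mul, ← pow_succ']; exact a.2⟩
          map_one' := Subtype.ext (one_mul 1)
          map_mul' := fun a b => Subtype.ext (by
            show (a : T) * b * (a * b) = a * a * (b * b)
            rw [mul_assoc, ← mul_assoc (b : T), hc b a]; group) }
      have hker : Nat.card f.ker ≤ 4 := by
        rw [← H.cardZ]
        refine Nat.card_le_card_of_injective
          (fun a => (⟨((a : A) : T), (H.invol _).1 (congrArg Subtype.val a.2)⟩ : Z)) ?_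
        intro a b h
        exact Subtype.ext (Subtype.ext (congrArg (fun z : Z => (z : T)) h))
      have h1 := f.ker.card_mul_index
      rw [Subgroup.index_ker] at h1
      calc Nat.card {t : T // t ^ 2 ^ (i + 1) = 1} = Nat.card A := rfl
        _ ≤ 4 * Nat.card B := by
          rw [← h1]; exact Nat.mul_le_mul hker (Subgroup.card_le_card_group _)
        _ ≤ 4 ^ (i + 1) := by rw [pow_succ']; exact Nat.mul_le_mul_left 4 ih
  refine ⟨e + 1, by omega, ⟨(MulEquiv.ofBijective g (hg.bijective_of_nat_card_le ?_)).symm⟩⟩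
  rw [Nat.card_congr (Equiv.subtypeUnivEquiv hspec).symm]
  refine (hbound (e + 1)).trans (le_of_eq ?_)
  rw [Nat.card_congr Multiplicative.toAdd, Nat.card_prod, Nat.card_zmod, ← mul_pow]
  norm_num

/-- A suitable power of a transitive automorphism. -/
theorem exists_hyp {T : Type*} [Group T] [Finite T] (hT : IsPGroup 2 T) (h2 : Cfsg.PRankLE 2 2 T)
    (h1 : ¬ Cfsg.PRankLE 2 1 T) (φ : MulAut T)
    (htrans : ∀ s t : T, orderOf s = 2 → orderOf t = 2 → ∃ k : ℕ, (φ ^ k) s = t) :
    ∃ (σ : MulAut T) (Z : Subgroup T), Hyp σ Z := by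
  classical
  have : Fact (Nat.Prime 2) := ⟨Nat.prime_two⟩
  unfold Cfsg.PRankLE at h1
  push Not at h1
  obtain ⟨A, hAc, hA2, hAcard⟩ := h1
  have : Nontrivial T := by
    rw [← not_subsingleton_iff_nontrivial]
    intro h
    have : Nat.card A ≤ 1 := Finite.card_le_one_iff_subsingleton.2 inferInstance
    omega
  have := hT.center_nontrivial
  obtain ⟨⟨c, hc⟩, hc1⟩ := exists_ne (1 : center T)
  obtain ⟨j, hj1, hj⟩ := Suzuki2.Basic.exists_involution_pow hT (x := c) fun h => hc1 (Subtype.ext h)
  have ord2 : ∀ {x : T}, x ≠ 1 → x * x = 1 → orderOf x = 2 := fun h h' =>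
    orderOf_eq_prime (by rw [pow_two]; exact h') h
  have hcent : ∀ x : T, x * x = 1 → x ∈ center T := by
    intro x hx
    by_cases hx1 : x = 1
    · rw [hx1]; exact one_mem _
    obtain ⟨k, hk⟩ := htrans _ x (ord2 hj1 hj) (ord2 hx1 hx)
    rw [← hk]
    exact Suzuki2.Basic.apply_center _ (pow_mem hc _)
  let Z : Subgroup T :=
    { carrier := {x | x * x = 1}
      one_mem' := one_mul 1
      mul_mem' := fun {a b} ha hb => by
        simp only [Set.mem_setOf_eq] at *
        have := mem_center_iff.1 (hcent a ha) b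
        rw [mul_assoc, ← mul_assoc b, this, mul_assoc a b b, hb, mul_one, ha]
      inv_mem' := fun {a} ha => by
        simp only [Set.mem_setOf_eq] at *
        rw [← mul_inv_rev, ha, inv_one] }
  have hZc : IsMulCommutative Z := ⟨⟨fun a b => Subtype.ext (mem_center_iff.1 (hcent b b.2) a)⟩⟩
  have hle := h2 Z hZc (fun a ha => by rw [pow_two]; exact ha)
  have hAZ : A ≤ Z := fun a ha => by have := hA2 a ha; rw [pow_two] at this; exact this
  have hge := Nat.le_of_dvd Nat.card_pos (Subgroup.card_dvd_of_le hAZ)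
  have hcard : Nat.card Z = 4 := by
    obtain ⟨i, hi⟩ := IsPGroup.iff_card.1 (hT.to_subgroup Z)
    rw [hi] at hle hge ⊢
    rcases (by
      by_contra h
      have : 3 ≤ i := by omega
      have := Nat.pow_le_pow_right (show 1 ≤ 2 by norm_num) this
      omega : i ≤ 2) |> fun h => (show i = 0 ∨ i = 1 ∨ i = 2 by omega) with rfl | rfl | rfl <;>
      simp at hle hge ⊢ <;> omega
  have hinvZ : ∀ (ψ : MulAut T), ∀ z ∈ Z, ψ z ∈ Z := fun ψ z hz => by
    show ψ z * ψ z = 1
    rw [← map_mul, show z * z = 1 from hz, map_one]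
  have : Nontrivial Z := Finite.one_lt_card_iff_nontrivial.1 (by rw [hcard]; norm_num)
  have hmoves : ∀ z ∈ Z, φ z = z → z = 1 := by
    intro z hz hfix
    by_contra hz1
    have hall : ∀ w : Z, w = 1 ∨ w = ⟨z, hz⟩ := by
      intro w
      by_cases hw : w = 1
      · exact Or.inl hw
      · obtain ⟨k, hk⟩ := htrans z w (ord2 hz1 hz) (ord2 (fun h => hw (Subtype.ext h)) w.2)
        refine Or.inr (Subtype.ext (hk.symm.trans ?_))
        clear hk
        induction k with
        | zero => rfl
        | succ k ih => rw [pow_succ, MulAut.mul_apply, hfix, ih]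
    have : Nat.card Z ≤ Nat.card (Fin 2) :=
      Nat.card_le_card_of_surjective ![(1 : Z), ⟨z, hz⟩] fun w => by
        rcases hall w with h | h
        · exact ⟨0, h.symm⟩
        · exact ⟨1, h.symm⟩
    rw [hcard, Nat.card_fin] at this
    omega
  have hn := orderOf_pos φ
  obtain ⟨k, m, hm, hord⟩ := Nat.exists_eq_pow_mul_and_not_dvd hn.ne' 3 (by norm_num)
  refine ⟨φ ^ m, Z, hT, ⟨k, ?_⟩, hcard, fun z hz => hcent z hz, fun x => Iff.rfl, hinvZ _, ?_⟩
  · rw [← pow_mul, mul_comm, ← hord, pow_orderOf_eq_one]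
  intro z hz hfix
  by_contra hz1
  set w := φ z with hw
  have hwZ : w ∈ Z := hinvZ φ z hz
  have hwz : w ≠ z := fun h => hz1 (hmoves z hz h)
  have hw1 : w ≠ 1 := fun h => hz1 (φ.injective (h.trans φ.map_one.symm))
  have hww : φ w ≠ w := fun h => hw1 (hmoves w hwZ h)
  have hwz' : φ w ≠ z := by
    intro h
    have hper : ∀ i : ℕ, (φ ^ i) z = z ∨ (φ ^ i) z = w := by
      intro i
      induction i with
      | zero => exact Or.inl rfl
      | succ i ih =>
        rw [pow_succ', MulAut.mul_apply]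
        rcases ih with e | e <;> rw [e]
        · exact Or.inr hw.symm
        · exact Or.inl h
    have h3 : z * w ≠ 1 := fun e => hwz ((inv_eq_of_mul_eq_one_right e).symm.trans
      (inv_eq_of_mul_eq_one_right hz))
    obtain ⟨i, hi⟩ := htrans z (z * w) (ord2 hz1 hz) (ord2 h3 (Z.mul_mem hz hwZ))
    rcases hper i with e | e <;> rw [e] at hi
    · exact hw1 (left_eq_mul.1 hi)
    · exact hz1 (right_eq_mul.1 hi)
  have hthird : φ w = z * w := by
    have hf : Function.Injective ![(1 : Z), ⟨z, hz⟩, ⟨w, hwZ⟩, ⟨z * w, Z.mul_mem hz hwZ⟩] := by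
      have h3 : z * w ≠ 1 := fun e => hwz ((inv_eq_of_mul_eq_one_right e).symm.trans
        (inv_eq_of_mul_eq_one_right hz))
      intro a b h
      have h' := congrArg (fun t : Z => (t : T)) h
      fin_cases a <;> fin_cases b <;>
        simp [hz1, hw1, hwz, h3, Ne.symm hz1, Ne.symm hw1, Ne.symm hwz, Ne.symm h3] at h' ⊢
    obtain ⟨i, hi⟩ := (hf.bijective_of_nat_card_le (by rw [hcard, Nat.card_fin])).2
      ⟨φ w, hinvZ φ w hwZ⟩
    have hi' := congrArg Subtype.val hi
    fin_cases i <;> simp at hi'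
    · exact absurd (φ.injective (hi'.symm.trans φ.map_one.symm)) hw1
    · exact absurd hi'.symm hwz'
    · exact absurd hi'.symm hww
    · exact hi'.symm
  have h3 : φ (φ (φ z)) = z := by
    rw [← hw, hthird, map_mul, hthird, ← hw, ← mul_assoc,
      show w * z = z * w from mem_center_iff.1 (hcent z hz) w, mul_assoc, show w * w = 1 from hwZ,
      mul_one]
  have hper : ∀ q : ℕ, (φ ^ (3 * q)) z = z := by
    intro q
    induction q with
    | zero => rfl
    | succ q ih => rw [show 3 * (q + 1) = 3 * q + (1 + (1 + 1)) by ring, pow_add, pow_add, pow_add,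
        pow_one, MulAut.mul_apply, MulAut.mul_apply, MulAut.mul_apply, h3, ih]
  have hr : m % 3 = 1 ∨ m % 3 = 2 := by omega
  rw [← Nat.mod_add_div m 3, pow_add, MulAut.mul_apply, hper] at hfix
  rcases hr with h | h <;> rw [h] at hfix
  · rw [pow_one] at hfix
    exact hwz hfix
  · rw [pow_two, MulAut.mul_apply] at hfix
    exact hwz' hfix

/-- Let T be a finite 2-group of 2-rank exactly 2 (it has a Klein four-subgroup but no elementary abelian subgroup of order 8) admitting an automorphism φ such that any two involutions of T are carried to one another by a power of φ. Then T ≅ Z_{2^n} × Z_{2^n} for some n ≥ 1, or T is isomorphic to a Sylow 2-subgroup of PSU(3) over the field with 16 elements. -/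
theorem result {T : Type*} [Group T] [Finite T] (hT : IsPGroup 2 T) (h2 : Cfsg.PRankLE 2 2 T) (h1 : ¬ Cfsg.PRankLE 2 1 T) (φ : MulAut T) (htrans : ∀ s t : T, orderOf s = 2 → orderOf t = 2 → ∃ k : ℕ, (φ ^ k) s = t) {F : Type*} [Field F] [Fintype F] (hF : Fintype.card F = 16) (P : Sylow 2 (Cfsg.PSU 3 F 4)) : (∃ n : ℕ, 1 ≤ n ∧ Nonempty (T ≃* Multiplicative (ZMod (2 ^ n) × ZMod (2 ^ n)))) ∨ Nonempty (T ≃* (P : Subgroup (Cfsg.PSU 3 F 4))) := by
  obtain ⟨σ, Z, H⟩ := exists_hyp hT h2 h1 φ htrans
  by_cases hc : ∀ x y : T, x * y = y * x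
  · exact Or.inl (homocyclic H hc)
  · push Not at hc
    obtain ⟨hcard, b, R, hg⟩ := exists_basis H hc
    obtain ⟨C⟩ := U34Sylow.exists_coords hF P
    obtain ⟨⟨τ, H'⟩, hc'⟩ := u34_hyp hF P.isPGroup' C
    obtain ⟨hcard', b', R', hg'⟩ := exists_basis H' hc'
    exact Or.inr (nonempty_equiv R R' hg hg' hcard hcard')

end Cfsg.Agent.S1237
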