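import Cfsg.Statements.S1244
import Mathlib
-- import your own Cfsg.Agent.* helpers here

set_option autoImplicit false
open Cfsg

namespace Cfsg.Agent.S1244

open Subgroup

variable {G : Type*} [Group G] [Finite G]

/-- A nontrivial homomorphism to a 2-group gives a subgroup of index two. -/
theorem exists_index_two {A : Type*} [Group A] [Finite A] (hA : IsPGroup 2 A) (χ : G →* A) (g : G)
    (hg : χ g ≠ 1) : ∃ H : Subgroup G, H.index = 2 := by
  have : Fact (Nat.Prime 2) := ⟨Nat.prime_two⟩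
  obtain ⟨n, hn⟩ := (hA.to_subgroup χ.range).exists_card_eq
  have hn0 : n ≠ 0 := by
    rintro rfl
    have : χ.range = ⊥ := card_eq_one.1 (by simpa using hn)
    exact hg (mem_bot.1 (this ▸ ⟨g, rfl⟩))
  obtain ⟨M, hM⟩ := Sylow.exists_subgroup_card_pow_prime (G := χ.range) 2 (n := n - 1)
    (by rw [hn]; exact pow_dvd_pow 2 (by omega))
  refine ⟨M.comap χ.rangeRestrict, ?_⟩
  rw [index_comap_of_surjective _ χ.rangeRestrict_surjective]
  have h1 := M.card_mul_index
  rw [hM, hn, show (2 : ℕ) ^ n = 2 ^ (n - 1) * 2 by rw [← pow_succ]; congr 1; omega] at h1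
  exact Nat.eq_of_mul_eq_mul_left (by positivity) h1

/-- Rank bound gives the order of the subgroup of elements of order at most two. -/
theorem card_eq_pow {X : Subgroup G} {V : Subgroup G} (hVX : V ≤ X)
    (hVc : ∀ a ∈ V, ∀ b ∈ V, a * b = b * a) (hV2 : ∀ a ∈ V, a ^ 2 = 1)
    (hmax : ∀ a ∈ X, a ^ 2 = 1 → a ∈ V) (k : ℕ) (h1 : Cfsg.PRankLE 2 k X)
    (h2 : k = 0 ∨ ¬ Cfsg.PRankLE 2 (k - 1) X) : Nat.card V = 2 ^ k := by
  have : Fact (Nat.Prime 2) := ⟨Nat.prime_two⟩
  have hle : Nat.card V ≤ 2 ^ k := by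
    rw [← Nat.card_congr (subgroupOfEquivOfLe hVX).toEquiv]
    refine h1 _ ⟨⟨fun a b => ?_⟩⟩ fun a ha => Subtype.ext (hV2 _ ha)
    exact Subtype.ext (Subtype.ext (hVc _ a.2 _ b.2))
  have hp : IsPGroup 2 V := fun a => ⟨1, Subtype.ext (by simpa using hV2 a a.2)⟩
  obtain ⟨j, hj⟩ := hp.exists_card_eq
  rw [hj] at hle ⊢
  have hjk : j ≤ k := (Nat.pow_le_pow_iff_right (by norm_num)).1 hle
  rcases h2 with rfl | h2
  · rw [Nat.le_zero.1 hjk]
  congr 1
  by_contra hne
  apply h2
  intro E hEc hE2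
  have hEV : E.map X.subtype ≤ V := by
    rintro _ ⟨e, he, rfl⟩
    exact hmax _ e.2 (congrArg Subtype.val (hE2 e he))
  calc Nat.card E = Nat.card (E.map X.subtype) :=
        (card_map_of_injective Subtype.val_injective).symm
    _ ≤ Nat.card V := card_le_of_le hEV
    _ ≤ 2 ^ (k - 1) := by rw [hj]; exact Nat.pow_le_pow_right (by norm_num) (by omega)

/-- Let G be a finite group with no subgroup of index 2 whose Sylow 2-subgroup S is commutative, and let R ≤ S be a subgroup whose 2-rank is exactly one less than the 2-rank r of S. Then every involution of S is conjugate, by an element of N_G(S), to an element of R. -/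
theorem result {G : Type*} [Group G] [Finite G] (hG : ∀ H : Subgroup G, H.index ≠ 2) (S : Sylow 2 G) (hS : IsMulCommutative (S : Subgroup G)) (r : ℕ) (hr1 : 1 ≤ r) (hSr : Cfsg.PRankLE 2 r (S : Subgroup G) ∧ ¬ Cfsg.PRankLE 2 (r - 1) (S : Subgroup G)) (R : Subgroup G) (hRS : R ≤ S) (hRr : Cfsg.PRankLE 2 (r - 1) R ∧ (r = 1 ∨ ¬ Cfsg.PRankLE 2 (r - 2) R)) (t : G) (ht : orderOf t = 2) (htS : t ∈ S) : ∃ n ∈ Subgroup.normalizer ((S : Subgroup G) : Set G), n * t * n⁻¹ ∈ R := by
  classical
  have : Fact (Nat.Prime 2) := ⟨Nat.prime_two⟩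
  have hcomm : ∀ a ∈ (S : Subgroup G), ∀ b ∈ (S : Subgroup G), a * b = b * a :=
    fun a ha b hb => congrArg Subtype.val (hS.is_comm.comm ⟨a, ha⟩ ⟨b, hb⟩)
  let V : Subgroup G :=
    { carrier := {x | x ∈ (S : Subgroup G) ∧ x ^ 2 = 1}
      one_mem' := ⟨one_mem _, one_pow _⟩
      mul_mem' := fun {a b} ha hb => ⟨mul_mem ha.1 hb.1, by
        rw [(show Commute a b from hcomm a ha.1 b hb.1).mul_pow, ha.2, hb.2, mul_one]⟩
      inv_mem' := fun {a} ha => ⟨inv_mem ha.1, by rw [inv_pow, ha.2, inv_one]⟩ }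
  have hVS : V ≤ (S : Subgroup G) := fun x hx => hx.1
  have hVcard : Nat.card V = 2 ^ r :=
    card_eq_pow hVS (fun a ha b hb => hcomm a ha.1 b hb.1) (fun a ha => ha.2)
      (fun a ha h => ⟨ha, h⟩) r hSr.1 (Or.inr hSr.2)
  have hWcard : Nat.card (R ⊓ V : Subgroup G) = 2 ^ (r - 1) :=
    card_eq_pow inf_le_left
      (fun a ha b hb => hcomm a (hVS (Subgroup.mem_inf.1 ha).2) b (hVS (Subgroup.mem_inf.1 hb).2))
      (fun a ha => ((Subgroup.mem_inf.1 ha).2 : a ∈ (S : Subgroup G) ∧ a ^ 2 = 1).2)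
      (fun a ha h => Subgroup.mem_inf.2 ⟨ha, ⟨hRS ha, h⟩⟩) (r - 1) hRr.1
      (by
        rcases hRr.2 with h | h
        · left; omega
        · right; rwa [Nat.sub_sub])
  set W : Subgroup V := (R ⊓ V).subgroupOf V with hW
  have hWidx : W.index = 2 := by
    have h1 := W.card_mul_index
    rw [Nat.card_congr (Subgroup.subgroupOfEquivOfLe inf_le_right).toEquiv, hWcard, hVcard,
      show (2 : ℕ) ^ r = 2 ^ (r - 1) * 2 by rw [← pow_succ]; congr 1; omega] at h1
    exact Nat.eq_of_mul_eq_mul_left (by positivity) h1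
  by_contra hcon
  push Not at hcon
  set N := Subgroup.normalizer ((S : Subgroup G) : Set G) with hN
  -- the orbit of `t`
  let act : MulAction N G := MulAction.compHom G (MulAut.conj.comp N.subtype)
  have hsmul : ∀ (n : N) (x : G), n • x = (n : G) * x * (n : G)⁻¹ := fun n x => rfl
  have hodd : Odd (Nat.card (MulAction.orbit N t)) := by
    rw [Nat.card_coe_set_eq, ← MulAction.index_stabilizer]
    have hle : (S : Subgroup G).subgroupOf N ≤ MulAction.stabilizer N t := by
      intro n hn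
      rw [MulAction.mem_stabilizer_iff, hsmul]
      exact mul_inv_eq_iff_eq_mul.2 (hcomm _ hn _ htS)
    refine Odd.of_dvd_nat ?_ (Subgroup.index_dvd_of_le hle)
    have h2 : ¬ 2 ∣ (S : Subgroup G).index := S.not_dvd_index
    rw [← Subgroup.relIndex_mul_index (Subgroup.le_normalizer (H := (S : Subgroup G))),
      Nat.prime_two.dvd_mul] at h2
    rw [Nat.odd_iff, ← Nat.two_dvd_ne_zero]
    exact fun h => h2 (Or.inl h)
  have horbV : ∀ x ∈ MulAction.orbit N t, x ∈ V := by
    rintro _ ⟨n, rfl⟩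
    show n • t ∈ V
    rw [hsmul]
    exact ⟨(Subgroup.mem_normalizer_iff.1 n.2 t).1 htS, by
      rw [conj_pow, ← ht, pow_orderOf_eq_one, mul_one, mul_inv_cancel]⟩
  -- the orbit product
  let Vc : CommGroup V := { (inferInstance : Group V) with
    mul_comm := fun a b => Subtype.ext (hcomm _ a.2.1 _ b.2.1) }
  have : Fintype (MulAction.orbit N t) := Fintype.ofFinite _
  set z : V := ∏ x : MulAction.orbit N t, (⟨x, horbV x x.2⟩ : V) with hz
  have hzW : z ∉ W := by
    have key : ∀ (s : Finset (MulAction.orbit N t)),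
        ((∏ x ∈ s, (⟨x, horbV x x.2⟩ : V)) ∈ W ↔ Even s.card) := by
      intro s
      induction s using Finset.induction_on with
      | empty => simp
      | insert x s hx ih =>
        rw [Finset.prod_insert hx, Finset.card_insert_of_notMem hx, Nat.even_add_one,
          Subgroup.mul_mem_iff_of_index_two hWidx, ih]
        have : (⟨x, horbV x x.2⟩ : V) ∉ W := by
          obtain ⟨_, n, rfl⟩ := x
          intro hmem
          exact hcon n n.2 (Subgroup.mem_subgroupOf.1 hmem).1
        tauto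
    rw [hz, key, Finset.card_univ, ← Nat.card_eq_fintype_card]
    exact Nat.not_even_iff_odd.2 hodd
  have hzne : (z : G) ≠ 1 := fun e => hzW (by rw [show z = 1 from Subtype.ext e]; exact one_mem W)
  have hfix : ∀ n ∈ N, n * (z : G) * n⁻¹ = z := by
    intro n hn
    let f : V →* V :=
      ((MulAut.conj n).toMonoidHom.comp V.subtype).codRestrict V fun v =>
        ⟨(Subgroup.mem_normalizer_iff.1 hn v).1 v.2.1, by
          simp only [MulEquiv.toMonoidHom_eq_coe, MonoidHom.coe_comp, MonoidHom.coe_coe,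
            Subgroup.coe_subtype, Function.comp_apply, MulAut.conj_apply]
          rw [conj_pow, v.2.2, mul_one, mul_inv_cancel]⟩
    have h1 : f z = z := by
      rw [hz, map_prod]
      refine Fintype.prod_equiv (MulAction.toPerm (⟨n, hn⟩ : N)) _ _ fun x => ?_
      apply Subtype.ext
      rfl
    exact congrArg Subtype.val h1
  -- transfer
  have : IsMulCommutative (S : Subgroup G) := hS
  let Sc : CommGroup (S : Subgroup G) := { (inferInstance : Group (S : Subgroup G)) with
    mul_comm := fun a b => Subtype.ext (hcomm _ a.2 _ b.2) }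
  have hzS : (z : G) ∈ (S : Subgroup G) := z.2.1
  have key : ∀ (k : ℕ) (g₀ : G), g₀⁻¹ * (z : G) ^ k * g₀ ∈ (S : Subgroup G) →
      g₀⁻¹ * (z : G) ^ k * g₀ = (z : G) ^ k := by
    intro k g₀ hk
    obtain ⟨n, hn, hne⟩ := S.conj_eq_normalizer_conj_of_mem ((z : G) ^ k) g₀ (pow_mem hzS k) hk
    rw [hne]
    have h1 := hfix n⁻¹ (inv_mem hn)
    rw [inv_inv] at h1
    calc n⁻¹ * (z : G) ^ k * n = (n⁻¹ * (z : G) * n⁻¹⁻¹) ^ k := by rw [conj_pow, inv_inv]
      _ = (z : G) ^ k := by rw [inv_inv, h1]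
  have h1 := MonoidHom.transfer_eq_pow (MonoidHom.id (S : Subgroup G)) (z : G) key
  obtain ⟨H, hH⟩ := exists_index_two S.2 (MonoidHom.transfer (MonoidHom.id (S : Subgroup G)))
    (z : G) (by
      rw [h1]
      intro e
      have h2 : (z : G) ^ (S : Subgroup G).index = 1 := congrArg Subtype.val e
      obtain ⟨k, hk⟩ := Nat.odd_iff.2 (Nat.two_dvd_ne_zero.1 S.not_dvd_index)
      rw [hk, pow_succ, pow_mul, z.2.2, one_pow, one_mul] at h2
      exact hzne h2)
  exact hG H hH

end Cfsg.Agent.S1244
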