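import Cfsg.Statements.S2791
import Cfsg.Agent.Lib.Fusion.Alperin
import Cfsg.Agent.Lib.CosetGraph.SylowIn

set_option autoImplicit false
open Cfsg

namespace Cfsg.Agent.S2791

open Cfsg.Agent.Lib.Fusion.Alperin Cfsg.Agent.Lib.CosetGraph.SylowIn

variable {G : Type*} [Group G] [Finite G] {p : ℕ} [Fact p.Prime]

/-- `g` agrees on `B` with an element normalizing `A`. -/
def Good (A B : Subgroup G) (g : G) : Prop :=
  ∃ m ∈ Subgroup.normalizer (A : Set G), ∀ b ∈ B, g * b * g⁻¹ = m * b * m⁻¹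

omit [Finite G] in
theorem Good.mono {A B B' : Subgroup G} {g : G} (h : Good A B g) (hle : B' ≤ B) : Good A B' g := by
  obtain ⟨m, hm, he⟩ := h
  exact ⟨m, hm, fun b hb => he b (hle hb)⟩

omit [Finite G] in
theorem Good.comp {A B : Subgroup G} {g h : G} (h₁ : Good A B g) (h₂ : Good A (conjS g B) h) :
    Good A B (h * g) := by
  obtain ⟨m, hm, he⟩ := h₁
  obtain ⟨m', hm', he'⟩ := h₂
  refine ⟨m' * m, mul_mem hm' hm, fun b hb => ?_⟩
  have h1 := he b hb
  have h2 := he' _ (conj_mem_conjS (g := g) hb)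
  calc h * g * b * (h * g)⁻¹ = h * (g * b * g⁻¹) * h⁻¹ := by group
    _ = m' * (g * b * g⁻¹) * m'⁻¹ := h2
    _ = m' * m * b * (m' * m)⁻¹ := by rw [h1]; group

/-- The stabilizer in `H` of the series `B ≥ A₀ ≥ 1`. -/
def chainStab (H B A₀ : Subgroup G) (hH : H ≤ Subgroup.normalizer (B : Set G)) : Subgroup G where
  carrier := {k | k ∈ H ∧ (∀ a ∈ A₀, k * a * k⁻¹ = a) ∧ ∀ b ∈ B, b⁻¹ * (k * b * k⁻¹) ∈ A₀}
  one_mem' := ⟨H.one_mem, by simp, by simp⟩
  mul_mem' := by
    rintro x y ⟨hx, hxa, hxb⟩ ⟨hy, hya, hyb⟩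
    refine ⟨H.mul_mem hx hy, fun a ha => ?_, fun b hb => ?_⟩
    · calc x * y * a * (x * y)⁻¹ = x * (y * a * y⁻¹) * x⁻¹ := by group
        _ = a := by rw [hya a ha, hxa a ha]
    · have e1 := hxa _ (hyb b hb)
      have : b⁻¹ * (x * y * b * (x * y)⁻¹)
          = (b⁻¹ * (x * b * x⁻¹)) * (x * (b⁻¹ * (y * b * y⁻¹)) * x⁻¹) := by group
      rw [this, e1]
      exact A₀.mul_mem (hxb b hb) (hyb b hb)
  inv_mem' := by
    rintro x ⟨hx, hxa, hxb⟩
    refine ⟨H.inv_mem hx, fun a ha => ?_, fun b hb => ?_⟩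
    · calc x⁻¹ * a * x⁻¹⁻¹ = x⁻¹ * (x * a * x⁻¹) * x := by rw [hxa a ha]; group
        _ = a := by group
    · have hb' : x⁻¹ * b * x⁻¹⁻¹ ∈ B := (Subgroup.mem_normalizer_iff.1 (hH (H.inv_mem hx)) b).1 hb
      have h1 := A₀.inv_mem (hxb _ hb')
      convert h1 using 1
      group

theorem exists_mem_of_chain (A : Subgroup G) (hA : IsMulCommutative ↥A) (S : Sylow p G)
    (hsc : Cfsg.IsStronglyClosed A (S : Subgroup G)) {B : Subgroup G} {n : G}
    (hB : B ≤ (S : Subgroup G)) (hfn : IsFullyNormalized p (S : Subgroup G) B)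
    (hn : n ∈ Subgroup.normalizer (B : Set G))
    (IH : ∀ (Q : Subgroup G) (m : G), Q ≤ (S : Subgroup G) → conjS m Q ≤ (S : Subgroup G) →
      Nat.card B < Nat.card Q → Good A Q m) :
    Good A B n := by
  set H := Subgroup.normalizer (B : Set G) with hH
  by_cases hAB : A ≤ B
  · refine ⟨n, mem_normalizer_of_conjS_eq ?_, fun b _ => rfl⟩
    refine Subgroup.eq_of_le_of_card_ge ?_ (card_conjS n A).ge
    rintro x ⟨a, ha, rfl⟩
    exact hsc.2 a ha n (hB ((Subgroup.mem_normalizer_iff.1 hn a).1 (hAB ha)))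
  have hAS := hsc.1
  set A₀ := A ⊓ B with hA₀
  -- `A₀` is invariant under `H`
  have hA₀inv : ∀ h ∈ H, ∀ a ∈ A₀, h * a * h⁻¹ ∈ A₀ := fun h hh a ha =>
    ⟨hsc.2 a ha.1 h (hB ((Subgroup.mem_normalizer_iff.1 hh a).1 ha.2)),
      (Subgroup.mem_normalizer_iff.1 hh a).1 ha.2⟩
  have hBA : B ≤ Subgroup.normalizer (A : Set G) := fun b hb =>
    mem_normalizer_of_conjS_eq <| Subgroup.eq_of_le_of_card_ge
      (by rintro x ⟨a, ha, rfl⟩
          exact hsc.2 a ha b (mul_mem (mul_mem (hB hb) (hAS ha)) (inv_mem (hB hb))))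
      (card_conjS b A).ge
  -- an element of `A ∩ H` outside `B`
  obtain ⟨w, hwA, hwH, hwB⟩ : ∃ w ∈ A, w ∈ H ∧ w ∉ B := by
    have hlt : B < A ⊔ B := lt_of_le_of_ne le_sup_right fun h => hAB (h ▸ le_sup_left)
    have hp : IsPGroup p (A ⊔ B : Subgroup G) := S.2.to_le (sup_le hAS hB)
    obtain ⟨x, hx, hxB⟩ := SetLike.exists_of_lt (lt_inf_normalizer hp hlt)
    obtain ⟨hx1, hx2⟩ := Subgroup.mem_inf.1 hx
    have hx1' : x ∈ ((A ⊔ B : Subgroup G) : Set G) := hx1
    rw [Subgroup.coe_mul_of_right_le_normalizer_left A B hBA] at hx1'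
    obtain ⟨a, ha, b, hb, rfl⟩ := hx1'
    refine ⟨a, ha, ?_, fun h => hxB (B.mul_mem h hb)⟩
    have := mul_mem hx2 (inv_mem (Subgroup.le_normalizer hb : b ∈ H))
    simpa using this
  set K := chainStab H B A₀ le_rfl with hK
  have hKH : K ≤ H := fun _ h => h.1
  have hwK : w ∈ K := by
    refine ⟨hwH, fun a ha => ?_, fun b hb => ⟨?_, ?_⟩⟩
    · have := congrArg A.subtype (hA.is_comm.comm ⟨w, hwA⟩ ⟨a, ha.1⟩)
      simp only [Subgroup.coe_subtype, Subgroup.coe_mul] at this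
      rw [this]; group
    · have h1 : b⁻¹ * w * b⁻¹⁻¹ ∈ A :=
        (Subgroup.mem_normalizer_iff.1 (hBA (B.inv_mem hb)) w).1 hwA
      have h2 := A.mul_mem h1 (A.inv_mem hwA)
      rw [show b⁻¹ * (w * b * w⁻¹) = b⁻¹ * w * b⁻¹⁻¹ * w⁻¹ by group]
      exact h2
    · exact B.mul_mem (B.inv_mem hb) ((Subgroup.mem_normalizer_iff.1 hwH b).1 hb)
  have hKn : ∀ h ∈ H, conjS h K = K := by
    intro h hh
    refine Subgroup.eq_of_le_of_card_ge ?_ (card_conjS h K).ge
    rintro x ⟨k, ⟨hk, hka, hkb⟩, rfl⟩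
    show h * k * h⁻¹ ∈ K
    refine ⟨H.mul_mem (H.mul_mem hh hk) (H.inv_mem hh), fun a ha => ?_, fun b hb => ?_⟩
    · have ha' := hA₀inv _ (H.inv_mem hh) a ha
      have := hka _ ha'
      calc h * k * h⁻¹ * a * (h * k * h⁻¹)⁻¹ = h * (k * (h⁻¹ * a * h⁻¹⁻¹) * k⁻¹) * h⁻¹ := by group
        _ = h * (h⁻¹ * a * h⁻¹⁻¹) * h⁻¹ := by rw [this]
        _ = a := by group
    · have hb' : h⁻¹ * b * h⁻¹⁻¹ ∈ B := (Subgroup.mem_normalizer_iff.1 (H.inv_mem hh) b).1 hb
      have := hA₀inv h hh _ (hkb _ hb')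
      convert this using 1
      group
  -- `p'`-elements of `K` centralize `B`
  have hcop : ∀ k ∈ K, (orderOf k).Coprime p → ∀ b ∈ B, k * b * k⁻¹ = b := by
    rintro k ⟨hk, hka, hkb⟩ hco b hb
    set c := b⁻¹ * (k * b * k⁻¹) with hc
    have hca : c ∈ A₀ := hkb b hb
    have hiter : ∀ j : ℕ, k ^ j * b * (k ^ j)⁻¹ = b * c ^ j := by
      intro j
      induction j with
      | zero => simp
      | succ j ih =>
        calc k ^ (j + 1) * b * (k ^ (j + 1))⁻¹ = k * (k ^ j * b * (k ^ j)⁻¹) * k⁻¹ := by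
              rw [pow_succ']; group
          _ = k * (b * c ^ j) * k⁻¹ := by rw [ih]
          _ = (k * b * k⁻¹) * (k * c * k⁻¹) ^ j := by rw [conj_pow]; group
          _ = b * c ^ (j + 1) := by
            rw [hka c hca, show k * b * k⁻¹ = b * c by rw [hc]; group, pow_succ', mul_assoc]
    have h1 := hiter (orderOf k)
    rw [pow_orderOf_eq_one, one_mul, inv_one, mul_one, left_eq_mul] at h1
    obtain ⟨e, he⟩ := IsPGroup.iff_orderOf.1 (S.2.to_le hB) ⟨c, hca.2⟩
    rw [← Subgroup.orderOf_coe] at he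
    have hd : orderOf c ∣ orderOf k := orderOf_dvd_of_pow_eq_one h1
    have : orderOf c = 1 := by
      have hd' : orderOf c ∣ Nat.gcd (orderOf k) (p ^ e) := Nat.dvd_gcd hd he.dvd
      rwa [(hco.pow_right e).gcd_eq_one, Nat.dvd_one] at hd'
    rw [orderOf_eq_one_iff, hc] at this
    exact (inv_mul_eq_one.1 this).symm
  -- a Sylow subgroup of `K` containing `w`, moved into `S`
  obtain ⟨T', hT', hwT'⟩ := IsSylowIn.exists_le (p := p) (H := K) (P := A ⊓ K)
    (S.2.to_le (inf_le_left.trans hAS)) inf_le_right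
  have hTB' : IsPGroup p (T' ⊔ B : Subgroup G) :=
    hT'.isPGroup.to_sup_of_normal_right' (S.2.to_le hB) (hT'.le.trans hKH)
  have hmax : ∀ U : Subgroup G, IsPGroup p U → U ≤ H → (S : Subgroup G) ⊓ H ≤ U →
      U = (S : Subgroup G) ⊓ H := hfn
  obtain ⟨u, hu, huS⟩ := exists_conj_le_of_maximal (S.2.to_le inf_le_left) inf_le_right hmax hTB'
    (sup_le (hT'.le.trans hKH) Subgroup.le_normalizer)
  set T := conjS u T' with hT
  have hTK : IsSylowIn p T K := by
    have := hT'.conj u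
    rwa [show K.map (MulAut.conj u).toMonoidHom = K from hKn u hu] at this
  have hTS : T ≤ (S : Subgroup G) := (conjS_mono le_sup_left).trans (huS.trans inf_le_left)
  have hTnB : ¬ T ≤ B := by
    intro h
    have h' : conjS u T' ≤ conjS u B := by rwa [conjS_eq_of_mem_normalizer hu]
    rw [conjS_le_iff, conjS_inv_conjS] at h'
    exact hwB (h' (hwT' ⟨hwA, hwK⟩))
  -- `K = C_K(B) T`
  have hKeq : ∀ k ∈ K, ∃ c ∈ K, (∀ b ∈ B, c * b * c⁻¹ = b) ∧ ∃ t ∈ T, k = c * t := by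
    set C : Subgroup K := (Subgroup.centralizer (B : Set G)).subgroupOf K with hC
    have hCn : C.Normal := by
      refine ⟨fun c hc g => ?_⟩
      rw [hC, Subgroup.mem_subgroupOf, Subgroup.mem_centralizer_iff] at hc ⊢
      intro b hb
      have hb' : (g : G)⁻¹ * b * (g : G)⁻¹⁻¹ ∈ B :=
        (Subgroup.mem_normalizer_iff.1 (H.inv_mem (hKH g.2)) b).1 hb
      have := congrArg (fun z => (g : G) * z * (g : G)⁻¹) (hc _ hb')
      simpa [mul_assoc] using this
    have hq : IsPGroup p (K ⧸ C) := by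
      intro x
      induction x using QuotientGroup.induction_on with
      | _ k =>
        obtain ⟨a, m, hm, hkm⟩ := Nat.exists_eq_pow_mul_and_not_dvd (orderOf_pos (k : G)).ne' p
          (Nat.Prime.ne_one Fact.out)
        refine ⟨a, ?_⟩
        rw [← QuotientGroup.mk_pow, QuotientGroup.eq_one_iff, hC, Subgroup.mem_subgroupOf,
          Subgroup.mem_centralizer_iff]
        intro b hb
        have hpos : p ^ a ≠ 0 := pow_ne_zero _ (Nat.Prime.ne_zero Fact.out)
        have : (orderOf ((k : G) ^ p ^ a)).Coprime p := by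
          rw [orderOf_pow' _ hpos, hkm, Nat.gcd_mul_right_left, Nat.mul_div_cancel_left _ (Nat.pos_of_ne_zero hpos)]
          exact ((Nat.Prime.coprime_iff_not_dvd Fact.out).2 hm).symm
        have := hcop _ (K.pow_mem k.2 _) this b hb
        rw [mul_inv_eq_iff_eq_mul] at this
        simpa using this.symm
    obtain ⟨T₀, hT₀⟩ := hTK.exists_sylow
    have htop : C ⊔ (T₀ : Subgroup K) = ⊤ := by
      rw [← Subgroup.index_eq_one]
      obtain ⟨e, he⟩ := hq.index (⊥ : Subgroup (K ⧸ C))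
      rw [Subgroup.index_bot, ← Subgroup.index_eq_card] at he
      have d1 : (C ⊔ (T₀ : Subgroup K)).index ∣ p ^ e := he ▸ Subgroup.index_dvd_of_le le_sup_left
      have d2 : (C ⊔ (T₀ : Subgroup K)).index ∣ (T₀ : Subgroup K).index :=
        Subgroup.index_dvd_of_le le_sup_right
      have hco : Nat.Coprime (p ^ e) (T₀ : Subgroup K).index :=
        Nat.Coprime.pow_left e ((Nat.Prime.coprime_iff_not_dvd Fact.out).2 T₀.not_dvd_index)
      exact Nat.dvd_one.1 (hco.gcd_eq_one ▸ Nat.dvd_gcd d1 d2)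
    intro k hk
    have : (⟨k, hk⟩ : K) ∈ C ⊔ (T₀ : Subgroup K) := htop ▸ Subgroup.mem_top _
    obtain ⟨c, hc, t, ht, hct⟩ := Subgroup.mem_sup_of_normal_left.1 this
    refine ⟨c, c.2, fun b hb => ?_, t, hT₀ ▸ ⟨t, ht, rfl⟩, congrArg K.subtype hct.symm⟩
    exact mul_inv_eq_of_eq_mul ((hc : (c : G) ∈ Subgroup.centralizer (B : Set G)) b hb).symm
  -- decompose `n`
  have hTn : IsSylowIn p (conjS n T) K := by
    have := hTK.conj n
    rwa [show K.map (MulAut.conj n).toMonoidHom = K from hKn n hn] at this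
  obtain ⟨k, hk, hkT⟩ := hTK.exists_conj hTn
  obtain ⟨c, hc, hcB, t, ht, rfl⟩ := hKeq k hk
  set n' := c⁻¹ * n with hn'
  have hn'T : conjS n' T = T := by
    have e : conjS n T = conjS (c * t) T := hkT.symm
    rw [hn', conjS_mul, e, ← conjS_mul, inv_mul_cancel_left,
      conjS_eq_of_mem_normalizer (Subgroup.le_normalizer ht)]
  have hn'B : conjS n' B = B :=
    conjS_eq_of_mem_normalizer (H.mul_mem (H.inv_mem (hKH hc)) hn)
  have hn'Q : conjS n' (T ⊔ B) = T ⊔ B := by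
    rw [conjS, Subgroup.map_sup]
    exact congrArg₂ (· ⊔ ·) hn'T hn'B
  have hQS : T ⊔ B ≤ (S : Subgroup G) := sup_le hTS hB
  have hlt : B < T ⊔ B := lt_of_le_of_ne le_sup_right fun h => hTnB (h ▸ le_sup_left)
  obtain ⟨m, hm, hme⟩ := IH (T ⊔ B) n' hQS (hn'Q.le.trans hQS)
    (lt_of_le_of_ne (Subgroup.card_le_of_le hlt.le)
      fun h => hlt.ne (Subgroup.eq_of_le_of_card_ge hlt.le h.ge))
  refine ⟨m, hm, fun b hb => ?_⟩
  rw [← hme b (Subgroup.mem_sup_right hb)]
  have hb' : n' * b * n'⁻¹ ∈ B := hn'B.le (conj_mem_conjS hb)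
  calc n * b * n⁻¹ = c * (n' * b * n'⁻¹) * c⁻¹ := by rw [hn']; group
    _ = n' * b * n'⁻¹ := hcB _ hb'

theorem good_of_le (A : Subgroup G) (hA : IsMulCommutative ↥A) (S : Sylow p G)
    (hsc : Cfsg.IsStronglyClosed A (S : Subgroup G)) (B : Subgroup G) (g : G)
    (hB : B ≤ (S : Subgroup G)) (hgB : conjS g B ≤ (S : Subgroup G)) : Good A B g := by
  induction hd : Nat.card (S : Subgroup G) - Nat.card B using Nat.strong_induction_on
    generalizing B g with
  | _ d ih =>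
  subst hd
  suffices key : ∀ B' g', FusionChain p (S : Subgroup G) B' g' → Nat.card B' = Nat.card B →
      Good A B' g' from key B g (alperin S B g hB hgB) rfl
  intro B' g' hchain
  induction hchain with
  | comp _ _ ih₁ ih₂ => exact fun hc => (ih₁ hc).comp (ih₂ ((card_conjS _ _).trans hc))
  | @base B' R n hR hBR hn =>
    intro hc
    have IH : ∀ (Q : Subgroup G) (m : G), Q ≤ (S : Subgroup G) → conjS m Q ≤ (S : Subgroup G) →
        Nat.card B < Nat.card Q → Good A Q m := by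
      intro Q m hQ hmQ hlt
      refine ih _ ?_ Q m hQ hmQ rfl
      have := Subgroup.card_le_of_le hQ
      omega
    refine Good.mono ?_ hBR
    rcases (hc ▸ Subgroup.card_le_of_le hBR : Nat.card B ≤ Nat.card R).lt_or_eq with h | h
    · exact IH R n hR.1 ((conjS_eq_of_mem_normalizer hn).le.trans hR.1) h
    · exact exists_mem_of_chain A hA S hsc hR.1 hR.2.1 hn fun Q m h1 h2 h3 => IH Q m h1 h2 (h ▸ h3)

/-- A strongly closed abelian subgroup of a Sylow subgroup controls strong fusion. -/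
theorem result {G : Type*} [Group G] [Finite G] {p : ℕ} [Fact p.Prime] (S : Sylow p G) (A : Subgroup G) (hA : IsMulCommutative ↥A) (hsc : Cfsg.IsStronglyClosed A (S : Subgroup G)) : Cfsg.ControlsStrongFusion p A := by
  refine ⟨S, hsc.1, fun U hU => ⟨hU, fun g hg => ?_⟩⟩
  have h1 : Subgroup.closure U ≤ (S : Subgroup G) := (Subgroup.closure_le _).2 hU
  have h2 : conjS g (Subgroup.closure U) ≤ (S : Subgroup G) := by
    rw [conjS, MonoidHom.map_closure, Subgroup.closure_le]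
    exact hg
  obtain ⟨m, hm, he⟩ := good_of_le A hA S hsc _ g h1 h2
  exact ⟨m, hm, fun a ha => he a (Subgroup.subset_closure ha)⟩

end Cfsg.Agent.S2791
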