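import Cfsg.Statements.S2089
import Cfsg.Agent.Lib.MultPSU.CrossMain
import Cfsg.Agent.Lib.MultPSU.Sylow

set_option autoImplicit false
open Cfsg

namespace Cfsg.Agent.S2089

open Matrix Cfsg.Agent.Lib.Unitary Cfsg.Agent.Lib.AutPSU Cfsg.Agent.Lib.MultPSU

universe u

theorem isCyclic_center {F : Type u} [Field F] [Fintype F] {n q : ℕ} (hF : Fintype.card F = q ^ 2)
    (hn : 2 ≤ n) : IsCyclic (Subgroup.center (SU n F q)) := by
  have i0 : Fin n := ⟨0, by omega⟩
  have hl : ∀ z : Subgroup.center (SU n F q), ∀ x, z.1.1.1 *ᵥ x = (z.1.1.1 i0 i0) • x := by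
    intro z x
    obtain ⟨l, hl⟩ := (mem_center_SU_iff hF hn z.1).1 z.2
    have h0 := congrFun (hl (Pi.single i0 1)) i0
    simp only [Matrix.mulVec_single_one, Pi.smul_apply, Pi.single_eq_same, smul_eq_mul, mul_one,
      Matrix.col_apply] at h0
    rw [h0, hl]
  let φ : Subgroup.center (SU n F q) →* F :=
    { toFun := fun z => z.1.1.1 i0 i0
      map_one' := by simp
      map_mul' := fun a b => by
        have h1 := congrFun (hl (a * b) (Pi.single i0 1)) i0
        rw [Subgroup.coe_mul, SU_mul_mulVec, hl b, Matrix.mulVec_smul, hl a] at h1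
        simp only [Pi.smul_apply, Pi.single_eq_same, smul_eq_mul, mul_one] at h1
        exact h1.symm.trans (mul_comm _ _) }
  refine isCyclic_of_injective_ringHom φ fun a b hab => ?_
  refine Subtype.ext (SU_ext fun x => ?_)
  rw [hl a x, hl b x, show a.1.1.1 i0 i0 = b.1.1.1 i0 i0 from hab]

/-- Schur multipliers of the unitary groups: for n ≥ 3 and a field F with q² elements, (n, q) ≠ (3, 2), apart from the exceptional pairs (n, q) = (4, 2), (4, 3), (6, 2), the Schur multiplier of PSU_n(q) is cyclic of order gcd(n, q + 1); here the Schur multiplier is described through stem extensions, as in the definitions. -/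
theorem result {F : Type*} [Field F] [Fintype F] (n q : ℕ) (hF : Fintype.card F = q ^ 2) (hn : 3 ≤ n) (h3 : ¬ (n = 3 ∧ q = 2)) (hexc : (n, q) ∉ ({(4, 2), (4, 3), (6, 2)} : Set (ℕ × ℕ))) : Cfsg.HasCyclicSchurMultiplier (Cfsg.PSU n F q) (Nat.gcd n (q + 1)) := by
  obtain ⟨p, k, hp, hchar, -, -⟩ := q_eq_primePow hF
  have hq := one_lt_q hF
  simp only [Set.mem_insert_iff, Set.mem_singleton_iff, Prod.mk.injEq, not_or] at hexc
  have hsize : Size q n := ⟨hn, fun h => by omega, fun h => by omega, fun h => hexc.2.2 h⟩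
  have ht : ∀ r, r.Prime → Tame r (SU n F q) := by
    intro r hr
    by_cases hpr : p = r
    · exact hpr ▸ tame_SU_char hF hp hsize
    · exact tame_SU_cross hF hp hr hpr n
  have hperf : commutator (SU n F q) = ⊤ := commutator_SU hF hn h3
  have hker : (cls n F q).ker = Subgroup.center (SU n F q) := QuotientGroup.ker_mk' _
  refine hasCyclic_of_tame ht (cls n F q) ⟨cls_surjective, hker.le, ?_⟩ hperf ?_ ?_
  · rw [hperf]; exact le_top
  · rw [hker]; exact isCyclic_center hF (by omega)
  · rw [hker]; exact card_center_SU hF (by omega)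

end Cfsg.Agent.S2089
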