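import Cfsg.Statements.S2111
import Cfsg.Agent.Lib.SzMultiplier.Odd
import Cfsg.Agent.Lib.SzMultiplier.Two
import Cfsg.Agent.Lib.Multiplier.Sylow

set_option autoImplicit false
open Cfsg

namespace Cfsg.Agent.S2111

universe u

open Cfsg.Agent.Lib
open Cfsg.Agent.Lib.LieTwisted.Suzuki

theorem trivial_of_mulEquiv {G H : Type u} [Group G] [Group H] [Finite G] [Finite H]
    (e : G ≃* H) (h : Cfsg.HasCyclicSchurMultiplier H 1) : Cfsg.HasCyclicSchurMultiplier G 1 := by
  refine Multiplier.hasCyclicSchurMultiplier_one_iff.2 fun Δ _ _ τ hτ => ?_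
  have hker : (e.toMonoidHom.comp τ).ker = τ.ker := by
    ext x; simp [MonoidHom.mem_ker]
  have hst : Cfsg.IsStemExtension (e.toMonoidHom.comp τ) :=
    ⟨e.surjective.comp hτ.1, hker ▸ hτ.2.1, hker ▸ hτ.2.2⟩
  rw [← hker]
  exact (MonoidHom.ker_eq_bot_iff _).2 (Multiplier.injective_of_trivial h _ hst)

theorem ovoidModel {F : Type u} [Field F] [Fintype F] {m : ℕ} (hm : 2 ≤ m) (h : IsSzField F m) :
    Cfsg.HasCyclicSchurMultiplier (Cfsg.Sz F m) 1 := by
  classical
  have hm1 : 1 ≤ m := by omega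
  refine Schur.Fusion.hasTrivialMultiplier fun r hr hdvd => ?_
  haveI : Fact r.Prime := ⟨hr⟩
  have h2q : 2 ∣ Fintype.card F := h.card ▸ dvd_pow_self 2 (by omega)
  by_cases hr2 : r = 2
  · subst hr2
    exact ⟨unip h, h.index_odd hm1, SzMultiplier.Two.killsPart_unip h hm⟩
  by_cases hq : r ∣ Fintype.card F ^ 2 + 1
  · obtain ⟨S⟩ : Nonempty (Sylow r (Cfsg.Sz F m)) := inferInstance
    haveI := SzMultiplier.Odd.sylow_cyclic h hr2 hq S
    obtain ⟨g, hg⟩ := (Subgroup.isCyclic_iff_exists_zpowers_eq_top _).1 this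
    exact ⟨S, S.not_dvd_index, hg ▸ Schur.Fusion.killsPart_zpowers r g⟩
  -- the torus contains a Sylow subgroup
  have hrq : ¬ r ∣ Fintype.card F := fun e => by
    rw [h.card] at e
    exact hr2 ((Nat.prime_dvd_prime_iff_eq hr Nat.prime_two).1 (hr.dvd_of_dvd_pow e))
  haveI : IsCyclic (dS h).range :=
    isCyclic_of_surjective (dS h).rangeRestrict (MonoidHom.rangeRestrict_surjective _)
  obtain ⟨g, hg⟩ := (Subgroup.isCyclic_iff_exists_zpowers_eq_top _).1
    (inferInstance : IsCyclic (dS h).range)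
  refine ⟨(dS h).range, ?_, hg ▸ Schur.Fusion.killsPart_zpowers r g⟩
  have hcard : Nat.card (dS h).range = Fintype.card F - 1 := by
    rw [Nat.card_congr (MonoidHom.ofInjective h.dS_injective).toEquiv.symm, Nat.card_eq_fintype_card,
      Fintype.card_units]
  have hidx : (dS h).range.index = Fintype.card F ^ 2 * (Fintype.card F ^ 2 + 1) := by
    have h1 := (dS h).range.card_mul_index
    rw [hcard, h.card_group hm1, mul_comm] at h1
    exact mul_right_cancel₀ (by have := h.two_lt_card hm1; omega) h1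
  rw [hidx]
  intro e
  rcases hr.dvd_mul.1 e with e | e
  · exact hrq (hr.dvd_of_dvd_pow e)
  · exact hq e


/-- Schur multipliers of the Suzuki groups: for q = 2^(2m+1) with m ≥ 2 the Schur multiplier of Sz(q) is trivial (here the Schur multiplier is described through stem extensions, as in the definitions); q = 8 is exceptional. -/
theorem result {F : Type*} [Field F] [Fintype F] {m : ℕ} (hm : 2 ≤ m) (hF : Fintype.card F = 2 ^ (2 * m + 1)) : Cfsg.HasCyclicSchurMultiplier ↥(Cfsg.Lie.Sz F (2 ^ (m + 1))) 1 := by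
  have h : IsSzField F m := ⟨hF⟩
  haveI : Finite (Cfsg.Sz F m) := inferInstance
  haveI : Finite ↥(Cfsg.Lie.Sz F (2 ^ (m + 1))) :=
    Finite.of_equiv _ (szEquiv h (by omega)).toEquiv
  exact trivial_of_mulEquiv (szEquiv h (by omega)).symm (ovoidModel hm h)

end Cfsg.Agent.S2111
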