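import Cfsg.Statements.S1249
import Cfsg.Agent.Lib.Fusion.Alperin

set_option autoImplicit false
open Cfsg

namespace Cfsg.Agent.S1249

/-- Let P and Q be Sylow p-subgroups of the finite group G both containing the subgroup A. If A is strongly closed in P, then A is strongly closed in Q. -/
theorem result {G : Type*} [Group G] [Finite G] {p : ℕ} [Fact p.Prime] (P Q : Sylow p G) (A : Subgroup G) (hAQ : A ≤ Q) (hA : Cfsg.IsStronglyClosed A (P : Subgroup G)) : Cfsg.IsStronglyClosed A (Q : Subgroup G) := by
  open Cfsg.Agent.Lib.Fusion.Alperin in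
  · obtain ⟨g, hg⟩ := MulAction.exists_smul_eq G P Q
    refine ⟨hAQ, fun x hx k hk => ?_⟩
    have hmem : ∀ y : G, y ∈ (Q : Subgroup G) → g⁻¹ * y * g ∈ (P : Subgroup G) := by
      intro y hy
      rw [← hg] at hy
      erw [Subgroup.mem_pointwise_smul_iff_inv_smul_mem] at hy
      simpa [mul_assoc] using hy
    have hAg : conjS g⁻¹ A = A := by
      refine Subgroup.eq_of_le_of_card_ge (fun y hy => ?_) (card_conjS g⁻¹ A).ge
      rw [mem_conjS, inv_inv] at hy
      have := hA.2 (g * y * g⁻¹) hy g⁻¹ (by simpa using hmem _ (hAQ hy))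
      simpa [mul_assoc] using this
    have h1 := hA.2 x hx (g⁻¹ * k) (by simpa [mul_assoc] using hmem _ hk)
    rw [← hAg, mem_conjS]  at h1
    simpa [mul_assoc] using h1

end Cfsg.Agent.S1249
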