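import Cfsg.Statements.S3221
import Cfsg.Agent.Lib.PSp43Recog.GenTree
import Cfsg.Agent.Lib.PSp43Recog.Bridge

set_option autoImplicit false
open Cfsg

namespace Cfsg.Agent.S3221

open Cfsg.Agent.Lib.PSp43Recog

/-- Let F be the field with 3 elements and t₀ an involution of PSp₄(3) = PSp₄(F) lying in the centre of a Sylow 2-subgroup. If G is a finite group of even order that has no subgroup of index 2 and contains an involution t whose centralizer C_G(t) is isomorphic to C_{PSp₄(3)}(t₀), then G ≅ PSp₄(3). -/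
theorem result {G : Type*} [Group G] [Finite G] (hev : Even (Nat.card G))
    (hG : ∀ H : Subgroup G, H.index ≠ 2) {F : Type*} [Field F] [Fintype F] (hF : Fintype.card F = 3)
    (U : Sylow 2 (Cfsg.PSp 2 F)) (t₀ : Cfsg.PSp 2 F) (ht₀ : orderOf t₀ = 2) (ht₀U : t₀ ∈ (U : Subgroup (Cfsg.PSp 2 F)))
    (ht₀c : ∀ u ∈ (U : Subgroup (Cfsg.PSp 2 F)), u * t₀ = t₀ * u) (t : G) (ht : orderOf t = 2)
    (e : ↥(Subgroup.centralizer ({t} : Set G)) ≃* ↥(Subgroup.centralizer ({t₀} : Set (Cfsg.PSp 2 F)))) :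
    Nonempty (G ≃* Cfsg.PSp 2 F) := by
  classical
  haveI : Fact (Nat.Prime 2) := ⟨Nat.prime_two⟩
  let E := embPSp hF
  haveI : IsSimpleGroup (Cfsg.PSp 2 F) := Lib.Symplectic.isSimpleGroup_psp (by norm_num)
    (Or.inr (Or.inl ⟨rfl, Finset.univ, by rw [Finset.card_univ, hF]⟩))
  have hP : ∀ H : Subgroup (Cfsg.PSp 2 F), H.index ≠ 2 := by
    intro H hH
    rcases (Subgroup.normal_of_index_eq_two hH).eq_bot_or_eq_top with h | h
    · rw [h, Subgroup.index_bot] at hH
      have h576 := Subgroup.card_le_card_group E.cT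
      rw [E.card_cT, hH] at h576
      omega
    · rw [h, Subgroup.index_top] at hH
      omega
  -- the given involution is conjugate to the model's
  obtain ⟨S, hS⟩ := E.exists_sylow
  obtain ⟨g, hg⟩ := MulAction.exists_smul_eq (Cfsg.PSp 2 F) U S
  have hgt : g * t₀ * g⁻¹ = E.t := by
    have hmem : g * t₀ * g⁻¹ ∈ E.sylSub := hS ▸ Lib.ZStar.Elements.smul_mem hg ht₀U
    obtain ⟨x, hx, hxe⟩ := hmem
    have hcom : ∀ s ∈ sylList, comC x s = true := fun s hs => by
      have hsS : E.ι s ∈ (S : Subgroup (Cfsg.PSp 2 F)) := hS ▸ ⟨s, hs, rfl⟩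
      have hu := Lib.ZStar.Elements.smul_mem (h := g⁻¹) (T := S) (S := U) (by rw [← hg, inv_smul_smul]) hsS
      have hc := ht₀c _ hu
      refine (E.commute_iff (Emb.syl_lt hx) (Emb.syl_lt hs)).2 ?_
      rw [hxe]
      calc g * t₀ * g⁻¹ * E.ι s = g * (t₀ * (g⁻¹ * E.ι s * g⁻¹⁻¹)) * g⁻¹ := by group
        _ = g * ((g⁻¹ * E.ι s * g⁻¹⁻¹) * t₀) * g⁻¹ := by rw [hc]
        _ = E.ι s * (g * t₀ * g⁻¹) := by group
    have h := all_range chk_syl_cen (Emb.syl_lt hx)
    simp only [Bool.or_eq_true] at h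
    rcases h with (h | h) | h
    · exfalso
      rw [Nat.eq_of_beq_eq_true h, E.map_zero] at hxe
      have h1 : t₀ = 1 := mul_left_cancel (mul_right_cancel
        (hxe.symm.trans (by group : (1 : Cfsg.PSp 2 F) = g * 1 * g⁻¹)))
      rw [h1, orderOf_one] at ht₀
      omega
    · rw [← hxe, Nat.eq_of_beq_eq_true h]; rfl
    · exfalso
      obtain ⟨s, hs, hsx⟩ := List.any_eq_true.1 h
      rw [hcom s hs] at hsx
      simp at hsx
  have hmem0 : ∀ x < 576, g⁻¹ * E.ι x * g ∈ Subgroup.centralizer ({t₀} : Set (Cfsg.PSp 2 F)) := fun x hx => by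
    rw [Subgroup.mem_centralizer_singleton_iff, show t₀ = g⁻¹ * E.t * g by rw [← hgt]; group]
    calc g⁻¹ * E.ι x * g * (g⁻¹ * E.t * g) = g⁻¹ * (E.ι x * E.t) * g := by group
      _ = g⁻¹ * (E.t * E.ι x) * g := by rw [E.comm_t hx]
      _ = g⁻¹ * E.t * g * (g⁻¹ * E.ι x * g) := by group
  let j : ℕ → ↥(Subgroup.centralizer ({t₀} : Set (Cfsg.PSp 2 F))) := fun x =>
    if hx : x < 576 then ⟨g⁻¹ * E.ι x * g, hmem0 x hx⟩ else 1
  have hj : ∀ x < 576, (j x : Cfsg.PSp 2 F) = g⁻¹ * E.ι x * g := fun x hx => by simp [j, dif_pos hx]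
  have hjz : j zC = ⟨t₀, Subgroup.mem_centralizer_singleton_iff.2 rfl⟩ := Subtype.ext (by
    rw [hj zC (by decide), show E.ι zC = E.t from rfl, ← hgt]; group)
  have hjsurj : ∀ c, ∃ x < 576, j x = c := fun c => by
    obtain ⟨x, hx, hxe⟩ := E.range (g * c * g⁻¹) (by
      show g * c * g⁻¹ * E.t = E.t * (g * c * g⁻¹)
      rw [← hgt, conj_mul, conj_mul, Subgroup.mem_centralizer_singleton_iff.1 c.2])
    exact ⟨x, hx, Subtype.ext (by rw [hj x hx, hxe]; group)⟩
  -- the centre of the centraliser fixes the image of the involution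
  let tc : ↥(Subgroup.centralizer ({t} : Set G)) := ⟨t, Subgroup.mem_centralizer_singleton_iff.2 rfl⟩
  obtain ⟨z, hz, hzt⟩ := hjsurj (e tc)
  have hzC : z = zC := by
    have hcom : ∀ s ∈ sylList, comC z s = true := fun s hs => by
      refine (E.commute_iff hz (Emb.syl_lt hs)).2 ?_
      obtain ⟨c, hc⟩ := e.surjective (j s)
      have h : e tc * e c = e c * e tc := by
        rw [← map_mul, ← map_mul]
        exact congrArg e (Subtype.ext (Subgroup.mem_centralizer_singleton_iff.1 c.2).symm)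
      rw [hc, ← hzt] at h
      have h' := congrArg Subtype.val h
      simp only [Subgroup.coe_mul, hj z hz, hj s (Emb.syl_lt hs)] at h'
      calc E.ι z * E.ι s = g * (g⁻¹ * E.ι z * g * (g⁻¹ * E.ι s * g)) * g⁻¹ := by group
        _ = g * (g⁻¹ * E.ι s * g * (g⁻¹ * E.ι z * g)) * g⁻¹ := by rw [h']
        _ = E.ι s * E.ι z := by group
    have h := all_range chk_syl_cen hz
    simp only [Bool.or_eq_true] at h
    rcases h with (h | h) | h
    · exfalso
      have h1 : e tc = 1 := by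
        rw [← hzt, Nat.eq_of_beq_eq_true h]
        exact Subtype.ext (by rw [hj 0 (by norm_num), E.map_zero]; simp)
      have h2 : t = 1 := congrArg Subtype.val (e.map_eq_one_iff.1 h1)
      rw [h2, orderOf_one] at ht
      omega
    · exact Nat.eq_of_beq_eq_true h
    · exfalso
      obtain ⟨s, hs, hsx⟩ := List.any_eq_true.1 h
      rw [hcom s hs] at hsx
      simp at hsx
  have hsymm : e.symm (j zC) = tc := by rw [← hzC, hzt, MulEquiv.symm_apply_apply]
  have hzv : (e.symm (j zC) : G) = t := congrArg Subtype.val hsymm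
  let EG : Emb G :=
    { ι := fun x => (e.symm (j x) : G)
      map_mul := fun x hx y hy => by
        rw [← Subgroup.coe_mul, ← map_mul]
        refine congrArg (fun c => ((e.symm c : ↥(Subgroup.centralizer ({t} : Set G))) : G)) (Subtype.ext ?_)
        rw [Subgroup.coe_mul, hj x hx, hj y hy, hj _ (mulC_lt hx hy), E.map_mul x hx y hy]; group
      inj := fun x hx y hy h => by
        have h' := congrArg Subtype.val (e.symm.injective (Subtype.ext h))
        rw [hj x hx, hj y hy] at h'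
        exact E.inj x hx y hy (mul_left_cancel (mul_right_cancel h'))
      range := fun a ha => by
        rw [hzv] at ha
        obtain ⟨x, hx, hxe⟩ := hjsurj (e ⟨a, Subgroup.mem_centralizer_singleton_iff.2 ha⟩)
        exact ⟨x, hx, by simp [hxe]⟩ }
  exact iso_of_emb gen_ok EG hG E hP

end Cfsg.Agent.S3221
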