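import Cfsg.Statements.S4571
import Cfsg.Agent.Lib.BC78.RegClasses
import Cfsg.Agent.Lib.BC78.Subsections
import Cfsg.Agent.Lib.BrauerMap.Inflation

set_option autoImplicit false
open Cfsg
open Cfsg.Agent.Lib Cfsg.Agent.Lib.Blocks Cfsg.Agent.Lib.Induced.Basic Cfsg.Agent.Lib.Characters.Basic
open Cfsg.Agent.Lib.BC78

namespace Cfsg.Agent.S4571

/-- Let Q be a normal p-subgroup of the finite group G with G = Q·C_G(Q), and M a maximal ideal of the algebraic integers containing p. Then the principal p-blocks of G and of G/Q have the same p-regular rank (the same number of irreducible Brauer characters). -/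
theorem result {G : Type*} [Group G] [Finite G] (p : ℕ) [Fact p.Prime] (M : Ideal Cfsg.AlgInt) (hM : Cfsg.IsPModular p M) (Q : Subgroup G) [Q.Normal] (hQ : IsPGroup p Q) (hsup : Q ⊔ Subgroup.centralizer (Q : Set G) = ⊤) : Cfsg.blockRank p (Cfsg.principalBlock M G) = Cfsg.blockRank p (Cfsg.principalBlock M (G ⧸ Q)) := by
  classical
  haveI := hM.2.1
  haveI := Fintype.ofFinite G
  haveI := Fintype.ofFinite (Cfsg.IrrCharacter (G ⧸ Q))
  have hp : p.Prime := Fact.out
  let π := QuotientGroup.mk' Q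
  have hπ : Function.Surjective π := QuotientGroup.mk'_surjective Q
  -- regular elements centralize `Q`
  have hreg : ∀ g : G, ¬ p ∣ orderOf g → ∀ q ∈ Q, g * q = q * g := by
    intro g hg q hq
    have hmem : g ∈ Q ⊔ Subgroup.centralizer (Q : Set G) := hsup ▸ Subgroup.mem_top _
    rw [← SetLike.mem_coe, Subgroup.normal_mul] at hmem
    obtain ⟨a, ha, c, hc, rfl⟩ := hmem
    have hca : Commute c a := (Subgroup.mem_centralizer_iff.1 hc a ha).symm
    obtain ⟨j, hj⟩ := hQ ⟨a, ha⟩
    have haj : a ^ p ^ j = 1 := congrArg Subtype.val hj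
    -- a power of `a * c` equal to itself lies in the centralizer
    obtain ⟨m, hm⟩ := exists_pow_eq_self_of_coprime (x := a * c) (n := p ^ j)
      (Nat.Coprime.pow_left j ((Nat.Prime.coprime_iff_not_dvd hp).2 hg))
    rw [hca.symm.mul_pow, haj, one_mul, ← pow_mul] at hm
    have hcen : a * c ∈ Subgroup.centralizer (Q : Set G) := hm ▸ pow_mem hc _
    exact (Subgroup.mem_centralizer_iff.1 hcen q hq).symm
  -- regular lifts
  have hlift : ∀ x : G ⧸ Q, ¬ p ∣ orderOf x → ∃ g : G, ¬ p ∣ orderOf g ∧ π g = x := by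
    intro x hx
    obtain ⟨h, rfl⟩ := hπ x
    obtain ⟨a, o, ho, hao⟩ := Nat.exists_eq_pow_mul_and_not_dvd (orderOf_pos h).ne' p hp.ne_one
    obtain ⟨u, hu1, hu2⟩ := Nat.chineseRemainder
      (Nat.Coprime.pow_right a ((Nat.Prime.coprime_iff_not_dvd hp).2 hx).symm :
        Nat.Coprime (orderOf (π h)) (p ^ a)) 1 0
    refine ⟨h ^ u, fun hd => ho (hd.trans (orderOf_dvd_of_pow_eq_one ?_)), ?_⟩
    · obtain ⟨c, hc⟩ := Nat.modEq_zero_iff_dvd.1 hu2
      rw [← pow_mul, hc, mul_right_comm, ← hao, pow_mul, pow_orderOf_eq_one, one_pow]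
    · rw [map_pow]
      conv_rhs => rw [← pow_one (π h)]
      exact pow_eq_pow_iff_modEq.2 hu1
  have huniq : ∀ g g' : G, ¬ p ∣ orderOf g → ¬ p ∣ orderOf g' → π g = π g' → g = g' := by
    intro g g' hg hg' he
    have hq : g⁻¹ * g' ∈ Q := (QuotientGroup.eq).1 he
    obtain ⟨j, hj⟩ := hQ ⟨_, hq⟩
    have h1 : (g⁻¹ * g') ^ p ^ j = 1 := congrArg Subtype.val hj
    have hc : Commute g (g⁻¹ * g') := hreg g hg _ hq
    have h2 : (g⁻¹ * g') ^ (orderOf g * orderOf g') = 1 := by
      have e : g * (g⁻¹ * g') = g' := mul_inv_cancel_left g g'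
      have h3 : (g * (g⁻¹ * g')) ^ (orderOf g * orderOf g') = 1 := by
        rw [e, mul_comm, pow_mul, pow_orderOf_eq_one, one_pow]
      rwa [hc.mul_pow, pow_mul g, pow_orderOf_eq_one, one_pow, one_mul] at h3
    have h4 := pow_gcd_eq_one.2 ⟨h1, h2⟩
    rw [(Nat.Coprime.pow_left j (((Nat.Prime.coprime_iff_not_dvd hp).2 hg).mul_right
      ((Nat.Prime.coprime_iff_not_dvd hp).2 hg'))).gcd_eq_one, pow_one, inv_mul_eq_one] at h4
    exact h4
  have hregπ : ∀ g : G, ¬ p ∣ orderOf g → ¬ p ∣ orderOf (π g) := fun g hg h =>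
    hg (h.trans (orderOf_map_dvd π g))
  have hindex : ∀ g : G, ¬ p ∣ orderOf g → (Subgroup.centralizer ({π g} : Set (G ⧸ Q))).index =
      (Subgroup.centralizer ({g} : Set G)).index := by
    intro g hg
    rw [show Subgroup.centralizer ({g} : Set G) =
      (Subgroup.centralizer ({π g} : Set (G ⧸ Q))).comap π from ?_,
      Subgroup.index_comap_of_surjective _ hπ]
    ext x
    rw [Subgroup.mem_comap, Subgroup.mem_centralizer_singleton_iff,
      Subgroup.mem_centralizer_singleton_iff]
    refine ⟨fun h => by rw [← map_mul, ← map_mul, h], fun h => ?_⟩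
    have ho : orderOf (x * g * x⁻¹) = orderOf g :=
      orderOf_injective (MulAut.conj x).toMonoidHom (MulAut.conj x).injective g
    have h2 := huniq (x * g * x⁻¹) g (ho.symm ▸ hg) hg (by
      rw [map_mul, map_mul, map_inv, h, mul_inv_cancel_right])
    exact mul_inv_eq_iff_eq_mul.1 h2
  let inf : Cfsg.IrrCharacter (G ⧸ Q) → Cfsg.IrrCharacter G := BrauerMap.Inflation.infl π hπ
  have hup : ∀ ψ, ψ ∈ Cfsg.principalBlock M (G ⧸ Q) ↔ inf ψ ∈ Cfsg.principalBlock M G := by
    intro ψ
    constructor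
    · intro h
      have := BrauerMap.Inflation.sameBlock_infl (M := M) π hπ (χ := oneChar (G ⧸ Q)) (ψ := ψ) h
      exact this
    · intro h
      refine RegClasses.sameBlock_of_regular hM (oneChar (G ⧸ Q)) ψ fun x hx => ?_
      obtain ⟨g, hg, rfl⟩ := hlift x hx
      have h2 := h g
      simp only [Cfsg.centralChar, inf, BrauerMap.Inflation.infl_apply, map_one, oneChar_apply,
        hindex g hg] at h2 ⊢
      exact h2
  let T : (G ⧸ Q → ℂ) →ₗ[ℂ] (G → ℂ) :=
    { toFun := fun f g => if p ∣ orderOf g then 0 else f (π g)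
      map_add' := fun f f' => funext fun g => by by_cases h : p ∣ orderOf g <;> simp [h]
      map_smul' := fun r f => funext fun g => by by_cases h : p ∣ orderOf g <;> simp [h] }
  have hT : ∀ ψ : Cfsg.IrrCharacter (G ⧸ Q),
      T (Cfsg.pRegularPart p (ψ : G ⧸ Q → ℂ)) = Cfsg.pRegularPart p (inf ψ : G → ℂ) := by
    intro ψ
    funext g
    show (if p ∣ orderOf g then 0 else _) = _
    rw [Contrib.pRegularPart_apply, Contrib.pRegularPart_apply]
    by_cases hg : p ∣ orderOf g
    · rw [if_pos hg, if_pos hg]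
    · rw [if_neg hg, if_neg hg, if_neg (hregπ g hg)]
      rfl
  have hle : (Subsections.regSpan p (Cfsg.principalBlock M (G ⧸ Q))).map T ≤
      Subsections.regSpan p (Cfsg.principalBlock M G) := by
    rw [Subsections.regSpan, Submodule.map_span]
    refine Submodule.span_mono ?_
    rintro _ ⟨_, ⟨ψ, hψ, rfl⟩, rfl⟩
    exact ⟨inf ψ, (hup ψ).1 hψ, (hT ψ).symm⟩
  have hge : Subsections.regSpan p (Cfsg.principalBlock M G) ≤
      (Subsections.regSpan p (Cfsg.principalBlock M (G ⧸ Q))).map T := by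
    refine Submodule.span_le.2 ?_
    rintro _ ⟨χ, hχ, rfl⟩
    let F : G ⧸ Q → ℂ := fun x => if hx : p ∣ orderOf x then 0 else (χ : G → ℂ) (hlift x hx).choose
    have hF : ∀ g, ¬ p ∣ orderOf g → F (π g) = (χ : G → ℂ) g := by
      intro g hg
      simp only [F, dif_neg (hregπ g hg)]
      rw [huniq _ g (hlift _ (hregπ g hg)).choose_spec.1 hg (hlift _ (hregπ g hg)).choose_spec.2]
    have hFcl : Cfsg.IsClassFunction (G ⧸ Q) F := by
      intro x y
      have ho : orderOf (y * x * y⁻¹) = orderOf x :=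
        orderOf_injective (MulAut.conj y).toMonoidHom (MulAut.conj y).injective x
      by_cases hx : p ∣ orderOf x
      · simp only [F, dif_pos hx, dif_pos (ho.symm ▸ hx)]
      · obtain ⟨g, hg, rfl⟩ := hlift x hx
        obtain ⟨c, rfl⟩ := hπ y
        have hgc : ¬ p ∣ orderOf (c * g * c⁻¹) := by
          rw [show orderOf (c * g * c⁻¹) = orderOf g from
            orderOf_injective (MulAut.conj c).toMonoidHom (MulAut.conj c).injective g]
          exact hg
        rw [show π c * π g * (π c)⁻¹ = π (c * g * c⁻¹) by simp, hF _ hgc, hF g hg,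
          isClassFunction_irr χ]
    have hFeq : F = ∑ ψ : Cfsg.IrrCharacter (G ⧸ Q), Cfsg.classInner F ψ • Cfsg.pRegularPart p (ψ : G ⧸ Q → ℂ) := by
      funext x
      have h := congrFun (Characters.Complete.classFunction_eq_finsum hFcl) x
      rw [finsum_eq_sum_of_fintype, Finset.sum_apply] at h
      rw [Finset.sum_apply]
      simp only [Pi.smul_apply, smul_eq_mul, Contrib.pRegularPart_apply]
      by_cases hx : p ∣ orderOf x
      · simp [hx, F]
      · simp only [if_neg hx]
        exact h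
    have hTF : T F = Cfsg.pRegularPart p (χ : G → ℂ) := funext fun g => by
      rw [Contrib.pRegularPart_apply]
      show (if p ∣ orderOf g then 0 else _) = _
      by_cases hg : p ∣ orderOf g
      · rw [if_pos hg, if_pos hg]
      · rw [if_neg hg, if_neg hg]
        exact hF g hg
    let Fbar := ∑ ψ ∈ Finset.univ.filter (fun ψ => ψ ∈ Cfsg.principalBlock M (G ⧸ Q)),
      Cfsg.classInner F ψ • Cfsg.pRegularPart p (ψ : G ⧸ Q → ℂ)
    have hin : Fbar ∈ Subsections.regSpan p (Cfsg.principalBlock M (G ⧸ Q)) :=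
      sum_mem fun ψ hψ => Submodule.smul_mem _ _
        (Submodule.subset_span ⟨ψ, (Finset.mem_filter.1 hψ).2, rfl⟩)
    let D : G → ℂ := Cfsg.pRegularPart p (χ : G → ℂ) - T Fbar
    have hDmem : D ∈ Subsections.regSpan p (Cfsg.principalBlock M G) :=
      sub_mem (Submodule.subset_span ⟨χ, hχ, rfl⟩) (hle (Submodule.mem_map_of_mem hin))
    have hDout : D = ∑ ψ ∈ Finset.univ.filter (fun ψ => ψ ∉ Cfsg.principalBlock M (G ⧸ Q)),
        Cfsg.classInner F ψ • Cfsg.pRegularPart p (inf ψ : G → ℂ) := by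
      rw [show D = T F - T Fbar by rw [hTF], sub_eq_iff_eq_add']
      conv_lhs => rw [hFeq]
      rw [← Finset.sum_filter_add_sum_filter_not Finset.univ
        (fun ψ => ψ ∈ Cfsg.principalBlock M (G ⧸ Q)), map_add, map_sum T (fun ψ : Cfsg.IrrCharacter (G ⧸ Q) =>
          Cfsg.classInner F ψ • Cfsg.pRegularPart p (ψ : G ⧸ Q → ℂ))
          (Finset.univ.filter (fun ψ => ψ ∉ Cfsg.principalBlock M (G ⧸ Q)))]
      simp only [map_smul, hT]
      rfl
    have hD0 : Cfsg.classInner D D = 0 := by
      nth_rw 2 [hDout]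
      rw [classInner_sum_right]
      refine Finset.sum_eq_zero fun ψ hψ => ?_
      rw [classInner_smul_right, Subsections.orth hM isPBlock_principalBlock
        (isPBlock_blockOf (inf ψ)) (fun e => (Finset.mem_filter.1 hψ).2 ((hup ψ).2 ?_)) hDmem
        (Submodule.subset_span ⟨inf ψ, mem_blockOf_self _, rfl⟩), mul_zero]
      exact e.symm ▸ mem_blockOf_self _
    rw [Cfsg.classInner, mul_eq_zero, inv_eq_zero] at hD0
    have h1 := hD0.resolve_left natCard_ne_zero
    simp only [Complex.mul_conj] at h1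
    rw [← Complex.ofReal_sum, Complex.ofReal_eq_zero] at h1
    refine ⟨Fbar, hin, funext fun g => ?_⟩
    have := Complex.normSq_eq_zero.1
      ((Finset.sum_eq_zero_iff_of_nonneg fun g _ => Complex.normSq_nonneg _).1 h1 g (Finset.mem_univ _))
    exact (sub_eq_zero.1 this).symm
  change Module.finrank ℂ (Subsections.regSpan p (Cfsg.principalBlock M G)) =
    Module.finrank ℂ (Subsections.regSpan p (Cfsg.principalBlock M (G ⧸ Q)))
  rw [le_antisymm hge hle]
  have hinj : Function.Injective (T.domRestrict (Subsections.regSpan p (Cfsg.principalBlock M (G ⧸ Q)))) := by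
    intro v w hvw
    apply Subtype.ext
    funext x
    by_cases hx : p ∣ orderOf x
    · rw [(Subsections.regSpan_spec v.2).2 x hx, (Subsections.regSpan_spec w.2).2 x hx]
    · obtain ⟨g, hg, rfl⟩ := hlift x hx
      have := congrFun hvw g
      change (if p ∣ orderOf g then 0 else _) = (if p ∣ orderOf g then 0 else _) at this
      rwa [if_neg hg, if_neg hg] at this
  rw [← LinearMap.finrank_range_of_inj hinj, LinearMap.range_domRestrict]

end Cfsg.Agent.S4571
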