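import Cfsg.Statements.S4633
import Cfsg.Agent.Lib.BrauerPairs.Bridge
import Cfsg.Agent.Lib.BrauerPairs.InducedPair
import Cfsg.Agent.Lib.BrauerPairs.Inertial
import Cfsg.Agent.Lib.BrauerPairs.CyclicAut

set_option autoImplicit false
open Cfsg

namespace Cfsg.Agent.S4633

open Cfsg.Agent.Lib.BrauerPairs.Center Cfsg.Agent.Lib.BrauerPairs.Pairs
open Cfsg.Agent.Lib.BrauerPairs.Transport Cfsg.Agent.Lib.BrauerPairs.Maximal
open Cfsg.Agent.Lib.BrauerPairs.Principal Cfsg.Agent.Lib.BrauerPairs.Bridge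

attribute [local instance] Ideal.Quotient.field

open Cfsg.Agent.Lib.BrauerPairs Cfsg.Agent.Lib.BrauerPairs.Trunc Cfsg.Agent.Lib.BrauerPairs.Conj

universe u v

theorem range_not_dvd {k : Type v} [Field k] [IsAlgClosed k] {G : Type u} [Group G] [Finite G]
    {p : ℕ} [Fact p.Prime] [CharP k p] {a : Idx k G} (ha : Top p a)
    (hab : a.1 ≤ Subgroup.centralizer (a.1 : Set G)) (T : Subgroup G)
    (hTN : T ≤ Subgroup.normalizer (a.1 : Set G))
    (hT : ∀ u ∈ T, conjA u (bext (Subgroup.centralizer (a.1 : Set G)) a.2) =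
      bext (Subgroup.centralizer (a.1 : Set G)) a.2) :
    ¬ p ∣ Nat.card (a.1.normalizerMonoidHom.comp (Subgroup.inclusion hTN)).range := by
  classical
  have hp : p.Prime := Fact.out
  set ρ := a.1.normalizerMonoidHom.comp (Subgroup.inclusion hTN) with hρ
  intro hdvd
  obtain ⟨⟨σ, t, rfl⟩, hσ⟩ := exists_prime_orderOf_dvd_card' p hdvd
  rw [← Subgroup.orderOf_coe] at hσ; dsimp only at hσ
  obtain ⟨n, m, hm, hord⟩ := Nat.exists_eq_pow_mul_and_not_dvd (orderOf_pos t).ne' p hp.ne_one
  set u := t ^ m with hu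
  have hup : IsPGroup p (Subgroup.zpowers (u : G)) := by
    intro x
    refine ⟨n, Subtype.ext ?_⟩
    obtain ⟨i, hi⟩ := Subgroup.mem_zpowers_iff.mp x.2
    have h1 : (u : G) ^ p ^ n = 1 := by
      rw [← SubmonoidClass.coe_pow, hu, ← pow_mul, mul_comm, ← hord, pow_orderOf_eq_one]; rfl
    rw [SubmonoidClass.coe_pow, ← hi, OneMemClass.coe_one, ← zpow_natCast, ← zpow_mul, mul_comm i,
      zpow_mul, zpow_natCast, h1, one_zpow]
  have hmem := Inertial.mem_sup_of_top ha (hTN u.2) hup (hT u u.2)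
  rw [sup_eq_right.mpr hab] at hmem
  have hker : ρ u = 1 := by
    have : Subgroup.inclusion hTN u ∈ a.1.normalizerMonoidHom.ker := by
      rw [Subgroup.normalizerMonoidHom_ker]; exact hmem
    exact this
  rw [hu, map_pow, ← orderOf_dvd_iff_pow_eq_one, hσ] at hker
  exact hm hker


/-- Let B be a block of the finite group G relative to a maximal ideal M of the algebraic integers containing the prime p, with a nontrivial cyclic defect group P. Let c be a block of C_G(P) inducing B and T the stabilizer of c in N_G(P) (the elements of N_G(P) conjugating c to itself); T contains C_G(P). Then T/C_G(P) is cyclic of order dividing p − 1, and it acts freely on the non-identity elements of P: an element of T fixing some non-identity element of P under conjugation lies in C_G(P). -/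
theorem result {G : Type*} [Group G] [Finite G] (p : ℕ) [Fact p.Prime] (M : Ideal Cfsg.AlgInt) (hM : Cfsg.IsPModular p M) (B : Set (Cfsg.IrrCharacter G)) (hB : Cfsg.IsPBlock M B) (P : Subgroup G) (hPD : Cfsg.IsDefectGroup p M B P) (hP1 : P ≠ ⊥) (hcyc : IsCyclic P) (c : Set (Cfsg.IrrCharacter (Subgroup.centralizer (P : Set G)))) (hc : Cfsg.IsInducedBlock M (Subgroup.centralizer (P : Set G)) c B) (T : Subgroup G) (hT : ∀ g : G, g ∈ T ↔ (g ∈ Subgroup.normalizer (P : Set G) ∧ Cfsg.StabilizesBlock (Subgroup.centralizer (P : Set G)) c g)) [hn : ((Subgroup.centralizer (P : Set G)).subgroupOf T).Normal] : IsCyclic (T ⧸ (Subgroup.centralizer (P : Set G)).subgroupOf T) ∧ (Subgroup.centralizer (P : Set G)).relIndex T ∣ p - 1 ∧ ∀ g ∈ T, ∀ x ∈ P, x ≠ 1 → g * x * g⁻¹ = x → g ∈ Subgroup.centralizer (P : Set G) := by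
  haveI : M.IsMaximal := hM.2.1
  haveI : CharP (Res M) p := charP_res hM
  classical
  have he := hc.1
  have hD := (isDefectGroup_iff hB P).mp hPD
  have hP : IsPGroup p P := hD.isPGroup
  have hpair := (InducedPair.isInducedBlock_iff hP he hB).mp hc
  have htop := top_of_isDef hpair hD
  have hab : P ≤ Subgroup.centralizer (P : Set G) := fun x hx => by
    rw [Subgroup.mem_centralizer_iff]
    intro y hy
    haveI := hcyc
    letI : CommGroup P := IsCyclic.commGroup
    exact congrArg Subtype.val (mul_comm (⟨y, hy⟩ : P) ⟨x, hx⟩)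
  have hTN : T ≤ Subgroup.normalizer (P : Set G) := fun g hg => ((hT g).mp hg).1
  have hfix : ∀ u ∈ T, conjA u (bext (Subgroup.centralizer (P : Set G)) (blk he)) =
      bext (Subgroup.centralizer (P : Set G)) (blk he) := fun u hu => by
    have h := ((hT u).mp hu).2
    rwa [stabilizesBlock_iff he (hTN hu), act_eq_iff] at h
  set ρ := P.normalizerMonoidHom.comp (Subgroup.inclusion hTN) with hρ
  have hA : ¬ p ∣ Nat.card ρ.range := range_not_dvd htop hab T hTN hfix
  haveI : Nontrivial P := (Subgroup.nontrivial_iff_ne_bot P).mpr hP1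
  obtain ⟨hcy, hdiv, hfree⟩ := CyclicAut.cyclic_aut hP hcyc ρ.range hA
  have hker : ρ.ker = (Subgroup.centralizer (P : Set G)).subgroupOf T := by
    rw [hρ, ← MonoidHom.comap_ker, Subgroup.normalizerMonoidHom_ker]
    rfl
  refine ⟨?_, ?_, fun g hg x hx hx1 hgx => ?_⟩
  · exact isCyclic_of_injective (((QuotientGroup.quotientMulEquivOfEq hker.symm).trans
      (QuotientGroup.quotientKerEquivRange ρ)).toMonoidHom) (MulEquiv.injective _)
  · rw [Subgroup.relIndex, ← hker, Subgroup.index_ker]
    exact hdiv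
  · have h1 : ρ ⟨g, hg⟩ = 1 := hfree _ ⟨⟨g, hg⟩, rfl⟩ ⟨x, hx⟩
      (fun e => hx1 (congrArg Subtype.val e)) (Subtype.ext hgx)
    have h2 : (⟨g, hg⟩ : T) ∈ ρ.ker := h1
    rw [hker] at h2
    exact h2

end Cfsg.Agent.S4633
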