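import Cfsg.Statements.S4637
import Cfsg.Agent.Lib.BrauerPairs.SubsectionCount
import Cfsg.Agent.S4633

set_option autoImplicit false
open Cfsg

namespace Cfsg.Agent.S4637

open Cfsg.Agent.Lib.BrauerPairs Cfsg.Agent.Lib.BrauerPairs.Center
open Cfsg.Agent.Lib.BrauerPairs.Trunc Cfsg.Agent.Lib.BrauerPairs.Conj
open Cfsg.Agent.Lib.BrauerPairs.Pairs Cfsg.Agent.Lib.BrauerPairs.Transport
open Cfsg.Agent.Lib.BrauerPairs.Maximal Cfsg.Agent.Lib.BrauerPairs.Bridge
open Cfsg.Agent.Lib.BrauerPairs.Local Cfsg.Agent.Lib.BrauerPairs.Fusion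
open Cfsg.Agent.Lib.Blocks Cfsg.Agent.Lib.Blocks.Contrib
open Cfsg.Agent.Lib.Blocks.SectionMatrix
open scoped ComplexConjugate

attribute [local instance] Ideal.Quotient.field

/-- Integer contributions adding up to four. -/
theorem four_of_squares {ι : Type*} [DecidableEq ι] (s : Finset ι) (N : ι → ι → ℤ)
    (hpos : ∀ a ∈ s, 1 ≤ N a a) (hsum : ∑ a ∈ s, N a a = 4)
    (hsq : ∀ a ∈ s, ∀ b ∈ s, N a b * N a b = N a a * N b b)
    {a₀ : ι} (ha₀ : a₀ ∈ s) (hodd : ¬ (2 : ℤ) ∣ N a₀ a₀) : s.card = 4 := by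
  rw [← Finset.add_sum_erase s _ ha₀] at hsum
  have hle : ∀ a ∈ s.erase a₀, N a a ≤ 4 - N a₀ a₀ := fun a ha => by
    have := Finset.single_le_sum
      (fun b hb => (zero_le_one.trans (hpos b (Finset.mem_of_mem_erase hb)))) ha (f := fun b => N b b)
    linarith
  have hrest : 0 ≤ ∑ a ∈ s.erase a₀, N a a :=
    Finset.sum_nonneg fun a ha => zero_le_one.trans (hpos a (Finset.mem_of_mem_erase ha))
  have h0 := hpos a₀ ha₀
  have hne : (s.erase a₀).Nonempty := by
    by_contra h
    rw [Finset.not_nonempty_iff_eq_empty] at h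
    rw [h, Finset.sum_empty, add_zero] at hsum
    exact hodd (hsum ▸ by norm_num)
  have hN0 : N a₀ a₀ = 1 := by
    by_contra hn
    obtain ⟨a, ha⟩ := hne
    have h1 := hpos a (Finset.mem_of_mem_erase ha)
    have h2 := hle a ha
    have h3 : N a₀ a₀ = 3 := by omega
    have h4 : N a a = 1 := by omega
    have h5 := hsq a (Finset.mem_of_mem_erase ha) a₀ ha₀
    rw [h3, h4] at h5
    have h6 : N a a₀ ≤ 1 := by nlinarith
    have h7 : -1 ≤ N a a₀ := by nlinarith
    interval_cases h : N a a₀ <;> omega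
  have hall : ∀ a ∈ s.erase a₀, N a a = 1 := fun a ha => by
    have h1 := hpos a (Finset.mem_of_mem_erase ha)
    have h2 := hle a ha
    have h5 := hsq a (Finset.mem_of_mem_erase ha) a₀ ha₀
    rw [hN0, mul_one] at h5
    have h6 : N a a₀ ≤ 1 := by nlinarith
    have h7 : -1 ≤ N a a₀ := by nlinarith
    interval_cases h : N a a₀ <;> omega
  rw [hN0, Finset.sum_congr rfl hall, Finset.sum_const, Finset.card_erase_of_mem ha₀] at hsum
  simp at hsum
  have := Finset.card_pos.mpr ⟨a₀, ha₀⟩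
  omega

/-- A major subsection of an involution with one modular character in a block of defect two. -/
theorem card_eq_four {G : Type*} [Group G] [Fintype G] {M : Ideal Cfsg.AlgInt} [M.IsMaximal]
    (hM : Cfsg.IsPModular 2 M) {H : Subgroup G} [Fintype H] {x : H} (hx : Pelt 2 x)
    (hx2 : x * x = 1) {b : Set (Cfsg.IrrCharacter H)} {B : Set (Cfsg.IrrCharacter G)}
    (hind : Cfsg.IsInducedBlock M H b B) (hd : Cfsg.blockDefect 2 b = Cfsg.blockDefect 2 B)
    (hd2 : Cfsg.blockDefect 2 b = 2) (hl : Cfsg.blockRank 2 b = 1) : Nat.card B = 4 := by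
  classical
  haveI : Fact (Nat.Prime 2) := ⟨Nat.prime_two⟩
  have hb := hind.1
  have hlam : ∀ θ : Cfsg.IrrCharacter H, ∃ ε : ℤ, lam x θ = (ε : ℂ) ∧ (lam x θ)⁻¹ = (ε : ℂ) := by
    intro θ
    have h := lam_pow hx.commute (n := 2) (by rw [pow_two, hx2]) θ
    rcases sq_eq_one_iff.mp h with h1 | h1
    · exact ⟨1, by rw [h1, Int.cast_one], by rw [h1, inv_one, Int.cast_one]⟩
    · exact ⟨-1, by rw [h1]; simp, by rw [h1]; simp⟩
  choose ε hε hεi using hlam
  set R : Cfsg.IrrCharacter G → Cfsg.IrrCharacter H → ℤ := fun χ ζ =>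
    ∑ θ ∈ bset b, (mult H χ θ : ℤ) * ε θ * nq 2 b θ ζ with hR
  set N : Cfsg.IrrCharacter G → Cfsg.IrrCharacter G → ℤ := fun χ ψ =>
    ∑ ζ ∈ bset b, R χ ζ * ((mult H ψ ζ : ℤ) * ε ζ) with hN
  have hrow : ∀ χ ζ, rowq 2 b x χ ζ = (R χ ζ : ℂ) := fun χ ζ => by
    simp only [rowq, acoef, hR, hε]
    push_cast
    rfl
  have hcX : ∀ χ ψ, cX 2 b x χ ψ = (N χ ψ : ℂ) := fun χ ψ => by
    rw [cX]
    simp only [hrow, acoef, hε, map_mul, map_natCast, map_intCast, hN]
    push_cast
    rfl
  have hRR : ∀ χ ψ, 4 * N χ ψ = ∑ ζ ∈ bset b, R χ ζ * R ψ ζ := fun χ ψ => by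
    have h := MajorSection.pow_mul_cX hM hb x χ ψ
    simp only [hrow, hcX, hd2, map_intCast] at h
    norm_num at h
    exact_mod_cast h
  have hsum : ∑ χ ∈ bset B, N χ χ = 4 := by
    have h := MajorSection.sum_cX_self hM hx hind
    simp only [hcX, hd2, hl] at h
    norm_num at h
    exact_mod_cast h
  have hsumsq : ∑ χ ∈ bset B, ∑ ψ ∈ bset B, N χ ψ * N ψ χ = 16 := by
    have h := sum_cX_mul hM hx hind
    simp only [hcX, hd2, hl] at h
    norm_num at h
    exact_mod_cast h
  have hsym : ∀ χ ψ, N χ ψ = N ψ χ := fun χ ψ => by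
    have h := conj_cX (p := 2) (b := b) x χ ψ
    rw [hcX, hcX, map_intCast] at h
    exact_mod_cast h
  have hcs : ∀ χ ψ, N χ ψ * N χ ψ ≤ N χ χ * N ψ ψ := fun χ ψ => by
    have h := Finset.sum_mul_sq_le_sq_mul_sq (bset b) (R χ) (R ψ)
    simp only [pow_two, ← hRR] at h
    linarith
  have hsq : ∀ χ ∈ bset B, ∀ ψ ∈ bset B, N χ ψ * N χ ψ = N χ χ * N ψ ψ := by
    have h1 : ∑ χ ∈ bset B, ∑ ψ ∈ bset B, (N χ χ * N ψ ψ - N χ ψ * N χ ψ) = 0 := by
      simp only [Finset.sum_sub_distrib, ← Finset.mul_sum, ← Finset.sum_mul, hsum]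
      rw [Finset.sum_congr rfl fun χ _ => Finset.sum_congr rfl fun ψ _ =>
        show N χ ψ * N χ ψ = N χ ψ * N ψ χ by rw [← hsym χ ψ], hsumsq]
      norm_num
    intro χ hχ ψ hψ
    have h2 := (Finset.sum_eq_zero_iff_of_nonneg fun χ _ => Finset.sum_nonneg fun ψ _ =>
      sub_nonneg.mpr (hcs χ ψ)).mp h1 χ hχ
    have h3 := (Finset.sum_eq_zero_iff_of_nonneg fun ψ _ => sub_nonneg.mpr (hcs χ ψ)).mp h2 ψ hψ
    linarith
  have hpos : ∀ χ ∈ bset B, 1 ≤ N χ χ := fun χ hχ => by
    have h1 := MajorSection.cX_self_ne_zero hM hx hind hd (mem_bset.mp hχ)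
    rw [hcX, Int.cast_ne_zero] at h1
    have h2 : 0 ≤ 4 * N χ χ := by
      rw [hRR]; exact Finset.sum_nonneg fun ζ _ => mul_self_nonneg _
    omega
  obtain ⟨ψ, hψ, hψ0⟩ := exists_height_zero (p := 2) hind.2.1
  have hodd : ¬ ((2 : ℕ) : ℤ) ∣ N ψ ψ := fun h => by
    refine MajorSection.not_memLocalIdeal_cX hM hx hind hψ hψ hψ0 hψ0 ?_
    rw [hcX, memLocalIdeal_intCast_iff hM]
    exact h
  rw [← card_bset]
  exact four_of_squares (bset B) N hpos hsum hsq (mem_bset.mpr hψ) (by exact_mod_cast hodd)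

theorem klein_trans {G : Type*} [Group G] [Finite G] {P : Subgroup G} (h4 : Nat.card P = 4)
    (A : Subgroup (MulAut P)) (hfree : ∀ a ∈ A, ∀ u : P, u ≠ 1 → a u = u → a = 1)
    (hA : Nat.card A = 3) (u v : P) (hu : u ≠ 1) (hv : v ≠ 1) : ∃ a ∈ A, a u = v := by
  classical
  haveI := Fintype.ofFinite P
  haveI := Fintype.ofFinite A
  let orb : A → P := fun a => a.1 u
  have horb : Function.Injective orb := fun a a' h => by
    have := hfree ((a'.1)⁻¹ * a.1) (mul_mem (inv_mem a'.2) a.2) u hu (by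
      show (a'.1)⁻¹ (a.1 u) = u
      rw [show a.1 u = a'.1 u from h]
      exact a'.1.symm_apply_apply _)
    exact Subtype.ext (inv_mul_eq_one.mp this).symm
  have himg : Finset.univ.image orb ⊆ (Finset.univ : Finset P).erase 1 := fun w hw => by
    obtain ⟨a, -, rfl⟩ := Finset.mem_image.mp hw
    exact Finset.mem_erase.mpr
      ⟨fun h => hu (a.1.injective (h.trans (map_one a.1).symm)), Finset.mem_univ _⟩
  have heq := Finset.eq_of_subset_of_card_le himg (by
    rw [Finset.card_erase_of_mem (Finset.mem_univ _), Finset.card_univ,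
      Finset.card_image_of_injective _ horb, Finset.card_univ, ← Nat.card_eq_fintype_card, h4,
      ← Nat.card_eq_fintype_card, hA])
  obtain ⟨a, -, ha⟩ := Finset.mem_image.mp
    (heq.symm ▸ Finset.mem_erase.mpr ⟨hv, Finset.mem_univ _⟩ : v ∈ Finset.univ.image orb)
  exact ⟨a.1, a.2, ha⟩

theorem klein_aut {G : Type*} [Group G] [Finite G] {P : Subgroup G} (hP4 : Nat.card P = 4)
    (hsqP : ∀ u ∈ P, u * u = 1) (A : Subgroup (MulAut P)) (hA : ¬ 2 ∣ Nat.card A) :
    (∀ a ∈ A, ∀ u : P, u ≠ 1 → a u = u → a = 1) ∧ (Nat.card A = 1 ∨ Nat.card A = 3) := by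
  classical
  have hfreeA : ∀ a ∈ A, ∀ u : P, u ≠ 1 → a u = u → a = 1 := by
    intro a ha u hu hau
    have hasq : a * a = 1 := by
      refine MulEquiv.ext fun v => ?_
      show a (a v) = v
      by_cases hv1 : v = 1
      · rw [hv1, map_one, map_one]
      by_cases hvu : v = u
      · rw [hvu, hau, hau]
      -- the other two elements are `v` and `v * u`
      have hset : ∀ w : P, w = 1 ∨ w = u ∨ w = v ∨ w = v * u := by
        intro w
        by_contra hw
        simp only [not_or] at hw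
        have hvv : v * v = 1 := Subtype.ext (hsqP v v.2)
        have h5 : ({1, u, v, v * u, w} : Finset P).card = 5 := by
          have hvu1 : v * u ≠ 1 := fun h => hvu (mul_left_cancel (h.trans hvv.symm)).symm
          have hvu2 : v * u ≠ u := fun h => hv1 (mul_eq_right.mp h)
          have hvu3 : v * u ≠ v := fun h => hu (mul_eq_left.mp h)
          rw [Finset.card_insert_of_notMem, Finset.card_insert_of_notMem,
            Finset.card_insert_of_notMem, Finset.card_insert_of_notMem, Finset.card_singleton]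
          · simp [Ne.symm hw.2.2.2]
          · simp [Ne.symm hvu3, Ne.symm hw.2.2.1]
          · simp [Ne.symm hvu, Ne.symm hvu2, Ne.symm hw.2.1]
          · simp [Ne.symm hu, Ne.symm hv1, Ne.symm hvu1, Ne.symm hw.1]
        have h4 : ({1, u, v, v * u, w} : Finset P).card ≤ Nat.card P := by
          haveI := Fintype.ofFinite P
          rw [Nat.card_eq_fintype_card]
          exact Finset.card_le_univ _
        omega
      rcases hset (a v) with h | h | h | h
      · exact absurd (a.injective (h.trans (map_one a).symm)) hv1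
      · exact absurd (a.injective (h.trans hau.symm)) hvu
      · rw [h, h]
      · rw [h, map_mul, h, hau, mul_assoc,
          show u * u = 1 from Subtype.ext (hsqP u u.2), mul_one]
    have h2 : orderOf a ∣ 2 := orderOf_dvd_of_pow_eq_one (by rw [pow_two, hasq])
    have h3 : orderOf a ∣ Nat.card A := by
      rw [← Subgroup.orderOf_mk a ha]
      exact orderOf_dvd_natCard _
    rcases (Nat.dvd_prime Nat.prime_two).mp h2 with h | h
    · exact orderOf_eq_one_iff.mp h
    · exact absurd (h ▸ h3) hA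
  refine ⟨hfreeA, ?_⟩
  haveI := Fintype.ofFinite P
  haveI := Fintype.ofFinite A
  obtain ⟨u, hu⟩ := Fintype.exists_ne_of_one_lt_card
    (show 1 < Fintype.card P by rw [← Nat.card_eq_fintype_card, hP4]; norm_num) (1 : P)
  have horb : Function.Injective fun a : A => (⟨a.1 u, fun h => hu
      (a.1.injective (h.trans (map_one a.1).symm))⟩ : {w : P // w ≠ 1}) := fun a a' h => by
    have h' : a.1 u = a'.1 u := congrArg Subtype.val h
    have := hfreeA ((a'.1)⁻¹ * a.1) (mul_mem (inv_mem a'.2) a.2) u hu (by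
      show (a'.1)⁻¹ (a.1 u) = u
      rw [h']
      exact a'.1.symm_apply_apply _)
    exact Subtype.ext (inv_mul_eq_one.mp this).symm
  have h1 := Nat.card_le_card_of_injective _ horb
  have h3 : Nat.card {w : P // w ≠ 1} = 3 := by
    rw [Nat.card_eq_fintype_card, Fintype.card_subtype_compl, Fintype.card_subtype_eq,
      ← Nat.card_eq_fintype_card, hP4]
  rw [h3] at h1
  have h2 : 0 < Nat.card A := Nat.card_pos
  omega

theorem range_odd {k : Type*} [Field k] [IsAlgClosed k] [CharP k 2] {G : Type*} [Group G]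
    [Finite G] [Fact (Nat.Prime 2)] (P : Subgroup G) (c : _) (ha : Top 2 (⟨P, c⟩ : Idx k G))
    (hab : ∀ x ∈ P, ∀ y ∈ P, x * y = y * x) (T : Subgroup G)
    (hTN : T ≤ Subgroup.normalizer (P : Set G))
    (hT : ∀ u ∈ T, conjA u (bext (Subgroup.centralizer (P : Set G)) c) =
      bext (Subgroup.centralizer (P : Set G)) c) :
    ¬ 2 ∣ Nat.card (P.normalizerMonoidHom.comp (Subgroup.inclusion hTN)).range :=
  Cfsg.Agent.S4633.range_not_dvd (p := 2) (a := (⟨P, c⟩ : Idx k G)) ha
    (fun x hx => Subgroup.mem_centralizer_iff.mpr fun y hy => hab y hy x hx) T hTN hT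


/-- Let B be a block of the finite group G relative to a maximal ideal M of the algebraic integers containing 2, with a Klein four defect group P. Let c be a block of C_G(P) inducing B, T the stabilizer of c in N_G(P) and e the index of C_G(P) in T (the inertial index). Then e is 1 or 3, B contains exactly four irreducible characters, and the 2-regular rank of B (its number of irreducible Brauer characters) equals e. -/
theorem result {G : Type*} [Group G] [Finite G] (M : Ideal Cfsg.AlgInt) (hM : Cfsg.IsPModular 2 M) (B : Set (Cfsg.IrrCharacter G)) (hB : Cfsg.IsPBlock M B) (P : Subgroup G) (hPD : Cfsg.IsDefectGroup 2 M B P) (hV : IsKleinFour P) (c : Set (Cfsg.IrrCharacter (Subgroup.centralizer (P : Set G)))) (hc : Cfsg.IsInducedBlock M (Subgroup.centralizer (P : Set G)) c B) (T : Subgroup G) (hT : ∀ g : G, g ∈ T ↔ (g ∈ Subgroup.normalizer (P : Set G) ∧ Cfsg.StabilizesBlock (Subgroup.centralizer (P : Set G)) c g)) (e : ℕ) (he : (Subgroup.centralizer (P : Set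 G)).relIndex T = e) : (e = 1 ∨ e = 3) ∧ Nat.card B = 4 ∧ Cfsg.blockRank 2 B = e := by
  classical
  haveI : Fact (Nat.Prime 2) := ⟨Nat.prime_two⟩
  haveI : M.IsMaximal := hM.2.1
  haveI : CharP (Res M) 2 := charP_res hM
  haveI := Fintype.ofFinite G
  haveI := hV
  have hc1 := hc.1
  have hD := (isDefectGroup_iff hB P).mp hPD
  have hP : IsPGroup 2 P := hD.isPGroup
  have hpair := (InducedPair.isInducedBlock_iff hP hc1 hB).mp hc
  have htop : Top 2 (⟨P, blk hc1⟩ : Idx (Res M) G) := top_of_isDef hpair hD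
  have hP4 : Nat.card P = 4 := IsKleinFour.card_four
  have hsqP : ∀ u ∈ P, u * u = 1 := fun u hu => by
    have h := Monoid.pow_exponent_eq_one (⟨u, hu⟩ : P)
    rw [IsKleinFour.exponent_two, pow_two] at h
    exact congrArg Subtype.val h
  have hab : ∀ x ∈ P, ∀ y ∈ P, x * y = y * x := fun x hx y hy => by
    have hinv : ∀ u ∈ P, u⁻¹ = u := fun u hu => inv_eq_of_mul_eq_one_left (hsqP u hu)
    have h := hinv _ (mul_mem hx hy)
    rw [mul_inv_rev, hinv x hx, hinv y hy] at h
    exact h.symm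
  have hTs : T = stab (⟨P, blk hc1⟩ : Idx (Res M) G) := eq_stab hc1 hT
  have hTN : T ≤ Subgroup.normalizer (P : Set G) := fun g hg => ((hT g).mp hg).1
  have hfix : ∀ g ∈ T, conjA g (bext (Subgroup.centralizer (P : Set G)) (blk hc1)) =
      bext (Subgroup.centralizer (P : Set G)) (blk hc1) := fun g hg =>
    (mem_stab_iff.mp (hTs.le hg)).2
  have hA := range_odd P (blk hc1) htop hab T hTN hfix
  set ρ := P.normalizerMonoidHom.comp (Subgroup.inclusion hTN) with hρ
  have hker : ρ.ker = (Subgroup.centralizer (P : Set G)).subgroupOf T := by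
    rw [hρ, ← MonoidHom.comap_ker, Subgroup.normalizerMonoidHom_ker]
    rfl
  have hecard : e = Nat.card ρ.range := by
    rw [← he, Subgroup.relIndex, ← hker, Subgroup.index_ker]
  obtain ⟨hfreeA, hcardA⟩ := klein_aut (P := P) hP4 hsqP ρ.range hA
  have hfree : ∀ x ∈ stab (⟨P, blk hc1⟩ : Idx (Res M) G), ∀ u ∈ P, u ≠ 1 → x * u = u * x →
      x ∈ Subgroup.centralizer (P : Set G) := by
    intro x hx u hu hu1 hxu
    have hxT : x ∈ T := hTs.ge hx
    have h1 : ρ ⟨x, hxT⟩ = 1 := hfreeA _ ⟨_, rfl⟩ ⟨u, hu⟩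
      (fun h => hu1 (congrArg Subtype.val h)) (Subtype.ext (mul_inv_eq_iff_eq_mul.mpr hxu))
    have h2 : (⟨x, hxT⟩ : T) ∈ ρ.ker := h1
    rw [hker] at h2
    exact h2
  obtain ⟨u₀, hu₀, hu₀1⟩ : ∃ u, u ∈ P ∧ u ≠ 1 := by
    by_contra h
    simp only [not_exists, not_and, not_not] at h
    have : P = ⊥ := (Subgroup.eq_bot_iff_forall P).mpr h
    rw [this, Subgroup.card_bot] at hP4
    omega
  haveI := Fintype.ofFinite P
  haveI := Fintype.ofFinite ρ.range
  have he13 : e = 1 ∨ e = 3 := by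
    rw [hecard]
    exact hcardA
  refine ⟨he13, ?_⟩
  obtain ⟨R, hR⟩ := SubsectionCount.exists_orbitReps (p := 2) (⟨P, blk hc1⟩ : Idx (Res M) G)
  have hcount := SubsectionCount.card_eq_of_free hM htop hpair hab hfree hR
  rw [toSet_blk] at hcount
  rcases he13 with rfl | rfl
  · have h := RankAbelian.good hM (G := G) P _ (blk hB) htop hpair hab fun x hx => by
      refine Subgroup.relIndex_eq_one.mp he ?_
      exact hTs.ge hx
    rw [toSet_blk, hP4] at h
    exact ⟨h.2, h.1⟩
  · have htrans : ∀ u ∈ P, u ≠ 1 →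
        ∃ t ∈ stab (⟨P, blk hc1⟩ : Idx (Res M) G), t * u₀ * t⁻¹ = u := by
      intro u hu hu1
      obtain ⟨a, ⟨t, ht⟩, h2⟩ := klein_trans hP4 ρ.range hfreeA hecard.symm ⟨u₀, hu₀⟩ ⟨u, hu⟩
        (fun h => hu₀1 (congrArg Subtype.val h)) (fun h => hu1 (congrArg Subtype.val h))
      refine ⟨(t : G), hTs.le t.2, ?_⟩
      rw [← ht] at h2
      exact congrArg Subtype.val h2
    have hR1 : R.card = 1 := by
      rw [Finset.card_eq_one]
      obtain ⟨r, hr, -, -, -⟩ := hR.exists_conj u₀ hu₀ hu₀1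
      refine ⟨r, Finset.eq_singleton_iff_unique_mem.mpr ⟨hr, fun s hs => ?_⟩⟩
      obtain ⟨t, ht, h1⟩ := htrans r (hR.mem r hr) (hR.ne_one r hr)
      obtain ⟨v, hv, h2⟩ := htrans s (hR.mem s hs) (hR.ne_one s hs)
      refine hR.unique s hs r hr (t * v⁻¹) (mul_mem ht (inv_mem hv)) ?_
      rw [← h2, ← h1]
      group
    haveI := Fintype.ofFinite (Subgroup.centralizer (Subgroup.zpowers u₀ : Set G))
    have hl := SubsectionCount.blockRank_localBlk hM htop hab hu₀
      (fun x hx h => hfree x hx u₀ hu₀ hu₀1 h)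
    have hdd := SubsectionCount.blockDefect_localBlk hM htop hpair hab hu₀
    rw [toSet_blk] at hdd
    have hBd : Cfsg.blockDefect 2 B = 2 := by
      have := Lib.Blocks.card_isDefectGroup hM hB hPD
      rw [hP4] at this
      exact Nat.pow_right_injective le_rfl (show 2 ^ _ = 2 ^ 2 from this.symm)
    have hind := SubsectionCount.isInducedBlock_localBlk hM htop.1 hpair hab hu₀
    rw [toSet_blk] at hind
    have hk : Nat.card B = 4 := card_eq_four hM
      (x := (⟨u₀, SubsectionCount.le_centralizer_zpowers hab hu₀ hu₀⟩ :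
        Subgroup.centralizer (Subgroup.zpowers u₀ : Set G)))
      ⟨by
        obtain ⟨k, hk⟩ := IsPGroup.iff_orderOf.mp hP ⟨u₀, hu₀⟩
        exact ⟨k, (Subgroup.orderOf_coe (⟨u₀, hu₀⟩ : P)).trans hk⟩, rfl⟩
      (Subtype.ext (hsqP u₀ hu₀)) hind hdd (hdd.trans hBd) hl.1
    exact ⟨hk, by omega⟩

end Cfsg.Agent.S4637
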