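import Cfsg.Statements.S2065
import Cfsg.Agent.Lib.SporMatrix.J1
import Cfsg.Agent.Lib.OutTrivial.Basic
import Cfsg.Agent.Lib.OutTrivial.J1Data
-- import your own Cfsg.Agent.* helpers here

set_option autoImplicit false
open Cfsg

namespace Cfsg.Agent.S2065

open Cfsg.Agent.Lib Cfsg.Agent.Lib.SporMatrix Cfsg.Agent.Lib.SporMatrix.J1 Cfsg.Agent.Lib.SporMatrix.Code7
open Cfsg.Agent.Lib.OutTrivial

theorem enc_dec (r : ℕ) : enc (dec r) = red r := by
  obtain ⟨a, b, c, d, e, f, g⟩ := l_lt r
  simp [enc, dec, red, ZMod.val_natCast, Nat.mod_eq_of_lt a, Nat.mod_eq_of_lt b, Nat.mod_eq_of_lt c,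
    Nat.mod_eq_of_lt d, Nat.mod_eq_of_lt e, Nat.mod_eq_of_lt f, Nat.mod_eq_of_lt g]

/-- Reduced codes determine their matrices. -/
theorem val_inj {A B : M7} (hA : ok A = true) (hB : ok B = true) (h : val A = val B) : A = B := by
  obtain ⟨a0, a1, a2, a3, a4, a5, a6⟩ := ok_spec hA
  obtain ⟨b0, b1, b2, b3, b4, b5, b6⟩ := ok_spec hB
  have hr : ∀ i : Fin 7, enc (val A i) = enc (val B i) := fun i => by rw [h]
  have r0 : red A.r0 = red B.r0 := by rw [← enc_dec, ← enc_dec]; exact hr 0
  have r1 : red A.r1 = red B.r1 := by rw [← enc_dec, ← enc_dec]; exact hr 1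
  have r2 : red A.r2 = red B.r2 := by rw [← enc_dec, ← enc_dec]; exact hr 2
  have r3 : red A.r3 = red B.r3 := by rw [← enc_dec, ← enc_dec]; exact hr 3
  have r4 : red A.r4 = red B.r4 := by rw [← enc_dec, ← enc_dec]; exact hr 4
  have r5 : red A.r5 = red B.r5 := by rw [← enc_dec, ← enc_dec]; exact hr 5
  have r6 : red A.r6 = red B.r6 := by rw [← enc_dec, ← enc_dec]; exact hr 6
  obtain ⟨x0, x1, x2, x3, x4, x5, x6⟩ := A
  obtain ⟨y0, y1, y2, y3, y4, y5, y6⟩ := B
  simp only [M7.mk.injEq]
  exact ⟨a0.trans (r0.trans b0.symm), a1.trans (r1.trans b1.symm), a2.trans (r2.trans b2.symm),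
    a3.trans (r3.trans b3.symm), a4.trans (r4.trans b4.symm), a5.trans (r5.trans b5.symm),
    a6.trans (r6.trans b6.symm)⟩

/-- The matrix of an element. -/
abbrev mat (g : ↥Cfsg.Spor.J1) : Mat := ((g : GL (Fin 7) (ZMod 11)) : Mat)

theorem mat_injective : Function.Injective mat :=
  fun _ _ h => Subtype.ext (Units.ext h)

theorem mat_mul (g h : ↥Cfsg.Spor.J1) : mat (g * h) = mat g * mat h := rfl

theorem mat_one : mat 1 = 1 := rfl

/-- The set of listed involutions. -/
def invSet : Set ↥Cfsg.Spor.J1 := {g | ∃ en ∈ J1Data.invTree.toList, mat g = val en.1}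

/-- Listed codes are reduced, and conjugation by a generator keeps to the list. -/
def checkClosed (en : M7 × ℕ × ℕ) : Bool :=
  ok en.1 && beq (mul codeX en.1) (mul (J1Data.invTree.get en.2.1).1 codeX) &&
    beq (mul codeY en.1) (mul (J1Data.invTree.get en.2.2).1 codeY)

theorem checkClosed_ok : J1Data.invTree.all checkClosed = true := by decide +kernel

/-- The code of a word in X and a coded element. -/
def wordC (c : M7) : List Bool → M7
  | [] => one
  | i :: is => mul (bif i then c else codeX) (wordC c is)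

theorem ok_codeX : ok codeX = true := by decide +kernel
theorem ok_codeY : ok codeY = true := by decide +kernel

/-- The element X. -/
noncomputable def s : ↥Cfsg.Spor.J1 := evJ [0]
/-- The involution. -/
noncomputable def t : ↥Cfsg.Spor.J1 := evJ J1Data.invWord

theorem mat_s : mat s = val codeX := by
  rw [val_codeX, s]
  simp [mat, evJ, genJ, Cfsg.Spor.jankoX]

theorem mat_evY : mat (evJ [1]) = val codeY := by
  rw [val_codeY]
  simp [mat, evJ, genJ, Cfsg.Spor.jankoY]

theorem mat_evJ (w : List ℕ) : mat (evJ w) = val (codeW w) := (val_codeW w).symm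

theorem wordC_spec {g : ↥Cfsg.Spor.J1} {c : M7} (hc : ok c = true) (hg : mat g = val c) :
    ∀ w, ok (wordC c w) = true ∧ mat (wordVal s g w) = val (wordC c w) := by
  intro w
  induction w with
  | nil =>
    refine ⟨(by decide +kernel : ok one = true), ?_⟩
    show mat 1 = val one
    rw [mat_one]
    exact (coding.val_one).symm
  | cons i is ih =>
    obtain ⟨h1, h2⟩ := ih
    cases i
    · exact ⟨ok_mul _ _, (mat_mul s (wordVal s g is)).trans (by
        rw [h2, mat_s]; exact (val_mul codeX _ h1).symm)⟩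
    · exact ⟨ok_mul _ _, (mat_mul g (wordVal s g is)).trans (by
        rw [h2, hg]; exact (val_mul c _ h1).symm)⟩

/-- Powers of X. -/
def powX (i : ℕ) : List ℕ := List.replicate i 0

theorem evJ_powX : ∀ i, evJ (powX i) = s ^ i
  | 0 => rfl
  | i + 1 => by
    rw [powX, List.replicate_succ, pow_succ', ← evJ_powX i, s, ← evJ_append]
    rfl

/-- A listed involution is a conjugate of `t` under a power of X or fails a relation. -/
def checkRigid (en : M7 × ℕ × ℕ) : Bool :=
  (J1Data.relWords.any fun w => !beq (wordC en.1 w) one) ||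
    (List.range 7).any fun i => beq (codeW (powX i ++ J1Data.invWord)) (mul en.1 (codeW (powX i)))

theorem checkRigid_ok : J1Data.invTree.all checkRigid = true := by decide +kernel

theorem rel_ok : (J1Data.relWords.all fun w => beq (wordC (codeW J1Data.invWord) w) one) = true := by
  decide +kernel

theorem yWord_ok : beq (wordC (codeW J1Data.invWord) J1Data.yWord) codeY = true := by decide +kernel

theorem closure_st : Subgroup.closure ({s, t} : Set ↥Cfsg.Spor.J1) = ⊤ := by
  rw [eq_top_iff, ← closure_gens, Subgroup.closure_le]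
  rintro x (rfl | rfl)
  · exact Subgroup.subset_closure (Or.inl rfl)
  · have hy : evJ [1] = wordVal s t J1Data.yWord := mat_injective (by
      rw [mat_evY, t, (wordC_spec (ok_codeW _) (mat_evJ _) _).2, beq_eq yWord_ok])
    rw [hy]
    induction J1Data.yWord with
    | nil => exact one_mem _
    | cons i w ih =>
      refine mul_mem ?_ ih
      cases i
      · exact Subgroup.subset_closure (Or.inl rfl)
      · exact Subgroup.subset_closure (Or.inr rfl)

/-- The seven non-identity elements of the fixed subgroup are listed. -/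
def checkTwo : Bool :=
  (List.range 7).all fun i =>
    beq (codeW (J1Words.sylowTwo.getD (i + 1) [])) (J1Data.invTree.get (J1Data.twoIdx.getD i 0)).1

theorem checkTwo_ok : checkTwo = true := by decide +kernel

/-- The outer automorphism group of the Janko group J₁ (the group generated by two explicit 7 × 7 matrices over the integers modulo 11) is trivial: every automorphism is inner. -/
theorem result : Nat.card (Cfsg.Out ↥Cfsg.Spor.J1) = 1 := by
  haveI : Finite ↥Cfsg.Spor.J1 := Nat.finite_of_card_ne_zero (by rw [card_J1]; norm_num)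
  haveI : Fact (Nat.Prime 7) := ⟨by norm_num⟩
  haveI : Fact (Nat.Prime 2) := ⟨Nat.prime_two⟩
  have hs : orderOf s = 7 := orderOf_evJ J1Data.lvA.base (by decide +kernel) (by decide +kernel)
  have ht : orderOf t = 2 := orderOf_evJ J1Data.lvA.base (by decide +kernel) (by decide +kernel)
  have hn : evJ J1Data.cubeWord * s * (evJ J1Data.cubeWord)⁻¹ = s ^ 3 := by
    rw [mul_inv_eq_iff_eq_mul, ← evJ_powX, s, ← evJ_append, ← evJ_append]
    exact evJ_eq (by decide +kernel)
  have hall := fun en (h : en ∈ J1Data.invTree.toList) =>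
    (Chain.Tree.all_iff _).1 checkClosed_ok en h
  refine card_out_eq_one (n := evJ J1Data.cubeWord) (k := 3) closure_st hs
    (by rw [card_J1]; norm_num) hn (by decide) ht sylowTwoSubgroup ?_ {evJ [0], evJ [1]} closure_gens
    invSet ?_ ?_ ?_
  · intro hd
    have h := sylowTwoSubgroup.card_mul_index
    rw [card_sylowTwoSubgroup, card_J1] at h
    omega
  · intro a ha x hx
    obtain ⟨en, hen, hxe⟩ := hx
    have h := hall en hen
    simp only [checkClosed, Bool.and_eq_true] at h
    obtain ⟨⟨hok, hX⟩, hY⟩ := h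
    have key : ∀ (g : ↥Cfsg.Spor.J1) (cg : M7) (j : ℕ), ok cg = true → mat g = val cg →
        beq (mul cg en.1) (mul (J1Data.invTree.get j).1 cg) = true → g * x * g⁻¹ ∈ invSet := by
      intro g cg j hcg hg hb
      refine ⟨_, Chain.Tree.get_mem _ j, ?_⟩
      have h1 : mat (g * x) = val (J1Data.invTree.get j).1 * mat g := by
        rw [mat_mul, hg, hxe, ← val_mul _ _ hok, ← val_mul _ _ hcg, beq_eq hb]
      calc mat (g * x * g⁻¹) = mat (g * x) * mat g⁻¹ := mat_mul _ _
        _ = val (J1Data.invTree.get j).1 := by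
          rw [h1, mul_assoc, ← mat_mul, mul_inv_cancel, mat_one, mul_one]
    rcases ha with rfl | rfl
    · exact key _ _ _ ok_codeX mat_s hX
    · exact key _ _ _ ok_codeY mat_evY hY
  · rintro x ⟨i, rfl⟩ ho
    have hi : i.1 ≠ 0 := by
      intro h0
      rw [show i = 0 from Fin.ext h0, two_zero, orderOf_one] at ho
      exact absurd ho (by norm_num)
    have h := List.all_eq_true.1 checkTwo_ok (i.1 - 1) (List.mem_range.2 (by omega))
    rw [Nat.sub_add_cancel (Nat.pos_of_ne_zero hi)] at h
    refine ⟨_, Chain.Tree.get_mem J1Data.invTree (J1Data.twoIdx.getD (i.1 - 1) 0), ?_⟩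
    rw [two, mat_evJ, beq_eq h]
  · rintro x ⟨en, hen, hxe⟩
    have hok : ok en.1 = true := by
      have h := hall en hen
      simp only [checkClosed, Bool.and_eq_true] at h
      exact h.1.1
    have h := (Chain.Tree.all_iff _).1 checkRigid_ok en hen
    simp only [checkRigid, Bool.or_eq_true, List.any_eq_true, Bool.not_eq_true'] at h
    rcases h with ⟨w, hw, he⟩ | ⟨i, -, he⟩
    · obtain ⟨o1, v1⟩ := wordC_spec hok hxe w
      refine Or.inr ⟨w, mat_injective ?_, fun h1 => ?_⟩
      · rw [t, (wordC_spec (ok_codeW _) (mat_evJ _) w).2, beq_eq (List.all_eq_true.1 rel_ok w hw), mat_one]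
        exact coding.val_one
      · have : wordC en.1 w = one := val_inj o1 coding.ok_one (by rw [← v1, h1]; exact coding.val_one.symm)
        rw [this] at he
        exact absurd he (by decide +kernel)
    · refine Or.inl ⟨s ^ i, by group, ?_⟩
      rw [mul_inv_eq_iff_eq_mul]
      refine mat_injective ?_
      rw [t, ← evJ_powX, ← evJ_append, mat_evJ, beq_eq he, mat_mul, hxe, mat_evJ, val_mul _ _ (ok_codeW _)]

end Cfsg.Agent.S2065
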