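import Cfsg.Statements.S0714
import Mathlib

set_option autoImplicit false
open Cfsg

namespace Cfsg.Agent.S0714

/-- Over any field, the permutation module of the alternating group of degree at least 5 has exactly four invariant subspaces: zero, the constant functions, the functions with coordinate sum zero, and everything. -/
theorem result {α : Type*} [Fintype α] [DecidableEq α] (hα : 5 ≤ Fintype.card α) {K : Type*} [Field K] (W : Subrepresentation (Cfsg.permRep K (alternatingGroup α) α)) : W.toSubmodule = ⊥ ∨ W = Cfsg.permConstants K (alternatingGroup α) α ∨ W = Cfsg.permSumZero K (alternatingGroup α) α ∨ W.toSubmodule = ⊤ := by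
  classical
  let e : α → α → (α → K) := fun x y z => (if z = x then 1 else 0) - (if z = y then 1 else 0)
  have hW : ∀ (g : alternatingGroup α) (v : α → K), v ∈ W.toSubmodule →
      (fun z => v ((g : Equiv.Perm α).symm z)) ∈ W.toSubmodule :=
    fun g v hv => W.apply_mem_toSubmodule g hv
  have hdt : ∀ a b c d : α, a ≠ b → c ≠ d → Equiv.swap a b * Equiv.swap c d ∈ alternatingGroup α :=
    fun a b c d hab hcd =>
      Equiv.Perm.mul_mem_alternatingGroup_of_isSwap ⟨a, b, hab, rfl⟩ ⟨c, d, hcd, rfl⟩
  have hρ : ∀ (g : alternatingGroup α) (x y : α),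
      Cfsg.permRep K (alternatingGroup α) α g (e x y) =
        e ((g : Equiv.Perm α) x) ((g : Equiv.Perm α) y) := fun g x y => funext fun z => by
    change e x y ((g : Equiv.Perm α).symm z) = _
    simp only [e, Equiv.symm_apply_eq]
  have hpick : ∀ s : Finset α, s.card ≤ 4 → ∃ x, x ∉ s := by
    intro s hs
    obtain ⟨x, -, hx⟩ := Finset.exists_mem_notMem_of_card_lt_card
      (show s.card < (Finset.univ : Finset α).card by rw [Finset.card_univ]; omega)
    exact ⟨x, hx⟩
  by_cases hconst : ∀ v ∈ W.toSubmodule, ∀ x y : α, v x = v y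
  · -- only constant functions
    by_cases hbot : W.toSubmodule = ⊥
    · exact Or.inl hbot
    right; left
    apply Subrepresentation.toSubmodule_injective
    obtain ⟨v, hv, hv0⟩ := Submodule.exists_mem_ne_zero_of_ne_bot hbot
    obtain ⟨a⟩ : Nonempty α := Fintype.card_pos_iff.1 (by omega)
    have hva : v = v a • (fun _ : α => (1 : K)) := funext fun x => by simp [hconst v hv x a]
    have hva0 : v a ≠ 0 := fun h => hv0 (by rw [hva, h]; exact zero_smul _ _)
    refine le_antisymm (fun w hw => ?_) ?_
    · exact Submodule.mem_span_singleton.2 ⟨w a, funext fun x => by simp [hconst w hw x a]⟩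
    · refine Submodule.span_le.2 (Set.singleton_subset_iff.2 ?_)
      rw [SetLike.mem_coe]
      have : (fun _ : α => (1 : K)) = (v a)⁻¹ • v := funext fun x => by
        simp [hconst v hv x a, inv_mul_cancel₀ hva0]
      rw [this]
      exact W.toSubmodule.smul_mem _ hv
  push Not at hconst
  obtain ⟨v, hv, a, b, hab⟩ := hconst
  have hab' : a ≠ b := fun h => hab (by rw [h])
  obtain ⟨c, hc⟩ := hpick {a, b} (le_trans Finset.card_le_two (by norm_num))
  obtain ⟨d, hd⟩ := hpick {a, b, c} (le_trans Finset.card_le_three (by norm_num))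
  obtain ⟨f, hf⟩ := hpick {a, b, c, d} Finset.card_le_four
  simp only [Finset.mem_insert, Finset.mem_singleton, not_or] at hc hd hf
  obtain ⟨hca, hcb⟩ := hc
  obtain ⟨hda, hdb, hdc⟩ := hd
  obtain ⟨hfa, hfb, hfc, hfd⟩ := hf
  -- some difference of two basis vectors lies in `W`
  have hexists : ∃ x y : α, x ≠ y ∧ e x y ∈ W.toSubmodule := by
    set p := v a - v b with hp
    set q := v c - v d with hq
    have hw : p • e a b + q • e c d ∈ W.toSubmodule := by
      have h1 := W.toSubmodule.sub_mem hv (hW ⟨_, hdt a b c d hab' (Ne.symm hdc)⟩ v hv)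
      convert h1 using 1
      funext z
      simp only [Pi.add_apply, Pi.smul_apply, Pi.sub_apply, smul_eq_mul, e, hp, hq,
        ← Equiv.Perm.inv_def, mul_inv_rev, Equiv.swap_inv, Equiv.Perm.mul_apply]
      by_cases z1 : z = a
      · subst z1; simp [hab', Ne.symm hca, Ne.symm hda, Ne.symm hcb, Ne.symm hdb,
          Equiv.swap_apply_of_ne_of_ne]
      by_cases z2 : z = b
      · subst z2; simp [Ne.symm hab', Ne.symm hca, Ne.symm hda, Ne.symm hcb, Ne.symm hdb, hca, hda,
          Equiv.swap_apply_of_ne_of_ne]
      by_cases z3 : z = c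
      · subst z3; simp [z1, z2, Ne.symm hdc, hda, hdb, Equiv.swap_apply_of_ne_of_ne]
      by_cases z4 : z = d
      · subst z4; simp [z1, z2, z3, hca, hcb, Equiv.swap_apply_of_ne_of_ne]
      · simp [z1, z2, z3, z4, Equiv.swap_apply_of_ne_of_ne]
    by_cases hq0 : q = 0
    · refine ⟨a, b, hab', ?_⟩
      rw [hq0, zero_smul, add_zero] at hw
      have hp0 : p ≠ 0 := sub_ne_zero.2 hab
      simpa [smul_smul, inv_mul_cancel₀ hp0] using W.toSubmodule.smul_mem p⁻¹ hw
    have hp0 : p ≠ 0 := sub_ne_zero.2 hab
    -- make the second part cancel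
    have hu : e a b + e f b ∈ W.toSubmodule := by
      have h1 := W.apply_mem_toSubmodule ⟨_, hdt c d a f (Ne.symm hdc) (Ne.symm hfa)⟩ hw
      rw [map_add, map_smul, map_smul, hρ, hρ] at h1
      simp only [Equiv.Perm.mul_apply, Equiv.swap_apply_left, Equiv.swap_apply_right,
        Equiv.swap_apply_of_ne_of_ne hfc hfd,
        Equiv.swap_apply_of_ne_of_ne (Ne.symm hab') (Ne.symm hfb),
        Equiv.swap_apply_of_ne_of_ne (Ne.symm hcb) (Ne.symm hdb),
        Equiv.swap_apply_of_ne_of_ne hca (Ne.symm hfc),
        Equiv.swap_apply_of_ne_of_ne hda (Ne.symm hfd)] at h1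
      have h2 : p • (e a b + e f b) ∈ W.toSubmodule := by
        convert W.toSubmodule.add_mem hw h1 using 1
        funext z
        simp only [Pi.add_apply, Pi.smul_apply, smul_eq_mul, e]
        ring
      simpa [smul_smul, inv_mul_cancel₀ hp0] using W.toSubmodule.smul_mem p⁻¹ h2
    by_cases h2 : (2 : K) = 0
    · refine ⟨a, f, Ne.symm hfa, ?_⟩
      convert hu using 1
      funext z
      simp only [Pi.add_apply, e]
      have hneg : ∀ x : K, x + x = 0 := fun x => by linear_combination x * h2
      linear_combination hneg (if z = b then (1 : K) else 0) - hneg (if z = f then (1 : K) else 0)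
    · refine ⟨c, b, hcb, ?_⟩
      have h3 := W.apply_mem_toSubmodule ⟨_, hdt b c a f (Ne.symm hcb) (Ne.symm hfa)⟩ hu
      rw [map_add, hρ, hρ] at h3
      simp only [Equiv.Perm.mul_apply, Equiv.swap_apply_left, Equiv.swap_apply_right,
        Equiv.swap_apply_of_ne_of_ne hfb hfc,
        Equiv.swap_apply_of_ne_of_ne hab' (Ne.symm hca),
        Equiv.swap_apply_of_ne_of_ne (Ne.symm hab') (Ne.symm hfb)] at h3
      have h4 : (2 : K) • e c b ∈ W.toSubmodule := by
        convert W.toSubmodule.sub_mem hu h3 using 1
        funext z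
        simp only [Pi.add_apply, Pi.sub_apply, Pi.smul_apply, smul_eq_mul, e]
        ring
      simpa [smul_smul, inv_mul_cancel₀ h2] using W.toSubmodule.smul_mem (2 : K)⁻¹ h4
  obtain ⟨x₀, y₀, hxy₀, he⟩ := hexists
  -- hence all of them
  have hall : ∀ x y : α, e x y ∈ W.toSubmodule := by
    intro x y
    rcases eq_or_ne x y with h | h
    · subst h
      have : e x x = 0 := funext fun z => sub_self _
      rw [this]; exact W.toSubmodule.zero_mem
    haveI : MulAction.IsMultiplyPretransitive (alternatingGroup α) α (Nat.card α - 2) :=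
      alternatingGroup.isMultiplyPretransitive α
    haveI h2t : MulAction.IsMultiplyPretransitive (alternatingGroup α) α 2 :=
      MulAction.isMultiplyPretransitive_of_le (n := Nat.card α - 2)
        (by rw [Nat.card_eq_fintype_card]; omega) (Nat.sub_le _ _)
    obtain ⟨g, hgx, hgy⟩ := MulAction.is_two_pretransitive_iff.1 h2t hxy₀ h
    have hgx' : (g : Equiv.Perm α) x₀ = x := hgx
    have hgy' : (g : Equiv.Perm α) y₀ = y := hgy
    convert hW g _ he using 1
    funext z
    simp only [e, Equiv.symm_apply_eq, hgx', hgy']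
  have hsum : (Cfsg.permSumZero K (alternatingGroup α) α).toSubmodule ≤ W.toSubmodule := by
    intro w hw
    have hw' : ∑ x, w x = 0 := hw
    have : w = ∑ x, w x • e x a := funext fun z => by
      simp only [Finset.sum_apply, Pi.smul_apply, smul_eq_mul, e, mul_sub, Finset.sum_sub_distrib,
        mul_ite, mul_one, mul_zero, Finset.sum_ite_eq, Finset.mem_univ, if_true]
      split_ifs <;> simp [hw']
    rw [this]
    exact W.toSubmodule.sum_mem fun x _ => W.toSubmodule.smul_mem _ (hall x a)
  right; right
  by_cases hall0 : ∀ w ∈ W.toSubmodule, ∑ x, w x = 0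
  · exact Or.inl (Subrepresentation.toSubmodule_injective (le_antisymm hall0 hsum))
  · right
    push Not at hall0
    obtain ⟨w, hw, hw0⟩ := hall0
    rw [eq_top_iff]
    intro u _
    set t := (∑ x, u x) / ∑ x, w x with ht
    have h1 : u - t • w ∈ W.toSubmodule := hsum (by
      change ∑ x, (u - t • w) x = 0
      simp only [Pi.sub_apply, Pi.smul_apply, smul_eq_mul, Finset.sum_sub_distrib, ← Finset.mul_sum,
        ht, div_mul_cancel₀ _ hw0, sub_self])
    simpa using W.toSubmodule.add_mem h1 (W.toSubmodule.smul_mem t hw)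

end Cfsg.Agent.S0714
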