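import Cfsg.Statements.S0713
import Mathlib

set_option autoImplicit false
open Cfsg

namespace Cfsg.Agent.S0713

/-- Jordan's Theorem: a primitive permutation group of degree `n ≥ 5` containing a `p`-cycle for a prime `p ≤ n - 3` contains the alternating group. -/
theorem result {α : Type*} [Fintype α] [DecidableEq α] (G : Subgroup (Equiv.Perm α)) (hG : MulAction.IsPreprimitive G α) {p : ℕ} (hp : p.Prime) (hn : 5 ≤ Fintype.card α) (hpn : p + 3 ≤ Fintype.card α) {g : Equiv.Perm α} (hgc : g.IsCycle) (hgp : g.support.card = p) (hg : g ∈ G) : alternatingGroup α ≤ G := by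
  classical
  haveI : Fact p.Prime := ⟨hp⟩
  set q := Fintype.card α - p with hq
  have hp1 := hp.two_le
  -- `G` is transitive on ordered `q`-tuples
  let Γ : Set α := ((g.support : Finset α) : Set α)ᶜ
  have hΓcard : Γ.ncard = q := by
    show ((g.support : Set α)ᶜ).ncard = q
    rw [Set.ncard_compl, Set.ncard_coe_finset, hgp, Nat.card_eq_fintype_card]
  have hgfix : (⟨g, hg⟩ : G) ∈ fixingSubgroup G Γ := by
    rw [mem_fixingSubgroup_iff]
    intro x hx
    exact Equiv.Perm.notMem_support.1 hx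
  have htrans : MulAction.IsPretransitive (fixingSubgroup G Γ) (SubMulAction.ofFixingSubgroup G Γ) := by
    refine ⟨fun x y => ?_⟩
    have hx : (x : α) ∈ g.support := not_not.mp x.2
    have hy : (y : α) ∈ g.support := not_not.mp y.2
    obtain ⟨i, hi⟩ := hgc.sameCycle (Equiv.Perm.mem_support.1 hx) (Equiv.Perm.mem_support.1 hy)
    exact ⟨⟨⟨g, hg⟩ ^ i, zpow_mem hgfix i⟩, Subtype.ext hi⟩
  have hprim : MulAction.IsPreprimitive (fixingSubgroup G Γ) (SubMulAction.ofFixingSubgroup G Γ) := by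
    refine MulAction.IsPreprimitive.of_prime_card ?_
    have : Nat.card (SubMulAction.ofFixingSubgroup G Γ) = p := by
      rw [← hgp]
      refine (Nat.card_congr (Equiv.subtypeEquivRight fun x => ?_)).trans
        ((Nat.card_eq_fintype_card).trans (Fintype.card_coe g.support))
      change x ∈ Γᶜ ↔ x ∈ g.support
      simp [Γ]
    rw [this]; exact hp
  have hqtrans : MulAction.IsMultiplyPretransitive G α q := by
    have h := hG.isMultiplyPreprimitive (s := Γ) (n := q - 1) (by omega)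
      (by rw [Nat.card_eq_fintype_card]; omega) hprim
    have h' : MulAction.IsMultiplyPretransitive G α (q - 1 + 2) := inferInstance
    exact MulAction.isMultiplyPretransitive_of_le (n := q - 1 + 2) (by omega)
      (by rw [Nat.card_eq_fintype_card]; omega)
  -- the elements of `G` that preserve the cycle and permute the fixed points in any prescribed way
  have key : ∀ π : Equiv.Perm α, (∀ x, x ∈ g.support → π x = x) →
      ∃ h ∈ G, (∃ a : ℤ, h * g * h⁻¹ = g ^ a) ∧ ∀ x, x ∉ g.support → h x = π x := by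
    intro π hπ
    have hπ' : ∀ x, x ∉ g.support → π x ∉ g.support := fun x hx hc => by
      have h1 := π.injective (hπ _ hc)
      rw [← h1] at hx
      exact hx hc
    let e := (Finset.equivFinOfCardEq (s := g.supportᶜ) (n := q)
      (by rw [Finset.card_compl, hgp]))
    let x₁ : Fin q ↪ α := e.symm.toEmbedding.trans (Function.Embedding.subtype _)
    obtain ⟨h, hh⟩ := MulAction.exists_smul_eq G x₁ (x₁.trans π.toEmbedding)
    have hh' : ∀ x, x ∉ g.support → (h : Equiv.Perm α) x = π x := by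
      intro x hx
      have := DFunLike.congr_fun hh (e ⟨x, Finset.mem_compl.2 hx⟩)
      simpa [x₁, Subgroup.smul_def] using this
    have hinv : ∀ x, x ∉ g.support → (h : Equiv.Perm α)⁻¹ x ∉ g.support := by
      intro x hx hc
      have : π⁻¹ x ∉ g.support := fun hc' => by
        have := hπ _ hc'
        have e : π (π⁻¹ x) = x := π.apply_symm_apply x
        rw [e] at this
        rw [← this] at hc'
        exact hx hc'
      have h2 := hh' _ this
      have e : π (π⁻¹ x) = x := π.apply_symm_apply x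
      have e2 : (h : Equiv.Perm α)⁻¹ ((h : Equiv.Perm α) (π⁻¹ x)) = π⁻¹ x :=
        (h : Equiv.Perm α).symm_apply_apply _
      rw [e] at h2
      rw [h2] at e2
      rw [e2] at hc
      exact this hc
    -- the two Sylow subgroups of the fixator of `Γ`
    set F := fixingSubgroup G Γ with hF
    have hconjF : h * ⟨g, hg⟩ * h⁻¹ ∈ F := by
      rw [hF, mem_fixingSubgroup_iff]
      intro x hx
      change (h : Equiv.Perm α) (g ((h : Equiv.Perm α)⁻¹ x)) = x
      rw [Equiv.Perm.notMem_support.1 (hinv x hx)]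
      exact Equiv.apply_symm_apply _ _
    have hdiv : Nat.card F ∣ p.factorial := by
      let ψ : F →* Equiv.Perm {x // x ∈ g.support} :=
        { toFun := fun f => ((f : G) : Equiv.Perm α).subtypePerm fun x => by
            have hf : ∀ y, y ∉ g.support → ((f : G) : Equiv.Perm α) y = y :=
              (mem_fixingSubgroup_iff G).1 f.2
            refine ⟨fun h1 => ?_, fun h1 => ?_⟩
            · by_contra h2; rw [hf x h2] at h1; exact h2 h1
            · by_contra h2; exact h2 (by
                have := ((f : G) : Equiv.Perm α).injective (hf _ h2)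
                rwa [this] at h2 ⊢)
          map_one' := by ext; rfl
          map_mul' := fun a b => by ext; rfl }
      have hψ : Function.Injective ψ := by
        intro a b hab
        refine Subtype.ext (Subtype.ext (Equiv.ext fun x => ?_))
        by_cases hx : x ∈ g.support
        · exact congrArg (fun σ : Equiv.Perm {x // x ∈ g.support} => (σ ⟨x, hx⟩ : α)) hab
        · exact ((mem_fixingSubgroup_iff G).1 a.2 x hx).trans
            ((mem_fixingSubgroup_iff G).1 b.2 x hx).symm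
      have := Subgroup.card_dvd_of_injective ψ hψ
      rwa [Nat.card_perm, Nat.card_eq_finsetCard, hgp] at this
    have hord : orderOf g = p := by rw [hgc.orderOf, hgp]
    have hfact : (Nat.card F).factorization p = 1 := by
      refine le_antisymm ?_ ?_
      · refine ((Nat.factorization_le_iff_dvd Nat.card_pos.ne' (Nat.factorial_ne_zero p)).2 hdiv p).trans ?_
        obtain ⟨r, hr⟩ : ∃ r, p = r + 1 := ⟨p - 1, by omega⟩
        rw [hr, Nat.factorial_succ, ← hr, Nat.factorization_mul hp.ne_zero (Nat.factorial_ne_zero r)]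
        have hnd : ¬ p ∣ r.factorial := fun h => by
          have := (Nat.Prime.dvd_factorial hp).1 h; omega
        simp [hp.factorization, Nat.factorization_eq_zero_of_not_dvd hnd]
      · refine (Nat.Prime.dvd_iff_one_le_factorization hp Nat.card_pos.ne').1 ?_
        have h1 : orderOf (⟨⟨g, hg⟩, hgfix⟩ : F) = p := by
          rw [← Subgroup.orderOf_coe, ← Subgroup.orderOf_coe]; exact hord
        exact h1 ▸ orderOf_dvd_natCard _
    let a₁ : F := ⟨⟨g, hg⟩, hgfix⟩
    let a₂ : F := ⟨_, hconjF⟩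
    have h1 : orderOf a₁ = p := by
      rw [← Subgroup.orderOf_coe, ← Subgroup.orderOf_coe]; exact hord
    have h2 : orderOf a₂ = p := by
      rw [← Subgroup.orderOf_coe]
      show orderOf (h * ⟨g, hg⟩ * h⁻¹) = p
      rw [← MulAut.conj_apply, MulEquiv.orderOf_eq, ← Subgroup.orderOf_coe]
      exact hord
    let P₁ : Sylow p F := Sylow.ofCard (Subgroup.zpowers a₁)
      (by rw [Nat.card_zpowers, h1, hfact, pow_one])
    let P₂ : Sylow p F := Sylow.ofCard (Subgroup.zpowers a₂)
      (by rw [Nat.card_zpowers, h2, hfact, pow_one])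
    obtain ⟨f, hf⟩ := MulAction.exists_smul_eq F P₂ P₁
    have hmem : f * a₂ * f⁻¹ ∈ Subgroup.zpowers a₁ := by
      have h3 : f * a₂ * f⁻¹ ∈ (f • P₂ : Sylow p F).toSubgroup :=
        Subgroup.smul_mem_pointwise_smul a₂ (MulAut.conj f) _ (Subgroup.mem_zpowers a₂)
      rw [hf] at h3
      exact h3
    obtain ⟨a, ha⟩ := hmem
    refine ⟨(f : G) * h, ((f : G) * h).2, ⟨a, ?_⟩, fun x hx => ?_⟩
    · have h4 := congrArg (fun z : F => ((z : G) : Equiv.Perm α)) ha
      simp only [a₁, a₂, Subgroup.coe_mul, Subgroup.coe_inv, Subgroup.coe_zpow] at h4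
      rw [h4]
      simp [mul_assoc]
    · rw [Equiv.Perm.mul_apply, hh' x hx]
      exact (mem_fixingSubgroup_iff G).1 f.2 _ (hπ' x hx)
  -- three fixed points
  have hΓ3 : 2 < (g.supportᶜ : Finset α).card := by rw [Finset.card_compl, hgp]; omega
  obtain ⟨u, hu, v, hv, w, hw, huv, huw, hvw⟩ := Finset.two_lt_card.1 hΓ3
  rw [Finset.mem_compl] at hu hv hw
  obtain ⟨h₁, hh₁, ⟨a₁, ha₁⟩, hh₁'⟩ := key (Equiv.swap u v)
    (fun x hx => Equiv.swap_apply_of_ne_of_ne (fun h => hu (h ▸ hx)) (fun h => hv (h ▸ hx)))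
  obtain ⟨h₂, hh₂, ⟨a₂, ha₂⟩, hh₂'⟩ := key (Equiv.swap u w)
    (fun x hx => Equiv.swap_apply_of_ne_of_ne (fun h => hu (h ▸ hx)) (fun h => hw (h ▸ hx)))
  set c := (h₂ * h₁)⁻¹ * (h₁ * h₂) with hc
  have hcG : c ∈ G := mul_mem (inv_mem (mul_mem hh₂ hh₁)) (mul_mem hh₁ hh₂)
  have hconj : ∀ (k : Equiv.Perm α) (a : ℤ), k * g * k⁻¹ = g ^ a → ∀ b : ℤ,
      k * g ^ b * k⁻¹ = g ^ (a * b) := fun k a hk b => by
    rw [zpow_mul, ← hk, conj_zpow]
  have hcg : c * g = g * c := by
    have e1 : h₁ * h₂ * g * (h₁ * h₂)⁻¹ = g ^ (a₁ * a₂) := by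
      rw [← hconj h₁ a₁ ha₁ a₂, ← ha₂]; group
    have e2 : h₂ * h₁ * g * (h₂ * h₁)⁻¹ = g ^ (a₂ * a₁) := by
      rw [← hconj h₂ a₂ ha₂ a₁, ← ha₁]; group
    have e3 : h₁ * h₂ * g * (h₁ * h₂)⁻¹ = h₂ * h₁ * g * (h₂ * h₁)⁻¹ := by
      rw [e1, e2, mul_comm a₁ a₂]
    calc c * g = (h₂ * h₁)⁻¹ * (h₁ * h₂ * g * (h₁ * h₂)⁻¹) * (h₁ * h₂) := by rw [hc]; group
      _ = g * c := by rw [e3, hc]; group
  have hsw : ∀ x, x ∉ g.support → ∀ y z, y ∉ g.support → z ∉ g.support →
      Equiv.swap y z x ∉ g.support := by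
    intro x hx y z hy hz
    rw [Equiv.swap_apply_def]; split_ifs <;> assumption
  let σ := (Equiv.swap u w * Equiv.swap u v)⁻¹ * (Equiv.swap u v * Equiv.swap u w)
  have hcΓ : ∀ x, x ∉ g.support → c x = σ x := by
    intro x hx
    have hstep : ∀ y, y ∉ g.support →
        h₁ y = Equiv.swap u v y ∧ h₂ y = Equiv.swap u w y ∧
        h₁⁻¹ y = Equiv.swap u v y ∧ h₂⁻¹ y = Equiv.swap u w y := by
      intro y hy
      refine ⟨hh₁' y hy, hh₂' y hy, ?_, ?_⟩
      · rw [Equiv.Perm.inv_eq_iff_eq, hh₁' _ (hsw y hy u v hu hv), Equiv.swap_apply_self]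
      · rw [Equiv.Perm.inv_eq_iff_eq, hh₂' _ (hsw y hy u w hu hw), Equiv.swap_apply_self]
    simp only [hc, σ, mul_inv_rev, Equiv.swap_inv, Equiv.Perm.mul_apply]
    rw [(hstep x hx).2.1]
    have hy1 := hsw x hx u w hu hw
    rw [(hstep _ hy1).1]
    have hy2 := hsw _ hy1 u v hu hv
    rw [(hstep _ hy2).2.2.2]
    have hy3 := hsw _ hy2 u w hu hw
    rw [(hstep _ hy3).2.2.1]
  -- `c` is a power of `g` on the cycle
  obtain ⟨x₀, hx₀⟩ : g.support.Nonempty := by rw [← Finset.card_pos, hgp]; omega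
  have hcx₀ : c x₀ ∈ g.support := by
    rw [Equiv.Perm.mem_support] at hx₀ ⊢
    intro hfix
    apply hx₀
    apply c.injective
    exact (Equiv.ext_iff.1 hcg x₀).trans hfix
  obtain ⟨i, hi⟩ := hgc.sameCycle (Equiv.Perm.mem_support.1 hx₀) (Equiv.Perm.mem_support.1 hcx₀)
  have hsupp : ∀ x, x ∈ g.support → (g ^ (-i) * c) x = x := by
    intro x hx
    obtain ⟨j, rfl⟩ := hgc.sameCycle (Equiv.Perm.mem_support.1 hx₀) (Equiv.Perm.mem_support.1 hx)
    have hcj : c * g ^ j = g ^ j * c := (Commute.zpow_right hcg j).eq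
    calc (g ^ (-i) * c) ((g ^ j) x₀) = (g ^ (-i) * (c * g ^ j)) x₀ := rfl
      _ = (g ^ (-i) * g ^ j) (c x₀) := by rw [hcj]; rfl
      _ = (g ^ (-i) * g ^ j * g ^ i) x₀ := by rw [← hi]; rfl
      _ = (g ^ j) x₀ := by rw [← zpow_add, ← zpow_add]; congr 2; ring
  have hd : g ^ (-i) * c = σ := by
    ext x
    by_cases hx : x ∈ g.support
    · rw [hsupp x hx]
      simp only [σ, mul_inv_rev, Equiv.swap_inv, Equiv.Perm.mul_apply]
      have hne : ∀ z, z ∉ g.support → x ≠ z := fun z hz h => hz (h ▸ hx)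
      simp only [Equiv.swap_apply_of_ne_of_ne (hne u hu) (hne w hw),
        Equiv.swap_apply_of_ne_of_ne (hne u hu) (hne v hv)]
    · rw [Equiv.Perm.mul_apply, hcΓ x hx]
      have hσx : σ x ∉ g.support := by
        simp only [σ, mul_inv_rev, Equiv.swap_inv, Equiv.Perm.mul_apply]
        exact hsw _ (hsw _ (hsw _ (hsw x hx u w hu hw) u v hu hv) u w hu hw) u v hu hv
      exact Equiv.Perm.notMem_support.1 fun h => hσx (Equiv.Perm.support_zpow_le g (-i) h)
  have hσ : σ.IsThreeCycle := by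
    have e : σ = (Equiv.swap u v * Equiv.swap u w) * (Equiv.swap u v * Equiv.swap u w) := by
      simp [σ, mul_inv_rev, mul_assoc]
    rw [e]
    exact (Equiv.Perm.isThreeCycle_swap_mul_swap_same huv huw hvw).isThreeCycle_sq
  exact Equiv.Perm.alternatingGroup_le_of_isPreprimitive_of_isThreeCycle_mem hG hσ
    (hd ▸ mul_mem (zpow_mem hg _) hcG)

end Cfsg.Agent.S0713
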