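import Cfsg.Statements.S0497
import Cfsg.Agent.Lib.Classif.Order360

set_option autoImplicit false
open Cfsg

namespace Cfsg.Agent.S0497

/-- A simple group of order 360 is isomorphic to the alternating group of degree 6. -/
theorem result {G : Type*} [Group G] [Finite G] [IsSimpleGroup G]
    (h : Nat.card G = 360) : Nonempty (G ≃* alternatingGroup (Fin 6)) := by
  have hG : ¬ IsMulCommutative G := Lib.SmallGroups.Sylow.not_comm_of_card (by rw [h]; norm_num)
  obtain ⟨H, hH⟩ := Lib.Classif.Order360.exists_index_six hG h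
  have hne : H ≠ ⊤ := fun e => by rw [e, Subgroup.index_top] at hH; omega
  obtain ⟨f, hf⟩ := Lib.SmallGroups.Sylow.exists_alt_embedding hG hne hH
  have h2 := two_mul_nat_card_alternatingGroup (α := Fin 6)
  rw [Nat.card_perm, Nat.card_fin, show (6 : ℕ).factorial = 720 from rfl] at h2
  exact ⟨MulEquiv.ofBijective f ((Nat.bijective_iff_injective_and_card f).mpr ⟨hf, by omega⟩)⟩

end Cfsg.Agent.S0497
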