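import Cfsg.Statements.S0944
import Cfsg.Agent.Lib.Characters.Diag

set_option autoImplicit false
open Cfsg

namespace Cfsg.Agent.S0944

/-- Let χ be an irreducible character of the finite group G and u an involution. Then χ u is a rational integer n with n ≡ χ 1 (mod 2). -/
theorem result {G : Type*} [Group G] [Finite G] (χ : Cfsg.IrrCharacter G) (u : G) (hu : orderOf u = 2) : ∃ n : ℤ, (χ : G → ℂ) u = (n : ℂ) ∧ (2 : ℤ) ∣ (Cfsg.charDegree (χ : G → ℂ) : ℤ) - n := by
  classical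
  obtain ⟨n, ρ, -, hρ⟩ := χ.2
  obtain ⟨ι, hι, b, ζ, hζ, hcard, hsum⟩ :=
    Cfsg.Agent.Lib.Characters.Diag.exists_eigenbasis ρ u two_ne_zero
      (by rw [← hu]; exact pow_orderOf_eq_one u)
  have hdeg : Cfsg.charDegree (χ : G → ℂ) = n := by
    rw [Cfsg.charDegree, ← hρ, Representation.char_one, Module.finrank_fin_fun, Complex.natCast_re,
      Nat.floor_natCast]
  have hpm : ∀ i, ζ i = 1 ∨ ζ i = -1 := fun i => sq_eq_one_iff.1 (hζ i).2
  rw [← hρ, hsum, hρ, hdeg]
  refine ⟨∑ i, (if ζ i = 1 then (1 : ℤ) else -1), ?_, ?_⟩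
  · push_cast
    refine Finset.sum_congr rfl fun i _ => ?_
    rcases hpm i with h | h <;> rw [h] <;> norm_num
  · rw [show (n : ℤ) = ∑ _i : ι, (1 : ℤ) by simp [hcard], ← Finset.sum_sub_distrib]
    refine Finset.dvd_sum fun i _ => ?_
    split <;> norm_num

end Cfsg.Agent.S0944
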