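import Cfsg.Statements.S0948
import Cfsg.Agent.S0944
import Cfsg.Agent.S0947
import Cfsg.Agent.Lib.Involutions.KleinSylow

set_option autoImplicit false
open Cfsg

namespace Cfsg.Agent.S0948

open Cfsg.Agent.Lib.Blocks Cfsg.Agent.Lib.Characters.Basic
open Cfsg.Agent.Lib.Involutions.KleinSylow
open scoped ComplexConjugate

variable {G : Type*} [Group G] [Finite G]

theorem centralizer_pPrimeCore {P : Sylow 2 G} (hP : IsKleinFour (P : Subgroup G)) {z : G}
    (hz : z ∈ (P : Subgroup G)) (hz1 : z ≠ 1) :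
    (∃ k : ℕ, (Cfsg.pPrimeCore 2 (Subgroup.centralizer ({z} : Set G))).index = 2 ^ k) ∧
      (Nat.card (Subgroup.centralizer ({z} : Set G))).factorization 2 = 2 := by
  classical
  haveI : IsMulCommutative (P : Subgroup G) := IsKleinFour.isMulCommutative
  have hle : (P : Subgroup G) ≤ Subgroup.centralizer ({z} : Set G) := fun a ha =>
    Subgroup.mem_centralizer_singleton_iff.mpr (setLike_mul_comm ha hz)
  set Q : Sylow 2 (Subgroup.centralizer ({z} : Set G)) := P.subtype hle with hQ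
  have hQmem : ∀ a : Subgroup.centralizer ({z} : Set G),
      a ∈ (Q : Subgroup (Subgroup.centralizer ({z} : Set G))) ↔ (a : G) ∈ (P : Subgroup G) := by
    intro a
    rw [hQ, Sylow.coe_subtype]
    rfl
  have hN : Subgroup.normalizer ((Q : Subgroup (Subgroup.centralizer ({z} : Set G))) : Set (Subgroup.centralizer ({z} : Set G))) ≤
      Subgroup.centralizer ((Q : Subgroup (Subgroup.centralizer ({z} : Set G))) : Set (Subgroup.centralizer ({z} : Set G))) := by
    intro n hn a ha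
    have hnP : ∀ x ∈ (P : Subgroup G), (n : G) * x * (n : G)⁻¹ ∈ (P : Subgroup G) := fun x hx =>
      (hQmem (n * ⟨x, hle hx⟩ * n⁻¹)).mp
        ((Subgroup.mem_normalizer_iff.1 hn ⟨x, hle hx⟩).1 ((hQmem ⟨x, hle hx⟩).mpr hx))
    have hnN : (n : G) ∈ Subgroup.normalizer ((P : Subgroup G) : Set G) := by
      rw [Subgroup.mem_normalizer_iff]
      refine fun x => ⟨hnP x, fun hx => ?_⟩
      have hxH : x ∈ Subgroup.centralizer ({z} : Set G) := by
        have h1 := (Subgroup.centralizer ({z} : Set G)).mul_mem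
          ((Subgroup.centralizer ({z} : Set G)).mul_mem (inv_mem n.2) (hle hx)) n.2
        simpa [mul_assoc] using h1
      exact (hQmem ⟨x, hxH⟩).mp
        ((Subgroup.mem_normalizer_iff.1 hn ⟨x, hxH⟩).2 ((hQmem (n * ⟨x, hxH⟩ * n⁻¹)).mpr hx))
    have haP := (hQmem a).mp ha
    apply Subtype.ext
    show (a : G) * n = n * a
    have hfz : (n : G) * z * (n : G)⁻¹ = z := by
      rw [Subgroup.mem_centralizer_singleton_iff.mp n.2, mul_inv_cancel_right]
    rcases eq_or_ne (a : G) 1 with h1 | h1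
    · rw [h1, one_mul, mul_one]
    rcases eq_or_ne (a : G) z with h2 | h2
    · rw [h2]
      exact (Subgroup.mem_centralizer_singleton_iff.mp n.2).symm
    suffices h : (n : G) * a * (n : G)⁻¹ = a by
      exact (mul_inv_eq_iff_eq_mul.mp h).symm
    set b := (n : G) * a * (n : G)⁻¹ with hb
    by_contra hba
    have hbP := hnP _ haP
    have key : ∀ e, e ∈ (P : Subgroup G) → e ≠ 1 → e ≠ z → e ≠ b → e = z * b := fun e he he1 hez heb =>
      congrArg Subtype.val (IsKleinFour.eq_mul_of_ne_all (x := (⟨z, hz⟩ : (P : Subgroup G)))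
        (y := ⟨b, hbP⟩) (z := ⟨e, he⟩) (by simpa using hz1)
        (by simpa [hb] using h1)
        (fun h => h2 (by
          have h' : z = b := congrArg Subtype.val h
          rw [hb, eq_mul_inv_iff_mul_eq, ← Subgroup.mem_centralizer_singleton_iff.mp n.2] at h'
          exact (mul_left_cancel h').symm))
        (by simpa using he1) (by simpa using hez) (by simpa using heb))
    refine hba (no_swap hP hnN haP rfl ?_).symm
    have hd := hnP _ hbP
    refine (key _ hd (fun h => h1 ?_) (fun h => h2 ?_) (fun h => hba ?_)).trans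
      (key (a : G) haP h1 h2 (Ne.symm hba)).symm
    · simpa [hb] using h
    · have h' : (n : G) * b * (n : G)⁻¹ = n * z * (n : G)⁻¹ := h.trans hfz.symm
      have h'' : b = (n : G) * z * (n : G)⁻¹ :=
        (mul_left_cancel (mul_right_cancel h')).trans hfz.symm
      exact mul_left_cancel (mul_right_cancel h'')
    · exact mul_left_cancel (mul_right_cancel h)
  have hc := MonoidHom.ker_transferSylow_isComplement' Q hN
  set N := (MonoidHom.transferSylow Q hN).ker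
  have h4 : Nat.card (P : Subgroup G) = 4 := hP.card_four
  have hQ4 : Nat.card (Q : Subgroup (Subgroup.centralizer ({z} : Set G))) = 4 := by
    rw [hQ, Sylow.coe_subtype, Nat.card_congr (Subgroup.subgroupOfEquivOfLe hle).toEquiv, h4]
  have hidx : N.index = 2 ^ 2 := by rw [hc.symm.index_eq_card, hQ4]; norm_num
  have hodd : ¬ 2 ∣ Nat.card N := by
    rw [← hc.index_eq_card]
    exact Q.not_dvd_index
  refine ⟨?_, ?_⟩
  · have hle' : N ≤ Cfsg.pPrimeCore 2 (Subgroup.centralizer ({z} : Set G)) :=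
      Lib.Cores.le_pPrimeCore_of_not_dvd hodd
    obtain ⟨k, -, hk⟩ := (Nat.dvd_prime_pow Nat.prime_two).mp (hidx ▸ Subgroup.index_dvd_of_le hle')
    exact ⟨k, hk⟩
  · rw [← N.card_mul_index, hidx, Nat.factorization_mul Nat.card_pos.ne' (by norm_num),
      Finsupp.add_apply, Nat.factorization_eq_zero_of_not_dvd hodd,
      Nat.prime_two.factorization_pow, Finsupp.single_eq_same, zero_add]

/-- An irreducible character at an involution of the fused Klein four Sylow subgroup is congruent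
to its degree modulo four. -/
theorem four_dvd {P : Sylow 2 G} (hP : IsKleinFour (P : Subgroup G))
    (hone : ∀ s t : G, orderOf s = 2 → orderOf t = 2 → IsConj s t) (χ : Cfsg.IrrCharacter G)
    {z : G} (hz : orderOf z = 2) {n : ℤ} (hn : (χ : G → ℂ) z = (n : ℂ)) :
    (4 : ℤ) ∣ (Cfsg.charDegree (χ : G → ℂ) : ℤ) - n := by
  classical
  haveI := Fintype.ofFinite (P : Subgroup G)
  obtain ⟨d, ρ, -, hρ⟩ := χ.2
  have hres : Cfsg.IsCharacter (P : Subgroup G) (fun a : (P : Subgroup G) => (χ : G → ℂ) a) :=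
    ⟨d, ρ.comp (P : Subgroup G).subtype, by rw [← hρ]; rfl⟩
  obtain ⟨m, hm⟩ := exists_classInner_nat hres (isCharacter_irr (oneChar (P : Subgroup G)))
  rw [Cfsg.classInner, hP.card_four] at hm
  have hsum : ∑ a : (P : Subgroup G), (χ : G → ℂ) a * conj ((oneChar (P : Subgroup G) : _ → ℂ) a) =
      (χ : G → ℂ) 1 + 3 * n := by
    rw [← Finset.add_sum_erase _ _ (Finset.mem_univ (1 : (P : Subgroup G)))]
    have h1 : ∀ a : (P : Subgroup G), conj ((oneChar (P : Subgroup G) : _ → ℂ) a) = 1 := fun a =>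
      map_one _
    simp only [h1, mul_one, OneMemClass.coe_one]
    congr 1
    rw [Finset.sum_congr rfl (g := fun _ => (n : ℂ)) fun a ha => ?_, Finset.sum_const,
      Finset.card_erase_of_mem (Finset.mem_univ _), Finset.card_univ, ← Nat.card_eq_fintype_card,
      hP.card_four]
    · simp
    · have ha1 : (a : G) ≠ 1 := fun h => (Finset.mem_erase.mp ha).1 (Subtype.ext h)
      rw [← hn]
      exact char_eq_of_isConj χ (hone _ _ (orderOf_mem hP a.2 ha1) hz)
  rw [hsum, (char_one_eq_degree χ)] at hm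
  refine ⟨(m : ℤ) - n, ?_⟩
  have : ((Cfsg.charDegree (χ : G → ℂ) : ℤ) : ℂ) = ((4 * (m : ℤ) - 3 * n : ℤ) : ℂ) := by
    push_cast at hm ⊢
    field_simp at hm
    linear_combination hm
  rw [Int.cast_inj.mp this]
  ring

/-- Let the finite group G have a Sylow 2-subgroup P that is a Klein four-group, suppose all involutions of G are conjugate, and fix a maximal ideal M of the algebraic integers containing 2. Then the principal block consists of exactly four irreducible characters, the principal character and ζ₂, ζ₃, ζ₄, and there is a sign ε such that for every involution z: ζ₂ z = 1, ζ₃ z = ε, ζ₄ z = -1; moreover ζ₂ 1 ≡ 1, ζ₃ 1 ≡ ε, ζ₄ 1 ≡ -1 (mod 4), and 1 + ζ₂ y + ε ζ₃ y - ζ₄ y = 0 for every y of odd order. -/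
theorem result {G : Type*} [Group G] [Finite G] (M : Ideal Cfsg.AlgInt) (hM : Cfsg.IsPModular 2 M) (P : Sylow 2 G) (hP : IsKleinFour (P : Subgroup G)) (hone : ∀ s t : G, orderOf s = 2 → orderOf t = 2 → IsConj s t) : ∃ ζ₂ ζ₃ ζ₄ : Cfsg.IrrCharacter G, ∃ ε : ℤ, (ε = 1 ∨ ε = -1) ∧ (ζ₂ : G → ℂ) ≠ (fun _ => 1) ∧ (ζ₃ : G → ℂ) ≠ (fun _ => 1) ∧ ζ₂ ≠ ζ₃ ∧ ζ₂ ≠ ζ₄ ∧ ζ₃ ≠ ζ₄ ∧ Cfsg.principalBlock M G = {χ : Cfsg.IrrCharacter G | (χ : G → ℂ) = (fun _ => 1) ∨ χ = ζ₂ ∨ χ = ζ₃ ∨ χ = ζ₄} ∧ (∀ z : G, orderOf z = 2 → (ζ₂ : G → ℂ) z = 1 ∧ (ζ₃ : G → ℂ) z = (ε : ℂ) ∧ (ζ₄ : G → ℂ) z = -1) ∧ (4 : ℤ) ∣ (Cfsg.charDegree (ζ₂ : G → ℂ) : ℤ) - 1 ∧ (4 : ℤ) ∣ (Cfsg.charDegree (ζ₃ : G → ℂ) : ℤ) - ε ∧ (4 : ℤ) ∣ (Cfsg.charDegree (ζ₄ : G → ℂ) : ℤ) + 1 ∧ ∀ y : G, Odd (orderOf y) → 1 + (ζ₂ : G → ℂ) y + (ε : ℂ) * (ζ₃ : G → ℂ) y - (ζ₄ : G → ℂ) y = 0 := by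
  classical
  haveI := hM.2.1
  haveI : Fact (Nat.Prime 2) := ⟨Nat.prime_two⟩
  haveI := Fintype.ofFinite G
  haveI := Fintype.ofFinite (Cfsg.IrrCharacter G)
  haveI : Nontrivial (P : Subgroup G) := Finite.one_lt_card_iff_nontrivial.mp (by
    rw [hP.card_four]; norm_num)
  obtain ⟨⟨z, hzP⟩, hz1'⟩ := exists_ne (1 : (P : Subgroup G))
  have hz1 : z ≠ 1 := fun h => hz1' (Subtype.ext h)
  have hz : orderOf z = 2 := orderOf_mem hP hzP hz1
  obtain ⟨hidx, hfac⟩ := centralizer_pPrimeCore hP hzP hz1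
  have h47 := (S0947.result 2 M hM z ⟨1, by rw [hz, pow_one]⟩ hz1 1
    (by simp)).2 hidx
  rw [hfac, OneMemClass.coe_one, mul_one] at h47
  have hint : ∀ χ : Cfsg.IrrCharacter G, ∃ n : ℤ, (χ : G → ℂ) z = (n : ℂ) := fun χ => by
    obtain ⟨n, hn, -⟩ := S0944.result χ z hz
    exact ⟨n, hn⟩
  choose v hv using hint
  set s := (Set.toFinite (Cfsg.principalBlock M G)).toFinset with hs
  have hmem : ∀ χ, χ ∈ s ↔ χ ∈ Cfsg.principalBlock M G := fun χ => Set.Finite.mem_toFinset _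
  have hsum : ∑ χ ∈ s, v χ ^ 2 = 4 := by
    rw [finsum_mem_eq_finite_toFinset_sum _ (Set.toFinite _)] at h47
    have h' : ((∑ χ ∈ s, v χ ^ 2 : ℤ) : ℝ) = ((4 : ℤ) : ℝ) := by
      push_cast
      refine Eq.trans (Finset.sum_congr rfl fun χ _ => ?_) (h47.trans (by norm_num))
      rw [hv, Complex.norm_intCast, sq_abs]
    exact_mod_cast h'
  have hnz : ∀ χ ∈ s, v χ ≠ 0 := by
    intro χ hχ h0
    have h1 := (hmem χ).mp hχ z
    have hidx2 : ¬ 2 ∣ (Subgroup.centralizer ({z} : Set G)).index := by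
      haveI : IsMulCommutative (P : Subgroup G) := IsKleinFour.isMulCommutative
      intro hd
      exact P.not_dvd_index (hd.trans (Subgroup.index_dvd_of_le fun a ha =>
        Subgroup.mem_centralizer_singleton_iff.mpr (setLike_mul_comm ha hzP)))
    simp only [Cfsg.centralChar, hv, h0, Int.cast_zero, zero_div, mul_zero, sub_zero, mul_one,
      div_one] at h1
    exact hidx2 ((memLocalIdeal_natCast_iff hM _).mp h1)
  have h1s : oneChar G ∈ s := (hmem _).mpr oneChar_mem_principalBlock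
  have hv1 : v (oneChar G) = 1 := by
    have h := hv (oneChar G)
    have h' : ((v (oneChar G) : ℤ) : ℂ) = ((1 : ℤ) : ℂ) := by rw [← h]; simp; rfl
    exact_mod_cast h'
  set t := s.erase (oneChar G) with ht
  have hsumt : ∑ χ ∈ t, v χ ^ 2 = 3 := by
    have := Finset.add_sum_erase s (fun χ => v χ ^ 2) h1s
    rw [hsum, hv1] at this
    rw [ht]
    omega
  have hpm : ∀ χ ∈ t, v χ = 1 ∨ v χ = -1 := by
    intro χ hχ
    have h1 : v χ ^ 2 ≤ 3 := hsumt ▸ Finset.single_le_sum (fun θ _ => sq_nonneg (v θ)) hχ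
    have h2 : -2 < v χ ∧ v χ < 2 := ⟨by nlinarith, by nlinarith⟩
    have h3 := hnz χ (Finset.mem_of_mem_erase hχ)
    omega
  have hcard : t.card = 3 := by
    have : ∑ χ ∈ t, v χ ^ 2 = ∑ χ ∈ t, (1 : ℤ) := Finset.sum_congr rfl fun χ hχ => by
      rcases hpm χ hχ with h | h <;> rw [h] <;> norm_num
    rw [hsumt, Finset.sum_const, nsmul_one] at this
    exact_mod_cast this.symm
  have horth : ∀ y : G, ¬ 2 ∣ orderOf y →
      (1 : ℂ) + ∑ χ ∈ t, (v χ : ℂ) * (χ : G → ℂ) y = 0 := by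
    intro y hy
    have h := weak_orthogonality hM (isPBlock_principalBlock (M := M) (G := G)) hy
      (show 2 ∣ orderOf z by rw [hz])
    rw [finsum_mem_eq_finite_toFinset_sum _ (Set.toFinite _), ← hs,
      ← Finset.add_sum_erase s _ h1s, ← ht] at h
    refine Eq.trans (congrArg₂ (· + ·) ?_ (Finset.sum_congr rfl fun χ _ => ?_)) h
    · show (1 : ℂ) = 1 * conj (1 : ℂ)
      simp
    · rw [hv, map_intCast]
      ring
  have hdeg : (1 : ℤ) + ∑ χ ∈ t, v χ * (Cfsg.charDegree (χ : G → ℂ) : ℤ) = 0 := by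
    have h := horth 1 (by simp)
    simp only [char_one_eq_degree] at h
    exact_mod_cast h
  have hdpos : ∀ χ : Cfsg.IrrCharacter G, 0 < (Cfsg.charDegree (χ : G → ℂ) : ℤ) := fun χ => by
    exact_mod_cast charDegree_pos χ
  obtain ⟨ζ₄, h4t, h4⟩ : ∃ χ ∈ t, v χ = -1 := by
    by_contra hne
    push Not at hne
    have : 0 ≤ ∑ χ ∈ t, v χ * (Cfsg.charDegree (χ : G → ℂ) : ℤ) := Finset.sum_nonneg fun χ hχ => by
      rw [(hpm χ hχ).resolve_right (hne χ hχ), one_mul]
      exact (hdpos χ).le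
    omega
  obtain ⟨ζ₂, h2t, h2⟩ : ∃ χ ∈ t, v χ = 1 := by
    by_contra hne
    push Not at hne
    have hall : ∀ χ ∈ t, v χ * (Cfsg.charDegree (χ : G → ℂ) : ℤ) ≤ -1 := fun χ hχ => by
      rw [(hpm χ hχ).resolve_left (hne χ hχ)]
      linarith [hdpos χ]
    have h' := Finset.sum_le_card_nsmul t _ (-1) hall
    rw [hcard] at h'
    norm_num at h'
    omega
  have h24 : ζ₂ ≠ ζ₄ := fun h => by rw [h, h4] at h2; norm_num at h2
  obtain ⟨ζ₃, h3⟩ : ∃ χ, (t.erase ζ₄).erase ζ₂ = {χ} := by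
    rw [← Finset.card_eq_one, Finset.card_erase_of_mem (Finset.mem_erase.mpr ⟨h24, h2t⟩),
      Finset.card_erase_of_mem h4t, hcard]
  have h3m : ζ₃ ∈ (t.erase ζ₄).erase ζ₂ := by rw [h3]; exact Finset.mem_singleton_self _
  simp only [Finset.mem_erase] at h3m
  obtain ⟨h32, h34, h3t⟩ := h3m
  have ht' : ∀ f : Cfsg.IrrCharacter G → ℂ, ∑ χ ∈ t, f χ = f ζ₄ + (f ζ₂ + f ζ₃) := fun f => by
    rw [← Finset.add_sum_erase t f h4t,
      ← Finset.add_sum_erase (t.erase ζ₄) f (Finset.mem_erase.mpr ⟨h24, h2t⟩), h3,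
      Finset.sum_singleton]
  have hone' : ∀ χ ∈ t, (χ : G → ℂ) ≠ (fun _ => 1) := fun χ hχ h =>
    (Finset.mem_erase.mp hχ).1 (Subtype.ext h)
  have hval : ∀ χ : Cfsg.IrrCharacter G, ∀ w : G, orderOf w = 2 → (χ : G → ℂ) w = (v χ : ℂ) :=
    fun χ w hw => by rw [← hv]; exact char_eq_of_isConj χ (hone _ _ hw hz)
  refine ⟨ζ₂, ζ₃, ζ₄, v ζ₃, hpm ζ₃ h3t, hone' _ h2t, hone' _ h3t, h32.symm, h24, h34, ?_,
    fun w hw => ⟨by rw [hval _ w hw, h2, Int.cast_one], hval _ w hw,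
      by rw [hval _ w hw, h4, Int.cast_neg, Int.cast_one]⟩, ?_, ?_, ?_, fun y hy => ?_⟩
  · ext χ
    rw [← hmem]
    show χ ∈ s ↔ (χ : G → ℂ) = (fun _ => 1) ∨ χ = ζ₂ ∨ χ = ζ₃ ∨ χ = ζ₄
    constructor
    · intro hχ
      rcases eq_or_ne χ (oneChar G) with rfl | hne
      · exact Or.inl rfl
      rcases eq_or_ne χ ζ₄ with rfl | h4'
      · exact Or.inr (Or.inr (Or.inr rfl))
      rcases eq_or_ne χ ζ₂ with rfl | h2'
      · exact Or.inr (Or.inl rfl)
      have hm3 : χ ∈ ({ζ₃} : Finset (Cfsg.IrrCharacter G)) := by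
        rw [← h3]
        simp only [Finset.mem_erase]
        exact ⟨h2', h4', by rw [ht]; exact Finset.mem_erase.mpr ⟨hne, hχ⟩⟩
      exact Or.inr (Or.inr (Or.inl (Finset.mem_singleton.mp hm3)))
    · rintro (h | rfl | rfl | rfl)
      · rw [show χ = oneChar G from Subtype.ext h]; exact h1s
      · exact Finset.mem_of_mem_erase h2t
      · exact Finset.mem_of_mem_erase h3t
      · exact Finset.mem_of_mem_erase h4t
  · simpa [h2] using four_dvd hP hone ζ₂ hz (hv ζ₂)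
  · exact four_dvd hP hone ζ₃ hz (hv ζ₃)
  · simpa [h4] using four_dvd hP hone ζ₄ hz (hv ζ₄)
  · have h := horth y (by rwa [← even_iff_two_dvd, Nat.not_even_iff_odd])
    rw [ht', h2, h4] at h
    push_cast at h
    linear_combination h

end Cfsg.Agent.S0948
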