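import Cfsg.Statements.S0992
import Cfsg.Agent.Lib.SmallGroups.Counting

set_option autoImplicit false
open Cfsg

namespace Cfsg.Agent.S0992

open Cfsg.Agent.Lib.SmallGroups.Sylow in
theorem aux {G : Type*} [Group G] [Finite G] [IsSimpleGroup G] (hG : ¬ IsMulCommutative G)
    (h2 : Even (Nat.card G)) (h8 : ¬ 8 ∣ Nat.card G) (T : Sylow 2 G) :
    Nat.card ↥(T : Subgroup G) = 4 ∧ ¬ IsCyclic ↥(T : Subgroup G) := by
  have hmin : (Nat.card G).minFac = 2 := (Nat.minFac_eq_two_iff _).mpr h2.two_dvd
  have hnc : ¬ IsCyclic ↥(T : Subgroup G) := by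
    intro hc
    refine not_normalizer_le_centralizer hG T ?_ (IsCyclic.normalizer_le_centralizer hmin hc)
    exact T.ne_bot_of_dvd_card h2.two_dvd
  refine ⟨?_, hnc⟩
  obtain ⟨n, hn⟩ := T.2.exists_card_eq
  have hn3 : n < 3 := by
    by_contra hlt
    exact h8 ((Nat.pow_dvd_pow 2 (not_lt.mp hlt)).trans (hn ▸ Subgroup.card_subgroup_dvd_card _))
  interval_cases n
  · exact absurd h2.two_dvd (fun h => by
      have := T.dvd_card_of_dvd_card h; rw [hn] at this; norm_num at this)
  · exact absurd (isCyclic_of_prime_card (p := 2) (by simpa using hn)) hnc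
  · simpa using hn


/-- Let G be a non-abelian finite simple group of even order not divisible by 8, and T a Sylow 2-subgroup. Then T is a Klein four-group and the centralizer of T has index 3 in the normalizer of T. -/
theorem result {G : Type*} [Group G] [Finite G] [IsSimpleGroup G] (hG : ¬ IsMulCommutative G) (h2 : Even (Nat.card G)) (h8 : ¬ 8 ∣ Nat.card G) (T : Sylow 2 G) : IsKleinFour ↥(T : Subgroup G) ∧ (Subgroup.centralizer ((T : Subgroup G) : Set G)).relIndex (Subgroup.normalizer ((T : Subgroup G) : Set G)) = 3 := by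
  obtain ⟨h4, hnc⟩ := aux hG h2 h8 T
  have hexp : Monoid.exponent ↥(T : Subgroup G) = 2 := by
    have hd : Monoid.exponent ↥(T : Subgroup G) ∣ 2 ^ 2 := by
      simpa [h4] using Group.exponent_dvd_nat_card (G := ↥(T : Subgroup G))
    obtain ⟨i, hi, he⟩ := (Nat.dvd_prime_pow Nat.prime_two).mp hd
    have := IsPGroup.isMulCommutative_of_card_eq_prime_sq (p := 2) (G := ↥(T : Subgroup G))
      (by simpa using h4)
    interval_cases i
    · exfalso
      have hs : Subsingleton ↥(T : Subgroup G) := Monoid.exp_eq_one_iff.mp he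
      have := Nat.card_of_subsingleton (1 : ↥(T : Subgroup G))
      omega
    · simpa using he
    · exfalso
      open scoped IsMulCommutative in
      exact hnc (IsCyclic.of_exponent_eq_card (by rw [he, h4]; norm_num))
  have hK : IsKleinFour ↥(T : Subgroup G) := { card_four := h4, exponent_two := hexp }
  refine ⟨hK, ?_⟩
  set r := (Subgroup.centralizer ((T : Subgroup G) : Set G)).relIndex
    (Subgroup.normalizer ((T : Subgroup G) : Set G)) with hr
  have hmul := Lib.SmallGroups.Sylow.card_centralizer_mul_relIndex (T : Subgroup G)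
  have hodd : ¬ 2 ∣ r := by
    intro hd
    have hcomm := Lib.SmallGroups.Counting.comm_of_card_sq (p := 2) (H := (T : Subgroup G))
      (by simpa using h4)
    have h4d := Subgroup.card_dvd_of_le hcomm
    rw [h4] at h4d
    apply h8
    refine dvd_trans ?_ (Subgroup.card_subgroup_dvd_card
      (Subgroup.normalizer ((T : Subgroup G) : Set G)))
    rw [← hmul]
    exact Nat.mul_dvd_mul h4d hd
  have haut : r ∣ 6 := by
    refine (Lib.SmallGroups.Sylow.relIndex_dvd_card_mulAut (T : Subgroup G)).trans ?_
    refine (Lib.SmallGroups.Counting.card_mulAut_dvd_factorial _).trans ?_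
    rw [h4]
    decide
  have hne : r ≠ 1 := fun h1 =>
    Lib.SmallGroups.Sylow.not_normalizer_le_centralizer hG T
      (T.ne_bot_of_dvd_card h2.two_dvd) (Subgroup.relIndex_eq_one.mp h1)
  have hle6 := Nat.le_of_dvd (by norm_num) haut
  interval_cases r <;> omega

end Cfsg.Agent.S0992
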