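import Cfsg.Statements.S2261
import Cfsg.Agent.Lib.LinearOrders.Basic
import Cfsg.Agent.Lib.Linear.Order

set_option autoImplicit false
open Cfsg

namespace Cfsg.Agent.S2261

/-- Let F be a finite field with q elements and d ≥ 1. Then every element of PGL_d(F) = GL_d(F)/Z has order at most (q^d − 1)/(q − 1), and some element (the image of a Singer cycle) has exactly this order. -/
theorem result {F : Type*} [Field F] [Fintype F] (d : ℕ) (hd : 1 ≤ d) :
    (∀ g : (GL (Fin d) F ⧸ Subgroup.center (GL (Fin d) F)), (Fintype.card F - 1) * orderOf g ≤ Fintype.card F ^ d - 1) ∧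
    (∃ g : (GL (Fin d) F ⧸ Subgroup.center (GL (Fin d) F)), (Fintype.card F - 1) * orderOf g = Fintype.card F ^ d - 1) := by
  have : Nonempty (Fin d) := ⟨⟨0, hd⟩⟩
  classical
  set Z := Subgroup.center (GL (Fin d) F) with hZ
  have hZc : Nat.card Z = Fintype.card F - 1 := by
    rw [hZ, Lib.Linear.card_center_GL, Nat.card_units, Nat.card_eq_fintype_card]
  have hub : ∀ g : GL (Fin d) F ⧸ Z, (Fintype.card F - 1) * orderOf g ≤ Fintype.card F ^ d - 1 := by
    intro x
    obtain ⟨g, rfl⟩ := QuotientGroup.mk'_surjective Z x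
    set k := orderOf (QuotientGroup.mk' Z g) with hk
    set A := (g : Matrix (Fin d) (Fin d) F) with hA
    set R := Algebra.adjoin F ({A} : Set (Matrix (Fin d) (Fin d) F)) with hR
    have hAR : A ∈ R := Algebra.subset_adjoin (Set.mem_singleton A)
    clear_value R
    have hsurj : ∀ y ∈ R, ∃ v : Fin d → F, ∑ i, v i • A ^ (i : ℕ) = y := by
      intro y hy
      rw [hR, Algebra.adjoin_singleton_eq_range_aeval] at hy
      obtain ⟨f, rfl⟩ := hy
      refine ⟨fun i => (f %ₘ A.charpoly).coeff i, ?_⟩
      have h1 : Polynomial.aeval A f = Polynomial.aeval A (f %ₘ A.charpoly) := by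
        conv_lhs => rw [← Polynomial.modByMonic_add_div f A.charpoly]
        rw [map_add, map_mul, Matrix.aeval_self_charpoly, zero_mul, add_zero]
      have hdeg : (f %ₘ A.charpoly).natDegree < d := by
        rcases eq_or_ne (f %ₘ A.charpoly) 0 with h | h
        · rw [h, Polynomial.natDegree_zero]; omega
        · have := Polynomial.natDegree_lt_natDegree h
            (Polynomial.degree_modByMonic_lt f A.charpoly_monic)
          rwa [Matrix.charpoly_natDegree_eq_dim, Fintype.card_fin] at this
      change _ = Polynomial.aeval A f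
      rw [h1, Polynomial.aeval_eq_sum_range' hdeg, Finset.sum_range]
    have hmem : ∀ (i : ℕ) (c : Z),
        (((g ^ i * (c : GL (Fin d) F)) : GL (Fin d) F) : Matrix (Fin d) (Fin d) F) ∈ R := by
      rintro i ⟨c, hc⟩
      rw [hZ, Matrix.GeneralLinearGroup.center_eq_range_scalar] at hc
      obtain ⟨u, rfl⟩ := hc
      simp only [Units.val_mul, Units.val_pow_eq_pow_val, Matrix.GeneralLinearGroup.coe_scalar, Matrix.scalar_apply]
      refine mul_mem (pow_mem hAR i) ?_
      have hsc := R.algebraMap_mem (u : F)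
      rw [Matrix.algebraMap_eq_diagonal] at hsc
      exact hsc
    choose v hv using fun (x : Fin k × Z) => hsurj _ (hmem x.1 x.2)
    let ι : Fin k × Z → {w : Fin d → F // w ≠ 0} := fun x => ⟨v x, fun h0 => by
      have := hv x
      rw [h0] at this
      simp only [Pi.zero_apply, zero_smul, Finset.sum_const_zero] at this
      exact (Units.ne_zero (g ^ (x.1 : ℕ) * (x.2 : GL (Fin d) F))) this.symm⟩
    have hι : Function.Injective ι := by
      rintro ⟨i, c⟩ ⟨j, c'⟩ hab
      have h1 := hv (i, c)
      have h2 := hv (j, c')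
      have h3 : v (i, c) = v (j, c') := congrArg Subtype.val hab
      rw [h3, h2] at h1
      have h4 := congrArg (QuotientGroup.mk' Z) (Units.ext h1 : g ^ (j : ℕ) * (c' : GL (Fin d) F) = g ^ (i : ℕ) * (c : GL (Fin d) F))
      have hz : ∀ z : Z, QuotientGroup.mk' Z (z : GL (Fin d) F) = 1 := fun z => by
        rw [← MonoidHom.mem_ker, QuotientGroup.ker_mk']; exact z.2
      rw [map_mul, map_mul, map_pow, map_pow, hz, hz, mul_one, mul_one] at h4
      have hij : j = i := Fin.ext (pow_injOn_Iio_orderOf j.2 i.2 h4)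
      subst hij
      have h5 := mul_left_cancel (Units.ext h1 : g ^ (j : ℕ) * (c' : GL (Fin d) F) = g ^ (j : ℕ) * (c : GL (Fin d) F))
      exact Prod.ext rfl (Subtype.ext h5.symm)
    have h4 := Nat.card_le_card_of_injective ι hι
    have h5 : Nat.card {w : Fin d → F // w ≠ 0} = Fintype.card F ^ d - 1 := by
      rw [Nat.card_eq_fintype_card, Fintype.card_subtype_compl, Fintype.card_subtype_eq]
      simp
    rw [Nat.card_prod, Nat.card_fin, hZc, h5] at h4
    rw [mul_comm]
    exact h4
  refine ⟨hub, ?_⟩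
  obtain ⟨g, hg⟩ := Lib.LinearOrders.exists_orderOf_eq_pow_sub_one (F := F) hd le_rfl
  refine ⟨QuotientGroup.mk' Z g, le_antisymm (hub _) ?_⟩
  set k := orderOf (QuotientGroup.mk' Z g)
  have hk : g ^ k ∈ Z := by
    rw [← QuotientGroup.eq_one_iff, QuotientGroup.mk_pow]
    exact pow_orderOf_eq_one (QuotientGroup.mk' Z g)
  have h1 : g ^ (k * (Fintype.card F - 1)) = 1 := by
    rw [pow_mul, ← hZc]
    exact congrArg Subtype.val (pow_card_eq_one' (x := (⟨_, hk⟩ : Z)))
  have hpos : 0 < k * (Fintype.card F - 1) :=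
    Nat.mul_pos (orderOf_pos _) (by have := Fintype.one_lt_card (α := F); omega)
  rw [← hg, mul_comm]
  exact Nat.le_of_dvd hpos (orderOf_dvd_of_pow_eq_one h1)

end Cfsg.Agent.S2261
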