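import Cfsg.Statements.S4483
import Cfsg.Agent.Lib.BC77.RealBlock
import Cfsg.Agent.Lib.Blocks.DefectGroup
-- import your own Cfsg.Agent.* helpers here

set_option autoImplicit false
open Cfsg

namespace Cfsg.Agent.S4483

/-- Let G be a finite group of order 2^n·g₀ with g₀ odd, and M a maximal ideal of the algebraic integers containing 2. Every real-valued irreducible character of G of odd degree lies in the principal 2-block; consequently G has at most 2^(2n) real-valued irreducible characters of odd degree. -/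
theorem result {G : Type*} [Group G] [Finite G] (M : Ideal Cfsg.AlgInt) (hM : Cfsg.IsPModular 2 M) : (∀ χ : Cfsg.IrrCharacter G, (∀ g : G, ((χ : G → ℂ) g).im = 0) → Odd (Cfsg.charDegree (χ : G → ℂ)) → χ ∈ Cfsg.principalBlock M G) ∧ Nat.card {χ : Cfsg.IrrCharacter G // (∀ g : G, ((χ : G → ℂ) g).im = 0) ∧ Odd (Cfsg.charDegree (χ : G → ℂ))} ≤ 2 ^ (2 * (Nat.card G).factorization 2) := by
  classical
  haveI := hM.2.1
  haveI : Fact (Nat.Prime 2) := ⟨Nat.prime_two⟩
  have h1 : ∀ χ : Cfsg.IrrCharacter G, (∀ g : G, ((χ : G → ℂ) g).im = 0) →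
      Odd (Cfsg.charDegree (χ : G → ℂ)) → χ ∈ Cfsg.principalBlock M G := by
    intro χ hreal hodd
    have hB : Cfsg.IsPBlock M (Cfsg.blockOf M (χ : G → ℂ)) := ⟨χ, rfl⟩
    have hmem := Lib.Blocks.mem_blockOf_self (M := M) χ
    obtain ⟨D, hD⟩ := Lib.Blocks.exists_isDefectGroup (p := 2) hB
    have hd : Cfsg.blockDefect 2 (Cfsg.blockOf M (χ : G → ℂ)) = (Nat.card G).factorization 2 := by
      have h0 : (Cfsg.charDegree (χ : G → ℂ)).factorization 2 = 0 :=
        Nat.factorization_eq_zero_of_not_dvd (Nat.two_dvd_ne_zero.mpr (Nat.odd_iff.mp hodd))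
      have hle : sInf ((fun ψ : Cfsg.IrrCharacter G =>
          (Cfsg.charDegree (ψ : G → ℂ)).factorization 2) '' Cfsg.blockOf M (χ : G → ℂ)) ≤ 0 :=
        Nat.sInf_le ⟨χ, hmem, h0⟩
      rw [Cfsg.blockDefect, Nat.le_zero.mp hle, Nat.sub_zero]
    have hcard : Nat.card D = 2 ^ (Nat.card G).factorization 2 := by
      rw [Lib.Blocks.card_isDefectGroup hM hB hD, hd]
    have he := Lib.BC77.RealBlock.eq_principal_of_self_conj hM hB (Sylow.ofCard D hcard)
      (by simpa using hD)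
      ⟨χ, hmem, by rw [(Lib.Characters.Indicator.conjChar_eq_self_iff χ).mpr hreal]; exact hmem⟩
    exact he ▸ hmem
  refine ⟨h1, ?_⟩
  have hB0 : Cfsg.IsPBlock M (Cfsg.principalBlock M G) := Lib.Blocks.isPBlock_principalBlock
  have hle : Nat.card {χ : Cfsg.IrrCharacter G // (∀ g : G, ((χ : G → ℂ) g).im = 0) ∧
      Odd (Cfsg.charDegree (χ : G → ℂ))} ≤ Nat.card (Cfsg.principalBlock M G) :=
    Nat.card_le_card_of_injective
      (fun χ => (⟨χ.1, h1 χ.1 χ.2.1 χ.2.2⟩ : Cfsg.principalBlock M G))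
      (fun a b h => Subtype.ext (congrArg (fun x : Cfsg.principalBlock M G => x.1) h))
  have hb := Lib.Blocks.Contrib.four_mul_card_le (p := 2) hM hB0
  have hp : 2 ^ (2 * Cfsg.blockDefect 2 (Cfsg.principalBlock M G)) ≤
      2 ^ (2 * (Nat.card G).factorization 2) :=
    Nat.pow_le_pow_right (by norm_num) (Nat.mul_le_mul_left 2 (Nat.sub_le _ _))
  have hone : 1 ≤ 2 ^ (2 * (Nat.card G).factorization 2) := Nat.one_le_two_pow
  omega

end Cfsg.Agent.S4483
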