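import Cfsg.Statements.S4588
import Cfsg.Agent.Lib.BC78.SmallCentralPrime
import Cfsg.Agent.Lib.Blocks.Induced
import Cfsg.Agent.Lib.BrauerMap.PrincipalSection

set_option autoImplicit false
open Cfsg
open Cfsg.Agent.Lib.Blocks Cfsg.Agent.Lib.BC78

namespace Cfsg.Agent.S4588

universe u

theorem aux {G : Type u} [Group G] [Fintype G] {p : ℕ} [Fact p.Prime] {M : Ideal Cfsg.AlgInt}
    [M.IsMaximal] (hM : Cfsg.IsPModular p M) {x : G} {a : ℕ} (ha : orderOf x = p ^ a)
    (hv : (Nat.card (Subgroup.centralizer ({x} : Set G))).factorization p ≤ 2)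
    (hc : (Nat.card (Subgroup.centralizer ({x} : Set G))).factorization p ≤ a + 1) :
    Nat.card {χ : Cfsg.IrrCharacter G // χ ∈ Cfsg.principalBlock M G ∧
      ¬ p ∣ Cfsg.charDegree (χ : G → ℂ)} ≤ p ^ 2 := by
  classical
  have hp : p.Prime := Fact.out
  set H := Subgroup.centralizer ({x} : Set G) with hH
  letI := Fintype.ofFinite H
  let z : H := ⟨x, Subgroup.mem_centralizer_singleton_iff.mpr rfl⟩
  have hzc : ∀ h : H, h * z = z * h := fun h => Subtype.ext
    (Subgroup.mem_centralizer_singleton_iff.mp h.2)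
  haveI hN : (Subgroup.zpowers z).Normal := ⟨fun w hw h => by
    obtain ⟨i, rfl⟩ := hw
    refine ⟨i, ?_⟩
    show z ^ i = h * z ^ i * h⁻¹
    rw [((show Commute h z from hzc h).zpow_right i).eq, mul_inv_cancel_right]⟩
  let π := QuotientGroup.mk' (Subgroup.zpowers z)
  have hker : Nat.card π.ker = p ^ a := by
    rw [QuotientGroup.ker_mk', Nat.card_zpowers, ← Subgroup.orderOf_coe, ha]
  have hzle : π.ker ≤ Subgroup.center H := by
    rw [QuotientGroup.ker_mk', Subgroup.zpowers_le, Subgroup.mem_center_iff]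
    exact hzc
  have hsurj := QuotientGroup.mk'_surjective (Subgroup.zpowers z)
  letI := Fintype.ofFinite (H ⧸ Subgroup.zpowers z)
  letI := Fintype.ofFinite (Cfsg.IrrCharacter (H ⧸ Subgroup.zpowers z))
  have hfac := SmallCentral.factorization_eq π hsurj hker
  set w := (Nat.card (H ⧸ Subgroup.zpowers z)).factorization p with hw
  have hw1 : w ≤ 1 := by omega
  have hx : SectionMatrix.Pelt p z :=
    ⟨⟨a, ha⟩, (Cfsg.Agent.Lib.BrauerMap.PrincipalSection.centralizer_zpowers_eq x).symm⟩
  have hP : IsPGroup p (Subgroup.zpowers x) :=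
    IsPGroup.of_card (n := a) (by rw [Nat.card_zpowers, ha])
  have hxH : Subgroup.zpowers x ≤ H := Subgroup.zpowers_le.mpr z.2
  have hCeq : Subgroup.centralizer (Subgroup.zpowers x : Set G) = H :=
    Cfsg.Agent.Lib.BrauerMap.PrincipalSection.centralizer_zpowers_eq x
  have hnorm : H ≤ Subgroup.normalizer (Subgroup.zpowers x : Set G) :=
    hCeq ▸ Subgroup.centralizer_le_normalizer _
  have hdef := inducedBlockDefined_of_le_normalizer hM hP hxH hCeq.le hnorm
    (isPBlock_principalBlock (M := M) (G := H))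
  have hind : Cfsg.IsInducedBlock M H (Cfsg.principalBlock M H) (Cfsg.principalBlock M G) := by
    rw [principalBlock_eq, principalBlock_eq] at *
    exact (isInducedBlock_iff_of_heightZero hM (fun _ => rfl) blockHeight_oneChar
      blockHeight_oneChar hdef).mpr rfl
  obtain ⟨n, c, ⟨h1, h2, h3⟩, hwt⟩ : ∃ n c, SmallCentralPrime.Good (K := H ⧸ Subgroup.zpowers z)
      p M n c ∧ SmallCentralPrime.weight n c ≤ 2 * (p : ℤ) ^ w := by
    rcases (show w = 0 ∨ w = 1 by omega) with h | h
    · obtain ⟨n, c, hg, hwt⟩ := SmallCentralPrime.good_of_not_dvd (p := p) (M := M)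
        (K := H ⧸ Subgroup.zpowers z) fun hd => by
          have := (hp.dvd_iff_one_le_factorization Nat.card_pos.ne').mp hd
          omega
      exact ⟨n, c, hg, by rw [h, pow_zero, mul_one]; exact hwt⟩
    · obtain ⟨n, c, hg, hwt⟩ := SmallCentralPrime.good_of_prime hM
        (K := H ⧸ Subgroup.zpowers z) h
      exact ⟨n, c, hg, by rw [h, pow_one]; exact hwt⟩
  have h := SmallCentral.section_bound hM hx hind π hsurj hker hzle hw1 n c h1 h2 h3
  have h' := h.trans (mul_le_mul_of_nonneg_left hwt (by positivity))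
  rw [mul_left_comm, ← pow_add] at h'
  have h4 : (p : ℤ) ^ (a + w) ≤ (p : ℤ) ^ 2 :=
    pow_le_pow_right₀ (by exact_mod_cast hp.one_le) (by omega)
  have h5 : (Nat.card {χ : Cfsg.IrrCharacter G // χ ∈ Cfsg.principalBlock M G ∧
      ¬ p ∣ Cfsg.charDegree (χ : G → ℂ)} : ℤ) ≤ (p : ℤ) ^ 2 := by linarith
  exact_mod_cast h5

/-- Let G be a finite group, p a prime and M a maximal ideal of the algebraic integers containing p. If some p-element x of G (possibly x = 1) has centralizer whose order has p-part at most p², then the principal p-block of G contains at most p² irreducible characters of degree prime to p. -/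
theorem result {G : Type*} [Group G] [Finite G] (p : ℕ) [Fact p.Prime] (M : Ideal Cfsg.AlgInt) (hM : Cfsg.IsPModular p M)
    (hx : ∃ x : G, (∃ k : ℕ, orderOf x = p ^ k) ∧ (Nat.card (Subgroup.centralizer ({x} : Set G))).factorization p ≤ 2) :
    Nat.card {χ : Cfsg.IrrCharacter G // χ ∈ Cfsg.principalBlock M G ∧ ¬ p ∣ Cfsg.charDegree (χ : G → ℂ)} ≤ p ^ 2 := by
  classical
  haveI := hM.2.1
  haveI := Fintype.ofFinite G
  obtain ⟨x, ⟨a, ha⟩, hx2⟩ := hx
  by_cases hc : (Nat.card (Subgroup.centralizer ({x} : Set G))).factorization p ≤ a + 1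
  · exact aux hM ha hx2 hc
  -- otherwise `x = 1`; take a central element of a Sylow subgroup
  have hp : p.Prime := Fact.out
  have ha0 : a = 0 := by omega
  have hx1 : x = 1 := orderOf_eq_one_iff.mp (by rw [ha, ha0, pow_zero])
  subst hx1
  have hG : Subgroup.centralizer ({(1 : G)} : Set G) = ⊤ := by
    ext g; simp [Subgroup.mem_centralizer_singleton_iff]
  rw [hG, Subgroup.card_top] at hx2 hc
  obtain ⟨P⟩ : Nonempty (Sylow p G) := inferInstance
  have hPcard := P.card_eq_multiplicity
  haveI : Nontrivial (P : Subgroup G) := by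
    rw [← Finite.one_lt_card_iff_nontrivial, hPcard]
    exact Nat.one_lt_pow (by omega) hp.one_lt
  haveI := P.2.center_nontrivial
  obtain ⟨y, hy1⟩ := exists_ne (1 : Subgroup.center (P : Subgroup G))
  set z : G := ((y : (P : Subgroup G)) : G) with hz
  obtain ⟨b, hb⟩ : ∃ b, orderOf z = p ^ b := by
    obtain ⟨b, hb⟩ := IsPGroup.iff_orderOf.mp P.2 (y : (P : Subgroup G))
    exact ⟨b, by rw [hz, Subgroup.orderOf_coe, hb]⟩
  have hb0 : 0 < b := by
    refine Nat.pos_of_ne_zero fun h0 => hy1 ?_
    rw [h0, pow_zero, orderOf_eq_one_iff] at hb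
    exact Subtype.ext (Subtype.ext (by simpa [hz] using hb))
  have hle : (Nat.card (Subgroup.centralizer ({z} : Set G))).factorization p ≤
      (Nat.card G).factorization p :=
    (Nat.factorization_le_iff_dvd Nat.card_pos.ne' Nat.card_pos.ne').mpr
      (Subgroup.card_subgroup_dvd_card _) p
  exact aux hM hb (by omega) (by omega)

end Cfsg.Agent.S4588
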