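import Cfsg.Statements.S0867
import Cfsg.Agent.Lib.Clifford.Extension

set_option autoImplicit false
open Cfsg

namespace Cfsg.Agent.S0867

open Cfsg.Agent.Lib.Clifford

/-- Let N be a normal subgroup of the finite group G and ϑ an irreducible character of N of degree d, invariant under conjugation by G, such that the index of N is coprime to the product of d and the determinantal order of ϑ. Then there is an irreducible character χ of G restricting to ϑ whose determinantal order equals that of ϑ, and χ is the only irreducible character of G restricting to ϑ whose determinantal order is coprime to the index of N. -/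
theorem result {G : Type*} [Group G] [Finite G] (N : Subgroup G) [hN : N.Normal] (ϑ : N → ℂ) (hϑ : Cfsg.IsIrrCharacter N ϑ) (hinv : ∀ (g : G) (n : N), ϑ ⟨g * n * g⁻¹, hN.conj_mem (n : G) n.2 g⟩ = ϑ n) (d : ℕ) (hd : ϑ 1 = d) (hcop : Nat.Coprime N.index (Cfsg.detOrder ϑ * d)) : ∃ χ : G → ℂ, (Cfsg.IsIrrCharacter G χ ∧ (∀ n : N, χ n = ϑ n) ∧ Cfsg.detOrder χ = Cfsg.detOrder ϑ) ∧ ∀ χ' : G → ℂ, Cfsg.IsIrrCharacter G χ' → (∀ n : N, χ' n = ϑ n) → Nat.Coprime N.index (Cfsg.detOrder χ') → χ' = χ := by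
  have hcd : Nat.Coprime N.index d := hcop.coprime_dvd_right (dvd_mul_left _ _)
  have hco : Nat.Coprime N.index (Cfsg.detOrder ϑ) := hcop.coprime_dvd_right (dvd_mul_right _ _)
  obtain ⟨k, ρ, hρ, rfl⟩ := hϑ
  have hdc : Cfsg.detChar ρ.character = Linear.toFunHom (Rep.detHom ρ) := Rep.detChar_eq ρ
  rw [Cfsg.detOrder, hdc, Linear.orderOf_toFunHom] at hco
  have hdinv : ∀ (g : G) (n : N),
      Rep.detHom ρ ⟨g * n * g⁻¹, hN.conj_mem (n : G) n.2 g⟩ = Rep.detHom ρ n := by
    intro g n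
    exact Units.ext (Rep.det_eq_of_char ρ (Extension.conjRep N ρ g)
      (funext fun m => hinv g m) n)
  obtain ⟨μ, hμ, ho⟩ := Linear.exists_coprime_extension N (Rep.detHom ρ) hdinv hco
  obtain ⟨χ, hχ, hχN, hχd⟩ := Extension.exists_extension_char N ⟨k, ρ, hρ, rfl⟩ hinv hd hcd μ
    (fun n => by rw [hμ n, hdc]; rfl)
  refine ⟨χ, ⟨hχ, hχN, ?_⟩, fun χ' hχ' hN' hc' => ?_⟩
  · rw [Cfsg.detOrder, Cfsg.detOrder, hχd, hdc, Linear.orderOf_toFunHom,
      Linear.orderOf_toFunHom, ho]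
  refine Extension.extension_unique_char N ⟨k, ρ, hρ, rfl⟩ hd hcd hχ' hχ hN' hχN ?_
  obtain ⟨m, hm⟩ := Extension.exists_detHom hχ'
  rw [Cfsg.detOrder, ← hm, Linear.orderOf_toFunHom] at hc'
  rw [← hm, hχd, Linear.extension_unique N (μ := m) (μ' := μ) ?_ hc' (ho ▸ hco)]
  intro n
  refine Units.ext ?_
  rw [hμ n]
  show Linear.toFunHom m n = Linear.toFunHom (Rep.detHom ρ) n
  rw [hm, ← hdc]
  exact (Extension.detChar_restrict N hχ' ⟨k, ρ, hρ, rfl⟩ hN' n).symm

end Cfsg.Agent.S0867
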