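import Cfsg.Statements.S4455
import Cfsg.Agent.Lib.PrimeDegrees.Residual

set_option autoImplicit false
open Cfsg

namespace Cfsg.Agent.S4455

/-- Fix a prime p and a finite group G. Let s be the sum of χ(1)² over the irreducible characters χ of G whose degree is not divisible by p and whose determinantal order o(χ) is not divisible by p. Then the order of O^p(G), the subgroup generated by the elements of order prime to p, is congruent to s modulo p. -/
theorem result {G : Type*} [Group G] [Finite G] (p : ℕ) (hp : p.Prime) : (Nat.card (Cfsg.pResidual p G) : ℤ) ≡ (∑ᶠ χ ∈ {χ : Cfsg.IrrCharacter G | ¬ p ∣ Cfsg.charDegree (χ : G → ℂ) ∧ ¬ p ∣ Cfsg.detOrder (χ : G → ℂ)}, (Cfsg.charDegree (χ : G → ℂ) : ℤ) ^ 2) [ZMOD p] := by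
  classical
  haveI := Fact.mk hp
  letI : Fintype (Cfsg.IrrCharacter G) := Fintype.ofFinite _
  obtain ⟨n, hn⟩ := Cfsg.Agent.Lib.Transfer.PResidual.exists_index_eq_pow (G := G) (p := p)
  obtain ⟨P⟩ : Nonempty (Sylow p G) := inferInstance
  have h := Cfsg.Agent.Lib.PrimeDegrees.Residual.card_modEq (Cfsg.pResidual p G) hn
    Cfsg.Agent.Lib.Transfer.PResidual.pResidual_pResidual P (fun g => by
      obtain ⟨k, hk, a, ha, h⟩ :=
        Cfsg.Agent.Lib.Transfer.PResidual.exists_mul_sylow P g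
      exact ⟨k, hk, a, ha, h.symm⟩)
  rw [finsum_mem_eq_sum_of_inter_support_eq (t := Finset.univ.filter
    (fun χ : Cfsg.IrrCharacter G =>
      ¬ p ∣ Cfsg.charDegree (χ : G → ℂ) ∧ ¬ p ∣ Cfsg.detOrder (χ : G → ℂ))) (h := by ext χ; simp)]
  have h2 := Int.natCast_modEq_iff.2 h
  push_cast at h2
  exact h2

end Cfsg.Agent.S4455
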