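import Cfsg.Statements.S4456
import Cfsg.Agent.S4455
import Cfsg.Agent.Lib.Transfer.PResidual
import Cfsg.Agent.Lib.Characters.Linear
import Cfsg.Agent.Lib.RelGlauberman.Main

set_option autoImplicit false
open Cfsg

namespace Cfsg.Agent.S4456

/-- Let p be a prime and G a finite group such that p divides the degree of every irreducible character of G of degree greater than one. Then G has a normal p-complement: a normal subgroup of order prime to p whose index is a power of p. -/
theorem result {G : Type*} [Group G] [Finite G] (p : ℕ) (hp : p.Prime) (hdeg : ∀ χ : Cfsg.IrrCharacter G, Cfsg.charDegree (χ : G → ℂ) ≠ 1 → p ∣ Cfsg.charDegree (χ : G → ℂ)) : ∃ N : Subgroup G, N.Normal ∧ (Nat.card N).Coprime p ∧ ∃ k : ℕ, N.index = p ^ k := by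
  classical
  haveI := Fact.mk hp
  letI : Fintype (Cfsg.IrrCharacter G) := Fintype.ofFinite _
  obtain ⟨n, hn⟩ := Cfsg.Agent.Lib.Transfer.PResidual.exists_index_eq_pow (G := G) (p := p)
  refine ⟨Cfsg.pResidual p G, inferInstance, ?_, n, hn⟩
  refine (hp.coprime_iff_not_dvd.2 fun hdvd => ?_).symm
  have h := Cfsg.Agent.S4455.result (G := G) p hp
  rw [finsum_mem_eq_sum_of_inter_support_eq (t := Finset.univ.filter fun χ : Cfsg.IrrCharacter G =>
      ¬ p ∣ Cfsg.charDegree (χ : G → ℂ) ∧ ¬ p ∣ Cfsg.detOrder (χ : G → ℂ)) (h := by ext χ; simp),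
    Finset.sum_congr rfl fun (χ : Cfsg.IrrCharacter G) hχ => show (Cfsg.charDegree (χ : G → ℂ) : ℤ) ^ 2 = 1 by
      have := hdeg χ
      rw [not_imp_comm.1 this (Finset.mem_filter.1 hχ).2.1, Nat.cast_one, one_pow],
    Finset.sum_const, nsmul_one] at h
  -- linear characters whose order is prime to `p` form a group of order prime to `p`
  have hdet : ∀ μ : G →* ℂˣ,
      Cfsg.detOrder (Cfsg.Agent.Lib.Characters.Linear.linChar μ : G → ℂ) = orderOf μ := by
    intro μ
    haveI := Cfsg.Agent.Lib.Characters.Basic.isIrreducible_of_finrank_eq_one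
      (Cfsg.Agent.Lib.Characters.Linear.homRep μ) (Module.finrank_fin_fun ℂ)
    rw [Cfsg.detOrder, show (Cfsg.Agent.Lib.Characters.Linear.linChar μ : G → ℂ) =
      (Cfsg.Agent.Lib.Characters.Linear.homRep μ).character from
        funext fun g => (Cfsg.Agent.Lib.Characters.Linear.char_homRep μ g).symm,
      Cfsg.Agent.Lib.Clifford.Rep.detChar_eq,
      ← Cfsg.Agent.Lib.Clifford.Linear.orderOf_toFunHom]
    congr 1
    funext g
    show LinearMap.det (algebraMap ℂ (Module.End ℂ (Fin 1 → ℂ)) (μ g : ℂ)) = (μ g : ℂ)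
    rw [Algebra.algebraMap_eq_smul_one, LinearMap.det_smul, Module.finrank_fin_fun, pow_one,
      map_one, mul_one]
  haveI : Finite (G →* ℂˣ) :=
    Finite.of_equiv _ (Cfsg.Agent.Lib.Characters.Linear.linEquiv G).symm
  let A : Subgroup (G →* ℂˣ) :=
    { carrier := {μ | ¬ p ∣ orderOf μ}
      one_mem' := by simp [hp.ne_one]
      mul_mem' := fun {a b} ha hb hdvd => by
        rcases hp.dvd_mul.1 (hdvd.trans ((Commute.all a b).orderOf_mul_dvd_mul_orderOf)) with h | h
        · exact ha h
        · exact hb h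
      inv_mem' := fun {a} ha => by simpa using ha }
  have hA : ¬ p ∣ Nat.card A := by
    intro h'
    obtain ⟨⟨a, ha⟩, hao⟩ := exists_prime_orderOf_dvd_card' (G := A) p h'
    apply ha
    rw [← Subgroup.orderOf_coe] at hao
    rw [show orderOf a = p from hao]
  apply hA
  have hcard : Nat.card A = (Finset.univ.filter fun χ : Cfsg.IrrCharacter G =>
      ¬ p ∣ Cfsg.charDegree (χ : G → ℂ) ∧ ¬ p ∣ Cfsg.detOrder (χ : G → ℂ)).card := by
    rw [← Fintype.card_subtype, ← Nat.card_eq_fintype_card]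
    refine Nat.card_congr (Equiv.ofBijective
      (fun μ => ⟨Cfsg.Agent.Lib.Characters.Linear.linChar μ.1, ?_, ?_⟩) ⟨?_, ?_⟩)
    · simp [Cfsg.charDegree, Cfsg.Agent.Lib.Characters.Linear.linChar_apply, hp.ne_one]
    · rw [hdet]; exact μ.2
    · intro a b hab
      exact Subtype.ext (Cfsg.Agent.Lib.Characters.Linear.linChar_injective
        (congrArg Subtype.val hab))
    · rintro ⟨χ, hd, ho⟩
      have h1 : (χ : G → ℂ) 1 = 1 := by
        rw [Cfsg.Agent.Lib.BlocksChars5.Basic.apply_one, not_imp_comm.1 (hdeg χ) hd, Nat.cast_one]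
      have e : Cfsg.Agent.Lib.Characters.Linear.linChar
          (Cfsg.Agent.Lib.Characters.Linear.degOneHom
            (Cfsg.Agent.Lib.Characters.Basic.isCharacter_irr χ) h1) = χ :=
        Subtype.ext (funext fun g => rfl)
      refine ⟨⟨_, ?_⟩, Subtype.ext e⟩
      show ¬ p ∣ orderOf _
      rw [← hdet]
      exact (congrArg (fun φ : Cfsg.IrrCharacter G => ¬ p ∣ Cfsg.detOrder (φ : G → ℂ)) e).mpr ho
  rw [hcard]
  exact_mod_cast (Int.ModEq.dvd_iff h).1 (by exact_mod_cast hdvd)

end Cfsg.Agent.S4456
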