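import Cfsg.Statements.S4493
import Cfsg.Agent.Lib.Clifford.Ito
import Cfsg.Agent.Lib.Cores.MinNormal
import Cfsg.Agent.Lib.Characters.Kernel
import Cfsg.Agent.Lib.Characters.Linear
import Cfsg.Agent.Lib.Characters.Degree

set_option autoImplicit false
open Cfsg

namespace Cfsg.Agent.S4493

open Lib.Characters Lib.Clifford.Basic Lib.Induced.Basic

universe u

theorem charDegree_eq {G : Type u} [Group G] (χ : Cfsg.IrrCharacter G) {d : ℕ}
    (h : (χ : G → ℂ) 1 = d) : Cfsg.charDegree (χ : G → ℂ) = d := by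
  rw [Cfsg.charDegree, h, Complex.natCast_re, Nat.floor_natCast]

/-- Divisibility from Clifford: index of inertia and degree of constituent are prime to `p`. -/
theorem not_dvd_below {G : Type u} [Group G] [Fintype G] (N : Subgroup G) [N.Normal] [Fintype N]
    {p : ℕ} (hyp : ∀ χ : Cfsg.IrrCharacter G, ¬ p ∣ Cfsg.charDegree (χ : G → ℂ))
    (θ : Cfsg.IrrCharacter N) :
    ¬ p ∣ (inertia N (θ : N → ℂ)).index ∧ ¬ p ∣ Cfsg.charDegree (θ : N → ℂ) := by
  classical
  have hind : Cfsg.IsCharacter G (Cfsg.indFun N (θ : N → ℂ)) :=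
    Lib.Induced.Character.isCharacter_indFun (H := N) (Basic.isCharacter_irr θ)
  have hne : Cfsg.indFun N (θ : N → ℂ) ≠ 0 := fun h => by
    have h1 := congrFun h 1
    rw [indFun_one] at h1
    simp only [Pi.zero_apply, mul_eq_zero, Nat.cast_eq_zero] at h1
    exact h1.elim Subgroup.index_ne_zero_of_finite (Basic.apply_one_ne_zero θ)
  obtain ⟨χ, hχ⟩ := exists_constituent hind hne
  rw [frobenius_reciprocity N _ (Basic.isClassFunction_irr χ)] at hχ
  have hχ' := classInner_ne_zero_symm hχ
  obtain ⟨e, he⟩ := Basic.exists_classInner_nat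
    (Basic.isCharacter_comp N.subtype (Basic.isCharacter_irr χ)) (Basic.isCharacter_irr θ)
  obtain ⟨d, hd⟩ := Basic.exists_degree (Basic.isCharacter_irr θ)
  have he' : Cfsg.classInner (fun x : N => (χ : G → ℂ) x) (θ : N → ℂ) = (e : ℂ) := he
  have h := clifford_degree N χ.2 θ hχ'
  rw [he', hd, ← Nat.cast_mul, ← Nat.cast_mul] at h
  have h2 := hyp χ
  rw [charDegree_eq χ h] at h2
  exact ⟨fun h3 => h2 ((h3.mul_left e).mul_right d),
    fun h3 => h2 (by rw [charDegree_eq θ hd] at h3; exact h3.mul_left _)⟩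

/-- A group all whose irreducible characters are linear is abelian. -/
theorem comm_of_linear {P : Type u} [Group P] [Finite P]
    (h : ∀ θ : Cfsg.IrrCharacter P, (θ : P → ℂ) 1 = 1) (a b : P) : a * b = b * a := by
  have key : a * b * (b * a)⁻¹ = 1 := Complete.eq_one_of_forall_irr fun θ => by
    have hm := Linear.apply_mul_of_degree_one (Basic.isCharacter_irr θ) (h θ)
    have h1 : (θ : P → ℂ) (b * a) * (θ : P → ℂ) (b * a)⁻¹ = 1 := by
      rw [← hm, mul_inv_cancel, h θ]
    rw [hm, hm a b, mul_comm ((θ : P → ℂ) a), ← hm b a, h1, h θ]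
  exact eq_of_mul_inv_eq_one key

/-- A normal `p`-subgroup is abelian when all degrees are prime to `p`. -/
theorem comm_of_hyp {G : Type u} [Group G] [Finite G] (P : Subgroup G) [P.Normal] {p : ℕ}
    (hp : p.Prime) (hP : IsPGroup p P)
    (hyp : ∀ χ : Cfsg.IrrCharacter G, ¬ p ∣ Cfsg.charDegree (χ : G → ℂ)) :
    ∀ x ∈ P, ∀ y ∈ P, x * y = y * x := by
  classical
  haveI := Fintype.ofFinite G
  have hlin : ∀ θ : Cfsg.IrrCharacter P, (θ : P → ℂ) 1 = 1 := by
    intro θ
    obtain ⟨d, -, hdvd, hd⟩ := Degree.exists_degree_dvd θ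
    haveI := Fact.mk hp
    obtain ⟨k, hk⟩ := IsPGroup.iff_card.1 hP
    rw [hk] at hdvd
    obtain ⟨i, -, rfl⟩ := (Nat.dvd_prime_pow hp).1 hdvd
    rcases Nat.eq_zero_or_pos i with rfl | hi
    · rw [hd, pow_zero, Nat.cast_one]
    · exact absurd (charDegree_eq θ hd ▸ dvd_pow_self p hi.ne')
        (not_dvd_below P hyp θ).2
  intro x hx y hy
  exact congrArg Subtype.val (comm_of_linear hlin ⟨x, hx⟩ ⟨y, hy⟩)

theorem back : ∀ (n : ℕ) {G : Type u} [Group G] [Finite G] (p : ℕ), p.Prime → Nat.card G ≤ n →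
    Group.IsSolvable G → (∀ χ : Cfsg.IrrCharacter G, ¬ p ∣ Cfsg.charDegree (χ : G → ℂ)) →
    ∃ P : Subgroup G, P.Normal ∧ (∀ x ∈ P, ∀ y ∈ P, x * y = y * x) ∧ IsPGroup p P ∧
      ¬ p ∣ P.index := by
  intro n
  induction n with
  | zero =>
    intro G _ _ p _ hn
    have := Nat.card_pos (α := G)
    omega
  | succ n ih =>
  intro G _ _ p hp hn hsolv hyp
  classical
  haveI := hsolv
  haveI := Fact.mk hp
  haveI := Fintype.ofFinite G
  rcases subsingleton_or_nontrivial G with hG | hG
  · refine ⟨⊥, inferInstance, fun x _ y _ => Subsingleton.elim _ _, IsPGroup.of_bot, ?_⟩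
    rw [Subgroup.index_bot, Nat.card_unique]
    exact hp.not_dvd_one
  obtain ⟨N, hNn, hN, hmin⟩ := Lib.Cores.MinNormal.exists_minimal (G := G)
  haveI := hNn
  obtain ⟨hNc, q, hq, hqN⟩ := Lib.Cores.MinNormal.elementary_of_solvable hN hmin
  have hlt : Nat.card (G ⧸ N) ≤ n := by
    have h2 : 1 < Nat.card N := N.one_lt_card_iff_ne_bot.2 hN
    have h3 : Nat.card (G ⧸ N) < Nat.card G := by
      rw [N.card_eq_card_quotient_mul_card_subgroup]
      exact lt_mul_of_one_lt_right Nat.card_pos h2
    omega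
  have hsurj := QuotientGroup.mk'_surjective N
  obtain ⟨R, hRn, -, hRp, hRi⟩ := ih p hp hlt (Group.isSolvable_of_surjective hsurj) (fun φ => by
    have h := hyp ⟨_, Basic.isIrrCharacter_comp (QuotientGroup.mk' N) hsurj φ.2⟩
    simpa [Cfsg.charDegree] using h)
  haveI := hRn
  let M : Subgroup G := R.comap (QuotientGroup.mk' N)
  haveI hMn : M.Normal := hRn.comap _
  have hMi : M.index = R.index := Subgroup.index_comap_of_surjective R hsurj
  by_cases hpq : q = p
  · subst hpq
    have hMp : IsPGroup q M := hRp.comap_of_ker_isPGroup _ (by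
      rw [QuotientGroup.ker_mk']
      exact Lib.Cores.MinNormal.isPGroup_of_pow_eq_one hqN)
    exact ⟨M, hMn, comm_of_hyp M hp hMp hyp, hMp, hMi ▸ hRi⟩
  have hNM : N ≤ M := fun x hx => by
    show QuotientGroup.mk' N x ∈ R
    rw [QuotientGroup.mk'_apply, (QuotientGroup.eq_one_iff x).2 hx]
    exact one_mem R
  let f : M →* G ⧸ N := (QuotientGroup.mk' N).comp M.subtype
  have hker : f.ker = N.subgroupOf M := by
    ext x
    show QuotientGroup.mk' N (x : G) = 1 ↔ _
    rw [QuotientGroup.mk'_apply, QuotientGroup.eq_one_iff, Subgroup.mem_subgroupOf]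
  have hidx : (N.subgroupOf M).index = Nat.card R := by
    rw [← hker, Subgroup.index_ker, MonoidHom.range_comp, Subgroup.range_subtype,
      Subgroup.map_comap_eq_self_of_surjective hsurj]
  obtain ⟨k, hk⟩ := IsPGroup.iff_card.1 hRp
  have hypM : ∀ ψ : Cfsg.IrrCharacter M, ¬ p ∣ Cfsg.charDegree (ψ : M → ℂ) :=
    fun ψ => (not_dvd_below M hyp ψ).2
  have hcen : N.subgroupOf M ≤ Subgroup.center M := by
    intro x hx
    rw [Subgroup.mem_center_iff]
    intro m
    have hcomm : ∀ a b : N.subgroupOf M, a * b = b * a := fun a b => by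
      haveI := hNc
      apply Subtype.ext
      apply Subtype.ext
      simp only [Subgroup.coe_mul]
      exact congrArg Subtype.val
        (mul_comm' (⟨((a : M) : G), Subgroup.mem_subgroupOf.1 a.2⟩ : N)
          ⟨((b : M) : G), Subgroup.mem_subgroupOf.1 b.2⟩)
    let x' : N.subgroupOf M := ⟨x, hx⟩
    let y' : N.subgroupOf M := ⟨m * x * m⁻¹, Subgroup.Normal.conj_mem inferInstance x hx m⟩
    have : y' = x' := by
      have h1 : y' * x'⁻¹ = 1 := Complete.eq_one_of_forall_irr fun θ => by
        have h1 := Linear.degree_eq_one_of_comm hcomm θ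
        have hm := Linear.apply_mul_of_degree_one (Basic.isCharacter_irr θ) h1
        have hT := (not_dvd_below (N.subgroupOf M) hypM θ).1
        have htop : inertia (N.subgroupOf M) (θ : N.subgroupOf M → ℂ) = ⊤ := by
          have hd := Subgroup.index_dvd_of_le
            (le_inertia (N.subgroupOf M) (Basic.isClassFunction_irr θ))
          rw [hidx, hk] at hd
          obtain ⟨i, -, hi⟩ := (Nat.dvd_prime_pow hp).1 hd
          rw [← Subgroup.index_eq_one, hi]
          rcases Nat.eq_zero_or_pos i with rfl | hi0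
          · simp
          · exact absurd (hi ▸ dvd_pow_self p hi0.ne') hT
        have hfix : (θ : N.subgroupOf M → ℂ) y' = (θ : N.subgroupOf M → ℂ) x' := by
          have h2 : m ∈ inertia (N.subgroupOf M) (θ : N.subgroupOf M → ℂ) :=
            htop ▸ Subgroup.mem_top _
          refine Eq.trans ?_ (congrFun ((mem_inertia _).1 h2) x')
          rw [conjC_apply]
        rw [hm, hfix, ← hm, mul_inv_cancel]
      exact eq_of_mul_inv_eq_one h1
    exact mul_inv_eq_iff_eq_mul.1 (congrArg Subtype.val this)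
  haveI : Group.IsNilpotent f.range := by
    have : f.range = R := by
      rw [MonoidHom.range_comp, Subgroup.range_subtype,
        Subgroup.map_comap_eq_self_of_surjective hsurj]
    rw [this]
    exact hRp.isNilpotent
  haveI : Group.IsNilpotent M := Subgroup.isNilpotent_of_ker_le_center f.rangeRestrict
    (by rw [MonoidHom.ker_rangeRestrict, hker]; exact hcen)
  obtain ⟨S⟩ : Nonempty (Sylow p M) := inferInstance
  haveI : (S : Subgroup M).Normal :=
    Sylow.normal_of_normalizerCondition Group.normalizerCondition_of_isNilpotent S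
  haveI := S.characteristic_of_normal this
  have hPn : ((S : Subgroup M).map M.subtype).Normal := ConjAct.normal_of_characteristic_of_normal
  haveI := hPn
  have hPp : IsPGroup p ((S : Subgroup M).map M.subtype) := S.2.map _
  refine ⟨_, hPn, comm_of_hyp _ hp hPp hyp, hPp, ?_⟩
  rw [Subgroup.index_map_of_injective _ M.subtype_injective, Subgroup.range_subtype]
  exact hp.not_dvd_mul S.not_dvd_index (hMi ▸ hRi)

/-- Let G be a finite solvable group and p a prime. Then G has a normal abelian Sylow p-subgroup if and only if no irreducible character degree of G is divisible by p. -/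
theorem result {G : Type*} [Group G] [Finite G] (hsolv : Group.IsSolvable G) (p : ℕ) (hp : p.Prime) : (∃ P : Subgroup G, P.Normal ∧ (∀ x ∈ P, ∀ y ∈ P, x * y = y * x) ∧ IsPGroup p P ∧ ¬ p ∣ P.index) ↔ ∀ χ : Cfsg.IrrCharacter G, ¬ p ∣ Cfsg.charDegree (χ : G → ℂ) := by
  constructor
  · rintro ⟨P, hPn, hc, -, hi⟩ χ hdvd
    haveI := hPn
    obtain ⟨d, hd, hdd⟩ := Lib.Clifford.Ito.degree_dvd_index P hc χ
    exact hi ((charDegree_eq χ hd ▸ hdvd).trans hdd)
  · exact back _ p hp le_rfl hsolv

end Cfsg.Agent.S4493
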