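import Cfsg.Statements.S0084
import Cfsg.Agent.Lib.Transfer.Hall

set_option autoImplicit false
open Cfsg

namespace Cfsg.Agent.S0084

/-- A group whose Sylow 2-subgroups are Klein four-groups and whose order is prime to 3 has a normal 2-complement. -/
theorem result {G : Type*} [Group G] [Finite G] (T : Sylow 2 G) (hT : IsKleinFour T) (h3 : ¬ 3 ∣ Nat.card G) : Cfsg.HasNormalPComplement 2 G := by
  have hP : IsMulCommutative T := by
    haveI := hT
    exact ⟨⟨mul_comm_of_exponent_two hT.exponent_two⟩⟩
  refine ⟨T, _, inferInstance, MonoidHom.ker_transferSylow_isComplement' T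
    (Lib.Transfer.Hall.normalizer_le_centralizer_of_forall T hP (n := 2) (by
      rw [show Nat.card T = 4 from hT.card_four]; norm_num) fun q hq hq2 hqd k hk hdvd => ?_)⟩
  have hle := Nat.le_of_dvd (by interval_cases k <;> norm_num) hdvd
  interval_cases k <;> norm_num at hle hdvd <;> interval_cases q <;> first | omega | exact absurd hq (by norm_num)

end Cfsg.Agent.S0084
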