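import Cfsg.Statements.S4480
import Cfsg.Agent.Lib.KleinBlock.Formula

set_option autoImplicit false
open Cfsg

namespace Cfsg.Agent.S4480

/-- Same setting as the Klein-four order formula: G of order 4·g₀ (g₀ odd) with no normal 2-complement, P a Sylow 2-subgroup, J an involution of P, M over 2, principal 2-block {1, χ₁, χ₂, χ₃} with χ_i(J) = ε_i = ±1. Suppose ε₁ε₂ε₃ = −1 and ε₃ = −1, and put q = x₃ = χ₃(1). Then there is a natural number m with 4·c(J) = m·c(P)·(q + 1), and the order of G equals (m³·c(P)/4)·(q³ − q)/2, that is 8·#G = m³·c(P)·(q³ − q). -/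
theorem result {G : Type*} [Group G] [Finite G] (M : Ideal Cfsg.AlgInt) (hM : Cfsg.IsPModular 2 M) (g₀ : ℕ) (hg₀ : Odd g₀) (hG : Nat.card G = 4 * g₀) (hnc : ¬ ∃ N : Subgroup G, N.Normal ∧ Nat.card N = g₀) (P : Sylow 2 G) (J : G) (hJ : J ∈ (P : Subgroup G)) (hJ2 : orderOf J = 2) (χ₁ χ₂ χ₃ : Cfsg.IrrCharacter G) (ε₁ ε₂ ε₃ : ℤ) (hB : Cfsg.principalBlock M G = {χ : Cfsg.IrrCharacter G | (χ : G → ℂ) = (fun _ => 1) ∨ χ = χ₁ ∨ χ = χ₂ ∨ χ = χ₃}) (hdist : (χ₁ : G → ℂ) ≠ (fun _ => 1) ∧ (χ₂ : G → ℂ) ≠ (fun _ => 1) ∧ (χ₃ : G → ℂ) ≠ (fun _ => 1) ∧ χ₁ ≠ χ₂ ∧ χ₁ ≠ χ₃ ∧ χ₂ ≠ χ₃) (hε : (ε₁ = 1 ∨ ε₁ = -1) ∧ (ε₂ = 1 ∨ ε₂ = -1) ∧ (ε₃ = 1 ∨ ε₃ = -1)) (hval : (χ₁ : G → ℂ) J = ε₁ ∧ (χ₂ : G → ℂ) J = ε₂ ∧ (χ₃ : G → ℂ) J = ε₃) (hprod : ε₁ * ε₂ * ε₃ = -1) (hε₃ : ε₃ = -1) : ∃ m : ℕ, 4 * Nat.card (Subgroup.centralizer ({J} : Set G)) = m * Nat.card (Subgroup.centralizer ((P : Subgroup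 G) : Set G)) * (Cfsg.charDegree (χ₃ : G → ℂ) + 1) ∧ 8 * Nat.card G = m ^ 3 * Nat.card (Subgroup.centralizer ((P : Subgroup G) : Set G)) * (Cfsg.charDegree (χ₃ : G → ℂ) ^ 3 - Cfsg.charDegree (χ₃ : G → ℂ)) := by
  classical
  haveI : Fact (Nat.Prime 2) := ⟨Nat.prime_two⟩
  obtain ⟨n, h⟩ := Lib.KleinBlock.exists_data M hM g₀ hg₀ hG hnc P J hJ hJ2 χ₁ χ₂ χ₃ ε₁ ε₂ ε₃
    hB hdist hε hval
  set x₁ := Cfsg.charDegree (χ₁ : G → ℂ) with hx1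
  set x₂ := Cfsg.charDegree (χ₂ : G → ℂ) with hx2
  set q := Cfsg.charDegree (χ₃ : G → ℂ) with hq
  have hp1 : 0 < x₁ := Lib.Blocks.charDegree_pos χ₁
  have hp2 : 0 < x₂ := Lib.Blocks.charDegree_pos χ₂
  have hp3 : 0 < q := Lib.Blocks.charDegree_pos χ₃
  have hrel : (1 : ℤ) + ε₁ * x₁ + ε₂ * x₂ + ε₃ * q = 0 := by
    have hr := h.rel (g := 1) (by simp)
    simp only [Lib.Blocks.char_one_eq_degree, ← hx1, ← hx2, ← hq] at hr
    have : ((1 + ε₁ * x₁ + ε₂ * x₂ + ε₃ * q : ℤ) : ℂ) = ((0 : ℤ) : ℂ) := by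
      push_cast
      exact hr
    exact Int.cast_inj.1 this
  obtain ⟨h1, h2⟩ : ε₁ = 1 ∧ ε₂ = 1 := by
    rw [hε₃] at hprod hrel
    rcases h.sign₁ with e | e <;> rcases h.sign₂ with e' | e' <;> rw [e, e'] at hprod hrel <;>
      first
        | exact ⟨e, e'⟩
        | omega
  have heq : x₁ = x₂ := h.degree_eq h1 h2 hε₃
  have h4 := h.four_dvd h.val₃
  rw [← hq, hε₃] at h4
  rw [h1, h2, hε₃, ← heq] at hrel
  obtain ⟨s, hs⟩ : ∃ s : ℕ, q + 1 = 4 * s := by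
    obtain ⟨d, hd⟩ := h4
    exact ⟨d.toNat, by omega⟩
  have hq1 : q = 2 * x₁ + 1 := by omega
  have hx1' : x₁ + 1 = 2 * s := by omega
  have hf := h.formula
  rw [← hx1, ← hx2, ← hq, ← heq, h1, h2, hε₃] at hf
  push_cast at hf
  have hle : Subgroup.centralizer ((P : Subgroup G) : Set G) ≤
      Subgroup.centralizer ({J} : Set G) :=
    Subgroup.centralizer_le (Set.singleton_subset_iff.2 hJ)
  obtain ⟨k, hk⟩ := Subgroup.card_dvd_of_le hle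
  obtain ⟨r, hr⟩ := Subgroup.card_subgroup_dvd_card (Subgroup.centralizer ({J} : Set G))
  set c := Nat.card (Subgroup.centralizer ({J} : Set G))
  set cP := Nat.card (Subgroup.centralizer ((P : Subgroup G) : Set G))
  have hcP : (cP : ℚ) ≠ 0 := Nat.cast_ne_zero.2 Nat.card_pos.ne'
  have hc : (c : ℚ) ≠ 0 := Nat.cast_ne_zero.2 Nat.card_pos.ne'
  have hxq : (x₁ : ℚ) + 1 ≠ 0 := by positivity
  have hq0 : (q : ℚ) = 2 * x₁ + 1 := by rw [hq1]; push_cast; ring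
  have hm0 : (x₁ : ℚ) ≠ 0 := Nat.cast_ne_zero.2 hp1.ne'
  have hR : r * s ^ 2 = k ^ 2 * (x₁ * q) := by
    have hrq : (Nat.card G : ℚ) = c * r := by exact_mod_cast hr
    have hkq : (c : ℚ) = cP * k := by exact_mod_cast hk
    have hsq : (x₁ : ℚ) + 1 = 2 * s := by exact_mod_cast hx1'
    have hs0 : (s : ℚ) ≠ 0 := by
      intro h0
      rw [h0, mul_zero] at hsq
      exact hxq hsq
    rw [hrq, hq0, show (2 * (x₁ : ℚ) + 1 + -1) = 2 * x₁ by ring, hsq] at hf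
    field_simp at hf
    have : ((r * s ^ 2 : ℕ) : ℚ) = ((k ^ 2 * (x₁ * q) : ℕ) : ℚ) := by
      push_cast
      rw [hq0]
      refine mul_left_cancel₀ (pow_ne_zero 2 hcP) ?_
      rw [hkq] at hf
      linear_combination hf / 8
    exact_mod_cast this
  have hcop : Nat.Coprime s (x₁ * q) := by
    refine Nat.Coprime.mul_right ?_ ?_ <;> refine Nat.coprime_of_dvd fun d hd hds hdx => ?_
    · have : d ∣ 1 := (Nat.dvd_add_right hdx).1 (hx1' ▸ hds.mul_left 2)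
      exact hd.ne_one (Nat.dvd_one.1 this)
    · have : d ∣ 1 := (Nat.dvd_add_right hdx).1 (hs ▸ hds.mul_left 4)
      exact hd.ne_one (Nat.dvd_one.1 this)
  obtain ⟨m, hm⟩ : s ∣ k := (Nat.pow_dvd_pow_iff two_ne_zero).1
    ((Nat.Coprime.pow_left 2 hcop).dvd_of_dvd_mul_right ⟨r, by rw [← hR]; ring⟩)
  refine ⟨m, by rw [hk, hm, hs]; ring, ?_⟩
  have hr' : r = m ^ 2 * (x₁ * q) := by
    have hs0 : 0 < s := by omega
    refine Nat.eq_of_mul_eq_mul_right (pow_pos hs0 2) ?_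
    rw [hR, hm]; ring
  have hcub : q ^ 3 - q = 8 * (x₁ * q) * s := by
    refine Nat.sub_eq_of_eq_add ?_
    have e : (q : ℤ) + 1 = 4 * s := by exact_mod_cast hs
    have e' : (q : ℤ) = 2 * x₁ + 1 := by exact_mod_cast hq1
    have : ((q ^ 3 : ℕ) : ℤ) = ((8 * (x₁ * q) * s + q : ℕ) : ℤ) := by
      push_cast
      linear_combination 2 * (x₁ : ℤ) * q * e + (q : ℤ) * (q + 1) * e'
    exact_mod_cast this
  rw [hcub, hr, hk, hm, hr']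
  ring

end Cfsg.Agent.S4480
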