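import Cfsg.Statements.S4500
import Cfsg.Agent.Lib.BC77.Reg
import Cfsg.Agent.Lib.Induced.Burnside
import Cfsg.Agent.Lib.Characters.Linear

set_option autoImplicit false
open Cfsg
open scoped ComplexConjugate

namespace Cfsg.Agent.S4500

open Lib

theorem half {G : Type*} [Group G] [Finite G] [Nontrivial G] (p q r a b c : ℕ) (hp : p.Prime)
    (hq : q.Prime) (hr : r.Prime) (hpr : p ≠ r) (ha : a ≤ 2) (hpq : p ≠ q)
    (hG : Nat.card G = p ^ a * q ^ b * r ^ c) :
    ∃ χ : Cfsg.IrrCharacter G, (χ : G → ℂ) ≠ (fun _ => 1) ∧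
      ∃ k : ℕ, Cfsg.charDegree (χ : G → ℂ) = q ^ k := by
  classical
  haveI := Fact.mk hp
  rcases Nat.eq_zero_or_pos a with rfl | ha0
  · rw [pow_zero, one_mul] at hG
    haveI : Group.IsSolvable G := Induced.Burnside.isSolvable_of_card_eq q r b c hq hr hG
    have h1 : 1 < Nat.card {χ : Cfsg.IrrCharacter G // (χ : G → ℂ) 1 = 1} := by
      rw [Characters.Linear.card_linear]
      haveI : Finite (G ⧸ commutator G) := inferInstance
      have hne : commutator G ≠ ⊤ := (Group.IsSolvable.commutator_lt_top_of_nontrivial G).ne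
      exact (commutator G).one_lt_index_of_ne_top hne
    haveI : Nontrivial {χ : Cfsg.IrrCharacter G // (χ : G → ℂ) 1 = 1} :=
      Finite.one_lt_card_iff_nontrivial.mp h1
    obtain ⟨⟨χ, hχ⟩, hne⟩ :=
      exists_ne (⟨Characters.Basic.oneChar G, rfl⟩ : {χ : Cfsg.IrrCharacter G // (χ : G → ℂ) 1 = 1})
    refine ⟨χ, fun e => hne (Subtype.ext (Subtype.ext e)), 0, ?_⟩
    rw [pow_zero, ← Nat.cast_inj (R := ℂ), Nat.cast_one, ← (H80.ClassMult.deg_spec χ).2, hχ]
  obtain ⟨M, hM⟩ := Blocks.exists_isPModular p hp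
  haveI := hM.2.1
  set B := Cfsg.principalBlock M G
  have hB : Cfsg.IsPBlock M B := Blocks.isPBlock_principalBlock
  have hfac : (Nat.card G).factorization p ≤ 2 := by
    rw [hG, Nat.factorization_mul (mul_ne_zero (pow_ne_zero _ hp.ne_zero) (pow_ne_zero _ hq.ne_zero))
      (pow_ne_zero _ hr.ne_zero), Nat.factorization_mul (pow_ne_zero _ hp.ne_zero)
      (pow_ne_zero _ hq.ne_zero), hp.factorization_pow, hq.factorization_pow, hr.factorization_pow]
    simp [Finsupp.single_apply, Ne.symm hpq, Ne.symm hpr, ha]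
  obtain ⟨x, hx⟩ := exists_prime_orderOf_dvd_card' p
    (show p ∣ Nat.card G from hG ▸ ((dvd_pow_self p ha0.ne').mul_right _).mul_right _)
  by_contra hall
  push Not at hall
  have h1mem : Characters.Basic.oneChar G ∈ B := Blocks.oneChar_mem_principalBlock
  have hmin : Blocks.Contrib.minVdeg p B = 0 := by
    refine Nat.le_zero.mp ((Blocks.Contrib.minVdeg_le h1mem).trans_eq ?_)
    simp [Blocks.Contrib.vdeg, Cfsg.charDegree, Characters.Basic.oneChar_apply]
  have hdiv : ∀ χ ∈ B, χ ≠ Characters.Basic.oneChar G → r ∣ Cfsg.charDegree (χ : G → ℂ) := by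
    intro χ hχ hne
    by_contra hrd
    have hpd : ¬ p ∣ Cfsg.charDegree (χ : G → ℂ) := by
      intro hd
      have hv : 0 < Blocks.Contrib.vdeg p χ :=
        hp.factorization_pos_of_dvd (H80.ClassMult.deg_spec χ).1.ne' hd
      have h3 := Blocks.Contrib.height_add_two_le hM hB hχ
        (by rw [Blocks.Contrib.blockHeight_eq, hmin]; omega)
      rw [Blocks.Contrib.blockHeight_eq, hmin] at h3
      have h4 := Blocks.Contrib.minVdeg_add_blockDefect (p := p) hB
      omega
    have hdvd := H80.ClassMult.charDegree_dvd_card χ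
    rw [hG] at hdvd
    have h5 : Cfsg.charDegree (χ : G → ℂ) ∣ q ^ b := by
      refine Nat.Coprime.dvd_of_dvd_mul_left ?_ (Nat.Coprime.dvd_of_dvd_mul_right ?_ hdvd)
      · exact Nat.Coprime.pow_right _ (hp.coprime_iff_not_dvd.mpr hpd).symm
      · exact Nat.Coprime.pow_right _ (hr.coprime_iff_not_dvd.mpr hrd).symm
    obtain ⟨k, -, hk⟩ := (Nat.dvd_prime_pow hq).mp h5
    exact hall χ (fun e => hne (Subtype.ext e)) k hk
  have horth := Blocks.weak_orthogonality hM hB (x := (1 : G)) (by simp [hp.ne_one])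
    (show p ∣ orderOf x by rw [hx])
  rw [Blocks.Contrib.finsum_mem_bset, ← Finset.add_sum_erase _ _ (Blocks.Contrib.mem_bset.mpr h1mem),
    Characters.Basic.oneChar_apply, Characters.Basic.oneChar_apply, map_one, mul_one] at horth
  let z : Cfsg.AlgInt := ∑ χ ∈ (Blocks.Contrib.bset B).erase (Characters.Basic.oneChar G),
    ((Cfsg.charDegree (χ : G → ℂ) / r : ℕ) : Cfsg.AlgInt) *
      ⟨conj ((χ : G → ℂ) x), (Characters.Basic.isIntegral_apply
        (Characters.Basic.isCharacter_conj (Characters.Basic.isCharacter_irr χ)) x)⟩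
  have hz : (1 : ℂ) + (r : ℂ) * (z : ℂ) = 0 := by
    rw [← horth]
    congr 1
    push_cast [z]
    rw [Finset.mul_sum]
    refine Finset.sum_congr rfl fun χ hχ => ?_
    obtain ⟨hne, hχB⟩ := Finset.mem_erase.mp hχ
    have hd := Nat.mul_div_cancel' (hdiv χ (Blocks.Contrib.mem_bset.mp hχB) hne)
    rw [(H80.ClassMult.deg_spec χ).2]
    conv_rhs => rw [← hd]
    push_cast
    ring
  obtain ⟨M', hM'⟩ := Blocks.exists_isPModular r hr
  haveI := hM'.2.1
  have h6 : ((1 : Cfsg.AlgInt) + (r : Cfsg.AlgInt) * z) = 0 := by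
    apply Subtype.ext
    push_cast
    exact hz
  exact Blocks.one_notMem_ideal (M := M') (by
    rw [eq_neg_of_add_eq_zero_left h6]
    exact neg_mem (Ideal.mul_mem_right _ _ hM'.2.2))


/-- Let G be a non-trivial finite group of order p^a · q^b · r^c with p, q, r distinct primes and a ≤ 2. Then G has a non-principal irreducible character whose degree is a power of q, and a non-principal irreducible character whose degree is a power of r; the power may be the zeroth, so a non-principal linear character serves for both. -/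
theorem result {G : Type*} [Group G] [Finite G] [Nontrivial G] (p q r a b c : ℕ) (hp : p.Prime) (hq : q.Prime) (hr : r.Prime) (hpq : p ≠ q) (hpr : p ≠ r) (hqr : q ≠ r) (ha : a ≤ 2) (hG : Nat.card G = p ^ a * q ^ b * r ^ c) : (∃ χ : Cfsg.IrrCharacter G, (χ : G → ℂ) ≠ (fun _ => 1) ∧ ∃ k : ℕ, Cfsg.charDegree (χ : G → ℂ) = q ^ k) ∧ ∃ χ : Cfsg.IrrCharacter G, (χ : G → ℂ) ≠ (fun _ => 1) ∧ ∃ k : ℕ, Cfsg.charDegree (χ : G → ℂ) = r ^ k := by
  exact ⟨half p q r a b c hp hq hr hpr ha hpq hG,
    half p r q a c b hp hr hq hpq ha hpr (by rw [hG]; ring)⟩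

end Cfsg.Agent.S4500
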