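import Cfsg.Statements.S4503
import Cfsg.Agent.Lib.FirstPower.ModularTrace
import Cfsg.Agent.Lib.FirstPower.SmallReduction
import Cfsg.Agent.Lib.FirstPower.Consequences
import Cfsg.Agent.Lib.BlocksChars5.Basic
import Cfsg.Agent.Lib.Clifford.Rep

set_option autoImplicit false
open Cfsg Cfsg.Agent.Lib

namespace Cfsg.Agent.S4503

open scoped ComplexConjugate Classical
open Cfsg.Agent.Lib.Characters.Basic Cfsg.Agent.Lib.FirstPower
open Cfsg.Agent.Lib.FirstPower.Average Cfsg.Agent.Lib.FirstPower.Periods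
open Cfsg.Agent.Lib.FirstPower.CharOrbit (IsVPart)
open Cfsg.Agent.Lib.FirstPower.Family (pow_eq_one_of_order)

universe u

variable {p : ℕ} [Fact p.Prime] {G : Type u} [Group G] [Finite G] {x : G}

/-- A normal `p`-subgroup of a group with `p` dividing the order once and no normal subgroup of
order `p` is trivial. -/
theorem eq_bot_of_pgroup (h2 : ¬ p ^ 2 ∣ Nat.card G)
    (hnn : ∀ H : Subgroup G, H.Normal → Nat.card H ≠ p) {K : Subgroup G} [hK : K.Normal]
    (hKp : IsPGroup p K) : K = ⊥ := by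
  obtain ⟨a, ha⟩ := hKp.exists_card_eq
  match a, ha with
  | 0, ha => exact Subgroup.card_eq_one.mp (by rw [ha, pow_zero])
  | 1, ha => exact absurd (by rw [ha, pow_one]) (hnn K hK)
  | a + 2, ha =>
    exact absurd ((pow_dvd_pow p (by omega : 2 ≤ a + 2)).trans
      (ha ▸ Subgroup.card_subgroup_dvd_card K)) h2

theorem zpowers_of_dvd (h2 : ¬ p ^ 2 ∣ Nat.card G) (hx : orderOf x = p) {K : Subgroup G}
    [K.Normal] (hK : Nat.card K = p) : Subgroup.zpowers x = K := by
  obtain ⟨P, hP⟩ := Consequences.exists_sylow hx h2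
  have hKp : IsPGroup p K := IsPGroup.of_card (n := 1) (by rw [hK, pow_one])
  obtain ⟨Q, hQ⟩ := hKp.exists_le_sylow
  obtain ⟨g, hg⟩ := MulAction.exists_smul_eq G Q P
  have hle : K ≤ (P : Subgroup G) := by
    intro k hk
    rw [← hg, Sylow.coe_subgroup_smul, Subgroup.mem_smul_pointwise_iff_exists]
    exact ⟨g⁻¹ * k * g, hQ (by simpa using ‹K.Normal›.conj_mem k hk g⁻¹), by
      simp [MulAut.smul_def, MulAut.conj_apply, mul_assoc]⟩
  rw [hP] at hle
  exact (Subgroup.eq_of_le_of_card_ge hle (by rw [hK, Nat.card_zpowers, hx])).symm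

/-- The eigenvalue count. -/
theorem core (hx : orderOf x = p) (h2 : ¬ p ^ 2 ∣ Nat.card G)
    (hgen : Subgroup.normalClosure ({x} : Set G) = ⊤) (ψ : Cfsg.IrrCharacter G)
    (hfaith : ∀ g : G, (ψ : G → ℂ) g = (ψ : G → ℂ) 1 → g = 1)
    (hn2 : 2 ≤ Cfsg.charDegree (ψ : G → ℂ))
    (hsmall : 2 * Cfsg.charDegree (ψ : G → ℂ) + 2 ≤ p)
    (hnn : ∀ H : Subgroup G, H.Normal → Nat.card H ≠ p) : False := by
  have hp : p.Prime := Fact.out
  set n := Cfsg.charDegree (ψ : G → ℂ) with hn
  have hψ1 : (ψ : G → ℂ) 1 = n := DegreeBounds.Basic.charDegree_irr ψ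
  have hxp := pow_eq_one_of_order hx
  haveI := Fintype.ofFinite G
  haveI := Fintype.ofFinite (Cfsg.IrrCharacter G)
  obtain ⟨V, hV⟩ := Family.exists_vpart hx h2
  -- the elements of `V` are central
  have hcentral : ∀ v ∈ V, ∀ g : G, v * g = g * v := by
    obtain ⟨M, hM⟩ := Blocks.exists_isPModular p hp
    haveI : M.IsMaximal := hM.2.1
    haveI : CharP (Cfsg.AlgInt ⧸ M) p := Blocks.charP_residue hM
    letI : Field (Cfsg.AlgInt ⧸ M) := Ideal.Quotient.field M
    obtain ⟨d, A, hd, hker⟩ := SmallReduction.exists_reduction (p := p) hM (isCharacter_irr ψ)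
    obtain rfl : d = n := by exact_mod_cast hd.symm.trans hψ1
    have hinj : A.ker = ⊥ := by
      refine eq_bot_of_pgroup h2 hnn (fun g => ?_)
      obtain ⟨k, hk⟩ : ∃ k, orderOf ((g : G) ^ p ^ k) ∣ orderOf (g : G) ∧
          ¬ p ∣ orderOf ((g : G) ^ p ^ k) := by
        refine ⟨(orderOf (g : G)).factorization p, orderOf_pow_dvd _, ?_⟩
        rw [orderOf_pow_of_dvd (pow_ne_zero _ hp.ne_zero) (Nat.ordProj_dvd _ _)]
        exact Nat.not_dvd_ordCompl hp (orderOf_pos (g : G)).ne'
      refine ⟨k, Subtype.ext ?_⟩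
      rw [SubmonoidClass.coe_pow]
      exact hfaith _ (hker _ hk.2 (by rw [map_pow, MonoidHom.mem_ker.mp g.2, one_pow]))
    intro v hv g
    have hvc := (hV v).mp hv
    have hcomm := ModularTrace.commute_image A hx h2 hgen
      (by rw [Module.finrank_fin_fun]; omega) (vpart_le hV v hv) hvc.2 g
    exact (MonoidHom.ker_eq_bot_iff A).mp hinj (by rw [map_mul, map_mul]; exact hcomm.eq)
  -- the product with the conjugate
  let f : G → ℂ := fun g => (ψ : G → ℂ) g * conj ((ψ : G → ℂ) g)
  have hf : Cfsg.IsCharacter G f :=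
    isCharacter_mul (isCharacter_irr ψ) (isCharacter_conj (isCharacter_irr ψ))
  choose c hc using fun θ : Cfsg.IrrCharacter G => exists_classInner_nat hf (isCharacter_irr θ)
  have hdec : ∀ g, f g = ∑ θ : Cfsg.IrrCharacter G, (c θ : ℂ) * (θ : G → ℂ) g := by
    intro g
    rw [Characters.Complete.classFunction_eq_sum (isClassFunction_of_isCharacter hf),
      Finset.sum_apply]
    exact Finset.sum_congr rfl fun θ _ => by rw [Pi.smul_apply, smul_eq_mul, hc]
  have hone : c (oneChar G) = 1 := by
    have h1 := hc (oneChar G)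
    have h3 : Cfsg.classInner f (oneChar G : G → ℂ) = Cfsg.classInner (ψ : G → ℂ) ψ := by
      simp only [Cfsg.classInner, f, oneChar_apply, map_one, mul_one]
    rw [h3, classInner_self_irr] at h1
    exact_mod_cast h1.symm
  have havf : ∀ z : ZMod p, aval x V f z = f (x ^ z.val) := by
    intro z
    haveI := Fintype.ofFinite V
    have hval : ∀ v : V, f (x ^ z.val * v) = f (x ^ z.val) := by
      intro v
      obtain ⟨d, ρ, hρ, hρψ⟩ := exists_rep ψ
      haveI := hρ
      obtain ⟨r, hr⟩ := Clifford.Rep.schur ρ (ρ (v : G)) (fun g => by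
        rw [← map_mul, ← map_mul, hcentral v v.2 g])
      have h1 : ∀ y : G, (ψ : G → ℂ) (y * v) = r * (ψ : G → ℂ) y := by
        intro y
        rw [← hρψ, Representation.character, Representation.character, map_mul, hr,
          mul_smul_comm, mul_one, map_smul, smul_eq_mul]
      have h2' : (r * conj r : ℂ) = 1 := by
        have hpow : (r : ℂ) ^ orderOf (v : G) = 1 := by
          have h3 := congrArg (fun w => ρ w) (pow_orderOf_eq_one (v : G))
          simp only [map_pow, hr, map_one, smul_pow, one_pow] at h3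
          have h4 := congrArg (LinearMap.trace ℂ _) h3
          rw [map_smul, smul_eq_mul] at h4
          have hd0 : LinearMap.trace ℂ _ (1 : Module.End ℂ (Fin d → ℂ)) ≠ 0 := by
            have := apply_one_ne_zero ψ
            rw [← hρψ, Representation.character, map_one] at this
            exact this
          exact mul_eq_right₀ hd0 |>.mp h4
        have hnorm : ‖r‖ = 1 :=
          Complex.norm_eq_one_of_pow_eq_one hpow (orderOf_pos (v : G)).ne'
        rw [Complex.mul_conj, Complex.normSq_eq_norm_sq, hnorm]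
        simp
      show (ψ : G → ℂ) _ * conj ((ψ : G → ℂ) _) = _
      rw [h1, map_mul, mul_mul_mul_comm, h2', one_mul]
    rw [aval, finsum_eq_sum_of_fintype, Finset.sum_congr rfl fun v _ => hval v, Finset.sum_const,
      Finset.card_univ, nsmul_eq_mul, ← Nat.card_eq_fintype_card, ← mul_assoc,
      inv_mul_cancel₀ (Nat.cast_ne_zero.mpr Nat.card_pos.ne'), one_mul]
  let S : Cfsg.IrrCharacter G → ℂ :=
    fun θ => ∑ u : (ZMod p)ˣ, aval x V (θ : G → ℂ) (u : ZMod p)
  have hS : ∑ u : (ZMod p)ˣ, f (x ^ (u : ZMod p).val) = ∑ θ, (c θ : ℂ) * S θ := by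
    haveI := Fintype.ofFinite V
    simp only [← havf, S, aval, finsum_eq_sum_of_fintype, hdec, Finset.mul_sum]
    rw [Finset.sum_comm (γ := Cfsg.IrrCharacter G)]
    refine Finset.sum_congr rfl fun u _ => ?_
    rw [Finset.sum_comm]
    exact Finset.sum_congr rfl fun θ _ => Finset.sum_congr rfl fun v _ => by ring
  -- the bound for a constituent
  have hbound : ∀ θ : Cfsg.IrrCharacter G, θ ≠ oneChar G → ∃ s : ℤ, S θ = s ∧
      ((p : ℤ) + 1) * s ≤ ((p : ℤ) - 1) * (Cfsg.charDegree (θ : G → ℂ) : ℤ) := by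
    obtain ⟨R, Y, a, δ, -, -, hδ, -, -, -, hR, hY, hzero, -, -⟩ := Family.exists_family hx h2 hV
    haveI := Fintype.ofFinite ((ZMod p)ˣ ⧸ autE (pow_eq_one_of_order hx))
    haveI := Fintype.ofFinite (autE (pow_eq_one_of_order hx))
    have haval : ∀ (θ : Cfsg.IrrCharacter G) (u : (ZMod p)ˣ) (w : ℂ),
        (∀ v ∈ V, (θ : G → ℂ) (x ^ (u : ZMod p).val * v) = w) →
        aval x V (θ : G → ℂ) (u : ZMod p) = w := by
      intro θ u w h
      haveI := Fintype.ofFinite V
      rw [aval, finsum_eq_sum_of_fintype, Finset.sum_congr rfl fun (v : V) _ => h v v.2,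
        Finset.sum_const, Finset.card_univ, nsmul_eq_mul, ← Nat.card_eq_fintype_card,
        ← mul_assoc, inv_mul_cancel₀ (Nat.cast_ne_zero.mpr Nat.card_pos.ne'), one_mul]
    intro θ hθ
    set d := Cfsg.charDegree (θ : G → ℂ) with hd
    have hd1 : 1 ≤ d := DegreeBounds.Basic.charDegree_pos θ
    have hp1 : (2 : ℤ) ≤ p := by exact_mod_cast hp.two_le
    have hd' : (1 : ℤ) ≤ d := by exact_mod_cast hd1
    have hxker : (θ : G → ℂ) x ≠ (θ : G → ℂ) 1 := by
      intro h
      have hmem : x ∈ Characters.Kernel.charKer (isCharacter_irr θ) :=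
        (Characters.Kernel.mem_charKer _ x).mpr h
      haveI := Characters.Kernel.charKer_normal (isCharacter_irr θ)
      have hle : ⊤ ≤ Characters.Kernel.charKer (isCharacter_irr θ) :=
        hgen ▸ Subgroup.normalClosure_le_normal (Set.singleton_subset_iff.mpr hmem)
      have hconst : ∀ g, (θ : G → ℂ) g = (θ : G → ℂ) 1 := fun g =>
        (Characters.Kernel.mem_charKer _ g).mp (hle (Subgroup.mem_top g))
      have hne := classInner_irr_of_ne hθ
      simp only [Cfsg.classInner, oneChar_apply, map_one, mul_one, hconst, Finset.sum_const,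
        Finset.card_univ, nsmul_eq_mul, ← Nat.card_eq_fintype_card, ← mul_assoc,
        inv_mul_cancel₀ (Nat.cast_ne_zero.mpr Nat.card_pos.ne' : (Nat.card G : ℂ) ≠ 0),
        one_mul] at hne
      exact apply_one_ne_zero θ hne
    have hbig : ∀ (w : ℤ), (θ : G → ℂ) x = w → w = 1 → (d : ZMod p) = 1 → (p : ℤ) + 1 ≤ d := by
      intro w hw hw1 hmod
      have hne : d ≠ 1 := fun h1 => hxker (by
        rw [hw, hw1, DegreeBounds.Basic.charDegree_irr, ← hd, h1]; simp)
      have hdvd : p ∣ d - 1 := by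
        rw [← ZMod.natCast_eq_zero_iff, Nat.cast_sub hd1, hmod, Nat.cast_one, sub_self]
      have := Nat.le_of_dvd (by omega) hdvd
      omega
    by_cases hθR : θ ∈ R
    · obtain ⟨ha, hval⟩ := hR θ hθR
      refine ⟨((p : ℤ) - 1) * a θ, ?_, ?_⟩
      · simp only [S, fun u => haval θ u _ (hval u), Finset.sum_const, Finset.card_univ,
          ZMod.card_units, nsmul_eq_mul]
        push_cast [Nat.cast_sub hp.one_le]
        ring
      · rcases ha with h | h
        · have h1 := Consequences.degree_of_const hxp θ (a := a θ)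
            (fun u => by simpa using hval u 1 (one_mem V))
          rw [h, Int.cast_one] at h1
          have hx1 : (θ : G → ℂ) x = (a θ : ℤ) := by
            have := hval 1 1 (one_mem V)
            rwa [mul_one, Units.val_one, pow_val_one hxp] at this
          have := hbig (a θ) hx1 h h1
          rw [h]
          have := mul_le_mul_of_nonneg_left this (by linarith : (0 : ℤ) ≤ (p : ℤ) - 1)
          linarith
        · rw [h]
          nlinarith
    by_cases hθY : ∃ q, Y q = θ
    · obtain ⟨q, rfl⟩ := hθY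
      set e := Nat.card (autE (pow_eq_one_of_order hx)) with he
      have hSY : S (Y q) = ((-(δ * (e : ℤ)) : ℤ) : ℂ) := by
        simp only [S, fun u => haval (Y q) u _ (hY q u)]
        rw [← Finset.mul_sum, ← Finset.sum_fiberwise Finset.univ (fun u : (ZMod p)ˣ =>
          (QuotientGroup.mk u : (ZMod p)ˣ ⧸ autE (pow_eq_one_of_order hx)))]
        rw [Finset.sum_congr rfl fun r _ => by
          rw [Finset.sum_congr rfl fun u hu => by rw [(Finset.mem_filter.mp hu).2],
            Finset.sum_const, card_fiber, nsmul_eq_mul], ← Finset.mul_sum]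
        have hs : ∑ r, eta (autE (pow_eq_one_of_order hx)) (q * r) = -1 := by
          rw [← sum_eta_shift (autE (pow_eq_one_of_order hx)) q]
          exact Finset.sum_congr rfl fun r _ => by rw [mul_comm q]
        rw [hs, he, Nat.card_eq_fintype_card]
        push_cast
        ring
      refine ⟨_, hSY, ?_⟩
      have hdeg := Consequences.degree_of_period (autE (pow_eq_one_of_order hx)) hxp (Y q) q
        (fun u => by simpa using hY q u 1 (one_mem V))
      rw [← he, ← hd] at hdeg
      rcases hδ with h | h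
      · rw [h]
        have : (0 : ℤ) ≤ (e : ℤ) := Int.natCast_nonneg e
        nlinarith
      · rw [h, Int.cast_neg, Int.cast_one, neg_one_mul] at hdeg
        rw [h]
        have hte := card_mul_card (E := autE (pow_eq_one_of_order hx))
        rw [← Nat.card_eq_fintype_card (α := autE (pow_eq_one_of_order hx)), ← he] at hte
        set t := Fintype.card ((ZMod p)ˣ ⧸ autE (pow_eq_one_of_order hx)) with ht
        have ht1 : 1 ≤ t := Fintype.card_pos
        rcases Nat.lt_or_ge t 2 with htlt | htge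
        · have hte1 : e = p - 1 := by rw [← hte, show t = 1 by omega, one_mul]
          haveI : Subsingleton ((ZMod p)ˣ ⧸ autE (pow_eq_one_of_order hx)) :=
            Fintype.card_le_one_iff_subsingleton.mp (by omega)
          have hx1 : ((Y q : Cfsg.IrrCharacter G) : G → ℂ) x = ((1 : ℤ) : ℂ) := by
            have hh := hY q 1 1 (one_mem V)
            rw [mul_one, Units.val_one, pow_val_one hxp] at hh
            have hs := sum_eta (autE (pow_eq_one_of_order hx))
            rw [Fintype.sum_subsingleton _ (q * QuotientGroup.mk 1)] at hs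
            rw [hh, hs, h]
            simp
          have hmod : (d : ZMod p) = 1 := by
            rw [hdeg, hte1, Nat.cast_sub hp.one_le, ZMod.natCast_self]
            simp
          have := hbig 1 hx1 rfl hmod
          rw [hte1, Nat.cast_sub hp.one_le]
          have := mul_le_mul_of_nonneg_left this (by linarith : (0 : ℤ) ≤ (p : ℤ) - 1)
          push_cast
          linarith
        · have h2e : 2 * e ≤ p - 1 := hte ▸ Nat.mul_le_mul_right e htge
          have hdvd : p ∣ d + e := by
            rw [← ZMod.natCast_eq_zero_iff, Nat.cast_add, hdeg, neg_add_cancel]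
          have hle : (p : ℤ) ≤ d + e := by exact_mod_cast Nat.le_of_dvd (by omega) hdvd
          have h2e' : 2 * (e : ℤ) ≤ p - 1 := by
            have := (Int.ofNat_le.mpr h2e)
            push_cast [Nat.cast_sub hp.one_le] at this
            exact this
          nlinarith
    · refine ⟨0, ?_, ?_⟩
      · simp only [S, Int.cast_zero]
        exact Finset.sum_eq_zero fun u _ => hzero θ hθR (fun q hq => hθY ⟨q, hq⟩) u
      · rw [mul_zero]
        nlinarith
  -- the multiplicities of the eigenvalues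
  obtain ⟨l, hl⟩ := exists_mult hxp (V := ⊥)
    (fun v hv => by rw [Subgroup.mem_bot.mp hv]; exact Commute.one_right x) (isCharacter_irr ψ)
  simp only [Consequences.aval_bot] at hl
  set Q : ℕ := ∑ j, l j ^ 2 with hQ
  have hsumf : ∑ z : ZMod p, f (x ^ z.val) = (p : ℂ) * Q := by
    simp only [f, hl, map_sum, map_mul, map_natCast, conj_chr, Finset.sum_mul_sum]
    rw [Finset.sum_comm]
    simp only [Finset.sum_comm (s := (Finset.univ : Finset (ZMod p))) (f := fun z j =>
      (l _ : ℂ) * chr p (_ * z) * ((l j : ℂ) * chr p (-(j * z))))]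
    rw [hQ, Nat.cast_sum, Finset.mul_sum]
    refine Finset.sum_congr rfl fun i _ => ?_
    have : ∀ j : ZMod p, ∑ z : ZMod p, (l i : ℂ) * chr p (i * z) * ((l j : ℂ) * chr p (-(j * z)))
        = if i = j then (l i : ℂ) * (l j : ℂ) * p else 0 := by
      intro j
      rw [show (if i = j then (l i : ℂ) * (l j : ℂ) * p else 0) =
        (l i : ℂ) * (l j : ℂ) * (if i = j then (p : ℂ) else 0) by split_ifs <;> simp,
        ← sum_chr_mul_chr i j, Finset.mul_sum]
      exact Finset.sum_congr rfl fun z _ => by rw [mul_comm z i, mul_comm z j]; ring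
    rw [Finset.sum_congr rfl fun j _ => this j, Finset.sum_ite_eq, if_pos (Finset.mem_univ i)]
    push_cast
    ring
  have hln : (∑ j, l j : ℕ) = n := by
    have h0 := hl 0
    rw [ZMod.val_zero, pow_zero, hψ1] at h0
    simp only [mul_zero, chr_zero, mul_one] at h0
    exact_mod_cast h0.symm
  have hQn : n ≤ Q := by
    rw [← hln]
    exact Finset.sum_le_sum fun j _ => Nat.le_self_pow two_ne_zero _
  choose! s hs hle using hbound
  rw [Consequences.sum_zmod_split, ZMod.val_zero, pow_zero] at hsumf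
  have hf1 : f 1 = (n : ℂ) * n := by simp [f, hψ1]
  rw [hf1, hS, ← Finset.add_sum_erase _ _ (Finset.mem_univ (oneChar G)), hone,
    Finset.sum_congr rfl fun θ hθ => by rw [hs θ (Finset.ne_of_mem_erase hθ)]] at hsumf
  have hS1 : S (oneChar G) = ((p : ℤ) - 1 : ℤ) := by
    haveI := Fintype.ofFinite V
    simp only [S, aval, finsum_eq_sum_of_fintype, oneChar_apply, Finset.sum_const,
      Finset.card_univ, nsmul_eq_mul, mul_one, ← Nat.card_eq_fintype_card,
      inv_mul_cancel₀ (Nat.cast_ne_zero.mpr Nat.card_pos.ne' : (Nat.card V : ℂ) ≠ 0)]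
    rw [Nat.card_eq_fintype_card, ZMod.card_units, Nat.cast_sub hp.one_le]
    simp
  set E' := (Finset.univ : Finset (Cfsg.IrrCharacter G)).erase (oneChar G) with hE'
  have eq1 : (n : ℤ) * n + (((p : ℤ) - 1) + ∑ θ ∈ E', (c θ : ℤ) * s θ) = (p : ℤ) * Q := by
    rw [hS1] at hsumf
    have : (((n : ℤ) * n + (((p : ℤ) - 1) + ∑ θ ∈ E', (c θ : ℤ) * s θ) : ℤ) : ℂ) =
        (((p : ℤ) * Q : ℤ) : ℂ) := by
      push_cast at hsumf ⊢
      linear_combination hsumf
    exact_mod_cast this
  have eq2 : (n : ℤ) * n = 1 + ∑ θ ∈ E', (c θ : ℤ) * (Cfsg.charDegree (θ : G → ℂ) : ℤ) := by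
    have h := hdec 1
    rw [hf1, ← Finset.add_sum_erase _ _ (Finset.mem_univ (oneChar G)), hone, oneChar_apply,
      ← hE'] at h
    simp only [DegreeBounds.Basic.charDegree_irr] at h
    have : (((n : ℤ) * n : ℤ) : ℂ) =
        ((1 + ∑ θ ∈ E', (c θ : ℤ) * (Cfsg.charDegree (θ : G → ℂ) : ℤ) : ℤ) : ℂ) := by
      push_cast at h ⊢
      linear_combination h
    exact_mod_cast this
  have hineq : ((p : ℤ) + 1) * ∑ θ ∈ E', (c θ : ℤ) * s θ ≤
      ((p : ℤ) - 1) * ∑ θ ∈ E', (c θ : ℤ) * (Cfsg.charDegree (θ : G → ℂ) : ℤ) := by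
    rw [Finset.mul_sum, Finset.mul_sum]
    refine Finset.sum_le_sum fun θ hθ => ?_
    have := mul_le_mul_of_nonneg_left (hle θ (Finset.ne_of_mem_erase hθ))
      (Int.natCast_nonneg (c θ))
    linarith
  have hQn' : (n : ℤ) ≤ Q := by exact_mod_cast hQn
  have hn2' : (2 : ℤ) ≤ n := by exact_mod_cast hn2
  have hsmall' : 2 * (n : ℤ) + 2 ≤ p := by exact_mod_cast hsmall
  have hfin : ((p : ℤ) + 1) * ((p : ℤ) * Q) ≤
      2 * p * ((n : ℤ) * n) + (p : ℤ) * ((p : ℤ) - 1) := by nlinarith
  have hfin2 : ((p : ℤ) + 1) * n ≤ 2 * ((n : ℤ) * n) + ((p : ℤ) - 1) := by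
    refine le_of_mul_le_mul_left ?_ (by linarith : (0 : ℤ) < p)
    nlinarith [mul_le_mul_of_nonneg_left hQn' (by nlinarith : (0 : ℤ) ≤ (p : ℤ) * ((p : ℤ) + 1))]
  nlinarith [mul_le_mul_of_nonneg_left hsmall' (by linarith : (0 : ℤ) ≤ (n : ℤ) - 1)]


/-- Let G be a finite group whose order is divisible by the prime p exactly once and which has no normal subgroup of order p. Then every faithful character χ of G has degree at least (p − 1)/2: 2·χ(1) + 1 ≥ p. -/
theorem result {G : Type*} [Group G] [Finite G] (p : ℕ) (hp : p.Prime) (hdiv : p ∣ Nat.card G) (hsq : ¬ p ^ 2 ∣ Nat.card G) (hnn : ∀ H : Subgroup G, H.Normal → Nat.card H ≠ p) (χ : G → ℂ) (hχ : Cfsg.IsCharacter G χ) (hfaith : ∀ g : G, χ g = χ 1 → g = 1) : p ≤ 2 * Cfsg.charDegree χ + 1 := by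
  haveI : Fact p.Prime := ⟨hp⟩
  by_contra hlt
  push Not at hlt
  obtain ⟨x, hx⟩ := exists_prime_orderOf_dvd_card' p hdiv
  set H := Subgroup.normalClosure ({x} : Set G) with hH
  have hxH : x ∈ H := Subgroup.subset_normalClosure rfl
  set y : H := ⟨x, hxH⟩ with hy
  have hy' : orderOf y = p := by rw [← hx, ← Subgroup.orderOf_coe]
  have h2H : ¬ p ^ 2 ∣ Nat.card H := fun h => hsq (h.trans (Subgroup.card_subgroup_dvd_card H))
  have hnnH : ∀ K : Subgroup H, K.Normal → Nat.card K ≠ p := by
    intro K hK hcard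
    haveI := hK
    refine hnn (K.map H.subtype) ⟨fun k hk g => ?_⟩ (by
      rw [Nat.card_congr (K.equivMapOfInjective H.subtype H.subtype_injective).symm.toEquiv, hcard])
    obtain ⟨k, hk, rfl⟩ := hk
    have hgk : g * (k : G) * g⁻¹ ∈ H := (inferInstance : H.Normal).conj_mem _ k.2 g
    refine ⟨⟨g * (k : G) * g⁻¹, hgk⟩, ?_, rfl⟩
    by_cases hk1 : k = 1
    · subst hk1
      have h1 : (⟨g * ((1 : H) : G) * g⁻¹, hgk⟩ : H) = 1 := Subtype.ext (by simp)
      rw [h1]
      exact one_mem K
    · have hko : orderOf k = p := by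
        have hd := Subgroup.orderOf_dvd_natCard K hk
        rw [hcard] at hd
        rcases (Nat.dvd_prime hp).mp hd with h | h
        · exact absurd (orderOf_eq_one_iff.mp h) hk1
        · exact h
      have ho : orderOf (⟨g * (k : G) * g⁻¹, hgk⟩ : H) = p := by
        rw [← Subgroup.orderOf_coe, show ((⟨g * (k : G) * g⁻¹, hgk⟩ : H) : G) =
          MulAut.conj g (k : G) from rfl, MulEquiv.orderOf_eq, Subgroup.orderOf_coe, hko]
      rw [← zpowers_of_dvd h2H ho hcard]
      exact Subgroup.mem_zpowers _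
  have hgenH : Subgroup.normalClosure ({y} : Set H) = ⊤ := by
    obtain ⟨P, hP⟩ := Consequences.exists_sylow hy' h2H
    rw [eq_top_iff]
    intro z _
    suffices hsuff : H ≤ (Subgroup.normalClosure ({y} : Set H)).map H.subtype by
      obtain ⟨z', hz', hzz⟩ := hsuff z.2
      rwa [← Subtype.ext hzz]
    refine (Subgroup.closure_le _).mpr fun w hw => ?_
    obtain ⟨a, ha, hw'⟩ := Group.mem_conjugatesOfSet_iff.mp hw
    rw [Set.mem_singleton_iff] at ha
    rw [ha] at hw'
    obtain ⟨g, rfl⟩ := isConj_iff.mp hw'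
    have hwH : g * x * g⁻¹ ∈ H := (inferInstance : H.Normal).conj_mem _ hxH g
    set w' : H := ⟨g * x * g⁻¹, hwH⟩ with hw''
    have how : orderOf w' = p := by
      rw [← Subgroup.orderOf_coe, show (w' : G) = MulAut.conj g x from rfl, MulEquiv.orderOf_eq, hx]
    obtain ⟨Q, hQ⟩ := Consequences.exists_sylow how h2H
    obtain ⟨h, hh⟩ := MulAction.exists_smul_eq H P Q
    have hmem : w' ∈ (Q : Subgroup H) := hQ ▸ Subgroup.mem_zpowers w'
    rw [← hh, Sylow.coe_subgroup_smul, Subgroup.mem_smul_pointwise_iff_exists, hP] at hmem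
    obtain ⟨t, ht, htw⟩ := hmem
    refine ⟨w', ?_, rfl⟩
    show w' ∈ Subgroup.normalClosure ({y} : Set H)
    rw [← htw]
    show h * t * h⁻¹ ∈ Subgroup.normalClosure ({y} : Set H)
    exact Subgroup.normalClosure_normal.conj_mem _
      ((Subgroup.zpowers_le.mpr (Subgroup.subset_normalClosure (Set.mem_singleton y))) ht) h
  haveI := Fintype.ofFinite H
  haveI := Fintype.ofFinite (Cfsg.IrrCharacter H)
  let χH : H → ℂ := fun h => χ h
  have hχH : Cfsg.IsCharacter H χH := Characters.Basic.isCharacter_comp H.subtype hχ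
  choose m hm using fun θ : Cfsg.IrrCharacter H =>
    Characters.Basic.exists_classInner_nat hχH (Characters.Basic.isCharacter_irr θ)
  have hdec : ∀ h, χH h = ∑ θ : Cfsg.IrrCharacter H, (m θ : ℂ) * (θ : H → ℂ) h := by
    intro h
    rw [Characters.Complete.classFunction_eq_sum
      (Characters.Basic.isClassFunction_of_isCharacter hχH), Finset.sum_apply]
    exact Finset.sum_congr rfl fun θ _ => by rw [Pi.smul_apply, smul_eq_mul, hm]
  obtain ⟨θ, hθm, hθx, hθlin⟩ : ∃ θ : Cfsg.IrrCharacter H, m θ ≠ 0 ∧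
      (θ : H → ℂ) y ≠ (θ : H → ℂ) 1 ∧ 2 ≤ Cfsg.charDegree (θ : H → ℂ) := by
    by_contra hcon
    push Not at hcon
    have hcomm : ∀ a b : H, a * b = b * a := by
      intro a b
      have hker : ∀ θ : Cfsg.IrrCharacter H, m θ ≠ 0 →
          (θ : H → ℂ) (a * b * (b * a)⁻¹) = (θ : H → ℂ) 1 := by
        intro θ hθ
        by_cases hyk : (θ : H → ℂ) y = (θ : H → ℂ) 1
        · have hmem := (Characters.Kernel.mem_charKer (Characters.Basic.isCharacter_irr θ) y).mpr hyk
          haveI := Characters.Kernel.charKer_normal (Characters.Basic.isCharacter_irr θ)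
          have := hgenH ▸ Subgroup.normalClosure_le_normal (Set.singleton_subset_iff.mpr hmem)
          exact (Characters.Kernel.mem_charKer _ _).mp (this (Subgroup.mem_top _))
        · have hd : Cfsg.charDegree (θ : H → ℂ) = 1 := by
            have h1 := DegreeBounds.Basic.charDegree_pos θ
            have h2 := hcon θ hθ hyk
            omega
          have h1 : (θ : H → ℂ) 1 = 1 := by
            rw [DegreeBounds.Basic.charDegree_irr, hd, Nat.cast_one]
          let F := Characters.Linear.degOneHom (Characters.Basic.isCharacter_irr θ) h1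
          have h3 : F (a * b * (b * a)⁻¹) = 1 := by
            rw [map_mul, map_inv, map_mul, map_mul, mul_comm (F a), mul_inv_cancel]
          rw [h1, ← Characters.Linear.degOneHom_apply (Characters.Basic.isCharacter_irr θ) h1]
          exact (congrArg Units.val h3).trans Units.val_one
      have heq : χH (a * b * (b * a)⁻¹) = χH 1 := by
        rw [hdec, hdec]
        refine Finset.sum_congr rfl fun θ _ => ?_
        by_cases hθ : m θ = 0
        · simp [hθ]
        · rw [hker θ hθ]
      have h1 : (a * b * (b * a)⁻¹ : H) = 1 := Subtype.ext (hfaith _ heq)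
      exact mul_inv_eq_one.mp h1
    refine hnnH (Subgroup.zpowers y) ⟨fun k hk g => ?_⟩ (by rw [Nat.card_zpowers, hy'])
    rwa [hcomm g k, mul_inv_cancel_right]
  have hle : Cfsg.charDegree (θ : H → ℂ) ≤ Cfsg.charDegree χ := by
    obtain ⟨n, hn⟩ := Characters.Basic.exists_degree hχ
    have hχd : Cfsg.charDegree χ = n := by rw [Cfsg.charDegree, hn]; simp
    rw [hχd]
    have h := hdec 1
    have hχ1 : χH 1 = (n : ℂ) := by show χ ((1 : H) : G) = _; rw [OneMemClass.coe_one, hn]
    rw [hχ1] at h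
    simp only [DegreeBounds.Basic.charDegree_irr] at h
    have h' : n = ∑ ψ, m ψ * Cfsg.charDegree (ψ : H → ℂ) := by exact_mod_cast h
    rw [h']
    refine le_trans ?_ (Finset.single_le_sum (fun ψ _ => Nat.zero_le _) (Finset.mem_univ θ))
    exact Nat.le_mul_of_pos_left _ (Nat.pos_of_ne_zero hθm)
  haveI := BlocksChars5.Basic.charKer_normal θ
  set K := BlocksChars5.Basic.charKer θ with hK
  obtain ⟨φ, hφ⟩ := BlocksChars5.Basic.exists_deflate θ K le_rfl
  have hφv : ∀ h : H, (φ : H ⧸ K → ℂ) h = (θ : H → ℂ) h := fun h => by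
    rw [← hφ, BlocksChars5.Basic.inflate_apply]
  have hdeg : Cfsg.charDegree (φ : H ⧸ K → ℂ) = Cfsg.charDegree (θ : H → ℂ) :=
    BlocksChars5.Basic.charDegree_congr (by rw [← hφv 1]; rfl)
  have hφf : ∀ g : H ⧸ K, (φ : H ⧸ K → ℂ) g = (φ : H ⧸ K → ℂ) 1 → g = 1 := by
    intro g
    obtain ⟨h, rfl⟩ := QuotientGroup.mk_surjective g
    intro he
    rw [hφv, ← QuotientGroup.mk_one, hφv] at he
    exact (QuotientGroup.eq_one_iff h).mpr ((BlocksChars5.Basic.mem_charKer θ h).mpr he)
  have hyne : (QuotientGroup.mk y : H ⧸ K) ≠ 1 := fun h =>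
    hθx ((BlocksChars5.Basic.mem_charKer θ y).mp ((QuotientGroup.eq_one_iff y).mp h))
  have hyK : orderOf (QuotientGroup.mk y : H ⧸ K) = p :=
    orderOf_eq_prime (by rw [← QuotientGroup.mk_pow, ← hy', pow_orderOf_eq_one, QuotientGroup.mk_one])
      hyne
  have hgenK : Subgroup.normalClosure ({(QuotientGroup.mk y : H ⧸ K)} : Set (H ⧸ K)) = ⊤ := by
    rw [eq_top_iff]
    intro g _
    obtain ⟨h, rfl⟩ := QuotientGroup.mk_surjective g
    have : Subgroup.normalClosure ({y} : Set H) ≤
        (Subgroup.normalClosure ({(QuotientGroup.mk y : H ⧸ K)} : Set (H ⧸ K))).comap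
          (QuotientGroup.mk' K) :=
      Subgroup.normalClosure_le_normal (Set.singleton_subset_iff.mpr
        (Subgroup.subset_normalClosure rfl))
    exact this (hgenH ▸ Subgroup.mem_top h)
  have h2K : ¬ p ^ 2 ∣ Nat.card (H ⧸ K) := fun h =>
    h2H (h.trans (Subgroup.card_quotient_dvd_card K))
  refine core hyK h2K hgenK φ hφf (hdeg ▸ hθlin) (by rw [hdeg]; omega) ?_
  intro L hL hcard
  haveI := hL
  have hLz := zpowers_of_dvd h2K hyK hcard
  have htop : L = ⊤ := top_le_iff.mp (hgenK ▸ Subgroup.normalClosure_le_normal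
    (Set.singleton_subset_iff.mpr (hLz ▸ Subgroup.mem_zpowers _)))
  have hcyc : ∀ a b : H ⧸ K, a * b = b * a := by
    intro a b
    have ha : a ∈ Subgroup.zpowers (QuotientGroup.mk y : H ⧸ K) := by rw [hLz, htop]; trivial
    have hb : b ∈ Subgroup.zpowers (QuotientGroup.mk y : H ⧸ K) := by rw [hLz, htop]; trivial
    obtain ⟨i, rfl⟩ := ha
    obtain ⟨j, rfl⟩ := hb
    exact ((Commute.refl _).zpow_zpow i j).eq
  have := BlocksChars5.Basic.degree_eq_one_of_comm φ hcyc
  rw [DegreeBounds.Basic.charDegree_irr] at this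
  norm_cast at this
  omega

end Cfsg.Agent.S4503
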