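import Cfsg.Statements.S1165
import Cfsg.Agent.Lib.RankOne.Basic

set_option autoImplicit false
open Cfsg Cfsg.Agent.Lib.RankOne.Basic Cfsg.Agent.Lib.RankOne.Involution
open scoped Pointwise

namespace Cfsg.Agent.S1165

/-- In the rank-one set-up (`G` finite and doubly transitive on `Ω`, `t` an involution moving `a`, `Q` normal in `G_a` with `G_a = Q D`, `Q ⊓ D = 1` for the two-point stabiliser `D = G_a ⊓ G_{t • a}`, `|Q|` even, `|D|` odd): every `x ∈ Q`, `x ≠ 1`, determines unique `g, f ∈ Q`, `h ∈ D` with `t x t = g h t f` (a consequence of the canonical form). For these: (H1) the `f`-part of `x⁻¹` is `g⁻¹`; (H2) the `f`-part of `f` is `x`; (H3) for `a ∈ D` the `f`-part of `a⁻¹ x a` is `(t a t)⁻¹ f (t a t)`; (H4) the `h`-part of `a⁻¹ x a` is `(t a t)⁻¹ h a`, that of `x⁻¹` is `t h⁻¹ t`, and that of `f` is `h⁻¹`. -/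
theorem result {G Ω : Type*} [Group G] [Finite G] [MulAction G Ω] {a : Ω} {t : G} {Q : Subgroup G}
    (hS : Cfsg.IsRankOneSetup G Ω a t Q)
    (x g h f : G) (hx : x ∈ Q) (hx1 : x ≠ 1) (hg : g ∈ Q) (hh : h ∈ (MulAction.stabilizer G a ⊓ MulAction.stabilizer G (t • a))) (hf : f ∈ Q)
    (heq : t * x * t = g * h * t * f) :
    (∀ g₁ h₁ f₁ : G, g₁ ∈ Q → h₁ ∈ (MulAction.stabilizer G a ⊓ MulAction.stabilizer G (t • a)) → f₁ ∈ Q → t * x⁻¹ * t = g₁ * h₁ * t * f₁ →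
        f₁ = g⁻¹ ∧ h₁ = t * h⁻¹ * t) ∧
      (∀ g₂ h₂ f₂ : G, g₂ ∈ Q → h₂ ∈ (MulAction.stabilizer G a ⊓ MulAction.stabilizer G (t • a)) → f₂ ∈ Q → t * f * t = g₂ * h₂ * t * f₂ →
        f₂ = x ∧ h₂ = h⁻¹) ∧
      ∀ c ∈ (MulAction.stabilizer G a ⊓ MulAction.stabilizer G (t • a)), ∀ g₃ h₃ f₃ : G, g₃ ∈ Q → h₃ ∈ (MulAction.stabilizer G a ⊓ MulAction.stabilizer G (t • a)) → f₃ ∈ Q →
        t * (c⁻¹ * x * c) * t = g₃ * h₃ * t * f₃ →
          f₃ = (t * c * t)⁻¹ * f * (t * c * t) ∧ h₃ = (t * c * t)⁻¹ * h * c := by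
  have uniq : ∀ g g' h h' f f' : G, g ∈ Q → g' ∈ Q → h ∈ twoStab G a t → h' ∈ twoStab G a t → f ∈ Q →
      f' ∈ Q → g * h * t * f = g' * h' * t * f' → g = g' ∧ h = h' ∧ f = f' := by
    intro g g' h h' f f' hg hg' hh hh' hf hf' he
    have h1 : f⁻¹ • (t • a) = f'⁻¹ • (t • a) := by
      have hh1 := congrArg (fun z : G => z⁻¹ • a) he
      simpa [mul_smul, t_inv hS, Q_inv_fix hS hg, Q_inv_fix hS hg', inv_smul_eq_iff.2 hh.1.symm,
        inv_smul_eq_iff.2 hh'.1.symm] using hh1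
    have h2 := inv_injective (Q_smul_inj hS (Q.inv_mem hf) (Q.inv_mem hf') (t_smul_ne hS) h1)
    subst h2
    obtain ⟨e1, e2⟩ := Q_D_unique hS hg hg' hh hh' (mul_right_cancel (mul_right_cancel he))
    exact ⟨e1, e2, rfl⟩
  have hti := t_inv hS
  have tt := tt_mul hS
  refine ⟨fun g₁ h₁ f₁ hg₁ hh₁ hf₁ e => ?_, fun g₂ h₂ f₂ hg₂ hh₂ hf₂ e => ?_, ?_⟩
  · obtain ⟨-, e2, e3⟩ := uniq _ f⁻¹ _ (t * h⁻¹ * t) _ g⁻¹ hg₁ (Q.inv_mem hf) hh₁
      (t_conj_mem hS ((twoStab G a t).inv_mem hh)) hf₁ (Q.inv_mem hg) (by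
        rw [← e, show t * x⁻¹ * t = (t * x * t)⁻¹ by rw [mul_inv_rev, mul_inv_rev, hti]; group, heq]
        simp [mul_assoc, hti, tt])
    exact ⟨e3, e2⟩
  · obtain ⟨-, e2, e3⟩ := uniq _ (h⁻¹ * g⁻¹ * h) _ h⁻¹ _ x hg₂ (twoStab_norm' hS hh (Q.inv_mem hg))
      hh₂ ((twoStab G a t).inv_mem hh) hf₂ hx (by
        rw [← e, show t * f * t = h⁻¹ * g⁻¹ * (g * h * t * f) * t by group, ← heq]
        simp [mul_assoc, hS.mul_self])
    exact ⟨e3, e2⟩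
  · intro c hc g₃ h₃ f₃ hg₃ hh₃ hf₃ e
    have hc' := t_conj_mem hS hc
    have key : t * (c⁻¹ * x * c) * t =
        ((t * c * t)⁻¹ * g * (t * c * t)) * ((t * c * t)⁻¹ * h * c) * t *
          ((t * c * t)⁻¹ * f * (t * c * t)) := by
      have e1 : t * (c⁻¹ * x * c) * t = (t * c * t)⁻¹ * (t * x * t) * (t * c * t) := by
        simp [mul_assoc, hti, tt]
      rw [e1, heq]
      simp [mul_assoc, hti, tt]
    obtain ⟨-, e2, e3⟩ := uniq _ _ _ _ _ _ hg₃ (twoStab_norm' hS hc' hg) hh₃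
      ((twoStab G a t).mul_mem ((twoStab G a t).mul_mem ((twoStab G a t).inv_mem hc') hh) hc) hf₃
      (twoStab_norm' hS hc' hf) (e.symm.trans key)
    exact ⟨e3, e2⟩

end Cfsg.Agent.S1165
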