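import Cfsg.Statements.S1166
import Cfsg.Agent.Lib.RankOne.Basic

set_option autoImplicit false
open Cfsg Cfsg.Agent.Lib.RankOne.Basic Cfsg.Agent.Lib.RankOne.Involution
open scoped Pointwise

namespace Cfsg.Agent.S1166

/-- In the rank-one set-up (`G` finite and doubly transitive on `Ω`, `t` an involution moving `a`, `Q` normal in `G_a` with `G_a = Q D`, `Q ⊓ D = 1` for the two-point stabiliser `D = G_a ⊓ G_{t • a}`, `|Q|` even, `|D|` odd), with `t x t = g_x h_x t f_x` and `t y t = g_y h_y t f_y` (`g, f ∈ Q`, `h ∈ D`) for `x, y ∈ Q ∖ 1` with `x y ≠ 1`: then `z = f_x g_y ≠ 1`, and if `t z t = g_z h_z t f_z` and `t (x y) t = g' h' t f'` then `f' = (t h_y t)⁻¹ f_z (t h_y t) f_y` and `h' = h_x h_z h_y` (H6). -/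
theorem result {G Ω : Type*} [Group G] [Finite G] [MulAction G Ω] {a : Ω} {t : G} {Q : Subgroup G}
    (hS : Cfsg.IsRankOneSetup G Ω a t Q)
    (x y gx hx fx gy hy fy : G) (hxQ : x ∈ Q) (hx1 : x ≠ 1) (hyQ : y ∈ Q) (hy1 : y ≠ 1) (hxy : x * y ≠ 1)
    (hgx : gx ∈ Q) (hhx : hx ∈ (MulAction.stabilizer G a ⊓ MulAction.stabilizer G (t • a))) (hfx : fx ∈ Q) (ex : t * x * t = gx * hx * t * fx)
    (hgy : gy ∈ Q) (hhy : hy ∈ (MulAction.stabilizer G a ⊓ MulAction.stabilizer G (t • a))) (hfy : fy ∈ Q) (ey : t * y * t = gy * hy * t * fy) :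
    fx * gy ≠ 1 ∧
      ∀ gz hz fz g' h' f' : G, gz ∈ Q → hz ∈ (MulAction.stabilizer G a ⊓ MulAction.stabilizer G (t • a)) → fz ∈ Q → t * (fx * gy) * t = gz * hz * t * fz →
        g' ∈ Q → h' ∈ (MulAction.stabilizer G a ⊓ MulAction.stabilizer G (t • a)) → f' ∈ Q → t * (x * y) * t = g' * h' * t * f' →
          f' = (t * hy * t)⁻¹ * fz * (t * hy * t) * fy ∧ h' = hx * hz * hy := by
  have tt := tt_mul hS
  have hti := t_inv hS
  have htxyt : t * (x * y) * t = gx * hx * t * (fx * gy) * hy * t * fy := by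
    calc t * (x * y) * t = (t * x * t) * (t * y * t) := by simp [mul_assoc, tt]
      _ = _ := by rw [ex, ey]; group
  refine ⟨fun h => ?_, ?_⟩
  · rw [mul_assoc (gx * hx) t (fx * gy), h, mul_one] at htxyt
    have h1 : (t * (x * y) * t) • a = a := by
      rw [htxyt]
      simp [mul_smul, Q_fix hS hfy, Q_fix hS hgx, (mem_twoStab.1 hhy).2, (mem_twoStab.1 hhx).1,
        tt_smul hS]
    rw [mul_smul, mul_smul, mul_smul] at h1
    have h2 : (x * y) • (t • a) = t • a := by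
      rw [mul_smul]; conv_rhs => rw [← h1, tt_smul hS]
    exact hxy (Q_free hS (Q.mul_mem hxQ hyQ) (t_smul_ne hS) h2)
  · intro gz hz fz g' h' f' hgz hhz hfz ez hg' hh' hf' e
    have he := t_conj_mem hS hhy
    have key : g' * h' * t * f' =
        (gx * (hx * gz * hx⁻¹)) * (hx * hz * hy) * t * ((t * hy * t)⁻¹ * fz * (t * hy * t) * fy) := by
      rw [← e, htxyt]
      calc gx * hx * t * (fx * gy) * hy * t * fy
          = gx * hx * (t * (fx * gy) * t) * (t * hy * t) * fy := by simp [mul_assoc, tt]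
        _ = _ := by rw [ez]; simp [mul_assoc, hti, tt]
    have hgQ : gx * (hx * gz * hx⁻¹) ∈ Q := Q.mul_mem hgx (twoStab_norm hS hhx hgz)
    have hhD : hx * hz * hy ∈ twoStab G a t :=
      (twoStab G a t).mul_mem ((twoStab G a t).mul_mem hhx hhz) hhy
    have hfQ : (t * hy * t)⁻¹ * fz * (t * hy * t) * fy ∈ Q :=
      Q.mul_mem (twoStab_norm' hS he hfz) hfy
    have h1 : f'⁻¹ • (t • a) = ((t * hy * t)⁻¹ * fz * (t * hy * t) * fy)⁻¹ • (t • a) := by
      have hh1 := congrArg (fun z : G => z⁻¹ • a) key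
      have fa : ∀ {q : G}, q ∈ Q → ∀ {d : G}, d ∈ twoStab G a t → ∀ f : G,
          (q * d * t * f)⁻¹ • a = f⁻¹ • (t • a) := fun {q} hq {d} hd f => by
        rw [mul_inv_rev, mul_inv_rev, mul_inv_rev, mul_smul, mul_smul, mul_smul, Q_inv_fix hS hq,
          inv_smul_eq_iff.2 hd.1.symm, hti]
      simpa only [fa hg' hh', fa hgQ hhD] using hh1
    have h2 := inv_injective (Q_smul_inj hS (Q.inv_mem hf') (Q.inv_mem hfQ) (t_smul_ne hS) h1)
    rw [h2] at key
    exact ⟨h2, (Q_D_unique hS hg' hgQ hh' hhD (mul_right_cancel (mul_right_cancel key))).2⟩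

end Cfsg.Agent.S1166
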