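import Cfsg.Statements.S1124
import Cfsg.Agent.Lib.RankOne.Basic

set_option autoImplicit false
open scoped Pointwise
open Cfsg Cfsg.Agent.Lib.RankOne.Basic Cfsg.Agent.Lib.RankOne.Involution
open scoped Pointwise

namespace Cfsg.Agent.S1124

/-- Let `t` be an element of order 2 of a finite group normalising a subgroup `X` of odd order, `Y = C_X(t)` and `Z` the set of elements of `X` inverted by `t`. Then `(y, z) ↦ y z` is a bijection `Y × Z → X`, so `|X| = |Y| |Z|`, and the subgroup generated by `Z` is normal in `X`. -/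
theorem result {M : Type*} [Group M] [Finite M]
    (t : M) (ht : orderOf t = 2) (X : Subgroup M) (hodd : Odd (Nat.card X))
    (hnorm : ∀ x ∈ X, t * x * t⁻¹ ∈ X) :
    (∀ x ∈ X, ∃! p : M × M, p.1 ∈ X ⊓ Subgroup.centralizer {t} ∧ p.2 ∈ Cfsg.invertedBy X t ∧ x = p.1 * p.2) ∧
      Nat.card X = Nat.card ↥(X ⊓ Subgroup.centralizer {t}) * Nat.card (Cfsg.invertedBy X t) ∧
      ∀ x ∈ X, MulAut.conj x • Subgroup.closure (Cfsg.invertedBy X t) = Subgroup.closure (Cfsg.invertedBy X t) := by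
  have ht2 : t * t = 1 := by rw [← sq, ← ht]; exact pow_orderOf_eq_one t
  have mk : ∀ c, c ∈ X ⊓ Subgroup.centralizer {t} ↔ c ∈ X ∧ t * c * t⁻¹ = c := fun c => by
    rw [Subgroup.mem_inf, Subgroup.mem_centralizer_singleton_iff, mul_inv_eq_iff_eq_mul]
    tauto
  have ex : ∀ x ∈ X, ∃! p : M × M, p.1 ∈ X ⊓ Subgroup.centralizer {t} ∧
      p.2 ∈ Cfsg.invertedBy X t ∧ x = p.1 * p.2 := by
    intro x hx
    obtain ⟨c, hc, i, hi, hct, hit, h⟩ := exists_decomp hodd ht2 hnorm hx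
    refine ⟨(c, i), ⟨(mk c).2 ⟨hc, hct⟩, ⟨hi, hit⟩, h⟩, ?_⟩
    rintro ⟨c', i'⟩ ⟨hc', hi', h'⟩
    obtain ⟨h1, h2⟩ := decomp_unique hodd hi'.1 hi ((mk _).1 hc').2 hct hi'.2 hit (h'.symm.trans h)
    rw [Prod.mk.injEq]
    exact ⟨h1, h2⟩
  refine ⟨ex, ?_, ?_⟩
  · rw [← Nat.card_prod]
    symm
    refine Nat.card_eq_of_bijective (fun p => ⟨p.1.1 * p.2.1, X.mul_mem p.1.2.1 p.2.2.1⟩)
      ⟨fun p q h => ?_, fun x => ?_⟩
    · have h' := congrArg Subtype.val h
      simp only at h'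
      obtain ⟨h1, h2⟩ := decomp_unique hodd p.2.2.1 q.2.2.1 ((mk _).1 p.1.2).2 ((mk _).1 q.1.2).2
        p.2.2.2 q.2.2.2 h'
      exact Prod.ext (Subtype.ext h1) (Subtype.ext h2)
    · obtain ⟨⟨c, i⟩, ⟨hc, hi, h⟩, -⟩ := ex x x.2
      exact ⟨(⟨c, hc⟩, ⟨i, hi⟩), Subtype.ext h.symm⟩
  · intro x hx
    have key : X ≤ Subgroup.normalizer
        (Subgroup.closure (Cfsg.invertedBy X t) : Set M) := by
      intro x hx
      obtain ⟨⟨c, i⟩, ⟨hc, hi, h⟩, -⟩ := ex x hx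
      obtain ⟨hcX, hct⟩ := (mk c).1 hc
      rw [h]
      refine Subgroup.mul_mem _ (Subgroup.mem_normalizer_iff.2 fun y => ?_)
        (Subgroup.le_normalizer (Subgroup.subset_closure hi))
      have sub : ∀ d ∈ X, t * d * t⁻¹ = d →
          (Subgroup.closure (Cfsg.invertedBy X t)).map (MulAut.conj d).toMonoidHom ≤
            Subgroup.closure (Cfsg.invertedBy X t) := by
        intro d hd hdt
        rw [MonoidHom.map_closure]
        refine Subgroup.closure_mono ?_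
        rintro _ ⟨j, hj, rfl⟩
        refine ⟨X.mul_mem (X.mul_mem hd hj.1) (X.inv_mem hd), ?_⟩
        show t * (d * j * d⁻¹) * t⁻¹ = (d * j * d⁻¹)⁻¹
        calc t * (d * j * d⁻¹) * t⁻¹ = (t * d * t⁻¹) * (t * j * t⁻¹) * (t * d * t⁻¹)⁻¹ := by group
          _ = d * j⁻¹ * d⁻¹ := by rw [hdt, hj.2]
          _ = _ := by group
      refine ⟨fun hy => sub c hcX hct ⟨y, hy, rfl⟩, fun hy => ?_⟩
      have := sub c⁻¹ (X.inv_mem hcX) (by rw [← conj_inv, hct]) ⟨_, hy, rfl⟩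
      simpa [mul_assoc] using this
    have hn := key hx
    ext y
    rw [Subgroup.mem_pointwise_smul_iff_inv_smul_mem]
    simp only [← map_inv, MulAut.smul_def, MulAut.conj_apply, inv_inv]
    rw [Subgroup.mem_normalizer_iff.1 hn (x⁻¹ * y * x),
      show x * (x⁻¹ * y * x) * x⁻¹ = y by group]

end Cfsg.Agent.S1124
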