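import Cfsg.Statements.S1120
import Cfsg.Agent.Lib.RankOne.Basic

set_option autoImplicit false
open Cfsg Cfsg.Agent.Lib.RankOne.Basic Cfsg.Agent.Lib.RankOne.Involution
open scoped Pointwise

namespace Cfsg.Agent.S1120

/-- In the rank-one set-up (`G` finite and doubly transitive on `Ω`, `t` an involution moving `a`, `Q` normal in `G_a` with `G_a = Q D`, `Q ⊓ D = 1` for the two-point stabiliser `D = G_a ⊓ G_{t • a}`, `|Q|` even, `|D|` odd), if `G` has 2-rank at least 2 then `O_{2'}(G)` equals the normal core of `G_a`. -/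
theorem result {G Ω : Type*} [Group G] [Finite G] [MulAction G Ω] {a : Ω} {t : G} {Q : Subgroup G}
    (hS : Cfsg.IsRankOneSetup G Ω a t Q)
    (h2 : ∃ x y : G, x ≠ 1 ∧ y ≠ 1 ∧ x ≠ y ∧ x * x = 1 ∧ y * y = 1 ∧ x * y = y * x) :
    Cfsg.pPrimeCore 2 G = (MulAction.stabilizer G a).normalCore := by
  obtain ⟨x, y, hx1, hy1, hxy, hx, hy, hcomm⟩ := h2
  have hle : (MulAction.stabilizer G a).normalCore ≤ twoStab G a t := fun g hg => by
    refine ⟨(MulAction.stabilizer G a).normalCore_le hg, ?_⟩
    have := hg t⁻¹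
    rw [inv_inv, MulAction.mem_stabilizer_iff, mul_smul, mul_smul, inv_smul_eq_iff] at this
    exact this
  refine le_antisymm ?_ ?_
  · refine sSup_le fun O hO => ?_
    obtain ⟨hOn, hOcop⟩ := hO
    haveI := hOn
    have hodd : Odd (Nat.card O) := Nat.coprime_two_right.1 hOcop
    obtain ⟨c, hxc, hxu⟩ := exists_fixed hS hx1 hx
    have hyc : y • c = c := hxu _ (by rw [← mul_smul, hcomm, mul_smul, hxc])
    have hxy1 : x * y ≠ 1 := fun h => hxy (by
      calc x = x * (y * y) := by rw [hy, mul_one]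
        _ = y := by rw [← mul_assoc, h, one_mul])
    have hxy2 : x * y * (x * y) = 1 := by
      calc x * y * (x * y) = x * (y * x) * y := by group
        _ = (x * x) * (y * y) := by rw [← hcomm]; group
        _ = 1 := by rw [hx, hy, mul_one]
    have key : ∀ z : G, z ≠ 1 → z * z = 1 → z • c = c → ∀ h ∈ O, z * h * z⁻¹ = h →
        h ∈ MulAction.stabilizer G c := fun z hz1 hz hzc h _ hh => by
      obtain ⟨d, hd, hdu⟩ := exists_fixed hS hz1 hz
      rw [mul_inv_eq_iff_eq_mul] at hh
      rw [MulAction.mem_stabilizer_iff, hdu c hzc]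
      refine hdu _ ?_
      rw [← mul_smul, hh, mul_smul, hd]
    have hOc : O ≤ MulAction.stabilizer G c :=
      le_of_four_group hodd hx hy hcomm (fun h hh => hOn.conj_mem h hh x)
        (fun h hh => hOn.conj_mem h hh y) (key x hx1 hx hxc) (key y hy1 hy hyc)
        (key (x * y) hxy1 hxy2 (by rw [mul_smul, hyc, hxc]))
    obtain ⟨g, rfl⟩ := (pretransitive hS).exists_smul_eq a c
    refine (Subgroup.normal_le_normalCore (hN := hOn)).2 fun o ho => ?_
    have := hOc (hOn.conj_mem o ho g)
    rw [MulAction.mem_stabilizer_iff, mul_smul, mul_smul, inv_smul_smul] at this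
    exact MulAction.mem_stabilizer_iff.2 (smul_left_cancel g this)
  · exact le_sSup ⟨Subgroup.normalCore_normal _, Nat.coprime_two_right.2
      (hS.odd_card.of_dvd_nat (Subgroup.card_dvd_of_le hle))⟩

end Cfsg.Agent.S1120
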