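import Cfsg.Statements.S0225
import Cfsg.Agent.Lib.ZStar.RankOne


set_option autoImplicit false
open Cfsg

namespace Cfsg.Agent.S0225

/-- If a finite group G has even order but contains no Klein four-subgroup (2-rank 1), then some involution z of G is central modulo a normal subgroup of odd order: there is a normal subgroup N of odd order containing every commutator z g z⁻¹ g⁻¹. -/
theorem result {G : Type*} [Group G] [Finite G] (heven : Even (Nat.card G)) (hrank : ∀ E : Subgroup G, ¬ IsKleinFour E) : ∃ z : G, orderOf z = 2 ∧ ∃ N : Subgroup G, N.Normal ∧ Odd (Nat.card N) ∧ ∀ g : G, z * g * z⁻¹ * g⁻¹ ∈ N := by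
  obtain ⟨z, hz⟩ := Lib.Involutions.Basic.exists_invol heven
  obtain ⟨P, hP⟩ := (IsPGroup.of_card (p := 2) (n := 1) (by rw [Nat.card_zpowers, hz, pow_one]) :
    IsPGroup 2 (Subgroup.zpowers z)).exists_le_sylow
  have hzP : z ∈ (P : Subgroup G) := hP (Subgroup.mem_zpowers z)
  refine ⟨z, hz, Lib.ZStar.UniqueCase.zstar P z hz hzP fun g hg => ?_⟩
  have h := Lib.ZStar.RankOne.eq_of_no_klein hrank P.2 hg hzP
    (by rw [Lib.Involutions.Basic.orderOf_conj_eq, hz]) hz
  exact h

end Cfsg.Agent.S0225
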