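import Cfsg.Statements.S0111
import Cfsg.Agent.Lib.Fusion.Thompson
import Mathlib.GroupTheory.IndexNormal

set_option autoImplicit false
open Cfsg

namespace Cfsg.Agent.S0111

/-- The Thompson transfer lemma states that an involution of a Sylow 2-subgroup P lying outside a subgroup Q of index 2 in P either lies outside some normal subgroup of index 2 in G or is conjugate to an element of Q. -/
theorem result {G : Type*} [Group G] [Finite G] (P : Sylow 2 G) (Q : Subgroup G) (hQP : Q ≤ (P : Subgroup G)) (hQi : Q.relIndex (P : Subgroup G) = 2) (u : G) (hu : orderOf u = 2) (huP : u ∈ (P : Subgroup G)) (huQ : u ∉ Q) : (∃ M : Subgroup G, M.Normal ∧ M.index = 2 ∧ u ∉ M) ∨ ∃ g : G, g * u * g⁻¹ ∈ Q := by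
  by_contra hcon
  push Not at hcon
  obtain ⟨hno, hconj⟩ := hcon
  have hidx : Q.index = 2 * (P : Subgroup G).index := by
    rw [← Subgroup.relIndex_mul_index hQP, hQi]
  have hfpf : ∀ x : G ⧸ Q, u • x ≠ x := by
    intro x
    induction x using QuotientGroup.induction_on with
    | H k =>
      intro he
      rw [MulAction.Quotient.smul_mk, smul_eq_mul, QuotientGroup.eq] at he
      refine hconj k⁻¹ ?_
      simpa [mul_assoc] using Q.inv_mem he
  have hodd : ¬ 2 ∣ (P : Subgroup G).index := P.not_dvd_index
  obtain ⟨N, hN, huN⟩ := Cfsg.Agent.Lib.Fusion.Thompson.exists_index_two_of_fixedPointFree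
    (G := G) (α := G ⧸ Q) (by rw [← Subgroup.index_eq_card, hidx]; omega) u hu hfpf
  exact huN (hno N (Subgroup.normal_of_index_eq_two hN) hN)

end Cfsg.Agent.S0111
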