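import Cfsg.Statements.S4645
import Cfsg.Agent.Lib.BrauerPairs.RankAbelian
import Cfsg.Agent.S4633

set_option autoImplicit false
open Cfsg

namespace Cfsg.Agent.S4645

open Cfsg.Agent.Lib.BrauerPairs Cfsg.Agent.Lib.BrauerPairs.Center
open Cfsg.Agent.Lib.BrauerPairs.Trunc Cfsg.Agent.Lib.BrauerPairs.Conj
open Cfsg.Agent.Lib.BrauerPairs.Pairs Cfsg.Agent.Lib.BrauerPairs.Transport
open Cfsg.Agent.Lib.BrauerPairs.Maximal Cfsg.Agent.Lib.BrauerPairs.Bridge
open Cfsg.Agent.Lib.BrauerPairs.Local Cfsg.Agent.Lib.BrauerPairs.Fusion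
open Cfsg.Agent.Lib.BrauerPairs.Embed

attribute [local instance] Ideal.Quotient.field

theorem eq_of_card_eq_of_cyclic {G : Type*} [Group G] [Finite G] {P A B : Subgroup G}
    (hP : IsCyclic P) (hA : A ≤ P) (hB : B ≤ P) (h : Nat.card A = Nat.card B) : A = B := by
  classical
  haveI := Fintype.ofFinite P
  haveI := hP
  set n := Nat.card A with hn
  set S : Finset P := Finset.univ.filter fun y : P => y ^ n = 1 with hS
  have key : ∀ C : Subgroup G, C ≤ P → Nat.card C = n →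
      ∀ y : P, y ∈ S ↔ (y : G) ∈ C := by
    intro C hC hCn
    haveI := Fintype.ofFinite C
    have hle : (Finset.univ.image fun z : C => (⟨z, hC z.2⟩ : P)) ⊆ S := by
      intro y hy
      obtain ⟨z, -, rfl⟩ := Finset.mem_image.mp hy
      refine Finset.mem_filter.mpr ⟨Finset.mem_univ _, Subtype.ext ?_⟩
      show (z : G) ^ n = 1
      rw [← hCn, ← SubgroupClass.coe_pow, pow_card_eq_one', OneMemClass.coe_one]
    have heq : (Finset.univ.image fun z : C => (⟨z, hC z.2⟩ : P)) = S := by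
      refine Finset.eq_of_subset_of_card_le hle ?_
      have hinj : Function.Injective fun z : C => (⟨z, hC z.2⟩ : P) := fun a b hab =>
        Subtype.ext (congrArg (fun z : P => (z : G)) hab)
      rw [Finset.card_image_of_injective _ hinj, Finset.card_univ,
        ← Nat.card_eq_fintype_card, hCn]
      exact IsCyclic.card_pow_eq_one_le (by rw [hn]; exact Nat.card_pos)
    intro y
    rw [← heq, Finset.mem_image]
    exact ⟨fun ⟨z, _, e⟩ => e ▸ z.2, fun hy => ⟨⟨y, hy⟩, Finset.mem_univ _, rfl⟩⟩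
  refine le_antisymm (fun x hx => ?_) fun x hx => ?_
  · exact (key B hB h.symm ⟨x, hA hx⟩).mp ((key A hA rfl ⟨x, hA hx⟩).mpr hx)
  · exact (key A hA rfl ⟨x, hB hx⟩).mp ((key B hB h.symm ⟨x, hB hx⟩).mpr hx)

theorem relIndex_eq_of_mul {G : Type*} [Group G] {C T T' : Subgroup G} (hT : T ≤ T')
    (h : ∀ x ∈ T', ∃ t ∈ T, ∃ c ∈ C, x = t * c) : C.relIndex T' = C.relIndex T := by
  refine (Nat.card_congr (Equiv.ofBijective _ ⟨(Subgroup.quotientSubgroupOfEmbeddingOfLE C hT).2,
    fun q => ?_⟩)).symm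
  induction q using QuotientGroup.induction_on with
  | _ x =>
    obtain ⟨t, ht, c, hc, e⟩ := h x x.2
    refine ⟨QuotientGroup.mk ⟨t, ht⟩, ?_⟩
    change Subgroup.quotientSubgroupOfEmbeddingOfLE C hT (QuotientGroup.mk ⟨t, ht⟩) = _
    rw [Subgroup.quotientSubgroupOfEmbeddingOfLE_apply_mk]
    refine QuotientGroup.eq.mpr ?_
    rw [Subgroup.mem_subgroupOf]
    show t⁻¹ * (x : G) ∈ C
    rw [e, inv_mul_cancel_left]
    exact hc


/-- Let B be a block of the finite group G relative to a maximal ideal M of the algebraic integers containing the prime p, with a nontrivial cyclic defect group P; let c be a block of C_G(P) inducing B and T the stabilizer of c in N_G(P). Let Q be a nontrivial subgroup of P (so C_G(P) ≤ C_G(Q)), f the block of C_G(Q) induced by c inside C_G(Q), and T' the stabilizer of f in N_G(Q). Then T' = T·C_G(Q), the index of C_G(Q) in T' equals the index of C_G(P) in T, f has p-regular rank 1, and f is a nilpotent block of C_G(Q).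 -/
theorem result {G : Type*} [Group G] [Finite G] (p : ℕ) [Fact p.Prime] (M : Ideal Cfsg.AlgInt) (hM : Cfsg.IsPModular p M) (B : Set (Cfsg.IrrCharacter G)) (hB : Cfsg.IsPBlock M B) (P : Subgroup G) (hPD : Cfsg.IsDefectGroup p M B P) (hP1 : P ≠ ⊥) (hcyc : IsCyclic P) (c : Set (Cfsg.IrrCharacter (Subgroup.centralizer (P : Set G)))) (hc : Cfsg.IsInducedBlock M (Subgroup.centralizer (P : Set G)) c B) (T : Subgroup G) (hT : ∀ g : G, g ∈ T ↔ (g ∈ Subgroup.normalizer (P : Set G) ∧ Cfsg.StabilizesBlock (Subgroup.centralizer (P : Set G)) c g)) (Q : Subgroup G) (hQP : Q ≤ P) (hQ1 : Q ≠ ⊥) (f : Set (Cfsg.IrrCharacter (Subgroup.centralizer (Q : Set G)))) (hf : Cfsg.IsInducedBlockIn M (Subgroup.centralizer (Q : Set G)) (Subgroup.centralizer (P : Set G)) c f) (T' : Subgroup G) (hT' : ∀ g : G, g ∈ T' ↔ (g ∈ Subgroup.normalizer (Q : Set G) ∧ Cfsg.StabilizesBlock (Subgroup.centralizer (Q : Set G)) f g)) : T' = T ⊔ Subgroup.centralizer (Q : Set G) ∧ (Subgroup.centralizer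 (Q : Set G)).relIndex T' = (Subgroup.centralizer (P : Set G)).relIndex T ∧ Cfsg.blockRank p f = 1 ∧ Cfsg.IsNilpotentBlock p M f := by
  classical
  haveI : M.IsMaximal := hM.2.1
  haveI : CharP (Res M) p := charP_res hM
  have he := hc.1
  have hD := (isDefectGroup_iff hB P).mp hPD
  have hP : IsPGroup p P := hD.isPGroup
  have hpair := (InducedPair.isInducedBlock_iff hP he hB).mp hc
  have htop : Top p (⟨P, blk he⟩ : Idx (Res M) G) := top_of_isDef hpair hD
  have hab : ∀ x ∈ P, ∀ y ∈ P, x * y = y * x := fun x hx y hy => by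
    letI : CommGroup P := IsCyclic.commGroup
    exact congrArg Subtype.val (mul_comm (⟨x, hx⟩ : P) ⟨y, hy⟩)
  have hTs : T = stab (⟨P, blk he⟩ : Idx (Res M) G) := eq_stab he hT
  haveI : ((Subgroup.centralizer (P : Set G)).subgroupOf T).Normal := by
    rw [Subgroup.normal_subgroupOf_iff_le_normalizer
      (hTs ▸ centralizer_le_stab (⟨P, blk he⟩ : Idx (Res M) G))]
    exact le_normalizer_centralizer fun g hg => ((hT g).mp hg).1
  have hfree := (Cfsg.Agent.S4633.result p M hM B hB P hPD hP1 hcyc c hc T hT).2.2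
  have hPC : P ≤ Subgroup.centralizer (Q : Set G) := Abelian.le_centralizer_of_le_abelian hab hQP
  have hCC := centralizer_anti hQP
  have hfb := hf.2.1
  have hdp := (InducedPair.isInducedBlockIn_iff hP hPC hCC he hfb).mp hf
  obtain ⟨q, hq, hq1⟩ : ∃ q, q ∈ Q ∧ q ≠ 1 := by
    obtain ⟨a, ha⟩ := Q.ne_bot_iff_exists_ne_one.mp hQ1
    exact ⟨a.1, a.2, fun e => ha (Subtype.ext e)⟩
  have hfix : ∀ x ∈ stab (⟨P, blk he⟩ : Idx (Res M) G), x ∈ Subgroup.centralizer (Q : Set G) →
      x ∈ Subgroup.centralizer (P : Set G) := by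
    intro x hx hxQ
    refine hfree x (hTs ▸ hx) q (hQP hq) hq1 ?_
    rw [← hxQ q hq, mul_inv_cancel_right]
  have hle : Le p (⟨Q, blk hfb⟩ : Idx (Res M) G) (⟨P, blk he⟩ : Idx (Res M) G) :=
    LocalAbelian.le_of_pairOf hP hPC hQP hdp
  have hT's : T' = stab (⟨Q, blk hfb⟩ : Idx (Res M) G) := eq_stab hfb hT'
  have hTQ : T ≤ Subgroup.normalizer (Q : Set G) := by
    intro g hg
    refine Subgroup.mem_normalizer_iff_map_conj_eq.mpr ?_
    refine eq_of_card_eq_of_cyclic hcyc ?_ hQP (card_map_conj g Q)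
    rintro _ ⟨y, hy, rfl⟩
    exact (Subgroup.mem_normalizer_iff.mp ((hT g).mp hg).1 y).mp (hQP hy)
  have hTT' : T ≤ T' := fun g hg => hT's ▸ Abelian.inf_stab_le hP hle ⟨hTs ▸ hg, hTQ hg⟩
  have hCT' : Subgroup.centralizer (Q : Set G) ≤ T' :=
    hT's ▸ centralizer_le_stab (⟨Q, blk hfb⟩ : Idx (Res M) G)
  have hdec : ∀ x ∈ T', ∃ t ∈ T, ∃ z ∈ Subgroup.centralizer (Q : Set G), x = t * z := by
    intro x hx
    obtain ⟨t, ht, z, hz, e⟩ := Abelian.exists_stab_mul htop hab hle (hT's ▸ hx)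
    exact ⟨t, hTs ▸ ht, z, hz, e⟩
  refine ⟨le_antisymm (fun x hx => ?_) (sup_le hTT' hCT'), ?_, ?_, ?_⟩
  · obtain ⟨t, ht, z, hz, rfl⟩ := hdec x hx
    exact mul_mem (Subgroup.mem_sup_left ht) (Subgroup.mem_sup_right hz)
  · rw [relIndex_eq_of_mul hTT' hdec, ← Subgroup.inf_relIndex_right]
    congr 1
    refine le_antisymm (fun x hx => hfix x (hTs ▸ hx.2) hx.1) (le_inf hCC ?_)
    exact hTs ▸ centralizer_le_stab (⟨P, blk he⟩ : Idx (Res M) G)
  · have h := (RankAbelian.good hM (G := Subgroup.centralizer (Q : Set G)) _ _ (blk hfb)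
      (LocalAbelian.top_down_of_top hPC hCC (blk he) htop) hdp
      (fun x hx y hy => Subtype.ext (hab _ hx _ hy)) fun x hx =>
        (mem_centralizer_subgroupOf_iff hPC x).mpr
          (hfix _ ((LocalAbelian.mem_stab_down_iff hPC hCC (blk he) x).mp hx) x.2)).1
    rwa [toSet_blk] at h
  · rw [isNilpotentBlock_iff hfb, LocalAbelian.nilp_iff htop hab hPC hQP hdp]
    exact hfix

end Cfsg.Agent.S4645
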