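import Cfsg.Statements.S4672
import Cfsg.Agent.Lib.BrauerPairs.Bridge
import Cfsg.Agent.Lib.BrauerPairs.NormalCover
import Cfsg.Agent.Lib.BrauerPairs.Lift
import Cfsg.Agent.Lib.Blocks.Orthogonality

set_option autoImplicit false
open Cfsg

namespace Cfsg.Agent.S4672

open Cfsg.Agent.Lib.BrauerPairs.Center Cfsg.Agent.Lib.BrauerPairs.Pairs
open Cfsg.Agent.Lib.BrauerPairs.Transport Cfsg.Agent.Lib.BrauerPairs.Maximal
open Cfsg.Agent.Lib.BrauerPairs.Principal Cfsg.Agent.Lib.BrauerPairs.Bridge

attribute [local instance] Ideal.Quotient.field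

open Cfsg.Agent.Lib.BrauerPairs Cfsg.Agent.Lib.BrauerPairs.Trunc Cfsg.Agent.Lib.BrauerPairs.Conj
open Cfsg.Agent.Lib.BrauerMap.Basic Cfsg.Agent.Lib.BrauerMap.ClassSum
open Cfsg.Agent.Lib.Blocks (localRing residue)

universe u

theorem sup_eq_top {G : Type u} [Group G] [Fintype G] {p : ℕ} [Fact p.Prime] {M : Ideal Cfsg.AlgInt}
    [M.IsMaximal] [CharP (Res M) p] {N : Subgroup G} [N.Normal] (hM : Cfsg.IsPModular p M)
    (hq : IsPGroup p (G ⧸ N)) {B : Set (Cfsg.IrrCharacter G)} (hB : Cfsg.IsPBlock M B)
    {c : Set (Cfsg.IrrCharacter N)} (hc : Cfsg.IsPBlock M c)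
    (hcov : NormalCover.Covers N (blk hB) (blk hc))
    (hBe : bidem (blk hB) = bext N (blk hc))
    (hstab : ∀ x : G, conjA x (bext N (blk hc)) = bext N (blk hc))
    {P : Subgroup G} (hP : IsDef p (blk hB) P) : N ⊔ P = ⊤ := by
  classical
  have hsurj : ∀ (C : Subgroup G), C.map (QuotientGroup.mk' N) = ⊤ → ∀ S : Sylow p C,
      ((S : Subgroup C).map C.subtype).map (QuotientGroup.mk' N) = ⊤ := by
    intro C hC S
    have hf : Function.Surjective ((QuotientGroup.mk' N).comp C.subtype) := by
      rw [← MonoidHom.range_eq_top, MonoidHom.range_comp, Subgroup.range_subtype, hC]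
    rw [Subgroup.map_map]
    have hT : IsPGroup p (⊤ : Subgroup (G ⧸ N)) := hq.to_subgroup ⊤
    exact ((Sylow.mapSurjective hf S).3 hT le_top).symm
  haveI : Finite (ConjClasses N) := Quotient.finite _
  haveI := Fintype.ofFinite (ConjClasses N)
  obtain ⟨S⟩ : Nonempty (Sylow p (⊤ : Subgroup G)) := inferInstance
  set R := (S : Subgroup (⊤ : Subgroup G)).map (⊤ : Subgroup G).subtype with hR
  have hRp : IsPGroup p R := S.2.map _
  have hRtop : R.map (QuotientGroup.mk' N) = ⊤ := hsurj ⊤
    (Subgroup.map_top_of_surjective _ (QuotientGroup.mk'_surjective N)) S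
  letI : MulAction R (ConjClasses N) :=
    { smul := fun r c =>
        ConjClasses.map (conjEquiv (r : G) N N (NormalCover.mem_conj_iff N r)).toMonoidHom c
      one_smul := fun c => by
        induction c using Quotient.inductionOn with
        | h a =>
          refine congrArg ConjClasses.mk (Subtype.ext ?_)
          show ((1 : R) : G) * (a : G) * ((1 : R) : G)⁻¹ = a
          simp
      mul_smul := fun r s c => by
        induction c using Quotient.inductionOn with
        | h a =>
          refine congrArg ConjClasses.mk (Subtype.ext ?_)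
          show ((r * s : R) : G) * (a : G) * ((r * s : R) : G)⁻¹ =
            (r : G) * ((s : G) * (a : G) * (s : G)⁻¹) * (r : G)⁻¹
          simp [mul_assoc] }
  set ν := blk hc with hν
  set F : ConjClasses N → Res M :=
    fun c => (bidem ν).coeff c.out * ν (classSumC (Res M) c.out) with hF
  have hout : ∀ a : N, IsConj a (ConjClasses.mk a).out := fun a =>
    ConjClasses.mk_eq_mk_iff_isConj.mp (Quotient.out_eq (ConjClasses.mk a)).symm
  have hval : ∀ a : N, F (ConjClasses.mk a) = (bidem ν).coeff a * ν (classSumC (Res M) a) := by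
    intro a
    obtain ⟨x, hx⟩ := isConj_iff.mp (hout a)
    simp only [hF]
    have e : classSumC (Res M) (ConjClasses.mk a).out = classSumC (Res M) a :=
      Subtype.ext (classSum_eq_of_isConj (hout a).symm)
    rw [e, ← hx, (mem_center_iff_coeff _).1 (bidem_mem ν) x a]
  have hinv : ∀ (r : R) (c : ConjClasses N), F (r • c) = F c := by
    intro r c
    induction c using Quotient.inductionOn with
    | h a =>
      set θ := conjEquiv (r : G) N N (NormalCover.mem_conj_iff N r) with hθ
      show F (ConjClasses.mk (θ a)) = F (ConjClasses.mk a)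
      rw [hval, hval]
      have hb : cBlk (r : G) N N (NormalCover.mem_conj_iff N r) ν = ν :=
        bext_injective _ (by rw [bext_cBlk]; exact hstab r)
      congr 1
      · have h1 := congrArg (fun z : MonoidAlgebra (Res M) G => z.coeff ((θ a : N) : G))
          (hstab r)
        simp only [bext] at h1
        rw [coeff_conjA, coeff_ext] at h1
        have e : ((r : G))⁻¹ * ((θ a : N) : G) * (r : G) = (a : G) := by
          show (r : G)⁻¹ * ((r : G) * (a : G) * (r : G)⁻¹) * (r : G) = (a : G)
          simp [mul_assoc]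
        rw [e, coeff_ext] at h1
        exact h1.symm
      · conv_lhs => rw [← hb]
        show ν (zMap θ.symm (classSumC (Res M) (θ a))) = _
        rw [zMap_classSumC, MulEquiv.symm_apply_apply]
  have hsum : ∑ c, F c = 1 := by
    have hx : idem ν = ∑ c : ConjClasses N, (bidem ν).coeff c.out • classSumC (Res M) c.out := by
      refine Subtype.ext ?_
      rw [AddSubmonoidClass.coe_finsetSum]
      exact eq_sum_classSum (bidem_mem ν)
    have h1 := apply_idem_self (k := Res M) ν
    rw [hx, map_sum] at h1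
    rw [← h1]
    exact Finset.sum_congr rfl fun c _ => by rw [map_smul, smul_eq_mul]
  rw [Cfsg.Agent.Lib.BrauerMap.Basic.sum_eq_sum_fixed hRp F hinv] at hsum
  obtain ⟨c0, hc0, hne⟩ := Finset.exists_ne_zero_of_sum_ne_zero (hsum.symm ▸ one_ne_zero)
  set g := c0.out with hg
  set C := Subgroup.centralizer ({(g : G)} : Set G) with hC
  have hRC : ∀ r ∈ R, ∃ m ∈ N, m * r ∈ C := by
    intro r hr
    have h := (Finset.mem_filter.mp hc0).2 ⟨r, hr⟩
    rw [← Quotient.out_eq c0] at h
    obtain ⟨x, hx⟩ := isConj_iff.mp (ConjClasses.mk_eq_mk_iff_isConj.mp h)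
    refine ⟨(x : G), x.2, ?_⟩
    rw [hC, Subgroup.mem_centralizer_singleton_iff]
    have h3 : (x : G) * (r * (g : G) * r⁻¹) * (x : G)⁻¹ = (g : G) := congrArg Subtype.val hx
    calc (x : G) * r * (g : G)
        = (x : G) * (r * (g : G) * r⁻¹) * (x : G)⁻¹ * ((x : G) * r) := by simp [mul_assoc]
      _ = (g : G) * ((x : G) * r) := by rw [h3]
  have hCtop : C.map (QuotientGroup.mk' N) = ⊤ := by
    rw [eq_top_iff, ← hRtop]
    rintro _ ⟨r, hr, rfl⟩
    obtain ⟨m, hm, hmC⟩ := hRC r hr
    refine ⟨m * r, hmC, ?_⟩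
    rw [map_mul, QuotientGroup.mk'_apply, (QuotientGroup.eq_one_iff m).mpr hm, one_mul]
  obtain ⟨χ, hχ, θ, hθ, hθne⟩ := (NormalCover.covers_iff_constituent N hB hc).mpr hcov
  have hsupp : ∀ x, x ∉ N → (classSum (Res M) (g : G)).coeff x = 0 := by
    intro x hx
    rw [coeff_classSum, if_neg]
    intro he
    obtain ⟨u, rfl⟩ := isConj_iff.mp he
    exact hx ((NormalCover.mem_conj_iff N u (g : G)).mp g.2)
  have hclass : NormalSub.res N (classSum (Res M) (g : G)) = classSum (Res M) g := by
    ext a
    rw [NormalSub.coeff_res, coeff_classSum, coeff_classSum]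
    have key : IsConj (g : G) (a : G) → IsConj g a := ?_
    · split_ifs with h1 h2 h2
      · rfl
      · exact absurd (key h1) h2
      · exact absurd (N.subtype.map_isConj h2) h1
      · rfl
    intro he
    obtain ⟨u, hu⟩ := isConj_iff.mp he
    have hmem : QuotientGroup.mk' N u ∈ C.map (QuotientGroup.mk' N) := hCtop ▸ Subgroup.mem_top _
    obtain ⟨y, hy, hyu⟩ := hmem
    have hn : u * y⁻¹ ∈ N := by
      rw [← QuotientGroup.eq_one_iff, QuotientGroup.mk_mul, QuotientGroup.mk_inv]
      exact mul_inv_eq_one.mpr hyu.symm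
    refine isConj_iff.mpr ⟨⟨u * y⁻¹, hn⟩, Subtype.ext ?_⟩
    have hy2 : y * (g : G) * y⁻¹ = (g : G) := by
      rw [Subgroup.mem_centralizer_singleton_iff.mp hy, mul_inv_cancel_right]
    show u * y⁻¹ * (g : G) * (u * y⁻¹)⁻¹ = (a : G)
    rw [← hu]
    calc u * y⁻¹ * (g : G) * (u * y⁻¹)⁻¹ = u * (y⁻¹ * (g : G) * y) * u⁻¹ := by
          simp [mul_assoc]
      _ = u * (g : G) * u⁻¹ := by
          congr 2
          conv_lhs => rw [← hy2]
          simp [mul_assoc]
  have hgne : (bidem (blk hB)).coeff (g : G) ≠ 0 := by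
    rw [hBe, bext, coeff_ext]
    exact left_ne_zero_of_mul hne
  have hψ : (blk hB) (classSumC (Res M) (g : G)) ≠ 0 := by
    rw [← blkOf_of_mem hB hχ, NormalCover.blkOf_apply_supported N hθne _ hsupp,
      blkOf_of_mem hc hθ]
    refine fun h0 => right_ne_zero_of_mul hne ?_
    rw [← h0]
    exact congrArg ν (Subtype.ext hclass.symm)
  obtain ⟨T⟩ : Nonempty (Sylow p C) := inferInstance
  obtain ⟨x, hx⟩ := isDef_conj (⟨(g : G), hgne, hψ, T, rfl⟩ : IsDef p (blk hB) _) hP
  have hPtop : P.map (QuotientGroup.mk' N) = ⊤ := by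
    rw [← hx, Subgroup.map_map, eq_top_iff]
    intro q _
    have hq' : (QuotientGroup.mk' N x)⁻¹ * q * QuotientGroup.mk' N x ∈
        ((T : Subgroup C).map C.subtype).map (QuotientGroup.mk' N) :=
      (hsurj C hCtop T).symm ▸ Subgroup.mem_top _
    obtain ⟨t, ht, htq⟩ := hq'
    refine ⟨t, ht, ?_⟩
    show QuotientGroup.mk' N (x * t * x⁻¹) = q
    rw [map_mul, map_mul, map_inv, htq]
    simp [mul_assoc]
  have := congrArg (Subgroup.comap (QuotientGroup.mk' N)) hPtop
  rwa [Subgroup.comap_map_eq, QuotientGroup.ker_mk', Subgroup.comap_top, sup_comm] at this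


/-- Fix a prime p and a maximal ideal M of the algebraic integers containing p. Let N be a normal subgroup of the finite group G of p-power index and c a p-block of N stable under conjugation by G. Then the idempotent of c is a block idempotent of G: there is a p-block B of G whose idempotent coefficients agree with those of c on N and vanish off N; and for every defect group P of such a block B, G = NP and P ∩ N is a defect group of c. -/
theorem result {G : Type*} [Group G] [Fintype G] (p : ℕ) [Fact p.Prime] (M : Ideal Cfsg.AlgInt) (hM : Cfsg.IsPModular p M) (N : Subgroup G) [N.Normal] (hN : ∃ k : ℕ, N.index = p ^ k) (c : Set (Cfsg.IrrCharacter N)) (hc : Cfsg.IsPBlock M c) (hst : ∀ x : G, Cfsg.StabilizesBlock N c x) : (∃ B : Set (Cfsg.IrrCharacter G), Cfsg.IsPBlock M B ∧ ∀ g : G, Cfsg.blockCoeff B g = Cfsg.subgroupBlockCoeff N c g) ∧ ∀ B : Set (Cfsg.IrrCharacter G), Cfsg.IsPBlock M B → (∀ g : G, Cfsg.blockCoeff B g = Cfsg.subgroupBlockCoeff N c g) → ∀ P : Subgroup G, Cfsg.IsDefectGroup p M B P → N ⊔ P = ⊤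 ∧ Cfsg.IsDefectGroup p M c ((P ⊓ N).subgroupOf N) := by
  haveI : M.IsMaximal := hM.2.1
  haveI : CharP (Res M) p := charP_res hM
  classical
  obtain ⟨n, hn⟩ := hN
  have hp : p.Prime := Fact.out
  have hq : IsPGroup p (G ⧸ N) := IsPGroup.of_card (n := n) (by rw [← Subgroup.index_eq_card, hn])
  have hstab : ∀ x : G, conjA x (bext N (blk hc)) = bext N (blk hc) := fun x =>
    (NormalCover.stabilizesBlock_iff_normal N hc x).mp (hst x)
  set z : ZAlg (Res M) G :=
    ⟨bext N (blk hc), (mem_center_iff_coeff _).2 fun u g => by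
      conv_lhs => rw [← hstab u]
      rw [coeff_conjA_conj]⟩ with hzdef
  have hz : IsIdempotentElem z := Subtype.ext (bext_isIdem N (blk hc)).eq
  have hsum : ∀ (B : Set (Cfsg.IrrCharacter G)) (hB : Cfsg.IsPBlock M B),
      (blk hB) z = 1 → bidem (blk hB) = bext N (blk hc) := by
    intro B hB h1
    have hsupp : ∀ g, g ∉ N → (bidem (blk hB)).coeff g = 0 := by
      intro g hg
      rw [coeff_bidem hB g]
      have hd : p ∣ orderOf g := by
        obtain ⟨k, hk⟩ := IsPGroup.iff_orderOf.mp hq (QuotientGroup.mk g)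
        have hk0 : k ≠ 0 := by
          rintro rfl
          rw [pow_zero, orderOf_eq_one_iff, QuotientGroup.eq_one_iff] at hk
          exact hg hk
        exact (dvd_pow_self p hk0).trans (hk ▸ orderOf_map_dvd (QuotientGroup.mk' N) g)
      rw [← map_zero (residue M)]
      exact congrArg _ (Subtype.ext (Cfsg.Agent.Lib.Blocks.blockCoeff_eq_zero_of_dvd hM hB hd))
    set y : ZAlg (Res M) N :=
      ⟨NormalSub.res N (bidem (blk hB)),
        NormalSub.res_mem_center (isFixedBy_of_mem_center N (bidem_mem _))⟩ with hy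
    have hext : ext N (y : MonoidAlgebra (Res M) N) = bidem (blk hB) := NormalSub.ext_res hsupp
    have h2 : bidem (blk hB) * bext N (blk hc) = bidem (blk hB) :=
      congrArg Subtype.val ((mul_comm _ _).trans (mul_idem_eq (blk hB) hz h1))
    have h3 : y * idem (blk hc) = y := by
      refine Subtype.ext (ext_injective N ?_)
      rw [Subalgebra.coe_mul, map_mul, hext]
      exact h2
    have hyi : IsIdempotentElem y := by
      refine Subtype.ext (ext_injective N ?_)
      rw [Subalgebra.coe_mul, map_mul, hext]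
      exact (bidem_isIdem _).eq
    have hy1 : (blk hc) y = 1 := by
      rcases apply_zero_or_one hyi (blk hc) with h0 | h0
      · exfalso
        apply idem_ne_zero (blk hB)
        have hy0 : y = 0 := by
          refine idem_ext (k := Res M) hyi .zero fun φ => ?_
          rw [map_zero]
          conv_lhs => rw [← h3]
          rw [map_mul]
          by_cases hφ : φ = blk hc
          · rw [hφ, h0, zero_mul]
          · rw [apply_idem_ne hφ, mul_zero]
        apply Subtype.ext
        show bidem (blk hB) = 0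
        rw [← hext, hy0]
        simp
      · exact h0
    have hye : y = idem (blk hc) := h3.symm.trans (mul_idem_eq (blk hc) hyi hy1)
    rw [← hext, hye]
    rfl
  constructor
  · obtain ⟨ψ, hψ⟩ := exists_apply_eq_one (k := Res M) hz (fun h0 => by
      apply idem_ne_zero (blk hc)
      exact Subtype.ext (ext_injective N ((congrArg Subtype.val h0).trans (map_zero _).symm)))
    have hB : Cfsg.IsPBlock M (toSet ψ) := isPBlock_toSet ψ
    refine ⟨toSet ψ, hB, fun g => ?_⟩
    have hres := hsum _ hB (by rw [blk_toSet]; exact hψ)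
    rw [Lift.blockCoeff_eq_sum_subgroup hB N (NormalCover.mem_conj_iff N) {blk hc} ?_ ?_ g,
      Finset.sum_singleton, toSet_blk]
    · intro u f hf
      rw [Finset.mem_singleton] at hf ⊢
      subst hf
      exact bext_injective N ((NormalCover.bext_conjN N u _).trans (hstab u))
    · rw [Finset.sum_singleton]; exact hres
  intro B hB hco P hP
  have hBe : bidem (blk hB) = bext N (blk hc) := by
    ext g
    rw [coeff_bidem hB g, coeff_bext hc g]
    exact congrArg _ (Subtype.ext (hco g))
  have hcov : NormalCover.Covers N (blk hB) (blk hc) := by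
    rw [NormalCover.Covers, ← hBe, (bidem_isIdem _).eq]
    exact fun h0 => idem_ne_zero (blk hB) (Subtype.ext h0)
  have hPd := (isDefectGroup_iff hB P).mp hP
  obtain ⟨f, hf⟩ := exists_pairOf_isDef hPd
  obtain ⟨ν, hcovν, -, g, hg, hne⟩ := NormalCover.exists_covers_fixed N hf
  have hνe : ν = blk hc := by
    by_contra hne'
    apply hcovν
    rw [hBe]
    exact bext_mul_bext N (Ne.symm hne')
  refine ⟨?_, ?_⟩
  · exact sup_eq_top hM hq hB hc hcov hBe hstab hPd
  · rw [isDefectGroup_iff hc, ← hνe]
    exact NormalCover.isDef_inf N hcovν hPd hg hne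

end Cfsg.Agent.S4672
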