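import Cfsg.Statements.S1526
import Cfsg.Agent.Lib.Induced.CNContradiction
import Cfsg.Agent.Lib.Frobenius.Nilpotent
-- import your own Cfsg.Agent.* helpers here

set_option autoImplicit false
open Cfsg

namespace Cfsg.Agent.S1526

/-- Let G be a finite group of odd order and (L i, H i), i in a finite index type with at least two elements, pairs of subgroups with H i a nontrivial proper normal subgroup of L i such that every non-identity element of H i has its centraliser within L i contained in H i (L i is a Frobenius group with kernel H i), the orders of the H i pairwise coprime, and the underlying set of each H i a TI-subset of G with normaliser L i. If every non-identity element of G is conjugate to an element of some H i, we reach a contradiction. -/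
theorem result {G : Type*} [Group G] [Finite G] (hodd : Odd (Nat.card G)) {ι : Type*} [Fintype ι] (hι : 2 ≤ Fintype.card ι) (L H : ι → Subgroup G) (hHL : ∀ i, H i < L i) (hH1 : ∀ i, H i ≠ ⊥) (hHn : ∀ i, ∀ x ∈ L i, ∀ h ∈ H i, x * h * x⁻¹ ∈ H i) (hfrob : ∀ i, ∀ h ∈ H i, h ≠ 1 → L i ⊓ Subgroup.centralizer ({h} : Set G) ≤ H i) (hcop : ∀ i j, i ≠ j → Nat.Coprime (Nat.card (H i)) (Nat.card (H j))) (hTI : ∀ i, Cfsg.IsTISubset (H i : Set G) ∧ Subgroup.normalizer (H i : Set G) = L i) (hcover : ∀ g : G, g ≠ 1 → ∃ i, ∃ x : G, x * g * x⁻¹ ∈ H i) : False := by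
  obtain ⟨i₀⟩ : Nonempty ι := Fintype.card_pos_iff.mp (by omega)
  obtain ⟨x₀, hx₀, hx₀1⟩ := (H i₀).bot_or_exists_ne_one.resolve_left (hH1 i₀)
  have : Nontrivial G := ⟨⟨x₀, 1, hx₀1⟩⟩
  have hcent : ∀ i, ∀ x ∈ H i, x ≠ 1 → Subgroup.centralizer ({x} : Set G) ≤ H i := by
    intro i x hx hx1 c hc
    refine hfrob i x hx hx1 ⟨?_, hc⟩
    rw [← (hTI i).2]
    by_contra hcN
    refine hx1 ((hTI i).1 c hcN x hx ?_)
    have h := Subgroup.mem_centralizer_singleton_iff.mp hc
    rw [h, mul_inv_cancel_right]
    exact hx
  refine Cfsg.Agent.Lib.Induced.CNContradiction.not_nilpotent_TI_partition hodd H (fun i => ?_) hH1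
    (fun i => (hTI i).1) hcent (fun i => ?_) (fun i j h => hcop i j h) hcover
  · obtain ⟨l, hlL, hlH⟩ := SetLike.exists_of_lt (hHL i)
    -- an element of prime order outside `H i`
    obtain ⟨z, hzL, hzH, hzp⟩ : ∃ z ∈ L i, z ∉ H i ∧ (orderOf z).Prime := by
      induction hn : orderOf l using Nat.strong_induction_on generalizing l with
      | _ n ih =>
        subst hn
        have hl1 : orderOf l ≠ 1 := fun h => hlH (orderOf_eq_one_iff.mp h ▸ one_mem _)
        obtain ⟨p, hp, m, hm⟩ := Nat.exists_prime_and_dvd hl1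
        by_cases hlp : orderOf l = p
        · exact ⟨l, hlL, hlH, hlp ▸ hp⟩
        have hpos := orderOf_pos l
        have hmpos : 0 < m := Nat.pos_of_ne_zero fun h => by rw [h, mul_zero] at hm; omega
        have hop : orderOf (l ^ p) = m := by
          rw [orderOf_pow_of_dvd hp.ne_zero ⟨m, hm⟩, hm, Nat.mul_div_cancel_left _ hp.pos]
        refine ih (orderOf (l ^ p)) ?_ (l ^ p) (pow_mem hlL p) (fun hin => ?_) rfl
        · rw [hop, hm]; exact lt_mul_left hmpos hp.one_lt
        · have h1 : l ^ p ≠ 1 := fun h => by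
            rw [← orderOf_eq_one_iff, hop] at h
            rw [h, mul_one] at hm
            exact hlp hm
          exact hlH (hcent i _ hin h1
            (Subgroup.mem_centralizer_singleton_iff.mpr (Commute.self_pow l p).eq))
    let φ : H i ≃* H i :=
      { toFun := fun x => ⟨z * x * z⁻¹, hHn i z hzL x x.2⟩
        invFun := fun x => ⟨z⁻¹ * x * z, by simpa using hHn i z⁻¹ (inv_mem hzL) x x.2⟩
        left_inv := fun x => Subtype.ext (by simp [mul_assoc])
        right_inv := fun x => Subtype.ext (by simp [mul_assoc])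
        map_mul' := fun x y => Subtype.ext (by simp [mul_assoc]) }
    refine Cfsg.Agent.Lib.Frobenius.Nilpotent.isNilpotent_of_fixedPointFree hzp φ (fun x hx => ?_)
      (fun x => ?_)
    · by_contra hx1
      have hx' : z * x * z⁻¹ = x := congrArg Subtype.val hx
      exact hzH (hcent i x x.2 (fun h => hx1 (Subtype.ext h))
        (Subgroup.mem_centralizer_singleton_iff.mpr (mul_inv_eq_iff_eq_mul.mp hx')))
    · have hit : ∀ k : ℕ, (((⇑φ)^[k] x : H i) : G) = z ^ k * x * (z ^ k)⁻¹ := by
        intro k
        induction k with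
        | zero => simp
        | succ k ih =>
          rw [Function.iterate_succ_apply']
          show z * (((⇑φ)^[k] x : H i) : G) * z⁻¹ = _
          rw [ih, pow_succ']
          group
      exact Subtype.ext (by rw [hit, pow_orderOf_eq_one]; simp)
  · rw [(hTI i).2]
    exact (hHL i).ne' 

end Cfsg.Agent.S1526
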