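import Cfsg.Statements.S1527
import Mathlib
-- import your own Cfsg.Agent.* helpers here

set_option autoImplicit false
open Cfsg

namespace Cfsg.Agent.S1527

/-- Let G be a finite group and H i (i in a finite index type) subgroups of pairwise coprime orders, each of whose underlying sets is a TI-subset of G, such that every non-identity element of G is conjugate to an element of some H i. Then Nat.card G − 1 = Σ_i [G : N_G(H i)] · (Nat.card (H i) − 1). -/
theorem result {G : Type*} [Group G] [Finite G] {ι : Type*} [Fintype ι] (H : ι → Subgroup G) (hcop : ∀ i j, i ≠ j → Nat.Coprime (Nat.card (H i)) (Nat.card (H j))) (hTI : ∀ i, Cfsg.IsTISubset (H i : Set G)) (hcover : ∀ g : G, g ≠ 1 → ∃ i, ∃ x : G, x * g * x⁻¹ ∈ H i) : Nat.card G - 1 = ∑ i, (Subgroup.normalizer (H i : Set G)).index * (Nat.card (H i) - 1) := by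
  classical
  set N := fun i => Subgroup.normalizer (H i : Set G) with hN
  let f : (Σ i : ι, (G ⧸ N i) × {h : H i // h ≠ 1}) → {g : G // g ≠ 1} := fun s =>
    ⟨s.2.1.out * ((s.2.2 : H s.1) : G) * (s.2.1.out)⁻¹, fun e => s.2.2.2 (Subtype.ext (by
      simpa using e))⟩
  have hinj : Function.Injective f := by
    rintro ⟨i, x, ⟨h, hh⟩⟩ ⟨j, y, ⟨k, hk⟩⟩ e
    have e' : x.out * (h : G) * x.out⁻¹ = y.out * (k : G) * y.out⁻¹ := congrArg Subtype.val e
    have e2 : (y.out⁻¹ * x.out) * (h : G) * (y.out⁻¹ * x.out)⁻¹ = (k : G) := by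
      calc (y.out⁻¹ * x.out) * (h : G) * (y.out⁻¹ * x.out)⁻¹
            = y.out⁻¹ * (x.out * (h : G) * x.out⁻¹) * y.out := by group
        _ = (k : G) := by rw [e']; group
    have hij : i = j := by
      by_contra hne
      have ho : orderOf (k : G) = orderOf (h : G) := by
        rw [← e2]
        exact MulEquiv.orderOf_eq (MulAut.conj (y.out⁻¹ * x.out)) (h : G)
      have h1 : orderOf (h : G) ∣ Nat.card (H j) := ho ▸ Subgroup.orderOf_dvd_natCard _ k.2
      have h2 : orderOf (h : G) ∣ Nat.card (H i) := Subgroup.orderOf_dvd_natCard _ h.2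
      exact hh (Subtype.ext (orderOf_eq_one_iff.1 (Nat.eq_one_of_dvd_coprimes (hcop i j hne) h2 h1)))
    subst hij
    have hxy : y.out⁻¹ * x.out ∈ N i := by
      by_contra hnm
      have := hTI i _ hnm (h : G) h.2 (e2 ▸ k.2)
      exact hh (Subtype.ext this)
    have hxy' : y = x := by
      rw [← QuotientGroup.out_eq' x, ← QuotientGroup.out_eq' y]
      exact QuotientGroup.eq.2 hxy
    subst hxy'
    have : h = k := Subtype.ext (mul_left_cancel (mul_right_cancel e'))
    subst this
    rfl
  have hsurj : Function.Surjective f := by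
    rintro ⟨g, hg⟩
    obtain ⟨i, x, hx⟩ := hcover g hg
    set r := ((QuotientGroup.mk x⁻¹ : G ⧸ N i)).out with hr
    have hmem : x * r ∈ N i := by
      have hq : (QuotientGroup.mk x⁻¹ : G ⧸ N i) = QuotientGroup.mk r := (QuotientGroup.out_eq' _).symm
      simpa using QuotientGroup.eq.1 hq
    have hh : r⁻¹ * g * r ∈ H i := by
      have := ((Subgroup.mem_normalizer_iff.1 ((N i).inv_mem hmem)) (x * g * x⁻¹)).1 hx
      convert this using 1; group
    refine ⟨⟨i, QuotientGroup.mk x⁻¹, ⟨⟨r⁻¹ * g * r, hh⟩, fun e => hg ?_⟩⟩, Subtype.ext ?_⟩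
    · have e' : r⁻¹ * g * r = 1 := congrArg Subtype.val e
      calc g = r * (r⁻¹ * g * r) * r⁻¹ := by group
        _ = 1 := by rw [e']; group
    · show r * (r⁻¹ * g * r) * r⁻¹ = g
      group
  have hc := Nat.card_eq_of_bijective f ⟨hinj, hsurj⟩
  haveI := Fintype.ofFinite G
  rw [Nat.card_sigma] at hc
  simp only [Nat.card_prod] at hc
  have hne : ∀ (X : Type _) [Finite X] (a : X), Nat.card {x : X // x ≠ a} = Nat.card X - 1 := by
    intro X _ a
    haveI := Fintype.ofFinite X
    rw [Nat.card_eq_fintype_card, Nat.card_eq_fintype_card, Fintype.card_subtype_compl,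
      Fintype.card_subtype_eq]
  rw [← hne G 1, ← hc]
  refine Finset.sum_congr rfl fun i _ => ?_
  rw [hne (H i) 1]
  rfl

end Cfsg.Agent.S1527
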