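import Cfsg.Statements.S5627
import Cfsg.Agent.Lib.Plane4.Coord

set_option autoImplicit false
open Cfsg

namespace Cfsg.Agent.S5627

open Cfsg.Agent.Lib.Plane4.Basic Cfsg.Agent.Lib.Plane4.Coord

/-- In a projective plane of order 4 (a Steiner system S(2, 5, 21)), call a set of points independent when no line meets it in more than two points. There are exactly 2520 independent 4-sets and exactly 168 independent 6-sets (hyperovals), and every independent 4-set lies in exactly one hyperoval. -/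
theorem result {α : Type*} [Fintype α] [DecidableEq α] (hα : Fintype.card α = 21) (L : Set (Finset α)) (hL : Cfsg.IsSteinerSystem 2 5 L) : {S : Finset α | (S.card = 4 ∧ ∀ l ∈ L, (l ∩ S).card ≤ 2)}.ncard = 2520 ∧ {H : Finset α | (H.card = 6 ∧ ∀ l ∈ L, (l ∩ H).card ≤ 2)}.ncard = 168 ∧ ∀ S : Finset α, (S.card = 4 ∧ ∀ l ∈ L, (l ∩ S).card ≤ 2) → ∃! H : Finset α, (H.card = 6 ∧ ∀ l ∈ L, (l ∩ H).card ≤ 2) ∧ S ⊆ H := by
  classical
  have hp : IsPlane (Finset.univ.filter fun b => b ∈ L) := ⟨hα, by simpa using hL⟩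
  have harc : ∀ S : Finset α, IsArc (Finset.univ.filter fun b => b ∈ L) S ↔ ∀ l ∈ L, (l ∩ S).card ≤ 2 :=
    fun S => by simp [IsArc]
  have hn : ∀ k, {S : Finset α | S.card = k ∧ ∀ l ∈ L, (l ∩ S).card ≤ 2}.ncard =
      ((Finset.powersetCard k (Finset.univ : Finset α)).filter fun S =>
        IsArc (Finset.univ.filter fun b => b ∈ L) S).card := by
    intro k
    rw [← Set.ncard_coe_finset]
    congr 1
    ext S
    simp [harc]
  refine ⟨(hn 4).trans hp.card_arcs, (hn 6).trans hp.card_hyperovals, fun S hS => ?_⟩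
  obtain ⟨H, ⟨⟨h6, hH⟩, hSH⟩, hu⟩ := hp.hyperoval_unique hS.1 ((harc S).mpr hS.2)
  exact ⟨H, ⟨⟨h6, (harc H).mp hH⟩, hSH⟩, fun K hK => hu K ⟨⟨hK.1.1, (harc K).mpr hK.1.2⟩, hK.2⟩⟩

end Cfsg.Agent.S5627
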