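import Cfsg.Statements.S0340
import Cfsg.Agent.Lib.SuzukiKernel.Main
import Cfsg.Agent.Lib.Zassenhaus.AbelianCases
import Cfsg.Agent.S0344
import Cfsg.Agent.S0345
import Cfsg.Agent.S4702

set_option autoImplicit false
open Cfsg

namespace Cfsg.Agent.S0340

open MulAction Cfsg.Agent.Lib.Zassenhaus

/-- `SL₂(F) = PSL₂(F)` in characteristic two. -/
private theorem nonempty_sl_iso_psl {F : Type} [Field F] [CharP F 2] :
    Nonempty (Matrix.SpecialLinearGroup (Fin 2) F ≃* Matrix.ProjectiveSpecialLinearGroup (Fin 2) F) := by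
  have h : Subgroup.center (Matrix.SpecialLinearGroup (Fin 2) F) = ⊥ := by
    rw [Subgroup.eq_bot_iff_forall]
    intro A hA
    obtain ⟨r, hr, hA'⟩ := Matrix.SpecialLinearGroup.mem_center_iff.1 hA
    rw [Fintype.card_fin] at hr
    have hr1 : r = 1 := CharTwo.sq_injective (by simpa using hr)
    refine Subtype.ext ?_
    rw [← hA', hr1, map_one]
    rfl
  exact ⟨((QuotientGroup.quotientMulEquivOfEq h).trans QuotientGroup.quotientBot).symm⟩

/-- The sharply triply transitive case. -/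
private theorem psl_of_sharp {G Ω : Type*} [Group G] [MulAction G Ω] [Finite Ω]
    (hZ : Cfsg.IsZassenhausGroup G Ω) {a b : Ω} (hab : a ≠ b) (hn : Odd (Nat.card Ω))
    (h3 : IsMultiplyPretransitive G Ω 3) :
    ∃ (F : Type) (_ : Field F) (_ : Fintype F),
      Nonempty (G ≃* Matrix.ProjectiveSpecialLinearGroup (Fin 2) F) := by
  classical
  have := faithful hZ
  have := Fintype.ofFinite Ω
  obtain ⟨c, hca, hcb⟩ := exists_third hZ a b
  have hcard : 3 ≤ Fintype.card Ω := Fintype.two_lt_card_iff.2 ⟨a, b, c, hab, hca.symm, hcb.symm⟩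
  let H := (MulAction.toPermHom G Ω).range
  have hinj : Function.Injective (MulAction.toPermHom G Ω) := fun g h e =>
    eq_of_smul_eq_smul fun w : Ω => congrArg (fun f : Equiv.Perm Ω => f w) e
  have hH3 : IsMultiplyPretransitive H Ω 3 := ⟨fun x y => by
    obtain ⟨g, hg⟩ := h3.exists_smul_eq x y
    exact ⟨⟨_, g, rfl⟩, Function.Embedding.ext fun i => congrArg (fun t : Fin 3 ↪ Ω => t i) hg⟩⟩
  have hfix : ∀ g : H, 3 ≤ Nat.card (fixedBy Ω g) → g = 1 := by
    rintro ⟨_, g, rfl⟩ hg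
    rw [Nat.card_eq_fintype_card] at hg
    obtain ⟨⟨x, hx⟩, ⟨y, hy⟩, ⟨z, hz⟩, h1, h2, h4⟩ := Fintype.two_lt_card_iff.1 hg
    have e : g = 1 := eq_one_of_three hZ (fun e => h1 (Subtype.ext e)) (fun e => h4 (Subtype.ext e))
      (fun e => h2 (Subtype.ext e)) hx hy hz
    subst e
    exact Subtype.ext (map_one _)
  obtain ⟨k, hk, -, F, fF, ffF, hF, ⟨e⟩⟩ := Cfsg.Agent.S4702.result hcard
    (by rwa [← Nat.card_eq_fintype_card]) H hH3 hfix
  have : Fact (Nat.Prime 2) := ⟨Nat.prime_two⟩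
  have : CharP F 2 := charP_of_card_eq_prime_pow (f := k) hF
  obtain ⟨e'⟩ := nonempty_sl_iso_psl (F := F)
  exact ⟨F, fF, ffF, ⟨((MonoidHom.ofInjective hinj).trans e).trans e'⟩⟩

/-- Classification of Zassenhaus groups, simple case, order-level form: a finite simple Zassenhaus group is
isomorphic to `PSL₂(F)` for some finite field `F` or is simple of Suzuki order. -/
theorem result {G Ω : Type*} [Group G] [Finite G] [MulAction G Ω]
    [Finite Ω] (hZ : Cfsg.IsZassenhausGroup G Ω) [IsSimpleGroup G] :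
    (∃ (F : Type) (_ : Field F) (_ : Fintype F), Nonempty (G ≃* Matrix.ProjectiveSpecialLinearGroup (Fin 2) F)) ∨ Cfsg.IsSuzuki G := by
  obtain ⟨a, b, hab⟩ : ∃ a b : Ω, a ≠ b := by
    obtain ⟨g, hg, c, d, hcd, -⟩ := hZ.2.2.2.1
    exact ⟨c, d, hcd⟩
  rcases Nat.even_or_odd (Nat.card ↥(stabilizer G a ⊓ stabilizer G b)) with hde | hdo
  · obtain ⟨F, fF, ffF, -, h⟩ := Cfsg.Agent.S0344.result hZ hab hde
    exact Or.inl ⟨F, fF, ffF, h⟩
  obtain ⟨U, hU⟩ := exists_regKernel hZ hab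
  rcases Nat.even_or_odd (Nat.card Ω) with hne | hno
  · obtain ⟨hcard, hcyc, hinv⟩ := even_degree hZ hab hU hne hdo
    have hm := RegKernel.card_add_one hab hU
    have hA := RegKernel.toAbKernel hZ hab hU (comm_of_card hZ hab hU hdo (by omega))
    obtain ⟨F, fF, ffF, -, h⟩ := iso_psl_of_odd hZ hab hA hdo hcard hcyc hinv
    exact Or.inl ⟨F, fF, ffF, h⟩
  rcases odd_degree hZ hab hU hno with hd | ⟨hU2, hna, -⟩
  · exact Or.inl (psl_of_sharp hZ hab hno (sharply_of_card hZ hab hd).1)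
  · exact Or.inr (Cfsg.Agent.Lib.SuzukiKernel.isSuzuki hZ hab hU hU2 hna
      (Cfsg.Agent.S0345.result hZ hab).1)

end Cfsg.Agent.S0340
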