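import Cfsg.Statements.S0346
import Cfsg.Agent.Lib.Zassenhaus.KernelCases

set_option autoImplicit false
open Cfsg

namespace Cfsg.Agent.S0346

/-- The number of points of a finite simple Zassenhaus group is `p^k + 1` for some prime power `p^k` (the regular normal
subgroup of a point stabiliser is a `p`-group). -/
theorem result {G Ω : Type*} [Group G] [Finite G] [MulAction G Ω] [Fintype Ω]
    (hZ : Cfsg.IsZassenhausGroup G Ω) [IsSimpleGroup G] :
    IsPrimePow (Fintype.card Ω - 1) := by
  classical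
  obtain ⟨a, b, hab⟩ : ∃ a b : Ω, a ≠ b := by
    obtain ⟨_, -, a, b, hab, -⟩ := hZ.2.2.2.1
    exact ⟨a, b, hab⟩
  obtain ⟨U, hU⟩ := Lib.Zassenhaus.exists_regKernel hZ hab
  have hm := Lib.Zassenhaus.RegKernel.card_add_one hab hU
  have hm2 := Lib.Zassenhaus.RegKernel.two_le_card hZ hab hU
  rw [show Fintype.card Ω - 1 = Nat.card U by rw [← Nat.card_eq_fintype_card]; omega]
  set d := Nat.card ↥(MulAction.stabilizer G a ⊓ MulAction.stabilizer G b : Subgroup G) with hd
  rcases Nat.even_or_odd d with hde | hdo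
  · have hle := Lib.Zassenhaus.two_mul_card_le_of_simple hZ hab hde
    obtain ⟨F, fF, ffF, -, hF, -⟩ := Lib.Zassenhaus.iso_psl_of_even hZ hab hde hle
    rw [show Nat.card U = Fintype.card F by omega]
    exact FiniteField.isPrimePow_card F
  rcases Nat.even_or_odd (Nat.card Ω) with hn | hn
  · obtain ⟨hcard, hcyc, -⟩ := Lib.Zassenhaus.even_degree hZ hab hU hn hdo
    have hU' : Nat.card U = 2 * d + 1 := by omega
    obtain ⟨x₀, h0a, h0b⟩ := Lib.Zassenhaus.exists_third hZ a b
    have hDc : ∀ g ∈ MulAction.stabilizer G a ⊓ MulAction.stabilizer G b,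
        ∀ h ∈ MulAction.stabilizer G a ⊓ MulAction.stabilizer G b, g * h = h * g :=
      fun g hg h hh => congrArg Subtype.val ((IsCyclic.commGroup (α := ↥(MulAction.stabilizer G a ⊓
        MulAction.stabilizer G b : Subgroup G))).mul_comm ⟨g, hg⟩ ⟨h, hh⟩)
    obtain ⟨F, fF, ffF, E, σ, -, -, -, hF, -⟩ := Lib.Zassenhaus.exists_coords hZ hab h0a h0b U hU.le
      hU.conj (Lib.Zassenhaus.comm_of_card hZ hab hU hdo hU') hU.reg hDc ⟨d, hU'⟩ (by omega)
    rw [← hF]
    exact FiniteField.isPrimePow_card F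
  · rcases Lib.Zassenhaus.odd_degree hZ hab hU hn with h1 | h1
    · exact Lib.Zassenhaus.primePow_of_card hZ hab hU (by omega)
    · have := Fact.mk Nat.prime_two
      obtain ⟨j, hj⟩ := IsPGroup.iff_card.1 h1.1
      rw [hj]
      refine Nat.prime_two.isPrimePow.pow fun h => ?_
      rw [h, pow_zero] at hj
      omega

end Cfsg.Agent.S0346
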