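import Cfsg.Statements.S0069
import Cfsg.Agent.S0039
import Cfsg.Agent.Lib.Frobenius.Complement
import Cfsg.Agent.Lib.Frobenius.PGroupOdd

set_option autoImplicit false
set_option linter.style.haveILetI false
open Cfsg

namespace Cfsg.Agent.S0069

/-- A Frobenius complement has nontrivial centre: if H ≠ 1 complements a nontrivial normal subgroup K and every nonidentity element of H has trivial centraliser in K, then the centre of H is nontrivial. -/
theorem result {G : Type*} [Group G] [Finite G] (K H : Subgroup G) [K.Normal]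
    (hc : Subgroup.IsComplement' K H) (hK : K ≠ ⊥) (hH : H ≠ ⊥) (hfpf : ∀ h ∈ H, h ≠ 1 → K ⊓ Subgroup.centralizer {h} = ⊥) :
    Subgroup.center H ≠ ⊥ := by
  have hF : Cfsg.IsFrobeniusComplement H := (S0039.result K H hc hK hH).2 hfpf
  by_cases h2 : 2 ∣ Nat.card H
  · exact Lib.Frobenius.center_ne_bot_of_even hF hc h2
  haveI : IsZGroup H := ⟨fun p hp P => by
    haveI := Fact.mk hp
    by_cases hp2 : p = 2
    · subst hp2
      haveI : Subsingleton P := by
        refine (Nat.card_eq_one_iff_unique.1 ?_).1
        obtain ⟨n, hn⟩ := IsPGroup.iff_card.1 P.isPGroup'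
        rcases Nat.eq_zero_or_pos n with h | h
        · rw [hn, h, pow_zero]
        · exact absurd ((dvd_pow_self 2 h.ne').trans (hn ▸ Subgroup.card_subgroup_dvd_card _)) h2
      exact isCyclic_of_subsingleton
    · exact Lib.Frobenius.PGroupOdd.isCyclic_of_unique_prime P.isPGroup' hp2
        fun x y hx hy => Lib.Frobenius.zpowers_eq_of_isPGroup hF hc P.isPGroup' hx hy⟩
  exact Lib.Frobenius.center_ne_bot_of_isZGroup hF hc

end Cfsg.Agent.S0069
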