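import Cfsg.Statements.S2602
import Cfsg.Agent.Lib.AutPSL.Out

set_option autoImplicit false
open Cfsg

namespace Cfsg.Agent.S2602

open Cfsg.Agent.Lib.AutPSL

/-- Structure of the outer automorphism group of PSL_2(q), q = p^f ≥ 4: it has a normal cyclic subgroup of order gcd(2, q − 1) (diagonal automorphisms) with cyclic quotient of order f (field automorphisms); there is no graph automorphism in dimension 2. -/
theorem result {F : Type*} [Field F] [Fintype F] {p f : ℕ} [Fact p.Prime] (hf : 1 ≤ f) (hF : Fintype.card F = p ^ f) (h4 : 4 ≤ p ^ f) : ∃ φ : Cfsg.Out (Matrix.ProjectiveSpecialLinearGroup (Fin 2) F) →* Multiplicative (ZMod f), Function.Surjective φ ∧ IsCyclic φ.ker ∧ Nat.card φ.ker = Nat.gcd 2 (p ^ f - 1) := by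
  classical
  have := isCyclic_fieldAuts (F := F)
  haveI : NeZero f := ⟨by omega⟩
  let e₁ : (F ≃+* F) ≃* Multiplicative (ZMod f) := mulEquivOfCyclicCardEq (by
    rw [card_fieldAuts hF, Nat.card_eq_fintype_card, Fintype.card_multiplicative, ZMod.card])
  obtain ⟨φ, hs, hc, hk⟩ := exists_out_hom (F := F) (le_refl 2) (1 : Unit →* MulAut _)
    (fun _ _ => Commute.one_right _) (fun _ _ _ _ => rfl)
    (fun α => by
      obtain ⟨g, σ, γ, hγ, rfl⟩ := exists_decomp (le_refl 2) α
      rcases hγ with rfl | ⟨h, -⟩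
      · exact ⟨g, σ, (), by simp⟩
      · omega)
  let e : (F ≃+* F) × Unit ≃* Multiplicative (ZMod f) := MulEquiv.prodUnique.trans e₁
  have hker : (e.toMonoidHom.comp φ).ker = φ.ker := by
    ext x; simp
  exact ⟨e.toMonoidHom.comp φ, e.surjective.comp hs, hker ▸ hc, by rw [hker, hk, hF]⟩

end Cfsg.Agent.S2602
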