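import Cfsg.Statements.S3224
import Cfsg.Agent.Lib.TwoGroups.Recognition

set_option autoImplicit false
open Cfsg

namespace Cfsg.Agent.S3224

universe u

theorem centralizer_eq {S : Type u} [Group S] [Finite S] {x z : S} (hx : orderOf x = 2) (hz : orderOf z = 2)
    (hzc : z ∈ Subgroup.center S) (hne : z ≠ x) (hC : Nat.card ↥(Subgroup.centralizer ({x} : Set S)) = 4) :
    (Subgroup.centralizer ({x} : Set S) : Set S) = {1, x, z, x * z} := by
  classical
  have hx1 : x ≠ 1 := fun h => by rw [h, orderOf_one] at hx; norm_num at hx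
  have hz1 : z ≠ 1 := fun h => by rw [h, orderOf_one] at hz; norm_num at hz
  have hxx : x * x = 1 := by rw [← pow_two, ← hx, pow_orderOf_eq_one]
  symm
  refine Set.eq_of_subset_of_ncard_le ?_ ?_ (Set.toFinite _)
  · intro y hy
    simp only [Set.mem_insert_iff, Set.mem_singleton_iff] at hy
    rw [SetLike.mem_coe, Subgroup.mem_centralizer_singleton_iff]
    have hzx := Subgroup.mem_center_iff.1 hzc x
    rcases hy with rfl | rfl | rfl | rfl
    · simp
    · rfl
    · exact hzx.symm
    · rw [mul_assoc, ← hzx]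
  · rw [show (Subgroup.centralizer ({x} : Set S) : Set S).ncard = 4 from hC]
    rw [Set.ncard_insert_of_notMem, Set.ncard_insert_of_notMem, Set.ncard_pair]
    · intro h
      exact hx1 (mul_eq_right.1 h.symm)
    · simp only [Set.mem_insert_iff, Set.mem_singleton_iff, not_or]
      exact ⟨hne.symm, fun h => hz1 (left_eq_mul.1 h)⟩
    · simp only [Set.mem_insert_iff, Set.mem_singleton_iff, not_or]
      refine ⟨hx1.symm, hz1.symm, fun h => hne ?_⟩
      have h' : x * (x * z) = x * 1 := by rw [← h]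
      rwa [← mul_assoc, hxx, one_mul, mul_one] at h'

/-- An element generating a normal cyclic subgroup contains only one involution, which is central. -/
theorem notMem_zpowers {S : Type u} [Group S] [Finite S] {x a : S} (hx : orderOf x = 2)
    (hn : (Subgroup.zpowers a).Normal) (hnc : x ∉ Subgroup.center S) : x ∉ Subgroup.zpowers a := by
  intro hxa
  apply hnc
  rw [Subgroup.mem_center_iff]
  intro g
  have h1 : g * x * g⁻¹ ∈ Subgroup.zpowers a := hn.conj_mem x hxa g
  have h2 : orderOf (g * x * g⁻¹) = 2 := by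
    rw [show g * x * g⁻¹ = MulAut.conj g x from rfl, MulEquiv.orderOf_eq, hx]
  haveI : IsCyclic ↥(Subgroup.zpowers a) := inferInstance
  have h3 : (⟨x, hxa⟩ : ↥(Subgroup.zpowers a)) = ⟨_, h1⟩ := by
    classical
    letI := Fintype.ofFinite ↥(Subgroup.zpowers a)
    by_contra hne
    have hle := IsCyclic.card_pow_eq_one_le (α := ↥(Subgroup.zpowers a)) (n := 2) (by norm_num)
    have hsub : ({1, ⟨x, hxa⟩, ⟨_, h1⟩} : Finset ↥(Subgroup.zpowers a)) ⊆ Finset.univ.filter (fun a => a ^ 2 = 1) := by
      intro y hy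
      simp only [Finset.mem_insert, Finset.mem_singleton] at hy
      simp only [Finset.mem_filter, Finset.mem_univ, true_and]
      rcases hy with rfl | rfl | rfl
      · simp
      · exact Subtype.ext (by simp [← hx, pow_orderOf_eq_one])
      · exact Subtype.ext (by show (g * x * g⁻¹) ^ 2 = 1; rw [← h2]; exact pow_orderOf_eq_one _)
    have hcard := (Finset.card_le_card hsub).trans hle
    rw [Finset.card_insert_of_notMem, Finset.card_pair hne] at hcard
    · norm_num at hcard
    simp only [Finset.mem_insert, Finset.mem_singleton, not_or]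
    constructor
    · intro h; rw [show x = 1 from (congrArg Subtype.val h).symm, orderOf_one] at hx; norm_num at hx
    · intro h; rw [show g * x * g⁻¹ = 1 from (congrArg Subtype.val h).symm, orderOf_one] at h2; norm_num at h2
  exact mul_inv_eq_iff_eq_mul.1 (congrArg Subtype.val h3).symm

theorem exists_cyclic : ∀ (m : ℕ) (S : Type u) [Group S] [Finite S], IsPGroup 2 S → Nat.card S = 2 ^ m → 3 ≤ m →
    ∀ x : S, orderOf x = 2 → Nat.card ↥(Subgroup.centralizer ({x} : Set S)) = 4 →
      ∃ a : S, orderOf a = 2 ^ (m - 1) ∧ x ∉ Subgroup.zpowers a := by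
  intro m
  induction m using Nat.strong_induction_on with
  | _ m ih =>
  intro S _ _ hS hm hm3 x hx hC
  haveI : Fact (Nat.Prime 2) := ⟨Nat.prime_two⟩
  have h8 : 8 ≤ Nat.card S := hm ▸ le_trans (by norm_num) (Nat.pow_le_pow_right (by norm_num) hm3)
  have hnc : x ∉ Subgroup.center S := by
    intro h
    rw [Subgroup.centralizer_eq_top_iff_subset.2 (Set.singleton_subset_iff.2 h), Subgroup.card_top] at hC
    omega
  haveI : Nontrivial S := ⟨⟨x, 1, fun h => by rw [h, orderOf_one] at hx; norm_num at hx⟩⟩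
  haveI := hS.center_nontrivial
  obtain ⟨k, hk, hck⟩ := (hS.to_subgroup (Subgroup.center S)).nontrivial_iff_card.1 inferInstance
  obtain ⟨z', hz'⟩ := exists_prime_orderOf_dvd_card' 2 (hck ▸ dvd_pow_self 2 (by omega) : 2 ∣ Nat.card (Subgroup.center S))
  set z : S := (z' : S) with hzdef
  have hz : orderOf z = 2 := by rw [hzdef, Subgroup.orderOf_coe, hz']
  have hzc : z ∈ Subgroup.center S := z'.2
  have hne : z ≠ x := fun h => hnc (h ▸ hzc)
  have hCset := centralizer_eq hx hz hzc hne hC
  rcases Nat.lt_or_ge m 4 with hlt | hge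
  · obtain rfl : m = 3 := by omega
    obtain ⟨a, ha⟩ : ∃ a : S, a ^ 2 ≠ 1 := by
      by_contra hall
      push_neg at hall
      apply hnc
      rw [Subgroup.mem_center_iff]
      intro g
      have h1 := hall (g * x)
      have h2 := hall g
      have h3 := hall x
      rw [pow_two] at h1 h2 h3
      calc g * x = (g * x)⁻¹ := eq_inv_of_mul_eq_one_left h1
        _ = x⁻¹ * g⁻¹ := mul_inv_rev _ _
        _ = x * g := by rw [inv_eq_of_mul_eq_one_right h3, inv_eq_of_mul_eq_one_right h2]
    obtain ⟨j, hj3, hj⟩ := (Nat.dvd_prime_pow Nat.prime_two).1 (hm ▸ orderOf_dvd_natCard a)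
    have hj2 : j = 2 := by
      rcases (by omega : j ≤ 1 ∨ j = 2 ∨ j = 3) with h | h | h
      · exfalso; apply ha
        rw [← orderOf_dvd_iff_pow_eq_one, hj]
        exact (pow_dvd_pow 2 h).trans (dvd_of_eq (pow_one 2))
      · exact h
      · exfalso
        apply hnc
        rw [h] at hj
        have htop : Subgroup.zpowers a = ⊤ := Subgroup.eq_top_of_card_eq _ (by rw [Nat.card_zpowers, hj, hm])
        rw [Subgroup.mem_center_iff]
        intro g
        obtain ⟨i, rfl⟩ := Subgroup.mem_zpowers_iff.1 (htop ▸ Subgroup.mem_top g)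
        obtain ⟨i', rfl⟩ := Subgroup.mem_zpowers_iff.1 (htop ▸ Subgroup.mem_top x)
        exact (Commute.zpow_zpow_self a i i').eq
    refine ⟨a, by rw [hj, hj2], notMem_zpowers hx ?_ hnc⟩
    refine Subgroup.normal_of_index_eq_two ?_
    have := (Subgroup.zpowers a).card_mul_index
    rw [Nat.card_zpowers, hj, hj2, hm] at this
    omega
  -- the quotient by `⟨z⟩`
  set Z := Subgroup.zpowers z with hZ
  haveI : Z.Normal := ⟨fun y hy g => by
    rwa [Subgroup.mem_center_iff.1 ((Subgroup.zpowers_le.2 hzc) hy) g, mul_inv_cancel_right]⟩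
  have hZ2 : Nat.card Z = 2 := by rw [hZ, Nat.card_zpowers, hz]
  have hQ : Nat.card (S ⧸ Z) = 2 ^ (m - 1) := by
    have h := Z.card_mul_index
    rw [hZ2, hm, Subgroup.index_eq_card, show m = (m - 1) + 1 by omega, pow_succ'] at h
    exact mul_left_cancel₀ two_ne_zero h
  have hxZ : x ∉ Z := fun h => hnc ((Subgroup.zpowers_le.2 hzc) h)
  set π := QuotientGroup.mk' Z with hπ
  have hxq : orderOf (π x) = 2 := orderOf_eq_prime (by rw [← map_pow, ← hx, pow_orderOf_eq_one, map_one])
    (fun h => hxZ ((QuotientGroup.eq_one_iff x).1 h))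
  have hCq : Nat.card ↥(Subgroup.centralizer ({π x} : Set (S ⧸ Z))) = 4 := by
    obtain ⟨j, -, hj⟩ := (Nat.dvd_prime_pow Nat.prime_two).1 (hQ ▸ Subgroup.card_subgroup_dvd_card (Subgroup.centralizer ({π x} : Set (S ⧸ Z))))
    -- upper bound
    set W := (Subgroup.centralizer ({π x} : Set (S ⧸ Z))).comap π with hW
    have hWcard : Nat.card W = 2 ^ (j + 1) := by
      rw [hW]
      show Nat.card (QuotientGroup.mk ⁻¹' (Subgroup.centralizer ({π x} : Set (S ⧸ Z)) : Set (S ⧸ Z))) = _
      rw [QuotientGroup.card_preimage_mk, hZ2, show Nat.card ↥(Subgroup.centralizer ({π x} : Set (S ⧸ Z)) : Set (S ⧸ Z)) = 2 ^ j from hj]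
      ring
    have hWle : Nat.card W ≤ 2 * 4 := by
      let f : W → Z := fun w => ⟨(w : S) * x * (w : S)⁻¹ * x⁻¹, by
        rw [← QuotientGroup.eq_one_iff]
        have h := Subgroup.mem_centralizer_singleton_iff.1 (show π w ∈ _ from w.2)
        show π ((w : S) * x * (w : S)⁻¹ * x⁻¹) = 1
        simp only [map_mul, map_inv]
        rw [h, mul_inv_cancel_right, mul_inv_cancel]⟩
      classical
      letI := Fintype.ofFinite W
      letI := Fintype.ofFinite Z
      rw [Nat.card_eq_fintype_card]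
      calc Fintype.card W = (Finset.univ : Finset W).card := rfl
        _ = ∑ c : Z, (Finset.univ.filter (fun w => f w = c)).card := Finset.card_eq_sum_card_fiberwise (by simp)
        _ ≤ ∑ _c : Z, 4 := by
          refine Finset.sum_le_sum fun c _ => ?_
          by_cases hc : ∃ w₀, f w₀ = c
          · obtain ⟨w₀, hw₀⟩ := hc
            rw [← hC]
            letI := Fintype.ofFinite ↥(Subgroup.centralizer ({x} : Set S))
            rw [Nat.card_eq_fintype_card]
            refine Finset.card_le_card_of_injOn (fun w => if h : (w₀ : S)⁻¹ * w ∈ Subgroup.centralizer ({x} : Set S) then (⟨_, h⟩ : ↥(Subgroup.centralizer ({x} : Set S))) else 1) (fun w _ => Finset.mem_univ _) ?_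
            have hmem : ∀ w : W, f w = c → (w₀ : S)⁻¹ * w ∈ Subgroup.centralizer ({x} : Set S) := by
              intro w hw
              have h : (w : S) * x * (w : S)⁻¹ = (w₀ : S) * x * (w₀ : S)⁻¹ :=
                mul_right_cancel (congrArg Subtype.val (hw.trans hw₀.symm))
              rw [Subgroup.mem_centralizer_singleton_iff]
              calc (w₀ : S)⁻¹ * w * x = (w₀ : S)⁻¹ * ((w : S) * x * (w : S)⁻¹) * w := by group
                _ = x * ((w₀ : S)⁻¹ * w) := by rw [h]; group
            intro w hw w' hw' he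
            simp only [Finset.coe_filter, Finset.mem_univ, true_and, Set.mem_setOf_eq] at hw hw'
            simp only [dif_pos (hmem w hw), dif_pos (hmem w' hw'), Subtype.mk.injEq, mul_right_inj] at he
            exact Subtype.ext he
          · push_neg at hc
            rw [Finset.filter_false_of_mem (fun w _ => hc w)]
            simp
        _ = 2 * 4 := by rw [Finset.sum_const, Finset.card_univ, ← Nat.card_eq_fintype_card, hZ2, smul_eq_mul]
    rw [hWcard] at hWle
    have hj2 : j ≤ 2 := by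
      by_contra h
      have : 2 ^ 4 ≤ 2 ^ (j + 1) := Nat.pow_le_pow_right (by norm_num) (by omega)
      omega
    have hj1 : 2 ≤ j := by
      by_contra h
      have hle : Subgroup.centralizer ({π x} : Set (S ⧸ Z)) ≤ Subgroup.zpowers (π x) := by
        have hge : Subgroup.zpowers (π x) ≤ Subgroup.centralizer ({π x} : Set (S ⧸ Z)) :=
          Subgroup.zpowers_le.2 (Subgroup.mem_centralizer_singleton_iff.2 rfl)
        refine (Subgroup.eq_of_le_of_card_ge hge ?_).ge
        rw [hj, Nat.card_zpowers, hxq]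
        calc 2 ^ j ≤ 2 ^ 1 := Nat.pow_le_pow_right (by norm_num) (by omega)
          _ = 2 := pow_one 2
      -- then `π x` is central
      have hP : IsPGroup 2 (S ⧸ Z) := hS.to_quotient Z
      haveI : Nontrivial (S ⧸ Z) := ⟨⟨π x, 1, fun h1 => by rw [h1, orderOf_one] at hxq; norm_num at hxq⟩⟩
      haveI := hP.center_nontrivial
      obtain ⟨⟨c, hc⟩, hc1⟩ := exists_ne (1 : Subgroup.center (S ⧸ Z))
      have hc' : c ∈ Subgroup.zpowers (π x) := hle (Subgroup.center_le_centralizer _ hc)
      have hxc : π x ∈ Subgroup.center (S ⧸ Z) := by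
        obtain ⟨i, hi⟩ := Subgroup.mem_zpowers_iff.1 hc'
        rcases Int.even_or_odd' i with ⟨l, rfl | rfl⟩
        · exfalso; apply hc1
          refine Subtype.ext ?_
          show c = 1
          rw [← hi, zpow_mul, zpow_ofNat, ← hxq, pow_orderOf_eq_one, one_zpow]
        · rwa [← hi, zpow_add, zpow_mul, zpow_ofNat, ← hxq, pow_orderOf_eq_one, one_zpow, one_mul, zpow_one] at hc
      have htop : Subgroup.centralizer ({π x} : Set (S ⧸ Z)) = ⊤ :=
        Subgroup.centralizer_eq_top_iff_subset.2 (Set.singleton_subset_iff.2 hxc)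
      rw [htop, Subgroup.card_top, hQ] at hj
      have := Nat.pow_right_injective le_rfl hj
      omega
    rw [hj, show j = 2 by omega]
    norm_num
  obtain ⟨ā, hā, hxā⟩ := ih (m - 1) (by omega) (S ⧸ Z) (hS.to_quotient Z) hQ (by omega) (π x) hxq hCq
  obtain ⟨a, rfl⟩ := QuotientGroup.mk'_surjective Z ā
  set A := (Subgroup.zpowers (π a)).comap π with hA
  have hxA : x ∉ A := hxā
  have hAcard : Nat.card A = 2 ^ (m - 1) := by
    show Nat.card (QuotientGroup.mk ⁻¹' (Subgroup.zpowers (π a) : Set (S ⧸ Z))) = _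
    rw [QuotientGroup.card_preimage_mk, hZ2,
      show Nat.card ↥((Subgroup.zpowers (π a) : Set (S ⧸ Z))) = orderOf (π a) from Nat.card_zpowers _, hā,
      show m - 1 = (m - 1 - 1) + 1 by omega, pow_succ']
    rfl
  have hAn : A.Normal := Subgroup.normal_of_index_eq_two (by
    have h := A.card_mul_index
    rw [hAcard, hm, show m = (m - 1) + 1 by omega, pow_succ] at h
    exact mul_left_cancel₀ (pow_ne_zero _ two_ne_zero) h)
  have hAle : ∀ y ∈ A, ∃ i : ℤ, ∃ j : ℤ, y = a ^ i * z ^ j := by
    intro y hy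
    obtain ⟨i, hi⟩ := Subgroup.mem_zpowers_iff.1 (show π y ∈ Subgroup.zpowers (π a) from hy)
    rw [← map_zpow] at hi
    obtain ⟨w, hw, hwy⟩ := (QuotientGroup.mk'_eq_mk' Z).1 hi
    obtain ⟨j, rfl⟩ := Subgroup.mem_zpowers_iff.1 hw
    exact ⟨i, j, hwy.symm⟩
  by_cases hza : z ∈ Subgroup.zpowers a
  · have hAeq : A = Subgroup.zpowers a := by
      refine le_antisymm (fun y hy => ?_) (Subgroup.zpowers_le.2 (Subgroup.mem_zpowers (π a)))
      obtain ⟨i, j, rfl⟩ := hAle y hy
      exact Subgroup.mul_mem _ (Subgroup.zpow_mem _ (Subgroup.mem_zpowers a) i) (Subgroup.zpow_mem _ hza j)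
    refine ⟨a, ?_, hAeq ▸ hxA⟩
    rw [← Nat.card_zpowers, ← hAeq, hAcard]
  exfalso
  obtain ⟨k, hk⟩ : ∃ k, orderOf a = 2 ^ k := by
    obtain ⟨k, -, hk⟩ := (Nat.dvd_prime_pow Nat.prime_two).1 (hm ▸ orderOf_dvd_natCard a)
    exact ⟨k, hk⟩
  have hk1 : m - 1 - 1 ≤ k := by
    have h := orderOf_map_dvd π a
    rw [hā, hk] at h
    exact (Nat.pow_dvd_pow_iff_le_right (by norm_num)).1 h
  set a' := a ^ 2 ^ (k - 1) with ha'
  have ha'o : orderOf a' = 2 := by
    rw [ha', orderOf_pow, hk, Nat.gcd_eq_right (pow_dvd_pow 2 (Nat.sub_le k 1)),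
      Nat.pow_div (Nat.sub_le k 1) (by norm_num), show k - (k - 1) = 1 by omega, pow_one]
  have hfix : x * a' * x⁻¹ = a' := by
    obtain ⟨i, j, hij⟩ := hAle _ (hAn.conj_mem a (show π a ∈ Subgroup.zpowers (π a) from Subgroup.mem_zpowers _) x)
    have hzj : (z ^ j) ^ 2 ^ (k - 1) = 1 := by
      rw [show k - 1 = k - 2 + 1 by omega, pow_succ', pow_mul, ← zpow_natCast (z ^ j) 2, ← zpow_mul, mul_comm,
        zpow_mul, zpow_natCast, ← hz, pow_orderOf_eq_one, one_zpow, one_pow]
    have hcm : Commute (a ^ i) (z ^ j) := Commute.zpow_zpow (Subgroup.mem_center_iff.1 hzc a) i j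
    have h1 : x * a' * x⁻¹ = a' ^ i := by
      rw [ha', ← conj_pow, hij, hcm.mul_pow, hzj, mul_one, ← zpow_natCast (a ^ i), ← zpow_mul, mul_comm,
        zpow_mul, zpow_natCast]
    rcases Int.even_or_odd' i with ⟨l, rfl | rfl⟩
    · exfalso
      rw [zpow_mul, zpow_ofNat, ← ha'o, pow_orderOf_eq_one, one_zpow] at h1
      have : a' = 1 := by
        calc a' = x⁻¹ * (x * a' * x⁻¹) * x := by group
          _ = 1 := by rw [h1]; group
      rw [this, orderOf_one] at ha'o
      norm_num at ha'o
    · rw [h1, zpow_add, zpow_mul, zpow_ofNat, ← ha'o, pow_orderOf_eq_one, one_zpow, one_mul, zpow_one]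
  have hmem : a' ∈ ({1, x, z, x * z} : Set S) := by
    rw [← hCset, SetLike.mem_coe, Subgroup.mem_centralizer_singleton_iff]
    exact (mul_inv_eq_iff_eq_mul.1 hfix).symm
  have ha'A : a' ∈ A := A.pow_mem (show π a ∈ Subgroup.zpowers (π a) from Subgroup.mem_zpowers _) _
  have hzA : z ∈ A := by
    show π z ∈ Subgroup.zpowers (π a)
    rw [show π z = 1 from (QuotientGroup.eq_one_iff z).2 (Subgroup.mem_zpowers z)]
    exact Subgroup.one_mem _
  simp only [Set.mem_insert_iff, Set.mem_singleton_iff] at hmem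
  rcases hmem with h | h | h | h
  · rw [h, orderOf_one] at ha'o; norm_num at ha'o
  · exact hxA (h ▸ ha'A)
  · exact hza (h ▸ Subgroup.npow_mem_zpowers a _)
  · refine hxA ?_
    have := A.mul_mem (h ▸ ha'A : x * z ∈ A) (A.inv_mem hzA)
    simpa using this

theorem result {S : Type*} [Group S] [Finite S] (hS : IsPGroup 2 S)
    (x : S) (hx : orderOf x = 2) (hC : Nat.card ↥(Subgroup.centralizer ({x} : Set S)) = 4) :
    (∃ n : ℕ, Nonempty (S ≃* DihedralGroup n)) ∨ Cfsg.IsQuasiDihedral S ∨ Nat.card S = 4 := by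
  haveI : Fact (Nat.Prime 2) := ⟨Nat.prime_two⟩
  obtain ⟨m, hm⟩ := IsPGroup.iff_card.1 hS
  have hm2 : 2 ≤ m := by
    have h := Subgroup.card_le_card_group (Subgroup.centralizer ({x} : Set S))
    rw [hC, hm] at h
    by_contra hlt
    have : 2 ^ m ≤ 2 ^ 1 := Nat.pow_le_pow_right (by norm_num) (by omega)
    omega
  rcases Nat.lt_or_ge m 3 with hlt | hge
  · right; right
    rw [hm, show m = 2 by omega]
    norm_num
  obtain ⟨a, ha, hxa⟩ := exists_cyclic m S hS hm hge x hx hC
  have hxx : x * x = 1 := by rw [← pow_two, ← hx, pow_orderOf_eq_one]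
  have hxi : x⁻¹ = x := inv_eq_of_mul_eq_one_right hxx
  have hAn : (Subgroup.zpowers a).Normal := Subgroup.normal_of_index_eq_two (by
    have h := (Subgroup.zpowers a).card_mul_index
    rw [Nat.card_zpowers, ha, hm] at h
    have h2 : 2 ^ m = 2 ^ (m - 1) * 2 := by rw [← pow_succ]; congr 1; omega
    rw [h2] at h
    exact mul_left_cancel₀ (pow_ne_zero _ two_ne_zero) h)
  have hconj : x * a * x⁻¹ ∈ Subgroup.zpowers a := hAn.conj_mem a (Subgroup.mem_zpowers a) x
  set a' := a ^ 2 ^ (m - 2) with ha'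
  have ha'o : orderOf a' = 2 := by
    rw [ha', orderOf_pow, ha, Nat.gcd_eq_right (pow_dvd_pow 2 (by omega)),
      Nat.pow_div (by omega) (by norm_num), show m - 1 - (m - 2) = 1 by omega, pow_one]
  set b := x * a * x⁻¹ * a with hb
  have hbA : b ∈ Subgroup.zpowers a := Subgroup.mul_mem _ hconj (Subgroup.mem_zpowers a)
  have hbC : b ∈ Subgroup.centralizer ({x} : Set S) := by
    rw [Subgroup.mem_centralizer_singleton_iff]
    obtain ⟨i, hi⟩ := Subgroup.mem_zpowers_iff.1 hconj
    have hc : Commute (x * a * x⁻¹) a := by rw [← hi]; exact Commute.zpow_self a i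
    calc b * x = x * a * x⁻¹ * a * x := rfl
      _ = a * (x * a * x⁻¹) * x := by rw [hc.eq]
      _ = x * (x * a * x⁻¹ * a) := by
        rw [hxi]; simp only [← mul_assoc, hxx, one_mul]; simp only [mul_assoc, hxx, mul_one]
  -- so `b` has order at most two
  have hcases : b = 1 ∨ b = a' := by
    by_cases h1 : b = 1
    · exact Or.inl h1
    right
    have hb2 : orderOf b = 2 := by
      set K := Subgroup.zpowers a ⊓ Subgroup.centralizer ({x} : Set S)
      have hK : Nat.card K ∣ 4 := hC ▸ Subgroup.card_dvd_of_le inf_le_right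
      have hK4 : Nat.card K ≠ 4 := by
        intro h4
        have heq : K = Subgroup.centralizer ({x} : Set S) :=
          Subgroup.eq_of_le_of_card_ge inf_le_right (by rw [h4, hC])
        exact hxa ((heq.ge (Subgroup.mem_centralizer_singleton_iff.2 rfl)).1)
      have hd : orderOf b ∣ Nat.card K := K.orderOf_dvd_natCard ⟨hbA, hbC⟩
      have hK2 : Nat.card K ∣ 2 := by
        obtain ⟨j, hj, hjc⟩ := (Nat.dvd_prime_pow Nat.prime_two).1 (show Nat.card K ∣ 2 ^ 2 from hK)
        rw [hjc] at hK4 ⊢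
        rcases (by omega : j ≤ 1 ∨ j = 2) with h | h
        · exact (pow_dvd_pow 2 h).trans (dvd_of_eq (pow_one 2))
        · exact absurd (by rw [h]; norm_num) hK4
      exact ((Nat.dvd_prime Nat.prime_two).1 (hd.trans hK2)).resolve_left (fun h => h1 (orderOf_eq_one_iff.1 h))
    obtain ⟨i, hi, hib⟩ : ∃ i, i < orderOf a ∧ a ^ i = b := by
      obtain ⟨i, hi⟩ := (Subgroup.mem_zpowers_iff.1 hbA)
      refine ⟨(i % (orderOf a : ℤ)).toNat, ?_, ?_⟩
      · have := Int.emod_lt_of_pos i (by exact_mod_cast orderOf_pos a : (0:ℤ) < orderOf a)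
        have := Int.emod_nonneg i (by exact_mod_cast (orderOf_pos a).ne' : (orderOf a : ℤ) ≠ 0)
        omega
      · rw [← hi, ← zpow_natCast, Int.toNat_of_nonneg (Int.emod_nonneg i (by exact_mod_cast (orderOf_pos a).ne')),
          zpow_mod_orderOf]
    have hdvd : orderOf a ∣ i * 2 := by
      rw [orderOf_dvd_iff_pow_eq_one, pow_mul, hib, ← hb2, pow_orderOf_eq_one]
    have hh : 2 ^ (m - 1) = 2 ^ (m - 2) * 2 := by rw [← pow_succ]; congr 1; omega
    rw [ha, hh] at hdvd hi
    obtain ⟨l, rfl⟩ := Nat.dvd_of_mul_dvd_mul_right (by norm_num) hdvd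
    rcases (by
      by_contra hc
      push_neg at hc
      have : 2 ^ (m - 2) * 2 ≤ 2 ^ (m - 2) * l := Nat.mul_le_mul_left _ (by omega)
      omega : l = 0 ∨ l = 1) with rfl | rfl
    · exact absurd (by rw [← hib]; simp) h1
    · rw [← hib, ha', mul_one]
  rcases hcases with h | h
  · left
    haveI : NeZero (2 ^ (m - 1)) := ⟨pow_ne_zero _ two_ne_zero⟩
    refine ⟨2 ^ (m - 1), ?_⟩
    refine Cfsg.Agent.Lib.TwoGroups.Recognition.nonempty_dihedral ha hxx (eq_inv_of_mul_eq_one_left h) hxa ?_
    rw [hm, ← pow_succ']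
    congr 1
    omega
  · rcases Nat.lt_or_ge m 4 with hm4 | hm4
    · exfalso
      obtain rfl : m = 3 := by omega
      have h4 : a ^ 4 = 1 := by
        rw [← pow_orderOf_eq_one a, ha]; norm_num
      have hxax : x * a * x⁻¹ = a := by
        have h2 : x * a * x⁻¹ = a' * a⁻¹ := eq_mul_inv_of_mul_eq h
        rw [h2, ha']
        norm_num [pow_two]
      have hle : Subgroup.zpowers a ≤ Subgroup.centralizer ({x} : Set S) :=
        Subgroup.zpowers_le.2 (Subgroup.mem_centralizer_singleton_iff.2 (mul_inv_eq_iff_eq_mul.1 hxax).symm)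
      have heq := Subgroup.eq_of_le_of_card_ge hle (by rw [hC, Nat.card_zpowers, ha]; norm_num)
      exact hxa (heq.ge (Subgroup.mem_centralizer_singleton_iff.2 rfl))
    · right; left
      refine ⟨m - 1, by omega, by rw [hm]; congr 1; omega, a, x, ha, hx, ?_⟩
      rw [eq_mul_inv_of_mul_eq h, ha', mul_inv_eq_iff_eq_mul, ← pow_succ]
      congr 1
      have : 1 ≤ 2 ^ (m - 2) := Nat.one_le_two_pow
      rw [show m - 1 - 1 = m - 2 by omega]
      omega

end Cfsg.Agent.S3224
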