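import Cfsg.Statements.S1238
import Mathlib
import Cfsg.Agent.Lib.Fusion.RankTwoFusionSimple
import Cfsg.Agent.Lib.Fusion.U34Sylow
import Cfsg.Agent.Lib.TwoGroups.Recognition
import Cfsg.Agent.S1237
import Cfsg.Agent.S3224
-- import your own Cfsg.Agent.* helpers here

set_option autoImplicit false
open Cfsg

namespace Cfsg.Agent.S1238

open Cfsg.Agent.Lib Cfsg.Agent.Lib.Fusion Cfsg.Agent.Lib.Fusion.RankTwoFusionSimple
  Cfsg.Agent.Lib.Fusion.Alperin Subgroup

variable {G : Type*} [Group G] [Finite G]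

/-- The self-centralizing case: maximal class. -/
theorem dihedral_or_qd (S : Sylow 2 G) {V : Subgroup G} (F : Four V) (hVS : V ≤ S) {z : G}
    (hzV : z ∈ V) (hz1 : z ≠ 1) (hzc : ∀ s ∈ (S : Subgroup G), s * z = z * s)
    (hT : (S : Subgroup G) ⊓ centralizer (V : Set G) = V) :
    (∃ m : ℕ, 2 ≤ m ∧ Nonempty ((S : Subgroup G) ≃* DihedralGroup m)) ∨
      Cfsg.IsQuasiDihedral (S : Subgroup G) := by
  classical
  have : Fact (Nat.Prime 2) := ⟨Nat.prime_two⟩
  obtain ⟨u, huV, hu1, huz⟩ := F.exists_ne z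
  set C : Subgroup G := (S : Subgroup G) ⊓ centralizer ({u} : Set G)
  have hVC : V = C := by
    have hle : V ≤ C := fun v hv => ⟨hVS hv, mem_centralizer_singleton_iff.2 (F.comm hv huV)⟩
    by_contra hne
    have hlt := lt_inf_normalizer (S.2.to_le inf_le_left) (lt_of_le_of_ne hle hne)
    obtain ⟨g, hg, hgV⟩ := SetLike.exists_of_lt hlt
    apply hgV
    rw [← hT]
    refine ⟨hg.1.1, mem_centralizer_iff.2 fun v hv => ?_⟩
    have hu := mem_centralizer_singleton_iff.1 hg.1.2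
    have hz := hzc g hg.1.1
    rcases F.cases hzV huV hz1 hu1 huz hv with rfl | rfl | rfl | rfl
    · simp
    · exact hz.symm
    · exact hu.symm
    · rw [mul_assoc, ← hu, ← mul_assoc, ← hz, mul_assoc]
  have huo : orderOf (⟨u, hVS huV⟩ : (S : Subgroup G)) = 2 :=
    orderOf_eq_prime (Subtype.ext (by simpa [pow_two] using F.sq u huV))
      fun h => hu1 (congrArg Subtype.val h)
  have hcard : Nat.card (centralizer ({⟨u, hVS huV⟩} : Set (S : Subgroup G))) = 4 := by
    have e : centralizer ({⟨u, hVS huV⟩} : Set (S : Subgroup G)) = C.subgroupOf S := by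
      ext x
      rw [mem_centralizer_singleton_iff, mem_subgroupOf]
      constructor
      · exact fun h => ⟨x.2, mem_centralizer_singleton_iff.2 (congrArg Subtype.val h)⟩
      · exact fun h => Subtype.ext (mem_centralizer_singleton_iff.1 h.2)
    rw [e, Nat.card_congr (subgroupOfEquivOfLe inf_le_left).toEquiv]
    show Nat.card C = 4
    rw [← hVC, F.card]
  have hpos : 4 ≤ Nat.card (S : Subgroup G) := F.card ▸ Subgroup.card_le_of_le hVS
  rcases S3224.result S.2 _ huo hcard with ⟨n, ⟨e⟩⟩ | hQ | h4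
  · left
    refine ⟨n, ?_, ⟨e⟩⟩
    have hc := Nat.card_congr e.toEquiv
    rw [DihedralGroup.nat_card] at hc
    omega
  · exact Or.inr hQ
  · left
    refine ⟨2, le_rfl, ?_⟩
    have e : (S : Subgroup G) = V := (eq_of_le_of_card_ge hVS (by rw [h4, F.card])).symm
    have : IsKleinFour (S : Subgroup G) :=
      Cfsg.Agent.Lib.TwoGroups.Recognition.isKleinFour_of_card h4 (e ▸ F.sq)
    exact IsKleinFour.nonempty_mulEquiv

/-- The homocyclic case: wreathed. -/
theorem wreathed_of_homocyclic (S : Sylow 2 G) {T : Subgroup G} (hTS : T ≤ S) {n : ℕ} (hn : 2 ≤ n)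
    (e : T ≃* Multiplicative (ZMod (2 ^ n) × ZMod (2 ^ n)))
    (hcard : Nat.card (S : Subgroup G) = 2 * Nat.card T) {t : G} (ht : t ∈ (S : Subgroup G))
    (htT : t ∉ T) (htn : ∀ a ∈ T, t * a * t⁻¹ ∈ T) (htt : t * t ∈ T) {x v : G} (hx : x ∈ T)
    (hxv : x ^ 2 ^ (n - 1) = v) (hvv : v * v = 1) (hv1 : v ≠ 1) (htv : t * v * t⁻¹ ≠ v) :
    Cfsg.IsWreathed (S : Subgroup G) := by
  classical
  have : Fact (Nat.Prime 2) := ⟨Nat.prime_two⟩
  have hcT : Nat.card T = 2 ^ n * 2 ^ n := by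
    rw [Nat.card_congr e.toEquiv, Nat.card_congr Multiplicative.toAdd, Nat.card_prod, Nat.card_zmod]
  have hab : ∀ a ∈ T, ∀ b ∈ T, a * b = b * a := fun a ha b hb => congrArg Subtype.val
    (e.injective (by rw [map_mul, map_mul, mul_comm]) :
      (⟨a, ha⟩ : T) * ⟨b, hb⟩ = ⟨b, hb⟩ * ⟨a, ha⟩)
  set y := t * x * t⁻¹ with hydef
  have hy : y ∈ T := htn x hx
  have hn' : 2 ^ n = 2 * 2 ^ (n - 1) := by rw [← pow_succ']; congr 1; omega
  have hxo : orderOf x = 2 ^ n := by
    obtain ⟨k, rfl⟩ : ∃ k, n = k + 1 := ⟨n - 1, by omega⟩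
    refine orderOf_eq_prime_pow (by rw [show k + 1 - 1 = k by omega] at hxv; rw [hxv]; exact hv1) ?_
    rw [hn', mul_comm, pow_mul, hxv, pow_two, hvv]
  have hyo : orderOf y = 2 ^ n := by
    rw [← hxo]
    exact orderOf_injective (MulAut.conj t).toMonoidHom (MulAut.conj t).injective x
  have hyv : y ^ 2 ^ (n - 1) = t * v * t⁻¹ := by rw [hydef, conj_pow, hxv]
  -- the involution of a cyclic group
  have huniq : ∀ a : G, orderOf a = 2 ^ n → ∀ c ∈ zpowers a, c * c = 1 →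
      c = 1 ∨ c = a ^ 2 ^ (n - 1) := by
    intro a ha c hc hcc
    obtain ⟨i, rfl⟩ := (mem_powers_iff_mem_zpowers (x := a)).2 hc
    simp only at hcc ⊢
    rw [← pow_add, ← two_mul, ← orderOf_dvd_iff_pow_eq_one, ha, hn'] at hcc
    obtain ⟨j, rfl⟩ := Nat.dvd_of_mul_dvd_mul_left (by norm_num) hcc
    rw [pow_mul]
    obtain ⟨l, rfl | rfl⟩ := Nat.even_or_odd' j
    · refine Or.inl ?_
      rw [← pow_mul, show 2 ^ (n - 1) * (2 * l) = 2 ^ n * l by rw [hn']; ring, pow_mul, ← ha,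
        pow_orderOf_eq_one, one_pow]
    · refine Or.inr ?_
      rw [pow_succ, ← pow_mul, show 2 ^ (n - 1) * (2 * l) = 2 ^ n * l by rw [hn']; ring, pow_mul,
        ← ha, pow_orderOf_eq_one, one_pow, one_mul]
  have hdis : zpowers x ⊓ zpowers y = ⊥ := by
    rw [eq_bot_iff]
    intro c hc
    rw [mem_bot]
    by_contra hc1
    have hp : IsPGroup 2 (zpowers x) := S.2.to_le (zpowers_le.2 (hTS hx))
    obtain ⟨j, hj1, hj⟩ := Suzuki2.Basic.exists_involution_pow hp (x := ⟨c, hc.1⟩)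
      fun h => hc1 (congrArg Subtype.val h)
    have hj1' : c ^ 2 ^ j ≠ 1 := fun h => hj1 (Subtype.ext (by simpa using h))
    have hj' : c ^ 2 ^ j * c ^ 2 ^ j = 1 := by simpa using congrArg Subtype.val hj
    have a1 := (huniq x hxo _ (pow_mem hc.1 _) hj').resolve_left hj1'
    have a2 := (huniq y hyo _ (pow_mem hc.2 _) hj').resolve_left hj1'
    rw [hxv] at a1
    rw [hyv, a1] at a2
    exact htv a2.symm
  -- `T` is generated freely by `x` and `y`
  let ψ : zpowers x × zpowers y → T := fun q =>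
    ⟨(q.1 : G) * q.2, T.mul_mem (zpowers_le.2 hx q.1.2) (zpowers_le.2 hy q.2.2)⟩
  have key : ∀ i j i' j' : ℤ, x ^ i * y ^ j = x ^ i' * y ^ j' → x ^ i = x ^ i' ∧ y ^ j = y ^ j' := by
    intro i j i' j' h
    have hmem : x ^ (i - i') ∈ zpowers x ⊓ zpowers y := by
      refine ⟨⟨i - i', rfl⟩, ⟨j' - j, ?_⟩⟩
      show y ^ (j' - j) = x ^ (i - i')
      rw [zpow_sub y, zpow_sub x]
      rw [show y ^ j' = (x ^ i')⁻¹ * (x ^ i * y ^ j) by rw [h]; group]
      rw [mul_assoc, mul_assoc, mul_inv_cancel, mul_one]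
      exact hab _ (T.inv_mem (zpow_mem hx _)) _ (zpow_mem hx _)
    rw [hdis, mem_bot, zpow_sub, mul_inv_eq_one] at hmem
    exact ⟨hmem, mul_left_cancel (hmem ▸ h : x ^ i' * y ^ j = x ^ i' * y ^ j')⟩
  have hψ : Function.Bijective ψ := by
    refine Function.Injective.bijective_of_nat_card_le ?_ ?_
    · rintro ⟨⟨_, i, rfl⟩, ⟨_, j, rfl⟩⟩ ⟨⟨_, i', rfl⟩, ⟨_, j', rfl⟩⟩ h
      obtain ⟨e1, e2⟩ := key i j i' j' (congrArg Subtype.val h)
      exact Prod.ext (Subtype.ext e1) (Subtype.ext e2)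
    · rw [hcT, Nat.card_prod, Nat.card_zpowers, Nat.card_zpowers, hxo, hyo]
  obtain ⟨⟨⟨_, i, rfl⟩, ⟨_, j, rfl⟩⟩, hij⟩ := hψ.2 ⟨t * t, htt⟩
  have hij' : x ^ i * y ^ j = t * t := congrArg Subtype.val hij
  have hty : t * y * t⁻¹ = x := by
    rw [hydef, show t * (t * x * t⁻¹) * t⁻¹ = t * t * x * (t * t)⁻¹ by group,
      hab _ htt _ hx, mul_inv_cancel_right]
  have hfix : x ^ j * y ^ i = x ^ i * y ^ j := by
    rw [hab _ (zpow_mem hx j) _ (zpow_mem hy i)]
    calc y ^ i * x ^ j = t * (x ^ i * y ^ j) * t⁻¹ := by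
          conv_lhs => rw [← hty, hydef]
          rw [conj_zpow, conj_zpow, ← hydef]
          group
      _ = x ^ i * y ^ j := by rw [hij']; group
  have hyj : y ^ i = y ^ j := (key _ _ _ _ hfix).2
  -- the involution exchanging `x` and `y`
  set s := t * (x ^ i)⁻¹
  have hss : s * s = 1 := by
    have e0 : t * (x ^ i)⁻¹ * t⁻¹ = (y ^ i)⁻¹ := by
      rw [hydef, conj_zpow]; group
    calc s * s = t * (x ^ i)⁻¹ * t⁻¹ * (t * t) * (x ^ i)⁻¹ := by simp only [s]; group
      _ = (y ^ i)⁻¹ * (x ^ i * y ^ j) * (x ^ i)⁻¹ := by rw [e0, hij']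
      _ = (y ^ i)⁻¹ * (y ^ i * x ^ i) * (x ^ i)⁻¹ := by
        rw [← hyj, hab _ (zpow_mem hx i) _ (zpow_mem hy i)]
      _ = 1 := by group
  have hsT : s ∉ T := fun h => htT (by
    simpa [s, mul_assoc] using T.mul_mem h (zpow_mem hx i))
  have hsS : s ∈ (S : Subgroup G) := mul_mem ht (inv_mem (zpow_mem (hTS hx) i))
  refine ⟨n, hn, ?_, ⟨x, hTS hx⟩, ⟨y, hTS hy⟩, ⟨s, hsS⟩, ?_, Subtype.ext (hab x hx y hy), ?_, ?_, ?_⟩
  · rw [hcard, hcT, ← pow_add, ← pow_succ', two_mul]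
  · rw [Subgroup.orderOf_mk]; exact hxo
  · rw [eq_bot_iff]
    rintro c ⟨⟨a, ha⟩, ⟨b, hb⟩⟩
    rw [mem_bot]
    have hc : (c : G) ∈ zpowers x ⊓ zpowers y :=
      ⟨⟨a, by simpa using congrArg Subtype.val ha⟩, ⟨b, by simpa using congrArg Subtype.val hb⟩⟩
    rw [hdis, mem_bot] at hc
    exact Subtype.ext hc
  · refine orderOf_eq_prime (Subtype.ext (by simpa [pow_two] using hss)) fun h => hsT ?_
    rw [show s = 1 from congrArg Subtype.val h]
    exact T.one_mem
  · refine Subtype.ext ?_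
    show s * x * s⁻¹ = y
    simp only [s, hydef]
    group

/-- A U₃(4)-type group has no automorphism with inner square exchanging two of its involutions. -/
theorem no_extension {E : Type*} [Field E] [Fintype E] (hE : Fintype.card E = 16) {T : Type*}
    [Group T] (C : U34Sylow.Coords E T) (τ : MulAut T) (k : T)
    (hτ2 : ∀ g, τ (τ g) = k * g * k⁻¹) {v g₁ g₂ : T} (hvv : v * v = 1) (hv1 : v ≠ 1)
    (hτv : τ v ≠ v) (hg₁ : g₁ * g₁ = v) (hg₂ : g₂ * g₂ = τ v) (hττ : τ (τ v) = v) : False := by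
  classical
  have h2 := U34Sylow.two_eq_zero hE
  have : Finite T := Finite.of_equiv _ C.equiv
  let co : T → E × E := fun g => (C.equiv.symm g).1
  have hco : ∀ g h, co (g * h) =
      ((co g).1 + (co h).1, (co g).2 + (co h).2 + (co g).1 ^ 4 * (co h).1) := by
    intro g h
    obtain ⟨p, hp⟩ := C.mul (C.equiv.symm g) (C.equiv.symm h)
    rw [C.equiv.apply_symm_apply, C.equiv.apply_symm_apply] at hp
    simp [co, hp]
  have hinj : ∀ g h, co g = co h → g = h := fun g h e => C.equiv.symm.injective (Subtype.ext e)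
  have hcond : ∀ g, (co g).2 + (co g).2 ^ 4 = (co g).1 * (co g).1 ^ 4 := fun g =>
    (C.equiv.symm g).2
  have hone : co 1 = (0, 0) := by
    have h := hco 1 1
    rw [mul_one] at h
    have e1 : (co 1).1 = 0 := add_eq_left.1 (congrArg Prod.fst h).symm
    have e2 := congrArg Prod.snd h
    simp only [e1, mul_zero, add_zero] at e2
    exact Prod.ext e1 (add_eq_left.1 e2.symm)
  have hadd : ∀ a : E, a + a = 0 := fun a => by linear_combination a * h2
  have hsq : ∀ g, co (g * g) = (0, (co g).1 ^ 5) := fun g => by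
    rw [hco, hadd, hadd, zero_add, ← pow_succ]
  have hI : ∀ g, g * g = 1 ↔ (co g).1 = 0 := by
    intro g
    constructor
    · intro h
      have := congrArg Prod.snd ((hsq g).symm.trans (h ▸ hone))
      simpa using this
    · intro h
      exact hinj _ _ (by rw [hsq, h, hone]; simp)
  -- the automorphism on the first coordinate
  have hwd : ∀ g g', (co g).1 = (co g').1 → (co (τ g)).1 = (co (τ g')).1 := by
    intro g g' h
    obtain ⟨i, rfl⟩ : ∃ i, g' = g * i := ⟨g⁻¹ * g', (mul_inv_cancel_left g g').symm⟩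
    rw [hco] at h
    have hi : (co i).1 = 0 := left_eq_add.1 h
    rw [map_mul, hco, (hI (τ i)).1 (by rw [← map_mul, (hI i).2 hi, map_one]), add_zero]
  have hτ2' : ∀ g, (co (τ (τ g))).1 = (co g).1 := by
    intro g
    have := congrArg (fun x => (co x).1) (show k * g * k⁻¹ * k = k * g by group)
    simp only [hco, ← hτ2] at this
    linear_combination this
  set z₁ := (co v).2 with hz₁
  set z₂ := (co (τ v)).2 with hz₂
  have hv0 : (co v).1 = 0 := (hI v).1 hvv
  have hτv0 : (co (τ v)).1 = 0 := (hI _).1 (by rw [← map_mul, hvv, map_one])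
  have hF : z₁ ^ 4 = z₁ ∧ z₂ ^ 4 = z₂ := by
    constructor <;> [have := hcond v; have := hcond (τ v)] <;>
      [rw [hv0, zero_mul] at this; rw [hτv0, zero_mul] at this]
    · linear_combination this - z₁ * h2
    · linear_combination this - z₂ * h2
  have hz10 : z₁ ≠ 0 := fun h => hv1 (hinj _ _ (by rw [hone]; exact Prod.ext hv0 h))
  have hz20 : z₂ ≠ 0 := fun h => hv1 (τ.injective (by
    rw [map_one]; exact hinj _ _ (by rw [hone]; exact Prod.ext hτv0 h)))
  have hz12 : z₁ ≠ z₂ := fun h => hτv (hinj _ _ (Prod.ext (hτv0.trans hv0.symm) h.symm))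
  -- `v * τ v` is the fixed involution
  have hfixed : ∀ w, w * w = 1 → τ w = w → (co w).2 = 0 ∨ (co w).2 = z₁ + z₂ := by
    intro w hww hw
    have hw0 := (hI w).1 hww
    have hw4 : (co w).2 ^ 4 = (co w).2 := by
      have := hcond w
      rw [hw0, zero_mul] at this
      linear_combination this - (co w).2 * h2
    have hne1 : (co w).2 ≠ z₁ := fun h => hτv (by
      rw [← hinj w v (Prod.ext (hw0.trans hv0.symm) h)]; exact hw)
    have hne2 : (co w).2 ≠ z₂ := fun h => hτv (by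
      have h' := hinj w (τ v) (Prod.ext (hw0.trans hτv0.symm) h)
      rw [h', hττ] at hw
      exact hw.symm)
    set b := (co w).2
    have hprod : b * (b - (z₁ + z₂)) * (b - z₁) * (b - z₂) = 0 := by
      have key : b * (b + (z₁ + z₂)) * (b + z₁) * (b + z₂) =
          b ^ 4 + b * (z₁ * z₂ * (z₁ + z₂)) + b ^ 2 * (z₁ ^ 2 + z₁ * z₂ + z₂ ^ 2) := by
        linear_combination (b ^ 3 * (z₁ + z₂) + b ^ 2 * (z₁ * z₂)) * h2
      have q1 : z₁ ^ 3 = 1 := mul_right_cancel₀ hz10 (by linear_combination hF.1)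
      have q2 : z₂ ^ 3 = 1 := mul_right_cancel₀ hz20 (by linear_combination hF.2)
      have q3 : z₁ ^ 2 + z₁ * z₂ + z₂ ^ 2 = 0 :=
        mul_left_cancel₀ (sub_ne_zero.2 hz12) (by linear_combination q1 - q2)
      have q4 : z₁ * z₂ * (z₁ + z₂) = 1 := by
        linear_combination z₂ * q3 - q2 - h2
      rw [q3, q4, hw4, mul_one, mul_zero, add_zero, hadd] at key
      simpa only [sub_eq_add_neg, neg_eq_of_add_eq_zero_left (hadd _)] using key
    simp only [mul_eq_zero, sub_eq_zero] at hprod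
    rcases hprod with ((h | h) | h) | h
    · exact Or.inl h
    · exact Or.inr h
    · exact absurd h hne1
    · exact absurd h hne2
  -- the two norm fibres
  have hfib : ∀ g b b', (co g).1 ^ 5 = b → (co (τ g)).1 ^ 5 = b' → b ≠ 0 → b' ≠ 0 →
      b + b' = z₁ + z₂ → b ≠ b' → (co (τ g)).1 * b ^ 2 = b' ^ 2 * (co g).1 := by
    intro g b b' hb hb' hb0 hb'0 hsum hne
    set a := (co g).1
    set a' := (co (τ g)).1
    have hw : co (g * τ g * (g * τ g)) = (0, (a + a') ^ 5) := by rw [hsq, hco]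
    have hfix : τ (g * τ g * (g * τ g)) = g * τ g * (g * τ g) := by
      apply hinj
      rw [hw, map_mul, hsq, map_mul, hco]
      show (0, ((co (τ g)).1 + (co (τ (τ g))).1) ^ 5) = _
      rw [hτ2', add_comm]
    have hexp : (a + a') ^ 5 = b + b' + (a ^ 4 * a' + a' ^ 4 * a) := by
      rw [pow_succ, Cfsg.Agent.Lib.Unitary.add_pow_q (U34Sylow.card_eq hE)]
      linear_combination hb + hb'
    rcases hfixed _ ((hI _).2 (congrArg Prod.fst hw)) hfix with h | h <;> rw [hw] at h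
    · have h' : (a + a') ^ 5 = 0 := h
      have : a' = a := by linear_combination eq_zero_of_pow_eq_zero h' - a * h2
      rw [this] at hb'
      exact absurd (hb.symm.trans hb') hne
    · have h' : (a + a') ^ 5 = z₁ + z₂ := h
      rw [hexp, hsum, add_eq_left] at h'
      have ha : a ≠ 0 := fun h0 => hb0 (by rw [← hb, h0]; ring)
      have ha' : a' ≠ 0 := fun h0 => hb'0 (by rw [← hb', h0]; ring)
      have e' : a' ^ 3 = a ^ 3 := by
        apply mul_left_cancel₀ (mul_ne_zero ha ha')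
        linear_combination h' - (a ^ 4 * a') * h2
      rw [← hb, ← hb']
      linear_combination (-(a' ^ 7 * a) - a' ^ 4 * a ^ 4 - a' * a ^ 7) * e'
  have hlift : ∀ a : E, ∃ g, (co g).1 = a := by
    intro a
    obtain ⟨p, hp⟩ := U34Sylow.exists_pair hE a
    exact ⟨C.equiv p, by simp [co, hp]⟩
  -- images of the norm fibres over `v` and `τ v`
  have hg : ∀ g, (co g).1 ^ 5 = z₁ → (co (τ g)).1 * z₁ ^ 2 = z₂ ^ 2 * (co g).1 := by
    intro g h
    have e : g * g = v := hinj _ _ (by rw [hsq, h]; exact Prod.ext hv0.symm rfl)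
    refine hfib g z₁ z₂ h ?_ hz10 hz20 rfl hz12
    rw [hz₂, ← e, map_mul, hsq]
  have hh : ∀ g, (co g).1 ^ 5 = z₂ → (co (τ g)).1 * z₂ ^ 2 = z₁ ^ 2 * (co g).1 := by
    intro g h
    have e : g * g = τ v := hinj _ _ (by rw [hsq, h]; exact Prod.ext hτv0.symm rfl)
    refine hfib g z₂ z₁ h ?_ hz20 hz10 (add_comm _ _) (Ne.symm hz12)
    rw [hz₁, ← hττ, ← e, map_mul, hsq]
  obtain ⟨ζ, hζ⟩ := SylowRecognize.exists_orderOf (C := Eˣ) (d := 5) (by
    rw [Nat.card_units, Nat.card_eq_fintype_card, hE]; norm_num)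
  set ζ' := (ζ : E) with hζ'
  have hζ5 : ζ' ^ 5 = 1 := by
    rw [hζ', ← Units.val_pow_eq_pow_val, ← hζ, pow_orderOf_eq_one, Units.val_one]
  set a₁ := (co g₁).1
  set a₂ := (co g₂).1
  have ha₁ : a₁ ^ 5 = z₁ := by rw [hz₁, ← hg₁, hsq]
  have ha₂ : a₂ ^ 5 = z₂ := by rw [hz₂, ← hg₂, hsq]
  let Φ : Fin 5 × Fin 5 → E := fun q => a₁ * ζ' ^ (q.1 : ℕ) + a₂ * ζ' ^ (q.2 : ℕ)
  have hΦ : Function.Injective Φ := by
    rintro ⟨i, j⟩ ⟨i', j'⟩ h
    have mk : ∀ (a : E) (m : ℕ), ∃ g, (co g).1 = a * ζ' ^ m ∧ (co g).1 ^ 5 = a ^ 5 := fun a m => by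
      obtain ⟨g, hg⟩ := hlift (a * ζ' ^ m)
      exact ⟨g, hg, by rw [hg, mul_pow, ← pow_mul, mul_comm m, pow_mul, hζ5, one_pow, mul_one]⟩
    obtain ⟨p, p1, p5⟩ := mk a₁ i
    obtain ⟨p', p1', p5'⟩ := mk a₁ i'
    obtain ⟨r, r1, r5⟩ := mk a₂ j
    obtain ⟨r', r1', r5'⟩ := mk a₂ j'
    rw [ha₁] at p5 p5'
    rw [ha₂] at r5 r5'
    have hs : (co p).1 + (co r).1 = (co p').1 + (co r').1 := by rw [p1, r1, p1', r1']; exact h
    have hs' := hwd (p * r) (p' * r') (by simp only [hco]; exact hs)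
    simp only [map_mul, hco] at hs'
    have ep : (co p).1 = (co p').1 := by
      apply mul_left_cancel₀ (sub_ne_zero.2 (Ne.symm hz12))
      linear_combination (z₁ ^ 2 * z₂ ^ 2) * hs' - z₁ * hs - z₂ ^ 2 * hg p p5 +
        z₂ ^ 2 * hg p' p5' - z₁ ^ 2 * hh r r5 + z₁ ^ 2 * hh r' r5' +
        ((co p').1 - (co p).1) * hF.2 + ((co r').1 - (co r).1) * hF.1
    have er : (co r).1 = (co r').1 := by linear_combination hs - ep
    have hcan : ∀ (a : E) (m m' : Fin 5), a ≠ 0 → a * ζ' ^ (m : ℕ) = a * ζ' ^ (m' : ℕ) → m = m' := by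
      intro a m m' ha hm
      have := mul_left_cancel₀ ha hm
      rw [hζ', ← Units.val_pow_eq_pow_val, ← Units.val_pow_eq_pow_val] at this
      exact Fin.ext (pow_injOn_Iio_orderOf (by rw [hζ]; exact m.2) (by rw [hζ]; exact m'.2)
        (Units.ext this))
    rw [p1, p1'] at ep
    rw [r1, r1'] at er
    have : a₁ ≠ 0 := fun h0 => hz10 (by rw [← ha₁, h0]; ring)
    have : a₂ ≠ 0 := fun h0 => hz20 (by rw [← ha₂, h0]; ring)
    exact Prod.ext (hcan a₁ i i' ‹_› ep) (hcan a₂ j j' ‹_› er)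
  have := Nat.card_le_card_of_injective Φ hΦ
  rw [Nat.card_prod, Nat.card_fin, Nat.card_eq_fintype_card, hE] at this
  omega

/-- Let G be a finite group of 2-rank 2 (a Klein four-subgroup but no elementary abelian subgroup of order 8) which is fusion simple: G has no subgroup of index 2 and no isolated involution. Let S be a Sylow 2-subgroup. Then S is dihedral, quasi-dihedral, wreathed, isomorphic to Z_{2^n} × Z_{2^n} for some n ≥ 2, or isomorphic to a Sylow 2-subgroup of PSU(3) over the field with 16 elements. -/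
theorem result {G : Type*} [Group G] [Finite G] (h2 : Cfsg.PRankLE 2 2 G) (h1 : ¬ Cfsg.PRankLE 2 1 G) (hidx : ∀ H : Subgroup G, H.index ≠ 2) (hiso : ∀ z : G, ¬ Cfsg.IsIsolatedInvolution z) (S : Sylow 2 G) {F : Type*} [Field F] [Fintype F] (hF : Fintype.card F = 16) (P : Sylow 2 (Cfsg.PSU 3 F 4)) : (∃ m : ℕ, 2 ≤ m ∧ Nonempty ((S : Subgroup G) ≃* DihedralGroup m)) ∨ Cfsg.IsQuasiDihedral (S : Subgroup G) ∨ Cfsg.IsWreathed (S : Subgroup G) ∨ (∃ n : ℕ, 2 ≤ n ∧ Nonempty ((S : Subgroup G) ≃* Multiplicative (ZMod (2 ^ n) × ZMod (2 ^ n)))) ∨ Nonempty ((S : Subgroup G) ≃* (P : Subgroup (Cfsg.PSU 3 F 4))) := by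
  classical
  have : Fact (Nat.Prime 2) := ⟨Nat.prime_two⟩
  obtain ⟨z, hzz, hz1, hzS, hzc⟩ := exists_central h1 S
  obtain ⟨V, FV, hVS, hzV, hfn, h₀, C₀⟩ := exists_cyc h2 hiso S hzz hz1 hzS hzc
  obtain ⟨h, C, hhT⟩ := exists_frattini S hfn C₀
  set T : Subgroup G := (S : Subgroup G) ⊓ centralizer (V : Set G) with hTdef
  have hVT : V ≤ T := fun v hv =>
    ⟨hVS hv, mem_centralizer_iff.2 fun w hw => FV.comm hw hv⟩
  by_cases hTV : T = V
  · rcases dihedral_or_qd S FV hVS hzV hz1 hzc hTV with hd | hq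
    · exact Or.inl hd
    · exact Or.inr (Or.inl hq)
  have hT : IsPGroup 2 T := S.2.to_le inf_le_left
  have hinv : ∀ a ∈ T, a * a = 1 → a ∈ V := fun a ha haa =>
    FV.absorb h2 haa (mem_centralizer_iff.1 ha.2)
  -- every involution of `V` is a square in `T`
  have hsq : ∀ v ∈ V, v ≠ 1 → ∃ x, x ∈ T ∧ x * x = v := by
    obtain ⟨x, hxT, hxV⟩ := SetLike.exists_of_lt (lt_of_le_of_ne hVT (Ne.symm hTV))
    have hx2 : (⟨x * x, mul_mem hxT hxT⟩ : T) ≠ 1 := fun e =>
      hxV (hinv x hxT (congrArg Subtype.val e))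
    obtain ⟨j, hj1, hj⟩ := Suzuki2.Basic.exists_involution_pow hT hx2
    have hj' : (x * x) ^ 2 ^ j * (x * x) ^ 2 ^ j = 1 := by simpa using congrArg Subtype.val hj
    refine C.closed FV (fun v => ∃ y, y ∈ T ∧ y * y = v)
      (fun v ⟨y, hy, hyy⟩ => ⟨h * y * h⁻¹, conj_mem hhT hy, by rw [← hyy, conj_mul']⟩)
      (hinv _ (pow_mem (mul_mem hxT hxT) _) hj') (fun e => hj1 (Subtype.ext (by simpa using e)))
      ⟨x ^ 2 ^ j, pow_mem hxT _, ?_⟩
    exact ((Commute.refl x).mul_pow _).symm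
  have hSN := le_normalizer_of_squares h2 S FV hzV hz1 hzc hsq
  -- the automorphism of `T`
  let φ : MulAut T :=
    { toFun := fun a => ⟨h * a * h⁻¹, conj_mem hhT a.2⟩
      invFun := fun a => ⟨h⁻¹ * a * h, by simpa using conj_mem (inv_mem hhT) a.2⟩
      left_inv := fun a => Subtype.ext (by simp [mul_assoc])
      right_inv := fun a => Subtype.ext (by simp [mul_assoc])
      map_mul' := fun a b => Subtype.ext (conj_mul' h a b) }
  have h2T : Cfsg.PRankLE 2 2 T := by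
    intro A hA hA2
    have hm : IsMulCommutative (A.map T.subtype) := ⟨⟨by
      rintro ⟨_, a, ha, rfl⟩ ⟨_, b, hb, rfl⟩
      exact Subtype.ext (congrArg (fun c : A => ((c : T) : G)) (hA.is_comm.comm ⟨a, ha⟩ ⟨b, hb⟩))⟩⟩
    rw [← Subgroup.card_map_of_injective (f := T.subtype) T.subtype_injective]
    refine h2 _ hm ?_
    rintro _ ⟨a, ha, rfl⟩
    rw [← map_pow, hA2 a ha, map_one]
  have h1T : ¬ Cfsg.PRankLE 2 1 T := by
    intro hle
    have := hle (V.subgroupOf T) ⟨⟨fun a b => Subtype.ext (Subtype.ext (FV.comm a.2 b.2))⟩⟩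
      fun a ha => Subtype.ext (by simpa [pow_two] using FV.sq _ ha)
    rw [Nat.card_congr (subgroupOfEquivOfLe hVT).toEquiv, FV.card] at this
    norm_num at this
  have htrans : ∀ a b : T, orderOf a = 2 → orderOf b = 2 → ∃ k : ℕ, (φ ^ k) a = b := by
    intro a b ha hb
    have mem : ∀ c : T, orderOf c = 2 → (c : G) ∈ V ∧ (c : G) ≠ 1 := fun c hc => by
      refine ⟨hinv _ c.2 (congrArg Subtype.val (?_ : c * c = 1)), fun e => ?_⟩
      · rw [← pow_two, ← hc, pow_orderOf_eq_one]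
      · rw [show c = 1 from Subtype.ext e, orderOf_one] at hc; omega
    rcases C.all FV (mem a ha).1 (mem a ha).2 (mem b hb).1 (mem b hb).2 with e | e | e
    · exact ⟨0, Subtype.ext e.symm⟩
    · exact ⟨1, Subtype.ext e.symm⟩
    · exact ⟨2, Subtype.ext e.symm⟩
  have hclass := S1237.result hT h2T h1T φ htrans hF P
  have hcase : (∃ n : ℕ, 2 ≤ n ∧ Nonempty (T ≃* Multiplicative (ZMod (2 ^ n) × ZMod (2 ^ n)))) ∨
      Nonempty (T ≃* (P : Subgroup (Cfsg.PSU 3 F 4))) := by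
    rcases hclass with ⟨n, hn, he⟩ | he
    · refine Or.inl ⟨n, ?_, he⟩
      by_contra h'
      obtain rfl : n = 1 := by omega
      obtain ⟨e⟩ := he
      have hc := Nat.card_congr e.toEquiv
      rw [Nat.card_congr Multiplicative.toAdd, Nat.card_prod, Nat.card_zmod] at hc
      exact hTV (eq_of_le_of_card_ge hVT (by rw [hc, FV.card]; norm_num)).symm
    · exact Or.inr he
  by_cases hST : (S : Subgroup G) = T
  · let eS := MulEquiv.subgroupCongr hST
    rcases hcase with ⟨n, hn, ⟨e⟩⟩ | he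
    · exact Or.inr (Or.inr (Or.inr (Or.inl ⟨n, hn, ⟨eS.trans e⟩⟩)))
    · exact Or.inr (Or.inr (Or.inr (Or.inr (he.map eS.trans))))
  obtain ⟨t, ht, htT⟩ : ∃ t ∈ (S : Subgroup G), t ∉ T := by
    by_contra h'
    push Not at h'
    exact hST (le_antisymm h' inf_le_left)
  -- an element of `S` outside `T` exchanges the involutions other than `z`
  have hmove : ∀ s ∈ (S : Subgroup G), s ∉ T → ∀ v ∈ V, v ≠ 1 → v ≠ z →
      s * v * s⁻¹ = z * v := by
    intro s hs hsT v hv hv1 hvz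
    have hsz : s * z * s⁻¹ = z := by rw [hzc s hs, mul_inv_cancel_right]
    rcases FV.cases hzV hv hz1 hv1 hvz (conj_mem (hSN hs) hv) with e | e | e | e
    · exact absurd (conj_eq_one_iff.1 e) hv1
    · exact absurd (conj_inj (e.trans hsz.symm)) hvz
    · refine absurd ⟨hs, mem_centralizer_iff.2 fun w hw => ?_⟩ hsT
      have : s * w * s⁻¹ = w := by
        rcases FV.cases hzV hv hz1 hv1 hvz hw with rfl | rfl | rfl | rfl
        · group
        · exact hsz
        · exact e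
        · rw [conj_mul', hsz, e]
      exact (mul_inv_eq_iff_eq_mul.1 this).symm
    · exact e
  have hprod : ∀ a ∈ (S : Subgroup G), ∀ b ∈ (S : Subgroup G), a ∉ T → b ∉ T → a * b ∈ T := by
    intro a ha b hb haT hbT
    by_contra hab
    obtain ⟨v, hv, hv1, hvz⟩ := FV.exists_ne z
    have h' := hmove _ (mul_mem ha hb) hab v hv hv1 hvz
    rw [show a * b * v * (a * b)⁻¹ = a * (b * v * b⁻¹) * a⁻¹ by group, hmove b hb hbT v hv hv1 hvz,
      conj_mul', hzc a ha, mul_inv_cancel_right, hmove a ha haT v hv hv1 hvz, ← mul_assoc,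
      FV.sq z hzV, one_mul] at h'
    exact hz1 (right_eq_mul.1 h')
  have hrel : T.relIndex (S : Subgroup G) = 2 := by
    rw [relIndex, index_eq_two_iff]
    refine ⟨⟨t, ht⟩, fun b => ?_⟩
    simp only [mem_subgroupOf, Subgroup.coe_mul]
    by_cases hb : (b : G) ∈ T
    · exact Or.inr ⟨hb, fun h' => htT (by simpa using mul_mem (inv_mem hb) h')⟩
    · exact Or.inl ⟨hprod _ b.2 _ ht hb htT, hb⟩
  have hcard : Nat.card (S : Subgroup G) = 2 * Nat.card T := by
    rw [← card_mul_index (T.subgroupOf S), Nat.card_congr (subgroupOfEquivOfLe inf_le_left).toEquiv,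
      ← relIndex, hrel, mul_comm]
  have htn : ∀ a ∈ T, t * a * t⁻¹ ∈ T := by
    intro a ha
    refine ⟨(S : Subgroup G).mul_mem ((S : Subgroup G).mul_mem ht ha.1)
      ((S : Subgroup G).inv_mem ht), mem_centralizer_iff.2 fun w hw => ?_⟩
    have hw' : t⁻¹ * w * t ∈ V := by simpa using conj_mem (inv_mem (hSN ht)) hw
    calc w * (t * a * t⁻¹) = t * (t⁻¹ * w * t * a) * t⁻¹ := by group
      _ = t * (a * (t⁻¹ * w * t)) * t⁻¹ := by rw [mem_centralizer_iff.1 ha.2 _ hw']
      _ = t * a * t⁻¹ * w := by group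
  have htt : t * t ∈ T := hprod t ht t ht htT htT
  obtain ⟨v, hv, hv1, hvz⟩ := FV.exists_ne z
  have htv : t * v * t⁻¹ = z * v := hmove t ht htT v hv hv1 hvz
  have htv' : t * v * t⁻¹ ≠ v := by rw [htv]; exact fun e => hz1 (mul_eq_right.1 e)
  rcases hcase with ⟨n, hn, ⟨e⟩⟩ | he
  · refine Or.inr (Or.inr (Or.inl ?_))
    obtain ⟨x, hx, hxv⟩ : ∃ x, x ∈ T ∧ x ^ 2 ^ (n - 1) = v := by
      let q : T := e.symm (Multiplicative.ofAdd (1, 0))
      have hlt : 2 ^ (n - 1) < 2 ^ n := Nat.pow_lt_pow_right (by norm_num) (by omega)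
      have hq1 : (q : G) ^ 2 ^ (n - 1) ≠ 1 := by
        intro h'
        have h'' : (e q) ^ 2 ^ (n - 1) = 1 := by
          rw [← map_pow, show q ^ 2 ^ (n - 1) = 1 from Subtype.ext (by simpa using h'), map_one]
        rw [e.apply_symm_apply] at h''
        have h3 := congrArg (fun c => (Multiplicative.toAdd c).1) h''
        simp only [toAdd_pow, toAdd_ofAdd, toAdd_one, Prod.smul_fst, Prod.fst_zero, nsmul_one] at h3
        exact absurd (Nat.le_of_dvd (by positivity) ((ZMod.natCast_eq_zero_iff _ _).1 h3 :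
          2 ^ n ∣ 2 ^ (n - 1))) (by omega)
      have hq2 : (q : G) ^ 2 ^ (n - 1) * (q : G) ^ 2 ^ (n - 1) = 1 := by
        have : q ^ 2 ^ n = 1 := e.injective (by
          rw [map_pow, map_one]
          apply Multiplicative.toAdd.injective
          rw [toAdd_pow, toAdd_one]
          exact Prod.ext (by rw [Prod.smul_fst, nsmul_eq_mul, ZMod.natCast_self, zero_mul, Prod.fst_zero])
            (by rw [Prod.smul_snd, nsmul_eq_mul, ZMod.natCast_self, zero_mul, Prod.snd_zero]))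
        rw [← pow_add, ← two_mul, ← pow_succ', show n - 1 + 1 = n by omega]
        simpa using congrArg Subtype.val this
      exact C.closed FV (fun v => ∃ x, x ∈ T ∧ x ^ 2 ^ (n - 1) = v)
        (fun v ⟨x, hx, hxv⟩ => ⟨h * x * h⁻¹, conj_mem hhT hx, by rw [conj_pow, hxv]⟩)
        (hinv _ (pow_mem q.2 _) hq2) hq1 ⟨q, q.2, rfl⟩ v hv hv1
    exact wreathed_of_homocyclic S inf_le_left hn e hcard ht htT htn htt hx hxv (FV.sq v hv) hv1
      htv'
  · exfalso
    have e := Classical.choice he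
    obtain ⟨C'⟩ := U34Sylow.exists_coords hF P
    let CT : U34Sylow.Coords F T :=
      { equiv := C'.equiv.trans e.symm.toEquiv
        mul := fun p r => by
          obtain ⟨hp, hpr⟩ := C'.mul p r
          refine ⟨hp, ?_⟩
          show e.symm _ * e.symm _ = e.symm _
          rw [← map_mul, hpr] }
    let τ : MulAut T :=
      { toFun := fun a => ⟨t * a * t⁻¹, htn a a.2⟩
        invFun := fun a => ⟨t⁻¹ * a * t, by
          rw [show t⁻¹ * a * t = (t * t)⁻¹ * (t * a * t⁻¹) * (t * t) by group]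
          exact mul_mem (mul_mem (inv_mem htt) (htn a a.2)) htt⟩
        left_inv := fun a => Subtype.ext (by simp [mul_assoc])
        right_inv := fun a => Subtype.ext (by simp [mul_assoc])
        map_mul' := fun a b => Subtype.ext (conj_mul' t a b) }
    obtain ⟨g₁, hg₁T, hg₁⟩ := hsq v hv hv1
    have hv'V : t * v * t⁻¹ ∈ V := conj_mem (hSN ht) hv
    obtain ⟨g₂, hg₂T, hg₂⟩ := hsq _ hv'V (fun e' => hv1 (conj_eq_one_iff.1 e'))
    refine no_extension hF CT τ ⟨t * t, htt⟩ (fun g => Subtype.ext ?_) (v := ⟨v, hVT hv⟩)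
      (g₁ := ⟨g₁, hg₁T⟩) (g₂ := ⟨g₂, hg₂T⟩) (Subtype.ext (FV.sq v hv))
      (fun e' => hv1 (congrArg Subtype.val e')) (fun e' => htv' (congrArg Subtype.val e'))
      (Subtype.ext hg₁) (Subtype.ext hg₂) (Subtype.ext ?_)
    · show t * (t * g * t⁻¹) * t⁻¹ = t * t * g * (t * t)⁻¹
      group
    · show t * (t * v * t⁻¹) * t⁻¹ = v
      rw [show t * (t * v * t⁻¹) * t⁻¹ = t * t * v * (t * t)⁻¹ by group,
        ← mem_centralizer_iff.1 htt.2 v hv, mul_inv_cancel_right]

end Cfsg.Agent.S1238
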