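import Cfsg.Statements.S1624
import Cfsg.Agent.Lib.SporJ2.Simple

set_option autoImplicit false
open Quaternion
open Cfsg

namespace Cfsg.Agent.S1624

open Cfsg.Agent.Lib.SporJ2
open Cfsg.Agent.Lib

/-- The Hall–Janko group contains PSU(3, 3) with index 100 and acts on the 100 cosets with rank 3 and subdegrees 1, 36, 63. -/
theorem result : ∃ H : Subgroup Cfsg.Spor.J2, H.index = 100 ∧ (∃ (F : Type) (_ : Field F) (_ : Fintype F), Fintype.card F = 9 ∧ Nonempty (↥H ≃* Cfsg.PSU 3 F 3)) ∧ ∃ c₁ c₂ : Cfsg.Spor.J2 ⧸ H, (MulAction.orbit ↥H c₁).ncard = 36 ∧ (MulAction.orbit ↥H c₂).ncard = 63 := by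
  obtain ⟨e⟩ := exists_equiv_J2
  obtain ⟨e2⟩ := exists_equiv_PSU
  haveI := finite_K100
  set H : Subgroup Cfsg.Spor.J2 := HK.comap e.toMonoidHom with hH
  let eH : H ≃* HK := (e.subgroupMap H).trans (MulEquiv.subgroupCongr
    (Subgroup.map_comap_eq_self_of_surjective e.surjective HK))
  have cH : Nat.card H = 6048 := by
    rw [← card_HK]
    exact Nat.card_congr eH.toEquiv
  have hidx : H.index = 100 := by
    have h := H.card_mul_index
    rw [cH, card_J2] at h
    omega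
  refine ⟨H, hidx, ⟨U33.K9, inferInstance, inferInstance, by rw [U33.card_k9]; norm_num,
    ⟨eH.trans ((Subgroup.subgroupOfEquivOfLe H100_le).trans e2)⟩⟩, ?_⟩
  let φ : Cfsg.Spor.J2 ⧸ H → Fin 100 := Quotient.lift (fun g => (e g : Equiv.Perm (Fin 100)) 0)
    (fun a b hab => by
      have h : a⁻¹ * b ∈ H := QuotientGroup.leftRel_apply.1 hab
      rw [hH, Subgroup.mem_comap, mem_HK] at h
      simp only [MulEquiv.coe_toMonoidHom, map_mul, map_inv, Subgroup.coe_mul, InvMemClass.coe_inv,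
        Equiv.Perm.mul_apply, Equiv.Perm.inv_def, Equiv.symm_apply_eq] at h
      exact h.symm)
  have hφi : Function.Injective φ := by
    intro x y
    induction x using QuotientGroup.induction_on with
    | H a =>
      induction y using QuotientGroup.induction_on with
      | H b =>
        intro h
        change (e a : Equiv.Perm (Fin 100)) 0 = (e b : Equiv.Perm (Fin 100)) 0 at h
        rw [QuotientGroup.eq, hH, Subgroup.mem_comap, mem_HK]
        simp only [MulEquiv.coe_toMonoidHom, map_mul, map_inv, Subgroup.coe_mul, InvMemClass.coe_inv,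
          Equiv.Perm.mul_apply, Equiv.Perm.inv_def, Equiv.symm_apply_eq]
        exact h.symm
  have horb : ∀ g : Cfsg.Spor.J2, ∀ b : Fin 100, (e g : Equiv.Perm (Fin 100)) 0 = b →
      (MulAction.orbit H (g : Cfsg.Spor.J2 ⧸ H)).ncard =
        {y : Fin 100 | ∃ h ∈ H100, h b = y}.ncard := by
    intro g b hb
    rw [← Set.ncard_image_of_injective _ hφi]
    congr 1
    ext y
    constructor
    · rintro ⟨_, ⟨h, rfl⟩, rfl⟩
      refine ⟨(e h.1 : Equiv.Perm (Fin 100)), ?_, ?_⟩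
      · exact h.2
      · show (e h.1 : Equiv.Perm (Fin 100)) b = (e (h.1 * g) : Equiv.Perm (Fin 100)) 0
        rw [map_mul, Subgroup.coe_mul, Equiv.Perm.mul_apply, hb]
    · rintro ⟨h, hh, rfl⟩
      have hm : e.symm ⟨h, H100_le hh⟩ ∈ H := by
        rw [hH, Subgroup.mem_comap, MulEquiv.coe_toMonoidHom, MulEquiv.apply_symm_apply]
        exact hh
      refine ⟨_, ⟨⟨_, hm⟩, rfl⟩, ?_⟩
      show (e (e.symm ⟨h, H100_le hh⟩ * g) : Equiv.Perm (Fin 100)) 0 = h b
      rw [map_mul, MulEquiv.apply_symm_apply, Subgroup.coe_mul, Equiv.Perm.mul_apply, hb]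
  have get : ∀ b : Fin 100, ∃ c : Cfsg.Spor.J2 ⧸ H,
      (MulAction.orbit H c).ncard = {y : Fin 100 | ∃ h ∈ H100, h b = y}.ncard := by
    intro b
    obtain ⟨g, hg, hgb⟩ := transitive b
    exact ⟨(e.symm ⟨g, hg⟩ : Cfsg.Spor.J2), horb _ b (by rw [MulEquiv.apply_symm_apply]; exact hgb)⟩
  obtain ⟨c₁, h₁⟩ := get 5
  obtain ⟨c₂, h₂⟩ := get 1
  exact ⟨c₁, c₂, h₁.trans ((ncard_orbit orb_check.1 orb_lt.1 orbit_A).trans orb_check.2.2.1),
    h₂.trans ((ncard_orbit orb_check.2.1 orb_lt.2 orbit_B).trans orb_check.2.2.2.1)⟩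

end Cfsg.Agent.S1624
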