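import Cfsg.Statements.S0561
import Cfsg.Agent.Lib.Hall.SystemNormalizer

set_option autoImplicit false
open Pointwise
open Cfsg
open scoped Pointwise

namespace Cfsg.Agent.S0561

/-- Let the finite solvable group G be the product HK of subgroups, and let A be normal in H and B normal in K, where A and B are Hall subgroups of G (order coprime to index). Then for all x, y the product set of xAx⁻¹ and yBy⁻¹ is a subgroup of G. -/
theorem result {G : Type*} [Group G] [Finite G] [Group.IsSolvable G] (H K A B : Subgroup G) (hHK : ∀ g : G, ∃ h ∈ H, ∃ k ∈ K, g = h * k) (hA : A ≤ H) (hAn : (A.subgroupOf H).Normal) (hB : B ≤ K) (hBn : (B.subgroupOf K).Normal) (hAh : (Nat.card A).Coprime A.index) (hBh : (Nat.card B).Coprime B.index) (x y : G) : ∃ S : Subgroup G, (S : Set G) = ((MulAut.conj x • A : Subgroup G) : Set G) * ((MulAut.conj y • B : Subgroup G) : Set G) := by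
  classical
  obtain ⟨C, hC⟩ := Cfsg.Agent.Lib.Hall.Systems.exists_complementSystem (G := G)
  let ps : Finset Nat.Primes := (Nat.card G).primeFactors.subtype Nat.Prime
  have hhall : ∀ X : Subgroup G, (Nat.card X).Coprime X.index →
      ∃ (g : G) (S : Finset Nat.Primes), MulAut.conj g • (S.inf C) = X := by
    intro X hX
    refine (fun ⟨g, hg⟩ => ⟨g, ps.filter fun q : Nat.Primes => ¬ (q : ℕ) ∣ Nat.card X, hg⟩)
      (Cfsg.Agent.Lib.Hall.exists_conj_eq (π := {q | q ∣ Nat.card X}) ⟨?_, ?_⟩ ⟨fun q _ h => h, ?_⟩)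
    · intro q hq hd
      by_contra hnd
      have hmem : (⟨q, hq⟩ : Nat.Primes) ∈ ps.filter fun r : Nat.Primes => ¬ (r : ℕ) ∣ Nat.card X :=
        Finset.mem_filter.2 ⟨Finset.mem_subtype.2 (Nat.mem_primeFactors.2
          ⟨hq, hd.trans (Subgroup.card_subgroup_dvd_card _), Nat.card_pos.ne'⟩), hnd⟩
      exact ((Cfsg.Agent.Lib.Hall.SystemNormalizer.isComplementSystem_iff.1 hC) ⟨q, hq⟩).1 q hq
        (hd.trans (Subgroup.card_dvd_of_le (Finset.inf_le hmem))) rfl
    · intro q hq hmem hd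
      rw [Cfsg.Agent.Lib.Hall.Systems.index_inf_complements hC] at hd
      obtain ⟨r, hr, hdr⟩ := (hq.prime.dvd_finsetProd_iff _).1 hd
      have hqr : q = (r : ℕ) := (Nat.prime_dvd_prime_iff_eq hq r.2).1 (hq.dvd_of_dvd_pow hdr)
      exact (Finset.mem_filter.1 hr).2 (hqr ▸ hmem)
    · intro q hq hmem hd
      exact hq.not_dvd_one (hX.gcd_eq_one ▸ Nat.dvd_gcd hmem hd)
  have hprod : ∀ S T : Finset Nat.Primes,
      ((S.inf C : Subgroup G) : Set G) * ((T.inf C : Subgroup G) : Set G) = ((S ∩ T).inf C : Subgroup G) := by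
    intro S T
    set L := (S ∩ T).inf C with hL
    have hSL : S.inf C ≤ L := Finset.inf_mono Finset.inter_subset_left
    have hTL : T.inf C ≤ L := Finset.inf_mono Finset.inter_subset_right
    have hdiv : ∀ R : Finset Nat.Primes, R.inf C ≤ L → ∀ q : ℕ, q.Prime →
        q ∣ (R.inf C).relIndex L → ∃ h : q.Prime, (⟨q, h⟩ : Nat.Primes) ∈ R := by
      intro R hR q hq hd
      have h1 : q ∣ (R.inf C).index := hd.trans (Dvd.intro _ (Subgroup.relIndex_mul_index hR))
      rw [Cfsg.Agent.Lib.Hall.Systems.index_inf_complements hC] at h1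
      obtain ⟨r, hr, hdr⟩ := (hq.prime.dvd_finsetProd_iff _).1 h1
      have hqr : q = (r : ℕ) := (Nat.prime_dvd_prime_iff_eq hq r.2).1 (hq.dvd_of_dvd_pow hdr)
      subst hqr
      exact ⟨r.2, hr⟩
    have hcop : ((S.inf C).subgroupOf L).index.Coprime ((T.inf C).subgroupOf L).index := by
      refine Nat.coprime_of_dvd fun q hq h1 h2 => ?_
      obtain ⟨_, hS⟩ := hdiv S hSL q hq h1
      obtain ⟨_, hT⟩ := hdiv T hTL q hq h2
      have hle : L ≤ C ⟨q, hq⟩ := Finset.inf_le (Finset.mem_inter.2 ⟨hS, hT⟩)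
      exact ((Cfsg.Agent.Lib.Hall.SystemNormalizer.isComplementSystem_iff.1 hC) ⟨q, hq⟩).1 q hq
        ((h1.trans (Subgroup.index_dvd_card _)).trans (Subgroup.card_dvd_of_le hle)) rfl
    refine Set.Subset.antisymm ?_ fun l hl => ?_
    · rintro _ ⟨a, ha, b, hb, rfl⟩
      exact L.mul_mem (hSL ha) (hTL hb)
    · obtain ⟨a, ha, b, hb, hab⟩ := (Cfsg.Agent.Lib.Hall.Systems.factor_of_coprime_index hcop).2 ⟨l, hl⟩
      exact ⟨a, ha, b, hb, (congrArg Subtype.val hab).symm⟩
  let P : G → G → Prop := fun u v => ∃ S : Subgroup G,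
    (S : Set G) = ((MulAut.conj u • A : Subgroup G) : Set G) * ((MulAut.conj v • B : Subgroup G) : Set G)
  have hconj : ∀ g u v, P u v → P (g * u) (g * v) := by
    rintro g u v ⟨S, hS⟩
    refine ⟨MulAut.conj g • S, ?_⟩
    rw [map_mul, map_mul, mul_smul, mul_smul, Subgroup.coe_pointwise_smul, hS, smul_mul',
      ← Subgroup.coe_pointwise_smul, ← Subgroup.coe_pointwise_smul]
  have hnA : ∀ h ∈ H, MulAut.conj h • A = A := fun h hh =>
    Cfsg.Agent.Lib.Hall.SystemNormalizer.mem_normalizer_iff_conj_smul.1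
      ((Subgroup.normal_subgroupOf_iff_le_normalizer hA).1 hAn hh)
  have hnB : ∀ k ∈ K, MulAut.conj k • B = B := fun k hk =>
    Cfsg.Agent.Lib.Hall.SystemNormalizer.mem_normalizer_iff_conj_smul.1
      ((Subgroup.normal_subgroupOf_iff_le_normalizer hB).1 hBn hk)
  have hred : ∀ u v, ∃ w, (P u v ↔ P w w) := by
    intro u v
    obtain ⟨h, hh, k, hk, hhk⟩ := hHK (u⁻¹ * v)
    refine ⟨u * h, ?_⟩
    have e : v = u * h * k := by rw [mul_assoc, ← hhk, mul_inv_cancel_left]
    have eA : MulAut.conj u • A = MulAut.conj (u * h) • A := by rw [map_mul, mul_smul, hnA h hh]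
    have eB : MulAut.conj v • B = MulAut.conj (u * h) • B := by rw [e, map_mul, mul_smul, hnB k hk]
    show (∃ _, _) ↔ ∃ _, _
    rw [eA, eB]
  show P x y
  obtain ⟨w, hw⟩ := hred x y
  obtain ⟨a, S, ha⟩ := hhall A hAh
  obtain ⟨b, T, hb⟩ := hhall B hBh
  have hP : P a⁻¹ b⁻¹ := ⟨(S ∩ T).inf C, by
    rw [← hprod, ← ha, ← hb, ← mul_smul, ← map_mul, ← mul_smul, ← map_mul, inv_mul_cancel,
      inv_mul_cancel, map_one, one_smul, one_smul]⟩
  obtain ⟨w', hw'⟩ := hred a⁻¹ b⁻¹
  have h2 := hconj (w * w'⁻¹) _ _ (hw'.1 hP)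
  rw [inv_mul_cancel_right] at h2
  exact hw.2 h2

end Cfsg.Agent.S0561
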