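import Cfsg.Statements.S0562
import Mathlib


set_option autoImplicit false
open Cfsg

namespace Cfsg.Agent.S0562

/-- Let the finite group G be the product HK of subgroups, A normal in H, B normal in K, and L the normalizer of the subgroup generated by A and B. Then every element of L is a product of an element of L ∩ H and an element of L ∩ K. -/
theorem result {G : Type*} [Group G] [Finite G] (H K A B : Subgroup G) (hHK : ∀ g : G, ∃ h ∈ H, ∃ k ∈ K, g = h * k) (hA : A ≤ H) (hAn : (A.subgroupOf H).Normal) (hB : B ≤ K) (hBn : (B.subgroupOf K).Normal) : ∀ g ∈ Subgroup.normalizer ((A ⊔ B : Subgroup G) : Set G), ∃ h ∈ Subgroup.normalizer ((A ⊔ B : Subgroup G) : Set G) ⊓ H, ∃ k ∈ Subgroup.normalizer ((A ⊔ B : Subgroup G) : Set G) ⊓ K, g = h * k := by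
  intro g hg
  obtain ⟨h, hh, k, hk, rfl⟩ := hHK g
  have hhL : h ∈ Subgroup.normalizer ((A ⊔ B : Subgroup G) : Set G) := by
    have key : (A ⊔ B).map (MulAut.conj h).toMonoidHom ≤ A ⊔ B := by
      rw [Subgroup.map_sup, sup_le_iff]
      constructor
      · rintro _ ⟨a, ha, rfl⟩
        exact Subgroup.mem_sup_left
          ((Subgroup.normal_subgroupOf_iff hA).mp hAn a h ha hh)
      · rintro _ ⟨b, hb, rfl⟩
        have h1 := (Subgroup.mem_normalizer_iff.mp hg (k⁻¹ * b * k⁻¹⁻¹)).mp
          (Subgroup.mem_sup_right ((Subgroup.normal_subgroupOf_iff hB).mp hBn b k⁻¹ hb (inv_mem hk)))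
        simpa [mul_assoc] using h1
    have heq := Subgroup.eq_of_le_of_card_ge key
      (Subgroup.card_map_of_injective (MulEquiv.injective _)).ge
    rw [Subgroup.mem_normalizer_iff]
    intro x
    conv_rhs => rw [← heq]
    exact (Subgroup.mem_map_iff_mem (f := (MulAut.conj h).toMonoidHom) (MulEquiv.injective _)).symm
  exact ⟨h, Subgroup.mem_inf.mpr ⟨hhL, hh⟩, k,
    Subgroup.mem_inf.mpr ⟨by simpa using mul_mem (inv_mem hhL) hg, hk⟩, rfl⟩

end Cfsg.Agent.S0562
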