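import Cfsg.Statements.S0566
import Mathlib
import Cfsg.Agent.Lib.Products


set_option autoImplicit false
open Pointwise
open Cfsg

namespace Cfsg.Agent.S0566

open scoped Pointwise in
theorem aux {G : Type*} [Group G] [Finite G] (A B : Subgroup G) (hA : A ≠ ⊥) (hB : B ≠ ⊥)
    (h : ∀ x : G, ∃ S : Subgroup G, S ≠ ⊤ ∧
      (S : Set G) = (A : Set G) * ((MulAut.conj x • B : Subgroup G) : Set G)) :
    ∃ N : Subgroup G, N.Normal ∧ N ≠ ⊤ ∧ (A ≤ N ∨ B ≤ N) := by
  induction A using WellFoundedGT.induction with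
  | ind A ih =>
    by_cases hAN : Subgroup.normalClosure (A : Set G) ≠ ⊤
    · exact ⟨_, inferInstance, hAN, Or.inl Subgroup.le_normalClosure⟩
    by_cases hBN : Subgroup.normalClosure (B : Set G) ≠ ⊤
    · exact ⟨_, inferInstance, hBN, Or.inr Subgroup.le_normalClosure⟩
    push_neg at hAN hBN
    obtain ⟨S₀, hS₀, hS₀eq⟩ := h 1
    have hAS : ∀ (x : G) (S : Subgroup G),
        (S : Set G) = (A : Set G) * ((MulAut.conj x • B : Subgroup G) : Set G) → A ≤ S :=
      fun x S hS a ha => by
        rw [← SetLike.mem_coe, hS]; exact ⟨a, ha, 1, one_mem _, mul_one a⟩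
    obtain ⟨g, b, hb, hnb⟩ : ∃ g : G, ∃ b ∈ MulAut.conj g • B,
        b ∉ Subgroup.normalizer (A : Set G) := by
      by_contra hc
      push_neg at hc
      have hsub : Subgroup.normalClosure (B : Set G) ≤ Subgroup.normalizer (A : Set G) := by
        refine (Subgroup.closure_le _).mpr fun z hz => ?_
        rw [Group.mem_conjugatesOfSet_iff] at hz
        obtain ⟨b, hb, hbz⟩ := hz
        obtain ⟨c, rfl⟩ := isConj_iff.mp hbz
        exact hc c _ (Subgroup.smul_mem_pointwise_smul b (MulAut.conj c) B hb)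
      rw [hBN, top_le_iff] at hsub
      haveI := Subgroup.normalizer_eq_top_iff.mp hsub
      rw [Subgroup.normalClosure_eq_self] at hAN
      exact hS₀ (top_le_iff.mp (hAN ▸ hAS 1 S₀ hS₀eq))
    obtain ⟨S, hS, hSeq⟩ := h g
    have hbS : MulAut.conj g • B ≤ S := fun a ha => by
      rw [← SetLike.mem_coe, hSeq]; exact ⟨1, one_mem _, a, ha, one_mul a⟩
    set A' := MulAut.conj b • A with hA'
    have hA'S : A' ≤ S := by
      intro a ha
      rw [hA', Subgroup.mem_pointwise_smul_iff_inv_smul_mem] at ha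
      have h1 := mul_mem (mul_mem (hbS hb) (hAS g S hSeq ha)) (inv_mem (hbS hb))
      simpa [mul_assoc] using h1
    set As := A ⊔ A' with hAs
    have hAsS : As ≤ S := sup_le (hAS g S hSeq) hA'S
    have hlt : A < As := by
      refine lt_of_le_of_ne le_sup_left fun heq => hnb ?_
      have hle : A' ≤ A := heq ▸ le_sup_right
      have he := Subgroup.eq_of_le_of_card_ge hle
        (Subgroup.card_map_of_injective (MulEquiv.injective _)).ge
      rw [Subgroup.mem_normalizer_iff]
      intro x
      conv_rhs => rw [← he]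
      show x ∈ A ↔ MulAut.conj b • x ∈ MulAut.conj b • A
      rw [Subgroup.smul_mem_pointwise_smul_iff]
    have hperm : ∀ y : G, ∃ T : Subgroup G,
        (T : Set G) = (As : Set G) * ((MulAut.conj y • B : Subgroup G) : Set G) := by
      intro y
      set By := MulAut.conj y • B
      obtain ⟨S1, -, hS1⟩ := h y
      obtain ⟨S2, -, hS2⟩ := h (b⁻¹ * y)
      have hS2' : ((MulAut.conj b • S2 : Subgroup G) : Set G) = (A' : Set G) * (By : Set G) := by
        rw [Subgroup.coe_pointwise_smul, hS2, smul_mul', ← Subgroup.coe_pointwise_smul,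
          ← Subgroup.coe_pointwise_smul, smul_smul, ← map_mul, mul_inv_cancel_left]
      have hcomm : ∀ a ∈ As, ∀ c ∈ By, ∃ c' ∈ By, ∃ a' ∈ As, a * c = c' * a' := by
        intro a ha
        rw [hAs, Subgroup.sup_eq_closure] at ha
        induction ha using Subgroup.closure_induction with
        | mem x hx =>
          intro c hc
          rcases hx with hx | hx
          · have : x * c ∈ (A : Set G) * (By : Set G) := Set.mul_mem_mul hx hc
            rw [← hS1, Lib.Products.mul_comm_of_coe_eq hS1] at this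
            obtain ⟨c', hc', a', ha', he⟩ := this
            exact ⟨c', hc', a', Subgroup.mem_sup_left ha', he.symm⟩
          · have : x * c ∈ (A' : Set G) * (By : Set G) := Set.mul_mem_mul hx hc
            rw [← hS2', Lib.Products.mul_comm_of_coe_eq hS2'] at this
            obtain ⟨c', hc', a', ha', he⟩ := this
            exact ⟨c', hc', a', Subgroup.mem_sup_right ha', he.symm⟩
        | one => exact fun c hc => ⟨c, hc, 1, one_mem _, by simp⟩
        | mul x x' _ _ ihx ihx' =>
          intro c hc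
          obtain ⟨c1, hc1, a1, ha1, e1⟩ := ihx' c hc
          obtain ⟨c2, hc2, a2, ha2, e2⟩ := ihx c1 hc1
          exact ⟨c2, hc2, a2 * a1, mul_mem ha2 ha1,
            by rw [mul_assoc, e1, ← mul_assoc, e2, mul_assoc]⟩
        | inv x hx' ihx =>
          -- a finite group: the inverse is a positive power
          intro c hc
          suffices ∀ n : ℕ, ∀ c ∈ By, ∃ c' ∈ By, ∃ a' ∈ As, x ^ n * c = c' * a' by
            have hx1 : x ^ (orderOf x - 1) = x⁻¹ := by
              rw [eq_inv_iff_mul_eq_one, ← pow_succ,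
                Nat.sub_add_cancel (isOfFinOrder_of_finite x).orderOf_pos, pow_orderOf_eq_one]
            obtain ⟨c', hc', a', ha', he⟩ := this (orderOf x - 1) c hc
            exact ⟨c', hc', a', ha', hx1 ▸ he⟩
          intro n
          induction n with
          | zero => exact fun c hc => ⟨c, hc, 1, one_mem _, by simp⟩
          | succ n ihn =>
            intro c hc
            obtain ⟨c1, hc1, a1, ha1, e1⟩ := ihx c hc
            obtain ⟨c2, hc2, a2, ha2, e2⟩ := ihn c1 hc1
            exact ⟨c2, hc2, a2 * a1, mul_mem ha2 ha1,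
              by rw [pow_succ, mul_assoc, e1, ← mul_assoc, e2, mul_assoc]⟩
      refine ⟨
        { carrier := (As : Set G) * (By : Set G)
          mul_mem' := ?_
          one_mem' := ⟨1, one_mem _, 1, one_mem _, one_mul 1⟩
          inv_mem' := ?_ }, rfl⟩
      · rintro _ _ ⟨a, ha, c, hc, rfl⟩ ⟨a', ha', c', hc', rfl⟩
        obtain ⟨c1, hc1, a1, ha1, he⟩ := hcomm a'⁻¹ (inv_mem ha') c⁻¹ (inv_mem hc)
        refine ⟨a * a1⁻¹, mul_mem ha (inv_mem ha1), c1⁻¹ * c', mul_mem (inv_mem hc1) hc', ?_⟩
        have he' : c * a' = a1⁻¹ * c1⁻¹ := by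
          have := congrArg (·⁻¹) he
          simpa using this
        show a * a1⁻¹ * (c1⁻¹ * c') = a * c * (a' * c')
        calc a * a1⁻¹ * (c1⁻¹ * c') = a * (a1⁻¹ * c1⁻¹) * c' := by simp only [mul_assoc]
          _ = a * c * (a' * c') := by rw [← he']; simp only [mul_assoc]
      · rintro _ ⟨a, ha, c, hc, rfl⟩
        obtain ⟨c1, hc1, a1, ha1, he⟩ := hcomm a ha c hc
        exact ⟨a1⁻¹, inv_mem ha1, c1⁻¹, inv_mem hc1,
          show a1⁻¹ * c1⁻¹ = (a * c)⁻¹ by rw [← mul_inv_rev, ← he]⟩
    have hprop : ∀ y : G, ∃ T : Subgroup G, T ≠ ⊤ ∧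
        (T : Set G) = (As : Set G) * ((MulAut.conj y • B : Subgroup G) : Set G) := by
      intro y
      obtain ⟨T, hT⟩ := hperm y
      refine ⟨T, fun ht => hS ?_, hT⟩
      subst ht
      have hfac : ∀ z : G, ∃ a ∈ As, ∃ c ∈ MulAut.conj y • B, z = a * c := fun z => by
        have : z ∈ ((⊤ : Subgroup G) : Set G) := trivial
        rw [hT] at this
        obtain ⟨a, ha, c, hc, he⟩ := this
        exact ⟨a, ha, c, hc, he.symm⟩
      rw [Subgroup.eq_top_iff']
      intro z
      obtain ⟨a, ha, c, hc, rfl⟩ := Lib.Products.factor_conj hfac 1 (g * y⁻¹) z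
      rw [map_one, one_smul] at ha
      rw [smul_smul, ← map_mul, inv_mul_cancel_right] at hc
      exact mul_mem (hAsS ha) (hbS hc)
    obtain ⟨N, hN, hNt, hor⟩ := ih As hlt (ne_bot_of_gt hlt) hprop
    exact ⟨N, hN, hNt, hor.imp_left (le_trans le_sup_left)⟩


/-- Let A and B be nontrivial subgroups of a finite group G such that for every x the product set of A and xBx⁻¹ is a proper subgroup of G. Then there is a proper normal subgroup of G containing A or containing B. -/
theorem result {G : Type*} [Group G] [Finite G] (A B : Subgroup G) (hA : A ≠ ⊥) (hB : B ≠ ⊥) (h : ∀ x : G, ∃ S : Subgroup G, S ≠ ⊤ ∧ (S : Set G) = (A : Set G) * ((MulAut.conj x • B : Subgroup G) : Set G)) : ∃ N : Subgroup G, N.Normal ∧ N ≠ ⊤ ∧ (A ≤ N ∨ B ≤ N) := by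
  exact aux A B hA hB h

end Cfsg.Agent.S0566
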