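import Cfsg.Statements.S0581
import Mathlib
import Cfsg.Agent.Lib.Transfer.Frobenius


set_option autoImplicit false
set_option linter.style.haveILetI false
open Pointwise
open Cfsg

namespace Cfsg.Agent.S0581

open scoped Pointwise
open Lib.Transfer.PResidual Lib.Transfer.Frobenius

universe u

theorem exists_sylow_le {G : Type*} [Group G] [Finite G] {q : ℕ} [Fact q.Prime] (H : Subgroup G)
    (hq : ¬ q ∣ H.index) : ∃ R : Sylow q G, (R : Subgroup G) ≤ H := by
  obtain ⟨S⟩ := (inferInstance : Nonempty (Sylow q H))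
  have hidx : ¬ q ∣ ((S : Subgroup H).map H.subtype).index := by
    rw [Subgroup.index_map_subtype]
    exact (Fact.out : q.Prime).not_dvd_mul S.not_dvd_index hq
  exact ⟨(S.isPGroup'.map H.subtype).toSylow hidx, Subgroup.map_subtype_le _⟩

theorem isNilpotent_of_complements {G : Type*} [Group G] [Finite G]
    (h : ∀ q : ℕ, q.Prime → Cfsg.HasNormalPComplement q G) : Group.IsNilpotent G := by
  have hq := (Group.isNilpotent_of_finite_tfae (G := G)).out 0 3
  rw [hq]; clear hq
  intro r hr R
  haveI := hr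
  set Ω : Subgroup G := ⨅ q : {q : ℕ // q.Prime ∧ q ≠ r}, Cfsg.pResidual q G
  haveI hΩn : Ω.Normal := Subgroup.normal_iInf_normal fun q => inferInstance
  have hΩ : IsPGroup r Ω := by
    refine IsPGroup.of_card (n := _)
      (Nat.eq_prime_pow_of_unique_prime_dvd Nat.card_pos.ne' fun {d} hd hdd => ?_)
    by_contra hne
    haveI := Fact.mk hd
    exact hasNormalPComplement_iff_not_dvd.mp (h d hd)
      (hdd.trans (Subgroup.card_dvd_of_le
        (iInf_le (fun q : {q : ℕ // q.Prime ∧ q ≠ r} => Cfsg.pResidual (q : ℕ) G) ⟨d, hd, hne⟩)))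
  have hRΩ : (R : Subgroup G) ≤ Ω := le_iInf fun ⟨q, hq, hne⟩ x hx => by
    haveI := Fact.mk hq
    obtain ⟨j, hj⟩ := IsPGroup.iff_orderOf.mp R.isPGroup' ⟨x, hx⟩
    rw [Subgroup.orderOf_mk] at hj
    refine mem_pResidual ?_
    rw [hj]
    exact ((Nat.coprime_primes Fact.out hq).mpr (Ne.symm hne)).pow_left j
  rw [← R.is_maximal' hΩ hRΩ]
  exact hΩn

theorem conj_mem {G : Type*} [Group G] {H : Subgroup G} {x a : G} :
    x * a * x⁻¹ ∈ H ↔ a ∈ MulAut.conj x⁻¹ • H := by
  rw [Subgroup.mem_pointwise_smul_iff_inv_smul_mem, map_inv, inv_inv]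
  exact Iff.rfl

/-- Wielandt: a nilpotent Hall subgroup dominates. -/
theorem wielandt : ∀ (n : ℕ) {G : Type u} [Group G] [Finite G] (H : Subgroup G),
    Nat.card H = n → Group.IsNilpotent H → (Nat.card H).Coprime H.index → ∀ K : Subgroup G,
    (∀ p : ℕ, p.Prime → p ∣ Nat.card K → p ∣ Nat.card H) → ∃ x : G, K ≤ MulAut.conj x • H := by
  intro n
  induction n using Nat.strong_induction_on with
  | _ n ih =>
    intro G _ _ H hn hnil hHall K hK
    haveI := hnil
    have hqi : ∀ q : ℕ, q.Prime → q ∣ Nat.card H → ¬ q ∣ H.index := fun q hq hd hd' =>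
      hq.not_dvd_one (hHall.gcd_eq_one ▸ Nat.dvd_gcd hd hd')
    -- the `q'`-part of `H` centralises every `q`-subgroup of `H`
    have hpart : ∀ q : ℕ, q.Prime → ∀ a ∈ (Cfsg.pResidual q H).map H.subtype, ∀ b ∈ H,
        (∃ k, orderOf b = q ^ k) → a * b = b * a := by
      intro q hq a ha b hb hk
      haveI := Fact.mk hq
      obtain ⟨a, ha, rfl⟩ := ha
      obtain ⟨k, hk⟩ := hk
      refine congrArg Subtype.val (commute_of_coprime_of_isNilpotent (a := a) (b := ⟨b, hb⟩) ?_)
      rw [show orderOf (⟨b, hb⟩ : H) = q ^ k from (Subgroup.orderOf_coe ⟨b, hb⟩).symm.trans hk]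
      refine Nat.Coprime.pow_right k (Nat.Coprime.coprime_dvd_left
        (Subgroup.orderOf_dvd_natCard _ ha) ?_)
      exact ((Nat.Prime.coprime_iff_not_dvd hq).mpr
        (hasNormalPComplement_iff_not_dvd.mp hasNormalPComplement_of_isNilpotent)).symm
    -- every `q`-subgroup of `K` can be moved into `H`
    have hmove : ∀ q : ℕ, q.Prime → q ∣ Nat.card H → ∀ R : Subgroup G, IsPGroup q R →
        ∃ y : G, ∀ a ∈ R, y * a * y⁻¹ ∈ H := by
      intro q hq hqH R hR
      haveI := Fact.mk hq
      obtain ⟨T, hT⟩ := exists_sylow_le H (hqi q hq hqH)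
      obtain ⟨T', hT'⟩ := hR.exists_le_sylow
      obtain ⟨y, hy⟩ := MulAction.exists_smul_eq G T' T
      refine ⟨y, fun a ha => hT ?_⟩
      rw [← hy, Sylow.coe_subgroup_smul]
      exact Subgroup.smul_mem_pointwise_smul a (MulAut.conj y) _ (hT' ha)
    have hKnil : Group.IsNilpotent K := by
      refine isNilpotent_of_complements fun q hq => ?_
      haveI := Fact.mk hq
      by_cases hqK : q ∣ Nat.card K
      swap
      · exact hasNormalPComplement_of_not_dvd hqK
      refine hasNormalPComplement_of_forall_centralizes fun R hR _ g hg hgq => ?_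
      obtain ⟨y, hy⟩ := hmove q hq (hK q hq hqK) (R.map K.subtype) (hR.map _)
      set R' := (R.map K.subtype).map (MulAut.conj y).toMonoidHom with hR'
      set N := Subgroup.normalizer (R' : Set G)
      set C := (Subgroup.centralizer (R' : Set G)).subgroupOf N with hC
      set g' := y * (g : G) * y⁻¹ with hg'
      have hg'N : g' ∈ N := by
        have h1 : (g : G) ∈ Subgroup.normalizer ((R.map K.subtype : Subgroup G) : Set G) :=
          Subgroup.le_normalizer_map _ ⟨g, hg, rfl⟩
        exact Subgroup.le_normalizer_map (MulAut.conj y).toMonoidHom ⟨(g : G), h1, rfl⟩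
      set D := (Cfsg.pResidual q H).map H.subtype with hD
      have hDC : D ≤ Subgroup.centralizer (R' : Set G) := by
        intro a ha
        rw [Subgroup.mem_centralizer_iff]
        rintro _ ⟨b, hb, rfl⟩
        obtain ⟨k, hk⟩ := IsPGroup.iff_orderOf.mp (hR.map K.subtype) ⟨b, hb⟩
        rw [Subgroup.orderOf_mk] at hk
        exact (hpart q hq a ha _ (hy b hb) ⟨k, by
          rw [show y * b * y⁻¹ = MulAut.conj y b from rfl, MulEquiv.orderOf_eq, hk]⟩).symm
      have hDidx : D.index = (Cfsg.pResidual q H).index * H.index := Subgroup.index_map_subtype _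
      have hidx : C.index.Coprime (orderOf g') := by
        refine Nat.coprime_of_dvd fun d hd hd1 hd2 => ?_
        have ho : orderOf g' = orderOf g := by
          rw [hg', show y * (g : G) * y⁻¹ = MulAut.conj y g from rfl, MulEquiv.orderOf_eq,
            Subgroup.orderOf_coe]
        rw [ho] at hd2
        have hdq : d ≠ q := fun he =>
          hq.not_dvd_one (hgq.gcd_eq_one ▸ Nat.dvd_gcd (he ▸ hd2) dvd_rfl)
        have hdH : d ∣ Nat.card H :=
          hK d hd (hd2.trans (orderOf_dvd_natCard g))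
        have h2 : C.index ∣ D.index :=
          (Dvd.intro _ (Subgroup.relIndex_mul_index (Subgroup.centralizer_le_normalizer _))).trans
            (Subgroup.index_dvd_of_le hDC)
        obtain ⟨m, hm⟩ := exists_index_eq_pow (p := q) (G := H)
        rw [hDidx, hm] at h2
        rcases hd.dvd_mul.mp (hd1.trans h2) with h3 | h3
        · exact hdq ((Nat.prime_dvd_prime_iff_eq hd hq).mp (hd.dvd_of_dvd_pow h3))
        · exact hqi d hd hdH h3
      have hg'C : g' ∈ Subgroup.centralizer (R' : Set G) := by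
        have h1 : (QuotientGroup.mk (⟨g', hg'N⟩ : N) : N ⧸ C) = 1 := by
          refine orderOf_eq_one_iff.mp (Nat.eq_one_of_dvd_coprimes hidx ?_ ?_)
          · rw [Subgroup.index_eq_card]; exact orderOf_dvd_natCard _
          · refine (orderOf_map_dvd (QuotientGroup.mk' C) _).trans ?_
            rw [Subgroup.orderOf_mk]
        exact (QuotientGroup.eq_one_iff (N := C) _).mp h1
      rw [Subgroup.mem_centralizer_iff]
      intro r hr
      have h2 := Subgroup.mem_centralizer_iff.mp hg'C (MulAut.conj y (r : G))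
        ⟨r, ⟨r, hr, rfl⟩, rfl⟩
      rw [show g' = MulAut.conj y (g : G) from rfl, ← map_mul, ← map_mul] at h2
      exact Subtype.ext ((MulAut.conj y).injective h2)
    -- nilpotent `K`: split off one prime
    by_cases hKb : K = ⊥
    · exact ⟨1, hKb ▸ bot_le⟩
    obtain ⟨p, hp, hpK⟩ := Nat.exists_prime_and_dvd (n := Nat.card K)
      (fun h1 => hKb (Subgroup.card_eq_one.mp h1))
    haveI := Fact.mk hp
    haveI := hKnil
    have hpH := hK p hp hpK
    obtain ⟨P⟩ := (inferInstance : Nonempty (Sylow p K))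
    obtain ⟨y, hy⟩ := hmove p hp hpH ((P : Subgroup K).map K.subtype) (P.isPGroup'.map _)
    set P' := ((P : Subgroup K).map K.subtype).map (MulAut.conj y).toMonoidHom with hP'
    set C := Subgroup.centralizer (P' : Set G) with hC
    set D := (Cfsg.pResidual p H).map H.subtype with hD
    have hDC : D ≤ C := by
      intro a ha
      rw [hC, Subgroup.mem_centralizer_iff]
      rintro _ ⟨b, hb, rfl⟩
      obtain ⟨k, hk⟩ := IsPGroup.iff_orderOf.mp (P.isPGroup'.map K.subtype) ⟨b, hb⟩
      rw [Subgroup.orderOf_mk] at hk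
      exact (hpart p hp a ha _ (hy b hb) ⟨k, by
        rw [show y * b * y⁻¹ = MulAut.conj y b from rfl, MulEquiv.orderOf_eq, hk]⟩).symm
    set Q := ((Cfsg.pResidual p K).map K.subtype).map (MulAut.conj y).toMonoidHom with hQ
    have hQC : Q ≤ C := by
      rintro _ ⟨_, ⟨a, ha, rfl⟩, rfl⟩
      rw [hC, Subgroup.mem_centralizer_iff]
      rintro _ ⟨_, ⟨b, hb, rfl⟩, rfl⟩
      show MulAut.conj y (b : G) * MulAut.conj y (a : G) = MulAut.conj y (a : G) * MulAut.conj y (b : G)
      rw [← map_mul, ← map_mul]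
      congr 1
      refine congrArg Subtype.val (commute_of_coprime_of_isNilpotent (a := b) (b := a) ?_)
      obtain ⟨k, hk⟩ := IsPGroup.iff_orderOf.mp P.isPGroup' ⟨b, hb⟩
      rw [Subgroup.orderOf_mk] at hk
      rw [hk]
      refine Nat.Coprime.pow_left k (Nat.Coprime.coprime_dvd_right
        (Subgroup.orderOf_dvd_natCard _ ha) ?_)
      exact (Nat.Prime.coprime_iff_not_dvd hp).mpr
        (hasNormalPComplement_iff_not_dvd.mp hasNormalPComplement_of_isNilpotent)
    have hresH := hasNormalPComplement_iff_not_dvd.mp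
      (hasNormalPComplement_of_isNilpotent (G := H) (p := p))
    have hresK := hasNormalPComplement_iff_not_dvd.mp
      (hasNormalPComplement_of_isNilpotent (G := K) (p := p))
    have hDcard : Nat.card D = Nat.card (Cfsg.pResidual p H) :=
      Subgroup.card_map_of_injective H.subtype_injective
    have hDcard' : Nat.card (D.subgroupOf C) = Nat.card D :=
      Nat.card_congr (Subgroup.subgroupOfEquivOfLe hDC).toEquiv
    have hlt : Nat.card (D.subgroupOf C) < n := by
      rw [hDcard', hDcard, ← hn]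
      refine lt_of_le_of_ne (Subgroup.card_le_card_group _) fun he => hresH (he ▸ hpH)
    have hDhall : (Nat.card (D.subgroupOf C)).Coprime (D.subgroupOf C).index := by
      refine Nat.Coprime.coprime_dvd_right (Subgroup.relIndex_dvd_index_of_le hDC) ?_
      rw [hDcard', hDcard, hD, Subgroup.index_map_subtype]
      refine Nat.Coprime.mul_right ?_ (hHall.coprime_dvd_left (Subgroup.card_subgroup_dvd_card _))
      obtain ⟨m, hm⟩ := exists_index_eq_pow (p := p) (G := H)
      rw [hm]
      exact ((Nat.Prime.coprime_iff_not_dvd hp).mpr hresH).symm.pow_right m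
    have hQcard : Nat.card (Q.subgroupOf C) = Nat.card (Cfsg.pResidual p K) := by
      rw [Nat.card_congr (Subgroup.subgroupOfEquivOfLe hQC).toEquiv, hQ,
        Subgroup.card_map_of_injective (MulEquiv.injective _),
        Subgroup.card_map_of_injective K.subtype_injective]
    obtain ⟨⟨c, hc⟩, hQc⟩ := ih _ hlt (D.subgroupOf C) rfl
      (Group.nilpotent_of_mulEquiv ((Subgroup.equivMapOfInjective _ _ H.subtype_injective).trans
        (Subgroup.subgroupOfEquivOfLe hDC).symm)) hDhall (Q.subgroupOf C) (fun d hd hdd => by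
        rw [hQcard] at hdd
        rw [hDcard', hDcard]
        have hdp : d ≠ p := fun he => hresK (he ▸ hdd)
        have hdH := hK d hd (hdd.trans (Subgroup.card_subgroup_dvd_card _))
        rw [← Subgroup.card_mul_index (Cfsg.pResidual p H)] at hdH
        refine (hd.dvd_mul.mp hdH).resolve_right fun h3 => ?_
        obtain ⟨m, hm⟩ := exists_index_eq_pow (p := p) (G := H)
        rw [hm] at h3
        exact hdp ((Nat.prime_dvd_prime_iff_eq hd hp).mp (hd.dvd_of_dvd_pow h3)))
    -- `c⁻¹ y` works
    refine ⟨(c⁻¹ * y)⁻¹, fun k hk => conj_mem.mp ?_⟩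
    obtain ⟨a, ha, b, hb, he⟩ := exists_mul_sylow P (⟨k, hk⟩ : K)
    rw [show k = (a : G) * b from (congrArg Subtype.val he).symm,
      show c⁻¹ * y * ((a : G) * b) * (c⁻¹ * y)⁻¹ =
        (c⁻¹ * (y * a * y⁻¹) * c) * (c⁻¹ * (y * b * y⁻¹) * c) by group]
    refine mul_mem ?_ ?_
    · have haQ : y * (a : G) * y⁻¹ ∈ Q := ⟨a, ⟨a, ha, rfl⟩, rfl⟩
      have h1 := hQc (show (⟨y * (a : G) * y⁻¹, hQC haQ⟩ : C) ∈ Q.subgroupOf C from haQ)
      rw [Subgroup.mem_pointwise_smul_iff_inv_smul_mem] at h1
      refine Subgroup.map_subtype_le _ (?_ : _ ∈ D)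
      simpa [Subgroup.mem_subgroupOf, mul_assoc, hD] using h1
    · have hbP : y * (b : G) * y⁻¹ ∈ P' := ⟨b, ⟨b, hb, rfl⟩, rfl⟩
      have h1 := Subgroup.mem_centralizer_iff.mp hc _ hbP
      rw [mul_assoc c⁻¹, h1, inv_mul_cancel_left]
      exact hy b ⟨b, hb, rfl⟩


/-- Let H be a nilpotent subgroup of a finite group G whose order is coprime to its index, and K a subgroup every prime divisor of whose order divides the order of H. Then K lies in some conjugate of H. -/
theorem result {G : Type*} [Group G] [Finite G] (H K : Subgroup G) (hH : Group.IsNilpotent H) (hHall : (Nat.card H).Coprime H.index) (hK : ∀ p : ℕ, p.Prime → p ∣ Nat.card K → p ∣ Nat.card H) : ∃ x : G, K ≤ MulAut.conj x • H := by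
  exact wielandt _ H rfl hH hHall K hK

end Cfsg.Agent.S0581
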