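import Cfsg.Statements.S0560
import Mathlib
import Cfsg.Agent.Lib.Products


set_option autoImplicit false
open Pointwise
open Cfsg

namespace Cfsg.Agent.S0560

/-- Let the finite group G be the product HK of two subgroups and p a prime. Then there are Sylow p-subgroups P of H and Q of K and a Sylow p-subgroup R of G whose underlying set is the product set of P and Q. -/
theorem result {G : Type*} [Group G] [Finite G] (H K : Subgroup G) (hHK : ∀ g : G, ∃ h ∈ H, ∃ k ∈ K, g = h * k) (p : ℕ) [Fact p.Prime] : ∃ (P : Sylow p H) (Q : Sylow p K) (R : Sylow p G), ((R : Subgroup G) : Set G) = (((P : Subgroup H).map H.subtype : Subgroup G) : Set G) * (((Q : Subgroup K).map K.subtype : Subgroup G) : Set G) := by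
  open scoped Pointwise in
  classical
  obtain ⟨P0⟩ := (inferInstance : Nonempty (Sylow p H))
  obtain ⟨Q0⟩ := (inferInstance : Nonempty (Sylow p K))
  obtain ⟨R1, hR1⟩ := Sylow.exists_comap_subtype_eq P0
  obtain ⟨R2, hR2⟩ := Sylow.exists_comap_subtype_eq Q0
  obtain ⟨g, hg⟩ := MulAction.exists_smul_eq G R1 R2
  obtain ⟨k, hk, h, hh, rfl⟩ := Lib.Products.swap hHK g
  set R := h • R1 with hR
  have hR' : R = k⁻¹ • R2 := by rw [hR, ← hg, smul_smul, inv_mul_cancel_left]
  have key : ∀ (X : Subgroup G) (R0 : Sylow p G) (P : Sylow p X),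
      (R0 : Subgroup G).comap X.subtype = (P : Subgroup X) → ∀ x ∈ X,
      ¬ p ∣ ((x • R0 : Sylow p G) : Subgroup G).relIndex X := by
    intro X R0 P hP x hx
    have h1 := Subgroup.relIndex_pointwise_smul (MulAut.conj x) (R0 : Subgroup G) X
    rw [Subgroup.conj_smul_eq_self_of_mem hx] at h1
    rw [Sylow.coe_subgroup_smul, h1, Subgroup.relIndex]
    show ¬ p ∣ ((R0 : Subgroup G).comap X.subtype).index
    rw [hP]; exact P.not_dvd_index
  have hP : ¬ p ∣ (R : Subgroup G).relIndex H := key H R1 P0 hR1 h hh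
  have hQ : ¬ p ∣ (R : Subgroup G).relIndex K := by
    rw [hR']; exact key K R2 Q0 hR2 k⁻¹ (inv_mem hk)
  refine ⟨(R.isPGroup'.comap_subtype (K := H)).toSylow hP,
    (R.isPGroup'.comap_subtype (K := K)).toSylow hQ, R, ?_⟩
  show ((R : Subgroup G) : Set G) = (((R : Subgroup G).subgroupOf H).map H.subtype : Set G) *
    (((R : Subgroup G).subgroupOf K).map K.subtype : Set G)
  rw [Subgroup.subgroupOf_map_subtype, Subgroup.subgroupOf_map_subtype]
  suffices hfac : K.relIndex ((R : Subgroup G) ⊓ H) = K.relIndex (R : Subgroup G) by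
    refine Lib.Products.coe_eq_mul inf_le_left inf_le_left fun t ht => ?_
    obtain ⟨a, ha, b, hb, rfl⟩ :=
      (Lib.Products.factor_iff_relIndex_eq K inf_le_left).mpr hfac t ht
    exact ⟨a, ha, b, Subgroup.mem_inf.mpr
      ⟨by simpa using mul_mem (inv_mem (Subgroup.mem_inf.mp ha).1) ht, hb⟩, rfl⟩
  refine le_antisymm (Lib.Products.relIndex_le_of_le K inf_le_left) ?_
  set v : Subgroup G → ℕ := fun X => (Nat.card X).factorization p
  have hsyl : ∀ X : Subgroup G, ¬ p ∣ (R : Subgroup G).relIndex X →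
      Nat.card ↥((R : Subgroup G) ⊓ X) = p ^ v X := by
    intro X hX
    have h1 := ((R.isPGroup'.comap_subtype (K := X)).toSylow hX).card_eq_multiplicity
    rw [← Subgroup.subgroupOf_map_subtype, Subgroup.card_map_of_injective X.subtype_injective]
    exact h1
  obtain ⟨c, hc⟩ := IsPGroup.iff_card.mp
    ((R.isPGroup'.to_inf_left (K := H ⊓ K)))
  have hp : p.Prime := Fact.out
  have hcle : c ≤ v (H ⊓ K) := by
    refine (hp.pow_dvd_iff_le_factorization Nat.card_pos.ne').mp ?_
    rw [← hc]; exact Subgroup.card_dvd_of_le inf_le_right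
  have hsum : v H + v K = (Nat.card G).factorization p + v (H ⊓ K) := by
    have := congrArg (fun n => n.factorization p) (Lib.Products.card_mul_card hHK)
    simp only [Nat.factorization_mul Nat.card_pos.ne' Nat.card_pos.ne', Finsupp.add_apply] at this
    exact this
  have e1 := Subgroup.relIndex_mul_relIndex ⊥ ((R : Subgroup G) ⊓ (H ⊓ K)) ((R : Subgroup G) ⊓ H)
    bot_le (inf_le_inf_left _ inf_le_left)
  have e2 := Subgroup.relIndex_mul_relIndex ⊥ ((R : Subgroup G) ⊓ K) (R : Subgroup G)
    bot_le inf_le_left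
  rw [Subgroup.relIndex_bot_left, Subgroup.relIndex_bot_left, hc, hsyl H hP,
    ← inf_assoc, Subgroup.inf_relIndex_left] at e1
  rw [Subgroup.relIndex_bot_left, Subgroup.relIndex_bot_left, hsyl K hQ,
    Subgroup.inf_relIndex_left, R.card_eq_multiplicity] at e2
  have hpc : 0 < p ^ c := pow_pos hp.pos c
  have hpK : 0 < p ^ v K := pow_pos hp.pos _
  refine Nat.le_of_mul_le_mul_left ?_ (Nat.mul_pos hpc hpK)
  calc p ^ c * p ^ v K * K.relIndex (R : Subgroup G)
      = p ^ (c + (Nat.card G).factorization p) := by rw [mul_assoc, e2, ← pow_add]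
    _ ≤ p ^ (v H + v K) := Nat.pow_le_pow_right hp.pos (by omega)
    _ = p ^ c * p ^ v K * K.relIndex ((R : Subgroup G) ⊓ H) := by
        rw [pow_add, ← e1]; ring

end Cfsg.Agent.S0560
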