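import Cfsg.Statements.S2603
import Cfsg.Agent.Lib.AutPSU.Out

set_option autoImplicit false
open Cfsg

namespace Cfsg.Agent.S2603

/-- Structure of the outer automorphism group of PSU_n(q), n ≥ 3, (n, q) ≠ (3, 2), q = p^f, realised over the field with q² elements: it has a normal cyclic subgroup of order gcd(n, q + 1) (diagonal automorphisms) with cyclic quotient of order 2f (generated by the Frobenius field automorphism of the field with q² elements, whose f-th power is the graph automorphism). -/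
theorem result {K : Type*} [Field K] [Fintype K] {p f q n : ℕ} [Fact p.Prime] (hf : 1 ≤ f) (hq : q = p ^ f) (hK : Fintype.card K = q ^ 2) (hn : 3 ≤ n) (h32 : ¬ (n = 3 ∧ q = 2)) : ∃ φ : Cfsg.Out (Cfsg.PSU n K q) →* Multiplicative (ZMod (2 * f)), Function.Surjective φ ∧ IsCyclic φ.ker ∧ Nat.card φ.ker = Nat.gcd n (q + 1) := by
  classical
  obtain ⟨φ, hs, hc, hcard⟩ :=
    Cfsg.Agent.Lib.AutPSU.exists_out_hom (n := n) (F := K) hK hn h32 hq hf
  have hcyc := Cfsg.Agent.Lib.AutPSL.isCyclic_fieldAuts (F := K)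
  have hn2 : Nat.card (K ≃+* K) = 2 * f := by
    rw [Cfsg.Agent.Lib.AutPSU.card_ringAuts (p := p) (f := f * 2) (by rw [hK, hq, pow_mul]), mul_comm]
  let e : (K ≃+* K) ≃* Multiplicative (ZMod (2 * f)) :=
    mulEquivOfCyclicCardEq (by rw [hn2, Nat.card_congr Multiplicative.toAdd, Nat.card_zmod])
  have hker : (e.toMonoidHom.comp φ).ker = φ.ker :=
    MonoidHom.ker_mulEquiv_comp φ e
  refine ⟨e.toMonoidHom.comp φ, e.surjective.comp hs, ?_, ?_⟩
  · rw [hker]; exact hc
  · rw [hker]; exact hcard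

end Cfsg.Agent.S2603
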