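import Cfsg.Statements.S3183
import Mathlib
import Cfsg.Agent.Lib.Inv59.Basic

set_option autoImplicit false
open Cfsg

namespace Cfsg.Agent.S3183

/-- Let G be a finite group in which the intersection of any two distinct Sylow 2-subgroups is contained in the centre of some Sylow 2-subgroup, and let S be a Sylow 2-subgroup. Then for every x in S the centralizer of x in S is a Sylow 2-subgroup of the centralizer of x in G (no 2-subgroup centralizing x is larger), and for every other Sylow 2-subgroup T the intersection S ∩ T lies in both the centre of S and the centre of T. -/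
theorem result {G : Type*} [Group G] [Finite G]
    (hCI : ∀ S T : Sylow 2 G, S ≠ T → ∃ U : Sylow 2 G,
      (S : Subgroup G) ⊓ (T : Subgroup G) ≤ (Subgroup.center ↥(U : Subgroup G)).map (U : Subgroup G).subtype)
    (S : Sylow 2 G) :
    (∀ x ∈ (S : Subgroup G), ∀ P : Subgroup G, IsPGroup 2 ↥P → P ≤ Subgroup.centralizer ({x} : Set G) →
        Nat.card ↥P ≤ Nat.card ↥((S : Subgroup G) ⊓ Subgroup.centralizer ({x} : Set G))) ∧
    (∀ T : Sylow 2 G, T ≠ S →
        (S : Subgroup G) ⊓ (T : Subgroup G) ≤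
          (Subgroup.center ↥(S : Subgroup G)).map (S : Subgroup G).subtype ⊓
            (Subgroup.center ↥(T : Subgroup G)).map (T : Subgroup G).subtype) := by
  haveI : Fact (Nat.Prime 2) := ⟨Nat.prime_two⟩
  let Z : Sylow 2 G → Subgroup G := fun U =>
    (Subgroup.center ↥(U : Subgroup G)).map (U : Subgroup G).subtype
  have hmemZ : ∀ (U : Sylow 2 G) (z : G), z ∈ (U : Subgroup G) →
      (∀ u ∈ (U : Subgroup G), u * z = z * u) → z ∈ Z U := fun U z hz h =>
    ⟨⟨z, hz⟩, Subgroup.mem_center_iff.2 (fun u => Subtype.ext (h u u.2)), rfl⟩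
  have hZcomm : ∀ (U : Sylow 2 G) (z : G), z ∈ Z U → ∀ u ∈ (U : Subgroup G), u * z = z * u := by
    rintro U _ ⟨z, hz, rfl⟩ u hu
    exact congrArg Subtype.val (Subgroup.mem_center_iff.1 hz ⟨u, hu⟩)
  have hZle : ∀ U : Sylow 2 G, Z U ≤ (U : Subgroup G) := fun U => Subgroup.map_subtype_le _
  have hZcard : ∀ U V : Sylow 2 G, Nat.card ↥(Z U) = Nat.card ↥(Z V) := by
    intro U V
    simp only [Z, Subgroup.card_map_of_injective (Subgroup.subtype_injective _)]
    exact Nat.card_congr (Subgroup.centerCongr (U.equiv V)).toEquiv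
  have part1 : ∀ (S : Sylow 2 G), ∀ x ∈ (S : Subgroup G), ∀ P : Subgroup G, IsPGroup 2 ↥P →
      P ≤ Subgroup.centralizer ({x} : Set G) →
      Nat.card ↥P ≤ Nat.card ↥((S : Subgroup G) ⊓ Subgroup.centralizer ({x} : Set G)) := by
    intro S x hx P hP hPC
    set C := Subgroup.centralizer ({x} : Set G) with hC
    set Q := (S : Subgroup G) ⊓ C with hQ
    have hQp : IsPGroup 2 ↥Q := S.isPGroup'.to_le inf_le_left
    obtain ⟨R, hR⟩ := (hQp.comap_subtype (K := C)).exists_le_sylow
    obtain ⟨T, hT⟩ := (R.isPGroup'.map C.subtype).exists_le_sylow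
    have hQT : Q ≤ (T : Subgroup G) := fun q hq => hT ⟨⟨q, hq.2⟩, hR hq, rfl⟩
    have hST : T = S := by
      by_contra hne
      obtain ⟨U, hU⟩ := hCI S T (fun h => hne h.symm)
      have hZQ : Z S ≤ Q := fun z hz => ⟨hZle S hz,
        Subgroup.mem_centralizer_singleton_iff.2 (hZcomm S z hz x hx).symm⟩
      have hZSU : Z S = Z U := Subgroup.eq_of_le_of_card_ge
        (fun z hz => hU ⟨(hZQ hz).1, hQT (hZQ hz)⟩) (hZcard U S).le
      have hxQ : x ∈ Q := ⟨hx, Subgroup.mem_centralizer_singleton_iff.2 rfl⟩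
      have hxZ : x ∈ Z S := hZSU.ge (hU ⟨hx, hQT hxQ⟩)
      have hSQ : (S : Subgroup G) ≤ (T : Subgroup G) := fun s hs =>
        hQT ⟨hs, Subgroup.mem_centralizer_singleton_iff.2 (hZcomm S x hxZ s hs)⟩
      exact hne (Sylow.ext (S.3 T.isPGroup' hSQ))
    subst hST
    obtain ⟨R₁, hR₁⟩ := (hP.comap_subtype (K := C)).exists_le_sylow
    have hRQ : (R : Subgroup ↥C).map C.subtype ≤ Q := by
      rintro _ ⟨r, hr, rfl⟩
      exact ⟨hT ⟨r, hr, rfl⟩, r.2⟩
    calc Nat.card ↥P = Nat.card ↥(P.subgroupOf C) :=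
          (Nat.card_congr (Subgroup.subgroupOfEquivOfLe hPC).toEquiv).symm
      _ ≤ Nat.card ↥(R₁ : Subgroup ↥C) := Subgroup.card_le_of_le hR₁
      _ = Nat.card ↥(R : Subgroup ↥C) := Nat.card_congr (R₁.equiv R).toEquiv
      _ = Nat.card ↥((R : Subgroup ↥C).map C.subtype) :=
          (Subgroup.card_map_of_injective C.subtype_injective).symm
      _ ≤ _ := Subgroup.card_le_of_le hRQ
  refine ⟨part1 S, ?_⟩
  intro T hT x hx
  have key : ∀ S T : Sylow 2 G, S ≠ T → x ∈ (S : Subgroup G) ⊓ (T : Subgroup G) → x ∈ Z S := by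
    intro S T hne hx
    obtain ⟨U, hU⟩ := hCI S T hne
    have hUC : (U : Subgroup G) ≤ Subgroup.centralizer ({x} : Set G) := fun u hu =>
      Subgroup.mem_centralizer_singleton_iff.2 (hZcomm U x (hU hx) u hu)
    have h1 := part1 S x hx.1 _ U.isPGroup' hUC
    have h2 : (S : Subgroup G) ⊓ Subgroup.centralizer ({x} : Set G) = (S : Subgroup G) :=
      Subgroup.eq_of_le_of_card_ge inf_le_left
        (le_trans (Nat.card_congr (S.equiv U).toEquiv).le h1)
    exact hmemZ S x hx.1 (fun u hu => Subgroup.mem_centralizer_singleton_iff.1 (h2.ge hu).2)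
  exact ⟨key S T (Ne.symm hT) hx, key T S hT ⟨hx.2, hx.1⟩⟩

end Cfsg.Agent.S3183
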