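import Cfsg.Statements.S0330
import Cfsg.Agent.Lib.LieTwisted.SuzukiSylow

set_option autoImplicit false
open Cfsg

namespace Cfsg.Agent.S0330

open Cfsg.Agent Cfsg.Agent.Lib.LieTwisted.Suzuki
open scoped Matrix

/-- A Sylow 2-subgroup `P` of the Suzuki group (field with `q = 2^(2m+1)` elements, `m ≥ 1`) has order `q²` and
exponent `4`; its centre coincides with its commutator subgroup and has order `q`. -/
theorem result {F : Type*} [Field F] [Fintype F] {m : ℕ} (hm : 1 ≤ m)
    (hF : Fintype.card F = 2 ^ (2 * m + 1)) (P : Sylow 2 (Cfsg.Sz F m)) :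
    Nat.card P = (2 ^ (2 * m + 1)) ^ 2 ∧ Monoid.exponent P = 4 ∧
      Subgroup.center P = commutator P ∧ Nat.card (Subgroup.center P) = 2 ^ (2 * m + 1) := by
  have h : Lib.LieTwisted.Suzuki.IsSzField F m := ⟨hF⟩
  obtain ⟨e⟩ := h.sylow_equiv hm P
  have hc : Subgroup.center P = commutator P := by
    have h2 := h.commutator_unip hm
    apply Subgroup.map_injective (f := e.toMonoidHom) e.injective
    rw [map_commutator_eq, MonoidHom.range_eq_top.2 e.surjective, ← commutator_def, h2]
    exact le_antisymm (by rintro _ ⟨x, hx, rfl⟩; rw [Subgroup.mem_center_iff]; intro y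
                          obtain ⟨y, rfl⟩ := e.surjective y
                          show e y * e x = e x * e y
                          rw [← map_mul, ← map_mul, Subgroup.mem_center_iff.1 hx y])
      (by intro x hx; obtain ⟨x, rfl⟩ := e.surjective x
          refine ⟨x, Subgroup.mem_center_iff.2 fun y => e.injective ?_, rfl⟩
          rw [map_mul, map_mul, Subgroup.mem_center_iff.1 hx (e y)])
  refine ⟨?_, ?_, hc, ?_⟩
  · rw [Nat.card_congr e.toEquiv, h.card_unip, hF]
  · rw [Monoid.exponent_eq_of_mulEquiv e, h.exponent_unip]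
  · rw [Nat.card_congr (Subgroup.centerCongr e).toEquiv, h.card_center_unip hm, hF]

end Cfsg.Agent.S0330
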