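import Cfsg.Statements.S2112
import Cfsg.Agent.Lib.Sz8Cover.Transfer

set_option autoImplicit false
set_option linter.style.haveILetI false
open Cfsg

namespace Cfsg.Agent.S2112

open Cfsg.Agent.Lib
open Cfsg.Agent.Lib.LieTwisted.Suzuki

universe u

/-- The cover serves every group isomorphic to the coded `Sz(8)`. -/
theorem ofEquiv {G : Type u} [Group G] (e : Sz8.N ≃* G) :
    Cfsg.HasSchurMultiplier G (Multiplicative (ZMod 2 × ZMod 2)) := by
  obtain ⟨k⟩ := Sz8Cover.ker_equiv
  refine ⟨?_, fun Γ _ _ τ hτ => ?_⟩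
  · let j : ULift.{u} Sz8Cover.P ≃* Sz8Cover.P := MulEquiv.ulift
    let s : ULift.{u} Sz8Cover.P →* G :=
      e.toMonoidHom.comp (Sz8Cover.σ.comp j.toMonoidHom)
    have hmem : ∀ x, x ∈ s.ker ↔ j x ∈ Sz8Cover.σ.ker := fun x => by
      rw [MonoidHom.mem_ker, MonoidHom.mem_ker]
      exact e.map_eq_one_iff
    haveI : Finite (ULift.{u} Sz8Cover.P) := Finite.of_equiv _ j.symm.toEquiv
    refine ⟨ULift.{u} Sz8Cover.P, inferInstance, inferInstance, s, ⟨?_, ?_, ?_⟩, ⟨?_⟩⟩
    · exact e.surjective.comp (Sz8Cover.σ_surjective.comp j.surjective)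
    · intro x hx
      rw [Subgroup.mem_center_iff]
      exact fun y => j.injective (by
        rw [map_mul, map_mul]
        exact Subgroup.mem_center_iff.1 (Sz8Cover.ker_central ((hmem x).1 hx)) (j y))
    · intro x hx
      have h := Sz8Cover.ker_le_commutator ((hmem x).1 hx)
      have hmap : Subgroup.map j.symm.toMonoidHom (commutator Sz8Cover.P) ≤
          commutator (ULift.{u} Sz8Cover.P) := by
        rw [_root_.commutator_def, _root_.commutator_def, Subgroup.map_commutator]
        exact Subgroup.commutator_mono le_top le_top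
      exact hmap ⟨j x, h, j.symm_apply_apply x⟩
    · refine MulEquiv.trans ?_ k
      exact
        { toFun := fun x => ⟨j x.1, (hmem x.1).1 x.2⟩
          invFun := fun y => ⟨j.symm y.1, (hmem _).2 (by rw [j.apply_symm_apply]; exact y.2)⟩
          left_inv := fun x => Subtype.ext (j.symm_apply_apply _)
          right_inv := fun y => Subtype.ext (j.apply_symm_apply _)
          map_mul' := fun x y => Subtype.ext (map_mul j _ _) }
  · have hker : (e.symm.toMonoidHom.comp τ).ker = τ.ker := by
      ext x; simp [MonoidHom.mem_ker]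
    have hst : Cfsg.IsStemExtension (e.symm.toMonoidHom.comp τ) :=
      ⟨e.symm.surjective.comp hτ.1, hker ▸ hτ.2.1, hker ▸ hτ.2.2⟩
    obtain ⟨p, hp⟩ := Sz8Cover.map_ker_surjective _ hst
    exact ⟨((MulEquiv.subgroupCongr hker).toMonoidHom.comp p).comp k.symm.toMonoidHom,
      ((MulEquiv.subgroupCongr hker).surjective.comp hp).comp k.symm.surjective⟩

/-- Exceptional Schur multiplier: the Suzuki group Sz(8), built over the field with 8 elements using the map x ↦ x⁴, has Schur multiplier a four-group, the product of two cyclic groups of order 2 (here the Schur multiplier is described through stem extensions, as in the definitions). -/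
theorem result {F : Type*} [Field F] [Fintype F] (hF : Fintype.card F = 8) : Cfsg.HasSchurMultiplier ↥(Cfsg.Lie.Sz F 4) (Multiplicative (ZMod 2 × ZMod 2)) := by
  have h : IsSzField F 1 := ⟨by rw [hF]; norm_num⟩
  let ρ : Sz8.K8 ≃+* F :=
    FiniteField.ringEquivOfCardEq (K := Sz8.K8) (K' := F) (Sz8.card_k8.trans hF.symm)
  exact ofEquiv ((Sz8Cover.szCongr Sz8.hF h le_rfl ρ).trans (szEquiv h le_rfl))

end Cfsg.Agent.S2112
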