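import Cfsg.Statements.S2824
import Cfsg.Agent.Lib.CharP.Parabolic

set_option autoImplicit false
set_option linter.style.haveILetI false
open Cfsg
open scoped commutatorElement

namespace Cfsg.Agent.S2824

/-- Let H be a finite group, p a prime, T a Sylow p-subgroup, L and M subgroups of characteristic p containing T, Y_L the largest p-reduced normal subgroup of L and T₀ = C_T(Y_L). If M·C_H(Y_L) = L·C_H(Y_L), then L* := N_M(T₀) has Y_{L*} = Y_L and L·C_H(Y_L) = L*·C_H(Y_L). -/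
theorem result {H : Type*} [Group H] [Finite H] {p : ℕ} [Fact p.Prime] (T : Sylow p H) (L M : Subgroup H) (hTL : (T : Subgroup H) ≤ L) (hTM : (T : Subgroup H) ≤ M) (hL : Subgroup.centralizer (Cfsg.pCore p ↥L : Set ↥L) ≤ Cfsg.pCore p ↥L) (hM : Subgroup.centralizer (Cfsg.pCore p ↥M : Set ↥M) ≤ Cfsg.pCore p ↥M) (T₀ : Subgroup H) (hT₀ : T₀ = (T : Subgroup H) ⊓ Subgroup.centralizer (((Cfsg.largestPReducedOf p L) : Subgroup H) : Set H)) (hfac : M ⊔ Subgroup.centralizer (((Cfsg.largestPReducedOf p L) : Subgroup H) : Set H) = L ⊔ Subgroup.centralizer (((Cfsg.largestPReducedOf p L) : Subgroup H) : Set H)) (Ls : Subgroup H) (hLs : Ls = M ⊓ Subgroup.normalizer ((T₀ : Subgroup H) : Set H)) : (Cfsg.largestPReducedOf p Ls) = (Cfsg.largestPReducedOf p L) ∧ L ⊔ Subgroup.centralizer (((Cfsg.largestPReducedOf p L) : Subgroup H) : Set H) = Ls ⊔ Subgroup.centralizer (((Cfsg.largestPReducedOf p L) : Subgroup H) : Set H) := by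
  subst hT₀ hLs
  set Y := largestPReducedOf p L with hY
  set C := Subgroup.centralizer (Y : Set H) with hC
  set T₀ := (T : Subgroup H) ⊓ C with hT₀
  set Ls := M ⊓ Subgroup.normalizer (T₀ : Set H) with hLs
  have hspec := Lib.CharP.largestPReducedOf_isPRed (p := p) L
  have hCN : C ≤ Subgroup.normalizer (C : Set H) := Subgroup.le_normalizer
  have hMN : M ≤ Subgroup.normalizer (C : Set H) :=
    (le_sup_left.trans hfac.le).trans (sup_le (Lib.CharP.le_normalizer_centralizer hspec.le_normalizer) hCN)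
  have hTC : (T : Subgroup H) ≤ Subgroup.normalizer (C : Set H) := hTM.trans hMN
  -- Frattini argument in `M`
  have hfr : M ⊔ C = Ls ⊔ C := by
    refine le_antisymm (sup_le (fun m hm => ?_) le_sup_right) (sup_le_sup_right inf_le_left _)
    have hCM : M ≤ Subgroup.normalizer ((C ⊓ M : Subgroup H) : Set H) :=
      (le_inf hMN Subgroup.le_normalizer).trans Subgroup.inf_normalizer_le_normalizer_inf
    obtain ⟨c, hc, hcm⟩ := Lib.CharP.exists_mul_mem_normalizer T (hTM.trans hCM) (hCM hm)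
    have e : (T : Subgroup H) ⊓ (C ⊓ M) = T₀ :=
      le_antisymm (inf_le_inf_left _ inf_le_left) (le_inf inf_le_left (le_inf inf_le_right (inf_le_left.trans hTM)))
    rw [e] at hcm
    have : c⁻¹ * (c * m) ∈ Ls ⊔ C := Subgroup.mul_mem _ (Subgroup.mem_sup_right (inv_mem hc.1))
      (Subgroup.mem_sup_left ⟨M.mul_mem hc.2 hm, hcm⟩)
    simpa using this
  have hLC : L ⊔ C = Ls ⊔ C := hfac.symm.trans hfr
  have hYT₀ : Y ≤ T₀ := le_inf (hspec.le_pCoreOf.trans (Lib.CharP.pCoreOf_le_sylow hTL))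
    (Lib.CharP.elemAb_le_centralizer hspec.elemAb)
  have hT₀Ls : T₀ ≤ Ls := le_inf (inf_le_left.trans hTM) Subgroup.le_normalizer
  have hTLs : (T : Subgroup H) ≤ Ls := le_inf hTM
    ((le_inf Subgroup.le_normalizer hTC).trans Subgroup.inf_normalizer_le_normalizer_inf)
  refine ⟨le_antisymm ?_ ?_, hLC⟩
  swap
  · exact (hspec.transfer hLC.symm (hYT₀.trans hT₀Ls)).le_largest
  -- `Y_{L*} ≤ Y_L`
  set W := largestPReducedOf p Ls with hW
  have hWspec := Lib.CharP.largestPReducedOf_isPRed (p := p) Ls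
  have hYW : Y ≤ W := (hspec.transfer hLC.symm (hYT₀.trans hT₀Ls)).le_largest
  have hT₀O : T₀ ≤ pCoreOf p Ls :=
    Lib.CharP.le_pCoreOf (T.isPGroup'.to_le inf_le_left) hT₀Ls inf_le_right
  have hWc : T₀ ≤ Subgroup.centralizer (W : Set H) := hT₀O.trans hWspec.pCoreOf_le_centralizer
  have hWL : W ≤ L := (hWspec.le_pCoreOf.trans (Lib.CharP.pCoreOf_le_sylow hTLs)).trans hTL
  have hOT₀ : pCoreOf p L ≤ T₀ :=
    le_inf (Lib.CharP.pCoreOf_le_sylow hTL) hspec.pCoreOf_le_centralizer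
  have hWO : W ≤ omegaOne p (pCoreOf p L ⊓ Subgroup.centralizer (pCoreOf p L : Set H)) := by
    have hc : W ≤ Subgroup.centralizer (pCoreOf p L : Set H) :=
      Subgroup.le_centralizer_iff.1 (hOT₀.trans hWc)
    exact Lib.CharP.elemAb_le_omegaOne hWspec.elemAb
      (le_inf ((le_inf hWL hc).trans (Lib.CharP.charP_iff.1 hL)) hc)
  -- the normal closure of `W` in `L`
  set Z := omegaOne p (pCoreOf p L ⊓ Subgroup.centralizer (pCoreOf p L : Set H)) with hZ
  set V : Subgroup H := ⨆ l : L, W.map (MulAut.conj (l : H)).toMonoidHom with hV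
  have hWV : W ≤ V := le_iSup_of_le 1 (le_of_eq (by ext; simp))
  have hZn : L ≤ Subgroup.normalizer (Z : Set H) := fun l hl => by
    rw [Subgroup.mem_normalizer_iff_map_conj_eq, hZ]
    refine (Lib.CharP.map_omegaOne_center p (MulAut.conj l) _).trans ?_
    rw [show (pCoreOf p L).map (MulAut.conj l).toMonoidHom = pCoreOf p L from
      Subgroup.mem_normalizer_iff_map_conj_eq.1 (Lib.CharP.le_normalizer_pCoreOf p L hl)]
  have hVZ : V ≤ Z := iSup_le fun l => (Subgroup.map_mono hWO).trans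
    (Subgroup.mem_normalizer_iff_map_conj_eq.1 (hZn l.2)).le
  have hVn : L ≤ Subgroup.normalizer (V : Set H) := by
    have key : ∀ l ∈ L, V.map (MulAut.conj l).toMonoidHom ≤ V := by
      intro l hl
      rw [hV, Subgroup.map_iSup, iSup_le_iff]
      intro l'
      refine le_iSup_of_le (⟨l, hl⟩ * l') (le_of_eq ?_)
      rw [Subgroup.map_map]
      congr 1
      ext; simp [mul_assoc]
    intro l hl
    rw [Subgroup.mem_normalizer_iff_map_conj_eq]
    refine le_antisymm (key l hl) fun z hz => ⟨l⁻¹ * z * l, ?_, by simp [mul_assoc]⟩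
    simpa using key l⁻¹ (inv_mem hl) ⟨z, hz, rfl⟩
  have hVL : V ≤ L := hVZ.trans
    (((Lib.CharP.omegaOne_le' _).trans inf_le_left).trans (Lib.CharP.pCoreOf_le p L))
  refine hWV.trans (Lib.CharP.IsPRed.le_largest
    ⟨hVL, hVn, Lib.CharP.elemAb_mono (Lib.CharP.elemAb_omegaOne_center _) hVZ, fun K hK hn hcop => ?_⟩)
  have hKY : K ≤ C := hspec.2.2.2 K hK hn fun g hg hgo =>
    Subgroup.centralizer_le (hYW.trans hWV) (hcop g hg hgo)
  have hKW : K ≤ Subgroup.centralizer (W : Set H) :=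
    Lib.CharP.le_of_inf_sylow_of_coprime T (hTL.trans hn) ((inf_le_inf_left _ hKY).trans hWc)
      fun g hg hgo => Subgroup.centralizer_le hWV (hcop g hg hgo)
  refine Subgroup.le_centralizer_iff.1 (iSup_le fun l => Subgroup.le_centralizer_iff.1 ?_)
  intro k hk
  rw [Subgroup.mem_centralizer_iff]
  rintro _ ⟨w, hw, rfl⟩
  have h2 := ((Subgroup.mem_normalizer_iff.1 (hn (inv_mem l.2))) k).1 hk
  rw [inv_inv] at h2
  have := congrArg (fun t => (l : H) * t * (l : H)⁻¹) (Subgroup.mem_centralizer_iff.1 (hKW h2) w hw)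
  simpa [mul_assoc] using this

end Cfsg.Agent.S2824
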