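import Cfsg.Statements.S2157
-- import your own Cfsg.Agent.* helpers here

set_option autoImplicit false
open Cfsg

namespace Cfsg.Agent.S2157

open Cfsg.Lie

/-- Every recorded chain is stepwise a chain of first entries. -/
def chainSteps (D : ChevalleyDatum) (r : ℕ) : ℕ → List (ℕ × ℤ) → Bool
  | _, [] => true
  | s, p :: rest =>
    decide (D.chainRoot r s 1 = some p.1) && decide (p.1 < D.nroots) && chainSteps D r p.1 rest

def chainsOK (D : ChevalleyDatum) : Bool :=
  (List.range D.nroots).all fun r =>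
    (D.chain.getD r #[]).toList.all fun e => chainSteps D r e.1 e.2.toList

theorem chainsOK_all {D : ChevalleyDatum}
    (hD : D ∈ [chevG2, chevB2, chevD4, chevF4, chevE6, chevE7, chevE8]) : chainsOK D = true := by
  simp only [List.mem_cons, List.not_mem_nil, or_false] at hD
  rcases hD with rfl | rfl | rfl | rfl | rfl | rfl | rfl <;> decide +kernel

theorem chainSteps_spec {F : Type*} [Field F] {D : ChevalleyDatum} {χ : ℕ → Fˣ}
    (hχ : D.IsRootCharacter χ) {r : ℕ} (hr : r < D.nroots) :
    ∀ (l : List (ℕ × ℤ)) (s : ℕ), s < D.nroots → chainSteps D r s l = true →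
      ∀ i, ∀ h : i < l.length, χ (l[i]).1 = χ r ^ (i + 1) * χ s
  | [], _, _, _ => fun i h => absurd h (Nat.not_lt_zero i)
  | p :: rest, s, hs, h => by
    simp only [chainSteps, Bool.and_eq_true, decide_eq_true_eq] at h
    obtain ⟨⟨h1, h2⟩, h3⟩ := h
    have hp := hχ.2 r s p.1 hr hs h1
    intro i hi
    cases i with
    | zero => simpa using hp
    | succ i =>
      rw [List.getElem_cons_succ, chainSteps_spec hχ hr rest p.1 h2 h3 i (by simpa using hi), hp,
        ← mul_assoc, ← pow_succ]

theorem chainCoeff_spec {F : Type*} [Field F] {D : ChevalleyDatum} {χ : ℕ → Fˣ}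
    (hD : chainsOK D = true) (hχ : D.IsRootCharacter χ) {r s u : ℕ} (hr : r < D.nroots)
    (hs : s < D.nroots) {km : ℕ × ℤ} (h : km ∈ D.chainCoeff r s u) :
    χ u = χ r ^ km.1 * χ s := by
  simp only [ChevalleyDatum.chainCoeff, List.mem_flatMap, List.mem_filter, List.mem_map,
    decide_eq_true_eq] at h
  obtain ⟨e, ⟨he, hes⟩, ⟨⟨k, M⟩, i⟩, ⟨hmem, hu⟩, rfl⟩ := h
  simp only [chainsOK, List.all_eq_true] at hD
  have hc := hD r (List.mem_range.2 hr) e he
  rw [hes] at hc
  rw [List.mk_mem_zipIdx_iff_getElem?, List.getElem?_eq_some_iff] at hmem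
  obtain ⟨hi, hget⟩ := hmem
  have := chainSteps_spec hχ hr _ s hs hc i hi
  rw [hget] at this
  exact hu ▸ this

theorem conj_xMat {F : Type*} [Field F] {D : ChevalleyDatum} {χ : ℕ → Fˣ}
    (hD : chainsOK D = true) (hχ : D.IsRootCharacter χ) (r : Fin D.nroots) (t : F) :
    D.charDiag F χ * D.xMat F r t * D.charDiag F (fun s => (χ s)⁻¹) =
      D.xMat F r ((χ r.val : F) * t) := by
  ext row col
  rw [ChevalleyDatum.charDiag, ChevalleyDatum.charDiag, Matrix.mul_diagonal, Matrix.diagonal_mul]
  rcases col with i | s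
  · rcases row with i' | u
    · simp [ChevalleyDatum.xMat]
    · simp only [ChevalleyDatum.xMat, Matrix.of_apply, Sum.elim_inl, Sum.elim_inr, mul_one]
      split_ifs with h
      · subst h; ring
      · ring
  · have hinv : ((χ s.val)⁻¹ : Fˣ) * (χ s.val : F) = 1 := Units.inv_mul _
    simp only [ChevalleyDatum.xMat, Matrix.of_apply]
    by_cases hsr : s = r
    · rw [if_pos hsr, if_pos hsr]
      rcases row with i' | u
      · simp
      · simp only [Sum.elim_inr]
        by_cases hu : u = r
        · rw [if_pos hu, hsr, hu]; simp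
        · rw [if_neg hu]; simp
    rw [if_neg hsr, if_neg hsr]
    by_cases hneg : s.val = D.negIdx.getD r.val 0
    · rw [if_pos hneg, if_pos hneg]
      have hx : ((χ s.val)⁻¹ : Fˣ) = χ r.val := by
        rw [show s.val = D.neg r.val from hneg, hχ.1 r.val r.isLt, inv_inv]
      rcases row with i' | u
      · simp only [Sum.elim_inl, Sum.elim_inr, hx]; ring
      · simp only [Sum.elim_inr]
        by_cases hus : u = s
        · rw [if_pos hus, if_pos hus, hus]; simp
        · rw [if_neg hus, if_neg hus]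
          by_cases hu : u = r
          · rw [if_pos hu, if_pos hu, hx, hu]; ring
          · rw [if_neg hu, if_neg hu]; ring
    · rw [if_neg hneg, if_neg hneg]
      rcases row with i' | u
      · simp
      · simp only [Sum.elim_inr]
        rw [mul_add, add_mul]
        congr 1
        · by_cases hus : u = s
          · rw [if_pos hus, hus]; simp
          · rw [if_neg hus]; simp
        · rw [← List.sum_map_mul_left, ← List.sum_map_mul_right]
          refine congrArg List.sum (List.map_congr_left fun km hkm => ?_)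
          rw [chainCoeff_spec hD hχ r.isLt s.isLt hkm, Units.val_mul, Units.val_pow_eq_pow_val,
            mul_pow]
          linear_combination (χ r.val : F) ^ km.1 * (km.2 : F) * t ^ km.1 * hinv


/-- In a Chevalley group of type G₂, B₂, D₄, F₄, E₆, E₇ or E₈, for every character `χ` of the root lattice with values in `Fˣ` the diagonal matrix `ĥ(χ)` (identity on the coroot coordinates, `χ(s)` on the coordinate of `e_s`) conjugates each root element `x_r(t)` to `x_r(χ(r) t)`: `ĥ(χ) x_r(t) ĥ(χ)⁻¹ = x_r(χ(r) t)` as matrices, with `ĥ(χ)⁻¹` written as `ĥ(χ⁻¹)`. -/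
theorem result {F : Type*} [Field F] (D : Cfsg.Lie.ChevalleyDatum) (hD : D ∈ [Cfsg.Lie.chevG2, Cfsg.Lie.chevB2, Cfsg.Lie.chevD4, Cfsg.Lie.chevF4, Cfsg.Lie.chevE6, Cfsg.Lie.chevE7, Cfsg.Lie.chevE8]) (χ : ℕ → Fˣ) (hχ : D.IsRootCharacter χ) (r : ℕ) (hr : r < D.nroots) (t : F) :
    D.charDiag F χ * D.x F r t * D.charDiag F (fun s => (χ s)⁻¹) = D.x F r ((χ r : F) * t) := by
  simp only [Cfsg.Lie.ChevalleyDatum.x, dif_pos hr]
  exact conj_xMat (chainsOK_all hD) hχ ⟨r, hr⟩ t

end Cfsg.Agent.S2157
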