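import Cfsg.Statements.S0928
import Cfsg.Agent.Lib.Blocks.DefectGroup
import Cfsg.Agent.Lib.BrauerPairs.Bridge
import Cfsg.Agent.Lib.BrauerMap.Nilpotent
import Cfsg.Agent.Lib.BlocksChars5.Basic

set_option autoImplicit false
open Cfsg

namespace Cfsg.Agent.S0928

open MonoidAlgebra Cfsg.Agent.Lib.BrauerMap.Basic

/-- An element fixed by translation by a nontrivial `p`-subgroup squares to zero. -/
theorem mul_self_eq_zero_of_translate {k : Type*} [CommRing k] {p : ℕ} [Fact p.Prime] [CharP k p]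
    {C : Type*} [Group C] [Finite C] {Z : Subgroup C} (hZ : IsPGroup p Z) (hne : Z ≠ ⊥)
    {a : MonoidAlgebra k C} (hl : ∀ u ∈ Z, ∀ g, a.coeff (u * g) = a.coeff g)
    (hr : ∀ u ∈ Z, ∀ g, a.coeff (g * u) = a.coeff g) : a * a = 0 := by
  classical
  haveI := Fintype.ofFinite C
  letI : MulAction Z C :=
    { smul := fun u g => g * (u : C)⁻¹
      one_smul := fun g => by show g * ((1 : Z) : C)⁻¹ = g; simp
      mul_smul := fun u v g => by
        show g * ((u * v : Z) : C)⁻¹ = g * (v : C)⁻¹ * (u : C)⁻¹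
        simp [mul_assoc] }
  have hsm : ∀ (u : Z) (g : C), u • g = g * (u : C)⁻¹ := fun _ _ => rfl
  ext w
  rw [coeff_mul_sum]
  simp only [coeff_zero, Finsupp.coe_zero, Pi.zero_apply]
  refine Cfsg.Agent.Lib.BrauerMap.Nilpotent.sum_eq_zero_of_no_fixed hZ
    (fun v => by rw [nsmul_eq_mul, CharP.cast_eq_zero k p, zero_mul]) _ (fun u g => ?_)
    (fun g hg => ?_)
  · rw [hsm, mul_inv_rev, inv_inv, mul_assoc, hl u u.2, hr _ (Z.inv_mem u.2)]
  · obtain ⟨u, hu, hu1⟩ := (Subgroup.bot_or_exists_ne_one Z).resolve_left hne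
    have h1 := hg ⟨u, hu⟩
    rw [hsm, mul_eq_left, inv_eq_one] at h1
    exact hu1 h1

/-- Let χ be an irreducible character of the finite group G and p a prime. If χ g = 0 for every element g of order p, then the exponent of p in the degree χ(1) equals the exponent of p in the order of G (χ has p-defect zero). -/
theorem result {G : Type*} [Group G] [Finite G] (p : ℕ) [Fact p.Prime] (χ : Cfsg.IrrCharacter G) (hvan : ∀ g : G, orderOf g = p → (χ : G → ℂ) g = 0) : (Cfsg.charDegree (χ : G → ℂ)).factorization p = (Nat.card G).factorization p := by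
  classical
  obtain ⟨M, hM⟩ := Cfsg.Agent.Lib.Blocks.exists_isPModular p (Fact.out : p.Prime)
  haveI := hM.2.1
  haveI := Fintype.ofFinite G
  letI := Ideal.Quotient.field M
  haveI := Cfsg.Agent.Lib.BrauerPairs.Bridge.charP_res hM
  have hp : p.Prime := Fact.out
  have hB := Cfsg.Agent.Lib.Blocks.isPBlock_blockOf (M := M) χ
  obtain ⟨D, hD⟩ := Cfsg.Agent.Lib.Blocks.exists_isDefectGroup (p := p) hB
  by_cases hDbot : D = ⊥
  · subst hDbot
    have h1 := Cfsg.Agent.Lib.Blocks.pow_dvd_charDegree hM hB hD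
      (Cfsg.Agent.Lib.Blocks.mem_blockOf_self χ)
    rw [Subgroup.index_bot,
      hp.pow_dvd_iff_le_factorization (Cfsg.Agent.Lib.Blocks.charDegree_pos χ).ne'] at h1
    exact le_antisymm ((Nat.factorization_le_iff_dvd
      (Cfsg.Agent.Lib.Blocks.charDegree_pos χ).ne' Nat.card_pos.ne').mpr
      (Cfsg.Agent.Lib.BlocksChars5.Basic.degree_dvd_card χ) p) h1
  exfalso
  rw [Cfsg.Agent.Lib.BrauerPairs.Bridge.isDefectGroup_iff hB] at hD
  have hDp := hD.isPGroup
  obtain ⟨ω, hω⟩ := Cfsg.Agent.Lib.BrauerPairs.Maximal.exists_pairOf_isDef hD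
  haveI : Nontrivial D := D.nontrivial_iff_ne_bot.mpr hDbot
  haveI := hDp.center_nontrivial
  have hdvd : p ∣ Nat.card (Subgroup.center D) :=
    ((IsPGroup.nontrivial_iff_card (hDp.to_subgroup _)).mp inferInstance).elim fun n hn => by
      rw [hn.2]; exact dvd_pow_self p hn.1.ne'
  obtain ⟨z₀, hz₀⟩ := exists_prime_orderOf_dvd_card' p hdvd
  set z : G := ((z₀ : D) : G) with hz
  have hzo : orderOf z = p := by rw [hz, Subgroup.orderOf_coe, Subgroup.orderOf_coe, hz₀]
  have hzD : z ∈ D := (z₀ : D).2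
  have hzC : z ∈ Subgroup.centralizer (D : Set G) := by
    refine Subgroup.mem_centralizer_iff.mpr fun d hd => ?_
    exact congrArg Subtype.val (Subgroup.mem_center_iff.mp z₀.2 ⟨d, hd⟩)
  have hzc : ∀ c : Subgroup.centralizer (D : Set G), Commute z (c : G) := fun c =>
    Subgroup.mem_centralizer_iff.mp c.2 z hzD
  have hinv : ∀ (u g : G), (u * g * u⁻¹) ^ p = 1 ↔ g ^ p = 1 := fun u g => by
    rw [conj_pow, mul_inv_eq_one, mul_eq_left]
  let Ω : Subalgebra.center (Cfsg.Agent.Lib.Blocks.localRing M)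
      (MonoidAlgebra (Cfsg.Agent.Lib.Blocks.localRing M) G) :=
    Cfsg.Agent.Lib.Blocks.ofClassFun (fun g => if g ^ p = 1 then 1 else 0)
      (fun u g => if_congr (hinv u g) rfl rfl)
  have h1 : Cfsg.Agent.Lib.Blocks.omegaR M χ Ω = 1 := by
    refine Subtype.ext ?_
    rw [Cfsg.Agent.Lib.Blocks.coe_omegaR, Cfsg.Agent.Lib.Blocks.omega_apply,
      Cfsg.Agent.Lib.Blocks.lin_apply, Finset.sum_eq_single (1 : G)]
    · rw [Cfsg.Agent.Lib.Blocks.coeff_mapCenter, Cfsg.Agent.Lib.Blocks.coeff_ofClassFun]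
      simp [Cfsg.Agent.Lib.Blocks.char_one_ne_zero χ]
    · intro g _ hg
      rw [Cfsg.Agent.Lib.Blocks.coeff_mapCenter, Cfsg.Agent.Lib.Blocks.coeff_ofClassFun]
      split_ifs with hgp
      · rw [hvan g (orderOf_eq_prime hgp hg), mul_zero]
      · simp
    · exact fun h => absurd (Finset.mem_univ _) h
  set w := Cfsg.Agent.Lib.Blocks.mapCenter (Cfsg.Agent.Lib.Blocks.residue M) Ω with hw
  have h2 : Cfsg.Agent.Lib.BrauerPairs.Bridge.blk hB w = 1 := by
    rw [← Cfsg.Agent.Lib.BrauerPairs.Bridge.blkOf_of_mem hB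
      (Cfsg.Agent.Lib.Blocks.mem_blockOf_self χ)]
    show Cfsg.Agent.Lib.Blocks.omegaBar M χ w = 1
    rw [hw, Cfsg.Agent.Lib.Blocks.omegaBar_mapCenter, h1, map_one]
  have h3 := hω.apply_eq w
  rw [h2, Cfsg.Agent.Lib.BrauerPairs.Trunc.val_eq ω (isFixedBy_of_mem_center _ w.2)] at h3
  set a := Cfsg.Agent.Lib.BrauerPairs.Trunc.br D (w : MonoidAlgebra (Cfsg.AlgInt ⧸ M) G) with ha
  have hcoef : ∀ c : Subgroup.centralizer (D : Set G),
      a.coeff c = if (c : G) ^ p = 1 then 1 else 0 := by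
    intro c
    rw [ha, Cfsg.Agent.Lib.BrauerPairs.Trunc.coeff_br, hw,
      Cfsg.Agent.Lib.Blocks.coeff_mapCenter, Cfsg.Agent.Lib.Blocks.coeff_ofClassFun]
    split_ifs <;> simp
  have hzero : a * a = 0 := by
    have hpow : ∀ u ∈ Subgroup.zpowers (⟨z, hzC⟩ : Subgroup.centralizer (D : Set G)),
        ∀ c : Subgroup.centralizer (D : Set G), (u : G) ^ p = 1 ∧ Commute (u : G) (c : G) := by
      rintro _ ⟨n, rfl⟩ c
      refine ⟨?_, ?_⟩
      · show (((⟨z, hzC⟩ : Subgroup.centralizer (D : Set G)) ^ n :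
          Subgroup.centralizer (D : Set G)) : G) ^ p = 1
        rw [Subgroup.coe_zpow, ← zpow_natCast, ← zpow_mul, mul_comm, zpow_mul, zpow_natCast,
          ← hzo, pow_orderOf_eq_one, one_zpow]
      · show Commute (((⟨z, hzC⟩ : Subgroup.centralizer (D : Set G)) ^ n :
          Subgroup.centralizer (D : Set G)) : G) c
        rw [Subgroup.coe_zpow]
        exact (hzc c).zpow_left n
    refine mul_self_eq_zero_of_translate (p := p)
      (Z := Subgroup.zpowers (⟨z, hzC⟩ : Subgroup.centralizer (D : Set G))) ?_ ?_ ?_ ?_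
    · refine IsPGroup.of_card (n := 1) ?_
      rw [Nat.card_zpowers, ← Subgroup.orderOf_coe, pow_one]
      exact hzo
    · rw [Ne, Subgroup.zpowers_eq_bot]
      intro h
      have h' : z = 1 := congrArg Subtype.val h
      rw [h', orderOf_one] at hzo
      exact hp.ne_one hzo.symm
    · intro u hu c
      rw [hcoef, hcoef, Subgroup.coe_mul, (hpow u hu c).2.mul_pow, (hpow u hu c).1, one_mul]
    · intro u hu c
      rw [hcoef, hcoef, Subgroup.coe_mul, (hpow u hu c).2.symm.mul_pow, (hpow u hu c).1, mul_one]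
  have h4 := congrArg (fun t => t * t) h3
  rw [← map_mul, one_mul] at h4
  rw [show (⟨a, _⟩ : Subalgebra.center (Cfsg.AlgInt ⧸ M) _) * ⟨a, _⟩ = 0 from
    Subtype.ext hzero, map_zero] at h4
  exact zero_ne_one h4


end Cfsg.Agent.S0928
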