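import Cfsg.Statements.S0914
import Cfsg.Agent.Lib.Blocks.DefectGroup
import Cfsg.Agent.Lib.BlocksChars5.Basic
import Cfsg.Agent.S0928

set_option autoImplicit false
open Cfsg

namespace Cfsg.Agent.S0914

open scoped ComplexConjugate
open Cfsg.Agent.Lib.Blocks Cfsg.Agent.Lib.Characters.Basic

/-- Let χ be an irreducible character of the finite group G, p a prime and M a maximal ideal of the algebraic integers containing p. Then p does not divide the integer (Nat.card G) / χ(1) if and only if the block of χ relative to M consists of χ alone. -/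
theorem result {G : Type*} [Group G] [Finite G] (p : ℕ) [Fact p.Prime] (M : Ideal Cfsg.AlgInt) (hM : Cfsg.IsPModular p M) (χ : Cfsg.IrrCharacter G) : ¬ p ∣ Nat.card G / Cfsg.charDegree (χ : G → ℂ) ↔ Cfsg.blockOf M (χ : G → ℂ) = {χ} := by
  classical
  haveI := hM.2.1
  haveI := Fintype.ofFinite (Cfsg.IrrCharacter G)
  have hp : p.Prime := Fact.out
  have hd := Cfsg.Agent.Lib.BlocksChars5.Basic.degree_dvd_card χ
  have hcoeff : ∀ g, Cfsg.blockCoeff ({χ} : Set (Cfsg.IrrCharacter G)) g =
      ((Nat.card G / Cfsg.charDegree (χ : G → ℂ) : ℕ) : ℂ)⁻¹ * conj ((χ : G → ℂ) g) := by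
    intro g
    rw [Cfsg.blockCoeff, finsum_mem_singleton, ← mul_assoc,
      Nat.cast_div hd (Nat.cast_ne_zero.mpr (charDegree_pos χ).ne'), inv_div,
      char_one_eq_degree, div_eq_inv_mul]
  constructor
  · intro hn
    refine Set.Subset.antisymm (blockOf_subset_of_memLocalRing (fun g => ?_)
      (Set.mem_singleton χ)) (Set.singleton_subset_iff.mpr (mem_blockOf_self χ))
    rw [hcoeff, ← apply_inv (isCharacter_irr χ)]
    exact mem_localRing_iff.mp
      (mul_mem (natCast_inv_mem_localRing hM hn) (char_mem_localRing χ _))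
  · intro hsing hdvd
    have hvan : ∀ g : G, orderOf g = p → (χ : G → ℂ) g = 0 := by
      intro g hg
      have h := weak_orthogonality hM (hsing ▸ isPBlock_blockOf χ)
        (x := (1 : G)) (by simp [hp.ne_one]) (y := g) (hg ▸ dvd_rfl)
      rw [finsum_mem_singleton, mul_eq_zero] at h
      exact (map_eq_zero (starRingEnd ℂ)).mp (h.resolve_left (char_one_ne_zero χ))
    have he := Cfsg.Agent.S0928.result p χ hvan
    have h1 : (Nat.card G / Cfsg.charDegree (χ : G → ℂ)).factorization p = 0 := by
      rw [Nat.factorization_div hd]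
      simp [he]
    have h2 := (hp.dvd_iff_one_le_factorization (Nat.div_pos (Nat.le_of_dvd Nat.card_pos hd)
      (charDegree_pos χ)).ne').mp hdvd
    omega

end Cfsg.Agent.S0914
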