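import Cfsg.Statements.S3681
import Cfsg.Agent.Lib.Perm.Basic

set_option autoImplicit false
open Cfsg

namespace Cfsg.Agent.S3681

open MulAction Equiv

/-- Two permutations whose supports meet in one point have a 3-cycle as commutator. -/
theorem commutator_threeCycle {α : Type*} [Fintype α] [DecidableEq α] (g h : Perm α) (x : α)
    (hg : g x ≠ x) (hh : h x ≠ x) (hu : ∀ y, y ≠ x → g y = y ∨ h y = y) :
    (g * h * g⁻¹ * h⁻¹).IsThreeCycle := by
  have hgi : ∀ y, g y = y → g⁻¹ y = y := fun y hy => by
    conv_lhs => rw [← hy]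
    simp
  have hhi : ∀ y, h y = y → h⁻¹ y = y := fun y hy => by
    conv_lhs => rw [← hy]
    simp
  have hsg : ∀ y, g y ≠ y → y ≠ x → h y = y := fun y hy hyx => (hu y hyx).resolve_left hy
  have hsh : ∀ y, h y ≠ y → y ≠ x → g y = y := fun y hy hyx => (hu y hyx).resolve_right hy
  have hgx : h (g x) = g x := hsg _ (fun e => hg (g.injective e)) hg
  have hhx : g (h x) = h x := hsh _ (fun e => hh (h.injective e)) hh
  have hne : g x ≠ h x := fun e => by
    rw [e] at hgx
    exact hh (h.injective hgx)
  have he : g * h * g⁻¹ * h⁻¹ = swap x (h x) * swap x (g x) := by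
    ext y
    rw [Perm.mul_apply, Perm.mul_apply, Perm.mul_apply, Perm.mul_apply]
    by_cases hyx : y = x
    · subst hyx
      have h1 : h (h⁻¹ y) = y := by simp
      have h2 : h⁻¹ y ≠ y := fun e => hh (by rw [e] at h1; exact h1)
      have h3 : g (h⁻¹ y) = h⁻¹ y := hsh _ (fun e => h2 (e.symm.trans h1)) h2
      rw [hgi _ h3, h1, swap_apply_left, swap_apply_of_ne_of_ne hg hne]
    by_cases hyh : y = h x
    · subst hyh
      have h1 : g (g⁻¹ x) = x := by simp
      have h2 : g⁻¹ x ≠ x := fun e => hg (by rw [e] at h1; exact h1)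
      rw [show h⁻¹ (h x) = x by simp, hsg _ (fun e => h2 (e.symm.trans h1)) h2, h1,
        swap_apply_of_ne_of_ne hyx hne.symm, swap_apply_right]
    by_cases hyg : y = g x
    · subst hyg
      rw [hhi _ hgx, show g⁻¹ (g x) = x by simp, hhx, swap_apply_right, swap_apply_left]
    rw [swap_apply_of_ne_of_ne hyx hyg, swap_apply_of_ne_of_ne hyx hyh]
    by_cases hy : h y = y
    · rw [hhi y hy]
      by_cases hy' : g y = y
      · rw [hgi y hy', hy, hy']
      · have h1 : g (g⁻¹ y) = y := by simp
        have h2 : g (g⁻¹ y) ≠ g⁻¹ y := fun e => hy' (by rw [h1] at e; rw [← e] at h1; exact h1)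
        have h3 : g⁻¹ y ≠ x := fun e => hyg (by rw [← h1, e])
        rw [hsg _ h2 h3, h1]
    · have hgy : g y = y := hsh y hy hyx
      have h1 : h (h⁻¹ y) = y := by simp
      have h2 : h (h⁻¹ y) ≠ h⁻¹ y := fun e => hy (by rw [h1] at e; rw [← e] at h1; exact h1)
      have h3 : h⁻¹ y ≠ x := fun e => hyh (by rw [← h1, e])
      rw [hgi _ (hsh _ h2 h3), h1, hgy]
  rw [he]
  exact Perm.isThreeCycle_swap_mul_swap_same hh.symm hg.symm hne.symm

/-- permutations fixing everything outside a set -/
def symOn {α : Type*} (s : Finset α) : Subgroup (Perm α) :=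
  fixingSubgroup (Perm α) ((s : Set α)ᶜ)

theorem mem_symOn {α : Type*} {s : Finset α} {p : Perm α} :
    p ∈ symOn s ↔ ∀ y, y ∉ s → p y = y := by
  simp [symOn, mem_fixingSubgroup_iff]

theorem card_symOn {α : Type*} [Fintype α] [DecidableEq α] (s : Finset α) :
    Nat.card (symOn s) = s.card.factorial := by
  have e : symOn s ≃ Perm {y // y ∈ s} := (Equiv.subtypeEquivRight fun p => mem_symOn).trans
    (Equiv.Perm.subtypeEquivSubtypePerm (fun y => y ∈ s)).symm
  rw [Nat.card_congr e, Nat.card_perm, Nat.card_eq_fintype_card, Fintype.card_coe]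


/-- Bochert's bound for primitive groups. Let a finite group G act faithfully and primitively on a finite set Ω with n elements, and suppose the image of G in the symmetric group of Ω does not contain the alternating group of Ω. Then |G| · ⌊(n + 1)/2⌋! ≤ n!, that is, the index of G in the symmetric group is at least ⌊(n + 1)/2⌋!. -/
theorem result {G Ω : Type*} [Group G] [Finite G] [MulAction G Ω] [FaithfulSMul G Ω] [Fintype Ω] [DecidableEq Ω]
    (hprim : MulAction.IsPreprimitive G Ω) (hA : ¬ alternatingGroup Ω ≤ (MulAction.toPermHom G Ω).range) :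
    Nat.card G * Nat.factorial ((Fintype.card Ω + 1) / 2) ≤ Nat.factorial (Fintype.card Ω) := by
  haveI := hprim
  set R := (toPermHom G Ω).range with hR
  have hcR : Nat.card G = Nat.card R :=
    Nat.card_congr (MonoidHom.ofInjective toPerm_injective).toEquiv
  haveI hRp : IsPreprimitive R Ω :=
    IsPreprimitive.of_surjective (M := G) (f := (⟨id, fun g x => rfl⟩ : Ω →ₑ[(toPermHom G Ω).rangeRestrict] Ω))
      Function.surjective_id
  classical
  obtain ⟨Γ, hΓ, hmax⟩ := Finset.exists_max_image
    (Finset.univ.filter fun s : Finset Ω => R ⊓ symOn s = ⊥) Finset.card ⟨∅, by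
      simp only [Finset.mem_filter, Finset.mem_univ, true_and, Subgroup.eq_bot_iff_forall]
      rintro p ⟨_, hp⟩
      ext y
      exact mem_symOn.1 hp y (Finset.notMem_empty y)⟩
  simp only [Finset.mem_filter, Finset.mem_univ, true_and] at hΓ hmax
  have hbig : (Fintype.card Ω + 1) / 2 ≤ Γ.card := by
    by_contra hlt
    push Not at hlt
    have hΔ : R ⊓ symOn Γᶜ ≠ ⊥ := fun h => by
      have := hmax _ h
      rw [Finset.card_compl] at this
      omega
    obtain ⟨h, hh, hh1⟩ : ∃ h ∈ R ⊓ symOn Γᶜ, h ≠ 1 := by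
      rw [Ne, Subgroup.eq_bot_iff_forall] at hΔ
      push Not at hΔ
      exact hΔ
    obtain ⟨x, hx⟩ : ∃ x, h x ≠ x := by
      by_contra hc
      push Not at hc
      exact hh1 (Equiv.ext hc)
    have hxΓ : x ∉ Γ := fun hm => hx (mem_symOn.1 hh.2 x (by simpa using hm))
    obtain ⟨g, hg, hg1⟩ : ∃ g ∈ R ⊓ symOn (insert x Γ), g ≠ 1 := by
      have hne : R ⊓ symOn (insert x Γ) ≠ ⊥ := fun h => by
        have := hmax _ h
        rw [Finset.card_insert_of_notMem hxΓ] at this
        omega
      rw [Ne, Subgroup.eq_bot_iff_forall] at hne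
      push Not at hne
      exact hne
    have hgx : g x ≠ x := fun hfx => hg1 <| by
      have : g ∈ R ⊓ symOn Γ := ⟨hg.1, mem_symOn.2 fun y hy => by
        by_cases hyx : y = x
        · rw [hyx, hfx]
        · exact mem_symOn.1 hg.2 y (by simp [hyx, hy])⟩
      rwa [hΓ, Subgroup.mem_bot] at this
    have h3 := commutator_threeCycle g h x hgx hx fun y hyx => by
      by_cases hy : y ∈ Γ
      · exact Or.inr (mem_symOn.1 hh.2 y (by simpa using hy))
      · exact Or.inl (mem_symOn.1 hg.2 y (by simp [hyx, hy]))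
    exact hA (Equiv.Perm.alternatingGroup_le_of_isPreprimitive_of_isThreeCycle_mem hRp h3
      (mul_mem (mul_mem (mul_mem hg.1 hh.1) (inv_mem hg.1)) (inv_mem hh.1)))
  calc Nat.card G * Nat.factorial ((Fintype.card Ω + 1) / 2)
      ≤ Nat.card G * Γ.card.factorial := Nat.mul_le_mul_left _ (Nat.factorial_le hbig)
    _ = Nat.card (R × symOn Γ) := by rw [Nat.card_prod, card_symOn, hcR]
    _ ≤ Nat.card (Perm Ω) := Nat.card_le_card_of_injective (fun p : R × symOn Γ => (p.1 : Perm Ω) * p.2)
        (Subgroup.mul_injective_of_disjoint (disjoint_iff.2 hΓ))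
    _ = (Fintype.card Ω).factorial := by rw [Nat.card_perm, Nat.card_eq_fintype_card]

end Cfsg.Agent.S3681
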