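import Cfsg.Statements.S4201
import Mathlib.GroupTheory.GroupAction.CardCommute
import Mathlib.GroupTheory.Coset.Card
import Mathlib.Algebra.BigOperators.Ring.Finset
import Mathlib.Algebra.Order.BigOperators.Group.Finset
import Mathlib.Tactic.Ring

set_option autoImplicit false
open Cfsg

namespace Cfsg.Agent.S4201

lemma comm_pairs_le {X : Type*} [Group X] [Finite X] (N : Subgroup X) [N.Normal] :
    Nat.card {p : X × X // Commute p.1 p.2} ≤
      Nat.card {p : (X ⧸ N) × (X ⧸ N) // Commute p.1 p.2} * Nat.card {p : N × N // Commute p.1 p.2} := by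
  classical
  -- Write `(a, b)`; pick a section, count in two steps with the fibres of `C_N(g)`.
  have step : ∀ (M : Type _) (_ : Group M) (_ : Fintype M),
      Nat.card { p : M × M // Commute p.1 p.2 } = ∑ g : M, Nat.card {h : M // Commute h g} := by
    intro M _ _
    rw [← Nat.card_sigma]
    exact Nat.card_congr
      { toFun := fun p => ⟨p.1.2, p.1.1, p.2⟩
        invFun := fun s => ⟨(s.2.1, s.1), s.2.2⟩
        left_inv := fun _ => rfl
        right_inv := fun _ => rfl }
  have := Fintype.ofFinite X
  have := Fintype.ofFinite N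
  have := Fintype.ofFinite (X ⧸ N)
  rw [step X inferInstance inferInstance, step (X ⧸ N) inferInstance inferInstance,
    step N inferInstance inferInstance]
  have h1 : ∀ g : X, Nat.card {h : X // Commute h g} ≤
      Nat.card {q : X ⧸ N // Commute q (g : X ⧸ N)} * Nat.card {n : N // Commute (n : X) g} := by
    intro g
    rw [← Nat.card_prod]
    let T := {q : X ⧸ N // Commute q (g : X ⧸ N)}
    let π : {h : X // Commute h g} → T := fun h => ⟨(h.1 : X ⧸ N), by
      have := congrArg (QuotientGroup.mk' N) h.2.eq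
      simpa [Commute, SemiconjBy] using this⟩
    let rep : T → {h : X // Commute h g} := fun t =>
      if ht : ∃ h, π h = t then ht.choose else ⟨1, Commute.one_left g⟩
    have hrep : ∀ h, ((rep (π h)).1 : X ⧸ N) = (h.1 : X ⧸ N) := by
      intro h
      have ht : ∃ h', π h' = π h := ⟨h, rfl⟩
      simp only [rep, dif_pos ht]
      exact congrArg Subtype.val ht.choose_spec
    refine Nat.card_le_card_of_injective
      (fun h => (π h, ⟨⟨(rep (π h)).1⁻¹ * h.1, QuotientGroup.eq.1 (hrep h)⟩, ?_⟩)) ?_
    · exact (rep (π h)).2.inv_left.mul_left h.2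
    · intro a b hab
      simp only [Prod.mk.injEq] at hab
      obtain ⟨hab1, hab2⟩ := hab
      have := congrArg (fun z => (z.1 : X)) hab2
      simp only [hab1] at this
      exact Subtype.ext (mul_left_cancel this)
  refine (Finset.sum_le_sum fun g _ => h1 g).trans ?_
  -- split the sum along cosets
  rw [← Finset.sum_fiberwise Finset.univ (fun g : X => (g : X ⧸ N)), Finset.sum_mul]
  refine Finset.sum_le_sum fun q _ => ?_
  rw [Finset.sum_congr rfl (fun g hg => by rw [(Finset.mem_filter.1 hg).2])
    (g := fun g => Nat.card {r : X ⧸ N // Commute r q} * Nat.card {n : N // Commute (n : X) g}),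
    ← Finset.mul_sum]
  refine Nat.mul_le_mul_left _ ?_
  rw [Finset.sum_subtype (p := fun g : X => (g : X ⧸ N) = q) _ (fun g => by simp), ← Nat.card_sigma,
    ← Nat.card_sigma]
  -- a fibre over `n` is empty or a coset of `C_N(n)`
  let S := Σ g : {g : X // (g : X ⧸ N) = q}, {n : N // Commute (n : X) g.1}
  let rep : N → X := fun n => if hn : ∃ g : X, (g : X ⧸ N) = q ∧ Commute (n : X) g then hn.choose else 1
  have hrep : ∀ s : S, ((rep s.2.1 : X) : X ⧸ N) = q ∧ Commute (s.2.1 : X) (rep s.2.1) := by
    intro s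
    have hn : ∃ g : X, (g : X ⧸ N) = q ∧ Commute (s.2.1 : X) g := ⟨s.1.1, s.1.2, s.2.2⟩
    simp only [rep, dif_pos hn]
    exact hn.choose_spec
  refine Nat.card_le_card_of_injective (fun s : S => (⟨s.2.1, ⟨(rep s.2.1)⁻¹ * s.1.1,
    QuotientGroup.eq.1 ((hrep s).1.trans s.1.2.symm)⟩, ?_⟩ : Σ n : N, {m : N // Commute m n})) ?_
  · exact Subtype.ext (((hrep s).2.inv_right.mul_right s.2.2).symm).eq
  · intro a b hab
    have e1 : a.2.1 = b.2.1 := congrArg Sigma.fst hab
    have e2 := congrArg (fun z : Σ n : N, {m : N // Commute m n} => (z.2.1 : X)) hab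
    simp only [e1] at e2
    obtain ⟨⟨g, hg⟩, ⟨n, hn⟩⟩ := a
    obtain ⟨⟨g', hg'⟩, ⟨n', hn'⟩⟩ := b
    simp only at e1 e2
    obtain rfl := mul_left_cancel e2
    obtain rfl := e1
    rfl


/-- If N is a normal subgroup of the finite group X then k(X) ≤ k(N)·k(X ⧸ N), where k denotes the number of conjugacy classes. -/
theorem result {X : Type*} [Group X] [Finite X] (N : Subgroup X) [N.Normal] : Nat.card (ConjClasses X) ≤ Nat.card (ConjClasses N) * Nat.card (ConjClasses (X ⧸ N)) := by
  classical
  have := Fintype.ofFinite X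
  have hX := card_comm_eq_card_conjClasses_mul_card X
  have hN := card_comm_eq_card_conjClasses_mul_card N
  have hQ := card_comm_eq_card_conjClasses_mul_card (X ⧸ N)
  have h := comm_pairs_le N
  rw [hX, hN, hQ, N.card_eq_card_quotient_mul_card_subgroup] at h
  refine Nat.le_of_mul_le_mul_right (c := Nat.card (X ⧸ N) * Nat.card N) ?_
    (Nat.mul_pos Nat.card_pos Nat.card_pos)
  calc _ ≤ _ := h
    _ = _ := by ring

end Cfsg.Agent.S4201
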