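import Cfsg.Statements.S2587
import Cfsg.Agent.Lib.Unitary.Basic
import Cfsg.Agent.Lib.InvolutionNorm

set_option autoImplicit false
open Cfsg

namespace Cfsg.Agent.S2587
open Cfsg.Agent.Lib

/-- Conjugacy in the finite general unitary group is controlled by the general linear group: two elements of GU_n(q) (the invertible matrices over the field with q² elements preserving the Hermitian form Σ u_i v_i^q) are conjugate in GU_n(q) if and only if they are conjugate in GL_n(q²). -/
theorem result {K : Type*} [Field K] [Fintype K] {q n : ℕ} (hK : Fintype.card K = q ^ 2) (A B : ↥(Cfsg.GU n K q)) : IsConj A B ↔ IsConj (A : GL (Fin n) K) (B : GL (Fin n) K) := by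
  classical
  constructor
  · intro h
    exact (Cfsg.GU n K q).subtype.map_isConj h
  intro h
  let σ : K →+* K := Unitary.conj hK
  have hσσ : ∀ x, σ (σ x) = x := fun x => Unitary.pow_q_q hK x
  let st : Matrix (Fin n) (Fin n) K → Matrix (Fin n) (Fin n) K := fun M => (M.map σ).transpose
  have hst_mul : ∀ M M', st (M * M') = st M' * st M := fun M M' => by
    simp only [st]
    rw [Matrix.map_mul, Matrix.transpose_mul]
  have hst_st : ∀ M, st (st M) = M := fun M => by
    ext i j
    exact hσσ (M i j)
  have hst_add : ∀ M M', st (M + M') = st M + st M' := fun M M' => by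
    ext i j
    exact map_add σ _ _
  have hst_one : st 1 = 1 := by
    simp only [st]
    rw [Matrix.map_one _ (map_zero σ) (map_one σ), Matrix.transpose_one]
  have hst_zero : st 0 = 0 := by
    ext i j
    exact map_zero σ
  have hst_alg : ∀ c : K, st (algebraMap K _ c) = algebraMap K _ (σ c) := fun c => by
    ext i j
    by_cases hij : i = j
    · subst hij; simp [st, Matrix.algebraMap_eq_diagonal]
    · simp [st, Matrix.algebraMap_eq_diagonal, Matrix.diagonal_apply_ne _ hij,
        Matrix.diagonal_apply_ne _ (Ne.symm hij)]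
  -- the defining equation of the unitary group
  have hmem : ∀ X : GL (Fin n) K, X ∈ Cfsg.GU n K q ↔ st (X : Matrix (Fin n) (Fin n) K) * X = 1 := by
    intro X
    constructor
    · intro hX
      ext i j
      have h1 := hX (Pi.single j 1) (Pi.single i 1)
      simp only [Units.coeHom_apply, Cfsg.hermForm, Matrix.mulVec_single_one, Matrix.col_apply] at h1
      rw [Matrix.mul_apply]
      rw [Matrix.one_apply]
      have hr : ∑ x, (Pi.single j (1 : K) : Fin n → K) x * (Pi.single i (1 : K) : Fin n → K) x ^ q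
          = (Pi.single i (1 : K) : Fin n → K) j ^ q := by
        rw [Finset.sum_eq_single j (fun b _ hb => by rw [Pi.single_eq_of_ne hb, zero_mul]) (by simp),
          Pi.single_eq_same, one_mul]
      rw [hr] at h1
      refine (Finset.sum_congr rfl fun k _ => ?_).trans (h1.trans ?_)
      · exact mul_comm _ _
      · by_cases hij : i = j
        · subst hij; simp
        · rw [if_neg hij, Pi.single_eq_of_ne (Ne.symm hij), zero_pow (Unitary.q_ne_zero hK)]
    · intro hX u v
      simp only [Units.coeHom_apply]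
      have e1 : ∀ a b : Fin n → K, Cfsg.hermForm n K q a b = a ⬝ᵥ (σ ∘ b) := fun a b => rfl
      have e3 : (X : Matrix (Fin n) (Fin n) K).transpose * (X : Matrix (Fin n) (Fin n) K).map σ = 1 := by
        have h2 := congrArg Matrix.transpose hX
        rw [Matrix.transpose_mul, Matrix.transpose_one, Matrix.transpose_transpose] at h2
        exact h2
      rw [e1, e1, show σ ∘ ((X : Matrix (Fin n) (Fin n) K).mulVec v) = ((X : Matrix (Fin n) (Fin n) K).map σ).mulVec (σ ∘ v) from funext fun k => RingHom.map_mulVec σ _ _ k, ← Matrix.vecMul_transpose, ← Matrix.dotProduct_mulVec,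
        Matrix.mulVec_mulVec, e3, Matrix.one_mulVec]
  obtain ⟨g, hg⟩ := isConj_iff.1 h
  have hA := (hmem A).1 A.2
  have hB := (hmem B).1 B.2
  have hgA : (g : Matrix (Fin n) (Fin n) K) * ((A : GL (Fin n) K) : Matrix (Fin n) (Fin n) K)
      = ((B : GL (Fin n) K) : Matrix (Fin n) (Fin n) K) * g :=
    congrArg Units.val (mul_inv_eq_iff_eq_mul.1 hg)
  set H : Matrix (Fin n) (Fin n) K := st g * g with hH
  have hHfix : st H = H := by rw [hH, hst_mul, hst_st]
  have hHu : IsUnit H := by
    refine IsUnit.mul (IsUnit.of_mul_eq_one (st ((g⁻¹ : GL (Fin n) K) : Matrix (Fin n) (Fin n) K)) ?_) g.isUnit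
    rw [← hst_mul, ← Units.val_mul, inv_mul_cancel, Units.val_one, hst_one]
  have hHA : Commute H ((A : GL (Fin n) K) : Matrix (Fin n) (Fin n) K) := by
    set MA := ((A : GL (Fin n) K) : Matrix (Fin n) (Fin n) K)
    set MB := ((B : GL (Fin n) K) : Matrix (Fin n) (Fin n) K)
    have e : st MA * H * MA = H := by
      rw [hH, ← mul_assoc, ← hst_mul, mul_assoc (st ((g : Matrix (Fin n) (Fin n) K) * MA)), hgA, hst_mul,
        mul_assoc, ← mul_assoc (st MB), hB, one_mul]
    have hA' : MA * st MA = 1 := mul_eq_one_comm.1 hA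
    show H * MA = MA * H
    calc H * MA = MA * st MA * (H * MA) := by rw [hA', one_mul]
      _ = MA * (st MA * H * MA) := by simp only [mul_assoc]
      _ = MA * H := by rw [e]
  -- the commutative algebra generated by `H`
  let L := Algebra.adjoin K ({H} : Set (Matrix (Fin n) (Fin n) K))
  letI : CommRing L := Algebra.adjoinCommRingOfComm K fun a ha b hb => by
    rw [Set.mem_singleton_iff.1 ha, Set.mem_singleton_iff.1 hb]
  have hstL : ∀ x : Matrix (Fin n) (Fin n) K, x ∈ L → st x ∈ L := by
    intro x hx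
    induction hx using Algebra.adjoin_induction with
    | mem y hy => rw [Set.mem_singleton_iff.1 hy, hHfix]; exact Algebra.subset_adjoin rfl
    | algebraMap c => rw [hst_alg]; exact L.algebraMap_mem _
    | add a b _ _ ha hb => rw [hst_add]; exact L.add_mem ha hb
    | mul a b _ _ ha hb => rw [hst_mul]; exact L.mul_mem hb ha
  let τ : L →+* L :=
    { toFun := fun x => ⟨st x.1, hstL x.1 x.2⟩
      map_one' := Subtype.ext hst_one
      map_mul' := fun x y => Subtype.ext (by
        show st (x.1 * y.1) = st x.1 * st y.1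
        have h1 := congrArg Subtype.val (mul_comm x y)
        rw [show x.1 * y.1 = y.1 * x.1 from h1, hst_mul])
      map_zero' := Subtype.ext hst_zero
      map_add' := fun x y => Subtype.ext (hst_add x.1 y.1) }
  obtain ⟨θ, hθ⟩ : ∃ θ : K, σ θ - θ ≠ 0 := by
    by_contra hcon
    push Not at hcon
    have h1 := Unitary.card_fixed hK
    have h2 : Nat.card {x : K // x ^ q = x} = q ^ 2 := by
      rw [Nat.card_congr (Equiv.subtypeUnivEquiv fun x : K => (sub_eq_zero.1 (hcon x) : x ^ q = x)), Nat.card_eq_fintype_card, hK]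
    have h3 := Unitary.one_lt_q hK
    rw [h1, pow_two] at h2
    nlinarith
  haveI : Finite L := Subtype.finite
  obtain ⟨hunit, hhunit⟩ := hHu
  obtain ⟨b, hb, hbe⟩ := InvolutionNorm.exists_mul_eq τ (fun x => Subtype.ext (hst_st x.1))
    (θ := algebraMap K L θ) (h := ⟨H, Algebra.subset_adjoin rfl⟩) (by
      have e : τ (algebraMap K L θ) - algebraMap K L θ = algebraMap K L (σ θ - θ) := by
        rw [map_sub]
        congr 1
        exact Subtype.ext (hst_alg θ)
      rw [e]
      exact (IsUnit.mk0 _ hθ).map (algebraMap K L)) (by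
      have hL : ∀ k : ℕ, H ^ k ∈ L := fun k => L.pow_mem (Algebra.subset_adjoin rfl) k
      refine IsUnit.of_mul_eq_one (⟨H ^ (orderOf hunit - 1), hL _⟩ : L) (Subtype.ext ?_)
      show H * H ^ (orderOf hunit - 1) = 1
      rw [← pow_succ', Nat.sub_add_cancel (orderOf_pos hunit), ← hhunit, ← Units.val_pow_eq_pow_val,
        pow_orderOf_eq_one, Units.val_one]) (Subtype.ext hHfix)
  have hbe' : st b.1 * b.1 = H := by
    have := congrArg Subtype.val hbe
    rw [mul_comm b (τ b)] at hbe
    exact congrArg Subtype.val hbe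
  have hbA : Commute b.1 ((A : GL (Fin n) K) : Matrix (Fin n) (Fin n) K) := by
    have hle : L ≤ Subalgebra.centralizer K {((A : GL (Fin n) K) : Matrix (Fin n) (Fin n) K)} := by
      refine Algebra.adjoin_le ?_
      intro y hy
      rw [Set.mem_singleton_iff.1 hy]
      exact (Subalgebra.mem_centralizer_iff K).2 fun z hz => by
        rw [Set.mem_singleton_iff.1 hz]; exact hHA.symm.eq
    exact ((Subalgebra.mem_centralizer_iff K).1 (hle b.2) _ rfl).symm
  obtain ⟨c, hc⟩ : ∃ c : GL (Fin n) K, (c : Matrix (Fin n) (Fin n) K) = b.1 := by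
    obtain ⟨u, hu⟩ := hb.map L.val
    exact ⟨u, hu⟩
  have hcA : c * (A : GL (Fin n) K) = (A : GL (Fin n) K) * c := Units.ext (by
    rw [Units.val_mul, Units.val_mul, hc, hbA.eq])
  have hd : g * c⁻¹ ∈ Cfsg.GU n K q := by
    rw [hmem, Units.val_mul, hst_mul, mul_assoc, ← mul_assoc (st (g : Matrix (Fin n) (Fin n) K)), ← hH,
      ← hbe', ← hc, mul_assoc, ← Units.val_mul, mul_inv_cancel, Units.val_one, mul_one, ← hst_mul,
      ← Units.val_mul, mul_inv_cancel, Units.val_one, hst_one]
  refine isConj_iff.2 ⟨⟨g * c⁻¹, hd⟩, Subtype.ext ?_⟩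
  show g * c⁻¹ * (A : GL (Fin n) K) * (g * c⁻¹)⁻¹ = B
  rw [← hg]
  have h1 : c⁻¹ * (A : GL (Fin n) K) * c = (A : GL (Fin n) K) := by
    rw [mul_assoc, ← hcA, inv_mul_cancel_left]
  calc g * c⁻¹ * (A : GL (Fin n) K) * (g * c⁻¹)⁻¹ = g * (c⁻¹ * (A : GL (Fin n) K) * c) * g⁻¹ := by group
    _ = _ := by rw [h1]

end Cfsg.Agent.S2587
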