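import Cfsg.Statements.S4343
import Cfsg.Agent.Lib.SylowNumbers.Actions

set_option autoImplicit false
open Cfsg

namespace Cfsg.Agent.S4343

open Subgroup MulAction
open Cfsg.Agent.Lib.SylowNumbers.Basic
open Cfsg.Agent.Lib.SylowNumbers.Actions
open scoped Pointwise

/-- Let S be a finite non-abelian simple group and p a prime dividing its order. If S has fewer than p² Sylow p-subgroups, then its Sylow p-subgroups have order p. -/
theorem result {S : Type*} [Group S] [Finite S]
    [IsSimpleGroup S] (hS : ¬ IsMulCommutative S) (p : ℕ) [Fact p.Prime] (hp : p ∣ Nat.card S)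
    (hn : Nat.card (Sylow p S) < p ^ 2) (P : Sylow p S) : Nat.card P = p := by
  have hprime : p.Prime := Fact.out
  have hnorm : ∀ D : Subgroup S, IsPGroup p D → D.Normal → D = ⊥ := by
    intro D hD hnD
    refine hnD.eq_bot_or_eq_top.resolve_right fun e => hS ?_
    subst e
    have hpS : IsPGroup p S := hD.of_equiv topEquiv
    haveI : Nontrivial S := IsSimpleGroup.toNontrivial
    haveI := hpS.center_nontrivial
    have hc : center S = ⊤ := (inferInstance : (center S).Normal).eq_bot_or_eq_top.resolve_left
      ((nontrivial_iff_ne_bot _).mp inferInstance)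
    exact ⟨⟨fun a b => ((mem_center_iff.mp (hc ▸ mem_top a : a ∈ center S)) b).symm⟩⟩
  have hne_bot : ∀ R : Sylow p S, (R : Subgroup S) ≠ ⊥ := fun R e => by
    have h := R.dvd_card_of_dvd_card hp
    rw [e, Subgroup.card_bot] at h
    exact hprime.ne_one (Nat.dvd_one.mp h)
  have horb : ∀ R Q : Sylow p S, Q ≠ R → (Q : Subgroup S).relIndex R = p := by
    intro R Q hne
    have hc := card_orbit_sylow_pair R Q
    obtain ⟨k, hk⟩ := R.isPGroup'.card_orbit Q
    have hle : Nat.card (orbit (R : Subgroup S) Q) < p ^ 2 := lt_of_le_of_lt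
      (Nat.card_le_card_of_injective _ Subtype.val_injective) hn
    rw [← hc, hk]
    rw [hk] at hle
    rcases k with _ | _ | k
    · exfalso
      rw [hc, pow_zero] at hk
      refine hne ?_
      exact Sylow.ext (R.is_maximal' Q.isPGroup' (relIndex_eq_one.mp hk))
    · exact pow_one p
    · exact absurd (Nat.pow_le_pow_right hprime.pos (show 2 ≤ k + 1 + 1 by omega)) (not_le.mpr hle)
  let I : Subgroup S := ⨅ R : Sylow p S, (R : Subgroup S)
  have hIn : I.Normal := by
    refine ⟨fun x hx g => ?_⟩
    rw [Subgroup.mem_iInf] at hx ⊢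
    intro R
    have := hx (g⁻¹ • R)
    rw [Sylow.coe_subgroup_smul, Subgroup.mem_pointwise_smul_iff_inv_smul_mem, ← map_inv,
      MulAut.smul_def, MulAut.conj_apply, inv_inv] at this
    exact this
  have hI : I = ⊥ := hnorm I (P.isPGroup'.to_le (iInf_le _ P)) hIn
  have hcomm : IsMulCommutative P := by
    refine ⟨⟨fun a b => ?_⟩⟩
    have hmem : (a : S) * b * (a : S)⁻¹ * (b : S)⁻¹ ∈ I := by
      rw [Subgroup.mem_iInf]
      intro R
      by_cases hR : R = P
      · subst hR
        exact mul_mem (mul_mem (mul_mem a.2 b.2) (inv_mem a.2)) (inv_mem b.2)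
      have hidx := horb P R hR
      let T : Subgroup P := (R : Subgroup S).subgroupOf P
      have hT : T.Normal := by
        have := (normal_subgroupOf_iff_le_normalizer inf_le_right).mpr
          (le_normalizer_of_relIndex_eq P.isPGroup' (E := (R : Subgroup S) ⊓ P) inf_le_right
            (by rw [inf_relIndex_right, hidx]))
        rwa [inf_subgroupOf_right] at this
      have hcard : Nat.card ((P : Subgroup S) ⧸ T) = p := hidx
      haveI : IsCyclic ((P : Subgroup S) ⧸ T) := isCyclic_of_prime_card hcard
      let cg := IsCyclic.commGroup (α := (P : Subgroup S) ⧸ T)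
      have hc : QuotientGroup.mk' T a * QuotientGroup.mk' T b
          = QuotientGroup.mk' T b * QuotientGroup.mk' T a := cg.mul_comm _ _
      have h4 : a * b * a⁻¹ * b⁻¹ ∈ T := by
        rw [← QuotientGroup.ker_mk' T, MonoidHom.mem_ker, map_mul, map_mul, map_mul, hc,
          map_inv, map_inv]
        group
      exact h4
    rw [hI, Subgroup.mem_bot] at hmem
    apply Subtype.ext
    push_cast
    calc (a : S) * b = ((a : S) * b * (a : S)⁻¹ * (b : S)⁻¹) * (b * a) := by group
      _ = b * a := by rw [hmem, one_mul]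
  obtain ⟨R, Q, hRQ⟩ := brodkey P
  have hle : (R : Subgroup S) ⊓ Q ≤ I := le_iInf hRQ
  rw [hI, le_bot_iff] at hle
  have hne : Q ≠ R := by
    rintro rfl
    rw [inf_idem] at hle
    exact hne_bot Q hle
  have := horb R Q hne
  rw [← inf_relIndex_left, hle, relIndex_bot_left] at this
  exact (Nat.card_congr (Sylow.equiv P R).toEquiv).trans this

end Cfsg.Agent.S4343
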