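import Cfsg.Statements.S0073
import Cfsg.Agent.Lib.Transfer.Hall

set_option autoImplicit false
open Cfsg

namespace Cfsg.Agent.S0073

/-- For a finite non-abelian simple group, either the cube of the least prime divisor of the order divides the order, or 12 does. -/
theorem result {G : Type*} [Group G] [Finite G] [IsSimpleGroup G] (hG : ∃ x y : G, x * y ≠ y * x) : (Nat.card G).minFac ^ 3 ∣ Nat.card G ∨ 12 ∣ Nat.card G := by
  set n := Nat.card G with hn
  have hn1 : n ≠ 1 := by
    intro h1
    obtain ⟨x, y, hxy⟩ := hG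
    haveI := (Nat.card_eq_one_iff_unique.1 h1).1
    exact hxy (Subsingleton.elim _ _)
  set p := n.minFac with hpdef
  haveI : Fact p.Prime := ⟨Nat.minFac_prime hn1⟩
  have hp : p.Prime := Fact.out
  by_contra hcon
  simp only [not_or] at hcon
  obtain ⟨h3, h12⟩ := hcon
  let P : Sylow p G := default
  obtain ⟨e, he⟩ := IsPGroup.iff_card.1 P.2
  have hPdvd : p ^ e ∣ n := he ▸ Subgroup.card_subgroup_dvd_card _
  have he2 : e ≤ 2 := by
    by_contra h
    exact h3 ((pow_dvd_pow p (by omega)).trans hPdvd)
  have he1 : 1 ≤ e := by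
    by_contra h
    obtain rfl : e = 0 := by omega
    exact P.ne_bot_of_dvd_card (Nat.minFac_dvd n) (Subgroup.card_eq_one.1 (by rw [he, pow_zero]))
  have hP : IsMulCommutative (P : Subgroup G) := by
    interval_cases e
    · haveI := isCyclic_of_prime_card (show Nat.card (P : Subgroup G) = p by simpa using he)
      infer_instance
    · exact IsPGroup.isMulCommutative_of_card_eq_prime_sq he
  have hge : ∀ q : ℕ, q.Prime → q ∣ n → p ≤ q := fun q hq hd => Nat.minFac_le_of_dvd hq.two_le hd
  have hker : Subgroup.normalizer ((P : Subgroup G) : Set G)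
      ≤ Subgroup.centralizer ((P : Subgroup G) : Set G) := by
    refine Lib.Transfer.Hall.normalizer_le_centralizer_of_forall P hP he fun q hq hqp hqd k hk hdvd => ?_
    have hlt : p < q := lt_of_le_of_ne (hge q hq hqd) (Ne.symm hqp)
    have hmul : p ^ e - p ^ k = p ^ k * (p ^ (e - k) - 1) := by
      rw [Nat.mul_sub, ← pow_add, Nat.add_sub_of_le hk.le, mul_one]
    rw [hmul] at hdvd
    rcases (Nat.Prime.dvd_mul hq).1 hdvd with hd | hd
    · exact hqp ((Nat.prime_dvd_prime_iff_eq hq hp).1 (hq.dvd_of_dvd_pow hd))
    have hek : e - k = 1 ∨ e - k = 2 := by omega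
    rcases hek with hek | hek <;> rw [hek] at hd
    · rw [pow_one] at hd
      have := Nat.le_of_dvd (by have := hp.two_le; omega) hd
      omega
    · rw [show p ^ 2 - 1 = (p + 1) * (p - 1) by rw [← Nat.sq_sub_sq]] at hd
      rcases (Nat.Prime.dvd_mul hq).1 hd with hd | hd
      · have hle := Nat.le_of_dvd (by omega) hd
        have hq1 : q = p + 1 := by omega
        rcases hp.eq_two_or_odd with h2 | h2
        · have h4 : 4 ∣ n := by
            have : p ^ e = 4 := by rw [h2, show e = 2 by omega]; norm_num
            exact this ▸ hPdvd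
          have h3' : 3 ∣ n := by rw [h2] at hq1; norm_num at hq1; rw [hq1] at hqd; exact hqd
          exact h12 (Nat.Coprime.mul_dvd_of_dvd_of_dvd (by norm_num : Nat.Coprime 4 3) h4 h3')
        · rcases hq.eq_two_or_odd with h5 | h5
          · have := hp.two_le; omega
          · omega
      · have := Nat.le_of_dvd (by have := hp.two_le; omega) hd
        omega
  have hcompl := MonoidHom.ker_transferSylow_isComplement' P hker
  rcases IsSimpleGroup.eq_bot_or_eq_top_of_normal (MonoidHom.transferSylow P hker).ker inferInstance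
    with h | h
  · rw [h, Subgroup.isComplement'_bot_left] at hcompl
    obtain ⟨x, y, hxy⟩ := hG
    exact hxy (congrArg Subtype.val (hP.is_comm.comm
      (⟨x, hcompl ▸ Subgroup.mem_top x⟩ : (P : Subgroup G)) ⟨y, hcompl ▸ Subgroup.mem_top y⟩))
  · rw [h, Subgroup.isComplement'_top_left] at hcompl
    exact P.ne_bot_of_dvd_card (Nat.minFac_dvd n) hcompl

end Cfsg.Agent.S0073
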