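import Cfsg.Statements.S2038
import Cfsg.Agent.Lib.Schur.M24Mult

set_option autoImplicit false
open Cfsg

namespace Cfsg.Agent.S2038

open Cfsg.Agent.Lib Cfsg.Agent.Lib.Schur
open scoped Pointwise

/-- The Schur multiplier of the Mathieu group M₂₄ (the automorphism group of the length-24 binary code) is trivial; here the Schur multiplier is described through stem extensions, as in the definitions: surjective homomorphisms onto the group from a finite group, whose kernel is central in that finite group and contained in that finite group's commutator subgroup. -/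
theorem result : Cfsg.HasCyclicSchurMultiplier ↥Cfsg.M24 1 := by
  have hK : ∀ g, g ∈ M24 ↔ M24Mult.spec.Holds g := by
    intro g
    simp [M24Mult.spec, OutTrivial.Spec.Holds]
  haveI : Finite ↥M24 := Nat.finite_of_card_ne_zero (by rw [Golay.card_M24]; norm_num)
  refine Fusion.hasTrivialMultiplier fun p hp hd => ?_
  rw [Golay.card_M24] at hd
  have hp' : p ∣ 2 ^ 10 * 3 ^ 3 * 5 * 7 * 11 * 23 := by norm_num; exact hd
  simp only [Nat.Prime.dvd_mul hp] at hp'
  rcases hp' with ((((h | h) | h) | h) | h) | h
  · obtain rfl := (Nat.prime_dvd_prime_iff_eq hp Nat.prime_two).1 (hp.dvd_of_dvd_pow h)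
    exact GolayMult.exists_two hK M24Mult.two_ok (by rw [Golay.card_M24]; decide +kernel)
  · obtain rfl := (Nat.prime_dvd_prime_iff_eq hp Nat.prime_three).1 (hp.dvd_of_dvd_pow h)
    exact GolayMult.exists_three_extraspecial hK M24Mult.spec_ok M24Mult.three_ok
      M24Mult.three_gens_eq M24Mult.three_check M24Mult.three_order
      (by rw [Golay.card_M24]; decide +kernel)
  · obtain rfl := (Nat.prime_dvd_prime_iff_eq hp (by norm_num)).1 h
    exact GolayMult.exists_cyclic hK M24Mult.spec_ok hp M24Mult.el5_ok
      (by rw [Golay.card_M24]; decide +kernel)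
  · obtain rfl := (Nat.prime_dvd_prime_iff_eq hp (by norm_num)).1 h
    exact GolayMult.exists_cyclic hK M24Mult.spec_ok hp M24Mult.el7_ok
      (by rw [Golay.card_M24]; decide +kernel)
  · obtain rfl := (Nat.prime_dvd_prime_iff_eq hp (by norm_num)).1 h
    exact GolayMult.exists_cyclic hK M24Mult.spec_ok hp M24Mult.el11_ok
      (by rw [Golay.card_M24]; decide +kernel)
  · obtain rfl := (Nat.prime_dvd_prime_iff_eq hp (by norm_num)).1 h
    exact GolayMult.exists_cyclic hK M24Mult.spec_ok hp M24Mult.el23_ok
      (by rw [Golay.card_M24]; decide +kernel)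

end Cfsg.Agent.S2038
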