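import Cfsg.Statements.S2040
import Cfsg.Agent.Lib.Schur.J2Mult
import Cfsg.Agent.Lib.Multiplier.Product
import Cfsg.Agent.Lib.SporJ2.Group

set_option autoImplicit false
open Cfsg

namespace Cfsg.Agent.S2040

open Cfsg.Agent.Lib Cfsg.Agent.Lib.Schur
open Cfsg.Agent.Lib.Computation (permRep decodeP okPerm)

theorem img_mem : (J2Cover.img_gens.all fun c => okPerm 100 7 c &&
    (permRep 100 7 (by decide)).sift SporJ2.p100_chain c) = true := by decide +kernel

theorem img_eq : J2Mult.Img = SporJ2.K100 := by
  have hR := (permRep 100 7 (by decide)).closure_eq_grp SporJ2.p100_check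
  have hgrp : SporJ2.K100 = (permRep 100 7 (by decide)).grp SporJ2.p100_chain := by
    rw [← hR, SporJ2.K100, SporJ2.gens_eq.2.1]
    exact congrArg Subgroup.closure (SporJ2.range_decode _ SporJ2.gens_eq.2.2.1)
  refine Subgroup.eq_of_le_of_card_ge ?_ (by rw [SporJ2.card_K100, J2Mult.card_Img])
  rw [hgrp, J2Mult.Img, Subgroup.closure_le]
  rintro _ ⟨c, hc, rfl⟩
  obtain ⟨h1, h2⟩ := Bool.and_eq_true_iff.1 (List.all_eq_true.1 img_mem c hc)
  exact (permRep 100 7 (by decide)).mem_grp_of_sift
    ((permRep 100 7 (by decide)).checkChain_of_checkClosure SporJ2.p100_check) h1 h2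

/-- The Schur multiplier of the Hall–Janko group J₂ (the icosian reflection group modulo its centre) is cyclic of order 2; here the Schur multiplier is described through stem extensions, as in the definitions: surjective homomorphisms onto the group from a finite group, whose kernel is central in that finite group and contained in that finite group's commutator subgroup. -/
theorem result : Cfsg.HasCyclicSchurMultiplier Cfsg.Spor.J2 2 := by
  obtain ⟨e⟩ := SporJ2.exists_equiv_J2
  exact Multiplier.hasSchurMultiplier_congr ((MulEquiv.subgroupCongr img_eq).trans e.symm)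
    (MulEquiv.refl _) J2Mult.hasCyclicSchurMultiplier_img

end Cfsg.Agent.S2040
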