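import Cfsg.Statements.S2093
import Cfsg.Agent.Lib.Schur.S6Cover
import Cfsg.Agent.Lib.Schur.Sp62
import Cfsg.Agent.Lib.Schur.Universe

set_option autoImplicit false
open Cfsg

namespace Cfsg.Agent.S2093

open Cfsg.Agent.Lib Cfsg.Agent.Lib.Schur Matrix
open Cfsg.Agent.Lib.Computation (permRep decodeP)
open scoped commutatorElement

/-- The cover. -/
noncomputable abbrev R := permRep 304 9 (by decide)

/-- The cover as a group of permutations. -/
noncomputable abbrev K : Subgroup (Equiv.Perm (Fin 304)) := R.grp S6Cover.g_chain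

theorem check : R.checkChain S6Cover.g_chain = true :=
  R.checkChain_of_checkClosure S6Cover.g_check

theorem card_K : Nat.card K = 2903040 := (R.card_grp check).trans S6Cover.g_order

theorem trivial_K : HasCyclicSchurMultiplier K 1 := by
  have : Finite K := Nat.finite_of_card_ne_zero (by rw [card_K]; norm_num)
  refine Fusion.hasTrivialMultiplier fun p hp hd => ?_
  rw [card_K] at hd
  have hp' : p ∣ 2 ^ 10 * 3 ^ 4 * 5 * 7 * 1 := by norm_num; exact hd
  rw [mul_one] at hp'
  simp only [Nat.Prime.dvd_mul hp] at hp'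
  rcases hp' with ((h | h) | h) | h
  · obtain rfl := (Nat.prime_dvd_prime_iff_eq hp Nat.prime_two).1 (hp.dvd_of_dvd_pow h)
    exact PermMult.exists_two check S6Cover.two_ok (by rw [card_K]; decide +kernel)
  · obtain rfl := (Nat.prime_dvd_prime_iff_eq hp Nat.prime_three).1 (hp.dvd_of_dvd_pow h)
    exact WreathThree.exists_three_wreath check S6Cover.three_ok S6Cover.three_gens_eq
      S6Cover.three_check S6Cover.three_order (by rw [card_K]; decide +kernel)
  · obtain rfl := (Nat.prime_dvd_prime_iff_eq hp (by norm_num)).1 h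
    exact PermMult.exists_cyclic check hp S6Cover.el5_ok (by rw [card_K]; decide +kernel)
  · obtain rfl := (Nat.prime_dvd_prime_iff_eq hp (by norm_num)).1 h
    exact PermMult.exists_cyclic check hp S6Cover.el7_ok (by rw [card_K]; decide +kernel)

/-- A matrix from the bit patterns of its rows. -/
def matOf (rows : List ℕ) : Matrix (Fin 3 ⊕ Fin 3) (Fin 3 ⊕ Fin 3) (ZMod 2) :=
  Matrix.of fun i j => if (rows.getD (Sp62.posOf i) 0).testBit (Sp62.posOf j) then 1 else 0

theorem mats_ok : ∀ t ∈ S6Cover.blocks,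
    matOf t.2.2.2 * J (Fin 3) (ZMod 2) * (matOf t.2.2.2)ᵀ = J (Fin 3) (ZMod 2) ∧
      Sp62.matOk (matOf t.2.2.2) t.2.2.1 = true := by
  decide +kernel

theorem exists_proj : ∃ σ : K →* PSp 3 (ZMod 2), Function.Surjective σ ∧
    ∀ (g : K) (c a : ℕ), SplitBlock.blockOk 240 64 9 8 6 c a (PermMult.pone 64 6) = true →
      (g : Equiv.Perm (Fin 304)) = decodeP 304 9 c → σ g = 1 := by
  classical
  let S : Set (Equiv.Perm (Fin 304)) := decodeP 304 9 '' {s | s ∈ S6Cover.g_gens}
  have hK : K = Subgroup.closure S := (R.closure_eq_grp S6Cover.g_check).symm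
  have hgens : ∀ c ∈ S6Cover.g_gens, ∃ t ∈ S6Cover.blocks, t.1 = c := by
    intro c hc
    rw [← S6Cover.blocks_gens.1] at hc
    exact List.mem_map.1 hc
  have hblk : ∀ t ∈ S6Cover.blocks, SplitBlock.blockOk 240 64 9 8 6 t.1 t.2.1 t.2.2.1 = true :=
    fun t ht => List.all_eq_true.1 S6Cover.blocks_ok t ht
  have hle : K ≤ (SplitBlock.blockEmb 240 64).range := by
    rw [hK, Subgroup.closure_le]
    rintro _ ⟨c, hc, rfl⟩
    obtain ⟨t, ht, rfl⟩ := hgens c hc
    exact ⟨_, (SplitBlock.decodeP_block (hblk t ht)).symm⟩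
  let π : K →* Equiv.Perm (Fin 64) := (SplitBlock.proj 240 64).comp (Subgroup.inclusion hle)
  let T : Set (Equiv.Perm (Fin 64)) := decodeP 64 6 '' {s | s ∈ S6Cover.img_gens}
  have hT : Subgroup.closure T = Sp62.phi.range := by
    have hcard : Nat.card (Subgroup.closure T) = 1451520 :=
      ((permRep 64 6 (by decide)).card_closure S6Cover.img_check).trans S6Cover.img_order
    refine Subgroup.eq_of_le_of_card_ge ?_ ?_
    · rw [Subgroup.closure_le]
      rintro _ ⟨b, hb, rfl⟩
      rw [Set.mem_ofPred_eq, ← S6Cover.blocks_gens.2] at hb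
      obtain ⟨t, ht, rfl⟩ := List.mem_map.1 hb
      obtain ⟨h1, h2⟩ := mats_ok t ht
      exact ⟨⟨matOf t.2.2.2, SymplecticGroup.mem_iff.2 h1⟩, Sp62.phi_eq h2⟩
    · rw [hcard, Nat.card_congr (MonoidHom.ofInjective Sp62.phi_injective).toEquiv.symm, Sp62.card_sp62]
  have hrange : π.range = Sp62.phi.range := by
    have htop : Subgroup.closure (K.subtype ⁻¹' S) = ⊤ := by
      apply Subgroup.map_injective K.subtype_injective
      rw [MonoidHom.map_closure, ← MonoidHom.range_eq_map, Subgroup.range_subtype]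
      conv_rhs => rw [hK]
      congr 1
      refine Set.image_preimage_eq_of_subset ?_
      rw [Subgroup.coe_subtype, Subtype.range_coe]
      intro x hx
      rw [hK]
      exact Subgroup.subset_closure hx
    rw [MonoidHom.range_eq_map, ← htop, MonoidHom.map_closure, ← hT]
    congr 1
    ext y
    constructor
    · rintro ⟨g, ⟨c, hc, hg⟩, rfl⟩
      obtain ⟨t, ht, rfl⟩ := hgens c hc
      exact ⟨t.2.2.1, S6Cover.blocks_gens.2 ▸ List.mem_map.2 ⟨t, ht, rfl⟩,
        (SplitBlock.proj_of_block (hblk t ht) _ hg.symm).symm⟩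
    · rintro ⟨b, hb, rfl⟩
      rw [Set.mem_ofPred_eq, ← S6Cover.blocks_gens.2] at hb
      obtain ⟨t, ht, rfl⟩ := List.mem_map.1 hb
      have hc : t.1 ∈ S6Cover.g_gens := S6Cover.blocks_gens.1 ▸ List.mem_map.2 ⟨t, ht, rfl⟩
      refine ⟨⟨decodeP 304 9 t.1, hK ▸ Subgroup.subset_closure ⟨_, hc, rfl⟩⟩, ⟨_, hc, rfl⟩, ?_⟩
      exact SplitBlock.proj_of_block (hblk t ht) _ rfl
  let e := MonoidHom.ofInjective Sp62.phi_injective
  have hmem : ∀ g, π g ∈ Sp62.phi.range := fun g => hrange ▸ ⟨g, rfl⟩
  let ψ : K →* symplecticGroup (Fin 3) (ZMod 2) :=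
    e.symm.toMonoidHom.comp (π.codRestrict Sp62.phi.range hmem)
  refine ⟨(QuotientGroup.mk' _).comp ψ, ?_, ?_⟩
  · refine (QuotientGroup.mk'_surjective _).comp (e.symm.surjective.comp fun y => ?_)
    obtain ⟨g, hg⟩ : (y : Equiv.Perm (Fin 64)) ∈ π.range := by rw [hrange]; exact y.2
    exact ⟨g, Subtype.ext hg⟩
  · intro g c a h hg
    have h1 : π g = 1 := by
      rw [show π g = decodeP 64 6 (PermMult.pone 64 6) from SplitBlock.proj_of_block h _ hg]
      exact (permRep 64 6 (by decide)).val_one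
    have h2 : ψ g = 1 := e.symm.map_eq_one_iff.2 (Subtype.ext h1)
    show QuotientGroup.mk' _ (ψ g) = 1
    rw [h2, map_one]

theorem card_psp : Nat.card (PSp 3 (ZMod 2)) = 1451520 := by
  have h := Symplectic.card_psp (F := ZMod 2) (q := 2) (by simp) (m := 3) (by norm_num)
  rw [show Nat.gcd 2 (2 - 1) = 1 from rfl, one_mul] at h
  rw [h]
  decide +kernel

theorem over_zmod : HasCyclicSchurMultiplier (PSp 3 (ZMod 2)) 2 := by
  have : Finite K := Nat.finite_of_card_ne_zero (by rw [card_K]; norm_num)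
  obtain ⟨σ, hσ, hσb⟩ := exists_proj
  have h := S6Cover.z_ok
  simp only [Bool.and_eq_true, List.all_eq_true] at h
  obtain ⟨⟨⟨⟨⟨⟨⟨hz, hx⟩, hy⟩, hz1⟩, hblock⟩, hcomm⟩, hxy⟩, hzz⟩ := h
  have iz := PermMult.el_has check hz
  have ix := PermMult.el_has check hx
  have iy := PermMult.el_has check hy
  set z := PermMult.el check hz with hzdef
  have hzσ : σ z = 1 := hσb z _ _ hblock iz.2
  have hcard : Nat.card σ.ker = 2 := by
    have h1 := σ.ker.card_mul_index
    rw [Subgroup.index_ker, MonoidHom.range_eq_top.2 hσ, Subgroup.card_top, card_psp, card_K] at h1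
    omega
  have hz2 : z ^ 2 = 1 := by rw [pow_two]; exact (iz.mul iz).eq PermMult.hasOne hzz
  have : Fact (Nat.Prime 2) := ⟨Nat.prime_two⟩
  have hker : σ.ker = Subgroup.zpowers z := (Subgroup.eq_of_le_of_card_ge
    (Subgroup.zpowers_le.2 hzσ) (by
      rw [hcard, Nat.card_zpowers, orderOf_eq_prime hz2 (iz.ne_one hz1)])).symm
  have hcen : z ∈ Subgroup.center K := by
    rw [Subgroup.mem_center_iff]
    intro g
    have hle : K ≤ Subgroup.centralizer {(z : Equiv.Perm (Fin 304))} := by
      rw [show K = Subgroup.closure (decodeP 304 9 '' {s | s ∈ S6Cover.g_gens}) from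
        (R.closure_eq_grp S6Cover.g_check).symm, Subgroup.closure_le]
      rintro _ ⟨c, hc, rfl⟩
      rw [SetLike.mem_coe, Subgroup.mem_centralizer_singleton_iff, iz.2]
      have hok : Computation.okPerm 304 9 c = true := by
        have h := S6Cover.g_check
        simp only [Computation.Rep.checkClosure, Bool.and_eq_true, List.all_eq_true] at h
        exact (h.1.2 c hc).1
      rw [← Computation.decodeP_mulP hok iz.1, ← Computation.decodeP_mulP iz.1 hok,
        Nat.eq_of_beq_eq_true (hcomm c hc)]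
    exact Subtype.ext (Subgroup.mem_centralizer_singleton_iff.1 (hle g.2))
  have hstem : IsStemExtension σ := by
    refine ⟨hσ, hker ▸ Subgroup.zpowers_le.2 hcen, hker ▸ Subgroup.zpowers_le.2 ?_⟩
    have he : ⁅PermMult.el check hx, PermMult.el check hy⁆ = z := by
      rw [commutatorElement_def, mul_inv_eq_iff_eq_mul, mul_inv_eq_iff_eq_mul]
      exact (ix.mul iy).eq ((iz.mul iy).mul ix) hxy
    rw [← he]
    exact Subgroup.commutator_mem_commutator (Subgroup.mem_top _) (Subgroup.mem_top _)
  have : IsCyclic σ.ker := isCyclic_of_prime_card hcard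
  exact PermMult.hasSchurMultiplier_of_cover σ hstem trivial_K
    (mulEquivOfCyclicCardEq (by rw [hcard, Nat.card_congr Multiplicative.toAdd, Nat.card_zmod]))

theorem map_mem_sp {A B : Type*} [Field A] [Field B] (f : A ≃+* B)
    {M : Matrix (Fin 3 ⊕ Fin 3) (Fin 3 ⊕ Fin 3) A} (hM : M ∈ symplecticGroup (Fin 3) A) :
    M.map f ∈ symplecticGroup (Fin 3) B := by
  have hJ : (J (Fin 3) A).map f = J (Fin 3) B := by
    ext i j
    rcases i with i | i <;> rcases j with j | j <;> simp [J, Matrix.one_apply, apply_ite f]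
  rw [SymplecticGroup.mem_iff] at hM ⊢
  conv_rhs => rw [← hJ, ← hM, Matrix.map_mul, Matrix.map_mul, hJ, Matrix.transpose_map]

/-- The symplectic group over isomorphic fields. -/
noncomputable def spMap {R S : Type*} [Field R] [Field S] (e : R ≃+* S) :
    symplecticGroup (Fin 3) R ≃* symplecticGroup (Fin 3) S :=
  { toFun := fun A => ⟨(A : Matrix _ _ R).map e, map_mem_sp e A.2⟩
    invFun := fun A => ⟨(A : Matrix _ _ S).map e.symm, map_mem_sp e.symm A.2⟩
    left_inv := fun A => Subtype.ext (by ext i j; simp)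
    right_inv := fun A => Subtype.ext (by ext i j; simp)
    map_mul' := fun A B => Subtype.ext (by simp [Matrix.map_mul]) }

/-- Exceptional Schur multiplier: over the field with 2 elements, PSp₆ has Schur multiplier cyclic of order 2 (here the Schur multiplier is described through stem extensions, as in the definitions). -/
theorem result {F : Type*} [Field F] [Fintype F] (hF : Fintype.card F = 2) : Cfsg.HasCyclicSchurMultiplier (Cfsg.PSp 3 F) 2 := by
  classical
  let e : PSp 3 (ZMod 2) ≃* PSp 3 F :=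
    QuotientGroup.congr _ _ (spMap (ZMod.ringEquivOfPrime F Nat.prime_two hF)) (Symplectic.map_center_eq _)
  exact Universe.hasSchurMultiplier_lift e over_zmod

end Cfsg.Agent.S2093
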