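import Cfsg.Statements.S1983
import Cfsg.Agent.Lib.ConjFunctor.CritExist
-- import your own Cfsg.Agent.* helpers here

set_option autoImplicit false
universe u
open Cfsg

namespace Cfsg.Agent.S1983

/-- Let p be a prime, G a finite group with Sylow p-subgroup S and T = O_p(G). Suppose that the lower or the upper K-infinity subgroup of S is not normal in G. Then there is an element g of S outside T such that [X, g, g, g, g] ≤ Y for every chief factor X/Y of G with X ≤ T, and [Z(T), g, g] = 1; and if moreover C_G(T) ≤ T then some quotient group of G is not p-stable (in the normalizer form: some quadratically acting element of a normalizer fails to map into O_p of the automizer). -/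
theorem result {G : Type u} [Group G] [Finite G] {p : ℕ} [Fact p.Prime] (S : Sylow p G) (hK : ¬ (Cfsg.inducedFunctor Cfsg.kInfLower (S : Subgroup G)).Normal ∨ ¬ (Cfsg.inducedFunctor Cfsg.kInfUpper (S : Subgroup G)).Normal) : ∃ g : G, g ∈ (S : Subgroup G) ∧ g ∉ (Cfsg.pCore p G) ∧ (∀ U V : Subgroup G, Cfsg.IsChiefFactor U V → U ≤ (Cfsg.pCore p G) → Cfsg.iterCommutator U (Subgroup.zpowers g) 4 ≤ V) ∧ ⁅⁅((Cfsg.pCore p G) ⊓ Subgroup.centralizer (((Cfsg.pCore p G) : Subgroup G) : Set G)), (Subgroup.zpowers g)⁆, (Subgroup.zpowers g)⁆ = ⊥ ∧ (Subgroup.centralizer (((Cfsg.pCore p G) : Subgroup G) : Set G) ≤ (Cfsg.pCore p G) → ∃ (N : Subgroup G) (_ : N.Normal), ¬ Cfsg.IsNormalizerPStable p (G ⧸ N)) := by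
  obtain ⟨A, hA, hCA⟩ := Lib.ConjFunctor.CritExist.exists_crit (G := G) (p := p)
  obtain ⟨g, hgS, hgT, h3, h2, hc⟩ := Lib.ConjFunctor.KTest.exists_good S hA hK
  haveI := hA.normal
  have hTp : IsPGroup p (Cfsg.pCore p G) := Lib.Cores.pCore_isPGroup p
  have hZn : (A ⊓ Subgroup.centralizer (A : Set G)).Normal := inferInstance
  have hlow : ∀ U V : Subgroup G, Cfsg.IsChiefFactor U V → U ≤ A →
      (∀ u ∈ U, (Lib.ConjFunctor.Degree.dd g)^[3] u ∈ V) := by
    intro U V hUV hUA u hu
    haveI := hUV.2.1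
    haveI := hUV.2.2.1
    have hab := (Lib.ConjFunctor.Chief.chief_elementary hUV (hTp.to_le (hUA.trans hA.le))).1
    rcases hUV.2.2.2 ((U ⊓ (A ⊓ Subgroup.centralizer (A : Set G))) ⊔ V) inferInstance le_sup_right
      (sup_le inf_le_left hUV.1.le) with h | h
    · exact h.le (le_sup_left (b := V)
        (Subgroup.mem_inf.2 ⟨Lib.ConjFunctor.Degree.dd_iter_mem g hu 3, h3 u (hUA hu)⟩))
    · have hle : U ≤ Lib.ConjFunctor.Degree.layerKer U V g hab 3 := by
        conv_lhs => rw [← h]
        refine sup_le (fun z hz => ⟨(Subgroup.mem_inf.1 hz).1, ?_⟩)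
          (Lib.ConjFunctor.Degree.le_layerKer U V g hab hUV.1.le 3)
        rw [Function.iterate_succ_apply', h2 z (Subgroup.mem_inf.1 hz).2,
          Lib.ConjFunctor.KTest.dd_eq, commutatorElement_one_right]
        exact one_mem V
      exact (hle hu).2
  refine ⟨g, hgS, hgT, ?_, ?_, fun hcon => ?_⟩
  · refine Lib.ConjFunctor.Degree.degree_le (P := Cfsg.pCore p G) (Q := A) hTp hA.le hA.comm hCA g
      (i := 3) (j := 2) (by norm_num) (by norm_num) (fun U V hUV hUA => ?_) fun U V hUV hUZ => ?_
    all_goals haveI := hUV.2.1; haveI := hUV.2.2.1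
    · exact Lib.ConjFunctor.Degree.iterCommutator_le_of_forall U V g
        (Lib.ConjFunctor.Chief.chief_elementary hUV (hTp.to_le (hUA.trans hA.le))).1 (hlow U V hUV hUA)
    · refine Lib.ConjFunctor.Degree.iterCommutator_le_of_forall U V g
        (Lib.ConjFunctor.Chief.chief_elementary hUV
          (hTp.to_le (hUZ.trans (inf_le_left.trans hA.le)))).1 fun u hu => ?_
      rw [h2 u (hUZ hu)]
      exact one_mem V
  · have hle : Cfsg.pCore p G ⊓ Subgroup.centralizer (Cfsg.pCore p G : Set G) ≤
        A ⊓ Subgroup.centralizer (A : Set G) := by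
      have h1 : Subgroup.centralizer (Cfsg.pCore p G : Set G) ≤ Subgroup.centralizer (A : Set G) :=
        Subgroup.centralizer_le (SetLike.coe_subset_coe.2 hA.le)
      exact le_inf ((inf_le_inf_left _ h1).trans hCA) (inf_le_right.trans h1)
    refine le_bot_iff.1 ((Subgroup.commutator_mono (Subgroup.commutator_mono hle le_rfl) le_rfl).trans ?_)
    refine Lib.ConjFunctor.Degree.iterCommutator_le_of_forall (A ⊓ Subgroup.centralizer (A : Set G)) ⊥
      g ?_ (m := 2) fun z hz => Subgroup.mem_bot.2 (h2 z hz)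
    refine le_of_eq (Subgroup.commutator_eq_bot_iff_le_centralizer.2 ?_)
    exact inf_le_right.trans (Subgroup.centralizer_le (SetLike.coe_subset_coe.2 inf_le_left))
  · obtain ⟨U, V, hUV, hUA, hq, u, hu, huV⟩ := hc hcon
    haveI := hUV.2.1
    haveI := hUV.2.2.1
    have hab := (Lib.ConjFunctor.Chief.chief_elementary hUV (hTp.to_le (hUA.trans hA.le))).1
    refine ⟨V, hUV.2.2.1, Lib.ConjFunctor.CritExist.not_stable_of_quadratic_factor hUV
      (hTp.to_le (hUA.trans hA.le))
      (Lib.ConjFunctor.Degree.iterCommutator_le_of_forall U V g hab (m := 2) hq) fun hle => huV (hle ?_)⟩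
    rw [Subgroup.commutator_comm, Lib.ConjFunctor.KTest.dd_eq]
    exact Subgroup.commutator_mem_commutator (Subgroup.mem_zpowers g) hu

end Cfsg.Agent.S1983
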