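import Cfsg.Statements.S0938
import Cfsg.Agent.Lib.BrauerMap.Inflation
import Cfsg.Agent.Lib.Blocks.Orthogonality
import Cfsg.Agent.Lib.Characters.Kernel

set_option autoImplicit false
open Cfsg
open Cfsg.Agent.Lib.BrauerMap.Inflation Cfsg.Agent.Lib.Blocks Cfsg.Agent.Lib.Characters.Basic Cfsg.Agent.Lib.Characters.Kernel

namespace Cfsg.Agent.S0938

/-- Let B be a block of the finite group G relative to a maximal ideal M of the algebraic integers containing the prime p, and let χ ∈ B. Then the kernel of B (the set of g with ψ g = ψ 1 for all ψ ∈ B) is a normal subgroup of order prime to p contained in the kernel of χ, and it contains every normal subgroup of order prime to p on which χ takes the value χ(1); that is, it is O_p' of the kernel of χ. -/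
theorem result {G : Type*} [Group G] [Finite G] (p : ℕ) [Fact p.Prime] (M : Ideal Cfsg.AlgInt) (hM : Cfsg.IsPModular p M) (B : Set (Cfsg.IrrCharacter G)) (hB : Cfsg.IsPBlock M B) (χ : Cfsg.IrrCharacter G) (hχ : χ ∈ B) : ∃ K : Subgroup G, K.Normal ∧ (K : Set G) = Cfsg.blockKer B ∧ ¬ p ∣ Nat.card K ∧ (∀ g ∈ K, (χ : G → ℂ) g = (χ : G → ℂ) 1) ∧ ∀ N : Subgroup G, N.Normal → ¬ p ∣ Nat.card N → (∀ g ∈ N, (χ : G → ℂ) g = (χ : G → ℂ) 1) → N ≤ K := by
  classical
  haveI := hM.2.1
  haveI := Fintype.ofFinite (Cfsg.IrrCharacter G)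
  let K : Subgroup G :=
    ⨅ θ : {θ : Cfsg.IrrCharacter G // θ ∈ B}, charKer (isCharacter_irr θ.1)
  have hmem : ∀ g : G, g ∈ K ↔ g ∈ Cfsg.blockKer B := by
    intro g
    simp only [K, Subgroup.mem_iInf, mem_charKer]
    exact ⟨fun h θ hθ => h ⟨θ, hθ⟩, fun h θ => h θ.1 θ.2⟩
  haveI hKn : K.Normal := Subgroup.normal_iInf_normal fun θ => charKer_normal (isCharacter_irr θ.1)
  refine ⟨K, hKn, Set.ext hmem, ?_, fun g hg => (hmem g).1 hg χ hχ, ?_⟩
  · intro hdvd
    obtain ⟨u, hu⟩ := exists_prime_orderOf_dvd_card' p hdvd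
    have hu' : p ∣ orderOf (u : G) := by rw [Subgroup.orderOf_coe, hu]
    have h1 : ¬ p ∣ orderOf (1 : G) := by simp [(Fact.out : p.Prime).ne_one]
    have h0 := weak_orthogonality hM hB h1 hu'
    rw [finsum_mem_eq_sum_of_subset (t := Finset.univ.filter fun θ => θ ∈ B)] at h0
    rotate_left
    · exact fun θ hθ => Finset.mem_coe.2 (Finset.mem_filter.2 ⟨Finset.mem_univ _, hθ.1⟩)
    · exact fun θ hθ => (Finset.mem_filter.1 (Finset.mem_coe.1 hθ)).2
    have h2 : ((∑ θ ∈ Finset.univ.filter (fun θ => θ ∈ B),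
        Cfsg.charDegree (θ : G → ℂ) * Cfsg.charDegree (θ : G → ℂ) : ℕ) : ℂ) = 0 := by
      rw [← h0, Nat.cast_sum]
      refine Finset.sum_congr rfl fun θ hθ => ?_
      rw [(hmem u).1 u.2 θ (Finset.mem_filter.1 hθ).2, conj_apply_one (isCharacter_irr θ),
        char_one_eq_degree]
      push_cast; rfl
    rw [Nat.cast_eq_zero, Finset.sum_eq_zero_iff] at h2
    have h3 := h2 χ (Finset.mem_filter.2 ⟨Finset.mem_univ _, hχ⟩)
    exact absurd h3 (Nat.mul_pos (charDegree_pos χ) (charDegree_pos χ)).ne'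
  · intro N hN hNp hker n hn
    rw [hmem]
    intro θ hθ
    rw [isPBlock_eq_blockOf hB hχ] at hθ
    haveI := hN
    exact blockOf_subset_trivialOn hM N hNp hker hθ n hn

end Cfsg.Agent.S0938
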