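import Cfsg.Statements.S4626
import Cfsg.Agent.Lib.Blocks.Basic
import Cfsg.Agent.Lib.Blocks.DefectGroup
import Cfsg.Agent.Lib.BlocksChars5.Basic

set_option autoImplicit false
open Cfsg Cfsg.Agent.Lib Cfsg.Agent.Lib.BlocksChars5.Basic

namespace Cfsg.Agent.S4626

/-- Let G be a finite group, p a prime, M a maximal ideal of the algebraic integers containing p, P a Sylow p-subgroup of G and N a normal subgroup of index prime to p containing the centralizer C_G(P). Then every irreducible character of G whose kernel contains N lies in the principal p-block of G. -/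
theorem result {G : Type*} [Group G] [Finite G] (p : ℕ) [Fact p.Prime] (M : Ideal Cfsg.AlgInt) (hM : Cfsg.IsPModular p M) (P : Sylow p G) (N : Subgroup G) [N.Normal] (hidx : ¬ p ∣ N.index)
    (hC : Subgroup.centralizer ((P : Subgroup G) : Set G) ≤ N) (χ : Cfsg.IrrCharacter G) (hker : ∀ n ∈ N, (χ : G → ℂ) n = (χ : G → ℂ) 1) :
    χ ∈ Cfsg.principalBlock M G := by
  classical
  haveI : M.IsMaximal := hM.2.1
  haveI := Fintype.ofFinite G
  haveI := Fintype.ofFinite (G ⧸ N)
  have hp : p.Prime := Fact.out
  obtain ⟨χ', hχ'⟩ := exists_deflate χ N fun n hn => hker n hn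
  have hdeg : ¬ p ∣ Cfsg.charDegree (χ : G → ℂ) := by
    intro h
    apply hidx
    rw [Subgroup.index_eq_card]
    refine h.trans ?_
    rw [charDegree_congr (f' := (χ' : G ⧸ N → ℂ))
      (by rw [← hχ', inflate_apply, QuotientGroup.mk_one])]
    exact degree_dvd_card χ'
  intro g
  have hχ1 := Cfsg.Agent.Lib.Characters.Basic.apply_one_ne_zero χ
  by_cases hg : g ∈ N
  · refine ⟨0, 1, zero_mem _, fun h => hM.2.1.ne_top (M.eq_top_iff_one.mpr h), ?_⟩
    simp [Cfsg.centralChar, hker g hg, hχ1]
  have hc : p ∣ (Subgroup.centralizer ({g} : Set G)).index := by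
    by_contra hc
    apply hg
    set C := Subgroup.centralizer ({g} : Set G)
    obtain ⟨Q⟩ : Nonempty (Sylow p C) := inferInstance
    have hcard : Nat.card ((Q : Subgroup C).map C.subtype) =
        p ^ (Nat.card G).factorization p := by
      rw [Subgroup.card_map_of_injective (Subgroup.subtype_injective _), Q.card_eq_multiplicity,
        ← C.index_mul_card, Nat.factorization_mul Subgroup.index_ne_zero_of_finite
          Nat.card_pos.ne', Finsupp.add_apply, Nat.factorization_eq_zero_of_not_dvd hc, zero_add]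
    obtain ⟨x, hx⟩ := MulAction.exists_smul_eq G P (Sylow.ofCard ((Q : Subgroup C).map C.subtype) hcard)
    have hmem : x⁻¹ * g * x ∈ Subgroup.centralizer ((P : Subgroup G) : Set G) := by
      rw [Subgroup.mem_centralizer_iff]
      intro y hy
      have hy' : MulAut.conj x y ∈ (Q : Subgroup C).map C.subtype := by
        have h := congrArg (fun S : Sylow p G => (S : Subgroup G)) hx
        simp only [Sylow.coe_subgroup_smul, Sylow.coe_ofCard] at h
        rw [← h]
        exact Subgroup.smul_mem_pointwise_smul y (MulAut.conj x) _ hy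
      have h1 := Subgroup.mem_centralizer_singleton_iff.mp (Subgroup.map_subtype_le _ hy')
      rw [MulAut.conj_apply] at h1
      have h2 : y * (x⁻¹ * g * x) = x⁻¹ * ((x * y * x⁻¹) * g) * x := by group
      rw [h2, h1]
      group
    have h3 := (‹N.Normal›).conj_mem _ (hC hmem) x
    rwa [show x * (x⁻¹ * g * x) * x⁻¹ = g by group] at h3
  obtain ⟨c, hc⟩ := hc
  have e : Cfsg.centralChar (fun _ : G => (1 : ℂ)) g - Cfsg.centralChar (χ : G → ℂ) g =
      (p : ℂ) * ((c : ℂ) * (1 - (χ : G → ℂ) g * (Cfsg.charDegree (χ : G → ℂ) : ℂ)⁻¹)) := by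
    rw [Cfsg.centralChar, Cfsg.centralChar, hc, ← BlocksChars5.Basic.apply_one χ]
    push_cast
    ring
  rw [e]
  refine Blocks.memLocalIdeal_mul_right (Blocks.natCast_prime_mem_localIdeal hM) ?_
  exact mul_mem (natCast_mem _ c) (sub_mem (one_mem _) (mul_mem
    (Blocks.mem_localRing_of_isIntegral
      (Cfsg.Agent.Lib.Characters.Basic.isIntegral_apply
        (Cfsg.Agent.Lib.Characters.Basic.isCharacter_irr χ) g))
    (Blocks.natCast_inv_mem_localRing hM hdeg)))

end Cfsg.Agent.S4626
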