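import Cfsg.Statements.S0119
import Cfsg.Agent.Lib.PGroups.Automorphism
import Cfsg.Agent.Lib.PGroupTheory.Poly

set_option autoImplicit false
open Cfsg

namespace Cfsg.Agent.S0119

open scoped commutatorElement
open Cfsg.Agent.Lib.PGroups

/-- If a p'-group A of automorphisms of a p-group G satisfies G = [G, A] and acts trivially on every characteristic abelian subgroup, then G is special with centre equal to the fixed points of A. -/
theorem result {G : Type*} [Group G] [Finite G] {p : ℕ} [Fact p.Prime] (hG : IsPGroup p G) (A : Subgroup (MulAut G)) (hA : Nat.Coprime (Nat.card A) p) (hGA : Subgroup.closure {x : G | ∃ g : G, ∃ a ∈ A, x = g⁻¹ * a g} = ⊤) (hchar : ∀ H : Subgroup G, H.Characteristic → IsMulCommutative H → ∀ a ∈ A, ∀ h ∈ H, a h = h) : Cfsg.IsSpecial p G ∧ (∀ g : G, (g ∈ Subgroup.center G ↔ ∀ a ∈ A, a g = g)) := by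
  classical
  have := hG.isNilpotent
  have hp : p.Prime := Fact.out
  have hcentral : ∀ h : G, (∀ a ∈ A, a h = h) → (∀ (g : G), ∀ a ∈ A, a (g * h * g⁻¹) = g * h * g⁻¹) →
      h ∈ Subgroup.center G := by
    intro h hh hconj
    have : (⊤ : Subgroup G) ≤ Subgroup.centralizer {h} := by
      rw [← hGA, Subgroup.closure_le]
      rintro _ ⟨g, a, ha, rfl⟩
      rw [SetLike.mem_coe, Subgroup.mem_centralizer_singleton_iff]
      exact (commute_of_fixed a g h (hh a ha) (hconj g a ha)).eq
    exact Subgroup.mem_center_iff.mpr fun g =>
      Subgroup.mem_centralizer_singleton_iff.mp (this (Subgroup.mem_top g))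
  have hcharC : ∀ H : Subgroup G, H.Characteristic → IsMulCommutative H → H ≤ Subgroup.center G :=
    fun H hH hHc h hh => hcentral h (fun a ha => hchar H hH hHc a ha h hh)
      (fun g a ha => hchar H hH hHc a ha _ ((Subgroup.normal_of_characteristic (H := H)).conj_mem h hh g))
  -- class at most two
  let γ : ℕ → Subgroup G := (⊤ : Subgroup G).lowerCentralSeries
  have hγc : ∀ i, (γ i).Characteristic := by
    intro i
    induction i with
    | zero =>
        simp only [γ, Subgroup.lowerCentralSeries_zero]
        exact Subgroup.topCharacteristic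
    | succ i ih =>
        simp only [γ, Subgroup.lowerCentralSeries_succ]
        exact Subgroup.commutator_characteristic _ _
  have hG' : commutator G ≤ Subgroup.center G := by
    have h1 : ∀ k, γ (k + 3) = ⊥ → γ (k + 2) = ⊥ := by
      intro k hk
      have hab : IsMulCommutative (γ (k + 1)) := by
        rw [← Subgroup.le_centralizer_iff_isMulCommutative,
          ← Subgroup.commutator_eq_bot_iff_le_centralizer]
        refine le_bot_iff.mp
          ((Cfsg.Agent.Lib.PGroupTheory.commutator_lowerCentralSeries_le ⊤ (k + 1) (k + 1)).trans ?_)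
        exact le_trans ((⊤ : Subgroup G).lowerCentralSeries_antitone (by omega)) hk.le
      have hle := hcharC _ (hγc _) hab
      rw [show k + 2 = k + 1 + 1 from rfl]
      simp only [γ, Subgroup.lowerCentralSeries_succ]
      rw [Subgroup.commutator_eq_bot_iff_le_centralizer]
      exact fun x hx y _ => Subgroup.mem_center_iff.mp (hle hx) y
    obtain ⟨n, hn⟩ : ∃ n, γ (n + 2) = ⊥ :=
      ⟨Group.nilpotencyClass G, le_bot_iff.mp
        (((⊤ : Subgroup G).lowerCentralSeries_antitone (by omega)).trans
          (Subgroup.lowerCentralSeries_nilpotencyClass).le)⟩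
    have h2 : γ 2 = ⊥ := by
      induction n with
      | zero => exact hn
      | succ n ih => exact ih (h1 n hn)
    intro x hx
    rw [Subgroup.mem_center_iff]
    intro y
    rw [eq_comm, ← commutatorElement_eq_one_iff_mul_comm, ← Subgroup.mem_bot, ← h2]
    simp only [γ, Subgroup.lowerCentralSeries_succ, Subgroup.lowerCentralSeries_zero]
    rw [commutator_def] at hx
    exact Subgroup.commutator_mem_commutator hx (Subgroup.mem_top y)
  have hcc : ∀ x y : G, ⁅x, y⁆ ∈ Subgroup.center G := fun x y =>
    hG' (Subgroup.commutator_mem_commutator (Subgroup.mem_top x) (Subgroup.mem_top y))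
  have hZfix : ∀ z ∈ Subgroup.center G, ∀ a ∈ A, a z = z := fun z hz a ha =>
    hchar _ inferInstance inferInstance a ha z hz
  -- fixed points lie in the derived subgroup
  have hfixG' : ∀ g : G, (∀ a ∈ A, a g = g) → g ∈ commutator G := by
    intro g hg
    have : Fintype A := Fintype.ofFinite A
    let ν : G →* Abelianization G :=
      MonoidHom.mk' (fun x => ∏ a : A, Abelianization.of ((a : MulAut G) x)) fun x y => by
        simp only [map_mul, Finset.prod_mul_distrib]
    have hν : ν = 1 := by
      refine MonoidHom.eq_of_eqOn_dense hGA ?_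
      rintro _ ⟨x, b, hb, rfl⟩
      show ν (x⁻¹ * b x) = 1
      rw [map_mul, map_inv, inv_mul_eq_one]
      show ∏ a : A, Abelianization.of ((a : MulAut G) x) =
        ∏ a : A, Abelianization.of ((a : MulAut G) (b x))
      exact (Fintype.prod_equiv (Equiv.mulRight (⟨b, hb⟩ : A)) _ _ fun a => rfl).symm
    have h1 : (Abelianization.of g) ^ Nat.card A = 1 := by
      have : ν g = 1 := by rw [hν]; rfl
      rw [← this]
      show _ = ∏ a : A, Abelianization.of ((a : MulAut G) g)
      simp only [fun a : A => hg a a.2, Finset.prod_const, Finset.card_univ,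
        Nat.card_eq_fintype_card]
    obtain ⟨k, hk⟩ := hG g
    have h2 : orderOf (Abelianization.of g) ∣ Nat.gcd (Nat.card A) (p ^ k) :=
      Nat.dvd_gcd (orderOf_dvd_of_pow_eq_one h1)
        (orderOf_dvd_of_pow_eq_one (by rw [← map_pow, hk, map_one]))
    rw [Nat.Coprime.gcd_eq_one (hA.pow_right k), Nat.dvd_one, orderOf_eq_one_iff] at h2
    exact (QuotientGroup.eq_one_iff g).mp h2
  have hZ : commutator G = Subgroup.center G :=
    le_antisymm hG' fun z hz => hfixG' z fun a ha => hZfix z hz a ha
  refine ⟨⟨hG, ?_, hZ⟩, fun g => ⟨fun hg a ha => hZfix g hg a ha, fun hg => hZ ▸ hfixG' g hg⟩⟩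
  -- the derived subgroup has exponent `p`
  have hexp : ∀ e : ℕ, (∀ x y : G, ⁅x, y⁆ ^ p ^ (e + 1) = 1) → ∀ x y : G, ⁅x, y⁆ ^ p = 1 := by
    intro e
    induction e with
    | zero => intro h; simpa using h
    | succ e ih =>
        intro h
        apply ih
        set q := p ^ (e + 1) with hq
        let S := Subgroup.closure (Set.range fun x : G => x ^ q)
        have hS : S.Characteristic := by
          rw [Subgroup.characteristic_iff_map_le]
          intro φ
          rw [MonoidHom.map_closure]
          refine Subgroup.closure_mono ?_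
          rintro _ ⟨_, ⟨x, rfl⟩, rfl⟩
          exact ⟨φ x, (map_pow φ x q).symm⟩
        have hSc : IsMulCommutative S := by
          refine Subgroup.isMulCommutative_closure ?_
          rintro _ ⟨x, rfl⟩ _ ⟨y, rfl⟩
          rw [← commutatorElement_eq_one_iff_mul_comm,
            commutatorElement_pow_left_of_central x (y ^ q)
              (Subgroup.mem_center_iff.mp (hcc x (y ^ q)) x),
            ← commutatorElement_inv, inv_pow, inv_eq_one,
            commutatorElement_pow_left_of_central y x
              (Subgroup.mem_center_iff.mp (hcc y x) y), ← pow_mul]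
          obtain ⟨t, ht⟩ : p ^ (e + 1 + 1) ∣ q * q := by
            rw [hq, ← pow_add]
            exact pow_dvd_pow p (by omega)
          rw [ht, pow_mul, h, one_pow]
        intro x y
        rw [← commutatorElement_pow_left_of_central x y (Subgroup.mem_center_iff.mp (hcc x y) x),
          commutatorElement_eq_one_iff_mul_comm]
        exact (Subgroup.mem_center_iff.mp
          (hcharC S hS hSc (Subgroup.subset_closure ⟨x, rfl⟩)) y).symm
  obtain ⟨N, hN⟩ := IsPGroup.iff_card.mp hG
  have hexp' := hexp N fun x y => by
    rw [pow_succ, pow_mul, ← hN, pow_card_eq_one', one_pow]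
  refine le_antisymm ?_ ?_
  · refine frattini_le_of_pow_commutator (p := p) _ (fun x => ?_) hG'
    rw [Subgroup.mem_center_iff]
    intro y
    rw [eq_comm, ← commutatorElement_eq_one_iff_mul_comm,
      commutatorElement_pow_left_of_central x y (Subgroup.mem_center_iff.mp (hcc x y) x)]
    exact hexp' x y
  · exact hZ ▸ commutator_le_frattini hG

end Cfsg.Agent.S0119
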