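import Cfsg.Statements.S0046
import Cfsg.Agent.Lib.Cores.Basic
import Cfsg.Agent.Lib.Cores.Normalizer
import Mathlib.GroupTheory.Sylow
import Mathlib.Data.Fintype.Lattice
import Mathlib.Tactic

set_option autoImplicit false
set_option linter.style.haveILetI false
open Cfsg

namespace Cfsg.Agent.S0046

universe u

open scoped Pointwise

theorem not_simple {G : Type u} [Group G] [Finite G] (hnc : ¬ IsCyclic G)
    (h : ∀ M : Subgroup G, IsCoatom M → Group.IsNilpotent M)
    (hsimple : ∀ N : Subgroup G, N.Normal → N = ⊥ ∨ N = ⊤) : False := by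
  classical
  haveI : Nontrivial G := by
    by_contra hn
    rw [not_nontrivial_iff_subsingleton] at hn
    exact hnc inferInstance
  have hTI : ∀ M N : Subgroup G, IsCoatom M → IsCoatom N → M ≠ N → M ⊓ N = ⊥ := by
    intro M N hM hN hne
    haveI : Nonempty {x : Subgroup G × Subgroup G // IsCoatom x.1 ∧ IsCoatom x.2 ∧ x.1 ≠ x.2} :=
      ⟨⟨(M, N), hM, hN, hne⟩⟩
    obtain ⟨⟨⟨M₁, M₂⟩, hM₁, hM₂, hne'⟩, hmax⟩ := Finite.exists_max
      (fun x : {x : Subgroup G × Subgroup G // IsCoatom x.1 ∧ IsCoatom x.2 ∧ x.1 ≠ x.2} =>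
        Nat.card (x.1.1 ⊓ x.1.2 : Subgroup G))
    set D := M₁ ⊓ M₂ with hD
    suffices hDb : D = ⊥ by
      have h1 : Nat.card (M ⊓ N : Subgroup G) ≤ Nat.card D := hmax ⟨(M, N), hM, hN, hne⟩
      rw [hDb, Subgroup.card_bot] at h1
      exact (Subgroup.card_le_one_iff_eq_bot _).1 h1
    by_contra hDb
    have hN' : Subgroup.normalizer (D : Set G) ≠ ⊤ := fun ht => by
      rcases hsimple D (Subgroup.normalizer_eq_top_iff.1 ht) with h1 | h1
      · exact hDb h1
      · exact hM₁.1 (top_le_iff.1 (h1 ▸ inf_le_left))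
    obtain ⟨M₃, hM₃, hle⟩ := (eq_top_or_exists_le_coatom _).resolve_left hN'
    have key : ∀ P : Subgroup G, IsCoatom P → D < P → M₃ = P := by
      intro P hP hlt
      by_contra hc
      have h2 := (Lib.Cores.Normalizer.lt_normalizer_inf (h P hP) hlt).trans_le
        (inf_le_inf hle le_rfl)
      have h3 : Nat.card (M₃ ⊓ P : Subgroup G) ≤ Nat.card D := hmax ⟨(M₃, P), hM₃, hP, hc⟩
      exact h2.ne (Subgroup.eq_of_le_of_card_ge h2.le h3)
    have hlt₁ : D < M₁ := lt_of_le_of_ne inf_le_left fun he =>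
      hne' ((hM₁.le_iff.1 (inf_eq_left.1 he)).resolve_left hM₂.1).symm
    have hlt₂ : D < M₂ := lt_of_le_of_ne inf_le_right fun he =>
      hne' ((hM₂.le_iff.1 (inf_eq_right.1 he)).resolve_left hM₁.1)
    exact hne' ((key M₁ hM₁ hlt₁).symm.trans (key M₂ hM₂ hlt₂))
  have hcover : ∀ x : G, ∃ M : Subgroup G, IsCoatom M ∧ x ∈ M := by
    intro x
    rcases eq_top_or_exists_le_coatom (Subgroup.zpowers x) with h1 | ⟨M, hM, hle⟩
    · exact absurd ⟨⟨x, fun y => Subgroup.mem_zpowers_iff.1 (h1 ▸ Subgroup.mem_top y)⟩⟩ hnc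
    · exact ⟨M, hM, hle (Subgroup.mem_zpowers x)⟩
  have hconjC : ∀ M : Subgroup G, IsCoatom M → ∀ g : G, IsCoatom (MulAut.conj g • M) := by
    intro M hM g
    exact ((MulEquiv.mapSubgroup (MulAut.conj g)).isCoatom_iff M).2 hM
  have hMbot : ∀ M : Subgroup G, IsCoatom M → M ≠ ⊥ := by
    rintro M hM rfl
    obtain ⟨x, hx⟩ := exists_ne (1 : G)
    obtain ⟨M', hM', hxM⟩ := hcover x
    rcases hM.le_iff.1 (bot_le : ⊥ ≤ M') with h1 | h1
    · exact hM'.1 h1
    · rw [h1, Subgroup.mem_bot] at hxM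
      exact hx hxM
  have hnorm : ∀ M : Subgroup G, IsCoatom M → Subgroup.normalizer (M : Set G) = M := by
    intro M hM
    rcases hM.le_iff.1 (Subgroup.le_normalizer : M ≤ Subgroup.normalizer (M : Set G)) with h1 | h1
    · exact absurd (Subgroup.normalizer_eq_top_iff.1 h1) fun hn =>
        (hsimple M hn).elim (hMbot M hM) hM.1
    · exact h1
  obtain ⟨M, hM, -⟩ := hcover 1
  let f : ∀ N : Subgroup G, (G ⧸ N) × {x : N // x ≠ 1} → {x : G // x ≠ 1} := fun N c =>
    ⟨c.1.out * ((c.2.1 : N) : G) * c.1.out⁻¹, fun hc => c.2.2 (Subtype.ext (by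
      rwa [mul_inv_eq_one, mul_eq_left] at hc))⟩
  have hinj : ∀ N : Subgroup G, IsCoatom N → Function.Injective (f N) := by
    rintro N hN ⟨c, ⟨x, hx⟩, hx1⟩ ⟨d, ⟨y, hy⟩, hy1⟩ he
    have he' : c.out * x * c.out⁻¹ = d.out * y * d.out⁻¹ := congrArg Subtype.val he
    have hmem : c.out * x * c.out⁻¹ ∈ MulAut.conj c.out • N ⊓ MulAut.conj d.out • N :=
      ⟨⟨x, hx, rfl⟩, he' ▸ ⟨y, hy, rfl⟩⟩
    have hcd : c = d := by
      by_contra hcd
      have hne : MulAut.conj c.out • N ≠ MulAut.conj d.out • N := by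
        intro he2
        apply hcd
        have h1 : MulAut.conj (c.out⁻¹ * d.out) • N = N := by
          rw [map_mul, mul_smul, ← he2, map_inv, inv_smul_smul]
        have h2 : c.out⁻¹ * d.out ∈ Subgroup.normalizer (N : Set G) :=
          Subgroup.mem_normalizer_iff_map_conj_eq.2 h1
        rw [hnorm N hN] at h2
        rw [← c.out_eq', ← d.out_eq']
        exact QuotientGroup.eq.2 h2
      rw [hTI _ _ (hconjC N hN _) (hconjC N hN _) hne, Subgroup.mem_bot, mul_inv_eq_one,
        mul_eq_left] at hmem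
      exact hx1 (Subtype.ext hmem)
    subst hcd
    have hxy : x = y := by simpa using he'
    subst hxy
    rfl
  have hcardS : Nat.card {x : G // x ≠ 1} = Nat.card G - 1 := by
    haveI := Fintype.ofFinite G
    rw [Nat.card_eq_fintype_card, Fintype.card_subtype_compl, Fintype.card_subtype_eq,
      ← Nat.card_eq_fintype_card]
  have hcardD : ∀ N : Subgroup G, IsCoatom N →
      Nat.card ((G ⧸ N) × {x : N // x ≠ 1}) = Nat.card G - N.index := by
    intro N _
    haveI := Fintype.ofFinite N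
    rw [Nat.card_prod, ← Subgroup.index_eq_card]
    rw [show Nat.card {x : N // x ≠ 1} = Nat.card N - 1 by
      rw [Nat.card_eq_fintype_card, Fintype.card_subtype_compl, Fintype.card_subtype_eq,
        ← Nat.card_eq_fintype_card]]
    rw [Nat.mul_sub_one, Subgroup.index_mul_card]
  have hhalf : ∀ N : Subgroup G, IsCoatom N → 2 * N.index ≤ Nat.card G ∧ 2 ≤ N.index := by
    intro N hN
    refine ⟨?_, Subgroup.one_lt_index_of_ne_top hN.1⟩
    rw [← N.index_mul_card, mul_comm 2]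
    exact Nat.mul_le_mul_left _ ((Subgroup.one_lt_card_iff_ne_bot N).2 (hMbot N hN))
  obtain ⟨⟨z, hz⟩, hzM⟩ : ∃ z : {x : G // x ≠ 1}, ∀ c, f M c ≠ z := by
    by_contra hh
    push Not at hh
    have h1 := Nat.card_le_card_of_surjective (f M) hh
    rw [hcardS, hcardD M hM] at h1
    have := hhalf M hM
    omega
  obtain ⟨N, hN, hzN⟩ := hcover z
  have hdisj : ∀ c d, f M c ≠ f N d := by
    rintro ⟨c, ⟨x, hx⟩, hx1⟩ ⟨d, ⟨y, hy⟩, hy1⟩ he
    have he' : c.out * x * c.out⁻¹ = d.out * y * d.out⁻¹ := congrArg Subtype.val he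
    by_cases hcj : MulAut.conj c.out • M = MulAut.conj d.out • N
    · have hz' : MulAut.conj d.out • z ∈ MulAut.conj c.out • M :=
        hcj.symm ▸ Subgroup.smul_mem_pointwise_smul z _ N hzN
      rw [Subgroup.mem_pointwise_smul_iff_inv_smul_mem, ← map_inv, ← mul_smul, ← map_mul] at hz'
      set g := c.out⁻¹ * d.out with hg
      obtain ⟨m, hm⟩ : ∃ m : M, ((g⁻¹ : G) : G ⧸ M).out = g⁻¹ * m :=
        QuotientGroup.mk_out_eq_mul M g⁻¹
      have hw : g * z * g⁻¹ ∈ M := hz'
      have hw' : (m : G)⁻¹ * (g * z * g⁻¹) * m ∈ M := M.mul_mem (M.mul_mem (M.inv_mem m.2) hw) m.2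
      refine hzM (((g⁻¹ : G) : G ⧸ M), ⟨⟨_, hw'⟩, ?_⟩) (Subtype.ext ?_)
      · intro h1
        have h1' : (m : G)⁻¹ * (g * z * g⁻¹) * m = 1 := congrArg Subtype.val h1
        exact hz (by
          calc z = g⁻¹ * m * ((m : G)⁻¹ * (g * z * g⁻¹) * m) * (g⁻¹ * m)⁻¹ := by group
            _ = 1 := by rw [h1', mul_one, mul_inv_cancel])
      · show ((g⁻¹ : G) : G ⧸ M).out * ((m : G)⁻¹ * (g * z * g⁻¹) * m) *
          ((g⁻¹ : G) : G ⧸ M).out⁻¹ = z
        rw [hm]; group
    · have hmem : c.out * x * c.out⁻¹ ∈ MulAut.conj c.out • M ⊓ MulAut.conj d.out • N :=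
        ⟨⟨x, hx, rfl⟩, he' ▸ ⟨y, hy, rfl⟩⟩
      rw [hTI _ _ (hconjC M hM _) (hconjC N hN _) hcj, Subgroup.mem_bot, mul_inv_eq_one,
        mul_eq_left] at hmem
      exact hx1 (Subtype.ext hmem)
  have h1 := Nat.card_le_card_of_injective (Sum.elim (f M) (f N))
    ((hinj M hM).sumElim (hinj N hN) hdisj)
  rw [Nat.card_sum, hcardS, hcardD M hM, hcardD N hN] at h1
  have := hhalf M hM
  have := hhalf N hN
  omega

theorem aux (n : ℕ) : ∀ (G : Type u) [Group G] [Finite G], Nat.card G = n →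
    (∀ M : Subgroup G, IsCoatom M → Group.IsNilpotent M) → Group.IsSolvable G := by
  induction n using Nat.strong_induction_on with
  | _ n ih =>
  intro G _ _ hn h
  by_cases hc : IsCyclic G
  · haveI := hc
    exact Group.isSolvable_of_comm fun a b => hc.isMulCommutative.is_comm.comm a b
  by_cases hs : ∀ N : Subgroup G, N.Normal → N = ⊥ ∨ N = ⊤
  · exact (not_simple hc h hs).elim
  push Not at hs
  obtain ⟨N, hN, hbot, htop⟩ := hs
  haveI := hN
  rw [Group.isSolvable_iff_subgroup_quotient N]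
  constructor
  · obtain ⟨M, hM, hle⟩ := (eq_top_or_exists_le_coatom N).resolve_left htop
    haveI := Lib.Cores.isNilpotent_of_le hle (h M hM)
    infer_instance
  · have hlt : Nat.card (G ⧸ N) < n := by
      rw [← hn, Subgroup.card_eq_card_quotient_mul_card_subgroup N]
      exact lt_mul_of_one_lt_right Nat.card_pos ((Subgroup.one_lt_card_iff_ne_bot N).2 hbot)
    refine ih _ hlt _ rfl fun K hK => ?_
    have hK' := Subgroup.isCoatom_comap_of_surjective (QuotientGroup.mk'_surjective N) hK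
    have := Lib.Cores.isNilpotent_map (QuotientGroup.mk' N) (h _ hK')
    rwa [Subgroup.map_comap_eq_self_of_surjective (QuotientGroup.mk'_surjective N)] at this


/-- Schmidt's Theorem on minimal non-nilpotent groups: a finite group in which every maximal subgroup is nilpotent is solvable. -/
theorem result {G : Type*} [Group G] [Finite G]
    (h : ∀ M : Subgroup G, IsCoatom M → Group.IsNilpotent M) : Group.IsSolvable G := aux _ G rfl h

end Cfsg.Agent.S0046
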