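import Cfsg.Statements.S0048
import Cfsg.Agent.Lib.Cores.Basic
import Cfsg.Agent.Lib.Cores.MinNormal

set_option autoImplicit false
set_option linter.style.haveILetI false
open Cfsg

namespace Cfsg.Agent.S0048

universe u

theorem aux (n : ℕ) : ∀ (G : Type u) [Group G] [Finite G] [Group.IsSolvable G] (M : Subgroup G),
    Nat.card G = n → IsCoatom M → IsPrimePow M.index := by
  induction n using Nat.strong_induction_on with
  | _ n ih =>
  intro G _ _ _ M hn hM
  have hidx : M.index ≠ 1 := fun h => hM.1 (Subgroup.index_eq_one.1 h)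
  haveI : Nontrivial G := by
    by_contra h
    rw [not_nontrivial_iff_subsingleton] at h
    exact hM.1 (Subgroup.eq_top_iff' _ |>.2 fun x => Subsingleton.elim (1 : G) x ▸ one_mem M)
  obtain ⟨N, hN, hne, hmin⟩ := Lib.Cores.MinNormal.exists_minimal (G := G)
  haveI := hN
  obtain ⟨hab, p, hp, hexp⟩ := Lib.Cores.MinNormal.elementary_of_solvable hne hmin
  by_cases hle : N ≤ M
  · have hker : (QuotientGroup.mk' N).ker ≤ M := by rwa [QuotientGroup.ker_mk']
    have h1 : (M.map (QuotientGroup.mk' N)).index = M.index :=
      Subgroup.index_map_eq _ (QuotientGroup.mk'_surjective N) hker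
    rw [← h1]
    haveI : Group.IsSolvable (G ⧸ N) :=
      Group.isSolvable_of_surjective (QuotientGroup.mk'_surjective N)
    have hlt : Nat.card (G ⧸ N) < n := by
      rw [← hn, Subgroup.card_eq_card_quotient_mul_card_subgroup N]
      exact lt_mul_of_one_lt_right Nat.card_pos ((Subgroup.one_lt_card_iff_ne_bot N).2 hne)
    refine ih _ hlt (G ⧸ N) _ rfl ⟨fun h => ?_, fun K hK => ?_⟩
    · rw [← Subgroup.index_eq_one, h1] at h
      exact hidx h
    · have h2 : M < K.comap (QuotientGroup.mk' N) := by
        refine lt_of_le_of_ne (Subgroup.map_le_iff_le_comap.1 hK.le) fun h => hK.ne ?_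
        rw [h, Subgroup.map_comap_eq_self_of_surjective (QuotientGroup.mk'_surjective N)]
      have h3 := hM.2 _ h2
      rw [← Subgroup.map_comap_eq_self_of_surjective (QuotientGroup.mk'_surjective N) K, h3,
        Subgroup.map_top_of_surjective _ (QuotientGroup.mk'_surjective N)]
  · have hc := Lib.Cores.MinNormal.isComplement'_of_not_le hM hmin hle
    haveI : Fact p.Prime := ⟨hp⟩
    obtain ⟨k, hk⟩ := IsPGroup.iff_card.1 (Lib.Cores.MinNormal.isPGroup_of_pow_eq_one hexp)
    rw [hc.index_eq_card, hk]
    refine hp.isPrimePow.pow ?_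
    rintro rfl
    exact hne (Subgroup.eq_bot_of_card_eq _ (by simpa using hk))


/-- In a finite solvable group every maximal subgroup has index a prime power. -/
theorem result {G : Type*} [Group G] [Finite G] [Group.IsSolvable G]
    (M : Subgroup G) (hM : IsCoatom M) : IsPrimePow M.index := aux _ G M rfl hM

end Cfsg.Agent.S0048
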