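import Cfsg.Statements.S1078
import Cfsg.Agent.Lib.CurtisTits.AllTypes

set_option autoImplicit false
set_option maxRecDepth 100000
open Cfsg

namespace Cfsg.Agent.S1078

/-- For G₂, F₄, E₈ the presented group has trivial centre (the universal and adjoint groups coincide). -/
theorem result {K : Type*} [Field K] (D : Cfsg.Lie.ChevalleyDatum) (hD : D ∈ [Cfsg.Lie.chevG2, Cfsg.Lie.chevF4, Cfsg.Lie.chevE8]) :
    Subgroup.center (D.SteinbergGroup K) = ⊥ := by
  simp only [List.mem_cons, List.not_mem_nil, or_false] at hD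
  rcases hD with rfl | rfl | rfl
  · exact Cfsg.Agent.Lib.CurtisTits.center_bot Cfsg.Agent.Lib.CurtisTits.CertG2.cert
      Cfsg.Agent.Lib.CurtisTits.suppOne_G2
      (fun i m => (([[2,3],[1,2]] : List (List ℤ)).getD i.val []).getD m.val 0) (by decide +kernel)
  · exact Cfsg.Agent.Lib.CurtisTits.center_bot Cfsg.Agent.Lib.CurtisTits.CertF4.cert
      Cfsg.Agent.Lib.CurtisTits.suppOne_F4
      (fun i m => (([[2,3,4,2],[3,6,8,4],[2,4,6,3],[1,2,3,2]] : List (List ℤ)).getD i.val []).getD m.val 0) (by decide +kernel)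
  · exact Cfsg.Agent.Lib.CurtisTits.center_bot Cfsg.Agent.Lib.CurtisTits.CertE8.cert
      Cfsg.Agent.Lib.CurtisTits.suppOne_E8
      (fun i m => (([[4,5,7,10,8,6,4,2],[5,8,10,15,12,9,6,3],[7,10,14,20,16,12,8,4],[10,15,20,30,24,18,12,6],[8,12,16,24,20,15,10,5],[6,9,12,18,15,12,8,4],[4,6,8,12,10,8,6,3],[2,3,4,6,5,4,3,2]] : List (List ℤ)).getD i.val []).getD m.val 0) (by decide +kernel)

end Cfsg.Agent.S1078
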