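import Cfsg.Statements.S0301
import Cfsg.Agent.Lib.LowIso.Basic
import Cfsg.Agent.Lib.Symplectic.Std
import Cfsg.Agent.S0270
import Cfsg.Agent.Lib.OrthOmega.Simple

set_option autoImplicit false
open Cfsg

namespace Cfsg.Agent.S0301

/-- PΩ_5(q) is isomorphic to PSp_4(q) for q odd. -/
theorem result {F : Type*} [Field F] [Fintype F] (hodd : Odd (Fintype.card F)) : Nonempty (Cfsg.POmega F (Cfsg.quadFormOdd 2 F) ≃* Cfsg.PSp 2 F) := by
  classical
  let R : Matrix.symplecticGroup (Fin 2) F →* Matrix (Fin 4) (Fin 4) F :=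
    (Matrix.reindexAlgEquiv F F finSumFinEquiv).toMonoidHom.comp
      (Submonoid.subtype (Matrix.symplecticGroup (Fin 2) F))
  have hJ : Matrix.reindexAlgEquiv F F finSumFinEquiv (Matrix.J (Fin 2) F) =
      Cfsg.Agent.Lib.LowIso.altMat (0 : F) (-1) 0 0 (-1) 0 := by
    ext i j
    fin_cases i <;> fin_cases j <;>
      simp [Matrix.J, Cfsg.Agent.Lib.LowIso.altMat, finSumFinEquiv, Fin.addCases,
        Matrix.one_apply]
  have hR : ∀ g, R g * Cfsg.Agent.Lib.LowIso.altMat (0 : F) (-1) 0 0 (-1) 0 * (R g).transpose =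
      Cfsg.Agent.Lib.LowIso.altMat (0 : F) (-1) 0 0 (-1) 0 := fun g => by
    have ht : (R g).transpose = Matrix.reindexAlgEquiv F F finSumFinEquiv (g.1.transpose) := rfl
    rw [← hJ, ht, show R g = Matrix.reindexAlgEquiv F F finSumFinEquiv g.1 from rfl, ← map_mul,
      ← map_mul, SymplecticGroup.mem_iff.mp g.2]
  have hdet : ∀ g, (R g).det = 1 := fun g => by
    have h := Cfsg.Agent.Lib.LowIso.pf_conj (R g) (0 : F) (-1) 0 0 (-1) 0
    rw [hR g, Cfsg.Agent.Lib.LowIso.pf_altMat] at h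
    linear_combination h
  obtain ⟨φ, hφ⟩ := Cfsg.Agent.Lib.LowIso.exists_hom (RingHom.id F)
    (Cfsg.Agent.Lib.LowIso.congAction.comp R)
    (fun v : Unit ⊕ (Fin 2 ⊕ Fin 2) → F => Cfsg.Agent.Lib.LowIso.altMat (v (.inr (.inl 0)))
      (v (.inl ())) (v (.inr (.inl 1))) (v (.inr (.inr 1))) (-v (.inl ())) (v (.inr (.inr 0))))
    (fun u v => by
      ext i j; fin_cases i <;> fin_cases j <;> simp [Cfsg.Agent.Lib.LowIso.altMat] <;> ring)
    (fun c v => by
      ext i j; fin_cases i <;> fin_cases j <;> simp [Cfsg.Agent.Lib.LowIso.altMat])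
    (fun u v h => by
      have e := fun i j => congrFun (congrFun h i) j
      funext k
      rcases k with k | k | k <;> fin_cases k
      · simpa [Cfsg.Agent.Lib.LowIso.altMat] using e 0 2
      · simpa [Cfsg.Agent.Lib.LowIso.altMat] using e 0 1
      · simpa [Cfsg.Agent.Lib.LowIso.altMat] using e 0 3
      · simpa [Cfsg.Agent.Lib.LowIso.altMat] using e 2 3
      · simpa [Cfsg.Agent.Lib.LowIso.altMat] using e 1 2)
    (Cfsg.quadFormOdd 2 F) Cfsg.Agent.Lib.LowIso.pf
    (fun g v => by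
      simp only [MonoidHom.coe_comp, Function.comp_apply,
        Cfsg.Agent.Lib.LowIso.congAction_apply, Cfsg.Agent.Lib.LowIso.pf_conj, hdet, one_mul])
    (fun v => by
      rw [Cfsg.Agent.Lib.LowIso.pf_altMat]
      simp [Cfsg.quadFormOdd, Fin.sum_univ_two]
      ring)
    (fun g v => by
      obtain ⟨a, b, c, d, e, f, h⟩ := Cfsg.Agent.Lib.LowIso.conj_altMat (R g)
        (v (.inr (.inl 0))) (v (.inl ())) (v (.inr (.inl 1))) (v (.inr (.inr 1))) (-v (.inl ()))
        (v (.inr (.inr 0)))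
      have hadd : ∀ a b c d e f : F, Cfsg.Agent.Lib.LowIso.altMat a b c d e f +
          Cfsg.Agent.Lib.LowIso.altMat (0 : F) (-1) 0 0 (-1) 0 =
          Cfsg.Agent.Lib.LowIso.altMat a (b - 1) c d (e - 1) f := fun a b c d e f => by
        ext i j; fin_cases i <;> fin_cases j <;> simp [Cfsg.Agent.Lib.LowIso.altMat] <;> ring
      have h1 := Cfsg.Agent.Lib.LowIso.pf_conj (R g)
        (v (.inr (.inl 0))) (v (.inl ())) (v (.inr (.inl 1))) (v (.inr (.inr 1))) (-v (.inl ()))
        (v (.inr (.inr 0)))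
      have h2 := Cfsg.Agent.Lib.LowIso.pf_conj (R g)
        (v (.inr (.inl 0))) (v (.inl ()) - 1) (v (.inr (.inl 1))) (v (.inr (.inr 1)))
        (-v (.inl ()) - 1) (v (.inr (.inr 0)))
      rw [h] at h1
      rw [← hadd, Matrix.mul_add, Matrix.add_mul, h, hR, hadd] at h2
      simp only [Cfsg.Agent.Lib.LowIso.pf_altMat, hdet, one_mul, hadd] at h1 h2
      have he : e = -b := by linear_combination h2 - h1
      subst he
      refine ⟨Sum.elim (fun _ => b) (Sum.elim ![a, c] ![f, d]), ?_⟩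
      simp only [MonoidHom.coe_comp, Function.comp_apply, Cfsg.Agent.Lib.LowIso.congAction_apply]
      exact (by simp : _ = _).trans h.symm)
  refine Cfsg.Agent.Lib.LowIso.nonempty_pOmega_equiv _ φ
    (Cfsg.Agent.Lib.Symplectic.commutator_sp_eq_top (Or.inr (Or.inl ⟨rfl, Finset.univ, ?_⟩)))
    (Cfsg.Agent.S0270.result 2 le_rfl fun _ => ?_) ?_ ?_
  · rw [Finset.card_univ]
    have := Fintype.one_lt_card (α := F)
    rcases hodd with ⟨k, hk⟩
    omega
  · have := Fintype.one_lt_card (α := F)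
    rcases hodd with ⟨k, hk⟩
    omega
  · have hm : Matrix.fromBlocks (1 : Matrix (Fin 2) (Fin 2) F) !![1, 0; 0, 0] 0 1 ∈
        Matrix.symplecticGroup (Fin 2) F := by
      rw [SymplecticGroup.mem_iff, Matrix.J, Matrix.fromBlocks_transpose,
        Matrix.fromBlocks_multiply, Matrix.fromBlocks_multiply]
      congr 1 <;> ext i j <;> fin_cases i <;> fin_cases j <;> simp [Matrix.one_apply]
    refine ⟨⟨_, hm⟩, fun h => ?_⟩
    have h1 := hφ ⟨_, hm⟩ (Sum.elim 0 (Sum.elim 0 ![0, 1]))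
    rw [h] at h1
    simp only [OneMemClass.coe_one, Units.val_one, Matrix.one_mulVec] at h1
    change _ = Matrix.reindexAlgEquiv F F finSumFinEquiv
      (Matrix.fromBlocks (1 : Matrix (Fin 2) (Fin 2) F) !![1, 0; 0, 0] 0 1) * _ * _ at h1
    have h2 := congrFun (congrFun h1 0) 1
    simp [R, Cfsg.Agent.Lib.LowIso.altMat, Matrix.mul_apply, Fin.sum_univ_succ, finSumFinEquiv,
      Fin.addCases, Matrix.one_apply] at h2
  · show Nat.card _ = Nat.card (Cfsg.PSp 2 F)
    have hP := Cfsg.Agent.Lib.OrthOmega.two_mul_card_pOmega_odd (F := F) rfl hodd 2 le_rfl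
    have hS := Cfsg.Agent.Lib.Symplectic.card_psp (F := F) Nat.card_eq_fintype_card
      (show 1 ≤ 2 by norm_num)
    have hg : Nat.gcd 2 (Fintype.card F - 1) = 2 := by
      rcases hodd with ⟨k, hk⟩
      rw [hk, Nat.add_sub_cancel]
      simp
    rw [hg, ← hP] at hS
    omega

end Cfsg.Agent.S0301
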