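import Cfsg.Statements.S2395
import Cfsg.Agent.Lib.GLFlags.ChevPerfectData
-- import your own Cfsg.Agent.* helpers here

set_option autoImplicit false
open Cfsg

namespace Cfsg.Agent.S2395

open Cfsg.Lie Cfsg.Agent.Lib.GLFlags.ChevPerfect

set_option maxRecDepth 100000

/-- The shapes of relation accepted. -/
def pattern (allowB : Bool) (q : ℕ) : List (ℕ × ℤ × ℕ × ℕ) → Bool
  | [(k, c, _, 1)] => k == q && (c == 1 || c == -1)
  | [(k, c, 1, 1), (k', c', 2, 1)] =>
      allowB && (k == q || k' == q) && (c == 1 || c == -1) && (c' == 1 || c' == -1)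
  | _ => false

/-- The check of a certificate, `Z` being the roots already killed. -/
def check (D : ChevalleyDatum) (allowB : Bool) : List (ℕ × ℕ × ℕ) → List ℕ → Bool
  | [], Z => (List.range D.nroots).all fun q => Z.contains q
  | (q, r, s) :: rest, Z =>
      Nat.blt r D.nroots && Nat.blt s D.nroots && s != r && s != D.neg r &&
      pattern allowB q ((D.commTerms r s).filter fun c => !Z.contains c.1) &&
      check D allowB rest (q :: Z)

theorem prod_filter {A : Type*} [CommMonoid A] {α : Type*} (g : α → A) (P : α → Bool) :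
    ∀ l : List α, (∀ c ∈ l, P c = false → g c = 1) → (l.map g).prod = ((l.filter P).map g).prod
  | [], _ => rfl
  | c :: l, h => by
    have ih := prod_filter g P l fun d hd => h d (List.mem_cons_of_mem _ hd)
    cases hc : P c
    · simp [hc, h c (List.mem_cons_self) hc, ih]
    · simp [hc, ih]

section

variable {K : Type*} [Field K] (D : ChevalleyDatum)

theorem rel_one {g : FreeGroup (Fin D.nroots × K)} (h : g ∈ D.steinbergRelsAB K) :
    PresentedGroup.mk (D.steinbergRelsAB K) g = 1 :=
  PresentedGroup.mk_eq_one_iff.2 (Subgroup.subset_normalClosure h)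

/-- The image of a root element in the abelianisation. -/
def ab (k : ℕ) (t : K) : Abelianization (D.SteinbergCover K) := Abelianization.of (D.scGen K k t)

theorem ab_add {k : ℕ} (hk : k < D.nroots) (a b : K) : ab D k (a + b) = ab D k a * ab D k b := by
  have h := rel_one D (Or.inl ⟨k, a, b, hk, rfl⟩ :
    D.stX k a * D.stX k b * (D.stX k (a + b))⁻¹ ∈ D.steinbergRelsAB K)
  rw [map_mul, map_mul, map_inv, mul_inv_eq_one] at h
  simp only [ab, ChevalleyDatum.scGen]
  rw [← h, map_mul]

theorem ab_zero {k : ℕ} (hk : k < D.nroots) : ab D k (0 : K) = 1 := by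
  have h := ab_add D hk (0 : K) 0
  rw [add_zero] at h
  exact mul_eq_left.1 h.symm

theorem comm_rel {r s : ℕ} (hr : r < D.nroots) (hs : s < D.nroots) (h1 : s ≠ r) (h2 : s ≠ D.neg r) (t u : K) :
    ((D.commTerms r s).map fun c => ab D c.1 ((c.2.1 : K) * (-t) ^ c.2.2.1 * u ^ c.2.2.2)).prod = 1 := by
  have h := congrArg Abelianization.of (rel_one D (Or.inr ⟨r, s, t, u, hr, hs, h1, h2, rfl⟩ :
    (D.stX s u)⁻¹ * (D.stX r t)⁻¹ * D.stX s u * D.stX r t * (D.stWord (D.commWord K r s t u))⁻¹ ∈
      D.steinbergRelsAB K))
  simp only [map_mul, map_inv, map_one] at h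
  have e : ∀ a b c : Abelianization (D.SteinbergCover K), a⁻¹ * b⁻¹ * a * b * c⁻¹ = c⁻¹ := by
    intro a b c
    rw [mul_right_comm (a⁻¹) (b⁻¹) a, inv_mul_cancel, one_mul, inv_mul_cancel, one_mul]
  rw [e, inv_eq_one] at h
  rw [← h, ChevalleyDatum.stWord, ChevalleyDatum.commWord, map_list_prod, map_list_prod, List.map_map,
    List.map_map, List.map_map]
  rfl

theorem check_sound (allowB : Bool) (hB : allowB = true → ∃ x : K, x ≠ 0 ∧ x ≠ 1) :
    ∀ (cert : List (ℕ × ℕ × ℕ)) (Z : List ℕ), check D allowB cert Z = true →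
      (∀ q ∈ Z, ∀ t : K, ab D q t = 1) → ∀ q < D.nroots, ∀ t : K, ab D q t = 1 := by
  intro cert
  induction cert with
  | nil =>
    intro Z h hZ q hq t
    simp only [check, List.all_eq_true, List.mem_range, List.contains_iff_mem] at h
    exact hZ q (h q hq) t
  | cons a rest ih =>
    obtain ⟨q, r, s⟩ := a
    intro Z h hZ
    simp only [check, Bool.and_eq_true, Nat.blt_eq, bne_iff_ne, ne_eq] at h
    obtain ⟨⟨⟨⟨⟨hr, hs⟩, hsr⟩, hneg⟩, hp⟩, hrest⟩ := h
    refine ih (q :: Z) hrest fun x hx => ?_
    rcases List.mem_cons.1 hx with hxq | hx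
    swap
    · exact hZ x hx
    rw [hxq]
    have key : ∀ t u : K, (((D.commTerms r s).filter fun c => !Z.contains c.1).map fun c =>
        ab D c.1 ((c.2.1 : K) * (-t) ^ c.2.2.1 * u ^ c.2.2.2)).prod = 1 := by
      intro t u
      rw [← prod_filter _ (fun c : ℕ × ℤ × ℕ × ℕ => !Z.contains c.1) (D.commTerms r s) fun c _ hc =>
        hZ c.1 (by simpa using hc) _]
      exact comm_rel D hr hs hsr hneg t u
    have unit_sq : ∀ c : ℤ, (c = 1 ∨ c = -1) → (c : K) * c = 1 := by
      rintro c (rfl | rfl) <;> simp
    rcases hl : (D.commTerms r s).filter fun c => !Z.contains c.1 with _ | ⟨c1, _ | ⟨c2, _ | ⟨c3, l⟩⟩⟩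
    · rw [hl] at hp; simp [pattern] at hp
    · obtain ⟨k, c, i, j⟩ := c1
      rw [hl] at hp key
      by_cases hj : j = 1
      · subst hj
        simp only [pattern, Bool.and_eq_true, Bool.or_eq_true, beq_iff_eq] at hp
        obtain ⟨rfl, hc⟩ := hp
        intro v
        have h := key (-1) ((c : K) * v)
        simp only [List.map_cons, List.map_nil, List.prod_cons, List.prod_nil, mul_one, neg_neg, one_pow,
          pow_one, ← mul_assoc, unit_sq c hc, one_mul] at h
        exact h
      · exfalso
        revert hp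
        unfold pattern
        split <;> simp_all
    · obtain ⟨k, c, i, j⟩ := c1
      obtain ⟨k', c', i', j'⟩ := c2
      rw [hl] at hp key
      obtain ⟨⟨rfl, rfl⟩, rfl, rfl⟩ : (i = 1 ∧ j = 1) ∧ i' = 2 ∧ j' = 1 := by
        revert hp
        unfold pattern
        split <;> simp_all
      simp only [pattern, Bool.and_eq_true, Bool.or_eq_true, beq_iff_eq] at hp
      obtain ⟨⟨⟨hallow, hkq⟩, hc⟩, hc'⟩ := hp
      obtain ⟨x, hx0, hx1⟩ := hB hallow
      -- the roots k, k' are in range or irrelevant
      have hab : ∀ m a b, ab D m ((a : K) + b) = ab D m a * ab D m b := by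
        intro m a b
        by_cases hm : m < D.nroots
        · exact ab_add D hm a b
        · simp [ab, ChevalleyDatum.scGen, ChevalleyDatum.stX, hm]
      have h1 : ∀ w : K, ab D k ((c : K) * w) * ab D k' ((c' : K) * w) = 1 := by
        intro w
        have h := key (-1) w
        simpa using h
      have h2 : ∀ w : K, ab D k ((c : K) * w) * ab D k' ((c' : K) * (x * w)) = 1 := by
        intro w
        have h := key (-x) (w / x)
        have e1 : (c : K) * x * (w / x) = (c : K) * w := by field_simp
        have e2 : (c' : K) * x ^ 2 * (w / x) = (c' : K) * (x * w) := by field_simp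
        simpa [e1, e2] using h
      have hk' : ∀ v : K, ab D k' v = 1 := by
        intro v
        have hne : x - 1 ≠ 0 := sub_ne_zero.2 hx1
        obtain ⟨w, hw⟩ : ∃ w : K, v = (c' : K) * ((x - 1) * w) := by
          refine ⟨(c' : K) * v / (x - 1), ?_⟩
          rw [mul_div_cancel₀ _ hne, ← mul_assoc, unit_sq c' hc', one_mul]
        have h := mul_left_cancel ((h1 w).trans (h2 w).symm)
        rw [show (c' : K) * (x * w) = (c' : K) * w + (c' : K) * ((x - 1) * w) by ring, hab, ← hw] at h
        exact left_eq_mul.1 h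
      have hkv : ∀ v : K, ab D k v = 1 := by
        intro v
        have h := h1 ((c : K) * v)
        rwa [hk', mul_one, ← mul_assoc, unit_sq c hc, one_mul] at h
      rcases hkq with rfl | rfl
      · exact hkv
      · exact hk'
    · rw [hl] at hp
      exfalso
      revert hp
      unfold pattern
      split <;> simp_all

end

theorem checkB2 : check chevB2 true certB2 [] = true := by decide +kernel
theorem checkG2 : check chevG2 true certG2 [] = true := by decide +kernel
theorem checkD4 : check chevD4 false certD4 [] = true := by decide +kernel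
theorem checkF4 : check chevF4 false certF4 [] = true := by decide +kernel
theorem checkE6 : check chevE6 false certE6 [] = true := by decide +kernel
theorem checkE7 : check chevE7 false certE7 [] = true := by decide +kernel
theorem checkE8 : check chevE8 false certE8 [] = true := by decide +kernel

/-- The group presented by Steinberg's generators x̄_r(t) subject only to (R1) (additivity) and (R2) (the commutator formula) is perfect, for each of the types G₂, B₂, D₄, F₄, E₆, E₇, E₈ over any field (for types B₂ and G₂ the field must have more than two elements — the cases where the Chevalley group is not simple are set aside). -/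
theorem result {K : Type*} [Field K] (D : Cfsg.Lie.ChevalleyDatum) (hD : D ∈ [Cfsg.Lie.chevG2, Cfsg.Lie.chevB2, Cfsg.Lie.chevD4, Cfsg.Lie.chevF4, Cfsg.Lie.chevE6, Cfsg.Lie.chevE7, Cfsg.Lie.chevE8]) (hK : D ∈ [Cfsg.Lie.chevB2, Cfsg.Lie.chevG2] → ∃ x : K, x ≠ 0 ∧ x ≠ 1) :
    commutator (D.SteinbergCover K) = ⊤ := by
  suffices h : ∀ q < D.nroots, ∀ t : K, ab D q t = 1 by
    rw [← Abelianization.ker_of, MonoidHom.ker_eq_top_iff]
    refine PresentedGroup.ext fun p => ?_
    rw [MonoidHom.one_apply]
    have hp := h p.1.val p.1.isLt p.2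
    simp only [ab, ChevalleyDatum.scGen, ChevalleyDatum.stX, dif_pos p.1.isLt, Fin.eta, Prod.mk.eta] at hp
    exact hp
  have key : ∀ (allowB : Bool) (cert : List (ℕ × ℕ × ℕ)),
      check D allowB cert [] = true → (allowB = true → ∃ x : K, x ≠ 0 ∧ x ≠ 1) →
      ∀ q < D.nroots, ∀ t : K, ab D q t = 1 := fun allowB cert hc hB =>
    check_sound D allowB hB cert [] hc (by simp)
  simp only [List.mem_cons, List.not_mem_nil, or_false] at hD
  rcases hD with rfl | rfl | rfl | rfl | rfl | rfl | rfl
  · exact key true _ checkG2 fun _ => hK (by simp)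
  · exact key true _ checkB2 fun _ => hK (by simp)
  · exact key false _ checkD4 (by simp)
  · exact key false _ checkF4 (by simp)
  · exact key false _ checkE6 (by simp)
  · exact key false _ checkE7 (by simp)
  · exact key false _ checkE8 (by simp)

end Cfsg.Agent.S2395
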