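import Cfsg.Statements.S3559
import Cfsg.Agent.Lib.RecogThree.SchurRegular
-- import your own Cfsg.Agent.* helpers here

set_option autoImplicit false
open Cfsg

namespace Cfsg.Agent.S3559

/-- Let G act faithfully and transitively on a finite set whose number of points n ≥ 2 is not a prime power, and suppose G has a cyclic subgroup acting regularly (transitively with trivial point stabilizers). Then G is imprimitive or doubly transitive. -/
theorem result {G Ω : Type*} [Group G] [Finite G] [MulAction G Ω] [FaithfulSMul G Ω] [Finite Ω]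
    (htrans : MulAction.IsPretransitive G Ω) (hn : 2 ≤ Nat.card Ω) (hnp : ¬ IsPrimePow (Nat.card Ω))
    (C : Subgroup G) (hcyc : IsCyclic ↥C) (hC : MulAction.IsPretransitive ↥C Ω ∧ ∀ a : Ω, MulAction.stabilizer ↥C a = ⊥) :
    ¬ MulAction.IsPreprimitive G Ω ∨ MulAction.IsMultiplyPretransitive G Ω 2 := by
  classical
  rw [or_iff_not_imp_left, not_not]
  intro hprim
  obtain ⟨hCt, hCs⟩ := hC
  have : Nontrivial Ω := Finite.one_lt_card_iff_nontrivial.1 (by omega)
  obtain ⟨a⟩ : Nonempty Ω := inferInstance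
  let : CommGroup ↥C := IsCyclic.commGroup
  have := Fintype.ofFinite ↥C
  have hbij : Function.Bijective (fun c : ↥C => c • a) := by
    refine ⟨fun c d h => ?_, fun b => MulAction.exists_smul_eq C a b⟩
    have : d⁻¹ * c ∈ MulAction.stabilizer C a := by
      show (d⁻¹ * c) • a = a
      rw [mul_smul]; exact inv_smul_eq_iff.2 h
    rw [hCs a, Subgroup.mem_bot] at this
    exact (inv_mul_eq_one.1 this).symm
  let e : ↥C ≃ Ω := Equiv.ofBijective _ hbij
  have hcard : Nat.card ↥C = Nat.card Ω := Nat.card_congr e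
  let φ : G → Equiv.Perm ↥C := fun g => e.trans ((MulAction.toPerm g).trans e.symm)
  have he : ∀ c : ↥C, e c = (c : G) • a := fun c => rfl
  have hφ : ∀ g c, ((φ g c : ↥C) : G) • a = g • (c : G) • a := fun g c => by
    rw [← he, ← he]; simp [φ]
  have huniq : ∀ c d : ↥C, (c : G) • a = (d : G) • a → c = d := fun c d h => hbij.1 h
  have hco : IsCoatom (MulAction.stabilizer G a) :=
    MulAction.IsPreprimitive.isCoatom_stabilizer_of_isPreprimitive G a
  let Φ : Set (Equiv.Perm ↥C) := {σ | ∃ g ∈ MulAction.stabilizer G a, φ g = σ}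
  have hΦ : Lib.RecogThree.SchurRegular.IsStab Φ := by
    constructor
    · rintro σ ⟨g, hg, rfl⟩
      refine huniq _ _ ?_
      rw [hφ]; simpa using hg
    · rintro σ ⟨g, hg, rfl⟩ s
      refine ⟨φ (((φ g s : ↥C) : G)⁻¹ * g * s), ⟨_, ?_, rfl⟩, fun u => huniq _ _ ?_⟩
      · show (((φ g s : ↥C) : G)⁻¹ * g * s) • a = a
        rw [mul_smul, mul_smul, ← hφ, inv_smul_smul]
      · rw [hφ, Subgroup.coe_mul, Subgroup.coe_mul, mul_smul ((φ g s : ↥C) : G), hφ, mul_smul, mul_smul,
          mul_smul, smul_inv_smul]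
    · rintro σ ⟨g, hg, rfl⟩
      refine ⟨g⁻¹, Subgroup.inv_mem _ hg, Equiv.ext fun c => huniq _ _ ?_⟩
      rw [hφ, inv_smul_eq_iff, ← hφ g, Equiv.apply_symm_apply]
    · exact ⟨1, Subgroup.one_mem _, Equiv.ext fun c => huniq _ _ (by rw [hφ, one_smul]; rfl)⟩
    · rintro σ ⟨g, hg, rfl⟩ τ ⟨k, hk, rfl⟩
      exact ⟨k * g, Subgroup.mul_mem _ hk hg, Equiv.ext fun c => huniq _ _ (by
        rw [hφ, Equiv.trans_apply, hφ, hφ, mul_smul])⟩
    · intro K hK
      let B : Set Ω := (fun c : ↥C => (c : G) • a) '' (K : Set ↥C)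
      let X : Subgroup G := Subgroup.closure ((MulAction.stabilizer G a : Set G) ∪ Subtype.val '' (K : Set ↥C))
      have hgen : ∀ g ∈ X, ∀ b ∈ B, g • b ∈ B := by
        intro g hg
        have hg' : g ∈ Submonoid.closure ((MulAction.stabilizer G a : Set G) ∪ Subtype.val '' (K : Set ↥C)) := by
          rw [← Subgroup.closure_toSubmonoid_of_finite]; exact hg
        clear hg
        induction hg' using Submonoid.closure_induction with
        | mem x hx =>
          rintro _ ⟨c, hc, rfl⟩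
          rcases hx with hx | ⟨k, hk, rfl⟩
          · exact ⟨φ x c, hK _ ⟨x, hx, rfl⟩ c hc, hφ x c⟩
          · exact ⟨k * c, K.mul_mem hk hc, mul_smul _ _ _⟩
        | one => intro b hb; rwa [one_smul]
        | mul x y _ _ hx hy => intro b hb; rw [mul_smul]; exact hx _ (hy b hb)
      have hle : MulAction.stabilizer G a ≤ X := fun g hg => Subgroup.subset_closure (Or.inl hg)
      rcases lt_or_eq_of_le hle with hlt | heq
      · right
        rw [eq_top_iff]
        intro c _
        obtain ⟨d, hd, hdc⟩ := hgen (c : G) (hco.2 X hlt ▸ Subgroup.mem_top _) a ⟨1, K.one_mem, by simp⟩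
        exact huniq d c hdc ▸ hd
      · left
        rw [Subgroup.eq_bot_iff_forall]
        intro c hc
        refine huniq c 1 ?_
        have : (c : G) ∈ MulAction.stabilizer G a :=
          heq ▸ Subgroup.subset_closure (Or.inr ⟨c, hc, rfl⟩)
        rw [MulAction.mem_stabilizer_iff.1 this]; simp
  obtain ⟨p, hp, hpd⟩ := Nat.exists_prime_and_dvd (n := Nat.card Ω) (by omega)
  obtain ⟨q, hq, hqd, hqp⟩ : ∃ q : ℕ, q.Prime ∧ q ∣ Nat.card Ω ∧ q ≠ p := by
    by_contra h
    push Not at h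
    have e1 := Nat.eq_prime_pow_of_unique_prime_dvd (n := Nat.card Ω) (by omega) (fun {d} hd hdd => h d hd hdd)
    refine hnp ⟨p, _, hp.prime, ?_, e1.symm⟩
    by_contra h0
    rw [Nat.eq_zero_of_not_pos h0, pow_zero] at e1
    omega
  have hS := Lib.RecogThree.SchurRegular.schur hΦ hp hq hqp.symm (hcard ▸ hpd) (hcard ▸ hqd)
  have key : ∀ x y : Ω, x ≠ a → y ≠ a → ∃ g ∈ MulAction.stabilizer G a, g • x = y := by
    intro x y hx hy
    obtain ⟨c, rfl⟩ := MulAction.exists_smul_eq C a x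
    obtain ⟨d, rfl⟩ := MulAction.exists_smul_eq C a y
    obtain ⟨σ, ⟨g, hg, rfl⟩, hgc⟩ := hS c d (fun h => hx (by rw [h, one_smul])) (fun h => hy (by rw [h, one_smul]))
    exact ⟨g, hg, by rw [Subgroup.smul_def, ← hφ, hgc]; rfl⟩
  rw [MulAction.is_two_pretransitive_iff]
  intro x y z w hxy hzw
  obtain ⟨g₁, hg₁⟩ := MulAction.exists_smul_eq G x a
  obtain ⟨g₂, hg₂⟩ := MulAction.exists_smul_eq G z a
  obtain ⟨k, hk, hkk⟩ := key (g₁ • y) (g₂ • w)
    (fun h => hxy (MulAction.injective g₁ (hg₁.trans h.symm)))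
    (fun h => hzw (MulAction.injective g₂ (hg₂.trans h.symm)))
  refine ⟨g₂⁻¹ * (k * g₁), ?_, ?_⟩
  · rw [mul_smul, mul_smul, hg₁, MulAction.mem_stabilizer_iff.1 hk, inv_smul_eq_iff, hg₂]
  · rw [mul_smul, mul_smul, hkk, inv_smul_smul]


end Cfsg.Agent.S3559
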