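import Cfsg.Statements.S3972
import Cfsg.Agent.Lib.Fg6.SchurCyclic
import Mathlib.Dynamics.PeriodicPts.Defs
import Mathlib.GroupTheory.GroupAction.Primitive
import Mathlib.GroupTheory.GroupAction.MultipleTransitivity
-- import your own Cfsg.Agent.* helpers here

set_option autoImplicit false
open Cfsg

namespace Cfsg.Agent.S3972

/-- Let `p` be a prime, `m ≥ 2`, and `G` a transitive but not doubly transitive permutation group on `p ^ m` points containing a permutation of order `p ^ m` (necessarily a full cycle). Then `G` is imprimitive, and the normal closure in `G` of the `p ^ (m - 1)`-th power of that permutation is an intransitive normal subgroup. -/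
theorem result {Ω : Type*} [Fintype Ω] [DecidableEq Ω] (p m : ℕ) (hp : p.Prime) (hm : 2 ≤ m) (hΩ : Fintype.card Ω = p ^ m) (G : Subgroup (Equiv.Perm Ω)) (htr : MulAction.IsPretransitive G Ω) (h2 : ¬ MulAction.IsMultiplyPretransitive G Ω 2) (g : G) (hg : orderOf g = p ^ m) : ¬ MulAction.IsPreprimitive G Ω ∧ ¬ MulAction.IsPretransitive (Subgroup.normalClosure ({g ^ (p ^ (m - 1))} : Set G)) Ω := by
  classical
  have hpp : p.Prime := hp
  have := Fact.mk hp
  obtain ⟨m, rfl⟩ : ∃ j, m = j + 1 := ⟨m - 1, by omega⟩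
  set σ : Equiv.Perm Ω := (g : Equiv.Perm Ω) with hσ
  have hσo : orderOf σ = p ^ (m + 1) := (Subgroup.orderOf_coe g).trans hg
  haveI : NeZero (p ^ (m + 1)) := ⟨pow_ne_zero _ hpp.ne_zero⟩
  -- a point with a full orbit
  obtain ⟨a, ha⟩ : ∃ a, (σ ^ p ^ m) a ≠ a := by
    by_contra! h
    have h1 : σ ^ p ^ m = 1 := Equiv.ext h
    have h2 := orderOf_dvd_of_pow_eq_one h1
    rw [hσo, Nat.pow_dvd_pow_iff_le_right hpp.one_lt] at h2
    omega
  have hper : ∀ i : ℕ, (σ ^ i) a = a → p ^ (m + 1) ∣ i := by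
    intro i hi
    have hstab : σ ^ i ∈ MulAction.stabilizer (Equiv.Perm Ω) a := hi
    by_contra hndvd
    have hg' : σ ^ Nat.gcd i (p ^ (m + 1)) ∈ MulAction.stabilizer (Equiv.Perm Ω) a := by
      rw [← zpow_natCast σ, Nat.gcd_eq_gcd_ab, zpow_add, zpow_mul, zpow_mul, zpow_natCast,
        zpow_natCast, ← hσo, pow_orderOf_eq_one, one_zpow, mul_one]
      exact Subgroup.zpow_mem _ hstab _
    obtain ⟨j, hj, hje⟩ := (Nat.dvd_prime_pow hpp).1 (Nat.gcd_dvd_right i (p ^ (m + 1)))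
    have hjm : j ≤ m := by
      by_contra hlt
      refine hndvd ?_
      rw [show j = m + 1 by omega] at hje
      exact hje ▸ Nat.gcd_dvd_left i _
    rw [hje] at hg'
    obtain ⟨d, rfl⟩ := Nat.exists_eq_add_of_le hjm
    refine ha ?_
    rw [pow_add, pow_mul]
    exact (MulAction.stabilizer (Equiv.Perm Ω) a).pow_mem hg' _
  let φ : ZMod (p ^ (m + 1)) → Ω := fun i => (σ ^ i.val) a
  have hφadd : ∀ i j : ZMod (p ^ (m + 1)), φ (i + j) = (σ ^ i.val) (φ j) := by
    intro i j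
    show (σ ^ (i + j).val) a = (σ ^ i.val) ((σ ^ j.val) a)
    rw [← Equiv.Perm.mul_apply, ← pow_add]
    refine congrArg (fun τ : Equiv.Perm Ω => τ a) (pow_eq_pow_iff_modEq.2 ?_)
    rw [hσo, ZMod.val_add]
    exact Nat.mod_modEq _ _
  have hφ0 : φ 0 = a := by simp [φ]
  have hφinj : Function.Injective φ := by
    intro i j hij
    have h1 : φ (-i + i) = φ (-i + j) := by rw [hφadd, hφadd, hij]
    rw [neg_add_cancel, hφ0] at h1
    have h2 := hper _ h1.symm
    have h3 : -i + j = 0 := by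
      rw [← ZMod.natCast_zmod_val (-i + j)]
      exact (ZMod.natCast_eq_zero_iff _ _).2 h2
    exact (neg_add_eq_zero.1 h3)
  let e : ZMod (p ^ (m + 1)) ≃ Ω := Equiv.ofBijective φ
    ((Fintype.bijective_iff_injective_and_card φ).2 ⟨hφinj, by rw [ZMod.card, hΩ]⟩)
  -- translations inside `G`
  let T : ZMod (p ^ (m + 1)) → G := fun i => g ^ i.val
  have hT : ∀ i j, (T i : Equiv.Perm Ω) (e j) = e (i + j) := fun i j => by
    show ((g ^ i.val : G) : Equiv.Perm Ω) (φ j) = φ (i + j)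
    rw [hφadd, Subgroup.coe_pow]
  have hT' : ∀ i j, ((T i)⁻¹ : G).1 (e j) = e (j - i) := fun i j => by
    have h1 := hT i (j - i)
    rw [add_sub_cancel] at h1
    rw [← h1, Subgroup.coe_inv]
    exact Equiv.symm_apply_apply _ _
  let π : G → Equiv.Perm (ZMod (p ^ (m + 1))) := fun h => (e.trans (h : Equiv.Perm Ω)).trans e.symm
  have hπ : ∀ h x, e (π h x) = (h : Equiv.Perm Ω) (e x) := fun h x => e.apply_symm_apply _
  let Ps : Set (Equiv.Perm (ZMod (p ^ (m + 1)))) := {τ | ∃ h : G, (h : Equiv.Perm Ω) a = a ∧ π h = τ}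
  have he0 : e 0 = a := hφ0
  -- every element shifts differences
  have hgen : ∀ (h : G) (w : ZMod (p ^ (m + 1))), ∃ τ ∈ Ps, ∀ z, π h z - π h w = τ (z - w) := by
    intro h w
    refine ⟨π ((T (π h w))⁻¹ * h * T w), ⟨_, ?_, rfl⟩, fun z => e.injective ?_⟩
    · rw [← he0, Subgroup.coe_mul, Subgroup.coe_mul, Equiv.Perm.mul_apply, Equiv.Perm.mul_apply, hT,
        add_zero, ← hπ, hT', sub_self]
    · rw [hπ, Subgroup.coe_mul, Subgroup.coe_mul, Equiv.Perm.mul_apply, Equiv.Perm.mul_apply, hT,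
        add_sub_cancel, ← hπ, hT']
  have hPs : Lib.Fg6.SchurCyclic.Coherent Ps :=
    ⟨fun τ ⟨h, ha', hτ⟩ => by
      subst hτ
      exact e.injective (by rw [hπ, he0, ha']),
     fun τ ⟨h, _, hτ⟩ w => hτ ▸ hgen h w⟩
  -- orbits of the stabiliser
  let O : ZMod (p ^ (m + 1)) → Finset (ZMod (p ^ (m + 1))) := fun x =>
    Finset.univ.filter fun y => ∃ τ ∈ Ps, τ x = y
  have hmul : ∀ τ ∈ Ps, ∀ τ' ∈ Ps, τ * τ' ∈ Ps := by
    rintro τ ⟨h, h1, rfl⟩ τ' ⟨h', h1', rfl⟩
    refine ⟨h * h', by rw [Subgroup.coe_mul, Equiv.Perm.mul_apply, h1', h1], Equiv.ext fun x => e.injective ?_⟩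
    rw [hπ, Equiv.Perm.mul_apply, hπ, hπ, Subgroup.coe_mul, Equiv.Perm.mul_apply]
  have hinv : ∀ τ ∈ Ps, τ⁻¹ ∈ Ps := by
    rintro τ ⟨h, h1, rfl⟩
    refine ⟨h⁻¹, ?_, ?_⟩
    · rw [Subgroup.coe_inv]
      conv_lhs => rw [← h1]
      exact Equiv.symm_apply_apply _ _
    · refine eq_inv_of_mul_eq_one_left (Equiv.ext fun x => e.injective ?_)
      rw [Equiv.Perm.mul_apply, hπ, hπ, Subgroup.coe_inv, Equiv.Perm.one_apply]
      exact Equiv.symm_apply_apply _ _
  have hone : (1 : Equiv.Perm (ZMod (p ^ (m + 1)))) ∈ Ps :=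
    ⟨1, rfl, Equiv.ext fun x => e.injective (hπ 1 x)⟩
  have hO : ∀ x, Lib.Fg6.SchurCyclic.Invariant Ps (O x : Set (ZMod (p ^ (m + 1)))) := by
    intro x τ hτ y
    simp only [O, Finset.coe_filter, Finset.mem_univ, true_and, Set.mem_ofPred_eq]
    constructor
    · rintro ⟨τ', hτ', h⟩
      exact ⟨τ⁻¹ * τ', hmul _ (hinv τ hτ) _ hτ', by rw [Equiv.Perm.mul_apply, h]; exact τ.symm_apply_apply y⟩
    · rintro ⟨τ', hτ', h⟩
      exact ⟨τ * τ', hmul _ hτ _ hτ', by rw [Equiv.Perm.mul_apply, h]⟩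
  have hdisj : ∀ x y, ∀ z ∈ O x, z ∈ O y → O x = O y := by
    intro x y z hx hy
    simp only [O, Finset.mem_filter, Finset.mem_univ, true_and] at hx hy
    obtain ⟨τ, hτ, hτz⟩ := hx
    obtain ⟨τ', hτ', hτz'⟩ := hy
    ext w
    simp only [O, Finset.mem_filter, Finset.mem_univ, true_and]
    constructor
    · rintro ⟨τ'', hτ'', rfl⟩
      refine ⟨τ'' * (τ⁻¹ * τ'), hmul _ hτ'' _ (hmul _ (hinv τ hτ) _ hτ'), ?_⟩
      rw [Equiv.Perm.mul_apply, Equiv.Perm.mul_apply, hτz', ← hτz]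
      exact congrArg τ'' (τ.symm_apply_apply x)
    · rintro ⟨τ'', hτ'', rfl⟩
      refine ⟨τ'' * (τ'⁻¹ * τ), hmul _ hτ'' _ (hmul _ (hinv τ' hτ') _ hτ), ?_⟩
      rw [Equiv.Perm.mul_apply, Equiv.Perm.mul_apply, hτz, ← hτz']
      exact congrArg τ'' (τ'.symm_apply_apply y)
  -- two orbits on the other points
  obtain ⟨x₁, x₂, hx₁, hx₂, hne⟩ : ∃ x₁ x₂, x₁ ≠ 0 ∧ x₂ ≠ 0 ∧ O x₁ ≠ O x₂ := by
    by_contra! hall
    refine h2 (MulAction.is_two_pretransitive_iff.2 ?_)
    intro u v s t huv hst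
    have hx : e.symm v - e.symm u ≠ 0 := sub_ne_zero.2 fun h => huv (e.symm.injective h).symm
    have hy : e.symm t - e.symm s ≠ 0 := sub_ne_zero.2 fun h => hst (e.symm.injective h).symm
    have h1 : e.symm t - e.symm s ∈ O (e.symm v - e.symm u) := by
      rw [hall _ _ hx hy]
      exact Finset.mem_filter.2 ⟨Finset.mem_univ _, 1, hone, rfl⟩
    obtain ⟨-, τ, ⟨h, ha', rfl⟩, hτ⟩ := Finset.mem_filter.1 h1
    refine ⟨T (e.symm s) * h * (T (e.symm u))⁻¹, ?_, ?_⟩
    · show ((T (e.symm s) * h * (T (e.symm u))⁻¹ : G) : Equiv.Perm Ω) u = s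
      conv_lhs => rw [← e.apply_symm_apply u]
      rw [Subgroup.coe_mul, Subgroup.coe_mul, Equiv.Perm.mul_apply, Equiv.Perm.mul_apply,
        hT', e.symm_apply_apply, sub_self, he0, ha', ← he0, hT, add_zero, e.apply_symm_apply]
    · show ((T (e.symm s) * h * (T (e.symm u))⁻¹ : G) : Equiv.Perm Ω) v = t
      conv_lhs => rw [← e.apply_symm_apply v]
      rw [Subgroup.coe_mul, Subgroup.coe_mul, Equiv.Perm.mul_apply, Equiv.Perm.mul_apply,
        hT', ← hπ, hτ, hT, add_sub_cancel, e.apply_symm_apply]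
  -- the invariant subgroup
  let K : AddSubgroup (ZMod (p ^ (m + 1))) := (nsmulAddMonoidHom (α := ZMod (p ^ (m + 1))) p).ker
  have hKc : Nat.card K = p := by
    show Nat.card (nsmulAddMonoidHom (α := ZMod (p ^ (m + 1))) p).ker = p
    rw [IsAddCyclic.card_nsmulAddMonoidHom_ker, Nat.card_zmod]
    exact Nat.gcd_eq_right (dvd_pow_self p (Nat.succ_ne_zero m))
  have hKtop : K ≠ ⊤ := fun h => by
    rw [h, AddSubgroup.card_top, Nat.card_zmod] at hKc
    have := Nat.pow_right_injective hpp.two_le (hKc.trans (pow_one p).symm)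
    omega
  obtain ⟨L, hLbot, hLtop, hL⟩ := Lib.Fg6.SchurCyclic.exists_invariant_subgroup (p := p) hPs
    (K := K) (fun x => Iff.rfl) hKc hKtop O hO
    (fun x => Finset.mem_filter.2 ⟨Finset.mem_univ _, 1, hone, rfl⟩) hdisj
    (fun x y hy => (Finset.mem_filter.1 hy).2)
    (fun x hx h0 => by
      obtain ⟨-, τ, hτ, hτx⟩ := Finset.mem_filter.1 h0
      exact hx (τ.injective (hτx.trans (hPs.zero τ hτ).symm)))
    hx₁ hx₂ hne
  have hrel : ∀ (h : G) (u v : Ω), e.symm v - e.symm u ∈ L →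
      e.symm ((h : Equiv.Perm Ω) v) - e.symm ((h : Equiv.Perm Ω) u) ∈ L := by
    intro h u v hd
    obtain ⟨τ, hτ, hτz⟩ := hgen h (e.symm u)
    have h1 := hτz (e.symm v)
    rw [show π h (e.symm v) = e.symm ((h : Equiv.Perm Ω) v) from by simp [π],
      show π h (e.symm u) = e.symm ((h : Equiv.Perm Ω) u) from by simp [π]] at h1
    rw [h1]
    exact hL τ hτ _ hd
  have hKL : K ≤ L := by
    obtain ⟨y, hyL, hy0⟩ := L.bot_or_exists_ne_zero.resolve_left hLbot
    have hLp : p ∣ Nat.card L := by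
      obtain ⟨j, hj, hje⟩ := (Nat.dvd_prime_pow hpp).1
        (show Nat.card L ∣ p ^ (m + 1) by simpa using AddSubgroup.card_addSubgroup_dvd_card L)
      rcases j with _ | j
      · exact absurd (AddSubgroup.eq_bot_of_card_eq _ (by simpa using hje)) hLbot
      · exact hje ▸ dvd_pow_self p (Nat.succ_ne_zero j)
    obtain ⟨z, hz⟩ := exists_prime_addOrderOf_dvd_card' (G := L) p hLp
    have hzK : (z : ZMod (p ^ (m + 1))) ∈ K := by
      show p • (z : ZMod (p ^ (m + 1))) = 0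
      have h1 := addOrderOf_nsmul_eq_zero z
      rw [hz] at h1
      simpa using congrArg (fun t : L => (t : ZMod (p ^ (m + 1)))) h1
    have h2 : AddSubgroup.zmultiples (z : ZMod (p ^ (m + 1))) = K :=
      AddSubgroup.eq_of_le_of_card_ge (AddSubgroup.zmultiples_le.2 hzK) (by
        rw [Nat.card_zmultiples, AddSubgroup.addOrderOf_coe, hz, hKc])
    rw [← h2]
    exact AddSubgroup.zmultiples_le.2 z.2
  constructor
  · intro hprim
    let B : Set Ω := {v | e.symm v ∈ L}
    have hBblock : MulAction.IsBlock G B := by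
      rw [MulAction.isBlock_iff_smul_eq_of_nonempty]
      intro h hne'
      obtain ⟨w, ⟨u, hu, hw⟩, hwB⟩ := hne'
      have hw' : w = (h : Equiv.Perm Ω) u := hw.symm
      subst hw'
      ext v
      rw [Set.mem_smul_set_iff_inv_smul_mem]
      show e.symm ((h⁻¹ : G).1 v) ∈ L ↔ e.symm v ∈ L
      constructor
      · intro hv
        have h1 := hrel h u _ (L.sub_mem hv hu)
        rw [show (h : Equiv.Perm Ω) ((h⁻¹ : G).1 v) = v from by
          rw [Subgroup.coe_inv]; exact Equiv.apply_symm_apply _ _] at h1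
        have h2 := L.add_mem h1 hwB
        rwa [sub_add_cancel] at h2
      · intro hv
        have h1 := hrel h⁻¹ _ v (L.sub_mem hv hwB)
        rw [show (h⁻¹ : G).1 ((h : Equiv.Perm Ω) u) = u from by
          rw [Subgroup.coe_inv]; exact Equiv.symm_apply_apply _ _] at h1
        have h2 := L.add_mem h1 hu
        rwa [sub_add_cancel] at h2
    rcases hprim.isTrivialBlock_of_isBlock hBblock with hs | hu
    · obtain ⟨y, hyL, hy0⟩ := L.bot_or_exists_ne_zero.resolve_left hLbot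
      have := hs (show e y ∈ B by simpa [B] using hyL) (show e 0 ∈ B by simp [B])
      exact hy0 (e.injective this)
    · refine hLtop (eq_top_iff.2 fun x _ => ?_)
      have := hu.ge (Set.mem_univ (e x))
      simpa [B] using this
  · intro htrans
    let M : Subgroup G :=
      { carrier := {h | ∀ u, e.symm ((h : Equiv.Perm Ω) u) - e.symm u ∈ L}
        one_mem' := fun u => by simp
        mul_mem' := fun {h k} hh hk u => by
          have h1 := L.add_mem (hh ((k : Equiv.Perm Ω) u)) (hk u)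
          rwa [sub_add_sub_cancel] at h1
        inv_mem' := fun {h} hh u => by
          have h1 := L.neg_mem (hh ((h⁻¹ : G).1 u))
          rwa [neg_sub, show (h : Equiv.Perm Ω) ((h⁻¹ : G).1 u) = u from by
            rw [Subgroup.coe_inv]; exact Equiv.apply_symm_apply _ _] at h1 }
    have hMn : M.Normal := ⟨fun h hh k u => by
      have h1 := hrel k _ _ (hh ((k⁻¹ : G).1 u))
      rwa [show (k : Equiv.Perm Ω) ((k⁻¹ : G).1 u) = u from by
        rw [Subgroup.coe_inv]; exact Equiv.apply_symm_apply _ _] at h1⟩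
    have hgM : g ^ p ^ m ∈ M := by
      intro u
      have h1 : p ^ m < p ^ (m + 1) := Nat.pow_lt_pow_right hpp.one_lt (Nat.lt_succ_self m)
      have h2 : ((g ^ p ^ m : G) : Equiv.Perm Ω) u = e ((p ^ m : ℕ) + e.symm u) := by
        rw [← hT, show T ((p ^ m : ℕ) : ZMod (p ^ (m + 1))) = g ^ p ^ m by
          simp only [T, ZMod.val_natCast, Nat.mod_eq_of_lt h1], e.apply_symm_apply]
      rw [h2, e.symm_apply_apply, add_sub_cancel_right]
      refine hKL ?_
      show p • ((p ^ m : ℕ) : ZMod (p ^ (m + 1))) = 0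
      rw [nsmul_eq_mul, ← Nat.cast_mul, ← pow_succ', ZMod.natCast_self]
    have hle : Subgroup.normalClosure ({g ^ p ^ (m + 1 - 1)} : Set G) ≤ M :=
      Subgroup.normalClosure_le_normal (by simpa using hgM)
    refine hLtop (eq_top_iff.2 fun x _ => ?_)
    obtain ⟨h, hh⟩ := htrans.exists_smul_eq (e 0) (e x)
    have h1 := hle h.2 (e 0)
    rw [show ((h : G) : Equiv.Perm Ω) (e 0) = e x from hh] at h1
    simpa using h1

end Cfsg.Agent.S3972
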