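import Cfsg.Statements.S0646


set_option autoImplicit false
open Cfsg

namespace Cfsg.Agent.S0646

/-- Classification of non-abelian 2-groups with a cyclic maximal subgroup: dihedral, generalized quaternion, and for order at least 16 the modular group and the semidihedral group, each given by generators a (of index 2) and b with the stated relations. -/
theorem result {G : Type*} [Group G] [Finite G] (n : ℕ) (hn : 3 ≤ n) (hG : Nat.card G = 2 ^ n) (C : Subgroup G) (hC : IsCyclic C) (hCi : C.index = 2) (hna : ∃ x y : G, x * y ≠ y * x) : ∃ a b : G, orderOf a = 2 ^ (n - 1) ∧ b ∉ Subgroup.zpowers a ∧ ((b ^ 2 = 1 ∧ b * a * b⁻¹ = a⁻¹) ∨ (b ^ 2 = a ^ (2 ^ (n - 2)) ∧ b * a * b⁻¹ = a⁻¹) ∨ (4 ≤ n ∧ b ^ 2 = 1 ∧ b * a * b⁻¹ = a ^ (1 + 2 ^ (n - 2))) ∨ (4 ≤ n ∧ b ^ 2 = 1 ∧ b * a * b⁻¹ = a ^ (2 ^ (n - 2) - 1))) := by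
  obtain ⟨m, rfl⟩ : ∃ m, n = m + 3 := ⟨n - 3, by omega⟩
  simp only [show m + 3 - 1 = m + 2 by omega, show m + 3 - 2 = m + 1 by omega]
  obtain ⟨a, ha⟩ := C.isCyclic_iff_exists_zpowers_eq_top.mp hC
  haveI hCn : C.Normal := Subgroup.normal_of_index_eq_two hCi
  have haC : a ∈ C := ha ▸ Subgroup.mem_zpowers a
  have hord : orderOf a = 2 ^ (m + 2) := by
    have h := C.card_mul_index
    rw [hCi, hG, pow_succ, ← ha, Nat.card_zpowers] at h
    omega
  have hz : ∀ x y : ℤ, ((2 : ℤ) ^ (m + 2) ∣ y - x) → a ^ x = a ^ y := fun x y h => by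
    rw [zpow_eq_zpow_iff_modEq, hord, Nat.cast_pow]
    exact Int.modEq_iff_dvd.2 h
  have hzd : ∀ x y : ℤ, a ^ x = a ^ y → (2 : ℤ) ^ (m + 2) ∣ y - x := fun x y h => by
    rw [zpow_eq_zpow_iff_modEq, hord, Nat.cast_pow] at h
    exact Int.modEq_iff_dvd.1 h
  obtain ⟨b, hbC⟩ : ∃ b, b ∉ C := by
    by_contra! h
    have : C = ⊤ := eq_top_iff.mpr fun x _ => h x
    rw [this, Subgroup.index_top] at hCi
    exact absurd hCi (by norm_num)
  obtain ⟨r, hr⟩ := Subgroup.mem_zpowers_iff.mp (ha ▸ hCn.conj_mem a haC b)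
  obtain ⟨s, hs⟩ := Subgroup.mem_zpowers_iff.mp
    (ha ▸ (Subgroup.mul_mem_iff_of_index_two hCi).2 ⟨fun h => absurd h hbC, fun h => absurd h hbC⟩ :
      b * b ∈ Subgroup.zpowers a)
  have hrs : (2 : ℤ) ^ (m + 2) ∣ r * s - s := by
    refine hzd _ _ ?_
    have : b * (a ^ s) * b⁻¹ = a ^ (r * s) := by rw [← conj_zpow, ← hr, ← zpow_mul]
    rw [← this, hs]; group
  have hrr : (2 : ℤ) ^ (m + 2) ∣ r * r - 1 := by
    refine hzd _ _ ?_
    have h1 : b * (b * a * b⁻¹) * b⁻¹ = a ^ (r * r) := by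
      rw [← hr, ← conj_zpow, ← hr, ← zpow_mul]
    have h2 : b * (b * a * b⁻¹) * b⁻¹ = a ^ (1 : ℤ) := by
      have : b * (b * a * b⁻¹) * b⁻¹ = (b * b) * a * (b * b)⁻¹ := by group
      rw [this, ← hs]; group
    rw [← h1, h2]
  have hr1 : ¬ (2 : ℤ) ^ (m + 2) ∣ r - 1 := by
    intro h
    have hba : Commute b a := by
      have h' := hz 1 r h
      rw [zpow_one, hr] at h'
      exact mul_inv_eq_iff_eq_mul.1 h'.symm
    obtain ⟨x, y, hxy⟩ := hna
    have hcom : ∀ g : G, ∃ i : ℤ, g = a ^ i ∨ g = a ^ i * b := by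
      intro g
      by_cases hg : g ∈ C
      · obtain ⟨i, hi⟩ := Subgroup.mem_zpowers_iff.mp (ha ▸ hg)
        exact ⟨i, Or.inl hi.symm⟩
      · have : g * b⁻¹ ∈ C := (Subgroup.mul_mem_iff_of_index_two hCi).2
          ⟨fun h => absurd h hg, fun h => absurd (C.inv_mem_iff.1 h) hbC⟩
        obtain ⟨i, hi⟩ := Subgroup.mem_zpowers_iff.mp (ha ▸ this)
        exact ⟨i, Or.inr (by rw [hi, inv_mul_cancel_right])⟩
    have hcg : ∀ g : G, Commute g a ∧ Commute g b := by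
      intro g
      obtain ⟨i, rfl | rfl⟩ := hcom g
      · exact ⟨(Commute.refl a).zpow_left i, hba.symm.zpow_left i⟩
      · exact ⟨((Commute.refl a).zpow_left i).mul_left hba,
          (hba.symm.zpow_left i).mul_left (Commute.refl b)⟩
    refine hxy ?_
    obtain ⟨i, rfl | rfl⟩ := hcom y
    · exact ((hcg x).1.zpow_right i).eq
    · exact (((hcg x).1.zpow_right i).mul_right (hcg x).2).eq
  -- the possible values of `r`
  have hodd : Odd r := by
    rcases Int.even_or_odd r with ⟨u, hu⟩ | h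
    · exfalso
      have h1 : (2 : ℤ) ∣ r * r - 1 := (dvd_pow_self 2 (by omega)).trans hrr
      have h2 : (2 : ℤ) ∣ r * r := ⟨u * r, by rw [hu]; ring⟩
      have := dvd_sub h2 h1
      rw [sub_sub_cancel] at this
      exact absurd (Int.le_of_dvd one_pos this) (by norm_num)
    · exact h
  obtain ⟨u, hu⟩ := hodd
  have hr4 : (2 : ℤ) ^ (m + 1) ∣ r - 1 ∨ (2 : ℤ) ^ (m + 1) ∣ r + 1 := by
    have h4 : (2 : ℤ) ^ m ∣ u * (u + 1) := by
      obtain ⟨w, hw⟩ := hrr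
      refine ⟨w, ?_⟩
      rw [hu, pow_add] at hw
      linarith
    have hco : ∀ v : ℤ, Odd v → IsCoprime ((2 : ℤ) ^ m) v := by
      rintro v ⟨w, rfl⟩
      exact IsCoprime.pow_left ⟨-w, 1, by ring⟩
    rcases Int.even_or_odd u with he | ho
    · obtain ⟨w, hw⟩ := (hco _ he.add_one).dvd_of_dvd_mul_right h4
      left; exact ⟨w, by rw [hu, hw, pow_succ]; ring⟩
    · obtain ⟨w, hw⟩ := (hco _ ho).dvd_of_dvd_mul_left h4
      right; exact ⟨w, by rw [hu, pow_succ]; linarith⟩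
  have hsq : ∀ i : ℤ, (a ^ i * b) ^ 2 = a ^ (i + r * i + s) := by
    intro i
    have h : (a ^ i * b) ^ 2 = a ^ i * (b * a ^ i * b⁻¹) * (b * b) := by rw [sq]; group
    rw [h, ← conj_zpow, ← hr, ← zpow_mul, ← hs, ← zpow_add, ← zpow_add]
  have hmk : ∀ i : ℤ, a ^ i * b ∉ Subgroup.zpowers a ∧
      (a ^ i * b) * a * (a ^ i * b)⁻¹ = a ^ r := by
    intro i
    refine ⟨fun h => hbC ?_, ?_⟩
    · rw [ha] at h
      exact (C.mul_mem_cancel_left (ha ▸ zpow_mem (Subgroup.mem_zpowers a) i)).1 h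
    · rw [show (a ^ i * b) * a * (a ^ i * b)⁻¹ = a ^ i * (b * a * b⁻¹) * (a ^ i)⁻¹ by group, ← hr]
      group
  have hpN : (2 : ℤ) ^ (m + 2) = 2 * 2 ^ (m + 1) := by rw [pow_succ']
  rcases hr4 with ⟨t, ht⟩ | ⟨t, ht⟩
  · rcases Int.even_or_odd t with ⟨t', ht'⟩ | ⟨t', ht'⟩
    · exact absurd ⟨t', by rw [ht, ht', hpN]; ring⟩ hr1
    -- `r = 1 + 2 ^ (m + 1)`
    rcases m with _ | m
    · -- order eight: this is inversion
      have hinv : a ^ r = a⁻¹ := by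
        rw [← zpow_neg_one]
        exact hz _ _ ⟨-(t' + 1), by norm_num at ht ⊢; omega⟩
      obtain ⟨w, hw⟩ := hrs
      have hs2 : (2 : ℤ) ∣ s := by
        rcases Int.even_or_odd s with ⟨s', hs'⟩ | ⟨s', hs'⟩
        · exact ⟨s', by omega⟩
        · exfalso
          have h1 : (2 : ℤ) * (2 * t' + 1) * (2 * s' + 1) = 4 * w := by
            rw [← hs', ← ht']; norm_num at hw ht ⊢; rw [← ht]; linarith
          have : (2 * t' + 1) * (2 * s' + 1) = 2 * w := by linarith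
          have hodd : Odd ((2 * t' + 1) * (2 * s' + 1)) :=
            (odd_two_mul_add_one t').mul (odd_two_mul_add_one s')
          rw [this] at hodd
          exact (Int.not_odd_iff_even.2 ⟨w, by ring⟩) hodd
      obtain ⟨s', hs'⟩ := hs2
      rcases Int.even_or_odd s' with ⟨q, hq⟩ | ⟨q, hq⟩
      · refine ⟨a, b, hord, ha ▸ hbC, Or.inl ⟨?_, hr ▸ hinv⟩⟩
        rw [sq, ← hs, ← zpow_zero a]
        exact hz _ _ ⟨-q, by norm_num; omega⟩
      · refine ⟨a, b, hord, ha ▸ hbC, Or.inr (Or.inl ⟨?_, hr ▸ hinv⟩)⟩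
        rw [sq, ← hs, ← zpow_natCast]
        exact hz _ _ ⟨-q, by norm_num; omega⟩
    have hs2 : (2 : ℤ) ∣ s := by
      obtain ⟨w, hw⟩ := hrs
      have h1 : (2 * t' + 1) * s = 2 * w := by
        have : (2 : ℤ) ^ (m + 2) * ((2 * t' + 1) * s) = (2 : ℤ) ^ (m + 2) * (2 * w) := by
          rw [← ht', ← mul_assoc, ← ht, hpN] at *
          linarith
        exact mul_left_cancel₀ (pow_ne_zero _ two_ne_zero) this
      exact ⟨w - t' * s, by linarith⟩
    obtain ⟨s', hs'⟩ := hs2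
    -- solve `i * (1 + r) + s = 0`
    obtain ⟨x, y, hxy⟩ : IsCoprime (1 + 2 ^ (m + 1) * t) ((2 : ℤ) ^ (m + 2)) := by
      refine IsCoprime.pow_right ⟨1, -(2 ^ m * t), by ring⟩
    refine ⟨a, a ^ (-(s' * x)) * b, hord, (hmk _).1, Or.inr (Or.inr (Or.inl ⟨by omega, ?_, ?_⟩))⟩
    · rw [hsq, ← zpow_zero a]
      refine hz _ _ ⟨-(s' * y), ?_⟩
      have hr' : r = 1 + 2 ^ (m + 2) * t := by linarith
      rw [hr', hs']
      linear_combination (2 * s') * hxy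
    · rw [(hmk _).2, ← zpow_natCast]
      refine hz _ _ ⟨-t', ?_⟩
      push_cast
      rw [hpN]
      linear_combination (-1 : ℤ) * ht - 2 ^ (m + 1 + 1) * ht'
  · rcases Int.even_or_odd t with ⟨t', ht'⟩ | ⟨t', ht'⟩
    · -- inversion
      have hinv : a ^ r = a⁻¹ := by
        rw [← zpow_neg_one]
        exact hz _ _ ⟨-t', by rw [hpN]; linear_combination (-1 : ℤ) * ht - 2 ^ (m + 1) * ht'⟩
      obtain ⟨w, hw⟩ := hrs
      have hs2 : (2 : ℤ) ^ (m + 1) ∣ s := by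
        refine ⟨t' * s - w, ?_⟩
        have hr' : r = 2 ^ (m + 1) * (t' + t') - 1 := by rw [← ht']; linarith
        rw [hr', hpN] at hw
        linarith
      obtain ⟨s', hs'⟩ := hs2
      rcases Int.even_or_odd s' with ⟨q, hq⟩ | ⟨q, hq⟩
      · refine ⟨a, b, hord, ha ▸ hbC, Or.inl ⟨?_, hr ▸ hinv⟩⟩
        rw [sq, ← hs, ← zpow_zero a]
        exact hz _ _ ⟨-q, by rw [hs', hq, hpN]; ring⟩
      · refine ⟨a, b, hord, ha ▸ hbC, Or.inr (Or.inl ⟨?_, hr ▸ hinv⟩)⟩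
        rw [sq, ← hs, ← zpow_natCast]
        exact hz _ _ ⟨-q, by push_cast; rw [hs', hq, hpN]; ring⟩
    -- `r = 2 ^ (m + 1) - 1`
    rcases m with _ | m
    · exact absurd ⟨t', by norm_num at ht ⊢; omega⟩ hr1
    obtain ⟨w, hw⟩ := hrs
    have hs2 : (2 : ℤ) ^ (m + 2) ∣ s := by
      -- `r - 1` is twice an odd number
      have hr' : r = 2 ^ (m + 2) * (2 * t' + 1) - 1 := by rw [← ht']; linarith
      rw [hr', hpN] at hw
      have h1 : (2 ^ (m + 1) * (2 * t' + 1) - 1) * s = 2 ^ (m + 2) * w := by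
        rw [pow_succ _ (m + 1)] at hw ⊢; linarith
      refine IsCoprime.dvd_of_dvd_mul_left ?_ ⟨w, h1⟩
      exact IsCoprime.pow_left ⟨2 ^ m * (2 * t' + 1), -1, by ring⟩
    obtain ⟨s', hs'⟩ := hs2
    refine ⟨a, a ^ (-s') * b, hord, (hmk _).1, Or.inr (Or.inr (Or.inr ⟨by omega, ?_, ?_⟩))⟩
    · rw [hsq, ← zpow_zero a]
      refine hz _ _ ⟨t' * s', ?_⟩
      rw [hpN]
      linear_combination s' * ht + 2 ^ (m + 1 + 1) * s' * ht' - hs'
    · rw [(hmk _).2, ← zpow_natCast]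
      refine hz _ _ ⟨-t', ?_⟩
      rw [Nat.cast_sub (Nat.one_le_two_pow)]
      push_cast
      rw [hpN]
      linear_combination (-1 : ℤ) * ht - 2 ^ (m + 1 + 1) * ht'

end Cfsg.Agent.S0646
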