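import Cfsg.Statements.S3178
import Mathlib
import Cfsg.Agent.Lib.Inv59.Basic
import Cfsg.Agent.Lib.Inv59.Modular
import Cfsg.Agent.Lib.Transfer.Frobenius

set_option autoImplicit false
open Cfsg

namespace Cfsg.Agent.S3178

open Cfsg.Agent.Lib.Inv59.Basic Cfsg.Agent.Lib.Inv59.Modular

/-- an odd-order element normalizing a subgroup of the modular Sylow 2-subgroup centralizes it -/
theorem centralizes {G : Type*} [Group G] [Finite G] (S : Sylow 2 G) {n : ℕ} {a b : G}
    (h : Data (S : Subgroup G) n a b) (Q : Subgroup G) (hQ : Q ≤ (S : Subgroup G)) (g : G)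
    (hg : g ∈ Subgroup.normalizer (Q : Set G)) (hgo : (orderOf g).Coprime 2) :
    ∀ x ∈ Q, Commute g x := by
  haveI : Fact (Nat.Prime 2) := ⟨Nat.prime_two⟩
  set z := zz n a with hz
  have hconj : ∀ x ∈ Q, g * x * g⁻¹ ∈ Q := fun x hx => (Subgroup.mem_normalizer_iff.1 hg x).1 hx
  have hcomm : ∀ x : G, g * x * g⁻¹ = x → Commute g x := fun x hx => mul_inv_eq_iff_eq_mul.1 hx
  have hinj : ∀ x : G, g * x * g⁻¹ = 1 → x = 1 := fun x hx => by
    apply (MulAut.conj g).injective
    simpa using hx
  have main : Commute g z → ∀ x ∈ Q, Commute g x := by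
    intro hgz
    suffices hm : ∀ k : ℕ, ∀ x ∈ Q, orderOf x ≤ k → Commute g x from fun x hx => hm _ x hx le_rfl
    intro k
    induction k with
    | zero => intro x _ hx; have := orderOf_pos x; omega
    | succ k ih =>
      intro x hxQ hxk
      refine fixed_of_fix_zz h hgo Q hQ hg hgz hxQ ?_
      rcases eq_or_ne x 1 with rfl | hx1
      · simp
      · refine ih _ (pow_mem hxQ 2) ?_
        have hdvd : 2 ∣ orderOf x := by
          obtain ⟨j, hj⟩ : ∃ j : ℕ, orderOf x = 2 ^ j := by
            obtain ⟨j, hj⟩ := S.isPGroup' ⟨x, hQ hxQ⟩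
            have hj' : x ^ 2 ^ j = 1 := congrArg Subtype.val hj
            obtain ⟨i, -, hi⟩ := (Nat.dvd_prime_pow Nat.prime_two).1 (orderOf_dvd_of_pow_eq_one hj')
            exact ⟨i, hi⟩
          rcases j with _ | j
          · exact absurd (orderOf_eq_one_iff.1 (by simpa using hj)) hx1
          · rw [hj]; exact dvd_pow_self 2 (Nat.succ_ne_zero j)
        rw [orderOf_pow, Nat.gcd_eq_right hdvd]
        have := orderOf_pos x
        omega
  by_cases hA : ∃ s ∈ Q, s ^ 2 ≠ 1
  · obtain ⟨s, hsQ, hs⟩ := hA
    apply main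
    apply hcomm
    obtain ⟨m, hm⟩ := sq_pow_eq_zz h (hQ hsQ) hs
    obtain ⟨k, hk⟩ := sq_mem h (hQ (hconj s hsQ))
    have e : g * z * g⁻¹ = a ^ (2 * k * (m : ℤ)) := by
      rw [zpow_mul, ← hk, zpow_natCast, conj_pow, conj_pow, hm]
    have h2 : (a ^ (2 * k * (m : ℤ))) ^ 2 = 1 := by
      rw [← e, conj_pow, sq z, zz_sq h]; group
    rw [e]
    exact (half_eq h h2).resolve_left (fun h1 => zz_ne_one h (hinj z (by rw [e, h1])))
  · push Not at hA
    have hQab : ∀ y ∈ Q, ∀ y' ∈ Q, y * y' = y' * y := by
      intro y hy y' hy'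
      have i1 : ∀ w ∈ Q, w⁻¹ = w := fun w hw => inv_eq_of_mul_eq_one_left (by rw [← sq]; exact hA w hw)
      calc y * y' = (y * y')⁻¹ := (i1 _ (mul_mem hy hy')).symm
        _ = y' * y := by rw [mul_inv_rev, i1 y hy, i1 y' hy']
    by_cases hzQ : z ∈ Q
    swap
    · intro x hx
      rcases eq_or_ne x 1 with rfl | hx1
      · simp
      have hna : ∀ y ∈ Q, y ≠ 1 → y ∉ Subgroup.zpowers a := by
        intro y hy hy1 hya
        obtain ⟨i, rfl⟩ := Subgroup.mem_zpowers_iff.1 hya
        exact hzQ (by rw [hz, ← (half_eq h (hA _ hy)).resolve_left hy1]; exact hy)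
      have hy1 : g * x * g⁻¹ ≠ 1 := fun e => hx1 (hinj x e)
      rcases fibre h (hQ hx) (hQ (hconj x hx)) (iff_of_false (hna x hx hx1) (hna _ (hconj x hx) hy1))
        (by rw [hA x hx, hA _ (hconj x hx)]) with e | e
      · exact hcomm x e
      · refine absurd ?_ hzQ
        have : z = x⁻¹ * (g * x * g⁻¹) := by rw [e, ← hz]; group
        rw [this]
        exact mul_mem (inv_mem hx) (hconj x hx)
    · apply main
      apply hcomm
      by_cases hbQ : b ∈ Q
      swap
      · -- then `Q` lies in `⟨a⟩`
        have hsub : ∀ y ∈ Q, y = 1 ∨ y = z := by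
          intro y hy
          rcases repr h (hQ hy) with ⟨i, rfl⟩ | ⟨i, rfl⟩
          · exact half_eq h (hA _ hy)
          · exfalso
            rcases fibre h h.mem_b (hQ hy) (iff_of_false (b_not_mem h) (fun hm =>
              b_not_mem h ((Subgroup.mul_mem_cancel_right _ (Subgroup.zpow_mem_zpowers a i)).1 hm)))
              (by rw [hA _ hy, sq b, b_sq h]) with e | e
            · exact hbQ (e ▸ hy)
            · refine hbQ ?_
              have : b = (b * a ^ i) * z := by
                rw [e, mul_assoc, ← hz, hz, zz_sq h, mul_one]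
              rw [this]
              exact mul_mem hy hzQ
        exact (hsub _ (hconj z hzQ)).resolve_left (fun e => zz_ne_one h (hinj z e))
      · set C := Subgroup.centralizer (Q : Set G) with hC
        set W := (S : Subgroup G) ⊓ C with hW
        have hQcases : ∀ y ∈ Q, y = 1 ∨ y = z ∨ y = b ∨ y = b * z := by
          intro y hy
          rcases repr h (hQ hy) with ⟨i, rfl⟩ | ⟨i, rfl⟩
          · rcases half_eq h (hA _ hy) with e | e
            · exact Or.inl e
            · exact Or.inr (Or.inl e)
          · rcases fibre h h.mem_b (hQ hy) (iff_of_false (b_not_mem h) (fun hm =>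
              b_not_mem h ((Subgroup.mul_mem_cancel_right _ (Subgroup.zpow_mem_zpowers a i)).1 hm)))
              (by rw [hA _ hy, sq b, b_sq h]) with e | e
            · exact Or.inr (Or.inr (Or.inl e))
            · exact Or.inr (Or.inr (Or.inr e))
        have hWmem : ∀ s ∈ (S : Subgroup G), s * b = b * s → s ∈ W := by
          intro s hs hsb
          refine ⟨hs, fun y hy => ?_⟩
          have hsz : Commute s z := zz_central h hs
          rcases hQcases y hy with rfl | rfl | rfl | rfl
          · simp
          · exact hsz.eq.symm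
          · exact hsb.symm
          · exact ((show Commute s b from hsb).mul_right hsz).eq.symm
        have hbW : b ∈ W := hWmem b h.mem_b rfl
        have heW : a ^ (2 : ℤ) ∈ W :=
          hWmem _ (zpow_mem h.mem_a 2) (comm_even h even_two).symm.eq
        have hlt : Subgroup.zpowers (a ^ (2 : ℤ)) < W := by
          refine lt_of_le_of_ne (Subgroup.zpowers_le.2 heW) (fun e => b_not_mem h ?_)
          have : b ∈ Subgroup.zpowers (a ^ (2 : ℤ)) := by rw [e]; exact hbW
          exact Subgroup.zpowers_le.2 (Subgroup.zpow_mem_zpowers a 2) this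
        have hn := h.three
        have hcW : 2 ^ n ≤ Nat.card ↥W := by
          have hd := Subgroup.card_dvd_of_le hlt.le
          have ho : Nat.card ↥(Subgroup.zpowers (a ^ (2 : ℤ))) = 2 ^ (n - 1) := by
            rw [Nat.card_zpowers, show (2 : ℤ) = ((2 : ℕ) : ℤ) from rfl, zpow_natCast, orderOf_pow, h.ord_a,
              Nat.gcd_eq_right (dvd_pow_self 2 (by omega)), ← two_pow_pred h, Nat.mul_div_cancel_left _ two_pos]
          have hne : Nat.card ↥(Subgroup.zpowers (a ^ (2 : ℤ))) ≠ Nat.card ↥W := fun e =>
            hlt.ne (Subgroup.eq_of_le_of_card_ge hlt.le e.ge)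
          rw [ho] at hd hne
          obtain ⟨c, hc⟩ := hd
          have hc2 : 2 ≤ c := by
            rcases c with _ | _ | c
            · simp [Nat.card_pos.ne'] at hc
            · simp [hc] at hne
            · omega
          rw [hc, ← two_pow_pred h, mul_comm]
          exact Nat.mul_le_mul_left _ hc2
        have hWp : IsPGroup 2 ↥W := S.isPGroup'.to_le inf_le_left
        obtain ⟨R, hR⟩ := (hWp.comap_subtype (K := C)).exists_le_sylow
        have hRW : (R : Subgroup ↥C).map C.subtype = W := by
          have hle : W ≤ (R : Subgroup ↥C).map C.subtype := fun w hw => ⟨⟨w, hw.2⟩, hR hw, rfl⟩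
          refine (Subgroup.eq_of_le_of_card_ge hle ?_).symm
          obtain ⟨u, -, hu⟩ := exists_conj_mem_sylow S ⊤ ((R : Subgroup ↥C).map C.subtype) le_top
            (R.isPGroup'.map _) le_top
          set Ru := ((R : Subgroup ↥C).map C.subtype).map (MulAut.conj u).toMonoidHom with hRu
          have hRuS : Ru ≤ (S : Subgroup G) := by
            rintro _ ⟨r, hr, rfl⟩
            exact hu r hr
          have hcard : Nat.card ↥Ru = Nat.card ↥((R : Subgroup ↥C).map C.subtype) :=
            Subgroup.card_map_of_injective (MulEquiv.injective _)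
          have hneS : Ru ≠ (S : Subgroup G) := by
            intro e
            have key : ∀ y ∈ Q, y ≠ 1 → u * y * u⁻¹ = z := by
              intro y hy hy1
              refine central_involution h ?_ ?_ ?_ ?_
              · exact hu y (hle ⟨hQ hy, fun y' hy' => hQab y' hy' y hy⟩)
              · obtain ⟨_, ⟨r, hr, rfl⟩, hru⟩ := e.ge h.mem_a
                rw [← hru]
                have hry : y * (C.subtype r) = (C.subtype r) * y := r.2 y hy
                show u * y * u⁻¹ * (u * C.subtype r * u⁻¹) = u * C.subtype r * u⁻¹ * (u * y * u⁻¹)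
                calc u * y * u⁻¹ * (u * C.subtype r * u⁻¹) = u * (y * C.subtype r) * u⁻¹ := by group
                  _ = _ := by rw [hry]; group
              · rw [conj_pow, hA y hy]; group
              · intro e1
                apply hy1
                apply (MulAut.conj u).injective
                simpa using e1
            have e2 := (key b hbQ (fun e' => b_not_mem h (by rw [e']; exact one_mem _))).trans
              (key z hzQ (zz_ne_one h)).symm
            have e3 : b = z := (MulAut.conj u).injective e2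
            exact b_not_mem h (by rw [e3]; exact pow_mem (Subgroup.mem_zpowers a) _)
          have hd := Subgroup.card_dvd_of_le hRuS
          have hlt' : Nat.card ↥Ru < Nat.card ↥(S : Subgroup G) :=
            lt_of_le_of_ne (Subgroup.card_le_of_le hRuS) (fun e =>
              hneS (Subgroup.eq_of_le_of_card_ge hRuS e.ge))
          rw [h.card] at hd hlt'
          obtain ⟨i, hi, hie⟩ := (Nat.dvd_prime_pow Nat.prime_two).1 hd
          rw [← hcard, hie]
          rw [hie] at hlt'
          have : i < n + 1 := (Nat.pow_lt_pow_iff_right (by norm_num)).1 hlt'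
          exact le_trans (Nat.pow_le_pow_right (by norm_num) (by omega)) hcW
        have hgC : ∀ c ∈ C, g * c * g⁻¹ ∈ C := by
          intro c hc y hy
          have hy' : g⁻¹ * y * g ∈ Q := (Subgroup.mem_normalizer_iff.1 hg _).2 (by simpa [mul_assoc] using hy)
          calc y * (g * c * g⁻¹) = g * ((g⁻¹ * y * g) * c) * g⁻¹ := by group
            _ = g * (c * (g⁻¹ * y * g)) * g⁻¹ := by rw [hc _ hy']
            _ = _ := by group
        have hP : IsPGroup 2 ↥(W.map (MulAut.conj g).toMonoidHom) := hWp.map _
        obtain ⟨R', hR'⟩ := (hP.comap_subtype (K := C)).exists_le_sylow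
        obtain ⟨c, hc⟩ := MulAction.exists_smul_eq ↥C R' R
        have he : g * a ^ (2 : ℤ) * g⁻¹ ∈ W.map (MulAut.conj g).toMonoidHom := ⟨_, heW, rfl⟩
        set r : ↥C := MulAut.conj c ⟨g * a ^ (2 : ℤ) * g⁻¹, hgC _ heW.2⟩ with hr'
        have hrR : r ∈ (R : Subgroup ↥C) := by
          rw [← hc, Sylow.coe_subgroup_smul]
          exact Subgroup.smul_mem_pointwise_smul _ _ _ (hR' he)
        have hrW : (r : G) ∈ W := hRW.le ⟨r, hrR, rfl⟩
        have hrb : (r : G) * b = b * (r : G) := (hrW.2 b hbQ).symm
        have hp := mem_centralizer_b h hrW.1 hrb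
        have hzgz : g * z * g⁻¹ ∈ Q := hconj z hzQ
        have epow : (r : G) ^ (2 ^ (n - 2)) = g * z * g⁻¹ := by
          have e1 : (r : G) = (c : G) * (g * a ^ (2 : ℤ) * g⁻¹) * (c : G)⁻¹ := by simp [hr']
          have e2 : (a ^ (2 : ℤ)) ^ (2 ^ (n - 2)) = z := by
            rw [show (2 : ℤ) = ((2 : ℕ) : ℤ) from rfl, zpow_natCast, ← pow_mul, ← pow_succ',
              show n - 2 + 1 = n - 1 by omega]
            rfl
          rw [e1, conj_pow, conj_pow, e2, ← c.2 _ hzgz, mul_inv_cancel_right]
        rw [← epow]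
        exact hp.resolve_left (fun e => zz_ne_one h (hinj z (by rw [← epow, e])))


/-- Groups with a modular Sylow 2-subgroup have a normal 2-complement. Let S, of order 2^(n+1) with n ≥ 3, be a Sylow 2-subgroup of a finite group G, and suppose S contains an element a of order 2^n and an involution b with b a b⁻¹ = a^(2^(n-1) + 1); so S is the non-abelian 2-group with a cyclic subgroup of index 2 that is neither dihedral, semidihedral nor generalized quaternion. Then G has a normal 2-complement. -/
theorem result {G : Type*} [Group G] [Finite G]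
    (S : Sylow 2 G) (n : ℕ) (hn : 3 ≤ n) (hS : Nat.card ↥(S : Subgroup G) = 2 ^ (n + 1))
    (a b : G) (ha : a ∈ (S : Subgroup G)) (hb : b ∈ (S : Subgroup G))
    (hao : orderOf a = 2 ^ n) (hbo : orderOf b = 2) (hrel : b * a * b⁻¹ = a ^ (2 ^ (n - 1) + 1)) :
    Cfsg.HasNormalPComplement 2 G := by
  haveI : Fact (Nat.Prime 2) := ⟨Nat.prime_two⟩
  have h : Data (S : Subgroup G) n a b := ⟨hn, hS, ha, hb, hao, hbo, hrel⟩
  refine Cfsg.Agent.Lib.Transfer.Frobenius.hasNormalPComplement_of_forall_centralizes ?_
  intro Q hQ _ g hg hgo x hx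
  obtain ⟨u, -, hu⟩ := exists_conj_mem_sylow S ⊤ Q le_top hQ le_top
  let f := (MulAut.conj u).toMonoidHom
  have key := centralizes S h (Q.map f) (by rintro _ ⟨y, hy, rfl⟩; exact hu y hy) (f g) ?_ ?_
    (f x) ⟨x, hx, rfl⟩
  · apply (MulAut.conj u).injective
    rw [map_mul, map_mul]
    exact key.eq.symm
  · rw [Subgroup.mem_normalizer_iff]
    intro y
    constructor
    · rintro ⟨y', hy', rfl⟩
      exact ⟨g * y' * g⁻¹, (Subgroup.mem_normalizer_iff.1 hg y').1 hy', by simp [f, mul_assoc]⟩
    · rintro ⟨y', hy', he⟩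
      refine ⟨g⁻¹ * y' * g, (Subgroup.mem_normalizer_iff.1 hg _).2 (by simpa [mul_assoc] using hy'), ?_⟩
      rw [map_mul, map_mul, map_inv, he]
      group
  · show (orderOf ((MulAut.conj u) g)).Coprime 2
    rw [MulEquiv.orderOf_eq]
    exact hgo

end Cfsg.Agent.S3178
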