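import Cfsg.Statements.S0102
import Mathlib.GroupTheory.Transfer
import Mathlib.GroupTheory.Abelianization.Defs
import Mathlib.GroupTheory.SpecificGroups.Cyclic

set_option autoImplicit false
open Cfsg

namespace Cfsg.Agent.S0102

/-- A finite perfect group with cyclic Sylow p-subgroups has no perfect central extension whose kernel has order divisible by p. -/
theorem result {G : Type*} {H : Type*} [Group G] [Group H] [Finite G] [Finite H] (hG : commutator G = ⊤) {p : ℕ} [Fact p.Prime] (hcyc : ∀ P : Sylow p G, IsCyclic P) (σ : H →* G) (hσ : Function.Surjective σ) (hz : σ.ker ≤ Subgroup.center H) (hH : commutator H = ⊤) : ¬ p ∣ Nat.card σ.ker := by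
  intro hdvd
  obtain ⟨Q⟩ : Nonempty (Sylow p H) := inferInstance
  -- `Q` is abelian: its image is cyclic and the kernel is central
  let P := Q.mapSurjective hσ
  have hPc := hcyc P
  have hQab : IsMulCommutative (Q : Subgroup H) := by
    let f : (Q : Subgroup H) →* (P : Subgroup G) :=
      (σ.comp (Q : Subgroup H).subtype).codRestrict _ fun x => ⟨x, x.2, rfl⟩
    refine ⟨⟨fun a b => ?_⟩⟩
    refine commutative_of_cyclic_center_quotient f ?_ a b
    intro x hx
    have h1 : σ x = 1 := congrArg Subtype.val hx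
    rw [Subgroup.mem_center_iff]
    exact fun y => Subtype.ext (Subgroup.mem_center_iff.mp (hz h1) y)
  open scoped IsMulCommutative in
  let V : H →* (Q : Subgroup H) := MonoidHom.transfer (MonoidHom.id (Q : Subgroup H))
  have hV : ∀ h, V h = 1 := by
    intro h
    have h1 : commutator H ≤ V.ker := by
      rw [commutator_def, Subgroup.commutator_le]
      intro a _ b _
      rw [MonoidHom.mem_ker, map_commutatorElement, commutatorElement_eq_one_iff_mul_comm]
      exact hQab.is_comm.comm _ _
    exact h1 (hH ▸ Subgroup.mem_top h)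
  obtain ⟨z, hzo⟩ := exists_prime_orderOf_dvd_card' (G := σ.ker) p hdvd
  have hzc : (z : H) ∈ Subgroup.center H := hz z.2
  have hzo' : orderOf (z : H) = p := by rw [Subgroup.orderOf_coe, hzo]
  -- the central element `z` lies in `Q`
  have hzQ : (z : H) ∈ (Q : Subgroup H) := by
    obtain ⟨R, hR⟩ := IsPGroup.exists_le_sylow (p := p) (P := Subgroup.zpowers (z : H))
      (IsPGroup.of_card (n := 1) (by rw [Nat.card_zpowers, hzo', pow_one]))
    obtain ⟨g, rfl⟩ := MulAction.exists_smul_eq H Q R
    have := hR (Subgroup.mem_zpowers (z : H))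
    rw [Sylow.coe_subgroup_smul, Subgroup.mem_pointwise_smul_iff_inv_smul_mem] at this
    simpa [MulAut.smul_def, MulAut.conj_apply, mul_assoc, ← (Subgroup.mem_center_iff.mp hzc g)]
      using this
  open scoped IsMulCommutative in
  have hpow : V (z : H) = ⟨(z : H), hzQ⟩ ^ (Q : Subgroup H).index := by
    have key : ∀ (k : ℕ) (g₀ : H), g₀⁻¹ * (z : H) ^ k * g₀ ∈ (Q : Subgroup H) →
        g₀⁻¹ * (z : H) ^ k * g₀ = (z : H) ^ k := fun k g₀ _ => by
      rw [mul_assoc, ← Subgroup.mem_center_iff.mp (pow_mem hzc k) g₀, inv_mul_cancel_left]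
    have h := MonoidHom.transfer_eq_pow (ϕ := MonoidHom.id (Q : Subgroup H)) (z : H) key
    apply Subtype.ext
    exact (congrArg Subtype.val h).trans (by simp)
  rw [hV] at hpow
  have h1 : orderOf (⟨(z : H), hzQ⟩ : (Q : Subgroup H)) ∣ (Q : Subgroup H).index :=
    orderOf_dvd_of_pow_eq_one hpow.symm
  rw [← Subgroup.orderOf_coe, hzo'] at h1
  exact Q.not_dvd_index h1

end Cfsg.Agent.S0102
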