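import Cfsg.Statements.S1510
import Mathlib
import Cfsg.Agent.Lib.Isometry.TI
-- import your own Cfsg.Agent.* helpers here

set_option autoImplicit false
open Cfsg

namespace Cfsg.Agent.S1510

/-- Let L be a finite group with a normal subgroup K and a nontrivial cyclic subgroup W₁ of order coprime to its index, K ⊓ W₁ = ⊥ and K ⊔ W₁ = ⊤; let W₂ ≠ ⊥ be a cyclic subgroup of K with K ⊓ C_L(x) = W₂ for every non-identity x ∈ W₁, and suppose W₁ ⊔ W₂ has odd order. Then (W₁, W₂) is a self-normalising cyclic pair in L. -/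
theorem result {L : Type*} [Group L] [Fintype L] (K W₁ W₂ : Subgroup L) [hK : K.Normal] (hKW₁ : K ⊓ W₁ = ⊥) (hKW₁' : K ⊔ W₁ = ⊤) (hW₁ : W₁ ≠ ⊥) (hW₁c : IsCyclic W₁) (hHall : Nat.Coprime (Nat.card W₁) W₁.index) (hW₂ : W₂ ≠ ⊥) (hW₂c : IsCyclic W₂) (hW₂K : W₂ ≤ K) (hC : ∀ x ∈ W₁, x ≠ 1 → K ⊓ Subgroup.centralizer ({x} : Set L) = W₂) (hodd : Odd (Nat.card ↥(W₁ ⊔ W₂))) : Cfsg.IsSelfNormalizingCyclic W₁ W₂ := by
  haveI := hW₁c
  haveI := hW₂c
  have hcompl : Subgroup.IsComplement' K W₁ :=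
    Subgroup.isComplement'_of_disjoint_and_mul_eq_univ (disjoint_iff.2 hKW₁)
      (by rw [← Subgroup.normal_mul, hKW₁', Subgroup.coe_top])
  have hcopK : Nat.Coprime (Nat.card W₁) (Nat.card K) := by
    rw [hcompl.index_eq_card] at hHall
    exact hHall
  have hcomm : ∀ a ∈ W₁, ∀ b ∈ W₂, a * b = b * a := by
    intro a ha b hb
    by_cases h : a = 1
    · simp [h]
    · have := (hC a ha h).ge hb
      exact (Subgroup.mem_centralizer_singleton_iff.1 this.2).symm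
  have hdisj : W₁ ⊓ W₂ = ⊥ := eq_bot_iff.2 (le_trans (le_inf (inf_le_right.trans hW₂K) inf_le_left) hKW₁.le)
  have hnorm : W₁ ≤ Subgroup.normalizer (W₂ : Set L) := by
    rw [Subgroup.le_normalizer_iff]
    intro a ha b hb
    rw [hcomm a ha b hb, mul_inv_cancel_right]; exact hb
  have hmemW : ∀ w ∈ W₁ ⊔ W₂, ∃ a ∈ W₁, ∃ b ∈ W₂, a * b = w := by
    intro w hw
    rw [← SetLike.mem_coe, Subgroup.coe_mul_of_left_le_normalizer_right _ _ hnorm] at hw
    obtain ⟨a, ha, b, hb, rfl⟩ := hw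
    exact ⟨a, ha, b, hb, rfl⟩
  have hcyc : IsCyclic ↥(W₁ ⊔ W₂) := by
    have hcop2 : Nat.Coprime (Nat.card W₁) (Nat.card W₂) :=
      hcopK.coprime_dvd_right (Subgroup.card_dvd_of_le hW₂K)
    obtain ⟨a, ha⟩ := hW₁c.exists_generator
    obtain ⟨b, hb⟩ := hW₂c.exists_generator
    have hab : Commute (a : L) b := hcomm a a.2 b b.2
    have hoa : orderOf (a : L) = Nat.card W₁ := by
      rw [Subgroup.orderOf_coe, orderOf_eq_card_of_forall_mem_zpowers ha]
    have hob : orderOf (b : L) = Nat.card W₂ := by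
      rw [Subgroup.orderOf_coe, orderOf_eq_card_of_forall_mem_zpowers hb]
    have hoab : orderOf ((a : L) * b) = Nat.card W₁ * Nat.card W₂ := by
      rw [hab.orderOf_mul_eq_mul_orderOf_of_coprime (by rw [hoa, hob]; exact hcop2), hoa, hob]
    have heq : Subgroup.zpowers ((a : L) * b) = W₁ ⊔ W₂ := by
      apply Subgroup.eq_of_le_of_card_ge
      · rw [Subgroup.zpowers_le]
        exact Subgroup.mul_mem_sup a.2 b.2
      · rw [Nat.card_zpowers, hoab, ← Nat.card_prod]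
        exact Nat.card_le_card_of_surjective
          (fun p : W₁ × W₂ => (⟨(p.1 : L) * p.2, Subgroup.mul_mem_sup p.1.2 p.2.2⟩ : ↥(W₁ ⊔ W₂)))
          (fun ⟨w, hw⟩ => by
            obtain ⟨x, hx, y, hy, e⟩ := hmemW w hw
            exact ⟨(⟨x, hx⟩, ⟨y, hy⟩), Subtype.ext e⟩)
    rw [← heq]; infer_instance
  refine ⟨hW₁, hW₂, hdisj, hcomm, hcyc, fun X hX hXne => le_antisymm ?_ ?_⟩
  · intro g hg
    obtain ⟨w, hw⟩ := hXne
    obtain ⟨a, ha, b, hb, rfl⟩ := hmemW w (hX hw).1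
    obtain ⟨a', ha', b', hb', e⟩ := hmemW _ (hX (((Subgroup.mem_set_normalizer_iff.1 hg) _).1 hw)).1
    have ha1 : a ≠ 1 := fun h => (hX hw).2 (Or.inr (by simpa [h] using hb))
    obtain ⟨k, hk1, hk0⟩ := Nat.chineseRemainder hcopK 1 0
    have hpow : ∀ u ∈ W₁, ∀ v ∈ W₂, (u * v) ^ k = u := by
      intro u hu v hv
      rw [(show Commute u v from hcomm u hu v hv).mul_pow]
      have e1 : u ^ k = u := by
        conv_rhs => rw [← pow_one u]
        exact pow_eq_pow_iff_modEq.2 (hk1.of_dvd (Subgroup.orderOf_dvd_natCard _ hu))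
      have e2 : v ^ k = 1 := orderOf_dvd_iff_pow_eq_one.1
        (dvd_trans (Subgroup.orderOf_dvd_natCard _ (hW₂K hv)) (Nat.modEq_zero_iff_dvd.1 hk0))
      rw [e1, e2, mul_one]
    have e2 : g * a * g⁻¹ = a' := by
      have := congrArg (· ^ k) e.symm
      simpa only [conj_pow, hpow a ha b hb, hpow a' ha' b' hb'] using this
    have hg' : g ∈ ((K ⊔ W₁ : Subgroup L) : Set L) := by rw [hKW₁']; trivial
    rw [Subgroup.normal_mul] at hg'
    obtain ⟨c, hc, v, hv, rfl⟩ := hg'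
    have hva : v * a * v⁻¹ = a := by
      haveI : IsMulCommutative W₁ := IsCyclic.isMulCommutative
      have h' : (⟨v, hv⟩ : W₁) * ⟨a, ha⟩ = ⟨a, ha⟩ * ⟨v, hv⟩ := mul_comm' _ _
      have h'' : v * a = a * v := congrArg Subtype.val h'
      rw [h'', mul_inv_cancel_right]
    have e3 : c * a * c⁻¹ = a' := by
      rw [← e2]
      calc c * a * c⁻¹ = c * (v * a * v⁻¹) * c⁻¹ := by rw [hva]
        _ = _ := by group
    have hK' : a' * a⁻¹ ∈ K := by
      rw [← e3, mul_assoc, mul_assoc]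
      exact K.mul_mem hc (by simpa [mul_assoc] using hK.conj_mem c⁻¹ (K.inv_mem hc) a)
    have haa : a' = a := by
      have : a' * a⁻¹ ∈ K ⊓ W₁ := ⟨hK', W₁.mul_mem ha' (W₁.inv_mem ha)⟩
      rw [hKW₁, Subgroup.mem_bot, mul_inv_eq_one] at this
      exact this
    rw [haa] at e3
    have hcW : c ∈ W₂ := by
      rw [← hC a ha ha1]
      exact ⟨hc, Cfsg.Agent.Lib.Isometry.TI.mem_centralizer_of_conj_eq e3⟩
    exact (W₁ ⊔ W₂).mul_mem (Subgroup.mem_sup_right hcW) (Subgroup.mem_sup_left hv)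
  · rw [Subgroup.le_set_normalizer_iff]
    intro h hh x hx
    haveI : IsMulCommutative ↥(W₁ ⊔ W₂) := IsCyclic.isMulCommutative
    have h' : (⟨h, hh⟩ : ↥(W₁ ⊔ W₂)) * ⟨x, (hX hx).1⟩ = ⟨x, (hX hx).1⟩ * ⟨h, hh⟩ := mul_comm' _ _
    have h'' : h * x = x * h := congrArg Subtype.val h'
    rwa [h'', mul_inv_cancel_right]

end Cfsg.Agent.S1510
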