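import Cfsg.Statements.S0671
import Cfsg.Agent.Lib.Perm.Modules
import Mathlib.Combinatorics.Enumerative.DoubleCounting

set_option autoImplicit false
open Cfsg MulAction Cfsg.Agent.Lib.Perm Cfsg.Agent.Lib.Perm.Modules
open scoped Pointwise

namespace Cfsg.Agent.S0671

/-- If the heart of the permutation module in characteristic `p` of a transitive action of degree `p ^ f` has no trivial composition factor, the action is doubly transitive. The hypothesis is phrased without composition series: no invariant subspaces `W < W'` between the constants and the sum-zero functions with trivial action on the quotient. -/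
theorem result {G : Type*} [Group G] [Finite G] {K : Type*} [Field K] {p f : ℕ} [Fact p.Prime] [CharP K p] {Ω : Type*} [Fintype Ω] [MulAction G Ω] [MulAction.IsPretransitive G Ω] (hf : 1 ≤ f) (hcard : Fintype.card Ω = p ^ f) (h : ∀ W W' : Subrepresentation (Cfsg.permRep K G Ω), (Cfsg.permConstants K G Ω).toSubmodule ≤ W.toSubmodule → W.toSubmodule < W'.toSubmodule → W'.toSubmodule ≤ (Cfsg.permSumZero K G Ω).toSubmodule → ∃ g : G, ∃ v ∈ W'.toSubmodule, Cfsg.permRep K G Ω g v - v ∉ W.toSubmodule) : MulAction.IsMultiplyPretransitive G Ω 2 := by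
  classical
  rw [MulAction.is_two_pretransitive_iff]
  intro a b c d hab hcd
  obtain ⟨g₀, hg₀⟩ := exists_smul_eq G c a
  have hd : g₀ • d ≠ a := by
    rw [← hg₀]; exact fun e => hcd (smul_left_cancel g₀ e).symm
  by_cases hex : ∃ g : G, g • (a, b) = (a, g₀ • d)
  · obtain ⟨g, hg⟩ := hex
    rw [Prod.ext_iff] at hg
    refine ⟨g₀⁻¹ * g, ?_, ?_⟩
    · rw [mul_smul, show g • a = a from hg.1, ← hg₀, inv_smul_smul]
    · rw [mul_smul, show g • b = g₀ • d from hg.2, inv_smul_smul]
  exfalso
  set d' := g₀ • d with hd'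
  let O : Ω → Ω → Prop := fun x y => (x, y) ∈ orbit G (a, b)
  have hO : ∀ (g : G) x y, O (g • x) (g • y) ↔ O x y :=
    fun g x y => by
      refine ⟨fun ⟨k, hk⟩ => ⟨g⁻¹ * k, ?_⟩, fun ⟨k, hk⟩ => ⟨g * k, ?_⟩⟩
      · change (g⁻¹ * k) • (a, b) = (x, y)
        rw [mul_smul, show k • (a, b) = g • (x, y) from hk, inv_smul_smul]
      · change (g * k) • (a, b) = g • (x, y)
        rw [mul_smul, show k • (a, b) = (x, y) from hk]
  let cf : Ω → Ω → K := fun x y => if O x y then 1 else 0
  let k : ℕ := (Finset.univ.filter fun x => O x a).card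
  have hcol : ∀ y, (Finset.univ.filter fun x => O x y).card = k := by
    intro y
    obtain ⟨g, rfl⟩ := exists_smul_eq G a y
    refine (Finset.card_equiv (MulAction.toPerm g) fun x => ?_).symm
    simp [hO]
  let k' : ℕ := (Finset.univ.filter fun y => O a y).card
  have hrow : ∀ x, (Finset.univ.filter fun y => O x y).card = k' := by
    intro x
    obtain ⟨g, rfl⟩ := exists_smul_eq G a x
    refine (Finset.card_equiv (MulAction.toPerm g) fun y => ?_).symm
    simp [hO]
  have hkk : k' = k := by
    have h1 := Finset.sum_card_bipartiteAbove_eq_sum_card_bipartiteBelow O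
      (s := Finset.univ) (t := Finset.univ)
    simp only [Finset.bipartiteAbove, Finset.bipartiteBelow, hcol, hrow, Finset.sum_const,
      smul_eq_mul] at h1
    exact Nat.eq_of_mul_eq_mul_left (Finset.card_pos.mpr ⟨a, Finset.mem_univ a⟩) h1
  let T : (Ω → K) →ₗ[K] (Ω → K) := kernelMap cf - (k : K) • LinearMap.id
  have hTc : ∀ (g : G) v, T (permRep K G Ω g v) = permRep K G Ω g (T v) := by
    intro g v
    simp only [T, LinearMap.sub_apply, LinearMap.smul_apply, LinearMap.id_apply, map_sub, map_smul]
    rw [kernelMap_comm (c := cf) (fun g x y => by simp only [cf, hO])]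
  have hcfab : cf a b = 1 := if_pos (mem_orbit_self _)
  have hcfad : cf a d' = 0 := if_neg fun ⟨g, hg⟩ => hex ⟨g, hg⟩
  have hTb : T (Pi.single a 1) b = 1 := by
    simp [T, kernelMap_single, hcfab, Pi.single_eq_of_ne hab.symm]
  have hTd : T (Pi.single a 1) d' = 0 := by
    simp [T, kernelMap_single, hcfad, Pi.single_eq_of_ne hd]
  let C := (permConstants K G Ω).toSubmodule
  let S := (permSumZero K G Ω).toSubmodule
  have hTC : ∀ v, T v ∈ S := by
    intro v
    refine mem_permSumZero.mpr ?_
    simp only [T, LinearMap.sub_apply, LinearMap.smul_apply, LinearMap.id_apply, Pi.sub_apply,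
      Pi.smul_apply, smul_eq_mul, Finset.sum_sub_distrib]
    rw [sub_eq_zero]
    change ∑ y, ∑ x, cf x y * v x = _
    rw [Finset.sum_comm]
    refine Finset.sum_congr rfl fun x _ => ?_
    simp only [cf, ← Finset.sum_mul, Finset.sum_boole, hrow, hkk]
  have hnotC : T (Pi.single a 1) ∉ C := fun hh => by
    obtain ⟨r, hr⟩ := mem_permConstants.mp hh
    have h1 : (1 : K) = r := hTb ▸ congrFun hr b
    have h0 : (0 : K) = r := hTd ▸ congrFun hr d'
    exact zero_ne_one (h0.trans h1.symm)
  have hS_ne : (Pi.single a 1 : Ω → K) ∉ S := fun hh => by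
    have := mem_permSumZero.mp hh
    simp at this
  let W' : Subrepresentation (permRep K G Ω) :=
    { toSubmodule := LinearMap.range T
      apply_mem_toSubmodule := fun g v hv => by
        obtain ⟨u, rfl⟩ := hv
        exact ⟨permRep K G Ω g u, hTc g u⟩ }
  let W₀ : Subrepresentation (permRep K G Ω) :=
    { toSubmodule := S.map T
      apply_mem_toSubmodule := fun g v hv => by
        obtain ⟨u, hu, rfl⟩ := hv
        exact ⟨permRep K G Ω g u, (permSumZero K G Ω).apply_mem_toSubmodule g hu, hTc g u⟩ }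
  let N : Subrepresentation (permRep K G Ω) :=
    { toSubmodule := LinearMap.ker T
      apply_mem_toSubmodule := fun g v hv => by
        rw [LinearMap.mem_ker] at hv ⊢
        rw [hTc, hv, map_zero] }
  let W : Subrepresentation (permRep K G Ω) := W₀ ⊔ permConstants K G Ω
  have hW' : W'.toSubmodule ≠ ⊥ := fun hb => hnotC (by
    have : T (Pi.single a 1) ∈ W'.toSubmodule := ⟨_, rfl⟩
    rw [hb, Submodule.mem_bot] at this
    rw [this]; exact zero_mem _)
  have hCW' : C ≤ W'.toSubmodule := constants_mem_of_ne_bot hcard W' hW'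
  have hN : N.toSubmodule ≤ S := le_sumZero_of_ne_top hcard N fun ht => hnotC (by
    have h1 : (Pi.single a 1 : Ω → K) ∈ N.toSubmodule := ht ▸ Submodule.mem_top
    rw [LinearMap.mem_ker] at h1
    rw [h1]; exact zero_mem _)
  have hmem : T (Pi.single a 1) ∉ W.toSubmodule := by
    intro hh
    by_cases h0 : W₀.toSubmodule = ⊥
    · have : W.toSubmodule = C := by
        change W₀.toSubmodule ⊔ C = C
        rw [h0, bot_sup_eq]
      exact hnotC (this ▸ hh)
    · have : W.toSubmodule = W₀.toSubmodule :=
        sup_eq_left.mpr (constants_mem_of_ne_bot hcard W₀ h0)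
      rw [this] at hh
      obtain ⟨u, hu, hue⟩ := hh
      apply hS_ne
      have h1 : (Pi.single a 1 - u) ∈ N.toSubmodule := by
        rw [LinearMap.mem_ker, map_sub, hue, sub_self]
      have := S.add_mem (hN h1) hu
      rwa [sub_add_cancel] at this
  have hlt : W.toSubmodule < W'.toSubmodule := by
    refine lt_of_le_of_ne (sup_le ?_ hCW') fun e => hmem ?_
    · rintro v ⟨u, -, rfl⟩; exact ⟨u, rfl⟩
    · rw [e]; exact ⟨_, rfl⟩
  obtain ⟨g, v, ⟨u, rfl⟩, hgv⟩ := h W W' le_sup_right hlt (by rintro v ⟨u, rfl⟩; exact hTC u)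
  apply hgv
  rw [← hTc, ← map_sub]
  refine Submodule.mem_sup_left ⟨_, ?_, rfl⟩
  refine mem_permSumZero.mpr ?_
  simp only [Pi.sub_apply, Finset.sum_sub_distrib, sub_eq_zero, permRep_apply]
  exact Fintype.sum_equiv (MulAction.toPerm g⁻¹) _ _ fun x => rfl

end Cfsg.Agent.S0671
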