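import Cfsg.Statements.S0672
import Cfsg.Agent.Lib.Perm.Modules

set_option autoImplicit false
open Cfsg MulAction Cfsg.Agent.Lib.Perm Cfsg.Agent.Lib.Perm.Modules
open scoped Pointwise

namespace Cfsg.Agent.S0672

/-- Let a finite group act faithfully and doubly transitively with point stabilisers of even order, and let `K` have characteristic `p` dividing the degree. If the heart of the permutation module admits no non-zero equivariant map to the permutation module on unordered pairs (phrased: every intertwining map from the sum-zero functions vanishing on the constants is zero), the action is triply transitive. -/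
theorem result {G : Type*} [Group G] [Finite G] {K : Type*} [Field K] {p : ℕ} [Fact p.Prime] [CharP K p] {Ω : Type*} [Fintype Ω] [DecidableEq Ω] [MulAction G Ω] [FaithfulSMul G Ω] (h2 : MulAction.IsMultiplyPretransitive G Ω 2) (hp : p ∣ Fintype.card Ω) (heven : ∀ a : Ω, Even (Nat.card (MulAction.stabilizer G a))) (h : ∀ f : Representation.IntertwiningMap (Cfsg.permSumZero K G Ω).toRepresentation (Cfsg.permRep K G (Set.powersetCard Ω 2)), (∀ v : (Cfsg.permSumZero K G Ω).toSubmodule, (v : Ω → K) ∈ (Cfsg.permConstants K G Ω).toSubmodule → f v = 0) → f = 0) : MulAction.IsMultiplyPretransitive G Ω 3 := by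
  classical
  have : IsPretransitive G Ω := isPretransitive_of_is_two_pretransitive
  by_cases hne : Nonempty Ω
  swap
  · have : IsEmpty Ω := not_nonempty_iff.mp hne
    exact ⟨fun P => isEmptyElim (P 0)⟩
  obtain ⟨a⟩ := hne
  obtain ⟨t, ht⟩ := exists_prime_orderOf_dvd_card' (G := stabilizer G a) 2 (heven a).two_dvd
  have ht2 : (t : G) * t = 1 := by
    rw [← sq, ← Subgroup.coe_pow, ← ht, pow_orderOf_eq_one, Subgroup.coe_one]
  have ht1 : (t : G) ≠ 1 := fun e => by
    have : t = 1 := Subtype.ext e
    simp [this] at ht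
  have hta : (t : G) • a = a := t.2
  obtain ⟨x, hx⟩ : ∃ x : Ω, (t : G) • x ≠ x := by
    by_contra! hall
    exact ht1 (eq_of_smul_eq_smul fun y : Ω => by rw [hall y, one_smul])
  set y := (t : G) • x with hy
  have hty : (t : G) • y = x := by rw [hy, smul_smul, ht2, one_smul]
  have hxa : x ≠ a := fun e => hx (by rw [hy, e, hta])
  have hya : y ≠ a := fun e => hxa (smul_left_cancel (t : G) (e.trans hta.symm))
  let Q := Set.powersetCard Ω 2
  have hmemQ : ∀ (g : G) (z : Ω) (s : Q),
      (g • z ∈ ((g • s : Q) : Finset Ω)) ↔ z ∈ (s : Finset Ω) := fun g z s => by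
    rw [Set.powersetCard.coe_smul, Finset.smul_mem_smul_finset_iff]
  have hcard2 : ∀ s : Q, (s : Finset Ω).card = 2 := fun s => s.2
  -- an equivariant kernel map killing the constants vanishes on sum-zero functions
  have hvanish : ∀ c : Ω → Q → K, (∀ (g : G) z s, c (g • z) (g • s) = c z s) →
      (∀ s, ∑ z, c z s = 0) → ∀ v : Ω → K, ∑ z, v z = 0 → kernelMap c v = 0 := by
    intro c hc hsum v hv
    let T : (permSumZero K G Ω).toSubmodule →ₗ[K] (Q → K) :=
      (kernelMap c).comp (permSumZero K G Ω).toSubmodule.subtype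
    let f := LinearMap.intertwiningMap_of_isIntertwiningMap
      (permSumZero K G Ω).toRepresentation (permRep K G Q) T
      (fun g u => kernelMap_comm hc g u.1)
    have hf : f = 0 := h f fun u hu => by
      obtain ⟨r, hr⟩ := mem_permConstants.mp hu
      change kernelMap c u.1 = 0
      rw [hr]
      funext s
      change ∑ z, c z s * r = 0
      rw [← Finset.sum_mul, hsum, zero_mul]
    exact congrArg (fun F : Representation.IntertwiningMap _ _ => F ⟨v, mem_permSumZero.mpr hv⟩) hf
  let m : Ω → Q → K := fun z s => if z ∈ (s : Finset Ω) then 1 else 0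
  have hm : ∀ (g : G) z s, m (g • z) (g • s) = m z s := fun g z s => by simp only [m, hmemQ]
  have hmsum : ∀ s : Q, ∑ z, m z s = 2 := fun s => by
    simp only [m, Finset.sum_boole]
    rw [Finset.filter_mem_eq_inter, Finset.univ_inter, hcard2]
    rfl
  -- the characteristic is odd
  have hp2 : (2 : K) ≠ 0 := by
    intro h20
    have := hvanish m hm (fun s => by rw [hmsum, h20]) (Pi.single a 1 + Pi.single x 1)
      (by simp [Finset.sum_add_distrib, one_add_one_eq_two, h20])
    have h1 := congrFun this ⟨{x, y}, Finset.card_pair (Ne.symm hx)⟩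
    simp [kernelMap, m, mul_add, Finset.sum_add_distrib, Pi.single_apply, Ne.symm hxa,
      Ne.symm hya] at h1
  -- the setwise stabiliser of a pair is transitive outside the pair
  have hpair : ∀ (s : Q) (c₀ c₁ : Ω), c₀ ∉ (s : Finset Ω) → c₁ ∉ (s : Finset Ω) →
      ∃ g : G, g • s = s ∧ g • c₀ = c₁ := by
    intro s c₀ c₁ h₀ h₁
    let O : Ω → Q → Prop := fun z u => ∃ g : G, g • c₀ = z ∧ g • s = u
    have hO : ∀ (g : G) z u, O (g • z) (g • u) ↔ O z u := by
      intro g z u
      refine ⟨fun ⟨k, h1, h2⟩ => ⟨g⁻¹ * k, ?_, ?_⟩, fun ⟨k, h1, h2⟩ => ⟨g * k, ?_, ?_⟩⟩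
      · rw [mul_smul, h1, inv_smul_smul]
      · rw [mul_smul, h2, inv_smul_smul]
      · rw [mul_smul, h1]
      · rw [mul_smul, h2]
    have hQt : IsPretransitive G Q := Set.powersetCard.isPretransitive_of_isMultiplyPretransitive (h := h2)
    let k : ℕ := (Finset.univ.filter fun z => O z s).card
    have hk : ∀ u, (Finset.univ.filter fun z => O z u).card = k := by
      intro u
      obtain ⟨g, rfl⟩ := exists_smul_eq G s u
      refine (Finset.card_equiv (MulAction.toPerm g) fun z => ?_).symm
      simp [hO]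
    let c : Ω → Q → K := fun z u => 2 * (if O z u then 1 else 0) - (k : K) * m z u
    have hc : ∀ (g : G) z u, c (g • z) (g • u) = c z u := fun g z u => by simp only [c, hm, hO]
    have hcs : ∀ u, ∑ z, c z u = 0 := fun u => by
      simp only [c, Finset.sum_sub_distrib, ← Finset.mul_sum, hmsum, Finset.sum_boole, hk]
      ring
    have hconst : ∀ z z', c z s = c z' s := fun z z' => by
      have := congrFun (hvanish c hc hcs (Pi.single z 1 - Pi.single z' 1) (by simp)) s
      rw [map_sub, Pi.sub_apply, kernelMap_single, kernelMap_single, Pi.zero_apply, sub_eq_zero]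
        at this
      exact this
    obtain ⟨e, he⟩ := Finset.card_pos.mp (by rw [hcard2 s]; decide : 0 < (s : Finset Ω).card)
    have hne : ¬ O e s := by
      rintro ⟨g, hg1, hg2⟩
      exact h₀ ((hmemQ g c₀ s).mp (by rwa [hg1, hg2]))
    have e0 : c c₀ s = 2 := by
      simp only [c, m, if_pos (show O c₀ s from ⟨1, one_smul _ _, one_smul _ _⟩), if_neg h₀]
      ring
    by_contra hno
    have e1 : c c₁ s = 0 := by
      have : ¬ O c₁ s := fun ⟨g, hg1, hg2⟩ => hno ⟨g, hg2, hg1⟩
      simp only [c, m, if_neg this, if_neg h₁]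
      ring
    exact hp2 (by rw [← e0, hconst c₀ c₁, e1])
  -- every triple is in the orbit of (x, y, a) or (y, x, a), which `t` exchanges
  have hR : ∀ u v w : Ω, u ≠ v → u ≠ w → v ≠ w → ∃ g : G, g • x = u ∧ g • y = v ∧ g • a = w := by
    intro u v w huv huw hvw
    have h2' : ∀ {u v u' v' : Ω}, u ≠ v → u' ≠ v' → ∃ g : G, g • u = u' ∧ g • v = v' :=
      MulAction.is_two_pretransitive_iff.mp h2
    obtain ⟨g, hgu, hgv⟩ := h2' (Ne.symm hx) huv
    let s : Q := ⟨{x, y}, Finset.card_pair (Ne.symm hx)⟩
    have hgw : g⁻¹ • w ∉ (s : Finset Ω) := by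
      change g⁻¹ • w ∉ ({x, y} : Finset Ω)
      simp only [Finset.mem_insert, Finset.mem_singleton, inv_smul_eq_iff, hgu, hgv, not_or]
      exact ⟨huw.symm, hvw.symm⟩
    obtain ⟨k, hks, hka⟩ := hpair s a (g⁻¹ • w)
      (by simp [s, Ne.symm hxa, Ne.symm hya]) hgw
    have hkx : k • x = x ∨ k • x = y := by
      have := (hmemQ k x s).mpr (by simp [s])
      rw [hks] at this
      simpa [s] using this
    have hky : k • y = x ∨ k • y = y := by
      have := (hmemQ k y s).mpr (by simp [s])
      rw [hks] at this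
      simpa [s] using this
    rcases hkx with hkx | hkx
    · have hky' : k • y = y :=
        hky.resolve_left fun e => hx (smul_left_cancel k (e.trans hkx.symm))
      exact ⟨g * k, by rw [mul_smul, hkx, hgu], by rw [mul_smul, hky', hgv],
        by rw [mul_smul, hka, smul_inv_smul]⟩
    · have hky' : k • y = x :=
        hky.resolve_right fun e => hx (smul_left_cancel k (e.trans hkx.symm))
      exact ⟨g * k * t, by rw [mul_smul, ← hy, mul_smul, hky', hgu],
        by rw [mul_smul, hty, mul_smul, hkx, hgv],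
        by rw [mul_smul, hta, mul_smul, hka, smul_inv_smul]⟩
  refine ⟨fun P R => ?_⟩
  have hi : ∀ (E : Fin 3 ↪ Ω) i j, i ≠ j → E i ≠ E j := fun E i j => E.injective.ne
  obtain ⟨g₁, p0, p1, p2⟩ :=
    hR (P 0) (P 1) (P 2) (hi P _ _ (by decide)) (hi P _ _ (by decide)) (hi P _ _ (by decide))
  obtain ⟨g₂, r0, r1, r2⟩ :=
    hR (R 0) (R 1) (R 2) (hi R _ _ (by decide)) (hi R _ _ (by decide)) (hi R _ _ (by decide))
  refine ⟨g₂ * g₁⁻¹, DFunLike.ext _ _ fun i => ?_⟩
  rw [Function.Embedding.smul_apply, mul_smul]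
  fin_cases i
  · change g₂ • g₁⁻¹ • P 0 = R 0; rw [← p0, inv_smul_smul, r0]
  · change g₂ • g₁⁻¹ • P 1 = R 1; rw [← p1, inv_smul_smul, r1]
  · change g₂ • g₁⁻¹ • P 2 = R 2; rw [← p2, inv_smul_smul, r2]

end Cfsg.Agent.S0672
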