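import Cfsg.Statements.S0676
import Cfsg.Agent.Lib.Perm.PrimeDegree
import Cfsg.Agent.Lib.Perm.PrimeDegreeEven
import Cfsg.Agent.S0671
import Cfsg.Agent.S0672
import Cfsg.Agent.S0674

set_option autoImplicit false
open scoped Pointwise
open Cfsg MulAction Cfsg.Agent.Lib.Perm Cfsg.Agent.Lib.Perm.Modules Cfsg.Agent.Lib.Perm.PrimeDegree

namespace Cfsg.Agent.S0676

/-- A non-solvable transitive permutation group of prime degree `p` whose Sylow `p`-normaliser has even order is triply transitive. -/
theorem result {α : Type*} [Fintype α] [DecidableEq α] {p : ℕ} [Fact p.Prime] (hα : Fintype.card α = p) (G : Subgroup (Equiv.Perm α)) [MulAction.IsPretransitive G α] (hG : ¬ Group.IsSolvable G) (P : Sylow p G) (heven : Even (Nat.card (Subgroup.normalizer ((P : Subgroup G) : Set G)))) : MulAction.IsMultiplyPretransitive G α 3 := by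
  have h5 := five_le_of_not_solvable hα G hG
  have hp2 : p ≠ 2 := by omega
  obtain ⟨e, c, t, hce, hte⟩ := PrimeDegreeEven.exists_cycle_reflection hα hp2 G P heven
  have h2 : IsMultiplyPretransitive G α 2 :=
    (affine_or_two_transitive hα G e c c.2 hce fun h =>
      S0671.result (p := p) (f := 1) le_rfl (by rw [pow_one, hα]) h).resolve_left
        fun h => hG (isSolvable_of_affine e G h)
  have hevenstab : ∀ a : α, Even (Nat.card (stabilizer G a)) := by
    intro a
    have htr : IsPretransitive G α := inferInstance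
    have h1 := Basic.card_eq_card_mul_card_stabilizer (G := G) a
    rw [Basic.card_eq_card_mul_card_stabilizer (G := G) (e 0)] at h1
    have h1' := Nat.eq_of_mul_eq_mul_left
      (by rw [Nat.card_eq_fintype_card, hα]; omega) h1
    rw [← h1', even_iff_two_dvd]
    have ht2 : t * t = 1 := Subtype.ext (Equiv.ext fun x => by
      obtain ⟨j, rfl⟩ := e.surjective x
      simp [hte])
    have ht1 : (⟨t, by rw [mem_stabilizer_iff]; exact (hte 0).trans (by rw [neg_zero])⟩ :
        stabilizer G (e 0)) ≠ 1 := by
      intro h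
      have h' := hte 1
      rw [show t = 1 from congrArg Subtype.val h] at h'
      have h3 : ((2 : ℕ) : ZMod p) = 0 := by
        have h4 : (1 : ZMod p) = -1 := e.injective h'
        push_cast
        linear_combination h4
      have := Nat.le_of_dvd two_pos ((ZMod.natCast_eq_zero_iff 2 p).mp h3)
      omega
    rw [← orderOf_eq_prime (p := 2) (by rw [sq]; exact Subtype.ext ht2) ht1]
    exact orderOf_dvd_natCard _
  refine S0672.result (K := ZMod p) (p := p) h2 hα.symm.dvd hevenstab fun f hf => ?_
  let S := (permSumZero (ZMod p) G α).toSubmodule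
  let C := (permConstants (ZMod p) G α).toSubmodule
  have hfc : ∀ (g : G) (v : S), f ((permSumZero (ZMod p) G α).toRepresentation g v) =
      permRep (ZMod p) G (Set.powersetCard α 2) g (f v) := fun g v =>
    LinearMap.congr_fun (f.isIntertwining' g) v
  have hCS : C ≤ S := by
    intro u hu
    obtain ⟨r, rfl⟩ := mem_permConstants.mp hu
    refine mem_permSumZero.mpr ?_
    simp [hα]
  let W : Subrepresentation (permRep (ZMod p) G α) :=
    { toSubmodule := (LinearMap.ker f.toLinearMap).map S.subtype
      apply_mem_toSubmodule := fun g v hv => by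
        obtain ⟨u, hu, rfl⟩ := hv
        refine ⟨(permSumZero (ZMod p) G α).toRepresentation g u, ?_, rfl⟩
        have hu' : f u = 0 := hu
        show f _ = 0
        rw [hfc, hu', map_zero] }
  -- the linear function
  let v : α → ZMod p := fun x => e.symm x
  have hv : v ∈ S := by
    refine mem_permSumZero.mpr ?_
    have h1 : ∑ x, v x = ∑ j : ZMod p, j :=
      Fintype.sum_equiv e.symm _ _ fun x => rfl
    rw [h1]
    have h3 : (2 : ZMod p) * ∑ j : ZMod p, j = 0 := by
      have hneg : ∑ j : ZMod p, j = ∑ j : ZMod p, -j :=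
        (Equiv.sum_comp (Equiv.neg (ZMod p)) (fun j => j)).symm
      rw [two_mul]
      nth_rw 2 [hneg]
      rw [← Finset.sum_add_distrib]
      simp
    have h4 : ((2 : ℕ) : ZMod p) ≠ 0 := fun h => by
      have := Nat.le_of_dvd two_pos ((ZMod.natCast_eq_zero_iff 2 p).mp h)
      omega
    exact (mul_eq_zero.mp h3).resolve_left (by exact_mod_cast h4)
  have hone : (fun _ => (1 : ZMod p)) ∈ S := hCS (mem_permConstants.mpr ⟨1, rfl⟩)
  have hcv : f ⟨v, hv⟩ = permRep (ZMod p) G (Set.powersetCard α 2) c (f ⟨v, hv⟩) := by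
    rw [← hfc]
    have : (permSumZero (ZMod p) G α).toRepresentation c ⟨v, hv⟩ = ⟨v, hv⟩ - ⟨_, hone⟩ := by
      apply Subtype.ext
      funext x
      obtain ⟨j, rfl⟩ := e.surjective x
      change v (c⁻¹ • e j) = v (e j) - 1
      have : c⁻¹ • e j = e (j - 1) := by
        rw [inv_smul_eq_iff]
        exact ((hce (j - 1)).trans (by rw [sub_add_cancel])).symm
      simp [this, v]
    rw [this, map_sub, hf ⟨_, hone⟩ (mem_permConstants.mpr ⟨1, rfl⟩), sub_zero]
  have htv : - f ⟨v, hv⟩ = permRep (ZMod p) G (Set.powersetCard α 2) t (f ⟨v, hv⟩) := by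
    rw [← hfc, ← map_neg]
    congr 1
    apply Subtype.ext
    funext x
    obtain ⟨j, rfl⟩ := e.surjective x
    change - v (e j) = v (t⁻¹ • e j)
    have : t⁻¹ • e j = e (-j) := by
      rw [inv_smul_eq_iff]
      exact ((hte (-j)).trans (by rw [neg_neg])).symm
    simp [this, v]
  have hv0 : f ⟨v, hv⟩ = 0 := by
    funext s
    set F := f ⟨v, hv⟩ with hF
    have hcn : ∀ (n : ℕ) u, F ((c ^ n) • u) = F u := by
      intro n
      induction n with
      | zero => simp
      | succ n ih =>
        intro u
        rw [pow_succ, mul_smul, ih]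
        have := congrFun hcv (c • u)
        rw [permRep_apply, inv_smul_smul] at this
        exact this
    obtain ⟨s, hs⟩ := s
    obtain ⟨x, y, -, rfl⟩ := Finset.card_eq_two.mp hs
    obtain ⟨i, rfl⟩ := e.surjective x
    obtain ⟨j, rfl⟩ := e.surjective y
    obtain ⟨n, hn⟩ := ZMod.natCast_zmod_surjective (i + j)
    let s : Set.powersetCard α 2 := ⟨_, hs⟩
    have hswap : (c ^ n) • t • s = s := by
      have hi : ∀ i' : ZMod p, (c ^ n) • t • e i' = e (-i' + n) := fun i' => by
        change ((c ^ n : G) : Equiv.Perm α) ((t : Equiv.Perm α) (e i')) = _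
        rw [hte, Subgroup.coe_pow, cycle_pow_apply hce]
      apply Subtype.ext
      change (c ^ n) • t • ({e i, e j} : Finset α) = {e i, e j}
      simp only [s, Finset.smul_finset_insert, Finset.smul_finset_singleton, hi, hn]
      rw [neg_add_cancel_left, show -j + (i + j) = i by ring, Finset.pair_comm]
    have h := congrFun htv (t • s)
    rw [permRep_apply, inv_smul_smul, Pi.neg_apply, ← hcn n, hswap] at h
    have h4 : ((2 : ℕ) : ZMod p) ≠ 0 := fun h => by
      have := Nat.le_of_dvd two_pos ((ZMod.natCast_eq_zero_iff 2 p).mp h)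
      omega
    have h5 : (2 : ZMod p) * F s = 0 := by linear_combination -h
    exact (mul_eq_zero.mp h5).resolve_left (by exact_mod_cast h4)
  have hvW : v ∈ W.toSubmodule := ⟨⟨v, hv⟩, hv0, rfl⟩
  have hW := S0674.result hα G hG W
    (fun u hu => ⟨⟨u, hCS hu⟩, hf ⟨u, hCS hu⟩ hu, rfl⟩)
    (by rintro u ⟨w, -, rfl⟩; exact w.2)
  rcases hW with hW | hW
  · rw [hW] at hvW
    obtain ⟨r, hr⟩ := mem_permConstants.mp hvW
    have hr0 := congrFun hr (e 0)
    have hr1 := congrFun hr (e 1)
    simp only [v, Equiv.symm_apply_apply] at hr0 hr1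
    exact absurd (hr0.trans hr1.symm) zero_ne_one
  · refine DFunLike.ext _ _ fun u => ?_
    have hu : (u : α → ZMod p) ∈ W.toSubmodule := by rw [hW]; exact u.2
    obtain ⟨w, hw, hwu⟩ := hu
    obtain rfl : w = u := Subtype.ext hwu
    exact hw

end Cfsg.Agent.S0676
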