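import Cfsg.Statements.S4706
import Cfsg.Agent.S0676
import Cfsg.Agent.S4702
import Cfsg.Agent.Lib.PrimeSharp.Solvable

set_option autoImplicit false
open Cfsg

namespace Cfsg.Agent.S4706

/-- Let p > 2 be a prime and G a permutation group on p letters whose Sylow p-subgroup P has normalizer of order 2p. Then either P is normal in G, or p − 1 = 2^a for some a and G is isomorphic to SL(2, 2^a). -/
theorem result {α : Type*} [Fintype α] [DecidableEq α] {p : ℕ} [Fact p.Prime] (hp : 2 < p) (hα : Fintype.card α = p) (G : Subgroup (Equiv.Perm α)) (P : Sylow p G) (hN : Nat.card (Subgroup.normalizer ((P : Subgroup G) : Set G)) = 2 * p) : (P : Subgroup G).Normal ∨ ∃ (a : ℕ) (F : Type) (_ : Field F) (_ : Fintype F), p = 2 ^ a + 1 ∧ Fintype.card F = 2 ^ a ∧ Nonempty (G ≃* Matrix.SpecialLinearGroup (Fin 2) F) := by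
  classical
  by_cases hn : (P : Subgroup G).Normal
  · exact Or.inl hn
  right
  obtain ⟨k, hk⟩ := IsPGroup.iff_card.1 P.2
  have hP : Nat.card P = p := by
    rcases Nat.eq_zero_or_pos k with rfl | hk0
    · rw [pow_zero] at hk
      exact absurd (Subgroup.eq_bot_of_card_eq _ hk ▸ inferInstance) hn
    · have h1 := (Subgroup.card_subgroup_dvd_card (P : Subgroup G))
      rw [hk] at h1
      rcases Nat.lt_or_ge k 2 with h | h
      · rw [hk, show k = 1 by omega, pow_one]
      · refine absurd ?_ (Lib.PrimeSharp.Count.not_sq_dvd (G := G) hα)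
        rw [← sq]
        exact (pow_dvd_pow p h).trans h1
  obtain ⟨g, hg⟩ := exists_prime_orderOf_dvd_card' (G := (P : Subgroup G)) p (by rw [hP])
  rw [← Subgroup.orderOf_coe] at hg
  haveI : MulAction.IsPretransitive G α := ⟨fun a b =>
    let ⟨i, hi⟩ := Lib.PrimeSharp.Count.transitive_of_order hα hg a b
    ⟨(g : G) ^ i, hi⟩⟩
  have hns : ¬ Group.IsSolvable G := fun h =>
    hn (Lib.PrimeSharp.Solvable.sylow_normal hα P hP)
  have h3 := S0676.result hα G hns P (hN ▸ even_two_mul p)
  obtain ⟨a, -, ha, F, i1, i2, hF, he⟩ := S4702.result (by omega)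
    (hα ▸ (Fact.out : p.Prime).odd_of_ne_two (by omega)) G h3
    (fun x hx => Lib.PrimeSharp.Count.three_fixed hα h3 hp P hP hN x hx)
  exact ⟨a, F, i1, i2, hα ▸ ha, hF, he⟩

end Cfsg.Agent.S4706
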