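import Cfsg.Statements.S1957
import Cfsg.Agent.Lib.PLocal.CoprimeGen
import Cfsg.Agent.Lib.PSolvable.Basic

set_option autoImplicit false
open Cfsg

namespace Cfsg.Agent.S1957
open Cfsg.Agent.Lib

variable {G : Type*} [Group G] [Finite G]

/-- The centralizer of an involution in a group of characteristic 2 type has characteristic 2. -/
theorem char_two_centralizer (h2 : Cfsg.IsCharacteristicTwoType G) {u : G} (hu : orderOf u = 2) :
    Cfsg.IsOfCharacteristicTwo ↥(Subgroup.centralizer ({u} : Set G)) := by
  have hu1 : u ≠ 1 := by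
    rintro rfl
    simp at hu
  classical
  have heq : Subgroup.normalizer (Subgroup.zpowers u : Set G) = Subgroup.centralizer ({u} : Set G) := by
    have hmem : ∀ x : G, x ∈ Subgroup.zpowers u ↔ x = 1 ∨ x = u := by
      intro x
      refine ⟨fun hx => ?_, ?_⟩
      · rw [mem_zpowers_iff_mem_range_orderOf, hu, Finset.mem_image] at hx
        obtain ⟨i, hi, rfl⟩ := hx
        have := Finset.mem_range.mp hi
        interval_cases i <;> simp
      · rintro (rfl | rfl)
        · exact Subgroup.one_mem _
        · exact Subgroup.mem_zpowers _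
    ext g
    rw [Subgroup.mem_normalizer_iff, Subgroup.mem_centralizer_singleton_iff]
    refine ⟨fun h => ?_, fun h x => ?_⟩
    · rcases (hmem _).mp ((h u).mp (Subgroup.mem_zpowers u)) with h1 | h1
      · exact absurd (by simpa using h1) hu1
      · calc g * u = g * u * g⁻¹ * g := by group
          _ = u * g := by rw [h1]
    · simp only [SetLike.mem_coe, hmem, conj_eq_one_iff]
      have hgu : g * u * g⁻¹ = u := by rw [h]; group
      constructor
      · rintro (rfl | rfl)
        · exact Or.inl rfl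
        · exact Or.inr hgu
      · rintro (hx | hx)
        · exact Or.inl hx
        · exact Or.inr (by
            have := congrArg (fun y => g⁻¹ * y * g) (hx.trans hgu.symm)
            simpa [mul_assoc] using this)
  rw [← heq]
  exact h2.2 _ (IsPGroup.of_card (n := 1) (by rw [Nat.card_zpowers, hu, pow_one]))
    (by simpa using hu1)

/-- In a group of characteristic 2, an element inducing commutators into a central subgroup
`{1, u}` on `O₂` lies in `O₂`. -/
theorem mem_pCore_of_stab {H : Type*} [Group H] [Finite H]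
    (hH : Cfsg.IsOfCharacteristicTwo H) (u : H) (huc : u ∈ Subgroup.center H) (hu : u ^ 2 = 1)
    (v : H) (hv : ∀ q ∈ Cfsg.pCore 2 H, v * q * v⁻¹ = q ∨ v * q * v⁻¹ = q * u) :
    v ∈ Cfsg.pCore 2 H := by
  set O := Cfsg.pCore 2 H with hO
  have hn : O.Normal := PSolvable.pCore_normal'
  have hcen : ∀ y : H, u * y = y * u := fun y => (Subgroup.mem_center_iff.mp huc y).symm
  have huu : u * u = 1 := by rw [← sq, hu]
  let D : Subgroup H :=
    { carrier := {d | ∀ q ∈ O, d * q * d⁻¹ = q ∨ d * q * d⁻¹ = q * u}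
      one_mem' := fun q _ => Or.inl (by group)
      mul_mem' := by
        intro a b ha hb q hq
        have hq' : a * b * q * (a * b)⁻¹ = a * (b * q * b⁻¹) * a⁻¹ := by group
        have hau : a * (q * u) * a⁻¹ = a * q * a⁻¹ * u :=
          calc a * (q * u) * a⁻¹ = a * q * (u * a⁻¹) := by group
            _ = a * q * (a⁻¹ * u) := by rw [hcen]
            _ = _ := by group
        rcases hb q hq with h | h <;> rw [hq', h]
        · exact ha q hq
        · rw [hau]
          rcases ha q hq with h' | h' <;> rw [h']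
          · exact Or.inr rfl
          · exact Or.inl (by rw [mul_assoc, huu, mul_one])
      inv_mem' := by
        intro a ha q hq
        have hmem : a⁻¹ * q * a⁻¹⁻¹ ∈ O := hn.conj_mem q hq a⁻¹
        rcases ha _ hmem with h | h
        · exact Or.inl (h.symm.trans (by group))
        · refine Or.inr ?_
          have h' : q = a⁻¹ * q * a⁻¹⁻¹ * u :=
            (show q = a * (a⁻¹ * q * a⁻¹⁻¹) * a⁻¹ by group).trans h
          calc a⁻¹ * q * a⁻¹⁻¹ = a⁻¹ * q * a⁻¹⁻¹ * (u * u) := by rw [huu, mul_one]
            _ = q * u := by rw [← mul_assoc, ← h'] }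
  have hDmem : ∀ d : H, d ∈ D ↔ ∀ q ∈ O, d * q * d⁻¹ = q ∨ d * q * d⁻¹ = q * u := fun d => Iff.rfl
  have hDn : D.Normal := ⟨fun d hd g => by
    rw [hDmem]
    intro q hq
    have hq' : g⁻¹ * q * g⁻¹⁻¹ ∈ O := hn.conj_mem q hq g⁻¹
    have e : g * d * g⁻¹ * q * (g * d * g⁻¹)⁻¹ = g * (d * (g⁻¹ * q * g⁻¹⁻¹) * d⁻¹) * g⁻¹ := by group
    rcases (hDmem d).mp hd _ hq' with h | h
    · exact Or.inl (by rw [e, h]; group)
    · refine Or.inr ?_
      rw [e, h]
      calc g * (g⁻¹ * q * g⁻¹⁻¹ * u) * g⁻¹ = q * (g * u * g⁻¹) := by group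
        _ = q * u := by rw [← hcen g]; group⟩
  refine PSolvable.le_pCore hDn ?_ ((hDmem v).mpr hv)
  haveI : Fact (Nat.Prime 2) := ⟨Nat.prime_two⟩
  rintro ⟨d, hd⟩
  -- an element of odd order in `D` centralises `O`
  have key : ∀ e ∈ D, Odd (orderOf e) → e = 1 := by
    intro e he hodd
    have hcent : e ∈ Subgroup.centralizer (O : Set H) := by
      rw [Subgroup.mem_centralizer_iff]
      intro q hq
      rcases (hDmem e).mp he q hq with h | h
      · calc q * e = e * q * e⁻¹ * e := by rw [h]
          _ = e * q := by group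
      · have hpow : ∀ n : ℕ, e ^ n * q * (e ^ n)⁻¹ = q * u ^ n := by
          intro n
          induction n with
          | zero => simp
          | succ n ih =>
            have hun : e * u ^ n * e⁻¹ = u ^ n := by
              have hc : Commute e (u ^ n) := Commute.pow_right (hcen e).symm n
              rw [hc.eq]; group
            calc e ^ (n + 1) * q * (e ^ (n + 1))⁻¹ = e * (e ^ n * q * (e ^ n)⁻¹) * e⁻¹ := by
                  rw [pow_succ']; group
              _ = (e * q * e⁻¹) * (e * u ^ n * e⁻¹) := by rw [ih]; group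
              _ = q * u ^ (n + 1) := by rw [h, hun, pow_succ', mul_assoc]
        have h1 := hpow (orderOf e)
        rw [pow_orderOf_eq_one] at h1
        obtain ⟨k, hk⟩ := hodd
        rw [hk, pow_succ, pow_mul, hu] at h1
        simp at h1
        rw [h1, mul_one] at h
        calc q * e = e * q * e⁻¹ * e := by rw [h]
          _ = e * q := by group
    have hO2 : e ∈ O := hH hcent
    obtain ⟨k, hk⟩ := IsPGroup.iff_orderOf.mp PSolvable.isPGroup_pCore ⟨e, hO2⟩
    rw [Subgroup.orderOf_mk] at hk
    rcases Nat.eq_zero_or_pos k with rfl | hkpos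
    · exact orderOf_eq_one_iff.mp (by simpa using hk)
    · rw [hk] at hodd
      exact absurd hodd (Nat.not_odd_iff_even.mpr (even_two.pow_of_ne_zero (by omega)))
  obtain ⟨k, m, hm, hdm⟩ := Nat.exists_eq_two_pow_mul_odd (orderOf_pos d).ne'
  refine ⟨k, Subtype.ext ?_⟩
  simp only [SubgroupClass.coe_pow, OneMemClass.coe_one]
  refine key _ (D.pow_mem hd _) ?_
  rw [orderOf_pow' _ (by positivity), hdm, Nat.gcd_mul_right_left]
  rw [Nat.mul_div_cancel_left _ (by positivity)]
  exact hm

/-- Let `G` be a finite non-abelian simple group in which every local subgroup is solvable and which is of characteristic 2 type. Let `P` be a Sylow 2-subgroup of `G` and `U` a normal subgroup of `P` that is a four-group, with `U` central in `P` if the centre of `P` is not cyclic. Then `U` centralizes every subgroup of odd order of `G` that it normalizes. -/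
theorem result {G : Type*} [Group G] [Finite G]
    [IsSimpleGroup G] (hna : ¬ IsMulCommutative G) (hN : Cfsg.IsNGroup G) (h2 : Cfsg.IsCharacteristicTwoType G)
    (P : Sylow 2 G) (U : Subgroup G) (hUP : U ≤ (P : Subgroup G)) (hUn : (P : Subgroup G) ≤ Subgroup.normalizer (U : Set G))
    (hU4 : IsKleinFour ↥U)
    (hUZ : ¬ IsCyclic ↥((P : Subgroup G) ⊓ Subgroup.centralizer ((P : Subgroup G) : Set G)) →
      U ≤ Subgroup.centralizer ((P : Subgroup G) : Set G))
    (K : Subgroup G) (hK : Odd (Nat.card K)) (hUK : U ≤ Subgroup.normalizer (K : Set G)) :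
    U ≤ Subgroup.centralizer (K : Set G) := by
  classical
  haveI : Fact (Nat.Prime 2) := ⟨Nat.prime_two⟩
  have hUcard : Nat.card U = 4 := hU4.card_four
  have hsq : ∀ x ∈ U, x * x = 1 := fun x hx =>
    congrArg Subtype.val (IsKleinFour.mul_self (⟨x, hx⟩ : U))
  have hUc : ∀ x ∈ U, ∀ y ∈ U, x * y = y * x := fun x hx y hy => by
    have hix : x⁻¹ = x := inv_eq_of_mul_eq_one_right (hsq x hx)
    have hiy : y⁻¹ = y := inv_eq_of_mul_eq_one_right (hsq y hy)
    have := inv_eq_of_mul_eq_one_right (hsq _ (U.mul_mem hx hy))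
    rw [mul_inv_rev, hix, hiy] at this
    exact this.symm
  have hUfour : ∀ u ∈ U, u ≠ 1 → ∀ v ∈ U, v ≠ 1 → v ≠ u → ∀ w ∈ U,
      w = 1 ∨ w = u ∨ w = v ∨ w = v * u := by
    intro u hu hu1 v hv hv1 hvu w hw
    by_contra hcon
    push Not at hcon
    have hs : (({1, u, v, v * u, w} : Finset G) : Set G) ⊆ (U : Set G) := by
      simp [Set.insert_subset_iff, hu, hv, hw, U.mul_mem hv hu]
    have h1 := Set.ncard_le_ncard hs (Set.toFinite _)
    rw [Set.ncard_coe_finset, ← Nat.card_coe_set_eq] at h1
    change _ ≤ Nat.card U at h1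
    have hne1 : v * u ≠ 1 := fun h => hvu (by
      rw [eq_inv_of_mul_eq_one_left h]; exact inv_eq_of_mul_eq_one_right (hsq u hu))
    have hne2 : v * u ≠ u := fun h => hv1 (by simpa using h)
    have hne3 : v * u ≠ v := fun h => hu1 (by simpa using h)
    rw [hUcard, Finset.card_insert_of_notMem, Finset.card_insert_of_notMem,
      Finset.card_insert_of_notMem, Finset.card_insert_of_notMem, Finset.card_singleton] at h1
    · omega
    all_goals simp only [Finset.mem_insert, Finset.mem_singleton, not_or]
    · exact Ne.symm hcon.2.2.2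
    · exact ⟨Ne.symm hne3, Ne.symm hcon.2.2.1⟩
    · exact ⟨Ne.symm hvu, Ne.symm hne2, Ne.symm hcon.2.1⟩
    · exact ⟨Ne.symm hu1, Ne.symm hv1, Ne.symm hne1, Ne.symm hcon.1⟩
  -- a Sylow 2-subgroup of `C(u)` normalising `U`
  have hT : ∀ u ∈ U, u ≠ 1 → ∃ T : Sylow 2 ↥(Subgroup.centralizer ({u} : Set G)),
      ∀ t ∈ (T : Subgroup ↥(Subgroup.centralizer ({u} : Set G))), ∀ w ∈ U,
        (t : G) * w * (t : G)⁻¹ ∈ U := by
    intro u hu hu1
    set C := Subgroup.centralizer ({u} : Set G) with hC
    have hP0C : (P : Subgroup G) ⊓ C ≤ C := inf_le_right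
    have hP0p : IsPGroup 2 ↥(((P : Subgroup G) ⊓ C).subgroupOf C) :=
      (P.isPGroup'.to_le inf_le_left).comap_subtype
    obtain ⟨T, hT⟩ := hP0p.exists_le_sylow
    set T' := (T : Subgroup C).map C.subtype with hT'
    have hP0T : (P : Subgroup G) ⊓ C ≤ T' := fun x hx =>
      ⟨⟨x, hx.2⟩, hT hx, rfl⟩
    have hT'p : IsPGroup 2 T' := T.isPGroup'.map _
    suffices h : ∀ t ∈ T', ∀ w ∈ U, t * w * t⁻¹ ∈ U from
      ⟨T, fun t ht w hw => h (t : G) ⟨t, ht, rfl⟩ w hw⟩
    by_cases hle : T' ≤ (P : Subgroup G)
    · exact fun t ht w hw => (Subgroup.mem_normalizer_iff.mp (hUn (hle ht)) w).mp hw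
    -- here `u` is not central in `P`
    have hlt : (P : Subgroup G) ⊓ C < T' :=
      lt_of_le_of_ne hP0T fun h => hle (h ▸ inf_le_left)
    have hnc : ∃ x ∈ (P : Subgroup G), x * u * x⁻¹ ≠ u := by
      by_contra h
      push Not at h
      have hPC : (P : Subgroup G) ≤ C := fun x hx => Subgroup.mem_centralizer_singleton_iff.mpr (by
        calc x * u = x * u * x⁻¹ * x := by group
          _ = u * x := by rw [h x hx])
      rw [inf_eq_left.mpr hPC] at hlt
      exact hlt.ne (P.is_maximal' hT'p hlt.le).symm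
    obtain ⟨x₀, hx₀, hx₀u⟩ := hnc
    have hncen : ¬ U ≤ Subgroup.centralizer ((P : Subgroup G) : Set G) := fun h => hx₀u (by
      rw [Subgroup.mem_centralizer_iff.mp (h hu) x₀ hx₀]; group)
    have hcyc : IsCyclic ↥((P : Subgroup G) ⊓ Subgroup.centralizer ((P : Subgroup G) : Set G)) :=
      by_contra fun h => hncen (hUZ h)
    have hwU : x₀ * u * x₀⁻¹ ∈ U := (Subgroup.mem_normalizer_iff.mp (hUn hx₀) u).mp hu
    have hw1 : x₀ * u * x₀⁻¹ ≠ 1 := by simpa using hu1
    -- `U` is centralised by `P ⊓ C`
    have hP0U : ∀ y ∈ (P : Subgroup G) ⊓ C, ∀ w ∈ U, y * w * y⁻¹ = w := by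
      intro y hy w hw
      have hyu : y * u * y⁻¹ = u := by
        rw [Subgroup.mem_centralizer_singleton_iff.mp hy.2]; group
      have hyn := fun a (ha : a ∈ U) => (Subgroup.mem_normalizer_iff.mp (hUn hy.1) a).mp ha
      by_cases h1 : w = 1
      · subst h1; group
      by_cases h2 : w = u
      · subst h2; exact hyu
      rcases hUfour u hu hu1 w hw h1 h2 _ (hyn w hw) with h | h | h | h
      · exact absurd (by simpa using h) h1
      · exfalso
        exact h2 (mul_left_cancel (mul_right_cancel (h.trans hyu.symm)))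
      · exact h
      · -- conjugation by `y` would be nontrivial on `U`; then `P` fixes `u`, as it fixes one involution
        exfalso
        have hfix : ∀ a ∈ U, y * a * y⁻¹ = a → a = 1 ∨ a = u := by
          intro a ha hfa
          rcases hUfour u hu hu1 w hw h1 h2 a ha with ha' | ha' | ha' | ha'
          · exact Or.inl ha'
          · exact Or.inr ha'
          · subst ha'
            exact absurd (left_eq_mul.mp (hfa.symm.trans h)) hu1
          · subst ha'
            have : y * (w * u) * y⁻¹ = w * u * u :=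
              calc y * (w * u) * y⁻¹ = (y * w * y⁻¹) * (y * u * y⁻¹) := by group
                _ = _ := by rw [h, hyu]
            rw [hfa] at this
            exact absurd (left_eq_mul.mp this) hu1
        -- the image of `P` in the permutations of `U` is a 2-group with a fixed point other than one
        obtain ⟨z, hzU, hz1, hzP⟩ : ∃ z ∈ U, z ≠ 1 ∧ ∀ x ∈ (P : Subgroup G), x * z * x⁻¹ = z := by
          let act : MulAction ↥(P : Subgroup G) U :=
            { smul := fun x a => ⟨(x : G) * a * (x : G)⁻¹,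
                (Subgroup.mem_normalizer_iff.mp (hUn x.2) a).mp a.2⟩
              one_smul := fun a => Subtype.ext (show (1 : G) * a * (1 : G)⁻¹ = a by group)
              mul_smul := fun x x' a => Subtype.ext (show ((x : G) * x') * a * ((x : G) * x')⁻¹ =
                (x : G) * ((x' : G) * a * (x' : G)⁻¹) * (x : G)⁻¹ by group) }
          have hdvd : 2 ∣ Nat.card U := by rw [hUcard]; norm_num
          have hone : (1 : U) ∈ MulAction.fixedPoints ↥(P : Subgroup G) U := fun x =>
            Subtype.ext (show (x : G) * 1 * (x : G)⁻¹ = 1 by group)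
          obtain ⟨b, hb, hb1⟩ := P.isPGroup'.exists_fixed_point_of_prime_dvd_card_of_fixed_point U hdvd hone
          exact ⟨b, b.2, fun h => hb1 (Subtype.ext h.symm), fun x hx =>
            congrArg Subtype.val (hb ⟨x, hx⟩)⟩
        rcases hfix z hzU (hzP y hy.1) with h' | h'
        · exact hz1 h'
        · exact hx₀u (by rw [← h']; exact hzP x₀ hx₀)
    -- `P ⊓ C` has index two in `P`
    have hidx : ((P : Subgroup G) ⊓ C).relIndex (P : Subgroup G) ≤ 2 := by
      let act : MulAction ↥(P : Subgroup G) U :=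
        { smul := fun x a => ⟨(x : G) * a * (x : G)⁻¹,
            (Subgroup.mem_normalizer_iff.mp (hUn x.2) a).mp a.2⟩
          one_smul := fun a => Subtype.ext (show (1 : G) * a * (1 : G)⁻¹ = a by group)
          mul_smul := fun x x' a => Subtype.ext (show ((x : G) * x') * a * ((x : G) * x')⁻¹ =
            (x : G) * ((x' : G) * a * (x' : G)⁻¹) * (x : G)⁻¹ by group) }
      have hst : MulAction.stabilizer ↥(P : Subgroup G) (⟨u, hu⟩ : U) =
          ((P : Subgroup G) ⊓ C).subgroupOf (P : Subgroup G) := by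
        ext x
        rw [MulAction.mem_stabilizer_iff, Subgroup.mem_subgroupOf, Subgroup.mem_inf,
          Subgroup.mem_centralizer_singleton_iff, Subtype.ext_iff]
        change (x : G) * u * (x : G)⁻¹ = u ↔ _
        refine ⟨fun h => ⟨x.2, ?_⟩, fun h => by rw [h.2]; group⟩
        calc (x : G) * u = (x : G) * u * (x : G)⁻¹ * x := by group
          _ = u * x := by rw [h]
      obtain ⟨k, hk⟩ := P.isPGroup'.index (MulAction.stabilizer ↥(P : Subgroup G) (⟨u, hu⟩ : U))
      have horb := MulAction.index_stabilizer ↥(P : Subgroup G) (⟨u, hu⟩ : U)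
      have hsub : MulAction.orbit ↥(P : Subgroup G) (⟨u, hu⟩ : U) ⊆ {a : U | a ≠ 1} := by
        rintro _ ⟨x, rfl⟩ h
        have h' : (x : G) * u * (x : G)⁻¹ = 1 := congrArg Subtype.val h
        exact hu1 (by simpa using h')
      have h3 := Set.ncard_le_ncard hsub (Set.toFinite _)
      have h4 : ({a : U | a ≠ 1} : Set U).ncard = 3 := by
        rw [show {a : U | a ≠ 1} = ({1} : Set U)ᶜ from rfl, Set.ncard_compl, Set.ncard_singleton,
          hUcard]
      have hbound : 2 ^ k ≤ 3 := by omega
      rw [Subgroup.relIndex, ← hst, hk]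
      rcases k with _ | _ | k
      · norm_num
      · norm_num
      · exfalso
        have : 2 ^ 2 ≤ 2 ^ (k + 1 + 1) := Nat.pow_le_pow_right (by norm_num) (by omega)
        omega
    -- `T'` is a Sylow 2-subgroup of `G` and `P ⊓ C` has index two in it
    obtain ⟨S, hS⟩ := hT'p.exists_le_sylow
    have hcS : Nat.card (S : Subgroup G) = Nat.card (P : Subgroup G) := by
      rw [S.card_eq_multiplicity, P.card_eq_multiplicity]
    set P0 := (P : Subgroup G) ⊓ C with hP0
    have hc0 := Subgroup.card_mul_index (P0.subgroupOf (P : Subgroup G))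
    have hc1 : Nat.card (P0.subgroupOf (P : Subgroup G)) = Nat.card P0 :=
      Nat.card_congr (Subgroup.subgroupOfEquivOfLe inf_le_left).toEquiv
    rw [hc1, ← Subgroup.relIndex] at hc0
    have hTS : T' = (S : Subgroup G) ∧ Nat.card T' = 2 * Nat.card P0 := by
      have h1 : Nat.card T' ≤ Nat.card (S : Subgroup G) := Subgroup.card_le_of_le hS
      obtain ⟨c, hc⟩ := Subgroup.card_dvd_of_le hlt.le
      have hpos : 0 < Nat.card P0 := Nat.card_pos
      have hc2 : 2 ≤ c := by
        rcases c with _ | _ | c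
        · exact absurd (hc.trans (mul_zero _)) (Nat.card_pos.ne')
        · exact absurd (Subgroup.eq_of_le_of_card_ge hlt.le (le_of_eq (by simpa using hc))) hlt.ne
        · omega
      have h5 : Nat.card (P : Subgroup G) ≤ Nat.card P0 * 2 := by
        rw [← hc0]; exact Nat.mul_le_mul_left _ hidx
      have h6 : Nat.card P0 * 2 ≤ Nat.card T' := by rw [hc]; exact Nat.mul_le_mul_left _ hc2
      refine ⟨Subgroup.eq_of_le_of_card_ge hS (by omega), by omega⟩
    obtain ⟨hTS, hTcard⟩ := hTS
    obtain ⟨g, hg⟩ := MulAction.exists_smul_eq G P S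
    have hidxT : P0.relIndex T' = 2 := by
      have h := Subgroup.card_mul_index (P0.subgroupOf T')
      rw [Nat.card_congr (Subgroup.subgroupOfEquivOfLe hlt.le).toEquiv, hTcard, mul_comm 2] at h
      exact Nat.eq_of_mul_eq_mul_left Nat.card_pos h
    haveI hP0n : (P0.subgroupOf T').Normal := Subgroup.normal_of_index_eq_two hidxT
    have hconjP0 : ∀ t ∈ T', ∀ y ∈ P0, t * y * t⁻¹ ∈ P0 := fun t ht y hy =>
      hP0n.conj_mem ⟨y, hlt.le hy⟩ hy ⟨t, ht⟩
    -- involutions of the center of `P0`
    let W : Subgroup G :=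
      { carrier := {y | y ∈ P0 ∧ (∀ a ∈ P0, a * y = y * a) ∧ y * y = 1}
        one_mem' := ⟨P0.one_mem, fun a _ => by simp, by simp⟩
        mul_mem' := fun {a b} ha hb => ⟨P0.mul_mem ha.1 hb.1, fun c hc =>
            ((Commute.mul_right (ha.2.1 c hc) (hb.2.1 c hc)) : _),
          by rw [mul_assoc a b, ← mul_assoc b a b, hb.2.1 a ha.1 |>.symm, mul_assoc a b b, hb.2.2,
            mul_one, ha.2.2]⟩
        inv_mem' := fun {a} ha => by rwa [inv_eq_of_mul_eq_one_right ha.2.2] }
    have hUP0 : U ≤ P0 := fun w hw =>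
      ⟨hUP hw, Subgroup.mem_centralizer_singleton_iff.mpr (hUc w hw u hu)⟩
    have hUW : U ≤ W := fun w hw => ⟨hUP0 hw, fun a ha => by
      calc a * w = a * w * a⁻¹ * a := by group
        _ = w * a := by rw [hP0U a ha w hw], hsq w hw⟩
    have hWn : ∀ t ∈ T', ∀ y ∈ W, t * y * t⁻¹ ∈ W := fun t ht y hy => ⟨hconjP0 t ht y hy.1,
      fun a ha => by
        have h' := hy.2.1 _ (hconjP0 t⁻¹ (T'.inv_mem ht) a ha)
        simp only [inv_inv] at h'
        calc a * (t * y * t⁻¹) = t * (t⁻¹ * a * t * y) * t⁻¹ := by group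
          _ = t * (y * (t⁻¹ * a * t)) * t⁻¹ := by rw [h']
          _ = t * y * t⁻¹ * a := by group,
      by rw [show t * y * t⁻¹ * (t * y * t⁻¹) = t * (y * y) * t⁻¹ by group, hy.2.2]; group⟩
    obtain ⟨s, hsT, hsP⟩ := Set.exists_of_ssubset (SetLike.coe_ssubset_coe.mpr hlt)
    have hsplit : ∀ t ∈ T', t ∈ P0 ∨ s * t ∈ P0 := by
      intro t ht
      by_cases h : t ∈ P0
      · exact Or.inl h
      · refine Or.inr ?_
        exact ((Subgroup.mul_mem_iff_of_index_two (H := P0.subgroupOf T') hidxT
          (a := ⟨s, hsT⟩) (b := ⟨t, ht⟩)).mpr ⟨fun h' => absurd h' hsP, fun h' => absurd h' h⟩ :)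
    -- the central involutions of `T'`
    have huniq : ∀ y ∈ W, s * y * s⁻¹ = y → y = 1 ∨ y = u := by
      intro y hy hsy
      have hcentral : ∀ a ∈ W, s * a * s⁻¹ = a →
          a ∈ T' ⊓ Subgroup.centralizer (T' : Set G) := by
        intro a ha hsa
        refine ⟨hlt.le ha.1, Subgroup.mem_centralizer_iff.mpr fun t ht => ?_⟩
        rcases hsplit t ht with h | h
        · exact ha.2.1 t h
        · have h1 := ha.2.1 _ h
          have h2 : s * a = a * s := by
            calc s * a = s * a * s⁻¹ * s := by group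
              _ = a * s := by rw [hsa]
          apply mul_left_cancel (a := s)
          rw [← mul_assoc, h1, ← mul_assoc s a t, h2, mul_assoc]
      have hyZ := hcentral y hy hsy
      have huZ := hcentral u (hUW hu) (by
        obtain ⟨⟨s', hs'⟩, -, rfl⟩ := hsT
        change s' * u * s'⁻¹ = u
        rw [Subgroup.mem_centralizer_singleton_iff.mp hs']; group)
      haveI : IsCyclic ↥(T' ⊓ Subgroup.centralizer (T' : Set G)) := by
        let f : G ≃* G := MulAut.conj g
        have hmap : ((P : Subgroup G) ⊓ Subgroup.centralizer ((P : Subgroup G) : Set G)).map f.toMonoidHom =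
            T' ⊓ Subgroup.centralizer (T' : Set G) := by
          have hS' : (P : Subgroup G).map f.toMonoidHom = T' := by
            rw [hTS, ← hg]; rfl
          rw [Subgroup.map_inf _ _ _ f.injective, ← hS']
          congr 1
          ext a
          simp only [Subgroup.mem_map_equiv, Subgroup.mem_centralizer_iff, Subgroup.coe_map,
            Set.forall_mem_image]
          refine forall₂_congr fun b _ => ?_
          change b * f.symm a = f.symm a * b ↔ f b * a = a * f b
          constructor
          · intro h; simpa using congrArg f h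
          · intro h; simpa using congrArg f.symm h
        rw [← hmap]
        exact ((( P : Subgroup G) ⊓ Subgroup.centralizer ((P : Subgroup G) : Set G)).equivMapOfInjective
          f.toMonoidHom f.injective).isCyclic.mp hcyc
      haveI := Fintype.ofFinite ↥(T' ⊓ Subgroup.centralizer (T' : Set G))
      have hbound := IsCyclic.card_pow_eq_one_le
        (α := ↥(T' ⊓ Subgroup.centralizer (T' : Set G))) (n := 2) (by norm_num)
      by_contra hcon
      push Not at hcon
      let y' : ↥(T' ⊓ Subgroup.centralizer (T' : Set G)) := ⟨y, hyZ⟩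
      let u' : ↥(T' ⊓ Subgroup.centralizer (T' : Set G)) := ⟨u, huZ⟩
      have h3 : ({1, u', y'} : Finset _).card ≤ 2 := by
        refine le_trans (Finset.card_le_card ?_) hbound
        intro a ha
        simp only [Finset.mem_insert, Finset.mem_singleton] at ha
        simp only [Finset.mem_filter, Finset.mem_univ, true_and]
        rcases ha with rfl | rfl | rfl
        · simp
        · exact Subtype.ext (by simpa [u', sq] using hsq u hu)
        · exact Subtype.ext (by simpa [y', sq] using hy.2.2)
      rw [Finset.card_insert_of_notMem, Finset.card_insert_of_notMem, Finset.card_singleton] at h3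
      · omega
      · simp [u', y', Ne.symm hcon.2]
      · simp [u', y', Subtype.ext_iff, Ne.symm hu1, Ne.symm hcon.1]
    -- so `W` has order at most four and equals `U`
    have hWU : ∀ y ∈ W, y ∈ U := by
      have hd : ∀ y ∈ W, s * y * s⁻¹ * y ∈ W ∧ s * (s * y * s⁻¹ * y) * s⁻¹ = s * y * s⁻¹ * y := by
        intro y hy
        have hss : s * s ∈ P0 := (Subgroup.mul_self_mem_of_index_two hidxT ⟨s, hsT⟩ :)
        have hsy := hWn s hsT y hy
        refine ⟨W.mul_mem hsy hy, ?_⟩
        calc s * (s * y * s⁻¹ * y) * s⁻¹ = (s * s * y * (s * s)⁻¹) * (s * y * s⁻¹) := by group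
          _ = y * (s * y * s⁻¹) := by rw [hy.2.1 _ hss]; group
          _ = s * y * s⁻¹ * y := (hsy.2.1 y hy.1)
      have hmoves : ∃ v ∈ U, s * v * s⁻¹ * v = u := by
        obtain ⟨v, hvU, hv⟩ : ∃ v ∈ U, v ≠ 1 ∧ v ≠ u := by
          refine ⟨x₀ * u * x₀⁻¹, hwU, hw1, hx₀u⟩
        refine ⟨v, hvU, ?_⟩
        rcases huniq _ (hd v (hUW hvU)).1 (hd v (hUW hvU)).2 with h | h
        · exfalso
          have hfix : s * v * s⁻¹ = v :=
            (eq_inv_of_mul_eq_one_left h).trans (inv_eq_of_mul_eq_one_right (hsq v hvU))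
          rcases huniq v (hUW hvU) hfix with h' | h'
          · exact hv.1 h'
          · exact hv.2 h'
        · exact h
      obtain ⟨v, hvU, hv⟩ := hmoves
      intro y hy
      rcases huniq _ (hd y hy).1 (hd y hy).2 with h | h
      · have hfix : s * y * s⁻¹ = y :=
          (eq_inv_of_mul_eq_one_left h).trans (inv_eq_of_mul_eq_one_right hy.2.2)
        rcases huniq y hy hfix with rfl | rfl
        · exact U.one_mem
        · exact hu
      · have hprod : s * (y * v) * s⁻¹ = y * v := by
          have e1 : s * y * s⁻¹ = u * y := by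
            calc s * y * s⁻¹ = s * y * s⁻¹ * (y * y) := by rw [hy.2.2, mul_one]
              _ = u * y := by rw [← mul_assoc, h]
          have e2 : s * v * s⁻¹ = u * v := by
            calc s * v * s⁻¹ = s * v * s⁻¹ * (v * v) := by rw [hsq v hvU, mul_one]
              _ = u * v := by rw [← mul_assoc, hv]
          calc s * (y * v) * s⁻¹ = (s * y * s⁻¹) * (s * v * s⁻¹) := by group
            _ = u * (y * u) * v := by rw [e1, e2]; group
            _ = u * (u * y) * v := by rw [← (hy.2.1 u (hUP0 hu))]
            _ = (u * u) * (y * v) := by group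
            _ = y * v := by rw [hsq u hu, one_mul]
        rcases huniq _ (W.mul_mem hy (hUW hvU)) hprod with h' | h' <;>
        · have : y = y * v * v := by rw [mul_assoc, hsq v hvU, mul_one]
          rw [this, h']
          first | exact U.mul_mem U.one_mem hvU | exact U.mul_mem hu hvU
    exact fun t ht w hw => hWU _ (hWn t ht w (hUW hw))
  -- `U` lies in `O₂(C(u))`
  have hcore : ∀ u ∈ U, u ≠ 1 → ∀ v ∈ U, ∀ hv : v ∈ Subgroup.centralizer ({u} : Set G),
      (⟨v, hv⟩ : ↥(Subgroup.centralizer ({u} : Set G))) ∈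
        Cfsg.pCore 2 ↥(Subgroup.centralizer ({u} : Set G)) := by
    intro u hu hu1 v hvU hv
    have hu2 : orderOf u = 2 := orderOf_eq_prime (by rw [sq]; exact hsq u hu) hu1
    set C := Subgroup.centralizer ({u} : Set G) with hC
    have huC : u ∈ C := Subgroup.mem_centralizer_singleton_iff.mpr rfl
    obtain ⟨T, hT⟩ := hT u hu hu1
    have huc : (⟨u, huC⟩ : C) ∈ Subgroup.center C := Subgroup.mem_center_iff.mpr fun a =>
      Subtype.ext (Subgroup.mem_centralizer_singleton_iff.mp a.2)
    refine mem_pCore_of_stab (char_two_centralizer h2 hu2) ⟨u, huC⟩ huc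
      (Subtype.ext (by simpa [sq] using hsq u hu)) _ fun q hq => ?_
    obtain ⟨N, hN⟩ := (PSolvable.isPGroup_pCore (p := 2) (G := C)).exists_le_sylow
    obtain ⟨c, hc⟩ := MulAction.exists_smul_eq C N T
    haveI : (Cfsg.pCore 2 C).Normal := PSolvable.pCore_normal'
    have hqT : q ∈ (T : Subgroup C) := by
      rw [← hc, Sylow.coe_subgroup_smul, Subgroup.mem_pointwise_smul_iff_inv_smul_mem]
      exact hN (by simpa [MulAut.smul_def, MulAut.inv_def] using
        (inferInstance : (Cfsg.pCore 2 C).Normal).conj_mem' q hq c)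
    have hmem : (q : G) * v * (q : G)⁻¹ ∈ U := hT q hqT v hvU
    have hqu : (q : G) * u * (q : G)⁻¹ = u := by
      rw [Subgroup.mem_centralizer_singleton_iff.mp q.2]; group
    by_cases h1 : v = 1
    · left; subst h1; exact Subtype.ext (by simp)
    by_cases h2' : v = u
    · left; subst h2'
      refine Subtype.ext ?_
      change v * (q : G) * v⁻¹ = q
      rw [← Subgroup.mem_centralizer_singleton_iff.mp q.2]; group
    have hvv : v⁻¹ = v := inv_eq_of_mul_eq_one_right (hsq v hvU)
    rcases hUfour u hu hu1 v hvU h1 h2' _ hmem with h | h | h | h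
    · exact absurd (by simpa using h) h1
    · exact absurd (mul_left_cancel (mul_right_cancel (h.trans hqu.symm))) h2'
    · left
      refine Subtype.ext ?_
      change v * (q : G) * v⁻¹ = q
      calc v * (q : G) * v⁻¹ = ((q : G) * v * (q : G)⁻¹) * (q : G) * v⁻¹ := by rw [h]
        _ = q := by group
    · right
      refine Subtype.ext ?_
      change v * (q : G) * v⁻¹ = q * u
      have h' : (q : G) * v = v * u * q := by rw [← h]; group
      have hvu : v * u = u * v := hUc v hvU u hu
      have hqu' : (q : G) * u = u * q := Subgroup.mem_centralizer_singleton_iff.mp q.2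
      calc v * (q : G) * v⁻¹ = (u * u) * (v * q) * v⁻¹ := by rw [hsq u hu, one_mul]
        _ = u * (v * u * q) * v⁻¹ := by rw [hvu]; group
        _ = u * (q * v) * v⁻¹ := by rw [h']
        _ = u * q := by group
        _ = q * u := hqu'.symm
  -- coprime generation
  have hEA : Cfsg.IsElementaryAbelian 2 U :=
    ⟨⟨⟨fun a b => Subtype.ext (hUc _ a.2 _ b.2)⟩⟩, fun x hx => by rw [sq]; exact hsq x hx⟩
  have hgen := PLocal.le_iSup_fixOn_hyperplane hEA hUK hK.coprime_two_right
  intro v hvU
  rw [Subgroup.mem_centralizer_iff]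
  intro k hk
  suffices h : (⨆ B : {B : Subgroup G // B ≤ U ∧ B.relIndex U ≤ 2},
      PLocal.fixOn K (B : Subgroup G)) ≤ Subgroup.centralizer ({v} : Set G) from
    Subgroup.mem_centralizer_singleton_iff.mp (h (hgen hk))
  refine iSup_le fun ⟨B, hBU, hB⟩ a ha => ?_
  obtain ⟨haK, haB⟩ : a ∈ K ∧ a ∈ Subgroup.centralizer (B : Set G) := ha
  rw [Subgroup.mem_centralizer_singleton_iff]
  have hBne : B ≠ ⊥ := by
    rintro rfl
    rw [Subgroup.relIndex_bot_left, hUcard] at hB
    omega
  obtain ⟨u, huB, hu1⟩ := (Subgroup.bot_or_exists_ne_one B).resolve_left hBne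
  set C := Subgroup.centralizer ({u} : Set G)
  have haC : a ∈ C :=
    Subgroup.mem_centralizer_singleton_iff.mpr (Subgroup.mem_centralizer_iff.mp haB u huB).symm
  have hvC : v ∈ C := Subgroup.mem_centralizer_singleton_iff.mpr (hUc v hvU u (hBU huB))
  have hvO := hcore u (hBU huB) hu1 v hvU hvC
  haveI hn : (Cfsg.pCore 2 C).Normal := PSolvable.pCore_normal'
  have h1 : (⟨a, haC⟩ : C) * ⟨v, hvC⟩ * (⟨a, haC⟩ : C)⁻¹ * (⟨v, hvC⟩ : C)⁻¹ ∈ Cfsg.pCore 2 C :=
    Subgroup.mul_mem _ (hn.conj_mem _ hvO _) (Subgroup.inv_mem _ hvO)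
  have h2K : a * v * a⁻¹ * v⁻¹ ∈ K := by
    rw [show a * v * a⁻¹ * v⁻¹ = a * (v * a⁻¹ * v⁻¹) by group]
    exact K.mul_mem haK ((Subgroup.mem_normalizer_iff.mp (hUK hvU) _).mp (K.inv_mem haK))
  obtain ⟨j, hj⟩ := IsPGroup.iff_orderOf.mp PSolvable.isPGroup_pCore ⟨_, h1⟩
  rw [Subgroup.orderOf_mk, ← Subgroup.orderOf_coe] at hj
  have hodd : Odd (orderOf (a * v * a⁻¹ * v⁻¹)) := hK.of_dvd_nat (Subgroup.orderOf_dvd_natCard K h2K)
  have hj' : orderOf (a * v * a⁻¹ * v⁻¹) = 2 ^ j := by simpa using hj
  have h0 : a * v * a⁻¹ * v⁻¹ = 1 := by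
    rw [← orderOf_eq_one_iff]
    rcases Nat.eq_zero_or_pos j with rfl | hjp
    · simpa using hj'
    · rw [hj'] at hodd
      exact absurd hodd (Nat.not_odd_iff_even.mpr (even_two.pow_of_ne_zero (by omega)))
  calc a * v = (a * v * a⁻¹ * v⁻¹) * (v * a) := by group
    _ = v * a := by rw [h0, one_mul]

end Cfsg.Agent.S1957
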