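import Cfsg.Statements.S2108
import Cfsg.Agent.Lib.TwMult.E6Layers
import Cfsg.Agent.Lib.TwMult.E6Frame
import Cfsg.Agent.Lib.TwMult.E6Cover

set_option autoImplicit false
open Cfsg

namespace Cfsg.Agent.S2108

open Cfsg.Agent.Lib Cfsg.Agent.Lib.ChevStructure Cfsg.Agent.Lib.LieTwisted Cfsg.Agent.Lib.LieTwisted.Twist
open Cfsg.Agent.Lib.LieTwisted.Twist.E6 (C orth exists_model card_twisted)
open Cfsg.Agent.Lib.TwMult

universe u

theorem coprime_factor {p q a : ℕ} (hp : p.Prime) (hpq : p ∣ q) (ha : 0 < a) :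
    ¬ p ∣ q ^ a + 1 ∧ (1 ≤ q → ¬ p ∣ q ^ a - 1) := by
  refine ⟨fun h => hp.not_dvd_one ((Nat.dvd_add_right (dvd_pow hpq ha.ne')).1 h), fun hq h => ?_⟩
  have hd := Nat.dvd_sub (dvd_pow hpq ha.ne') h
  rw [Nat.sub_sub_self (Nat.one_le_pow _ _ hq)] at hd
  exact hp.not_dvd_one hd

theorem index_coprime {K : Type u} [Field K] [Fintype K] {q : ℕ} (hq : IsPrimePow q)
    (hK : Fintype.card K = q ^ 2) {φ : K ≃+* K} (F : Frob.Facts K q 2 φ)
    (e : (orth F hq.one_lt hK).tw.W = Cfsg.Lie.twistedE6 K q) {p : ℕ} (hp : p.Prime) (hpq : p ∣ q) :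
    ¬ p ∣ (TwMult.uS (orth F hq.one_lt hK).tw C.Pos).index := by
  intro hd
  have h1 := (TwMult.uS (orth F hq.one_lt hK).tw C.Pos).card_mul_index
  have hU : Nat.card ↥(TwMult.uS (orth F hq.one_lt hK).tw C.Pos) = q ^ 36 := by
    rw [TwMult.uS, ← Subgroup.inf_subgroupOf_right,
      (Nat.card_congr (Subgroup.subgroupOfEquivOfLe inf_le_right).toEquiv).trans
        (orth F hq.one_lt hK).tw.card_posU]
    show q ^ (72 / 2 / 1) = q ^ 36
    norm_num
  have hG := card_twisted hq hK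
  rw [← e, ← h1, hU, mul_left_comm] at hG
  simp only [mul_assoc] at hG
  have h2 := mul_left_cancel₀ (pow_ne_zero 36 (show q ≠ 0 by have := hq.one_lt; omega)) hG
  have h3 : p ∣ (q ^ 2 - 1) * ((q ^ 5 + 1) * ((q ^ 6 - 1) * ((q ^ 8 - 1) * ((q ^ 9 + 1) * (q ^ 12 - 1))))) :=
    h2 ▸ dvd_mul_of_dvd_right hd _
  have h1q : 1 ≤ q := hq.one_lt.le
  simp only [hp.dvd_mul] at h3
  rcases h3 with h | h | h | h | h | h
  · exact (coprime_factor hp hpq (by norm_num : 0 < 2)).2 h1q h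
  · exact (coprime_factor hp hpq (by norm_num : 0 < 5)).1 h
  · exact (coprime_factor hp hpq (by norm_num : 0 < 6)).2 h1q h
  · exact (coprime_factor hp hpq (by norm_num : 0 < 8)).2 h1q h
  · exact (coprime_factor hp hpq (by norm_num : 0 < 9)).1 h
  · exact (coprime_factor hp hpq (by norm_num : 0 < 12)).2 h1q h

/-- The kernel of a stem extension has order dividing `(3, q + 1)`. -/
theorem ker_dvd {K : Type u} [Field K] [Fintype K] {q : ℕ} (hq : IsPrimePow q)
    (hK : Fintype.card K = q ^ 2) (h2 : q ≠ 2) {φ : K ≃+* K} (F : Frob.Facts K q 2 φ)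
    (e : (orth F hq.one_lt hK).tw.W = Cfsg.Lie.twistedE6 K q) {Γ : Type u} [Group Γ] [Finite Γ]
    {σ : Γ →* ↥(orth F hq.one_lt hK).tw.W} (hσ : Cfsg.IsStemExtension σ) :
    Nat.card σ.ker ∣ Nat.gcd 3 (q + 1) := by
  obtain ⟨p, n, hp, hn, hqp⟩ := id hq
  have hp' : p.Prime := hp.nat_prime
  have hcard : Fintype.card K = p ^ (n * 2) := by rw [hK, ← hqp, pow_mul]
  haveI : Fact p.Prime := ⟨hp'⟩
  haveI : CharP K p := charP_of_card_eq_prime_pow hcard
  have hpq : p ∣ q := hqp ▸ dvd_pow_self p (by omega)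
  refine TwMult.E6.card_ker_dvd F hq.one_lt hK hp' hqp.symm hσ (hp'.coprime_iff_not_dvd.2 fun hd => ?_)
  obtain ⟨z, hz⟩ := exists_prime_orderOf_dvd_card' p hd
  have hzp : (z : Γ) ^ p = 1 := congrArg Subtype.val (hz ▸ pow_orderOf_eq_one z)
  have hz1 : (z : Γ) = 1 := by
    have hzc := Schur.Fusion.mem_commutator_comap hσ z.2 hp' hzp _ (index_coprime hq hK F e hp' hpq)
    obtain ⟨Y, hY, hYk⟩ := TwMult.E6.exists_complement_U F hq.one_lt hK
      (by have := hq.one_lt; omega) σ hσ.2.1 hσ.1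
    have hle : ⁅(TwMult.uS (orth F hq.one_lt hK).tw C.Pos).comap σ,
        (TwMult.uS (orth F hq.one_lt hK).tw C.Pos).comap σ⁆ ≤ Y := by
      rw [Subgroup.commutator_le]
      intro a ha b hb
      obtain ⟨a', ha', ea⟩ : σ a ∈ Y.map σ := hY ▸ Subgroup.mem_comap.1 ha
      obtain ⟨b', hb', eb⟩ : σ b ∈ Y.map σ := hY ▸ Subgroup.mem_comap.1 hb
      rw [Schur.Fusion.commutator_congr hσ.2.1 ea.symm eb.symm, commutatorElement_def]
      exact mul_mem (mul_mem (mul_mem ha' hb') (inv_mem ha')) (inv_mem hb')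
    have : (z : Γ) ∈ Y ⊓ σ.ker := Subgroup.mem_inf.2 ⟨hle hzc, z.2⟩
    rwa [hYk, Subgroup.mem_bot] at this
  rw [show z = 1 from Subtype.ext hz1, orderOf_one] at hz
  exact hp'.ne_one hz.symm

theorem model {K : Type u} [Field K] [Fintype K] {q : ℕ} (hq : IsPrimePow q) (hK : Fintype.card K = q ^ 2)
    (h2 : q ≠ 2) : Cfsg.HasCyclicSchurMultiplier ↥(Cfsg.Lie.twistedE6 K q) (Nat.gcd 3 (q + 1)) := by
  obtain ⟨φ, F, e⟩ := exists_model hq hK
  rcases (Nat.dvd_prime Nat.prime_three).1 (Nat.gcd_dvd_left 3 (q + 1)) with h | h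
  · rw [h]
    refine ⟨⟨_, inferInstance, inferInstance, MonoidHom.id _, ⟨Function.surjective_id, ?_, ?_⟩, ?_⟩, ?_⟩
    · rw [MonoidHom.ker_id]; exact bot_le
    · rw [MonoidHom.ker_id]; exact bot_le
    · haveI : Subsingleton ↥(MonoidHom.id ↥(Cfsg.Lie.twistedE6 K q)).ker := by
        rw [MonoidHom.ker_id]; infer_instance
      exact ⟨{ toFun := fun _ => 1, invFun := fun _ => 1, left_inv := fun _ => Subsingleton.elim _ _,
               right_inv := fun _ => Subsingleton.elim _ _, map_mul' := fun _ _ => Subsingleton.elim _ _ }⟩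
    · rw [← e]
      intro Γ _ _ σ hσ
      refine ⟨1, fun z => ⟨1, ?_⟩⟩
      have hk : σ.ker = ⊥ := Subgroup.card_eq_one.1 (Nat.dvd_one.1 (h ▸ ker_dvd hq hK h2 F e hσ))
      exact Subtype.ext (Subgroup.mem_bot.1 (hk.le z.2)).symm
  · rw [h]
    refine ⟨TwMult.E6Cover.exists_stem hq hK (h ▸ Nat.gcd_dvd_right 3 (q + 1)), ?_⟩
    rw [← e]
    intro Γ _ _ σ hσ
    haveI : Fact (Nat.Prime 3) := ⟨Nat.prime_three⟩
    rcases (Nat.dvd_prime Nat.prime_three).1 (h ▸ ker_dvd hq hK h2 F e hσ) with hc | hc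
    · refine ⟨1, fun z => ⟨1, ?_⟩⟩
      exact Subtype.ext (Subgroup.mem_bot.1 ((Subgroup.card_eq_one.1 hc).le z.2)).symm
    · haveI : IsCyclic σ.ker := isCyclic_of_prime_card hc
      let i : Multiplicative (ZMod 3) ≃* σ.ker :=
        mulEquivOfCyclicCardEq (by rw [hc, Nat.card_congr Multiplicative.toAdd, Nat.card_zmod])
      exact ⟨i.toMonoidHom, i.surjective⟩

/-- Schur multipliers of the twisted groups of type ²E₆: for a prime power q ≠ 2, with the group realised over the field with q² elements, the Schur multiplier of ²E₆(q) is cyclic of order gcd(3, q + 1) (here the Schur multiplier is described through stem extensions, as in the definitions); q = 2 is exceptional. -/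
theorem result {K : Type*} [Field K] [Fintype K] {q : ℕ} (hq : IsPrimePow q) (hK : Fintype.card K = q ^ 2) (h2 : q ≠ 2) : Cfsg.HasCyclicSchurMultiplier ↥(Cfsg.Lie.twistedE6 K q) (Nat.gcd 3 (q + 1)) := by
  exact model hq hK h2

end Cfsg.Agent.S2108
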