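import Cfsg.Statements.S3331
import Cfsg.Agent.Lib.Spectrum.SelfThree.Main
set_option autoImplicit false
open Cfsg

namespace Cfsg.Agent.S3331

open Cfsg.Agent.Lib.Spectrum.SelfThree in
theorem iso_perm_three {Q : Type*} [Group Q] [Finite Q] {z : Q} (hz : SC z) (h6 : Nat.card Q = 6) :
    Nonempty (Q ≃* Equiv.Perm (Fin 3)) := by
  have : Fact (Nat.Prime 2) := ⟨Nat.prime_two⟩
  obtain ⟨h, hh⟩ := exists_prime_orderOf_dvd_card' (G := Q) 2 (by rw [h6]; norm_num)
  let H := Subgroup.zpowers h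
  have hH : Nat.card H = 2 := by rw [Nat.card_zpowers, hh]
  have hidx : Nat.card (Q ⧸ H) = 3 := by
    have : H.index * Nat.card H = 6 := by rw [mul_comm, H.card_mul_index, h6]
    rw [hH] at this
    show H.index = 3
    omega
  have hker : (MulAction.toPermHom Q (Q ⧸ H)).ker = ⊥ := by
    rw [← H.normalCore_eq_ker]
    by_contra hne
    have hc2 : Nat.card H.normalCore = 2 := by
      have h1 := Subgroup.card_dvd_of_le H.normalCore_le
      rw [hH] at h1
      exact (Nat.prime_two.eq_one_or_self_of_dvd _ h1).resolve_left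
        fun e => hne (Subgroup.card_eq_one.1 e)
    have heq : H.normalCore = H := Subgroup.eq_of_le_of_card_ge H.normalCore_le (by rw [hc2, hH])
    have hm : z * h * z⁻¹ ∈ H := heq ▸ H.normalCore_normal.conj_mem h
      (heq.symm ▸ Subgroup.mem_zpowers h) z
    obtain ⟨i, hi⟩ := Subgroup.mem_zpowers_iff.1 hm
    rw [← zpow_mod_orderOf, hh] at hi
    have hzh : h * z = z * h := by
      rcases Int.emod_two_eq_zero_or_one i with e | e
      · rw [show i % ((2 : ℕ) : ℤ) = 0 from e, zpow_zero] at hi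
        have : h = 1 := conj_eq_one_iff.1 hi.symm
        rw [this, orderOf_one] at hh
        norm_num at hh
      · rw [show i % ((2 : ℕ) : ℤ) = 1 from e, zpow_one] at hi
        exact eq_mul_inv_iff_mul_eq.1 hi
    have h2 : orderOf h ∣ 3 := hz.card_zpowers ▸ Subgroup.orderOf_dvd_natCard _ (hz.cent h hzh)
    rw [hh] at h2
    norm_num at h2
  refine ⟨(MulEquiv.ofBijective _ ((Nat.bijective_iff_injective_and_card _).2
    ⟨(MonoidHom.ker_eq_bot_iff _).1 hker, ?_⟩)).trans (Finite.equivFinOfCardEq hidx).permCongrHom⟩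
  rw [Nat.card_perm, hidx, h6]
  decide

/-- Let G be a finite group containing a subgroup X of order 3 with C_G(X) = X. Then one of the following holds: G has a nilpotent normal subgroup N of order prime to 3 with G/N of order 3 or isomorphic to Sym(3); or G has an elementary abelian normal 2-subgroup N with G/N isomorphic to the alternating group of degree 5; or G is isomorphic to PSL(2,7). -/
theorem result {G : Type*} [Group G] [Finite G]
    (X : Subgroup G) (hX : Nat.card X = 3) (hC : Subgroup.centralizer (X : Set G) = X) :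
    (∃ (N : Subgroup G) (hN : N.Normal), Group.IsNilpotent N ∧ (Nat.card N).Coprime 3 ∧
        (Nat.card (G ⧸ N) = 3 ∨ Nonempty (G ⧸ N ≃* Equiv.Perm (Fin 3)))) ∨
    (∃ (N : Subgroup G) (hN : N.Normal), IsMulCommutative N ∧ (∀ n ∈ N, n ^ 2 = 1) ∧
        Nonempty (G ⧸ N ≃* alternatingGroup (Fin 5))) ∨
    Nonempty (G ≃* Matrix.ProjectiveSpecialLinearGroup (Fin 2) (ZMod 7)) := by
  classical
  have : Fact (Nat.Prime 3) := ⟨Nat.prime_three⟩
  obtain ⟨⟨x, hxX⟩, hx⟩ := exists_prime_orderOf_dvd_card' (G := X) 3 (by rw [hX])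
  rw [← Subgroup.orderOf_coe] at hx
  have hXz : Subgroup.zpowers x = X :=
    Subgroup.eq_of_le_of_card_ge (Subgroup.zpowers_le.2 hxX) (by rw [hX, Nat.card_zpowers, hx])
  have hs : Cfsg.Agent.Lib.Spectrum.SelfThree.SC x := ⟨hx, fun y hy => by
    rw [hXz, ← hC]
    refine Subgroup.mem_centralizer_iff.2 fun p hp => ?_
    obtain ⟨i, rfl⟩ := Subgroup.mem_zpowers_iff.1 (hXz.symm ▸ hp : p ∈ Subgroup.zpowers x)
    exact ((show Commute x y from hy.symm).zpow_left i).eq⟩
  rcases Cfsg.Agent.Lib.Spectrum.SelfThree.shape hs with ⟨N, hN, hN3, hidx⟩ | ⟨N, hN, hexp, h60, hsimp⟩ | ⟨h168, hsimp⟩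
  · refine Or.inl ⟨N, hN, Cfsg.Agent.Lib.Spectrum.SelfThree.Inv.isNilpotent hs
      ⟨hN3, by rw [Subgroup.normalizer_eq_top]; exact Subgroup.mem_top x⟩,
      (Nat.prime_three.coprime_iff_not_dvd.2 hN3).symm, ?_⟩
    rcases hidx with h3 | h6
    · exact Or.inl h3
    · exact Or.inr (iso_perm_three (hs.quotient hN3) h6)
  · refine Or.inr (Or.inl ⟨N, hN, ⟨⟨fun a b => Subtype.ext ?_⟩⟩, hexp, Cfsg.Agent.S0494.result h60⟩)
    have ha : (a : G) * a = 1 := by rw [← pow_two]; exact hexp a a.2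
    have hb : (b : G) * b = 1 := by rw [← pow_two]; exact hexp b b.2
    have hab : (a : G) * b * (a * b) = 1 := by rw [← pow_two]; exact hexp _ (mul_mem a.2 b.2)
    show (a : G) * b = b * a
    calc (a : G) * b = (a : G) * b * ((a : G) * b * (a * b))⁻¹ * 1 := by rw [hab]; group
      _ = (b : G)⁻¹ * (a : G)⁻¹ := by group
      _ = b * a := by rw [inv_eq_of_mul_eq_one_right hb, inv_eq_of_mul_eq_one_right ha]
  · have : Fact (Nat.Prime 7) := ⟨by norm_num⟩
    exact Or.inr (Or.inr (Cfsg.Agent.S0495.result h168 (ZMod.card 7)))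

end Cfsg.Agent.S3331
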