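import Cfsg.Statements.S3333
import Cfsg.Agent.Lib.ThreeNine.Six
-- import your own Cfsg.Agent.* helpers here

set_option autoImplicit false
open Cfsg

namespace Cfsg.Agent.S3333

/-- Let G be a finite group with a Sylow 3-subgroup S of order 9 that is its own centralizer, with N_G(S)/S dihedral of order 8, and such that C_G(x) ≤ N_G(S) for every non-identity x in S. Then S is normal in G or G is isomorphic to the symmetric group of degree 6. -/
theorem result {G : Type*} [Group G] [Finite G]
    (P : Sylow 3 G) (S : Subgroup G) (hSP : S = P) (hcard : Nat.card S = 9)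
    (hC : Subgroup.centralizer (S : Set G) = S)
    (eN : Subgroup.normalizer (S : Set G) ⧸ S.subgroupOf (Subgroup.normalizer (S : Set G)) ≃* DihedralGroup 4)
    (hcent : ∀ x ∈ S, x ≠ 1 → Subgroup.centralizer ({x} : Set G) ≤ Subgroup.normalizer (S : Set G)) :
    S.Normal ∨ Nonempty (G ≃* Equiv.Perm (Fin 6)) := by
  haveI := Fintype.ofFinite G
  by_cases hn : S.Normal
  · exact Or.inl hn
  refine Or.inr ?_
  subst hSP
  have hSN : (P : Subgroup G) ≤ Subgroup.normalizer ((P : Subgroup G) : Set G) :=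
    Subgroup.le_normalizer
  set N := Subgroup.normalizer ((P : Subgroup G) : Set G) with hN
  set Q := (P : Subgroup G).subgroupOf N with hQ
  -- the Sylow subgroup is elementary
  have hel : ∀ m ∈ (P : Subgroup G), m ^ 3 = 1 := by
    intro m hm
    by_contra hne
    have hord : orderOf m = 9 := by
      have hd : orderOf m ∣ 3 ^ 2 := by
        rw [show (3 : ℕ) ^ 2 = Nat.card (P : Subgroup G) by rw [hcard]; rfl,
          ← Subgroup.orderOf_mk m hm]
        exact orderOf_dvd_natCard _
      obtain ⟨k, hk, hk'⟩ := (Nat.dvd_prime_pow Nat.prime_three).mp hd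
      rw [hk']
      interval_cases k
      · exact absurd (orderOf_dvd_iff_pow_eq_one.mp (by rw [hk']; norm_num)) hne
      · exact absurd (orderOf_dvd_iff_pow_eq_one.mp (by rw [hk']; norm_num)) hne
      · rfl
    have hgen : Subgroup.zpowers m = (P : Subgroup G) :=
      Subgroup.eq_of_le_of_card_ge (Subgroup.zpowers_le.mpr hm) (by
        rw [Nat.card_zpowers, hord, hcard])
    have hexp : ∀ g : N, ∃ k : ℤ, ∀ i : ℤ, (g : G) * m ^ i * (g : G)⁻¹ = m ^ (i * k) := by
      intro g
      have hgm : (g : G) * m * (g : G)⁻¹ ∈ Subgroup.zpowers m :=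
        hgen.symm ▸ (Subgroup.mem_normalizer_iff.mp g.2 m).mp hm
      obtain ⟨k, hk⟩ := Subgroup.mem_zpowers_iff.mp hgm
      refine ⟨k, fun i => ?_⟩
      rw [← conj_zpow, ← hk, ← zpow_mul, mul_comm]
    have hcomm : ∀ g h : N, ((g * h * g⁻¹ * h⁻¹ : N) : G) ∈ (P : Subgroup G) := by
      intro g h
      rw [← hC, Subgroup.mem_centralizer_iff]
      intro y hy
      have hy' : y ∈ Subgroup.zpowers m := hgen.symm ▸ hy
      obtain ⟨i, rfl⟩ := Subgroup.mem_zpowers_iff.mp hy'
      obtain ⟨k, hk⟩ := hexp g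
      obtain ⟨l, hl⟩ := hexp h
      have e : ((g : G) * h) * m ^ i * ((g : G) * h)⁻¹ =
          ((h : G) * g) * m ^ i * ((h : G) * g)⁻¹ := by
        calc ((g : G) * h) * m ^ i * ((g : G) * h)⁻¹
            = (g : G) * ((h : G) * m ^ i * (h : G)⁻¹) * (g : G)⁻¹ := by group
          _ = m ^ (i * l * k) := by rw [hl, hk]
          _ = m ^ (i * k * l) := by rw [mul_right_comm]
          _ = (h : G) * ((g : G) * m ^ i * (g : G)⁻¹) * (h : G)⁻¹ := by rw [hk, hl]
          _ = _ := by group
      obtain ⟨j, hj⟩ : ∃ j : ℤ, ((h : G) * g)⁻¹ * m ^ i * ((h : G) * g) = m ^ j := by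
        have := (Subgroup.mem_normalizer_iff.mp (inv_mem (h * g).2) (m ^ i)).mp hy
        rw [← hgen, Subgroup.mem_zpowers_iff] at this
        obtain ⟨j, hj⟩ := this
        exact ⟨j, by rw [hj]; simp⟩
      push_cast
      have ej : ((g : G) * h) * m ^ j * ((g : G) * h)⁻¹ = m ^ i := by
        obtain ⟨k', hk'⟩ := hexp g
        obtain ⟨l', hl'⟩ := hexp h
        calc ((g : G) * h) * m ^ j * ((g : G) * h)⁻¹
            = (g : G) * ((h : G) * m ^ j * (h : G)⁻¹) * (g : G)⁻¹ := by group
          _ = m ^ (j * l' * k') := by rw [hl', hk']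
          _ = m ^ (j * k' * l') := by rw [mul_right_comm]
          _ = (h : G) * ((g : G) * m ^ j * (g : G)⁻¹) * (h : G)⁻¹ := by rw [hk', hl']
          _ = ((h : G) * g) * m ^ j * ((h : G) * g)⁻¹ := by group
          _ = m ^ i := by rw [← hj]; group
      calc m ^ i * ((g : G) * h * (g : G)⁻¹ * (h : G)⁻¹)
          = ((g : G) * h) * m ^ j * ((g : G) * h)⁻¹ * ((g : G) * h * (g : G)⁻¹ * (h : G)⁻¹) := by
            rw [ej]
        _ = ((g : G) * h) * m ^ j * ((h : G) * g)⁻¹ := by group
        _ = ((g : G) * h) * (((h : G) * g)⁻¹ * m ^ i * ((h : G) * g)) * ((h : G) * g)⁻¹ := by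
            rw [hj]
        _ = _ := by group
    have hD : ∀ x y : DihedralGroup 4, x * y = y * x := by
      intro x y
      obtain ⟨g, hg⟩ := QuotientGroup.mk_surjective (eN.symm x)
      obtain ⟨h, hh⟩ := QuotientGroup.mk_surjective (eN.symm y)
      apply eN.symm.injective
      rw [map_mul, map_mul, ← hg, ← hh, ← QuotientGroup.mk_mul, ← QuotientGroup.mk_mul,
        QuotientGroup.eq, Subgroup.mem_subgroupOf]
      have h2 := hcomm h⁻¹ g⁻¹
      simpa [mul_assoc] using h2
    exact absurd (hD (.r 1) (.sr 0)) (by decide)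
  -- Sylow two-subgroups of the normaliser
  have hS2 : ∀ T : Sylow 2 N, Nonempty ((T : Subgroup N) ≃* DihedralGroup 4) := by
    intro T
    haveI : Fact (Nat.Prime 2) := ⟨Nat.prime_two⟩
    have hQc : Nat.card Q = 9 := by
      rw [hQ, Nat.card_congr (Subgroup.subgroupOfEquivOfLe hSN).toEquiv, hcard]
    have hq : Nat.card (N ⧸ Q) = 8 := by
      rw [Nat.card_congr eN.toEquiv, DihedralGroup.nat_card]
    have hN72 : Nat.card N = 72 := by
      rw [Subgroup.card_eq_card_quotient_mul_card_subgroup Q, hq, hQc]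
    have hT : Nat.card (T : Subgroup N) = 8 := by
      rw [T.card_eq_multiplicity, hN72]
      have : (72 : ℕ).factorization 2 = 3 := by
        rw [show (72 : ℕ) = 2 ^ 3 * 9 from rfl, Nat.factorization_mul (by norm_num) (by norm_num),
          Finsupp.coe_add, Pi.add_apply, Nat.Prime.factorization_pow Nat.prime_two,
          Finsupp.single_eq_same, Nat.factorization_eq_zero_of_not_dvd (by norm_num : ¬ 2 ∣ 9)]
      rw [this]; norm_num
    let φ : (T : Subgroup N) →* DihedralGroup 4 :=
      eN.toMonoidHom.comp ((QuotientGroup.mk' Q).comp (T : Subgroup N).subtype)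
    have hφ : Function.Injective φ := by
      rw [← MonoidHom.ker_eq_bot_iff, Subgroup.eq_bot_iff_forall]
      intro x hx
      have hxQ : (x : N) ∈ Q := by
        rw [← QuotientGroup.eq_one_iff]
        apply eN.injective
        rw [map_one]
        exact MonoidHom.mem_ker.mp hx
      have h8 : orderOf (x : N) ∣ 8 := by
        rw [← hT, Subgroup.orderOf_coe]; exact orderOf_dvd_natCard _
      have h9 : orderOf (x : N) ∣ 9 := by
        rw [← hQc, ← Subgroup.orderOf_mk _ hxQ]; exact orderOf_dvd_natCard _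
      have h1 := Nat.dvd_gcd h8 h9
      norm_num at h1
      exact h1
    exact ⟨MulEquiv.ofBijective φ ((Nat.bijective_iff_injective_and_card φ).mpr
      ⟨hφ, by rw [hT, DihedralGroup.nat_card]⟩)⟩
  obtain ⟨e, hinj, hrange, hmem⟩ := Lib.ThreeNine.Setup.exists_equiv P hcard hel hC hS2
  exact Lib.ThreeNine.Six.sym_of_local
    ⟨hinj, hrange, hmem, fun m hm hm1 => hrange ▸ hcent m hm hm1⟩ hcard hn

end Cfsg.Agent.S3333
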