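import Cfsg.Statements.S2590
import Cfsg.Agent.Lib.SemisimpleConj
import Cfsg.Agent.Lib.Forms.Quad
import Cfsg.Agent.Lib.Forms.Witt


set_option autoImplicit false
open Cfsg

namespace Cfsg.Agent.S2590
open Cfsg.Agent.Lib

/-- Two semisimple elements of odd order of a finite orthogonal group (isometry group of a quadratic form on F^n with non-degenerate polar form, F finite of characteristic p; the elements have odd order prime to p) are conjugate in the orthogonal group if and only if they are conjugate in GL_n(F). -/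
theorem result {F : Type*} [Field F] [Fintype F] {p : ℕ} [Fact p.Prime] [CharP F p] {n : ℕ} (Q : QuadraticForm F (Fin n → F)) (hQ : (QuadraticMap.polarBilin Q).Nondegenerate) (A B : ↥(Cfsg.isometryGroup F ⇑Q)) (hodd : Odd (orderOf A)) (hA : (orderOf A).Coprime p) : IsConj A B ↔ IsConj ((A : Matrix.GeneralLinearGroup (Fin n) F) : Matrix (Fin n) (Fin n) F) ((B : Matrix.GeneralLinearGroup (Fin n) F) : Matrix (Fin n) (Fin n) F) := by
  classical
  refine ⟨fun h => ?_, fun h => ?_⟩
  · obtain ⟨c, hc⟩ := isConj_iff.1 h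
    exact ⟨((c : Matrix.GeneralLinearGroup (Fin n) F) : (Matrix (Fin n) (Fin n) F)ˣ),
      congrArg (fun z : ↥(Cfsg.isometryGroup F ⇑Q) => ((z : Matrix.GeneralLinearGroup (Fin n) F) : Matrix (Fin n) (Fin n) F))
        (mul_inv_eq_iff_eq_mul.1 hc)⟩
  obtain ⟨g, hg⟩ := h
  let Bs := QuadraticMap.polarBilin Q
  let e : (Fin n → F) ≃ₗ[F] (Fin n → F) := Forms.glEquiv g
  have he : ∀ x, e x = (g : Matrix (Fin n) (Fin n) F).mulVec x := fun x => Forms.glEquiv_apply g x
  let a : Module.End F (Fin n → F) := Matrix.toLinAlgEquiv' ((A : Matrix.GeneralLinearGroup (Fin n) F) : Matrix (Fin n) (Fin n) F)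
  let a' : Module.End F (Fin n → F) := Matrix.toLinAlgEquiv' ((B : Matrix.GeneralLinearGroup (Fin n) F) : Matrix (Fin n) (Fin n) F)
  have ha : ∀ x, a x = ((A : Matrix.GeneralLinearGroup (Fin n) F) : Matrix (Fin n) (Fin n) F).mulVec x :=
    fun x => Matrix.toLinAlgEquiv'_apply _ x
  have ha' : ∀ x, a' x = ((B : Matrix.GeneralLinearGroup (Fin n) F) : Matrix (Fin n) (Fin n) F).mulVec x :=
    fun x => Matrix.toLinAlgEquiv'_apply _ x
  have hQa : ∀ x, Q (a x) = Q x := fun x => by rw [ha]; exact A.2 x x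
  have hQa' : ∀ x, Q (a' x) = Q x := fun x => by rw [ha']; exact B.2 x x
  have hBa : ∀ x y, Bs (a x) (a y) = Bs x y := fun x y => by
    simp only [Bs, QuadraticMap.polarBilin_apply_apply, QuadraticMap.polar, ← map_add, hQa]
  have hBa' : ∀ x y, Bs (a' x) (a' y) = Bs x y := fun x y => by
    simp only [Bs, QuadraticMap.polarBilin_apply_apply, QuadraticMap.polar, ← map_add, hQa']
  have hN : (orderOf A : F) ≠ 0 := by
    rw [Ne, CharP.cast_eq_zero_iff F p]
    exact ((Fact.out : p.Prime).coprime_iff_not_dvd).1 hA.symm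
  have hpow : a ^ orderOf A = 1 := by
    rw [← map_pow, ← Units.val_pow_eq_pow_val, ← SubmonoidClass.coe_pow, pow_orderOf_eq_one]
    exact map_one _
  have hea : ∀ x, e (a x) = a' (e x) := fun x => by
    rw [ha, ha', he, he, Matrix.mulVec_mulVec, Matrix.mulVec_mulVec]
    exact congrArg (fun M => Matrix.mulVec M x) hg.eq
  obtain ⟨H, hS, hH⟩ := SemisimpleConj.exists_setup (B := Bs) (A := a) (A' := a') (ε := 1)
    (fun y hy => hQ.2 y hy) (fun x y => by
      rw [one_mul]; exact QuadraticMap.polar_comm _ _ _) hBa hBa' hpow hN e hea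
  have hcpl := SemisimpleConj.isCompl_fixed hpow hN
  set R := LinearMap.range (a - 1) with hR
  have hS1 := hS.restrict (W := R) hcpl.symm
    (fun r hr w hw => hS.refl _ _ (SemisimpleConj.perp_fixed_image hBa hw hr))
    (SemisimpleConj.invariant_range (Commute.refl a)) (SemisimpleConj.invariant_range hS.comm)
  obtain ⟨b, hba, hb⟩ := SemisimpleConj.exists_of_no_fixed hS1 (fun x hx => Subtype.ext
    (SemisimpleConj.no_fixed_sq_range hpow hN hodd x.1 x.2 (congrArg Subtype.val hx)))
  have hb' : ∀ x y : R, Bs (b x).1 (b y).1 = Bs (e x.1) (e y.1) := fun x y => (hb x y).trans (hH _ _)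
  have hbinj : Function.Injective b := by
    rw [injective_iff_map_eq_zero]
    intro y hy
    exact hS1.inj ((hS1.nondeg _ fun x => by rw [← hb, hy, map_zero]).trans (map_zero _).symm)
  -- the quadratic forms agree
  let D : R → F := fun x => Q (b x).1 - Q (e x.1)
  have hDadd : ∀ x y, D (x + y) = D x + D y := fun x y => by
    have h := hb' x y
    simp only [Bs, QuadraticMap.polarBilin_apply_apply, QuadraticMap.polar, ← map_add e, ← Submodule.coe_add, ← map_add b] at h
    simp only [D]
    linear_combination h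
  let a1 := a.restrict (SemisimpleConj.invariant_range (Commute.refl a) (C := a))
  have hDa : ∀ x, D (a1 x) = D x := fun x => by
    have h1 : b (a1 x) = a1 (b x) := LinearMap.congr_fun hba.eq x
    simp only [D, h1]
    show Q (a (b x).1) - Q (e (a x.1)) = _
    rw [hQa, hea, hQa']
  have hD : ∀ x, D x = 0 := fun x => by
    have hi : Function.Injective (a1 - 1 : Module.End F R) := by
      rw [injective_iff_map_eq_zero]
      exact fun z hz => Subtype.ext (Submodule.disjoint_def.1 hcpl.disjoint z.1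
        (LinearMap.mem_ker.2 (congrArg Subtype.val hz)) z.2)
    obtain ⟨z, rfl⟩ := (LinearMap.injective_iff_surjective.1 hi) x
    have h := hDadd ((a1 - 1) z) z
    rw [show (a1 - 1 : Module.End F R) z + z = a1 z from sub_add_cancel _ _, hDa] at h
    linear_combination -h
  let be : R ≃ₗ[F] R := LinearEquiv.ofInjectiveEndo b hbinj
  have hbe : ∀ x, b (be.symm x) = x := fun x => be.apply_symm_apply x
  obtain ⟨k, hk, hkφ⟩ := (Forms.ofQuadratic Q hQ).witt_subspace R _ (be.symm.trans (e.submoduleMap R))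
    (fun x y => by
      show Bs (e (be.symm x).1) (e (be.symm y).1) = _
      rw [← hb', hbe, hbe]
      rfl)
    (fun x => by
      show Q (e (be.symm x).1) = Q x.1
      have h := hD (be.symm x)
      simp only [D, hbe] at h
      exact (sub_eq_zero.1 h).symm)
  have hkφ' : ∀ x : R, k x.1 = e (be.symm x).1 := hkφ
  have hkB : ∀ x y, Bs (k x) (k y) = Bs x y := hk.1
  have hcpl' := SemisimpleConj.isCompl_fixed (C := a') (N := orderOf A) (by
    refine LinearMap.ext fun x => ?_
    have h1 : ∀ (i : ℕ) (x : Fin n → F), e ((a ^ i) x) = (a' ^ i) (e x) := by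
      intro i
      induction i with
      | zero => simp
      | succ i ih => intro x; rw [pow_succ', pow_succ', Module.End.mul_apply, Module.End.mul_apply, hea, ih]
    have h2 := h1 (orderOf A) (e.symm x)
    rw [hpow, e.apply_symm_apply, Module.End.one_apply, e.apply_symm_apply] at h2
    exact h2.symm) hN
  -- `k` intertwines
  have hkR : ∀ x : R, k (a x.1) = a' (k x.1) := fun x => by
    rw [hkφ' x, ← hea]
    have h1 : be.symm (a1 x) = a1 (be.symm x) := be.injective (by
      rw [be.apply_symm_apply]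
      exact ((LinearMap.congr_fun hba.eq (be.symm x)).trans (congrArg a1 (hbe x))).symm)
    exact (hkφ' (a1 x)).trans (congrArg (fun z : R => e z.1) h1)
  have hkfix : ∀ u, a u = u → a' (k u) = k u := fun u hu => by
    obtain ⟨w, hw, r, hr, hwr⟩ := Submodule.mem_sup.1
      (hcpl'.sup_eq_top ▸ Submodule.mem_top : k u ∈ LinearMap.ker (a' - 1) ⊔ LinearMap.range (a' - 1))
    have hw' : a' w = w := sub_eq_zero.1 (LinearMap.mem_ker.1 hw)
    have hr0 : r = 0 := hS.nondeg r fun y => by
      obtain ⟨w', hw', r', hr', rfl⟩ := Submodule.mem_sup.1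
        (hcpl'.sup_eq_top ▸ Submodule.mem_top : y ∈ LinearMap.ker (a' - 1) ⊔ LinearMap.range (a' - 1))
      obtain ⟨z, rfl⟩ := hr'
      -- `(a' - 1) z` is the image under `k` of an element of `R`
      have hmem : (e.symm ((a' - 1) z)) ∈ R := ⟨e.symm z, e.injective (by simp [hea])⟩
      have h3 : k (b ⟨_, hmem⟩).1 = (a' - 1) z := by
        rw [hkφ']
        show e (be.symm (be ⟨_, hmem⟩)).1 = _
        rw [be.symm_apply_apply, e.apply_symm_apply]
      have h4 : Bs ((a' - 1) z) (k u) = 0 := by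
        rw [← h3, hkB]
        exact hS.refl _ _ (SemisimpleConj.perp_fixed_image hBa (LinearMap.mem_ker.2 (by simp [hu])) (b ⟨_, hmem⟩).2)
      have h5 : Bs ((a' - 1) z) w = 0 :=
        hS.refl _ _ (SemisimpleConj.perp_fixed_image hBa' hw ⟨z, rfl⟩)
      have h6 : Bs w' r = 0 := SemisimpleConj.perp_fixed_image hBa' hw' hr
      rw [← hwr, map_add, h5, zero_add] at h4
      rw [map_add, LinearMap.add_apply, h6, h4, add_zero]
    rw [← hwr, hr0, add_zero, hw']
  have hk2 : ∀ x, k (a x) = a' (k x) := fun x => by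
    obtain ⟨w, hw, r, hr, rfl⟩ := Submodule.mem_sup.1
      (hcpl.sup_eq_top ▸ Submodule.mem_top : x ∈ LinearMap.ker (a - 1) ⊔ R)
    have hw' : a w = w := sub_eq_zero.1 (LinearMap.mem_ker.1 hw)
    simp only [map_add, hkR ⟨r, hr⟩, hw', hkfix w hw']
  let K0 : Matrix.GeneralLinearGroup (Fin n) F := Forms.glEquiv.symm k
  have hK0 : ∀ x, (K0 : Matrix (Fin n) (Fin n) F).mulVec x = k x := fun x => by
    rw [← Forms.glEquiv_apply, MulEquiv.apply_symm_apply]
  have hmem : K0 ∈ Cfsg.isometryGroup F ⇑Q := fun u v => by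
    show Q ((K0 : Matrix (Fin n) (Fin n) F).mulVec u) = Q u
    rw [hK0]
    exact hk.2 u
  refine isConj_iff.2 ⟨⟨K0, hmem⟩, mul_inv_eq_iff_eq_mul.2 (Subtype.ext (Units.ext (Matrix.ext_iff_mulVec.2 fun x => ?_)))⟩
  simp only [Subgroup.coe_mul, Units.val_mul, ← Matrix.mulVec_mulVec, hK0, ← ha, ← ha', hk2]

end Cfsg.Agent.S2590
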