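import Cfsg.Statements.S2389
import Cfsg.Agent.Lib.GLFlags.SympConj
import Cfsg.Agent.Lib.GLFlags.SemisimpleClasses
import Cfsg.Agent.Lib.Symplectic.Std
-- import your own Cfsg.Agent.* helpers here

set_option autoImplicit false
open Cfsg

namespace Cfsg.Agent.S2389

/-- In the symplectic group `Sp_{2n}(q)`, `q` a power of the prime `p`, two elements of order prime to `p` with the same characteristic polynomial are conjugate in `Sp_{2n}(q)`. -/
theorem result {F : Type*} [Field F] [Fintype F] (p : ℕ) [Fact p.Prime] [CharP F p] (n : ℕ)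
    (g h : ↥(Matrix.symplecticGroup (Fin n) F)) (hg : (orderOf g).Coprime p) (hh : (orderOf h).Coprime p)
    (hc : (g : Matrix (Fin n ⊕ Fin n) (Fin n ⊕ Fin n) F).charpoly = (h : Matrix (Fin n ⊕ Fin n) (Fin n ⊕ Fin n) F).charpoly) :
    IsConj g h := by
  classical
  open Cfsg.Agent.Lib.Symplectic in
  open Cfsg.Agent.Lib.GLFlags in
  open Module in
  -- move to indices `Fin (2n)` only for the linear conjugacy
  obtain ⟨hN, hgN, hhN⟩ :
      ((orderOf g * orderOf h : ℕ) : F) ≠ 0 ∧ g ^ (orderOf g * orderOf h) = 1 ∧ h ^ (orderOf g * orderOf h) = 1 :=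
    ⟨SemisimpleClasses.natCast_ne_zero_of_coprime (hg.mul_left hh),
      by rw [pow_mul, pow_orderOf_eq_one, one_pow],
      by rw [mul_comm, pow_mul, pow_orderOf_eq_one, one_pow]⟩
  let T : Module.End F (Fin n ⊕ Fin n → F) := Matrix.toLin' (g : Matrix (Fin n ⊕ Fin n) (Fin n ⊕ Fin n) F)
  let T' : Module.End F (Fin n ⊕ Fin n → F) := Matrix.toLin' (h : Matrix (Fin n ⊕ Fin n) (Fin n ⊕ Fin n) F)
  have hpow : ∀ (x : ↥(Matrix.symplecticGroup (Fin n) F)) (k : ℕ), x ^ k = 1 →
      Matrix.toLin' (x : Matrix (Fin n ⊕ Fin n) (Fin n ⊕ Fin n) F) ^ k = 1 := fun x k hk => by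
    rw [← Matrix.toLin'_pow, ← SubmonoidClass.coe_pow, hk, OneMemClass.coe_one, Matrix.toLin'_one]
    rfl
  obtain ⟨c, hc'⟩ := SemisimpleClasses.exists_conj_of_charpoly hN T T' rfl (hpow g _ hgN) (hpow h _ hhN)
    (by simp only [T, T', Matrix.charpoly_toLin', hc])
  have hcT : ∀ x, c (T x) = T' (c x) := fun x => by
    rw [← hc', LinearEquiv.conj_apply_apply, LinearEquiv.symm_apply_apply]
  let B := stdForm n F
  have hB : IsSympForm B := isSympForm_stdForm n F
  let B' := B.compl₁₂ c.toLinearMap c.toLinearMap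
  have hB' : IsSympForm B' :=
    ⟨fun x => hB.self _, fun x hx => c.injective (by
      rw [map_zero]; exact hB.nondeg _ fun y => by
        obtain ⟨z, rfl⟩ := c.surjective y; exact hx z)⟩
  have hTB : ∀ x y, B (T x) (T y) = B x y := fun x y => by
    simp only [T, Matrix.toLin'_apply]; exact mem_sp_iff.1 g.2 x y
  have hT'B : ∀ x y, B (T' x) (T' y) = B x y := fun x y => by
    simp only [T', Matrix.toLin'_apply]; exact mem_sp_iff.1 h.2 x y
  obtain ⟨e, heT, hei⟩ := SympConj.good hB hB' hN (hpow g _ hgN) hTB (fun x y => by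
    show B (c (T x)) (c (T y)) = B (c x) (c y)
    rw [hcT, hcT, hT'B])
  have hd : LinearMap.toMatrix' (e.trans c).toLinearMap ∈ Matrix.symplecticGroup (Fin n) F :=
    mem_sp_iff.2 fun x y => by
      rw [LinearMap.toMatrix'_mulVec, LinearMap.toMatrix'_mulVec]
      exact hei x y
  refine isConj_iff.2 ⟨⟨_, hd⟩, ?_⟩
  rw [mul_inv_eq_iff_eq_mul]
  refine Subtype.ext (Matrix.mulVec_injective (funext fun x => ?_))
  show (LinearMap.toMatrix' (e.trans c).toLinearMap * (g : Matrix (Fin n ⊕ Fin n) (Fin n ⊕ Fin n) F)).mulVec x =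
    ((h : Matrix (Fin n ⊕ Fin n) (Fin n ⊕ Fin n) F) * LinearMap.toMatrix' (e.trans c).toLinearMap).mulVec x
  rw [← Matrix.mulVec_mulVec, ← Matrix.mulVec_mulVec, LinearMap.toMatrix'_mulVec, LinearMap.toMatrix'_mulVec]
  show c (e (T x)) = T' (c (e x))
  rw [heT, hcT]

end Cfsg.Agent.S2389
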