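import Cfsg.Statements.S2385
import Cfsg.Agent.S2389
import Cfsg.Agent.Lib.GLFlags.CyclicForm
-- import your own Cfsg.Agent.* helpers here

set_option autoImplicit false
open Cfsg

namespace Cfsg.Agent.S2385

open Polynomial Matrix Cfsg.Agent.Lib.GLFlags

variable {F : Type*} [Field F]

theorem eval_block {K : Type*} [Field K] {n : ℕ} (P Q M : Matrix (Fin n) (Fin n) K) (hQP : Q * P = 1)
    {x : K} (hx : x ≠ 0) :
    (Matrix.fromBlocks 0 (-P) Q M).charpoly.eval x = x ^ n * M.charpoly.eval (x + x⁻¹) := by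
  classical
  rw [Matrix.eval_charpoly, Matrix.eval_charpoly]
  have e : Matrix.scalar (Fin n ⊕ Fin n) x - Matrix.fromBlocks 0 (-P) Q M =
      Matrix.fromBlocks (Matrix.scalar (Fin n) x) P (-Q) (Matrix.scalar (Fin n) x - M) := by
    ext i j
    rcases i with i | i <;> rcases j with j | j <;>
      simp [Matrix.diagonal_apply, Sum.inl.injEq, Sum.inr.injEq]
  let _ : Invertible (Matrix.scalar (Fin n) x) := ⟨Matrix.scalar (Fin n) x⁻¹,
    by rw [← map_mul, inv_mul_cancel₀ hx, map_one], by rw [← map_mul, mul_inv_cancel₀ hx, map_one]⟩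
  rw [e, Matrix.det_fromBlocks₁₁]
  congr 1
  · simp [Finset.prod_const]
  · congr 1
    show Matrix.scalar (Fin n) x - M - -Q * Matrix.scalar (Fin n) x⁻¹ * P = _
    rw [Matrix.neg_mul, Matrix.neg_mul, sub_neg_eq_add,
      ← (Matrix.scalar_commute x⁻¹ (fun a => Commute.all _ a) Q).eq, Matrix.mul_assoc, hQP, Matrix.mul_one,
      map_add]
    abel

/-- Self-reciprocal monic polynomials of degree 2n. -/
def Pal (F : Type*) [Field F] (n : ℕ) : Type _ :=
  {f : F[X] // (f.Monic ∧ f.natDegree = 2 * n) ∧ ∀ i ≤ 2 * n, f.coeff i = f.coeff (2 * n - i)}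

theorem card_pal [Fintype F] {n : ℕ} (hn : 1 ≤ n) : Nat.card (Pal F n) = Fintype.card F ^ n := by
  classical
  let e : {f : F[X] // f.Monic ∧ f.natDegree = 2 * n} ≃ (Fin (2 * n) → F) :=
    (monicEquivDegreeLT (2 * n)).trans (degreeLTEquiv F (2 * n)).toEquiv
  have he : ∀ f (i : Fin (2 * n)), e f i = f.1.coeff i := fun f i => by
    show f.1.eraseLead.coeff i = _
    rw [eraseLead_coeff_of_ne]
    rw [f.2.2]
    exact i.isLt.ne
  let Q : (Fin (2 * n) → F) → Prop := fun v => v ⟨0, by omega⟩ = 1 ∧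
    ∀ i j : Fin (2 * n), (i : ℕ) + j = 2 * n → v i = v j
  have h1 : Nat.card (Pal F n) = Nat.card {v // Q v} := by
    refine Nat.card_congr ((Equiv.subtypeSubtypeEquivSubtypeInter _
      (fun f : F[X] => ∀ i ≤ 2 * n, f.coeff i = f.coeff (2 * n - i))).symm.trans (e.subtypeEquiv fun f => ?_))
    constructor
    · intro h
      refine ⟨?_, fun i j hij => ?_⟩
      · rw [he, h 0 (by omega), Nat.sub_zero]
        have := f.2.1.coeff_natDegree
        rwa [f.2.2] at this
      · rw [he, he, h i (by omega), show 2 * n - (i : ℕ) = j by omega]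
    · rintro ⟨h0, h⟩ i hi
      have h2n : f.1.coeff (2 * n) = 1 := by
        have := f.2.1.coeff_natDegree
        rwa [f.2.2] at this
      rw [he] at h0
      rcases eq_or_ne i 0 with rfl | hi0
      · rw [Nat.sub_zero, h2n]; exact h0
      rcases eq_or_ne i (2 * n) with rfl | hin
      · rw [Nat.sub_self, h2n]; exact h0.symm
      · have := h ⟨i, by omega⟩ ⟨2 * n - i, by omega⟩ (by simp; omega)
        rwa [he, he] at this
  rw [h1, show Fintype.card F ^ n = Nat.card (Fin n → F) by simp]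
  refine Nat.card_congr
    { toFun := fun v i => v.1 ⟨(i : ℕ) + 1, by omega⟩
      invFun := fun w => ⟨fun i => if h : (i : ℕ) = 0 then 1
        else if h' : (i : ℕ) ≤ n then w ⟨(i : ℕ) - 1, by omega⟩ else w ⟨2 * n - i - 1, by omega⟩,
        by simp, fun i j hij => by
          have := i.isLt
          have := j.isLt
          simp only
          split_ifs <;> first | rfl | (exfalso; omega) | (congr 1; simp only [Fin.mk.injEq]; omega)⟩
      left_inv := fun v => Subtype.ext (funext fun i => by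
        have hi := i.isLt
        simp only
        split_ifs with h h'
        · rw [show i = ⟨0, by omega⟩ from Fin.ext h]; exact v.2.1.symm
        · exact congrArg v.1 (Fin.ext (show (i : ℕ) - 1 + 1 = i by omega))
        · exact v.2.2 _ _ (by simp; omega))
      right_inv := fun w => funext fun i => by
        have hi := i.isLt
        simp only
        rw [dif_neg (by omega), dif_pos (by omega)]
        simp }

theorem charpoly_pal {n : ℕ} (g : ↥(Matrix.symplecticGroup (Fin n) F)) :
    ∀ i ≤ 2 * n, (g : Matrix (Fin n ⊕ Fin n) (Fin n ⊕ Fin n) F).charpoly.coeff i =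
      (g : Matrix (Fin n ⊕ Fin n) (Fin n ⊕ Fin n) F).charpoly.coeff (2 * n - i) := by
  classical
  set A := (g : Matrix (Fin n ⊕ Fin n) (Fin n ⊕ Fin n) F) with hA
  have hdet : A.det = 1 := SymplecticGroup.det_eq_one g.2
  let u : GL (Fin n ⊕ Fin n) F := ⟨Matrix.J (Fin n) F, -Matrix.J (Fin n) F,
    by rw [Matrix.mul_neg, Matrix.J_squared, neg_neg], by rw [Matrix.neg_mul, Matrix.J_squared, neg_neg]⟩
  have h1 : A⁻¹.charpoly = A.charpoly := by
    rw [hA, ← SymplecticGroup.coe_inv', SymplecticGroup.coe_inv]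
    have e := Matrix.charpoly_units_conj' u (g : Matrix (Fin n ⊕ Fin n) (Fin n ⊕ Fin n) F)ᵀ
    rw [← Matrix.coe_units_inv] at e
    exact e.trans (Matrix.charpoly_transpose _)
  rw [Matrix.charpoly_inv A ((Matrix.isUnit_iff_isUnit_det A).2 (hdet ▸ isUnit_one)),
    ← Matrix.reverse_charpoly, hdet, Ring.inverse_one] at h1
  intro i hi
  have hd : A.charpoly.natDegree = 2 * n := by
    rw [Matrix.charpoly_natDegree_eq_dim, Fintype.card_sum, Fintype.card_fin]; ring
  have h2 : A.charpoly.reverse = A.charpoly := by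
    conv_rhs => rw [← h1]
    simp [Even.neg_one_pow]
  conv_lhs => rw [← h2, Polynomial.coeff_reverse, hd, Polynomial.revAt_le hi]


/-- In the symplectic group `Sp_{2n}(q)`, `q` a power of the prime `p`, the number of conjugacy classes of elements of order prime to `p` is `q^n`. -/
theorem result {F : Type*} [Field F] [Fintype F] {q : ℕ} (hq : Fintype.card F = q) (p : ℕ) [Fact p.Prime] [CharP F p] (n : ℕ) :
    Nat.card {c : ConjClasses ↥(Matrix.symplecticGroup (Fin n) F) //
      ∃ g : ↥(Matrix.symplecticGroup (Fin n) F), ConjClasses.mk g = c ∧ (orderOf g).Coprime p} = q ^ n := by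
  classical
  rcases Nat.eq_zero_or_pos n with rfl | hn
  · rw [pow_zero, Nat.card_eq_one_iff_unique]
    exact ⟨⟨fun a b => Subtype.ext (by
      rw [← a.2.choose_spec.1, ← b.2.choose_spec.1]
      congr 1
      exact Subtype.ext (Subsingleton.elim _ _))⟩, ⟨⟨ConjClasses.mk 1, 1, rfl, by simp⟩⟩⟩
  let X' := {c : ConjClasses ↥(Matrix.symplecticGroup (Fin n) F) //
    ∃ g : ↥(Matrix.symplecticGroup (Fin n) F), ConjClasses.mk g = c ∧ (orderOf g).Coprime p}
  let Φ : X' → Pal F n := fun c => ⟨(c.2.choose : Matrix (Fin n ⊕ Fin n) (Fin n ⊕ Fin n) F).charpoly,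
    ⟨Matrix.charpoly_monic _, by rw [Matrix.charpoly_natDegree_eq_dim, Fintype.card_sum, Fintype.card_fin]; ring⟩,
    charpoly_pal _⟩
  have hΦ : Function.Injective Φ := by
    intro c d h
    refine Subtype.ext ?_
    rw [← c.2.choose_spec.1, ← d.2.choose_spec.1, ConjClasses.mk_eq_mk_iff_isConj]
    exact Cfsg.Agent.S2389.result p n _ _ c.2.choose_spec.2 d.2.choose_spec.2 (congrArg Subtype.val h)
  have hfin : Finite (Pal F n) := Nat.finite_of_card_ne_zero (by
    rw [card_pal hn]; exact pow_ne_zero _ Fintype.card_ne_zero)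
  have hle : Nat.card X' ≤ q ^ n := by
    rw [← hq, ← card_pal (F := F) hn]
    exact Nat.card_le_card_of_injective Φ hΦ
  -- a class for every monic polynomial of degree n
  have hex : ∀ h : {h : F[X] // h.Monic ∧ h.natDegree = n}, ∃ g : ↥(Matrix.symplecticGroup (Fin n) F),
      (orderOf g).Coprime p ∧ ∀ (x : AlgebraicClosure F), x ≠ 0 →
        Polynomial.aeval x (g : Matrix (Fin n ⊕ Fin n) (Fin n ⊕ Fin n) F).charpoly =
          x ^ n * Polynomial.aeval (x + x⁻¹) h.1 := by
    rintro ⟨h, hm, hd⟩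
    obtain ⟨P, M, hP, hPu, hPM, hM⟩ := CyclicForm.exists_symmetric_pair hm hd
    obtain ⟨P', rfl⟩ := hPu
    have hQP : ((P'⁻¹ : GL (Fin n) F) : Matrix (Fin n) (Fin n) F) * P' = 1 := Units.inv_mul P'
    have hQ : ((P'⁻¹ : GL (Fin n) F) : Matrix (Fin n) (Fin n) F)ᵀ = P'⁻¹ := by
      rw [Matrix.coe_units_inv, Matrix.transpose_nonsing_inv, hP]
    have hmem : Matrix.fromBlocks 0 (-(P' : Matrix (Fin n) (Fin n) F))
        ((P'⁻¹ : GL (Fin n) F) : Matrix (Fin n) (Fin n) F) M ∈ Matrix.symplecticGroup (Fin n) F := by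
      rw [SymplecticGroup.fromBlocks_mem_iff]
      refine ⟨by simp, ?_, ?_⟩
      · rw [Matrix.transpose_neg, hP, Matrix.neg_mul, Matrix.mul_neg, hPM]
      · rw [hQ, Matrix.transpose_zero, Matrix.zero_mul, Matrix.mul_neg, sub_neg_eq_add, zero_add, hQP]
    let u : ↥(Matrix.symplecticGroup (Fin n) F) := ⟨_, hmem⟩
    let ι : ↥(Matrix.symplecticGroup (Fin n) F) →* GL (Fin n ⊕ Fin n) F :=
      (Matrix.symplecticGroup (Fin n) F).subtype.toHomUnits
    have hι : Function.Injective ι := fun a b h => Subtype.ext (congrArg Units.val h)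
    obtain ⟨m, hm', hmc⟩ := SemisimpleClasses.exists_pow_charpoly (p := p) (ι u)
    refine ⟨u ^ m, ?_, fun x hx => ?_⟩
    · rwa [← orderOf_injective ι hι, map_pow]
    · show Polynomial.aeval x (ι (u ^ m)).val.charpoly = _
      rw [map_pow, hmc]
      show Polynomial.aeval x (Matrix.fromBlocks 0 (-(P' : Matrix (Fin n) (Fin n) F)) _ M).charpoly = _
      rw [Polynomial.aeval_def, ← Polynomial.eval_map, ← Matrix.charpoly_map, Matrix.fromBlocks_map,
        Matrix.map_zero _ (map_zero _), Matrix.map_neg _ (map_neg _)]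
      rw [eval_block _ _ _ (by rw [← Matrix.map_mul, hQP, Matrix.map_one _ (map_zero _) (map_one _)]) hx,
        Matrix.charpoly_map, hM, Polynomial.eval_map, Polynomial.aeval_def]
  choose g hg hgeval using hex
  let Ψ : {h : F[X] // h.Monic ∧ h.natDegree = n} → X' := fun h => ⟨ConjClasses.mk (g h), g h, rfl, hg h⟩
  have hΨ : Function.Injective Ψ := by
    intro h h' e
    have e' : IsConj (g h) (g h') := ConjClasses.mk_eq_mk_iff_isConj.1 (congrArg Subtype.val e)
    have hcp : (g h : Matrix (Fin n ⊕ Fin n) (Fin n ⊕ Fin n) F).charpoly =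
        (g h' : Matrix (Fin n ⊕ Fin n) (Fin n ⊕ Fin n) F).charpoly := by
      obtain ⟨c, hc⟩ := isConj_iff.1 e'
      rw [← hc, Submonoid.coe_mul, Submonoid.coe_mul, SymplecticGroup.coe_inv']
      obtain ⟨v, hv⟩ : ∃ v : GL (Fin n ⊕ Fin n) F, v.val = (c : Matrix (Fin n ⊕ Fin n) (Fin n ⊕ Fin n) F) :=
        ⟨((Matrix.symplecticGroup (Fin n) F).subtype.toHomUnits c), rfl⟩
      rw [← hv, Matrix.charpoly_units_conj]
    refine Subtype.ext (Polynomial.map_injective _ (algebraMap F (AlgebraicClosure F)).injective ?_)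
    refine Polynomial.funext fun a => ?_
    obtain ⟨x, hx⟩ := IsAlgClosed.exists_root (Polynomial.X ^ 2 - Polynomial.C a * Polynomial.X + 1) (by
      intro hd
      have := Polynomial.coeff_eq_zero_of_degree_lt (n := 2)
        (p := Polynomial.X ^ 2 - Polynomial.C a * Polynomial.X + 1) (by rw [hd]; norm_num)
      simp [Polynomial.coeff_one, Polynomial.coeff_X] at this)
    have hx' : x ^ 2 - a * x + 1 = 0 := by simpa using hx
    have hx0 : x ≠ 0 := fun h0 => by rw [h0] at hx'; simp at hx'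
    have ha : x + x⁻¹ = a := by
      field_simp
      linear_combination hx'
    have h1 := hgeval h x hx0
    rw [hcp, hgeval h' x hx0, ha] at h1
    rw [Polynomial.eval_map, Polynomial.eval_map, ← Polynomial.aeval_def, ← Polynomial.aeval_def]
    exact (mul_left_cancel₀ (pow_ne_zero _ hx0) h1).symm
  have : Finite X' := Finite.of_injective Φ hΦ
  refine le_antisymm hle ?_
  have hcard : Nat.card {h : F[X] // h.Monic ∧ h.natDegree = n} = q ^ n := by
    rw [Nat.card_congr ((monicEquivDegreeLT n).trans (degreeLTEquiv F n).toEquiv), Nat.card_fun,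
      Nat.card_fin, Nat.card_eq_fintype_card, hq]
  rw [← hcard]
  exact Nat.card_le_card_of_injective Ψ hΨ

end Cfsg.Agent.S2385
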