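import Cfsg.Statements.S5980
import Cfsg.Agent.Lib.Elusive.TensorRank
import Cfsg.Agent.Lib.Elusive.SympPieces
import Cfsg.Agent.Lib.Elusive.SympInv
import Cfsg.Agent.Lib.Forms.TensorFrame

set_option autoImplicit false
open scoped MatrixGroups
open Cfsg

namespace Cfsg.Agent.S5980

open Module Matrix Cfsg.Agent.Lib.Symplectic Cfsg.Agent.Lib.Elusive Cfsg.Agent.Lib.Elusive.TensorRank
  Cfsg.Agent.Lib.Elusive.SympPieces Cfsg.Agent.Lib.Elusive.SympInv Cfsg.Agent.Lib.Forms
open scoped Kronecker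

variable {F : Type*} [Field F]

section Basic

variable {ι : Type} [Fintype ι] [DecidableEq ι] {a b : ℕ}

/-- The derangement criterion. -/
theorem derange {e : ι ≃ Fin a × Fin b} {P : GL ι F} {x g : GL ι F}
    (h : g⁻¹ * x * g ∈ Cfsg.Geo.tensorProductSubgroup a b e P) :
    (∀ z : F, b ≤ finrank F (LinearMap.range (Matrix.toLin' (x : Matrix ι ι F) - z • 1))) ∨
      ∀ z : F, a ∣ finrank F (LinearMap.range (Matrix.toLin' (x : Matrix ι ι F) - z • 1)) := by
  obtain ⟨L, A, B, -, hL⟩ := exists_inFrame e P h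
  by_cases hA : ∀ c : F, (A : Matrix (Fin a) (Fin a) F) ≠ c • 1
  · exact Or.inl fun z => by rw [hL.finrank_range]; exact le_finrank_range hA B.isUnit z
  · push Not at hA
    obtain ⟨c, hc⟩ := hA
    obtain ⟨L', hL'⟩ := hL.exists_copies hc
    exact Or.inr fun z => by rw [finrank_range_copies hL' z]; exact dvd_mul_right a _

theorem finrank_range_diag (w : ι → F) (z : F) :
    finrank F (LinearMap.range (Matrix.toLin' (Matrix.diagonal w) - z • 1)) = Nat.card {i // w i ≠ z} := by
  classical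
  have h1 : Matrix.toLin' (Matrix.diagonal w) - z • 1 = Matrix.toLin' (Matrix.diagonal fun i => w i - z) := by
    rw [← Matrix.diagonal_sub, map_sub, show (Matrix.diagonal fun _ : ι => z) = z • 1 by
      rw [Matrix.smul_one_eq_diagonal], map_smul, Matrix.toLin'_one]
    rfl
  rw [h1]
  show (Matrix.diagonal fun i => w i - z).rank = _
  rw [Matrix.rank_diagonal, Nat.card_eq_fintype_card]
  exact Fintype.card_congr (Equiv.subtypeEquivRight fun i => by rw [sub_ne_zero])

theorem kron_pureLeft (A : Matrix (Fin a) (Fin a) F) (B : Matrix (Fin b) (Fin b) F) (u : Fin a → F)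
    (y : Fin b → F) : (A ⊗ₖ B) *ᵥ pureLeft u y = pureLeft (A *ᵥ u) (B *ᵥ y) := by
  funext p
  show _ = (A *ᵥ u) p.1 * (B *ᵥ y) p.2
  simp only [mulVec, dotProduct, kroneckerMap_apply, Fintype.sum_prod_type, Finset.sum_mul_sum]
  exact Finset.sum_congr rfl fun i _ => Finset.sum_congr rfl fun j _ => by
    show A p.1 i * B p.2 j * (u i * y j) = _
    ring

/-- If the first factor has no fixed vector and at most two pieces, few vectors are fixed. -/
theorem finrank_fix_le [Fintype F] {V : Type*} [AddCommGroup V] [Module F V] [FiniteDimensional F V]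
    {r : ℕ} [Fact r.Prime] (hrF : (r : F) ≠ 0) {L : (Fin a × Fin b → F) ≃ₗ[F] V} {g : Module.End F V}
    {A : Matrix (Fin a) (Fin a) F} {B : Matrix (Fin b) (Fin b) F} (h : InFrame L g A B) (hA : A ^ r = 1)
    (hB : B ^ r = 1) (hfree : finrank F (LinearMap.range (Matrix.toLin' A - (1 : F) • 1)) = a)
    (ha : 0 < a) (ha2 : a ≤ 2 * orderOf (Fintype.card F : ZMod r)) :
    finrank F (LinearMap.ker (g - (1 : F) • 1)) ≤ 2 * b := by
  classical
  set T : Module.End F (Fin a → F) := Matrix.toLin' Aᵀ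
  have hT : T ^ r = 1 := by
    rw [← Matrix.toLin'_pow, ← Matrix.transpose_pow, hA, Matrix.transpose_one, Matrix.toLin'_one]
    rfl
  have hu := isUniform_split (μ := (1 : F)) hrF one_ne_zero (f := T) (by rw [one_pow, one_smul, hT])
  set i := orderOf (Fintype.card F : ZMod r)
  have hipos : 0 < i := orderOf_card_pos hrF
  have hTE : End.eigenspace T (1 : F) = ⊥ := by
    have h1 : T - (1 : F) • 1 = Matrix.toLin' (A - 1)ᵀ := by
      rw [Matrix.transpose_sub, Matrix.transpose_one, map_sub, Matrix.toLin'_one, one_smul]; rfl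
    have h2 : finrank F (LinearMap.range (T - (1 : F) • 1)) = a := by
      rw [h1]
      show (A - 1)ᵀ.rank = a
      rw [Matrix.rank_transpose]
      rw [one_smul] at hfree
      have h3 : Matrix.toLin' A - 1 = Matrix.toLin' (A - 1) := by rw [map_sub, Matrix.toLin'_one]; rfl
      rwa [h3] at hfree
    have h3 := LinearMap.finrank_range_add_finrank_ker (T - (1 : F) • 1)
    rw [Module.finrank_fin_fun] at h3
    rw [End.eigenspace_def]
    exact Submodule.finrank_eq_zero.mp (by omega)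
  have hmult : ∀ S : Submodule F (Fin a → F), Inv T S → ∃ k, finrank F S = k * i := fun S hS => by
    obtain ⟨k, hk⟩ := hu.exists_type hS
    exact ⟨k, hk.2.2.trans (by rw [hTE, inf_bot_eq, finrank_bot, zero_add])⟩
  obtain ⟨P, -, hP⟩ := hu.exists_piece (Inv.top T) (by
    rw [hTE, inf_bot_eq, finrank_bot, finrank_top, Module.finrank_fin_fun]; exact ha)
  have hPd : finrank F P = i := hP.2.2.trans (by rw [zero_add, one_mul])
  obtain ⟨φ₀, hφ₀, hφ₀0⟩ := Submodule.exists_mem_ne_zero_of_ne_bot (p := P) (fun h0 => by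
    rw [h0, finrank_bot] at hPd; omega)
  obtain ⟨φ₁, hφ₁⟩ : ∃ φ₁, P = ⊤ ∨ φ₁ ∉ P := by
    by_cases hP' : P = ⊤
    · exact ⟨0, Or.inl hP'⟩
    · obtain ⟨φ₁, h1⟩ : ∃ φ₁, φ₁ ∉ P := by
        by_contra hcon
        push Not at hcon
        exact hP' (eq_top_iff.mpr fun v _ => hcon v)
      exact ⟨φ₁, Or.inr h1⟩
  let Φ : LinearMap.ker (g - (1 : F) • 1) →ₗ[F] (Fin b → F) × (Fin b → F) :=
    (((contract φ₀).prod (contract φ₁)) ∘ₗ L.symm.toLinearMap) ∘ₗ Submodule.subtype _
  have hinj : Function.Injective Φ := (injective_iff_map_eq_zero Φ).mpr fun w hw => by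
    set M := L.symm (w : V) with hM
    have hfix : (A ⊗ₖ B) *ᵥ M = M := by
      refine L.injective ?_
      rw [← h M]
      have hw' : g (w : V) = w := by simpa [sub_eq_zero] using LinearMap.mem_ker.mp w.2
      simp [M, hw']
    let S : Submodule F (Fin a → F) :=
      { carrier := {φ | contract φ M = 0}
        add_mem' := fun {φ ψ} hφ hψ => funext fun j => by
          have h1 := congrFun (Set.mem_setOf.mp hφ) j
          have h2 := congrFun (Set.mem_setOf.mp hψ) j
          simp only [contract_apply, Pi.zero_apply] at h1 h2 ⊢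
          simp only [Pi.add_apply, add_mul, Finset.sum_add_distrib, h1, h2, add_zero]
        zero_mem' := funext fun j => by simp [contract_apply]
        smul_mem' := fun c φ hφ => funext fun j => by
          have h1 := congrFun (Set.mem_setOf.mp hφ) j
          simp only [contract_apply, Pi.zero_apply] at h1 ⊢
          simp only [Pi.smul_apply, smul_eq_mul, mul_assoc, ← Finset.mul_sum, h1, mul_zero] }
    have hSinv : Inv T S := Inv.of_mem fun φ hφ => by
      show contract (Aᵀ *ᵥ φ) M = 0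
      have h1 := contract_kron φ A B M
      rw [hfix, show contract φ M = 0 from hφ] at h1
      exact Matrix.mulVec_injective_of_isUnit (IsUnit.of_pow_eq_one hB (Fact.out : r.Prime).ne_zero)
        (h1.symm.trans (mulVec_zero B).symm)
    have hw1 : contract φ₀ M = 0 := congrArg Prod.fst hw
    have hw2 : contract φ₁ M = 0 := congrArg Prod.snd hw
    have hPS : P ≤ S := Decomp.piece_le hu hP hSinv hφ₀ hφ₀0 hw1
    have hS : S = ⊤ := by
      rcases hφ₁ with h1 | h1
      · exact eq_top_iff.mpr (h1 ▸ hPS)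
      · obtain ⟨k, hk⟩ := hmult S hSinv
        have h2 : finrank F P < finrank F S := Submodule.finrank_lt_finrank_of_lt
          (lt_of_le_of_ne hPS fun h3 => h1 (h3 ▸ hw2))
        refine Submodule.eq_top_of_finrank_eq ?_
        have h4 := Submodule.finrank_le S
        rw [Module.finrank_fin_fun] at h4 ⊢
        have : 2 ≤ k := by
          by_contra hk2
          have := Nat.mul_le_mul_right i (show k ≤ 1 by omega)
          omega
        have := Nat.mul_le_mul_right i this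
        omega
    have hM0 : M = 0 := funext fun ⟨i, j⟩ => by
      have h1 : contract (Pi.single i (1 : F)) M = 0 := hS.ge (Submodule.mem_top (x := (Pi.single i (1 : F) : Fin a → F)))
      simpa [contract_apply, Pi.single_apply] using congrFun h1 j
    exact Subtype.ext (L.symm.injective (by rw [← hM, hM0]; simp))
  have := LinearMap.finrank_le_finrank_of_injective hinj
  rw [Module.finrank_prod, Module.finrank_fin_fun] at this
  omega

end Basic

/-- Isometries of odd order of a symmetric form move an even number of directions. -/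
theorem even_rank [Fintype F] {W : Type*} [AddCommGroup W] [Module F W] [FiniteDimensional F W]
    {β : W →ₗ[F] W →ₗ[F] F} (hsym : ∀ u v, β u v = β v u) (hnd : ∀ u, (∀ v, β u v = 0) → u = 0)
    {g : Module.End F W} (hiso : ∀ u v, β (g u) (g v) = β u v) {r : ℕ} [Fact r.Prime]
    (hrF : (r : F) ≠ 0) (h2 : (2 : F) ≠ 0) (hg : g ^ r = 1) (huniq : ∀ c : F, c ^ r = 1 → c = 1) :
    Even (finrank F (LinearMap.range (g - (1 : F) • 1))) := by
  rw [one_smul]
  set N := g - 1
  set R := LinearMap.range N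
  set E := LinearMap.ker N
  have hN : ∀ u, N u = g u - u := fun u => rfl
  have hE : ∀ w ∈ E, g w = w := fun w hw => sub_eq_zero.mp (LinearMap.mem_ker.mp hw)
  have hdisj : R ⊓ E = ⊥ := by
    rw [Submodule.eq_bot_iff]
    rintro w ⟨⟨u, rfl⟩, hw⟩
    have hk : ∀ k : ℕ, (g ^ k) u = u + (k : F) • N u := by
      intro k
      induction k with
      | zero => simp
      | succ k ih =>
        rw [pow_succ', Module.End.mul_apply, ih, map_add, map_smul, hE _ hw, Nat.cast_succ, add_smul,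
          one_smul, show g u = u + N u by rw [hN]; abel]
        abel
    have h1 := hk r
    rw [hg, Module.End.one_apply] at h1
    exact (smul_eq_zero.mp (left_eq_add.mp h1)).resolve_left hrF
  have hsup : R ⊔ E = ⊤ := Submodule.eq_top_of_finrank_eq (by
    rw [finrank_sup_of_disjoint hdisj]; exact N.finrank_range_add_finrank_ker)
  have hperp : ∀ w ∈ R, ∀ v ∈ E, β w v = 0 := by
    rintro _ ⟨u, rfl⟩ v hv
    rw [hN, map_sub, LinearMap.sub_apply]
    conv_lhs => arg 1; rw [← hE v hv]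
    rw [hiso, sub_self]
  have hgR : ∀ w ∈ R, g w ∈ R := by
    rintro _ ⟨u, rfl⟩
    exact ⟨g u, by simp [hN]⟩
  let h : Module.End F R := g.restrict hgR
  have hh : ∀ w : R, (h w : W) = g w := fun w => rfl
  have hhr : h ^ r = 1 := LinearMap.ext fun w => Subtype.ext (by
    rw [restrict_pow_apply, hg]; rfl)
  let D : R →ₗ[F] Module.Dual F R := β.compl₁₂ R.subtype R.subtype
  have hD : Function.Injective D := (injective_iff_map_eq_zero D).mpr fun w hw =>
    Subtype.ext (hnd w fun v => by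
      obtain ⟨x, hx, y, hy, rfl⟩ := Submodule.mem_sup.mp (hsup.ge (Submodule.mem_top (x := v)))
      rw [map_add, hperp w w.2 y hy, add_zero]
      exact LinearMap.congr_fun hw ⟨x, hx⟩)
  let De := D.linearEquivOfInjective hD Subspace.dual_finrank_eq.symm
  have hDe : ∀ w v : R, De w v = β w v := fun w v => rfl
  have hconj : (h - 1).dualMap ∘ₗ (De : R →ₗ[F] Module.Dual F R) =
      (De : R →ₗ[F] Module.Dual F R) ∘ₗ (h ^ (r - 1) - 1) := LinearMap.ext fun w => LinearMap.ext fun v => by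
    have h3 : h ((h ^ (r - 1)) w) = w := by
      rw [← Module.End.mul_apply, ← pow_succ', Nat.sub_add_cancel (Fact.out : r.Prime).one_le, hhr,
        Module.End.one_apply]
    show De w ((h - 1) v) = De ((h ^ (r - 1) - 1) w) v
    simp only [hDe, LinearMap.sub_apply, Module.End.one_apply, Submodule.coe_sub, hh, map_sub]
    congr 1
    conv_lhs => rw [← h3]
    exact hiso _ _
  have hdet : LinearMap.det (h - 1) = LinearMap.det (h ^ (r - 1) - 1) := by
    rw [← LinearMap.det_dualMap (h - 1), ← LinearMap.det_conj (h ^ (r - 1) - 1) De, ← LinearMap.comp_assoc,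
      ← hconj, LinearMap.comp_assoc]
    simp
  have hfac : h ^ (r - 1) - 1 = (-1 : F) • (h ^ (r - 1) * (h - 1)) := by
    rw [mul_sub, mul_one, ← pow_succ, Nat.sub_add_cancel (Fact.out : r.Prime).one_le, hhr]
    module
  have hne : LinearMap.det (h - 1) ≠ 0 := by
    intro h0
    obtain ⟨w, hw, hw0⟩ := Submodule.exists_mem_ne_zero_of_ne_bot (LinearMap.bot_lt_ker_of_det_eq_zero h0).ne'
    have h1 : N (w : W) = 0 := congrArg Subtype.val (LinearMap.mem_ker.mp hw)
    exact hw0 (Subtype.ext ((Submodule.mem_bot F).mp (hdisj.le ⟨w.2, h1⟩)))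
  rw [hfac, LinearMap.det_smul, map_mul, map_pow, huniq (LinearMap.det h) (by rw [← map_pow, hhr, map_one]), one_pow,
    one_mul] at hdet
  have h4 : ((-1 : F)) ^ finrank F R = 1 := mul_right_cancel₀ hne (by rw [one_mul]; exact hdet.symm)
  by_contra hodd
  rw [Nat.not_even_iff_odd] at hodd
  rw [hodd.neg_one_pow] at h4
  exact h2 (by linear_combination -h4)

section Symp

variable {d : ℕ}

/-- The matrix of an isometry. -/
noncomputable def toGL : Isom (stdForm d F) →* GL (Fin d ⊕ Fin d) F :=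
  ((Units.map (Matrix.symplecticGroup (Fin d) F).subtype).comp
    (toUnits : Matrix.symplecticGroup (Fin d) F ≃* _).toMonoidHom).comp (spEquiv d F).symm.toMonoidHom

theorem toGL_mulVec (g : Isom (stdForm d F)) (v : Fin d ⊕ Fin d → F) :
    (toGL g : Matrix (Fin d ⊕ Fin d) (Fin d ⊕ Fin d) F) *ᵥ v = g • v :=
  spEquiv_symm_mulVec g v

theorem toGL_mem (g : Isom (stdForm d F)) : toGL g ∈ Cfsg.spGL d F := fun u v => by
  show Cfsg.sympForm d F ((toGL g : Matrix _ _ F) *ᵥ u) ((toGL g : Matrix _ _ F) *ᵥ v) = _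
  rw [toGL_mulVec, toGL_mulVec, ← stdForm_eq_sympForm, ← stdForm_eq_sympForm]
  exact g.2 u v

theorem iso_of_mem {x : GL (Fin d ⊕ Fin d) F} (hx : x ∈ Cfsg.spGL d F) (u v : Fin d ⊕ Fin d → F) :
    stdForm d F (Matrix.toLin' (x : Matrix (Fin d ⊕ Fin d) (Fin d ⊕ Fin d) F) u)
      (Matrix.toLin' (x : Matrix (Fin d ⊕ Fin d) (Fin d ⊕ Fin d) F) v) = stdForm d F u v := by
  rw [stdForm_eq_sympForm, stdForm_eq_sympForm]
  exact hx u v

/-- Families of planes with prescribed Gram matrix and action. -/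
theorem exists_family {V : Type*} [AddCommGroup V] [Module F V] [FiniteDimensional F V]
    {B : V →ₗ[F] V →ₗ[F] F} (hB : IsSympForm B) {f : Module.End F V} (hinj : Function.Injective f)
    (hiso : ∀ u v, B (f u) (f v) = B u v) (A : Matrix (Fin 2) (Fin 2) F)
    (hplane : ∀ X : Submodule F V, Lib.Elusive.Inv f X → Nondeg B X → X ≠ ⊥ → ∀ κ : F, κ ≠ 0 →
      ∃ u ∈ X, ∃ v ∈ X, ∃ ε : F, ε ≠ 0 ∧ B u v = κ ∧ f u = (ε * A 0 0) • u + (ε * A 1 0) • v ∧
        f v = (ε * A 0 1) • u + (ε * A 1 1) • v) :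
    ∀ (b : ℕ) (κ : Fin b → F), (∀ j, κ j ≠ 0) → ∀ X : Submodule F V, Lib.Elusive.Inv f X → Nondeg B X →
      finrank F X = 2 * b →
      ∃ (w : Fin 2 × Fin b → V) (ε : Fin b → F), (∀ p, w p ∈ X) ∧ (∀ j, ε j ≠ 0) ∧
        (∀ j, B (w (0, j)) (w (1, j)) = κ j) ∧
        (∀ p p', p.2 ≠ p'.2 → B (w p) (w p') = 0) ∧
        (∀ p, f (w p) = ∑ i, (ε p.2 * A i p.1) • w (i, p.2)) := by
  intro b
  induction b with
  | zero =>
    intro κ _ X _ _ _
    exact ⟨fun p => p.2.elim0, fun j => j.elim0, fun p => p.2.elim0, fun j => j.elim0, fun j => j.elim0,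
      fun p => p.2.elim0, fun p => p.2.elim0⟩
  | succ b ih =>
    intro κ hκ X hX hnd hdim
    obtain ⟨u, hu, v, hv, ε₀, hε₀, huv, hfu, hfv⟩ := hplane X hX hnd (fun h => by
      rw [h, finrank_bot] at hdim; omega) (κ 0) (hκ 0)
    obtain ⟨hPnd, hPd⟩ := plane_nondeg hB (a := u) (b := v) (by rw [huv]; exact hκ 0)
    set P := Submodule.span F {u, v}
    have hPinv : Lib.Elusive.Inv f P := Inv.of_mem fun y hy => by
      obtain ⟨s, t, rfl⟩ := Submodule.mem_span_pair.mp hy
      rw [map_add, map_smul, map_smul, hfu, hfv]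
      exact P.add_mem (P.smul_mem _ (Submodule.mem_span_pair.mpr ⟨_, _, rfl⟩))
        (P.smul_mem _ (Submodule.mem_span_pair.mpr ⟨_, _, rfl⟩))
    have hPX : P ≤ X := Submodule.span_le.mpr (by rintro _ (rfl | rfl) <;> assumption)
    obtain ⟨hY, -, hYd⟩ := split hB hPnd hnd hPX
    obtain ⟨w, ε, hw, hε, hwκ, hworth, hwf⟩ := ih (fun j => κ j.succ) (fun j => hκ _) _
      (hX.inf (inv_orth hinj hiso hPinv)) hY (by omega)
    let W : Fin 2 × Fin (b + 1) → V := fun p =>
      Fin.cases (motive := fun _ => V) (![u, v] p.1) (fun j => w (p.1, j)) p.2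
    have hW0 : ∀ i, W (i, 0) = ![u, v] i := fun i => rfl
    have hWs : ∀ i j, W (i, Fin.succ j) = w (i, j) := fun i j => rfl
    have hW0P : ∀ i, W (i, 0) ∈ P := fun i => by
      rw [hW0]; fin_cases i
      · exact Submodule.subset_span (by simp)
      · exact Submodule.subset_span (by simp)
    refine ⟨W, Fin.cons ε₀ ε, ?_, Fin.cases (by simpa using hε₀) (fun j => by simpa using hε j), ?_, ?_, ?_⟩
    · rintro ⟨i, j⟩
      refine Fin.cases ?_ (fun j => ?_) j
      · exact hPX (hW0P i)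
      · rw [hWs]; exact (hw _).1
    · refine Fin.cases ?_ fun j => ?_
      · exact huv
      · exact hwκ j
    · rintro ⟨i, j⟩ ⟨i', j'⟩
      refine Fin.cases ?_ (fun j => ?_) j <;> refine Fin.cases ?_ (fun j' => ?_) j' <;> intro hne
      · exact absurd rfl hne
      · rw [hWs]; exact mem_orth.mp (hw (i', j')).2 _ (hW0P i)
      · rw [hWs]; exact hB.comm_eq_zero.mp (mem_orth.mp (hw (i, j)).2 _ (hW0P i'))
      · rw [hWs, hWs]; exact hworth _ _ fun h => hne (congrArg Fin.succ h)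
    · rintro ⟨i, j⟩
      refine Fin.cases ?_ (fun j => ?_) j
      · simp only [hW0, Fin.cons_zero, Fin.sum_univ_two]
        fin_cases i
        · simpa using hfu
        · simpa using hfv
      · simp only [hWs, Fin.cons_succ]
        exact hwf (i, j)

theorem plane_one (h2 : (2 : F) ≠ 0) {V : Type*} [AddCommGroup V] [Module F V]
    {B : V →ₗ[F] V →ₗ[F] F} {f : Module.End F V} (hiso : ∀ u v, B (f u) (f v) = B u v)
    (hff : ∀ v, f (f v) = v) {X : Submodule F V} (hX : Lib.Elusive.Inv f X) (hnd : Nondeg B X) (hne : X ≠ ⊥)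
    {κ : F} (hκ : κ ≠ 0) :
    ∃ u ∈ X, ∃ v ∈ X, ∃ ε : F, ε ≠ 0 ∧ B u v = κ ∧ f u = ε • u ∧ f v = ε • v := by
  obtain ⟨x, hx, hx0⟩ := Submodule.exists_mem_ne_zero_of_ne_bot hne
  obtain ⟨u, hu, hu0, ε, hε, hfu⟩ : ∃ u ∈ X, u ≠ 0 ∧ ∃ ε : F, ε * ε = 1 ∧ f u = ε • u := by
    by_cases h : f x + x = 0
    · exact ⟨x, hx, hx0, -1, by ring, by rw [neg_one_smul]; exact eq_neg_of_add_eq_zero_left h⟩
    · exact ⟨f x + x, X.add_mem (hX.mem hx) hx, h, 1, one_mul 1, by rw [map_add, hff, one_smul, add_comm]⟩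
  obtain ⟨v, hv, hne'⟩ : ∃ v ∈ X, B u v ≠ 0 := by
    by_contra hcon
    push Not at hcon
    exact hu0 (hnd u hu hcon)
  have hfv : B u (f v) = ε * B u v := by
    have h1 := hiso u v
    rw [hfu, map_smul, LinearMap.smul_apply, smul_eq_mul] at h1
    linear_combination ε * h1 - B u (f v) * hε
  have hv' : B u (v + ε • f v) = 2 * B u v := by
    rw [map_add, map_smul, smul_eq_mul, hfv]
    linear_combination B u v * hε
  refine ⟨u, hu, (κ / (2 * B u v)) • (v + ε • f v), X.smul_mem _ (X.add_mem hv (X.smul_mem _ (hX.mem hv))),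
    ε, left_ne_zero_of_mul_eq_one hε, ?_, hfu, ?_⟩
  · rw [map_smul, hv', smul_eq_mul, div_mul_cancel₀ _ (mul_ne_zero h2 hne')]
  · rw [map_smul, map_add, map_smul, hff, smul_comm ε]
    congr 1
    rw [smul_add, smul_smul, hε, one_smul, add_comm]

variable [Fintype F]

theorem plane_neg (h2 : (2 : F) ≠ 0) {V : Type*} [AddCommGroup V] [Module F V]
    {B : V →ₗ[F] V →ₗ[F] F} (hB : IsSympForm B) {f : Module.End F V} (hiso : ∀ u v, B (f u) (f v) = B u v)
    (hff : ∀ v, f (f v) = -v) {X : Submodule F V} (hX : Lib.Elusive.Inv f X) (hnd : Nondeg B X) (hne : X ≠ ⊥)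
    {κ : F} (hκ : κ ≠ 0) :
    ∃ u ∈ X, B u (f u) = κ := by
  have hs : ∀ u v, B u (f v) = B v (f u) := fun u v => by
    have h1 := hiso u (f v)
    rw [hff, map_neg] at h1
    rw [← h1, hB.swap (f u) v, neg_neg]
  obtain ⟨y, hy, hy0⟩ : ∃ y ∈ X, B y (f y) ≠ 0 := by
    by_contra hcon
    push Not at hcon
    obtain ⟨x, hx, hx0⟩ := Submodule.exists_mem_ne_zero_of_ne_bot hne
    refine hx0 (hnd x hx fun y hy => ?_)
    have h1 := hcon (x + f y) (X.add_mem hx (hX.mem hy))
    rw [map_add f, hff, LinearMap.map_add₂, map_add, map_add, hcon x hx, map_neg, map_neg,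
      hs (f y) x, hff, map_neg] at h1
    have h3 : B (f y) y = 0 := by rw [hB.swap, hcon y hy, neg_zero]
    exact (mul_eq_zero.mp (show (2 : F) * B x y = 0 by linear_combination -h1 - h3)).resolve_left h2
  obtain ⟨α, β, hαβ⟩ : ∃ α β : F, α ^ 2 + β ^ 2 = κ / B y (f y) := by
    obtain ⟨α, β, h⟩ := FiniteField.exists_root_sum_quadratic (R := F)
      (f := Polynomial.X ^ 2 - Polynomial.C (κ / B y (f y))) (g := Polynomial.X ^ 2)
      (Polynomial.degree_X_pow_sub_C (by norm_num) _) (Polynomial.degree_X_pow 2)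
      (FiniteField.odd_card_of_char_ne_two fun h0 => h2 (by
        have := CharP.cast_eq_zero F (ringChar F); rw [h0] at this; exact_mod_cast this))
    simp at h
    exact ⟨α, β, by linear_combination h⟩
  refine ⟨α • y + β • f y, X.add_mem (X.smul_mem _ hy) (X.smul_mem _ (hX.mem hy)), ?_⟩
  rw [map_add f, map_smul f, map_smul f, hff]
  simp only [map_add, map_smul, map_neg, LinearMap.add_apply, LinearMap.smul_apply, smul_eq_mul,
    hB.self, hB.swap (f y) y]
  linear_combination (eq_div_iff hy0).mp hαβ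

theorem exists_plus_one (h2 : (2 : F) ≠ 0) {x : GL (Fin d ⊕ Fin d) F} (hd : 0 < d)
    (hx : x ∈ Cfsg.spGL d F) {z : F}
    (hz : (x : Matrix (Fin d ⊕ Fin d) (Fin d ⊕ Fin d) F) * (x : Matrix (Fin d ⊕ Fin d) (Fin d ⊕ Fin d) F) = z • 1) :
    ∃ A : Matrix (Fin 2) (Fin 2) F, A.det ≠ 0 ∧ ∀ (b : ℕ) (κ : Fin b → F), 2 * d = 2 * b → (∀ j, κ j ≠ 0) →
      ∃ (w : Fin 2 × Fin b → Fin d ⊕ Fin d → F) (ε : Fin b → F), (∀ j, ε j ≠ 0) ∧
        (∀ j, stdForm d F (w (0, j)) (w (1, j)) = κ j) ∧
        (∀ p p', p.2 ≠ p'.2 → stdForm d F (w p) (w p') = 0) ∧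
        (∀ p, Matrix.toLin' (x : Matrix (Fin d ⊕ Fin d) (Fin d ⊕ Fin d) F) (w p) =
          ∑ i, (ε p.2 * A i p.1) • w (i, p.2)) := by
  set f := Matrix.toLin' (x : Matrix (Fin d ⊕ Fin d) (Fin d ⊕ Fin d) F) with hfdef
  have hiso := iso_of_mem hx
  have hS := isSympForm_stdForm d F
  have hff : ∀ v, f (f v) = z • v := fun v => by
    rw [hfdef, ← LinearMap.comp_apply, ← Matrix.toLin'_mul, hz, map_smul, Matrix.toLin'_one]; rfl
  obtain ⟨v, hv⟩ := hS.exists_eq_one (u := Pi.single (Sum.inl ⟨0, hd⟩) 1) (by simp)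
  have hz2 : z * z = 1 := by
    have h1 := hiso (f (Pi.single (Sum.inl ⟨0, hd⟩) 1)) (f v)
    rw [hiso (Pi.single (Sum.inl ⟨0, hd⟩) 1) v, hff, hff] at h1
    simpa [map_smul, hv] using h1
  have hinj : Function.Injective f := (injective_iff_map_eq_zero f).mpr fun u hu => hS.nondeg u fun y => by
    rw [← hiso u y, hu, map_zero, LinearMap.zero_apply]
  have hndtop : Nondeg (stdForm d F) ⊤ := fun u _ hu => hS.nondeg u fun y => hu y trivial
  rcases mul_self_eq_one_iff.mp hz2 with rfl | rfl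
  · refine ⟨1, by simp, fun b κ hb hκ => ?_⟩
    obtain ⟨w, ε, -, h⟩ := exists_family hS hinj hiso 1 (fun X hX hnd hne κ hκ => by
      obtain ⟨u, hu, v, hv, ε, hε, huv, hfu, hfv⟩ :=
        plane_one h2 hiso (fun v => by rw [hff, one_smul]) hX hnd hne hκ
      exact ⟨u, hu, v, hv, ε, hε, huv, by simp; exact hfu, by simp; exact hfv⟩)
      b κ hκ ⊤ (Inv.top f) hndtop (by rw [finrank_top, finrank_std, hb])
    exact ⟨w, ε, h⟩
  · refine ⟨!![0, -1; 1, 0], by simp [Matrix.det_fin_two], fun b κ hb hκ => ?_⟩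
    obtain ⟨w, ε, -, h⟩ := exists_family hS hinj hiso !![0, -1; 1, 0] (fun X hX hnd hne κ hκ => by
      obtain ⟨u, hu, huκ⟩ :=
        plane_neg h2 hS hiso (fun v => by rw [hff, neg_one_smul]) hX hnd hne hκ
      exact ⟨u, hu, f u, hX.mem hu, 1, one_ne_zero, huκ, by simp, by simp [hff]⟩)
      b κ hκ ⊤ (Inv.top f) hndtop (by rw [finrank_top, finrank_std, hb])
    exact ⟨w, ε, h⟩

/-- Involutions fix a point when the first factor is a plane. -/
theorem fix_two (h2 : (2 : F) ≠ 0) (hd : 0 < d) {b : ℕ} (hab : 2 * d = 2 * b)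
    (e : (Fin d ⊕ Fin d) ≃ Fin 2 × Fin b) (P : GL (Fin d ⊕ Fin d) F)
    {f₁ : (Fin 2 → F) → (Fin 2 → F) → F} {f₂ : (Fin b → F) → (Fin b → F) → F}
    (hf₁ : Cfsg.Geo.IsSymplecticForm f₁) (hf₂ : Cfsg.Geo.IsSymmetricForm f₂)
    (hS : Cfsg.Geo.IsTensorFormStructure id (Cfsg.sympForm d F) f₁ f₂ e P)
    {x : GL (Fin d ⊕ Fin d) F} (hx : x ∈ Cfsg.spGL d F) {z : F}
    (hz : (x : Matrix (Fin d ⊕ Fin d) (Fin d ⊕ Fin d) F) * (x : Matrix (Fin d ⊕ Fin d) (Fin d ⊕ Fin d) F) = z • 1) :
    ∃ g ∈ Cfsg.spGL d F, g⁻¹ * x * g ∈ Cfsg.Geo.tensorProductSubgroup 2 b e P := by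
  classical
  obtain ⟨c, hc, hcS⟩ := hS
  haveI : Invertible (2 : F) := invertibleOfNonzero h2
  let β : LinearMap.BilinForm F (Fin b → F) := LinearMap.mk₂ F f₂ hf₂.bilinear.add_left
    (fun t x y => hf₂.bilinear.smul_left t x y) (fun x y y' => hf₂.bilinear.add_right x y y')
    (fun t x y => hf₂.bilinear.smul_right t x y)
  obtain ⟨v, hv⟩ := LinearMap.BilinForm.exists_orthogonal_basis (B := β)
    ⟨fun x y => hf₂.symm x y⟩
  let v' := v.reindex (finCongr (Module.finrank_fin_fun F))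
  have hv' : ∀ j k, j ≠ k → f₂ (v' j) (v' k) = 0 := fun j k hjk => by
    simp only [v', Basis.reindex_apply]
    exact hv (fun h => hjk ((finCongr (Module.finrank_fin_fun F)).symm.injective h))
  set δ : Fin b → F := fun j => f₂ (v' j) (v' j)
  have hδ : ∀ j, δ j ≠ 0 := fun j h0 => by
    obtain ⟨-, y, hy⟩ := hf₂.nondegenerate (v' j) (v'.ne_zero j)
    refine hy ?_
    show β (v' j) y = 0
    rw [← v'.sum_repr y, map_sum]
    refine Finset.sum_eq_zero fun k _ => ?_
    rw [map_smul, smul_eq_mul]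
    rcases eq_or_ne j k with rfl | hjk
    · exact mul_eq_zero_of_right _ h0
    · exact mul_eq_zero_of_right _ (hv' j k hjk)
  set γ := f₁ (Pi.single 0 1) (Pi.single 1 1) with hγdef
  have hG1 : Cfsg.Geo.gramMatrix f₁ = !![0, γ; -γ, 0] := by
    ext i j
    fin_cases i <;> fin_cases j <;> simp [Cfsg.Geo.gramMatrix, hf₁.alternating, ← hγdef]
    exact hf₁.skew _ _
  have hγ : γ ≠ 0 := by
    intro h0
    obtain ⟨-, y, hy⟩ := hf₁.nondegenerate (Pi.single 0 1) (by simp)
    refine hy ?_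
    rw [pi_eq_sum_univ' y, Fin.sum_univ_two, hf₁.bilinear.add_right, hf₁.bilinear.smul_right,
      hf₁.bilinear.smul_right, hf₁.alternating, ← hγdef, h0]
    ring
  obtain ⟨A, hA, hfam⟩ := exists_plus_one h2 hd hx hz
  obtain ⟨w, ε, hε, hwκ, hworth, hwf⟩ := hfam b (fun j => c * γ * δ j) hab
    fun j => mul_ne_zero (mul_ne_zero hc hγ) (hδ j)
  -- Gram matrix of the family
  have hS' := isSympForm_stdForm d F
  have hgram : ∀ p p', stdForm d F (w p) (w p') = c * (!![0, γ; -γ, 0] p.1 p'.1 * Matrix.diagonal δ p.2 p'.2) := by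
    rintro ⟨i, j⟩ ⟨i', j'⟩
    rcases eq_or_ne j j' with rfl | hne
    · fin_cases i <;> fin_cases i' <;> simp [hS'.self, hwκ, Matrix.diagonal_apply_eq]
      · ring
      · rw [hS'.swap, hwκ]; ring
    · rw [hworth _ _ hne, Matrix.diagonal_apply_ne _ hne, mul_zero, mul_zero]
  let T : Matrix (Fin b) (Fin b) F := (Pi.basisFun F (Fin b)).toMatrix v'
  let S : Matrix (Fin b) (Fin b) F := v'.toMatrix (Pi.basisFun F (Fin b))
  have hTS : T * S = 1 := Basis.toMatrix_mul_toMatrix_flip _ _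
  have hST : S * T = 1 := Basis.toMatrix_mul_toMatrix_flip _ _
  have hG2 : Cfsg.Geo.gramMatrix f₂ = Sᵀ * Matrix.diagonal δ * S := by
    ext j k
    show β (Pi.single j 1) (Pi.single k 1) = _
    have h1 : ∀ j, (Pi.single j (1 : F) : Fin b → F) = ∑ l, S l j • v' l := fun j => by
      simp only [S, Basis.toMatrix_apply, Pi.basisFun_apply]
      exact (v'.sum_repr _).symm
    rw [h1 j, h1 k]
    simp only [map_sum, map_smul, LinearMap.sum_apply, LinearMap.smul_apply, smul_eq_mul, Matrix.mul_apply,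
      Matrix.transpose_apply, Matrix.diagonal_apply, mul_ite, mul_zero, Finset.sum_ite_eq', Finset.mem_univ, if_true]
    refine Finset.sum_congr rfl fun l _ => ?_
    rw [Finset.sum_eq_single l (fun m _ hm => by
      rw [show β (v' m) (v' l) = 0 from hv' m l hm]; ring) (fun h => absurd (Finset.mem_univ _) h)]
    show _ = S l j * β (v' l) (v' l) * S l k
    ring
  let D : Matrix (Fin 2 × Fin b) (Fin 2 × Fin b) F := (1 : Matrix (Fin 2) (Fin 2) F) ⊗ₖ S
  let Bm : Matrix (Fin b) (Fin b) F := T * Matrix.diagonal ε * S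
  have hcomm : D * (A ⊗ₖ Bm) = (A ⊗ₖ Matrix.diagonal ε) * D := by
    rw [← Matrix.mul_kronecker_mul, ← Matrix.mul_kronecker_mul, one_mul, mul_one]
    congr 1
    show S * (T * Matrix.diagonal ε * S) = _
    rw [← mul_assoc, ← mul_assoc, hST, one_mul]
  let Lw : (Fin 2 × Fin b → F) →ₗ[F] (Fin d ⊕ Fin d → F) := Fintype.linearCombination F w
  have hLw : ∀ M, Lw M = ∑ p, M p • w p := fun M => Fintype.linearCombination_apply ..
  have hLwx : ∀ M, Matrix.toLin' (x : Matrix (Fin d ⊕ Fin d) (Fin d ⊕ Fin d) F) (Lw M) =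
      Lw ((A ⊗ₖ Matrix.diagonal ε) *ᵥ M) := fun M => by
    rw [hLw, hLw, map_sum]
    simp only [map_smul, hwf, Finset.smul_sum, smul_smul, mulVec, dotProduct, kroneckerMap_apply,
      Fintype.sum_prod_type, Matrix.diagonal_apply, mul_ite, mul_zero, ite_mul, zero_mul, Finset.sum_ite_eq,
      Finset.mem_univ, if_true, Finset.sum_smul]
    conv_rhs => rw [Finset.sum_comm]; enter [2, j]; rw [Finset.sum_comm]
    rw [Finset.sum_comm]
    exact Finset.sum_congr rfl fun j _ => Finset.sum_congr rfl fun i _ => Finset.sum_congr rfl fun i' _ => by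
      congr 1; ring
  have hform : ∀ M N, stdForm d F (Lw (D *ᵥ M)) (Lw (D *ᵥ N)) =
      c * Cfsg.Geo.formOfGram id (Cfsg.Geo.gramMatrix f₁ ⊗ₖ Cfsg.Geo.gramMatrix f₂) M N := fun M N => by
    have hdot : ∀ (G : Matrix (Fin 2 × Fin b) (Fin 2 × Fin b) F) M N,
        Cfsg.Geo.formOfGram id G M N = M ⬝ᵥ (G *ᵥ N) := fun G M N => by
      simp only [Cfsg.Geo.formOfGram, dotProduct, mulVec, Finset.mul_sum, id, mul_assoc]
    have hLwf : ∀ M N, stdForm d F (Lw M) (Lw N) =
        c * (M ⬝ᵥ ((!![0, γ; -γ, 0] ⊗ₖ Matrix.diagonal δ) *ᵥ N)) := fun M N => by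
      rw [hLw, hLw]
      simp only [map_sum, map_smul, LinearMap.sum_apply, LinearMap.smul_apply, smul_eq_mul, hgram,
        dotProduct, mulVec, Finset.mul_sum, kroneckerMap_apply]
      rw [Finset.sum_comm]
      exact Finset.sum_congr rfl fun p _ => Finset.sum_congr rfl fun p' _ => by ring
    rw [hLwf, hdot, hG1, hG2, Matrix.mulVec_mulVec, Matrix.dotProduct_mulVec, ← Matrix.vecMul_transpose,
      Matrix.vecMul_vecMul, ← Matrix.dotProduct_mulVec, ← mul_assoc]
    congr 3
    rw [← Matrix.kroneckerMap_transpose, Matrix.transpose_one, ← Matrix.mul_kronecker_mul,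
      ← Matrix.mul_kronecker_mul, one_mul, mul_one]
  let G : (Fin d ⊕ Fin d → F) →ₗ[F] (Fin d ⊕ Fin d → F) :=
    Lw ∘ₗ Matrix.toLin' D ∘ₗ LinearMap.funLeft F F e.symm ∘ₗ
      Matrix.toLin' ((P⁻¹ : GL (Fin d ⊕ Fin d) F) : Matrix (Fin d ⊕ Fin d) (Fin d ⊕ Fin d) F)
  have hG : ∀ u v, stdForm d F (G u) (G v) = stdForm d F u v := fun u v => by
    show stdForm d F (Lw (D *ᵥ _)) (Lw (D *ᵥ _)) = _
    rw [hform, ← hcS, stdForm_eq_sympForm]
    simp only [LinearMap.coe_comp, Function.comp_apply, Matrix.toLin'_apply]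
    congr 1 <;>
    · rw [show ∀ v : Fin d ⊕ Fin d → F, (LinearMap.funLeft F F e.symm v) ∘ e = v from fun v =>
        funext fun i => congrArg v (e.symm_apply_apply i)]
      rw [Matrix.mulVec_mulVec, ← Units.val_mul, mul_inv_cancel, Units.val_one, Matrix.one_mulVec]
  have hGinj : Function.Injective G := (injective_iff_map_eq_zero G).mpr fun u hu => hS'.nondeg u fun y => by
    rw [← hG u y, hu, map_zero, LinearMap.zero_apply]
  let gI : Isom (stdForm d F) := ⟨LinearEquiv.ofInjectiveEndo G hGinj, hG⟩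
  set g := toGL gI
  have hg : ∀ u, (g : Matrix (Fin d ⊕ Fin d) (Fin d ⊕ Fin d) F) *ᵥ u = G u := fun u => toGL_mulVec gI u
  have hdB : Bm.det ≠ 0 := by
    have h1 : T.det * S.det = 1 := by rw [← Matrix.det_mul, hTS, Matrix.det_one]
    simp only [Bm, Matrix.det_mul, Matrix.det_diagonal]
    exact mul_ne_zero (mul_ne_zero (left_ne_zero_of_mul_eq_one h1) (Finset.prod_ne_zero_iff.mpr fun j _ => hε j))
      (right_ne_zero_of_mul_eq_one h1)
  let N : GL (Fin 2 × Fin b) F := Matrix.GeneralLinearGroup.mkOfDetNeZero (A ⊗ₖ Bm) (by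
    rw [Matrix.det_kronecker]; exact mul_ne_zero (pow_ne_zero _ hA) (pow_ne_zero _ hdB))
  set φ := Cfsg.Geo.glReindex (F := F) e.symm
  have hN : N ∈ Cfsg.Geo.kroneckerSubgroup 2 b F :=
    ⟨Matrix.GeneralLinearGroup.mkOfDetNeZero A hA, Matrix.GeneralLinearGroup.mkOfDetNeZero Bm hdB, rfl⟩
  have hconj : x * g = g * (P * φ N * P⁻¹) := Units.ext (Matrix.toLin'.injective (LinearMap.ext fun u => by
    rw [Matrix.toLin'_apply, Matrix.toLin'_apply, Units.val_mul, Units.val_mul, Units.val_mul, Units.val_mul,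
      ← mulVec_mulVec, ← mulVec_mulVec, hg, hg, ← Matrix.toLin'_apply (x : Matrix (Fin d ⊕ Fin d) (Fin d ⊕ Fin d) F),
      ← mulVec_mulVec, ← mulVec_mulVec]
    simp only [G, LinearMap.coe_comp, Function.comp_apply, hLwx]
    rw [Matrix.toLin'_apply, Matrix.toLin'_apply, Matrix.toLin'_apply, Matrix.mulVec_mulVec, ← hcomm,
      ← Matrix.mulVec_mulVec]
    congr 2
    generalize ((P⁻¹ : GL (Fin d ⊕ Fin d) F) : Matrix (Fin d ⊕ Fin d) (Fin d ⊕ Fin d) F) *ᵥ u = u'
    rw [Matrix.toLin'_apply, Matrix.mulVec_mulVec _ ((P⁻¹ : GL (Fin d ⊕ Fin d) F) : Matrix (Fin d ⊕ Fin d) (Fin d ⊕ Fin d) F),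
      ← Units.val_mul, inv_mul_cancel, Units.val_one, Matrix.one_mulVec]
    show _ = LinearMap.funLeft F F e.symm (((Matrix.reindexAlgEquiv F F e.symm) (A ⊗ₖ Bm)) *ᵥ u')
    rw [Matrix.reindexAlgEquiv_apply, Matrix.reindex_apply, Equiv.symm_symm, Matrix.submatrix_mulVec_equiv]
    funext q
    simp [LinearMap.funLeft_apply]
    rfl))
  refine ⟨g, toGL_mem gI, φ N, ⟨N, hN, rfl⟩, ?_⟩
  show P * φ N * P⁻¹ = g⁻¹ * x * g
  rw [mul_assoc g⁻¹, hconj, inv_mul_cancel_left]

/-- Elements of prime order of PSp_n(q), q odd, and the stabilizers of tensor decompositions Sp_a(q) ⊗ O_b(q). Here `T = PSp_{2d}(F)` for a field `F` with `q` elements, `q` odd, `d ≥ 2`, realised through the matrices preserving the standard alternating form `f`; `2d = a·b` with `a` even, `b ≥ 3`, and the bijection `e` and change of basis `P` exhibit `f` as a non-zero scalar multiple of the tensor product of a non-degenerate alternating form `f₁` on `F^a` and a non-degenerate symmetric bilinear form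 `f₂` on `F^b`; `H` is the subgroup of `T` stabilizing this tensor decomposition (the elements of `T` in the conjugate by `P` of the group of Kronecker products) — a subgroup of type Sp_a(q) ⊗ O^ε_b(q) (maximality is not assumed). Ω is the set of cosets of `H` in `T`, so an element of `T` of prime order `r` (`x ∈ T` with `x^r` scalar, `x` not scalar) fixes a point of Ω exactly when some `T`-conjugate of `x` lies in `H`. Let `r` be a prime dividing the index of `H`. Then every element of `T` of order `r` fixes a point of Ω if and only if `r = 2` and `a = 2`. -/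
theorem result {F : Type*} [Field F] [Fintype F] {p : ℕ} [Fact p.Prime] [CharP F p] {q : ℕ} (hq : Fintype.card F = q)
    (hodd : Odd q) (d : ℕ) (hd : 2 ≤ d) (a b : ℕ) (hab : 2 * d = a * b) (ha : Even a) (ha2 : 2 ≤ a) (hb : 3 ≤ b)
    (e : (Fin d ⊕ Fin d) ≃ Fin a × Fin b) (P : GL (Fin d ⊕ Fin d) F)
    (f₁ : (Fin a → F) → (Fin a → F) → F) (f₂ : (Fin b → F) → (Fin b → F) → F)
    (hf₁ : Cfsg.Geo.IsSymplecticForm f₁) (hf₂ : Cfsg.Geo.IsSymmetricForm f₂)
    (hS : Cfsg.Geo.IsTensorFormStructure id (Cfsg.sympForm d F) f₁ f₂ e P)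
    (r : ℕ) [Fact r.Prime]
    (hΩ : r ∣ (Cfsg.Geo.tensorProductSubgroup a b e P).relIndex (Cfsg.spGL d F)) :
    (∀ x ∈ Cfsg.spGL d F, (∃ z : F, ((x ^ r : GL (Fin d ⊕ Fin d) F) : Matrix (Fin d ⊕ Fin d) (Fin d ⊕ Fin d) F) = z • (1 : Matrix (Fin d ⊕ Fin d) (Fin d ⊕ Fin d) F)) →
      (∀ z : F, (x : Matrix (Fin d ⊕ Fin d) (Fin d ⊕ Fin d) F) ≠ z • (1 : Matrix (Fin d ⊕ Fin d) (Fin d ⊕ Fin d) F)) →
      ∃ g ∈ Cfsg.spGL d F, g⁻¹ * x * g ∈ Cfsg.Geo.tensorProductSubgroup a b e P) ↔ (r = 2 ∧ a = 2) := by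
  classical
  subst hq
  have hr : r.Prime := Fact.out
  have hp : p.Prime := Fact.out
  have h2 : (2 : F) ≠ 0 := Ring.two_ne_zero fun h0 => by
    have := FiniteField.even_card_iff_char_two.mp h0
    rw [Nat.odd_iff] at hodd
    omega
  have hS' := isSympForm_stdForm d F
  let l0 : Fin d := ⟨0, by omega⟩
  let i0 : Fin d ⊕ Fin d := Sum.inl l0
  let i1 : Fin d ⊕ Fin d := Sum.inr l0
  obtain ⟨a', ha'⟩ := ha.two_dvd
  have hdiag : ∀ lam : F, lam ≠ 0 → lam ≠ 1 → lam ^ r = 1 →
      (a ≠ 2 ∨ lam⁻¹ ≠ lam) →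
      ¬ ∀ x ∈ Cfsg.spGL d F, (∃ z : F, ((x ^ r : GL (Fin d ⊕ Fin d) F) : Matrix (Fin d ⊕ Fin d) (Fin d ⊕ Fin d) F) = z • (1 : Matrix (Fin d ⊕ Fin d) (Fin d ⊕ Fin d) F)) →
      (∀ z : F, (x : Matrix (Fin d ⊕ Fin d) (Fin d ⊕ Fin d) F) ≠ z • (1 : Matrix (Fin d ⊕ Fin d) (Fin d ⊕ Fin d) F)) →
      ∃ g ∈ Cfsg.spGL d F, g⁻¹ * x * g ∈ Cfsg.Geo.tensorProductSubgroup a b e P := by
    intro lam hl0 hl1 hlr hcase hall
    let w : Fin d ⊕ Fin d → F := fun i => if i = i0 then lam else if i = i1 then lam⁻¹ else 1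
    have hwl : ∀ k, w (Sum.inl k) = if k = l0 then lam else 1 := fun k => by simp [w, i0, i1]
    have hwr : ∀ k, w (Sum.inr k) = if k = l0 then lam⁻¹ else 1 := fun k => by simp [w, i0, i1]
    have hw0 : ∀ i, w i ≠ 0 := fun i => by
      simp only [w]; split_ifs <;> simp [hl0]
    let x : GL (Fin d ⊕ Fin d) F := Matrix.GeneralLinearGroup.mkOfDetNeZero (Matrix.diagonal w) (by
      rw [Matrix.det_diagonal]; exact Finset.prod_ne_zero_iff.mpr fun i _ => hw0 i)
    have hx : x ∈ Cfsg.spGL d F := fun u v => by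
      show Cfsg.sympForm d F (Matrix.diagonal w *ᵥ u) (Matrix.diagonal w *ᵥ v) = _
      rw [← stdForm_eq_sympForm, ← stdForm_eq_sympForm, stdForm_apply, stdForm_apply]
      refine Finset.sum_congr rfl fun k _ => ?_
      simp only [Matrix.mulVec_diagonal, hwl, hwr]
      split_ifs
      · field_simp
      · ring
    obtain ⟨g, -, hg⟩ := hall x hx ⟨1, by
        rw [one_smul, Units.val_pow_eq_pow_val]
        show Matrix.diagonal w ^ r = 1
        rw [Matrix.diagonal_pow, ← Matrix.diagonal_one]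
        refine congrArg _ (funext fun i => ?_)
        simp only [w, Pi.pow_apply]
        split_ifs <;> simp [hlr, inv_pow]⟩ fun z hz => by
      have h1 := congrFun (congrFun hz (Sum.inl l0)) (Sum.inl l0)
      have h3 := congrFun (congrFun hz (Sum.inl ⟨1, by omega⟩)) (Sum.inl ⟨1, by omega⟩)
      simp [x, w, i0, i1, l0, Matrix.GeneralLinearGroup.mkOfDetNeZero] at h1 h3
      exact hl1 (h1.trans h3.symm)
    have hk1 : Nat.card {i // w i ≠ 1} = 2 := by
      rw [Nat.card_congr (Equiv.subtypeEquivRight (q := fun i => i ∈ ({i0, i1} : Finset (Fin d ⊕ Fin d))) fun i => by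
        by_cases h : i = i0
        · simp [w, h, hl1]
        · by_cases h' : i = i1
          · simp only [w, if_neg h, if_pos h']; exact iff_of_true (by simpa using hl1) (by simp [h'])
          · simp [w, h, h']), Nat.card_eq_fintype_card, Fintype.card_coe, Finset.card_pair (by simp [i0, i1])]
    rcases derange hg with h | h
    · have := h 1
      rw [show (x : Matrix (Fin d ⊕ Fin d) (Fin d ⊕ Fin d) F) = Matrix.diagonal w from rfl, finrank_range_diag, hk1] at this
      omega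
    · have h1 := h 1
      rw [show (x : Matrix (Fin d ⊕ Fin d) (Fin d ⊕ Fin d) F) = Matrix.diagonal w from rfl, finrank_range_diag, hk1] at h1
      obtain rfl : a = 2 := by have := Nat.le_of_dvd (by norm_num) h1; omega
      have hlne := hcase.resolve_left (fun h => h rfl)
      have h3 := h lam
      rw [show (x : Matrix (Fin d ⊕ Fin d) (Fin d ⊕ Fin d) F) = Matrix.diagonal w from rfl, finrank_range_diag,
        Nat.card_congr (Equiv.subtypeEquivRight (q := fun i => i ∈ ({i0}ᶜ : Finset (Fin d ⊕ Fin d))) fun i => by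
        by_cases h : i = i0
        · simp [w, h]
        · by_cases h' : i = i1
          · simp only [w, if_neg h, if_pos h']; exact iff_of_true hlne (by simp [h', i0, i1])
          · simp [w, h, h', Ne.symm hl1]), Nat.card_eq_fintype_card, Fintype.card_coe, Finset.card_compl,
        Finset.card_singleton, Fintype.card_sum, Fintype.card_fin] at h3
      omega
  by_cases hrp : r = p
  · subst hrp
    refine iff_of_false (fun hall => ?_) fun h => h2 (by
      have h0 := CharP.cast_eq_zero F r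
      rw [h.1] at h0
      exact_mod_cast h0)
    let u : Fin d ⊕ Fin d → F := Pi.single i0 1
    let t := transv hS' u (1 : F)
    have hk : ∀ k : ℕ, t ^ k = transv hS' u (k : F) := by
      intro k
      induction k with
      | zero => exact isom_ext fun y => by simp [transv_smul]
      | succ k ih => rw [pow_succ, ih, transv_mul, Nat.cast_succ]
    obtain ⟨v, hv⟩ := hS'.exists_eq_one (u := u) (by simp [u])
    have hu0 : u ≠ 0 := by simp [u]
    have hact : ∀ y, (toGL t : Matrix (Fin d ⊕ Fin d) (Fin d ⊕ Fin d) F) *ᵥ y = y + stdForm d F y u • u := fun y => by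
      rw [toGL_mulVec, transv_smul, one_mul]
    have hvu : stdForm d F v u ≠ 0 := by rw [hS'.swap, hv]; simp
    obtain ⟨g, -, hg⟩ := hall _ (toGL_mem t) ⟨1, by
        rw [one_smul, ← map_pow, hk, CharP.cast_eq_zero, show transv hS' u (0 : F) = 1 from
          isom_ext fun y => by simp [transv_smul], map_one, Units.val_one]⟩ fun z hz => by
      have h1 := hact v
      rw [hz, Matrix.smul_mulVec, Matrix.one_mulVec] at h1
      have h3 := congrArg (fun y => stdForm d F u y) h1
      simp only [map_smul, map_add, hS'.self, smul_zero, add_zero, mul_zero, hv, smul_eq_mul, mul_one] at h3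
      rw [h3, one_smul, left_eq_add, smul_eq_zero] at h1
      exact h1.elim hvu hu0
    have hrank : finrank F (LinearMap.range (Matrix.toLin' (toGL t : Matrix (Fin d ⊕ Fin d) (Fin d ⊕ Fin d) F) - (1 : F) • 1)) = 1 := by
      have heq : ∀ y, (Matrix.toLin' (toGL t : Matrix (Fin d ⊕ Fin d) (Fin d ⊕ Fin d) F) - (1 : F) • 1) y = stdForm d F y u • u := fun y => by
        rw [LinearMap.sub_apply, Matrix.toLin'_apply, hact, one_smul, Module.End.one_apply, add_sub_cancel_left]
      refine le_antisymm ((Submodule.finrank_mono (t := Submodule.span F {u}) ?_).trans (finrank_span_singleton hu0).le) ?_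
      · rintro _ ⟨y, rfl⟩
        exact Submodule.mem_span_singleton.mpr ⟨_, (heq y).symm⟩
      · refine Submodule.one_le_finrank_iff.mpr fun h0 => ?_
        rw [LinearMap.range_eq_bot] at h0
        have h1 := heq v
        rw [h0, LinearMap.zero_apply, eq_comm, smul_eq_zero] at h1
        exact h1.elim hvu hu0
    rcases derange hg with h | h
    · have := h 1; rw [hrank] at this; omega
    · have := h 1; rw [hrank, Nat.dvd_one] at this; omega
  have hrF : (r : F) ≠ 0 := fun h0 =>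
    hrp ((Nat.prime_dvd_prime_iff_eq hp hr).mp ((CharP.cast_eq_zero_iff F p r).mp h0)).symm
  rcases eq_or_ne r 2 with rfl | hr2
  · constructor
    · intro hall
      refine ⟨rfl, ?_⟩
      by_contra hne
      exact hdiag (-1) (by simp) (fun h => h2 (by linear_combination -h)) (by ring) (Or.inl hne) hall
    · rintro ⟨-, rfl⟩ x hx ⟨z, hz⟩ -
      rw [Units.val_pow_eq_pow_val, pow_two] at hz
      exact fix_two h2 (by omega) hab e P hf₁ hf₂ hS hx hz
  refine iff_of_false (fun hall => ?_) (fun h => hr2 h.1)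
  by_cases hdvd : r ∣ Fintype.card F - 1
  · obtain ⟨ζ, hζ⟩ := exists_prime_orderOf_dvd_card (G := Fˣ) r (by rwa [Fintype.card_units])
    refine hdiag (ζ : F) ζ.ne_zero (fun h => by rw [Units.val_eq_one.mp h, orderOf_one] at hζ; exact hr.ne_one hζ.symm)
      (by rw [← Units.val_pow_eq_pow_val, ← hζ, pow_orderOf_eq_one, Units.val_one]) (Or.inr fun h => ?_) hall
    have h1 : ζ ^ 2 = 1 := by
      refine Units.ext ?_
      rw [Units.val_pow_eq_pow_val, pow_two, Units.val_one]
      nth_rewrite 1 [← h]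
      exact inv_mul_cancel₀ ζ.ne_zero
    have h3 := Nat.le_of_dvd (by norm_num) (hζ ▸ orderOf_dvd_of_pow_eq_one h1)
    have := hr.two_le
    omega
  have hcop : (Nat.card Fˣ).Coprime r := by
    rw [Nat.card_eq_fintype_card, Fintype.card_units]
    exact (hr.coprime_iff_not_dvd.mpr hdvd).symm
  have hroot : ∀ c : F, c ≠ 0 → ∃ t : F, t ≠ 0 ∧ t ^ r = c := fun c hc => by
    obtain ⟨t, ht⟩ := (powCoprime hcop).surjective (Units.mk0 c hc)
    exact ⟨(t : F), t.ne_zero, by
      have := congrArg Units.val ht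
      simpa [powCoprime] using this⟩
  have huniq : ∀ c : F, c ^ r = 1 → c = 1 := fun c hc => by
    have hc0 : c ≠ 0 := by rintro rfl; simp [hr.ne_zero] at hc
    exact congrArg Units.val ((powCoprime hcop).injective (a₁ := Units.mk0 c hc0) (a₂ := 1)
      (Units.ext (by simpa [powCoprime] using hc)))
  have hndtop : Nondeg (stdForm d F) ⊤ := fun u _ hu => hS'.nondeg u fun y => hu y trivial
  set i := orderOf (Fintype.card F : ZMod r) with hidef
  set cc := pieceDim i with hccdef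
  have hipos : 0 < i := orderOf_card_pos hrF
  have hcpos : 0 < cc := by rw [hccdef, pieceDim]; split <;> omega
  -- some element of order `r` shows that a piece fits
  obtain ⟨⟨x, hx⟩, hxo⟩ := exists_prime_orderOf_dvd_card' (G := Cfsg.spGL d F) r
    (hΩ.trans (Subgroup.relIndex_dvd_card _ _))
  have hxr : x ^ r = 1 := by
    have := pow_orderOf_eq_one (⟨x, hx⟩ : Cfsg.spGL d F)
    rw [hxo] at this
    exact congrArg Subtype.val this
  have hcd : cc ≤ 2 * d := by
    have hR : RootIso (stdForm d F) (Matrix.toLin' (x : Matrix (Fin d ⊕ Fin d) (Fin d ⊕ Fin d) F)) r :=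
      ⟨hS', iso_of_mem hx, by
        rw [← Matrix.toLin'_pow, ← Units.val_pow_eq_pow_val, hxr, Units.val_one, Matrix.toLin'_one]; rfl, hr2, hrF⟩
    obtain ⟨s, hs⟩ := hR.finrank_eq (Inv.top _) hndtop
    rw [top_inf_eq, finrank_top, finrank_std, ← hidef, ← hccdef] at hs
    rcases Nat.eq_zero_or_pos s with rfl | hs0
    · exfalso
      have htop : End.eigenspace (Matrix.toLin' (x : Matrix (Fin d ⊕ Fin d) (Fin d ⊕ Fin d) F)) (1 : F) = ⊤ :=
        Submodule.eq_top_of_finrank_eq (by rw [finrank_std]; omega)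
      have hx1 : x = 1 := Units.ext (Matrix.toLin'.injective (LinearMap.ext fun v => by
        have := End.mem_eigenspace_iff.mp (htop.ge (Submodule.mem_top (x := v)))
        rw [one_smul] at this
        rw [Units.val_one, Matrix.toLin'_one, LinearMap.id_apply]
        exact this))
      subst hx1
      rw [show (⟨1, hx⟩ : Cfsg.spGL d F) = 1 from rfl, orderOf_one] at hxo
      exact hr.ne_one hxo.symm
    · have := Nat.le_mul_of_pos_left cc hs0
      omega
  obtain ⟨c2, hc2⟩ := (even_pieceDim i).two_dvd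
  rw [← hccdef] at hc2
  obtain ⟨y, hy, hye⟩ := exists_element hr2 hrF d (d - c2) 1 (by rw [← hidef, ← hccdef]; omega)
  let yI := spEquiv d F y
  have hyl : Matrix.toLin' (toGL yI : Matrix (Fin d ⊕ Fin d) (Fin d ⊕ Fin d) F) =
      Matrix.toLin' (y : Matrix (Fin d ⊕ Fin d) (Fin d ⊕ Fin d) F) :=
    LinearMap.ext fun v => (Matrix.toLin'_apply _ _).trans (toGL_mulVec yI v)
  set fy := Matrix.toLin' (y : Matrix (Fin d ⊕ Fin d) (Fin d ⊕ Fin d) F) with hfy
  have hker : finrank F (LinearMap.ker (fy - (1 : F) • 1)) = 2 * (d - c2) := by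
    rw [← hye, End.eigenspace_def]
  have hyr : finrank F (LinearMap.range (fy - (1 : F) • 1)) = cc := by
    have h3 := LinearMap.finrank_range_add_finrank_ker (fy - (1 : F) • 1)
    rw [hker, finrank_std] at h3
    omega
  obtain ⟨g, hgT, hg⟩ := hall _ (toGL_mem yI) ⟨1, by
      rw [one_smul, Units.val_pow_eq_pow_val, ← Matrix.toLin'.injective.eq_iff, Matrix.toLin'_pow, hyl, hy.pow,
        Matrix.toLin'_one]
      rfl⟩ fun z hz => by
    have h1 : fy = z • 1 := by rw [← hyl, hz, map_smul, Matrix.toLin'_one]; rfl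
    have hz1 : z ^ r = 1 := by
      have h3 := congrFun (LinearMap.congr_fun hy.pow (Pi.single i0 1)) i0
      rw [h1, _root_.smul_pow, one_pow] at h3
      simpa using h3
    rw [h1, huniq z hz1, sub_self, LinearMap.range_zero, finrank_bot] at hyr
    omega
  obtain ⟨L, A₀, B₀, hLdef, hL₀⟩ := exists_inFrame e P hg
  rw [hyl] at hL₀
  -- normalise the factors
  obtain ⟨c, hc⟩ := (hL₀.pow r).scalar_of_scalar (B₀.isUnit.pow r) (by omega) (z := 1) (by rw [hy.pow, one_smul])
  have hc0 : c ≠ 0 := by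
    rintro rfl
    rw [zero_smul] at hc
    have := congrArg Matrix.det hc
    haveI hne' : Nonempty (Fin a) := ⟨⟨0, by omega⟩⟩
    rw [Matrix.det_pow, Matrix.det_zero] at this
    exact (Matrix.GeneralLinearGroup.det A₀).ne_zero (eq_zero_of_pow_eq_zero this)
  obtain ⟨t, ht0, ht⟩ := hroot c hc0
  let A : Matrix (Fin a) (Fin a) F := t⁻¹ • (A₀ : Matrix (Fin a) (Fin a) F)
  let B : Matrix (Fin b) (Fin b) F := t • (B₀ : Matrix (Fin b) (Fin b) F)
  have hAr : A ^ r = 1 := by
    rw [_root_.smul_pow, hc, smul_smul, ← ht, ← mul_pow, inv_mul_cancel₀ ht0, one_pow, one_smul]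
  have hL : InFrame L fy A B := fun M => by
    rw [hL₀ M, show A ⊗ₖ B = (A₀ : Matrix (Fin a) (Fin a) F) ⊗ₖ (B₀ : Matrix (Fin b) (Fin b) F) by
      rw [Matrix.smul_kronecker, Matrix.kronecker_smul, smul_smul, inv_mul_cancel₀ ht0, one_smul]]
  obtain ⟨u₀, hu₀⟩ : ∃ u₀ : Fin a → F, u₀ ≠ 0 := ⟨Pi.single ⟨0, by omega⟩ 1, by simp⟩
  obtain ⟨y₀, hy₀⟩ : ∃ y₀ : Fin b → F, y₀ ≠ 0 := ⟨Pi.single ⟨0, by omega⟩ 1, by simp⟩
  have hBr : B ^ r = 1 := by
    refine Matrix.toLin'.injective (LinearMap.ext fun v => ?_)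
    rw [Matrix.toLin'_apply, Matrix.toLin'_one, LinearMap.id_apply]
    have h1 := (hL.pow r) (pureLeft (Pi.single (⟨0, by omega⟩ : Fin a) 1) v)
    rw [hy.pow, Module.End.one_apply, L.injective.eq_iff, hAr, kron_pureLeft, Matrix.one_mulVec] at h1
    have h3 := congrArg (contract (Pi.single (⟨0, by omega⟩ : Fin a) (1 : F))) h1
    simp only [contract_pureLeft, single_one_dotProduct, Pi.single_eq_same, one_smul] at h3
    exact h3.symm
  -- the forms
  obtain ⟨c₀, hc₀, hform⟩ := TensorFrame.form_pure (σ := id) (P := g * P) (f := Cfsg.sympForm d F)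
    (fun _ _ => rfl)
    (TensorFrame.eq_formOfGram ⟨hf₁.bilinear.add_left, hf₁.bilinear.smul_left⟩ hf₁.bilinear.add_right hf₁.bilinear.smul_right)
    (TensorFrame.eq_formOfGram ⟨hf₂.bilinear.add_left, hf₂.bilinear.smul_left⟩ hf₂.bilinear.add_right hf₂.bilinear.smul_right)
    (show Cfsg.Geo.IsTensorFormStructure id (Cfsg.sympForm d F) f₁ f₂ e (g * P) by
      obtain ⟨c', hc', h'⟩ := hS
      refine ⟨c', hc', fun M N => ?_⟩
      rw [Units.val_mul, ← mulVec_mulVec, ← mulVec_mulVec, ← h']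
      exact hgT _ _)
  have hrel : ∀ u u' v v', f₁ (A *ᵥ u) (A *ᵥ u') * f₂ (B *ᵥ v) (B *ᵥ v') = f₁ u u' * f₂ v v' := by
    intro u u' v v'
    refine mul_left_cancel₀ hc₀ ?_
    rw [← hform, ← hform]
    have hpure : ∀ u v, TensorFrame.pure e (g * P) u v = L (pureLeft u v) := fun u v => (hLdef _).symm
    rw [hpure, hpure, hpure, hpure, ← kron_pureLeft, ← kron_pureLeft, ← hL, ← hL,
      ← stdForm_eq_sympForm, ← stdForm_eq_sympForm]
    exact hy.iso _ _
  obtain ⟨u₁, hu₁⟩ := (hf₁.nondegenerate u₀ hu₀).2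
  obtain ⟨y₁, hy₁⟩ := (hf₂.nondegenerate y₀ hy₀).2
  set ν := f₂ (B *ᵥ y₀) (B *ᵥ y₁) / f₂ y₀ y₁ with hνdef
  have hA1 : ∀ u u', f₁ (A *ᵥ u) (A *ᵥ u') * ν = f₁ u u' := fun u u' => by
    rw [hνdef, ← mul_div_assoc, hrel, mul_div_cancel_right₀ _ hy₁]
  have hν : ν = 1 := by
    have hk : ∀ k u u', f₁ ((A ^ k) *ᵥ u) ((A ^ k) *ᵥ u') * ν ^ k = f₁ u u' := by
      intro k
      induction k with
      | zero => intro u u'; simp
      | succ k ih =>
        intro u u'
        rw [pow_succ' A, ← mulVec_mulVec, ← mulVec_mulVec, pow_succ' ν, ← mul_assoc, hA1, ih]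
    have h1 := hk r u₀ u₁
    rw [hAr, Matrix.one_mulVec, Matrix.one_mulVec] at h1
    exact huniq ν (mul_left_cancel₀ hu₁ (by rw [mul_one]; exact h1))
  have hAiso : ∀ u u', f₁ (A *ᵥ u) (A *ᵥ u') = f₁ u u' := fun u u' => by
    have := hA1 u u'; rwa [hν, mul_one] at this
  have hBiso : ∀ v v', f₂ (B *ᵥ v) (B *ᵥ v') = f₂ v v' := fun v v' => by
    have := hrel u₀ u₁ v v'
    rw [hAiso] at this
    exact mul_left_cancel₀ hu₁ this
  let β₁ : (Fin a → F) →ₗ[F] (Fin a → F) →ₗ[F] F := LinearMap.mk₂ F f₁ hf₁.bilinear.add_left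
    (fun t x y => hf₁.bilinear.smul_left t x y) (fun x y y' => hf₁.bilinear.add_right x y y')
    (fun t x y => hf₁.bilinear.smul_right t x y)
  let β₂ : (Fin b → F) →ₗ[F] (Fin b → F) →ₗ[F] F := LinearMap.mk₂ F f₂ hf₂.bilinear.add_left
    (fun t x y => hf₂.bilinear.smul_left t x y) (fun x y y' => hf₂.bilinear.add_right x y y')
    (fun t x y => hf₂.bilinear.smul_right t x y)
  have hfA : Matrix.toLin' A ^ r = 1 := by rw [← Matrix.toLin'_pow, hAr, Matrix.toLin'_one]; rfl
  have hfB : Matrix.toLin' B ^ r = 1 := by rw [← Matrix.toLin'_pow, hBr, Matrix.toLin'_one]; rfl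
  by_cases hA1' : A = 1
  · -- only the orthogonal factor moves
    obtain ⟨L', hL'⟩ := hL.exists_copies (c := 1) (by rw [hA1', one_smul])
    have h1 := finrank_range_copies hL' (1 : F)
    rw [show ((1 : F) • Matrix.toLin' B : Module.End F (Fin b → F)) = Matrix.toLin' B from one_smul _ _, hyr] at h1
    obtain ⟨k, hk, -⟩ := le_rank_root hrF hfB
    have hev := even_rank (β := β₂) (fun u v => hf₂.symm u v) (fun u hu => by
      by_contra h0
      obtain ⟨v, hv⟩ := (hf₂.nondegenerate u h0).2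
      exact hv (hu v)) (g := Matrix.toLin' B) hBiso hrF h2 hfB huniq
    rw [hk, ← hidef] at hev h1
    rw [hccdef, pieceDim] at h1
    rw [← mul_assoc] at h1
    split at h1
    · have h3 : a * k = 1 := Nat.eq_of_mul_eq_mul_right hipos (by rw [← h1, one_mul])
      have := Nat.eq_one_of_mul_eq_one_right h3
      omega
    next hi =>
      have h3 : a * k = 2 := Nat.eq_of_mul_eq_mul_right hipos h1.symm
      have : k = 1 := by
        rcases Nat.lt_or_ge k 2 with hk | hk
        · rcases Nat.eq_zero_or_pos k with rfl | hk0 <;> omega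
        · have := Nat.mul_le_mul ha2 hk
          omega
      subst this
      rw [one_mul] at hev
      exact hi hev
  have hRA : RootIso β₁ (Matrix.toLin' A) r :=
    ⟨⟨fun u => hf₁.alternating u, fun u hu => by
      by_contra h0
      obtain ⟨v, hv⟩ := (hf₁.nondegenerate u h0).2
      exact hv (hu v)⟩, hAiso, hfA, hr2, hrF⟩
  obtain ⟨s, hs⟩ := hRA.finrank_eq (Inv.top _) (fun u _ hu => hRA.symp.nondeg u fun v => hu v trivial)
  rw [top_inf_eq, finrank_top, Module.finrank_fin_fun, ← hidef, ← hccdef] at hs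
  have hrA : finrank F (LinearMap.range (Matrix.toLin' A - (1 : F) • 1)) = s * cc := by
    have h3 := LinearMap.finrank_range_add_finrank_ker (Matrix.toLin' A - (1 : F) • 1)
    rw [Module.finrank_fin_fun, ← End.eigenspace_def] at h3
    omega
  have hs0 : s ≠ 0 := by
    rintro rfl
    rw [zero_mul, Submodule.finrank_eq_zero, LinearMap.range_eq_bot, one_smul, sub_eq_zero] at hrA
    exact hA1' (Matrix.toLin'.injective (hrA.trans Matrix.toLin'_one.symm))
  by_cases hB1 : B = 1
  · obtain ⟨L', hL'⟩ := hL.swap.exists_copies (c := 1) (by rw [hB1, one_smul])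
    have h1 := finrank_range_copies hL' (1 : F)
    rw [show ((1 : F) • Matrix.toLin' A : Module.End F (Fin a → F)) = Matrix.toLin' A from one_smul _ _, hyr,
      hrA, ← mul_assoc] at h1
    have h3 : b * s = 1 := Nat.eq_of_mul_eq_mul_right hcpos (by rw [← h1, one_mul])
    have := Nat.eq_one_of_mul_eq_one_right h3
    omega
  have hns : ∀ {m : ℕ} (M : Matrix (Fin m) (Fin m) F), M ^ r = 1 → M ≠ 1 → ∀ c : F, M ≠ c • 1 := by
    intro m M hM hM1 c hc
    rcases Nat.eq_zero_or_pos m with rfl | hm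
    · exact hM1 (Matrix.ext fun i => i.elim0)
    rw [hc, _root_.smul_pow, one_pow] at hM
    have h3 := congrFun (congrFun hM ⟨0, hm⟩) ⟨0, hm⟩
    simp at h3
    exact hM1 (by rw [hc, huniq c h3, one_smul])
  have hbc : b ≤ cc := by
    rw [← hyr, hL.finrank_range]
    exact le_finrank_range (hns A hAr hA1') (IsUnit.of_pow_eq_one hBr hr.ne_zero) 1
  have hac : a ≤ cc := by
    rw [← hyr, hL.swap.finrank_range]
    exact le_finrank_range (hns B hBr hB1) (IsUnit.of_pow_eq_one hAr hr.ne_zero) 1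
  have hsc := Nat.le_mul_of_pos_left cc (Nat.pos_of_ne_zero hs0)
  have hfree : finrank F (LinearMap.range (Matrix.toLin' A - (1 : F) • 1)) = a := by omega
  have h4 := finrank_fix_le hrF hL hAr hBr hfree (by omega) (by
    rw [← hidef]
    have : cc ≤ 2 * i := by rw [hccdef, pieceDim]; split <;> omega
    omega)
  rw [hker] at h4
  obtain ⟨e', he'⟩ : ∃ e', a = e' + 4 := ⟨a - 4, by omega⟩
  subst he'
  have h5 : e' * 3 ≤ e' * b := Nat.mul_le_mul_left e' hb
  rw [Nat.add_mul] at hab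
  omega

end Symp

end Cfsg.Agent.S5980
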