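import Cfsg.Statements.S5976
import Cfsg.Agent.Lib.Elusive.ExtFieldSymp
import Cfsg.Agent.Lib.Unitary.Order

set_option autoImplicit false
open scoped MatrixGroups
open Cfsg

namespace Cfsg.Agent.S5976

open Module Polynomial Cfsg.Agent.Lib.Symplectic Cfsg.Agent.Lib.Elusive Cfsg.Agent.Lib.Elusive.SympPieces
  Cfsg.Agent.Lib.Elusive.ExtFieldSymp
open scoped Matrix

variable {F : Type*} [Field F] {d : ℕ}

local notation "V" => (Fin d ⊕ Fin d → F)
local notation "Mat" => Matrix (Fin d ⊕ Fin d) (Fin d ⊕ Fin d) F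
local notation "GLd" => GL (Fin d ⊕ Fin d) F

/-- The adjoint negates the square root of a non-square. -/
theorem adjoint_neg (hd : 0 < d) (h2 : (2 : F) ≠ 0)
    {K : Subalgebra F (Matrix (Fin d ⊕ Fin d) (Fin d ⊕ Fin d) F)}
    (hKf : Cfsg.Geo.IsAdjointClosedFor (Cfsg.sympForm d F) K)
    (hKns : ¬ Cfsg.Geo.IsSelfAdjointFor (Cfsg.sympForm d F) K)
    {J : Matrix (Fin d ⊕ Fin d) (Fin d ⊕ Fin d) F} (hJ : J ∈ K) {δ : F} (hJJ : J * J = δ • 1)
    (hJs : ∀ c : F, J ≠ c • 1) (hKJ : ∀ a ∈ K, ∃ s t : F, a = s • 1 + t • J) (u v : V) :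
    stdForm d F (J *ᵥ u) v = -stdForm d F u (J *ᵥ v) := by
  have hS := isSympForm_stdForm d F
  obtain ⟨J', hJ', hadj⟩ := hKf J hJ
  obtain ⟨a, b, rfl⟩ := hKJ J' hJ'
  have h : ∀ u v, stdForm d F (J *ᵥ u) v = a * stdForm d F u v + b * stdForm d F u (J *ᵥ v) := fun u v => by
    rw [stdForm_eq_sympForm (J *ᵥ u), hadj, ← stdForm_eq_sympForm, Matrix.add_mulVec, Matrix.smul_mulVec,
      Matrix.smul_mulVec, Matrix.one_mulVec, map_add, map_smul, map_smul, smul_eq_mul, smul_eq_mul]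
  have hJm : ∀ v, J *ᵥ (J *ᵥ v) = δ • v := fun v => by
    rw [Matrix.mulVec_mulVec, hJJ, Matrix.smul_mulVec, Matrix.one_mulVec]
  -- a linear relation between the form and its twist makes `J` scalar
  have key : ∀ c e : F, (∀ u v, c * stdForm d F u (J *ᵥ v) = e * stdForm d F u v) → c = 0 ∧ e = 0 := by
    intro c e hce
    have h1 : ∀ v, c • (J *ᵥ v) = e • v := fun v => by
      refine sub_eq_zero.mp (hS.nondeg _ fun u => ?_)
      rw [hS.comm_eq_zero, map_sub, map_smul, map_smul, smul_eq_mul, smul_eq_mul, hce, sub_self]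
    have hc : c = 0 := by
      by_contra hc
      exact hJs (e / c) (Matrix.toLin'.injective (LinearMap.ext fun v => by
        rw [Matrix.toLin'_apply, Matrix.toLin'_apply, Matrix.smul_mulVec, Matrix.one_mulVec, div_eq_inv_mul,
          mul_smul, ← h1, inv_smul_smul₀ hc]))
    refine ⟨hc, ?_⟩
    have h3 := h1 (Pi.single (Sum.inl ⟨0, hd⟩) 1)
    rw [hc, zero_smul, eq_comm, smul_eq_zero] at h3
    exact h3.resolve_right (by simp)
  obtain ⟨hb, hab⟩ := key (1 - b * b) (a * (1 + b)) fun u v => by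
    have h1 := h v u
    rw [hS.swap v (J *ᵥ u), hS.swap v u, hS.swap (J *ᵥ v) u] at h1
    linear_combination -h1 + b * h u v
  have hb' : b = -1 := by
    rcases mul_self_eq_one_iff.mp (sub_eq_zero.mp hb).symm with rfl | hb'
    · exfalso
      have ha : a = 0 := (mul_eq_zero.mp hab).resolve_right (by rw [one_add_one_eq_two]; exact h2)
      refine hKns fun k hk u v => ?_
      obtain ⟨s, t, rfl⟩ := hKJ k hk
      rw [← stdForm_eq_sympForm, ← stdForm_eq_sympForm]
      simp only [Matrix.add_mulVec, Matrix.smul_mulVec, Matrix.one_mulVec, map_add, map_smul, LinearMap.add_apply,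
        LinearMap.smul_apply, smul_eq_mul, h, ha]
      ring
    · exact hb'
  subst hb'
  have ha : a = 0 := by
    by_contra ha
    refine mul_ne_zero h2 ha (key (2 * a) (a * a) fun u v => ?_).1
    have h1 := h (J *ᵥ u) v
    rw [hJm, map_smul, LinearMap.smul_apply, smul_eq_mul, h u (J *ᵥ v), hJm, map_smul, smul_eq_mul, h u v] at h1
    linear_combination h1
  rw [h, ha]
  ring

/-- Two maps acting on a family by scaled matrices. -/
theorem act_act {W : Type*} [AddCommGroup W] [Module F W] (f g : Module.End F W) (w : Fin 2 → W) (a b : F)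
    (A B : Matrix (Fin 2) (Fin 2) F) (hf : ∀ i, f (w i) = ∑ k, (a * A k i) • w k)
    (hg : ∀ i, g (w i) = ∑ k, (b * B k i) • w k) (i : Fin 2) :
    f (g (w i)) = ∑ k, (a * b * (A * B) k i) • w k := by
  rw [hg, map_sum]
  simp only [map_smul, hf, Finset.smul_sum, smul_smul, Matrix.mul_apply, Finset.mul_sum, Finset.sum_smul]
  rw [Finset.sum_comm]
  exact Finset.sum_congr rfl fun k _ => Finset.sum_congr rfl fun l _ => by congr 1; ring

variable [Fintype F]

theorem exists_norm {δ : F} (h2 : (2 : F) ≠ 0) (hδ : δ ≠ 0) (c : F) : ∃ α β : F, α ^ 2 - δ * β ^ 2 = c := by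
  have hf : (X ^ 2 - C c : F[X]).degree = 2 := degree_X_pow_sub_C (by norm_num) _
  have hg : (C (-δ) * X ^ 2 : F[X]).degree = 2 := degree_C_mul_X_pow 2 (neg_ne_zero.mpr hδ)
  obtain ⟨α, β, h⟩ := FiniteField.exists_root_sum_quadratic (R := F) hf hg
    (FiniteField.odd_card_of_char_ne_two fun h0 => h2 (by exact_mod_cast (ringChar.spec F 2).mpr h0.dvd))
  simp at h
  exact ⟨α, β, by linear_combination h⟩

theorem exists_norm_neg_one {δ : F} (h2 : (2 : F) ≠ 0) (hδ : ∀ c : F, δ ≠ c * c) :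
    ∃ α β : F, β ≠ 0 ∧ δ * β ^ 2 = 1 + α ^ 2 := by
  obtain ⟨α, β, h⟩ := exists_norm (δ := δ) h2 (fun h0 => hδ 0 (by rw [h0, mul_zero])) (-1)
  rcases ne_or_eq β 0 with hβ | hβ
  · exact ⟨α, β, hβ, by linear_combination -h⟩
  subst hβ
  have h1 : (1 : F) - δ ≠ 0 := sub_ne_zero.mpr fun h0 => hδ 1 (by rw [mul_one]; exact h0.symm)
  have hα : α ≠ 0 := by rintro rfl; simp at h
  refine ⟨α * ((1 + δ) / (1 - δ)), α * (2 / (1 - δ)), mul_ne_zero hα (div_ne_zero h2 h1), ?_⟩
  field_simp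
  linear_combination -((1 - δ) ^ 2) * h

/-- Planes adapted to `J`. -/
theorem exists_family_J (h2 : (2 : F) ≠ 0) {J : Matrix (Fin d ⊕ Fin d) (Fin d ⊕ Fin d) F} {δ : F}
    (hδ : δ ≠ 0) (hJJ : J * J = δ • 1)
    (hJf : ∀ u v, stdForm d F (J *ᵥ u) v = -stdForm d F u (J *ᵥ v)) :
    ∃ w : Fin 2 × Fin d → V, (∀ j, stdForm d F (w (0, j)) (w (1, j)) = 1) ∧
      (∀ p p', p.2 ≠ p'.2 → stdForm d F (w p) (w p') = 0) ∧
      (∀ j, J *ᵥ w (0, j) = w (1, j)) ∧ ∀ j, J *ᵥ w (1, j) = δ • w (0, j) := by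
  have hS := isSympForm_stdForm d F
  have hJm : ∀ v, J *ᵥ (J *ᵥ v) = δ • v := fun v => by
    rw [Matrix.mulVec_mulVec, hJJ, Matrix.smul_mulVec, Matrix.one_mulVec]
  obtain ⟨w, ε, -, hε, hwκ, hworth, hwf⟩ := exists_family (f := Matrix.toLin' J)
    (fun W hW => Lib.Elusive.Inv.of_mem fun x hx => mem_orth.mpr fun u hu => by
      have h1 := mem_orth.mp hx _ (hW.mem hu)
      rw [Matrix.toLin'_apply, hJf, neg_eq_zero] at h1
      rwa [Matrix.toLin'_apply])
    !![0, δ; 1, 0] (fun ε => ε = 1) (fun X hX hnd hne κ hκ => by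
      obtain ⟨y, hy, hy0⟩ : ∃ y ∈ X, stdForm d F y (J *ᵥ y) ≠ 0 := by
        by_contra hcon
        push Not at hcon
        obtain ⟨x, hx, hx0⟩ := Submodule.exists_mem_ne_zero_of_ne_bot hne
        have hJX : ∀ v ∈ X, J *ᵥ v ∈ X := fun v hv => by simpa using hX.mem hv
        refine hx0 (hnd x hx fun y hy => ?_)
        have h1 : ∀ v ∈ X, stdForm d F x (J *ᵥ v) = 0 := fun v hv => by
          have h3 := hcon (x + v) (X.add_mem hx hv)
          simp only [Matrix.mulVec_add, map_add, LinearMap.add_apply, hcon x hx, hcon v hv] at h3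
          have h4 : stdForm d F v (J *ᵥ x) = stdForm d F x (J *ᵥ v) := by
            rw [hS.swap v (J *ᵥ x), hJf, neg_neg]
          exact (mul_eq_zero.mp (show (2 : F) * stdForm d F x (J *ᵥ v) = 0 by linear_combination h3 - h4)).resolve_left h2
        have h3 := h1 _ (hJX y hy)
        rw [hJm, map_smul, smul_eq_mul] at h3
        exact (mul_eq_zero.mp h3).resolve_left hδ
      obtain ⟨α, β, hαβ⟩ := exists_norm h2 hδ (κ / stdForm d F y (J *ᵥ y))
      have hJy : J *ᵥ y ∈ X := by simpa using hX.mem hy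
      refine ⟨α • y + β • (J *ᵥ y), X.add_mem (X.smul_mem _ hy) (X.smul_mem _ hJy),
        J *ᵥ (α • y + β • (J *ᵥ y)), ?_, 1, rfl, ?_, by simp, by simp [hJm]⟩
      · simpa using hX.mem (X.add_mem (X.smul_mem α hy) (X.smul_mem β hJy))
      · simp only [Matrix.mulVec_add, Matrix.mulVec_smul, hJm, map_add, map_smul, LinearMap.add_apply,
          LinearMap.smul_apply, smul_eq_mul, hS.self, hS.swap (J *ᵥ y) y]
        linear_combination (eq_div_iff hy0).mp hαβ)
    d (fun _ => 1) (fun _ => one_ne_zero) ⊤ (Lib.Elusive.Inv.top _) (fun u _ hu => hS.nondeg u fun y => hu y trivial)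
    (by rw [finrank_top, finrank_std])
  refine ⟨w, hwκ, hworth, fun j => ?_, fun j => ?_⟩
  · have := hwf (0, j)
    simpa [Fin.sum_univ_two, hε j] using this
  · have := hwf (1, j)
    simpa [Fin.sum_univ_two, hε j] using this

/-- Involutions normalise. -/
theorem fix_two (hd : 0 < d) (h2 : (2 : F) ≠ 0)
    {K : Subalgebra F (Matrix (Fin d ⊕ Fin d) (Fin d ⊕ Fin d) F)}
    {J : Matrix (Fin d ⊕ Fin d) (Fin d ⊕ Fin d) F} (hJ : J ∈ K) {δ : F} (hδ : ∀ c : F, δ ≠ c * c)
    (hJJ : J * J = δ • 1) (hKJ : ∀ a ∈ K, ∃ s t : F, a = s • 1 + t • J)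
    (hJf : ∀ u v, stdForm d F (J *ᵥ u) v = -stdForm d F u (J *ᵥ v))
    {x : GLd} (hx : x ∈ Cfsg.spGL d F) {z : F} (hz : (x : Mat) * (x : Mat) = z • 1) :
    ∃ g ∈ Cfsg.spGL d F, g⁻¹ * x * g ∈ Cfsg.Geo.subalgebraNormalizer K := by
  classical
  have hS := isSympForm_stdForm d F
  have hδ0 : δ ≠ 0 := fun h0 => hδ 0 (by rw [h0, mul_zero])
  set f := Matrix.toLin' (x : Mat) with hfdef
  have hiso := S5980.iso_of_mem hx
  have hff : ∀ v, f (f v) = z • v := fun v => by
    rw [hfdef, ← LinearMap.comp_apply, ← Matrix.toLin'_mul, hz, map_smul, Matrix.toLin'_one]; rfl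
  have hinj : Function.Injective f := (injective_iff_map_eq_zero f).mpr fun u hu => hS.nondeg u fun y => by
    rw [← hiso u y, hu, map_zero, LinearMap.zero_apply]
  let e₀ : V := Pi.single (Sum.inl ⟨0, hd⟩) 1
  obtain ⟨v₀, hv₀⟩ := hS.exists_eq_one (u := e₀) (by simp [e₀])
  have hz2 : z * z = 1 := by
    have h1 := hiso (f e₀) (f v₀)
    rw [hiso e₀ v₀, hff, hff] at h1
    simpa [map_smul, hv₀] using h1
  obtain ⟨A, s, hAB, hplane⟩ : ∃ (A : Matrix (Fin 2) (Fin 2) F) (s : F),
      A * !![0, δ; 1, 0] = s • (!![0, δ; 1, 0] * A) ∧ ∀ X : Submodule F V, Lib.Elusive.Inv f X →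
      Nondeg (stdForm d F) X → X ≠ ⊥ → ∀ κ : F, κ ≠ 0 →
      ∃ u ∈ X, ∃ v ∈ X, ∃ ε : F, True ∧ stdForm d F u v = κ ∧ f u = (ε * A 0 0) • u + (ε * A 1 0) • v ∧
        f v = (ε * A 0 1) • u + (ε * A 1 1) • v := by
    rcases mul_self_eq_one_iff.mp hz2 with rfl | rfl
    · refine ⟨1, 1, by simp, fun X hX hnd hne κ hκ => ?_⟩
      obtain ⟨u, hu, v, hv, ε, -, huv, hfu, hfv⟩ :=
        S5980.plane_one h2 hiso (fun v => by rw [hff, one_smul]) hX hnd hne hκ
      exact ⟨u, hu, v, hv, ε, trivial, huv, by simp; exact hfu, by simp; exact hfv⟩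
    · obtain ⟨α, β, hβ, hαβ⟩ := exists_norm_neg_one h2 hδ
      refine ⟨!![α, -(δ * β); β, -α], -1, ?_, fun X hX hnd hne κ hκ => ?_⟩
      · ext i j
        fin_cases i <;> fin_cases j <;> simp [Matrix.mul_apply, Fin.sum_univ_two] <;> ring
      obtain ⟨u, hu, huκ⟩ := S5980.plane_neg h2 hS hiso (fun v => by rw [hff, neg_one_smul]) hX hnd hne
        (κ := κ * β) (mul_ne_zero hκ hβ)
      refine ⟨u, hu, β⁻¹ • (f u - α • u), X.smul_mem _ (X.sub_mem (hX.mem hu) (X.smul_mem _ hu)), 1, trivial, ?_, ?_, ?_⟩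
      · rw [map_smul, map_sub, map_smul, hS.self, huκ, smul_eq_mul, smul_eq_mul]
        field_simp
        ring
      · simp [smul_smul, mul_inv_cancel₀ hβ]
      · rw [map_smul, map_sub, map_smul, hff]
        simp only [one_mul, Matrix.of_apply, Matrix.cons_val', Matrix.cons_val_zero, Matrix.cons_val_one,
          Matrix.cons_val_fin_one, Matrix.empty_val']
        match_scalars
        · field_simp
          linear_combination hαβ
        · field_simp
  obtain ⟨w, ε, -, -, hwκ, hworth, hwf⟩ := exists_family (fun W => SympInv.inv_orth hinj hiso) A (fun _ => True)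
    hplane d (fun _ => 1) (fun _ => one_ne_zero) ⊤ (Lib.Elusive.Inv.top f)
    (fun u _ hu => hS.nondeg u fun y => hu y trivial) (by rw [finrank_top, finrank_std])
  obtain ⟨w', hwκ', hworth', hJ0, hJ1⟩ := exists_family_J h2 hδ0 hJJ hJf
  have hκ : ∀ j : Fin d, (fun _ => (1 : F)) j ≠ 0 := fun _ => one_ne_zero
  obtain ⟨g, hg, hgw⟩ := exists_isom rfl hκ hwκ hworth hwκ' hworth'
  refine ⟨g, hg, mem_of_twist hJ hKJ _ s fun u => ?_⟩
  set y := g⁻¹ * x * g
  have hy : ∀ p : Fin 2 × Fin d, (y : Mat) *ᵥ w' p = ∑ i, (ε p.2 * A i p.1) • w' (i, p.2) :=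
    conj_act hgw (C := fun p i => ε p.2 * A i p.1) hwf
  have key : Matrix.toLin' (y : Mat) ∘ₗ Matrix.toLin' J = s • (Matrix.toLin' J ∘ₗ Matrix.toLin' (y : Mat)) := by
    refine (familyBasis rfl (family_li hκ hwκ' hworth')).ext fun ⟨i, j⟩ => ?_
    have hJB : ∀ i, Matrix.toLin' J (w' (i, j)) = ∑ k, (1 * (!![0, δ; 1, 0] : Matrix (Fin 2) (Fin 2) F) k i) • w' (k, j) := fun i => by
      fin_cases i <;> simp [Fin.sum_univ_two, hJ0, hJ1]
    rw [familyBasis_apply, LinearMap.smul_apply, LinearMap.comp_apply, LinearMap.comp_apply,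
      act_act (Matrix.toLin' (y : Mat)) (Matrix.toLin' J) (fun i => w' (i, j)) (ε j) 1 A _ (fun i => hy (i, j)) hJB,
      act_act (Matrix.toLin' J) (Matrix.toLin' (y : Mat)) (fun i => w' (i, j)) 1 (ε j) _ A hJB (fun i => hy (i, j)),
      Finset.smul_sum]
    refine Finset.sum_congr rfl fun k _ => ?_
    rw [smul_smul, hAB, Matrix.smul_apply, smul_eq_mul]
    congr 1
    ring
  exact LinearMap.congr_fun key u

/-- Isometries of odd order without fixed points of a symmetric form live in even dimension. -/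
theorem even_free {W : Type*} [AddCommGroup W] [Module F W] [FiniteDimensional F W]
    {β : W →ₗ[F] W →ₗ[F] F} (hnd : ∀ u, (∀ v, β u v = 0) → u = 0)
    {h : Module.End F W} (hiso : ∀ u v, β (h u) (h v) = β u v) {r : ℕ} (hr : Odd r)
    (hhr : h ^ r = 1) (h2 : (2 : F) ≠ 0) (hfree : ∀ w, h w = w → w = 0) : Even (finrank F W) := by
  have hD : Function.Injective β := (injective_iff_map_eq_zero β).mpr fun w hw => hnd w fun v => by
    rw [hw, LinearMap.zero_apply]
  let De := LinearMap.linearEquivOfInjective β hD Subspace.dual_finrank_eq.symm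
  have hDe : ∀ w v, De w v = β w v := fun w v => rfl
  have hpos : 1 ≤ r := hr.pos
  have hconj : (h - 1).dualMap ∘ₗ (De : W →ₗ[F] Module.Dual F W) =
      (De : W →ₗ[F] Module.Dual F W) ∘ₗ (h ^ (r - 1) - 1) := LinearMap.ext fun w => LinearMap.ext fun v => by
    have h3 : h ((h ^ (r - 1)) w) = w := by
      rw [← Module.End.mul_apply, ← pow_succ', Nat.sub_add_cancel hpos, hhr, Module.End.one_apply]
    show De w ((h - 1) v) = De ((h ^ (r - 1) - 1) w) v
    simp only [hDe, LinearMap.sub_apply, Module.End.one_apply, map_sub]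
    congr 1
    conv_lhs => rw [← h3]
    exact hiso _ _
  have hdet : LinearMap.det (h - 1) = LinearMap.det (h ^ (r - 1) - 1) := by
    rw [← LinearMap.det_dualMap (h - 1), ← LinearMap.det_conj (h ^ (r - 1) - 1) De, ← LinearMap.comp_assoc,
      ← hconj, LinearMap.comp_assoc]
    simp
  have hfac : h ^ (r - 1) - 1 = (-1 : F) • (h ^ (r - 1) * (h - 1)) := by
    rw [mul_sub, mul_one, ← pow_succ, Nat.sub_add_cancel hpos, hhr]
    module
  have hne : LinearMap.det (h - 1) ≠ 0 := by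
    intro h0
    obtain ⟨w, hw, hw0⟩ := Submodule.exists_mem_ne_zero_of_ne_bot (LinearMap.bot_lt_ker_of_det_eq_zero h0).ne'
    exact hw0 (hfree w (sub_eq_zero.mp (LinearMap.mem_ker.mp hw)))
  set c := LinearMap.det h
  have hc : c ^ r = 1 := by rw [← map_pow, hhr, map_one]
  rw [hfac, LinearMap.det_smul, map_mul, map_pow, ← mul_assoc] at hdet
  have h4 : (-1 : F) ^ finrank F W * c ^ (r - 1) = 1 := mul_right_cancel₀ hne (by rw [one_mul]; exact hdet.symm)
  by_contra hodd
  rw [Nat.not_even_iff_odd] at hodd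
  rw [hodd.neg_one_pow] at h4
  obtain ⟨s, hs⟩ := hr
  rw [hs, pow_succ] at hc
  rw [hs, Nat.add_sub_cancel] at h4
  have h5 : c = -1 := by linear_combination -(c * h4) - hc
  rw [h5, (even_two_mul s).neg_one_pow] at h4
  exact h2 (by linear_combination -h4)

/-- A piece of odd type cannot commute with `J`. -/
theorem odd_false {r : ℕ} [Fact r.Prime] (h2 : (2 : F) ≠ 0) {J : Matrix (Fin d ⊕ Fin d) (Fin d ⊕ Fin d) F}
    {δ : F} (hδ : ∀ c : F, δ ≠ c * c) (hJJ : J * J = δ • 1)
    (hJf : ∀ u v, stdForm d F (J *ᵥ u) v = -stdForm d F u (J *ᵥ v)) {f : Module.End F V}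
    (hR : RootIso (stdForm d F) f r) (hfJ : ∀ v, f (J *ᵥ v) = J *ᵥ f v) {P : Submodule F V}
    (hP : Lib.Elusive.Inv f P) (hJP : ∀ v ∈ P, J *ᵥ v ∈ P) (hnd : Nondeg (stdForm d F) P)
    (hPE : P ⊓ End.eigenspace f (1 : F) = ⊥)
    (hi : ¬ Even (orderOf (Fintype.card F : ZMod r)))
    (hdim : finrank F P = pieceDim (orderOf (Fintype.card F : ZMod r))) : False := by
  have hS := hR.symp
  set i := orderOf (Fintype.card F : ZMod r) with hidef
  rw [pieceDim, if_neg hi] at hdim
  have hu := hR.uniform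
  rw [← hidef] at hu
  obtain ⟨U, hUP, hU⟩ := hu.exists_piece hP (by rw [hPE, finrank_bot, hdim]; have := hu.pos; omega)
  have hUd : finrank F U = i := by rw [hU.2.2, zero_add, one_mul]
  have hJm : ∀ v, J *ᵥ (J *ᵥ v) = δ • v := fun v => by
    rw [Matrix.mulVec_mulVec, hJJ, Matrix.smul_mulVec, Matrix.one_mulVec]
  have hδ0 : δ ≠ 0 := fun h0 => hδ 0 (by rw [h0, mul_zero])
  have hsimple : ∀ S ≤ U, Lib.Elusive.Inv f S → S = ⊥ ∨ S = U := by
    intro S hSU hSi
    refine or_iff_not_imp_left.mpr fun hS0 => ?_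
    obtain ⟨u, huS, hu0⟩ := Submodule.exists_mem_ne_zero_of_ne_bot hS0
    exact le_antisymm hSU (Decomp.piece_le hu hU hSi (hSU huS) hu0 huS)
  have hiso : ∀ u ∈ U, ∀ v ∈ U, stdForm d F u v = 0 := by
    rcases hsimple _ inf_le_left (hU.1.inf (hR.inv_orth hU.1)) with h | h
    · exact absurd (hUd ▸ even_finrank_of_nondeg hS ((nondeg_iff_inf_orth hS).mpr h)) hi
    · exact fun u hu' v hv => mem_orth.mp (inf_eq_left.mp h hv) u hu'
  have hJinj : Function.Injective (Matrix.toLin' J) := (injective_iff_map_eq_zero _).mpr fun v hv => by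
    rw [Matrix.toLin'_apply] at hv
    have h1 := hJm v
    rw [hv, Matrix.mulVec_zero, eq_comm, smul_eq_zero] at h1
    exact h1.resolve_left hδ0
  set JU := U.map (Matrix.toLin' J) with hJU
  have hJUi : Lib.Elusive.Inv f JU := Lib.Elusive.Inv.of_mem fun v hv => by
    obtain ⟨u, hu', rfl⟩ := hv
    exact ⟨f u, hU.1.mem hu', by rw [Matrix.toLin'_apply, Matrix.toLin'_apply, hfJ]⟩
  have hJUd : finrank F JU = i := by
    rw [← hUd]; exact (Submodule.equivMapOfInjective _ hJinj U).finrank_eq.symm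
  rcases hsimple _ inf_le_left (hU.1.inf hJUi) with hdisj | heq
  swap
  · -- a square root of a non-square in odd dimension
    have hmem : ∀ u ∈ U, Matrix.toLin' J u ∈ U := fun u hu' => by
      have h1 : JU = U := (Submodule.eq_of_le_of_finrank_eq (inf_eq_left.mp heq) (hUd.trans hJUd.symm)).symm
      exact h1.le ⟨u, hu', rfl⟩
    have h1 : (Matrix.toLin' J).restrict hmem * (Matrix.toLin' J).restrict hmem = δ • (1 : Module.End F U) :=
      LinearMap.ext fun u => Subtype.ext (by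
        show Matrix.toLin' J (Matrix.toLin' J (u : V)) = δ • (u : V)
        rw [Matrix.toLin'_apply, Matrix.toLin'_apply, hJm])
    have h3 := congrArg LinearMap.det h1
    rw [map_mul, LinearMap.det_smul, map_one, mul_one, hUd] at h3
    obtain ⟨s, hs⟩ := Nat.not_even_iff_odd.mp hi
    rw [hs, pow_succ, two_mul s, pow_add] at h3
    refine hδ (LinearMap.det ((Matrix.toLin' J).restrict hmem) / δ ^ s) ?_
    field_simp
    linear_combination -h3
  have hsup : U ⊔ JU = P := Submodule.eq_of_le_of_finrank_eq (sup_le hUP (by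
      rintro _ ⟨u, hu', rfl⟩
      rw [Matrix.toLin'_apply]
      exact hJP u (hUP hu')))
    (by rw [finrank_sup_of_disjoint hdisj, hUd, hJUd, hdim, two_mul])
  let β : U →ₗ[F] U →ₗ[F] F := (stdForm d F).compl₁₂ U.subtype (Matrix.toLin' J ∘ₗ U.subtype)
  let T : Module.End F U := f.restrict fun x hx => hU.1.mem hx
  have hev := even_free (β := β) (h := T) (fun u hu' => Subtype.ext (hnd u (hUP u.2) fun y hy => by
      obtain ⟨a, ha, _, ⟨b, hb, rfl⟩, rfl⟩ := Submodule.mem_sup.mp (hsup.ge hy)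
      rw [map_add, hiso u u.2 a ha, zero_add]
      exact hu' ⟨b, hb⟩))
    (fun u v => by
      show stdForm d F (f (u : V)) (Matrix.toLin' J (f (v : V))) = stdForm d F (u : V) (Matrix.toLin' J (v : V))
      rw [Matrix.toLin'_apply, Matrix.toLin'_apply, ← hfJ, hR.iso])
    ((Fact.out : r.Prime).odd_of_ne_two hR.two)
    (LinearMap.ext fun u => Subtype.ext (by
      rw [restrict_pow_apply, hR.pow]; rfl)) h2
    (fun u hu' => Subtype.ext ((Submodule.mem_bot F).mp (hPE.le ⟨hUP u.2, End.mem_eigenspace_iff.mpr (by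
      rw [one_smul]; exact congrArg Subtype.val hu')⟩)))
  exact hi (hUd ▸ hev)

/-- A piece of even type commuting with `J` has type twice an odd number. -/
theorem even_half_odd {r : ℕ} [Fact r.Prime] (h2 : (2 : F) ≠ 0) {J : Matrix (Fin d ⊕ Fin d) (Fin d ⊕ Fin d) F}
    {δ : F} (hδ : ∀ c : F, δ ≠ c * c) (hJJ : J * J = δ • 1)
    (hJf : ∀ u v, stdForm d F (J *ᵥ u) v = -stdForm d F u (J *ᵥ v)) {f : Module.End F V}
    (hR : RootIso (stdForm d F) f r) (hfJ : ∀ v, f (J *ᵥ v) = J *ᵥ f v) {P : Submodule F V}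
    (hP : Lib.Elusive.Inv f P) (hJP : ∀ v ∈ P, J *ᵥ v ∈ P) (hnd : Nondeg (stdForm d F) P)
    (hPE : P ⊓ End.eigenspace f (1 : F) = ⊥) {e : ℕ}
    (he : orderOf (Fintype.card F : ZMod r) = e + e) (hq : (Fintype.card F : ZMod r) ^ e = -1)
    (hdim : finrank F P = e + e) : Odd e := by
  classical
  set q := Fintype.card F with hqdef
  have hu := hR.uniform
  rw [← hqdef, he] at hu
  have hPT : HasType f 1 (e + e) P 0 1 := ⟨hP, by rw [hPE, finrank_bot], by rw [hdim, zero_add, one_mul]⟩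
  obtain ⟨v, hv, hv0⟩ := Submodule.exists_mem_ne_zero_of_ne_bot (p := P) (fun h0 => by
    rw [h0, finrank_bot] at hdim; have := hu.pos; omega)
  set L : F[X] →ₗ[F] V := (LinearMap.applyₗ v).comp (Polynomial.aeval f).toLinearMap with hL
  have hLa : ∀ g, L g = aeval f g v := fun g => rfl
  have hle : P ≤ LinearMap.range L := Decomp.piece_le hu hPT (Lib.Elusive.Inv.of_mem (by
    rintro _ ⟨g, rfl⟩
    exact ⟨X * g, by rw [hLa, hLa, map_mul, aeval_X]; rfl⟩)) hv hv0 ⟨1, by rw [hLa, map_one]; rfl⟩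
  obtain ⟨m, hm⟩ := hle (hJP v hv)
  rw [hLa] at hm
  set Jl := Matrix.toLin' J with hJl
  have hcomm : ∀ g : F[X], ∀ u, J *ᵥ aeval f g u = aeval f g (J *ᵥ u) := by
    intro g
    induction g using Polynomial.induction_on' with
    | add a b ha hb => intro u; simp [Matrix.mulVec_add, ha, hb]
    | monomial n c =>
      intro u
      rw [aeval_monomial, Module.End.mul_apply, Module.End.mul_apply, Module.algebraMap_end_apply,
        Module.algebraMap_end_apply, Matrix.mulVec_smul]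
      congr 1
      induction n generalizing u with
      | zero => simp
      | succ n ih => rw [pow_succ', Module.End.mul_apply, Module.End.mul_apply, ← hfJ, ih]
  have hpJ : ∀ u ∈ P, aeval f m u = J *ᵥ u := by
    intro u hu'
    obtain ⟨g, rfl⟩ := hle hu'
    rw [hLa, hcomm, ← hm, ← Module.End.mul_apply, ← map_mul, mul_comm, map_mul, Module.End.mul_apply]
  -- the adjoint of `J` on `P`
  have hneg : ∀ u ∈ P, aeval (f ^ (r - 1)) m u = -(J *ᵥ u) := by
    intro u hu'
    have hmem : aeval (f ^ (r - 1)) m u ∈ P := by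
      have hk : ∀ (n : ℕ) (x : V), x ∈ P → (f ^ n) x ∈ P := by
        intro n
        induction n with
        | zero => intro x hx; simpa using hx
        | succ n ih => intro x hx; rw [pow_succ', Module.End.mul_apply]; exact hP.mem (ih x hx)
      rw [aeval_eq_sum_range, LinearMap.sum_apply]
      exact P.sum_mem fun n _ => P.smul_mem _ (by rw [← pow_mul]; exact hk _ u hu')
    rw [eq_neg_iff_add_eq_zero]
    refine hnd _ (P.add_mem hmem (hJP u hu')) fun y hy => ?_
    rw [map_add, LinearMap.add_apply, hR.adjoint, hpJ y hy, hJf, add_neg_cancel]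
  have hexp : ∀ n : ℕ, expand F (q ^ n) m = m ^ (q ^ n) := by
    intro n
    induction n with
    | zero => simp
    | succ n ih => rw [pow_succ' q, expand_mul, ih, map_pow, hqdef, FiniteField.expand_card, ← pow_mul]
  have hf : f ^ (r - 1) = f ^ (q ^ e) := by
    have hmod : ∀ k, f ^ k = f ^ (k % r) := fun k => by
      conv_lhs => rw [← Nat.mod_add_div k r, pow_add, pow_mul, hR.pow, one_pow, mul_one]
    rw [hmod, hmod (q ^ e)]
    refine congrArg _ ((ZMod.natCast_eq_natCast_iff' _ _ _).mp ?_)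
    rw [Nat.cast_sub (Fact.out : r.Prime).one_le, ZMod.natCast_self, Nat.cast_one, zero_sub, Nat.cast_pow, hq]
  have hpow : ∀ n : ℕ, ∀ u ∈ P, (aeval f m ^ n) u = (J ^ n) *ᵥ u ∧ (J ^ n) *ᵥ u ∈ P := by
    intro n
    induction n with
    | zero => intro u hu'; simp [hu']
    | succ n ih =>
      intro u hu'
      obtain ⟨h1, h3⟩ := ih u hu'
      rw [pow_succ', pow_succ', Module.End.mul_apply, h1, hpJ _ h3, Matrix.mulVec_mulVec]
      exact ⟨rfl, by rw [← Matrix.mulVec_mulVec]; exact hJP _ h3⟩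
  obtain ⟨t, ht⟩ : Odd q := Nat.odd_iff.mpr (FiniteField.odd_card_of_char_ne_two fun h0 => h2 (by
    exact_mod_cast (ringChar.spec F 2).mpr h0.dvd))
  have hδ0 : δ ≠ 0 := fun h0 => hδ 0 (by rw [h0, mul_zero])
  have hchar : ringChar F ≠ 2 := fun h0 => h2 (by exact_mod_cast (ringChar.spec F 2).mpr h0.dvd)
  have ht' : δ ^ t = -1 := by
    have h1 := FiniteField.pow_dichotomy hchar hδ0
    rw [← hqdef, show q / 2 = t by omega] at h1
    refine h1.resolve_left fun h3 => ?_
    obtain ⟨c, hc⟩ := (FiniteField.isSquare_iff hchar hδ0).mpr (by rw [← hqdef, show q / 2 = t by omega]; exact h3)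
    exact hδ c hc
  have hJq : ∀ n : ℕ, J ^ (q ^ n) = ((-1 : F) ^ n) • J := by
    intro n
    induction n with
    | zero => simp
    | succ n ih =>
      rw [pow_succ, pow_mul, ih, _root_.smul_pow, ← pow_mul, mul_comm n q, pow_mul,
        (show Odd q from ⟨t, ht⟩).neg_one_pow, show J ^ q = (-1 : F) • J by
          rw [ht, pow_succ, pow_mul, pow_two, hJJ, _root_.smul_pow, one_pow, ht', Matrix.smul_mul, one_mul],
        smul_smul, pow_succ]
  by_contra hodd
  rw [Nat.not_odd_iff_even] at hodd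
  have h1 := hneg v hv
  rw [hf, ← expand_aeval, hexp, map_pow, (hpow _ v hv).1, hJq, hodd.neg_one_pow, one_smul] at h1
  have h3 : (2 : F) • (J *ᵥ v) = 0 := by rw [two_smul]; exact eq_neg_iff_add_eq_zero.mp h1
  have h4 : J *ᵥ v = 0 := (smul_eq_zero.mp h3).resolve_left h2
  have h5 : δ • v = 0 := by
    rw [← Matrix.one_mulVec v, ← Matrix.smul_mulVec, ← hJJ, ← Matrix.mulVec_mulVec, h4, Matrix.mulVec_zero]
  exact hv0 ((smul_eq_zero.mp h5).resolve_left hδ0)

/-- The unitary group limits the index. -/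
theorem index_arith (hd : 0 < d) (h2 : (2 : F) ≠ 0)
    {K : Subalgebra F (Matrix (Fin d ⊕ Fin d) (Fin d ⊕ Fin d) F)} (hK : Cfsg.Geo.IsFieldSubalgebra 2 K)
    {J : Matrix (Fin d ⊕ Fin d) (Fin d ⊕ Fin d) F} (hJ : J ∈ K) {δ : F} (hδ : ∀ c : F, δ ≠ c * c)
    (hJJ : J * J = δ • 1) (hKJ : ∀ a ∈ K, ∃ s t : F, a = s • 1 + t • J)
    (hJf : ∀ u v, stdForm d F (J *ᵥ u) v = -stdForm d F u (J *ᵥ v)) {r : ℕ}
    (hΩ : r ∣ (Cfsg.Geo.subalgebraNormalizer K).relIndex (Cfsg.spGL d F)) :
    ∃ t, r ∣ t ∧ Fintype.card F ^ (d ^ 2) * ∏ i ∈ Finset.range d, (Fintype.card F ^ (2 * (i + 1)) - 1) =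
      t * (Fintype.card F ^ (d * (d - 1) / 2) * ∏ i ∈ Finset.range d,
        (if Even i then Fintype.card F ^ (i + 1) + 1 else Fintype.card F ^ (i + 1) - 1)) := by
  classical
  set q := Fintype.card F with hqdef
  haveI : Nonempty (Fin d ⊕ Fin d) := ⟨Sum.inl ⟨0, hd⟩⟩
  letI : Field K := Lib.K41.ExtForm.fieldOfSub hK
  letI hmod : Module K V := Lib.K41.ExtForm.subModule K
  haveI : @IsScalarTower F K V Algebra.toSMul hmod.toSMul inferInstance :=
    ⟨fun a c x => Matrix.smul_mulVec a (c : Mat) x⟩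
  haveI : Finite K := Finite.of_injective (fun x : K => (x : Mat)) Subtype.val_injective
  letI : Fintype K := Fintype.ofFinite K
  haveI : FiniteDimensional F K := Module.Finite.of_finite
  have hcardK : Fintype.card K = q ^ 2 := by
    rw [Module.card_eq_pow_finrank (K := F), ← hqdef, show finrank F K = 2 from hK.finrank_eq]
  -- the adjoint is the Frobenius
  have hfrob : ∀ (s t : F), ((s • (1 : K) + t • (⟨J, hJ⟩ : K)) ^ q : K) = s • (1 : K) - t • (⟨J, hJ⟩ : K) := by
    intro s t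
    have hchar : ringChar F ≠ 2 := fun h0 => h2 (by exact_mod_cast (ringChar.spec F 2).mpr h0.dvd)
    have hδ0 : δ ≠ 0 := fun h0 => hδ 0 (by rw [h0, mul_zero])
    obtain ⟨u, hu⟩ : Odd q := Nat.odd_iff.mpr (FiniteField.odd_card_of_char_ne_two hchar)
    have hu' : δ ^ u = -1 := by
      have h1 := FiniteField.pow_dichotomy hchar hδ0
      rw [← hqdef, show q / 2 = u by omega] at h1
      refine h1.resolve_left fun h3 => ?_
      obtain ⟨c, hc⟩ := (FiniteField.isSquare_iff hchar hδ0).mpr (by rw [← hqdef, show q / 2 = u by omega]; exact h3)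
      exact hδ c hc
    have hJ2 : (⟨J, hJ⟩ : K) ^ 2 = δ • (1 : K) := by rw [pow_two]; exact Subtype.ext hJJ
    have hJq : (⟨J, hJ⟩ : K) ^ q = -(⟨J, hJ⟩ : K) := by
      rw [hu, pow_succ, pow_mul, hJ2, _root_.smul_pow, one_pow, hu', neg_one_smul, neg_one_mul]
    have := FiniteField.frobeniusAlgHom_apply (K := F) (R := K) (s • (1 : K) + t • (⟨J, hJ⟩ : K))
    rw [← hqdef] at this
    rw [← this, map_add, map_smul, map_smul, map_one, FiniteField.frobeniusAlgHom_apply, ← hqdef, hJq, smul_neg,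
      sub_eq_add_neg]
  have hadj : ∀ (a : K) (u v : V), stdForm d F (a • u) v = stdForm d F u (a ^ q • v) := by
    intro a u v
    obtain ⟨s, t, hst⟩ := hKJ a a.2
    rw [show a = s • (1 : K) + t • (⟨J, hJ⟩ : K) from Subtype.ext hst, hfrob]
    show stdForm d F ((s • (1 : Mat) + t • J) *ᵥ u) v = stdForm d F u ((s • (1 : Mat) - t • J) *ᵥ v)
    simp only [Matrix.add_mulVec, Matrix.sub_mulVec, Matrix.smul_mulVec, Matrix.one_mulVec, map_add, map_sub,
      map_smul, LinearMap.add_apply, LinearMap.smul_apply, smul_eq_mul, hJf]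
    ring
  obtain ⟨w, hwκ, hworth, hJ0, -⟩ := exists_family_J h2 (fun h0 => hδ 0 (by rw [h0, mul_zero])) hJJ hJf
  let T : K → F := fun c => stdForm d F (w (0, ⟨0, hd⟩)) (c • w (0, ⟨0, hd⟩))
  have hpair : ∀ (c : K) (j l : Fin d), stdForm d F (w (0, j)) (c • w (0, l)) = if j = l then T c else 0 := by
    intro c j l
    obtain ⟨s, t, hst⟩ := hKJ c c.2
    have hc : ∀ v : V, c • v = s • v + t • (J *ᵥ v) := fun v => by
      show (c : Mat) *ᵥ v = _
      rw [hst, Matrix.add_mulVec, Matrix.smul_mulVec, Matrix.smul_mulVec, Matrix.one_mulVec]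
    simp only [T, hc, hJ0, map_add, map_smul, (isSympForm_stdForm d F).self, hwκ, smul_eq_mul]
    split_ifs with h
    · rw [h, (isSympForm_stdForm d F).self, hwκ]
    · rw [hworth _ _ h, hworth _ _ h, mul_zero, mul_zero, add_zero]
  have hTadd : ∀ (s : Finset (Fin d)) (c : Fin d → K), T (∑ j ∈ s, c j) = ∑ j ∈ s, T (c j) := fun s c => by
    exact map_sum (AddMonoidHom.mk' T fun a b => by
      show stdForm d F (w (0, ⟨0, hd⟩)) ((a + b) • w (0, ⟨0, hd⟩)) = _
      exact (congrArg _ (add_smul a b (w (0, ⟨0, hd⟩)))).trans (map_add _ _ _)) c s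
  let Φ : (Fin d → K) →ₗ[K] V := Fintype.linearCombination K fun j => w (0, j)
  have hform : ∀ a b, stdForm d F (Φ a) (Φ b) = T (Cfsg.hermForm d K q b a) := fun a b => by
    rw [Fintype.linearCombination_apply, Fintype.linearCombination_apply, Cfsg.hermForm, hTadd]
    have hpair2 : ∀ (c e : K) (j l : Fin d),
        stdForm d F (c • w (0, j)) (e • w (0, l)) = if j = l then T (e * c ^ q) else 0 := fun c e j l => by
      rw [hadj, smul_smul, hpair, mul_comm]
    rw [map_sum]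
    refine Finset.sum_congr rfl fun j _ => ?_
    rw [map_sum, LinearMap.sum_apply]
    exact (Finset.sum_eq_single j (fun l _ hl => (hpair2 _ _ l j).trans (if_neg hl))
      (fun h => absurd (Finset.mem_univ j) h)).trans ((hpair2 _ _ j j).trans (if_pos rfl))
  have hTJ : T ⟨J, hJ⟩ = 1 := by
    show stdForm d F _ (J *ᵥ _) = 1
    rw [hJ0, hwκ]
  have hinj : Function.Injective Φ := (injective_iff_map_eq_zero Φ).mpr fun a ha => funext fun j => by
    by_contra h0
    have h1 := hform a (Pi.single j (⟨J, hJ⟩ * ((a j) ^ q)⁻¹))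
    rw [ha, map_zero, LinearMap.zero_apply, Cfsg.hermForm, Finset.sum_eq_single j (fun l _ hl => by
      rw [Pi.single_eq_of_ne hl, zero_mul]) (fun h => absurd (Finset.mem_univ j) h), Pi.single_eq_same,
      mul_assoc, inv_mul_cancel₀ (pow_ne_zero _ h0), mul_one, hTJ] at h1
    exact zero_ne_one h1
  have hbij : Function.Bijective Φ := by
    rw [Fintype.bijective_iff_injective_and_card]
    refine ⟨hinj, ?_⟩
    rw [Fintype.card_pi, Finset.prod_const, hcardK, Fintype.card_pi, Finset.prod_const, ← hqdef, Finset.card_univ,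
      Finset.card_univ, Fintype.card_fin, Fintype.card_sum, Fintype.card_fin, ← pow_mul, two_mul]
  let E : (Fin d → K) ≃ₗ[K] V := LinearEquiv.ofBijective Φ hbij
  let mk : Cfsg.GU d K q →* Isom (stdForm d F) :=
    { toFun := fun g => ⟨((E.symm.trans ((Lib.K41.ExtForm.glEquiv g.1).trans E))).restrictScalars F, fun u v => by
        show stdForm d F (Φ (Lib.K41.ExtForm.glEquiv g.1 (E.symm u))) (Φ (Lib.K41.ExtForm.glEquiv g.1 (E.symm v))) = _
        rw [hform, Lib.K41.ExtForm.glEquiv_apply, Lib.K41.ExtForm.glEquiv_apply, Lib.Unitary.mem_GU_iff.mp g.2, ← hform]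
        show stdForm d F (E (E.symm u)) (E (E.symm v)) = _
        rw [E.apply_symm_apply, E.apply_symm_apply]⟩
      map_one' := isom_ext fun v => by simp [isom_smul_def]
      map_mul' := fun g g' => isom_ext fun v => by simp [isom_smul_def] }
  obtain ⟨t, ht, h⟩ := index_dvd hΩ ((S5980.toGL (F := F) (d := d)).comp mk)
    ((injective_iff_map_eq_one _).mpr fun g hg => Subtype.ext
      ((Lib.K41.ExtForm.glEquiv (ι := Fin d) (F := K)).injective (LinearEquiv.ext fun a => by
        have h1 := S5980.toGL_mulVec (mk g) (E a)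
        rw [show S5980.toGL (mk g) = 1 from hg, Units.val_one, Matrix.one_mulVec] at h1
        have h3 : E a = E (Lib.K41.ExtForm.glEquiv g.1 (E.symm (E a))) := h1
        rw [E.symm_apply_apply] at h3
        rw [OneMemClass.coe_one, map_one]
        exact (E.injective h3).symm)))
    (fun g => Lib.K41.ExtForm.mem_normalizer_of_semi K _ fun c hc => ⟨c, hc, fun x => by
      show (S5980.toGL (mk g) : Mat) *ᵥ _ = _ *ᵥ ((S5980.toGL (mk g) : Mat) *ᵥ x)
      rw [S5980.toGL_mulVec, S5980.toGL_mulVec]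
      exact (E.symm.trans ((Lib.K41.ExtForm.glEquiv g.1).trans E)).map_smul (⟨c, hc⟩ : K) x⟩)
    (fun g => S5980.toGL_mem (mk g))
  refine ⟨t, ht, ?_⟩
  rw [← card_spGL, h, Lib.Unitary.card_GU hcardK]

/-- Elements of prime order of PSp_n(q), q odd, and the subgroups of type GU_{n/2}(q). Here `T = PSp_{2d}(F)` for a field `F` with `q` elements, `q` odd, `d ≥ 2`, realised through the matrices preserving the standard alternating form `f`; `K` is a subalgebra of the `2d × 2d` matrices that is a field of degree 2 over `F`, closed under taking adjoints for `f` but not consisting of self-adjoint elements (so `F^{2d}` becomes a `d`-dimensional space over `K ≅ F_{q²}` on which `f` is the trace of a multiple of a non-degenerate hermitian form); `H` is the subgroup of `T` normalizing `K` — the symplectic maps that are `K`-linear or `K`-semilinear, a subgroup of type GU_d(q) (maximality is not assumed). Ω is the set of cosets of `H` in `T`, so an element of `T`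 of prime order `r` (`x ∈ T` with `x^r` scalar, `x` not scalar) fixes a point of Ω exactly when some `T`-conjugate of `x` normalizes `K`. Let `r` be a prime dividing the index of `H`. Then every element of `T` of order `r` fixes a point of Ω if and only if `r = 2`. -/
theorem result {F : Type*} [Field F] [Fintype F] {p : ℕ} [Fact p.Prime] [CharP F p] {q : ℕ} (hq : Fintype.card F = q)
    (hodd : Odd q) (d : ℕ) (hd : 2 ≤ d)
    (K : Subalgebra F (Matrix (Fin d ⊕ Fin d) (Fin d ⊕ Fin d) F)) (hK : Cfsg.Geo.IsFieldSubalgebra 2 K)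
    (hKf : Cfsg.Geo.IsAdjointClosedFor (Cfsg.sympForm d F) K) (hKns : ¬ Cfsg.Geo.IsSelfAdjointFor (Cfsg.sympForm d F) K)
    (r : ℕ) [Fact r.Prime]
    (hΩ : r ∣ (Cfsg.Geo.subalgebraNormalizer K).relIndex (Cfsg.spGL d F)) :
    (∀ x ∈ Cfsg.spGL d F, (∃ z : F, ((x ^ r : GL (Fin d ⊕ Fin d) F) : Matrix (Fin d ⊕ Fin d) (Fin d ⊕ Fin d) F) = z • (1 : Matrix (Fin d ⊕ Fin d) (Fin d ⊕ Fin d) F)) →
      (∀ z : F, (x : Matrix (Fin d ⊕ Fin d) (Fin d ⊕ Fin d) F) ≠ z • (1 : Matrix (Fin d ⊕ Fin d) (Fin d ⊕ Fin d) F)) →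
      ∃ g ∈ Cfsg.spGL d F, g⁻¹ * x * g ∈ Cfsg.Geo.subalgebraNormalizer K) ↔ r = 2 := by
  classical
  subst hq
  have hr : r.Prime := Fact.out
  have hp : p.Prime := Fact.out
  have h2 : (2 : F) ≠ 0 := Ring.two_ne_zero fun h0 => by
    have := FiniteField.even_card_iff_char_two.mp h0
    rw [Nat.odd_iff] at hodd
    omega
  obtain ⟨J, hJ, δ, hJJ, hδ, hJs, hKJ⟩ := exists_sqrt_gen (show 0 < d by omega) h2 hK
  have hJf := adjoint_neg (show 0 < d by omega) h2 hKf hKns hJ hJJ hJs hKJ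
  have hrF : r ≠ p → (r : F) ≠ 0 := fun hrp h0 =>
    hrp ((Nat.prime_dvd_prime_iff_eq hp hr).mp ((CharP.cast_eq_zero_iff F p r).mp h0)).symm
  rcases eq_or_ne r 2 with rfl | hr2
  · refine iff_of_true (fun x hx ⟨z, hz⟩ _ => ?_) rfl
    rw [Units.val_pow_eq_pow_val, pow_two] at hz
    exact fix_two (show 0 < d by omega) h2 hJ hδ hJJ hKJ hJf hx hz
  refine iff_of_false (fun hall => ?_) hr2
  by_cases hrp : r = p
  · subst hrp
    obtain ⟨x, hx, hxr, hx1⟩ := exists_transvection (F := F) (d := d) r (by omega)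
    obtain ⟨y, hyN, -, hyr, hy1⟩ := derange hall hx hxr hx1 (not_scalar x (by omega) (by omega))
    have := le_one_of_line hK (comm_of_pow (by omega) Nat.prime_two hK hyN hr hr2 hyr) hy1
    omega
  replace hrF := hrF hrp
  have hrq : ¬ r ∣ Fintype.card F := fun h => by
    obtain ⟨f, -, hf⟩ := FiniteField.card F p
    exact hrp ((Nat.prime_dvd_prime_iff_eq hr hp).mp (hr.dvd_of_dvd_pow (hf ▸ h)))
  obtain ⟨-, x, hx, hxr, hxc⟩ := exists_piece_element (d := d) hr2 hrF (hΩ.trans (Subgroup.relIndex_dvd_card _ _))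
  obtain ⟨y, hyN, hyS, hyr, hyc⟩ := derange hall hx hxr hxc (piece_not_scalar hd hrF hxr hxc)
  obtain ⟨hPi, hPnd, hPE⟩ := range_odd hr2 hrF hyS hyr
  have hR := rootIso hr2 hrF hyS hyr
  have hc := comm_of_pow (by omega) Nat.prime_two hK hyN hr hr2 hyr
  have hfJ : ∀ v, Matrix.toLin' (y : Matrix (Fin d ⊕ Fin d) (Fin d ⊕ Fin d) F) (J *ᵥ v) =
      J *ᵥ Matrix.toLin' (y : Matrix (Fin d ⊕ Fin d) (Fin d ⊕ Fin d) F) v := fun v => by
    rw [Matrix.toLin'_apply, Matrix.toLin'_apply, Matrix.mulVec_mulVec, Matrix.mulVec_mulVec, hc J hJ]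
  have hJP : ∀ v ∈ LinearMap.range (mv y), J *ᵥ v ∈ LinearMap.range (mv y) := fun v hv => range_inv hc hJ hv
  by_cases hi : Even (orderOf (Fintype.card F : ZMod r))
  swap
  · exact odd_false h2 hδ hJJ hJf hR hfJ hPi hJP hPnd hPE hi hyc
  obtain ⟨e, he⟩ := hi
  rw [pieceDim, if_pos ⟨e, he⟩, he] at hyc
  have hipos : 0 < orderOf (Fintype.card F : ZMod r) := orderOf_card_pos hrF
  have hqe : (Fintype.card F : ZMod r) ^ e = -1 := by
    have h1 : ((Fintype.card F : ZMod r) ^ e - 1) * ((Fintype.card F : ZMod r) ^ e + 1) = 0 := by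
      have h3 := pow_orderOf_eq_one (Fintype.card F : ZMod r)
      rw [he, pow_add] at h3
      linear_combination h3
    rcases mul_eq_zero.mp h1 with h3 | h3
    · exfalso
      have h4 := Nat.le_of_dvd (by omega) (orderOf_dvd_of_pow_eq_one (sub_eq_zero.mp h3))
      omega
    · exact eq_neg_of_add_eq_zero_left h3
  have heodd := even_half_odd h2 hδ hJJ hJf hR hfJ hPi hJP hPnd hPE he hqe hyc
  obtain ⟨t, ht, heq⟩ := index_arith (show 0 < d by omega) h2 hK hJ hδ hJJ hKJ hJf hΩ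
  set q := Fintype.card F with hq
  have hq1 : 1 < q := Fintype.one_lt_card
  have hsplit : ∏ i ∈ Finset.range d, (q ^ (2 * (i + 1)) - 1) =
      (∏ i ∈ Finset.range d, (if Even i then q ^ (i + 1) - 1 else q ^ (i + 1) + 1)) *
        ∏ i ∈ Finset.range d, (if Even i then q ^ (i + 1) + 1 else q ^ (i + 1) - 1) := by
    rw [← Finset.prod_mul_distrib]
    refine Finset.prod_congr rfl fun i _ => ?_
    rw [mul_comm 2 (i + 1), pow_mul, show (1 : ℕ) = 1 ^ 2 from (one_pow 2).symm, Nat.sq_sub_sq, one_pow]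
    split_ifs <;> ring
  rw [hsplit, ← mul_assoc, ← mul_assoc] at heq
  have hB : 0 < ∏ i ∈ Finset.range d, (if Even i then q ^ (i + 1) + 1 else q ^ (i + 1) - 1) :=
    Finset.prod_pos fun i _ => by
      split_ifs
      · omega
      · exact Nat.sub_pos_of_lt (Nat.one_lt_pow (by omega) hq1)
  have h3 := Nat.eq_of_mul_eq_mul_right hB heq
  rcases hr.dvd_mul.mp (h3 ▸ ht.mul_right _) with h | h
  · exact hrq (hr.dvd_of_dvd_pow h)
  obtain ⟨i, -, hdvd⟩ := (Prime.dvd_finsetProd_iff hr.prime _).mp h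
  have hord : orderOf (q : ZMod r) ∣ 2 * (i + 1) := orderOf_dvd_of_pow_eq_one (by
    rw [pow_mul', pow_two, mul_self_eq_one_iff]
    split_ifs at hdvd
    · rw [← ZMod.natCast_eq_zero_iff, Nat.cast_sub (Nat.one_le_pow _ _ (by omega)), Nat.cast_pow, Nat.cast_one,
        sub_eq_zero] at hdvd
      exact Or.inl hdvd
    · rw [← ZMod.natCast_eq_zero_iff, Nat.cast_add, Nat.cast_pow, Nat.cast_one] at hdvd
      exact Or.inr (eq_neg_of_add_eq_zero_left hdvd))
  rw [he, ← two_mul, Nat.mul_dvd_mul_iff_left (by norm_num)] at hord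
  obtain ⟨s, hs⟩ := hord
  have hpar : (q : ZMod r) ^ (i + 1) = (-1) ^ (i + 1) := by
    rw [hs, pow_mul, hqe, pow_mul, heodd.neg_one_pow]
  haveI : Fact (2 < r) := ⟨by have := hr.two_le; omega⟩
  split_ifs at hdvd with hev
  · rw [← ZMod.natCast_eq_zero_iff, Nat.cast_sub (Nat.one_le_pow _ _ (by omega)), Nat.cast_pow, Nat.cast_one,
      hpar, hev.add_one.neg_one_pow, sub_eq_zero] at hdvd
    exact ZMod.neg_one_ne_one hdvd
  · rw [← ZMod.natCast_eq_zero_iff, Nat.cast_add, Nat.cast_pow, Nat.cast_one, hpar,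
      (Nat.not_even_iff_odd.mp hev).add_one.neg_one_pow] at hdvd
    exact ZMod.neg_one_ne_one (eq_neg_of_add_eq_zero_left hdvd).symm


end Cfsg.Agent.S5976
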