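import Cfsg.Statements.S0106
import Cfsg.Agent.Lib.PGroups.SLTwoThree
import Cfsg.Agent.Lib.PGroups.UniqueInvolution
import Cfsg.Agent.Lib.PGroups.Automorphism
import Cfsg.Agent.Lib.Transfer.Frobenius
import Cfsg.Agent.Lib.TwoGroups.Recognition
import Cfsg.Agent.Lib.Frobenius.PComplement

set_option autoImplicit false
open Cfsg

namespace Cfsg.Agent.S0106

open Cfsg.Agent.Lib.PGroups

theorem odd_of_coprime_two {m : ℕ} (h : m.Coprime 2) : Odd m :=
  Nat.odd_iff.mpr (by
    rcases Nat.mod_two_eq_zero_or_one m with h0 | h0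
    · exact absurd (Nat.dvd_of_mod_eq_zero h0) (Nat.prime_two.coprime_iff_not_dvd.mp h.symm)
    · exact h0)

/-- An odd order element normalising a quaternion group of order at least sixteen centralises it. -/
theorem fixes_large {G : Type*} [Group G] [Finite G] {Q : Subgroup G} (hQp : IsPGroup 2 Q) {k : ℕ}
    (hk : 2 ≤ k) (e : Q ≃* QuaternionGroup (2 ^ k)) (φ : MulAut Q)
    (hφ : (orderOf φ).Coprime 2)
    (hfix : ∀ V : Subgroup Q, IsMulCommutative V → (∀ x ∈ V, φ x ∈ V) → ∀ x ∈ V, φ x = x) :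
    φ = 1 := by
  have : NeZero (2 ^ k) := ⟨(pow_pos two_pos k).ne'⟩
  set a := e.symm (QuaternionGroup.a 1) with ha
  set x := e.symm (QuaternionGroup.xa 0) with hx
  have hapow : ∀ i : ZMod (2 * 2 ^ k), e.symm (QuaternionGroup.a i) = a ^ i.val := fun i => by
    rw [ha, ← map_pow, QuaternionGroup.a_one_pow, ZMod.natCast_zmod_val]
  have hxpow : ∀ i : ZMod (2 * 2 ^ k), e.symm (QuaternionGroup.xa i) = x * a ^ i.val := fun i => by
    rw [hx, ← hapow, ← map_mul, QuaternionGroup.xa_mul_a, zero_add]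
  have h4 : 4 ≤ 2 ^ k := le_trans (by norm_num) (Nat.pow_le_pow_right two_pos hk)
  have hao : orderOf a = 2 * 2 ^ k := by
    rw [ha, MulEquiv.orderOf_eq, QuaternionGroup.orderOf_a_one]
  have hinv : ∀ y ∈ Subgroup.zpowers a, φ y ∈ Subgroup.zpowers a := by
    have h1 : φ a ∈ Subgroup.zpowers a := by
      rcases hq : e (φ a) with i | i
      · have : φ a = e.symm (QuaternionGroup.a i) := by rw [← hq, e.symm_apply_apply]
        rw [this, hapow]
        exact Subgroup.pow_mem _ (Subgroup.mem_zpowers a) _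
      · exfalso
        have h2 : orderOf (e (φ a)) = 2 * 2 ^ k := by
          rw [MulEquiv.orderOf_eq, MulEquiv.orderOf_eq, hao]
        rw [hq, QuaternionGroup.orderOf_xa] at h2
        omega
    rintro y ⟨m, rfl⟩
    show φ (a ^ m) ∈ _
    rw [map_zpow]
    exact Subgroup.zpow_mem _ h1 m
  have hfixA := hfix (Subgroup.zpowers a) inferInstance hinv
  have hfa : φ a = a := hfixA a (Subgroup.mem_zpowers a)
  have hfx : φ x = x := by
    refine eq_of_fixed_diff hQp φ hφ x (hfixA _ ?_)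
    rcases hq : e (φ x) with i | i
    · exfalso
      have h1 : φ x = a ^ i.val := by rw [← hapow, ← hq, e.symm_apply_apply]
      have h2 : φ (φ x) = φ x := by rw [h1, map_pow, hfa]
      have h3 : x = a ^ i.val := (φ.injective h2).symm.trans h1
      have h4 := congrArg e h3
      rw [hx, ← hapow, e.apply_symm_apply, e.apply_symm_apply] at h4
      exact absurd h4 (by simp)
    · have h1 : φ x = x * a ^ i.val := by rw [← hxpow, ← hq, e.symm_apply_apply]
      rw [h1, inv_mul_cancel_left]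
      exact Subgroup.pow_mem _ (Subgroup.mem_zpowers a) _
  refine MulEquiv.ext fun y => ?_
  rw [MulAut.one_apply, ← e.symm_apply_apply y]
  rcases e y with i | i
  · rw [hapow, map_pow, hfa]
  · rw [hxpow, map_mul, map_pow, hfx, hfa]

/-- The section `SL(2,3)`. -/
theorem section_sl {G : Type*} [Group G] [Finite G] {Q : Subgroup G} (e : Q ≃* QuaternionGroup 2)
    {g : G} (hg : g ∈ Subgroup.normalizer (Q : Set G)) (hodd : (orderOf g).Coprime 2)
    (hnc : g ∉ Subgroup.centralizer (Q : Set G)) :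
    ∃ (H K : Subgroup G) (hK : (K.subgroupOf H).Normal),
      Nonempty ((H ⧸ K.subgroupOf H) ≃* Matrix.SpecialLinearGroup (Fin 2) (ZMod 3)) := by
  let c : MulAut Q := Q.normalizerMonoidHom ⟨g, hg⟩
  let φ : MulAut (QuaternionGroup 2) := MulAut.congr e c
  have hc : ∀ q : Q, ((c q : Q) : G) = g * q * g⁻¹ := fun q => rfl
  have hφc : ∀ y, φ y = e (c (e.symm y)) := fun y => rfl
  have hφo : Odd (orderOf φ) := by
    refine odd_of_coprime_two (Nat.Coprime.coprime_dvd_left ?_ hodd)
    have h1 : orderOf φ ∣ orderOf c := orderOf_map_dvd (MulAut.congr e).toMonoidHom c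
    refine h1.trans ((orderOf_map_dvd Q.normalizerMonoidHom (⟨g, hg⟩ : Subgroup.normalizer (Q : Set G))).trans ?_)
    rw [Subgroup.orderOf_mk]
  have hφ1 : φ ≠ 1 := by
    intro h
    apply hnc
    intro q hq
    have h1 : φ (e ⟨q, hq⟩) = e ⟨q, hq⟩ := by rw [h, MulAut.one_apply]
    rw [hφc, e.symm_apply_apply] at h1
    have h2 : g * q * g⁻¹ = q := congrArg Subtype.val (e.injective h1)
    exact (mul_inv_eq_iff_eq_mul.mp h2).symm
  obtain ⟨hφ3, i, j, hij, hjk, hi4, hjj, hji, hgenQ⟩ := quat_aut_odd φ hφo hφ1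
  have hg3 : ∀ q ∈ Q, Commute (g ^ 3) q := by
    intro q hq
    have h1 : (MulAut.congr e) (c ^ 3) = 1 := by rw [map_pow]; exact hφ3
    have h2 : c ^ 3 = 1 := (MulAut.congr e).injective (h1.trans (map_one _).symm)
    have h3 : Q.normalizerMonoidHom (⟨g, hg⟩ ^ 3) = 1 := by rw [map_pow]; exact h2
    have h4 : (g ^ 3) * q * (g ^ 3)⁻¹ = q :=
      congrArg (fun ψ : MulAut Q => ((ψ ⟨q, hq⟩ : Q) : G)) h3
    exact mul_inv_eq_iff_eq_mul.mp h4
  set H := Q ⊔ Subgroup.zpowers g with hH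
  set K := Subgroup.zpowers (g ^ 3) with hKdef
  have hgH : g ∈ H := le_sup_right (a := Q) (Subgroup.mem_zpowers g)
  have hKH : K ≤ H := Subgroup.zpowers_le.mpr (H.pow_mem hgH 3)
  have hHK : H ≤ Subgroup.centralizer ({g ^ 3} : Set G) := by
    refine sup_le (fun q hq => ?_) (Subgroup.zpowers_le.mpr ?_)
    · exact Subgroup.mem_centralizer_singleton_iff.mpr (hg3 q hq).eq.symm
    · exact Subgroup.mem_centralizer_singleton_iff.mpr (Commute.self_pow g 3).eq
  have hKn : (K.subgroupOf H).Normal := by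
    refine (Subgroup.normal_subgroupOf_iff hKH).mpr fun a b ha hb => ?_
    obtain ⟨m, rfl⟩ := ha
    have h5 : Commute b (g ^ 3) := Subgroup.mem_centralizer_singleton_iff.mp (hHK hb)
    show b * (g ^ 3) ^ m * b⁻¹ ∈ K
    rw [(h5.zpow_right m).eq, mul_inv_cancel_right]
    exact Subgroup.zpow_mem _ (Subgroup.mem_zpowers _) m
  refine ⟨H, K, hKn, ?_⟩
  let f := QuotientGroup.mk' (K.subgroupOf H)
  let ι : QuaternionGroup 2 →* H ⧸ K.subgroupOf H :=
    f.comp ((Subgroup.inclusion (le_sup_left : Q ≤ H)).comp e.symm.toMonoidHom)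
  let gb : H ⧸ K.subgroupOf H := f ⟨g, hgH⟩
  have hconj : ∀ y, gb * ι y * gb⁻¹ = ι (φ y) := by
    intro y
    show f _ * f _ * (f _)⁻¹ = f _
    rw [← map_inv, ← map_mul, ← map_mul]
    refine congrArg f (Subtype.ext ?_)
    show g * ((e.symm y : Q) : G) * g⁻¹ = ((e.symm (φ y) : Q) : G)
    rw [hφc, e.symm_apply_apply, hc]
  have hgb3 : gb ^ 3 = 1 := by
    show f _ ^ 3 = 1
    rw [← map_pow]
    exact (QuotientGroup.eq_one_iff _).mpr (Subgroup.mem_zpowers (g ^ 3))
  have hrel : SLRel (ι i) (ι j) gb := by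
    refine ⟨by rw [← map_pow, hi4, map_one], by rw [← map_mul, hjj, map_mul],
      by rw [← map_inv, ← map_mul, ← map_mul, hji, map_inv], hgb3,
      by rw [hconj, hij], by rw [hconj, hjk, map_mul]⟩
  have hgen : Subgroup.closure ({ι i, ι j, gb} : Set (H ⧸ K.subgroupOf H)) = ⊤ := by
    set C := Subgroup.closure ({ι i, ι j, gb} : Set (H ⧸ K.subgroupOf H))
    have hι : ∀ y, ι y ∈ C := fun y => by
      obtain ⟨a, b, rfl⟩ := hgenQ y
      rw [map_mul, map_pow, map_pow]
      exact C.mul_mem (C.pow_mem (Subgroup.subset_closure (by simp)) _)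
        (C.pow_mem (Subgroup.subset_closure (by simp)) _)
    refine eq_top_iff.mpr fun z _ => ?_
    obtain ⟨⟨z, hz⟩, rfl⟩ := QuotientGroup.mk'_surjective _ z
    have hle : H ≤ (C.comap f).map H.subtype := by
      refine sup_le (fun q hq => ⟨⟨q, le_sup_left (b := Subgroup.zpowers g) hq⟩, ?_, rfl⟩)
        (Subgroup.zpowers_le.mpr ⟨⟨g, hgH⟩, Subgroup.subset_closure (by simp [gb, f]), rfl⟩)
      have h2 : (⟨q, le_sup_left (b := Subgroup.zpowers g) hq⟩ : H) =
          Subgroup.inclusion (le_sup_left : Q ≤ H) (e.symm (e ⟨q, hq⟩)) := by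
        rw [e.symm_apply_apply]; rfl
      rw [h2]
      exact hι _
    obtain ⟨w, hw, hwz⟩ := hle hz
    obtain rfl : w = ⟨z, hz⟩ := Subtype.ext hwz
    exact hw
  have hinj : Function.Injective ι := by
    rw [injective_iff_map_eq_one]
    intro y hy
    have hmem : ((e.symm y : Q) : G) ∈ K :=
      ((QuotientGroup.eq_one_iff (N := K.subgroupOf H) (Subgroup.inclusion (le_sup_left : Q ≤ H) (e.symm y))).mp hy)
    have hd1 : orderOf ((e.symm y : Q) : G) ∣ orderOf g := by
      refine (Subgroup.orderOf_dvd_natCard K hmem).trans ?_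
      rw [Nat.card_zpowers]
      exact orderOf_pow_dvd 3
    have hd2 : orderOf ((e.symm y : Q) : G) ∣ 2 ^ 2 := by
      rw [Subgroup.orderOf_coe, MulEquiv.orderOf_eq]
      exact orderOf_dvd_of_pow_eq_one (Cfsg.Agent.Lib.TwoGroups.Recognition.quaternion_pow_four y)
    have := Nat.eq_one_of_dvd_coprimes (hodd.pow_right 2) hd1 hd2
    rw [Subgroup.orderOf_coe, MulEquiv.orderOf_eq] at this
    exact orderOf_eq_one_iff.mp this
  have hgb1 : gb ≠ 1 := by
    intro h
    apply hφ1
    refine MulEquiv.ext fun y => hinj ?_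
    rw [← hconj, h, one_mul, inv_one, mul_one, MulAut.one_apply]
  refine nonempty_sl_equiv hrel hgen ?_
  have h8 : 8 ∣ Nat.card (H ⧸ K.subgroupOf H) := by
    have h1 := Subgroup.card_dvd_of_injective ι hinj
    rwa [Nat.card_eq_fintype_card (α := QuaternionGroup 2), QuaternionGroup.card] at h1
  have h3 : 3 ∣ Nat.card (H ⧸ K.subgroupOf H) := by
    have : Fact (Nat.Prime 3) := ⟨Nat.prime_three⟩
    rw [← orderOf_eq_prime hgb3 hgb1]
    exact orderOf_dvd_natCard gb
  exact Nat.le_of_dvd Nat.card_pos (Nat.Coprime.mul_dvd_of_dvd_of_dvd (m := 8) (n := 3) (by norm_num) h8 h3)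

/-- A finite group with generalized quaternion Sylow 2-subgroups either has a normal 2-complement or has a section isomorphic to SL(2,3). -/
theorem result {G : Type*} [Group G] [Finite G] (T : Sylow 2 G) (n : ℕ) (hn : 1 ≤ n) (hT : Nonempty ((T : Subgroup G) ≃* QuaternionGroup (2 ^ n))) : Cfsg.HasNormalPComplement 2 G ∨ ∃ (H K : Subgroup G) (hK : (K.subgroupOf H).Normal), Nonempty ((H ⧸ K.subgroupOf H) ≃* Matrix.SpecialLinearGroup (Fin 2) (ZMod 3)) := by
  have : Fact (Nat.Prime 2) := ⟨Nat.prime_two⟩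
  have : NeZero (2 ^ n) := ⟨(pow_pos two_pos n).ne'⟩
  obtain ⟨eT⟩ := hT
  refine or_iff_not_imp_left.mpr fun hno => ?_
  obtain ⟨Q, hQ, hQ1, g, hg, hgo, hgC⟩ : ∃ Q : Subgroup G, IsPGroup 2 Q ∧ Q ≠ ⊥ ∧
      ∃ g ∈ Subgroup.normalizer (Q : Set G), (orderOf g).Coprime 2 ∧
        g ∉ Subgroup.centralizer (Q : Set G) := by
    by_contra h
    push Not at h
    exact hno (Cfsg.Agent.Lib.Transfer.Frobenius.hasNormalPComplement_of_forall_centralizes
      fun Q hQ hQ1 g hg hgo => h Q hQ hQ1 g hg hgo)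
  obtain ⟨T', hQT⟩ := hQ.exists_le_sylow
  obtain ⟨t, rfl⟩ := MulAction.exists_smul_eq G T T'
  have eQ : ((t • T : Sylow 2 G) : Subgroup G) ≃* QuaternionGroup (2 ^ n) :=
    ((T.equiv (t • T)).symm.trans eT)
  have hu : ∀ x y : Q, orderOf x = 2 → orderOf y = 2 → y ∈ Subgroup.zpowers x := by
    intro x y hx hy
    have := Cfsg.Agent.Lib.TwoGroups.Recognition.invol_unique eQ (s := Subgroup.inclusion hQT x)
      (t := Subgroup.inclusion hQT y)
      (by rw [orderOf_injective _ (Subgroup.inclusion_injective hQT), hx])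
      (by rw [orderOf_injective _ (Subgroup.inclusion_injective hQT), hy])
    rw [Subgroup.inclusion_injective hQT this]
    exact Subgroup.mem_zpowers y
  let φ : MulAut Q := Q.normalizerMonoidHom ⟨g, hg⟩
  have hφ : (orderOf φ).Coprime 2 := by
    refine Nat.Coprime.coprime_dvd_left
      ((orderOf_map_dvd Q.normalizerMonoidHom (⟨g, hg⟩ : Subgroup.normalizer (Q : Set G))).trans ?_) hgo
    rw [Subgroup.orderOf_mk]
  have hfix : ∀ V : Subgroup Q, IsMulCommutative V → (∀ x ∈ V, φ x ∈ V) → ∀ x ∈ V, φ x = x := by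
    intro V hVc hV x hx
    apply Subtype.ext
    refine Cfsg.Agent.Lib.Frobenius.PComplement.centralizes_of_fixes_omega (p := 2)
      (V := V.map Q.subtype) ((hQ.to_subgroup V).map _) ?_ hgo ?_ ?_ x ⟨x, hx, rfl⟩
    · rintro _ ⟨a, ha, rfl⟩ _ ⟨b, hb, rfl⟩
      have := hVc
      rw [← map_mul, ← map_mul, setLike_mul_comm ha hb]
    · rintro _ ⟨a, ha, rfl⟩
      exact ⟨φ a, hV a ha, rfl⟩
    · rintro _ ⟨a, ha, rfl⟩ ha2
      rcases eq_or_ne a 1 with rfl | h1
      · simp
      have hao : orderOf a = 2 := orderOf_eq_prime (Q.subtype_injective (by rw [map_pow, ha2, map_one])) h1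
      have hφa : orderOf (φ a) = 2 := by rw [MulEquiv.orderOf_eq, hao]
      have := hu a (φ a) hao hφa
      obtain ⟨m, hm⟩ := Subgroup.mem_zpowers_iff.mp this
      have hm' : a ^ m = a ∨ a ^ m = 1 := by
        rw [← zpow_mod_orderOf a m, hao]
        rcases Int.emod_two_eq_zero_or_one m with h | h <;> simp [h]
      rcases hm' with h | h
      · exact congrArg Subtype.val (hm.symm.trans h)
      · exfalso
        exact h1 (φ.injective ((hm.symm.trans h).trans (map_one φ).symm))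
  have hne : φ ≠ 1 := by
    intro h
    apply hgC
    intro q hq
    have h2 : g * q * g⁻¹ = q := congrArg (fun ψ : MulAut Q => ((ψ ⟨q, hq⟩ : Q) : G)) h
    exact (mul_inv_eq_iff_eq_mul.mp h2).symm
  rcases isCyclic_or_quaternion hQ hu with hcyc | ⟨-, k, hk, ⟨e⟩⟩
  · exact absurd (MulEquiv.ext fun x => hfix ⊤ ⟨⟨fun a b => Subtype.ext (hcyc.isMulCommutative.is_comm.comm a b)⟩⟩
      (fun _ _ => Subgroup.mem_top _) x (Subgroup.mem_top x)) hne
  · rcases Nat.lt_or_ge k 2 with h | h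
    · obtain rfl : k = 1 := by omega
      exact section_sl e hg hgo hgC
    · exact absurd (fixes_large hQ h e φ hφ hfix) hne

end Cfsg.Agent.S0106
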