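import Cfsg.Statements.S4020
import Cfsg.Agent.S0215
import Cfsg.Agent.Lib.PGroups.UniqueInvolution

set_option autoImplicit false
open Cfsg

namespace Cfsg.Agent.S4020

open Cfsg.Agent.Lib.PGroups

universe w

variable {G : Type w} [Group G]

/-- Subgroups of equal prime power order are conjugate. -/
def EqualConj (G : Type w) [Group G] : Prop :=
  ∀ p : ℕ, p.Prime → ∀ H K : Subgroup G, IsPGroup p H → IsPGroup p K → Nat.card H = Nat.card K →
    ∃ g : G, K = H.map (MulAut.conj g).toMonoidHom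

theorem equiv_of_card_eq (hD : EqualConj G) {p : ℕ} [hp : Fact p.Prime] {H K : Subgroup G}
    (hH : IsPGroup p H) (hK : IsPGroup p K) (h : Nat.card H = Nat.card K) :
    Nonempty (↥H ≃* ↥K) := by
  obtain ⟨g, rfl⟩ := hD p hp.out H K hH hK h
  exact ⟨H.equivMapOfInjective _ (MulAut.conj g).injective⟩

theorem comm_of_equiv {H K : Subgroup G} (e : Nonempty (↥H ≃* ↥K))
    (h : ∀ a ∈ H, ∀ b ∈ H, a * b = b * a) : ∀ a ∈ K, ∀ b ∈ K, a * b = b * a := by
  obtain ⟨e⟩ := e
  intro a ha b hb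
  obtain ⟨u, hu⟩ := e.surjective ⟨a, ha⟩
  obtain ⟨v, hv⟩ := e.surjective ⟨b, hb⟩
  have h1 : u * v = v * u := Subtype.ext (h _ u.2 _ v.2)
  have h2 := congrArg (fun t => ((e t : K) : G)) h1
  simpa [map_mul, hu, hv] using h2

/-- A `p`-subgroup either has exponent `p` or has only one subgroup of order `p`. -/
theorem exponent_or_unique [Finite G] (hD : EqualConj G) {p : ℕ} [hp : Fact p.Prime]
    {P : Subgroup G} (hP : IsPGroup p P) :
    (∀ g ∈ P, g ^ p = 1) ∨ (∀ x y : P, orderOf x = p → orderOf y = p → y ∈ Subgroup.zpowers x) := by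
  by_contra hcon
  push Not at hcon
  obtain ⟨⟨g, hg, hgp⟩, x, y, hx, hy, hxy⟩ := hcon
  -- a central element of order `p`
  have : Nontrivial P := ⟨⟨x, 1, fun h => hp.out.ne_one (by rw [← hx, h, orderOf_one])⟩⟩
  obtain ⟨Z, -, hZc, -, hZ⟩ := exists_central_card_prime (hP) (⊤ : Subgroup P) top_ne_bot
  -- an element of order `p` outside it
  obtain ⟨w, hw, hwZ⟩ : ∃ w : P, orderOf w = p ∧ w ∉ Z := by
    by_cases hxZ : x ∈ Z
    · refine ⟨y, hy, fun h => hxy ?_⟩
      have h1 : Subgroup.zpowers x = Z := Subgroup.eq_of_le_of_card_ge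
        (Subgroup.zpowers_le.mpr hxZ) (by rw [Nat.card_zpowers, hx, hZ])
      rw [h1]; exact h
    · exact ⟨x, hx, hxZ⟩
  have hE : Cfsg.IsElementaryAbelian p (Z ⊔ Subgroup.zpowers w) :=
    elemAb_sup (elemAb_of_card_eq_prime hZ) (elemAb_zpowers (hw ▸ pow_orderOf_eq_one w))
      (fun a ha b _ => (Subgroup.mem_center_iff.mp (hZc ha) b).symm)
  have hEc : p ^ 2 ≤ Nat.card (Z ⊔ Subgroup.zpowers w : Subgroup P) := by
    have := card_mul_le_card_of_mem (le_sup_left : Z ≤ Z ⊔ Subgroup.zpowers w)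
      (hP.to_subgroup _) (le_sup_right (a := Z) (Subgroup.mem_zpowers w)) hwZ
    rw [hZ] at this
    rw [sq]; exact this
  obtain ⟨E, -, hEe, hE2⟩ := elemAb_exists_le_card hE hEc
  -- a cyclic subgroup of order `p ^ 2`
  obtain ⟨k, hk⟩ := IsPGroup.iff_orderOf.mp hP ⟨g, hg⟩
  rw [← Subgroup.orderOf_coe] at hk
  simp only at hk
  have hk2 : 2 ≤ k := by
    by_contra h
    refine hgp (orderOf_dvd_iff_pow_eq_one.mp ?_)
    rw [hk]
    calc p ^ k ∣ p ^ 1 := pow_dvd_pow p (by omega)
      _ = p := pow_one p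
  set u := g ^ p ^ (k - 2) with hu
  have huo : orderOf u = p ^ 2 := by
    rw [hu, orderOf_pow_of_dvd (pow_ne_zero _ hp.out.ne_zero) (hk ▸ pow_dvd_pow p (by omega)), hk,
      Nat.pow_div (by omega) hp.out.pos]
    congr 1
    omega
  have hup : IsPGroup p (Subgroup.zpowers u) :=
    IsPGroup.of_card (n := 2) (by rw [Nat.card_zpowers, huo])
  have hE' : Cfsg.IsElementaryAbelian p (E.map P.subtype) := elemAb_map _ hEe
  obtain ⟨e⟩ := equiv_of_card_eq hD hup (elemAb_isPGroup hE')
    (by rw [Nat.card_zpowers, huo, Subgroup.card_map_of_injective P.subtype_injective, hE2])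
  refine not_isCyclic_of_elemAb_card (le_refl 2) hE'
    (by rw [Subgroup.card_map_of_injective P.subtype_injective, hE2]) ?_
  exact isCyclic_of_surjective e.toMonoidHom e.surjective

theorem exponent_of_conj {p : ℕ} {H K : Subgroup G} {g : G}
    (h : K = H.map (MulAut.conj g).toMonoidHom) (he : ∀ a ∈ H, a ^ p = 1) :
    ∀ a ∈ K, a ^ p = 1 := by
  subst h
  rintro a ⟨b, hb, rfl⟩
  rw [← map_pow, he b hb, map_one]

/-- In a non-abelian subgroup of order `p ^ 3` the commutators with a non-central element fill the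
centre. -/
theorem exists_conj_mul [Finite G] {p : ℕ} [hp : Fact p.Prime] {Q : Subgroup G}
    (hQ : Nat.card Q = p ^ 3) {a c : G} (ha : a ∈ Q) (hc : c ∈ Q)
    (hcc : ∀ q ∈ Q, q * c = c * q) (hc1 : c ≠ 1) (hcp : c ^ p = 1)
    {v : G} (hv : v ∈ Q) (hav : a * v ≠ v * a) :
    ∃ y ∈ Q, y * a * y⁻¹ = a * c := by
  have hQp : IsPGroup p Q := IsPGroup.of_card hQ
  have hnc : ¬ IsMulCommutative Q := fun h =>
    hav (congrArg Subtype.val (h.is_comm.comm (⟨a, ha⟩ : Q) ⟨v, hv⟩))
  obtain ⟨k, hk0, hk⟩ := IsPGroup.card_center_eq_prime_pow (G := Q) hQ (by norm_num)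
  have hmul := Subgroup.card_mul_index (Subgroup.center Q)
  rw [hk, hQ] at hmul
  have hk1 : k = 1 := by
    by_contra hne
    apply hnc
    have hdvd : (Subgroup.center Q).index ∣ p := by
      have h2 : p ^ k * (Subgroup.center Q).index ∣ p ^ k * p := by
        rw [hmul, ← pow_succ]; exact pow_dvd_pow p (by omega)
      exact Nat.dvd_of_mul_dvd_mul_left (pow_pos hp.out.pos k) h2
    have hcyc : IsCyclic (Q ⧸ Subgroup.center Q) := by
      rcases (Nat.dvd_prime hp.out).mp hdvd with h | h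
      · have : Subsingleton (Q ⧸ Subgroup.center Q) :=
          (Nat.card_eq_one_iff_unique.mp ((Subgroup.index_eq_card _).symm.trans h)).1
        infer_instance
      · exact isCyclic_of_prime_card ((Subgroup.index_eq_card _).symm.trans h)
    exact ⟨⟨commutative_of_cyclic_center_quotient (QuotientGroup.mk' (Subgroup.center Q))
      (le_of_eq (QuotientGroup.ker_mk' _))⟩⟩
  subst hk1
  have hidx : Nat.card (Q ⧸ Subgroup.center Q) = p ^ 2 := by
    rw [← Subgroup.index_eq_card]
    refine Nat.eq_of_mul_eq_mul_left hp.out.pos ?_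
    rw [pow_one] at hmul
    rw [hmul, pow_succ' p 2]
  have hcQ : (⟨c, hc⟩ : Q) ∈ Subgroup.center Q :=
    Subgroup.mem_center_iff.mpr fun q => Subtype.ext (hcc q q.2)
  have hzc : Subgroup.zpowers (⟨c, hc⟩ : Q) = Subgroup.center Q := by
    refine Subgroup.eq_of_le_of_card_ge (Subgroup.zpowers_le.mpr hcQ) ?_
    rw [hk, pow_one, Nat.card_zpowers, ← Subgroup.orderOf_coe, orderOf_eq_prime hcp hc1]
  have := IsPGroup.isMulCommutative_of_card_eq_prime_sq (p := p) hidx
  set f := QuotientGroup.mk' (Subgroup.center Q)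
  set A : Q := ⟨a, ha⟩
  set V : Q := ⟨v, hv⟩
  have hcomm : V * A * V⁻¹ * A⁻¹ ∈ Subgroup.center Q := by
    rw [← QuotientGroup.eq_one_iff]
    show f (V * A * V⁻¹ * A⁻¹) = 1
    rw [map_mul, map_mul, map_mul, map_inv, map_inv, mul_comm' (f V) (f A)]
    group
  rw [← hzc] at hcomm
  obtain ⟨i, hi⟩ := Subgroup.mem_zpowers_iff.mp hcomm
  have hiv : v * a * v⁻¹ * a⁻¹ = c ^ i := by
    have := congrArg Subtype.val hi
    simpa [A, V] using this.symm
  have hor : orderOf c = p := orderOf_eq_prime hcp hc1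
  have hpi : ¬ (p : ℤ) ∣ i := by
    intro h
    apply hav
    have h1 : c ^ i = 1 := orderOf_dvd_iff_zpow_eq_one.mp (hor ▸ h)
    rw [h1] at hiv
    have h2 := mul_inv_eq_one.mp hiv
    calc a * v = (v * a * v⁻¹) * v := by rw [h2]
      _ = v * a := by group
  obtain ⟨r, s, hrs⟩ : ∃ r s : ℤ, r * i + s * p = 1 := by
    have hco : IsCoprime i (p : ℤ) :=
      ((Nat.prime_iff_prime_int.mp hp.out).coprime_iff_not_dvd.mpr hpi).symm
    obtain ⟨r, s, h⟩ := hco
    exact ⟨r, s, h⟩
  have hca : ∀ n : ℤ, v * (a * c ^ n) * v⁻¹ = a * c ^ (i + n) := by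
    intro n
    have h1 : v * a * v⁻¹ = c ^ i * a := by rw [← hiv]; group
    have h2 : v * c ^ n = c ^ n * v := ((show Commute v c from hcc v hv).zpow_right n).eq
    have h3 : a * c ^ i = c ^ i * a := ((show Commute a c from hcc a ha).zpow_right i).eq
    calc v * (a * c ^ n) * v⁻¹ = (v * a * v⁻¹) * (v * c ^ n * v⁻¹) := by group
      _ = (a * c ^ i) * c ^ n := by rw [h1, h2, ← h3]; group
      _ = a * c ^ (i + n) := by rw [mul_assoc, ← zpow_add]
  have hiter : ∀ m : ℕ, v ^ m * a * (v ^ m)⁻¹ = a * c ^ ((m : ℤ) * i) := by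
    intro m
    induction m with
    | zero => simp
    | succ m ih =>
      calc v ^ (m + 1) * a * (v ^ (m + 1))⁻¹ = v * (v ^ m * a * (v ^ m)⁻¹) * v⁻¹ := by
            rw [pow_succ']; group
        _ = a * c ^ (((m + 1 : ℕ) : ℤ) * i) := by rw [ih, hca]; push_cast; ring_nf
  refine ⟨v ^ (r % p).toNat, Q.pow_mem hv _, ?_⟩
  rw [hiter]
  congr 1
  have hnn : 0 ≤ r % p := Int.emod_nonneg _ (by exact_mod_cast hp.out.ne_zero)
  rw [Int.toNat_of_nonneg hnn]
  nth_rewrite 2 [← zpow_one c]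
  rw [zpow_eq_zpow_iff_modEq, hor, Int.modEq_iff_dvd]
  refine ⟨r / p * i + s, ?_⟩
  have hd := Int.mul_ediv_add_emod r p
  linear_combination -hrs - i * hd

theorem conj_zpow_fix {s a : G} (h : s * a * s⁻¹ = a) (n : ℕ) : s ^ n * a * (s ^ n)⁻¹ = a := by
  have : Commute (s ^ n) a := (show Commute s a from mul_inv_eq_iff_eq_mul.mp h).pow_left n
  rw [this.eq, mul_inv_cancel_right]

/-- A non-abelian group of exponent `p` and order `p ^ 3` cannot be such a Sylow subgroup. -/
theorem no_extraspecial [Finite G] (hD : EqualConj G) {p : ℕ} [hp : Fact p.Prime] (hp2 : p ≠ 2)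
    {P : Subgroup G} (hP : Nat.card P = p ^ 3) (he : ∀ g ∈ P, g ^ p = 1)
    (hnc : ¬ ∀ a ∈ P, ∀ b ∈ P, a * b = b * a) : False := by
  have : Fact (Nat.Prime 2) := ⟨Nat.prime_two⟩
  have hPp : IsPGroup p P := IsPGroup.of_card hP
  push Not at hnc
  obtain ⟨x, hxP, v, hvP, hxv⟩ := hnc
  have hx1 : x ≠ 1 := by rintro rfl; simp at hxv
  have hxp := he x hxP
  have hxo : orderOf x = p := orderOf_eq_prime hxp hx1
  have : Nontrivial P := ⟨⟨⟨x, hxP⟩, 1, fun h => hx1 (congrArg Subtype.val h)⟩⟩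
  obtain ⟨Z, -, hZc, -, hZ⟩ := exists_central_card_prime hPp (⊤ : Subgroup P) top_ne_bot
  obtain ⟨z0, hz0, hz0o⟩ := exists_orderOf_eq_prime_of_ne_bot (hPp.to_subgroup Z)
    (fun h => hp.out.ne_one (by rw [← hZ, h, Subgroup.card_bot]))
  set z : G := (z0 : G) with hz
  have hzP : z ∈ P := z0.2
  have hzo : orderOf z = p := (Subgroup.orderOf_coe z0).trans hz0o
  have hz1 : z ≠ 1 := fun h => hp.out.ne_one (by rw [← hzo, h, orderOf_one])
  have hzp : z ^ p = 1 := he z hzP
  have hzc : ∀ q ∈ P, q * z = z * q := fun q hq =>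
    congrArg Subtype.val (Subgroup.mem_center_iff.mp (hZc hz0) ⟨q, hq⟩)
  have hxz : x * z = z * x := hzc x hxP
  -- `V = ⟨x, z⟩`
  have hx_notin : x ∉ Subgroup.zpowers z := by
    intro h
    obtain ⟨i, hi⟩ := Subgroup.mem_zpowers_iff.mp h
    apply hxv
    rw [← hi]
    exact (((show Commute v z from hzc v hvP).zpow_right i).eq).symm
  set V := Subgroup.zpowers z ⊔ Subgroup.zpowers x with hV
  have hVe : Cfsg.IsElementaryAbelian p V :=
    elemAb_sup (elemAb_zpowers hzp) (elemAb_zpowers hxp) (fun a ha b hb => by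
      obtain ⟨i, rfl⟩ := Subgroup.mem_zpowers_iff.mp ha
      obtain ⟨j, rfl⟩ := Subgroup.mem_zpowers_iff.mp hb
      exact (((show Commute x z from hxz).zpow_zpow j i).eq).symm)
  have hVP : V ≤ P := sup_le (Subgroup.zpowers_le.mpr hzP) (Subgroup.zpowers_le.mpr hxP)
  obtain ⟨j, hj⟩ := elemAb_card_eq_pow hVe
  have hVx : V ≤ Subgroup.centralizer ({x} : Set G) := by
    refine sup_le (Subgroup.zpowers_le.mpr ?_) (Subgroup.zpowers_le.mpr ?_) <;>
      rw [Subgroup.mem_centralizer_singleton_iff]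
    exact hxz.symm
  have hj3 : j ≤ 3 := by
    have := Subgroup.card_le_of_le hVP
    rw [hj, hP] at this
    exact (Nat.pow_le_pow_iff_right hp.out.one_lt).mp this
  -- a Sylow-type subgroup with `x` central, containing `z`
  obtain ⟨g, hg⟩ := hD p hp.out (Subgroup.zpowers z) (Subgroup.zpowers x)
    (IsPGroup.of_card (n := 1) (by rw [Nat.card_zpowers, hzo, pow_one]))
    (IsPGroup.of_card (n := 1) (by rw [Nat.card_zpowers, hxo, pow_one]))
    (by rw [Nat.card_zpowers, Nat.card_zpowers, hzo, hxo])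
  have hQC : P.map (MulAut.conj g).toMonoidHom ≤ Subgroup.centralizer ({x} : Set G) := by
    rintro _ ⟨q, hq, rfl⟩
    rw [Subgroup.mem_centralizer_singleton_iff]
    obtain ⟨a, ha, hax⟩ := Subgroup.mem_map.mp (hg ▸ Subgroup.mem_zpowers x)
    obtain ⟨i, rfl⟩ := Subgroup.mem_zpowers_iff.mp ha
    rw [← hax, ← map_mul, ← map_mul, ((show Commute q z from hzc q hq).zpow_right i).eq]
  have hdvd : p ^ 3 ∣ Nat.card (Subgroup.centralizer ({x} : Set G)) := by
    have := Subgroup.card_dvd_of_le hQC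
    rwa [Subgroup.card_map_of_injective (MulAut.conj g).injective, hP] at this
  obtain ⟨R, hR, hVR⟩ := Sylow.exists_subgroup_card_pow_prime_le p hdvd
    (V.subgroupOf (Subgroup.centralizer ({x} : Set G)))
    ((Nat.card_congr (Subgroup.subgroupOfEquivOfLe hVx).toEquiv).trans hj) hj3
  set Q := R.map (Subgroup.centralizer ({x} : Set G)).subtype with hQdef
  have hQ : Nat.card Q = p ^ 3 :=
    (Subgroup.card_map_of_injective (Subgroup.subtype_injective _)).trans hR
  have hQx : ∀ q ∈ Q, q * x = x * q := fun q hq =>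
    Subgroup.mem_centralizer_singleton_iff.mp (Subgroup.map_subtype_le R hq)
  have hVQ : V ≤ Q := fun a ha => ⟨⟨a, hVx ha⟩, hVR ha, rfl⟩
  have hxQ : x ∈ Q := hVQ (le_sup_right (a := Subgroup.zpowers z) (Subgroup.mem_zpowers x))
  have hzQ : z ∈ Q := hVQ (le_sup_left (b := Subgroup.zpowers x) (Subgroup.mem_zpowers z))
  obtain ⟨g', hg'⟩ := hD p hp.out P Q hPp (IsPGroup.of_card hQ) (hP.trans hQ.symm)
  have heQ := exponent_of_conj hg' he
  -- `z` is not central in `Q`
  obtain ⟨u, huQ, hzu⟩ : ∃ u ∈ Q, z * u ≠ u * z := by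
    by_contra hc
    push Not at hc
    have hQn : ¬ IsMulCommutative Q := fun h => hxv (comm_of_equiv
      (equiv_of_card_eq hD (IsPGroup.of_card hQ) hPp (hQ.trans hP.symm))
      (fun a ha b hb => congrArg Subtype.val (h.is_comm.comm (⟨a, ha⟩ : Q) ⟨b, hb⟩)) x hxP v hvP)
    have hsub : V.subgroupOf Q ≤ Subgroup.center Q := by
      intro a ha
      rw [Subgroup.mem_center_iff]
      intro q
      apply Subtype.ext
      have hle : V ≤ Subgroup.centralizer ({(q : G)} : Set G) := by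
        refine sup_le (Subgroup.zpowers_le.mpr ?_) (Subgroup.zpowers_le.mpr ?_) <;>
          rw [Subgroup.mem_centralizer_singleton_iff]
        · exact hc q q.2
        · exact (hQx q q.2).symm
      exact (Subgroup.mem_centralizer_singleton_iff.mp (hle ha)).symm
    have hVc : p * p ≤ Nat.card V := by
      have := card_mul_le_card_of_mem (le_sup_left : Subgroup.zpowers z ≤ V)
        (elemAb_isPGroup hVe) (le_sup_right (a := Subgroup.zpowers z) (Subgroup.mem_zpowers x))
        hx_notin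
      rwa [Nat.card_zpowers, hzo] at this
    apply hQn
    have hcyc : IsCyclic (Q ⧸ Subgroup.center Q) := by
      have h1 := Subgroup.card_le_of_le hsub
      rw [Nat.card_congr (Subgroup.subgroupOfEquivOfLe hVQ).toEquiv] at h1
      have h2 := Subgroup.card_mul_index (Subgroup.center Q)
      rw [hQ] at h2
      obtain ⟨k, hk⟩ := IsPGroup.iff_card.mp ((IsPGroup.of_card hQ).to_quotient (Subgroup.center Q))
      rw [Subgroup.index_eq_card, hk] at h2
      rcases Nat.lt_or_ge 1 k with hk1 | hk1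
      · exfalso
        have h3 : p ^ 2 ≤ p ^ k := Nat.pow_le_pow_right hp.out.pos hk1
        have h4 : p ^ 2 * p ^ 2 ≤ p ^ 3 := by
          rw [← h2]; exact Nat.mul_le_mul (by rw [sq]; exact hVc.trans h1) h3
        rw [← pow_add] at h4
        have := (Nat.pow_le_pow_iff_right hp.out.one_lt).mp h4
        omega
      · interval_cases k
        · have : Subsingleton (Q ⧸ Subgroup.center Q) :=
            (Nat.card_eq_one_iff_unique.mp (hk.trans (pow_zero p))).1
          infer_instance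
        · exact isCyclic_of_prime_card (hk.trans (pow_one p))
    exact ⟨⟨commutative_of_cyclic_center_quotient (QuotientGroup.mk' (Subgroup.center Q))
      (le_of_eq (QuotientGroup.ker_mk' _))⟩⟩
  obtain ⟨y, hyP, hyx⟩ := exists_conj_mul hP hxP hzP hzc hz1 hzp hvP hxv
  have hyz : y * z * y⁻¹ = z := mul_inv_eq_iff_eq_mul.mpr (hzc y hyP)
  obtain ⟨y', hyQ, hy'z⟩ := exists_conj_mul hQ hzQ (Q.inv_mem hxQ)
    (fun q hq => ((show Commute q x from hQx q hq).inv_right).eq) (inv_ne_one.mpr hx1)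
    (by rw [inv_pow, hxp, inv_one]) huQ hzu
  have hy'x : y' * x * y'⁻¹ = x := mul_inv_eq_iff_eq_mul.mpr (hQx y' hyQ)
  -- `W` acts on `V` with order four
  set W := y * y' * y with hW
  have hWx : W * x * W⁻¹ = z := by
    calc W * x * W⁻¹ = y * (y' * (y * x * y⁻¹) * y'⁻¹) * y⁻¹ := by rw [hW]; group
      _ = y * ((y' * x * y'⁻¹) * (y' * z * y'⁻¹)) * y⁻¹ := by rw [hyx]; group
      _ = y * (x * (z * x⁻¹)) * y⁻¹ := by rw [hy'x, hy'z]
      _ = y * z * y⁻¹ := by rw [← mul_assoc x, hxz]; group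
      _ = z := hyz
  have hWz : W * z * W⁻¹ = x⁻¹ := by
    calc W * z * W⁻¹ = y * (y' * (y * z * y⁻¹) * y'⁻¹) * y⁻¹ := by rw [hW]; group
      _ = y * (z * x⁻¹) * y⁻¹ := by rw [hyz, hy'z]
      _ = (y * z * y⁻¹) * (y * x * y⁻¹)⁻¹ := by group
      _ = x⁻¹ := by rw [hyz, hyx]; group
  have h2x : W ^ 2 * x * (W ^ 2)⁻¹ = x⁻¹ := by
    calc W ^ 2 * x * (W ^ 2)⁻¹ = W * (W * x * W⁻¹) * W⁻¹ := by rw [sq]; group
      _ = x⁻¹ := by rw [hWx, hWz]
  have h4x : W ^ 4 * x * (W ^ 4)⁻¹ = x := by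
    calc W ^ 4 * x * (W ^ 4)⁻¹ = W ^ 2 * (W ^ 2 * x * (W ^ 2)⁻¹) * (W ^ 2)⁻¹ := by group
      _ = W ^ 2 * x⁻¹ * (W ^ 2)⁻¹ := by rw [h2x]
      _ = (W ^ 2 * x * (W ^ 2)⁻¹)⁻¹ := by group
      _ = x := by rw [h2x, inv_inv]
  obtain ⟨e, m, hm, hord⟩ : ∃ e m : ℕ, Odd m ∧ orderOf W = 2 ^ e * m :=
    Nat.exists_eq_two_pow_mul_odd (orderOf_pos W).ne'
  set s := W ^ m with hs
  have hse : s ^ 2 ^ e = 1 := by rw [hs, ← pow_mul, mul_comm, ← hord, pow_orderOf_eq_one]
  have hsx : s ^ 2 * x * (s ^ 2)⁻¹ = x⁻¹ := by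
    obtain ⟨n, rfl⟩ := hm
    calc s ^ 2 * x * (s ^ 2)⁻¹ = W ^ 2 * ((W ^ 4) ^ n * x * ((W ^ 4) ^ n)⁻¹) * (W ^ 2)⁻¹ := by
          rw [hs, ← pow_mul, ← pow_mul, show (2 * n + 1) * 2 = 2 + 4 * n by ring, pow_add]; group
      _ = x⁻¹ := by rw [conj_zpow_fix h4x, h2x]
  have hxinv : x⁻¹ ≠ x := by
    intro h
    have h2 : x ^ 2 = 1 := by rw [sq, mul_eq_one_iff_eq_inv, h]
    exact hp2 ((Nat.prime_dvd_prime_iff_eq hp.out Nat.prime_two).mp
      (hxo ▸ orderOf_dvd_of_pow_eq_one h2))
  have hs2 : s ^ 2 ≠ 1 := fun h => hxinv (by rw [h] at hsx; simpa using hsx.symm)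
  have hsp : IsPGroup 2 (Subgroup.zpowers s) := by
    obtain ⟨i, -, hi⟩ := (Nat.dvd_prime_pow Nat.prime_two).mp (orderOf_dvd_of_pow_eq_one hse)
    exact IsPGroup.of_card (n := i) (by rw [Nat.card_zpowers, hi])
  obtain ⟨T, hT⟩ := hsp.exists_le_sylow
  have hsT : s ∈ (T : Subgroup G) := hT (Subgroup.mem_zpowers s)
  have hu := (exponent_or_unique hD T.isPGroup').resolve_left fun h => hs2 (h s hsT)
  have hodd_out : ∀ K : Subgroup G, Odd (Nat.card K) → y ∈ K → y' ∈ K → False := by
    intro K hK hy hy'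
    have hsK : s ∈ K := K.pow_mem (K.mul_mem (K.mul_mem hy hy') hy) m
    have h1 : orderOf s ∣ Nat.card K := Subgroup.orderOf_dvd_natCard K hsK
    have h2 := orderOf_dvd_of_pow_eq_one hse
    have h3 : orderOf s = 1 := Nat.eq_one_of_dvd_coprimes
      ((Nat.coprime_two_left.mpr hK).pow_left e) h2 h1
    exact hs2 (by rw [orderOf_eq_one_iff.mp h3, one_pow])
  have hordp : ∀ a : G, a ^ p = 1 → a ≠ 1 → orderOf a = p := fun a h h' => orderOf_eq_prime h h'
  have hy1 : y ≠ 1 := by
    rintro rfl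
    exact hz1 (by simpa using hyx)
  have hy'1 : y' ≠ 1 := by
    rintro rfl
    exact hx1 (by simpa using hy'z)
  rcases isCyclic_or_quaternion T.isPGroup' hu with hcy | ⟨-, n, hn, ⟨eQ⟩⟩
  · -- cyclic Sylow 2-subgroup: normal complement
    have hT0 : (T : Subgroup G) ≠ ⊥ := fun h => hs2 (by
      rw [h, Subgroup.mem_bot] at hsT; rw [hsT, one_pow])
    have h2G : 2 ∣ Nat.card G := by
      obtain ⟨t, -, ht⟩ := exists_orderOf_eq_prime_of_ne_bot T.isPGroup' hT0
      exact ht ▸ orderOf_dvd_natCard t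
    have hmin : (Nat.card G).minFac = 2 := (Nat.minFac_eq_two_iff _).mpr h2G
    have hcomp := MonoidHom.ker_transferSylow_isComplement' T (hcy.normalizer_le_centralizer hmin)
    set K := (MonoidHom.transferSylow T (hcy.normalizer_le_centralizer hmin)).ker
    have hKodd : Odd (Nat.card K) := by
      have := MonoidHom.not_dvd_card_ker_transferSylow T (hcy.normalizer_le_centralizer hmin)
      exact Nat.odd_iff.mpr (Nat.two_dvd_ne_zero.mp this)
    have hin : ∀ a : G, a ^ p = 1 → a ∈ K := by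
      intro a ha
      rw [← QuotientGroup.eq_one_iff]
      have h1 : orderOf (a : G ⧸ K) ∣ p := orderOf_dvd_of_pow_eq_one (by
        rw [← QuotientGroup.mk_pow, ha, QuotientGroup.mk_one])
      have h2 : orderOf (a : G ⧸ K) ∣ Nat.card T := by
        refine (orderOf_dvd_natCard _).trans ?_
        rw [← Subgroup.index_eq_card, hcomp.symm.index_eq_card]
      obtain ⟨i, hi⟩ := IsPGroup.iff_card.mp T.isPGroup'
      rw [hi] at h2
      exact orderOf_eq_one_iff.mp (Nat.eq_one_of_dvd_coprimes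
        ((Nat.coprime_primes hp.out Nat.prime_two).mpr hp2 |>.pow_right i) h1 h2)
    exact hodd_out K hKodd (hin y (he y hyP)) (hin y' (heQ y' hyQ))
  · -- quaternion Sylow 2-subgroup
    have : NeZero (2 ^ n) := ⟨(pow_pos two_pos n).ne'⟩
    have hn1 : n = 1 := by
      by_contra hne
      obtain ⟨a, ha⟩ := eQ.surjective (QuaternionGroup.a 1)
      obtain ⟨b, hb⟩ := eQ.surjective (QuaternionGroup.xa 0)
      have hcT : Nat.card T = 2 ^ (n + 2) := by
        rw [Nat.card_congr eQ.toEquiv, Nat.card_eq_fintype_card, QuaternionGroup.card]; ring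
      obtain ⟨K, hKc, hbK⟩ := Sylow.exists_subgroup_card_pow_prime_le 2
        (G := T) (n := 2) (m := n + 1) (by rw [hcT]; exact pow_dvd_pow 2 (by omega))
        (Subgroup.zpowers b) (by
          rw [Nat.card_zpowers, ← eQ.orderOf_eq, hb, QuaternionGroup.orderOf_xa]; norm_num) (by omega)
      have hKi : K.index = 2 := by
        have := K.card_mul_index
        rw [hKc, hcT, pow_succ 2 (n + 1)] at this
        exact Nat.eq_of_mul_eq_mul_left (pow_pos two_pos _) this
      have ha2 : a ^ 2 ∈ K := by rw [sq]; exact Subgroup.mul_self_mem_of_index_two hKi a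
      have hao : orderOf a = 2 ^ (n + 1) := by
        rw [← eQ.orderOf_eq, ha, QuaternionGroup.orderOf_a_one, pow_succ']
      have hAK := equiv_of_card_eq hD (p := 2)
        (H := (Subgroup.zpowers a).map (T : Subgroup G).subtype)
        (K := K.map (T : Subgroup G).subtype)
        ((T.isPGroup'.to_subgroup _).map _) ((T.isPGroup'.to_subgroup _).map _)
        (by rw [Subgroup.card_map_of_injective (Subgroup.subtype_injective _),
          Subgroup.card_map_of_injective (Subgroup.subtype_injective _), Nat.card_zpowers, hao, hKc])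
      have hcomm := comm_of_equiv hAK (by
        rintro _ ⟨u, hu, rfl⟩ _ ⟨w, hw, rfl⟩
        obtain ⟨i, rfl⟩ := Subgroup.mem_zpowers_iff.mp hu
        obtain ⟨j, rfl⟩ := Subgroup.mem_zpowers_iff.mp hw
        rw [← map_mul, ← map_mul, (Commute.zpow_zpow_self a i j).eq])
      have h1 : a ^ 2 * b = b * a ^ 2 := Subtype.ext
        (hcomm _ (Subgroup.mem_map_of_mem _ ha2) _
          (Subgroup.mem_map_of_mem _ (hbK (Subgroup.mem_zpowers b))))
      have h2 := congrArg eQ h1
      rw [map_mul, map_mul, map_pow, ha, hb, sq, QuaternionGroup.a_mul_a, QuaternionGroup.a_mul_xa,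
        QuaternionGroup.xa_mul_a] at h2
      have h3 : ((4 : ℕ) : ZMod (2 * 2 ^ n)) = 0 := by
        injection h2 with h2
        push_cast
        linear_combination -h2
      rw [ZMod.natCast_eq_zero_iff] at h3
      have h4 : 8 ≤ 2 * 2 ^ n := by
        have : 2 ^ 2 ≤ 2 ^ n := Nat.pow_le_pow_right two_pos (by omega)
        omega
      exact absurd (Nat.le_of_dvd (by omega) h3) (by omega)
    subst hn1
    have hs4 : s ^ 4 = 1 := by
      have h := pow_card_eq_one' (G := T) (x := ⟨s, hsT⟩)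
      rw [Nat.card_congr eQ.toEquiv, Nat.card_eq_fintype_card, QuaternionGroup.card] at h
      have h8 : orderOf (⟨s, hsT⟩ : T) ∣ 2 ^ 3 := orderOf_dvd_of_pow_eq_one h
      obtain ⟨i, hi, hio⟩ := (Nat.dvd_prime_pow Nat.prime_two).mp h8
      rw [← Subgroup.orderOf_coe] at hio
      rcases Nat.lt_or_ge i 3 with hlt | hge
      · exact orderOf_dvd_iff_pow_eq_one.mp (hio ▸ (pow_dvd_pow 2 (by omega : i ≤ 2)))
      · exfalso
        have hc : IsCyclic T := isCyclic_of_orderOf_eq_card (⟨s, hsT⟩ : T) (by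
          rw [← Subgroup.orderOf_coe, hio, Nat.card_congr eQ.toEquiv, Nat.card_eq_fintype_card,
            QuaternionGroup.card, show i = 3 by omega]
          norm_num)
        have hq := isCyclic_of_surjective eQ.toMonoidHom eQ.surjective
        have h1 : (QuaternionGroup.a 1 : QuaternionGroup (2 ^ 1)) * QuaternionGroup.xa 0 =
            QuaternionGroup.xa 0 * QuaternionGroup.a 1 :=
          (IsCyclic.isMulCommutative (α := QuaternionGroup (2 ^ 1))).is_comm.comm _ _
        exact absurd h1 (by decide)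
    have hto : orderOf (s ^ 2) = 2 := orderOf_eq_prime (by rw [← pow_mul]; exact hs4) hs2
    have ht2 : (s ^ 2) ^ (2 : ℤ) = 1 :=
      orderOf_dvd_iff_zpow_eq_one.mp (by rw [hto]; norm_num)
    have htT : s ^ 2 ∈ (T : Subgroup G) := T.pow_mem hsT 2
    obtain ⟨N, hNn, hNodd, hN⟩ := S0215.result T (s ^ 2) hto htT (by
      intro g hg
      have h := hu ⟨s ^ 2, htT⟩ ⟨g * s ^ 2 * g⁻¹, hg⟩
        (by rw [← Subgroup.orderOf_coe]; exact hto)
        (by
          rw [← Subgroup.orderOf_coe]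
          exact ((MulAut.conj g).orderOf_eq (s ^ 2)).trans hto)
      obtain ⟨i, hi⟩ := Subgroup.mem_zpowers_iff.mp h
      have hi' : (s ^ 2) ^ i = g * s ^ 2 * g⁻¹ := by simpa using congrArg Subtype.val hi
      rw [← hi']
      rcases Int.even_or_odd i with ⟨j, hj⟩ | ⟨j, hj⟩
      · exfalso
        rw [hj, ← two_mul, zpow_mul, ht2, one_zpow] at hi'
        exact hs2 (conj_eq_one_iff.mp hi'.symm)
      · rw [hj, zpow_add, zpow_mul, ht2, one_zpow, one_mul, zpow_one])
    have hxN : x ∈ N := by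
      have h1 := hN x
      rw [hsx] at h1
      obtain ⟨k, hk⟩ := hp.out.odd_of_ne_two hp2
      have h2 : (x⁻¹ * x⁻¹) ^ k ∈ N := N.pow_mem h1 k
      have h3 : (x⁻¹ * x⁻¹) ^ k = x := by
        rw [← sq, ← pow_mul, inv_pow, inv_eq_iff_mul_eq_one, ← pow_succ, ← hk, hxp]
      rwa [h3] at h2
    have hin : ∀ a : G, a ^ p = 1 → a ≠ 1 → a ∈ N := by
      intro a ha ha1
      obtain ⟨h, hh⟩ := hD p hp.out (Subgroup.zpowers x) (Subgroup.zpowers a)
        (IsPGroup.of_card (n := 1) (by rw [Nat.card_zpowers, hxo, pow_one]))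
        (IsPGroup.of_card (n := 1) (by rw [Nat.card_zpowers, hordp a ha ha1, pow_one]))
        (by rw [Nat.card_zpowers, Nat.card_zpowers, hxo, hordp a ha ha1])
      obtain ⟨b, hb, hba⟩ := Subgroup.mem_map.mp (hh ▸ Subgroup.mem_zpowers a)
      rw [← hba]
      exact hNn.conj_mem b (Subgroup.zpowers_le.mpr hxN hb) h
    exact hodd_out N hNodd (hin y (he y hyP) hy1) (hin y' (heQ y' hyQ) hy'1)

/-- The Sylow subgroups of exponent `p` are abelian. -/
theorem comm_of_exponent [Finite G] (hD : EqualConj G) {p : ℕ} [hp : Fact p.Prime]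
    {P : Subgroup G} (hP : IsPGroup p P) (he : ∀ g ∈ P, g ^ p = 1) :
    ∀ a ∈ P, ∀ b ∈ P, a * b = b * a := by
  by_contra hnc
  have hp2 : p ≠ 2 := by
    rintro rfl
    refine hnc fun a ha b hb => ?_
    have h : ∀ c ∈ P, c⁻¹ = c := fun c hc =>
      inv_eq_of_mul_eq_one_right (by rw [← sq]; exact he c hc)
    calc a * b = (a * b)⁻¹ := (h _ (P.mul_mem ha hb)).symm
      _ = b⁻¹ * a⁻¹ := mul_inv_rev a b
      _ = b * a := by rw [h a ha, h b hb]
  obtain ⟨n, hn⟩ := IsPGroup.iff_card.mp hP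
  have hPn : ¬ IsMulCommutative P := fun h => hnc fun a ha b hb =>
    congrArg Subtype.val (h.is_comm.comm (⟨a, ha⟩ : P) ⟨b, hb⟩)
  have hn3 : 3 ≤ n := by
    by_contra h
    interval_cases n
    · exact hnc fun a ha b hb => by
        have hP1 := Subgroup.eq_bot_of_card_eq P (by simpa using hn)
        rw [hP1, Subgroup.mem_bot] at ha hb
        rw [ha, hb]
    · exact hPn (@IsCyclic.isMulCommutative _ _ (isCyclic_of_prime_card (hn.trans (pow_one p))))
    · exact hPn (IsPGroup.isMulCommutative_of_card_eq_prime_sq hn)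
  rcases Nat.lt_or_ge n 4 with hlt | hn4
  · exact no_extraspecial hD hp2 (hn.trans (by rw [show n = 3 by omega])) he hnc
  -- an abelian subgroup of order `p ^ 3`
  obtain ⟨A, -, hAn, hA, hmax⟩ := exists_maximal_normal_abelian (⊥ : Subgroup P)
    (Subgroup.le_centralizer_iff_isMulCommutative.mp (by simp))
  obtain ⟨k, hk⟩ := IsPGroup.iff_card.mp (hP.to_subgroup A)
  have hk3 : 3 ≤ k := by
    by_contra h
    have hle := card_le_of_centralizer_le hP (centralizer_eq_self_of_maximal hP hA hmax).le hk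
    have h3 : k + k.choose 2 ≤ 3 := by interval_cases k <;> decide
    rw [hn] at hle
    have := (Nat.pow_le_pow_iff_right hp.out.one_lt).mp
      (hle.trans (Nat.pow_le_pow_right hp.out.pos h3))
    omega
  obtain ⟨A', hA'⟩ := Sylow.exists_subgroup_card_pow_prime p
    (G := A) (n := 3) (hk ▸ pow_dvd_pow p hk3)
  -- a non-abelian subgroup of order `p ^ 3`
  have hnt : Nontrivial P := (Finite.one_lt_card_iff_nontrivial).mp
    (hn ▸ Nat.one_lt_pow (by omega) hp.out.one_lt)
  set f := QuotientGroup.mk' (Subgroup.center P)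
  have hcne : Subgroup.center P ≠ ⊤ := fun h => hPn
    ⟨⟨fun a b => (Subgroup.mem_center_iff.mp (h ▸ Subgroup.mem_top b) a)⟩⟩
  have hne : Nontrivial (P ⧸ Subgroup.center P) := by
    rw [← Finite.one_lt_card_iff_nontrivial, ← Subgroup.index_eq_card]
    exact Subgroup.one_lt_index_of_ne_top hcne
  obtain ⟨Z, -, hZc, -, hZ⟩ := exists_central_card_prime (hP.to_quotient (Subgroup.center P))
    (⊤ : Subgroup _) top_ne_bot
  obtain ⟨q, hq, hqo⟩ := exists_orderOf_eq_prime_of_ne_bot
    ((hP.to_quotient (Subgroup.center P)).to_subgroup Z)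
    (fun h => hp.out.ne_one (by rw [← hZ, h, Subgroup.card_bot]))
  obtain ⟨x, rfl⟩ := QuotientGroup.mk'_surjective _ q
  have hxc : x ∉ Subgroup.center P := fun h => hp.out.ne_one (by
    rw [← hqo, show f x = 1 from (QuotientGroup.eq_one_iff x).mpr h, orderOf_one])
  obtain ⟨y, hxy⟩ : ∃ y : P, y * x ≠ x * y := by
    by_contra! h
    exact hxc (Subgroup.mem_center_iff.mpr h)
  set c := y * x * y⁻¹ * x⁻¹ with hc
  have hcc : c ∈ Subgroup.center P := by
    rw [← QuotientGroup.eq_one_iff]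
    show f c = 1
    rw [hc, map_mul, map_mul, map_mul, map_inv, map_inv,
      Subgroup.mem_center_iff.mp (hZc hq) (f y), mul_inv_cancel_right, mul_inv_cancel]
  have hep : ∀ a : P, a ^ p = 1 := fun a => Subtype.ext (he a a.2)
  have hWe : Cfsg.IsElementaryAbelian p (Subgroup.zpowers c ⊔ Subgroup.zpowers x) :=
    elemAb_sup (elemAb_zpowers (hep c)) (elemAb_zpowers (hep x))
      (fun a ha b _ => (Subgroup.mem_center_iff.mp
        ((Subgroup.zpowers_le.mpr hcc) ha) b).symm)
  set W := Subgroup.zpowers c ⊔ Subgroup.zpowers x with hWdef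
  have hcW : c ∈ W := le_sup_left (b := Subgroup.zpowers x) (Subgroup.mem_zpowers c)
  have hxW : x ∈ W := le_sup_right (a := Subgroup.zpowers c) (Subgroup.mem_zpowers x)
  have hbig : Nat.card W ≤ p ^ 2 := by
    calc Nat.card W ≤ Nat.card (Subgroup.zpowers c) * Nat.card (Subgroup.zpowers x) := by
          have hn' : (Subgroup.zpowers c).Normal := ⟨fun a ha g => by
            rw [Subgroup.mem_center_iff.mp ((Subgroup.zpowers_le.mpr hcc) ha) g,
              mul_inv_cancel_right]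
            exact ha⟩
          rw [← Nat.card_prod]
          refine Nat.card_le_card_of_surjective
            (fun ab : Subgroup.zpowers c × Subgroup.zpowers x => (⟨(ab.1 : P) * ab.2,
              W.mul_mem (le_sup_left (b := Subgroup.zpowers x) ab.1.2)
                (le_sup_right (a := Subgroup.zpowers c) ab.2.2)⟩ : W)) ?_
          rintro ⟨w, hw⟩
          obtain ⟨a, ha, b, hb, rfl⟩ := Subgroup.mem_sup_of_normal_left.mp hw
          exact ⟨(⟨a, ha⟩, ⟨b, hb⟩), rfl⟩
      _ ≤ p * p := Nat.mul_le_mul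
          ((Nat.card_zpowers c).trans_le
            (Nat.le_of_dvd hp.out.pos (orderOf_dvd_of_pow_eq_one (hep c))))
          ((Nat.card_zpowers x).trans_le
            (Nat.le_of_dvd hp.out.pos (orderOf_dvd_of_pow_eq_one (hep x))))
      _ = p ^ 2 := (sq p).symm
  have hyW : Subgroup.zpowers y ≤ Subgroup.normalizer (W : Set P) := by
    rw [Subgroup.zpowers_le]
    have hle : W.map (MulAut.conj y).toMonoidHom ≤ W := by
      rw [hWdef, Subgroup.map_sup, MonoidHom.map_zpowers, MonoidHom.map_zpowers, sup_le_iff,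
        Subgroup.zpowers_le, Subgroup.zpowers_le]
      refine ⟨?_, ?_⟩
      · show y * c * y⁻¹ ∈ W
        rw [Subgroup.mem_center_iff.mp hcc y, mul_inv_cancel_right]
        exact hcW
      · show y * x * y⁻¹ ∈ W
        rw [show y * x * y⁻¹ = c * x by rw [hc]; group]
        exact W.mul_mem hcW hxW
    have heq := Subgroup.eq_of_le_of_card_ge hle
      (Subgroup.card_map_of_injective (MulAut.conj y).injective).ge
    rw [Subgroup.mem_normalizer_iff]
    refine fun h => ⟨fun hh => hle ⟨h, hh, rfl⟩, fun hh => ?_⟩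
    rw [← heq] at hh
    obtain ⟨a, ha, hae⟩ := hh
    have : a = h := by simpa using hae
    exact this ▸ ha
  set B := W ⊔ Subgroup.zpowers y with hBdef
  have hBle : Nat.card B ≤ p ^ 3 := by
    calc Nat.card B ≤ Nat.card W * Nat.card (Subgroup.zpowers y) := by
          rw [← Nat.card_prod]
          refine Nat.card_le_card_of_surjective
            (fun ab : W × Subgroup.zpowers y => (⟨(ab.1 : P) * ab.2,
              B.mul_mem (le_sup_left (b := Subgroup.zpowers y) ab.1.2)
                (le_sup_right (a := W) ab.2.2)⟩ : B)) ?_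
          rintro ⟨w, hw⟩
          have hw' : w ∈ ((W ⊔ Subgroup.zpowers y : Subgroup P) : Set P) := hw
          rw [Subgroup.coe_mul_of_right_le_normalizer_left W _ hyW] at hw'
          obtain ⟨a, ha, b, hb, rfl⟩ := hw'
          exact ⟨(⟨a, ha⟩, ⟨b, hb⟩), rfl⟩
      _ ≤ p ^ 2 * p := Nat.mul_le_mul hbig (by
          rw [Nat.card_zpowers]
          exact Nat.le_of_dvd hp.out.pos (orderOf_dvd_of_pow_eq_one (hep y)))
      _ = p ^ 3 := (pow_succ p 2).symm
  obtain ⟨j, hj⟩ := IsPGroup.iff_card.mp (hP.to_subgroup B)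
  have hBn : ¬ IsMulCommutative B := fun h => hxy (congrArg Subtype.val (h.is_comm.comm
    (⟨y, le_sup_right (a := W) (Subgroup.mem_zpowers y)⟩ : B)
    ⟨x, le_sup_left (b := Subgroup.zpowers y) hxW⟩))
  have hj3 : j = 3 := by
    have : j ≤ 3 := (Nat.pow_le_pow_iff_right hp.out.one_lt).mp (hj ▸ hBle)
    by_contra h
    have : j ≤ 2 := by omega
    interval_cases j
    · have hB1 := Subgroup.eq_bot_of_card_eq B (by simpa using hj)
      exact hBn ⟨⟨fun a b => by
        have ha : (a : P) = 1 := Subgroup.mem_bot.mp (hB1 ▸ a.2)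
        have hb : (b : P) = 1 := Subgroup.mem_bot.mp (hB1 ▸ b.2)
        exact Subtype.ext (by simp [ha, hb])⟩⟩
    · exact hBn (@IsCyclic.isMulCommutative _ _ (isCyclic_of_prime_card (hj.trans (pow_one p))))
    · exact hBn (IsPGroup.isMulCommutative_of_card_eq_prime_sq hj)
  subst hj3
  -- compare
  have hAB := equiv_of_card_eq hD (p := p)
    (H := (A'.map A.subtype).map P.subtype) (K := B.map P.subtype)
    (((IsPGroup.of_card hA').map _).map _) ((IsPGroup.of_card hj).map _)
    (by rw [Subgroup.card_map_of_injective P.subtype_injective,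
      Subgroup.card_map_of_injective A.subtype_injective,
      Subgroup.card_map_of_injective P.subtype_injective, hA', hj])
  have hcm := comm_of_equiv hAB (by
    rintro _ ⟨a, ⟨a', -, rfl⟩, rfl⟩ _ ⟨b, ⟨b', -, rfl⟩, rfl⟩
    exact congrArg (fun t : A => ((t : P) : G)) (hA.is_comm.comm a' b'))
  exact hxy (Subtype.ext (hcm _ (Subgroup.mem_map_of_mem _
    (le_sup_right (a := W) (Subgroup.mem_zpowers y))) _
    (Subgroup.mem_map_of_mem _ (le_sup_left (b := Subgroup.zpowers y) hxW))))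

/-- Let G be a finite group in which, for every prime p, any two p-subgroups of the same order are conjugate. Then every Sylow subgroup of G is cyclic, elementary abelian, or a quaternion group of order 8. -/
theorem result {G : Type*} [Group G] [Finite G]
    (hD : ∀ p : ℕ, p.Prime → ∀ H K : Subgroup G, IsPGroup p H → IsPGroup p K → Nat.card H = Nat.card K →
      ∃ g : G, K = H.map (MulAut.conj g).toMonoidHom) {p : ℕ} [Fact p.Prime] (P : Sylow p G) :
    IsCyclic P ∨ Cfsg.IsElementaryAbelian p (P : Subgroup G) ∨ Nonempty ((P : Subgroup G) ≃* QuaternionGroup 2) := by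
  rcases exponent_or_unique hD P.isPGroup' with he | hu
  · exact Or.inr (Or.inl (elemAb_mk (comm_of_exponent hD P.isPGroup' he) he))
  rcases isCyclic_or_quaternion P.isPGroup' hu with hc | ⟨hp, n, hn, ⟨e⟩⟩
  · exact Or.inl hc
  subst hp
  obtain rfl | hn2 : n = 1 ∨ 2 ≤ n := by omega
  · exact Or.inr (Or.inr ⟨e⟩)
  exfalso
  have : NeZero (2 ^ n) := ⟨(pow_pos two_pos n).ne'⟩
  obtain ⟨a, ha⟩ := e.surjective (QuaternionGroup.a 1)
  obtain ⟨b, hb⟩ := e.surjective (QuaternionGroup.xa 0)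
  have hcT : Nat.card P = 2 ^ (n + 2) := by
    rw [Nat.card_congr e.toEquiv, Nat.card_eq_fintype_card, QuaternionGroup.card]; ring
  obtain ⟨K, hKc, hbK⟩ := Sylow.exists_subgroup_card_pow_prime_le 2
    (G := P) (n := 2) (m := n + 1) (by rw [hcT]; exact pow_dvd_pow 2 (by omega))
    (Subgroup.zpowers b) (by
      rw [Nat.card_zpowers, ← e.orderOf_eq, hb, QuaternionGroup.orderOf_xa]; norm_num) (by omega)
  have hKi : K.index = 2 := by
    have := K.card_mul_index
    rw [hKc, hcT, pow_succ 2 (n + 1)] at this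
    exact Nat.eq_of_mul_eq_mul_left (pow_pos two_pos _) this
  have ha2 : a ^ 2 ∈ K := by rw [sq]; exact Subgroup.mul_self_mem_of_index_two hKi a
  have hao : orderOf a = 2 ^ (n + 1) := by
    rw [← e.orderOf_eq, ha, QuaternionGroup.orderOf_a_one, pow_succ']
  have hAK := equiv_of_card_eq hD (p := 2)
    (H := (Subgroup.zpowers a).map (P : Subgroup G).subtype)
    (K := K.map (P : Subgroup G).subtype)
    ((P.isPGroup'.to_subgroup _).map _) ((P.isPGroup'.to_subgroup _).map _)
    (by rw [Subgroup.card_map_of_injective (Subgroup.subtype_injective _),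
      Subgroup.card_map_of_injective (Subgroup.subtype_injective _), Nat.card_zpowers, hao, hKc])
  have hcomm := comm_of_equiv hAK (by
    rintro _ ⟨u, hu', rfl⟩ _ ⟨w, hw, rfl⟩
    obtain ⟨i, rfl⟩ := Subgroup.mem_zpowers_iff.mp hu'
    obtain ⟨j, rfl⟩ := Subgroup.mem_zpowers_iff.mp hw
    rw [← map_mul, ← map_mul, (Commute.zpow_zpow_self a i j).eq])
  have h1 : a ^ 2 * b = b * a ^ 2 := Subtype.ext
    (hcomm _ (Subgroup.mem_map_of_mem _ ha2) _
      (Subgroup.mem_map_of_mem _ (hbK (Subgroup.mem_zpowers b))))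
  have h2 := congrArg e h1
  rw [map_mul, map_mul, map_pow, ha, hb, sq, QuaternionGroup.a_mul_a, QuaternionGroup.a_mul_xa,
    QuaternionGroup.xa_mul_a] at h2
  have h3 : ((4 : ℕ) : ZMod (2 * 2 ^ n)) = 0 := by
    injection h2 with h2
    push_cast
    linear_combination -h2
  rw [ZMod.natCast_eq_zero_iff] at h3
  have h4 : 8 ≤ 2 * 2 ^ n := by
    have : 2 ^ 2 ≤ 2 ^ n := Nat.pow_le_pow_right two_pos (by omega)
    omega
  exact absurd (Nat.le_of_dvd (by omega) h3) (by omega)

end Cfsg.Agent.S4020
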