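import Cfsg.Statements.S4025
import Cfsg.Agent.Lib.Elem70.Semilinear.Count
import Cfsg.Agent.Lib.Elem70.Semilinear.Embed
import Cfsg.Agent.Lib.PSolvable.HallHigman

set_option autoImplicit false
open Cfsg

namespace Cfsg.Agent.S4025

open Cfsg.Agent.Lib.Elem70.Semilinear
open scoped Pointwise

/-- Two subgroups of an abelian Sylow subgroup that are conjugate are conjugate in its normaliser. -/
private theorem exists_normalizer_conj {G : Type*} [Group G] [Finite G] {p : ℕ} [Fact p.Prime]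
    (P : Sylow p G) (hcomm : ∀ a ∈ (P : Subgroup G), ∀ b ∈ (P : Subgroup G), a * b = b * a)
    {A B : Subgroup G} (hA : A ≤ (P : Subgroup G)) (hB : B ≤ (P : Subgroup G)) (g : G)
    (hg : B = A.map (MulAut.conj g).toMonoidHom) :
    ∃ m ∈ Subgroup.normalizer ((P : Subgroup G) : Set G), B = A.map (MulAut.conj m).toMonoidHom := by
  set C := Subgroup.centralizer (B : Set G)
  have h1 : (P : Subgroup G) ≤ C := fun x hx =>
    Subgroup.mem_centralizer_iff.mpr fun b hb => hcomm b (hB hb) x hx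
  have h2 : ((g • P : Sylow p G) : Subgroup G) ≤ C := by
    rintro _ ⟨x, hx, rfl⟩
    refine Subgroup.mem_centralizer_iff.mpr fun b hb => ?_
    rw [hg] at hb
    obtain ⟨a, ha, rfl⟩ := hb
    show g * a * g⁻¹ * (g * x * g⁻¹) = g * x * g⁻¹ * (g * a * g⁻¹)
    calc g * a * g⁻¹ * (g * x * g⁻¹) = g * (a * x) * g⁻¹ := by group
      _ = g * (x * a) * g⁻¹ := by rw [hcomm a (hA ha) x hx]
      _ = _ := by group
  obtain ⟨c, hc⟩ := MulAction.exists_smul_eq C ((g • P).subtype h2) (P.subtype h1)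
  simp_rw [Sylow.smul_subtype, Subgroup.smul_def, smul_smul] at hc
  refine ⟨c * g, Sylow.smul_eq_iff_mem_normalizer.mp (Sylow.subtype_injective hc), ?_⟩
  have hcB : ∀ b ∈ B, (c : G) * b * (c : G)⁻¹ = b := fun b hb => by
    rw [← Subgroup.mem_centralizer_iff.mp c.2 b hb, mul_inv_cancel_right]
  ext b
  constructor
  · intro hb
    have hb' := hb
    rw [hg] at hb'
    obtain ⟨a, ha, rfl⟩ := hb'
    refine ⟨a, ha, ?_⟩
    show (c : G) * g * a * ((c : G) * g)⁻¹ = g * a * g⁻¹
    exact (by group : (c : G) * g * a * ((c : G) * g)⁻¹ = (c : G) * (g * a * g⁻¹) * (c : G)⁻¹).trans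
      (hcB _ hb)
  · rintro ⟨a, ha, rfl⟩
    have hb : g * a * g⁻¹ ∈ B := hg ▸ ⟨a, ha, rfl⟩
    show (c : G) * g * a * ((c : G) * g)⁻¹ ∈ B
    rw [show (c : G) * g * a * ((c : G) * g)⁻¹ = (c : G) * (g * a * g⁻¹) * (c : G)⁻¹ by group, hcB _ hb]
    exact hb

/-- The statement for the quotient, the normal Sylow subgroup being given as a vector space. -/
private theorem of_space {Q : Type*} [Group Q] [Finite Q] [Group.IsSolvable Q] {p : ℕ} [hp : Fact p.Prime]
    {V : Type*} [AddCommGroup V] [Module (ZMod p) V] [Finite V]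
    (hQ : Cfsg.pPrimeCore p Q = ⊥) (A : Subgroup Q) [A.Normal]
    (e : V ≃ A) (he : ∀ v w, e (v + w) = e v * e w) {n : ℕ} (hn : 3 ≤ n)
    (hcard : Nat.card A = p ^ n) (hind : ¬ p ∣ A.index)
    (htr : ∀ X Y : Subgroup Q, X ≤ A → Y ≤ A → Nat.card X = Nat.card Y →
      ∃ q : Q, Y = X.map (MulAut.conj q).toMonoidHom) :
    (n = 3 ∧ (∃ f : Q →* ↥(Cfsg.semiaffineGroup (GaloisField p 3)), Function.Injective f) ∧
      (p = 2 → Nonempty (Q ≃* Cfsg.semiaffineGroup (GaloisField 2 3)) ∨
               Nonempty (Q ≃* Cfsg.affineGroup (GaloisField 2 3)))) ∨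
    (n = 5 ∧ p = 2 ∧ Nonempty (Q ≃* Cfsg.semiaffineGroup (GaloisField 2 5))) := by
  classical
  have hfr : Module.finrank (ZMod p) V = n := by
    have h := Module.natCard_eq_pow_finrank (K := ZMod p) (V := V)
    rw [Nat.card_congr e, hcard, Nat.card_zmod] at h
    exact (Nat.pow_right_injective hp.out.two_le h).symm
  have hcomm : ∀ a ∈ A, ∀ b ∈ A, a * b = b * a := fun a ha b hb => by
    have h : (⟨a, ha⟩ : A) * ⟨b, hb⟩ = ⟨b, hb⟩ * ⟨a, ha⟩ := by
      rw [← e.apply_symm_apply ⟨a, ha⟩, ← e.apply_symm_apply ⟨b, hb⟩, ← he, ← he, add_comm]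
    exact congrArg Subtype.val h
  have he0 : e 0 = 1 := by
    have h := he 0 0
    rw [add_zero] at h
    exact (left_eq_mul.mp h)
  obtain ⟨L, hAL⟩ := Subgroup.exists_right_complement'_of_coprime (N := A) (by
    rw [hcard]; exact Nat.Coprime.pow_left _ (hp.out.coprime_iff_not_dvd.mpr hind))
  have hLind : Nat.card L = A.index := hAL.symm.index_eq_card.symm
  have hco : (Nat.card L).Coprime p := (hp.out.coprime_iff_not_dvd.mpr (hLind ▸ hind)).symm
  haveI : Group.IsSolvable L := Group.isSolvable_of_isSolvable_injective (Subgroup.subtype_injective L)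
  -- the action of the complement
  let lin : L → Module.End (ZMod p) V := fun l =>
    AddMonoidHom.toZModLinearMap p (AddMonoidHom.mk' (fun v => e.symm (MulAut.conjNormal (l : Q) (e v)))
      fun v w => e.injective (by simp [he]))
  have hlin : ∀ (l : L) (v : V), e (lin l v) = MulAut.conjNormal (l : Q) (e v) := fun l v =>
    e.apply_symm_apply _
  let ρ : L →* (Module.End (ZMod p) V)ˣ := MonoidHom.toHomUnits
    { toFun := lin
      map_one' := LinearMap.ext fun v => e.injective (by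
        rw [hlin, OneMemClass.coe_one, map_one]; rfl)
      map_mul' := fun a b => LinearMap.ext fun v => e.injective (by
        rw [hlin, Module.End.mul_apply, hlin, hlin, Subgroup.coe_mul, map_mul]; rfl) }
  have hρ : ∀ (l : L) (v : V),
      ((e ((ρ l : Module.End (ZMod p) V) v) : A) : Q) = l * (e v : A) * (l : Q)⁻¹ := fun l v => by
    show ((e (lin l v) : A) : Q) = _
    rw [hlin]; exact MulAut.conjNormal_apply _ _
  have hinj : Function.Injective ρ := by
    rw [← MonoidHom.ker_eq_bot_iff, eq_bot_iff]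
    intro l hl
    set K := ρ.ker.map L.subtype with hK
    have hKc : ∀ k ∈ K, ∀ a ∈ A, k * a = a * k := by
      rintro _ ⟨k, hk, rfl⟩ a ha
      have h1 := hρ k (e.symm ⟨a, ha⟩)
      rw [show ρ k = 1 from hk] at h1
      rw [Units.val_one, Module.End.one_apply, Equiv.apply_symm_apply] at h1
      exact (mul_inv_eq_iff_eq_mul.mp h1.symm)
    haveI hKn : K.Normal := by
      refine ⟨fun k hk g => ?_⟩
      obtain ⟨⟨a, m⟩, rfl⟩ := hAL.2 g
      have hmk : (m : Q) * k * (m : Q)⁻¹ ∈ K := by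
        obtain ⟨k, hk', rfl⟩ := hk
        exact ⟨m * k * m⁻¹, (inferInstance : ρ.ker.Normal).conj_mem k hk' m, rfl⟩
      show (a : Q) * m * k * ((a : Q) * m)⁻¹ ∈ K
      rw [show (a : Q) * m * k * ((a : Q) * m)⁻¹ = (a : Q) * ((m : Q) * k * (m : Q)⁻¹) * (a : Q)⁻¹ by group,
        ← hKc _ hmk a a.2, mul_inv_cancel_right]
      exact hmk
    have hKle := Cfsg.Agent.Lib.PSolvable.le_pPrimeCore hKn
      (Nat.Coprime.of_dvd_left (Subgroup.card_dvd_of_le (Subgroup.map_subtype_le ρ.ker)) hco)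
    rw [hQ] at hKle
    exact Subgroup.mem_bot.mpr (Subtype.ext (Subgroup.mem_bot.mp (hKle ⟨l, hl, rfl⟩)))
  -- transitivity on subspaces
  have htrans : ∀ k ≤ 2, TransitiveOn ρ k := by
    intro k _ W W' hW hW'
    let sub : Submodule (ZMod p) V → Subgroup Q := fun W =>
      { carrier := {x | ∃ w ∈ W, ((e w : A) : Q) = x}
        mul_mem' := by
          rintro _ _ ⟨v, hv, rfl⟩ ⟨w, hw, rfl⟩
          exact ⟨v + w, W.add_mem hv hw, by rw [he, Subgroup.coe_mul]⟩
        one_mem' := ⟨0, W.zero_mem, by rw [he0, Subgroup.coe_one]⟩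
        inv_mem' := by
          rintro _ ⟨w, hw, rfl⟩
          refine ⟨-w, W.neg_mem hw, eq_inv_of_mul_eq_one_left ?_⟩
          rw [← Subgroup.coe_mul, ← he, neg_add_cancel, he0, Subgroup.coe_one] }
    have hesub : ∀ W v, ((e v : A) : Q) ∈ sub W → v ∈ W := fun W v ⟨w, hw, h⟩ =>
      e.injective (Subtype.ext h) ▸ hw
    have hsle : ∀ W, sub W ≤ A := by
      rintro W _ ⟨w, -, rfl⟩
      exact (e w).2
    have hsc : ∀ W, Nat.card (sub W) = p ^ Module.finrank (ZMod p) W := fun W => by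
      rw [← Nat.card_eq_of_bijective (fun w : W => (⟨_, w.1, w.2, rfl⟩ : sub W))
          ⟨fun a b h => Subtype.ext (e.injective (Subtype.ext (congrArg (fun t : sub W => (t : Q)) h :))),
            fun ⟨_, w, hw, h⟩ => ⟨⟨w, hw⟩, Subtype.ext h⟩⟩,
        Module.natCard_eq_pow_finrank (K := ZMod p) (V := W), Nat.card_zmod]
    obtain ⟨q, hq⟩ := htr (sub W) (sub W') (hsle W) (hsle W')
      (by rw [hsc, hsc, hW, hW'])
    obtain ⟨⟨a, l⟩, rfl⟩ := hAL.2 q
    have hsame : ∀ w : V, ((a : Q) * l) * (e w : A) * ((a : Q) * l)⁻¹ =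
        (e ((ρ l : Module.End (ZMod p) (V)) w) : A) := fun w => by
      rw [show ((a : Q) * l) * (e w : A) * ((a : Q) * l)⁻¹ =
        (a : Q) * ((l : Q) * (e w : A) * (l : Q)⁻¹) * (a : Q)⁻¹ by group, ← hρ,
        hcomm _ a.2 _ (Subtype.prop _), mul_inv_cancel_right]
    refine ⟨l, Submodule.ext fun v => ⟨?_, fun hv => ?_⟩⟩
    · rintro ⟨w, hw, rfl⟩
      refine hesub W' _ ?_
      rw [hq, ← hsame w]
      exact ⟨_, ⟨w, hw, rfl⟩, rfl⟩
    · have h1 : ((e v : A) : Q) ∈ sub W' := ⟨v, hv, rfl⟩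
      rw [hq] at h1
      obtain ⟨_, ⟨w, hw, rfl⟩, hxe⟩ := h1
      exact ⟨w, hw, e.injective (Subtype.ext ((hsame w).symm.trans hxe))⟩
  obtain ⟨hdim, hLcard, h7, r, u, hu, hfu, hnorm⟩ := dimension_cases ρ hinj (hfr.symm ▸ hn) htrans
  obtain ⟨f, hf, haff⟩ := exists_hom_semiaffine hQ A L hAL hco ρ e he hρ hu hfu hnorm
  rw [hfr] at hdim hLcard h7
  revert f
  rw [hfr]
  intro f hf haff
  have hQcard : Nat.card Q = p ^ n * Nat.card L := by rw [← hcard, hAL.card_mul]
  rcases hdim with rfl | ⟨rfl, rfl, h155⟩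
  · refine Or.inl ⟨rfl, ⟨f, hf⟩, ?_⟩
    rintro rfl
    have h7' := h7 rfl rfl
    norm_num at hLcard
    have hle := Nat.le_of_dvd (by norm_num) hLcard
    obtain ⟨j, hj⟩ := h7'
    have hj' : j = 1 ∨ j = 3 := by
      have : j ∣ 3 := Nat.dvd_of_mul_dvd_mul_left (by norm_num : 0 < 7) (hj ▸ hLcard)
      exact (Nat.dvd_prime Nat.prime_three).mp this
    rcases hj' with rfl | rfl
    · right
      let g : Q →* Cfsg.affineGroup (GaloisField 2 3) :=
        ((Cfsg.semiaffineGroup (GaloisField 2 3)).subtype.comp f).codRestrict _ (haff (by rw [hj]; norm_num))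
      refine ⟨MulEquiv.ofBijective g (Function.Injective.bijective_of_nat_card_le (fun a b h => hf (Subtype.ext (congrArg Subtype.val h :))) ?_)⟩
      have := card_affineGroup_le (p := 2) (n := 3) (by norm_num)
      rw [hQcard, hj]
      norm_num at this ⊢
      omega
    · left
      refine ⟨MulEquiv.ofBijective f (hf.bijective_of_nat_card_le ?_)⟩
      have := card_semiaffineGroup_le (p := 2) (n := 3) (by norm_num)
      rw [hQcard, hj]
      norm_num at this ⊢
      omega
  · refine Or.inr ⟨rfl, rfl, ⟨MulEquiv.ofBijective f (hf.bijective_of_nat_card_le ?_)⟩⟩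
    have h1 := card_semiaffineGroup_le (p := 2) (n := 5) (by norm_num)
    have h2 := Nat.le_of_dvd Nat.card_pos h155
    rw [hQcard]
    norm_num at h1 ⊢
    omega

/-- The statement for the quotient: a normal elementary abelian Sylow subgroup whose subgroups of
equal order are conjugate. -/
private theorem of_quotient {Q : Type*} [Group Q] [Finite Q] [Group.IsSolvable Q] {p : ℕ} [hp : Fact p.Prime]
    (hQ : Cfsg.pPrimeCore p Q = ⊥) (A : Subgroup Q) [A.Normal]
    (hcomm : ∀ a ∈ A, ∀ b ∈ A, a * b = b * a) (hpow : ∀ a ∈ A, a ^ p = 1) {n : ℕ} (hn : 3 ≤ n)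
    (hcard : Nat.card A = p ^ n) (hind : ¬ p ∣ A.index)
    (htr : ∀ X Y : Subgroup Q, X ≤ A → Y ≤ A → Nat.card X = Nat.card Y →
      ∃ q : Q, Y = X.map (MulAut.conj q).toMonoidHom) :
    (n = 3 ∧ (∃ f : Q →* ↥(Cfsg.semiaffineGroup (GaloisField p 3)), Function.Injective f) ∧
      (p = 2 → Nonempty (Q ≃* Cfsg.semiaffineGroup (GaloisField 2 3)) ∨
               Nonempty (Q ≃* Cfsg.affineGroup (GaloisField 2 3)))) ∨
    (n = 5 ∧ p = 2 ∧ Nonempty (Q ≃* Cfsg.semiaffineGroup (GaloisField 2 5))) := by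
  letI : CommGroup A := { (inferInstance : Group A) with
    mul_comm := fun a b => Subtype.ext (hcomm a a.2 b b.2) }
  letI : Module (ZMod p) (Additive A) := AddCommGroup.zmodModule fun a => Subtype.ext (by
    show ((a.toMul ^ p : A) : Q) = 1
    rw [Subgroup.coe_pow]; exact hpow _ a.toMul.2)
  exact of_space (V := Additive A) hQ A Additive.toMul (fun _ _ => rfl) hn hcard hind htr

/-- Let p be a prime and G a finite group in which any two p-subgroups of the same order are conjugate, and suppose a Sylow p-subgroup P of G is elementary abelian of order pⁿ with n ≥ 3. Let N be the normalizer of P and K the largest normal subgroup of N of order prime to p, and assume N/K is solvable. Then either n = 3 and N/K embeds in the one-dimensional semi-affine group over the field with p³ elements (and for p = 2 it is isomorphic to the affine or the semi-affine group over the field with 8 elements), or n = 5, p = 2 and N/K is isomorphic to the one-dimensional semi-affine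 group over the field with 32 elements. -/
theorem result {G : Type*} [Group G] [Finite G]
    {p : ℕ} [Fact p.Prime] (hC : ∀ H K : Subgroup G, IsPGroup p H → IsPGroup p K → Nat.card H = Nat.card K →
      ∃ g : G, K = H.map (MulAut.conj g).toMonoidHom) (P : Sylow p G) (n : ℕ) (hn : 3 ≤ n)
    (hel : Cfsg.IsElementaryAbelian p (P : Subgroup G)) (hcard : Nat.card P = p ^ n)
    (N : Subgroup G) (hN : N = Subgroup.normalizer ((P : Subgroup G) : Set G))
    (hsolv : Group.IsSolvable (↥N ⧸ Cfsg.pPrimeCore p ↥N)) :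
    (n = 3 ∧ (∃ f : ↥N ⧸ Cfsg.pPrimeCore p ↥N →* ↥(Cfsg.semiaffineGroup (GaloisField p 3)), Function.Injective f) ∧
      (p = 2 → Nonempty (↥N ⧸ Cfsg.pPrimeCore p ↥N ≃* Cfsg.semiaffineGroup (GaloisField 2 3)) ∨
               Nonempty (↥N ⧸ Cfsg.pPrimeCore p ↥N ≃* Cfsg.affineGroup (GaloisField 2 3)))) ∨
    (n = 5 ∧ p = 2 ∧ Nonempty (↥N ⧸ Cfsg.pPrimeCore p ↥N ≃* Cfsg.semiaffineGroup (GaloisField 2 5))) := by
  subst hN
  set N := Subgroup.normalizer ((P : Subgroup G) : Set G) with hN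
  set K := Cfsg.pPrimeCore p ↥N with hK
  haveI : K.Normal := Cfsg.Agent.Lib.PSolvable.pPrimeCore_normal'
  haveI : Group.IsSolvable (↥N ⧸ K) := hsolv
  have hPN : (P : Subgroup G) ≤ N := Subgroup.le_normalizer
  let π : (P : Subgroup G) →* N ⧸ K := (QuotientGroup.mk' K).comp (Subgroup.inclusion hPN)
  have hcopK : (Nat.card K).Coprime p := Cfsg.Agent.Lib.PSolvable.card_pPrimeCore_coprime
  have hπ : Function.Injective π := by
    rw [← MonoidHom.ker_eq_bot_iff, eq_bot_iff]
    intro x hx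
    have h1 : Subgroup.inclusion hPN x ∈ K := (QuotientGroup.eq_one_iff _).mp hx
    obtain ⟨j, hj⟩ := P.2 x
    have h2 : orderOf (Subgroup.inclusion hPN x) ∣ p ^ j :=
      orderOf_dvd_of_pow_eq_one (by rw [← map_pow, hj, map_one])
    have h3 : orderOf (Subgroup.inclusion hPN x) ∣ Nat.card K := by
      rw [show orderOf (Subgroup.inclusion hPN x) = orderOf (⟨_, h1⟩ : K) from (Subgroup.orderOf_mk _ h1).symm]
      exact orderOf_dvd_natCard _
    have h4 := orderOf_eq_one_iff.mp (Nat.eq_one_of_dvd_coprimes (hcopK.pow_right j) h3 h2)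
    exact Subgroup.mem_bot.mpr (Subgroup.inclusion_injective hPN (h4.trans (map_one _).symm))
  have hcomm : ∀ a ∈ (P : Subgroup G), ∀ b ∈ (P : Subgroup G), a * b = b * a := fun a ha b hb =>
    congrArg Subtype.val (hel.1.is_comm.comm ⟨a, ha⟩ ⟨b, hb⟩)
  have hrange : π.range = ((P : Subgroup G).subgroupOf N).map (QuotientGroup.mk' K) := by
    rw [MonoidHom.range_comp, Subgroup.inclusion_range]
  haveI : π.range.Normal := by
    rw [hrange]
    exact Subgroup.Normal.map Subgroup.normal_in_normalizer _ (QuotientGroup.mk'_surjective K)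
  refine of_quotient (Cfsg.Agent.Lib.PSolvable.pPrimeCore_quotient_eq_bot K hK) π.range ?_ ?_ hn ?_ ?_ ?_
  · rintro _ ⟨a, rfl⟩ _ ⟨b, rfl⟩
    rw [← map_mul, ← map_mul]
    exact congrArg π (Subtype.ext (hcomm a a.2 b b.2))
  · rintro _ ⟨a, rfl⟩
    rw [← map_pow, show a ^ p = 1 from Subtype.ext (hel.2 a a.2), map_one]
  · rw [← hcard]
    exact (Nat.card_congr (MonoidHom.ofInjective hπ).toEquiv).symm
  · intro hd
    apply P.not_dvd_index
    have h1 : π.range.index ∣ ((P : Subgroup G).subgroupOf N).index := by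
      rw [hrange]
      exact Subgroup.index_map_dvd _ (QuotientGroup.mk'_surjective K)
    exact hd.trans (h1.trans (Dvd.intro _ (Subgroup.relIndex_mul_index hPN)))
  · intro X Y hX hY hXY
    let down : Subgroup (N ⧸ K) → Subgroup G := fun X => (X.comap π).map (P : Subgroup G).subtype
    have hc : ∀ X, X ≤ π.range → Nat.card (down X) = Nat.card X := fun X hX => by
      show Nat.card ((X.comap π).map (P : Subgroup G).subtype) = _
      rw [Subgroup.card_map_of_injective (Subgroup.subtype_injective _)]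
      conv_rhs => rw [← Subgroup.map_comap_eq_self hX, Subgroup.card_map_of_injective hπ]
    have hle : ∀ X, down X ≤ (P : Subgroup G) := fun X => Subgroup.map_subtype_le _
    have hp' : ∀ X, IsPGroup p (down X) := fun X => P.2.to_le (hle X)
    obtain ⟨g, hg⟩ := hC (down X) (down Y) (hp' X) (hp' Y) (by rw [hc X hX, hc Y hY, hXY])
    obtain ⟨m, hm, hmeq⟩ := exists_normalizer_conj P hcomm (hle X) (hle Y) g hg
    refine ⟨QuotientGroup.mk' K ⟨m, hm⟩, ?_⟩
    have hconj : ∀ a b : (P : Subgroup G), m * (a : G) * m⁻¹ = b →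
        QuotientGroup.mk' K ⟨m, hm⟩ * π a * (QuotientGroup.mk' K ⟨m, hm⟩)⁻¹ = π b := fun a b h => by
      show QuotientGroup.mk' K ⟨m, hm⟩ * QuotientGroup.mk' K _ * (QuotientGroup.mk' K ⟨m, hm⟩)⁻¹ =
        QuotientGroup.mk' K _
      rw [← map_inv, ← map_mul, ← map_mul]
      exact congrArg _ (Subtype.ext h)
    ext y
    constructor
    · intro hy
      obtain ⟨b, rfl⟩ := hY hy
      have h1 : (b : G) ∈ down Y := ⟨b, hy, rfl⟩
      rw [hmeq] at h1
      obtain ⟨_, ⟨a, ha, rfl⟩, hab⟩ := h1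
      exact ⟨π a, ha, hconj a b hab⟩
    · rintro ⟨x, hx, rfl⟩
      obtain ⟨a, rfl⟩ := hX hx
      have h1 : m * (a : G) * m⁻¹ ∈ down Y := by
        rw [hmeq]; exact ⟨a, ⟨a, hx, rfl⟩, rfl⟩
      obtain ⟨b, hb, hbe⟩ := h1
      show QuotientGroup.mk' K ⟨m, hm⟩ * π a * (QuotientGroup.mk' K ⟨m, hm⟩)⁻¹ ∈ Y
      rw [hconj a b hbe.symm]
      exact hb

end Cfsg.Agent.S4025
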