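import Cfsg.Statements.S3020
import Cfsg.Agent.Lib.LAEven57.Basic
import Cfsg.Agent.Lib.Cores.Basic
import Mathlib.GroupTheory.Transfer

set_option autoImplicit false
open Cfsg

namespace Cfsg.Agent.S3020

/-- Let G be a finite group, p a prime and H an abelian p-subgroup of G that is extremely closed (for every g, the subgroup generated by H and g H g⁻¹ meets N_G(H) exactly in H). Then for every g ∈ G, the subgroup T generated by H and g H g⁻¹ is the product of H with O_{p'}(T), and H meets O_{p'}(T) trivially; that is, O_{p'}(T) is a normal p-complement of H in T. -/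
theorem result {G : Type*} [Group G] [Finite G] {p : ℕ} [Fact p.Prime] (H : Subgroup G) (hHp : IsPGroup p H) (hHab : IsMulCommutative H) (hcl : Cfsg.IsExtremelyClosed H) (g : G) (T : Subgroup G) (hT : T = H ⊔ H.map (MulAut.conj g).toMonoidHom) : H ⊔ (Cfsg.pPrimeCore p ↥T).map T.subtype = T ∧ H ⊓ (Cfsg.pPrimeCore p ↥T).map T.subtype = ⊥ := by
  have hHT : H ≤ T := by rw [hT]; exact le_sup_left
  set Hs := H.subgroupOf T with hHs
  have hHsp : IsPGroup p Hs := hHp.comap_subtype
  have hself : ∀ y : ↥T, y ∈ Subgroup.normalizer (Hs : Set ↥T) → y ∈ Hs := by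
    intro y hy
    have hyN : (y : G) ∈ Subgroup.normalizer (H : Set G) := by
      refine Subgroup.mem_normalizer_fintype fun a ha => ?_
      have := (Subgroup.mem_normalizer_iff.mp hy ⟨a, hHT ha⟩).mp ha
      exact this
    have : (y : G) ∈ (H ⊔ H.map (MulAut.conj g).toMonoidHom) ⊓ Subgroup.normalizer (H : Set G) :=
      ⟨hT ▸ y.2, hyN⟩
    rw [hcl g] at this
    exact this
  obtain ⟨P, hP⟩ := hHsp.exists_le_sylow
  have hPH : Hs = (P : Subgroup ↥T) :=
    Cfsg.Agent.Lib.LAEven57.eq_of_normalizer_le P.isPGroup' hP fun y _ hy => hself y hy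
  have hN : Subgroup.normalizer ((P : Subgroup ↥T) : Set ↥T) ≤ Subgroup.centralizer ((P : Subgroup ↥T) : Set ↥T) := by
    intro y hy
    rw [← hPH] at hy ⊢
    have hy' := hself y hy
    rw [Subgroup.mem_centralizer_iff]
    intro z hz
    have h0 : (z : G) * (y : G) = (y : G) * (z : G) :=
      congrArg Subtype.val (mul_comm' (⟨(z : G), hz⟩ : ↥H) ⟨(y : G), hy'⟩)
    exact Subtype.ext h0
  have hcompl := MonoidHom.ker_transferSylow_isComplement' P hN
  set N := (MonoidHom.transferSylow P hN).ker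
  have hNle : N ≤ Cfsg.pPrimeCore p ↥T := le_sSup ⟨MonoidHom.normal_ker _, by
    exact ((Fact.out : p.Prime).coprime_iff_not_dvd.mpr (MonoidHom.not_dvd_card_ker_transferSylow P hN)).symm⟩
  constructor
  · refine le_antisymm (sup_le hHT (Subgroup.map_subtype_le _)) fun t ht => ?_
    obtain ⟨⟨n, a⟩, hna, -⟩ := hcompl.existsUnique (⟨t, ht⟩ : ↥T)
    have e : ((n : ↥T) : G) * ((a : ↥T) : G) = t := congrArg Subtype.val hna
    have ha : ((a : ↥T) : G) ∈ H := by
      have : (a : ↥T) ∈ Hs := by rw [hPH]; exact a.2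
      exact this
    rw [← e]
    exact Subgroup.mul_mem _ (Subgroup.mem_sup_right ⟨(n : ↥T), hNle n.2, rfl⟩) (Subgroup.mem_sup_left ha)
  · rw [eq_bot_iff]
    rintro a ⟨ha, b, hb, rfl⟩
    have hc := Cfsg.Agent.Lib.Cores.pPrimeCore_coprime (G := ↥T) p
    have hob : (orderOf b).Coprime p :=
      Nat.Coprime.coprime_dvd_left (Subgroup.orderOf_mk b hb ▸ orderOf_dvd_natCard (⟨b, hb⟩ : Cfsg.pPrimeCore p ↥T)) hc
    rw [Subgroup.mem_bot]
    exact Cfsg.Agent.Lib.LAEven57.eq_one_of_coprime_mem_pGroup hHp (by rwa [show orderOf (T.subtype b) = orderOf b from Subgroup.orderOf_coe b]) ha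

end Cfsg.Agent.S3020
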