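import Cfsg.Statements.S3021
import Cfsg.Agent.Lib.LA5.Basic

set_option autoImplicit false
open Cfsg

namespace Cfsg.Agent.S3021

open Cfsg.Agent.Lib.LA5.Basic

/-- Let G be a finite group, p a prime and H a p-subgroup of G that is extremely closed (for every g, the subgroup generated by H and g H g⁻¹ meets N_G(H) exactly in H). Then every p-subgroup Q of G containing H has N_G(Q) ≤ N_G(H); in particular every Sylow p-subgroup P of G containing H normalizes H, and H is strongly closed in P with respect to G. -/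
theorem result {G : Type*} [Group G] [Finite G] {p : ℕ} [Fact p.Prime] (H : Subgroup G) (hHp : IsPGroup p H) (hcl : Cfsg.IsExtremelyClosed H) : (∀ Q : Subgroup G, IsPGroup p Q → H ≤ Q → Subgroup.normalizer (Q : Set G) ≤ Subgroup.normalizer (H : Set G)) ∧ ∀ P : Sylow p G, H ≤ (P : Subgroup G) → (P : Subgroup G) ≤ Subgroup.normalizer (H : Set G) ∧ Cfsg.IsStronglyClosed H (P : Subgroup G) := by
  have h1 : ∀ Q : Subgroup G, IsPGroup p Q → H ≤ Q →
      Subgroup.normalizer (Q : Set G) ≤ Subgroup.normalizer (H : Set G) := by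
    intro Q hQ hle g hg
    rw [mem_normalizer_iff_conj_eq]
    have hconj : H.map (MulAut.conj g).toMonoidHom ≤ Q := by
      rw [← mem_normalizer_iff_conj_eq.mp hg]
      exact Subgroup.map_mono hle
    have hX : H ⊔ H.map (MulAut.conj g).toMonoidHom ≤ Q := sup_le hle hconj
    have heq := eq_of_inf_normalizer_eq (hQ.to_le hX) le_sup_left (hcl g)
    exact conj_eq_self_of_le (le_sup_right.trans heq.ge)
  refine ⟨h1, fun P hP => ?_⟩
  have hPN : (P : Subgroup G) ≤ Subgroup.normalizer (H : Set G) :=
    Subgroup.le_normalizer.trans (h1 _ P.isPGroup' hP)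
  refine ⟨hPN, hP, fun x hx g hg => ?_⟩
  rw [← hcl g]
  refine ⟨Subgroup.mem_sup_right ?_, hPN hg⟩
  rw [mem_conj_iff]
  simpa [mul_assoc] using hx

end Cfsg.Agent.S3021
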