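import Cfsg.Statements.S0519
import Cfsg.Agent.Lib.PGroups.MaxAbelian
import Cfsg.Agent.Lib.PGroups.CyclicIndexP
import Cfsg.Agent.Lib.PGroups.Recognition
import Cfsg.Agent.Lib.Classif.OddTransvection

set_option autoImplicit false
open Cfsg

namespace Cfsg.Agent.S0519

open scoped commutatorElement

/-- `C(A) = A`, `A` cyclic: the quotient by `A` is abelian. -/
theorem commutator_mem {P : Type*} [Group P] {A : Subgroup P} [hA : A.Normal] (hc : IsCyclic A)
    (hC : Subgroup.centralizer (A : Set P) = A) (g x : P) : ⁅g, x⁆ ∈ A := by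
  haveI := hc
  rw [← hC, Subgroup.mem_centralizer_iff]
  intro b hb
  obtain ⟨s, hs⟩ := MonoidHom.map_cyclic (MulAut.conjNormal (H := A) g).toMonoidHom
  obtain ⟨t, ht⟩ := MonoidHom.map_cyclic (MulAut.conjNormal (H := A) x).toMonoidHom
  have hcomm : MulAut.conjNormal (H := A) g * MulAut.conjNormal (H := A) x =
      MulAut.conjNormal (H := A) x * MulAut.conjNormal (H := A) g := by
    ext c
    have h1 : MulAut.conjNormal (H := A) g (MulAut.conjNormal (H := A) x c) = (c ^ t) ^ s := by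
      rw [show MulAut.conjNormal (H := A) x c = c ^ t from ht c]; exact hs _
    have h2 : MulAut.conjNormal (H := A) x (MulAut.conjNormal (H := A) g c) = (c ^ s) ^ t := by
      rw [show MulAut.conjNormal (H := A) g c = c ^ s from hs c]; exact ht _
    simp only [MulAut.mul_apply]
    rw [h1, h2, ← zpow_mul, ← zpow_mul, mul_comm]
  have h : MulAut.conjNormal (H := A) ⁅g, x⁆ = 1 := by
    rw [commutatorElement_def, map_mul, map_mul, map_mul, map_inv, map_inv, hcomm]
    group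
  have := congrArg (fun φ : MulAut A => ((φ ⟨b, hb⟩ : A) : P)) h
  simp only [MulAut.conjNormal_apply, MulAut.one_apply] at this
  exact (mul_inv_eq_iff_eq_mul.mp this).symm

/-- The forbidden configuration: an element acting on the cyclic self-centralising normal subgroup
`⟨a⟩` as `a ↦ a z`, `z` of order `p`, gives a non-cyclic normal abelian subgroup. -/
theorem key {P : Type*} [Group P] [Finite P] {p : ℕ} [Fact p.Prime]
    (hn : ∀ A : Subgroup P, A.Normal → IsMulCommutative A → IsCyclic A)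
    (a x z : P) (n : ℕ) (ha : orderOf a = p ^ n) (hA : (Subgroup.zpowers a).Normal)
    (hC : Subgroup.centralizer (Subgroup.zpowers a : Set P) = Subgroup.zpowers a)
    (hxp : x ^ p ∈ Subgroup.zpowers a) (hz : x * a * x⁻¹ = a * z) (hz1 : z ≠ 1) (hzp : z ^ p = 1)
    (hzA : z ∈ Subgroup.zpowers a) (hn3 : p ≠ 2 ∨ 3 ≤ n) : False := by
  classical
  have hp : p.Prime := Fact.out
  haveI := hA
  set A := Subgroup.zpowers a with hAdef
  obtain ⟨kz, hkz⟩ := Subgroup.mem_zpowers_iff.mp hzA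
  have hn2 : 2 ≤ n := by
    by_contra hlt
    have hap : a ^ p = 1 := by
      rw [← orderOf_dvd_iff_pow_eq_one, ha]
      calc p ^ n ∣ p ^ 1 := pow_dvd_pow p (by omega)
        _ = p := pow_one p
    obtain ⟨j, hj⟩ := Subgroup.mem_zpowers_iff.mp hxp
    have hxk : x ^ p ^ (n + 1) = 1 := by
      rw [pow_succ', pow_mul, ← hj, ← zpow_natCast, ← zpow_mul, mul_comm, zpow_mul, zpow_natCast,
        ← ha, pow_orderOf_eq_one, one_zpow]
    have := Cfsg.Agent.Lib.Classif.fix_of_mem_zpowers hap hxk (by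
      rw [hz, (show Commute a z from hkz ▸ Commute.self_zpow a kz).eq, mul_inv_cancel_right]
      exact hzA)
    rw [hz] at this
    exact hz1 (mul_eq_left.mp this)
  -- `p` divides `kz`
  have hkzp : ((p : ℤ) ^ (n - 1)) ∣ kz := by
    have h1 : ((p ^ n : ℕ) : ℤ) ∣ kz * p := by
      rw [← ha]
      apply orderOf_dvd_iff_zpow_eq_one.mpr
      rw [zpow_mul, hkz, zpow_natCast, hzp]
    have e : p ^ n = p ^ (n - 1) * p := by rw [← pow_succ]; congr 1; omega
    rw [e] at h1
    push_cast at h1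
    exact Int.dvd_of_mul_dvd_mul_right (by exact_mod_cast hp.ne_zero) h1
  have hz_fix : x * z * x⁻¹ = z := by
    obtain ⟨c, hc⟩ : (p : ℤ) ∣ kz := (dvd_pow_self _ (by omega)).trans hkzp
    rw [← hkz, ← conj_zpow, hz, (show Commute a z from hkz ▸ Commute.self_zpow a kz).mul_zpow, hkz]
    conv_lhs => rw [hc, zpow_mul z, zpow_natCast, hzp, one_zpow, mul_one]
  have hzfix : ∀ i : ℤ, x * z ^ i * x⁻¹ = z ^ i := fun i => by rw [← conj_zpow, hz_fix]
  have hconj : ∀ j : ℤ, ∀ i : ℕ, x ^ i * a ^ j * (x ^ i)⁻¹ = a ^ j * (z ^ j) ^ i := by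
    intro j i
    refine Cfsg.Agent.Lib.Classif.pow_conj_of_fixed ?_ (hzfix j) i
    rw [← conj_zpow, hz, (show Commute a z from hkz ▸ Commute.self_zpow a kz).mul_zpow]
  -- the subgroup `M`
  set M : Subgroup P := A ⊔ Subgroup.zpowers x with hM
  haveI hMn : M.Normal := Cfsg.Agent.Lib.PGroups.normal_sup_zpowers
    (fun g => commutator_mem inferInstance hC g x)
  have hmemM : ∀ y ∈ M, ∃ (j : ℤ) (i : ℕ), y = a ^ j * x ^ i := by
    intro y hy
    rw [hM, ← SetLike.mem_coe, Subgroup.normal_mul] at hy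
    obtain ⟨b, hb, c, hc, rfl⟩ := hy
    obtain ⟨j, rfl⟩ := Subgroup.mem_zpowers_iff.mp hb
    have hfin : IsOfFinOrder x := isOfFinOrder_of_finite x
    obtain ⟨i, rfl⟩ := hfin.mem_powers_iff_mem_zpowers.mpr hc
    exact ⟨j, i, rfl⟩
  have hzcentral : ∀ y ∈ M, y * z = z * y := by
    intro y hy
    obtain ⟨j, i, rfl⟩ := hmemM y hy
    have h1 : Commute (x ^ i) z := Commute.pow_left (mul_inv_eq_iff_eq_mul.mp hz_fix) i
    have h2 : Commute (a ^ j) z := hkz ▸ Commute.zpow_zpow_self a j kz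
    exact (h2.mul_left h1).eq
  have hcommM : ∀ y ∈ M, ∀ w ∈ M, ⁅y, w⁆ ∈ Subgroup.zpowers z := by
    intro y hy w hw
    obtain ⟨j, i, rfl⟩ := hmemM y hy
    obtain ⟨k, l, rfl⟩ := hmemM w hw
    set Z := Subgroup.zpowers z
    have hpowZ : ∀ (u : ℤ) (v : ℕ), (z ^ u) ^ v ∈ Z := fun u v =>
      pow_mem (zpow_mem (Subgroup.mem_zpowers z) u) v
    have e : ⁅a ^ j * x ^ i, a ^ k * x ^ l⁆ = (z ^ k) ^ i * ((z ^ j) ^ l)⁻¹ := by
      have h1 : x ^ i * a ^ k = a ^ k * (z ^ k) ^ i * x ^ i :=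
        mul_inv_eq_iff_eq_mul.mp (hconj k i)
      have h2 : x ^ l * a ^ j = a ^ j * (z ^ j) ^ l * x ^ l :=
        mul_inv_eq_iff_eq_mul.mp (hconj j l)
      have hc1 : Commute (a ^ j * a ^ k) ((z ^ k) ^ i) := by
        have : Commute (a ^ j * a ^ k) z := by
          rw [← zpow_add]; exact hkz ▸ Commute.zpow_zpow_self a _ kz
        exact (this.zpow_right k).pow_right i
      have hc2 : Commute (a ^ k * a ^ j) ((z ^ j) ^ l) := by
        have : Commute (a ^ k * a ^ j) z := by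
          rw [← zpow_add]; exact hkz ▸ Commute.zpow_zpow_self a _ kz
        exact (this.zpow_right j).pow_right l
      have L : a ^ j * x ^ i * (a ^ k * x ^ l) =
          (z ^ k) ^ i * (a ^ j * a ^ k) * (x ^ i * x ^ l) := by
        calc a ^ j * x ^ i * (a ^ k * x ^ l) = a ^ j * (x ^ i * a ^ k) * x ^ l := by group
          _ = a ^ j * a ^ k * (z ^ k) ^ i * (x ^ i * x ^ l) := by rw [h1]; group
          _ = _ := by rw [hc1.eq]
      have R : a ^ k * x ^ l * (a ^ j * x ^ i) =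
          (z ^ j) ^ l * (a ^ j * a ^ k) * (x ^ i * x ^ l) := by
        calc a ^ k * x ^ l * (a ^ j * x ^ i) = a ^ k * (x ^ l * a ^ j) * x ^ i := by group
          _ = a ^ k * a ^ j * (z ^ j) ^ l * (x ^ l * x ^ i) := by rw [h2]; group
          _ = _ := by rw [hc2.eq, ← zpow_add, ← zpow_add, add_comm k j,
              ← pow_add, ← pow_add, add_comm l i]
      rw [commutatorElement_def, show ∀ u v : P, u * v * u⁻¹ * v⁻¹ = u * v * (v * u)⁻¹ from
        fun u v => by group, L, R]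
      group
    rw [e]
    exact mul_mem (hpowZ _ _) (inv_mem (hpowZ _ _))
  -- the subgroup `D = ⟨a ^ (p * p)⟩`
  set D : Subgroup P := Subgroup.zpowers (a ^ (p * p)) with hD
  have hDA : D ≤ A := Subgroup.zpowers_le.mpr (pow_mem (Subgroup.mem_zpowers a) _)
  have hzD : z ^ p.choose 2 ∈ D := by
    rcases hn3 with hp2 | hn3
    · have : p ∣ p.choose 2 := hp.dvd_choose_self (by norm_num) (lt_of_le_of_ne hp.two_le hp2.symm)
      obtain ⟨c, hc⟩ := this
      rw [hc, pow_mul, hzp, one_pow]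
      exact D.one_mem
    · obtain ⟨c, hc⟩ := (pow_dvd_pow (p : ℤ) (by omega : 2 ≤ n - 1)).trans hkzp
      refine pow_mem ?_ _
      rw [← hkz, hc, zpow_mul]
      refine zpow_mem ?_ _
      rw [show ((p : ℤ) ^ 2) = ((p * p : ℕ) : ℤ) by push_cast; ring, zpow_natCast]
      exact Subgroup.mem_zpowers _
  have hxpA : ∀ i : ℕ, (x ^ i) ^ p ∈ A := fun i => by
    rw [← pow_mul, mul_comm, pow_mul]; exact pow_mem hxp i
  have hMmul : ∀ y ∈ M, ∀ w ∈ M, (y * w) ^ p = y ^ p * w ^ p * ⁅w, y⁆ ^ p.choose 2 := by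
    intro y hy w hw
    obtain ⟨c, hc⟩ := Subgroup.mem_zpowers_iff.mp (hcommM w hw y hy)
    exact Cfsg.Agent.Lib.PGroups.mul_pow_of_central_commutator y w
      (hc ▸ (show Commute y z from hzcentral y hy).zpow_right c)
      (hc ▸ (show Commute w z from hzcentral w hw).zpow_right c) p
  have hMpA : ∀ y ∈ M, y ^ p ∈ A := by
    intro y hy
    obtain ⟨j, i, rfl⟩ := hmemM y hy
    obtain ⟨c, hc⟩ := Subgroup.mem_zpowers_iff.mp (hcommM (x ^ i) (Subgroup.mem_sup_right
      (pow_mem (Subgroup.mem_zpowers x) i)) (a ^ j)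
      (Subgroup.mem_sup_left (zpow_mem (Subgroup.mem_zpowers a) j)))
    rw [hMmul _ (Subgroup.mem_sup_left (zpow_mem (Subgroup.mem_zpowers a) j)) _
      (Subgroup.mem_sup_right (pow_mem (Subgroup.mem_zpowers x) i)), ← hc]
    exact mul_mem (mul_mem (pow_mem (zpow_mem (Subgroup.mem_zpowers a) j) p) (hxpA i))
      (pow_mem (zpow_mem hzA c) _)
  -- the subgroup `K`
  let K : Subgroup P :=
    { carrier := {y | y ∈ M ∧ y ^ p ∈ D}
      one_mem' := ⟨M.one_mem, by rw [one_pow]; exact D.one_mem⟩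
      mul_mem' := by
        rintro y w ⟨hy, hy'⟩ ⟨hw, hw'⟩
        refine ⟨M.mul_mem hy hw, ?_⟩
        obtain ⟨c, hc⟩ := Subgroup.mem_zpowers_iff.mp (hcommM w hw y hy)
        rw [hMmul y hy w hw, ← hc, ← zpow_natCast (z ^ c), ← zpow_mul, mul_comm, zpow_mul,
          zpow_natCast]
        exact D.mul_mem (D.mul_mem hy' hw') (D.zpow_mem hzD c)
      inv_mem' := by
        rintro y ⟨hy, hy'⟩
        exact ⟨M.inv_mem hy, by rw [inv_pow]; exact D.inv_mem hy'⟩ }
  haveI hKn : K.Normal := by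
    refine ⟨fun y ⟨hy, hy'⟩ g => ⟨hMn.conj_mem y hy g, ?_⟩⟩
    rw [conj_pow]
    obtain ⟨c, hc⟩ := Subgroup.mem_zpowers_iff.mp hy'
    obtain ⟨r, hr⟩ := Subgroup.mem_zpowers_iff.mp (hA.conj_mem a (Subgroup.mem_zpowers a) g)
    rw [← hc, ← conj_zpow, ← conj_pow, ← hr]
    refine D.zpow_mem ?_ c
    rw [← zpow_natCast, ← zpow_mul, mul_comm, zpow_mul, zpow_natCast]
    exact D.zpow_mem (Subgroup.mem_zpowers _) r
  have hane : ¬ a ^ p ∈ D := by
    intro h
    have h1 : orderOf (a ^ p) ∣ orderOf (a ^ (p * p)) := by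
      rw [← Nat.card_zpowers (a ^ (p * p))]
      exact D.orderOf_dvd_natCard h
    rw [orderOf_pow, orderOf_pow, ha, Nat.gcd_eq_right (dvd_pow_self p (by omega)),
      Nat.gcd_eq_right (by rw [← sq]; exact pow_dvd_pow p hn2)] at h1
    have e1 : p ^ n / p = p ^ (n - 1) := by
      nth_rewrite 2 [← pow_one p]; exact Nat.pow_div (by omega) hp.pos
    have e2 : p ^ n / (p * p) = p ^ (n - 2) := by rw [← sq]; exact Nat.pow_div hn2 hp.pos
    rw [e1, e2, Nat.pow_dvd_pow_iff_le_right hp.one_lt] at h1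
    omega
  -- an element of `A ∩ K` is a `p`-th power in `A`
  have hKA : ∀ j : ℤ, a ^ j ∈ K → (p : ℤ) ∣ j := by
    intro j hj
    have hjp : (a ^ p) ^ j ∈ D := by
      rw [← zpow_natCast, ← zpow_mul, mul_comm, zpow_mul, zpow_natCast]; exact hj.2
    by_contra hnd
    obtain ⟨u, v, huv⟩ : ∃ u v : ℤ, u * j + v * p = 1 :=
      Int.isCoprime_iff_nat_coprime.mpr (by
        simpa using (hp.coprime_iff_not_dvd.mpr (fun h => hnd (Int.natCast_dvd.mpr h))).symm)
    apply hane
    have : a ^ p = ((a ^ p) ^ j) ^ u * (a ^ (p * p)) ^ v := by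
      rw [← zpow_mul, ← zpow_natCast a (p * p), ← zpow_natCast a p, ← zpow_mul, ← zpow_mul,
        ← zpow_add]
      congr 1
      push_cast
      linear_combination -(p : ℤ) * huv
    rw [this]
    exact D.mul_mem (D.zpow_mem hjp u) (D.zpow_mem (Subgroup.mem_zpowers _) v)
  have hcentA : ∀ y ∈ A, y ∈ K → ∀ w ∈ M, w * y = y * w := by
    intro y hyA hyK w hw
    obtain ⟨j, rfl⟩ := Subgroup.mem_zpowers_iff.mp hyA
    obtain ⟨c, hc⟩ := hKA j hyK
    obtain ⟨k, l, rfl⟩ := hmemM w hw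
    have hzj : z ^ j = 1 := by rw [hc, zpow_mul, zpow_natCast, hzp, one_zpow]
    have h1 : Commute (x ^ l) (a ^ j) := by
      have := hconj j l
      rw [hzj, one_pow, mul_one] at this
      exact mul_inv_eq_iff_eq_mul.mp this
    exact ((Commute.zpow_zpow_self a k j).mul_left h1).eq
  have hKc : IsMulCommutative K := by
    refine IsMulCommutative.of_comm fun y w => Subtype.ext ?_
    change (y : P) * w = w * y
    obtain ⟨j, i, hy⟩ := hmemM _ y.2.1
    obtain ⟨k, l, hw⟩ := hmemM _ w.2.1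
    by_cases hpi : p ∣ i
    · obtain ⟨c, rfl⟩ := hpi
      have hyA : (y : P) ∈ A := by
        rw [hy, pow_mul]; exact mul_mem (zpow_mem (Subgroup.mem_zpowers a) j) (pow_mem hxp c)
      exact (hcentA _ hyA y.2 _ w.2.1).symm
    · -- `w = y ^ t * u` with `u ∈ A`
      obtain ⟨t, ht⟩ : ∃ t : ℕ, t * i ≡ l [MOD p] := by
        haveI : NeZero p := ⟨hp.ne_zero⟩
        refine ⟨((l : ZMod p) * (i : ZMod p)⁻¹).val, ?_⟩
        rw [← ZMod.natCast_eq_natCast_iff, Nat.cast_mul, ZMod.natCast_zmod_val, mul_assoc,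
          inv_mul_cancel₀ (by rwa [Ne, ZMod.natCast_eq_zero_iff]), mul_one]
      have hu : ((y : P) ^ t)⁻¹ * w ∈ A := by
        haveI : (A : Subgroup P).Normal := hA
        rw [← QuotientGroup.eq, QuotientGroup.mk_pow, hy, hw]
        simp only [QuotientGroup.mk_mul, QuotientGroup.mk_pow]
        have ha1 : ∀ c : ℤ, ((a ^ c : P) : P ⧸ A) = 1 := fun c =>
          (QuotientGroup.eq_one_iff _).mpr (zpow_mem (Subgroup.mem_zpowers a) c)
        rw [ha1, ha1, one_mul, one_mul, ← pow_mul, pow_eq_pow_iff_modEq]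
        have hd : orderOf (x : P ⧸ A) ∣ p := by
          rw [orderOf_dvd_iff_pow_eq_one, ← QuotientGroup.mk_pow]
          exact (QuotientGroup.eq_one_iff _).mpr hxp
        rw [mul_comm] at ht
        exact ht.of_dvd hd
      have hwe : (w : P) = (y : P) ^ t * (((y : P) ^ t)⁻¹ * w) := by group
      have hc := hcentA _ hu (K.mul_mem (K.inv_mem (K.pow_mem y.2 t)) w.2) _ y.2.1
      rw [hwe]
      exact ((Commute.self_pow (y : P) t).mul_right hc).eq
  -- `K` is not cyclic
  obtain ⟨l, hl⟩ := Subgroup.mem_zpowers_iff.mp hxp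
  have hpl : (p : ℤ) ∣ l := by
    have h1 := hconj l 1
    rw [pow_one, pow_one, hl] at h1
    have h2 : z ^ l = 1 := by
      have h3 : x * x ^ p * x⁻¹ = x ^ p := by rw [← pow_succ', pow_succ, mul_inv_cancel_right]
      exact mul_eq_left.mp (h1.symm.trans h3)
    have hzo : orderOf z = p := orderOf_eq_prime hzp hz1
    rw [← hzo]
    exact orderOf_dvd_iff_zpow_eq_one.mpr h2
  obtain ⟨c, hcl⟩ := hpl
  have haM : ∀ j : ℤ, a ^ j ∈ M := fun j => Subgroup.mem_sup_left (zpow_mem (Subgroup.mem_zpowers a) j)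
  have hxM : x ∈ M := Subgroup.mem_sup_right (Subgroup.mem_zpowers x)
  set y₀ : P := a ^ (-c) * x with hy₀
  have hy₀K : y₀ ∈ K := by
    refine ⟨M.mul_mem (haM _) hxM, ?_⟩
    obtain ⟨e, he⟩ := Subgroup.mem_zpowers_iff.mp (hcommM x hxM (a ^ (-c)) (haM _))
    rw [hy₀, hMmul _ (haM _) _ hxM, ← he, ← hl, hcl]
    have : (a ^ (-c)) ^ p * a ^ ((p : ℤ) * c) = 1 := by
      rw [← zpow_natCast, ← zpow_mul, ← zpow_add, show -c * (p : ℤ) + p * c = 0 by ring, zpow_zero]
    rw [this, one_mul, ← zpow_natCast (z ^ e), ← zpow_mul, mul_comm, zpow_mul, zpow_natCast]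
    exact D.zpow_mem hzD e
  have hy₀A : y₀ ∉ A := by
    intro h
    have hxA : x ∈ A := by
      have := A.mul_mem (zpow_mem (Subgroup.mem_zpowers a) c : a ^ c ∈ A) h
      rwa [hy₀, ← mul_assoc, ← zpow_add, add_neg_cancel, zpow_zero, one_mul] at this
    obtain ⟨d, hd⟩ := Subgroup.mem_zpowers_iff.mp hxA
    refine hz1 (mul_eq_left.mp (hz.symm.trans ?_))
    rw [← hd]
    exact mul_inv_eq_iff_eq_mul.mpr (Commute.zpow_self a d).eq
  obtain ⟨⟨u, huK⟩, hgen⟩ := (hn K hKn hKc).exists_generator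
  have hu : ∀ v ∈ K, ∃ i : ℤ, u ^ i = v := fun v hv => by
    obtain ⟨i, hi⟩ := Subgroup.mem_zpowers_iff.mp (hgen ⟨v, hv⟩)
    exact ⟨i, congrArg Subtype.val hi⟩
  have huA : u ∉ A := fun h => hy₀A (by
    obtain ⟨i, hi⟩ := hu y₀ hy₀K
    rw [← hi]; exact zpow_mem h i)
  have hapK : a ^ p ∈ K := ⟨by rw [← zpow_natCast]; exact haM _, by
    rw [← pow_mul]; exact Subgroup.mem_zpowers _⟩
  obtain ⟨i, hi⟩ := hu _ hapK
  have hpi : (p : ℤ) ∣ i := by
    by_contra hnd
    obtain ⟨s, t, hst⟩ : ∃ s t : ℤ, s * i + t * p = 1 :=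
      Int.isCoprime_iff_nat_coprime.mpr (by
        simpa using (hp.coprime_iff_not_dvd.mpr (fun h => hnd (Int.natCast_dvd.mpr h))).symm)
    apply huA
    have : u = (u ^ i) ^ s * (u ^ p) ^ t := by
      rw [← zpow_mul, ← zpow_natCast u p, ← zpow_mul, ← zpow_add,
        show i * s + p * t = 1 by linarith, zpow_one]
    rw [this, hi]
    exact mul_mem (zpow_mem (pow_mem (Subgroup.mem_zpowers a) p) s)
      (zpow_mem (hMpA u huK.1) t)
  obtain ⟨e, rfl⟩ := hpi
  apply hane
  rw [← hi, zpow_mul, zpow_natCast]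
  exact D.zpow_mem huK.2 e

theorem int_sq_dichotomy {r : ℤ} {n : ℕ} (hn : 2 ≤ n) (h : (2 : ℤ) ^ n ∣ r ^ 2 - 1) :
    (2 : ℤ) ^ (n - 1) ∣ r - 1 ∨ (2 : ℤ) ^ (n - 1) ∣ r + 1 := by
  have hodd : ¬ (2 : ℤ) ∣ r := by
    intro hr
    have h1 : (2 : ℤ) ∣ r ^ 2 - 1 := (dvd_pow_self _ (by omega)).trans h
    obtain ⟨k, hk⟩ := hr
    obtain ⟨m, hm⟩ := h1
    rw [hk, show (2 * k) ^ 2 - 1 = 2 * (2 * k * k) - 1 by ring] at hm
    omega
  obtain ⟨k, rfl⟩ : ∃ k, r = 2 * k + 1 := ⟨r / 2, by omega⟩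
  have h2 : (2 : ℤ) ^ (n - 2) ∣ k * (k + 1) := by
    have e : (2 : ℤ) ^ n = 4 * 2 ^ (n - 2) := by
      rw [show (4 : ℤ) = 2 ^ 2 by norm_num, ← pow_add]; congr 1; omega
    rw [e, show (2 * k + 1) ^ 2 - 1 = 4 * (k * (k + 1)) by ring] at h
    exact Int.dvd_of_mul_dvd_mul_left (by norm_num) h
  have e : (2 : ℤ) ^ (n - 1) = 2 * 2 ^ (n - 2) := by rw [← pow_succ']; congr 1; omega
  rw [e]
  rcases Int.even_or_odd k with ⟨m, hm⟩ | ⟨m, hm⟩
  · left
    have hcop : IsCoprime ((2 : ℤ) ^ (n - 2)) (k + 1) :=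
      (show IsCoprime (2 : ℤ) (k + 1) from ⟨-m, 1, by rw [hm]; ring⟩).pow_left
    obtain ⟨c, hc⟩ := hcop.dvd_of_dvd_mul_right h2
    exact ⟨c, by rw [hc]; ring⟩
  · right
    have hcop : IsCoprime ((2 : ℤ) ^ (n - 2)) k :=
      (show IsCoprime (2 : ℤ) k from ⟨-m, 1, by rw [hm]; ring⟩).pow_left
    obtain ⟨c, hc⟩ := hcop.dvd_of_dvd_mul_left h2
    exact ⟨c, by rw [show 2 * k + 1 + 1 = 2 * (k + 1) by ring, hc]; ring⟩

theorem result {P : Type*} [Group P] [Finite P] (p : ℕ) [Fact p.Prime]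
    (hP : IsPGroup p P) (hn : ∀ A : Subgroup P, A.Normal → IsMulCommutative A → IsCyclic A)
    (hm : ∃ B : Subgroup P, IsMulCommutative B ∧ ¬ IsCyclic B) :
    p = 2 ∧ ((∃ n : ℕ, Nonempty (P ≃* QuaternionGroup n)) ∨ (∃ n : ℕ, 8 ≤ n ∧ Nonempty (P ≃* DihedralGroup n)) ∨
      Cfsg.IsQuasiDihedral P) := by
  classical
  have hp : p.Prime := Fact.out
  obtain ⟨A, -, hAn, hAc, hmax⟩ := Cfsg.Agent.Lib.PGroups.exists_maximal_normal_abelian
    (⊥ : Subgroup P) (IsMulCommutative.of_comm fun a b => Subsingleton.elim _ _)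
  haveI := hAn
  have hC := Cfsg.Agent.Lib.PGroups.centralizer_eq_self_of_maximal hP hAc hmax
  haveI hAcyc := hn A hAn hAc
  obtain ⟨a, rfl⟩ := A.isCyclic_iff_exists_zpowers_eq_top.mp hAcyc
  obtain ⟨n, ha⟩ := IsPGroup.iff_orderOf.mp hP a
  have hnot : ∃ g : P, g ∉ Subgroup.zpowers a := by
    by_contra hcon
    push Not at hcon
    obtain ⟨B, -, hB⟩ := hm
    haveI : IsCyclic P := ⟨a, hcon⟩
    exact hB inferInstance
  have hexp : ∀ g : P, ∃ r : ℤ, g * a * g⁻¹ = a ^ r := fun g => by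
    obtain ⟨r, hr⟩ := Subgroup.mem_zpowers_iff.mp (hAn.conj_mem a (Subgroup.mem_zpowers a) g)
    exact ⟨r, hr.symm⟩
  have heq : ∀ {u v : ℤ}, a ^ u = a ^ v ↔ ((p : ℤ) ^ n) ∣ u - v := by
    intro u v
    rw [← mul_inv_eq_one, ← zpow_neg, ← zpow_add, ← orderOf_dvd_iff_zpow_eq_one, ha]
    push_cast
    rw [sub_eq_add_neg]
  have hnotfix : ∀ {g : P} {r : ℤ}, g ∉ Subgroup.zpowers a → g * a * g⁻¹ = a ^ r →
      ¬ ((p : ℤ) ^ n) ∣ r - 1 := by
    intro g r hg hr hd
    apply hg
    rw [← hC, Subgroup.mem_centralizer_iff]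
    intro b hb
    obtain ⟨j, rfl⟩ := Subgroup.mem_zpowers_iff.mp hb
    have h1 : g * a * g⁻¹ = a := hr.trans ((heq.mpr hd).trans (zpow_one a))
    have h2 : g * a ^ j * g⁻¹ = a ^ j := by rw [← conj_zpow, h1]
    exact (mul_inv_eq_iff_eq_mul.mp h2).symm
  have hsq : ∀ {g : P} {r : ℤ}, g * a * g⁻¹ = a ^ r → ∀ k : ℕ,
      g ^ k * a * (g ^ k)⁻¹ = a ^ (r ^ k) := by
    intro g r hr k
    induction k with
    | zero => simp
    | succ k ih =>
      calc g ^ (k + 1) * a * (g ^ (k + 1))⁻¹ = g * (g ^ k * a * (g ^ k)⁻¹) * g⁻¹ := by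
            rw [pow_succ']; group
        _ = a ^ (r ^ (k + 1)) := by rw [ih, ← conj_zpow, hr, ← zpow_mul, pow_succ']
  have hord : ∀ {g : P} {r : ℤ}, g ^ p ∈ Subgroup.zpowers a → g * a * g⁻¹ = a ^ r →
      ((p : ℤ) ^ n) ∣ r ^ p - 1 := by
    intro g r hg hr
    refine heq.mp ?_
    rw [← hsq hr p, zpow_one]
    obtain ⟨j, hj⟩ := Subgroup.mem_zpowers_iff.mp hg
    rw [← hj]
    exact mul_inv_eq_iff_eq_mul.mpr (Commute.zpow_self a j).eq
  -- elements of order `p` modulo `A` are not `≡ 1 (mod p^(n-1))`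
  have hkey : ∀ {g : P} {r : ℤ}, g ∉ Subgroup.zpowers a → g ^ p ∈ Subgroup.zpowers a →
      g * a * g⁻¹ = a ^ r → (p ≠ 2 ∨ 3 ≤ n) → ¬ ((p : ℤ) ^ (n - 1)) ∣ r - 1 := by
    intro g r hg hgp hr hn3 hd
    have hn0 : n ≠ 0 := by
      rintro rfl
      exact hnotfix hg hr (by simp)
    refine key hn a g (a ^ (r - 1)) n ha hAn hC hgp ?_ ?_ ?_ (zpow_mem (Subgroup.mem_zpowers a) _) hn3
    · rw [hr, ← zpow_one_add, add_sub_cancel]
    · intro h
      exact hnotfix hg hr (by simpa using heq.mp (h.trans (zpow_zero a).symm))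
    · rw [← zpow_natCast, ← zpow_mul, ← zpow_zero a]
      refine heq.mpr ?_
      have e : (p : ℤ) ^ n = (p : ℤ) ^ (n - 1) * p := by
        rw [← pow_succ, Nat.sub_add_cancel (Nat.pos_of_ne_zero hn0)]
      rw [sub_zero, e]
      exact mul_dvd_mul hd dvd_rfl
  have hlift : ∀ g : P, g ∉ Subgroup.zpowers a →
      ∃ k, g ^ p ^ k ∉ Subgroup.zpowers a ∧ (g ^ p ^ k) ^ p ∈ Subgroup.zpowers a := by
    intro g hg
    obtain ⟨m, hm⟩ := hP g
    have hex : ∃ j, g ^ p ^ j ∈ Subgroup.zpowers a := ⟨m, by rw [hm]; exact one_mem _⟩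
    have hfind := Nat.find_spec hex
    rcases h : Nat.find hex with _ | j
    · rw [h, pow_zero, pow_one] at hfind; exact absurd hfind hg
    · refine ⟨j, fun h' => Nat.find_min hex (by omega) h', ?_⟩
      rw [← pow_mul, ← pow_succ, ← h]; exact hfind
  obtain ⟨g₀, hg₀⟩ := hnot
  obtain ⟨k₀, hxA, hxp⟩ := hlift g₀ hg₀
  set x := g₀ ^ p ^ k₀ with hx
  obtain ⟨r, hr⟩ := hexp x
  obtain rfl : p = 2 := by
    by_contra hp2
    refine hkey hxA hxp hr (Or.inl hp2) ?_
    rcases Nat.eq_zero_or_pos n with rfl | hn0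
    · simp
    · exact Cfsg.Agent.Lib.PGroups.dvd_sub_one_of_dvd_pow_sub_one hp2
        (by rw [Nat.sub_add_cancel hn0]; exact hord hxp hr)
  refine ⟨rfl, ?_⟩
  simp only [Nat.cast_ofNat] at heq hnotfix hord hkey
  have hn2 : 2 ≤ n := by
    by_contra hlt
    apply hnotfix hxA hr
    have h1 := hord hxp hr
    interval_cases n
    · simp
    · rw [pow_one] at h1 ⊢
      obtain ⟨c, hc⟩ := h1
      rcases Int.even_or_odd r with ⟨m, hm⟩ | ⟨m, hm⟩
      · exfalso; rw [hm, show (m + m) ^ 2 - 1 = 2 * (2 * m * m) - 1 by ring] at hc; omega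
      · exact ⟨m, by rw [hm]; ring⟩
  -- every outer element of order 2 mod `A` inverts `a` modulo the involution
  have hneg : ∀ {g : P} {r : ℤ}, g ∉ Subgroup.zpowers a → g ^ 2 ∈ Subgroup.zpowers a →
      g * a * g⁻¹ = a ^ r → (2 : ℤ) ^ (n - 1) ∣ r + 1 ∧ (4 : ℤ) ∣ r + 1 := by
    intro g r hg hgp hr
    rcases Nat.lt_or_ge n 3 with hn3 | hn3
    · obtain rfl : n = 2 := by omega
      have h1 := hord hgp hr
      have h2 := hnotfix hg hr
      norm_num at h1 h2 ⊢
      rcases Int.even_or_odd r with ⟨m, hm⟩ | ⟨m, hm⟩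
      · exfalso
        obtain ⟨c, hc⟩ := h1
        rw [hm, show (m + m) ^ 2 - 1 = 4 * (m * m) - 1 by ring] at hc
        omega
      · omega
    · have h := (int_sq_dichotomy hn2 (hord hgp hr)).resolve_left
        (hkey hg hgp hr (Or.inr hn3))
      exact ⟨h, (show (4 : ℤ) ∣ 2 ^ (n - 1) from
        by rw [show (4 : ℤ) = 2 ^ 2 by norm_num]; exact pow_dvd_pow 2 (by omega)).trans h⟩
  -- all squares lie in `A`
  have hsquares : ∀ g : P, g ^ 2 ∈ Subgroup.zpowers a := by
    intro g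
    by_contra hg2
    have hg : g ∉ Subgroup.zpowers a := fun h => hg2 (pow_mem h 2)
    obtain ⟨k, hk1, hk2⟩ := hlift g hg
    obtain ⟨k', rfl⟩ : ∃ k', k = k' + 1 := by
      rcases k with _ | k'
      · exact absurd (by simpa using hk2) hg2
      · exact ⟨k', rfl⟩
    obtain ⟨s, hs⟩ := hexp (g ^ 2 ^ k')
    have h4 := (hneg hk1 hk2 (r := s ^ 2) (by rw [pow_succ, pow_mul]; exact hsq hs 2)).2
    rcases Int.even_or_odd s with ⟨m, hm⟩ | ⟨m, hm⟩
    · rw [hm, show (m + m) ^ 2 + 1 = 4 * (m * m) + 1 by ring] at h4; omega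
    · rw [hm, show (2 * m + 1) ^ 2 + 1 = 4 * (m * m + m) + 2 by ring] at h4; omega
  -- `A` has index 2
  have hcosets : ∀ g : P, g ∈ Subgroup.zpowers a ∨ g * x ∈ Subgroup.zpowers a := by
    intro g
    by_contra hcon
    push Not at hcon
    obtain ⟨hg, hgx⟩ := hcon
    obtain ⟨s, hs⟩ := hexp g
    have hs' := hneg hg (hsquares g) hs
    have hr' := hneg hxA hxp hr
    have hgxr : g * x * a * (g * x)⁻¹ = a ^ (r * s) := by
      calc g * x * a * (g * x)⁻¹ = g * (x * a * x⁻¹) * g⁻¹ := by group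
        _ = a ^ (r * s) := by rw [hr, ← conj_zpow, hs, ← zpow_mul, mul_comm]
    obtain ⟨-, h4⟩ := hneg hgx (hsquares _) hgxr
    obtain ⟨u, hu⟩ := hs'.2
    obtain ⟨v, hv⟩ := hr'.2
    rw [show r * s + 1 = (r + 1) * (s + 1) - (r + 1) - (s + 1) + 2 by ring, hu, hv,
      show 4 * v * (4 * u) - 4 * v - 4 * u + 2 = 4 * (4 * v * u - v - u) + 2 by ring] at h4
    omega
  have hAcard : Nat.card (Subgroup.zpowers a) = 2 ^ n := by rw [Nat.card_zpowers, ha]
  have hindex : (Subgroup.zpowers a).index = 2 := by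
    rw [Subgroup.index_eq_two_iff]
    refine ⟨x⁻¹, fun b => ?_⟩
    rw [xor_iff_not_iff]
    have hx2 : x⁻¹ * x⁻¹ ∈ Subgroup.zpowers a := by
      rw [← mul_inv_rev, ← sq]; exact inv_mem hxp
    intro hiff
    rcases hcosets b with hb | hb
    · have hxi := hiff.mpr hb
      exact hxA (by
        have := mul_mem (inv_mem hb) hxi
        rw [inv_mul_cancel_left] at this
        simpa using inv_mem this)
    · have hbi : b * x⁻¹ ∈ Subgroup.zpowers a := by
        have := mul_mem hb hx2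
        rwa [mul_assoc, mul_inv_cancel_left] at this
      have := hiff.mp hbi
      exact hxA (by
        have h := mul_mem (inv_mem this) hb
        rwa [inv_mul_cancel_left] at h)
  have hcardP : Nat.card P = 2 * 2 ^ n := by
    rw [← Subgroup.card_mul_index (Subgroup.zpowers a), hAcard, hindex, mul_comm]
  haveI : NeZero (2 ^ n : ℕ) := ⟨pow_ne_zero n (by norm_num)⟩
  set h : ℤ := (2 : ℤ) ^ (n - 1) with hh
  have h2h : (2 : ℤ) ^ n = 2 * h := by rw [hh, ← pow_succ']; congr 1; omega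
  -- powers commuting with `x` are `1` or the involution
  have hxsq : x ^ 2 = 1 ∨ x ^ 2 = a ^ h := by
    obtain ⟨j, hj⟩ := Subgroup.mem_zpowers_iff.mp hxp
    have h1 : x * a ^ j * x⁻¹ = a ^ j := by rw [hj]; group
    rw [← conj_zpow, hr, ← zpow_mul] at h1
    have h2 := heq.mp h1
    rw [show r * j - j = (r - 1) * j by ring] at h2
    obtain ⟨u, hu⟩ := (hneg hxA hxp hr).2
    have hcop : IsCoprime (2 : ℤ) (2 * u - 1) := ⟨u, -1, by ring⟩
    have h3 : h ∣ j := by
      rw [h2h, show r - 1 = 2 * (2 * u - 1) by linarith, mul_assoc] at h2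
      exact (hcop.pow_left : IsCoprime ((2 : ℤ) ^ (n - 1)) (2 * u - 1)).dvd_of_dvd_mul_left
        (Int.dvd_of_mul_dvd_mul_left (by norm_num) h2)
    obtain ⟨c, rfl⟩ := h3
    rcases Int.even_or_odd c with ⟨m, rfl⟩ | ⟨m, rfl⟩
    · left
      rw [← hj, ← zpow_zero a]
      exact heq.mpr ⟨m, by rw [h2h]; ring⟩
    · right
      rw [← hj]
      exact heq.mpr ⟨m, by rw [h2h]; ring⟩
  have hhcast : ((2 ^ (n - 1) : ℕ) : ℤ) = h := by rw [hh]; push_cast; rfl
  obtain ⟨c, hc⟩ := (hneg hxA hxp hr).1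
  rcases Int.even_or_odd c with ⟨m, hm'⟩ | ⟨m, hm'⟩
  · -- inversion
    have hinv : x * a * x⁻¹ = a⁻¹ := by
      rw [hr, ← zpow_neg_one]
      exact heq.mpr ⟨m, by rw [h2h, sub_neg_eq_add, hc, hm']; ring⟩
    rcases hxsq with hx2 | hx2
    · -- dihedral
      rcases Nat.lt_or_ge n 3 with hn3 | hn3
      · -- `n = 2`: the four-group `⟨x, a²⟩` is normal abelian
        exfalso
        obtain rfl : n = 2 := by omega
        have ha4 : a ^ 4 = 1 := by
          have := pow_orderOf_eq_one a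
          rw [ha] at this; simpa using this
        have hxa2 : Commute x (a ^ 2) := by
          have h1 : x * a ^ 2 * x⁻¹ = a ^ 2 := by
            rw [← conj_pow, hinv, inv_pow, inv_eq_iff_mul_eq_one, ← pow_add]; exact ha4
          exact mul_inv_eq_iff_eq_mul.mp h1
        have ha2 : (a ^ 2) ^ 2 = 1 := by rw [← pow_mul]; exact ha4
        have ha2A : a ^ 2 ∈ Subgroup.zpowers a := pow_mem (Subgroup.mem_zpowers a) 2
        set V := Subgroup.zpowers x ⊔ Subgroup.zpowers (a ^ 2) with hV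
        have hVsq : ∀ v ∈ V, v ^ 2 = 1 ∧ ∀ w ∈ V, v * w = w * v := by
          have hVc : IsMulCommutative V := by
            have := Cfsg.Agent.Lib.PGroups.isMulCommutative_sup_zpowers
              (A := Subgroup.zpowers x) (x := a ^ 2) inferInstance
              (Subgroup.mem_centralizer_iff.mpr fun b hb => by
                obtain ⟨j, rfl⟩ := Subgroup.mem_zpowers_iff.mp hb
                exact (hxa2.zpow_left j).eq)
            exact this
          have hle : V ≤ Subgroup.closure ({x, a ^ 2} : Set P) :=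
            sup_le (Subgroup.zpowers_le.mpr (Subgroup.subset_closure (by simp)))
              (Subgroup.zpowers_le.mpr (Subgroup.subset_closure (by simp)))
          intro v hv
          refine ⟨?_, fun w hw =>
            congrArg Subtype.val (isMulCommutative_iff.mp hVc ⟨v, hv⟩ ⟨w, hw⟩)⟩
          have hvc := hle hv
          clear hv
          induction hvc using Subgroup.closure_induction with
          | mem y hy =>
            rcases hy with rfl | hy
            · exact hx2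
            · rw [Set.mem_singleton_iff.mp hy]; exact ha2
          | one => simp
          | mul y z hy hz ihy ihz =>
            have hle' : Subgroup.closure ({x, a ^ 2} : Set P) ≤ V := by
              rw [Subgroup.closure_le]
              rintro y (rfl | rfl)
              · exact Subgroup.mem_sup_left (Subgroup.mem_zpowers x)
              · exact Subgroup.mem_sup_right (Subgroup.mem_zpowers _)
            have hyz : Commute y z := congrArg Subtype.val
              (isMulCommutative_iff.mp hVc ⟨y, hle' hy⟩ ⟨z, hle' hz⟩)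
            rw [hyz.mul_pow, ihy, ihz, one_mul]
          | inv y _ ihy => rw [inv_pow, ihy, inv_one]
        have hVidx : V.index = 2 := by
          have h1 : 1 < Nat.card V := by
            haveI : Nontrivial V := ⟨⟨⟨x, Subgroup.mem_sup_left (Subgroup.mem_zpowers x)⟩, 1,
              fun h => hxA (by rw [show x = 1 from congrArg Subtype.val h]; exact one_mem _)⟩⟩
            exact Finite.one_lt_card
          have hxV : x ∈ V := Subgroup.mem_sup_left (Subgroup.mem_zpowers x)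
          have ha21 : a ^ 2 ≠ 1 := fun h => by
            have := orderOf_dvd_of_pow_eq_one h; rw [ha] at this; norm_num at this
          have h4 : Nat.card V ≠ 2 := by
            intro h2
            haveI := Fintype.ofFinite V
            have huniv : ∀ v : V, v = 1 ∨ v = ⟨x, hxV⟩ := by
              intro v
              by_contra hcon
              push Not at hcon
              have hx1 : (⟨x, hxV⟩ : V) ≠ 1 := fun h =>
                hxA (by rw [show x = 1 from congrArg Subtype.val h]; exact one_mem _)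
              have : ({1, v, ⟨x, hxV⟩} : Finset V).card ≤ 2 :=
                (Finset.card_le_univ _).trans_eq (by rw [← Nat.card_eq_fintype_card, h2])
              rw [Finset.card_insert_of_notMem (by simp [hx1.symm, hcon.1.symm]),
                Finset.card_insert_of_notMem (by simp [hcon.2]), Finset.card_singleton] at this
              omega
            rcases huniv ⟨a ^ 2, Subgroup.mem_sup_right (Subgroup.mem_zpowers _)⟩ with h | h
            · exact ha21 (congrArg Subtype.val h)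
            · exact hxA (by rw [← show a ^ 2 = x from congrArg Subtype.val h]; exact ha2A)
          have h8 : Nat.card V ≠ 8 := by
            intro h8
            have : a ∈ V := by
              rw [Subgroup.eq_top_of_card_eq V (by rw [h8, hcardP]; norm_num)]; trivial
            have := orderOf_dvd_of_pow_eq_one (hVsq a this).1
            rw [ha] at this; norm_num at this
          have hmul := V.card_mul_index
          have hd : Nat.card V ∣ 8 := ⟨_, by rw [hmul, hcardP]; norm_num⟩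
          have hle : Nat.card V ≤ 8 := Nat.le_of_dvd (by norm_num) hd
          rw [hcardP, show (2 : ℕ) * 2 ^ 2 = 8 by norm_num] at hmul
          interval_cases hcV : Nat.card V <;> omega
        have hVn : V.Normal := Subgroup.normal_of_index_eq_two hVidx
        have hVcyc := hn V hVn (IsMulCommutative.of_comm fun v w =>
          Subtype.ext ((hVsq v v.2).2 w w.2))
        obtain ⟨v, hv⟩ := hVcyc.exists_generator
        have hle : Nat.card V ≤ 2 := by
          rw [← orderOf_eq_card_of_forall_mem_zpowers hv]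
          exact orderOf_le_of_pow_eq_one (by norm_num) (Subtype.ext (hVsq v v.2).1)
        have := V.card_mul_index
        rw [hVidx, hcardP] at this
        norm_num at this
        omega
      · exact Or.inr (Or.inl ⟨2 ^ n, le_trans (by norm_num : (8 : ℕ) ≤ 2 ^ 3)
          (Nat.pow_le_pow_right (by norm_num) hn3),
          Cfsg.Agent.Lib.PGroups.nonempty_dihedral_equiv ha hx2 hinv hxA hcardP⟩)
    · -- quaternion
      haveI : NeZero (2 ^ (n - 1) : ℕ) := ⟨pow_ne_zero _ (by norm_num)⟩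
      have e : (2 : ℕ) ^ n = 2 * 2 ^ (n - 1) := by rw [← pow_succ']; congr 1; omega
      refine Or.inl ⟨2 ^ (n - 1), Cfsg.Agent.Lib.PGroups.nonempty_quaternion_equiv
        (ha.trans e) ?_ hinv hxA ?_⟩
      · rw [hx2, ← hhcast, zpow_natCast]
      · rw [hcardP, e]; ring
  · -- semidihedral
    rcases Nat.lt_or_ge n 3 with hn3 | hn3
    · exfalso
      obtain rfl : n = 2 := by omega
      obtain ⟨u, hu⟩ := (hneg hxA hxp hr).2
      rw [hh, hm'] at hc
      norm_num at hc
      omega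
    right; right
    have hsd : x * a * x⁻¹ = a ^ (2 ^ (n - 1) - 1 : ℕ) := by
      rw [hr, ← zpow_natCast, Nat.cast_sub (Nat.one_le_two_pow), hhcast, Nat.cast_one]
      exact heq.mpr ⟨m, by rw [h2h, show r - (h - 1) = (r + 1) - h by ring, hc, hm']; ring⟩
    have hne1 : ∀ y : P, y ∉ Subgroup.zpowers a → y ^ 2 = 1 → orderOf y = 2 := fun y hy hy2 =>
      orderOf_eq_prime hy2 fun h => hy (h ▸ one_mem _)
    refine ⟨n, hn3, by rw [hcardP, pow_succ'], a, ?_⟩
    rcases hxsq with hx2 | hx2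
    · exact ⟨x, ha, hne1 x hxA hx2, hsd⟩
    · refine ⟨a * x, ha, hne1 _ (fun hax => hxA ?_) ?_, ?_⟩
      · simpa using mul_mem (inv_mem (Subgroup.mem_zpowers a)) hax
      · calc (a * x) ^ 2 = a * (x * a * x⁻¹) * x ^ 2 := by rw [pow_two, pow_two]; group
          _ = a ^ (1 : ℤ) * a ^ r * a ^ h := by rw [zpow_one, hr, hx2]
          _ = 1 := by
            rw [← zpow_add, ← zpow_add, ← zpow_zero a]
            exact heq.mpr ⟨m + 1, by rw [h2h, show 1 + r + h - 0 = (r + 1) + h by ring, hc, hm']; ring⟩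
      · calc a * x * a * (a * x)⁻¹ = a * (x * a * x⁻¹) * a⁻¹ := by group
          _ = a ^ (2 ^ (n - 1) - 1 : ℕ) := by
            rw [hsd, ← pow_succ', pow_succ, mul_inv_cancel_right]

end Cfsg.Agent.S0519
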