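import Cfsg.Statements.S0029
import Mathlib

set_option autoImplicit false
open Cfsg

namespace Cfsg.Agent.S0029

/-- An action that is trivial on the Frattini quotient and coprime on the Frattini subgroup is trivial: if A normalises K, the orders of A and of the Frattini subgroup of K are coprime, and every commutator of an element of A with an element of K lies in the Frattini subgroup of K, then A centralises K. -/
theorem result {G : Type*} [Group G] [Finite G] (A K : Subgroup G)
    (hAK : A ≤ Subgroup.normalizer (K : Set G))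
    (hcop : (Nat.card A).Coprime (Nat.card (frattini K)))
    (htriv : ∀ a ∈ A, ∀ k ∈ K, a * k * a⁻¹ * k⁻¹ ∈ (frattini K).map K.subtype) :
    A ≤ Subgroup.centralizer (K : Set G) := by
  classical
  set Φ := (frattini K).map K.subtype with hΦ
  have key : ∀ (q : ℕ), q.Prime → ∀ Q : Subgroup G, Q ≤ A → IsPGroup q Q →
      Q ≤ Subgroup.centralizer (K : Set G) := by
    intro q hq Q hQA hQ a ha
    haveI : Fact q.Prime := ⟨hq⟩
    by_cases hq1 : Q = ⊥
    · rw [hq1, Subgroup.mem_bot] at ha
      rw [ha]; exact one_mem _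
    have hqΦ : ¬ q ∣ Nat.card (frattini K) := by
      intro h
      obtain ⟨n, hn⟩ := IsPGroup.iff_card.1 hQ
      have hd : q ∣ Nat.card A := by
        refine dvd_trans ?_ (Subgroup.card_dvd_of_le hQA)
        rw [hn]
        refine dvd_pow_self q fun h0 => hq1 (Subgroup.eq_bot_of_card_eq Q ?_)
        rw [hn, h0, pow_zero]
      exact hq.not_dvd_one (hcop.gcd_eq_one ▸ Nat.dvd_gcd hd h)
    have hQK : ∀ x ∈ Q, ∀ k ∈ K, x * k * x⁻¹ ∈ K := fun x hx k hk =>
      (Subgroup.mem_normalizer_iff.1 (hAK (hQA hx)) k).1 hk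
    let C : Subgroup K :=
      { carrier := {k | ∀ x ∈ Q, x * (k : G) = (k : G) * x}
        one_mem' := fun x _ => by simp
        mul_mem' := fun {k l} hk hl x hx => by
          rw [Subgroup.coe_mul, ← mul_assoc, hk x hx, mul_assoc, hl x hx, mul_assoc]
        inv_mem' := fun {k} hk x hx => by
          rw [Subgroup.coe_inv]; exact ((show Commute x (k : G) from hk x hx).inv_right).eq }
    have hC : C ⊔ frattini K = ⊤ := by
      rw [eq_top_iff]
      intro k _
      have hfix : ∀ x ∈ Q, ∀ f : frattini K, (k : G)⁻¹ * (x * ((k : G) * (f : K)) * x⁻¹) ∈ Φ := by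
        intro x hx f
        have h1 : x * ((f : K) : G) * x⁻¹ * ((f : K) : G)⁻¹ ∈ Φ := htriv x (hQA hx) _ (f : K).2
        have h2 : x * (k : G) * x⁻¹ * (k : G)⁻¹ ∈ Φ := htriv x (hQA hx) _ k.2
        have h3 : (k : G)⁻¹ * (x * (k : G) * x⁻¹ * (k : G)⁻¹) * (k : G) ∈ Φ := by
          obtain ⟨y, hy, hy'⟩ := h2
          exact ⟨k⁻¹ * y * k⁻¹⁻¹, (inferInstance : (frattini K).Normal).conj_mem y hy _, by
            rw [← hy']; simp⟩
        have h4 := Φ.mul_mem h3 (Φ.mul_mem h1 ⟨f, f.2, rfl⟩)
        have : (k : G)⁻¹ * (x * ((k : G) * (f : K)) * x⁻¹) =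
          (k : G)⁻¹ * (x * (k : G) * x⁻¹ * (k : G)⁻¹) * (k : G) *
            (x * ((f : K) : G) * x⁻¹ * ((f : K) : G)⁻¹ * K.subtype f) := by
          simp [mul_assoc]
        rwa [this]
      let act : Q → frattini K → frattini K := fun x f =>
        ⟨(⟨(k : G)⁻¹ * ((x : G) * ((k : G) * (f : K)) * (x : G)⁻¹),
          Subgroup.map_subtype_le _ (hfix x x.2 f)⟩ : K), by
          obtain ⟨y, hy, hy'⟩ := hfix x x.2 f
          rwa [show (⟨_, Subgroup.map_subtype_le _ (hfix x x.2 f)⟩ : K) = y from Subtype.ext hy'.symm]⟩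
      letI : MulAction Q (frattini K) :=
        { smul := act
          one_smul := fun f => Subtype.ext (Subtype.ext (by
            show (k : G)⁻¹ * ((1 : G) * ((k : G) * (f : K)) * (1 : G)⁻¹) = _
            simp))
          mul_smul := fun x y f => Subtype.ext (Subtype.ext (by
            show (k : G)⁻¹ * (((x : G) * y) * ((k : G) * (f : K)) * ((x : G) * y)⁻¹) =
              (k : G)⁻¹ * ((x : G) * ((k : G) * ((k : G)⁻¹ * ((y : G) * ((k : G) * (f : K)) *
                (y : G)⁻¹))) * (x : G)⁻¹)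
            simp [mul_assoc])) }
      obtain ⟨f, hf⟩ := hQ.nonempty_fixed_point_of_prime_not_dvd_card (frattini K) hqΦ
      have hmem : k * (f : K) ∈ C := by
        intro x hx
        have h1 : (k : G)⁻¹ * (x * ((k : G) * (f : K)) * x⁻¹) = ((f : K) : G) :=
          congrArg (fun z : frattini K => ((z : K) : G)) (hf ⟨x, hx⟩)
        rw [inv_mul_eq_iff_eq_mul, mul_inv_eq_iff_eq_mul] at h1
        exact h1
      have := Subgroup.mul_mem (C ⊔ frattini K) (le_sup_left (b := frattini K) hmem)
        (le_sup_right (a := C) ((frattini K).inv_mem f.2))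
      simpa using this
    rw [Subgroup.mem_centralizer_iff]
    intro k hk
    have hCt : C = ⊤ := frattini_nongenerating hC
    exact ((hCt ▸ Subgroup.mem_top (⟨k, hk⟩ : K) : (⟨k, hk⟩ : K) ∈ C) a ha).symm
  intro a ha
  have htop : ((Subgroup.centralizer (K : Set G)).subgroupOf A).index = 1 := by
    refine Nat.eq_one_iff_not_exists_prime_dvd.2 fun q hq hd => ?_
    haveI : Fact q.Prime := ⟨hq⟩
    obtain ⟨S⟩ : Nonempty (Sylow q A) := inferInstance
    refine S.not_dvd_index (hd.trans (Subgroup.index_dvd_of_le ?_))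
    intro s hs
    exact key q hq ((S : Subgroup A).map A.subtype) (Subgroup.map_subtype_le _) (S.isPGroup'.map _)
      ⟨s, hs, rfl⟩
  exact (Subgroup.subgroupOf_eq_top.1 (Subgroup.index_eq_one.1 htop)) ha

end Cfsg.Agent.S0029
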