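import Cfsg.Statements.S4364
import Cfsg.Agent.Lib.PrimePowerClass.Basic

set_option autoImplicit false
set_option linter.style.haveILetI false
open Cfsg

namespace Cfsg.Agent.S4364

open Subgroup
open Cfsg.Agent.Lib.PrimePowerClass.Radical

/-- With trivial `O_p`, conjugates of an element with `p`-power class size commute. -/
theorem commute_conj {G : Type*} [Group G] [Finite G] (p : ℕ) [Fact p.Prime]
    (hO : Cfsg.pCore p G = ⊥) (x : G) {a : ℕ}
    (hx : (centralizer ({x} : Set G)).index = p ^ a) (g h : G) :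
    Commute (g * x * g⁻¹) (h * x * h⁻¹) := by
  have hR := Cfsg.Agent.Lib.PrimePowerClass.Basic.mem_solRad (Fact.out : p.Prime) x hx
  haveI : Group.IsSolvable (solRad G) := solRad_isSolvable
  have hcent : Cfsg.fittingSubgroup G ≤ centralizer ({x} : Set G) := by
    rw [Cfsg.Agent.Lib.Cores.fittingSubgroup_eq_iSup_pCore]
    refine iSup_le fun r => ?_
    haveI : Fact (r : ℕ).Prime := ⟨r.2⟩
    by_cases hr : (r : ℕ) = p
    · rw [hr, hO]; exact bot_le
    · obtain ⟨Q, hQ⟩ := Cfsg.Agent.Lib.SylowNumbers.Basic.exists_sylow_le (p := (r : ℕ))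
        (centralizer ({x} : Set G)) (fun hd => hr ((Nat.prime_dvd_prime_iff_eq r.2 Fact.out).mp
          (r.2.dvd_of_dvd_pow (hx ▸ hd))))
      exact (Cfsg.Agent.Lib.Cores.pCore_le_sylow Q).trans hQ
  have hFmap := Cfsg.Agent.Lib.Cores.map_subtype_fittingSubgroup (solRad G)
  have hxF : x ∈ Cfsg.fittingSubgroup G := by
    have h1 : (⟨x, hR⟩ : solRad G) ∈ centralizer (Cfsg.fittingSubgroup (solRad G) : Set (solRad G)) := by
      rw [mem_centralizer_iff]
      intro y hy
      have hy' : (y : G) ∈ Cfsg.fittingSubgroup G :=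
        (hFmap.le (Subgroup.mem_map_of_mem _ hy)).2
      exact Subtype.ext (mem_centralizer_singleton_iff.mp (hcent hy'))
    have h2 := Subgroup.mem_map_of_mem (solRad G).subtype
      (Cfsg.Agent.Lib.Cores.centralizer_fittingSubgroup_le h1)
    exact (hFmap.le h2).2
  haveI : (Cfsg.fittingSubgroup G).Normal := Subgroup.sSup_normal _ (fun _ hN => hN.1)
  have h1 : h⁻¹ * (g * x * g⁻¹) * h ∈ centralizer ({x} : Set G) :=
    hcent ((inferInstance : (Cfsg.fittingSubgroup G).Normal).conj_mem'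
      _ ((inferInstance : (Cfsg.fittingSubgroup G).Normal).conj_mem x hxF g) h)
  have h2 := mem_centralizer_singleton_iff.mp h1
  calc (g * x * g⁻¹) * (h * x * h⁻¹) = h * ((h⁻¹ * (g * x * g⁻¹) * h) * x) * h⁻¹ := by group
    _ = h * (x * (h⁻¹ * (g * x * g⁻¹) * h)) * h⁻¹ := by rw [h2]
    _ = (h * x * h⁻¹) * (g * x * g⁻¹) := by group

/-- Let G be a finite group, p a prime and x an element whose conjugacy class has p-power size. Then for any two conjugates y and z of x, the commutator y z y⁻¹ z⁻¹ lies in O_p(G), the largest normal p-subgroup of G. -/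
theorem result {G : Type*} [Group G] [Finite G] (p : ℕ) [Fact p.Prime]
    (x : G) (hx : ∃ a : ℕ, (Subgroup.centralizer ({x} : Set G)).index = p ^ a) (g h : G) :
    (g * x * g⁻¹) * (h * x * h⁻¹) * (g * x * g⁻¹)⁻¹ * (h * x * h⁻¹)⁻¹ ∈ Cfsg.pCore p G := by
  obtain ⟨a, ha⟩ := hx
  haveI : (Cfsg.pCore p G).Normal := Subgroup.sSup_normal _ (fun _ hN => hN.1)
  set f := QuotientGroup.mk' (Cfsg.pCore p G)
  have hdvd : (Subgroup.centralizer ({f x} : Set (G ⧸ Cfsg.pCore p G))).index ∣ p ^ a := by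
    rw [← ha]
    refine dvd_trans (Subgroup.index_dvd_of_le ?_) (Subgroup.index_map_dvd
      (H := Subgroup.centralizer ({x} : Set G)) (f := f) (QuotientGroup.mk'_surjective _))
    rintro z ⟨c, hc, rfl⟩
    rw [SetLike.mem_coe, Subgroup.mem_centralizer_singleton_iff] at hc
    rw [Subgroup.mem_centralizer_singleton_iff, ← map_mul, ← map_mul, hc]
  obtain ⟨a', -, ha'⟩ := (Nat.dvd_prime_pow Fact.out).mp hdvd
  have hcomm := commute_conj p (Cfsg.Agent.Lib.Cores.pCore_quotient_pCore p) (f x) ha' (f g) (f h)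
  rw [← QuotientGroup.ker_mk' (Cfsg.pCore p G), MonoidHom.mem_ker]
  change f _ = 1
  simp only [map_mul, map_inv]
  rw [hcomm.eq]
  group

end Cfsg.Agent.S4364
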