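import Cfsg.Statements.S3862
import Cfsg.Agent.Lib.Transfer.Frobenius

set_option autoImplicit false
open Cfsg

namespace Cfsg.Agent.S3862

/-- If every 2-element of the finite group G that is conjugate to its inverse lies in the centre of G, then G has a normal 2-complement. -/
theorem result {G : Type*} [Group G] [Finite G] (h : ∀ x : G, (∃ j : ℕ, orderOf x = 2 ^ j) → IsConj x x⁻¹ → x ∈ Subgroup.center G) : Cfsg.HasNormalPComplement 2 G := by
  have : Fact (Nat.Prime 2) := ⟨Nat.prime_two⟩
  refine Cfsg.Agent.Lib.Transfer.Frobenius.hasNormalPComplement_of_forall_centralizes fun Q hQ _ y hy hyo => ?_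
  have key : ∀ (j : ℕ) (x : G), x ∈ Q → x ^ 2 ^ j = 1 → y * x = x * y := by
    intro j
    induction j with
    | zero => intro x _ hx; rw [pow_zero, pow_one] at hx; rw [hx, mul_one, one_mul]
    | succ j ih =>
      intro x hx hxj
      have h2 : y * x ^ 2 = x ^ 2 * y :=
        ih _ (pow_mem hx 2) (by rw [← pow_mul, ← pow_succ']; exact hxj)
      set x' := y * x * y⁻¹ with hx'
      have hx'Q : x' ∈ Q := (Subgroup.mem_normalizer_iff.1 hy x).1 hx
      have hsq : x' * x' = x * x := by
        rw [hx', show y * x * y⁻¹ * (y * x * y⁻¹) = y * x ^ 2 * y⁻¹ by rw [sq]; group, h2, mul_inv_cancel_right, sq]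
      set w := x⁻¹ * x' with hw
      obtain ⟨i, hi⟩ := IsPGroup.iff_orderOf.1 hQ ⟨w, mul_mem (inv_mem hx) hx'Q⟩
      rw [Subgroup.orderOf_mk] at hi
      have hreal : IsConj w w⁻¹ := isConj_iff.2 ⟨x, by
        rw [hw]
        calc x * (x⁻¹ * x') * x⁻¹ = x'⁻¹ * (x' * x') * x⁻¹ := by group
          _ = x'⁻¹ * (x * x) * x⁻¹ := by rw [hsq]
          _ = (x⁻¹ * x')⁻¹ := by group⟩
      have hc := Subgroup.mem_center_iff.1 (h w ⟨i, hi⟩ hreal)
      have hconj : ∀ n : ℕ, y ^ n * x * (y ^ n)⁻¹ = x * w ^ n := by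
        intro n
        induction n with
        | zero => simp
        | succ n ihn =>
          rw [pow_succ' y, show y * y ^ n * x * (y * y ^ n)⁻¹ = y * (y ^ n * x * (y ^ n)⁻¹) * y⁻¹ by group, ihn]
          have hcn : Commute y (w ^ n) := Commute.pow_right (hc y) n
          calc y * (x * w ^ n) * y⁻¹ = y * x * y⁻¹ * (y * w ^ n * y⁻¹) := by group
            _ = x * w * w ^ n := by rw [hcn.eq, mul_inv_cancel_right, ← hx', hw, mul_inv_cancel_left]
            _ = x * w ^ (n + 1) := by rw [pow_succ', mul_assoc]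
      have h1 := hconj (orderOf y)
      rw [pow_orderOf_eq_one, one_mul, inv_one, mul_one] at h1
      have hw1 : w = 1 := by
        rw [← orderOf_eq_one_iff]
        refine Nat.eq_one_of_dvd_coprimes hyo (orderOf_dvd_of_pow_eq_one (mul_eq_left.1 h1.symm)) ?_
        have hdvd : orderOf w ∣ 2 := by
          rcases Nat.eq_zero_or_pos i with rfl | hi0
          · rw [hi, pow_zero]; exact one_dvd 2
          · exfalso
            have h2i : 2 ∣ orderOf y := (hi ▸ dvd_pow_self 2 hi0.ne').trans
              (orderOf_dvd_of_pow_eq_one (mul_eq_left.1 h1.symm))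
            exact (Nat.Prime.coprime_iff_not_dvd Nat.prime_two).1 hyo.symm h2i
        exact hdvd
      rw [hw, inv_mul_eq_one] at hw1
      exact (mul_inv_eq_iff_eq_mul.1 (hx'.symm.trans hw1.symm))
  rw [Subgroup.mem_centralizer_iff]
  intro x hx
  obtain ⟨j, hj⟩ := hQ ⟨x, hx⟩
  exact (key j x hx (congrArg Subtype.val hj)).symm

end Cfsg.Agent.S3862
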