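import Cfsg.Statements.S0071
import Cfsg.Agent.Lib.Transfer.Frobenius

set_option autoImplicit false
open Cfsg

namespace Cfsg.Agent.S0071

/-- The Frobenius normal p-complement Theorem states that a Sylow p-subgroup has a normal complement exactly when, for each of its subgroups Q, every element of the normalizer of Q of order prime to p centralizes Q. -/
theorem result {G : Type*} [Group G] [Finite G] {p : ℕ} [Fact p.Prime] (P : Sylow p G) : (∃ N : Subgroup G, N.Normal ∧ N.IsComplement' (P : Subgroup G)) ↔ ∀ Q : Subgroup G, Q ≤ (P : Subgroup G) → ∀ g ∈ Subgroup.normalizer (Q : Set G), Nat.Coprime (orderOf g) p → g ∈ Subgroup.centralizer (Q : Set G) := by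
  constructor
  · rintro ⟨N, hN, hc⟩ Q hQ g hg hgp
    exact Lib.Transfer.Frobenius.mem_centralizer_of_hasNormalPComplement ⟨P, N, hN, hc⟩
      (P.2.to_le hQ) hg hgp
  · intro h
    rw [← Lib.Transfer.PResidual.hasNormalPComplement_iff_exists P]
    refine Lib.Transfer.Frobenius.hasNormalPComplement_of_forall_centralizes ?_
    intro Q hQ _ g hg hgp
    obtain ⟨S, hS⟩ := hQ.exists_le_sylow
    obtain ⟨c, rfl⟩ := MulAction.exists_smul_eq G P S
    have hmem : ∀ q ∈ Q, c⁻¹ * q * c ∈ (P : Subgroup G) := by
      intro q hq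
      have := hS hq
      rw [Sylow.coe_subgroup_smul, Subgroup.mem_pointwise_smul_iff_inv_smul_mem] at this
      simp only [← map_inv, MulAut.smul_def, MulAut.conj_apply, inv_inv] at this
      exact this
    set R := Q.map (MulAut.conj c⁻¹).toMonoidHom with hR
    have hRle : R ≤ (P : Subgroup G) := by
      rintro _ ⟨q, hq, rfl⟩
      simpa using hmem q hq
    have hg' : c⁻¹ * g * c ∈ Subgroup.normalizer (R : Set G) := by
      have := Subgroup.le_normalizer_map (H := Q) (MulAut.conj c⁻¹).toMonoidHom ⟨g, hg, rfl⟩
      simp only [MulEquiv.toMonoidHom_eq_coe, MonoidHom.coe_coe, MulAut.conj_apply, inv_inv] at this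
      exact this
    have ho : Nat.Coprime (orderOf (c⁻¹ * g * c)) p := by
      have : orderOf (MulAut.conj c⁻¹ g) = orderOf g := MulEquiv.orderOf_eq _ g
      simp only [MulAut.conj_apply, inv_inv] at this
      rwa [this]
    have hcent := h R hRle _ hg' ho
    rw [Subgroup.mem_centralizer_iff] at hcent ⊢
    intro q hq
    have := hcent (c⁻¹ * q * c) ⟨q, hq, by simp⟩
    have h2 := congrArg (fun t => c * t * c⁻¹) this
    simpa [mul_assoc] using h2

end Cfsg.Agent.S0071
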