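import Cfsg.Statements.S0042
import Cfsg.Agent.Lib.Induced.FrobeniusKernel
import Cfsg.Agent.Lib.Frobenius.Nilpotent
-- import your own Cfsg.Agent.* helpers here

set_option autoImplicit false
open Cfsg

namespace Cfsg.Agent.S0042

/-- In a finite Frobenius group, the Frobenius kernel is (the carrier of) a normal subgroup which is nilpotent. -/
theorem result {G : Type*} [Group G] [Finite G] (H : Subgroup G) (hH : Cfsg.IsFrobeniusComplement H) :
    ∃ N : Subgroup G, (N : Set G) = Cfsg.frobeniusKernel H ∧ N.Normal ∧ Group.IsNilpotent N := by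
  obtain ⟨N, hNn, hNe, hc⟩ :=
    Lib.Induced.FrobeniusKernel.exists_frobeniusKernel_subgroup hH
  refine ⟨N, hNe, hNn, ?_⟩
  have h2 : 2 ≤ Nat.card H := Lib.Frobenius.two_le_card hH
  obtain ⟨r, hr, hrd⟩ := Nat.exists_prime_and_dvd (n := Nat.card H) (by omega)
  have := Fact.mk hr
  obtain ⟨h, hh⟩ := exists_prime_orderOf_dvd_card' r hrd
  have hh1 : (h : G) ≠ 1 := by
    intro e
    rw [← Subgroup.orderOf_coe, e, orderOf_one] at hh
    exact hr.ne_one hh.symm
  let φ : N ≃* N := MulAut.conjNormal (h : G)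
  refine Lib.Frobenius.Nilpotent.isNilpotent_of_fixedPointFree hr φ ?_ ?_
  · intro x hx
    have h1 : (h : G) * (x : G) * (h : G)⁻¹ = x := by
      rw [← MulAut.conjNormal_apply]; exact congrArg Subtype.val hx
    have h2 : (x : G) ∈ H := Lib.Frobenius.mem_of_commute hH h.2 hh1 (mul_inv_eq_iff_eq_mul.mp h1)
    have h3 : (x : G) ∈ N ⊓ H := ⟨x.2, h2⟩
    rw [hc.disjoint.eq_bot, Subgroup.mem_bot] at h3
    exact Subtype.ext h3
  · intro x
    have key : ∀ n : ℕ, (((⇑φ)^[n] x : N) : G) = (h : G) ^ n * x * ((h : G) ^ n)⁻¹ := by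
      intro n
      induction n with
      | zero => simp
      | succ n ih =>
        rw [Function.iterate_succ_apply', MulAut.conjNormal_apply, ih, pow_succ']
        group
    refine Subtype.ext ?_
    rw [key, ← hh, ← Subgroup.orderOf_coe, pow_orderOf_eq_one]
    simp

end Cfsg.Agent.S0042
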