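import Cfsg.Statements.S4504
import Cfsg.Agent.Lib.SmallRep.Reduction

set_option autoImplicit false
open Cfsg

namespace Cfsg.Agent.S4504

/-- Let G be a finite group whose order is divisible by the prime p exactly once and which has no normal subgroup of order p. If G has a faithful character of degree exactly (p − 1)/2, then G modulo its centre is isomorphic to PSL(2, p). -/
theorem result {G : Type*} [Group G] [Finite G] (p : ℕ) (hp : p.Prime) (hdiv : p ∣ Nat.card G) (hsq : ¬ p ^ 2 ∣ Nat.card G) (hnn : ∀ H : Subgroup G, H.Normal → Nat.card H ≠ p) (χ : G → ℂ) (hχ : Cfsg.IsCharacter G χ) (hfaith : ∀ g : G, χ g = χ 1 → g = 1) (hdeg : 2 * Cfsg.charDegree χ + 1 = p) : Nonempty ((G ⧸ Subgroup.center G) ≃* Matrix.ProjectiveSpecialLinearGroup (Fin 2) (ZMod p)) := by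
  haveI : Fact p.Prime := ⟨hp⟩
  obtain ⟨n, hn⟩ := Cfsg.Agent.Lib.Characters.Basic.exists_degree hχ
  have hd : Cfsg.charDegree χ = n := by rw [Cfsg.charDegree, hn]; simp
  rw [hd] at hdeg
  obtain ⟨x, hx⟩ := exists_prime_orderOf_dvd_card' p hdiv
  by_cases hp5 : 5 ≤ p
  · exact Cfsg.Agent.Lib.SmallRep.Reduction.main hp5 hx hsq hnn hχ hfaith hn hdeg
  exfalso
  have hn1 : n = 1 := by
    have := hp.two_le
    omega
  have h1 : χ 1 = 1 := by rw [hn, hn1, Nat.cast_one]
  let F := Cfsg.Agent.Lib.Characters.Linear.degOneHom hχ h1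
  have hF : ∀ g, F g = 1 → g = 1 := fun g hg => hfaith g (by
    rw [h1, ← Cfsg.Agent.Lib.Characters.Linear.degOneHom_apply hχ h1]
    exact (congrArg Units.val hg).trans Units.val_one)
  have hcomm : ∀ a b : G, a * b = b * a := fun a b => by
    refine mul_inv_eq_one.1 (hF _ ?_)
    rw [map_mul, map_inv, map_mul, map_mul, mul_comm (F a), mul_inv_cancel]
  refine hnn (Subgroup.zpowers x) ⟨fun k hk g => ?_⟩ (by rw [Nat.card_zpowers, hx])
  rwa [hcomm g k, mul_inv_cancel_right]

end Cfsg.Agent.S4504
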