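import Cfsg.Statements.S0617
import Cfsg.Agent.Lib.PLocal.OffenderStructure
-- import your own Cfsg.Agent.* helpers here

set_option autoImplicit false
open Cfsg

namespace Cfsg.Agent.S0617

/-- Structure Theorem for failure of factorization: a faithful group generated by best offenders, with self-centralizing p'-core, is a direct product of copies of SL(2, p) (p = 2 or 3), each acting on its own plane in V, which is the direct product of these planes and C_V(H). -/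
theorem result {G : Type*} [Group G] [Finite G] {p : ℕ} [Fact p.Prime] (V H : Subgroup G) (hV : Cfsg.IsElementaryAbelian p V) (hHV : H ≤ Subgroup.normalizer (V : Set G)) (hf : H ⊓ Subgroup.centralizer (V : Set G) = ⊥) (hS1 : Subgroup.centralizer (Cfsg.pPrimeCore p ↥H : Set ↥H) ≤ Cfsg.pPrimeCore p ↥H) (hS3 : H = ⨆ A : {A : Subgroup G // A ≤ H ∧ Cfsg.IsBestOffenderOn p V A}, (A : Subgroup G)) (hH1 : H ≠ ⊥) : (p = 2 ∨ p = 3) ∧ (∀ E : {E : Subgroup G // ∃ A : Subgroup G, A ≤ H ∧ Cfsg.IsBestOffenderOn p V A ∧ ⁅V, A⁆ ≠ ⊥ ∧ (∀ B : Subgroup G, B ≤ A → Cfsg.IsBestOffenderOn p V B → ⁅V, B⁆ ≠ ⊥ → B = A) ∧ E = ⁅((Cfsg.pPrimeCore p ↥H).map H.subtype), A⁆ ⊔ A}, H ≤ Subgroup.normalizer ((E : Subgroup G) : Set G) ∧ Nonempty (↥(E : Subgroup G) ≃* Matrix.SpecialLinearGroup (Fin 2) (ZMod p)) ∧ Nat.card ↥(⁅V, (E : Subgroup G)⁆) = p ^ 2) ∧ iSupIndep (fun E : {E : Subgroup G // ∃ A : Subgroup G, A ≤ H ∧ Cfsg.IsBestOffenderOn p V A ∧ ⁅V,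 A⁆ ≠ ⊥ ∧ (∀ B : Subgroup G, B ≤ A → Cfsg.IsBestOffenderOn p V B → ⁅V, B⁆ ≠ ⊥ → B = A) ∧ E = ⁅((Cfsg.pPrimeCore p ↥H).map H.subtype), A⁆ ⊔ A} => (E : Subgroup G)) ∧ (⨆ E : {E : Subgroup G // ∃ A : Subgroup G, A ≤ H ∧ Cfsg.IsBestOffenderOn p V A ∧ ⁅V, A⁆ ≠ ⊥ ∧ (∀ B : Subgroup G, B ≤ A → Cfsg.IsBestOffenderOn p V B → ⁅V, B⁆ ≠ ⊥ → B = A) ∧ E = ⁅((Cfsg.pPrimeCore p ↥H).map H.subtype), A⁆ ⊔ A}, (E : Subgroup G)) = H ∧ iSupIndep (fun o : Option {E : Subgroup G // ∃ A : Subgroup G, A ≤ H ∧ Cfsg.IsBestOffenderOn p V A ∧ ⁅V, A⁆ ≠ ⊥ ∧ (∀ B : Subgroup G, B ≤ A → Cfsg.IsBestOffenderOn p V B → ⁅V, B⁆ ≠ ⊥ → B = A) ∧ E = ⁅((Cfsg.pPrimeCore p ↥H).map H.subtype), A⁆ ⊔ A} => o.elim (V ⊓ Subgroup.centralizer (H : Set G)) (fun E => ⁅V, (E : Subgroup G)⁆)) ∧ (V ⊓ Subgroup.centralizer (H : Set G)) ⊔ (⨆ E : {E : Subgroup G // ∃ A : Subgroup G, A ≤ H ∧ Cfsg.IsBestOffenderOn p V A ∧ ⁅V, A⁆ ≠ ⊥ ∧ (∀ B : Subgroup G, B ≤ A → Cfsg.IsBestOffenderOn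 p V B → ⁅V, B⁆ ≠ ⊥ → B = A) ∧ E = ⁅((Cfsg.pPrimeCore p ↥H).map H.subtype), A⁆ ⊔ A}, ⁅V, (E : Subgroup G)⁆) = V := by
  set Q := (Cfsg.pPrimeCore p ↥H).map H.subtype with hQ
  have S : Lib.PLocal.OffenderSetup p V H Q := Lib.PLocal.offenderSetup_of_pPrimeCore hV hHV hf hS1
  set ι := {E : Subgroup G // ∃ A : Subgroup G, A ≤ H ∧ Cfsg.IsBestOffenderOn p V A ∧ ⁅V, A⁆ ≠ ⊥ ∧
    (∀ B : Subgroup G, B ≤ A → Cfsg.IsBestOffenderOn p V B → ⁅V, B⁆ ≠ ⊥ → B = A) ∧
    E = ⁅Q, A⁆ ⊔ A}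
  have hrep : ∀ E : ι, ∃ A, Lib.PLocal.IsTransv p V H A ∧
      (E : Subgroup G) = Lib.PLocal.offE Q A := by
    rintro ⟨E, A, hAH, hA, hne, hmin, rfl⟩
    exact ⟨A, Lib.PLocal.isTransv_of_minimal S hA hAH hne hmin, rfl⟩
  have hmem : ∀ A, Lib.PLocal.IsTransv p V H A → ∃ E : ι, (E : Subgroup G) = Lib.PLocal.offE Q A := by
    intro A hA
    refine ⟨⟨Lib.PLocal.offE Q A, A, hA.1, Lib.PLocal.isTransv_bestOffender S hA, fun h =>
      Lib.PLocal.fixOn_ne_self S hA.1 (Lib.PLocal.isTransv_ne_bot hA)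
        (Lib.PLocal.fixOn_eq_self_iff_commutator.mpr h), fun B hB _ hne => ?_, rfl⟩, rfl⟩
    rcases Lib.PLocal.mem_bot_or_eq_of_card_prime hA.2.1 B with h | h
    · exfalso
      apply hne
      have : B = ⊥ := by rw [← h, inf_eq_right.mpr hB]
      rw [this, Subgroup.commutator_bot_right]
    · exact le_antisymm hB h
  have hH : H ≤ ⨆ E : ι, (E : Subgroup G) := by
    refine (Lib.PLocal.le_iSup_transv S hS3).trans (iSup_le fun B => ?_)
    obtain ⟨E, hE⟩ := hmem B B.2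
    exact le_iSup_of_le E (le_sup_right.trans hE.ge)
  have hEH : ∀ E : ι, (E : Subgroup G) ≤ H := by
    intro E
    obtain ⟨A, hA, hE⟩ := hrep E
    exact hE ▸ Lib.PLocal.offE_le S hA
  have hne : ∀ E E' : ι, E' ≠ E → ⁅V, (E' : Subgroup G)⁆ ≤ Lib.PLocal.fixOn V (E : Subgroup G) := by
    intro E E' hEE'
    obtain ⟨A, hA, hE⟩ := hrep E
    obtain ⟨A', hA', hE'⟩ := hrep E'
    rcases Lib.PLocal.dichotomy S hA hA' with h | ⟨-, h, -⟩
    · exact absurd (Subtype.ext (hE'.trans (h.trans hE.symm))) hEE'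
    · rw [hE, hE']; exact h
  have hfaith : ∀ E : ι, (E : Subgroup G) ⊓
      Subgroup.centralizer ((⁅V, (E : Subgroup G)⁆ : Subgroup G) : Set G) = ⊥ := by
    intro E
    obtain ⟨A, hA, hE⟩ := hrep E
    rw [hE]; exact Lib.PLocal.offE_faithful S hA
  have hWfix : ∀ E : ι, ⁅V, (E : Subgroup G)⁆ ⊓ Lib.PLocal.fixOn V (E : Subgroup G) = ⊥ ∧
      ⁅V, (E : Subgroup G)⁆ ⊔ Lib.PLocal.fixOn V (E : Subgroup G) = V ∧
      ⁅V, (E : Subgroup G)⁆ ≤ V := by
    intro E
    obtain ⟨A, hA, hE⟩ := hrep E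
    rw [hE]
    exact ⟨Lib.PLocal.W_inf_fix S hA, Lib.PLocal.W_sup_fix S hA, Lib.PLocal.W_le S hA⟩
  have hp23 : p = 2 ∨ p = 3 := by
    rcases isEmpty_or_nonempty ι with hι | ⟨⟨E⟩⟩
    · exact absurd (le_bot_iff.mp (hH.trans (iSup_le fun E => hι.elim E))) hH1
    · obtain ⟨A, hA, -⟩ := hrep E
      exact Lib.PLocal.p_eq_two_or_three S hA
  refine ⟨hp23, fun E => ?_, ?_, le_antisymm (iSup_le hEH) hH, ?_, ?_⟩
  · obtain ⟨A, hA, hE⟩ := hrep E
    rw [hE]
    exact ⟨(Lib.PLocal.complement S hS3 hA).2.2.2.2, Lib.PLocal.offE_equiv_SL S hA,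
      Lib.PLocal.card_W S hA⟩
  · intro E
    rw [disjoint_iff, eq_bot_iff]
    refine le_trans ?_ (hfaith E).le
    refine inf_le_inf_left _ (iSup₂_le fun E' hEE' => ?_)
    exact Subgroup.le_centralizer_iff.mp ((hne E' E (Ne.symm hEE')).trans inf_le_right)
  · rintro (_ | E)
    · rw [disjoint_iff, eq_bot_iff]
      rintro x ⟨hx, hx'⟩
      rw [Subgroup.mem_bot]
      have hx'' : x ∈ ⨆ E : ι, ⁅V, (E : Subgroup G)⁆ := by
        refine (iSup₂_le fun o ho => ?_ : _ ≤ ⨆ E : ι, ⁅V, (E : Subgroup G)⁆) hx'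
        rcases o with _ | E
        · exact absurd rfl ho
        · exact le_iSup (fun E : ι => ⁅V, (E : Subgroup G)⁆) E
      have hxf : ∀ E : ι, x ∈ Lib.PLocal.fixOn V (E : Subgroup G) := fun E =>
        Lib.PLocal.fixOn_anti (hEH E) hx
      clear hx hx'
      classical
      haveI : Fintype ι := Fintype.ofFinite ι
      suffices key : ∀ s : Finset ι, ∀ y ∈ (s.sup fun E => ⁅V, (E : Subgroup G)⁆),
          (∀ E : ι, y ∈ Lib.PLocal.fixOn V (E : Subgroup G)) → y = 1 by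
        refine key Finset.univ x ?_ hxf
        exact (iSup_le fun E => Finset.le_sup (f := fun E : ι => ⁅V, (E : Subgroup G)⁆)
          (Finset.mem_univ E) : _ ≤ _) hx''
      intro s
      induction s using Finset.induction with
      | empty =>
        intro y hy _
        simpa using hy
      | insert E s hEs ih =>
        intro y hy hyf
        rw [Finset.sup_insert] at hy
        have hle : (s.sup fun E => ⁅V, (E : Subgroup G)⁆) ≤ Lib.PLocal.fixOn V (E : Subgroup G) :=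
          Finset.sup_le fun E' hE' => hne E E' (fun h => hEs (h ▸ hE'))
        have hn : ⁅V, (E : Subgroup G)⁆ ≤
            Subgroup.normalizer ((s.sup fun E => ⁅V, (E : Subgroup G)⁆ : Subgroup G) : Set G) :=
          ((hWfix E).2.2.trans ((Subgroup.le_centralizer_iff_isMulCommutative.mpr hV.1).trans
            (Subgroup.centralizer_le (hle.trans inf_le_left)))).trans
            (Subgroup.centralizer_le_normalizer _)
        have hym : y ∈ ((⁅V, (E : Subgroup G)⁆ ⊔ s.sup fun E => ⁅V, (E : Subgroup G)⁆ : Subgroup G) :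
            Set G) := hy
        rw [Subgroup.coe_mul_of_left_le_normalizer_right _ _ hn] at hym
        obtain ⟨w, hw, z, hz, rfl⟩ := hym
        have hwb : w ∈ ⁅V, (E : Subgroup G)⁆ ⊓ Lib.PLocal.fixOn V (E : Subgroup G) := ⟨hw, by
          have := (Lib.PLocal.fixOn V (E : Subgroup G)).mul_mem (hyf E)
            ((Lib.PLocal.fixOn V (E : Subgroup G)).inv_mem (hle hz))
          simpa using this⟩
        rw [(hWfix E).1, Subgroup.mem_bot] at hwb
        subst hwb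
        simp only [one_mul] at hyf ⊢
        exact ih z hz hyf
    · rw [disjoint_iff, eq_bot_iff]
      refine le_trans ?_ (hWfix E).1.le
      refine inf_le_inf_left _ (iSup₂_le fun o ho => ?_)
      rcases o with _ | E'
      · exact Lib.PLocal.fixOn_anti (hEH E)
      · exact hne E E' fun h => ho (congrArg some h)
  · refine le_antisymm (sup_le inf_le_left (iSup_le fun E => (hWfix E).2.2)) ?_
    classical
    haveI : Fintype ι := Fintype.ofFinite ι
    suffices key : ∀ s : Finset ι, V ≤ (s.sup fun E => ⁅V, (E : Subgroup G)⁆) ⊔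
        Lib.PLocal.fixOn V (s.sup fun E => (E : Subgroup G)) by
      refine (key Finset.univ).trans (sup_le ?_ ?_)
      · exact le_sup_of_le_right (Finset.sup_le fun E _ =>
          le_iSup (fun E : ι => ⁅V, (E : Subgroup G)⁆) E)
      · refine le_sup_of_le_left (Lib.PLocal.fixOn_anti (hH.trans (iSup_le fun E => ?_)))
        exact Finset.le_sup (f := fun E : ι => (E : Subgroup G)) (Finset.mem_univ E)
    intro s
    induction s using Finset.induction with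
    | empty =>
      simp only [Finset.sup_empty]
      exact le_sup_of_le_right Lib.PLocal.fixOn_bot.ge
    | insert E s hEs ih =>
      rw [Finset.sup_insert, Finset.sup_insert]
      intro v hv
      obtain ⟨W, hWdef⟩ : ∃ W, W = ⁅V, (E : Subgroup G)⁆ := ⟨_, rfl⟩
      obtain ⟨M, hMdef⟩ : ∃ M, M = s.sup fun E => ⁅V, (E : Subgroup G)⁆ := ⟨_, rfl⟩
      rw [← hWdef, ← hMdef]
      rw [← hMdef] at ih
      have hcomm : ∀ K L : Subgroup G, K ≤ V → L ≤ V →
          K ≤ Subgroup.normalizer (L : Set G) := fun K L hK hL =>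
        (hK.trans ((Subgroup.le_centralizer_iff_isMulCommutative.mpr hV.1).trans
          (Subgroup.centralizer_le hL))).trans (Subgroup.centralizer_le_normalizer _)
      have hMV : M ≤ V := hMdef ▸ Finset.sup_le fun E' _ => (hWfix E').2.2
      have hWV : W ≤ V := hWdef ▸ (hWfix E).2.2
      set Fs := Lib.PLocal.fixOn V (s.sup fun E => (E : Subgroup G)) with hFs
      have hvm : v ∈ ((M ⊔ Fs : Subgroup G) : Set G) := ih hv
      rw [Subgroup.coe_mul_of_left_le_normalizer_right _ _ (hcomm M Fs hMV inf_le_left)] at hvm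
      obtain ⟨y, hy, c, hc, rfl⟩ := hvm
      have hcm : c ∈ ((W ⊔ Lib.PLocal.fixOn V (E : Subgroup G) : Subgroup G) : Set G) := by
        rw [hWdef, (hWfix E).2.1]; exact hc.1
      rw [Subgroup.coe_mul_of_left_le_normalizer_right _ _ (hcomm W _ hWV inf_le_left)] at hcm
      obtain ⟨w, hw, c', hc', rfl⟩ := hcm
      have hwF : w ∈ Fs := ⟨hWV hw, ?_⟩
      · show y * (w * c') ∈ _
        rw [← mul_assoc]
        refine Subgroup.mul_mem_sup ((W ⊔ M).mul_mem (Subgroup.mem_sup_right hy)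
          (Subgroup.mem_sup_left hw)) ?_
        rw [Lib.PLocal.fixOn_sup]
        refine ⟨hc', ?_⟩
        have := Fs.mul_mem (Fs.inv_mem hwF) hc
        show c' ∈ Fs
        simpa using this
      · refine (Subgroup.le_centralizer_iff.mp (Finset.sup_le fun E' hE' => ?_)) hw
        rw [hWdef, Subgroup.le_centralizer_iff]
        exact (hne E' E (fun h => hEs (h ▸ hE'))).trans inf_le_right

end Cfsg.Agent.S0617
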