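import Cfsg.Statements.S4218
import Cfsg.Agent.Lib.PSolvable.HallHigman
import Cfsg.Agent.Lib.Coprime.Commutator
import Cfsg.Agent.Lib.PGroups.Frattini
import Cfsg.Agent.Lib.Transfer.PResidual

set_option autoImplicit false
open Cfsg

namespace Cfsg.Agent.S4218

open Subgroup
open scoped commutatorElement

/-- In a group with `C(V) ≤ V` for the normal `p`-core `V`, only `V` acts trivially on `V / Φ(V)`. -/
theorem mem_iff_trivial {Q : Type*} [Group Q] [Finite Q] {p : ℕ} [Fact p.Prime]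
    (hC : centralizer ((Cfsg.pCore p Q : Subgroup Q) : Set Q) ≤ Cfsg.pCore p Q) (g : Q) :
    (∀ v ∈ Cfsg.pCore p Q, g * v * g⁻¹ * v⁻¹ ∈ (frattini (Cfsg.pCore p Q)).map (Cfsg.pCore p Q).subtype) ↔
      g ∈ Cfsg.pCore p Q := by
  have hVp : IsPGroup p (Cfsg.pCore p Q) := Cfsg.Agent.Lib.PSolvable.isPGroup_pCore
  haveI hVn : (Cfsg.pCore p Q).Normal := by
    refine Subgroup.sSup_normal _ ?_ <;> exact fun N hN => hN.1
  set V := Cfsg.pCore p Q
  set F := (frattini V).map V.subtype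
  haveI : F.Normal := inferInstance
  let π := QuotientGroup.mk' F
  set C := (centralizer ((V.map π : Subgroup (Q ⧸ F)) : Set (Q ⧸ F))).comap π with hCdef
  haveI : (V.map π).Normal := hVn.map π (QuotientGroup.mk'_surjective F)
  haveI : C.Normal := inferInstance
  have hmem : ∀ a, a ∈ C ↔ ∀ v ∈ V, a * v * a⁻¹ * v⁻¹ ∈ F := by
    intro a
    rw [hCdef, mem_comap, mem_centralizer_iff]
    constructor
    · intro h v hv
      have h1 := h (π v) (mem_map_of_mem π hv)
      rw [← QuotientGroup.eq_one_iff, ← QuotientGroup.mk'_apply]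
      show π (a * v * a⁻¹ * v⁻¹) = 1
      rw [map_mul, map_mul, map_mul, map_inv, map_inv, ← h1]
      group
    · rintro h _ ⟨v, hv, rfl⟩
      have h1 := h v hv
      rw [← QuotientGroup.eq_one_iff, ← QuotientGroup.mk'_apply] at h1
      have h2 : π a * π v * (π a)⁻¹ * (π v)⁻¹ = 1 := by rw [← h1]; simp [π]
      calc π v * π a = π v * π a * 1 := by rw [mul_one]
        _ = π v * π a * ((π a)⁻¹ * (π v)⁻¹ * (π a * π v * (π a)⁻¹ * (π v)⁻¹) * (π v * π a)) := by
            rw [h2]; group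
        _ = π a * π v := by group
  constructor
  · intro hg
    have hgC : g ∈ C := (hmem g).2 hg
    -- elements of order prime to `p` in `C` centralise `V`
    have hCp : IsPGroup p C := by
      rintro ⟨c, hc⟩
      obtain ⟨a, b, ha, hb, hab, hab', ⟨k, hk⟩, hbp⟩ :=
        Cfsg.Agent.Lib.Transfer.PResidual.exists_pPart_mul_pPrimePart (p := p) c (isOfFinOrder_of_finite c)
      have hbC : zpowers b ≤ C := zpowers_le.2 (zpowers_le.2 hc hb)
      have hbcop : (Nat.card (zpowers b)).Coprime (Nat.card (frattini V)) := by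
        obtain ⟨n, hn⟩ := IsPGroup.iff_card.1 (hVp.to_subgroup (frattini V))
        rw [Nat.card_zpowers, hn]
        exact Nat.Coprime.pow_right n hbp
      have h1 := Cfsg.Agent.Lib.Coprime.le_centralizer_of_frattini (K := V)
        (by rw [normalizer_eq_top]; exact le_top) hbcop (fun x hx v hv => (hmem x).1 (hbC hx) v hv)
      have hbV : b ∈ V := hC (h1 (mem_zpowers b))
      obtain ⟨n, hn⟩ := IsPGroup.iff_orderOf.1 hVp ⟨b, hbV⟩
      rw [Subgroup.orderOf_mk] at hn
      have hb1 : b = 1 := orderOf_eq_one_iff.1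
        (Nat.eq_one_of_dvd_coprimes (Nat.Coprime.pow_right n hbp) dvd_rfl (dvd_of_eq hn))
      refine ⟨k, Subtype.ext ?_⟩
      show c ^ p ^ k = 1
      rw [← hab, hb1, mul_one, hk]
    exact Cfsg.Agent.Lib.PSolvable.le_pCore inferInstance hCp hgC
  · intro hg v hv
    refine ⟨⁅(⟨g, hg⟩ : V), ⟨v, hv⟩⁆, Cfsg.Agent.Lib.PGroups.commutatorElement_mem_frattini hVp _ _, ?_⟩
    simp [commutatorElement_def]

/-- Let `G` be a finite `p`-solvable group, `N₀ = O_{p'}(G)`, `P₁ = O_{p',p}(G)`, and let `F ≤ P₁` be the preimage of the Frattini subgroup of `P₁/N₀`. Then an element `g` of `G` induces the identity on `P₁/F` by conjugation (that is, `g x g⁻¹ x⁻¹ ∈ F` for all `x ∈ P₁`) if and only if `g ∈ P₁`: the group `G/P₁` acts faithfully on `P₁/F`. -/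
theorem result {G : Type*} [Group G] [Finite G] {p : ℕ} [Fact p.Prime] (hG : Cfsg.IsPSolvable p G) (g : G) : (∀ x ∈ Cfsg.pPrimePCore p G, g * x * g⁻¹ * x⁻¹ ∈ ((frattini (↥(Cfsg.pPrimePCore p G) ⧸ (Cfsg.pPrimeCore p G).subgroupOf (Cfsg.pPrimePCore p G))).comap (QuotientGroup.mk' ((Cfsg.pPrimeCore p G).subgroupOf (Cfsg.pPrimePCore p G)))).map (Cfsg.pPrimePCore p G).subtype) ↔ g ∈ Cfsg.pPrimePCore p G := by
  set N := Cfsg.pPrimeCore p G
  haveI hNn : N.Normal := Subgroup.sSup_normal _ fun K hK => hK.1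
  set M := Cfsg.pPrimePCore p G with hM
  let π := QuotientGroup.mk' N
  have hC := Cfsg.Agent.Lib.PSolvable.centralizer_pCore_le
    (Cfsg.Agent.Lib.PSolvable.isPSolvable_quotient hG N)
    (Cfsg.Agent.Lib.PSolvable.pPrimeCore_quotient_eq_bot N rfl)
  have hmap : M.map π = Cfsg.pCore p (G ⧸ N) := Cfsg.Agent.Lib.PSolvable.map_pPrimePCore
  let f : M →* Cfsg.pCore p (G ⧸ N) := (π.comp M.subtype).codRestrict _ fun x => hmap ▸ mem_map_of_mem π x.2
  have hf : Function.Surjective f := by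
    rintro ⟨v, hv⟩
    rw [← hmap] at hv
    obtain ⟨x, hx, rfl⟩ := hv
    exact ⟨⟨x, hx⟩, rfl⟩
  have hker : N.subgroupOf M = f.ker := by
    ext x
    rw [mem_subgroupOf, MonoidHom.mem_ker, ← QuotientGroup.eq_one_iff]
    exact ⟨fun h => Subtype.ext h, fun h => congrArg Subtype.val h⟩
  let e := (QuotientGroup.quotientMulEquivOfEq hker).trans (QuotientGroup.quotientKerEquivOfSurjective f hf)
  have he : ∀ x : M, e (QuotientGroup.mk' _ x) = f x := fun x => rfl
  have hfr : ∀ x : M, QuotientGroup.mk' (N.subgroupOf M) x ∈ frattini _ ↔ f x ∈ frattini _ := by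
    intro x
    rw [← he]
    constructor
    · intro hx
      exact frattini_le_comap_frattini_of_surjective (φ := e.toMonoidHom) e.surjective hx
    · intro hx
      have := frattini_le_comap_frattini_of_surjective (φ := e.symm.toMonoidHom) e.symm.surjective hx
      simpa using this
  rw [show g ∈ M ↔ π g ∈ Cfsg.pCore p (G ⧸ N) from Iff.rfl, ← mem_iff_trivial hC]
  have hMn : M.Normal := by
    haveI : (Cfsg.pCore p (G ⧸ N)).Normal := Subgroup.sSup_normal _ fun K hK => hK.1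
    exact Subgroup.Normal.comap ‹(Cfsg.pCore p (G ⧸ N)).Normal› π
  constructor
  · intro h v hv
    rw [← hmap] at hv
    obtain ⟨x, hx, rfl⟩ := hv
    obtain ⟨y, hy, hyx⟩ := h x hx
    refine ⟨f y, (hfr y).1 hy, ?_⟩
    show π (y : G) = _
    rw [show (y : G) = g * x * g⁻¹ * x⁻¹ from hyx]
    simp [map_mul]
  · intro h x hx
    have hmem : g * x * g⁻¹ * x⁻¹ ∈ M := M.mul_mem (hMn.conj_mem x hx g) (M.inv_mem hx)
    refine ⟨⟨_, hmem⟩, (hfr _).2 ?_, rfl⟩
    obtain ⟨w, hw, hwx⟩ := h (π x) (hmap ▸ mem_map_of_mem π hx)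
    have : f ⟨_, hmem⟩ = w := by
      apply Subtype.ext
      show π (g * x * g⁻¹ * x⁻¹) = _
      rw [show ((w : Cfsg.pCore p (G ⧸ N)) : G ⧸ N) = π g * π x * (π g)⁻¹ * (π x)⁻¹ from hwx]
      simp [map_mul]
    rw [this]; exact hw

end Cfsg.Agent.S4218
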