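import Cfsg.Statements.S0814
import Cfsg.Agent.Lib.AutPSp.GraphMain

set_option autoImplicit false
open Cfsg

namespace Cfsg.Agent.S0814

open Cfsg.Agent.Lib.AutPSp

/-- |Aut(PSp_2m(q))| = gcd(2, q−1) · f · |PSp_2m(q)| for q = p^f, m ≥ 2, (m, q) ≠ (2, 2), with an extra factor 2 exactly when m = 2 and p = 2. -/
theorem result {F : Type*} [Field F] [Fintype F] (p f : ℕ) [Fact p.Prime] (hf : 1 ≤ f) (hF : Fintype.card F = p ^ f) (m : ℕ) (hm : 2 ≤ m) (h22 : m = 2 → 3 ≤ p ^ f) : Nat.card (MulAut (Cfsg.PSp m F)) = (if m = 2 ∧ p = 2 then 2 else 1) * Nat.gcd 2 (p ^ f - 1) * f * Nat.card (Cfsg.PSp m F) := by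
  by_cases h : m = 2 ∧ p = 2
  · obtain ⟨rfl, rfl⟩ := h
    haveI : CharP F 2 := charP_of_card_eq_prime_pow hF
    rw [if_pos ⟨rfl, rfl⟩, card_mulAut_PSp_four hF]
    have hc2 : Nat.gcd 2 (2 ^ f - 1) = 1 := by
      rw [← Nat.Coprime, Nat.Prime.coprime_iff_not_dvd Nat.prime_two]
      intro hd
      have h2 : 2 ∣ 2 ^ f := dvd_pow_self 2 (by omega)
      have := Nat.one_le_two_pow (n := f)
      omega
    rw [hc2, mul_one]
  · rw [if_neg h, one_mul, card_mulAut_PSp hF hm fun h2 hp => h ⟨h2, hp⟩]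

end Cfsg.Agent.S0814
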