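import Cfsg.Statements.S1697
import Cfsg.Agent.Lib.CosetEnum.Fi23Orbit.Facts
import Cfsg.Agent.Lib.CosetEnum.Fi23Triv

set_option autoImplicit false
open Cfsg

namespace Cfsg.Agent.S1697

open Cfsg.Agent.Lib.CosetEnum

theorem cover : allBelow 31671 (coverAt [(28160, Fi23x31671.orbPts1, Fi23x31671.orbPos1),
    (3510, Fi23x31671.orbPts2, Fi23x31671.orbPos2)]) = true := by
  decide +kernel

/-- The presented Fischer group Fi23 is simple of the expected order (that is, it is a simple group of the order of the Fischer group Fi₂₃). -/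
theorem result : Cfsg.IsFi23 Cfsg.Spor.Fi23 := by
  obtain ⟨ρ, ρJ, hρ, hst, htr, hinj, -, -, -, -, hG, hJ⟩ := Fi23Orbit.main
  haveI : Finite Cfsg.Spor.Fi23 := Nat.finite_of_card_ne_zero (by
    intro h
    have := hG.symm.trans h
    omega)
  refine ⟨?_, hG⟩
  refine isSimple_of_primitive ρ ⟨0, by omega⟩ (by omega) hinj hst htr ?_
    Fi23Triv.elt 17
    (pow_eq_one_of_table Fi23x31671.letters _ ρ hρ hinj _ (by decide +kernel) 17 Fi23Triv.scan_pow)
    (by rw [hJ]; decide +kernel) Fi23Triv.eq_top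
  intro O h0 hinv hO
  refine no_block ρ ⟨0, by omega⟩ ![⟨1, by omega⟩, ⟨52, by omega⟩] ![28160, 3510] ?_ ?_ ?_ ?_ O h0 hinv hO
  · intro j
    fin_cases j
    · exact (Fi23x31671.orb1_spec ρ hρ).1
    · exact (Fi23x31671.orb2_spec ρ hρ).1
  · intro y
    have h := allBelow_iff.1 cover y.1 y.2
    simp only [coverAt, force_eq, Bool.or_eq_true, Bool.and_eq_true, Bool.false_eq_true, or_false,
      Nat.beq_eq, Nat.blt_eq] at h
    rcases h with h | ⟨hp, hq⟩ | ⟨hp, hq⟩
    · exact Or.inl (Fin.ext h)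
    · exact Or.inr ⟨0, (Fi23x31671.orb1_spec ρ hρ).2.2 _ hp y hq.symm⟩
    · exact Or.inr ⟨1, (Fi23x31671.orb2_spec ρ hρ).2.2 _ hp y hq.symm⟩
  · decide +kernel
  · decide +kernel

end Cfsg.Agent.S1697
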