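import Cfsg.Statements.S1695
import Cfsg.Agent.Lib.CosetEnum.He2058.Orbits
import Cfsg.Agent.Lib.CosetEnum.He49980.Enum
import Cfsg.Agent.Lib.CosetEnum.HeWord
import Cfsg.Agent.Lib.CosetEnum.HeChain.L6
import Cfsg.Agent.Lib.CosetEnum.HeSlp
import Cfsg.Agent.Lib.CosetEnum.HeTriv
import Cfsg.Agent.Lib.CosetEnum.Simple

set_option autoImplicit false
open Cfsg

namespace Cfsg.Agent.S1695

open Cfsg.Agent.Lib.CosetEnum

theorem cover : allBelow 2058 (coverAt [(1360, Cfsg.Agent.Lib.CosetEnum.He2058.orbPts1, Cfsg.Agent.Lib.CosetEnum.He2058.orbPos1), (425, Cfsg.Agent.Lib.CosetEnum.He2058.orbPts2, Cfsg.Agent.Lib.CosetEnum.He2058.orbPos2), (136, Cfsg.Agent.Lib.CosetEnum.He2058.orbPts3, Cfsg.Agent.Lib.CosetEnum.He2058.orbPos3), (136, Cfsg.Agent.Lib.CosetEnum.He2058.orbPts4, Cfsg.Agent.Lib.CosetEnum.He2058.orbPos4)]) = true := by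
  decide +kernel

/-- The presented Held group is simple of the expected order (that is, it is a simple group of the order of the Held group). -/
theorem result : Cfsg.IsHe Cfsg.Spor.He := by
  obtain ⟨ρ, hρ, hst, htr⟩ := Cfsg.Agent.Lib.CosetEnum.He2058.enum.action
  have hN : 0 < 49980 := by omega
  have hsub : subOf Cfsg.Agent.Lib.CosetEnum.He49980.letters Cfsg.Agent.Lib.CosetEnum.He49980.pres Cfsg.Agent.Lib.CosetEnum.He49980.subWords =
      subOf Cfsg.Agent.Lib.CosetEnum.He49980.letters Cfsg.Agent.Lib.CosetEnum.He49980.pres (Cfsg.Agent.Lib.CosetEnum.He49980.subWords.flatten.map fun g => [g]) := rfl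
  have hidx := Cfsg.Agent.Lib.CosetEnum.He49980.enum.index
  have hH := Cfsg.Agent.Lib.CosetEnum.HeChain.L6.bound
  have hge := Cfsg.Agent.Lib.CosetEnum.HeSlp.card_ge ρ _ hρ
  obtain ⟨hG, -, hinj⟩ := card_of_bounds (B := 80640) ρ (by omega) hidx
    (by rw [hsub]; exact hH) (hge.trans' (by omega))
  have hord : Nat.card Cfsg.Spor.He = 4030387200 := hG.trans (by norm_num)
  haveI : Finite Cfsg.Spor.He := Nat.finite_of_card_ne_zero (by rw [hord]; omega)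
  have hHcard : Nat.card (subOf Cfsg.Agent.Lib.CosetEnum.He2058.letters Cfsg.Agent.Lib.CosetEnum.HeWord.pres Cfsg.Agent.Lib.CosetEnum.He2058.subWords) = 1958400 := by
    have h := (subOf Cfsg.Agent.Lib.CosetEnum.He2058.letters Cfsg.Agent.Lib.CosetEnum.HeWord.pres Cfsg.Agent.Lib.CosetEnum.He2058.subWords).card_mul_index
    rw [Cfsg.Agent.Lib.CosetEnum.He2058.enum.index] at h
    exact Nat.eq_of_mul_eq_mul_right (by omega : 0 < 2058)
      ((h.trans hord).trans (by norm_num))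
  refine ⟨?_, hord⟩
  refine isSimple_of_primitive ρ ⟨0, by omega⟩ (by omega) hinj hst htr ?_
    Cfsg.Agent.Lib.CosetEnum.HeTriv.elt 7
    (pow_eq_one_of_table Cfsg.Agent.Lib.CosetEnum.He2058.letters _ ρ hρ hinj _ (by decide +kernel) 7
      Cfsg.Agent.Lib.CosetEnum.HeTriv.scan_pow)
    (by rw [hHcard]; decide +kernel) Cfsg.Agent.Lib.CosetEnum.HeTriv.eq_top
  intro O h0 hinv hO
  refine no_block ρ ⟨0, by omega⟩ ![⟨1, by omega⟩, ⟨2, by omega⟩, ⟨46, by omega⟩, ⟨65, by omega⟩] ![1360, 425, 136, 136] ?_ ?_ ?_ ?_ O h0 hinv hO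
  · intro j
    fin_cases j
    · exact (Cfsg.Agent.Lib.CosetEnum.He2058.orb1_spec ρ hρ).1
    · exact (Cfsg.Agent.Lib.CosetEnum.He2058.orb2_spec ρ hρ).1
    · exact (Cfsg.Agent.Lib.CosetEnum.He2058.orb3_spec ρ hρ).1
    · exact (Cfsg.Agent.Lib.CosetEnum.He2058.orb4_spec ρ hρ).1
  · intro y
    have h := allBelow_iff.1 cover y.1 y.2
    simp only [coverAt, force_eq, Bool.or_eq_true, Bool.and_eq_true, Bool.false_eq_true, or_false,
      Nat.beq_eq, Nat.blt_eq] at h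
    rcases h with h | ⟨hp, hq⟩ | ⟨hp, hq⟩ | ⟨hp, hq⟩ | ⟨hp, hq⟩
    · exact Or.inl (Fin.ext h)
    · exact Or.inr ⟨0, (Cfsg.Agent.Lib.CosetEnum.He2058.orb1_spec ρ hρ).2.2 _ hp y hq.symm⟩
    · exact Or.inr ⟨1, (Cfsg.Agent.Lib.CosetEnum.He2058.orb2_spec ρ hρ).2.2 _ hp y hq.symm⟩
    · exact Or.inr ⟨2, (Cfsg.Agent.Lib.CosetEnum.He2058.orb3_spec ρ hρ).2.2 _ hp y hq.symm⟩
    · exact Or.inr ⟨3, (Cfsg.Agent.Lib.CosetEnum.He2058.orb4_spec ρ hρ).2.2 _ hp y hq.symm⟩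
  · decide +kernel
  · decide +kernel

end Cfsg.Agent.S1695
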