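import Cfsg.Statements.S1691
-- import your own Cfsg.Agent.* helpers here

set_option autoImplicit false
open Cfsg

namespace Cfsg.Agent.S1691

open Cfsg.Spor in
/-- The parity homomorphism of the presented Fi24. -/
def parity : Cfsg.Spor.Fi24 →* Multiplicative (ZMod 2) :=
  PresentedGroup.toGroup (f := fun _ => Multiplicative.ofAdd (1 : ZMod 2)) (by
    intro r hr
    rcases hr with ⟨x, hx, y, hy, rfl⟩ | hr
    · rw [map_pow, map_mul, FreeGroup.lift_apply_of, FreeGroup.lift_apply_of]
      have : Multiplicative.ofAdd (1 : ZMod 2) * Multiplicative.ofAdd (1 : ZMod 2) = 1 := by decide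
      rw [this, one_pow]
    · simp only [Fi24.extra, List.mem_cons, List.not_mem_nil, or_false, Set.mem_ofPred_eq] at hr
      rcases hr with rfl | rfl <;> simp <;> decide)

theorem braid {A : Type*} [CommGroup A] {x y : A} (hx : x * x = 1) (hy : y * y = 1)
    (h : (x * y) ^ 3 = 1) : x = y := by
  have h2 : (x * y) ^ 2 = 1 := by rw [mul_pow, sq, sq, hx, hy, one_mul]
  rw [pow_succ, h2, one_mul] at h
  calc x = x * (y * y) := by rw [hy, mul_one]
    _ = y := by rw [← mul_assoc, h, one_mul]

open Cfsg.Spor Cfsg.Spor.Fi24 in
theorem ab_gen (g : Gen) :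
    Abelianization.of (PresentedGroup.of g : Fi24) = Abelianization.of (PresentedGroup.of Gen.a : Fi24) ∧
      Abelianization.of (PresentedGroup.of g : Fi24) * Abelianization.of (PresentedGroup.of g : Fi24) = 1 := by
  set q : Gen → Abelianization Fi24 := fun g => Abelianization.of (PresentedGroup.of g) with hq
  have key : ∀ x y : Gen, x ∈ coxNodes edges → y ∈ coxNodes edges →
      (q x * q y) ^ coxLabel edges x y = 1 := by
    intro x y hx hy
    have h := PresentedGroup.one_of_mem (rels := coxRelators edges ∪ {r | r ∈ extra})
      (Or.inl ⟨x, hx, y, hy, rfl⟩)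
    have h' := congrArg Abelianization.of h
    simp only [map_pow, map_mul, map_one] at h'
    exact h'
  have hsq : ∀ g : Gen, q g * q g = 1 := by
    intro g
    have h := key g g (by cases g <;> decide) (by cases g <;> decide)
    have hl : coxLabel edges g g = 1 := by simp [coxLabel]
    rwa [hl, pow_one] at h
  have he : ∀ x y : Gen, x ∈ coxNodes edges → y ∈ coxNodes edges → coxLabel edges x y = 3 → q x = q y := by
    intro x y hx hy hl
    have h := key x y hx hy
    rw [hl] at h
    exact braid (hsq x) (hsq y) h
  have lk : q .l = q .k := he _ _ (by decide) (by decide) (by decide)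
  have ka : q .k = q .a := he _ _ (by decide) (by decide) (by decide)
  have ab : q .a = q .b := he _ _ (by decide) (by decide) (by decide)
  have bc : q .b = q .c := he _ _ (by decide) (by decide) (by decide)
  have cd : q .c = q .d := he _ _ (by decide) (by decide) (by decide)
  have de : q .d = q .e := he _ _ (by decide) (by decide) (by decide)
  have ef : q .e = q .f := he _ _ (by decide) (by decide) (by decide)
  have fg : q .f = q .g := he _ _ (by decide) (by decide) (by decide)
  have gj : q .g = q .j := he _ _ (by decide) (by decide) (by decide)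
  have dh : q .d = q .h := he _ _ (by decide) (by decide) (by decide)
  have hi : q .h = q .i := he _ _ (by decide) (by decide) (by decide)
  refine ⟨?_, hsq g⟩
  change q g = q .a
  cases g
  exacts [lk.trans ka, ka, rfl, ab.symm, (ab.trans bc).symm, ((ab.trans bc).trans cd).symm,
    (((ab.trans bc).trans cd).trans de).symm, ((((ab.trans bc).trans cd).trans de).trans ef).symm,
    (((((ab.trans bc).trans cd).trans de).trans ef).trans fg).symm,
    ((((((ab.trans bc).trans cd).trans de).trans ef).trans fg).trans gj).symm,
    (((ab.trans bc).trans cd).trans dh).symm, ((((ab.trans bc).trans cd).trans dh).trans hi).symm]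

/-- The commutator subgroup of the presented group Fi₂₄ has index 2 (the presented group is Fi₂₄′:2 with Fi₂₄′ its derived subgroup). -/
theorem result : (commutator Cfsg.Spor.Fi24).index = 2 := by
  classical
  set t : Abelianization Cfsg.Spor.Fi24 :=
    Abelianization.of (PresentedGroup.of Cfsg.Spor.Fi24.Gen.a : Cfsg.Spor.Fi24) with ht
  have hall : ∀ g : Cfsg.Spor.Fi24, Abelianization.of g ∈ Subgroup.zpowers t := by
    intro g
    have hg : g ∈ Subgroup.closure (Set.range (PresentedGroup.of : Cfsg.Spor.Fi24.Gen → Cfsg.Spor.Fi24)) := by
      rw [PresentedGroup.closure_range_of]; trivial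
    induction hg using Subgroup.closure_induction with
    | mem x hx =>
      obtain ⟨i, rfl⟩ := hx
      rw [(ab_gen i).1]
      exact Subgroup.mem_zpowers t
    | one => simp [one_mem]
    | mul x y _ _ hx hy => rw [map_mul]; exact mul_mem hx hy
    | inv x _ hx => rw [map_inv]; exact inv_mem hx
  have htop : Subgroup.zpowers t = ⊤ := by
    rw [eq_top_iff]
    intro x _
    induction x using Quotient.inductionOn' with
    | h g => exact hall g
  have htc : Nat.card (Abelianization Cfsg.Spor.Fi24) = orderOf t := by
    rw [← Nat.card_zpowers, htop, Subgroup.card_top]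
  have ht2 : orderOf t ∣ 2 := orderOf_dvd_of_pow_eq_one (by rw [sq]; exact (ab_gen _).2)
  have hne : t ≠ 1 := by
    intro h
    have h' := congrArg (Abelianization.lift parity) h
    rw [ht, Abelianization.lift_apply_of, map_one] at h'
    simp only [parity, PresentedGroup.toGroup.of] at h'
    exact absurd h' (by decide)
  rw [Subgroup.index]
  change Nat.card (Abelianization Cfsg.Spor.Fi24) = 2
  rw [htc]
  rcases (Nat.dvd_prime Nat.prime_two).1 ht2 with h | h
  · exact absurd (orderOf_eq_one_iff.1 h) hne
  · exact h

end Cfsg.Agent.S1691
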