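import Cfsg.Statements.S5421
import Cfsg.Agent.Lib.LargeExtra.Basic

set_option autoImplicit false
set_option linter.style.haveILetI false
open Cfsg

namespace Cfsg.Agent.S5421

/-- Let Q be an extraspecial 2-subgroup of the finite group G whose centralizer in G is its centre Z and which is normal in the centralizer of Z. If some involution b of Q outside Z has Z inside the largest normal 2-subgroup of the centralizer of b, then Q is a large extraspecial 2-subgroup of G. -/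
theorem result {G : Type*} [Group G] [Finite G] (Q : Subgroup G) (hL1 : Cfsg.IsExtraspecial 2 ↥Q) (hL2 : Subgroup.centralizer (Q : Set G) = ((Subgroup.center ↥Q).map Q.subtype)) (hL3 : Subgroup.centralizer (((Subgroup.center ↥Q).map Q.subtype) : Set G) ≤ Subgroup.normalizer (Q : Set G)) (b : G) (hbQ : b ∈ Q) (hbZ : b ∉ ((Subgroup.center ↥Q).map Q.subtype)) (hb : orderOf b = 2) (hZ : ((Subgroup.center ↥Q).map Q.subtype) ≤ (Cfsg.pCore 2 ↥(Subgroup.centralizer ({b} : Set G))).map (Subgroup.centralizer ({b} : Set G)).subtype) : Cfsg.IsLargeExtraspecial Q := by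
  open Cfsg.Agent.Lib.LargeExtra.Basic in
  obtain ⟨z, hz2, hzZ⟩ := exists_z hL1
  have hzm : z ∈ (Subgroup.center ↥Q).map Q.subtype := hzZ ▸ Subgroup.mem_zpowers z
  have hzQ : z ∈ Q := (mem_centerMap.mp hzm).1
  have hzc : ∀ y ∈ Q, y * z = z * y := (mem_centerMap.mp hzm).2
  refine ⟨hL1, hL2, hL3, fun K hK hQK => ?_⟩
  have conjK : ∀ q ∈ Q, ∀ k ∈ K, q * k * q⁻¹ ∈ K := fun q hq k hk =>
    (Subgroup.mem_normalizer_iff.mp (hQK hq) k).mp hk
  have hZinc : ∀ w ∈ (Subgroup.center ↥Q).map Q.subtype, ∀ k : G, k * z = z * k → k * w = w * k := by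
    intro w hw k hk
    rw [hzZ] at hw
    obtain rfl | rfl := eq_one_or_eq hz2 hw
    · simp
    · exact hk
  -- the subgroup centralised by z is trivial
  have hCz : ∀ k ∈ K, k * z = z * k → k = 1 := by
    intro k hk hkz
    have hbot := eq_bot_of_centralizes hL1 hL2 hL3 (K ⊓ Subgroup.centralizer ({z} : Set G))
      (Odd.of_dvd_nat hK (Subgroup.card_dvd_of_le inf_le_left)) ?_ ?_
    · have : k ∈ K ⊓ Subgroup.centralizer ({z} : Set G) :=
        ⟨hk, Subgroup.mem_centralizer_singleton_iff.mpr hkz⟩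
      rwa [hbot, Subgroup.mem_bot] at this
    · intro q hq
      rw [Subgroup.mem_normalizer_iff]
      have key : ∀ p ∈ Q, ∀ n ∈ K ⊓ Subgroup.centralizer ({z} : Set G),
          p * n * p⁻¹ ∈ K ⊓ Subgroup.centralizer ({z} : Set G) := by
        intro p hp n hn
        refine ⟨conjK p hp n hn.1, Subgroup.mem_centralizer_singleton_iff.mpr ?_⟩
        have a1 : Commute n z := Subgroup.mem_centralizer_singleton_iff.mp hn.2
        have a2 : Commute p z := hzc p hp
        exact ((a2.mul_left a1).mul_left a2.inv_left).eq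
      intro n
      refine ⟨key q hq n, fun h => ?_⟩
      simpa [mul_assoc] using key q⁻¹ (Q.inv_mem hq) _ h
    · intro k hk w hw
      exact hZinc w hw k (Subgroup.mem_centralizer_singleton_iff.mp hk.2)
  have hzb : z ∈ Subgroup.centralizer ({b} : Set G) :=
    Subgroup.mem_centralizer_singleton_iff.mpr (hzc b hbQ).symm
  -- no non-trivial element of K is centralised by b
  have hCb : ∀ k ∈ K, b * k * b⁻¹ = k → k = 1 := by
    intro k hk hkb
    refine hCz k hk ?_
    have hkC : k ∈ Subgroup.centralizer ({b} : Set G) :=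
      Subgroup.mem_centralizer_singleton_iff.mpr (mul_inv_eq_iff_eq_mul.mp hkb).symm
    obtain ⟨⟨z', hz'⟩, hzO, hzz⟩ := hZ hzm
    obtain rfl : z' = z := hzz
    let c : ↥(Subgroup.centralizer ({b} : Set G)) := ⟨k, hkC⟩
    let w : ↥(Subgroup.centralizer ({b} : Set G)) := ⟨z', hz'⟩
    have h1 : c * w * c⁻¹ * w⁻¹ ∈ K.subgroupOf (Subgroup.centralizer ({b} : Set G)) := by
      show k * z' * k⁻¹ * z'⁻¹ ∈ K
      simpa [mul_assoc] using K.mul_mem hk (conjK z' hzQ _ (K.inv_mem hk))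
    have h2 : c * w * c⁻¹ * w⁻¹ ∈ Cfsg.pCore 2 ↥(Subgroup.centralizer ({b} : Set G)) :=
      mul_mem ((pCore_normal' _).conj_mem w hzO c) (inv_mem hzO)
    have hodd : Odd (Nat.card ↥(K.subgroupOf (Subgroup.centralizer ({b} : Set G)))) :=
      Odd.of_dvd_nat hK (Subgroup.card_comap_dvd_of_injective _ _ (Subgroup.subtype_injective _))
    have h3 : c * w * c⁻¹ * w⁻¹ ∈ K.subgroupOf (Subgroup.centralizer ({b} : Set G)) ⊓
        Cfsg.pCore 2 ↥(Subgroup.centralizer ({b} : Set G)) := ⟨h1, h2⟩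
    rw [odd_inf_two_eq_bot hodd (pCore_isPGroup _), Subgroup.mem_bot] at h3
    exact mul_inv_eq_iff_eq_mul.mp (mul_inv_eq_one.mp (congrArg Subtype.val h3))
  -- b z is conjugate to b under Q
  obtain ⟨x, hxQ, hxb⟩ : ∃ x ∈ Q, x * b ≠ b * x := by
    by_contra h
    push Not at h
    exact hbZ (mem_centerMap.mpr ⟨hbQ, h⟩)
  have hbx : x * b * x⁻¹ = z * b := by
    have := commutator_mem hL1 hxQ hbQ
    rw [hzZ] at this
    obtain h | h := eq_one_or_eq hz2 this
    · exact absurd (mul_inv_eq_iff_eq_mul.mp (mul_inv_eq_one.mp h)) hxb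
    · exact mul_inv_eq_iff_eq_mul.mp h
  have hb1 : b * b = 1 := by rw [← sq, ← hb, pow_orderOf_eq_one]
  have inv_b : ∀ k ∈ K, b * k * b⁻¹ = k⁻¹ :=
    inverts_of_fixedPointFree hb1 K (conjK b hbQ) hCb
  have inv_zb : ∀ k ∈ K, (z * b) * k * (z * b)⁻¹ = k⁻¹ := by
    intro k hk
    have hk' : x⁻¹ * k * x ∈ K := by simpa using conjK x⁻¹ (Q.inv_mem hxQ) k hk
    rw [← hbx]
    calc x * b * x⁻¹ * k * (x * b * x⁻¹)⁻¹ = x * (b * (x⁻¹ * k * x) * b⁻¹) * x⁻¹ := by group
      _ = x * (x⁻¹ * k * x)⁻¹ * x⁻¹ := by rw [inv_b _ hk']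
      _ = k⁻¹ := by group
  refine (Subgroup.eq_bot_iff_forall K).mpr fun k hk => hCz k hk ?_
  have h1 := inv_zb k⁻¹ (K.inv_mem hk)
  have h2 : z * k * z⁻¹ = (z * b) * k⁻¹ * (z * b)⁻¹ := by
    rw [← inv_b k hk]
    calc z * k * z⁻¹ = z * ((b * b) * k * (b * b)⁻¹) * z⁻¹ := by rw [hb1]; simp
      _ = _ := by group
  rw [h1, inv_inv] at h2
  exact (mul_inv_eq_iff_eq_mul.mp h2).symm

end Cfsg.Agent.S5421
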