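import Cfsg.Statements.S0303
import Cfsg.Agent.Lib.LowIso.Basic
import Cfsg.Agent.Lib.LowIso.QuadExt
import Cfsg.Agent.Lib.LowIso.Herm4
import Cfsg.Agent.Lib.OrthTwo.Binary
import Cfsg.Agent.Lib.Unitary.Simple
import Cfsg.Agent.Lib.OrthOmega.Simple

set_option autoImplicit false
open Cfsg

namespace Cfsg.Agent.S0303

/-- PΩ^-_6(q) is isomorphic to PSU_4(q). -/
theorem result {F K : Type*} [Field F] [Fintype F] [Field K] [Fintype K] {q : ℕ} (hF : Fintype.card F = q) (hK : Fintype.card K = q ^ 2) (a b : F) (hab : ∀ z₁ z₂ : F, z₁ ^ 2 + a * z₁ * z₂ + b * z₂ ^ 2 = 0 → z₁ = 0 ∧ z₂ = 0) : Nonempty (Cfsg.POmega F (Cfsg.quadFormMinus 2 F a b) ≃* Cfsg.PSU 4 K q) := by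
  classical
  obtain ⟨φ, ω, hfix, hadd, hqq, hwa, hwb, hind, hsurj, -, hN⟩ :=
    Cfsg.Agent.Lib.LowIso.QuadExt.exists_quad hF hK a b hab
  set σ : K →+* K := Cfsg.Agent.Lib.Unitary.conj hK with hσ
  have hσσ : ∀ z, σ (σ z) = z := fun z => hqq z
  obtain ⟨c, hc⟩ := Cfsg.Agent.Lib.Unitary.norm_surj hK (y := (-1 : K))
    (by rw [Cfsg.Agent.Lib.Unitary.neg_pow_q hK, one_pow])
  have hc0 : c ≠ 0 := fun h => by simp [h] at hc
  have hD := Cfsg.Agent.Lib.OrthTwo.Binary.disc_ne hab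
  let R1 : ((Fin 2 ⊕ Fin 2) ⊕ Fin 2 → F) → F := fun v => v (.inl (.inr 0)) - v (.inl (.inl 0)) - a * v (.inl (.inl 1))
  let R2 : ((Fin 2 ⊕ Fin 2) ⊕ Fin 2 → F) → F := fun v => v (.inl (.inr 1)) - b * v (.inl (.inl 1))
  let xs : ((Fin 2 ⊕ Fin 2) ⊕ Fin 2 → F) → F := fun v => (2 * b * R1 v - a * R2 v) * (4 * b - a ^ 2)⁻¹
  let ys : ((Fin 2 ⊕ Fin 2) ⊕ Fin 2 → F) → F := fun v => (2 * R2 v - a * R1 v) * (4 * b - a ^ 2)⁻¹
  have e1 : ∀ v, 2 * xs v + a * ys v = R1 v := fun v => by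
    simp only [xs, ys]
    linear_combination R1 v * mul_inv_cancel₀ hD
  have e2 : ∀ v, a * xs v + 2 * b * ys v = R2 v := fun v => by
    simp only [xs, ys]
    linear_combination R2 v * mul_inv_cancel₀ hD
  let c1 : ((Fin 2 ⊕ Fin 2) ⊕ Fin 2 → F) → K := fun v => φ (v (.inl (.inl 0)) + xs v) + φ (v (.inl (.inl 1)) + ys v) * ω
  let c2 : ((Fin 2 ⊕ Fin 2) ⊕ Fin 2 → F) → K := fun v => c * (φ (xs v) + φ (ys v) * ω)
  let c3 : ((Fin 2 ⊕ Fin 2) ⊕ Fin 2 → F) → K := fun v => φ (v (.inr 0)) + φ (v (.inr 1)) * ω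
  have a1 : ∀ u v, c1 (u + v) = c1 u + c1 v := fun u v => by
    simp only [c1, xs, ys, R1, R2, Pi.add_apply, map_add, map_sub, map_mul]
    ring
  have a2 : ∀ u v, c2 (u + v) = c2 u + c2 v := fun u v => by
    simp only [c2, xs, ys, R1, R2, Pi.add_apply, map_add, map_sub, map_mul]
    ring
  have a3 : ∀ u v, c3 (u + v) = c3 u + c3 v := fun u v => by
    simp only [c3, Pi.add_apply, map_add]
    ring
  have m1 : ∀ t v, c1 (t • v) = φ t * c1 v := fun t v => by
    simp only [c1, xs, ys, R1, R2, Pi.smul_apply, smul_eq_mul, map_add, map_sub, map_mul]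
    ring
  have m2 : ∀ t v, c2 (t • v) = φ t * c2 v := fun t v => by
    simp only [c2, xs, ys, R1, R2, Pi.smul_apply, smul_eq_mul, map_add, map_sub, map_mul]
    ring
  have m3 : ∀ t v, c3 (t • v) = φ t * c3 v := fun t v => by
    simp only [c3, Pi.smul_apply, smul_eq_mul, map_mul]
    ring
  have hpair : ∀ {x y x' y' : F}, φ x + φ y * ω = φ x' + φ y' * ω → x = x' ∧ y = y' := by
    intro x y x' y' h
    have h' := hind (x - x') (y - y') (by simp only [map_sub]; linear_combination h)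
    exact ⟨sub_eq_zero.mp h'.1, sub_eq_zero.mp h'.2⟩
  let E : ((Fin 2 ⊕ Fin 2) ⊕ Fin 2 → F) → Matrix (Fin 4) (Fin 4) K := fun v =>
    Cfsg.Agent.Lib.LowIso.altMat (c1 v) (c2 v) (c3 v) (σ (c3 v)) (-σ (c2 v)) (σ (c1 v))
  let ρ : Cfsg.SU 4 K q →* Module.End K (Matrix (Fin 4) (Fin 4) K) :=
    Cfsg.Agent.Lib.LowIso.congAction.comp ((Cfsg.slToMat 4 K).comp (Cfsg.SU 4 K q).subtype)
  have hg : ∀ g : Cfsg.SU 4 K q, g.1.1.transpose * g.1.1.map σ = 1 := fun g => by
    ext i j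
    have h := (Cfsg.Agent.Lib.Unitary.mem_SU_iff.mp g.2) (Pi.single i 1) (Pi.single j 1)
    rw [Cfsg.Agent.Lib.Unitary.herm_std hK, Matrix.mulVec_single_one, Matrix.mulVec_single_one]
      at h
    rw [Matrix.one_apply, ← h]
    simp [Matrix.mul_apply, Cfsg.hermForm, hσ]
  obtain ⟨φ', hφ⟩ := Cfsg.Agent.Lib.LowIso.exists_hom φ ρ E
    (fun u v => by
      simp only [E, a1, a2, a3, map_add, neg_add, Cfsg.Agent.Lib.LowIso.Herm4.altMat_add])
    (fun t v => by
      have ht : σ (φ t) = φ t := hfix t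
      simp only [E, m1, m2, m3, map_mul, ht]
      ext i j; fin_cases i <;> fin_cases j <;> simp [Cfsg.Agent.Lib.LowIso.altMat])
    (fun u v h => by
      have h1 : c1 u = c1 v := by
        simpa [E, Cfsg.Agent.Lib.LowIso.altMat] using congrFun (congrFun h 0) 1
      have h2 : c2 u = c2 v := by
        simpa [E, Cfsg.Agent.Lib.LowIso.altMat] using congrFun (congrFun h 0) 2
      have h3 : c3 u = c3 v := by
        simpa [E, Cfsg.Agent.Lib.LowIso.altMat] using congrFun (congrFun h 0) 3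
      obtain ⟨hx, hy⟩ := hpair (mul_left_cancel₀ hc0 h2)
      obtain ⟨hx1, hy1⟩ := hpair h1
      obtain ⟨hz1, hz2⟩ := hpair h3
      rw [hx] at hx1
      rw [hy] at hy1
      have l0 := add_right_cancel hx1
      have l1 := add_right_cancel hy1
      have r0 : R1 u = R1 v := by rw [← e1, ← e1, hx, hy]
      have r1 : R2 u = R2 v := by rw [← e2, ← e2, hx, hy]
      simp only [R1, R2, l0, l1, sub_left_inj] at r0 r1
      funext k
      rcases k with (k | k) | k <;> fin_cases k <;> assumption)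
    (Cfsg.quadFormMinus 2 F a b) Cfsg.Agent.Lib.LowIso.pf
    (fun g v => by
      show Cfsg.Agent.Lib.LowIso.pf (g.1.1 * E v * g.1.1.transpose) = _
      rw [Cfsg.Agent.Lib.LowIso.pf_conj, g.1.2, one_mul])
    (fun v => by
      have n1 : c1 v * σ (c1 v) = _ := hN _ _
      have n3 : c3 v * σ (c3 v) = _ := hN _ _
      have n2 : c2 v * σ (c2 v) =
          -φ (xs v ^ 2 + a * xs v * ys v + b * ys v ^ 2) := by
        have h := hN (xs v) (ys v)
        show c2 v * (c2 v) ^ q = _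
        simp only [c2, mul_pow]
        linear_combination (c * c ^ q) * h + φ (xs v ^ 2 + a * xs v * ys v + b * ys v ^ 2) * hc
      have f1 : Cfsg.quadFormMinus 2 F a b v =
          ((v (.inl (.inl 0)) + xs v) ^ 2
            + a * (v (.inl (.inl 0)) + xs v) * (v (.inl (.inl 1)) + ys v)
            + b * (v (.inl (.inl 1)) + ys v) ^ 2)
            - (xs v ^ 2 + a * xs v * ys v + b * ys v ^ 2)
            + (v (.inr 0) ^ 2 + a * v (.inr 0) * v (.inr 1) + b * v (.inr 1) ^ 2) := by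
        have h1 := e1 v
        have h2 := e2 v
        simp only [R1, R2] at h1 h2
        simp only [Cfsg.quadFormMinus, Fin.sum_univ_two]
        linear_combination -v (.inl (.inl 0)) * h1 - v (.inl (.inl 1)) * h2
      rw [f1, Cfsg.Agent.Lib.LowIso.pf_altMat]
      simp only [map_add, map_sub] at n1 n2 n3 ⊢
      linear_combination n1 + n2 + n3)
    (fun g v => by
      obtain ⟨p, r, s, h⟩ := (Cfsg.Agent.Lib.LowIso.Herm4.twisted_conj (g := g.1.1) g.1.2 (hg g)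
        (Cfsg.Agent.Lib.LowIso.Herm4.twisted_altMat hσσ (c1 v) (c2 v) (c3 v))).eq
      obtain ⟨x, y, hxy⟩ := hsurj p
      obtain ⟨x', y', hxy'⟩ := hsurj (r / c)
      obtain ⟨z1, z2, hz⟩ := hsurj s
      let w : ((Fin 2 ⊕ Fin 2) ⊕ Fin 2 → F) := Sum.elim (Sum.elim ![x - x', y - y'] ![x + x' + a * y, b * (y + y') + a * x'])
        ![z1, z2]
      have hxs : xs w = x' := by
        simp only [xs, R1, R2, w, Sum.elim_inl, Sum.elim_inr, Matrix.cons_val_zero,
          Matrix.cons_val_one]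
        linear_combination x' * mul_inv_cancel₀ hD
      have hys : ys w = y' := by
        simp only [ys, R1, R2, w, Sum.elim_inl, Sum.elim_inr, Matrix.cons_val_zero,
          Matrix.cons_val_one]
        linear_combination y' * mul_inv_cancel₀ hD
      have hp : c1 w = p := by simp [c1, hxs, hys, w, hxy]
      have hr : c2 w = r := by simp [c2, hxs, hys, hxy', mul_div_cancel₀ _ hc0]
      have hs : c3 w = s := by simp [c3, w, hz]
      refine ⟨w, ?_⟩
      show Cfsg.Agent.Lib.LowIso.altMat _ _ _ _ _ _ = g.1.1 * _ * g.1.1.transpose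
      rw [h, hp, hr, hs])
  refine Cfsg.Agent.Lib.LowIso.nonempty_pOmega_equiv _ φ'
    (Cfsg.Agent.Lib.Unitary.commutator_SU hK (by norm_num) (by norm_num))
    (Cfsg.Agent.Lib.Unitary.isSimpleGroup_PSU hK (by norm_num) (by norm_num)) ?_ ?_
  · let g0 : Matrix.SpecialLinearGroup (Fin 4) K :=
      ⟨!![0, -1, 0, 0; 1, 0, 0, 0; 0, 0, 1, 0; 0, 0, 0, 1],
        by simp [Matrix.det_succ_row_zero, Fin.sum_univ_succ, Fin.succAbove]⟩
    have hm : g0 ∈ Cfsg.SU 4 K q := by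
      rw [Cfsg.Agent.Lib.Unitary.mem_SU_iff]
      intro u v
      simp [g0, Cfsg.hermForm, Fin.sum_univ_succ, Matrix.mulVec, dotProduct,
        Cfsg.Agent.Lib.Unitary.neg_pow_q hK]
      ring
    refine ⟨⟨g0, hm⟩, fun h => ?_⟩
    have h1 := hφ ⟨g0, hm⟩ (Sum.elim 0 ![1, 0])
    rw [h] at h1
    simp only [OneMemClass.coe_one, Units.val_one, Matrix.one_mulVec] at h1
    change _ = g0.1 * _ * g0.1.transpose at h1
    have h2 := congrFun (congrFun h1 0) 2
    simp [E, c1, c2, c3, xs, ys, R1, R2, g0, Cfsg.Agent.Lib.LowIso.altMat, Matrix.mul_apply,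
      Fin.sum_univ_succ, hσ] at h2
  · show Nat.card _ = Nat.card (Cfsg.PSU 4 K q)
    have hP := Cfsg.Agent.Lib.OrthOmega.card_pOmega_minus (F := F) hF 3 le_rfl hab
    have hS := Cfsg.Agent.Lib.Unitary.card_PSU (F := K) (n := 4) hK (by norm_num)
    have hU := Cfsg.Agent.Lib.Unitary.card_SU (F := K) (n := 4) hK (by norm_num)
    rw [← hS, Cfsg.Agent.Lib.Unitary.card_GU hK] at hU
    have hg : Nat.gcd 4 (q ^ 3 + 1) = Nat.gcd 4 (q + 1) := by
      rw [Nat.gcd_rec 4 (q ^ 3 + 1), Nat.gcd_rec 4 (q + 1)]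
      have : q % 4 = 0 ∨ q % 4 = 1 ∨ q % 4 = 2 ∨ q % 4 = 3 := by omega
      rcases this with h | h | h | h <;> simp [Nat.add_mod, Nat.pow_mod, h]
    rw [hg] at hP
    refine Nat.eq_of_mul_eq_mul_left (Nat.gcd_pos_of_pos_left _ (by norm_num : 0 < 4))
      (hP.trans ?_)
    refine Nat.eq_of_mul_eq_mul_left (show 0 < q + 1 by omega) ?_
    rw [hU]
    simp [Finset.prod_range_succ, Nat.even_iff]
    ring

end Cfsg.Agent.S0303
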