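import Cfsg.Statements.S3742
import Mathlib.GroupTheory.SpecificGroups.Quaternion
import Mathlib.Data.Fintype.Perm

set_option autoImplicit false
open Cfsg

namespace Cfsg.Agent.S3742

open QuaternionGroup in
/-- The axis attached to the edge `{u, v}` of the tetrahedron. -/
def axis (u v : Fin 4) : QuaternionGroup 2 :=
  match u.val, v.val with
  | 0, 1 => a 1 | 1, 0 => a 1 | 2, 3 => a 3 | 3, 2 => a 3
  | 0, 2 => xa 0 | 2, 0 => xa 0 | 1, 3 => xa 2 | 3, 1 => xa 2
  | 0, 3 => xa 3 | 3, 0 => xa 3 | 1, 2 => xa 1 | 2, 1 => xa 1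
  | _, _ => 1

/-- Parity of the number of inversions. -/
def odd4 (σ : Fin 4 → Fin 4) : Bool :=
  let b : Fin 4 → Fin 4 → Bool := fun i j => decide (σ j < σ i)
  xor (xor (xor (b 0 1) (b 0 2)) (xor (b 0 3) (b 1 2))) (xor (b 1 3) (b 2 3))

/-- Image of `i`. -/
def imX (σ : Fin 4 → Fin 4) : QuaternionGroup 2 :=
  if odd4 σ then (axis (σ 0) (σ 1))⁻¹ else axis (σ 0) (σ 1)

/-- Image of `j`. -/
def imY (σ : Fin 4 → Fin 4) : QuaternionGroup 2 :=
  if odd4 σ then (axis (σ 0) (σ 2))⁻¹ else axis (σ 0) (σ 2)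

/-- The action on the quaternions. -/
def act (σ : Equiv.Perm (Fin 4)) : QuaternionGroup 2 → QuaternionGroup 2
  | .a i => imX σ ^ i.val
  | .xa i => imY σ * imX σ ^ i.val

theorem act_hom : ∀ σ : Equiv.Perm (Fin 4), ∀ g h : QuaternionGroup 2,
    act σ (g * h) = act σ g * act σ h := by decide +kernel

theorem act_comp : ∀ σ τ : Equiv.Perm (Fin 4), ∀ g : QuaternionGroup 2,
    act (σ * τ) g = act σ (act τ g) := by decide +kernel

theorem act_one : ∀ g : QuaternionGroup 2, act 1 g = g := by decide +kernel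

theorem act_faithful : ∀ σ : Equiv.Perm (Fin 4), (∀ g, act σ g = g) → σ = 1 := by decide +kernel

theorem act_surj : ∀ x y : QuaternionGroup 2, x * y ≠ y * x →
    ∃ σ : Equiv.Perm (Fin 4), act σ (.a 1) = x ∧ act σ (.xa 0) = y := by decide +kernel

theorem gen (g : QuaternionGroup 2) :
    g ∈ Subgroup.closure ({.a 1, .xa 0} : Set (QuaternionGroup 2)) := by
  have h1 : ∀ g : QuaternionGroup 2, ∃ i : Fin 4, g = (QuaternionGroup.a 1) ^ i.val ∨
      g = QuaternionGroup.xa 0 * (QuaternionGroup.a 1) ^ i.val := by decide +kernel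
  obtain ⟨i, h | h⟩ := h1 g <;> rw [h]
  · exact pow_mem (Subgroup.subset_closure (by simp)) _
  · exact mul_mem (Subgroup.subset_closure (by simp)) (pow_mem (Subgroup.subset_closure (by simp)) _)

/-- The homomorphism `S₄ → Aut Q₈`. -/
def toAut : Equiv.Perm (Fin 4) →* MulAut (QuaternionGroup 2) where
  toFun σ :=
  { toFun := act σ
    invFun := act σ⁻¹
    left_inv := fun g => by rw [← act_comp, inv_mul_cancel, act_one]
    right_inv := fun g => by rw [← act_comp, mul_inv_cancel, act_one]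
    map_mul' := act_hom σ }
  map_one' := MulEquiv.ext act_one
  map_mul' σ τ := MulEquiv.ext (act_comp σ τ)

/-- The automorphism group of the quaternion group of order 8 is isomorphic to the symmetric group of degree 4. -/
theorem result : Nonempty (MulAut (QuaternionGroup 2) ≃* Equiv.Perm (Fin 4)) := by
  refine ⟨(MulEquiv.ofBijective toAut ⟨?_, ?_⟩).symm⟩
  · rw [injective_iff_map_eq_one]
    intro σ h
    exact act_faithful σ fun g => DFunLike.congr_fun h g
  · intro α
    obtain ⟨σ, hx, hy⟩ := act_surj (α (.a 1)) (α (.xa 0)) (by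
      rw [← map_mul, ← map_mul]
      intro h
      exact absurd (α.injective h) (by decide))
    refine ⟨σ, MulEquiv.ext fun g => ?_⟩
    have hEq : Set.EqOn ⇑(toAut σ).toMonoidHom ⇑α.toMonoidHom
        (Subgroup.closure ({.a 1, .xa 0} : Set (QuaternionGroup 2)) : Set (QuaternionGroup 2)) :=
      MonoidHom.eqOn_closure (fun z hz => by rcases hz with rfl | rfl; exacts [hx, hy])
    exact hEq (gen g)

end Cfsg.Agent.S3742
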