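import Cfsg.Statements.S2079
import Cfsg.Agent.S1696
import Cfsg.Agent.Lib.CosetEnum.Fi22x3510.Enum
import Cfsg.Agent.Lib.CosetEnum.Fi22Out.Check

set_option autoImplicit false
open Cfsg

namespace Cfsg.Agent.S2079

open Cfsg.Agent.Lib.CosetEnum

/-- The outer automorphism group of the Fischer group Fi₂₂ (the finitely presented group of the definitions) has order 2. -/
theorem result : Nat.card (Cfsg.Out Cfsg.Spor.Fi22) = 2 := by
  obtain ⟨ρ, hρ, -, htr⟩ := Fi22x3510.enum.action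
  obtain ⟨hsimple, hord⟩ := Cfsg.Agent.S1696.result
  haveI : IsSimpleGroup (PresentedGroup (Cfsg.Spor.coxRelators Cfsg.Spor.Fi22.edges ∪ {r | r ∈ Cfsg.Spor.Fi22.extra})) := hsimple
  have hinj : Function.Injective ρ := by
    rw [← MonoidHom.ker_eq_bot_iff]
    rcases (MonoidHom.normal_ker ρ).eq_bot_or_eq_top with h | h
    · exact h
    · exfalso
      obtain ⟨x, hx⟩ := htr ⟨1, by omega⟩
      have h1 : ρ x = 1 := by rw [← MonoidHom.mem_ker, h]; trivial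
      rw [h1] at hx
      exact absurd (congrArg Fin.val hx) (by decide)
  exact card_out_two_presWK Fi22x3510.letters _
    (sameRels_cox Fi22x3510.letters [Cfsg.Spor.Fi22.Gen.a, Cfsg.Spor.Fi22.Gen.b, Cfsg.Spor.Fi22.Gen.c, Cfsg.Spor.Fi22.Gen.d, Cfsg.Spor.Fi22.Gen.e, Cfsg.Spor.Fi22.Gen.f, Cfsg.Spor.Fi22.Gen.g, Cfsg.Spor.Fi22.Gen.h, Cfsg.Spor.Fi22.Gen.i] _ _ rfl (by decide +kernel))
    Fi22x3510.letters_ok Fi22x3510.table_ok.col
    (by decide +kernel) ρ hρ hinj hord (by omega) Fi22Out.certK Fi22Out.reps Fi22Out.slp_ok (by decide) Fi22Out.slpI_ok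
    Fi22Out.img_ok Fi22Out.lx_ok Fi22Out.ls_ok Fi22Out.bs_ok Fi22Out.rels_ok Fi22Out.img_ne (by decide)
    Fi22Out.trip_ok Fi22Out.cand_ok Fi22Out.words_ok Fi22Out.cent_x Fi22Out.cent_s Fi22Out.slp3_ok Fi22Out.table3_ok
    Fi22Out.gen3_ok (by norm_num [Fi22Out.certK, Fi22Out.tripK]) (by norm_num [Fi22Out.certK, Fi22Out.tripK])

end Cfsg.Agent.S2079
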