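import Cfsg.Statements.S1688
import Cfsg.Agent.Lib.CosetEnum.Fi23Orbit.Facts
import Cfsg.Agent.S1696

set_option autoImplicit false
open Cfsg

namespace Cfsg.Agent.S1688

open Cfsg.Agent.Lib.CosetEnum

/-- Connected involutions with the braid relation are equal in an abelian quotient. -/
theorem braid_eq {A : Type*} [CommGroup A] {x y : A} (hx : x * x = 1) (hy : y * y = 1)
    (h : (x * y) ^ 3 = 1) : x = y := by
  have h2 : (x * y) ^ 2 = 1 := by rw [mul_pow, sq, sq, hx, hy, one_mul]
  rw [pow_succ, h2, one_mul] at h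
  calc x = x * (y * y) := by rw [hy, mul_one]
    _ = y := by rw [← mul_assoc, h, one_mul]

/-- The subgroup has no non-trivial homomorphism to a group of order 2. -/
theorem no_hom_two {A : Type*} [Group A] (hA : Nat.card A = 2) (χ : Fi23Orbit.J →* A) :
    ∀ x, χ x = 1 := by
  haveI : Fact (Nat.Prime 2) := ⟨Nat.prime_two⟩
  haveI : IsCyclic A := isCyclic_of_prime_card hA
  letI : CommGroup A := IsCyclic.commGroup
  have hS := Fi23x31671.rels_mem
  have hok := Fi23x31671.letters_ok
  have hcol := Fi23x31671.table_ok.col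
  let q : ℕ → A := fun g =>
    if hg : g < Fi23Orbit.emb.length then χ (Fi23Orbit.gen g hg) else 1
  have hrel : ∀ (ws : List ℕ), (∀ g ∈ ws, g < Fi23Orbit.emb.length) →
      ws.map (fun g => Fi23Orbit.emb.getD g 0) ∈ Fi23x31671.letters.RL → (ws.map q).prod = 1 := by
    intro ws hws hmem
    have h1 := Letters.prod_rel (S := Fi23x31671.pres) hS hok hcol hmem
    let w' : List Fi23Orbit.J := ws.attach.map fun g => Fi23Orbit.gen g.1 (hws g.1 g.2)
    have hw' : w'.prod = 1 := by
      apply Subtype.ext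
      rw [Subgroup.coe_one, Subgroup.val_list_prod, ← h1]
      simp only [w', List.map_map, Function.comp_def]
      rw [← List.attach_map_val (l := ws) (f := fun g => Fi23x31671.letters.phi Fi23x31671.pres (Fi23Orbit.emb.getD g 0))]
      congr 1
    have := congrArg χ hw'
    rw [map_one, map_list_prod] at this
    rw [← this, List.map_map, ← List.attach_map_val (l := ws) (f := q)]
    congr 1
    apply List.map_congr_left
    intro g _
    simp only [Function.comp_apply, q, dif_pos (hws g.1 g.2)]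
  have hsq : ∀ g, g < 9 → q g * q g = 1 := by
    intro g hg
    have := hrel [g, g] (by simp; exact hg) (by interval_cases g <;> decide +kernel)
    simpa using this
  have he : ∀ g h, g < 9 → h < 9 →
      [g, h, g, h, g, h].map (fun g => Fi23Orbit.emb.getD g 0) ∈ Fi23x31671.letters.RL → q g = q h := by
    intro g h hg hh hmem
    have := hrel [g, h, g, h, g, h] (by simp [Fi23Orbit.emb]; omega) hmem
    refine braid_eq (hsq g hg) (hsq h hh) ?_
    simpa [pow_succ, mul_assoc] using this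
  have e1 : q 0 = q 1 := he 0 1 (by omega) (by omega) (by decide +kernel)
  have e2 : q 1 = q 2 := he 1 2 (by omega) (by omega) (by decide +kernel)
  have e3 : q 2 = q 3 := he 2 3 (by omega) (by omega) (by decide +kernel)
  have e4 : q 3 = q 4 := he 3 4 (by omega) (by omega) (by decide +kernel)
  have e5 : q 4 = q 5 := he 4 5 (by omega) (by omega) (by decide +kernel)
  have e6 : q 5 = q 6 := he 5 6 (by omega) (by omega) (by decide +kernel)
  have e7 : q 3 = q 7 := he 3 7 (by omega) (by omega) (by decide +kernel)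
  have e8 : q 7 = q 8 := he 7 8 (by omega) (by omega) (by decide +kernel)
  have hall : ∀ g < 9, q g = q 3 := by
    intro g hg
    interval_cases g <;> simp only [e1, e2, e3, ← e4, ← e5, ← e6, ← e7, ← e8]
  have h9 := hrel ((List.replicate 9 [0, 1, 2, 3, 4, 5, 7]).flatten) (by decide +kernel) (by decide +kernel)
  rw [List.map_congr_left (g := fun _ => q 3) (fun g hg => hall g (by
    have := (by decide +kernel : ∀ g ∈ (List.replicate 9 [0, 1, 2, 3, 4, 5, 7]).flatten, g < 9) g hg
    exact this))] at h9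
  simp only [List.map_const', List.prod_replicate] at h9
  have h3 : q 3 = 1 := by
    have h63 : q 3 ^ 63 = 1 := h9
    rw [show (63 : ℕ) = 2 * 31 + 1 from rfl, pow_succ, pow_mul, sq, hsq 3 (by omega), one_pow,
      one_mul] at h63
    exact h63
  intro x
  have : χ = 1 := by
    apply MonoidHom.eq_of_eqOn_dense Fi23Orbit.gen_closure
    rintro _ ⟨g, hg, rfl⟩
    have := hall g hg
    rw [h3] at this
    simpa [q, hg] using this
  rw [this]; rfl

/-- In the presented Fischer group Fi₂₃, the subgroup generated by the images of a, …, i is a non-split double cover of the presented Fischer group Fi₂₂. -/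
theorem result : Cfsg.IsNonsplitDoubleCover (((Subgroup.closure ({Cfsg.Spor.Fi23.a, Cfsg.Spor.Fi23.b, Cfsg.Spor.Fi23.c, Cfsg.Spor.Fi23.d, Cfsg.Spor.Fi23.e, Cfsg.Spor.Fi23.f, Cfsg.Spor.Fi23.g, Cfsg.Spor.Fi23.h, Cfsg.Spor.Fi23.i} : Set (FreeGroup Cfsg.Spor.Fi23.Gen))).map (PresentedGroup.mk (Cfsg.Spor.coxRelators Cfsg.Spor.Fi23.edges ∪ {r | r ∈ Cfsg.Spor.Fi23.extra})))) Cfsg.Spor.Fi22 := by
  rw [map_closure_eq_subOf Fi23x31671.letters _ Fi23x31671.subWords (by decide +kernel)
    [Cfsg.Spor.Fi23.a, Cfsg.Spor.Fi23.b, Cfsg.Spor.Fi23.c, Cfsg.Spor.Fi23.d, Cfsg.Spor.Fi23.e, Cfsg.Spor.Fi23.f, Cfsg.Spor.Fi23.g, Cfsg.Spor.Fi23.h, Cfsg.Spor.Fi23.i]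
    (by decide +kernel) _ (by ext; simp)]
  rw [Fi23Orbit.J_eq]
  obtain ⟨ρ, ρJ, -, -, -, -, hρJ, hge, hz, hz1, -, hJ⟩ := Fi23Orbit.main
  obtain ⟨hsimple, hFcard⟩ := Cfsg.Agent.S1696.result
  obtain ⟨ρF, hρF⟩ := exists_tableHom Fi23Orbit.letters Fi22x3510.pres
    (sameRels_cox _ [Cfsg.Spor.Fi22.Gen.a, Cfsg.Spor.Fi22.Gen.b, Cfsg.Spor.Fi22.Gen.c, Cfsg.Spor.Fi22.Gen.d,
      Cfsg.Spor.Fi22.Gen.e, Cfsg.Spor.Fi22.Gen.f, Cfsg.Spor.Fi22.Gen.g, Cfsg.Spor.Fi22.Gen.h,
      Cfsg.Spor.Fi22.Gen.i] _ _ rfl (by decide +kernel)) Fi22x3510.letters_ok Fi23Orbit.table_ok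
  haveI hFfin : Finite (PresentedGroup Fi22x3510.pres) := Nat.finite_of_card_ne_zero (by
    intro h
    have := hFcard.symm.trans h
    omega)
  haveI hJfin : Finite Fi23Orbit.J := Nat.finite_of_card_ne_zero (by rw [hJ]; omega)
  have hrange : ρJ.range = ρF.range := by
    have h1 : ρJ.range = Subgroup.closure (ρJ '' {x | ∃ g hg, Fi23Orbit.gen g hg = x}) := by
      rw [← MonoidHom.map_closure, Fi23Orbit.gen_closure, ← MonoidHom.range_eq_map]
    have h2 : ρF.range = Subgroup.closure (ρF '' {x | ∃ g < Fi23Orbit.letters.K, Fi23Orbit.letters.phi _ g = x}) := by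
      rw [← MonoidHom.map_closure, Letters.gen_closure Fi22x3510.table_ok.col, ← MonoidHom.range_eq_map]
    have heq : ∀ g, ∀ hg : g < Fi23Orbit.emb.length,
        ρJ (Fi23Orbit.gen g hg) = ρF (Fi23Orbit.letters.phi _ g) := by
      intro g hg
      apply inv_injective
      apply Equiv.ext
      intro m
      apply Fin.ext
      rw [hρJ g hg m, hρF g hg m]
      rfl
    rw [h1, h2]
    congr 1
    ext y
    constructor
    · rintro ⟨_, ⟨g, hg, rfl⟩, rfl⟩; exact ⟨_, ⟨g, hg, rfl⟩, (heq g hg).symm⟩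
    · rintro ⟨_, ⟨g, hg, rfl⟩, rfl⟩; exact ⟨_, ⟨g, hg, rfl⟩, heq g hg⟩
  have hFc : Nat.card (PresentedGroup Fi22x3510.pres) = 64561751654400 := hFcard
  have hinjF : Function.Injective ρF := by
    have h1 : Nat.card ρF.range ≤ Nat.card (PresentedGroup Fi22x3510.pres) :=
      Nat.card_le_card_of_surjective ρF.rangeRestrict ρF.rangeRestrict_surjective
    have hb : Function.Bijective ρF.rangeRestrict :=
      (Nat.bijective_iff_surjective_and_card _).2 ⟨ρF.rangeRestrict_surjective, by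
        rw [← hrange] at h1 ⊢; omega⟩
    intro a b hab
    exact hb.1 (Subtype.ext hab)
  let eF : PresentedGroup Fi22x3510.pres ≃* ρF.range := MonoidHom.ofInjective hinjF
  have hcard : Nat.card ρJ.range = 64561751654400 := by
    rw [hrange, ← Nat.card_congr eF.toEquiv, hFc]
  have hk : Nat.card ρJ.ker = 2 := by
    have h := ρJ.ker.card_mul_index
    rw [Subgroup.index_ker, hcard, hJ] at h
    exact Nat.eq_of_mul_eq_mul_right (by omega : 0 < 64561751654400) (h.trans (by norm_num))
  have hkc : ρJ.ker ≤ Subgroup.center Fi23Orbit.J := by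
    intro k hk'
    rw [Subgroup.mem_center_iff]
    intro g
    by_cases h1 : k = 1
    · simp [h1]
    have hconj : g * k * g⁻¹ ∈ ρJ.ker := Subgroup.Normal.conj_mem inferInstance k hk' g
    have hkfin : Finite ρJ.ker := inferInstance
    obtain ⟨a, b, hab, huniv⟩ := Nat.card_eq_two_iff.1 hk
    have hmem : ∀ u : ρJ.ker, u = 1 ∨ u = ⟨k, hk'⟩ := by
      intro u
      have e1 : (1 : ρJ.ker) ∈ ({a, b} : Set ρJ.ker) := huniv ▸ Set.mem_univ _
      have e2 : (⟨k, hk'⟩ : ρJ.ker) ∈ ({a, b} : Set ρJ.ker) := huniv ▸ Set.mem_univ _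
      have e3 : u ∈ ({a, b} : Set ρJ.ker) := huniv ▸ Set.mem_univ _
      have hne : (1 : ρJ.ker) ≠ ⟨k, hk'⟩ := fun h => h1 (congrArg Subtype.val h).symm
      simp only [Set.mem_insert_iff, Set.mem_singleton_iff] at e1 e2 e3
      rcases e1 with e1 | e1 <;> rcases e2 with e2 | e2 <;> rcases e3 with e3 | e3 <;> simp_all
    rcases hmem ⟨_, hconj⟩ with h | h
    · exact absurd (conj_eq_one_iff.1 (congrArg Subtype.val h)) h1
    · have h' : g * k * g⁻¹ = k := congrArg Subtype.val h
      calc g * k = g * k * g⁻¹ * g := by group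
        _ = k * g := by rw [h']
  haveI : IsSimpleGroup (PresentedGroup Fi22x3510.pres) := hsimple
  have hcenter : Subgroup.center Fi23Orbit.J = ρJ.ker := by
    refine le_antisymm ?_ hkc
    intro c hc
    rw [MonoidHom.mem_ker]
    by_contra hne
    obtain ⟨y, hy⟩ : ρJ c ∈ ρF.range := hrange ▸ ⟨c, rfl⟩
    have hyc : y ∈ Subgroup.center (PresentedGroup Fi22x3510.pres) := by
      rw [Subgroup.mem_center_iff]
      intro u
      apply hinjF
      obtain ⟨v, hv⟩ : ρF u ∈ ρJ.range := hrange ▸ ⟨u, rfl⟩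
      rw [map_mul, map_mul, hy, ← hv, ← map_mul, ← map_mul, Subgroup.mem_center_iff.1 hc v]
    rcases (Subgroup.center (PresentedGroup Fi22x3510.pres)).normal_of_characteristic.eq_bot_or_eq_top with h | h
    · rw [h, Subgroup.mem_bot] at hyc
      exact hne (by rw [← hy, hyc, map_one])
    · haveI : IsMulCommutative (PresentedGroup Fi22x3510.pres) :=
        ⟨⟨fun a b => (Subgroup.mem_center_iff.1 (h ▸ Subgroup.mem_top b : b ∈ _) a)⟩⟩
      letI : CommGroup (PresentedGroup Fi22x3510.pres) := { mul_comm := mul_comm' }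
      have hp := IsSimpleGroup.prime_card (α := PresentedGroup Fi22x3510.pres)
      rw [hFc] at hp
      exact absurd hp (by norm_num)
  refine ⟨hcenter ▸ hk, ⟨(QuotientGroup.quotientMulEquivOfEq hcenter).trans
    ((QuotientGroup.quotientKerEquivRange ρJ).trans
      ((MulEquiv.subgroupCongr hrange).trans eF.symm))⟩, ?_⟩
  intro L hL
  have hc2 : Nat.card (Subgroup.center Fi23Orbit.J) = 2 := hcenter ▸ hk
  have hLn : L.Normal := by
    refine ⟨fun n hn g => ?_⟩
    obtain ⟨⟨⟨c, hc⟩, ⟨l, hl⟩⟩, hcl, -⟩ := Subgroup.isComplement_iff_existsUnique.1 hL g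
    rw [← hcl]
    change c * l * n * (c * l)⁻¹ ∈ L
    have hm : l * n * l⁻¹ ∈ L := L.mul_mem (L.mul_mem hl hn) (L.inv_mem hl)
    have : c * l * n * (c * l)⁻¹ = l * n * l⁻¹ := by
      calc c * l * n * (c * l)⁻¹ = c * (l * n * l⁻¹) * c⁻¹ := by group
        _ = (l * n * l⁻¹) * c * c⁻¹ := by rw [Subgroup.mem_center_iff.1 hc]
        _ = l * n * l⁻¹ := by group
    rw [this]; exact hm
  haveI := hLn
  have hidx : L.index = 2 := by rw [hL.index_eq_card, hc2]
  have htriv := no_hom_two (A := Fi23Orbit.J ⧸ L) hidx (QuotientGroup.mk' L)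
  have : L = ⊤ := by
    rw [eq_top_iff]
    intro x _
    exact (QuotientGroup.eq_one_iff x).1 (htriv x)
  rw [this, Subgroup.index_top] at hidx
  omega

end Cfsg.Agent.S1688
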