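import Cfsg.Statements.S2064
import Cfsg.Agent.Lib.OutTrivial.CertM24

set_option autoImplicit false
open Cfsg

namespace Cfsg.Agent.S2064

open Cfsg.Agent.Lib
open scoped Pointwise

/-- The outer automorphism group of the Mathieu group M₂₄ (the automorphism group of the length-24 binary code) is trivial: every automorphism is inner. -/
theorem result : Nat.card (Cfsg.Out ↥Cfsg.M24) = 1 := by
  have hK : ∀ g, g ∈ M24 ↔ OutTrivial.M24Cert.data.spec.Holds g := by
    intro g
    simp [OutTrivial.M24Cert.data, OutTrivial.Spec.Holds]
  open OutTrivial.M24Cert in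
  exact OutTrivial.card_out_one_of_cert hK ok (show data.p.Prime by decide +kernel) okExp 
    (by rw [Golay.card_M24]; decide +kernel) gens_eq g_check (Golay.card_M24.trans order_eq.symm)

end Cfsg.Agent.S2064
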