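import Cfsg.Statements.S5375
import Cfsg.Agent.Lib.FischerMTypes.IndexTwoLayer
import Cfsg.Agent.Lib.FischerMTypes.ParityM24
import Cfsg.Agent.Lib.FischerMTypes.QuasiM22
import Cfsg.Agent.Lib.FischerMTypes.StepGroup
-- import your own Cfsg.Agent.* helpers here

set_option autoImplicit false
open Cfsg

namespace Cfsg.Agent.S5375

/-- Let G be a finite group with trivial centre generated by a conjugation-invariant set D of 3-transpositions on which it acts primitively, of type M(24). Then the layer of G (its largest semisimple normal subgroup) has index 2, D has exactly 306936 members, G has order 2^22 · 3^16 · 5^2 · 7^3 · 11 · 13 · 17 · 23 · 29, the width of D is 24, and for every d in D the subgroup generated by the members of D other than d commuting with d is the centralizer of d. -/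
theorem result {G : Type*} [Group G] [Finite G] {D : Set G} (hD : Cfsg.IsThreeTranspositionGroup D) (hprim : Cfsg.IsPrimitiveUnderConj D) (ht : Cfsg.IsOfTypeM24 G D) : (Cfsg.layer G).index = 2 ∧ D.ncard = 306936 ∧ Nat.card G = 2 ^ 22 * 3 ^ 16 * 5 ^ 2 * 7 ^ 3 * 11 * 13 * 17 * 23 * 29 ∧ Cfsg.commutingWidth D = 24 ∧ ∀ d ∈ D, Subgroup.closure {y : G | y ∈ D ∧ y ≠ d ∧ Commute d y} = Subgroup.centralizer ({d} : Set G) := by
  obtain ⟨Q, iQ, iQ', E, Q₂, i₂, i₂', E₂, F, iF, iF', S22, S23, hM, ⟨S⟩⟩ :=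
    Lib.FischerMTypes.M24Data.exists_step hD hprim ht
  have P := Lib.FischerMTypes.M24Data.pinned S22 S23 hM ht S
  have hN : D.ncard = 306936 := (S.ncard_class P (F := 275264) (by norm_num)).trans (by norm_num)
  have P₂ := Lib.FischerMTypes.M23Data.pinned S23.hD S23.hprim hM S22 S23
  have hQ : Nat.card Q = 2 ^ 18 * 3 ^ 13 * 5 ^ 2 * 7 * 11 * 13 * 17 * 23 := by
    rw [S23.card_group P₂, S23.ncard_class P₂ (F := 28160) (by norm_num),
      Lib.FischerMTypes.OrderWidth.card_group S22]
    norm_num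
  have hG : Nat.card G = 2 ^ 22 * 3 ^ 16 * 5 ^ 2 * 7 ^ 3 * 11 * 13 * 17 * 23 * 29 := by
    rw [S.card_group P, hN, hQ]
    norm_num
  obtain ⟨a, ha, -⟩ := hprim.2.1
  obtain ⟨b, hb, c, hc, hbc⟩ := S.exists_perp_noncomm P.small ha
  have hidx := Lib.FischerMTypes.IndexTwoLayer.index_two hD hprim ha
    (Lib.FischerMTypes.ParityM24.parity S22 S23 S hM P ha)
  have hcard : Nat.card ↥(commutator G) = 2 ^ 21 * 3 ^ 16 * 5 ^ 2 * 7 ^ 3 * 11 * 13 * 17 * 23 * 29 := by
    have h := Subgroup.card_mul_index (commutator G)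
    rw [hidx, hG] at h
    norm_num at h ⊢
    omega
  have hsimple : IsSimpleGroup ↥(commutator G) :=
    Lib.FischerMTypes.IndexTwoLayer.simple hD hprim S.hZ ha (p := 29) (by norm_num)
      (by rw [hcard]; norm_num) (by rw [hcard]; norm_num)
  refine ⟨?_, hN, hG,
    (S.width (S23.width (Lib.FischerMTypes.OrderWidth.width S22))).trans (by norm_num),
    fun d hd => Lib.FischerMTypes.Step.StepData.centralizer_eq S P hd⟩
  rw [Lib.FischerMTypes.IndexTwoLayer.layer_eq hD hprim S.hZ ha hb.1 hc.1 hb.2.2 hc.2.2 hbc hsimple]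
  exact hidx

end Cfsg.Agent.S5375
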