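import Cfsg.Statements.S2608
import Cfsg.Agent.Lib.OutPOmegaPlus52.Large
import Cfsg.Agent.Lib.OutPOmegaPlus52.D4
-- import your own Cfsg.Agent.* helpers here

set_option autoImplicit false
open Cfsg

namespace Cfsg.Agent.S2608

/-- Outer automorphism group of PΩ⁺_2m(q), q = p^f odd: for m = 4 it is S_4 × C_f (triality); for m ≥ 5 it is C_2 × C_2 × C_f when q ≡ 3 (mod 4) and m is odd, and D_8 × C_f otherwise. -/
theorem result {F : Type*} [Field F] [Fintype F] {p f m : ℕ} [Fact p.Prime] (hf : 1 ≤ f) (hF : Fintype.card F = p ^ f) (hp : p ≠ 2) (hm : 4 ≤ m) : if m = 4 then Nonempty (Cfsg.Out (Cfsg.POmega F (Cfsg.quadFormPlus m F)) ≃* Equiv.Perm (Fin 4) × Multiplicative (ZMod f)) else if p ^ f % 4 = 3 ∧ Odd m then Nonempty (Cfsg.Out (Cfsg.POmega F (Cfsg.quadFormPlus m F)) ≃* Multiplicative (ZMod 2 × ZMod 2 × ZMod f)) else Nonempty (Cfsg.Out (Cfsg.POmega F (Cfsg.quadFormPlus m F)) ≃* DihedralGroup 4 × Multiplicative (ZMod f))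 := by
  have hpodd : Odd p := (Fact.out : p.Prime).odd_of_ne_two hp
  have h2 : (2 : F) ≠ 0 := Lib.OrthOmega.two_ne_zero_of_odd (by rw [hF]; exact hpodd.pow)
  split_ifs with h h'
  · subst h
    obtain ⟨C, H⟩ := Lib.OutPOmegaPlus52.exists_commOK
    obtain ⟨e⟩ := Lib.OutPOmegaPlus52.out_plus_four_eight (F := F)
    obtain ⟨e'⟩ := Lib.OutPOmegaPlus52.out_D4_odd C H hF h2
    exact ⟨e.trans e'⟩
  · exact Lib.OutPOmegaPlus52.out_plus_two hm (by omega) hF h2
      (by rw [Lib.AutPOmega.gcd_four_pow_sub_one hpodd.pow (by omega), if_pos h'])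
  · exact Lib.OutPOmegaPlus52.out_plus_four hm (by omega) hF h2
      (by rw [Lib.AutPOmega.gcd_four_pow_sub_one hpodd.pow (by omega), if_neg h'])

end Cfsg.Agent.S2608
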