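import Cfsg.Statements.S5515
import Cfsg.Agent.S2608
import Cfsg.Agent.Lib.Components.GenFitting
import Cfsg.Agent.Lib.OrthOmega.Simple

set_option autoImplicit false
open Cfsg

namespace Cfsg.Agent.S5515

open Subgroup

private theorem fixed_pt : ∀ σ : Equiv.Perm (Fin 4), σ * σ * σ = 1 → σ ≠ 1 →
    ∃ i, σ i = i ∧ ∀ j, σ j = j → j = i := by decide

private theorem stab_card_le : ∀ i : Fin 4,
    Fintype.card ↥(MulAction.stabilizer (Equiv.Perm (Fin 4)) i) ≤ 6 := by decide

/-- a subgroup of order six of `Sym(4)` is a point stabiliser -/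
theorem exists_stabilizer (H : Subgroup (Equiv.Perm (Fin 4))) (hH : Nat.card H = 6) :
    ∃ i : Fin 4, H = MulAction.stabilizer (Equiv.Perm (Fin 4)) i := by
  have : Fact (Nat.Prime 3) := ⟨Nat.prime_three⟩
  obtain ⟨σ, hσ⟩ := exists_prime_orderOf_dvd_card' (G := H) 3 (by rw [hH]; norm_num)
  have h3 : (σ : Equiv.Perm (Fin 4)) * σ * σ = 1 := by
    have := pow_orderOf_eq_one σ
    rw [hσ, pow_succ, pow_two] at this
    exact congrArg Subtype.val this
  have h1 : (σ : Equiv.Perm (Fin 4)) ≠ 1 := fun h => by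
    rw [show σ = 1 from Subtype.ext h, orderOf_one] at hσ
    omega
  obtain ⟨i, hi, hu⟩ := fixed_pt _ h3 h1
  have hn : (Subgroup.zpowers σ).Normal := Subgroup.normal_of_index_eq_two (by
    have := (Subgroup.zpowers σ).card_mul_index
    rw [Nat.card_zpowers, hσ, hH] at this
    omega)
  refine ⟨i, eq_of_le_of_card_ge (fun h hh => ?_) ?_⟩
  · have hm := hn.conj_mem σ (Subgroup.mem_zpowers σ) ⟨h, hh⟩⁻¹
    obtain ⟨k, hk⟩ := hm
    have hfix : (σ : Equiv.Perm (Fin 4)) (h i) = h i := by
      have hk' : (h⁻¹ * σ * h : Equiv.Perm (Fin 4)) = (σ : Equiv.Perm (Fin 4)) ^ k := by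
        simpa using (congrArg Subtype.val hk).symm
      have := congrArg (fun p : Equiv.Perm (Fin 4) => p i) hk'
      rw [Equiv.Perm.zpow_apply_eq_self_of_apply_eq_self hi k] at this
      simp only [Equiv.Perm.mul_apply] at this
      have h2 := congrArg h this
      simpa using h2
    exact MulAction.mem_stabilizer_iff.mpr (hu _ hfix)
  · rw [hH, Nat.card_eq_fintype_card]
    exact stab_card_le i

/-- subgroups of order six of a group isomorphic to `Sym(4)` are conjugate -/
theorem exists_conj_six {O : Type*} [Group O] (e : O ≃* Equiv.Perm (Fin 4)) (A B : Subgroup O)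
    (hA : Nat.card A = 6) (hB : Nat.card B = 6) :
    ∃ o : O, A.map (MulAut.conj o).toMonoidHom = B := by
  obtain ⟨i, hi⟩ := exists_stabilizer (A.map e.toMonoidHom)
    (by rw [Subgroup.card_map_of_injective e.injective, hA])
  obtain ⟨j, hj⟩ := exists_stabilizer (B.map e.toMonoidHom)
    (by rw [Subgroup.card_map_of_injective e.injective, hB])
  refine ⟨e.symm (Equiv.swap i j), Subgroup.map_injective (f := e.toMonoidHom) e.injective ?_⟩
  rw [Subgroup.map_map, hj]
  have hc : e.toMonoidHom.comp (MulAut.conj (e.symm (Equiv.swap i j))).toMonoidHom =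
      (MulAut.conj (Equiv.swap i j)).toMonoidHom.comp e.toMonoidHom := by
    ext x
    simp [MulAut.conj_apply]
  rw [hc, ← Subgroup.map_map, hi, ← MulAction.stabilizer_smul_eq_stabilizer_map_conj]
  congr 1
  simp [Equiv.swap_apply_left]

/-- a finite group with `F*` a copy of `T` and quotient `Sym(3)` is a subgroup of `Aut T` -/
theorem exists_model {T : Type*} [Group T] (hZ : Subgroup.center T = ⊥) {G : Type*} [Group G]
    [Finite G] (hF : Nonempty (↥(Cfsg.generalizedFittingSubgroup G) ≃* T))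
    [hn : (Cfsg.generalizedFittingSubgroup G).Normal]
    (hq : Nonempty (G ⧸ Cfsg.generalizedFittingSubgroup G ≃* Equiv.Perm (Fin 3))) :
    ∃ A : Subgroup (Cfsg.Out T), Nat.card A = 6 ∧
      Nonempty (G ≃* ↥(A.comap (QuotientGroup.mk' (Cfsg.Inn T)))) := by
  obtain ⟨eT⟩ := hF
  obtain ⟨q⟩ := hq
  set L := Cfsg.generalizedFittingSubgroup G with hL
  let φ : G →* MulAut T := (MulAut.congr eT).toMonoidHom.comp MulAut.conjNormal
  have hφ : ∀ g t, φ g t = eT (MulAut.conjNormal g (eT.symm t)) := fun _ _ => rfl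
  have hconj : ∀ l : L, φ (l : G) = MulAut.conj (eT l) := fun l => by
    refine MulEquiv.ext fun t => ?_
    rw [hφ, MulAut.conj_apply]
    have : MulAut.conjNormal (l : G) (eT.symm t) = l * eT.symm t * l⁻¹ := Subtype.ext (by simp)
    rw [this, map_mul, map_mul, map_inv, eT.apply_symm_apply]
  have hinj : Function.Injective φ := by
    refine (injective_iff_map_eq_one φ).mpr fun g hg => ?_
    have hc : g ∈ Subgroup.centralizer (L : Set G) := by
      rw [Subgroup.mem_centralizer_iff]
      intro x hx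
      have := DFunLike.congr_fun hg (eT ⟨x, hx⟩)
      rw [hφ, eT.symm_apply_apply, MulAut.one_apply, eT.injective.eq_iff] at this
      have h2 : g * x * g⁻¹ = x := by simpa using congrArg Subtype.val this
      exact (mul_inv_eq_iff_eq_mul.mp h2).symm
    have hgL : g ∈ L := Lib.Components.GenFitting.centralizer_le hc
    have hz : eT ⟨g, hgL⟩ ∈ Subgroup.center T := by
      refine Subgroup.mem_center_iff.mpr fun t => ?_
      obtain ⟨x, rfl⟩ := eT.surjective t
      rw [← map_mul, ← map_mul]
      exact congrArg eT (Subtype.ext (Subgroup.mem_centralizer_iff.mp hc x x.2))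
    rw [hZ, Subgroup.mem_bot, map_eq_one_iff eT eT.injective] at hz
    exact congrArg Subtype.val hz
  set π := QuotientGroup.mk' (Cfsg.Inn T)
  have hIn : Cfsg.Inn T ≤ φ.range := by
    rintro _ ⟨t, rfl⟩
    exact ⟨(eT.symm t : L), by rw [hconj, eT.apply_symm_apply]⟩
  have hker : (π.comp φ).ker = L := by
    ext g
    rw [MonoidHom.mem_ker, MonoidHom.comp_apply, QuotientGroup.mk'_apply, QuotientGroup.eq_one_iff]
    constructor
    · rintro ⟨t, ht⟩
      have : φ (eT.symm t : L) = φ g := by rw [hconj, eT.apply_symm_apply, ht]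
      rw [← hinj this]
      exact (eT.symm t).2
    · exact fun hg => ⟨eT ⟨g, hg⟩, (hconj ⟨g, hg⟩).symm⟩
  refine ⟨(π.comp φ).range, ?_, ?_⟩
  · rw [← Nat.card_congr (QuotientGroup.quotientKerEquivRange (π.comp φ)).toEquiv,
      ← Nat.card_congr (QuotientGroup.quotientMulEquivOfEq hker).symm.toEquiv,
      Nat.card_congr q.toEquiv, Nat.card_eq_fintype_card]
    rfl
  · have hr : (π.comp φ).range.comap π = φ.range := by
      rw [MonoidHom.range_comp, Subgroup.comap_map_eq, QuotientGroup.ker_mk', sup_eq_left.mpr hIn]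
    rw [hr]
    exact ⟨MonoidHom.ofInjective hinj⟩

/-- uniqueness of the extension, for an abstract socle -/
theorem unique_extension {T : Type*} [Group T] (e : Cfsg.Out T ≃* Equiv.Perm (Fin 4))
    (hZ : Subgroup.center T = ⊥) {G G' : Type*} [Group G] [Finite G] [Group G'] [Finite G']
    (hF : Nonempty (↥(Cfsg.generalizedFittingSubgroup G) ≃* T))
    (hF' : Nonempty (↥(Cfsg.generalizedFittingSubgroup G') ≃* T))
    [hn : (Cfsg.generalizedFittingSubgroup G).Normal] [hn' : (Cfsg.generalizedFittingSubgroup G').Normal]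
    (hq : Nonempty (G ⧸ Cfsg.generalizedFittingSubgroup G ≃* Equiv.Perm (Fin 3)))
    (hq' : Nonempty (G' ⧸ Cfsg.generalizedFittingSubgroup G' ≃* Equiv.Perm (Fin 3))) :
    Nonempty (G ≃* G') := by
  obtain ⟨A, hA, ⟨a⟩⟩ := exists_model hZ hF hq
  obtain ⟨B, hB, ⟨b⟩⟩ := exists_model hZ hF' hq'
  obtain ⟨o, ho⟩ := exists_conj_six e A B hA hB
  obtain ⟨γ, rfl⟩ := QuotientGroup.mk'_surjective _ o
  have hAB : (A.comap (QuotientGroup.mk' (Cfsg.Inn T))).map (MulAut.conj γ).toMonoidHom =
      B.comap (QuotientGroup.mk' (Cfsg.Inn T)) := by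
    rw [← ho]
    ext x
    simp only [Subgroup.mem_map, Subgroup.mem_comap, MulEquiv.coe_toMonoidHom, MulAut.conj_apply]
    constructor
    · rintro ⟨y, hy, rfl⟩
      exact ⟨_, hy, by rw [map_mul, map_mul, map_inv]⟩
    · rintro ⟨z, hz, hzx⟩
      refine ⟨γ⁻¹ * x * γ, ?_, by group⟩
      rw [map_mul, map_mul, map_inv, ← hzx]
      simpa [mul_assoc] using hz
  exact ⟨a.trans (((Subgroup.equivMapOfInjective _ (MulAut.conj γ).toMonoidHom
    (MulAut.conj γ).injective).trans (MulEquiv.subgroupCongr hAB)).trans b.symm)⟩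

set_option maxHeartbeats 1000000 in
/-- Let G and G′ be finite groups whose generalized Fitting subgroups are isomorphic to PΩ⁺(8, 3) (the commutator subgroup of the isometry group of the hyperbolic quadratic form in dimension 8 over the field with three elements, modulo its centre) with quotients isomorphic to the symmetric group of degree 3. Then G and G′ are isomorphic. -/
theorem result {G G' : Type*} [Group G] [Finite G] [Group G'] [Finite G'] (hF : Nonempty (↥(Cfsg.generalizedFittingSubgroup G) ≃* Cfsg.POmega (ZMod 3) (Cfsg.quadFormPlus 4 (ZMod 3)))) (hF' : Nonempty (↥(Cfsg.generalizedFittingSubgroup G') ≃* Cfsg.POmega (ZMod 3) (Cfsg.quadFormPlus 4 (ZMod 3)))) [hn : (Cfsg.generalizedFittingSubgroup G).Normal] [hn' : (Cfsg.generalizedFittingSubgroup G').Normal] (hq : Nonempty (G ⧸ Cfsg.generalizedFittingSubgroup G ≃* Equiv.Perm (Fin 3))) (hq' : Nonempty (G' ⧸ Cfsg.generalizedFittingSubgroup G' ≃* Equiv.Perm (Fin 3))) : Nonempty (G ≃* G') := by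
  let T := Cfsg.POmega (ZMod 3) (Cfsg.quadFormPlus 4 (ZMod 3))
  have hS : IsSimpleGroup T := Lib.OrthOmega.isSimpleGroup_pOmega_plus 4 (by norm_num)
  have h8 := S2608.result (F := ZMod 3) (p := 3) (f := 1) (m := 4) le_rfl (by simp) (by norm_num) le_rfl
  rw [if_pos rfl] at h8
  obtain ⟨e₀⟩ := h8
  let e : Cfsg.Out T ≃* Equiv.Perm (Fin 4) := e₀.trans MulEquiv.prodUnique
  have hZ : Subgroup.center T = ⊥ := by
    refine (hS.eq_bot_or_eq_top_of_normal _ inferInstance).resolve_right fun htop => ?_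
    have hc : ∀ a b : T, a * b = b * a := fun a b =>
      Subgroup.mem_center_iff.mp (htop ▸ Subgroup.mem_top b : b ∈ Subgroup.center T) a
    let : CommGroup T := { (inferInstance : Group T) with mul_comm := hc }
    obtain ⟨g, hg⟩ := IsCyclic.exists_generator (α := T)
    have hab : ∀ a b : MulAut T, a * b = b * a := fun a b => by
      obtain ⟨m, hm⟩ := hg (a g)
      obtain ⟨k, hk⟩ := hg (b g)
      refine MulEquiv.ext fun x => ?_
      obtain ⟨j, rfl⟩ := hg x
      simp only at hm hk
      simp only [MulAut.mul_apply, map_zpow, ← hm, ← hk, ← zpow_mul]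
      congr 1
      ring
    have : ∀ a b : Equiv.Perm (Fin 4), a * b = b * a := fun a b => by
      obtain ⟨x, rfl⟩ := e.surjective a
      obtain ⟨y, rfl⟩ := e.surjective b
      obtain ⟨x, rfl⟩ := QuotientGroup.mk'_surjective _ x
      obtain ⟨y, rfl⟩ := QuotientGroup.mk'_surjective _ y
      rw [← map_mul, ← map_mul, ← map_mul, ← map_mul, hab]
    exact absurd (this (Equiv.swap 0 1) (Equiv.swap 1 2)) (by decide)
  exact unique_extension e hZ hF hF' hq hq'

end Cfsg.Agent.S5515
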