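import Cfsg.Statements.S5516
import Cfsg.Agent.S5515
import Cfsg.Agent.Lib.O8Three.Main

set_option autoImplicit false
open Cfsg

namespace Cfsg.Agent.S5516

open Cfsg.Agent.Lib Cfsg.Agent.Lib.O7Three.Cert Cfsg.Agent.Lib.O8Three.Rep Cfsg.Agent.Lib.O8Three.Twist

local instance fact_three : Fact (Nat.Prime 3) := ⟨Nat.prime_three⟩

theorem map_conj_mul {T : Type*} [Group T] (α : MulAut T) (t : T) :
    α * MulAut.conj t = MulAut.conj (α t) * α := by
  ext y
  simp [MulAut.mul_apply, MulAut.conj_apply]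

/-- A group with socle `T` and quotient `Sym(3)` acts on `T` as the extension by a given `Sym(3)`. -/
theorem exists_action {T : Type*} [Group T] (eO : Cfsg.Out T ≃* Equiv.Perm (Fin 4))
    (α : Equiv.Perm (Fin 3) →* MulAut T) (hα : ∀ π, α π ∈ Cfsg.Inn T → π = 1)
    {G : Type*} [Group G] [Finite G] (L : Subgroup G) [L.Normal]
    (hL : L = Cfsg.generalizedFittingSubgroup G) (eT : ↥L ≃* T)
    (q : G ⧸ L ≃* Equiv.Perm (Fin 3)) :
    ∃ (Φ : G →* MulAut T) (e : ↥L ≃* T), (∀ g l, Φ g (e l) = e (MulAut.conjNormal g l)) ∧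
      (∀ g, ∃ π t, Φ g = MulAut.conj t * α π) ∧ ∀ π t, ∃ g, Φ g = MulAut.conj t * α π := by
  let φ : G →* MulAut T := (MulAut.congr eT).toMonoidHom.comp MulAut.conjNormal
  have hφ : ∀ g t, φ g t = eT (MulAut.conjNormal g (eT.symm t)) := fun _ _ => rfl
  have hconj : ∀ l : ↥L, φ (l : G) = MulAut.conj (eT l) := fun l => by
    refine MulEquiv.ext fun t => ?_
    rw [hφ, MulAut.conj_apply]
    have : MulAut.conjNormal (l : G) (eT.symm t) = l * eT.symm t * l⁻¹ := Subtype.ext (by simp)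
    rw [this, map_mul, map_mul, map_inv, eT.apply_symm_apply]
  set p := QuotientGroup.mk' (Cfsg.Inn T) with hp
  have hpconj : ∀ t : T, p (MulAut.conj t) = 1 := fun t => (QuotientGroup.eq_one_iff _).2 ⟨t, rfl⟩
  have hker : (p.comp φ).ker = L := by
    ext g
    rw [MonoidHom.mem_ker, MonoidHom.comp_apply, hp, QuotientGroup.mk'_apply, QuotientGroup.eq_one_iff]
    constructor
    · rintro ⟨t, ht⟩
      obtain ⟨l, rfl⟩ := eT.surjective t
      have hc : g * (l : G)⁻¹ ∈ Subgroup.centralizer (L : Set G) := by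
        rw [Subgroup.mem_centralizer_iff]
        intro x hx
        have h1 : φ (g * (l : G)⁻¹) = 1 := by rw [map_mul, map_inv, hconj, ht, mul_inv_cancel]
        have h2 := DFunLike.congr_fun h1 (eT ⟨x, hx⟩)
        rw [hφ, eT.symm_apply_apply, MulAut.one_apply, eT.injective.eq_iff] at h2
        have h3 : g * (l : G)⁻¹ * x * (g * (l : G)⁻¹)⁻¹ = x := by
          rw [← MulAut.conjNormal_apply (g * (l : G)⁻¹) (⟨x, hx⟩ : ↥L)]
          exact congrArg Subtype.val h2
        exact (mul_inv_eq_iff_eq_mul.mp h3).symm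
      subst hL
      have h4 := mul_mem (Lib.Components.GenFitting.centralizer_le hc) l.2
      rwa [inv_mul_cancel_right] at h4
    · exact fun hg => ⟨eT ⟨g, hg⟩, (hconj ⟨g, hg⟩).symm⟩
  have hA : Nat.card (p.comp φ).range = 6 := by
    rw [← Nat.card_congr (QuotientGroup.quotientKerEquivRange (p.comp φ)).toEquiv,
      ← Nat.card_congr (QuotientGroup.quotientMulEquivOfEq hker).symm.toEquiv,
      Nat.card_congr q.toEquiv, Nat.card_eq_fintype_card]
    rfl
  have hinj : Function.Injective (p.comp α) := (injective_iff_map_eq_one _).2 fun π h =>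
    hα π ((QuotientGroup.eq_one_iff _).1 h)
  have hA' : Nat.card (p.comp α).range = 6 := by
    rw [← Nat.card_congr (MonoidHom.ofInjective hinj).toEquiv, Nat.card_eq_fintype_card]
    rfl
  obtain ⟨o, ho⟩ := S5515.exists_conj_six eO _ _ hA hA'
  obtain ⟨γ, rfl⟩ := QuotientGroup.mk'_surjective _ o
  refine ⟨(MulAut.conj γ).toMonoidHom.comp φ, eT.trans γ, fun g l => ?_, fun g => ?_, fun π t => ?_⟩
  · show (γ * φ g * γ⁻¹) (γ (eT l)) = γ (eT (MulAut.conjNormal g l))
    rw [MulAut.mul_apply, MulAut.mul_apply, MulAut.inv_apply_self, hφ, eT.symm_apply_apply]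
  · obtain ⟨π, hπ⟩ : p (γ * φ g * γ⁻¹) ∈ (p.comp α).range := by
      rw [← ho]
      exact ⟨p (φ g), ⟨g, rfl⟩, by rw [map_mul, map_mul, map_inv]; rfl⟩
    obtain ⟨t, ht⟩ : (α π)⁻¹ * (γ * φ g * γ⁻¹) ∈ Cfsg.Inn T := by
      rw [← QuotientGroup.eq]
      exact hπ
    refine ⟨π, α π t, ?_⟩
    show γ * φ g * γ⁻¹ = _
    rw [← map_conj_mul, ht, mul_inv_cancel_left]
  · obtain ⟨_, ⟨g, rfl⟩, hg⟩ : (p.comp α) π ∈ (p.comp φ).range.map (MulAut.conj (p γ)).toMonoidHom :=
      ho ▸ ⟨π, rfl⟩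
    obtain ⟨u, hu⟩ : (γ * φ g * γ⁻¹)⁻¹ * (MulAut.conj t * α π) ∈ Cfsg.Inn T := by
      rw [← QuotientGroup.eq]
      show p (γ * φ g * γ⁻¹) = p (MulAut.conj t * α π)
      rw [map_mul _ (MulAut.conj t), hpconj, one_mul, map_mul, map_mul, map_inv]
      exact hg
    obtain ⟨l, hl⟩ := eT.surjective (γ.symm u)
    refine ⟨g * l, ?_⟩
    show γ * φ (g * l) * γ⁻¹ = _
    have hcl : γ * φ (l : G) * γ⁻¹ = MulAut.conj u := by
      rw [hconj, hl, map_conj_mul, mul_inv_cancel_right, MulEquiv.apply_symm_apply]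
    rw [map_mul, show γ * (φ g * φ l) * γ⁻¹ = γ * φ g * γ⁻¹ * (γ * φ l * γ⁻¹) by group, hcl, hu,
      mul_inv_cancel_left]

/-- Conjugacy of subgroups of the socle is the action. -/
theorem map_conj_eq {T : Type*} [Group T] {G : Type*} [Group G] {L : Subgroup G} [L.Normal]
    (Φ : G →* MulAut T) (e : ↥L ≃* T) (h : ∀ g l, Φ g (e l) = e (MulAut.conjNormal g l)) (g : G)
    (Z : Subgroup T) :
    (Z.map (L.subtype.comp e.symm.toMonoidHom)).map (MulAut.conj g).toMonoidHom =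
      (Z.map (Φ g).toMonoidHom).map (L.subtype.comp e.symm.toMonoidHom) := by
  rw [Subgroup.map_map, Subgroup.map_map]
  congr 1
  refine MonoidHom.ext fun z => ?_
  have h1 := h g (e.symm z)
  rw [e.apply_symm_apply] at h1
  show g * ((e.symm z : ↥L) : G) * g⁻¹ = ((e.symm (Φ g z) : ↥L) : G)
  rw [h1, e.symm_apply_apply, MulAut.conjNormal_apply]

theorem map_mul_aut {T : Type*} [Group T] (a b : MulAut T) (Z : Subgroup T) :
    Z.map (a * b).toMonoidHom = (Z.map b.toMonoidHom).map a.toMonoidHom := by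
  rw [Subgroup.map_map]; rfl


/-- PΩ⁺(8, 3) (the commutator subgroup of the isometry group of the hyperbolic quadratic form in dimension 8 over the field with three elements, modulo its centre) has exactly 13 conjugacy classes of subgroups of order 3; and a finite group G whose generalized Fitting subgroup L is isomorphic to PΩ⁺(8, 3) with G/L the symmetric group of degree 3 has exactly 7 orbits, under conjugation, on the subgroups of L of order 3. -/
theorem result {G : Type*} [Group G] [Finite G] (L : Subgroup G) (hL : L = Cfsg.generalizedFittingSubgroup G) (hF : Nonempty (↥L ≃* Cfsg.POmega (ZMod 3) (Cfsg.quadFormPlus 4 (ZMod 3)))) [hn : L.Normal] (hq : Nonempty (G ⧸ L ≃* Equiv.Perm (Fin 3))) : (∃ Y : Fin 13 → Subgroup (Cfsg.POmega (ZMod 3) (Cfsg.quadFormPlus 4 (ZMod 3))), (∀ i, Nat.card (Y i) = 3) ∧ (∀ i j, (∃ g : Cfsg.POmega (ZMod 3) (Cfsg.quadFormPlus 4 (ZMod 3)), (Y i).map (MulAut.conj g).toMonoidHom = Y j) → i = j) ∧ (∀ X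 : Subgroup (Cfsg.POmega (ZMod 3) (Cfsg.quadFormPlus 4 (ZMod 3))), Nat.card X = 3 → ∃ i, ∃ g : Cfsg.POmega (ZMod 3) (Cfsg.quadFormPlus 4 (ZMod 3)), X.map (MulAut.conj g).toMonoidHom = Y i)) ∧ ∃ Y : Fin 7 → Subgroup G, (∀ i, Y i ≤ L ∧ Nat.card (Y i) = 3) ∧ (∀ i j, (∃ g : G, (Y i).map (MulAut.conj g).toMonoidHom = Y j) → i = j) ∧ ∀ X : Subgroup G, X ≤ L → Nat.card X = 3 → ∃ i, ∃ g : G, X.map (MulAut.conj g).toMonoidHom = Y i := by
  obtain ⟨eT⟩ := hF
  obtain ⟨q⟩ := hq
  obtain ⟨Y13, h13, h13i, h13e⟩ := O8Three.Main.classes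
  refine ⟨⟨Y13, h13, h13i, h13e⟩, ?_⟩
  obtain ⟨Y, hY, hYi, hYe⟩ := O8Three.Main.orbits
  have h8 := S2608.result (F := ZMod 3) (p := 3) (f := 1) (m := 4) le_rfl (by simp) (by norm_num) le_rfl
  rw [if_pos rfl] at h8
  obtain ⟨e₀⟩ := h8
  obtain ⟨Φ, e, hΦ, hd, hs⟩ := exists_action (T := T) (e₀.trans MulEquiv.prodUnique) aut aut_out L hL eT q
  let j : T →* G := L.subtype.comp e.symm.toMonoidHom
  have hj : Function.Injective j := L.subtype_injective.comp e.symm.injective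
  refine ⟨fun i => (Y i).map j, fun i => ⟨?_, ?_⟩, fun a b => ?_, fun X hXL hX => ?_⟩
  · rintro _ ⟨y, -, rfl⟩
    exact (e.symm y).2
  · rw [← Nat.card_congr (Subgroup.equivMapOfInjective _ j hj).toEquiv, hY]
  · rintro ⟨g, hg⟩
    rw [map_conj_eq Φ e hΦ] at hg
    have h1 := Subgroup.map_injective hj hg
    obtain ⟨π, t, hgt⟩ := hd g
    rw [hgt, map_mul_aut] at h1
    exact hYi a b π ⟨t, h1⟩
  · set Z := (X.subgroupOf L).map e.toMonoidHom with hZ
    have hXZ : Z.map j = X := by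
      rw [hZ, Subgroup.map_map]
      have he : j.comp e.toMonoidHom = L.subtype :=
        MonoidHom.ext fun l => by simp [j]
      rw [he, Subgroup.map_subgroupOf_eq_of_le hXL]
    have hZc : Nat.card Z = 3 := by
      rw [Nat.card_congr (Subgroup.equivMapOfInjective Z j hj).toEquiv, hXZ, hX]
    obtain ⟨i, π, t, ht⟩ := hYe Z hZc
    obtain ⟨g, hg⟩ := hs π t
    refine ⟨i, g, ?_⟩
    rw [← hXZ, map_conj_eq Φ e hΦ, hg, map_mul_aut, ht]

end Cfsg.Agent.S5516
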