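import Cfsg.Statements.S1686
import Cfsg.Agent.Lib.CosetEnum.O7Rep.Hom
import Cfsg.Agent.S1696

set_option autoImplicit false
open Cfsg

namespace Cfsg.Agent.S1686
open Cfsg.Agent.Lib.CosetEnum

/-- In the presented Fischer group Fi₂₂, the subgroup generated by the images of b, …, i is isomorphic to PΩ(7, 3), the commutator subgroup of the isometry group of the quadratic form x₀² + x₁y₁ + x₂y₂ + x₃y₃ over the integers mod 3, modulo its centre. -/
theorem result : Nonempty ((((Subgroup.closure ({Cfsg.Spor.Fi22.b, Cfsg.Spor.Fi22.c, Cfsg.Spor.Fi22.d, Cfsg.Spor.Fi22.e, Cfsg.Spor.Fi22.f, Cfsg.Spor.Fi22.g, Cfsg.Spor.Fi22.h, Cfsg.Spor.Fi22.i} : Set (FreeGroup Cfsg.Spor.Fi22.Gen))).map (PresentedGroup.mk (Cfsg.Spor.coxRelators Cfsg.Spor.Fi22.edges ∪ {r | r ∈ Cfsg.Spor.Fi22.extra})))) ≃* Cfsg.POmega (ZMod 3) (Cfsg.quadFormOdd 3 (ZMod 3))) := by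
  rw [map_closure_eq_subOf Fi22x14080.letters _ Fi22x14080.subWords (by decide +kernel)
    [Cfsg.Spor.Fi22.b, Cfsg.Spor.Fi22.c, Cfsg.Spor.Fi22.d, Cfsg.Spor.Fi22.e, Cfsg.Spor.Fi22.f,
      Cfsg.Spor.Fi22.g, Cfsg.Spor.Fi22.h, Cfsg.Spor.Fi22.i]
    (by decide +kernel) _ (by ext; simp)]
  obtain ⟨ψ, hψ⟩ := exists_cover (n := 7) (RL0 := Fi22Sub.RL0) Fi22x14080.letters Fi22x14080.pres
    Fi22x14080.rels_mem Fi22x14080.letters_ok Fi22x14080.table_ok.col [1, 2, 3, 4, 5, 6, 7, 8] rfl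
    (by decide +kernel)
  replace hψ : ψ.range = subOf Fi22x14080.letters Fi22x14080.pres Fi22x14080.subWords := hψ
  have hJ : 4585351680 ≤ Nat.card ψ.range := by
    have h := ψ.range.card_mul_index
    rw [hψ] at h ⊢
    rw [Fi22x14080.enum.index] at h
    have h' : Nat.card (subOf Fi22x14080.letters Fi22x14080.pres Fi22x14080.subWords) * 14080 =
        64561751654400 := h.trans Cfsg.Agent.S1696.result.2
    omega
  obtain ⟨e⟩ := O7Rep.nonempty_iso
  exact ⟨((MulEquiv.subgroupCongr hψ.symm).trans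
    (MonoidHom.ofInjective (injective_of_card ψ Fi22Sub.card_le hJ)).symm).trans e⟩

end Cfsg.Agent.S1686
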