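import Cfsg.Statements.S1631
import Cfsg.Agent.Lib.UnitaryFour.Transvection
import Cfsg.Agent.Lib.Unitary.Generation

set_option autoImplicit false
open scoped MatrixGroups
open Cfsg

namespace Cfsg.Agent.S1631


open Matrix Cfsg.Agent.Lib.Unitary Cfsg.Agent.Lib.UnitaryFour.Transvection

variable {F : Type} [Field F] [Fintype F] {n : ℕ}

theorem tv_ne_one (hF : Fintype.card F = 2 ^ 2) {w : Fin n → F}
    (hw : hermForm n F 2 w w = 0) (hw0 : w ≠ 0) : tv hF w hw ≠ 1 := fun e => hw0 (by
  refine herm_nondeg_right hF fun u => ?_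
  have h := congrArg (fun g => act g u) e
  simp only [act_tv, act_one, add_eq_left, smul_eq_zero] at h
  exact h.resolve_right hw0)

theorem rank_tv [DecidableEq F] (hF : Fintype.card F = 2 ^ 2) {w : Fin n → F}
    (hw : hermForm n F 2 w w = 0) (hw0 : w ≠ 0) :
    (((tv hF w hw).1 : Matrix (Fin n) (Fin n) F) - 1).rank = 1 := by
  have e : ∀ x, (((tv hF w hw).1 : Matrix (Fin n) (Fin n) F) - 1).mulVecLin x =
      hermForm n F 2 x w • w := fun x => by
    rw [mulVecLin_apply, sub_mulVec, one_mulVec]
    show act (tv hF w hw) x - x = _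
    rw [act_tv, add_sub_cancel_left]
  obtain ⟨u, hu⟩ : ∃ u, hermForm n F 2 u w ≠ 0 := by
    by_contra hc
    push Not at hc
    exact hw0 (herm_nondeg_right hF hc)
  have : LinearMap.range (((tv hF w hw).1 : Matrix (Fin n) (Fin n) F) - 1).mulVecLin = F ∙ w := by
    refine le_antisymm ?_ ?_
    · rintro _ ⟨x, rfl⟩
      rw [e]
      exact Submodule.smul_mem _ _ (Submodule.mem_span_singleton_self w)
    · rw [Submodule.span_singleton_le_iff_mem]
      exact ⟨(hermForm n F 2 u w)⁻¹ • u, by
        rw [map_smul, e, smul_smul, inv_mul_cancel₀ hu, one_smul]⟩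
  rw [Matrix.rank, this, finrank_span_singleton hw0]

theorem exists_tv_of_rank [DecidableEq F] (hF : Fintype.card F = 2 ^ 2) (g : SU n F 2)
    (h : ((g.1 : Matrix (Fin n) (Fin n) F) - 1).rank = 1) :
    ∃ (w : Fin n → F) (hw : hermForm n F 2 w w = 0), w ≠ 0 ∧ g = tv hF w hw := by
  obtain ⟨⟨d, hd'⟩, hd0, hspan⟩ := finrank_eq_one_iff'.1 (show Module.finrank F
    (LinearMap.range ((g.1 : Matrix (Fin n) (Fin n) F) - 1).mulVecLin) = 1 from h)
  have hd : d ≠ 0 := fun e => hd0 (Subtype.ext e)
  choose φ hφ using fun x => hspan ⟨((g.1 : Matrix (Fin n) (Fin n) F) - 1).mulVecLin x,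
    LinearMap.mem_range_self _ x⟩
  have hg : ∀ x, act g x = x + φ x • d := fun x => by
    have h1 := congrArg Subtype.val (hφ x)
    simp only [SetLike.val_smul, mulVecLin_apply, sub_mulVec, one_mulVec] at h1
    rw [h1, act_def, add_sub_cancel]
  obtain ⟨x0, hx0⟩ : ∃ x, φ x ≠ 0 := by
    by_contra hc
    push Not at hc
    obtain ⟨y, hy⟩ := hd'
    have h1 := congrArg Subtype.val (hφ y)
    simp only [hc, zero_smul, ZeroMemClass.coe_zero] at h1
    exact hd (hy.symm.trans h1.symm)
  have hiso : ∀ x y, φ x * hermForm n F 2 d y + φ y ^ 2 * hermForm n F 2 x d +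
      φ x * φ y ^ 2 * hermForm n F 2 d d = 0 := by
    intro x y
    have h1 := act_herm g x y
    rw [hg, hg] at h1
    simp only [herm_add_left, herm_add_right _ _ _ hF, herm_smul_left, herm_smul_right] at h1
    linear_combination h1
  -- the determinant forces `d` to be isotropic
  have hmat : (g.1 : Matrix (Fin n) (Fin n) F) = 1 + vecMulVec d (fun j => φ (Pi.single j 1)) := by
    ext i j
    have h1 := congrFun (hg (Pi.single j 1)) i
    simp only [act_def, mulVec_single_one, Pi.add_apply, Pi.smul_apply, smul_eq_mul] at h1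
    simp only [Matrix.add_apply, vecMulVec_apply, Matrix.one_apply, Pi.single_apply] at *
    rw [mul_comm (d i)]
    exact h1
  have hdot : (fun j => φ (Pi.single j 1)) ⬝ᵥ d = 0 := by
    have h1 := g.1.2
    rw [hmat, vecMulVec_eq Unit, det_one_add_replicateCol_mul_replicateRow] at h1
    simpa using h1
  have hφd : φ d = 0 := by
    have h1 := hg d
    rw [act_def, hmat, add_mulVec, one_mulVec, vecMulVec_mulVec, hdot] at h1
    simpa [hd] using h1
  have hdd : hermForm n F 2 d d = 0 := by
    have h1 := hiso x0 d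
    rw [hφd] at h1
    simpa [hx0] using h1
  have hrel : ∀ x y, φ x * hermForm n F 2 d y + φ y ^ 2 * hermForm n F 2 x d = 0 := fun x y => by
    have := hiso x y; rw [hdd] at this; simpa using this
  obtain ⟨y, hy⟩ := exists_hyp hF hd hdd
  have hdy : hermForm n F 2 d y = 1 := hy.2.2
  have hφx : ∀ x, φ x = φ y ^ 2 * hermForm n F 2 x d := fun x => by
    have := hrel x y; rw [hdy] at this
    linear_combination this - (φ y ^ 2 * hermForm n F 2 x d) * two_eq_zero hF
  have hy1 : φ y = 1 := by
    have h1 := hrel y y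
    rw [hdy, hy.symm' hF] at h1
    have h2 : φ y * (1 + φ y) = 0 := by linear_combination h1
    rcases mul_eq_zero.1 h2 with e | e
    · exact absurd (by rw [hφx x0, e]; ring) hx0
    · linear_combination e - two_eq_zero hF
  refine ⟨d, hdd, hd, ext' fun x => ?_⟩
  rw [hg, act_tv, hφx, hy1, one_pow, one_mul]

theorem three (hF : Fintype.card F = 2 ^ 2) {v w : Fin n → F} (hv : hermForm n F 2 v v = 0)
    (hw : hermForm n F 2 w w = 0) :
    (tv hF v hv * tv hF w hw) ^ 2 = 1 ∨ (tv hF v hv * tv hF w hw) ^ 3 = 1 := by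
  have iv : (tv hF v hv)⁻¹ = tv hF v hv := inv_eq_of_mul_eq_one_right (tv_mul_self hF hv)
  have iw : (tv hF w hw)⁻¹ = tv hF w hw := inv_eq_of_mul_eq_one_right (tv_mul_self hF hw)
  by_cases h : hermForm n F 2 v w = 0
  · left
    rw [(tv_comm hF hv hw h).mul_pow, sq, sq, tv_mul_self, tv_mul_self, one_mul]
  · right
    set a := hermForm n F 2 v w
    have hz : hermForm n F 2 (act (tv hF w hw) v) (act (tv hF w hw) v) = 0 := by rw [act_herm, hv]
    have hz' : hermForm n F 2 (act (tv hF v hv) w) (act (tv hF v hv) w) = 0 := by rw [act_herm, hw]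
    have e1 := tv_conj hF (tv hF w hw) hv hz
    have e2 := tv_conj hF (tv hF v hv) hw hz'
    rw [iw] at e1; rw [iv] at e2
    have hzz : act (tv hF w hw) v = a • act (tv hF v hv) w := by
      rw [act_tv, act_tv, smul_add, smul_smul, ← herm_conj v w hF,
        show a * a ^ 2 = 1 from norm_eq_one hF h, one_smul, add_comm]
    have e3 : tv hF (act (tv hF w hw) v) hz = tv hF (act (tv hF v hv) w) hz' :=
      (tv_eq_of_eq hF hzz hz (hzz ▸ hz)).trans (tv_smul hF hz' h _)
    rw [e1, e2] at e3
    calc (tv hF v hv * tv hF w hw) ^ 3 =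
        tv hF v hv * tv hF w hw * tv hF v hv * (tv hF w hw * tv hF v hv * tv hF w hw) := by
          simp only [pow_succ, pow_zero, one_mul, mul_assoc]
      _ = 1 := by
          rw [e3]
          calc _ = tv hF v hv * tv hF w hw * (tv hF v hv * tv hF v hv) * tv hF w hw * tv hF v hv := by
                simp only [mul_assoc]
            _ = tv hF v hv * (tv hF w hw * tv hF w hw) * tv hF v hv := by
                rw [tv_mul_self hF hv, mul_one]; simp only [mul_assoc]
            _ = 1 := by rw [tv_mul_self hF hw, mul_one, tv_mul_self hF hv]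

theorem closure_tv [DecidableEq F] (hF : Fintype.card F = 2 ^ 2) (hn : 4 ≤ n) :
    Subgroup.closure {g : SU n F 2 | ((g.1 : Matrix (Fin n) (Fin n) F) - 1).rank = 1} = ⊤ := by
  refine eq_top_iff.2 fun g _ => ?_
  let g' : GU n F 2 := ⟨Matrix.SpecialLinearGroup.toGL g.1, g.2⟩
  have hmem := mem_TGroup hF (by omega) (by omega) g' g.1.2
  have key : ∀ A : GU n F 2, A ∈ TGroup F 2 n → ∀ x : SU n F 2,
      (x.1 : Matrix (Fin n) (Fin n) F) = A.1.1 →
      x ∈ Subgroup.closure {g : SU n F 2 | ((g.1 : Matrix (Fin n) (Fin n) F) - 1).rank = 1} := by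
    intro A hA
    induction hA using Subgroup.closure_induction with
    | mem A hA =>
      intro x hx
      obtain ⟨v, c, hv, hc, hAv⟩ := hA
      have hx' : ∀ u, act x u = u + (c * hermForm n F 2 u v) • v := fun u => by
        rw [act_def]; exact hx ▸ hAv u
      by_cases h0 : c = 0 ∨ v = 0
      · have : x = 1 := ext' fun u => by
          rw [hx', act_one]; rcases h0 with e | e <;> simp [e]
        rw [this]; exact one_mem _
      push Not at h0
      have hc1 : c = 1 := by
        have : c * (c + 1) = 0 := by linear_combination hc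
        linear_combination (mul_eq_zero.1 this).resolve_left h0.1 - two_eq_zero hF
      have : x = tv hF v hv := ext' fun u => by rw [hx', hc1, one_mul, act_tv]
      rw [this]
      exact Subgroup.subset_closure (rank_tv hF hv h0.2)
    | one =>
      intro x hx
      have : x = 1 := Subtype.ext (Subtype.ext hx)
      rw [this]; exact one_mem _
    | mul A B hA hB ihA ihB =>
      intro x hx
      let a : SU n F 2 := ⟨⟨A.1.1, det_of_mem_TGroup hF hA⟩, A.2⟩
      let b : SU n F 2 := ⟨⟨B.1.1, det_of_mem_TGroup hF hB⟩, B.2⟩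
      have : x = a * b := Subtype.ext (Subtype.ext hx)
      rw [this]; exact mul_mem (ihA a rfl) (ihB b rfl)
    | inv A hA ih =>
      intro x hx
      let a : SU n F 2 := ⟨⟨A.1.1, det_of_mem_TGroup hF hA⟩, A.2⟩
      have : x = a⁻¹ := eq_inv_of_mul_eq_one_left (Subtype.ext (Subtype.ext (by
        show (x.1 : Matrix (Fin n) (Fin n) F) * A.1.1 = 1
        rw [hx]
        exact A.1.inv_val)))
      rw [this]; exact inv_mem (ih a rfl)
  exact key g' hmem g rfl

/-- The unitary transvections of SU(n, 2), n ≥ 4, form a generating conjugacy class of 3-transpositions. -/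
theorem result (F : Type) [Field F] [Fintype F] [DecidableEq F] (hF : Fintype.card F = 4) (n : ℕ) (hn : 4 ≤ n) : Cfsg.IsThreeTranspositionClass {g : ↥(Cfsg.SU n F 2) | (((g : Matrix.SpecialLinearGroup (Fin n) F) : Matrix (Fin n) (Fin n) F) - 1).rank = 1} := by
  have hF' : Fintype.card F = 2 ^ 2 := by rw [hF]; norm_num
  refine ⟨⟨fun g hg => ?_, fun g hg k hk => ?_⟩, ?_, closure_tv hF' hn⟩
  · obtain ⟨w, hw, hw0, rfl⟩ := exists_tv_of_rank hF' g hg
    exact orderOf_eq_prime (by rw [sq]; exact tv_mul_self hF' hw) (tv_ne_one hF' hw hw0)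
  · obtain ⟨v, hv, -, rfl⟩ := exists_tv_of_rank hF' g hg
    obtain ⟨w, hw, -, rfl⟩ := exists_tv_of_rank hF' k hk
    exact three hF' hv hw
  · let i : Fin n := ⟨0, by omega⟩
    let j : Fin n := ⟨1, by omega⟩
    have hij : i ≠ j := by simp [i, j]
    let w₀ : Fin n → F := fun l => if l = i ∨ l = j then 1 else 0
    have hw₀ : hermForm n F 2 w₀ w₀ = 0 := by
      rw [hermForm]
      calc (∑ l, w₀ l * w₀ l ^ 2) = ∑ l ∈ ({i, j} : Finset (Fin n)), (1 : F) := by
            rw [← Finset.sum_subset (s₁ := ({i, j} : Finset (Fin n))) (Finset.subset_univ _)]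
            · exact Finset.sum_congr rfl fun l hl => by
                simp only [Finset.mem_insert, Finset.mem_singleton] at hl
                simp [w₀, hl]
            · intro l _ hl
              simp only [Finset.mem_insert, Finset.mem_singleton] at hl
              simp [w₀, hl]
        _ = 0 := by rw [Finset.sum_pair hij]; linear_combination two_eq_zero hF'
    have hw₀0 : w₀ ≠ 0 := fun e => by simpa [w₀] using congrFun e i
    refine ⟨tv hF' w₀ hw₀, rank_tv hF' hw₀ hw₀0, Set.ext fun g => ?_⟩
    simp only [conjugatesOf, Set.mem_ofPred_eq, isConj_iff]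
    constructor
    · intro hg
      obtain ⟨w, hw, hw0, rfl⟩ := exists_tv_of_rank hF' g hg
      obtain ⟨A, hA, hAw⟩ := exists_SU_isotropic hF' (by omega) hw₀0 hw₀ hw0 hw
      let a : SU n F 2 := ⟨⟨A.1.1, hA⟩, A.2⟩
      have ha : hermForm n F 2 (act a w₀) (act a w₀) = 0 := by rw [act_herm, hw₀]
      refine ⟨a, ?_⟩
      rw [← tv_conj hF' a hw₀ ha]
      exact tv_eq_of_eq hF' hAw ha hw
    · rintro ⟨c, rfl⟩
      have hc : hermForm n F 2 (act c w₀) (act c w₀) = 0 := by rw [act_herm, hw₀]
      rw [← tv_conj hF' c hw₀ hc]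
      refine rank_tv hF' hc fun e => hw₀0 ?_
      have h := act_inv_self c w₀
      rw [e, act_def, Matrix.mulVec_zero] at h
      exact h.symm

end Cfsg.Agent.S1631
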