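import Cfsg.Statements.S0440
import Cfsg.Agent.Lib.Symplectic.Std

set_option autoImplicit false
open Cfsg Matrix Cfsg.Agent.Lib.Symplectic

namespace Cfsg.Agent.S0440

theorem zmod_two_cases : ∀ x : ZMod 2, x = 0 ∨ x = 1 := by decide

variable {n : ℕ}

/-- The isometries moving every vector along one line are the transvections. -/
theorem rank_one_iff (g : Matrix.symplecticGroup (Fin n) (ZMod 2)) :
    ((g : Matrix (Fin n ⊕ Fin n) (Fin n ⊕ Fin n) (ZMod 2)) - 1).rank = 1 ↔
      ∃ v : Fin n ⊕ Fin n → ZMod 2, v ≠ 0 ∧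
        spEquiv n (ZMod 2) g = transv (isSympForm_stdForm n (ZMod 2)) v 1 := by
  have hB := isSympForm_stdForm n (ZMod 2)
  have happ : ∀ x : Fin n ⊕ Fin n → ZMod 2,
      Matrix.mulVecLin ((g : Matrix (Fin n ⊕ Fin n) (Fin n ⊕ Fin n) (ZMod 2)) - 1) x =
        spEquiv n (ZMod 2) g • x - x := fun x => by
    rw [Matrix.mulVecLin_apply, Matrix.sub_mulVec, Matrix.one_mulVec, spEquiv_smul]
  constructor
  · intro h
    rw [Matrix.rank, finrank_eq_one_iff'] at h
    obtain ⟨⟨v, hv⟩, hv0, hall⟩ := h
    have hv0' : v ≠ 0 := fun hh => hv0 (Subtype.ext hh)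
    refine ⟨v, hv0', isom_ext fun x => ?_⟩
    have hline : ∀ x, ∃ t : ZMod 2, spEquiv n (ZMod 2) g • x = x + t • v := by
      intro x
      obtain ⟨t, ht⟩ := hall ⟨_, ⟨x, rfl⟩⟩
      have ht' : t • v = spEquiv n (ZMod 2) g • x - x := (congrArg Subtype.val ht).trans (happ x)
      exact ⟨t, by rw [ht']; abel⟩
    choose t ht using hline
    obtain ⟨y, hy⟩ := hB.exists_eq_one hv0'
    have hrel : ∀ a b, t b * stdForm n (ZMod 2) a v + t a * stdForm n (ZMod 2) v b = 0 := by
      intro a b
      have h := isom_apply_smul (spEquiv n (ZMod 2) g) a b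
      rw [ht, ht] at h
      simp only [map_add, map_smul, LinearMap.add_apply, LinearMap.smul_apply, smul_eq_mul, hB.self,
        mul_zero, add_zero] at h
      linear_combination h
    have hy' : stdForm n (ZMod 2) y v = 1 := by rw [hB.swap y v, hy]; decide
    have hxv : t x = t y * stdForm n (ZMod 2) x v := by
      have h := hrel y x
      rw [hy', mul_one, hB.swap v x, mul_neg, ← sub_eq_add_neg, sub_eq_zero] at h
      exact h
    obtain hty | hty := zmod_two_cases (t y)
    · exfalso
      have hz : ∀ z, t z = 0 := by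
        intro z
        have h := hrel y z
        rw [hy', mul_one, hty, zero_mul, add_zero] at h
        exact h
      have hmem := hv
      obtain ⟨z, hzv⟩ := hmem
      rw [happ, ht, hz, zero_smul, add_zero, sub_self] at hzv
      exact hv0' hzv.symm
    · rw [ht, transv_smul, one_mul, hxv, hty, one_mul]
  · rintro ⟨v, hv, he⟩
    rw [Matrix.rank, finrank_eq_one_iff']
    obtain ⟨y, hy⟩ := hB.exists_eq_one hv
    have hy' : stdForm n (ZMod 2) y v = 1 := by rw [hB.swap y v, hy]; decide
    have hval : ∀ x, Matrix.mulVecLin ((g : Matrix (Fin n ⊕ Fin n) (Fin n ⊕ Fin n) (ZMod 2)) - 1) x =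
        stdForm n (ZMod 2) x v • v := fun x => by
      rw [happ, he, transv_smul, one_mul]; abel
    refine ⟨⟨v, y, by rw [hval, hy', one_smul]⟩, fun hh => hv (congrArg Subtype.val hh), ?_⟩
    rintro ⟨w, x, rfl⟩
    exact ⟨stdForm n (ZMod 2) x v, Subtype.ext (hval x).symm⟩

/-- In the symplectic group in dimension 2n ≥ 2 over the field with two elements, the elements g for which g - 1 has rank one (the symplectic transvections) form a conjugacy class of 3-transpositions generating the group. -/
theorem result (n : ℕ) (hn : 1 ≤ n) : Cfsg.IsThreeTranspositionClass {g : Matrix.symplecticGroup (Fin n) (ZMod 2) | ((g : Matrix (Fin n ⊕ Fin n) (Fin n ⊕ Fin n) (ZMod 2)) - 1).rank = 1} := by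
  have hB := isSympForm_stdForm n (ZMod 2)
  let e := spEquiv n (ZMod 2)
  have hone : ∀ v : Fin n ⊕ Fin n → ZMod 2, transv hB v 1 * transv hB v 1 = 1 := fun v => by
    rw [transv_mul, show (1 : ZMod 2) + 1 = 0 by decide, transv_zero]
  have hne : ∀ v : Fin n ⊕ Fin n → ZMod 2, v ≠ 0 → transv hB v 1 ≠ 1 := by
    intro v hv h
    obtain ⟨y, hy⟩ := hB.exists_eq_one hv
    have h1 := congrArg (fun g => g • y) h
    rw [transv_smul, one_smul, one_mul, hB.swap y v, hy] at h1
    exact hv (by simpa using h1)
  refine ⟨⟨?_, ?_⟩, ?_, ?_⟩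
  · intro d hd
    obtain ⟨v, hv, he⟩ := (rank_one_iff d).1 hd
    haveI : Fact (Nat.Prime 2) := ⟨Nat.prime_two⟩
    rw [← MulEquiv.orderOf_eq e, he]
    exact orderOf_eq_prime (by rw [sq, hone]) (hne v hv)
  · intro d hd d' hd'
    obtain ⟨a, -, ha⟩ := (rank_one_iff d).1 hd
    obtain ⟨b, -, hb⟩ := (rank_one_iff d').1 hd'
    have conj : ∀ (g : Isom (stdForm n (ZMod 2))) (x : Fin n ⊕ Fin n → ZMod 2),
        g * transv hB x 1 = transv hB (g • x) 1 * g := fun g x => by
      rw [← transv_conj hB g x, inv_mul_cancel_right]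
    rcases zmod_two_cases (stdForm n (ZMod 2) b a) with h | h
    · left
      apply e.injective
      rw [map_pow, map_mul, map_one, ha, hb, sq]
      have hc := conj (transv hB a 1) b
      rw [transv_fix hB h] at hc
      rw [mul_assoc, ← mul_assoc (transv hB b 1) (transv hB a 1), ← hc,
        mul_assoc (transv hB a 1) (transv hB b 1), hone, mul_one, hone]
    · right
      apply e.injective
      rw [map_pow, map_mul, map_one, ha, hb]
      have h' : stdForm n (ZMod 2) a b = 1 := by rw [hB.swap a b, h]; decide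
      have h1 : transv hB a 1 • b = a + b := by rw [transv_smul, h, one_mul, one_smul, add_comm]
      have h2 : transv hB b 1 • a = a + b := by rw [transv_smul, h', one_mul, one_smul]
      have c1 := conj (transv hB a 1) b
      have c2 := conj (transv hB b 1) a
      rw [h1] at c1
      rw [h2] at c2
      have ka := hone a
      have kb := hone b
      generalize transv hB a 1 = A, transv hB b 1 = B, transv hB (a + b) 1 = C at c1 c2 ka kb ⊢
      have hA : A * A = 1 → B * B = 1 → (A * B) ^ 3 = 1 := by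
        intro hA hB'
        have hbr : A * B * A = B * A * B := by rw [c1, c2, mul_assoc, mul_assoc, hA, hB']
        calc (A * B) ^ 3 = A * B * A * (B * A * B) := by
              rw [pow_succ, pow_two]; simp only [mul_assoc]
          _ = A * B * A * (A * B * A) := by rw [hbr]
          _ = A * (B * (A * A) * B) * A := by simp only [mul_assoc]
          _ = 1 := by rw [hA, mul_one, hB', mul_one, hA]
      exact hA ka kb
  · let v₀ : Fin n ⊕ Fin n → ZMod 2 := Pi.single (Sum.inl ⟨0, hn⟩) 1
    have hv₀ : v₀ ≠ 0 := by simp [v₀]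
    refine ⟨e.symm (transv hB v₀ 1), (rank_one_iff _).2 ⟨v₀, hv₀, e.apply_symm_apply _⟩, ?_⟩
    ext g
    simp only [conjugatesOf, Set.mem_setOf_eq, isConj_iff, rank_one_iff]
    constructor
    · rintro ⟨w, hw, he⟩
      obtain ⟨x, hx⟩ := exists_smul_eq_of_ne_zero hB hv₀ hw
      refine ⟨e.symm x, e.injective ?_⟩
      rw [map_mul, map_mul, map_inv, e.apply_symm_apply, e.apply_symm_apply, transv_conj, hx, he]
    · rintro ⟨c, rfl⟩
      refine ⟨e c • v₀, isom_smul_ne_zero _ hv₀, ?_⟩
      rw [map_mul, map_mul, map_inv, e.apply_symm_apply, transv_conj]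
  · rw [eq_top_iff]
    intro g _
    suffices e g ∈ (Subgroup.closure {g : Matrix.symplecticGroup (Fin n) (ZMod 2) |
        ((g : Matrix (Fin n ⊕ Fin n) (Fin n ⊕ Fin n) (ZMod 2)) - 1).rank = 1}).map e.toMonoidHom by
      rwa [Subgroup.mem_map_equiv, MulEquiv.symm_apply_apply] at this
    have hTG : e g ∈ TG hB := by rw [TG_eq_top hB]; exact Subgroup.mem_top _
    refine (Subgroup.closure_le _).2 ?_ hTG
    rintro _ ⟨⟨w, c⟩, rfl⟩
    rw [SetLike.mem_coe, Subgroup.mem_map_equiv]
    rcases zmod_two_cases c with rfl | rfl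
    · simp only [transv_zero, map_one]; exact one_mem _
    by_cases hw : w = 0
    · subst hw
      simp only [transv_vec_zero, map_one]; exact one_mem _
    exact Subgroup.subset_closure ((rank_one_iff _).2 ⟨w, hw, e.apply_symm_apply _⟩)

end Cfsg.Agent.S0440
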