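import Cfsg.Statements.S5346
import Cfsg.Agent.Lib.ThreeTranspositions.Width
import Cfsg.Agent.Lib.ThreeTranspositions.QuatCentre

set_option autoImplicit false
open Cfsg
open Cfsg.Agent.Lib.ThreeTranspositions

namespace Cfsg.Agent.S5346

/-- Let D be a conjugation-invariant generating set of 3-transpositions of a finite group G and d a member of D. Then D has width 1 (no two different members of D commute) if and only if G is the product of the subgroup generated by d with the largest normal 3-subgroup of G. -/
theorem result {G : Type*} [Group G] [Finite G] {D : Set G} (hD : Cfsg.IsThreeTranspositionGroup D) {d : G} (hd : d ∈ D) : Cfsg.commutingWidth D = 1 ↔ Subgroup.zpowers d ⊔ Cfsg.pCore 3 G = ⊤ := by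
  have hC := isClosedSet_of_group hD
  have hS := hC.1
  rw [width_eq_one_iff hC ⟨d, hd⟩]
  constructor
  · intro hw
    rw [eq_top_iff, ← hD.2.2, Subgroup.closure_le]
    intro e he
    have h1 := width_one_mul_mem quaternionCentre hC hw he hd
    have h2 : e = e * d * d := by rw [mul_assoc, mul_self hS hd, mul_one]
    rw [h2]
    exact mul_mem (Subgroup.mem_sup_right h1) (Subgroup.mem_sup_left (Subgroup.mem_zpowers d))
  · intro htop a ha b hb hab
    haveI : Fact (Nat.Prime 3) := ⟨Nat.prime_three⟩
    have hP := Cfsg.Agent.Lib.Cores.pCore_isPGroup (G := G) 3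
    have tiny : ∀ x : G, x * x = 1 → x ∈ pCore 3 G → x = 1 := by
      intro x hx hm
      obtain ⟨k, hk⟩ := hP ⟨x, hm⟩
      have hk' : x ^ 3 ^ k = 1 := by simpa [Subtype.ext_iff] using hk
      have h := pow_gcd_eq_one.2 ⟨(pow_two x).trans hx, hk'⟩
      rwa [show Nat.gcd 2 (3 ^ k) = 1 from Nat.Coprime.pow_right k (by norm_num), pow_one] at h
    have hdec : ∀ e ∈ D, e * d ∈ pCore 3 G := by
      intro e he
      have hm : e ∈ Subgroup.zpowers d ⊔ pCore 3 G := htop ▸ Subgroup.mem_top e
      rw [← SetLike.mem_coe, Subgroup.mul_normal, Set.mem_mul] at hm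
      obtain ⟨y, hy, n, hn, hyn⟩ := hm
      obtain ⟨i, rfl⟩ := Subgroup.mem_zpowers_iff.1 hy
      have hi : d ^ i = 1 ∨ d ^ i = d := by
        have h2 : d ^ (2 : ℤ) = 1 := by rw [zpow_two, mul_self hS hd]
        rcases Int.even_or_odd' i with ⟨j, rfl | rfl⟩
        · exact Or.inl (by rw [zpow_mul, h2, one_zpow])
        · exact Or.inr (by rw [zpow_add, zpow_mul, h2, one_zpow, one_mul, zpow_one])
      rcases hi with h | h <;> rw [h] at hyn
      · rw [one_mul] at hyn
        exact absurd (tiny e (mul_self hS he) (hyn ▸ hn)) (ne_one hS he)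
      · rw [← hyn]
        have := (inferInstance : (pCore 3 G).Normal).conj_mem n hn d
        rwa [inv_eq hS hd] at this
    have h := mul_mem (hdec a ha) (inv_mem (hdec b hb))
    rw [mul_inv_rev, ← mul_assoc, mul_inv_cancel_right, inv_eq hS hb] at h
    have h2 := tiny _ (by rw [← pow_two]; exact sq_eq_one_of_commute (mul_self hS ha) (mul_self hS hb) hab) h
    rw [eq_inv_of_mul_eq_one_left h2, inv_eq hS hb]

end Cfsg.Agent.S5346
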