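import Cfsg.Statements.S5374
import Cfsg.Agent.Lib.FischerMTypes.M23Data
import Cfsg.Agent.Lib.FischerMTypes.StepGroup
-- import your own Cfsg.Agent.* helpers here

set_option autoImplicit false
open Cfsg

namespace Cfsg.Agent.S5374

/-- Let G be a finite group with trivial centre generated by a conjugation-invariant set D of 3-transpositions on which it acts primitively, of type M(23), and suppose some finite primitive 3-transposition group of type M(24) exists. Then G is simple, D has exactly 31671 members, G has order 2^18 · 3^13 · 5^2 · 7 · 11 · 13 · 17 · 23, the width of D is 23, and for every d in D the subgroup H generated by the members of D other than d commuting with d is the centralizer of d and is quasisimple with centre generated by d. -/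
theorem result {G : Type*} [Group G] [Finite G] {D : Set G} (hD : Cfsg.IsThreeTranspositionGroup D) (hprim : Cfsg.IsPrimitiveUnderConj D) (ht : Cfsg.IsOfTypeM23 G D) (hex : ∃ (X : Type) (_ : Group X) (_ : Finite X) (E : Set X), Cfsg.IsThreeTranspositionClass E ∧ Cfsg.IsPrimitiveUnderConj E ∧ Cfsg.IsOfTypeM24 X E) : IsSimpleGroup G ∧ D.ncard = 31671 ∧ Nat.card G = 2 ^ 18 * 3 ^ 13 * 5 ^ 2 * 7 * 11 * 13 * 17 * 23 ∧ Cfsg.commutingWidth D = 23 ∧ ∀ d ∈ D, Subgroup.closure {y : G | y ∈ D ∧ y ≠ d ∧ Commute d y} = Subgroup.centralizer ({d} : Set G) ∧ Cfsg.IsQuasisimple ↥(Subgroup.closure {y : G | y ∈ D ∧ y ≠ d ∧ Commute d y}) ∧ Subgroup.center ↥(Subgroup.closure {y : G | y ∈ D ∧ y ≠ d ∧ Commute d y}) = (Subgroup.zpowers d).subgroupOf (Subgroup.closure {y : G | y ∈ D ∧ y ≠ d ∧ Commute d y}) := by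
  obtain ⟨Q, iQ, iQ', E, F, iF, iF', S22, ⟨S⟩⟩ := Lib.FischerMTypes.M23Data.exists_step hD hprim ht
  have P := Lib.FischerMTypes.M23Data.pinned hD hprim ht S22 S
  have hQ := Lib.FischerMTypes.QuasiM22.simple S22
  have hder : ∀ a (ha : a ∈ D), (⟨a, P.self a ha⟩ : ↥(Subgroup.closure {y : G | y ∈ D ∧ y ≠ a ∧ Commute a y})) ∈
      commutator ↥(Subgroup.closure {y : G | y ∈ D ∧ y ≠ a ∧ Commute a y}) := fun a ha => by
    obtain ⟨x0, h0, x1, h1, x2, h2, x3, h3, x4, h4, x5, h5, he⟩ :=
      Lib.FischerMTypes.M23Data.exists_six hD hprim ht S22 S ha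
    exact S.six_mem_commutator ha h0 h1 h2 h3 h4 h5 he _
  refine ⟨S.simple P hQ fun a ha => S.perfect P.small hQ ha _ (hder a ha),
    (S.ncard_class P (F := 28160) (by norm_num)).trans (by norm_num), ?_,
    (S.width (Lib.FischerMTypes.OrderWidth.width S22)).trans (by norm_num), fun d hd => ?_⟩
  · rw [S.card_group P, S.ncard_class P (F := 28160) (by norm_num),
      Lib.FischerMTypes.OrderWidth.card_group S22]
    norm_num
  · exact ⟨Lib.FischerMTypes.Step.StepData.centralizer_eq S P hd,
      S.quasisimple P.small hQ hd _ (hder d hd), S.center_eq P.small hd⟩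

end Cfsg.Agent.S5374
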