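import Cfsg.Statements.S2807
import Cfsg.Agent.Lib.LAEven54.Yoshida

set_option autoImplicit false
open Cfsg

namespace Cfsg.Agent.S2807

open Cfsg.Agent.Lib Cfsg.Agent.Lib.LAEven54.Yoshida

theorem coe_iterate_D {G : Type*} [Group G] (S : Subgroup G) (z : ↥S) (n : ℕ) (x : ↥S) :
    (((D z)^[n] x : ↥S) : G) = (D (z : G))^[n] (x : G) := by
  induction n with
  | zero => rfl
  | succ n ih => rw [Function.iterate_succ_apply', Function.iterate_succ_apply', ← ih]; rfl

variable {p : ℕ} [Fact p.Prime]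

/-- A cyclic shift with non-zero iterated difference generates all functions. -/
theorem span_shift (w : ZMod p → ZMod p) (h : (fwdDiff 1)^[p - 1] w 0 ≠ 0) (t : ZMod p → ZMod p) :
    ∃ c : Fin p → ZMod p, ∑ k : Fin p, c k • (fwdDiff 1)^[(k : ℕ)] w = t := by
  classical
  have hzero : ∀ m, p ≤ m → (fwdDiff 1)^[m] w = 0 := by
    have h0 : (fwdDiff 1)^[p] w = 0 := by
      funext y
      rw [fwdDiff_iter_eq_sum_shift, Finset.sum_range_succ,
        Finset.sum_eq_single 0 (fun k hk hk0 => ?_) (by simp [(Fact.out : p.Prime).ne_zero])]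
      · simp only [zsmul_eq_mul, Int.cast_mul, Int.cast_pow, Int.cast_neg, Int.cast_one, Int.cast_natCast]
        simp
      · have hlt : k < p := Finset.mem_range.1 hk
        have h1 : ((p.choose k : ℕ) : ZMod p) = 0 := by
          rw [ZMod.natCast_eq_zero_iff]
          exact (Fact.out : p.Prime).dvd_choose_self hk0 hlt
        simp only [zsmul_eq_mul, Int.cast_mul, Int.cast_natCast, h1, mul_zero, zero_mul]
    intro m hm
    obtain ⟨d, rfl⟩ := Nat.exists_eq_add_of_le hm
    rw [add_comm, Function.iterate_add_apply, h0]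
    induction d with
    | zero => rfl
    | succ d ih =>
      rw [Function.iterate_succ_apply', ih (Nat.le_add_right _ _)]
      funext y; simp [fwdDiff]
  let Φ : (Fin p → ZMod p) → (ZMod p → ZMod p) := fun c => ∑ k : Fin p, c k • (fwdDiff 1)^[(k : ℕ)] w
  have hinj : Function.Injective Φ := by
    intro a b hab
    suffices ∀ c, Φ c = 0 → c = 0 by
      have := this (a - b) (by
        simp only [Φ, Pi.sub_apply, sub_smul, Finset.sum_sub_distrib]
        exact sub_eq_zero.2 hab)
      exact sub_eq_zero.1 this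
    intro c hc
    have key : ∀ n, ∀ j : Fin p, (j : ℕ) = n → c j = 0 := by
      intro n
      induction n using Nat.strong_induction_on with
      | _ n ih =>
      intro j hj
      have h1 := congrArg (fun f => (fwdDiff (1 : ZMod p))^[p - 1 - (j : ℕ)] f 0) hc
      simp only [Φ, fwdDiff_iter_finsetSum, Finset.sum_apply, fwdDiff_iter_const_smul,
        Pi.smul_apply, ← Function.iterate_add_apply] at h1
      rw [Finset.sum_eq_single j] at h1
      · have hjp := j.2
        rw [show p - 1 - (j : ℕ) + (j : ℕ) = p - 1 by omega] at h1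
        have h2 : (fwdDiff (1 : ZMod p))^[p - 1 - (j : ℕ)] (0 : ZMod p → ZMod p) = 0 :=
          Function.iterate_fixed (by funext y; simp [fwdDiff]) _
        rw [h2] at h1
        exact (mul_eq_zero.1 h1).resolve_right h
      · intro k _ hkj
        rcases lt_or_gt_of_ne (Fin.val_ne_of_ne hkj) with hlt | hgt
        · rw [ih k (hj ▸ hlt) k rfl, zero_smul]
        · have hjp := j.2
          rw [hzero _ (by omega), Pi.zero_apply, smul_zero]
      · intro h'; exact absurd (Finset.mem_univ j) h'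
    funext j
    exact key _ j rfl
  exact ((Fintype.bijective_iff_injective_and_card Φ).2 ⟨hinj, by simp⟩).2 t

variable {P : Type*} [Group P] [Finite P]

theorem exists_wreath (hP : IsPGroup p P) {M : Subgroup P} (hM : IsCoatom M) {x z : P} (hx : x ∈ M)
    (hz : z ∉ M) (hc : (D z)^[p - 1] x ∉ (frattini ↥M).map M.subtype) :
    ∃ f : P →* Equiv.Perm (Fin (p ^ 2)), Nat.card f.range = p ^ (p + 1) := by
  classical
  haveI hMn := PGroups.coatom_normal hP hM
  have hMi : M.index = p := PGroups.coatom_index hP hM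
  have hiter : ∀ n, (D z)^[n] x ∈ M := by
    intro n
    induction n with
    | zero => exact hx
    | succ n ih =>
      rw [Function.iterate_succ_apply']
      have := M.mul_mem (M.inv_mem ih) (hMn.conj_mem _ ih z⁻¹)
      simpa [D, mul_assoc] using this
  obtain ⟨M₁, hM₁, hcM₁⟩ : ∃ M₁ : Subgroup ↥M, IsCoatom M₁ ∧ (⟨_, hiter (p - 1)⟩ : ↥M) ∉ M₁ := by
    by_contra hne
    push Not at hne
    refine hc ⟨⟨_, hiter (p - 1)⟩, ?_, rfl⟩
    show (⟨_, hiter (p - 1)⟩ : ↥M) ∈ frattini ↥M
    simp only [frattini, Order.radical, Subgroup.mem_iInf]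
    exact hne
  have hMp : IsPGroup p ↥M := hP.to_subgroup M
  haveI hM₁n := PGroups.coatom_normal hMp hM₁
  have hM₁i : M₁.index = p := PGroups.coatom_index hMp hM₁
  let e : ↥M ⧸ M₁ ≃* Multiplicative (ZMod p) := mulEquivOfPrimeCardEq (p := p)
    (by rw [← Subgroup.index_eq_card, hM₁i]) (by simp)
  let f : ↥M →* Multiplicative (ZMod p) := e.toMonoidHom.comp (QuotientGroup.mk' M₁)
  have hfker : ∀ a : ↥M, f a = 1 ↔ a ∈ M₁ := fun a => by
    show e (a : ↥M ⧸ M₁) = 1 ↔ _
    rw [MulEquiv.map_eq_one_iff, QuotientGroup.eq_one_iff]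
  let F : P → Multiplicative (ZMod p) := fun a => if h : a ∈ M then f ⟨a, h⟩ else 1
  have hF : ∀ a (h : a ∈ M), F a = f ⟨a, h⟩ := fun a h => dif_pos h
  have hFmul : ∀ a b, a ∈ M → b ∈ M → F (a * b) = F a * F b := fun a b ha hb => by
    rw [hF a ha, hF b hb, hF _ (M.mul_mem ha hb), ← map_mul]; rfl
  have hFconj : ∀ t a, t ∈ M → a ∈ M → F (t⁻¹ * a * t) = F a := fun t a ht ha => by
    rw [hFmul _ _ (M.mul_mem (M.inv_mem ht) ha) ht, hFmul _ _ (M.inv_mem ht) ha, mul_right_comm,
      ← hFmul _ _ (M.inv_mem ht) ht, inv_mul_cancel, hF 1 M.one_mem]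
    exact (congrArg (· * F a) (map_one f)).trans (one_mul _)
  have hzp : z ^ p ∈ M := by have := M.pow_index_mem z; rwa [hMi] at this
  have hconjM : ∀ (g : P) {a}, a ∈ M → g⁻¹ * a * g ∈ M := fun g a ha => by
    simpa using hMn.conj_mem a ha g⁻¹
  have hper : ∀ (n : ℕ) a, a ∈ M →
      F ((z ^ n)⁻¹ * a * z ^ n) = F ((z ^ (n % p))⁻¹ * a * z ^ (n % p)) := by
    intro n a ha
    conv_lhs => rw [← Nat.mod_add_div n p, pow_add, pow_mul]
    rw [← hFconj ((z ^ p) ^ (n / p)) _ (M.pow_mem hzp _) (hconjM (z ^ (n % p)) ha)]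
    congr 1
    group
  let Θ : ↥M →* (ZMod p → Multiplicative (ZMod p)) := MonoidHom.mk'
    (fun a j => F ((z ^ j.val)⁻¹ * a * z ^ j.val)) fun a b => by
      funext j
      show F _ = F _ * F _
      rw [← hFmul _ _ (hconjM _ a.2) (hconjM _ b.2), Subgroup.coe_mul]
      congr 1
      group
  let w : P → ZMod p → ZMod p := fun a j => Multiplicative.toAdd (F ((z ^ j.val)⁻¹ * a * z ^ j.val))
  have hD : ∀ n, w ((D z)^[n] x) = (fwdDiff 1)^[n] (w x) := by
    intro n
    induction n with
    | zero => rfl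
    | succ n ih =>
      rw [Function.iterate_succ_apply', Function.iterate_succ_apply', ← ih]
      funext j
      show _ = w _ (j + 1) - w _ j
      simp only [w]
      have h1 : F ((z ^ (j + 1).val)⁻¹ * (D z)^[n] x * z ^ (j + 1).val)
          = F ((z ^ (j.val + 1))⁻¹ * (D z)^[n] x * z ^ (j.val + 1)) := by
        rw [hper (j.val + 1) _ (hiter n)]
        congr <;> rw [ZMod.val_add, ZMod.val_one]
      rw [h1, ← toAdd_div, div_eq_inv_mul]
      congr 1
      rw [hF _ (hconjM _ (hiter n)), hF _ (hconjM _ (hiter n)), hF _ (hconjM _ (by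
        simpa [Function.iterate_succ_apply'] using hiter (n + 1))), ← map_inv, ← map_mul]
      congr 1
      apply Subtype.ext
      simp [D, pow_succ]
      group
  have hne : (fwdDiff 1)^[p - 1] (w x) 0 ≠ 0 := by
    rw [← hD]
    simp only [w, ZMod.val_zero, pow_zero, inv_one, one_mul, mul_one]
    intro h
    exact hcM₁ ((hfker _).1 (by rw [← hF]; exact toAdd_eq_zero.1 h))
  have hsurj : Function.Surjective Θ := by
    intro t
    obtain ⟨c, hct⟩ := span_shift (w x) hne (fun j => Multiplicative.toAdd (t j))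
    refine ⟨((List.finRange p).map fun k : Fin p => (⟨_, hiter k⟩ : ↥M) ^ (c k).val).prod, ?_⟩
    funext j
    rw [map_list_prod, List.map_map, Pi.list_prod_apply, List.map_map]
    apply Multiplicative.toAdd.injective
    have hlp : ∀ l : List (Multiplicative (ZMod p)),
        Multiplicative.toAdd l.prod = (l.map Multiplicative.toAdd).sum := fun l => by
      induction l with
      | nil => rfl
      | cons a l ih => simp [ih]
    rw [← congrFun hct j, hlp, List.map_map, Finset.sum_apply]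
    rw [← List.ofFn_eq_map, List.sum_ofFn]
    refine Finset.sum_congr rfl fun k _ => ?_
    show Multiplicative.toAdd ((Θ ((⟨_, hiter k⟩ : ↥M) ^ (c k).val)) j) = _
    rw [map_pow, Pi.pow_apply, toAdd_pow, ← hD, Pi.smul_apply, nsmul_eq_mul, ZMod.natCast_zmod_val,
      smul_eq_mul]
    rfl
  set K : Subgroup P := M₁.map M.subtype with hK
  have hKi : K.index = p ^ 2 := by
    rw [hK, Subgroup.index_map_subtype, hM₁i, hMi, sq]
  have hzM : orderOf (z : P ⧸ M) = p := orderOf_eq_prime
    (by rw [← QuotientGroup.mk_pow]; exact (QuotientGroup.eq_one_iff _).2 hzp)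
    (fun h => hz ((QuotientGroup.eq_one_iff _).1 h))
  have hrep : ∀ g : P, ∃ j : ℕ, (z ^ j)⁻¹ * g ∈ M := by
    intro g
    have hcard : Nat.card (P ⧸ M) = p := by rw [← Subgroup.index_eq_card, hMi]
    have h1 : (g : P ⧸ M) ∈ Subgroup.zpowers (z : P ⧸ M) := by
      rw [zpowers_eq_top_of_prime_card hcard (fun h => hz ((QuotientGroup.eq_one_iff _).1 h))]
      trivial
    rw [← mem_powers_iff_mem_zpowers] at h1
    obtain ⟨j, hj⟩ := h1
    refine ⟨j, QuotientGroup.eq.1 ?_⟩
    rw [QuotientGroup.mk_pow]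
    exact hj
  have hmemK : ∀ a (ha : a ∈ M), a ∈ K ↔ F a = 1 := by
    intro a ha
    rw [hF a ha, hfker]
    exact Subgroup.mem_map_iff_mem M.subtype_injective (x := ⟨a, ha⟩)
  have hcore : K.normalCore = Θ.ker.map M.subtype := by
    apply le_antisymm
    · intro a ha
      have haM : a ∈ M := Subgroup.map_subtype_le _ (K.normalCore_le ha)
      refine ⟨⟨a, haM⟩, funext fun j => ?_, rfl⟩
      show F ((z ^ j.val)⁻¹ * a * z ^ j.val) = 1
      rw [← hmemK _ (hconjM _ haM)]
      simpa using K.normalCore_le (K.normalCore_normal.conj_mem a ha (z ^ j.val)⁻¹)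
    · rintro _ ⟨⟨a, haM⟩, ha, rfl⟩ g
      show g * a * g⁻¹ ∈ K
      obtain ⟨j, hj⟩ := hrep g⁻¹
      set t := (z ^ j)⁻¹ * g⁻¹ with ht
      have h1 : g * a * g⁻¹ = t⁻¹ * ((z ^ j)⁻¹ * a * z ^ j) * t := by rw [ht]; group
      rw [h1, hmemK _ (hconjM _ (hconjM _ haM)), hFconj _ _ hj (hconjM _ haM), hper _ _ haM]
      have h2 := congrFun (show Θ ⟨a, haM⟩ = 1 from ha) ((j : ℕ) : ZMod p)
      rw [← ZMod.val_natCast]
      exact h2
  have hker : (MulAction.toPermHom P (P ⧸ K)).ker = K.normalCore := (Subgroup.normalCore_eq_ker K).symm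
  have e2 : (P ⧸ K) ≃ Fin (p ^ 2) :=
    (Finite.equivFin _).trans (finCongr (by rw [← Subgroup.index_eq_card, hKi]))
  refine ⟨e2.permCongrHom.toMonoidHom.comp (MulAction.toPermHom P (P ⧸ K)), ?_⟩
  rw [← Subgroup.index_ker]
  have hk2 : (e2.permCongrHom.toMonoidHom.comp (MulAction.toPermHom P (P ⧸ K))).ker =
      Θ.ker.map M.subtype := by
    rw [← hcore, ← hker]
    ext a
    simp [MonoidHom.mem_ker]
  rw [hk2, Subgroup.index_map_subtype, hMi, Subgroup.index_ker, MonoidHom.range_eq_top.2 hsurj,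
    Subgroup.card_top, Nat.card_fun, Nat.card_zmod, Nat.card_eq_of_bijective _
      (Multiplicative.toAdd (α := ZMod p)).bijective, Nat.card_zmod, pow_succ]

/-- Let S be a Sylow p-subgroup of the finite group G. If S ∩ G' ≠ S ∩ (N_G(S))' (derived subgroups), then the wreath product Z_p ≀ Z_p — realised as a Sylow p-subgroup of the symmetric group of degree p² — is a homomorphic image of S. -/
theorem result {G : Type*} [Group G] [Finite G] {p : ℕ} [Fact p.Prime] (S : Sylow p G) (h : (S : Subgroup G) ⊓ commutator G ≠ (S : Subgroup G) ⊓ ⁅Subgroup.normalizer ((S : Subgroup G) : Set G), Subgroup.normalizer ((S : Subgroup G) : Set G)⁆) : ∃ (P : Sylow p (Equiv.Perm (Fin (p ^ 2)))) (f : ↥(S : Subgroup G) →* ↥(P : Subgroup (Equiv.Perm (Fin (p ^ 2))))), Function.Surjective f := by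
  have hW : Cfsg.IsWeaklyClosed (S : Subgroup G) (S : Subgroup G) :=
    ⟨le_rfl, fun g hg => Subgroup.eq_of_le_of_card_ge hg
      (Subgroup.card_map_of_injective (MulAut.conj g).injective).ge⟩
  obtain ⟨x, hx, z, hz, W₀, hW₀, hzW, hxW, -, hc⟩ :=
    Cfsg.Agent.Lib.LAEven54.Yoshida.exists_witness hW h
  obtain ⟨f, hf⟩ := exists_wreath (P := ↥(S : Subgroup G)) S.2 hW₀ (x := ⟨x, hx⟩) (z := ⟨z, hz⟩)
    (by obtain ⟨w, hw, hwx⟩ := hxW hx
        exact (Subtype.ext hwx : w = ⟨x, hx⟩) ▸ hw)
    (fun h => hzW ⟨⟨z, hz⟩, h, rfl⟩)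
    (fun h => hc (by
      obtain ⟨w, hw, hwe⟩ := h
      refine ⟨(w : ↥(S : Subgroup G)), ⟨w, hw, rfl⟩, ?_⟩
      show ((w : ↥(S : Subgroup G)) : G) = _
      rw [show (w : ↥(S : Subgroup G)) = _ from hwe, coe_iterate_D]))
  have hp : p.Prime := Fact.out
  have hcard : Nat.card f.range = p ^ (Nat.card (Equiv.Perm (Fin (p ^ 2)))).factorization p := by
    rw [hf, Nat.card_perm, Nat.card_fin, sq, Nat.factorization_factorial_mul hp]
    congr 1
    have h1 := Nat.factorization_factorial_mul (n := 1) hp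
    simp only [mul_one, Nat.factorial_one, Nat.factorization_one, Finsupp.coe_zero, Pi.zero_apply,
      zero_add] at h1
    omega
  exact ⟨Sylow.ofCard f.range hcard, f.codRestrict _ (fun s => ⟨s, rfl⟩),
    fun ⟨y, s, hs⟩ => ⟨s, Subtype.ext hs⟩⟩

end Cfsg.Agent.S2807
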