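import Cfsg.Statements.S1232
import Cfsg.Agent.S0501
import Cfsg.Agent.Lib.HaradaEight.Count

set_option autoImplicit false
open Cfsg

namespace Cfsg.Agent.S1232

/-- Let S be a finite 2-group containing an elementary abelian subgroup A of order 8 with C_S(A) = A. Then every section of S has 2-rank at most 4. -/
theorem result {S : Type*} [Group S] [Finite S] (hS : IsPGroup 2 S) (A : Subgroup S) (hA : Cfsg.IsElementaryAbelian 2 A) (hA8 : Nat.card A = 8) (hC : Subgroup.centralizer (A : Set S) = A) : Cfsg.SectionalPRankLE 2 4 S := by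
  classical
  open Cfsg.Agent.Lib.HaradaEight in
  have h : Eight A := ⟨hS, fun a ha b hb => congrArg Subtype.val (hA.1.1.comm ⟨a, ha⟩ ⟨b, hb⟩),
    fun a ha => by rw [← sq]; exact hA.2 a ha, hA8,
    fun x hx => hC ▸ Subgroup.mem_centralizer_iff.2 fun a ha => (hx a ha).symm⟩
  open Cfsg.Agent.Lib.HaradaEight in
  by_cases hsmall : ∀ F : Subgroup S, F.Normal → IsMulCommutative F → (∀ a ∈ F, a ^ 2 = 1) →
      Nat.card F ≤ 4
  · exact Cfsg.Agent.S0501.result hS hsmall
  · push Not at hsmall
    obtain ⟨F, hFn, hFc, hF2, hF5⟩ := hsmall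
    have hFe : ElemNormal F := ⟨hFn, fun a ha b hb => congrArg Subtype.val (hFc.1.comm ⟨a, ha⟩ ⟨b, hb⟩),
      fun a ha => by rw [← sq]; exact hF2 a ha⟩
    have key : ∀ H M : Subgroup S, SqIn H M → Nat.card H ≤ 16 * Nat.card M := by
      by_cases h16 : ∃ E : Subgroup S, E.Normal ∧ ElemNormal E ∧ Nat.card E = 16
      · obtain ⟨E, hEn, hE, hEc⟩ := h16
        exact fun H M hHM => sixteen h hE hEc H M hHM
      · push Not at h16
        have h8 : Nat.card F = 8 := by
          have : Fact (Nat.Prime 2) := ⟨Nat.prime_two⟩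
          obtain ⟨k, hk⟩ := IsPGroup.iff_card.1 (hS.to_subgroup F)
          rcases lt_or_ge k 4 with hk4 | hk4
          · interval_cases k <;> omega
          · exfalso
            obtain ⟨E, hEn, hEF, hE16⟩ := exists_normal_card hS (E := F) 4
              (by rw [hk]; exact Nat.pow_le_pow_right (by norm_num) hk4)
            exact h16 E hEn ⟨hEn, fun a ha b hb => hFe.comm a (hEF ha) b (hEF hb),
              fun a ha => hFe.sq a (hEF ha)⟩ hE16
        exact fun H M hHM => eight_case h hFe h8 h16 H M hHM
    intro H N _ B hBc hB2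
    let π := QuotientGroup.mk' N
    let H' : Subgroup S := (B.comap π).map H.subtype
    let M' : Subgroup S := N.map H.subtype
    have hker : π.ker = N := QuotientGroup.ker_mk' N
    have hNB : N ≤ B.comap π := fun x hx => by
      show π x ∈ B
      rw [show π x = 1 from (QuotientGroup.eq_one_iff x).2 hx]
      exact one_mem B
    have hsq : SqIn H' M' := ⟨Subgroup.map_mono hNB, by
      rintro _ ⟨x, hx, rfl⟩
      refine ⟨x * x, ?_, map_mul H.subtype x x⟩
      have h1 : π (x * x) = 1 := by rw [map_mul, ← sq]; exact hB2 _ hx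
      exact (QuotientGroup.eq_one_iff _).1 h1⟩
    have h1 := key H' M' hsq
    have h2 := card_map_mul π (B.comap π)
    rw [hker, inf_eq_right.2 hNB,
      Subgroup.map_comap_eq_self_of_surjective (QuotientGroup.mk'_surjective N)] at h2
    have e1 : Nat.card H' = Nat.card (B.comap π) :=
      (Nat.card_congr ((B.comap π).equivMapOfInjective _ H.subtype_injective).toEquiv).symm
    have e2 : Nat.card M' = Nat.card N :=
      (Nat.card_congr (N.equivMapOfInjective _ H.subtype_injective).toEquiv).symm
    rw [e1, e2, h2] at h1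
    exact Nat.le_of_mul_le_mul_right (h1.trans_eq rfl) Nat.card_pos

end Cfsg.Agent.S1232
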