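import Cfsg.Statements.S3798
import Cfsg.Agent.Lib.Cores.Basic
import Cfsg.Agent.Lib.FpfHeight.Basic
import Cfsg.Agent.Lib.PSolvable.HallHigman
import Cfsg.Agent.Lib.Hall.Basic
import Cfsg.Agent.Lib.OddLocal.CoprimeFix
-- import your own Cfsg.Agent.* helpers here

set_option autoImplicit false
open Cfsg

namespace Cfsg.Agent.S3798

open Cfsg.Agent.Lib.FpfHeight.Basic

universe u

/-- If `N` is a normal `p`-subgroup and `L` has order prime to `p` with `N ⊔ L` normal, then
`N` and the normalizer of `L` cover the group. -/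
theorem frattini_complement {p : ℕ} [Fact p.Prime] (G : Type u) [Group G] [Finite G]
    (N L : Subgroup G) [N.Normal] (hN : IsPGroup p N) (hL : (Nat.card L).Coprime p)
    (hNL : (N ⊔ L).Normal) : ∀ g : G, ∃ n ∈ N, n * g ∈ Subgroup.normalizer (L : Set G) := by
  induction hc : Nat.card N using Nat.strong_induction_on generalizing G with
  | _ m ih =>
  subst hc
  intro g
  rcases eq_or_ne N ⊥ with hbot | hbot
  · refine ⟨1, one_mem _, ?_⟩
    rw [hbot, bot_sup_eq] at hNL
    rw [Subgroup.normalizer_eq_top_iff.mpr hNL]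
    trivial
  set A := (Subgroup.center N).map N.subtype with hA
  haveI : A.Normal := Lib.Cores.normal_map_subtype N _
  have hAN : A ≤ N := Subgroup.map_subtype_le _
  haveI : Nontrivial N := (Subgroup.nontrivial_iff_ne_bot N).mpr hbot
  have hAne : A ≠ ⊥ := fun h => (hN.bot_lt_center).ne'
    ((Subgroup.map_eq_bot_iff_of_injective _ N.subtype_injective).mp h)
  haveI : (N.map (QuotientGroup.mk' A)).Normal :=
    Subgroup.Normal.map inferInstance _ (QuotientGroup.mk'_surjective A)
  have hlt : Nat.card (N.map (QuotientGroup.mk' A)) < Nat.card N := by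
    have h1 : Nat.card (N.map (QuotientGroup.mk' A)) * Nat.card (A.subgroupOf N) = Nat.card N := by
      have := Subgroup.card_eq_card_quotient_mul_card_subgroup
        (((QuotientGroup.mk' A).subgroupMap N).ker)
      rw [Nat.card_congr (QuotientGroup.quotientKerEquivOfSurjective _
        ((QuotientGroup.mk' A).subgroupMap_surjective N)).toEquiv] at this
      have hker : ((QuotientGroup.mk' A).subgroupMap N).ker = A.subgroupOf N := by
        ext x
        simp only [Subgroup.mem_subgroupOf, MonoidHom.mem_ker]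
        exact Subtype.ext_iff.trans (QuotientGroup.eq_one_iff _)
      rw [this, hker]
    have h2 : 1 < Nat.card (A.subgroupOf N) := by
      rw [Nat.card_congr (Subgroup.subgroupOfEquivOfLe hAN).toEquiv]
      exact (Subgroup.one_lt_card_iff_ne_bot A).mpr hAne
    calc Nat.card (N.map (QuotientGroup.mk' A))
        < Nat.card (N.map (QuotientGroup.mk' A)) * Nat.card (A.subgroupOf N) :=
          lt_mul_of_one_lt_right Nat.card_pos h2
      _ = Nat.card N := h1
  obtain ⟨nb, hnb, hnorm⟩ := ih _ hlt (G ⧸ A) (N.map (QuotientGroup.mk' A))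
    (L.map (QuotientGroup.mk' A)) (hN.map _) (hL.coprime_dvd_left (Subgroup.card_map_dvd L _))
    (by
      rw [← Subgroup.map_sup]
      exact Subgroup.Normal.map hNL _ (QuotientGroup.mk'_surjective A))
    rfl (g : G ⧸ A)
  obtain ⟨n, hn, rfl⟩ := hnb
  set g₁ := n * g with hg₁
  set B := A ⊔ L with hB
  have hBmap : B = (L.map (QuotientGroup.mk' A)).comap (QuotientGroup.mk' A) := by
    rw [Subgroup.comap_map_eq, QuotientGroup.ker_mk', hB, sup_comm]
  set L₁ := L.map (MulAut.conj g₁).toMonoidHom with hL₁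
  have hconj : B.map (MulAut.conj g₁).toMonoidHom = B := by
    refine map_eq_of_invariant (MulAut.conj g₁) ?_
    intro x hx
    rw [hBmap, Subgroup.mem_comap] at hx ⊢
    have := (Subgroup.mem_normalizer_iff.mp hnorm ((QuotientGroup.mk' A) x)).mp hx
    convert this using 1
    simp [g₁, MulAut.conj_apply, mul_assoc]
  have hAL₁ : A ⊔ L₁ = B := by
    conv_rhs => rw [← hconj, hB, Subgroup.map_sup]
    rw [hL₁]
    congr 1
    exact (map_eq_of_invariant (MulAut.conj g₁)
      fun x hx => Subgroup.Normal.conj_mem inferInstance x hx g₁).symm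
  haveI : IsMulCommutative (A.subgroupOf B) := by
    refine ⟨⟨fun x y => Subtype.ext (Subtype.ext ?_)⟩⟩
    obtain ⟨a, ha, hxa⟩ := x.2
    obtain ⟨b, hb, hyb⟩ := y.2
    have hab := congrArg Subtype.val (Subgroup.mem_center_iff.mp ha b).symm
    change ((x : B) : G) * ((y : B) : G) = ((y : B) : G) * ((x : B) : G)
    rw [← Subgroup.coe_subtype B, ← hxa, ← hyb]
    exact hab
  have hcard : ∀ M : Subgroup G, M ≤ B → Nat.card M = Nat.card L → A ⊔ M = B →
      Subgroup.IsComplement' (A.subgroupOf B) (M.subgroupOf B) := by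
    intro M hMB hM hAM
    refine Lib.Hall.isComplement'_of_normal (Lib.Hall.inf_eq_bot_of_coprime ?_) ?_
    · rw [Nat.card_congr (Subgroup.subgroupOfEquivOfLe (le_sup_left : A ≤ B)).toEquiv,
        Nat.card_congr (Subgroup.subgroupOfEquivOfLe hMB).toEquiv, hM]
      obtain ⟨k, hk⟩ := IsPGroup.iff_card.mp (hN.to_le hAN)
      rw [hk]
      exact (Nat.Coprime.symm hL).pow_left k
    · rw [← Subgroup.subgroupOf_sup le_sup_left hMB, hAM, Subgroup.subgroupOf_self]
  have hL₁card : Nat.card L₁ = Nat.card L :=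
    Subgroup.card_map_of_injective (MulAut.conj g₁).injective
  have hc0 := hcard L le_sup_right rfl rfl
  have hc1 := hcard L₁ (hAL₁ ▸ le_sup_right) hL₁card hAL₁
  obtain ⟨a, ha, hconja⟩ := Lib.Hall.exists_conj_of_abelian (A.subgroupOf B) (by
    rw [hc0.symm.index_eq_card,
      Nat.card_congr (Subgroup.subgroupOfEquivOfLe (le_sup_left : A ≤ B)).toEquiv,
      Nat.card_congr (Subgroup.subgroupOfEquivOfLe (le_sup_right : L ≤ B)).toEquiv]
    obtain ⟨k, hk⟩ := IsPGroup.iff_card.mp (hN.to_le hAN)
    rw [hk]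
    exact (Nat.Coprime.symm hL).pow_left k) (L₁.subgroupOf B) (L.subgroupOf B) hc1 hc0
  refine ⟨(a : G) * n, N.mul_mem (hAN ha) hn, ?_⟩
  rw [mul_assoc, Subgroup.mem_normalizer_iff_map_conj_eq]
  refine map_eq_of_invariant (MulAut.conj ((a : G) * g₁)) fun l hl => ?_
  have hl1 : g₁ * l * g₁⁻¹ ∈ L₁ := ⟨l, hl, rfl⟩
  have hy : (⟨_, (hAL₁ ▸ le_sup_right : L₁ ≤ B) hl1⟩ : B) ∈ L₁.subgroupOf B := hl1
  have := Subgroup.smul_mem_pointwise_smul _ (MulAut.conj a) _ hy
  rw [hconja, Subgroup.mem_subgroupOf] at this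
  simpa [g₁, MulAut.conj_apply, mul_assoc] using this

/-- In a group with trivial `p'`-core, transitivity of the automorphisms on the subgroups of
order `p` makes the quotient by the `p`-core a `p'`-group. -/
theorem coprime_index_pCore {p : ℕ} [Fact p.Prime] (hp : p ≠ 2) (G : Type u) [Group G] [Finite G]
    (hG : Cfsg.IsPSolvable p G) (hcore : pPrimeCore p G = ⊥)
    (htrans : ∀ U V : Subgroup G, Nat.card U = p → Nat.card V = p →
      ∃ a : MulAut G, U.map a.toMonoidHom = V) :
    ((pCore p G).index).Coprime p := by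
  have hpp : p.Prime := Fact.out
  refine Nat.Coprime.symm (hpp.coprime_iff_not_dvd.mpr fun hdvd => ?_)
  set P := pCore p G with hP
  haveI : Nontrivial G := by
    by_contra h
    rw [not_nontrivial_iff_subsingleton] at h
    rw [Subgroup.index_eq_one.mpr (Subsingleton.elim P ⊤)] at hdvd
    exact hpp.not_dvd_one hdvd
  have hPp : IsPGroup p P := Lib.Cores.pCore_isPGroup p
  have hPne : P ≠ ⊥ := Lib.PSolvable.pCore_ne_bot hG hcore
  let W : Subgroup G :=
    { carrier := {x | x ∈ P ∧ (∀ y ∈ P, y * x = x * y) ∧ x ^ p = 1}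
      one_mem' := ⟨P.one_mem, fun y _ => by simp, one_pow p⟩
      mul_mem' := fun {a b} ha hb => ⟨P.mul_mem ha.1 hb.1,
        fun y hy => Commute.mul_right (ha.2.1 y hy) (hb.2.1 y hy),
        by rw [Commute.mul_pow (hb.2.1 a ha.1), ha.2.2, hb.2.2, mul_one]⟩
      inv_mem' := fun {a} ha => ⟨P.inv_mem ha.1,
        fun y hy => Commute.inv_right (ha.2.1 y hy),
        by rw [inv_pow, ha.2.2, inv_one]⟩ }
  have hWinv : ∀ (σ : MulAut G), ∀ x ∈ W, σ x ∈ W := by
    rintro σ x ⟨hx, hc, hxp⟩
    refine ⟨apply_mem_of_char σ P x hx, fun y hy => ?_, by rw [← map_pow, hxp, map_one]⟩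
    have h1 := congrArg σ (hc (σ.symm y) (apply_mem_of_char σ.symm P y hy))
    simpa using h1
  have htrans' : ∀ (M : Subgroup G), (∀ σ : MulAut G, ∀ x ∈ M, σ x ∈ M) →
      ∀ m ∈ M, orderOf m = p → ∀ x : G, orderOf x = p → x ∈ M := by
    intro M hM m hm hmo x hx
    obtain ⟨a, ha⟩ := htrans (Subgroup.zpowers m) (Subgroup.zpowers x)
      (by rw [Nat.card_zpowers, hmo]) (by rw [Nat.card_zpowers, hx])
    obtain ⟨y, hy, hyx⟩ := ha.ge (Subgroup.mem_zpowers x)
    rw [← hyx]
    exact hM a y ((Subgroup.zpowers_le.mpr hm) hy)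
  haveI : Nontrivial P := (Subgroup.nontrivial_iff_ne_bot P).mpr hPne
  haveI := hPp.center_nontrivial
  obtain ⟨w, hw⟩ : ∃ w : Subgroup.center P, orderOf w = p := by
    obtain ⟨n, hn⟩ := IsPGroup.iff_card.mp (hPp.to_subgroup (Subgroup.center P))
    refine exists_prime_orderOf_dvd_card' p ?_
    have h1 : 1 < Nat.card (Subgroup.center P) := Finite.one_lt_card
    rw [hn] at h1 ⊢
    exact dvd_pow_self p fun h0 => by simp [h0] at h1
  have hw' : orderOf (((w : P) : G)) = p := by rw [Subgroup.orderOf_coe, Subgroup.orderOf_coe, hw]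
  have hwW : ((w : P) : G) ∈ W := ⟨(w : P).2, fun y hy =>
      congrArg Subtype.val (Subgroup.mem_center_iff.mp w.2 ⟨y, hy⟩), by
      rw [← hw']; exact pow_orderOf_eq_one _⟩
  have hall : ∀ x : G, orderOf x = p → x ∈ W := htrans' W hWinv _ hwW hw'
  set H := G ⧸ P
  have hHne : Nontrivial H := by
    rw [← Finite.one_lt_card_iff_nontrivial]
    change 1 < P.index
    exact lt_of_lt_of_le hpp.one_lt (Nat.le_of_dvd (Nat.pos_of_ne_zero P.index_ne_zero_of_finite) hdvd)
  have hHcore : pCore p H = ⊥ := Lib.Cores.pCore_quotient_pCore p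
  have hLne : pPrimeCore p H ≠ ⊥ := fun h =>
    Lib.PSolvable.pCore_ne_bot (Lib.PSolvable.isPSolvable_quotient hG P) h hHcore
  set K := (pPrimeCore p H).comap (QuotientGroup.mk' P) with hK
  have hPK : P ≤ K := QuotientGroup.le_comap_mk' _ _
  have hKinv : ∀ σ : MulAut G, ∀ x ∈ K, σ x ∈ K := by
    intro σ x hx
    exact apply_mem_of_char (quotAut σ P (apply_mem_of_char σ P)) (pPrimeCore p H) _ hx
  -- a complement to `P` in `K`
  have hKcard : (P.subgroupOf K).index.Coprime p := by
    have h1 : (P.subgroupOf K).index = Nat.card (pPrimeCore p H) := by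
      have h2 := Subgroup.relIndex_comap (⊥ : Subgroup H) (QuotientGroup.mk' P) K
      rw [MonoidHom.comap_bot, QuotientGroup.ker_mk', hK,
        Subgroup.map_comap_eq_self_of_surjective (QuotientGroup.mk'_surjective P),
        Subgroup.relIndex_bot_left] at h2
      exact h2
    rw [h1]
    exact Lib.Cores.pPrimeCore_coprime p
  obtain ⟨L', hL'⟩ := Subgroup.exists_right_complement'_of_coprime (N := P.subgroupOf K) (by
    rw [Nat.card_congr (Subgroup.subgroupOfEquivOfLe hPK).toEquiv]
    obtain ⟨k, hk⟩ := IsPGroup.iff_card.mp hPp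
    rw [hk]
    exact hKcard.symm.pow_left k)
  set L := L'.map K.subtype with hL
  have hLK : L ≤ K := Subgroup.map_subtype_le _
  have hLp : (Nat.card L).Coprime p := by
    rw [Subgroup.card_map_of_injective K.subtype_injective, ← hL'.symm.index_eq_card]
    exact hKcard
  have hPL : P ⊔ L = K := by
    have h1 := congrArg (Subgroup.map K.subtype) hL'.sup_eq_top
    rwa [Subgroup.map_sup, Subgroup.map_subgroupOf_eq_of_le hPK, ← MonoidHom.range_eq_map,
      Subgroup.range_subtype] at h1
  -- the elements of `W` centralized by `K`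
  have hC : ∀ x ∈ W, (∀ k ∈ K, k * x = x * k) → x = 1 := by
    intro x hx hxK
    by_contra hne
    have hxo : orderOf x = p := orderOf_eq_prime hx.2.2 hne
    let M : Subgroup G := Subgroup.centralizer (K : Set G)
    have hM : ∀ σ : MulAut G, ∀ y ∈ M, σ y ∈ M := by
      intro σ y hy
      refine Subgroup.mem_centralizer_iff.mpr fun k hk => ?_
      have h1 := congrArg σ (Subgroup.mem_centralizer_iff.mp hy (σ.symm k) (hKinv σ.symm k hk))
      simpa using h1
    have hall' := htrans' M hM x (Subgroup.mem_centralizer_iff.mpr hxK) hxo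
    refine hLne ?_
    have hL1 : L ≤ P := by
      intro l hl
      have hlc : ∀ h ∈ P, l * h = h * l := by
        refine Lib.OddLocal.CoprimeFix.centralizes_of_omega hp ?_ hPp
          (by rw [Subgroup.normalizer_eq_top_iff.mpr inferInstance]; trivial) ?_
        · exact hLp.coprime_dvd_left (Subgroup.orderOf_dvd_natCard L hl)
        · intro h _ ho
          exact Subgroup.mem_centralizer_iff.mp (hall' h ho) l (hLK hl)
      exact Lib.PSolvable.centralizer_pCore_le hG hcore
        (Subgroup.mem_centralizer_iff.mpr fun h hh => (hlc h hh).symm)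
    rw [eq_bot_iff]
    intro q hq
    obtain ⟨k, rfl⟩ := QuotientGroup.mk'_surjective P q
    have : k ∈ P ⊔ L := hPL ▸ hq
    rw [sup_eq_left.mpr hL1] at this
    exact Subgroup.mem_bot.mpr ((QuotientGroup.eq_one_iff k).mpr this)
  -- the normalizer of `L` meets `P` trivially
  have hNP : ∀ x ∈ P, x ∈ Subgroup.normalizer (L : Set G) → x = 1 := by
    intro x hx hxn
    have hcent : ∀ l ∈ L, x * l = l * x := by
      intro l hl
      have h1 : x * l * x⁻¹ * l⁻¹ ∈ L :=
        L.mul_mem ((Subgroup.mem_normalizer_iff.mp hxn l).mp hl) (L.inv_mem hl)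
      have h2 : x * l * x⁻¹ * l⁻¹ ∈ P := by
        rw [show x * l * x⁻¹ * l⁻¹ = x * (l * x⁻¹ * l⁻¹) by group]
        exact P.mul_mem hx (Subgroup.Normal.conj_mem inferInstance _ (P.inv_mem hx) l)
      have h3 : P ⊓ L = ⊥ := Lib.Hall.inf_eq_bot_of_coprime (by
        obtain ⟨k, hk⟩ := IsPGroup.iff_card.mp hPp
        rw [hk]
        exact hLp.symm.pow_left k)
      have h4 : x * l * x⁻¹ * l⁻¹ = 1 := Subgroup.mem_bot.mp (h3 ▸ Subgroup.mem_inf.mpr ⟨h2, h1⟩)
      exact mul_inv_eq_iff_eq_mul.mp (mul_inv_eq_one.mp h4)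
    by_contra hne
    obtain ⟨k, hk⟩ := IsPGroup.iff_orderOf.mp hPp ⟨x, hx⟩
    rw [Subgroup.orderOf_mk] at hk
    have hk0 : k ≠ 0 := fun h0 => hne (orderOf_eq_one_iff.mp (by rw [hk, h0, pow_zero]))
    set y := x ^ p ^ (k - 1) with hy
    have hyo : orderOf y = p := by
      rw [hy, orderOf_pow_of_dvd (pow_ne_zero _ hpp.ne_zero)
        (hk ▸ pow_dvd_pow p (by omega)), hk, Nat.pow_div (by omega) hpp.pos,
        show k - (k - 1) = 1 by omega, pow_one]
    have hyK : ∀ z ∈ K, z * y = y * z := by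
      have hle : K ≤ Subgroup.centralizer ({y} : Set G) := by
        rw [← hPL, sup_le_iff]
        refine ⟨fun z hz => ?_, fun l hl => ?_⟩
        · rw [Subgroup.mem_centralizer_singleton_iff]
          exact ((hall y hyo).2.1 z hz)
        · rw [Subgroup.mem_centralizer_singleton_iff]
          exact (Commute.pow_left (hcent l hl) _).symm
      intro z hz
      exact Subgroup.mem_centralizer_singleton_iff.mp (hle hz)
    have := hC y (hall y hyo) hyK
    rw [this, orderOf_one] at hyo
    exact hpp.one_lt.ne hyo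
  obtain ⟨t, ht⟩ := exists_prime_orderOf_dvd_card' (G := H) p hdvd
  obtain ⟨g, rfl⟩ := QuotientGroup.mk_surjective t
  obtain ⟨n, hn, hng⟩ := frattini_complement G P L hPp hLp (hPL ▸ inferInstance) g
  have hmk : ((n * g : G) : H) = (g : H) := by
    rw [QuotientGroup.mk_mul, (QuotientGroup.eq_one_iff n).mpr hn, one_mul]
  have hpow : (n * g) ^ p = 1 := by
    refine hNP _ ?_ (Subgroup.pow_mem _ hng p)
    rw [← QuotientGroup.eq_one_iff, QuotientGroup.mk_pow, hmk]
    exact orderOf_dvd_iff_pow_eq_one.mp ht.dvd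
  rcases eq_or_ne (n * g) 1 with h1 | h1
  · rw [← hmk, h1, QuotientGroup.mk_one, orderOf_one] at ht
    exact hpp.one_lt.ne ht
  · have := (hall _ (orderOf_eq_prime hpow h1)).1
    rw [← QuotientGroup.eq_one_iff, hmk] at this
    rw [this, orderOf_one] at ht
    exact hpp.one_lt.ne ht

/-- The Gaschütz–Yen Theorem: let G be a finite p-soluble group, p an odd prime dividing its order, such that the automorphism group of G permutes the subgroups of G of order p transitively. Then G has p-length at most 1. -/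
theorem result {G : Type*} [Group G] [Finite G] {p : ℕ} [Fact p.Prime] (hp : p ≠ 2) (hdvd : p ∣ Nat.card G) (hG : Cfsg.IsPSolvable p G) (htrans : ∀ U V : Subgroup G, Nat.card U = p → Nat.card V = p → ∃ a : MulAut G, U.map a.toMonoidHom = V) : Cfsg.PLengthLE p 1 G := by
  set O := pPrimeCore p G with hO
  have hOp : (Nat.card O).Coprime p := Lib.Cores.pPrimeCore_coprime p
  have hU1 : (upperPSeries p G 1).1 = O := by
    have h := Lib.PSolvable.upperPSeries_odd (p := p) (G := G) 0
    rw [Nat.mul_zero, Nat.zero_add] at h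
    rw [h]
    refine le_antisymm ?_ ?_
    · refine Lib.Cores.le_pPrimeCore (hN := inferInstance) ?_
      have h1 := Lib.PSolvable.card_comap_mk' (G := G) (upperPSeries p G 0).1
        (pPrimeCore p (G ⧸ (upperPSeries p G 0).1))
      have e0 : Nat.card ↥(upperPSeries p G 0).1 = 1 := Subgroup.card_bot
      rw [h1, e0]
      simpa using Lib.Cores.pPrimeCore_coprime (G := G ⧸ (upperPSeries p G 0).1) p
    · exact Subgroup.map_le_iff_le_comap.mp
        (Lib.Cores.map_pPrimeCore_le _ (QuotientGroup.mk'_surjective _))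
  have h1 : ((pCore p (G ⧸ (upperPSeries p G 1).1)).index).Coprime p := by
    refine coprime_index_pCore hp _ (Lib.PSolvable.isPSolvable_quotient hG _)
      (Lib.PSolvable.pPrimeCore_quotient_upperPSeries 0) ?_
    set U₁ := (upperPSeries p G 1).1
    have hlift : ∀ U : Subgroup (G ⧸ U₁), Nat.card U = p →
        ∃ x : G, orderOf x = p ∧ U = (Subgroup.zpowers x).map (QuotientGroup.mk' U₁) := by
      intro U hU
      have hdvd' : p ∣ Nat.card (U.comap (QuotientGroup.mk' U₁)) := by
        rw [Lib.PSolvable.card_comap_mk', hU]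
        first | exact dvd_mul_left p _ | exact dvd_mul_right p _
      obtain ⟨x, hx⟩ := exists_prime_orderOf_dvd_card' p hdvd'
      have hxo : orderOf (x : G) = p := by rw [Subgroup.orderOf_coe, hx]
      refine ⟨x, hxo, ?_⟩
      haveI : Finite U := inferInstance
      refine (Subgroup.eq_of_le_of_card_ge ?_ ?_).symm
      · rw [MonoidHom.map_zpowers, Subgroup.zpowers_le]; exact x.2
      · rw [hU, MonoidHom.map_zpowers, Nat.card_zpowers]
        refine Nat.le_of_dvd (orderOf_pos _) (dvd_of_eq (orderOf_eq_prime ?_ ?_).symm)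
        · rw [← map_pow, orderOf_dvd_iff_pow_eq_one.mp hxo.dvd, map_one]
        · intro h
          have hmem : (x : G) ∈ U₁ := (QuotientGroup.eq_one_iff _).mp h
          have h2 := Subgroup.orderOf_dvd_natCard U₁ hmem
          rw [hxo] at h2
          rw [hU1] at h2
          exact (Fact.out : p.Prime).not_dvd_one (hOp ▸ Nat.dvd_gcd h2 dvd_rfl)
    intro U V hU hV
    obtain ⟨x, hx, rfl⟩ := hlift U hU
    obtain ⟨y, hy, rfl⟩ := hlift V hV
    obtain ⟨a, ha⟩ := htrans (Subgroup.zpowers x) (Subgroup.zpowers y)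
      (by rw [Nat.card_zpowers, hx]) (by rw [Nat.card_zpowers, hy])
    have haU : ∀ z ∈ U₁, a z ∈ U₁ := by rw [hU1]; exact apply_mem_of_char a O
    refine ⟨quotAut a U₁ haU, ?_⟩
    rw [← ha, Subgroup.map_map, Subgroup.map_map]
    rfl
  unfold Cfsg.PLengthLE
  rw [Lib.PSolvable.upperPSeries_odd, eq_top_iff]
  intro g _
  rw [Subgroup.mem_comap]
  have h2 : (Nat.card (G ⧸ (upperPSeries p G (2 * 1)).1)).Coprime p := by
    change ((upperPSeries p G (2 * 0 + 2)).1.index).Coprime p
    rw [Lib.PSolvable.upperPSeries_even,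
      Subgroup.index_comap_of_surjective _ (QuotientGroup.mk'_surjective _)]
    exact h1
  refine Lib.Cores.le_pPrimeCore (N := (⊤ : Subgroup _)) ?_ (Subgroup.mem_top _)
  rwa [Subgroup.card_top]

end Cfsg.Agent.S3798
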