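import Cfsg.Statements.S3056
import Cfsg.Agent.Lib.LA5.StronglyEmbedded

set_option autoImplicit false
open Cfsg

namespace Cfsg.Agent.S3056

open Cfsg.Agent.Lib.LA5.Basic Cfsg.Agent.Lib.LA5.StronglyEmbedded

/-- Let G be a finite group and p a prime. Join two Sylow p-subgroups when they are distinct and meet nontrivially. This graph on the Sylow p-subgroups is disconnected (the Sylow p-subgroups are not chain-connected through nontrivial intersections) if and only if G has a strongly p-embedded subgroup in the classical sense: a proper subgroup H of order divisible by p such that H ∩ gHg⁻¹ has order prime to p for every g outside H. -/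
theorem result {G : Type*} [Group G] [Finite G]
    (p : ℕ) [Fact p.Prime] :
    ¬ Cfsg.IsSylowChainConnected p G ↔
      ∃ H : Subgroup G, H ≠ ⊤ ∧ p ∣ Nat.card H ∧
        ∀ g : G, g ∉ H → ¬ p ∣ Nat.card ↥(H ⊓ H.map (MulAut.conj g).toMonoidHom) := by
  classical
  constructor
  · intro hnot
    let r : Sylow p G → Sylow p G → Prop := fun S T => (S : Subgroup G) ⊓ (T : Subgroup G) ≠ ⊥
    have hsmul : ∀ (g : G) (S : Sylow p G),
        ((g • S : Sylow p G) : Subgroup G) = (S : Subgroup G).map (MulAut.conj g).toMonoidHom :=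
      fun _ _ => rfl
    have hr : ∀ (g : G) S T, r S T → r (g • S) (g • T) := by
      intro g S T h
      intro h'
      rw [hsmul, hsmul, ← Subgroup.map_inf _ _ (MulAut.conj g).toMonoidHom (MulAut.conj g).injective,
        Subgroup.map_eq_bot_iff_of_injective (f := (MulAut.conj g).toMonoidHom) _ (MulAut.conj g).injective] at h'
      exact h h' 
    have hR : ∀ (g : G) S T, Relation.ReflTransGen r S T → Relation.ReflTransGen r (g • S) (g • T) :=
      fun g S T h => h.lift _ (fun _ _ => hr g _ _)
    have hsymm : ∀ S T, Relation.ReflTransGen r S T → Relation.ReflTransGen r T S := by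
      intro S T h
      induction h with
      | refl => exact .refl
      | tail _ hbc ih => exact (Relation.ReflTransGen.single (by simpa [r, inf_comm] using hbc)).trans ih
    have hchain : ∀ S T : Sylow p G, Relation.ReflTransGen r S T →
        ∃ (n : ℕ) (c : Fin (n + 1) → Sylow p G), c 0 = S ∧ c (Fin.last n) = T ∧
          ∀ i : Fin n, c i.castSucc ≠ c i.succ ∧
            (c i.castSucc : Subgroup G) ⊓ (c i.succ : Subgroup G) ≠ ⊥ := by
      intro S T h
      induction h with
      | refl => exact ⟨0, fun _ => S, rfl, rfl, fun i => i.elim0⟩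
      | @tail b c _ hbc ih =>
        obtain ⟨n, f, h0, hl, hs⟩ := ih
        by_cases hbc' : b = c
        · exact ⟨n, f, h0, hl.trans hbc', hs⟩
        refine ⟨n + 1, Fin.snoc f c, ?_, by simp, ?_⟩
        · rw [show (0 : Fin (n + 2)) = (0 : Fin (n + 1)).castSucc from rfl, Fin.snoc_castSucc, h0]
        · intro i
          refine Fin.lastCases ?_ (fun j => ?_) i
          · rw [Fin.snoc_castSucc, Fin.succ_last, Fin.snoc_last, hl]
            exact ⟨hbc', hbc⟩
          · rw [Fin.snoc_castSucc, ← Fin.castSucc_succ, Fin.snoc_castSucc]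
            exact hs j
    obtain ⟨S₀⟩ : Nonempty (Sylow p G) := inferInstance
    obtain ⟨T₀, hT₀⟩ : ∃ T, ¬ Relation.ReflTransGen r S₀ T := by
      by_contra hall
      push_neg at hall
      apply hnot
      intro S T
      by_cases hST : (S : Subgroup G) ⊓ (T : Subgroup G) = ⊥
      · obtain ⟨n, c, h0, hl, hs⟩ := hchain S T ((hsymm _ _ (hall S)).trans (hall T))
        exact ⟨n, c, h0, hl, fun i => hST ▸ bot_le, hs⟩
      · by_cases heq : S = T
        · subst heq
          exact ⟨0, fun _ => S, rfl, rfl, fun i => inf_le_left, fun i => i.elim0⟩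
        · refine ⟨1, ![S, T], rfl, rfl, fun i => ?_, fun i => ?_⟩
          · fin_cases i
            · exact inf_le_left
            · exact inf_le_right
          · fin_cases i
            exact ⟨heq, hST⟩
    let H : Subgroup G :=
      { carrier := {g | Relation.ReflTransGen r S₀ (g • S₀)}
        one_mem' := by simp [Relation.ReflTransGen.refl]
        mul_mem' := by
          intro a b ha hb
          have := hR a _ _ hb
          rw [smul_smul] at this
          exact ha.trans this
        inv_mem' := by
          intro a ha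
          have := hR a⁻¹ _ _ (hsymm _ _ ha)
          rwa [inv_smul_smul] at this }
    have hp1 : p ∣ Nat.card G := by
      by_contra hnd
      apply hnot
      intro S T
      have hbot : ∀ U : Sylow p G, (U : Subgroup G) = ⊥ := by
        intro U
        obtain ⟨n, hn⟩ := U.isPGroup'.exists_card_eq
        refine Subgroup.eq_bot_of_card_eq _ ?_
        cases n with
        | zero => simpa using hn
        | succ n =>
          exact absurd ((dvd_pow_self p n.succ_ne_zero).trans (hn ▸ Subgroup.card_subgroup_dvd_card (U : Subgroup G))) hnd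
      have : S = T := Sylow.ext ((hbot S).trans (hbot T).symm)
      subst this
      exact ⟨0, fun _ => S, rfl, rfl, fun i => inf_le_left, fun i => i.elim0⟩
    have hS₀H : (S₀ : Subgroup G) ≤ H := by
      intro s hs
      show Relation.ReflTransGen r S₀ (s • S₀)
      rw [Sylow.smul_eq_iff_mem_normalizer.mpr (Subgroup.le_normalizer hs)]
    refine ⟨H, ?_, ?_, ?_⟩
    · intro htop
      obtain ⟨g, hg⟩ := MulAction.exists_smul_eq G S₀ T₀
      exact hT₀ (hg ▸ (htop ▸ Subgroup.mem_top g : g ∈ H))
    · exact (S₀.dvd_card_of_dvd_card hp1).trans (Subgroup.card_dvd_of_le hS₀H)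
    · intro g hg hdvd
      obtain ⟨y, hy⟩ := exists_prime_orderOf_dvd_card' p hdvd
      have hyG : orderOf (y : G) = p := by rwa [Subgroup.orderOf_coe]
      have hsyl : ∀ z : G, orderOf z = p → z ∈ H →
          ∃ T : Sylow p G, Relation.ReflTransGen r S₀ T ∧ z ∈ (T : Subgroup G) := by
        intro z hz hzH
        have hzp : IsPGroup p ↥((Subgroup.zpowers z).subgroupOf H) :=
          IsPGroup.of_card (n := 1) (by
            rw [Nat.card_congr (Subgroup.subgroupOfEquivOfLe (Subgroup.zpowers_le.mpr hzH)).toEquiv,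
              Nat.card_zpowers, hz, pow_one])
        obtain ⟨U, hU⟩ := hzp.exists_le_sylow
        obtain ⟨V, hV⟩ := (S₀.isPGroup'.comap_subtype (K := H)).exists_le_sylow
        have hVS : (V : Subgroup H).map H.subtype = S₀ := by
          refine S₀.is_maximal' (V.isPGroup'.map H.subtype) ?_
          intro s hs
          exact ⟨⟨s, hS₀H hs⟩, hV (by exact hs), rfl⟩
        obtain ⟨h, hh⟩ := MulAction.exists_smul_eq H V U
        refine ⟨(h : G) • S₀, h.2, ?_⟩
        have hzU : (⟨z, hzH⟩ : H) ∈ (U : Subgroup H) :=
          hU (by simp [Subgroup.mem_subgroupOf])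
        rw [← hh] at hzU
        obtain ⟨v, hv, hvz⟩ := hzU
        rw [hsmul, ← hVS]
        exact ⟨v, ⟨v, hv, rfl⟩, congrArg Subtype.val hvz⟩
      obtain ⟨hy1, hy2⟩ := Subgroup.mem_inf.mp y.2
      obtain ⟨T₁, hT₁, hyT₁⟩ := hsyl y hyG hy1
      have hy3 : g⁻¹ * (y : G) * g ∈ H := mem_conj_iff.mp hy2
      obtain ⟨T₂, hT₂, hyT₂⟩ := hsyl _ (by
        have e : g⁻¹ * (y : G) * g = MulAut.conj g⁻¹ (y : G) := by simp [MulAut.conj_apply]
        rw [e, MulEquiv.orderOf_eq, hyG]) hy3
      have hlink : r T₁ (g • T₂) := by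
        intro hbot
        have : (y : G) ∈ (T₁ : Subgroup G) ⊓ ((g • T₂ : Sylow p G) : Subgroup G) :=
          ⟨hyT₁, by rw [hsmul]; exact mem_conj_iff.mpr hyT₂⟩
        rw [hbot, Subgroup.mem_bot] at this
        rw [this, orderOf_one] at hyG
        exact (Fact.out : p.Prime).one_lt.ne hyG
      exact hg ((hT₁.tail hlink).trans (hsymm _ _ (hR g _ _ hT₂)))
  · rintro ⟨H, hHt, hpH, hse⟩ hconn
    have hse' : TI p H := hse
    obtain ⟨S, hSH, hSne⟩ := exists_sylow_le hse' hpH
    obtain ⟨g, -, hg⟩ := SetLike.exists_of_lt (lt_of_le_of_ne (le_top : H ≤ ⊤) hHt)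
    obtain ⟨n, c, h0, hl, -, hs⟩ := hconn S (g • S)
    have hall : ∀ i, (c i : Subgroup G) ≤ H := by
      intro i
      induction i using Fin.induction with
      | zero => rw [h0]; exact hSH
      | succ i ih =>
        refine le_of_inf_ne_bot hse' (c i.succ).isPGroup' fun hbot => (hs i).2 (le_bot_iff.mp ?_)
        rw [← hbot]
        exact le_inf inf_le_right (inf_le_left.trans ih)
    refine hg (mem_of_meet hse' (g • S).isPGroup' ?_ (hl ▸ hall (Fin.last n)) ?_)
    · show (S : Subgroup G).map (MulAut.conj g).toMonoidHom ≠ ⊥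
      rw [Ne, Subgroup.map_eq_bot_iff_of_injective _ (MulAut.conj g).injective]
      exact hSne
    · exact Subgroup.map_mono hSH

end Cfsg.Agent.S3056
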