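import Cfsg.Statements.S5214
import Cfsg.Agent.Lib.Suzuki2.ClassTwo.Squares
import Cfsg.Agent.Lib.FusionSystem.Normal

set_option autoImplicit false
open Cfsg

namespace Cfsg.Agent.S5214

/-- Let S be a Suzuki 2-group (a finite nonabelian 2-group with more than one involution admitting a cyclic group of automorphisms permuting its involutions regularly). Then S is normal in every saturated fusion system over S (such a group is resistant). -/
theorem result {Ω : Type*} [Group Ω] {S : Subgroup Ω} [Finite S] (hS : IsPGroup 2 S) (F : Cfsg.FusionSystem S) (hF : F.IsSaturated 2) (hsz : Cfsg.IsSuzukiTwoGroup ↥S) : F.IsNormal S := by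
  classical
  haveI : Fact (Nat.Prime 2) := ⟨Nat.prime_two⟩
  obtain ⟨-, h2, hnc, htwo, K, hcyc, htrans⟩ := hsz
  have hK : Lib.Suzuki2.ClassTwo.RegInvol K := by
    refine ⟨h2, ⟨fun k hk l hl => ?_, fun x y hx hx2 hy hy2 => ?_⟩, fun k hk x hx hx2 hkx => ?_, hnc, htwo⟩
    · have : IsMulCommutative K := inferInstance
      exact congrArg Subtype.val (mul_comm' (⟨k, hk⟩ : K) ⟨l, hl⟩)
    · obtain ⟨⟨k, hk⟩, h, -⟩ := htrans x y hx hx2 hy hy2
      exact ⟨k, hk, h⟩
    · obtain ⟨l, hl, huniq⟩ := htrans x x hx hx2 hx hx2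
      exact congrArg Subtype.val ((huniq ⟨k, hk⟩ hkx).trans (huniq 1 rfl).symm)
  let Z : Subgroup Ω := (Subgroup.center ↥S).map S.subtype
  have hmem : ∀ x ∈ S, x * x = 1 → x ∈ Z := fun x hx hx2 =>
    ⟨⟨x, hx⟩, hK.mem_center_iff.2 (Subtype.ext hx2), rfl⟩
  have hsq : ∀ z ∈ Z, z * z = 1 := by
    rintro _ ⟨z, hz, rfl⟩
    exact congrArg Subtype.val (hK.mem_center_iff.1 hz)
  have hcen : ∀ z ∈ Z, ∀ s ∈ S, s * z = z * s := by
    rintro _ ⟨z, hz, rfl⟩ s hs
    exact congrArg Subtype.val (Subgroup.mem_center_iff.1 hz ⟨s, hs⟩)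
  refine Lib.FS.isNormal_of_centricRadical hS hF le_rfl fun P hfn hc hr => ⟨?_, fun α hα x hx => hc.1 (α x).2⟩
  have hZP : Z ≤ P := fun z hz => hc.2 P (Lib.FS.isConj_refl F hc.1)
    (Lib.FS.mem_centralizerIn'.2 ⟨Subgroup.map_subtype_le _ hz, fun y hy => by
      rw [← hcen z hz y (hc.1 hy), mul_inv_cancel_right]⟩)
  have hiff : ∀ α : MulAut P, ∀ x : P, (x : Ω) ∈ Z ↔ ((α x : P) : Ω) ∈ Z := fun α x => by
    refine ⟨fun hx => hmem _ (hc.1 (α x).2) ?_, fun hx => hmem _ (hc.1 x.2) ?_⟩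
    · have h1 : α x * α x = 1 := by
        rw [← map_mul, show x * x = 1 from Subtype.ext (hsq _ hx), map_one]
      exact congrArg Subtype.val h1
    · have h1 : x * x = 1 := α.injective (by rw [map_mul, map_one]; exact Subtype.ext (hsq _ hx))
      exact congrArg Subtype.val h1
  have hS' : F.StronglyClosed S := ⟨le_rfl, fun R _ φ hφ x => (F.le_of_mem hφ).2 x⟩
  refine Lib.FS.le_of_layerStab hS hc hr hS' (fun b : Bool => if b then ⊥ else Z) (fun b => if b then Z else ⊤)
    (fun b α _ x => ?_) (fun b α _ x => ?_) (fun b q hq x hx => ?_) ?_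
  · cases b
    · exact hiff α x
    · simp [Subgroup.mem_bot]
  · cases b
    · simp
    · exact hiff α x
  · cases b
    · refine ⟨_, hK.comm_mem_center ⟨(x : Ω)⁻¹, inv_mem (hc.1 x.2)⟩ ⟨q, hq⟩, ?_⟩
      simp [commutatorElement_def, mul_assoc]
    · simp only [if_true, Subgroup.mem_bot]
      rw [hcen _ hx q hq]
      group
  · rintro ⟨γ, hγ, -⟩
    obtain ⟨b, -, hb⟩ := Lib.FS.exists_pow_fix (Z := Z) (γ := γ) (a := 0) hS hc.1
      (fun x hx => ((hγ false).1 x).1 (by simpa using hx)) (fun x hx => by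
        have h1 := (hγ true).2 x (by simpa using hx)
        simp only [if_true, Subgroup.mem_bot, inv_mul_eq_one] at h1
        rw [pow_zero, pow_one]
        exact Subtype.ext h1.symm)
    exact ⟨b, Subtype.ext (MulEquiv.ext fun x => hb x (by simpa using (hγ false).2 x (Subgroup.mem_top _)))⟩

end Cfsg.Agent.S5214
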