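import Cfsg.Statements.S5315
import Cfsg.Agent.Lib.FusionEssential.TransportComponents
import Cfsg.Agent.Lib.FusionP3.Tate
import Cfsg.Agent.Lib.FusionAlperin.Model

set_option autoImplicit false
open Cfsg

namespace Cfsg.Agent.S5315

/-- An analogue of Grün's lemma for fusion systems. Let F be a saturated fusion system over a finite p-group S that is perfect in the sense that its hyperfocal subgroup is all of S (F coincides with its p-residual subsystem). Then the second centre of F equals its centre: every fusion system over S/(Z(F) ∩ S) that is the factor system of F modulo its centre Z(F), read through the quotient map, has trivial centre. -/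
theorem result {Ω : Type*} [Group Ω] {S : Subgroup Ω} [Finite S] (p : ℕ) [Fact p.Prime] (hS : IsPGroup p S) (F : Cfsg.FusionSystem S) (hF : F.IsSaturated p)
    (hperf : F.hyperfocalSubgroup p = S)
    (E : Cfsg.FusionSystem (⊤ : Subgroup (↥S ⧸ (F.center).subgroupOf S)))
    (hE : F.IsFactorSystem F.center (QuotientGroup.mk' ((F.center).subgroupOf S)) E) : E.center = ⊥ := by
  haveI : Finite (⊤ : Subgroup (↥S ⧸ (F.center).subgroupOf S)) := inferInstance
  have hZsc := Cfsg.Agent.Lib.FusionEssential.Transport.stronglyClosed_center hS hF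
  have hZc := (Cfsg.Agent.Lib.FS.isCentral_iff hS hF).1 (Cfsg.Agent.Lib.FusionAlperin.Join.isCentral_center F)
  have hsm := Cfsg.Agent.Lib.FS.factor_isSurjectiveMorphism hS hF hZsc hE
  have hEs := Cfsg.Agent.Lib.FS.factor_isSaturated hS hF hZsc hE
  have hEc := (Cfsg.Agent.Lib.FS.isCentral_iff ((hS.to_quotient _).to_subgroup ⊤) hEs).1
    (Cfsg.Agent.Lib.FusionAlperin.Join.isCentral_center E)
  set Z := F.center
  set q := QuotientGroup.mk' (Z.subgroupOf S)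
  set W := Cfsg.FusionSystem.preimageAlong q E.center with hW
  have hWS : W ≤ S := Cfsg.Agent.Lib.FS.preimageAlong_le q _
  haveI := Cfsg.Agent.Lib.FS.finite_sub hWS
  have hZfix : ∀ {P : Subgroup Ω} {φ : P →* Ω}, φ ∈ F.Hom P → ∀ x : P, (x : Ω) ∈ Z → φ x = x := by
    intro P φ hφ x hx
    obtain ⟨τ, hτ, hτe⟩ := Cfsg.Agent.Lib.FS.exists_restrict hφ (Subgroup.zpowers_le.2 x.2)
    exact (hτe ⟨x, Subgroup.mem_zpowers _⟩).symm.trans (hZc.2 _ hx _ ⟨τ, hτ, rfl⟩)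
  have hZcomm : ∀ z ∈ Z, ∀ u ∈ S, u * z = z * u := fun z hz u hu => by
    have h : u * z * u⁻¹ = z := hZfix (F.conj_mem le_rfl hu) ⟨z, hZc.1 hz⟩ hz
    conv_rhs => rw [← h]
    group
  have hWdiff : ∀ {P : Subgroup Ω} {φ : P →* Ω}, φ ∈ F.Hom P → ∀ x : P, (x : Ω) ∈ W →
      (x : Ω)⁻¹ * φ x ∈ Z := by
    intro P φ hφ x hx
    obtain ⟨hxS, hxE⟩ := Cfsg.Agent.Lib.FS.mem_preimageAlong.1 hx
    obtain ⟨φ', hφ', he⟩ := Cfsg.Agent.Lib.FusionEssential.Transport.push hsm.1 hφ rfl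
    have hm : q ⟨x, hxS⟩ ∈ Cfsg.FusionSystem.imageAlong q P := ⟨⟨x, hxS⟩, x.2, rfl⟩
    obtain ⟨τ, hτ, hτe⟩ := Cfsg.Agent.Lib.FS.exists_restrict hφ' (Subgroup.zpowers_le.2 hm)
    have h1 : q ⟨φ x, Cfsg.Agent.Lib.FS.apply_mem hφ x⟩ = q ⟨x, hxS⟩ :=
      ((hτe ⟨_, Subgroup.mem_zpowers _⟩).trans (he x hm)).symm.trans (hEc.2 _ hxE _ ⟨τ, hτ, rfl⟩)
    have h2 := QuotientGroup.eq.1 h1.symm
    exact Subgroup.mem_subgroupOf.1 h2
  have hWcomm : ∀ x ∈ W, ∀ u ∈ S, x⁻¹ * u * x * u⁻¹ ∈ Z := fun x hx u hu => by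
    have h := hWdiff (F.conj_mem le_rfl hu) ⟨x, hWS hx⟩ hx
    change x⁻¹ * (u * x * u⁻¹) ∈ Z at h
    simpa [mul_assoc] using h
  have hWsc : F.StronglyClosed W := ⟨hWS, fun R hR φ hφ x => by
    have h := hWdiff hφ x (hR x.2)
    have hZW : Z ≤ W := fun z hz => Cfsg.Agent.Lib.FS.mem_preimageAlong.2 ⟨hZc.1 hz, by
      rw [show q ⟨z, hZc.1 hz⟩ = 1 from (QuotientGroup.eq_one_iff _).2 hz]; exact one_mem _⟩
    simpa using W.mul_mem (hR x.2) (hZW h)⟩
  have hWn : F.IsNormal W := by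
    refine Cfsg.Agent.Lib.FS.isNormal_of_series hS hF (n := 2) ![⊥, Z, W] rfl rfl (fun i => ?_) fun i => ?_
    · fin_cases i
      · exact hZsc
      · exact hWsc
    · fin_cases i
      · refine (Subgroup.commutator_eq_bot_iff_le_centralizer.2 ?_).le
        intro w hw z hz
        exact (hZcomm z hz w (hWS hw)).symm
      · refine Subgroup.commutator_le.2 fun a ha b hb => ?_
        have := hWcomm a⁻¹ (inv_mem ha) b (hWS hb)
        simpa [commutatorElement_def] using this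
  -- `W` is central in `S`
  have hWS' : ∀ x ∈ W, ∀ u ∈ S, x * u = u * x := by
    intro x hx
    let c : S →* Ω :=
      { toFun := fun u => x⁻¹ * u * x * (u : Ω)⁻¹
        map_one' := by simp
        map_mul' := fun u v => by
          have h := hZcomm _ (hWcomm x hx v v.2) u u.2
          calc x⁻¹ * ((u * v : S) : Ω) * x * ((u * v : S) : Ω)⁻¹
              = x⁻¹ * (u : Ω) * x * (x⁻¹ * v * x * (v : Ω)⁻¹) * (u : Ω)⁻¹ := by
                rw [Subgroup.coe_mul]; group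
            _ = x⁻¹ * (u : Ω) * x * ((u : Ω)⁻¹ * (u * (x⁻¹ * v * x * (v : Ω)⁻¹))) * (u : Ω)⁻¹ := by group
            _ = x⁻¹ * (u : Ω) * x * (u : Ω)⁻¹ * (x⁻¹ * v * x * (v : Ω)⁻¹) := by rw [h]; group }
    have hker : F.focalSubgroup ≤ c.ker.map S.subtype := by
      refine (Subgroup.closure_le _).2 ?_
      rintro y ⟨P, φ, u, hφ, rfl⟩
      have hP := Cfsg.Agent.Lib.FS.src_le hφ
      obtain ⟨ψ, hψ, he, -⟩ := hWn.2 P φ hφ
      refine ⟨(⟨u, hP u.2⟩ : S)⁻¹ * ⟨φ u, Cfsg.Agent.Lib.FS.apply_mem hφ u⟩, ?_, rfl⟩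
      rw [SetLike.mem_coe, MonoidHom.mem_ker, map_mul, map_inv, inv_mul_eq_one]
      have hcz : x⁻¹ * (u : Ω) * x * (u : Ω)⁻¹ ∈ Z := hWcomm x hx u (hP u.2)
      let X : ↥(P ⊔ W) := Subgroup.inclusion le_sup_right ⟨x, hx⟩
      let U : ↥(P ⊔ W) := Subgroup.inclusion le_sup_left u
      have h1 : ψ (X⁻¹ * U * X * U⁻¹) = x⁻¹ * (u : Ω) * x * (u : Ω)⁻¹ := hZfix hψ _ hcz
      rw [map_mul, map_mul, map_mul, map_inv, map_inv, show ψ U = φ u from he u] at h1
      have hd : x⁻¹ * ψ X ∈ Z := hWdiff hψ X hx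
      have hx1 : ψ X = x * (x⁻¹ * ψ X) := by group
      show x⁻¹ * (u : Ω) * x * (u : Ω)⁻¹ = x⁻¹ * φ u * x * (φ u)⁻¹
      rw [← h1, hx1]
      set d := x⁻¹ * ψ X
      have hxu : x⁻¹ * φ u * x ∈ S :=
        S.mul_mem (S.mul_mem (S.inv_mem (hWS hx)) (Cfsg.Agent.Lib.FS.apply_mem hφ u)) (hWS hx)
      calc (x * d)⁻¹ * φ u * (x * d) * (φ u)⁻¹ = d⁻¹ * (x⁻¹ * φ u * x * d) * (φ u)⁻¹ := by group
        _ = x⁻¹ * φ u * x * (φ u)⁻¹ := by rw [hZcomm d hd _ hxu]; group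
    intro u hu
    have hu' : u ∈ F.focalSubgroup := by
      have := Cfsg.Agent.Lib.FusionP3.Tate.hyperfocal_le_focal F p
      rw [hperf] at this
      exact this hu
    obtain ⟨v, hv, rfl⟩ := hker hu'
    have hv' : x⁻¹ * (v : Ω) * x * (v : Ω)⁻¹ = 1 := hv
    calc x * v = x * (x⁻¹ * (v : Ω) * x * (v : Ω)⁻¹ * v) := by rw [hv', one_mul]
      _ = v * x := by group
  -- and fixed by the system
  have hone : ∀ β ∈ F.autGroup W, β = 1 := by
    intro β hβ
    obtain ⟨R, hR⟩ := (Cfsg.Agent.Lib.FS.fullyAutomized_of_fullyNormalized hS hF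
      (Cfsg.Agent.Lib.FusionAlperin.Model.fullyNormalized_of_normal hWn)).2
    have hRbot : (R : Subgroup (F.autGroup W)) = ⊥ := by
      refine eq_bot_iff.2 fun a ha => ?_
      rw [hR] at ha
      obtain ⟨g, hg, he⟩ := Cfsg.Agent.Lib.FS.mem_autInducedBy.1 (Subgroup.mem_subgroupOf.1 ha)
      refine Subgroup.mem_bot.2 (Subtype.ext (MulEquiv.ext fun w => Subtype.ext ?_))
      rw [he w, ← hWS' w w.2 g hg, mul_inv_cancel_right]
      rfl
    obtain ⟨φ, hφ, -, hφe⟩ := Cfsg.Agent.Lib.FS.exists_hom_of_aut hWS hβ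
    have hd : ∀ w : W, (w : Ω)⁻¹ * ((β w : W) : Ω) ∈ Z := fun w => by rw [← hφe]; exact hWdiff hφ w w.2
    have hn : ∀ (n : ℕ) (w : W), (((β ^ n) w : W) : Ω) = w * ((w : Ω)⁻¹ * ((β w : W) : Ω)) ^ n := by
      intro n
      induction n with
      | zero => simp
      | succ n ih =>
        intro w
        set d := (w : Ω)⁻¹ * ((β w : W) : Ω)
        have e : (β ^ n) w = w * (w⁻¹ * β w) ^ n := Subtype.ext (by rw [ih]; simp [d])
        have e2 : β (w⁻¹ * β w) = w⁻¹ * β w := Subtype.ext (by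
          rw [← hφe]
          exact hZfix hφ (w⁻¹ * β w) (hd w))
        rw [pow_succ', MulAut.mul_apply, e, map_mul, map_pow, e2, Subgroup.coe_mul, SubmonoidClass.coe_pow]
        show ((β w : W) : Ω) * d ^ n = _
        rw [pow_succ', ← mul_assoc]
        simp [d]
    obtain ⟨N, hN⟩ := IsPGroup.iff_card.1 (Cfsg.Agent.Lib.FS.isPGroup_of_le hS hWS)
    have hpN : (⟨β, hβ⟩ : F.autGroup W) ^ p ^ N = 1 := by
      refine Subtype.ext (MulEquiv.ext fun w => Subtype.ext ?_)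
      show (((β ^ p ^ N) w : W) : Ω) = w
      have h1 : ((w⁻¹ * β w : W) : Ω) ^ p ^ N = 1 := by
        rw [← SubmonoidClass.coe_pow, ← hN, pow_card_eq_one']
        rfl
      rw [hn, show (w : Ω)⁻¹ * ((β w : W) : Ω) = ((w⁻¹ * β w : W) : Ω) from rfl, h1, mul_one]
    have hb : (⟨β, hβ⟩ : F.autGroup W) = 1 := by
      rw [← orderOf_eq_one_iff]
      have hd1 := orderOf_dvd_of_pow_eq_one hpN
      have hcard : ¬ p ∣ Nat.card (F.autGroup W) := by
        have := R.not_dvd_index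
        rwa [hRbot, Subgroup.index_bot] at this
      exact Nat.eq_one_of_dvd_coprimes (Nat.Coprime.pow_left N ((Fact.out : p.Prime).coprime_iff_not_dvd.2 hcard))
        hd1 (orderOf_dvd_natCard _)
    exact congrArg Subtype.val hb
  have hWc : F.IsCentral W := by
    refine (Cfsg.Agent.Lib.FS.isCentral_iff hS hF).2 ⟨hWS, ?_⟩
    rintro x hx y ⟨φ, hφ, rfl⟩
    obtain ⟨α, hα, he⟩ := (Cfsg.Agent.Lib.FS.isNormal_iff_extend hS hF hWS).1 hWn _
      (Subgroup.zpowers_le.2 hx) φ hφ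
    rw [← he, hone α hα]
    rfl
  refine eq_bot_iff.2 fun y hy => ?_
  obtain ⟨s, rfl⟩ := QuotientGroup.mk'_surjective (Z.subgroupOf S) y
  have hsW : (s : Ω) ∈ W := Cfsg.Agent.Lib.FS.mem_preimageAlong.2 ⟨s.2, hy⟩
  exact Subgroup.mem_bot.2 ((QuotientGroup.eq_one_iff s).2 ((le_sSup hWc : W ≤ Z) hsW))

end Cfsg.Agent.S5315
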