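import Cfsg.Statements.S5150
import Cfsg.Agent.Lib.FusionSystem.ComponentCore
-- import your own Cfsg.Agent.* helpers here

set_option autoImplicit false
open Cfsg

namespace Cfsg.Agent.S5150

/-- Let F be a saturated fusion system over a finite p-group S and E its layer (over T). Then O_p(F), the largest subgroup normal in F, centralizes E: every map of E extends to a map of F on the subgroup generated by its source and O_p(F) that fixes O_p(F) elementwise (so E is a subsystem of the centralizer system of O_p(F), and T commutes with O_p(F)). -/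
theorem result {Ω : Type*} [Group Ω] {S : Subgroup Ω} [Finite S] (p : ℕ) [Fact p.Prime] (hS : IsPGroup p S) (F : Cfsg.FusionSystem S) (hF : F.IsSaturated p) {T : Subgroup Ω} (E : Cfsg.FusionSystem T) (hE : E.IsLayerOf F p) (P : Subgroup Ω) : E.Hom P ⊆ F.centralizerHom F.core P := by
  open Cfsg.FusionSystem Cfsg.Agent.Lib Cfsg.Agent.Lib.FS in
  obtain ⟨C, hC, hCn⟩ := exists_centralizer_normal hS hF (FusionAlperin.Join.isNormal_core F)
  refine fun φ hφ => (hC P).le (hE.2.2 _ C hCn (fun U C' hC' P' φ' hφ' => (hC P').ge ?_) P hφ)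
  obtain ⟨hU, h⟩ := fixes_core hC'.1 inferInstance inferInstance hS hF hC'.2
  obtain ⟨h1, h2⟩ := h P' φ' hφ'
  exact ⟨h1, (src_le hφ').trans hU, fun x => hU (apply_mem hφ' x), h2⟩

end Cfsg.Agent.S5150
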