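import Cfsg.Statements.S5290
import Cfsg.Agent.Lib.FusionSystem.NormalFacts

set_option autoImplicit false
open Cfsg

namespace Cfsg.Agent.S5290

/-- Let F be a saturated fusion system over a finite p-group S and Q a subgroup of S. Then Q is normal in F (F = N_F(Q)) if and only if the inner fusion system of Q, consisting of the conjugations by elements of Q on subgroups of Q, is a weakly normal subsystem of F (both saturated, Q strongly closed, invariant under F-conjugation, with the Frattini property). -/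
theorem result {Ω : Type*} [Group Ω] {S : Subgroup Ω} [Finite S] (p : ℕ) [Fact p.Prime] (hS : IsPGroup p S)
    (F : Cfsg.FusionSystem S) (hF : F.IsSaturated p)
    (Q : Subgroup Ω) (hQ : Q ≤ S) :
    F.IsNormal Q ↔ (Cfsg.innerFusionSystem Q).IsWeaklyNormalIn F p := by
  haveI := Cfsg.Agent.Lib.FS.finite_sub hQ
  have hQp : IsPGroup p Q := Cfsg.Agent.Lib.FS.isPGroup_of_le hS hQ
  constructor
  · intro hN
    have hext := (Cfsg.Agent.Lib.FS.isNormal_iff_extend hS hF hQ).1 hN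
    refine ⟨?_, hF, ⟨?_, Cfsg.Agent.Lib.FS.isNormal_stronglyClosed hN, ?_, ?_⟩⟩
    · -- the inner system is saturated
      intro P hP
      haveI := Cfsg.Agent.Lib.FS.finite_sub hP
      refine ⟨P, Cfsg.Agent.Lib.FS.isConj_refl _ hP, ⟨hP, ?_⟩, hP, ?_⟩
      · have hle : (Cfsg.innerFusionSystem Q).autGroup P ≤ autInducedBy Q P := by
          refine (Subgroup.closure_le _).2 fun α hα => ?_
          obtain ⟨-, g, hg, he⟩ := hα
          exact Cfsg.Agent.Lib.FS.mem_autInducedBy.2 ⟨g, hg, he⟩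
        have htop : (autInducedBy Q P).subgroupOf ((Cfsg.innerFusionSystem Q).autGroup P) = ⊤ :=
          Subgroup.subgroupOf_eq_top.2 hle
        obtain ⟨R⟩ : Nonempty (Sylow p ((Cfsg.innerFusionSystem Q).autGroup P)) := inferInstance
        refine ⟨R, ?_⟩
        rw [htop]
        refine (R.is_maximal' ?_ le_top).symm
        exact ((Cfsg.Agent.Lib.FS.isPGroup_autInducedBy hQp P).to_le hle).to_subgroup ⊤
      · rintro R φ ⟨hR, g, hg, he⟩ hφR
        refine ⟨Cfsg.conjHom _ g, (Cfsg.innerFusionSystem Q).conj_mem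
          ((Cfsg.Agent.Lib.FS.extender_le_normalizerIn _ _).trans (Cfsg.Agent.Lib.FS.normalizerIn_le _)) hg, ?_⟩
        intro x hx hN
        rw [he]
        rfl
    · rintro P φ ⟨hP, g, hg, he⟩
      exact Cfsg.Agent.Lib.FS.mem_of_conj F (hP.trans hQ) (hQ hg) he
    · rintro P hPQ φ ⟨-, q, hq, hqe⟩ α hα
      refine ⟨Cfsg.conjHom _ ((α ⟨q, hq⟩ : Q) : Ω),
        (Cfsg.innerFusionSystem Q).conj_mem ?_ (α ⟨q, hq⟩).2, fun x hφx hαx => ?_⟩
      · rintro _ ⟨y, -, rfl⟩; exact (α y).2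
      · show ((α ⟨q, hq⟩ : Q) : Ω) * ((α ⟨x, hPQ x.2⟩ : Q) : Ω) * ((α ⟨q, hq⟩ : Q) : Ω)⁻¹ = _
        rw [show (⟨φ x, hφx⟩ : Q) = ⟨q, hq⟩ * ⟨x, hPQ x.2⟩ * ⟨q, hq⟩⁻¹ from Subtype.ext (hqe x),
          map_mul, map_mul, map_inv]
        rfl
    · intro P hPQ φ hφ
      obtain ⟨α, hα, he⟩ := hext P hPQ φ hφ
      refine ⟨α, hα, P.subtype, Cfsg.Agent.Lib.FS.subtype_mem _ hPQ, fun x hx => ?_⟩
      rw [← he x]
      rfl
  · rintro ⟨-, -, -, -, -, hfr⟩
    refine (Cfsg.Agent.Lib.FS.isNormal_iff_extend hS hF hQ).2 fun P hPQ φ hφ => ?_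
    obtain ⟨α, hα, φ₀, ⟨-, q, hq, he⟩, hφe⟩ := hfr P hPQ φ hφ
    have hin : MulAut.conj (⟨q, hq⟩ : Q) ∈ F.autGroup Q :=
      Cfsg.Agent.Lib.FS.mem_autGroup_of_hom (F.conj_mem hQ (hQ hq)) fun x => rfl
    refine ⟨α * MulAut.conj ⟨q, hq⟩, mul_mem hα hin, fun x => ?_⟩
    have hx : φ₀ x ∈ Q := by rw [he]; exact Q.mul_mem (Q.mul_mem hq (hPQ x.2)) (Q.inv_mem hq)
    rw [hφe x hx, MulAut.mul_apply]
    congr 2
    exact Subtype.ext (he x).symm

end Cfsg.Agent.S5290
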