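import Cfsg.Statements.S5337
import Cfsg.Agent.Lib.FusionEssential.Abelian
import Cfsg.Agent.S5290

set_option autoImplicit false
open Cfsg

namespace Cfsg.Agent.S5337

/-- The inner system of a subgroup of an abelian base is normal when the system is inner, and
that of the base itself always is. -/
theorem inner_isNormalIn {Ω : Type*} [Group Ω] {S : Subgroup Ω} [Finite S] {p : ℕ} [Fact p.Prime]
    (hS : IsPGroup p S) {F : Cfsg.FusionSystem S} (hF : F.IsSaturated p)
    (hab : ∀ x ∈ S, ∀ y ∈ S, x * y = y * x) {T : Subgroup Ω} (hTS : T ≤ S) (hN : F.IsNormal T) :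
    (Cfsg.innerFusionSystem T).IsNormalIn F p := by
  refine ⟨(Cfsg.Agent.S5290.result p hS F hF T hTS).1 hN, fun α hα => ?_⟩
  have habT : ∀ x ∈ T, ∀ y ∈ T, x * y = y * x := fun x hx y hy => hab x (hTS hx) y (hTS hy)
  have hα1 : α = 1 := by
    obtain ⟨φ, hφ, -, he⟩ := Cfsg.Agent.Lib.FS.exists_hom_of_aut le_rfl hα
    refine MulEquiv.ext fun x => Subtype.ext ?_
    rw [← he x, Cfsg.Agent.Lib.FusionEssential.Abelian.inner_apply habT hφ x]
    rfl
  refine ⟨1, one_mem _, fun x => ?_, fun c _ => ?_⟩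
  · subst hα1
    rfl
  · have : (c : Ω)⁻¹ * (((1 : MulAut _) c : _) : Ω) = 1 := inv_mul_cancel _
    rw [this]
    exact one_mem _

/-- Let F be a saturated fusion system over a finite abelian p-group S. Then F is simple if and only if S has order p and F is the inner system of S (whose only maps are the inclusions, S being abelian). -/
theorem result {Ω : Type*} [Group Ω] {S : Subgroup Ω} [Finite S] (p : ℕ) [Fact p.Prime] (hS : IsPGroup p S) (F : Cfsg.FusionSystem S) (hF : F.IsSaturated p) (hab : ∀ x ∈ S, ∀ y ∈ S, x * y = y * x) : F.IsSimple p ↔ (Nat.card S = p ∧ ∀ P : Subgroup Ω, F.Hom P = (Cfsg.innerFusionSystem S).Hom P) := by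
  constructor
  · rintro ⟨-, hne, h⟩
    have hinner : ∀ P : Subgroup Ω, F.Hom P = (Cfsg.innerFusionSystem S).Hom P := by
      haveI : IsMulCommutative S := ⟨⟨fun a b => Subtype.ext (hab a a.2 b b.2)⟩⟩
      have hN : F.IsNormal S := Cfsg.Agent.Lib.FS.isNormal_of_abelian hS hF
        ⟨le_rfl, fun R _ ψ hψ x => Cfsg.Agent.Lib.FS.apply_mem hψ x⟩
      rcases h S _ (inner_isNormalIn hS hF hab le_rfl hN) with e | ⟨-, e⟩
      · exact absurd e hne
      · exact fun P => (e P).symm
    refine ⟨?_, hinner⟩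
    haveI : Nontrivial S := (Subgroup.nontrivial_iff_ne_bot S).2 hne
    obtain ⟨m, hm, hcard⟩ := hS.nontrivial_iff_card.1 ‹_›
    have hdvd : p ∣ Nat.card S := by rw [hcard]; exact dvd_pow_self p hm.ne'
    obtain ⟨x, hx⟩ := exists_prime_orderOf_dvd_card' p hdvd
    have hTS : Subgroup.zpowers (x : Ω) ≤ S := Subgroup.zpowers_le.2 x.2
    have hN : F.IsNormal (Subgroup.zpowers (x : Ω)) := by
      refine (Cfsg.Agent.Lib.FS.isNormal_iff_extend hS hF hTS).2 fun P hPR φ hφ => ⟨1, one_mem _, fun y => ?_⟩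
      rw [hinner P] at hφ
      exact (Cfsg.Agent.Lib.FusionEssential.Abelian.inner_apply hab hφ y).symm
    have hxc : Nat.card (Subgroup.zpowers (x : Ω)) = p := by
      rw [Nat.card_zpowers, Subgroup.orderOf_coe, hx]
    rcases h _ _ (inner_isNormalIn hS hF hab hTS hN) with e | ⟨e, -⟩
    · rw [e, Subgroup.card_bot] at hxc
      exact absurd hxc.symm (Fact.out : p.Prime).ne_one
    · rw [← e]; exact hxc
  · rintro ⟨hcard, hinner⟩
    refine ⟨hF, ?_, fun T E hE => ?_⟩
    · intro h
      rw [h, Subgroup.card_bot] at hcard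
      exact (Fact.out : p.Prime).ne_one hcard.symm
    · obtain ⟨⟨-, -, hsub, hT, -, -⟩, -⟩ := hE
      haveI : Fact (Nat.card S).Prime := ⟨hcard ▸ Fact.out⟩
      rcases (T.subgroupOf S).eq_bot_or_eq_top_of_prime_card with e | e
      · left
        rw [Subgroup.subgroupOf_eq_bot, disjoint_iff, inf_eq_left.2 hT.1] at e
        exact e
      · right
        obtain rfl : T = S := le_antisymm hT.1 (Subgroup.subgroupOf_eq_top.1 e)
        refine ⟨rfl, fun P => Set.ext fun φ => ⟨fun hφ => hsub P hφ, fun hφ => ?_⟩⟩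
        rw [hinner P] at hφ
        exact Cfsg.Agent.Lib.FusionEssential.Abelian.mem_of_fixed E hφ.1
          (Cfsg.Agent.Lib.FusionEssential.Abelian.inner_apply hab hφ)

end Cfsg.Agent.S5337
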