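import Cfsg.Statements.S5148
import Cfsg.Agent.S5337
import Cfsg.Agent.Lib.FusionAlperin.Join
import Cfsg.Agent.Lib.FusionEssential.Abelian
import Cfsg.Agent.Lib.FusionEssential.TransportComponents

set_option autoImplicit false
open Cfsg

namespace Cfsg.Agent.S5148

/-- A quasisimple fusion system over a finite p-group S (saturated, equal to its p-residual subsystem, with simple — in particular nontrivial — factor system modulo its centre) has S nonabelian. -/
theorem result {Ω : Type*} [Group Ω] {S : Subgroup Ω} [Finite S] (p : ℕ) [Fact p.Prime] (hS : IsPGroup p S) (F : Cfsg.FusionSystem S) (hq : F.Quasisimple p) : ¬ IsMulCommutative S := by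
  open Cfsg.FusionSystem Cfsg.Agent.Lib in
  intro hcomm
  have hab : ∀ x ∈ S, ∀ y ∈ S, x * y = y * x := fun x hx y hy =>
    congrArg Subtype.val (hcomm.is_comm.comm (⟨x, hx⟩ : S) ⟨y, hy⟩)
  obtain ⟨hF, hhyp, hsim⟩ := hq
  have hc := (FS.isCentral_iff hS hF).1 (FusionAlperin.Join.isCentral_center F)
  set Z := F.center.subgroupOf S
  set θ := QuotientGroup.mk' Z
  obtain ⟨E, hE⟩ := FS.exists_factorSystem (S' := ⊤) (FusionEssential.Transport.stronglyClosed_center hS hF) θ
    (fun s => (QuotientGroup.eq_one_iff s).trans Subgroup.mem_subgroupOf)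
    (MonoidHom.range_eq_top.2 (QuotientGroup.mk'_surjective _))
  have hr := hE.2.2.1
  have hsimE := hsim E hE
  have habQ : ∀ x ∈ (⊤ : Subgroup (S ⧸ Z)), ∀ y ∈ (⊤ : Subgroup (S ⧸ Z)), x * y = y * x := by
    intro x _ y _
    obtain ⟨a, rfl⟩ := QuotientGroup.mk'_surjective Z x
    obtain ⟨b, rfl⟩ := QuotientGroup.mk'_surjective Z y
    rw [← map_mul, ← map_mul, hcomm.is_comm.comm a b]
  have hin := ((S5337.result p (FS.isPGroup_image hS hr) E hsimE.1 habQ).1 hsimE).2
  have haut : ∀ α ∈ F.autGroup S, α = 1 := by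
    intro α hα
    obtain ⟨φ, hφ, -, hφα⟩ := FS.exists_hom_of_aut le_rfl hα
    have hfix : ∀ z : S, (z : Ω) ∈ F.center → α z = z := fun z hz => by
      obtain ⟨τ, hτ, hτe⟩ := FS.exists_restrict hφ (Subgroup.zpowers_le.2 z.2)
      refine Subtype.ext ?_
      rw [← hφα, ← hτe ⟨(z : Ω), Subgroup.mem_zpowers _⟩]
      exact hc.2 _ hz _ ⟨τ, hτ, rfl⟩
    have hc1 : ∀ s : S, ((s⁻¹ * α s : S) : Ω) ∈ F.center := by
      intro s
      obtain ⟨φ₁, hφ₁, he₁⟩ := FS.exists_restrict hφ (FS.preimageAlong_le θ ⊤)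
      have hK : F.StronglyClosed (θ.ker.map S.subtype) := by
        rw [FS.ker_map_eq hE.1 hE.2.1]; exact FusionEssential.Transport.stronglyClosed_center hS hF
      obtain ⟨φ', hφ'⟩ := FS.exists_induced hK hr le_rfl hφ₁
      have hmem : φ' ∈ E.Hom ⊤ := (hE.2.2.2 ⊤ φ').2 ⟨le_rfl, φ₁, hφ₁, hφ'⟩
      rw [hin] at hmem
      have h1 := FusionEssential.Abelian.inner_apply habQ hmem ⟨θ s, trivial⟩
      rw [FS.inducedAlong_apply hφ' ⟨s, FS.mem_preimageAlong.2 ⟨s.2, trivial⟩⟩ s.2 trivial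
        (FS.apply_mem hφ₁ _)] at h1
      refine Subgroup.mem_subgroupOf.1 ((QuotientGroup.eq (s := Z)).1 ?_)
      refine h1.symm.trans (congrArg θ (Subtype.ext ?_))
      show φ₁ _ = _
      rw [he₁]
      exact hφα s
    have hpow : ∀ (n : ℕ) (s : S), (α ^ n) s = s * (s⁻¹ * α s) ^ n := by
      intro n
      induction n with
      | zero => intro s; simp
      | succ n ih =>
        intro s
        rw [pow_succ', MulAut.mul_apply, ih, map_mul, map_pow, hfix _ (hc1 s), pow_succ' _ n,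
          ← mul_assoc, mul_inv_cancel_left]
    have hn : α ^ Nat.card S = 1 := MulEquiv.ext fun s => by
      rw [hpow, pow_card_eq_one', mul_one]
      rfl
    obtain ⟨a, ha⟩ := IsPGroup.iff_card.1 hS
    have hdvd : orderOf α ∣ Nat.card (F.autGroup S) := by
      rw [← Subgroup.orderOf_mk α hα]
      exact orderOf_dvd_natCard _
    have hcop : (p ^ a).Coprime (Nat.card (F.autGroup S)) :=
      ((Fact.out : p.Prime).coprime_iff_not_dvd.2
        (FusionEssential.Abelian.not_dvd_card_autGroup hS hF hab)).pow_left a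
    rw [← orderOf_eq_one_iff]
    exact Nat.eq_one_of_dvd_coprimes hcop (ha ▸ orderOf_dvd_of_pow_eq_one hn) hdvd
  have hbot : F.hyperfocalSubgroup p = ⊥ := by
    refine le_bot_iff.1 ((Subgroup.closure_le _).2 ?_)
    rintro y ⟨P, α, x, hPS, -, rfl⟩
    obtain ⟨ψ, hψ, -, hψe⟩ := FS.exists_hom_of_aut hPS α.2
    obtain ⟨β, hβ, he⟩ := FusionEssential.Abelian.exists_aut_extend hS hF hab hψ
    have h1 := he x
    rw [haut β hβ, hψe] at h1
    show (x : Ω)⁻¹ * _ = 1
    rw [← h1]
    exact inv_mul_cancel _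
  refine hsimE.2.1 (eq_bot_iff.2 fun q _ => ?_)
  obtain ⟨s, rfl⟩ := QuotientGroup.mk'_surjective Z q
  have hs : s = 1 := Subtype.ext (by
    have hSb : S = ⊥ := hhyp.symm.trans hbot
    exact Subgroup.mem_bot.1 (hSb.le s.2))
  rw [hs, map_one]
  exact Subgroup.one_mem _

end Cfsg.Agent.S5148
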