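import Cfsg.Statements.S5342
import Cfsg.Agent.Lib.FusionEssential.TransportRealized
import Cfsg.Agent.Lib.FusionSystem.NormalModel
import Cfsg.Agent.Lib.FusionAlperin.Model
import Cfsg.Agent.Lib.CharP.Basic

set_option autoImplicit false
open Cfsg

namespace Cfsg.Agent.S5342

open Cfsg Cfsg.FusionSystem Cfsg.Agent.Lib.FusionEssential.Transport in
/-- A normal subsystem of a constrained system is constrained. -/
theorem constrained_of_normal {Ω : Type*} [Group Ω] {p : ℕ} [Fact p.Prime] {S T : Subgroup Ω} [Finite S]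
    (hS : IsPGroup p S) {F : FusionSystem S} (hF : F.IsConstrained p) {E : FusionSystem T}
    (hE : E.IsNormalIn F p) : E.IsConstrained p := by
  obtain ⟨G, iG, ι, hM⟩ := Cfsg.Agent.Lib.FusionAlperin.Model.exists_model_of_constrained hS hF
  obtain ⟨hfin, hreal, ⟨T₀, hT₀⟩, hG⟩ := hM
  haveI := hfin
  have hiso := iso_of_realized hreal hT₀
  obtain ⟨hT, T', E', hIE, hEn⟩ := hiso.exists_normal hS hE
  haveI := Cfsg.Agent.Lib.FS.finite_sub hT
  obtain ⟨H, ⟨hTH, hHn, ⟨R, hR⟩, hhom⟩, -⟩ :=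
    Cfsg.Agent.Lib.FS.NormalModel.main T₀ hG hEn.1.2.2.2.1.1 hEn
  haveI := hHn
  have hmem : ∀ s : T, (ι.comp (Subgroup.inclusion hT)) s ∈ H := fun s => hTH (hIE.mem_base s)
  refine Cfsg.Agent.Lib.FS.isConstrained_of_isModel
    (ι := (ι.comp (Subgroup.inclusion hT)).codRestrict H hmem) ⟨inferInstance,
      ⟨fun a b e => hIE.1 (congrArg Subtype.val e), fun P hP φ hv => ⟨fun hφ => ?_, ?_⟩⟩, ⟨R, ?_⟩, ?_⟩
  · obtain ⟨φ', hφ', he⟩ := push hIE.2.1 hφ rfl
    rw [hhom] at hφ'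
    obtain ⟨-, -, g, hg, hge⟩ := hφ'
    exact ⟨⟨g, hg⟩, fun x => Subtype.ext ((he x ⟨⟨x, hP x.2⟩, x.2, rfl⟩).symm.trans (hge _))⟩
  · rintro ⟨⟨g, hg⟩, hge⟩
    set θ := ι.comp (Subgroup.inclusion hT)
    have hge' : ∀ x : P, θ ⟨φ x, hv x⟩ = g * θ ⟨x, hP x.2⟩ * g⁻¹ := fun x => congrArg Subtype.val (hge x)
    have himg : imageAlong θ P ≤ T' := by rintro _ ⟨s, -, rfl⟩; exact hIE.mem_base s
    have hval : ∀ y ∈ imageAlong θ P, g * y * g⁻¹ ∈ T' := by
      rintro _ ⟨s, hs, rfl⟩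
      rw [← hge' ⟨s, hs⟩]
      exact hIE.mem_base _
    have hφ' : conjHom (imageAlong θ P) g ∈ E'.Hom (imageAlong θ P) := by
      rw [hhom]
      exact ⟨himg, fun y => hval y y.2, g, hg, fun y => rfl⟩
    obtain ⟨ψ, hψ, he⟩ := pull hIE.2 hφ' (preimage_image hIE.1 hP).symm
    refine Cfsg.Agent.Lib.FS.hom_congr hψ fun x => ?_
    have h1 : θ ⟨φ x, hv x⟩ = θ ⟨ψ x, Cfsg.Agent.Lib.FS.apply_mem hψ x⟩ :=
      (hge' x).trans (he x ⟨⟨x, hP x.2⟩, x.2, rfl⟩)
    exact congrArg Subtype.val (hIE.1 h1)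
  · rw [hR]
    ext x
    constructor
    · intro hx
      obtain ⟨s, hs⟩ := hIE.range_eq.ge (Subgroup.mem_subgroupOf.1 hx)
      exact ⟨s, Subtype.ext hs⟩
    · rintro ⟨s, rfl⟩
      exact Subgroup.mem_subgroupOf.2 (hIE.mem_base s)
  · exact Cfsg.Agent.Lib.CharP.charP_of_isSubnormal hG hHn.isSubnormal

theorem constrained_of_subnormal {Ω : Type*} [Group Ω] {p : ℕ} {S T : Subgroup Ω}
    {E : Cfsg.FusionSystem T} {F : Cfsg.FusionSystem S} (hE : E.IsSubnormalIn F p) :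
    ∀ [Fact p.Prime] [Finite S], IsPGroup p S → F.IsConstrained p → E.IsConstrained p := by
  induction hE with
  | refl F p => exact fun _ h => h
  | step hED hDF ih =>
    intro _ _ hS hF
    have hU := hDF.1.2.2.2.1.1
    haveI := Cfsg.Agent.Lib.FS.finite_sub hU
    exact ih (Cfsg.Agent.Lib.FS.isPGroup_of_le hS hU) (constrained_of_normal hS hF hDF)

/-- Let F be a constrained saturated fusion system over a finite p-group S. Then every subsystem of F that is subnormal in F (reached from F by a finite chain of successive normal subsystems) is constrained. -/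
theorem result {Ω : Type*} [Group Ω] {S : Subgroup Ω} [Finite S] (p : ℕ) [Fact p.Prime] (hS : IsPGroup p S) (F : Cfsg.FusionSystem S) (hF : F.IsConstrained p) {T : Subgroup Ω} (E : Cfsg.FusionSystem T) (hE : E.IsSubnormalIn F p) : E.IsConstrained p := by
  exact constrained_of_subnormal hE hS hF

end Cfsg.Agent.S5342
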