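import Cfsg.Statements.S5310
import Cfsg.Agent.Lib.FusionSystem.ComponentExists
import Cfsg.Agent.Lib.FusionSystem.Product
import Cfsg.Agent.S5148

set_option autoImplicit false
open Cfsg

namespace Cfsg.Agent.S5310

open Cfsg.FusionSystem Cfsg.Agent.Lib Cfsg.Agent.Lib.FS

variable {Ω : Type*} [Group Ω] {S : Subgroup Ω} [Finite S] {p : ℕ} [Fact p.Prime] {F : Cfsg.FusionSystem S}

/-- The system over the trivial subgroup is normal. -/
theorem trivial_isNormalIn (hF : F.IsSaturated p) :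
    (innerFusionSystem (⊥ : Subgroup Ω)).IsNormalIn F p := by
  have hone : ∀ {P : Subgroup Ω}, P ≤ ⊥ → ∀ (φ : P →* Ω) (x : P), φ x = 1 ∧ (x : Ω) = 1 := fun hP φ x => by
    have h1 : (x : Ω) = 1 := Subgroup.mem_bot.1 (hP x.2)
    exact ⟨by rw [show x = 1 from Subtype.ext h1, map_one], h1⟩
  have hmem : ∀ {P : Subgroup Ω}, P ≤ ⊥ → ∀ φ : P →* Ω, φ ∈ (innerFusionSystem (⊥ : Subgroup Ω)).Hom P :=
    fun hP φ => ⟨hP, 1, one_mem _, fun x => by rw [(hone hP φ x).1, (hone hP φ x).2]; simp⟩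
  refine ⟨⟨fun P hP => ⟨P, isConj_refl _ hP, ⟨hP, ?_⟩, hP, fun R φ hφ _ => ?_⟩, hF, ?_,
    ⟨bot_le, fun R hR φ _ x => Subgroup.mem_bot.2 (hone hR φ x).1⟩, ?_, ?_⟩, ?_⟩
  · haveI : Subsingleton P := ⟨fun a b => Subtype.ext
      ((Subgroup.mem_bot.1 (hP a.2)).trans (Subgroup.mem_bot.1 (hP b.2)).symm)⟩
    haveI : Subsingleton (MulAut P) := ⟨fun a b => MulEquiv.ext fun x => Subsingleton.elim _ _⟩
    exact ⟨default, Subgroup.ext fun x => by
      rw [Subsingleton.elim x 1]; simp only [one_mem]⟩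
  · have hle : extender (⊥ : Subgroup Ω) R φ ≤ ⊥ := fun g hg => (mem_extender.1 hg).1
    exact ⟨_, hmem hle (Subgroup.subtype _), fun x hx hxR => (Subgroup.mem_bot.1 (src_le hφ hx)).trans
      (hone (src_le hφ) φ ⟨x, hx⟩).1.symm⟩
  · rintro P φ ⟨hP, g, hg, he⟩
    exact mem_of_conj F (hP.trans bot_le) S.one_mem fun x => by rw [(hone hP φ x).1, (hone hP φ x).2]; simp
  · intro P hP φ _ α _
    have hle : (P.subgroupOf ⊥).map ((⊥ : Subgroup Ω).subtype.comp α.toMonoidHom) ≤ ⊥ := by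
      rintro _ ⟨x, -, rfl⟩; exact (α x).2
    refine ⟨_, hmem hle (Subgroup.subtype _), fun x hφx hαx => ?_⟩
    exact (Subgroup.mem_bot.1 (α _).2).trans (Subgroup.mem_bot.1 (α _).2).symm
  · intro P hP φ _
    refine ⟨1, one_mem _, φ, hmem hP φ, fun x hx => ?_⟩
    rfl
  · intro α _
    refine ⟨1, one_mem _, fun x => (Subgroup.mem_bot.1 x.2).trans (Subgroup.mem_bot.1 (α x).2).symm, fun c _ => ?_⟩
    rw [MulAut.one_apply, inv_mul_cancel]
    exact one_mem _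

/-- Maps of the second factor of a central product lie in the product. -/
theorem snd_mem_centralProduct {T₁ T₂ U : Subgroup Ω} [Finite T₁] [Finite T₂] {E₁ : Cfsg.FusionSystem T₁}
    {E₂ : Cfsg.FusionSystem T₂} {D : Cfsg.FusionSystem U} (hD : IsCentralProductOf E₁ E₂ D) {P : Subgroup Ω}
    {e : P →* Ω} (he : e ∈ E₂.Hom P) : e ∈ D.Hom P := by
  obtain ⟨D₀, hD₀, Z, θ, hZ, -, -, -, hsnd, -, hker, hr, hhom⟩ := hD
  haveI : Finite ↥(T₁.prod T₂) := finite_prod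
  have hP : P ≤ T₂ := src_le he
  set P₀ : Subgroup (Ω × Ω) := (⊥ : Subgroup Ω).prod P
  have hP₀le : P₀ ≤ T₁.prod T₂ := fun x hx => ⟨(bot_le : (⊥ : Subgroup Ω) ≤ T₁) hx.1, hP hx.2⟩
  have h2 : proj₂ P₀ ≤ P := by rintro _ ⟨x, hx, rfl⟩; exact hx.2
  obtain ⟨e₁, he₁, he₁e⟩ := exists_restrict he h2
  have h1 : proj₁ P₀ ≤ T₁ := proj₁_le hP₀le
  set φ₀ := pairMap (proj₁ P₀).subtype e₁
  have hφ₀ : φ₀ ∈ D₀.Hom P₀ := (product_mem_iff hD₀).2 ⟨hP₀le, _, subtype_mem E₁ h1, e₁, he₁, rfl⟩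
  obtain ⟨ψ, hψ, hψe, hψZ⟩ := (FusionAlperin.Join.isCentral_center D₀).2 P₀ φ₀ hφ₀
  have hPU : P ≤ U := fun x hx => hr ▸ ⟨⟨(1, x), one_mem _, hP hx⟩, hsnd x _⟩
  have hle : preimageAlong θ P ≤ P₀ ⊔ D₀.center := by
    intro x hx
    obtain ⟨hxS, hxP⟩ := mem_preimageAlong.1 hx
    set u : ↥(T₁.prod T₂) := ⟨(1, θ ⟨x, hxS⟩), one_mem _, hP hxP⟩
    have hu : θ u = θ ⟨x, hxS⟩ := hsnd _ _
    have hz : ((u⁻¹ * ⟨x, hxS⟩ : ↥(T₁.prod T₂)) : Ω × Ω) ∈ D₀.center := hZ ((hker _).1 (by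
      rw [map_mul, map_inv, hu, inv_mul_cancel]))
    rw [show x = (u : Ω × Ω) * ((u⁻¹ * ⟨x, hxS⟩ : ↥(T₁.prod T₂)) : Ω × Ω) by simp]
    exact Subgroup.mul_mem_sup (show (u : Ω × Ω) ∈ P₀ from ⟨Subgroup.mem_bot.2 rfl, hxP⟩) hz
  obtain ⟨ψ₁, hψ₁, hψ₁e⟩ := exists_restrict hψ hle
  refine (hhom P e).2 ⟨hPU, ψ₁, hψ₁, inducedAlong_preimage hψ₁ fun s hs => ?_⟩
  set u : ↥(T₁.prod T₂) := ⟨(1, θ s), one_mem _, hP hs⟩
  have hu : θ u = θ s := hsnd _ _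
  have hzZ : ((u⁻¹ * s : ↥(T₁.prod T₂)) : Ω × Ω) ∈ Z := (hker _).1 (by rw [map_mul, map_inv, hu, inv_mul_cancel])
  have huP : (u : Ω × Ω) ∈ P₀ := ⟨Subgroup.mem_bot.2 rfl, hs⟩
  have hval : ψ₁ ⟨s, mem_preimageAlong.2 ⟨s.2, hs⟩⟩ = ((1, e ⟨θ s, hs⟩) : Ω × Ω) *
      ((u⁻¹ * s : ↥(T₁.prod T₂)) : Ω × Ω) := by
    rw [hψ₁e]
    have e1 := hψe ⟨(u : Ω × Ω), huP⟩
    have e2 := hψZ ⟨_, hZ hzZ⟩
    have e3 : (⟨(s : Ω × Ω), hle (mem_preimageAlong.2 ⟨s.2, hs⟩)⟩ : ↥(P₀ ⊔ D₀.center)) =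
        Subgroup.inclusion le_sup_left ⟨(u : Ω × Ω), huP⟩ * Subgroup.inclusion le_sup_right ⟨_, hZ hzZ⟩ :=
      Subtype.ext (mul_inv_cancel_left (u : Ω × Ω) (s : Ω × Ω)).symm
    refine Eq.trans (congrArg ψ e3) ?_
    rw [map_mul, e1, e2]
    congr 1
    refine Prod.ext rfl ?_
    exact (he₁e _).trans (congrArg e (Subtype.ext rfl))
  have heT : e ⟨θ s, hs⟩ ∈ T₂ := apply_mem he _
  set v : ↥(T₁.prod T₂) := ⟨(1, e ⟨θ s, hs⟩), one_mem _, heT⟩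
  have hv : θ v = e ⟨θ s, hs⟩ := hsnd _ _
  have e4 : θ (v * (u⁻¹ * s)) = e ⟨θ s, hs⟩ := by
    rw [map_mul, hv, (hker _).2 hzZ, mul_one]
  exact e4.symm.trans (congrArg θ (Subtype.ext hval.symm))

/-- A saturated fusion system F over a finite p-group S is constrained (its largest normal subgroup O_p(F) is centric) if and only if the inner fusion system of O_p(F) is itself a generalized Fitting subsystem of F (that is, F*(F) = O_p(F)). -/
theorem result {Ω : Type*} [Group Ω] {S : Subgroup Ω} [Finite S] (p : ℕ) [Fact p.Prime] (hS : IsPGroup p S) (F : Cfsg.FusionSystem S) (hF : F.IsSaturated p) :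
    F.IsConstrained p ↔ (Cfsg.innerFusionSystem F.core).IsGeneralizedFittingOf F p := by
  have hQn := FusionAlperin.Join.isNormal_core F
  set Q := F.core with hQ
  haveI : Finite Q := finite_sub hQn.1
  constructor
  · intro hc
    have hno := ComponentExists.not_component_of_constrained hS hc
    haveI : Finite (⊥ : Subgroup Ω) := finite_sub (bot_le : ⊥ ≤ S)
    refine ⟨⊥, innerFusionSystem ⊥, ⟨trivial_isNormalIn hF, fun U C hC => absurd ⟨U, C, hC⟩ hno,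
      fun R D hD _ P φ hφ => ?_⟩, ?_⟩
    · obtain ⟨hP, g, hg, he⟩ := hφ
      refine mem_of_conj D (hP.trans bot_le) R.one_mem fun x => ?_
      rw [he, Subgroup.mem_bot.1 hg]
    obtain ⟨D₀, hD₀⟩ := exists_productSystem (innerFusionSystem Q) (innerFusionSystem (⊥ : Subgroup Ω))
    let θ : ↥(Q.prod (⊥ : Subgroup Ω)) →* Ω := (MonoidHom.fst Ω Ω).comp (Q.prod (⊥ : Subgroup Ω)).subtype
    have hθ : ∀ s : ↥(Q.prod (⊥ : Subgroup Ω)), (s : Ω × Ω) = (θ s, 1) := fun s =>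
      Prod.ext rfl (Subgroup.mem_bot.1 s.2.2)
    refine ⟨D₀, hD₀, ⊥, θ, bot_le, bot_inf_eq _, bot_inf_eq _, fun x hx => rfl,
      fun y hy => (Subgroup.mem_bot.1 hy.2).symm, bot_le, fun s => ?_, ?_, fun P' φ' => ?_⟩
    · rw [Subgroup.mem_bot]
      exact ⟨fun h => by rw [hθ s, h]; rfl, fun h => by rw [hθ s] at h; exact congrArg Prod.fst h⟩
    · ext x
      exact ⟨fun ⟨s, hs⟩ => hs ▸ s.2.1, fun hx => ⟨⟨(x, 1), hx, one_mem _⟩, rfl⟩⟩
    · constructor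
      · rintro ⟨hP', g, hg, he⟩
        have hg' : ((g, 1) : Ω × Ω) ∈ Q.prod (⊥ : Subgroup Ω) := ⟨hg, one_mem _⟩
        have hc := D₀.conj_mem (preimageAlong_le θ P') hg'
        exact ⟨hP', _, hc, inducedAlong_preimage hc fun s hs => (he ⟨θ s, hs⟩).trans rfl⟩
      · rintro ⟨hP', φ, hφ, hind⟩
        obtain ⟨hPle, φ₁, ⟨-, g, hg, he⟩, φ₂, -, rfl⟩ := (product_mem_iff hD₀).1 hφ
        refine ⟨hP', g, hg, fun x => ?_⟩
        have hxS : ((x : Ω), 1) ∈ Q.prod (⊥ : Subgroup Ω) := ⟨hP' x.2, one_mem _⟩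
        have hx' : ((x : Ω), 1) ∈ preimageAlong θ P' := mem_preimageAlong.2 ⟨hxS, x.2⟩
        refine (inducedAlong_apply hind ⟨_, hx'⟩ hxS x.2 (apply_mem hφ _)).trans ?_
        exact he ⟨(x : Ω), fst_mem hx'⟩
  · rintro ⟨T, E, hE, hprod⟩
    by_contra hnc
    obtain ⟨U, C, hC⟩ := ComponentExists.exists_component hS hF hnc
    have hCE := hE.2.1 U C hC
    have hTS : T ≤ S := hE.1.1.2.2.2.1.1
    have hUT : U ≤ T := fun x hx =>
      src_le (hCE U (subtype_mem C le_rfl)) hx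
    haveI := finite_sub hTS
    haveI := finite_sub (hUT.trans hTS)
    have hUp : IsPGroup p U := hS.to_le (hUT.trans hTS)
    have hpt : FusionP3.GT.PTriv C p := by
      intro P hP α hα hco
      obtain ⟨-, g, hg, he⟩ := snd_mem_centralProduct hprod (hCE P ((mem_autGroup hP).1 hα))
      refine FusionP3.GT.eq_one_of_coprime_isPGroup (isPGroup_autInducedBy hS P)
        (mem_autInducedBy.2 ⟨g, hQn.1 hg, fun x => he x⟩) hco
    have hbot : C.hyperfocalSubgroup p = ⊥ := by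
      refine le_bot_iff.1 ((Subgroup.closure_le _).2 ?_)
      rintro _ ⟨P, α, x, hP, hα, rfl⟩
      have hres : pResidual p (C.autGroup P) ≤ ⊥ := Transfer.PResidual.pResidual_le_iff.2 fun g hg =>
        Subgroup.mem_bot.2 (Subtype.ext (hpt P hP g g.2 (by rwa [Subgroup.orderOf_coe])))
      rw [Subgroup.mem_bot.1 (hres hα)]
      simp
    have hU : U = ⊥ := hC.2.2.1.symm.trans hbot
    refine S5148.result p hUp C hC.2 ⟨⟨fun a b => Subtype.ext ?_⟩⟩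
    have ha : (a : Ω) = 1 := Subgroup.mem_bot.1 (hU.le a.2)
    have hb : (b : Ω) = 1 := Subgroup.mem_bot.1 (hU.le b.2)
    simp [ha, hb]

end Cfsg.Agent.S5310
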