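import Cfsg.Statements.S5119
import Cfsg.Agent.Lib.FusionSystem.Normalizer
import Cfsg.Agent.Lib.FusionP3.Induction
import Cfsg.Agent.Lib.FusionP3.StronglyClosed

set_option autoImplicit false
open Cfsg

namespace Cfsg.Agent.S5119

open Cfsg.FusionSystem Cfsg.Agent.Lib.FS Cfsg.Agent.Lib.FusionP3.Induction Cfsg.Agent.Lib.FusionP3.StronglyClosed

variable {Ω : Type*} [Group Ω] {S T : Subgroup Ω} {F : Cfsg.FusionSystem S} {E : Cfsg.FusionSystem T}

/-- Invariance under the automorphisms of `T`. -/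
def AutInv (F : Cfsg.FusionSystem S) (E : Cfsg.FusionSystem T) : Prop :=
  ∀ (P : Subgroup Ω) (hPT : P ≤ T) (φ : P →* Ω) (hφ : φ ∈ E.Hom P), ∀ α ∈ F.autGroup T,
    ∃ χ ∈ E.Hom ((P.subgroupOf T).map (T.subtype.comp α.toMonoidHom)),
      ∀ (x : P) (_ : φ x ∈ T)
        (hαx : ((α ⟨x, hPT x.2⟩ : T) : Ω) ∈ (P.subgroupOf T).map (T.subtype.comp α.toMonoidHom)),
        χ ⟨(α ⟨x, hPT x.2⟩ : T), hαx⟩ = ((α ⟨φ x, (E.le_of_mem hφ).2 x⟩ : T) : Ω)

/-- A map is a product of an automorphism of `T` and a map of `E`. -/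
def GoodMap (F : Cfsg.FusionSystem S) (E : Cfsg.FusionSystem T) (P : Subgroup Ω) (φ : P →* Ω) : Prop :=
  ∃ α ∈ F.autGroup T, ∃ φ₀ ∈ E.Hom P, ∀ (x : P) (hx : φ₀ x ∈ T), φ x = ((α ⟨φ₀ x, hx⟩ : T) : Ω)

theorem goodMap_restrict {P Q : Subgroup Ω} {φ : P →* Ω} {ψ : Q →* Ω} (h : P ≤ Q)
    (he : ∀ x : P, φ x = ψ ⟨x, h x.2⟩) (hψ : GoodMap F E Q ψ) : GoodMap F E P φ := by
  obtain ⟨α, hα, ψ₀, hψ₀, e⟩ := hψ
  obtain ⟨φ₀, hφ₀, e₀⟩ := exists_restrict hψ₀ h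
  refine ⟨α, hα, φ₀, hφ₀, fun x hx => ?_⟩
  rw [he, e ⟨x, h x.2⟩ (apply_mem hψ₀ _)]
  exact congrArg (fun z : T => ((α z : T) : Ω)) (Subtype.ext (e₀ x).symm)

theorem goodMap_comp (hinv : AutInv F E) {P Q : Subgroup Ω} {φ : P →* Ω} {ψ : Q →* Ω} {χ : P →* Ω}
    (h : ∀ x, φ x ∈ Q) (he : ∀ x, χ x = ψ ⟨φ x, h x⟩)
    (hφ : GoodMap F E P φ) (hψ : GoodMap F E Q ψ) : GoodMap F E P χ := by
  obtain ⟨α, hα, φ₀, hφ₀, e⟩ := hφ
  obtain ⟨β, hβ, ψ₀, hψ₀, e'⟩ := hψ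
  obtain ⟨ψ₁, hψ₁, e₁⟩ := hinv Q (E.le_of_mem hψ₀).1 ψ₀ hψ₀ α⁻¹ (inv_mem hα)
  have key : ∀ x : P, ((α⁻¹ : MulAut T) ⟨φ x, (E.le_of_mem hψ₀).1 (h x)⟩ : T) =
      (⟨φ₀ x, apply_mem hφ₀ x⟩ : T) := by
    intro x
    rw [show (⟨φ x, (E.le_of_mem hψ₀).1 (h x)⟩ : T) = α ⟨φ₀ x, apply_mem hφ₀ x⟩ from
      Subtype.ext (e x _), MulAut.inv_apply_self]
  have hm : ∀ x : P, φ₀ x ∈ (Q.subgroupOf T).map (T.subtype.comp (α⁻¹ : MulAut T).toMonoidHom) := fun x =>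
    ⟨⟨φ x, (E.le_of_mem hψ₀).1 (h x)⟩, h x, congrArg Subtype.val (key x)⟩
  obtain ⟨χ₀, hχ₀, e₂⟩ := exists_comp hφ₀ hψ₁ hm
  refine ⟨β * α, mul_mem hβ hα, χ₀, hχ₀, fun x hx => ?_⟩
  rw [he, e' ⟨φ x, h x⟩ (apply_mem hψ₀ _), MulAut.mul_apply]
  refine congrArg (fun z : T => ((β z : T) : Ω)) ?_
  have h3 := e₁ ⟨φ x, h x⟩ (apply_mem hψ₀ _) (by rw [key]; exact hm x)
  have h4 : χ₀ x = ((α⁻¹ : MulAut T) ⟨ψ₀ ⟨φ x, h x⟩, (E.le_of_mem hψ₀).2 _⟩ : T) := by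
    rw [e₂, ← h3]
    exact congrArg ψ₁ (Subtype.ext (congrArg Subtype.val (key x)).symm)
  rw [show (⟨χ₀ x, hx⟩ : T) = (α⁻¹ : MulAut T) ⟨ψ₀ ⟨φ x, h x⟩, (E.le_of_mem hψ₀).2 _⟩ from Subtype.ext h4,
    MulAut.apply_inv_self]

variable [Finite S] {p : ℕ} [Fact p.Prime]

/-- Strong invariance gives the Frattini condition. -/
theorem frattini (hS : IsPGroup p S) (hF : F.IsSaturated p) (hT : F.StronglyClosed T)
    (hE : E.IsSubsystemOf F) (hinv : AutInv F E)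
    (hnorm : ∀ R : Subgroup Ω, R ≤ T → ∀ γ ∈ F.autGroup R, ∀ ε ∈ E.autGroup R, γ * ε * γ⁻¹ ∈ E.autGroup R)
    (P : Subgroup Ω) (hPT : P ≤ T) (φ : P →* Ω) (hφ : φ ∈ F.Hom P) : GoodMap F E P φ := by
  haveI := finite_sub hT.1
  induction n : Nat.card T - Nat.card P using Nat.strong_induction_on generalizing P φ with
  | _ n ih =>
    subst n
    rcases eq_or_lt_of_le hPT with rfl | hlt
    · have hr : φ.range = P := range_eq_of_mem hφ (fun x => hT.2 P le_rfl φ hφ x) le_rfl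
      exact ⟨homEquiv hφ hr, homEquiv_mem_autGroup hφ hr, P.subtype, subtype_mem E le_rfl, fun x hx => rfl⟩
    have hbig : ∀ (Q : Subgroup Ω), Q ≤ T → Nat.card P < Nat.card Q → ∀ ψ ∈ F.Hom Q, GoodMap F E Q ψ := by
      intro Q hQT hc ψ hψ
      haveI := finite_sub hT.1
      have := Subgroup.card_le_of_le hQT
      exact ih _ (by omega) Q hQT ψ hψ rfl
    have hTp : IsPGroup p T := hS.to_le hT.1
    -- a receptive fully automized conjugate
    obtain ⟨P', ⟨ω₀, hω₀, hω₀r⟩, ⟨hP'S, R₀, hR₀⟩, hrec⟩ := hF P (hPT.trans hT.1)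
    have hP'T : P' ≤ T := hω₀r ▸ fun y ⟨x, hx⟩ => hx ▸ hT.2 P hPT ω₀ hω₀ x
    haveI := finite_sub hP'S
    haveI : Finite (MulAut ↥P') := Finite.of_injective (fun f => (f : P' → P')) DFunLike.coe_injective
    -- maps onto `P'` and their inverses are good
    have honto : ∀ (R : Subgroup Ω), R ≤ T → F.IsConj R P' → ∃ ω ∈ F.Hom R, ∃ hω : ω.range = P',
        GoodMap F E R ω ∧ ∃ ω' ∈ F.Hom P', GoodMap F E P' ω' ∧ ω'.range = R ∧
          ∀ (x : R) (h : ω x ∈ P'), ω' ⟨ω x, h⟩ = x := by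
      rintro R hRT ⟨θ₀, hθ₀, hθ₀r⟩
      haveI := finite_sub (hRT.trans hT.1)
      have hcR : Nat.card P = Nat.card R := by
        rw [← card_range hω₀, hω₀r, ← card_range hθ₀, hθ₀r]
      -- move the automorphisms induced by `S` into those of `P'`
      have hpg : IsPGroup p ((autInducedBy S R).map (MulAut.congr (homEquiv hθ₀ hθ₀r)).toMonoidHom) :=
        (isPGroup_autInducedBy hS R).map _
      have hle : (autInducedBy S R).map (MulAut.congr (homEquiv hθ₀ hθ₀r)).toMonoidHom ≤ F.autGroup P' := by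
        rintro _ ⟨a, ha, rfl⟩
        exact congr_mem_autGroup hθ₀ hθ₀r (autInducedBy_le_autGroup F (hRT.trans hT.1) ha)
      obtain ⟨γ, hγ, hconj⟩ := exists_conj_le_sylow R₀ hR₀ hle hpg
      obtain ⟨τ, hτ, -, hτγ⟩ := exists_hom_of_aut hP'S hγ
      obtain ⟨θ, hθ, eθ⟩ := exists_comp hθ₀ hτ fun x => hθ₀r.le ⟨x, rfl⟩
      have hval : ∀ x, θ x = γ (homEquiv hθ₀ hθ₀r x) := fun x => by rw [eθ, hτγ]; rfl
      have hθr : θ.range = P' := range_eq_of_mem hθ (fun x => by rw [hval]; exact SetLike.coe_mem _)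
        (isConj_card ⟨θ₀, hθ₀, hθ₀r⟩).le
      obtain ⟨ψ, hψ, eψ⟩ := hrec.2 R θ hθ hθr
      set D := normalizerIn T R with hD
      have hDle : D ≤ extender S R θ := by
        intro g hg
        have hgS : g ∈ normalizerIn S R := ⟨hT.1 hg.1, hg.2⟩
        obtain ⟨c, hc, ec⟩ : ∃ c ∈ autInducedBy S R, ∀ x : R, ((c x : R) : Ω) = g * x * g⁻¹ := by
          have hm := F.conj_mem (hRT.trans hT.1) hgS.1
          have hcr : (conjHom R g).range = R := range_eq_of_mem hm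
            (fun x => conj_mem_of_normalizer hgS.2 x.2) le_rfl
          exact ⟨homEquiv hm hcr, mem_autInducedBy.2 ⟨g, hgS.1, fun x => rfl⟩, fun x => rfl⟩
        obtain ⟨h, hhS, eh⟩ := mem_autInducedBy.1 (hconj _ ⟨c, hc, rfl⟩)
        refine mem_extender_of hgS hhS fun x hx => ?_
        rw [hval, hval, ← eh, MulAut.mul_apply, MulAut.mul_apply, MulAut.inv_apply_self]
        refine congrArg (fun z : P' => ((γ z : P') : Ω)) ?_
        show homEquiv hθ₀ hθ₀r ⟨g * x * g⁻¹, hx⟩ =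
          homEquiv hθ₀ hθ₀r (c ((homEquiv hθ₀ hθ₀r).symm (homEquiv hθ₀ hθ₀r x)))
        rw [MulEquiv.symm_apply_apply]
        exact congrArg _ (Subtype.ext (ec x).symm)
      obtain ⟨ψ₁, hψ₁, eψ₁⟩ := exists_restrict hψ hDle
      have hRD : R ≤ D := le_normalizerIn hRT
      have hRlt : R < T := lt_of_le_of_ne hRT fun h => by
        subst h
        exact hlt.ne (Subgroup.eq_of_le_of_card_ge hPT hcR.ge)
      haveI : Finite D := finite_sub ((normalizerIn_le R).trans hT.1)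
      have hcD : Nat.card P < Nat.card D := by
        rw [hcR]
        exact lt_of_le_of_ne (Subgroup.card_le_of_le hRD) fun h =>
          (lt_normalizerIn hTp hRlt).ne (Subgroup.eq_of_le_of_card_ge hRD h.ge)
      have hgood : GoodMap F E D ψ₁ := hbig D (normalizerIn_le R) hcD ψ₁ hψ₁
      have heq : ∀ x : R, θ x = ψ₁ ⟨x, hRD x.2⟩ := fun x => by
        rw [eψ₁, eψ x x.2 (hDle (hRD x.2))]
      refine ⟨θ, hθ, hθr, goodMap_restrict hRD heq hgood, ?_⟩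
      obtain ⟨ψ₂, hψ₂, hψ₂r, eψ₂, -⟩ := exists_inv hψ₁ (rfl : ψ₁.range = ψ₁.range)
      have hr1 : ψ₁.range ≤ T := by
        rintro _ ⟨x, rfl⟩
        exact hT.2 D (normalizerIn_le R) ψ₁ hψ₁ x
      have hgood₂ : GoodMap F E ψ₁.range ψ₂ := hbig _ hr1 (by rwa [card_range hψ₁]) ψ₂ hψ₂
      have hP'r : P' ≤ ψ₁.range := by
        rw [← hθr]
        rintro _ ⟨x, rfl⟩
        exact ⟨_, (heq x).symm⟩
      obtain ⟨ω', hω', eω'⟩ := exists_restrict hψ₂ hP'r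
      have hback : ∀ (x : R) (h : θ x ∈ P'), ω' ⟨θ x, h⟩ = x := by
        intro x h
        rw [eω']
        have h1 := eψ₂ ⟨x, hRD x.2⟩ ⟨_, rfl⟩
        refine Eq.trans ?_ h1
        exact congrArg ψ₂ (Subtype.ext (heq x))
      refine ⟨ω', hω', goodMap_restrict hP'r eω' hgood₂, range_eq_of_mem hω' ?_ ?_, hback⟩
      · rintro ⟨y, hy⟩
        obtain ⟨x, rfl⟩ := hθr.ge hy
        rw [hback]
        exact x.2
      · rw [← card_range hθ, hθr]
    have hP₁T : φ.range ≤ T := by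
      rintro _ ⟨x, rfl⟩
      exact hT.2 P hPT φ hφ x
    obtain ⟨ω, hω, hωr, hωg, -⟩ := honto P hPT ⟨ω₀, hω₀, hω₀r⟩
    obtain ⟨ω₁, hω₁, hω₁r, -, ω₁', hω₁', hω₁'g, hω₁'r, hback₁⟩ :=
      honto φ.range hP₁T (isConj_trans (isConj_symm ⟨φ, hφ, rfl⟩) ⟨ω₀, hω₀, hω₀r⟩)
    obtain ⟨ωi, hωi, hωir, hωi₁, hωi₂⟩ := exists_inv hω hωr
    obtain ⟨ν, hν, eν⟩ := exists_comp hωi hφ fun y => hωir.le ⟨y, rfl⟩
    obtain ⟨δ, hδ, eδ⟩ := exists_comp hν hω₁ fun y => by rw [eν]; exact ⟨_, rfl⟩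
    have hδr : δ.range = P' := range_eq_of_mem hδ (fun y => by rw [eδ]; exact hω₁r.le ⟨_, rfl⟩) le_rfl
    -- the automorphism of `P'`
    let A : MulAut ↥P' := homEquiv hδ hδr
    have hA : A ∈ F.autGroup P' := homEquiv_mem_autGroup hδ hδr
    let K : Subgroup (F.autGroup P') := (E.autGroup P').subgroupOf (F.autGroup P')
    haveI : K.Normal := ⟨fun e he g => hnorm P' hP'T g.1 g.2 e.1 he⟩
    have hA' := normalizer_inf_sup_eq_top R₀ K
    have hmem : (⟨A, hA⟩ : F.autGroup P') ∈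
        ((Subgroup.normalizer (((R₀ : Subgroup (F.autGroup P')) ⊓ K : Subgroup _) : Set (F.autGroup P')) ⊔ K :
          Subgroup _) : Set (F.autGroup P')) := by
      rw [hA']; exact Subgroup.mem_top _
    rw [Subgroup.mul_normal] at hmem
    obtain ⟨c, hc, ε, hε, hce⟩ := hmem
    -- `c` extends to `N_T(P')`
    set D := normalizerIn T P' with hD
    have hext : ∃ ψ ∈ F.Hom D, ∀ (x : Ω) (hx : x ∈ P') (hxD : x ∈ D),
        ψ ⟨x, hxD⟩ = (((c : MulAut P') ⟨x, hx⟩ : P') : Ω) := by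
      refine exists_extend_aut hrec (R := D) (fun g (hg : g ∈ normalizerIn T P') => ⟨hT.1 hg.1, hg.2⟩) c.2
        fun g (hg : g ∈ normalizerIn T P') => ?_
      have hm := E.conj_mem hP'T hg.1
      have hcr : (conjHom P' g).range = P' := range_eq_of_mem hm
        (fun x => conj_mem_of_normalizer hg.2 x.2) le_rfl
      let b : MulAut ↥P' := homEquiv hm hcr
      have hbE : b ∈ E.autGroup P' := homEquiv_mem_autGroup hm hcr
      have hbS : b ∈ autInducedBy S P' := mem_autInducedBy.2 ⟨g, hT.1 hg.1, fun x => rfl⟩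
      have hbF : b ∈ F.autGroup P' := autInducedBy_le_autGroup F hP'S hbS
      have h1 : (⟨b, hbF⟩ : F.autGroup P') ∈ (R₀ : Subgroup (F.autGroup P')) ⊓ K :=
        ⟨by rw [hR₀]; exact hbS, hbE⟩
      have h2 := ((Subgroup.mem_normalizer_iff.1 hc) _).1 h1
      have h3 : ((c * ⟨b, hbF⟩ * c⁻¹ : F.autGroup P') : MulAut P') ∈ autInducedBy S P' := by
        have := h2.1
        rw [hR₀] at this
        exact this
      obtain ⟨h, hh, eh⟩ := mem_autInducedBy.1 h3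
      refine ⟨h, hh, fun x hx => ?_⟩
      rw [← eh]
      refine congrArg Subtype.val ?_
      show c.1 _ = c.1 (b ((c.1)⁻¹ (c.1 x)))
      rw [MulAut.inv_apply_self]
      exact congrArg c.1 (Subtype.ext rfl)
    obtain ⟨ψ, hψ, eψ⟩ := hext
    have hP'D : P' ≤ D := le_normalizerIn hP'T
    haveI : Finite D := finite_sub ((normalizerIn_le P').trans hT.1)
    have hcP : Nat.card P' = Nat.card P := by rw [← hω₀r, card_range hω₀]
    have hP'lt : P' < T := lt_of_le_of_ne hP'T fun h => by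
      subst h
      exact hlt.ne (Subgroup.eq_of_le_of_card_ge hPT hcP.le)
    have hcD : Nat.card P < Nat.card D := by
      rw [← hcP]
      exact lt_of_le_of_ne (Subgroup.card_le_of_le hP'D) fun h =>
        (lt_normalizerIn hTp hP'lt).ne (Subgroup.eq_of_le_of_card_ge hP'D h.ge)
    have hcgood : GoodMap F E P' (P'.subtype.comp (c : MulAut P').toMonoidHom) :=
      goodMap_restrict hP'D (fun x => (eψ x x.2 (hP'D x.2)).symm) (hbig D (normalizerIn_le P') hcD ψ hψ)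
    have hεgood : GoodMap F E P' (P'.subtype.comp (ε : MulAut P').toMonoidHom) :=
      ⟨1, one_mem _, _, (mem_autGroup hP'T).1 hε, fun x hx => rfl⟩
    have hδgood : GoodMap F E P' δ := by
      refine goodMap_comp hinv (fun x => ((ε : MulAut P') x).2) (fun x => ?_) hεgood hcgood
      show δ x = (((c : MulAut P') _ : P') : Ω)
      have h5 : A = (c : MulAut P') * (ε : MulAut P') := (congrArg Subtype.val hce).symm
      show ((A x : P') : Ω) = _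
      rw [h5, MulAut.mul_apply]
      rfl
    obtain ⟨π, hπ, eπ⟩ := exists_comp hω hδ fun x => hωr.le ⟨x, rfl⟩
    refine goodMap_comp hinv (φ := π) (ψ := ω₁') (fun x => by rw [eπ]; exact hδr.le ⟨_, rfl⟩) (fun x => ?_)
      (goodMap_comp hinv (fun x => hωr.le ⟨x, rfl⟩) eπ hωg hδgood) hω₁'g
    have h6 : π x = ω₁ ⟨φ x, ⟨x, rfl⟩⟩ := by
      rw [eπ, eδ]
      refine congrArg ω₁ (Subtype.ext ?_)
      exact (eν _).trans (congrArg φ (Subtype.ext (hωi₁ x _)))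
    have h7 := hback₁ ⟨φ x, ⟨x, rfl⟩⟩ (hω₁r.le ⟨_, rfl⟩)
    exact h7.symm.trans (congrArg ω₁' (Subtype.ext h6.symm))

/-- Let F be a saturated fusion system over a finite p-group S and E a subsystem of F over a subgroup T that is strongly closed in F. Then E is invariant in F (invariance under Aut_F(T) plus the Frattini condition) if and only if the strong invariance condition holds: for P ≤ Q ≤ T, every map φ of E from P into Q and every map ψ of F with source Q, the transported map ψ φ ψ⁻¹ on ψ(P) is a map of E. -/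
theorem result {Ω : Type*} [Group Ω] {S : Subgroup Ω} [Finite S] (p : ℕ) [Fact p.Prime] (hS : IsPGroup p S) (F : Cfsg.FusionSystem S) (hF : F.IsSaturated p) {T : Subgroup Ω} (E : Cfsg.FusionSystem T) (hE : E.IsSubsystemOf F) (hT : F.StronglyClosed T) : E.IsInvariantIn F ↔ ∀ (P Q : Subgroup Ω) (hPQ : P ≤ Q) (_ : Q ≤ T) (φ : P →* Ω) (_ : φ ∈ E.Hom P) (hφQ : ∀ x : P, φ x ∈ Q) (ψ : Q →* Ω) (_ : ψ ∈ F.Hom Q), ∃ χ ∈ E.Hom ((P.subgroupOf Q).map ψ), ∀ (x : P) (hx : ψ (Subgroup.inclusion hPQ x) ∈ (P.subgroupOf Q).map ψ), χ ⟨ψ (Subgroup.inclusion hPQ x), hx⟩ = ψ ⟨φ x, hφQ x⟩ := by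
  constructor
  · rintro ⟨-, -, hinv, hfr⟩ P Q hPQ hQT φ hφ hφQ ψ hψ
    obtain ⟨α, hα, ψ₀, hψ₀, e⟩ := hfr Q hQT ψ hψ
    obtain ⟨σ, hσ, eσ⟩ := exists_restrict hψ₀ hPQ
    obtain ⟨σi, hσi, hσir, hσi₁, -⟩ := exists_inv hσ (rfl : σ.range = σ.range)
    obtain ⟨μ, hμ, eμ⟩ := exists_comp hσi hφ fun y => hσir.le ⟨y, rfl⟩
    obtain ⟨χ₀, hχ₀, eχ₀⟩ := exists_comp hμ hψ₀ fun y => by rw [eμ]; exact hφQ _
    obtain ⟨χ, hχ, eχ⟩ := hinv σ.range (range_le_base hσ) χ₀ hχ₀ α hα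
    have heq : (σ.range.subgroupOf T).map (T.subtype.comp α.toMonoidHom) = (P.subgroupOf Q).map ψ := by
      ext y
      constructor
      · rintro ⟨z, ⟨x, hx⟩, rfl⟩
        refine ⟨Subgroup.inclusion hPQ x, x.2, ?_⟩
        rw [e _ (apply_mem hψ₀ _)]
        exact congrArg (fun w : T => ((α w : T) : Ω)) (Subtype.ext ((eσ x).symm.trans hx))
      · rintro ⟨z, hz, rfl⟩
        refine ⟨⟨ψ₀ z, apply_mem hψ₀ z⟩, ⟨⟨z.1, hz⟩, eσ _⟩, (e z _).symm⟩
    have hsb : (P.subgroupOf Q).map ψ ≤ (σ.range.subgroupOf T).map (T.subtype.comp α.toMonoidHom) := heq.ge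
    obtain ⟨χ', hχ', eχ'⟩ := exists_restrict hχ hsb
    refine ⟨χ', hχ', fun x hx => ?_⟩
    rw [eχ']
    have hu : χ₀ ⟨σ x, ⟨x, rfl⟩⟩ = ψ₀ ⟨φ x, hφQ x⟩ := by
      rw [eχ₀]
      refine congrArg ψ₀ (Subtype.ext ?_)
      exact (eμ _).trans (congrArg φ (Subtype.ext (hσi₁ x _)))
    have hx' : ψ (Subgroup.inclusion hPQ x) = ((α ⟨σ x, apply_mem hσ x⟩ : T) : Ω) :=
      (e _ (apply_mem hψ₀ _)).trans (congrArg (fun w : T => ((α w : T) : Ω)) (Subtype.ext (eσ x).symm))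
    have h1 := eχ ⟨σ x, ⟨x, rfl⟩⟩ (apply_mem hχ₀ _) (hx' ▸ hsb hx)
    refine (congrArg χ (Subtype.ext hx')).trans (h1.trans ?_)
    rw [e _ (apply_mem hψ₀ _)]
    exact congrArg (fun w : T => ((α w : T) : Ω)) (Subtype.ext hu)
  · intro hstrong
    have hinv : AutInv F E := by
      intro P hPT φ hφ α hα
      haveI := finite_sub hT.1
      obtain ⟨a, ha, -, eα⟩ := exists_hom_of_aut hT.1 hα
      obtain ⟨χ, hχ, eχ⟩ := hstrong P T hPT le_rfl φ hφ (E.le_of_mem hφ).2 a ha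
      have hle : (P.subgroupOf T).map (T.subtype.comp α.toMonoidHom) ≤ (P.subgroupOf T).map a := by
        rintro _ ⟨z, hz, rfl⟩
        exact ⟨z, hz, eα z⟩
      obtain ⟨χ', hχ', eχ'⟩ := exists_restrict hχ hle
      refine ⟨χ', hχ', fun x hx hαx => ?_⟩
      rw [eχ']
      have he := eχ x ⟨_, x.2, rfl⟩
      refine ((congrArg χ (Subtype.ext (eα _).symm)).trans he).trans ?_
      exact eα _
    have hnorm : ∀ R : Subgroup Ω, R ≤ T → ∀ γ ∈ F.autGroup R, ∀ ε ∈ E.autGroup R,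
        γ * ε * γ⁻¹ ∈ E.autGroup R := by
      intro R hRT γ hγ ε hε
      obtain ⟨g, hg, hgr, eg⟩ := exists_hom_of_aut (hRT.trans hT.1) hγ
      obtain ⟨χ, hχ, eχ⟩ := hstrong R R le_rfl hRT _ ((mem_autGroup hRT).1 hε) (fun x => (ε x).2) g hg
      have hle : R ≤ (R.subgroupOf R).map g := fun y hy => by
        obtain ⟨x, rfl⟩ := hgr.ge hy
        exact ⟨x, x.2, rfl⟩
      obtain ⟨χ', hχ', eχ'⟩ := exists_restrict hχ hle
      refine mem_autGroup_of_hom hχ' fun y => ?_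
      rw [eχ']
      have he := eχ ((γ⁻¹ : MulAut R) y) (by exact ⟨_, ((γ⁻¹ : MulAut R) y).2, rfl⟩)
      have harg : g (Subgroup.inclusion le_rfl ((γ⁻¹ : MulAut R) y)) = (y : Ω) := by
        rw [show Subgroup.inclusion le_rfl ((γ⁻¹ : MulAut R) y) = (γ⁻¹ : MulAut R) y from rfl, eg,
          MulAut.apply_inv_self]
      refine (((congrArg χ (Subtype.ext harg.symm)).trans he).trans ?_).symm
      exact eg _
    refine ⟨hE, hT, fun P hPT φ hφ α hα => ?_, fun P hPT φ hφ => frattini hS hF hT hE hinv hnorm P hPT φ hφ⟩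
    exact hinv P hPT φ hφ α hα

end Cfsg.Agent.S5119
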