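import Cfsg.Statements.S5338
import Cfsg.Agent.Lib.FusionEssential.Centric

set_option autoImplicit false
open Cfsg

namespace Cfsg.Agent.S5338

/-- Let F be a saturated fusion system over a finite p-group S and F′ ≤ F a saturated subsystem over all of S that is invariant under F in the conjugation sense: for every map φ of F with source Q and every map ψ of F′ between subgroups R ≤ Q (with values in Q), the transported map φψφ⁻¹ defined on φ(R) is again a map of F′. If moreover Aut_{F′}(S) = Aut_F(S), then F′ = F. -/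
theorem result {Ω : Type*} [Group Ω] {S : Subgroup Ω} [Finite S] (p : ℕ) [Fact p.Prime] (hS : IsPGroup p S) (F : Cfsg.FusionSystem S) (hF : F.IsSaturated p) (F' : Cfsg.FusionSystem S) (hF' : F'.IsSaturated p) (hle : F' ≤ F) (hinv : ∀ (Q : Subgroup Ω) (φ : ↥Q →* Ω), φ ∈ F.Hom Q → ∀ (R : Subgroup Ω) (hRQ : R ≤ Q) (ψ : ↥R →* Ω), ψ ∈ F'.Hom R → ∀ (hψQ : ∀ x : R, ψ x ∈ Q), ∃ χ ∈ F'.Hom ((R.subgroupOf Q).map φ), ∀ (x : R) (hx : φ ⟨(x : Ω), hRQ x.2⟩ ∈ (R.subgroupOf Q).map φ), χ ⟨φ ⟨(x : Ω), hRQ x.2⟩, hx⟩ = φ ⟨ψ x, hψQ x⟩) (htop : F'.autGroup S = F.autGroup S) (P : Subgroup Ω) : F'.Hom P = F.Hom P := by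
  refine (Cfsg.Agent.Lib.FusionEssential.Centric.hom_eq_of_centric hS hF hle ?_ P).symm
  intro P hn hc big α hα
  have hP : P ≤ S := hn.1
  suffices h : F.autGroup P ≤ F'.autGroup P from (Cfsg.Agent.Lib.FS.mem_autGroup hP).1 (h hα)
  clear hα α
  rcases eq_or_lt_of_le hP with hPS | hlt
  · subst hPS; rw [htop]
  haveI := Cfsg.Agent.Lib.FS.finite_sub hP
  -- normality of the smaller automizer
  have hsub : F'.autGroup P ≤ F.autGroup P := fun a ha =>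
    (Cfsg.Agent.Lib.FS.mem_autGroup hP).2 (hle P ((Cfsg.Agent.Lib.FS.mem_autGroup hP).1 ha))
  have hconj : ∀ γ ∈ F.autGroup P, ∀ a ∈ F'.autGroup P, γ * a * γ⁻¹ ∈ F'.autGroup P := by
    intro γ hγ a ha
    obtain ⟨φ, hφ, hφr, hφe⟩ := Cfsg.Agent.Lib.FS.exists_hom_of_aut hP hγ
    obtain ⟨ψ, hψ, -, hψe⟩ := Cfsg.Agent.Lib.FS.exists_hom_of_aut hP ha
    have hψP : ∀ x, ψ x ∈ P := fun x => by rw [hψe]; exact (a x).2
    obtain ⟨χ, hχ, hχe⟩ := hinv P φ hφ P le_rfl ψ hψ hψP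
    have hle2 : P ≤ (P.subgroupOf P).map φ := fun y hy => by
      rw [← hφr] at hy
      obtain ⟨x, rfl⟩ := hy
      exact ⟨x, x.2, rfl⟩
    obtain ⟨χ', hχ', hχ'e⟩ := Cfsg.Agent.Lib.FS.exists_restrict hχ hle2
    refine Cfsg.Agent.Lib.FS.mem_autGroup_of_hom hχ' fun y => ?_
    obtain ⟨x, rfl⟩ : ∃ x, γ x = y := ⟨_, MulAut.apply_inv_self _ _ y⟩
    rw [MulAut.mul_apply, MulAut.mul_apply, MulAut.inv_apply_self, hχ'e]
    have hx : φ ⟨(x : Ω), x.2⟩ ∈ (P.subgroupOf P).map φ := ⟨x, x.2, rfl⟩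
    have e := hχe x hx
    have e1 : (⟨((γ x : P) : Ω), hle2 (γ x).2⟩ : ↥((P.subgroupOf P).map φ)) = ⟨φ ⟨(x : Ω), x.2⟩, hx⟩ :=
      Subtype.ext (hφe x).symm
    rw [e1, e, show (⟨ψ x, hψP x⟩ : P) = a x from Subtype.ext (hψe x), hφe]
  let A := F.autGroup P
  let N : Subgroup A := (F'.autGroup P).subgroupOf A
  haveI hNn : N.Normal := ⟨fun n hn g => Subgroup.mem_subgroupOf.2 (hconj g g.2 n (Subgroup.mem_subgroupOf.1 hn))⟩
  obtain ⟨T, hT⟩ := (Cfsg.Agent.Lib.FS.fullyAutomized_of_fullyNormalized hS hF hn).2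
  have hTN : (T : Subgroup A) ≤ N := by
    rw [hT]
    exact fun a ha => Subgroup.mem_subgroupOf.2
      (Cfsg.Agent.Lib.FS.autInducedBy_le_autGroup F' hP (Subgroup.mem_subgroupOf.1 ha))
  have hsup := Sylow.normalizer_sup_eq_top (T.subtype hTN)
  rw [Sylow.coe_subtype, Subgroup.map_subgroupOf_eq_of_le hTN] at hsup
  suffices hnor : Subgroup.normalizer ((T : Subgroup A) : Set A) ≤ N by
    intro β hβ
    have := (sup_le hnor le_rfl : _ ⊔ N ≤ N) (hsup ▸ Subgroup.mem_top (⟨β, hβ⟩ : A))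
    exact Subgroup.mem_subgroupOf.1 this
  rintro ⟨β, hβ⟩ hβN
  obtain ⟨φ, hφ, -, hφe⟩ := Cfsg.Agent.Lib.FS.exists_hom_of_aut hP hβ
  have hNe : Cfsg.FusionSystem.normalizerIn S P ≤ Cfsg.FusionSystem.extender S P φ := by
    intro g hg
    have hc : P.normalizerMonoidHom ⟨g, hg.2⟩ ∈ autInducedBy S P :=
      Cfsg.Agent.Lib.FS.mem_autInducedBy.2 ⟨g, hg.1, fun _ => rfl⟩
    have hgT : (⟨_, Cfsg.Agent.Lib.FS.autInducedBy_le_autGroup F hP hc⟩ : A) ∈ (T : Subgroup A) :=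
      hT ▸ Subgroup.mem_subgroupOf.2 hc
    have h2 := (Subgroup.mem_normalizer_iff.1 hβN _).1 hgT
    obtain ⟨k, hk, hke⟩ := Cfsg.Agent.Lib.FS.mem_autInducedBy.1 (Subgroup.mem_subgroupOf.1 (hT.le h2))
    refine Cfsg.Agent.Lib.FS.mem_extender_of hg hk fun x hx => ?_
    rw [hφe, hφe, ← hke (β x)]
    simp only [Subgroup.coe_mul, Subgroup.coe_inv, MulAut.mul_apply, MulAut.inv_apply_self]
    rfl
  obtain ⟨ψ, hψ, hψe⟩ := (Cfsg.Agent.Lib.FS.receptive_of_fullyNormalized hS hF hn).2 P φ hφ (by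
    ext y
    refine ⟨?_, fun hy => ⟨β.symm ⟨y, hy⟩, by rw [hφe]; simp⟩⟩
    rintro ⟨x, rfl⟩
    rw [hφe]; exact (β x).2)
  obtain ⟨ψ', hψ', hψ'e⟩ := Cfsg.Agent.Lib.FS.exists_restrict hψ hNe
  have hbig : ψ' ∈ F'.Hom _ := by
    refine big _ ?_ ψ' hψ'
    have h1 := Cfsg.Agent.Lib.FusionP3.Induction.lt_normalizerIn hS hlt
    haveI := Cfsg.Agent.Lib.FS.finite_sub (Cfsg.Agent.Lib.FS.src_le hψ')
    exact lt_of_le_of_ne (Subgroup.card_le_of_le h1.le) fun h => h1.ne (Subgroup.eq_of_le_of_card_ge h1.le h.ge)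
  obtain ⟨φ', hφ', hφ'e⟩ := Cfsg.Agent.Lib.FS.exists_restrict hbig (Cfsg.Agent.Lib.FS.le_normalizerIn hP)
  refine Subgroup.mem_subgroupOf.2 (Cfsg.Agent.Lib.FS.mem_autGroup_of_hom hφ' fun x => ?_)
  rw [hφ'e, hψ'e, hψe x x.2 _, ← hφe]

end Cfsg.Agent.S5338
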