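import Cfsg.Statements.S5206
import Cfsg.Agent.Lib.FusionSystem.Group
import Cfsg.Agent.Lib.FusionSystem.Normalizer
import Cfsg.Agent.Lib.FusionSystem.ModelUnique
import Cfsg.Agent.Lib.Tech42.QdRankTwo.Matrices
import Cfsg.Agent.Lib.Transfer.InvolvesS4

set_option autoImplicit false
open Cfsg

namespace Cfsg.Agent.S5206

open Cfsg.Agent.Lib.Tech42.QdRankTwo Cfsg.Agent.Lib.Transfer.InvolvesS4
open Cfsg.FusionSystem (normalizerIn centralizerIn)
open scoped Pointwise

set_option linter.unusedSectionVars false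

universe u

section qd

variable {p : ℕ} [Fact p.Prime]

lemma qd_decomp (q : ↥(Cfsg.qd p)) :
    ∃ v ∈ transSub p, tauQ p * (v * q) = (v * q) * tauQ p := by
  obtain ⟨h0, h1, h2⟩ := qd_row q.2
  refine ⟨trQ p (-q.1.1 0 2) (-q.1.1 1 2), ⟨(_, _), rfl⟩, ?_⟩
  apply qd_ext
  intro i j
  simp only [qd_mul_apply]
  fin_cases i <;> fin_cases j <;>
    simp [qEl, trQ, tauQ, h0, h1, h2, Fin.sum_univ_three]

lemma mem_trans_of_centralizes {q : ↥(Cfsg.qd p)} (h : ∀ v ∈ transSub p, q * v = v * q) :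
    q ∈ transSub p := by
  obtain ⟨h0, h1, h2⟩ := qd_row q.2
  have key : ∀ a b : ZMod p, q.1.1 0 0 * a + q.1.1 0 1 * b = a ∧
      q.1.1 1 0 * a + q.1.1 1 1 * b = b := fun a b => by
    have h3 := trQ_conj q a b
    rw [h _ ⟨(a, b), rfl⟩] at h3
    obtain ⟨e1, e2⟩ := trQ_inj (mul_right_cancel h3)
    exact ⟨e1.symm, e2.symm⟩
  obtain ⟨a1, a2⟩ := key 1 0
  obtain ⟨b1, b2⟩ := key 0 1
  simp only [mul_one, mul_zero, add_zero, zero_add] at a1 a2 b1 b2
  refine ⟨(q.1.1 0 2, q.1.1 1 2), ?_⟩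
  apply qd_ext
  intro i j
  fin_cases i <;> fin_cases j <;> simp [qEl, trQ, h0, h1, h2, a1, a2, b1, b2]

lemma eq_one_of_centralizes (hp : p ≠ 2) {q : ↥(Cfsg.qd p)} (hq : tauQ p * q = q * tauQ p)
    (h : ∀ v ∈ transSub p, q * v = v * q) : q = 1 :=
  transSub_fixed hp (mem_trans_of_centralizes h) hq

lemma eq_bot_of_coprime (hp : p ≠ 2) (D : Subgroup ↥(Cfsg.qd p)) [D.Normal]
    (hD : (Nat.card D).Coprime p) : D = ⊥ := by
  rw [Subgroup.eq_bot_iff_forall]
  intro d hd
  have h1 : ∀ v ∈ transSub p, d * v = v * d := by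
    intro v hv
    have hV := transSub_normal (p := p)
    have hc : d * v * d⁻¹ * v⁻¹ ∈ D ⊓ transSub p := by
      refine ⟨?_, (transSub p).mul_mem (hV.conj_mem v hv d) ((transSub p).inv_mem hv)⟩
      simpa [mul_assoc] using
        D.mul_mem hd ((inferInstance : D.Normal).conj_mem d⁻¹ (D.inv_mem hd) v)
    have h2 : d * v * d⁻¹ * v⁻¹ = 1 := by
      refine orderOf_eq_one_iff.mp (Nat.eq_one_of_dvd_coprimes hD ?_
        (orderOf_dvd_of_pow_eq_one (transSub_pow hc.2)))
      rw [← Subgroup.orderOf_mk _ hc.1]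
      exact orderOf_dvd_natCard _
    exact mul_inv_eq_iff_eq_mul.mp (mul_inv_eq_one.mp h2)
  refine orderOf_eq_one_iff.mp (Nat.eq_one_of_dvd_coprimes hD ?_
    (orderOf_dvd_of_pow_eq_one (transSub_pow (mem_trans_of_centralizes h1))))
  rw [← Subgroup.orderOf_mk _ hd]
  exact orderOf_dvd_natCard _

end qd

section groups

variable {G : Type*} [Group G] [Finite G]

lemma map_conj_eq {H : Subgroup G} {g : G} (h : H.map (MulAut.conj g).toMonoidHom ≤ H) :
    H.map (MulAut.conj g).toMonoidHom = H :=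
  Subgroup.eq_of_le_of_card_ge h
    (Nat.card_congr (H.equivMapOfInjective _ (MulAut.conj g).injective).toEquiv).le

lemma mem_norm_of_map_le {H : Subgroup G} {g : G} (h : H.map (MulAut.conj g).toMonoidHom ≤ H) :
    g ∈ Subgroup.normalizer (H : Set G) :=
  Subgroup.mem_normalizer_iff_map_conj_eq.mpr (map_conj_eq h)

/-- The Frattini argument, inside an ambient group. -/
lemma frattini {q : ℕ} [Fact q.Prime] {A L : Subgroup G}
    (hn : A ≤ Subgroup.normalizer (L : Set G)) (P : Sylow q L) {a : G} (ha : a ∈ A) :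
    ∃ l ∈ L, a * l ∈ Subgroup.normalizer (((P : Subgroup L).map L.subtype : Subgroup G) : Set G) := by
  have hc : ∀ x ∈ L, a⁻¹ * x * a ∈ L := fun x hx => by
    have h := (Subgroup.mem_normalizer_iff.mp (hn (A.inv_mem ha)) x).mp hx
    simpa using h
  let ψ : L →* L := ((MulAut.conj a⁻¹).toMonoidHom.comp L.subtype).codRestrict L
    (fun x => by simpa [MulAut.conj_apply] using hc x x.2)
  have hψv : ∀ x : L, (ψ x : G) = a⁻¹ * x * a := fun x => by simp [ψ, MulAut.conj_apply]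
  have hψ : Function.Surjective ψ := Finite.injective_iff_surjective.mp fun x y h => by
    have h1 := congrArg Subtype.val h
    rw [hψv, hψv] at h1
    exact Subtype.ext (mul_left_cancel (mul_right_cancel h1))
  obtain ⟨l, hl⟩ := MulAction.exists_smul_eq L P (P.mapSurjective hψ)
  refine ⟨l, l.2, mem_norm_of_map_le ?_⟩
  rintro _ ⟨_, ⟨x, hx, rfl⟩, rfl⟩
  have h1 : l * x * l⁻¹ ∈ ((P.mapSurjective hψ : Sylow q L) : Subgroup L) := by
    rw [← hl, Sylow.coe_subgroup_smul]
    exact Subgroup.smul_mem_pointwise_smul x (MulAut.conj l) _ hx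
  rw [Sylow.coe_mapSurjective] at h1
  obtain ⟨y, hy, hye⟩ := h1
  refine ⟨y, hy, ?_⟩
  have h2 := congrArg Subtype.val hye
  rw [hψv] at h2
  simp only [Subgroup.coe_mul, Subgroup.coe_inv] at h2
  simp only [Subgroup.coe_subtype, MulEquiv.coe_toMonoidHom, MulAut.conj_apply]
  calc (y : G) = a * (a⁻¹ * (y : G) * a) * a⁻¹ := by group
    _ = a * (l * x * (l : G)⁻¹) * a⁻¹ := by rw [h2]
    _ = _ := by group

lemma eq_one_of_pGroup_inter {p q : ℕ} [Fact p.Prime] [Fact q.Prime] (hpq : p ≠ q) {A B : Subgroup G}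
    (hA : IsPGroup p A) (hB : IsPGroup q B) {x : G} (hxA : x ∈ A) (hxB : x ∈ B) : x = 1 := by
  have h := IsPGroup.disjoint_of_ne p q hpq A B hA hB
  exact Subgroup.mem_bot.mp (h.le_bot ⟨hxA, hxB⟩)

variable {p : ℕ} [Fact p.Prime]

/-- an involved `Qd(p)` is visible with a normalised `p`-subgroup -/
lemma exists_normalised (h : Cfsg.Involves ↥(Cfsg.qd p) G) :
    ∃ (K : Subgroup G) (φ : K →* ↥(Cfsg.qd p)) (R : Subgroup G), Function.Surjective φ ∧
      IsPGroup p R ∧ R ≤ K ∧ K ≤ Subgroup.normalizer (R : Set G) ∧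
      (R.subgroupOf K).map φ = transSub p := by
  obtain ⟨K, φ, hφ⟩ := exists_hom_of_involves h
  set V := transSub p
  have hV := transSub_normal (p := p)
  let L : Subgroup K := V.comap φ
  let P : Sylow p L := default
  let R1 : Subgroup K := (P : Subgroup L).map L.subtype
  have hVp : IsPGroup p V := IsPGroup.of_card (card_transSub (p := p))
  have hR1V : R1.map φ = V := by
    let f : L →* V := φ.subgroupComap V
    have hf : Function.Surjective f := fun v => by
      obtain ⟨k, hk⟩ := hφ v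
      exact ⟨⟨k, show φ k ∈ V by rw [hk]; exact v.2⟩, Subtype.ext hk⟩
    let P' := P.mapSurjective hf
    have htop : (P' : Subgroup V) = ⊤ := (P'.is_maximal' (hVp.to_subgroup ⊤) le_top).symm
    apply le_antisymm
    · rintro _ ⟨_, ⟨x, hx, rfl⟩, rfl⟩
      exact x.2
    · intro v hv
      have h1 : (⟨v, hv⟩ : V) ∈ (P' : Subgroup V) := by rw [htop]; trivial
      obtain ⟨x, hx, hxv⟩ := h1
      exact ⟨(x : K), ⟨x, hx, rfl⟩, congrArg Subtype.val hxv⟩
  let K' : Subgroup K := Subgroup.normalizer (R1 : Set K)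
  have hR1K' : R1 ≤ K' := Subgroup.le_normalizer
  refine ⟨K'.map K.subtype, φ.comp (K'.subtype.comp
    (K'.equivMapOfInjective K.subtype K.subtype_injective).symm.toMonoidHom), R1.map K.subtype,
    ?_, (P.isPGroup'.map _).map _, Subgroup.map_mono hR1K', ?_, ?_⟩
  · intro q
    obtain ⟨a, rfl⟩ := hφ q
    have hL : (⊤ : Subgroup K) ≤ Subgroup.normalizer (L : Set K) :=
      le_of_eq (Subgroup.normalizer_eq_top_iff.mpr (hV.comap φ)).symm
    obtain ⟨l, hl, hn⟩ := frattini hL P (Subgroup.mem_top a)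
    obtain ⟨r, hr, hrl⟩ : φ l ∈ R1.map φ := by rw [hR1V]; exact hl
    refine ⟨K'.equivMapOfInjective K.subtype K.subtype_injective
      ⟨a * l * r⁻¹, K'.mul_mem hn (K'.inv_mem (hR1K' hr))⟩, ?_⟩
    simp [hrl]
  · rintro _ ⟨k, hk, rfl⟩
    exact Subgroup.le_normalizer_map (f := K.subtype) ⟨k, hk, rfl⟩
  · refine Eq.trans ?_ hR1V
    ext v
    constructor
    · rintro ⟨x, hx, rfl⟩
      obtain ⟨r, hr, hre⟩ := hx
      refine ⟨r, hr, ?_⟩
      simp only [MonoidHom.comp_apply, MulEquiv.coe_toMonoidHom]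
      congr 1
      have h1 := congrArg Subtype.val
        ((K'.equivMapOfInjective K.subtype K.subtype_injective).apply_symm_apply x)
      exact K.subtype_injective (hre.trans h1.symm)
    · rintro ⟨r, hr, rfl⟩
      refine ⟨K'.equivMapOfInjective K.subtype K.subtype_injective ⟨r, hR1K' hr⟩,
        ⟨r, hr, rfl⟩, ?_⟩
      simp

/-- no `p`-element outside `Q` centralises `Q` -/
def Cent (p : ℕ) (Q : Subgroup G) : Prop :=
  ∀ x ∈ Subgroup.centralizer (Q : Set G), (∃ k : ℕ, x ^ p ^ k = 1) → x ∈ Q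

/-- an involved `Qd(p)` is visible in the normaliser of a centric `p`-subgroup -/
lemma exists_local (hp : p ≠ 2) (h : Cfsg.Involves ↥(Cfsg.qd p) G) :
    ∃ Q : Subgroup G, IsPGroup p Q ∧ Cent p Q ∧
      Cfsg.Involves ↥(Cfsg.qd p) ↥(Subgroup.normalizer (Q : Set G)) := by
  have : Fact (Nat.Prime 2) := ⟨Nat.prime_two⟩
  obtain ⟨K, φ, R, hφ, hR, hRK, hKR, hRV⟩ := exists_normalised h
  set C : Subgroup G := Subgroup.centralizer (R : Set G) with hC
  let T : Sylow p C := default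
  set T' : Subgroup G := (T : Subgroup C).map C.subtype with hT'
  set Y1 : Subgroup G :=
    Subgroup.normalizer (R : Set G) ⊓ Subgroup.normalizer (T' : Set G) with hY1
  have hT'C : T' ≤ C := Subgroup.map_subtype_le _
  have hcomm : ∀ r ∈ R, ∀ t ∈ T', r * t = t * r := fun r hr t ht => hT'C ht r hr
  have hconj : ∀ y ∈ Y1, ∀ r ∈ R, y * r * y⁻¹ ∈ R := fun y hy r hr =>
    (Subgroup.mem_normalizer_iff.mp hy.1 r).mp hr
  -- the correspondence
  let W : Subgroup (G × ↥(Cfsg.qd p)) :=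
    { carrier := {z | z.1 ∈ Y1 ∧ ∀ a b : K, (a : G) ∈ R → z.1 * a * z.1⁻¹ = b →
        φ b = z.2 * φ a * z.2⁻¹}
      one_mem' := ⟨Y1.one_mem, fun a b _ hab => by
        simp only [Prod.fst_one, Prod.snd_one, one_mul, inv_one, mul_one] at hab ⊢
        rw [Subtype.ext hab]⟩
      mul_mem' := by
        rintro x y ⟨hx1, hx2⟩ ⟨hy1, hy2⟩
        refine ⟨Y1.mul_mem hx1 hy1, fun a b ha hab => ?_⟩
        simp only [Prod.fst_mul, Prod.snd_mul] at hab ⊢
        have h1 := hconj _ hy1 _ ha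
        rw [hx2 ⟨_, hRK h1⟩ b h1 (by rw [← hab]; group), hy2 a ⟨_, hRK h1⟩ ha rfl]
        group
      inv_mem' := by
        rintro x ⟨hx1, hx2⟩
        refine ⟨Y1.inv_mem hx1, fun a b ha hab => ?_⟩
        simp only [Prod.fst_inv, Prod.snd_inv, inv_inv] at hab ⊢
        have hb : (b : G) ∈ R := by
          rw [← hab]; simpa using hconj _ (Y1.inv_mem hx1) _ ha
        rw [hx2 b a hb (by rw [← hab]; group)]
        group }
  have hWmem : ∀ y q, ((y, q) : G × ↥(Cfsg.qd p)) ∈ W ↔ y ∈ Y1 ∧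
      ∀ a b : K, (a : G) ∈ R → y * a * y⁻¹ = b → φ b = q * φ a * q⁻¹ := fun y q => Iff.rfl
  have hcover : ∀ q : ↥(Cfsg.qd p), ∃ y, (y, q) ∈ W := by
    intro q
    obtain ⟨k, rfl⟩ := hφ q
    have hn : Subgroup.normalizer (R : Set G) ≤ Subgroup.normalizer (C : Set G) := by
      intro x hx
      have hstab : ∀ x ∈ Subgroup.normalizer (R : Set G), ∀ c ∈ C, x * c * x⁻¹ ∈ C := by
        intro x hx c hc r hr
        have hr' : x⁻¹ * r * x ∈ R := by
          simpa using (Subgroup.mem_normalizer_iff.mp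
            ((Subgroup.normalizer (R : Set G)).inv_mem hx) r).mp hr
        calc r * (x * c * x⁻¹) = x * ((x⁻¹ * r * x) * c) * x⁻¹ := by group
          _ = x * (c * (x⁻¹ * r * x)) * x⁻¹ := by rw [hc _ hr']
          _ = x * c * x⁻¹ * r := by group
      rw [Subgroup.mem_normalizer_iff]
      intro c
      refine ⟨hstab x hx c, fun h => ?_⟩
      simpa [mul_assoc] using hstab x⁻¹ ((Subgroup.normalizer (R : Set G)).inv_mem hx) _ h
    obtain ⟨l, hl, hln⟩ := frattini hn T (hKR k.2)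
    refine ⟨(k : G) * l, (hWmem _ _).mpr ⟨⟨?_, hln⟩, fun a b ha hab => ?_⟩⟩
    · exact Subgroup.mul_mem _ (hKR k.2) (Subgroup.centralizer_le_normalizer _ hl)
    · have hla : l * (a : G) * l⁻¹ = a := by rw [← hl a ha, mul_inv_cancel_right]
      have hb : b = k * a * k⁻¹ := Subtype.ext (by
        rw [← hab]
        calc (k : G) * l * a * ((k : G) * l)⁻¹ = k * (l * a * l⁻¹) * (k : G)⁻¹ := by group
          _ = _ := by rw [hla]; simp)
      rw [hb, map_mul, map_mul, map_inv]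
  -- a 2-element over the central involution
  set τ := tauQ p with hτ
  have hτ2 : τ * τ = 1 := tauQ_mul_self
  obtain ⟨z, hzW, hz2⟩ : ∃ z, (z, τ) ∈ W ∧ ∃ e : ℕ, z ^ 2 ^ e = 1 := by
    obtain ⟨y, hy⟩ := hcover τ
    obtain ⟨e, m, hm, hme⟩ := Nat.exists_eq_two_pow_mul_odd (orderOf_pos y).ne'
    refine ⟨y ^ m, ?_, e, ?_⟩
    · obtain ⟨j, rfl⟩ := hm
      have h1 := W.pow_mem hy (2 * j + 1)
      have h2 : τ ^ (2 * j + 1) = τ := by rw [pow_succ, pow_mul, pow_two, hτ2, one_pow, one_mul]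
      rwa [Prod.pow_mk, h2] at h1
    · rw [← pow_mul, mul_comm, ← hme, pow_orderOf_eq_one]
  let Ct : Subgroup ↥(Cfsg.qd p) := Subgroup.centralizer ({τ} : Set ↥(Cfsg.qd p))
  have hCt : ∀ q, q ∈ Ct ↔ τ * q = q * τ := fun q => by
    rw [Subgroup.mem_centralizer_iff]; simp
  let L0 : Subgroup G :=
    (W ⊓ (⊤ : Subgroup G).prod (Subgroup.zpowers τ)).map (MonoidHom.fst G ↥(Cfsg.qd p))
  let Yt : Subgroup G := (W ⊓ (⊤ : Subgroup G).prod Ct).map (MonoidHom.fst G ↥(Cfsg.qd p))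
  have hL0 : ∀ {y}, y ∈ L0 ↔ ∃ q ∈ Subgroup.zpowers τ, (y, q) ∈ W := by
    intro y
    constructor
    · rintro ⟨⟨a, b⟩, ⟨h1, -, h2⟩, rfl⟩; exact ⟨b, h2, h1⟩
    · rintro ⟨q, h2, h1⟩; exact ⟨(y, q), ⟨h1, trivial, h2⟩, rfl⟩
  have hnorm : Yt ≤ Subgroup.normalizer (L0 : Set G) := by
    have hstab : ∀ x ∈ Yt, ∀ l ∈ L0, x * l * x⁻¹ ∈ L0 := by
      rintro x ⟨⟨x', q⟩, ⟨hxW, -, hq⟩, rfl⟩ l hl
      obtain ⟨t, ht, hlW⟩ := hL0.mp hl
      refine hL0.mpr ⟨t, ht, ?_⟩
      obtain ⟨i, rfl⟩ := ht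
      have hc : q * τ ^ i * q⁻¹ = τ ^ i := by
        have : Commute q (τ ^ i) := ((hCt q).mp hq).symm |> fun h => Commute.zpow_right h i
        rw [this.eq, mul_inv_cancel_right]
      have h1 := W.mul_mem (W.mul_mem hxW hlW) (W.inv_mem hxW)
      simpa [hc] using h1
    intro x hx
    rw [Subgroup.mem_normalizer_iff]
    intro l
    refine ⟨hstab x hx l, fun h => ?_⟩
    simpa [mul_assoc] using hstab x⁻¹ (Yt.inv_mem hx) _ h
  have hzL : z ∈ L0 := hL0.mpr ⟨τ, Subgroup.mem_zpowers τ, hzW⟩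
  obtain ⟨e, he⟩ := hz2
  have hzp : IsPGroup 2 (Subgroup.zpowers (⟨z, hzL⟩ : L0)) :=
    IsPGroup.of_card (n := Nat.log 2 (orderOf z)) (by
      obtain ⟨i, -, hi⟩ := (Nat.dvd_prime_pow Nat.prime_two).mp (orderOf_dvd_of_pow_eq_one he)
      rw [Nat.card_zpowers, Subgroup.orderOf_mk, hi, Nat.log_pow Nat.one_lt_two])
  obtain ⟨S2, hS2⟩ := hzp.exists_le_sylow
  set S2' : Subgroup G := (S2 : Subgroup L0).map L0.subtype with hS2'
  set H : Subgroup G := Subgroup.normalizer (S2' : Set G) with hH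
  have hzS2 : z ∈ S2' := ⟨⟨z, hzL⟩, hS2 (Subgroup.mem_zpowers _), rfl⟩
  have hzY : z ∈ Y1 := ((hWmem z τ).mp hzW).1
  -- elements of `R` in `H` map to the identity
  have hRH : ∀ r ∈ R, ∀ hr : r ∈ K, r ∈ H → φ ⟨r, hr⟩ = 1 := by
    intro r hr hrK hrH
    have h1 : r * z * r⁻¹ * z⁻¹ = 1 := by
      refine eq_one_of_pGroup_inter (p := p) (q := 2) (B := S2') hp hR (S2.isPGroup'.map _) ?_ ?_
      · have := R.mul_mem hr (hconj z hzY _ (R.inv_mem hr))
        simpa [mul_assoc] using this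
      · exact S2'.mul_mem ((Subgroup.mem_normalizer_iff.mp hrH z).mp hzS2) (S2'.inv_mem hzS2)
    have h2 : z * r * z⁻¹ = r := by
      have h3 : r * z * r⁻¹ = z := mul_inv_eq_one.mp h1
      calc z * r * z⁻¹ = (r * z * r⁻¹) * r * z⁻¹ := by rw [h3]
        _ = r := by group
    have h4 := ((hWmem z τ).mp hzW).2 ⟨r, hrK⟩ ⟨r, hrK⟩ hr h2
    refine transSub_fixed hp ?_ ?_
    · rw [← hRV]; exact ⟨_, hr, rfl⟩
    · exact (mul_inv_eq_iff_eq_mul.mp h4.symm).symm ▸ rfl
  let Wg : Subgroup (G × ↥(Cfsg.qd p)) := W ⊓ H.prod Ct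
  let g : R →* G × ↥(Cfsg.qd p) := R.subtype.prod (φ.comp (Subgroup.inclusion hRK))
  have hWgn : Wg ≤ Subgroup.normalizer (g.range : Set (G × ↥(Cfsg.qd p))) := by
    have hstab : ∀ x ∈ W, ∀ y ∈ g.range, x * y * x⁻¹ ∈ g.range := by
      rintro ⟨x, q⟩ hx _ ⟨r, rfl⟩
      obtain ⟨hx1, hx2⟩ := (hWmem x q).mp hx
      exact ⟨⟨x * r * x⁻¹, hconj x hx1 r r.2⟩, Prod.ext rfl
        (hx2 (Subgroup.inclusion hRK r) _ r.2 rfl)⟩
    intro x hx
    rw [Subgroup.mem_normalizer_iff]
    intro y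
    refine ⟨hstab x hx.1 y, fun h => ?_⟩
    simpa [mul_assoc] using hstab x⁻¹ (W.inv_mem hx.1) _ h
  set U : Subgroup (G × ↥(Cfsg.qd p)) := Wg ⊔ g.range with hU
  let f1 : U →* G := (MonoidHom.fst G ↥(Cfsg.qd p)).comp U.subtype
  have hinj : Function.Injective f1 := by
    rw [injective_iff_map_eq_one]
    rintro ⟨u, hu⟩ hu1
    change u.1 = 1 at hu1
    have hu' : u ∈ (U : Set (G × ↥(Cfsg.qd p))) := hu
    rw [hU, Subgroup.coe_mul_of_left_le_normalizer_right _ _ hWgn] at hu'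
    obtain ⟨⟨x, q⟩, hw, _, ⟨r, rfl⟩, rfl⟩ := hu'
    obtain ⟨hwW, hxH, hqC⟩ := hw
    change x * (r : G) = 1 at hu1
    have hx : x = (r : G)⁻¹ := eq_inv_of_mul_eq_one_left hu1
    subst hx
    have h1 : φ (Subgroup.inclusion hRK r) = 1 :=
      hRH r r.2 _ (by simpa using H.inv_mem hxH)
    have h2 : q = 1 := by
      refine eq_one_of_centralizes hp ((hCt q).mp hqC) fun v hv => ?_
      rw [← hRV] at hv
      obtain ⟨a, ha, rfl⟩ := hv
      have h3 := ((hWmem _ q).mp hwW).2 a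
        ((Subgroup.inclusion hRK r)⁻¹ * a * Subgroup.inclusion hRK r) ha (by simp)
      rw [map_mul, map_mul, map_inv, h1, inv_one, one_mul, mul_one] at h3
      exact (mul_inv_eq_iff_eq_mul.mp h3.symm)
    apply Subtype.ext
    refine Prod.ext hu1 ?_
    change q * φ (Subgroup.inclusion hRK r) = 1
    rw [h1, h2, one_mul]
  have hsurj : ∀ q : ↥(Cfsg.qd p), ∃ u ∈ U, u.2 = q := by
    intro q
    obtain ⟨v, hv, hvq⟩ := qd_decomp q
    obtain ⟨r, hr, hrv⟩ : v⁻¹ ∈ (R.subgroupOf K).map φ := by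
      rw [hRV]; exact (transSub p).inv_mem hv
    obtain ⟨y, hy⟩ := hcover (v * q)
    have hyt : y ∈ Yt := ⟨(y, v * q), ⟨hy, trivial, (hCt _).mpr hvq⟩, rfl⟩
    obtain ⟨l, hl, hln⟩ := frattini hnorm S2 hyt
    obtain ⟨t, ht, hlW⟩ := hL0.mp hl
    obtain ⟨i, rfl⟩ := ht
    have hw : (y * l * z ^ (-i), v * q) ∈ Wg := by
      refine ⟨?_, H.mul_mem hln (H.zpow_mem (Subgroup.le_normalizer hzS2) _), (hCt _).mpr hvq⟩
      have h1 := W.mul_mem (W.mul_mem hy hlW) (W.zpow_mem hzW (-i))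
      simpa [mul_assoc] using h1
    refine ⟨g ⟨r, hr⟩ * (y * l * z ^ (-i), v * q), U.mul_mem (Subgroup.mem_sup_right ⟨_, rfl⟩)
      (Subgroup.mem_sup_left hw), ?_⟩
    change φ (Subgroup.inclusion hRK ⟨r, hr⟩) * (v * q) = q
    rw [show Subgroup.inclusion hRK ⟨r, hr⟩ = r from rfl, hrv, inv_mul_cancel_left]
  set Q := R ⊔ T' with hQ
  have hRY : R ≤ Y1 := by
    intro r hr
    refine ⟨Subgroup.le_normalizer hr, Subgroup.mem_normalizer_iff.mpr fun t => ?_⟩
    refine ⟨fun ht => ?_, fun ht => ?_⟩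
    · rwa [hcomm r hr t ht, mul_inv_cancel_right]
    · have h1 := hcomm r⁻¹ (R.inv_mem hr) _ ht
      have h2 : t = r * t * r⁻¹ := by
        calc t = r⁻¹ * (r * t * r⁻¹) * r := by group
          _ = r * t * r⁻¹ := by rw [h1, inv_mul_cancel_right]
      rw [h2]; exact ht
  have hUY : U.map (MonoidHom.fst G ↥(Cfsg.qd p)) ≤ Y1 := by
    rw [hU, Subgroup.map_sup]
    refine sup_le ?_ ?_
    · rintro _ ⟨⟨x, q⟩, hx, rfl⟩
      exact ((hWmem x q).mp hx.1).1
    · rintro _ ⟨_, ⟨r, rfl⟩, rfl⟩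
      exact hRY r.2
  have hYQ : Y1 ≤ Subgroup.normalizer (Q : Set G) := by
    intro y hy
    refine mem_norm_of_map_le ?_
    rw [hQ, Subgroup.map_sup]
    exact sup_le_sup (Subgroup.mem_normalizer_iff_map_conj_eq.mp hy.1).le
      (Subgroup.mem_normalizer_iff_map_conj_eq.mp hy.2).le
  have hRT : R ≤ Subgroup.normalizer (T' : Set G) := fun r hr => (hRY hr).2
  refine ⟨Q, hR.to_sup_of_normal_right' (T.isPGroup'.map _) hRT, ?_, ?_⟩
  · rintro x hx ⟨k, hk⟩
    have hxC : x ∈ C := fun r hr => hx r (Subgroup.mem_sup_left hr)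
    set xc : C := ⟨x, hxC⟩
    have hX : IsPGroup p (Subgroup.zpowers xc) := by
      rintro ⟨_, i, rfl⟩
      refine ⟨k, Subtype.ext (Subtype.ext ?_)⟩
      simp only [SubgroupClass.coe_pow, SubgroupClass.coe_zpow, OneMemClass.coe_one, xc]
      rw [← zpow_natCast, ← zpow_mul, mul_comm, zpow_mul, zpow_natCast, hk, one_zpow]
    have hXn : Subgroup.zpowers xc ≤ Subgroup.normalizer ((T : Subgroup C) : Set C) := by
      rw [Subgroup.zpowers_le, Subgroup.mem_normalizer_iff]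
      intro t
      have hc : ∀ t ∈ (T : Subgroup C), xc * t = t * xc := fun t ht =>
        Subtype.ext (hx t (Subgroup.mem_sup_right ⟨t, ht, rfl⟩)).symm
      refine ⟨fun ht => by rwa [hc t ht, mul_inv_cancel_right], fun ht => ?_⟩
      have h1 := hc _ ht
      have h2 : xc * t * xc⁻¹ = t := by
        calc xc * t * xc⁻¹ = xc⁻¹ * (xc * (xc * t * xc⁻¹)) := by group
          _ = t := by rw [h1]; group
      rwa [h2] at ht
    have h := T.is_maximal' (hX.to_sup_of_normal_right' T.isPGroup' hXn) le_sup_right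
    exact Subgroup.mem_sup_right ⟨xc, h ▸ Subgroup.mem_sup_left (Subgroup.mem_zpowers xc), rfl⟩
  · let e := MonoidHom.ofInjective hinj
    have hle : f1.range ≤ Subgroup.normalizer (Q : Set G) := by
      rintro _ ⟨u, rfl⟩
      exact hYQ (hUY ⟨u, u.2, rfl⟩)
    refine involves_of_hom (f1.range.subgroupOf (Subgroup.normalizer (Q : Set G)))
      ((MonoidHom.snd G ↥(Cfsg.qd p)).comp (U.subtype.comp
        (e.symm.toMonoidHom.comp (Subgroup.subgroupOfEquivOfLe hle).toMonoidHom))) ?_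
    intro q
    obtain ⟨u, hu, huq⟩ := hsurj q
    refine ⟨(Subgroup.subgroupOfEquivOfLe hle).symm (e ⟨u, hu⟩), ?_⟩
    simp [huq]

end groups

section model

variable {G : Type u} [Group G] [Finite G] {p : ℕ} [Fact p.Prime] (S : Sylow p G)
  {Q : Subgroup G}

/-- the odd part of the centraliser of a centric subgroup -/
lemma exists_complement (hQ : IsPGroup p Q) (hcent : Cent p Q) :
    ∃ D : Subgroup G, D ≤ Subgroup.centralizer (Q : Set G) ∧ (Nat.card D).Coprime p ∧
      Subgroup.normalizer (Q : Set G) ≤ Subgroup.normalizer (D : Set G) ∧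
      ∀ x ∈ Subgroup.centralizer (Q : Set G), ∃ d ∈ D, x * d⁻¹ ∈ Q := by
  set C := Subgroup.centralizer (Q : Set G) with hC
  let P : Sylow p C := default
  have hPQ : ∀ x : C, x ∈ (P : Subgroup C) → (x : G) ∈ Q := by
    intro x hx
    obtain ⟨k, hk⟩ := P.isPGroup' ⟨x, hx⟩
    refine hcent x x.2 ⟨k, ?_⟩
    have h := congrArg (fun y : (P : Subgroup C) => ((y : C) : G)) hk
    simpa using h
  have hP : Subgroup.normalizer ((P : Subgroup C) : Set C) ≤
      Subgroup.centralizer ((P : Subgroup C) : Set C) :=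
    fun n _ a ha => Subtype.ext (n.2 a (hPQ a ha))
  set f := MonoidHom.transferSylow P hP
  have hker : ∀ x : C, x ∈ f.ker ↔ (orderOf x).Coprime p := by
    intro x
    constructor
    · intro hx
      refine Nat.Coprime.coprime_dvd_left ?_
        ((Fact.out : p.Prime).coprime_iff_not_dvd.mpr
          (MonoidHom.not_dvd_card_ker_transferSylow P hP)).symm
      rw [← Subgroup.orderOf_mk x hx]
      exact orderOf_dvd_natCard _
    · intro hx
      rw [MonoidHom.mem_ker]
      obtain ⟨k, hk⟩ := P.isPGroup' (f x)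
      exact orderOf_eq_one_iff.mp (Nat.eq_one_of_dvd_coprimes (hx.pow_right k)
        (orderOf_map_dvd f x) (orderOf_dvd_of_pow_eq_one hk))
  refine ⟨f.ker.map C.subtype, Subgroup.map_subtype_le _, ?_, ?_, ?_⟩
  · rw [Nat.card_congr (f.ker.equivMapOfInjective _ C.subtype_injective).symm.toEquiv]
    exact ((Fact.out : p.Prime).coprime_iff_not_dvd.mpr
      (MonoidHom.not_dvd_card_ker_transferSylow P hP)).symm
  · intro n hn
    refine mem_norm_of_map_le ?_
    rintro _ ⟨_, ⟨x, hx, rfl⟩, rfl⟩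
    have hC' : n * (x : G) * n⁻¹ ∈ C := by
      intro q hq
      have hq' : n⁻¹ * q * n ∈ Q := by
        simpa using (Subgroup.mem_normalizer_iff.mp ((Subgroup.normalizer (Q : Set G)).inv_mem hn) q).mp hq
      calc q * (n * (x : G) * n⁻¹) = n * ((n⁻¹ * q * n) * x) * n⁻¹ := by group
        _ = n * (x * (n⁻¹ * q * n)) * n⁻¹ := by rw [x.2 _ hq']
        _ = _ := by group
    refine ⟨⟨_, hC'⟩, (hker _).mpr ?_, rfl⟩
    rw [← Subgroup.orderOf_coe]
    simp only
    rw [show n * (x : G) * n⁻¹ = MulAut.conj n (x : G) from rfl, MulEquiv.orderOf_eq,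
      Subgroup.orderOf_coe]
    exact (hker x).mp hx
  · intro x hx
    obtain ⟨⟨⟨d, hd⟩, ⟨q, hq⟩⟩, hdq⟩ :=
      (MonoidHom.ker_transferSylow_isComplement' P hP).2 ⟨x, hx⟩
    refine ⟨d, ⟨d, hd, rfl⟩, ?_⟩
    have h1 : (d : G) * (q : G) = x := congrArg Subtype.val hdq
    have h2 : (q : G) * (d : G) = (d : G) * q := d.2 q (hPQ q hq)
    rw [← h1, ← h2, mul_inv_cancel_right]
    exact hPQ q hq

/-- the model of the normaliser system of a centric subgroup -/
lemma exists_model (hQS : Q ≤ S) (hfn : (groupFusionSystem (S : Subgroup G)).IsFullyNormalized Q)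
    (hcent : Cent p Q) (N : FusionSystem (normalizerIn (S : Subgroup G) Q))
    (hN : (groupFusionSystem (S : Subgroup G)).IsNormalizerSystem Q N) :
    ∃ (D : Subgroup ↥(Subgroup.normalizer (Q : Set G))) (_ : D.Normal)
      (ι : ↥(normalizerIn (S : Subgroup G) Q) →* ↥(Subgroup.normalizer (Q : Set G)) ⧸ D),
      (Nat.card D).Coprime p ∧ N.IsModel p (↥(Subgroup.normalizer (Q : Set G)) ⧸ D) ι := by
  have hQp : IsPGroup p Q := Lib.FS.isPGroup_of_le S.isPGroup' hQS
  obtain ⟨D0, hD0C, hD0p, hD0n, hD0⟩ := exists_complement hQp hcent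
  set A := Subgroup.normalizer (Q : Set G) with hA
  set T := normalizerIn (S : Subgroup G) Q with hT
  set D := D0.subgroupOf A with hD
  have hD0A : D0 ≤ A := hD0C.trans (Subgroup.centralizer_le_normalizer _)
  have hDn : D.Normal := Subgroup.normal_subgroupOf_of_le_normalizer hD0n
  have hTp : IsPGroup p T := Lib.FS.isPGroup_of_le S.isPGroup' inf_le_left
  have hTA : T ≤ A := inf_le_right
  have hQT : Q ≤ T := le_inf hQS Subgroup.le_normalizer
  have hDcard : Nat.card D = Nat.card D0 :=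
    Nat.card_congr (Subgroup.subgroupOfEquivOfLe hD0A).toEquiv
  have hone : ∀ t ∈ T, t ∈ D0 → t = 1 := by
    intro t ht htD
    obtain ⟨k, hk⟩ := hTp ⟨t, ht⟩
    refine orderOf_eq_one_iff.mp (Nat.eq_one_of_dvd_coprimes (hD0p.pow_right k) ?_
      (orderOf_dvd_of_pow_eq_one (congrArg Subtype.val hk)))
    rw [← Subgroup.orderOf_mk t htD]
    exact orderOf_dvd_natCard _
  let ι : T →* A ⧸ D := (QuotientGroup.mk' D).comp (Subgroup.inclusion hTA)
  have hιinj : Function.Injective ι := by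
    rw [injective_iff_map_eq_one]
    intro t ht
    exact Subtype.ext (hone t t.2 (Subgroup.mem_subgroupOf.mp ((QuotientGroup.eq_one_iff (Subgroup.inclusion hTA t)).mp ht)))
  have hQn : (Q.subgroupOf A).Normal := Subgroup.normal_in_normalizer
  have hQbar : (Q.subgroupOf A).map (QuotientGroup.mk' D) ≤ pCore p (A ⧸ D) := by
    refine le_sSup ⟨hQn.map _ (QuotientGroup.mk'_surjective D), ?_⟩
    exact (hQp.of_equiv (Subgroup.subgroupOfEquivOfLe Subgroup.le_normalizer).symm).map _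
  obtain ⟨R, hR⟩ := (Lib.FS.isFullyNormalized_group_iff S hQS).mp hfn
  refine ⟨D, hDn, ι, hDcard ▸ hD0p, inferInstance, ⟨hιinj, ?_⟩, ?_, ?_⟩
  · -- realisation
    intro P hP φ hφ
    rw [hN P]
    constructor
    · rintro ⟨-, -, -, ψ, ⟨hPQS, hψS, g, hg⟩, hψ, hψQ⟩
      have hgA : g ∈ A := by
        rw [hA]
        refine mem_norm_of_map_le ?_
        rintro _ ⟨q, hq, rfl⟩
        rw [← hψQ]
        exact ⟨⟨q, Subgroup.mem_sup_right hq⟩, hq, hg _⟩
      refine ⟨QuotientGroup.mk' D ⟨g, hgA⟩, fun x => ?_⟩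
      simp only [ι, MonoidHom.comp_apply]
      rw [← map_inv, ← map_mul, ← map_mul]
      refine congrArg _ (Subtype.ext ?_)
      change φ x = g * (x : G) * g⁻¹
      rw [← hψ, hg]; rfl
    · rintro ⟨gb, hgb⟩
      obtain ⟨⟨g, hgA⟩, rfl⟩ := QuotientGroup.mk'_surjective D gb
      -- two complements of `D0`
      have hPA : ∀ x : P, g * (x : G) * g⁻¹ ∈ A := fun x =>
        A.mul_mem (A.mul_mem hgA (hTA (hP x.2))) (A.inv_mem hgA)
      have hcl : ∀ x : P, ∃ d ∈ D0, g * (x : G) * g⁻¹ = φ x * d := by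
        intro x
        have h1 := hgb x
        simp only [ι, MonoidHom.comp_apply] at h1
        rw [← map_inv, ← map_mul, ← map_mul, QuotientGroup.mk'_eq_mk'] at h1
        obtain ⟨d, hd, hde⟩ := h1
        exact ⟨d, hd, (congrArg Subtype.val hde).symm⟩
      set B : Subgroup G := φ.range ⊔ D0 with hB
      have hφA : φ.range ≤ A := by rintro _ ⟨x, rfl⟩; exact hTA (hφ x)
      have hφn : φ.range ≤ Subgroup.normalizer (D0 : Set G) := hφA.trans hD0n
      let P1 : Subgroup G := P.map (MulAut.conj g).toMonoidHom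
      have hP1B : P1 ≤ B := by
        rintro _ ⟨x, hx, rfl⟩
        obtain ⟨d, hd, hde⟩ := hcl ⟨x, hx⟩
        change g * x * g⁻¹ ∈ B
        rw [hde]
        exact B.mul_mem (Subgroup.mem_sup_left ⟨_, rfl⟩) (Subgroup.mem_sup_right hd)
      have hφp : IsPGroup p φ.range := by
        refine Lib.FS.isPGroup_of_le hTp ?_
        rintro _ ⟨x, rfl⟩; exact hφ x
      have hP1p : IsPGroup p P1 := (Lib.FS.isPGroup_of_le hTp hP).map _
      have hBset : (B : Set G) = (φ.range : Set G) * (D0 : Set G) :=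
        Subgroup.coe_mul_of_left_le_normalizer_right _ _ hφn
      have hcardB : Nat.card B = Nat.card φ.range * Nat.card D0 := by
        rw [← Nat.card_prod]
        refine (Nat.card_eq_of_bijective (fun z : φ.range × D0 => (⟨(z.1 : G) * z.2,
          B.mul_mem (Subgroup.mem_sup_left z.1.2) (Subgroup.mem_sup_right z.2.2)⟩ : B))
          ⟨?_, ?_⟩).symm
        · rintro ⟨⟨a, ha⟩, ⟨d, hd⟩⟩ ⟨⟨a', ha'⟩, ⟨d', hd'⟩⟩ h
          have h1 : a * d = a' * d' := congrArg Subtype.val h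
          obtain ⟨xa, rfl⟩ := ha
          obtain ⟨xa', rfl⟩ := ha'
          have h2 : (φ xa')⁻¹ * φ xa = d' * d⁻¹ := by
            calc (φ xa')⁻¹ * φ xa = (φ xa')⁻¹ * (φ xa * d) * d⁻¹ := by group
              _ = d' * d⁻¹ := by rw [h1]; group
          have h3 := hone _ (T.mul_mem (T.inv_mem (hφ xa')) (hφ xa))
            (h2 ▸ D0.mul_mem hd' (D0.inv_mem hd))
          have h4 : φ xa' = φ xa := inv_mul_eq_one.mp h3
          rw [h4] at h1
          simp only [mul_left_cancel_iff] at h1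
          simp [h4, h1]
        · rintro ⟨y, hy⟩
          have hy' : y ∈ (φ.range : Set G) * (D0 : Set G) := hBset ▸ hy
          obtain ⟨a, ha, d, hd, rfl⟩ := hy'
          exact ⟨(⟨a, ha⟩, ⟨d, hd⟩), rfl⟩
      have hidx : ¬ p ∣ (φ.range.subgroupOf B).index := by
        have h1 := (φ.range.subgroupOf B).card_mul_index
        rw [hcardB, Nat.card_congr (Subgroup.subgroupOfEquivOfLe (le_sup_left : φ.range ≤ B)).toEquiv] at h1
        rw [Nat.eq_of_mul_eq_mul_left Nat.card_pos h1]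
        exact (Fact.out : p.Prime).coprime_iff_not_dvd.mp hD0p.symm
      let Sφ : Sylow p B :=
        (hφp.of_equiv (Subgroup.subgroupOfEquivOfLe le_sup_left).symm).toSylow hidx
      obtain ⟨S1, hS1⟩ :=
        (hP1p.of_equiv (Subgroup.subgroupOfEquivOfLe hP1B).symm).exists_le_sylow
      obtain ⟨b, hb⟩ := MulAction.exists_smul_eq B S1 Sφ
      have hbmem : ∀ x : P, (b : G) * (g * x * g⁻¹) * (b : G)⁻¹ ∈ φ.range := by
        intro x
        have h1 : (⟨g * x * g⁻¹, hP1B ⟨x, x.2, rfl⟩⟩ : B) ∈ (S1 : Subgroup B) :=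
          hS1 ⟨x, x.2, rfl⟩
        have h2 := Subgroup.smul_mem_pointwise_smul _ (MulAut.conj b) _ h1
        rw [← Sylow.pointwise_smul_def, ← Sylow.smul_def, hb] at h2
        exact h2
      have hb' : (b : G) ∈ (φ.range : Set G) * (D0 : Set G) := hBset ▸ b.2
      obtain ⟨f, hf, d, hd, hfd⟩ := hb'
      have key : ∀ x : P, φ x = (d * g) * (x : G) * (d * g)⁻¹ := by
        intro x
        have h1 : (d * g) * (x : G) * (d * g)⁻¹ ∈ φ.range := by
          have h2 := φ.range.mul_mem (φ.range.mul_mem (φ.range.inv_mem hf) (hbmem x)) hf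
          rw [← hfd] at h2
          convert h2 using 1
          group
        obtain ⟨d', hd', hde⟩ := hcl x
        have h3 : (φ x)⁻¹ * ((d * g) * (x : G) * (d * g)⁻¹) ∈ D0 := by
          rw [show (d * g) * (x : G) * (d * g)⁻¹ = d * (g * x * g⁻¹) * d⁻¹ by group, hde]
          have h4 := D0.mul_mem (D0.mul_mem
            ((Subgroup.mem_normalizer_iff.mp (hD0n (A.inv_mem (hTA (hφ x)))) d).mp hd) hd')
            (D0.inv_mem hd)
          convert h4 using 1
          group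
        obtain ⟨x', hx'⟩ := h1
        rw [← hx'] at h3 ⊢
        exact inv_mul_eq_one.mp (hone _ (T.mul_mem (T.inv_mem (hφ x)) (hφ x')) h3)
      have hdgA : d * g ∈ A := A.mul_mem (hD0A hd) hgA
      have hconjQ : ∀ q ∈ Q, (d * g) * q * (d * g)⁻¹ ∈ Q := fun q hq =>
        (Subgroup.mem_normalizer_iff.mp hdgA q).mp hq
      refine ⟨⟨hP.trans inf_le_left, fun x => (hφ x).1, d * g, key⟩, hP, hφ,
        conjHom (P ⊔ Q) (d * g), ?_, fun x => (key x).symm, ?_⟩
      · refine Lib.FS.conjHom_mem_group (sup_le (hP.trans inf_le_left) hQS) fun y hy => ?_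
        have hle : (P ⊔ Q) ≤ (S : Subgroup G).comap (MulAut.conj (d * g)).toMonoidHom := by
          refine sup_le ?_ ?_
          · intro x hx
            change (d * g) * x * (d * g)⁻¹ ∈ (S : Subgroup G)
            rw [← key ⟨x, hx⟩]
            exact (hφ _).1
          · intro q hq
            exact hQS (hconjQ q hq)
        exact hle hy
      · ext y
        constructor
        · rintro ⟨⟨q, _⟩, hq, rfl⟩
          exact hconjQ q hq
        · intro hy
          have h2 : (d * g)⁻¹ * y * (d * g) ∈ Q := by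
            simpa using (Subgroup.mem_normalizer_iff.mp (A.inv_mem hdgA) y).mp hy
          exact ⟨⟨_, Subgroup.mem_sup_right h2⟩, h2, by
            show (d * g) * ((d * g)⁻¹ * y * (d * g)) * (d * g)⁻¹ = y
            group⟩
  · refine ⟨R.mapSurjective (QuotientGroup.mk'_surjective D), ?_⟩
    rw [Sylow.coe_mapSurjective, hR, MonoidHom.range_comp, Subgroup.inclusion_range]
  · intro xb hxb
    obtain ⟨x, rfl⟩ := QuotientGroup.mk'_surjective D xb
    have hxC : (x : G) ∈ Subgroup.centralizer (Q : Set G) := by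
      intro q hq
      have hqA : q ∈ A := Subgroup.le_normalizer hq
      have h1 := hxb _ (hQbar ⟨⟨q, hqA⟩, hq, rfl⟩)
      rw [← map_mul, ← map_mul, QuotientGroup.mk'_eq_mk'] at h1
      obtain ⟨d, hd, hde⟩ := h1
      have h2 := congrArg Subtype.val hde
      simp only [Subgroup.coe_mul] at h2
      have h3 : ((x : G)⁻¹ * q * x)⁻¹ * q ∈ T := by
        refine T.mul_mem (T.inv_mem (hQT ?_)) (hQT hq)
        simpa using (Subgroup.mem_normalizer_iff.mp (A.inv_mem x.2) q).mp hq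
      have h5 : (((x : G)⁻¹ * q * x)⁻¹ * q : G) = d := by
        calc _ = (x : G)⁻¹ * q⁻¹ * ((x : G) * q) := by group
          _ = (x : G)⁻¹ * q⁻¹ * (q * x * d) := by rw [h2]
          _ = d := by group
      have h6 := hone _ h3 (by rw [h5]; exact hd)
      calc q * (x : G) = x * (((x : G)⁻¹ * q * x)) := by group
        _ = x * q := by rw [inv_mul_eq_one.mp h6]
    obtain ⟨d, hd, hxd⟩ := hD0 x hxC
    have h1 : QuotientGroup.mk' D x = QuotientGroup.mk' D ⟨_, Subgroup.le_normalizer hxd⟩ := by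
      rw [QuotientGroup.mk'_eq_mk']
      refine ⟨⟨d⁻¹, A.inv_mem (hD0A hd)⟩, D0.inv_mem hd, ?_⟩
      exact Subtype.ext rfl
    rw [h1]
    exact hQbar ⟨_, hxd, rfl⟩

lemma cent_of_centric (hfn : (groupFusionSystem (S : Subgroup G)).IsFullyNormalized Q)
    (hc : (groupFusionSystem (S : Subgroup G)).IsCentric Q) : Cent p Q := by
  have hQS := hfn.1
  obtain ⟨R, hR⟩ := Lib.FS.sylow_centralizer_of_normalizer S
    ((Lib.FS.isFullyNormalized_group_iff S hQS).mp hfn)
  have hle : centralizerIn (S : Subgroup G) Q ≤ Q :=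
    hc.2 Q (Lib.FS.group_isConj_iff.2 ⟨hQS, hQS, 1, by ext x; simp⟩)
  rintro x hx ⟨k, hk⟩
  have hX : IsPGroup p (Subgroup.zpowers (⟨x, hx⟩ : Subgroup.centralizer (Q : Set G))) := by
    rintro ⟨_, i, rfl⟩
    refine ⟨k, Subtype.ext (Subtype.ext ?_)⟩
    simp only [SubgroupClass.coe_pow, SubgroupClass.coe_zpow, OneMemClass.coe_one]
    rw [← zpow_natCast, ← zpow_mul, mul_comm, zpow_mul, zpow_natCast, hk, one_zpow]
  obtain ⟨T, hT⟩ := hX.exists_le_sylow
  obtain ⟨c, hc'⟩ := MulAction.exists_smul_eq (Subgroup.centralizer (Q : Set G)) T R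
  have h1 := Subgroup.smul_mem_pointwise_smul _ (MulAut.conj c) _
    (hT (Subgroup.mem_zpowers _))
  rw [← Sylow.pointwise_smul_def, ← Sylow.smul_def, hc'] at h1
  change c * ⟨x, hx⟩ * c⁻¹ ∈ (R : Subgroup _) at h1
  rw [hR] at h1
  have h2 : (c : G) * x * (c : G)⁻¹ ∈ Q := hle h1
  have h3 := c.2 _ h2
  have h4 : x = (c : G) * x * (c : G)⁻¹ := by
    calc x = (c : G)⁻¹ * ((c : G) * x * (c : G)⁻¹ * c) := by group
      _ = _ := by rw [h3, inv_mul_cancel_left]
  rw [h4]; exact h2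

lemma cent_map (g : G) (hc : Cent p Q) : Cent p (Q.map (MulAut.conj g).toMonoidHom) := by
  rintro x hx ⟨k, hk⟩
  refine ⟨g⁻¹ * x * g, hc _ ?_ ⟨k, ?_⟩, ?_⟩
  · intro q hq
    have := hx (g * q * g⁻¹) ⟨q, hq, rfl⟩
    calc q * (g⁻¹ * x * g) = g⁻¹ * ((g * q * g⁻¹) * x) * g := by group
      _ = g⁻¹ * (x * (g * q * g⁻¹)) * g := by rw [this]
      _ = _ := by group
  · rw [show g⁻¹ * x * g = g⁻¹ * x * g⁻¹⁻¹ by group, conj_pow, hk]; group
  · simp [MulAut.conj_apply, mul_assoc]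

end model

/-- For p odd and P ∈ Syl_p(G): F_P(G) is Qd(p)-free (no local model involves Qd(p)) iff G does not involve Qd(p). -/
theorem result {G : Type u} [Group G] [Finite G] {p : ℕ} [Fact p.Prime] (hp : p ≠ 2) (P : Sylow p G) : (Cfsg.groupFusionSystem (P : Subgroup G)).IsSectionFree p ↥(Cfsg.qd p) ↔ ¬ Cfsg.Involves ↥(Cfsg.qd p) G := by
  constructor
  · intro hfree hinv
    obtain ⟨Q0, hQ0, hc0, hi0⟩ := exists_local hp hinv
    obtain ⟨U, hU⟩ := hQ0.exists_le_sylow
    obtain ⟨g1, hg1⟩ := MulAction.exists_smul_eq G U P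
    have hQ1 : Q0.map (MulAut.conj g1).toMonoidHom ≤ P := by
      rw [← hg1, Sylow.coe_subgroup_smul]
      rintro _ ⟨x, hx, rfl⟩
      exact Subgroup.smul_mem_pointwise_smul x (MulAut.conj g1) _ (hU hx)
    obtain ⟨g2, hg2, hR⟩ := Lib.FS.exists_conj_sylow_normalizer P hQ1
    set Q := (Q0.map (MulAut.conj g1).toMonoidHom).map (MulAut.conj g2).toMonoidHom with hQ
    have hcent : Cent p Q := cent_map g2 (cent_map g1 hc0)
    have hfn := Lib.FS.isFullyNormalized_of_sylow P hg2 hR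
    have hcen : (groupFusionSystem (P : Subgroup G)).IsCentric Q := by
      refine ⟨hg2, fun Q' hQ' x hx => ?_⟩
      obtain ⟨-, -, g3, rfl⟩ := Lib.FS.group_isConj_iff.1 hQ'
      obtain ⟨k, hk⟩ := P.isPGroup' ⟨x, hx.1⟩
      exact cent_map g3 hcent x hx.2 ⟨k, congrArg Subtype.val hk⟩
    obtain ⟨N, hN⟩ := Lib.FS.exists_normalizerSystem (groupFusionSystem (P : Subgroup G)) hg2
    obtain ⟨D, hD, ι, hDp, hM⟩ := exists_model P hg2 hfn hcent N hN
    refine hfree Q hfn hcen N hN _ ι hM ?_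
    have hi : Cfsg.Involves ↥(Cfsg.qd p) ↥(Subgroup.normalizer (Q : Set G)) := by
      have hle : ∀ x ∈ Subgroup.normalizer (Q0 : Set G),
          MulAut.conj (g2 * g1) x ∈ Subgroup.normalizer (Q : Set G) := by
        intro x hx
        have h1 := Lib.FS.conj_mem_normalizer_map (g := g2)
          (Lib.FS.conj_mem_normalizer_map (g := g1) hx)
        rw [map_mul]
        exact h1
      refine involves_of_injective (((MulAut.conj (g2 * g1)).toMonoidHom.comp
        (Subgroup.normalizer (Q0 : Set G)).subtype).codRestrict _ fun x => hle x x.2) ?_ hi0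
      intro a b hab
      exact Subtype.ext ((MulAut.conj (g2 * g1)).injective (congrArg Subtype.val hab))
    obtain ⟨K, φ, hφ⟩ := exists_hom_of_involves hi
    have hker : D.subgroupOf K ≤ φ.ker := by
      have hn : ((D.subgroupOf K).map φ).Normal :=
        (inferInstance : (D.subgroupOf K).Normal).map φ hφ
      have h1 := eq_bot_of_coprime hp ((D.subgroupOf K).map φ) (hDp.coprime_dvd_left
        ((Subgroup.card_map_dvd _ φ).trans
          (by
            rw [← Subgroup.inf_subgroupOf_right, Nat.card_congr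
              (Subgroup.subgroupOfEquivOfLe inf_le_right).toEquiv]
            exact Subgroup.card_dvd_of_le inf_le_left)))
      exact (Subgroup.map_eq_bot_iff _).mp h1
    let f : K →* (↥(Subgroup.normalizer (Q : Set G)) ⧸ D) :=
      (QuotientGroup.mk' D).comp K.subtype
    have hf : f.rangeRestrict.ker ≤ φ.ker := fun x hx => by
      refine hker ?_
      rw [MonoidHom.ker_rangeRestrict, MonoidHom.mem_ker] at hx
      exact Subgroup.mem_subgroupOf.mpr ((QuotientGroup.eq_one_iff _).mp hx)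
    refine involves_of_hom f.range (f.rangeRestrict.liftOfSurjective f.rangeRestrict_surjective
      ⟨φ, hf⟩) fun q => ?_
    obtain ⟨k, rfl⟩ := hφ q
    exact ⟨f.rangeRestrict k, MonoidHom.liftOfRightInverse_comp_apply _ _ _ _ _⟩
  · intro hinv Q hfn hcen N hN L _ ι hM hL
    obtain ⟨D, hD, ι₂, hDp, hM₂⟩ := exists_model P hfn.1 hfn (cent_of_centric P hfn hcen) N hN
    have : Finite L := hM.1
    obtain ⟨θ, hθ, -⟩ := Lib.FS.exists_model_hom
      (Lib.FS.isPGroup_of_le P.isPGroup' inf_le_left) hM hM₂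
    exact hinv (involves_of_injective _ (Subgroup.subtype_injective _)
      (involves_of_surjective _ (QuotientGroup.mk'_surjective D) (involves_of_injective θ hθ hL)))

end Cfsg.Agent.S5206
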