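import Cfsg.Statements.S5311
import Cfsg.Agent.Lib.FusionEssential.TransportComponents

set_option autoImplicit false
open Cfsg

namespace Cfsg.Agent.S5311

open Cfsg.Agent.Lib.FusionEssential.Transport in
theorem iso_of_aut {Ω : Type*} [Group Ω] {S : Subgroup Ω} {F : Cfsg.FusionSystem S} (α : ↥S ≃* ↥S)
    (hα : F.IsMorphism F (S.subtype.comp α.toMonoidHom))
    (hα' : F.IsMorphism F (S.subtype.comp α.symm.toMonoidHom)) :
    Iso (S.subtype.comp α.toMonoidHom) F F := by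
  refine ⟨S.subtype_injective.comp α.injective, hα, ?_, fun P' hP' φ' hφ' => ?_⟩
  · rw [MonoidHom.range_comp, MonoidHom.range_eq_top.2 α.surjective, ← MonoidHom.range_eq_map,
      Subgroup.range_subtype]
  have e : Cfsg.FusionSystem.preimageAlong (S.subtype.comp α.toMonoidHom) P' =
      Cfsg.FusionSystem.imageAlong (S.subtype.comp α.symm.toMonoidHom) P' := by
    ext x
    rw [Cfsg.Agent.Lib.FS.mem_preimageAlong]
    constructor
    · rintro ⟨hx, hm⟩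
      exact ⟨α ⟨x, hx⟩, hm, by simp⟩
    · rintro ⟨y, hy, rfl⟩
      refine ⟨(α.symm y).2, ?_⟩
      show ((α (α.symm y) : S) : Ω) ∈ P'
      rw [MulEquiv.apply_symm_apply]; exact hy
  obtain ⟨φ, hφ, he⟩ := push hα' hφ' e
  refine ⟨φ, hφ, Cfsg.Agent.Lib.FS.inducedAlong_preimage hφ fun s hs => ?_⟩
  have hsx : ((α.symm ⟨((α s : S) : Ω), (α s).2⟩ : S) : Ω) = s := by simp
  have hm : ((α.symm ⟨((α s : S) : Ω), (α s).2⟩ : S) : Ω) ∈
      Cfsg.FusionSystem.preimageAlong (S.subtype.comp α.toMonoidHom) P' := by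
    rw [hsx]; exact Cfsg.Agent.Lib.FS.mem_preimageAlong.2 ⟨s.2, hs⟩
  have h1 := he ⟨_, hs⟩ hm
  have h2 : α.symm ⟨φ' ⟨_, hs⟩, Cfsg.Agent.Lib.FS.apply_mem hφ' _⟩ =
      ⟨φ ⟨s, Cfsg.Agent.Lib.FS.mem_preimageAlong.2 ⟨s.2, hs⟩⟩, Cfsg.Agent.Lib.FS.apply_mem hφ _⟩ :=
    Subtype.ext (h1.symm.trans (congrArg φ (Subtype.ext hsx)))
  exact congrArg Subtype.val ((MulEquiv.symm_apply_eq α).1 h2)

/-- The layer of a saturated fusion system F over a finite p-group S is characteristic in F: for every automorphism α of S that is an automorphism of F (α and its inverse are morphisms from F to F) and every layer E of F over T, α carries T onto T and, for every map φ of E with source P, the map induced by α on α(P) (that is, α ∘ φ ∘ α⁻¹) is a map of E. -/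
theorem result {Ω : Type*} [Group Ω] {S : Subgroup Ω} [Finite S] (p : ℕ) [Fact p.Prime] (hS : IsPGroup p S) (F : Cfsg.FusionSystem S) (hF : F.IsSaturated p)
    (α : ↥S ≃* ↥S) (hα : F.IsMorphism F (S.subtype.comp α.toMonoidHom))
    (hα' : F.IsMorphism F (S.subtype.comp α.symm.toMonoidHom))
    {T : Subgroup Ω} (E : Cfsg.FusionSystem T) (hE : E.IsLayerOf F p) :
    Cfsg.FusionSystem.imageAlong (S.subtype.comp α.toMonoidHom) T = T ∧
      ∀ (P : Subgroup Ω) (φ : ↥P →* Ω), φ ∈ E.Hom P →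
        ∀ φ' : ↥(Cfsg.FusionSystem.imageAlong (S.subtype.comp α.toMonoidHom) P) →* Ω,
          Cfsg.FusionSystem.InducedAlong (S.subtype.comp α.toMonoidHom) φ φ' →
            φ' ∈ E.Hom (Cfsg.FusionSystem.imageAlong (S.subtype.comp α.toMonoidHom) P) := by
  obtain ⟨hEn, hEc, hEmin⟩ := hE
  have hI := iso_of_aut α hα hα'
  have hJ := iso_of_aut α.symm hα' (by simpa using hα)
  obtain ⟨hT, T'', E'', hIE, hEn''⟩ := hJ.exists_normal hS hEn
  have hinv : ∀ x : S, ((α.symm (α x) : S) : Ω) = x := fun x => by simp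
  have hinv' : ∀ x : S, ((α (α.symm x) : S) : Ω) = x := fun x => by simp
  have hsub : E.IsSubsystemOf E'' := by
    refine hEmin _ _ hEn'' fun U C hC => ?_
    obtain ⟨hU, U₁, C₁, hIC, hC₁⟩ := hI.exists_component hS hC
    intro P φ hφ
    obtain ⟨φ₁, hφ₁, he₁⟩ := Cfsg.Agent.Lib.FusionEssential.Transport.push hIC.2.1 hφ rfl
    have hPU := Cfsg.Agent.Lib.FS.src_le hφ
    have hφ₁E := hEc _ _ hC₁ _ hφ₁
    have e : P = Cfsg.FusionSystem.imageAlong ((S.subtype.comp α.symm.toMonoidHom).comp (Subgroup.inclusion hT))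
        (Cfsg.FusionSystem.imageAlong ((S.subtype.comp α.toMonoidHom).comp (Subgroup.inclusion hU)) P) := by
      refine le_antisymm (fun x hx => ?_) ?_
      · have hm : ((α ⟨x, hU (hPU hx)⟩ : S) : Ω) ∈
            Cfsg.FusionSystem.imageAlong ((S.subtype.comp α.toMonoidHom).comp (Subgroup.inclusion hU)) P :=
          ⟨⟨x, hPU hx⟩, hx, rfl⟩
        exact ⟨⟨_, Cfsg.Agent.Lib.FS.src_le hφ₁E hm⟩, hm, hinv ⟨x, hU (hPU hx)⟩⟩
      · rintro _ ⟨⟨_, hy⟩, ⟨u, hu, rfl⟩, rfl⟩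
        show ((α.symm (α (Subgroup.inclusion hU u)) : S) : Ω) ∈ P
        rw [hinv]; exact hu
    obtain ⟨φ₂, hφ₂, he₂⟩ := Cfsg.Agent.Lib.FusionEssential.Transport.push hIE.2.1 hφ₁E e
    refine Cfsg.Agent.Lib.FS.hom_congr hφ₂ fun x => ?_
    have hm : ((α ⟨x, hU (hPU x.2)⟩ : S) : Ω) ∈
        Cfsg.FusionSystem.imageAlong ((S.subtype.comp α.toMonoidHom).comp (Subgroup.inclusion hU)) P :=
      ⟨⟨x, hPU x.2⟩, x.2, rfl⟩
    have hx2 : ((α.symm (α ⟨x, hU (hPU x.2)⟩) : S) : Ω) ∈ P := by rw [hinv]; exact x.2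
    refine Eq.trans ?_ ((he₂ ⟨_, hm⟩ hx2).symm.trans (congrArg φ₂ (Subtype.ext (hinv _))))
    show φ x = ((α.symm ⟨φ₁ ⟨_, hm⟩, _⟩ : S) : Ω)
    have h1 : (⟨φ₁ ⟨_, hm⟩, hT (Cfsg.Agent.Lib.FS.apply_mem hφ₁E _)⟩ : S) =
        α ⟨φ x, hU (Cfsg.Agent.Lib.FS.apply_mem hφ x)⟩ := Subtype.ext (he₁ x hm)
    rw [h1, MulEquiv.symm_apply_apply]
  haveI : Finite T := Cfsg.Agent.Lib.FS.finite_sub hT
  haveI := hIE.finite
  have hTT : T'' = T := by
    have hle : T ≤ T'' := Cfsg.Agent.Lib.FS.src_le (hsub T (Cfsg.Agent.Lib.FS.subtype_mem E le_rfl))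
    have hc : Nat.card T'' = Nat.card T :=
      (Nat.card_congr ((MulEquiv.subgroupCongr hIE.range_eq).symm.trans
        (MonoidHom.ofInjective hIE.1).symm).toEquiv)
    exact (Subgroup.eq_of_le_of_card_ge hle hc.le).symm
  subst hTT
  have himgT : Cfsg.FusionSystem.imageAlong (S.subtype.comp α.toMonoidHom) T'' = T'' := by
    refine le_antisymm ?_ fun y hy => ?_
    · rintro _ ⟨s, hs, rfl⟩
      obtain ⟨z, hz⟩ := hIE.range_eq.ge hs
      have hz' : α.symm (Subgroup.inclusion hT z) = s := Subtype.ext hz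
      show ((α s : S) : Ω) ∈ T''
      rw [← hz', hinv']
      exact z.2
    · exact ⟨α.symm ⟨y, hT hy⟩, hIE.mem_base ⟨y, hy⟩, hinv' ⟨y, hT hy⟩⟩
  refine ⟨himgT, fun P φ hφ φ' hind => ?_⟩
  have hPT := Cfsg.Agent.Lib.FS.src_le hφ
  have e : Cfsg.FusionSystem.imageAlong (S.subtype.comp α.toMonoidHom) P =
      Cfsg.FusionSystem.preimageAlong ((S.subtype.comp α.symm.toMonoidHom).comp (Subgroup.inclusion hT)) P := by
    ext y
    rw [Cfsg.Agent.Lib.FS.mem_preimageAlong]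
    constructor
    · rintro ⟨s, hs, rfl⟩
      refine ⟨himgT.le ⟨s, hPT hs, rfl⟩, ?_⟩
      show ((α.symm (α s) : S) : Ω) ∈ P
      rw [hinv]; exact hs
    · rintro ⟨hy, hm⟩
      exact ⟨α.symm ⟨y, hT hy⟩, hm, hinv' ⟨y, hT hy⟩⟩
  obtain ⟨ψ, hψ, he⟩ := Cfsg.Agent.Lib.FusionEssential.Transport.pull hIE.2 (hsub P hφ) e
  refine Cfsg.Agent.Lib.FS.hom_congr hψ fun y => ?_
  obtain ⟨y, hy⟩ := y
  obtain ⟨s, hs, rfl⟩ := hy
  have hm : ((α.symm (α s) : S) : Ω) ∈ P := by rw [hinv]; exact hs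
  have h1 := he ⟨_, ⟨s, hs, rfl⟩⟩ hm
  obtain ⟨hP, hv, hP', hev⟩ := hind
  have h2 := hev ⟨s, hs⟩
  refine h2.trans ?_
  have h3 : α.symm ⟨ψ ⟨_, hP' ⟨s, hs⟩⟩, hT (Cfsg.Agent.Lib.FS.apply_mem hψ _)⟩ = ⟨φ ⟨s, hs⟩, hv _⟩ := by
    refine Subtype.ext ?_
    refine h1.symm.trans (congrArg φ (Subtype.ext ?_))
    exact hinv s
  exact congrArg Subtype.val ((MulEquiv.symm_apply_eq α).1 h3).symm

end Cfsg.Agent.S5311
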