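import Cfsg.Statements.S5188
import Cfsg.Agent.Lib.FusionEssential.OrderFour
import Cfsg.Agent.Lib.FusionEssential.SeriesNotEssential

set_option autoImplicit false
universe u
open Cfsg

namespace Cfsg.Agent.S5188

open Cfsg.Agent.Lib Cfsg.Agent.Lib.FS Cfsg.Agent.Lib.FusionEssential
open Cfsg.Agent.Lib.FusionEssential.OrderFour

/-- An automorphism as an additive endomorphism. -/
def toEnd {X : Type*} [CommGroup X] (γ : MulAut X) : AddMonoid.End (Additive X) :=
  MonoidHom.toAdditive γ.toMonoidHom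

theorem toEnd_one {X : Type*} [CommGroup X] : toEnd (1 : MulAut X) = 1 := AddMonoidHom.ext fun _ => rfl

theorem toEnd_mul {X : Type*} [CommGroup X] (γ δ : MulAut X) : toEnd (γ * δ) = toEnd γ * toEnd δ :=
  AddMonoidHom.ext fun _ => rfl

/-- The additive endomorphism `γ - 1`. -/
def diff {X : Type*} [CommGroup X] (γ : MulAut X) : AddMonoid.End (Additive X) :=
  toEnd γ - 1

theorem diff_apply {X : Type*} [CommGroup X] (γ : MulAut X) (x : X) :
    diff γ (Additive.ofMul x) = Additive.ofMul (x⁻¹ * γ x) := by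
  show Additive.ofMul (γ x) - Additive.ofMul x = _
  rw [← ofMul_div, div_eq_mul_inv, mul_comm]

theorem one_add_diff_pow {X : Type*} [CommGroup X] (γ : MulAut X) (k : ℕ) :
    (1 + diff γ) ^ k = toEnd (γ ^ k) := by
  induction k with
  | zero => rw [pow_zero, pow_zero, toEnd_one]
  | succ k ih =>
    rw [pow_succ, ih, diff, add_sub_cancel, pow_succ γ, toEnd_mul]

theorem one_add_pow_four {R : Type*} [Ring R] (n : R) (h : n ^ 4 = 0) (m : ℕ) :
    (1 + n) ^ m = 1 + (m : R) * n + (m.choose 2 : R) * n ^ 2 + (m.choose 3 : R) * n ^ 3 := by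
  induction m with
  | zero => simp
  | succ m ih =>
    rw [pow_succ, ih, Nat.choose_succ_succ m 1, Nat.choose_succ_succ m 2, Nat.choose_one_right]
    push_cast
    simp only [mul_add, add_mul, mul_one, one_mul, mul_assoc, ← pow_succ, ← sq]
    rw [h, mul_zero]
    abel

/-- A nilpotent endomorphism of a group of order `p⁴` has trivial fourth power. -/
theorem pow_four_eq_zero {p : ℕ} [hp : Fact p.Prime] {X : Type*} [CommGroup X] [Finite X]
    (hc : Nat.card X = p ^ 4) (n : AddMonoid.End (Additive X)) {m : ℕ} (hm : n ^ m = 0) : n ^ 4 = 0 := by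
  let R : ℕ → Subgroup X := fun i => (MonoidHom.toAdditive.symm (n ^ i)).range
  have hmem : ∀ i x, x ∈ R i ↔ ∃ y, (n ^ i) y = Additive.ofMul x := fun i x =>
    ⟨fun ⟨y, hy⟩ => ⟨Additive.ofMul y, hy⟩, fun ⟨y, hy⟩ => ⟨y.toMul, hy⟩⟩
  have hstep : ∀ i, R (i + 1) ≤ R i := fun i x hx => by
    obtain ⟨y, hy⟩ := (hmem _ _).1 hx
    exact (hmem _ _).2 ⟨n y, by rwa [pow_succ] at hy⟩
  have hdec : ∀ i, R i ≠ ⊥ → R (i + 1) < R i := by
    intro i hi
    refine lt_of_le_of_ne (hstep i) fun he => hi ?_
    have hall : ∀ j x, x ∈ R i → x ∈ R (i + j) := by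
      intro j
      induction j with
      | zero => exact fun x hx => hx
      | succ j ih =>
        intro x hx
        obtain ⟨y, hy⟩ := (hmem _ _).1 (ih x hx)
        obtain ⟨z, hz⟩ := (hmem _ _).1 (he.ge (show ((n ^ i) y).toMul ∈ R i from (hmem _ _).2 ⟨y, rfl⟩))
        refine (hmem _ _).2 ⟨z, ?_⟩
        rw [← hy, show i + (j + 1) = j + (i + 1) by omega, pow_add n j (i + 1), show i + j = j + i by omega,
          pow_add n j i]
        exact congrArg (n ^ j) hz
    rw [Subgroup.eq_bot_iff_forall]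
    intro x hx
    obtain ⟨y, hy⟩ := (hmem _ _).1 (hall m x hx)
    rw [pow_add, hm, mul_zero] at hy
    exact congrArg Additive.toMul hy.symm
  have key : ∀ i, R i = ⊥ ∨ p ^ i * Nat.card (R i) ≤ p ^ 4 := by
    intro i
    induction i with
    | zero => exact Or.inr (by rw [pow_zero, one_mul, ← hc]; exact Subgroup.card_le_card_group _)
    | succ i ih =>
      by_cases hi : R i = ⊥
      · exact Or.inl (le_bot_iff.1 (hi ▸ hstep i))
      refine Or.inr (le_trans ?_ (ih.resolve_left hi))
      rw [pow_succ, mul_assoc]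
      exact Nat.mul_le_mul_left _ (mul_le_of_lt (IsPGroup.of_card hc) (hdec i hi))
  have h4 : R 4 = ⊥ := (key 4).elim id fun h => Subgroup.eq_bot_of_card_le _
    (Nat.le_of_mul_le_mul_left (h.trans_eq (mul_one _).symm) (pow_pos hp.out.pos 4))
  refine AddMonoidHom.ext fun y => ?_
  have := (Subgroup.eq_bot_iff_forall _).1 h4 _ ((hmem 4 ((n ^ 4) y).toMul).2 ⟨y, rfl⟩)
  exact congrArg Additive.ofMul this

/-- An automorphism of order `p ≥ 5` of an abelian group of order `p⁴` fixes the `p`-th powers. -/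
theorem fix_pow {p : ℕ} [hp : Fact p.Prime] (h5 : 5 ≤ p) {X : Type*} [CommGroup X] [Finite X]
    (hc : Nat.card X = p ^ 4) (h2 : ∀ x : X, x ^ p ^ 2 = 1) (γ : MulAut X) {k : ℕ} (hk : γ ^ p ^ k = 1) :
    (∀ x, (γ ^ p) (x ^ p) = x ^ p) ∧ (γ ^ p = 1 → ∀ x, γ (x ^ p) = x ^ p) := by
  have hpp : ((p : AddMonoid.End (Additive X))) * p = 0 := by
    refine AddMonoidHom.ext fun x => ?_
    show p • p • x = 0
    rw [← mul_nsmul, ← sq]
    exact congrArg Additive.ofMul (h2 x.toMul)
  obtain ⟨r, hr⟩ := (Commute.one_left (diff γ)).exists_add_pow_prime_pow_eq hp.out k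
  rw [one_add_diff_pow, hk, one_pow, toEnd_one] at hr
  have hn : diff γ ^ 4 = 0 := by
    refine pow_four_eq_zero hc _ (m := p ^ k * 2) ?_
    set N := diff γ ^ p ^ k with hN
    set W := diff γ * r with hW
    have h0 : N + (p : AddMonoid.End (Additive X)) * W = 0 := by
      have h' : (1 : AddMonoid.End (Additive X)) = 1 + (N + (p : AddMonoid.End (Additive X)) * W) := by
        rw [← add_assoc, hW, ← mul_assoc]
        rw [mul_one] at hr
        exact hr
      exact left_eq_add.1 h'
    have hpN : (p : AddMonoid.End (Additive X)) * N = 0 := by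
      have h1 := congrArg ((p : AddMonoid.End (Additive X)) * ·) h0
      simp only [mul_add, mul_zero] at h1
      rwa [← mul_assoc, hpp, zero_mul, add_zero] at h1
    have h2 := congrArg (· * N) h0
    simp only [add_mul, zero_mul, mul_assoc] at h2
    rw [(Nat.cast_commute p W).left_comm, hpN, mul_zero, add_zero] at h2
    rw [pow_mul, ← hN, sq]
    exact h2
  obtain ⟨a, ha⟩ : p ∣ p.choose 2 := hp.out.dvd_choose_self (by norm_num) (by omega)
  obtain ⟨b, hb⟩ : p ∣ p.choose 3 := hp.out.dvd_choose_self (by norm_num) (by omega)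
  have hexp : toEnd (γ ^ p) = 1 + (p : AddMonoid.End (Additive X)) * (diff γ +
      (a : AddMonoid.End (Additive X)) * diff γ ^ 2 + (b : AddMonoid.End (Additive X)) * diff γ ^ 3) := by
    rw [← one_add_diff_pow, one_add_pow_four _ hn, ha, hb]
    push_cast
    simp only [mul_add, mul_assoc, add_assoc]
  refine ⟨fun x => ?_, fun h1 x => ?_⟩
  · have h := congrArg (fun v : Additive X => p • v) (DFunLike.congr_fun hexp (Additive.ofMul x))
    set u := diff γ + (a : AddMonoid.End (Additive X)) * diff γ ^ 2 + (b : AddMonoid.End (Additive X)) * diff γ ^ 3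
    have h' : p • ((p : AddMonoid.End (Additive X)) * u) (Additive.ofMul x) = 0 := by
      show ((p : AddMonoid.End (Additive X)) * ((p : AddMonoid.End (Additive X)) * u)) (Additive.ofMul x) = 0
      rw [← mul_assoc, hpp, zero_mul]; rfl
    change p • toEnd (γ ^ p) (Additive.ofMul x) =
      p • (Additive.ofMul x + ((p : AddMonoid.End (Additive X)) * u) (Additive.ofMul x)) at h
    rw [smul_add, h', add_zero] at h
    rw [map_pow]
    exact congrArg Additive.toMul h
  · rw [h1] at hexp
    rw [toEnd_one] at hexp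
    have hz := left_eq_add.1 hexp
    set n := diff γ
    have h0 : ∀ j, 4 ≤ j → n ^ j = 0 := fun j hj => pow_eq_zero_of_le hj hn
    have e3 : (p : AddMonoid.End (Additive X)) * n ^ 3 = 0 := by
      have := congrArg (· * n ^ 2) hz
      simpa only [zero_mul, add_mul, mul_add, mul_assoc, ← pow_succ', ← pow_add, Nat.reduceAdd,
        h0 4 le_rfl, h0 5 (by norm_num), mul_zero, add_zero] using this
    have e2 : (p : AddMonoid.End (Additive X)) * n ^ 2 = 0 := by
      have := congrArg (· * n) hz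
      simp only [zero_mul, add_mul, mul_add, mul_assoc, ← sq, ← pow_succ, Nat.reduceAdd,
        h0 4 le_rfl, mul_zero, add_zero] at this
      rwa [(Nat.cast_commute p (a : AddMonoid.End (Additive X))).left_comm, e3, mul_zero, add_zero] at this
    simp only [mul_add] at hz
    rw [(Nat.cast_commute p (a : AddMonoid.End (Additive X))).left_comm, e2, mul_zero, add_zero,
      (Nat.cast_commute p (b : AddMonoid.End (Additive X))).left_comm, e3, mul_zero, add_zero] at hz
    have h := congrArg (fun f : AddMonoid.End (Additive X) => f (Additive.ofMul x)) hz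
    change p • diff γ (Additive.ofMul x) = 0 at h
    rw [diff_apply, ← ofMul_pow, mul_pow, inv_pow] at h
    rw [map_pow]
    exact (inv_mul_eq_one.1 (congrArg Additive.toMul h)).symm

/-- An essential subgroup isomorphic to `ℤ/p² × ℤ/p²` forces `p ≤ 3`. -/
theorem square_small {Ω : Type*} [Group Ω] {S : Subgroup Ω} [Finite S] {p : ℕ} [hp : Fact p.Prime]
    (hS : IsPGroup p S) {F : FusionSystem S} (hF : F.IsSaturated p) {H : Subgroup Ω} (hess : F.IsEssential p H)
    (hab : ∀ x y : H, x * y = y * x) (hc : Nat.card H = p ^ 4)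
    (hsq : ∀ x : H, x ^ p = 1 ↔ ∃ y, y ^ p = x) : p = 2 ∨ p = 3 := by
  by_contra hne
  push Not at hne
  have h5 : 5 ≤ p := by
    have := hp.out.two_le
    have h4 : p ≠ 4 := by rintro rfl; exact absurd hp.out (by norm_num)
    omega
  have hHS : H ≤ S := hess.2.1.1
  haveI := finite_sub hHS
  letI : CommGroup H := { (inferInstance : Group H) with mul_comm := hab }
  haveI : Finite (MulAut H) := Finite.of_injective (fun f => (f : H → H)) DFunLike.coe_injective
  have h2 : ∀ x : H, x ^ p ^ 2 = 1 := fun x => by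
    rw [sq, pow_mul]; exact (hsq _).2 ⟨x, rfl⟩
  let K : Subgroup (MulAut H) :=
    { carrier := {γ | γ ∈ F.autGroup H ∧ ∀ x : H, γ (x ^ p) = x ^ p}
      one_mem' := ⟨one_mem _, fun _ => rfl⟩
      mul_mem' := by
        rintro u v ⟨hu, hu'⟩ ⟨hv, hv'⟩
        exact ⟨mul_mem hu hv, fun x => by rw [MulAut.mul_apply, hv', hu']⟩
      inv_mem' := by
        rintro u ⟨hu, hu'⟩
        exact ⟨inv_mem hu, fun x => by rw [MulAut.inv_apply, MulEquiv.symm_apply_eq, hu']⟩ }
  have hKp : IsPGroup p K := by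
    refine PClosed.isPGroup_of_coprime_trivial K fun a ha hco => MulEquiv.ext fun x => ?_
    refine PGroups.eq_of_fixed_diff (isPGroup_of_le hS hHS) a hco x ?_
    obtain ⟨y, hy⟩ := (hsq (x⁻¹ * a x)).1 (by rw [mul_pow, inv_pow, ← map_pow, ha.2, inv_mul_cancel])
    rw [← hy]; exact ha.2 y
  have hinn : Inn H = ⊥ := by
    refine le_bot_iff.1 ?_
    rintro _ ⟨w, rfl⟩
    exact Subgroup.mem_bot.2 (MulEquiv.ext fun y => by
      show w * y * w⁻¹ = y
      rw [hab w y, mul_inv_cancel_right])
  have hKbot : ∀ γ ∈ K, γ = 1 := by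
    intro γ hγ
    have hle : K.subgroupOf (F.autGroup H) ≤ pCore p (F.autGroup H) := by
      refine le_sSup ⟨⟨fun a ha g => ?_⟩, hKp.of_equiv (Subgroup.subgroupOfEquivOfLe (show K ≤ F.autGroup H from fun _ h => h.1)).symm⟩
      refine Subgroup.mem_subgroupOf.2 ⟨(g * a * g⁻¹).2, fun x => ?_⟩
      show (g : MulAut H) ((a : MulAut H) ((g : MulAut H)⁻¹ (x ^ p))) = x ^ p
      rw [map_pow, (Subgroup.mem_subgroupOf.1 ha).2, ← map_pow, MulAut.apply_inv_self]
    have h := (radical_of_essential hS hF hess).2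
    rw [hinn] at h
    exact Subgroup.mem_bot.1 (h.le ⟨⟨γ, hγ.1⟩, hle (Subgroup.mem_subgroupOf.2 hγ), rfl⟩)
  obtain ⟨M, -, -, -, hneS⟩ := FusionEssential.exists_data hS hF hess
  obtain ⟨g, hg, hgH⟩ := SetLike.exists_of_lt
    (FusionP3.Induction.lt_normalizerIn hS (lt_of_le_of_ne hHS hneS))
  refine not_inn_of_not_mem (hess.1.2 H (isConj_refl F hHS)) hHS hg hgH ?_
  set γ := H.normalizerMonoidHom ⟨g, hg.2⟩
  have hγS : γ ∈ autInducedBy S H := mem_autInducedBy.2 ⟨g, hg.1, fun _ => rfl⟩
  have hγF := autInducedBy_le_autGroup F hHS hγS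
  obtain ⟨k, hk⟩ := isPGroup_autInducedBy hS H ⟨γ, hγS⟩
  obtain ⟨hA, hB⟩ := fix_pow h5 hc h2 γ (congrArg Subtype.val hk)
  have hγp : γ ^ p = 1 := hKbot _ ⟨pow_mem hγF p, hA⟩
  rw [hKbot γ ⟨hγF, hB hγp⟩]
  exact one_mem _

/-- A chain of characteristic subgroups is impossible in an essential subgroup. -/
theorem no_chain {Ω : Type*} [Group Ω] {S : Subgroup Ω} [Finite S] {p : ℕ} [hp : Fact p.Prime]
    (hS : IsPGroup p S) {F : FusionSystem S} (hF : F.IsSaturated p) {H : Subgroup Ω} (hess : F.IsEssential p H)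
    (hc : Nat.card H = p ^ 4) : ¬ CharChain p H := by
  rintro ⟨A, B, C, hAB, hBC, hA, hB, hC, hAi, hBi, hCi⟩
  refine SeriesNotEssential.not_essential_of_series hS hF hess 4
    (fun i => if i = 0 then ⊤ else if i = 1 then C else if i = 2 then B else if i = 3 then A else ⊥)
    rfl rfl ?_ ?_ ?_ ?_
  · intro i hi
    interval_cases i
    · exact le_top
    · exact hBC
    · exact hAB
    · exact bot_le
  · intro i hi
    interval_cases i
    · exact inferInstanceAs (⊤ : Subgroup H).Normal
    · exact hCi.normal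
    · exact hBi.normal
    · exact hAi.normal
    · exact inferInstanceAs (⊥ : Subgroup H).Normal
  · intro i hi
    interval_cases i
    · show Nat.card (⊤ : Subgroup H) = p * Nat.card C
      rw [Subgroup.card_top, hc, hC]; ring
    · show Nat.card C = p * Nat.card B
      rw [hC, hB]; ring
    · show Nat.card B = p * Nat.card A
      rw [hB, hA]; ring
    · show Nat.card A = p * Nat.card (⊥ : Subgroup H)
      rw [hA, Subgroup.card_bot, mul_one]
  · intro γ _ i hi x hx
    interval_cases i
    · trivial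
    · exact hCi γ x hx
    · exact hBi γ x hx
    · exact hAi γ x hx
    · rw [show x = 1 from Subgroup.mem_bot.1 hx, map_one]; exact one_mem _

/-- Let F be a saturated fusion system over a finite p-group S and H an essential subgroup of order p⁴. Then H is isomorphic to one of: C_p⁴ or C_{p²} × C_p × C_p (any p); C_{p²} × C_{p²} with p ∈ {2, 3}; p^{1+2}_+ × C_p with p odd (the direct product of an extraspecial group of order p³ and exponent p with a group of order p); Q₈ × C₂ (p = 2); or the non-abelian group of order p⁴ of exponent p² whose centre is cyclic of order p² (the central product of an extraspecial group of order p³ with a cyclic group of order p²; for p = 2 this is D₈ ∘ C₄). -/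
theorem result {Ω : Type u} [Group Ω] {S : Subgroup Ω} [Finite S] (p : ℕ) [Fact p.Prime] (hS : IsPGroup p S)
    (F : Cfsg.FusionSystem S) (hF : F.IsSaturated p) (H : Subgroup Ω) (hH : F.IsEssential p H) (hcard : Nat.card H = p ^ 4) :
    Cfsg.IsElementaryAbelian p H ∨
      Nonempty (↥H ≃* Multiplicative (ZMod (p ^ 2) × ZMod p × ZMod p)) ∨
      ((p = 2 ∨ p = 3) ∧ Nonempty (↥H ≃* Multiplicative (ZMod (p ^ 2) × ZMod (p ^ 2)))) ∨
      (Odd p ∧ ∃ (E : Type) (_ : Group E) (_ : Finite E), Cfsg.IsExtraspecial p E ∧ Nat.card E = p ^ 3 ∧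
        (∀ x : E, x ^ p = 1) ∧ Nonempty (↥H ≃* E × Multiplicative (ZMod p))) ∨
      (p = 2 ∧ Nonempty (↥H ≃* QuaternionGroup 2 × Multiplicative (ZMod 2))) ∨
      (¬ IsMulCommutative ↥H ∧ (∀ x ∈ H, x ^ (p ^ 2) = 1) ∧ IsCyclic ↥(Subgroup.center ↥H) ∧
        Nat.card (Subgroup.center ↥H) = p ^ 2) := by
  haveI := finite_sub hH.2.1.1
  have hno := no_chain hS hF hH hcard
  by_cases hab : ∀ x y : H, x * y = y * x
  · letI : CommGroup H := { (inferInstance : Group H) with mul_comm := hab }
    by_cases h2 : ∀ x : H, x ^ p ^ 2 = 1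
    · by_cases h1 : ∀ x : H, x ^ p = 1
      · exact Or.inl ⟨⟨⟨hab⟩⟩, fun a ha => congrArg Subtype.val (h1 ⟨a, ha⟩)⟩
      · push Not at h1
        rcases abelian_small hcard h2 h1 with h | ⟨h, hsq⟩
        · exact Or.inr (Or.inl h)
        · exact Or.inr (Or.inr (Or.inl ⟨square_small hS hF hH hab hcard hsq, h⟩))
    · push Not at h2
      obtain ⟨x, hx⟩ := h2
      exact absurd (abelian_large hcard hx) hno
  · push Not at hab
    rcases (nonabelian hcard hab).resolve_left hno with h | h | ⟨he, hz, hzc⟩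
    · exact Or.inr (Or.inr (Or.inr (Or.inl h)))
    · exact Or.inr (Or.inr (Or.inr (Or.inr (Or.inl h))))
    · refine Or.inr (Or.inr (Or.inr (Or.inr (Or.inr ⟨fun hm => ?_, fun x hx => ?_, hz, hzc⟩))))
      · obtain ⟨x, y, hxy⟩ := hab
        exact hxy (hm.is_comm.comm x y)
      · exact congrArg Subtype.val (he ⟨x, hx⟩)

end Cfsg.Agent.S5188
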