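import Cfsg.Statements.S5186
import Cfsg.Agent.Lib.FusionEssential.SeriesNotEssential
import Cfsg.Agent.Lib.PGroups.MaxAbelian
import Cfsg.Agent.Lib.PGroups.Frattini
import Cfsg.Agent.Lib.Spectrum.HuppertRegular

set_option autoImplicit false
universe u
open Cfsg

namespace Cfsg.Agent.S5186

open Cfsg.Agent.Lib
open scoped commutatorElement

/-- A pair of characteristic subgroups of orders `p`, `p²`. -/
def HasCharChain (p : ℕ) (H : Type*) [Group H] : Prop :=
  ∃ Z M : Subgroup H, Z.Normal ∧ M.Normal ∧ Z ≤ M ∧ Nat.card Z = p ∧ Nat.card M = p ^ 2 ∧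
    (∀ γ : MulAut H, ∀ x ∈ Z, γ x ∈ Z) ∧ ∀ γ : MulAut H, ∀ x ∈ M, γ x ∈ M

theorem card_eq_pow {H : Type*} [Group H] [Finite H] {p : ℕ} [hp : Fact p.Prime] (hc : Nat.card H = p ^ 3)
    (A : Subgroup H) (h1 : A ≠ ⊥) (h2 : A ≠ ⊤) : Nat.card A = p ∨ Nat.card A = p ^ 2 := by
  obtain ⟨k, hk, hkA⟩ := (Nat.dvd_prime_pow hp.out).1 (hc ▸ A.card_subgroup_dvd_card)
  interval_cases k
  · exact absurd (Subgroup.eq_bot_of_card_eq A (by rw [hkA, pow_zero])) h1
  · exact Or.inl (by rw [hkA, pow_one])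
  · exact Or.inr hkA
  · exact absurd (Subgroup.eq_top_of_card_eq A (by rw [hkA, hc])) h2

/-- Abelian groups of order `p³` which are not elementary. -/
theorem chain_abelian {H : Type*} [CommGroup H] [Finite H] {p : ℕ} [hp : Fact p.Prime]
    (hc : Nat.card H = p ^ 3) (hx : ∃ x : H, x ^ p ≠ 1) : HasCharChain p H := by
  let f : H →* H := powMonoidHom p
  have hinvK : ∀ γ : MulAut H, ∀ x ∈ f.ker, γ x ∈ f.ker := fun γ x hx => by
    show γ x ^ p = 1
    rw [← map_pow, show x ^ p = 1 from hx, map_one]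
  have hinvR : ∀ γ : MulAut H, ∀ x ∈ f.range, γ x ∈ f.range := by
    rintro γ _ ⟨y, rfl⟩
    exact ⟨γ y, (map_pow γ y p).symm⟩
  have hR1 : f.range ≠ ⊥ := by
    obtain ⟨x, hx⟩ := hx
    exact fun h => hx (Subgroup.mem_bot.1 (h ▸ ⟨x, rfl⟩ : f x ∈ (⊥ : Subgroup H)))
  obtain ⟨e, he⟩ := exists_prime_orderOf_dvd_card' (G := H) p (by rw [hc]; exact dvd_pow_self p three_ne_zero)
  have hK1 : f.ker ≠ ⊥ := by
    intro h
    have : e ∈ f.ker := show e ^ p = 1 by rw [← he, pow_orderOf_eq_one]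
    rw [h, Subgroup.mem_bot] at this
    rw [this, orderOf_one] at he
    exact hp.out.one_lt.ne he
  have hprod : Nat.card f.ker * Nat.card f.range = p ^ 3 := by
    rw [← Subgroup.index_ker, Subgroup.card_mul_index, hc]
  have hK2 : f.ker ≠ ⊤ := by
    obtain ⟨x, hx⟩ := hx
    exact fun h => hx (show x ∈ f.ker from h ▸ Subgroup.mem_top x)
  have meet : ∀ A : Subgroup H, A ≠ ⊥ → ∃ a ∈ A, a ≠ 1 ∧ a ^ p = 1 := by
    intro A hA
    have hA' : Nat.card A ≠ 1 := fun h => hA (Subgroup.eq_bot_of_card_eq A h)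
    obtain ⟨k, hk, hkA⟩ := (Nat.dvd_prime_pow hp.out).1 (hc ▸ A.card_subgroup_dvd_card)
    have hd : p ∣ Nat.card A := by
      rcases Nat.eq_zero_or_pos k with rfl | h0
      · exact absurd (by rw [hkA, pow_zero]) hA'
      · rw [hkA]; exact dvd_pow_self p h0.ne'
    obtain ⟨a, ha⟩ := exists_prime_orderOf_dvd_card' (G := A) p hd
    refine ⟨a, a.2, fun h => ?_, ?_⟩
    · rw [show a = 1 from Subtype.ext h, orderOf_one] at ha
      exact hp.out.one_lt.ne ha
    · rw [← SubgroupClass.coe_pow, ← ha, pow_orderOf_eq_one]; rfl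
  rcases card_eq_pow hc f.ker hK1 hK2 with hK | hK
  · have hR : Nat.card f.range = p ^ 2 :=
      Nat.eq_of_mul_eq_mul_left hp.out.pos (by rw [hK] at hprod; rw [hprod]; ring)
    obtain ⟨a, haR, ha1, hap⟩ := meet _ hR1
    refine ⟨f.ker, f.range, inferInstance, inferInstance, ?_, hK, hR, hinvK, hinvR⟩
    intro x hx
    haveI := isCyclic_of_prime_card hK
    have hgen : Subgroup.zpowers (⟨a, hap⟩ : f.ker) = ⊤ :=
      zpowers_eq_top_of_prime_card hK fun h => ha1 (congrArg Subtype.val h)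
    obtain ⟨m, hm⟩ := Subgroup.mem_zpowers_iff.1 (hgen ▸ Subgroup.mem_top (⟨x, hx⟩ : f.ker))
    rw [show x = a ^ m from (congrArg Subtype.val hm).symm]
    exact zpow_mem haR m
  · have hR : Nat.card f.range = p :=
      Nat.eq_of_mul_eq_mul_left (pow_pos hp.out.pos 2) (by rw [hK] at hprod; rw [hprod]; ring)
    obtain ⟨a, haR, ha1, hap⟩ := meet _ hR1
    refine ⟨f.range, f.ker, inferInstance, inferInstance, ?_, hR, hK, hinvR, hinvK⟩
    intro x hx
    have hgen : Subgroup.zpowers (⟨a, haR⟩ : f.range) = ⊤ :=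
      zpowers_eq_top_of_prime_card hR fun h => ha1 (congrArg Subtype.val h)
    obtain ⟨m, hm⟩ := Subgroup.mem_zpowers_iff.1 (hgen ▸ Subgroup.mem_top (⟨x, hx⟩ : f.range))
    rw [show x = a ^ m from (congrArg Subtype.val hm).symm]
    exact zpow_mem (show a ∈ f.ker from hap) m

/-- Nonabelian groups of order `p³`. -/
theorem nonabelian {H : Type*} [Group H] [Finite H] {p : ℕ} [hp : Fact p.Prime]
    (hc : Nat.card H = p ^ 3) (hnc : ∃ x y : H, x * y ≠ y * x) :
    HasCharChain p H ∨ (Odd p ∧ Cfsg.IsExtraspecial p H ∧ ∀ x : H, x ^ p = 1) ∨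
      (p = 2 ∧ Nonempty (H ≃* QuaternionGroup 2)) := by
  have hH : IsPGroup p H := IsPGroup.of_card hc
  haveI : Nontrivial H := Finite.one_lt_card_iff_nontrivial.1 (by rw [hc]; exact Nat.one_lt_pow three_ne_zero hp.out.one_lt)
  set Z := Subgroup.center H
  have hZ1 : Z ≠ ⊥ := (Subgroup.nontrivial_iff_ne_bot _).1 hH.center_nontrivial
  have hZ2 : Z ≠ ⊤ := fun h => by
    obtain ⟨x, y, hxy⟩ := hnc
    exact hxy ((Subgroup.mem_center_iff.1 (h ▸ Subgroup.mem_top x : x ∈ Z) y).symm)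
  have hcyc : ¬ IsCyclic (H ⧸ Z) := fun h => by
    obtain ⟨x, y, hxy⟩ := hnc
    exact hxy (commutative_of_cyclic_center_quotient (QuotientGroup.mk' Z) (by rw [QuotientGroup.ker_mk']) x y)
  have hZc : Nat.card Z = p := by
    rcases card_eq_pow hc Z hZ1 hZ2 with h | h
    · exact h
    · refine absurd (isCyclic_of_prime_card (p := p) ?_) hcyc
      have h1 := Z.card_eq_card_quotient_mul_card_subgroup
      rw [hc, h] at h1
      exact (Nat.eq_of_mul_eq_mul_right (pow_pos hp.out.pos 2) (by rw [← h1]; ring)).symm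
  have hquot : Nat.card (H ⧸ Z) = p ^ 2 := by
    have h1 := Z.card_eq_card_quotient_mul_card_subgroup
    rw [hc, hZc] at h1
    exact (Nat.eq_of_mul_eq_mul_right hp.out.pos (by rw [← h1]; ring)).symm
  have hpowZ : ∀ x : H, x ^ p ∈ Z := by
    intro x
    rw [← QuotientGroup.eq_one_iff, QuotientGroup.mk_pow]
    have hd := orderOf_dvd_natCard (x : H ⧸ Z)
    rw [hquot] at hd
    obtain ⟨k, hk, hkx⟩ := (Nat.dvd_prime_pow hp.out).1 hd
    interval_cases k
    · rw [orderOf_eq_one_iff.1 (hkx.trans (pow_zero p)), one_pow]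
    · rw [← pow_one p, ← hkx, pow_orderOf_eq_one]
    · exact absurd (isCyclic_of_orderOf_eq_card _ (hkx.trans hquot.symm)) hcyc
  have hqc : ∀ a b : H ⧸ Z, a * b = b * a := by
    letI : CommGroup (H ⧸ Z) := IsPGroup.commGroupOfCardEqPrimeSq hquot
    exact mul_comm
  have hcomm : ∀ x y : H, ⁅x, y⁆ ∈ Z := fun x y => by
    rw [← QuotientGroup.eq_one_iff]
    have : ((⁅x, y⁆ : H) : H ⧸ Z) = ⁅(x : H ⧸ Z), (y : H ⧸ Z)⁆ := map_commutatorElement (QuotientGroup.mk' Z) x y
    rw [this, commutatorElement_eq_one_iff_mul_comm]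
    exact hqc _ _
  have hgenZ : ∀ a ∈ Z, a ≠ 1 → Z ≤ Subgroup.zpowers a := by
    intro a ha ha1 z hz
    have hgen : Subgroup.zpowers (⟨a, ha⟩ : Z) = ⊤ :=
      zpowers_eq_top_of_prime_card hZc fun h => ha1 (congrArg Subtype.val h)
    obtain ⟨m, hm⟩ := Subgroup.mem_zpowers_iff.1 (hgen ▸ Subgroup.mem_top (⟨z, hz⟩ : Z))
    rw [show z = a ^ m from (congrArg Subtype.val hm).symm]
    exact zpow_mem (Subgroup.mem_zpowers a) m
  have hZi : ∀ γ : MulAut H, ∀ x ∈ Z, γ x ∈ Z := fun γ x hx => Subgroup.mem_center_iff.2 fun g => by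
    obtain ⟨g, rfl⟩ := γ.surjective g
    rw [← map_mul, ← map_mul, Subgroup.mem_center_iff.1 hx g]
  have hpc : ∀ x y : H, ⁅y, x⁆ ^ p = 1 := fun x y => by
    obtain ⟨k, hk, hkx⟩ := (Nat.dvd_prime_pow hp.out).1 (show orderOf (⟨⁅y, x⁆, hcomm y x⟩ : Z) ∣ p ^ 1 by
      rw [pow_one, ← hZc]; exact orderOf_dvd_natCard _)
    have h : (⟨⁅y, x⁆, hcomm y x⟩ : Z) ^ p = 1 := orderOf_dvd_iff_pow_eq_one.1 (by
      rw [hkx]; exact (pow_dvd_pow p hk).trans (by rw [pow_one]))
    exact congrArg Subtype.val h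
  rcases hp.out.eq_two_or_odd' with h2 | hodd
  · subst h2
    by_cases hu : ∀ u w : H, u * u = 1 → u ≠ 1 → w * w = 1 → w ≠ 1 → u = w
    · exact Or.inr (Or.inr ⟨rfl, Spectrum.Huppert.quaternion_of_card_eight (by rw [hc]; norm_num) hu hnc⟩)
    left
    push Not at hu
    obtain ⟨u, w, hu2, hu1, hw2, hw1, huw⟩ := hu
    have hZtwo : ∀ x ∈ Z, ∀ y ∈ Z, x ≠ 1 → y ≠ 1 → x = y := by
      intro x hx y hy hx1 hy1
      obtain ⟨v, -, huniq⟩ := (Nat.card_eq_two_iff' (1 : Z)).1 hZc
      exact congrArg Subtype.val ((huniq ⟨x, hx⟩ fun h => hx1 (congrArg Subtype.val h)).trans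
        (huniq ⟨y, hy⟩ fun h => hy1 (congrArg Subtype.val h)).symm)
    obtain ⟨t, ht2, htZ⟩ : ∃ t : H, t * t = 1 ∧ t ∉ Z := by
      by_cases huZ : u ∈ Z
      · exact ⟨w, hw2, fun hwZ => huw (hZtwo u huZ w hwZ hu1 hw1)⟩
      · exact ⟨u, hu2, huZ⟩
    obtain ⟨a, ha⟩ : ∃ a : H, a * a ≠ 1 := by
      by_contra h
      push Not at h
      obtain ⟨x, y, hxy⟩ := hnc
      apply hxy
      have := inv_eq_of_mul_eq_one_right (h (x * y))
      rw [mul_inv_rev, inv_eq_of_mul_eq_one_right (h x), inv_eq_of_mul_eq_one_right (h y)] at this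
      exact this.symm
    have hsqZ : ∀ x : H, x * x ∈ Z := fun x => by rw [← sq]; exact hpowZ x
    have hZsq : ∀ z ∈ Z, z * z = 1 := fun z hz => by
      have h := orderOf_dvd_iff_pow_eq_one.1 (hZc ▸ orderOf_dvd_natCard (⟨z, hz⟩ : Z))
      rw [← sq]; exact congrArg Subtype.val h
    have hnotZ : ∀ x : H, x * x ≠ 1 → x ∉ Z := fun x hx h => hx (hZsq x h)
    have hmulZ : ∀ x : H, ∀ z ∈ Z, (x * z) * (x * z) = x * x := fun x z hz => by
      have h := Subgroup.mem_center_iff.1 hz x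
      rw [mul_assoc, ← mul_assoc z, ← h, mul_assoc x z, hZsq z hz, mul_one]
    -- the elements squaring to `z` lie in `⟨a⟩`
    have hkey : ∀ b : H, b * b ≠ 1 → b ∈ Subgroup.zpowers a := by
      intro b hb
      by_contra hba
      have hne : (b : H ⧸ Z) ≠ (a : H ⧸ Z) := fun h => by
        have hd : a⁻¹ * b ∈ Z := QuotientGroup.eq.1 h.symm
        rcases eq_or_ne (a⁻¹ * b) 1 with h1 | h1
        · exact hba (inv_mul_eq_one.1 h1 ▸ Subgroup.mem_zpowers a)
        · apply hba
          have := hZtwo _ hd _ (hsqZ a) h1 ha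
          rw [show b = a * (a * a) by rw [← this, mul_inv_cancel_left]]
          exact mul_mem (Subgroup.mem_zpowers a) (mul_mem (Subgroup.mem_zpowers a) (Subgroup.mem_zpowers a))
      haveI : Fintype (H ⧸ Z) := Fintype.ofFinite _
      have hZ1' : ∀ x : H, x ∉ Z → (x : H ⧸ Z) ≠ 1 := fun x hx h => hx ((QuotientGroup.eq_one_iff x).1 h)
      have haN := hZ1' a (hnotZ a ha)
      have hbN := hZ1' b (hnotZ b hb)
      have hab : (a : H ⧸ Z) * b ≠ 1 := fun h => by
        apply hne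
        have e : (a : H ⧸ Z) * a = 1 := by rw [← QuotientGroup.mk_mul, QuotientGroup.eq_one_iff]; exact hsqZ a
        exact mul_left_cancel (h.trans e.symm)
      let v : Fin 4 → H ⧸ Z := ![1, (a : H ⧸ Z), (b : H ⧸ Z), (a : H ⧸ Z) * b]
      have hbij : Function.Bijective v := by
        refine (Fintype.bijective_iff_injective_and_card v).2 ⟨?_, ?_⟩
        · intro i j hij
          fin_cases i <;> fin_cases j <;>
            simp [v, haN, hbN, hab, hne, hne.symm, haN.symm, hbN.symm, hab.symm] at hij ⊢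
        · rw [Fintype.card_fin, ← Nat.card_eq_fintype_card, hquot]; norm_num
      have hcase : ∀ x : H, ∃ r z, z ∈ Z ∧ x = r * z ∧ (r = 1 ∨ r = a ∨ r = b ∨ r = a * b) := by
        intro x
        obtain ⟨i, hi⟩ := hbij.2 (x : H ⧸ Z)
        have key : ∀ r : H, (r : H ⧸ Z) = (x : H ⧸ Z) → x = r * (r⁻¹ * x) ∧ r⁻¹ * x ∈ Z := fun r h =>
          ⟨(mul_inv_cancel_left r x).symm, QuotientGroup.eq.1 h⟩
        fin_cases i
        · exact ⟨1, _, (key 1 hi).2, (key 1 hi).1, Or.inl rfl⟩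
        · exact ⟨a, _, (key a hi).2, (key a hi).1, Or.inr (Or.inl rfl)⟩
        · exact ⟨b, _, (key b hi).2, (key b hi).1, Or.inr (Or.inr (Or.inl rfl))⟩
        · exact ⟨a * b, _, (key (a * b) hi).2, (key (a * b) hi).1, Or.inr (Or.inr (Or.inr rfl))⟩
      have hnab : a * b ≠ b * a := by
        intro hcm
        obtain ⟨x, y, hxy⟩ := hnc
        apply hxy
        have hC : ∀ z ∈ Z, ∀ g : H, Commute g z := fun z hz g => Subgroup.mem_center_iff.1 hz g
        obtain ⟨r, z, hz, rfl, hr⟩ := hcase x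
        obtain ⟨r', z', hz', rfl, hr'⟩ := hcase y
        have hcab : Commute a b := hcm
        have hrr : Commute r r' := by
          rcases hr with rfl | rfl | rfl | rfl <;> rcases hr' with rfl | rfl | rfl | rfl <;>
            first
              | exact Commute.one_left _
              | exact Commute.one_right _
              | exact Commute.refl _
              | exact hcab
              | exact hcab.symm
              | exact (Commute.refl _).mul_right hcab
              | exact hcab.symm.mul_right (Commute.refl _)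
              | exact (Commute.refl _).mul_left hcab.symm
              | exact hcab.mul_left (Commute.refl _)
        exact (hrr.mul_right (hC z' hz' r)).mul_left ((hC z hz (r' * z')).symm)
      obtain ⟨r, z, hz, rfl, hr⟩ := hcase t
      rw [hmulZ r z hz] at ht2
      rcases hr with rfl | rfl | rfl | rfl
      · exact htZ (by rwa [one_mul])
      · exact ha ht2
      · exact hb ht2
      · have hc1 : ⁅b, a⁆ ∈ Z := hcomm b a
        have h2 := PGroups.mul_pow_of_central_commutator a b (Subgroup.mem_center_iff.1 hc1 a)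
          (Subgroup.mem_center_iff.1 hc1 b) 2
        rw [show (2 : ℕ).choose 2 = 1 from rfl, pow_one, sq, sq, sq, ht2, hZtwo _ (hsqZ b) _ (hsqZ a) hb ha,
          hZsq _ (hsqZ a), one_mul] at h2
        exact hnab (commutatorElement_eq_one_iff_mul_comm.1 h2.symm).symm
    have h4 : Nat.card (Subgroup.zpowers a) = 4 := by
      rw [Nat.card_zpowers]
      refine orderOf_eq_prime_pow (p := 2) (n := 1) (by rw [pow_one, sq]; exact ha) ?_
      rw [pow_succ, pow_one, pow_mul, sq, sq, hZsq _ (hsqZ a)]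
    have hMi : ∀ γ : MulAut H, ∀ x ∈ Subgroup.zpowers a, γ x ∈ Subgroup.zpowers a := by
      intro γ x hx
      obtain ⟨m, rfl⟩ := Subgroup.mem_zpowers_iff.1 hx
      rw [map_zpow]
      exact zpow_mem (hkey (γ a) fun h => ha (γ.injective (by rw [map_mul, map_one]; exact h))) m
    exact ⟨Z, Subgroup.zpowers a, inferInstance,
      ⟨fun x hx g => hMi (MulAut.conj g) x hx⟩,
      (hgenZ _ (hsqZ a) ha).trans (Subgroup.zpowers_le.2 (mul_mem (Subgroup.mem_zpowers a) (Subgroup.mem_zpowers a))),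
      hZc, by rw [h4]; norm_num, hZi, hMi⟩
  · by_cases hexp : ∀ x : H, x ^ p = 1
    · have hle : commutator H ≤ Z := by
        rw [commutator_def]
        exact Subgroup.commutator_le.2 fun x _ y _ => hcomm x y
      have heq : commutator H = Z := by
        refine le_antisymm hle ?_
        obtain ⟨x, y, hxy⟩ := hnc
        exact (hgenZ ⁅x, y⁆ (hcomm x y) fun h => hxy (commutatorElement_eq_one_iff_mul_comm.1 h)).trans
          (Subgroup.zpowers_le.2 (Subgroup.commutator_mem_commutator (Subgroup.mem_top x) (Subgroup.mem_top y)))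
      refine Or.inr (Or.inl ⟨hodd, ⟨⟨hH, ?_, heq⟩, hZc⟩, hexp⟩)
      exact le_antisymm (PGroups.frattini_le_of_pow_commutator (p := p) Z hpowZ hle)
        (heq.ge.trans (PGroups.commutator_le_frattini hH))
    left
    push Not at hexp
    obtain ⟨x₀, hx₀⟩ := hexp
    obtain ⟨d, hd⟩ := PGroups.prime_dvd_choose_two (p := p) (n := 1)
      (by rw [pow_one]; rintro rfl; exact absurd hodd (by decide)) le_rfl
    rw [pow_one] at hd
    let f : H →* H :=
      { toFun := fun x => x ^ p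
        map_one' := one_pow p
        map_mul' := fun x y => by
          rw [PGroups.mul_pow_of_central_commutator x y (Subgroup.mem_center_iff.1 (hcomm y x) x)
            (Subgroup.mem_center_iff.1 (hcomm y x) y) p, hd, pow_mul, hpc x y, one_pow, mul_one] }
    have hR : f.range ≤ Z := by rintro _ ⟨x, rfl⟩; exact hpowZ x
    have hZR : Z ≤ f.range :=
      (hgenZ (f x₀) (hpowZ x₀) hx₀).trans (Subgroup.zpowers_le.2 ⟨x₀, rfl⟩)
    have hK : Nat.card f.ker = p ^ 2 := by
      have h := Subgroup.card_mul_index f.ker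
      rw [Subgroup.index_ker, le_antisymm hR hZR, hZc, hc] at h
      exact Nat.eq_of_mul_eq_mul_right hp.out.pos (h.trans (by ring))
    refine ⟨Z, f.ker, inferInstance, inferInstance, fun z hz => ?_, hZc, hK, hZi, fun γ x hx => ?_⟩
    · show z ^ p = 1
      exact congrArg Subtype.val (orderOf_dvd_iff_pow_eq_one.1 ((orderOf_dvd_natCard (⟨z, hz⟩ : Z)).trans (dvd_of_eq hZc)))
    · show γ x ^ p = 1
      rw [← map_pow, show x ^ p = 1 from hx, map_one]

/-- Let F be a saturated fusion system over a finite p-group S and H an essential subgroup of order p³. Then H is elementary abelian, or p is odd and H is extraspecial of exponent p, or p = 2 and H is the quaternion group of order 8. -/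
theorem result {Ω : Type u} [Group Ω] {S : Subgroup Ω} [Finite S] (p : ℕ) [Fact p.Prime] (hS : IsPGroup p S)
    (F : Cfsg.FusionSystem S) (hF : F.IsSaturated p) (H : Subgroup Ω) (hH : F.IsEssential p H) (hcard : Nat.card H = p ^ 3) :
    Cfsg.IsElementaryAbelian p H ∨ (Odd p ∧ Cfsg.IsExtraspecial p ↥H ∧ ∀ x ∈ H, x ^ p = 1) ∨
      (p = 2 ∧ Nonempty (↥H ≃* QuaternionGroup 2)) := by
  haveI := Cfsg.Agent.Lib.FS.finite_sub hH.2.1.1
  have kill : ¬ HasCharChain p ↥H := fun ⟨Z, M, hZn, hMn, hZM, hZ, hM, hZi, hMi⟩ =>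
    Cfsg.Agent.Lib.FusionEssential.SeriesNotEssential.not_essential_of_chain_three hS hF hH hcard
      hZn hMn hZM hZ hM hZi hMi
  by_cases hnc : ∃ x y : ↥H, x * y ≠ y * x
  · rcases nonabelian hcard hnc with h | ⟨ho, he, hx⟩ | h
    · exact absurd h kill
    · exact Or.inr (Or.inl ⟨ho, he, fun x hxH => congrArg Subtype.val (hx ⟨x, hxH⟩)⟩)
    · exact Or.inr (Or.inr h)
  · push Not at hnc
    left
    refine ⟨⟨⟨hnc⟩⟩, fun x hxH => ?_⟩
    by_contra hne
    letI : CommGroup ↥H := { (inferInstance : Group ↥H) with mul_comm := hnc }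
    exact kill (chain_abelian hcard ⟨⟨x, hxH⟩, fun h => hne (congrArg Subtype.val h)⟩)

end Cfsg.Agent.S5186
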