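import Cfsg.Statements.S5198
import Cfsg.Agent.Lib.FusionP3.StronglyClosed
import Cfsg.Agent.Lib.Transfer.PResidual

set_option autoImplicit false
open Cfsg

namespace Cfsg.Agent.S5198

open Cfsg.FusionSystem Cfsg.Agent.Lib.FS Cfsg.Agent.Lib.FusionP3.StronglyClosed Cfsg.Agent.Lib.Transfer

variable {Ω : Type*} [Group Ω] {S : Subgroup Ω} {F : Cfsg.FusionSystem S}

/-- `x` acts on `T` as an element of `N`. -/
def ActsIn (T : Subgroup Ω) (N : Subgroup (MulAut T)) (x : Ω) : Prop :=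
  ∃ α ∈ N, ∀ t : T, ((α t : T) : Ω) = x * (t : Ω) * x⁻¹

theorem actsIn_mul {T : Subgroup Ω} {N : Subgroup (MulAut T)} {x y : Ω} (hx : ActsIn T N x) (hy : ActsIn T N y) :
    ActsIn T N (x * y) := by
  obtain ⟨a, ha, ea⟩ := hx
  obtain ⟨b, hb, eb⟩ := hy
  refine ⟨a * b, mul_mem ha hb, fun t => ?_⟩
  rw [MulAut.mul_apply, ea, eb]
  group

theorem actsIn_inv {T : Subgroup Ω} {N : Subgroup (MulAut T)} {x : Ω} (hx : ActsIn T N x) :
    ActsIn T N x⁻¹ := by
  obtain ⟨a, ha, ea⟩ := hx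
  refine ⟨a⁻¹, inv_mem ha, fun t => ?_⟩
  have h := ea (a⁻¹ t)
  rw [MulAut.apply_inv_self] at h
  rw [h]
  group

variable [Finite S] {p : ℕ} [Fact p.Prime]

/-- The generators of the hyperfocal subgroup coming from automorphisms of order prime to `p`. -/
theorem actsIn_gen (hS : IsPGroup p S) (hF : F.IsSaturated p) {T : Subgroup Ω} (hT : F.StronglyClosed T)
    {P : Subgroup Ω} (hP : P ≤ S) (α : F.autGroup P) (hα : (orderOf α).Coprime p) (u : P) :
    ActsIn T ((Cfsg.pResidual p ↥(F.autGroup T)).map (F.autGroup T).subtype ⊔ Cfsg.Inn ↥T)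
      ((u : Ω)⁻¹ * ((α : MulAut P) u : P)) := by
  haveI := finite_sub hP
  haveI := finite_sub hT.1
  obtain ⟨φ, hφ, -, hφα⟩ := exists_hom_of_aut hP α.2
  obtain ⟨ψ, hψ, hc⟩ := hasLift hS hF hT hφ
  have hPT : P ⊔ T ≤ S := sup_le hP hT.1
  haveI := finite_sub hPT
  have hnorm : ∀ x ∈ P, ∀ t ∈ T, x * t * x⁻¹ ∈ T := fun x hx t ht => conj_mem_of_stronglyClosed hT (hP hx) ht
  have hr : ψ.range = P ⊔ T := by
    refine range_eq_of_mem hψ (fun y => ?_) le_rfl
    obtain ⟨x, hx, t, ht, hy⟩ := exists_mul_of_mem_sup hnorm y.2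
    have : y = Subgroup.inclusion le_sup_left ⟨x, hx⟩ * Subgroup.inclusion le_sup_right ⟨t, ht⟩ :=
      Subtype.ext hy
    rw [this, map_mul]
    refine mul_mem ?_ (Subgroup.mem_sup_right (apply_mem_of_stronglyClosed hT hψ _ ht))
    have h1 : φ ⟨x, hx⟩ ∈ P := by rw [hφα]; exact ((α : MulAut P) ⟨x, hx⟩).2
    simpa using mul_mem (Subgroup.mem_sup_left (T := T) h1) (Subgroup.mem_sup_right (S := P) (hc ⟨x, hx⟩))
  let Ψ : F.autGroup (P ⊔ T) := ⟨homEquiv hψ hr, homEquiv_mem_autGroup hψ hr⟩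
  have hΨT : ∀ (γ : F.autGroup (P ⊔ T)) (y : ↥(P ⊔ T)), (y : Ω) ∈ T → (((γ : MulAut ↥(P ⊔ T)) y : ↥(P ⊔ T)) : Ω) ∈ T :=
    fun γ y hy => apply_mem_of_stronglyClosed hT ((mem_autGroup hPT).1 γ.2) y hy
  have hcong : ∀ (j : ℕ) (x : P), (((((α ^ j : F.autGroup P) : MulAut P) x : P) : Ω))⁻¹ *
      ((((Ψ ^ j : F.autGroup (P ⊔ T)) : MulAut ↥(P ⊔ T)) (Subgroup.inclusion le_sup_left x) : ↥(P ⊔ T)) : Ω) ∈ T := by
    intro j
    induction j with
    | zero => intro x; simp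
    | succ j ih =>
      intro x
      have h1 := ih x
      set y : P := ((α ^ j : F.autGroup P) : MulAut P) x with hy
      set z : ↥(P ⊔ T) := ((Ψ ^ j : F.autGroup (P ⊔ T)) : MulAut ↥(P ⊔ T)) (Subgroup.inclusion le_sup_left x) with hz
      have e1 : ((α ^ (j + 1) : F.autGroup P) : MulAut P) x = (α : MulAut P) y := by
        rw [pow_succ']; rfl
      have e2 : ((Ψ ^ (j + 1) : F.autGroup (P ⊔ T)) : MulAut ↥(P ⊔ T)) (Subgroup.inclusion le_sup_left x) =
          (Ψ : MulAut ↥(P ⊔ T)) z := by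
        rw [pow_succ']; rfl
      rw [e1, e2]
      have hsplit : z = Subgroup.inclusion le_sup_left y *
          (⟨(y : Ω)⁻¹ * z, Subgroup.mem_sup_right h1⟩ : ↥(P ⊔ T)) := Subtype.ext (by simp)
      rw [hsplit, map_mul, Subgroup.coe_mul, ← mul_assoc]
      refine mul_mem ?_ (hΨT Ψ _ h1)
      have := hc y
      rw [hφα] at this
      exact this
  -- a power of `Ψ` of order prime to `p` that is still congruent to `α`
  have hn : orderOf Ψ ≠ 0 := (orderOf_pos Ψ).ne'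
  have hp : p.Prime := Fact.out
  obtain ⟨k, hk0, hk1⟩ := Nat.chineseRemainder (n := p ^ (orderOf Ψ).factorization p) (m := orderOf α)
    (Nat.Coprime.pow_left _ hα.symm) 0 1
  set β : F.autGroup (P ⊔ T) := Ψ ^ k with hβ
  set n' : ℕ := orderOf Ψ / p ^ (orderOf Ψ).factorization p with hn'
  have hβn : β ^ n' = 1 := by
    rw [hβ, ← pow_mul, ← orderOf_dvd_iff_pow_eq_one]
    obtain ⟨d, hd⟩ := Nat.modEq_zero_iff_dvd.1 hk0
    refine ⟨d, ?_⟩
    rw [hd, mul_right_comm, hn', Nat.mul_div_cancel' (Nat.ordProj_dvd _ p)]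
  have hαk : α ^ k = α := by
    conv_rhs => rw [← pow_one α]
    exact pow_eq_pow_iff_modEq.2 hk1
  obtain ⟨t₀, ht₀, hv⟩ : ∃ t₀ ∈ T, (((β : MulAut ↥(P ⊔ T)) (Subgroup.inclusion le_sup_left u) : ↥(P ⊔ T)) : Ω) =
      ((α : MulAut P) u : P) * t₀ := by
    have h := hcong k u
    rw [hαk] at h
    exact ⟨_, h, (mul_inv_cancel_left _ _).symm⟩
  -- the restriction of `β` to `T`
  obtain ⟨b, hb, eb⟩ := exists_restrict ((mem_autGroup hPT).1 β.2) (le_sup_right : T ≤ P ⊔ T)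
  have hbr : b.range = T := range_eq_of_mem hb
    (fun x => by rw [eb]; exact hΨT β _ x.2) le_rfl
  let a : F.autGroup T := ⟨homEquiv hb hbr, homEquiv_mem_autGroup hb hbr⟩
  have haβ : ∀ (j : ℕ) (t : T), ((((a ^ j : F.autGroup T) : MulAut T) t : T) : Ω) =
      ((((β ^ j : F.autGroup (P ⊔ T)) : MulAut ↥(P ⊔ T)) ⟨t, Subgroup.mem_sup_right t.2⟩ : ↥(P ⊔ T)) : Ω) := by
    intro j
    induction j with
    | zero => intro t; rfl
    | succ j ih =>
      intro t
      rw [pow_succ', pow_succ']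
      refine (eb _).trans ?_
      show (((β : MulAut ↥(P ⊔ T)) _ : ↥(P ⊔ T)) : Ω) = (((β : MulAut ↥(P ⊔ T)) _ : ↥(P ⊔ T)) : Ω)
      exact congrArg _ (congrArg _ (Subtype.ext (ih t)))
  have han : a ^ n' = 1 := by
    refine Subtype.ext (MulEquiv.ext fun t => Subtype.ext ?_)
    rw [haβ, hβn]
    rfl
  have hacop : (orderOf a).Coprime p :=
    Nat.Coprime.coprime_dvd_left (orderOf_dvd_of_pow_eq_one han) (Nat.coprime_ordCompl hp hn).symm
  -- conjugation by `u` on `T`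
  obtain ⟨c, hc', ec⟩ : ∃ c : MulAut T, c ∈ F.autGroup T ∧ ∀ t : T, ((c t : T) : Ω) = (u : Ω) * t * (u : Ω)⁻¹ := by
    have hm := F.conj_mem hT.1 (hP u.2)
    have hcr := range_eq_of_mem hm (fun x => hnorm _ u.2 _ x.2) le_rfl
    exact ⟨homEquiv hm hcr, homEquiv_mem_autGroup hm hcr, fun t => rfl⟩
  let c₀ : F.autGroup T := ⟨c, hc'⟩
  refine ⟨(c⁻¹ * a.1 * c) * a.1⁻¹ * MulAut.conj (⟨t₀, ht₀⟩ : T)⁻¹, mul_mem (mul_mem ?_ (inv_mem ?_)) ?_, ?_⟩
  · refine Subgroup.mem_sup_left ⟨c₀⁻¹ * a * c₀, PResidual.mem_pResidual ?_, rfl⟩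
    rwa [show c₀⁻¹ * a * c₀ = MulAut.conj c₀⁻¹ a by simp, MulEquiv.orderOf_eq]
  · exact Subgroup.mem_sup_left ⟨a, PResidual.mem_pResidual hacop, rfl⟩
  · exact Subgroup.mem_sup_right ⟨_, rfl⟩
  intro t
  set s : T := MulAut.conj (⟨t₀, ht₀⟩ : T)⁻¹ t with hs
  have hs' : (s : Ω) = t₀⁻¹ * t * t₀ := by rw [hs, MulAut.conj_apply]; simp
  set r : T := (a.1⁻¹ : MulAut T) s with hr'
  have hra : a.1 r = s := MulAut.apply_inv_self _ _ _
  have hkey : ((a.1 (c r) : T) : Ω) = ((α : MulAut P) u : P) * t * (((α : MulAut P) u : P) : Ω)⁻¹ := by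
    have h1 := haβ 1 (c r)
    rw [pow_one, pow_one] at h1
    rw [h1]
    have h2 : (⟨((c r : T) : Ω), Subgroup.mem_sup_right (c r).2⟩ : ↥(P ⊔ T)) =
        Subgroup.inclusion le_sup_left u * ⟨r, Subgroup.mem_sup_right r.2⟩ *
          (Subgroup.inclusion le_sup_left u)⁻¹ := Subtype.ext (by simp [ec])
    have h3 := haβ 1 r
    rw [pow_one, pow_one, hra] at h3
    rw [h2, map_mul, map_mul, map_inv, Subgroup.coe_mul, Subgroup.coe_mul, Subgroup.coe_inv, hv, ← h3, hs']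
    group
  show ((c⁻¹ (a.1 (c r)) : T) : Ω) = _
  have h4 := ec (c⁻¹ (a.1 (c r)))
  rw [MulAut.apply_inv_self, hkey] at h4
  have h5 : ((c⁻¹ (a.1 (c r)) : T) : Ω) =
      (u : Ω)⁻¹ * ((u : Ω) * ((c⁻¹ (a.1 (c r)) : T) : Ω) * (u : Ω)⁻¹) * u := by group
  rw [h5, ← h4]
  group

/-- Let F be a saturated fusion system over a finite p-group S and T a subgroup of S strongly closed in F (so T is normal in S). Then every element x of the hyperfocal subgroup of F acts on T by conjugation as an element of O^p(Aut_F(T))·Inn(T): there is an automorphism of T in the subgroup generated by the elements of Aut_F(T) of order prime to p together with the inner automorphisms of T that agrees with conjugation by x. -/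
theorem result {Ω : Type*} [Group Ω] {S : Subgroup Ω} [Finite S] (p : ℕ) [Fact p.Prime] (hS : IsPGroup p S) (F : Cfsg.FusionSystem S) (hF : F.IsSaturated p) (T : Subgroup Ω) (hT : F.StronglyClosed T) : ∀ x ∈ F.hyperfocalSubgroup p, ∃ α ∈ ((Cfsg.pResidual p ↥(F.autGroup T)).map (F.autGroup T).subtype ⊔ Cfsg.Inn ↥T : Subgroup (MulAut ↥T)), ∀ t : ↥T, ((α t : ↥T) : Ω) = x * (t : Ω) * x⁻¹ := by
  intro x hx
  refine Subgroup.closure_induction (p := fun y _ => ActsIn T _ y) ?_ ?_ ?_ ?_ hx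
  · rintro _ ⟨P, α, u, hP, hα, rfl⟩
    revert u
    refine Subgroup.closure_induction (p := fun (γ : F.autGroup P) _ => ∀ u : P, ActsIn T _
      ((u : Ω)⁻¹ * ((γ : MulAut P) u : P))) ?_ ?_ ?_ ?_ hα
    · intro γ hγ u
      exact actsIn_gen hS hF hT hP γ hγ u
    · intro u
      exact ⟨1, one_mem _, fun t => by simp⟩
    · intro γ δ _ _ hγ hδ u
      have := actsIn_mul (hδ u) (hγ ((δ : MulAut P) u))
      convert this using 1
      simp [MulAut.mul_apply, mul_assoc]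
    · intro γ _ hγ u
      have := actsIn_inv (hγ ((γ : MulAut P)⁻¹ u))
      convert this using 1
      simp
  · exact ⟨1, one_mem _, fun t => by simp⟩
  · intro a b _ _ ha hb
    exact actsIn_mul ha hb
  · intro a _ ha
    exact actsIn_inv ha

end Cfsg.Agent.S5198
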