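import Cfsg.Statements.S2569
-- import your own Cfsg.Agent.* helpers here

set_option autoImplicit false
open Cfsg

namespace Cfsg.Agent.S2569
open Polynomial

/-- A semisimple endomorphism of finite order over a finite field commutes with maps of every determinant. -/
theorem exists_centralising_det {F : Type*} [Field F] [Finite F] {V : Type*} [AddCommGroup V] [Module F V]
    [FiniteDimensional F V] (T : Module.End F V) {m : ℕ} (hm : 0 < m) {N : ℕ} (hdim : Module.finrank F V = m)
    (hN : (N : F) ≠ 0) (hT : T ^ N = 1) (d : F) (hd : d ≠ 0) :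
    ∃ z : Module.End F V, Commute z T ∧ LinearMap.det z = d := by
  classical
  haveI : Nontrivial V := Module.nontrivial_of_finrank_pos (R := F) (hdim ▸ hm)
  have hss : T.IsSemisimple := Module.End.isSemisimple_of_squarefree_aeval_eq_zero
    (p := X ^ N - C (1 : F)) (separable_X_pow_sub_C 1 hN one_ne_zero).squarefree (by simp [hT])
  have hint : IsIntegral F T := Algebra.IsIntegral.isIntegral T
  have hnu : ¬ IsUnit (minpoly F T) := minpoly.not_isUnit F T
  obtain ⟨f, hf, hfm⟩ := WfDvdMonoid.exists_irreducible_factor hnu (minpoly.ne_zero hint)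
  obtain ⟨g, hg⟩ := hfm
  obtain ⟨w, hw, hw0⟩ : ∃ w, aeval T f w = 0 ∧ w ≠ 0 := by
    by_contra hcon
    push Not at hcon
    have hg0 : aeval T g = 0 := by
      refine LinearMap.ext fun v => hcon _ ?_
      rw [← Module.End.mul_apply, ← map_mul, ← hg, minpoly.aeval, LinearMap.zero_apply]
    have hdvd : minpoly F T ∣ g := minpoly.dvd F T hg0
    rw [hg] at hdvd
    have hg' : g ≠ 0 := fun h => minpoly.ne_zero hint (by rw [hg, h, mul_zero])
    exact hf.not_isUnit (isUnit_of_dvd_one (Dvd.dvd.trans
      ((mul_dvd_mul_iff_right hg').1 (by rw [one_mul]; exact hdvd)) dvd_rfl))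
  haveI : Fact (Irreducible f) := ⟨hf⟩
  let ψ : F[X] →ₗ[F] V := (LinearMap.applyₗ w).comp (aeval T).toLinearMap
  have hψ : ∀ p, ψ p = aeval T p w := fun p => rfl
  let W := LinearMap.range ψ
  have hW : ∀ v ∈ W, T v ∈ W := by
    rintro _ ⟨p, rfl⟩
    exact ⟨X * p, by rw [hψ, hψ, map_mul, aeval_X, Module.End.mul_apply]⟩
  obtain ⟨U, hU, hWU⟩ := Module.End.isSemisimple_iff.1 hss W
    ((Module.End.mem_invtSubmodule T).2 fun v hv => hW v hv)
  have hU' : ∀ v ∈ U, T v ∈ U := fun v hv => (Module.End.mem_invtSubmodule T).1 hU hv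
  let S : Module.End F W := T.restrict hW
  have hS : ∀ (p : F[X]) (v : W), ((aeval S p v : W) : V) = aeval T p (v : V) := by
    intro p
    induction p using Polynomial.induction_on with
    | C a => intro v; simp [Module.algebraMap_end_apply]
    | add a b ha hb => intro v; simp [ha, hb]
    | monomial n a ih =>
      intro v
      rw [pow_succ, ← mul_assoc, map_mul, map_mul (f := aeval T), aeval_X, aeval_X, Module.End.mul_apply,
        Module.End.mul_apply, ih (S v)]
      rfl
  have hfS : aeval S f = 0 := by
    refine LinearMap.ext fun v => Subtype.ext ?_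
    obtain ⟨p, hp⟩ := v.2
    rw [hS, ← hp, hψ, ← Module.End.mul_apply, ← map_mul, mul_comm, map_mul, Module.End.mul_apply, hw, map_zero]
    rfl
  let α : AdjoinRoot f →+* Module.End F W :=
    Ideal.Quotient.lift (Ideal.span {f}) (aeval S).toRingHom fun a ha => by
      obtain ⟨c, rfl⟩ := Ideal.mem_span_singleton.1 ha
      show aeval S (f * c) = 0
      rw [map_mul, hfS, zero_mul]
  have hα : ∀ p, α (AdjoinRoot.mk f p) = aeval S p := fun p => rfl
  have hαc : ∀ c : F, α (algebraMap F (AdjoinRoot f) c) = algebraMap F (Module.End F W) c := fun c => by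
    rw [AdjoinRoot.algebraMap_eq, ← AdjoinRoot.mk_C, hα, aeval_C]
  let w' : W := ⟨w, 1, by rw [hψ, map_one, Module.End.one_apply]⟩
  let φ : AdjoinRoot f →ₗ[F] W :=
    { toFun := fun e => α e w'
      map_add' := fun a b => by rw [map_add, LinearMap.add_apply]
      map_smul' := fun c a => by
        rw [Algebra.smul_def, map_mul, hαc, Module.End.mul_apply, RingHom.id_apply,
          Module.algebraMap_end_apply] }
  have hφbij : Function.Bijective φ := by
    constructor
    · rw [injective_iff_map_eq_zero φ]
      intro e he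
      by_contra h0
      have h1 : α (e⁻¹ * e) w' = 0 := by
        rw [map_mul, Module.End.mul_apply, show α e w' = 0 from he, map_zero]
      rw [inv_mul_cancel₀ h0, map_one] at h1
      exact hw0 (congrArg Subtype.val h1)
    · rintro ⟨v, p, hp⟩
      refine ⟨AdjoinRoot.mk f p, Subtype.ext ?_⟩
      show ((α (AdjoinRoot.mk f p) w' : W) : V) = v
      rw [hα, hS, ← hp, hψ]
  haveI : Module.Finite F (AdjoinRoot f) := (AdjoinRoot.powerBasis hf.ne_zero).finite
  haveI : Finite (AdjoinRoot f) := Module.finite_of_finite F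
  obtain ⟨e, he⟩ := FiniteField.norm_surjective F (AdjoinRoot f) d
  let φe := LinearEquiv.ofBijective φ hφbij
  have hdetα : LinearMap.det (α e) = d := by
    rw [← he, Algebra.norm_apply, ← LinearMap.det_conj (Algebra.lmul F (AdjoinRoot f) e) φe]
    congr 1
    refine LinearMap.ext fun v => ?_
    obtain ⟨a, rfl⟩ := φe.surjective v
    show α e (α a w') = φe ((Algebra.lmul F (AdjoinRoot f) e) (φe.symm (φe a)))
    rw [φe.symm_apply_apply, Algebra.coe_lmul_eq_mul, LinearMap.mul_apply']
    show α e (α a w') = α (e * a) w'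
    rw [map_mul, Module.End.mul_apply]
  let P := Submodule.prodEquivOfIsCompl W U hWU
  refine ⟨P.conj ((α e).prodMap 1), ?_, ?_⟩
  · have hTP : T = P.conj (S.prodMap (T.restrict hU')) := by
      refine LinearMap.ext fun v => ?_
      obtain ⟨⟨a, b⟩, rfl⟩ := P.surjective v
      rw [LinearEquiv.conj_apply_apply, P.symm_apply_apply, LinearMap.prodMap_apply]
      simp only [P, Submodule.coe_prodEquivOfIsCompl', map_add]
      rfl
    have hc : Commute (α e) S := by
      have hX : α (AdjoinRoot.mk f X) = S := by rw [hα, aeval_X]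
      rw [← hX]
      exact (Commute.all e _).map α
    rw [hTP]
    show P.conj _ * P.conj _ = P.conj _ * P.conj _
    rw [Module.End.mul_eq_comp, Module.End.mul_eq_comp, ← LinearEquiv.conj_comp, ← LinearEquiv.conj_comp]
    congr 1
    rw [LinearMap.prodMap_comp, LinearMap.prodMap_comp, ← Module.End.mul_eq_comp, hc.eq]
    rfl
  · rw [LinearEquiv.conj_apply, LinearMap.comp_assoc, LinearMap.det_conj ((α e).prodMap 1) P, LinearMap.det_prodMap, hdetα, map_one, mul_one]


/-- In GL_n over a finite field of characteristic p, the conjugacy class of a semisimple element (an element of order prime to p) under the special linear group is its whole GL-conjugacy class: for every such x and every invertible g there is h of determinant one with h x h⁻¹ = g x g⁻¹. -/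
theorem result {F : Type*} [Field F] [Fintype F] {p : ℕ} [Fact p.Prime] [CharP F p] {n : ℕ} (x g : GL (Fin n) F) (hx : (orderOf x).Coprime p) : ∃ h : GL (Fin n) F, (h : Matrix (Fin n) (Fin n) F).det = 1 ∧ h * x * h⁻¹ = g * x * g⁻¹ := by
  classical
  have hdet : ∀ d : Fˣ, ∃ z : GL (Fin n) F, z * x = x * z ∧ ((n = 0) ∨ Matrix.GeneralLinearGroup.det z = d) := by
    intro d
    rcases Nat.eq_zero_or_pos n with hn | hn
    · exact ⟨1, by rw [one_mul, mul_one], Or.inl hn⟩
    obtain ⟨z, hz, hzd⟩ := exists_centralising_det (Matrix.toLin' (x : Matrix (Fin n) (Fin n) F)) hn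
      (N := orderOf x) (by rw [Module.finrank_pi, Fintype.card_fin])
      (fun h => by
        have := (CharP.cast_eq_zero_iff F p (orderOf x)).1 h
        have h1 := Nat.dvd_gcd this (dvd_refl p)
        rw [hx.gcd_eq_one] at h1
        exact (Fact.out : p.Prime).ne_one (Nat.dvd_one.1 h1))
      (by rw [← Matrix.toLin'_pow, ← Units.val_pow_eq_pow_val, pow_orderOf_eq_one, Units.val_one,
        Matrix.toLin'_one]; rfl) (d : F) d.ne_zero
    have hu : IsUnit (LinearMap.toMatrix' z).det := by
      rw [LinearMap.det_toMatrix', hzd]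
      exact d.isUnit
    refine ⟨Matrix.GeneralLinearGroup.mk'' (LinearMap.toMatrix' z) hu, Units.ext ?_,
      Or.inr (Units.ext ?_)⟩
    · show LinearMap.toMatrix' z * (x : Matrix (Fin n) (Fin n) F) = _ * LinearMap.toMatrix' z
      apply Matrix.toLin'.injective
      rw [Matrix.toLin'_mul, Matrix.toLin'_mul, Matrix.toLin'_toMatrix']
      exact hz.eq
    · rw [Matrix.GeneralLinearGroup.val_det_apply]
      show (LinearMap.toMatrix' z).det = d
      rw [LinearMap.det_toMatrix', hzd]
  obtain ⟨z, hz, hzd⟩ := hdet (Matrix.GeneralLinearGroup.det g)⁻¹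
  refine ⟨g * z, ?_, ?_⟩
  · rcases hzd with hn | hzd
    · subst hn
      exact Matrix.det_fin_zero
    · rw [← Matrix.GeneralLinearGroup.val_det_apply, map_mul, hzd, mul_inv_cancel, Units.val_one]
  · rw [mul_inv_rev, mul_assoc g z x, hz]
    group

end Cfsg.Agent.S2569
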