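import Cfsg.Statements.S2588
import Cfsg.Agent.Lib.Unitary.Basic
import Cfsg.Agent.Lib.InvolutionNorm
import Cfsg.Agent.Lib.Forms.Basis


set_option autoImplicit false
open Cfsg

namespace Cfsg.Agent.S2588
open Cfsg.Agent.Lib

/-- An invertible matrix A over the field with q² elements is conjugate in GL_n(q²) to an element of the general unitary group GU_n(q) (isometries of the Hermitian form Σ u_i v_i^q) if and only if A is similar to the inverse transpose of its entrywise q-th power (A ~ A^(−qT), the image of A under the map sending a matrix to the inverse transpose of its entrywise q-th power — inverse transpose composed with the field automorphism — whose fixed points form GU_n(q)). -/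
theorem result {K : Type*} [Field K] [Fintype K] {q n : ℕ} (hK : Fintype.card K = q ^ 2) (A : GL (Fin n) K) : (∃ B : ↥(Cfsg.GU n K q), IsConj A (B : GL (Fin n) K)) ↔ IsConj (A : Matrix (Fin n) (Fin n) K) (((A : Matrix (Fin n) (Fin n) K).map (fun x : K => x ^ q)).transpose)⁻¹ := by
  classical
  let σ : K →+* K := Unitary.conj hK
  have hσσ : ∀ x, σ (σ x) = x := fun x => Unitary.pow_q_q hK x
  let st : Matrix (Fin n) (Fin n) K → Matrix (Fin n) (Fin n) K := fun M => (M.map σ).transpose
  have hst_mul : ∀ M M', st (M * M') = st M' * st M := fun M M' => by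
    simp only [st]
    rw [Matrix.map_mul, Matrix.transpose_mul]
  have hst_st : ∀ M, st (st M) = M := fun M => by
    ext i j
    exact hσσ (M i j)
  have hst_add : ∀ M M', st (M + M') = st M + st M' := fun M M' => by
    ext i j
    exact map_add σ _ _
  have hst_one : st 1 = 1 := by
    simp only [st]
    rw [Matrix.map_one _ (map_zero σ) (map_one σ), Matrix.transpose_one]
  have hst_zero : st 0 = 0 := by
    ext i j
    exact map_zero σ
  have hst_alg : ∀ c : K, st (algebraMap K _ c) = algebraMap K _ (σ c) := fun c => by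
    ext i j
    by_cases hij : i = j
    · subst hij; simp [st, Matrix.algebraMap_eq_diagonal]
    · simp [st, Matrix.algebraMap_eq_diagonal, Matrix.diagonal_apply_ne _ hij,
        Matrix.diagonal_apply_ne _ (Ne.symm hij)]
  -- the defining equation of the unitary group
  have hmem : ∀ X : GL (Fin n) K, X ∈ Cfsg.GU n K q ↔ st (X : Matrix (Fin n) (Fin n) K) * X = 1 := by
    intro X
    constructor
    · intro hX
      ext i j
      have h1 := hX (Pi.single j 1) (Pi.single i 1)
      simp only [Units.coeHom_apply, Cfsg.hermForm, Matrix.mulVec_single_one, Matrix.col_apply] at h1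
      rw [Matrix.mul_apply]
      rw [Matrix.one_apply]
      have hr : ∑ x, (Pi.single j (1 : K) : Fin n → K) x * (Pi.single i (1 : K) : Fin n → K) x ^ q
          = (Pi.single i (1 : K) : Fin n → K) j ^ q := by
        rw [Finset.sum_eq_single j (fun b _ hb => by rw [Pi.single_eq_of_ne hb, zero_mul]) (by simp),
          Pi.single_eq_same, one_mul]
      rw [hr] at h1
      refine (Finset.sum_congr rfl fun k _ => ?_).trans (h1.trans ?_)
      · exact mul_comm _ _
      · by_cases hij : i = j
        · subst hij; simp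
        · rw [if_neg hij, Pi.single_eq_of_ne (Ne.symm hij), zero_pow (Unitary.q_ne_zero hK)]
    · intro hX u v
      simp only [Units.coeHom_apply]
      have e1 : ∀ a b : Fin n → K, Cfsg.hermForm n K q a b = a ⬝ᵥ (σ ∘ b) := fun a b => rfl
      have e3 : (X : Matrix (Fin n) (Fin n) K).transpose * (X : Matrix (Fin n) (Fin n) K).map σ = 1 := by
        have h2 := congrArg Matrix.transpose hX
        rw [Matrix.transpose_mul, Matrix.transpose_one, Matrix.transpose_transpose] at h2
        exact h2
      rw [e1, e1, show σ ∘ ((X : Matrix (Fin n) (Fin n) K).mulVec v) = ((X : Matrix (Fin n) (Fin n) K).map σ).mulVec (σ ∘ v) from funext fun k => RingHom.map_mulVec σ _ _ k, ← Matrix.vecMul_transpose, ← Matrix.dotProduct_mulVec,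
        Matrix.mulVec_mulVec, e3, Matrix.one_mulVec]
  constructor
  · rintro ⟨B, hB⟩
    obtain ⟨c, hc⟩ := isConj_iff.1 hB
    have hB1 := (hmem _).1 B.2
    have h1 : ∀ X : GL (Fin n) K, st ((X⁻¹ : GL (Fin n) K) : Matrix (Fin n) (Fin n) K) * st (X : Matrix (Fin n) (Fin n) K) = 1 :=
      fun X => by rw [← hst_mul, ← Units.val_mul, mul_inv_cancel, Units.val_one, hst_one]
    have h2 : ∀ X : GL (Fin n) K, st (X : Matrix (Fin n) (Fin n) K) * st ((X⁻¹ : GL (Fin n) K) : Matrix (Fin n) (Fin n) K) = 1 :=
      fun X => by rw [← hst_mul, ← Units.val_mul, inv_mul_cancel, Units.val_one, hst_one]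
    have hcA : (c : Matrix (Fin n) (Fin n) K) * (A : Matrix (Fin n) (Fin n) K)
        = ((B : GL (Fin n) K) : Matrix (Fin n) (Fin n) K) * c := congrArg Units.val (mul_inv_eq_iff_eq_mul.1 hc)
    have e : st (A : Matrix (Fin n) (Fin n) K) * (st (c : Matrix (Fin n) (Fin n) K) * c) * A
        = st (c : Matrix (Fin n) (Fin n) K) * c := by
      rw [← mul_assoc, ← hst_mul, mul_assoc, hcA, hst_mul, mul_assoc, ← mul_assoc (st ((B : GL (Fin n) K) : Matrix (Fin n) (Fin n) K)),
        hB1, one_mul]
    let w : (Matrix (Fin n) (Fin n) K)ˣ :=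
      ⟨st (c : Matrix (Fin n) (Fin n) K), st ((c⁻¹ : GL (Fin n) K) : Matrix (Fin n) (Fin n) K), h2 c, h1 c⟩
    refine ⟨w * c, ?_⟩
    show _ = _
    rw [show ((A : Matrix (Fin n) (Fin n) K).map (fun x : K => x ^ q)).transpose = st (A : Matrix (Fin n) (Fin n) K) from rfl,
      Matrix.inv_eq_left_inv (h1 A), Units.val_mul]
    show st (c : Matrix (Fin n) (Fin n) K) * c * A = _
    conv_rhs => rw [show (w : Matrix (Fin n) (Fin n) K) = st (c : Matrix (Fin n) (Fin n) K) from rfl, ← e, ← mul_assoc, ← mul_assoc, ← mul_assoc, h1 A, one_mul]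
  rintro ⟨g, hg⟩
  have hg' : (g : Matrix (Fin n) (Fin n) K) * A = (st (A : Matrix (Fin n) (Fin n) K))⁻¹ * g := hg.eq
  have hAu : st ((A⁻¹ : GL (Fin n) K) : Matrix (Fin n) (Fin n) K) * st (A : Matrix (Fin n) (Fin n) K) = 1 := by
    rw [← hst_mul, ← Units.val_mul, mul_inv_cancel, Units.val_one, hst_one]
  have hM : st (A : Matrix (Fin n) (Fin n) K) * g * A = g := by
    rw [mul_assoc, hg', Matrix.inv_eq_left_inv hAu, ← mul_assoc, mul_eq_one_comm.1 hAu, one_mul]
  set gi := ((g⁻¹ : (Matrix (Fin n) (Fin n) K)ˣ) : Matrix (Fin n) (Fin n) K) with hgi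
  set M := (g : Matrix (Fin n) (Fin n) K) with hMdef
  have hgM : gi * M = 1 := g.inv_mul
  have hMg : M * gi = 1 := g.mul_inv
  set T : Matrix (Fin n) (Fin n) K := gi * st M with hTdef
  have hstM : st M = M * T := by rw [hTdef, ← mul_assoc, hMg, one_mul]
  have hstgi : st gi * st M = 1 := by rw [← hst_mul, hMg, hst_one]
  have hTAc : T * A = A * T := by
    have h1 : st (A : Matrix (Fin n) (Fin n) K) * (M * T) * A = M * T := by
      have := congrArg st hM
      rw [hst_mul, hst_mul, hst_st, ← mul_assoc, hstM] at this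
      exact this
    have h2 : st (A : Matrix (Fin n) (Fin n) K) * M * (A * T) = st (A : Matrix (Fin n) (Fin n) K) * M * (T * A) := by
      rw [← mul_assoc, hM]
      conv_lhs => rw [← h1]
      simp only [mul_assoc]
    have h3 := congrArg (fun X => gi * (st ((A⁻¹ : GL (Fin n) K) : Matrix (Fin n) (Fin n) K) * X)) h2
    simp only [← mul_assoc, hAu, hgM, one_mul] at h3
    exact h3.symm
  let T' : Matrix (Fin n) (Fin n) K := gi * st T * M
  have hT' : T' * T = 1 := by
    show gi * st T * M * T = 1
    rw [mul_assoc, ← hstM, mul_assoc, ← hgM]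
    congr 1
    rw [hTdef, hst_mul, hst_st, mul_assoc, hstgi, mul_one]
  let Tu : (Matrix (Fin n) (Fin n) K)ˣ := ⟨T, T', mul_eq_one_comm.1 hT', hT'⟩
  let L := Algebra.adjoin K ({T} : Set (Matrix (Fin n) (Fin n) K))
  letI : CommRing L := Algebra.adjoinCommRingOfComm K fun a ha b hb => by
    rw [Set.mem_singleton_iff.1 ha, Set.mem_singleton_iff.1 hb]
  haveI : Finite L := Subtype.finite
  have hTL : T ∈ L := Algebra.subset_adjoin rfl
  have hT'L : T' ∈ L := by
    have h1 : T' = T ^ (orderOf Tu - 1) := by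
      have h2 : T ^ (orderOf Tu - 1) * T = 1 := by
        rw [← pow_succ, Nat.sub_add_cancel (orderOf_pos Tu)]
        exact (Units.val_pow_eq_pow_val Tu _).symm.trans (by rw [pow_orderOf_eq_one]; rfl)
      calc T' = T ^ (orderOf Tu - 1) * T * T' := by rw [h2, one_mul]
        _ = T ^ (orderOf Tu - 1) := by rw [mul_assoc, mul_eq_one_comm.1 hT', mul_one]
    rw [h1]; exact L.pow_mem hTL _
  have hτmul : ∀ a b, gi * st (a * b) * M = (gi * st b * M) * (gi * st a * M) := fun a b => by
    rw [hst_mul]
    calc gi * (st b * st a) * M = gi * st b * (M * gi) * (st a * M) := by rw [hMg, mul_one]; simp only [mul_assoc]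
      _ = _ := by simp only [mul_assoc]
  have hτL : ∀ x : Matrix (Fin n) (Fin n) K, x ∈ L → gi * st x * M ∈ L := by
    intro x hx
    induction hx using Algebra.adjoin_induction with
    | mem y hy => rw [Set.mem_singleton_iff.1 hy]; exact hT'L
    | algebraMap c =>
      rw [hst_alg, (Algebra.commutes (σ c) gi).symm, mul_assoc, hgM, mul_one]
      exact L.algebraMap_mem _
    | add a b _ _ ha hb => rw [hst_add, mul_add, add_mul]; exact L.add_mem ha hb
    | mul a b _ _ ha hb => rw [hτmul]; exact L.mul_mem hb ha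
  let τ : L →+* L :=
    { toFun := fun x => ⟨gi * st x.1 * M, hτL x.1 x.2⟩
      map_one' := Subtype.ext (by show gi * st (1 : Matrix (Fin n) (Fin n) K) * M = 1; rw [hst_one, mul_one, hgM])
      map_mul' := fun x y => Subtype.ext (by
        show gi * st (x.1 * y.1) * M = (gi * st x.1 * M) * (gi * st y.1 * M)
        rw [show x.1 * y.1 = y.1 * x.1 from congrArg Subtype.val (mul_comm x y), hτmul])
      map_zero' := Subtype.ext (by show gi * st (0 : Matrix (Fin n) (Fin n) K) * M = 0; rw [hst_zero, mul_zero, zero_mul])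
      map_add' := fun x y => Subtype.ext (by
        show gi * st (x.1 + y.1) * M = gi * st x.1 * M + gi * st y.1 * M
        rw [hst_add, mul_add, add_mul]) }
  have hττ : ∀ x, τ (τ x) = x := fun x => Subtype.ext (by
    show gi * st (gi * st x.1 * M) * M = x.1
    rw [hst_mul, hst_mul, hst_st, hstM]
    have hcomm : T * x.1 = x.1 * T := congrArg Subtype.val (mul_comm (⟨T, hTL⟩ : L) x)
    have e : T * (st gi * M) = 1 := by
      rw [hTdef, mul_assoc gi, ← mul_assoc (st M), ← hst_mul, hgM, hst_one, one_mul, hgM]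
    calc gi * (M * T * (x.1 * st gi)) * M = gi * M * (T * x.1) * (st gi * M) := by simp only [mul_assoc]
      _ = x.1 * (T * (st gi * M)) := by rw [hgM, one_mul, hcomm, mul_assoc]
      _ = x.1 := by rw [e, mul_one])
  obtain ⟨θ, hθ⟩ : ∃ θ : K, σ θ - θ ≠ 0 := by
    by_contra hcon
    push Not at hcon
    have h1 := Unitary.card_fixed hK
    have h2 : Nat.card {x : K // x ^ q = x} = q ^ 2 := by
      rw [Nat.card_congr (Equiv.subtypeUnivEquiv fun x : K => (sub_eq_zero.1 (hcon x) : x ^ q = x)), Nat.card_eq_fintype_card, hK]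
    have h3 := Unitary.one_lt_q hK
    rw [h1, pow_two] at h2
    nlinarith
  obtain ⟨b, hb, hbe⟩ := InvolutionNorm.exists_unit_of_norm_one τ hττ (θ := algebraMap K L θ) (a := ⟨T, hTL⟩) (by
      have e : τ (algebraMap K L θ) - algebraMap K L θ = algebraMap K L (σ θ - θ) := by
        rw [map_sub]
        congr 1
        refine Subtype.ext ?_
        show gi * st (algebraMap K _ θ) * M = algebraMap K _ (σ θ)
        rw [hst_alg, (Algebra.commutes (σ θ) gi).symm, mul_assoc, hgM, mul_one]
      rw [e]
      exact (IsUnit.mk0 _ hθ).map (algebraMap K L)) (Subtype.ext (mul_eq_one_comm.1 hT'))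
  set H : Matrix (Fin n) (Fin n) K := M * b.1 with hHdef
  have hHfix : st H = H := by
    have h1 : st b.1 * M = M * (τ b).1 := by
      show _ = M * (gi * st b.1 * M)
      rw [← mul_assoc, ← mul_assoc, hMg, one_mul]
    have h2 : (τ b).1 * T = b.1 := congrArg Subtype.val ((mul_comm (τ b) _).trans hbe)
    rw [hHdef, hst_mul, hstM, ← mul_assoc, h1, mul_assoc, h2]
  have hbA : Commute b.1 (A : Matrix (Fin n) (Fin n) K) := by
    have hle : L ≤ Subalgebra.centralizer K {(A : Matrix (Fin n) (Fin n) K)} := by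
      refine Algebra.adjoin_le ?_
      intro y hy
      rw [Set.mem_singleton_iff.1 hy]
      exact (Subalgebra.mem_centralizer_iff K).2 fun z hz => by
        rw [Set.mem_singleton_iff.1 hz]; exact hTAc.symm
    exact ((Subalgebra.mem_centralizer_iff K).1 (hle b.2) _ rfl).symm
  have hHA : st (A : Matrix (Fin n) (Fin n) K) * H * A = H := by
    rw [hHdef, mul_assoc, mul_assoc M, hbA.eq, ← mul_assoc, ← mul_assoc, hM]
  have hHu : IsUnit H := g.isUnit.mul (hb.map L.val)
  -- orthonormal basis of `H`
  let Bf : (Fin n → K) →ₛₗ[σ] (Fin n → K) →ₗ[K] K := LinearMap.mk₂'ₛₗ σ (RingHom.id K)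
    (fun u v => (σ ∘ u) ⬝ᵥ H.mulVec v)
    (fun u u' v => by
      show (σ ∘ (u + u')) ⬝ᵥ _ = _
      rw [show σ ∘ (u + u') = σ ∘ u + σ ∘ u' from funext fun i => map_add σ _ _, add_dotProduct])
    (fun c u v => by
      show (σ ∘ (c • u)) ⬝ᵥ _ = _
      rw [show σ ∘ (c • u) = σ c • (σ ∘ u) from funext fun i => map_mul σ _ _, smul_dotProduct])
    (fun u v v' => by rw [Matrix.mulVec_add, dotProduct_add])
    (fun c u v => by rw [Matrix.mulVec_smul, dotProduct_smul]; rfl)
  have hBf : ∀ u v, Bf u v = (σ ∘ u) ⬝ᵥ H.mulVec v := fun u v => rfl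
  have hsymm : Bf.IsSymm := ⟨fun u v => by
    rw [hBf, hBf]
    simp only [dotProduct, Matrix.mulVec, map_sum, map_mul, Function.comp_apply, hσσ, Finset.mul_sum]
    rw [Finset.sum_comm]
    refine Finset.sum_congr rfl fun i _ => Finset.sum_congr rfl fun j _ => ?_
    have h1 : σ (H j i) = H i j := congrFun (congrFun hHfix i) j
    rw [h1]
    ring⟩
  have hHinj : ∀ v, H.mulVec v = 0 → v = 0 := fun v hv =>
    (Matrix.mulVec_injective_iff_isUnit.2 hHu) (hv.trans (Matrix.mulVec_zero H).symm)
  have hnd : Bf.Nondegenerate := by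
    have hl : ∀ y, (∀ x, Bf x y = 0) → y = 0 := fun y hy => hHinj y (funext fun i => by
      have := hy (Pi.single i 1)
      rw [hBf, show σ ∘ (Pi.single i (1 : K) : Fin n → K) = Pi.single i (1 : K) from funext fun j => by
        by_cases hj : j = i
        · subst hj; simp
        · simp [hj], single_dotProduct, one_mul] at this
      exact this)
    exact ⟨fun x hx => hl x fun y => by rw [← hsymm.eq, hx, map_zero], hl⟩
  have hσne : σ ≠ RingHom.id K := fun h => hθ (by rw [h, RingHom.id_apply, sub_self])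
  obtain ⟨bas, hbas⟩ := Forms.exists_orthonormal_herm σ hσne hσσ n Bf hsymm hnd (by rw [Module.finrank_fintype_fun_eq_card, Fintype.card_fin])
  let P : Matrix (Fin n) (Fin n) K := Matrix.of fun i j => bas j i
  have hP : st P * H * P = 1 := by
    ext i j
    rw [Matrix.one_apply, ← hbas i j, hBf, mul_assoc, Matrix.mul_apply]
    refine Finset.sum_congr rfl fun k _ => ?_
    congr 1
  let Pu : GL (Fin n) K := ⟨P, st P * H, mul_eq_one_comm.1 hP, hP⟩
  refine ⟨⟨Pu⁻¹ * A * Pu, (hmem _).2 ?_⟩, isConj_iff.2 ⟨Pu⁻¹, by rw [inv_inv]⟩⟩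
  show st (st P * H * (A : Matrix (Fin n) (Fin n) K) * P) * (st P * H * (A : Matrix (Fin n) (Fin n) K) * P) = 1
  have hPP : H * P * st P = 1 := mul_eq_one_comm.1 (by rw [← mul_assoc]; exact hP)
  calc _ = st P * (st (A : Matrix (Fin n) (Fin n) K) * (H * P * st P) * H * A) * P := by
        rw [hst_mul, hst_mul, hst_mul, hst_st, hHfix]; simp only [mul_assoc]
    _ = 1 := by rw [hPP, mul_one, hHA, hP]

end Cfsg.Agent.S2588
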