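import Cfsg.Statements.S5639
import Cfsg.Agent.Lib.SubfieldMax.Linear
-- import your own Cfsg.Agent.* helpers here

set_option autoImplicit false
open Cfsg

namespace Cfsg.Agent.S5639

open Matrix Cfsg.Agent.Lib.Subspaces.Transvection Cfsg.Agent.Lib.SubfieldMax.Linear

section

variable {n : ℕ} {F : Type*} [Field F] (F₀ : Subfield F)

theorem mem_sub_iff (g : GL (Fin n) F) :
    g ∈ Cfsg.Geo.subfieldSubgroup F₀ 1 ↔ ∃ c : F, c ≠ 0 ∧ ∀ i j, c * (g : Matrix (Fin n) (Fin n) F) i j ∈ F₀ := by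
  rw [Cfsg.Geo.subfieldSubgroup, map_one, show (MulEquiv.toMonoidHom (1 : MulAut (GL (Fin n) F))) = MonoidHom.id _ from rfl,
    Subgroup.map_id]
  constructor
  · intro hg
    haveI : (Cfsg.Geo.scalars (Fin n) F).Normal := ⟨fun x hx y => by
      obtain ⟨c, hc⟩ := (Cfsg.Geo.mem_scalars_iff x).1 hx
      refine (Cfsg.Geo.mem_scalars_iff _).2 ⟨c, ?_⟩
      rw [Units.val_mul, Units.val_mul, hc, Matrix.mul_smul, Matrix.mul_one, Matrix.smul_mul, Units.mul_inv]⟩
    obtain ⟨y, hy, z, hz, rfl⟩ := Subgroup.mem_sup_of_normal_right.1 hg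
    obtain ⟨h, rfl⟩ := hy
    obtain ⟨c, hc⟩ := (Cfsg.Geo.mem_scalars_iff z).1 hz
    refine ⟨(c : F)⁻¹, inv_ne_zero c.ne_zero, fun i j => ?_⟩
    rw [Units.val_mul, hc, Matrix.mul_smul, Matrix.mul_one, Matrix.smul_apply, smul_eq_mul, ← mul_assoc,
      inv_mul_cancel₀ c.ne_zero, one_mul]
    exact (((h : GL (Fin n) F₀) : Matrix (Fin n) (Fin n) F₀) i j).2
  · rintro ⟨c, hc, hg⟩
    let A : Matrix (Fin n) (Fin n) F₀ := Matrix.of fun i j => ⟨c * (g : Matrix (Fin n) (Fin n) F) i j, hg i j⟩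
    have hA : A.map F₀.subtype = c • (g : Matrix (Fin n) (Fin n) F) := by ext i j; rfl
    have hdet : A.det ≠ 0 := by
      intro h0
      have := (RingHom.map_det F₀.subtype A).symm
      rw [RingHom.mapMatrix_apply, hA, h0, map_zero, det_smul] at this
      exact mul_ne_zero (pow_ne_zero _ hc) (Matrix.GeneralLinearGroup.det_ne_zero g) this
    have hg' : g = Units.map (Matrix.scalar (Fin n) : F →+* Matrix (Fin n) (Fin n) F).toMonoidHom
        (Units.mk0 c hc)⁻¹ * Matrix.GeneralLinearGroup.map F₀.subtype (Matrix.GeneralLinearGroup.mkOfDetNeZero A hdet) := by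
      apply Units.ext
      show (g : Matrix (Fin n) (Fin n) F) = Matrix.scalar (Fin n) c⁻¹ * A.map F₀.subtype
      rw [hA, scalar_apply, ← smul_one_eq_diagonal, Matrix.smul_mul, Matrix.one_mul, inv_smul_smul₀ hc]
    rw [hg']
    exact mul_mem (Subgroup.mem_sup_right ⟨_, rfl⟩) (Subgroup.mem_sup_left ⟨_, rfl⟩)

theorem maximal_one [Fintype F] (hn : 4 ≤ n) (r : ℕ) (hr : r.Prime) (hcard : Fintype.card F = Nat.card F₀ ^ r) :
    Cfsg.Geo.IsMaximalIn (Cfsg.Geo.specialLinear (Fin n) F)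
      (Cfsg.Geo.subfieldSubgroup F₀ 1 ⊓ Cfsg.Geo.specialLinear (Fin n) F) := by
  classical
  have hcard' : Nat.card F = Nat.card F₀ ^ r := by rw [Nat.card_eq_fintype_card, hcard]
  obtain ⟨c, hc⟩ : ∃ c : F, c ∉ F₀ := by
    by_contra hall
    push Not at hall
    have : Nat.card F₀ = Nat.card F := Nat.card_congr (Equiv.subtypeUnivEquiv hall)
    rw [← this] at hcard'
    exact hr.ne_one (Nat.pow_right_injective (Finite.one_lt_card (α := F₀)) (hcard'.symm.trans (pow_one _).symm))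
  refine isMaximalIn_of inf_le_right ?_ ?_
  · have h01 : (⟨0, by omega⟩ : Fin n) ≠ ⟨1, by omega⟩ := by simp
    set a : Fin n := ⟨0, by omega⟩
    set b : Fin n := ⟨1, by omega⟩
    have ho : (Pi.single b c : Fin n → F) ⬝ᵥ Pi.single a 1 = 0 := by simp [h01]
    refine ⟨tv (Pi.single a 1) (Pi.single b c), tv_mem_specialLinear _ _, fun hmem => ?_⟩
    obtain ⟨d, hd, hent⟩ := (mem_sub_iff F₀ _).1 hmem.1
    have h1 := hent a a
    have h2 := hent a b
    simp [coe_tv ho, vecMulVec_apply, h01] at h1 h2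
    have := mul_mem (inv_mem h1) h2
    rw [← mul_assoc, inv_mul_cancel₀ hd, one_mul] at this
    exact hc this
  · intro M hHM hMK g hgM hgH
    have hdet : ∀ x ∈ M, (x : Matrix (Fin n) (Fin n) F).det = 1 := fun x hx =>
      (mem_specialLinear_iff x).1 (hMK hx)
    have hcont : ContainsRat F₀ M := fun s => by
      refine hHM ⟨(mem_sub_iff F₀ _).2 ⟨1, one_ne_zero, fun i j => ?_⟩, ?_⟩
      · rw [one_mul]
        exact ((s : Matrix (Fin n) (Fin n) F₀) i j).2
      · exact (mem_specialLinear_iff _).2 (Matrix.SpecialLinearGroup.det_coe _)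
    have hr0 : ∀ v φ : Fin n → F, Rat F₀ v → Rat F₀ φ → φ ⬝ᵥ v = 0 → tv v φ ∈ M := fun v φ hv hφ h => by
      refine hHM ⟨(mem_sub_iff F₀ _).2 ⟨1, one_ne_zero, fun i j => ?_⟩, tv_mem_specialLinear _ _⟩
      rw [one_mul, coe_tv h, Matrix.add_apply, vecMulVec_apply]
      refine add_mem ?_ (mul_mem (hv i) (hφ j))
      by_cases hij : i = j
      · subst hij; rw [Matrix.one_apply_eq]; exact one_mem F₀
      · rw [Matrix.one_apply_ne hij]; exact zero_mem F₀
    by_cases hgood : Good F₀ M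
    · exact specialLinear_le_of_good (by omega) hr hcard' hcont hr0 hgood
    · exact absurd ⟨(mem_sub_iff F₀ g).2 (rational_of_not_good hn hr0 hgood hdet hgM), hMK hgM⟩ hgH

end

/-- For a finite field F, a subfield F₀ with |F| = |F₀| ^ r for a prime r, and n ≥ 13, the subfield group (the conjugate by any P of the product of GL_n(F₀) with the non-zero scalars of F, intersected with SL_n(F)) is a maximal subgroup of SL_n(F). -/
theorem result {F : Type*} [Field F] [Fintype F] (n : ℕ) (hn : 13 ≤ n) (F₀ : Subfield F) (r : ℕ) (hr : r.Prime) (hcard : Fintype.card F = Nat.card F₀ ^ r) (P : Matrix.GeneralLinearGroup (Fin n) F) : Cfsg.Geo.IsMaximalIn (Cfsg.Geo.specialLinear (Fin n) F) (Cfsg.Geo.subfieldSubgroup F₀ P ⊓ Cfsg.Geo.specialLinear (Fin n) F) := by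
  have h1 := maximal_one F₀ (n := n) (by omega) r hr hcard
  set c := (MulAut.conj P).toMonoidHom
  have hS : (Cfsg.Geo.specialLinear (Fin n) F).map c = Cfsg.Geo.specialLinear (Fin n) F := by
    have : (Cfsg.Geo.specialLinear (Fin n) F).Normal := MonoidHom.normal_ker _
    refine le_antisymm (Subgroup.map_le_iff_le_comap.2 fun x hx => this.conj_mem x hx P) fun x hx =>
      ⟨P⁻¹ * x * P, by simpa using this.conj_mem x hx P⁻¹, ?_⟩
    show P * (P⁻¹ * x * P) * P⁻¹ = x
    group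
  have hsub : (Cfsg.Geo.subfieldSubgroup F₀ 1).map c = Cfsg.Geo.subfieldSubgroup F₀ P := by
    simp [Cfsg.Geo.subfieldSubgroup, Subgroup.map_map, c]
    rfl
  have hinj : Function.Injective c := (MulAut.conj P).injective
  rw [← hS, ← hsub, ← Subgroup.map_inf _ _ c hinj]
  refine ⟨Subgroup.map_lt_map_iff_of_injective hinj |>.2 h1.1, fun M hHM hMK => ?_⟩
  have hM : (M.comap c).map c = M := Subgroup.map_comap_eq_self_of_surjective (MulAut.conj P).surjective M
  rcases h1.2 (M.comap c) (Subgroup.map_le_iff_le_comap.1 hHM)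
      (by rw [← Subgroup.map_le_map_iff_of_injective hinj, hM]; exact hMK) with h | h
  · left; rw [← h, hM]
  · right; rw [← h, hM]

end Cfsg.Agent.S5639
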