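import Cfsg.Statements.S5642
import Cfsg.Agent.Lib.Subspaces.FormVec

set_option autoImplicit false
open Cfsg

namespace Cfsg.Agent.S5642

open Matrix Cfsg.Agent.Lib.Subspaces.Transvection Cfsg.Agent.Lib.Subspaces.FormVec

variable {ι : Type} [Fintype ι] [DecidableEq ι] {F : Type*} [Field F]
  {f : (ι → F) → (ι → F) → F}

theorem tv_mem_sim (hf : Cfsg.Geo.IsSymplecticForm f) (v : ι → F) (a : F) :
    tv v (a • formVec f v) ∈ Cfsg.Geo.similarityGroup f ⊓ Cfsg.Geo.specialLinear ι F := by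
  refine ⟨⟨1, fun x y => ?_⟩, tv_mem_specialLinear _ _⟩
  have hl := isLinearLeft_of_bilinear hf.bilinear
  have h0 : (a • formVec f v) ⬝ᵥ v = 0 := by
    rw [smul_dotProduct, formVec_dot hl, hf.alternating, smul_zero]
  rw [tv_mulVec h0, tv_mulVec h0, smul_dotProduct, smul_dotProduct, formVec_dot hl, formVec_dot hl,
    hf.bilinear.add_left, hf.bilinear.add_right, hf.bilinear.add_right, hf.bilinear.smul_left,
    hf.bilinear.smul_left, hf.bilinear.smul_right, hf.bilinear.smul_right, hf.alternating,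
    hf.skew v y, Units.val_one, smul_eq_mul, smul_eq_mul]
  ring

theorem formVec_smul (hf : Cfsg.Geo.IsSymplecticForm f) (a : F) (v : ι → F) :
    formVec f (a • v) = a • formVec f v :=
  funext fun _ => hf.bilinear.smul_right _ _ _

theorem formVec_add (hf : Cfsg.Geo.IsSymplecticForm f) (v w : ι → F) :
    formVec f (v + w) = formVec f v + formVec f w :=
  funext fun _ => hf.bilinear.add_right _ _ _

theorem mem_sim_of_axes (hf : Cfsg.Geo.IsSymplecticForm f) (g : GL ι F)
    (h : ∀ v, v ≠ 0 → ∃ d : F, formVec f v ᵥ* ((g⁻¹ : GL ι F) : Matrix ι ι F) =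
      d • formVec f ((g : Matrix ι ι F) *ᵥ v)) : g ∈ Cfsg.Geo.similarityGroup f := by
  classical
  have hl := isLinearLeft_of_bilinear hf.bilinear
  choose! d hd using h
  have key : ∀ u v, v ≠ 0 → f u v = d v * f ((g : Matrix ι ι F) *ᵥ u) ((g : Matrix ι ι F) *ᵥ v) := by
    intro u v hv
    have := congrArg (fun φ => φ ⬝ᵥ ((g : Matrix ι ι F) *ᵥ u)) (hd v hv)
    simp only [vecMul_dot, smul_dotProduct, formVec_dot hl, smul_eq_mul] at this
    exact this
  have hdd : ∀ u v, f u v ≠ 0 → d u = d v := by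
    intro u v huv
    have hu : u ≠ 0 := fun e => huv (by rw [e, form_zero_left hl])
    have hv : v ≠ 0 := fun e => huv (by rw [hf.skew, e, form_zero_left hl, neg_zero])
    have h1 := key u v hv
    have h2 := key v u hu
    rw [hf.skew, hf.skew ((g : Matrix ι ι F) *ᵥ v), mul_neg, neg_inj] at h2
    have hne : f ((g : Matrix ι ι F) *ᵥ u) ((g : Matrix ι ι F) *ᵥ v) ≠ 0 := fun e =>
      huv (by rw [h1, e, mul_zero])
    exact mul_right_cancel₀ hne (h2.symm.trans h1)
  have hconst : ∀ v w, v ≠ 0 → w ≠ 0 → d v = d w := by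
    intro v w hv hw
    obtain ⟨u, hu1, hu2⟩ := exists_dot_ne_zero_both (formVec_ne_zero hl hf.nondegenerate hv)
      (formVec_ne_zero hl hf.nondegenerate hw)
    rw [formVec_dot hl] at hu1 hu2
    rw [← hdd u v hu1, ← hdd u w hu2]
  by_cases hnz : ∃ v : ι → F, v ≠ 0
  · obtain ⟨v0, hv0⟩ := hnz
    obtain ⟨⟨x, hx⟩, -⟩ := hf.nondegenerate v0 hv0
    have hd0 : d v0 ≠ 0 := fun e => hx (by rw [key x v0 hv0, e, zero_mul])
    refine ⟨(Units.mk0 _ hd0)⁻¹, fun u v => ?_⟩
    rw [Units.val_inv_eq_inv_val, Units.val_mk0]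
    rcases eq_or_ne v 0 with rfl | hv
    · have h00 : ∀ y, f y 0 = 0 := fun y => by rw [hf.skew, form_zero_left hl, neg_zero]
      rw [mulVec_zero, h00, h00, mul_zero]
    · rw [key u v hv, hconst v v0 hv hv0, ← mul_assoc, inv_mul_cancel₀ hd0, one_mul]
  · push Not at hnz
    refine ⟨1, fun u v => ?_⟩
    rw [hnz u, hnz v, mulVec_zero, Units.val_one, one_mul]

theorem not_sim_exists (hf : Cfsg.Geo.IsSymplecticForm f) (hn : 3 ≤ Fintype.card ι) :
    ∃ g ∈ Cfsg.Geo.specialLinear ι F,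
      g ∉ Cfsg.Geo.similarityGroup f ⊓ Cfsg.Geo.specialLinear ι F := by
  have hl := isLinearLeft_of_bilinear hf.bilinear
  obtain ⟨x, hx, -⟩ := exists_common_zero_not_mem (⊥ : Submodule F (ι → F)) (k := 0) ![]
    (by simp only [finrank_bot]; omega)
  have hx0 : x ≠ 0 := by simpa using hx
  obtain ⟨z, hz, hfz⟩ := exists_common_zero_not_mem (Submodule.span F {x}) ![formVec f x] (by
    rw [finrank_span_singleton hx0]; omega)
  have hfzx : f z x = 0 := by simpa [formVec_dot hl] using hfz 0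
  obtain ⟨φ, hφ, hφz⟩ := exists_functional hz
  have h0 : φ ⬝ᵥ x = 0 := hφ x (Submodule.mem_span_singleton_self x)
  refine ⟨tv x φ, tv_mem_specialLinear x φ, fun hmem => ?_⟩
  obtain ⟨c, hc⟩ := hmem.1
  obtain ⟨⟨a, ha⟩, ⟨b, hb⟩⟩ := hf.nondegenerate x hx0
  have h1 := hc a x
  rw [tv_mulVec h0, tv_mulVec h0, h0, zero_smul, add_zero, hf.bilinear.add_left,
    hf.bilinear.smul_left, hf.alternating, mul_zero, add_zero] at h1
  have hc1 : (c : F) = 1 := by
    rcases mul_left_eq_self₀.mp h1.symm with h | h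
    · exact h
    · exact absurd h ha
  have h2 := hc a z
  rw [tv_mulVec h0, tv_mulVec h0, hφz, one_smul, hc1, one_mul, hf.bilinear.add_left,
    hf.bilinear.add_right, hf.bilinear.smul_left, hf.bilinear.add_right, hf.skew x z, hfzx,
    hf.alternating] at h2
  exact ha (by linear_combination h2)

theorem le_of_not_sim [Finite F] (hf : Cfsg.Geo.IsSymplecticForm f) {M : Subgroup (GL ι F)}
    (hM : Cfsg.Geo.similarityGroup f ⊓ Cfsg.Geo.specialLinear ι F ≤ M) {g : GL ι F} (hg : g ∈ M)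
    (hgn : g ∉ Cfsg.Geo.similarityGroup f) : Cfsg.Geo.specialLinear ι F ≤ M := by
  have hl := isLinearLeft_of_bilinear hf.bilinear
  have hT : ∀ v (a : F), tv v (a • formVec f v) ∈ M := fun v a => hM (tv_mem_sim hf v a)
  have hex : ∃ v, v ≠ 0 ∧ ∀ d : F, formVec f v ᵥ* ((g⁻¹ : GL ι F) : Matrix ι ι F) ≠
      d • formVec f ((g : Matrix ι ι F) *ᵥ v) := by
    by_contra hc
    push Not at hc
    exact hgn (mem_sim_of_axes hf g hc)
  obtain ⟨v, hv0, hnd⟩ := hex
  have hd0 : formVec f v ⬝ᵥ v = 0 := by rw [formVec_dot hl, hf.alternating]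
  set x := (g : Matrix ι ι F) *ᵥ v with hxdef
  set φ := formVec f v ᵥ* ((g⁻¹ : GL ι F) : Matrix ι ι F) with hφdef
  have hφx : φ ⬝ᵥ x = 0 := by rw [hφdef, hxdef, vecMul_dot, hd0]
  have hφM : tv x φ ∈ M := by
    rw [hφdef, hxdef, ← conj_tv g hd0]
    have := hT v 1
    rw [one_smul] at this
    exact M.mul_mem (M.mul_mem hg this) (M.inv_mem hg)
  have hx0 : x ≠ 0 := fun e => hv0 (gl_mulVec_injective g (by simpa [hxdef] using e))
  have hfx0 : formVec f x ≠ 0 := formVec_ne_zero hl hf.nondegenerate hx0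
  obtain ⟨u0, hu0x, hu0φ⟩ : ∃ u0, formVec f x ⬝ᵥ u0 = 0 ∧ φ ⬝ᵥ u0 ≠ 0 := by
    by_contra hc
    push Not at hc
    obtain ⟨a, ha⟩ := exists_smul_of_ker_le hfx0 hc
    exact hnd a ha
  have hax1 : ∀ u, formVec f x ⬝ᵥ u = 0 → φ ⬝ᵥ u ≠ 0 → formVec f u ∈ axes M x := by
    intro u hu hφu
    have hux : formVec f u ⬝ᵥ x = 0 := by
      rw [formVec_dot hl] at hu
      rw [formVec_dot hl, hf.skew, hu, neg_zero]
    have huu : formVec f u ⬝ᵥ u = 0 := by rw [formVec_dot hl, hf.alternating]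
    refine ⟨hux, fun a => ?_⟩
    have hw0 : ((a / (φ ⬝ᵥ u)) • formVec f u) ⬝ᵥ u = 0 := by rw [smul_dotProduct, huu, smul_zero]
    have hw1 : ((a / (φ ⬝ᵥ u)) • formVec f u) ⬝ᵥ x = 0 := by rw [smul_dotProduct, hux, smul_zero]
    have := tv_axis_shift_mem hφx hw0 hw1 hφM (hT u _)
    rwa [smul_smul, mul_div_cancel₀ a hφu] at this
  have hax : ∀ u, formVec f x ⬝ᵥ u = 0 → formVec f u ∈ axes M x := by
    intro u hu
    by_cases hφu : φ ⬝ᵥ u = 0
    · have h1 := hax1 (u + u0) (by rw [dotProduct_add, hu, hu0x, add_zero])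
        (by rw [dotProduct_add, hφu, zero_add]; exact hu0φ)
      have h2 := Submodule.sub_mem _ h1 (hax1 u0 hu0x hu0φ)
      rwa [formVec_add hf, add_sub_cancel_right] at h2
    · exact hax1 u hu hφu
  have hC : FullCenter M x := by
    intro ψ hψ
    obtain ⟨u, rfl⟩ := formVec_surjective hl hf.bilinear.add_right hf.nondegenerate ψ
    refine tv_mem_of_mem_axes (hax u ?_)
    rw [formVec_dot hl] at hψ ⊢
    rw [hf.skew, hψ, neg_zero]
  refine specialLinear_le_of_irreducible (fun W hW => ?_) hx0 hC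
  by_cases hW0 : W = ⊥
  · exact Or.inl hW0
  obtain ⟨y, hy, hy0⟩ := Submodule.exists_mem_ne_zero_of_ne_bot hW0
  have hmem : ∀ z, f y z ≠ 0 → z ∈ W := by
    intro z hz
    have hzz : ((1 : F) • formVec f z) ⬝ᵥ z = 0 := by
      rw [one_smul, formVec_dot hl, hf.alternating]
    have := hW _ (hT z 1) y hy
    rw [tv_mulVec hzz, one_smul, formVec_dot hl] at this
    have h3 := W.sub_mem this hy
    rw [add_sub_cancel_left] at h3
    simpa [smul_smul, hz] using W.smul_mem (f y z)⁻¹ h3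
  obtain ⟨-, z0, hz0⟩ := hf.nondegenerate y hy0
  refine Or.inr (eq_top_iff.mpr fun z _ => ?_)
  by_cases hz : f y z = 0
  · have := W.sub_mem (hmem (z + z0) (by rw [hf.bilinear.add_right, hz, zero_add]; exact hz0))
      (hmem z0 hz0)
    rwa [add_sub_cancel_right] at this
  · exact hmem z hz


/-- For a finite field F and n ≥ 13, let f be a non-degenerate symplectic form on F^n (so n is even). Then the elements of SL_n(F) that are similarities of f (f(gu, gv) = c f(u, v) for a non-zero scalar c depending on g) form a maximal subgroup of SL_n(F). -/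
theorem result {F : Type*} [Field F] [Fintype F] (n : ℕ) (hn : 13 ≤ n) (f : (Fin n → F) → (Fin n → F) → F) (hf : Cfsg.Geo.IsSymplecticForm f) : Cfsg.Geo.IsMaximalIn (Cfsg.Geo.specialLinear (Fin n) F) (Cfsg.Geo.similarityGroup f ⊓ Cfsg.Geo.specialLinear (Fin n) F) := by
  refine isMaximalIn_of inf_le_right (not_sim_exists hf (by rw [Fintype.card_fin]; omega)) ?_
  intro M hHM hMK g hgM hgH
  exact le_of_not_sim hf hHM hgM fun h => hgH ⟨h, hMK hgM⟩

end Cfsg.Agent.S5642
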