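import Cfsg.Statements.S5643
import Cfsg.Agent.Lib.Subspaces.UnitaryForm

set_option autoImplicit false
open Cfsg

namespace Cfsg.Agent.S5643

open Matrix Cfsg.Agent.Lib.Subspaces.Transvection Cfsg.Agent.Lib.Subspaces.FormVec
  Cfsg.Agent.Lib.Subspaces.UnitaryForm

variable {ι : Type} [Fintype ι] [DecidableEq ι] {F : Type*} [Field F] [Finite F]
  {σ : F ≃+* F} {f : (ι → F) → (ι → F) → F}

theorem tv_mem_sim (hf : Cfsg.Geo.IsUnitaryForm σ f) {v : ι → F} (hv : f v v = 0) {a : F}
    (ha : a + σ a = 0) :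
    tv v (a • formVec f v) ∈ Cfsg.Geo.similarityGroup f ⊓ Cfsg.Geo.specialLinear ι F :=
  ⟨⟨1, fun x y => by rw [utv_isometry hf hv ha, Units.val_one, one_mul]⟩, tv_mem_specialLinear _ _⟩

theorem mem_sim_of_axes (hf : Cfsg.Geo.IsUnitaryForm σ f) (hn : 2 ≤ Fintype.card ι) (g : GL ι F)
    (h : ∀ v, v ≠ 0 → f v v = 0 → ∃ d : F,
      formVec f v ᵥ* ((g⁻¹ : GL ι F) : Matrix ι ι F) =
        d • formVec f ((g : Matrix ι ι F) *ᵥ v)) : g ∈ Cfsg.Geo.similarityGroup f := by
  classical
  have hl := isLinearLeft_of_unitary hf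
  choose! d hd using h
  have key : ∀ u v, v ≠ 0 → f v v = 0 →
      f u v = d v * f ((g : Matrix ι ι F) *ᵥ u) ((g : Matrix ι ι F) *ᵥ v) := by
    intro u v hv hvv
    have := congrArg (fun φ => φ ⬝ᵥ ((g : Matrix ι ι F) *ᵥ u)) (hd v hv hvv)
    simp only [vecMul_dot, smul_dotProduct, formVec_dot hl, smul_eq_mul] at this
    exact this
  have hdd : ∀ u v, f u u = 0 → f v v = 0 → f u v ≠ 0 → d v = σ (d u) := by
    intro u v huu hvv huv
    have hu : u ≠ 0 := fun e => huv (by rw [e, herm_zero_left hf])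
    have hv : v ≠ 0 := fun e => huv (by rw [e, zero_right hf])
    have h1 := key u v hv hvv
    have h2 := congrArg σ (key v u hu huu)
    rw [map_mul, ← hf.herm, ← hf.herm] at h2
    have hne : f ((g : Matrix ι ι F) *ᵥ u) ((g : Matrix ι ι F) *ᵥ v) ≠ 0 := fun e =>
      huv (by rw [h1, e, mul_zero])
    exact mul_right_cancel₀ hne (h1.symm.trans h2)
  have hconst : ∀ v w, v ≠ 0 → f v v = 0 → w ≠ 0 → f w w = 0 → d v = d w := by
    intro v w hv hvv hw hww
    obtain ⟨z, hz1, hz2⟩ := exists_dot_ne_zero_both (formVec_ne_zero hl hf.nondegenerate hv)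
      (formVec_ne_zero hl hf.nondegenerate hw)
    rw [formVec_dot hl] at hz1 hz2
    have hvz : f v z ≠ 0 := fun e => hz1 (swap_eq_zero hf e)
    obtain ⟨a, -, hx⟩ := exists_isotropic_shift hf hvv hvz
    have hxv : f (z + a • v) v ≠ 0 := by
      rw [hf.add_left, hf.smul_left, hvv, mul_zero, add_zero]; exact hz1
    by_cases hvw : f v w = 0
    · have hxw : f (z + a • v) w ≠ 0 := by
        rw [hf.add_left, hf.smul_left, hvw, mul_zero, add_zero]; exact hz2
      rw [hdd _ _ hx hvv hxv, hdd _ _ hx hww hxw]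
    · obtain ⟨e, he, he'⟩ := exists_skew_scalar hf
      have hx' : f (z + (a + e / f v z) • v) (z + (a + e / f v z) • v) = 0 := by
        rw [expand_add_smul hf, hvv, mul_zero, add_zero] at hx ⊢
        rw [add_mul, div_mul_cancel₀ e hvz, map_add]
        linear_combination hx + he'
      obtain ⟨x, hxx, hxv', hxw⟩ : ∃ x, f x x = 0 ∧ f x v ≠ 0 ∧ f x w ≠ 0 := by
        by_cases hw0 : f (z + a • v) w = 0
        · refine ⟨_, hx', ?_, ?_⟩
          · rw [hf.add_left, hf.smul_left, hvv, mul_zero, add_zero]; exact hz1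
          · rw [hf.add_left, hf.smul_left] at hw0 ⊢
            rw [add_mul, ← add_assoc, hw0, zero_add]
            exact mul_ne_zero (div_ne_zero he hvz) hvw
        · exact ⟨_, hx, hxv, hw0⟩
      rw [hdd _ _ hxx hvv hxv', hdd _ _ hxx hww hxw]
  by_cases hnz : ∃ v : ι → F, v ≠ 0
  · obtain ⟨z0, hz0⟩ := hnz
    obtain ⟨v0, hv0, hv0z⟩ := exists_isotropic_one hf hn hz0
    have hv00 : v0 ≠ 0 := fun e => by
      rw [e, herm_zero_left hf] at hv0z
      exact zero_ne_one hv0z
    obtain ⟨⟨x, hx⟩, -⟩ := hf.nondegenerate v0 hv00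
    have hd0 : d v0 ≠ 0 := fun e => hx (by rw [key x v0 hv00 hv0, e, zero_mul])
    let S : Submodule F (ι → F) :=
      { carrier := {v | ∀ u, f ((g : Matrix ι ι F) *ᵥ u) ((g : Matrix ι ι F) *ᵥ v)
          = (d v0)⁻¹ * f u v}
        add_mem' := fun {a b} ha hb u => by
          rw [mulVec_add, add_right hf, add_right hf, ha u, hb u, mul_add]
        zero_mem' := fun u => by rw [mulVec_zero, zero_right hf, zero_right hf, mul_zero]
        smul_mem' := fun c a ha u => by
          rw [mulVec_smul, smul_right hf, smul_right hf, ha u, mul_left_comm] }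
    have hS : S = ⊤ := by
      rw [eq_top_iff, ← span_isotropic hf hn, Submodule.span_le]
      intro v (hv : f v v = 0) u
      rcases eq_or_ne v 0 with rfl | hv'
      · rw [mulVec_zero, zero_right hf, zero_right hf, mul_zero]
      · rw [key u v hv' hv, hconst v v0 hv' hv hv00 hv0, ← mul_assoc, inv_mul_cancel₀ hd0, one_mul]
    refine ⟨(Units.mk0 _ hd0)⁻¹, fun u v => ?_⟩
    rw [Units.val_inv_eq_inv_val, Units.val_mk0]
    exact (hS ▸ Submodule.mem_top : v ∈ S) u
  · push Not at hnz
    refine ⟨1, fun u v => ?_⟩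
    rw [hnz u, hnz v, mulVec_zero, Units.val_one, one_mul]

theorem not_sim_exists (hf : Cfsg.Geo.IsUnitaryForm σ f) (hn : 2 ≤ Fintype.card ι) :
    ∃ g ∈ Cfsg.Geo.specialLinear ι F,
      g ∉ Cfsg.Geo.similarityGroup f ⊓ Cfsg.Geo.specialLinear ι F := by
  have hl := isLinearLeft_of_unitary hf
  obtain ⟨z, hz, -⟩ := exists_common_zero_not_mem (⊥ : Submodule F (ι → F)) (k := 0) ![]
    (by simp only [finrank_bot]; omega)
  obtain ⟨x, hxx, hxz⟩ := exists_isotropic_one hf hn (by simpa using hz : z ≠ 0)
  have hx0 : x ≠ 0 := fun e => by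
    rw [e, herm_zero_left hf] at hxz
    exact zero_ne_one hxz
  obtain ⟨w, hw⟩ := exists_add_ne_zero hf
  refine ⟨tv x (w • formVec f x), tv_mem_specialLinear _ _, fun hmem => ?_⟩
  obtain ⟨c, hc⟩ := hmem.1
  obtain ⟨-, b, hb⟩ := hf.nondegenerate x hx0
  have hbx : f b x ≠ 0 := fun e => hb (swap_eq_zero hf e)
  have h1 := hc x b
  rw [utv_mulVec hf hxx, utv_mulVec hf hxx, hxx, mul_zero, zero_smul, add_zero, add_right hf,
    smul_right hf, hxx, mul_zero, add_zero] at h1
  have hc1 : (c : F) = 1 := by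
    rcases mul_left_eq_self₀.mp h1.symm with h | h
    · exact h
    · exact absurd h hb
  have h2 := hc b b
  rw [utv_mulVec hf hxx, expand_add_smul hf, hxx, hc1, one_mul, map_mul, map_mul, ← hf.herm,
    ← hf.herm, mul_zero, add_zero] at h2
  have h3 : (w + σ w) * (f b x * f x b) = 0 := by linear_combination h2
  rcases mul_eq_zero.mp h3 with h | h
  · exact hw h
  · exact (mul_ne_zero hbx hb) h

theorem le_of_not_sim (hf : Cfsg.Geo.IsUnitaryForm σ f) (hn : 6 ≤ Fintype.card ι)
    {M : Subgroup (GL ι F)} (hM : Cfsg.Geo.similarityGroup f ⊓ Cfsg.Geo.specialLinear ι F ≤ M)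
    {g : GL ι F} (hg : g ∈ M) (hgn : g ∉ Cfsg.Geo.similarityGroup f) :
    Cfsg.Geo.specialLinear ι F ≤ M := by
  have hl := isLinearLeft_of_unitary hf
  have hT : ∀ v (a : F), f v v = 0 → a + σ a = 0 → tv v (a • formVec f v) ∈ M :=
    fun v a hv ha => hM (tv_mem_sim hf hv ha)
  obtain ⟨e, he0, he⟩ := exists_skew_scalar hf
  have hex : ∃ v, v ≠ 0 ∧ f v v = 0 ∧ ∀ d : F, formVec f v ᵥ* ((g⁻¹ : GL ι F) : Matrix ι ι F) ≠
      d • formVec f ((g : Matrix ι ι F) *ᵥ v) := by
    by_contra hc
    push Not at hc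
    exact hgn (mem_sim_of_axes hf (by omega) g fun v hv hv' => hc v hv hv')
  obtain ⟨v, hv0, hvv, hnd⟩ := hex
  have hd0 : (e • formVec f v) ⬝ᵥ v = 0 := utv_dot hf hvv e
  set x := (g : Matrix ι ι F) *ᵥ v with hxdef
  set ψ := (e • formVec f v) ᵥ* ((g⁻¹ : GL ι F) : Matrix ι ι F) with hψdef
  have hψx : ψ ⬝ᵥ x = 0 := by rw [hψdef, hxdef, vecMul_dot, hd0]
  have hψM : tv x ψ ∈ M := by
    rw [hψdef, hxdef, ← conj_tv g hd0]
    exact M.mul_mem (M.mul_mem hg (hT v e hvv he)) (M.inv_mem hg)
  have hx0 : x ≠ 0 := fun e => hv0 (gl_mulVec_injective g (by simpa [hxdef] using e))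
  obtain ⟨y, hy⟩ := formVec_surjective hl (add_right hf) hf.nondegenerate ψ
  have hyx : y ∉ Submodule.span F {x} := by
    intro hmem
    obtain ⟨a, ha⟩ := Submodule.mem_span_singleton.mp hmem
    apply hnd (e⁻¹ * σ a)
    have h1 : ψ = σ a • formVec f x := by rw [← hy, ← ha, formVec_smul hf]
    rw [hψdef, smul_vecMul] at h1
    rw [← smul_smul, ← h1, smul_smul, inv_mul_cancel₀ he0, one_smul]
  have hspan2 : ∀ p r : ι → F, Set.range ![p, r] = ({p, r} : Set (ι → F)) := fun p r => by
    simp [Matrix.range_cons, Matrix.range_empty, Set.pair_comm]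
  -- axes from isotropic vectors outside `span {x, y}`
  have hax1 : ∀ w, f w w = 0 → f w x = 0 → w ∉ Submodule.span F {x, y} →
      formVec f w ∈ axes M x := by
    intro w hww hwx hwS
    have hwdot : formVec f w ⬝ᵥ x = 0 := by rw [formVec_dot hl]; exact swap_eq_zero hf hwx
    refine ⟨hwdot, fun c => ?_⟩
    rcases eq_or_ne c 0 with rfl | hc
    · rw [zero_smul, tv_zero_right]; exact M.one_mem
    set μ : F := σ (c / (e * e)) with hμ
    have hyS : y ∉ Submodule.span F (Set.range ![x, w - σ μ • y]) := by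
      rw [hspan2, Submodule.mem_span_pair]
      rintro ⟨a, b, hab⟩
      rcases eq_or_ne b 0 with rfl | hb
      · exact hyx (Submodule.mem_span_singleton.mpr ⟨a, by simpa using hab⟩)
      · apply hwS
        rw [Submodule.mem_span_pair]
        refine ⟨-(a / b), (1 + b * σ μ) / b, ?_⟩
        have h2 : b • w = (1 + b * σ μ) • y - a • x := by
          linear_combination (norm := module) hab
        calc -(a / b) • x + ((1 + b * σ μ) / b) • y
            = b⁻¹ • ((1 + b * σ μ) • y - a • x) := by module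
          _ = w := by rw [← h2, smul_smul, inv_mul_cancel₀ hb, one_smul]
    obtain ⟨u, huu, hus, huy⟩ := exists_isotropic hf ![x, w - σ μ • y] hyS (by omega)
    have hux : f u x = 0 := by simpa using hus 0
    have huw : f u w = μ := by
      have h := hus 1
      rw [Matrix.cons_val_one, Matrix.cons_val_fin_one, sub_right hf, smul_right hf, huy,
        hf.involutive, mul_one, sub_eq_zero] at h
      exact h
    have hψu : ψ ⬝ᵥ u = 1 := by rw [← hy, formVec_dot hl, huy]
    have hudot : (e • formVec f u) ⬝ᵥ x = 0 := by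
      rw [smul_dotProduct, formVec_dot hl, swap_eq_zero hf hux, smul_zero]
    have h1 := tv_axis_shift_mem hψx (utv_dot hf huu e) hudot hψM (hT u e huu he)
    rw [hψu, one_smul] at h1
    have hwdot' : (e • formVec f w) ⬝ᵥ x = 0 := by rw [smul_dotProduct, hwdot, smul_zero]
    have h2 := tv_axis_shift_mem hudot (utv_dot hf hww e) hwdot' h1 (hT w e hww he)
    have hwu : f w u = c / (e * e) := by rw [hf.herm, huw, hμ, hf.involutive]
    rw [smul_dotProduct, formVec_dot hl, hwu, smul_eq_mul, smul_smul,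
      show e * (c / (e * e)) * e = c by field_simp] at h2
    exact h2
  have hax : ∀ z, f z x = 0 → formVec f z ∈ axes M x := by
    have hmain : ∀ z, f z x = 0 → z ∉ Submodule.span F {x} → formVec f z ∈ axes M x := by
      intro z hzx hzS
      have h3 : Module.finrank F (Submodule.span F ({x, z} : Set (ι → F))) ≤ 2 := by
        rw [← hspan2]; exact finrank_span_range_le _
      obtain ⟨t, htS, ht⟩ := exists_common_zero_not_mem (Submodule.span F ({x, z} : Set (ι → F)))
        ![formVec f x, formVec f y, formVec f z] (by omega)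
      have htx : f t x = 0 := by simpa [formVec_dot hl] using ht 0
      have hty : f t y = 0 := by simpa [formVec_dot hl] using ht 1
      have htz : f t z = 0 := by simpa [formVec_dot hl] using ht 2
      have hzS2 : z ∉ Submodule.span F (Set.range ![x, z - t]) := by
        rw [hspan2, Submodule.mem_span_pair]
        rintro ⟨a, b, hab⟩
        rcases eq_or_ne b 0 with rfl | hb
        · exact hzS (Submodule.mem_span_singleton.mpr ⟨a, by simpa using hab⟩)
        · apply htS
          rw [Submodule.mem_span_pair]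
          refine ⟨a / b, (b - 1) / b, ?_⟩
          have h2 : b • t = a • x + (b - 1) • z := by linear_combination (norm := module) -hab
          calc (a / b) • x + ((b - 1) / b) • z = b⁻¹ • (a • x + (b - 1) • z) := by module
            _ = t := by rw [← h2, smul_smul, inv_mul_cancel₀ hb, one_smul]
      obtain ⟨u, huu, hus, huz⟩ := exists_isotropic hf ![x, z - t] hzS2 (by omega)
      have hux : f u x = 0 := by simpa using hus 0
      have hut : f u t = 1 := by
        have h := hus 1
        rw [Matrix.cons_val_one, Matrix.cons_val_fin_one, sub_right hf, huz, sub_eq_zero] at h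
        exact h.symm
      have hnot : ∀ p, f p t ≠ 0 → p ∉ Submodule.span F {x, y} := by
        intro p hp hmem
        obtain ⟨a, b, rfl⟩ := Submodule.mem_span_pair.mp hmem
        apply hp
        rw [hf.add_left, hf.smul_left, hf.smul_left, swap_eq_zero hf htx, swap_eq_zero hf hty]
        simp
      obtain ⟨a, ha0, ha⟩ := exists_isotropic_shift hf huu (z := z) (by rw [huz]; exact one_ne_zero)
      have h1 := hax1 _ huu hux (hnot u (by rw [hut]; exact one_ne_zero))
      have h2 := hax1 _ ha (by rw [hf.add_left, hf.smul_left, hzx, hux, mul_zero, add_zero])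
        (hnot _ (by rw [hf.add_left, hf.smul_left, swap_eq_zero hf htz, hut, zero_add, mul_one]
                    exact ha0))
      have h3 := Submodule.sub_mem _ h2 (Submodule.smul_mem _ (σ a) h1)
      rwa [formVec_add hf, formVec_smul hf, add_sub_cancel_right] at h3
    intro z hz
    by_cases hzS : z ∈ Submodule.span F {x}
    · obtain ⟨p, hpS, hp⟩ := exists_common_zero_not_mem (Submodule.span F {x}) ![formVec f x]
        (by rw [finrank_span_singleton hx0]; omega)
      have hpx : f p x = 0 := by simpa [formVec_dot hl] using hp 0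
      have h1 := hmain (z + p) (by rw [hf.add_left, hz, hpx, add_zero]) fun hmem => hpS (by
        simpa using (Submodule.span F {x}).sub_mem hmem hzS)
      have h2 := Submodule.sub_mem _ h1 (hmain p hpx hpS)
      rwa [formVec_add hf, add_sub_cancel_right] at h2
    · exact hmain z hz hzS
  have hC : FullCenter M x := by
    intro φ hφ
    obtain ⟨z, rfl⟩ := formVec_surjective hl (add_right hf) hf.nondegenerate φ
    refine tv_mem_of_mem_axes (hax z ?_)
    rw [formVec_dot hl] at hφ
    exact swap_eq_zero hf hφ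
  refine specialLinear_le_of_irreducible (fun W hW => ?_) hx0 hC
  refine invariant_eq_top hf (by omega) he0 fun v hv w hw => ?_
  have := hW _ (hT v e hv he) w hw
  rwa [utv_mulVec hf hv] at this


/-- For a finite field F and n ≥ 13, let σ be a field automorphism of F of order two and f a non-degenerate unitary form on F^n with respect to σ. Then the elements of SL_n(F) that are similarities of f form a maximal subgroup of SL_n(F). -/
theorem result {F : Type*} [Field F] [Fintype F] (n : ℕ) (hn : 13 ≤ n) (σ : F ≃+* F) (f : (Fin n → F) → (Fin n → F) → F) (hf : Cfsg.Geo.IsUnitaryForm σ f) : Cfsg.Geo.IsMaximalIn (Cfsg.Geo.specialLinear (Fin n) F) (Cfsg.Geo.similarityGroup f ⊓ Cfsg.Geo.specialLinear (Fin n) F) := by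
  refine isMaximalIn_of inf_le_right (not_sim_exists hf (by rw [Fintype.card_fin]; omega)) ?_
  intro M hHM hMK g hgM hgH
  exact le_of_not_sim hf (by rw [Fintype.card_fin]; omega) hHM hgM fun h => hgH ⟨h, hMK hgM⟩

end Cfsg.Agent.S5643
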