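import Cfsg.Statements.S5886
import Cfsg.Agent.Lib.ExtFieldMax.OfMatrix

set_option autoImplicit false
open Cfsg

namespace Cfsg.Agent.S5886

/-- Let F be a finite field, n a positive integer and r a prime that divides n with r < n. Let K be a subalgebra of the algebra of n × n matrices over F which is a field of degree r over F (commutative, every non-zero element invertible, of dimension r over F; it contains the scalars). Then the normaliser N of K in GL_n(F) — the invertible F-linear maps that are semilinear over the field K, a group of type ΓL_{n/r}(F_{q^r}) for |F| = q — is a maximal subgroup of GL_n(F), and N ∩ SL_n(F) is a maximal subgroup of SL_n(F). No lower bound on n is assumed. -/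
theorem result {F : Type*} [Field F]
    [Fintype F] (n r : ℕ) (hr : r.Prime) (hrn : r ∣ n) (hlt : r < n) (K : Subalgebra F (Matrix (Fin n) (Fin n) F))
    (hK : Cfsg.Geo.IsFieldSubalgebra r K) :
    IsCoatom (Cfsg.Geo.subalgebraNormalizer K) ∧
      Cfsg.Geo.IsMaximalIn (Cfsg.Geo.specialLinear (Fin n) F)
        (Cfsg.Geo.subalgebraNormalizer K ⊓ Cfsg.Geo.specialLinear (Fin n) F) := by
  have hnot := Cfsg.Agent.Lib.FieldSub.not_specialLinear_le hK hr.one_lt hlt
  refine ⟨⟨fun h => hnot (h ▸ le_top), fun M hM => ?_⟩, ⟨lt_of_le_of_ne inf_le_right ?_, ?_⟩⟩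
  · rcases Cfsg.Agent.Lib.ExtFieldMax.le_or_specialLinear_le hr hrn hlt hK M
      (inf_le_left.trans hM.le) with h | h
    · exact absurd (hM.trans_le h) (lt_irrefl _)
    · refine eq_top_iff.2 fun g _ => ?_
      obtain ⟨d, hd, hdet⟩ := Cfsg.Agent.Lib.ExtFieldMax.exists_mem_normalizer_det hr hrn hlt hK
        (Matrix.GeneralLinearGroup.det g)
      have h1 : g * d⁻¹ ∈ Cfsg.Geo.specialLinear (Fin n) F := by
        rw [Cfsg.Geo.specialLinear, MonoidHom.mem_ker, map_mul, map_inv, hdet, mul_inv_cancel]
      simpa using M.mul_mem (h h1) (hM.le hd)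
  · exact fun h => hnot (inf_eq_right.1 h)
  · intro M h1 h2
    rcases Cfsg.Agent.Lib.ExtFieldMax.le_or_specialLinear_le hr hrn hlt hK M h1 with h | h
    · exact Or.inl (le_antisymm (le_inf h h2) h1)
    · exact Or.inr (le_antisymm h2 h)

end Cfsg.Agent.S5886
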