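import Cfsg.Statements.S2759
import Cfsg.Agent.Lib.LAEven54.Inverted
import Cfsg.Agent.Lib.CharP.Basic
import Cfsg.Agent.Lib.PGroups.Frattini
import Cfsg.Agent.Lib.Tech42.ClassTwoFactor.SFour

set_option autoImplicit false
open Cfsg

namespace Cfsg.Agent.S2759

open Cfsg.Agent.Lib Cfsg.Agent.Lib.LAEven54
open Cfsg.Agent.Lib.Tech42.ClassTwoFactor (act involves_of_pair)
open Cfsg.Agent.Lib.Transfer.InvolvesS4 (exists_hom_of_involves involves_of_hom
  involves_of_injective involves_of_surjective)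
open scoped commutatorElement

variable {G : Type*} [Group G]

theorem act_mul (g h v : G) : act (g * h) v = act g (act h v) := by simp only [act]; group

theorem act_prod (g u v : G) : act g (u * v) = act g u * act g v := by simp only [act]; group

/-- A two-group acting on a non-trivial finite elementary abelian two-group fixes a non-trivial
element. -/
theorem exists_fixed {W : Subgroup G} (hW : ∀ a ∈ W, ∀ b ∈ W, a * b = b * a ∧ a * a = 1)
    (hne : ∃ w ∈ W, w ≠ 1) :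
    ∀ (k : ℕ) {g : G}, (∀ w ∈ W, act g w ∈ W) → (∀ w ∈ W, act (g ^ 2 ^ k) w = w) →
      ∃ w ∈ W, w ≠ 1 ∧ act g w = w := by
  intro k
  induction k with
  | zero =>
    intro g _ h
    obtain ⟨w, hw, hw1⟩ := hne
    exact ⟨w, hw, hw1, by simpa using h w hw⟩
  | succ k ih =>
    intro g hg h
    have hg2 : ∀ w ∈ W, act (g ^ 2) w ∈ W := fun w hw => by
      rw [sq, act_mul]; exact hg _ (hg w hw)
    obtain ⟨w, hw, hw1, hfix⟩ := ih hg2 (fun w hw => by rw [← pow_mul, ← pow_succ']; exact h w hw)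
    by_cases hgw : act g w = w
    · exact ⟨w, hw, hw1, hgw⟩
    refine ⟨w * act g w, W.mul_mem hw (hg w hw), fun h1 => hgw ?_, ?_⟩
    · calc act g w = w * w * act g w := by rw [(hW w hw w hw).2, one_mul]
        _ = w := by rw [mul_assoc, h1, mul_one]
    · rw [act_prod, ← act_mul, ← sq, hfix]
      exact (hW _ (hg w hw) w hw).1

/-- An elementary abelian two-group with an element of order three inverted by a two-element. -/
theorem involves_of_inverted [Finite G] (V : Subgroup G)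
    (hV : ∀ a ∈ V, ∀ b ∈ V, a * b = b * a ∧ a * a = 1) (s y : G)
    (hs : ∀ v ∈ V, act s v ∈ V) (hy : ∀ v ∈ V, act y v ∈ V) (k : ℕ) (hsk : s ^ 2 ^ k = 1)
    (hy3 : ∀ v ∈ V, act (y ^ 3) v = v) (hinv : ∀ v ∈ V, act y (act s (act y v)) = act s v)
    (hne : ∃ v ∈ V, act y v ≠ v) : Cfsg.Involves (Equiv.Perm (Fin 4)) G := by
  have hcom : ∀ {a b : G}, a ∈ V → b ∈ V → a * b = b * a := fun ha hb => (hV _ ha _ hb).1
  have hsq : ∀ {a : G}, a ∈ V → a * a = 1 := fun ha => (hV _ ha _ ha).2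
  have hinv' : ∀ v ∈ V, act y (act y (act y v)) = v := fun v hv => by
    rw [← act_mul, ← act_mul]; simpa [pow_succ, mul_assoc] using hy3 v hv
  -- `s²` commutes with `y` on `V`
  have hc : ∀ v ∈ V, act (s ^ 2) (act y v) = act y (act (s ^ 2) v) := by
    intro v hv
    have h1 : ∀ u ∈ V, act s (act y u) = act y (act y (act s u)) := fun u hu => by
      rw [← hinv u hu, hinv' _ (hs _ (hy u hu))]
    have h2 : ∀ u ∈ V, act s (act y (act y u)) = act y (act s u) := fun u hu => by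
      rw [h1 _ (hy u hu), h1 u hu, hinv' _ (hy _ (hs u hu))]
    rw [sq, act_mul, act_mul, h1 v hv, h2 _ (hs v hv)]
  have hs2 : ∀ v ∈ V, act (s ^ 2) v ∈ V := fun v hv => by rw [sq, act_mul]; exact hs _ (hs v hv)
  let W : Subgroup G :=
    { carrier := {w | ∃ v ∈ V, w = v * act y v}
      one_mem' := ⟨1, V.one_mem, by simp [act]⟩
      mul_mem' := by
        rintro _ _ ⟨a, ha, rfl⟩ ⟨b, hb, rfl⟩
        refine ⟨a * b, V.mul_mem ha hb, ?_⟩
        rw [act_prod, mul_assoc, ← mul_assoc (act y a), hcom (hy a ha) hb]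
        group
      inv_mem' := by
        rintro _ ⟨a, ha, rfl⟩
        refine ⟨a, ha, inv_eq_of_mul_eq_one_right ?_⟩
        rw [hsq (V.mul_mem ha (hy a ha))] }
  have hWV : ∀ w ∈ W, w ∈ V := by
    rintro _ ⟨a, ha, rfl⟩; exact V.mul_mem ha (hy a ha)
  obtain ⟨w, hwW, hw1, hfix⟩ := exists_fixed (W := W)
    (fun a ha b hb => hV a (hWV a ha) b (hWV b hb))
    (by
      obtain ⟨v, hv, hv'⟩ := hne
      exact ⟨v * act y v, ⟨v, hv, rfl⟩, fun h => hv' (by
        calc act y v = v * v * act y v := by rw [hsq hv, one_mul]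
          _ = v := by rw [mul_assoc, h, mul_one])⟩)
    k (g := s ^ 2)
    (by rintro _ ⟨a, ha, rfl⟩; exact ⟨act (s ^ 2) a, hs2 a ha, by rw [act_prod, hc a ha]⟩)
    (fun w _ => by rw [← pow_mul, mul_comm, pow_mul, hsk, one_pow]; simp [act])
  -- `y` moves `w`
  have hyw : act y w ≠ w := by
    intro h
    obtain ⟨a, ha, rfl⟩ := hwW
    have h2 := h
    rw [act_prod] at h2
    -- `y (y a) = a`
    have h3 : act y (act y a) = a := by
      rw [hcom (hy a ha) (hy _ (hy a ha))] at h2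
      exact mul_right_cancel h2
    have h4 := hinv' a ha
    rw [h3] at h4
    rw [h4, hsq ha] at hw1
    exact hw1 rfl
  let V' : Subgroup G :=
    { carrier := {v | v ∈ V ∧ act (s ^ 2) v = v}
      one_mem' := ⟨V.one_mem, by simp [act]⟩
      mul_mem' := fun ha hb => ⟨V.mul_mem ha.1 hb.1, by rw [act_prod, ha.2, hb.2]⟩
      inv_mem' := fun {a} ha => by
        rwa [inv_eq_of_mul_eq_one_right (hsq ha.1)] }
  have hV'y : ∀ v ∈ V', act y v ∈ V' := fun v hv => ⟨hy v hv.1, by rw [hc v hv.1, hv.2]⟩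
  have hV's : ∀ v ∈ V', act s v ∈ V' := fun v hv => ⟨hs v hv.1, by
    rw [← act_mul, show s ^ 2 * s = s * s ^ 2 by rw [← pow_succ, pow_succ'], act_mul, hv.2]⟩
  have hst : ∀ v ∈ V', act (s * (s * y)) v = act y v := fun v hv => by
    rw [← mul_assoc, ← sq, act_mul]; exact (hV'y v hv).2
  refine involves_of_pair V' (fun a ha b hb => hV a ha.1 b hb.1) s (s * y) hV's ?_ ?_ ?_ ?_ ?_
  · intro v hv
    show act (s * y) v ∈ V'
    rw [act_mul]; exact hV's _ (hV'y v hv)
  · intro v hv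
    show act s (act s v) = v
    rw [← act_mul, ← sq]; exact hv.2
  · intro v hv
    show act (s * y) (act (s * y) v) = v
    rw [act_mul s y v, act_mul, hinv v hv.1, ← act_mul, ← sq]
    exact hv.2
  · intro v hv
    show act ((s * (s * y)) ^ 3) v = v
    have h' : act ((s * (s * y)) ^ 3) v
        = act (s * (s * y)) (act (s * (s * y)) (act (s * (s * y)) v)) := by
      rw [← act_mul, ← act_mul]; simp [pow_succ, mul_assoc]
    rw [h', hst v hv, hst _ (hV'y v hv), hst _ (hV'y _ (hV'y v hv))]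
    exact hinv' v hv.1
  · refine ⟨w, ⟨hWV w hwW, hfix⟩, ?_⟩
    show act (s * (s * y)) w ≠ w
    rw [hst w ⟨hWV w hwW, hfix⟩]
    exact hyw

theorem backward [Finite G] : (∃ T : Subgroup G, IsPGroup 2 ↥T ∧ Cfsg.Involves (Equiv.Perm (Fin 3))
    (↥(Subgroup.normalizer (T : Set G)) ⧸
      (Subgroup.centralizer (T : Set G)).subgroupOf (Subgroup.normalizer (T : Set G)))) →
    Cfsg.Involves (Equiv.Perm (Fin 4)) G := by
  classical
  rintro ⟨T, hT, h⟩
  haveI : Fact (Nat.Prime 3) := ⟨Nat.prime_three⟩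
  haveI : Fact (Nat.Prime 2) := ⟨Nat.prime_two⟩
  set A := ↥(Subgroup.normalizer (T : Set G)) ⧸
      (Subgroup.centralizer (T : Set G)).subgroupOf (Subgroup.normalizer (T : Set G))
  obtain ⟨K, φ, hφ⟩ := exists_hom_of_involves h
  let c : Equiv.Perm (Fin 3) := Equiv.swap 0 1 * Equiv.swap 1 2
  have hc : orderOf c = 3 := orderOf_eq_prime (by decide) (by decide)
  haveI : (Subgroup.zpowers c).Normal := Subgroup.normal_of_index_eq_two (by
    have h := (Subgroup.zpowers c).index_mul_card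
    rw [Nat.card_zpowers, hc, Nat.card_perm, Nat.card_fin] at h
    simp [Nat.factorial] at h
    omega)
  obtain ⟨x₁, P, hx₁, hP, hN, hC⟩ := Inverted.exists_normalizing_of_section (p := 3) (by decide) K φ hφ
    (M := Subgroup.zpowers c) (a := Equiv.swap 0 1)
    (IsPGroup.of_card (n := 1) (by rw [Nat.card_zpowers, hc, pow_one])) (by decide)
    (fun h => absurd ((Subgroup.mem_centralizer_iff.1 h) c (Subgroup.mem_zpowers c)) (by decide))
  obtain ⟨x, y₁, ⟨k, hk⟩, hy₁P, -, hy₁, hxy₁⟩ := Inverted.exists_inverted_of_normalizer hx₁ hP hN hC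
  obtain ⟨m, hm⟩ := Inverted.exists_orderOf_prime (p := 3) (y := y₁)
    (by obtain ⟨j, hj⟩ := IsPGroup.iff_orderOf.1 hP ⟨y₁, hy₁P⟩
        exact ⟨j, (Subgroup.orderOf_coe ⟨y₁, hy₁P⟩).trans hj⟩) hy₁
  set y := y₁ ^ m with hy
  have hxy : x * y * x⁻¹ = y⁻¹ := by rw [hy, ← conj_pow, hxy₁, inv_pow]
  -- lifts
  obtain ⟨X₀, hX₀⟩ := QuotientGroup.mk_surjective x
  obtain ⟨Y₀, hY₀⟩ := QuotientGroup.mk_surjective y
  obtain ⟨e, ⟨e', he'⟩, k', hk'⟩ := Inverted.exists_two_part X₀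
  obtain ⟨a, ha⟩ := CharP.exists_pow_coprime (p := 2) Y₀
  set X := X₀ ^ e with hX
  set Y := Y₀ ^ 2 ^ a with hY
  have hxe : x ^ e * y ^ 2 ^ a * (x ^ e)⁻¹ = (y ^ 2 ^ a)⁻¹ := by
    have hxx : x ^ 2 * y = y * x ^ 2 := by
      have h1 : x * (x * y * x⁻¹) * x⁻¹ = y := by rw [hxy, ← conj_inv, hxy, inv_inv]
      rw [Inverted.conj_two] at h1
      exact mul_inv_eq_iff_eq_mul.1 h1
    have h2 : (x ^ 2) ^ e' * y * ((x ^ 2) ^ e')⁻¹ = y := by
      rw [((show Commute (x ^ 2) y from hxx).pow_left e').eq, mul_inv_cancel_right]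
    have h3 : x ^ e * y * (x ^ e)⁻¹ = y⁻¹ := by
      calc x ^ e * y * (x ^ e)⁻¹ = x * ((x ^ 2) ^ e' * y * ((x ^ 2) ^ e')⁻¹) * x⁻¹ := by
            rw [he', pow_succ', pow_mul]; group
        _ = y⁻¹ := by rw [h2, hxy]
    rw [← conj_pow, h3, inv_pow]
  have hrelC : (X : G) * Y * (X : G)⁻¹ * Y ∈ Subgroup.centralizer (T : Set G) := by
    have : ((X * Y * X⁻¹ * Y : ↥(Subgroup.normalizer (T : Set G))) : A) = 1 := by
      rw [hX, hY]
      simp only [QuotientGroup.mk_mul, QuotientGroup.mk_inv, QuotientGroup.mk_pow, hX₀, hY₀]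
      rw [hxe, inv_mul_cancel]
    exact Subgroup.mem_subgroupOf.1 ((QuotientGroup.eq_one_iff _).1 this)
  have hY3 : (Y : G) ^ 3 ∈ Subgroup.centralizer (T : Set G) := by
    have : ((Y ^ 3 : ↥(Subgroup.normalizer (T : Set G))) : A) = 1 := by
      rw [QuotientGroup.mk_pow, hY, QuotientGroup.mk_pow, hY₀, ← pow_mul, mul_comm, pow_mul,
        ← hm, pow_orderOf_eq_one, one_pow]
    exact Subgroup.mem_subgroupOf.1 ((QuotientGroup.eq_one_iff _).1 this)
  have hYC : (Y : G) ∉ Subgroup.centralizer (T : Set G) := by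
    intro h
    have : (Y : A) = 1 := (QuotientGroup.eq_one_iff _).2 (Subgroup.mem_subgroupOf.2 h)
    rw [hY, QuotientGroup.mk_pow, hY₀] at this
    have h3 : 3 ∣ 2 ^ a := hm ▸ orderOf_dvd_of_pow_eq_one this
    exact absurd (Nat.prime_three.dvd_of_dvd_pow h3) (by decide)
  -- a smallest invariant subgroup
  obtain ⟨T', ⟨hT'T, hXT', hYT', hYnc⟩, hmin⟩ := WellFounded.has_min
    (wellFounded_lt (α := Subgroup G)) {U | U ≤ T ∧ (X : G) ∈ Subgroup.normalizer (U : Set G) ∧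
      (Y : G) ∈ Subgroup.normalizer (U : Set G) ∧ (Y : G) ∉ Subgroup.centralizer (U : Set G)}
    ⟨T, le_rfl, X.2, Y.2, hYC⟩
  have hT' : IsPGroup 2 ↥T' := hT.to_le hT'T
  set Φ : Subgroup G := (frattini ↥T').map T'.subtype with hΦ
  have hΦT : Φ ≤ T' := Subgroup.map_subtype_le _
  have hnΦ : Subgroup.normalizer (T' : Set G) ≤ Subgroup.normalizer (Φ : Set G) := by
    intro g hg
    rw [Subgroup.mem_normalizer_iff_map_conj_eq] at hg
    rw [Subgroup.mem_normalizer_iff_map_conj_eq]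
    let e : ↥T' ≃* ↥T' := ((MulAut.conj g).subgroupMap T').trans (MulEquiv.subgroupCongr hg)
    have he : (frattini ↥T').map e.toMonoidHom = frattini ↥T' :=
      Subgroup.characteristic_iff_map_eq.1 inferInstance e
    show Φ.map (MulAut.conj g).toMonoidHom = Φ
    conv_rhs => rw [hΦ, ← he, Subgroup.map_map]
    rw [hΦ, Subgroup.map_map]
    congr 1
  have hcomm : ∀ t ∈ T', ∀ u ∈ T', t * u * t⁻¹ * u⁻¹ ∈ Φ := fun t ht u hu =>
    ⟨⟨t * u * t⁻¹ * u⁻¹, T'.mul_mem (T'.mul_mem (T'.mul_mem ht hu) (T'.inv_mem ht)) (T'.inv_mem hu)⟩,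
      PGroups.commutatorElement_mem_frattini hT' ⟨t, ht⟩ ⟨u, hu⟩, rfl⟩
  have hsq : ∀ t ∈ T', t * t ∈ Φ := fun t ht =>
    ⟨⟨t * t, T'.mul_mem ht ht⟩, by
      have := PGroups.pow_mem_frattini hT' (⟨t, ht⟩ : ↥T')
      rwa [sq] at this, rfl⟩
  -- `Y` acts non-trivially modulo the Frattini subgroup
  have hmove : ∃ t ∈ T', ¬ ((Y : G) * t * (Y : G)⁻¹ * t⁻¹ ∈ Φ) := by
    by_contra hc
    push Not at hc
    have hne : T' ≠ ⊥ := by
      rintro rfl
      apply hYnc
      rw [Subgroup.mem_centralizer_iff]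
      intro v hv
      rw [SetLike.mem_coe, Subgroup.mem_bot] at hv
      rw [hv, one_mul, mul_one]
    have hΦlt : Φ < T' := by
      refine lt_of_le_of_ne hΦT fun h => ?_
      haveI : Nontrivial ↥T' := (Subgroup.nontrivial_iff_ne_bot T').2 hne
      have h1 : frattini ↥T' = ⊤ := by
        have h2 := congrArg (Subgroup.comap T'.subtype) h
        rwa [hΦ, Subgroup.comap_map_eq_self_of_injective T'.subtype_injective,
          Subgroup.comap_subtype, Subgroup.subgroupOf_self] at h2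
      obtain ⟨M, hM, -⟩ := (eq_top_or_exists_le_coatom (⊥ : Subgroup ↥T')).resolve_left bot_ne_top
      exact hM.1 (top_le_iff.1 (h1 ▸ frattini_le_coatom hM))
    have hYΦ : (Y : G) ∈ Subgroup.centralizer (Φ : Set G) := by
      by_contra hY'
      exact hmin Φ ⟨hΦT.trans hT'T, hnΦ hXT', hnΦ hYT', hY'⟩ hΦlt
    apply hYnc
    refine CharP.mem_centralizer_of_two_step (p := 2) (hT'.to_le hΦT) (Subgroup.orderOf_coe Y ▸ ha) ?_ hYΦ
    intro v hv
    rw [CharP.comm_mem_symm, commutatorElement_def]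
    exact hc v hv
  -- pass to `N(T')/Φ`
  set N' := Subgroup.normalizer (T' : Set G) with hN'
  haveI : (Φ.subgroupOf N').Normal :=
    (Subgroup.normal_subgroupOf_iff_le_normalizer (hΦT.trans Subgroup.le_normalizer)).2 hnΦ
  let π := QuotientGroup.mk' (Φ.subgroupOf N')
  have hπ : ∀ g : ↥N', π g = 1 ↔ (g : G) ∈ Φ := fun g => QuotientGroup.eq_one_iff g
  refine involves_of_injective N'.subtype N'.subtype_injective
    (involves_of_surjective π (QuotientGroup.mk'_surjective _) ?_)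
  have hmemV : ∀ v ∈ (T'.subgroupOf N').map π, ∃ t : ↥N', (t : G) ∈ T' ∧ π t = v := by
    rintro v ⟨t, ht, rfl⟩; exact ⟨t, ht, rfl⟩
  have hactπ : ∀ g t : ↥N', act (π g) (π t) = π (g * t * g⁻¹) := fun g t => by simp [act]
  refine involves_of_inverted ((T'.subgroupOf N').map π) ?_ (π ⟨X, hXT'⟩) (π ⟨Y, hYT'⟩) ?_ ?_ k' ?_ ?_ ?_ ?_
  · intro a ha b hb
    obtain ⟨t, ht, rfl⟩ := hmemV a ha
    obtain ⟨u, hu, rfl⟩ := hmemV b hb
    refine ⟨?_, ?_⟩
    · rw [← mul_inv_eq_one, mul_inv_rev, ← map_mul, ← map_inv, ← map_inv, ← map_mul, ← map_mul, hπ]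
      simpa [mul_assoc] using hcomm _ ht _ hu
    · rw [← map_mul, hπ]; exact hsq _ ht
  · intro v hv
    obtain ⟨t, ht, rfl⟩ := hmemV v hv
    rw [hactπ]
    exact ⟨_, ((Subgroup.mem_normalizer_iff.1 hXT') t).1 ht, rfl⟩
  · intro v hv
    obtain ⟨t, ht, rfl⟩ := hmemV v hv
    rw [hactπ]
    exact ⟨_, ((Subgroup.mem_normalizer_iff.1 hYT') t).1 ht, rfl⟩
  · rw [← map_pow, show (⟨(X : G), hXT'⟩ : ↥N') ^ 2 ^ k' = 1 from Subtype.ext
      (show (X : G) ^ 2 ^ k' = 1 by rw [← Subgroup.coe_pow, ← hk', pow_orderOf_eq_one]; rfl), map_one]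
  · intro v hv
    obtain ⟨t, ht, rfl⟩ := hmemV v hv
    rw [← map_pow, hactπ]
    congr 1
    apply Subtype.ext
    show (Y : G) ^ 3 * t * ((Y : G) ^ 3)⁻¹ = t
    rw [← (Subgroup.mem_centralizer_iff.1 hY3) t (hT'T ht), mul_inv_cancel_right]
  · intro v hv
    obtain ⟨t, ht, rfl⟩ := hmemV v hv
    simp only [hactπ]
    congr 1
    apply Subtype.ext
    show (Y : G) * ((X : G) * ((Y : G) * t * (Y : G)⁻¹) * (X : G)⁻¹) * (Y : G)⁻¹ = (X : G) * t * (X : G)⁻¹
    have hXt : (X : G) * t * (X : G)⁻¹ ∈ T' := ((Subgroup.mem_normalizer_iff.1 hXT') t).1 ht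
    -- `Y X Y ≡ X` modulo the centralizer
    have hcen : (Y : G) * ((X : G) * Y * (X : G)⁻¹) ∈ Subgroup.centralizer (T : Set G) := by
      have hn : (Subgroup.centralizer (T : Set G)).subgroupOf (Subgroup.normalizer (T : Set G)) |>.Normal :=
        inferInstance
      have h1 := hn.conj_mem (X * Y * X⁻¹ * Y) (Subgroup.mem_subgroupOf.2 hrelC) Y
      rw [Subgroup.mem_subgroupOf] at h1
      simpa [mul_assoc] using h1
    calc (Y : G) * ((X : G) * ((Y : G) * t * (Y : G)⁻¹) * (X : G)⁻¹) * (Y : G)⁻¹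
        = (Y * (X * Y * (X : G)⁻¹)) * ((X : G) * t * (X : G)⁻¹) *
            (Y * (X * Y * (X : G)⁻¹))⁻¹ := by group
      _ = _ := by
        rw [← (Subgroup.mem_centralizer_iff.1 hcen) _ (hT'T hXt), mul_inv_cancel_right]
  · obtain ⟨t, ht, htne⟩ := hmove
    refine ⟨π ⟨t, Subgroup.le_normalizer ht⟩, ⟨⟨t, Subgroup.le_normalizer ht⟩, ht, rfl⟩, fun h => htne ?_⟩
    rw [hactπ, ← mul_inv_eq_one, ← map_inv, ← map_mul, hπ] at h
    exact h

/-- The action of `Sym(4)` on its three four-point pairings, as a function. -/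
def pairFun (σ : Equiv.Perm (Fin 4)) (j : Fin 3) : Fin 3 :=
  let a := σ 0
  let b := σ (Fin.succ j)
  if ha : a = 0 then (if hb : b = 0 then 0 else b.pred hb)
  else if hb : b = 0 then a.pred ha
  else (if a.val + b.val = 3 then 2 else if a.val + b.val = 4 then 1 else 0)

theorem pairFun_mul : ∀ σ τ : Equiv.Perm (Fin 4), ∀ j, pairFun (σ * τ) j = pairFun σ (pairFun τ j) := by
  decide +kernel

theorem pairFun_one : ∀ j, pairFun 1 j = j := by decide +kernel

/-- The action of `Sym(4)` on its three four-point pairings. -/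
def pairHom : Equiv.Perm (Fin 4) →* Equiv.Perm (Fin 3) :=
  MonoidHom.mk' (fun σ => ⟨pairFun σ, pairFun σ⁻¹,
    fun j => by rw [← pairFun_mul, inv_mul_cancel, pairFun_one],
    fun j => by rw [← pairFun_mul, mul_inv_cancel, pairFun_one]⟩)
    fun σ τ => Equiv.ext (pairFun_mul σ τ)

theorem pairFun_surj : ∀ ρ : Equiv.Perm (Fin 3), ∃ σ : Equiv.Perm (Fin 4), ∀ j, pairFun σ j = ρ j := by
  decide +kernel

theorem pairFun_centralizer : ∀ σ : Equiv.Perm (Fin 4),
    (∀ τ : Equiv.Perm (Fin 4), (∀ j, pairFun τ j = j) → τ * σ = σ * τ) → ∀ j, pairFun σ j = j := by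
  decide +kernel

theorem pairFun_ker_order : ∀ τ : Equiv.Perm (Fin 4), (∀ j, pairFun τ j = j) → τ * τ = 1 := by
  decide +kernel

theorem pairHom_ker_iff (τ : Equiv.Perm (Fin 4)) : τ ∈ pairHom.ker ↔ ∀ j, pairFun τ j = j := by
  rw [MonoidHom.mem_ker]
  exact ⟨fun h j => congrArg (fun e : Equiv.Perm (Fin 3) => e j) h, fun h => Equiv.ext h⟩

theorem forward [Finite G] (h : Cfsg.Involves (Equiv.Perm (Fin 4)) G) :
    ∃ T : Subgroup G, IsPGroup 2 ↥T ∧ Cfsg.Involves (Equiv.Perm (Fin 3))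
    (↥(Subgroup.normalizer (T : Set G)) ⧸
      (Subgroup.centralizer (T : Set G)).subgroupOf (Subgroup.normalizer (T : Set G))) := by
  classical
  haveI : Fact (Nat.Prime 2) := ⟨Nat.prime_two⟩
  obtain ⟨K, φ, hφ⟩ := exists_hom_of_involves h
  set M := pairHom.ker with hM
  have hMp : IsPGroup 2 ↥M := by
    rintro ⟨τ, hτ⟩
    refine ⟨1, Subtype.ext ?_⟩
    show τ ^ 2 ^ 1 = 1
    rw [pow_one, sq]
    exact pairFun_ker_order τ ((pairHom_ker_iff τ).1 hτ)
  obtain ⟨S⟩ : Nonempty (Sylow 2 ↥(M.comap φ)) := inferInstance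
  set Q : Subgroup ↥K := (S : Subgroup ↥(M.comap φ)).map (M.comap φ).subtype with hQ
  have hfr : Subgroup.normalizer (Q : Set ↥K) ⊔ M.comap φ = ⊤ := Sylow.normalizer_sup_eq_top S
  have hQM : Q.map φ = M := by
    have hs : Function.Surjective (φ.subgroupComap M) := by
      intro m
      obtain ⟨k, hk⟩ := hφ m
      exact ⟨⟨k, show φ k ∈ M by rw [hk]; exact m.2⟩, Subtype.ext hk⟩
    have h1 : ((S.mapSurjective hs : Sylow 2 ↥M) : Subgroup ↥M) = ⊤ :=
      ((S.mapSurjective hs).is_maximal' (hMp.to_subgroup ⊤) le_top).symm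
    rw [Sylow.coe_mapSurjective] at h1
    have h2 := congrArg (Subgroup.map M.subtype) h1
    rw [Subgroup.map_map, ← MonoidHom.range_eq_map, Subgroup.range_subtype] at h2
    rw [hQ, Subgroup.map_map]
    exact h2
  set T := Q.map K.subtype with hT
  refine ⟨T, (S.2.map _).map _, ?_⟩
  set N := Subgroup.normalizer (T : Set G) with hN
  -- the normaliser of `Q` maps onto the symmetric group of degree three
  have hle : ∀ n : ↥(Subgroup.normalizer (Q : Set ↥K)), ((n : ↥K) : G) ∈ N := fun n =>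
    Subgroup.le_normalizer_map K.subtype ⟨n, n.2, rfl⟩
  let ι : ↥(Subgroup.normalizer (Q : Set ↥K)) →* ↥N :=
    MonoidHom.mk' (fun n => ⟨((n : ↥K) : G), hle n⟩) fun _ _ => rfl
  let q := (QuotientGroup.mk' ((Subgroup.centralizer (T : Set G)).subgroupOf N)).comp ι
  let ψ := (pairHom.comp φ).comp (Subgroup.normalizer (Q : Set ↥K)).subtype
  have hker : q.ker ≤ ψ.ker := by
    intro n hn
    have hc : ((n : ↥K) : G) ∈ Subgroup.centralizer (T : Set G) :=
      Subgroup.mem_subgroupOf.1 ((QuotientGroup.eq_one_iff (ι n)).1 hn)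
    show pairHom (φ n) = 1
    refine Equiv.ext (pairFun_centralizer _ fun τ hτ => ?_)
    have hτM : τ ∈ M := (pairHom_ker_iff τ).2 hτ
    rw [← hQM] at hτM
    obtain ⟨w, hw, rfl⟩ := hτM
    rw [← map_mul, ← map_mul]
    exact congrArg φ (Subtype.ext ((Subgroup.mem_centralizer_iff.1 hc) _ ⟨w, hw, rfl⟩))
  have hψ : Function.Surjective ψ := by
    intro ρ
    obtain ⟨σ, hσ⟩ := pairFun_surj ρ
    obtain ⟨k, hk⟩ := hφ σ
    have hmem : k ∈ Subgroup.normalizer (Q : Set ↥K) ⊔ M.comap φ := by rw [hfr]; trivial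
    rw [Subgroup.mem_sup_of_normal_right] at hmem
    obtain ⟨n, hn, m, hm, rfl⟩ := hmem
    refine ⟨⟨n, hn⟩, ?_⟩
    show pairHom (φ n) = ρ
    have h1 : pairHom (φ m) = 1 := hm
    rw [map_mul] at hk
    rw [← Equiv.ext hσ (f := pairHom σ), ← hk, map_mul, h1, mul_one]
  refine involves_of_hom q.range
    ((QuotientGroup.lift q.ker ψ hker).comp (QuotientGroup.quotientKerEquivRange q).symm.toMonoidHom) ?_
  exact (QuotientGroup.lift_surjective_of_surjective _ _ hψ hker).comp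
    (QuotientGroup.quotientKerEquivRange q).symm.surjective

/-- For a finite group G, the symmetric group of degree 4 is involved in G if and only if there is a 2-subgroup T of G such that the symmetric group of degree 3 is involved in N(T)/C(T). -/
theorem result {G : Type*} [Group G] [Finite G] : Cfsg.Involves (Equiv.Perm (Fin 4)) G ↔ ∃ T : Subgroup G, IsPGroup 2 ↥T ∧ Cfsg.Involves (Equiv.Perm (Fin 3)) (↥(Subgroup.normalizer (T : Set G)) ⧸ (Subgroup.centralizer (T : Set G)).subgroupOf (Subgroup.normalizer (T : Set G))) := by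
  exact ⟨forward, backward⟩

end Cfsg.Agent.S2759
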