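import Cfsg.Statements.S1262
import Cfsg.Agent.Lib.Components.Basic

set_option autoImplicit false
set_option linter.style.haveILetI false
open scoped commutatorElement
open Cfsg

namespace Cfsg.Agent.S1262

/-- Let L be a component of the finite group G and H a solvable subgroup normalized by L. Then ⁅L, H⁆ = 1. -/
theorem result {G : Type*} [Group G] [Finite G] (L H : Subgroup G) (hL : Cfsg.IsComponent L) (hsolv : Group.IsSolvable ↥H) (hinv : L ≤ Subgroup.normalizer (H : Set G)) : ⁅L, H⁆ = ⊥ := by
  haveI : (H.subgroupOf (L ⊔ H)).Normal :=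
    Subgroup.normal_subgroupOf_of_le_normalizer (sup_le hinv Subgroup.le_normalizer)
  haveI : Group.IsSolvable ↥(H.subgroupOf (L ⊔ H)) :=
    Group.isSolvable_of_surjective
      (f := (Subgroup.subgroupOfEquivOfLe (le_sup_right : H ≤ L ⊔ H)).symm.toMonoidHom)
      (Subgroup.subgroupOfEquivOfLe (le_sup_right : H ≤ L ⊔ H)).symm.surjective
  have h := Cfsg.Agent.Lib.Components.Component.commutator_eq_bot_of_isSolvable
    (Cfsg.Agent.Lib.Components.Component.subgroupOf hL (le_sup_left : L ≤ L ⊔ H))
    (N := H.subgroupOf (L ⊔ H)) (Subgroup.Normal.isSubnormal inferInstance)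
  rw [Cfsg.Agent.Lib.Components.commutator_subgroupOf_eq_bot_iff le_sup_right le_sup_left,
    Subgroup.commutator_comm] at h
  exact h

end Cfsg.Agent.S1262
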