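import Cfsg.Statements.S0089
import Cfsg.Agent.Lib.Transfer.Hall

set_option autoImplicit false
open Cfsg

namespace Cfsg.Agent.S0089

/-- When all Sylow subgroups are abelian, the derived subgroup meets the centre trivially. -/
theorem result {G : Type*} [Group G] [Finite G] (h : ∀ p : ℕ, p.Prime → ∀ P : Sylow p G, IsMulCommutative P) : commutator G ⊓ Subgroup.center G = ⊥ := by
  rw [eq_bot_iff]
  intro z hz
  rw [Subgroup.mem_bot]
  by_contra hz1
  have h1 : orderOf z ≠ 1 := fun h' => hz1 (orderOf_eq_one_iff.1 h')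
  set p := (orderOf z).minFac with hp
  haveI := Fact.mk (Nat.minFac_prime h1)
  obtain ⟨a, ha⟩ := Nat.minFac_dvd (orderOf z)
  have hy : z ^ a ∈ commutator G ⊓ Subgroup.center G := pow_mem hz a
  have hord : orderOf (z ^ a) = p := by
    have ha0 : a ≠ 0 := by
      rintro rfl
      rw [mul_zero] at ha
      exact (orderOf_pos z).ne' ha
    rw [orderOf_pow_of_dvd ha0 ⟨_, by rw [ha, mul_comm]⟩, ha, ← hp,
      Nat.mul_div_cancel _ (Nat.pos_of_ne_zero ha0)]
  have hzp : IsPGroup p (Subgroup.zpowers (z ^ a)) :=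
    IsPGroup.of_card (n := 1) (by rw [Nat.card_zpowers, hord, pow_one])
  obtain ⟨P, hP⟩ := hzp.exists_le_sylow
  have := Lib.Transfer.Hall.eq_one_of_mem_center (P : Subgroup G)
    (h p (Fact.out) P) P.card_coprime_index (hP (Subgroup.mem_zpowers _)) hy.1 hy.2
  rw [this, orderOf_one] at hord
  exact (Fact.out : p.Prime).one_lt.ne hord

end Cfsg.Agent.S0089
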