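import Cfsg.Statements.S4481
import Cfsg.Agent.Lib.DihedralBlock.Main
-- import your own Cfsg.Agent.* helpers here

set_option autoImplicit false
open Cfsg

namespace Cfsg.Agent.S4481

/-- The principal 2-block of a group with dihedral Sylow 2-subgroups. Let G be a finite group whose Sylow 2-subgroup P is dihedral of order 2^n ≥ 8, let σ be an element of P of order 2^(n−1), ζ a primitive 2^(n−1)-th root of unity, and M a maximal ideal of the algebraic integers containing 2. Then the principal 2-block consists of exactly 3 + 2^(n−2) irreducible characters, which can be labelled 1, χ₁, χ₂, χ₃ and χ^(j) for 1 ≤ j ≤ 2^(n−2) − 1 (all distinct), with signs δ₁, δ₂, δ₃ such that for 0 < λ < 2^(n−1): χ₁(σ^λ) = δ₁, χ₂(σ^λ) = δ₂(−1)^(λ+1), χ₃(σ^λ) = δ₃(−1)^(λ+1) and χ^(j)(σ^λ) = δ₁(ζ^(jλ) + ζ^(−jλ)); and for every element ρ of odd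 order and every j: 1 + δ₁χ₁(ρ) = −δ₂χ₂(ρ) − δ₃χ₃(ρ) = δ₁χ^(j)(ρ). -/
theorem result {G : Type*} [Group G] [Finite G] (M : Ideal Cfsg.AlgInt) (hM : Cfsg.IsPModular 2 M) (n : ℕ) (hn : 3 ≤ n) (P : Sylow 2 G) (hP : Nonempty ((P : Subgroup G) ≃* DihedralGroup (2 ^ (n - 1)))) (σ : G) (hσ : σ ∈ (P : Subgroup G)) (hσo : orderOf σ = 2 ^ (n - 1)) (ζ : ℂ) (hζ : IsPrimitiveRoot ζ (2 ^ (n - 1))) : Nat.card (Cfsg.principalBlock M G) = 3 + 2 ^ (n - 2) ∧ ∃ (χ₁ χ₂ χ₃ : Cfsg.IrrCharacter G) (χ' : Fin (2 ^ (n - 2) - 1) → Cfsg.IrrCharacter G) (δ₁ δ₂ δ₃ : ℤ), (δ₁ = 1 ∨ δ₁ = -1) ∧ (δ₂ = 1 ∨ δ₂ = -1) ∧ (δ₃ = 1 ∨ δ₃ = -1) ∧ Function.Injective χ' ∧ (χ₁ : G → ℂ) ≠ (fun _ => 1) ∧ (χ₂ : G → ℂ) ≠ (fun _ => 1) ∧ (χ₃ : G → ℂ) ≠ (fun _ => 1) ∧ χ₁ ≠ χ₂ ∧ χ₁ ≠ χ₃ ∧ χ₂ ≠ χ₃ ∧ (∀ j, χ' j ≠ χ₁ ∧ χ' j ≠ χ₂ ∧ χ' j ≠ χ₃ ∧ (χ' j : G → ℂ) ≠ (fun _ => 1)) ∧ Cfsg.principalBlock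 M G = {χ : Cfsg.IrrCharacter G | (χ : G → ℂ) = (fun _ => 1) ∨ χ = χ₁ ∨ χ = χ₂ ∨ χ = χ₃ ∨ ∃ j, χ = χ' j} ∧ (∀ l : ℕ, 0 < l → l < 2 ^ (n - 1) → (χ₁ : G → ℂ) (σ ^ l) = δ₁ ∧ (χ₂ : G → ℂ) (σ ^ l) = δ₂ * (-1) ^ (l + 1) ∧ (χ₃ : G → ℂ) (σ ^ l) = δ₃ * (-1) ^ (l + 1) ∧ ∀ j : Fin (2 ^ (n - 2) - 1), (χ' j : G → ℂ) (σ ^ l) = δ₁ * (ζ ^ (((j : ℕ) + 1) * l) + (ζ ^ (((j : ℕ) + 1) * l))⁻¹)) ∧ ∀ ρ : G, Odd (orderOf ρ) → ∀ j : Fin (2 ^ (n - 2) - 1), 1 + δ₁ * (χ₁ : G → ℂ) ρ = -δ₂ * (χ₂ : G → ℂ) ρ - δ₃ * (χ₃ : G → ℂ) ρ ∧ 1 + δ₁ * (χ₁ : G → ℂ) ρ = δ₁ * (χ' j : G → ℂ) ρ := by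
  classical
  haveI := hM.2.1
  obtain ⟨k, rfl⟩ : ∃ k, n = k + 3 := ⟨n - 3, by omega⟩
  rw [show k + 3 - 1 = k + 2 from rfl] at hP hσo hζ ⊢
  rw [show k + 3 - 2 = k + 1 from rfl]
  have h1 : 2 ^ (k + 2) = 2 * 2 ^ (k + 1) := by rw [pow_succ, mul_comm]
  have h2 : 2 ^ (k + 1) = 2 * 2 ^ k := by rw [pow_succ, mul_comm]
  have h3 : 1 ≤ 2 ^ k := Nat.one_le_two_pow
  have hh : 2 ^ (k + 2) / 2 = 2 ^ (k + 1) := by omega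
  haveI : NeZero (2 ^ (k + 2)) := ⟨by omega⟩
  obtain ⟨e⟩ := hP
  have hR := Lib.DihedralBlock.Sections.rot_of_equiv e (by omega) ⟨2 ^ k, by omega⟩ hσ hσo
  obtain ⟨C⟩ := Lib.DihedralBlock.Comb.exists_config (Lib.DihedralBlock.Main.data hR M hM hζ)
  have hmem : ∀ t : ↥(Lib.DihedralBlock.Fourier.blk G M), t.1 ∈ Cfsg.principalBlock M G := fun t =>
    (Lib.DihedralBlock.Fourier.mem_blk M).1 t.2
  have hIco : ∀ j : Fin (2 ^ (k + 1) - 1),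
      (j : ℕ) + 1 ∈ Finset.Ico 1 (2 ^ (k + 2) / 2) := fun j =>
    Finset.mem_Ico.2 ⟨by omega, by have := j.isLt; omega⟩
  have hone : ∀ t : ↥(Lib.DihedralBlock.Fourier.blk G M),
      t ≠ (Lib.DihedralBlock.Main.data hR M hM hζ).one → (t.1 : G → ℂ) ≠ (fun _ => 1) :=
    fun t ht h => ht (Subtype.ext (Subtype.ext h))
  refine ⟨?_, C.r.1, C.b.1, C.c.1, fun j => (C.chi ((j : ℕ) + 1)).1, C.d1, C.d2, C.d3, C.d1_pm,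
    C.d2_pm, C.d3_pm, ?_, hone _ C.r_ne, hone _ C.b_ne, hone _ C.c_ne, fun h => C.rb (Subtype.ext h),
    fun h => C.rc (Subtype.ext h), fun h => C.bc (Subtype.ext h), fun j => ?_, ?_, fun l hl0 hlN => ?_,
    fun ρ hρ j => ?_⟩
  · have hc := C.card_eq
    rw [Fintype.card_coe, Lib.DihedralBlock.Fourier.blk, ← Set.ncard_eq_toFinset_card,
      ← Nat.card_coe_set_eq] at hc
    rw [hc]; omega
  · intro a b hab
    have := C.chi_inj (hIco a) (hIco b) (Subtype.ext hab)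
    exact Fin.ext (by omega)
  · obtain ⟨a, b, c, d⟩ := C.chi_ne _ (hIco j)
    exact ⟨fun h => b (Subtype.ext h), fun h => c (Subtype.ext h), fun h => d (Subtype.ext h),
      hone _ a⟩
  · ext χ
    constructor
    · intro hχ
      rcases C.cover ⟨χ, (Lib.DihedralBlock.Fourier.mem_blk M).2 hχ⟩ with h | h | h | h | ⟨i, hi, h⟩
      · exact Or.inl (congrArg (fun t : ↥(Lib.DihedralBlock.Fourier.blk G M) => (t.1 : G → ℂ)) h)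
      · exact Or.inr (Or.inl (congrArg Subtype.val h))
      · exact Or.inr (Or.inr (Or.inl (congrArg Subtype.val h)))
      · exact Or.inr (Or.inr (Or.inr (Or.inl (congrArg Subtype.val h))))
      · obtain ⟨hi1, hi2⟩ := Finset.mem_Ico.1 hi
        refine Or.inr (Or.inr (Or.inr (Or.inr ⟨⟨i - 1, by omega⟩, ?_⟩)))
        show χ = (C.chi (i - 1 + 1)).1
        rw [show i - 1 + 1 = i by omega]
        exact congrArg Subtype.val h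
    · rintro (h | rfl | rfl | rfl | ⟨j, rfl⟩)
      · have : χ = Lib.Characters.Basic.oneChar G := Subtype.ext h
        rw [this]; exact Lib.Blocks.oneChar_mem_principalBlock
      all_goals exact hmem _
  · obtain ⟨a, b, c, d⟩ := Lib.DihedralBlock.Main.values hR M hM hζ C hl0 hlN
    exact ⟨a, b, c, fun j => d _ (hIco j)⟩
  · obtain ⟨a, b⟩ := Lib.DihedralBlock.Main.relations hR M hM hζ C hρ
    exact ⟨a, b _ (hIco j)⟩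

end Cfsg.Agent.S4481
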