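import Cfsg.Statements.S4482
import Cfsg.Agent.Lib.DihedralBlock.Main
import Cfsg.Agent.Lib.DihedralBlock.Order
import Cfsg.Agent.Lib.PGroups.Recognition
-- import your own Cfsg.Agent.* helpers here

set_option autoImplicit false
open Cfsg

namespace Cfsg.Agent.S4482

/-- An order formula for groups with dihedral Sylow 2-subgroups and one class of involutions. Let G be a finite group whose Sylow 2-subgroup P = ⟨σ, τ⟩ is dihedral of order 2^n ≥ 8 (σ of order 2^(n−1), τ an involution inverting σ), let J be the central involution σ^(2^(n−2)), and suppose J, τ and στ are conjugate in G. Fix M over 2 and let χ₁ be an irreducible character in the principal 2-block taking one constant value δ₁ = ±1 at every non-identity power of σ, with χ₁ ≠ 1. Then, with x₁ = χ₁(1) and c(·) denoting orders of centralizers, x₁ ≠ δ₁ and #G · (x₁ − δ₁)² = 2·x₁(x₁ + δ₁)·c(J)³·(1/c(J, τ) + 1/c(J, στ))², where c(J, y) is the order of the joint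 centralizer of J and y. -/
theorem result {G : Type*} [Group G] [Finite G] (M : Ideal Cfsg.AlgInt) (hM : Cfsg.IsPModular 2 M) (n : ℕ) (hn : 3 ≤ n) (P : Sylow 2 G) (σ τ : G) (hσ : σ ∈ (P : Subgroup G)) (hτ : τ ∈ (P : Subgroup G)) (hσo : orderOf σ = 2 ^ (n - 1)) (hτo : orderOf τ = 2) (hrel : τ * σ * τ⁻¹ = σ⁻¹) (hgen : Subgroup.closure ({σ, τ} : Set G) = (P : Subgroup G)) (hconj : IsConj (σ ^ (2 ^ (n - 2))) τ ∧ IsConj (σ ^ (2 ^ (n - 2))) (σ * τ)) (χ₁ : Cfsg.IrrCharacter G) (hχ₁ : χ₁ ∈ Cfsg.principalBlock M G) (h1 : (χ₁ : G → ℂ) ≠ (fun _ => 1)) (δ₁ : ℤ) (hδ₁ : δ₁ = 1 ∨ δ₁ = -1) (hval : ∀ l : ℕ, 0 < l → l < 2 ^ (n - 1) → (χ₁ : G → ℂ) (σ ^ l) = δ₁) : (Cfsg.charDegree (χ₁ : G → ℂ) : ℤ) ≠ δ₁ ∧ (Nat.card G : ℚ) * ((Cfsg.charDegree (χ₁ : G → ℂ) : ℚ) - δ₁) ^ 2 = 2 * (Cfsg.charDegree (χ₁ : G → ℂ) : ℚ) * ((Cfsg.charDegree (χ₁ : G → ℂ) : ℚ) + δ₁) * (Nat.card (Subgroup.centralizer ({σ ^ (2 ^ (n - 2))} : Set G)) : ℚ) ^ 3 * (1 / (Nat.card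 (Subgroup.centralizer ({σ ^ (2 ^ (n - 2)), τ} : Set G)) : ℚ) + 1 / (Nat.card (Subgroup.centralizer ({σ ^ (2 ^ (n - 2)), σ * τ} : Set G)) : ℚ)) ^ 2 := by
  classical
  haveI := hM.2.1
  haveI := Fintype.ofFinite G
  haveI := Fintype.ofFinite (Cfsg.IrrCharacter G)
  obtain ⟨k, rfl⟩ : ∃ k, n = k + 3 := ⟨n - 3, by omega⟩
  rw [show k + 3 - 1 = k + 2 from rfl] at hσo hval
  rw [show k + 3 - 2 = k + 1 from rfl] at hconj ⊢
  have h1' : 2 ^ (k + 2) = 2 * 2 ^ (k + 1) := by rw [pow_succ, mul_comm]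
  have h2' : 2 ^ (k + 1) = 2 * 2 ^ k := by rw [pow_succ, mul_comm]
  have h3 : 1 ≤ 2 ^ k := Nat.one_le_two_pow
  haveI : NeZero (2 ^ (k + 2)) := ⟨by omega⟩
  have hττ : τ * τ = 1 := by rw [← pow_two, ← hτo, pow_orderOf_eq_one]
  have hτi : τ⁻¹ = τ := inv_eq_of_mul_eq_one_right hττ
  have hτz : τ ∉ Subgroup.zpowers σ := by
    intro h
    obtain ⟨j, rfl⟩ := Subgroup.mem_zpowers_iff.1 h
    rw [((Commute.refl σ).zpow_left j).eq, mul_inv_cancel_right] at hrel
    have := Nat.le_of_dvd two_pos (orderOf_dvd_of_pow_eq_one (x := σ) (n := 2)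
      (by rw [pow_two]; exact mul_eq_one_iff_eq_inv.2 hrel))
    omega
  -- the Sylow subgroup is dihedral
  have hstep : ∀ z : ℤ, σ ^ z * τ = τ * (σ ^ z)⁻¹ := fun z => by
    have h := congrArg (fun x => x ^ z) hrel
    simp only [conj_zpow, inv_zpow] at h
    calc σ ^ z * τ = τ * (τ * σ ^ z * τ⁻¹) := by rw [hτi, ← mul_assoc, ← mul_assoc, hττ, one_mul]
      _ = _ := by rw [h]
  have hPform : ∀ x ∈ (P : Subgroup G), x ∈ Subgroup.zpowers σ ∨ τ * x ∈ Subgroup.zpowers σ := by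
    intro x hx
    rw [← hgen] at hx
    induction hx using Subgroup.closure_induction with
    | mem y hy =>
      rcases hy with rfl | rfl
      · exact Or.inl (Subgroup.mem_zpowers _)
      · right; rw [hττ]; exact one_mem _
    | one => exact Or.inl (one_mem _)
    | inv y _ ih =>
      rcases ih with h | h
      · exact Or.inl (inv_mem h)
      · right
        obtain ⟨z, hz⟩ := Subgroup.mem_zpowers_iff.1 h
        have hy : y = τ * σ ^ z := by rw [hz, ← mul_assoc, hττ, one_mul]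
        refine ⟨z, ?_⟩
        show σ ^ z = τ * y⁻¹
        rw [hy, mul_inv_rev, hτi, ← mul_assoc, ← hstep, mul_assoc, hττ, mul_one]
    | mul y w _ _ ihy ihw =>
      rcases ihy with h | h <;> rcases ihw with h' | h'
      · exact Or.inl (mul_mem h h')
      · right
        obtain ⟨z, rfl⟩ := Subgroup.mem_zpowers_iff.1 h
        have e : τ * (σ ^ z * w) = (σ ^ z)⁻¹ * (τ * w) := by
          have := hstep (-z)
          rw [zpow_neg, inv_inv] at this
          rw [← mul_assoc, ← this, mul_assoc]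
        rw [e]
        exact mul_mem (inv_mem (zpow_mem (Subgroup.mem_zpowers σ) z)) h'
      · right; rw [← mul_assoc]; exact mul_mem h h'
      · left
        obtain ⟨z, hz⟩ := Subgroup.mem_zpowers_iff.1 h
        have hy : y = τ * σ ^ z := by rw [hz, ← mul_assoc, hττ, one_mul]
        have e : y * w = (σ ^ z)⁻¹ * (τ * w) := by
          have := hstep (-z)
          rw [zpow_neg, inv_inv] at this
          rw [hy, ← this, mul_assoc]
        rw [e]
        exact mul_mem (inv_mem (zpow_mem (Subgroup.mem_zpowers σ) z)) h'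
  have hcard : Nat.card (P : Subgroup G) = 2 * 2 ^ (k + 2) := by
    have hidx : ((Subgroup.zpowers σ).subgroupOf (P : Subgroup G)).index = 2 := by
      rw [Subgroup.index_eq_two_iff]
      refine ⟨⟨τ, hτ⟩, fun b => ?_⟩
      simp only [Subgroup.mem_subgroupOf, Subgroup.coe_mul]
      by_cases hb : (b : G) ∈ Subgroup.zpowers σ
      · exact Or.inr ⟨hb, fun h => hτz (by simpa using mul_mem (inv_mem hb) h)⟩
      · refine Or.inl ⟨?_, hb⟩
        obtain ⟨z, hz⟩ := Subgroup.mem_zpowers_iff.1 ((hPform b b.2).resolve_left hb)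
        refine ⟨-z, ?_⟩
        show σ ^ (-z) = (b : G) * τ
        rw [show (b : G) = τ * σ ^ z by rw [hz, ← mul_assoc, hττ, one_mul], mul_assoc, hstep,
          ← mul_assoc, hττ, one_mul, zpow_neg]
    rw [← ((Subgroup.zpowers σ).subgroupOf (P : Subgroup G)).card_mul_index, hidx,
      Nat.card_congr (Subgroup.subgroupOfEquivOfLe (Subgroup.zpowers_le.2 hσ)).toEquiv,
      Nat.card_zpowers, hσo, mul_comm]
  obtain ⟨eP⟩ := Lib.PGroups.nonempty_dihedral_equiv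
    (a := (⟨σ, hσ⟩ : (P : Subgroup G))) (x := ⟨τ, hτ⟩) (m := 2 ^ (k + 2))
    (by rw [Subgroup.orderOf_mk, hσo]) (Subtype.ext (by rw [pow_two]; exact hττ)) (Subtype.ext hrel)
    (fun h => by
      obtain ⟨z, hz⟩ := Subgroup.mem_zpowers_iff.1 h
      exact hτz ⟨z, by simpa using congrArg Subtype.val hz⟩) hcard
  have hR := Lib.DihedralBlock.Sections.rot_of_equiv eP (by omega) ⟨2 ^ k, by omega⟩ hσ hσo
  have hh : 2 ^ (k + 2) / 2 = 2 ^ (k + 1) := by omega
  obtain ⟨ζ, hζ⟩ : ∃ ζ : ℂ, IsPrimitiveRoot ζ (2 ^ (k + 2)) :=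
    ⟨_, Complex.isPrimitiveRoot_exp _ (show 2 ^ (k + 2) ≠ 0 by omega)⟩
  obtain ⟨C⟩ := Lib.DihedralBlock.Comb.exists_config (Lib.DihedralBlock.Main.data hR M hM hζ)
  obtain ⟨v1a, v1b, v1c, v1d⟩ :=
    Lib.DihedralBlock.Main.values hR M hM hζ C (l := 1) one_pos (by omega)
  obtain ⟨v2a, v2b, v2c, v2d⟩ :=
    Lib.DihedralBlock.Main.values hR M hM hζ C (l := 2) two_pos (by omega)
  have hsq : ∀ {d : ℤ}, d = 1 ∨ d = -1 → (d : ℂ) ≠ -d := by
    rintro d (rfl | rfl) <;> norm_num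
  -- the given character
  set t : ↥(Lib.DihedralBlock.Fourier.blk G M) :=
    ⟨χ₁, (Lib.DihedralBlock.Fourier.mem_blk M).2 hχ₁⟩ with ht
  have htval : ∀ l, 0 < l → l < 2 ^ (k + 2) → (t.1 : G → ℂ) (σ ^ l) = δ₁ := hval
  have hid : t = C.r ∧ δ₁ = C.d1 := by
    have e1 := htval 1 one_pos (by omega)
    have e2 := htval 2 two_pos (by omega)
    rcases C.cover t with h | h | h | h | ⟨i, hi, h⟩
    · exfalso; exact h1 (congrArg (fun s : ↥(Lib.DihedralBlock.Fourier.blk G M) => (s.1 : G → ℂ)) h)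
    · refine ⟨h, ?_⟩
      rw [h, v1a] at e1
      exact_mod_cast e1.symm
    · exfalso
      rw [h, v1b] at e1
      rw [h, v2b] at e2
      refine hsq C.d2_pm ?_
      norm_num at e1 e2
      rw [e2, e1]
    · exfalso
      rw [h, v1c] at e1
      rw [h, v2c] at e2
      refine hsq C.d3_pm ?_
      norm_num at e1 e2
      rw [e2, e1]
    · exfalso
      have e3 := htval (2 ^ (k + 2) / 2) (by omega) (by omega)
      have hj : Lib.DihedralBlock.Main.inv hR hζ (C.chi i).1 =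
          if Even i then 2 * C.d1 else -(2 * C.d1) := C.j_chi i hi
      rw [h, Lib.DihedralBlock.Main.apply_half_eq hR M hM hζ (C.chi i).2, hj] at e3
      have e4 : (if Even i then 2 * C.d1 else -(2 * C.d1)) = δ₁ := by exact_mod_cast e3
      rcases C.d1_pm with p | p <;> rcases hδ₁ with q | q <;> rw [p, q] at e4 <;>
        split_ifs at e4 <;> omega
  obtain ⟨htr, hd⟩ := hid
  -- all involutions are conjugate
  set J := σ ^ (2 ^ (k + 2) / 2) with hJ
  have hJeq : J = σ ^ (2 ^ (k + 1)) := by rw [hJ, hh]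
  rw [← hJeq] at hconj ⊢
  have hone : ∀ i : G, orderOf i = 2 → IsConj J i := by
    intro i hi
    obtain ⟨c, hc⟩ := Lib.DihedralBlock.Sections.exists_conj_le
      (A := Subgroup.zpowers i) (IsPGroup.of_card (n := 1) (by rw [Nat.card_zpowers, hi, pow_one])) P
    have hy := hc i (Subgroup.mem_zpowers i)
    refine IsConj.trans ?_ (isConj_iff.2 ⟨c, rfl⟩ : IsConj i (c * i * c⁻¹)).symm
    set y := c * i * c⁻¹
    have hyo : orderOf y = 2 := (MulEquiv.orderOf_eq (MulAut.conj c) i).trans hi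
    by_cases hyz : y ∈ Subgroup.zpowers σ
    · have h := hR.eq_half hyz (fun e => by rw [e, orderOf_one] at hyo; norm_num at hyo)
        (by rw [← pow_two, ← hyo, pow_orderOf_eq_one])
      rw [h]
    · obtain ⟨j, hj⟩ := (isOfFinOrder_of_finite σ).mem_powers_iff_mem_zpowers.2
        (hR.prod_mem τ hτ y hy hτz hyz)
      have hy' : y = τ * σ ^ j := by
        rw [show σ ^ j = τ * y from hj, ← mul_assoc, hττ, one_mul]
      have h := Lib.DihedralBlock.Order.refl_parity hR hτ hτz (fun p => IsConj J p)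
        (fun s _ p => propext ⟨fun h => h.trans (isConj_iff.2 ⟨s, rfl⟩ : IsConj p _).symm,
          fun h => h.trans (isConj_iff.2 ⟨s, rfl⟩)⟩) j
      rw [hy', h]
      split_ifs
      exacts [hconj.1, hconj.2]
  -- the two counts
  set K := Lib.DihedralBlock.Order.kern σ (2 ^ (k + 2)) with hK
  have hKodd : Odd (Nat.card K) := Lib.DihedralBlock.Order.card_kern_odd
  have hJC : ∀ x ∈ K, Commute J x := fun x hx =>
    (Subgroup.mem_centralizer_singleton_iff.1 (Lib.DihedralBlock.Order.kern_le hx)).symm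
  have hJpow : ∀ x ∈ K, (J * x) ^ Nat.card K = J := by
    intro x hx
    obtain ⟨m, hm⟩ := hKodd
    rw [(hJC x hx).mul_pow, orderOf_dvd_iff_pow_eq_one.1 (Subgroup.orderOf_dvd_natCard K hx), mul_one,
      hm, pow_succ, pow_mul, pow_two, hR.half_sq, one_pow, one_mul]
  have hσpow : ∀ x ∈ K, (σ * x) ^ (2 ^ (k + 2) / 2 * Nat.card K) = J := by
    intro x hx
    have hC : ∀ i : ℕ, σ ^ i ∈ Subgroup.centralizer ({J} : Set G) := fun i =>
      hR.le_centralizer_half (pow_mem hR.mem i)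
    have h0 : σ * x * σ⁻¹ ∈ K := by
      have := Lib.DihedralBlock.Order.kern_conj (hR.le_centralizer_half hR.mem) hx
      simpa using this
    have hcos : ∀ i : ℕ, (σ * x) ^ i * (σ ^ i)⁻¹ ∈ K := by
      intro i
      induction i with
      | zero => simp
      | succ i ih =>
        have h := Lib.DihedralBlock.Order.coset_mul (q := σ) (y := σ * x) (hC i) ih h0
        rwa [← pow_succ, ← pow_succ] at h
    have hk' := hcos (2 ^ (k + 2) / 2)
    set x' := (σ * x) ^ (2 ^ (k + 2) / 2) * J⁻¹ with hx'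
    have e : (σ * x) ^ (2 ^ (k + 2) / 2) = J * x' := by
      rw [(hJC x' hk').eq, hx', inv_mul_cancel_right]
    rw [pow_mul, e, hJpow x' hk']
  have hdJ : Nat.card {q : G // q ∈ (P : Subgroup G) ∧ q * J = J * q} = 2 * 2 ^ (k + 2) := by
    rw [← hcard]
    refine Nat.card_congr
      { toFun := fun q => ⟨q.1, q.2.1⟩
        invFun := fun q => ⟨q.1, q.2, Subgroup.mem_centralizer_singleton_iff.1
          (hR.le_centralizer_half q.2)⟩
        left_inv := fun _ => rfl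
        right_inv := fun _ => rfl }
  have hσsq : σ * σ ≠ 1 := fun e => by
    have := Nat.le_of_dvd two_pos (orderOf_dvd_of_pow_eq_one (x := σ) (n := 2) (by rw [pow_two]; exact e))
    omega
  have hdσ : Nat.card {q : G // q ∈ (P : Subgroup G) ∧ q * σ = σ * q} = 2 ^ (k + 2) := by
    rw [← hσo, ← Nat.card_zpowers]
    refine Nat.card_congr
      { toFun := fun q => ⟨q.1, hR.centralizer_le q.2.1 (Subgroup.mem_zpowers σ) hσsq q.2.2⟩
        invFun := fun q => ⟨q.1, Subgroup.zpowers_le.2 hσ q.2, ?_⟩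
        left_inv := fun _ => rfl
        right_inv := fun _ => rfl }
    obtain ⟨z, hz⟩ := Subgroup.mem_zpowers_iff.1 q.2
    rw [← hz]
    exact ((Commute.refl σ).zpow_left z).eq
  have EJ := Lib.DihedralBlock.Order.counting hR M hM (g := J) (pow_mem (Subgroup.mem_zpowers σ) _)
    hR.half_ne hR.complement_half.1 hJpow (Or.inl (mul_inv_cancel J))
    (by rw [hdJ]; exact hR.sum_half M hM) hone
  have Eσ := Lib.DihedralBlock.Order.counting hR M hM (g := σ) (Subgroup.mem_zpowers σ)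
    (fun e => hσsq (by rw [e, one_mul])) (hR.complement (Subgroup.mem_zpowers σ) hσsq).1 hσpow
    (Or.inr (fun e => hσsq (by
      have hc : Commute J σ⁻¹ := ((Commute.refl σ).pow_left _).inv_right
      rw [← hJ, hc.symm.mul_mul_mul_comm, hJ, hR.half_sq, one_mul, ← mul_inv_rev, inv_eq_one] at e
      exact e)))
    (by
      rw [hdσ, hR.sum_rot M hM (Subgroup.mem_zpowers σ) (Subgroup.mem_zpowers σ) hσsq,
        if_pos (Or.inl rfl)])
    hone
  set A := (Lib.DihedralBlock.Order.invs σ (2 ^ (k + 2)) τ).card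
  set B := (Lib.DihedralBlock.Order.invs σ (2 ^ (k + 2)) (σ * τ)).card
  have hI : ∀ i : ℕ, (Lib.DihedralBlock.Order.invs σ (2 ^ (k + 2)) (τ * σ ^ i)).card =
      if Even i then A else B := fun i =>
    Lib.DihedralBlock.Order.refl_parity hR hτ hτz
      (fun p => (Lib.DihedralBlock.Order.invs σ (2 ^ (k + 2)) p).card)
      (fun s hs p => Lib.DihedralBlock.Order.card_invs_conj (hR.le_centralizer_half hs)) i
  have hSJ : ∑ p ∈ Finset.univ.filter (fun p : G => p ∈ (P : Subgroup G) ∧ p ∉ Subgroup.zpowers σ),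
      (Lib.DihedralBlock.Order.invs σ (2 ^ (k + 2)) p).card *
        (Lib.DihedralBlock.Order.invs σ (2 ^ (k + 2)) (p * J⁻¹)).card =
      2 ^ (k + 1) * (A * A + B * B) := by
    rw [Lib.DihedralBlock.Order.sum_refl hR hτ hτz,
      show Finset.range (2 ^ (k + 2)) = Finset.range (2 * 2 ^ (k + 1)) by rw [h1'],
      ← Lib.DihedralBlock.Order.sum_range_parity (2 ^ (k + 1)) (A * A) (B * B)]
    refine Finset.sum_congr rfl fun i _ => ?_
    rw [hJ, inv_eq_of_mul_eq_one_right hR.half_sq, mul_assoc, ← pow_add, hI, hI]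
    have : Even (i + 2 ^ (k + 2) / 2) ↔ Even i := by simp only [Nat.even_iff]; omega
    simp only [this]
    split_ifs <;> rfl
  have hSσ : ∑ p ∈ Finset.univ.filter (fun p : G => p ∈ (P : Subgroup G) ∧ p ∉ Subgroup.zpowers σ),
      (Lib.DihedralBlock.Order.invs σ (2 ^ (k + 2)) p).card *
        (Lib.DihedralBlock.Order.invs σ (2 ^ (k + 2)) (p * σ⁻¹)).card =
      2 ^ (k + 1) * (A * B + B * A) := by
    rw [Lib.DihedralBlock.Order.sum_refl hR hτ hτz,
      show Finset.range (2 ^ (k + 2)) = Finset.range (2 * 2 ^ (k + 1)) by rw [h1'],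
      ← Lib.DihedralBlock.Order.sum_range_parity (2 ^ (k + 1)) (A * B) (B * A)]
    refine Finset.sum_congr rfl fun i _ => ?_
    have hinv : σ⁻¹ = σ ^ (2 ^ (k + 2) - 1) := by
      refine inv_eq_of_mul_eq_one_right ?_
      rw [← pow_succ', Nat.sub_add_cancel (by omega : 1 ≤ 2 ^ (k + 2)), ← hσo, pow_orderOf_eq_one]
    rw [hinv, mul_assoc, ← pow_add, hI, hI]
    have : Even (i + (2 ^ (k + 2) - 1)) ↔ ¬ Even i := by simp only [Nat.even_iff]; omega
    simp only [this]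
    split_ifs <;> rfl
  rw [hSJ] at EJ
  rw [hSσ] at Eσ
  have haA := Lib.DihedralBlock.Order.card_invs_refl hR hτ hτz
  have hστz : σ * τ ∉ Subgroup.zpowers σ := fun h => hτz (by
    simpa using mul_mem (inv_mem (Subgroup.mem_zpowers σ)) h)
  have hbB := Lib.DihedralBlock.Order.card_invs_refl hR (mul_mem hσ hτ) hστz
  have hcK := Lib.DihedralBlock.Order.card_centralizer_half hR
  -- evaluation
  set blk := Lib.DihedralBlock.Fourier.blk G M
  set f : ↥blk → ℂ := fun s => (s.1 : G → ℂ) 1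
  have hblk : (Set.toFinite (Cfsg.principalBlock M G)).toFinset = blk := rfl
  rw [hblk, ← Finset.sum_coe_sort blk] at EJ Eσ
  have hjr : (C.r.1 : G → ℂ) J = C.d1 := by
    rw [Lib.DihedralBlock.Main.apply_half_eq hR M hM hζ C.r.2]
    exact_mod_cast C.j_r
  have hjb : (C.b.1 : G → ℂ) J = -(C.d2 : ℂ) := by
    rw [Lib.DihedralBlock.Main.apply_half_eq hR M hM hζ C.b.2]
    exact_mod_cast C.j_b
  have hjc : (C.c.1 : G → ℂ) J = -(C.d3 : ℂ) := by
    rw [Lib.DihedralBlock.Main.apply_half_eq hR M hM hζ C.c.2]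
    exact_mod_cast C.j_c
  have hrel1 := Lib.DihedralBlock.Main.relations hR M hM hζ C (ρ := 1) (by simp)
  have hd1 : (C.d1 : ℂ) * C.d1 = 1 := by rcases C.d1_pm with p | p <;> rw [p] <;> norm_num
  have hd2 : (C.d2 : ℂ) * C.d2 = 1 := by rcases C.d2_pm with p | p <;> rw [p] <;> norm_num
  have hd3 : (C.d3 : ℂ) * C.d3 = 1 := by rcases C.d3_pm with p | p <;> rw [p] <;> norm_num
  set F := (C.d1 : ℂ) + (C.r.1 : G → ℂ) 1 with hF
  have hFi : ∀ i ∈ Finset.Ico 1 (2 ^ (k + 2) / 2), ((C.chi i).1 : G → ℂ) 1 = F := fun i hi => by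
    have := hrel1.2 i hi
    linear_combination -(C.d1 : ℂ) * this + ((C.r.1 : G → ℂ) 1 - ((C.chi i).1 : G → ℂ) 1) * hd1
  have hone1 : ∀ g : G, ((Lib.DihedralBlock.Main.data hR M hM hζ).one.1 : G → ℂ) g = 1 := fun g => rfl
  have hζh : ζ ^ (2 ^ (k + 2) / 2) = -1 :=
    (Lib.DihedralBlock.Main.zeta_half hR).resolve_right (not_not.2 hζ)
  have hzsum : ∑ i ∈ Finset.Ico 1 (2 ^ (k + 2) / 2), (ζ ^ i + (ζ ^ i)⁻¹) = 0 := by
    have h := Lib.DihedralBlock.Fourier.sum_expn hζ (((1 : ℕ) : ZMod (2 ^ (k + 2))))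
    rw [if_neg (fun e => by
        have := Nat.le_of_dvd one_pos ((ZMod.natCast_eq_zero_iff 1 _).1 e)
        omega),
      Lib.DihedralBlock.Fourier.sum_fold ⟨2 ^ (k + 1), h1'⟩] at h
    simp only [Nat.cast_one, one_mul, AddChar.map_zero_eq_one, AddChar.map_neg_eq_inv,
      Lib.DihedralBlock.Fourier.expn_natCast, hζh] at h
    linear_combination h
  have hEJ : ∑ s : ↥blk, (s.1 : G → ℂ) J * (s.1 : G → ℂ) J ^ 2 / (s.1 : G → ℂ) 1 =
      1 + (C.d1 : ℂ) / (C.r.1 : G → ℂ) 1 - (C.d2 : ℂ) / (C.b.1 : G → ℂ) 1 -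
        (C.d3 : ℂ) / (C.c.1 : G → ℂ) 1 - 8 * (C.d1 : ℂ) / F := by
    rw [C.sum_eq, hone1, hone1, hjr, hjb, hjc,
      Finset.sum_congr rfl (g := fun i => 8 * (C.d1 : ℂ) / F * (if Even i then 1 else -1)) (fun i hi => by
        rw [Lib.DihedralBlock.Main.apply_half_eq hR M hM hζ (C.chi i).2, hFi i hi,
          show Lib.DihedralBlock.Main.inv hR hζ (C.chi i).1 =
            if Even i then 2 * C.d1 else -(2 * C.d1) from C.j_chi i hi]
        split_ifs <;> push_cast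
        · linear_combination (8 * (C.d1 : ℂ) / F) * hd1
        · linear_combination (-8 * (C.d1 : ℂ) / F) * hd1),
      ← Finset.mul_sum]
    have hpar : ∑ i ∈ Finset.Ico 1 (2 ^ (k + 2) / 2), (if Even i then (1 : ℂ) else -1) = -1 := by
      obtain ⟨m, hm⟩ : ∃ m, 2 ^ (k + 2) / 2 = 2 * m + 2 := ⟨2 ^ k - 1, by omega⟩
      rw [hm]
      clear hm
      induction m with
      | zero => simp
      | succ m ih =>
        rw [show 2 * (m + 1) + 2 = 2 * m + 2 + 1 + 1 by ring, Finset.sum_Ico_succ_top (by omega),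
          Finset.sum_Ico_succ_top (by omega), ih, if_pos (by simp [Nat.even_add]),
          if_neg (by simp [Nat.even_add, Nat.even_add_one])]
        ring
    rw [hpar]
    have p1 : (C.d1 : ℂ) * (C.d1 : ℂ) ^ 2 = C.d1 := by linear_combination (C.d1 : ℂ) * hd1
    have p2 : -(C.d2 : ℂ) * (-(C.d2 : ℂ)) ^ 2 = -C.d2 := by linear_combination -(C.d2 : ℂ) * hd2
    have p3 : -(C.d3 : ℂ) * (-(C.d3 : ℂ)) ^ 2 = -C.d3 := by linear_combination -(C.d3 : ℂ) * hd3
    rw [p1, p2, p3]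
    ring
  have hEσ : ∑ s : ↥blk, (s.1 : G → ℂ) σ * (s.1 : G → ℂ) J ^ 2 / (s.1 : G → ℂ) 1 =
      1 + (C.d1 : ℂ) / (C.r.1 : G → ℂ) 1 + (C.d2 : ℂ) / (C.b.1 : G → ℂ) 1 +
        (C.d3 : ℂ) / (C.c.1 : G → ℂ) 1 := by
    simp only [pow_one] at v1a v1b v1c v1d
    rw [C.sum_eq, hone1, hone1, hone1, v1a, v1b, v1c, hjr, hjb, hjc,
      Finset.sum_congr rfl (g := fun i => 4 * (C.d1 : ℂ) / F * (ζ ^ i + (ζ ^ i)⁻¹)) (fun i hi => by
        rw [v1d i hi, Lib.DihedralBlock.Main.apply_half_eq hR M hM hζ (C.chi i).2, hFi i hi,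
          show Lib.DihedralBlock.Main.inv hR hζ (C.chi i).1 =
            if Even i then 2 * C.d1 else -(2 * C.d1) from C.j_chi i hi, mul_one]
        split_ifs <;> push_cast <;>
          linear_combination (4 * (C.d1 : ℂ) / F * (ζ ^ i + (ζ ^ i)⁻¹)) * hd1),
      ← Finset.mul_sum, hzsum]
    have p1 : (C.d1 : ℂ) * (C.d1 : ℂ) ^ 2 = C.d1 := by linear_combination (C.d1 : ℂ) * hd1
    have p2 : (C.d2 : ℂ) * (-1) ^ (1 + 1) * (-(C.d2 : ℂ)) ^ 2 = C.d2 := by
      linear_combination (C.d2 : ℂ) * hd2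
    have p3 : (C.d3 : ℂ) * (-1) ^ (1 + 1) * (-(C.d3 : ℂ)) ^ 2 = C.d3 := by
      linear_combination (C.d3 : ℂ) * hd3
    rw [p1, p2, p3]
    ring
  rw [hEJ] at EJ
  rw [hEσ] at Eσ
  -- assembly
  obtain ⟨hfpos, hfeq⟩ := Lib.H80.ClassMult.deg_spec χ₁
  set x := Cfsg.charDegree (χ₁ : G → ℂ) with hx
  have hr1 : (C.r.1 : G → ℂ) 1 = (x : ℂ) := by rw [← htr]; exact hfeq
  rw [← hd] at EJ Eσ hF hd1
  rw [hr1] at EJ Eσ hF
  have hxδ : (x : ℤ) + δ₁ ≠ 0 := by
    intro e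
    have h1c : (1 : ℕ) ∈ Finset.Ico 1 (2 ^ (k + 2) / 2) := Finset.mem_Ico.2 ⟨le_rfl, by omega⟩
    refine Lib.Characters.Basic.apply_one_ne_zero (C.chi 1).1 ?_
    rw [hFi 1 h1c, hF]
    have : ((x : ℤ) : ℂ) + (δ₁ : ℂ) = 0 := by exact_mod_cast e
    rw [Int.cast_natCast] at this
    linear_combination this
  set a := Nat.card (Subgroup.centralizer ({J, τ} : Set G))
  set b := Nat.card (Subgroup.centralizer ({J, σ * τ} : Set G))
  set c := Nat.card (Subgroup.centralizer ({J} : Set G))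
  set m := Nat.card K
  have ha0 : (a : ℂ) ≠ 0 := Nat.cast_ne_zero.2 Nat.card_pos.ne'
  have hb0 : (b : ℂ) ≠ 0 := Nat.cast_ne_zero.2 Nat.card_pos.ne'
  have hm0 : (m : ℂ) ≠ 0 := Nat.cast_ne_zero.2 Nat.card_pos.ne'
  have hx0 : (x : ℂ) ≠ 0 := Nat.cast_ne_zero.2 hfpos.ne'
  have hF0 : F ≠ 0 := by
    rw [hF]
    intro e
    refine hxδ ?_
    have : (((x : ℤ) + δ₁ : ℤ) : ℂ) = 0 := by push_cast; linear_combination e
    exact_mod_cast this
  have hA : (a : ℂ) * A = 4 * m := by exact_mod_cast haA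
  have hB : (b : ℂ) * B = 4 * m := by exact_mod_cast hbB
  have hc : (c : ℂ) = m * (2 * (2 * (2 : ℂ) ^ (k + 1))) := by
    have : c = m * (2 * (2 * 2 ^ (k + 1))) := by rw [← h1']; exact hcK
    rw [this]; push_cast; ring
  have hsum : (Nat.card G : ℂ) * ((m : ℂ) * (2 * (1 + (δ₁ : ℂ) / x) - 8 * (δ₁ : ℂ) / F)) =
      (c : ℂ) ^ 2 * ((2 : ℂ) ^ (k + 1) * ((A : ℂ) + B) ^ 2) := by
    push_cast at EJ Eσ
    linear_combination EJ + Eσ
  have hAB : (A : ℂ) + B = 4 * m * (1 / (a : ℂ) + 1 / b) := by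
    field_simp
    linear_combination (b : ℂ) * hA + (a : ℂ) * hB
  have hmain : (Nat.card G : ℂ) * ((x : ℂ) - δ₁) ^ 2 =
      2 * x * ((x : ℂ) + δ₁) * (c : ℂ) ^ 3 * (1 / (a : ℂ) + 1 / b) ^ 2 := by
    have h4 : (c : ℂ) ^ 2 * ((2 : ℂ) ^ (k + 1) * ((A : ℂ) + B) ^ 2) =
        4 * (c : ℂ) ^ 3 * m * (1 / (a : ℂ) + 1 / b) ^ 2 := by
      rw [hAB, hc]; ring
    have h5 : (2 * (1 + (δ₁ : ℂ) / x) - 8 * (δ₁ : ℂ) / F) * (x * F) = 2 * ((x : ℂ) - δ₁) ^ 2 := by
      rw [sub_mul]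
      field_simp
      rw [hF]; ring
    have h6 : (Nat.card G : ℂ) * (2 * (1 + (δ₁ : ℂ) / x) - 8 * (δ₁ : ℂ) / F) =
        4 * (c : ℂ) ^ 3 * (1 / (a : ℂ) + 1 / b) ^ 2 := by
      refine mul_left_cancel₀ hm0 ?_
      linear_combination hsum + h4
    rw [hF] at h5 h6
    linear_combination (-(Nat.card G : ℂ) / 2) * h5 + ((x : ℂ) * ((δ₁ : ℂ) + x) / 2) * h6
  refine ⟨?_, ?_⟩
  · intro e
    have e' : (x : ℂ) = δ₁ := by exact_mod_cast e
    rw [← e', sub_self, zero_pow two_ne_zero, mul_zero] at hmain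
    have hpos : (0 : ℝ) < 2 * x * ((x : ℝ) + x) * (c : ℝ) ^ 3 * (1 / (a : ℝ) + 1 / b) ^ 2 := by
      have : (0 : ℝ) < x := by exact_mod_cast hfpos
      have : (0 : ℝ) < a := by exact_mod_cast Nat.card_pos
      have : (0 : ℝ) < b := by exact_mod_cast Nat.card_pos
      have : (0 : ℝ) < c := by exact_mod_cast Nat.card_pos
      positivity
    have : ((0 : ℝ) : ℂ) = ((2 * x * ((x : ℝ) + x) * (c : ℝ) ^ 3 * (1 / (a : ℝ) + 1 / b) ^ 2 : ℝ) : ℂ) := by
      push_cast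
      exact hmain
    exact hpos.ne (Complex.ofReal_inj.1 this)
  · have : (((Nat.card G : ℚ) * ((x : ℚ) - δ₁) ^ 2 : ℚ) : ℂ) =
        ((2 * (x : ℚ) * ((x : ℚ) + δ₁) * (c : ℚ) ^ 3 * (1 / (a : ℚ) + 1 / (b : ℚ)) ^ 2 : ℚ) : ℂ) := by
      push_cast
      exact hmain
    exact_mod_cast this

end Cfsg.Agent.S4482
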