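import Cfsg.Statements.S4399
import Cfsg.Agent.Lib.PGroups.MaximalClass

set_option autoImplicit false
open Cfsg

namespace Cfsg.Agent.S4399

open Subgroup

/-- Let S be a finite 2-group whose commutator quotient S/[S,S] is a Klein four-group (order 4 and exponent 2). Then S itself has order 4, or S is dihedral of order at least 8, semidihedral of order at least 16 (order 2^(k+4) with an element a of order 2^(k+3) and an involution b with b a b⁻¹ = a^(2^(k+2)−1)), or generalized quaternion of order at least 8. -/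
theorem result {S : Type*} [Group S] [Finite S] (h2 : IsPGroup 2 S) (hab : Nat.card (Abelianization S) = 4)
    (hexp : ∀ x : Abelianization S, x ^ 2 = 1) :
    Nat.card S = 4 ∨
    ((∃ k : ℕ, Nonempty (S ≃* DihedralGroup (2 ^ (k + 2)))) ∨
      (∃ k : ℕ, Nat.card S = 2 ^ (k + 4) ∧ ∃ a b : S, orderOf a = 2 ^ (k + 3) ∧ orderOf b = 2 ∧ b * a * b⁻¹ = a ^ (2 ^ (k + 2) - 1)) ∨
      (∃ k : ℕ, Nonempty (S ≃* QuaternionGroup (2 ^ (k + 1))))) := by
  have := Fact.mk Nat.prime_two
  obtain ⟨n, hn⟩ := IsPGroup.iff_card.1 h2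
  have hd : (commutator S).index = 4 := by rw [Subgroup.index_eq_card]; exact hab
  have hn2 : 2 ≤ n := by
    have h := (commutator S).index_dvd_card
    rw [hd, hn] at h
    exact (Nat.pow_dvd_pow_iff_le_right (x := 2) (by norm_num)).1 (show 2 ^ 2 ∣ 2 ^ n from h)
  rcases Nat.lt_or_ge n 3 with h3 | h3
  · obtain rfl : n = 2 := by omega
    exact Or.inl (by rw [hn]; norm_num)
  refine Or.inr ?_
  obtain ⟨C, hC, hCi⟩ := Lib.PGroups.exists_cyclic_index_two n h3 hn hd
  have hCn : C.Normal := Subgroup.normal_of_index_eq_two hCi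
  have hCc : IsMulCommutative C := hC.isMulCommutative
  obtain ⟨t, ht⟩ : ∃ t, t ∉ C := by
    by_contra! h
    have : C = ⊤ := eq_top_iff.mpr fun x _ => h x
    rw [this, Subgroup.index_top] at hCi
    omega
  obtain ⟨a, ha⟩ := (C.isCyclic_iff_exists_zpowers_eq_top).mp hC
  subst ha
  obtain ⟨j, rfl⟩ : ∃ j, n = j + 3 := ⟨n - 3, by omega⟩
  have hord : orderOf a = 2 ^ (j + 2) := by
    have h := (zpowers a).card_mul_index
    rw [hCi, hn, Nat.card_zpowers, show (2 : ℕ) ^ (j + 3) = 2 ^ (j + 2) * 2 by ring] at h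
    exact Nat.eq_of_mul_eq_mul_right two_pos h
  set z := a ^ (2 ^ (j + 1)) with hz
  have haC : a ∈ zpowers a := mem_zpowers a
  have ht2 : t * t ∈ zpowers a := by rw [← sq]; exact hCi ▸ (zpowers a).pow_index_mem t
  have hz1 : z ≠ 1 := by
    rw [hz]
    intro h
    have h' := orderOf_dvd_of_pow_eq_one h
    rw [hord, Nat.pow_dvd_pow_iff_le_right (by norm_num)] at h'
    omega
  have hzz : z * z = 1 := by
    rw [hz, ← pow_add, ← two_mul, ← pow_succ']
    exact hord ▸ pow_orderOf_eq_one a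
  have hF2 := Lib.PGroups.card_fixed_eq_two (zpowers a) hCc hCi hd t ht
  -- the fixed subgroup is `{1, z}`
  have hF : ∀ c ∈ zpowers a ⊓ centralizer ({t} : Set S), c = 1 ∨ c = z := by
    intro c hc
    have hcc : c ^ 2 = 1 := by
      have h := pow_card_eq_one' (G := ↥(zpowers a ⊓ centralizer ({t} : Set S))) (x := ⟨c, hc⟩)
      rw [hF2] at h
      simpa using congrArg Subtype.val h
    obtain ⟨i, rfl⟩ := mem_zpowers_iff.1 hc.1
    rw [← zpow_natCast, ← zpow_mul, ← orderOf_dvd_iff_zpow_eq_one, hord] at hcc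
    push_cast at hcc
    rw [show (2 : ℤ) ^ (j + 2) = 2 ^ (j + 1) * 2 by ring] at hcc
    obtain ⟨m, rfl⟩ := Int.dvd_of_mul_dvd_mul_right (by norm_num) hcc
    rw [show (2 : ℤ) ^ (j + 1) = ((2 ^ (j + 1) : ℕ) : ℤ) by push_cast; rfl, zpow_mul, zpow_natCast,
      ← hz]
    have h2z : z ^ (2 : ℤ) = 1 := by rw [zpow_two, hzz]
    rcases Int.even_or_odd m with ⟨r, rfl⟩ | ⟨r, rfl⟩
    · exact Or.inl (by rw [← two_mul, zpow_mul, h2z, one_zpow])
    · exact Or.inr (by rw [zpow_add, zpow_mul, h2z, one_zpow, one_mul, zpow_one])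
  have hA := hF _ (Lib.PGroups.mul_conj_mem_fixed (zpowers a) hCc ht2 haC)
  have hB := hF (t * t) ⟨ht2, mem_centralizer_singleton_iff.2 (mul_assoc t t t)⟩
  rcases hA with hA | hA
  · -- `t` inverts `a`
    have hinv : t * a * t⁻¹ = a⁻¹ := eq_inv_of_mul_eq_one_right hA
    rcases hB with hB | hB
    · refine Or.inl ⟨j, ?_⟩
      have : NeZero (2 ^ (j + 2)) := ⟨(pow_pos two_pos _).ne'⟩
      exact Lib.PGroups.nonempty_dihedral_equiv hord (by rw [sq, hB]) hinv ht (by rw [hn]; ring)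
    · refine Or.inr (Or.inr ⟨j, ?_⟩)
      have : NeZero (2 ^ (j + 1)) := ⟨(pow_pos two_pos _).ne'⟩
      exact Lib.PGroups.nonempty_quaternion_equiv (by rw [hord]; ring) (by rw [sq, hB]) hinv ht
        (by rw [hn]; ring)
  · -- `t` maps `a` to `a⁻¹ * z`
    have hconj : t * a * t⁻¹ = a⁻¹ * z := by rw [← hA, inv_mul_cancel_left]
    obtain rfl | hj := Nat.eq_zero_or_pos j
    · exfalso
      have hc : t * a = a * t := by
        rw [← mul_inv_eq_iff_eq_mul, hconj, hz]
        group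
      have hmem : a ∈ zpowers a ⊓ centralizer ({t} : Set S) :=
        ⟨haC, mem_centralizer_singleton_iff.2 hc.symm⟩
      have hle : zpowers a ≤ zpowers a ⊓ centralizer ({t} : Set S) := zpowers_le.2 hmem
      have := Subgroup.card_le_of_le hle
      rw [hF2, Nat.card_zpowers, hord] at this
      norm_num at this
    obtain ⟨k, rfl⟩ : ∃ k, j = k + 1 := ⟨j - 1, by omega⟩
    have hexp' : a⁻¹ * z = a ^ (2 ^ (k + 2) - 1) := by
      rw [hz, inv_mul_eq_iff_eq_mul, ← pow_succ', Nat.sub_add_cancel (Nat.one_le_two_pow)]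
    have main : ∀ b : S, b ∉ zpowers a → b * b = 1 → b * a * b⁻¹ = a⁻¹ * z →
        ∃ k' : ℕ, Nat.card S = 2 ^ (k' + 4) ∧ ∃ a b : S, orderOf a = 2 ^ (k' + 3) ∧ orderOf b = 2 ∧
          b * a * b⁻¹ = a ^ (2 ^ (k' + 2) - 1) := fun b hb hbb hba =>
      ⟨k, hn, a, b, hord, orderOf_eq_prime (by rw [sq, hbb]) (fun h => hb (h ▸ one_mem _)),
        hba.trans hexp'⟩
    rcases hB with hB | hB
    · exact Or.inr (Or.inl (main t ht hB hconj))
    · refine Or.inr (Or.inl (main (t * a) (fun h => ht ?_) ?_ ?_))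
      · simpa using mul_mem h (inv_mem haC)
      · have haz : Commute a z := Commute.self_pow a _
        calc t * a * (t * a) = (t * a * t⁻¹) * (t * t) * a := by group
          _ = a⁻¹ * z * z * a := by rw [hconj, hB]
          _ = 1 := by rw [mul_assoc (a⁻¹) z z, hzz, mul_one, inv_mul_cancel]
      · calc t * a * a * (t * a)⁻¹ = t * a * t⁻¹ := by group
          _ = _ := hconj

end Cfsg.Agent.S4399
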