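import Cfsg.Statements.S4584
import Mathlib.GroupTheory.Nilpotent
import Mathlib.GroupTheory.PGroup
import Mathlib.GroupTheory.Abelianization.Defs
import Mathlib.GroupTheory.SpecificGroups.Cyclic

set_option autoImplicit false
open Cfsg
open scoped commutatorElement

namespace Cfsg.Agent.S4584

variable {P : Type*} [Group P] [Finite P]

theorem comm_of_cyclic_mod_central (K : Subgroup P) [K.Normal] (hK : K ≤ Subgroup.center P)
    [IsCyclic (P ⧸ K)] : ∀ a b : P, a * b = b * a := by
  have h : (QuotientGroup.mk' K).ker ≤ Subgroup.center P := by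
    rw [QuotientGroup.ker_mk']; exact hK
  exact commutative_of_cyclic_center_quotient (QuotientGroup.mk' K) h

/-- The commutator map with a fixed element, when commutators are central. -/
def commHom (g : P) (A : Subgroup P) (h : ∀ a ∈ A, g * a * g⁻¹ * a⁻¹ ∈ Subgroup.center P) :
    A →* P :=
  MonoidHom.mk' (fun a : A => g * a * g⁻¹ * (a : P)⁻¹) (by
    intro a b
    have hb := Subgroup.mem_center_iff.1 (h b b.2) (a : P)⁻¹
    calc g * ((a * b : A) : P) * g⁻¹ * ((a * b : A) : P)⁻¹
        = g * a * g⁻¹ * ((g * b * g⁻¹ * (b : P)⁻¹) * (a : P)⁻¹) := by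
          simp [mul_assoc]
      _ = g * a * g⁻¹ * ((a : P)⁻¹ * (g * b * g⁻¹ * (b : P)⁻¹)) := by rw [hb]
      _ = _ := by simp [mul_assoc])

omit [Finite P] in
theorem comm_of_order_p_sq {p : ℕ} [Fact p.Prime] {H : Type*} [Group H] [Finite H] {k : ℕ}
    (hk : k ≤ 2) (hH : Nat.card H = p ^ k) : ∀ a b : H, a * b = b * a := by
  interval_cases k
  · haveI := (Nat.card_eq_one_iff_unique.1 (by simpa using hH)).1
    exact fun a b => Subsingleton.elim _ _
  · haveI := isCyclic_of_prime_card (by simpa using hH)
    exact fun a b => @mul_comm _ IsCyclic.commGroup.toCommMagma a b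
  · exact IsPGroup.commutative_of_card_eq_prime_sq hH

/-- A cyclic abelianization of a p-group forces commutativity. -/
theorem comm_of_cyclic_abelianization {p : ℕ} [Fact p.Prime] (hP : IsPGroup p P) (x : P)
    (h : Subgroup.zpowers x ⊔ commutator P = ⊤) : ∀ a b : P, a * b = b * a := by
  haveI := hP.isNilpotent
  have htop : Subgroup.zpowers x = ⊤ := by
    rcases eq_top_or_exists_le_coatom (Subgroup.zpowers x) with h1 | ⟨H, hH, hle⟩
    · exact h1
    · exfalso
      haveI : H.Normal := Subgroup.NormalizerCondition.normal_of_coatom H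
        normalizerCondition_of_isNilpotent hH
      have hH' : commutator P ≤ H := by
        have hcyc : IsCyclic (P ⧸ H) := by
          by_cases htriv : Subsingleton (P ⧸ H)
          · infer_instance
          · rw [not_subsingleton_iff_nontrivial] at htriv
            obtain ⟨q, hq⟩ := exists_ne (1 : P ⧸ H)
            refine isCyclic_iff_exists_zpowers_eq_top.2 ⟨q, ?_⟩
            obtain ⟨y, rfl⟩ := QuotientGroup.mk'_surjective H q
            have hlt : H < (Subgroup.zpowers (QuotientGroup.mk' H y)).comap (QuotientGroup.mk' H) := by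
              refine lt_of_le_of_ne ?_ ?_
              · intro m hm
                have : QuotientGroup.mk' H m = 1 := (QuotientGroup.eq_one_iff m).2 hm
                rw [Subgroup.mem_comap, this]; exact Subgroup.one_mem _
              · intro he
                apply hq
                have : y ∈ H := he ▸ Subgroup.mem_comap.2 (Subgroup.mem_zpowers _)
                exact (QuotientGroup.eq_one_iff y).2 this
            have := congrArg (Subgroup.map (QuotientGroup.mk' H)) (hH.2 _ hlt)
            rwa [Subgroup.map_comap_eq_self_of_surjective (QuotientGroup.mk'_surjective H),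
              Subgroup.map_top_of_surjective _ (QuotientGroup.mk'_surjective H)] at this
        letI := IsCyclic.commGroup (α := P ⧸ H)
        rw [commutator_def, Subgroup.commutator_le]
        intro a _ b _
        rw [← QuotientGroup.eq_one_iff]
        change QuotientGroup.mk' H _ = 1
        rw [map_commutatorElement, commutatorElement_eq_one_iff_mul_comm, mul_comm]
      exact hH.1 (top_unique (h ▸ sup_le hle hH'))
  intro a b
  obtain ⟨i, rfl⟩ := Subgroup.mem_zpowers_iff.1 (htop ▸ Subgroup.mem_top a)
  obtain ⟨j, rfl⟩ := Subgroup.mem_zpowers_iff.1 (htop ▸ Subgroup.mem_top b)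
  exact (Commute.zpow_zpow_self x i j).eq

theorem commutator_eq_bot_of_comm (h : ∀ a b : P, a * b = b * a) : commutator P = ⊥ := by
  rw [commutator_def, eq_bot_iff, Subgroup.commutator_le]
  intro a _ b _
  rw [Subgroup.mem_bot, commutatorElement_eq_one_iff_mul_comm]
  exact h a b

section order4
variable {p : ℕ} [Fact p.Prime] (hP : Nat.card P = p ^ 4)
include hP

theorem pow_of_subgroup (H : Subgroup P) : ∃ k ≤ 4, Nat.card H = p ^ k ∧ H.index = p ^ (4 - k) := by
  have hd : Nat.card H ∣ p ^ 4 := hP ▸ Subgroup.card_subgroup_dvd_card H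
  obtain ⟨k, hk, hk'⟩ := (Nat.dvd_prime_pow Fact.out).1 hd
  refine ⟨k, hk, hk', ?_⟩
  apply Nat.eq_of_mul_eq_mul_left (Nat.card_pos (α := H))
  rw [Subgroup.card_mul_index, hP, hk', ← pow_add]
  congr 1
  omega

theorem center_index_ge (hna : ¬ ∀ a b : P, a * b = b * a) :
    ∃ k, 1 ≤ k ∧ k ≤ 2 ∧ Nat.card (Subgroup.center P) = p ^ k := by
  have hp : p.Prime := Fact.out
  obtain ⟨k, hk, hk', hi⟩ := pow_of_subgroup hP (Subgroup.center P)
  haveI : Nontrivial P := Finite.one_lt_card_iff_nontrivial.1 (hP ▸ Nat.one_lt_pow (by norm_num) hp.one_lt)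
  have h1 : 1 ≤ k := by
    by_contra hcon
    have hk0 : k = 0 := by omega
    rw [hk0, pow_zero] at hk'
    have := (IsPGroup.of_card hP).center_nontrivial
    exact absurd hk' (Nat.ne_of_gt Finite.one_lt_card)
  refine ⟨k, h1, ?_, hk'⟩
  by_contra hcon
  apply hna
  have hcard : Nat.card (P ⧸ Subgroup.center P) = p ^ (4 - k) := by
    rw [← Subgroup.index_eq_card, hi]
  haveI : IsCyclic (P ⧸ Subgroup.center P) := by
    have : k = 3 ∨ k = 4 := by omega
    rcases this with rfl | rfl
    · exact isCyclic_of_prime_card (by simpa using hcard)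
    · haveI := (Nat.card_eq_one_iff_unique.1 (by simpa using hcard)).1
      infer_instance
  exact comm_of_cyclic_mod_central _ le_rfl

theorem card_center_lt_of_mem {x : P} (hx : x ∉ Subgroup.center P) :
    Nat.card (Subgroup.center P) < Nat.card ↥(Subgroup.center P ⊔ Subgroup.zpowers x) := by
  have hlt : Subgroup.center P < Subgroup.center P ⊔ Subgroup.zpowers x :=
    lt_of_le_of_ne le_sup_left fun h => hx (h ▸ Subgroup.mem_sup_right (Subgroup.mem_zpowers x))
  refine lt_of_le_of_ne (Subgroup.card_le_of_le hlt.le) fun h => ?_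
  exact hlt.ne (Subgroup.eq_of_le_of_card_ge hlt.le (le_of_eq h.symm))

theorem card_commutator_of_center_index (h : (Subgroup.center P).index = p ^ 2) :
    Nat.card (commutator P) = p := by
  have hp : p.Prime := Fact.out
  obtain ⟨k, hk, hk', hi⟩ := pow_of_subgroup hP (Subgroup.center P)
  have hk2 : k = 2 := by
    have := Nat.pow_right_injective hp.two_le (h.symm.trans hi)
    omega
  subst hk2
  have hna : ¬ ∀ a b : P, a * b = b * a := by
    intro hc
    have : Subgroup.center P = ⊤ :=
      (Subgroup.eq_top_iff' _).2 fun a => Subgroup.mem_center_iff.2 fun b => hc b a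
    rw [this, Subgroup.index_top] at h
    exact absurd h (Nat.ne_of_lt (Nat.one_lt_pow (by norm_num) hp.one_lt))
  have hq : ∀ a b : P ⧸ Subgroup.center P, a * b = b * a :=
    comm_of_order_p_sq le_rfl (by rw [← Subgroup.index_eq_card, h])
  have hcen : ∀ a b : P, a * b * a⁻¹ * b⁻¹ ∈ Subgroup.center P := by
    intro a b
    rw [← QuotientGroup.eq_one_iff]
    simp only [QuotientGroup.mk_mul, QuotientGroup.mk_inv]
    rw [hq (a : P ⧸ Subgroup.center P) b, mul_assoc (b : P ⧸ Subgroup.center P) a,
      mul_inv_cancel, mul_one, mul_inv_cancel]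
  obtain ⟨x, hx⟩ : ∃ x, x ∉ Subgroup.center P := by
    by_contra hcon
    push Not at hcon
    exact hna fun a b => Subgroup.mem_center_iff.1 (hcon b) a
  let A := Subgroup.center P ⊔ Subgroup.zpowers x
  have hxA : x ∈ A := Subgroup.mem_sup_right (Subgroup.mem_zpowers x)
  have hAab : ∀ a ∈ A, ∀ b ∈ A, a * b = b * a := by
    have hxc : A ≤ Subgroup.centralizer {x} :=
      sup_le (fun z hz => Subgroup.mem_centralizer_singleton_iff.2
          (Subgroup.mem_center_iff.1 hz x).symm)
        (Subgroup.zpowers_le.2 (Subgroup.mem_centralizer_singleton_iff.2 rfl))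
    intro a ha b hb
    have : A ≤ Subgroup.centralizer {a} := by
      refine sup_le (fun z hz => Subgroup.mem_centralizer_singleton_iff.2
        (Subgroup.mem_center_iff.1 hz a).symm) (Subgroup.zpowers_le.2 ?_)
      exact Subgroup.mem_centralizer_singleton_iff.2
        (Subgroup.mem_centralizer_singleton_iff.1 (hxc ha)).symm
    exact (Subgroup.mem_centralizer_singleton_iff.1 (this hb)).symm
  obtain ⟨g, hg⟩ : ∃ g, g ∉ A := by
    by_contra hcon
    push Not at hcon
    exact hna fun a b => hAab a (hcon a) b (hcon b)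
  -- generation
  have hgen : ∀ H : Subgroup P, A ≤ H → g ∈ H → H = ⊤ := by
    intro H h1 h2
    obtain ⟨kA, hkA, hA, -⟩ := pow_of_subgroup hP A
    obtain ⟨kH, hkH, hH, -⟩ := pow_of_subgroup hP H
    have a1 := card_center_lt_of_mem hP hx
    rw [hk'] at a1
    have a1' : p ^ 2 < p ^ kA := hA ▸ a1
    have a2 : p ^ kA < p ^ kH := by
      rw [← hA, ← hH]
      refine lt_of_le_of_ne (Subgroup.card_le_of_le h1) fun he => ?_
      exact hg ((Subgroup.eq_of_le_of_card_ge h1 he.ge).symm ▸ h2)
    have b1 := (Nat.pow_lt_pow_iff_right hp.one_lt).1 a1'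
    have b2 := (Nat.pow_lt_pow_iff_right hp.one_lt).1 a2
    have : kH = 4 := by omega
    exact Subgroup.eq_top_of_card_eq H (by rw [hH, this, hP])
  let f := commHom g A (fun a _ => hcen g a)
  let T := f.range
  have hker : f.ker = (Subgroup.center P).subgroupOf A := by
    ext a
    rw [MonoidHom.mem_ker, Subgroup.mem_subgroupOf]
    constructor
    · intro ha
      have hga : g * a = a * g := by
        have : g * a * g⁻¹ * (a : P)⁻¹ = 1 := ha
        rwa [mul_inv_eq_one, mul_inv_eq_iff_eq_mul] at this
      rw [Subgroup.mem_center_iff]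
      intro b
      have : Subgroup.centralizer {(a : P)} = ⊤ := hgen _
        (fun c hc => Subgroup.mem_centralizer_singleton_iff.2 (hAab c hc a a.2))
        (Subgroup.mem_centralizer_singleton_iff.2 hga)
      exact Subgroup.mem_centralizer_singleton_iff.1 (this ▸ Subgroup.mem_top b)
    · intro ha
      change g * a * g⁻¹ * (a : P)⁻¹ = 1
      rw [Subgroup.mem_center_iff.1 ha g]
      simp
  have hT : Nat.card T ∣ p := by
    have h1 : Nat.card T = (Subgroup.center P).relIndex A := by
      change _ = ((Subgroup.center P).subgroupOf A).index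
      rw [← hker, Subgroup.index_ker]
    have h2 := Subgroup.relIndex_mul_index (le_sup_left : Subgroup.center P ≤ A)
    rw [← h1, h] at h2
    obtain ⟨j, hj, hj'⟩ := (Nat.dvd_prime_pow hp).1 (Dvd.intro _ h2 : Nat.card T ∣ p ^ 2)
    rw [hj']
    have hj2 : j ≠ 2 := by
      rintro rfl
      rw [hj'] at h2
      have : A.index = 1 := Nat.eq_of_mul_eq_mul_left (pow_pos hp.pos 2) (by rw [h2, mul_one])
      exact hg ((Subgroup.index_eq_one.1 this).symm ▸ Subgroup.mem_top g)
    exact (pow_dvd_pow p (show j ≤ 1 by omega)).trans (by simp)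
  have hTc : T ≤ Subgroup.center P := by
    rintro _ ⟨a, rfl⟩
    exact hcen g a
  haveI : T.Normal := ⟨fun t ht b => by
    rw [Subgroup.mem_center_iff.1 (hTc ht) b]; simpa using ht⟩
  have hqT : ∀ u v : P, QuotientGroup.mk' T u * QuotientGroup.mk' T v =
      QuotientGroup.mk' T v * QuotientGroup.mk' T u := by
    have hga : ∀ a ∈ A, QuotientGroup.mk' T g * QuotientGroup.mk' T a =
        QuotientGroup.mk' T a * QuotientGroup.mk' T g := by
      intro a ha
      rw [← mul_inv_eq_one, mul_inv_rev, ← mul_assoc, ← map_inv, ← map_inv, ← map_mul, ← map_mul,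
        ← map_mul]
      exact (QuotientGroup.eq_one_iff _).2 ⟨⟨a, ha⟩, rfl⟩
    intro u v
    suffices (Subgroup.centralizer {QuotientGroup.mk' T v}).comap (QuotientGroup.mk' T) = ⊤ by
      have hu := this ▸ Subgroup.mem_top u
      exact Subgroup.mem_centralizer_singleton_iff.1 (Subgroup.mem_comap.1 hu)
    refine hgen _ (fun a ha => ?_) ?_
    · rw [Subgroup.mem_comap, Subgroup.mem_centralizer_singleton_iff]
      suffices (Subgroup.centralizer {QuotientGroup.mk' T a}).comap (QuotientGroup.mk' T) = ⊤ by
        have hu := this ▸ Subgroup.mem_top v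
        exact (Subgroup.mem_centralizer_singleton_iff.1 (Subgroup.mem_comap.1 hu)).symm
      refine hgen _ (fun b hb => ?_) ?_
      · rw [Subgroup.mem_comap, Subgroup.mem_centralizer_singleton_iff, ← map_mul, ← map_mul,
          hAab b hb a ha]
      · rw [Subgroup.mem_comap, Subgroup.mem_centralizer_singleton_iff]
        exact hga a ha
    · rw [Subgroup.mem_comap, Subgroup.mem_centralizer_singleton_iff]
      suffices (Subgroup.centralizer {QuotientGroup.mk' T g}).comap (QuotientGroup.mk' T) = ⊤ by
        have hu := this ▸ Subgroup.mem_top v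
        exact (Subgroup.mem_centralizer_singleton_iff.1 (Subgroup.mem_comap.1 hu)).symm
      refine hgen _ (fun b hb => ?_) ?_
      · rw [Subgroup.mem_comap, Subgroup.mem_centralizer_singleton_iff]
        exact (hga b hb).symm
      · rw [Subgroup.mem_comap, Subgroup.mem_centralizer_singleton_iff]
  have hle : commutator P ≤ T := by
    rw [commutator_def, Subgroup.commutator_le]
    intro a _ b _
    rw [← QuotientGroup.eq_one_iff]
    change QuotientGroup.mk' T _ = 1
    rw [map_commutatorElement, commutatorElement_eq_one_iff_mul_comm]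
    exact hqT a b
  rcases (Nat.dvd_prime hp).1 ((Subgroup.card_dvd_of_le hle).trans hT) with h1 | h1
  · exfalso
    apply hna
    intro a b
    rw [← commutatorElement_eq_one_iff_mul_comm]
    have hm : ⁅a, b⁆ ∈ commutator P :=
      Subgroup.commutator_mem_commutator (Subgroup.mem_top a) (Subgroup.mem_top b)
    rwa [Subgroup.card_eq_one.1 h1, Subgroup.mem_bot] at hm
  · exact h1

omit hP in
/-- A normal subgroup of prime order is central in a p-group. -/
theorem le_center_of_card_eq_prime (hpg : IsPGroup p P) (K : Subgroup P) [hK : K.Normal]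
    (hcard : Nat.card K = p) : K ≤ Subgroup.center P := by
  have hp : p.Prime := Fact.out
  letI : MulAction P K :=
    MulAction.compHom K (MulAut.conjNormal (H := K))
  haveI : Finite K := inferInstance
  obtain ⟨b, hb, hb1⟩ := hpg.exists_fixed_point_of_prime_dvd_card_of_fixed_point (α := K)
    (hcard ▸ dvd_rfl) (a := 1) (fun g => Subtype.ext (by simp [MulAction.compHom_smul_def]))
  intro k hk
  haveI : Fact p.Prime := ⟨hp⟩
  have hgen : Subgroup.zpowers (b : P) = K := by
    apply Subgroup.eq_of_le_of_card_ge (Subgroup.zpowers_le.2 b.2)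
    have hd : Nat.card (Subgroup.zpowers (b : P)) ∣ p :=
      hcard ▸ Subgroup.card_dvd_of_le (Subgroup.zpowers_le.2 b.2)
    rcases (Nat.dvd_prime hp).1 hd with h | h
    · exfalso
      rw [Nat.card_zpowers, orderOf_eq_one_iff] at h
      exact hb1 (Subtype.ext h.symm)
    · rw [h, hcard]
  rw [← hgen] at hk
  obtain ⟨i, rfl⟩ := Subgroup.mem_zpowers_iff.1 hk
  refine (Subgroup.center P).zpow_mem (Subgroup.mem_center_iff.2 fun g => ?_) i
  have := congrArg Subtype.val (hb g)
  simp [MulAction.compHom_smul_def] at this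
  exact mul_inv_eq_iff_eq_mul.1 this

theorem center_index_of_card_commutator (h : Nat.card (commutator P) = p) :
    (Subgroup.center P).index = p ^ 2 := by
  have hp : p.Prime := Fact.out
  have hna : ¬ ∀ a b : P, a * b = b * a := by
    intro hc
    rw [commutator_eq_bot_of_comm hc, Subgroup.card_bot] at h
    exact hp.ne_one h.symm
  have hcc := le_center_of_card_eq_prime (IsPGroup.of_card hP) (commutator P) h
  obtain ⟨k, h1, h2, hk⟩ := center_index_ge hP hna
  obtain ⟨k', -, hk', hi⟩ := pow_of_subgroup hP (Subgroup.center P)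
  have hkk : k' = k := Nat.pow_right_injective hp.two_le (hk'.symm.trans hk)
  subst hkk
  suffices k' = 2 by rw [hi, this]
  by_contra hcon
  have hk1 : k' = 1 := by omega
  subst hk1
  rw [pow_one] at hk
  obtain ⟨x, hx⟩ : ∃ x, x ∉ Subgroup.center P := by
    by_contra hh
    push Not at hh
    exact hna fun a b => Subgroup.mem_center_iff.1 (hh b) a
  have hcomm : ∀ a b : P, a * b * a⁻¹ * b⁻¹ ∈ Subgroup.center P := fun a b => hcc
    (Subgroup.commutator_mem_commutator (Subgroup.mem_top a) (Subgroup.mem_top b))
  have himg : ∀ (g : P) (B : Subgroup P),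
      Nat.card (commHom g B (fun a _ => hcomm g a)).range ≤ p := by
    intro g B
    rw [← h]
    apply Subgroup.card_le_of_le
    rintro _ ⟨a, rfl⟩
    exact Subgroup.commutator_mem_commutator (Subgroup.mem_top g) (Subgroup.mem_top (a : P))
  let C := Subgroup.centralizer ({x} : Set P)
  have hCker : ∀ a : P, ∀ ha : a ∈ (⊤ : Subgroup P),
      (⟨a, ha⟩ : (⊤ : Subgroup P)) ∈ (commHom x ⊤ (fun a _ => hcomm x a)).ker ↔ a ∈ C := by
    intro a ha
    rw [MonoidHom.mem_ker, Subgroup.mem_centralizer_singleton_iff]
    change x * a * x⁻¹ * a⁻¹ = 1 ↔ _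
    rw [mul_inv_eq_one, mul_inv_eq_iff_eq_mul, eq_comm]
  have hCi : C.index ≤ p := by
    have h1 := himg x ⊤
    rw [← Subgroup.index_ker] at h1
    have : (commHom x ⊤ (fun a _ => hcomm x a)).ker = C.subgroupOf ⊤ := by
      ext ⟨a, ha⟩
      rw [hCker, Subgroup.mem_subgroupOf]
    rw [this] at h1
    rwa [show (C.subgroupOf ⊤).index = C.index from Subgroup.relIndex_top_right C] at h1
  obtain ⟨c, hc4, hcC, hci⟩ := pow_of_subgroup hP C
  have hc3 : 3 ≤ c := by
    rw [hci] at hCi
    by_contra hc
    have : p ^ 2 ≤ p ^ (4 - c) := Nat.pow_le_pow_right hp.pos (by omega)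
    nlinarith [hp.two_le]
  have hxC : x ∈ C := Subgroup.mem_centralizer_singleton_iff.2 rfl
  have hCne : C ≠ ⊤ := by
    intro he
    exact hx (Subgroup.mem_center_iff.2 fun g =>
      Subgroup.mem_centralizer_singleton_iff.1 (he ▸ Subgroup.mem_top g : g ∈ C))
  have hc3' : c = 3 := by
    by_contra hc
    exact hCne (Subgroup.eq_top_of_card_eq C (by rw [hcC, hP, show c = 4 by omega]))
  subst hc3'
  -- C is abelian
  let D := Subgroup.center P ⊔ Subgroup.zpowers x
  have hDC : D ≤ C := sup_le (fun z hz => Subgroup.mem_centralizer_singleton_iff.2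
      (Subgroup.mem_center_iff.1 hz x).symm) (Subgroup.zpowers_le.2 hxC)
  have hDcen : D.subgroupOf C ≤ Subgroup.center C := by
    have hD : D ≤ Subgroup.centralizer (C : Set P) := by
      refine sup_le (fun z hz => Subgroup.mem_centralizer_iff.2 fun y _ =>
        Subgroup.mem_center_iff.1 hz y) (Subgroup.zpowers_le.2 ?_)
      exact Subgroup.mem_centralizer_iff.2 fun y hy => Subgroup.mem_centralizer_singleton_iff.1 hy
    intro d hd
    rw [Subgroup.mem_center_iff]
    intro y
    exact Subtype.ext (Subgroup.mem_centralizer_iff.1 (hD (Subgroup.mem_subgroupOf.1 hd)) y y.2)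
  haveI : (D.subgroupOf C).Normal := ⟨fun d hd y => by
    rw [Subgroup.mem_center_iff.1 (hDcen hd) y]; simpa using hd⟩
  have hCab : ∀ a b : C, a * b = b * a := by
    obtain ⟨d, hd4, hdD, -⟩ := pow_of_subgroup hP D
    have hd2 : 2 ≤ d := by
      have := card_center_lt_of_mem hP hx
      rw [hk] at this
      have h2 : p ^ 1 < p ^ d := by rw [pow_one]; exact this.trans_eq hdD
      exact (Nat.pow_lt_pow_iff_right hp.one_lt).1 h2
    have hd3 : d ≤ 3 := (Nat.pow_le_pow_iff_right hp.one_lt).1
      (hdD ▸ hcC ▸ Subgroup.card_le_of_le hDC)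
    have hidx : Nat.card (↥C ⧸ D.subgroupOf C) = p ^ (3 - d) := by
      have h2 := Subgroup.card_mul_index (D.subgroupOf C)
      rw [Nat.card_congr (Subgroup.subgroupOfEquivOfLe hDC).toEquiv, hdD, hcC,
        Subgroup.index_eq_card] at h2
      apply Nat.eq_of_mul_eq_mul_left (pow_pos hp.pos d)
      rw [h2, ← pow_add]; congr 1; omega
    haveI : IsCyclic (↥C ⧸ D.subgroupOf C) := by
      have : d = 2 ∨ d = 3 := by omega
      rcases this with rfl | rfl
      · exact isCyclic_of_prime_card (by simpa using hidx)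
      · haveI := (Nat.card_eq_one_iff_unique.1 (by simpa using hidx)).1
        infer_instance
    exact comm_of_cyclic_mod_central (P := C) _ hDcen
  obtain ⟨g, hg⟩ : ∃ g, g ∉ C := by
    by_contra hh
    push Not at hh
    exact hCne ((Subgroup.eq_top_iff' C).2 hh)
  have hker : (commHom g C (fun a _ => hcomm g a)).ker ≤ (Subgroup.center P).subgroupOf C := by
    intro a ha
    rw [Subgroup.mem_subgroupOf, Subgroup.mem_center_iff]
    intro y
    have hga : g * a = a * g := by
      have : g * a * g⁻¹ * (a : P)⁻¹ = 1 := ha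
      rwa [mul_inv_eq_one, mul_inv_eq_iff_eq_mul] at this
    suffices Subgroup.centralizer {(a : P)} = ⊤ from
      Subgroup.mem_centralizer_singleton_iff.1 (this ▸ Subgroup.mem_top y)
    obtain ⟨e, he4, heC, -⟩ := pow_of_subgroup hP (Subgroup.centralizer {(a : P)})
    have hle : C < Subgroup.centralizer {(a : P)} := by
      refine lt_of_le_of_ne (fun b hb => Subgroup.mem_centralizer_singleton_iff.2
        (congrArg Subtype.val (hCab ⟨b, hb⟩ a))) fun he => hg (he ▸ ?_)
      exact Subgroup.mem_centralizer_singleton_iff.2 hga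
    have : p ^ 3 < p ^ e := by
      rw [← hcC, ← heC]
      refine lt_of_le_of_ne (Subgroup.card_le_of_le hle.le) fun hh => hle.ne ?_
      exact Subgroup.eq_of_le_of_card_ge hle.le hh.ge
    have := (Nat.pow_lt_pow_iff_right hp.one_lt).1 this
    exact Subgroup.eq_top_of_card_eq _ (by rw [heC, hP, show e = 4 by omega])
  have h3 := Subgroup.card_mul_index (commHom g C (fun a _ => hcomm g a)).ker
  rw [Subgroup.index_ker, hcC] at h3
  have h4 : Nat.card (commHom g C (fun a _ => hcomm g a)).ker ≤ p := by
    refine (Subgroup.card_le_of_le hker).trans ?_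
    rw [← hk]
    exact le_of_eq (Nat.card_congr (Subgroup.subgroupOfEquivOfLe
      (fun z hz => Subgroup.mem_centralizer_singleton_iff.2
        (Subgroup.mem_center_iff.1 hz x).symm)).toEquiv)
  have h5 := Nat.mul_le_mul h4 (himg g C)
  rw [h3] at h5
  nlinarith [hp.two_le, pow_pos hp.pos 2]

end order4

theorem result {P : Type*} [Group P] [Finite P] (p : ℕ) [Fact p.Prime] (hP : Nat.card P = p ^ 4) :
    Nat.card (commutator P) = p ↔ (Subgroup.center P).index = p ^ 2 :=
  ⟨center_index_of_card_commutator hP, card_commutator_of_center_index hP⟩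

end Cfsg.Agent.S4584
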