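import Cfsg.Statements.S1583
import Cfsg.Agent.Lib.SporStruct.LeechHS

set_option autoImplicit false
open Cfsg

namespace Cfsg.Agent.S1583

open Cfsg.Agent.Lib Cfsg.Agent.Lib.SporStruct in
/-- The Higman–Sims configuration: for two vectors of customary norm 6 with inner product −4, exactly 100 minimal vectors have customary inner products 3 and −3 with them, and the joint stabiliser permutes these transitively. -/
theorem result (v w : ↥Cfsg.leechLattice) (hv : Cfsg.sqNorm (v : Cfsg.GolayPt → ℤ) = 48) (hw : Cfsg.sqNorm (w : Cfsg.GolayPt → ℤ) = 48) (hvw : Cfsg.dotInt (v : Cfsg.GolayPt → ℤ) (w : Cfsg.GolayPt → ℤ) = -32) : {x : ↥Cfsg.leechLattice | Cfsg.sqNorm (x : Cfsg.GolayPt → ℤ) = 32 ∧ Cfsg.dotInt (v : Cfsg.GolayPt → ℤ) (x : Cfsg.GolayPt → ℤ) = 24 ∧ Cfsg.dotInt (w : Cfsg.GolayPt → ℤ) (x : Cfsg.GolayPt → ℤ) = -24}.ncard = 100 ∧ ∀ x ∈ {x : ↥Cfsg.leechLattice | Cfsg.sqNorm (x : Cfsg.GolayPt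 → ℤ) = 32 ∧ Cfsg.dotInt (v : Cfsg.GolayPt → ℤ) (x : Cfsg.GolayPt → ℤ) = 24 ∧ Cfsg.dotInt (w : Cfsg.GolayPt → ℤ) (x : Cfsg.GolayPt → ℤ) = -24}, ∀ x' ∈ {x : ↥Cfsg.leechLattice | Cfsg.sqNorm (x : Cfsg.GolayPt → ℤ) = 32 ∧ Cfsg.dotInt (v : Cfsg.GolayPt → ℤ) (x : Cfsg.GolayPt → ℤ) = 24 ∧ Cfsg.dotInt (w : Cfsg.GolayPt → ℤ) (x : Cfsg.GolayPt → ℤ) = -24}, ∃ g : ↥Cfsg.Co0, g • v = v ∧ g • w = w ∧ g • x = x' := by
  refine ⟨?_, fun x hx x' hx' => ?_⟩
  · have ht : sqNorm ((v + w : ↥leechLattice) : GolayPt → ℤ) = 32 := by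
      rw [AddSubgroup.coe_add, Leech.sqNorm_add]; omega
    have htv : dotInt ((v + w : ↥leechLattice) : GolayPt → ℤ) (v : GolayPt → ℤ) = 16 := by
      rw [LeechPairs.dot_comm, AddSubgroup.coe_add, LeechPairs.dot_add_right, LeechPairs.dot_self]
      omega
    rw [← LeechHS.card100 (t := v + w) (v := v) ht hv htv, ← Set.ncard_coe_finset]
    congr 1
    ext x
    simp only [Finset.coe_filter, LeechCounts.mem_shell, Set.mem_ofPred_eq]
    have e : dotInt ((v + w : ↥leechLattice) : GolayPt → ℤ) (x : GolayPt → ℤ) =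
        dotInt (v : GolayPt → ℤ) (x : GolayPt → ℤ) + dotInt (w : GolayPt → ℤ) (x : GolayPt → ℤ) := by
      rw [LeechPairs.dot_comm, AddSubgroup.coe_add, LeechPairs.dot_add_right,
        LeechPairs.dot_comm, LeechPairs.dot_comm (x : GolayPt → ℤ)]
    constructor
    · rintro ⟨h1, h2, h3⟩
      refine ⟨h1, ?_, h2⟩
      show dotInt ((v + w : ↥leechLattice) : GolayPt → ℤ) (x : GolayPt → ℤ) = 0
      omega
    · rintro ⟨h1, h2, h3⟩
      have h2' : dotInt ((v + w : ↥leechLattice) : GolayPt → ℤ) (x : GolayPt → ℤ) = 0 := h2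
      have h3' : dotInt (v : GolayPt → ℤ) (x : GolayPt → ℤ) = 24 := h3
      exact ⟨h1, h3', by omega⟩
  · exact LeechHS.transitive100 hv hw hvw hx.1 hx.2.1 hx.2.2 hv hw hvw hx'.1 hx'.2.1 hx'.2.2

end Cfsg.Agent.S1583
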