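import Cfsg.Statements.S1584
import Cfsg.Agent.Lib.SporStruct.LeechHS

set_option autoImplicit false
open Cfsg

namespace Cfsg.Agent.S1584

open Cfsg.Agent.Lib Cfsg.Agent.Lib.SporStruct Leech LeechPairs LeechCounts LeechHS

/-- The inner product with a sum. -/
theorem dot_sum (v w y : leechLattice) :
    dotInt (vec (v + w)) (vec y) = dotInt (vec v) (vec y) + dotInt (vec w) (vec y) := by
  simp only [vec, AddSubgroup.coe_add]
  rw [dot_comm, dot_add_right, dot_comm, dot_comm (y : GolayPt → ℤ)]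

/-- The members, seen in standard position. -/
theorem member_iff {a b : GolayPt} {v w x : leechLattice} {g : Co0}
    (g1 : g • (v + w) = pp a b) (g2 : g • x = pn a b) (y : leechLattice) :
    ((sqNorm (vec y) = 32 ∧ dotInt (vec v) (vec y) = 24 ∧ dotInt (vec w) (vec y) = -24) ↔
      (sqNorm (vec (g • y)) = 32 ∧ dotInt (vec (pp a b)) (vec (g • y)) = 0 ∧
        dotInt (vec (g • v)) (vec (g • y)) = 24)) ∧
      dotInt (vec (pn a b)) (vec (g • y)) = dotInt (vec x) (vec y) := by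
  refine ⟨?_, by rw [← g2, dot_smul]⟩
  rw [norm_smul', ← g1, dot_smul, dot_smul, dot_sum]
  omega

/-- The Higman–Sims group acts with rank 3 and subdegrees 1, 22, 77 on its 100 points, the orbits of a point stabiliser being distinguished by customary inner product 1 with the fixed point. -/
theorem result (v w x : ↥Cfsg.leechLattice) (hv : Cfsg.sqNorm (v : Cfsg.GolayPt → ℤ) = 48) (hw : Cfsg.sqNorm (w : Cfsg.GolayPt → ℤ) = 48) (hvw : Cfsg.dotInt (v : Cfsg.GolayPt → ℤ) (w : Cfsg.GolayPt → ℤ) = -32) (hx : x ∈ {x : ↥Cfsg.leechLattice | Cfsg.sqNorm (x : Cfsg.GolayPt → ℤ) = 32 ∧ Cfsg.dotInt (v : Cfsg.GolayPt → ℤ) (x : Cfsg.GolayPt → ℤ) = 24 ∧ Cfsg.dotInt (w : Cfsg.GolayPt → ℤ) (x : Cfsg.GolayPt → ℤ) = -24}) : {y : ↥Cfsg.leechLattice | y ∈ {x : ↥Cfsg.leechLattice | Cfsg.sqNorm (x : Cfsg.GolayPt → ℤ) = 32 ∧ Cfsg.dotInt (v : Cfsg.GolayPt → ℤ) (x : Cfsg.GolayPt → ℤ) = 24 ∧ Cfsg.dotInt (w : Cfsg.GolayPt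 → ℤ) (x : Cfsg.GolayPt → ℤ) = -24} ∧ Cfsg.dotInt (x : Cfsg.GolayPt → ℤ) (y : Cfsg.GolayPt → ℤ) = 8}.ncard = 22 ∧ {y : ↥Cfsg.leechLattice | y ∈ {x : ↥Cfsg.leechLattice | Cfsg.sqNorm (x : Cfsg.GolayPt → ℤ) = 32 ∧ Cfsg.dotInt (v : Cfsg.GolayPt → ℤ) (x : Cfsg.GolayPt → ℤ) = 24 ∧ Cfsg.dotInt (w : Cfsg.GolayPt → ℤ) (x : Cfsg.GolayPt → ℤ) = -24} ∧ y ≠ x ∧ Cfsg.dotInt (x : Cfsg.GolayPt → ℤ) (y : Cfsg.GolayPt → ℤ) ≠ 8}.ncard = 77 ∧ ∀ y ∈ {x : ↥Cfsg.leechLattice | Cfsg.sqNorm (x : Cfsg.GolayPt → ℤ) = 32 ∧ Cfsg.dotInt (v : Cfsg.GolayPt → ℤ) (x : Cfsg.GolayPt → ℤ) = 24 ∧ Cfsg.dotInt (w : Cfsg.GolayPt → ℤ) (x : Cfsg.GolayPt → ℤ) = -24}, ∀ y' ∈ {x : ↥Cfsg.leechLattice | Cfsg.sqNorm (x : Cfsg.GolayPt → ℤ) = 32 ∧ Cfsg.dotInt (v : Cfsg.GolayPt → ℤ) (x : Cfsg.GolayPt → ℤ) = 24 ∧ Cfsg.dotInt (w : Cfsg.GolayPt → ℤ) (x : Cfsg.GolayPt → ℤ) = -24}, y ≠ x → y' ≠ x → (Cfsg.dotInt (x : Cfsg.GolayPt → ℤ) (y : Cfsg.GolayPt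 → ℤ) = 8 ↔ Cfsg.dotInt (x : Cfsg.GolayPt → ℤ) (y' : Cfsg.GolayPt → ℤ) = 8) → ∃ g : ↥Cfsg.Co0, g • v = v ∧ g • w = w ∧ g • x = x ∧ g • y = y' := by
  classical
  obtain ⟨hx1, hx2, hx3⟩ := hx
  have hab : (none : GolayPt) ≠ some 0 := by simp
  obtain ⟨g, g1, g2, g3⟩ := std100 hab hv hw hvw hx1 hx2 hx3
  have key := member_iff g1 g2
  have hn0 : sqNorm (vec (g • v)) = 48 := by rw [norm_smul']; exact hv
  have ht : sqNorm (vec (v + w)) = 32 := by
    simp only [vec, AddSubgroup.coe_add, sqNorm_add]; omega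
  have htv : dotInt (vec (v + w)) (vec v) = 16 := by
    rw [dot_sum, dot_self, dot_comm (vec w)]
    simp only [vec]
    omega
  set A := (shell 32).filter fun y =>
    dotInt (vec (v + w)) (vec y) = 0 ∧ dotInt (vec v) (vec y) = 24 with hA
  have hmemA : ∀ y : leechLattice, y ∈ A ↔
      (sqNorm (vec y) = 32 ∧ dotInt (vec v) (vec y) = 24 ∧ dotInt (vec w) (vec y) = -24) := by
    intro y
    rw [hA, Finset.mem_filter, mem_shell, dot_sum]
    omega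
  have h22 : (A.filter fun y => dotInt (vec x) (vec y) = 8).card = 22 := by
    rw [hA, Finset.filter_filter]
    refine Eq.trans ?_ (card22 hab hn0 g3)
    refine filter_congr_smul 32 g _ _ fun y => ?_
    rw [(key y).2, ← g1, dot_smul, dot_smul, and_assoc]
  have hxA : x ∈ A := (hmemA x).2 ⟨hx1, hx2, hx3⟩
  have hx32 : dotInt (vec x) (vec x) = 32 := by rw [dot_self]; exact hx1
  have h77 : (A.filter fun y => y ≠ x ∧ dotInt (vec x) (vec y) ≠ 8).card = 77 := by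
    have h100 : A.card = 100 := card100 ht hv htv
    have hsplit := Finset.card_filter_add_card_filter_not (s := A)
      (fun y => dotInt (vec x) (vec y) = 8)
    have he : (A.filter fun y => y ≠ x ∧ dotInt (vec x) (vec y) ≠ 8) =
        (A.filter fun y => ¬dotInt (vec x) (vec y) = 8).erase x := by
      ext y
      simp only [Finset.mem_filter, Finset.mem_erase]
      tauto
    rw [he, Finset.card_erase_of_mem (Finset.mem_filter.2 ⟨hxA, by omega⟩)]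
    omega
  refine ⟨?_, ?_, fun y hy y' hy' hne hne' h8 => ?_⟩
  · refine Eq.trans ?_ h22
    rw [← Set.ncard_coe_finset]
    congr 1
    ext y
    simp only [Finset.coe_filter, hmemA, Set.mem_ofPred_eq]
  · refine Eq.trans ?_ h77
    rw [← Set.ncard_coe_finset]
    congr 1
    ext y
    simp only [Finset.coe_filter, hmemA, Set.mem_ofPred_eq]
  · obtain ⟨a1, a2, a3⟩ := ((key y).1).1 hy
    obtain ⟨b1, b2, b3⟩ := ((key y').1).1 hy'
    obtain ⟨h, h1, h2, h3, h4⟩ := move_member hab g3 a1 a2 a3 b1 b2 b3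
      (fun e => hne (smul_left_cancel g (e.trans g2.symm)))
      (fun e => hne' (smul_left_cancel g (e.trans g2.symm)))
      (by rw [(key y).2, (key y').2]; exact h8)
    refine ⟨g⁻¹ * h * g, ?_, ?_, ?_, ?_⟩
    · rw [mul_smul, mul_smul, inv_smul_eq_iff]; exact h1
    · have e : (g⁻¹ * h * g) • (v + w) = v + w := by
        rw [mul_smul, mul_smul, inv_smul_eq_iff, g1, h2]
      rw [smul_add', show (g⁻¹ * h * g) • v = v by
        rw [mul_smul, mul_smul, inv_smul_eq_iff]; exact h1] at e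
      exact add_left_cancel e
    · rw [mul_smul, mul_smul, inv_smul_eq_iff, g2, h3]
    · rw [mul_smul, mul_smul, inv_smul_eq_iff, h4]

end Cfsg.Agent.S1584
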