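import Cfsg.Statements.S1586
import Cfsg.Agent.Lib.Steiner22.HSSimple

set_option autoImplicit false
open Cfsg

namespace Cfsg.Agent.S1586

/-- The Higman–Sims graph built from an S(3, 6, 22) has exactly 88704000 automorphisms. -/
theorem result {α : Type*} [Fintype α] [DecidableEq α] (hα : Fintype.card α = 22) {B : Set (Finset α)} (hB : Cfsg.IsSteinerSystem 3 6 B) : Nat.card (Cfsg.pointBlockGraph B ≃g Cfsg.pointBlockGraph B) = 88704000 := by
  classical
  open Lib.GolayUnique Lib.GolayUnique.Derived in
  obtain ⟨ι, h⟩ := exists_model22 hα hB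
  let φ := Lib.GolayUnique.Derived.autOfModel h Finset.card_le_two
    fun g hg => Lib.GolayUnique.Derived.rigid22 hα hB h hg
  have e : Nat.card (setSystemAut B) = 887040 := by
    rw [← Nat.card_congr φ.toEquiv,
      ← (Spor.M22.subgroupOf (Lib.GolayUnique.Derived.pointSetStab {none, some 0})).card_mul_index,
      Lib.GolayUnique.Derived.index_M22,
      Nat.card_congr (Subgroup.subgroupOfEquivOfLe Lib.GolayUnique.Derived.M22_le).toEquiv,
      Lib.Golay.card_spor_M22]
  show Nat.card (Lib.Steiner22.GraphAut B) = _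
  rw [Lib.Steiner22.card_graphAut hα hB, e]

end Cfsg.Agent.S1586
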