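import Cfsg.Statements.S0028
import Mathlib

set_option autoImplicit false
open Cfsg
open scoped commutatorElement

namespace Cfsg.Agent.S0028

/-- Thompson's P × Q Lemma: let a p-subgroup P and a subgroup Q of order prime to p centralise each other and normalise a p-subgroup U; if every element of U fixed by P is fixed by Q, then Q centralises U. -/
theorem result {G : Type*} [Group G] [Finite G] (p : ℕ) [Fact p.Prime]
    (P Q U : Subgroup G) (hP : IsPGroup p P) (hQ : (Nat.card Q).Coprime p) (hU : IsPGroup p U)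
    (hPQ : P ≤ Subgroup.centralizer (Q : Set G))
    (hPU : P ≤ Subgroup.normalizer (U : Set G)) (hQU : Q ≤ Subgroup.normalizer (U : Set G))
    (hC : U ⊓ Subgroup.centralizer (P : Set G) ≤ Subgroup.centralizer (Q : Set G)) :
    Q ≤ Subgroup.centralizer (U : Set G) := by
  classical
  suffices key : ∀ U : Subgroup G, IsPGroup p U → P ≤ Subgroup.normalizer (U : Set G) →
      Q ≤ Subgroup.normalizer (U : Set G) →
      U ⊓ Subgroup.centralizer (P : Set G) ≤ Subgroup.centralizer (Q : Set G) →
      ⁅U, Q⁆ = ⊥ by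
    rw [← Subgroup.commutator_eq_bot_iff_le_centralizer, Subgroup.commutator_comm]
    exact key U hU hPU hQU hC
  intro U
  induction U using WellFoundedLT.induction with
  | ind U ih =>
    intro hU hPU hQU hC
    by_cases hbot : U = ⊥
    · rw [hbot, Subgroup.commutator_bot_left]
    have hle : ∀ R : Subgroup G, R ≤ Subgroup.normalizer (U : Set G) → ⁅U, R⁆ ≤ U := by
      intro R hR
      rw [Subgroup.commutator_le]
      intro u hu r hr
      have h1 := (Subgroup.mem_normalizer_iff.1 (hR hr) u⁻¹).1 (U.inv_mem hu)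
      rw [commutatorElement_def, mul_assoc u, mul_assoc u]
      exact U.mul_mem hu h1
    have hlt : ⁅U, P⁆ < U := by
      refine lt_of_le_of_ne (hle P hPU) fun heq => hbot ?_
      set W := U ⊔ P with hW
      have hWp : IsPGroup p W := hU.to_sup_of_normal_left' hP hPU
      haveI : Group.IsNilpotent W := hWp.isNilpotent
      have hmap : ∀ n, U ≤ Subgroup.lowerCentralSeries W n := by
        intro n
        induction n with
        | zero => exact le_sup_left
        | succ n ihn =>
          rw [Subgroup.lowerCentralSeries_succ]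
          exact heq.symm.le.trans (Subgroup.commutator_mono ihn le_sup_right)
      obtain ⟨n, hn⟩ := (Subgroup.isNilpotent_iff_lowerCentralSeries W).1
        (inferInstance : Group.IsNilpotent W)
      exact le_bot_iff.1 ((hmap n).trans hn.le)
    have hnorm : ∀ R : Subgroup G, R ≤ Subgroup.normalizer (U : Set G) →
        R ≤ Subgroup.normalizer (P : Set G) → R ≤ Subgroup.normalizer ((⁅U, P⁆ : Subgroup G) : Set G) := by
      intro R hRU hRP
      refine Subgroup.le_normalizer_iff.2 fun r hr x hx => ?_
      have hmapU : U.map (MulAut.conj r).toMonoidHom ≤ U := by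
        rintro _ ⟨u, hu, rfl⟩
        exact (Subgroup.mem_normalizer_iff.1 (hRU hr) u).1 hu
      have hmapP : P.map (MulAut.conj r).toMonoidHom ≤ P := by
        rintro _ ⟨u, hu, rfl⟩
        exact (Subgroup.mem_normalizer_iff.1 (hRP hr) u).1 hu
      have h1 : ⁅U, P⁆.map (MulAut.conj r).toMonoidHom ≤ ⁅U, P⁆ := by
        rw [Subgroup.map_commutator]; exact Subgroup.commutator_mono hmapU hmapP
      exact h1 ⟨x, hx, rfl⟩
    have hQP : Q ≤ Subgroup.normalizer (P : Set G) := fun q hq => by
      rw [Subgroup.mem_normalizer_iff]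
      intro x
      constructor
      · intro hx
        have h := (Subgroup.mem_centralizer_iff.1 (hPQ hx)) q hq
        rwa [h, mul_inv_cancel_right]
      · intro hx
        have h : q * (q * x * q⁻¹) = q * x := by
          rw [(Subgroup.mem_centralizer_iff.1 (hPQ hx)) q hq, inv_mul_cancel_right]
        rwa [mul_left_cancel h] at hx
    have hUP : ⁅⁅U, P⁆, Q⁆ = ⊥ := ih _ hlt (hU.to_le (hle P hPU))
      (hnorm P hPU Subgroup.le_normalizer) (hnorm Q hQU hQP)
      ((inf_le_inf_right _ (hle P hPU)).trans hC)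
    have hPQ' : ⁅⁅P, Q⁆, U⁆ = ⊥ := by
      rw [Subgroup.commutator_eq_bot_iff_le_centralizer.2 hPQ, Subgroup.commutator_bot_left]
    have hQUP : ⁅⁅Q, U⁆, P⁆ = ⊥ :=
      Subgroup.commutator_commutator_eq_bot_of_rotate hUP hPQ'
    rw [Subgroup.commutator_eq_bot_iff_le_centralizer]
    intro u hu
    rw [Subgroup.mem_centralizer_iff]
    intro q hq
    have hcU : ⁅q, u⁆ ∈ U := by
      have := hle Q hQU
      rw [Subgroup.commutator_comm] at this
      exact this (Subgroup.commutator_mem_commutator hq hu)
    have hcq : Commute q ⁅q, u⁆ := (Subgroup.mem_centralizer_iff.1 (hC ⟨hcU,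
      (Subgroup.commutator_eq_bot_iff_le_centralizer.1 hQUP)
        (Subgroup.commutator_mem_commutator hq hu)⟩)) q hq
    set c := ⁅q, u⁆ with hc
    have hpow : ∀ n : ℕ, q ^ n * u * (q ^ n)⁻¹ = c ^ n * u := by
      intro n
      induction n with
      | zero => simp
      | succ n ihn =>
        calc q ^ (n + 1) * u * (q ^ (n + 1))⁻¹ = q * (q ^ n * u * (q ^ n)⁻¹) * q⁻¹ := by
              rw [pow_succ']; simp [mul_assoc]
          _ = (q * c ^ n) * (u * q⁻¹) := by rw [ihn]; simp [mul_assoc]
          _ = c ^ n * (q * u * q⁻¹) := by rw [(hcq.pow_right n).eq]; simp [mul_assoc]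
          _ = c ^ (n + 1) * u := by rw [pow_succ, hc, commutatorElement_def]; simp [mul_assoc]
    have h1 := hpow (orderOf q)
    rw [pow_orderOf_eq_one] at h1
    simp only [one_mul, inv_one, mul_one] at h1
    have h2 : c ^ orderOf q = 1 := mul_eq_right.1 h1.symm
    have h3 : orderOf c = 1 := by
      obtain ⟨k, hk⟩ := hU ⟨c, hcU⟩
      have hk' : c ^ p ^ k = 1 := congrArg Subtype.val hk
      exact Nat.eq_one_of_dvd_coprimes ((hQ.coprime_dvd_left
        ((Subgroup.orderOf_mk q hq).symm ▸ orderOf_dvd_natCard (⟨q, hq⟩ : Q))).pow_right k)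
        (orderOf_dvd_of_pow_eq_one h2) (orderOf_dvd_of_pow_eq_one hk')
    exact (commutatorElement_eq_one_iff_mul_comm.1 (orderOf_eq_one_iff.1 h3))

end Cfsg.Agent.S0028
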