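import Cfsg.Statements.S4684
import Cfsg.Agent.Lib.StarChar.Action

set_option autoImplicit false
open Cfsg
open Cfsg.Agent.Lib.BrauerPairs.Center Cfsg.Agent.Lib.BrauerPairs.Pairs
open Cfsg.Agent.Lib.BrauerPairs.Maximal Cfsg.Agent.Lib.BrauerPairs.Bridge
open Cfsg.Agent.Lib.BrauerPairs.Fusion Cfsg.Agent.Lib.StarChar

attribute [local instance] Ideal.Quotient.field

namespace Cfsg.Agent.S4684

/-- Fix a prime p and a maximal ideal M of the algebraic integers containing p, a p-block B of the finite group G with maximal Brauer pair (P, e) and fusion system F on P. Then the number of irreducible characters of height zero in B is divisible by the index in P of the focal subgroup of F. -/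
theorem result {G : Type*} [Group G] [Fintype G] (p : ℕ) [Fact p.Prime] (M : Ideal Cfsg.AlgInt) (hM : Cfsg.IsPModular p M) (B : Set (Cfsg.IrrCharacter G)) (P : Subgroup G) (e : Set (Cfsg.IrrCharacter (Subgroup.centralizer (P : Set G)))) (hmax : Cfsg.IsMaximalBrauerPair p M B P e) (F : Cfsg.FusionSystem P) (hF : Cfsg.IsBlockFusionSystemOn p M B P e F) : (F.focalSubgroup.subgroupOf P).index ∣ Nat.card {χ : Cfsg.IrrCharacter G // χ ∈ B ∧ Cfsg.blockHeight p B (χ : G → ℂ) = 0} := by
  classical
  have := hM.2.1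
  have := charP_res hM
  have hB := hmax.1.2.1
  have he := hmax.1.1.2
  obtain ⟨hψ, hb⟩ := (isMaximalBrauerPair_iff hB he).mp hmax
  have hF' := isFusion_of_isBlockFusionSystemOn he hF
  have key := Action.index_dvd hM hB hb hψ hF' 0 P le_rfl fun χ hχ hht q hq ω hω => by
    obtain ⟨k, hk⟩ := IsPGroup.iff_orderOf.mp hb.1 ⟨q, hq⟩
    refine Free.exists_phi_ne_zero_height_zero hM hB hχ
      (le_antisymm (Nat.le_of_sub_eq_zero hht)
        (Cfsg.Agent.Lib.Blocks.Contrib.minVdeg_le hχ))
      ⟨k, by rw [← hk, Subgroup.orderOf_mk]⟩ ω ((pairOf_iff_of_le hb.1 hω _).mpr hψ)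
  rwa [Subgroup.inf_subgroupOf_left] at key

end Cfsg.Agent.S4684
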