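import Cfsg.Agent.Lib.FusionSystem.ControlFocal
import Cfsg.Agent.Lib.Transfer.FusionLocal
import Cfsg.Agent.S1991
import Cfsg.Agent.S1984
import Cfsg.Statements.S5252
-- import your own Cfsg.Agent.* helpers here

set_option autoImplicit false
open Cfsg
universe v

namespace Cfsg.Agent.S5252

section
open Cfsg.FusionSystem Cfsg.Agent.Lib Cfsg.Agent.Lib.FS

/-- `K_∞` controls transfer, read at the largest normal `p`-subgroup. -/
theorem local_transfer {G : Type v} [Group G] [Finite G] {p : ℕ} [Fact p.Prime] (hp : 5 ≤ p) (P : Sylow p G) :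
    Cfsg.pCore p G ⊓ commutator G = Cfsg.pCore p G ⊓
      (commutator ↥(Subgroup.normalizer (Control.wOf @Cfsg.kInfLower (P : Subgroup G) : Set G))).map
        (Subgroup.normalizer (Control.wOf @Cfsg.kInfLower (P : Subgroup G) : Set G)).subtype := by
  have h : (P : Subgroup G) ⊓ ⁅(⊤ : Subgroup G), (⊤ : Subgroup G)⁆ = (P : Subgroup G) ⊓
      ⁅⊤ ⊓ Subgroup.normalizer (Control.wOf @Cfsg.kInfLower (P : Subgroup G) : Set G),
       ⊤ ⊓ Subgroup.normalizer (Control.wOf @Cfsg.kInfLower (P : Subgroup G) : Set G)⁆ := by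
    have h0 := ConjFunctor.KControl.tr_kInf (p := p) (W := @Cfsg.kInfLower) (Or.inl rfl) hp G P
    rw [ConjFunctor.Section.indSet, Set.image_singleton, ConjFunctor.Reach.TrAt,
      ConjFunctor.WellPlaced.trGen_single] at h0
    exact h0
  rw [top_inf_eq, ← commutator_def,
    ← Subgroup.map_subtype_commutator (Subgroup.normalizer (Control.wOf @Cfsg.kInfLower (P : Subgroup G) : Set G))] at h
  have hOP : Cfsg.pCore p G ≤ (P : Subgroup G) := Cores.pCore_le_sylow P
  calc Cfsg.pCore p G ⊓ commutator G = Cfsg.pCore p G ⊓ ((P : Subgroup G) ⊓ commutator G) := by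
        rw [← inf_assoc, inf_eq_left.2 hOP]
    _ = _ := by rw [h, ← inf_assoc, inf_eq_left.2 hOP]

theorem main {Ω : Type v} [Group Ω] {S : Subgroup Ω} [Finite S] (p : ℕ) [Fact p.Prime] (hS : IsPGroup p S)
    (F : Cfsg.FusionSystem S) (hF : F.IsSaturated p) (hp : 5 ≤ p) (hS1 : S ≠ ⊥)
    (haut : IsPGroup p ↥(F.autGroup S)) : F.focalSubgroup < S := by
  let W : ∀ (Q : Type v) [Group Q], Subgroup Q := @Cfsg.kInfLower
  have hW1 : ∀ (Q : Type v) [Group Q] [Finite Q], IsPGroup p Q → Nontrivial Q → W Q ≠ ⊥ := by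
    intro Q _ _ hQ hne h
    have : Subgroup.center Q = ⊥ := le_bot_iff.1 (h ▸ (ConjFunctor.KFunctor.center_le_kInf Q).1)
    exact (Subgroup.nontrivial_iff_ne_bot _).1 hQ.center_nontrivial this
  have hW2 : ∀ (Q R : Type v) [Group Q] [Group R] [Finite Q], IsPGroup p Q → ∀ φ : Q ≃* R,
      (W Q).map φ.toMonoidHom = W R := by
    intro Q R _ _ _ _ φ
    haveI : Finite R := Finite.of_equiv Q φ.toEquiv
    exact (ConjFunctor.KInf.kInf_map_equiv φ).1
  set K := Control.wOf W S with hK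
  have hKS : K ≤ S := Control.wOf_le S
  have hWn := Control.le_normalizer_wOf hW2 hS
  set T := normalizerIn S K with hTdef
  have hTS : T ≤ S := normalizerIn_le K
  have hST : S ≤ T := le_inf le_rfl hWn
  obtain ⟨N, hN⟩ := exists_normalizerSystem F hKS
  have hfoc : F.focalSubgroup ≤ N.focalSubgroup := by
    refine (Subgroup.closure_le _).2 ?_
    rintro y ⟨P, φ, x, hφ, rfl⟩
    exact Control.focal_all hW1 hW2 (fun G _ _ P _ => local_transfer hp P) _ _ F rfl rfl hS hF N.focalSubgroup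
      (fun Q ψ hψ v => Subgroup.subset_closure ⟨Q, ψ, v, (hN Q).ge hψ, rfl⟩) P φ hφ x
  haveI : Finite T := finite_sub (S := S) hTS
  have hT : IsPGroup p T := isPGroup_of_le hS hTS
  have hKN : N.IsNormal K := Transfer.FusionLocal.isNormal_normalizerSystem hKS hN
  have hcK : centralizerIn T K ≤ K := by
    intro c hc
    haveI : Group.IsNilpotent S := hS.isNilpotent
    refine ⟨⟨c, hTS hc.1⟩, (ConjFunctor.KInf.centralizer_kInf (P := S)).1
      (fun w hw => Subtype.ext (hc.2 w ⟨w, hw, rfl⟩)), rfl⟩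
  obtain ⟨L, _, ι, hM⟩ := FusionAlperin.Model.exists_model_of_constrained hT
    (⟨normalizerSystem_isSaturated hS hF (Control.isFullyNormalized_of_le_normalizer hKS hWn) hN, K, hKN,
      Control.isCentric_of_isNormal hKN hcK⟩ : N.IsConstrained p)
  obtain ⟨hfin, hreal, ⟨R, hR⟩, -⟩ := id hM
  haveI := hfin
  have hRne : (R : Subgroup L) ≠ ⊥ := by
    rw [hR]
    intro h
    refine hS1 (eq_bot_iff.2 fun s hs => ?_)
    have : ι ⟨s, hST hs⟩ = ι 1 := by
      rw [map_one]; exact Subgroup.mem_bot.1 (h ▸ ⟨_, rfl⟩)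
    exact congrArg Subtype.val (hreal.1 this)
  obtain ⟨M, hMn, hMi⟩ := Cfsg.Agent.S1991.result hp R hRne (fun g hg hgo => by
    rw [hR] at hg ⊢
    obtain ⟨φ₀, hφ₀, e₀⟩ := Control.exists_map_of_conj hreal le_rfl g fun x =>
      conj_mem_of_normalizer hg ⟨_, rfl⟩
    obtain ⟨φ, hφ, eφ⟩ := exists_restrict ((hN _).le hφ₀).1 hST
    have hr : φ.range = S := range_eq_of_mem hφ (apply_mem hφ) le_rfl
    set α := homEquiv hφ hr
    have hαι : ∀ (n : ℕ) (s : S), ι ⟨((α ^ n) s : S), hST ((α ^ n) s).2⟩ =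
        g ^ n * ι ⟨s, hST s.2⟩ * (g ^ n)⁻¹ := by
      intro n
      induction n with
      | zero => intro s; simp
      | succ n ih =>
        intro s
        have h1 : ι ⟨φ s, hST (apply_mem hφ s)⟩ = g * ι ⟨s, hST s.2⟩ * g⁻¹ := by
          have := e₀ ⟨s, hST s.2⟩ (apply_mem hφ₀ _)
          rw [show (⟨φ s, hST (apply_mem hφ s)⟩ : T) = ⟨φ₀ ⟨s, hST s.2⟩, apply_mem hφ₀ _⟩ from
            Subtype.ext (eφ s)]
          exact this
        simp only [pow_succ, MulAut.mul_apply]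
        rw [ih (α s), show (⟨((α s : S) : Ω), hST (α s).2⟩ : T) = ⟨φ s, hST (apply_mem hφ s)⟩ from rfl, h1]
        group
    have hαn : α ^ orderOf g = 1 := MulEquiv.ext fun s => by
      have h := hαι (orderOf g) s
      rw [pow_orderOf_eq_one, one_mul, inv_one, mul_one] at h
      exact Subtype.ext (congrArg Subtype.val (hreal.1 h) :)
    obtain ⟨k, hk⟩ := haut ⟨α, homEquiv_mem_autGroup hφ hr⟩
    have hα1 : α = 1 := orderOf_eq_one_iff.1 (Nat.eq_one_of_dvd_coprimes (hgo.pow_right k)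
      (orderOf_dvd_of_pow_eq_one hαn) (orderOf_dvd_of_pow_eq_one (congrArg Subtype.val hk)))
    rintro _ ⟨t, rfl⟩
    have h := hαι 1 ⟨t, hTS t.2⟩
    rw [hα1] at h
    simp only [one_pow, MulAut.one_apply, pow_one] at h
    exact (eq_mul_inv_iff_mul_eq.1 h))
  -- the focal subgroup lies in the preimage of `M`
  haveI := hMn
  have hcomm : ∀ a b : L ⧸ M, a * b = b * a := by
    haveI : IsCyclic (L ⧸ M) := isCyclic_of_prime_card (p := p) (by rw [← Subgroup.index_eq_card, hMi])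
    exact fun a b => IsMulCommutative.is_comm.comm a b
  have hle : N.focalSubgroup ≤ (M.comap ι).map T.subtype := by
    refine (Subgroup.closure_le _).2 ?_
    rintro y ⟨P, φ, x, hφ, rfl⟩
    obtain ⟨g, hg⟩ := (hreal.2 P (src_le hφ) φ (apply_mem hφ)).1 hφ
    refine ⟨(⟨x, src_le hφ x.2⟩ : T)⁻¹ * ⟨φ x, apply_mem hφ x⟩, ?_, rfl⟩
    show ι _ ∈ M
    rw [map_mul, map_inv, hg, ← QuotientGroup.eq_one_iff, QuotientGroup.mk_mul, QuotientGroup.mk_inv,
      QuotientGroup.mk_mul, QuotientGroup.mk_mul, QuotientGroup.mk_inv, hcomm ((g : L) : L ⧸ M),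
      mul_inv_cancel_right, inv_mul_cancel]
  refine lt_of_le_of_ne ((hfoc.trans hle).trans (fun y hy => hTS (Subgroup.map_subtype_le _ hy))) fun e => ?_
  have hTM : ι.range ≤ M := by
    rintro _ ⟨t, rfl⟩
    obtain ⟨t', ht', he⟩ := (hfoc.trans hle) (e.ge (hTS t.2))
    rw [← Subtype.ext he]; exact ht'
  refine R.not_dvd_index ?_
  have h := Subgroup.index_dvd_of_le (hR.le.trans hTM)
  rwa [hMi] at h

end

/-- Let p ≥ 5 be a prime and F a saturated fusion system over a nontrivial finite p-group S such that Aut_F(S) is a p-group. Then the focal subgroup of F is a proper subgroup of S. -/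
theorem result {Ω : Type*} [Group Ω] {S : Subgroup Ω} [Finite S] (p : ℕ) [Fact p.Prime] (hS : IsPGroup p S) (F : Cfsg.FusionSystem S) (hF : F.IsSaturated p) (hp : 5 ≤ p) (hS1 : S ≠ ⊥) (haut : IsPGroup p ↥(F.autGroup S)) : F.focalSubgroup < S :=
by
  open Cfsg.FusionSystem Cfsg.Agent.Lib Cfsg.Agent.Lib.FS in
  exact Cfsg.Agent.S5252.main p hS F hF hp hS1 haut


end Cfsg.Agent.S5252
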