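import Cfsg.Statements.S4978
import Cfsg.Agent.S4677
import Cfsg.Agent.S4684
import Cfsg.Agent.S5252
import Mathlib.NumberTheory.LegendreSymbol.Basic

set_option autoImplicit false
open Cfsg

namespace Cfsg.Agent.S4978

set_option autoImplicit false
set_option linter.style.haveILetI false
set_option maxHeartbeats 1000000

open Cfsg
open Cfsg.Agent.Lib.Blocks (localRing residue card_isDefectGroup)
open Cfsg.Agent.Lib.Blocks.Contrib
open Cfsg.Agent.Lib.BrauerPairs.Center Cfsg.Agent.Lib.BrauerPairs.Pairs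
open Cfsg.Agent.Lib.BrauerPairs.Maximal Cfsg.Agent.Lib.BrauerPairs.Bridge
open Cfsg.Agent.Lib.BrauerPairs.Fusion Cfsg.Agent.Lib.StarChar Cfsg.Agent.Lib.BrauerPairs.Transport
open Cfsg.Agent.Lib.StarChar.Comp Cfsg.Agent.Lib.StarChar.Action Cfsg.Agent.Lib.StarChar.Section
open scoped commutatorElement

attribute [local instance] Ideal.Quotient.field

universe u

/-- An integer that is a unit modulo `p` has nonzero square sums of one or two terms. -/
theorem sq_add_sq_ne {p : ℕ} [Fact p.Prime] (h4 : p % 4 = 3) {a b : ℤ} (ha : ¬ (p : ℤ) ∣ a) :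
    ¬ (p : ℤ) ∣ a ^ 2 + b ^ 2 := by
  intro h
  have h0 : (a : ZMod p) ^ 2 + (b : ZMod p) ^ 2 = 0 := by
    have := (ZMod.intCast_zmod_eq_zero_iff_dvd _ p).mpr h
    push_cast at this
    exact this
  have ha' : (a : ZMod p) ≠ 0 := fun e => ha ((ZMod.intCast_zmod_eq_zero_iff_dvd _ p).mp e)
  refine ZMod.mod_four_ne_three_of_sq_eq_neg_one (p := p) (y := (b : ZMod p) / a) ?_ h4
  rw [div_pow, div_eq_iff (pow_ne_zero _ ha')]
  linear_combination h0

/-- A group of prime order acting without fixed points: sums of invariant functions. -/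
theorem exists_reps.{w, v} {A : Type w} [Group A] {X : Type v} [MulAction A X] [Finite X] {p : ℕ}
    (hA : Nat.card A = p) (hp : p.Prime) (hfree : ∀ (a : A) (x : X), a • x = x → a = 1) :
    ∃ (O : Type v) (_ : Fintype O) (r : O → X), Nat.card X = p * Fintype.card O ∧
      ∀ (n : X → ℤ), (∀ (a : A) x, n (a • x) = n x) →
        ∀ (_ : Fintype X), ∑ x, n x = (p : ℤ) * ∑ o, n (r o) := by
  classical
  haveI : Finite A := Nat.finite_of_card_ne_zero (hA ▸ hp.ne_zero)
  haveI : Finite (MulAction.orbitRel.Quotient A X) := Quotient.finite _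
  let iO : Fintype (MulAction.orbitRel.Quotient A X) := Fintype.ofFinite _
  have hcard : ∀ o : MulAction.orbitRel.Quotient A X, Nat.card (MulAction.orbit A o.out) = p := by
    intro o
    rw [← hA]
    refine (Nat.card_congr (Equiv.ofBijective
      (fun a : A => (⟨a • o.out, MulAction.mem_orbit _ a⟩ : MulAction.orbit A o.out)) ⟨?_, ?_⟩)).symm
    · intro a b hab
      have h := congrArg Subtype.val hab
      simp only at h
      exact (inv_mul_eq_one.mp (hfree _ _ (show (b⁻¹ * a) • o.out = o.out by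
        rw [mul_smul, h, inv_smul_smul]))).symm
    · rintro ⟨y, a, rfl⟩
      exact ⟨a, rfl⟩
  refine ⟨_, iO, fun o : MulAction.orbitRel.Quotient A X => o.out, ?_, fun n hn iX => ?_⟩
  · rw [Nat.card_congr (MulAction.selfEquivSigmaOrbits A X), Nat.card_sigma]
    simp [hcard, mul_comm]
  · rw [← (MulAction.selfEquivSigmaOrbits A X).symm.sum_comp, Fintype.sum_sigma, Finset.mul_sum]
    refine Finset.sum_congr rfl fun o _ => ?_
    calc ∑ y : MulAction.orbit A o.out, n ((MulAction.selfEquivSigmaOrbits A X).symm ⟨o, y⟩)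
        = ∑ _y : MulAction.orbit A o.out, n o.out := by
          refine Finset.sum_congr rfl fun y _ => ?_
          obtain ⟨a, ha⟩ := y.2
          show n (y : X) = _
          rw [← ha]; exact hn a _
      _ = _ := by
          rw [Finset.sum_const, Finset.card_univ, ← Nat.card_eq_fintype_card, hcard]
          simp

/-- A star product agrees with the character on the `p`-regular elements. -/
theorem star_regular {G : Type u} [Group G] [Finite G] {M : Ideal Cfsg.AlgInt} [M.IsMaximal]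
    {p : ℕ} [Fact p.Prime] (χ : Cfsg.IrrCharacter G)
    (f : ∀ q : G, Blk (Res M) (Subgroup.centralizer (Subgroup.zpowers q : Set G)) → ℂ)
    (hf : ∀ ω, f 1 ω = 1) {g : G} (hg : ¬ p ∣ orderOf g) : starFn χ f p g = (χ : G → ℂ) g := by
  haveI := Fintype.ofFinite (Blk (Res M) (Subgroup.centralizer (Subgroup.zpowers (1 : G) : Set G)))
  have hpp : pp p g = 1 :=
    pp_eq ⟨g, one_mul g, Commute.one_left g, ⟨0, by simp⟩, hg⟩
  rw [starFn, hpp, comp_eq]
  simp only [hf, one_mul]
  rw [← map_sum, ← Finset.mul_sum, ← map_sum, sum_eHat, map_one, mul_one, Cfsg.Agent.Lib.Blocks.lin_single,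
    one_mul]

variable {G : Type u} [Group G] [Fintype G] {p : ℕ} [Fact p.Prime] {M : Ideal Cfsg.AlgInt}
  [M.IsMaximal] [CharP (Res M) p]

/-- If the focal subgroup is proper, the height zero characters fall into classes of size `p` on
which the contributions are constant. -/
theorem exists_free (hM : Cfsg.IsPModular p M) {B : Set (Cfsg.IrrCharacter G)}
    (hB : Cfsg.IsPBlock M B) {b : Idx (Res M) G} (hb : Top p b) (hψ : PairOf p (blk hB) b)
    {F : Cfsg.FusionSystem b.1} (hF : IsFusion p b F) (hlt : F.focalSubgroup < b.1) :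
    ∃ (O : Type u) (_ : Fintype O)
      (r : O → {χ : Cfsg.IrrCharacter G // χ ∈ B ∧ Cfsg.blockHeight p B (χ : G → ℂ) = 0}),
      Nat.card {χ : Cfsg.IrrCharacter G // χ ∈ B ∧ Cfsg.blockHeight p B (χ : G → ℂ) = 0} =
        p * Fintype.card O ∧
      ∀ (χ₀ : Cfsg.IrrCharacter G) (_ : Fintype {χ : Cfsg.IrrCharacter G //
          χ ∈ B ∧ Cfsg.blockHeight p B (χ : G → ℂ) = 0}),
        ∑ x : {χ : Cfsg.IrrCharacter G // χ ∈ B ∧ Cfsg.blockHeight p B (χ : G → ℂ) = 0},
          contribN p χ₀ x.1 ^ 2 = (p : ℤ) * ∑ o, contribN p χ₀ (r o).1 ^ 2 := by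
  classical
  have hp : p.Prime := Fact.out
  let N : Subgroup b.1 := F.focalSubgroup.subgroupOf b.1
  have hcomm : commutator b.1 ≤ N := focal_normal hF
  have : N.Normal := Subgroup.Normal.of_commutator_le _ hcomm
  letI : CommGroup (b.1 ⧸ N) :=
    { (inferInstance : Group (b.1 ⧸ N)) with
      mul_comm := fun x y => by
        obtain ⟨x, rfl⟩ := QuotientGroup.mk_surjective x
        obtain ⟨y, rfl⟩ := QuotientGroup.mk_surjective y
        rw [← QuotientGroup.mk_mul, ← QuotientGroup.mk_mul, QuotientGroup.eq]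
        refine hcomm ?_
        rw [show (x * y)⁻¹ * (y * x) = ⁅y⁻¹, x⁻¹⁆ by rw [commutatorElement_def]; group,
          commutator_def]
        exact Subgroup.commutator_mem_commutator (Subgroup.mem_top _) (Subgroup.mem_top _) }
  let hom : ((b.1 ⧸ N) →* ℂˣ) → (b.1 →* ℂ) := fun d =>
    (Units.coeHom ℂ).comp (d.comp (QuotientGroup.mk' N))
  have hl : ∀ d : (b.1 ⧸ N) →* ℂˣ, ∀ y : b.1, (y : G) ∈ F.focalSubgroup → hom d y = 1 := by
    intro d y hy
    show ((d (QuotientGroup.mk' N y) : ℂˣ) : ℂ) = 1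
    rw [QuotientGroup.mk'_apply, (QuotientGroup.eq_one_iff y).mpr hy, map_one, Units.val_one]
  have hirr : ∀ (d : (b.1 ⧸ N) →* ℂˣ) (χ : Cfsg.IrrCharacter G),
      ∃ Θ : Cfsg.IrrCharacter G, (Θ : G → ℂ) = starFn χ (fl p (hom d)) p ∧
        (Θ : G → ℂ) 1 = (χ : G → ℂ) 1 := fun d χ =>
    exists_star_irr χ _ hM (fl_isInv hb.1 hF (hl d)) (fl_isCoherent hb hψ hF (hl d))
      (fl_one _) (fl_modulus _)
  let X := {χ : Cfsg.IrrCharacter G // χ ∈ B ∧ Cfsg.blockHeight p B (χ : G → ℂ) = 0}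
  have hmem : ∀ (d : (b.1 ⧸ N) →* ℂˣ) (χ Θ : Cfsg.IrrCharacter G), χ ∈ B →
      Cfsg.blockHeight p B (χ : G → ℂ) = 0 → (Θ : G → ℂ) = starFn χ (fl p (hom d)) p →
        (Θ : G → ℂ) 1 = (χ : G → ℂ) 1 → Θ ∈ B ∧ Cfsg.blockHeight p B (Θ : G → ℂ) = 0 := by
    intro d χ Θ hχ hht h1 h2
    refine ⟨?_, ?_⟩
    · rw [← toSet_blk hB, mem_toSet, blkOf_star χ _ hM h1]
      exact blkOf_of_mem hB hχ
    · rw [← hht]
      simp only [Cfsg.blockHeight, Cfsg.charDegree, h2]
  let act : ((b.1 ⧸ N) →* ℂˣ) → X → X := fun d χ => ⟨(hirr d χ.1).choose,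
    hmem d χ.1 _ χ.2.1 χ.2.2 (hirr d χ.1).choose_spec.1 (hirr d χ.1).choose_spec.2⟩
  have hact : ∀ d χ, (((act d χ).1 : Cfsg.IrrCharacter G) : G → ℂ) =
      starFn χ.1 (fl p (hom d)) p := fun d χ => (hirr d χ.1).choose_spec.1
  letI : MulAction ((b.1 ⧸ N) →* ℂˣ) X :=
    { smul := act
      one_smul := fun χ => Subtype.ext (Subtype.ext (funext fun g => by
        show ((act 1 χ).1 : G → ℂ) g = _
        rw [hact]
        refine star_of_eq_one χ.1 _ (fun q ω => ?_) g
        rw [show hom 1 = 1 from MonoidHom.ext fun y => by simp [hom]]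
        exact fl_one_hom q ω))
      mul_smul := fun d d' χ => Subtype.ext (Subtype.ext (by
        show ((act (d * d') χ).1 : G → ℂ) = ((act d (act d' χ)).1 : G → ℂ)
        rw [hact, hact, star_star χ.1 _ hM (fl_isInv hb.1 hF (hl d')) (hact d' χ)]
        congr 1
        funext q ω
        rw [← fl_mul]
        congr 1)) }
  -- an element of order `p`
  have := Monoid.neZero_exponent_of_finite (G := b.1 ⧸ N)
  have hdvd : p ∣ Nat.card ((b.1 ⧸ N) →* ℂˣ) := by
    rw [CommGroup.card_monoidHom_of_hasEnoughRootsOfUnity (G := b.1 ⧸ N) (M := ℂ)]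
    change p ∣ N.index
    obtain ⟨k, hk⟩ := hb.1.index N
    rcases k with _ | k
    · rw [pow_zero, Subgroup.index_eq_one] at hk
      exact absurd (fun x hx => Subgroup.subgroupOf_eq_top.mp hk hx) hlt.not_ge
    · exact ⟨p ^ k, by rw [hk, pow_succ, mul_comm]⟩
  haveI : Finite ((b.1 ⧸ N) →* ℂˣ) := by
    refine Nat.finite_of_card_ne_zero ?_
    rw [CommGroup.card_monoidHom_of_hasEnoughRootsOfUnity]
    exact Nat.card_pos.ne'
  obtain ⟨d₀, hd₀⟩ := exists_prime_orderOf_dvd_card' p hdvd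
  have hfree : ∀ (d : (b.1 ⧸ N) →* ℂˣ) (χ : X), d • χ = χ → d = 1 := by
    intro d χ hd
    refine MonoidHom.ext fun z => ?_
    obtain ⟨q, rfl⟩ := QuotientGroup.mk'_surjective N z
    have hqb : (q : G) ∈ b.1 := q.2
    obtain ⟨ω, hω⟩ := exists_le_of_le hb.1 b.2 (Subgroup.zpowers (q : G))
      (Subgroup.zpowers_le.mpr hqb)
    have hord : ∃ k : ℕ, orderOf (q : G) = p ^ k := by
      obtain ⟨k, hk⟩ := IsPGroup.iff_orderOf.mp hb.1 q
      exact ⟨k, by rw [← hk, Subgroup.orderOf_coe]⟩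
    obtain ⟨s, hs, hne⟩ := Free.exists_phi_ne_zero_height_zero hM hB χ.2.1
      ((blockHeight_eq_zero_iff χ.2.1).mp χ.2.2) hord ω ((pairOf_iff_of_le hb.1 hω _).mpr hψ)
    have h1 := phi_star χ.1 _ hM (fl_isInv hb.1 hF (hl d)) hord ω hs
    have e : starFn χ.1 (fl p (hom d)) p = (χ.1 : G → ℂ) :=
      (hact d χ).symm.trans (congrArg (fun c : X => (c.1 : G → ℂ)) hd)
    rw [e] at h1
    have h2 : fl p (hom d) (q : G) ω = 1 := (mul_eq_right₀ hne).mp h1.symm
    rw [fl_eq hb.1 hF (hl d) (x := 1) (by rw [cPair_one]; exact hω)] at h2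
    simp only [one_mul, inv_one, mul_one] at h2
    rw [lamG_mem _ hqb] at h2
    exact Units.ext h2
  have hinv : ∀ (d : (b.1 ⧸ N) →* ℂˣ) (χ₀ : Cfsg.IrrCharacter G) (χ : X),
      contribN p χ₀ (d • χ).1 = contribN p χ₀ χ.1 := by
    intro d χ₀ χ
    have h : regSum p (χ₀ : G → ℂ) ((d • χ).1 : G → ℂ) = regSum p (χ₀ : G → ℂ) (χ.1 : G → ℂ) := by
      rw [regSum_eq_sum, regSum_eq_sum]
      refine Finset.sum_congr rfl fun g _ => ?_
      split_ifs with hg
      · rfl
      · congr 1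
        show ((act d χ).1 : G → ℂ) g⁻¹ = _
        rw [hact]
        exact star_regular χ.1 _ (fl_one _) (by rwa [orderOf_inv])
    rw [regSum_eq_contribN, regSum_eq_contribN] at h
    exact_mod_cast mul_left_cancel₀ (Nat.cast_ne_zero.mpr (primeToCard_pos (G := G) p).ne') h
  obtain ⟨O, iO, r, hc, hs⟩ := exists_reps (A := Subgroup.zpowers d₀) (X := X) (p := p)
    (by rw [Nat.card_zpowers, hd₀]) hp (fun a x h => Subtype.ext (hfree _ x h))
  exact ⟨O, iO, r, hc, fun χ₀ iX => hs (fun x => contribN p χ₀ x.1 ^ 2)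
    (fun a x => by
      show contribN p χ₀ ((a : (b.1 ⧸ N) →* ℂˣ) • x).1 ^ 2 = _
      rw [hinv]) iX⟩

omit [CharP (Res M) p] in
/-- The height zero part of the square sum is divisible by the order of the defect group, up to
`p ^ 2`. -/
theorem sum_sq_congr (hM : Cfsg.IsPModular p M) {B : Set (Cfsg.IrrCharacter G)}
    (hB : Cfsg.IsPBlock M B) {e : ℕ} (he : e ≤ Cfsg.blockDefect p B) (he2 : e ≤ 2)
    [Fintype {χ : Cfsg.IrrCharacter G // χ ∈ B ∧ Cfsg.blockHeight p B (χ : G → ℂ) = 0}] :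
    ∃ (χ₀ : Cfsg.IrrCharacter G) (n : Cfsg.IrrCharacter G → ℤ),
      (∀ χ, contribN p χ₀ χ = (p : ℤ) ^ minVdeg p B * n χ) ∧
      (∀ χ ∈ B, Cfsg.blockHeight p B (χ : G → ℂ) = 0 → ¬ (p : ℤ) ∣ n χ) ∧
      (p : ℤ) ^ e ∣ ∑ x : {χ : Cfsg.IrrCharacter G //
        χ ∈ B ∧ Cfsg.blockHeight p B (χ : G → ℂ) = 0}, n x.1 ^ 2 := by
  classical
  have hp : p.Prime := Fact.out
  have hp0 : (p : ℤ) ≠ 0 := by exact_mod_cast hp.ne_zero
  obtain ⟨χ₀, h₀, hv₀⟩ := exists_height_zero (p := p) hB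
  choose n hn using fun χ => pow_minVdeg_dvd_contribN hM (p := p) (B := B) h₀ χ
  refine ⟨χ₀, n, hn, fun χ hχ hht hdiv => ?_, ?_⟩
  · refine not_dvd_contribN hM hB h₀ hv₀ hχ ?_
    rw [(blockHeight_eq_zero_iff hχ).mp hht, hn, pow_succ]
    exact mul_dvd_mul_left _ hdiv
  have htot : (p : ℤ) ^ e ∣ ∑ φ ∈ bset B, n φ ^ 2 := by
    refine ⟨(p : ℤ) ^ (Cfsg.blockDefect p B - e) * n χ₀, ?_⟩
    refine mul_left_cancel₀ (pow_ne_zero (2 * minVdeg p B) hp0) ?_
    calc (p : ℤ) ^ (2 * minVdeg p B) * ∑ φ ∈ bset B, n φ ^ 2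
        = ∑ φ ∈ bset B, contribN p χ₀ φ ^ 2 := by
          rw [Finset.mul_sum]
          refine Finset.sum_congr rfl fun φ _ => ?_
          rw [hn, mul_pow, ← pow_mul, mul_comm (minVdeg p B) 2]
      _ = _ := by
          rw [sum_bset_sq hM hB h₀, hn, ← minVdeg_add_blockDefect (p := p) hB]
          conv_lhs => rw [show Cfsg.blockDefect p B = e + (Cfsg.blockDefect p B - e) by omega]
          rw [two_mul, pow_add, pow_add, pow_add]
          ring
  rw [← Finset.sum_filter_add_sum_filter_not (bset B)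
    (fun φ : Cfsg.IrrCharacter G => Cfsg.blockHeight p B (φ : G → ℂ) = 0)] at htot
  have hrest : (p : ℤ) ^ e ∣ ∑ φ ∈ (bset B).filter
      (fun φ : Cfsg.IrrCharacter G => ¬ Cfsg.blockHeight p B (φ : G → ℂ) = 0), n φ ^ 2 := by
    refine Finset.dvd_sum fun φ hφ => ?_
    rw [Finset.mem_filter, mem_bset] at hφ
    have hlt : minVdeg p B + 1 ≤ vdeg p φ := by
      have h1 := minVdeg_le (p := p) hφ.1
      have h2 : vdeg p φ ≠ minVdeg p B := fun e => hφ.2 ((blockHeight_eq_zero_iff hφ.1).mpr e)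
      omega
    have h : (p : ℤ) ^ (minVdeg p B + 1) ∣ contribN p χ₀ φ :=
      (pow_dvd_pow _ hlt).trans (pow_vdeg_dvd_contribN_right hM χ₀ φ)
    rw [hn, pow_succ] at h
    exact (pow_dvd_pow _ he2).trans
      (pow_dvd_pow_of_dvd ((mul_dvd_mul_iff_left (pow_ne_zero _ hp0)).mp h) 2)
  have h := (dvd_add_left hrest).mp htot
  rwa [Finset.sum_subtype ((bset B).filter
    (fun φ : Cfsg.IrrCharacter G => Cfsg.blockHeight p B (φ : G → ℂ) = 0))
    (p := fun χ : Cfsg.IrrCharacter G => χ ∈ B ∧ Cfsg.blockHeight p B (χ : G → ℂ) = 0)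
    (fun φ => by simp)] at h


/-- Let p be a prime and B a p-block of the finite group G (relative to a maximal ideal M of the algebraic integers containing p) with a nontrivial defect group D whose automorphism group is a p-group (for a p-group D this is the same as its outer automorphism group being a p-group). Then the number of irreducible characters of height zero in B is divisible by p; if p > 3 this number is at least 2p, and if moreover p ≡ 3 (mod 4) it is at least 3p. -/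
theorem result {G : Type*} [Group G] [Finite G] (p : ℕ) [Fact p.Prime] (M : Ideal Cfsg.AlgInt) (hM : Cfsg.IsPModular p M) (B : Set (Cfsg.IrrCharacter G)) (hB : Cfsg.IsPBlock M B) (D : Subgroup G) (hD : Cfsg.IsDefectGroup p M B D) (hD1 : D ≠ ⊥) (hAut : IsPGroup p (MulAut ↥D)) : p ∣ Nat.card {χ : Cfsg.IrrCharacter G // χ ∈ B ∧ Cfsg.blockHeight p B (χ : G → ℂ) = 0} ∧ (3 < p → 2 * p ≤ Nat.card {χ : Cfsg.IrrCharacter G // χ ∈ B ∧ Cfsg.blockHeight p B (χ : G → ℂ) = 0}) ∧ (3 < p → p % 4 = 3 → 3 * p ≤ Nat.card {χ : Cfsg.IrrCharacter G // χ ∈ B ∧ Cfsg.blockHeight p B (χ : G → ℂ) = 0}) := by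
  classical
  have hp : p.Prime := Fact.out
  haveI := hM.2.1
  haveI := charP_res hM
  haveI := Fintype.ofFinite G
  haveI := Fintype.ofFinite {χ : Cfsg.IrrCharacter G // χ ∈ B ∧ Cfsg.blockHeight p B (χ : G → ℂ) = 0}
  have hDd := (isDefectGroup_iff hB D).mp hD
  have hDc : Nat.card D = p ^ Cfsg.blockDefect p B := card_isDefectGroup hM hB hD
  have hd1 : 1 ≤ Cfsg.blockDefect p B := by
    rcases Nat.eq_zero_or_pos (Cfsg.blockDefect p B) with h | h
    · rw [h, pow_zero] at hDc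
      exact absurd (Subgroup.eq_bot_of_card_eq D hDc) hD1
    · exact h
  rcases le_or_gt 5 p with hp5 | hp5
  · -- the focal subgroup is proper
    obtain ⟨ω, hω⟩ := exists_pairOf_isDef hDd
    have htop : Top p (⟨D, ω⟩ : Idx (Res M) G) := top_of_isDef hω hDd
    have hmax : Cfsg.IsMaximalBrauerPair p M B D (toSet ω) :=
      (isMaximalBrauerPair_iff hB (isPBlock_toSet ω)).mpr (by rw [blk_toSet]; exact ⟨hω, htop⟩)
    obtain ⟨F, hF, hsat⟩ := Cfsg.Agent.S4677.result p M hM B D (toSet ω) hmax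
    have hlt : F.focalSubgroup < D :=
      Cfsg.Agent.S5252.result p hDd.isPGroup F hsat hp5 hD1 (hAut.to_subgroup _)
    have hF' : IsFusion p (⟨D, ω⟩ : Idx (Res M) G) F := by
      have := isFusion_of_isBlockFusionSystemOn (isPBlock_toSet ω) hF
      rwa [blk_toSet] at this
    obtain ⟨O, iO, r, hc, hs⟩ := exists_free (b := ⟨D, ω⟩) hM hB htop hω hF' hlt
    have hd2 : 2 ≤ Cfsg.blockDefect p B := by
      by_contra hcon
      have hD' : Nat.card D = p := by rw [hDc, show Cfsg.blockDefect p B = 1 by omega, pow_one]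
      haveI : IsCyclic D := isCyclic_of_prime_card hD'
      obtain ⟨k, hk⟩ := IsPGroup.iff_card.mp hAut
      rw [IsCyclic.card_mulAut, hD', Nat.totient_prime hp] at hk
      rcases k with _ | k
      · rw [pow_zero] at hk; omega
      · have : p ∣ p - 1 := ⟨p ^ k, by rw [hk, pow_succ, mul_comm]⟩
        have := Nat.le_of_dvd (by omega) this
        omega
    obtain ⟨χ₀, n, hn, hunit, hdvd⟩ := sum_sq_congr hM hB hd2 le_rfl
    have hsum := hs χ₀ inferInstance
    simp only [hn, mul_pow, ← Finset.mul_sum, mul_left_comm (p : ℤ)] at hsum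
    have hsum' := mul_left_cancel₀ (pow_ne_zero _ (pow_ne_zero _
      (by exact_mod_cast hp.ne_zero : (p : ℤ) ≠ 0))) hsum
    rw [hsum', pow_two, mul_dvd_mul_iff_left (by exact_mod_cast hp.ne_zero : (p : ℤ) ≠ 0)] at hdvd
    obtain ⟨χ, hχ, hv⟩ := exists_height_zero (p := p) hB
    have hne : 0 < Fintype.card O := by
      rcases Nat.eq_zero_or_pos (Fintype.card O) with h | h
      · rw [h, mul_zero, Nat.card_eq_zero] at hc
        rcases hc with hc | hc
        · exact hc.elim' ⟨χ, hχ, (blockHeight_eq_zero_iff hχ).mpr hv⟩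
        · exact absurd hc (not_infinite_iff_finite.mpr inferInstance)
      · exact h
    have hunit' : ∀ o, ¬ (p : ℤ) ∣ n (r o).1 := fun o => hunit _ (r o).2.1 (r o).2.2
    have hne1 : Fintype.card O ≠ 1 := by
      intro h
      obtain ⟨o, ho⟩ := Fintype.card_eq_one_iff.mp h
      rw [Fintype.sum_eq_single o (fun x hx => absurd (ho x) hx)] at hdvd
      exact hunit' o ((Nat.prime_iff_prime_int.mp hp).dvd_of_dvd_pow hdvd)
    refine ⟨⟨_, hc⟩, fun _ => ?_, fun _ h4 => ?_⟩
    · rw [hc, mul_comm p]; exact Nat.mul_le_mul_right p (by omega)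
    · rw [hc, mul_comm p]
      refine Nat.mul_le_mul_right p ?_
      by_contra h3
      have h2 : Fintype.card O = 2 := by omega
      have e := Fintype.equivFinOfCardEq (α := O) (n := 2) h2
      rw [← e.symm.sum_comp, Fin.sum_univ_two] at hdvd
      exact sq_add_sq_ne h4 (hunit' _) hdvd
  · -- `p = 2` or `p = 3`
    obtain ⟨χ₀, n, -, hunit, hdvd⟩ := sum_sq_congr hM hB hd1 (by omega)
    have hp3 : p ≤ 3 := by
      by_contra hcon
      have : p = 4 := by omega
      subst this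
      exact absurd hp (by decide)
    refine ⟨?_, fun h => absurd h (by omega), fun h => absurd h (by omega)⟩
    rw [pow_one, ← ZMod.intCast_zmod_eq_zero_iff_dvd] at hdvd
    push_cast at hdvd
    rw [Finset.sum_congr rfl (g := fun _ => (1 : ZMod p)) (fun x _ => ?_)] at hdvd
    · rw [Finset.sum_const, Finset.card_univ, nsmul_one] at hdvd
      rw [Nat.card_eq_fintype_card]
      exact (ZMod.natCast_eq_zero_iff _ p).mp hdvd
    · have hx : ((n x.1 : ℤ) : ZMod p) ≠ 0 := fun e =>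
        hunit _ x.2.1 x.2.2 ((ZMod.intCast_zmod_eq_zero_iff_dvd _ p).mp e)
      obtain rfl | rfl : p = 2 ∨ p = 3 := by
        have := hp.two_le
        omega
      · have h : ((n x.1 : ℤ) : ZMod 2) ^ 1 = 1 := ZMod.pow_card_sub_one_eq_one hx
        rw [pow_succ, h, one_mul, ← pow_one ((n x.1 : ℤ) : ZMod 2), h]
      · exact ZMod.pow_card_sub_one_eq_one hx

end Cfsg.Agent.S4978
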