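import Cfsg.Statements.S3116
import Mathlib
import Cfsg.Agent.Lib.Inv59.Basic

set_option autoImplicit false
open Cfsg

namespace Cfsg.Agent.S3116

/-- In a group with a cyclic subgroup of index 2, every outside element is `y * x ^ i`. -/
theorem exists_rep {X : Type*} [Group X] [Finite X] {x : X} (y : X) (hcard : Nat.card X = 2 * orderOf x)
    (hy : y ∉ Subgroup.zpowers x) (z : X) (hz : z ∉ Subgroup.zpowers x) : ∃ i : ℤ, y * x ^ i = z := by
  have hidx : (Subgroup.zpowers x).index = 2 := by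
    have := Subgroup.card_mul_index (Subgroup.zpowers x)
    rw [Nat.card_zpowers, hcard, mul_comm 2] at this
    exact Nat.eq_of_mul_eq_mul_left (orderOf_pos x) this
  have h := Subgroup.mul_mem_iff_of_index_two hidx (a := y⁻¹) (b := z)
  have hy' : y⁻¹ ∉ Subgroup.zpowers x := fun h' => hy (by simpa using inv_mem h')
  obtain ⟨i, hi⟩ := Subgroup.mem_zpowers_iff.1 (h.2 (iff_of_false hy' hz))
  exact ⟨i, by rw [hi]; group⟩

/-- a group with a characteristic cyclic subgroup of index 2 and order `2 ^ m` has automorphism group a 2-group -/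
theorem isPGroup_aut {X : Type*} [Group X] [Finite X] (m : ℕ) (x y : X) (hx : orderOf x = 2 ^ m)
    (hcard : Nat.card X = 2 * 2 ^ m) (hy : y ∉ Subgroup.zpowers x)
    (hchar : ∀ z : X, orderOf z = 2 ^ m → z ∈ Subgroup.zpowers x) : IsPGroup 2 (MulAut X) := by
  have hcard' : Nat.card X = 2 * orderOf x := by rw [hcard, hx]
  intro φ
  refine ⟨m + m, ?_⟩
  have hφx : φ x ∈ Subgroup.zpowers x := hchar _ (by rw [MulEquiv.orderOf_eq, hx])
  rw [← mem_powers_iff_mem_zpowers, Submonoid.mem_powers_iff] at hφx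
  obtain ⟨a, ha⟩ := hφx
  have hiter : ∀ k : ℕ, (φ ^ k) x = x ^ (a ^ k) := by
    intro k
    induction k with
    | zero => simp
    | succ k ih => rw [pow_succ', MulAut.mul_apply, ih, map_pow, ← ha, ← pow_mul, ← pow_succ']
  have hfix : (φ ^ (2 ^ m)) x = x := by
    rw [hiter]
    rcases Nat.eq_zero_or_pos m with rfl | hm
    · have : x = 1 := orderOf_eq_one_iff.1 (by simpa using hx)
      simp [this]
    · have hodd : Nat.Coprime a (2 ^ m) := by
        have h1 : orderOf (x ^ a) = 2 ^ m := by rw [ha, MulEquiv.orderOf_eq, hx]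
        rw [orderOf_pow, hx, Nat.div_eq_self] at h1
        rcases h1 with h1 | h1
        · simp at h1
        · rw [Nat.Coprime, Nat.gcd_comm]; exact h1
      have hT := Nat.ModEq.pow_totient hodd
      rw [Nat.totient_prime_pow Nat.prime_two hm] at hT
      have h2 : a ^ (2 ^ m) ≡ 1 [MOD 2 ^ m] := by
        have h3 : 2 ^ m = 2 ^ (m - 1) * (2 - 1) * 2 := by
          rw [show (2 : ℕ) - 1 = 1 from rfl, mul_one, ← pow_succ, Nat.sub_add_cancel hm]
        conv_lhs => rw [h3, pow_mul]
        simpa using hT.pow 2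
      nth_rewrite 2 [← pow_one x]
      rw [pow_eq_pow_iff_modEq, hx]
      exact h2
  set ψ := φ ^ (2 ^ m) with hψ
  have hψy : ψ y ∉ Subgroup.zpowers x := by
    intro h
    obtain ⟨i, hi⟩ := Subgroup.mem_zpowers_iff.1 h
    refine hy (Subgroup.mem_zpowers_iff.2 ⟨i, ψ.injective ?_⟩)
    rw [map_zpow, hfix, hi]
  obtain ⟨i, hi⟩ := exists_rep y hcard' hy _ hψy
  have hψpow : ∀ k : ℕ, (ψ ^ k) x = x ∧ (ψ ^ k) y = y * x ^ ((k : ℤ) * i) := by
    intro k
    induction k with
    | zero => simp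
    | succ k ih =>
      refine ⟨by rw [pow_succ', MulAut.mul_apply, ih.1, hfix], ?_⟩
      rw [pow_succ', MulAut.mul_apply, ih.2, map_mul, map_zpow, hfix, ← hi, mul_assoc, ← zpow_add]
      congr 2
      push_cast
      ring
  rw [pow_add, pow_mul]
  refine MulEquiv.ext (fun z => ?_)
  obtain ⟨e1, e2⟩ := hψpow (2 ^ m)
  rw [zpow_mul, zpow_natCast, ← hx, pow_orderOf_eq_one, one_zpow, mul_one, hx] at e2
  show (ψ ^ (2 ^ m)) z = z
  by_cases hz : z ∈ Subgroup.zpowers x
  · obtain ⟨j, rfl⟩ := Subgroup.mem_zpowers_iff.1 hz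
    rw [map_zpow, e1]
  · obtain ⟨j, rfl⟩ := exists_rep y hcard' hy z hz
    rw [map_mul, map_zpow, e1, e2]


/-- The automorphism group of a dihedral 2-group of order at least 8, or of a quasi-dihedral (semidihedral) 2-group of order at least 16, is a 2-group. -/
theorem result {X : Type*} [Group X] [Finite X] (h2 : IsPGroup 2 X)
    (h : (∃ n : ℕ, 4 ≤ n ∧ Nonempty (X ≃* DihedralGroup n)) ∨ Cfsg.IsQuasiDihedral X) : IsPGroup 2 (MulAut X) := by
  rcases h with ⟨n, hn, ⟨e⟩⟩ | hQ
  · haveI : NeZero n := ⟨by omega⟩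
    haveI : Fact (Nat.Prime 2) := ⟨Nat.prime_two⟩
    have hD : IsPGroup 2 (DihedralGroup n) := h2.of_equiv e
    obtain ⟨k, hk⟩ := IsPGroup.iff_card.1 hD
    rw [DihedralGroup.nat_card] at hk
    obtain ⟨m, rfl⟩ : ∃ m, n = 2 ^ m :=
      ⟨k - 1, by
        rcases k with _ | j
        · omega
        · rw [pow_succ'] at hk; simpa using hk⟩
    refine isPGroup_aut m (e.symm (DihedralGroup.r 1)) (e.symm (DihedralGroup.sr 0)) ?_ ?_ ?_ ?_
    · rw [MulEquiv.orderOf_eq, DihedralGroup.orderOf_r_one]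
    · rw [Nat.card_congr e.toEquiv, DihedralGroup.nat_card]
    · intro hmem
      obtain ⟨i, hi⟩ := Subgroup.mem_zpowers_iff.1 hmem
      rw [← map_zpow] at hi
      have := e.symm.injective hi
      rw [DihedralGroup.r_one_zpow] at this
      cases this
    · intro z hz
      have hz' : orderOf (e z) = 2 ^ m := by rw [MulEquiv.orderOf_eq, hz]
      rcases hez : e z with i | i
      · refine Subgroup.mem_zpowers_iff.2 ⟨(i.val : ℤ), e.injective ?_⟩
        rw [map_zpow, MulEquiv.apply_symm_apply, hez, zpow_natCast, DihedralGroup.r_one_pow,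
          ZMod.natCast_zmod_val]
      · rw [hez, DihedralGroup.orderOf_sr] at hz'
        omega
  · obtain ⟨n, hn, hcard, x, y, hx, hy, hrel⟩ := hQ
    have hynot : y ∉ Subgroup.zpowers x := by
      intro hmem
      obtain ⟨i, rfl⟩ := Subgroup.mem_zpowers_iff.1 hmem
      have hc : x ^ i * x * (x ^ i)⁻¹ = x := by
        rw [(Commute.zpow_self x i).eq, mul_inv_cancel_right]
      rw [hc] at hrel
      have hp : 4 ≤ 2 ^ (n - 1) := le_trans (by norm_num) (Nat.pow_le_pow_right (by norm_num) (show 2 ≤ n - 1 by omega))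
      have h1 : x ^ (2 ^ (n - 1) - 2) = 1 := by
        have : x ^ (2 ^ (n - 1) - 2) * x = 1 * x := by
          rw [one_mul, ← pow_succ, show 2 ^ (n - 1) - 2 + 1 = 2 ^ (n - 1) - 1 by omega]
          exact hrel.symm
        exact mul_right_cancel this
      have := Nat.le_of_dvd (by omega) (orderOf_dvd_of_pow_eq_one h1)
      rw [hx] at this
      have := Nat.pow_le_pow_right (show 0 < 2 by norm_num) (show n - 1 ≤ n by omega)
      omega
    refine isPGroup_aut n x y hx (by rw [hcard, pow_succ']) hynot ?_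
    · intro z hz
      by_contra hzn
      obtain ⟨i, rfl⟩ := exists_rep y (by rw [hcard, pow_succ', hx]) hynot z hzn
      have hy2 : y * y = 1 := by rw [← sq, ← hy, pow_orderOf_eq_one]
      have hy' : y⁻¹ = y := inv_eq_of_mul_eq_one_left hy2
      have h1 : y * x ^ i * y⁻¹ = x ^ (((2 ^ (n - 1) - 1 : ℕ) : ℤ) * i) := by
        rw [zpow_mul, zpow_natCast, ← hrel, conj_zpow]
      have h2' : (y * x ^ i) ^ 2 = x ^ (((2 ^ (n - 1) : ℕ) : ℤ) * i) := by
        calc (y * x ^ i) ^ 2 = (y * x ^ i * y⁻¹) * x ^ i := by rw [sq, hy']; group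
          _ = _ := by
            rw [h1, ← zpow_add]
            congr 1
            rw [Nat.cast_sub Nat.one_le_two_pow]
            push_cast
            ring
      have h4 : (y * x ^ i) ^ 4 = 1 := by
        rw [show 4 = 2 * 2 from rfl, pow_mul, h2', ← zpow_natCast (x ^ _) 2, ← zpow_mul]
        rw [show ((2 ^ (n - 1) : ℕ) : ℤ) * i * ((2 : ℕ) : ℤ) = ((2 ^ n : ℕ) : ℤ) * i by
          conv_rhs => rw [show n = n - 1 + 1 by omega, pow_succ]
          push_cast; ring]
        rw [zpow_mul, zpow_natCast, ← hx, pow_orderOf_eq_one, one_zpow]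
      have := Nat.le_of_dvd (by norm_num) (orderOf_dvd_of_pow_eq_one h4)
      rw [hz] at this
      have := Nat.pow_le_pow_right (show 0 < 2 by norm_num) (show 3 ≤ n by omega)
      omega

end Cfsg.Agent.S3116
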