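import Cfsg.Statements.S0447
import Cfsg.Agent.Lib.SporMatrix.CoverAltEight

set_option autoImplicit false
open Cfsg

namespace Cfsg.Agent.S0447

variable {H : Type} [Group H] {n : ℕ}

/-- The two involutions generating a Sylow 2-subgroup. -/
structure SylowData (n : ℕ) where
  a : Equiv.Perm (Fin n)
  b : Equiv.Perm (Fin n)
  ha : a ∈ alternatingGroup (Fin n)
  hb : b ∈ alternatingGroup (Fin n)
  hcyc : a.cycleType = {2, 2} ∧ b.cycleType = {2, 2}
  m : ℕ
  hm : m = 2 ∨ m = 4
  hord : (a * b) ^ m = 1 ∧ (a * b) ^ (m / 2) ≠ 1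
  hindex : Odd (n.factorial / 2 / (2 * m)) ∧ 2 * m * (n.factorial / 2 / (2 * m)) = n.factorial / 2
  odd : ∃ c : Equiv.Perm (Fin n), Equiv.Perm.sign c = -1 ∧ c * a = a * c
  hlist : ∀ x y : ℕ, x < m → y < 2 → (x = 0 ∧ y = 0) ∨ a ^ y * (a * b) ^ x ≠ 1

theorem cycleType_involution {n : ℕ} (hn : n ≤ 7) {x : Equiv.Perm (Fin n)} (hx : x ∈ alternatingGroup (Fin n))
    (h1 : x ≠ 1) (h2 : x ^ 2 = 1) : x.cycleType = {2, 2} := by
  haveI : Fact (Nat.Prime 2) := ⟨Nat.prime_two⟩
  have ho : orderOf x = 2 := orderOf_eq_prime h2 h1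
  obtain ⟨k, hk⟩ := Equiv.Perm.cycleType_prime_order (by rw [ho]; exact Nat.prime_two)
  rw [ho] at hk
  have hsum : x.cycleType.sum ≤ n := by
    rw [Equiv.Perm.sum_cycleType]
    exact (Finset.card_le_univ _).trans (le_of_eq (Fintype.card_fin n))
  have hsign := Equiv.Perm.sign_of_cycleType x
  rw [Equiv.Perm.mem_alternatingGroup.1 hx, hk] at hsign
  rw [hk, Multiset.sum_replicate, smul_eq_mul] at hsum
  have hk1 : k = 1 := by
    have hk3 : k < 3 := by omega
    interval_cases k
    · exact absurd hsign (by decide)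
    · rfl
    · exact absurd hsign (by decide)
  rw [hk, hk1]; rfl

theorem center_pair [Finite H] (hc : Nat.card (Subgroup.center H) = 2) {u v : H}
    (hu : u ∈ Subgroup.center H) (hu1 : u ≠ 1) (hv : v ∈ Subgroup.center H) (hv1 : v ≠ 1) : u = v := by
  obtain ⟨a₁, a₂, -, huniv⟩ := Nat.card_eq_two_iff.1 hc
  have hall : ∀ w : ↥(Subgroup.center H), w = a₁ ∨ w = a₂ := fun w => by
    have hw := Set.mem_univ w
    rw [← huniv] at hw
    simpa using hw
  rcases hall 1 with h1 | h1 <;> rcases hall ⟨u, hu⟩ with h2 | h2 <;> rcases hall ⟨v, hv⟩ with h3 | h3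
  all_goals first
    | exact congrArg Subtype.val (h2.trans h3.symm)
    | exact absurd (congrArg Subtype.val (h2.trans h1.symm)) hu1
    | exact absurd (congrArg Subtype.val (h3.trans h1.symm)) hv1

theorem center_sq [Finite H] (hc : Nat.card (Subgroup.center H) = 2) {u : H}
    (hu : u ∈ Subgroup.center H) : u * u = 1 := by
  have h := orderOf_dvd_natCard (⟨u, hu⟩ : ↥(Subgroup.center H))
  rw [hc, orderOf_dvd_iff_pow_eq_one] at h
  have h' := congrArg Subtype.val h
  simpa [sq] using h'

/-- All lifts of the involutions of cycle type (2, 2) square to 1. -/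
theorem lifts_sq (hn : n ≤ 7) (D : SylowData n) [Finite H] (π : H →* alternatingGroup (Fin n))
    (hsurj : Function.Surjective π) (hker : π.ker = Subgroup.center H)
    (hc : Nat.card (Subgroup.center H) = 2) {x : H} (hx : orderOf x = 2) (hxc : x ∉ Subgroup.center H)
    (y : H) (hy : (π y : Equiv.Perm (Fin n)).cycleType = {2, 2}) : y * y = 1 := by
  have hx2 : x * x = 1 := by rw [← sq, ← hx, pow_orderOf_eq_one]
  have hπx : (π x : Equiv.Perm (Fin n)).cycleType = {2, 2} := by
    refine cycleType_involution hn (π x).2 (fun h => hxc ?_) ?_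
    · rw [← hker, MonoidHom.mem_ker]; exact Subtype.ext h
    · rw [← Subgroup.coe_pow, ← map_pow, sq, hx2, map_one]; rfl
  obtain ⟨c, hc1, hca⟩ := D.odd
  have even_conj : ∀ w : H, (π w : Equiv.Perm (Fin n)).cycleType = {2, 2} →
      ∃ g : H, π g * π w * (π g)⁻¹ = ⟨D.a, D.ha⟩ := by
    intro w hw
    obtain ⟨d, hd⟩ := isConj_iff.1 (Equiv.Perm.isConj_iff_cycleType_eq.2 (hw.trans D.hcyc.1.symm))
    obtain ⟨e, he, hed⟩ : ∃ e : Equiv.Perm (Fin n), Equiv.Perm.sign e = 1 ∧
        e * (π w : Equiv.Perm (Fin n)) * e⁻¹ = D.a := by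
      rcases Int.units_eq_one_or (Equiv.Perm.sign d) with h | h
      · exact ⟨d, h, hd⟩
      · refine ⟨c * d, by rw [map_mul, hc1, h]; rfl, ?_⟩
        calc c * d * (π w : Equiv.Perm (Fin n)) * (c * d)⁻¹
            = c * (d * (π w : Equiv.Perm (Fin n)) * d⁻¹) * c⁻¹ := by group
          _ = D.a := by rw [hd, hca, mul_inv_cancel_right]
    obtain ⟨g, hg⟩ := hsurj ⟨e, Equiv.Perm.mem_alternatingGroup.2 he⟩
    exact ⟨g, by rw [hg]; exact Subtype.ext hed⟩
  obtain ⟨g, hg⟩ := even_conj x hπx
  obtain ⟨g', hg'⟩ := even_conj y hy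
  have hu : (g * x * g⁻¹)⁻¹ * (g' * y * g'⁻¹) ∈ Subgroup.center H := by
    rw [← hker, MonoidHom.mem_ker]
    simp only [map_mul, map_inv, hg, hg', inv_mul_cancel]
  set u := (g * x * g⁻¹)⁻¹ * (g' * y * g'⁻¹) with hu_def
  have h1 : g' * y * g'⁻¹ = (g * x * g⁻¹) * u := by rw [hu_def, mul_inv_cancel_left]
  have h2 : (g * x * g⁻¹) * (g * x * g⁻¹) = 1 := by
    rw [show (g * x * g⁻¹) * (g * x * g⁻¹) = g * (x * x) * g⁻¹ by group, hx2, mul_one, mul_inv_cancel]
  have h3 : (g' * y * g'⁻¹) * (g' * y * g'⁻¹) = 1 := by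
    rw [h1]
    calc (g * x * g⁻¹) * u * ((g * x * g⁻¹) * u) = (g * x * g⁻¹) * (u * (g * x * g⁻¹)) * u := by
          simp only [mul_assoc]
      _ = (g * x * g⁻¹) * ((g * x * g⁻¹) * u) * u := by rw [← Subgroup.mem_center_iff.1 hu]
      _ = ((g * x * g⁻¹) * (g * x * g⁻¹)) * (u * u) := by simp only [mul_assoc]
      _ = 1 := by rw [h2, center_sq hc hu, one_mul]
  calc y * y = g'⁻¹ * ((g' * y * g'⁻¹) * (g' * y * g'⁻¹)) * g' := by group
    _ = 1 := by rw [h3, mul_one, inv_mul_cancel]

/-- The map to ψ by the transfer gives a complement. -/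
theorem complement_of_odd [Finite H] (hc : Nat.card (Subgroup.center H) = 2) (P : Subgroup H)
    (L : Subgroup P) (hL : L.index = 2) (hodd : Odd P.index) (hZP : Subgroup.center H ≤ P)
    (hLz : ∀ u : P, u ∈ L → (u : H) ∈ Subgroup.center H → (u : H) = 1) :
    ∃ K : Subgroup H, (Subgroup.center H).IsComplement' K := by
  classical
  let ψ : P →* Multiplicative (ZMod 2) :=
    { toFun := fun y => if y ∈ L then 1 else Multiplicative.ofAdd 1
      map_one' := if_pos (one_mem _)
      map_mul' := fun y z => by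
        have key := Subgroup.mul_mem_iff_of_index_two hL (a := y) (b := z)
        by_cases hy : y ∈ L <;> by_cases hz : z ∈ L <;> simp [hy, hz, key] <;> rfl }
  obtain ⟨z, hz, hz1⟩ : ∃ z ∈ Subgroup.center H, z ≠ 1 := by
    by_contra hcon
    push Not at hcon
    have : Subgroup.center H = ⊥ := (Subgroup.eq_bot_iff_forall _).2 hcon
    rw [this, Subgroup.card_bot] at hc
    omega
  have hzcen : ∀ (k : ℕ) (g₀ : H), g₀⁻¹ * z ^ k * g₀ = z ^ k := fun k g₀ => by
    rw [mul_assoc, ← Subgroup.mem_center_iff.1 (pow_mem hz k) g₀, inv_mul_cancel_left]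
  have htz : MonoidHom.transfer ψ z = Multiplicative.ofAdd 1 := by
    rw [MonoidHom.transfer_eq_pow ψ z fun k g₀ _ => hzcen k g₀]
    obtain ⟨l, hl⟩ := hodd
    have hzi : z ^ P.index = z := by rw [hl, pow_succ, pow_mul, sq, center_sq hc hz, one_pow, one_mul]
    show ite _ _ _ = _
    rw [if_neg]
    intro hmem
    refine hz1 ?_
    have h := hLz _ hmem
    simp only [hzi] at h
    exact h hz
  refine ⟨(MonoidHom.transfer ψ).ker, Subgroup.isComplement'_of_card_mul_and_disjoint ?_ ?_⟩
  · have hr : (MonoidHom.transfer ψ).range = ⊤ := by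
      refine eq_top_iff.2 fun w _ => ?_
      rcases (show ∀ w : Multiplicative (ZMod 2), w = 1 ∨ w = Multiplicative.ofAdd 1 by decide) w with rfl | rfl
      · exact one_mem _
      · exact ⟨z, htz⟩
    rw [← (MonoidHom.transfer ψ).ker.card_mul_index, hc, Subgroup.index_ker, hr, Subgroup.card_top, mul_comm]
    simp
  · rw [disjoint_iff, Subgroup.eq_bot_iff_forall]
    rintro u ⟨hu, huK⟩
    by_contra hu1
    have : MonoidHom.transfer ψ u = 1 := huK
    rw [center_pair hc hu hu1 hz hz1, htz] at this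
    exact absurd this (by decide)

/-- The subgroup generated by two involution lifts. -/
theorem exists_lift [Finite H] (D : SylowData n) (π : H →* alternatingGroup (Fin n))
    (hsurj : Function.Surjective π) (hsq : ∀ y : H, (π y : Equiv.Perm (Fin n)).cycleType = {2, 2} → y * y = 1)
    (hn : n ≤ 7) : ∃ L : Subgroup H, Nat.card L = 2 * D.m ∧ ∀ y ∈ L, π y = 1 → y = 1 := by
  classical
  obtain ⟨A, hA⟩ := hsurj ⟨D.a, D.ha⟩
  obtain ⟨B, hB⟩ := hsurj ⟨D.b, D.hb⟩
  have hAA : A * A = 1 := hsq A (by rw [hA]; exact D.hcyc.1)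
  have hBB : B * B = 1 := hsq B (by rw [hB]; exact D.hcyc.2)
  have hπr : ∀ k : ℕ, (π ((A * B) ^ k) : Equiv.Perm (Fin n)) = (D.a * D.b) ^ k := fun k => by
    rw [map_pow, Subgroup.coe_pow, map_mul, Subgroup.coe_mul, hA, hB]
  have hrm : (A * B) ^ D.m = 1 := by
    have hsub : (A * B) ^ (D.m / 2) * (A * B) ^ (D.m / 2) = 1 := by
      refine hsq _ (cycleType_involution hn (π _).2 (by rw [hπr]; exact D.hord.2) ?_)
      rw [hπr, ← pow_mul, show D.m / 2 * 2 = D.m by rcases D.hm with h | h <;> rw [h], D.hord.1]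
    rw [← pow_add] at hsub
    rcases D.hm with h | h <;> rw [h] at hsub ⊢ <;> exact hsub
  have hmpos : 0 < D.m := by rcases D.hm with h | h <;> omega
  have hmod : ∀ k : ℕ, (A * B) ^ k = (A * B) ^ (k % D.m) := fun k => by
    conv_lhs => rw [← Nat.mod_add_div k D.m, pow_add, pow_mul, hrm, one_pow, mul_one]
  let S : Finset H := ((Finset.range 2) ×ˢ (Finset.range D.m)).image fun p => A ^ p.1 * (A * B) ^ p.2
  obtain ⟨L, hLdef⟩ : ∃ L : Subgroup H, L = Subgroup.closure {A, B} := ⟨_, rfl⟩
  have hmemS : ∀ i k, A ^ i * (A * B) ^ k ∈ S := by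
    intro i k
    refine Finset.mem_image.2 ⟨(i % 2, k % D.m), Finset.mem_product.2 ⟨Finset.mem_range.2 (Nat.mod_lt _ two_pos),
      Finset.mem_range.2 (Nat.mod_lt _ hmpos)⟩, ?_⟩
    show A ^ (i % 2) * (A * B) ^ (k % D.m) = _
    rw [← hmod]
    conv_rhs => rw [← Nat.mod_add_div i 2, pow_add, pow_mul, sq, hAA, one_pow, mul_one]
  have hLS : ∀ y ∈ L, y ∈ S := by
    intro y hy
    rw [hLdef, ← Subgroup.mem_toSubmonoid, Subgroup.closure_toSubmonoid_of_finite] at hy
    induction hy using Submonoid.closure_induction_left with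
    | one => simpa using hmemS 0 0
    | mul_left s hs z _ ih =>
      obtain ⟨⟨i, k⟩, -, rfl⟩ := Finset.mem_image.1 ih
      have flip : ∀ j : ℕ, (A * B) * A ^ j = A ^ j * (A * B) ^ (if Even j then 1 else D.m - 1) := by
        intro j
        rcases Nat.even_or_odd j with hj | hj
        · rw [if_pos hj, pow_one]
          obtain ⟨l, rfl⟩ := hj
          rw [← two_mul, pow_mul, sq, hAA, one_pow, mul_one, one_mul]
        · rw [if_neg (Nat.not_even_iff_odd.2 hj)]
          obtain ⟨l, rfl⟩ := hj
          rw [pow_succ, pow_mul, sq, hAA, one_pow, one_mul]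
          have hinv : (A * B) ^ (D.m - 1) = B * A := by
            refine mul_left_cancel (a := A * B) ?_
            rw [← pow_succ', Nat.sub_add_cancel hmpos, hrm,
              show A * B * (B * A) = A * (B * B) * A by group, hBB, mul_one, hAA]
          rw [hinv, ← mul_assoc]
      rcases hs with rfl | rfl
      · simpa [← mul_assoc, ← pow_succ'] using hmemS (i + 1) k
      · have hs' : s * (A ^ i * (A * s) ^ k) = A * ((A * s) * A ^ i) * (A * s) ^ k := by
          rw [show A * (A * s * A ^ i) * (A * s) ^ k = (A * A) * (s * (A ^ i * (A * s) ^ k)) by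
            simp only [mul_assoc], hAA, one_mul]
        rw [hs', flip i]
        simpa [mul_assoc, pow_succ', pow_add] using hmemS (i + 1) ((if Even i then 1 else D.m - 1) + k)
  have hA' : A ∈ L := by rw [hLdef]; exact Subgroup.subset_closure (Set.mem_insert A {B})
  have hB' : B ∈ L := by rw [hLdef]; exact Subgroup.subset_closure (Set.mem_insert_of_mem A rfl)
  have hLeq : ∀ y, y ∈ L ↔ y ∈ S := fun y => ⟨hLS y, fun hy => by
    obtain ⟨p, -, rfl⟩ := Finset.mem_image.1 hy
    exact mul_mem (pow_mem hA' p.1) (pow_mem (mul_mem hA' hB') p.2)⟩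
  have hLZ : ∀ y ∈ L, π y = 1 → y = 1 := by
    intro y hy h1
    obtain ⟨⟨i, k⟩, hik, rfl⟩ := Finset.mem_image.1 (hLS y hy)
    simp only [Finset.mem_product, Finset.mem_range] at hik
    rcases D.hlist k i hik.2 hik.1 with ⟨rfl, rfl⟩ | hne
    · simp
    · refine absurd ?_ hne
      have := congrArg Subtype.val h1
      rwa [map_mul, Subgroup.coe_mul, hπr, map_pow, Subgroup.coe_pow, hA] at this
  have hLcard : Nat.card L = 2 * D.m := by
    have hinjS : S.card = 2 * D.m := by
      rw [Finset.card_image_of_injOn, Finset.card_product, Finset.card_range, Finset.card_range]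
      rintro ⟨i, k⟩ hik ⟨i', k'⟩ hik' h
      simp only [Finset.coe_product, Set.mem_prod, Finset.coe_range, Set.mem_Iio] at hik hik'
      have h' : A ^ i * (A * B) ^ k = A ^ i' * (A * B) ^ k' := h
      have key : A ^ (i + i') * (A * B) ^ (k + (D.m - k')) = 1 := by
        have e : A ^ i' * A ^ i' = 1 := by rw [← pow_add, ← two_mul, pow_mul, sq, hAA, one_pow]
        rw [pow_add, pow_add, ← pow_add A, add_comm i i', pow_add,
          show A ^ i' * A ^ i * ((A * B) ^ k * (A * B) ^ (D.m - k'))
            = A ^ i' * (A ^ i * (A * B) ^ k) * (A * B) ^ (D.m - k') by simp only [mul_assoc], h',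
          show A ^ i' * (A ^ i' * (A * B) ^ k') * (A * B) ^ (D.m - k')
            = (A ^ i' * A ^ i') * ((A * B) ^ k' * (A * B) ^ (D.m - k')) by simp only [mul_assoc], e,
          ← pow_add, show k' + (D.m - k') = D.m by omega, hrm, one_mul]
      have hp := congrArg (fun z : H => (π z : Equiv.Perm (Fin n))) key
      simp only [map_mul, Subgroup.coe_mul, hπr, map_pow, Subgroup.coe_pow, hA, hB, map_one,
        OneMemClass.coe_one] at hp
      have haa : D.a ^ 2 = 1 := by
        have := congrArg (fun z : H => (π z : Equiv.Perm (Fin n))) hAA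
        simpa [hA, sq] using this
      have ha2 : D.a ^ (i + i') = D.a ^ ((i + i') % 2) := by
        conv_lhs => rw [← Nat.mod_add_div (i + i') 2, pow_add, pow_mul, haa, one_pow, mul_one]
      have hb2 : (D.a * D.b) ^ (k + (D.m - k')) = (D.a * D.b) ^ ((k + (D.m - k')) % D.m) := by
        conv_lhs => rw [← Nat.mod_add_div (k + (D.m - k')) D.m, pow_add, pow_mul, D.hord.1, one_pow, mul_one]
      rw [ha2, hb2] at hp
      rcases D.hlist ((k + (D.m - k')) % D.m) ((i + i') % 2) (Nat.mod_lt _ hmpos) (Nat.mod_lt _ two_pos) with ⟨h0, h0'⟩ | hne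
      · have : k = k' := by
          rcases D.hm with hm | hm <;> rw [hm] at h0 hik hik' <;> omega
        exact Prod.ext (by show i = i'; omega) this
      · exact absurd hp hne
    calc Nat.card L = Nat.card {y // y ∈ S} := Nat.card_congr (Equiv.subtypeEquivRight hLeq)
      _ = 2 * D.m := by rw [Nat.card_eq_fintype_card, Fintype.card_coe, hinjS]
  exact ⟨L, hLcard, hLZ⟩

/-- All lifts of involutions square to 1, hence a complement to the centre. -/
theorem split_of_involution (hn : n ≤ 7) (D : SylowData n) [Finite H]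
    (π : H →* alternatingGroup (Fin n)) (hsurj : Function.Surjective π)
    (hker : π.ker = Subgroup.center H) (hc : Nat.card (Subgroup.center H) = 2)
    {x : H} (hx : orderOf x = 2) (hxc : x ∉ Subgroup.center H) :
    ∃ K : Subgroup H, (Subgroup.center H).IsComplement' K := by
  obtain ⟨L, hLcard, hLZ⟩ := exists_lift D π hsurj (lifts_sq hn D π hsurj hker hc hx hxc) hn
  have hmpos : 0 < D.m := by rcases D.hm with h | h <;> omega
  let P : Subgroup H := (L.map π).comap π
  have hLP : L ≤ P := Subgroup.le_comap_map _ _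
  have hZP : Subgroup.center H ≤ P := hker ▸ Subgroup.ker_le_comap _ _
  have hmapL : Nat.card (L.map π) = 2 * D.m := by
    rw [← hLcard]
    refine (Nat.card_congr (Equiv.ofBijective (fun y : L => (⟨π y, Subgroup.mem_map_of_mem π y.2⟩ : L.map π))
      ⟨fun y z h => ?_, fun w => ?_⟩)).symm
    · have h' : π y = π z := congrArg Subtype.val h
      exact Subtype.ext (inv_mul_eq_one.1 (hLZ _ (mul_mem (inv_mem y.2) z.2)
        (by rw [map_mul, map_inv, h', inv_mul_cancel])))
    · obtain ⟨y, hy, hyw⟩ := Subgroup.mem_map.1 w.2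
      exact ⟨⟨y, hy⟩, Subtype.ext hyw⟩
  have hH : Nat.card H = 2 * (n.factorial / 2) := by
    haveI : Nontrivial (Fin n) := by
      by_contra hnt
      rw [not_nontrivial_iff_subsingleton] at hnt
      have := D.hcyc.1
      rw [Subsingleton.elim D.a 1, Equiv.Perm.cycleType_one] at this
      exact absurd this (by decide)
    rw [← π.ker.card_mul_index, hker, hc, ← hker, Subgroup.index_ker, MonoidHom.range_eq_top.2 hsurj,
      Subgroup.card_top, Nat.card_eq_fintype_card (α := alternatingGroup (Fin n)), card_alternatingGroup,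
      Fintype.card_fin]
  have hPcard : Nat.card P = 4 * D.m := by
    have h1 := P.card_mul_index
    rw [Subgroup.index_comap_of_surjective _ hsurj, hH] at h1
    have h2 := (L.map π).card_mul_index
    have hne : (L.map π).index ≠ 0 := Subgroup.index_ne_zero_of_finite
    have hcardA : Nat.card (alternatingGroup (Fin n)) * 2 = Nat.card H := by
      rw [← π.ker.card_mul_index, hker, hc, ← hker, Subgroup.index_ker, MonoidHom.range_eq_top.2 hsurj,
        Subgroup.card_top, mul_comm]
    rw [hmapL] at h2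
    rw [← h2] at hcardA
    rw [hH] at hcardA
    have : Nat.card P * (L.map π).index = 4 * D.m * (L.map π).index := by rw [h1, ← hcardA]; ring
    exact Nat.eq_of_mul_eq_mul_right (Nat.pos_of_ne_zero hne) this
  have hidx : P.index = n.factorial / 2 / (2 * D.m) := by
    have h1 := P.card_mul_index
    rw [hPcard, hH] at h1
    have := D.hindex.2
    have e : 4 * D.m * P.index = 4 * D.m * (n.factorial / 2 / (2 * D.m)) := by
      rw [h1]; nlinarith
    exact Nat.eq_of_mul_eq_mul_left (by omega) e
  let LP : Subgroup P := L.subgroupOf P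
  have hLP2 : LP.index = 2 := by
    have h1 := LP.card_mul_index
    rw [Nat.card_congr (Subgroup.subgroupOfEquivOfLe hLP).toEquiv, hLcard, hPcard] at h1
    exact Nat.eq_of_mul_eq_mul_left (by omega : 0 < 2 * D.m) (h1.trans (by ring))
  refine complement_of_odd hc P LP hLP2 (hidx ▸ D.hindex.1) hZP fun u hu huc => ?_
  exact hLZ _ hu (MonoidHom.mem_ker.1 (hker ▸ huc))

def d4 : SylowData 4 where
  a := Equiv.swap 0 1 * Equiv.swap 2 3
  b := Equiv.swap 0 2 * Equiv.swap 1 3
  ha := Equiv.Perm.mem_alternatingGroup.2 (by decide +kernel)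
  hb := Equiv.Perm.mem_alternatingGroup.2 (by decide +kernel)
  hcyc := by decide +kernel
  m := 2
  hm := Or.inl rfl
  hord := by decide +kernel
  hindex := by decide +kernel
  odd := ⟨Equiv.swap 0 1, by decide, by decide⟩
  hlist := by
    intro x y hx hy
    interval_cases x <;> interval_cases y <;> decide +kernel

def d5 : SylowData 5 where
  a := Equiv.swap 0 1 * Equiv.swap 2 3
  b := Equiv.swap 0 2 * Equiv.swap 1 3
  ha := Equiv.Perm.mem_alternatingGroup.2 (by decide +kernel)
  hb := Equiv.Perm.mem_alternatingGroup.2 (by decide +kernel)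
  hcyc := by decide +kernel
  m := 2
  hm := Or.inl rfl
  hord := by decide +kernel
  hindex := by decide +kernel
  odd := ⟨Equiv.swap 0 1, by decide, by decide⟩
  hlist := by
    intro x y hx hy
    interval_cases x <;> interval_cases y <;> decide +kernel

def d6 : SylowData 6 where
  a := Equiv.swap 0 1 * Equiv.swap 2 3
  b := Equiv.swap 0 2 * Equiv.swap 4 5
  ha := Equiv.Perm.mem_alternatingGroup.2 (by decide +kernel)
  hb := Equiv.Perm.mem_alternatingGroup.2 (by decide +kernel)
  hcyc := by decide +kernel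
  m := 4
  hm := Or.inr rfl
  hord := by decide +kernel
  hindex := by decide +kernel
  odd := ⟨Equiv.swap 0 1, by decide, by decide⟩
  hlist := by
    intro x y hx hy
    interval_cases x <;> interval_cases y <;> decide +kernel

def d7 : SylowData 7 where
  a := Equiv.swap 0 1 * Equiv.swap 2 3
  b := Equiv.swap 0 2 * Equiv.swap 4 5
  ha := Equiv.Perm.mem_alternatingGroup.2 (by decide +kernel)
  hb := Equiv.Perm.mem_alternatingGroup.2 (by decide +kernel)
  hcyc := by decide +kernel
  m := 4
  hm := Or.inr rfl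
  hord := by decide +kernel
  hindex := by decide +kernel
  odd := ⟨Equiv.swap 0 1, by decide, by decide⟩
  hlist := by
    intro x y hx hy
    interval_cases x <;> interval_cases y <;> decide +kernel

/-- Involutions in double covers of alternating groups: for n ≤ 7, a finite non-split double cover of the alternating group of degree n has exactly one element of order 2 (the central one); for degree 8 there is a non-split double cover with two distinct involutions. -/
theorem result : (∀ (n : ℕ) (H : Type) (_ : Group H) (_ : Finite H), n ≤ 7 → Cfsg.IsNonsplitDoubleCover H (alternatingGroup (Fin n)) → ∀ x y : H, orderOf x = 2 → orderOf y = 2 → x = y) ∧ ∃ (H : Type) (_ : Group H) (_ : Finite H), Cfsg.IsNonsplitDoubleCover H (alternatingGroup (Fin 8)) ∧ ∃ x y : H, x ≠ y ∧ orderOf x = 2 ∧ orderOf y = 2 := by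
  refine ⟨?_, ?_⟩
  · intro n H _ _ hn hcov
    obtain ⟨hc, ⟨e⟩, hns⟩ := hcov
    let π : H →* alternatingGroup (Fin n) := e.toMonoidHom.comp (QuotientGroup.mk' (Subgroup.center H))
    have hsurj : Function.Surjective π := e.surjective.comp (QuotientGroup.mk'_surjective _)
    have hker : π.ker = Subgroup.center H := by
      ext w
      rw [MonoidHom.mem_ker]
      show e (w : H ⧸ Subgroup.center H) = 1 ↔ _
      rw [EmbeddingLike.map_eq_one_iff, QuotientGroup.eq_one_iff]
    have hcen : ∀ x : H, orderOf x = 2 → x ∈ Subgroup.center H := by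
      intro x hx
      by_contra hxc
      have hd : n = 4 ∨ n = 5 ∨ n = 6 ∨ n = 7 := by
        by_contra hcon
        have hn3 : n ≤ 3 := by omega
        have h2 : ¬ 2 ∣ Nat.card (alternatingGroup (Fin n)) := by
          rw [Nat.card_eq_fintype_card]
          interval_cases n <;> decide
        apply hxc
        rw [← hker, MonoidHom.mem_ker, ← orderOf_eq_one_iff]
        refine ((Nat.dvd_prime Nat.prime_two).1 (hx ▸ orderOf_map_dvd π x)).resolve_right fun h => h2 ?_
        exact h ▸ orderOf_dvd_natCard _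
      rcases hd with rfl | rfl | rfl | rfl
      · obtain ⟨K, hK⟩ := split_of_involution hn d4 π hsurj hker hc hx hxc; exact hns K hK
      · obtain ⟨K, hK⟩ := split_of_involution hn d5 π hsurj hker hc hx hxc; exact hns K hK
      · obtain ⟨K, hK⟩ := split_of_involution hn d6 π hsurj hker hc hx hxc; exact hns K hK
      · obtain ⟨K, hK⟩ := split_of_involution hn d7 π hsurj hker hc hx hxc; exact hns K hK
    intro x y hx hy
    obtain ⟨a₁, a₂, -, huniv⟩ := Nat.card_eq_two_iff.1 hc
    have hall : ∀ w : ↥(Subgroup.center H), w = a₁ ∨ w = a₂ := fun w => by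
      have hw := Set.mem_univ w
      rw [← huniv] at hw
      simpa using hw
    have hx1 : x ≠ 1 := by rintro rfl; simp at hx
    have hy1 : y ≠ 1 := by rintro rfl; simp at hy
    rcases hall 1 with h1 | h1 <;> rcases hall ⟨x, hcen x hx⟩ with h2 | h2 <;>
      rcases hall ⟨y, hcen y hy⟩ with h3 | h3
    all_goals first
      | exact congrArg Subtype.val (h2.trans h3.symm)
      | exact absurd (congrArg Subtype.val (h2.trans h1.symm)) hx1
      | exact absurd (congrArg Subtype.val (h3.trans h1.symm)) hy1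
  · refine ⟨↥Cfsg.Agent.Lib.SporMatrix.CoverAltEight.cover, inferInstance, inferInstance,
      ⟨Cfsg.Agent.Lib.SporMatrix.CoverAltEight.card_center, ⟨?_⟩,
        Cfsg.Agent.Lib.SporMatrix.CoverAltEight.nonsplit⟩, _, _,
      Cfsg.Agent.Lib.SporMatrix.CoverAltEight.orderOf_four.2,
      Cfsg.Agent.Lib.SporMatrix.CoverAltEight.orderOf_zed,
      Cfsg.Agent.Lib.SporMatrix.CoverAltEight.orderOf_four.1⟩
    exact (QuotientGroup.quotientMulEquivOfEq Cfsg.Agent.Lib.SporMatrix.CoverAltEight.ker_proj.symm).trans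
      (QuotientGroup.quotientKerEquivOfSurjective _ Cfsg.Agent.Lib.SporMatrix.CoverAltEight.proj_surjective)

end Cfsg.Agent.S0447
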