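import Cfsg.Statements.S0276
import Cfsg.Agent.Lib.Linear.SL2Sylow2
import Cfsg.Agent.Lib.Linear.Order

set_option autoImplicit false
open Cfsg

namespace Cfsg.Agent.S0276

/-- For q = 3 or 5 mod 8 the Sylow 2-subgroups of PSL_2(q) are elementary abelian of order 4. -/
theorem result {F : Type*} [Field F] [Fintype F] {q : ℕ} (hF : Fintype.card F = q) (hq : q % 8 = 3 ∨ q % 8 = 5) (P : Sylow 2 (Matrix.ProjectiveSpecialLinearGroup (Fin 2) F)) : IsKleinFour (P : Subgroup (Matrix.ProjectiveSpecialLinearGroup (Fin 2) F)) := by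
  classical
  have hodd : Odd (Fintype.card F) := by rw [hF, Nat.odd_iff]; omega
  have h2 := Cfsg.Agent.Lib.Linear.two_ne_zero_of_odd_card hodd
  set π := QuotientGroup.mk' (Subgroup.center (Matrix.SpecialLinearGroup (Fin 2) F)) with hπ
  -- the order
  obtain ⟨m, hm, hcard⟩ : ∃ m, Odd m ∧ Nat.card (Matrix.SpecialLinearGroup (Fin 2) F) = 8 * m := by
    rw [Cfsg.Agent.Lib.Linear.card_SL_two, hF]
    rcases hq with hq | hq
    · obtain ⟨j, hj⟩ : ∃ j, q = 8 * j + 3 := ⟨q / 8, by omega⟩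
      refine ⟨(8 * j + 3) * (4 * j + 1) * (2 * j + 1), ?_, ?_⟩
      · exact ((Odd.mul ⟨4 * j + 1, by ring⟩ ⟨2 * j, by ring⟩).mul ⟨j, rfl⟩)
      · rw [hj, show 8 * j + 3 - 1 = 2 * (4 * j + 1) by omega]; ring
    · obtain ⟨j, hj⟩ : ∃ j, q = 8 * j + 5 := ⟨q / 8, by omega⟩
      refine ⟨(8 * j + 5) * (2 * j + 1) * (4 * j + 3), ?_, ?_⟩
      · exact ((Odd.mul ⟨4 * j + 2, by ring⟩ ⟨j, rfl⟩).mul ⟨2 * j + 1, by ring⟩)
      · rw [hj, show 8 * j + 5 - 1 = 4 * (2 * j + 1) by omega]; ring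
  have hpsl : Nat.card (Matrix.ProjectiveSpecialLinearGroup (Fin 2) F) = 4 * m := by
    have h := Cfsg.Agent.Lib.Linear.two_mul_card_PSL_two_of_odd hodd
    rw [← Cfsg.Agent.Lib.Linear.card_SL_two, hcard] at h
    omega
  have sylCard : ∀ {G : Type _} [Group G] [Finite G] (Q : Sylow 2 G) (k : ℕ),
      Nat.card G = 2 ^ k * m → Nat.card Q = 2 ^ k := by
    intro G _ _ Q k hG
    obtain ⟨e, he⟩ := IsPGroup.iff_card.mp Q.isPGroup'
    have hmul : 2 ^ k * m = 2 ^ e * (Q : Subgroup G).index := by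
      rw [← hG, ← he]; exact ((Q : Subgroup G).card_mul_index).symm
    have hm2 : ¬ 2 ∣ m := by rw [Nat.two_dvd_ne_zero]; exact Nat.odd_iff.mp hm
    have c1 : 2 ^ k ∣ 2 ^ e := by
      refine Nat.Coprime.dvd_of_dvd_mul_right ?_ (hmul ▸ dvd_mul_right (2 ^ k) m)
      exact Nat.Coprime.pow_left k ((Nat.Prime.coprime_iff_not_dvd Nat.prime_two).mpr Q.not_dvd_index)
    have c2 : 2 ^ e ∣ 2 ^ k := by
      refine Nat.Coprime.dvd_of_dvd_mul_right ?_ (hmul.symm ▸ dvd_mul_right (2 ^ e) (Q : Subgroup G).index)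
      exact Nat.Coprime.pow_left e ((Nat.Prime.coprime_iff_not_dvd Nat.prime_two).mpr hm2)
    rw [he]; exact Nat.dvd_antisymm c2 c1
  have hP : Nat.card P = 4 := sylCard P 2 (by rw [hpsl]; rfl)
  -- involutions and centre upstairs
  have hsq : ∀ z : Matrix.SpecialLinearGroup (Fin 2) F, z * z = 1 →
      z ∈ Subgroup.center (Matrix.SpecialLinearGroup (Fin 2) F) := by
    intro z hz
    by_cases h1 : z = 1
    · rw [h1]; exact one_mem _
    rw [Subgroup.mem_center_iff]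
    intro g
    apply Subtype.ext
    show (g : Matrix (Fin 2) (Fin 2) F) * z = z * g
    rw [Cfsg.Agent.Lib.Linear.eq_neg_one_of_mul_self h2 h1 hz, mul_neg, neg_mul, mul_one, one_mul]
  have hcen : ∀ z ∈ Subgroup.center (Matrix.SpecialLinearGroup (Fin 2) F), z ^ 2 = 1 := by
    intro z hz
    have hdvd : orderOf z ∣ 2 := by
      have := Subgroup.orderOf_dvd_natCard _ hz
      rw [Cfsg.Agent.Lib.Linear.card_center_SL, Fintype.card_fin] at this
      exact this.trans (Nat.gcd_dvd_left _ _)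
    exact orderOf_dvd_iff_pow_eq_one.mp hdvd
  -- exponent two
  have key : ∀ x ∈ (P : Subgroup (Matrix.ProjectiveSpecialLinearGroup (Fin 2) F)), x ^ 2 = 1 := by
    intro x hx
    have hx4 : x ^ 4 = 1 := by
      rw [← hP, ← orderOf_dvd_iff_pow_eq_one]
      exact Subgroup.orderOf_dvd_natCard _ hx
    obtain ⟨y, rfl⟩ := QuotientGroup.mk'_surjective
      (Subgroup.center (Matrix.SpecialLinearGroup (Fin 2) F)) x
    by_contra hne
    have h4 : y ^ 4 ∈ Subgroup.center (Matrix.SpecialLinearGroup (Fin 2) F) := by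
      rw [← QuotientGroup.eq_one_iff]; simpa [hπ] using hx4
    have h8 : y ^ 8 = 1 := by rw [show 8 = 4 * 2 by rfl, pow_mul]; exact hcen _ h4
    have h4ne : y ^ 4 ≠ 1 := fun h => hne <| by
      rw [← map_pow]
      exact (QuotientGroup.eq_one_iff _).mpr (hsq _ (by rw [← pow_two, ← pow_mul]; exact h))
    have hord : orderOf y = 8 := orderOf_eq_prime_pow (p := 2) (n := 2) h4ne h8
    have hpg : IsPGroup 2 (Subgroup.zpowers y) :=
      IsPGroup.of_card (n := 3) (by rw [Nat.card_zpowers, hord]; rfl)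
    obtain ⟨Q, hQ⟩ := hpg.exists_le_sylow
    have hQc : Nat.card Q = 8 := sylCard Q 3 (by rw [hcard]; rfl)
    have hQeq : Subgroup.zpowers y = (Q : Subgroup (Matrix.SpecialLinearGroup (Fin 2) F)) :=
      Subgroup.eq_of_le_of_card_ge hQ (by rw [Nat.card_zpowers, hord]; exact hQc.le)
    exact Cfsg.Agent.Lib.Linear.sylow_two_SL2_not_isCyclic hodd Q
      (hQeq ▸ Subgroup.isCyclic_zpowers y)
  refine ⟨hP, ?_⟩
  have hd : Monoid.exponent (P : Subgroup (Matrix.ProjectiveSpecialLinearGroup (Fin 2) F)) ∣ 2 :=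
    Monoid.exponent_dvd_iff_forall_pow_eq_one.mpr fun g => Subtype.ext (key g g.2)
  rcases (Nat.dvd_prime Nat.prime_two).mp hd with h | h
  · have := Monoid.exp_eq_one_iff.mp h
    rw [Nat.card_of_subsingleton (1 : (P : Subgroup (Matrix.ProjectiveSpecialLinearGroup (Fin 2) F)))] at hP
    omega
  · exact h

end Cfsg.Agent.S0276
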