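import Cfsg.Statements.S2553
import Cfsg.Agent.Lib.GL4Two
import Cfsg.Agent.Lib.SubgroupsA8
import Cfsg.Agent.Lib.Linear.Simple
import Cfsg.Agent.Lib.SmallGroups.RecogSmall

set_option autoImplicit false
open Cfsg

namespace Cfsg.Agent.S2553
open Cfsg.Agent.Lib

theorem zmod2_key1 : ∀ a : ZMod 2, a ≠ 0 → a = 1 := by decide

theorem zmod2_key3 : ∀ a : ZMod 2, a ^ 3 = 1 → a = 1 := by decide

theorem card_gl3 : Nat.card (GL (Fin 3) (ZMod 2)) = 168 := by
  haveI : Fact (Nat.Prime 2) := ⟨Nat.prime_two⟩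
  rw [Matrix.card_GL_field, ZMod.card]
  decide

theorem simple_gl3 : IsSimpleGroup (GL (Fin 3) (ZMod 2)) := by
  haveI : Fact (Nat.Prime 2) := ⟨Nat.prime_two⟩
  haveI := Linear.isSimpleGroup_PSL_of_three (ι := Fin 3) (F := ZMod 2) (by simp)
  have hsurj : Function.Surjective (Matrix.SpecialLinearGroup.toGL :
      Matrix.SpecialLinearGroup (Fin 3) (ZMod 2) → GL (Fin 3) (ZMod 2)) := by
    intro g
    have h1 : (g : Matrix (Fin 3) (Fin 3) (ZMod 2)).det = 1 := by
      exact zmod2_key1 _ g.det.ne_zero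
    exact ⟨⟨g, h1⟩, Units.ext rfl⟩
  have hc : Subgroup.center (Matrix.SpecialLinearGroup (Fin 3) (ZMod 2)) = ⊥ := by
    rw [eq_bot_iff]
    intro x hx
    obtain ⟨r, hr, hr'⟩ := Matrix.SpecialLinearGroup.mem_center_iff.1 hx
    rw [Fintype.card_fin] at hr
    rw [zmod2_key3 r hr] at hr'
    exact Subgroup.mem_bot.2 (Subtype.ext (hr'.symm.trans (by simp)))
  let e : GL (Fin 3) (ZMod 2) ≃* Matrix.ProjectiveSpecialLinearGroup (Fin 3) (ZMod 2) :=
    (MulEquiv.ofBijective Matrix.SpecialLinearGroup.toGL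
      ⟨Matrix.SpecialLinearGroup.toGL_injective, hsurj⟩).symm.trans
      ((QuotientGroup.quotientBot).symm.trans (QuotientGroup.quotientMulEquivOfEq hc.symm))
  haveI : Nontrivial (GL (Fin 3) (ZMod 2)) := e.toEquiv.nontrivial
  exact IsSimpleGroup.isSimpleGroup_of_surjective e.symm.toMonoidHom e.symm.surjective

theorem simple_1344 (H : Subgroup (GL (Fin 4) (ZMod 2))) (hnp : SubgroupsA8.NoP ↥H) (hc : Nat.card ↥H = 1344)
    (N : Subgroup ↥H) [N.Normal] : N = ⊥ ∨ N = ⊤ := by
  haveI : Fact (Nat.Prime 7) := ⟨by norm_num⟩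
  by_contra hcon
  push Not at hcon
  have hNdvd : Nat.card N ∣ 1344 := hc ▸ Subgroup.card_subgroup_dvd_card N
  have h7N : 7 ∣ Nat.card N := by
    by_contra h
    exact hcon.1 (SubgroupsA8.eq_bot_of_solvable hnp N (SubgroupsA8.isSolvable_of_dvd Nat.prime_two Nat.prime_three
      (((Nat.Prime.coprime_iff_not_dvd (by norm_num)).2 h).symm.dvd_of_dvd_mul_left
        (show Nat.card N ∣ 7 * (2 ^ 6 * 3 ^ 1) from hNdvd))))
  have h3N : 3 ∣ Nat.card N := by
    by_contra h
    exact hcon.1 (SubgroupsA8.eq_bot_of_solvable hnp N (SubgroupsA8.isSolvable_of_dvd Nat.prime_two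
      (show Nat.Prime 7 by norm_num)
      (((Nat.Prime.coprime_iff_not_dvd (by norm_num)).2 h).symm.dvd_of_dvd_mul_left
        (show Nat.card N ∣ 3 * (2 ^ 6 * 7 ^ 1) from hNdvd))))
  obtain ⟨Q⟩ : Nonempty (Sylow 7 N) := inferInstance
  set Q' : Subgroup ↥H := (Q : Subgroup N).map N.subtype
  have hfrat : Subgroup.normalizer (Q' : Set ↥H) ⊔ N = ⊤ := Sylow.normalizer_sup_eq_top Q
  have hQcard : Nat.card Q' = 7 := by
    rw [Subgroup.card_map_of_injective N.subtype_injective]
    obtain ⟨k, hk⟩ := IsPGroup.iff_card.1 Q.isPGroup'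
    have hk0 : k ≠ 0 := by
      rintro rfl
      rw [pow_zero] at hk
      exact Q.ne_bot_of_dvd_card h7N (Subgroup.card_eq_one.1 hk)
    have h1 : 7 ^ k ∣ 1344 := hk ▸ ((Subgroup.card_subgroup_dvd_card _).trans hNdvd)
    have hk2 : k < 2 := by
      by_contra hk2
      have : 7 ^ 2 ∣ 1344 := (pow_dvd_pow 7 (by omega)).trans h1
      norm_num at this
    rw [hk, show k = 1 by omega, pow_one]
  let f : ↥H →* alternatingGroup (Fin 8) := (GL4Two.equiv.toMonoidHom).comp H.subtype
  have hf : Function.Injective f := GL4Two.equiv.injective.comp H.subtype_injective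
  have hQN : Nat.card (Subgroup.normalizer (Q' : Set ↥H)) ∣ 21 := by
    have h1 := SubgroupsA8.card_normalizer_alt (n := 8) (p := 7) (by norm_num) (by norm_num) (by norm_num) (Q'.map f)
      (by rw [Subgroup.card_map_of_injective hf, hQcard])
    have h2' := Subgroup.card_dvd_of_le (Subgroup.le_normalizer_map (H := Q') f)
    rw [Subgroup.card_map_of_injective hf] at h2'
    exact h2'.trans (Nat.dvd_of_mul_dvd_mul_left two_pos (by simpa using h1))
  have h64 : 64 ∣ Nat.card N := by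
    have h1 := Cores.card_sup_dvd_mul (Subgroup.normalizer (Q' : Set ↥H)) N
    rw [hfrat, Subgroup.card_top, hc] at h1
    exact Nat.Coprime.dvd_of_dvd_mul_left (show Nat.Coprime 64 21 by decide)
      (dvd_trans ⟨21, rfl⟩ (h1.trans (Nat.mul_dvd_mul_right hQN _)))
  refine hcon.2 (Subgroup.eq_top_of_card_eq N ?_)
  rw [hc]
  refine Nat.dvd_antisymm hNdvd ?_
  exact Nat.Coprime.mul_dvd_of_dvd_of_dvd (show Nat.Coprime 64 21 by decide) h64
    (Nat.Coprime.mul_dvd_of_dvd_of_dvd (show Nat.Coprime 3 7 by decide) h3N h7N)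

theorem no_1344 (H : Subgroup (GL (Fin 4) (ZMod 2))) (hnp : SubgroupsA8.NoP ↥H)
    (hc : Nat.card ↥H = 1344) : False := by
  classical
  haveI : Fact (Nat.Prime 2) := ⟨Nat.prime_two⟩
  let V := Fin 4 → ZMod 2
  let M : ↥H → Matrix (Fin 4) (Fin 4) (ZMod 2) := fun h => ((h : GL (Fin 4) (ZMod 2)) : Matrix _ _ (ZMod 2))
  have hM1 : M 1 = 1 := rfl
  have hMmul : ∀ g h, M (g * h) = M g * M h := fun g h => rfl
  let Ω := {x : V // x ≠ 0}
  letI act : MulAction ↥H Ω :=
    { smul := fun h x => ⟨(M h).mulVec x.1, fun h0 => x.2 (by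
        have h1 := congrArg ((M h⁻¹).mulVec) h0
        rwa [Matrix.mulVec_mulVec, ← hMmul, inv_mul_cancel, hM1, Matrix.one_mulVec, Matrix.mulVec_zero] at h1)⟩
      one_smul := fun x => Subtype.ext (Matrix.one_mulVec x.1)
      mul_smul := fun g h x => Subtype.ext (Matrix.mulVec_mulVec x.1 _ _).symm }
  have hval : ∀ (h : ↥H) (x : Ω), (h • x).1 = (M h).mulVec x.1 := fun h x => rfl
  have hΩ : Nat.card Ω = 15 := by
    rw [Nat.card_eq_fintype_card, Fintype.card_subtype_compl, Fintype.card_subtype_eq, Fintype.card_fun,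
      ZMod.card, Fintype.card_fin]
    rfl
  obtain ⟨S⟩ : Nonempty (Sylow 2 ↥H) := inferInstance
  obtain ⟨v, hv⟩ := S.isPGroup'.nonempty_fixed_point_of_prime_not_dvd_card Ω (by rw [hΩ]; norm_num)
  have hSstab : (S : Subgroup ↥H) ≤ MulAction.stabilizer ↥H v := fun g hg => hv ⟨g, hg⟩
  have hS64 : 64 ∣ Nat.card S := S.pow_dvd_card_of_pow_dvd_card (n := 6) (by rw [hc]; norm_num)
  have hidx := (MulAction.stabilizer ↥H v).card_mul_index
  rw [MulAction.index_stabilizer, hc] at hidx
  set d := (MulAction.orbit ↥H v).ncard with hd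
  have hd15 : d ≤ 15 := hΩ ▸ Set.ncard_le_card _
  have hd21 : d ∣ 21 := by
    obtain ⟨c, hc'⟩ := hS64.trans (Subgroup.card_dvd_of_le hSstab)
    rw [hc', mul_assoc] at hidx
    exact ⟨c, by rw [mul_comm d c]; omega⟩
  have hd137 : d = 1 ∨ d = 3 ∨ d = 7 := by
    have h0 : d ≠ 0 := by rintro h; rw [h] at hd21; norm_num at hd21
    interval_cases d <;> omega
  rcases hd137 with h1 | hd'
  · -- a fixed vector
    obtain ⟨w, hw⟩ := Set.ncard_eq_one.1 h1
    have hfix : ∀ g : ↥H, (M g).mulVec v.1 = v.1 := fun g => by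
      have h2 : g • v ∈ MulAction.orbit ↥H v := MulAction.mem_orbit v g
      have h3 : v ∈ MulAction.orbit ↥H v := MulAction.mem_orbit_self v
      rw [hw, Set.mem_singleton_iff] at h2 h3
      rw [← hval, h2, h3]
    let L : Submodule (ZMod 2) V := (ZMod 2) ∙ v.1
    have hL : ∀ g : ↥H, L ≤ L.comap (Matrix.toLin' (M g)) := by
      intro g x hx
      obtain ⟨c, rfl⟩ := Submodule.mem_span_singleton.1 hx
      rw [Submodule.mem_comap, map_smul, Matrix.toLin'_apply, hfix]
      exact Submodule.smul_mem _ _ (Submodule.mem_span_singleton_self _)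
    let mq : ↥H → (V ⧸ L) →ₗ[ZMod 2] V ⧸ L := fun g => L.mapQ L (Matrix.toLin' (M g)) (hL g)
    have hmq1 : ∀ y, mq 1 y = y := fun y => by
      obtain ⟨x, rfl⟩ := Submodule.Quotient.mk_surjective L y
      show Submodule.Quotient.mk ((M 1).mulVec x) = _
      rw [hM1, Matrix.one_mulVec]
    have hmqmul : ∀ g h y, mq (g * h) y = mq g (mq h y) := fun g h y => by
      obtain ⟨x, rfl⟩ := Submodule.Quotient.mk_surjective L y
      show Submodule.Quotient.mk ((M (g * h)).mulVec x) = Submodule.Quotient.mk ((M g).mulVec ((M h).mulVec x))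
      rw [Matrix.mulVec_mulVec, hMmul]
    let Q := {y : V ⧸ L // y ≠ 0}
    letI actQ : MulAction ↥H Q :=
      { smul := fun g y => ⟨mq g y.1, fun h0 => y.2 (by rw [← hmq1 y.1, ← inv_mul_cancel g, hmqmul, h0, map_zero])⟩
        one_smul := fun y => Subtype.ext (hmq1 y.1)
        mul_smul := fun g h y => Subtype.ext (hmqmul g h y.1) }
    have hQ : Nat.card Q = 7 := by
      haveI : Fintype (V ⧸ L) := Fintype.ofFinite _
      rw [Nat.card_eq_fintype_card, Fintype.card_subtype_compl, Fintype.card_subtype_eq, ← Nat.card_eq_fintype_card,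
        Module.natCard_eq_pow_finrank (K := ZMod 2), Nat.card_zmod]
      have h4 := L.finrank_quotient_add_finrank
      rw [finrank_span_singleton v.2, Module.finrank_pi, Fintype.card_fin] at h4
      rw [show Module.finrank (ZMod 2) (V ⧸ L) = 3 by omega]
      norm_num
    let ρ : ↥H →* Equiv.Perm Q := MulAction.toPermHom ↥H Q
    rcases simple_1344 H hnp hc ρ.ker with hk | hk
    · have h5 := Subgroup.card_dvd_of_injective ρ ((MonoidHom.ker_eq_bot_iff ρ).1 hk)
      rw [Nat.card_perm, hQ, hc] at h5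
      revert h5
      decide
    · haveI : Fact (Nat.Prime 3) := ⟨Nat.prime_three⟩
      obtain ⟨g, hg⟩ := exists_prime_orderOf_dvd_card' (G := ↥H) 3 (by rw [hc]; norm_num)
      have hg1 : ρ g = 1 := MonoidHom.mem_ker.1 (hk ▸ Subgroup.mem_top g)
      have hshift : ∀ x : V, ∃ c : ZMod 2, (M g).mulVec x = x + c • v.1 := by
        intro x
        by_cases hx : (Submodule.Quotient.mk x : V ⧸ L) = 0
        · obtain ⟨c, hc'⟩ := Submodule.mem_span_singleton.1 ((Submodule.Quotient.mk_eq_zero L).1 hx)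
          refine ⟨0, ?_⟩
          rw [← hc', Matrix.mulVec_smul, hfix, zero_smul, add_zero]
        · have h5 : ρ g (⟨_, hx⟩ : Q) = (⟨_, hx⟩ : Q) := by rw [hg1]; rfl
          have h6 := congrArg Subtype.val h5
          have h7 : (Submodule.Quotient.mk ((M g).mulVec x) : V ⧸ L) = Submodule.Quotient.mk x := h6
          obtain ⟨c, hc'⟩ := Submodule.mem_span_singleton.1 ((Submodule.Quotient.eq L).1 h7)
          exact ⟨c, by rw [hc', add_sub_cancel]⟩
      have hg2 : g ^ 2 = 1 := by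
        apply Subtype.ext
        apply Units.ext
        apply Matrix.mulVec_injective
        funext x
        show (M (g ^ 2)).mulVec x = (1 : Matrix (Fin 4) (Fin 4) (ZMod 2)).mulVec x
        obtain ⟨c, hc'⟩ := hshift x
        rw [pow_two, hMmul, ← Matrix.mulVec_mulVec, hc', Matrix.mulVec_add, Matrix.mulVec_smul, hfix, hc',
          add_assoc, ← add_smul, CharTwo.add_self_eq_zero, zero_smul, add_zero, Matrix.one_mulVec]
      have := orderOf_dvd_of_pow_eq_one hg2
      rw [hg] at this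
      norm_num at this
  · -- a small orbit
    let ρ : ↥H →* Equiv.Perm ↥(MulAction.orbit ↥H v) := MulAction.toPermHom ↥H (MulAction.orbit ↥H v)
    rcases simple_1344 H hnp hc ρ.ker with hk | hk
    · have h5 := Subgroup.card_dvd_of_injective ρ ((MonoidHom.ker_eq_bot_iff ρ).1 hk)
      rw [Nat.card_perm, Nat.card_coe_set_eq, ← hd, hc] at h5
      rcases hd' with h | h <;> rw [h] at h5 <;> revert h5 <;> decide
    · have hsub : MulAction.orbit ↥H v = {v} := by
        refine Set.eq_singleton_iff_unique_mem.2 ⟨MulAction.mem_orbit_self v, ?_⟩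
        rintro _ ⟨g, rfl⟩
        have h1 : ρ g = 1 := MonoidHom.mem_ker.1 (hk ▸ Subgroup.mem_top g)
        have h2 : ρ g ⟨v, MulAction.mem_orbit_self v⟩ = ⟨v, MulAction.mem_orbit_self v⟩ := by rw [h1]; rfl
        exact congrArg Subtype.val h2
      rw [hd, hsub, Set.ncard_singleton] at hd'
      omega


/-- Let H be a nontrivial subgroup of GL(4,2) (a group isomorphic to the alternating group of degree 8) whose largest normal 2-subgroup and largest normal subgroup of odd order are both trivial. Then H is isomorphic to an alternating group of degree n for some 5 ≤ n ≤ 8, to the symmetric group of degree 5 or 6, or to GL(3,2). -/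
theorem result (H : Subgroup (GL (Fin 4) (ZMod 2))) (hH : H ≠ ⊥) (hO : Cfsg.pPrimeCore 2 ↥H = ⊥) (hO2 : Cfsg.pCore 2 ↥H = ⊥) :
    (∃ n : ℕ, 5 ≤ n ∧ n ≤ 8 ∧ Nonempty (↥H ≃* alternatingGroup (Fin n))) ∨
    Nonempty (↥H ≃* Equiv.Perm (Fin 5)) ∨ Nonempty (↥H ≃* Equiv.Perm (Fin 6)) ∨ Nonempty (↥H ≃* GL (Fin 3) (ZMod 2)) := by
  classical
  haveI : Nontrivial ↥H := (Subgroup.nontrivial_iff_ne_bot H).2 hH
  let f : ↥H →* alternatingGroup (Fin 8) := (GL4Two.equiv.toMonoidHom).comp H.subtype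
  have hf : Function.Injective f := GL4Two.equiv.injective.comp H.subtype_injective
  haveI : Fact (Nat.Prime 7) := ⟨by norm_num⟩
  rcases SubgroupsA8.classify hO hO2 f hf with h | h | h | h | h
  · exact Or.inl h
  · exact Or.inr (Or.inl h)
  · exact Or.inr (Or.inr (Or.inl h))
  · haveI := h.2
    obtain ⟨e₁⟩ := SmallGroups.RecogSmall.psl_seven (G := ↥H) (F := ZMod 7) h.1 (ZMod.card 7)
    haveI : IsSimpleGroup (GL (Fin 3) (ZMod 2)) := simple_gl3
    obtain ⟨e₂⟩ := SmallGroups.RecogSmall.psl_seven (G := GL (Fin 3) (ZMod 2)) (F := ZMod 7) card_gl3 (ZMod.card 7)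
    exact Or.inr (Or.inr (Or.inr ⟨e₁.trans e₂.symm⟩))
  · exact (no_1344 H (SubgroupsA8.noP_of_cores hO hO2) h).elim

end Cfsg.Agent.S2553
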