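import Cfsg.Statements.S0588
import Mathlib


set_option autoImplicit false
set_option linter.style.haveILetI false
open Cfsg

namespace Cfsg.Agent.S0588

theorem hall_of_centralizer {G : Type*} [Group G] [Finite G] (H : Subgroup G)
    (h : ∀ x ∈ H, x ≠ 1 → Subgroup.centralizer ({x} : Set G) ≤ H) :
    (Nat.card H).Coprime H.index := by
  refine Nat.coprime_of_dvd fun p hp hpH hpI => ?_
  haveI := Fact.mk hp
  obtain ⟨P⟩ := (inferInstance : Nonempty (Sylow p H))
  obtain ⟨R, hR⟩ := Sylow.exists_comap_subtype_eq P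
  have hPne : (P : Subgroup H) ≠ ⊥ := P.ne_bot_of_dvd_card hpH
  obtain ⟨x, hx, hx1⟩ := (Subgroup.bot_or_exists_ne_one _).resolve_left hPne
  have hxR : (x : G) ∈ (R : Subgroup G) := by
    rw [← hR] at hx; exact hx
  have hx1' : (x : G) ≠ 1 := fun he => hx1 (Subtype.ext he)
  haveI : Nontrivial (R : Subgroup G) := (Subgroup.nontrivial_iff_exists_ne_one _).mpr ⟨_, hxR, hx1'⟩
  haveI := R.isPGroup'.center_nontrivial
  obtain ⟨⟨z, hz⟩, hz1⟩ := exists_ne (1 : Subgroup.center (R : Subgroup G))
  have hz1' : (z : G) ≠ 1 := fun he => hz1 (Subtype.ext (Subtype.ext he))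
  have hcom : ∀ r : (R : Subgroup G), (r : G) * z = z * r := fun r =>
    congrArg Subtype.val (Subgroup.mem_center_iff.mp hz r)
  have hzH : (z : G) ∈ H := h x x.2 hx1'
    (Subgroup.mem_centralizer_singleton_iff.mpr (hcom ⟨x, hxR⟩).symm)
  have hRH : (R : Subgroup G) ≤ H := fun r hr =>
    h z hzH hz1' (Subgroup.mem_centralizer_singleton_iff.mpr (hcom ⟨r, hr⟩))
  exact R.not_dvd_index (hpI.trans (Subgroup.index_dvd_of_le hRH))


/-- If a subgroup H of a finite group G contains the centralizer of every non-identity element of H, then the order of H is coprime to its index. -/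
theorem result {G : Type*} [Group G] [Finite G] (H : Subgroup G) (h : ∀ x ∈ H, x ≠ 1 → Subgroup.centralizer ({x} : Set G) ≤ H) : (Nat.card H).Coprime H.index := by
  exact hall_of_centralizer H h

end Cfsg.Agent.S0588
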