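import Cfsg.Statements.S1241
import Mathlib
import Cfsg.Agent.Lib.Fusion.Thompson

set_option autoImplicit false
open Cfsg
open scoped commutatorElement

namespace Cfsg.Agent.S1241

/-- Let G be a finite group, p a prime, H a subgroup of index prime to p, K a subgroup of H normal in H with H/K commutative, and g ∈ H ∖ K an element of p-power order such that for all integers m and all a ∈ G with a g^m a⁻¹ ∈ H one has a g^m a⁻¹ ∈ g^m K. Then g ∉ G'. -/
theorem result {G : Type*} [Group G] [Finite G] {p : ℕ} [Fact p.Prime] (H K : Subgroup G) (hHK : K ≤ H) (hKn : (K.subgroupOf H).Normal) (hab : ∀ x ∈ H, ∀ y ∈ H, x * y * x⁻¹ * y⁻¹ ∈ K) (hidx : Nat.Coprime p H.index) (g : G) (hgH : g ∈ H) (hgK : g ∉ K) (hgp : ∃ k : ℕ, orderOf g = p ^ k) (hctrl : ∀ (m : ℤ) (a : G), a * g ^ m * a⁻¹ ∈ H → (a * g ^ m * a⁻¹) * (g ^ m)⁻¹ ∈ K) : g ∉ commutator G := by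
  by_contra hcon
  obtain ⟨k, hk⟩ := hgp
  let K' := K.subgroupOf H
  have : K'.Normal := hKn
  let A : CommGroup (H ⧸ K') :=
    { (inferInstance : Group (H ⧸ K')) with
      mul_comm := fun a b => by
        induction a using QuotientGroup.induction_on with
        | H x =>
          induction b using QuotientGroup.induction_on with
          | H y =>
            rw [← QuotientGroup.mk_mul, ← QuotientGroup.mk_mul, QuotientGroup.eq,
              Subgroup.mem_subgroupOf]
            have := hab (y : G)⁻¹ (inv_mem y.2) (x : G)⁻¹ (inv_mem x.2)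
            simpa [mul_assoc] using this }
  let φ : H →* H ⧸ K' := QuotientGroup.mk' K'
  have hc : ∀ (m : ℕ) (a : G) (h : a * g ^ m * a⁻¹ ∈ H),
      φ ⟨a * g ^ m * a⁻¹, h⟩ = φ ⟨g, hgH⟩ ^ m := by
    intro m a h
    rw [← map_pow]
    apply QuotientGroup.eq.2
    rw [Subgroup.mem_subgroupOf]
    have h1 := hctrl (m : ℤ) a (by rwa [zpow_natCast])
    rw [zpow_natCast] at h1
    have h1' : ((a * g ^ m * a⁻¹ * (g ^ m)⁻¹)⁻¹ : G) ∈ K := inv_mem h1
    have h4 := hKn.conj_mem ⟨_, hHK h1'⟩ (Subgroup.mem_subgroupOf.2 h1') ⟨_, inv_mem h⟩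
    rw [Subgroup.mem_subgroupOf] at h4
    simpa [mul_assoc] using h4
  have h2 := Cfsg.Agent.Lib.Fusion.Thompson.transfer_controlled φ g hgH hc
  have h3 : MonoidHom.transfer φ g = 1 := Abelianization.commutator_subset_ker _ hcon
  rw [h3] at h2
  have hcop : Nat.Coprime (orderOf (φ ⟨g, hgH⟩)) H.index := by
    refine Nat.Coprime.coprime_dvd_left (orderOf_map_dvd φ _) ?_
    rw [Subgroup.orderOf_mk, hk]
    exact hidx.pow_left k
  have h5 : φ ⟨g, hgH⟩ = 1 := by
    rw [← orderOf_eq_one_iff]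
    exact Nat.Coprime.eq_one_of_dvd hcop (orderOf_dvd_of_pow_eq_one h2.symm)
  exact hgK (Subgroup.mem_subgroupOf.1 ((QuotientGroup.eq_one_iff _).1 h5))

end Cfsg.Agent.S1241
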