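import Cfsg.Statements.S0949
import Cfsg.Agent.Lib.Homocyclic.BrauerTheorem
-- import your own Cfsg.Agent.* helpers here

set_option autoImplicit false
open Cfsg

namespace Cfsg.Agent.S0949

/-- Let the finite group G have a Sylow 2-subgroup P isomorphic to Z/2^m × Z/2^m with m ≥ 2, and suppose G has no nontrivial normal subgroup of odd order. Then P is normal in G, C_G(P) = P, and the index of P is 1 or 3. -/
theorem result {G : Type*} [Group G] [Finite G] (P : Sylow 2 G) (m : ℕ) (hm : 2 ≤ m) (e : (P : Subgroup G) ≃* Multiplicative (ZMod (2 ^ m) × ZMod (2 ^ m))) (hO : ∀ N : Subgroup G, N.Normal → Odd (Nat.card N) → N = ⊥) : (P : Subgroup G).Normal ∧ Subgroup.centralizer (P : Set G) = (P : Subgroup G) ∧ ((P : Subgroup G).index = 1 ∨ (P : Subgroup G).index = 3) := by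
  have hn := Lib.Homocyclic.BrauerTheorem.sylow_normal_aux _ G rfl P m hm e hO
  have hN : Subgroup.normalizer (P : Set G) = ⊤ := Subgroup.normalizer_eq_top_iff.2 hn
  have hab : ∀ a ∈ (P : Subgroup G), ∀ b ∈ (P : Subgroup G), a * b = b * a := fun a ha b hb => by
    have := e.injective (a₁ := ⟨a, ha⟩ * ⟨b, hb⟩) (a₂ := ⟨b, hb⟩ * ⟨a, ha⟩)
      (by rw [map_mul, map_mul, mul_comm])
    exact congrArg Subtype.val this
  have hC : Subgroup.centralizer (P : Set G) = (P : Subgroup G) := by
    refine le_antisymm ?_ fun a ha => Subgroup.mem_centralizer_iff.2 fun b hb => hab b hb a ha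
    haveI := hn
    set C := Subgroup.centralizer (P : Set G) with hCdef
    have hle : (P : Subgroup G) ≤ C := fun a ha =>
      Subgroup.mem_centralizer_iff.2 fun b hb => hab b hb a ha
    set Q : Sylow 2 C := P.subtype hle with hQ
    have hQN : Subgroup.normalizer ((Q : Subgroup C) : Set C) ≤
        Subgroup.centralizer ((Q : Subgroup C) : Set C) := by
      intro c _ a ha
      rw [hQ, SetLike.mem_coe, Sylow.coe_subtype, Subgroup.mem_subgroupOf] at ha
      exact Subtype.ext (Subgroup.mem_centralizer_iff.1 c.2 (a : G) ha)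
    have hc := MonoidHom.ker_transferSylow_isComplement' Q hQN
    haveI : (Cfsg.pPrimeCore 2 C).Characteristic := Lib.Cores.pPrimeCore_characteristic 2
    haveI : C.Normal := Subgroup.normal_centralizer
    have hbot := hO ((Cfsg.pPrimeCore 2 C).map C.subtype) inferInstance (by
      rw [Subgroup.card_map_of_injective C.subtype_injective]
      exact Nat.not_even_iff_odd.1 fun h => Lib.Cores.not_dvd_card_pPrimeCore 2 h.two_dvd)
    rw [Subgroup.map_eq_bot_iff_of_injective _ C.subtype_injective] at hbot
    have hker : (MonoidHom.transferSylow Q hQN).ker = ⊥ := le_bot_iff.1 (hbot ▸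
      Lib.Cores.le_pPrimeCore_of_not_dvd (MonoidHom.not_dvd_card_ker_transferSylow Q hQN))
    rw [hker, Subgroup.isComplement'_bot_left, hQ, Sylow.coe_subtype,
      Subgroup.subgroupOf_eq_top] at hc
    exact hc
  refine ⟨hn, hC, ?_⟩
  have h13 := (Lib.Homocyclic.TwoTwo.normalizer_facts P m (by omega) e).1
  rw [hN, Subgroup.relIndex_top_right, hC] at h13
  exact h13

end Cfsg.Agent.S0949
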