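import Cfsg.Statements.S0848
import Cfsg.Agent.Lib.DihedralCentralizer.Order

set_option autoImplicit false
open Cfsg

namespace Cfsg.Agent.S0848

/-- If a finite group equals its own commutator subgroup and contains an involution whose centralizer is isomorphic to the dihedral group of order 8, then the group has order 168 or 360. -/
theorem result {G : Type*} [Group G] [Finite G] (hperf : commutator G = ⊤) (t : G) (ht : orderOf t = 2) (e : Subgroup.centralizer ({t} : Set G) ≃* DihedralGroup 4) : Nat.card G = 168 ∨ Nat.card G = 360 := by
  refine Cfsg.Agent.Lib.DihedralCentralizer.card_eq e ht (fun H hH => ?_) fun χ hχ => ?_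
  · haveI := Subgroup.normal_of_index_eq_two hH
    have hle : commutator G ≤ H := by
      haveI : Fact (Nat.Prime 2) := ⟨Nat.prime_two⟩
      haveI : IsCyclic (G ⧸ H) := isCyclic_of_prime_card (p := 2) (by rw [← Subgroup.index_eq_card, hH])
      rw [← QuotientGroup.ker_mk' H]
      letI : CommGroup (G ⧸ H) := IsCyclic.commGroup
      exact Abelianization.commutator_subset_ker _
    rw [hperf, top_le_iff] at hle
    rw [hle, Subgroup.index_top] at hH
    norm_num at hH
  · refine Subtype.ext (funext fun g => ?_)
    exact Cfsg.Agent.Lib.H80.LinearChar.eq_one_of_mem_commutator χ hχ (hperf ▸ Subgroup.mem_top g)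

end Cfsg.Agent.S0848
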