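import Cfsg.Statements.S2062
import Cfsg.Agent.Lib.OutTrivial.CertM22

set_option autoImplicit false
open Cfsg

namespace Cfsg.Agent.S2062

open Cfsg.Agent.Lib
open scoped Pointwise

/-- The outer automorphism group of the Mathieu group M₂₂ (the permutations in the automorphism group of the length-24 binary code that fix each of two given points) has order 2. -/
theorem result : Nat.card (Cfsg.Out ↥Cfsg.Spor.M22) = 2 := by
  have hK : ∀ g, g ∈ Spor.M22 ↔ OutTrivial.M22Cert.data.spec.Holds g := by
    intro g
    simp only [OutTrivial.M22Cert.data, OutTrivial.Spec.Holds, List.not_mem_nil, IsEmpty.forall_iff, implies_true,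
      and_true, List.mem_cons, or_false, forall_eq_or_imp, forall_eq]
    have h0 : ∀ q : GolayPt, Golay.idx q = 23 ↔ q = none := by decide +kernel
    have h1 : ∀ q : GolayPt, Golay.idx q = 0 ↔ q = some 0 := by decide +kernel
    rw [h0, h1, show Golay.pt 23 = none from rfl, show Golay.pt 0 = some 0 from rfl]
    rw [Spor.M22, Spor.M23, Subgroup.mem_inf, Subgroup.mem_inf, MulAction.mem_stabilizer_iff,
      MulAction.mem_stabilizer_iff, and_assoc]
    rfl
  open OutTrivial.M22Cert in
  exact OutTrivial.card_out_two_of_cert hK ok (show data.p.Prime by decide +kernel) okExp okOuter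
    (by rw [Golay.card_spor_M22]; decide +kernel) gens_eq g_check (Golay.card_spor_M22.trans order_eq.symm)

end Cfsg.Agent.S2062
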