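import Cfsg.Statements.S1711
import Cfsg.Agent.Lib.M24Pres.Iso
import Cfsg.Agent.Lib.J4Rep.Main

set_option autoImplicit false
open Cfsg

namespace Cfsg.Agent.S1711

open Cfsg.Agent.Lib.M24Pres Cfsg.Spor

/-- A free group letter of x or y as one of the three letters. -/
def lt : J4.Gen × Bool → ℕ
  | (.x, _) => 0
  | (.y, true) => 1
  | (.y, false) => 2
  | (.t, _) => 3

/-- The index in the list of relators. -/
def src : List ℕ := [1, 2, 3, 4, 5, 6, 0]

theorem src_ok : ((List.range 7).all fun j =>
    decide (red iv3 (R7.getD j []) =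
        red iv3 ((FreeGroup.toWord (J4.extra.getD (src.getD j 0) 1)).map lt)) &&
      ((FreeGroup.toWord (J4.extra.getD (src.getD j 0) 1)).all fun p => Nat.blt (lt p) 3) &&
      Nat.blt (src.getD j 0) J4.extra.length) = true ∧ R7.length = 7 ∧
    (J4.x ^ 2) ∈ J4.extra := by
  refine ⟨by decide +kernel, by decide +kernel, by simp [J4.extra]⟩


/-- In the presented fourth Janko group (generators x, y, t), the subgroup generated by the images of x and y is isomorphic to the Mathieu group M₂₄. -/
theorem result : Nonempty ((((Subgroup.closure ({Cfsg.Spor.J4.x, Cfsg.Spor.J4.y} : Set (FreeGroup Cfsg.Spor.J4.Gen))).map (PresentedGroup.mk (Cfsg.Spor.coxRelators Cfsg.Spor.J4.edges ∪ {r | r ∈ Cfsg.Spor.J4.extra})))) ≃* Cfsg.M24) := by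
  set S : Set (FreeGroup J4.Gen) := coxRelators J4.edges ∪ {r | r ∈ J4.extra} with hS
  set X : PresentedGroup S := PresentedGroup.mk S J4.x with hX
  set Y : PresentedGroup S := PresentedGroup.mk S J4.y with hY
  obtain ⟨hsrc, hlen, hx2⟩ := src_ok
  have hone : ∀ r ∈ J4.extra, PresentedGroup.mk S r = 1 := fun r hr =>
    PresentedGroup.one_of_mem (Or.inr hr)
  have hXX : X * X = 1 := by
    rw [hX, ← map_mul, ← pow_two]
    exact hone _ hx2
  have hrel : ∀ r ∈ R7, wval X Y r = 1 := by
    intro r hr
    obtain ⟨j, hj, rfl⟩ := List.mem_iff_getElem.1 hr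
    have h := List.all_eq_true.1 hsrc j (List.mem_range.2 (hlen ▸ hj))
    simp only [Bool.and_eq_true, decide_eq_true_eq, List.all_eq_true, Nat.blt_eq] at h
    obtain ⟨⟨hred, hlt⟩, hmem⟩ := h
    set w := J4.extra.getD (src.getD j 0) 1 with hw
    have hwe : w ∈ J4.extra := by
      rw [hw, List.getD_eq_getElem _ _ hmem]; exact List.getElem_mem _
    rw [← List.getD_eq_getElem R7 [] hj, wval, ← prod_red iv3 _ (lval_iv3 hXX Y), hred,
      prod_red iv3 _ (lval_iv3 hXX Y), List.map_map, ← hone w hwe]
    conv_rhs => rw [← FreeGroup.mk_toWord (x := w)]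
    clear_value w
    clear hred hmem hw hwe
    revert hlt
    induction w.toWord with
    | nil => intro _; simp [← FreeGroup.one_eq_mk]
    | cons p l ih =>
      intro hlt
      rw [List.map_cons, List.prod_cons, ih (fun q hq => hlt q (List.mem_cons_of_mem _ hq)),
        show FreeGroup.mk (p :: l) = FreeGroup.mk [p] * FreeGroup.mk l by simp, map_mul]
      congr 1
      have hp := hlt p List.mem_cons_self
      obtain ⟨g, b⟩ := p
      cases g <;> cases b
      · show X = PresentedGroup.mk S (FreeGroup.mk [(J4.Gen.x, false)])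
        rw [show FreeGroup.mk [(J4.Gen.x, false)] = (J4.x)⁻¹ from rfl, map_inv, ← hX]
        exact mul_eq_one_iff_eq_inv.1 hXX
      · rfl
      · show Y⁻¹ = PresentedGroup.mk S (FreeGroup.mk [(J4.Gen.y, false)])
        rw [show FreeGroup.mk [(J4.Gen.y, false)] = (J4.y)⁻¹ from rfl, map_inv, ← hY]
      · rfl
      · exact absurd hp (by simp [lt])
      · exact absurd hp (by simp [lt])
  have hX1 : X ≠ 1 := by
    obtain ⟨f, hf⟩ := Cfsg.Agent.Lib.J4Rep.exists_rep
    intro h
    apply hf
    show f X = 1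
    rw [h, map_one]
  have hmap : (Subgroup.closure ({J4.x, J4.y} : Set (FreeGroup J4.Gen))).map (PresentedGroup.mk S) =
      Subgroup.closure ({X, Y} : Set (PresentedGroup S)) := by
    rw [MonoidHom.map_closure, Set.image_pair]
  obtain ⟨e⟩ := nonempty_equiv X Y hrel hX1
  exact ⟨(MulEquiv.subgroupCongr hmap).trans e⟩

end Cfsg.Agent.S1711
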