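import Cfsg.Statements.S1757

set_option autoImplicit false
open Cfsg
open scoped Pointwise

namespace Cfsg.Agent.S1757

/-- Let p be a prime and A, B p-subgroups of the finite group G, each of which meets every conjugate of itself other than itself trivially. Suppose the order of A is at most that of B, A and B intersect trivially, and B normalizes A. Then A and B commute elementwise. -/
theorem result {G : Type*} [Group G] [Finite G] (p : ℕ) [Fact p.Prime] (A B : Subgroup G)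
    (hA : IsPGroup p ↥A) (hB : IsPGroup p ↥B)
    (hAti : ∀ g : G, A.map (MulAut.conj g).toMonoidHom = A ∨ A.map (MulAut.conj g).toMonoidHom ⊓ A = ⊥)
    (hBti : ∀ g : G, B.map (MulAut.conj g).toMonoidHom = B ∨ B.map (MulAut.conj g).toMonoidHom ⊓ B = ⊥)
    (hle : Nat.card ↥A ≤ Nat.card ↥B) (hAB : A ⊓ B = ⊥) (hN : B ≤ Subgroup.normalizer (A : Set G)) : ⁅A, B⁆ = ⊥ := by
  refine Subgroup.commutator_eq_bot_iff_le_centralizer.mpr ?_
  intro a ha
  rw [Subgroup.mem_centralizer_iff]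
  by_cases hane : a = 1
  · subst hane; simp
  have hfix : B.map (MulAut.conj a).toMonoidHom = B := by
    rcases hBti a with h | h
    · exact h
    exfalso
    let f : ↥B × ↥B → ↥(A ⊔ B) := fun q => ⟨a * (q.1 : G) * a⁻¹ * (q.2 : G),
      mul_mem (mul_mem (mul_mem (Subgroup.mem_sup_left ha) (Subgroup.mem_sup_right q.1.2))
        ((A ⊔ B).inv_mem (Subgroup.mem_sup_left ha))) (Subgroup.mem_sup_right q.2.2)⟩
    have hf : Function.Injective f := by
      rintro ⟨b₁, c₁⟩ ⟨b₂, c₂⟩ hq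
      have hq' : a * (b₁ : G) * a⁻¹ * (c₁ : G) = a * (b₂ : G) * a⁻¹ * (c₂ : G) :=
        congrArg Subtype.val hq
      have e1 : a * ((b₂ : G)⁻¹ * b₁) * a⁻¹ = (c₂ : G) * (c₁ : G)⁻¹ := by
        have := congrArg (fun z => (a * (b₂ : G) * a⁻¹)⁻¹ * z * (c₁ : G)⁻¹) hq'
        convert this using 1 <;> group
      have hm : (c₂ : G) * (c₁ : G)⁻¹ ∈ B.map (MulAut.conj a).toMonoidHom ⊓ B :=
        ⟨⟨(b₂ : G)⁻¹ * b₁, mul_mem (B.inv_mem b₂.2) b₁.2, e1⟩, mul_mem c₂.2 (B.inv_mem c₁.2)⟩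
      rw [h, Subgroup.mem_bot, mul_inv_eq_one] at hm
      rw [hm] at hq'
      have hb : (b₁ : G) = b₂ := mul_left_cancel (mul_right_cancel (mul_right_cancel hq'))
      exact Prod.ext (Subtype.ext hb) (Subtype.ext hm.symm)
    let g : ↥A × ↥B → ↥(A ⊔ B) := fun q =>
      ⟨q.1 * q.2, mul_mem (Subgroup.mem_sup_left q.1.2) (Subgroup.mem_sup_right q.2.2)⟩
    have hg : Function.Surjective g := by
      rintro ⟨x, hx⟩
      have hx' : x ∈ (A : Set G) * (B : Set G) := by
        rw [← Subgroup.coe_mul_of_right_le_normalizer_left A B hN]; exact hx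
      obtain ⟨y, hy, z, hz, rfl⟩ := hx'
      exact ⟨(⟨y, hy⟩, ⟨z, hz⟩), rfl⟩
    have hbij : Function.Bijective f := by
      have h1 : Nat.card ↥(A ⊔ B) ≤ Nat.card (↥B × ↥B) := by
        refine (Nat.card_le_card_of_surjective g hg).trans ?_
        rw [Nat.card_prod, Nat.card_prod]
        exact Nat.mul_le_mul_right _ hle
      exact (Nat.bijective_iff_injective_and_card f).mpr
        ⟨hf, le_antisymm (Nat.card_le_card_of_injective f hf) h1⟩
    obtain ⟨⟨b, c⟩, hbc⟩ := hbij.2 ⟨a, Subgroup.mem_sup_left ha⟩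
    have hbc' : a * (b : G) * a⁻¹ * (c : G) = a := congrArg Subtype.val hbc
    have hcb : a = (c : G) * (b : G) := by
      have h1 : (b : G) * a⁻¹ * (c : G) = 1 := by
        apply mul_left_cancel (a := a)
        rw [mul_one, ← mul_assoc, ← mul_assoc]
        exact hbc'
      have h2 : a⁻¹ = (b : G)⁻¹ * (c : G)⁻¹ := by
        have := congrArg (fun z => (b : G)⁻¹ * z * (c : G)⁻¹) h1
        convert this using 1 <;> group
      rw [← inv_inv a, h2, mul_inv_rev, inv_inv, inv_inv]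
    have : a ∈ A ⊓ B := ⟨ha, hcb ▸ mul_mem c.2 b.2⟩
    rw [hAB, Subgroup.mem_bot] at this
    exact hane this
  intro b hb
  have h1 : a * b * a⁻¹ * b⁻¹ ∈ A := by
    have hn : b * a⁻¹ * b⁻¹ ∈ A := (Subgroup.mem_normalizer_iff.mp (hN hb) a⁻¹).mp (inv_mem ha)
    have := mul_mem ha hn
    simpa [mul_assoc] using this
  have h2 : a * b * a⁻¹ * b⁻¹ ∈ B := by
    refine mul_mem ?_ (inv_mem hb)
    rw [← hfix]
    exact ⟨b, hb, rfl⟩
  have h3 : a * b * a⁻¹ * b⁻¹ ∈ A ⊓ B := ⟨h1, h2⟩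
  rw [hAB, Subgroup.mem_bot, mul_inv_eq_one, mul_inv_eq_iff_eq_mul] at h3
  exact h3.symm

end Cfsg.Agent.S1757
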