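import Cfsg.Statements.S3430
import Cfsg.Agent.Lib.NumberTheory.Zsigmondy
-- import your own Cfsg.Agent.* helpers here

set_option autoImplicit false
open Cfsg

namespace Cfsg.Agent.S3430

/-- Let q, n ≥ 2 be integers. Unless (n = 2 and q + 1 = 2^s·3^t for some s ≥ 0 and t ≤ 1), or (q = 2 and n ∈ {4, 6, 10, 12, 18}), or (q = 3 and n ∈ {4, 6}), or (q, n) = (5, 6), there is a prime p dividing q^n − 1 but no q^i − 1 with 1 ≤ i < n (a primitive prime divisor), such that p > n + 1 or p² divides q^n − 1. -/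
theorem result (q n : ℕ) (hq : 2 ≤ q) (hn : 2 ≤ n)
    (h1 : ¬ (n = 2 ∧ ∃ s t : ℕ, t ≤ 1 ∧ q + 1 = 2 ^ s * 3 ^ t))
    (h2 : ¬ (q = 2 ∧ (n = 4 ∨ n = 6 ∨ n = 10 ∨ n = 12 ∨ n = 18)))
    (h3 : ¬ (q = 3 ∧ (n = 4 ∨ n = 6))) (h4 : ¬ (q = 5 ∧ n = 6)) :
    ∃ p : ℕ, p.Prime ∧ p ∣ q ^ n - 1 ∧ (∀ i : ℕ, 1 ≤ i → i < n → ¬ p ∣ q ^ i - 1) ∧ (n + 1 < p ∨ p ^ 2 ∣ q ^ n - 1) := by
  suffices ∃ r : ℕ, r.Prime ∧ orderOf (q : ZMod r) = n ∧ (n + 1 < r ∨ r ^ 2 ∣ q ^ n - 1) by
    obtain ⟨r, hr, hro, hbig⟩ := this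
    obtain ⟨a, b⟩ := (Cfsg.Agent.Lib.NumberTheory.orderOf_eq_iff_forall_not_dvd (by omega)
      (by omega)).1 hro
    exact ⟨r, hr, a, fun i hi => b i (by omega), hbig⟩
  rcases eq_or_lt_of_le hn with rfl | hn3
  · by_contra hnone
    push Not at hnone
    apply h1
    have hall : ∀ d : ℕ, d.Prime → d ∣ q + 1 → d = 2 ∨ d = 3 := fun d hd hdvd => by
      rcases eq_or_ne d 2 with h | h
      · exact Or.inl h
      · have := (hnone d hd (Cfsg.Agent.Lib.NumberTheory.orderOf_eq_two_of_dvd_add_one hd h hdvd)).1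
        have := hd.two_le
        omega
    obtain ⟨t, m, hm, hqm⟩ := Nat.exists_eq_pow_mul_and_not_dvd (show q + 1 ≠ 0 by omega) 3
      (by norm_num)
    have hm2 : m = 2 ^ m.primeFactorsList.length :=
      Nat.eq_prime_pow_of_unique_prime_dvd (by rintro rfl; simp at hqm) fun {d} hd hdm =>
        (hall d hd (hdm.trans ⟨3 ^ t, by rw [hqm]; ring⟩)).resolve_right fun h => hm (h ▸ hdm)
    refine ⟨rfl, m.primeFactorsList.length, t, ?_, by rw [← hm2, hqm]; ring⟩
    by_contra ht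
    have h9 : 3 ^ 2 ∣ q + 1 := hqm ▸ (pow_dvd_pow 3 (by omega : 2 ≤ t)).trans (dvd_mul_right _ m)
    have hord := Cfsg.Agent.Lib.NumberTheory.orderOf_eq_two_of_dvd_add_one Nat.prime_three
      (by norm_num) ((dvd_pow_self 3 two_ne_zero).trans h9)
    apply (hnone 3 Nat.prime_three hord).2
    exact h9.trans ⟨q - 1, by simpa using Nat.sq_sub_sq q 1⟩
  · have hM1 := Cfsg.Agent.Lib.NumberTheory.one_lt_primPart hn3 hq
      (fun h => h2 ⟨h.1, Or.inr (Or.inl h.2)⟩)
    by_contra hnone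
    push Not at hnone
    set M := Cfsg.Agent.Lib.NumberTheory.primPart n q with hMdef
    have hprime : ∀ d : ℕ, d.Prime → d ∣ M → d = n + 1 ∧ ¬ d ^ 2 ∣ q ^ n - 1 := fun d hd hdM => by
      have ho := Cfsg.Agent.Lib.NumberTheory.orderOf_eq_of_dvd_primPart hd hn3 hq hdM
      have hdvd := Cfsg.Agent.Lib.NumberTheory.orderOf_eq_dvd_sub_one hd (by omega) ho
      have hd2 := hd.two_le
      have := Nat.le_of_dvd (by omega) hdvd
      have := (hnone d hd ho).1
      exact ⟨by omega, (hnone d hd ho).2⟩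
    have hpow : M = (n + 1) ^ M.primeFactorsList.length :=
      Nat.eq_prime_pow_of_unique_prime_dvd (by omega) fun {d} hd hdM => (hprime d hd hdM).1
    obtain ⟨r, hr, hrM⟩ := Nat.exists_prime_and_dvd (n := M) (by omega)
    obtain ⟨hre, hrsq⟩ := hprime r hr hrM
    have hle : M ≤ n + 1 := by
      by_contra hgt
      apply hrsq
      have h2len : 2 ≤ M.primeFactorsList.length := by
        by_contra hc
        have := Nat.pow_le_pow_right (show 1 ≤ n + 1 by omega)
          (show M.primeFactorsList.length ≤ 1 by omega)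
        rw [pow_one] at this
        omega
      subst hre
      exact ((pow_dvd_pow _ h2len).trans hpow.symm.dvd).trans
        (Cfsg.Agent.Lib.NumberTheory.primPart_dvd_pow_sub_one (by omega) hq)
    by_cases hex : (q, n) ∈ Cfsg.Agent.Lib.NumberTheory.smallPairs
    · rcases Cfsg.Agent.Lib.NumberTheory.smallPairs_spec _ hex with h | ⟨w, hw, hwx⟩
      · simp only [Prod.mk.injEq] at h; exact h2 ⟨h.1, Or.inr (Or.inl h.2)⟩
      · simp only [Prod.mk.injEq] at hwx
        obtain ⟨a, _, c⟩ := Cfsg.Agent.Lib.NumberTheory.smallValues_spec w hw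
        have hwM := Nat.le_of_dvd (by omega) (Cfsg.Agent.Lib.NumberTheory.dvd_primPart hn3 hq
          (hwx.1 ▸ hwx.2 ▸ a) fun i hi hin => by
            have := c i (List.mem_range.2 (hwx.2 ▸ hin)) hi
            rwa [hwx.1] at this)
        rw [← hMdef] at hwM
        simp only [Cfsg.Agent.Lib.NumberTheory.smallValues, List.mem_cons, List.not_mem_nil,
          or_false] at hw
        rcases hw with rfl | rfl | rfl | rfl | rfl | rfl | rfl | rfl | rfl | rfl | rfl | rfl <;>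
          (dsimp only at hwx hwM; omega)
    · have := Cfsg.Agent.Lib.NumberTheory.three_mul_add_one_le_primPart hn3 hq hex
      rw [← hMdef] at this
      omega

end Cfsg.Agent.S3430
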