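import Cfsg.Statements.S0689
import Cfsg.Agent.Lib.FpfLinear.Regular
import Cfsg.Agent.Lib.Spectrum.SL25Presentation

set_option autoImplicit false
open Cfsg

namespace Cfsg.Agent.S0689

open Cfsg.Agent.Lib.FpfLinear

/-- The insoluble sharply doubly transitive groups: a non-solvable linear group over the prime field that is regular on the non-zero vectors of `V` occurs only for `|V| = 11², 29², 59²`, and is `SL(2,5) × C_m` with `m = 1, 7, 29` respectively. -/
theorem result {p : ℕ} [Fact p.Prime] {V : Type*} [AddCommGroup V] [Module (ZMod p) V] [Finite V] (H : Subgroup (V ≃ₗ[ZMod p] V)) (hreg : ∀ v w : V, v ≠ 0 → w ≠ 0 → ∃! h : H, (h : V ≃ₗ[ZMod p] V) v = w) (hsolv : ¬ Group.IsSolvable H) : (Nat.card V = 121 ∧ Nonempty (H ≃* Matrix.SpecialLinearGroup (Fin 2) (ZMod 5))) ∨ (Nat.card V = 841 ∧ Nonempty (H ≃* Matrix.SpecialLinearGroup (Fin 2) (ZMod 5) × Multiplicative (ZMod 7))) ∨ (Nat.card V = 3481 ∧ Nonempty (H ≃* Matrix.SpecialLinearGroup (Fin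 2) (ZMod 5) × Multiplicative (ZMod 29))) := by
  have hVnt : Nontrivial V := by
    by_contra h
    rw [not_nontrivial_iff_subsingleton] at h
    refine hsolv ?_
    have : Subsingleton H := ⟨fun a b => Subtype.ext (LinearEquiv.ext fun v => Subsingleton.elim _ _)⟩
    infer_instance
  have : Finite H := Finite.of_injective (fun h : H => ((h : V ≃ₗ[ZMod p] V) : V → V))
    fun a b e => Subtype.ext (LinearEquiv.ext (congrFun e))
  let r : H →* Module.End (ZMod p) V :=
  { toFun := fun h => ((h : V ≃ₗ[ZMod p] V) : V →ₗ[ZMod p] V)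
    map_one' := rfl
    map_mul' := fun _ _ => rfl }
  have hr : Basic.IsLinFPF r := by
    intro g hg v hv
    by_contra hv0
    exact hg ((hreg v v hv0 hv0).unique hv rfl)
  let ψ : H →* MulAut (Multiplicative V) :=
  { toFun := fun h => AddEquiv.toMultiplicative (h : V ≃ₗ[ZMod p] V).toAddEquiv
    map_one' := MulEquiv.ext fun _ => rfl
    map_mul' := fun _ _ => MulEquiv.ext fun _ => rfl }
  obtain ⟨n, hn, R, hR⟩ := Linearize.of_abelian ψ (fun g hg v hv => hr g hg (Multiplicative.toAdd v) hv)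
  have : Nonempty (Fin n) := ⟨⟨0, hn⟩⟩
  obtain ⟨f, hf, -, -, M, -, hcomm, h30, hsyl, hinf, -, -, hidx⟩ :=
    NonSolvable.decomposition hR hsolv
  -- the product
  let φ : Hom.SL × M →* H :=
  { toFun := fun gm => f gm.1 * gm.2
    map_one' := by simp
    map_mul' := fun a b => by
      simp only [Prod.fst_mul, Prod.snd_mul, map_mul, Subgroup.coe_mul]
      rw [mul_assoc, mul_assoc, ← mul_assoc (f b.1) (a.2 : H),
        hcomm (f b.1) ⟨b.1, rfl⟩ a.2 a.2.2, mul_assoc] }
  have hφ : Function.Injective φ := by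
    rw [injective_iff_map_eq_one]
    rintro ⟨g, m⟩ h
    have h' : f g = (m : H)⁻¹ := eq_inv_of_mul_eq_one_left h
    have hmem : f g ∈ f.range ⊓ M :=
      Subgroup.mem_inf.mpr ⟨⟨g, rfl⟩, h' ▸ M.inv_mem m.2⟩
    rw [hinf, Subgroup.mem_bot] at hmem
    have hg : g = 1 := hf (hmem.trans (map_one f).symm)
    have hm : m = 1 := Subtype.ext (by
      rw [hmem, eq_comm, inv_eq_one] at h'
      exact h')
    rw [hg, hm]; rfl
  have hrange : φ.range = f.range ⊔ M := by
    refine le_antisymm ?_ (sup_le ?_ ?_)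
    · rintro x ⟨⟨g, m⟩, rfl⟩
      exact Subgroup.mul_mem_sup ⟨g, rfl⟩ m.2
    · rintro x ⟨g, rfl⟩
      exact ⟨(g, 1), by show f g * ((1 : M) : H) = f g; rw [OneMemClass.coe_one, mul_one]⟩
    · intro x hx
      exact ⟨(1, ⟨x, hx⟩), by show f 1 * x = x; rw [map_one, one_mul]⟩
  have hsup : Nat.card (f.range ⊔ M : Subgroup H) = 120 * Nat.card M := by
    rw [← hrange, ← Nat.card_congr (MonoidHom.ofInjective hφ).toEquiv, Nat.card_prod]
    show Nat.card (Matrix.SpecialLinearGroup (Fin 2) (ZMod 5)) * _ = _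
    rw [Cfsg.Agent.Lib.Spectrum.TinyEnum.card_sl25]
  have hH : Nat.card H = Nat.card V - 1 := by
    classical
    obtain ⟨v₀, hv₀⟩ := exists_ne (0 : V)
    have e : H ≃ {w : V // w ≠ 0} := Equiv.ofBijective
      (fun h => ⟨(h : V ≃ₗ[ZMod p] V) v₀, fun e => hv₀ ((h : V ≃ₗ[ZMod p] V).map_eq_zero_iff.mp e)⟩)
      ⟨fun a b e => (hreg v₀ _ hv₀ (fun h0 => hv₀ ((b : V ≃ₗ[ZMod p] V).map_eq_zero_iff.mp h0))).unique
          (congrArg Subtype.val e) rfl,
        fun w => (hreg v₀ w.1 hv₀ w.2).exists.imp fun h e => Subtype.ext e⟩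
    have := Fintype.ofFinite V
    rw [Nat.card_congr e, Nat.card_eq_fintype_card, Fintype.card_subtype_compl,
      Fintype.card_subtype_eq, Nat.card_eq_fintype_card]
  have hi : ∀ i, (f.range ⊔ M).index = i → Nat.card H = 120 * i * Nat.card M := fun i hi => by
    rw [← (f.range ⊔ M).card_mul_index, hsup, hi]; ring
  have heven : 2 ∣ Nat.card H := by
    rcases hidx with h | h <;> rw [hi _ h] <;>
      exact Dvd.dvd.mul_right (Dvd.dvd.mul_right (by norm_num) _) _
  have hp2 : p ≠ 2 := by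
    rintro rfl
    have hpow := Module.natCard_eq_pow_finrank (K := ZMod 2) (V := V)
    rw [Nat.card_zmod] at hpow
    have hpos : 0 < Module.finrank (ZMod 2) V := Module.finrank_pos
    have h2 : 2 ∣ Nat.card V := hpow ▸ dvd_pow_self 2 hpos.ne'
    have hV0 : 0 < Nat.card V := Nat.card_pos
    rw [hH] at heven
    have h1 := Nat.dvd_sub h2 heven
    rw [Nat.sub_sub_self hV0] at h1
    norm_num at h1
  obtain ⟨Q, k, hQ, hV, hMQ⟩ := Regular.exists_half hr f hf hp2 M hcomm
  have he : Q * Q - 1 = 120 * (f.range ⊔ M).index * Nat.card M := by rw [← hV, ← hH, hi _ rfl]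
  obtain ⟨hi1, hcases⟩ := Regular.arith Fact.out hQ hidx h30 hMQ he
  have htop : f.range ⊔ M = ⊤ := Subgroup.index_eq_one.mp hi1
  have eH : H ≃* Hom.SL × M := (MulEquiv.ofBijective φ
    ⟨hφ, MonoidHom.range_eq_top.mp (hrange.trans htop)⟩).symm
  rcases hcases with ⟨hQv, hm⟩ | ⟨hQv, hm⟩ | ⟨hQv, hm⟩
  · refine Or.inl ⟨by rw [hV, hQv], ⟨eH.trans ?_⟩⟩
    have : Unique M := @uniqueOfSubsingleton _ (Nat.card_eq_one_iff_unique.mp hm).1 1
    exact MulEquiv.prodUnique
  · have := Fact.mk (show Nat.Prime 7 by norm_num)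
    exact Or.inr (Or.inl ⟨by rw [hV, hQv], ⟨eH.trans (MulEquiv.prodCongr (MulEquiv.refl _)
      (mulEquivOfPrimeCardEq hm (by simp)))⟩⟩)
  · have := Fact.mk (show Nat.Prime 29 by norm_num)
    exact Or.inr (Or.inr ⟨by rw [hV, hQv], ⟨eH.trans (MulEquiv.prodCongr (MulEquiv.refl _)
      (mulEquivOfPrimeCardEq hm (by simp)))⟩⟩)

end Cfsg.Agent.S0689
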