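import Cfsg.Statements.S0735
import Mathlib

set_option autoImplicit false
open Cfsg
open scoped Pointwise

namespace Cfsg.Agent.S0735

/-- A 2-homogeneous permutation group (transitive on 2-subsets) of even order is doubly transitive; a non-trivial 2-homogeneous group is primitive. -/
theorem result {α : Type*} [Fintype α] [DecidableEq α] (G : Subgroup (Equiv.Perm α)) (h2 : MulAction.IsPretransitive G (Set.powersetCard α 2)) (hα : 3 ≤ Fintype.card α) : (Even (Nat.card G) → MulAction.IsMultiplyPretransitive G α 2) ∧ (G ≠ ⊥ → MulAction.IsPreprimitive G α) := by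
  classical
  have hset : ∀ a b c d : α, a ≠ b → c ≠ d →
      ∃ g : G, (g • a = c ∧ g • b = d) ∨ (g • a = d ∧ g • b = c) := by
    intro a b c d hab hcd
    obtain ⟨g, hg⟩ := MulAction.exists_smul_eq G
      (⟨{a, b}, by simp [hab]⟩ : Set.powersetCard α 2) ⟨{c, d}, by simp [hcd]⟩
    refine ⟨g, ?_⟩
    have hg' : g • ({a, b} : Finset α) = {c, d} := congrArg Subtype.val hg
    simp only [Finset.smul_finset_insert, Finset.smul_finset_singleton] at hg'
    have h1 : g • a ∈ ({c, d} : Finset α) := by rw [← hg']; simp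
    have h2 : g • b ∈ ({c, d} : Finset α) := by rw [← hg']; simp
    have h3 : g • a ≠ g • b := fun h => hab (MulAction.injective g h)
    simp only [Finset.mem_insert, Finset.mem_singleton] at h1 h2
    rcases h1 with h1 | h1 <;> rcases h2 with h2 | h2
    · exact absurd (h1.trans h2.symm) h3
    · exact Or.inl ⟨h1, h2⟩
    · exact Or.inr ⟨h1, h2⟩
    · exact absurd (h1.trans h2.symm) h3
  have htr : MulAction.IsPretransitive G α := by
    refine ⟨fun a b => ?_⟩
    rcases eq_or_ne a b with h | h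
    · exact ⟨1, by simp [h]⟩
    obtain ⟨c, -, hc⟩ := Finset.exists_mem_notMem_of_card_lt_card
      (show ({a, b} : Finset α).card < (Finset.univ : Finset α).card by
        rw [Finset.card_univ]; exact lt_of_le_of_lt Finset.card_le_two hα)
    simp only [Finset.mem_insert, Finset.mem_singleton, not_or] at hc
    obtain ⟨g, ⟨h1, h2⟩ | ⟨h1, h2⟩⟩ := hset a c a b (Ne.symm hc.1) h
    · -- `c` is sent to `b`
      obtain ⟨f, ⟨h3, h4⟩ | ⟨h3, h4⟩⟩ := hset c b a b hc.2 h
      · exact ⟨g * f⁻¹, by rw [mul_smul, ← h3, inv_smul_smul, h2]⟩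
      · exact ⟨f * g⁻¹ * f⁻¹, by
          rw [mul_smul, mul_smul, inv_smul_eq_iff.2 h4.symm, inv_smul_eq_iff.2 h2.symm, h3]⟩
    · exact ⟨g, h1⟩
  refine ⟨fun heven => ?_, fun _ => ?_⟩
  · rw [MulAction.is_two_pretransitive_iff]
    haveI : Fact (Nat.Prime 2) := ⟨Nat.prime_two⟩
    obtain ⟨t, ht⟩ := exists_prime_orderOf_dvd_card' (G := G) 2 (even_iff_two_dvd.1 heven)
    obtain ⟨p, hp⟩ : ∃ p : α, t • p ≠ p := by
      by_contra h
      push Not at h
      have : t = 1 := Subtype.ext (Equiv.ext h)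
      simp [this] at ht
    have htt : t • t • p = p := by
      rw [← mul_smul, ← sq, ← ht, pow_orderOf_eq_one, one_smul]
    intro a b c d hab hcd
    obtain ⟨g, h⟩ := hset p (t • p) a b (Ne.symm hp) hab
    obtain ⟨f, h'⟩ := hset p (t • p) c d (Ne.symm hp) hcd
    rcases h with ⟨h1, h2⟩ | ⟨h1, h2⟩ <;> rcases h' with ⟨h3, h4⟩ | ⟨h3, h4⟩
    · exact ⟨f * g⁻¹, by simp [mul_smul, ← h1, h3], by simp [mul_smul, ← h2, h4]⟩
    · exact ⟨f * t * g⁻¹, by simp [mul_smul, ← h1, h4], by simp [mul_smul, ← h2, htt, h3]⟩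
    · exact ⟨f * t * g⁻¹, by simp [mul_smul, ← h2, htt, h3], by simp [mul_smul, ← h1, h4]⟩
    · exact ⟨f * g⁻¹, by simp [mul_smul, ← h2, h4], by simp [mul_smul, ← h1, h3]⟩
  · refine { isTrivialBlock_of_isBlock := fun {B} hB => ?_ }
    by_contra hnt
    simp only [MulAction.IsTrivialBlock, not_or, Set.not_subsingleton_iff] at hnt
    obtain ⟨⟨a, ha, b, hb, hab⟩, hB2⟩ := hnt
    obtain ⟨c, hc⟩ := (Set.ne_univ_iff_exists_notMem B).1 hB2
    have hac : a ≠ c := fun h => hc (h ▸ ha)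
    obtain ⟨g, h⟩ := hset a b a c hab hac
    rcases h with ⟨h1, h2⟩ | ⟨h1, h2⟩
    · have e : g • B = B := MulAction.isBlock_iff_smul_eq_of_nonempty.1 hB
        ⟨a, ⟨a, ha, h1⟩, ha⟩
      exact hc (e ▸ ⟨b, hb, h2⟩)
    · have e : g • B = B := MulAction.isBlock_iff_smul_eq_of_nonempty.1 hB
        ⟨a, ⟨b, hb, h2⟩, ha⟩
      exact hc (e ▸ ⟨a, ha, h1⟩)

end Cfsg.Agent.S0735
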