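import Cfsg.Statements.S3074
import Cfsg.Agent.Lib.LAEven54.QdOver
import Cfsg.Agent.Lib.PGroups.Frattini
import Mathlib.GroupTheory.PGroup

set_option autoImplicit false
open Cfsg

namespace Cfsg.Agent.S3074

open Subgroup Cfsg.Agent.Lib.LAEven54.QdOver
open scoped commutatorElement

/-- A nonabelian group of order `p ^ 3` and exponent `p` is extraspecial. -/
theorem isExtraspecial_of_card {P : Type*} [Group P] [Finite P] {p : ℕ} [hp : Fact p.Prime]
    (hcard : Nat.card P = p ^ 3) (hpow : ∀ g : P, g ^ p = 1) {a b : P} (hab : a * b ≠ b * a) :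
    Cfsg.IsExtraspecial p P ∧ Monoid.exponent P = p := by
  have hP : IsPGroup p P := IsPGroup.of_card hcard
  haveI : Nontrivial P := ⟨⟨a * b, b * a, hab⟩⟩
  haveI := hP.center_nontrivial
  have hd := card_eq_card_quotient_mul_card_subgroup (center P)
  obtain ⟨i, hi3, hi⟩ := (Nat.dvd_prime_pow hp.out).1 (hcard ▸ card_subgroup_dvd_card (center P))
  have hi0 : i ≠ 0 := fun h0 => by
    have h1 := Finite.one_lt_card (α := center P)
    rw [hi, h0, pow_zero] at h1
    omega
  have hq : Nat.card (P ⧸ center P) = p ^ (3 - i) := by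
    rw [hcard, hi] at hd
    refine (Nat.eq_of_mul_eq_mul_right (pow_pos hp.out.pos i) ?_).symm
    rw [← hd, ← pow_add, Nat.sub_add_cancel hi3]
  have hi1 : i = 1 := by
    by_contra hne
    have hcyc : IsCyclic (P ⧸ center P) := by
      rcases (show i = 2 ∨ i = 3 by omega) with h | h <;> subst h
      · exact isCyclic_of_prime_card (hq.trans (pow_one p))
      · haveI : Subsingleton (P ⧸ center P) := (Nat.card_eq_one_iff_unique.1 (hq.trans (pow_zero p))).1
        infer_instance
    haveI := hcyc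
    haveI := isMulCommutative_of_isCyclic_quotient_center_self P
    exact hab (IsMulCommutative.is_comm.comm a b)
  subst hi1
  rw [pow_one] at hi
  haveI : IsMulCommutative (P ⧸ center P) := IsPGroup.isMulCommutative_of_card_eq_prime_sq hq
  have hle : commutator P ≤ center P := by
    rw [_root_.commutator_def, commutator_le]
    intro u _ v _
    rw [← QuotientGroup.eq_one_iff]
    show QuotientGroup.mk' (center P) ⁅u, v⁆ = 1
    rw [map_commutatorElement, commutatorElement_eq_one_iff_mul_comm]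
    exact IsMulCommutative.is_comm.comm _ _
  have hcomm : commutator P = center P := by
    refine eq_of_le_of_card_ge hle ?_
    rw [hi]
    obtain ⟨j, -, hj⟩ := (Nat.dvd_prime_pow hp.out).1 (hcard ▸ card_subgroup_dvd_card (commutator P))
    rcases Nat.eq_zero_or_pos j with h0 | h0
    · exfalso
      rw [h0, pow_zero] at hj
      have h1 : ⁅a, b⁆ ∈ commutator P := commutator_mem_commutator (mem_top a) (mem_top b)
      rw [Subgroup.card_eq_one.1 hj, mem_bot, commutatorElement_eq_one_iff_mul_comm] at h1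
      exact hab h1
    · rw [hj]
      exact Nat.le_self_pow (by omega) p
  refine ⟨⟨⟨hP, le_antisymm (Cfsg.Agent.Lib.PGroups.frattini_le_of_pow_commutator _
    (fun g => by rw [hpow g]; exact one_mem _) hle)
    (hcomm.ge.trans (Cfsg.Agent.Lib.PGroups.commutator_le_frattini hP)), hcomm⟩, hi⟩, ?_⟩
  rcases (Nat.dvd_prime hp.out).1 (Monoid.exponent_dvd_of_forall_pow_eq_one hpow) with h1 | h1
  · exact absurd ((Monoid.exp_eq_one_iff.1 h1).elim (a * b) (b * a)) hab
  · exact h1

theorem uM_mul' {F : Type*} [Field F] (x y : F) : uM x * uM y = uM (x + y) := by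
  apply sl2_ext <;>
    simp [coe_uM, Matrix.SpecialLinearGroup.coe_mul, Matrix.mul_apply, Fin.sum_univ_two, add_comm]

theorem uni_pow {F : Type*} [Field F] (x : F) (v : Fin 2 → F) (n : ℕ) :
    mk (uM x) v ^ n = mk (uM ((n : F) * x)) ![(n : F) * v 0 + (n.choose 2 : F) * x * v 1, (n : F) * v 1] := by
  induction n with
  | zero =>
    rw [pow_zero, one_eq]
    congr 1
    · apply sl2_ext <;> simp [coe_uM]
    · ext i; fin_cases i <;> simp
  | succ n ih =>
    rw [pow_succ', ih, mk_mul, uM_mul']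
    congr 1
    · congr 1; push_cast; ring
    · have hc : (((n + 1).choose 2 : ℕ) : F) = (n.choose 2 : F) + n := by
        rw [show (n + 1).choose 2 = n.choose 2 + n by rw [Nat.choose_succ_succ' n 1, Nat.choose_one_right, add_comm]]
        push_cast; rfl
      ext i; fin_cases i <;>
        simp [coe_uM, Matrix.mulVec, dotProduct, Fin.sum_univ_two, hc] <;> ring

/-- Let p be an odd prime. A Sylow p-subgroup of Qd(p), the split extension of an elementary abelian group of order p² by SL₂(p) acting naturally, is extraspecial of order p³ and exponent p. -/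
theorem result (p : ℕ) [Fact p.Prime] (hp : p ≠ 2) (P : Sylow p ↥(Cfsg.qd p)) :
    Cfsg.IsExtraspecial p ↥P ∧ Nat.card P = p ^ 3 ∧ Monoid.exponent ↥P = p := by
  classical
  have hp' : p.Prime := Fact.out
  revert P
  show ∀ P : Sylow p ↥(Cfsg.qdOver (ZMod p)),
    Cfsg.IsExtraspecial p ↥P ∧ Nat.card P = p ^ 3 ∧ Monoid.exponent ↥P = p
  intro P
  obtain ⟨g, hg⟩ := MulAction.exists_smul_eq ↥(Cfsg.qdOver (ZMod p)) (unitriSylow (F := ZMod p) p) P
  let e₀ : ↥(unitriSylow (F := ZMod p) p : Subgroup ↥(Cfsg.qdOver (ZMod p))) ≃* ↥(g • unitriSylow (F := ZMod p) p : Sylow p ↥(Cfsg.qdOver (ZMod p))) :=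
    Sylow.equivSMul (unitriSylow (F := ZMod p) p) g
  subst hg
  have hcard : Nat.card ↥(g • unitriSylow (F := ZMod p) p : Sylow p ↥(Cfsg.qdOver (ZMod p))) = p ^ 3 := by
    rw [← Nat.card_congr e₀.toEquiv]
    rw [← Nat.card_congr (Equiv.ofBijective
      (fun w : ZMod p × (Fin 2 → ZMod p) => (⟨mk (uM w.1) w.2, mem_unitri_iff.2 ⟨_, _, rfl⟩⟩ :
        ↥(unitri (ZMod p)))) ⟨fun w w' h => ?_, fun M => ?_⟩ :
        ZMod p × (Fin 2 → ZMod p) ≃ ↥(unitriSylow (F := ZMod p) p : Subgroup ↥(Cfsg.qdOver (ZMod p))))]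
    · rw [Nat.card_prod, Nat.card_fun, Nat.card_zmod, Nat.card_fin]; ring
    · have h1 := mk_inj (congrArg Subtype.val h)
      exact Prod.ext (by simpa [coe_uM] using congrArg (fun A => A.1 0 1) h1.1) h1.2
    · obtain ⟨x, v, hxv⟩ := mem_unitri_iff.1 M.2
      exact ⟨(x, v), Subtype.ext hxv.symm⟩
  have hpow : ∀ w : ↥(g • unitriSylow (F := ZMod p) p : Sylow p ↥(Cfsg.qdOver (ZMod p))), w ^ p = 1 := by
    intro w
    apply e₀.symm.injective
    rw [map_pow, map_one]
    obtain ⟨x, v, hxv⟩ := mem_unitri_iff.1 (e₀.symm w).2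
    refine Subtype.ext ?_
    rw [Subgroup.coe_pow, hxv, Subgroup.coe_one]
    obtain ⟨c, hc⟩ := hp'.dvd_choose_self two_ne_zero (lt_of_le_of_ne hp'.two_le hp.symm)
    rw [uni_pow, hc, Nat.cast_mul, ZMod.natCast_self]
    show _ = (1 : ↥(Cfsg.qdOver (ZMod p)))
    rw [one_eq]
    congr 1
    · apply sl2_ext <;> simp [coe_uM]
    · ext i; fin_cases i <;> simp
  have hab : e₀ ⟨mk (uM 1) 0, mem_unitri_iff.2 ⟨_, _, rfl⟩⟩ * e₀ ⟨mk (uM 0) ![0, 1], mem_unitri_iff.2 ⟨_, _, rfl⟩⟩
      ≠ e₀ ⟨mk (uM 0) ![0, 1], mem_unitri_iff.2 ⟨_, _, rfl⟩⟩ * e₀ ⟨mk (uM 1) 0, mem_unitri_iff.2 ⟨_, _, rfl⟩⟩ := by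
    rw [← map_mul, ← map_mul, ne_eq, e₀.injective.eq_iff]
    intro h
    have h1 := congrArg Subtype.val h
    rw [Subgroup.coe_mul, Subgroup.coe_mul] at h1
    have h2 := (mk_inj (((mk_mul (F := ZMod p) _ _ _ _).symm.trans h1).trans (mk_mul (F := ZMod p) _ _ _ _))).2
    simpa [coe_uM, Matrix.mulVec, dotProduct, Fin.sum_univ_two] using congrFun h2 0
  exact ⟨(isExtraspecial_of_card hcard hpow hab).1, hcard, (isExtraspecial_of_card hcard hpow hab).2⟩

end Cfsg.Agent.S3074
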