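import Cfsg.Statements.S3836
import Cfsg.Agent.Lib.Cores.Basic

set_option autoImplicit false
set_option linter.style.haveILetI false
open Cfsg

namespace Cfsg.Agent.S3836

open scoped commutatorElement


/-- Let G be a finite group that is p-stable in the normalizer form: for every p-subgroup Q and every x ∈ N_G(Q) with [Q, x, x] = 1, the image of x in N_G(Q)/C_G(Q) lies in O_p(N_G(Q)/C_G(Q)). Then every subgroup of G is p-stable in the same sense. -/
theorem result {G : Type*} [Group G] [Finite G] {p : ℕ} [Fact p.Prime] (hst : Cfsg.IsNormalizerPStable p G) (H : Subgroup G) : Cfsg.IsNormalizerPStable p ↥H := by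
  intro P hP g hg hcomm
  let P' : Subgroup G := P.map H.subtype
  have hP' : IsPGroup p P' := hP.map H.subtype
  have hg' : (g : G) ∈ Subgroup.normalizer (P' : Set G) :=
    Subgroup.le_normalizer_map H.subtype ⟨g, hg, rfl⟩
  have hcomm' : ⁅⁅P', Subgroup.zpowers (g : G)⁆, Subgroup.zpowers (g : G)⁆ = ⊥ := by
    have h1 : Subgroup.zpowers (g : G) = (Subgroup.zpowers g).map H.subtype := by
      rw [MonoidHom.map_zpowers]; rfl
    rw [h1, ← Subgroup.map_commutator, ← Subgroup.map_commutator, hcomm, Subgroup.map_bot]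
  have key := hst P' hP' (g : G) hg' hcomm'
  let NH := Subgroup.normalizer (P : Set H)
  let NG := Subgroup.normalizer (P' : Set G)
  let CH := (Subgroup.centralizer (P : Set H)).subgroupOf NH
  let CG := (Subgroup.centralizer (P' : Set G)).subgroupOf NG
  let f : NH →* NG := (H.subtype.comp NH.subtype).codRestrict NG
    (fun x => Subgroup.le_normalizer_map H.subtype ⟨x.1, x.2, rfl⟩)
  have hf : CG.comap f = CH := by
    ext x
    show ((x : H) : G) ∈ Subgroup.centralizer (P' : Set G) ↔ (x : H) ∈ Subgroup.centralizer (P : Set H)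
    rw [Subgroup.mem_centralizer_iff, Subgroup.mem_centralizer_iff]
    constructor
    · intro h y hy
      exact Subtype.ext (h y ⟨y, hy, rfl⟩)
    · rintro h _ ⟨y, hy, rfl⟩
      exact congrArg Subtype.val (h y hy)
  let q : NH ⧸ CH →* NG ⧸ CG := QuotientGroup.map CH CG f hf.ge
  have hq : Function.Injective q := by
    rw [← MonoidHom.ker_eq_bot_iff, QuotientGroup.ker_map, hf]
    ext x
    constructor
    · rintro ⟨y, hy, rfl⟩
      exact Subgroup.mem_bot.2 ((QuotientGroup.eq_one_iff y).2 hy)
    · intro hx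
      rw [Subgroup.mem_bot.1 hx]
      exact one_mem _
  have hle : (Cfsg.pCore p (NG ⧸ CG)).comap q ≤ Cfsg.pCore p (NH ⧸ CH) :=
    Lib.Cores.le_pCore ((Lib.Cores.pCore_isPGroup (G := NG ⧸ CG) p).comap_of_injective q hq)
  exact hle key

end Cfsg.Agent.S3836
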