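import Cfsg.Statements.S1579
import Cfsg.Agent.Lib.SporStruct.LeechPairs

set_option autoImplicit false
open Cfsg

namespace Cfsg.Agent.S1579

open Cfsg.Agent.Lib Cfsg.Agent.Lib.SporStruct in
/-- The stabiliser of a vector of customary norm 6 is transitive on the 552 minimal vectors that complete it to a sum of two minimal vectors. -/
theorem result (u v v' : ↥Cfsg.leechLattice) (hu : Cfsg.sqNorm (u : Cfsg.GolayPt → ℤ) = 48) (hv : Cfsg.sqNorm (v : Cfsg.GolayPt → ℤ) = 32 ∧ Cfsg.sqNorm ((u - v) : Cfsg.GolayPt → ℤ) = 32) (hv' : Cfsg.sqNorm (v' : Cfsg.GolayPt → ℤ) = 32 ∧ Cfsg.sqNorm ((u - v') : Cfsg.GolayPt → ℤ) = 32) : ∃ g : ↥Cfsg.Co0, g • u = u ∧ g • v = v' := by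
  obtain ⟨hv1, hv2⟩ := hv
  obtain ⟨hw1, hw2⟩ := hv'
  have e1 := Leech.sqNorm_sub (u : GolayPt → ℤ) (v : GolayPt → ℤ)
  have e2 := Leech.sqNorm_sub (u : GolayPt → ℤ) (v' : GolayPt → ℤ)
  have d1 : dotInt (v : GolayPt → ℤ) ((u - v : ↥leechLattice) : GolayPt → ℤ) = -8 := by
    rw [AddSubgroup.coe_sub, LeechPairs.dot_sub_right, LeechPairs.dot_self, LeechPairs.dot_comm]
    omega
  have d2 : dotInt (v' : GolayPt → ℤ) ((u - v' : ↥leechLattice) : GolayPt → ℤ) = -8 := by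
    rw [AddSubgroup.coe_sub, LeechPairs.dot_sub_right, LeechPairs.dot_self, LeechPairs.dot_comm]
    omega
  obtain ⟨g, g1, g2⟩ := LeechPairs.pair_transitive (v := v) (w := u - v) (v' := v') (w' := u - v')
    hv1 (by simpa [AddSubgroup.coe_sub] using hv2) hw1 (by simpa [AddSubgroup.coe_sub] using hw2)
    (d1.trans d2.symm) (Or.inr d2)
  refine ⟨g, ?_, g1⟩
  rw [Leech.smul_sub', g1] at g2
  simpa using g2

end Cfsg.Agent.S1579
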