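import Cfsg.Statements.S1163
import Cfsg.Agent.Lib.LieTwisted.SuzukiSylow

set_option autoImplicit false
open Cfsg

namespace Cfsg.Agent.S1163

open Cfsg.Agent Cfsg.Agent.Lib.LieTwisted.Suzuki
open scoped Matrix

/-- For the Suzuki group Sz(q), q = 2^(2m+1) ≥ 8, realised as the elements g of Sp₄(F) with g* = g^θ (θ the 2^(m+1)-th power map, so that θ² is squaring): `|Sz(q)| = q² (q - 1) (q² + 1)`, and there is a Sylow 2-subgroup `S` whose normaliser `H` has order `q²(q-1)` and index `q² + 1`, the action of `Sz(q)` on the cosets of `H` is doubly transitive, and `S` acts regularly on the cosets other than `H` itself. -/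
theorem result {F : Type*} [Field F] [Fintype F] {m : ℕ} (hm : 1 ≤ m) (hF : Fintype.card F = 2 ^ (2 * m + 1)) :
    Nat.card ↥(Cfsg.Lie.Sz F (2 ^ (m + 1))) = (2 ^ (2 * m + 1)) ^ 2 * (2 ^ (2 * m + 1) - 1) * ((2 ^ (2 * m + 1)) ^ 2 + 1) ∧
    ∃ S : Sylow 2 ↥(Cfsg.Lie.Sz F (2 ^ (m + 1))),
      Nat.card (Subgroup.normalizer ((S : Subgroup ↥(Cfsg.Lie.Sz F (2 ^ (m + 1)))) : Set ↥(Cfsg.Lie.Sz F (2 ^ (m + 1))))) = (2 ^ (2 * m + 1)) ^ 2 * (2 ^ (2 * m + 1) - 1) ∧
      (Subgroup.normalizer ((S : Subgroup ↥(Cfsg.Lie.Sz F (2 ^ (m + 1)))) : Set ↥(Cfsg.Lie.Sz F (2 ^ (m + 1))))).index = (2 ^ (2 * m + 1)) ^ 2 + 1 ∧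
      MulAction.IsMultiplyPretransitive ↥(Cfsg.Lie.Sz F (2 ^ (m + 1))) (↥(Cfsg.Lie.Sz F (2 ^ (m + 1))) ⧸ Subgroup.normalizer ((S : Subgroup ↥(Cfsg.Lie.Sz F (2 ^ (m + 1)))) : Set ↥(Cfsg.Lie.Sz F (2 ^ (m + 1))))) 2 ∧
      ∀ x y : ↥(Cfsg.Lie.Sz F (2 ^ (m + 1))) ⧸ Subgroup.normalizer ((S : Subgroup ↥(Cfsg.Lie.Sz F (2 ^ (m + 1)))) : Set ↥(Cfsg.Lie.Sz F (2 ^ (m + 1)))),
        x ≠ (QuotientGroup.mk 1) → y ≠ (QuotientGroup.mk 1) → ∃! s : ↥(S : Subgroup ↥(Cfsg.Lie.Sz F (2 ^ (m + 1)))), (s : ↥(Cfsg.Lie.Sz F (2 ^ (m + 1)))) • x = y := by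
  have h : Lib.LieTwisted.Suzuki.IsSzField F m := ⟨hF⟩
  haveI : Fact (Nat.Prime 2) := ⟨Nat.prime_two⟩
  haveI : Finite (Cfsg.Lie.Sz F (2 ^ (m + 1))) := Finite.of_equiv _ (szEquiv h hm).toEquiv
  set e := szEquiv h hm with he
  refine ⟨by rw [← Nat.card_congr e.toEquiv, h.card_group hm, hF]; ring, ?_⟩
  obtain ⟨S₀, hS₀⟩ := h.exists_sylow hm
  have hcard : Nat.card ((unip h).map e.toMonoidHom) = Nat.card (unip h) :=
    (Nat.card_congr ((unip h).equivMapOfInjective e.toMonoidHom e.injective).toEquiv).symm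
  have hp : IsPGroup 2 ((unip h).map e.toMonoidHom) :=
    IsPGroup.of_card (n := (2 * m + 1) * 2) (by rw [hcard, h.card_unip, hF, pow_mul])
  have hidx : ¬ 2 ∣ ((unip h).map e.toMonoidHom).index := by
    rw [Subgroup.index_map_of_bijective (f := e.toMonoidHom) e.bijective]
    exact h.index_odd hm
  refine ⟨hp.toSylow hidx, ?_⟩
  have hN : Subgroup.normalizer (((unip h).map e.toMonoidHom : Subgroup _) : Set (Cfsg.Lie.Sz F (2 ^ (m + 1)))) =
      (Subgroup.normalizer (unip h : Set (Cfsg.Sz F m))).map e.toMonoidHom :=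
    (Subgroup.map_equiv_normalizer_eq _ e).symm
  have hcoe : ((hp.toSylow hidx : Sylow 2 (Cfsg.Lie.Sz F (2 ^ (m + 1)))) : Subgroup (Cfsg.Lie.Sz F (2 ^ (m + 1)))) =
      (unip h).map e.toMonoidHom := rfl
  rw [hcoe, hN]
  have hmem : ∀ z, z ∈ (Subgroup.normalizer (unip h : Set (Cfsg.Sz F m))).map e.toMonoidHom ↔
      e.symm z ∈ Subgroup.normalizer (unip h : Set (Cfsg.Sz F m)) := by
    intro z
    constructor
    · rintro ⟨w, hw, rfl⟩; simpa using hw
    · intro hz; exact ⟨_, hz, by simp⟩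
  have hreg : ∀ x y : Cfsg.Lie.Sz F (2 ^ (m + 1)) ⧸ (Subgroup.normalizer (unip h : Set (Cfsg.Sz F m))).map e.toMonoidHom,
      x ≠ QuotientGroup.mk 1 → y ≠ QuotientGroup.mk 1 →
      ∃! s : ((unip h).map e.toMonoidHom : Subgroup _), (s : Cfsg.Lie.Sz F (2 ^ (m + 1))) • x = y := by
    intro x y
    induction x using QuotientGroup.induction_on with | _ a => ?_
    induction y using QuotientGroup.induction_on with | _ b => ?_
    simp only [MulAction.Quotient.smul_mk, smul_eq_mul, ne_eq, QuotientGroup.eq, hmem, mul_one, inv_mem_iff,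
      map_inv, map_mul, _root_.mul_inv_rev]
    intro ha hb
    obtain ⟨s, hs, huniq⟩ := h.unique_unip hm ha hb
    refine ⟨⟨e (s : Cfsg.Sz F m), s, s.2, rfl⟩, by simpa [_root_.mul_inv_rev, mul_assoc] using hs, ?_⟩
    rintro ⟨_, w, hw, rfl⟩ hw'
    have hsw := huniq ⟨w, hw⟩ (by simpa [_root_.mul_inv_rev, mul_assoc] using hw')
    exact Subtype.ext (congrArg (fun u : unip h => e (u : Cfsg.Sz F m)) hsw)
  refine ⟨?_, ?_, ?_, hreg⟩
  · rw [← Nat.card_congr ((Subgroup.normalizer (unip h : Set (Cfsg.Sz F m))).equivMapOfInjective e.toMonoidHom e.injective).toEquiv,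
      h.normalizer_unip hm, h.card_stabilizer hm, hF]
  · rw [Subgroup.index_map_of_bijective (f := e.toMonoidHom) e.bijective, h.index_normalizer hm, hF]
  · set N := (Subgroup.normalizer (unip h : Set (Cfsg.Sz F m))).map e.toMonoidHom
    have hr : ∃ r : Cfsg.Lie.Sz F (2 ^ (m + 1)) ⧸ N, r ≠ QuotientGroup.mk 1 := by
      refine ⟨QuotientGroup.mk (e (wS h)), fun hw => ?_⟩
      rw [QuotientGroup.eq, mul_one, inv_mem_iff, hmem, e.symm_apply_apply, h.normalizer_unip hm,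
        ← opt_none (m := m), MulAction.mem_stabilizer_iff, h.wS_smul_none] at hw
      exact absurd (opt_injective hw) (by simp)
    obtain ⟨r, hr⟩ := hr
    have hfix : ∀ s ∈ (unip h).map e.toMonoidHom, s • (QuotientGroup.mk 1 : _ ⧸ N) = QuotientGroup.mk 1 := by
      intro s hs
      rw [MulAction.Quotient.smul_mk, smul_eq_mul, mul_one, QuotientGroup.eq, mul_one, inv_mem_iff]
      exact Subgroup.map_mono Subgroup.le_normalizer hs
    have key : ∀ a b : Cfsg.Lie.Sz F (2 ^ (m + 1)) ⧸ N, a ≠ b →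
        ∃ g : Cfsg.Lie.Sz F (2 ^ (m + 1)), g • (QuotientGroup.mk 1 : _ ⧸ N) = a ∧ g • r = b := by
      intro a b hab
      induction a using QuotientGroup.induction_on with | _ a => ?_
      have hne : a⁻¹ • b ≠ QuotientGroup.mk 1 := fun hh => hab (by
        rw [← smul_inv_smul a b, hh, MulAction.Quotient.smul_mk, smul_eq_mul, mul_one])
      obtain ⟨s, hs, -⟩ := hreg r _ hr hne
      refine ⟨a * s, ?_, ?_⟩
      · rw [mul_smul, hfix _ s.2, MulAction.Quotient.smul_mk, smul_eq_mul, mul_one]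
      · rw [mul_smul, hs, smul_inv_smul]
    rw [MulAction.is_two_pretransitive_iff]
    intro a b c d hab hcd
    obtain ⟨g1, h1, h2⟩ := key a b hab
    obtain ⟨g2, h3, h4⟩ := key c d hcd
    refine ⟨g2 * g1⁻¹, ?_, ?_⟩
    · rw [mul_smul, ← h1, inv_smul_smul, h3]
    · rw [mul_smul, ← h2, inv_smul_smul, h4]

end Cfsg.Agent.S1163
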