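import Cfsg.Statements.S0556
import Cfsg.Agent.Lib.Cores.InvariantSylow
import Cfsg.Agent.Lib.Coprime.Conjugacy
import Cfsg.Agent.Lib.Induced.FrobeniusKernel
import Cfsg.Agent.Lib.Frobenius.Basic

set_option autoImplicit false
set_option linter.style.haveILetI false
open Cfsg

namespace Cfsg.Agent.S0556

open scoped Pointwise

theorem commutator_bot {G : Type*} [Group G] {H : Subgroup G} [IsMulCommutative H] : ⁅H, H⁆ = ⊥ :=
  Subgroup.commutator_eq_bot_iff_le_centralizer.2 fun a ha => Subgroup.mem_centralizer_iff.2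
    fun b hb => congrArg Subtype.val (mul_comm' (⟨b, hb⟩ : H) ⟨a, ha⟩)

theorem aux {G : Type*} [Group G] [Finite G] (A : Subgroup G) (hA : IsCoatom A)
    [IsMulCommutative A] (hc : A.normalCore = ⊥) : derivedSeries G 2 = ⊥ := by
  have hone : derivedSeries G 2 = ⁅derivedSeries G 1, derivedSeries G 1⁆ := derivedSeries_succ G 1
  by_cases hbot : A = ⊥
  · subst hbot
    obtain ⟨x, hx⟩ : ∃ x : G, x ≠ 1 := by
      by_contra h
      push Not at h
      exact hA.1 ((Subgroup.eq_top_iff' _).2 fun x => (h x).symm ▸ one_mem _)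
    have hz : Subgroup.zpowers x = ⊤ :=
      (hA.le_iff.1 bot_le).resolve_right fun h => hx (Subgroup.zpowers_eq_bot.1 h)
    haveI : IsMulCommutative (⊤ : Subgroup G) := hz ▸ inferInstance
    rw [hone, ← le_bot_iff, ← commutator_bot (H := (⊤ : Subgroup G))]
    exact Subgroup.commutator_mono le_top le_top
  have hnorm : ∀ g ∉ A, ¬ MulAut.conj g • A ≤ A := by
    intro g hg hle
    have he : MulAut.conj g • A = A :=
      Subgroup.eq_of_le_of_card_ge hle (by rw [Lib.Coprime.card_conj_smul])
    rcases hA.le_iff.1 (Subgroup.le_normalizer (H := A)) with h | h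
    · haveI := Subgroup.normalizer_eq_top_iff.1 h
      exact hbot (by rw [← hc, Subgroup.normalCore_eq_self])
    · exact hg (h ▸ Lib.Coprime.mem_normalizer_of_conj_smul_eq he)
  have hF : Cfsg.IsFrobeniusComplement A := by
    refine ⟨hbot, hA.1, fun g hg => ?_⟩
    have hsup : A ⊔ MulAut.conj g • A = ⊤ := hA.2 _ (left_lt_sup.2 (hnorm g hg))
    have hn : (A ⊓ MulAut.conj g • A).Normal := by
      rw [← Subgroup.normalizer_eq_top_iff, ← top_le_iff, ← hsup]
      refine sup_le (Subgroup.le_normalizer_iff.2 fun a ha k hk => ?_)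
        (Subgroup.le_normalizer_iff.2 fun a ha k hk => ?_)
      · have h1 : a * k = k * a := congrArg Subtype.val (mul_comm' (⟨a, ha⟩ : A) ⟨k, hk.1⟩)
        rwa [h1, mul_inv_cancel_right]
      · have ha' := Lib.Coprime.mem_conj_smul.1 ha
        have hk' := Lib.Coprime.mem_conj_smul.1 hk.2
        have h1 : g⁻¹ * a * g * (g⁻¹ * k * g) = g⁻¹ * k * g * (g⁻¹ * a * g) :=
          congrArg Subtype.val (mul_comm' (⟨_, ha'⟩ : A) ⟨_, hk'⟩)
        simp only [mul_assoc, mul_inv_cancel_left, mul_left_cancel_iff] at h1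
        rw [← mul_assoc, ← mul_assoc, mul_left_inj] at h1
        rwa [h1, mul_inv_cancel_right]
    haveI := hn
    rw [← le_bot_iff, ← hc]
    exact Subgroup.normal_le_normalCore.2 inf_le_left
  obtain ⟨N, hNn, -, hcomp⟩ := Lib.Induced.FrobeniusKernel.exists_frobeniusKernel_subgroup hF
  haveI := hNn
  have hcop : (Nat.card A).Coprime (Nat.card N) := by
    rw [← hcomp.index_eq_card]
    exact Lib.Frobenius.coprime_card_index hF
  have hNne : N ≠ ⊥ := fun h => hA.1 (by simpa [h] using hcomp.sup_eq_top)
  obtain ⟨q, hq, hqN⟩ := Nat.exists_prime_and_dvd (mt Subgroup.card_eq_one.1 hNne)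
  haveI := Fact.mk hq
  have hAN : A ≤ Subgroup.normalizer (N : Set G) := by
    rw [Subgroup.normalizer_eq_top]; exact le_top
  haveI : Group.IsSolvable A := Group.isSolvable_of_comm fun a b => mul_comm' a b
  obtain ⟨Q, hQN, hQp, hQidx, hAQ⟩ :=
    Lib.Cores.InvariantSylow.exists_invariant hAN hcop (Or.inl inferInstance) q
  have full : ∀ X : Subgroup G, X ≤ N → X ≠ ⊥ → A ≤ Subgroup.normalizer (X : Set G) → X = N := by
    intro X hXN hXne hAX
    have hd : Disjoint A X := (hcomp.disjoint.symm).mono_right hXN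
    have hsup : A ⊔ X = ⊤ := hA.2 _ (left_lt_sup.2 fun h =>
      hXne (disjoint_self.1 (hd.mono_left h)))
    refine Subgroup.eq_of_le_of_card_ge hXN ?_
    have h1 := Lib.Coprime.card_sup_of_disjoint hAX hd
    rw [hsup, Subgroup.card_top, ← hcomp.card_mul, Nat.mul_comm] at h1
    exact (Nat.eq_of_mul_eq_mul_left Nat.card_pos h1).le
  have hQ : Q = N := full Q hQN (fun h => hQidx (by rwa [h, Subgroup.relIndex_bot_left])) hAQ
  subst hQ
  haveI : Nontrivial Q := (Subgroup.nontrivial_iff_ne_bot Q).2 hNne
  have hZn : ((Subgroup.center Q).map Q.subtype).Normal := ConjAct.normal_of_characteristic_of_normal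
  have hZne : (Subgroup.center Q).map Q.subtype ≠ ⊥ := fun h => by
    have h1 := IsPGroup.center_nontrivial hQp
    rw [Subgroup.nontrivial_iff_ne_bot] at h1
    exact h1 ((Subgroup.map_eq_bot_iff_of_injective _ Q.subtype_injective).1 h)
  have hZ : (Subgroup.center Q).map Q.subtype = Q := full _ (Subgroup.map_subtype_le _) hZne
    (by rw [Subgroup.normalizer_eq_top_iff.2 hZn]; exact le_top)
  haveI : IsMulCommutative Q := ⟨⟨fun a b => by
    obtain ⟨z, hz, hza⟩ := hZ.ge a.2
    obtain rfl : z = a := Subtype.ext hza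
    exact (Subgroup.mem_center_iff.1 hz b).symm⟩⟩
  have hle : derivedSeries G 1 ≤ Q := by
    rw [derivedSeries_one]
    exact Subgroup.Normal.commutator_le_of_self_sup_commutative_eq_top hcomp.sup_eq_top inferInstance
  rw [hone, ← le_bot_iff, ← commutator_bot (H := Q)]
  exact Subgroup.commutator_mono hle hle


/-- If a finite group has a maximal subgroup that is abelian, then the third term of its derived series is trivial (so the group is solvable of derived length at most three). -/
theorem result {G : Type*} [Group G] [Finite G] (A : Subgroup G) (hA : IsCoatom A) [IsMulCommutative A] : derivedSeries G 3 = ⊥ := by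
  let C := A.normalCore
  have hCA : C ≤ A := A.normalCore_le
  let f := QuotientGroup.mk' C
  have hf : Function.Surjective f := QuotientGroup.mk'_surjective C
  have hker : (A.map f).comap f = A := by
    rw [Subgroup.comap_map_eq, QuotientGroup.ker_mk', sup_eq_left]
    exact hCA
  have hco : IsCoatom (A.map f) := by
    refine ⟨fun h => hA.1 ?_, fun B hB => ?_⟩
    · rw [← hker, h, Subgroup.comap_top]
    · have h1 := hA.2 (B.comap f) (lt_of_eq_of_lt hker.symm ((Subgroup.comap_lt_comap_of_surjective hf).2 hB))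
      rw [← Subgroup.map_comap_eq_self_of_surjective hf B, h1,
        Subgroup.map_top_of_surjective f hf]
  have hcore : (A.map f).normalCore = ⊥ := by
    rw [← le_bot_iff, ← Subgroup.map_comap_eq_self_of_surjective hf (A.map f).normalCore,
      Subgroup.map_le_iff_le_comap]
    have h1 : (A.map f).normalCore.comap f ≤ C := Subgroup.normal_le_normalCore.2
      ((Subgroup.comap_mono (A.map f).normalCore_le).trans hker.le)
    refine h1.trans fun c hc => ?_
    rw [Subgroup.mem_comap, Subgroup.mem_bot]
    exact (QuotientGroup.eq_one_iff c).2 hc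
  haveI : IsMulCommutative (A.map f) := inferInstance
  have h2 := aux (A.map f) hco hcore
  have h3 : derivedSeries G 2 ≤ C := by
    rw [← map_derivedSeries_eq hf 2, Subgroup.map_eq_bot_iff, QuotientGroup.ker_mk'] at h2
    exact h2
  rw [derivedSeries_succ, ← le_bot_iff, ← commutator_bot (H := A)]
  exact Subgroup.commutator_mono (h3.trans hCA) (h3.trans hCA)

end Cfsg.Agent.S0556
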