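import Cfsg.Statements.S2421
import Cfsg.Agent.Lib.GLFlags.Unipotent
import Cfsg.Agent.Lib.GLFlags.NormOne

set_option autoImplicit false
open scoped MatrixGroups
open Cfsg

namespace Cfsg.Agent.S2421

/-- Irreducible characters of `GL_n(q)` indexed by partitions: for `ν` a partition of `n` written with `n` non-decreasing parts `ν_0 ≤ ⋯ ≤ ν_{n−1}` (zeros allowed; positions counted from 0) and `λ_i = ν_i + i`, the alternating sum over permutations `κ` of `{0, …, n−1}` of `sign κ` times the permutation character on partial flags of type `λ − κ` (terms with a negative entry omitted) is an irreducible complex character of `GL_n(q)`. For `ν = (1, …, 1)` this is the Steinberg character. -/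
theorem result {F : Type*} [Field F] [Fintype F] {n : ℕ} (ν : Fin n → ℕ) (hmono : Monotone ν) (hsum : ∑ i, ν i = n) :
    Cfsg.IsIrrCharacter (GL (Fin n) F) (Cfsg.unipotentCharacterGL n F ν) := by
  classical
  letI : Fintype (GL (Fin n) F) := Fintype.ofFinite _
  have hnorm : Cfsg.classInner (Cfsg.unipotentCharacterGL n F ν) (Cfsg.unipotentCharacterGL n F ν) = 1 := by
    rw [Cfsg.Agent.Lib.GLFlags.unipotent_inner ν ν hmono hsum hmono hsum, if_pos rfl]
  let s : Finset (Equiv.Perm (Fin n)) :=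
    Finset.univ.filter fun κ : Equiv.Perm (Fin n) => ∀ i, (κ i).val ≤ ν i + i.val
  have hχ : Cfsg.unipotentCharacterGL n F ν = ∑ κ ∈ s, ((Equiv.Perm.sign κ : ℤ) : ℂ) •
      Cfsg.fixedPointCharacter (Cfsg.parabolicGL n F fun i => ν i + i.val - (κ i).val) := by
    funext g
    rw [Finset.sum_apply, Finset.sum_filter]
    rfl
  have hdeg := Cfsg.Agent.Lib.GLFlags.unipotent_degree (F := F) ν hsum
  have hq : 0 < Fintype.card F := Fintype.card_pos
  have hmi := Cfsg.Agent.Lib.GLFlags.qInt_strictMono hq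
  rw [hχ] at hnorm ⊢
  refine Cfsg.Agent.Lib.GLFlags.isIrrCharacter_of_norm_one s _ _
    (fun κ _ => Cfsg.Agent.Lib.GLFlags.isCharacter_fixedPointCharacter _) hnorm
    (Fintype.card F ^ (n * (n - 1) * (n - 2) / 6) *
      ∏ i : Fin n, Cfsg.Agent.Lib.GLFlags.qFact (Fintype.card F) (ν i + i.val))
    (Cfsg.Agent.Lib.GLFlags.qFact (Fintype.card F) n *
      ∏ i : Fin n, ∏ j ∈ Finset.Ioi i, (Cfsg.Agent.Lib.GLFlags.qInt (Fintype.card F) (ν j + j.val) -
        Cfsg.Agent.Lib.GLFlags.qInt (Fintype.card F) (ν i + i.val))) ?_ ?_ ?_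
  · exact Nat.mul_pos (pow_pos hq _)
      (Finset.prod_pos fun i _ => Cfsg.Agent.Lib.GLFlags.qFact_pos hq _)
  · refine Nat.mul_pos (Cfsg.Agent.Lib.GLFlags.qFact_pos hq _)
      (Finset.prod_pos fun i _ => Finset.prod_pos fun j hj => Nat.sub_pos_of_lt (hmi ?_))
    exact Nat.add_lt_add_of_le_of_lt (hmono (Finset.mem_Ioi.mp hj).le)
      (Fin.lt_def.mp (Finset.mem_Ioi.mp hj))
  · rw [hχ] at hdeg
    push_cast
    rw [← mul_assoc, hdeg]
    congr 1
    refine Finset.prod_congr rfl fun i _ => Finset.prod_congr rfl fun j hj => ?_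
    have hij : i < j := Finset.mem_Ioi.mp hj
    rw [Nat.cast_sub (hmi (Nat.add_lt_add_of_le_of_lt (hmono hij.le) (Fin.lt_def.mp hij))).le]

end Cfsg.Agent.S2421
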