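import Cfsg.Statements.S1550
import Cfsg.Agent.Lib.SporStruct.OctadSystem

set_option autoImplicit false
open scoped Pointwise
open Cfsg

namespace Cfsg.Agent.S1550

open Cfsg.Agent.Lib.SporStruct.Masks Cfsg.Agent.Lib.SporStruct.OctadSystem
open Cfsg.Agent.Lib.Golay.Steiner

theorem unique_sextet {t : Finset GolayPt} (ht : t.card = 4) :
    ∃! S : Finset (Finset GolayPt), S ∈ Cfsg.sextets ∧ t ∈ S := by
  classical
  have h5 : (through octads t).card = 5 := by
    have h := card_through t (by omega)
    rw [ht] at h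
    have e1 : Nat.choose (8 - 4) (5 - 4) = 4 := by decide
    have e2 : Nat.choose (24 - 4) (5 - 4) = 20 := by decide
    rw [e1, e2] at h
    omega
  have hmem : ∀ o, o ∈ through octads t ↔ o ∈ octads ∧ t ⊆ o := fun o => by simp [through]
  have hc : ∀ o ∈ through octads t, (o \ t).card = 4 := by
    intro o ho
    rw [hmem] at ho
    rw [Finset.card_sdiff_of_subset ho.2, ho.1.2, ht]
  have hinter : ∀ o ∈ through octads t, ∀ o' ∈ through octads t, o ≠ o' → o ∩ o' = t := by
    intro o ho o' ho' hne
    rw [hmem] at ho ho'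
    refine (Finset.eq_of_subset_of_card_le (Finset.subset_inter ho.2 ho'.2) ?_).symm
    by_contra hcon
    exact hne (eq_of_five ho.1 ho'.1 (by omega))
  have himg : ((through octads t).image (· \ t)).card = 5 := by
    rw [Finset.card_image_of_injOn, h5]
    intro o ho o' ho' h
    have a := ((hmem o).1 ho).2
    have b := ((hmem o').1 ho').2
    rw [← Finset.union_sdiff_of_subset a, ← Finset.union_sdiff_of_subset b]
    exact congrArg (t ∪ ·) h
  have hnot : t ∉ (through octads t).image (· \ t) := by
    intro h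
    obtain ⟨o, ho, he⟩ := Finset.mem_image.1 h
    have hd : Disjoint t (o \ t) := Finset.disjoint_sdiff
    rw [he, disjoint_self, Finset.bot_eq_empty] at hd
    rw [hd] at ht
    simp at ht
  refine ⟨insert t ((through octads t).image (· \ t)), ⟨⟨?_, ?_, ?_⟩, Finset.mem_insert_self t _⟩, ?_⟩
  · rw [Finset.card_insert_of_notMem hnot, himg]
  · intro u hu
    rcases Finset.mem_insert.1 hu with rfl | hu
    · exact ht
    · obtain ⟨o, ho, rfl⟩ := Finset.mem_image.1 hu
      exact hc o ho
  · have key : ∀ o ∈ through octads t, t ∪ (o \ t) ∈ octads := by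
      intro o ho
      rw [Finset.union_sdiff_of_subset ((hmem o).1 ho).2]
      exact ((hmem o).1 ho).1
    intro a ha b hb hab
    rcases Finset.mem_insert.1 ha with ha | ha <;> rcases Finset.mem_insert.1 hb with hb | hb
    · exact absurd (ha.trans hb.symm) hab
    · obtain ⟨o, ho, rfl⟩ := Finset.mem_image.1 hb
      rw [ha]; exact key o ho
    · obtain ⟨o, ho, rfl⟩ := Finset.mem_image.1 ha
      rw [hb, Finset.union_comm]; exact key o ho
    · obtain ⟨o, ho, rfl⟩ := Finset.mem_image.1 ha
      obtain ⟨o', ho', rfl⟩ := Finset.mem_image.1 hb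
      have hne : o ≠ o' := fun h => hab (by rw [h])
      have hi := hinter o ho o' ho' hne
      have e : symmDiff o o' = (o \ t) ∪ (o' \ t) := by
        rw [← hi, Finset.sdiff_inter_self_left, Finset.sdiff_inter_self_right]; rfl
      refine ⟨?_, ?_⟩
      · rw [← e]
        exact symmDiff_mem_supports ((hmem o).1 ho).1.1 ((hmem o').1 ho').1.1
      · have hs := card_symmDiff_add o o'
        rw [hi, ht, ((hmem o).1 ho).1.2, ((hmem o').1 ho').1.2, e] at hs
        omega
  · rintro S ⟨⟨hS6, hS4, hSU⟩, htS⟩
    have hsub : S.erase t ⊆ (through octads t).image (· \ t) := by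
      intro u hu
      rw [Finset.mem_erase] at hu
      have hou := hSU t htS u hu.2 (fun h => hu.1 h.symm)
      refine Finset.mem_image.2 ⟨t ∪ u, (hmem _).2 ⟨hou, Finset.subset_union_left⟩, ?_⟩
      have hd : Disjoint t u := by
        rw [← Finset.card_union_eq_card_add_card, ht, hS4 u hu.2, hou.2]
      rw [Finset.union_sdiff_left]
      exact Finset.sdiff_eq_self_of_disjoint hd.symm
    rw [← Finset.insert_erase htS,
      Finset.eq_of_subset_of_card_le hsub (by rw [himg, Finset.card_erase_of_mem htS, hS6])]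

/-- Every 4-element set of the 24 points is a tetrad of exactly one sextet, and the sextets number 1771. -/
theorem result : (∀ t : Finset Cfsg.GolayPt, t.card = 4 → ∃! S : Finset (Finset Cfsg.GolayPt), S ∈ Cfsg.sextets ∧ t ∈ S) ∧ Cfsg.sextets.ncard = 1771 := by
  classical
  refine ⟨fun t ht => unique_sextet ht, ?_⟩
  obtain ⟨SS, hSS⟩ : ∃ SS : Finset (Finset (Finset GolayPt)), (SS : Set (Finset (Finset GolayPt))) = Cfsg.sextets :=
    ⟨(Set.toFinite Cfsg.sextets).toFinset, Set.Finite.coe_toFinset _⟩
  have hmem : ∀ S, S ∈ SS ↔ S ∈ Cfsg.sextets := fun S => by rw [← Finset.mem_coe, hSS]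
  rw [← hSS, Set.ncard_coe_finset]
  have h1 : (SS.biUnion id).card = SS.card * 6 := by
    rw [Finset.card_biUnion, Finset.sum_congr rfl (g := fun _ => 6), Finset.sum_const, smul_eq_mul]
    · exact fun S hS => ((hmem S).1 hS).1
    · intro S hS S' hS' hne
      rw [Function.onFun, Finset.disjoint_left]
      intro t ht ht'
      exact hne ((unique_sextet (((hmem S).1 hS).2.1 t ht)).unique ⟨(hmem S).1 hS, ht⟩ ⟨(hmem S').1 hS', ht'⟩)
  have h2 : SS.biUnion id = (Finset.univ : Finset GolayPt).powersetCard 4 := by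
    ext t
    simp only [Finset.mem_biUnion, id, Finset.mem_powersetCard, Finset.subset_univ, true_and]
    constructor
    · rintro ⟨S, hS, ht⟩; exact ((hmem S).1 hS).2.1 t ht
    · intro ht
      obtain ⟨S, ⟨hS, htS⟩, -⟩ := unique_sextet ht
      exact ⟨S, (hmem S).2 hS, htS⟩
  rw [h2, Finset.card_powersetCard, Finset.card_univ, Cfsg.Agent.Lib.Golay.card_golayPt] at h1
  have h3 : Nat.choose 24 4 = 10626 := by decide
  omega

end Cfsg.Agent.S1550
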