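import Cfsg.Statements.S1557
import Cfsg.Agent.Lib.SporStruct.OctadSystem

set_option autoImplicit false
open scoped Pointwise
open Cfsg

namespace Cfsg.Agent.S1557

open Cfsg.Agent.Lib.SporStruct.Masks Cfsg.Agent.Lib.SporStruct.OctadSystem

theorem third_octad {o o' : Finset GolayPt} (ho : o ∈ octads) (ho' : o' ∈ octads)
    (hd : Disjoint o o') : (o ∪ o')ᶜ ∈ octads := by
  refine ⟨?_, ?_⟩
  · have e : symmDiff o o' = o ∪ o' := hd.symmDiff_eq_sup
    rw [← e]
    exact compl_mem_supports (symmDiff_mem_supports ho.1 ho'.1)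
  · rw [Finset.card_compl, Finset.card_union_of_disjoint hd, ho.2, ho'.2,
      Cfsg.Agent.Lib.Golay.card_golayPt]

theorem disjoint_count {o : Finset GolayPt} (ho : o ∈ octads) :
    (octadFinset.filter fun o' => Disjoint o o').card = 30 := by
  have h := exact_count ho (Finset.empty_subset o)
  rw [← Set.ncard_coe_finset]
  refine Eq.trans ?_ h
  congr 1
  ext c
  simp [Finset.disjoint_iff_inter_eq_empty]

/-- The complement of the union of two disjoint octads is an octad, and the code has exactly 3795 trios of pairwise disjoint octads. -/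
theorem result : (∀ o o' : Finset Cfsg.GolayPt, o ∈ Cfsg.octads → o' ∈ Cfsg.octads → Disjoint o o' → (o ∪ o')ᶜ ∈ Cfsg.octads) ∧ Cfsg.trios.ncard = 3795 := by
  classical
  refine ⟨fun o o' ho ho' hd => third_octad ho ho' hd, ?_⟩
  obtain ⟨TS, hTS⟩ : ∃ TS : Finset (Finset (Finset GolayPt)), (TS : Set (Finset (Finset GolayPt))) = Cfsg.trios :=
    ⟨(Set.toFinite Cfsg.trios).toFinset, Set.Finite.coe_toFinset _⟩
  have hmem : ∀ T, T ∈ TS ↔ T ∈ Cfsg.trios := fun T => by rw [← Finset.mem_coe, hTS]
  rw [← hTS, Set.ncard_coe_finset]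
  have hpairs : (octadFinset.sigma fun o => octadFinset.filter fun o' => Disjoint o o').card = 759 * 30 := by
    rw [Finset.card_sigma, Finset.sum_congr rfl (g := fun _ => 30)
      (fun o ho => disjoint_count (mem_octadFinset.1 ho)), Finset.sum_const, smul_eq_mul,
      ← Set.ncard_coe_finset, coe_octadFinset, Cfsg.Agent.Lib.Golay.ncard_octads]
  -- each trio gives six ordered pairs, and every pair lies in exactly one trio
  have hthird : ∀ T ∈ Cfsg.trios, ∀ o ∈ T, ∀ o' ∈ T, o ≠ o' → T = {o, o', (o ∪ o')ᶜ} := by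
    intro T hT o ho o' ho' hne
    have hd := hT.2.2 o ho o' ho' hne
    have h8 := hT.2.1
    obtain ⟨c, hc⟩ : ∃ c, c ∈ (T.erase o).erase o' := by
      rw [← Finset.Nonempty, ← Finset.card_pos, Finset.card_erase_of_mem
        (Finset.mem_erase.2 ⟨fun h => hne h.symm, ho'⟩), Finset.card_erase_of_mem ho, hT.1]
      norm_num
    simp only [Finset.mem_erase] at hc
    have hcc : c = (o ∪ o')ᶜ := by
      refine Finset.eq_of_subset_of_card_le (fun x hx => ?_) ?_
      · rw [Finset.mem_compl, Finset.mem_union]
        rintro (h | h)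
        · exact Finset.disjoint_left.1 (hT.2.2 c hc.2.2 o ho hc.2.1) hx h
        · exact Finset.disjoint_left.1 (hT.2.2 c hc.2.2 o' ho' hc.1) hx h
      · rw [(third_octad (h8 o ho) (h8 o' ho') hd).2, (h8 c hc.2.2).2]
    subst hcc
    refine (Finset.eq_of_subset_of_card_le ?_ ?_).symm
    · simp only [Finset.insert_subset_iff, Finset.singleton_subset_iff]; exact ⟨ho, ho', hc.2.2⟩
    · rw [hT.1]
      refine le_of_eq (Eq.symm (Finset.card_eq_three.2 ⟨o, o', (o ∪ o')ᶜ, hne, ?_, ?_, rfl⟩))
      · exact fun h => hc.2.1 h.symm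
      · exact fun h => hc.1 h.symm
  have hsix : (TS.biUnion fun T => T.offDiag).card = TS.card * 6 := by
    rw [Finset.card_biUnion, Finset.sum_congr rfl (g := fun _ => 6), Finset.sum_const, smul_eq_mul]
    · intro T hT
      rw [Finset.offDiag_card, ((hmem T).1 hT).1]
    · intro T hT T' hT' hne
      rw [Function.onFun, Finset.disjoint_left]
      intro p hp hp'
      rw [Finset.mem_offDiag] at hp hp'
      exact hne ((hthird T ((hmem T).1 hT) _ hp.1 _ hp.2.1 hp.2.2).trans
        (hthird T' ((hmem T').1 hT') _ hp'.1 _ hp'.2.1 hp'.2.2).symm)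
  have hbij : (TS.biUnion fun T => T.offDiag).card =
      (octadFinset.sigma fun o => octadFinset.filter fun o' => Disjoint o o').card := by
    refine Finset.card_nbij' (fun p => ⟨p.1, p.2⟩) (fun p => (p.1, p.2)) ?_ ?_ ?_ ?_
    · intro p hp
      simp only [Finset.coe_biUnion, Set.mem_iUnion, Finset.mem_coe, Finset.mem_offDiag] at hp
      obtain ⟨T, hT, h1, h2, h3⟩ := hp
      simp [((hmem T).1 hT).2.1 _ h1, ((hmem T).1 hT).2.1 _ h2,
        ((hmem T).1 hT).2.2 _ h1 _ h2 h3]
    · rintro ⟨o, o'⟩ hp
      simp only [Finset.mem_coe, Finset.mem_sigma, mem_octadFinset, Finset.mem_filter] at hp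
      obtain ⟨ho, ho', hd⟩ := hp
      have h3 := third_octad ho ho' hd
      have hne : ∀ {a b : Finset GolayPt}, a ∈ octads → Disjoint a b → a ≠ b := by
        intro a b ha hab e
        subst e
        rw [disjoint_self, Finset.bot_eq_empty] at hab
        have := ha.2
        rw [hab] at this
        simp at this
      have d1 : Disjoint o (o ∪ o')ᶜ := (disjoint_compl_right (a := o ∪ o')).mono_left Finset.subset_union_left
      have d2 : Disjoint o' (o ∪ o')ᶜ := (disjoint_compl_right (a := o ∪ o')).mono_left Finset.subset_union_right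
      simp only [Finset.coe_biUnion, Set.mem_iUnion, Finset.mem_coe, Finset.mem_offDiag]
      refine ⟨{o, o', (o ∪ o')ᶜ}, (hmem _).2 ⟨Finset.card_eq_three.2 ⟨o, o', _, hne ho hd, hne ho d1, hne ho' d2, rfl⟩, ?_, ?_⟩, by simp, by simp, hne ho hd⟩
      · intro a ha
        simp only [Finset.mem_insert, Finset.mem_singleton] at ha
        rcases ha with rfl | rfl | rfl <;> assumption
      · intro a ha b hb hab
        simp only [Finset.mem_insert, Finset.mem_singleton] at ha hb
        rcases ha with rfl | rfl | rfl <;> rcases hb with rfl | rfl | rfl <;>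
          first
            | exact absurd rfl hab
            | assumption
            | exact Disjoint.symm (by assumption)
    · intro p _; rfl
    · intro p _; rfl
  omega

end Cfsg.Agent.S1557
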