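import Cfsg.Statements.S1580
import Cfsg.Agent.Lib.SporStruct.LeechTriples

set_option autoImplicit false
open Cfsg

namespace Cfsg.Agent.S1580

open Cfsg.Agent.Lib Cfsg.Agent.Lib.SporStruct in
/-- The McLaughlin configuration: for u of customary norm 6 and v minimal with u − v minimal, there are 275 further such summands x of customary inner product 2 with v, permuted transitively by the stabiliser of u and v. -/
theorem result (u v : ↥Cfsg.leechLattice) (hu : Cfsg.sqNorm (u : Cfsg.GolayPt → ℤ) = 48) (hv : Cfsg.sqNorm (v : Cfsg.GolayPt → ℤ) = 32 ∧ Cfsg.sqNorm ((u - v) : Cfsg.GolayPt → ℤ) = 32) : {x : ↥Cfsg.leechLattice | Cfsg.sqNorm (x : Cfsg.GolayPt → ℤ) = 32 ∧ Cfsg.sqNorm ((u - x) : Cfsg.GolayPt → ℤ) = 32 ∧ Cfsg.dotInt (v : Cfsg.GolayPt → ℤ) (x : Cfsg.GolayPt → ℤ) = 16}.ncard = 275 ∧ ∀ x ∈ {x : ↥Cfsg.leechLattice | Cfsg.sqNorm (x : Cfsg.GolayPt → ℤ) = 32 ∧ Cfsg.sqNorm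 ((u - x) : Cfsg.GolayPt → ℤ) = 32 ∧ Cfsg.dotInt (v : Cfsg.GolayPt → ℤ) (x : Cfsg.GolayPt → ℤ) = 16}, ∀ x' ∈ {x : ↥Cfsg.leechLattice | Cfsg.sqNorm (x : Cfsg.GolayPt → ℤ) = 32 ∧ Cfsg.sqNorm ((u - x) : Cfsg.GolayPt → ℤ) = 32 ∧ Cfsg.dotInt (v : Cfsg.GolayPt → ℤ) (x : Cfsg.GolayPt → ℤ) = 16}, ∃ g : ↥Cfsg.Co0, g • u = u ∧ g • v = v ∧ g • x = x' := by
  obtain ⟨hv1, hv2⟩ := hv
  have huv : dotInt (u : GolayPt → ℤ) (v : GolayPt → ℤ) = 24 := by
    have := Leech.sqNorm_sub (u : GolayPt → ℤ) (v : GolayPt → ℤ)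
    omega
  refine ⟨?_, fun x hx x' hx' => ?_⟩
  · rw [← LeechTriples.count275 (u := u) (v := v) hu hv1 huv, ← Set.ncard_coe_finset]
    congr 1
    ext x
    simp only [Finset.coe_filter, LeechCounts.mem_shell, Set.mem_ofPred_eq]
    have e := Leech.sqNorm_sub (u : GolayPt → ℤ) (x : GolayPt → ℤ)
    constructor
    · rintro ⟨h1, h2, h3⟩
      refine ⟨h1, ?_, h3⟩
      show dotInt (u : GolayPt → ℤ) (x : GolayPt → ℤ) = 24
      omega
    · rintro ⟨h1, h2, h3⟩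
      have h1' : sqNorm (x : GolayPt → ℤ) = 32 := h1
      have h2' : dotInt (u : GolayPt → ℤ) (x : GolayPt → ℤ) = 24 := h2
      exact ⟨h1', by omega, h3⟩
  · obtain ⟨hx1, hx2, hx3⟩ := hx
    obtain ⟨hy1, hy2, hy3⟩ := hx'
    have hux : dotInt (u : GolayPt → ℤ) (x : GolayPt → ℤ) = 24 := by
      have := Leech.sqNorm_sub (u : GolayPt → ℤ) (x : GolayPt → ℤ)
      omega
    have huy : dotInt (u : GolayPt → ℤ) (x' : GolayPt → ℤ) = 24 := by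
      have := Leech.sqNorm_sub (u : GolayPt → ℤ) (x' : GolayPt → ℤ)
      omega
    exact LeechTriples.transitive275 hu hv1 hx1 huv hux hx3 hu hv1 hy1 huv huy hy3

end Cfsg.Agent.S1580
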