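import Cfsg.Statements.S1581
import Cfsg.Agent.Lib.SporStruct.LeechMcL
import Cfsg.Agent.Lib.SporStruct.LeechHS

set_option autoImplicit false
open Cfsg

namespace Cfsg.Agent.S1581

open Cfsg.Agent.Lib Cfsg.Agent.Lib.SporStruct Leech LeechPairs LeechCounts LeechTriples LeechMcL

/-- The members in terms of inner products. -/
theorem member_iff {u v y : leechLattice} (hu : sqNorm (vec u) = 48) :
    (sqNorm (vec y) = 32 ∧ sqNorm (vec u - vec y) = 32 ∧ dotInt (vec v) (vec y) = 16) ↔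
      (sqNorm (vec y) = 32 ∧ dotInt (vec v) (vec y) = 16 ∧ dotInt (vec u) (vec y) = 24) := by
  rw [Leech.sqNorm_sub, hu]
  constructor
  · rintro ⟨h1, h2, h3⟩; exact ⟨h1, h3, by omega⟩
  · rintro ⟨h1, h2, h3⟩; exact ⟨h1, by omega, h2⟩

/-- The McLaughlin group acts with rank 3 and subdegrees 1, 112, 162 on its 275 points: the point stabiliser has two orbits on the remaining points, distinguished by customary inner product 1 or 2 with the fixed point. -/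
theorem result (u v x : ↥Cfsg.leechLattice) (hu : Cfsg.sqNorm (u : Cfsg.GolayPt → ℤ) = 48) (hv : Cfsg.sqNorm (v : Cfsg.GolayPt → ℤ) = 32 ∧ Cfsg.sqNorm ((u - v) : Cfsg.GolayPt → ℤ) = 32) (hx : x ∈ {x : ↥Cfsg.leechLattice | Cfsg.sqNorm (x : Cfsg.GolayPt → ℤ) = 32 ∧ Cfsg.sqNorm ((u - x) : Cfsg.GolayPt → ℤ) = 32 ∧ Cfsg.dotInt (v : Cfsg.GolayPt → ℤ) (x : Cfsg.GolayPt → ℤ) = 16}) : {y : ↥Cfsg.leechLattice | y ∈ {x : ↥Cfsg.leechLattice | Cfsg.sqNorm (x : Cfsg.GolayPt → ℤ) = 32 ∧ Cfsg.sqNorm ((u - x) : Cfsg.GolayPt → ℤ) = 32 ∧ Cfsg.dotInt (v : Cfsg.GolayPt → ℤ) (x : Cfsg.GolayPt → ℤ) = 16} ∧ Cfsg.dotInt (x : Cfsg.GolayPt → ℤ) (y : Cfsg.GolayPt → ℤ) = 8}.ncard = 112 ∧ {y : ↥Cfsg.leechLattice | y ∈ {x : ↥Cfsg.leechLattice | Cfsg.sqNorm (x : Cfsg.GolayPt → ℤ) = 32 ∧ Cfsg.sqNorm ((u - x) : Cfsg.GolayPt → ℤ) = 32 ∧ Cfsg.dotInt (v : Cfsg.GolayPt → ℤ) (x : Cfsg.GolayPt → ℤ) = 16} ∧ y ≠ x ∧ Cfsg.dotInt (x : Cfsg.GolayPt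 → ℤ) (y : Cfsg.GolayPt → ℤ) = 16}.ncard = 162 ∧ ∀ y ∈ {x : ↥Cfsg.leechLattice | Cfsg.sqNorm (x : Cfsg.GolayPt → ℤ) = 32 ∧ Cfsg.sqNorm ((u - x) : Cfsg.GolayPt → ℤ) = 32 ∧ Cfsg.dotInt (v : Cfsg.GolayPt → ℤ) (x : Cfsg.GolayPt → ℤ) = 16}, ∀ y' ∈ {x : ↥Cfsg.leechLattice | Cfsg.sqNorm (x : Cfsg.GolayPt → ℤ) = 32 ∧ Cfsg.sqNorm ((u - x) : Cfsg.GolayPt → ℤ) = 32 ∧ Cfsg.dotInt (v : Cfsg.GolayPt → ℤ) (x : Cfsg.GolayPt → ℤ) = 16}, y ≠ x → y' ≠ x → Cfsg.dotInt (x : Cfsg.GolayPt → ℤ) (y : Cfsg.GolayPt → ℤ) = Cfsg.dotInt (x : Cfsg.GolayPt → ℤ) (y' : Cfsg.GolayPt → ℤ) → ∃ g : ↥Cfsg.Co0, g • u = u ∧ g • v = v ∧ g • x = x ∧ g • y = y' := by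
  classical
  obtain ⟨hv1, hv2⟩ := hv
  obtain ⟨hx1, hx2, hx3⟩ := (member_iff hu).1 hx
  have hab : (none : GolayPt) ≠ some 0 := by simp
  have hca : (some 1 : GolayPt) ≠ none := by simp
  have hcb : (some 1 : GolayPt) ≠ some 0 := by decide
  have huv : dotInt (vec u) (vec v) = 24 := by
    have h := Leech.sqNorm_sub (vec u) (vec v)
    simp only [vec] at *
    omega
  obtain ⟨g, g1, g2, g3⟩ := std275 hab hca hcb hu hv1 hx1 huv hx3 hx2
  have hU : Std3 none (some 0) (some 1) (vec (g • u)) := g3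
  have hn0 : sqNorm (vec (g • u)) = 48 := by rw [norm_smul']; exact hu
  set A := (shell 32).filter fun y =>
    dotInt (vec v) (vec y) = 16 ∧ dotInt (vec u) (vec y) = 24 with hA
  have hmemA : ∀ y : leechLattice, y ∈ A ↔
      (sqNorm (vec y) = 32 ∧ sqNorm (vec u - vec y) = 32 ∧ dotInt (vec v) (vec y) = 16) := by
    intro y
    rw [hA, Finset.mem_filter, mem_shell, member_iff hu]
    rfl
  have hdot : ∀ y : leechLattice,
      dotInt (vec (pn (some 0) (some 1))) (vec (g • y)) = dotInt (vec x) (vec y) := fun y => by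
    rw [← g2, dot_smul]
  have hA3 : ∀ y ∈ A, sqNorm (vec (g • y)) = 32 ∧
      dotInt (vec (pp none (some 0))) (vec (g • y)) = 16 ∧
      dotInt (vec (g • u)) (vec (g • y)) = 24 := by
    intro y hy
    obtain ⟨y1, y2, y3⟩ := (member_iff hu).1 ((hmemA y).1 hy)
    rw [norm_smul', ← g1, dot_smul, dot_smul]
    exact ⟨y1, y2, y3⟩
  have h112 : (A.filter fun y => dotInt (vec x) (vec y) = 8).card = 112 := by
    rw [hA, Finset.filter_filter]
    refine Eq.trans ?_ (card112 hab hca hcb hn0 hU)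
    refine LeechHS.filter_congr_smul 32 g _ _ fun y => ?_
    rw [hdot, ← g1, dot_smul, dot_smul, and_assoc]
  have hxA : x ∈ A := (hmemA x).2 ((member_iff hu).2 ⟨hx1, hx2, hx3⟩)
  have hx32 : dotInt (vec x) (vec x) = 32 := by rw [dot_self]; exact hx1
  have hcases : ∀ y ∈ A,
      y = x ∨ dotInt (vec x) (vec y) = 8 ∨ dotInt (vec x) (vec y) = 16 := by
    intro y hy
    obtain ⟨y1, y2, y3⟩ := hA3 y hy
    rw [dot_pp] at y2
    rcases dot_x_cases hab hca hcb hU y1 (by omega) y3 with h | h | h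
    · exact Or.inl (smul_left_cancel g (h.trans g2.symm))
    · exact Or.inr (Or.inl (by rw [← hdot]; exact h))
    · exact Or.inr (Or.inr (by rw [← hdot]; exact h))
  have h162 : (A.filter fun y => y ≠ x ∧ dotInt (vec x) (vec y) = 16).card = 162 := by
    have h275 : A.card = 275 := by
      rw [hA, ← count275 hu hv1 huv]
      congr 1
      exact Finset.filter_congr fun y _ => And.comm
    have hsplit := Finset.card_filter_add_card_filter_not (s := A)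
      (fun y => dotInt (vec x) (vec y) = 8)
    have he : (A.filter fun y => y ≠ x ∧ dotInt (vec x) (vec y) = 16) =
        (A.filter fun y => ¬dotInt (vec x) (vec y) = 8).erase x := by
      ext y
      simp only [Finset.mem_filter, Finset.mem_erase]
      constructor
      · rintro ⟨h1, h2, h3⟩; exact ⟨h2, h1, by omega⟩
      · rintro ⟨h2, h1, h3⟩
        rcases hcases y h1 with h | h | h
        · exact absurd h h2
        · exact absurd h h3
        · exact ⟨h1, h2, h⟩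
    rw [he, Finset.card_erase_of_mem (Finset.mem_filter.2 ⟨hxA, by omega⟩)]
    omega
  refine ⟨?_, ?_, fun y hy y' hy' hne hne' he => ?_⟩
  · refine Eq.trans ?_ h112
    rw [← Set.ncard_coe_finset]
    congr 1
    ext y
    simp only [Finset.coe_filter, hmemA, Set.mem_ofPred_eq]
  · refine Eq.trans ?_ h162
    rw [← Set.ncard_coe_finset]
    congr 1
    ext y
    simp only [Finset.coe_filter, hmemA, Set.mem_ofPred_eq]
  · obtain ⟨a1, a2, a3⟩ := hA3 y ((hmemA y).2 hy)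
    obtain ⟨b1, b2, b3⟩ := hA3 y' ((hmemA y').2 hy')
    obtain ⟨h, h1, h2, h3, h4⟩ := move_member hab hca hcb hn0 hU a1 a2 a3
      (fun e => hne (smul_left_cancel g (e.trans g2.symm))) b1 b2 b3
      (fun e => hne' (smul_left_cancel g (e.trans g2.symm)))
      (by rw [hdot, hdot]; exact he)
    refine ⟨g⁻¹ * h * g, ?_, ?_, ?_, ?_⟩ <;> rw [mul_smul, mul_smul, inv_smul_eq_iff]
    · exact h1
    · rw [g1, h2]
    · rw [g2, h3]
    · exact h4

end Cfsg.Agent.S1581
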