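import Cfsg.Statements.S0675
import Cfsg.Agent.Lib.Perm.PrimeDegree
import Cfsg.Agent.S0671

set_option autoImplicit false
open Cfsg MulAction Cfsg.Agent.Lib.Perm Cfsg.Agent.Lib.Perm.Modules Cfsg.Agent.Lib.Perm.PrimeDegree

namespace Cfsg.Agent.S0675

/-- Burnside's Theorem on permutation groups of prime degree: a transitive permutation group of prime degree that is not solvable is doubly transitive. -/
theorem result {α : Type*} [Fintype α] [DecidableEq α] (hα : (Fintype.card α).Prime) (G : Subgroup (Equiv.Perm α)) [MulAction.IsPretransitive G α] : Group.IsSolvable G ∨ MulAction.IsMultiplyPretransitive G α 2 := by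
  have := Fact.mk hα
  have hne : Nonempty α := Fintype.card_pos_iff.mp hα.pos
  obtain ⟨a⟩ := hne
  obtain ⟨e, c, hc, -, -, hce⟩ := exists_cycle_equiv rfl G a
  exact (affine_or_two_transitive rfl G e c hc hce fun h =>
    S0671.result (p := Fintype.card α) (f := 1) le_rfl (pow_one _).symm h).imp_left
      (isSolvable_of_affine e G)

end Cfsg.Agent.S0675
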