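import Cfsg.Statements.S1193
import Cfsg.Agent.Lib.TwoGroups.QuasiDihedral

set_option autoImplicit false
open Cfsg

namespace Cfsg.Agent.S1193

/-- Let S be quasi-dihedral of order 2^(n+1). Then S' = Φ(S) is cyclic of order 2^(n-1), the centre of S has order 2, and the subgroup generated by the involutions of S is dihedral of order 2^n. -/
theorem result {S : Type*} [Group S] [Finite S] (hS : Cfsg.IsQuasiDihedral S) (n : ℕ) (hn : Nat.card S = 2 ^ (n + 1)) : commutator S = frattini S ∧ IsCyclic (commutator S) ∧ Nat.card (commutator S) = 2 ^ (n - 1) ∧ Nat.card (Subgroup.center S) = 2 ∧ Nonempty (↥(Subgroup.closure {x : S | orderOf x = 2}) ≃* DihedralGroup (2 ^ (n - 1))) := by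
  obtain ⟨k, x, y, D⟩ := Lib.TwoGroups.QuasiDihedral.exists_QD hS
  rw [Lib.TwoGroups.QuasiDihedral.card_eq D] at hn
  have hk := Nat.pow_right_injective le_rfl hn
  obtain rfl : n = k + 3 := by omega
  rw [show k + 3 - 1 = k + 2 by omega, Lib.TwoGroups.QuasiDihedral.frattini_eq D,
    Lib.TwoGroups.QuasiDihedral.commutator_eq D,
    Lib.TwoGroups.QuasiDihedral.closure_involutions D]
  refine ⟨rfl, inferInstance, ?_, Lib.TwoGroups.QuasiDihedral.card_center D,
    Lib.TwoGroups.QuasiDihedral.dihedral_maxSub D⟩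
  rw [Nat.card_zpowers, Lib.TwoGroups.QuasiDihedral.orderOf_c_two D]

end Cfsg.Agent.S1193
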