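import Cfsg.Statements.S5604
import Cfsg.Agent.Lib.M24Classes.Centralizers
import Cfsg.Agent.Lib.M24Classes.Invariant
-- import your own Cfsg.Agent.* helpers here

set_option autoImplicit false
open scoped Pointwise
open Cfsg

namespace Cfsg.Agent.S5604

open Cfsg.Agent.Lib.Golay Cfsg.Agent.Lib.Computation Cfsg.Agent.Lib.SporStruct
open Cfsg.Agent.Lib.M24Classes Cfsg.Agent.Lib.M24Classes.Centralizers
open Cfsg.Agent.Lib.M24Classes.Classes (P)
open scoped Pointwise

/-- The exponents prime to 7. -/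
def exps : List ℕ := [1, 2, 3, 4, 5, 6]

theorem normalizer_iff {G : Type*} [Group G] {R : G} (hR : orderOf R = 7) (g : G) :
    g ∈ Subgroup.normalizer (Subgroup.zpowers R : Set G) ↔ ∃ j ∈ exps, g * R = R ^ j * g := by
  haveI : Fact (Nat.Prime 7) := ⟨by norm_num⟩
  have hex : ∀ j, 1 ≤ j → j < 7 → j ∈ exps := by intro j h1 h2; interval_cases j <;> simp [exps]
  constructor
  · intro h
    have hmem : g * R * g⁻¹ ∈ Subgroup.zpowers R :=
      (Subgroup.mem_normalizer_iff.mp h R).mp (Subgroup.mem_zpowers R)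
    have hfin : IsOfFinOrder R := orderOf_pos_iff.mp (by rw [hR]; norm_num)
    obtain ⟨j, hj, hje⟩ : ∃ j < 7, g * R * g⁻¹ = R ^ j := by
      obtain ⟨n, hn : R ^ n = g * R * g⁻¹⟩ := hfin.mem_powers_iff_mem_zpowers.mpr hmem
      exact ⟨n % 7, Nat.mod_lt _ (by norm_num), by rw [← hR, pow_mod_orderOf, hn]⟩
    refine ⟨j, hex j ?_ hj, by rw [← hje, inv_mul_cancel_right]⟩
    rcases Nat.eq_zero_or_pos j with rfl | h0
    · exfalso
      rw [pow_zero, mul_inv_eq_one] at hje
      have : R = 1 := by simpa using hje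
      rw [this, orderOf_one] at hR; omega
    · exact h0
  · rintro ⟨j, hj, hje⟩
    have hje' : g * R * g⁻¹ = R ^ j := by rw [hje, mul_inv_cancel_right]
    have hmap : (Subgroup.zpowers R).map (MulAut.conj g).toMonoidHom = Subgroup.zpowers R := by
      rw [MonoidHom.map_zpowers]
      show Subgroup.zpowers (g * R * g⁻¹) = _
      rw [hje']
      have hord : orderOf (R ^ j) = 7 := by
        rw [← hje']
        exact (MulEquiv.orderOf_eq (MulAut.conj g) R).trans hR
      haveI : Finite ↥(Subgroup.zpowers R) := Nat.finite_of_card_ne_zero (by rw [Nat.card_zpowers, hR]; norm_num)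
      exact Subgroup.eq_of_le_of_card_ge (Subgroup.zpowers_le.mpr (Subgroup.npow_mem_zpowers R j))
        (by rw [Nat.card_zpowers, Nat.card_zpowers, hord, hR])
    rw [Subgroup.mem_normalizer_iff]
    intro h
    constructor
    · intro hh
      rw [← hmap]
      exact ⟨h, hh, rfl⟩
    · intro hh
      rw [← hmap] at hh
      obtain ⟨k, hk, hke⟩ := hh
      have hkh : k = h := (MulAut.conj g).injective hke
      exact hkh ▸ hk

theorem centralizer_iff {G : Type*} [Group G] (R g : G) :
    g ∈ Subgroup.centralizer (Subgroup.zpowers R : Set G) ↔ g * R = R * g := by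
  rw [Subgroup.mem_centralizer_iff]
  refine ⟨fun h => (h R (Subgroup.mem_zpowers R)).symm, ?_⟩
  rintro h x ⟨n, rfl⟩
  exact ((show Commute g R from h).zpow_right n).eq.symm

/-- Codes of the powers. -/
def powCode : ℕ → ℕ
  | 0 => oneCode
  | n + 1 => mulP 24 5 Data.r7 (powCode n)

/-- Membership test for the normaliser. -/
def normTest (c : ℕ) : Bool := (exps.any fun j => Coset.eqComp c Data.r7 (powCode j) c) && inM24 c

/-- Equal image lists. -/
def eqList (a b : ℕ) : Bool := (List.range 24).all fun i => Nat.beq (getW 5 a i) (getW 5 b i)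

theorem checks : (inM24 Data.r7 && inM24 Data.r7b && (exps.all fun j => okCode (powCode j) &&
      !Nat.beq (getW 5 (powCode j) 23) 23) &&
    imgsAre Data.r7 0 1 2 3 &&
    (exps.all fun j => forceNat (getW 5 (powCode j) 23) fun a => forceNat (getW 5 (powCode j) a) fun b =>
      Data.cosN.any fun h => imgsAre h 23 a b (getW 5 (powCode j) b)) &&
    Coset.eqComp Data.r7 Data.r7b oneCode oneCode &&
    Nat.beq (getW 5 (powCode 7) 23) 23 && okCode (powCode 7) && eqList (powCode 7) oneCode) = true := by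
  decide +kernel

theorem okR : okCode Data.r7 = true := by
  have h := checks
  simp only [Bool.and_eq_true] at h
  exact okCode_of_inM24 h.1.1.1.1.1.1.1.1

theorem gperm_powCode : ∀ n, okCode (powCode n) = true ∧ gperm (powCode n) = gperm Data.r7 ^ n
  | 0 => ⟨okCode_oneCode, by rw [powCode, gperm_oneCode, pow_zero]⟩
  | n + 1 => by
    obtain ⟨h1, h2⟩ := gperm_powCode n
    exact ⟨okCode_mulP okR h1, by rw [powCode, gperm_mul okR h1, h2, pow_succ']⟩

theorem orderR : orderOf (gperm Data.r7) = 7 := by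
  haveI : Fact (Nat.Prime 7) := ⟨by norm_num⟩
  have h := checks
  simp only [Bool.and_eq_true, eqList, List.all_eq_true, List.mem_range, Nat.beq_eq] at h
  refine orderOf_eq_prime ?_ ?_
  · rw [← (gperm_powCode 7).2, ← gperm_oneCode]
    refine Equiv.ext fun p => idx_injective ?_
    rw [idx_gperm (gperm_powCode 7).1, idx_gperm okCode_oneCode]
    exact h.2 _ (idx_lt p)
  · intro e
    have h1 := h.1.1.1.1.1.2
    simp only [imgsAre, Bool.and_eq_true, Nat.beq_eq] at h1
    have := congrArg idx (Equiv.congr_fun e (pt 23))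
    rw [idx_gperm okR, idx_pt (by norm_num : 23 < 24), h1.1.1.1, Equiv.Perm.one_apply,
      idx_pt (by norm_num : 23 < 24)] at this
    omega

/-- The normaliser of the group of the representative. -/
def K : Subgroup P := Cfsg.M24 ⊓ Subgroup.normalizer (Subgroup.zpowers (gperm Data.r7) : Set P)

theorem mem_K {g : P} : g ∈ K ↔ g ∈ Cfsg.M24 ∧ ∃ j ∈ exps, g * gperm Data.r7 = gperm Data.r7 ^ j * g := by
  rw [K, Subgroup.mem_inf, normalizer_iff orderR]

theorem htestK : ∀ c, okCode c = true → (normTest c = true ↔ gperm c ∈ K) := by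
  intro c hc
  rw [mem_K, normTest, Bool.and_eq_true, List.any_eq_true]
  constructor
  · rintro ⟨⟨j, hj, he⟩, hm⟩
    rw [Coset.eqComp_iff hc okR (gperm_powCode j).1 hc, (gperm_powCode j).2] at he
    exact ⟨gperm_mem_M24 hm, j, hj, he⟩
  · rintro ⟨hm, j, hj, he⟩
    refine ⟨⟨j, hj, ?_⟩, Enum.inM24_of_mem hc hm⟩
    rw [Coset.eqComp_iff hc okR (gperm_powCode j).1 hc, (gperm_powCode j).2]
    exact he

theorem hptK : ∀ g ∈ K, moved Data.r7 (idx (g (pt 23))) = true := by
  intro g hg
  obtain ⟨-, j, hj, he⟩ := mem_K.mp (K.inv_mem hg)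
  have h := checks
  simp only [Bool.and_eq_true, List.all_eq_true, Bool.not_eq_true', Bool.eq_false_iff, ne_eq, Nat.beq_eq] at h
  have hne := (h.1.1.1.1.1.1.2 j hj).2
  rw [moved, Bool.not_eq_true', Bool.eq_false_iff, ne_eq, Nat.beq_eq]
  intro e
  rw [← idx_gperm okR] at e
  have h1 := Equiv.congr_fun he (g (pt 23))
  rw [Equiv.Perm.mul_apply, Equiv.Perm.mul_apply, idx_injective e, Equiv.Perm.inv_def,
    Equiv.symm_apply_apply, ← (gperm_powCode j).2] at h1
  have h2 := congrArg idx h1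
  rw [idx_gperm (gperm_powCode j).1, idx_pt (by norm_num : 23 < 24)] at h2
  exact hne h2.symm

theorem hcosK : ∀ g ∈ K, g (pt 23) = pt 23 →
    ∃ h ∈ Data.cosN, ∀ i ∈ Coset.base4, idx (g (pt i)) = getW 5 h i := by
  intro g hg h23
  obtain ⟨-, j, hj, he⟩ := mem_K.mp hg
  have h := checks
  simp only [Bool.and_eq_true, List.all_eq_true, List.any_eq_true, imgsAre, forceNat_eq] at h
  obtain ⟨x, hx, hxe⟩ := h.1.1.1.1.2 j hj
  have hx' : imgsAre x 23 (getW 5 (powCode j) 23) (getW 5 (powCode j) (getW 5 (powCode j) 23))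
      (getW 5 (powCode j) (getW 5 (powCode j) (getW 5 (powCode j) 23))) = true := by
    simp only [imgsAre, Bool.and_eq_true]; exact hxe
  have hr := h.1.1.1.1.1.2
  simp only [Nat.beq_eq] at hr
  have step : ∀ a b, a < 24 → getW 5 Data.r7 a = b → idx (g (pt b)) = getW 5 (powCode j) (idx (g (pt a))) := by
    intro a b ha hab
    have hm : gperm Data.r7 (pt a) = pt b := idx_injective (by
      rw [idx_gperm okR, idx_pt ha, hab, idx_pt]
      rw [← hab]; exact getW_lt okR ha)
    have := congrArg idx (Equiv.congr_fun he (pt a))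
    rw [Equiv.Perm.mul_apply, Equiv.Perm.mul_apply, hm, ← (gperm_powCode j).2, idx_gperm (gperm_powCode j).1] at this
    exact this
  have e23 : idx (g (pt 23)) = 23 := by rw [h23, idx_pt (by norm_num : 23 < 24)]
  have e0 := step 23 0 (by norm_num) hr.1.1.1
  rw [e23] at e0
  have e1 := step 0 1 (by norm_num) hr.1.1.2
  rw [e0] at e1
  have e2 := step 1 2 (by norm_num) hr.1.2
  rw [e1] at e2
  exact ⟨x, hx, imgsAre_spec hx' e23 e0 e1 e2⟩

theorem okN : (Enum.enumOk normTest (moved Data.r7) Data.orb7 Data.cosN Data.stabN &&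
    Nat.beq (Enum.found normTest Data.cosN).length 6) = true := by decide +kernel

theorem okC : (Enum.enumOk (Enum.commTest Data.r7) (moved Data.r7) Data.orb7 Data.cosN Data.stab7 &&
    Nat.beq (Enum.found (Enum.commTest Data.r7) Data.cosN).length 2) = true := by decide +kernel

theorem card_K : Nat.card ↥K = 126 := by
  have h := okN
  simp only [Bool.and_eq_true, Nat.beq_eq] at h
  exact (Enum.card_eq (K := K) inf_le_left htestK hptK h.1 hcosK (h.2.trans (by rfl))).trans rfl

theorem cent_le : cent (gperm Data.r7) ≤ K := fun g hg =>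
  mem_K.mpr ⟨(mem_cent.mp hg).1, 1, by simp [exps], by rw [pow_one]; exact (mem_cent.mp hg).2⟩

theorem card_C : Nat.card ↥(cent (gperm Data.r7)) = 42 := by
  have h := okC
  simp only [Bool.and_eq_true, Nat.beq_eq] at h
  have hr := checks
  simp only [Bool.and_eq_true] at hr
  exact (Enum.card_eq (K := cent (gperm Data.r7)) inf_le_left (htest hr.1.1.1.1.1.1.1.1) (fun g hg => hptK g (cent_le hg)) h.1
    (fun g hg => hcosK g (cent_le hg)) (h.2.trans (by rfl))).trans rfl

theorem product_K {g : P} (hg : g ∈ K) : ∃ a ∈ Data.orb7, ∃ b ∈ Data.stabN, g = gperm a * gperm b := by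
  have h := okN
  simp only [Bool.and_eq_true, Nat.beq_eq] at h
  exact Enum.exists_stab_product inf_le_left htestK hptK h.1 hcosK (h.2.trans (by rfl)) hg

/-- The code of the trio of the normaliser. -/
def root : ℕ := FamilyCode.pack [1903248, 6337856, 8536111]

/-- Two centralising elements that do not commute. -/
def ncA : ℕ := 167586439024872769561823051695931634

/-- See `ncA`. -/
def ncB : ℕ := 252055350297728556613150615875803464

theorem checks2 : (TrioOrbits.memTest root &&
    Data.orb7.all (fun c => inM24 c && Nat.beq (FamilyCode.act 3 c root) root) &&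
    Data.stabN.all (fun c => inM24 c && Nat.beq (FamilyCode.act 3 c root) root) &&
    inM24 ncA && inM24 ncB && Enum.commTest Data.r7 ncA && Enum.commTest Data.r7 ncB &&
    !Coset.eqComp ncA ncB ncB ncA) = true := by
  decide +kernel

theorem fixes_of_act {c : ℕ} (hc : inM24 c = true) (h : FamilyCode.act 3 c root = root) :
    gperm c • FamilyCode.family 3 root = FamilyCode.family 3 root := by
  have hk := checks2
  simp only [Bool.and_eq_true] at hk
  obtain ⟨hS, hcode⟩ := TrioOrbits.of_memTest hk.1.1.1.1.1.1.1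
  refine TrioOrbits.code_injOn_set (TrioOrbits.smul_mem ⟨_, gperm_mem_M24 hc⟩ hS) hS ?_
  show FamilyCode.code (gperm c • FamilyCode.family 3 root) = _
  rw [Invariant.gperm_eq_perm (okCode_of_inM24 hc), hcode, FamilyCode.code_smul (okCode_of_inM24 hc) _ hS.1, hcode, h]

theorem K_fixes {g : P} (hg : g ∈ K) : g • FamilyCode.family 3 root = FamilyCode.family 3 root := by
  obtain ⟨a, ha, b, hb, rfl⟩ := product_K hg
  have hk := checks2
  simp only [Bool.and_eq_true, List.all_eq_true, Nat.beq_eq] at hk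
  obtain ⟨h1, h2⟩ := hk.1.1.1.1.1.1.2 a ha
  obtain ⟨h3, h4⟩ := hk.1.1.1.1.1.2 b hb
  rw [mul_smul, fixes_of_act h3 h4, fixes_of_act h1 h2]

theorem exists_generator {S : Subgroup ↥Cfsg.M24} (hS : Nat.card S = 7) :
    ∃ y : ↥Cfsg.M24, ∃ m ∈ Cfsg.M24, orderOf y = 7 ∧ S = Subgroup.zpowers y ∧
      y.1 = m * gperm Data.r7 * m⁻¹ := by
  haveI : Fact (Nat.Prime 7) := ⟨by norm_num⟩
  haveI : Finite ↥S := Nat.finite_of_card_ne_zero (by rw [hS]; norm_num)
  obtain ⟨⟨x, hx⟩, hx7⟩ := exists_prime_orderOf_dvd_card' (G := ↥S) 7 (by rw [hS])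
  rw [Subgroup.orderOf_mk] at hx7
  have hxv : orderOf x.1 = 7 := (Subgroup.orderOf_coe x).trans hx7
  have heq : ∀ y, y ∈ S → orderOf y = 7 → S = Subgroup.zpowers y := fun y hy h7 =>
    (Subgroup.eq_of_le_of_card_ge (Subgroup.zpowers_le.mpr hy) (by rw [hS, Nat.card_zpowers, h7])).symm
  obtain ⟨m, hm, e | e⟩ := Classes.seven_conj x.2 hxv
  · exact ⟨x, m, hm, hx7, heq x hx hx7, e⟩
  · refine ⟨x⁻¹, m, hm, by rw [orderOf_inv, hx7], heq _ (S.inv_mem hx) (by rw [orderOf_inv, hx7]), ?_⟩
    have h := checks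
    simp only [Bool.and_eq_true] at h
    have hb := (Coset.eqComp_iff okR (okCode_of_inM24 h.1.1.1.1.1.1.1.2) okCode_oneCode okCode_oneCode).mp h.1.1.1.2
    rw [gperm_oneCode, one_mul] at hb
    rw [Subgroup.coe_inv, e, mul_inv_rev, mul_inv_rev, inv_inv, inv_eq_of_mul_eq_one_left hb]
    group

/-- For a subgroup S of order 7 of the group of the length-24 code (a Sylow 7-subgroup): the normaliser of S has order 126, the centraliser of S has order 42 and is non-abelian, and the whole normaliser leaves some trio invariant. (These are the orders of a Frobenius group of order 21 times a symmetric group of degree 3; the isomorphism type itself is not asserted here.) -/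
theorem result (S : Subgroup ↥Cfsg.M24) (hS : Nat.card S = 7) : Nat.card ↥(Subgroup.normalizer (S : Set ↥Cfsg.M24)) = 126 ∧ Nat.card ↥(Subgroup.centralizer (S : Set ↥Cfsg.M24)) = 42 ∧ (∃ x ∈ Subgroup.centralizer (S : Set ↥Cfsg.M24), ∃ y ∈ Subgroup.centralizer (S : Set ↥Cfsg.M24), x * y ≠ y * x) ∧ ∃ T ∈ Cfsg.trios, ∀ n ∈ Subgroup.normalizer (S : Set ↥Cfsg.M24), ((n : ↥Cfsg.M24) : Equiv.Perm Cfsg.GolayPt) • T = T := by
  obtain ⟨y, m, hm, hy7, rfl, ey⟩ := exists_generator hS
  have hconj : ∀ n : ↥Cfsg.M24, ∀ j : ℕ, (n * y = y ^ j * n ↔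
      (m⁻¹ * n.1 * m) * gperm Data.r7 = gperm Data.r7 ^ j * (m⁻¹ * n.1 * m)) := by
    intro n j
    rw [Subtype.ext_iff, Subgroup.coe_mul, Subgroup.coe_mul, Subgroup.coe_pow, ey, conj_pow]
    constructor <;> intro h
    · calc m⁻¹ * n.1 * m * gperm Data.r7 = m⁻¹ * (n.1 * (m * gperm Data.r7 * m⁻¹)) * m := by group
        _ = gperm Data.r7 ^ j * (m⁻¹ * n.1 * m) := by rw [h]; group
    · calc n.1 * (m * gperm Data.r7 * m⁻¹) = m * (m⁻¹ * n.1 * m * gperm Data.r7) * m⁻¹ := by group
        _ = m * gperm Data.r7 ^ j * m⁻¹ * n.1 := by rw [h]; group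
  have hmem : ∀ n : ↥Cfsg.M24, m⁻¹ * n.1 * m ∈ Cfsg.M24 := fun n =>
    Cfsg.M24.mul_mem (Cfsg.M24.mul_mem (Cfsg.M24.inv_mem hm) n.2) hm
  have hN : ∀ n : ↥Cfsg.M24, n ∈ Subgroup.normalizer (Subgroup.zpowers y : Set ↥Cfsg.M24) ↔
      m⁻¹ * n.1 * m ∈ K := fun n => by
    rw [normalizer_iff hy7, mem_K, and_iff_right (hmem n)]
    simp only [hconj n]
  have hC : ∀ n : ↥Cfsg.M24, n ∈ Subgroup.centralizer (Subgroup.zpowers y : Set ↥Cfsg.M24) ↔
      m⁻¹ * n.1 * m ∈ cent (gperm Data.r7) := fun n => by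
    rw [centralizer_iff, mem_cent, and_iff_right (hmem n)]
    simpa using hconj n 1
  have hback : ∀ g : P, g ∈ Cfsg.M24 → m * g * m⁻¹ ∈ Cfsg.M24 := fun g hg =>
    Cfsg.M24.mul_mem (Cfsg.M24.mul_mem hm hg) (Cfsg.M24.inv_mem hm)
  have hcb : ∀ g : P, m⁻¹ * (m * g * m⁻¹) * m = g := fun g => by group
  refine ⟨?_, ?_, ?_, ?_⟩
  · rw [← card_K]
    exact Nat.card_congr
      { toFun := fun n => ⟨m⁻¹ * n.1.1 * m, (hN n.1).mp n.2⟩
        invFun := fun g => ⟨⟨m * g.1 * m⁻¹, hback _ (mem_K.mp g.2).1⟩, (hN _).mpr (by rw [hcb]; exact g.2)⟩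
        left_inv := fun n => Subtype.ext (Subtype.ext (by group))
        right_inv := fun g => Subtype.ext (hcb g.1) }
  · rw [← card_C]
    exact Nat.card_congr
      { toFun := fun n => ⟨m⁻¹ * n.1.1 * m, (hC n.1).mp n.2⟩
        invFun := fun g => ⟨⟨m * g.1 * m⁻¹, hback _ (mem_cent.mp g.2).1⟩, (hC _).mpr (by rw [hcb]; exact g.2)⟩
        left_inv := fun n => Subtype.ext (Subtype.ext (by group))
        right_inv := fun g => Subtype.ext (hcb g.1) }
  · have h := checks2
    simp only [Bool.and_eq_true, Bool.not_eq_true'] at h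
    have oa := okCode_of_inM24 h.1.1.1.1.2
    have ob := okCode_of_inM24 h.1.1.1.2
    have ha := (htest (Enum.inM24_of_mem okR (gperm_mem_M24 (by
      have := checks; simp only [Bool.and_eq_true] at this; exact this.1.1.1.1.1.1.1.1))) _ oa).mp h.1.1.2
    have hb := (htest (Enum.inM24_of_mem okR (gperm_mem_M24 (by
      have := checks; simp only [Bool.and_eq_true] at this; exact this.1.1.1.1.1.1.1.1))) _ ob).mp h.1.2
    refine ⟨⟨_, hback _ (mem_cent.mp ha).1⟩, (hC _).mpr (by rw [hcb]; exact ha),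
      ⟨_, hback _ (mem_cent.mp hb).1⟩, (hC _).mpr (by rw [hcb]; exact hb), fun e => ?_⟩
    have e' := congrArg (fun z => m⁻¹ * (Subtype.val z) * m) e
    simp only [Subgroup.coe_mul] at e'
    have hcomm : gperm ncA * gperm ncB = gperm ncB * gperm ncA := by
      calc gperm ncA * gperm ncB = m⁻¹ * (m * gperm ncA * m⁻¹ * (m * gperm ncB * m⁻¹)) * m := by group
        _ = gperm ncB * gperm ncA := by rw [e']; group
    rw [← Coset.eqComp_iff oa ob ob oa, h.2] at hcomm
    exact Bool.noConfusion hcomm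
  · have h := checks2
    simp only [Bool.and_eq_true] at h
    refine ⟨m • FamilyCode.family 3 root, TrioOrbits.smul_mem ⟨m, hm⟩ (TrioOrbits.of_memTest h.1.1.1.1.1.1.1).1, ?_⟩
    intro n hn
    conv_rhs => rw [← K_fixes ((hN n).mp hn)]
    simp only [← mul_smul]
    group

end Cfsg.Agent.S5604
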