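import Cfsg.Statements.S0910
import Cfsg.Agent.Lib.Blocks.LocalRing
import Cfsg.Agent.Lib.Induced.Burnside

set_option autoImplicit false
open Cfsg

namespace Cfsg.Agent.S0910

open Cfsg.Agent.Lib

/-- Let G be a non-abelian finite simple group and p a prime. If an irreducible character χ lies in the principal block (relative to a maximal ideal of the algebraic integers containing p) and χ 1 is a power of p, then χ is the principal character. -/
theorem result {G : Type*} [Group G] [Finite G] (p : ℕ) [Fact p.Prime] (M : Ideal Cfsg.AlgInt) (hM : Cfsg.IsPModular p M) [IsSimpleGroup G] (hna : ∃ a b : G, a * b ≠ b * a) (χ : Cfsg.IrrCharacter G) (hχ : χ ∈ Cfsg.principalBlock M G) (k : ℕ) (hdeg : (χ : G → ℂ) 1 = (p : ℂ) ^ k) : (χ : G → ℂ) = fun _ => 1 := by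
  classical
  haveI := hM.2.1
  have hp : p.Prime := Fact.out
  have hcen : Subgroup.center G = ⊥ := by
    refine (inferInstance : (Subgroup.center G).Normal).eq_bot_or_eq_top.resolve_right fun h => ?_
    obtain ⟨a, b, hab⟩ := hna
    exact hab (Subgroup.mem_center_iff.mp (h ▸ Subgroup.mem_top b) a)
  obtain ⟨g, hg1, hgp⟩ :
      ∃ g : G, g ≠ 1 ∧ ¬ p ∣ (Subgroup.centralizer ({g} : Set G)).index := by
    obtain ⟨S⟩ : Nonempty (Sylow p G) := inferInstance
    by_cases hS : (S : Subgroup G) = ⊥
    · obtain ⟨g, hg⟩ := exists_ne (1 : G)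
      refine ⟨g, hg, fun h => S.not_dvd_index ?_⟩
      rw [hS, Subgroup.index_bot]
      exact h.trans (Subgroup.index_dvd_card _)
    · haveI : Nontrivial (S : Subgroup G) := (S : Subgroup G).nontrivial_iff_ne_bot.mpr hS
      haveI := S.2.center_nontrivial
      obtain ⟨z, hz⟩ := exists_ne (1 : Subgroup.center (S : Subgroup G))
      refine ⟨((z : (S : Subgroup G)) : G), fun h => hz (Subtype.ext (Subtype.ext h)),
        fun h => S.not_dvd_index (h.trans (Subgroup.index_dvd_of_le fun w hw => ?_))⟩
      exact Subgroup.mem_centralizer_singleton_iff.mpr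
        (congrArg Subtype.val (Subgroup.mem_center_iff.mp z.2 ⟨w, hw⟩))
  obtain ⟨n, ρ, hρ, hchar⟩ := χ.2
  haveI := hρ
  have hd : (χ : G → ℂ) 1 = (Module.finrank ℂ (Fin n → ℂ) : ℂ) := by
    rw [← hchar, Representation.char_one]
  have hn : Module.finrank ℂ (Fin n → ℂ) = p ^ k := by
    rw [hdeg] at hd
    exact_mod_cast hd.symm
  have hcop : Nat.Coprime (Module.finrank ℂ (Fin n → ℂ))
      (Subgroup.centralizer ({g} : Set G)).index := by
    rw [hn]
    exact (hp.coprime_iff_not_dvd.mpr hgp).pow_left k
  rcases Induced.Integral.zero_or_norm_eq_of_coprime ρ g hcop with h0 | hnorm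
  · exfalso
    have hχg : (χ : G → ℂ) g = 0 := by rw [← hchar]; exact h0
    have h1 := (hχ : Cfsg.SameBlock M (fun _ : G => (1 : ℂ)) (χ : G → ℂ)) g
    simp only [Cfsg.centralChar, hχg, mul_one, div_one, mul_zero, zero_div, sub_zero] at h1
    exact hgp ((Blocks.memLocalIdeal_natCast_iff hM _).mp h1)
  · obtain ⟨c, hc⟩ := Induced.Integral.scalar_of_norm_character_eq ρ hnorm
    rcases (inferInstance : (MonoidHom.ker ρ).Normal).eq_bot_or_eq_top with hker | hker
    · exfalso
      apply hg1
      rw [← Subgroup.mem_bot, ← hcen]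
      refine Subgroup.mem_center_iff.mpr fun y => ?_
      apply (MonoidHom.ker_eq_bot_iff ρ).mp hker
      rw [map_mul, map_mul, hc]
      ext v
      simp
    · have hρ1 : ∀ x : G, ρ x = 1 := fun x =>
        (MonoidHom.mem_ker (f := ρ)).mp (hker ▸ Subgroup.mem_top x)
      have hconst : ∀ x, (χ : G → ℂ) x = (χ : G → ℂ) 1 := fun x => by
        rw [← hchar, Representation.character, hρ1, Representation.character, hρ1]
      haveI := Fintype.ofFinite G
      have h1 := Characters.Basic.classInner_self_irr χ
      rw [Cfsg.classInner] at h1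
      simp only [hconst, Characters.Basic.conj_apply_one (Characters.Basic.isCharacter_irr χ),
        Finset.sum_const, Finset.card_univ, nsmul_eq_mul, Fintype.card_eq_nat_card] at h1
      rw [← mul_assoc, inv_mul_cancel₀ Induced.Basic.natCard_ne_zero, one_mul, hd, ← Nat.cast_mul,
        Nat.cast_eq_one, mul_eq_one] at h1
      funext x
      rw [hconst, hd, h1.1, Nat.cast_one]

end Cfsg.Agent.S0910
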