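import Cfsg.Statements.S0904
import Cfsg.Agent.S0910
import Cfsg.Agent.S0914
import Cfsg.Agent.Lib.BlocksChars5.Basic

set_option autoImplicit false
open Cfsg

namespace Cfsg.Agent.S0904

open scoped ComplexConjugate
open Cfsg.Agent.Lib.Blocks Cfsg.Agent.Lib.Characters.Basic

/-- In a simple group of order `p ^ a * q ^ b * r` no element has order divisible by `p * r`. -/
theorem not_dvd_orderOf {G : Type*} [Group G] [Finite G] [IsSimpleGroup G] {p q r a b : ℕ}
    (hp : p.Prime) (hq : q.Prime) (hr : r.Prime) (hpq : p ≠ q) (hpr : p ≠ r) (hqr : q ≠ r)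
    (hcard : Nat.card G = p ^ a * q ^ b * r) (hna : ∃ x y : G, x * y ≠ y * x) {x : G}
    (hxp : p ∣ orderOf x) : ¬ r ∣ orderOf x := by
  classical
  intro hxr
  haveI := Fact.mk hp
  haveI := Fact.mk hr
  obtain ⟨M, hM⟩ := exists_isPModular p hp
  obtain ⟨R, hR⟩ := exists_isPModular r hr
  obtain ⟨Q, hQ⟩ := exists_isPModular q hq
  haveI := hM.2.1
  haveI := hR.2.1
  haveI := hQ.2.1
  haveI := Fintype.ofFinite (Cfsg.IrrCharacter G)
  have horth := weak_orthogonality hM (isPBlock_principalBlock (G := G))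
    (x := (1 : G)) (by simp [hp.ne_one]) hxp
  rw [finsum_mem_eq_toFinset_sum, ← Finset.add_sum_erase _ _ (Set.mem_toFinset.mpr
    (oneChar_mem_principalBlock (M := M) (G := G))), oneChar_apply, oneChar_apply, map_one,
    one_mul] at horth
  refine not_memLocalIdeal_one (M := Q) ?_
  rw [eq_neg_of_add_eq_zero_left horth]
  refine memLocalIdeal_neg (memLocalIdeal_sum _ fun χ hχ => ?_)
  obtain ⟨hne, hmem⟩ := Finset.mem_erase.mp hχ
  rw [Set.mem_toFinset] at hmem
  have hd := Cfsg.Agent.Lib.BlocksChars5.Basic.degree_dvd_card χ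
  by_cases hrd : r ∣ Cfsg.charDegree (χ : G → ℂ)
  · have hn : ¬ r ∣ Nat.card G / Cfsg.charDegree (χ : G → ℂ) := by
      intro h
      obtain ⟨m, hm⟩ := hd
      rw [hm, Nat.mul_div_cancel_left _ (charDegree_pos χ)] at h
      have h2 : r * r ∣ p ^ a * q ^ b * r := hcard ▸ hm ▸ mul_dvd_mul hrd h
      have h3 := Nat.dvd_of_mul_dvd_mul_right hr.pos h2
      rcases hr.dvd_mul.mp h3 with h4 | h4
      · exact hpr ((Nat.prime_dvd_prime_iff_eq hr hp).mp (hr.dvd_of_dvd_pow h4)).symm
      · exact hqr ((Nat.prime_dvd_prime_iff_eq hr hq).mp (hr.dvd_of_dvd_pow h4)).symm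
    have hs := (Cfsg.Agent.S0914.result r R hR χ).mp hn
    have h := weak_orthogonality hR (hs ▸ isPBlock_blockOf χ) (x := (1 : G))
      (by simp [hr.ne_one]) hxr
    rw [finsum_mem_singleton] at h
    rw [h]
    exact memLocalIdeal_zero
  · have hqd : q ∣ Cfsg.charDegree (χ : G → ℂ) := by
      by_contra hnq
      have hcop : Nat.Coprime (Cfsg.charDegree (χ : G → ℂ)) (q ^ b * r) :=
        (((hq.coprime_iff_not_dvd.mpr hnq).symm.pow_right b)).mul_right
          (hr.coprime_iff_not_dvd.mpr hrd).symm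
      rw [hcard, mul_assoc] at hd
      obtain ⟨j, -, hj⟩ := (Nat.dvd_prime_pow hp).mp (hcop.dvd_of_dvd_mul_right hd)
      refine hne (Subtype.ext ?_)
      exact Cfsg.Agent.S0910.result p M hM hna χ hmem j (by rw [char_one_eq_degree, hj]; simp)
    obtain ⟨c, hc⟩ := hqd
    rw [char_one_eq_degree, hc, Nat.cast_mul, mul_assoc]
    refine memLocalIdeal_mul_right (natCast_prime_mem_localIdeal hQ)
      (mul_mem (natCast_mem _ c) ?_)
    rw [← apply_inv (isCharacter_irr χ)]
    exact char_mem_localRing χ _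

/-- Let G be a finite simple group of order p ^ a * q ^ b * r with p, q, r distinct primes. Then every Sylow r-subgroup S of G satisfies C_G(S) = S. -/
theorem result {G : Type*} [Group G] [Finite G] [IsSimpleGroup G] (p q r a b : ℕ) (hp : p.Prime) (hq : q.Prime) [Fact r.Prime] (hpq : p ≠ q) (hpr : p ≠ r) (hqr : q ≠ r) (hcard : Nat.card G = p ^ a * q ^ b * r) (S : Sylow r G) : Subgroup.centralizer (S : Set G) = (S : Subgroup G) := by
  classical
  have hr : r.Prime := Fact.out
  by_cases hna : ∃ x y : G, x * y ≠ y * x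
  · have hS1 : Nat.card (S : Subgroup G) = r := by
      rw [S.card_eq_multiplicity, hcard,
        Nat.factorization_mul (mul_ne_zero (pow_ne_zero _ hp.ne_zero) (pow_ne_zero _ hq.ne_zero))
          hr.ne_zero,
        Nat.factorization_mul (pow_ne_zero _ hp.ne_zero) (pow_ne_zero _ hq.ne_zero),
        hp.factorization_pow, hq.factorization_pow, hr.factorization]
      simp [hpr, hqr, Finsupp.single_apply]
    haveI : IsCyclic (S : Subgroup G) := isCyclic_of_prime_card hS1
    letI := IsCyclic.commGroup (α := (S : Subgroup G))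
    have hle : (S : Subgroup G) ≤ Subgroup.centralizer (S : Set G) := fun s hs =>
      Subgroup.mem_centralizer_iff.mpr fun t ht =>
        congrArg Subtype.val (mul_comm (⟨t, ht⟩ : (S : Subgroup G)) ⟨s, hs⟩)
    refine (Subgroup.eq_of_le_of_card_ge hle ?_).symm
    have key : ∀ ℓ : ℕ, ℓ.Prime → ℓ ∣ Nat.card (Subgroup.centralizer (S : Set G)) → ℓ = r := by
      intro ℓ hℓ hdvd
      by_contra hℓr
      haveI := Fact.mk hℓ
      obtain ⟨y, hy⟩ := exists_prime_orderOf_dvd_card' ℓ hdvd
      obtain ⟨s, hs⟩ := exists_prime_orderOf_dvd_card' r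
        (show r ∣ Nat.card (S : Subgroup G) by rw [hS1])
      have hc : Commute (s : G) (y : G) := Subgroup.mem_centralizer_iff.mp y.2 s s.2
      have ho : orderOf ((s : G) * (y : G)) = r * ℓ := by
        rw [hc.orderOf_mul_eq_mul_orderOf_of_coprime, Subgroup.orderOf_coe, Subgroup.orderOf_coe,
          hs, hy]
        rw [Subgroup.orderOf_coe, Subgroup.orderOf_coe, hs, hy]
        exact (Nat.coprime_primes hr hℓ).mpr (Ne.symm hℓr)
      have hℓ' : ℓ ∣ p ^ a * q ^ b * r :=
        hcard ▸ hdvd.trans (Subgroup.card_subgroup_dvd_card _)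
      have hor : r ∣ orderOf ((s : G) * (y : G)) := ho ▸ dvd_mul_right r ℓ
      have hol : ℓ ∣ orderOf ((s : G) * (y : G)) := ho ▸ dvd_mul_left ℓ r
      rcases hℓ.dvd_mul.mp hℓ' with h | h
      · rcases hℓ.dvd_mul.mp h with h | h
        · obtain rfl := (Nat.prime_dvd_prime_iff_eq hℓ hp).mp (hℓ.dvd_of_dvd_pow h)
          exact not_dvd_orderOf hp hq hr hpq hpr hqr hcard hna hol hor
        · obtain rfl := (Nat.prime_dvd_prime_iff_eq hℓ hq).mp (hℓ.dvd_of_dvd_pow h)
          exact not_dvd_orderOf (a := b) (b := a) hq hp hr (Ne.symm hpq) hqr hpr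
            (by rw [hcard]; ring) hna hol hor
      · exact hℓr ((Nat.prime_dvd_prime_iff_eq hℓ hr).mp h)
    obtain ⟨n, hn⟩ : ∃ n, Nat.card (Subgroup.centralizer (S : Set G)) = r ^ n :=
      ⟨_, Nat.eq_prime_pow_of_unique_prime_dvd Nat.card_pos.ne' fun {d} hd hdvd => key d hd hdvd⟩
    rw [hn, hS1]
    calc r ^ n ≤ r ^ 1 := Nat.pow_le_pow_right hr.pos ((hr.pow_dvd_iff_le_factorization
          Nat.card_pos.ne').mp (hn ▸ Subgroup.card_subgroup_dvd_card _) |>.trans (le_of_eq (by
            rw [hcard, Nat.factorization_mul (mul_ne_zero (pow_ne_zero _ hp.ne_zero)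
                (pow_ne_zero _ hq.ne_zero)) hr.ne_zero,
              Nat.factorization_mul (pow_ne_zero _ hp.ne_zero) (pow_ne_zero _ hq.ne_zero),
              hp.factorization_pow, hq.factorization_pow, hr.factorization]
            simp [hpr, hqr, Finsupp.single_apply])))
      _ = r := pow_one r
  · push Not at hna
    letI : CommGroup G := { (inferInstance : Group G) with mul_comm := hna }
    have hpc : (Nat.card G).Prime := IsSimpleGroup.prime_card (α := G)
    haveI := Fact.mk hpc
    rcases (S : Subgroup G).eq_bot_or_eq_top_of_prime_card with h | h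
    · exfalso
      have := S.card_eq_multiplicity
      rw [h, Subgroup.card_bot] at this
      have h1 : 1 ≤ (Nat.card G).factorization r :=
        (hr.dvd_iff_one_le_factorization Nat.card_pos.ne').mp (hcard ▸ dvd_mul_left r _)
      have h2 := (Nat.pow_eq_one.mp this.symm).resolve_left hr.ne_one
      omega
    · rw [h]
      refine eq_top_iff.mpr fun g _ => Subgroup.mem_centralizer_iff.mpr fun t _ => hna t g

end Cfsg.Agent.S0904
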