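import Cfsg.Statements.S1001
import Cfsg.Agent.S0904
import Cfsg.Agent.Lib.Induced.Burnside

set_option autoImplicit false
open Cfsg

namespace Cfsg.Agent.S1001

/-- In a finite simple group whose order has the form p * 3^a * 2^b with p prime, the centralizer of any element of order p is the cyclic group it generates. -/
theorem result {G : Type*} [Group G] [Finite G] [IsSimpleGroup G] (p a b : ℕ) (hp : p.Prime) (hG : Nat.card G = p * 3 ^ a * 2 ^ b) (x : G) (hx : orderOf x = p) : Subgroup.centralizer ({x} : Set G) = Subgroup.zpowers x := by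
  have := Fact.mk hp
  have hxG : p ∣ Nat.card G := hx ▸ orderOf_dvd_natCard x
  by_cases hc : ∀ g h : G, g * h = h * g
  · letI : CommGroup G := { (inferInstance : Group G) with mul_comm := hc }
    have hpc : (Nat.card G).Prime := IsSimpleGroup.prime_card (α := G)
    have htop : Subgroup.zpowers x = ⊤ := Subgroup.eq_top_of_card_eq _ (by
      rw [Nat.card_zpowers, hx]
      exact (Nat.prime_dvd_prime_iff_eq hp hpc).mp hxG)
    rw [htop]
    exact eq_top_iff.mpr fun g _ => Subgroup.mem_centralizer_singleton_iff.mpr (hc _ _)
  · have hsolv : ¬ Group.IsSolvable G := fun h => hc fun g h' => IsSimpleGroup.comm_iff_isSolvable.mpr h g h'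
    have h2 : p ≠ 2 := by
      rintro rfl
      exact hsolv (Lib.Induced.Burnside.isSolvable_of_card_eq 2 3 (b + 1) a (by norm_num)
        (by norm_num) (by rw [hG]; ring))
    have h3 : p ≠ 3 := by
      rintro rfl
      exact hsolv (Lib.Induced.Burnside.isSolvable_of_card_eq 3 2 (a + 1) b (by norm_num)
        (by norm_num) (by rw [hG]; ring))
    have hf : (Nat.card G).factorization p = 1 := by
      rw [hG, Nat.factorization_mul (mul_ne_zero hp.ne_zero (by positivity)) (by positivity),
        Nat.factorization_mul hp.ne_zero (by positivity), Nat.factorization_pow,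
        Nat.factorization_pow]
      simp only [Finsupp.add_apply, Finsupp.smul_apply, smul_eq_mul, hp.factorization_self]
      rw [Nat.factorization_eq_zero_of_not_dvd (n := 2) (fun h => h2
          ((Nat.prime_dvd_prime_iff_eq hp Nat.prime_two).mp h)),
        Nat.factorization_eq_zero_of_not_dvd (n := 3) (fun h => h3
          ((Nat.prime_dvd_prime_iff_eq hp Nat.prime_three).mp h))]
      simp
    have hcard : Nat.card (Subgroup.zpowers x) = p ^ (Nat.card G).factorization p := by
      rw [Nat.card_zpowers, hx, hf, pow_one]
    have h := S0904.result 3 2 p a b Nat.prime_three Nat.prime_two (by norm_num) (Ne.symm h3)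
      (Ne.symm h2) (by rw [hG]; ring) (Sylow.ofCard (Subgroup.zpowers x) hcard)
    rw [Sylow.coe_ofCard] at h
    refine le_antisymm (fun y hy => h ▸ ?_) (Subgroup.zpowers_le.mpr
      (Subgroup.mem_centralizer_singleton_iff.mpr rfl))
    rw [Subgroup.mem_centralizer_iff]
    intro t ht
    obtain ⟨k, rfl⟩ := Subgroup.mem_zpowers_iff.mp ht
    exact ((show Commute x y from (Subgroup.mem_centralizer_singleton_iff.mp hy).symm).zpow_left k).eq

end Cfsg.Agent.S1001
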