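import Cfsg.Statements.S0178
import Cfsg.Agent.Lib.Clifford.Basic
import Cfsg.Agent.Lib.Characters.Linear
import Cfsg.Agent.Lib.Induced.Character
-- import your own Cfsg.Agent.* helpers here

set_option autoImplicit false
open Cfsg

namespace Cfsg.Agent.S0178

/-- The degree of an irreducible complex representation of a finite group is at most the index of any abelian subgroup. -/
theorem result {G : Type*} [Group G] [Finite G] {V : Type*} [AddCommGroup V] [Module ℂ V] [FiniteDimensional ℂ V] (ρ : Representation ℂ G V) [ρ.IsIrreducible] (A : Subgroup G) (hA : ∀ a ∈ A, ∀ b ∈ A, a * b = b * a) : Module.finrank ℂ V ≤ A.index := by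
  classical
  haveI := Fintype.ofFinite G
  haveI := Fintype.ofFinite A
  set χ := Cfsg.Agent.Lib.Characters.Basic.irrChar ρ with hχ
  have hres : Cfsg.IsCharacter A (fun a : A => (χ : G → ℂ) a) :=
    Cfsg.Agent.Lib.Characters.Basic.isCharacter_comp A.subtype
      (Cfsg.Agent.Lib.Characters.Basic.isCharacter_irr χ)
  obtain ⟨lam, hlam⟩ := Cfsg.Agent.Lib.Clifford.Basic.exists_constituent hres fun h =>
    Cfsg.Agent.Lib.Characters.Basic.apply_one_ne_zero χ (by simpa using congrFun h 1)
  have hlam1 : (lam : A → ℂ) 1 = 1 := Cfsg.Agent.Lib.Characters.Linear.degree_eq_one_of_comm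
    (fun x y => Subtype.ext (hA x x.2 y y.2)) lam
  have hind : Cfsg.IsCharacter G (Cfsg.indFun A (lam : A → ℂ)) :=
    Cfsg.Agent.Lib.Induced.Character.isCharacter_indFun A
      (Cfsg.Agent.Lib.Characters.Basic.isCharacter_irr lam)
  obtain ⟨k, r, hr, hk, -, hsum⟩ := Cfsg.Agent.Lib.Clifford.Basic.exists_eq_nsmul_add hind χ
  have hk0 : k ≠ 0 := by
    rintro rfl
    rw [Nat.cast_zero, Cfsg.Agent.Lib.Induced.Basic.frobenius_reciprocity A _
      (Cfsg.Agent.Lib.Characters.Basic.isClassFunction_irr χ)] at hk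
    exact hlam (by rw [← Cfsg.Agent.Lib.Induced.Basic.classInner_conj_symm, hk, map_zero])
  obtain ⟨s, hs⟩ := Cfsg.Agent.Lib.Characters.Basic.exists_degree hr
  have h1 := congrFun hsum 1
  rw [Cfsg.Agent.Lib.Induced.Basic.indFun_one, hlam1, mul_one, Pi.add_apply, Pi.smul_apply, hs,
    nsmul_eq_mul, hχ, Cfsg.Agent.Lib.Characters.Basic.coe_irrChar, Representation.char_one] at h1
  have h2 : A.index = k * Module.finrank ℂ V + s := by exact_mod_cast h1
  have := Nat.le_mul_of_pos_left (Module.finrank ℂ V) (Nat.pos_of_ne_zero hk0)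
  omega

end Cfsg.Agent.S0178
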