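import Cfsg.Statements.S0878
-- import your own Cfsg.Agent.* helpers here

set_option autoImplicit false
open Cfsg

namespace Cfsg.Agent.S0878

/-- Let G be a Zassenhaus group on the finite set Ω, a a point, and let H be the subgroup of the stabilizer of a consisting of the identity and the elements fixing no point other than a (given here as a subgroup of the stabilizer of order one less than the number of points whose non-identity elements fix only a; it is the Frobenius kernel of the stabilizer). Then an element outside the stabilizer of a conjugates no non-identity element of H into H, and the normalizer of H is exactly the stabilizer of a. -/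
theorem result {G Ω : Type*} [Group G] [Finite G] [MulAction G Ω] [Fintype Ω] (hZ : Cfsg.IsZassenhausGroup G Ω) (a : Ω) (H : Subgroup G) (hHa : H ≤ MulAction.stabilizer G a) (hHcard : Nat.card H + 1 = Fintype.card Ω) (hHfix : ∀ u ∈ H, u ≠ 1 → ∀ c : Ω, u • c = c → c = a) : (∀ g : G, g ∉ MulAction.stabilizer G a → ∀ u ∈ H, g * u * g⁻¹ ∈ H → u = 1) ∧ Subgroup.normalizer (H : Set G) = MulAction.stabilizer G a := by
  classical
  obtain ⟨hf, h2, h3, ⟨g₀, hg₀, a₀, b₀, hab₀, hga₀, hgb₀⟩, -⟩ := hZ
  haveI : Fintype G := Fintype.ofFinite G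
  have hmv : ∀ u ∈ H, ∀ g : G, g * u * g⁻¹ ∈ H → u ≠ 1 → g • a = a := by
    intro u hu g hgu hu1
    refine hHfix _ hgu (conj_eq_one_iff.not.2 hu1) (g • a) ?_
    rw [smul_smul, inv_mul_cancel_right, mul_smul, MulAction.mem_stabilizer_iff.1 (hHa hu)]
  refine ⟨fun g hg u hu hgu => not_not.1 fun hu1 => hg (hmv u hu g hgu hu1), le_antisymm ?_ ?_⟩
  · intro g hg
    obtain ⟨u, hu, hu1⟩ : ∃ u ∈ H, u ≠ 1 := by
      by_contra h
      push Not at h
      have hH : H = ⊥ := (Subgroup.eq_bot_iff_forall H).2 h
      rw [hH, Subgroup.card_bot] at hHcard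
      apply hg₀
      refine hf.eq_of_smul_eq_smul fun c => ?_
      rw [one_smul]
      by_contra hc
      have hca : c ≠ a₀ := fun e => hc (e ▸ hga₀)
      have hcb : c ≠ b₀ := fun e => hc (e ▸ hgb₀)
      have := ({c, a₀, b₀} : Finset Ω).card_le_univ
      simp [hca, hcb, hab₀] at this
      omega
    exact hmv u hu g ((Subgroup.mem_normalizer_iff.1 hg u).1 hu) hu1
  -- each element of the stabilizer that fixes only the point lies in the subgroup
  set Ga := MulAction.stabilizer G a with hGa
  set C := (Finset.univ : Finset Ω).erase a with hC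
  have hCH : C.card = Nat.card H := by
    rw [hC, Finset.card_erase_of_mem (Finset.mem_univ a), Finset.card_univ]; omega
  set F : Ω → Finset G := fun c => Finset.univ.filter fun g => g ∈ Ga ∧ g • c = c ∧ g ≠ 1 with hF
  have hFc : ∀ c ∈ C, Nat.card H * ((F c).card + 1) = Nat.card Ga := by
    intro c hc
    have hca : c ≠ a := (Finset.mem_erase.1 hc).1
    set K := Ga ⊓ MulAction.stabilizer G c with hK
    have hKc : Nat.card K = (F c).card + 1 := by
      have e : Finset.univ.filter (fun g : G => g ∈ K) = insert 1 (F c) := by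
        ext g
        by_cases hg : g = 1 <;> simp [hK, hF, hg, Subgroup.one_mem, MulAction.mem_stabilizer_iff]
      rw [Nat.card_eq_fintype_card, Fintype.card_subtype, e,
        Finset.card_insert_of_notMem (by simp [hF])]
    have horb : ∀ d : Ω, d ≠ a → ∃ h : H, (h : G) • c = d := by
      have hi : Set.InjOn (fun h : G => h • c) (Finset.univ.filter fun h => h ∈ H) := by
        intro h hh k hk e
        simp only [Finset.coe_filter, Finset.mem_univ, true_and, Set.mem_setOf_eq] at hh hk e
        by_contra hne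
        refine hca (hHfix (k⁻¹ * h) (H.mul_mem (H.inv_mem hk) hh)
          (fun h' => hne (inv_mul_eq_one.1 h').symm) c ?_)
        rw [mul_smul, e, inv_smul_smul]
      have himg : (Finset.univ.filter fun h : G => h ∈ H).image (fun h => h • c) = C := by
        refine Finset.eq_of_subset_of_card_le ?_ ?_
        · intro d hd
          obtain ⟨h, hh, rfl⟩ := Finset.mem_image.1 hd
          have hh' : h ∈ H := (Finset.mem_filter.1 hh).2
          refine Finset.mem_erase.2 ⟨fun e => hca ?_, Finset.mem_univ _⟩
          rw [← MulAction.mem_stabilizer_iff.1 (hHa hh')] at e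
          exact MulAction.injective h e
        · rw [Finset.card_image_of_injOn hi, hCH, Nat.card_eq_fintype_card, Fintype.card_subtype]
      intro d hd
      have : d ∈ C := Finset.mem_erase.2 ⟨hd, Finset.mem_univ _⟩
      rw [← himg] at this
      obtain ⟨h, hh, e⟩ := Finset.mem_image.1 this
      exact ⟨⟨h, (Finset.mem_filter.1 hh).2⟩, e⟩
    rw [← hKc, ← Nat.card_prod]
    refine Nat.card_eq_of_bijective
      (fun x : H × K => (⟨x.1 * x.2, Ga.mul_mem (hHa x.1.2) x.2.2.1⟩ : Ga)) ⟨?_, ?_⟩
    · rintro ⟨h, e⟩ ⟨h', e'⟩ heq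
      have heq' : (h : G) * e = h' * e' := congrArg Subtype.val heq
      have h1 : ((h' : G)⁻¹ * h) = (e' : G) * (e : G)⁻¹ := by
        rw [eq_mul_inv_iff_mul_eq, mul_assoc, heq', inv_mul_cancel_left]
      have h2 : (h' : G)⁻¹ * h = 1 := by
        by_contra hne
        refine hca (hHfix _ (H.mul_mem (H.inv_mem h'.2) h.2) hne c ?_)
        rw [h1]
        exact MulAction.mem_stabilizer_iff.1 (K.mul_mem e'.2 (K.inv_mem e.2)).2
      have hh : h = h' := Subtype.ext (inv_mul_eq_one.1 h2).symm
      subst hh
      exact Prod.ext rfl (Subtype.ext (mul_left_cancel heq'))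
    · rintro ⟨g, hg⟩
      have hgc : g • c ≠ a := fun e => hca (MulAction.injective g
        (e.trans (MulAction.mem_stabilizer_iff.1 hg).symm))
      obtain ⟨h, hh⟩ := horb _ hgc
      refine ⟨⟨h, ⟨(h : G)⁻¹ * g, Ga.mul_mem (Ga.inv_mem (hHa h.2)) hg, ?_⟩⟩,
        Subtype.ext (mul_inv_cancel_left _ _)⟩
      show ((h : G)⁻¹ * g) • c = c
      rw [mul_smul, ← hh, inv_smul_smul]
  intro g hg
  refine Subgroup.mem_normalizer_fintype ?_
  intro u hu
  by_cases hu1 : u = 1
  · simp [hu1]
  set U := C.biUnion F with hU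
  have hUcard : U.card + Nat.card H = Nat.card Ga := by
    rw [hU, Finset.card_biUnion, ← hCH]
    · have h1 : ∑ c ∈ C, Nat.card H * ((F c).card + 1) = C.card * Nat.card Ga := by
        rw [Finset.sum_congr rfl hFc, Finset.sum_const, smul_eq_mul]
      rw [← Finset.mul_sum, hCH, Nat.mul_left_cancel_iff Nat.card_pos, Finset.sum_add_distrib,
        Finset.sum_const, smul_eq_mul, mul_one] at h1
      exact h1
    · intro c hc d hd hcd
      rw [Function.onFun, Finset.disjoint_left]
      intro x hx hx'
      simp only [hF, Finset.mem_filter, Finset.mem_univ, true_and] at hx hx'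
      exact hx.2.2 (h3 x a c d (Finset.mem_erase.1 hc).1.symm hcd (Finset.mem_erase.1 hd).1.symm
        hx.1 hx.2.1 hx'.2.1)
  set T := Finset.univ.filter (fun x : G => x ∈ Ga) \ U with hT
  have hTH : T = Finset.univ.filter (fun x : G => x ∈ H) := by
    refine (Finset.eq_of_subset_of_card_le ?_ ?_).symm
    · intro x hx
      have hx' : x ∈ H := (Finset.mem_filter.1 hx).2
      refine Finset.mem_sdiff.2 ⟨Finset.mem_filter.2 ⟨Finset.mem_univ _, hHa hx'⟩, ?_⟩
      intro hxU
      obtain ⟨c, hc, hxc⟩ := Finset.mem_biUnion.1 hxU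
      simp only [hF, Finset.mem_filter, Finset.mem_univ, true_and] at hxc
      exact (Finset.mem_erase.1 hc).1 (hHfix x hx' hxc.2.2 c hxc.2.1)
    · rw [hT, Finset.card_sdiff_of_subset (by
          intro x hx
          obtain ⟨c, hc, hxc⟩ := Finset.mem_biUnion.1 hx
          simp only [hF, Finset.mem_filter, Finset.mem_univ, true_and] at hxc ⊢
          exact hxc.1),
        ← Fintype.card_subtype, ← Nat.card_eq_fintype_card, ← Fintype.card_subtype,
        ← Nat.card_eq_fintype_card]
      show Nat.card Ga - U.card ≤ Nat.card H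
      omega
  have hmem : g * u * g⁻¹ ∈ T := by
    refine Finset.mem_sdiff.2 ⟨Finset.mem_filter.2 ⟨Finset.mem_univ _,
      Ga.mul_mem (Ga.mul_mem hg (hHa hu)) (Ga.inv_mem hg)⟩, ?_⟩
    intro hx
    obtain ⟨c, hc, hxc⟩ := Finset.mem_biUnion.1 hx
    simp only [hF, Finset.mem_filter, Finset.mem_univ, true_and] at hxc
    refine (Finset.mem_erase.1 hc).1 ?_
    have := hHfix u hu hu1 (g⁻¹ • c) (by
      conv_rhs => rw [← hxc.2.1]
      rw [smul_smul, smul_smul]; congr 1; group)
    rw [← smul_inv_smul g c, this]
    exact MulAction.mem_stabilizer_iff.1 hg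
  rw [hTH] at hmem
  exact (Finset.mem_filter.1 hmem).2

end Cfsg.Agent.S0878
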