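import Cfsg.Statements.S4607
import Cfsg.Agent.Lib.BrauerPairs.BlockAlgebra
import Cfsg.Agent.Lib.Blocks.ContribBound

set_option autoImplicit false
open Cfsg

namespace Cfsg.Agent.S4607

open Cfsg.Agent.Lib Cfsg.Agent.Lib.Blocks.Contrib

theorem eq_one_of_sq {a b d : ℕ} (hd : 0 < d) (h : a ^ 2 + b ^ 2 = 2 ^ d) (hodd : Odd a) :
    d = 1 := by
  obtain ⟨i, rfl⟩ := hodd
  obtain ⟨t, rfl⟩ : ∃ t, d = t + 1 := ⟨d - 1, by omega⟩
  rcases Nat.eq_zero_or_pos t with rfl | ht
  · rfl
  exfalso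
  obtain ⟨u, rfl⟩ : ∃ u, t = u + 1 := ⟨t - 1, by omega⟩
  obtain ⟨j, rfl | rfl⟩ := Nat.even_or_odd' b
  · have : (2 * i + 1) ^ 2 + (2 * j) ^ 2 = 2 * (2 * (i ^ 2 + i + j ^ 2)) + 1 := by ring
    rw [this, pow_succ] at h
    omega
  · have : (2 * i + 1) ^ 2 + (2 * j + 1) ^ 2 = 4 * (i ^ 2 + i + j ^ 2 + j) + 2 := by ring
    rw [this, pow_succ, pow_succ] at h
    omega

theorem ne_two_mul_sq {p g d n : ℕ} (hp : p.Prime) (h2 : p ≠ 2) (hn : 0 < n)
    (h : g ^ 2 * p ^ d = 2 * n ^ 2) : False := by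
  have hg : g ≠ 0 := by
    rintro rfl
    rw [zero_pow two_ne_zero, zero_mul] at h
    have := Nat.mul_pos two_pos (pow_pos hn 2)
    omega
  have e := congrArg (fun t : ℕ => t.factorization 2) h
  rw [Nat.factorization_mul (pow_ne_zero _ hg) (pow_ne_zero _ hp.ne_zero),
    Nat.factorization_mul two_ne_zero (pow_ne_zero _ hn.ne'), Nat.factorization_pow,
    Nat.factorization_pow, Nat.factorization_pow, Finsupp.add_apply, Finsupp.add_apply,
    Finsupp.smul_apply, Finsupp.smul_apply, Finsupp.smul_apply, Nat.prime_two.factorization_self,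
    hp.factorization, Finsupp.single_eq_of_ne (Ne.symm h2)] at e
  simp only [smul_eq_mul, mul_zero, add_zero] at e
  omega

theorem rank_one {G : Type*} [Group G] [Finite G] {p : ℕ} [Fact p.Prime] {M : Ideal Cfsg.AlgInt}
    [M.IsMaximal] (hM : Cfsg.IsPModular p M) {B : Set (Cfsg.IrrCharacter G)}
    (hB : Cfsg.IsPBlock M B) (h2 : Nat.card B = 2) : Cfsg.blockRank p B = 1 := by
  classical
  haveI := Fintype.ofFinite G
  have hne : Cfsg.blockDefect p B ≠ 0 := fun h => by
    have := (card_eq_one_iff hM hB).mpr h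
    omega
  have hle : Cfsg.blockRank p B ≤ 2 := h2 ▸ blockRank_le
  have hne2 : Cfsg.blockRank p B ≠ 2 := fun h => hne ((blockRank_eq_card_iff hM hB).mp (h.trans h2.symm))
  have hpos : Cfsg.blockRank p B ≠ 0 := by
    intro h
    obtain ⟨χ, hχ⟩ := Blocks.isPBlock_nonempty hB
    have hbot := Submodule.finrank_eq_zero.mp h
    rw [Submodule.span_eq_bot] at hbot
    have := congrFun (hbot _ ⟨χ, hχ, rfl⟩) 1
    simp only [Pi.zero_apply] at this
    rw [pRegularPart_apply, if_neg (by rw [orderOf_one]; exact (Fact.out : p.Prime).not_dvd_one)]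
      at this
    exact Cfsg.Agent.Lib.Characters.Basic.apply_one_ne_zero χ this
  omega


/-- Let G be a finite group, p a prime, M a maximal ideal of the algebraic integers containing p, and B a p-block of G with defect group D. Then B contains exactly two irreducible characters if and only if D has order 2. -/
theorem result {G : Type*} [Group G] [Finite G] (p : ℕ) [Fact p.Prime] (M : Ideal Cfsg.AlgInt) (hM : Cfsg.IsPModular p M) (B : Set (Cfsg.IrrCharacter G)) (hB : Cfsg.IsPBlock M B) (D : Subgroup G) (hD : Cfsg.IsDefectGroup p M B D) : Nat.card B = 2 ↔ Nat.card D = 2 := by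
  classical
  haveI : M.IsMaximal := hM.2.1
  haveI := Fintype.ofFinite G
  haveI : CharP (BrauerPairs.Bridge.Res M) p := BrauerPairs.Bridge.charP_res hM
  have hp : p.Prime := Fact.out
  have hcard : Nat.card D = p ^ Cfsg.blockDefect p B := Blocks.card_isDefectGroup hM hB hD
  constructor
  · intro h2
    have hd0 : Cfsg.blockDefect p B ≠ 0 := fun h => by
      have := (card_eq_one_iff hM hB).mpr h
      omega
    have hl := rank_one hM hB h2
    obtain ⟨n, hn, hsq⟩ := BrauerPairs.BlockAlgebra.exists_sum_sq hM hB hl h2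
    obtain ⟨g, a, d, hg, hd, hφ, hsum⟩ := BrauerPairs.RankOne.exists_phi hM hB hl
    have hsum' : g ^ 2 * p ^ Cfsg.blockDefect p B = 2 * n ^ 2 := by
      rw [← hsum, ← hsq, Finset.mul_sum]
      refine Finset.sum_congr rfl fun χ hχ => ?_
      rw [hd χ (mem_bset.mp hχ), mul_pow]
    have hp2 : p = 2 := by
      by_contra h
      exact ne_two_mul_sq hp h hn hsum'
    subst hp2
    have h1 : ∀ χ ∈ B, ¬ 2 ∣ orderOf (1 : G) := fun χ _ => by simp
    obtain ⟨χ₁, χ₂, hne, hB2⟩ := Finset.card_eq_two.mp ((card_bset B).trans h2)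
    rw [hB2, Finset.sum_pair hne] at hsum
    have hmem : ∀ χ, χ = χ₁ ∨ χ = χ₂ → χ ∈ B := fun χ h => mem_bset.mp (by rw [hB2]; simpa using h)
    have hodd : Odd (d χ₁) ∨ Odd (d χ₂) := by
      by_contra hno
      push Not at hno
      rw [Nat.not_odd_iff_even, Nat.not_odd_iff_even] at hno
      have hgC : (g : ℂ) ≠ 0 := Nat.cast_ne_zero.mpr hg.ne'
      have hz : ∀ χ ∈ B, (g : ℤ) * (d χ : ℤ) =
          (d χ : ℤ) * ∑ ψ ∈ bset B, a ψ * ((g : ℤ) * (d ψ : ℤ)) := by
        intro χ hχ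
        have h3 := hφ χ hχ 1 (h1 χ hχ)
        rw [BlocksChars5.Basic.apply_one, hd χ hχ, Finset.sum_congr rfl fun ψ hψ =>
          show (a ψ : ℂ) * (ψ : G → ℂ) 1 = ((a ψ * ((g : ℤ) * (d ψ : ℤ)) : ℤ) : ℂ) by
            rw [BlocksChars5.Basic.apply_one, hd ψ (mem_bset.mp hψ)]; push_cast; ring,
          ← Int.cast_sum] at h3
        exact_mod_cast h3
      have hd1 : (d χ₁ : ℤ) ≠ 0 := by
        intro h
        have h4 := BlocksChars5.Basic.degree_pos χ₁
        rw [hd χ₁ (hmem χ₁ (Or.inl rfl)), show d χ₁ = 0 by exact_mod_cast h, mul_zero] at h4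
        exact lt_irrefl 0 h4
      have h5 := hz χ₁ (hmem χ₁ (Or.inl rfl))
      rw [hB2, Finset.sum_pair hne] at h5
      have h6 : a χ₁ * (d χ₁ : ℤ) + a χ₂ * (d χ₂ : ℤ) = 1 :=
        mul_left_cancel₀ (mul_ne_zero hd1 (mod_cast hg.ne' : (g : ℤ) ≠ 0))
          (by linear_combination -h5)
      obtain ⟨i, hi⟩ := hno.1
      obtain ⟨j, hj⟩ := hno.2
      rw [hi, hj] at h6
      push_cast at h6
      have h7 : 2 * (a χ₁ * i + a χ₂ * j) = 1 := by linear_combination h6
      omega
    rw [hcard]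
    have hd1' : Cfsg.blockDefect 2 B = 1 := by
      rcases hodd with h | h
      · exact eq_one_of_sq (Nat.pos_of_ne_zero hd0) hsum h
      · exact eq_one_of_sq (Nat.pos_of_ne_zero hd0) (by rw [add_comm]; exact hsum) h
    rw [hd1', pow_one]
  · intro h2
    rw [h2] at hcard
    have hd0 : Cfsg.blockDefect p B ≠ 0 := fun h => by rw [h, pow_zero] at hcard; omega
    have hp2 : p = 2 := (Nat.prime_dvd_prime_iff_eq hp Nat.prime_two).mp
      (hcard ▸ dvd_pow_self p hd0)
    subst hp2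
    have hd1 : Cfsg.blockDefect 2 B = 1 :=
      Nat.pow_right_injective le_rfl (hcard.symm.trans (pow_one 2).symm)
    have hb := four_mul_card_le hM hB (p := 2)
    rw [hd1] at hb
    have h1 : Nat.card B ≠ 1 := fun h => hd0 ((card_eq_one_iff hM hB).mp h)
    haveI : Nonempty B := (Blocks.isPBlock_nonempty hB).to_subtype
    have h0 : 0 < Nat.card B := Nat.card_pos
    omega

end Cfsg.Agent.S4607
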