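import Cfsg.Statements.S4648
import Cfsg.Agent.Lib.BrauerPairs.BlockAlgebra
import Cfsg.Agent.Lib.BrauerPairs.CornerSmall
import Cfsg.Agent.Lib.BrauerPairs.SubsectionCount
import Cfsg.Agent.Lib.Watanabe.Lift
import Cfsg.Agent.Lib.Blocks.ContribBound
import Cfsg.Agent.S4633

set_option autoImplicit false
open Cfsg

namespace Cfsg.Agent.S4648

open Cfsg.Agent.Lib Cfsg.Agent.Lib.BrauerPairs Cfsg.Agent.Lib.BrauerPairs.Center
open Cfsg.Agent.Lib.BrauerPairs.Trunc Cfsg.Agent.Lib.BrauerPairs.Conj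
open Cfsg.Agent.Lib.BrauerPairs.Pairs Cfsg.Agent.Lib.BrauerPairs.Transport
open Cfsg.Agent.Lib.BrauerPairs.Maximal Cfsg.Agent.Lib.BrauerPairs.Bridge
open Cfsg.Agent.Lib.BrauerPairs.Local Cfsg.Agent.Lib.BrauerPairs.Fusion
open Cfsg.Agent.Lib.BrauerPairs.BlockAlgebra Cfsg.Agent.Lib.BrauerPairs.CornerAlgebra
open Cfsg.Agent.Lib.BrauerPairs.LiftRank Cfsg.Agent.Lib.Watanabe.Lift
open Cfsg.Agent.Lib.Blocks (localRing residue)
open Cfsg.Agent.Lib.Blocks.Contrib
open MonoidAlgebra Module

attribute [local instance] Ideal.Quotient.field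

universe u

variable {G : Type u} [Group G] [Fintype G] {M : Ideal Cfsg.AlgInt} [M.IsMaximal]

/-- The coefficient at the identity. -/
noncomputable def lamOne : MonoidAlgebra (Res M) G →ₗ[Res M] Res M :=
  (Finsupp.lapply 1).comp (MonoidAlgebra.coeffLinearEquiv (Res M)).toLinearMap

theorem lamOne_apply (x : MonoidAlgebra (Res M) G) : lamOne x = x.coeff 1 := rfl

theorem lamOne_comm (x y : MonoidAlgebra (Res M) G) : lamOne (x * y) = lamOne (y * x) := by
  classical
  let φ : G → Res M := fun g => if g = 1 then 1 else 0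
  have key : ∀ z : MonoidAlgebra (Res M) G, lamOne z = ev φ z := by
    intro z
    induction z using MonoidAlgebra.induction_on with
    | add a b ha hb => rw [map_add, map_add, ha, hb]
    | smul r a ha => rw [map_smul, map_smul, ha]
    | of g =>
      rw [MonoidAlgebra.of_apply, lamOne_apply, ev_single, one_mul, coeff_single,
        Finsupp.single_apply]
  rw [key, key]
  refine ev_mul_comm (fun g h => ?_) x y
  simp [φ, conj_eq_one_iff]

theorem eq_zero_of_lamOne (x : MonoidAlgebra (Res M) G) (h : ∀ y, lamOne (x * y) = 0) : x = 0 := by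
  ext g
  have h1 := h (single g⁻¹ 1)
  rw [lamOne_apply, coeff_mul_single_apply] at h1
  simpa using h1

theorem trace_opR_eq (c : MonoidAlgebra ℂ G) :
    LinearMap.trace ℂ (G → ℂ) (opR c) = (Nat.card G : ℂ) * c.coeff 1 := by
  classical
  rw [LinearMap.trace_eq_matrix_trace ℂ (Pi.basisFun ℂ G), Matrix.trace]
  simp only [Matrix.diag, LinearMap.toMatrix_apply, Pi.basisFun_apply, Pi.basisFun_repr]
  have h1 : ∀ g : G, opR c (Pi.single g (1 : ℂ)) g = c.coeff 1 := by
    intro g
    rw [opR_apply, Finset.sum_eq_single 1]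
    · simp
    · intro k _ hk
      rw [Pi.single_eq_of_ne (fun h => hk (by simpa using h)), mul_zero]
    · intro h
      exact absurd (Finset.mem_univ _) h
  rw [Finset.sum_congr rfl fun g _ => h1 g, Finset.sum_const, Finset.card_univ,
    ← Nat.card_eq_fintype_card, nsmul_eq_mul]

/-- The projective module of an idempotent has dimension divisible by the `p`-part of `|G|`. -/
theorem pow_dvd_finrank_rightFix {p : ℕ} [Fact p.Prime] (hM : Cfsg.IsPModular p M)
    {f : MonoidAlgebra (Res M) G} (hf : f * f = f) :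
    p ^ (Nat.card G).factorization p ∣ finrank (Res M) (CornerSmall.rightFix (Res M) f) := by
  classical
  obtain ⟨F, hF, hFf, -⟩ := exists_lift hf (∅ : Set G) (by simp)
  set Fc := MonoidAlgebra.mapRingHom G (localRing M).subtype F with hFc
  have hFc2 : Fc * Fc = Fc := by rw [hFc, ← map_mul, hF]
  have hFcc : ∀ g, Fc.coeff g = (F.coeff g : ℂ) := fun g => by simp [hFc]
  set Ek := opR f with hEk
  set Ec := opR Fc with hEc
  have hc2 := opR_idem hFc2
  have hk2 := opR_idem hf
  let L : (G → Res M) → G → localRing M := fun u g => ∑ k : G, F.coeff k * sec (u (g * k))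
  have hL : ∀ u g, residue M (L u g) = Ek u g := fun u g => by
    rw [hEk, opR_apply, map_sum]
    refine Finset.sum_congr rfl fun k _ => ?_
    rw [map_mul, residue_sec, ← coeff_red, hFf]
  have hLc : ∀ u, (fun g => (L u g : ℂ)) = Ec (fun g => (sec (u g) : ℂ)) := fun u => by
    funext g
    rw [hEc, opR_apply]
    simp only [L]
    push_cast
    exact Finset.sum_congr rfl fun k _ => by rw [hFcc]
  have h1 : finrank (Res M) (LinearMap.range Ek) ≤ finrank ℂ (LinearMap.range Ec) := by
    refine finrank_le_of_lift _ _ fun u hu => ⟨L u, ?_, fun g => ?_⟩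
    · rw [hLc]
      exact LinearMap.mem_range_self _ _
    · obtain ⟨v, rfl⟩ := hu
      rw [hL, hk2]
  have h2 : finrank (Res M) (LinearMap.ker Ek) ≤ finrank ℂ (LinearMap.ker Ec) := by
    refine finrank_le_of_lift _ _ fun u hu => ⟨fun g => sec (u g) - L u g, ?_, fun g => ?_⟩
    · rw [LinearMap.mem_ker]
      have e : (fun g => ((sec (u g) - L u g : localRing M) : ℂ)) =
          (fun g => (sec (u g) : ℂ)) - fun g => (L u g : ℂ) := by funext g; simp
      rw [e, hLc, map_sub, hEc, hc2, sub_self]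
    · rw [map_sub, residue_sec, hL, show Ek u = 0 from hu]
      simp
  have h3 := LinearMap.finrank_range_add_finrank_ker Ek
  have h4 := LinearMap.finrank_range_add_finrank_ker Ec
  rw [finrank_fintype_fun_eq_card] at h3 h4
  have h5 : finrank (Res M) (LinearMap.range Ek) = finrank ℂ (LinearMap.range Ec) := by
    omega
  have h6 : finrank (Res M) (LinearMap.range Ek) =
      finrank (Res M) (CornerSmall.rightFix (Res M) f) := by
    have e1 : LinearMap.range Ek =
        (LinearMap.range (LinearMap.mulRight (Res M) f).dualMap).map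
          (ev (R := Res M) (G := G)).symm.toLinearMap := by
      rw [hEk, opR, LinearMap.range_comp, LinearMap.range_comp_of_range_eq_top _
        (LinearEquiv.range _)]
    rw [e1, LinearEquiv.finrank_map_eq, LinearMap.finrank_range_dualMap_eq_finrank_range]
    refine congrArg (fun S : Submodule (Res M) (MonoidAlgebra (Res M) G) =>
      finrank (Res M) S) ?_
    ext x
    rw [LinearMap.mem_range, CornerSmall.mem_rightFix]
    constructor
    · rintro ⟨y, rfl⟩
      rw [LinearMap.mulRight_apply, mul_assoc, hf]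
    · intro hx
      exact ⟨x, by rw [LinearMap.mulRight_apply, hx]⟩
  have h7 : (finrank ℂ (LinearMap.range Ec) : ℂ) = (Nat.card G : ℂ) * Fc.coeff 1 := by
    rw [← trace_opR_eq, ← (LinearMap.IsProj.trace
      ⟨fun c => LinearMap.mem_range_self Ec c, by rintro _ ⟨c, rfl⟩; exact hc2 c⟩)]
  refine Blocks.pow_dvd_of_div_mem_localRing hM ?_
  rw [← h6, h5, h7, natCast_card_eq p G, mul_assoc,
    mul_div_cancel_left₀ _ (pow_ne_zero _ (Nat.cast_ne_zero.mpr (Fact.out : p.Prime).ne_zero))]
  refine mul_mem (natCast_mem _ _) ?_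
  rw [hFcc]
  exact (F.coeff 1).2

open scoped Classical in
/-- A block with regular rank one and at most four characters. -/
theorem exists_dim {p : ℕ} [Fact p.Prime] (hM : Cfsg.IsPModular p M)
    {B : Set (Cfsg.IrrCharacter G)} (hB : Cfsg.IsPBlock M B)
    (hl : Cfsg.blockRank p B = 1) (h4 : Nat.card B ≤ 4) :
    ∃ n : ℕ, 0 < n ∧ ∑ χ ∈ (Set.toFinite B).toFinset,
      Cfsg.charDegree (χ : G → ℂ) ^ 2 = Nat.card B * n ^ 2 ∧
      p ^ (Nat.card G).factorization p ∣ n * Nat.card B := by
  classical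
  haveI : CharP (Bridge.Res M) p := Bridge.charP_res hM
  set e := eBar hB with he
  have hne : e ≠ 0 := fun h => Blocks.blockIdemBar_ne_zero hB (Subtype.ext h)
  obtain ⟨n, hn, π, hπ, hπe⟩ :=
    SimpleRep.exists_rep (k := Bridge.Res M) (eBar_mul_self hB) (eBar_comm hB) hne
  obtain ⟨N, hN⟩ := SimpleRep.exists_prod_eq_zero (k := Bridge.Res M) (eBar_mul_self hB)
    (eBar_comm hB) (S := (kerPart π e : Set (MonoidAlgebra (Bridge.Res M) G)))
    (fun x hx => (mem_kerPart.mp hx).1) (fun m ρ hρ hρe x hx => by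
      rcases Nat.eq_zero_or_pos m with rfl | hm
      · exact Subsingleton.elim _ _
      obtain ⟨y, hy⟩ := hπ (Matrix.single ⟨0, hn⟩ ⟨0, hn⟩ 1)
      refine SimpleRep.eq_zero_of_trace fun Y => ?_
      obtain ⟨a, rfl⟩ := hρ Y
      rw [← map_mul]
      have h := trace_mul_trace hM hB hl hn hm π ρ hπe hρe y (a * x)
      rw [hy, Matrix.trace_single_eq_same, one_mul, map_mul π, (mem_kerPart.mp hx).2, mul_zero,
        Matrix.trace_zero, zero_mul] at h
      exact h)
  rw [Submodule.span_eq] at hN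
  obtain ⟨U⟩ := exists_units (eBar_mul_self hB) (eBar_comm hB) hπ hπe hN ⟨0, hn⟩
  have h1 := finrank_leftFix_eq (eBar_mul_self hB) (eBar_comm hB) hπe hN U
  have h2 := CornerSmall.finrank_corner_eq (eBar_mul_self hB) (eBar_comm hB) hπe hN U
    lamOne lamOne_comm eq_zero_of_lamOne (by rw [finrank_traceForms]; exact h4)
  rw [finrank_traceForms] at h2
  have h5 := CornerSmall.finrank_rightFix_eq (eBar_mul_self hB) (eBar_comm hB) hπe hN U
  rw [h2] at h5
  refine ⟨n, hn, ?_, h5 ▸ pow_dvd_finrank_rightFix hM U.f_idem⟩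
  have h3 := finrank_eA hB
  rw [h1, h2] at h3
  have h6 : ((∑ χ ∈ (Set.toFinite B).toFinset, Cfsg.charDegree (χ : G → ℂ) ^ 2 : ℕ) : ℂ) =
      ((n * n * Nat.card B : ℕ) : ℂ) := by
    rw [h3]
    push_cast
    exact Finset.sum_congr rfl fun χ _ => by rw [BlocksChars5.Basic.apply_one]
  rw [Nat.cast_inj] at h6
  rw [h6]
  ring

open scoped Classical in
/-- The order of the defect group is the number of characters. -/
theorem card_defect {p : ℕ} [Fact p.Prime] (hM : Cfsg.IsPModular p M)
    {B : Set (Cfsg.IrrCharacter G)} (hB : Cfsg.IsPBlock M B)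
    (hl : Cfsg.blockRank p B = 1) (h4 : Nat.card B ≤ 4) :
    p ^ Cfsg.blockDefect p B = Nat.card B := by
  classical
  have hp : p.Prime := Fact.out
  haveI : Nonempty B := (Blocks.isPBlock_nonempty hB).to_subtype
  have hk0 : Nat.card B ≠ 0 := Nat.card_pos.ne'
  obtain ⟨n, hn, hsum, hdvd⟩ := exists_dim hM hB hl h4
  obtain ⟨g, -, d, hg, hd, -, hd2⟩ := RankOne.exists_phi hM hB hl
  have hsum' : g ^ 2 * p ^ Cfsg.blockDefect p B = Nat.card B * n ^ 2 := by
    rw [← hd2, ← hsum, Finset.mul_sum]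
    refine Finset.sum_congr rfl fun χ hχ => ?_
    rw [hd χ (mem_bset.mp hχ), mul_pow]
  have hle : Nat.card B ≤ p ^ Cfsg.blockDefect p B := by
    rw [← hd2, ← card_bset, Finset.card_eq_sum_ones]
    refine Finset.sum_le_sum fun χ hχ => Nat.one_le_pow _ _ (Nat.pos_of_ne_zero fun h => ?_)
    have h1 := BlocksChars5.Basic.degree_pos χ
    rw [hd χ (mem_bset.mp hχ), h, mul_zero] at h1
    exact lt_irrefl 0 h1
  obtain ⟨χ₀, hχ₀, h₀⟩ := exists_height_zero (p := p) hB
  have hvg : g.factorization p ≤ minVdeg p B := by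
    rw [← h₀]
    refine (Nat.factorization_le_iff_dvd hg.ne' (BlocksChars5.Basic.degree_pos χ₀).ne').mpr
      (Dvd.intro _ (hd χ₀ hχ₀).symm) p
  have ha := minVdeg_add_blockDefect (p := p) hB
  have hv := congrArg (fun t : ℕ => t.factorization p) hsum'
  rw [Nat.factorization_mul (pow_ne_zero _ hg.ne') (pow_ne_zero _ hp.ne_zero),
    Nat.factorization_mul hk0 (pow_ne_zero _ hn.ne'), Nat.factorization_pow,
    Nat.factorization_pow, Nat.factorization_pow, Finsupp.add_apply, Finsupp.add_apply,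
    Finsupp.smul_apply, Finsupp.smul_apply, Finsupp.smul_apply, hp.factorization_self] at hv
  simp only [smul_eq_mul, mul_one] at hv
  have hv2 := (hp.pow_dvd_iff_le_factorization (mul_ne_zero hn.ne' hk0)).mp hdvd
  rw [Nat.factorization_mul hn.ne' hk0, Finsupp.add_apply] at hv2
  have hdk : p ^ Cfsg.blockDefect p B ∣ Nat.card B :=
    (hp.pow_dvd_iff_le_factorization hk0).mpr (by omega)
  exact le_antisymm (Nat.le_of_dvd (Nat.pos_of_ne_zero hk0) hdk) hle

/-- An automorphism of a group of order `2`, `3` or `4` fixing a nonidentity element. -/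
theorem aut_sq_eq_one {P : Type*} [Group P] [Finite P] (σ : MulAut P) {u : P} (hu1 : u ≠ 1)
    (hu : σ u = u) (h4 : Nat.card P ≤ 4) : σ * σ = 1 ∧ (Nat.card P ≤ 3 → σ = 1) := by
  classical
  haveI := Fintype.ofFinite P
  rw [Nat.card_eq_fintype_card] at h4 ⊢
  have hout : ∀ v, v ≠ 1 → v ≠ u → σ v ≠ 1 ∧ σ v ≠ u := fun v h1 h2 =>
    ⟨fun h => h1 (σ.injective (h.trans (map_one σ).symm)),
      fun h => h2 (σ.injective (h.trans hu.symm))⟩
  have hbound : ∀ s : Finset P, 1 ∉ s → u ∉ s → s.card + 2 ≤ Fintype.card P := by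
    intro s h1 h2
    have : (insert 1 (insert u s)).card = s.card + 2 := by
      rw [Finset.card_insert_of_notMem (by simp [h1, Ne.symm hu1]), Finset.card_insert_of_notMem h2]
    exact this ▸ Finset.card_le_univ _
  refine ⟨MulEquiv.ext fun v => ?_, fun h3 => MulEquiv.ext fun v => ?_⟩
  · rw [MulAut.mul_apply, MulAut.one_apply]
    by_cases h1 : v = 1
    · simp [h1]
    by_cases h2 : v = u
    · rw [h2, hu, hu]
    by_contra hne
    obtain ⟨a1, a2⟩ := hout v h1 h2
    obtain ⟨b1, b2⟩ := hout _ a1 a2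
    have hne1 : σ v ≠ v := fun h => hne (by rw [h, h])
    have hne2 : σ (σ v) ≠ σ v := fun h => hne1 (σ.injective h)
    have h := hbound {v, σ v, σ (σ v)} (by simp [Ne.symm h1, Ne.symm a1, Ne.symm b1])
      (by simp [Ne.symm h2, Ne.symm a2, Ne.symm b2])
    rw [Finset.card_eq_three.mpr ⟨v, σ v, σ (σ v), Ne.symm hne1, Ne.symm hne, Ne.symm hne2, rfl⟩]
      at h
    omega
  · rw [MulAut.one_apply]
    by_cases h1 : v = 1
    · simp [h1]
    by_cases h2 : v = u
    · rw [h2, hu]
    by_contra hne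
    obtain ⟨a1, a2⟩ := hout v h1 h2
    have h := hbound {v, σ v} (by simp [Ne.symm h1, Ne.symm a1])
      (by simp [Ne.symm h2, Ne.symm a2])
    rw [Finset.card_pair (Ne.symm hne)] at h
    omega

/-- Let B be a block of the finite group G relative to a maximal ideal M of the algebraic integers containing the prime p, with a nontrivial defect group D. If B has p-regular rank 1 and at most four irreducible characters, then B is nilpotent, D has exactly as many elements as B has irreducible characters, and p is 2 or 3. -/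
theorem result {G : Type*} [Group G] [Finite G] (p : ℕ) [Fact p.Prime] (M : Ideal Cfsg.AlgInt) (hM : Cfsg.IsPModular p M) (B : Set (Cfsg.IrrCharacter G)) (hB : Cfsg.IsPBlock M B) (D : Subgroup G) (hD : Cfsg.IsDefectGroup p M B D) (hD1 : D ≠ ⊥) (hl : Cfsg.blockRank p B = 1) (hk : Nat.card B ≤ 4) : Cfsg.IsNilpotentBlock p M B ∧ Nat.card D = Nat.card B ∧ (p = 2 ∨ p = 3) := by
  classical
  haveI : M.IsMaximal := hM.2.1
  haveI : CharP (Res M) p := charP_res hM
  haveI := Fintype.ofFinite G
  have hp : p.Prime := Fact.out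
  have hDk : Nat.card D = Nat.card B := by
    rw [Blocks.card_isDefectGroup hM hB hD]
    exact card_defect hM hB hl hk
  have hIs := (isDefectGroup_iff hB D).mp hD
  have hP : IsPGroup p D := hIs.isPGroup
  obtain ⟨m, hm⟩ := IsPGroup.iff_card.mp hP
  have hm0 : m ≠ 0 := fun h => hD1 (Subgroup.card_eq_one.mp (by rw [hm, h, pow_zero]))
  have hm4 : p ^ m ≤ 4 := by rw [← hm, hDk]; exact hk
  have hp4 : p ≤ 4 := (Nat.le_self_pow hm0 p).trans hm4
  have hp23 : p = 2 ∨ p = 3 := by
    have := hp.two_le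
    rcases (show p = 2 ∨ p = 3 ∨ p = 4 by omega) with h | h | h
    · exact Or.inl h
    · exact Or.inr h
    · exact absurd (h ▸ hp : Nat.Prime 4) (by norm_num)
  have hm2 : m ≤ 2 := by
    by_contra h
    have h1 : 2 ^ 3 ≤ p ^ m :=
      (Nat.pow_le_pow_left hp.two_le 3).trans (Nat.pow_le_pow_right hp.pos (by omega))
    omega
  have hab : ∀ x ∈ D, ∀ y ∈ D, x * y = y * x := by
    intro x hx y hy
    rcases (show m = 1 ∨ m = 2 by omega) with rfl | rfl
    · haveI : IsCyclic D := isCyclic_of_prime_card (p := p) (by rw [hm, pow_one])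
      letI : CommGroup D := IsCyclic.commGroup
      exact congrArg Subtype.val (mul_comm (⟨x, hx⟩ : D) ⟨y, hy⟩)
    · exact congrArg Subtype.val
        ((IsPGroup.commGroupOfCardEqPrimeSq (p := p) (G := D) hm).mul_comm ⟨x, hx⟩ ⟨y, hy⟩)
  obtain ⟨c, hpair⟩ := exists_pairOf_isDef hIs
  have htop : Top p (⟨D, c⟩ : Idx (Res M) G) := top_of_isDef hpair hIs
  set b : Idx (Res M) G := ⟨D, c⟩ with hb
  have hTN : stab b ≤ Subgroup.normalizer (D : Set G) := stab_le_normalizer b
  have hA := Cfsg.Agent.S4633.range_not_dvd (p := p) (a := b) htop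
    (fun x hx => Subgroup.mem_centralizer_iff.mpr fun y hy => hab y hy x hx) (stab b) hTN
    (fun g hg => (mem_stab_iff.mp hg).2)
  set ρ := D.normalizerMonoidHom.comp (Subgroup.inclusion hTN) with hρ
  have hker : ∀ x, ∀ hx : x ∈ stab b, ρ ⟨x, hx⟩ = 1 → x ∈ Subgroup.centralizer (D : Set G) := by
    intro x hx h
    refine Subgroup.mem_centralizer_iff.mpr fun y hy => ?_
    have h1 := congrArg (fun σ : MulAut D => ((σ ⟨y, hy⟩ : D) : G)) h
    simp only [hρ, MonoidHom.comp_apply, MulAut.one_apply] at h1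
    have h2 : x * y * x⁻¹ = y := h1
    exact (mul_inv_eq_iff_eq_mul.mp h2).symm
  have hfree : ∀ x ∈ stab b, ∀ u ∈ D, u ≠ 1 → x * u = u * x →
      x ∈ Subgroup.centralizer (D : Set G) := by
    intro x hx u hu hu1 hxu
    refine hker x hx ?_
    have hfix : ρ ⟨x, hx⟩ ⟨u, hu⟩ = ⟨u, hu⟩ := Subtype.ext (mul_inv_eq_iff_eq_mul.mpr hxu)
    obtain ⟨hsq, h3⟩ := aut_sq_eq_one (ρ ⟨x, hx⟩) (u := ⟨u, hu⟩)
      (fun h => hu1 (congrArg Subtype.val h)) hfix (by rw [hDk]; exact hk)
    by_cases hD3 : Nat.card D ≤ 3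
    · exact h3 hD3
    have hp2 : p = 2 := by
      rcases hp23 with h | h
      · exact h
      · subst h
        rcases (show m = 1 ∨ m = 2 by omega) with rfl | rfl
        · rw [hm] at hD3; norm_num at hD3
        · norm_num at hm4
    haveI := Fintype.ofFinite ρ.range
    have ho : orderOf (ρ ⟨x, hx⟩) ∣ 2 := orderOf_dvd_of_pow_eq_one (by rw [pow_two]; exact hsq)
    rcases (Nat.dvd_prime Nat.prime_two).mp ho with h | h
    · exact orderOf_eq_one_iff.mp h
    · refine absurd ?_ hA
      have hdvd : orderOf (⟨ρ ⟨x, hx⟩, ⟨_, rfl⟩⟩ : ρ.range) ∣ Nat.card ρ.range :=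
        orderOf_dvd_natCard _
      rw [← Subgroup.orderOf_coe] at hdvd
      rw [hp2]
      exact h ▸ hdvd
  obtain ⟨R, hR⟩ := SubsectionCount.exists_orbitReps (p := p) b
  have hcount := SubsectionCount.card_eq_of_free hM htop hpair hab hfree hR
  rw [toSet_blk, hl] at hcount
  have hall : ∀ u ∈ D, u ≠ 1 → u ∈ R := by
    haveI := Fintype.ofFinite D
    have hsub : R ⊆ (Finset.univ.filter fun u : G => u ∈ D).erase 1 := fun r hr =>
      Finset.mem_erase.mpr ⟨hR.ne_one r hr, Finset.mem_filter.mpr ⟨Finset.mem_univ _, hR.mem r hr⟩⟩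
    have hcard : ((Finset.univ.filter fun u : G => u ∈ D).erase 1).card = Nat.card B - 1 := by
      rw [Finset.card_erase_of_mem (Finset.mem_filter.mpr ⟨Finset.mem_univ _, one_mem D⟩),
        ← Fintype.card_subtype, ← Nat.card_eq_fintype_card, ← hDk]
    have heq := Finset.eq_of_subset_of_card_le hsub (by rw [hcard]; omega)
    intro u hu hu1
    rw [heq]
    exact Finset.mem_erase.mpr ⟨hu1, Finset.mem_filter.mpr ⟨Finset.mem_univ _, hu⟩⟩
  refine ⟨?_, hDk, hp23⟩
  rw [isNilpotentBlock_iff hB]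
  refine Abelian.nilp_of_stab_le htop hpair hab fun x hx => ?_
  refine Subgroup.mem_centralizer_iff.mpr fun y hy => ?_
  rcases eq_or_ne y 1 with rfl | hy1
  · simp
  have hyD : x * y * x⁻¹ ∈ D := (Subgroup.mem_normalizer_iff.mp (hTN hx) y).mp hy
  have hne : x * y * x⁻¹ ≠ 1 := fun h => hy1 (conj_eq_one_iff.mp h)
  have h := hR.unique y (hall y hy hy1) _ (hall _ hyD hne) x hx rfl
  exact (mul_inv_eq_iff_eq_mul.mp h.symm).symm

end Cfsg.Agent.S4648
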