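import Cfsg.Statements.S1643
import Cfsg.Agent.Lib.SporStruct.SylowCount
import Cfsg.Agent.Lib.M24Config.DataL23
import Cfsg.Agent.Lib.Golay.M24

set_option autoImplicit false
open scoped Pointwise
open Cfsg

namespace Cfsg.Agent.S1643

open Cfsg.Agent.Lib Cfsg.Agent.Lib.Computation Cfsg.Agent.Lib.Golay
open Cfsg.Agent.Lib.FusionAlperin.MathieuInst Cfsg.Agent.Lib.MathieuBlocks.Search
open Cfsg.Agent.Lib.M24Config (gsub gperm_mem_gsub card_gsub)
open Cfsg.Agent.Lib.M24Config.DataL23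

/-- Code of `x ↦ 2 * x`. -/
def m2C : ℕ := 983435072843990828779021698901151808

/-- Code of an element conjugating the element of order 11 to its cube. -/
def w5C : ℕ := 970459361523271695787015306425278496

/-- Code of an element conjugating the element of order 11 to its square. -/
def w10C : ℕ := 15678632630496079850456276719587511

def pos23 : List (ℕ × ℕ) := [(0, 0), (0, 1), (0, 2), (0, 3), (0, 4), (0, 5), (0, 6), (0, 7), (0, 8), (0, 9), (0, 10), (0, 11), (0, 12), (0, 13), (0, 14), (0, 15), (0, 16), (0, 17), (0, 18), (0, 19), (0, 20), (0, 21), (0, 22), (1, 0)]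

def pos11' : List (ℕ × ℕ) := [(2, 0), (0, 0), (0, 1), (0, 8), (0, 2), (1, 0), (0, 9), (1, 9), (0, 3), (0, 5), (1, 1), (1, 4), (0, 10), (0, 7), (1, 10), (1, 8), (0, 4), (1, 3), (0, 6), (1, 7), (1, 2), (1, 6), (1, 5), (3, 0)]

theorem cent23 : certOk shiftCode shiftCode 23 [0, 23] pos23 [0] []
    (fun c => Nat.beq c oneCode) = true := by decide +kernel

theorem noInv23 : certOk shiftCode (pwCode shiftCode 22) 23 [0, 23] pos23 [0] []
    (fun _ => false) = true := by decide +kernel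

theorem cent11' : certOk m2C m2C 11 [1, 5, 0, 23] pos11' [1, 5] []
    (fun c => Nat.beq c oneCode) = true := by decide +kernel

theorem noInv11' : certOk m2C (pwCode m2C 10) 11 [1, 5, 0, 23] pos11' [1, 5] [23]
    (fun _ => false) = true := by decide +kernel

theorem gperm_order {c i q : ℕ} [Fact q.Prime] (hc : okCode c = true) (hi : i < 24)
    (hm : getW 5 c i ≠ i) (hp : pwCode c q = oneCode) : orderOf (gperm c) = q := by
  refine orderOf_eq_prime ?_ ?_
  · rw [← (pwCode_spec hc q).2, hp, gperm_oneCode]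
  · intro e
    apply hm
    have e' : gperm c (pt i) = pt i := by rw [e]; rfl
    have e2 := congrArg idx e'
    rwa [idx_gperm hc, idx_pt hi] at e2

theorem gperm_conj {c d k : ℕ} (hc : okCode c = true) (hd : okCode d = true)
    (he : mulP 24 5 c d = mulP 24 5 (pwCode d k) c) :
    gperm c * gperm d * (gperm c)⁻¹ = gperm d ^ k := by
  rw [mul_inv_eq_iff_eq_mul, ← (pwCode_spec hd k).2, ← gperm_mul hc hd, he,
    gperm_mul (pwCode_spec hd k).1 hc]

variable {X : Subgroup (Equiv.Perm GolayPt)}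

theorem cent_of_cert {x q : ℕ} {reps first fixd : List ℕ} {pos : List (ℕ × ℕ)}
    (h : certOk x x q reps pos first fixd (fun c => Nat.beq c oneCode) = true) (hX : X ≤ M24)
    (hfix : ∀ g ∈ X, ∀ r ∈ fixd, g (pt r) = pt r) (a : X)
    (ha : (a : Equiv.Perm GolayPt) = gperm x) (u : X) (hu : u * a = a * u) :
    u ∈ Subgroup.zpowers a := by
  have hu' := congrArg Subtype.val hu
  rw [Subgroup.coe_mul, Subgroup.coe_mul, ha] at hu'
  obtain ⟨k, -, v, hv, hc⟩ := cert_spec_gen h (ha ▸ hX a.2) (fun r hr => ha ▸ hfix _ a.2 r hr)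
    (hX u.2) (hfix _ u.2) hu'
  rw [Nat.beq_eq] at hc
  refine ⟨k, Subtype.ext ?_⟩
  show ((a ^ (k : ℤ) : X) : Equiv.Perm GolayPt) = u
  rw [zpow_natCast, SubmonoidClass.coe_pow, ha, hv, ← gperm_codeOf v, hc, gperm_oneCode, mul_one]

theorem no_conj_of_cert {x n q : ℕ} {reps first fixd : List ℕ} {pos : List (ℕ × ℕ)}
    (hx : okCode x = true) (h : certOk x (pwCode x n) q reps pos first fixd (fun _ => false) = true)
    (hX : X ≤ M24) (hfix : ∀ g ∈ X, ∀ r ∈ fixd, g (pt r) = pt r) (a : X)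
    (ha : (a : Equiv.Perm GolayPt) = gperm x) (u : X) : u * a * u⁻¹ ≠ a ^ n := by
  intro he
  rw [mul_inv_eq_iff_eq_mul] at he
  have hu' := congrArg Subtype.val he
  rw [Subgroup.coe_mul, Subgroup.coe_mul, SubmonoidClass.coe_pow, ha,
    ← (pwCode_spec hx n).2] at hu'
  have hy : gperm (pwCode x n) ∈ X := by rw [(pwCode_spec hx n).2, ← ha]; exact pow_mem a.2 n
  obtain ⟨k, -, v, -, hv⟩ := cert_spec_gen h (hX hy) (hfix _ hy) (hX u.2) (hfix _ u.2) hu'
  exact absurd hv (by simp)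

theorem exponents {G : Type*} [Group G] {a : G} {q r m e : ℕ} (ha : orderOf a = q) (hq : 1 < q)
    (hno : ∀ u : G, u * a * u⁻¹ ≠ a ^ (q - 1))
    (hd : ∀ k < q, k = 0 ∨ k ^ e % q = q - 1 ∨ ∃ i < r, k = m ^ i % q) (u : G) (k : ℕ) (hk : k < q)
    (he : u * a * u⁻¹ = a ^ k) : ∃ i < r, k = m ^ i % q := by
  have hit : ∀ n : ℕ, u ^ n * a * (u ^ n)⁻¹ = a ^ (k ^ n) := by
    intro n
    induction n with
    | zero => simp
    | succ n ih =>
      rw [pow_succ', show u * u ^ n * a * (u * u ^ n)⁻¹ = u * (u ^ n * a * (u ^ n)⁻¹) * u⁻¹ by group,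
        ih, ← conj_pow, he, ← pow_mul, pow_succ' k]
  rcases hd k hk with h | h | h
  · subst h
    rw [pow_zero, mul_inv_eq_one] at he
    have : a = 1 := by simpa using he
    rw [this, orderOf_one] at ha; omega
  · exfalso
    apply hno (u ^ e)
    rw [hit e, ← pow_mod_orderOf, ha, h]
  · exact h

theorem facts : in23 m2C = true ∧ in23 w5C = true ∧ inM24 w10C = true ∧ inM24 invCode = true ∧
    inM24 shiftCode = true ∧ getW 5 shiftCode 23 = 23 ∧ inM24 m2C = true ∧
    pwCode shiftCode 23 = oneCode ∧ getW 5 shiftCode 1 ≠ 1 ∧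
    pwCode m2C 11 = oneCode ∧ getW 5 m2C 1 ≠ 1 ∧
    pwCode invCode 2 = oneCode ∧ getW 5 invCode 1 ≠ 1 ∧
    mulP 24 5 m2C shiftCode = mulP 24 5 (pwCode shiftCode 2) m2C ∧
    mulP 24 5 w5C m2C = mulP 24 5 (pwCode m2C 3) w5C ∧
    mulP 24 5 w10C m2C = mulP 24 5 (pwCode m2C 2) w10C ∧
    mulP 24 5 invCode m2C = mulP 24 5 (pwCode m2C 10) invCode := by decide +kernel

theorem arith23 : ([1, 2, 4, 8, 16, 32, 64, 128].all fun y =>
    [1, 3, 5, 7, 9, 15, 21, 35, 45, 63, 105, 315].all fun z =>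
      !(Nat.beq (253 * (y * z) / 253 % 23) 1 &&
        [1, 5].any fun d => Nat.beq (253 * (y * z) % (d * 11)) 0 &&
          Nat.beq (253 * (y * z) / (d * 11) % 11) 1) || Nat.beq (y * z) 1 ||
        Nat.beq (y * z) 40320) = true := by decide +kernel

theorem arith24 : ([1, 2, 4, 8, 16, 32, 64, 128].all fun y =>
    [1, 3, 5, 7, 9, 15, 21, 35, 45, 63, 105, 315].all fun z =>
      !(Nat.beq (6072 * (y * z) / 253 % 23) 1 &&
        [2, 10].any fun d => Nat.beq (6072 * (y * z) % (d * 11)) 0 &&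
          Nat.beq (6072 * (y * z) / (d * 11) % 11) 1) || Nat.beq (y * z) 1 ||
        Nat.beq (y * z) 40320) = true := by decide +kernel

theorem split40320 {j : ℕ} (h : j ∣ 40320) : ∃ y ∈ [1, 2, 4, 8, 16, 32, 64, 128],
    ∃ z ∈ [1, 3, 5, 7, 9, 15, 21, 35, 45, 63, 105, 315], j = y * z := by
  obtain ⟨y, z, hy, hz, e⟩ := Nat.dvd_mul.1 (show j ∣ 128 * 315 from h)
  have h1 : Nat.divisors 128 = ([1, 2, 4, 8, 16, 32, 64, 128] : List ℕ).toFinset := by decide +kernel
  have h2 : Nat.divisors 315 = ([1, 3, 5, 7, 9, 15, 21, 35, 45, 63, 105, 315] : List ℕ).toFinset := by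
    decide +kernel
  refine ⟨y, ?_, z, ?_, e.symm⟩
  · rw [← List.mem_toFinset, ← h1, Nat.mem_divisors]; exact ⟨hy, by norm_num⟩
  · rw [← List.mem_toFinset, ← h2, Nat.mem_divisors]; exact ⟨hz, by norm_num⟩

theorem not_sq_dvd {N q p n : ℕ} (h : n ∣ N) (hp : q * q = p) (hN : ¬ p ∣ N) : ¬ q * q ∣ n :=
  fun h' => hN (hp ▸ h'.trans h)

theorem mem_normalizer_of_conj {G : Type*} [Group G] [Finite G] {x w : G} {k : ℕ}
    (hw : w * x * w⁻¹ = x ^ k) : w ∈ Subgroup.normalizer (Subgroup.zpowers x : Set G) := by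
  have hmap : (Subgroup.zpowers x).map (MulAut.conj w).toMonoidHom = Subgroup.zpowers x := by
    refine Subgroup.eq_of_le_of_card_ge ?_ ?_
    · rw [MonoidHom.map_zpowers]
      refine Subgroup.zpowers_le.2 ⟨k, ?_⟩
      simp [MulAut.conj_apply, hw]
    · rw [Subgroup.card_map_of_injective (MulAut.conj w).injective]
  refine Subgroup.mem_normalizer_iff.2 fun z => ?_
  conv_rhs => rw [← hmap, Subgroup.mem_map_equiv]
  simp [MulAut.conj_symm_apply, mul_assoc]

theorem line_card : Nat.card (gsub line_gens) = 6072 := card_gsub line_check (by decide +kernel)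

theorem frob_card : Nat.card (gsub frob_gens) = 253 := card_gsub frob_check (by decide +kernel)

theorem gens_eq : line_gens = [shiftCode, m2C, invCode] ∧ frob_gens = [shiftCode, m2C] := by
  decide +kernel

theorem mem_frob : gperm shiftCode ∈ gsub frob_gens ∧ gperm m2C ∈ gsub frob_gens := by
  rw [gens_eq.2]; exact ⟨gperm_mem_gsub (by simp), gperm_mem_gsub (by simp)⟩

theorem mem_line : gperm shiftCode ∈ gsub line_gens ∧ gperm m2C ∈ gsub line_gens ∧
    gperm invCode ∈ gsub line_gens := by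
  rw [gens_eq.1]
  exact ⟨gperm_mem_gsub (by simp), gperm_mem_gsub (by simp), gperm_mem_gsub (by simp)⟩

theorem m23_le : Spor.M23 ≤ M24 := fun _ h => h.1

theorem fix23 : ∀ g ∈ Spor.M23, ∀ r ∈ [23], g (pt r) = pt r := by
  intro g hg r hr
  simp only [List.mem_cons, List.not_mem_nil, or_false] at hr
  subst hr
  exact hg.2

theorem fixNil : ∀ g ∈ X, ∀ r ∈ ([] : List ℕ), g (pt r) = pt r := fun _ _ _ hr => by simp at hr

/-- The Frobenius group is maximal in M23. -/
theorem max23 (K : Subgroup (Equiv.Perm GolayPt)) (h1 : gsub frob_gens ≤ K) (h2 : K ≤ Spor.M23) :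
    K = gsub frob_gens ∨ K = Spor.M23 := by
  obtain ⟨hm, hw5, -, -, hs, hs23, -, hsp, hs1, hap, ha1, -, -, hms, hwm, -, -⟩ := facts
  have ok : ∀ {c}, inM24 c = true → okCode c = true := fun h => okCode_of_inM24 h
  have ok3 : ∀ {c}, in23 c = true → inM24 c = true := fun {c} h => by
    simp only [in23, Bool.and_eq_true] at h; exact h.1
  haveI : Fact (Nat.Prime 23) := ⟨by norm_num⟩
  haveI : Fact (Nat.Prime 11) := ⟨by norm_num⟩
  let x : Spor.M23 := ⟨gperm shiftCode, gperm_mem_M24 hs, gperm_fix (ok hs) idx_none hs23⟩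
  let a : Spor.M23 := ⟨gperm m2C, mem23 _ hm⟩
  let w : Spor.M23 := ⟨gperm w5C, mem23 _ hw5⟩
  have hx : orderOf x = 23 := by
    rw [← Subgroup.orderOf_coe]; exact gperm_order (i := 1) (ok hs) (by norm_num) hs1 hsp
  have ha : orderOf a = 11 := by
    rw [← Subgroup.orderOf_coe]; exact gperm_order (i := 1) (ok (ok3 hm)) (by norm_num) ha1 hap
  have hax : a * x * a⁻¹ = x ^ 2 := Subtype.ext (by
    simpa [x, a] using gperm_conj (ok (ok3 hm)) (ok hs) hms)
  have hwa : w * a * w⁻¹ = a ^ 3 := Subtype.ext (by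
    simpa [w, a] using gperm_conj (ok (ok3 hw5)) (ok (ok3 hm)) hwm)
  have hcx : ∀ u, u * x = x * u → u ∈ Subgroup.zpowers x :=
    cent_of_cert cent23 m23_le fixNil x rfl
  have hca : ∀ u, u * a = a * u → u ∈ Subgroup.zpowers a :=
    cent_of_cert cent11' m23_le fixNil a rfl
  have hex : ∀ u : Spor.M23, ∀ k < 23, u * x * u⁻¹ = x ^ k → ∃ i < 11, k = 2 ^ i % 23 :=
    exponents (e := 11) hx (by norm_num) (no_conj_of_cert (ok hs) noInv23 m23_le fixNil x rfl)
      (by decide +kernel)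
  have hea : ∀ u : Spor.M23, ∀ k < 11, u * a * u⁻¹ = a ^ k → ∃ i < 5, k = 3 ^ i % 11 :=
    exponents (e := 5) ha (by norm_num) (no_conj_of_cert (ok (ok3 hm)) noInv11' m23_le fix23 a rfl)
      (by decide +kernel)
  set H := K.subgroupOf Spor.M23
  have hHc : Nat.card H = Nat.card K := Nat.card_congr (Subgroup.subgroupOfEquivOfLe h2).toEquiv
  obtain ⟨j, hj⟩ := Subgroup.card_dvd_of_le h1
  rw [frob_card] at hj
  have hj' : j ∣ 40320 := by
    have := Subgroup.card_dvd_of_le h2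
    rw [hj, card23, show (10200960 : ℕ) = 253 * 40320 by norm_num] at this
    exact Nat.dvd_of_mul_dvd_mul_left (by norm_num) this
  have hN : Nat.card H ∣ 10200960 := by rw [← card23]; exact Subgroup.card_subgroup_dvd_card H
  obtain ⟨d, hd1, hd2, hd3, hd4⟩ := SporStruct.SylowCount.count (r := 11) hcx hax hx hex
    (by decide +kernel) (n := 253 * j) (by rw [hHc, hj])
    (not_sq_dvd (hj ▸ hHc ▸ hN) rfl (by norm_num)) (h1 mem_frob.1)
  have hd : d = 11 := by
    have h11 := hd4 a (h1 mem_frob.2) (mem_normalizer_of_conj hax)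
    rw [ha] at h11
    rcases (Nat.dvd_prime (by norm_num : Nat.Prime 11)).1 hd1 with rfl | rfl
    · norm_num at h11
    · rfl
  subst hd
  obtain ⟨e, he1, he2, he3, -⟩ := SporStruct.SylowCount.count (r := 5) hca hwa ha hea
    (by decide +kernel) (n := 253 * j) (by rw [hHc, hj])
    (not_sq_dvd (hj ▸ hHc ▸ hN) rfl (by norm_num)) (h1 mem_frob.2)
  have he : e = 1 ∨ e = 5 := (Nat.dvd_prime (by norm_num : Nat.Prime 5)).1 he1
  obtain ⟨y, hy, z, hz, hyz⟩ := split40320 hj'
  have key := List.all_eq_true.1 (List.all_eq_true.1 arith23 y hy) z hz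
  simp only [Bool.or_eq_true, Bool.not_eq_true', Bool.and_eq_false_iff, Nat.beq_eq,
    List.any_eq_false, Bool.and_eq_true, not_and, ← hyz] at key
  rcases key with ((h | h) | h) | h
  · rw [← Bool.not_eq_true, Nat.beq_eq] at h
    exact absurd hd3 h
  · exact absurd he3 (h e (by rcases he with rfl | rfl <;> simp) (Nat.mod_eq_zero_of_dvd he2))
  · subst h
    exact Or.inl (Subgroup.eq_of_le_of_card_ge h1 (by rw [hj, frob_card])).symm
  · subst h
    exact Or.inr (Subgroup.eq_of_le_of_card_ge h2 (by rw [hj, card23]))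

/-- The projective group is maximal in M24. -/
theorem max24 (K : Subgroup (Equiv.Perm GolayPt)) (h1 : gsub line_gens ≤ K) (h2 : K ≤ M24) :
    K = gsub line_gens ∨ K = M24 := by
  obtain ⟨-, -, hw10, hi, hs, -, hm, hsp, hs1, hap, ha1, hip, hi1, hms, -, hwm, him⟩ := facts
  have ok : ∀ {c}, inM24 c = true → okCode c = true := fun h => okCode_of_inM24 h
  haveI : Fact (Nat.Prime 23) := ⟨by norm_num⟩
  haveI : Fact (Nat.Prime 11) := ⟨by norm_num⟩
  haveI : Fact (Nat.Prime 2) := ⟨Nat.prime_two⟩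
  let x : M24 := ⟨gperm shiftCode, gperm_mem_M24 hs⟩
  let a : M24 := ⟨gperm m2C, gperm_mem_M24 hm⟩
  let w : M24 := ⟨gperm w10C, gperm_mem_M24 hw10⟩
  let s : M24 := ⟨gperm invCode, gperm_mem_M24 hi⟩
  have hx : orderOf x = 23 := by
    rw [← Subgroup.orderOf_coe]; exact gperm_order (i := 1) (ok hs) (by norm_num) hs1 hsp
  have ha : orderOf a = 11 := by
    rw [← Subgroup.orderOf_coe]; exact gperm_order (i := 1) (ok hm) (by norm_num) ha1 hap
  have hs2 : orderOf s = 2 := by
    rw [← Subgroup.orderOf_coe]; exact gperm_order (i := 1) (ok hi) (by norm_num) hi1 hip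
  have hax : a * x * a⁻¹ = x ^ 2 := Subtype.ext (by simpa [x, a] using gperm_conj (ok hm) (ok hs) hms)
  have hwa : w * a * w⁻¹ = a ^ 2 := Subtype.ext (by
    simpa [w, a] using gperm_conj (ok hw10) (ok hm) hwm)
  have hsa : s * a * s⁻¹ = a ^ 10 := Subtype.ext (by
    simpa [s, a] using gperm_conj (ok hi) (ok hm) him)
  have hcx : ∀ u, u * x = x * u → u ∈ Subgroup.zpowers x := cent_of_cert cent23 le_rfl fixNil x rfl
  have hca : ∀ u, u * a = a * u → u ∈ Subgroup.zpowers a := cent_of_cert cent11' le_rfl fixNil a rfl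
  have hex : ∀ u : M24, ∀ k < 23, u * x * u⁻¹ = x ^ k → ∃ i < 11, k = 2 ^ i % 23 :=
    exponents (e := 11) hx (by norm_num) (no_conj_of_cert (ok hs) noInv23 le_rfl fixNil x rfl)
      (by decide +kernel)
  have hea : ∀ u : M24, ∀ k < 11, u * a * u⁻¹ = a ^ k → ∃ i < 10, k = 2 ^ i % 11 := by
    intro u k hk he
    have hk0 : k ≠ 0 := by
      rintro rfl
      rw [pow_zero, mul_inv_eq_one] at he
      have : a = 1 := by simpa using he
      rw [this, orderOf_one] at ha; omega
    interval_cases k <;> first | omega | decide +kernel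
  set H := K.subgroupOf M24
  have hHc : Nat.card H = Nat.card K := Nat.card_congr (Subgroup.subgroupOfEquivOfLe h2).toEquiv
  obtain ⟨j, hj⟩ := Subgroup.card_dvd_of_le h1
  rw [line_card] at hj
  have hj' : j ∣ 40320 := by
    have := Subgroup.card_dvd_of_le h2
    rw [hj, Golay.card_M24, show (244823040 : ℕ) = 6072 * 40320 by norm_num] at this
    exact Nat.dvd_of_mul_dvd_mul_left (by norm_num) this
  have hN : Nat.card H ∣ 244823040 := by rw [← Golay.card_M24]; exact Subgroup.card_subgroup_dvd_card H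
  obtain ⟨d, hd1, hd2, hd3, hd4⟩ := SporStruct.SylowCount.count (r := 11) hcx hax hx hex
    (by decide +kernel) (n := 6072 * j) (by rw [hHc, hj])
    (not_sq_dvd (hj ▸ hHc ▸ hN) rfl (by norm_num)) (h1 mem_line.1)
  have hd : d = 11 := by
    have h11 := hd4 a (h1 mem_line.2.1) (mem_normalizer_of_conj hax)
    rw [ha] at h11
    rcases (Nat.dvd_prime (by norm_num : Nat.Prime 11)).1 hd1 with rfl | rfl
    · norm_num at h11
    · rfl
  subst hd
  obtain ⟨e, he1, he2, he3, he4⟩ := SporStruct.SylowCount.count (r := 10) hca hwa ha hea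
    (by decide +kernel) (n := 6072 * j) (by rw [hHc, hj])
    (not_sq_dvd (hj ▸ hHc ▸ hN) rfl (by norm_num)) (h1 mem_line.2.1)
  have he : e = 2 ∨ e = 10 := by
    have h2' := he4 s (h1 mem_line.2.2) (mem_normalizer_of_conj hsa)
    rw [hs2] at h2'
    have : e ≤ 10 := Nat.le_of_dvd (by norm_num) he1
    interval_cases e <;> revert he1 h2' <;> decide
  obtain ⟨y, hy, z, hz, hyz⟩ := split40320 hj'
  have key := List.all_eq_true.1 (List.all_eq_true.1 arith24 y hy) z hz
  simp only [Bool.or_eq_true, Bool.not_eq_true', Bool.and_eq_false_iff, Nat.beq_eq,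
    List.any_eq_false, Bool.and_eq_true, not_and, ← hyz] at key
  rcases key with ((h | h) | h) | h
  · rw [← Bool.not_eq_true, Nat.beq_eq] at h
    exact absurd hd3 h
  · exact absurd he3 (h e (by rcases he with rfl | rfl <;> simp) (Nat.mod_eq_zero_of_dvd he2))
  · subst h
    exact Or.inl (Subgroup.eq_of_le_of_card_ge h1 (by rw [hj, line_card])).symm
  · subst h
    exact Or.inr (Subgroup.eq_of_le_of_card_ge h2 (by rw [hj, Golay.card_M24]))

theorem m2_apply : ∀ p : GolayPt, idx (Option.map (fun y : ZMod 23 => 2 * y) p) = getW 5 m2C (idx p) := by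
  decide +kernel

theorem m2_pow (i : ℕ) : ∀ p : GolayPt,
    (gperm m2C ^ i) p = Option.map (fun y : ZMod 23 => 2 ^ i * y) p := by
  have hok : okCode m2C = true := okCode_of_inM24 facts.2.2.2.2.2.2.1
  induction i with
  | zero => intro p; cases p <;> simp
  | succ i ih =>
    intro p
    rw [pow_succ', Equiv.Perm.mul_apply, ih]
    apply idx_injective
    rw [idx_gperm hok, ← m2_apply]
    cases p <;> simp [pow_succ', mul_assoc]

theorem sq_pow : ∀ z : ZMod 23, z = 0 ∨ ∃ i : Fin 11, z * z = 2 ^ (i : ℕ) := by decide +kernel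

theorem mul_mem_gsub {cs : List ℕ} (hm : gperm m2C ∈ gsub cs) {g : Equiv.Perm GolayPt}
    (hg : ∃ u : (ZMod 23)ˣ, IsSquare u ∧ g = Equiv.optionCongr (Units.mulLeft u)) : g ∈ gsub cs := by
  obtain ⟨_, ⟨v, rfl⟩, rfl⟩ := hg
  obtain h | ⟨i, hi⟩ := sq_pow (v : ZMod 23)
  · haveI : Fact (Nat.Prime 23) := ⟨by norm_num⟩
    exact absurd h v.ne_zero
  have e : Equiv.optionCongr (Units.mulLeft (v * v)) = gperm m2C ^ (i : ℕ) := by
    refine Equiv.ext fun p => ?_
    rw [m2_pow]
    cases p <;> simp [Units.mulLeft, hi]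
  rw [e]; exact pow_mem hm _

theorem m2_mem : ∃ u : (ZMod 23)ˣ, IsSquare u ∧ gperm m2C = Equiv.optionCongr (Units.mulLeft u) := by
  let u : (ZMod 23)ˣ := ⟨2, 12, by decide, by decide⟩
  refine ⟨u, ⟨⟨5, 14, by decide, by decide⟩, by ext; decide +kernel⟩, Equiv.ext fun p => ?_⟩
  rw [← pow_one (gperm m2C), m2_pow]
  cases p <;> simp [Units.mulLeft, u]

theorem closure_frob : Subgroup.closure ({Equiv.optionCongr (Equiv.addRight (1 : ZMod 23))} ∪
    {g : Equiv.Perm GolayPt | ∃ u : (ZMod 23)ˣ, IsSquare u ∧ g = Equiv.optionCongr (Units.mulLeft u)}) =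
    gsub frob_gens := by
  refine le_antisymm ((Subgroup.closure_le _).2 ?_) ?_
  · rintro g (rfl | hg)
    · rw [shift_eq]; exact mem_frob.1
    · exact mul_mem_gsub mem_frob.2 hg
  · rw [gens_eq.2, gsub, Subgroup.closure_le]
    rintro _ ⟨c, hc, rfl⟩
    simp only [Set.mem_ofPred_eq, List.mem_cons, List.not_mem_nil, or_false] at hc
    rcases hc with rfl | rfl
    · rw [← shift_eq]; exact Subgroup.subset_closure (Or.inl rfl)
    · exact Subgroup.subset_closure (Or.inr (m2_mem))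

theorem closure_line : Subgroup.closure ({Equiv.optionCongr (Equiv.addRight (1 : ZMod 23)), projInv} ∪
    {g : Equiv.Perm GolayPt | ∃ u : (ZMod 23)ˣ, IsSquare u ∧ g = Equiv.optionCongr (Units.mulLeft u)}) =
    gsub line_gens := by
  refine le_antisymm ((Subgroup.closure_le _).2 ?_) ?_
  · rintro g ((rfl | rfl) | hg)
    · rw [shift_eq]; exact mem_line.1
    · rw [projInv_eq]; exact mem_line.2.2
    · exact mul_mem_gsub mem_line.2.1 hg
  · rw [gens_eq.1, gsub, Subgroup.closure_le]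
    rintro _ ⟨c, hc, rfl⟩
    simp only [Set.mem_ofPred_eq, List.mem_cons, List.not_mem_nil, or_false] at hc
    rcases hc with rfl | rfl | rfl
    · rw [← shift_eq]; exact Subgroup.subset_closure (Or.inl (Or.inl rfl))
    · exact Subgroup.subset_closure (Or.inr m2_mem)
    · rw [← projInv_eq]; exact Subgroup.subset_closure (Or.inl (Or.inr rfl))

/-- PSL(2, 23) = ⟨t ↦ t+1, t ↦ u t (u square), t ↦ −1/t⟩ is maximal of order 6072 in the group of the length-24 code, and its point stabiliser 23:11 (order 253) is maximal in the Mathieu group of degree 23. -/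
theorem result : (Subgroup.closure ({Equiv.optionCongr (Equiv.addRight (1 : ZMod 23)), Cfsg.projInv} ∪ {g : Equiv.Perm Cfsg.GolayPt | ∃ u : (ZMod 23)ˣ, IsSquare u ∧ g = Equiv.optionCongr (Units.mulLeft u)}) ≤ Cfsg.M24 ∧ Nat.card ↥(Subgroup.closure ({Equiv.optionCongr (Equiv.addRight (1 : ZMod 23)), Cfsg.projInv} ∪ {g : Equiv.Perm Cfsg.GolayPt | ∃ u : (ZMod 23)ˣ, IsSquare u ∧ g = Equiv.optionCongr (Units.mulLeft u)})) = 6072 ∧ IsCoatom ((Subgroup.closure ({Equiv.optionCongr (Equiv.addRight (1 : ZMod 23)), Cfsg.projInv} ∪ {g : Equiv.Perm Cfsg.GolayPt | ∃ u : (ZMod 23)ˣ, IsSquare u ∧ g = Equiv.optionCongr (Units.mulLeft u)})).subgroupOf Cfsg.M24)) ∧ (Subgroup.closure ({Equiv.optionCongr (Equiv.addRight (1 : ZMod 23))} ∪ {g : Equiv.Perm Cfsg.GolayPt | ∃ u : (ZMod 23)ˣ, IsSquare u ∧ g = Equiv.optionCongr (Units.mulLeft u)}) ≤ Cfsg.M24 ⊓ MulAction.stabilizer (Equiv.Perm Cfsg.GolayPt) (none : Cfsg.GolayPt) ∧ Nat.card ↥(Subgroup.closure ({Equiv.optionCongr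 (Equiv.addRight (1 : ZMod 23))} ∪ {g : Equiv.Perm Cfsg.GolayPt | ∃ u : (ZMod 23)ˣ, IsSquare u ∧ g = Equiv.optionCongr (Units.mulLeft u)})) = 253 ∧ IsCoatom (((Subgroup.closure ({Equiv.optionCongr (Equiv.addRight (1 : ZMod 23))} ∪ {g : Equiv.Perm Cfsg.GolayPt | ∃ u : (ZMod 23)ˣ, IsSquare u ∧ g = Equiv.optionCongr (Units.mulLeft u)})).subgroupOf Cfsg.M24).subgroupOf (MulAction.stabilizer Cfsg.M24 (none : Cfsg.GolayPt)))) := by
  rw [closure_line, closure_frob]
  obtain ⟨hm3, -, -, hi, hs, hs23, hm, -⟩ := facts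
  have hl : gsub line_gens ≤ Cfsg.M24 := by
    rw [gens_eq.1, gsub, Subgroup.closure_le]
    rintro _ ⟨c, hc, rfl⟩
    simp only [Set.mem_ofPred_eq, List.mem_cons, List.not_mem_nil, or_false] at hc
    rcases hc with rfl | rfl | rfl <;> exact gperm_mem_M24 ‹_›
  have hf : gsub frob_gens ≤ Spor.M23 := by
    rw [gens_eq.2, gsub, Subgroup.closure_le]
    rintro _ ⟨c, hc, rfl⟩
    simp only [Set.mem_ofPred_eq, List.mem_cons, List.not_mem_nil, or_false] at hc
    rcases hc with rfl | rfl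
    · exact ⟨gperm_mem_M24 hs, gperm_fix (okCode_of_inM24 hs) idx_none hs23⟩
    · exact mem23 _ hm3
  refine ⟨⟨hl, line_card, ?_⟩, ⟨hf, frob_card, ?_⟩⟩
  · exact SporStruct.SylowCount.coatom Cfsg.M24.subtype_injective (Subgroup.range_subtype _) hl
      (fun e => by have := line_card; rw [e, Golay.card_M24] at this; omega) max24
  · exact SporStruct.SylowCount.coatom (f := Cfsg.M24.subtype.comp (Subgroup.subtype _))
      (Subtype.coe_injective.comp Subtype.coe_injective)
      (by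
        ext g
        constructor
        · rintro ⟨⟨⟨u, hu⟩, hu'⟩, rfl⟩; exact ⟨hu, hu'⟩
        · rintro ⟨hu, hu'⟩; exact ⟨⟨⟨g, hu⟩, hu'⟩, rfl⟩) hf
      (fun e => by have := frob_card; rw [e, card23] at this; omega) max23

end Cfsg.Agent.S1643
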