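import Cfsg.Statements.S1699
import Cfsg.Agent.Lib.CosetEnum.ONOrbit.Facts
import Cfsg.Agent.Lib.CosetEnum.ONTriv

set_option autoImplicit false
open Cfsg

namespace Cfsg.Agent.S1699

open Cfsg.Agent.Lib.CosetEnum

theorem cover0 : allFrom 0 16000 (coverAt [(58653, ON122760.orbPts1, ON122760.orbPos1), (52136, ON122760.orbPts2, ON122760.orbPos2), (5586, ON122760.orbPts3, ON122760.orbPos3), (6384, ON122760.orbPts4, ON122760.orbPos4)]) = true := by decide +kernel

theorem cover1 : allFrom 16000 16000 (coverAt [(58653, ON122760.orbPts1, ON122760.orbPos1), (52136, ON122760.orbPts2, ON122760.orbPos2), (5586, ON122760.orbPts3, ON122760.orbPos3), (6384, ON122760.orbPts4, ON122760.orbPos4)]) = true := by decide +kernel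

theorem cover2 : allFrom 32000 16000 (coverAt [(58653, ON122760.orbPts1, ON122760.orbPos1), (52136, ON122760.orbPts2, ON122760.orbPos2), (5586, ON122760.orbPts3, ON122760.orbPos3), (6384, ON122760.orbPts4, ON122760.orbPos4)]) = true := by decide +kernel

theorem cover3 : allFrom 48000 16000 (coverAt [(58653, ON122760.orbPts1, ON122760.orbPos1), (52136, ON122760.orbPts2, ON122760.orbPos2), (5586, ON122760.orbPts3, ON122760.orbPos3), (6384, ON122760.orbPts4, ON122760.orbPos4)]) = true := by decide +kernel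

theorem cover4 : allFrom 64000 16000 (coverAt [(58653, ON122760.orbPts1, ON122760.orbPos1), (52136, ON122760.orbPts2, ON122760.orbPos2), (5586, ON122760.orbPts3, ON122760.orbPos3), (6384, ON122760.orbPts4, ON122760.orbPos4)]) = true := by decide +kernel

theorem cover5 : allFrom 80000 16000 (coverAt [(58653, ON122760.orbPts1, ON122760.orbPos1), (52136, ON122760.orbPts2, ON122760.orbPos2), (5586, ON122760.orbPts3, ON122760.orbPos3), (6384, ON122760.orbPts4, ON122760.orbPos4)]) = true := by decide +kernel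

theorem cover6 : allFrom 96000 16000 (coverAt [(58653, ON122760.orbPts1, ON122760.orbPos1), (52136, ON122760.orbPts2, ON122760.orbPos2), (5586, ON122760.orbPts3, ON122760.orbPos3), (6384, ON122760.orbPts4, ON122760.orbPos4)]) = true := by decide +kernel

theorem cover7 : allFrom 112000 10760 (coverAt [(58653, ON122760.orbPts1, ON122760.orbPos1), (52136, ON122760.orbPts2, ON122760.orbPos2), (5586, ON122760.orbPts3, ON122760.orbPos3), (6384, ON122760.orbPts4, ON122760.orbPos4)]) = true := by decide +kernel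

theorem cover : allBelow 122760 (coverAt [(58653, ON122760.orbPts1, ON122760.orbPos1), (52136, ON122760.orbPts2, ON122760.orbPos2), (5586, ON122760.orbPts3, ON122760.orbPos3), (6384, ON122760.orbPts4, ON122760.orbPos4)]) = true :=
  (allBelow_add (allBelow_add (allBelow_add (allBelow_add (allBelow_add (allBelow_add (allBelow_add (allBelow_add (rfl : allBelow 0 (coverAt [(58653, ON122760.orbPts1, ON122760.orbPos1), (52136, ON122760.orbPts2, ON122760.orbPos2), (5586, ON122760.orbPts3, ON122760.orbPos3), (6384, ON122760.orbPts4, ON122760.orbPos4)]) = true) cover0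
    (by omega : 0 + 16000 = 16000)) cover1
    (by omega : 16000 + 16000 = 32000)) cover2
    (by omega : 32000 + 16000 = 48000)) cover3
    (by omega : 48000 + 16000 = 64000)) cover4
    (by omega : 64000 + 16000 = 80000)) cover5
    (by omega : 80000 + 16000 = 96000)) cover6
    (by omega : 96000 + 16000 = 112000)) cover7
    (by omega : 112000 + 10760 = 122760))

/-- The presented O'Nan group is simple of the expected order (that is, it is a simple group of the order of the O'Nan group). -/
theorem result : Cfsg.IsON Cfsg.Spor.ON := by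
  obtain ⟨ρ, hρ, hst, htr, hinj, hG, hJ⟩ := ONOrbit.main
  haveI : Finite ONOrbit.G := Nat.finite_of_card_ne_zero (by rw [hG]; omega)
  refine ⟨?_, hG⟩
  refine isSimple_of_primitive ρ ⟨0, by omega⟩ (by omega) hinj hst htr ?_
    ONTriv.elt 5 ONTriv.elt_pow (by rw [hJ]; decide +kernel) ONTriv.eq_top
  intro O h0 hinv hO
  refine no_block ρ ⟨0, by omega⟩ ![⟨1, by omega⟩, ⟨6, by omega⟩, ⟨12, by omega⟩, ⟨32, by omega⟩]
    ![58653, 52136, 5586, 6384] ?_ ?_ ?_ ?_ O h0 hinv hO
  · intro j
    fin_cases j
    · exact (ON122760.orb1_spec ρ hρ).1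
    · exact (ON122760.orb2_spec ρ hρ).1
    · exact (ON122760.orb3_spec ρ hρ).1
    · exact (ON122760.orb4_spec ρ hρ).1
  · intro y
    have h := allBelow_iff.1 cover y.1 y.2
    simp only [coverAt, force_eq, Bool.or_eq_true, Bool.and_eq_true, Bool.false_eq_true, or_false,
      Nat.beq_eq, Nat.blt_eq] at h
    rcases h with h | ⟨hp, hq⟩ | ⟨hp, hq⟩ | ⟨hp, hq⟩ | ⟨hp, hq⟩
    · exact Or.inl (Fin.ext h)
    · exact Or.inr ⟨0, (ON122760.orb1_spec ρ hρ).2.2 _ hp y hq.symm⟩
    · exact Or.inr ⟨1, (ON122760.orb2_spec ρ hρ).2.2 _ hp y hq.symm⟩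
    · exact Or.inr ⟨2, (ON122760.orb3_spec ρ hρ).2.2 _ hp y hq.symm⟩
    · exact Or.inr ⟨3, (ON122760.orb4_spec ρ hρ).2.2 _ hp y hq.symm⟩
  · decide +kernel
  · decide +kernel

end Cfsg.Agent.S1699
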