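import Cfsg.Statements.S1423
import Cfsg.Agent.Lib.OddOrder.NonabelianFacts
import Cfsg.Agent.Lib.OddOrder.TauTwoFacts
import Cfsg.Agent.Lib.OddOrder.SigmaIntersect
-- import your own Cfsg.Agent.* helpers here

set_option autoImplicit false
open Cfsg Cfsg.Agent.Lib.OddOrder

namespace Cfsg.Agent.S1423

/-- Let G be a minimal simple group of odd order, M a maximal subgroup, p ∈ σ(M), X ≤ M a subgroup of order p and P a Sylow p-subgroup of M_σ. If p ∈ β(M) or X ≤ (M_σ)', then C_G(X) ≤ M, M is the unique maximal subgroup containing C_G(X), and M is the unique maximal subgroup containing P. -/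
theorem result {G : Type*} [Group G] [Finite G] (hG : Cfsg.IsMinSimpleOddOrder G)
    (M : Subgroup G) (hM : IsCoatom M) (p : ℕ) [Fact p.Prime] (hp : p ∈ Cfsg.sigma M) (X : Subgroup G) (hXM : X ≤ M) (hX : Nat.card X = p)
    (P : Sylow p ↥(Cfsg.sigmaCore M)) (h : p ∈ Cfsg.beta M ∨ X ≤ ⁅Cfsg.sigmaCore M, Cfsg.sigmaCore M⁆) :
    (Subgroup.centralizer (X : Set G) ≤ M ∧ ∀ L : Subgroup G, IsCoatom L → Subgroup.centralizer (X : Set G) ≤ L → L = M) ∧ Cfsg.InUniqueMaximal ((P : Subgroup ↥(Cfsg.sigmaCore M)).map (Cfsg.sigmaCore M).subtype) ∧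
      (P : Subgroup ↥(Cfsg.sigmaCore M)).map (Cfsg.sigmaCore M).subtype ≤ M := by
  obtain ⟨x, hx⟩ := exists_prime_orderOf_dvd_card' (G := X) p hX.symm.dvd
  have hxo : orderOf (x : G) = p := by rw [Subgroup.orderOf_coe, hx]
  have hz : Subgroup.zpowers (x : G) = X :=
    Subgroup.eq_of_le_of_card_ge (Subgroup.zpowers_le.2 x.2) (by rw [Nat.card_zpowers, hxo, hX])
  obtain ⟨hC, hU⟩ := CentDerived.cent_derived (NonabelianFacts.nonabelianUnique hG) hG hM hp
    (hXM x.2) hxo (h.imp id fun hle => hle x.2)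
  have hCX : Subgroup.centralizer (X : Set G) = Subgroup.centralizer ({(x : G)} : Set G) :=
    (by rw [← Subgroup.centralizer_closure, ← Subgroup.zpowers_eq_closure, hz] :
      Subgroup.centralizer ({(x : G)} : Set G) = Subgroup.centralizer (X : Set G)).symm
  set P' := (P : Subgroup ↥(Cfsg.sigmaCore M)).map (Cfsg.sigmaCore M).subtype with hP'
  have hσ := SigmaHall.sigmaCore_isPiHallOf hG hM
  have hP'M : P' ≤ M := (Subgroup.map_subtype_le _).trans hσ.1
  have hidx : ¬ p ∣ P'.index := by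
    obtain ⟨SM, hSM⟩ : ∃ SM : Sylow p M, (SM : Subgroup M).map M.subtype = P' := by
      refine ⟨((P.2.map _).of_equiv (Subgroup.subgroupOfEquivOfLe hP'M).symm).toSylow ?_,
        Subgroup.map_subgroupOf_eq_of_le hP'M⟩
      show ¬ p ∣ P'.relIndex M
      rw [← Subgroup.relIndex_mul_relIndex P' _ M (Subgroup.map_subtype_le _) hσ.1, hP',
        Basic.relIndex_map_subtype]
      exact fun hd => ((Fact.out : p.Prime).dvd_mul.1 hd).elim P.not_dvd_index
        (hσ.2.2 p Fact.out hp)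
    exact hSM ▸ Sigma.not_dvd_index hp SM
  refine ⟨⟨hCX ▸ hC.1, fun L hL hle => hC.2 L hL (hCX ▸ hle)⟩, ?_, hP'M⟩
  have h1 := hU ((P.2.map _).toSylow hidx)
  rwa [IsPGroup.toSylow_coe] at h1

end Cfsg.Agent.S1423
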