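import Cfsg.Statements.S1351
import Cfsg.Agent.Lib.OddOrder.Partner.Main
import Cfsg.Agent.Lib.OddOrder.Partner.Discharge
-- import your own Cfsg.Agent.* helpers here

set_option autoImplicit false
open Cfsg

namespace Cfsg.Agent.S1351

/-- Let G be a minimal simple group of odd order and M a maximal subgroup. Then M possesses a Hall κ(M)-subgroup, and every Hall κ(M)-subgroup of M is cyclic. -/
theorem result {G : Type*} [Group G] [Finite G] (hG : Cfsg.IsMinSimpleOddOrder G)
    (M : Subgroup G) (hM : IsCoatom M) :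
    (∃ K : Subgroup G, Cfsg.IsPiHallOf (Cfsg.kappa M) K M) ∧
      ∀ K : Subgroup G, Cfsg.IsPiHallOf (Cfsg.kappa M) K M → IsCyclic K := by
  have h := Lib.OddOrder.Partner.hyp hG
  exact ⟨h.exists_hall_kappa hM, fun K hK => Lib.OddOrder.Partner.isCyclic_hall h hM hK⟩

end Cfsg.Agent.S1351
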