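import Cfsg.Statements.S1446
import Cfsg.Agent.Lib.OddLocal.FrobeniusAmbient
-- import your own Cfsg.Agent.* helpers here

set_option autoImplicit false
open Cfsg

namespace Cfsg.Agent.S1446

/-- Let X be a finite group with subgroups K, R, M such that: K and R are nontrivial, K ∩ R = 1, R normalizes K, no non-identity element of R centralizes a non-identity element of K, K ⊔ R is solvable of odd order; M is nilpotent and nontrivial, normalized by K and by R, with order coprime to that of K ⊔ R, M ∩ C(K) = 1, and M ∩ C(x) = M ∩ C(R) for all non-identity x ∈ R. Then R has prime order p, #M = #(M ∩ C(R)) ^ p, and if M ∩ C(R) is cyclic then [K, K] centralizes M. -/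
theorem result {X : Type*} [Group X] [Finite X] (K R M : Subgroup X) (hK1 : K ≠ ⊥) (hR1 : R ≠ ⊥) (hKR : K ⊓ R = ⊥)
    (hRK : R ≤ Subgroup.normalizer (K : Set X)) (hfrob : ∀ r ∈ R, r ≠ 1 → K ⊓ Subgroup.centralizer ({r} : Set X) = ⊥)
    (hsolv : Group.IsSolvable ↥(K ⊔ R)) (hodd : Odd (Nat.card ↥(K ⊔ R)))
    (hM1 : M ≠ ⊥) (hMn : Group.IsNilpotent M) (hKM : K ≤ Subgroup.normalizer (M : Set X)) (hRM : R ≤ Subgroup.normalizer (M : Set X))
    (hcop : (Nat.card ↥(K ⊔ R)).Coprime (Nat.card M)) (hCK : M ⊓ Subgroup.centralizer (K : Set X) = ⊥)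
    (hpr : ∀ x ∈ R, x ≠ 1 → M ⊓ Subgroup.centralizer ({x} : Set X) = M ⊓ Subgroup.centralizer (R : Set X)) :
    (Nat.card R).Prime ∧ Nat.card M = Nat.card ↥(M ⊓ Subgroup.centralizer (R : Set X)) ^ Nat.card R ∧
      (IsCyclic ↥(M ⊓ Subgroup.centralizer (R : Set X)) → ⁅K, K⁆ ≤ Subgroup.centralizer (M : Set X)) := by
  have hform := Cfsg.Agent.Lib.OddLocal.FrobeniusAmbient.card_eq_pow hKR hRK hfrob hMn hKM hRM hcop hCK
  refine ⟨?_, hform, fun hcyc => Cfsg.Agent.Lib.OddLocal.FrobeniusAmbient.commutator_le_centralizer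
    hK1 hR1 hKR hRK hfrob hMn hKM hRM hcop hCK hcyc⟩
  obtain ⟨p, hp, hpd⟩ := Nat.exists_prime_and_dvd (mt Subgroup.card_eq_one.mp hR1)
  haveI : Fact p.Prime := ⟨hp⟩
  obtain ⟨r, hr⟩ := exists_prime_orderOf_dvd_card' (G := R) p hpd
  set S := Subgroup.zpowers (r : X) with hSdef
  have hSR : S ≤ R := Subgroup.zpowers_le.mpr r.2
  have hS : Nat.card S = p := by rw [Nat.card_zpowers, Subgroup.orderOf_coe, hr]
  have hr1 : (r : X) ≠ 1 := fun h => hp.ne_one (by rw [← hr, ← Subgroup.orderOf_coe, h, orderOf_one])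
  have hformS := Cfsg.Agent.Lib.OddLocal.FrobeniusAmbient.card_eq_pow (R := S)
    (le_bot_iff.mp ((inf_le_inf_left K hSR).trans hKR.le)) (hSR.trans hRK)
    (fun x hx hx1 => hfrob x (hSR hx) hx1) hMn hKM (hSR.trans hRM)
    (hcop.coprime_dvd_left (Subgroup.card_dvd_of_le (sup_le_sup_left hSR K))) hCK
  have heq : M ⊓ Subgroup.centralizer (S : Set X) = M ⊓ Subgroup.centralizer (R : Set X) := by
    refine le_antisymm (le_of_le_of_eq (inf_le_inf_left M (Subgroup.centralizer_le ?_)) (hpr r r.2 hr1))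
      (inf_le_inf_left M (Subgroup.centralizer_le hSR))
    exact Set.singleton_subset_iff.mpr (Subgroup.mem_zpowers _)
  rw [heq] at hformS
  rw [hform] at hformS
  have hc : 2 ≤ Nat.card ↥(M ⊓ Subgroup.centralizer (R : Set X)) := by
    by_contra h
    have h1 : Nat.card ↥(M ⊓ Subgroup.centralizer (R : Set X)) = 1 :=
      le_antisymm (by omega) Nat.card_pos
    rw [h1, one_pow] at hform
    exact hM1 (Subgroup.card_eq_one.mp hform)
  rw [Nat.pow_right_injective hc hformS, hS]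
  exact hp

end Cfsg.Agent.S1446
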