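import Cfsg.Statements.S0638
import Cfsg.Agent.Lib.PGroupTheory.RegularExtra
import Cfsg.Agent.Lib.PGroups.UniqueInvolution

set_option autoImplicit false
open Cfsg

namespace Cfsg.Agent.S0638

open Cfsg.Agent.Lib Cfsg.Agent.Lib.PGroupTheory

/-- For odd p, in a non-cyclic metacyclic p-group the elements of order dividing p generate an elementary abelian subgroup of order p². -/
theorem result {R : Type*} [Group R] [Finite R] {p : ℕ} [Fact p.Prime] (hp : p ≠ 2) (hR : IsPGroup p R) (hm : Cfsg.IsMetacyclic R) (hnc : ¬ IsCyclic R) : Cfsg.IsElementaryAbelian p (Cfsg.omegaOne p (⊤ : Subgroup R)) ∧ Nat.card ↥(Cfsg.omegaOne p (⊤ : Subgroup R)) = p ^ 2 := by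
  have hpp := (Fact.out : p.Prime)
  obtain ⟨A, hA, hAc, hQc⟩ := hm
  have hder : commutator R ≤ A := by
    refine Subgroup.Normal.quotient_commutative_iff_commutator_le.1 ⟨⟨fun a b => ?_⟩⟩
    obtain ⟨g, hg⟩ := IsCyclic.exists_generator (α := R ⧸ A)
    obtain ⟨i, rfl⟩ := Subgroup.mem_zpowers_iff.1 (hg a)
    obtain ⟨j, rfl⟩ := Subgroup.mem_zpowers_iff.1 (hg b)
    exact (Commute.zpow_zpow (Commute.refl g) i j).eq
  have hreg := (isRegularPGroup_iff.1
    (isRegularPGroup_of_commutator_cyclic hR hp (Subgroup.isCyclic_of_le hder))).2 1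
  obtain ⟨Ω, -, hΩ⟩ := exists_subgroup_of_regularAt hR hreg
  have hom : Cfsg.omegaOne p (⊤ : Subgroup R) = Ω :=
    le_antisymm ((Subgroup.closure_le _).2 fun x hx => (hΩ x).2 hx.2)
      fun x hx => PGroups.mem_omegaOne_of_pow (Subgroup.mem_top x) ((hΩ x).1 hx)
  rw [hom]
  -- at most `p ^ 2`: at most `p` inside `A` and at most `p` modulo `A`
  have hle : Nat.card Ω ≤ p ^ 2 := by
    have h1 : ∀ {C : Type _} [Group C] [Finite C], IsCyclic C → Nat.card {c : C // c ^ p = 1} ≤ p := by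
      intro C _ _ hC
      classical
      have := Fintype.ofFinite C
      rw [Nat.card_eq_fintype_card, Fintype.card_subtype]
      exact IsCyclic.card_pow_eq_one_le hpp.pos
    rw [← (A.subgroupOf Ω).card_mul_index, sq]
    refine Nat.mul_le_mul ?_ ?_
    · refine le_trans ?_ (h1 hAc)
      exact Nat.card_le_card_of_injective
        (fun x => (⟨⟨x.1.1, x.2⟩, Subtype.ext (by simpa using (hΩ x.1.1).1 x.1.2)⟩ : {c : A // c ^ p = 1}))
        fun a b h => Subtype.ext (Subtype.ext (congrArg (fun z : {c : A // c ^ p = 1} => ((z.1 : A) : R)) h))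
    · have h2 : (A.subgroupOf Ω).index = Nat.card (Ω.map (QuotientGroup.mk' A)) := by
        rw [← Subgroup.relIndex_ker, QuotientGroup.ker_mk']
        rfl
      rw [h2]
      refine le_trans ?_ (h1 hQc)
      refine Nat.card_le_card_of_injective (fun x => ⟨x.1, ?_⟩)
        fun a b h => Subtype.ext (congrArg (fun z : {c : R ⧸ A // c ^ p = 1} => z.1) h)
      obtain ⟨y, hy, hyx⟩ := x.2
      rw [← hyx, ← map_pow, (hΩ y).1 hy, map_one]
  obtain ⟨W, -, hW, hWc⟩ := PGroups.exists_normal_elemAb_sq hp hR hnc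
  have hWΩ : W ≤ Ω := fun w hw => (hΩ w).2 (PGroups.elemAb_pow hW hw)
  have heq := Subgroup.eq_of_le_of_card_ge hWΩ (hWc ▸ hle)
  exact ⟨heq ▸ hW, heq ▸ hWc⟩

end Cfsg.Agent.S0638
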