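import Cfsg.Statements.S1455
import Cfsg.Agent.Lib.OddLocal.NarrowStructure
-- import your own Cfsg.Agent.* helpers here

set_option autoImplicit false
open Cfsg

namespace Cfsg.Agent.S1455

/-- Let G be a solvable group of odd order, p a prime dividing its order, and S a Sylow p-subgroup of G that is narrow; if S has an elementary abelian subgroup of order p ^ 3 assume also G = O_{p',p,p'}(G). Then every prime dividing the index of O_{p'}(G) is at most p; if p = 3 or p is the smallest prime divisor of #G then G has a normal p-complement; G' has a normal p-complement; every subgroup of G' of order coprime to p lies in O_{p'}(G'); and G' ≤ O_{p',p}(G) with the index of O_{p',p}(G) coprime to p. -/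
theorem result {G : Type*} [Group G] [Finite G] [Group.IsSolvable G] (hodd : Odd (Nat.card G)) (p : ℕ) [Fact p.Prime] (hpG : p ∣ Nat.card G) (S : Sylow p G) (hS : Cfsg.IsNarrow p ↥(S : Subgroup G))
    (hpl : ¬ Cfsg.PRankLE p 2 ↥(S : Subgroup G) → Cfsg.PLengthLE p 1 G) :
    (∀ q : ℕ, q.Prime → q ∣ (Cfsg.pPrimeCore p G).index → q ≤ p) ∧
      ((p = 3 ∨ ∀ q : ℕ, q.Prime → q ∣ Nat.card G → p ≤ q) → Cfsg.HasNormalPComplement p G) ∧
      Cfsg.HasNormalPComplement p ↥(commutator G) ∧
      (∀ L : Subgroup ↥(commutator G), (Nat.card L).Coprime p → L ≤ Cfsg.pPrimeCore p ↥(commutator G)) ∧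
      commutator G ≤ Cfsg.pPrimePCore p G ∧ ((Cfsg.pPrimePCore p G).index).Coprime p := by
  refine Cfsg.Agent.Lib.OddLocal.NarrowStructure.structure_of_narrow hodd hpG ?_
  by_cases hr : Cfsg.PRankLE p 2 ↥(S : Subgroup G)
  · refine Or.inl (Cfsg.Agent.Lib.OddLocal.NarrowStructure.prankLE_pCore_quotient ?_)
    rw [Cfsg.Agent.Lib.OddOrder.Rank.prankLE_subgroup_iff] at hr
    intro E hE1 hE2
    have hEp : IsPGroup p E := fun x => ⟨1, Subtype.ext (by simpa using hE2 x x.2)⟩
    obtain ⟨P, hP⟩ := hEp.exists_le_sylow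
    obtain ⟨g, hg⟩ := MulAction.exists_smul_eq G P S
    have hle : E.map (MulAut.conj g).toMonoidHom ≤ (S : Subgroup G) := by
      rw [← hg, Sylow.coe_subgroup_smul, Subgroup.pointwise_smul_def]
      exact Subgroup.map_mono hP
    rw [← Subgroup.card_map_of_injective (f := (MulAut.conj g).toMonoidHom) (MulAut.conj g).injective]
    refine hr _ hle ⟨Subgroup.map_isMulCommutative E _, ?_⟩
    rintro _ ⟨x, hx, rfl⟩
    rw [← map_pow, hE2 x hx, map_one]
  · refine Cfsg.Agent.Lib.OddLocal.NarrowStructure.isNarrow_congr ?_ hS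
    rw [← Cfsg.Agent.Lib.OddLocal.NarrowStructure.map_sylow_eq_of_pLength_one (hpl hr) S]
    exact (MulEquiv.ofBijective ((QuotientGroup.mk' (Cfsg.pPrimeCore p G)).subgroupMap (S : Subgroup G))
      ⟨fun a b h => Cfsg.Agent.Lib.OddLocal.NarrowStructure.injOn_of_coprime
        (Cfsg.Agent.Lib.Cores.pPrimeCore_coprime p) S.isPGroup' (congrArg Subtype.val h),
       MonoidHom.subgroupMap_surjective _ _⟩)

end Cfsg.Agent.S1455
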