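import Cfsg.Statements.S3766
import Cfsg.Agent.Lib.Cores.Basic

set_option autoImplicit false
open Cfsg

namespace Cfsg.Agent.S3766

open Subgroup
open scoped commutatorElement

section
variable {G : Type*} [Group G]

/-- Chief factor. -/
def Chief (U V : Subgroup G) : Prop :=
  U.Normal ∧ V.Normal ∧ V < U ∧ ∀ W : Subgroup G, W.Normal → V ≤ W → W ≤ U → W = V ∨ W = U

theorem chief_commutator_le [Finite G] {F U V : Subgroup G} [F.Normal] (hF : Group.IsNilpotent F)
    (h : Chief U V) : ⁅U, F⁆ ≤ V := by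
  obtain ⟨hU, hV, hlt, hmax⟩ := h
  haveI := hU
  haveI := hV
  rcases hmax (⁅U, F⁆ ⊔ V) inferInstance le_sup_right
      (sup_le (commutator_le_left U F) hlt.le) with h | h
  · exact h ▸ le_sup_left
  exfalso
  set f := QuotientGroup.mk' V
  have hUf : U.map f = ⁅U.map f, F.map f⁆ := by
    conv_lhs => rw [← h]
    rw [Subgroup.map_sup, map_commutator, QuotientGroup.map_mk'_self, sup_bot_eq]
  haveI : (F.map f).Normal := Subgroup.Normal.map inferInstance f (QuotientGroup.mk'_surjective V)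
  have hle : ∀ n, U.map f ≤ (F.map f).lowerCentralSeries n := by
    intro n
    induction n with
    | zero => rw [hUf]; exact commutator_le_right _ _
    | succ n ih =>
      rw [Subgroup.lowerCentralSeries_succ, hUf]
      exact commutator_mono ih le_rfl
  obtain ⟨n, hn⟩ := (Subgroup.isNilpotent_iff_lowerCentralSeries _).mp
    (Cfsg.Agent.Lib.Cores.isNilpotent_map f hF)
  have hb := le_bot_iff.mp (hn ▸ hle n)
  rw [Subgroup.map_eq_bot_iff, QuotientGroup.ker_mk'] at hb
  exact hlt.not_ge hb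

theorem iterate_eq_bot [Finite G] (F H : Subgroup G)
    (hH : ∀ U V : Subgroup G, Chief U V → U ≤ F → ⁅U, H⁆ ≤ V) :
    ∀ U : Subgroup G, U.Normal → U ≤ F → ∃ n, (fun X => ⁅X, H⁆)^[n] U = ⊥ := by
  intro U
  induction U using WellFoundedLT.induction with
  | _ U ih =>
    intro hU hUF
    by_cases hne : U = ⊥
    · exact ⟨0, hne⟩
    obtain ⟨V, ⟨hV, hVU⟩, hmax⟩ := (Set.toFinite {V : Subgroup G | V.Normal ∧ V < U}).exists_maximal
      ⟨⊥, inferInstance, bot_lt_iff_ne_bot.mpr hne⟩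
    have hchief : Chief U V := ⟨hU, hV, hVU, fun W hW hVW hWU => by
      by_cases hWU' : W = U
      · exact Or.inr hWU'
      · exact Or.inl (le_antisymm (hmax ⟨hW, lt_of_le_of_ne hWU hWU'⟩ hVW) hVW)⟩
    obtain ⟨n, hn⟩ := ih V hVU hV (hVU.le.trans hUF)
    refine ⟨n + 1, le_bot_iff.mp ?_⟩
    rw [Function.iterate_succ_apply, ← hn]
    exact Monotone.iterate (fun a b hab => commutator_mono hab le_rfl) n (hH U V hchief hUF)

theorem mem_comap_centralizer_iff {U V : Subgroup G} [V.Normal] {g : G} :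
    g ∈ (centralizer ((U.map (QuotientGroup.mk' V) : Subgroup (G ⧸ V)) : Set (G ⧸ V))).comap
        (QuotientGroup.mk' V) ↔
      ∀ u ∈ U, ⁅u, g⁆ ∈ V := by
  rw [mem_comap, mem_centralizer_iff]
  constructor
  · intro h u hu
    rw [← QuotientGroup.eq_one_iff, ← QuotientGroup.mk'_apply, map_commutatorElement,
      commutatorElement_eq_one_iff_mul_comm]
    exact h _ (mem_map_of_mem _ hu)
  · rintro h _ ⟨u, hu, rfl⟩
    rw [← commutatorElement_eq_one_iff_mul_comm, ← map_commutatorElement, QuotientGroup.mk'_apply,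
      QuotientGroup.eq_one_iff]
    exact h u hu

theorem main [Finite G] (hG : Group.IsSolvable G) (N : Subgroup G) [N.Normal] (g : G) :
    (g ∈ (Cfsg.fittingSubgroup ↥N).map N.subtype → g ∈ N ∧
      ∀ U V : Subgroup G, Chief U V → ∀ u ∈ U, ⁅u, g⁆ ∈ V) ∧
    (g ∈ N ∧ (∀ U V : Subgroup G, Chief U V → U ≤ (Cfsg.fittingSubgroup ↥N).map N.subtype →
      ∀ u ∈ U, ⁅u, g⁆ ∈ V) → g ∈ (Cfsg.fittingSubgroup ↥N).map N.subtype) := by
  set F := (Cfsg.fittingSubgroup ↥N).map N.subtype with hFdef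
  haveI hFn : F.Normal := Cfsg.Agent.Lib.Cores.normal_map_subtype N _
  have hFnil : Group.IsNilpotent F :=
    Cfsg.Agent.Lib.Cores.isNilpotent_map _ Cfsg.Agent.Lib.Cores.fittingSubgroup_isNilpotent
  refine ⟨fun hgF => ⟨map_subtype_le _ hgF, fun U V hUV u hu =>
    chief_commutator_le hFnil hUV (commutator_mem_commutator hu hgF)⟩, ?_⟩
  rintro ⟨hgN, hg⟩
  let S : Set G := {x | x ∈ N ∧ ∀ U V : Subgroup G, Chief U V → U ≤ F → ∀ u ∈ U, ⁅u, x⁆ ∈ V}
  set H := closure S with hHdef
  have hHN : H ≤ N := (closure_le _).mpr fun x hx => hx.1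
  have hH : ∀ U V : Subgroup G, Chief U V → U ≤ F → ⁅U, H⁆ ≤ V := by
    intro U V hUV hUF
    haveI := hUV.2.1
    have hle : H ≤ (centralizer ((U.map (QuotientGroup.mk' V) : Subgroup (G ⧸ V)) : Set (G ⧸ V))).comap
        (QuotientGroup.mk' V) :=
      (closure_le _).mpr fun x hx => mem_comap_centralizer_iff.mpr (hx.2 U V hUV hUF)
    rw [commutator_le]
    exact fun u hu x hx => mem_comap_centralizer_iff.mp (hle hx) u hu
  haveI hHn : H.Normal := by
    refine ⟨fun x hx c => ?_⟩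
    have hmap : H.map (MulAut.conj c).toMonoidHom ≤ H := by
      rw [hHdef, MonoidHom.map_closure, closure_le]
      rintro _ ⟨x, hx, rfl⟩
      apply Subgroup.subset_closure
      refine ⟨(inferInstance : N.Normal).conj_mem x hx.1 c, fun U V hUV hUF u hu => ?_⟩
      have e : ⁅u, (MulAut.conj c).toMonoidHom x⁆ = c * ⁅c⁻¹ * u * c, x⁆ * c⁻¹ := by
        simp only [MulEquiv.coe_toMonoidHom, MulAut.conj_apply, commutatorElement_def]
        group
      rw [e]
      exact hUV.2.1.conj_mem _ (hx.2 U V hUV hUF _ (hUV.1.conj_mem' u hu c)) c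
    exact hmap ⟨x, hx, rfl⟩
  by_contra hgF
  have hgH : g ∈ H := Subgroup.subset_closure ⟨hgN, hg⟩
  obtain ⟨M, ⟨hMn, hMH, hMF⟩, hmin⟩ := (Set.toFinite {M : Subgroup G | M.Normal ∧ M ≤ H ∧ ¬ M ≤ F}).exists_minimal
    ⟨H, hHn, le_rfl, fun h => hgF (h hgH)⟩
  haveI := hMn
  haveI := hG
  haveI : Nontrivial M := by
    rw [Subgroup.nontrivial_iff_ne_bot]
    rintro rfl
    exact hMF bot_le
  have hMM : ⁅M, M⁆ ≤ F := by
    by_contra hne
    have heq : ⁅M, M⁆ = M := le_antisymm (commutator_le_self M)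
      (hmin ⟨inferInstance, (commutator_le_self M).trans hMH, hne⟩ (commutator_le_self M))
    refine (Group.IsSolvable.commutator_lt_top_of_nontrivial M).ne ?_
    apply map_injective M.subtype_injective
    rw [map_subtype_commutator, ← MonoidHom.range_eq_map, range_subtype, heq]
  obtain ⟨n, hn⟩ := iterate_eq_bot F H hH F hFn le_rfl
  have hlcs : ∀ i, M.lowerCentralSeries (i + 1) ≤ (fun X => ⁅X, H⁆)^[i] F := by
    intro i
    induction i with
    | zero => simpa [Subgroup.lowerCentralSeries_succ] using hMM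
    | succ i ih =>
      rw [Subgroup.lowerCentralSeries_succ, Function.iterate_succ_apply']
      exact commutator_mono ih hMH
  have hMnil : Group.IsNilpotent M := (Subgroup.isNilpotent_iff_lowerCentralSeries _).mpr
    ⟨n + 1, le_bot_iff.mp (hn ▸ hlcs n)⟩
  apply hMF
  have hMN := hMH.trans hHN
  rw [hFdef, ← map_subgroupOf_eq_of_le hMN]
  haveI := hMn.subgroupOf N
  exact Subgroup.map_mono (Cfsg.Agent.Lib.Cores.le_fittingSubgroup
    (Group.nilpotent_of_mulEquiv (subgroupOfEquivOfLe hMN).symm))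

end

/-- Let G be a finite solvable group and N a normal subgroup of G. Call a pair V < U of normal subgroups of G a chief factor of G when no normal subgroup of G lies strictly between them; an element g centralizes the chief factor U/V when u g u⁻¹ g⁻¹ ∈ V for all u ∈ U. Then an element of G lies in the Fitting subgroup F(N) if and only if it lies in N and centralizes every chief factor of G; and also if and only if it lies in N and centralizes every chief factor U/V of G with U ≤ F(N). -/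
theorem result {G : Type*} [Group G] [Finite G] (hG : Group.IsSolvable G) (N : Subgroup G) [N.Normal] (g : G) : (g ∈ (Cfsg.fittingSubgroup ↥N).map N.subtype ↔ g ∈ N ∧ ∀ U V : Subgroup G, (U.Normal ∧ V.Normal ∧ V < U ∧ ∀ W : Subgroup G, W.Normal → V ≤ W → W ≤ U → W = V ∨ W = U) → ∀ u ∈ U, u * g * u⁻¹ * g⁻¹ ∈ V) ∧ (g ∈ (Cfsg.fittingSubgroup ↥N).map N.subtype ↔ g ∈ N ∧ ∀ U V : Subgroup G, (U.Normal ∧ V.Normal ∧ V < U ∧ ∀ W : Subgroup G, W.Normal → V ≤ W → W ≤ U → W = V ∨ W = U) → U ≤ (Cfsg.fittingSubgroup ↥N).map N.subtype → ∀ u ∈ U, u * g * u⁻¹ * g⁻¹ ∈ V) := by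
  have h := main hG N g
  refine ⟨⟨fun hg => h.1 hg, fun hg => h.2 ⟨hg.1, fun U V hUV _ => hg.2 U V hUV⟩⟩,
    ⟨fun hg => ⟨(h.1 hg).1, fun U V hUV _ => (h.1 hg).2 U V hUV⟩, fun hg => h.2 hg⟩⟩

end Cfsg.Agent.S3766
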