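import Cfsg.Statements.S1445
import Cfsg.Agent.Lib.OddLocal.FpfModule
import Cfsg.Agent.Lib.Cores.Pi
import Cfsg.Agent.S3766

set_option autoImplicit false
open Cfsg

namespace Cfsg.Agent.S1445

open scoped commutatorElement

/-- Let G be a solvable group of odd order, K a normal subgroup and R a subgroup with G = KR and the orders of K and R coprime. Suppose K ∩ C_G(x) = K ∩ C_G(R) for every non-identity x ∈ R, and F(K) ∩ C_G(R) = 1. Then [K, R] is contained in the Fitting subgroup of K. -/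
theorem result {G : Type*} [Group G] [Finite G] [Group.IsSolvable G] (hodd : Odd (Nat.card G)) (K R : Subgroup G) [K.Normal] (hKR : K ⊔ R = ⊤) (hcop : (Nat.card K).Coprime (Nat.card R))
    (hprime : ∀ x ∈ R, x ≠ 1 → K ⊓ Subgroup.centralizer ({x} : Set G) = (K ⊓ Subgroup.centralizer (R : Set G)))
    (hF : Cfsg.fittingOf K ⊓ Subgroup.centralizer (R : Set G) = ⊥) :
    ⁅K, R⁆ ≤ Cfsg.fittingOf K := by
  classical
  rw [Subgroup.commutator_le]
  intro k hk y hy
  haveI hFn : (Cfsg.fittingOf K).Normal := Cfsg.Agent.Lib.Cores.normal_map_subtype K _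
  have hmem : k * y * k⁻¹ * y⁻¹ ∈ K := by
    rw [show k * y * k⁻¹ * y⁻¹ = k * (y * k⁻¹ * y⁻¹) by group]
    exact mul_mem hk ((inferInstance : K.Normal).conj_mem _ (inv_mem hk) y)
  refine ((Cfsg.Agent.S3766.result inferInstance K ⁅k, y⁆).2).2 ⟨hmem, ?_⟩
  rintro U V ⟨hUn, hVn, hVU, hmin⟩ hUF u hu
  haveI := hUn
  haveI := hVn
  by_cases hy1 : y = 1
  · subst hy1
    simp
  -- an element of prime order in `R`
  have hn1 : orderOf y ≠ 1 := fun h => hy1 (orderOf_eq_one_iff.1 h)
  obtain ⟨r, hr, hrdvd⟩ := Nat.exists_prime_and_dvd hn1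
  haveI : Fact r.Prime := ⟨hr⟩
  set x := y ^ (orderOf y / r) with hx
  have hxR : x ∈ R := pow_mem hy _
  have hxo : orderOf x = r := orderOf_pow_orderOf_div (orderOf_pos y).ne' hrdvd
  have hx1 : x ≠ 1 := fun h => by
    rw [h, orderOf_one] at hxo
    exact hr.one_lt.ne hxo
  have hxr : x ^ r = 1 := hxo ▸ pow_orderOf_eq_one x
  have hrR : r ∣ Nat.card R := hxo ▸ Subgroup.orderOf_dvd_natCard _ hxR
  have hKr : (Nat.card K).Coprime r := hcop.coprime_dvd_right hrR
  have hUK : U ≤ K := hUF.trans (Subgroup.map_subtype_le _)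
  set X := Subgroup.zpowers x with hX
  have hXcard : Nat.card X = r := by rw [hX, Nat.card_zpowers, hxo]
  have hXC : ∀ g ∈ K, g ∈ Subgroup.centralizer (X : Set G) →
      g ∈ Subgroup.centralizer (R : Set G) := by
    intro g hg hgC
    have h := hprime x hxR hx1
    have h2 : g ∈ K ⊓ Subgroup.centralizer ({x} : Set G) :=
      ⟨hg, Subgroup.mem_centralizer_iff.2 fun z hz => by
        rw [Set.mem_singleton_iff] at hz
        subst hz
        exact Subgroup.mem_centralizer_iff.1 hgC _ (Subgroup.mem_zpowers _)⟩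
    rw [h] at h2
    exact h2.2
  have hXn : ∀ (N : Subgroup G) [N.Normal], X ≤ Subgroup.normalizer (N : Set G) :=
    fun N _ => Subgroup.le_normalizer_of_normal
  -- the chief factor in the quotient
  let f := QuotientGroup.mk' V
  have hf : Function.Surjective f := QuotientGroup.mk'_surjective V
  haveI : (U.map f).Normal := Subgroup.Normal.map hUn f hf
  haveI : (K.map f).Normal := Subgroup.Normal.map inferInstance f hf
  have hU1 : U.map f ≠ ⊥ := by
    rw [Ne, Subgroup.map_eq_bot_iff, QuotientGroup.ker_mk']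
    exact hVU.not_ge
  have hminQ : ∀ W : Subgroup (G ⧸ V), W.Normal → W ≤ U.map f → W = ⊥ ∨ W = U.map f := by
    intro W hW hWU
    have h1 : W.comap f ≤ U := fun g hg => by
      obtain ⟨u', hu', he⟩ := hWU hg
      have h2 : u'⁻¹ * g ∈ V := QuotientGroup.eq.1 he
      simpa using mul_mem hu' (hVU.le h2)
    have h3 : V ≤ W.comap f := fun g hg => by
      show f g ∈ W
      rw [show f g = 1 from (QuotientGroup.eq_one_iff g).2 hg]
      exact one_mem _
    rcases hmin _ (hW.comap f) h3 h1 with h | h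
    · refine Or.inl ?_
      rw [← Subgroup.map_comap_eq_self_of_surjective hf W, h, QuotientGroup.map_mk'_self]
    · exact Or.inr (by rw [← Subgroup.map_comap_eq_self_of_surjective hf W, h])
  obtain ⟨hUab, p, hp, hUp⟩ := Cfsg.Agent.Lib.Cores.MinNormal.elementary_of_solvable hU1 hminQ
  haveI : Fact p.Prime := ⟨hp⟩
  have hpr : p ≠ r := by
    intro h
    obtain ⟨⟨v, hv⟩, hv1⟩ := Subgroup.ne_bot_iff_exists_ne_one.1 hU1
    have hvo : orderOf v = p := orderOf_eq_prime (hUp v hv) fun h' => hv1 (Subtype.ext h')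
    have hd : p ∣ Nat.card K :=
      ((hvo ▸ Subgroup.orderOf_dvd_natCard _ hv).trans (Subgroup.card_map_dvd U f)).trans
        (Subgroup.card_dvd_of_le hUK)
    exact hp.ne_one (Nat.eq_one_of_dvd_coprimes hKr hd (h ▸ dvd_rfl))
  have hfixQ : ∀ v ∈ U.map f, f x * v * (f x)⁻¹ = v → v = 1 := by
    rintro _ ⟨u', hu', rfl⟩ hfix
    have hdV : u'⁻¹ * (x * u' * x⁻¹) ∈ V := by
      rw [← map_inv, ← map_mul, ← map_mul] at hfix
      exact QuotientGroup.eq.1 hfix.symm
    have hall : ∀ a ∈ X, u'⁻¹ * (a * u' * a⁻¹) ∈ V := by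
      intro a ha
      obtain ⟨n, rfl⟩ := Subgroup.mem_zpowers_iff.1 ha
      rw [← QuotientGroup.eq_one_iff]
      show f (u'⁻¹ * (x ^ n * u' * (x ^ n)⁻¹)) = 1
      simp only [map_mul, map_inv, map_zpow]
      have hc : Commute (f x) (f u') := mul_inv_eq_iff_eq_mul.1 hfix
      rw [(hc.zpow_left n).eq]
      group
    have hcopV : (Nat.card X).Coprime (Nat.card V) := by
      rw [hXcard]
      exact (hKr.coprime_dvd_left (Subgroup.card_dvd_of_le (hVU.le.trans hUK))).symm
    obtain ⟨n, hnV, hn⟩ := Cfsg.Agent.Lib.Coprime.exists_mul_fixed (hXn V) hcopV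
      (Or.inr inferInstance) hall
    have h1 : u' * n = 1 := by
      rw [← Subgroup.mem_bot, ← hF]
      exact ⟨mul_mem (hUF hu') (hUF (hVU.le hnV)),
        hXC _ (mul_mem (hUK hu') (hUK (hVU.le hnV))) hn⟩
    rw [mul_eq_one_iff_eq_inv] at h1
    subst h1
    exact (QuotientGroup.eq_one_iff _).2 (inv_mem hnV)
  have hoddQ : Odd (Nat.card (G ⧸ V)) := hodd.of_dvd_nat (Subgroup.card_quotient_dvd_card V)
  have hC := Cfsg.Agent.Lib.OddLocal.FpfModule.commutator_mem_centralizer hoddQ hpr (U.map f) hU1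
    ⟨hUab, hUp⟩ hminQ (K.map f) (Nat.Coprime.coprime_dvd_left (Subgroup.card_map_dvd K f) hKr)
    (x := f x) (by rw [← map_pow, hxr, map_one]) hfixQ
  -- the centralizer of the chief factor in `K`
  set C := (Subgroup.centralizer ((U.map f : Subgroup (G ⧸ V)) : Set (G ⧸ V))).comap f with hCdef
  haveI : C.Normal := Subgroup.Normal.comap inferInstance f
  set D := K ⊓ C with hDdef
  have hallC : ∀ a ∈ X, k⁻¹ * (a * k * a⁻¹) ∈ D := by
    intro a ha
    refine Subgroup.mem_inf.2 ⟨mul_mem (inv_mem hk) ((inferInstance : K.Normal).conj_mem _ hk a), ?_⟩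
    obtain ⟨n, rfl⟩ := Subgroup.mem_zpowers_iff.1 ha
    show _ ∈ C
    have hcomm : Commute (QuotientGroup.mk' C x) (QuotientGroup.mk' C k) := by
      have h1 : k * x * k⁻¹ * x⁻¹ ∈ C := by
        rw [hCdef, Subgroup.mem_comap]
        rw [map_mul, map_mul, map_mul, map_inv, map_inv]
        exact hC (f k) (Subgroup.mem_map_of_mem f hk)
      rw [← QuotientGroup.eq_one_iff, ← QuotientGroup.mk'_apply, map_mul, map_mul, map_mul,
        map_inv, map_inv, mul_inv_eq_one, mul_inv_eq_iff_eq_mul] at h1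
      exact h1.symm
    rw [← QuotientGroup.eq_one_iff, ← QuotientGroup.mk'_apply, map_mul, map_mul, map_mul,
      map_zpow, map_inv, map_inv, map_zpow, (hcomm.zpow_left n).eq]
    group
  have hcopD : (Nat.card X).Coprime (Nat.card D) := by
    rw [hXcard]
    exact (hKr.coprime_dvd_left (Subgroup.card_dvd_of_le inf_le_left)).symm
  obtain ⟨n, hnD, hn⟩ := Cfsg.Agent.Lib.Coprime.exists_mul_fixed (hXn D) hcopD
    (Or.inr inferInstance) hallC
  have hkn : y * (k * n) = (k * n) * y :=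
    Subgroup.mem_centralizer_iff.1 (hXC _ (mul_mem hk hnD.1) hn) y hy
  have hgC : ⁅k, y⁆ ∈ C := by
    have e : ⁅k, y⁆ = (k * n) * n⁻¹ * y * n * (k * n)⁻¹ * y⁻¹ := by
      rw [commutatorElement_def]; group
    rw [e, ← QuotientGroup.eq_one_iff, ← QuotientGroup.mk'_apply]
    have hn1' : QuotientGroup.mk' C n = 1 := (QuotientGroup.eq_one_iff n).2 hnD.2
    have h2 := congrArg (QuotientGroup.mk' C) hkn
    simp only [map_mul, map_inv, hn1', inv_one, mul_one] at h2 ⊢
    rw [← h2]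
    group
  have h3 : ∀ v ∈ U.map f, v * f ⁅k, y⁆ = f ⁅k, y⁆ * v := fun v hv =>
    Subgroup.mem_centralizer_iff.1 (hgC : f ⁅k, y⁆ ∈ _) v hv
  rw [← QuotientGroup.eq_one_iff]
  show f (u * ⁅k, y⁆ * u⁻¹ * ⁅k, y⁆⁻¹) = 1
  rw [map_mul, map_mul, map_mul, map_inv, map_inv, h3 _ (Subgroup.mem_map_of_mem f hu)]
  group

end Cfsg.Agent.S1445
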