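import Cfsg.Statements.S1419
import Cfsg.Agent.Lib.OddTau.NonabelianSylow
-- import your own Cfsg.Agent.* helpers here

set_option autoImplicit false
open Cfsg

namespace Cfsg.Agent.S1419

/-- Let G be a minimal simple group of odd order whose Sylow p-subgroups are nonabelian, M a maximal subgroup with p ∈ τ₂(M), E a complement to M_σ in M and A ≤ E elementary abelian of order p ^ 2. Then τ₂(M) = {p}; A₀ = A ∩ C_G(M_σ) has order p and F(M) is generated by M_σ and A₀ (a direct product); and every subgroup X ≠ A₀ of E of order p satisfies M_σ ∩ C_G(X) = 1 and C_G(X) ⊄ M. -/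
theorem result {G : Type*} [Group G] [Finite G] (hG : Cfsg.IsMinSimpleOddOrder G)
    (M : Subgroup G) (hM : IsCoatom M) (E : Subgroup G) (hE : Cfsg.IsComplIn E (Cfsg.sigmaCore M) M) (p : ℕ) [Fact p.Prime] (hp : p ∈ Cfsg.tau2 M) (hS : ∀ S : Sylow p G, ¬ IsMulCommutative (S : Subgroup G))
    (A : Subgroup G) (hA : (A ≤ E ∧ Cfsg.IsElementaryAbelian p A ∧ Nat.card A = p ^ 2)) :
    Cfsg.tau2 M = {p} ∧
      (Nat.card ↥(A ⊓ Subgroup.centralizer (Cfsg.sigmaCore M : Set G)) = p ∧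
        Cfsg.fittingOf M = Cfsg.sigmaCore M ⊔ (A ⊓ Subgroup.centralizer (Cfsg.sigmaCore M : Set G))) ∧
      ∀ X : Subgroup G, X ≤ E → Nat.card X = p → X ≠ A ⊓ Subgroup.centralizer (Cfsg.sigmaCore M : Set G) →
        Cfsg.sigmaCore M ⊓ Subgroup.centralizer (X : Set G) = ⊥ ∧ ¬ Subgroup.centralizer (X : Set G) ≤ M := by
  have h : Lib.OddTau.Basic.Ctx M p A := ⟨hG, hM, hp, hA.1.trans hE.1, hA.2.1, hA.2.2⟩
  obtain ⟨S, z, a, g, d⟩ := Lib.OddTau.NonabelianSylow.exists_data h hS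
  have ha1 : a ≠ 1 := fun e => d.anotz (e ▸ one_mem _)
  refine ⟨d.tau2_eq hE hA.1, ⟨?_, ?_⟩, fun X hX hXc hXne => ?_⟩
  · rw [d.inf_centralizer, Nat.card_zpowers, h.orderOf_eq d.amem ha1]
  · rw [d.inf_centralizer]
    exact d.fitting_eq hE hA.1
  rw [d.inf_centralizer] at hXne
  have hXA : X ≤ A := Lib.OddTau.Context.le_of_card_prime h (hX.trans hE.1)
    (hX.trans (Lib.OddTau.Context.le_normalizer_of_compl h hE hA.1)) hXc
  obtain ⟨b, hb, hb1⟩ := X.bot_or_exists_ne_one.resolve_left fun e => by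
    rw [e, Subgroup.card_bot] at hXc
    exact (Fact.out : p.Prime).ne_one hXc.symm
  have hXb : Subgroup.zpowers b = X := Subgroup.eq_of_le_of_card_ge (Subgroup.zpowers_le.2 hb)
    (by rw [Nat.card_zpowers, h.orderOf_eq (hXA hb) hb1, hXc])
  have hba : b ∉ Subgroup.zpowers a := fun hm => hXne (hXb.symm.trans
    (Subgroup.eq_of_le_of_card_ge (Subgroup.zpowers_le.2 hm)
      (by rw [Nat.card_zpowers, Nat.card_zpowers, h.orderOf_eq d.amem ha1,
        h.orderOf_eq (hXA hb) hb1])))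
  obtain ⟨h1, h2⟩ := d.outside (hXA hb) hba
  rw [← hXb, Subgroup.zpowers_eq_closure, Subgroup.centralizer_closure]
  exact ⟨h1, h2⟩

end Cfsg.Agent.S1419
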