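import Cfsg.Statements.S1451
import Cfsg.Agent.Lib.OddLocal.RankTwoTower
-- import your own Cfsg.Agent.* helpers here

set_option autoImplicit false
open Cfsg

namespace Cfsg.Agent.S1451

/-- Let G be a solvable group of odd order such that G, or its Fitting subgroup, has no elementary abelian subgroup of order q ^ 3 for any prime q. Then G' is nilpotent; for every Sylow subgroup S of G, every characteristic subgroup T of S with T ≤ [S, S] is normal in G; and for every prime p, G has a characteristic subgroup that is a Hall subgroup for the set of primes greater than p. -/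
theorem result {G : Type*} [Group G] [Finite G] [Group.IsSolvable G] (hodd : Odd (Nat.card G)) (hr : Cfsg.RankLE 2 G ∨ Cfsg.RankLE 2 (Cfsg.fittingSubgroup G)) :
    Group.IsNilpotent ↥(commutator G) ∧
      (∀ (q : ℕ) [Fact q.Prime] (S : Sylow q G) (T : Subgroup ↥(S : Subgroup G)), T.Characteristic → T.map (S : Subgroup G).subtype ≤ ⁅(S : Subgroup G), (S : Subgroup G)⁆ →
        (T.map (S : Subgroup G).subtype).Normal) ∧
      ∀ p : ℕ, ∃ N : Subgroup G, N.Characteristic ∧ Cfsg.IsPiHall {q | q.Prime ∧ p < q} N := by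
  have hF : Cfsg.RankLE 2 ↥(Cfsg.fittingSubgroup G) := hr.elim (fun h q hq A hA1 hA2 => by
    rw [← Subgroup.card_map_of_injective (Cfsg.fittingSubgroup G).subtype_injective]
    exact h q hq _ (Cfsg.Agent.Lib.PGroups.elemAb_map _ ⟨hA1, hA2⟩).1
      (Cfsg.Agent.Lib.PGroups.elemAb_map _ ⟨hA1, hA2⟩).2) id
  have hn : ∀ q : ℕ, q.Prime → q ≠ 2 → Cfsg.IsNarrow q ↥(Cfsg.pCore q G) := fun q hq _ => by
    haveI : Fact q.Prime := ⟨hq⟩
    exact Or.inl (Cfsg.Agent.Lib.OddOrder.Rank.prankLE_mono
      (Cfsg.Agent.Lib.Cores.pCore_le_fittingSubgroup q) (hF q hq))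
  have hGF := Cfsg.Agent.Lib.OddLocal.DerivedFitting.commutator_le_fitting hodd hn
  refine ⟨Cfsg.Agent.Lib.Cores.isNilpotent_of_le hGF Cfsg.Agent.Lib.Cores.fittingSubgroup_isNilpotent,
    ?_, ?_⟩
  · intro q hq S T hT hTle
    set T' := T.map (S : Subgroup G).subtype with hT'
    have hS'G : ⁅(S : Subgroup G), (S : Subgroup G)⁆ ≤ commutator G := by
      rw [_root_.commutator_def]; exact Subgroup.commutator_mono le_top le_top
    have hNS : Subgroup.normalizer ((S : Subgroup G) : Set G) ≤ Subgroup.normalizer (T' : Set G) :=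
      Cfsg.Agent.Lib.Balance.le_normalizer_map_characteristic T
    have hqel : ∀ z ∈ (S : Subgroup G), ∃ k, orderOf z = q ^ k := fun z hz => by
      obtain ⟨k, hk⟩ := IsPGroup.iff_orderOf.mp S.isPGroup' ⟨z, hz⟩
      exact ⟨k, by rw [← hk, ← Subgroup.orderOf_coe]⟩
    have hTq : T' ≤ Cfsg.pCore q G := fun t ht =>
      Cfsg.Agent.Lib.OddLocal.DerivedFitting.mem_pCore_of_mem_fitting (hGF (hS'G (hTle ht)))
        (hqel t (Subgroup.map_subtype_le _ ht))
    have hGN : commutator G ≤ Subgroup.normalizer (T' : Set G) := fun y hy => by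
      refine Cfsg.Agent.Lib.OddLocal.DerivedFitting.mem_of_primePow_parts fun r hr z hz hzr => ?_
      haveI : Fact r.Prime := ⟨hr⟩
      have hzc := Cfsg.Agent.Lib.OddLocal.DerivedFitting.mem_pCore_of_mem_fitting
        (Subgroup.zpowers_le.mpr (hGF hy) hz) hzr
      by_cases hrq : r = q
      · subst hrq
        exact hNS (Subgroup.le_normalizer (Cfsg.Agent.Lib.Cores.pCore_le_sylow S hzc))
      · have hd : Disjoint (Cfsg.pCore r G) (Cfsg.pCore q G) :=
          IsPGroup.disjoint_of_ne r q hrq _ _ (Cfsg.Agent.Lib.Cores.pCore_isPGroup r)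
            (Cfsg.Agent.Lib.Cores.pCore_isPGroup q)
        rw [Subgroup.mem_normalizer_iff]
        intro t
        have hc : ∀ t ∈ T', z * t * z⁻¹ = t := fun t ht => mul_inv_eq_iff_eq_mul.mpr
          (Subgroup.commute_of_normal_of_disjoint _ _ inferInstance inferInstance hd z t hzc (hTq ht)).eq
        refine ⟨fun ht => by rwa [hc t ht], fun ht => ?_⟩
        have h := hc _ ht
        have he : z * t * z⁻¹ = t := (MulAut.conj z).injective h
        rwa [he] at ht
    set K := (S : Subgroup G) ⊔ commutator G with hK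
    haveI : K.Normal := Subgroup.Normal.of_commutator_le G (le_sup_right : commutator G ≤ K)
    have hfr := Sylow.normalizer_sup_eq_top (S.subtype (le_sup_left : (S : Subgroup G) ≤ K))
    rw [Sylow.coe_subtype, Subgroup.subgroupOf_map_subtype, inf_eq_left.mpr le_sup_left] at hfr
    rw [← Subgroup.normalizer_eq_top_iff, eq_top_iff, ← hfr]
    exact sup_le hNS (sup_le (Subgroup.le_normalizer.trans hNS) hGN)
  · intro p
    refine ⟨Subgroup.closure {x : G | (orderOf x).Coprime p.factorial}, ?_, ?_, ?_⟩
    · rw [Subgroup.characteristic_iff_map_le]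
      intro φ
      rw [MonoidHom.map_closure]
      refine Subgroup.closure_mono ?_
      rintro _ ⟨x, hx, rfl⟩
      show (orderOf (φ x)).Coprime p.factorial
      rw [MulEquiv.orderOf_eq]
      exact hx
    · exact fun r hr hrd => ⟨hr, not_le.mp fun hrp =>
        Cfsg.Agent.Lib.OddLocal.RankTwoTower.card_coprime hodd hn p r hr hrp hrd⟩
    · rintro r hr ⟨-, hpr⟩
      haveI : Fact r.Prime := ⟨hr⟩
      let R : Sylow r G := default
      have hle : (R : Subgroup G) ≤ Subgroup.closure {x : G | (orderOf x).Coprime p.factorial} := by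
        intro x hx
        refine Subgroup.subset_closure ?_
        obtain ⟨k, hk⟩ := IsPGroup.iff_orderOf.mp R.isPGroup' ⟨x, hx⟩
        show (orderOf x).Coprime p.factorial
        rw [show orderOf x = r ^ k by rw [← hk, ← Subgroup.orderOf_coe]]
        exact Nat.Coprime.pow_left k (hr.coprime_iff_not_dvd.mpr fun h =>
          absurd ((Nat.Prime.dvd_factorial hr).mp h) (not_le.mpr hpr))
      exact fun h => R.not_dvd_index (h.trans (Subgroup.index_dvd_of_le hle))

end Cfsg.Agent.S1451
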