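import Cfsg.Statements.S1523
import Cfsg.Agent.Lib.Isometry.SibleyOdd

set_option autoImplicit false
open Cfsg

namespace Cfsg.Agent.S1523

/-- Let G be a finite group, p a prime, P a Sylow p-subgroup whose underlying set is a TI-subset of G, with L the set normaliser of P of odd order. Let Z ≠ ⊥ be a subgroup of P, normal in L and central in P, such that the centralisers in L of any two non-identity elements of Z have the same order. If ψ is an irreducible character of G taking the same value at all non-identity elements of Z, then for z ∈ Z, z ≠ 1, the value ψ z is an integer n with Nat.card P dividing ψ(1) − n (as integers, ψ 1 being the degree). -/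
theorem result {G : Type*} [Group G] [Finite G] (p : ℕ) [Fact p.Prime] (P : Sylow p G) (hTI : Cfsg.IsTISubset ((P : Subgroup G) : Set G)) (hodd : Odd (Nat.card (Subgroup.normalizer ((P : Subgroup G) : Set G)))) (Z : Subgroup G) (hZ1 : Z ≠ ⊥) (hZP : Z ≤ P) (hZn : ∀ x ∈ Subgroup.normalizer ((P : Subgroup G) : Set G), ∀ z ∈ Z, x * z * x⁻¹ ∈ Z) (hZc : ∀ z ∈ Z, ∀ y ∈ (P : Subgroup G), z * y = y * z) (hCL : ∀ z ∈ Z, ∀ z' ∈ Z, z ≠ 1 → z' ≠ 1 → Nat.card ↥(Subgroup.normalizer ((P : Subgroup G) : Set G) ⊓ Subgroup.centralizer ({z} : Set G)) = Nat.card ↥(Subgroup.normalizer ((P : Subgroup G) : Set G) ⊓ Subgroup.centralizer ({z'} : Set G))) (ψ : G → ℂ) (hψ : Cfsg.IsIrrCharacter G ψ) (hconst : ∀ z ∈ Z, ∀ z' ∈ Z, z ≠ 1 → z' ≠ 1 → ψ z = ψ z') (z : G) (hz : z ∈ Z) (hz1 : z ≠ 1) : ∃ n d : ℤ, ψ z = n ∧ ψ 1 = d ∧ (Nat.card (P : Subgroup G) : ℤ) ∣ d - n := by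
  classical
  have := Fintype.ofFinite G
  set L := Subgroup.normalizer ((P : Subgroup G) : Set G) with hL
  have hPL : (P : Subgroup G) ≤ L := Subgroup.le_normalizer
  have : ((P : Subgroup G).subgroupOf L).Normal := Subgroup.normal_in_normalizer
  obtain ⟨k, w, hw, hk, hkey⟩ := Lib.Isometry.TICongruence.card_mul_sub (L := L) hPL
    (fun g hg t ht h => hTI g hg t ht h) hZP (fun z hz h hh => (hZc z hz h hh).symm) hZn hodd
    ⟨ψ, hψ⟩ (c := ψ z) (fun z' hz' hz'1 => hconst z' hz' z hz hz'1 hz1) hz hz1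
  -- the value on `Z` is rational
  obtain ⟨d, hd0, hd⟩ := Lib.Characters.Basic.exists_degree_pos (⟨ψ, hψ⟩ : Cfsg.IrrCharacter G)
  have hd' : ψ 1 = (d : ℂ) := hd
  have := Fintype.ofFinite Z
  obtain ⟨N, hN⟩ := Lib.H80.ClassMult.exists_sum_subgroup (⟨ψ, hψ⟩ : Cfsg.IrrCharacter G) Z
  have hsum : ((Nat.card Z : ℂ) - 1) * ψ z = (Nat.card Z : ℂ) * N - d := by
    rw [← Finset.add_sum_erase _ _ (Finset.mem_univ (1 : Z)), OneMemClass.coe_one,
      Finset.sum_congr rfl (g := fun _ : Z => ψ z) fun v hv => hconst v v.2 z hz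
        (fun h => Finset.ne_of_mem_erase hv (Subtype.ext h)) hz1,
      Finset.sum_const, Finset.card_erase_of_mem (Finset.mem_univ _), Finset.card_univ,
      ← Nat.card_eq_fintype_card, nsmul_eq_mul, Nat.cast_sub Nat.card_pos, Nat.cast_one] at hN
    change ψ 1 + _ = _ at hN
    rw [hd'] at hN
    linear_combination hN
  have hint : IsIntegral ℤ (ψ z) := by
    obtain ⟨_, ρ, -, hρ⟩ := Lib.Characters.Basic.exists_rep (⟨ψ, hψ⟩ : Cfsg.IrrCharacter G)
    have : ρ.character z = ψ z := congrFun hρ z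
    exact this ▸ Lib.Characters.Diag.isIntegral_char ρ z
  have hZcard : (Nat.card Z : ℤ) - 1 ≠ 0 := by
    have : Nat.card Z ≠ 1 := fun h => hZ1 (Subgroup.card_eq_one.1 h)
    omega
  obtain ⟨j, hj⟩ := Lib.Isometry.SibleyOdd.dvd_of_mul_isIntegral hint hZcard
    (a := (Nat.card Z : ℤ) * N - d) (b := 1) (by push_cast; rw [mul_one]; exact hsum)
  have hn : ψ z = (j : ℂ) := by
    refine mul_left_cancel₀ (Int.cast_ne_zero.2 hZcard : (((Nat.card Z : ℤ) - 1 : ℤ) : ℂ) ≠ 0) ?_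
    rw [← Int.cast_mul, ← hj, mul_one]
    push_cast
    exact hsum
  refine ⟨j, (d : ℤ), hn, by rw [hd']; push_cast; rfl, ?_⟩
  -- the multiplier is prime to `p`
  set C := L ⊓ Subgroup.centralizer ({z} : Set G) with hC
  have hPC : (P : Subgroup G) ≤ C := le_inf hPL fun y hy =>
    Subgroup.mem_centralizer_singleton_iff.2 (hZc z hz y hy).symm
  obtain ⟨e, he⟩ := Subgroup.card_dvd_of_le hPL
  obtain ⟨m, hm⟩ := Subgroup.card_dvd_of_le hPC
  have hP0 : 0 < Nat.card (P : Subgroup G) := Nat.card_pos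
  have hke : k = e * m := by
    refine Nat.eq_of_mul_eq_mul_right (pow_pos hP0 2) ?_
    rw [hk, he, hm]; ring
  have he' : ¬ p ∣ e := by
    intro hdvd
    have h1 : Nat.card (P : Subgroup G) * p ∣ Nat.card G := by
      refine dvd_trans ?_ (Subgroup.card_subgroup_dvd_card L)
      rw [he]; exact Nat.mul_dvd_mul_left _ hdvd
    exact P.not_dvd_index (Nat.dvd_of_mul_dvd_mul_left hP0
      ((Subgroup.card_mul_index (P : Subgroup G)).symm ▸ h1))
  have hm' : ¬ p ∣ m := fun hdvd => he' (hdvd.trans (Nat.dvd_of_mul_dvd_mul_left hP0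
    (he ▸ hm ▸ Subgroup.card_dvd_of_le (inf_le_left : C ≤ L))))
  have hcop : IsCoprime (Nat.card (P : Subgroup G) : ℤ) (k : ℤ) := by
    rw [Int.isCoprime_iff_nat_coprime, Int.natAbs_natCast, Int.natAbs_natCast,
      P.card_eq_multiplicity, hke]
    refine Nat.Coprime.pow_left _ ((Nat.Prime.coprime_iff_not_dvd Fact.out).2 fun h => ?_)
    exact ((Fact.out : p.Prime).dvd_mul.1 h).elim he' hm'
  refine hcop.dvd_of_dvd_mul_left
    (Lib.Isometry.SibleyOdd.dvd_of_mul_isIntegral hw (Int.natCast_ne_zero.2 hP0.ne') ?_)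
  push_cast
  rw [← hkey, show ((⟨ψ, hψ⟩ : Cfsg.IrrCharacter G) : G → ℂ) = ψ from rfl, hd', hn]

end Cfsg.Agent.S1523
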