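import Cfsg.Statements.S1503
import Cfsg.Agent.Lib.CyclicTI.Family

set_option autoImplicit false
open Cfsg
open Cfsg.Agent.Lib.CyclicTI Cfsg.Agent.Lib.Induced.Basic Cfsg.Agent.Lib.Characters.Basic

namespace Cfsg.Agent.S1503

/-- Let W₁, W₂ ≤ G with W = W₁ ⊔ W₂ and let χ an orthonormal family of irreducible characters of G up to sign, indexed by the linear characters ω of W, with χ_1 = 1, χ_ω = ω on W outside W₁ ∪ W₂, and the induction identity for (1 − φ)(1 − ψ). If θ is an irreducible character of G orthogonal to χ ω for every linear character ω of W, then θ vanishes at every element of W lying outside W₁ ∪ W₂. -/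
theorem result {G : Type*} [Group G] [Fintype G] (W₁ W₂ : Subgroup G) (hW : Cfsg.IsSelfNormalizingCyclic W₁ W₂) (χ : (↥(W₁ ⊔ W₂) →* ℂˣ) → (G → ℂ)) (hχ : Cfsg.IsCyclicTIFamily W₁ W₂ χ) (θ : G → ℂ) (hθ : Cfsg.IsIrrCharacter G θ) (horth : ∀ ω, Cfsg.classInner θ (χ ω) = 0) (w : ↥(W₁ ⊔ W₂)) (hw₁ : (w : G) ∉ W₁) (hw₂ : (w : G) ∉ W₂) : θ w = 0 := by
  classical
  haveI := Fintype.ofFinite ↥(W₁ ⊔ W₂)
  have hcl : Cfsg.IsClassFunction G θ := isClassFunction_irr ⟨θ, hθ⟩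
  refine eq_zero_of_orthogonal hW (fun u : ↥(W₁ ⊔ W₂) => θ u) (fun φ ψ h1 h2 hP hQ => ?_) hw₁ hw₂
  rw [← frobenius_reciprocity' _ _ hcl,
    show Cfsg.indFun (W₁ ⊔ W₂) (Cfsg.Agent.Lib.CyclicTI.beta φ ψ) = χ 1 - χ φ - χ ψ + χ (φ * ψ) by
      rw [hχ.map_one]; exact hχ.induced_eq φ ψ h1 h2 hP hQ]
  simp only [classInner_add_right, classInner_sub_right, horth, sub_zero, add_zero]

end Cfsg.Agent.S1503
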