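import Cfsg.Statements.S1509
import Cfsg.Agent.Lib.Isometry.Inner
-- import your own Cfsg.Agent.* helpers here

set_option autoImplicit false
open Cfsg

namespace Cfsg.Agent.S1509

open Cfsg.Agent.Lib.Isometry.Inner
open Cfsg.Agent.Lib.Induced.Basic (classInner_add_left classInner_add_right classInner_sub_left classInner_sub_right classInner_smul_left classInner_smul_right classInner_conj_symm)
open scoped ComplexConjugate

theorem aux {X : Type*} [Group X] [Fintype X] (α β γ δ : X → ℂ)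
    (hα : Cfsg.IsIrrCharacter X α ∨ Cfsg.IsIrrCharacter X (-α))
    (hβ : Cfsg.IsIrrCharacter X β ∨ Cfsg.IsIrrCharacter X (-β))
    (hγ : Cfsg.IsIrrCharacter X γ ∨ Cfsg.IsIrrCharacter X (-γ))
    (hδ : Cfsg.IsIrrCharacter X δ ∨ Cfsg.IsIrrCharacter X (-δ))
    (u v : ℂ) (hu : u ≠ 0) (hv : v ≠ 0) (hab : Cfsg.classInner α β = 0)
    (hcd : Cfsg.classInner γ δ = 0)
    (hmix : u * Cfsg.classInner α γ - v * Cfsg.classInner α δ -
      (u * Cfsg.classInner β γ - v * Cfsg.classInner β δ) = 0)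
    (h1 : α 1 = β 1) (h2 : u * γ 1 = v * δ 1) : Cfsg.classInner α γ = 0 := by
  rcases signed_cases hα hγ with h | ⟨ε, hε, e, he⟩
  · exact h
  exfalso
  have hε0 : ε ≠ 0 := by rcases hε with rfl | rfl <;> norm_num
  have had : Cfsg.classInner α δ = 0 := by rw [e, classInner_smul_left, hcd, mul_zero]
  have hbg : Cfsg.classInner β γ = 0 := by
    have hba : Cfsg.classInner β α = 0 := by rw [← classInner_conj_symm, hab, map_zero]
    rw [e, classInner_smul_right, mul_eq_zero] at hba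
    exact hba.resolve_left (by simpa using hε0)
  rw [he, had, hbg] at hmix
  rcases signed_cases hβ hδ with h | ⟨η, hη, f, hf⟩
  · rw [h] at hmix
    simp [hu, hε0] at hmix
  rw [hf] at hmix
  rw [e, f, Pi.smul_apply, Pi.smul_apply, smul_eq_mul, smul_eq_mul] at h1
  have hd0 := apply_one_ne_zero_of_signed hδ
  have hε2 : ε ^ 2 = 1 := by rcases hε with rfl | rfl <;> norm_num
  have hη2 : η ^ 2 = 1 := by rcases hη with rfl | rfl <;> norm_num
  have : v * δ 1 * 2 = 0 := by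
    linear_combination (ε * u) * h1 + (η * δ 1) * hmix - ε ^ 2 * h2 - v * δ 1 * hε2 - v * δ 1 * hη2
  simp [hv, hd0] at this

/-- Let α, β, γ, δ be functions on a finite group X each of which is an irreducible character or the negative of one, and u, v nonzero real numbers. Suppose ⟨α, β⟩ = ⟨γ, δ⟩ = 0, ⟨α − β, uγ − vδ⟩ = 0, α 1 = β 1 and u γ 1 = v δ 1. Then also ⟨α, γ⟩ = ⟨α, δ⟩ = ⟨β, γ⟩ = ⟨β, δ⟩ = 0. -/
theorem result {X : Type*} [Group X] [Fintype X] (α β γ δ : X → ℂ) (hα : Cfsg.IsIrrCharacter X α ∨ Cfsg.IsIrrCharacter X (-α)) (hβ : Cfsg.IsIrrCharacter X β ∨ Cfsg.IsIrrCharacter X (-β)) (hγ : Cfsg.IsIrrCharacter X γ ∨ Cfsg.IsIrrCharacter X (-γ)) (hδ : Cfsg.IsIrrCharacter X δ ∨ Cfsg.IsIrrCharacter X (-δ)) (u v : ℝ) (hu : u ≠ 0) (hv : v ≠ 0) (hab : Cfsg.classInner α β = 0) (hcd : Cfsg.classInner γ δ = 0) (hmix : Cfsg.classInner (α - β) ((u : ℂ) • γ - (v : ℂ) • δ) = 0) (h1 : α 1 = β 1) (h2 : (u : ℂ) * γ 1 = (v : ℂ) * δ 1) : Cfsg.classInner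 α γ = 0 ∧ Cfsg.classInner α δ = 0 ∧ Cfsg.classInner β γ = 0 ∧ Cfsg.classInner β δ = 0 := by
  have hmix' : (u : ℂ) * Cfsg.classInner α γ - (v : ℂ) * Cfsg.classInner α δ -
      ((u : ℂ) * Cfsg.classInner β γ - (v : ℂ) * Cfsg.classInner β δ) = 0 := by
    simp only [classInner_sub_left, classInner_sub_right, classInner_smul_right, Complex.conj_ofReal] at hmix
    linear_combination hmix
  have huC : (u : ℂ) ≠ 0 := Complex.ofReal_ne_zero.2 hu
  have hvC : (v : ℂ) ≠ 0 := Complex.ofReal_ne_zero.2 hv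
  have hba : Cfsg.classInner β α = 0 := by rw [← classInner_conj_symm, hab, map_zero]
  have hdc : Cfsg.classInner δ γ = 0 := by rw [← classInner_conj_symm, hcd, map_zero]
  refine ⟨aux α β γ δ hα hβ hγ hδ u v huC hvC hab hcd hmix' h1 h2,
    aux α β δ γ hα hβ hδ hγ v u hvC huC hab hdc (by linear_combination -hmix') h1 h2.symm,
    aux β α γ δ hβ hα hγ hδ u v huC hvC hba hcd (by linear_combination -hmix') h1.symm h2,
    aux β α δ γ hβ hα hδ hγ v u hvC huC hba hdc (by linear_combination hmix') h1.symm h2.symm⟩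

end Cfsg.Agent.S1509
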