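import Cfsg.Statements.S1481
import Cfsg.Agent.Lib.OddOrder.BenderLocal

set_option autoImplicit false
set_option linter.style.haveILetI false
open Cfsg
open scoped Pointwise

namespace Cfsg.Agent.S1481

open Cfsg.Agent.Lib.OddOrder Cfsg.Agent.Lib.OddOrder.Fitting

/-- Let G be a finite group and H a local subgroup (the normalizer of a nontrivial subgroup of prime-power order) not properly contained in any local subgroup; let F = F(H), suppose at least two primes divide #F, put X = H ∩ C_G(F), let M ≤ F with F ∩ C_G(M) ≤ M, and let R be a solvable subgroup normalized by M and by X. Then for every prime q not dividing #F there is exactly one maximal M-invariant q-subgroup of R, and it is a Sylow q-subgroup of the largest normal subgroup of R of order coprime to #F. -/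
theorem result {G : Type*} [Group G] [Finite G] (H : Subgroup G) (hH : Cfsg.IsLocalSubgroup H) (hHmax : ∀ L : Subgroup G, Cfsg.IsLocalSubgroup L → H ≤ L → L = H)
    (hF2 : 2 ≤ (Nat.card (Cfsg.fittingOf H)).primeFactors.card)
    (M : Subgroup G) (hM : M ≤ Cfsg.fittingOf H) (hCM : Cfsg.fittingOf H ⊓ Subgroup.centralizer (M : Set G) ≤ M)
    (R : Subgroup G) (hR : Group.IsSolvable R) (hMR : M ≤ Subgroup.normalizer (R : Set G))
    (hXR : H ⊓ Subgroup.centralizer (Cfsg.fittingOf H : Set G) ≤ Subgroup.normalizer (R : Set G))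
    (q : ℕ) [Fact q.Prime] (hq : ¬ q ∣ Nat.card (Cfsg.fittingOf H)) :
    ∃! Q : Subgroup G, Q ∈ Cfsg.maxInvSubgroups R M {q} ∧
      (∀ Q' : Subgroup G, Q' ∈ Cfsg.maxInvSubgroups R M {q} →
        Q' ≤ Cfsg.piCoreOf (Cfsg.primesNotDvd (Nat.card (Cfsg.fittingOf H))) R ∧
        ¬ q ∣ Q'.relIndex (Cfsg.piCoreOf (Cfsg.primesNotDvd (Nat.card (Cfsg.fittingOf H))) R)) := by
  have hN : ∀ (p : ℕ) [Fact p.Prime], p ∣ Nat.card (Cfsg.fittingOf H) →
      Subgroup.normalizer (zPart p H : Set G) = H := fun p hp hd =>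
    hHmax _ ⟨p, zPart p H, hp.out, zPart_isPGroup p H, zPart_ne_bot hd, rfl⟩
      (le_normalizer_zPart p H)
  set n := Nat.card (Cfsg.fittingOf H) with hn
  set π := Cfsg.primesNotDvd n with hπ
  set K := Cfsg.piCoreOf π R with hK
  have hKR : K ≤ R := MinSimple.piCoreOf_le π R
  have hqπ : q ∈ π := ⟨Fact.out, hq⟩
  have hqg : ∀ Y : Subgroup G, Y ∈ Cfsg.invSubgroups R M {q} → IsPGroup q Y := by
    intro Y hY
    refine IsPGroup.iff_card.2 ?_
    exact ⟨_, Nat.eq_prime_pow_of_unique_prime_dvd Nat.card_pos.ne'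
      fun {d} hd hdd => Set.mem_singleton_iff.1 (hY.2.1 d hd hdd)⟩
  have hin : ∀ Y : Subgroup G, Y ∈ Cfsg.invSubgroups R M {q} → Y ≤ K := by
    intro Y hY
    let I : Subgroup R := ⨅ (p : Nat.Primes), ⨅ (_ : (p : ℕ) ∣ n), Cfsg.pPrimeCore (p : ℕ) R
    haveI : I.Normal := Subgroup.normal_iInf_normal fun p => Subgroup.normal_iInf_normal
      fun _ => inferInstance
    have hI : I ≤ Cfsg.piCore π R := Lib.Cores.le_piCore fun r hr hrd => ⟨hr, fun hrn => by
      haveI := Fact.mk hr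
      exact Lib.Cores.not_dvd_card_pPrimeCore (G := R) r
        (hrd.trans (Subgroup.card_dvd_of_le ((iInf_le _ (⟨r, hr⟩ : Nat.Primes)).trans
          (iInf_le _ hrn))))⟩
    intro y hy
    refine ⟨⟨y, hY.1 hy⟩, hI ?_, rfl⟩
    simp only [I, Subgroup.mem_iInf]
    intro p hpd
    haveI := Fact.mk p.2
    obtain ⟨z, hz, hze⟩ := BenderLocal.le_pO_of_invariant hN hF2 hM hCM hMR hXR hq hY.1 (hqg Y hY)
      hY.2.2 hpd hy
    have hzy : z = ⟨y, hY.1 hy⟩ := Subtype.ext hze
    exact hzy ▸ hz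
  have hMK : M ≤ Subgroup.normalizer (K : Set G) :=
    hMR.trans (Lib.CharP.normalizer_le_normalizer_map_char _)
  have hcop : (Nat.card M).Coprime (Nat.card K) :=
    Nat.coprime_of_dvd fun r hr h1 h2 =>
      (MinSimple.piCoreOf_isPiGroup π R r hr h2).2 (h1.trans (Subgroup.card_dvd_of_le hM))
  have hsol : Group.IsSolvable M ∨ Group.IsSolvable K :=
    Or.inr (@Lib.Coprime.isSolvable_of_le _ _ _ _ hKR hR)
  have hfix : K ⊓ Subgroup.centralizer (M : Set G) = ⊥ := by
    rw [Subgroup.eq_bot_iff_forall]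
    rintro x ⟨hxK, hxM⟩
    obtain ⟨p, hp, hpd, -⟩ := exists_ne_prime hF2 q
    haveI := Fact.mk hp
    have hxH : x ∈ H := BenderLocal.centralizer_part_le hN
      ((inf_le_inf_left _ (Subgroup.centralizer_le hM)).trans hCM) hpd
      (Subgroup.centralizer_le inf_le_left hxM)
    refine BenderLocal.eq_one_of_fixed hM hCM hXR hxH (hKR hxK) (fun r hr hrd => ?_)
      fun r _ _ m hm => (Subgroup.mem_centralizer_iff.1 hxM m hm.1).symm
    refine Nat.Coprime.symm ((hr.coprime_iff_not_dvd).2 fun h => ?_)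
    exact (MinSimple.piCoreOf_isPiGroup π R r hr
      (h.trans (Subgroup.orderOf_dvd_natCard _ hxK))).2 hrd
  -- invariant Sylow subgroups of `K` are the maximal invariant `q`-subgroups
  have hsyl : ∀ P : Sylow q K,
      M ≤ Subgroup.normalizer (((P : Subgroup K).map K.subtype : Subgroup G) : Set G) →
      (P : Subgroup K).map K.subtype ∈ Cfsg.invSubgroups R M {q} := by
    intro P hP
    refine ⟨(Subgroup.map_subtype_le _).trans hKR, fun r hr hrd => ?_, hP⟩
    obtain ⟨k, hk⟩ := IsPGroup.iff_card.1 (P.isPGroup'.map K.subtype)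
    exact Set.mem_singleton_iff.2
      ((Nat.prime_dvd_prime_iff_eq hr Fact.out).1 (hr.dvd_of_dvd_pow (hk ▸ hrd)))
  obtain ⟨P, hP⟩ := Lib.Coprime.exists_invariant_sylow hMK hcop hsol q
  set Q := (P : Subgroup K).map K.subtype with hQ
  have huniq : ∀ Y ∈ Cfsg.invSubgroups R M {q}, Y ≤ Q := by
    intro Y hY
    obtain ⟨P', hYP', hP'⟩ := Lib.Coprime.exists_invariant_sylow_ge hMK hcop hsol q Y (hin Y hY)
      (hqg Y hY) hY.2.2
    obtain ⟨c, hc, hce⟩ := Lib.Coprime.exists_conj_invariant_sylow hMK hcop hsol P P' hP hP'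
    rw [hfix, Subgroup.mem_bot] at hc
    rw [hc, map_one, one_smul] at hce
    exact hYP'.trans hce.ge
  have hQmax : Q ∈ Cfsg.maxInvSubgroups R M {q} :=
    ⟨hsyl P hP, fun Y hY h => le_antisymm (huniq Y hY) h⟩
  refine ⟨Q, ⟨hQmax, fun Q' hQ' => ?_⟩, fun Q' hQ' => (hQ'.1.2 Q hQmax.1 (huniq Q' hQ'.1.1)).symm⟩
  have : Q' = Q := (hQ'.2 Q hQmax.1 (huniq Q' hQ'.1)).symm
  subst this
  refine ⟨Subgroup.map_subtype_le _, ?_⟩
  rw [hQ, Basic.relIndex_map_subtype]
  exact P.not_dvd_index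

end Cfsg.Agent.S1481
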