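import Cfsg.Statements.S4558
import Cfsg.Agent.Lib.BC78.Roots
import Mathlib.RingTheory.Ideal.Quotient.Basic
import Mathlib.Algebra.CharP.Quotient

set_option autoImplicit false
open Cfsg

namespace Cfsg.Agent.S4558

theorem result {G : Type*} [Group G] [Finite G] (p : ℕ) [Fact p.Prime] (χ : G → ℂ) (hχ : Cfsg.IsCharacter G χ) (g : G) (hg : ∃ j : ℕ, orderOf g = p ^ j) (h0 : χ g = 0) : p ∣ Cfsg.charDegree χ := by
  have hp : p.Prime := Fact.out
  obtain ⟨j, hj⟩ := hg
  have hnu : ¬ IsUnit (p : Cfsg.AlgInt) := by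
    intro hu
    obtain ⟨a, ha⟩ := hu.exists_right_inv
    have hq : IsIntegral ℤ (algebraMap ℚ ℂ ((p : ℚ)⁻¹)) := by
      have h1 : (p : ℂ) * (a : ℂ) = 1 := by
        have := congrArg Subtype.val ha
        simpa using this
      have h2 : algebraMap ℚ ℂ ((p : ℚ)⁻¹) = (a : ℂ) := by
        rw [map_inv₀, map_natCast]
        exact inv_eq_of_mul_eq_one_right h1
      rw [h2]
      exact a.2
    rw [isIntegral_algebraMap_iff (algebraMap ℚ ℂ).injective,
      IsIntegrallyClosed.isIntegral_iff] at hq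
    obtain ⟨y, hy⟩ := hq
    have h3 : ((y * p : ℤ) : ℚ) = 1 := by
      push_cast
      rw [show (y : ℚ) = (p : ℚ)⁻¹ from hy, inv_mul_cancel₀ (Nat.cast_ne_zero.2 hp.ne_zero)]
    have h4 : y * (p : ℤ) = 1 := by exact_mod_cast h3
    have := Int.eq_one_of_mul_eq_one_left (by positivity) h4
    exact hp.ne_one (by exact_mod_cast this)
  obtain ⟨M, hM, hle⟩ := Ideal.exists_le_maximal (Ideal.span {(p : Cfsg.AlgInt)})
    (fun h => hnu (Ideal.span_singleton_eq_top.1 h))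
  haveI := hM.isPrime
  have hp0 : ((p : ℕ) : Cfsg.AlgInt ⧸ M) = 0 := by
    rw [← map_natCast (Ideal.Quotient.mk M), Ideal.Quotient.eq_zero_iff_mem]
    exact hle (Ideal.mem_span_singleton_self _)
  haveI : CharP (Cfsg.AlgInt ⧸ M) p := (CharP.charP_iff_prime_eq_zero hp).2 hp0
  have h := Lib.BC78.Roots.char_eq_degree_mod hχ g (by rw [← hj]; exact pow_orderOf_eq_one g)
    (Ideal.Quotient.mk M) (Lib.BC78.Roots.isIntegral_char hχ g)
  rw [show (⟨χ g, Lib.BC78.Roots.isIntegral_char hχ g⟩ : Cfsg.AlgInt) = 0 from Subtype.ext h0,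
    map_zero] at h
  exact (CharP.cast_eq_zero_iff (Cfsg.AlgInt ⧸ M) p _).1 h.symm

end Cfsg.Agent.S4558
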