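import Cfsg.Statements.S0007
-- import your own Cfsg.Agent.* helpers here

set_option autoImplicit false
open Cfsg

namespace Cfsg.Agent.S0007

/-- Subgroups of coprime index: the intersection has index equal to the product of the indices, and every element is a product of an element of the first subgroup and an element of the second. -/
theorem result {G : Type*} [Group G] [Finite G] (H K : Subgroup G)
    (h : H.index.Coprime K.index) :
    (H ⊓ K).index = H.index * K.index ∧ ∀ g : G, ∃ x ∈ H, ∃ y ∈ K, g = x * y := by
  have h1 : H.index * K.index ∣ (H ⊓ K).index :=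
    h.mul_dvd_of_dvd_of_dvd (Subgroup.index_dvd_of_le inf_le_left) (Subgroup.index_dvd_of_le inf_le_right)
  have hne : (H ⊓ K).index ≠ 0 := Subgroup.index_ne_zero_of_finite
  have hidx : (H ⊓ K).index = H.index * K.index :=
    le_antisymm Subgroup.index_inf_le (Nat.le_of_dvd (Nat.pos_of_ne_zero hne) h1)
  refine ⟨hidx, fun g => ?_⟩
  have hmul : (H ⊓ K).relIndex K * K.index = (H ⊓ K).index :=
    Subgroup.relIndex_mul_index inf_le_right
  rw [hidx, Subgroup.inf_relIndex_right] at hmul
  have hrel : H.relIndex K = H.index :=
    Nat.eq_of_mul_eq_mul_right (Nat.pos_of_ne_zero Subgroup.index_ne_zero_of_finite) hmul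
  let f : K ⧸ H.subgroupOf K → G ⧸ H := Quotient.map' (fun k => (k : G)) (fun a b hab => by
    rw [QuotientGroup.leftRel_apply] at hab ⊢
    exact hab)
  have finj : Function.Injective f := by
    intro a b
    induction a using QuotientGroup.induction_on with
    | H a => induction b using QuotientGroup.induction_on with
      | H b =>
        intro hab
        have := QuotientGroup.eq.1 (show ((a : G) : G ⧸ H) = ((b : G) : G ⧸ H) from hab)
        exact QuotientGroup.eq.2 this
  have fbij : Function.Bijective f :=
    (Nat.bijective_iff_injective_and_card f).2 ⟨finj, hrel⟩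
  obtain ⟨q, hq⟩ := fbij.2 ((g⁻¹ : G) : G ⧸ H)
  induction q using QuotientGroup.induction_on with
  | H k =>
    have hk := QuotientGroup.eq.1 (show ((k : G) : G ⧸ H) = ((g⁻¹ : G) : G ⧸ H) from hq)
    refine ⟨((k : G)⁻¹ * g⁻¹)⁻¹, H.inv_mem hk, (k : G)⁻¹, K.inv_mem k.2, ?_⟩
    simp [mul_assoc]

end Cfsg.Agent.S0007
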