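import Cfsg.Statements.S0100
import Cfsg.Agent.Lib.PGroups.MaxAbelian
import Cfsg.Agent.Lib.PGroups.Omega

set_option autoImplicit false
open Cfsg

namespace Cfsg.Agent.S0100

/-- For odd p, a p-group without normal elementary abelian subgroups of order p^3 has p-rank at most 2. -/
theorem result {P : Type*} [Group P] [Finite P] {p : ℕ} [Fact p.Prime] (hp : p ≠ 2) (hP : IsPGroup p P) (h : ∀ A : Subgroup P, A.Normal → IsMulCommutative A → (∀ a ∈ A, a ^ p = 1) → Nat.card A ≠ p ^ 3) (E : Subgroup P) (hE : IsMulCommutative E) (hEe : ∀ e ∈ E, e ^ p = 1) : Nat.card E ≤ p ^ 2 := by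
  have hprime : p.Prime := Fact.out
  obtain ⟨A, ⟨hAn, hAab, hAe⟩, hmax⟩ :=
    (Set.toFinite {A : Subgroup P | A.Normal ∧ IsMulCommutative A ∧ ∀ a ∈ A, a ^ p = 1}).exists_maximal
      ⟨⊥, inferInstance, ⟨⟨fun a b => Subsingleton.elim _ _⟩⟩, fun a ha => by
        rw [Subgroup.mem_bot.1 ha, one_pow]⟩
  haveI := hAn
  set C := Subgroup.centralizer (A : Set P) with hC
  have hΩ : ∀ x ∈ C, x ^ p = 1 → x ∈ A := by
    intro x hx hxp
    refine Lib.PGroups.mem_of_maximal_exponent (G := P) hP 1 (by rw [pow_one]; exact hp) hAab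
      (by simpa using hAe) ?_ hx (by simpa using hxp)
    intro B hBn hBab hBe hAB
    exact le_antisymm (hmax ⟨hBn, hBab, by simpa using hBe⟩ hAB) hAB
  have hA2 : Nat.card A ≤ p ^ 2 := by
    by_contra hgt
    obtain ⟨k, hk⟩ := IsPGroup.iff_card.1 (hP.to_subgroup A)
    have hk3 : p ^ 3 ≤ Nat.card A := by
      rw [hk] at hgt ⊢
      refine Nat.pow_le_pow_right hprime.pos ?_
      by_contra hk'
      exact hgt (Nat.pow_le_pow_right hprime.pos (by omega))
    obtain ⟨M, hMn, hMA, hMc⟩ := Lib.PGroups.exists_normal_le_card hP A hk3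
    refine h M hMn ⟨⟨fun a b => Subtype.ext ?_⟩⟩ (fun a ha => hAe a (hMA ha)) hMc
    exact (congrArg Subtype.val (hAab.is_comm.comm (⟨a, hMA a.2⟩ : A) ⟨b, hMA b.2⟩) :)
  obtain ⟨a, ha⟩ := IsPGroup.iff_card.1 (hP.to_subgroup A)
  have ha2 : a ≤ 2 := (Nat.pow_le_pow_iff_right hprime.one_lt).1 (ha ▸ hA2)
  have hidx : C.index ≤ p := by
    refine le_trans (Lib.PGroups.index_centralizer_le hP a A hAn ha) ?_
    interval_cases a <;> simp [Nat.choose] <;> exact hprime.pos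
  by_contra hgt
  have hEC : E ⊓ C ≤ A := fun x hx => hΩ x hx.2 (hEe x hx.1)
  have hmul : Nat.card E ≤ Nat.card (E ⊓ C : Subgroup P) * p := by
    rw [← Subgroup.card_mul_index ((E ⊓ C).subgroupOf E),
      Nat.card_congr (Subgroup.subgroupOfEquivOfLe (inf_le_left : E ⊓ C ≤ E)).toEquiv]
    refine Nat.mul_le_mul le_rfl (le_trans ?_ hidx)
    show (E ⊓ C).relIndex E ≤ C.index
    rw [Subgroup.inf_relIndex_left]
    exact Nat.le_of_dvd (Nat.pos_of_ne_zero Subgroup.index_ne_zero_of_finite)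
      (Subgroup.relIndex_dvd_index_of_normal C E)
  obtain ⟨e, he⟩ := IsPGroup.iff_card.1 (hP.to_subgroup E)
  obtain ⟨c, hc⟩ := IsPGroup.iff_card.1 (hP.to_subgroup (E ⊓ C))
  have he3 : 3 ≤ e := by
    by_contra h3
    exact hgt (he ▸ Nat.pow_le_pow_right hprime.pos (by omega))
  have hc2 : 2 ≤ c := by
    rw [he, hc, ← pow_succ] at hmul
    have := (Nat.pow_le_pow_iff_right hprime.one_lt).1 hmul
    omega
  have heq : E ⊓ C = A := Subgroup.eq_of_le_of_card_ge hEC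
    (le_trans hA2 (hc ▸ Nat.pow_le_pow_right hprime.pos hc2))
  have hEle : E ≤ C := fun x hx => Subgroup.mem_centralizer_iff.2 fun y hy =>
    congrArg Subtype.val (hE.is_comm.comm (⟨y, (heq ▸ hy : y ∈ E ⊓ C).1⟩ : E) ⟨x, hx⟩)
  have hEA : E ≤ A := heq ▸ le_inf le_rfl hEle
  exact hgt (le_trans (Subgroup.card_le_of_le hEA) hA2)

end Cfsg.Agent.S0100
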