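import Cfsg.Statements.S0597
import Cfsg.Agent.Lib.PLocal.Action
import Cfsg.Agent.Lib.Cores.Subnormal
import Cfsg.Agent.Lib.Cores.Basic
-- import your own Cfsg.Agent.* helpers here

set_option autoImplicit false
open Cfsg
open scoped commutatorElement

namespace Cfsg.Agent.S0597

/-- If two subnormal subgroups of a faithful group on an elementary abelian p-group satisfy [V, E₁, E₂] = 1, then their commutator lies in the largest normal p-subgroup. -/
theorem result {G : Type*} [Group G] [Finite G] {p : ℕ} [Fact p.Prime] (V H : Subgroup G) (hV : Cfsg.IsElementaryAbelian p V) (hHV : H ≤ Subgroup.normalizer (V : Set G)) (hf : H ⊓ Subgroup.centralizer (V : Set G) = ⊥) (E₁ E₂ : Subgroup G) (h₁ : E₁ ≤ H) (h₂ : E₂ ≤ H) (hs₁ : (E₁.subgroupOf H).IsSubnormal) (hs₂ : (E₂.subgroupOf H).IsSubnormal) (hc : ⁅⁅V, E₁⁆, E₂⁆ = ⊥) : ⁅E₁, E₂⁆ ≤ (Cfsg.pCore p H).map H.subtype := by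
  open Cfsg.Agent.Lib Cfsg.Agent.Lib.PLocal in
  set X := ⁅V, E₁⁆ with hX
  set D := ⁅E₁, E₂⁆ with hD
  have hXV : X ≤ V := PLocal.commutator_le_self (h₁.trans hHV)
  have hE1X : E₁ ≤ Subgroup.normalizer (X : Set G) := Subgroup.normalizer_commutator_ge_right _ _
  have hE2X : E₂ ≤ Subgroup.centralizer (X : Set G) :=
    Subgroup.le_centralizer_iff.mp (Subgroup.commutator_eq_bot_iff_le_centralizer.mp hc)
  have hDX : D ≤ Subgroup.centralizer (X : Set G) := by
    rw [hD, Subgroup.commutator_le]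
    intro x hx y hy
    rw [Subgroup.mem_centralizer_iff]
    intro w hw
    have hw' : x⁻¹ * w * x ∈ X := (Subgroup.mem_normalizer_iff''.mp (hE1X hx) w).mp hw
    have e1 := Subgroup.mem_centralizer_iff.mp (hE2X hy) _ hw'
    have e2 := Subgroup.mem_centralizer_iff.mp (hE2X hy) _ hw
    calc w * ⁅x, y⁆ = x * ((x⁻¹ * w * x) * y) * x⁻¹ * y⁻¹ := by
          rw [commutatorElement_def]; group
      _ = x * (y * (x⁻¹ * w * x)) * x⁻¹ * y⁻¹ := by rw [e1]
      _ = x * y * x⁻¹ * ((w * y) * y⁻¹ * y⁻¹) := by group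
      _ = x * y * x⁻¹ * ((y * w) * y⁻¹ * y⁻¹) := by rw [e2]
      _ = x * y * x⁻¹ * y⁻¹ * ((y * (y * w)) * y⁻¹ * y⁻¹) := by group
      _ = x * y * x⁻¹ * y⁻¹ * ((y * (w * y)) * y⁻¹ * y⁻¹) := by rw [e2]
      _ = x * y * x⁻¹ * y⁻¹ * (((y * w) * y) * y⁻¹ * y⁻¹) := by group
      _ = x * y * x⁻¹ * y⁻¹ * (((w * y) * y) * y⁻¹ * y⁻¹) := by rw [e2]
      _ = ⁅x, y⁆ * w := by rw [commutatorElement_def]; group
  -- `D` acts trivially on `V / X`
  have hVX : ∀ v ∈ V, ∀ d ∈ D, ⁅v, d⁆ ∈ X := by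
    have h3 : ∀ v ∈ V, ∀ x ∈ E₁, ⁅v, x⁆ ∈ X := fun v hv x hx =>
      Subgroup.commutator_mem_commutator hv hx
    let T : Subgroup G :=
      { carrier := {g | g ∈ Subgroup.normalizer (V : Set G) ∧
          g ∈ Subgroup.normalizer (X : Set G) ∧ ∀ v ∈ V, ⁅v, g⁆ ∈ X}
        one_mem' := ⟨one_mem _, one_mem _, fun v _ => by simp [commutatorElement_def]⟩
        mul_mem' := fun {a b} ha hb => ⟨mul_mem ha.1 hb.1, mul_mem ha.2.1 hb.2.1, fun v hv => by
          rw [show ⁅v, a * b⁆ = ⁅v, a⁆ * (a * ⁅v, b⁆ * a⁻¹) by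
            simp only [commutatorElement_def]; group]
          exact X.mul_mem (ha.2.2 v hv)
            ((Subgroup.mem_normalizer_iff.mp ha.2.1 _).mp (hb.2.2 v hv))⟩
        inv_mem' := fun {a} ha => ⟨inv_mem ha.1, inv_mem ha.2.1, fun v hv => by
          rw [show ⁅v, a⁻¹⁆ = (a⁻¹ * ⁅v, a⁆ * a)⁻¹ by simp only [commutatorElement_def]; group]
          exact X.inv_mem ((Subgroup.mem_normalizer_iff''.mp ha.2.1 _).mp (ha.2.2 v hv))⟩ }
    have hE1T : E₁ ≤ T := fun x hx => ⟨hHV (h₁ hx), hE1X hx, fun v hv => h3 v hv x hx⟩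
    have hDT : D ≤ T := by
      rw [hD, Subgroup.commutator_le]
      intro x hx y hy
      have hyV := hHV (h₂ hy)
      have hyX : y ∈ Subgroup.normalizer (X : Set G) :=
        Subgroup.centralizer_le_normalizer _ (hE2X hy)
      have hconj : y * x⁻¹ * y⁻¹ ∈ T := by
        refine ⟨mul_mem (mul_mem hyV (inv_mem (hHV (h₁ hx)))) (inv_mem hyV),
          mul_mem (mul_mem hyX (inv_mem (hE1X hx))) (inv_mem hyX), fun v hv => ?_⟩
        rw [show ⁅v, y * x⁻¹ * y⁻¹⁆ = y * ⁅y⁻¹ * v * y, x⁻¹⁆ * y⁻¹ by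
          simp only [commutatorElement_def]; group]
        exact (Subgroup.mem_normalizer_iff.mp hyX _).mp
          (h3 _ ((Subgroup.mem_normalizer_iff''.mp hyV v).mp hv) _ (inv_mem hx))
      have := T.mul_mem (hE1T hx) hconj
      rw [commutatorElement_def]
      simpa [mul_assoc] using this
    intro v hv d hd
    exact (hDT hd).2.2 v hv
  have hDH : D ≤ H := by
    rw [hD, Subgroup.commutator_le]
    intro x hx y hy
    rw [commutatorElement_def]
    exact H.mul_mem (H.mul_mem (H.mul_mem (h₁ hx) (h₂ hy)) (H.inv_mem (h₁ hx))) (H.inv_mem (h₂ hy))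
  have hDp : IsPGroup p D := by
    intro d
    refine ⟨1, Subtype.ext ?_⟩
    have h := pow_mem_centralizer_of_two_step (V := V) (W := X) (a := (d : G))
      (fun w hw => hV.2 w (hXV hw)) (fun v hv => hVX v hv d d.2)
      (fun w hw => (Subgroup.mem_centralizer_iff.mp (hDX d.2) w hw).symm)
    have h' : (d : G) ^ p ∈ H ⊓ Subgroup.centralizer (V : Set G) :=
      ⟨H.pow_mem (hDH d.2) p, h⟩
    rw [hf, Subgroup.mem_bot] at h'
    simpa using h'
  have hE : E₁ ⊔ E₂ ≤ H := sup_le h₁ h₂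
  have hsub : ((E₁ ⊔ E₂).subgroupOf H).IsSubnormal := by
    rw [Subgroup.subgroupOf_sup h₁ h₂]
    exact Cores.Subnormal.sup hs₁ hs₂
  have hDE : D ≤ E₁ ⊔ E₂ := by
    rw [hD, Subgroup.commutator_le]
    intro x hx y hy
    rw [commutatorElement_def]
    exact mul_mem (mul_mem (mul_mem (Subgroup.mem_sup_left hx) (Subgroup.mem_sup_right hy))
      (inv_mem (Subgroup.mem_sup_left hx))) (inv_mem (Subgroup.mem_sup_right hy))
  have hn : E₁ ⊔ E₂ ≤ Subgroup.normalizer (D : Set G) :=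
    sup_le (Subgroup.normalizer_commutator_ge_left _ _)
      (Subgroup.normalizer_commutator_ge_right _ _)
  have hDn : (D.subgroupOf H).IsSubnormal := by
    refine Subgroup.IsSubnormal.step _ ((E₁ ⊔ E₂).subgroupOf H)
      ((Subgroup.comap_mono hDE : D.subgroupOf H ≤ (E₁ ⊔ E₂).subgroupOf H)) hsub ?_
    have hle : D.subgroupOf H ≤ (E₁ ⊔ E₂).subgroupOf H := fun z hz => hDE hz
    refine (Subgroup.normal_subgroupOf_iff_le_normalizer hle).mpr ?_
    intro x hx
    rw [Subgroup.mem_normalizer_iff]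
    intro y
    exact Subgroup.mem_normalizer_iff.mp (hn hx) y
  have h := Cores.IsSubnormal.le_pCore hDn hDp.comap_subtype
  intro d hd
  exact ⟨⟨d, hDH hd⟩, h (Subgroup.mem_subgroupOf.mpr hd), rfl⟩

end Cfsg.Agent.S0597
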