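import Cfsg.Statements.S0607
import Cfsg.Agent.Lib.PLocal.Thompson
-- import your own Cfsg.Agent.* helpers here

set_option autoImplicit false
open Cfsg

namespace Cfsg.Agent.S0607
open scoped commutatorElement Pointwise

/-- The replacement Theorem for the Thompson subgroup: from A of maximal order among elementary abelian p-subgroups one obtains A₀ = [V, A] C_A([V, A]) of the same kind, quadratic on V and nontrivial on V when A is. -/
theorem result {G : Type*} [Group G] [Finite G] {p : ℕ} [Fact p.Prime] (V : Subgroup G) [V.Normal] (hV : Cfsg.IsElementaryAbelian p V) (A : Subgroup G) (hA : A ∈ Cfsg.maxElementaryAbelianSubgroups p G) : (⁅V, A⁆ ⊔ (A ⊓ Subgroup.centralizer ((⁅V, A⁆ : Subgroup G) : Set G))) ∈ Cfsg.maxElementaryAbelianSubgroups p G ∧ ⁅⁅V, ⁅V, A⁆ ⊔ (A ⊓ Subgroup.centralizer ((⁅V, A⁆ : Subgroup G) : Set G))⁆, ⁅V, A⁆ ⊔ (A ⊓ Subgroup.centralizer ((⁅V, A⁆ : Subgroup G) : Set G))⁆ = ⊥ ∧ (⁅V, A⁆ ≠ ⊥ → ⁅V, ⁅V, A⁆ ⊔ (A ⊓ Subgroup.centralizer ((⁅V,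 A⁆ : Subgroup G) : Set G))⁆ ≠ ⊥) := by
  have hVn : A ≤ Subgroup.normalizer (V : Set G) :=
    le_top.trans (Subgroup.normalizer_eq_top V).ge
  have hbo := Lib.PLocal.bestOffender_of_maxElemAb hA hV
  obtain ⟨e, f⟩ := Lib.PLocal.replacement hV.1 hVn hbo.2.1 hbo.1 (U := V) le_rfl
  set X : Subgroup G := ⁅V, A⁆ with hX
  set B := A ⊓ Subgroup.centralizer (X : Set G) with hB
  set C := Lib.PLocal.fixOn V A with hC
  have hXV : X ≤ V := Lib.PLocal.commutator_le_self hVn
  have hXB : X ≤ Subgroup.centralizer (B : Set G) :=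
    Subgroup.le_centralizer_iff.mp inf_le_right
  have hE : Cfsg.IsElementaryAbelian p (X ⊔ B) := by
    refine Lib.PGroups.elemAb_sup (Lib.PGroups.elemAb_mono hV hXV)
      (Lib.PGroups.elemAb_mono hA.1 inf_le_left) fun x hx b hb => ?_
    exact (Subgroup.mem_centralizer_iff.mp (hXB hx) b hb).symm
  have hXBn : X ≤ Subgroup.normalizer (B : Set G) :=
    hXB.trans (Subgroup.centralizer_le_normalizer _)
  have hXCn : X ≤ Subgroup.normalizer (C : Set G) := by
    refine le_trans ?_ (Subgroup.centralizer_le_normalizer _)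
    exact hXV.trans ((Subgroup.le_centralizer_iff_isMulCommutative.mpr hV.1).trans
      (Subgroup.centralizer_le Lib.PLocal.fixOn_le))
  have h1 := Lib.PLocal.card_sup_mul_card_inf hXBn
  have h2 := Lib.PLocal.card_sup_mul_card_inf hXCn
  have hCeq : C = V ⊓ A := Lib.PLocal.fixOn_eq_inf hA hV
  have hinf : X ⊓ B = X ⊓ C := by
    rw [hCeq]
    refine le_antisymm (fun x hx => ⟨hx.1, hXV hx.1, hx.2.1⟩) fun x hx => ⟨hx.1, hx.2.2, ?_⟩
    exact ((Subgroup.le_centralizer_iff_isMulCommutative.mpr hV.1).trans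
      (Subgroup.centralizer_le hXV)) hx.2.1
  have hcard : Nat.card (X ⊔ B : Subgroup G) = Nat.card A := by
    have h3 : Nat.card (X ⊔ B : Subgroup G) * (Nat.card (X ⊓ B : Subgroup G) * Nat.card C) =
        Nat.card A * (Nat.card (X ⊓ B : Subgroup G) * Nat.card C) := by
      calc _ = (Nat.card (X ⊔ B : Subgroup G) * Nat.card (X ⊓ B : Subgroup G)) * Nat.card C := by
            ring
        _ = Nat.card B * (Nat.card X * Nat.card C) := by rw [h1]; ring
        _ = Lib.PLocal.meas V B * Nat.card (X ⊓ B : Subgroup G) := by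
            rw [← h2, hinf, Lib.PLocal.meas, f]; ring
        _ = _ := by rw [e]; simp only [Lib.PLocal.meas, ← hC]; ring
    exact Nat.eq_of_mul_eq_mul_right (Nat.mul_pos Nat.card_pos Nat.card_pos) h3
  refine ⟨⟨hE, fun D hD => hcard ▸ hA.2 D hD⟩, ?_, fun hne hb => hne ?_⟩
  · rw [Subgroup.commutator_eq_bot_iff_le_centralizer]
    have hle : ⁅V, X ⊔ B⁆ ≤ X := by
      rw [Subgroup.commutator_le]
      intro v hv y hy
      obtain ⟨x, hx, b, hb, rfl⟩ : y ∈ ((X : Set G) * (B : Set G)) := by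
        rw [← Subgroup.coe_mul_of_left_le_normalizer_right _ _ hXBn]; exact hy
      have hvx : v * x = x * v := Lib.PGroups.elemAb_comm hV hv (hXV hx)
      have hvb : ⁅v, b⁆ ∈ X := Subgroup.commutator_mem_commutator hv hb.1
      have h5 := X.mul_mem (X.mul_mem hx hvb) (X.inv_mem hx)
      have h6 : ⁅v, x⁆ = 1 := commutatorElement_eq_one_iff_mul_comm.mpr hvx
      rw [commutatorElement_mul_right_eq_mul_conj v x b, h6]
      simpa [MulAut.conj_apply] using h5
    refine hle.trans (Subgroup.le_centralizer_iff.mp (sup_le ?_ inf_le_right))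
    exact hXV.trans ((Subgroup.le_centralizer_iff_isMulCommutative.mpr hV.1).trans
      (Subgroup.centralizer_le hXV))
  · refine Lib.PLocal.commutator_eq_bot_of_sup_eq hV.1 (Lib.PGroups.elemAb_isPGroup hV) hVn
      (Lib.PLocal.pActsOn_of_bestOffender hbo) hbo.2.1 ?_
    have h7 : ⁅V, B⁆ = ⊥ := le_bot_iff.mp (hb ▸ Subgroup.commutator_mono le_rfl le_sup_right)
    exact (Lib.PLocal.fixOn_eq_self_iff_commutator.mpr h7).symm.le.trans f.le

end Cfsg.Agent.S0607
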