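import Cfsg.Statements.S0624
import Cfsg.Agent.Lib.PLocal.StableClosure
import Cfsg.Agent.S0607
import Cfsg.Agent.Lib.Coprime.Commutator
import Cfsg.Agent.Lib.Cores.Basic
-- import your own Cfsg.Agent.* helpers here

set_option autoImplicit false
open Cfsg
open scoped commutatorElement

namespace Cfsg.Agent.S0624

theorem le_normalizer_map_subtype' {G : Type*} [Group G] {H : Subgroup G} (V : Subgroup H)
    [hV : V.Normal] : H ≤ Subgroup.normalizer ((V.map H.subtype : Subgroup G) : Set G) := by
  intro h hh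
  refine Subgroup.le_normalizer_map (H := V) H.subtype ⟨⟨h, hh⟩, ?_, rfl⟩
  rw [Subgroup.normalizer_eq_top_iff.mpr hV]
  exact Subgroup.mem_top _

open Cfsg.Agent.Lib Cfsg.Agent.Lib.PLocal in
theorem quad_centralizes_sylow {G : Type*} [Group G] [Finite G] {p : ℕ} [Fact p.Prime]
    (S : Sylow p G) {x : G} (hx : x ∈ (S : Subgroup G))
    (hq : ⁅⁅(Cfsg.stableNormalClosure p ↥(S : Subgroup G)).map (S : Subgroup G).subtype,
      Subgroup.zpowers x⁆, Subgroup.zpowers x⁆ = ⊥) :
    x ∈ Subgroup.centralizer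
      (((Cfsg.stableNormalClosure p ↥(S : Subgroup G)).map (S : Subgroup G).subtype : Subgroup G) :
        Set G) := by
  set W := Cfsg.stableNormalClosure p ↥(S : Subgroup G) with hW
  have h1 : ⁅⁅W, Subgroup.zpowers (⟨x, hx⟩ : ↥(S : Subgroup G))⁆,
      Subgroup.zpowers (⟨x, hx⟩ : ↥(S : Subgroup G))⁆ = ⊥ := by
    refine (Subgroup.map_eq_bot_iff_of_injective _ (S : Subgroup G).subtype_injective).mp ?_
    rw [Subgroup.map_commutator, Subgroup.map_commutator, MonoidHom.map_zpowers]
    exact hq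
  have h2 := Subgroup.commutator_eq_bot_iff_le_centralizer.mp (quad_centralizes h1)
  refine Subgroup.mem_centralizer_iff.mpr ?_
  rintro _ ⟨w, hw, rfl⟩
  exact (congrArg Subtype.val (Subgroup.mem_centralizer_iff.mp (h2 hw) _
    (Subgroup.mem_zpowers _))).symm

/-- The analogue of the ZJ-Theorem: in an action-p-stable group whose largest normal p-subgroup contains its centralizer, the characteristic subgroup W(S) of a Sylow p-subgroup S is normal. -/
theorem result {G : Type*} [Group G] [Finite G] {p : ℕ} [Fact p.Prime] (hst : Cfsg.IsActionPStable p G) (hc : Subgroup.centralizer (Cfsg.pCore p G : Set G) ≤ Cfsg.pCore p G) (S : Sylow p G) : (((Cfsg.stableNormalClosure p ↥(S : Subgroup G)).map (S : Subgroup G).subtype)).Normal := by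
  open Cfsg.Agent.Lib Cfsg.Agent.Lib.PLocal in
  obtain ⟨hst1, hst2, hst3⟩ := hst
  set S0 := (S : Subgroup G) with hS0
  set W := (Cfsg.stableNormalClosure p ↥S0).map S0.subtype with hW
  set K := Cfsg.pCore p G with hK
  have hKS : K ≤ S0 := Cores.pCore_le_sylow S
  have hWS : W ≤ S0 := Subgroup.map_subtype_le _
  have hWab : Cfsg.IsElementaryAbelian p W := PGroups.elemAb_map _ closure_elemAb
  have hSW : S0 ≤ Subgroup.normalizer (W : Set G) := by
    haveI := closure_characteristic (p := p) (S := ↥S0)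
    exact le_normalizer_map_subtype' _
  -- `W` lies in `O_p(G)`
  have hWK : W ≤ K := by
    intro w hw
    have hq : ⁅⁅K, Subgroup.zpowers w⁆, Subgroup.zpowers w⁆ = ⊥ := by
      have hz : Subgroup.zpowers w ≤ W := Subgroup.zpowers_le.mpr hw
      refine le_bot_iff.mp ((Subgroup.commutator_mono
        ((Subgroup.commutator_mono (hKS.trans hSW) hz).trans ?_) hz).trans
        (Subgroup.commutator_eq_bot_iff_le_centralizer.mpr
          (Subgroup.le_centralizer_iff_isMulCommutative.mpr hWab.1)).le)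
      exact Subgroup.le_normalizer_iff_commutator_le_right.mp le_rfl
    haveI : ((frattini ↥K).map K.subtype).Normal :=
      Cores.normal_map_subtype K (frattini ↥K)
    obtain ⟨D, hDn, hkD, ⟨k, hk⟩, hwD⟩ := hst2 w (hq.le.trans bot_le)
    have hker : IsPGroup p (Cfsg.sectionKernel K ((frattini ↥K).map K.subtype)) := by
      intro g
      -- the `p'`-part of `g` centralises `O_p(G)`
      obtain ⟨a, b, hab, ha, hb⟩ : ∃ a b : ℕ, orderOf (g : G) = p ^ a * b ∧ ¬ p ∣ b ∧ b ≠ 0 := by
        obtain ⟨a, b, hb, he⟩ := Nat.exists_eq_pow_mul_and_not_dvd (orderOf_pos (g : G)).ne' p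
          (Fact.out : p.Prime).ne_one
        exact ⟨a, b, he, hb, fun h => (orderOf_pos (g : G)).ne' (by rw [he, h, mul_zero])⟩
      refine ⟨a, ?_⟩
      have hord : orderOf ((g : G) ^ p ^ a) = b := by
        rw [orderOf_pow_of_dvd (pow_ne_zero _ (Fact.out : p.Prime).ne_zero) ⟨b, hab⟩, hab,
          Nat.mul_div_cancel_left _ (pow_pos (Fact.out : p.Prime).pos a)]
      have hcop : ∀ n : ℕ, b.Coprime (p ^ n) := fun n =>
        ((Nat.Prime.coprime_iff_not_dvd Fact.out).mpr ha).symm.pow_right n
      obtain ⟨m, hm⟩ : ∃ m, Nat.card (frattini ↥K) = p ^ m :=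
        ((Cores.pCore_isPGroup p).to_subgroup _).exists_card_eq
      have hc' : Subgroup.zpowers ((g : G) ^ p ^ a) ≤ Subgroup.centralizer (K : Set G) := by
        refine Coprime.le_centralizer_of_frattini ?_ ?_ ?_
        · exact le_top.trans (Subgroup.normalizer_eq_top K).ge
        · rw [Nat.card_zpowers, hord, hm]; exact hcop m
        · intro x hx y hy
          have hxk : x ∈ Cfsg.sectionKernel K ((frattini ↥K).map K.subtype) :=
            Subgroup.zpowers_le.mpr (Subgroup.pow_mem _ g.2 _) hx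
          have := Subgroup.mem_centralizer_iff.mp hxk _ (Subgroup.mem_map_of_mem _ hy)
          rw [← map_mul, ← map_mul, eq_comm, QuotientGroup.mk'_eq_mk'] at this
          obtain ⟨z, hz, hzy⟩ := this
          have hz' : x * y * x⁻¹ * y⁻¹ = (x * y) * z⁻¹ * (x * y)⁻¹ := by
            calc x * y * x⁻¹ * y⁻¹ = x * y * (y * x)⁻¹ := by group
              _ = _ := by rw [← hzy]; group
          rw [hz']
          exact Subgroup.Normal.conj_mem inferInstance _ (Subgroup.inv_mem _ hz) _
      obtain ⟨n, hn⟩ : ∃ n, orderOf ((g : G) ^ p ^ a) = p ^ n :=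
        IsPGroup.iff_orderOf.mp (Cores.pCore_isPGroup (G := G) p)
          ⟨_, hc (hc' (Subgroup.mem_zpowers _))⟩ |>.imp fun n hn => by
            rwa [Subgroup.orderOf_mk] at hn
      rw [hord] at hn
      have h1 : b = 1 := Nat.Coprime.eq_one_of_dvd (hcop n) (dvd_of_eq hn)
      apply Subtype.ext
      rw [Subgroup.coe_pow, Subgroup.coe_one, ← orderOf_eq_one_iff, hord, h1]
    have hDp : IsPGroup p D := by
      obtain ⟨m, hm⟩ := hker.exists_card_eq
      refine IsPGroup.of_card (n := m + k) ?_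
      have h := Subgroup.relIndex_mul_relIndex ⊥ _ D bot_le hkD
      rw [Subgroup.relIndex_bot_left, Subgroup.relIndex_bot_left] at h
      rw [pow_add, ← hm, ← hk]
      exact h.symm
    exact Cores.le_pCore hDp hwD
  have hWgK : ∀ g : G, W.map (MulAut.conj g).toMonoidHom ≤ K := fun g => by
    refine (Subgroup.map_mono hWK).trans ?_
    exact (Subgroup.Normal.map_conj_eq K g).le
  -- conjugates of `W` commute with `W`
  have hcomm : ∀ g : G, W.map (MulAut.conj g).toMonoidHom ≤ Subgroup.centralizer (W : Set G) := by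
    intro g x hx
    have hxS : x ∈ S0 := hKS (hWgK g hx)
    refine quad_centralizes_sylow S hxS ((quad_iff hWab.1 (hSW hxS)).mpr fun w hw => ?_)
    have hwg : ⁅w, x⁆ ∈ W.map (MulAut.conj g).toMonoidHom := by
      have hwn : w ∈ Subgroup.normalizer ((W.map (MulAut.conj g).toMonoidHom : Subgroup G) :
          Set G) := by
        refine Subgroup.le_normalizer_map (H := W) (MulAut.conj g).toMonoidHom ⟨g⁻¹ * w * g, ?_, ?_⟩
        · refine hSW (hKS ?_)
          have := Subgroup.Normal.conj_mem (inferInstance : K.Normal) w (hWK hw) g⁻¹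
          simpa using this
        · simp [MulAut.conj_apply, mul_assoc]
      rw [commutatorElement_def]
      exact mul_mem ((Subgroup.mem_normalizer_iff.mp hwn x).mp hx) (inv_mem hx)
    exact PGroups.elemAb_comm (PGroups.elemAb_conj g hWab) hx hwg
  set U := ⨆ g : G, W.map (MulAut.conj g).toMonoidHom with hU
  have hWU : W ≤ U := le_iSup_of_le 1 (by
    rintro w hw; exact ⟨w, hw, by simp⟩)
  haveI hUn : U.Normal := by
    refine ⟨fun x hx g => ?_⟩
    have h := Subgroup.mem_map_of_mem (MulAut.conj g).toMonoidHom hx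
    rw [hU, Subgroup.map_iSup] at h
    refine (iSup_le fun i => ?_ : _ ≤ U) h
    refine le_iSup_of_le (g * i) (le_of_eq ?_)
    rw [Subgroup.map_map]
    congr 1
    ext y
    simp [MulAut.conj_apply, mul_assoc]
  have hUc : U ≤ Subgroup.centralizer (U : Set G) := by
    refine iSup_le fun g => Subgroup.le_centralizer_iff.mp (iSup_le fun h => ?_)
    rintro _ ⟨w, hw, rfl⟩
    refine Subgroup.mem_centralizer_iff.mpr ?_
    rintro _ ⟨v, hv, rfl⟩
    have h1 := Subgroup.mem_centralizer_iff.mp (hcomm (g⁻¹ * h) ⟨w, hw, rfl⟩) v hv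
    have h2 := congrArg (MulAut.conj g) h1
    simpa [map_mul, MulAut.conj_apply, mul_assoc] using h2
  have hUp : ∀ u ∈ U, u ^ p = 1 := by
    have hUc' := Subgroup.le_centralizer_iff_isMulCommutative.mp hUc
    intro u hu
    induction hu using Subgroup.iSup_induction' with
    | hp g x hx => exact PGroups.elemAb_pow (PGroups.elemAb_conj g hWab) hx
    | h1 => simp
    | hmul x y hx hy ihx ihy =>
      rw [(show Commute x y from congrArg Subtype.val (hUc'.is_comm.comm ⟨x, hx⟩ ⟨y, hy⟩)).mul_pow,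
        ihx, ihy, mul_one]
  have hUe : Cfsg.IsElementaryAbelian p U :=
    ⟨Subgroup.le_centralizer_iff_isMulCommutative.mp hUc, hUp⟩
  have hUS : U ≤ S0 := (iSup_le hWgK).trans hKS
  set C := Subgroup.centralizer (U : Set G) with hC
  haveI hCn : C.Normal := Subgroup.normal_centralizer
  let D : Subgroup G := (Cfsg.pCore p (G ⧸ C)).comap (QuotientGroup.mk' C)
  have hCD : C ≤ D := fun c hc' => by
    show QuotientGroup.mk' C c ∈ Cfsg.pCore p (G ⧸ C)
    rw [show QuotientGroup.mk' C c = 1 from (QuotientGroup.eq_one_iff c).mpr hc']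
    exact Subgroup.one_mem _
  obtain ⟨k, hk⟩ : ∃ k, C.relIndex D = p ^ k := by
    obtain ⟨k, hk⟩ := (Cores.pCore_isPGroup (G := G ⧸ C) p).exists_card_eq
    refine ⟨k, ?_⟩
    rw [← hk, ← Subgroup.relIndex_bot_left,
      ← Subgroup.map_comap_eq_self_of_surjective (QuotientGroup.mk'_surjective C)
        (Cfsg.pCore p (G ⧸ C)), ← Subgroup.relIndex_comap, MonoidHom.comap_bot,
      QuotientGroup.ker_mk']
  have hDle : D ≤ C ⊔ (S0 ⊓ D) := le_sup_inf_of_relIndex S hCD hk
  have hSD : Subgroup.normalizer ((S0 ⊓ D : Subgroup G) : Set G) ⊔ C = ⊤ := by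
    rw [eq_top_iff, ← normalizer_inf_sup_eq_top S D]
    refine sup_le le_sup_left (hDle.trans (sup_le le_sup_right ?_))
    exact le_sup_of_le_left Subgroup.le_normalizer
  -- quadratic elements of `S` on `U` centralise `U`
  have hquad : ∀ x ∈ S0, ⁅⁅U, Subgroup.zpowers x⁆, Subgroup.zpowers x⁆ = ⊥ → x ∈ C := by
    intro x hxS hxq
    have hxD : x ∈ S0 ⊓ D := ⟨hxS, hst1 U hUe x hxq⟩
    refine Subgroup.le_centralizer_iff.mp (iSup_le fun g => ?_) (Subgroup.mem_zpowers x)
    have hg : g ∈ Subgroup.normalizer ((S0 ⊓ D : Subgroup G) : Set G) ⊔ C := hSD ▸ Subgroup.mem_top g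
    rw [← SetLike.mem_coe, sup_comm, Subgroup.normal_mul] at hg
    obtain ⟨c, hc', n, hn, rfl⟩ := hg
    rintro _ ⟨w, hw, rfl⟩
    have hy : n⁻¹ * x * n ∈ Subgroup.centralizer (W : Set G) := by
      have hy1 : n⁻¹ * x * n ∈ S0 ⊓ D := (Subgroup.mem_normalizer_iff''.mp hn x).mp hxD
      refine quad_centralizes_sylow S hy1.1 (le_bot_iff.mp ((Subgroup.commutator_mono
        (Subgroup.commutator_mono hWU le_rfl) le_rfl).trans (le_of_eq ?_)))
      have := quad_conj (V := U) n⁻¹ hxq
      simpa using this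
    have h1 := Subgroup.mem_centralizer_iff.mp hy w hw
    have h2 : (n * w * n⁻¹) * c = c * (n * w * n⁻¹) :=
      Subgroup.mem_centralizer_iff.mp hc' _
        (Subgroup.Normal.conj_mem hUn w (hWU hw) n)
    have h3 : (n * w * n⁻¹) * x = x * (n * w * n⁻¹) := by
      calc n * w * n⁻¹ * x = n * (w * (n⁻¹ * x * n)) * n⁻¹ := by group
        _ = n * ((n⁻¹ * x * n) * w) * n⁻¹ := by rw [h1]
        _ = x * (n * w * n⁻¹) := by group
    have h4 : (MulAut.conj (c * n)).toMonoidHom w = n * w * n⁻¹ := by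
      calc (MulAut.conj (c * n)).toMonoidHom w = c * (n * w * n⁻¹) * c⁻¹ := by
            simp [MulAut.conj_apply, mul_assoc]
        _ = n * w * n⁻¹ := by rw [← h2]; group
    rw [h4]
    refine Subgroup.mem_centralizer_iff.mpr ?_
    rintro _ ⟨m, rfl⟩
    exact ((show Commute (n * w * n⁻¹) x from h3).symm.zpow_left m).eq
  -- `U` is centralised by the Thompson subgroup
  have hA : ∀ A ∈ PGroups.maxElemAbIn p S0, A ≤ C := by
    intro A hA
    have hAG := maxElemAbIn_sylow_subset S hA
    obtain ⟨hA', hq, hne⟩ := Cfsg.Agent.S0607.result U hUe A hAG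
    by_contra hAC
    have hne' : ⁅U, A⁆ ≠ ⊥ := fun h => hAC (Subgroup.le_centralizer_iff.mp
      (Subgroup.commutator_eq_bot_iff_le_centralizer.mp h))
    apply hne hne'
    refine Subgroup.commutator_eq_bot_iff_le_centralizer.mpr (Subgroup.le_centralizer_iff.mp ?_)
    intro y hy
    refine hquad y ?_ (le_bot_iff.mp (le_trans ?_ hq.le))
    · refine (sup_le ?_ (inf_le_left.trans hA.1) : _ ≤ S0) hy
      exact (Subgroup.commutator_le_left U A).trans hUS
    · exact Subgroup.commutator_mono (Subgroup.commutator_mono le_rfl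
        (Subgroup.zpowers_le.mpr hy)) (Subgroup.zpowers_le.mpr hy)
  have hJC : Cfsg.thompsonSubgroupOf p S0 ≤ S0 ⊓ C := by
    refine le_inf (PGroups.thompsonSubgroupOf_le p S0) ?_
    rw [PGroups.thompsonSubgroupOf_eq]
    exact sSup_le hA
  set J := Cfsg.thompsonSubgroupOf p S0 with hJ
  set N := Subgroup.normalizer (J : Set G) with hN
  have hCN : N ⊔ C = ⊤ := by
    rw [eq_top_iff, ← normalizer_inf_sup_eq_top S C]
    refine sup_le_sup_right ?_ C
    refine (PGroups.normalizer_le_normalizer_thompson (p := p) _).trans (le_of_eq ?_)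
    rw [PGroups.thompsonSubgroupOf_eq_of_le inf_le_left hJC]
  have hSN : S0 ≤ N := Subgroup.le_normalizer.trans (PGroups.normalizer_le_normalizer_thompson _)
  have hemb : Cfsg.IsStableEmbedding p (Subgroup.inclusion hSN) := by
    refine ⟨Subgroup.inclusion_injective hSN, inferInstance, ⟨S.subtype hSN, ?_⟩, ?_, ?_, ?_⟩
    · rw [Sylow.coe_subtype]
      ext x
      exact ⟨fun hx => ⟨⟨_, hx⟩, rfl⟩, by rintro ⟨y, rfl⟩; exact y.2⟩
    · have hKN : K.subgroupOf N ≤ Cfsg.pCore p ↥N :=
        Cores.le_pCore ((Cores.pCore_isPGroup p).comap_subtype)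
      intro x hx
      refine hKN (hc (Subgroup.mem_centralizer_iff.mpr fun y hy => ?_))
      exact congrArg Subtype.val (Subgroup.mem_centralizer_iff.mp hx ⟨y, hSN (hKS hy)⟩ (hKN hy))
    · have : ((Cfsg.thompsonSubgroup p ↥S0).map (Subgroup.inclusion hSN)) = J.subgroupOf N := by
        refine Subgroup.map_injective N.subtype_injective ?_
        rw [Subgroup.map_map, Subgroup.subtype_comp_inclusion,
          Subgroup.map_subgroupOf_eq_of_le Subgroup.le_normalizer]
        rfl
      rw [this]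
      exact Subgroup.normal_in_normalizer
    · intro V hVn hV
      refine hst3 S V ?_
      refine (Subgroup.map_mono hV).trans (le_of_eq ?_)
      rw [Subgroup.map_map, Subgroup.subtype_comp_inclusion]
  have hNW : N ≤ Subgroup.normalizer (W : Set G) := by
    haveI := closure_map_normal hemb
    have h := le_normalizer_map_subtype' (H := N)
      ((Cfsg.stableNormalClosure p ↥S0).map (Subgroup.inclusion hSN))
    rwa [Subgroup.map_map, Subgroup.subtype_comp_inclusion] at h
  rw [← Subgroup.normalizer_eq_top_iff, eq_top_iff, ← hCN]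
  exact sup_le hNW ((Subgroup.centralizer_le hWU).trans (Subgroup.centralizer_le_normalizer _))

end Cfsg.Agent.S0624
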