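import Cfsg.Statements.S3071
import Cfsg.Agent.Lib.LAEven57.ZJClosed.Inst
import Cfsg.Agent.Lib.ZJ.StableFree

set_option autoImplicit false
open Cfsg

namespace Cfsg.Agent.S3071

open Cfsg.Agent.Lib
open Cfsg.Agent.Lib.Fusion.Alperin Cfsg.Agent.Lib.ConjFunctor
open Cfsg.Agent.Lib.LAEven57.ZJClosed

universe u

/-- Without `SL(2,p)` sections, every strongly closed subgroup controls. -/
theorem sfc_of_noSLTwo {p : ℕ} [Fact p.Prime] (hp : p ≠ 2) {H : Type u} [Group H] [Finite H]
    (h : PLocal.NoSLTwo p H) : SFc (zjASub p) H := by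
  refine sfc_main (zjASub p) (fun X _ _ hX hc S E hE => ?_) H (Section.IsSection.refl H)
  obtain ⟨K, f, hf⟩ := hX
  exact goodIn_of_normal _ (isZJ_zjA hp X hc
    (ZJ.stable_of_noSLTwo hp (PLocal.noSLTwo_of_surjective (PLocal.noSLTwo_subgroup h K) f hf)) S E hE)

/-- Let p be an odd prime and S a Sylow p-subgroup of the finite group G such that, for every subgroup P with Z(S) ≤ P ≤ S, the normalizer N_G(P) has no section isomorphic to SL₂(p). Let J(S) be the subgroup generated by the abelian subgroups of S of largest order. Then two elements of S are conjugate in G if and only if they are conjugate in N_G(Z(J(S))). -/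
theorem result {G : Type*} [Group G] [Finite G] {p : ℕ} [Fact p.Prime]
    (hp : p ≠ 2) (S : Sylow p G)
    (hfree : ∀ P : Subgroup G, (S : Subgroup G) ⊓ Subgroup.centralizer ((S : Subgroup G) : Set G) ≤ P → P ≤ S →
      ¬ ∃ (H K : Subgroup G) (hK : (K.subgroupOf H).Normal), H ≤ Subgroup.normalizer (P : Set G) ∧
        Nonempty ((H ⧸ K.subgroupOf H) ≃* Matrix.SpecialLinearGroup (Fin 2) (ZMod p))) :
    ∀ x ∈ S, ∀ y ∈ S, (∃ g : G, g * x * g⁻¹ = y) ↔
      ∃ n ∈ Subgroup.normalizer (Cfsg.centerThompsonAOf (S : Subgroup G) : Set G), n * x * n⁻¹ = y := by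
  have hno : ∀ V : Subgroup G, (S : Subgroup G) ⊓ Subgroup.centralizer ((S : Subgroup G) : Set G) ≤ V → V ≤ S →
      PLocal.NoSLTwo p ↥(Subgroup.normalizer (V : Set G)) := by
    intro V hV1 hV2 K f hf
    refine hfree V hV1 hV2 ?_
    set ι := (Subgroup.normalizer (V : Set G)).subtype.comp K.subtype with hι
    have hinj : Function.Injective ι := (Subgroup.normalizer (V : Set G)).subtype_injective.comp K.subtype_injective
    set e : K →* ι.range := ι.rangeRestrict with he
    have hKn : ((f.ker.map ι).subgroupOf ι.range).Normal := by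
      have : (f.ker.map ι).subgroupOf ι.range = f.ker.map e := by
        ext ⟨y, hy⟩
        constructor
        · rintro ⟨x, hx, hxy⟩; exact ⟨x, hx, Subtype.ext hxy⟩
        · rintro ⟨x, hx, hxy⟩; exact ⟨x, hx, congrArg Subtype.val hxy⟩
      rw [this]
      exact Subgroup.Normal.map inferInstance e ι.rangeRestrict_surjective
    refine ⟨ι.range, f.ker.map ι, hKn, ?_, ?_⟩
    · rintro _ ⟨x, rfl⟩; exact x.1.2
    · have hsub : (f.ker.map ι).subgroupOf ι.range = (f.comp (MonoidHom.ofInjective hinj).symm.toMonoidHom).ker := by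
        ext ⟨y, x, rfl⟩
        have hx : (MonoidHom.ofInjective hinj).symm ⟨ι x, x, rfl⟩ = x := by
          rw [MulEquiv.symm_apply_eq]; rfl
        rw [MonoidHom.mem_ker]
        show (ι x ∈ f.ker.map ι) ↔ f ((MonoidHom.ofInjective hinj).symm ⟨ι x, x, rfl⟩) = 1
        rw [hx]
        exact ⟨fun ⟨z, hz, hzx⟩ => hinj hzx ▸ hz, fun h => ⟨x, h, rfl⟩⟩
      exact ⟨(QuotientGroup.quotientMulEquivOfEq hsub).trans
        (QuotientGroup.quotientKerEquivOfSurjective _ (hf.comp (MonoidHom.ofInjective hinj).symm.surjective))⟩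
  have hD : Cfsg.IsStronglyClosed (S : Subgroup G) (S : Subgroup G) := ⟨le_rfl, fun _ _ _ h => h⟩
  have hgood := good_of_local_adm (zjASub p) S hD
    (fun U => ∃ g : G, conjS g U ≤ S ∧
      (S : Subgroup G) ⊓ Subgroup.centralizer ((S : Subgroup G) : Set G) ≤ conjS g U)
    (fun U hU hZ => ⟨1, by rwa [conjS_one], by rwa [conjS_one]⟩)
    (fun U k hU _ => by
      refine ⟨k⁻¹, ?_, ?_⟩
      · rw [conjS_inv_conjS]
        exact ((zjASub p).le _).trans (inf_le_left)
      · rw [conjS_inv_conjS]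
        set T := (S : Subgroup G) ⊓ ((S : Subgroup G) ⊓ Subgroup.normalizer (U : Set G)) with hT
        intro z hz
        have hzT : z ∈ T := ⟨hz.1, hz.1, Subgroup.centralizer_le_normalizer _ (Subgroup.centralizer_le hU hz.2)⟩
        obtain ⟨A, hA⟩ := ZJ.maxAbIn_nonempty T
        show z ∈ Cfsg.centerThompsonAOf T
        have hzc : ∀ t ∈ T, t * z = z * t := fun t ht => hz.2 t ht.1
        refine ⟨ZJ.le_thompsonSubgroupAOf hA (ZJ.mem_of_maxAbIn hA hzT fun a ha => hzc a (hA.1 ha)), ?_⟩
        intro t ht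
        exact hzc t (ZJ.thompsonSubgroupAOf_le T ht))
    (fun U hU _ hAdm hsyl => by
      obtain ⟨g, hg1, hg2⟩ := hAdm
      refine goodIn_of_sfc (zjASub p) hD hsyl inf_le_left (sfc_of_noSLTwo hp ?_)
      have hNU : (Subgroup.normalizer (U : Set G)).map (MulAut.conj g).toMonoidHom =
          Subgroup.normalizer (conjS g U : Set G) := conjS_normalizer g U
      let e : ↥(Subgroup.normalizer (conjS g U : Set G)) ≃* ↥(Subgroup.normalizer (U : Set G)) :=
        (MulEquiv.subgroupCongr hNU.symm).trans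
          ((Subgroup.normalizer (U : Set G)).equivMapOfInjective _ (MulAut.conj g).injective).symm
      exact PLocal.noSLTwo_of_surjective (hno _ hg2 hg1) e.toMonoidHom e.surjective)
  intro x hx y hy
  constructor
  · rintro ⟨g, rfl⟩
    obtain ⟨n, -, hn, he⟩ := hgood {x} g trivial (Set.singleton_subset_iff.2 hx)
      (by rintro _ ⟨_, rfl, rfl⟩; exact hy)
    exact ⟨n, hn, he x rfl⟩
  · rintro ⟨n, -, hn⟩
    exact ⟨n, hn⟩

end Cfsg.Agent.S3071
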