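import Cfsg.Statements.S3282
import Cfsg.Agent.Lib.BSW.Main

set_option autoImplicit false
set_option linter.style.haveILetI false
open Cfsg

namespace Cfsg.Agent.S3282

/-- The abstract form of the Brauer–Suzuki–Wall Theorem. Let G be a finite group with an involution t and an abelian subgroup K of H = C_G(t) containing t, such that H = K⟨s⟩ for an involution s ∉ K with C_K(s) = ⟨t⟩ and s inverting every element of K, K ∩ K^g = 1 for every g outside H, and all involutions of G conjugate. Then G has a subgroup Q, of order q say, with |G| = q(q+1)(q−1)/2, C_G(x) = Q for every non-identity x ∈ Q, N_G(Q) = QD for an abelian subgroup D of order (q−1)/2 meeting Q trivially, and for every nontrivial subgroup X of D, N_G(X) = N_G(D) = D⟨u⟩ for some involution u ∉ D inverting D. -/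
theorem result {G : Type*} [Group G] [Finite G] (t : G) (ht : orderOf t = 2)
    (K : Subgroup G) (hKab : IsMulCommutative ↥K) (hKH : K ≤ Subgroup.centralizer ({t} : Set G)) (htK : t ∈ K)
    (s : G) (hs : orderOf s = 2) (hsH : s ∈ Subgroup.centralizer ({t} : Set G)) (hsK : s ∉ K)
    (hH : K ⊔ Subgroup.zpowers s = Subgroup.centralizer ({t} : Set G)) (hCK : K ⊓ Subgroup.centralizer ({s} : Set G) = Subgroup.zpowers t)
    (hinv : ∀ x ∈ K, s * x * s⁻¹ = x⁻¹)
    (hTI : ∀ g : G, g ∉ Subgroup.centralizer ({t} : Set G) → K ⊓ K.map (MulAut.conj g).toMonoidHom = ⊥)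
    (hconj : ∀ x y : G, orderOf x = 2 → orderOf y = 2 → IsConj x y) :
    ∃ Q D : Subgroup G, 2 * Nat.card G = Nat.card ↥Q * (Nat.card ↥Q + 1) * (Nat.card ↥Q - 1) ∧
      (∀ x ∈ Q, x ≠ 1 → Subgroup.centralizer ({x} : Set G) = Q) ∧
      IsMulCommutative ↥D ∧ 2 * Nat.card ↥D + 1 = Nat.card ↥Q ∧ Q ⊓ D = ⊥ ∧
      Subgroup.normalizer (Q : Set G) = Q ⊔ D ∧
      ∀ X : Subgroup G, X ≤ D → X ≠ ⊥ →
        Subgroup.normalizer (X : Set G) = Subgroup.normalizer (D : Set G) ∧
        ∃ u : G, orderOf u = 2 ∧ u ∉ D ∧ (∀ d ∈ D, u * d * u⁻¹ = d⁻¹) ∧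
          Subgroup.normalizer (D : Set G) = D ⊔ Subgroup.zpowers u := by
  have hss : s * s = 1 := by rw [← pow_two, ← hs]; exact pow_orderOf_eq_one s
  have hst : s * t = t * s := Subgroup.mem_centralizer_singleton_iff.1 hsH
  have hcases : ∀ g : G, g * t = t * g → g ∈ K ∨ s * g ∈ K := by
    let W : Subgroup G :=
      { carrier := {g | g ∈ K ∨ s * g ∈ K}
        one_mem' := Or.inl (one_mem K)
        mul_mem' := by
          intro a b ha hb
          rcases ha with ha | ha <;> rcases hb with hb | hb
          · exact Or.inl (mul_mem ha hb)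
          · refine Or.inr ?_
            have e : s * (a * b) = (s * a * s⁻¹) * (s * b) := by group
            rw [e, hinv a ha]
            exact mul_mem (inv_mem ha) hb
          · refine Or.inr ?_
            rw [← mul_assoc]
            exact mul_mem ha hb
          · refine Or.inl ?_
            have e1 : a = s * (s * a) := by rw [← mul_assoc, hss, one_mul]
            have e2 : b = s * (s * b) := by rw [← mul_assoc, hss, one_mul]
            have e : a * b = (s * (s * a) * s⁻¹) * (s * b) * (s * s) := by
              rw [hss, mul_one]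
              conv_lhs => rw [e1, e2]
              have : s⁻¹ = s := inv_eq_of_mul_eq_one_right hss
              rw [this]; group
            rw [e, hinv _ ha, hss, mul_one]
            exact mul_mem (inv_mem ha) hb
        inv_mem' := by
          intro a ha
          rcases ha with ha | ha
          · exact Or.inl (inv_mem ha)
          · refine Or.inr ?_
            have hsi : s⁻¹ = s := inv_eq_of_mul_eq_one_right hss
            have e : s * a⁻¹ = s * (s * a)⁻¹ * s⁻¹ * (s * s) := by
              rw [hss, mul_one, hsi, mul_inv_rev, hsi]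
              simp [mul_assoc, hss]
            rw [e, hinv _ (inv_mem ha), inv_inv, hss, mul_one]
            exact ha }
    intro g hg
    have hle : K ⊔ Subgroup.zpowers s ≤ W :=
      sup_le (fun a ha => Or.inl ha) (Subgroup.zpowers_le.2 (Or.inr (by rw [hss]; exact one_mem K)))
    exact hle (by rw [hH]; exact Subgroup.mem_centralizer_singleton_iff.2 hg)
  refine Cfsg.Agent.Lib.BSW.brauer_suzuki_wall (t := t) (s := s) (K := K)
    ⟨ht, hs, htK, hsK, hst, ?_, hinv, hcases, ?_, ?_, hconj⟩
  · intro a ha b hb
    exact congrArg Subtype.val (hKab.is_comm.comm (⟨a, ha⟩ : ↥K) ⟨b, hb⟩)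
  · intro a ha ha2
    have hmem : a ∈ Subgroup.zpowers t := by
      rw [← hCK]
      refine ⟨ha, Subgroup.mem_centralizer_singleton_iff.2 ?_⟩
      have e := hinv a ha
      rw [inv_eq_of_mul_eq_one_right ha2] at e
      exact (mul_inv_eq_iff_eq_mul.1 e).symm
    obtain ⟨n, rfl⟩ := Subgroup.mem_zpowers_iff.1 hmem
    have ht2 : t * t = 1 := by rw [← pow_two, ← ht]; exact pow_orderOf_eq_one t
    rcases Int.even_or_odd n with ⟨m, rfl⟩ | ⟨m, rfl⟩
    · left
      rw [zpow_add, ← (Commute.refl t).mul_zpow, ht2, one_zpow]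
    · right
      rw [zpow_add_one, two_mul, zpow_add, ← (Commute.refl t).mul_zpow, ht2, one_zpow, one_mul]
  · intro a ha ha1 g hg
    by_contra hne
    have hg' : g ∉ Subgroup.centralizer ({t} : Set G) := fun hm =>
      hne (Subgroup.mem_centralizer_singleton_iff.1 hm)
    have hmem : g * a * g⁻¹ ∈ K ⊓ K.map (MulAut.conj g).toMonoidHom := ⟨hg, a, ha, rfl⟩
    rw [hTI g hg', Subgroup.mem_bot] at hmem
    exact ha1 (by simpa using hmem)

end Cfsg.Agent.S3282
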