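import Cfsg.Statements.S0061
import Cfsg.Agent.S0007
import Cfsg.Agent.Lib.Cores.Normalizer
import Mathlib.GroupTheory.Sylow
import Mathlib.Data.Fintype.Lattice
import Mathlib.Tactic

set_option autoImplicit false
set_option linter.style.haveILetI false
open Cfsg

namespace Cfsg.Agent.S0061

universe u

open scoped Pointwise

theorem exists_normal {G : Type u} [Group G] [Finite G] (p q m : ℕ) (hp : p.Prime) (hq : q.Prime)
    (hpq : p ≠ q) (hm : 0 < m) (hG : Nat.card G = p ^ m * q) :
    ∃ N : Subgroup G, N.Normal ∧ N ≠ ⊥ ∧ N ≠ ⊤ := by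
  classical
  haveI := Fact.mk hp
  haveI := Fact.mk hq
  have hcop : (p ^ m).Coprime q := ((Nat.coprime_primes hp hq).2 hpq).pow_left m
  have hcardP : ∀ P : Sylow p G, Nat.card P = p ^ m := by
    intro P
    rw [P.card_eq_multiplicity, hG,
      Nat.factorization_mul (pow_ne_zero _ hp.ne_zero) hq.ne_zero, hp.factorization_pow,
      hq.factorization]
    simp [Finsupp.single_apply, Ne.symm hpq]
  obtain ⟨P₀⟩ : Nonempty (Sylow p G) := inferInstance
  have hidxP : (P₀ : Subgroup G).index = q := by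
    have := (P₀ : Subgroup G).card_mul_index
    rw [hG, show Nat.card (P₀ : Subgroup G) = p ^ m from hcardP P₀] at this
    exact Nat.eq_of_mul_eq_mul_left (pow_pos hp.pos m) this
  have hPbot : ∀ P : Sylow p G, (P : Subgroup G) ≠ ⊥ := fun P h => by
    have h1 := hcardP P
    rw [show Nat.card P = Nat.card (P : Subgroup G) from rfl, h, Subgroup.card_bot] at h1
    exact (Nat.one_lt_pow hm.ne' hp.one_lt).ne h1
  have hPtop : (P₀ : Subgroup G) ≠ ⊤ := fun h => hq.ne_one (by rw [← hidxP, h, Subgroup.index_top])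
  by_cases hnorm : (P₀ : Subgroup G).Normal
  · exact ⟨P₀, hnorm, hPbot P₀, hPtop⟩
  have hnp : Nat.card (Sylow p G) = q := by
    rcases (Nat.dvd_prime hq).1 (hidxP ▸ P₀.card_dvd_index) with h | h
    · exfalso
      exact hnorm (Subgroup.normalizer_eq_top_iff.1 (Subgroup.index_eq_one.1
        (P₀.card_eq_index_normalizer.symm.trans h)))
    · exact h
  haveI hnt : Nontrivial (Sylow p G) := Finite.one_lt_card_iff_nontrivial.1 (hnp ▸ hq.one_lt)
  haveI : Nonempty {x : Sylow p G × Sylow p G // x.1 ≠ x.2} := by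
    obtain ⟨a, b, hab⟩ := hnt
    exact ⟨⟨(a, b), hab⟩⟩
  obtain ⟨⟨⟨P₁, P₂⟩, hne⟩, hmax⟩ := Finite.exists_max
    (fun x : {x : Sylow p G × Sylow p G // x.1 ≠ x.2} =>
      Nat.card ((x.1.1 : Subgroup G) ⊓ x.1.2 : Subgroup G))
  set D : Subgroup G := (P₁ : Subgroup G) ⊓ P₂ with hD
  by_cases hDb : D = ⊥
  · have hinter : ∀ P P' : Sylow p G, P ≠ P' → (P : Subgroup G) ⊓ P' = ⊥ := by
      intro P P' h
      have h1 : Nat.card ((P : Subgroup G) ⊓ P' : Subgroup G) ≤ Nat.card D := hmax ⟨(P, P'), h⟩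
      rw [hDb, Subgroup.card_bot] at h1
      exact Subgroup.card_le_one_iff_eq_bot _ |>.1 h1
    obtain ⟨Q⟩ : Nonempty (Sylow q G) := inferInstance
    have hcardQ : ∀ Q : Sylow q G, Nat.card Q = q := by
      intro Q
      rw [Q.card_eq_multiplicity, hG,
        Nat.factorization_mul (pow_ne_zero _ hp.ne_zero) hq.ne_zero, hp.factorization_pow,
        hq.factorization]
      simp [Finsupp.single_apply, hpq]
    let T : Set G := {g | ∀ P : Sylow p G, g ∈ P → g = 1}
    have hT : Nat.card T ≤ q := by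
      let f : (Σ P : Sylow p G, {x : P // x ≠ 1}) → (Tᶜ : Set G) := fun x =>
        ⟨((x.2.1 : (x.1 : Subgroup G)) : G),
          fun h => x.2.2 (Subtype.ext (h x.1 x.2.1.2))⟩
      have hf : Function.Injective f := by
        rintro ⟨P, ⟨⟨x, hx⟩, hx1⟩⟩ ⟨P', ⟨⟨x', hx'⟩, hx1'⟩⟩ h
        have hxx : x = x' := congrArg Subtype.val h
        subst hxx
        have hPP : P = P' := by
          by_contra hc
          have : x ∈ (P : Subgroup G) ⊓ P' := ⟨hx, hx'⟩
          rw [hinter P P' hc, Subgroup.mem_bot] at this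
          exact hx1 (Subtype.ext this)
        subst hPP
        rfl
      have h1 := Nat.card_le_card_of_injective f hf
      have h2 : Nat.card (Σ P : Sylow p G, {x : P // x ≠ 1}) = q * (p ^ m - 1) := by
        haveI := Fintype.ofFinite (Sylow p G)
        rw [Nat.card_sigma, Finset.sum_congr rfl (fun P _ => ?_), Finset.sum_const, smul_eq_mul,
          Finset.card_univ, ← Nat.card_eq_fintype_card, hnp]
        haveI := Fintype.ofFinite P
        rw [Nat.card_eq_fintype_card, Fintype.card_subtype_compl, Fintype.card_subtype_eq,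
          ← Nat.card_eq_fintype_card]
        exact congrArg (· - 1) (hcardP P)
      have h3 : Nat.card T + Nat.card (Tᶜ : Set G) = p ^ m * q := by
        rw [← hG, Nat.card_coe_set_eq, Nat.card_coe_set_eq, Set.ncard_add_ncard_compl]
      rw [h2, Nat.mul_sub_one, Nat.mul_comm q] at h1
      have : q ≤ p ^ m * q := Nat.le_mul_of_pos_left q (pow_pos hp.pos m)
      omega
    have hQT : ∀ Q : Sylow q G, ((Q : Subgroup G) : Set G) = T := by
      intro Q
      refine Set.eq_of_subset_of_ncard_le (fun g hg P hP => ?_) ?_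
      · have hc : (Nat.card (P : Subgroup G)).Coprime (Nat.card (Q : Subgroup G)) := by
          rw [show Nat.card (P : Subgroup G) = p ^ m from hcardP P,
            show Nat.card (Q : Subgroup G) = q from hcardQ Q]
          exact hcop
        have := Subgroup.inf_eq_bot_of_coprime hc
        exact Subgroup.mem_bot.1 (this ▸ (⟨hP, hg⟩ : g ∈ (P : Subgroup G) ⊓ Q))
      · rw [← Nat.card_coe_set_eq, ← Nat.card_coe_set_eq]
        exact hT.trans (hcardQ Q).ge
    haveI : Subsingleton (Sylow q G) := ⟨fun A B => Sylow.ext (SetLike.coe_injective (by rw [hQT A, hQT B]))⟩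
    refine ⟨Q, Sylow.normal_of_subsingleton Q, fun h => ?_, fun h => ?_⟩
    · have h1 := hcardQ Q
      rw [show Nat.card Q = Nat.card (Q : Subgroup G) from rfl, h, Subgroup.card_bot] at h1
      exact hq.ne_one h1.symm
    · have h1 := hcardQ Q
      rw [show Nat.card Q = Nat.card (Q : Subgroup G) from rfl, h, Subgroup.card_top, hG] at h1
      have : 1 < p ^ m := Nat.one_lt_pow hm.ne' hp.one_lt
      nlinarith [hq.pos]
  · have hqN : q ∣ Nat.card (Subgroup.normalizer (D : Set G)) := by
      by_contra hnd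
      have hdvd : Nat.card (Subgroup.normalizer (D : Set G)) ∣ p ^ m * q :=
        hG ▸ Subgroup.card_subgroup_dvd_card _
      have h1 := (Nat.Coprime.dvd_of_dvd_mul_right
        ((hq.coprime_iff_not_dvd.2 hnd).symm) hdvd)
      obtain ⟨P₃, hP₃⟩ := (IsPGroup.of_card_dvd_pow (n := m) h1).exists_le_sylow
      have hlt₁ : D < (P₁ : Subgroup G) := by
        refine lt_of_le_of_ne inf_le_left fun h => hne (Sylow.ext ?_)
        exact Subgroup.eq_of_le_of_card_ge (inf_eq_left.1 h)
          (le_of_eq ((hcardP P₂).trans (hcardP P₁).symm))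
      have hlt₂ : D < (P₂ : Subgroup G) := by
        refine lt_of_le_of_ne inf_le_right fun h => hne (Sylow.ext ?_)
        exact (Subgroup.eq_of_le_of_card_ge (inf_eq_right.1 h)
          (le_of_eq ((hcardP P₁).trans (hcardP P₂).symm))).symm
      have key : ∀ P : Sylow p G, D < (P : Subgroup G) → P₃ = P := by
        intro P hlt
        by_contra hc
        have h2 := (Lib.Cores.Normalizer.lt_normalizer_inf P.isPGroup'.isNilpotent hlt).trans_le
          (inf_le_inf hP₃ le_rfl)
        have h3 : Nat.card ((P₃ : Subgroup G) ⊓ P : Subgroup G) ≤ Nat.card D := hmax ⟨(P₃, P), hc⟩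
        exact h2.ne (Subgroup.eq_of_le_of_card_ge h2.le h3)
      exact hne ((key P₁ hlt₁).symm.trans (key P₂ hlt₂))
    have hcoi : (Subgroup.normalizer (D : Set G)).index.Coprime (P₁ : Subgroup G).index := by
      have h1 := (P₁ : Subgroup G).card_mul_index
      rw [hG, show Nat.card (P₁ : Subgroup G) = p ^ m from hcardP P₁] at h1
      rw [Nat.eq_of_mul_eq_mul_left (pow_pos hp.pos m) h1]
      refine (hq.coprime_iff_not_dvd.2 fun h2 => ?_).symm
      have h3 := Nat.mul_dvd_mul hqN h2
      rw [Subgroup.card_mul_index, hG] at h3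
      have h4 : q ∣ p ^ m := Nat.dvd_of_mul_dvd_mul_right hq.pos h3
      exact hpq ((Nat.prime_dvd_prime_iff_eq hq hp).1 (hq.dvd_of_dvd_pow h4)).symm
    refine ⟨(P₁ : Subgroup G).normalCore, inferInstance, fun h => hDb (le_bot_iff.1 (h ▸ ?_)),
      fun h => ?_⟩
    · intro d hd g
      obtain ⟨x, hx, y, hy, hxy⟩ := (S0007.result _ _ hcoi).2 g⁻¹
      have hg : g = y⁻¹ * x⁻¹ := by
        rw [← mul_inv_rev, ← hxy, inv_inv]
      have hx' : x⁻¹ * d * x⁻¹⁻¹ ∈ D :=
        (Subgroup.mem_normalizer_iff.1 (inv_mem hx) d).1 hd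
      have : g * d * g⁻¹ = y⁻¹ * (x⁻¹ * d * x⁻¹⁻¹) * y := by rw [hg]; group
      rw [this]
      exact Subgroup.mul_mem _ (Subgroup.mul_mem _ (Subgroup.inv_mem _ hy) hx'.1) hy
    · have h1 : (P₁ : Subgroup G) = ⊤ := top_le_iff.1 (h ▸ Subgroup.normalCore_le _)
      have h2 := hcardP P₁
      rw [show Nat.card P₁ = Nat.card (P₁ : Subgroup G) from rfl, h1, Subgroup.card_top, hG] at h2
      have h5 := hq.two_le
      have : 0 < p ^ m := pow_pos hp.pos m
      nlinarith

theorem aux (p q : ℕ) (hp : p.Prime) (hq : q.Prime) (n : ℕ) :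
    ∀ (G : Type u) [Group G] [Finite G] (m : ℕ), Nat.card G = n → n ∣ p ^ m * q →
      Group.IsSolvable G := by
  induction n using Nat.strong_induction_on with
  | _ n ih =>
  intro G _ _ m hn hdvd
  have pgroup : ∀ r k : ℕ, r.Prime → Nat.card G ∣ r ^ k → Group.IsSolvable G := by
    intro r k hr h
    haveI := Fact.mk hr
    haveI := (IsPGroup.of_card_dvd_pow h).isNilpotent
    infer_instance
  by_cases hpq : p = q
  · exact pgroup p (m + 1) hp (by rw [hn, pow_succ]; exact hpq.symm ▸ hdvd)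
  obtain ⟨a, b, ha, hb, hab⟩ := Nat.dvd_mul.1 hdvd
  obtain ⟨i, -, rfl⟩ := (Nat.dvd_prime_pow hp).1 ha
  rcases (Nat.dvd_prime hq).1 hb with hb1 | hbq
  · exact pgroup p i hp (by rw [hn, ← hab, hb1, mul_one])
  by_cases hi : i = 0
  · exact pgroup q 1 hq (by rw [hn, ← hab, hbq, hi, pow_zero, one_mul, pow_one])
  obtain ⟨N, hN, hbot, htop⟩ := exists_normal (G := G) p q i hp hq hpq (Nat.pos_of_ne_zero hi)
    (by rw [hn, ← hab, hbq])
  haveI := hN
  have hmul : Nat.card N * Nat.card (G ⧸ N) = n := by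
    rw [← hn, Subgroup.card_eq_card_quotient_mul_card_subgroup N, mul_comm]
  have hN1 : 1 < Nat.card N := (Subgroup.one_lt_card_iff_ne_bot N).2 hbot
  have hQ1 : 1 < Nat.card (G ⧸ N) := by
    rw [← Subgroup.index_eq_card]; exact Subgroup.one_lt_index_of_ne_top htop
  rw [Group.isSolvable_iff_subgroup_quotient N]
  exact ⟨ih (Nat.card N) (by nlinarith) N m rfl ((hmul ▸ Dvd.intro _ rfl : _ ∣ n).trans hdvd),
    ih (Nat.card (G ⧸ N)) (by nlinarith) (G ⧸ N) m rfl
      ((hmul ▸ Dvd.intro_left _ rfl : _ ∣ n).trans hdvd)⟩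


/-- A finite group whose order is a prime power times a prime is solvable. -/
theorem result {G : Type*} [Group G] [Finite G] (p q m : ℕ) (hp : p.Prime) (hq : q.Prime)
    (hG : Nat.card G = p ^ m * q) : Group.IsSolvable G := aux p q hp hq _ G m rfl (dvd_of_eq hG)

end Cfsg.Agent.S0061
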