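import Cfsg.Statements.S3801
import Cfsg.Agent.Lib.PSolvable.PLength
import Cfsg.Agent.Lib.Coprime.Commutator
import Cfsg.Agent.Lib.PGroups.Frattini
import Cfsg.Agent.Lib.OddLocal.PStable
import Cfsg.Agent.Lib.FpfHeight.ScalarExt
import Cfsg.Agent.Lib.FpfHeight.PlaneExponent

set_option autoImplicit false
open Cfsg

namespace Cfsg.Agent.S3801

open Cfsg.Agent.Lib

universe u

/-- A `2`-element of a quotient lifts to a `2`-element. -/
theorem exists_lift {G : Type u} [Group G] [Finite G] (N : Subgroup G) [N.Normal] {y : G ⧸ N}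
    {a : ℕ} (hy : y ^ 2 ^ a = 1) : ∃ x : G, (∃ b : ℕ, x ^ 2 ^ b = 1) ∧ (x : G ⧸ N) = y := by
  obtain ⟨x₀, rfl⟩ := QuotientGroup.mk_surjective y
  obtain ⟨b, n, hn, hbn⟩ :=
    Nat.exists_eq_pow_mul_and_not_dvd (orderOf_pos x₀).ne' 2 (by norm_num)
  have hc : n.Coprime (2 ^ (a + 1)) :=
    Nat.Coprime.pow_right _ (Nat.coprime_two_right.mpr (Nat.odd_iff.mpr (by omega)))
  obtain ⟨m, -, hm⟩ := Nat.exists_mul_mod_eq_one_of_coprime hc
    (Nat.one_lt_two_pow (by omega))
  refine ⟨x₀ ^ (n * m), ⟨b, ?_⟩, ?_⟩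
  · rw [← pow_mul, Nat.mul_comm, ← mul_assoc, ← hbn, pow_mul, pow_orderOf_eq_one, one_pow]
  · have h1 : ((x₀ : G ⧸ N)) ^ 2 ^ (a + 1) = 1 := by rw [pow_succ, pow_mul, hy, one_pow]
    rw [QuotientGroup.mk_pow, ← Nat.mod_add_div (n * m) (2 ^ (a + 1)), hm, pow_add, pow_mul, h1,
      one_pow, mul_one, pow_one]

theorem exponent_quotient {G : Type u} [Group G] [Finite G] (N : Subgroup G) [N.Normal] {e : ℕ}
    (h : ∀ x : G, (∃ a : ℕ, x ^ 2 ^ a = 1) → x ^ 2 ^ e = 1) :
    ∀ y : G ⧸ N, (∃ a : ℕ, y ^ 2 ^ a = 1) → y ^ 2 ^ e = 1 := by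
  rintro y ⟨a, ha⟩
  obtain ⟨x, hx, rfl⟩ := exists_lift N ha
  rw [← QuotientGroup.mk_pow, h x hx, QuotientGroup.mk_one]

theorem main (e : ℕ) : 1 ≤ e → ∀ (G : Type u) [Group G] [Finite G] [Group.IsSolvable G],
    (∀ x : G, (∃ a : ℕ, x ^ 2 ^ a = 1) → x ^ 2 ^ e = 1) → PLengthLE 2 (2 * e - 1) G := by
  induction e using Nat.strong_induction_on with
  | _ e ih =>
  intro he G₀ _ _ _ hexp₀
  haveI : Fact (Nat.Prime 2) := ⟨Nat.prime_two⟩
  refine PSolvable.pLengthLE_of_quotient_pPrime PSolvable.card_pPrimeCore_coprime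
    (N := pPrimeCore 2 G₀) ?_
  set G := G₀ ⧸ pPrimeCore 2 G₀
  haveI : Group.IsSolvable G :=
    Group.isSolvable_of_surjective (f := QuotientGroup.mk' (pPrimeCore 2 G₀))
      (QuotientGroup.mk'_surjective _)
  have hexp : ∀ x : G, (∃ a : ℕ, x ^ 2 ^ a = 1) → x ^ 2 ^ e = 1 := exponent_quotient _ hexp₀
  have hO : pPrimeCore 2 G = ⊥ := PSolvable.pPrimeCore_quotient_eq_bot _ rfl
  set T := pCore 2 G with hT
  have hTp : IsPGroup 2 T := PSolvable.isPGroup_pCore
  have hCT := PSolvable.centralizer_pCore_le (p := 2)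
    (PSolvable.isPSolvable_of_isSolvable (G := G)) hO
  rw [show 2 * e - 1 = (2 * e - 2) + 1 by omega]
  refine PSolvable.pLengthLE_succ_of_quotient_pCore ?_
  -- the representation on the Frattini quotient
  haveI : IsMulCommutative (↥T ⧸ frattini ↥T) := by
    have h := (Cfsg.Agent.Lib.PGroups.frattiniQuotient_elemAb hTp).1
    exact ⟨⟨fun a b => congrArg Subtype.val
      (h.is_comm.comm ⟨a, Subgroup.mem_top a⟩ ⟨b, Subgroup.mem_top b⟩)⟩⟩
  letI : CommGroup (↥T ⧸ frattini ↥T) :=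
    { (inferInstance : Group (↥T ⧸ frattini ↥T)) with
      mul_comm := fun a b => mul_comm' a b }
  set V := Additive (↥T ⧸ frattini ↥T)
  have hV2 : ∀ v : V, 2 • v = 0 := fun v => by
    change Additive.ofMul (Additive.toMul v ^ 2) = Additive.ofMul 1
    rw [(Cfsg.Agent.Lib.PGroups.frattiniQuotient_elemAb hTp).2 _ (Subgroup.mem_top _)]
  obtain ⟨M, i1, i2, i3, L, hL⟩ := FpfHeight.ScalarExt.exists_rep 2 V hV2
  set k := AlgebraicClosure (ZMod 2)
  haveI : CharP k 2 := charP_of_injective_algebraMap (algebraMap (ZMod 2) k).injective 2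
  let r : G →* AddMonoid.End V := OddLocal.PStable.frattiniRep T
  have hr : ∀ (g : G) (w : T), r g (Additive.ofMul (w : ↥T ⧸ frattini ↥T)) =
      Additive.ofMul ((MulAut.conjNormal g w : ↥T) : ↥T ⧸ frattini ↥T) := fun g w => rfl
  have hrT : T ≤ r.ker := fun g hg => by
    refine MonoidHom.mem_ker.mpr (AddMonoidHom.ext fun v => ?_)
    obtain ⟨w, hw⟩ := QuotientGroup.mk_surjective (Additive.toMul v)
    have hv : v = Additive.ofMul (w : ↥T ⧸ frattini ↥T) := by rw [hw]; rfl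
    rw [hv]
    refine (hr g w).trans (congrArg Additive.ofMul ?_)
    rw [show MulAut.conjNormal g w = ⟨g, hg⟩ * w * (⟨g, hg⟩ : T)⁻¹ from Subtype.ext (by simp),
      QuotientGroup.mk_mul, QuotientGroup.mk_mul, QuotientGroup.mk_inv, mul_comm' ((⟨g, hg⟩ : T) : ↥T ⧸ frattini ↥T),
      mul_inv_cancel_right]
  have hker : r.ker ≤ T := by
    refine PSolvable.le_pCore inferInstance ?_
    rintro ⟨g, hg⟩
    obtain ⟨a, n, hn, han⟩ :=
      Nat.exists_eq_pow_mul_and_not_dvd (orderOf_pos g).ne' 2 (by norm_num)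
    refine ⟨a, Subtype.ext ?_⟩
    change g ^ 2 ^ a = 1
    set h := g ^ 2 ^ a with hh
    have hhn : h ^ n = 1 := by rw [hh, ← pow_mul, ← han, pow_orderOf_eq_one]
    have hnodd : Odd n := Nat.odd_iff.mpr (by omega)
    have hhker : h ∈ r.ker := Subgroup.pow_mem _ hg _
    have hcent : Subgroup.zpowers h ≤ Subgroup.centralizer (T : Set G) := by
      refine Coprime.le_centralizer_of_frattini ?_ ?_ fun b hb w hw => ?_
      · rw [Subgroup.normalizer_eq_top_iff.mpr inferInstance]; exact le_top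
      · rw [Nat.card_zpowers]
        obtain ⟨m, hm⟩ := IsPGroup.iff_card.mp (hTp.to_subgroup (frattini ↥T))
        rw [hm]
        refine Nat.Coprime.pow_right _ (Nat.coprime_two_right.mpr ?_)
        exact hnodd.of_dvd_nat (orderOf_dvd_of_pow_eq_one hhn)
      · have hbk : r b = 1 := (Subgroup.zpowers_le.mpr hhker : _) hb
        have h1 := congrArg Additive.toMul (DFunLike.congr_fun hbk
          (Additive.ofMul ((⟨w, hw⟩ : T) : ↥T ⧸ frattini ↥T)))
        rw [hr] at h1
        change ((MulAut.conjNormal b (⟨w, hw⟩ : T) : T) : ↥T ⧸ frattini ↥T) =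
          ((⟨w, hw⟩ : T) : ↥T ⧸ frattini ↥T) at h1
        rw [← mul_inv_eq_one, ← QuotientGroup.mk_inv, ← QuotientGroup.mk_mul,
          QuotientGroup.eq_one_iff] at h1
        exact ⟨_, h1, by simp⟩
    obtain ⟨b, hb⟩ := hTp ⟨h, hCT (hcent (Subgroup.mem_zpowers h))⟩
    exact FpfHeight.InvolutionConj.eq_one_of_two_pow (congrArg Subtype.val hb) hhn hnodd
  set H := G ⧸ T
  haveI : Group.IsSolvable H :=
    Group.isSolvable_of_surjective (f := QuotientGroup.mk' T) (QuotientGroup.mk'_surjective _)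
  let ρ : H →* Module.End k M :=
    QuotientGroup.lift T (L.toMonoidHom.comp r) (fun g hg => MonoidHom.mem_ker.mpr (by
      change L (r g) = 1
      rw [MonoidHom.mem_ker.mp (hrT hg), map_one]))
  have hρ : Function.Injective ρ := by
    refine (injective_iff_map_eq_one ρ).mpr fun c hc => ?_
    obtain ⟨g, rfl⟩ := QuotientGroup.mk_surjective c
    exact (QuotientGroup.eq_one_iff g).mpr
      (hker (MonoidHom.mem_ker.mpr (hL (hc.trans (map_one L).symm))))
  have hexpH : ∀ y : H, (∃ a : ℕ, y ^ 2 ^ a = 1) →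
      y ^ 2 ^ e = 1 ∧ ∑ i ∈ Finset.range (2 ^ e), ρ y ^ i = 0 := by
    intro y hy
    refine ⟨exponent_quotient _ hexp y hy, ?_⟩
    obtain ⟨a, ha⟩ := hy
    obtain ⟨x, ⟨b, hb⟩, rfl⟩ := exists_lift T ha
    have hsum : ∑ i ∈ Finset.range (2 ^ e), r (x ^ i) = 0 := by
      refine AddMonoidHom.ext fun v => ?_
      obtain ⟨w, hw⟩ := QuotientGroup.mk_surjective (Additive.toMul v)
      have hv : v = Additive.ofMul (w : ↥T ⧸ frattini ↥T) := by rw [hw]; rfl
      have hm : ∀ n, ((w : G) * x) ^ n * (x ^ n)⁻¹ ∈ T := fun n => by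
        rw [← QuotientGroup.eq_one_iff, QuotientGroup.mk_mul, QuotientGroup.mk_inv,
          QuotientGroup.mk_pow, QuotientGroup.mk_mul, (QuotientGroup.eq_one_iff (w : G)).mpr w.2,
          one_mul, ← QuotientGroup.mk_pow, mul_inv_cancel]
      have hprod : ∀ n, (∑ i ∈ Finset.range n, r (x ^ i)) v =
          Additive.ofMul (((⟨_, hm n⟩ : T)) : ↥T ⧸ frattini ↥T) := by
        intro n
        induction n with
        | zero =>
          rw [Finset.sum_range_zero, show (⟨_, hm 0⟩ : T) = 1 from Subtype.ext (by simp)]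
          rfl
        | succ n ihn =>
          rw [Finset.sum_range_succ]
          change (∑ i ∈ Finset.range n, r (x ^ i)) v + r (x ^ n) v = _
          rw [ihn, hv, hr, ← ofMul_mul,
            ← QuotientGroup.mk_mul]
          refine congrArg Additive.ofMul (congrArg _ (Subtype.ext ?_))
          rw [Subgroup.coe_mul, MulAut.conjNormal_apply]
          change ((w : G) * x) ^ n * (x ^ n)⁻¹ * (x ^ n * (w : G) * (x ^ n)⁻¹) =
            ((w : G) * x) ^ (n + 1) * (x ^ (n + 1))⁻¹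
          rw [pow_succ, pow_succ]
          group
      refine (hprod _).trans ?_
      have h1 : ((w : G) * x) ^ 2 ^ e = 1 := by
        obtain ⟨c, hc⟩ := hTp ⟨_, hm (2 ^ b)⟩
        have hc' := congrArg Subtype.val hc
        simp only [Subgroup.coe_pow, Subgroup.coe_one, hb, inv_one, mul_one, ← pow_mul, ← pow_add]
          at hc'
        exact hexp _ ⟨_, hc'⟩
      rw [show (⟨_, hm (2 ^ e)⟩ : T) = 1 from Subtype.ext (by simp [h1, hexp x ⟨b, hb⟩])]
      rfl
    have h2 := congrArg L hsum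
    rw [map_sum, map_zero] at h2
    rw [← h2]
    refine Finset.sum_congr rfl fun i _ => ?_
    rw [map_pow, map_pow]
    rfl
  rcases Nat.lt_or_ge e 2 with he2 | he2
  · -- exponent two
    have he1 : e = 1 := by omega
    subst he1
    refine PSolvable.pLengthLE_zero_iff.mpr fun hd => ?_
    obtain ⟨y, hy⟩ := exists_prime_orderOf_dvd_card' 2 hd
    obtain ⟨-, hs⟩ := hexpH y ⟨1, by have h := pow_orderOf_eq_one y; rw [hy] at h; simpa using h⟩
    rw [pow_one, Finset.sum_range_succ, Finset.sum_range_one, pow_zero, pow_one] at hs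
    have h1 : ρ y = 1 := by
      refine LinearMap.ext fun m => ?_
      have h3 := LinearMap.congr_fun hs m
      rw [LinearMap.add_apply, LinearMap.zero_apply, add_eq_zero_iff_eq_neg,
        Module.End.one_apply] at h3
      have h4 : -(ρ y m) = ρ y m := by
        rw [← neg_one_smul k, CharTwo.neg_eq, one_smul]
      rw [h4] at h3
      exact h3.symm
    rw [hρ (h1.trans (map_one ρ).symm), orderOf_one] at hy
    norm_num at hy
  have hOH : pCore 2 H = ⊥ := PSolvable.pCore_quotient_eq_bot _ rfl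
  rw [show 2 * e - 2 = (2 * (e - 1) - 1) + 1 by omega]
  refine PSolvable.pLengthLE_succ_of_quotient (N := pPrimePCore 2 H)
    PSolvable.upperPSeries_two.ge ?_
  haveI : Group.IsSolvable (H ⧸ pPrimePCore 2 H) :=
    Group.isSolvable_of_surjective (f := QuotientGroup.mk' (pPrimePCore 2 H))
      (QuotientGroup.mk'_surjective _)
  refine ih (e - 1) (by omega) (by omega) (H ⧸ pPrimePCore 2 H) ?_
  rintro z ⟨a, ha⟩
  obtain ⟨y, hy, rfl⟩ := exists_lift _ ha
  rw [← QuotientGroup.mk_pow, QuotientGroup.eq_one_iff]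
  exact FpfHeight.PlaneExponent.pow_mem_pPrimePCore hOH ρ hρ e he2 hexpH y hy

/-- Gross's bound on 2-length: if G is a finite solvable group whose Sylow 2-subgroups have exponent dividing 2^e with e ≥ 1, then G has 2-length at most 2e − 1. -/
theorem result {G : Type*} [Group G] [Finite G] (hG : Group.IsSolvable G) (e : ℕ) (he : 1 ≤ e) (hexp : ∀ (P : Sylow 2 G), ∀ x ∈ (P : Subgroup G), x ^ 2 ^ e = 1) : Cfsg.PLengthLE 2 (2 * e - 1) G := by
  haveI := hG
  haveI : Fact (Nat.Prime 2) := ⟨Nat.prime_two⟩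
  refine main e he G fun x hx => ?_
  obtain ⟨a, ha⟩ := hx
  have hp : IsPGroup 2 (Subgroup.zpowers x) := by
    obtain ⟨i, -, hi⟩ := (Nat.dvd_prime_pow Nat.prime_two).mp (orderOf_dvd_of_pow_eq_one ha)
    exact IsPGroup.of_card (n := i) (by rw [Nat.card_zpowers, hi])
  obtain ⟨P, hP⟩ := hp.exists_le_sylow
  exact hexp P x (hP (Subgroup.mem_zpowers x))

end Cfsg.Agent.S3801
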