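import Cfsg.Statements.S3612
import Cfsg.Agent.Lib.PrimeHalf.Primitive

set_option autoImplicit false
open Cfsg

namespace Cfsg.Agent.S3612

/-- Let G be an insoluble group acting faithfully and transitively on a finite set of prime size p, and suppose the normalizer of a Sylow p-subgroup of G has order p(p-1)/2. If p > 7, then the stabilizer of a point acts primitively on the remaining p - 1 points. -/
theorem result {G Ω : Type*} [Group G] [Finite G] [MulAction G Ω] [FaithfulSMul G Ω] [Finite Ω]
    (p : ℕ) (hp : p.Prime) (hΩ : Nat.card Ω = p) (htrans : MulAction.IsPretransitive G Ω)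
    (hins : ¬ Group.IsSolvable G) (P : Sylow p G)
    (hN : 2 * Nat.card ↥(Subgroup.normalizer ((P : Subgroup G) : Set G)) = p * (p - 1))
    (hp7 : 7 < p) (α : Ω) :
    MulAction.IsPreprimitive ↥(MulAction.stabilizer G α) ↥(SubMulAction.ofStabilizer G α) := by
  have : Fact p.Prime := ⟨hp⟩
  have := Fintype.ofFinite Ω
  have hΩ' : Fintype.card Ω = p := by rw [← Nat.card_eq_fintype_card, hΩ]
  have hodd : p % 2 = 1 := Nat.odd_iff.mp (hp.odd_of_ne_two (by omega))
  rcases (show p % 4 = 1 ∨ p % 4 = 3 by omega) with h1 | h3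
  · have heven : Even (Nat.card ↥(Subgroup.normalizer ((P : Subgroup G) : Set G))) := by
      obtain ⟨k, hk⟩ : ∃ k, p - 1 = 4 * k := ⟨(p - 1) / 4, by omega⟩
      have h : 2 * Nat.card ↥(Subgroup.normalizer ((P : Subgroup G) : Set G)) = 2 * (2 * (p * k)) := by
        rw [hN, hk]; ring
      exact even_iff_two_dvd.mpr ⟨p * k, Nat.eq_of_mul_eq_mul_left two_pos h⟩
    have h3t := Lib.PrimeHalf.three_transitive_of_even hΩ' htrans hins P heven
    have h2 : MulAction.IsMultiplyPretransitive ↥(MulAction.stabilizer G α)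
        ↥(SubMulAction.ofStabilizer G α) 2 :=
      SubMulAction.ofStabilizer.isMultiplyPretransitive.mp h3t
    exact MulAction.isPreprimitive_of_is_two_pretransitive h2
  · have h2 := Lib.PrimeHalf.two_transitive hΩ' htrans hins
    obtain ⟨e, he⟩ := Lib.PrimeHalf.exists_coord hΩ' htrans hins P hN.ge
    exact Lib.PrimeHalf.stabilizer_primitive h2 he h3 hp7 α

end Cfsg.Agent.S3612
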