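import Cfsg.Statements.S3572
import Cfsg.Agent.Lib.DihedralBGroup12.Orbitals

set_option autoImplicit false
open Cfsg

namespace Cfsg.Agent.S3572

open Cfsg.Agent.Lib.DihedralBGroup12

/-- The cyclic subgroup of rotations and a reflection. -/
noncomputable def dihData {D : Type*} [Group D] {m : ℕ} (e : D ≃* DihedralGroup m) :
    Dih (Multiplicative (ZMod m)) D where
  ι :=
    { toFun := fun c => e.symm (DihedralGroup.r c.toAdd)
      map_one' := by simp
      map_mul' := fun a b => by rw [← map_mul]; simp }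
  S := e.symm (DihedralGroup.sr 0)
  inj a b h := by simpa using h
  not_mem c h := by simp at h
  sq := by rw [← map_mul, DihedralGroup.sr_mul_self, map_one]
  conj c := by
    show e.symm _ * e.symm _ = e.symm _ * e.symm _
    rw [← map_mul, ← map_mul]
    simp
  cover g := by
    rcases hg : e g with i | i
    · exact Or.inl ⟨Multiplicative.ofAdd i, by
        show g = e.symm _
        rw [MulEquiv.eq_symm_apply, hg]; rfl⟩
    · exact Or.inr ⟨Multiplicative.ofAdd (-i), by
        show g = e.symm _ * e.symm _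
        rw [← map_mul, MulEquiv.eq_symm_apply, hg]; simp⟩

/-- A finite primitive permutation group containing a dihedral subgroup that acts regularly (transitively with trivial point stabilizers) is doubly transitive. -/
theorem result {G Ω : Type*} [Group G] [Finite G] [MulAction G Ω] [FaithfulSMul G Ω] [Finite Ω]
    (hprim : MulAction.IsPreprimitive G Ω) (D : Subgroup G) (m : ℕ) (hD : Nonempty (↥D ≃* DihedralGroup m))
    (hDreg : MulAction.IsPretransitive ↥D Ω ∧ ∀ a : Ω, MulAction.stabilizer ↥D a = ⊥) :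
    MulAction.IsMultiplyPretransitive G Ω 2 := by
  classical
  obtain ⟨eD⟩ := hD
  obtain ⟨hDt, hDs⟩ := hDreg
  have : Finite (DihedralGroup m) := Finite.of_equiv _ eD.toEquiv
  have : NeZero m := ⟨by rintro rfl; exact not_finite (DihedralGroup 0)⟩
  have := Fintype.ofFinite ↥D
  rw [MulAction.is_two_pretransitive_iff]
  intro x y z w hxy hzw
  have hnt : Nontrivial Ω := ⟨⟨x, y, hxy⟩⟩
  set a := x with hadef
  have hbij : Function.Bijective (fun c : ↥D => c • a) := by
    refine ⟨fun c d h => ?_, fun b => MulAction.exists_smul_eq D a b⟩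
    have : d⁻¹ * c ∈ MulAction.stabilizer D a := by
      show (d⁻¹ * c) • a = a
      rw [mul_smul]; exact inv_smul_eq_iff.2 h
    rw [hDs a, Subgroup.mem_bot] at this
    exact (inv_mul_eq_one.1 this).symm
  let e : ↥D ≃ Ω := Equiv.ofBijective _ hbij
  let φ : G → Equiv.Perm ↥D := fun g => e.trans ((MulAction.toPerm g).trans e.symm)
  have he : ∀ c : ↥D, e c = (c : G) • a := fun c => rfl
  have hφ : ∀ g c, ((φ g c : ↥D) : G) • a = g • (c : G) • a := fun g c => by
    rw [← he, ← he]; simp [φ]
  have huniq : ∀ c d : ↥D, (c : G) • a = (d : G) • a → c = d := fun c d h => hbij.1 h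
  have hco : IsCoatom (MulAction.stabilizer G a) :=
    MulAction.IsPreprimitive.isCoatom_stabilizer_of_isPreprimitive G a
  let Φ : Set (Equiv.Perm ↥D) := {σ | ∃ g ∈ MulAction.stabilizer G a, φ g = σ}
  have hΦ : IsStab Φ := by
    constructor
    · rintro σ ⟨g, hg, rfl⟩
      refine huniq _ _ ?_
      rw [hφ]; simpa using hg
    · rintro σ ⟨g, hg, rfl⟩ s
      refine ⟨φ (((φ g s : ↥D) : G)⁻¹ * g * s), ⟨_, ?_, rfl⟩, fun u => huniq _ _ ?_⟩
      · show (((φ g s : ↥D) : G)⁻¹ * g * s) • a = a
        rw [mul_smul, mul_smul, ← hφ, inv_smul_smul]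
      · rw [hφ, Subgroup.coe_mul, Subgroup.coe_mul, mul_smul ((φ g s : ↥D) : G), hφ, mul_smul, mul_smul,
          mul_smul, smul_inv_smul]
    · rintro σ ⟨g, hg, rfl⟩
      refine ⟨g⁻¹, Subgroup.inv_mem _ hg, Equiv.ext fun c => huniq _ _ ?_⟩
      rw [hφ, inv_smul_eq_iff, ← hφ g, Equiv.apply_symm_apply]
    · exact ⟨1, Subgroup.one_mem _, Equiv.ext fun c => huniq _ _ (by rw [hφ, one_smul]; rfl)⟩
    · rintro σ ⟨g, hg, rfl⟩ τ ⟨k, hk, rfl⟩
      exact ⟨k * g, Subgroup.mul_mem _ hk hg, Equiv.ext fun c => huniq _ _ (by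
        rw [hφ, Equiv.trans_apply, hφ, hφ, mul_smul])⟩
    · intro K hK
      let B : Set Ω := (fun c : ↥D => (c : G) • a) '' (K : Set ↥D)
      let X : Subgroup G := Subgroup.closure ((MulAction.stabilizer G a : Set G) ∪ Subtype.val '' (K : Set ↥D))
      have hgen : ∀ g ∈ X, ∀ b ∈ B, g • b ∈ B := by
        intro g hg
        have hg' : g ∈ Submonoid.closure ((MulAction.stabilizer G a : Set G) ∪ Subtype.val '' (K : Set ↥D)) := by
          rw [← Subgroup.closure_toSubmonoid_of_finite]; exact hg
        clear hg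
        induction hg' using Submonoid.closure_induction with
        | mem x hx =>
          rintro _ ⟨c, hc, rfl⟩
          rcases hx with hx | ⟨k, hk, rfl⟩
          · exact ⟨φ x c, hK _ ⟨x, hx, rfl⟩ c hc, hφ x c⟩
          · exact ⟨k * c, K.mul_mem hk hc, mul_smul _ _ _⟩
        | one => intro b hb; rwa [one_smul]
        | mul x y _ _ hx hy => intro b hb; rw [mul_smul]; exact hx _ (hy b hb)
      have hle : MulAction.stabilizer G a ≤ X := fun g hg => Subgroup.subset_closure (Or.inl hg)
      rcases lt_or_eq_of_le hle with hlt | heq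
      · right
        rw [eq_top_iff]
        intro c _
        obtain ⟨d, hd, hdc⟩ := hgen (c : G) (hco.2 X hlt ▸ Subgroup.mem_top _) a ⟨1, K.one_mem, by simp⟩
        exact huniq d c hdc ▸ hd
      · left
        rw [Subgroup.eq_bot_iff_forall]
        intro c hc
        refine huniq c 1 ?_
        have : (c : G) ∈ MulAction.stabilizer G a :=
          heq ▸ Subgroup.subset_closure (Or.inr ⟨c, hc, rfl⟩)
        rw [MulAction.mem_stabilizer_iff.1 this]; simp
  let M := dihData eD
  let R := SR.ofStab M hΦ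
  have hall : ∀ g h : ↥D, g ≠ 1 → h ≠ 1 → R.r g h := by
    by_cases hC : 2 ≤ Fintype.card (Multiplicative (ZMod m))
    · exact R.trivial_of_primitive M hC
    · intro g h hg hh
      have hcard : Fintype.card ↥D ≤ 2 := by rw [M.card_eq]; omega
      obtain rfl : g = h := by
        by_contra hne
        have : ({1, g, h} : Finset ↥D).card = 3 :=
          Finset.card_eq_three.2 ⟨1, g, h, hg.symm, hh.symm, hne, rfl⟩
        have := Finset.card_le_univ ({1, g, h} : Finset ↥D)
        omega
      exact R.equiv.refl g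
  have key : ∀ x y : Ω, x ≠ a → y ≠ a → ∃ g ∈ MulAction.stabilizer G a, g • x = y := by
    intro x y hx hy
    obtain ⟨c, rfl⟩ := MulAction.exists_smul_eq D a x
    obtain ⟨d, rfl⟩ := MulAction.exists_smul_eq D a y
    obtain ⟨σ, ⟨g, hg, rfl⟩, hgc⟩ := hall c d (fun h => hx (by rw [h, one_smul]))
      (fun h => hy (by rw [h, one_smul]))
    exact ⟨g, hg, by rw [Subgroup.smul_def, ← hφ, hgc]; rfl⟩
  obtain ⟨g₂, hg₂⟩ := MulAction.exists_smul_eq G z a
  obtain ⟨k, hk, hkk⟩ := key y (g₂ • w) (fun h => hxy h.symm)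
    (fun h => hzw (MulAction.injective g₂ (hg₂.trans h.symm)))
  refine ⟨g₂⁻¹ * k, ?_, ?_⟩
  · rw [mul_smul, MulAction.mem_stabilizer_iff.1 hk, inv_smul_eq_iff, hg₂]
  · rw [mul_smul, hkk, inv_smul_smul]

end Cfsg.Agent.S3572
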