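import Cfsg.Statements.S3776
import Cfsg.Agent.Lib.SuzukiSol.Squares
import Cfsg.Agent.Lib.PGroups.Frattini

set_option autoImplicit false
open Cfsg

namespace Cfsg.Agent.S3776

/-- Let G be a finite non-abelian 2-group with more than one involution admitting a solvable group of automorphisms that permutes its involutions transitively. Then the derived subgroup, the Frattini subgroup and the centre of G coincide and consist exactly of the elements x with x² = 1. -/
theorem result {G : Type*} [Group G] [Finite G] (hG : IsPGroup 2 G) (hna : ¬ IsMulCommutative G) (htwo : ∃ x y : G, x ≠ y ∧ x ≠ 1 ∧ x ^ 2 = 1 ∧ y ≠ 1 ∧ y ^ 2 = 1) (hY : ∃ Y : Subgroup (MulAut G), Group.IsSolvable Y ∧ ∀ x y : G, x ≠ 1 → x ^ 2 = 1 → y ≠ 1 → y ^ 2 = 1 → ∃ a ∈ Y, a x = y) : commutator G = frattini G ∧ frattini G = Subgroup.center G ∧ ∀ x : G, x ∈ Subgroup.center G ↔ x ^ 2 = 1 := by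
  classical
  haveI : Fact (Nat.Prime 2) := ⟨Nat.prime_two⟩
  obtain ⟨Y, hYs, hYt⟩ := hY
  have hS : Agent.Lib.SuzukiSol.Setup Y :=
    { tr := ⟨hYs, fun x y hx hx2 hy hy2 => hYt x y hx (by rwa [sq]) hy (by rwa [sq])⟩
      pgroup := hG
      noncomm := by
        by_contra h
        push Not at h
        exact hna ⟨⟨h⟩⟩
      two := by
        obtain ⟨x, y, hxy, hx1, hx, hy1, hy⟩ := htwo
        exact ⟨x, y, hxy, hx1, by rwa [← sq], hy1, by rwa [← sq]⟩ }
  have hZ : ∀ x : G, x ∈ Subgroup.center G ↔ x ^ 2 = 1 := fun x =>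
    ⟨fun hx => by rw [sq]; exact Agent.Lib.SuzukiSol.center_sq hS hx,
      fun hx => Agent.Lib.SuzukiSol.mem_center_of_sq hS (by rwa [← sq])⟩
  have hsq : ∀ x : G, x ^ 2 ∈ Subgroup.center G := fun x => by
    rw [sq]; exact Agent.Lib.SuzukiSol.sq_mem_center hS x
  have h1 : commutator G ≤ Subgroup.center G := by
    rw [commutator_def, Subgroup.commutator_le]
    intro u _ v _
    have e : u * v * u⁻¹ * v⁻¹ = u ^ 2 * (u⁻¹ * v) ^ 2 * v⁻¹ ^ 2 := by
      simp only [sq]; group
    rw [commutatorElement_def, e]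
    exact Subgroup.mul_mem _ (Subgroup.mul_mem _ (hsq u) (hsq _)) (hsq _)
  have h2 : Subgroup.center G ≤ commutator G := by
    intro z hz
    by_cases hz1 : z = 1
    · rw [hz1]; exact one_mem _
    obtain ⟨a, b, hab⟩ := hS.noncomm
    have hne : a * b * a⁻¹ * b⁻¹ ≠ 1 := fun h => hab (mul_inv_eq_iff_eq_mul.1 (mul_inv_eq_one.1 h))
    have hmem : a * b * a⁻¹ * b⁻¹ ∈ commutator G :=
      Subgroup.commutator_mem_commutator (Subgroup.mem_top a) (Subgroup.mem_top b)
    obtain ⟨k, -, hk⟩ := hYt _ z hne ((hZ _).1 (h1 hmem)) hz1 ((hZ z).1 hz)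
    rw [← hk, map_mul, map_mul, map_mul, map_inv, map_inv]
    exact Subgroup.commutator_mem_commutator (Subgroup.mem_top _) (Subgroup.mem_top _)
  have hf : frattini G ≤ Subgroup.center G :=
    Agent.Lib.PGroups.frattini_le_of_pow_commutator (p := 2) _ hsq h1
  have hf' : commutator G ≤ frattini G := Agent.Lib.PGroups.commutator_le_frattini hG
  exact ⟨le_antisymm hf' (hf.trans h2), le_antisymm hf (h2.trans hf'), hZ⟩

end Cfsg.Agent.S3776
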