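import Cfsg.Statements.S4179
import Cfsg.Agent.Lib.SingerTrans.Classify

set_option autoImplicit false
open Cfsg

namespace Cfsg.Agent.S4179

open Cfsg.Agent.Lib.SingerTrans

variable {V : Type*} [AddCommGroup V] [Module (ZMod 2) V] [Finite V]

/-- The natural representation of a linear group. -/
def natRep (H : Subgroup (V ≃ₗ[ZMod 2] V)) : Representation (ZMod 2) H V where
  toFun h := ((h : V ≃ₗ[ZMod 2] V) : V →ₗ[ZMod 2] V)
  map_one' := rfl
  map_mul' _ _ := rfl

omit [Finite V] in
theorem natRep_injective (H : Subgroup (V ≃ₗ[ZMod 2] V)) : Function.Injective (natRep H) :=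
  fun _ _ h => Subtype.ext (LinearEquiv.toLinearMap_injective h)

/-- Let V be a vector space of dimension n over the field with two elements with 2^n − 1 prime, and H a group of invertible linear maps of V. Then H is transitive on the non-zero vectors of V if and only if H is cyclic of order 2^n − 1, or H has order n·(2^n − 1) and contains a normal cyclic subgroup of order 2^n − 1, or H is the whole general linear group of V. -/
theorem result {V : Type*} [AddCommGroup V] [Module (ZMod 2) V] [Finite V] (n : ℕ) (hn : Module.finrank (ZMod 2) V = n)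
    (hprime : (2 ^ n - 1).Prime) (H : Subgroup (V ≃ₗ[ZMod 2] V)) :
    (∀ v w : V, v ≠ 0 → w ≠ 0 → ∃ h ∈ H, h v = w) ↔
      ((IsCyclic ↥H ∧ Nat.card ↥H = 2 ^ n - 1) ∨
       (Nat.card ↥H = n * (2 ^ n - 1) ∧ ∃ C : Subgroup (V ≃ₗ[ZMod 2] V), C ≤ H ∧ (C.subgroupOf H).Normal ∧
          IsCyclic ↥C ∧ Nat.card ↥C = 2 ^ n - 1) ∨
       H = ⊤) := by
  classical
  have : Module.Finite (ZMod 2) V := Module.Finite.of_finite
  have : Finite (V ≃ₗ[ZMod 2] V) := Finite.of_injective (fun e => (e : V → V)) DFunLike.coe_injective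
  subst hn
  set n := Module.finrank (ZMod 2) V with hn
  have hn1 : n ≠ 1 := fun h => by rw [h] at hprime; exact absurd hprime (by decide)
  have hn0 : n ≠ 0 := fun h => by rw [h] at hprime; exact absurd hprime (by decide)
  have hnp : n.Prime := (Nat.prime_of_pow_sub_one_prime hn1 hprime).2
  set p := 2 ^ n - 1 with hp
  have hpn : p + 1 = 2 ^ n := Nat.sub_add_cancel Nat.one_le_two_pow
  have := Fact.mk hprime
  set ρ := natRep H
  have hinj := natRep_injective H
  have htrans_of_order : ∀ c : H, orderOf c = p → ∀ v w : V, v ≠ 0 → w ≠ 0 → ∃ h ∈ H, h v = w := by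
    intro c hord v w hv hw
    obtain ⟨g, -, hg⟩ := singer_trans ρ hprime hpn (hord ▸ pow_orderOf_eq_one c)
      (fun h => by
        rw [hinj (h.trans (map_one ρ).symm), orderOf_one] at hord
        exact hprime.one_lt.ne hord) hv hw
    exact ⟨g, g.2, hg⟩
  constructor
  · intro htr
    have htr' : ∀ x y : V, x ≠ 0 → y ≠ 0 → y ∈ orb ρ ⊤ x := fun x y hx hy => by
      obtain ⟨h, hh, he⟩ := htr x y hx hy
      exact ⟨⟨h, hh⟩, trivial, he⟩
    obtain ⟨c, hord, hnor | htwo⟩ := dichotomy ρ hinj hpn htr'
    · rcases normal_card ρ hinj hprime hnp rfl hpn hord hnor with h | h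
      · exact Or.inl ⟨isCyclic_of_prime_card h, h⟩
      · refine Or.inr (Or.inl ⟨h, (Subgroup.zpowers c).map H.subtype,
          Subgroup.map_subtype_le _, ?_, ?_, ?_⟩)
        · rwa [Subgroup.subgroupOf, Subgroup.comap_map_eq_self_of_injective H.subtype_injective]
        · rw [MonoidHom.map_zpowers]
          infer_instance
        · rw [Subgroup.card_map_of_injective H.subtype_injective, Nat.card_zpowers, hord]
    · refine Or.inr (Or.inr (eq_top_iff.mpr fun e _ => ?_))
      obtain ⟨g, hg⟩ := surjective_of_two ρ hinj hprime hpn hnp hord htwo e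
      have : (g : V ≃ₗ[ZMod 2] V) = e := LinearEquiv.ext hg
      exact this ▸ g.2
  · rintro (⟨-, hcard⟩ | ⟨hcard, -⟩ | htop)
    · obtain ⟨c, hc⟩ := exists_prime_orderOf_dvd_card' (G := H) p (by rw [hcard])
      exact htrans_of_order c hc
    · obtain ⟨c, hc⟩ := exists_prime_orderOf_dvd_card' (G := H) p (by rw [hcard]; exact dvd_mul_left p n)
      exact htrans_of_order c hc
    · intro v w hv hw
      by_cases hvw : v = w
      · exact ⟨1, H.one_mem, hvw⟩
      have := finite_dual V
      let D := dualPair ρ
      obtain ⟨φ, hφ1, hφ2⟩ : ∃ φ : Module.Dual (ZMod 2) V, φ v = 1 ∧ φ w = 1 := by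
        have hv' : v ∉ Submodule.span (ZMod 2) {v + w} := fun h => by
          rcases mem_span_single.mp h with h | h
          · exact hv h
          · exact hw (by simpa using h)
        obtain ⟨φ, h1, h2⟩ := D.exists_sep hv'
        refine ⟨φ, h2, ?_⟩
        have h3 := h1 _ (Submodule.mem_span_singleton_self _)
        change φ (v + w) = 0 at h3
        change φ v = 1 at h2
        rw [map_add, h2] at h3
        exact (add_eq_zero_iff'.mp h3).symm
      have hz : φ (v + w) = 0 := by rw [map_add, hφ1, hφ2]; exact add_self_zero _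
      let t : V →ₗ[ZMod 2] V := LinearMap.id + φ.smulRight (v + w)
      have htt : t.comp t = LinearMap.id := LinearMap.ext fun x => by
        show x + φ x • (v + w) + φ (x + φ x • (v + w)) • (v + w) = x
        rw [map_add, map_smul, hz, smul_zero, add_zero, add_assoc, add_self_zero, add_zero]
      refine ⟨LinearEquiv.ofLinear t t htt htt, htop ▸ Subgroup.mem_top _, ?_⟩
      show v + φ v • (v + w) = w
      rw [hφ1, one_smul, ← add_assoc, add_self_zero, zero_add]

end Cfsg.Agent.S4179
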