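import Cfsg.Statements.S0950
import Mathlib.GroupTheory.SpecificGroups.Quaternion
import Mathlib.GroupTheory.Transfer
import Mathlib.GroupTheory.Abelianization.Defs

set_option autoImplicit false
open Cfsg

namespace Cfsg.Agent.S0950

/-- The class of an element of order 4 of the quaternion group of order 8. -/
def rep : Fin 3 → QuaternionGroup 2
  | 0 => QuaternionGroup.a 1
  | 1 => QuaternionGroup.xa 0
  | 2 => QuaternionGroup.xa 1

theorem q8_cover : ∀ x : QuaternionGroup 2, x * x ≠ 1 →
    ∃ i : Fin 3, x = rep i ∨ x = (rep i)⁻¹ := by decide +kernel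

theorem q8_rep : ∀ i j : Fin 3, ∀ k : Fin 4, rep i = rep j ^ (k : ℕ) → i = j := by decide +kernel

theorem q8_rep_sq : ∀ i : Fin 3, rep i * rep i ≠ 1 ∧ rep i ^ 4 = 1 := by decide +kernel

theorem q8_conj : ∀ s x : QuaternionGroup 2, s * x * s⁻¹ = x ∨ s * x * s⁻¹ = x⁻¹ := by
  decide +kernel

theorem q8_inv : ∀ x : QuaternionGroup 2, ∃ s, s * x * s⁻¹ = x⁻¹ := by decide +kernel

theorem q8_invol : ∀ x y : QuaternionGroup 2, x * x = 1 → x ≠ 1 → y * y = 1 → y ≠ 1 → x = y := by
  decide +kernel

theorem q8_pow : ∀ x y : QuaternionGroup 2, ∀ k : Fin 4, x * x ≠ 1 → y * y ≠ 1 →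
    y = x ^ (k : ℕ) → y = x ∨ y = x⁻¹ := by decide +kernel

open scoped commutatorElement in
theorem q8_comm : ∀ x y : QuaternionGroup 2,
    ⁅x, y⁆ = 1 ∨ ⁅x, y⁆ = QuaternionGroup.a 2 := by decide +kernel

variable {G : Type*} [Group G]

section Elements

variable (S : Subgroup G) (e : S ≃* QuaternionGroup 2)

theorem orderOf_four_iff {x : S} : orderOf x = 4 ↔ e x * e x ≠ 1 := by
  rw [← MulEquiv.orderOf_eq e]
  have h4 : e x ^ 4 = 1 := by
    rcases eq_or_ne (e x * e x) 1 with h | h
    · rw [show (4 : ℕ) = 2 * 2 from rfl, pow_mul, pow_two (e x), h, one_pow]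
    · obtain ⟨i, hi | hi⟩ := q8_cover _ h
      · rw [hi]; exact (q8_rep_sq i).2
      · rw [hi, inv_pow, (q8_rep_sq i).2, inv_one]
  constructor
  · intro h h2
    have := orderOf_dvd_of_pow_eq_one ((pow_two (e x)).trans h2)
    rw [h] at this
    norm_num at this
  · intro h
    refine orderOf_eq_prime_pow (p := 2) (n := 1) (fun h2 => h ?_) h4
    rwa [pow_one, pow_two] at h2

include e in
theorem exists_fin_pow {x y : S} (hx : orderOf x = 4) (h : (y : G) ∈ Subgroup.zpowers (x : G)) :
    ∃ k : Fin 4, e y = e x ^ (k : ℕ) := by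
  obtain ⟨k, hk⟩ := Subgroup.mem_zpowers_iff.1 h
  have hy : x ^ k = y := Subtype.ext (by rw [Subgroup.coe_zpow]; exact hk)
  have hlt : (k % 4).toNat < 4 := by omega
  refine ⟨⟨(k % 4).toNat, hlt⟩, ?_⟩
  rw [← map_pow, ← hy]
  congr 1
  rw [← zpow_natCast, ← zpow_mod_orderOf, hx]
  congr 1
  exact (Int.toNat_of_nonneg (Int.emod_nonneg _ (by norm_num))).symm

end Elements

section Finite

variable [Finite G] (S : Sylow 2 G) (e : (S : Subgroup G) ≃* QuaternionGroup 2)

include e in
/-- If the normaliser fixes every cyclic subgroup of order 4, fusion in S is controlled by S. -/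
theorem fusion (H : ∀ x : (S : Subgroup G), orderOf x = 4 →
      ∀ n ∈ Subgroup.normalizer ((S : Subgroup G) : Set G),
        n * (x : G) * n⁻¹ ∈ Subgroup.zpowers (x : G))
    (x y : (S : Subgroup G)) (g : G) (hg : g * (x : G) * g⁻¹ = y) :
    ∃ s : (S : Subgroup G), s * x * s⁻¹ = y := by
  have hord : orderOf x = orderOf y := by
    rw [← Subgroup.orderOf_coe x, ← Subgroup.orderOf_coe y, ← hg, ← MulAut.conj_apply,
      MulEquiv.orderOf_eq]
  have hinvol : ∀ a : (S : Subgroup G), orderOf a ≠ 4 → e a * e a = 1 := fun a ha => by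
    by_contra h; exact ha ((orderOf_four_iff _ e).2 h)
  by_cases hx : orderOf x = 4
  · have hy : orderOf y = 4 := hord ▸ hx
    set K := Subgroup.normalizer ((Subgroup.zpowers (y : G)) : Set G)
    have hnorm : ∀ w : (S : Subgroup G), ∀ s : (S : Subgroup G),
        (s : G) * (w : G) * (s : G)⁻¹ ∈ Subgroup.zpowers (w : G) := by
      intro w s
      rcases q8_conj (e s) (e w) with h | h <;>
        rw [← map_inv e, ← map_mul e, ← map_mul e] at h
      · have h' := congrArg Subtype.val (e.injective h)
        simp only [Subgroup.coe_mul, Subgroup.coe_inv] at h'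
        rw [h']; exact Subgroup.mem_zpowers _
      · rw [← map_inv] at h
        have h' := congrArg Subtype.val (e.injective h)
        simp only [Subgroup.coe_mul, Subgroup.coe_inv] at h'
        rw [h']; exact inv_mem (Subgroup.mem_zpowers _)
    have memN : ∀ w : G, ∀ n : G, n * w * n⁻¹ ∈ Subgroup.zpowers w →
        ∀ z ∈ Subgroup.zpowers w, n * z * n⁻¹ ∈ Subgroup.zpowers w := by
      intro w n hn z hz
      obtain ⟨i, rfl⟩ := Subgroup.mem_zpowers_iff.1 hz
      rw [← conj_zpow]
      exact zpow_mem hn i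
    have hS : (S : Subgroup G) ≤ K := fun s hs => by
      refine Subgroup.mem_normalizer_iff.2 fun z => ⟨memN _ _ (hnorm y ⟨s, hs⟩) z, fun hz => ?_⟩
      have := memN _ _ (hnorm y ⟨s, hs⟩⁻¹) _ hz
      simpa [mul_assoc] using this
    have hS' : ((g • S : Sylow 2 G) : Subgroup G) ≤ K := fun s hs => by
      obtain ⟨t, ht, rfl⟩ := Set.mem_smul_set.1 hs
      change g * t * g⁻¹ ∈ K
      refine Subgroup.mem_normalizer_iff.2 fun z => ?_
      have key : ∀ t : (S : Subgroup G),
          g * t * g⁻¹ * (y : G) * (g * t * g⁻¹)⁻¹ ∈ Subgroup.zpowers (y : G) := fun t => by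
        obtain ⟨i, hi⟩ := Subgroup.mem_zpowers_iff.1 (hnorm x t)
        refine Subgroup.mem_zpowers_iff.2 ⟨i, ?_⟩
        rw [← hg, conj_zpow, hi]; group
      refine ⟨memN _ _ (key ⟨t, ht⟩) z, fun hz => ?_⟩
      have := memN _ _ (key ⟨t, ht⟩⁻¹) _ hz
      simpa [mul_assoc] using this
    obtain ⟨h, hh⟩ := MulAction.exists_smul_eq K ((g • S : Sylow 2 G).subtype hS') (S.subtype hS)
    have hh' : ((h : G) * g) • S = S := by
      rw [mul_smul]
      exact Sylow.subtype_injective ((Sylow.smul_subtype hS' h).symm.trans hh)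
    have hn : (h : G) * g ∈ Subgroup.normalizer ((S : Subgroup G) : Set G) :=
      Sylow.smul_eq_iff_mem_normalizer.1 hh'
    have h1 := H x hx _ hn
    have h2 : (h : G) * g * x * ((h : G) * g)⁻¹ = (h : G) * y * (h : G)⁻¹ := by rw [← hg]; group
    rw [h2] at h1
    have h3 : (y : G) ∈ Subgroup.zpowers (x : G) := by
      have hm : (h : G) * y * (h : G)⁻¹ ∈ Subgroup.zpowers (y : G) :=
        (Subgroup.mem_normalizer_iff.1 h.2 _).1 (Subgroup.mem_zpowers _)
      have hle : Subgroup.zpowers ((h : G) * y * (h : G)⁻¹) = Subgroup.zpowers (x : G) := by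
        refine Subgroup.eq_of_le_of_card_ge (Subgroup.zpowers_le.2 h1) ?_
        rw [Nat.card_zpowers, Nat.card_zpowers, ← MulAut.conj_apply, MulEquiv.orderOf_eq,
          Subgroup.orderOf_coe, Subgroup.orderOf_coe, hord]
      have hle2 : Subgroup.zpowers ((h : G) * y * (h : G)⁻¹) = Subgroup.zpowers (y : G) := by
        refine Subgroup.eq_of_le_of_card_ge (Subgroup.zpowers_le.2 hm) ?_
        rw [Nat.card_zpowers, Nat.card_zpowers, ← MulAut.conj_apply, MulEquiv.orderOf_eq]
      rw [← hle, hle2]
      exact Subgroup.mem_zpowers _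
    obtain ⟨k, hk⟩ := exists_fin_pow _ e hx h3
    rcases q8_pow _ _ k ((orderOf_four_iff _ e).1 hx) ((orderOf_four_iff _ e).1 hy) hk with h | h
    · exact ⟨1, by rw [e.injective h]; group⟩
    · obtain ⟨s, hs⟩ := q8_inv (e x)
      exact ⟨e.symm s, e.injective (by simp [hs, h])⟩
  · refine ⟨1, ?_⟩
    rw [one_mul, inv_one, mul_one]
    rcases eq_or_ne x 1 with rfl | hx1
    · exact Subtype.ext (by simpa using hg)
    · refine e.injective (q8_invol _ _ (hinvol x hx) (fun h => hx1 (e.injective ?_))
        (hinvol y (hord ▸ hx)) (fun h => hx1 ?_))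
      · rw [h, map_one]
      · have : y = 1 := e.injective (by rw [h, map_one])
        subst this
        exact Subtype.ext (by simpa [mul_inv_eq_one] using hg)

include e in
/-- Controlled fusion gives a normal 2-complement. -/
theorem exists_complement (H : ∀ x y : (S : Subgroup G), ∀ g : G,
      g * (x : G) * g⁻¹ = y → ∃ s : (S : Subgroup G), s * x * s⁻¹ = y) :
    ∃ N : Subgroup G, N.Normal ∧ Subgroup.IsComplement' N (S : Subgroup G) := by
  classical
  let φ : (S : Subgroup G) →* Abelianization (S : Subgroup G) := Abelianization.of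
  let τ := φ.transfer
  have hind : ¬ 2 ∣ (S : Subgroup G).index := S.not_dvd_index
  have hτ : ∀ s : (S : Subgroup G), τ (s : G) = φ s ^ (S : Subgroup G).index := by
    intro s
    let := Subgroup.fintypeQuotientOfFiniteIndex (H := (S : Subgroup G))
    rw [MonoidHom.transfer_eq_prod_quotient_orbitRel_zpowers_quot,
      Subgroup.index_eq_sum_minimalPeriod (S : Subgroup G) (s : G), ← Finset.prod_pow_eq_pow_sum]
    refine Finset.prod_congr rfl fun q _ => ?_
    rw [← map_pow]
    obtain ⟨t, ht⟩ := H (s ^ Function.minimalPeriod ((s : G) • ·) q.out)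
      ⟨_, QuotientGroup.out_conj_pow_minimalPeriod_mem (S : Subgroup G) (s : G) q.out⟩
      q.out.out⁻¹ (by simp)
    rw [← ht, map_mul, map_mul, map_inv, mul_inv_cancel_comm]
  have hcomm : ∀ z ∈ commutator (S : Subgroup G), e z = 1 ∨ e z = QuaternionGroup.a 2 := by
    intro z hz
    have h := Subgroup.mem_map_of_mem e.toMonoidHom hz
    rw [map_commutator_eq] at h
    have hle : ⁅(⊤ : Subgroup (QuaternionGroup 2)), (⊤ : Subgroup (QuaternionGroup 2))⁆ ≤
        Subgroup.zpowers (QuaternionGroup.a 2) := by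
      rw [Subgroup.commutator_le]
      intro a _ b _
      rcases q8_comm a b with h | h <;> rw [h]
      · exact one_mem _
      · exact Subgroup.mem_zpowers _
    have h2 := hle (Subgroup.commutator_mono le_top le_top h)
    obtain ⟨i, hi⟩ := Subgroup.mem_zpowers_iff.1 h2
    rcases Int.even_or_odd' i with ⟨j, rfl | rfl⟩
    · left
      change e z = 1
      rw [show e z = (QuaternionGroup.a 2 : QuaternionGroup 2) ^ (2 * j) from hi.symm, zpow_mul,
        show (QuaternionGroup.a 2 : QuaternionGroup 2) ^ (2 : ℤ) = 1 by decide +kernel, one_zpow]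
    · right
      change e z = _
      rw [show e z = (QuaternionGroup.a 2 : QuaternionGroup 2) ^ (2 * j + 1) from hi.symm, zpow_add,
        zpow_mul, show (QuaternionGroup.a 2 : QuaternionGroup 2) ^ (2 : ℤ) = 1 by decide +kernel,
        one_zpow, one_mul, zpow_one]
  set c := e.symm (QuaternionGroup.a 2) with hc
  set K := τ.ker with hK
  have hcc : c * c = 1 := e.injective (by simp [hc]; decide +kernel)
  have hφ : ∀ s : (S : Subgroup G), φ s ^ (S : Subgroup G).index = 1 → s = 1 ∨ s = c := by
    intro s hs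
    obtain ⟨n, hn⟩ := S.2 s
    have h2 : φ s ^ (2 ^ n) = 1 := by rw [← map_pow, hn, map_one]
    have : φ s = 1 := by
      have h := Nat.dvd_gcd (orderOf_dvd_of_pow_eq_one hs) (orderOf_dvd_of_pow_eq_one h2)
      rw [Nat.Coprime.gcd_eq_one (Nat.Coprime.pow_right n
        ((Nat.prime_two.coprime_iff_not_dvd.2 hind).symm))] at h
      exact orderOf_eq_one_iff.1 (Nat.dvd_one.1 h)
    rcases hcomm s ((QuotientGroup.eq_one_iff s).1 this) with h | h
    · exact Or.inl (e.injective (by rw [h, map_one]))
    · exact Or.inr (e.injective (by simp [hc, h]))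
  have hSK : Nat.card ((S : Subgroup G).subgroupOf K) ≤ 2 := by
    let f : (S : Subgroup G).subgroupOf K → ({1, (c : G)} : Finset G) := fun s =>
      ⟨((s : K) : G), by
        have hs := hτ ⟨((s : K) : G), Subgroup.mem_subgroupOf.1 s.2⟩
        rw [MonoidHom.mem_ker.1 (s : K).2] at hs
        rcases hφ _ hs.symm with h | h
        · simpa using Or.inl (congrArg Subtype.val h)
        · simpa using Or.inr (congrArg Subtype.val h)⟩
    refine (Nat.card_le_card_of_injective f fun a b h => ?_).trans ?_
    · exact Subtype.ext (Subtype.ext (congrArg (fun w : ({1, (c : G)} : Finset G) => (w : G)) h))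
    · rw [Nat.card_eq_finsetCard]; exact Finset.card_le_two
  have hcard : Nat.card (S : Subgroup G) = 8 := by
    rw [Nat.card_congr e.toEquiv, Nat.card_eq_fintype_card, QuaternionGroup.card]
  obtain ⟨P⟩ : Nonempty (Sylow 2 K) := inferInstance
  have hP2 : Nat.card P ≤ 2 := by
    obtain ⟨Q, hQ⟩ := Sylow.exists_comap_eq_of_injective P K.subtype_injective
    obtain ⟨g, hg⟩ := MulAction.exists_smul_eq G Q S
    refine le_trans ?_ hSK
    let f : P → (S : Subgroup G).subgroupOf K := fun x =>
      ⟨⟨g * ((x : K) : G) * g⁻¹, (MonoidHom.normal_ker τ).conj_mem _ (x : K).2 g⟩, by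
        rw [Subgroup.mem_subgroupOf]
        have hx : ((x : K) : G) ∈ (Q : Subgroup G) := by
          have h' : (x : K) ∈ (Q : Subgroup G).comap K.subtype := hQ.symm ▸ x.2
          exact h'
        have hx' : g * ((x : K) : G) * g⁻¹ ∈ ((g • Q : Sylow 2 G) : Subgroup G) :=
          Set.mem_smul_set.2 ⟨_, hx, rfl⟩
        have hh : ((g • Q : Sylow 2 G) : Subgroup G) = (S : Subgroup G) := congrArg _ hg
        exact hh.le hx'⟩
    refine Nat.card_le_card_of_injective f fun a b h => Subtype.ext (Subtype.ext ?_)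
    have h' := congrArg (fun w : (S : Subgroup G).subgroupOf K => ((w : K) : G)) h
    simpa [f] using h'
  have hPN : Subgroup.normalizer (P : Set K) ≤ Subgroup.centralizer (P : Set K) := by
    intro n hn
    rw [Subgroup.mem_centralizer_iff]
    intro a ha
    have hb : n * a * n⁻¹ ∈ (P : Subgroup K) := (Subgroup.mem_normalizer_iff.1 hn a).1 ha
    rcases eq_or_ne a 1 with rfl | h1
    · simp
    · have hab : n * a * n⁻¹ = a := by
        by_contra hne
        have h3 : ({1, ⟨a, ha⟩, ⟨_, hb⟩} : Finset P).card = 3 := by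
          rw [Finset.card_insert_of_notMem, Finset.card_pair]
          · exact fun h => hne (congrArg Subtype.val h).symm
          · simp only [Finset.mem_insert, Finset.mem_singleton, not_or]
            exact ⟨fun h => h1 (congrArg Subtype.val h).symm,
              fun h => h1 (by simpa using (congrArg Subtype.val h).symm)⟩
        have := Nat.card_le_card_of_injective (fun w : ({1, ⟨a, ha⟩, ⟨_, hb⟩} : Finset P) => w.1)
          Subtype.val_injective
        rw [Nat.card_eq_finsetCard, h3] at this
        omega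
      rw [mul_inv_eq_iff_eq_mul] at hab
      exact hab.symm
  set M := (MonoidHom.transferSylow P hPN).ker
  have hM2 : ¬ 2 ∣ Nat.card M := MonoidHom.not_dvd_card_ker_transferSylow P hPN
  have hMmem : ∀ x : K, x ∈ M ↔ ¬ 2 ∣ orderOf x := by
    intro x
    constructor
    · intro hx hdvd
      exact hM2 (hdvd.trans (Subgroup.orderOf_dvd_natCard M hx))
    · intro hx
      rw [MonoidHom.mem_ker]
      have h1 := orderOf_map_dvd (MonoidHom.transferSylow P hPN) x
      obtain ⟨n, hn⟩ := IsPGroup.iff_orderOf.1 P.2 (MonoidHom.transferSylow P hPN x)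
      rw [hn] at h1
      cases n with
      | zero => exact orderOf_eq_one_iff.1 (by simpa using hn)
      | succ n => exact absurd ((dvd_pow_self 2 n.succ_ne_zero).trans h1) hx
  refine ⟨M.map K.subtype, ⟨?_⟩, ?_⟩
  · rintro _ ⟨x, hx, rfl⟩ g
    refine ⟨⟨g * (x : G) * g⁻¹, (MonoidHom.normal_ker τ).conj_mem _ x.2 g⟩,
      (hMmem _).2 ?_, rfl⟩
    rw [← Subgroup.orderOf_coe]
    change ¬ 2 ∣ orderOf (g * (x : G) * g⁻¹)
    rw [← MulAut.conj_apply, MulEquiv.orderOf_eq, Subgroup.orderOf_coe]
    exact (hMmem x).1 hx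
  · have hcM : Nat.card (M.map K.subtype) = Nat.card M :=
      Subgroup.card_map_of_injective K.subtype_injective
    refine Subgroup.isComplement'_of_coprime ?_ ?_
    · have h1 := (MonoidHom.ker_transferSylow_isComplement' P hPN).card_mul
      change Nat.card M * Nat.card P = Nat.card K at h1
      have h2 := K.card_mul_index
      have h3 : K.index ∣ 4 := by
        rw [hK, Subgroup.index_ker]
        refine (Subgroup.card_subgroup_dvd_card _).trans ?_
        have h8 := Subgroup.card_eq_card_quotient_mul_card_subgroup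
          (commutator (S : Subgroup G))
        rw [hcard] at h8
        change Nat.card ((S : Subgroup G) ⧸ commutator (S : Subgroup G)) ∣ 4
        have hne : Nat.card (commutator (S : Subgroup G)) ≠ 1 := by
          intro h
          rw [Subgroup.card_eq_one, commutator_def, Subgroup.commutator_eq_bot_iff_le_centralizer] at h
          have h' := h (Subgroup.mem_top (e.symm (QuaternionGroup.a 1)))
          rw [Subgroup.mem_centralizer_iff] at h'
          have h'' := congrArg e (h' (e.symm (QuaternionGroup.xa 0)) trivial)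
          simp only [map_mul, MulEquiv.apply_symm_apply] at h''
          revert h''
          decide +kernel
        have hd8 : Nat.card ((S : Subgroup G) ⧸ commutator (S : Subgroup G)) ∣ 2 ^ 3 :=
          Dvd.intro _ h8.symm
        obtain ⟨i, hi, hi'⟩ := (Nat.dvd_prime_pow Nat.prime_two).1 hd8
        rw [hi'] at h8 ⊢
        interval_cases i
        · norm_num
        · norm_num
        · norm_num
        · exfalso; omega
      have hG := (S : Subgroup G).card_mul_index
      rw [hcard] at hG ⊢
      rw [hcM]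
      obtain ⟨i, hi, hi'⟩ := (Nat.dvd_prime_pow Nat.prime_two).1 (show K.index ∣ 2 ^ 2 from h3)
      have hP' : Nat.card P = 1 ∨ Nat.card P = 2 := by
        have := Nat.card_pos (α := P); omega
      obtain ⟨a, ha⟩ := Nat.not_even_iff_odd.1 (fun h => hM2 h.two_dvd)
      obtain ⟨b, hb⟩ := Nat.not_even_iff_odd.1 (fun h => hind h.two_dvd)
      rw [ha] at h1 ⊢
      rw [hb] at hG
      rw [← h1, hi'] at h2
      rw [← h2]
      interval_cases i <;> rcases hP' with hP' | hP' <;> rw [hP'] at h2 ⊢ <;> omega
    · rw [hcM, hcard, show (8 : ℕ) = 2 ^ 3 from rfl]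
      exact Nat.Coprime.pow_right 3 ((Nat.prime_two.coprime_iff_not_dvd.2 hM2).symm)

end Finite

/-- Let S be a Sylow 2-subgroup of the finite group G that is isomorphic to the quaternion group of order 8, and suppose S has no normal complement in G. Then any two subgroups of order 4 of S are conjugate by an element of the normalizer of S. -/
theorem result {G : Type*} [Group G] [Finite G] (S : Sylow 2 G) (e : (S : Subgroup G) ≃* QuaternionGroup 2) (hnc : ∀ N : Subgroup G, N.Normal → ¬ Subgroup.IsComplement' N (S : Subgroup G)) (A B : Subgroup G) (hA : A ≤ S) (hB : B ≤ S) (hA4 : Nat.card A = 4) (hB4 : Nat.card B = 4) : ∃ n ∈ Subgroup.normalizer ((S : Subgroup G) : Set G), B = A.map (MulAut.conj n).toMonoidHom := by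
  classical
  set N := Subgroup.normalizer ((S : Subgroup G) : Set G) with hN
  by_contra hcon
  suffices H : ∀ x : (S : Subgroup G), orderOf x = 4 → ∀ n ∈ N,
      n * (x : G) * n⁻¹ ∈ Subgroup.zpowers (x : G) by
    obtain ⟨M, hMn, hM⟩ := exists_complement S e (fusion S e H)
    exact hnc M hMn hM
  intro x hx n hn
  by_contra hnx
  apply hcon
  let T := {A : Subgroup G // A ≤ (S : Subgroup G) ∧ Nat.card A = 4}
  let c : Fin 3 → T := fun i => ⟨Subgroup.zpowers ((e.symm (rep i) : (S : Subgroup G)) : G),
    Subgroup.zpowers_le.2 (e.symm (rep i)).2, by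
      rw [Nat.card_zpowers, Subgroup.orderOf_coe, orderOf_four_iff _ e]
      simpa using (q8_rep_sq i).1⟩
  have hc : Function.Bijective c := by
    constructor
    · intro i j h
      have h4 : orderOf (e.symm (rep j)) = 4 := by
        rw [orderOf_four_iff _ e]; simpa using (q8_rep_sq j).1
      obtain ⟨k, hk⟩ := exists_fin_pow _ e h4 (y := e.symm (rep i))
        (by
          change _ ∈ (c j).1
          rw [← h]
          exact Subgroup.mem_zpowers _)
      rw [MulEquiv.apply_symm_apply, MulEquiv.apply_symm_apply] at hk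
      exact q8_rep i j k hk
    · rintro ⟨A', hA', hA'4⟩
      obtain ⟨a, haA, ha⟩ : ∃ a : (S : Subgroup G), (a : G) ∈ A' ∧ e a * e a ≠ 1 := by
        by_contra hall
        push Not at hall
        have key : ∀ a : A', (a : G) = 1 ∨
            (a : G) = ((e.symm (QuaternionGroup.a 2) : (S : Subgroup G)) : G) := by
          intro a
          have h := hall ⟨a, hA' a.2⟩ a.2
          rcases eq_or_ne (e ⟨a, hA' a.2⟩) 1 with h1 | h1
          · left; exact congrArg Subtype.val (e.injective (h1.trans (map_one e).symm))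
          · right
            have h2 := q8_invol _ (QuaternionGroup.a 2) h h1 (by decide +kernel) (by decide +kernel)
            rw [← e.eq_symm_apply] at h2
            exact congrArg Subtype.val h2
        let f : A' → ({1, ((e.symm (QuaternionGroup.a 2) : (S : Subgroup G)) : G)} : Finset G) :=
          fun a => ⟨(a : G), by simpa using key a⟩
        have h2 := Nat.card_le_card_of_injective f fun a b h => Subtype.ext (by simpa [f] using h)
        rw [hA'4, Nat.card_eq_finsetCard] at h2
        have := h2.trans Finset.card_le_two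
        omega
      obtain ⟨i, hi⟩ := q8_cover _ ha
      refine ⟨i, Subtype.ext (Subgroup.eq_of_le_of_card_ge (Subgroup.zpowers_le.2 ?_) ?_)⟩
      · rcases hi with h | h
        · rw [← h, MulEquiv.symm_apply_apply]; exact haA
        · rw [← inv_inv (rep i), ← h, map_inv, MulEquiv.symm_apply_apply, Subgroup.coe_inv]
          exact inv_mem haA
      · exact le_of_eq (hA'4.trans (c i).2.2.symm)
  let act : MulAction N T :=
    { smul := fun m A => ⟨A.1.map (MulAut.conj (m : G)).toMonoidHom, by
        rintro _ ⟨a, ha, rfl⟩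
        exact (Subgroup.mem_normalizer_iff.1 m.2 a).1 (A.2.1 ha),
        (Subgroup.card_map_of_injective (MulEquiv.injective _)).trans A.2.2⟩
      mul_smul := fun a b A => Subtype.ext (by
        change A.1.map (MulAut.conj ((a : G) * b)).toMonoidHom = _
        simp only [HSMul.hSMul, Subgroup.map_map]
        congr 1
        ext z
        simp [mul_assoc])
      one_smul := fun A => Subtype.ext (by
        change A.1.map (MulAut.conj (1 : G)).toMonoidHom = _
        ext z
        simp) }
  let φ : N →* Equiv.Perm T := MulAction.toPermHom N T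
  let T3 : T ≃ Fin 3 := (Equiv.ofBijective c hc).symm
  have hnn : φ ⟨n, hn⟩ ≠ 1 := fun h => hnx (by
    have h4 : Nat.card (Subgroup.zpowers (x : G)) = 4 := by
      rw [Nat.card_zpowers, Subgroup.orderOf_coe, hx]
    have h1 := congrArg (fun σ : Equiv.Perm T =>
      (σ ⟨Subgroup.zpowers (x : G), Subgroup.zpowers_le.2 x.2, h4⟩).1) h
    change (Subgroup.zpowers (x : G)).map (MulAut.conj n).toMonoidHom = _ at h1
    exact h1.le ⟨(x : G), Subgroup.mem_zpowers _, rfl⟩)
  have hSker : ((S : Subgroup G).subgroupOf N) ≤ φ.ker := by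
    intro s hs
    rw [MonoidHom.mem_ker]
    refine Equiv.ext fun A => ?_
    obtain ⟨i, rfl⟩ := hc.2 A
    refine Subtype.ext ?_
    change (Subgroup.zpowers ((e.symm (rep i) : (S : Subgroup G)) : G)).map
      (MulAut.conj (s : G)).toMonoidHom = _
    rw [MonoidHom.map_zpowers]
    change Subgroup.zpowers ((s : G) * _ * (s : G)⁻¹) = _
    rcases q8_conj (e ⟨s, hs⟩) (rep i) with h | h
    · have h' : (⟨s, hs⟩ : (S : Subgroup G)) * e.symm (rep i) * (⟨s, hs⟩ : (S : Subgroup G))⁻¹ =
          e.symm (rep i) := e.injective (by simpa using h)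
      have h'' := congrArg Subtype.val h'
      simp only [Subgroup.coe_mul, Subgroup.coe_inv] at h''
      rw [h'']; rfl
    · have h' : (⟨s, hs⟩ : (S : Subgroup G)) * e.symm (rep i) * (⟨s, hs⟩ : (S : Subgroup G))⁻¹ =
          (e.symm (rep i))⁻¹ := e.injective (by simpa using h)
      have h'' := congrArg Subtype.val h'
      simp only [Subgroup.coe_mul, Subgroup.coe_inv] at h''
      rw [h'', Subgroup.zpowers_inv]; rfl
  have hodd : ¬ 2 ∣ φ.ker.index := fun h =>
    (S.subtype (Subgroup.le_normalizer : (S : Subgroup G) ≤ N)).not_dvd_index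
      (h.trans (Subgroup.index_dvd_of_le hSker))
  have h6 : φ.ker.index ∣ 6 := by
    rw [Subgroup.index_ker]
    refine (Subgroup.card_subgroup_dvd_card φ.range).trans ?_
    rw [Nat.card_congr T3.permCongr, Nat.card_eq_fintype_card, Fintype.card_perm, Fintype.card_fin]
    rfl
  have h3 : φ.ker.index ∣ 3 :=
    (Nat.Coprime.dvd_of_dvd_mul_left (k := φ.ker.index) (m := 2)
      ((Nat.prime_two.coprime_iff_not_dvd.2 hodd).symm) h6)
  have hcube : φ ⟨n, hn⟩ ^ 3 = 1 := by
    obtain ⟨j, hj⟩ := h3
    rw [← map_pow, ← MonoidHom.mem_ker, hj, pow_mul]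
    exact pow_mem (Subgroup.pow_index_mem φ.ker _) j
  have hfin : ∀ σ : Equiv.Perm (Fin 3), σ ^ 3 = 1 → σ ≠ 1 → ∀ i j : Fin 3,
      σ i = j ∨ σ (σ i) = j ∨ i = j := by decide +kernel
  rcases hfin (T3.permCongrHom (φ ⟨n, hn⟩)) (by rw [← map_pow, hcube, map_one])
    (fun h => hnn (T3.permCongrHom.injective (h.trans (map_one _).symm)))
    (T3 ⟨A, hA, hA4⟩) (T3 ⟨B, hB, hB4⟩) with h | h | h
  · simp [Equiv.permCongrHom, Equiv.permCongr_apply] at h
    exact ⟨n, hn, (congrArg Subtype.val h).symm⟩
  · simp [Equiv.permCongrHom, Equiv.permCongr_apply] at h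
    refine ⟨n * n, mul_mem hn hn, ?_⟩
    have h' := (congrArg Subtype.val h).symm
    refine h'.trans ?_
    change (A.map (MulAut.conj n).toMonoidHom).map (MulAut.conj n).toMonoidHom = _
    rw [Subgroup.map_map]
    congr 1
    ext z
    simp [mul_assoc]
  · refine ⟨1, one_mem _, ?_⟩
    have h' := congrArg Subtype.val (T3.injective h)
    change A = B at h'
    subst h'
    ext z
    simp

end Cfsg.Agent.S0950
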