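import Cfsg.Statements.S0952
import Cfsg.Agent.Lib.Blocks.Orthogonality

set_option autoImplicit false
open scoped ComplexConjugate
open Cfsg
open Cfsg.Agent.Lib.Blocks Cfsg.Agent.Lib.Characters.Basic

namespace Cfsg.Agent.S0952

/-- Let χ and ψ be irreducible characters of the finite group G lying in different blocks relative to a maximal ideal M of the algebraic integers containing the prime p. Then the sum of χ x * conj (ψ x) over the elements x of order prime to p is zero. -/
theorem result {G : Type*} [Group G] [Finite G] (p : ℕ) [Fact p.Prime] (M : Ideal Cfsg.AlgInt) (hM : Cfsg.IsPModular p M) (χ ψ : Cfsg.IrrCharacter G) (h : ¬ Cfsg.SameBlock M (χ : G → ℂ) (ψ : G → ℂ)) : ∑ᶠ x ∈ {x : G | ¬ p ∣ orderOf x}, (χ : G → ℂ) x * conj ((ψ : G → ℂ) x) = 0 := by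
  classical
  haveI := hM.2.1
  haveI := Fintype.ofFinite G
  haveI := Fintype.ofFinite (Cfsg.IrrCharacter G)
  set B : Set (Cfsg.IrrCharacter G) := Cfsg.blockOf M (χ : G → ℂ)
  set SB : Finset (Cfsg.IrrCharacter G) := Finset.univ.filter (fun θ => θ ∈ B)
  set R : Finset G := Finset.univ.filter (fun x : G => ¬ p ∣ orderOf x)
  have hN : (Nat.card G : ℂ) ≠ 0 := Nat.cast_ne_zero.2 Nat.card_pos.ne'
  have horth : ∀ x y : G, ¬ p ∣ orderOf x → p ∣ orderOf y →
      ∑ θ ∈ SB, (θ : G → ℂ) x * conj ((θ : G → ℂ) y) = 0 := by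
    intro x y hx hy
    rw [← weak_orthogonality hM (isPBlock_blockOf χ) hx hy]
    refine (finsum_mem_eq_sum_of_subset _ ?_ ?_).symm
    · exact fun θ hθ => Finset.mem_coe.2 (Finset.mem_filter.2 ⟨Finset.mem_univ _, hθ.1⟩)
    · exact fun θ hθ => (Finset.mem_filter.1 (Finset.mem_coe.1 hθ)).2
  have hinner : ∀ (θ η : Cfsg.IrrCharacter G),
      ∑ g : G, (θ : G → ℂ) g * conj ((η : G → ℂ) g) = if θ = η then (Nat.card G : ℂ) else 0 := by
    intro θ η
    have h0 := classInner_irr θ η
    rw [Cfsg.classInner] at h0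
    apply mul_left_cancel₀ (inv_ne_zero hN)
    rw [h0]
    split_ifs <;> simp [hN]
  set T := ∑ x ∈ R, ∑ y ∈ R,
    (χ : G → ℂ) x * conj ((ψ : G → ℂ) y) *
      ∑ θ ∈ SB, conj ((θ : G → ℂ) x) * (θ : G → ℂ) y with hT
  -- the inner sum over y may be extended to the whole group
  have h1 : T = 0 := by
    refine Finset.sum_eq_zero fun x hx => ?_
    have hx' := (Finset.mem_filter.1 hx).2
    rw [Finset.sum_subset (Finset.subset_univ _) (fun y _ hy => ?_)]
    · simp only [Finset.mul_sum]
      rw [Finset.sum_comm]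
      refine Finset.sum_eq_zero fun θ hθ => ?_
      have hne : θ ≠ ψ := fun e => h (e ▸ (Finset.mem_filter.1 hθ).2)
      calc ∑ y : G, (χ : G → ℂ) x * conj ((ψ : G → ℂ) y) * (conj ((θ : G → ℂ) x) * (θ : G → ℂ) y)
          = (χ : G → ℂ) x * conj ((θ : G → ℂ) x) *
              ∑ y : G, (θ : G → ℂ) y * conj ((ψ : G → ℂ) y) := by
            rw [Finset.mul_sum]
            exact Finset.sum_congr rfl fun y _ => by ring
        _ = 0 := by rw [hinner, if_neg hne, mul_zero]
    · have hy' : p ∣ orderOf y := not_not.1 fun h' => hy (Finset.mem_filter.2 ⟨Finset.mem_univ _, h'⟩)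
      have h0 := congrArg conj (horth x y hx' hy')
      simp only [map_sum, map_mul, Complex.conj_conj, map_zero] at h0
      rw [h0, mul_zero]
  -- and so may the sum over x
  have h2 : T = (Nat.card G : ℂ) * ∑ y ∈ R, (χ : G → ℂ) y * conj ((ψ : G → ℂ) y) := by
    rw [hT, Finset.sum_comm, Finset.mul_sum]
    refine Finset.sum_congr rfl fun y hy => ?_
    have hy' := (Finset.mem_filter.1 hy).2
    rw [Finset.sum_subset (Finset.subset_univ _) (fun x _ hx => ?_)]
    · simp only [Finset.mul_sum]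
      rw [Finset.sum_comm, Finset.sum_eq_single χ]
      · calc ∑ x : G, (χ : G → ℂ) x * conj ((ψ : G → ℂ) y) * (conj ((χ : G → ℂ) x) * (χ : G → ℂ) y)
            = (χ : G → ℂ) y * conj ((ψ : G → ℂ) y) *
                ∑ x : G, (χ : G → ℂ) x * conj ((χ : G → ℂ) x) := by
              rw [Finset.mul_sum]
              exact Finset.sum_congr rfl fun x _ => by ring
          _ = _ := by rw [hinner, if_pos rfl]; ring
      · intro θ _ hθ
        calc ∑ x : G, (χ : G → ℂ) x * conj ((ψ : G → ℂ) y) * (conj ((θ : G → ℂ) x) * (θ : G → ℂ) y)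
            = (θ : G → ℂ) y * conj ((ψ : G → ℂ) y) *
                ∑ x : G, (χ : G → ℂ) x * conj ((θ : G → ℂ) x) := by
              rw [Finset.mul_sum]
              exact Finset.sum_congr rfl fun x _ => by ring
          _ = 0 := by rw [hinner, if_neg (Ne.symm hθ), mul_zero]
      · exact fun hχ => absurd (Finset.mem_filter.2 ⟨Finset.mem_univ _, mem_blockOf_self χ⟩) hχ
    · have hx' : p ∣ orderOf x := not_not.1 fun h' => hx (Finset.mem_filter.2 ⟨Finset.mem_univ _, h'⟩)
      have h0 : ∑ θ ∈ SB, conj ((θ : G → ℂ) x) * (θ : G → ℂ) y = 0 := by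
        rw [← horth y x hy' hx']
        exact Finset.sum_congr rfl fun θ _ => mul_comm _ _
      rw [h0, mul_zero]
  rw [finsum_mem_eq_sum_of_subset (t := R)]
  · exact (mul_eq_zero.1 (h2.symm.trans h1)).resolve_left hN
  · exact fun x hx => Finset.mem_coe.2 (Finset.mem_filter.2 ⟨Finset.mem_univ _, hx.1⟩)
  · exact fun x hx => (Finset.mem_filter.1 (Finset.mem_coe.1 hx)).2

end Cfsg.Agent.S0952
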