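import Cfsg.Statements.S3103
import Mathlib
import Cfsg.Agent.Lib.PSolvable.HallHigman
import Cfsg.Agent.Lib.Cores.Basic
import Cfsg.Agent.Lib.Coprime.Commutator
import Cfsg.Agent.Lib.PGroups.Frattini
import Cfsg.Agent.Lib.Inv59.GL4A8

set_option autoImplicit false
open Cfsg

namespace Cfsg.Agent.S3103

open Subgroup

/-- automorphisms of an elementary abelian 2-group of order at most 16 embed in `GL₄(2)` -/
theorem aux_gl {V : Type*} [Group V] [Finite V] (hc : ∀ a b : V, a * b = b * a)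
    (h2 : ∀ a : V, a ^ 2 = 1) (h16 : Nat.card V ≤ 16) :
    ∃ f : MulAut V →* GL (Fin 4) (ZMod 2), Function.Injective f := by
  classical
  letI : CommGroup V := { (inferInstance : Group V) with mul_comm := hc }
  letI : Module (ZMod 2) (Additive V) :=
    AddCommGroup.zmodModule (n := 2) fun x => Additive.toMul.injective (by
      simpa using h2 (Additive.toMul x))
  have hd : Module.finrank (ZMod 2) (Additive V) ≤ 4 := by
    have h := Module.natCard_eq_pow_finrank (K := ZMod 2) (V := Additive V)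
    rw [Nat.card_zmod, show Nat.card (Additive V) = Nat.card V from rfl] at h
    rw [h] at h16
    exact (Nat.pow_le_pow_iff_right (by norm_num)).1 (h16.trans_eq (by norm_num : 16 = 2 ^ 4))
  set d := Module.finrank (ZMod 2) (Additive V) with hddef
  have hW : Module.finrank (ZMod 2) (Additive V × (Fin (4 - d) → ZMod 2)) = 4 := by
    rw [Module.finrank_prod, Module.finrank_fin_fun, ← hddef]; omega
  let b := Module.finBasisOfFinrankEq (ZMod 2) _ hW
  let F : MulAut V →* Module.End (ZMod 2) (Additive V × (Fin (4 - d) → ZMod 2)) :=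
    { toFun := fun φ => LinearMap.prodMap
        ((MonoidHom.toAdditive φ.toMonoidHom).toZModLinearMap 2) LinearMap.id
      map_one' := by
        apply LinearMap.ext; rintro ⟨x, y⟩; rfl
      map_mul' := fun φ ψ => by
        apply LinearMap.ext; rintro ⟨x, y⟩; rfl }
  refine ⟨((LinearMap.toMatrixAlgEquiv b).toMonoidHom.comp F).toHomUnits, ?_⟩
  intro φ ψ h
  have h1 : F φ = F ψ := (LinearMap.toMatrixAlgEquiv b).injective (congrArg Units.val h)
  ext x
  have h3 := LinearMap.congr_fun h1 (Additive.ofMul x, 0)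
  exact congrArg (fun z : Additive V × (Fin (4 - d) → ZMod 2) => Additive.toMul z.1) h3

/-- in a 2-constrained group without odd core, `O₂` contains its centraliser -/
theorem aux_centralizer {X : Type*} [Group X] [Finite X] (hc : Cfsg.IsPConstrained 2 X)
    (hO : Cfsg.oddCore X = ⊥) :
    Subgroup.centralizer (Cfsg.pCore 2 X : Set X) ≤ Cfsg.pCore 2 X := by
  intro x hx
  have h := Cfsg.Agent.Lib.PSolvable.isPConstrained_iff.1 hc
  let e : X ≃* X ⧸ Cfsg.pPrimeCore 2 X :=
    MulEquiv.ofBijective (QuotientGroup.mk' (Cfsg.pPrimeCore 2 X))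
      ⟨by rw [← MonoidHom.ker_eq_bot_iff, QuotientGroup.ker_mk']; exact hO,
        QuotientGroup.mk'_surjective _⟩
  have h1 := Cfsg.Agent.Lib.Cores.map_pCore_equiv (p := 2) e
  have h2 : e x ∈ Subgroup.centralizer
      ((Cfsg.pCore 2 (X ⧸ Cfsg.pPrimeCore 2 X) : Subgroup _) : Set _) := by
    rw [Subgroup.mem_centralizer_iff]
    intro y hy
    rw [← h1] at hy
    obtain ⟨z, hz, rfl⟩ := hy
    show e z * e x = e x * e z
    rw [← map_mul, ← map_mul, Subgroup.mem_centralizer_iff.1 hx z hz]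
  have h4 := h h2
  rw [← h1] at h4
  obtain ⟨z, hz, hzx⟩ := h4
  exact e.injective hzx ▸ hz

/-- the kernel of the action on the Frattini quotient of `O₂` is `O₂` -/
theorem aux_main {X : Type*} [Group X] [Finite X] (hc : Cfsg.IsPConstrained 2 X)
    (hO : Cfsg.oddCore X = ⊥) (h4 : Cfsg.SectionalPRankLE 2 4 ↥(Cfsg.pCore 2 X)) :
    ∃ f : X ⧸ Cfsg.pCore 2 X →* GL (Fin 4) (ZMod 2), Function.Injective f := by
  classical
  haveI : Fact (Nat.Prime 2) := ⟨Nat.prime_two⟩
  set Q := Cfsg.pCore 2 X with hQ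
  have hQ2 : IsPGroup 2 Q := Cfsg.Agent.Lib.Cores.pCore_isPGroup 2
  haveI : (frattini ↥Q).Characteristic := inferInstance
  have hel := Cfsg.Agent.Lib.PGroups.frattiniQuotient_elemAb (p := 2) hQ2
  have hcomm : ∀ a b : ↥Q ⧸ frattini ↥Q, a * b = b * a := fun a b =>
    Cfsg.Agent.Lib.PGroups.elemAb_comm hel (Subgroup.mem_top a) (Subgroup.mem_top b)
  have hsq : ∀ a : ↥Q ⧸ frattini ↥Q, a ^ 2 = 1 := fun a =>
    Cfsg.Agent.Lib.PGroups.elemAb_pow hel (Subgroup.mem_top a)
  have h16 : Nat.card (↥Q ⧸ frattini ↥Q) ≤ 16 := by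
    let e : (↥Q ⧸ frattini ↥Q) ≃* (↥(⊤ : Subgroup ↥Q) ⧸ (frattini ↥Q).subgroupOf ⊤) :=
      QuotientGroup.congr _ _ Subgroup.topEquiv.symm (by
        ext y
        constructor
        · rintro ⟨z, hz, rfl⟩
          exact hz
        · intro hy
          exact ⟨y.1, hy, rfl⟩)
    have h := h4 ⊤ ((frattini ↥Q).subgroupOf ⊤) ⊤ ⟨⟨fun a b => ?_⟩⟩ ?_
    · rw [Subgroup.card_top] at h
      rw [Nat.card_congr e.toEquiv]
      exact h.trans_eq (by norm_num)
    · apply Subtype.ext
      apply e.symm.injective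
      simp only [Subgroup.coe_mul, map_mul]
      exact hcomm _ _
    · rintro a -
      apply e.symm.injective
      rw [map_pow, map_one]
      exact hsq _
  let toV : MulAut ↥Q →* MulAut (↥Q ⧸ frattini ↥Q) :=
    { toFun := fun e => QuotientGroup.congr _ _ e (Subgroup.characteristic_iff_map_eq.1 inferInstance e)
      map_one' := by
        ext a
        obtain ⟨a, rfl⟩ := QuotientGroup.mk_surjective a
        rfl
      map_mul' := fun e e' => by
        ext a
        obtain ⟨a, rfl⟩ := QuotientGroup.mk_surjective a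
        rfl }
  let act : X →* MulAut (↥Q ⧸ frattini ↥Q) := toV.comp MulAut.conjNormal
  have hQK : Q ≤ act.ker := by
    intro q hq
    rw [MonoidHom.mem_ker]
    ext a
    obtain ⟨a, rfl⟩ := QuotientGroup.mk_surjective a
    show ((MulAut.conjNormal q a : ↥Q) : ↥Q ⧸ frattini ↥Q) = (a : ↥Q ⧸ frattini ↥Q)
    have e1 : MulAut.conjNormal q a = (⟨q, hq⟩ : ↥Q) * a * (⟨q, hq⟩ : ↥Q)⁻¹ := Subtype.ext (by simp)
    rw [e1, QuotientGroup.mk_mul, QuotientGroup.mk_mul, QuotientGroup.mk_inv,
      hcomm (QuotientGroup.mk (⟨q, hq⟩ : ↥Q)), mul_inv_cancel_right]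
  have hKQ : act.ker ≤ Q := by
    refine Cfsg.Agent.Lib.Cores.le_pCore
      (IsPGroup.of_card (n := (Nat.card act.ker).primeFactorsList.length) ?_)
    refine Nat.eq_prime_pow_of_unique_prime_dvd Nat.card_pos.ne' ?_
    intro q hq hqd
    by_contra hq2
    haveI : Fact q.Prime := ⟨hq⟩
    obtain ⟨y, hy⟩ := exists_prime_orderOf_dvd_card' q hqd
    have hyo : orderOf (y : X) = q := (Subgroup.orderOf_coe y).trans hy
    have hcop : (Nat.card (Subgroup.zpowers (y : X))).Coprime (Nat.card (frattini ↥Q)) := by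
      rw [Nat.card_zpowers, hyo]
      obtain ⟨m, hm⟩ := IsPGroup.iff_card.1 (hQ2.to_subgroup (frattini ↥Q))
      rw [hm]
      exact ((Nat.coprime_primes hq Nat.prime_two).2 hq2).pow_right m
    have hle : Subgroup.zpowers (y : X) ≤ Subgroup.centralizer (Q : Set X) := by
      refine Cfsg.Agent.Lib.Coprime.le_centralizer_of_frattini ?_ hcop ?_
      · rw [Subgroup.normalizer_eq_top]; exact le_top
      · intro a ha k hk
        have hak : a ∈ act.ker := (Subgroup.zpowers_le.2 y.2) ha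
        rw [MonoidHom.mem_ker] at hak
        have h := congrArg (fun e : MulAut _ => e (QuotientGroup.mk (⟨k, hk⟩ : ↥Q))) hak
        change (QuotientGroup.mk (MulAut.conjNormal a (⟨k, hk⟩ : ↥Q))) = _ at h
        simp only [MulAut.one_apply] at h
        rw [QuotientGroup.eq_iff_div_mem] at h
        exact ⟨_, h, by simp [div_eq_mul_inv]⟩
    have hyQ : (y : X) ∈ Q := aux_centralizer hc hO (hle (Subgroup.mem_zpowers _))
    obtain ⟨m, hm⟩ := IsPGroup.iff_orderOf.1 hQ2 ⟨y, hyQ⟩
    rw [← Subgroup.orderOf_coe, Subgroup.coe_mk, hyo] at hm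
    exact hq2 ((Nat.prime_dvd_prime_iff_eq hq Nat.prime_two).1 (hq.dvd_of_dvd_pow hm.dvd))
  obtain ⟨g, hg⟩ := aux_gl hcomm hsq h16
  refine ⟨QuotientGroup.lift Q (g.comp act) (hQK.trans ?_), ?_⟩
  · exact fun x hx => by simp [MonoidHom.mem_ker.1 hx]
  · rw [← MonoidHom.ker_eq_bot_iff, eq_bot_iff]
    intro x hx
    obtain ⟨x, rfl⟩ := QuotientGroup.mk_surjective x
    rw [MonoidHom.mem_ker, QuotientGroup.lift_mk, MonoidHom.comp_apply] at hx
    rw [Subgroup.mem_bot, QuotientGroup.eq_one_iff]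
    exact hKQ (hg (hx.trans (map_one g).symm))

/-- Let X be a finite 2-constrained group with no nontrivial normal subgroup of odd order such that O₂(X) has sectional 2-rank at most 4. Then X/O₂(X) is isomorphic to a subgroup of the alternating group of degree 8. -/
theorem result {X : Type*} [Group X] [Finite X] (hc : Cfsg.IsPConstrained 2 X) (hO : Cfsg.oddCore X = ⊥)
    (h4 : Cfsg.SectionalPRankLE 2 4 ↥(Cfsg.pCore 2 X)) :
    ∃ f : X ⧸ Cfsg.pCore 2 X →* ↥(alternatingGroup (Fin 8)), Function.Injective f := by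
  obtain ⟨f, hf⟩ := aux_main hc hO h4
  obtain ⟨g, hg⟩ := Cfsg.Agent.Lib.Inv59.GL4A8.exists_injective
  exact ⟨g.comp f, hg.comp hf⟩

end Cfsg.Agent.S3103
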