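import Cfsg.Statements.S1534
import Cfsg.Agent.Lib.Isometry.NormalizerBridge

set_option autoImplicit false
open Cfsg

namespace Cfsg.Agent.S1534

/-- Let G be a finite group and K a nontrivial nilpotent subgroup whose underlying set is a TI-subset of G, properly contained in its set normaliser N, with C_G(k) ≤ K for every non-identity k ∈ K; let e be the index of K in N and S the set of irreducible characters χ of N with χ k ≠ χ 1 for some k ∈ K. Then one of: S has exactly one member, Nat.card K = e + 1 and K is an elementary abelian p-group for some prime p; or K is a Sylow 2-subgroup of G (Nat.card K is the largest power of 2 dividing Nat.card G) and [K : [K,K]] < 4e²; or (S, N minus 1, induction to G) is coherent. -/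
theorem result {G : Type*} [Group G] [Fintype G] (K : Subgroup G) (hK1 : K ≠ ⊥) (hnil : Group.IsNilpotent K) (hTI : Cfsg.IsTISubset (K : Set G)) (hlt : K < Subgroup.normalizer (K : Set G)) (hC : ∀ k ∈ K, k ≠ 1 → Subgroup.centralizer ({k} : Set G) ≤ K) [Fintype ↥(Subgroup.normalizer (K : Set G))] : (Nat.card {χ : ↥(Subgroup.normalizer (K : Set G)) → ℂ // Cfsg.IsIrrCharacter ↥(Subgroup.normalizer (K : Set G)) χ ∧ ∃ k : ↥(Subgroup.normalizer (K : Set G)), (k : G) ∈ K ∧ χ k ≠ χ 1} = 1 ∧ Nat.card K = (K.subgroupOf (Subgroup.normalizer (K : Set G))).index + 1 ∧ ∃ p : ℕ, p.Prime ∧ Cfsg.IsElementaryAbelian p K) ∨ (Nat.card K = 2 ^ (Nat.card G).factorization 2 ∧ (⁅K, K⁆.subgroupOf K).index < 4 * (K.subgroupOf (Subgroup.normalizer (K : Set G))).index ^ 2) ∨ Cfsg.IsCoherent {χ : ↥(Subgroup.normalizer (K : Set G)) → ℂ | Cfsg.IsIrrCharacter ↥(Subgroup.normalizer (K : Set G)) χ ∧ ∃ k : ↥(Subgroup.normalizer (K : Set G)), (k : G) ∈ K ∧ χ k ≠ χ 1} {1}ᶜ (fun α => Cfsg.indFun (Subgroup.normalizer (K : Set G)) α) := by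
  classical
  have : (K.subgroupOf (Subgroup.normalizer (K : Set G))).Normal := Subgroup.normal_in_normalizer
  have hC' := Lib.Isometry.NormalizerBridge.centralizer_le K hC
  have h1 := Lib.Isometry.NormalizerBridge.ne_bot K hK1
  have htop := Lib.Isometry.NormalizerBridge.ne_top K hlt
  rw [Lib.Isometry.NormalizerBridge.setOf_eq_layer K]
  rcases Lib.Isometry.TINilpotent.dichotomy Subgroup.le_normalizer
      (fun g hg t ht h => hTI g hg t ht h) hC' h1 htop with
    ⟨ha, hb, q, hq, hel⟩ | ⟨⟨m, hm⟩, -, hX⟩ | hcoh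
  · left
    rw [Lib.Isometry.NormalizerBridge.card_eq] at hb
    refine ⟨?_, hb, q, hq, Lib.Isometry.NormalizerBridge.isElementaryAbelian K hel⟩
    rw [← ha, ← Nat.card_eq_finsetCard]
    exact Nat.card_congr (Equiv.subtypeEquivRight fun χ => by
      rw [← Finset.mem_coe, ← Lib.Isometry.NormalizerBridge.setOf_eq_layer K]; rfl)
  · right; left
    have := Fact.mk Nat.prime_two
    set L := Subgroup.normalizer (K : Set G) with hL
    set e := (K.subgroupOf L).index with he
    have hcop : Nat.Coprime e (Nat.card (K.subgroupOf L)) := Lib.Isometry.Layers.coprime_index hC'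
    rw [Lib.Isometry.NormalizerBridge.card_eq] at hm hcop
    have hm0 : m ≠ 0 := fun h => hK1 (Subgroup.card_eq_one.1 (by rw [hm, h, pow_zero]))
    have he2 : ¬ 2 ∣ e := fun h => by
      have h' := Nat.eq_one_of_dvd_coprimes hcop h (hm ▸ dvd_pow_self 2 hm0)
      omega
    refine ⟨?_, ?_⟩
    · have hdvd : 2 ^ m ∣ Nat.card G := hm ▸ Subgroup.card_subgroup_dvd_card K
      have hle := (Nat.prime_two.pow_dvd_iff_le_factorization Nat.card_pos.ne').1 hdvd
      rw [hm]
      rcases hle.eq_or_lt with h | h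
      · rw [← h]
      · exfalso
        have h' := Sylow.prime_dvd_card_quotient_normalizer
          ((Nat.prime_two.pow_dvd_iff_le_factorization Nat.card_pos.ne').2 h) hm
        rw [← Subgroup.index_eq_card] at h'
        exact he2 h'
    · have hX2 : (⁅K, K⁆.subgroupOf K).index =
          ((K.subgroupOf L).lowerCentralSeries 1).relIndex (K.subgroupOf L) := by
        rw [Subgroup.lowerCentralSeries_succ, Subgroup.lowerCentralSeries_zero]
        have hmap : (K.subgroupOf L).map L.subtype = K := by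
          rw [Subgroup.subgroupOf_map_subtype, inf_eq_left.2 Subgroup.le_normalizer]
        conv_lhs => rw [← hmap, ← Subgroup.map_commutator]
        exact Subgroup.relIndex_map_map_of_injective _ _ L.subtype_injective
      rw [← hX2] at hX
      rcases Nat.lt_or_ge (⁅K, K⁆.subgroupOf K).index (4 * e ^ 2) with h | h
      · exact h
      exfalso
      have hdvd2 : (⁅K, K⁆.subgroupOf K).index ∣ 2 ^ m := hm ▸ Subgroup.index_dvd_card _
      obtain ⟨s, -, hs⟩ := (Nat.dvd_prime_pow Nat.prime_two).1 hdvd2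
      have he0 : 0 < e := Nat.pos_of_ne_zero Subgroup.index_ne_zero_of_finite
      rcases (show (⁅K, K⁆.subgroupOf K).index = 4 * e ^ 2 ∨
          (⁅K, K⁆.subgroupOf K).index = 4 * e ^ 2 + 1 by omega) with h' | h'
      · have hed : e ∣ 2 ^ s := ⟨4 * e, by rw [← hs, h']; ring⟩
        obtain ⟨j, -, hj⟩ := (Nat.dvd_prime_pow Nat.prime_two).1 hed
        rcases Nat.eq_zero_or_pos j with rfl | hj0
        · exact htop (Subgroup.index_eq_one.1 (by rw [← he, hj, pow_zero]))
        · exact he2 (hj ▸ dvd_pow_self 2 hj0.ne')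
      · rcases Nat.eq_zero_or_pos s with rfl | hs0
        · rw [h', pow_zero] at hs; have := Nat.pow_pos (n := 2) he0; omega
        · have : 2 ∣ 4 * e ^ 2 + 1 := h' ▸ hs ▸ dvd_pow_self 2 hs0.ne'
          omega
  · refine Or.inr (Or.inr ?_)
    convert hcoh using 3

end Cfsg.Agent.S1534
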