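import Cfsg.Statements.S4033
import Cfsg.Agent.Lib.TwoPRegular.Main
import Cfsg.Agent.Lib.Induced.Integral

set_option autoImplicit false
open Cfsg

namespace Cfsg.Agent.S4033

open Cfsg.Agent.Lib.TwoPRegular Cfsg.Agent.Lib.TwoClassSizes

/-- Let G be a finite group and p a prime, and suppose the conjugacy classes of p-regular elements of G (elements of order prime to p) have exactly two distinct sizes. Then either G has an abelian p-complement (an abelian subgroup of order prime to p and p-power index), or there are a prime q ≠ p, a Sylow p-subgroup P, a Sylow q-subgroup Q and a central subgroup A such that PQ is a normal subgroup of order #P·#Q and G is the internal direct product PQ × A. -/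
theorem result {G : Type*} [Group G] [Finite G] {p : ℕ} (hp : p.Prime)
    (h2 : Set.ncard (Set.range fun x : {x : G // (orderOf x).Coprime p} => (ConjClasses.mk (x : G)).carrier.ncard) = 2) :
    (∃ H : Subgroup G, IsMulCommutative H ∧ ¬ p ∣ Nat.card H ∧ ∃ k : ℕ, H.index = p ^ k) ∨
    (∃ (q : ℕ) (_ : Fact q.Prime) (P : Sylow p G) (Q : Sylow q G) (A : Subgroup G), q ≠ p ∧
        A ≤ Subgroup.center G ∧ Nat.card ↥((P : Subgroup G) ⊔ (Q : Subgroup G)) = Nat.card P * Nat.card Q ∧
        ((P : Subgroup G) ⊔ (Q : Subgroup G)).Normal ∧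
        ((P : Subgroup G) ⊔ (Q : Subgroup G)) ⊓ A = ⊥ ∧ ((P : Subgroup G) ⊔ (Q : Subgroup G)) ⊔ A = ⊤) := by
  classical
  haveI := Fact.mk hp
  have hncard : ∀ x : G, (ConjClasses.mk x).carrier.ncard = (cen x).index := fun x => by
    rw [← Nat.card_coe_set_eq]; exact Cfsg.Agent.Lib.Induced.Integral.nat_card_carrier x
  have h1 : ∀ x : G, (cen x).index = 1 ↔ x ∈ Subgroup.center G := fun x => by
    rw [Subgroup.index_eq_one]
    constructor
    · intro h
      exact Subgroup.mem_center_iff.2 fun g => mem_cen.1 (h ▸ Subgroup.mem_top g)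
    · intro h
      exact eq_top_iff.2 fun g _ => mem_cen.2 (Subgroup.mem_center_iff.1 h g)
  obtain ⟨m, x₀, hx₀, hx₀c, S⟩ : ∃ (m : ℕ) (x₀ : G), Reg p x₀ ∧ x₀ ∉ Subgroup.center G ∧ Setup p G m := by
    obtain ⟨a, b, hab, hset⟩ := Set.ncard_eq_two.1 h2
    have hmem : ∀ x : G, Reg p x → (cen x).index = a ∨ (cen x).index = b := fun x hx => by
      have : (cen x).index ∈ ({a, b} : Set ℕ) := hset ▸ ⟨⟨x, hx⟩, hncard x⟩
      simpa using this
    obtain ⟨⟨xa, hxa⟩, hea⟩ : a ∈ Set.range fun x : {x : G // (orderOf x).Coprime p} =>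
        (ConjClasses.mk (x : G)).carrier.ncard := by rw [hset]; simp
    obtain ⟨⟨xb, hxb⟩, heb⟩ : b ∈ Set.range fun x : {x : G // (orderOf x).Coprime p} =>
        (ConjClasses.mk (x : G)).carrier.ncard := by rw [hset]; simp
    simp only [hncard] at hea heb
    have hone : (cen (1 : G)).index = 1 := (h1 1).2 (one_mem _)
    rcases hmem 1 reg_one with ha | hb
    · exact ⟨b, xb, hxb, fun h => hab (by rw [← ha, hone, ← heb, (h1 xb).2 h]),
        ⟨hp, fun x hx hxc => (hmem x hx).resolve_left fun h => hxc ((h1 x).1 (h.trans (ha.symm.trans hone)))⟩⟩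
    · exact ⟨a, xa, hxa, fun h => hab (by rw [← hb, hone, ← hea, (h1 xa).2 h]),
        ⟨hp, fun x hx hxc => (hmem x hx).resolve_right fun h => hxc ((h1 x).1 (h.trans (hb.symm.trans hone)))⟩⟩
  by_cases T : TwoAct p G
  · -- the abelian complement
    left
    refine ⟨regPart S T hx₀ hx₀c, regPart_comm S T hx₀ hx₀c, fun hd => ?_, ?_⟩
    · obtain ⟨a, ha⟩ := exists_prime_orderOf_dvd_card' p hd
      have h : Reg p (a : G) := a.2.1
      rw [Reg, Subgroup.orderOf_coe, ha, Nat.coprime_self] at h
      exact hp.ne_one h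
    · refine ⟨_, Nat.eq_prime_pow_of_unique_prime_dvd Subgroup.index_ne_zero_of_finite fun {s} hs hsd => ?_⟩
      by_contra hsp
      haveI := Fact.mk hs
      obtain ⟨R, hR⟩ := exists_sylow_le S (q := s)
        (fun h => hsp (eq_of_dvd_index S T hx₀ hx₀c hs h)) hx₀ hx₀c
      refine R.not_dvd_index (hsd.trans (Subgroup.index_dvd_of_le fun g hg => ?_))
      exact ⟨reg_of_primePow hp hs hsp (exists_orderOf_eq_pow R.2 hg), hR hg⟩
  · -- only one prime acts
    right
    simp only [TwoAct] at T
    push Not at T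
    obtain ⟨q₀, hq₀⟩ := T
    obtain ⟨q, hq, a, hax, ha, hac⟩ := exists_primary_notMem hx₀c
    have hqp : q ≠ p := by
      rintro rfl
      obtain ⟨k, hk⟩ := ha
      have hd : orderOf a ∣ orderOf x₀ := by
        rw [← Nat.card_zpowers x₀]
        exact Subgroup.orderOf_dvd_natCard _ hax
      refine hac ?_
      rw [orderOf_eq_one_iff.1 (Nat.eq_one_of_dvd_coprimes (hx₀.pow_right k) hd (hk ▸ dvd_rfl))]
      exact one_mem _
    obtain rfl : q = q₀ := hq₀ q ⟨hq, hqp, a, hac, ha⟩
    haveI := Fact.mk hq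
    obtain ⟨P⟩ : Nonempty (Sylow p G) := inferInstance
    obtain ⟨Q⟩ : Nonempty (Sylow q G) := inferInstance
    set A : Subgroup G :=
      { carrier := {z | z ∈ Subgroup.center G ∧ (orderOf z).Coprime (p * q)}
        one_mem' := ⟨one_mem _, by rw [orderOf_one]; exact Nat.coprime_one_left _⟩
        mul_mem' := fun {a b} ha hb => ⟨mul_mem ha.1 hb.1, Nat.Coprime.of_dvd_left
          (show Commute a b from Subgroup.mem_center_iff.1 hb.1 a).orderOf_mul_dvd_mul_orderOf
          (Nat.Coprime.mul_left ha.2 hb.2)⟩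
        inv_mem' := fun {a} ha => ⟨inv_mem ha.1, by rw [orderOf_inv]; exact ha.2⟩ } with hA
    have hAle : A ≤ Subgroup.center G := fun z hz => hz.1
    haveI : A.Normal := ⟨fun z hz g => by
      rw [Subgroup.mem_center_iff.1 hz.1 g, mul_inv_cancel_right]; exact hz⟩
    have hAcop : (Nat.card A).Coprime (p * q) := Nat.coprime_of_dvd fun s hs hsA hspq => by
      haveI := Fact.mk hs
      obtain ⟨z, hz⟩ := exists_prime_orderOf_dvd_card' s hsA
      have h := z.2.2
      rw [Subgroup.orderOf_coe, hz] at h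
      exact hs.coprime_iff_not_dvd.1 h hspq
    have hAidx : ∀ s : ℕ, s.Prime → s ∣ A.index → s = p ∨ s = q := by
      intro s hs hsd
      by_contra hc
      push Not at hc
      haveI := Fact.mk hs
      obtain ⟨R⟩ : Nonempty (Sylow s G) := inferInstance
      refine R.not_dvd_index (hsd.trans (Subgroup.index_dvd_of_le fun g hg => ?_))
      obtain ⟨k, hk⟩ := exists_orderOf_eq_pow R.2 hg
      refine ⟨le_center_of_not_act hc.1 (fun h => hc.2 (hq₀ s h)) R.2 hg, ?_⟩
      rw [hk]
      exact Nat.Coprime.pow_left k (Nat.Coprime.mul_right ((Nat.coprime_primes hs hp).2 hc.1)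
        ((Nat.coprime_primes hs hq).2 hc.2))
    obtain ⟨U, hU⟩ := Subgroup.exists_right_complement'_of_coprime (N := A)
      (Nat.coprime_of_dvd fun s hs hsA hsi => by
        rcases hAidx s hs hsi with rfl | rfl
        · exact hs.coprime_iff_not_dvd.1 (Nat.Coprime.coprime_dvd_right (dvd_mul_right _ _) hAcop).symm hsA
        · exact hs.coprime_iff_not_dvd.1 (Nat.Coprime.coprime_dvd_right (dvd_mul_left _ _) hAcop).symm hsA)
    have hUn : U.Normal := ⟨fun u hu g => by
      obtain ⟨⟨a, v⟩, rfl⟩ := hU.2 g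
      have hac' := Subgroup.mem_center_iff.1 (hAle a.2)
      show (a : G) * v * u * ((a : G) * v)⁻¹ ∈ U
      rw [show (a : G) * v * u * ((a : G) * v)⁻¹ = (a : G) * ((v : G) * u * (v : G)⁻¹) * (a : G)⁻¹ by group,
        ← hac' ((v : G) * u * (v : G)⁻¹), mul_inv_cancel_right]
      exact mul_mem (mul_mem v.2 hu) (inv_mem v.2)⟩
    haveI := hUn
    have hUidx : U.index = Nat.card A := hU.index_eq_card
    have hcontains : ∀ g : G, (orderOf g).Coprime (Nat.card A) → g ∈ U := fun g hg => by
      refine (QuotientGroup.eq_one_iff g).1 (orderOf_eq_one_iff.1 (Nat.eq_one_of_dvd_coprimes hg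
        (orderOf_map_dvd (QuotientGroup.mk' U) g) ?_))
      rw [← hUidx, Subgroup.index_eq_card]
      exact orderOf_dvd_natCard _
    have hPU : (P : Subgroup G) ≤ U := fun g hg => hcontains g (by
      obtain ⟨k, hk⟩ := exists_orderOf_eq_pow P.2 hg
      rw [hk]
      exact (Nat.Coprime.coprime_dvd_right (dvd_mul_right _ _) hAcop).symm.pow_left k)
    have hQU : (Q : Subgroup G) ≤ U := fun g hg => hcontains g (by
      obtain ⟨k, hk⟩ := exists_orderOf_eq_pow Q.2 hg
      rw [hk]
      exact (Nat.Coprime.coprime_dvd_right (dvd_mul_left _ _) hAcop).symm.pow_left k)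
    have hPQ : (Nat.card P).Coprime (Nat.card Q) := by
      rw [P.card_eq_multiplicity, Q.card_eq_multiplicity]
      exact coprime_of_prime_pow hp hq hqp.symm
    have hUcard : Nat.card U ∣ Nat.card P * Nat.card Q := by
      rw [P.card_eq_multiplicity, Q.card_eq_multiplicity, Nat.dvd_iff_prime_pow_dvd_dvd]
      intro s k hs hsk
      have hsG : s ^ k ∣ Nat.card G := hsk.trans (Subgroup.card_subgroup_dvd_card U)
      rcases Nat.eq_zero_or_pos k with rfl | hk
      · simp
      have hsidx : s = p ∨ s = q := hAidx s hs (by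
        rw [show A.index = Nat.card U from hU.symm.index_eq_card]
        exact (dvd_pow_self s hk.ne').trans hsk)
      have hle := (hs.pow_dvd_iff_le_factorization Nat.card_pos.ne').1 hsG
      rcases hsidx with rfl | rfl
      · exact (pow_dvd_pow _ hle).trans (dvd_mul_right _ _)
      · exact (pow_dvd_pow _ hle).trans (dvd_mul_left _ _)
    have hsup : (P : Subgroup G) ⊔ (Q : Subgroup G) = U := by
      refine Subgroup.eq_of_le_of_card_ge (sup_le hPU hQU) (Nat.le_of_dvd Nat.card_pos (hUcard.trans ?_))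
      exact hPQ.mul_dvd_of_dvd_of_dvd (Subgroup.card_dvd_of_le le_sup_left)
        (Subgroup.card_dvd_of_le le_sup_right)
    refine ⟨q, inferInstance, P, Q, A, hqp, hAle, ?_, hsup ▸ hUn, ?_, ?_⟩
    · refine Nat.dvd_antisymm (by rw [hsup]; exact hUcard) ?_
      exact hPQ.mul_dvd_of_dvd_of_dvd (Subgroup.card_dvd_of_le le_sup_left)
        (Subgroup.card_dvd_of_le le_sup_right)
    · rw [hsup]; exact disjoint_iff.1 hU.symm.disjoint
    · rw [hsup]; exact hU.symm.sup_eq_top

end Cfsg.Agent.S4033
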