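import Cfsg.Statements.S4034
import Cfsg.Agent.Lib.Induced.Burnside
import Cfsg.Agent.Lib.Hall.Basic
import Cfsg.Agent.Lib.Cores.Basic
import Cfsg.Agent.Lib.Elem70.Basic

set_option autoImplicit false
open Cfsg

namespace Cfsg.Agent.S4034

open Cfsg.Agent.Lib.Elem70
open scoped Pointwise

universe w

theorem ncard_carrier_eq_index {G : Type*} [Group G] (x : G) :
    (ConjClasses.mk x).carrier.ncard = (Subgroup.centralizer {x}).index := by
  rw [← Nat.card_coe_set_eq, ← ConjAct.orbit_eq_carrier_conjClasses]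
  have : MulAction.stabilizer (ConjAct G) x = Subgroup.centralizer {x} :=
    ConjAct.stabilizer_eq_centralizer x
  rw [Subgroup.index, ← this]
  exact Nat.card_congr (MulAction.orbitEquivQuotientStabilizer (ConjAct G) x)

/-- All `p`-regular centralisers have `p`-power index. -/
def ClassHyp (p : ℕ) (G : Type w) [Group G] : Prop :=
  ∀ x : G, (orderOf x).Coprime p → ∃ k : ℕ, (Subgroup.centralizer {x}).index = p ^ k

theorem classHyp_subgroup {G : Type w} [Group G] [Finite G] {p : ℕ} (hp : p.Prime)
    (N : Subgroup G) [N.Normal] (h : ClassHyp p G) : ClassHyp p N := by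
  intro x hx
  obtain ⟨k, hk⟩ := h (x : G) (by rwa [Subgroup.orderOf_coe])
  set C := Subgroup.centralizer {(x : G)}
  have heq : Subgroup.centralizer {x} = C.subgroupOf N := by
    ext y
    rw [Subgroup.mem_subgroupOf, Subgroup.mem_centralizer_singleton_iff,
      Subgroup.mem_centralizer_singleton_iff]
    exact ⟨fun h => congrArg Subtype.val h, fun h => Subtype.ext h⟩
  have h1 : C.relIndex N ∣ p ^ k := by
    -- `[N : C ∩ N] = [CN : C]`
    have e1 : Nat.card (C ⊔ N : Subgroup G) = N.relIndex C * Nat.card N := by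
      rw [← Subgroup.relIndex_sup_right (H := C) (K := N), mul_comm,
        Subgroup.relIndex, ← Nat.card_congr (Subgroup.subgroupOfEquivOfLe (le_sup_right : N ≤ C ⊔ N)).toEquiv]
      exact ((N.subgroupOf (C ⊔ N)).card_mul_index).symm
    have e2 : C.relIndex (C ⊔ N) * Nat.card C = Nat.card (C ⊔ N : Subgroup G) := by
      rw [Subgroup.relIndex, ← Nat.card_congr (Subgroup.subgroupOfEquivOfLe (le_sup_left : C ≤ C ⊔ N)).toEquiv]
      exact (C.subgroupOf (C ⊔ N)).index_mul_card
    have e3 : N.relIndex C * Nat.card (N ⊓ C : Subgroup G) = Nat.card C := by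
      rw [← Subgroup.inf_relIndex_right N C, Subgroup.relIndex,
        ← Nat.card_congr (Subgroup.subgroupOfEquivOfLe (inf_le_right : N ⊓ C ≤ C)).toEquiv]
      exact ((N ⊓ C).subgroupOf C).index_mul_card
    have e4 : C.relIndex N * Nat.card (N ⊓ C : Subgroup G) = Nat.card N := by
      rw [inf_comm N C, ← Subgroup.inf_relIndex_right C N, Subgroup.relIndex,
        ← Nat.card_congr (Subgroup.subgroupOfEquivOfLe (inf_le_right : C ⊓ N ≤ N)).toEquiv]
      exact ((C ⊓ N).subgroupOf N).index_mul_card
    have hkey : C.relIndex (C ⊔ N) = C.relIndex N := by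
      apply Nat.eq_of_mul_eq_mul_right (Nat.card_pos (α := C))
      rw [e2, e1, ← e3, ← e4]; ring
    exact hkey ▸ hk ▸ ⟨_, (Subgroup.relIndex_mul_index (le_sup_left : C ≤ C ⊔ N)).symm⟩
  obtain ⟨j, -, hj⟩ := (Nat.dvd_prime_pow hp).1 h1
  exact ⟨j, by rw [heq]; exact hj⟩

/-- A `p`-regular element of a quotient lifts to a `p`-regular element. -/
theorem exists_regular_lift {G : Type w} [Group G] [Finite G] {p : ℕ} (hp : p.Prime)
    (N : Subgroup G) [N.Normal] {y : G ⧸ N} (hy : (orderOf y).Coprime p) :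
    ∃ x : G, QuotientGroup.mk' N x = y ∧ (orderOf x).Coprime p := by
  obtain ⟨x₀, rfl⟩ := QuotientGroup.mk'_surjective N y
  obtain ⟨u, s, hu, -, hus, ⟨k, hk⟩, hs⟩ := exists_primary_split hp x₀
  refine ⟨s, ?_, hs⟩
  have h1 : orderOf (QuotientGroup.mk' N u) = 1 := by
    refine Nat.eq_one_of_dvd_coprimes (Nat.Coprime.pow_right k hy) ?_
      (orderOf_dvd_of_pow_eq_one (by rw [← map_pow, hk, map_one]))
    obtain ⟨i, hi⟩ := hu
    rw [← hi, map_zpow]
    exact orderOf_dvd_of_mem_zpowers ⟨i, rfl⟩
  conv_rhs => rw [hus, map_mul, orderOf_eq_one_iff.1 h1, one_mul]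

theorem classHyp_quotient {G : Type w} [Group G] [Finite G] {p : ℕ} (hp : p.Prime)
    (N : Subgroup G) [N.Normal] (h : ClassHyp p G) : ClassHyp p (G ⧸ N) := by
  intro y hy
  obtain ⟨x, rfl, hx⟩ := exists_regular_lift hp N hy
  obtain ⟨k, hk⟩ := h x hx
  have hle : (Subgroup.centralizer {x}).map (QuotientGroup.mk' N) ≤
      Subgroup.centralizer {QuotientGroup.mk' N x} := by
    rintro _ ⟨c, hc, rfl⟩
    rw [Subgroup.mem_centralizer_singleton_iff, ← map_mul, ← map_mul,
      Subgroup.mem_centralizer_singleton_iff.1 hc]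
  have h1 : (Subgroup.centralizer {QuotientGroup.mk' N x}).index ∣ p ^ k := hk ▸
    (Subgroup.index_dvd_of_le hle).trans
      ((Subgroup.centralizer {x}).index_map_dvd (QuotientGroup.mk'_surjective N))
  obtain ⟨j, -, hj⟩ := (Nat.dvd_prime_pow hp).1 h1
  exact ⟨j, hj⟩

theorem eq_of_not_dvd_pow {p r k : ℕ} (hp : p.Prime) (hr : r.Prime) (h : r ∣ p ^ k) : r = p :=
  (Nat.prime_dvd_prime_iff_eq hr hp).1 (hr.dvd_of_dvd_pow h)

/-- `ClassHyp` forces solvability, by Burnside. -/
theorem solvable_of_classHyp {p : ℕ} (hp : p.Prime) (n : ℕ) :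
    ∀ (G : Type w) [Group G] [Finite G], Nat.card G ≤ n → ClassHyp p G → Group.IsSolvable G := by
  induction n with
  | zero => intro G _ _ h; exact absurd (Nat.card_pos (α := G)) (by omega)
  | succ n ih =>
    intro G _ _ hn h
    by_cases hN : ∃ N : Subgroup G, N.Normal ∧ N ≠ ⊥ ∧ N ≠ ⊤
    · obtain ⟨N, hN, hne, hnt⟩ := hN
      haveI := hN
      have h1 : Nat.card N < Nat.card G := lt_of_le_of_ne (Subgroup.card_le_card_group N)
        fun he => hnt (Subgroup.eq_top_of_card_eq N he)
      have h2 := Cfsg.Agent.Lib.Hall.card_quotient_lt (N := N) hne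
      haveI := ih N (by omega) (classHyp_subgroup hp N h)
      haveI := ih (G ⧸ N) (by omega) (classHyp_quotient hp N h)
      exact Group.isSolvable_of_ker_le_range N.subtype (QuotientGroup.mk' N) (by simp)
    · push Not at hN
      rcases subsingleton_or_nontrivial G with hs | hs
      · infer_instance
      haveI : IsSimpleGroup G := ⟨fun M hM => or_iff_not_imp_left.2 (hN M hM)⟩
      haveI : Fact p.Prime := ⟨hp⟩
      by_cases hP : IsPGroup p G
      · haveI := hP.isNilpotent; infer_instance
      · obtain ⟨g, hg⟩ : ∃ g : G, ∀ k, g ^ p ^ k ≠ 1 := by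
          simp only [IsPGroup, not_forall, not_exists] at hP
          exact hP
        obtain ⟨u, s, hu, hs', hus, ⟨k, hk⟩, hs⟩ := exists_primary_split hp g
        have hs1 : s ≠ 1 := fun h1 => hg k (by rw [hus, h1, mul_one, hk])
        obtain ⟨j, hj⟩ := h s hs
        haveI : Fact (Nat.card G).Prime :=
          ⟨Cfsg.Agent.Lib.Induced.Burnside.prime_card_of_class_primePow hp hs1 hj⟩
        haveI := isCyclic_of_prime_card (α := G) (p := Nat.card G) rfl
        infer_instance

/-- The data of an abelian `p`-complement. -/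
def ComplHyp (p : ℕ) (G : Type w) [Group G] : Prop :=
  ∃ H : Subgroup G, IsMulCommutative H ∧ ¬ p ∣ Nat.card H ∧ ∃ k : ℕ, H.index = p ^ k

/-- An abelian `p`-complement gives `p`-power classes for its own elements, hence, in a simple
group, prime order. -/
theorem solvable_of_complHyp {p : ℕ} (hp : p.Prime) (n : ℕ) :
    ∀ (G : Type w) [Group G] [Finite G], Nat.card G ≤ n → ComplHyp p G → Group.IsSolvable G := by
  induction n with
  | zero => intro G _ _ h; exact absurd (Nat.card_pos (α := G)) (by omega)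
  | succ n ih =>
    intro G _ _ hn ⟨H, hH, hHp, k, hk⟩
    by_cases hN : ∃ N : Subgroup G, N.Normal ∧ N ≠ ⊥ ∧ N ≠ ⊤
    · obtain ⟨N, hN, hne, hnt⟩ := hN
      haveI := hN
      have h1 : Nat.card N < Nat.card G := lt_of_le_of_ne (Subgroup.card_le_card_group N)
        fun he => hnt (Subgroup.eq_top_of_card_eq N he)
      have h2 := Cfsg.Agent.Lib.Hall.card_quotient_lt (N := N) hne
      haveI : Group.IsSolvable N := by
        refine ih N (by omega) ⟨H.subgroupOf N, ⟨⟨fun a b => Subtype.ext (Subtype.ext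
          (congrArg Subtype.val (hH.is_comm.comm (⟨_, a.2⟩ : H) ⟨_, b.2⟩) :))⟩⟩, ?_, ?_⟩
        · intro hd
          apply hHp
          refine hd.trans ?_
          rw [← Subgroup.card_map_of_injective N.subtype_injective, Subgroup.subgroupOf_map_subtype]
          exact Subgroup.card_dvd_of_le inf_le_left
        · have e1 : Nat.card (H ⊔ N : Subgroup G) = N.relIndex H * Nat.card N := by
            rw [← Subgroup.relIndex_sup_right (H := H) (K := N), mul_comm,
              Subgroup.relIndex, ← Nat.card_congr (Subgroup.subgroupOfEquivOfLe (le_sup_right : N ≤ H ⊔ N)).toEquiv]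
            exact ((N.subgroupOf (H ⊔ N)).card_mul_index).symm
          have e2 : H.relIndex (H ⊔ N) * Nat.card H = Nat.card (H ⊔ N : Subgroup G) := by
            rw [Subgroup.relIndex, ← Nat.card_congr (Subgroup.subgroupOfEquivOfLe (le_sup_left : H ≤ H ⊔ N)).toEquiv]
            exact (H.subgroupOf (H ⊔ N)).index_mul_card
          have e3 : N.relIndex H * Nat.card (N ⊓ H : Subgroup G) = Nat.card H := by
            rw [← Subgroup.inf_relIndex_right N H, Subgroup.relIndex,
              ← Nat.card_congr (Subgroup.subgroupOfEquivOfLe (inf_le_right : N ⊓ H ≤ H)).toEquiv]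
            exact ((N ⊓ H).subgroupOf H).index_mul_card
          have e4 : H.relIndex N * Nat.card (N ⊓ H : Subgroup G) = Nat.card N := by
            rw [inf_comm N H, ← Subgroup.inf_relIndex_right H N, Subgroup.relIndex,
              ← Nat.card_congr (Subgroup.subgroupOfEquivOfLe (inf_le_right : H ⊓ N ≤ N)).toEquiv]
            exact ((H ⊓ N).subgroupOf N).index_mul_card
          have hkey : H.relIndex (H ⊔ N) = H.relIndex N := by
            apply Nat.eq_of_mul_eq_mul_right (Nat.card_pos (α := H))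
            rw [e2, e1, ← e3, ← e4]; ring
          obtain ⟨j, -, hj⟩ := (Nat.dvd_prime_pow hp).1 (show H.relIndex N ∣ p ^ k from
            hkey ▸ hk ▸ ⟨_, (Subgroup.relIndex_mul_index (le_sup_left : H ≤ H ⊔ N)).symm⟩)
          exact ⟨j, hj⟩
      haveI : Group.IsSolvable (G ⧸ N) := by
        refine ih (G ⧸ N) (by omega) ⟨H.map (QuotientGroup.mk' N), ⟨⟨?_⟩⟩, ?_, ?_⟩
        · rintro ⟨_, a, ha, rfl⟩ ⟨_, b, hb, rfl⟩
          apply Subtype.ext
          show QuotientGroup.mk' N a * QuotientGroup.mk' N b = QuotientGroup.mk' N b * QuotientGroup.mk' N a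
          rw [← map_mul, ← map_mul,
            show a * b = b * a from congrArg Subtype.val (hH.is_comm.comm (⟨a, ha⟩ : H) ⟨b, hb⟩)]
        · exact fun hd => hHp (hd.trans (Subgroup.card_map_dvd _ _))
        · obtain ⟨j, -, hj⟩ := (Nat.dvd_prime_pow hp).1
            (hk ▸ H.index_map_dvd (QuotientGroup.mk'_surjective N))
          exact ⟨j, hj⟩
      exact Group.isSolvable_of_ker_le_range N.subtype (QuotientGroup.mk' N) (by simp)
    · push Not at hN
      rcases subsingleton_or_nontrivial G with hs | hs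
      · infer_instance
      haveI : IsSimpleGroup G := ⟨fun M hM => or_iff_not_imp_left.2 (hN M hM)⟩
      haveI : Fact p.Prime := ⟨hp⟩
      by_cases hb : H = ⊥
      · rw [hb, Subgroup.index_bot] at hk
        haveI := (IsPGroup.of_card hk).isNilpotent
        infer_instance
      · obtain ⟨g, hg, hg1⟩ := H.bot_or_exists_ne_one.resolve_left hb
        have hle : H ≤ Subgroup.centralizer {g} := fun a ha =>
          Subgroup.mem_centralizer_singleton_iff.2
            (congrArg Subtype.val (hH.is_comm.comm (⟨a, ha⟩ : H) ⟨g, hg⟩))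
        obtain ⟨j, -, hj⟩ := (Nat.dvd_prime_pow hp).1 (hk ▸ Subgroup.index_dvd_of_le hle)
        haveI : Fact (Nat.card G).Prime :=
          ⟨Cfsg.Agent.Lib.Induced.Burnside.prime_card_of_class_primePow hp hg1 hj⟩
        haveI := isCyclic_of_prime_card (α := G) (p := Nat.card G) rfl
        infer_instance

/-- Under `ClassHyp` every `p`-complement is abelian. -/
theorem complement_comm {p : ℕ} [Fact p.Prime] (n : ℕ) :
    ∀ (G : Type w) [Group G] [Finite G] [Group.IsSolvable G], Nat.card G ≤ n → ClassHyp p G →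
      ∀ H : Subgroup G, ¬ p ∣ Nat.card H → (∃ k : ℕ, H.index = p ^ k) →
        ∀ a ∈ H, ∀ b ∈ H, a * b = b * a := by
  induction n with
  | zero => intro G _ _ _ h; exact absurd (Nat.card_pos (α := G)) (by omega)
  | succ n ih =>
    intro G _ _ _ hn h H hHp ⟨k, hk⟩ a ha b hb
    have hp : p.Prime := Fact.out
    by_cases hcore : pCore p G = ⊥
    swap
    · let N := pCore p G
      have h2 := Cfsg.Agent.Lib.Hall.card_quotient_lt (N := N) hcore
      have h1 := ih (G ⧸ N) (by omega) (classHyp_quotient hp N h) (H.map (QuotientGroup.mk' N))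
        (fun hd => hHp (hd.trans (Subgroup.card_map_dvd _ _)))
        (by
          obtain ⟨j, -, hj⟩ := (Nat.dvd_prime_pow hp).1
            (hk ▸ H.index_map_dvd (QuotientGroup.mk'_surjective N))
          exact ⟨j, hj⟩)
        _ ⟨a, ha, rfl⟩ _ ⟨b, hb, rfl⟩
      rw [← map_mul, ← map_mul] at h1
      have h3 : (b * a)⁻¹ * (a * b) ∈ N := QuotientGroup.eq.1 h1.symm
      have h4 : (b * a)⁻¹ * (a * b) ∈ H := H.mul_mem (H.inv_mem (H.mul_mem hb ha)) (H.mul_mem ha hb)
      obtain ⟨i, hi⟩ := IsPGroup.iff_card.1 (Cfsg.Agent.Lib.Cores.pCore_isPGroup (G := G) p)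
      have h5 : orderOf ((b * a)⁻¹ * (a * b)) = 1 := Nat.eq_one_of_dvd_coprimes
        (Nat.Coprime.pow_right i (hp.coprime_iff_not_dvd.2 hHp).symm) (H.orderOf_dvd_natCard h4)
        (hi ▸ N.orderOf_dvd_natCard h3)
      exact (inv_mul_eq_one.1 (orderOf_eq_one_iff.1 h5)).symm
    · -- `O_p(G) = 1`
      set F := fittingSubgroup G with hFdef
      haveI hFn : F.Normal := by rw [hFdef]; infer_instance
      have hFp : ¬ p ∣ Nat.card F := by
        intro hd
        haveI hnil : Group.IsNilpotent F := Cfsg.Agent.Lib.Cores.fittingSubgroup_isNilpotent (G := G)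
        obtain ⟨P⟩ : Nonempty (Sylow p F) := inferInstance
        have hn' : ∀ (q : ℕ) (_ : Fact q.Prime) (Q : Sylow q F), (Q : Subgroup F).Normal :=
          ((Group.isNilpotent_of_finite_tfae (G := F)).out 0 3).1 hnil
        haveI hPn : (P : Subgroup F).Normal := hn' p ⟨hp⟩ P
        haveI := Sylow.characteristic_of_normal P hPn
        have h1 : (P : Subgroup F).map F.subtype ≤ pCore p G :=
          Cfsg.Agent.Lib.Cores.le_pCore (hN := Cfsg.Agent.Lib.Cores.normal_map_subtype F _)
            (P.isPGroup'.map _)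
        rw [hcore, le_bot_iff, Subgroup.map_eq_bot_iff_of_injective _ F.subtype_injective] at h1
        have h2 := P.dvd_card_of_dvd_card hd
        rw [h1, Subgroup.card_bot] at h2
        exact hp.not_dvd_one h2
      -- `F` lies in every complement
      have hFle : ∀ K : Subgroup G, ¬ p ∣ Nat.card K → (∃ j : ℕ, K.index = p ^ j) → F ≤ K := by
        intro K hK ⟨j, hj⟩ x hx
        have h1 : ¬ p ∣ Nat.card (K ⊔ F : Subgroup G) := fun hd =>
          (hp.dvd_mul.1 (hd.trans (Cfsg.Agent.Lib.Cores.card_sup_dvd_mul K F))).elim hK hFp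
        have h2 : K.relIndex (K ⊔ F) = 1 := by
          have h3 : K.relIndex (K ⊔ F) ∣ p ^ j := hj ▸
            ⟨_, (Subgroup.relIndex_mul_index (le_sup_left : K ≤ K ⊔ F)).symm⟩
          have h4 : K.relIndex (K ⊔ F) ∣ Nat.card (K ⊔ F : Subgroup G) := Subgroup.index_dvd_card _
          exact Nat.eq_one_of_dvd_coprimes
            (Nat.Coprime.pow_left j (hp.coprime_iff_not_dvd.2 h1)) h3 h4
        exact (Subgroup.relIndex_eq_one.1 h2) (Subgroup.mem_sup_right hx)
      have hHF : H ≤ F := by
        intro x hx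
        refine Cfsg.Agent.Lib.Cores.centralizer_fittingSubgroup_le ?_
        obtain ⟨i, hi⟩ := h x (Nat.Coprime.symm (hp.coprime_iff_not_dvd.2
          fun hd => hHp (hd.trans (H.orderOf_dvd_natCard hx))))
        set C := Subgroup.centralizer {x} with hC
        obtain ⟨W, hW⟩ := Cfsg.Agent.Lib.Hall.exists_isPiHall {r : ℕ | r ≠ p} (G := C)
        have hWidx : ∃ j, W.index = p ^ j :=
          ⟨_, Nat.eq_prime_pow_of_unique_prime_dvd W.index_ne_zero_of_finite
            fun {r} hr hd => by_contra fun hne => hW.2 r hr hne hd⟩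
        obtain ⟨j, hj⟩ := hWidx
        have hFW : F ≤ W.map C.subtype := by
          refine hFle _ ?_ ⟨j + i, ?_⟩
          · rw [Subgroup.card_map_of_injective C.subtype_injective]
            exact fun hd => (hW.1 p hp hd) rfl
          · rw [Subgroup.index_map_subtype, hj, hi, pow_add]
        rw [Subgroup.mem_centralizer_iff]
        intro f hf
        exact Subgroup.mem_centralizer_singleton_iff.1 ((Subgroup.map_subtype_le W) (hFW hf))
      obtain ⟨i, hi⟩ := h a (Nat.Coprime.symm (hp.coprime_iff_not_dvd.2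
          fun hd => hHp (hd.trans (H.orderOf_dvd_natCard ha))))
      set C := Subgroup.centralizer {a} with hC
      obtain ⟨W, hW⟩ := Cfsg.Agent.Lib.Hall.exists_isPiHall {r : ℕ | r ≠ p} (G := C)
      have hWidx : ∃ j, W.index = p ^ j :=
        ⟨_, Nat.eq_prime_pow_of_unique_prime_dvd W.index_ne_zero_of_finite
          fun {r} hr hd => by_contra fun hne => hW.2 r hr hne hd⟩
      obtain ⟨j, hj⟩ := hWidx
      have hFW : F ≤ W.map C.subtype := by
        refine hFle _ ?_ ⟨j + i, ?_⟩
        · rw [Subgroup.card_map_of_injective C.subtype_injective]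
          exact fun hd => (hW.1 p hp hd) rfl
        · rw [Subgroup.index_map_subtype, hj, hi, pow_add]
      exact (Subgroup.mem_centralizer_singleton_iff.1
        ((Subgroup.map_subtype_le W) (hFW (hHF hb)))).symm

/-- Let G be a finite group and p a prime. Every conjugacy class of p-regular elements of G (elements of order prime to p) has p-power size if and only if G has an abelian p-complement, i.e. an abelian subgroup of order prime to p and p-power index. -/
theorem result {G : Type*} [Group G] [Finite G] {p : ℕ} (hp : p.Prime) :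
    (∀ x : G, (orderOf x).Coprime p → ∃ k : ℕ, (ConjClasses.mk x).carrier.ncard = p ^ k) ↔
    (∃ H : Subgroup G, IsMulCommutative H ∧ ¬ p ∣ Nat.card H ∧ ∃ k : ℕ, H.index = p ^ k) := by
  haveI : Fact p.Prime := ⟨hp⟩
  constructor
  · intro h
    have hc : ClassHyp p G := fun x hx => by
      rw [← ncard_carrier_eq_index]; exact h x hx
    haveI := solvable_of_classHyp hp (Nat.card G) G le_rfl hc
    obtain ⟨H, hH⟩ := Cfsg.Agent.Lib.Hall.exists_isPiHall {r : ℕ | r ≠ p} (G := G)
    have hHp : ¬ p ∣ Nat.card H := fun hd => (hH.1 p hp hd) rfl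
    have hidx : ∃ k : ℕ, H.index = p ^ k :=
      ⟨_, Nat.eq_prime_pow_of_unique_prime_dvd H.index_ne_zero_of_finite
        fun {r} hr hd => by_contra fun hne => hH.2 r hr hne hd⟩
    exact ⟨H, ⟨⟨fun a b => Subtype.ext (complement_comm (Nat.card G) G le_rfl hc H hHp hidx
      a.1 a.2 b.1 b.2)⟩⟩, hHp, hidx⟩
  · rintro ⟨H, hH, hHp, k, hk⟩ x hx
    haveI := solvable_of_complHyp hp (Nat.card G) G le_rfl ⟨H, hH, hHp, k, hk⟩
    have hHall : Cfsg.IsPiHall {r : ℕ | r ≠ p} H := by
      refine ⟨fun r _ hd hrp => hHp (hrp ▸ hd), fun r hr hne hd => hne ?_⟩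
      exact eq_of_not_dvd_pow hp hr (hk ▸ hd)
    obtain ⟨g, hg⟩ := Cfsg.Agent.Lib.Hall.exists_conj_le hHall (K := Subgroup.zpowers x)
      (fun r hr hd hrp => by
        rw [Nat.card_zpowers] at hd
        subst hrp
        exact hr.not_dvd_one (hx.gcd_eq_one ▸ Nat.dvd_gcd hd dvd_rfl))
    have hxH : g⁻¹ * x * g ∈ H := by
      have := hg (Subgroup.mem_zpowers x)
      rw [Subgroup.mem_pointwise_smul_iff_inv_smul_mem] at this
      simpa [MulAut.smul_def] using this
    have hle : H ≤ Subgroup.centralizer {g⁻¹ * x * g} := fun c hc =>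
      Subgroup.mem_centralizer_singleton_iff.2
        (congrArg Subtype.val (hH.is_comm.comm (⟨c, hc⟩ : H) ⟨_, hxH⟩))
    obtain ⟨j, -, hj⟩ := (Nat.dvd_prime_pow hp).1 (hk ▸ Subgroup.index_dvd_of_le hle)
    refine ⟨j, ?_⟩
    rw [← hj, ← ncard_carrier_eq_index]
    congr 2
    rw [ConjClasses.mk_eq_mk_iff_isConj, isConj_iff]
    exact ⟨g⁻¹, by group⟩

end Cfsg.Agent.S4034
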