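import Cfsg.Statements.S4035
import Cfsg.Agent.Lib.Elem70.Basic
import Mathlib.GroupTheory.SchurZassenhaus
import Mathlib.GroupTheory.GroupAction.Quotient

set_option autoImplicit false
open Cfsg

namespace Cfsg.Agent.S4035

open Cfsg.Agent.Lib.Elem70

theorem ncard_carrier_eq_index {G : Type*} [Group G] (x : G) :
    (ConjClasses.mk x).carrier.ncard = (Subgroup.centralizer {x}).index := by
  rw [← Nat.card_coe_set_eq, ← ConjAct.orbit_eq_carrier_conjClasses]
  have : MulAction.stabilizer (ConjAct G) x = Subgroup.centralizer {x} :=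
    ConjAct.stabilizer_eq_centralizer x
  rw [Subgroup.index, ← this]
  exact Nat.card_congr (MulAction.orbitEquivQuotientStabilizer (ConjAct G) x)

/-- A `p`-element commuting with a `p`-regular `s` lies in a Sylow subgroup centralised by `s`. -/
theorem exists_sylow_centralized {G : Type*} [Group G] [Finite G] {p : ℕ} [Fact p.Prime]
    (s u : G) (hs : ¬ p ∣ (Subgroup.centralizer {s}).index) (hus : u * s = s * u) {k : ℕ}
    (hu : u ^ p ^ k = 1) :
    ∃ R : Sylow p G, u ∈ R ∧ (R : Subgroup G) ≤ Subgroup.centralizer {s} := by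
  set C := Subgroup.centralizer {s} with hC
  have hu' : (⟨u, Subgroup.mem_centralizer_singleton_iff.2 hus⟩ : C) ^ p ^ k = 1 := Subtype.ext hu
  obtain ⟨j, hj⟩ := orderOf_eq_pow_of_pow_eq_one (Fact.out : p.Prime) hu'
  obtain ⟨Q, hQ⟩ := (IsPGroup.of_card (n := j) ((Nat.card_zpowers _).trans hj)).exists_le_sylow
  have hcard : Nat.card ((Q : Subgroup C).map C.subtype) = p ^ (Nat.card G).factorization p := by
    rw [Subgroup.card_map_of_injective C.subtype_injective, Q.card_eq_multiplicity]
    congr 1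
    rw [← C.card_mul_index, Nat.factorization_mul Nat.card_pos.ne' C.index_ne_zero_of_finite,
      Finsupp.add_apply, Nat.factorization_eq_zero_of_not_dvd hs, add_zero]
  refine ⟨Sylow.ofCard _ hcard, ?_, ?_⟩
  · show u ∈ (Q : Subgroup C).map C.subtype
    exact ⟨_, hQ (Subgroup.mem_zpowers _), rfl⟩
  · show (Q : Subgroup C).map C.subtype ≤ _
    exact Subgroup.map_subtype_le _

/-- Let G be a finite group and p a prime such that p divides the size of no conjugacy class of p-regular elements (elements of order prime to p). Then G is the internal direct product of a Sylow p-subgroup P and a normal subgroup H of order prime to p: P is normal, P ⊓ H = 1 and PH = G. -/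
theorem result {G : Type*} [Group G] [Finite G] {p : ℕ} [Fact p.Prime]
    (h : ∀ x : G, (orderOf x).Coprime p → ¬ p ∣ (ConjClasses.mk x).carrier.ncard) (P : Sylow p G) :
    (P : Subgroup G).Normal ∧ ∃ H : Subgroup G, H.Normal ∧ ¬ p ∣ Nat.card H ∧
      (P : Subgroup G) ⊓ H = ⊥ ∧ (P : Subgroup G) ⊔ H = ⊤ := by
  have hp : p.Prime := Fact.out
  have hN : Subgroup.normalizer ((P : Subgroup G) : Set G) = ⊤ := by
    refine eq_top_of_forall_conj _ fun g => ?_
    obtain ⟨u, s, ⟨i, hi⟩, ⟨j, hj⟩, hg, ⟨k, hk⟩, hs⟩ := exists_primary_split hp g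
    have hus : u * s = s * u := by rw [← hi, ← hj]; exact zpow_mul_comm g i j
    obtain ⟨R, huR, hRs⟩ := exists_sylow_centralized s u
      (ncard_carrier_eq_index s ▸ h s hs) hus hk
    obtain ⟨c, hc⟩ := MulAction.exists_smul_eq G P R
    have hgn : g ∈ Subgroup.normalizer ((R : Subgroup G) : Set G) := by
      rw [hg]
      refine mul_mem (Subgroup.le_normalizer huR) ?_
      exact Subgroup.centralizer_le_normalizer _ (Subgroup.mem_centralizer_iff.2 fun r hr =>
        Subgroup.mem_centralizer_singleton_iff.1 (hRs hr))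
    refine ⟨c, ?_⟩
    replace hgn : g • R = R := Sylow.smul_eq_iff_mem_normalizer.2 hgn
    refine Sylow.smul_eq_iff_mem_normalizer.1 ?_
    rw [mul_smul, mul_smul, hc, hgn, ← hc, inv_smul_smul]
  haveI : (P : Subgroup G).Normal := Subgroup.normalizer_eq_top_iff.1 hN
  haveI : Unique (Sylow p G) := Sylow.unique_of_normal P ‹_›
  obtain ⟨H, hH⟩ := Subgroup.exists_right_complement'_of_coprime (N := (P : Subgroup G))
    P.card_coprime_index
  have hcard : Nat.card H = (P : Subgroup G).index := hH.symm.index_eq_card.symm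
  have hHp : ¬ p ∣ Nat.card H := hcard ▸ P.not_dvd_index
  have hcomm : ∀ a ∈ H, ∀ x ∈ (P : Subgroup G), x * a = a * x := by
    intro a ha x hx
    have hcop : (orderOf a).Coprime p := Nat.Coprime.symm (hp.coprime_iff_not_dvd.2 fun hd =>
      hHp (hd.trans (H.orderOf_dvd_natCard ha)))
    obtain ⟨R, -, hR⟩ := exists_sylow_centralized a 1
      (ncard_carrier_eq_index a ▸ h a hcop) (by simp) (k := 0) (one_pow _)
    rw [Subsingleton.elim R P] at hR
    exact Subgroup.mem_centralizer_singleton_iff.1 (hR hx)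
  refine ⟨inferInstance, H, ⟨fun a ha g => ?_⟩, hHp, hH.disjoint.eq_bot, hH.sup_eq_top⟩
  obtain ⟨⟨⟨x, hx⟩, ⟨b, hb⟩⟩, rfl, -⟩ := hH.existsUnique g
  have hb' := H.mul_mem (H.mul_mem hb ha) (H.inv_mem hb)
  show x * b * a * (x * b)⁻¹ ∈ H
  rw [show x * b * a * (x * b)⁻¹ = x * (b * a * b⁻¹) * x⁻¹ by group, hcomm _ hb' x hx,
    mul_inv_cancel_right]
  exact hb'

end Cfsg.Agent.S4035
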