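import Cfsg.Statements.S3192
import Mathlib
import Cfsg.Agent.Lib.Inv59.RankThree.Antichain
import Cfsg.Agent.Lib.Linear.Simple
import Cfsg.Agent.S2507

set_option autoImplicit false
open Cfsg

namespace Cfsg.Agent.S3192

open Cfsg.Agent.Lib.Inv59.RankThree

theorem index_set {G : Type*} [Group G] [Finite G] [IsSimpleGroup G] (hG : ¬ IsMulCommutative G) :
    {m : ℕ | ∃ x : G, x ∉ Subgroup.center G ∧ m = (Subgroup.centralizer ({x} : Set G)).index} =
      (fun n => Nat.card G / n) '' (cn '' ({1}ᶜ : Set G)) := by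
  ext m
  simp only [Set.mem_setOf_eq, Set.mem_image, Set.mem_compl_iff, Set.mem_singleton_iff,
    exists_exists_and_eq_and, center_bot hG, Subgroup.mem_bot]
  refine exists_congr fun x => and_congr_right fun _ => ?_
  rw [← cn_mul_index x, Nat.mul_div_cancel_left _ (cn_pos x), eq_comm]

theorem ncard_index_set {G : Type*} [Group G] [Finite G] [IsSimpleGroup G]
    (hG : ¬ IsMulCommutative G) :
    {m : ℕ | ∃ x : G, x ∉ Subgroup.center G ∧
      m = (Subgroup.centralizer ({x} : Set G)).index}.ncard = (cn '' ({1}ᶜ : Set G)).ncard := by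
  rw [index_set hG]
  refine Set.InjOn.ncard_image ?_
  rintro _ ⟨x, -, rfl⟩ _ ⟨y, -, rfl⟩ (h : Nat.card G / cn x = Nat.card G / cn y)
  have hi : ∀ z : G, Nat.card G / cn z = (Subgroup.centralizer ({z} : Set G)).index := fun z => by
    rw [← cn_mul_index z, Nat.mul_div_cancel_left _ (cn_pos z)]
  rw [hi, hi] at h
  refine Nat.eq_of_mul_eq_mul_right (Nat.pos_of_ne_zero (Subgroup.index_ne_zero_of_finite (H := Subgroup.centralizer ({x} : Set G)))) ?_
  rw [cn_mul_index x, h, cn_mul_index y]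

theorem index_set_iso {G H : Type*} [Group G] [Group H] (e : G ≃* H) :
    {m : ℕ | ∃ x : G, x ∉ Subgroup.center G ∧ m = (Subgroup.centralizer ({x} : Set G)).index} =
      {m : ℕ | ∃ x : H, x ∉ Subgroup.center H ∧ m = (Subgroup.centralizer ({x} : Set H)).index} := by
  have hC : ∀ x : G, (Subgroup.centralizer ({x} : Set G)).index =
      (Subgroup.centralizer ({e x} : Set H)).index := fun x => by
    rw [← Subgroup.index_map_equiv _ e]
    congr 1
    ext y
    obtain ⟨z, rfl⟩ := e.surjective y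
    simp [Subgroup.mem_map_equiv, Subgroup.mem_centralizer_singleton_iff, ← map_mul,
      e.injective.eq_iff]
  have hZ : ∀ x : G, e x ∈ Subgroup.center H ↔ x ∈ Subgroup.center G := fun x => by
    simp only [Subgroup.mem_center_iff]
    constructor
    · intro h g
      exact e.injective (by rw [map_mul, map_mul, h])
    · intro h g
      obtain ⟨z, rfl⟩ := e.surjective g
      rw [← map_mul, ← map_mul, h]
  ext m
  constructor
  · rintro ⟨x, hx, rfl⟩
    exact ⟨e x, fun h => hx ((hZ x).1 h), hC x⟩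
  · rintro ⟨y, hy, rfl⟩
    obtain ⟨x, rfl⟩ := e.surjective y
    exact ⟨x, fun h => hy ((hZ x).2 h), (hC x).symm⟩

theorem reverse {F : Type} [Field F] [Fintype F] {m : ℕ} (hm : 2 ≤ m)
    (hF : Fintype.card F = 2 ^ m) :
    IsSimpleGroup (Matrix.ProjectiveSpecialLinearGroup (Fin 2) F) ∧
    ¬ IsMulCommutative (Matrix.ProjectiveSpecialLinearGroup (Fin 2) F) ∧
    {n : ℕ | ∃ x : Matrix.ProjectiveSpecialLinearGroup (Fin 2) F,
      x ∉ Subgroup.center (Matrix.ProjectiveSpecialLinearGroup (Fin 2) F) ∧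
      n = (Subgroup.centralizer ({x} : Set (Matrix.ProjectiveSpecialLinearGroup (Fin 2) F))).index}.ncard
        = 3 := by
  have h4 : 4 ≤ Fintype.card F := by
    rw [hF]; calc 4 = 2 ^ 2 := by norm_num
      _ ≤ 2 ^ m := Nat.pow_le_pow_right (by norm_num) hm
  have h2 : 2 ∣ Fintype.card F := hF ▸ dvd_pow_self 2 (by omega)
  have h4' : 2 = 2 → 4 ≤ Nat.card F := fun _ => by rwa [Nat.card_eq_fintype_card]
  haveI := Cfsg.Agent.Lib.Linear.isSimpleGroup_PSL (F := F) (le_refl 2) h4'
  have hnab : ¬ IsMulCommutative (Matrix.ProjectiveSpecialLinearGroup (Fin 2) F) := by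
    intro h
    haveI : Nontrivial (Fin 2) := inferInstance
    obtain ⟨a, b, hab⟩ := Cfsg.Agent.Lib.Linear.exists_not_commute_PSL (F := F) (ι := Fin 2)
      (Cfsg.Agent.Lib.Linear.commutator_SL_eq_top le_rfl h4')
    exact hab (h.is_comm.comm a b)
  refine ⟨inferInstance, hnab, ?_⟩
  have hr := Cfsg.Agent.S2507.result h2 h4
  set q := Fintype.card F with hq
  set P := Matrix.ProjectiveSpecialLinearGroup (Fin 2) F
  haveI : Finite P := inferInstance
  have hq2 : q * (q - 1) < q ^ 2 - 1 ∧ q ^ 2 - 1 < q * (q + 1) ∧ 1 < q * (q - 1) := by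
    obtain ⟨r, hr⟩ : ∃ r, q = r + 2 := ⟨q - 2, by omega⟩
    rw [hr]
    have e1 : (r + 2) * (r + 2 - 1) = r * r + 3 * r + 2 := by
      rw [show r + 2 - 1 = r + 1 by omega]; ring
    have e2 : (r + 2) ^ 2 = r * r + 4 * r + 4 := by ring
    have e3 : (r + 2) * (r + 2 + 1) = r * r + 5 * r + 6 := by ring
    omega
  have hset : {n : ℕ | ∃ x : P, x ∉ Subgroup.center P ∧
      n = (Subgroup.centralizer ({x} : Set P)).index} =
      {q * (q - 1), q ^ 2 - 1, q * (q + 1)} := by
    ext n
    have h1 : n ∈ ({q * (q - 1), q ^ 2 - 1, q * (q + 1)} : Set ℕ) ↔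
        n ∈ ({1, q * (q - 1), q ^ 2 - 1, q * (q + 1)} : Set ℕ) ∧ n ≠ 1 := by
      simp only [Set.mem_insert_iff, Set.mem_singleton_iff]
      omega
    rw [h1, ← hr]
    simp only [Set.mem_setOf_eq, Set.mem_range]
    constructor
    · rintro ⟨x, hx, rfl⟩
      refine ⟨⟨x, rfl⟩, fun h => hx ?_⟩
      rw [Subgroup.mem_center_iff]
      intro g
      have : g ∈ Subgroup.centralizer ({x} : Set P) := Subgroup.index_eq_one.1 h ▸ Subgroup.mem_top g
      exact Subgroup.mem_centralizer_singleton_iff.1 this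
    · rintro ⟨⟨x, rfl⟩, hx⟩
      refine ⟨x, fun h => hx ?_, rfl⟩
      rw [Subgroup.index_eq_one]
      refine (Subgroup.eq_top_iff' _).2 fun g => ?_
      exact Subgroup.mem_centralizer_singleton_iff.2 (Subgroup.mem_center_iff.1 h g)
  rw [hset, Set.ncard_eq_three]
  exact ⟨_, _, _, hq2.1.ne, (hq2.1.trans hq2.2.1).ne, hq2.2.1.ne, rfl⟩

/-- Simple groups of conjugate type rank three. For a finite group G consider the set of indices of the centralizers of the non-central elements of G. Then G is a non-abelian simple group for which this set has exactly three members if and only if G is isomorphic to PSL(2, 2^m) for some m ≥ 2. -/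
theorem result (G : Type*) [Group G] [Finite G] :
    (IsSimpleGroup G ∧ ¬ IsMulCommutative G ∧
        Set.ncard {m : ℕ | ∃ x : G, x ∉ Subgroup.center G ∧ m = (Subgroup.centralizer ({x} : Set G)).index} = 3) ↔
      ∃ (m : ℕ) (F : Type) (_ : Field F) (_ : Fintype F), 2 ≤ m ∧ Fintype.card F = 2 ^ m ∧
        Nonempty (G ≃* Matrix.ProjectiveSpecialLinearGroup (Fin 2) F) := by
  constructor
  · rintro ⟨hs, hG, hV⟩
    haveI := hs
    rw [ncard_index_set hG] at hV
    exact forward hG (fun x y hx hy h => antichain hG hV hx hy h) hV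
  · rintro ⟨m, F, hF, hFt, hm, hcard, ⟨e⟩⟩
    obtain ⟨hs, hnab, hn⟩ := reverse hm hcard
    haveI := hs
    refine ⟨e.isSimpleGroup, fun h => hnab ⟨⟨fun a b => ?_⟩⟩, ?_⟩
    · have := congrArg e (h.is_comm.comm (e.symm a) (e.symm b))
      simpa using this
    · rw [index_set_iso e]
      exact hn

end Cfsg.Agent.S3192
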