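import Cfsg.Statements.S3193
import Cfsg.Agent.Lib.RankFour54.Main
import Cfsg.Agent.Lib.RankFour54.Exclude
import Cfsg.Agent.Lib.PSLTwo.ClassSizeValues
import Cfsg.Agent.Lib.Linear.Simple
import Cfsg.Agent.S0252
import Cfsg.Agent.S0253

set_option autoImplicit false
set_option linter.style.haveILetI false
open Cfsg

namespace Cfsg.Agent.S3193

open Cfsg.Agent.Lib Cfsg.Agent.Lib.ClassSizes.Basic

/-- The four class sizes of `PSL₂(q)`, `q ≥ 7` odd. -/
theorem reverse {F : Type} [Field F] [Fintype F] (hodd : Odd (Fintype.card F))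
    (h7 : 7 ≤ Fintype.card F) :
    IsSimpleGroup (Matrix.ProjectiveSpecialLinearGroup (Fin 2) F) ∧
    ¬ IsMulCommutative (Matrix.ProjectiveSpecialLinearGroup (Fin 2) F) ∧
    {n : ℕ | ∃ x : Matrix.ProjectiveSpecialLinearGroup (Fin 2) F,
      x ∉ Subgroup.center (Matrix.ProjectiveSpecialLinearGroup (Fin 2) F) ∧
      n = (Subgroup.centralizer ({x} : Set (Matrix.ProjectiveSpecialLinearGroup (Fin 2) F))).index}.ncard
        = 4 := by
  have h2 : ¬ 2 ∣ Fintype.card F := fun h => Nat.not_even_iff_odd.2 hodd (even_iff_two_dvd.2 h)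
  have hs : IsSimpleGroup (Matrix.ProjectiveSpecialLinearGroup (Fin 2) F) :=
    Linear.isSimpleGroup_PSL le_rfl (fun _ => by rw [Nat.card_eq_fintype_card]; omega)
  set q := Fintype.card F with hq
  obtain ⟨A, n0, hA, hn0, hzero, hA3, hn⟩ : ∃ A n0, A * (2 * n0) = q * (q - 1) * (q + 1) ∧ 0 < n0 ∧
      (∀ g : Matrix.SpecialLinearGroup (Fin 2) F, PSLTwo.Sylow.NonScalar g →
        PSLTwo.Sylow.slTr g = 0 → Nat.card (SL2Tori.torus g) = n0) ∧
      2 * A + q ≤ q * (q + 1) + q ∧ (n0 = q - 1 ∨ n0 = q + 1) := by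
    rcases (show q % 4 = 1 ∨ q % 4 = 3 by omega) with h | h
    · obtain ⟨k, hk⟩ : ∃ k, q = 2 * k + 1 := hodd
      refine ⟨q * (k + 1), q - 1, ?_, by omega, fun g hg ht =>
        PSLTwo.ClassSizeValues.torus_zero_one h2 h hg ht, ?_, Or.inl rfl⟩
      · rw [hk, Nat.add_sub_cancel]; ring
      · rw [hk]; nlinarith
    · obtain ⟨k, hk⟩ : ∃ k, q = 2 * k + 1 := hodd
      refine ⟨q * k, q + 1, ?_, by omega, fun g hg ht =>
        PSLTwo.ClassSizeValues.torus_zero_three h hg ht, ?_, Or.inr rfl⟩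
      · rw [hk, Nat.add_sub_cancel]; ring
      · rw [hk]; nlinarith
  have hr := PSLTwo.ClassSizeValues.odd_range h2 h7 A n0 hA hn0 hzero
  rw [← hq] at hr
  have hq2 : q ^ 2 = q * q := sq q
  have hm : q * (q - 1) = q * q - q := by rw [Nat.mul_sub, mul_one]
  have hp : q * (q + 1) = q * q + q := by rw [mul_add, mul_one]
  have h49 : 7 * q ≤ q * q := Nat.mul_le_mul_right _ h7
  have hA' : 2 * A = q * (q + 1) ∨ 2 * A = q * (q - 1) := by
    rcases hn with rfl | rfl
    · left
      refine Nat.eq_of_mul_eq_mul_right (show 0 < q - 1 by omega) ?_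
      rw [show 2 * A * (q - 1) = A * (2 * (q - 1)) by ring, hA]; ring
    · right
      refine Nat.eq_of_mul_eq_mul_right (show 0 < q + 1 by omega) ?_
      rw [show 2 * A * (q + 1) = A * (2 * (q + 1)) by ring, hA]
  have h8 : 2 * ((q ^ 2 - 1) / 2) = q * q - 1 := by
    obtain ⟨k, hk⟩ : ∃ k, q = 2 * k + 1 := hodd
    have e : q * q = 2 * (2 * k * k + 2 * k) + 1 := by rw [hk]; ring
    rw [hq2]; omega
  have hd : (q ^ 2 - 1) / 2 ≠ A ∧ (q ^ 2 - 1) / 2 ≠ q * (q - 1) ∧ (q ^ 2 - 1) / 2 ≠ q * (q + 1) ∧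
      A ≠ q * (q - 1) ∧ A ≠ q * (q + 1) ∧ q * (q - 1) ≠ q * (q + 1) ∧
      1 < A ∧ 1 < (q ^ 2 - 1) / 2 ∧ 1 < q * (q - 1) ∧ 1 < q * (q + 1) := by
    rcases hA' with h | h <;> omega
  refine ⟨hs, fun hab => ?_, ?_⟩
  · have hall : ∀ g : Matrix.ProjectiveSpecialLinearGroup (Fin 2) F,
        (Subgroup.centralizer ({g} : Set (Matrix.ProjectiveSpecialLinearGroup (Fin 2) F))).index = 1 := by
      intro g
      rw [Subgroup.index_eq_one, Subgroup.eq_top_iff']
      exact fun y => mem_cen.2 (hab.is_comm.comm g y)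
    obtain ⟨g, hg⟩ : A ∈ Set.range (fun g : Matrix.ProjectiveSpecialLinearGroup (Fin 2) F =>
        (Subgroup.centralizer ({g} : Set (Matrix.ProjectiveSpecialLinearGroup (Fin 2) F))).index) := by
      rw [hr]; simp
    have h1 : A = 1 := hg.symm.trans (hall g)
    omega
  have hset : {n : ℕ | ∃ x : Matrix.ProjectiveSpecialLinearGroup (Fin 2) F,
      x ∉ Subgroup.center (Matrix.ProjectiveSpecialLinearGroup (Fin 2) F) ∧
      n = (Subgroup.centralizer ({x} : Set (Matrix.ProjectiveSpecialLinearGroup (Fin 2) F))).index} =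
      {(q ^ 2 - 1) / 2, A, q * (q - 1), q * (q + 1)} := by
    ext n
    constructor
    · rintro ⟨x, hx, rfl⟩
      have hm' : (Subgroup.centralizer ({x} : Set (Matrix.ProjectiveSpecialLinearGroup (Fin 2) F))).index
          ∈ ({1, (q ^ 2 - 1) / 2, A, q * (q - 1), q * (q + 1)} : Set ℕ) := hr ▸ ⟨x, rfl⟩
      rcases hm' with h | h
      · refine absurd (Subgroup.mem_center_iff.2 fun y => ?_) hx
        exact (mem_cen.1 ((Subgroup.index_eq_one.1 h).symm ▸ Subgroup.mem_top y)).symm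
      · exact h
    · intro hn'
      obtain ⟨x, rfl⟩ : n ∈ Set.range (fun g : Matrix.ProjectiveSpecialLinearGroup (Fin 2) F =>
          (Subgroup.centralizer ({g} : Set (Matrix.ProjectiveSpecialLinearGroup (Fin 2) F))).index) :=
        hr.symm ▸ Or.inr hn'
      refine ⟨x, fun hc => ?_, rfl⟩
      have h1 : (Subgroup.centralizer ({x} : Set (Matrix.ProjectiveSpecialLinearGroup (Fin 2) F))).index = 1 := by
        rw [Subgroup.index_eq_one, Subgroup.eq_top_iff']
        exact fun y => mem_cen.2 (Subgroup.mem_center_iff.1 hc y).symm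
      simp only [h1, Set.mem_insert_iff, Set.mem_singleton_iff] at hn'
      omega
  obtain ⟨d1, d2, d3, d4, d5, d6, -⟩ := hd
  rw [hset, Set.ncard_insert_of_notMem (by simp [d1, d2, d3]),
    Set.ncard_insert_of_notMem (by simp [d4, d5]), Set.ncard_pair d6]

/-- A simple group with four centraliser orders is some `PSL₂(q)`, `q ≥ 7` odd. -/
theorem forward {G : Type*} [Group G] [Finite G] [IsSimpleGroup G] (hG : ¬ IsMulCommutative G)
    (hV : (RankFour54.Cross.vals G).ncard = 4) :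
    ∃ (F : Type) (_ : Field F) (_ : Fintype F), Odd (Fintype.card F) ∧ 7 ≤ Fintype.card F ∧
      Nonempty (G ≃* Matrix.ProjectiveSpecialLinearGroup (Fin 2) F) := by
  rcases Cfsg.Agent.S3214.result hG (fun t ht => RankFour54.Main.npc hG hV ht) with
    ⟨F, hF, hFt, h3, ⟨e⟩⟩ | ⟨F, hF, hFt, m, hm, hc, ⟨e⟩⟩ | ⟨⟨e⟩⟩ | ⟨F, hF, hFt, hc, ⟨e⟩⟩
  · by_cases h2 : 2 ∣ Fintype.card F
    · exact (RankFour54.Main.not_even hG hV h2 (by omega) e).elim
    by_cases h5 : Fintype.card F = 5
    · exfalso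
      let K : Type := GaloisField 2 2
      letI : Fintype K := Fintype.ofFinite K
      have hK : Fintype.card K = 4 := by
        rw [← Nat.card_eq_fintype_card, GaloisField.card 2 2 two_ne_zero]; norm_num
      obtain ⟨e4⟩ := Cfsg.Agent.S0252.result (F := K) hK
      obtain ⟨e5⟩ := Cfsg.Agent.S0253.result (F := F) h5
      exact RankFour54.Main.not_even hG hV (F := K) (by rw [hK]; norm_num) hK.ge
        (e.trans (e5.trans e4.symm))
    exact ⟨F, hF, hFt, Nat.odd_iff.2 (by omega), by omega, ⟨e⟩⟩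
  · exfalso
    have h : LieTwisted.Suzuki.IsSzField F m := ⟨hc⟩
    rw [RankFour54.Exclude.vals_congr (e.trans (LieTwisted.Suzuki.szEquiv h hm).symm)] at hV
    exact RankFour54.Exclude.suzuki h hm hV
  · exfalso
    rw [RankFour54.Exclude.vals_congr e] at hV
    exact RankFour54.Exclude.alt_seven hV
  · exfalso
    obtain ⟨σ⟩ := PSL34Orders.exists_fieldEquiv F hc
    obtain ⟨e'⟩ := Golay.PSL34.psl_congr σ
    rw [RankFour54.Exclude.vals_congr (e.trans e')] at hV
    exact RankFour54.Exclude.psl34 hV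

/-- Simple groups of conjugate type rank four. For a finite group G consider the set of indices of the centralizers of the non-central elements of G. Then G is a non-abelian simple group for which this set has exactly four members if and only if G is isomorphic to PSL(2, q) for some odd prime power q ≥ 7. -/
theorem result (G : Type*) [Group G] [Finite G] :
    (IsSimpleGroup G ∧ ¬ IsMulCommutative G ∧
        Set.ncard {m : ℕ | ∃ x : G, x ∉ Subgroup.center G ∧ m = (Subgroup.centralizer ({x} : Set G)).index} = 4) ↔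
      ∃ (F : Type) (_ : Field F) (_ : Fintype F), Odd (Fintype.card F) ∧ 7 ≤ Fintype.card F ∧
        Nonempty (G ≃* Matrix.ProjectiveSpecialLinearGroup (Fin 2) F) := by
  constructor
  · rintro ⟨hs, hG, hV⟩
    haveI := hs
    rw [Cfsg.Agent.S3192.ncard_index_set hG] at hV
    exact forward hG hV
  · rintro ⟨F, hF, hFt, hodd, h7, ⟨e⟩⟩
    obtain ⟨hs, hnab, hn⟩ := reverse (F := F) hodd h7
    haveI := hs
    refine ⟨e.isSimpleGroup, fun h => hnab ⟨⟨fun a b => ?_⟩⟩, ?_⟩
    · have := congrArg e (h.is_comm.comm (e.symm a) (e.symm b))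
      simpa using this
    · rw [Cfsg.Agent.S3192.index_set_iso e]
      exact hn

end Cfsg.Agent.S3193
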