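import Cfsg.Statements.S0515
import Cfsg.Agent.Lib.Signalizer.SolvableAction

set_option autoImplicit false
open Cfsg

namespace Cfsg.Agent.S0515

theorem result {X : Type*} [Group X] [Finite X]
    (p : ℕ) [Fact p.Prime] (A K : Subgroup X) (hA : IsMulCommutative A) (hAp : ∀ a ∈ A, a ^ p = 1)
    (hA3 : p ^ 3 ≤ Nat.card A) (hK : (Nat.card K).Coprime p) (hAK : A ≤ Subgroup.normalizer (K : Set X))
    (hC : ∀ a ∈ A, a ≠ 1 → Group.IsSolvable ((K ⊓ Subgroup.centralizer ({a} : Set X) : Subgroup X))) :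
    Group.IsSolvable K := by
  exact Lib.Signalizer.SolvableAction.isSolvable_of_completes (⟨hA, hAp⟩ : IsElementaryAbelian p A) hA3 hAK hK
    (Lib.Signalizer.completes (⟨hA, hAp⟩ : IsElementaryAbelian p A) hA3
      (Lib.Signalizer.SolvableAction.isSolvableSignalizerFunctor (⟨hA, hAp⟩ : IsElementaryAbelian p A) hAK hK hC))

end Cfsg.Agent.S0515
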