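import Cfsg.Statements.S5045
import Cfsg.Agent.Lib.Elem70.RootInvolutions
-- import your own Cfsg.Agent.* helpers here

set_option autoImplicit false
open Cfsg

namespace Cfsg.Agent.S5045

/-- Let G be a finite group generated by a set D of root involutions, and W the set of members of D whose product with every other member of D has even order or is trivial (the isolated vertices of the odd-order-product graph on D). Then W is conjugation-invariant and generates a normal 2-subgroup of G meeting D in exactly W; the commutator of two members of D lying in different connected components of that graph, each with more than one member, lies in the subgroup generated by W; and for a in such a component, every member of D commuting with a, different from a and with product with a in D, lies in that component or in W. -/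
theorem result {G : Type*} [Group G] [Finite G] {D : Set G} (hD : Cfsg.IsRootInvolutionSet D) :
    (∀ w ∈ {w | Cfsg.IsIsolatedElem (Cfsg.OddAdj D) D w}, ∀ g : G, g * w * g⁻¹ ∈ {w | Cfsg.IsIsolatedElem (Cfsg.OddAdj D) D w}) ∧
    (Subgroup.closure {w | Cfsg.IsIsolatedElem (Cfsg.OddAdj D) D w}).Normal ∧
    IsPGroup 2 ↥(Subgroup.closure {w | Cfsg.IsIsolatedElem (Cfsg.OddAdj D) D w}) ∧
    (Subgroup.closure {w | Cfsg.IsIsolatedElem (Cfsg.OddAdj D) D w} : Set G) ∩ D = {w | Cfsg.IsIsolatedElem (Cfsg.OddAdj D) D w} ∧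
    (∀ a ∈ D, ∀ b ∈ D, (∃ a' ∈ Cfsg.elemComponentOf (Cfsg.OddAdj D) D a, a' ≠ a) →
      (∃ b' ∈ Cfsg.elemComponentOf (Cfsg.OddAdj D) D b, b' ≠ b) →
      Cfsg.elemComponentOf (Cfsg.OddAdj D) D a ≠ Cfsg.elemComponentOf (Cfsg.OddAdj D) D b →
        a * b * a⁻¹ * b⁻¹ ∈ Subgroup.closure {w | Cfsg.IsIsolatedElem (Cfsg.OddAdj D) D w}) ∧
    (∀ a ∈ D, (∃ a' ∈ Cfsg.elemComponentOf (Cfsg.OddAdj D) D a, a' ≠ a) →
      Cfsg.productPartners D a ⊆ Cfsg.elemComponentOf (Cfsg.OddAdj D) D a ∪ {w | Cfsg.IsIsolatedElem (Cfsg.OddAdj D) D w}) := by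
  open Cfsg.Agent.Lib.Elem70.RootInvolutions in
  have hW : ∀ w ∈ {w | Cfsg.IsIsolatedElem (Cfsg.OddAdj D) D w}, ∀ g : G,
      g * w * g⁻¹ ∈ {w | Cfsg.IsIsolatedElem (Cfsg.OddAdj D) D w} :=
    fun w hw g => isolated_conj hD hw g
  open Cfsg.Agent.Lib.Elem70.RootInvolutions in
  have hle : Subgroup.closure {w | Cfsg.IsIsolatedElem (Cfsg.OddAdj D) D w} ≤ Cfsg.pCore 2 G :=
    (Subgroup.closure_le _).2 fun w hw => isolated_mem_pCore hD hw
  have hp : IsPGroup 2 ↥(Subgroup.closure {w | Cfsg.IsIsolatedElem (Cfsg.OddAdj D) D w}) :=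
    (Cfsg.Agent.Lib.PSolvable.isPGroup_pCore).to_le hle
  haveI hn : (Subgroup.closure {w | Cfsg.IsIsolatedElem (Cfsg.OddAdj D) D w}).Normal := by
    refine ⟨fun x hx g => ?_⟩
    have h : (Subgroup.closure {w | Cfsg.IsIsolatedElem (Cfsg.OddAdj D) D w}).map
        (MulAut.conj g).toMonoidHom ≤
          Subgroup.closure {w | Cfsg.IsIsolatedElem (Cfsg.OddAdj D) D w} := by
      rw [MonoidHom.map_closure, Subgroup.closure_le]
      rintro _ ⟨w, hw, rfl⟩
      exact Subgroup.subset_closure (hW w hw g)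
    exact h ⟨x, hx, rfl⟩
  refine ⟨hW, hn, hp, Set.ext fun d => ⟨?_, fun hd => ⟨Subgroup.subset_closure hd, hd.1⟩⟩, ?_, ?_⟩
  · rintro ⟨hdc, hdD⟩
    exact Cfsg.Agent.Lib.Elem70.RootInvolutions.isolated_of_mem_normal hD hp hdD hdc
  · open Cfsg.Agent.Lib.Elem70.RootInvolutions in
    intro a ha b hb hna hnb hne
    have hadj : ∀ d, (∃ d' ∈ Cfsg.elemComponentOf (Cfsg.OddAdj D) D d, d' ≠ d) →
        ∃ x, Cfsg.OddAdj D x d := by
      rintro d ⟨d', ⟨-, hr⟩, hd'⟩
      rcases hr.cases_head with h | ⟨x, hx, -⟩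
      · exact absurd h.symm hd'
      · exact ⟨x, adj_symm hD hx⟩
    rw [inv_self hD ha, inv_self hD hb, mul_assoc (a * b), ← sq]
    rcases hD.pair a ha b hb with hc | ho | ⟨h4, hcD⟩
    · rw [(show Commute a b from hc).mul_pow, sq, sq, mul_self hD ha, mul_self hD hb, one_mul]
      exact Subgroup.one_mem _
    · refine absurd ?_ hne
      by_cases hab : a = b
      · rw [hab]
      · exact component_eq hD (Relation.ReflTransGen.single ⟨ha, hb, hab, ho⟩)
    · refine Subgroup.subset_closure ?_
      have hp4 : (a * b) ^ 4 = 1 := by rw [← h4, pow_orderOf_eq_one]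
      have hs := sq_comm_of_pow_four (mul_self hD ha) (mul_self hD hb) hp4
      have h4' : orderOf (b * a) = 4 := by
        rw [← inv_self hD hb, ← inv_self hD ha, ← mul_inv_rev, orderOf_inv, h4]
      have hca := productPartners_subset hD ha (hadj a hna) (sq_mem_productPartners hD ha hb h4 hcD)
      have hcb := productPartners_subset hD hb (hadj b hnb)
        (sq_mem_productPartners hD hb ha h4' (hs ▸ hcD))
      rw [hs] at hcb
      rcases hca with h1 | h1
      · rcases hcb with h2 | h2
        · exact absurd ((component_eq hD h1.2).trans (component_eq hD h2.2).symm) hne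
        · exact h2
      · exact h1
  · open Cfsg.Agent.Lib.Elem70.RootInvolutions in
    intro a ha hna e he
    obtain ⟨d', ⟨-, hr⟩, hd'⟩ := hna
    rcases hr.cases_head with h | ⟨x, hx, -⟩
    · exact absurd h.symm hd'
    · exact productPartners_subset hD ha ⟨x, adj_symm hD hx⟩ he

end Cfsg.Agent.S5045
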