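import Cfsg.Statements.S5048
import Cfsg.Agent.Lib.RootInv12.Basic

set_option autoImplicit false
open Cfsg

namespace Cfsg.Agent.S5048

open Cfsg.Agent.Lib.RootInv12 Cfsg.Agent.Lib.Elem70.RootInvolutions Cfsg.Agent.Lib.PSolvable

/-- Let G be a finite group generated by a set D of root involutions whose odd-order-product graph is connected, with some product of two different commuting members of D again in D. Then the largest solvable normal subgroup of G is the preimage of the centre of G/O₂(G), and the quotient of G by it is a simple group. -/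
theorem result {G : Type*} [Group G] [Finite G] {D : Set G} (hD : Cfsg.IsRootInvolutionSet D)
    (hc : Cfsg.IsConnectedSet (Cfsg.OddAdj D) D) (hDD : (D ∩ Cfsg.commutingProducts D).Nonempty) :
    Cfsg.solvableRadical G = Cfsg.twoZCore G ∧ IsSimpleGroup (G ⧸ Cfsg.twoZCore G) := by
  classical
  have hcl := exists_conj_of_connected hD hc
  obtain ⟨-, h₁, a₀, ha₀, b₀, hb₀, hab, hne, rfl⟩ := hDD
  -- every member is the product of two commuting members
  have hline : ∀ a ∈ D, ∃ e ∈ D, Commute e a ∧ e * a ∈ D := by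
    intro a ha
    obtain ⟨g, rfl⟩ := hcl a₀ ha₀ a ha
    refine ⟨g * b₀ * g⁻¹, hD.conj_mem b₀ hb₀ g, commute_conj (Commute.symm hab) g, ?_⟩
    rw [← conj_mul', ← hab]
    exact hD.conj_mem _ h₁ g
  -- a normal subgroup missing `D` is central modulo the largest normal two-subgroup
  have hsmall : ∀ N : Subgroup G, N.Normal → (∀ d ∈ D, d ∉ N) → N ≤ Cfsg.twoZCore G := by
    intro N hN hND
    have key : ∀ a ∈ D, ∀ e ∈ D, Commute e a → e * a ∈ D → ∀ n ∈ N,
        Commute e (n * a * n⁻¹) := by
      intro a ha e he hea heaD n hn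
      have hq : ∀ k : ℕ, QuotientGroup.mk' N ((e * (n * a * n⁻¹)) ^ k) =
          QuotientGroup.mk' N ((e * a) ^ k) := by
        intro k
        have : QuotientGroup.mk' N n = 1 := (QuotientGroup.eq_one_iff n).mpr hn
        simp only [map_pow, map_mul, map_inv, this, one_mul, inv_one, mul_one]
      have hmem : ∀ k : ℕ, (e * (n * a * n⁻¹)) ^ k ∈ N ↔ (e * a) ^ k ∈ N := by
        intro k
        rw [← QuotientGroup.eq_one_iff (N := N), ← QuotientGroup.eq_one_iff (N := N)]
        exact Eq.congr_left (hq k)
      rcases hD.pair e he _ (hD.conj_mem a ha n) with h | h | ⟨-, h⟩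
      · exact h
      · exfalso
        obtain ⟨m, hm⟩ := h
        have := (hmem (2 * m + 1)).mp (by rw [← hm, pow_orderOf_eq_one]; exact one_mem _)
        rw [pow_succ, pow_mul, sq, mul_self hD heaD, one_pow, one_mul] at this
        exact hND _ heaD this
      · exfalso
        refine hND _ h ((hmem 2).mpr ?_)
        rw [sq, mul_self hD heaD]
        exact one_mem _
    have hself : ∀ a ∈ D, ∀ n ∈ N, Commute a (n * a * n⁻¹) := by
      intro a ha n hn
      obtain ⟨e, he, hea, heaD⟩ := hline a ha
      have h1 := key a ha e he hea heaD n hn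
      have e1 : e * a * a = e := by rw [mul_assoc, mul_self hD ha, mul_one]
      have h2 := key a ha (e * a) heaD (hea.mul_left rfl) (by rw [e1]; exact he) n hn
      have := h1.mul_left h2
      rwa [← mul_assoc, mul_self hD he, one_mul] at this
    have hO : ∀ a ∈ D, ∀ n ∈ N, n * a * n⁻¹ * a⁻¹ ∈ Cfsg.pCore 2 G := by
      intro a ha n hn
      haveI := hN
      set E := Subgroup.closure {y : G | ∃ m ∈ N, y = m * a * m⁻¹} with hE
      have hcomm : ∀ y ∈ E, ∀ y' ∈ E, Commute y y' := by
        have hg : ∀ m ∈ N, ∀ m' ∈ N, Commute (m * a * m⁻¹) (m' * a * m'⁻¹) := by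
          intro m hm m' hm'
          have := commute_conj (hself a ha (m⁻¹ * m') (mul_mem (inv_mem hm) hm')) m
          rwa [conj_conj m (m⁻¹ * m'), mul_inv_cancel_left] at this
        have h1 : ∀ m ∈ N, E ≤ Subgroup.centralizer {m * a * m⁻¹} := by
          intro m hm
          rw [hE, Subgroup.closure_le]
          rintro _ ⟨m', hm', rfl⟩
          exact Subgroup.mem_centralizer_singleton_iff.mpr (hg m' hm' m hm).eq
        intro y hy y' hy'
        have h2 : E ≤ Subgroup.centralizer {y'} := by
          rw [hE, Subgroup.closure_le]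
          rintro _ ⟨m, hm, rfl⟩
          exact Subgroup.mem_centralizer_singleton_iff.mpr
            (Subgroup.mem_centralizer_singleton_iff.mp (h1 m hm hy')).symm
        exact Subgroup.mem_centralizer_singleton_iff.mp (h2 hy)
      have hsq : ∀ y ∈ E, y * y = 1 := by
        intro y hy
        induction hy using Subgroup.closure_induction with
        | mem y hy => obtain ⟨m, -, rfl⟩ := hy; exact mul_self hD (hD.conj_mem a ha m)
        | one => rw [one_mul]
        | mul p q hp hq ihp ihq =>
          rw [mul_assoc, ← mul_assoc q, (hcomm q hq p hp).eq, mul_assoc, ihq, mul_one, ihp]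
        | inv p _ ih => rw [← mul_inv_rev, ih, inv_one]
      set M := E.subgroupOf N with hM
      haveI hMn : M.Normal := by
        refine ⟨fun m hm g => ?_⟩
        rw [hM, Subgroup.mem_subgroupOf] at hm ⊢
        have hle : E.map (MulAut.conj (g : G)).toMonoidHom ≤ E := by
          rw [hE, MonoidHom.map_closure, Subgroup.closure_le]
          rintro _ ⟨_, ⟨k, hk, rfl⟩, rfl⟩
          exact Subgroup.subset_closure ⟨g * k, mul_mem g.2 hk, by
            show (g : G) * (k * a * k⁻¹) * (g : G)⁻¹ = _
            rw [conj_conj]⟩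
        exact hle ⟨_, hm, rfl⟩
      have hM2 : IsPGroup 2 ↥M := fun m => ⟨1, by
        apply Subtype.ext; apply Subtype.ext
        have := hsq _ (Subgroup.mem_subgroupOf.mp m.2)
        simpa [sq] using this⟩
      have hmemN : n * a * n⁻¹ * a⁻¹ ∈ N := by
        rw [show n * a * n⁻¹ * a⁻¹ = n * (a * n⁻¹ * a⁻¹) by group]
        exact mul_mem hn (hN.conj_mem _ (inv_mem hn) a)
      have hmemE : n * a * n⁻¹ * a⁻¹ ∈ E := mul_mem (Subgroup.subset_closure ⟨n, hn, rfl⟩)
        (inv_mem (Subgroup.subset_closure ⟨1, one_mem _, by simp⟩))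
      exact pCore_map_le_of_normal N ⟨⟨_, hmemN⟩, le_pCore hMn hM2 hmemE, rfl⟩
    intro n hn
    rw [Cfsg.twoZCore, Subgroup.mem_comap, Subgroup.mem_center_iff]
    have hle : (⊤ : Subgroup G) ≤ (Subgroup.centralizer
        {QuotientGroup.mk' (Cfsg.pCore 2 G) n}).comap (QuotientGroup.mk' (Cfsg.pCore 2 G)) := by
      rw [← hD.generates, Subgroup.closure_le]
      intro a ha
      refine Subgroup.mem_centralizer_singleton_iff.mpr ?_
      have h := (QuotientGroup.eq_one_iff (N := Cfsg.pCore 2 G) _).mpr (hO a ha n hn)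
      have h' : QuotientGroup.mk' (Cfsg.pCore 2 G) n * QuotientGroup.mk' _ a *
          (QuotientGroup.mk' _ n)⁻¹ * (QuotientGroup.mk' _ a)⁻¹ = 1 := by
        simpa using h
      rw [mul_inv_eq_one, mul_inv_eq_iff_eq_mul] at h'
      exact h'.symm
    intro g
    obtain ⟨g, rfl⟩ := QuotientGroup.mk'_surjective _ g
    exact Subgroup.mem_centralizer_singleton_iff.mp (hle (Subgroup.mem_top g))
  -- members are not in the candidate radical
  have hZ : ∀ d ∈ D, d ∉ Cfsg.twoZCore G := by
    intro a ha haZ
    rw [Cfsg.twoZCore, Subgroup.mem_comap, Subgroup.mem_center_iff] at haZ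
    obtain ⟨e, he, hea, heaD⟩ := hline a ha
    have hall : ∀ y ∈ D, QuotientGroup.mk' (Cfsg.pCore 2 G) y = QuotientGroup.mk' _ a := by
      intro y hy
      obtain ⟨g, rfl⟩ := hcl a ha y hy
      rw [map_mul, map_mul, map_inv, haZ, mul_inv_cancel_right]
    have h1 := hall _ heaD
    rw [map_mul, hall e he, mul_eq_left] at h1
    have haO : a ∈ Cfsg.pCore 2 G := (QuotientGroup.eq_one_iff a).mp h1
    have hiso := isolated_of_mem_normal hD (Q := Cfsg.pCore 2 G) isPGroup_pCore ha haO
    rcases (hc a ha e he).cases_head with h | ⟨y, hy, -⟩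
    · subst h; exact ne_one hD heaD (mul_self hD ha)
    · exact ((isolated_iff hD).mp hiso).2 y hy
  -- dichotomy
  have hdich : ∀ N : Subgroup G, N.Normal → N = ⊤ ∨ N ≤ Cfsg.twoZCore G := by
    intro N hN
    by_cases h : ∃ d ∈ D, d ∈ N
    · left
      obtain ⟨d, hd, hdN⟩ := h
      rw [eq_top_iff, ← hD.generates, Subgroup.closure_le]
      intro y hy
      obtain ⟨g, rfl⟩ := hcl d hd y hy
      exact hN.conj_mem d hdN g
    · right
      push Not at h
      exact hsmall N hN h
  -- the group is not soluble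
  haveI : Nontrivial G := ⟨⟨a₀, 1, ne_one hD ha₀⟩⟩
  have hns : ¬ Group.IsSolvable G := by
    intro hs
    have ha0c : a₀ ∈ commutator G := by
      obtain ⟨e, he, hea, heaD⟩ := hline a₀ ha₀
      have hall : ∀ y ∈ D, Abelianization.of y = Abelianization.of a₀ := by
        intro y hy
        obtain ⟨g, rfl⟩ := hcl a₀ ha₀ y hy
        rw [map_mul, map_mul, map_inv, mul_comm (Abelianization.of g), mul_inv_cancel_right]
      have h1 := hall _ heaD
      rw [map_mul, hall e he, mul_eq_left] at h1
      rwa [← Abelianization.ker_of G, MonoidHom.mem_ker]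
    have htop : commutator G = ⊤ := by
      rw [eq_top_iff, ← hD.generates, Subgroup.closure_le]
      intro y hy
      obtain ⟨g, rfl⟩ := hcl a₀ ha₀ y hy
      exact (inferInstance : (commutator G).Normal).conj_mem _ ha0c g
    exact (Group.IsSolvable.commutator_lt_top_of_nontrivial G).ne htop
  constructor
  · refine le_antisymm (sSup_le ?_) (le_sSup ⟨inferInstance, ?_⟩)
    · rintro N ⟨hN, hs⟩
      rcases hdich N hN with rfl | h
      · exact absurd (Group.isSolvable_of_surjective
          (f := (Subgroup.topEquiv : ↥(⊤ : Subgroup G) ≃* G).toMonoidHom)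
          Subgroup.topEquiv.surjective) hns
      · exact h
    · let φ : ↥(Cfsg.twoZCore G) →* ↥(Subgroup.center (G ⧸ Cfsg.pCore 2 G)) :=
        ((QuotientGroup.mk' (Cfsg.pCore 2 G)).comp (Cfsg.twoZCore G).subtype).codRestrict _
          fun y => y.2
      haveI : Group.IsNilpotent ↥(Cfsg.pCore 2 G) := (isPGroup_pCore (p := 2) (G := G)).isNilpotent
      haveI : Group.IsSolvable ↥(Subgroup.center (G ⧸ Cfsg.pCore 2 G)) :=
        Group.isSolvable_of_comm fun p q => Subtype.ext (Subgroup.mem_center_iff.mp q.2 p)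
      have hle : Cfsg.pCore 2 G ≤ Cfsg.twoZCore G := fun y hy => by
        rw [Cfsg.twoZCore, Subgroup.mem_comap]
        rw [show QuotientGroup.mk' (Cfsg.pCore 2 G) y = 1 from (QuotientGroup.eq_one_iff y).mpr hy]
        exact one_mem _
      refine Group.isSolvable_of_ker_le_range (Subgroup.inclusion hle) φ ?_
      intro y hy
      have : QuotientGroup.mk' (Cfsg.pCore 2 G) (y : G) = 1 := congrArg Subtype.val hy
      exact ⟨⟨y, (QuotientGroup.eq_one_iff _).mp this⟩, rfl⟩
  · haveI : Nontrivial (G ⧸ Cfsg.twoZCore G) :=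
      ⟨⟨(a₀ : G ⧸ Cfsg.twoZCore G), 1, fun h => hZ a₀ ha₀ ((QuotientGroup.eq_one_iff a₀).mp h)⟩⟩
    refine ⟨fun K hK => ?_⟩
    haveI := hK
    have hsurj := QuotientGroup.mk'_surjective (Cfsg.twoZCore G)
    rcases hdich (K.comap (QuotientGroup.mk' (Cfsg.twoZCore G))) inferInstance with h | h
    · right
      rw [← Subgroup.map_comap_eq_self_of_surjective hsurj K, h,
        Subgroup.map_top_of_surjective _ hsurj]
    · left
      rw [← Subgroup.map_comap_eq_self_of_surjective hsurj K, Subgroup.map_eq_bot_iff,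
        QuotientGroup.ker_mk']
      exact h

end Cfsg.Agent.S5048
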