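import Cfsg.Statements.S5046
import Cfsg.Agent.Lib.RootInv.SameOdd
open Cfsg.Agent.Lib.RootInv Cfsg.Agent.Lib.Elem70

set_option autoImplicit false
open Cfsg

namespace Cfsg.Agent.S5046

/-- Let G be a finite group generated by a set D of root involutions whose odd-order-product graph is connected, and d ∈ D. Then the members e of D with the same commuting members as d are exactly those for which the union of the commuting members of d and the members whose product with d has order 4 equals the corresponding union for e. -/
theorem result {G : Type*} [Group G] [Finite G] {D : Set G} (hD : Cfsg.IsRootInvolutionSet D)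
    (hc : Cfsg.IsConnectedSet (Cfsg.OddAdj D) D) {d : G} (hd : d ∈ D) :
    Cfsg.sameCommutingClass D d =
      {e | e ∈ D ∧ Cfsg.commutingMembers D d ∪ Cfsg.fourPartners D d = Cfsg.commutingMembers D e ∪ Cfsg.fourPartners D e} := by
  ext e
  have hsplit : ∀ u ∈ D, ∀ x, (x ∈ Cfsg.commutingMembers D u ∪ Cfsg.fourPartners D u ↔
      x ∈ D ∧ x ∉ Cfsg.oddPartners D u) := by
    intro u hu x
    constructor
    · rintro (⟨hx, hc'⟩ | ⟨hx, h4⟩)
      · exact ⟨hx, fun h => not_comm_of_odd hD hu h hc'.symm⟩
      · exact ⟨hx, not_odd_of_four hD h4⟩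
    · rintro ⟨hx, hn⟩
      rcases cases_odd hD hu hx with h | h | h
      · exact Or.inl ⟨hx, h.symm⟩
      · exact absurd h hn
      · exact Or.inr ⟨hx, h.1⟩
  constructor
  · rintro ⟨he, hE⟩
    have key : ∀ u ∈ D, ∀ v ∈ D, Cfsg.commutingMembers D u = Cfsg.commutingMembers D v →
        Cfsg.oddPartners D u ⊆ Cfsg.oddPartners D v := by
      intro u hu v hv huv x hx
      have hcm : ∀ y, y ∈ D → (y * u = u * y ↔ y * v = v * y) := fun y hy =>
        ⟨fun h => (huv ▸ (show y ∈ Cfsg.commutingMembers D u from ⟨hy, h⟩) :
          y ∈ Cfsg.commutingMembers D v).2,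
        fun h => (huv.symm ▸ (show y ∈ Cfsg.commutingMembers D v from ⟨hy, h⟩) :
          y ∈ Cfsg.commutingMembers D u).2⟩
      have huv' : u * v = v * u := ((hcm v hv).mpr rfl).symm
      rcases cases_odd hD hv hx.1 with h | h | ⟨h4, hm⟩
      · exact absurd ((hcm x hx.1).mpr h.symm).symm (not_comm_of_odd hD hu hx)
      · exact h
      exfalso
      have hxx := RootInvolutions.mul_self hD hx.1
      have hline := RootInvolutions.sq_mem_productPartners hD hv hx.1 h4 hm
      have hcu : (v * x) ^ 2 * u = u * (v * x) ^ 2 := (hcm _ hm).mpr hline.1.2.1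
      have e1 : x * v * x = v * (v * x) ^ 2 := four_conj hD hv hx.1
      have hxvx : x * v * x * u = u * (x * v * x) := by
        rw [e1, mul_assoc, hcu, ← mul_assoc, ← huv', mul_assoc]
      have hw := conj_mem' hD hu hx.1
      have h1 : (x * u * x) * u = u * (x * u * x) := by
        refine (hcm _ hw).mpr ?_
        calc x * u * x * v = x * (u * (x * v * x)) * x := by
              simp only [← mul_assoc]
              rw [mul_assoc _ x x, hxx, mul_one]
          _ = x * (x * v * x * u) * x := by rw [hxvx]
          _ = v * (x * u * x) := by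
              simp only [← mul_assoc]
              rw [hxx, one_mul]
      have h2 : (u * x) ^ 4 = 1 := by
        calc (u * x) ^ 4 = u * (x * u * x) * (u * (x * u * x)) := by
              simp only [pow_succ, pow_zero, one_mul, mul_assoc]
          _ = (x * u * x) * u * (u * (x * u * x)) := by rw [h1]
          _ = x * u * x * (u * u) * (x * u * x) := by simp only [mul_assoc]
          _ = 1 := by
              rw [RootInvolutions.mul_self hD hu, mul_one, RootInvolutions.mul_self hD hw]
      have h3 := one_lt_of_odd hD hu hx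
      obtain ⟨j, hj⟩ := hx.2.2
      have h5 := Nat.le_of_dvd (by norm_num) (orderOf_dvd_of_pow_eq_one h2)
      have h6 := orderOf_dvd_of_pow_eq_one h2
      interval_cases (orderOf (u * x))
      · omega
      · omega
    refine ⟨he, Set.ext fun x => ?_⟩
    rw [hsplit d hd, hsplit e he, Set.Subset.antisymm (key d hd e he hE) (key e he d hd hE.symm)]
  · rintro ⟨he, hU⟩
    refine ⟨he, ?_⟩
    have hA : Cfsg.oddPartners D d = Cfsg.oddPartners D e := by
      ext x
      have hx := Set.ext_iff.mp hU x
      rw [hsplit d hd, hsplit e he] at hx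
      exact ⟨fun h => by_contra fun h' => (hx.mpr ⟨h.1, h'⟩).2 h,
        fun h => by_contra fun h' => (hx.mp ⟨h.1, h'⟩).2 h⟩
    have key : ∀ u ∈ D, ∀ v ∈ D, Cfsg.oddPartners D u = Cfsg.oddPartners D v →
        ∀ z ∈ D, z * u = u * z → z * v = v * z := by
      intro u hu v hv huv z hz hzu
      rcases cases_odd hD hv hz with h | h | ⟨h4, hm⟩
      · exact h.symm
      · exact absurd hzu.symm (not_comm_of_odd hD hu (huv ▸ h))
      exfalso
      have hline := RootInvolutions.sq_mem_productPartners hD hv hz h4 hm
      have hsame : Cfsg.oddPartners D (z * v * z) = Cfsg.oddPartners D v := by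
        have e : z * v * z = z * v * z⁻¹ := by rw [RootInvolutions.inv_self hD hz]
        rw [e, oddPartners_conj hD, ← huv, ← oddPartners_conj hD, hzu, mul_inv_cancel_right]
      have hvg : v * (v * z) ^ 2 = (v * z) ^ 2 * v := hline.1.2.1.symm
      have hp : z * v * z ∈ Cfsg.productPartners D v := by
        rw [four_conj hD hv hz]
        refine ⟨⟨hvg ▸ hline.2, by rw [hvg, mul_assoc, ← mul_assoc, ← mul_assoc, hvg], fun e => ?_⟩, ?_⟩
        · exact RootInvolutions.ne_one hD hm (mul_left_cancel (e.trans (mul_one v).symm))
        · rw [hvg, mul_assoc, RootInvolutions.mul_self hD hv, mul_one]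
          exact hm
      have h3 := oddPartners_third hD hc hv hp hsame.symm
      rw [four_conj hD hv hz, hvg, mul_assoc, RootInvolutions.mul_self hD hv, mul_one] at h3
      have hzg : z * (v * z) ^ 2 = (v * z) ^ 2 * z := by
        have h4' : orderOf (z * v) = 4 := by rw [orderOf_comm hD hv hz]; exact h4
        have := RootInvolutions.sq_mem_productPartners hD hz hv h4'
          (by rw [four_symm hD hv hz h4]; exact hm)
        rw [four_symm hD hv hz h4] at this
        exact this.1.2.1.symm
      exact not_comm_of_four hD hv hz h4 (comm_iff_of_line hD hc hv hline h3 hz hzg).symm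
    exact Set.ext fun z => ⟨fun ⟨hz, h⟩ => ⟨hz, key d hd e he hA z hz h⟩,
      fun ⟨hz, h⟩ => ⟨hz, key e he d hd hA.symm z hz h⟩⟩

end Cfsg.Agent.S5046
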