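import Cfsg.Statements.S4529
import Cfsg.Agent.Lib.SemiQuatDefect.Main

set_option autoImplicit false
set_option linter.style.haveILetI false
open Cfsg

namespace Cfsg.Agent.S4529

open Cfsg.Agent.Lib.BrauerPairs.Center Cfsg.Agent.Lib.BrauerPairs.Bridge
open Cfsg.Agent.Lib.BrauerPairs.Maximal Cfsg.Agent.Lib.SemiQuatDefect

attribute [local instance] Ideal.Quotient.field

/-- Let B be a 2-block of the finite group G (relative to a maximal ideal M of the algebraic integers containing 2) whose defect group D is semidihedral (quasi-dihedral) of order 2 ^ n, n ≥ 4. Then the number of irreducible characters in B is 2 ^ (n - 2) + 3 or 2 ^ (n - 2) + 4, its 2-regular rank l is between 1 and 3, with l = 3 forcing 2 ^ (n - 2) + 4 characters and l = 1 forcing 2 ^ (n - 2) + 3; exactly four members have height zero, exactly 2 ^ (n - 2) - 1 have height one, and every other member has height n - 2. -/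
theorem result {G : Type*} [Group G] [Finite G] (M : Ideal Cfsg.AlgInt) (hM : Cfsg.IsPModular 2 M) (B : Set (Cfsg.IrrCharacter G)) (hB : Cfsg.IsPBlock M B) (D : Subgroup G) (hD : Cfsg.IsDefectGroup 2 M B D) (n : ℕ) (hn : 4 ≤ n) (hcard : Nat.card D = 2 ^ n) (hsd : Cfsg.IsQuasiDihedral D) : (Nat.card B = 2 ^ (n - 2) + 3 ∨ Nat.card B = 2 ^ (n - 2) + 4) ∧ 1 ≤ Cfsg.blockRank 2 B ∧ Cfsg.blockRank 2 B ≤ 3 ∧ (Cfsg.blockRank 2 B = 3 → Nat.card B = 2 ^ (n - 2) + 4) ∧ (Cfsg.blockRank 2 B = 1 → Nat.card B = 2 ^ (n - 2) + 3) ∧ Nat.card {χ : Cfsg.IrrCharacter G // χ ∈ B ∧ Cfsg.blockHeight 2 B (χ : G → ℂ) = 0} = 4 ∧ Nat.card {χ : Cfsg.IrrCharacter G // χ ∈ B ∧ Cfsg.blockHeight 2 B (χ : G → ℂ) = 1} = 2 ^ (n - 2) - 1 ∧ ∀ χ ∈ B, Cfsg.blockHeight 2 B (χ : G → ℂ) = 0 ∨ Cfsg.blockHeight 2 B (χ : G → ℂ) = 1 ∨ Cfsg.blockHeight 2 B (χ : G → ℂ) = n - 2 := by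
  classical
  haveI : M.IsMaximal := hM.2.1
  haveI : Fact (Nat.Prime 2) := ⟨Nat.prime_two⟩
  haveI : CharP (Res M) 2 := charP_res hM
  haveI := Fintype.ofFinite G
  have hDef : IsDef 2 (blk hB) D := (isDefectGroup_iff hB D).mp hD
  obtain ⟨c, hc⟩ := exists_pairOf_isDef hDef
  obtain ⟨x, y, hx, hy, hyx, hy2⟩ := Main.exists_ext_semi hn hcard hsd
  have S : Local.Cfg (blk hB) D c (2 ^ (n - 2)) x (2 ^ (n - 2) - 1) :=
    ⟨hx, top_of_isDef hc hDef, hc⟩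
  have h4 : 4 ≤ 2 ^ (n - 2) :=
    calc 4 = 2 ^ 2 := rfl
      _ ≤ _ := Nat.pow_le_pow_right (by norm_num) (by omega)
  obtain ⟨h1, h2, h3, h5, h6, hH⟩ :=
    Main.invariants_semi S hM h4 (Nat.sub_add_cancel (by omega)) hy hyx hy2
  obtain ⟨z0, za, z1⟩ := hH
  rw [toSet_blk hB] at h1 h2 h3 h5 h6 z0 za z1
  refine ⟨h1, h2, h3, h5, h6, z0, z1 h4, fun χ hχ => (za χ hχ).imp_right (Or.imp_right fun e => ?_)⟩
  exact Nat.pow_right_injective (le_refl 2) e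

end Cfsg.Agent.S4529
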