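import Cfsg.Statements.S5775
import Cfsg.Agent.Lib.PrimeDim.Small

set_option autoImplicit false
open Cfsg
open Cfsg.Agent.Lib.PrimeDim.Basic Cfsg.Agent.Lib.PrimeDim.Fields Cfsg.Agent.Lib.PrimeDim.Symplectic
open Cfsg.Agent.Lib.PrimeDim.Proper Cfsg.Agent.Lib.PrimeDim.Small

namespace Cfsg.Agent.S5775

set_option linter.style.haveILetI false

open scoped Matrix MatrixGroups

instance factThree : Fact (Nat.Prime 3) := ⟨by norm_num⟩

/-- In `SL(3, 4)` the normaliser of a cubic subfield is realised over the prime field, modulo scalars. -/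
lemma cubic_four {F : Type*} [Field F] [Fintype F] (h4 : Fintype.card F = 4)
    {K : Subalgebra F (Matrix (Fin 3) (Fin 3) F)} (hK : Cfsg.Geo.IsFieldSubalgebra 3 K) :
    ∃ (F₀ : Subfield F) (P : GL (Fin 3) F), Fintype.card F = Nat.card F₀ ^ 2 ∧ F₀ ≠ ⊤ ∧
      Cfsg.Geo.subalgebraNormalizer K ⊓ Cfsg.Geo.specialLinear (Fin 3) F ≤ Cfsg.Geo.subfieldSubgroup F₀ P := by
  classical
  haveI : Fact (Nat.Prime 2) := ⟨Nat.prime_two⟩
  haveI hchar : CharP F 2 := by
    rw [← (FiniteField.even_card_iff_char_two.mpr (by rw [h4]) : ringChar F = 2)]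
    exact ringChar.charP F
  haveI : Nontrivial K :=
    ⟨⟨0, 1, fun h => zero_ne_one (congrArg Subtype.val h : (0 : Matrix (Fin 3) (Fin 3) F) = 1)⟩⟩
  have hKf : IsField K :=
    ⟨exists_pair_ne K, fun a b => Subtype.ext (hK.comm a a.2 b b.2), fun {a} ha => by
      obtain ⟨y, hy, hxy⟩ := hK.inv a a.2 (fun h => ha (Subtype.ext h))
      exact ⟨⟨y, hy⟩, Subtype.ext hxy⟩⟩
  letI : Field K := hKf.toField
  haveI : Fintype K := Fintype.ofFinite K
  haveI : CharP K 2 := charP_of_injective_algebraMap (algebraMap F K).injective 2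
  have hcardK : Nat.card K = 64 := by
    rw [Module.natCard_eq_pow_finrank (K := F), hK.finrank_eq, Nat.card_eq_fintype_card, h4]
    norm_num
  have hcardK' : Fintype.card K = 64 := by rw [← Nat.card_eq_fintype_card, hcardK]
  -- an element of order 7
  obtain ⟨γ, hγ⟩ := IsCyclic.exists_ofOrder_eq_natCard (α := Kˣ)
  rw [Nat.card_units, hcardK] at hγ
  set z : K := ((γ ^ 9 : Kˣ) : K) with hzdef
  have hz7 : z ^ 7 = 1 := by
    rw [hzdef, ← Units.val_pow_eq_pow_val, ← pow_mul]
    have : γ ^ 63 = 1 := by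
      have := pow_orderOf_eq_one γ
      rwa [hγ] at this
    rw [this, Units.val_one]
  have hzs : ∀ c : F, algebraMap F K c ≠ z := by
    intro c hc
    have hc0 : c ≠ 0 := by
      rintro rfl
      rw [map_zero] at hc
      exact (γ ^ 9).ne_zero hc.symm
    have h1 : z ^ 3 = 1 := by
      rw [← hc, ← map_pow, show c ^ 3 = 1 by simpa [h4] using FiniteField.pow_card_sub_one_eq_one c hc0, map_one]
    have h2 : (γ ^ 9) ^ 3 = 1 := Units.ext (by rw [Units.val_pow_eq_pow_val, Units.val_one]; exact h1)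
    rw [← pow_mul] at h2
    have := Nat.le_of_dvd (by norm_num) (orderOf_dvd_of_pow_eq_one h2)
    omega
  have hdeg : (minpoly F z).natDegree = 3 := by
    have hint : IsIntegral F z := IsIntegral.of_finite F z
    have hdvd : (minpoly F z).natDegree ∣ 3 := by
      have h1 := minpoly.degree_dvd hint
      rw [hK.finrank_eq] at h1
      exact h1
    rcases (Nat.dvd_prime Nat.prime_three).mp hdvd with h | h
    · obtain ⟨c, hc⟩ := minpoly.natDegree_eq_one_iff.mp h
      exact absurd hc (hzs c)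
    · exact h
  have hli : LinearIndependent F fun i : Fin 3 => z ^ (i : ℕ) :=
    (linearIndependent_pow (K := F) z).comp (Fin.cast hdeg.symm) (Fin.cast_injective _)
  set F₀ : Subfield F := fixedField 2 1 with hF₀
  have hF₀card : Nat.card F₀ = 2 := by
    rw [hF₀, card_fixedField (f := 2) one_pos (one_dvd _) (by rw [h4]; norm_num)]
    norm_num
  have hF₀sq : ∀ a : F₀, (a : F) ^ 2 = a := fun a => by simpa using mem_fixedField.mp a.2
  -- the subfield with eight elements
  have hfrob : ∀ x y : K, (x + y) ^ 8 = x ^ 8 + y ^ 8 := fun x y => by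
    simpa using add_pow_char_pow x y 2 3
  let ψ : (Fin 3 → F₀) → {x : K // x ^ 8 = x} := fun a =>
    ⟨∑ i, (a i : F) • z ^ (i : ℕ), by
      have h8 : ∀ b : F₀, (b : F) ^ 8 = b := fun b => by
        rw [show (b : F) ^ 8 = (((b : F) ^ 2) ^ 2) ^ 2 by ring, hF₀sq, hF₀sq, hF₀sq]
      simp only [Fin.sum_univ_three, hfrob, smul_pow, h8, ← pow_mul]
      simp only [pow_mul', show z ^ 8 = z by rw [pow_succ, hz7, one_mul]]⟩
  have hψinj : Function.Injective ψ := by
    intro a b hab
    have h1 : ∑ i, ((a i : F) - (b i : F)) • z ^ (i : ℕ) = 0 := by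
      simp only [sub_smul, Finset.sum_sub_distrib]
      exact sub_eq_zero.mpr (congrArg Subtype.val hab)
    funext i
    exact Subtype.ext (sub_eq_zero.mp (Fintype.linearIndependent_iff.mp hli _ h1 i))
  have hψsurj : Function.Surjective ψ := by
    have hle := card_pow_eq_self_le (F := K) (k := 8) (by norm_num)
    have hdom : Nat.card (Fin 3 → F₀) = 8 := by rw [Nat.card_fun, hF₀card, Nat.card_fin]; norm_num
    exact (hψinj.bijective_of_nat_card_le (by rw [hdom]; exact hle)).2
  -- evaluation at a vector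
  let v : Fin 3 → F := Pi.single 0 1
  let ev : K →ₗ[F] (Fin 3 → F) :=
    { toFun := fun k => (k : Matrix (Fin 3) (Fin 3) F) *ᵥ v
      map_add' := fun a b => by simp [Matrix.add_mulVec]
      map_smul' := fun c a => by simp [Matrix.smul_mulVec] }
  have hevinj : Function.Injective ev := by
    rw [← LinearMap.ker_eq_bot, eq_bot_iff]
    intro k hk
    rw [Submodule.mem_bot]
    by_contra hne
    obtain ⟨y, -, hy⟩ := hK.inv k k.2 (fun h => hne (Subtype.ext h))
    rw [mul_eq_one_comm] at hy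
    have h1 : v = 0 := by
      rw [← Matrix.one_mulVec v, ← hy, ← Matrix.mulVec_mulVec, show (k : Matrix (Fin 3) (Fin 3) F) *ᵥ v = 0 from hk,
        Matrix.mulVec_zero]
    exact one_ne_zero (α := F) (by simpa [v] using congrFun h1 0)
  have hfr : Module.finrank F K = Module.finrank F (Fin 3 → F) := by rw [hK.finrank_eq, Module.finrank_fin_fun]
  let e : K ≃ₗ[F] (Fin 3 → F) := LinearEquiv.ofInjectiveOfFinrankEq ev hevinj hfr
  have he : ∀ k, e k = (k : Matrix (Fin 3) (Fin 3) F) *ᵥ v := fun k => rfl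
  let M : Matrix (Fin 3) (Fin 3) F := Matrix.of fun a i => e (z ^ (i : ℕ)) a
  have hcols : LinearIndependent F M.col := hli.map' e.toLinearMap (LinearMap.ker_eq_bot.mpr e.injective)
  have hMu : IsUnit M := Matrix.linearIndependent_cols_iff_isUnit.mp hcols
  refine ⟨F₀, hMu.unit, by rw [hF₀card, h4]; norm_num, fun htop => ?_, fun g hg => ?_⟩
  · rw [htop, Nat.card_congr (Equiv.subtypeUnivEquiv fun x => Subfield.mem_top x), Nat.card_eq_fintype_card, h4] at hF₀card
    omega
  obtain ⟨hgN, hgS⟩ := Subgroup.mem_inf.mp hg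
  let gi : Matrix (Fin 3) (Fin 3) F := ((g⁻¹ : GL (Fin 3) F) : Matrix (Fin 3) (Fin 3) F)
  let w : K := ⟨g.val * (z : Matrix (Fin 3) (Fin 3) F) * gi, (hgN _).mp z.2⟩
  have hconj : ∀ m : ℕ, ((w ^ m : K) : Matrix (Fin 3) (Fin 3) F)
      = g.val * ((z ^ m : K) : Matrix (Fin 3) (Fin 3) F) * gi := by
    intro m
    induction m with
    | zero => simp [gi]
    | succ m ih =>
      rw [pow_succ, pow_succ, Subalgebra.coe_mul, Subalgebra.coe_mul, ih]
      simp [w, gi, mul_assoc]
  have hw7 : w ^ 7 = 1 := Subtype.ext (by rw [hconj, hz7]; simp [gi])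
  have hwi : ∀ i : ℕ, (w ^ i) ^ 8 = w ^ i := fun i => by
    rw [← pow_mul, mul_comm, pow_mul, pow_succ w 7, hw7, one_mul]
  choose coef hcoef using fun i : Fin 3 => hψsurj ⟨w ^ (i : ℕ), hwi i⟩
  let k : K := e.symm (g.val *ᵥ v)
  have hk : (k : Matrix (Fin 3) (Fin 3) F) *ᵥ v = g.val *ᵥ v := by rw [← he]; exact e.apply_symm_apply _
  let T₀ : Matrix (Fin 3) (Fin 3) F := Matrix.of fun j i => (coef i j : F)
  have hMcol : ∀ i, M *ᵥ Pi.single i 1 = e (z ^ (i : ℕ)) := fun i => by rw [Matrix.mulVec_single_one]; rfl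
  have hgM : g.val * M = (k : Matrix (Fin 3) (Fin 3) F) * M * T₀ := by
    apply Matrix.ext_of_mulVec_single
    intro i
    have hT : T₀ *ᵥ Pi.single i 1 = ∑ j, (coef i j : F) • (Pi.single j 1 : Fin 3 → F) := by
      rw [Matrix.mulVec_single_one]
      exact pi_eq_sum_univ' _
    have hw' : w ^ (i : ℕ) = ∑ j, (coef i j : F) • z ^ (j : ℕ) := (congrArg Subtype.val (hcoef i)).symm
    have lhs : (g.val * M) *ᵥ Pi.single i 1 = (k : Matrix (Fin 3) (Fin 3) F) *ᵥ e (w ^ (i : ℕ)) := by
      rw [← Matrix.mulVec_mulVec, hMcol, he, he]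
      have h1 : g.val * ((z ^ (i : ℕ) : K) : Matrix (Fin 3) (Fin 3) F) = ((w ^ (i : ℕ) : K) : Matrix (Fin 3) (Fin 3) F) * g.val := by
        rw [hconj]; simp [gi, mul_assoc]
      rw [Matrix.mulVec_mulVec, h1, ← Matrix.mulVec_mulVec, ← hk, Matrix.mulVec_mulVec, Matrix.mulVec_mulVec,
        hK.comm _ (w ^ (i : ℕ)).2 _ k.2]
    rw [lhs, hw', map_sum, Matrix.mulVec_sum, ← Matrix.mulVec_mulVec, hT, Matrix.mulVec_sum]
    refine Finset.sum_congr rfl fun j _ => ?_
    rw [map_smul, Matrix.mulVec_smul, Matrix.mulVec_smul, ← Matrix.mulVec_mulVec, hMcol]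
  -- determinants
  have hTmem : ∀ j i, T₀ j i ∈ F₀ := fun j i => (coef i j).2
  have hTdet0 : T₀.det ≠ 0 := by
    intro h0
    have h1 := congrArg Matrix.det hgM
    rw [Matrix.det_mul, Matrix.det_mul, Matrix.det_mul, h0, mul_zero] at h1
    rcases mul_eq_zero.mp h1 with h2 | h2
    · exact ((Matrix.isUnit_iff_isUnit_det _).mp g.isUnit).ne_zero h2
    · exact ((Matrix.isUnit_iff_isUnit_det _).mp hMu).ne_zero h2
  have hTdet1 : T₀.det = 1 := by
    have hmem : T₀.det ∈ F₀ := by
      rw [Matrix.det_apply]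
      exact Subfield.sum_mem _ fun σ _ => zsmul_mem (Subfield.prod_mem _ fun i _ => hTmem _ _) _
    have h1 := hF₀sq ⟨_, hmem⟩
    exact mul_left_cancel₀ hTdet0 (by simpa [sq] using h1)
  have hkdet : (k : Matrix (Fin 3) (Fin 3) F).det = 1 := by
    have h1 := congrArg Matrix.det hgM
    rw [Matrix.det_mul, Matrix.det_mul, Matrix.det_mul, hTdet1, mul_one, mem_specialLinear.mp hgS, one_mul] at h1
    exact (mul_eq_right₀ ((Matrix.isUnit_iff_isUnit_det _).mp hMu).ne_zero).mp h1.symm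
  have hnorm : Algebra.norm F k = 1 := by
    have h1 : Matrix.toLin' (k : Matrix (Fin 3) (Fin 3) F)
        = e.toLinearMap ∘ₗ Algebra.lmul F K k ∘ₗ e.symm.toLinearMap := by
      apply LinearMap.ext
      intro u
      obtain ⟨y, rfl⟩ := e.surjective u
      simp only [LinearMap.coe_comp, LinearEquiv.coe_coe, Function.comp_apply, e.symm_apply_apply,
        Matrix.toLin'_apply, Algebra.coe_lmul_eq_mul, LinearMap.mul_apply_apply]
      rw [he, he, Matrix.mulVec_mulVec, Subalgebra.coe_mul]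
    rw [Algebra.norm_apply, ← LinearMap.det_conj (Algebra.lmul F K k) e, ← h1, LinearMap.det_toLin', hkdet]
  have hk21 : k ^ 21 = 1 := by
    have h1 := FiniteField.algebraMap_norm_eq_pow (K := F) (K' := K) (x := k)
    rw [hnorm, map_one, hcardK, Nat.card_eq_fintype_card (α := F), h4] at h1
    norm_num at h1
    exact h1.symm
  -- k is a scalar times an element of the subfield with eight elements
  have hk7 : ∃ c : F, algebraMap F K c = k ^ 7 := by
    have h3 : (k ^ 7) ^ 4 = k ^ 7 := by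
      rw [← pow_mul, show 7 * 4 = 21 + 7 by norm_num, pow_add, hk21, one_mul]
    let j : F → {x : K // x ^ 4 = x} := fun c => ⟨algebraMap F K c, by rw [← map_pow, show c ^ 4 = c by rw [← h4, FiniteField.pow_card]]⟩
    have hj : Function.Injective j := fun a b hab => (algebraMap F K).injective (congrArg Subtype.val hab)
    have hs := (hj.bijective_of_nat_card_le (by
      rw [Nat.card_eq_fintype_card (α := F), h4]; exact card_pow_eq_self_le (F := K) (k := 4) (by norm_num))).2
    obtain ⟨c, hc⟩ := hs ⟨k ^ 7, h3⟩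
    exact ⟨c, congrArg Subtype.val hc⟩
  obtain ⟨c, hc⟩ := hk7
  have hk15 : (k ^ 15) ^ 8 = k ^ 15 := by
    rw [← pow_mul, show 15 * 8 = 21 * 5 + 15 by norm_num, pow_add, pow_mul, hk21, one_pow, one_mul]
  have hkeq : k = c • k ^ 15 := by
    rw [Algebra.smul_def, hc, ← pow_add, show 7 + 15 = 21 + 1 by norm_num, pow_add, hk21, one_mul, pow_one]
  have hcne : c ≠ 0 := by
    rintro rfl
    rw [zero_smul] at hkeq
    rw [hkeq] at hk21
    simp at hk21
  -- the entries of the matrix of k ^ 15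
  have hwz : ∀ i : Fin 3, (k ^ 15 * z ^ (i : ℕ)) ^ 8 = k ^ 15 * z ^ (i : ℕ) := fun i => by
    rw [mul_pow, hk15, ← pow_mul, mul_comm (i : ℕ), pow_mul, show z ^ 8 = z by rw [pow_succ, hz7, one_mul]]
  choose tc htc using fun i : Fin 3 => hψsurj ⟨k ^ 15 * z ^ (i : ℕ), hwz i⟩
  let T₁ : Matrix (Fin 3) (Fin 3) F := Matrix.of fun j i => (tc i j : F)
  have hkM : (k : Matrix (Fin 3) (Fin 3) F) * M = M * (c • T₁) := by
    apply Matrix.ext_of_mulVec_single
    intro i
    have hT : T₁ *ᵥ Pi.single i 1 = ∑ j, (tc i j : F) • (Pi.single j 1 : Fin 3 → F) := by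
      rw [Matrix.mulVec_single_one]
      exact pi_eq_sum_univ' _
    have h2 : k * z ^ (i : ℕ) = c • ∑ j, (tc i j : F) • z ^ (j : ℕ) := by
      conv_lhs => rw [hkeq]
      rw [smul_mul_assoc]
      exact congrArg (c • ·) (congrArg Subtype.val (htc i)).symm
    rw [← Matrix.mulVec_mulVec, hMcol, he, Matrix.mulVec_mulVec, ← Subalgebra.coe_mul, ← he, h2, map_smul, map_sum,
      ← Matrix.mulVec_mulVec, Matrix.smul_mulVec, hT, Matrix.mulVec_smul, Matrix.mulVec_sum]
    congr 1
    refine Finset.sum_congr rfl fun j _ => ?_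
    rw [map_smul, Matrix.mulVec_smul, hMcol]
  have hfinal : ((hMu.unit⁻¹ * g * hMu.unit : GL (Fin 3) F) : Matrix (Fin 3) (Fin 3) F) = c • (T₁ * T₀) := by
    have hval : (hMu.unit : Matrix (Fin 3) (Fin 3) F) = M := rfl
    rw [Units.val_mul, Units.val_mul, hval, mul_assoc, hgM, hkM, ← mul_assoc, ← mul_assoc]
    change ((hMu.unit⁻¹ : GL (Fin 3) F) : Matrix (Fin 3) (Fin 3) F) * (hMu.unit : Matrix (Fin 3) (Fin 3) F) * (c • T₁) * T₀ = _
    rw [Units.inv_mul, one_mul, Matrix.smul_mul]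
  let u : GL (Fin 3) F := Units.map (Matrix.scalar (Fin 3) : F →+* Matrix (Fin 3) (Fin 3) F).toMonoidHom (Units.mk0 c hcne)
  have hu : u ∈ Cfsg.Geo.scalars (Fin 3) F := ⟨_, rfl⟩
  refine ⟨hMu.unit⁻¹ * g * hMu.unit, ?_, by simp [mul_assoc]⟩
  rw [show hMu.unit⁻¹ * g * hMu.unit = u * (u⁻¹ * (hMu.unit⁻¹ * g * hMu.unit)) by group]
  refine mul_mem (Subgroup.mem_sup_right hu) (Subgroup.mem_sup_left (scalar_entry_mem fun i j => ?_))
  have hval : ((u⁻¹ * (hMu.unit⁻¹ * g * hMu.unit) : GL (Fin 3) F) : Matrix (Fin 3) (Fin 3) F) = T₁ * T₀ := by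
    rw [Units.val_mul, hfinal]
    ext a b
    simp [u, ← map_inv, hcne]
  rw [hval, Matrix.mul_apply]
  exact Subfield.sum_mem _ fun l _ => mul_mem (tc l i).2 (hTmem l j)

/-- Every maximal subgroup of SL_3(q) is of one of the listed geometric types or lies in the residual class. Let F be a finite field with q elements and H a maximal subgroup of SL_3(F) (viewed inside GL_3(F)). Then H is the intersection with SL_3(F) of one of: the stabiliser of a proper non-zero subspace; for q ≥ 5, the stabiliser of a decomposition of F^3 into three independent lines; for q ≠ 4, the normaliser of a degree-3 subfield of the matrix algebra; a subfield group for a subfield F₀ with |F| = |F₀|^r, r prime; for q = p ≡ 1 mod 3 prime, the normaliser of an absolutely irreducible 3-subgroup R of exponent 3 with centre of order 3, all of whose characteristic abelian subgroups are cyclic, of order 3^(1+2m) for some m ≥ 1, with F the smallest field of characteristic p containing the cube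 roots of unity (so R is extraspecial of order 27); for q odd, the similarity group of a non-degenerate quadratic form; the similarity group of a non-degenerate unitary form — or else H lies in the residual class of the linear case (modulo scalars H is almost simple, with absolutely irreducible perfect socle preimage realisable over no proper subfield and fixing no non-degenerate quadratic, symplectic or unitary form). -/
theorem result {F : Type*} [Field F] [Fintype F] (H : Subgroup (Matrix.GeneralLinearGroup (Fin 3) F)) (hH : Cfsg.Geo.IsMaximalIn (Cfsg.Geo.specialLinear (Fin 3) F) H) :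
    (∃ W : Submodule F (Fin 3 → F), W ≠ ⊥ ∧ W ≠ ⊤ ∧ H = Cfsg.Geo.subspaceStabilizer W ⊓ Cfsg.Geo.specialLinear (Fin 3) F) ∨
    (5 ≤ Fintype.card F ∧ ∃ D : Fin 3 → Submodule F (Fin 3 → F), Cfsg.Geo.IsMDecomposition 1 D ∧ H = Cfsg.Geo.decompositionStabilizer D ⊓ Cfsg.Geo.specialLinear (Fin 3) F) ∨
    (Fintype.card F ≠ 4 ∧ ∃ K : Subalgebra F (Matrix (Fin 3) (Fin 3) F), Cfsg.Geo.IsFieldSubalgebra 3 K ∧ H = Cfsg.Geo.subalgebraNormalizer K ⊓ Cfsg.Geo.specialLinear (Fin 3) F) ∨
    (∃ (F₀ : Subfield F) (r : ℕ) (P : Matrix.GeneralLinearGroup (Fin 3) F), r.Prime ∧ Fintype.card F = Nat.card F₀ ^ r ∧ H = Cfsg.Geo.subfieldSubgroup F₀ P ⊓ Cfsg.Geo.specialLinear (Fin 3) F) ∨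
    (∃ (p : ℕ) (R : Subgroup (Matrix.GeneralLinearGroup (Fin 3) F)), p.Prime ∧ Fintype.card F = p ∧ p % 3 = 1 ∧ Cfsg.Geo.IsLinearSymplecticTypeData 3 R ∧ H = Cfsg.Geo.subgroupNormalizer R ⊓ Cfsg.Geo.specialLinear (Fin 3) F) ∨
    (Odd (Fintype.card F) ∧ ∃ Q : (Fin 3 → F) → F, Cfsg.Geo.IsNondegenerateQuadraticForm Q ∧ H = Cfsg.Geo.quadSimilarityGroup Q ⊓ Cfsg.Geo.specialLinear (Fin 3) F) ∨
    (∃ (σ : F ≃+* F) (f : (Fin 3 → F) → (Fin 3 → F) → F), Cfsg.Geo.IsUnitaryForm σ f ∧ H = Cfsg.Geo.similarityGroup f ⊓ Cfsg.Geo.specialLinear (Fin 3) F) ∨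
    Cfsg.Geo.InLinearResidualClass H := by
  have h := maximal_cases (n := 3) (by norm_num) (by norm_num) hH
  rcases h with h | ⟨D, hD, hH'⟩ | h | h | ⟨R, hR, hH'⟩ | h | h | h
  · exact Or.inl h
  · by_cases hq : 5 ≤ Fintype.card F
    · exact Or.inr (Or.inl ⟨hq, D, hD, hH'⟩)
    have hle : H ≤ Cfsg.Geo.decompositionStabilizer D := hH' ▸ inf_le_left
    have heq : ∀ M : Subgroup (Matrix.GeneralLinearGroup (Fin 3) F), H ≤ M →
        ¬ Cfsg.Geo.specialLinear (Fin 3) F ≤ M → H = M ⊓ Cfsg.Geo.specialLinear (Fin 3) F := fun M hM hnot =>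
      ((hH.2 _ (le_inf hM hH.1.le) inf_le_right).resolve_right fun h => hnot (h ▸ inf_le_left)).symm
    rcases monomial_small (by norm_num) (by omega) hD with ⟨W, hb, ht, hM⟩ | ⟨ho, Q, hQ, hM⟩ | ⟨σ, f, hf, hM⟩
    · exact Or.inl ⟨W, hb, ht, heq _ (hle.trans hM) (not_le_subspaceStabilizer (by simp) hb ht)⟩
    · exact Or.inr (Or.inr (Or.inr (Or.inr (Or.inr (Or.inl ⟨ho, Q, hQ,
        heq _ (hle.trans hM) (not_le_quadSimilarityGroup (by simp) hQ)⟩)))))
    · exact Or.inr (Or.inr (Or.inr (Or.inr (Or.inr (Or.inr (Or.inl ⟨σ, f, hf, heq _ (hle.trans hM)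
        (not_le_similarityGroup (σ := (σ : F →+* F)) (by simp) σ.bijective (isSesqui_of_unitary hf) hf.nondegenerate)⟩))))))
  · obtain ⟨K, hK, hH'⟩ := h
    by_cases h4 : Fintype.card F = 4
    · obtain ⟨F₀, P, hc, hne, hM⟩ := cubic_four h4 hK
      exact Or.inr (Or.inr (Or.inr (Or.inl ⟨F₀, 2, P, Nat.prime_two, hc,
        ((hH.2 _ (le_inf (hH'.le.trans hM) hH.1.le) inf_le_right).resolve_right fun h' =>
          not_le_subfieldSubgroup (by simp; norm_num) hne P (h' ▸ inf_le_left)).symm⟩)))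
    · exact Or.inr (Or.inr (Or.inl ⟨h4, K, hK, hH'⟩))
  · exact Or.inr (Or.inr (Or.inr (Or.inl h)))
  · obtain ⟨p, e, hp, hc, hF, hodd, he, hdvd, hmin⟩ := data_field (by norm_num) hR
    have heo := degree_eq_orderOf hp hdvd he hmin
    have he1 : e = 1 := by
      have hne : (p : ZMod 3) ≠ 0 := by
        intro h0
        rw [h0, orderOf_zero] at heo
        omega
      have hd : orderOf (p : ZMod 3) ∣ 2 := ZMod.orderOf_dvd_card_sub_one hne
      rw [← heo] at hd
      rcases (Nat.dvd_prime Nat.prime_two).mp hd with h | h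
      · exact h
      · subst h
        exact absurd hodd (by decide)
    subst he1
    rw [pow_one] at hdvd hF
    have hp1 : p % 3 = 1 := by
      have := hp.one_lt
      omega
    exact Or.inr (Or.inr (Or.inr (Or.inr (Or.inl ⟨p, R, hp, hF, hp1, hR, hH'⟩))))
  · exact Or.inr (Or.inr (Or.inr (Or.inr (Or.inr (Or.inl h)))))
  · exact Or.inr (Or.inr (Or.inr (Or.inr (Or.inr (Or.inr (Or.inl h))))))
  · exact Or.inr (Or.inr (Or.inr (Or.inr (Or.inr (Or.inr (Or.inr h))))))

end Cfsg.Agent.S5775
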