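import Cfsg.Statements.S5655
import Cfsg.Agent.Lib.Subspaces.UnitBlockCentres
import Cfsg.Agent.Lib.Subspaces.UnitMonoFull

set_option autoImplicit false
open Cfsg

namespace Cfsg.Agent.S5655

open Matrix Cfsg.Agent.Lib.Subspaces Cfsg.Agent.Lib.Subspaces.Transvection
  Cfsg.Agent.Lib.Subspaces.Decomposition Cfsg.Agent.Lib.Subspaces.UnitaryGen
  Cfsg.Agent.Lib.Subspaces.UnitBlock Cfsg.Agent.Lib.Subspaces.UnitBlockCentres
  Cfsg.Agent.Lib.Subspaces.UnitQuasi Cfsg.Agent.Lib.Subspaces.UnitMonoFull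
  Cfsg.Agent.Lib.Unitary

/-- The case of one-dimensional blocks. -/
theorem maximal_lines_of {F : Type*} [Field F] [Fintype F] (n q : ℕ) (hF : Fintype.card F = q ^ 2)
    (hn : 4 ≤ n) (D : Fin n → Submodule F (Fin n → F))
    (hD : Cfsg.Geo.IsNondegenerateMDecomposition (Cfsg.hermForm n F q) 1 D)
    (hsu : ∀ (M : Subgroup (GL (Fin n) F)), Over q M → ∀ g ∈ M, ¬ Mono g →
      Cfsg.GU n F q ⊓ Cfsg.Geo.specialLinear (Fin n) F ≤ M) :
    Cfsg.Geo.IsMaximalIn (Cfsg.GU n F q ⊓ Cfsg.Geo.specialLinear (Fin n) F)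
      (Cfsg.Geo.decompositionStabilizer D ⊓
        (Cfsg.GU n F q ⊓ Cfsg.Geo.specialLinear (Fin n) F)) := by
  have hf := hermForm_isUnitary (n := n) hF
  choose b hb hb1 using fun i => exists_norm_one_of_nondeg hF
    (nondeg_of_on (hD.nondegenerate i)) (block_ne_bot hD.decomp i)
  obtain ⟨A, hA⟩ := exists_GU_cols hF (f := b) (fun i j => by
    rcases eq_or_ne i j with rfl | hij
    · rw [if_pos rfl, hb1]
    · rw [if_neg hij, hD.orthogonal i j hij _ (hb i) _ (hb j)])
  have hA' : ∀ l, (A : GL (Fin n) F).1 *ᵥ ev l = b l := hA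
  have hspan : ∀ i, ∀ x ∈ D i, ∃ c : F, c • b i = x := fun i x hx => by
    have hb0 : b i ≠ 0 := fun e => by
      have := hb1 i; rw [e, Cfsg.Agent.Lib.Unitary.herm_zero_left] at this; exact zero_ne_one this
    obtain ⟨c, hc⟩ := (finrank_eq_one_iff_of_nonzero' (⟨b i, hb i⟩ : D i) (by simpa using hb0)).mp
      (hD.decomp.finrank_eq i) ⟨x, hx⟩
    exact ⟨c, congrArg Subtype.val hc⟩
  set G : GL (Fin n) F := (A : GL (Fin n) F) with hG
  set K := Cfsg.GU n F q ⊓ Cfsg.Geo.specialLinear (Fin n) F with hK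
  have hKconj : ∀ h, G * h * G⁻¹ ∈ K ↔ h ∈ K := by
    intro h
    have hdet : (G * h * G⁻¹).1.det = h.1.det := by
      rw [Units.val_mul, Units.val_mul, Matrix.det_mul, Matrix.det_mul, mul_right_comm,
        ← Matrix.det_mul, ← Units.val_mul, mul_inv_cancel, Units.val_one, Matrix.det_one, one_mul]
    rw [hK, Subgroup.mem_inf, Subgroup.mem_inf, mem_specialLinear_iff, mem_specialLinear_iff, hdet]
    constructor
    · rintro ⟨h1, h2⟩
      refine ⟨?_, h2⟩
      have := (Cfsg.GU n F q).mul_mem ((Cfsg.GU n F q).mul_mem ((Cfsg.GU n F q).inv_mem A.2) h1) A.2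
      rwa [show (A : GL (Fin n) F)⁻¹ * (G * h * G⁻¹) * A = h by rw [hG]; group] at this
    · rintro ⟨h1, h2⟩
      exact ⟨(Cfsg.GU n F q).mul_mem ((Cfsg.GU n F q).mul_mem A.2 h1)
        ((Cfsg.GU n F q).inv_mem A.2), h2⟩
  have hkey : ∀ h, Mono h ↔ G * h * G⁻¹ ∈ Cfsg.Geo.decompositionStabilizer D := by
    intro h
    have hap : ∀ l, (G * h * G⁻¹).1 *ᵥ b l = G.1 *ᵥ (h.1 *ᵥ ev l) := fun l => by
      rw [gl_mul_mulVec, gl_mul_mulVec, ← hA' l, gl_inv_mulVec]
    constructor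
    · intro hm
      obtain ⟨σ, c, -, hc⟩ := hm.exists_perm
      refine mem_stabilizer_of_mapsTo hD.decomp fun l => ⟨σ l, fun x hx => ?_⟩
      obtain ⟨s, rfl⟩ := hspan l x hx
      rw [mulVec_smul, hap, hc, mulVec_smul, hA']
      exact (D _).smul_mem _ ((D _).smul_mem _ (hb _))
    · intro hs l
      obtain ⟨σ, hσ⟩ := exists_image_of_mem hs
      obtain ⟨s, hs'⟩ := hspan (σ l) _ (hσ l _ (hb l))
      have h2 : h.1 *ᵥ ev l = s • ev (σ l) := by
        apply gl_mulVec_injective G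
        simp only [← hap, mulVec_smul, hA', hs']
      rw [h2]
      exact single_smul_ev s _
  refine isMaximalIn_of inf_le_right ?_ fun M hHM hMK g hgM hgH => ?_
  · obtain ⟨e, he0, he⟩ := UnitaryForm.exists_skew_scalar hf
    obtain ⟨β, hβ⟩ := UnitarySplit.norm_surjective hF (-1 : F) (by rw [map_neg, map_one])
    let i0 : Fin n := ⟨0, by omega⟩
    let i1 : Fin n := ⟨1, by omega⟩
    let i2 : Fin n := ⟨2, by omega⟩
    let i3 : Fin n := ⟨3, by omega⟩
    set v : Fin n → F := ev i0 + β • ev i1 + (ev i2 + β • ev i3) with hv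
    have hvv : Cfsg.hermForm n F q v v = 0 := by
      rw [hv]
      simp only [herm_add_left, herm_add_right _ _ _ hF, herm_smul_left, herm_smul_right,
        ev_norm hF, ev_orth hF (show i0 ≠ i1 by simp [i0, i1]), ev_orth hF (show i1 ≠ i0 by simp [i0, i1]),
        ev_orth hF (show i0 ≠ i2 by simp [i0, i2]), ev_orth hF (show i2 ≠ i0 by simp [i0, i2]),
        ev_orth hF (show i0 ≠ i3 by simp [i0, i3]), ev_orth hF (show i3 ≠ i0 by simp [i0, i3]),
        ev_orth hF (show i1 ≠ i2 by simp [i1, i2]), ev_orth hF (show i2 ≠ i1 by simp [i1, i2]),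
        ev_orth hF (show i1 ≠ i3 by simp [i1, i3]), ev_orth hF (show i3 ≠ i1 by simp [i1, i3]),
        ev_orth hF (show i2 ≠ i3 by simp [i2, i3]), ev_orth hF (show i3 ≠ i2 by simp [i2, i3]),
        ← powAut_apply hF]
      linear_combination 2 * hβ
    set U := tv v (e • FormVec.formVec (Cfsg.hermForm n F q) v) with hU
    refine ⟨G * U * G⁻¹, (hKconj U).mpr (utv_mem_SU hF hvv he), fun h => ?_⟩
    obtain ⟨j, hj⟩ := (hkey U).mpr h.1 i0
    have hv0 : v i0 = 1 := by simp [hv, i0, i1, i2, i3, ev, Pi.single_apply]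
    have hv1 : v i1 = β := by simp [hv, i0, i1, i2, i3, ev, Pi.single_apply]
    have hv2 : v i2 = 1 := by simp [hv, i0, i1, i2, i3, ev, Pi.single_apply]
    have hβ0 : β ≠ 0 := fun e0 => by
      rw [e0, zero_mul] at hβ; exact one_ne_zero (neg_eq_zero.mp hβ.symm)
    have hcol : ∀ l, l ≠ i0 → v l ≠ 0 → (U.1 *ᵥ ev i0) l ≠ 0 := fun l hl hvl => by
      rw [hU, UnitaryForm.utv_mulVec hf hvv, ev_herm hF, hv0, map_one, mul_one]
      simpa [ev_ne hl] using ⟨he0, hvl⟩
    rcases eq_or_ne j i1 with rfl | hj1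
    · exact hcol i2 (by simp [i0, i2]) (by rw [hv2]; exact one_ne_zero) (hj i2 (by simp [i1, i2]))
    · exact hcol i1 (by simp [i0, i1]) (by rw [hv1]; exact hβ0) (hj i1 hj1.symm)
  · set M' := M.comap (MulAut.conj G).toMonoidHom with hM'
    have hmem : ∀ h, h ∈ M' ↔ G * h * G⁻¹ ∈ M := fun h => Iff.rfl
    have S : Over q M' := ⟨fun h hh => (hKconj h).mp (hMK ((hmem h).mp hh)),
      fun h h1 h2 h3 => (hmem h).mpr (hHM ⟨(hkey h).mp h3, (hKconj h).mpr ⟨h1, h2⟩⟩)⟩
    have he : G * (G⁻¹ * g * G) * G⁻¹ = g := by group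
    have hle := hsu M' S (G⁻¹ * g * G) ((hmem _).mpr (by rwa [he]))
      fun hm => hgH ⟨by rw [← he]; exact (hkey _).mp hm, hMK hgM⟩
    intro h hh
    have he' : G * (G⁻¹ * h * G) * G⁻¹ = h := by group
    have h2 := (hmem _).mp (hle ((hKconj (G⁻¹ * h * G)).mp (by rwa [he'])))
    rwa [he'] at h2

theorem maximal_lines {F : Type*} [Field F] [Fintype F] (n q : ℕ) (hF : Fintype.card F = q ^ 2)
    (hn : 10 ≤ n) (D : Fin n → Submodule F (Fin n → F))
    (hD : Cfsg.Geo.IsNondegenerateMDecomposition (Cfsg.hermForm n F q) 1 D) :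
    Cfsg.Geo.IsMaximalIn (Cfsg.GU n F q ⊓ Cfsg.Geo.specialLinear (Fin n) F)
      (Cfsg.Geo.decompositionStabilizer D ⊓
        (Cfsg.GU n F q ⊓ Cfsg.Geo.specialLinear (Fin n) F)) :=
  maximal_lines_of n q hF (by omega) D hD fun _ S _ hg hm => su_le_of_mono hF S hn hg hm

/-- Blocks of dimension at least two. -/
theorem maximal_blocks {F : Type*} [Field F] [Fintype F] (n q : ℕ) (hF : Fintype.card F = q ^ 2) (hn : 4 ≤ n) {t : ℕ} (k : ℕ) (hk : 2 ≤ k) (D : Fin t → Submodule F (Fin n → F)) (hD : Cfsg.Geo.IsNondegenerateMDecomposition (Cfsg.hermForm n F q) k D) (hex : ¬ (k = 2 ∧ q = 2)) : Cfsg.Geo.IsMaximalIn (Cfsg.GU n F q ⊓ Cfsg.Geo.specialLinear (Fin n) F) (Cfsg.Geo.decompositionStabilizer D ⊓ (Cfsg.GU n F q ⊓ Cfsg.Geo.specialLinear (Fin n) F)) := by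
  have hf := hermForm_isUnitary (n := n) hF
  obtain ⟨e, he0, he⟩ := UnitaryForm.exists_skew_scalar hf
  have hcard := card_eq hD.decomp
  rw [Fintype.card_fin] at hcard
  refine isMaximalIn_of inf_le_right ?_ fun M hHM hMK g hgM hgH => ?_
  · have ht := hD.decomp.two_le
    let i0 : Fin t := ⟨0, by omega⟩
    let i1 : Fin t := ⟨1, by omega⟩
    have hne : i1 ≠ i0 := fun h => by simp [i0, i1] at h
    have hnd := fun i => nondeg_of_on (hD.nondegenerate i)
    obtain ⟨u, hu, hu1⟩ := exists_norm_one_of_nondeg hF (hnd i0) (block_ne_bot hD.decomp i0)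
    obtain ⟨z, hz, hzu, hzz⟩ := exists_unit_orth hF (hnd i0) (by rw [hD.decomp.finrank_eq]; exact hk)
      hu (by rw [hu1]; exact one_ne_zero)
    obtain ⟨v0, hv0, hv01⟩ := exists_norm_one_of_nondeg hF (hnd i1) (block_ne_bot hD.decomp i1)
    obtain ⟨c, hc⟩ := UnitarySplit.norm_surjective hF (-1 : F) (by rw [map_neg, map_one])
    have hv : Cfsg.hermForm n F q (c • v0) (c • v0) = -1 := by
      rw [hf.smul_left, UnitaryForm.smul_right hf, hv01, mul_one, hc]
    have hvD : c • v0 ∈ D i1 := (D i1).smul_mem _ hv0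
    have huv := hD.orthogonal i0 i1 hne.symm u hu _ hvD
    have hzv := hD.orthogonal i0 i1 hne.symm z hz _ hvD
    have hx : Cfsg.hermForm n F q (u + c • v0) (u + c • v0) = 0 := by
      rw [hf.add_left, UnitaryForm.add_right hf, UnitaryForm.add_right hf, hu1, hv, huv,
        UnitaryForm.swap_eq_zero hf huv]
      ring
    refine ⟨_, utv_mem_SU hF hx he, fun h => ?_⟩
    obtain ⟨π, hπ⟩ := exists_image_of_mem h.1
    have h1 := hπ i0 (u + z) ((D i0).add_mem hu hz)
    rw [UnitaryForm.utv_mulVec hf hx, hf.add_left, UnitaryForm.add_right hf,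
      UnitaryForm.add_right hf, hu1, huv, hzu, hzv, add_zero, add_zero, add_zero, mul_one] at h1
    by_cases hπ0 : π i0 = i0
    · rw [hπ0] at h1
      have h2 := congrArg id (comp_other hD.decomp hne h1)
      rw [id, id, map_add, map_add, map_smul, map_add, comp_other hD.decomp hne hu,
        comp_other hD.decomp hne hz, comp_self hD.decomp hvD,
        zero_add, zero_add, zero_add, smul_eq_zero] at h2
      rcases h2 with h2 | h2
      · exact he0 h2
      · rw [h2, Cfsg.Agent.Lib.Unitary.herm_zero_left] at hv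
        exact one_ne_zero (neg_eq_zero.mp hv.symm)
    · have h2 := comp_other hD.decomp (Ne.symm hπ0) h1
      rw [map_add, map_add, map_smul, map_add, comp_self hD.decomp hu, comp_self hD.decomp hz,
        comp_other hD.decomp hne.symm hvD, add_zero] at h2
      have h3 := congrArg (fun x => Cfsg.hermForm n F q x z) h2
      simp only [hf.add_left, hf.smul_left, UnitaryForm.swap_eq_zero hf hzu, hzz,
        Cfsg.Agent.Lib.Unitary.herm_zero_left, mul_zero, add_zero, zero_add] at h3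
      exact one_ne_zero h3
  · exact su_le hF (by omega) (centres_all hF hD hk
      (fun g h1 h2 h3 => hHM ⟨h1, h2, h3⟩) (fun h1 h2 => hex ⟨h1, h2⟩) hgM (hMK hgM).1
      fun h => hgH ⟨h, hMK hgM⟩)

theorem maximal_of_ten {F : Type*} [Field F] [Fintype F] (n q : ℕ) (hF : Fintype.card F = q ^ 2) (hn : 10 ≤ n) {t : ℕ} (k : ℕ) (D : Fin t → Submodule F (Fin n → F)) (hD : Cfsg.Geo.IsNondegenerateMDecomposition (Cfsg.hermForm n F q) k D) (hex : ¬ (k = 2 ∧ q = 2)) : Cfsg.Geo.IsMaximalIn (Cfsg.GU n F q ⊓ Cfsg.Geo.specialLinear (Fin n) F) (Cfsg.Geo.decompositionStabilizer D ⊓ (Cfsg.GU n F q ⊓ Cfsg.Geo.specialLinear (Fin n) F)) := by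
  have hcard := card_eq hD.decomp
  rw [Fintype.card_fin] at hcard
  have hk0 := hD.decomp.pos
  rcases (show k = 1 ∨ 2 ≤ k by omega) with rfl | hk
  · rw [mul_one] at hcard
    subst hcard
    exact maximal_lines n q hF hn D hD
  exact maximal_blocks n q hF (by omega) k hk D hD hex

/-- Let F be the field with q² elements and n ≥ 13. Let D be a decomposition of F^n into t ≥ 2 pairwise orthogonal subspaces of equal dimension k, each non-degenerate for the standard unitary form, spanning F^n. Unless k = 2 and q = 2, the elements of SU_n(q) permuting the members of D form a maximal subgroup of SU_n(q). -/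
theorem result {F : Type*} [Field F] [Fintype F] (n q : ℕ) (hF : Fintype.card F = q ^ 2) (hn : 13 ≤ n) {t : ℕ} (k : ℕ) (D : Fin t → Submodule F (Fin n → F)) (hD : Cfsg.Geo.IsNondegenerateMDecomposition (Cfsg.hermForm n F q) k D) (hex : ¬ (k = 2 ∧ q = 2)) : Cfsg.Geo.IsMaximalIn (Cfsg.GU n F q ⊓ Cfsg.Geo.specialLinear (Fin n) F) (Cfsg.Geo.decompositionStabilizer D ⊓ (Cfsg.GU n F q ⊓ Cfsg.Geo.specialLinear (Fin n) F)) :=
  maximal_of_ten n q hF (by omega) k D hD hex

end Cfsg.Agent.S5655
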