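import Cfsg.Statements.S2623
import Cfsg.Agent.Lib.Forms.Basis
import Cfsg.Agent.Lib.Orth52.Discriminant
-- import your own Cfsg.Agent.* helpers here

set_option autoImplicit false
open Cfsg

namespace Cfsg.Agent.S2623

/-- Over a finite field of odd order, two quadratic forms on F^n with non-degenerate polar forms are isometric (related by an invertible linear change of variables) if and only if their discriminants (determinants of the Gram matrices of their polar forms) lie in the same square class. -/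
theorem result {F : Type*} [Field F] [Fintype F] (h2 : (2 : F) ≠ 0) {n : ℕ} (Q₁ Q₂ : QuadraticForm F (Fin n → F)) (h₁ : (QuadraticMap.polarBilin Q₁).Nondegenerate) (h₂ : (QuadraticMap.polarBilin Q₂).Nondegenerate) : (∃ g : (Fin n → F) ≃ₗ[F] (Fin n → F), ∀ v, Q₂ (g v) = Q₁ v) ↔ IsSquare ((Matrix.of (fun i j : Fin n => QuadraticMap.polar ⇑Q₁ (Pi.single i 1) (Pi.single j 1))).det * (Matrix.of (fun i j : Fin n => QuadraticMap.polar ⇑Q₂ (Pi.single i 1) (Pi.single j 1))).det) := by
  classical
  rcases Nat.eq_zero_or_pos n with rfl | hn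
  · refine iff_of_true ⟨LinearEquiv.refl _ _, fun v => ?_⟩ ?_
    · rw [Subsingleton.elim v 0, map_zero, QuadraticMap.map_zero, QuadraticMap.map_zero]
    · rw [Matrix.det_isEmpty, Matrix.det_isEmpty, one_mul]
      exact IsSquare.one
  obtain ⟨k, rfl⟩ : ∃ k, n = k + 1 := ⟨n - 1, by omega⟩
  have hd : Module.finrank F (Fin (k + 1) → F) = k + 1 := by simp
  have hchar : ringChar F ≠ 2 := fun h => h2 (by
    have := ringChar.Nat.cast_ringChar (R := F)
    rw [h] at this; exact_mod_cast this)
  obtain ⟨α, hα⟩ := FiniteField.exists_nonsquare hchar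
  have hα0 : α ≠ 0 := fun h => hα (h ▸ IsSquare.zero)
  have norm : ∀ Q : QuadraticForm F (Fin (k + 1) → F), (QuadraticMap.polarBilin Q).Nondegenerate →
      ∃ (b : Module.Basis (Fin (k + 1)) F (Fin (k + 1) → F)) (d : F), (d = 1 ∨ d = α) ∧
        (Matrix.of fun i j => QuadraticMap.polar ⇑Q (b i) (b j)) =
          Matrix.diagonal (fun i => if i = Fin.last k then d else 1) := by
    intro Q hQ
    obtain ⟨b, ho, h1, hl⟩ := Lib.Forms.exists_orth_basis_symm h2 hα k (QuadraticMap.polarBilin Q)
      ⟨fun x y => QuadraticMap.polar_comm (⇑Q) x y⟩ hQ hd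
    refine ⟨b, QuadraticMap.polar ⇑Q (b (Fin.last k)) (b (Fin.last k)), hl, ?_⟩
    ext i j
    by_cases hij : i = j
    · subst hij
      rw [Matrix.diagonal_apply_eq]
      split_ifs with h
      · subst h; rfl
      · exact h1 i h
    · rw [Matrix.diagonal_apply_ne _ hij]
      exact ho i j hij
  have detdiag : ∀ d : F, (Matrix.diagonal (fun i : Fin (k + 1) => if i = Fin.last k then d else 1)).det = d := by
    intro d; rw [Matrix.det_diagonal, Finset.prod_ite_eq']; simp
  obtain ⟨b₁, d₁, hd₁, e₁⟩ := norm Q₁ h₁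
  obtain ⟨b₂, d₂, hd₂, e₂⟩ := norm Q₂ h₂
  set D₁ := (Matrix.of (fun i j : Fin (k + 1) => QuadraticMap.polar ⇑Q₁ (Pi.single i 1) (Pi.single j 1))).det with hD₁
  set D₂ := (Matrix.of (fun i j : Fin (k + 1) => QuadraticMap.polar ⇑Q₂ (Pi.single i 1) (Pi.single j 1))).det with hD₂
  have s₁ : IsSquare D₁ ↔ IsSquare d₁ := by
    have := Lib.Orth52.isSquare_det_basis Q₁ (Pi.basisFun F (Fin (k + 1))) b₁
    simp only [Pi.basisFun_apply] at this
    rw [hD₁, this, e₁, detdiag]
  have s₂ : IsSquare D₂ ↔ IsSquare d₂ := by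
    have := Lib.Orth52.isSquare_det_basis Q₂ (Pi.basisFun F (Fin (k + 1))) b₂
    simp only [Pi.basisFun_apply] at this
    rw [hD₂, this, e₂, detdiag]
  have hne : ∀ {Q : QuadraticForm F (Fin (k + 1) → F)}, (QuadraticMap.polarBilin Q).Nondegenerate →
      (Matrix.of (fun i j : Fin (k + 1) => QuadraticMap.polar ⇑Q (Pi.single i 1) (Pi.single j 1))).det ≠ 0 :=
    fun {Q} hQ => by
      have h := Lib.Forms.gram_det_ne_zero ((Lib.Forms.nondeg_iff Q).1 hQ)
      exact h
  have hmul : IsSquare (D₁ * D₂) ↔ (IsSquare D₁ ↔ IsSquare D₂) := by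
    by_cases h : IsSquare D₂
    · rw [iff_true_right h]
      obtain ⟨r, hr⟩ := h
      have hr0 : r ≠ 0 := fun e => hne h₂ (by rw [← hD₂, hr, e, mul_zero])
      constructor
      · rintro ⟨t, ht⟩
        refine ⟨t / r, ?_⟩
        field_simp
        linear_combination ht - D₁ * hr
      · intro h; rw [hr]; exact h.mul (IsSquare.mul_self r)
    · rw [Lib.Orth52.isSquare_mul_nonsquare hchar (hne h₁) (hne h₂) h]
      simp only [h, iff_false]; rfl
  constructor
  · rintro ⟨g, hg⟩
    rw [hmul]
    have key := Lib.Orth52.isSquare_det_basis Q₂ (Pi.basisFun F (Fin (k + 1))) ((Pi.basisFun F (Fin (k + 1))).map g)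
    simp only [Pi.basisFun_apply, Module.Basis.map_apply] at key
    have hp : ∀ x y, QuadraticMap.polar ⇑Q₂ (g x) (g y) = QuadraticMap.polar ⇑Q₁ x y :=
      Lib.Forms.polar_map g.toLinearMap hg
    simp only [hp] at key
    exact key.symm
  · intro hsq
    have hdd : d₁ = d₂ := by
      have h12 : IsSquare d₁ ↔ IsSquare d₂ := s₁.symm.trans ((hmul.1 hsq).trans s₂)
      rcases hd₁ with rfl | rfl <;> rcases hd₂ with rfl | rfl
      · rfl
      · exact absurd (h12.1 IsSquare.one) hα
      · exact absurd (h12.2 IsSquare.one) hα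
      · rfl
    refine ⟨b₁.equiv b₂ (Equiv.refl _), fun v => ?_⟩
    have hpb : QuadraticMap.polarBilin (Q₂.comp (b₁.equiv b₂ (Equiv.refl _)).toLinearMap) =
        QuadraticMap.polarBilin Q₁ := by
      refine LinearMap.BilinForm.ext_basis b₁ fun i j => ?_
      have a1 := congrFun (congrFun e₁ i) j
      have a2 := congrFun (congrFun e₂ i) j
      simp only [Matrix.of_apply] at a1 a2
      simp only [QuadraticMap.polarBilin_apply_apply]
      rw [a1, hdd, ← a2]
      have hc : ∀ w, b₁.equiv b₂ (Equiv.refl _) (b₁ w) = b₂ w := fun w => by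
        rw [Module.Basis.equiv_apply]; rfl
      simp only [QuadraticMap.polar, QuadraticMap.comp_apply, LinearEquiv.coe_coe, map_add, hc]
    have h := LinearMap.congr_fun (LinearMap.congr_fun hpb v) v
    simp only [QuadraticMap.polarBilin_apply_apply, Lib.Forms.polar_self'] at h
    exact mul_left_cancel₀ h2 h

end Cfsg.Agent.S2623
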