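import Cfsg.Statements.S0132
import Cfsg.Agent.Lib.Transfer.Frobenius
import Mathlib.Algebra.Group.Prod
import Mathlib.GroupTheory.NoncommCoprod

set_option autoImplicit false
open Cfsg

namespace Cfsg.Agent.S0132

open Cfsg.Agent.Lib.Transfer
open scoped commutatorElement

/-- An element all of whose prime power order powers lie in a subgroup lies in it. -/
theorem mem_of_primePow {G : Type*} [Group G] [Finite G] (S : Subgroup G) (g : G)
    (h : ∀ k : ℕ, ∀ q s : ℕ, q.Prime → orderOf (g ^ k) = q ^ s → g ^ k ∈ S) : g ∈ S := by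
  induction hn : orderOf g using Nat.strong_induction_on generalizing g with
  | _ n ih =>
    subst hn
    rcases eq_or_ne (orderOf g) 1 with h1 | h1
    · rw [orderOf_eq_one_iff.mp h1]
      exact S.one_mem
    obtain ⟨q, hq, hqd⟩ := Nat.exists_prime_and_dvd h1
    obtain ⟨s, m, hm, hgm⟩ := Nat.exists_eq_pow_mul_and_not_dvd (orderOf_pos g).ne' q hq.ne_one
    have hs : 1 ≤ s := by
      by_contra hs
      obtain rfl : s = 0 := by omega
      rw [pow_zero, one_mul] at hgm
      exact hm (hgm ▸ hqd)
    rcases eq_or_ne m 1 with rfl | hm1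
    · rw [mul_one] at hgm
      simpa using h 1 q s hq (by rw [pow_one]; exact hgm)
    have hqs : 1 < q ^ s := Nat.one_lt_pow (by omega) hq.one_lt
    have hm0 : 0 < m := Nat.pos_of_ne_zero fun h0 => (orderOf_pos g).ne' (by rw [hgm, h0, mul_zero])
    have h1' : g ^ m ∈ S := h m q s hq (by
      rw [orderOf_pow' g hm0.ne', hgm, Nat.gcd_eq_right (dvd_mul_left _ _),
        Nat.mul_div_cancel _ hm0])
    have h2' : g ^ q ^ s ∈ S := by
      have ho : orderOf (g ^ q ^ s) = m := by
        rw [orderOf_pow' g (pow_pos hq.pos s).ne', hgm, Nat.gcd_eq_right (dvd_mul_right _ _),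
          Nat.mul_div_cancel_left _ (pow_pos hq.pos s)]
      refine ih m ?_ _ (fun k q' s' hq' ho' => ?_) ho
      · rw [hgm]; exact lt_mul_of_one_lt_left hm0 hqs
      · rw [← pow_mul] at ho' ⊢
        exact h _ q' s' hq' ho'
    have hcop : IsCoprime ((q ^ s : ℕ) : ℤ) (m : ℤ) :=
      Nat.Coprime.isCoprime (Nat.Coprime.pow_left _ (hq.coprime_iff_not_dvd.mpr hm))
    obtain ⟨u, v, huv⟩ := hcop
    have : g = (g ^ q ^ s) ^ u * (g ^ m) ^ v := by
      rw [← zpow_natCast, ← zpow_natCast g m, ← zpow_mul, ← zpow_mul, ← zpow_add,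
        mul_comm _ u, mul_comm _ v, huv, zpow_one]
    rw [this]
    exact S.mul_mem (S.zpow_mem h2' u) (S.zpow_mem h1' v)

/-- A minimal non-p-nilpotent finite group is a minimal non-nilpotent group with a normal Sylow p-subgroup. -/
theorem result {G : Type*} [Group G] [Finite G] {p : ℕ} [Fact p.Prime] (h1 : ¬ Cfsg.HasNormalPComplement p G) (h2 : ∀ H : Subgroup G, H ≠ ⊤ → Cfsg.HasNormalPComplement p H) : (∀ H : Subgroup G, H ≠ ⊤ → Group.IsNilpotent H) ∧ ¬ Group.IsNilpotent G ∧ ∀ P : Sylow p G, (P : Subgroup G).Normal := by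
  -- a `p`-subgroup with a `p'`-element of prime power order acting non-trivially
  obtain ⟨Q, hQ, g, hg, hgp, q, s, hq, hgo, hgC⟩ : ∃ Q : Subgroup G, IsPGroup p Q ∧
      ∃ g ∈ Subgroup.normalizer (Q : Set G), (orderOf g).Coprime p ∧ ∃ q s : ℕ, q.Prime ∧
        orderOf g = q ^ s ∧ g ∉ Subgroup.centralizer (Q : Set G) := by
    by_contra hcon
    apply h1
    refine Frobenius.hasNormalPComplement_of_forall_centralizes fun Q hQ _ g hg hgp => ?_
    refine mem_of_primePow _ g fun k q s hq ho => ?_
    by_contra hc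
    exact hcon ⟨Q, hQ, g ^ k, Subgroup.pow_mem _ hg k,
      Nat.Coprime.coprime_dvd_left (orderOf_pow_dvd k) hgp, q, s, hq, ho, hc⟩
  have hQg : Q ⊔ Subgroup.zpowers g = ⊤ := by
    by_contra hne
    set H := Q ⊔ Subgroup.zpowers g
    have hQH : Q ≤ H := le_sup_left
    have hgH : g ∈ H := le_sup_right (a := Q) (Subgroup.mem_zpowers g)
    have h := Frobenius.mem_centralizer_of_hasNormalPComplement (h2 H hne)
      (Q := Q.subgroupOf H) hQ.comap_subtype (g := ⟨g, hgH⟩)
      (Subgroup.mem_normalizer_iff.mpr fun x => Subgroup.mem_normalizer_iff.mp hg x)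
      (by rwa [Subgroup.orderOf_mk])
    exact hgC fun x hx => congrArg Subtype.val (h ⟨x, hQH hx⟩ hx)
  have hQn : Q.Normal := by
    refine Subgroup.normalizer_eq_top_iff.mp (top_le_iff.mp (hQg.ge.trans ?_))
    exact sup_le Subgroup.le_normalizer (Subgroup.zpowers_le.mpr hg)
  -- `Q` is a Sylow subgroup
  have hidx : ¬ p ∣ Q.index := by
    have hd : Q.index ∣ orderOf g := by
      rw [Subgroup.index_eq_card]
      have htop : Subgroup.zpowers (QuotientGroup.mk' Q g) = ⊤ := by
        rw [← MonoidHom.map_zpowers, ← Subgroup.map_top_of_surjective _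
          (QuotientGroup.mk'_surjective Q), ← hQg, Subgroup.map_sup, QuotientGroup.map_mk'_self,
          bot_sup_eq]
      rw [← Subgroup.card_top, ← htop, Nat.card_zpowers]
      exact orderOf_map_dvd _ g
    intro h
    exact (Fact.out : p.Prime).coprime_iff_not_dvd.mp hgp.symm (h.trans hd)
  have hqp : q ≠ p ∨ s = 0 := by
    rcases Nat.eq_zero_or_pos s with rfl | hs
    · exact Or.inr rfl
    · refine Or.inl fun h => ?_
      subst h
      exact (Fact.out : q.Prime).coprime_iff_not_dvd.mp hgp.symm (hgo ▸ dvd_pow_self q hs.ne')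
  refine ⟨fun H hH => ?_, ?_, fun P => ?_⟩
  · -- proper subgroups are nilpotent
    obtain ⟨SH, N, hN, hc⟩ := h2 H hH
    have hQH : IsPGroup p (Q.subgroupOf H) := hQ.comap_subtype
    have hNp : ¬ p ∣ Nat.card N := by rw [← hc.index_eq_card]; exact SH.not_dvd_index
    have hSH : (SH : Subgroup H) = Q.subgroupOf H := by
      refine (SH.3 hQH ?_).symm
      intro x hx
      rw [Subgroup.mem_subgroupOf]
      by_contra hxQ
      obtain ⟨k, hk⟩ := IsPGroup.iff_orderOf.mp SH.2 ⟨x, hx⟩
      rw [Subgroup.orderOf_mk, ← Subgroup.orderOf_coe] at hk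
      have hd1 : orderOf (QuotientGroup.mk' Q (x : G)) ∣ p ^ k := hk ▸ orderOf_map_dvd _ _
      have hd2 : orderOf (QuotientGroup.mk' Q (x : G)) ∣ Q.index := by
        rw [Subgroup.index_eq_card]; exact orderOf_dvd_natCard _
      have := Nat.eq_one_of_dvd_coprimes
        (Nat.Coprime.pow_left _ ((Fact.out : p.Prime).coprime_iff_not_dvd.mpr hidx)) hd1 hd2
      exact hxQ ((QuotientGroup.eq_one_iff _).mp (orderOf_eq_one_iff.mp this))
    have hSn : (SH : Subgroup H).Normal := hSH ▸ hQn.subgroupOf H
    have hcomm : ∀ a ∈ N, ∀ b ∈ (SH : Subgroup H), a * b = b * a := fun a ha b hb =>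
      Subgroup.commute_of_normal_of_disjoint N _ hN hSn hc.disjoint a b ha hb
    let e : N × (SH : Subgroup H) →* H :=
      MonoidHom.noncommCoprod N.subtype (SH : Subgroup H).subtype fun a b => hcomm a a.2 b b.2
    have heb : Function.Bijective e := hc
    -- `N` has prime power order
    have hNq : IsPGroup q N := by
      have hd : Nat.card N ∣ q ^ s := by
        have h1 : Nat.card (N.map H.subtype) ∣ orderOf g := by
          set M := N.map H.subtype
          have hMQ : Function.Injective ((QuotientGroup.mk' Q).comp M.subtype) := by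
            rw [injective_iff_map_eq_one]
            rintro ⟨y, ⟨x, hx, rfl⟩⟩ hy
            have hxQ : x ∈ (SH : Subgroup H) := by
              rw [hSH, Subgroup.mem_subgroupOf]
              exact (QuotientGroup.eq_one_iff _).mp hy
            have := Subgroup.disjoint_def.mp hc.disjoint hx hxQ
            subst this
            rfl
          refine (Subgroup.card_dvd_of_injective _ hMQ).trans ?_
          have htop : Subgroup.zpowers (QuotientGroup.mk' Q g) = ⊤ := by
            rw [← MonoidHom.map_zpowers, ← Subgroup.map_top_of_surjective _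
              (QuotientGroup.mk'_surjective Q), ← hQg, Subgroup.map_sup,
              QuotientGroup.map_mk'_self, bot_sup_eq]
          rw [← Subgroup.card_top (G := G ⧸ Q), ← htop, Nat.card_zpowers]
          exact orderOf_map_dvd _ g
        rwa [Subgroup.card_map_of_injective H.subtype_injective, hgo] at h1
      exact IsPGroup.of_card_dvd_pow hd
    have : Fact q.Prime := ⟨hq⟩
    have := hNq.isNilpotent
    have := (SH.2).isNilpotent
    exact Group.nilpotent_of_mulEquiv (MulEquiv.ofBijective e heb)
  · intro hnil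
    exact h1 Frobenius.hasNormalPComplement_of_isNilpotent
  · have : Q = (P : Subgroup G) := by
      obtain ⟨S, hS⟩ := hQ.exists_le_sylow
      have hQS : Q = (S : Subgroup G) := by
        refine le_antisymm hS fun x hx => ?_
        by_contra hxQ
        obtain ⟨k, hk⟩ := IsPGroup.iff_orderOf.mp S.2 ⟨x, hx⟩
        rw [Subgroup.orderOf_mk] at hk
        have hd1 : orderOf (QuotientGroup.mk' Q x) ∣ p ^ k := hk ▸ orderOf_map_dvd _ _
        have hd2 : orderOf (QuotientGroup.mk' Q x) ∣ Q.index := by
          rw [Subgroup.index_eq_card]; exact orderOf_dvd_natCard _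
        have := Nat.eq_one_of_dvd_coprimes
          (Nat.Coprime.pow_left _ ((Fact.out : p.Prime).coprime_iff_not_dvd.mpr hidx)) hd1 hd2
        exact hxQ ((QuotientGroup.eq_one_iff _).mp (orderOf_eq_one_iff.mp this))
      obtain ⟨t, rfl⟩ := MulAction.exists_smul_eq G S P
      rw [Sylow.coe_subgroup_smul, ← hQS, Subgroup.Normal.conj_smul_eq_self]
    exact this ▸ hQn

end Cfsg.Agent.S0132
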