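import Cfsg.Statements.S3189
import Mathlib
import Cfsg.Agent.Lib.Inv59.EightChar

set_option autoImplicit false
open Cfsg

namespace Cfsg.Agent.S3189

/-- Let G be a non-abelian finite simple group whose Sylow 2-subgroup S is elementary abelian of order 8, and suppose the centralizer of every involution of G is solvable. Then the normalizer of S modulo the centralizer of S has order 7. -/
theorem result {G : Type*} [Group G] [Finite G]
    [IsSimpleGroup G] (hG : ¬ IsMulCommutative G) (S : Sylow 2 G)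
    (hS : Cfsg.IsElementaryAbelian 2 (S : Subgroup G)) (hS8 : Nat.card ↥(S : Subgroup G) = 8)
    (hC : ∀ t : G, orderOf t = 2 → Group.IsSolvable ↥(Subgroup.centralizer ({t} : Set G))) :
    (Subgroup.centralizer ((S : Subgroup G) : Set G)).relIndex (Subgroup.normalizer ((S : Subgroup G) : Set G)) = 7 := by
  have hab := hS.1
  have hexp := hS.2
  rcases Lib.Inv59.EightAuto.seven_or_exists hG S hab hexp hS8 with h | ⟨t, htS, ht, x, hxN, hxt, hxC⟩
  · exact h
  exfalso
  classical
  haveI := Fintype.ofFinite G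
  set H := Subgroup.centralizer (Subgroup.zpowers t : Set G) with hH
  have hmem : ∀ {g : G}, g ∈ H ↔ Commute g t := fun {g} =>
    Lib.BrauerMap.SecondMain.mem_centralizer_zpowers_iff
  have hle : (S : Subgroup G) ≤ H := fun s hs =>
    hmem.2 (congrArg Subtype.val (hab.is_comm.comm (⟨s, hs⟩ : (S : Subgroup G)) ⟨t, htS⟩))
  haveI : Group.IsSolvable H := by
    rw [hH, Lib.BrauerMap.PrincipalSection.centralizer_zpowers_eq]
    exact hC t ht
  set SH : Sylow 2 H := S.subtype hle with hSH
  have hSHc : (SH : Subgroup H) = (S : Subgroup G).subgroupOf H := S.coe_subtype hle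
  have hSH8 : Nat.card (SH : Subgroup H) = 8 := by
    rw [hSHc, Nat.card_congr (Subgroup.subgroupOfEquivOfLe hle).toEquiv, hS8]
  have hSHexp : ∀ a ∈ (SH : Subgroup H), a ^ 2 = 1 := by
    rw [hSHc]
    intro a ha
    exact Subtype.ext (hexp _ ha)
  have hxH : x ∈ H := hmem.2 hxt.symm
  have htH : t ∈ H := hmem.2 (Commute.refl t)
  have ht1 : t ≠ 1 := fun h => by rw [h, orderOf_one] at ht; omega
  obtain ⟨H₀, N, μ, D⟩ := Lib.Inv59.EightCent.exists_data SH hSHexp hSH8
    (t := ⟨t, htH⟩) (by rw [hSHc]; exact htS) (fun h => ht1 (congrArg Subtype.val h))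
    (fun c => Subtype.ext (hmem.1 c.2).eq.symm)
    (x := ⟨x, hxH⟩)
    (by
      rw [hSHc, Subgroup.mem_normalizer_iff]
      intro a
      simp only [SetLike.mem_coe, Subgroup.mem_subgroupOf, Subgroup.coe_mul, Subgroup.coe_inv]
      exact Subgroup.mem_normalizer_iff.1 hxN (a : G))
    (by
      intro h
      refine hxC (Subgroup.mem_centralizer_iff.2 fun a ha => ?_)
      exact congrArg Subtype.val
        (Subgroup.mem_centralizer_iff.1 h ⟨a, hle ha⟩ (by rw [hSHc]; exact ha)))
  haveI := Fintype.ofFinite H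
  haveI := Fintype.ofFinite H₀
  refine Lib.Inv59.EightChar.contradiction (t := t) (H := H) (μ := μ) S hS8 (fun s hs hs1 => ?_)
    hH ht D
  have hm : s ∈ ((S : Subgroup G) : Set G) \ {1} := ⟨hs, hs1⟩
  rw [← Lib.Inv59.EightAuto.transitive hG S hab hexp hS8 htS ht1] at hm
  obtain ⟨n, -, hn⟩ := hm
  exact isConj_iff.2 ⟨n, hn⟩

end Cfsg.Agent.S3189
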