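import Cfsg.Statements.S0107
import Cfsg.Agent.Lib.Fusion.Thompson
import Mathlib.GroupTheory.IndexNormal

set_option autoImplicit false
open Cfsg

namespace Cfsg.Agent.S0107

/-- A finite group with no nontrivial 2-group quotient and dihedral Sylow 2-subgroups of order at least 8 has a single class of involutions. -/
theorem result {G : Type*} [Group G] [Finite G] (T : Sylow 2 G) (n : ℕ) (hn : 2 ≤ n) (hT : Nonempty ((T : Subgroup G) ≃* DihedralGroup (2 ^ n))) (hO : Cfsg.pResidual 2 G = ⊤) (x y : G) (hx : orderOf x = 2) (hy : orderOf y = 2) : ∃ g : G, g * x * g⁻¹ = y := by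
  obtain ⟨e⟩ := hT
  have : NeZero (2 ^ n) := ⟨(pow_pos two_pos n).ne'⟩
  have hodd : ¬ 2 ∣ (T : Subgroup G).index := T.not_dvd_index
  set r : G := ((e.symm (DihedralGroup.r 1) : ↥(T : Subgroup G)) : G) with hr
  have hrT : r ∈ (T : Subgroup G) := (e.symm (DihedralGroup.r 1)).2
  have hord : orderOf r = 2 ^ n := by
    rw [hr, Subgroup.orderOf_coe, MulEquiv.orderOf_eq, DihedralGroup.orderOf_r_one]
  have hM : (Subgroup.zpowers r).index % 4 = 2 := by
    have h1 := (Subgroup.zpowers r).card_mul_index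
    have h2 := (T : Subgroup G).card_mul_index
    rw [Nat.card_zpowers, hord, ← h2, Nat.card_congr e.toEquiv, DihedralGroup.nat_card] at h1
    have h3 : (Subgroup.zpowers r).index = 2 * (T : Subgroup G).index :=
      Nat.eq_of_mul_eq_mul_left (pow_pos two_pos n) (by rw [h1]; ring)
    omega
  have hno : ∀ N : Subgroup G, N.index ≠ 2 := by
    intro N hN
    have := Subgroup.normal_of_index_eq_two hN
    have hle : Cfsg.pResidual 2 G ≤ N := by
      rw [Cfsg.pResidual, Subgroup.closure_le]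
      intro g hg
      have h2 : g ^ 2 ∈ N := hN ▸ N.pow_index_mem g
      obtain ⟨k, hk⟩ : ∃ k, orderOf g = 2 * k + 1 := by
        refine (Nat.odd_iff.mpr ?_)
        rcases Nat.mod_two_eq_zero_or_one (orderOf g) with h | h
        · exact absurd (Nat.dvd_of_mod_eq_zero h) (Nat.prime_two.coprime_iff_not_dvd.mp hg.symm)
        · exact h
      have h3 : g ^ (2 * k + 1) = 1 := hk ▸ pow_orderOf_eq_one g
      rw [pow_succ, pow_mul, mul_eq_one_iff_inv_eq] at h3
      rw [SetLike.mem_coe, ← h3]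
      exact N.inv_mem (N.pow_mem h2 k)
    rw [hO, top_le_iff] at hle
    rw [hle, Subgroup.index_top] at hN
    exact absurd hN (by norm_num)
  have hcyc : ∀ a b : G, a ∈ Subgroup.zpowers r → orderOf a = 2 → b ∈ Subgroup.zpowers r →
      orderOf b = 2 → a = b := by
    intro a b ha ha2 hb hb2
    have key : ∀ c : G, c ∈ Subgroup.zpowers r → orderOf c = 2 → c = r ^ 2 ^ (n - 1) := by
      intro c hc hc2
      classical
      obtain ⟨i, hi, rfl⟩ := (isOfFinOrder_of_finite r).mem_zpowers_iff_mem_range_orderOf.mp hc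
        |> Finset.mem_image.mp
      rw [Finset.mem_range, hord] at hi
      have h2 : (r ^ i) ^ 2 = 1 := hc2 ▸ pow_orderOf_eq_one (r ^ i)
      rw [← pow_mul] at h2
      have hd := orderOf_dvd_of_pow_eq_one h2
      rw [hord] at hd
      obtain ⟨m, rfl⟩ : ∃ m, n = m + 1 := ⟨n - 1, by omega⟩
      rw [pow_succ, Nat.mul_dvd_mul_iff_right two_pos] at hd
      obtain ⟨q, rfl⟩ := hd
      rw [pow_succ] at hi
      have hq : q < 2 := Nat.lt_of_mul_lt_mul_left hi
      interval_cases q
      · simp at hc2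
      · simp
    rw [key a ha ha2, key b hb hb2]
  obtain ⟨g₁, h1⟩ := Cfsg.Agent.Lib.Fusion.Thompson.exists_conj_mem _ hM hno x hx
  obtain ⟨g₂, h2⟩ := Cfsg.Agent.Lib.Fusion.Thompson.exists_conj_mem _ hM hno y hy
  have h := hcyc _ _ h1 (by rw [← MulAut.conj_apply, MulEquiv.orderOf_eq, hx])
    h2 (by rw [← MulAut.conj_apply, MulEquiv.orderOf_eq, hy])
  refine ⟨g₂⁻¹ * g₁, ?_⟩
  calc g₂⁻¹ * g₁ * x * (g₂⁻¹ * g₁)⁻¹ = g₂⁻¹ * (g₁ * x * g₁⁻¹) * g₂ := by group
    _ = y := by rw [h]; group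

end Cfsg.Agent.S0107
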