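import Cfsg.Statements.S2916
import Cfsg.Agent.S0197
import Cfsg.Agent.Lib.RecogThree.L33.Model
import Cfsg.Agent.Lib.RecogThree.L33.Reduce
import Cfsg.Agent.Lib.RecogThree.L33.Example
import Cfsg.Agent.Lib.RecogThree.M11.Unique

set_option autoImplicit false
open Cfsg

namespace Cfsg.Agent.S2916

/-- Let G be a finite group with O²(G) = G (no proper normal subgroup of 2-power index), and let t be an involution of G whose centralizer C_G(t) is isomorphic to GL₂(3). Then G is isomorphic to PSL₃(3) or to the Mathieu group M₁₁. -/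
theorem result {G : Type*} [Group G] [Finite G] (hO : Cfsg.pResidual 2 G = ⊤) (t : G) (ht : orderOf t = 2) (hC : Nonempty (↥(Subgroup.centralizer ({t} : Set G)) ≃* GL (Fin 2) (ZMod 3))) : (∃ (F : Type) (_ : Field F) (_ : Fintype F), Fintype.card F = 3 ∧ Nonempty (G ≃* Matrix.ProjectiveSpecialLinearGroup (Fin 3) F)) ∨ Cfsg.Spor.IsoM11 G := by
  obtain ⟨e⟩ := hC
  have hno : ∀ N : Subgroup G, N.index ≠ 2 := by
    intro N hN
    have hle : Cfsg.pResidual 2 G ≤ N := by
      rw [Cfsg.pResidual, Subgroup.closure_le]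
      intro g hg
      have hodd : Nat.Coprime (orderOf g) 2 := hg
      obtain ⟨m, hm⟩ := exists_pow_eq_self_of_coprime (x := g) (n := 2) hodd.symm
      rw [SetLike.mem_coe, ← hm]
      exact pow_mem (Subgroup.sq_mem_of_index_two hN g) m
    rw [hO, top_le_iff] at hle
    rw [hle, Subgroup.index_top] at hN
    norm_num at hN
  haveI := Cfsg.Agent.Lib.RecogThree.L33.Reduce.isSimple e ht hno
  rcases Cfsg.Agent.S0197.result t ht e with h | h
  · left
    haveI : Fact (Nat.Prime 13) := ⟨by norm_num⟩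
    haveI : Fact (Nat.Prime 3) := ⟨Nat.prime_three⟩
    haveI : Finite (Matrix.SpecialLinearGroup (Fin 3) (ZMod 3)) :=
      Nat.finite_of_card_ne_zero
        (by rw [Cfsg.Agent.Lib.Spectrum.SLThreeThree.card_SL3]; norm_num)
    haveI := Cfsg.Agent.Lib.RecogThree.L33.Example.isSimple
    obtain ⟨φ⟩ := Cfsg.Agent.Lib.RecogThree.L33.Model.unique e h ht
      Cfsg.Agent.Lib.RecogThree.L33.Example.centEquiv
      Cfsg.Agent.Lib.Spectrum.SLThreeThree.card_SL3
      Cfsg.Agent.Lib.RecogThree.L33.Example.orderOf_d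
    exact ⟨ZMod 3, inferInstance, inferInstance, ZMod.card 3,
      ⟨φ.trans Cfsg.Agent.Lib.RecogThree.L33.Example.toPSL⟩⟩
  · exact Or.inr (Cfsg.Agent.Lib.RecogThree.M11.Unique.equiv_M11 h)

end Cfsg.Agent.S2916
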