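import Cfsg.Statements.S3304
import Mathlib
import Cfsg.Agent.Lib.OctahedralCore76

set_option autoImplicit false
set_option linter.style.haveILetI false
open Cfsg

namespace Cfsg.Agent.S3304

open Cfsg.Agent.Lib Cfsg.Agent.Lib.OctahedralCore76 Cfsg.Agent.Lib.PGroups

/-- The rank condition on intersections passes to `G/O(G)`. -/
theorem inter_quot {G : Type*} [Group G] [Finite G]
    (hC : ∀ S T : Sylow 2 G, S ≠ T → PRankLE 2 1 ↥((S : Subgroup G) ⊓ (T : Subgroup G)))
    (S T : Sylow 2 (G ⧸ oddCore G)) (hne : S ≠ T) :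
    PRankLE 2 1 ↥((S : Subgroup (G ⧸ oddCore G)) ⊓ (T : Subgroup (G ⧸ oddCore G))) := by
  haveI : Fact (Nat.Prime 2) := ⟨Nat.prime_two⟩
  have hcop := Cores.pPrimeCore_coprime (G := G) 2
  change (Nat.card (oddCore G)).Coprime 2 at hcop
  set H := oddCore G
  have hπ : Function.Surjective (QuotientGroup.mk' H) := QuotientGroup.mk'_surjective H
  set π := QuotientGroup.mk' H
  obtain ⟨S₀, hS₀⟩ := Sylow.mapSurjective_surjective hπ 2 S
  obtain ⟨T₁, hT₁⟩ := Sylow.mapSurjective_surjective hπ 2 T
  have hS₀' : (S₀ : Subgroup G).map π = (S : Subgroup (G ⧸ H)) := by rw [← hS₀]; rfl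
  have hT₁' : (T₁ : Subgroup G).map π = (T : Subgroup (G ⧸ H)) := by rw [← hT₁]; rfl
  set D₀ : Subgroup G := (S₀ : Subgroup G) ⊓ (T : Subgroup (G ⧸ H)).comap π with hD₀
  have hD₀p : IsPGroup 2 ((D₀.subgroupOf ((T : Subgroup (G ⧸ H)).comap π))) :=
    IsPGroup.of_equiv (S₀.2.to_le inf_le_left)
      (Subgroup.subgroupOfEquivOfLe (inf_le_right : D₀ ≤ _)).symm
  obtain ⟨P, hP⟩ := hD₀p.exists_le_sylow
  set T' : Subgroup G := (P : Subgroup ↥((T : Subgroup (G ⧸ H)).comap π)).map (Subgroup.subtype _)
  have hT₁le : (T₁ : Subgroup G) ≤ (T : Subgroup (G ⧸ H)).comap π := Subgroup.map_le_iff_le_comap.1 hT₁'.le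
  have hcard : Nat.card T' = Nat.card (T₁ : Subgroup G) := by
    rw [Subgroup.card_map_of_injective (Subgroup.subtype_injective _)]
    let P₁ : Sylow 2 ↥((T : Subgroup (G ⧸ H)).comap π) := T₁.subtype hT₁le
    have h1 : Nat.card (P : Subgroup ↥((T : Subgroup (G ⧸ H)).comap π)) = Nat.card (P₁ : Subgroup ↥((T : Subgroup (G ⧸ H)).comap π)) := by
      rw [P.card_eq_multiplicity, P₁.card_eq_multiplicity]
    rw [h1]
    exact Nat.card_congr (Subgroup.subgroupOfEquivOfLe hT₁le).toEquiv
  let T₀ : Sylow 2 G := Sylow.ofCard T' (by rw [hcard, T₁.card_eq_multiplicity])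
  have hT₀le : (T₀ : Subgroup G).map π ≤ (T : Subgroup (G ⧸ H)) :=
    Subgroup.map_le_iff_le_comap.2 (Subgroup.map_subtype_le _)
  have hT₀eq : (T₀ : Subgroup G).map π = (T : Subgroup (G ⧸ H)) :=
    ((T₀.mapSurjective hπ).3 T.2 hT₀le).symm
  have hne0 : S₀ ≠ T₀ := by
    intro h
    exact hne (Sylow.ext (by rw [← hS₀', h, hT₀eq]))
  have hrk := hC S₀ T₀ hne0
  have hD₀T : D₀ ≤ (T₀ : Subgroup G) := by
    intro d hd
    exact ⟨⟨d, hd.2⟩, hP (Subgroup.mem_subgroupOf.2 hd), rfl⟩
  have hmap : (S : Subgroup (G ⧸ H)) ⊓ (T : Subgroup (G ⧸ H)) = ((S₀ : Subgroup G) ⊓ (T₀ : Subgroup G)).map π := by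
    apply le_antisymm
    · rintro d ⟨hdS, hdT⟩
      rw [← hS₀'] at hdS
      obtain ⟨s, hs, rfl⟩ := hdS
      exact ⟨s, ⟨hs, hD₀T ⟨hs, hdT⟩⟩, rfl⟩
    · refine (Subgroup.map_inf_le _ _ _).trans ?_
      rw [hS₀', hT₀eq]
  set D : Subgroup G := (S₀ : Subgroup G) ⊓ (T₀ : Subgroup G)
  have hDp : IsPGroup 2 D := S₀.2.to_le inf_le_left
  have hinj : Function.Injective (π.subgroupMap D) := by
    rw [injective_iff_map_eq_one]
    intro d hd
    have hdH : (d : G) ∈ H := (QuotientGroup.eq_one_iff _).1 (congrArg Subtype.val hd)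
    obtain ⟨k, hk⟩ := IsPGroup.iff_orderOf.1 hDp d
    have h1 : orderOf (d : G) ∣ Nat.card H := by
      have := orderOf_dvd_natCard (⟨(d : G), hdH⟩ : H)
      rwa [← Subgroup.orderOf_coe] at this
    rw [Subgroup.orderOf_coe, hk] at h1
    have hg : 2 ^ k ∣ Nat.gcd (Nat.card H) (2 ^ k) := Nat.dvd_gcd h1 dvd_rfl
    rw [show Nat.gcd (Nat.card H) (2 ^ k) = 1 from (hcop.pow_right k)] at hg
    rw [← orderOf_eq_one_iff, hk]
    exact Nat.dvd_one.1 hg
  have e := MulEquiv.ofBijective (π.subgroupMap D) ⟨hinj, MonoidHom.subgroupMap_surjective _ _⟩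
  intro A hA hexp
  have hc := hmap ▸ e
  rw [← Subgroup.card_map_of_injective (f := hc.symm.toMonoidHom) (K := A) hc.symm.injective]
  refine hrk _ ?_ ?_
  · refine ⟨⟨?_⟩⟩
    rintro ⟨x, a, ha, rfl⟩ ⟨y, b, hb, rfl⟩
    have := congrArg Subtype.val (hA.is_comm.comm (⟨a, ha⟩ : A) ⟨b, hb⟩)
    apply Subtype.ext
    show hc.symm a * hc.symm b = hc.symm b * hc.symm a
    rw [← map_mul, ← map_mul]
    exact congrArg hc.symm this
  · rintro x ⟨a, ha, rfl⟩
    show hc.symm a ^ 2 = 1
    rw [← map_pow, hexp a ha, map_one]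

set_option maxHeartbeats 1000000 in
theorem key {X : Type*} [Group X] [Finite X] [Group.IsSolvable X] (hcore : pPrimeCore 2 X = ⊥)
    (hI : ∀ S T : Sylow 2 X, S ≠ T → PRankLE 2 1 ↥((S : Subgroup X) ⊓ (T : Subgroup X))) :
    (∃ P : Sylow 2 X, (P : Subgroup X).Normal) ∨ Nonempty (X ≃* GL (Fin 2) (ZMod 3)) ∨
    (Nat.card X = 48 ∧ Nat.card ↥(Subgroup.center X) = 2 ∧
      Nonempty (X ⧸ Subgroup.center X ≃* Equiv.Perm (Fin 4)) ∧
      ∀ P : Sylow 2 X, Nonempty (↥(P : Subgroup X) ≃* QuaternionGroup 4)) := by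
  classical
  haveI : Fact (Nat.Prime 2) := ⟨Nat.prime_two⟩
  haveI : Fact (Nat.Prime 3) := ⟨Nat.prime_three⟩
  refine or_iff_not_imp_left.2 fun hnn => ?_
  push Not at hnn
  set Q := pCore 2 X with hQdef
  have hQle : ∀ P : Sylow 2 X, Q ≤ (P : Subgroup X) := fun P => Cores.pCore_le_sylow P
  have hQp : IsPGroup 2 Q := Cores.pCore_isPGroup 2
  have hQn : Q.Normal := by rw [hQdef]; infer_instance
  have hCQ : Subgroup.centralizer (Q : Set X) ≤ Q := SylowInter.Basic.centralizer_pCore_le 2 hcore
  obtain ⟨P₁, P₂, hP12⟩ : ∃ P₁ P₂ : Sylow 2 X, P₁ ≠ P₂ := by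
    by_contra! hall
    obtain ⟨P₀⟩ : Nonempty (Sylow 2 X) := inferInstance
    haveI : Subsingleton (Sylow 2 X) := ⟨hall⟩
    exact hnn P₀ (Sylow.normal_of_subsingleton P₀)
  have hnotp : ¬ IsPGroup 2 X := by
    intro h
    apply hP12
    have h1 : Q = ⊤ := Cores.pCore_eq_top_iff.2 h
    exact Sylow.ext ((top_le_iff.1 (h1 ▸ hQle P₁)).trans (top_le_iff.1 (h1 ▸ hQle P₂)).symm)
  have huQ : ∀ a b : Q, a * a = 1 → b * b = 1 → a * b = b * a → a ≠ 1 → b ≠ 1 → a = b := by
    intro a b ha hb hab ha1 hb1
    have hle : Q ≤ (P₁ : Subgroup X) ⊓ (P₂ : Subgroup X) := le_inf (hQle P₁) (hQle P₂)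
    have h := eq_of_rank_one (hI P₁ P₂ hP12) (a := Subgroup.inclusion hle a)
      (b := Subgroup.inclusion hle b) (by rw [← map_mul, ha, map_one]) (by rw [← map_mul, hb, map_one])
      (by rw [← map_mul, ← map_mul, hab])
      (fun h => ha1 (Subgroup.inclusion_injective hle (by rw [h, map_one])))
      (fun h => hb1 (Subgroup.inclusion_injective hle (by rw [h, map_one])))
    exact Subgroup.inclusion_injective hle h
  have hu : ∀ x y : Q, orderOf x = 2 → orderOf y = 2 → y ∈ Subgroup.zpowers x := by
    intro x y hx hy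
    haveI : Nontrivial Q := ⟨⟨x, 1, fun h => by rw [h, orderOf_one] at hx; omega⟩⟩
    haveI := hQp.center_nontrivial
    obtain ⟨c, hc⟩ := exists_prime_orderOf_dvd_card' 2 (G := Subgroup.center Q) (by
      obtain ⟨n, hn⟩ := IsPGroup.iff_card.1 (hQp.to_subgroup (Subgroup.center Q))
      have h1 : 1 < Nat.card (Subgroup.center Q) := Finite.one_lt_card
      rcases n with _ | n
      · rw [hn, pow_zero] at h1; omega
      · rw [hn]; exact dvd_pow_self 2 n.succ_ne_zero)
    have key : ∀ u : Q, orderOf u = 2 → u = (c : Q) := by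
      intro u hu
      have hcc : orderOf (c : Q) = 2 := by rw [Subgroup.orderOf_coe]; exact hc
      refine huQ u c (by rw [← sq, ← hu]; exact pow_orderOf_eq_one u)
        (by rw [← sq, ← hcc]; exact pow_orderOf_eq_one _) (Subgroup.mem_center_iff.1 c.2 u) ?_ ?_
      · intro h; rw [h, orderOf_one] at hu; omega
      · intro h; rw [h, orderOf_one] at hcc; omega
    rw [key y hy, key x hx]
    exact Subgroup.mem_zpowers _
  -- `Q` is the quaternion group of order eight
  obtain ⟨e⟩ : Nonempty (Q ≃* QuaternionGroup 2) := by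
    have hCp : IsPGroup 2 ↥(Subgroup.centralizer (Q : Set X)) := hQp.to_le hCQ
    rcases isCyclic_or_quaternion hQp hu with hcyc | ⟨-, n, hn, ⟨e⟩⟩
    · exact absurd (SylowInter.Basic.isPGroup_of_aut Q hCp
        (SylowInter.Basic.isPGroup_mulAut_of_cyclic hQp)) hnotp
    · rcases eq_or_lt_of_le hn with rfl | hn2
      · exact ⟨e⟩
      · haveI : NeZero (2 ^ n) := ⟨(pow_pos two_pos n).ne'⟩
        have hA : IsPGroup 2 (MulAut (QuaternionGroup (2 ^ n))) :=
          TwoGroups.OddAut.isPGroup_mulAut fun φ hφ => FpfLinear.Perfect.quaternion_aut_big rfl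
            (Nat.pow_le_pow_right (n := 2) (by norm_num) hn2) φ (pow_orderOf_eq_one φ)
            hφ.not_two_dvd_nat
        exact absurd (SylowInter.Basic.isPGroup_of_aut Q hCp
          (hA.of_equiv (MulAut.congr e).symm)) hnotp
  have hQ8 : Nat.card Q = 8 := by
    rw [Nat.card_congr e.toEquiv, Nat.card_eq_fintype_card, QuaternionGroup.card]
  set z : X := ((e.symm (.a 2) : Q) : X) with hzdef
  have hzQ : z ∈ Q := (e.symm (.a 2)).2
  have hz1 : z ≠ 1 := by
    intro h
    have h' : e.symm (.a 2) = 1 := Subtype.ext h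
    rw [MulEquiv.map_eq_one_iff] at h'
    exact absurd h' (by decide)
  have hz2 : z * z = 1 := by
    rw [hzdef, ← Subgroup.coe_mul, ← map_mul, show (QuaternionGroup.a 2 : QuaternionGroup 2) * .a 2 = 1 by decide,
      map_one, Subgroup.coe_one]
  have hQinv : ∀ q ∈ Q, q * q = 1 → q = 1 ∨ q = z := by
    intro q hq hq2
    rcases quat_involution (e ⟨q, hq⟩) (by
      rw [← map_mul]
      exact (congrArg e (Subtype.ext hq2 : (⟨q, hq⟩ * ⟨q, hq⟩ : Q) = 1)).trans e.map_one) with h | h
    · rw [MulEquiv.map_eq_one_iff] at h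
      exact Or.inl (congrArg Subtype.val h)
    · refine Or.inr ?_
      rw [hzdef, ← h, e.symm_apply_apply]
  have hzC : z ∈ Subgroup.center X := by
    rw [Subgroup.mem_center_iff]
    intro g
    rcases hQinv (g * z * g⁻¹) (hQn.conj_mem z hzQ g) (by
      rw [show g * z * g⁻¹ * (g * z * g⁻¹) = g * (z * z) * g⁻¹ by group, hz2, mul_one,
        mul_inv_cancel]) with h | h
    · exact absurd (conj_eq_one_iff.1 h) hz1
    · exact mul_inv_eq_iff_eq_mul.1 h
  have hC2 : Subgroup.centralizer (Q : Set X) = Subgroup.zpowers z := by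
    refine le_antisymm (fun c hc => ?_) (Subgroup.zpowers_le.2 ?_)
    · rcases quat_center (e ⟨c, hCQ hc⟩) (fun v => by
        obtain ⟨q, rfl⟩ := e.surjective v
        rw [← map_mul, ← map_mul]
        exact congrArg e (Subtype.ext ((Subgroup.mem_centralizer_iff.1 hc) q q.2).symm)) with h | h
      · rw [MulEquiv.map_eq_one_iff] at h
        have h' : c = 1 := congrArg Subtype.val h
        rw [h']; exact one_mem _
      · have h' : c = z := by rw [hzdef, ← h, e.symm_apply_apply]
        rw [h']; exact Subgroup.mem_zpowers z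
    · exact Subgroup.center_le_centralizer _ hzC
  have hoz : orderOf z = 2 := orderOf_eq_prime (by rw [sq]; exact hz2) hz1
  have hcardC : Nat.card (Subgroup.centralizer (Q : Set X)) = 2 := by
    rw [hC2, Nat.card_zpowers, hoz]
  -- the order of `X`
  set conjQ : X →* MulAut (QuaternionGroup 2) :=
    (MulAut.congr e).toMonoidHom.comp (MulAut.conjNormal : X →* MulAut Q) with hconj
  have hker : conjQ.ker = Subgroup.centralizer (Q : Set X) := by
    ext g
    rw [← SylowInter.Basic.ker_conjNormal, MonoidHom.mem_ker, MonoidHom.mem_ker, hconj,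
      MonoidHom.comp_apply]
    exact MulEquiv.map_eq_one_iff _
  haveI : Finite (MulAut (QuaternionGroup 2)) :=
    Finite.of_injective (fun φ => (φ : QuaternionGroup 2 → QuaternionGroup 2)) DFunLike.coe_injective
  obtain ⟨r, hr24, hX⟩ : ∃ r, r ≤ 24 ∧ Nat.card X = 2 * r := by
    refine ⟨Nat.card conjQ.range, (Subgroup.card_le_card_group _).trans card_mulAut_quat_le, ?_⟩
    rw [← Subgroup.card_mul_index conjQ.ker, Subgroup.index_ker, hker, hcardC]
  obtain ⟨S₀⟩ : Nonempty (Sylow 2 X) := inferInstance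
  have hS₀Q : (S₀ : Subgroup X) ≠ Q := by
    intro h
    exact hnn S₀ (h ▸ hQn)
  have hX8 : 8 ∣ Nat.card X := hQ8 ▸ Q.card_subgroup_dvd_card
  have h48 : Nat.card X = 48 := by
    have hS8 : 8 < Nat.card S₀ := by
      rw [← hQ8]
      refine lt_of_le_of_ne (Subgroup.card_le_of_le (hQle S₀)) fun h => hS₀Q ?_
      exact (Subgroup.eq_of_le_of_card_ge (hQle S₀) h.ge).symm
    obtain ⟨m, hm⟩ := IsPGroup.iff_card.1 S₀.2
    have h16 : 16 ∣ Nat.card X := by
      refine dvd_trans ?_ ((S₀ : Subgroup X).card_subgroup_dvd_card)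
      rw [hm] at hS8 ⊢
      have : 3 < m := (Nat.pow_lt_pow_iff_right (a := 2) (by norm_num)).1 (by simpa using hS8)
      exact (show 16 = 2 ^ 4 by norm_num) ▸ pow_dvd_pow 2 this
    obtain ⟨k, hk⟩ := h16
    have hk3 : k ≤ 3 := by omega
    interval_cases k
    · exact absurd hk Nat.card_pos.ne'
    · exact absurd (IsPGroup.of_card (n := 4) hk) hnotp
    · exact absurd (IsPGroup.of_card (n := 5) hk) hnotp
    · exact hk
  have hS16 : ∀ P : Sylow 2 X, Nat.card P = 16 := by
    intro P
    rw [P.card_eq_multiplicity, h48]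
    rw [show (48 : ℕ) = 2 ^ 4 * 3 by norm_num, Nat.factorization_mul (by norm_num) (by norm_num),
      Nat.Prime.factorization_pow Nat.prime_two, Nat.Prime.factorization Nat.prime_three]
    simp
  have hW3 : ∀ W : Sylow 3 X, Nat.card W = 3 := by
    intro W
    rw [W.card_eq_multiplicity, h48]
    rw [show (48 : ℕ) = 2 ^ 4 * 3 by norm_num, Nat.factorization_mul (by norm_num) (by norm_num),
      Nat.Prime.factorization_pow Nat.prime_two, Nat.Prime.factorization Nat.prime_three]
    simp
  have hWgen : ∀ W : Sylow 3 X, ∃ w, orderOf w = 3 ∧ (W : Subgroup X) = Subgroup.zpowers w := by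
    intro W
    obtain ⟨w, hw⟩ := exists_prime_orderOf_dvd_card' 3 (G := W) (by rw [hW3 W])
    refine ⟨w, by rw [Subgroup.orderOf_coe]; exact hw, ?_⟩
    refine (Subgroup.eq_of_le_of_card_ge (Subgroup.zpowers_le.2 w.2) ?_).symm
    rw [Nat.card_zpowers, Subgroup.orderOf_coe, hw]
    exact (hW3 W).le
  have hdisj : ∀ (W : Sylow 3 X) (q : X), q ∈ Q → q ∈ (W : Subgroup X) → q = 1 := by
    intro W q hq hqW
    have h1 : orderOf q ∣ 8 := by
      rw [← hQ8, ← Subgroup.orderOf_mk q hq]; exact orderOf_dvd_natCard _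
    have h2 : orderOf q ∣ 3 := by
      rw [← hW3 W, ← Subgroup.orderOf_mk q hqW]; exact orderOf_dvd_natCard _
    exact orderOf_eq_one_iff.1 (Nat.eq_one_of_dvd_coprimes (by norm_num) h1 h2)
  -- the automorphism induced by an element of order three
  have hf3 : ∀ w : X, orderOf w = 3 → (∃ x, conjQ w x ≠ x) ∧ ∀ x, conjQ w x = x → x = 1 ∨ x = .a 2 := by
    intro w hw
    have hne : ∃ x, conjQ w x ≠ x := by
      by_contra! h
      have : w ∈ conjQ.ker := MulEquiv.ext h
      rw [hker] at this
      have h1 : orderOf w ∣ 8 := by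
        rw [← hQ8, ← Subgroup.orderOf_mk w (hCQ this)]; exact orderOf_dvd_natCard _
      rw [hw] at h1
      norm_num at h1
    refine ⟨hne, ?_⟩
    have hh := mulEquiv_eq_quatFun (conjQ w)
    intro x hx
    refine quat_fix (conjQ w (.a 1)) (conjQ w (.xa 0)) ?_ ?_ ?_ x (by rw [← hh]; exact hx)
    · rw [← hh]; exact map_mul (conjQ w)
    · intro y
      rw [← hh, Function.iterate_succ_apply, Function.iterate_succ_apply, Function.iterate_one,
        ← MulAut.mul_apply, ← MulAut.mul_apply, ← map_mul, ← map_mul,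
        ← pow_three', ← hw, pow_orderOf_eq_one, map_one, MulAut.one_apply]
    · rw [← hh]; exact hne
  have hconj_apply : ∀ (g : X) (q : Q), conjQ g (e q) = e ⟨g * q * g⁻¹, hQn.conj_mem q q.2 g⟩ := by
    intro g q
    show e ((MulAut.conjNormal g) (e.symm (e q))) = _
    rw [e.symm_apply_apply]
    exact congrArg e (Subtype.ext (MulAut.conjNormal_apply g q))
  have hfixQ : ∀ w : X, orderOf w = 3 → ∀ q ∈ Q, w * q * w⁻¹ = q → q = 1 ∨ q = z := by
    intro w hw q hq hqw
    rcases (hf3 w hw).2 (e ⟨q, hq⟩) (by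
      rw [hconj_apply]; exact congrArg e (Subtype.ext hqw)) with h | h
    · rw [MulEquiv.map_eq_one_iff] at h
      exact Or.inl (congrArg Subtype.val h)
    · exact Or.inr (by rw [hzdef, ← h, e.symm_apply_apply])
  -- `Q` meets the normalizer of a Sylow 3-subgroup in the centre
  have hNQ : ∀ (W : Sylow 3 X) (q : X), q ∈ Q → q ∈ Subgroup.normalizer ((W : Subgroup X) : Set X) →
      q = 1 ∨ q = z := by
    intro W q hq hqN
    obtain ⟨w, hw, hWw⟩ := hWgen W
    refine hfixQ w hw q hq ?_
    have hwW : w ∈ (W : Subgroup X) := hWw ▸ Subgroup.mem_zpowers w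
    have h1 : w * q * w⁻¹ * q⁻¹ ∈ Q := mul_mem (hQn.conj_mem q hq w) (inv_mem hq)
    have h2 : w * q * w⁻¹ * q⁻¹ ∈ (W : Subgroup X) := by
      rw [show w * q * w⁻¹ * q⁻¹ = w * (q * w⁻¹ * q⁻¹) by group]
      exact mul_mem hwW ((Subgroup.mem_normalizer_iff.1 hqN w⁻¹).1 (inv_mem hwW))
    exact mul_inv_eq_one.1 (hdisj W _ h1 h2)
  -- there are four Sylow 3-subgroups
  have hn3 : Nat.card (Sylow 3 X) = 4 := by
    obtain ⟨W⟩ : Nonempty (Sylow 3 X) := inferInstance
    have hd : Nat.card (Sylow 3 X) ∣ 16 := by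
      have := W.card_dvd_index
      have hi := (W : Subgroup X).card_mul_index
      rw [h48, hW3 W] at hi
      rwa [show (W : Subgroup X).index = 16 by omega] at this
    have hmod := card_sylow_modEq_one 3 X
    have hle : Nat.card (Sylow 3 X) ≤ 16 := Nat.le_of_dvd (by norm_num) hd
    have h1 : Nat.card (Sylow 3 X) ≠ 1 := by
      intro h
      obtain ⟨i, hi, hiz⟩ : ∃ i ∈ Q, i ≠ 1 ∧ i ≠ z := by
        refine ⟨(e.symm (.a 1) : Q), (e.symm (.a 1)).2, ?_, ?_⟩
        · intro h
          have h' : e.symm (.a 1) = 1 := Subtype.ext h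
          rw [MulEquiv.map_eq_one_iff] at h'
          exact absurd h' (by decide)
        · intro h
          have h' : e.symm (.a 1) = e.symm (.a 2) := Subtype.ext h
          exact absurd (e.symm.injective h') (by decide)
      refine (hNQ W i hi ?_).elim hiz.1 hiz.2
      haveI : Subsingleton (Sylow 3 X) := (Nat.card_eq_one_iff_unique.1 h).1
      have := Sylow.normal_of_subsingleton W
      rw [Subgroup.normalizer_eq_top]
      exact Subgroup.mem_top _
    have h16 : Nat.card (Sylow 3 X) ≠ 16 := by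
      intro h
      replace h : (Subgroup.normalizer ((W : Subgroup X) : Set X)).index = 16 :=
        W.card_eq_index_normalizer.symm.trans h
      have hi := (Subgroup.normalizer ((W : Subgroup X) : Set X)).card_mul_index
      rw [h48, h] at hi
      have hN3 : Nat.card (Subgroup.normalizer ((W : Subgroup X) : Set X)) = 3 := by omega
      have hzN : z ∈ Subgroup.normalizer ((W : Subgroup X) : Set X) := by
        refine Subgroup.mem_normalizer_fintype fun a ha => ?_
        rw [← (Subgroup.mem_center_iff.1 hzC a), mul_inv_cancel_right]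
        exact ha
      have := orderOf_dvd_natCard (⟨z, hzN⟩ : Subgroup.normalizer ((W : Subgroup X) : Set X))
      rw [Subgroup.orderOf_mk, hoz, hN3] at this
      norm_num at this
    unfold Nat.ModEq at hmod
    generalize Nat.card (Sylow 3 X) = n at *
    interval_cases n <;> first | omega | (norm_num at hd)
  -- the permutation action
  haveI : Finite (Sylow 3 X) := inferInstance
  let α : Sylow 3 X ≃ Fin 4 := Nat.equivFinOfCardPos (by omega) |>.trans (finCongr hn3)
  let ψ : X →* Equiv.Perm (Fin 4) := α.permCongrHom.toMonoidHom.comp (MulAction.toPermHom X (Sylow 3 X))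
  have hψ : ∀ g W, ψ g (α W) = α (g • W) := by
    intro g W
    simp [ψ, Equiv.permCongrHom, Equiv.permCongr_apply]
  have hψfix : ∀ g W, ψ g (α W) = α W → g ∈ Subgroup.normalizer ((W : Subgroup X) : Set X) := by
    intro g W h
    rw [hψ] at h
    exact Sylow.smul_eq_iff_mem_normalizer.1 (α.injective h)
  have hψker : ψ.ker = Subgroup.zpowers z := by
    apply le_antisymm
    · have hKN : ∀ g ∈ ψ.ker, ∀ W : Sylow 3 X, g ∈ Subgroup.normalizer ((W : Subgroup X) : Set X) :=
        fun g hg W => hψfix g W (by rw [MonoidHom.mem_ker.1 hg]; rfl)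
      have hKp : IsPGroup 2 ψ.ker := by
        by_contra hK
        have h3 : 3 ∣ Nat.card ψ.ker := by
          by_contra h3
          apply hK
          have hd : Nat.card ψ.ker ∣ 2 ^ 4 * 3 := by
            rw [show (2 ^ 4 * 3 : ℕ) = Nat.card X by rw [h48]; norm_num]
            exact Subgroup.card_subgroup_dvd_card _
          obtain ⟨m, -, hm⟩ := (Nat.dvd_prime_pow Nat.prime_two).1
            (((Nat.prime_three.coprime_iff_not_dvd.2 h3).symm).dvd_of_dvd_mul_right hd)
          exact IsPGroup.of_card hm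
        obtain ⟨c, hc⟩ := exists_prime_orderOf_dvd_card' 3 h3
        have hall : ∀ W : Sylow 3 X, (c : X) ∈ (W : Subgroup X) := by
          intro W
          have hcN := hKN c c.2 W
          have hp : IsPGroup 3 (Subgroup.zpowers (c : X)) := IsPGroup.of_card (n := 1) (by
            rw [Nat.card_zpowers, Subgroup.orderOf_coe, hc, pow_one])
          have hle : Subgroup.zpowers (c : X) ≤ Subgroup.normalizer ((W : Subgroup X) : Set X) :=
            Subgroup.zpowers_le.2 hcN
          have hp' : IsPGroup 3 ↥(Subgroup.zpowers (c : X) ⊔ (W : Subgroup X)) :=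
            hp.to_sup_of_normal_right' W.2 hle
          exact (W.3 hp' le_sup_right) ▸
            Subgroup.mem_sup_left (Subgroup.mem_zpowers (c : X))
        haveI : Subsingleton (Sylow 3 X) := by
          refine ⟨fun U V => Sylow.ext ?_⟩
          have key : ∀ W : Sylow 3 X, (W : Subgroup X) = Subgroup.zpowers (c : X) := fun W =>
            (Subgroup.eq_of_le_of_card_ge (Subgroup.zpowers_le.2 (hall W)) (by
              rw [Nat.card_zpowers, Subgroup.orderOf_coe, hc]; exact (hW3 W).le)).symm
          rw [key U, key V]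
        have hone := Finite.card_le_one_iff_subsingleton.2 (inferInstance : Subsingleton (Sylow 3 X))
        omega
      intro g hg
      have hgQ : g ∈ Q := Cores.le_pCore hKp hg
      obtain ⟨W⟩ : Nonempty (Sylow 3 X) := inferInstance
      rcases hNQ W g hgQ (hKN g hg W) with h | h
      · rw [h]; exact one_mem _
      · rw [h]; exact Subgroup.mem_zpowers z
    · rw [Subgroup.zpowers_le, MonoidHom.mem_ker]
      refine Equiv.ext fun n => ?_
      obtain ⟨W, rfl⟩ := α.surjective n
      rw [hψ, Equiv.Perm.one_apply]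
      refine congrArg α (Sylow.smul_eq_iff_mem_normalizer.2 ?_)
      refine Subgroup.mem_normalizer_fintype fun a ha => ?_
      rw [← (Subgroup.mem_center_iff.1 hzC a), mul_inv_cancel_right]
      exact ha
  have hZ : Subgroup.center X = Subgroup.zpowers z :=
    le_antisymm ((Subgroup.center_le_centralizer _).trans hC2.le) (Subgroup.zpowers_le.2 hzC)
  have hψsurj : Function.Surjective ψ := by
    rw [← MonoidHom.range_eq_top]
    apply Subgroup.eq_top_of_card_eq
    rw [← Subgroup.index_ker, hψker]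
    have := (Subgroup.zpowers z).card_mul_index
    rw [Nat.card_zpowers, hoz, h48] at this
    rw [Nat.card_perm, Nat.card_fin]
    simp [Nat.factorial]
    omega
  by_cases hinv : ∀ t : X, t * t = 1 → t = 1 ∨ t = z
  · -- unique involution: generalised quaternion Sylow 2-subgroups
    refine Or.inr ⟨h48, by rw [hZ, Nat.card_zpowers, hoz], ?_, ?_⟩
    · exact ⟨(QuotientGroup.quotientMulEquivOfEq (hZ.trans hψker.symm)).trans
        (QuotientGroup.quotientKerEquivOfSurjective ψ hψsurj)⟩
    · intro P
      have huP : ∀ x y : (P : Subgroup X), orderOf x = 2 → orderOf y = 2 → y ∈ Subgroup.zpowers x := by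
        intro x y hx hy
        have key : ∀ u : (P : Subgroup X), orderOf u = 2 → (u : X) = z := by
          intro u hu
          rcases hinv u (by
            have h2 := congrArg Subtype.val (pow_orderOf_eq_one u)
            rw [hu, sq] at h2
            exact h2) with h | h
          · rw [← Subgroup.orderOf_coe, h, orderOf_one] at hu; omega
          · exact h
        rw [show y = x from Subtype.ext ((key y hy).trans (key x hx).symm)]
        exact Subgroup.mem_zpowers x
      rcases isCyclic_or_quaternion P.2 huP with hcyc | ⟨-, n, -, ⟨e'⟩⟩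
      · haveI := hcyc
        letI := IsCyclic.commGroup (α := (P : Subgroup X))
        have h : ∀ u v : QuaternionGroup 2, u * v = v * u := by
          intro u v
          obtain ⟨a, rfl⟩ := e.surjective u
          obtain ⟨b, rfl⟩ := e.surjective v
          rw [← map_mul, ← map_mul]
          exact congrArg e (Subgroup.inclusion_injective (hQle P)
            (by rw [map_mul, map_mul]; exact mul_comm _ _))
        exact absurd (h (.a 1) (.xa 0)) (by decide)
      · haveI : NeZero (2 ^ n) := ⟨(pow_pos two_pos n).ne'⟩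
        have hc : 4 * 2 ^ n = 16 := by
          rw [← QuaternionGroup.card, ← Nat.card_eq_fintype_card, ← Nat.card_congr e'.toEquiv]
          exact hS16 P
        rw [show 2 ^ n = 4 by omega] at e'
        exact ⟨e'⟩
  · -- an outside involution: `GL(2,3)`
    refine Or.inl ?_
    push Not at hinv
    obtain ⟨t, ht2, ht1, htz⟩ := hinv
    have htQ : t ∉ Q := fun h => (hQinv t h ht2).elim ht1 htz
    obtain ⟨W, htW⟩ : ∃ W : Sylow 3 X, t ∈ Subgroup.normalizer ((W : Subgroup X) : Set X) := by
      by_contra! hfree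
      have hψt : ∀ n, ψ t n ≠ n := by
        intro n
        obtain ⟨W, rfl⟩ := α.surjective n
        exact fun h => hfree W (hψfix t W h)
      -- `Q` is transitive
      have horb : ∀ W V : Sylow 3 X, ∃ q ∈ Q, q • W = V := by
        intro W V
        obtain ⟨i, hi, hi1, hiz⟩ : ∃ i ∈ Q, i ≠ 1 ∧ i ≠ z := by
          refine ⟨(e.symm (.a 1) : Q), (e.symm (.a 1)).2, ?_, ?_⟩
          · intro h
            have h' : e.symm (.a 1) = 1 := Subtype.ext h
            rw [MulEquiv.map_eq_one_iff] at h'
            exact absurd h' (by decide)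
          · intro h
            have h' : e.symm (.a 1) = e.symm (.a 2) := Subtype.ext h
            exact absurd (e.symm.injective h') (by decide)
        have hcard := Nat.card_congr (MulAction.orbitProdStabilizerEquivGroup Q W).symm
        rw [Nat.card_prod, hQ8] at hcard
        have hst : Nat.card (MulAction.stabilizer Q W) ≤ 2 := by
          let f : MulAction.stabilizer Q W → Subgroup.zpowers z := fun q => ⟨((q : Q) : X), by
            rcases hNQ W ((q : Q) : X) (q : Q).2 (Sylow.smul_eq_iff_mem_normalizer.1 q.2) with h | h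
            · rw [h]; exact one_mem _
            · rw [h]; exact Subgroup.mem_zpowers z⟩
          refine (Nat.card_le_card_of_injective f fun a b h => ?_).trans_eq (by rw [Nat.card_zpowers, hoz])
          exact Subtype.ext (Subtype.ext (congrArg (fun u : Subgroup.zpowers z => (u : X)) h))
        have hle : Nat.card (MulAction.orbit Q W) ≤ 4 :=
          (Nat.card_le_card_of_injective _ Subtype.val_injective).trans_eq hn3
        have h4 : Nat.card (MulAction.orbit Q W) = Nat.card (Sylow 3 X) := by
          rw [hn3]; nlinarith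
        have huniv : MulAction.orbit Q W = Set.univ :=
          Set.eq_univ_iff_forall.2 fun U => by
            have hb := (Nat.bijective_iff_injective_and_card
              (Subtype.val : MulAction.orbit Q W → Sylow 3 X)).2 ⟨Subtype.val_injective, h4⟩
            obtain ⟨u, rfl⟩ := hb.2 U
            exact u.2
        obtain ⟨q, hq⟩ : V ∈ MulAction.orbit Q W := huniv ▸ Set.mem_univ V
        exact ⟨q, q.2, hq⟩
      obtain ⟨W₀, hW₀⟩ := α.surjective 0
      obtain ⟨q, hq, hqW⟩ := horb W₀ (t • W₀)
      have hmove : ∀ n, ψ q n ≠ n := by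
        intro n
        obtain ⟨W, rfl⟩ := α.surjective n
        intro h
        rcases hNQ W q hq (hψfix q W h) with h' | h'
        · rw [h', one_smul] at hqW
          exact hfree W₀ (Sylow.smul_eq_iff_mem_normalizer.1 hqW.symm)
        · rw [h'] at hqW
          have hzW : z • W₀ = W₀ := by
            have hz' : z ∈ ψ.ker := hψker.ge (Subgroup.mem_zpowers z)
            apply α.injective
            rw [← hψ, MonoidHom.mem_ker.1 hz']
            rfl
          rw [hzW] at hqW
          exact hfree W₀ (Sylow.smul_eq_iff_mem_normalizer.1 hqW.symm)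
      have hq2 : q * q ∈ ψ.ker := by
        rw [hψker]
        have key : ∀ u : QuaternionGroup 2, u * u = 1 ∨ u * u = .a 2 := by decide
        rcases key (e ⟨q, hq⟩) with h | h
        · rw [← map_mul, MulEquiv.map_eq_one_iff] at h
          have h' : q * q = 1 := congrArg Subtype.val h
          rw [h']; exact one_mem _
        · rw [← map_mul] at h
          have h' : q * q = z := by rw [hzdef, ← h, e.symm_apply_apply]; rfl
          rw [h']; exact Subgroup.mem_zpowers z
      have heq : ψ t = ψ q := by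
        refine perm_fpf_eq _ _ (by rw [← map_mul, ht2, map_one]) (by rw [← map_mul]; exact hq2) hψt hmove ?_
        rw [← hW₀, hψ, hψ, hqW]
      have : t * q⁻¹ ∈ ψ.ker := by rw [MonoidHom.mem_ker, map_mul, map_inv, heq, mul_inv_cancel]
      rw [hψker] at this
      have h2 : t * q⁻¹ ∈ Q := (Subgroup.zpowers_le.2 hzQ) this
      exact htQ (by simpa using mul_mem h2 hq)
    obtain ⟨w, hw, hWw⟩ := hWgen W
    have hwW : w ∈ (W : Subgroup X) := hWw ▸ Subgroup.mem_zpowers w
    have hw3 : w * w * w = 1 := by rw [← pow_three', ← hw, pow_orderOf_eq_one]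
    have htw : t * w * t⁻¹ = w⁻¹ := by
      have hmem : t * w * t⁻¹ ∈ Subgroup.zpowers w := hWw ▸ (Subgroup.mem_normalizer_iff.1 htW w).1 hwW
      obtain ⟨k, hk, hkw⟩ := (IsOfFinOrder.mem_zpowers_iff_mem_range_orderOf (isOfFinOrder_of_finite w)).1 hmem |> Finset.mem_image.1
      rw [hw, Finset.mem_range] at hk
      interval_cases k
      · rw [pow_zero] at hkw
        have h1 : w = 1 := conj_eq_one_iff.1 hkw.symm
        rw [h1, orderOf_one] at hw; omega
      · exfalso
        rw [pow_one] at hkw
        have hcomm : t * w = w * t := by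
          calc t * w = t * w * t⁻¹ * t := by group
            _ = w * t := by rw [← hkw]
        have h1 : ψ t = 1 := by
          refine perm_invert (ψ t) (ψ w) (by rw [← map_mul, ht2, map_one])
            (by rw [← map_mul, ← map_mul, hw3, map_one]) ?_ (by rw [← map_mul, ← map_mul, hcomm])
          intro h
          have hm : w ∈ ψ.ker := h
          rw [hψker] at hm
          have := orderOf_dvd_of_mem_zpowers hm
          rw [hw, hoz] at this
          norm_num at this
        have hm : t ∈ ψ.ker := h1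
        rw [hψker] at hm
        exact htQ ((Subgroup.zpowers_le.2 hzQ) hm)
      · rw [← hkw, sq]
        exact eq_inv_of_mul_eq_one_left hw3
    set f := conjQ w
    set h := conjQ t
    have hf := mulEquiv_eq_quatFun f
    have hh := mulEquiv_eq_quatFun h
    obtain ⟨i, hi1, hi4, hi2, hi3, hti, hgen⟩ := quat_pair (f (.a 1)) (f (.xa 0))
      (by rw [← hf]; exact map_mul f)
      (fun x => by
        rw [← hf, Function.iterate_succ_apply, Function.iterate_succ_apply, Function.iterate_one,
          ← MulAut.mul_apply, ← MulAut.mul_apply, ← map_mul, ← map_mul, hw3, map_one,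
          MulAut.one_apply])
      (by rw [← hf]; exact (hf3 w hw).1)
      (h (.a 1)) (h (.xa 0))
      (by rw [← hh]; exact map_mul h)
      (fun x => by rw [← hh, ← MulAut.mul_apply, ← map_mul, ht2, map_one, MulAut.one_apply])
      (fun x => by
        rw [← hf, ← hh, ← MulAut.mul_apply, ← MulAut.mul_apply, ← MulAut.mul_apply, ← map_mul,
          ← map_mul, ← map_mul]
        have : t * (w * t) = w * w := by
          have hti' : t⁻¹ = t := inv_eq_of_mul_eq_one_right ht2
          rw [← mul_assoc]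
          rw [hti'] at htw
          rw [htw]
          exact inv_eq_of_mul_eq_one_right (by rw [← mul_assoc]; exact hw3)
        rw [mul_assoc, this])
    rw [← hf] at hi1 hi2 hi3 hgen
    rw [← hh] at hti
    set I : X := ((e.symm i : Q) : X)
    set J : X := ((e.symm (f i) : Q) : X)
    have hcj : ∀ (g : X) (u : QuaternionGroup 2),
        g * ((e.symm u : Q) : X) * g⁻¹ = ((e.symm (conjQ g u) : Q) : X) := by
      intro g u
      have h := hconj_apply g (e.symm u)
      rw [e.apply_symm_apply] at h
      rw [h, e.symm_apply_apply]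
    let ι : QuaternionGroup 2 →* X := Q.subtype.comp e.symm.toMonoidHom
    have hrel : GLRel I J w t := by
      refine ⟨⟨?_, ?_, ?_, ?_, ?_, ?_⟩, ht2, ?_, htw⟩
      · show ι i ^ 4 = 1
        rw [← map_pow, hi4, map_one]
      · show ι (f i) * ι (f i) = ι i * ι i
        exact (map_mul ι _ _).symm.trans ((congrArg ι hi2).trans (map_mul ι _ _))
      · show ι (f i) * ι i * (ι (f i))⁻¹ = (ι i)⁻¹
        refine Eq.trans ?_ ((congrArg ι hi3).trans (map_inv ι i))
        rw [map_mul, map_mul, map_inv]
      · rw [← hw]; exact pow_orderOf_eq_one w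
      · exact hcj w i
      · rw [hcj w (f i), hi1]
        exact map_mul ι i (f i)
      · rw [hcj t i, hti]
        exact map_inv ι i
    refine nonempty_gl_equiv hrel ?_ h48
    set H := Subgroup.closure ({t, I, J, w} : Set X)
    have hQH : Q ≤ H := by
      intro q hq
      obtain ⟨a, b, hab⟩ := hgen (e ⟨q, hq⟩)
      have : q = ι i ^ (a : ℕ) * ι (f i) ^ (b : ℕ) := by
        rw [← map_pow, ← map_pow, ← map_mul, ← hab]
        show q = ((e.symm (e ⟨q, hq⟩) : Q) : X)
        rw [e.symm_apply_apply]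
      rw [this]
      exact mul_mem (pow_mem (Subgroup.subset_closure (by simp [I, ι])) _)
        (pow_mem (Subgroup.subset_closure (by simp [J, ι])) _)
    have hwH : w ∈ H := Subgroup.subset_closure (by simp)
    have htH : t ∈ H := Subgroup.subset_closure (by simp)
    have hd48 : Nat.card H ∣ 48 := h48 ▸ H.card_subgroup_dvd_card
    have hd8 : 8 ∣ Nat.card H := hQ8 ▸ Subgroup.card_dvd_of_le hQH
    have hd3 : 3 ∣ Nat.card H := by
      rw [← hw, ← Subgroup.orderOf_mk w hwH]; exact orderOf_dvd_natCard _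
    have h24 : Nat.card H ≠ 24 := by
      intro h
      haveI : (Q.subgroupOf H).Normal := hQn.subgroupOf H
      have hidx : (Q.subgroupOf H).index = 3 := by
        have := (Q.subgroupOf H).card_mul_index
        rw [Nat.card_congr (Subgroup.subgroupOfEquivOfLe hQH).toEquiv, hQ8, h] at this
        omega
      have h1 : orderOf (QuotientGroup.mk' (Q.subgroupOf H) ⟨t, htH⟩) ∣ 3 := by
        rw [← hidx, Subgroup.index_eq_card]; exact orderOf_dvd_natCard _
      have h2 : orderOf (QuotientGroup.mk' (Q.subgroupOf H) ⟨t, htH⟩) ∣ 2 := by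
        refine (orderOf_map_dvd _ _).trans ?_
        rw [Subgroup.orderOf_mk]
        exact orderOf_dvd_of_pow_eq_one (by rw [sq]; exact ht2)
      have h3 := orderOf_eq_one_iff.1 (Nat.eq_one_of_dvd_coprimes (by norm_num) h1 h2)
      exact htQ (Subgroup.mem_subgroupOf.1 ((QuotientGroup.eq_one_iff _).1 h3))
    apply Subgroup.eq_top_of_card_eq
    rw [h48]
    obtain ⟨k, hk⟩ : 24 ∣ Nat.card H := Nat.Coprime.mul_dvd_of_dvd_of_dvd (show Nat.Coprime 8 3 by norm_num) hd8 hd3
    have := Nat.le_of_dvd (by norm_num) hd48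
    have hp : 0 < Nat.card H := Nat.card_pos
    omega

/-- Let G be a finite solvable group in which the intersection of any two distinct Sylow 2-subgroups has 2-rank at most 1 (contains no Klein four-group). Write Q = G/O(G), O(G) the largest normal subgroup of odd order. Then Q has a normal Sylow 2-subgroup; or Q is isomorphic to GL(2,3); or Q has order 48, centre of order 2 with central quotient isomorphic to the symmetric group of degree 4, and generalized quaternion Sylow 2-subgroups of order 16 (the binary octahedral group). The last two are the two representation groups of the symmetric group of degree 4. -/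
theorem result {G : Type*} [Group G] [Finite G] (hs : Group.IsSolvable G)
    (hI : ∀ S T : Sylow 2 G, S ≠ T → Cfsg.PRankLE 2 1 ↥((S : Subgroup G) ⊓ (T : Subgroup G))) :
    (∃ P : Sylow 2 (G ⧸ Cfsg.oddCore G), (P : Subgroup (G ⧸ Cfsg.oddCore G)).Normal) ∨
    Nonempty ((G ⧸ Cfsg.oddCore G) ≃* GL (Fin 2) (ZMod 3)) ∨
    (Nat.card (G ⧸ Cfsg.oddCore G) = 48 ∧ Nat.card ↥(Subgroup.center (G ⧸ Cfsg.oddCore G)) = 2 ∧
      Nonempty ((G ⧸ Cfsg.oddCore G) ⧸ Subgroup.center (G ⧸ Cfsg.oddCore G) ≃* Equiv.Perm (Fin 4)) ∧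
      ∀ P : Sylow 2 (G ⧸ Cfsg.oddCore G), Nonempty (↥(P : Subgroup (G ⧸ Cfsg.oddCore G)) ≃* QuaternionGroup 4)) := by
  haveI := hs
  exact key (Cfsg.Agent.Lib.Cores.pPrimeCore_quotient_pPrimeCore 2) (inter_quot hI)

end Cfsg.Agent.S3304
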