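import Cfsg.Statements.S2751
import Cfsg.Agent.Lib.Goldschmidt33.Main

set_option autoImplicit false
open Cfsg

namespace Cfsg.Agent.S2751

/-- Goldschmidt's bound for amalgams of index (3, 3): let M₁ and M₂ be finite subgroups of a group G such that M₁ ⊓ M₂ is a Sylow 2-subgroup of both M₁ and M₂, each quotient Mᵢ / O₂(Mᵢ) is isomorphic to the symmetric group of degree 3, and no nontrivial subgroup of M₁ ⊓ M₂ is normal in both M₁ and M₂. Then M₁ ⊓ M₂ has order at most 2^7. -/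
theorem result {G : Type*} [Group G] (M₁ M₂ : Subgroup G) [Finite M₁] [Finite M₂] (ha₁ : ∃ P : Sylow 2 M₁, (P : Subgroup M₁) = (M₁ ⊓ M₂).subgroupOf M₁) (ha₂ : ∃ P : Sylow 2 M₂, (P : Subgroup M₂) = (M₁ ⊓ M₂).subgroupOf M₂) (hb₁ : Nonempty (M₁ ⧸ Cfsg.pCore 2 M₁ ≃* Equiv.Perm (Fin 3))) (hb₂ : Nonempty (M₂ ⧸ Cfsg.pCore 2 M₂ ≃* Equiv.Perm (Fin 3))) (hc : ∀ N : Subgroup G, N ≤ M₁ ⊓ M₂ → (N.subgroupOf M₁).Normal → (N.subgroupOf M₂).Normal → N = ⊥) : Nat.card ↥(M₁ ⊓ M₂) ≤ 2 ^ 7 := by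
  set J := M₁ ⊔ M₂ with hJ
  let e₁ : ↥(M₁.subgroupOf J) ≃* ↥M₁ := Subgroup.subgroupOfEquivOfLe le_sup_left
  let e₂ : ↥(M₂.subgroupOf J) ≃* ↥M₂ := Subgroup.subgroupOfEquivOfLe le_sup_right
  have hset : Lib.Goldschmidt33.Setup (M₁.subgroupOf J) (M₂.subgroupOf J) := by
    refine ⟨?_, Finite.of_equiv _ e₁.symm.toEquiv, Finite.of_equiv _ e₂.symm.toEquiv, ?_, ?_, ?_, ?_, ?_⟩
    · rw [← Subgroup.subgroupOf_sup le_sup_left le_sup_right, Subgroup.subgroupOf_self]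
    · obtain ⟨P, hP⟩ := ha₁
      refine ⟨P.comapOfInjective e₁.toMonoidHom e₁.injective fun x _ => ⟨e₁.symm x, by simp⟩, ?_⟩
      show P.toSubgroup.comap _ = _
      rw [hP]
      ext x
      rfl
    · obtain ⟨P, hP⟩ := ha₂
      refine ⟨P.comapOfInjective e₂.toMonoidHom e₂.injective fun x _ => ⟨e₂.symm x, by simp⟩, ?_⟩
      show P.toSubgroup.comap _ = _
      rw [hP]
      ext x
      rfl
    · obtain ⟨f⟩ := hb₁
      exact ⟨(QuotientGroup.congr _ _ e₁ (Lib.Cores.map_pCore_equiv e₁)).trans f⟩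
    · obtain ⟨f⟩ := hb₂
      exact ⟨(QuotientGroup.congr _ _ e₂ (Lib.Cores.map_pCore_equiv e₂)).trans f⟩
    · intro N hN hn
      have hle : N.map J.subtype ≤ M₁ ⊓ M₂ := by
        rintro _ ⟨x, hx, rfl⟩
        exact ⟨(hN hx).1, (hN hx).2⟩
      have hnorm : ∀ M : Subgroup G, M ≤ J → ((N.map J.subtype).subgroupOf M).Normal := fun M hM =>
        ⟨fun x hx g => by
          obtain ⟨y, hy, hyx⟩ := Subgroup.mem_subgroupOf.1 hx
          refine Subgroup.mem_subgroupOf.2 ⟨⟨g, hM g.2⟩ * y * ⟨g, hM g.2⟩⁻¹, hn.conj_mem y hy _, ?_⟩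
          simp [← hyx]⟩
      have := hc _ hle (hnorm M₁ le_sup_left) (hnorm M₂ le_sup_right)
      exact (Subgroup.map_eq_bot_iff_of_injective N J.subtype_injective).1 this
  have h128 := hset.card_le
  have : Nat.card ↥(M₁ ⊓ M₂) = Nat.card ↥(M₁.subgroupOf J ⊓ M₂.subgroupOf J : Subgroup J) := by
    refine Nat.card_congr ⟨fun x => ⟨⟨x.1, (le_sup_left : M₁ ≤ J) x.2.1⟩, x.2.1, x.2.2⟩,
      fun x => ⟨x.1.1, x.2.1, x.2.2⟩, fun _ => rfl, fun _ => rfl⟩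
  omega

end Cfsg.Agent.S2751
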