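import Cfsg.Statements.S1206
import Cfsg.Agent.Lib.TwoGroups.QDFusion

set_option autoImplicit false
open Cfsg

namespace Cfsg.Agent.S1206

/-- Let G be a finite group with quasi-dihedral Sylow 2-subgroup S, T a Klein four-subgroup and Q a quaternion subgroup of order 8 of S, with |N_G(T) : C_G(T)| = 6 and |N_G(Q) : Q C_G(Q)| = 2. Then G has a normal subgroup K of index 2 whose Sylow 2-subgroups are dihedral and which has no subgroup of index 2, and G has exactly one class of involutions and two classes of elements of order 4. -/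
theorem result {G : Type*} [Group G] [Finite G] (S : Sylow 2 G) (hS : Cfsg.IsQuasiDihedral (S : Subgroup G)) (T : Subgroup G) (hT : IsKleinFour T) (hTS : T ≤ S) (Q : Subgroup G) (hQS : Q ≤ S) (eQ : Q ≃* QuaternionGroup 2) (h₁ : (Subgroup.centralizer (T : Set G)).relIndex (Subgroup.normalizer (T : Set G)) = 6) (h₂ : (Q ⊔ Subgroup.centralizer (Q : Set G)).relIndex (Subgroup.normalizer (Q : Set G)) = 2) : (∃ K : Subgroup G, K.Normal ∧ K.index = 2 ∧ (∀ P : Sylow 2 ↥K, ∃ m : ℕ, Nonempty ((P : Subgroup ↥K) ≃* DihedralGroup m)) ∧ (∀ H : Subgroup ↥K, H.index ≠ 2)) ∧ Nat.card {C : ConjClasses G // ∃ t : G, orderOf t = 2 ∧ ConjClasses.mk t = C} = 1 ∧ Nat.card {C : ConjClasses G // ∃ t : G, orderOf t = 4 ∧ ConjClasses.mk t = C} = 2 := by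
  obtain ⟨k, x, y, D⟩ := Lib.TwoGroups.QuasiDihedral.exists_QD hS
  refine ⟨?_,
    Lib.TwoGroups.QDFusion.card_invol_one D (Lib.TwoGroups.QDFusion.isConj_invol D hT hTS h₁),
    Lib.TwoGroups.QDFusion.card_four_two D (Lib.TwoGroups.QDFusion.not_isConj_four D eQ hQS h₂)⟩
  obtain ⟨K, hK, hKS, hKi, hodd, hKodd⟩ := Lib.TwoGroups.QDFusion.exists_index_two D 0
    (fun T' a b => Or.inr (Lib.TwoGroups.QDFusion.four_le_maxSub D a b))
    (fun Q' ⟨e⟩ b => Or.inl (Lib.TwoGroups.QDFusion.actsLike_all_quat D eQ hQS h₂ Q' e b))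
  refine ⟨K, hK, hKi, fun P => ⟨2 ^ (k + 2), ?_⟩,
    Lib.TwoGroups.QDFusion.no_index_two_sub D 0 hKS hodd
      fun H hH i hi hiK => Lib.TwoGroups.QDFusion.even_mem D hT hTS h₁ hKodd hH hi hiK⟩
  obtain ⟨f⟩ := Lib.TwoGroups.QDFusion.maxSub_equiv D 0 hKS P
  obtain ⟨g⟩ := Lib.TwoGroups.QuasiDihedral.dihedral_maxSub D
  exact ⟨f.trans g⟩

end Cfsg.Agent.S1206
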