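import Cfsg.Statements.S2278
import Cfsg.Agent.Lib.GenSL.ThreeSmall

set_option autoImplicit false
open Cfsg

namespace Cfsg.Agent.S2278

/-- Let F be a finite field. Then SL_3(F) is generated by two conjugate regular unipotent elements: there are u with u − 1 nilpotent and (u − 1)² ≠ 0, and g, such that u and g u g⁻¹ generate SL_3(F). -/
theorem result {F : Type*} [Field F] [Fintype F] :
    ∃ u g : Matrix.SpecialLinearGroup (Fin 3) F, IsNilpotent ((u : Matrix (Fin 3) (Fin 3) F) - 1) ∧ ((u : Matrix (Fin 3) (Fin 3) F) - 1) ^ (3 - 1) ≠ 0 ∧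
      Subgroup.closure ({u, g * u * g⁻¹} : Set (Matrix.SpecialLinearGroup (Fin 3) F)) = ⊤ := by
  classical
  haveI : Finite F := Finite.of_fintype F
  suffices h : Cfsg.Agent.Lib.GenSL.ConjGen F 3 by
    obtain ⟨u, g, ⟨h1, h2⟩, h3⟩ := h
    exact ⟨u, g, h1, h2, h3⟩
  by_cases h2 : Fintype.card F = 2
  · obtain ⟨p, hpc⟩ := CharP.exists F
    haveI : Fact p.Prime := ⟨CharP.char_is_prime F p⟩
    obtain ⟨e, -, he⟩ := FiniteField.card F p
    have hp : p = 2 := (Nat.prime_dvd_prime_iff_eq (Fact.out : p.Prime) Nat.prime_two).1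
      (h2 ▸ he ▸ dvd_pow_self p e.ne_zero)
    subst hp
    exact Cfsg.Agent.Lib.GenSL.conjGen_three_two.map (RingEquiv.ofBijective (ZMod.castHom (dvd_refl 2) F) (by
      rw [Fintype.bijective_iff_injective_and_card]
      exact ⟨ZMod.castHom_injective F, by rw [ZMod.card, h2]⟩))
  by_cases h4 : Fintype.card F = 4
  · obtain ⟨γ, hγ⟩ := IsCyclic.exists_ofOrder_eq_natCard (α := Fˣ)
    rw [Nat.card_units, Nat.card_eq_fintype_card, h4] at hγ
    have h20 : (2 : F) = 0 := by
      have h : ((4 : ℕ) : F) = 0 := h4 ▸ Nat.cast_card_eq_zero F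
      push_cast at h
      have : (2 : F) * 2 = 0 := by linear_combination h
      exact mul_self_eq_zero.1 this
    set ω : F := (γ : F) with hωdef
    have h3 : ω ^ 3 = 1 := by
      rw [hωdef, ← Units.val_pow_eq_pow_val, show 3 = orderOf γ by omega, pow_orderOf_eq_one, Units.val_one]
    have h1 : ω ≠ 1 := fun e => by
      have : γ = 1 := Units.ext e
      rw [this, orderOf_one] at hγ
      omega
    have hω : ω ^ 2 + ω + 1 = 0 :=
      (mul_eq_zero.1 (show (ω - 1) * (ω ^ 2 + ω + 1) = 0 by linear_combination h3)).resolve_left (sub_ne_zero.2 h1)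
    refine Cfsg.Agent.Lib.GenSL.conjGen_three_card_four ω hω h20 ?_
    have h0 : ω ≠ 0 := γ.ne_zero
    have hS : ({0, 1, ω, 1 + ω} : Finset F) = Finset.univ := by
      refine Finset.eq_univ_of_card _ ?_
      rw [h4]
      have a1 : (1 : F) + ω ≠ 0 := fun e => h1 (by linear_combination e - h20)
      rw [Finset.card_insert_of_notMem, Finset.card_insert_of_notMem, Finset.card_pair]
      · exact fun e => one_ne_zero (α := F) (by linear_combination -e)
      · simp only [Finset.mem_insert, Finset.mem_singleton, not_or]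
        exact ⟨Ne.symm h1, fun e => h0 (by linear_combination -e)⟩
      · simp only [Finset.mem_insert, Finset.mem_singleton, not_or]
        exact ⟨zero_ne_one, Ne.symm h0, Ne.symm a1⟩
    intro x
    have := hS.symm ▸ Finset.mem_univ x
    simpa using this
  exact Cfsg.Agent.Lib.GenSL.conjGen_three (by rwa [Nat.card_eq_fintype_card]) (by rwa [Nat.card_eq_fintype_card])

end Cfsg.Agent.S2278
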