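import Cfsg.Statements.S2279
import Cfsg.Agent.Lib.GenSL.PrimeField

set_option autoImplicit false
open Cfsg

namespace Cfsg.Agent.S2279

/-- Let F be a finite field with q elements and n ≥ 4. Then SL_n(F) is generated by two regular unipotent elements (elements u with u − 1 nilpotent and (u − 1)^(n−1) ≠ 0); if q is prime, the two can be taken conjugate in SL_n(F). -/
theorem result {F : Type*} [Field F] [Fintype F] (n : ℕ) (hn : 4 ≤ n) :
    (∃ u v : Matrix.SpecialLinearGroup (Fin n) F, (IsNilpotent ((u : Matrix (Fin n) (Fin n) F) - 1) ∧ ((u : Matrix (Fin n) (Fin n) F) - 1) ^ (n - 1) ≠ 0) ∧ (IsNilpotent ((v : Matrix (Fin n) (Fin n) F) - 1) ∧ ((v : Matrix (Fin n) (Fin n) F) - 1) ^ (n - 1) ≠ 0) ∧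
      Subgroup.closure ({u, v} : Set (Matrix.SpecialLinearGroup (Fin n) F)) = ⊤) ∧
    ((Fintype.card F).Prime → ∃ u g : Matrix.SpecialLinearGroup (Fin n) F, (IsNilpotent ((u : Matrix (Fin n) (Fin n) F) - 1) ∧ ((u : Matrix (Fin n) (Fin n) F) - 1) ^ (n - 1) ≠ 0) ∧
      Subgroup.closure ({u, g * u * g⁻¹} : Set (Matrix.SpecialLinearGroup (Fin n) F)) = ⊤) := by
  classical
  haveI : Finite F := Finite.of_fintype F
  have hprime : (Fintype.card F).Prime → Cfsg.Agent.Lib.GenSL.ConjGen F n := by
    intro hq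
    set p := ringChar F with hpdef
    haveI : CharP F p := ringChar.charP F
    haveI : Fact p.Prime := ⟨CharP.char_is_prime F p⟩
    have hp' : ∀ x : F, ∃ k : ℕ, (k : F) = x := by
      obtain ⟨e, -, he⟩ := FiniteField.card F p
      have he1 : (e : ℕ) = 1 := by
        rw [he] at hq
        exact Nat.Prime.eq_one_of_pow hq
      intro x
      have hb : Function.Bijective (ZMod.castHom (dvd_refl p) F) := by
        rw [Fintype.bijective_iff_injective_and_card]
        exact ⟨ZMod.castHom_injective F, by rw [ZMod.card, he, he1, pow_one]⟩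
      obtain ⟨y, rfl⟩ := hb.2 x
      exact ⟨y.val, by rw [← map_natCast (ZMod.castHom (dvd_refl p) F), ZMod.natCast_zmod_val]⟩
    rcases eq_or_ne n 4 with rfl | h4
    · exact Cfsg.Agent.Lib.GenSL.conjGen_prime_four hp'
    · exact Cfsg.Agent.Lib.GenSL.conjGen_prime hp' (by omega)
  refine ⟨?_, hprime⟩
  by_cases hq : (Fintype.card F).Prime
  · exact (hprime hq).twoGen
  · have h4 : 4 ≤ Nat.card F := by
      rw [Nat.card_eq_fintype_card]
      have h1 : 1 < Fintype.card F := Fintype.one_lt_card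
      by_contra hlt
      exact hq (by
        rcases (show Fintype.card F = 2 ∨ Fintype.card F = 3 by omega) with e | e <;> rw [e] <;> norm_num)
    obtain ⟨K, _, _, β, hβ, hgen, r, hr, hr0⟩ := Cfsg.Agent.Lib.GenSL.exists_root_norm (F := F) (n := n) hn
    rcases eq_or_ne n 4 with rfl | h5
    · exact Cfsg.Agent.Lib.GenSL.twoGen_four h4 hβ hgen hr hr0
    · exact Cfsg.Agent.Lib.GenSL.twoGen_five h4 (by omega) hβ hgen hr hr0

end Cfsg.Agent.S2279
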