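import Mathlib
import Cfsg.Statements.S2286
import Cfsg.Agent.Lib.Linear.Order
import Cfsg.Agent.Lib.ShortPresSL2.Main

set_option autoImplicit false
open Cfsg

namespace Cfsg.Agent.S2286

open Cfsg.Agent.Lib

/-- For every finite field F, SL_2(F) and PSL_2(F) have presentations with 3 generators and at most 9 relations; when F has characteristic 2, PSL_2(F) has a presentation with 3 generators and at most 5 relations. -/
theorem result {F : Type*} [Field F] [Fintype F] :
    (∃ rels : Finset (FreeGroup (Fin 3)), rels.card ≤ 9 ∧ Nonempty (PresentedGroup (↑rels : Set (FreeGroup (Fin 3))) ≃* Matrix.SpecialLinearGroup (Fin 2) F)) ∧ (∃ rels : Finset (FreeGroup (Fin 3)), rels.card ≤ 9 ∧ Nonempty (PresentedGroup (↑rels : Set (FreeGroup (Fin 3))) ≃* Matrix.ProjectiveSpecialLinearGroup (Fin 2) F)) ∧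
    (CharP F 2 → ∃ rels : Finset (FreeGroup (Fin 3)), rels.card ≤ 5 ∧ Nonempty (PresentedGroup (↑rels : Set (FreeGroup (Fin 3))) ≃* Matrix.ProjectiveSpecialLinearGroup (Fin 2) F)) := by
  classical
  obtain ⟨p, hchar⟩ := CharP.exists F
  haveI hp : Fact p.Prime := ⟨CharP.char_is_prime F p⟩
  by_cases hp2 : p = 2
  · subst hp2
    have heven : Even (Fintype.card F) := by
      obtain ⟨e, -, he⟩ := FiniteField.card F 2
      rw [he]
      exact Nat.even_pow.2 ⟨even_two, e.ne_zero⟩
    have h1 := ShortPresSL2.exists_five (F := F) (Matrix.SpecialLinearGroup (Fin 2) F)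
      (MonoidHom.id _) Function.surjective_id Linear.card_SL_two
    have h2 := ShortPresSL2.exists_five (F := F) (Matrix.ProjectiveSpecialLinearGroup (Fin 2) F)
      (QuotientGroup.mk' _) (QuotientGroup.mk'_surjective _) (Linear.card_PSL_two_of_even heven)
    obtain ⟨r₁, hr₁, e₁⟩ := h1
    obtain ⟨r₂, hr₂, e₂⟩ := h2
    exact ⟨⟨r₁, hr₁.trans (by norm_num), e₁⟩, ⟨r₂, hr₂.trans (by norm_num), e₂⟩, fun _ => ⟨r₂, hr₂, e₂⟩⟩
  · letI : Algebra (ZMod p) F := ZMod.algebra F p
    obtain ⟨h1, h2⟩ := ShortPresSL2.exists_nine_sl (F := F) (p := p) hp2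
    exact ⟨h1, h2, fun h => absurd (CharP.eq F hchar h) hp2⟩

end Cfsg.Agent.S2286
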