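import Cfsg.Statements.S0188
import Cfsg.Agent.Lib.Characters.Complete
import Mathlib
-- import your own Cfsg.Agent.* helpers here

set_option autoImplicit false
open Cfsg
open scoped ComplexConjugate

namespace Cfsg.Agent.S0188

/-- The irreducible complex characters of G × H are precisely the functions (g, h) ↦ φ g * ψ h with φ, ψ irreducible characters of G and H. -/
theorem result {G : Type*} [Group G] [Finite G] {H : Type*} [Group H] [Finite H] (θ : G × H → ℂ) : Cfsg.IsIrrCharacter (G × H) θ ↔ ∃ (φ : G → ℂ) (ψ : H → ℂ), Cfsg.IsIrrCharacter G φ ∧ Cfsg.IsIrrCharacter H ψ ∧ θ = fun x => φ x.1 * ψ x.2 := by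
  classical
  haveI := Fintype.ofFinite G
  haveI := Fintype.ofFinite H
  let prodC : (G → ℂ) → (H → ℂ) → (G × H → ℂ) := fun φ ψ x => φ x.1 * ψ x.2
  have hchar : ∀ φ ψ, Cfsg.IsIrrCharacter G φ → Cfsg.IsIrrCharacter H ψ →
      Cfsg.IsIrrCharacter (G × H) (prodC φ ψ) := by
    intro φ ψ hφ hψ
    refine Cfsg.Agent.Lib.Characters.Basic.isIrrCharacter_of_classInner_self (Cfsg.Agent.Lib.Characters.Basic.isCharacter_mul
      (Cfsg.Agent.Lib.Characters.Basic.isCharacter_comp (MonoidHom.fst G H) (Cfsg.Agent.Lib.Characters.Basic.IsCharacter_of_isIrrCharacter hφ))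
      (Cfsg.Agent.Lib.Characters.Basic.isCharacter_comp (MonoidHom.snd G H) (Cfsg.Agent.Lib.Characters.Basic.IsCharacter_of_isIrrCharacter hψ))) ?_
    show Cfsg.classInner (prodC φ ψ) (prodC φ ψ) = 1
    have h1 : Cfsg.classInner φ φ = 1 := Cfsg.Agent.Lib.Characters.Basic.classInner_self_irr ⟨φ, hφ⟩
    have h2 : Cfsg.classInner ψ ψ = 1 := Cfsg.Agent.Lib.Characters.Basic.classInner_self_irr ⟨ψ, hψ⟩
    have h3 : Cfsg.classInner (prodC φ ψ) (prodC φ ψ) =
        Cfsg.classInner φ φ * Cfsg.classInner ψ ψ := by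
      simp only [Cfsg.classInner, prodC, map_mul, Nat.card_prod, Nat.cast_mul, mul_inv,
        Fintype.sum_prod_type]
      rw [mul_mul_mul_comm, Finset.sum_mul_sum]
      congr 1
      exact Finset.sum_congr rfl fun a _ => Finset.sum_congr rfl fun b _ => by ring
    rw [h3, h1, h2, one_mul]
  constructor
  · intro hθ
    by_contra hcon
    have hcl : Cfsg.IsClassFunction (G × H) θ := Cfsg.Agent.Lib.Characters.Basic.isClassFunction_irr ⟨θ, hθ⟩
    have horth : ∀ (φ : Cfsg.IrrCharacter G) (ψ : Cfsg.IrrCharacter H),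
        ∑ a : G, ∑ b : H, θ (a, b) * (conj ((φ : G → ℂ) a) * conj ((ψ : H → ℂ) b)) = 0 := by
      intro φ ψ
      have h := Cfsg.Agent.Lib.Characters.Basic.classInner_irr_of_ne (χ := ⟨θ, hθ⟩) (ψ := ⟨_, hchar φ ψ φ.2 ψ.2⟩)
        (fun e => hcon ⟨φ, ψ, φ.2, ψ.2, congrArg Subtype.val e⟩)
      rw [Cfsg.classInner, mul_eq_zero, inv_eq_zero] at h
      have h' := h.resolve_left Cfsg.Agent.Lib.Induced.Basic.natCard_ne_zero
      rw [Fintype.sum_prod_type] at h'
      simpa only [prodC, map_mul] using h'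
    have step1 : ∀ (ψ : Cfsg.IrrCharacter H) (a : G),
        ∑ b : H, θ (a, b) * conj ((ψ : H → ℂ) b) = 0 := by
      intro ψ
      have hz : (fun a : G => ∑ b : H, θ (a, b) * conj ((ψ : H → ℂ) b)) = 0 := by
        refine Cfsg.Agent.Lib.Characters.Complete.eq_zero_of_classInner_eq_zero ?_ fun φ => ?_
        · intro a c
          refine Finset.sum_congr rfl fun b _ => ?_
          have := hcl (a, b) (c, 1)
          simp only [Prod.mk_mul_mk, Prod.inv_mk, one_mul, inv_one, mul_one] at this
          rw [this]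
        · rw [Cfsg.classInner, mul_eq_zero]
          right
          rw [← horth φ ψ]
          simp only [Finset.sum_mul]
          exact Finset.sum_congr rfl fun a _ => Finset.sum_congr rfl fun b _ => by ring
      exact fun a => congrFun hz a
    have step2 : θ = 0 := by
      funext x
      have hz : (fun b : H => θ (x.1, b)) = 0 := by
        refine Cfsg.Agent.Lib.Characters.Complete.eq_zero_of_classInner_eq_zero ?_ fun ψ => ?_
        · intro b c
          have := hcl (x.1, b) (1, c)
          simp only [Prod.mk_mul_mk, Prod.inv_mk, one_mul, inv_one, mul_one] at this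
          exact this
        · rw [Cfsg.classInner, step1 ψ, mul_zero]
      exact congrFun hz x.2
    exact Cfsg.Agent.Lib.Characters.Basic.apply_one_ne_zero ⟨θ, hθ⟩ (congrFun step2 1)
  · rintro ⟨φ, ψ, hφ, hψ, rfl⟩
    exact hchar φ ψ hφ hψ

end Cfsg.Agent.S0188
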