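import Cfsg.Statements.S0981
import Cfsg.Agent.Lib.FirstPower.PerfectFew.Main
import Cfsg.Agent.Lib.FirstPower.Large
import Cfsg.Agent.Lib.Linear.FamilyHom
import Cfsg.Agent.Lib.Linear.Order
import Mathlib.FieldTheory.Finite.GaloisField

set_option autoImplicit false
open Cfsg

namespace Cfsg.Agent.S0981

/-- A simple group of order 4080 is isomorphic to the projective special linear group of dimension 2 over the field with 16 elements. -/
theorem result {G : Type*} [Group G] [Finite G] [IsSimpleGroup G] (h : Nat.card G = 4080) {F : Type*} [Field F] [Fintype F] (hF : Fintype.card F = 16) : Nonempty (G ≃* Matrix.ProjectiveSpecialLinearGroup (Fin 2) F) := by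
  haveI := Fact.mk (show Nat.Prime 17 by norm_num)
  have hG : ¬ IsCyclic G := fun hc => by
    letI := hc.commGroup
    have hp := IsSimpleGroup.prime_card (α := G)
    rw [h] at hp
    norm_num at hp
  obtain ⟨x, hx⟩ := exists_prime_orderOf_dvd_card' 17 (show 17 ∣ Nat.card G by rw [h]; norm_num)
  obtain ⟨hC, hn⟩ := Lib.FirstPower.Large.self_centralizing hG hx (by rw [h]; norm_num)
  rcases Lib.FirstPower.PerfectFew.main
    (Lib.SmallGroups.Sylow.commutator_eq_top (Lib.FirstPower.Large.not_comm hG)) hx hC hn with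
    ⟨K, _, _, hK, -, ⟨i⟩⟩ | ⟨m, K, _, _, hK, hm, -, ⟨i⟩⟩
  · have h2 := Lib.Linear.two_mul_card_PSL_two_of_odd (F := K) (by rw [hK]; decide)
    rw [← Nat.card_congr i.toEquiv, h, hK] at h2
    norm_num at h2
  · obtain ⟨e⟩ := Lib.Linear.nonempty_pslCongr (ι := Fin 2)
      (FiniteField.ringEquivOfCardEq (K := K) (K' := F) (by rw [hK, hF]; omega))
    exact ⟨i.trans e⟩

end Cfsg.Agent.S0981
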