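import Cfsg.Statements.S0983
import Cfsg.Agent.Lib.Classif.OrdersTo6232
import Cfsg.Agent.Lib.Classif.Order4032
import Cfsg.Agent.Lib.Classif.Order4320
import Cfsg.Agent.Lib.Classif.Order5040
import Cfsg.Agent.Lib.Classif.Order5760
-- import your own Cfsg.Agent.* helpers here

set_option autoImplicit false
open Cfsg

namespace Cfsg.Agent.S0983

/-- A non-abelian finite simple group of order greater than 3640 and at most 6232 has order 4080, 5616, 6048 or 6072. -/
theorem result {G : Type*} [Group G] [Finite G] [IsSimpleGroup G] (hG : ¬ IsMulCommutative G) (h1 : 3640 < Nat.card G) (h2 : Nat.card G ≤ 6232) : Nat.card G = 4080 ∨ Nat.card G = 5616 ∨ Nat.card G = 6048 ∨ Nat.card G = 6072 := by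
  have h4032 := Lib.Classif.Order4032.card_ne_4032 (G := G)
  have h4320 := Lib.Classif.Order4320.card_ne_4320 (G := G)
  have h5040 := Lib.Classif.Order5040.card_ne_5040 (G := G)
  have h5760 := Lib.Classif.Order5760.card_ne_5760 (G := G)
  have h4620 := Lib.Classif.OrdersTo6232.card_ne_4620 (G := G)
  have h5400 := Lib.Classif.OrdersTo6232.card_ne_5400 (G := G)
  have h5460 := Lib.Classif.OrdersTo6232.card_ne_5460 (G := G)
  have hm := Lib.Classif.OrdersTo6232.card_mem_rest hG h1 h2
  simp only [Lib.Classif.OrdersTo6232.rest, List.mem_cons, List.not_mem_nil, or_false] at hm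
  omega

end Cfsg.Agent.S0983
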