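import Cfsg.Statements.S4774
import Cfsg.Agent.Lib.Elem70.Degrees.SL2Deg
-- import your own Cfsg.Agent.* helpers here

set_option autoImplicit false
open Cfsg

namespace Cfsg.Agent.S4774

/-- Let F be a finite field of odd characteristic t with q > 5 elements and let S be isomorphic to PSL(2,F) or to SL(2,F). Then the vertices of the character degree graph of S are the primes dividing q(q²−1); the prime t is adjacent to no vertex; two distinct primes dividing q² − 1 are adjacent exactly when one of them is 2, or both divide q + 1, or both divide q − 1. -/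
theorem result (F : Type*) [Field F] [Fintype F] (t : ℕ) [Fact t.Prime] [CharP F t] (ht : t ≠ 2) (q : ℕ) (hq : Fintype.card F = q) (h5 : 5 < q) {S : Type*} [Group S] [Finite S] (hS : Nonempty (S ≃* Matrix.ProjectiveSpecialLinearGroup (Fin 2) F) ∨ Nonempty (S ≃* Matrix.SpecialLinearGroup (Fin 2) F)) : Cfsg.degreePrimes S = {r : ℕ | r.Prime ∧ r ∣ q * (q ^ 2 - 1)} ∧ ∀ r s : ℕ, (Cfsg.degreeGraph S).Adj r s ↔ (r ≠ s ∧ r.Prime ∧ s.Prime ∧ r ∣ q ^ 2 - 1 ∧ s ∣ q ^ 2 - 1 ∧ (r = 2 ∨ s = 2 ∨ (r ∣ q + 1 ∧ s ∣ q + 1) ∨ (r ∣ q - 1 ∧ s ∣ q - 1))) := by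
  classical
  open Cfsg.Agent.Lib.Elem70.Degrees.SL2Deg in
  obtain ⟨hv, he⟩ := graph_facts q hq (by omega) hS
    (hq ▸ (degrees_facts hS).2.2 (Or.inl (by omega)))
  have hodd : Odd q := by
    obtain ⟨n, -, hn⟩ := FiniteField.card F t
    rw [← hq, hn]
    exact ((Fact.out : t.Prime).odd_of_ne_two ht).pow
  obtain ⟨k, hk⟩ := hodd
  refine ⟨hv, fun r s => ?_⟩
  rw [he r s, Cfsg.Agent.Lib.Elem70.Degrees.SL2Deg.sq_sub_one]
  have h2m : 2 ∣ q - 1 := ⟨k, by omega⟩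
  have h2p : 2 ∣ q + 1 := ⟨k + 1, by omega⟩
  refine and_congr_right fun _ => and_congr_right fun hr => and_congr_right fun hs => ⟨?_, ?_⟩
  · rintro (⟨a, b⟩ | ⟨a, b⟩)
    · exact ⟨dvd_mul_of_dvd_right a _, dvd_mul_of_dvd_right b _, Or.inr (Or.inr (Or.inl ⟨a, b⟩))⟩
    · exact ⟨dvd_mul_of_dvd_left a _, dvd_mul_of_dvd_left b _, Or.inr (Or.inr (Or.inr ⟨a, b⟩))⟩
  · rintro ⟨hr', hs', rfl | rfl | h | h⟩
    · exact (hs.dvd_mul.1 hs').elim (fun b => Or.inr ⟨h2m, b⟩) fun b => Or.inl ⟨h2p, b⟩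
    · exact (hr.dvd_mul.1 hr').elim (fun b => Or.inr ⟨b, h2m⟩) fun b => Or.inl ⟨b, h2p⟩
    · exact Or.inl h
    · exact Or.inr h

end Cfsg.Agent.S4774
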