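import Cfsg.Statements.S4705
import Cfsg.Agent.Lib.DegSubTwo.Reduction

set_option autoImplicit false
open Cfsg

namespace Cfsg.Agent.S4705

/-- Let G be a finite group with centre Z and p > 5 a prime such that a Sylow p-subgroup of G has order p and is not normal. If G has a faithful irreducible character of degree p − 2, then p = 2^a + 1 for some a and G is isomorphic to the direct product of SL(2, 2^a) with Z. -/
theorem result {G : Type*} [Group G] [Finite G] (p : ℕ) [Fact p.Prime] (hp : 5 < p) (P : Sylow p G) (hP : Nat.card P = p) (hnn : ¬ (P : Subgroup G).Normal) (ζ : G → ℂ) (hζ : Cfsg.IsIrrCharacter G ζ) (hfaith : ∀ g : G, ζ g = ζ 1 → g = 1) (hdeg : Cfsg.charDegree ζ = p - 2) : ∃ (a : ℕ) (F : Type) (_ : Field F) (_ : Fintype F), p = 2 ^ a + 1 ∧ Fintype.card F = 2 ^ a ∧ Nonempty (G ≃* Matrix.SpecialLinearGroup (Fin 2) F × Subgroup.center G) := by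
  haveI : Fintype G := Fintype.ofFinite G
  obtain ⟨g, hg⟩ := exists_prime_orderOf_dvd_card' (G := (P : Subgroup G)) p (by rw [hP])
  rw [← Subgroup.orderOf_coe] at hg
  have h2 : ¬ p ^ 2 ∣ Nat.card G := by
    intro h
    have h1 := (Fact.out : p.Prime).pow_dvd_iff_le_factorization Nat.card_pos.ne' |>.1 h
    have h3 := P.card_eq_multiplicity
    rw [hP] at h3
    have h4 : p ^ 2 ≤ p ^ (Nat.card G).factorization p :=
      Nat.pow_le_pow_right (Fact.out : p.Prime).pos h1
    rw [← h3] at h4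
    nlinarith
  have hnnG : ∀ K : Subgroup G, K.Normal → Nat.card K ≠ p := by
    intro K hK hcard
    haveI := hK
    have h1 := Cfsg.Agent.S4503.zpowers_of_dvd h2 hg hcard
    have h3 : Subgroup.zpowers (g : G) = (P : Subgroup G) :=
      Subgroup.eq_of_le_of_card_ge (Subgroup.zpowers_le.2 g.2) (by rw [Nat.card_zpowers, hg, hP])
    exact hnn (h3 ▸ h1.symm ▸ hK)
  exact Cfsg.Agent.Lib.DegSubTwo.Reduction.main (ζ := ⟨ζ, hζ⟩) hp hg h2 hdeg hfaith hnnG

end Cfsg.Agent.S4705
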