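import Cfsg.Statements.S0547
import Mathlib
import Cfsg.Agent.Lib.Cores.MinNormal

set_option autoImplicit false
set_option linter.style.haveILetI false
open Cfsg
open scoped Pointwise

namespace Cfsg.Agent.S0547

open Subgroup in
theorem main {G : Type*} [Group G] [Finite G] [Group.IsSolvable G] {Ω : Type*} [MulAction G Ω]
    [FaithfulSMul G Ω] (hprim : MulAction.IsPreprimitive G Ω) (M : Subgroup G) [M.Normal]
    (hM : M ≠ ⊥) (hmin : ∀ K : Subgroup G, K.Normal → K ≤ M → K = ⊥ ∨ K = M) (ω : Ω) :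
    IsMulCommutative M ∧ M ⊔ MulAction.stabilizer G ω = ⊤ ∧ M ⊓ MulAction.stabilizer G ω = ⊥ := by
  haveI := hprim.toIsPretransitive
  obtain ⟨hab, -⟩ := Lib.Cores.MinNormal.elementary_of_solvable hM hmin
  haveI : Nontrivial Ω := by
    by_contra hnt
    rw [not_nontrivial_iff_subsingleton] at hnt
    haveI : Subsingleton G :=
      ⟨fun a b => FaithfulSMul.eq_of_smul_eq_smul fun x : Ω => Subsingleton.elim _ _⟩
    exact hM (Subsingleton.elim _ _)
  have hco : IsCoatom (MulAction.stabilizer G ω) :=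
    (MulAction.isCoatom_stabilizer_iff_preprimitive G ω).2 hprim
  have hnot : ¬ M ≤ MulAction.stabilizer G ω := by
    intro h
    apply hM
    rw [eq_bot_iff]
    intro m hm
    rw [mem_bot]
    refine FaithfulSMul.eq_of_smul_eq_smul fun x : Ω => ?_
    obtain ⟨g, rfl⟩ := MulAction.exists_smul_eq G ω x
    rw [one_smul]
    have h1 : (g⁻¹ * m * g) • ω = ω :=
      h (by simpa using (inferInstance : M.Normal).conj_mem m hm g⁻¹)
    rw [mul_smul, mul_smul, inv_smul_eq_iff] at h1
    exact h1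
  have hsup : M ⊔ MulAction.stabilizer G ω = ⊤ := by
    rw [sup_comm]; exact hco.2 _ (left_lt_sup.2 hnot)
  refine ⟨hab, hsup, ?_⟩
  set D := M ⊓ MulAction.stabilizer G ω with hD
  have hDn : D.Normal := by
    rw [← normalizer_eq_top_iff, eq_top_iff, ← hsup]
    refine sup_le ?_ ?_
    · rw [le_normalizer_iff]
      intro a ha b hb
      have : a * b = b * a := congrArg Subtype.val
        (hab.is_comm.comm (⟨a, ha⟩ : M) ⟨b, (mem_inf.1 hb).1⟩)
      rw [this, mul_inv_cancel_right]; exact hb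
    · rw [le_normalizer_iff]
      intro a ha b hb
      exact mem_inf.2 ⟨(inferInstance : M.Normal).conj_mem b (mem_inf.1 hb).1 a,
        mul_mem (mul_mem ha (mem_inf.1 hb).2) (inv_mem ha)⟩
  rcases hmin D hDn inf_le_left with h | h
  · exact h
  · exact absurd (inf_eq_left.1 h) hnot

open Subgroup in
theorem regular {G : Type*} [Group G] [Finite G] [Group.IsSolvable G] {Ω : Type*} [Nonempty Ω]
    [MulAction G Ω] [FaithfulSMul G Ω] (hprim : MulAction.IsPreprimitive G Ω) (M : Subgroup G)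
    [M.Normal] (hM : M ≠ ⊥) (hmin : ∀ K : Subgroup G, K.Normal → K ≤ M → K = ⊥ ∨ K = M) :
    MulAction.IsPretransitive M Ω ∧ (∀ ω : Ω, MulAction.stabilizer M ω = ⊥) ∧
      ∃ p d : ℕ, p.Prime ∧ 0 < d ∧ Nat.card Ω = p ^ d ∧ Nat.card M = p ^ d := by
  haveI := hprim.toIsPretransitive
  have hfix : ∀ ω : Ω, MulAction.stabilizer M ω = ⊥ := by
    intro ω
    rw [eq_bot_iff]
    intro m hm
    have h1 : (m : G) ∈ M ⊓ MulAction.stabilizer G ω := mem_inf.2 ⟨m.2, hm⟩
    rw [(main hprim M hM hmin ω).2.2, mem_bot] at h1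
    exact mem_bot.2 (Subtype.ext h1)
  have htr : MulAction.IsPretransitive M Ω := by
    refine ⟨fun x y => ?_⟩
    obtain ⟨g, rfl⟩ := MulAction.exists_smul_eq G x y
    obtain ⟨m, hm, s, hs, rfl⟩ : g ∈ (↑M * ↑(MulAction.stabilizer G x) : Set G) := by
      rw [← normal_mul, (main hprim M hM hmin x).2.1]; trivial
    exact ⟨⟨m, hm⟩, by rw [mul_smul, (hs : s • x = x)]; rfl⟩
  refine ⟨htr, hfix, ?_⟩
  obtain ⟨hab, p, hp, hexp⟩ := Lib.Cores.MinNormal.elementary_of_solvable hM hmin
  haveI := Fact.mk hp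
  have hpg : IsPGroup p M := fun x => ⟨1, by rw [pow_one]; exact Subtype.ext (hexp x x.2)⟩
  haveI : Nontrivial M := (Subgroup.nontrivial_iff_ne_bot M).2 hM
  obtain ⟨d, hd, hcard⟩ := hpg.nontrivial_iff_card.1 inferInstance
  refine ⟨p, d, hp, hd, ?_, hcard⟩
  rw [← hcard]
  let ω : Ω := Classical.arbitrary Ω
  have h1 := MulAction.index_stabilizer_of_transitive M ω
  rw [hfix ω, index_bot] at h1
  exact h1.symm

/-- Let a finite solvable group G act faithfully and primitively on a set, and let M be a minimal normal subgroup of G. Then M is transitive with trivial point stabilizers, and the number of points equals the order of M, which is a prime power p ^ d with d ≥ 1. -/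
theorem result {G : Type*} [Group G] [Finite G] [Group.IsSolvable G] {Ω : Type*} [Nonempty Ω] [MulAction G Ω] [FaithfulSMul G Ω] (hprim : MulAction.IsPreprimitive G Ω) (M : Subgroup G) [M.Normal] (hM : M ≠ ⊥) (hmin : ∀ K : Subgroup G, K.Normal → K ≤ M → K = ⊥ ∨ K = M) : MulAction.IsPretransitive M Ω ∧ (∀ ω : Ω, MulAction.stabilizer M ω = ⊥) ∧ ∃ p d : ℕ, p.Prime ∧ 0 < d ∧ Nat.card Ω = p ^ d ∧ Nat.card M = p ^ d := by
  exact regular hprim M hM hmin

end Cfsg.Agent.S0547
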