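import Cfsg.Statements.S0548
import Mathlib
import Cfsg.Agent.S0547

set_option autoImplicit false
set_option linter.style.haveILetI false
open Cfsg
open scoped Pointwise

namespace Cfsg.Agent.S0548

open Subgroup in
theorem main {G : Type*} [Group G] [Finite G] [Group.IsSolvable G] {Ω : Type*} [MulAction G Ω]
    [FaithfulSMul G Ω] (hprim : MulAction.IsPreprimitive G Ω) (M : Subgroup G) [M.Normal]
    (hM : M ≠ ⊥) (hmin : ∀ K : Subgroup G, K.Normal → K ≤ M → K = ⊥ ∨ K = M) (ω : Ω) :
    IsComplement' M (MulAction.stabilizer G ω) ∧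
      MulAction.stabilizer G ω ⊓ centralizer (M : Set G) = ⊥ ∧
      ∀ K : Subgroup G, K ≤ M → MulAction.stabilizer G ω ≤ normalizer (K : Set G) →
        K = ⊥ ∨ K = M := by
  obtain ⟨hab, hsup, hinf⟩ := S0547.main hprim M hM hmin ω
  haveI := hprim.toIsPretransitive
  refine ⟨isComplement'_of_disjoint_and_mul_eq_univ (disjoint_iff.2 hinf)
    (by rw [← normal_mul, hsup, coe_top]), ?_, fun K hK hN => hmin K ?_ hK⟩
  · rw [eq_bot_iff]
    intro s hs
    obtain ⟨h1, h2⟩ := mem_inf.1 hs
    rw [mem_bot]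
    refine FaithfulSMul.eq_of_smul_eq_smul fun x : Ω => ?_
    rw [one_smul]
    obtain ⟨g, rfl⟩ := MulAction.exists_smul_eq G ω x
    obtain ⟨m, hm, t, ht, rfl⟩ : g ∈ (↑M * ↑(MulAction.stabilizer G ω) : Set G) := by
      rw [← normal_mul, hsup]; trivial
    rw [mul_smul, (ht : t • ω = ω), ← mul_smul, ← mem_centralizer_iff.1 h2 m hm, mul_smul,
      (h1 : s • ω = ω)]
  · rw [← normalizer_eq_top_iff, eq_top_iff, ← hsup]
    refine sup_le ?_ hN
    rw [le_normalizer_iff]
    intro a ha b hb
    have : a * b = b * a := congrArg Subtype.val (hab.is_comm.comm (⟨a, ha⟩ : M) ⟨b, hK hb⟩)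
    rw [this, mul_inv_cancel_right]; exact hb

/-- Let a finite solvable group G act faithfully and primitively on a set, let M be a minimal normal subgroup and H the stabilizer of a point. Then H is a complement to M, no non-identity element of H centralizes M, and the only subgroups of M normalized by H are the trivial subgroup and M. -/
theorem result {G : Type*} [Group G] [Finite G] [Group.IsSolvable G] {Ω : Type*} [MulAction G Ω] [FaithfulSMul G Ω] (hprim : MulAction.IsPreprimitive G Ω) (M : Subgroup G) [M.Normal] (hM : M ≠ ⊥) (hmin : ∀ K : Subgroup G, K.Normal → K ≤ M → K = ⊥ ∨ K = M) (ω : Ω) : Subgroup.IsComplement' M (MulAction.stabilizer G ω) ∧ MulAction.stabilizer G ω ⊓ Subgroup.centralizer (M : Set G) = ⊥ ∧ ∀ K : Subgroup G, K ≤ M → MulAction.stabilizer G ω ≤ Subgroup.normalizer (K : Set G) → K = ⊥ ∨ K = M := by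
  exact main hprim M hM hmin ω

end Cfsg.Agent.S0548
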