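import Cfsg.Statements.S4958
import Cfsg.Agent.Lib.GaloisMean.CoprimeSylow
import Cfsg.Agent.Lib.Clifford.Linear

set_option autoImplicit false
open Cfsg

namespace Cfsg.Agent.S4958

open Cfsg.Agent.Lib.Characters.Basic Cfsg.Agent.Lib.GaloisMean.AbelianForm
open Cfsg.Agent.Lib.BC78.Galois
open scoped ComplexConjugate

/-- The values of the characters on the coset of a central element form a coherent family. -/
theorem coherent_column {X : Type*} [Group X] [Finite X] {H : Type*} [CommGroup H] [Fintype H]
    (i : H →* X) (v : X) (hc : ∀ h, Commute v (i h)) [NeZero (orderOf v)] :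
    Coherent (fun (t : Cfsg.IrrCharacter X × (ZMod (orderOf v))ˣ) (h : H) =>
      (t.1 : X → ℂ) (v ^ (t.2 : ZMod (orderOf v)).val * i h)) := by
  classical
  let C := Subgroup.zpowers v
  let ι : C × H →* X := MonoidHom.noncommCoprod C.subtype i fun c h => by
    obtain ⟨z, hz⟩ := Subgroup.mem_zpowers_iff.mp c.2
    have := (hc h).zpow_left z
    rw [hz] at this
    exact this
  let N : Subgroup (C × H) := (MonoidHom.fst C H).ker
  have := Fintype.ofFinite N
  let eN : N ≃ H :=
    { toFun := fun n => n.1.2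
      invFun := fun h => ⟨(1, h), rfl⟩
      left_inv := fun n => by
        apply Subtype.ext
        exact Prod.ext (MonoidHom.mem_ker.mp n.2).symm rfl
      right_inv := fun h => rfl }
  let lin : Dual H → (C × H → ℂ) := fun a g => (((a g.2 : ℂˣ)) : ℂ)
  have hlin : ∀ a, Cfsg.IsCharacter (C × H) (lin a) := fun a =>
    (Cfsg.Agent.Lib.Clifford.Linear.isCharacter_toFunHom (a.comp (MonoidHom.snd C H))).1
  let Φ : Cfsg.IrrCharacter X → Dual H → (C × H → ℂ) := fun χ a x =>
    (Nat.card N : ℂ)⁻¹ * ∑ n : N, (((χ : X → ℂ) ∘ ι) * fun g => conj (lin a g)) ((n : C × H) * x)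
  have hΦ : ∀ χ a, Cfsg.IsCharacter (C × H) (Φ χ a) := fun χ a =>
    Cfsg.Agent.Lib.GaloisMean.CosetAvg.isCharacter_avg N
      (isCharacter_mul (isCharacter_comp ι (isCharacter_irr χ)) (isCharacter_conj (hlin a)))
  have hval : ∀ (χ : Cfsg.IrrCharacter X) (a : Dual H) (c : C),
      coeff (fun h => (χ : X → ℂ) ((c : X) * i h)) a = Φ χ a (c, 1) := by
    intro χ a c
    simp only [coeff, Φ, Nat.card_congr eN]
    congr 1
    refine (Fintype.sum_equiv eN _ _ fun n => ?_).symm
    have h1 : (n : C × H).1 = 1 := MonoidHom.mem_ker.mp n.2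
    simp [ι, lin, eN, h1]
  let cp : (ZMod (orderOf v))ˣ → C := fun t =>
    ⟨v ^ (t : ZMod (orderOf v)).val, pow_mem (Subgroup.mem_zpowers v) _⟩
  refine ⟨fun t a => ?_, fun σ => ?_⟩
  · rw [hval t.1 a (cp t.2)]
    exact isIntegral_apply (hΦ _ _) _
  obtain ⟨k, hk, hσ⟩ := exists_exponent_char (G := C × H) σ
  have hko : k.Coprime (orderOf v) := by
    refine hk.coprime_dvd_right ?_
    rw [← Nat.card_zpowers, Nat.card_prod]
    exact dvd_mul_right _ _
  refine ⟨(Equiv.refl _).prodCongr (Equiv.mulRight (ZMod.unitOfCoprime k hko)), fun t a hm => ?_⟩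
  have e1 : coeff (fun h => (t.1 : X → ℂ) (v ^ ((t.2 * ZMod.unitOfCoprime k hko :
      (ZMod (orderOf v))ˣ) : ZMod (orderOf v)).val * i h)) a = Φ t.1 a ((cp t.2, 1) ^ k) := by
    rw [Prod.pow_mk, one_pow, ← hval]
    rw [Cfsg.Agent.Lib.GaloisMean.CoprimeSylow.pow_unit_mul v t.2 hko]
    rfl
  have e0 : coeff (fun h => (t.1 : X → ℂ) (v ^ (t.2 : ZMod (orderOf v)).val * i h)) a =
      Φ t.1 a (cp t.2, 1) := hval t.1 a (cp t.2)
  simp only [Equiv.prodCongr_apply, Prod.map_fst, Prod.map_snd, Equiv.coe_refl, id_eq,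
    Equiv.coe_mulRight, e0, e1] at hm ⊢
  exact ⟨hσ _ (hΦ _ _) _ hm, fun hm' => hσ _ (isCharacter_conj (hΦ _ _)) _ hm'⟩

/-- Let X be a finite group and V a normal subgroup of X in which every element has order dividing the prime p, whose index in X is prime to p and which is its own centralizer in X; so V is an elementary abelian normal Sylow p-subgroup, and any complement G to V in X is a group of order prime to p acting faithfully on the vector space V by conjugation (the coprime linear setting of the k(GV) problem). Let G be a complement to V in X and suppose that for some v in V the centralizer of v in G is abelian. Then the number of conjugacy classes of X is at most the order of V (the abelian-stabilizer criterion for the k(GV) problem). -/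
theorem result {X : Type*} [Group X] [Finite X] (p : ℕ) [Fact p.Prime] (V : Subgroup X) [V.Normal] (hVexp : ∀ v ∈ V, v ^ p = 1) (hidx : ¬ p ∣ V.index) (hself : Subgroup.centralizer (V : Set X) = V) (G : Subgroup X) (hGV : Subgroup.IsComplement' V G) (v : X) (hv : v ∈ V) (hab : ∀ a ∈ G ⊓ Subgroup.centralizer ({v} : Set X), ∀ b ∈ G ⊓ Subgroup.centralizer ({v} : Set X), a * b = b * a) : Nat.card (ConjClasses X) ≤ Nat.card V := by
  classical
  have := Fintype.ofFinite X
  have := Fintype.ofFinite (Cfsg.IrrCharacter X)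
  have habV : ∀ a ∈ V, ∀ b ∈ V, a * b = b * a := by
    intro a ha b hb
    have : b ∈ Subgroup.centralizer (V : Set X) := by rw [hself]; exact hb
    exact Subgroup.mem_centralizer_iff.mp this a ha
  have hVp : IsPGroup p V := fun x => ⟨1, Subtype.ext (by simpa using hVexp x x.2)⟩
  let H := G ⊓ Subgroup.centralizer ({v} : Set X)
  let instV : CommGroup V :=
    { (inferInstance : Group V) with mul_comm := fun a b => Subtype.ext (habV a a.2 b b.2) }
  let instH : CommGroup H :=
    { (inferInstance : Group H) with mul_comm := fun a b => Subtype.ext (hab a a.2 b b.2) }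
  have := Fintype.ofFinite H
  have hcop : (Nat.card V).Coprime (Nat.card G) := by
    obtain ⟨n, hn⟩ := IsPGroup.iff_card.mp hVp
    rw [hn, ← hGV.symm.index_eq_card]
    exact ((Fact.out : p.Prime).coprime_iff_not_dvd.mpr hidx).pow_left n
  have hcopH : (Nat.card V).Coprime (Nat.card H) :=
    hcop.coprime_dvd_right (Subgroup.card_dvd_of_le inf_le_left)
  let φ : H →* MulAut V := MulAut.conjNormal.comp H.subtype
  have hφ : Function.Injective φ := by
    rw [injective_iff_map_eq_one]
    intro h hh
    apply Subtype.ext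
    have h1 : (h : X) ∈ Subgroup.centralizer (V : Set X) := by
      rw [Subgroup.mem_centralizer_iff]
      intro u hu
      have := congrArg Subtype.val (DFunLike.congr_fun hh (⟨u, hu⟩ : V))
      exact (mul_inv_eq_iff_eq_mul.mp this).symm
    rw [hself] at h1
    exact Subgroup.disjoint_def.mp hGV.disjoint h1 h.2.1
  obtain ⟨L, hL, hw⟩ := Cfsg.Agent.Lib.GaloisMean.CoprimeChain.exists_list φ hφ hcopH
  have hvN := Cfsg.Agent.Lib.GaloisMean.CoprimeSylow.orderOf_neZero v
  have hcomm : ∀ h : H, Commute v (H.subtype h) := fun h =>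
    Subgroup.mem_centralizer_iff.mp h.2.2 v (Set.mem_singleton v)
  let U := (ZMod (orderOf v))ˣ
  have hcoh := coherent_column H.subtype v hcomm
  let f := fun (t : Cfsg.IrrCharacter X × U) (h : H) =>
    (t.1 : X → ℂ) (v ^ (t.2 : ZMod (orderOf v)).val * H.subtype h)
  have hne : ∀ t, supp (f t) ≠ ∅ := by
    intro t ht
    have h0 : ∑ a, Complex.normSq (coeff (f t) a) = 0 := Finset.sum_eq_zero fun a _ => by
      have : a ∉ supp (f t) := by rw [ht]; exact Finset.notMem_empty a
      simp only [supp, Finset.mem_filter, Finset.mem_univ, true_and, not_not] at this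
      rw [this, map_zero]
    rw [parseval, mul_eq_zero, or_iff_right (inv_ne_zero (Nat.cast_ne_zero.mpr Nat.card_pos.ne')),
      Finset.sum_eq_zero_iff_of_nonneg (fun _ _ => Complex.normSq_nonneg _)] at h0
    have h1 := Complex.normSq_eq_zero.mp (h0 1 (Finset.mem_univ _))
    simp only [f, map_one, mul_one] at h1
    exact Cfsg.Agent.Lib.GaloisMean.CoprimeSylow.apply_ne_zero p V hVp hidx habV
      (V.pow_mem hv _) t.1 h1
  have hmain := card_mul_le_sum_form L hL hcoh hne
  have hcolumn : ∀ u : U, ∑ χ : Cfsg.IrrCharacter X, form L (f (χ, u)) ≤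
      (Nat.card V : ℝ) * Nat.card H := by
    intro u
    set w := v ^ (u : ZMod (orderOf v)).val with hwdef
    have hwV : w ∈ V := V.pow_mem hv _
    have hcen : Subgroup.centralizer ({w} : Set X) = Subgroup.centralizer ({v} : Set X) :=
      Cfsg.Agent.Lib.GaloisMean.CoprimeSylow.centralizer_pow v
        (Cfsg.Agent.Lib.GaloisMean.CoprimeSylow.val_coprime v u)
    have hone : ∀ h : H, ∑ χ : Cfsg.IrrCharacter X, weight L h * Complex.normSq (f (χ, u) h) ≤
        (Nat.card V : ℝ) * Nat.card H := by
      intro h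
      have h1 := Cfsg.Agent.Lib.Characters.Complete.sum_irr_mul_conj (w * (h : X)) (w * (h : X))
      rw [if_pos (IsConj.refl _)] at h1
      simp only [Complex.mul_conj] at h1
      have h2 : ∑ χ : Cfsg.IrrCharacter X, Complex.normSq (f (χ, u) h) =
          (Nat.card (Subgroup.centralizer ({w * (h : X)} : Set X)) : ℝ) :=
        Complex.ofReal_injective (by push_cast; exact h1)
      rw [← Finset.mul_sum, h2, Cfsg.Agent.Lib.GaloisMean.CoprimeSylow.card_centralizer_mul V habV G hGV
        hcop hwV (by rw [hcen]; exact hab) (by rw [hcen]; exact h.2)]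
      rw [hcen, Nat.cast_mul, ← mul_assoc]
      refine mul_le_mul_of_nonneg_right ?_ (Nat.cast_nonneg _)
      refine le_trans (le_of_eq ?_) (hw h)
      congr 2
      exact Nat.card_congr (Equiv.subtypeEquivRight fun x =>
        ⟨fun e => Subtype.ext e, fun e => congrArg Subtype.val e⟩)
    simp only [form, ← Finset.mul_sum]
    rw [Finset.sum_comm, inv_mul_le_iff₀ (Nat.cast_pos.mpr Nat.card_pos)]
    refine (Finset.sum_le_sum fun h _ => hone h).trans (le_of_eq ?_)
    rw [Finset.sum_const, Finset.card_univ, nsmul_eq_mul, ← Nat.card_eq_fintype_card]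
  have hbound : (Fintype.card (Cfsg.IrrCharacter X × U) : ℝ) * Nat.card H ≤
      (Fintype.card U : ℝ) * ((Nat.card V : ℝ) * Nat.card H) := by
    refine hmain.trans ?_
    rw [Fintype.sum_prod_type, Finset.sum_comm, ← nsmul_eq_mul, ← Finset.card_univ]
    exact (Finset.sum_le_sum fun u _ => hcolumn u).trans (le_of_eq (Finset.sum_const _))
  rw [← Cfsg.Agent.Lib.Characters.Complete.card_irr_eq_card_conjClasses, Nat.card_eq_fintype_card]
  rw [Fintype.card_prod, Nat.cast_mul, mul_comm (Fintype.card (Cfsg.IrrCharacter X) : ℝ), mul_assoc] at hbound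
  have h3 := le_of_mul_le_mul_left hbound (Nat.cast_pos.mpr Fintype.card_pos)
  have h4 := le_of_mul_le_mul_right h3 (Nat.cast_pos.mpr Nat.card_pos)
  exact_mod_cast h4

end Cfsg.Agent.S4958
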