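import Cfsg.Statements.S0441
import Cfsg.Agent.Lib.RankThree.Main
import Cfsg.Agent.Lib.RankThree.Width

set_option autoImplicit false
open Cfsg
open scoped commutatorElement

namespace Cfsg.Agent.S0441

/-- Fischer's rank-three property. Let a finite group be generated by a conjugacy class D of 3-transpositions, with non-abelian simple commutator subgroup. Then for a in D there are members of D other than a commuting with a and members not commuting with a, and the centraliser of a acts transitively on each of these two sets. -/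
theorem result {G : Type*} [Group G] [Finite G] {D : Set G} (hD : Cfsg.IsThreeTranspositionClass D) (hsimple : IsSimpleGroup (commutator G)) (hnonab : ∃ x y : commutator G, x * y ≠ y * x) {a : G} (ha : a ∈ D) : (∃ b ∈ D, b ≠ a ∧ Commute a b) ∧ (∃ c ∈ D, ¬ Commute a c) ∧ (∀ b ∈ D, ∀ b' ∈ D, b ≠ a → b' ≠ a → Commute a b → Commute a b' → ∃ g : G, Commute g a ∧ g * b * g⁻¹ = b') ∧ (∀ c ∈ D, ∀ c' ∈ D, ¬ Commute a c → ¬ Commute a c' → ∃ g : G, Commute g a ∧ g * c * g⁻¹ = c') := by
  have hD' := Cfsg.Agent.Lib.ThreeTranspositions.isClosedSet_of_class hD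
  have hD2 : ∃ a ∈ D, ∃ b ∈ D, a ≠ b := by
    by_contra h
    push Not at h
    obtain ⟨x, y, hxy⟩ := hnonab
    apply hxy
    apply Subtype.ext
    have hone : ∀ g : G, g ∈ Subgroup.zpowers a := fun g => by
      have hle : Subgroup.closure D ≤ Subgroup.zpowers a := by
        rw [Subgroup.closure_le]
        intro d hd
        rw [h d hd a ha]; exact Subgroup.mem_zpowers a
      exact hle (hD.2.2 ▸ Subgroup.mem_top g)
    obtain ⟨i, hi⟩ := hone x
    obtain ⟨j, hj⟩ := hone y
    show (x : G) * y = y * x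
    rw [← hi, ← hj]
    exact (Commute.zpow_zpow_self a i j).eq
  have hw : ∀ u ∈ D, ∃ b ∈ D, b ≠ u ∧ Commute u b := by
    by_contra hno
    push Not at hno
    obtain ⟨u, hu, huD⟩ := hno
    have hall : ∀ d ∈ D, ∀ e ∈ D, Commute d e → d = e := by
      intro d hd e he hde
      by_contra hne
      obtain ⟨g, hg⟩ := Cfsg.Agent.Lib.ThreeTranspositions.class_exists_conj hD hd hu
      refine huD (g * e * g⁻¹) (hD'.2 g e he) ?_ ?_
      · rw [← hg]; exact fun h' => hne (Cfsg.Agent.Lib.RankThree.conj_left_inj.1 h').symm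
      · rw [← hg]; exact (Cfsg.Agent.Lib.RankThree.conj_commute_iff g d e).2 hde
    have hbraid : ∀ d ∈ D, ∀ e ∈ D, d * e * d = e * d * e := by
      intro d hd e he
      by_cases hde : d = e
      · rw [hde]
      · exact Cfsg.Agent.Lib.ThreeTranspositions.braid hD.1 hd he fun h => hde (hall d hd e he h)
    have hsq : ∀ d ∈ D, d * d = 1 := fun d hd => Cfsg.Agent.Lib.ThreeTranspositions.mul_self hD.1 hd
    have hprod : ∀ d ∈ D, ∃ N : Subgroup G, N.Normal ∧ IsPGroup 3 N ∧ a * d ∈ N := fun d hd =>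
      Cfsg.Agent.Lib.RankThree.Width.exists_normal_three D hbraid hsq hD'.2 ha hd
    let P : Subgroup G := sSup {N | N.Normal ∧ IsPGroup 3 N}
    obtain ⟨T⟩ : Nonempty (Sylow 3 G) := inferInstance
    haveI : Fact (Nat.Prime 3) := ⟨Nat.prime_three⟩
    have hPp : IsPGroup 3 P := T.isPGroup'.to_le (sSup_le fun N hN => by
      haveI := hN.1; exact hN.2.le_sylow_of_normal T)
    haveI hPn : P.Normal := by
      refine ⟨fun x hx g => ?_⟩
      have hle : P ≤ P.comap (MulAut.conj g).toMonoidHom := sSup_le fun N hN y hy =>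
        Subgroup.mem_comap.2 (le_sSup (s := {N : Subgroup G | N.Normal ∧ IsPGroup 3 N}) hN
          (hN.1.conj_mem y hy g))
      exact hle hx
    have haP : ∀ d ∈ D, (QuotientGroup.mk d : G ⧸ P) = QuotientGroup.mk a := by
      intro d hd
      obtain ⟨N, h1, h2, h3⟩ := hprod d hd
      refine (QuotientGroup.eq.2 ?_).symm
      rw [Cfsg.Agent.Lib.ThreeTranspositions.inv_eq hD.1 ha]
      exact le_sSup (s := {N : Subgroup G | N.Normal ∧ IsPGroup 3 N}) ⟨h1, h2⟩ h3
    have hcyc : ∀ q : G ⧸ P, q ∈ Subgroup.zpowers (QuotientGroup.mk a : G ⧸ P) := by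
      intro q
      induction q using QuotientGroup.induction_on with
      | H g =>
        have hle : Subgroup.closure D ≤
            (Subgroup.zpowers (QuotientGroup.mk a : G ⧸ P)).comap (QuotientGroup.mk' P) := by
          rw [Subgroup.closure_le]
          intro d hd
          simp only [SetLike.mem_coe, Subgroup.mem_comap, QuotientGroup.mk'_apply, haP d hd]
          exact Subgroup.mem_zpowers _
        exact hle (hD.2.2 ▸ Subgroup.mem_top g)
    have hle : commutator G ≤ P := by
      rw [commutator_def, Subgroup.commutator_le]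
      intro x _ y _
      rw [← QuotientGroup.eq_one_iff]
      obtain ⟨i, hi⟩ := hcyc x
      obtain ⟨j, hj⟩ := hcyc y
      simp only at hi hj
      show (QuotientGroup.mk' P) ⁅x, y⁆ = 1
      rw [map_commutatorElement, QuotientGroup.mk'_apply, QuotientGroup.mk'_apply, ← hi, ← hj,
        commutatorElement_eq_one_iff_mul_comm]
      exact (Commute.zpow_zpow_self _ i j).eq
    have hp := hPp.to_le hle
    haveI := hsimple
    obtain ⟨x, y, hxy⟩ := hnonab
    haveI := hp.center_nontrivial
    rcases hsimple.eq_bot_or_eq_top_of_normal (Subgroup.center (commutator G)) inferInstance with h | h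
    · exact (Subgroup.nontrivial_iff_ne_bot _).1 inferInstance h
    · exact hxy (Subgroup.mem_center_iff.1 (h ▸ Subgroup.mem_top y) x)
  obtain ⟨b, hb, hba, hab⟩ := hw a ha
  obtain ⟨c, hc, hac⟩ := Cfsg.Agent.Lib.ThreeTranspositions.exists_not_commute hD hD2 ha
  refine ⟨⟨b, hb, hba, hab⟩, ⟨c, hc, hac⟩, ?_, ?_⟩
  · intro p hp q hq hpa hqa hap haq
    obtain ⟨g, h1, h2⟩ := Cfsg.Agent.Lib.RankThree.orb_com hD (Cfsg.Agent.Lib.RankThree.module_universal hD hsimple) hw a ha p hp a ha q hq hpa hqa hap haq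
    exact ⟨g, mul_inv_eq_iff_eq_mul.1 h1, h2⟩
  · intro p hp q hq hap haq
    obtain ⟨g, h1, h2⟩ := Cfsg.Agent.Lib.RankThree.orb_adj hD (Cfsg.Agent.Lib.RankThree.module_universal hD hsimple) hw a ha p hp a ha q hq hap haq
    exact ⟨g, mul_inv_eq_iff_eq_mul.1 h1, h2⟩

end Cfsg.Agent.S0441
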