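import Cfsg.Statements.S1754
import Cfsg.Agent.Lib.Components.Basic

set_option autoImplicit false
open Cfsg

namespace Cfsg.Agent.S1754

/-- Let A be a standard subgroup of the finite group G (A quasisimple, C_G(A) tightly embedded of even order, A commuting elementwise with no other conjugate of itself, and N_G(A) = N_G(C_G(A))), and let t be an involution of G centralizing A. Then the centralizer of t lies in the normalizer of A; in particular A, viewed inside C_G(t), is a component of C_G(t). -/
theorem result {G : Type*} [Group G] [Finite G]
    (A : Subgroup G) (hA : Cfsg.IsStandardSubgroup A) (t : G) (ht : orderOf t = 2) (htA : t ∈ Subgroup.centralizer (A : Set G)) :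
    Subgroup.centralizer ({t} : Set G) ≤ Subgroup.normalizer (A : Set G) ∧
      Cfsg.IsComponent (A.subgroupOf (Subgroup.centralizer ({t} : Set G))) := by
  obtain ⟨hq, ⟨-, hti⟩, -, hN⟩ := hA
  set C := Subgroup.centralizer ({t} : Set G) with hC
  have hle : C ≤ Subgroup.normalizer (A : Set G) := by
    intro g hg
    by_contra hgn
    rw [hN] at hgn
    have hodd := hti g hgn
    set X := Subgroup.centralizer (A : Set G) ⊓
      (Subgroup.centralizer (A : Set G)).map (MulAut.conj g).toMonoidHom
    have hmem : t ∈ X := by
      refine ⟨htA, t, htA, ?_⟩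
      have := Subgroup.mem_centralizer_singleton_iff.mp hg
      simp [this]
    have h2 : orderOf t ∣ Nat.card X := Subgroup.orderOf_dvd_natCard X hmem
    rw [ht] at h2
    exact (Nat.not_even_iff_odd.mpr hodd) (even_iff_two_dvd.mpr h2)
  refine ⟨hle, ?_, ?_⟩
  · have hAC : A ≤ C := by
      intro a ha
      rw [hC, Subgroup.mem_centralizer_singleton_iff]
      exact Subgroup.mem_centralizer_iff.mp htA a ha
    haveI : (A.subgroupOf C).Normal := (Subgroup.normal_subgroupOf_iff_le_normalizer hAC).mpr hle
    exact Subgroup.Normal.isSubnormal inferInstance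
  · have hAC : A ≤ C := by
      intro a ha
      rw [hC, Subgroup.mem_centralizer_singleton_iff]
      exact Subgroup.mem_centralizer_iff.mp htA a ha
    exact Cfsg.Agent.Lib.Components.Quasisimple.of_mulEquiv hq (Subgroup.subgroupOfEquivOfLe hAC).symm

end Cfsg.Agent.S1754
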