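import Cfsg.Statements.S2566
import Cfsg.Agent.Lib.OrthStd.Models

set_option autoImplicit false
open Cfsg

namespace Cfsg.Agent.S2566

/-- The three nonzero vectors of `F₂²`. -/
def vec3 (a : Fin 3) (i : Fin 2) : ZMod 2 := if a = 2 ∨ a.val = i.val then 1 else 0

/-- Coordinates of `F₂⁴` as entries of a `2 × 2` matrix, so that the form is the determinant. -/
def pos : Fin 2 ⊕ Fin 2 → Fin 2 × Fin 2
  | .inl i => (0, i)
  | .inr i => (1, Fin.rev i)

/-- Left multiplication on `2 × 2` matrices by the matrix of a permutation of the nonzero vectors. -/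
def tmat (s : Equiv.Perm (Fin 3)) : Matrix (Fin 2 ⊕ Fin 2) (Fin 2 ⊕ Fin 2) (ZMod 2) := fun p q =>
  if (pos p).2 = (pos q).2 then vec3 (s (pos q).1.castSucc) (pos p).1 else 0

/-- The transposition of the two off-diagonal coordinates. -/
def swp : Matrix (Fin 2 ⊕ Fin 2) (Fin 2 ⊕ Fin 2) (ZMod 2) := fun p q =>
  if q = Equiv.swap (Sum.inl 1) (Sum.inr 1) p then 1 else 0

theorem tmat_one : tmat 1 = 1 := by decide

theorem tmat_mul : ∀ s t, tmat (s * t) = tmat s * tmat t := by decide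

theorem tmat_preserves : ∀ (s : Equiv.Perm (Fin 3)) (v : Fin 2 ⊕ Fin 2 → ZMod 2),
    Cfsg.quadFormPlus 2 (ZMod 2) (Matrix.mulVec (tmat s) v) = Cfsg.quadFormPlus 2 (ZMod 2) v := by
  unfold Cfsg.quadFormPlus
  decide

theorem swp_sq : swp * swp = 1 := by decide

theorem swp_preserves : ∀ v : Fin 2 ⊕ Fin 2 → ZMod 2,
    Cfsg.quadFormPlus 2 (ZMod 2) (Matrix.mulVec swp v) = Cfsg.quadFormPlus 2 (ZMod 2) v := by
  unfold Cfsg.quadFormPlus
  decide

theorem tmat_sep : ∀ s t, tmat s = swp * tmat t * swp → s = 1 := by decide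

theorem tmat_inj : ∀ s, tmat s = 1 → s = 1 := by decide

theorem tmat_comm : ∀ s t, tmat s * (swp * tmat t * swp) = swp * tmat t * swp * tmat s := by decide

local notation "G4" => Cfsg.isometryGroup (ZMod 2) (Cfsg.quadFormPlus 2 (ZMod 2))

/-- The first factor. -/
def toG : Equiv.Perm (Fin 3) →* ↥G4 where
  toFun s := ⟨⟨tmat s, tmat s⁻¹, by rw [← tmat_mul, mul_inv_cancel, tmat_one],
    by rw [← tmat_mul, inv_mul_cancel, tmat_one]⟩, fun u _ => tmat_preserves s u⟩
  map_one' := Subtype.ext (Units.ext tmat_one)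
  map_mul' s t := Subtype.ext (Units.ext (tmat_mul s t))

/-- The underlying matrix. -/
def mat (x : ↥G4) : Matrix (Fin 2 ⊕ Fin 2) (Fin 2 ⊕ Fin 2) (ZMod 2) :=
  ((x : GL (Fin 2 ⊕ Fin 2) (ZMod 2)) : Matrix (Fin 2 ⊕ Fin 2) (Fin 2 ⊕ Fin 2) (ZMod 2))

/-- The exchanging element. -/
def gsw : ↥G4 := ⟨⟨swp, swp, swp_sq, swp_sq⟩, fun u _ => swp_preserves u⟩

/-- The full orthogonal group of the plus-type form x₁y₁ + x₂y₂ in dimension 4 over the field of two elements has order 72 and is isomorphic to the wreath product of the symmetric group of degree 3 by a group of order 2: it has a normal subgroup isomorphic to the direct product of two symmetric groups of degree 3, of index 2, whose two direct factors are interchanged by conjugation by some element. -/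
theorem result :
    Nat.card ↥(Cfsg.isometryGroup (ZMod 2) (Cfsg.quadFormPlus 2 (ZMod 2))) = 72 ∧
    ∃ (A B : Subgroup ↥(Cfsg.isometryGroup (ZMod 2) (Cfsg.quadFormPlus 2 (ZMod 2)))),
      Nonempty (↥A ≃* Equiv.Perm (Fin 3)) ∧ Nonempty (↥B ≃* Equiv.Perm (Fin 3)) ∧ A ⊓ B = ⊥ ∧ (∀ a ∈ A, ∀ b ∈ B, a * b = b * a) ∧
      (A ⊔ B).index = 2 ∧ ∃ g : ↥(Cfsg.isometryGroup (ZMod 2) (Cfsg.quadFormPlus 2 (ZMod 2))), A.map (MulAut.conj g).toMonoidHom = B := by

  classical
  have hcard : Nat.card ↥G4 = 72 := by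
    rw [Cfsg.Agent.Lib.OrthStd.card_orth_plus (q := 2) (ZMod.card 2) 2 (by norm_num)]
    decide
  have hinj : Function.Injective toG := (injective_iff_map_eq_one toG).2 fun s h =>
    tmat_inj s (congrArg mat h)
  let A : Subgroup ↥G4 := toG.range
  let B : Subgroup ↥G4 := A.map (MulAut.conj gsw).toMonoidHom
  let eA : Equiv.Perm (Fin 3) ≃* ↥A := MonoidHom.ofInjective hinj
  let eB : ↥A ≃* ↥B := A.equivMapOfInjective (MulAut.conj gsw).toMonoidHom (MulAut.conj gsw).injective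
  have hinf : A ⊓ B = ⊥ := by
    rw [eq_bot_iff]
    rintro x ⟨⟨s, rfl⟩, ⟨_, ⟨t, rfl⟩, ht⟩⟩
    have := tmat_sep s t (congrArg mat ht).symm
    rw [this, map_one]
    exact one_mem _
  have hcomm : ∀ a ∈ A, ∀ b ∈ B, a * b = b * a := by
    rintro a ⟨s, rfl⟩ b ⟨_, ⟨t, rfl⟩, rfl⟩
    exact Subtype.ext (Units.ext (tmat_comm s t))
  refine ⟨hcard, A, B, ⟨eA.symm⟩, ⟨(eA.trans eB).symm⟩, hinf, hcomm, ?_, gsw, rfl⟩
  have hc : ∀ (a : A) (b : B), Commute (A.subtype a) (B.subtype b) := fun a b => hcomm a a.2 b b.2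
  let φ : ↥A × ↥B →* ↥G4 := MonoidHom.noncommCoprod A.subtype B.subtype hc
  have hφ : Function.Injective φ := (MonoidHom.noncommCoprod_injective _ _ _).2
    ⟨A.subtype_injective, B.subtype_injective, by rw [A.range_subtype, B.range_subtype, disjoint_iff, hinf]⟩
  have hr : φ.range = A ⊔ B := by
    rw [MonoidHom.noncommCoprod_range, A.range_subtype, B.range_subtype]
  have h6A : Nat.card ↥A = 6 := by rw [← Nat.card_congr eA.toEquiv, Nat.card_perm, Nat.card_fin]; rfl
  have h6B : Nat.card ↥B = 6 := by rw [← Nat.card_congr eB.toEquiv, h6A]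
  have h36 : Nat.card ↥(A ⊔ B) = 36 := by
    rw [← hr, ← Nat.card_congr (MonoidHom.ofInjective hφ).toEquiv, Nat.card_prod, h6A, h6B]
  have := (A ⊔ B).card_mul_index
  rw [h36, hcard] at this
  omega

end Cfsg.Agent.S2566
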