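import Cfsg.Statements.S0428
import Cfsg.Agent.Lib.Steiner22.Graphs

set_option autoImplicit false
open Cfsg

namespace Cfsg.Agent.S0428

/-- The point-block graph of an S(3, 6, 22) is strongly regular with parameters (100, 22, 0, 6). -/
theorem result {α : Type*} [Fintype α] (hα : Fintype.card α = 22) {B : Set (Finset α)} (hB : Cfsg.IsSteinerSystem 3 6 B) [Fintype B] [DecidableRel (Cfsg.pointBlockGraph B).Adj] : (Cfsg.pointBlockGraph B).IsSRGWith 100 22 0 6 := by
  classical
  have h := Lib.Steiner22.data_of hα hB
  have hmem : ∀ b : B, (b : Finset α) ∈ B.toFinset := fun b => Set.mem_toFinset.mpr b.2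
  have a0p : ∀ a, (pointBlockGraph B).Adj none (some (Sum.inl a)) :=
    Lib.Steiner22.adj_none_point B
  have a0b : ∀ b, ¬ (pointBlockGraph B).Adj none (some (Sum.inr b)) :=
    Lib.Steiner22.adj_none_block B
  have app := Lib.Steiner22.adj_point_point B
  have apb := Lib.Steiner22.adj_point_block B
  have abb := Lib.Steiner22.adj_block_block hB
  have ap0 : ∀ a, (pointBlockGraph B).Adj (some (Sum.inl a)) none := fun a => (a0p a).symm
  have ab0 : ∀ b, ¬ (pointBlockGraph B).Adj (some (Sum.inr b)) none :=
    fun b e => a0b b e.symm
  have abp : ∀ (b : B) a, (pointBlockGraph B).Adj (some (Sum.inr b)) (some (Sum.inl a)) ↔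
      a ∈ (b : Finset α) := fun b a => by rw [SimpleGraph.adj_comm]; exact apb a b
  refine ⟨?_, fun u => ?_, fun u v huv => ?_, fun u v hne huv => ?_⟩
  · rw [Fintype.card_option, Fintype.card_sum, hα, ← Set.toFinset_card, h.card_blocks]
  · rw [← SimpleGraph.card_neighborFinset_eq_degree, SimpleGraph.neighborFinset_eq_filter,
      Lib.Steiner22.card_filter_option_sum]
    rcases u with _ | a | b
    · simp [a0p, a0b, hα]
    · rw [if_pos (ap0 a)]
      simp only [app, apb, Finset.filter_false, Finset.card_empty]
      rw [Lib.Steiner22.card_filter_subtype (fun x => a ∈ x), h.point_count a]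
    · rw [if_neg (ab0 b)]
      simp only [abp, abb, Finset.filter_mem_eq_inter, Finset.univ_inter]
      rw [Lib.Steiner22.card_filter_subtype (fun x => Disjoint (b : Finset α) x),
        h.disjoint_count (hmem b), h.size _ (hmem b)]
  · rw [Lib.Steiner22.card_commonNeighbors, Finset.card_eq_zero, Finset.filter_eq_empty_iff]
    rintro w _ ⟨hu, hv⟩
    rcases u with _ | a | b <;> rcases v with _ | a' | c <;> rcases w with _ | x | d <;>
      simp only [a0p, a0b, ap0, ab0, app, apb, abp, abb, SimpleGraph.irrefl] at huv hu hv ⊢
    · exact Finset.disjoint_left.mp hv huv hu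
    · exact Finset.disjoint_left.mp hu huv hv
    · exact Finset.disjoint_left.mp huv hu hv
    · exact h.no_triangle (hmem b) (hmem c) (hmem d) huv hu hv
  · rw [Lib.Steiner22.card_commonNeighbors, Lib.Steiner22.card_filter_option_sum]
    rcases u with _ | a | b <;> rcases v with _ | a' | c <;>
      simp only [a0p, a0b, ap0, ab0, app, apb, abp, abb, SimpleGraph.irrefl, and_false,
        false_and, and_self, true_and, and_true, not_true, not_false_iff, if_true, if_false,
        Finset.filter_false, Finset.card_empty, ne_eq] at huv hne ⊢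
    · simp [h.size _ (hmem c)]
    · rw [Lib.Steiner22.card_filter_subtype (fun x => a ∈ x ∧ a' ∈ x),
        h.pair_count (fun e => hne (by rw [e]))]
    · rw [Lib.Steiner22.card_filter_subtype (fun x => a ∈ x ∧ Disjoint (c : Finset α) x),
        h.outside_count (hmem c) huv]
    · simp [h.size _ (hmem b)]
    · rw [Finset.filter_congr (fun x _ => and_comm),
        Lib.Steiner22.card_filter_subtype (fun x => a' ∈ x ∧ Disjoint (b : Finset α) x),
        h.outside_count (hmem b) huv]
    · have hne' : (b : Finset α) ≠ c := fun e => hne (by rw [Subtype.ext e])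
      have h2 : (Finset.univ.filter fun x : α => x ∈ (b : Finset α) ∧ x ∈ (c : Finset α)).card = 2 := by
        have e : (Finset.univ.filter fun x : α => x ∈ (b : Finset α) ∧ x ∈ (c : Finset α)) =
            (b : Finset α) ∩ c := by ext x; simp
        rw [e]
        rcases h.inter_card (hmem b) (hmem c) hne' with h0 | h2
        · exact absurd (Finset.disjoint_iff_inter_eq_empty.mpr (Finset.card_eq_zero.mp h0)) huv
        · exact h2
      rw [h2, Lib.Steiner22.card_filter_subtype
        (fun x => Disjoint (b : Finset α) x ∧ Disjoint (c : Finset α) x),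
        h.mu_count (hmem b) (hmem c) hne' huv]

end Cfsg.Agent.S0428
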