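import Cfsg.Statements.S2761
import Cfsg.Agent.Lib.LAEven54.QdOver

set_option autoImplicit false
open Cfsg

namespace Cfsg.Agent.S2761

open Matrix Cfsg.Agent.Lib.LAEven54.QdOver

/-- The group Qd(2), the natural semidirect product of an elementary abelian group of order 4 by SL₂(2) (realised as the affine subgroup of SL₃(2)), is isomorphic to the symmetric group of degree 4. -/
theorem result : Nonempty (↥(Cfsg.qd 2) ≃* Equiv.Perm (Fin 4)) := by
  classical
  let act : ↥(Cfsg.qdOver (ZMod 2)) → (Fin 2 → ZMod 2) → (Fin 2 → ZMod 2) := fun M x =>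
    (exists_mk M).choose.1 *ᵥ x + (exists_mk M).choose_spec.choose
  have hact : ∀ A v x, act (mk A v) x = A.1 *ᵥ x + v := by
    intro A v x
    obtain ⟨h1, h2⟩ := mk_inj (exists_mk (mk A v)).choose_spec.choose_spec
    show (exists_mk (mk A v)).choose.1 *ᵥ x + (exists_mk (mk A v)).choose_spec.choose = _
    rw [h2, h1]
  have hmul : ∀ M N x, act (M * N) x = act M (act N x) := by
    intro M N x
    obtain ⟨A, v, rfl⟩ := exists_mk M
    obtain ⟨B, w, rfl⟩ := exists_mk N
    rw [mk_mul, hact, hact, hact, Matrix.mulVec_add, Matrix.mulVec_mulVec,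
      Matrix.SpecialLinearGroup.coe_mul, add_assoc]
  have hone : ∀ x, act 1 x = x := by
    intro x
    rw [one_eq, hact, Matrix.SpecialLinearGroup.coe_one, Matrix.one_mulVec, add_zero]
  let f : ↥(Cfsg.qdOver (ZMod 2)) →* Equiv.Perm (Fin 2 → ZMod 2) :=
    MonoidHom.mk' (fun M => ⟨act M, act M⁻¹,
      fun x => by rw [← hmul, inv_mul_cancel, hone],
      fun x => by rw [← hmul, mul_inv_cancel, hone]⟩) fun M N => Equiv.ext (hmul M N)
  have hinj : Function.Injective f := by
    intro M N h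
    obtain ⟨A, v, rfl⟩ := exists_mk M
    obtain ⟨B, w, rfl⟩ := exists_mk N
    have hx : ∀ x, A.1 *ᵥ x + v = B.1 *ᵥ x + w := fun x => by
      rw [← hact, ← hact]; exact congrArg (fun e : Equiv.Perm (Fin 2 → ZMod 2) => e x) h
    have hvw : v = w := by simpa using hx 0
    have hAB : A.1 = B.1 := Matrix.ext_of_mulVec_single fun i => by
      have := hx (Pi.single i 1); rwa [hvw, add_left_inj] at this
    rw [show A = B from Subtype.ext hAB, hvw]
  have hcard : Nat.card ↥(Cfsg.qdOver (ZMod 2)) = Nat.card (Equiv.Perm (Fin 2 → ZMod 2)) := by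
    have e : Matrix.SpecialLinearGroup (Fin 2) (ZMod 2) × (Fin 2 → ZMod 2) ≃ ↥(Cfsg.qdOver (ZMod 2)) :=
      Equiv.ofBijective (fun x => mk x.1 x.2) ⟨fun x y h => Prod.ext (mk_inj h).1 (mk_inj h).2,
        fun M => let ⟨A, v, h⟩ := exists_mk M; ⟨(A, v), h⟩⟩
    rw [← Nat.card_congr e, Nat.card_prod, Cfsg.Agent.Lib.Linear.card_SL_two, Nat.card_eq_fintype_card,
      Nat.card_perm, Nat.card_eq_fintype_card, Fintype.card_fun, ZMod.card, Fintype.card_fin]
    rfl
  have hbij : Function.Bijective f := (Nat.bijective_iff_injective_and_card f).2 ⟨hinj, hcard⟩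
  have e4 : (Fin 2 → ZMod 2) ≃ Fin 4 := Fintype.equivFinOfCardEq (by simp)
  exact ⟨(MulEquiv.ofBijective f hbij).trans e4.permCongrHom⟩

end Cfsg.Agent.S2761
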