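import Cfsg.Statements.S2247
import Cfsg.Agent.Lib.LieTwisted.SuzukiSylow

set_option autoImplicit false
open Cfsg

namespace Cfsg.Agent.S2247

open Cfsg.Agent Cfsg.Agent.Lib.LieTwisted.Suzuki
open scoped Matrix

/-- In the Suzuki group with q = 2^(2m+1), m ≥ 1 (realised as the stabiliser in SL₄ of the Suzuki–Tits ovoid), the normalizer of a Sylow 2-subgroup P is a maximal subgroup and is the only maximal subgroup containing P. -/
theorem result {F : Type*} [Field F] [Fintype F] {m : ℕ} (hm : 1 ≤ m) (hF : Fintype.card F = 2 ^ (2 * m + 1)) (P : Sylow 2 ↥(Cfsg.Sz F m)) :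
    IsCoatom (Subgroup.normalizer ((P : Subgroup ↥(Cfsg.Sz F m)) : Set ↥(Cfsg.Sz F m))) ∧
    ∀ M : Subgroup ↥(Cfsg.Sz F m), IsCoatom M → (P : Subgroup ↥(Cfsg.Sz F m)) ≤ M → M = Subgroup.normalizer ((P : Subgroup ↥(Cfsg.Sz F m)) : Set ↥(Cfsg.Sz F m)) := by
  have h : Lib.LieTwisted.Suzuki.IsSzField F m := ⟨hF⟩
  obtain ⟨g, hg⟩ := h.conj_sylow hm P
  set c := MulAut.conj g
  set B := Subgroup.normalizer (unip h : Set (Cfsg.Sz F m)) with hB
  have hPN : Subgroup.normalizer ((P : Subgroup (Cfsg.Sz F m)) : Set (Cfsg.Sz F m)) = B.map c.toMonoidHom := by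
    rw [hg]; exact (Subgroup.map_equiv_normalizer_eq _ c).symm
  have hne : B ≠ ⊤ := fun ht => by
    have : wS h ∈ B := ht ▸ Subgroup.mem_top _
    rw [hB, h.normalizer_unip hm, ← opt_none (m := m), MulAction.mem_stabilizer_iff, h.wS_smul_none] at this
    exact absurd (opt_injective this) (by simp)
  have hle : ∀ M : Subgroup (Cfsg.Sz F m), unip h ≤ M → M ≠ ⊤ → M ≤ B := by
    intro M hM hMt x hx
    rw [hB, h.normalizer_unip hm, ← opt_none (m := m), MulAction.mem_stabilizer_iff]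
    by_contra hxn
    exact hMt (h.eq_top_of_unip_le hm hM hx hxn)
  have hco : IsCoatom B := ⟨hne, fun M hM => by
    by_contra hMt
    exact (not_le_of_gt hM) (hle M (Subgroup.le_normalizer.trans hM.le) hMt)⟩
  rw [hPN]
  refine ⟨(OrderIso.isCoatom_iff c.mapSubgroup B).2 hco, fun M hM hPM => ?_⟩
  have hcomap : unip h ≤ M.comap c.toMonoidHom := by
    rw [← Subgroup.map_le_iff_le_comap]
    rw [hg] at hPM
    exact hPM
  have hMt : M.comap c.toMonoidHom ≠ ⊤ := fun ht => hM.1 (by
    rw [← Subgroup.map_comap_eq_self_of_surjective (f := c.toMonoidHom) c.surjective M, ht,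
      Subgroup.map_top_of_surjective (f := c.toMonoidHom) c.surjective])
  have hsub : M ≤ B.map c.toMonoidHom := by
    rw [← Subgroup.map_comap_eq_self_of_surjective (f := c.toMonoidHom) c.surjective M]
    exact Subgroup.map_mono (hle _ hcomap hMt)
  exact (eq_of_le_of_not_lt hsub fun hlt => ((OrderIso.isCoatom_iff c.mapSubgroup B).2 hco).1 (hM.2 _ hlt))

end Cfsg.Agent.S2247
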