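import Cfsg.Statements.S5964
import Cfsg.Agent.Lib.Elusive.Linear
import Cfsg.Agent.Lib.Elusive.MonomialBasis
import Cfsg.Agent.Lib.Linear.Order
-- import your own Cfsg.Agent.* helpers here

set_option autoImplicit false
open scoped MatrixGroups
open Cfsg

namespace Cfsg.Agent.S5964

variable {F : Type*} [Field F] {n : ℕ} {F₀ : Subfield F}

theorem mem_sub_iff (y : Matrix.SpecialLinearGroup (Fin n) F) :
    y ∈ ((Cfsg.Geo.subfieldSubgroup F₀ 1).comap (Matrix.SpecialLinearGroup.toGL :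
      Matrix.SpecialLinearGroup (Fin n) F →* GL (Fin n) F)) ↔
    ∃ (μ : Fˣ) (g : GL (Fin n) F₀),
      (y : Matrix (Fin n) (Fin n) F) = (μ : F) • ((g : Matrix (Fin n) (Fin n) F₀).map F₀.subtype) := by
  have hconj : (MulAut.conj (1 : GL (Fin n) F)).toMonoidHom = MonoidHom.id _ := by
    ext g; simp
  rw [Subgroup.mem_comap, Cfsg.Geo.subfieldSubgroup, hconj, Subgroup.map_id]
  have : (Cfsg.Geo.scalars (Fin n) F).Normal := ⟨fun a ha g => by
    obtain ⟨c, hc⟩ := (Cfsg.Geo.mem_scalars_iff a).mp ha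
    rw [show g * a * g⁻¹ = a from Units.ext (by simp [hc])]
    exact ha⟩
  rw [Subgroup.mem_sup_of_normal_right]
  constructor
  · rintro ⟨a, ⟨g, rfl⟩, b, hb, hab⟩
    obtain ⟨c, hc⟩ := (Cfsg.Geo.mem_scalars_iff b).mp hb
    refine ⟨c, g, ?_⟩
    have := congrArg (fun u : GL (Fin n) F => (u : Matrix (Fin n) (Fin n) F)) hab
    simp only [Units.val_mul, hc, Matrix.mul_smul, Matrix.mul_one] at this
    exact this.symm
  · rintro ⟨c, g, hy⟩
    refine ⟨_, ⟨g, rfl⟩, Units.map (Matrix.scalar (Fin n) : F →+* Matrix (Fin n) (Fin n) F).toMonoidHom c,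
      ⟨c, rfl⟩, Units.ext ?_⟩
    show _ * Matrix.scalar (Fin n) (c : F) = (y : Matrix (Fin n) (Fin n) F)
    rw [hy, Matrix.scalar_apply, ← Matrix.smul_one_eq_diagonal, Matrix.mul_smul, Matrix.mul_one]
    rfl

theorem exists_conj (x : Matrix.SpecialLinearGroup (Fin n) F) (P : Matrix (Fin n) (Fin n) F)
    (hP : P.det = 1) (μ : F) (hμ : μ ≠ 0) (G : Matrix (Fin n) (Fin n) F₀)
    (h : (x : Matrix (Fin n) (Fin n) F) * P = P * (μ • G.map F₀.subtype)) :
    ∃ P : Matrix.SpecialLinearGroup (Fin n) F, P⁻¹ * x * P ∈ ((Cfsg.Geo.subfieldSubgroup F₀ 1).comap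
      (Matrix.SpecialLinearGroup.toGL : Matrix.SpecialLinearGroup (Fin n) F →* GL (Fin n) F)) := by
  refine ⟨⟨P, hP⟩, ?_⟩
  set P' : Matrix.SpecialLinearGroup (Fin n) F := ⟨P, hP⟩
  have hy : ((P'⁻¹ * x * P' : Matrix.SpecialLinearGroup (Fin n) F) : Matrix (Fin n) (Fin n) F) =
      μ • G.map F₀.subtype := by
    have hP' : (P' : Matrix (Fin n) (Fin n) F) = P := rfl
    rw [mul_assoc, Matrix.SpecialLinearGroup.coe_mul, Matrix.SpecialLinearGroup.coe_mul, hP', h,
      ← mul_assoc, ← hP', ← Matrix.SpecialLinearGroup.coe_mul, inv_mul_cancel,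
      Matrix.SpecialLinearGroup.coe_one, one_mul]
  have hdet : IsUnit G.det := by
    refine isUnit_iff_ne_zero.mpr fun h0 => ?_
    have h1 := congrArg Matrix.det hy
    rw [Matrix.det_smul, ← RingHom.mapMatrix_apply, ← RingHom.map_det, h0, map_zero, mul_zero,
      (P'⁻¹ * x * P').2] at h1
    exact one_ne_zero h1
  exact (mem_sub_iff _).mpr ⟨Units.mk0 μ hμ, ((Matrix.isUnit_iff_isUnit_det G).mpr hdet).unit, hy⟩

theorem exists_conj_of_basis (x : Matrix.SpecialLinearGroup (Fin n) F)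
    (b : Module.Basis (Fin n) F (Fin n → F)) (π : Equiv.Perm (Fin n)) (ε : Fin n → F₀) (μ : F) (hμ : μ ≠ 0)
    (h : ∀ j, Matrix.toLin' (x : Matrix (Fin n) (Fin n) F) (b j) = (μ * (ε j : F)) • b (π j))
    (w : F → Fin n → F) (hw : ∀ c, ∀ j, w c (π j) = w c j) (hw' : ∀ d : F, d ≠ 0 → ∃ c, ∏ j, w c j = d) :
    ∃ P : Matrix.SpecialLinearGroup (Fin n) F, P⁻¹ * x * P ∈ ((Cfsg.Geo.subfieldSubgroup F₀ 1).comap
      (Matrix.SpecialLinearGroup.toGL : Matrix.SpecialLinearGroup (Fin n) F →* GL (Fin n) F)) := by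
  classical
  let Q : Matrix (Fin n) (Fin n) F := Matrix.of fun i j => b j i
  have hQ : IsUnit Q.det := by
    have := b.isUnit_det (Pi.basisFun F (Fin n))
    have h2 := (Pi.basisFun F (Fin n)).isUnit_det b
    rwa [Module.Basis.det_apply, show (Pi.basisFun F (Fin n)).toMatrix b = Q from by
      ext i j; simp [Module.Basis.toMatrix_apply, Q]] at h2
  obtain ⟨c, hc⟩ := hw' Q.det⁻¹ (inv_ne_zero hQ.ne_zero)
  refine exists_conj x (Matrix.of fun i j => w c j * Q i j) ?_ μ hμ
    (Matrix.of fun i j => if i = π j then ε j else 0) ?_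
  · rw [Matrix.det_mul_row, hc, inv_mul_cancel₀ hQ.ne_zero]
  · ext i j
    have h1 := congrFun (h j) i
    rw [Matrix.toLin'_apply, Pi.smul_apply, smul_eq_mul] at h1
    simp only [Matrix.mulVec, dotProduct] at h1
    rw [Matrix.mul_apply, Matrix.mul_apply]
    simp only [Matrix.smul_apply, Matrix.map_apply, Matrix.of_apply, smul_eq_mul, Q,
      apply_ite F₀.subtype, map_zero, mul_ite, mul_zero, Finset.sum_ite_eq', Finset.mem_univ, if_true, hw]
    calc ∑ k, (x : Matrix (Fin n) (Fin n) F) i k * (w c j * b j k)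
        = w c j * ∑ k, (x : Matrix (Fin n) (Fin n) F) i k * b j k := by
          rw [Finset.mul_sum]; exact Finset.sum_congr rfl fun k _ => by ring
      _ = _ := by rw [h1]; simp; ring

variable [Fintype F]

theorem exists_conj_split_odd (hn : 0 < n) (h2 : (2 : F) ≠ 0) (x : Matrix.SpecialLinearGroup (Fin n) F)
    {μ : F} (hμ : μ ≠ 0) (hx : Matrix.toLin' (x : Matrix (Fin n) (Fin n) F) *
      Matrix.toLin' (x : Matrix (Fin n) (Fin n) F) = (μ * μ) • 1) :
    ∃ P : Matrix.SpecialLinearGroup (Fin n) F, P⁻¹ * x * P ∈ ((Cfsg.Geo.subfieldSubgroup F₀ 1).comap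
      (Matrix.SpecialLinearGroup.toGL : Matrix.SpecialLinearGroup (Fin n) F →* GL (Fin n) F)) := by
  classical
  set f : Module.End F (Fin n → F) := Matrix.toLin' (x : Matrix (Fin n) (Fin n) F) with hf
  have hff : ∀ v, f (f v) = (μ * μ) • v := fun v => LinearMap.congr_fun hx v
  set P := Module.End.eigenspace f μ
  set M := Module.End.eigenspace f (-μ)
  have hPM : IsCompl P M := by
    constructor
    · rw [Submodule.disjoint_def]
      intro v h1 h3
      have h4 : μ • v = (-μ) • v :=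
        (Module.End.mem_eigenspace_iff.mp h1).symm.trans (Module.End.mem_eigenspace_iff.mp h3)
      have h5 : ((2 : F) * μ) • v = 0 := by
        rw [two_mul, add_smul]; rw [neg_smul] at h4
        exact add_eq_zero_iff_eq_neg.mpr h4
      exact (smul_eq_zero.mp h5).resolve_left (mul_ne_zero h2 hμ)
    · rw [codisjoint_iff, eq_top_iff]
      intro v _
      have hp : f v + μ • v ∈ P := Module.End.mem_eigenspace_iff.mpr (by
        rw [map_add, map_smul, hff, smul_add, smul_smul, add_comm])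
      have hm : f v - μ • v ∈ M := Module.End.mem_eigenspace_iff.mpr (by
        rw [map_sub, map_smul, hff, smul_sub, smul_smul, neg_mul, neg_smul, neg_smul]; abel)
      have h5 : v = (2 * μ)⁻¹ • ((f v + μ • v) - (f v - μ • v)) := by
        rw [show (f v + μ • v) - (f v - μ • v) = (2 * μ) • v by rw [two_mul, add_smul]; abel,
          inv_smul_smul₀ (mul_ne_zero h2 hμ)]
      rw [h5]
      exact Submodule.smul_mem _ _ (sub_mem (Submodule.mem_sup_left hp) (Submodule.mem_sup_right hm))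
  let b₀ := ((Module.finBasis F P).prod (Module.finBasis F M)).map (Submodule.prodEquivOfIsCompl P M hPM)
  have hcard : Fintype.card (Fin (Module.finrank F P) ⊕ Fin (Module.finrank F M)) = n := by
    rw [← Module.finrank_eq_card_basis b₀, Module.finrank_fin_fun]
  let b := b₀.reindex (Fintype.equivFinOfCardEq hcard)
  refine exists_conj_of_basis x b 1
    (fun j => Sum.elim (fun _ => 1) (fun _ => -1) ((Fintype.equivFinOfCardEq hcard).symm j)) μ hμ ?_
    (fun c j => if j = ⟨0, hn⟩ then c else 1) (fun _ _ => rfl) (fun d _ => ⟨d, by simp⟩)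
  intro j
  obtain ⟨i, rfl⟩ := (Fintype.equivFinOfCardEq hcard).surjective j
  rcases i with i | i
  · simpa [b, b₀, f] using Module.End.mem_eigenspace_iff.mp ((Module.finBasis F P) i).2
  · simpa [b, b₀, f] using Module.End.mem_eigenspace_iff.mp ((Module.finBasis F M) i).2

theorem exists_conj_two (hn : 0 < n) [CharP F 2] (x : Matrix.SpecialLinearGroup (Fin n) F)
    {μ : F} (hμ : μ ≠ 0) (hx : Matrix.toLin' (x : Matrix (Fin n) (Fin n) F) *
      Matrix.toLin' (x : Matrix (Fin n) (Fin n) F) = (μ * μ) • 1) :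
    ∃ P : Matrix.SpecialLinearGroup (Fin n) F, P⁻¹ * x * P ∈ ((Cfsg.Geo.subfieldSubgroup F₀ 1).comap
      (Matrix.SpecialLinearGroup.toGL : Matrix.SpecialLinearGroup (Fin n) F →* GL (Fin n) F)) := by
  classical
  set f : Module.End F (Fin n → F) := Matrix.toLin' (x : Matrix (Fin n) (Fin n) F) with hf
  have hff : ∀ v, f (f v) = (μ * μ) • v := fun v => LinearMap.congr_fun hx v
  have h2 : (2 : F) = 0 := CharTwo.two_eq_zero
  have hN : (f - μ • 1) * (f - μ • 1) = 0 := LinearMap.ext fun v => by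
    have h3 : ∀ u : Fin n → F, u + u = 0 := fun u => by rw [← two_smul F u, h2, zero_smul]
    simp only [Module.End.mul_apply, LinearMap.sub_apply, LinearMap.smul_apply,
      Module.End.one_apply, LinearMap.zero_apply, map_sub, map_smul, smul_sub, hff, smul_smul]
    have h4 := h3 ((μ * μ) • v - μ • f v)
    linear_combination (norm := abel) h4
  obtain ⟨ι, b₀, π₀, hπ₀, hfb₀⟩ := Lib.Elusive.MonomialBasis.exists_of_sub_sq hμ hN hff
  haveI : Fintype ι := FiniteDimensional.fintypeBasisIndex b₀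
  have hcard : Fintype.card ι = n := by rw [← Module.finrank_eq_card_basis b₀, Module.finrank_fin_fun]
  let e := Fintype.equivFinOfCardEq hcard
  let π : Equiv.Perm (Fin n) := e.permCongr π₀
  have hπ : ∀ j, π (π j) = j := fun j => by
    simp [π, show ∀ i, π₀ (π₀ i) = i from Equiv.ext_iff.mp hπ₀]
  have hfb : ∀ j, ∃ c : F, c ≠ 0 ∧ f ((b₀.reindex e) j) = c • (b₀.reindex e) (π j) := fun j => by
    simpa [π] using hfb₀ (e.symm j)
  choose c hc0 hc using hfb
  -- scale the second vector of each pair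
  let u : Fin n → Fˣ := fun j => if π j < j then Units.mk0 (c (π j) / μ) (div_ne_zero (hc0 _) hμ) else 1
  let b := (b₀.reindex e).unitsSMul u
  have hfix : ∀ j, π j = j → c j = μ := fun j hj => by
    have h5 := hff ((b₀.reindex e) j)
    rw [hc, map_smul, hj, hc, hj, smul_smul] at h5
    have h6 := smul_left_injective F ((b₀.reindex e).ne_zero j) h5
    have h7 : (c j - μ) * (c j - μ) = 0 := by linear_combination h6 + (μ * μ - c j * μ) * h2
    exact eq_of_sub_eq_zero (mul_self_eq_zero.mp h7)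
  have hpair : ∀ j, c j * c (π j) = μ * μ := fun j => by
    have h5 := hff ((b₀.reindex e) j)
    rw [hc, map_smul, hc, hπ, smul_smul] at h5
    exact smul_left_injective F ((b₀.reindex e).ne_zero j) h5
  have hone : ∀ j, f (b j) = (μ * ((1 : F₀) : F)) • b (π j) := fun j => by
    simp only [b, Module.Basis.unitsSMul_apply, Units.smul_def, map_smul, hc, smul_smul, OneMemClass.coe_one, mul_one]
    congr 1
    simp only [u, hπ]
    rcases lt_trichotomy (π j) j with h | h | h
    · rw [if_pos h, if_neg h.not_gt, Units.val_mk0, Units.val_one, mul_one, mul_comm]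
      field_simp
      linear_combination hpair j
    · simp [h, hfix j h]
    · rw [if_neg h.not_gt, if_pos h, Units.val_mk0, Units.val_one, one_mul]
      field_simp
  -- rescale one orbit to repair the determinant
  set i₀ : Fin n := ⟨0, hn⟩
  refine exists_conj_of_basis x b π (fun _ => 1) μ hμ hone
    (fun d j => if j ∈ ({i₀, π i₀} : Finset (Fin n)) then d else 1) ?_ ?_
  · intro d j
    have hiff : π j ∈ ({i₀, π i₀} : Finset (Fin n)) ↔ j ∈ ({i₀, π i₀} : Finset (Fin n)) := by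
      simp only [Finset.mem_insert, Finset.mem_singleton]
      constructor <;> rintro (h | h)
      · exact Or.inr (by rw [← h, hπ])
      · exact Or.inl (π.injective h)
      · exact Or.inr (by rw [h])
      · exact Or.inl (by rw [h, hπ])
    simp only [hiff]
  · intro d _
    simp only [Finset.prod_ite_mem, Finset.univ_inter, Finset.prod_const]
    by_cases h : π i₀ = i₀
    · exact ⟨d, by simp [h]⟩
    · obtain ⟨r, hr⟩ := FiniteField.isSquare_of_char_two (ringChar.eq F 2) d
      exact ⟨r, by rw [Finset.card_pair (Ne.symm h), hr, pow_two]⟩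

/-- Elements of the subfield are squares when the degree is two. -/
theorem isSquare_of_mem (h2 : ringChar F ≠ 2) {q₀ : ℕ} (hF₀ : Nat.card F₀ = q₀)
    (hq : Fintype.card F = q₀ ^ 2) {c : F} (hc : c ∈ F₀) (hc0 : c ≠ 0) : IsSquare c := by
  rw [FiniteField.isSquare_iff h2 hc0]
  have : Fintype F₀ := Fintype.ofFinite _
  have h1 : c ^ (q₀ - 1) = 1 := by
    have := FiniteField.pow_card_sub_one_eq_one (⟨c, hc⟩ : F₀) (fun h => hc0 (congrArg Subtype.val h))
    rw [← Nat.card_eq_fintype_card, hF₀] at this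
    exact congrArg Subtype.val this
  have hodd := FiniteField.odd_card_of_char_ne_two h2
  rw [hq] at hodd
  have hq₀ : q₀ % 2 = 1 := by
    rcases Nat.mod_two_eq_zero_or_one q₀ with h | h
    · rw [Nat.pow_mod, h] at hodd; simp at hodd
    · exact h
  obtain ⟨a, ha⟩ : ∃ a, q₀ = 2 * a + 1 := ⟨q₀ / 2, by omega⟩
  have hdiv : q₀ ^ 2 / 2 = (q₀ - 1) * (a + 1) := by
    rw [ha, Nat.add_sub_cancel, show (2 * a + 1) ^ 2 = 1 + 2 * (2 * a * (a + 1)) by ring,
      Nat.add_mul_div_left _ _ (by norm_num)]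
    simp
  rw [hq, hdiv, pow_mul, h1, one_pow]

/-- For odd degree the index is odd. -/
theorem not_two_dvd_index {q₀ k : ℕ} (hn : 0 < n) (hF₀ : Nat.card F₀ = q₀)
    (hq : Fintype.card F = q₀ ^ k) (hk : Odd k) (hodd : Odd q₀) :
    ¬ 2 ∣ ((Cfsg.Geo.subfieldSubgroup F₀ 1).comap (Matrix.SpecialLinearGroup.toGL :
      Matrix.SpecialLinearGroup (Fin n) F →* GL (Fin n) F)).index := by
  have : Fintype F₀ := Fintype.ofFinite _
  set ψ := Matrix.SpecialLinearGroup.map (n := Fin n) F₀.subtype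
  have hinj : Function.Injective ψ := fun a b h => by
    ext i j
    exact congrArg (fun y : Matrix.SpecialLinearGroup (Fin n) F => (y : Matrix (Fin n) (Fin n) F) i j) h
  have hle : ψ.range ≤ ((Cfsg.Geo.subfieldSubgroup F₀ 1).comap (Matrix.SpecialLinearGroup.toGL :
      Matrix.SpecialLinearGroup (Fin n) F →* GL (Fin n) F)) := by
    rintro _ ⟨g, rfl⟩
    exact (mem_sub_iff _).mpr ⟨1, Matrix.SpecialLinearGroup.toGL g, by rw [Units.val_one, one_smul]; rfl⟩
  intro h2
  have h3 := h2.trans (Subgroup.index_dvd_of_le hle)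
  have hcard := Subgroup.card_mul_index ψ.range
  rw [Nat.card_congr (MonoidHom.ofInjective hinj).toEquiv.symm] at hcard
  have hA := Lib.Linear.sub_one_mul_card_SL (F := F) n hn
  have hB := Lib.Linear.sub_one_mul_card_SL (F := F₀) n hn
  rw [← hcard, hq] at hA
  rw [← Nat.card_eq_fintype_card (α := F₀), hF₀] at hB
  have hfac : ∀ j, ∃ o, Odd o ∧ q₀ ^ (k * j) - 1 = (q₀ ^ j - 1) * o := by
    intro j
    refine ⟨∑ l ∈ Finset.range k, (q₀ ^ j) ^ l, ?_, ?_⟩
    · rw [Finset.odd_sum_iff_odd_card_odd, Finset.filter_true_of_mem fun l _ => (hodd.pow).pow, Finset.card_range]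
      exact hk
    · rw [mul_comm (q₀ ^ j - 1), mul_comm k, pow_mul]
      have := geom_sum_mul_of_one_le (Nat.one_le_pow j q₀ hodd.pos) k
      exact this.symm
  choose o ho ho' using hfac
  have hterm : ∀ i : Fin n, ∃ e, Odd e ∧ (q₀ ^ k) ^ n - (q₀ ^ k) ^ (i : ℕ) = (q₀ ^ n - q₀ ^ (i : ℕ)) * e := by
    intro i
    refine ⟨q₀ ^ ((k - 1) * i) * o (n - i), hodd.pow.mul (ho _), ?_⟩
    obtain ⟨m, hm⟩ : ∃ m, n = (i : ℕ) + m := ⟨n - i, by omega⟩
    rw [← pow_mul, ← pow_mul]
    obtain ⟨k', rfl⟩ : ∃ k', k = k' + 1 := ⟨k - 1, by have := hk.pos; omega⟩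
    rw [Nat.add_sub_cancel, show n - (i : ℕ) = m by omega]
    have key : ∀ N, N = (i : ℕ) + m → q₀ ^ ((k' + 1) * N) - q₀ ^ ((k' + 1) * i) =
        (q₀ ^ N - q₀ ^ (i : ℕ)) * (q₀ ^ (k' * i) * o m) := by
      rintro _ rfl
      rw [Nat.mul_add, pow_add, pow_add q₀ (i : ℕ), ← Nat.mul_sub_one, ← Nat.mul_sub_one, ho',
        Nat.succ_mul, pow_add]
      ring
    exact key n hm
  choose e he he' using hterm
  rw [Finset.prod_congr rfl (fun i _ => he' i), Finset.prod_mul_distrib, ← hB] at hA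
  have h4 := ho' 1
  rw [mul_one, pow_one] at h4
  rw [h4] at hA
  have hpos : 0 < (q₀ - 1) * Nat.card (Matrix.SpecialLinearGroup (Fin n) F₀) := by
    refine Nat.mul_pos ?_ Nat.card_pos
    rw [← hF₀, Nat.card_eq_fintype_card]
    exact Nat.sub_pos_of_lt Fintype.one_lt_card
  have h5 : o 1 * ψ.range.index = ∏ i, e i := Nat.eq_of_mul_eq_mul_left hpos (by rw [← hA]; ring)
  obtain ⟨l, hl⟩ := h3
  have h6 : Odd (∏ i, e i) := Finset.prod_induction e Odd (fun a b ha hb => ha.mul hb) odd_one fun i _ => he i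
  rw [← h5, hl, ← Nat.not_even_iff_odd] at h6
  exact h6 ⟨o 1 * l, by ring⟩

/-- Involutions of PSL_n(q) and subfield subgroups. Here `T = PSL_n(F)` for a field `F` with `q = p^f` elements (`n ≥ 2`, `(n, q) ≠ (2, 2), (2, 3)`), `F₀` is the subfield with `q₀` elements where `q = q₀^k` for a prime `k`, and `H` is the subgroup of matrices of determinant 1 lying in the subfield group of `F₀` (invertible matrices over `F₀` times scalars) — a maximal subgroup of type GL_n(q₀) (the case `n = 2`, `q₀ = 2` is excluded); Ω is the set of `T`-conjugates of `H` (cosets of `H`), so an element of `T` of prime order `r` (a matrix `x` of determinant 1 with `x^r` scalar, `x` not scalar) fixes a point of Ω when some conjugate of `x` by a matrix of determinant 1 lies in `H`. Suppose the index of `H` is even. Then every involution of `T` is conjugate in `T` into `H` if and only if either `q` is even, or `k = 2` and `(n)_2 ≤ (q − 1)_2`. (For `q` odd and `k` odd the index of `H`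 is odd, so that case does not arise.) -/
theorem result {F : Type*} [Field F] [Fintype F] {p : ℕ} [Fact p.Prime] [CharP F p] {q : ℕ} (hq : Fintype.card F = q)
    (n : ℕ) (hn : 2 ≤ n) (hT : (n, q) ≠ (2, 2) ∧ (n, q) ≠ (2, 3))
    (F₀ : Subfield F) (k q₀ : ℕ) (hk : k.Prime) (hF₀ : Nat.card ↥F₀ = q₀) (hqk : q = q₀ ^ k) (hC5 : ¬ (n = 2 ∧ q₀ = 2)) (hΩ : 2 ∣ ((Cfsg.Geo.subfieldSubgroup F₀ 1).comap (Matrix.SpecialLinearGroup.toGL : Matrix.SpecialLinearGroup (Fin n) F →* GL (Fin n) F)).index) :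
    (∀ x : Matrix.SpecialLinearGroup (Fin n) F,
      (∃ z : F, ((x ^ 2 : Matrix.SpecialLinearGroup (Fin n) F) : Matrix (Fin n) (Fin n) F) = z • (1 : Matrix (Fin n) (Fin n) F)) →
      (∀ z : F, (x : Matrix (Fin n) (Fin n) F) ≠ z • (1 : Matrix (Fin n) (Fin n) F)) →
      ∃ P : Matrix.SpecialLinearGroup (Fin n) F, P⁻¹ * x * P ∈ ((Cfsg.Geo.subfieldSubgroup F₀ 1).comap (Matrix.SpecialLinearGroup.toGL : Matrix.SpecialLinearGroup (Fin n) F →* GL (Fin n) F))) ↔
    (Odd q → (k = 2 ∧ padicValNat 2 n ≤ padicValNat 2 (q - 1))) := by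
  classical
  have hn0 : 0 < n := by omega
  have hr : Fact (Nat.Prime 2) := ⟨Nat.prime_two⟩
  have hsq : ∀ x : Matrix.SpecialLinearGroup (Fin n) F, ∀ z : F,
      ((x ^ 2 : Matrix.SpecialLinearGroup (Fin n) F) : Matrix (Fin n) (Fin n) F) = z • (1 : Matrix (Fin n) (Fin n) F) →
      z ≠ 0 ∧ Matrix.toLin' (x : Matrix (Fin n) (Fin n) F) * Matrix.toLin' (x : Matrix (Fin n) (Fin n) F) = z • 1 := by
    intro x z hz
    rw [Lib.Elusive.Linear.eq_smul_one_iff, Lib.Elusive.Linear.toLin_pow, pow_two] at hz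
    refine ⟨?_, hz⟩
    rintro rfl
    have h := congrArg LinearMap.det hz
    rw [map_mul, LinearMap.det_toLin', x.2, one_mul, LinearMap.det_smul, Module.finrank_fin_fun,
      zero_pow (by omega), zero_mul] at h
    exact one_ne_zero h
  rcases Nat.even_or_odd q with hev | hodd
  · -- characteristic two
    refine iff_of_true ?_ fun h => absurd hev (Nat.not_even_iff_odd.mpr h)
    have hc : ringChar F = 2 := by
      rw [FiniteField.even_card_iff_char_two, hq]
      exact Nat.even_iff.mp hev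
    haveI : CharP F 2 := ringChar.of_eq hc
    rintro x ⟨z, hz⟩ -
    obtain ⟨hz0, hxx⟩ := hsq x z hz
    obtain ⟨μ, rfl⟩ := FiniteField.isSquare_of_char_two hc z
    exact exists_conj_two hn0 x (fun h => hz0 (by simp [h])) hxx
  have hc : ringChar F ≠ 2 := fun h => by
    rw [FiniteField.even_card_iff_char_two, hq] at h
    exact Nat.not_even_iff_odd.mpr hodd (Nat.even_iff.mpr h)
  have h2 : (2 : F) ≠ 0 := Ring.two_ne_zero hc
  have hodd₀ : Odd q₀ := by
    rw [hqk, Nat.odd_pow_iff hk.ne_zero] at hodd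
    exact hodd
  rcases hk.eq_two_or_odd' with rfl | hkodd
  swap
  · exact absurd hΩ (not_two_dvd_index hn0 hF₀ (hq.trans hqk) hkodd hodd₀)
  have hdvd : 2 ∣ Fintype.card F - 1 := by
    rw [hq]; obtain ⟨a, ha⟩ := hodd; exact ⟨a, by omega⟩
  have hq4 : q % 4 = 1 := by
    obtain ⟨a, rfl⟩ := hodd₀
    rw [hqk, show (2 * a + 1) ^ 2 = 1 + 4 * (a * a + a) by ring, Nat.add_mul_mod_self_left]
  have hcond : (padicValNat 2 n ≤ padicValNat 2 (q - 1)) ↔ Lib.Elusive.Linear.Cond (Fintype.card F) n 2 := by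
    rw [hq, Lib.Elusive.Linear.Cond]
    exact ⟨fun h => ⟨h, fun _ _ => hq4⟩, fun h => h.1⟩
  simp only [hodd, true_and, forall_const, hcond]
  constructor
  · intro h
    by_contra hcon
    have hdn : 2 ∣ n := by
      by_contra hdn
      exact hcon (hcond.mp (by rw [padicValNat.eq_zero_of_not_dvd hdn]; exact Nat.zero_le _))
    obtain ⟨s, hs⟩ := hdn
    obtain ⟨z, hz, hzs⟩ := (Lib.Elusive.Linear.exists_nonsplit_scalar_iff (F := F) hdvd hs (by omega)).mpr hcon
    have hrank : Module.finrank F (Fin n → F) = n := Module.finrank_fin_fun F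
    obtain ⟨g, hg⟩ := Lib.Elusive.exists_nonsplit (V := Fin n → F) hz s (by rw [hrank, hs])
    obtain ⟨s', hs', hdet⟩ := Lib.Elusive.nonsplit_det hz hg
    rw [hrank] at hs'
    obtain ⟨x, hx⟩ := Lib.Elusive.Linear.exists_sl g (by rw [hdet, show s' = s by omega, hzs])
    haveI : Nonempty (Fin n) := Fin.pos_iff_nonempty.mp hn0
    have hzx : ((x ^ 2 : Matrix.SpecialLinearGroup (Fin n) F) : Matrix (Fin n) (Fin n) F) = z • 1 := by
      rw [Lib.Elusive.Linear.eq_smul_one_iff, Lib.Elusive.Linear.toLin_pow, hx, hg]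
    have i₀ : Fin n := ⟨0, hn0⟩
    obtain ⟨P, hP⟩ := h x ⟨z, hzx⟩ (fun c hc => by
      refine hz c ?_
      have h1 : ((x ^ 2 : Matrix.SpecialLinearGroup (Fin n) F) : Matrix (Fin n) (Fin n) F) i₀ i₀ = c ^ 2 := by
        rw [Matrix.SpecialLinearGroup.coe_pow, hc, _root_.smul_pow, one_pow]; simp
      rw [hzx] at h1
      simpa using h1.symm)
    obtain ⟨μ, G, hG⟩ := (mem_sub_iff _).mp hP
    have h1 : (((P⁻¹ * x * P) ^ 2 : Matrix.SpecialLinearGroup (Fin n) F) : Matrix (Fin n) (Fin n) F) = z • 1 := by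
      rw [show (P⁻¹ * x * P) ^ 2 = P⁻¹ * x ^ 2 * P by simp [pow_two, mul_assoc], Matrix.SpecialLinearGroup.coe_mul,
        Matrix.SpecialLinearGroup.coe_mul, hzx, Matrix.mul_smul, Matrix.mul_one, Matrix.smul_mul,
        ← Matrix.SpecialLinearGroup.coe_mul, inv_mul_cancel, Matrix.SpecialLinearGroup.coe_one]
    rw [Matrix.SpecialLinearGroup.coe_pow, hG, _root_.smul_pow, ← RingHom.mapMatrix_apply, ← map_pow,
      RingHom.mapMatrix_apply] at h1
    have h3 := congrFun (congrFun h1 i₀) i₀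
    simp only [Matrix.smul_apply, Matrix.map_apply, Matrix.one_apply_eq, smul_eq_mul, mul_one] at h3
    set c : F := F₀.subtype (((G : Matrix (Fin n) (Fin n) F₀) ^ 2) i₀ i₀) with hcdef
    have hz0 : z ≠ 0 := fun h0 => hz 0 (by simp [h0])
    obtain ⟨w, hw⟩ := isSquare_of_mem hc hF₀ (hq.trans hqk) (show c ∈ F₀ from SetLike.coe_mem _)
      (fun h0 => hz0 (by rw [← h3, h0, mul_zero]))
    exact hz ((μ : F) * w) (by rw [← h3, hw]; ring)
  · rintro h x ⟨z, hz⟩ -
    obtain ⟨hz0, hxx⟩ := hsq x z hz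
    by_cases hsquare : ∃ μ : F, μ * μ = z
    · obtain ⟨μ, rfl⟩ := hsquare
      exact exists_conj_split_odd hn0 h2 x (fun h => hz0 (by simp [h])) hxx
    exfalso
    have hns : ∀ c : F, c ^ 2 ≠ z := fun c hc' => hsquare ⟨c, by rw [← hc', pow_two]⟩
    obtain ⟨s, hs, hdet⟩ := Lib.Elusive.nonsplit_det hns (f := Matrix.toLin' (x : Matrix (Fin n) (Fin n) F))
      (by rw [pow_two, hxx])
    rw [Module.finrank_fin_fun] at hs
    rw [LinearMap.det_toLin', x.2] at hdet
    exact (Lib.Elusive.Linear.exists_nonsplit_scalar_iff (F := F) hdvd hs (by omega)).mp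
      ⟨z, hns, hdet.symm⟩ h

end Cfsg.Agent.S5964
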