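import Cfsg.Statements.S5892
import Cfsg.Agent.Lib.DicksonId.MaxPSLMain

set_option autoImplicit false
set_option linter.style.haveILetI false
open Cfsg Cfsg.Agent.Lib.DicksonId

namespace Cfsg.Agent.S5892

/-- Let F be a finite field of odd order q ≥ 5 and characteristic p, and let M be a maximal subgroup of PSL₂(F). Then one of the following holds: |M| = q(q − 1)/2 (the stabiliser of a point of the projective line); q ≥ 13 and M is dihedral of order q − 1; q ∉ {7, 9} and M is dihedral of order q + 1; q = q₀² and M ≅ PGL₂(F₀) with |F₀| = q₀; q = q₀^r for an odd prime r and M ≅ PSL₂(F₀) with |F₀| = q₀; q ≡ ±1 (mod 10) with q = p or q = p², p ≡ ±3 (mod 10), and M ≅ A₅; q = p ≡ ±3 (mod 8), q ≢ ±1 (mod 10), and M ≅ A₄; or q = p ≡ ±1 (mod 8) and M ≅ S₄. -/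
theorem result {F : Type*} [Field F] [Fintype F] (p : ℕ)
    [Fact p.Prime] [CharP F p] (hodd : Odd (Fintype.card F)) (h5 : 5 ≤ Fintype.card F)
    (M : Subgroup (Matrix.ProjectiveSpecialLinearGroup (Fin 2) F)) (hM : IsCoatom M) :
    2 * Nat.card M = Fintype.card F * (Fintype.card F - 1) ∨
    (13 ≤ Fintype.card F ∧ (∃ k : ℕ, 2 * k = Fintype.card F - 1 ∧ Nonempty (M ≃* DihedralGroup k))) ∨
    (Fintype.card F ≠ 7 ∧ Fintype.card F ≠ 9 ∧ (∃ k : ℕ, 2 * k = Fintype.card F + 1 ∧ Nonempty (M ≃* DihedralGroup k))) ∨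
    (∃ (F₀ : Type) (_ : Field F₀) (_ : Fintype F₀), Fintype.card F = Fintype.card F₀ ^ 2 ∧
        Nonempty (M ≃* Matrix.ProjGenLinGroup (Fin 2) F₀)) ∨
    (∃ (F₀ : Type) (_ : Field F₀) (_ : Fintype F₀) (r : ℕ), r.Prime ∧ Odd r ∧ Fintype.card F = Fintype.card F₀ ^ r ∧
        Nonempty (M ≃* Matrix.ProjectiveSpecialLinearGroup (Fin 2) F₀)) ∨
    ((Fintype.card F % 10 = 1 ∨ Fintype.card F % 10 = 9) ∧
        (Fintype.card F = p ∨ (Fintype.card F = p ^ 2 ∧ (p % 10 = 3 ∨ p % 10 = 7))) ∧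
        Nonempty (M ≃* alternatingGroup (Fin 5))) ∨
    (Fintype.card F = p ∧ (p % 8 = 3 ∨ p % 8 = 5) ∧ ¬ (p % 10 = 1 ∨ p % 10 = 9) ∧
        Nonempty (M ≃* alternatingGroup (Fin 4))) ∨
    (Fintype.card F = p ∧ (p % 8 = 1 ∨ p % 8 = 7) ∧ Nonempty (M ≃* Equiv.Perm (Fin 4))) := by
  have hp2 : p ≠ 2 := fun h => by
    subst h
    have := (FiniteField.even_card_iff_char_two (F := F)).mp (ringChar.eq F 2)
    rw [Nat.odd_iff] at hodd; omega
  have h4 : 4 ≤ Fintype.card F := by omega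
  have he : Nat.gcd 2 (Fintype.card F - 1) = 2 := by rw [gcd_two_eq (p := p), if_neg hp2]
  haveI := isSimple (F := F) h4
  rcases classify (p := p) M with ⟨hc, hp⟩ | ⟨k, hk, ⟨x, hxM, hx⟩, hd⟩ | ⟨P, hP⟩ | ⟨hn, he'⟩ | ⟨hn, he'⟩ |
      ⟨hn, he'⟩ | ⟨k, hk, h3, -, g, φ, hφ⟩
  · exact absurd hM (not_isCoatom_of_isCyclic (p := p) h4 hc hp)
  · rcases max_dihedral hp2 h5 hM hk hxM hx hd with ⟨h13, h⟩ | ⟨h7, h9, h⟩
    · exact Or.inr (Or.inl ⟨h13, k, h, hd⟩)
    · exact Or.inr (Or.inr (Or.inl ⟨h7, h9, k, h, hd⟩))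
  · have hne : Subgroup.normalizer ((P : Subgroup (Matrix.ProjectiveSpecialLinearGroup (Fin 2) F)) : Set (Matrix.ProjectiveSpecialLinearGroup (Fin 2) F)) ≠ ⊤ := by
      intro htop
      have hcard := card_normalizer_sylow (p := p) P
      rw [htop, Subgroup.card_top, card_PSL_mul (p := p)] at hcard
      have h5 := Nat.mul_lt_mul_of_pos_left
        (show Fintype.card F - 1 < (Fintype.card F - 1) * (Fintype.card F + 1) from
          lt_mul_of_one_lt_right (by omega) (by omega)) (show 0 < Fintype.card F by omega)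
      omega
    have heq : M = Subgroup.normalizer ((P : Subgroup (Matrix.ProjectiveSpecialLinearGroup (Fin 2) F)) : Set (Matrix.ProjectiveSpecialLinearGroup (Fin 2) F)) :=
      by_contra fun h => hne (hM.2 _ (lt_of_le_of_ne hP h))
    left
    rw [heq, ← card_normalizer_sylow (p := p) P, he]
  · obtain ⟨hq, h8, h10⟩ := max_alt_four hM he' hn
    exact Or.inr (Or.inr (Or.inr (Or.inr (Or.inr (Or.inr (Or.inl ⟨hq, h8, h10, he'⟩))))))
  · obtain ⟨hq, h8⟩ := max_perm_four hM he' hn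
    exact Or.inr (Or.inr (Or.inr (Or.inr (Or.inr (Or.inr (Or.inr ⟨hq, h8, he'⟩))))))
  · obtain ⟨h10, hq⟩ := max_alt_five hM he' hn
    exact Or.inr (Or.inr (Or.inr (Or.inr (Or.inr (Or.inl ⟨h10, hq, he'⟩)))))
  · letI : Fintype (GaloisField p k) := Fintype.ofFinite _
    have hcK : Fintype.card (GaloisField p k) = p ^ k := card_galois hk
    rcases hφ with hφ | ⟨-, hs, ψ, hψ, hφ⟩
    · obtain ⟨r, hr, hodd', hqr⟩ := max_pslExt hp2 hM hk h3 hφ
      refine Or.inr (Or.inr (Or.inr (Or.inr (Or.inl ⟨GaloisField p k, inferInstance, inferInstance,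
        r, hr, hodd', by rw [hcK, hqr, pow_mul], ?_⟩))))
      exact ⟨(conjGEquiv g M).trans ((MulEquiv.subgroupCongr hφ).trans
        (MonoidHom.ofInjective (Lib.DicksonFull.pslExt_injective φ)).symm)⟩
    · refine Or.inr (Or.inr (Or.inr (Or.inl ⟨GaloisField p k, inferInstance, inferInstance,
        by rw [hcK, max_pgl hp2 hM hk hs hψ hφ, ← pow_mul, mul_comm], ?_⟩)))
      exact ⟨(conjGEquiv g M).trans ((MulEquiv.subgroupCongr hφ).trans
        (MonoidHom.ofInjective hψ.injective).symm)⟩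

end Cfsg.Agent.S5892
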