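import Cfsg.Statements.S2034
import Cfsg.Agent.Lib.Golay.Simple
import Cfsg.Agent.Lib.Schur.Fusion
-- import your own Cfsg.Agent.* helpers here

set_option autoImplicit false
open Cfsg

namespace Cfsg.Agent.S2034

open scoped Pointwise
open Cfsg.Agent.Lib Cfsg.Agent.Lib.Golay Cfsg.Agent.Lib.Schur.Fusion

/-- `c` codes an element of M₁₁. -/
def inM11 (c : ℕ) : Bool :=
  inM24 c && Nat.beq (permMask c (qrMask 0)) (qrMask 0) && Nat.beq (Computation.getW 5 c 0) 0

theorem inM11_spec {c : ℕ} (h : inM11 c = true) : okCode c = true ∧ gperm c ∈ Spor.M11 := by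
  simp only [inM11, Bool.and_eq_true, Nat.beq_eq] at h
  have hok := okCode_of_inM24 h.1.1
  refine ⟨hok, ⟨gperm_mem_M24 h.1.1, ?_⟩, ?_⟩
  · show gperm c • Spor.squareDodecad = Spor.squareDodecad
    rw [squareDodecad_eq, smul_setOfMask hok, h.1.2]
  · show gperm c (some 0) = some 0
    apply idx_injective
    rw [idx_gperm hok]
    exact h.2

/-- The element of M₁₁ with code `c`. -/
noncomputable def el (c : ℕ) (h : inM11 c = true) : ↥Spor.M11 := ⟨gperm c, (inM11_spec h).2⟩

theorem el_eq {c d : ℕ} {hc : inM11 c = true} {hd : inM11 d = true} (h : c = d) : el c hc = el d hd := by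
  subst h; rfl

theorem el_mul {c d e : ℕ} {hc : inM11 c = true} {hd : inM11 d = true} {he : inM11 e = true}
    (h : Computation.mulP 24 5 c d = e) : el c hc * el d hd = el e he := by
  subst h
  exact Subtype.ext (gperm_mul (inM11_spec hc).1 (inM11_spec hd).1).symm

theorem el_ne {c d : ℕ} {hc : inM11 c = true} {hd : inM11 d = true} {i : ℕ} (hi : i < 24)
    (h : Computation.getW 5 c i ≠ Computation.getW 5 d i) : el c hc ≠ el d hd := fun he => by
  refine h ?_
  have hp : gperm c = gperm d := congrArg Subtype.val he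
  have hci := idx_gperm (inM11_spec hc).1 (pt i)
  rw [hp, idx_gperm (inM11_spec hd).1 (pt i), idx_pt hi] at hci
  exact hci.symm

/-- Iterated product of codes. -/
def powC (c n : ℕ) : ℕ := Nat.rec oneCode (fun _ acc => Computation.mulP 24 5 c acc) n

theorem el_pow {c : ℕ} (hc : inM11 c = true) (n : ℕ) : ((el c hc ^ n : ↥Spor.M11) : Equiv.Perm GolayPt) =
    gperm (powC c n) := by
  rw [SubgroupClass.coe_pow]; exact (powCode (inM11_spec hc).1 n).2.symm

theorem pow_eq_one {c : ℕ} (hc : inM11 c = true) {n : ℕ} (h : powC c n = oneCode) : el c hc ^ n = 1 :=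
  Subtype.ext (by rw [el_pow, h, gperm_oneCode]; rfl)

theorem pow_ne_one {c : ℕ} (hc : inM11 c = true) {n i : ℕ} (hi : i < 24)
    (h : Computation.getW 5 (powC c n) i ≠ i) : el c hc ^ n ≠ 1 := fun he => by
  refine h ?_
  have hp : gperm (powC c n) = 1 := by rw [← el_pow hc n, he]; rfl
  have : idx (gperm (powC c n) (pt i)) = Computation.getW 5 (powC c n) (idx (pt i)) :=
    idx_gperm (powCode (inM11_spec hc).1 n).1 (pt i)
  rw [hp, Equiv.Perm.one_apply, idx_pt hi] at this
  exact this.symm

def codeA : ℕ := 0x2d0eab11c95dd90abe469b62810c20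
def codeB : ℕ := 0x8da6fac2f2a390c59ccd524a410c20
def codeX : ℕ := 0x5de8e29a329d503b29a93c1ec20820
def codeY : ℕ := 0x5deb478d4c2ba49b1e068926868820
def codeN : ℕ := 0xbd9477b1d09c4925d4c8a24ad18440
def code5 : ℕ := 0xbaaa57c16d750d23c449b326820c20
def code11 : ℕ := 0x29eb75a5f27510d544309b2c620c40

theorem ok : ([codeA, codeB, codeX, codeY, codeN, code5, code11].all inM11) = true := by decide +kernel

noncomputable def A : ↥Spor.M11 := el codeA (List.all_eq_true.1 ok _ (by simp))
noncomputable def B : ↥Spor.M11 := el codeB (List.all_eq_true.1 ok _ (by simp))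
noncomputable def X : ↥Spor.M11 := el codeX (List.all_eq_true.1 ok _ (by simp))
noncomputable def Y : ↥Spor.M11 := el codeY (List.all_eq_true.1 ok _ (by simp))
noncomputable def N : ↥Spor.M11 := el codeN (List.all_eq_true.1 ok _ (by simp))

theorem B_sq : B ^ 2 = 1 := pow_eq_one _ (by decide +kernel)
theorem A_pow : A ^ 8 = 1 := pow_eq_one _ (by decide +kernel)
theorem A_ne : A ^ 4 ≠ 1 := pow_ne_one _ (i := 4) (by norm_num) (by decide +kernel)

theorem coe_pow_three : gperm (powC codeA 3) = ((A ^ 3 : ↥Spor.M11) : Equiv.Perm GolayPt) :=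
  (el_pow _ 3).symm

theorem B_conj : B * A * B⁻¹ = A ^ 3 := by
  have hB : B⁻¹ = B := by rw [inv_eq_iff_mul_eq_one, ← pow_two, B_sq]
  rw [hB]
  refine Subtype.ext ?_
  rw [← coe_pow_three, Subgroup.coe_mul, Subgroup.coe_mul]
  show gperm codeB * gperm codeA * gperm codeB = _
  have hb := (inM11_spec (List.all_eq_true.1 ok codeB (by simp))).1
  have ha := (inM11_spec (List.all_eq_true.1 ok codeA (by simp))).1
  rw [← gperm_mul hb ha, ← gperm_mul (okCode_mulP hb ha) hb]
  congr 1

/-- The images of the indices under a code. -/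
def imgs (c : ℕ) : List ℕ := (List.range 24).map (Computation.getW 5 c)

/-- A list of codes closed under composition is a subgroup of that order. -/
theorem exists_subgroup_of_codes {L : List ℕ} (hL : L.all inM11 = true) (h1 : L.contains oneCode = true)
    (hmul : (L.all fun c => L.all fun d => L.contains (Computation.mulP 24 5 c d)) = true)
    (hnd : (L.map imgs).Nodup) :
    ∃ P : Subgroup ↥Spor.M11, Nat.card P = L.length ∧
      ∀ g ∈ P, ∃ c ∈ L, (g : Equiv.Perm GolayPt) = gperm c := by
  haveI : Finite ↥Spor.M11 := Nat.finite_of_card_ne_zero (by rw [card_spor_M11]; norm_num)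
  have hok : ∀ c ∈ L, inM11 c = true := List.all_eq_true.1 hL
  have hclosed : ∀ c ∈ L, ∀ d ∈ L, Computation.mulP 24 5 c d ∈ L := fun c hc d hd =>
    List.contains_iff_mem.1 (List.all_eq_true.1 (List.all_eq_true.1 hmul c hc) d hd)
  have hS : (Submonoid.closure ({g : ↥Spor.M11 | ∃ c ∈ L, (g : Equiv.Perm GolayPt) = gperm c}) :
      Set ↥Spor.M11) ⊆ {g : ↥Spor.M11 | ∃ c ∈ L, (g : Equiv.Perm GolayPt) = gperm c} := by
    intro g hg
    induction hg using Submonoid.closure_induction with
    | mem x hx => exact hx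
    | one => exact ⟨oneCode, List.contains_iff_mem.1 h1, by rw [gperm_oneCode]; rfl⟩
    | mul x y _ _ hx hy =>
      obtain ⟨c, hc, hxc⟩ := hx
      obtain ⟨d, hd, hyd⟩ := hy
      exact ⟨_, hclosed c hc d hd, by
        rw [Subgroup.coe_mul, hxc, hyd, gperm_mul (inM11_spec (hok c hc)).1 (inM11_spec (hok d hd)).1]⟩
  refine ⟨Subgroup.closure {g : ↥Spor.M11 | ∃ c ∈ L, (g : Equiv.Perm GolayPt) = gperm c}, ?_, ?_⟩
  · have hmem : ∀ g : ↥Spor.M11,
        g ∈ Subgroup.closure {g : ↥Spor.M11 | ∃ c ∈ L, (g : Equiv.Perm GolayPt) = gperm c} ↔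
          ∃ c ∈ L, (g : Equiv.Perm GolayPt) = gperm c := by
      intro g
      refine ⟨fun hg => ?_, fun hg => Subgroup.subset_closure hg⟩
      rw [← Subgroup.mem_toSubmonoid, Subgroup.closure_toSubmonoid_of_finite] at hg
      exact hS hg
    have hbij : Function.Bijective (fun i : Fin L.length =>
        (⟨el L[i] (hok _ (List.getElem_mem i.2)),
          (hmem _).2 ⟨L[i], List.getElem_mem i.2, rfl⟩⟩ :
          ↥(Subgroup.closure {g : ↥Spor.M11 | ∃ c ∈ L, (g : Equiv.Perm GolayPt) = gperm c}))) := by
      constructor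
      · intro i j h
        have hv : gperm L[i] = gperm L[j] := congrArg (fun q => (Subtype.val (Subtype.val q))) h
        have he : (L.map imgs)[(i : ℕ)]'(by simp) = (L.map imgs)[(j : ℕ)]'(by simp) := by
          simp only [List.getElem_map]
          refine List.map_congr_left fun k hk => ?_
          have hk' : k < 24 := List.mem_range.1 hk
          have h1 := idx_gperm (inM11_spec (hok _ (List.getElem_mem i.2))).1 (pt k)
          have h2 := idx_gperm (inM11_spec (hok _ (List.getElem_mem j.2))).1 (pt k)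
          rw [idx_pt hk'] at h1 h2
          change idx (gperm L[i] (pt k)) = _ at h1
          change idx (gperm L[j] (pt k)) = _ at h2
          rw [hv, h2] at h1
          exact h1.symm
        exact Fin.ext ((List.Nodup.getElem_inj_iff hnd).1 he)
      · rintro ⟨g, hg⟩
        obtain ⟨c, hc, hgc⟩ := (hmem g).1 hg
        obtain ⟨i, hi, rfl⟩ := List.getElem_of_mem hc
        exact ⟨⟨i, hi⟩, Subtype.ext (Subtype.ext hgc.symm)⟩
    rw [← Nat.card_congr (Equiv.ofBijective _ hbij), Nat.card_fin]
  · intro g hg
    rw [← Subgroup.mem_toSubmonoid, Subgroup.closure_toSubmonoid_of_finite] at hg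
    exact hS hg

/-- Codes of the powers and products of two elements. -/
def grid (c d m n : ℕ) : List ℕ :=
  (List.range m).flatMap fun i => (List.range n).map fun j => Computation.mulP 24 5 (powC c i) (powC d j)

theorem mem_closure_of_grid {c d m n e : ℕ} (hc : inM11 c = true) (hd : inM11 d = true)
    (he : e ∈ grid c d m n) (g : ↥Spor.M11) (hg : (g : Equiv.Perm GolayPt) = gperm e) :
    g ∈ Subgroup.closure {el c hc, el d hd} := by
  simp only [grid, List.mem_flatMap, List.mem_map] at he
  obtain ⟨i, -, j, -, rfl⟩ := he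
  have : g = el c hc ^ i * el d hd ^ j := by
    refine Subtype.ext ?_
    rw [hg, Subgroup.coe_mul, el_pow, el_pow]
    exact gperm_mul (powCode (inM11_spec hc).1 i).1 (powCode (inM11_spec hd).1 j).1
  rw [this]
  exact mul_mem (pow_mem (Subgroup.subset_closure (by simp)) i)
    (pow_mem (Subgroup.subset_closure (by simp)) j)

theorem two_case : ∃ P : Subgroup ↥Spor.M11, ¬ 2 ∣ P.index ∧ KillsPart 2 P := by
  obtain ⟨P, hcard, hP⟩ := exists_subgroup_of_codes (L := grid codeA codeB 8 2)
    (by decide +kernel) (by decide +kernel) (by decide +kernel) (by decide +kernel)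
  refine ⟨P, fun hd => ?_, killsPart_of_semidihedral 2 _ A B ?_ A_pow A_ne B_sq B_conj⟩
  · have h := P.card_mul_index
    rw [hcard, card_spor_M11, show (grid codeA codeB 8 2).length = 16 from rfl] at h
    omega
  · intro g hg
    obtain ⟨e, he, hge⟩ := hP g hg
    exact mem_closure_of_grid _ _ he g hge

theorem conj_of_codes {n x y : ℕ} (hn : inM11 n = true) (hx : inM11 x = true) (hy : inM11 y = true)
    (h2 : powC n 2 = oneCode) (h : Computation.mulP 24 5 (Computation.mulP 24 5 n x) n = y) :
    el n hn * el x hx * (el n hn)⁻¹ = el y hy := by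
  have hinv : (el n hn)⁻¹ = el n hn := by
    rw [inv_eq_iff_mul_eq_one, ← pow_two]; exact pow_eq_one _ h2
  rw [hinv]
  refine Subtype.ext ?_
  have a := (inM11_spec hn).1
  have b := (inM11_spec hx).1
  show gperm n * gperm x * gperm n = gperm y
  rw [← gperm_mul a b, ← gperm_mul (okCode_mulP a b) a, h]

theorem three_case : ∃ P : Subgroup ↥Spor.M11, ¬ 3 ∣ P.index ∧ KillsPart 3 P := by
  obtain ⟨P, hcard, hP⟩ := exists_subgroup_of_codes (L := grid codeX codeY 3 3)
    (by decide +kernel) (by decide +kernel) (by decide +kernel) (by decide +kernel)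
  refine ⟨P, fun hd => ?_, killsPart_of_swap 3 _ X Y N (e := 3) (by decide) ?_ ?_ ?_ ?_ ?_⟩
  · have h := P.card_mul_index
    rw [hcard, card_spor_M11, show (grid codeX codeY 3 3).length = 9 from rfl] at h
    omega
  · intro g hg
    obtain ⟨e, he, hge⟩ := hP g hg
    exact mem_closure_of_grid _ _ he g hge
  · refine Subtype.ext ?_
    show gperm codeX * gperm codeY = gperm codeY * gperm codeX
    have a := (inM11_spec (List.all_eq_true.1 ok codeX (by simp))).1
    have b := (inM11_spec (List.all_eq_true.1 ok codeY (by simp))).1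
    rw [← gperm_mul a b, ← gperm_mul b a,
      show Computation.mulP 24 5 codeX codeY = Computation.mulP 24 5 codeY codeX from by decide +kernel]
  · exact pow_eq_one _ (by decide +kernel)
  · exact conj_of_codes _ _ _ (by decide +kernel) (by decide +kernel)
  · exact conj_of_codes _ _ _ (by decide +kernel) (by decide +kernel)

theorem cyclic_case {q : ℕ} [Fact q.Prime] (hfac : ¬ q ^ 2 ∣ 7920) {c : ℕ} (hc : inM11 c = true)
    (h1 : powC c q = oneCode) {i : ℕ} (hi : i < 24) (h2 : Computation.getW 5 (powC c 1) i ≠ i) :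
    ∃ P : Subgroup ↥Spor.M11, ¬ q ∣ P.index ∧ KillsPart q P := by
  refine ⟨Subgroup.zpowers (el c hc), fun hd => hfac ?_, killsPart_zpowers q _⟩
  have h := (Subgroup.zpowers (el c hc)).card_mul_index
  rw [Nat.card_zpowers, orderOf_eq_prime (pow_eq_one hc h1)
    (by simpa using pow_ne_one hc hi h2), card_spor_M11] at h
  rw [← h, pow_two]
  exact Nat.mul_dvd_mul_left q hd

/-- The Schur multiplier of the Mathieu group M₁₁ (the stabiliser of a dodecad and one of its points in the automorphism group of the length-24 binary code) is trivial; here the Schur multiplier is described through stem extensions, as in the definitions: surjective homomorphisms onto the group from a finite group, whose kernel is central in that finite group and contained in that finite group's commutator subgroup. -/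
theorem result : Cfsg.HasCyclicSchurMultiplier ↥Cfsg.Spor.M11 1 := by
  haveI : Finite ↥Cfsg.Spor.M11 := Nat.finite_of_card_ne_zero (by rw [card_spor_M11]; norm_num)
  refine hasTrivialMultiplier fun p hp hd => ?_
  rw [card_spor_M11] at hd
  have hp' : p ∣ 2 ^ 4 * 3 ^ 2 * 5 * 11 := by norm_num; exact hd
  haveI := Fact.mk hp
  simp only [Nat.Prime.dvd_mul hp] at hp'
  rcases hp' with ((h | h) | h) | h
  · obtain rfl := (Nat.prime_dvd_prime_iff_eq hp Nat.prime_two).1 (hp.dvd_of_dvd_pow h)
    exact two_case
  · obtain rfl := (Nat.prime_dvd_prime_iff_eq hp Nat.prime_three).1 (hp.dvd_of_dvd_pow h)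
    exact three_case
  · obtain rfl := (Nat.prime_dvd_prime_iff_eq hp (by norm_num)).1 h
    exact cyclic_case (by norm_num) (c := code5) (List.all_eq_true.1 ok _ (by simp))
      (by decide +kernel) (i := 2) (by norm_num) (by decide +kernel)
  · obtain rfl := (Nat.prime_dvd_prime_iff_eq hp (by norm_num)).1 h
    exact cyclic_case (by norm_num) (c := code11) (List.all_eq_true.1 ok _ (by simp))
      (by decide +kernel) (i := 1) (by norm_num) (by decide +kernel)

end Cfsg.Agent.S2034
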