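import Cfsg.Statements.S2060
import Cfsg.Agent.S2034
import Cfsg.Agent.Lib.OutTrivial.Basic
-- import your own Cfsg.Agent.* helpers here

set_option autoImplicit false
open Cfsg

namespace Cfsg.Agent.S2060

open Cfsg.Agent.Lib Cfsg.Agent.Lib.Golay Cfsg.Agent.Lib.OutTrivial Cfsg.Agent.S2034

/-- An element of order 5. -/
def codeS : ℕ := 0xbaaa57c16d750d23c449b326820c20
/-- An involution that generates M₁₁ together with it. -/
def codeT : ℕ := 0x2be955ca26b39a49a9093c2ec18440
/-- An element squaring `codeS` by conjugation. -/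
def codeM : ℕ := 0xabaf63b5ec52e12a150399a2920820

/-- The involutions. -/
def invs : List ℕ := [0xbae957b6289ba44b1cd0524ac18820,
  0x5d9d49a2292d4ccb9e12535e320820,
  0xbadd4290ec7d510b292d88e7230820,
  0xb5dd4799509d4895c5833c8ad40820,
  0xbaeae9c1522d18db4464399e848820,
  0xb5eae2a62d7d20359e465226460820,
  0x5da952c9467b868bc48c3c26968820,
  0x5daae7b0e39d132ba9a8890a680820,
  0xb5e9598ce42b9a65a9098b1f090820,
  0x8da6fac2f2a390c59ccd524a410c20,
  0xbaa959ca28795a93d990591c610c20,
  0xb9eb47b6309964652c88b31c910c20,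
  0x8adf3a22edaba04b2932398ac10c20,
  0xbdaa57196d7ce0c89d0954a8219020,
  0xb5eb3a2170795a38a8d23a5c261020,
  0x51dee9a62cad0705de48b18a269020,
  0x3a9f42ca23ab98d5d926ba26281020,
  0x3aea59c23273c88b292cb8a8d19820,
  0x3daaf9c950a15045c46db89cc49820,
  0xbaa74aa5632b9ac8da44389e881820,
  0xbc66ea8ec97d18d52e08388a491820,
  0x3d8b47a5709b98d8aa42b92a61a020,
  0xbaab3a30e673db25d9228c0a322020,
  0x5aaaf74a24a4d2cbd9a238cb032020,
  0x8d8ae9b6e37d2493a98259aa482020,
  0x52cb4732247cd12b5c4d39ab01a420,
  0x55a74ac0f2795a45dc4888dcc32420,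
  0xbc6af2cacca38d03a8435b66442420,
  0xb9dcf99170a546c8a846b20b26a420,
  0xbc4b49a2c673d2259db2542a41b020,
  0x5c5f49cacda9602ba8c83a5c323020,
  0x55ab3a12292b9a23de03599f243020,
  0x3d9d3a0e307d4c252d24bb4a893020,
  0x3c69574ac97cc465aa04bb0a81b420,
  0xb5caf9b230a385252d0938ea433420,
  0xbd9e5998e4ab84352d288ca9063420,
  0x89eb470ee82cc4c5a890b19e993420,
  0x546a5792c29b8c95dd883b6921c020,
  0x8a9c59b6e27d64c5d9233928644020,
  0xb5e74a9a2273da83a86c5c8a44c020,
  0xbd9f474942acc833c509598ad64020,
  0x55a959896c73db08dc863a0a91c820,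
  0xb9cb3a09507b9285c5acb1aa324820,
  0x59e65a8a267b88cba868b428d4c820,
  0x8dab428ae873c6652d303b2646c820,
  0x2ceb4b36295ba4c79e06522e418440,
  0x2be955ca26b39a49a9093c2ec18440,
  0xbd9477b1d09c4925d4c8a24ad18440,
  0xbacea991c87c58db5130a98b218440,
  0x7cdd4b1a30bd50c2a92d3c96320440,
  0xbda2a2caad79e085d12c70e6430440,
  0xb5e279a6b07a9a65ba43a30a440440,
  0xbd8f19a2842a9ac5b872a99f048440,
  0x996aebc2325d1237a9a839ac460440,
  0x9beb4bc950b38692c5843996868440,
  0x5d9519ca8379cccbd488734a980440,
  0x796b458cecbb9b09a928892c690440,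
  0xbd6cb998a87b92ca1db054a2408860,
  0x75a953ca2c55db05bcc49a4a808860,
  0xbd1767a4b09b8c4aaa483b62c08860,
  0x72eb4536243de48b4d2c798b008860,
  0xbd6d174a897cd0c2aa0d3996209060,
  0x7daa55122db9e0c5cd2870a9209860,
  0x3d2369cab07b8862a922bb16d0a060,
  0x9d8b4ba2303a98d5b85279aa40a460,
  0xb962b9c2b273da2a29263a2c40b060,
  0x9c6b4bcac651c495bd88740a40b460,
  0x515719b2827b9b2adc8839ac90c060,
  0x7dab438970ba9ac8b909990a60c860,
  0xa3ab79a5e68d90c59e4d540a118880,
  0xb5d743b2307b9b2a94669a14148880,
  0x752b62c9e88dcc35a9303b66160880,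
  0xbd96e50e2d7d209acd88298e190880,
  0x7ba71a9a89bd9ac5aa083c8a110c80,
  0xbc5545cacc7b9309d5a8288e119880,
  0x8d8f4542f27b86c2cd22a99616a080,
  0x73eb19ca83b5da83a84c598a182480,
  0xa3cb79b5d0b46425a90939aa11b080,
  0xbd94f3ca30a384c2d4c39a56143480,
  0xbd8f45a22273da699532ab1411c080,
  0x7d2b6989d0bc58d52d2838ca134880,
  0xaaef49b1ed8ba12b152438548188c0,
  0xbd2b63c9507ad8d74509984a3208c0,
  0xbbaab3c2322d9aca2883985e9408c0,
  0xadaee9b4ac552505bc6838624488c0,
  0x7da33a12b0bb9a85952c3855210cc0,
  0x79d5498cb0bb92c5d5a8b0622910c0,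
  0x2da349caa9539a33be02586e4620c0,
  0x2d954749e88cc8c5d450386ed1a4c0,
  0x53aa75a6247d9a29de48a04b01b0c0,
  0x8ceabb22e379c4ca2932704a4834c0,
  0xbd1f65ca22a9c649a928704ac6c0c0,
  0xbcca7b0a307ad097298da06a41c8c0,
  0xa5ab7792309ad26715a13b15218900,
  0x5d6d43c9ed8ba0cba861990a648900,
  0xbd6ce8b2693d0725aa01798a468900,
  0x75aab998e37dda4a15218c94c80900,
  0xa1eb79a6307a88c2ba41b196d10d00,
  0x53cf48c272b39a95dd81a98a219100,
  0xbce34b36b03ba4352d21788a461900,
  0x2da6ba8e267a9aca38413c2e492500,
  0xbbe343cab0b15a25a88198dc933100,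
  0x759ea9ca2cadc502d1213996323500,
  0x2c6aa9cac27ad8d750c13a6e41c100,
  0xbcce5b09e48b8cc5a921ab6901c900,
  0xa2eb78a26c7b890b2832298ed18920,
  0xa59d73b4b07d64c5a82498e2830920,
  0xbb974990e6559a3abc288c0b260920,
  0xbd6d42ca2352d0673c2d3b26480920,
  0x9d9f1bca84ab98d5a828298f010d20,
  0x3bd549ca30b2cc87542cbb4a219120,
  0x2daa78b26873db25a830a0ae419920,
  0xbbd73a0e30b29a4ab822398ac92120,
  0x9daa7b98b07b86252c28a4a246b120,
  0xbb9459c2325d84c7d428392861b520,
  0x2aab13ca827b9ac5d8269a2e324120,
  0x8d6d498aed5aa0c7b823398a444920,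
  0xadaf48c2727acc171d09534a418980,
  0x759748a6682dda1aaa50399e320980,
  0x5d2b69ca2953881bbe0828ced30980,
  0xbd1d69a2303d461595327914668980,
  0x9da2fbcab0a2d21729a63a0a410d80,
  0xadae55b5c67c6419a9283c28219180,
  0x72a345caa47dda19d923388b041980,
  0xbbeaa74a2db4e015d082298e91a180,
  0xbbea799970b39a189444a49481a580,
  0x99d74b91d07c441aa868b18b24b580,
  0x896aa98ee23b9015d12d79ac494180,
  0xb9667a8a23539a15bcc8a26c484980,
  0xbda959c9e48ac29729862a0f0189a0,
  0xad2f6540f27b8265cd288b0a3209a0,
  0xa56d7512232b82c5cd09399f2809a0,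
  0xb5eb498cb03ac28728cc7a624909a0,
  0xbaab49c9e689c2c2d9247416810da0,
  0xbdab3a31d03c4322a92379962411a0,
  0xa4d57b21707b82c8d492388a9199a0,
  0xaceeab1a2c73c305d1223c8a41a1a0,
  0x9d156bca30794235d448391c6625a0,
  0x9d6cabca287b8223d070598a44b1a0,
  0xbda74aa4a259c2c7aa4870e24341a0,
  0x55ab4989c95c4247de08298ec1c9a0,
  0xabaf479a219d98d5a8882c8e918a00,
  0xb5eab8a261539a9a3d9238ca430a00,
  0x756d49c9417dd245c5a3298ec40a00,
  0xbd9cb50de18d48ca4d263a0ad90a00,
  0xa96f49b22179cd252d28736c410e00,
  0xbdab15ca81515a69bc683b1c249200,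
  0x2d6cf9ca21a1c6c5a90970ae469a00,
  0x2b8f4991617d9ac8a8c2aa6f21a200,
  0xb9eb1536815ba4c7cc48b18a322600,
  0x3daaa5c9e18b9029d12db90a61b200,
  0xbd8aa8a6615b8487d24c39aa41b600,
  0x714f3a0a217dda35a924a9ac864a00,
  0xbba95886697d9a85960c3914618a40,
  0xadaeb286263b98da29237c26440a40,
  0xa5977985503b903ac48d798a960a40,
  0x5bab4504a47d86cbccc83a63068a40,
  0xb96b48866c7a9b03b90959ac410e40,
  0x7a8eb98628bb9aca5930a8ca231240,
  0x7d96798630b95a9aa988a09c321a40,
  0xbceafb04b0a28cc5b8623b6244a240,
  0xac6e7986cd5ba067a848a30a41a640,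
  0xb95f4505c3ac4825cd2839acd83240,
  0x3ceb4b05d07c44459526ba14c1b640,
  0xa58f7706225cd2c7a9a4a98a81c240]

/-- The relations that determine the second generator. -/
def relWords : List (List Bool) := [[false, true, false, true, false, true, false, true, false, true, false, true, false, true, false, true], [false, false, false, true, false, true, false, false, true, false, false, false, true, false, true, false, false, true, false, false, false, true, false, true, false, false, true, false, false, false, true, false, true, false, false, true, false, false, false, true, false, true, false, false, true]]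

/-- The code of a word. -/
def wordC (a b : ℕ) : List Bool → ℕ
  | [] => oneCode
  | i :: is => Computation.mulP 24 5 (bif i then b else a) (wordC a b is)

theorem wordC_spec {a b : ℕ} (ha : inM11 a = true) (hb : inM11 b = true) :
    ∀ w, okCode (wordC a b w) = true ∧
      ((wordVal (el a ha) (el b hb) w : ↥Spor.M11) : Equiv.Perm GolayPt) = gperm (wordC a b w)
  | [] => ⟨okCode_oneCode, by rw [wordC, gperm_oneCode]; rfl⟩
  | i :: is => by
    obtain ⟨h1, h2⟩ := wordC_spec ha hb is
    cases i
    · refine ⟨okCode_mulP (inM11_spec ha).1 h1, ?_⟩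
      rw [wordVal, Subgroup.coe_mul, h2]
      exact (gperm_mul (inM11_spec ha).1 h1).symm
    · refine ⟨okCode_mulP (inM11_spec hb).1 h1, ?_⟩
      rw [wordVal, Subgroup.coe_mul, h2]
      exact (gperm_mul (inM11_spec hb).1 h1).symm

theorem ok_st : ([codeS, codeT, codeM].all inM11) = true := by decide +kernel

theorem ok_invs : invs.all inM11 = true := by decide +kernel

noncomputable def s : ↥Spor.M11 := el codeS (List.all_eq_true.1 ok_st _ (by simp))
noncomputable def t : ↥Spor.M11 := el codeT (List.all_eq_true.1 ok_st _ (by simp))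
noncomputable def m : ↥Spor.M11 := el codeM (List.all_eq_true.1 ok_st _ (by simp))

theorem ok_gens : (Cert.m11_gens.all inM11) = true := by decide +kernel

theorem gens_closure :
    Subgroup.closure {g : ↥Spor.M11 | ∃ c ∈ Cert.m11_gens, (g : Equiv.Perm GolayPt) = gperm c} = ⊤ := by
  apply Subgroup.map_injective Spor.M11.subtype_injective
  rw [MonoidHom.map_closure, ← MonoidHom.range_eq_map, Subgroup.range_subtype]
  have h := closure_eq_of_cert (K := Spor.M11) Cert.m11_check
    (fun c hc => (inM11_spec (List.all_eq_true.1 ok_gens c hc)).2)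
    (by rw [card_spor_M11, Cert.m11_order])
  conv_rhs => rw [h]
  congr 1
  ext x
  constructor
  · rintro ⟨g, ⟨c, hc, hgc⟩, rfl⟩
    exact ⟨c, hc, hgc.symm⟩
  · rintro ⟨c, hc, rfl⟩
    exact ⟨el c (List.all_eq_true.1 ok_gens c hc), ⟨c, hc, rfl⟩, rfl⟩

/-- The generators as words. -/
def genWords : List (List Bool) := [[false, false, false, true, false, false, false, true, false, true, false, false, false, true], [false, true, false, false, true, false, false, false, false, true, false, false, true, false]]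

theorem genWords_spec : Cert.m11_gens = genWords.map (wordC codeS codeT) := by decide +kernel

theorem closure_st : Subgroup.closure ({s, t} : Set ↥Spor.M11) = ⊤ := by
  rw [eq_top_iff, ← gens_closure, Subgroup.closure_le]
  rintro g ⟨c, hc, hgc⟩
  rw [genWords_spec, List.mem_map] at hc
  obtain ⟨w, -, rfl⟩ := hc
  have hg : g = wordVal s t w := Subtype.ext (hgc.trans (wordC_spec _ _ w).2.symm)
  rw [hg]
  clear hg hgc
  induction w with
  | nil => exact one_mem _
  | cons i w ih =>
    refine mul_mem ?_ ih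
    cases i <;> exact Subgroup.subset_closure (by simp)

/-- Closure of the involutions under conjugation by the generators. -/
def checkClosed : Bool :=
  Cert.m11_gens.all fun a => invs.all fun c =>
    let d := Computation.mulP 24 5 (Computation.mulP 24 5 a c)
      (powC a 10)
    invs.any (Nat.beq d)

theorem checkClosed_ok : checkClosed = true := by decide +kernel

theorem gens_pow : ∀ a ∈ Cert.m11_gens, powC a 11 = oneCode := by decide +kernel

/-- Elements of order two of the Sylow subgroup are listed. -/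
theorem grid_invs : ((grid codeA codeB 8 2).all fun c =>
    Nat.beq c oneCode || !Nat.beq (powC c 2) oneCode || invs.any (Nat.beq c)) = true := by decide +kernel

/-- Each involution is a conjugate of `t` under `⟨s⟩` or fails a relation. -/
def checkRigid : Bool :=
  invs.all fun c =>
    ((List.range 5).any fun i =>
      Nat.beq c (Computation.mulP 24 5 (Computation.mulP 24 5 (powC codeS i) codeT) (powC codeS (5 - i)))) ||
    relWords.any fun w => !Nat.beq (wordC codeS c w) oneCode

theorem checkRigid_ok : checkRigid = true := by decide +kernel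

theorem rel_ok : ∀ w ∈ relWords, wordC codeS codeT w = oneCode := by decide +kernel

theorem ne_one_of_code {g : ↥Spor.M11} {c : ℕ} (hc : okCode c = true)
    (hg : (g : Equiv.Perm GolayPt) = gperm c) (h : (List.range 24).any (fun i => !Nat.beq (Computation.getW 5 c i) i) = true) :
    g ≠ 1 := by
  intro he
  obtain ⟨i, hi, hne⟩ := List.any_eq_true.1 h
  have hi' : i < 24 := List.mem_range.1 hi
  have h1 := idx_gperm hc (pt i)
  rw [← hg, he, OneMemClass.coe_one, Equiv.Perm.one_apply, idx_pt hi'] at h1
  rw [← h1, Nat.beq_refl] at hne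
  exact Bool.false_ne_true hne

/-- The outer automorphism group of the Mathieu group M₁₁ (the stabiliser of a dodecad and one of its points in the automorphism group of the length-24 binary code) is trivial: every automorphism is inner. -/
theorem result : Nat.card (Cfsg.Out ↥Cfsg.Spor.M11) = 1 := by
  haveI : Finite ↥Cfsg.Spor.M11 := Nat.finite_of_card_ne_zero (by rw [card_spor_M11]; norm_num)
  haveI : Fact (Nat.Prime 5) := ⟨by norm_num⟩
  have hs5 : s ^ 5 = 1 := pow_eq_one _ (by decide +kernel)
  have hs1 : orderOf s = 5 := orderOf_eq_prime hs5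
    (ne_one_of_code (inM11_spec (List.all_eq_true.1 ok_st codeS (by simp))).1 rfl (by decide +kernel))
  have ht2 : orderOf t = 2 := orderOf_eq_prime (pow_eq_one _ (by decide +kernel))
    (ne_one_of_code (inM11_spec (List.all_eq_true.1 ok_st codeT (by simp))).1 rfl (by decide +kernel))
  have hm : m * s * m⁻¹ = s ^ 2 := by
    rw [mul_inv_eq_iff_eq_mul]
    refine Subtype.ext ?_
    rw [Subgroup.coe_mul, Subgroup.coe_mul, show s = el codeS (List.all_eq_true.1 ok_st _ (by simp)) from rfl,
      el_pow]
    have a := (inM11_spec (List.all_eq_true.1 ok_st codeM (by simp))).1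
    have b := (inM11_spec (List.all_eq_true.1 ok_st codeS (by simp))).1
    show gperm codeM * gperm codeS = gperm (powC codeS 2) * gperm codeM
    have b2 : okCode (powC codeS 2) = true := (powCode b 2).1
    rw [← gperm_mul a b, ← gperm_mul b2 a,
      show Computation.mulP 24 5 codeM codeS = Computation.mulP 24 5 (powC codeS 2) codeM from by decide +kernel]
  obtain ⟨P, hcard, hP⟩ := exists_subgroup_of_codes (L := grid codeA codeB 8 2)
    (by decide +kernel) (by decide +kernel) (by decide +kernel) (by decide +kernel)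
  have hidx : ¬ 2 ∣ P.index := fun hd => by
    have h := P.card_mul_index
    rw [hcard, card_spor_M11, show (grid codeA codeB 8 2).length = 16 from rfl] at h
    omega
  refine card_out_eq_one (n := m) (k := 2) closure_st hs1 (by rw [card_spor_M11]; norm_num) hm
    (by decide) ht2 P hidx _ gens_closure
    {g | ∃ c ∈ invs, (g : Equiv.Perm GolayPt) = gperm c} ?_ ?_ ?_
  · rintro a ⟨ca, hca, ha⟩ x ⟨cx, hcx, hx⟩
    obtain ⟨d, hd, hde⟩ := List.any_eq_true.1
      (List.all_eq_true.1 (List.all_eq_true.1 checkClosed_ok ca hca) cx hcx)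
    have hka := List.all_eq_true.1 ok_gens ca hca
    have hinv : a⁻¹ = el ca hka ^ 10 := by
      rw [inv_eq_iff_mul_eq_one, show a = el ca hka from Subtype.ext ha, ← pow_succ']
      exact pow_eq_one _ (gens_pow ca hca)
    refine ⟨d, hd, ?_⟩
    have oa := (inM11_spec hka).1
    have ox := (inM11_spec (List.all_eq_true.1 ok_invs cx hcx)).1
    rw [← Nat.eq_of_beq_eq_true hde, hinv, Subgroup.coe_mul, Subgroup.coe_mul, el_pow, ha, hx]
    have opow : okCode (powC ca 10) = true := (powCode oa 10).1
    rw [gperm_mul (okCode_mulP oa ox) opow, gperm_mul oa ox]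
  · intro x hx ho
    obtain ⟨c, hc, hxc⟩ := hP x hx
    have h := List.all_eq_true.1 grid_invs c hc
    simp only [Bool.or_eq_true, Bool.not_eq_true'] at h
    rcases h with (h | h) | h
    · have : x = 1 := Subtype.ext (by rw [hxc, Nat.eq_of_beq_eq_true h, gperm_oneCode]; rfl)
      rw [this, orderOf_one] at ho
      exact absurd ho (by norm_num)
    · exfalso
      have hok : inM11 c = true := by
        have : ((grid codeA codeB 8 2).all inM11) = true := by decide +kernel
        exact List.all_eq_true.1 this c hc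
      have h2 : el c hok ^ 2 = 1 := by
        rw [show el c hok = x from Subtype.ext hxc.symm, ← ho]; exact pow_orderOf_eq_one x
      have hall : ((grid codeA codeB 8 2).all fun c => Nat.beq (powC c 2) oneCode ||
          (List.range 24).any fun i => !Nat.beq (Computation.getW 5 (powC c 2) i) i) = true := by decide +kernel
      have := List.all_eq_true.1 hall c hc
      rw [h, Bool.false_or] at this
      exact ne_one_of_code (powCode (inM11_spec hok).1 2).1 (el_pow hok 2) this h2
    · obtain ⟨d, hd, hde⟩ := List.any_eq_true.1 h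
      exact ⟨d, hd, by rw [hxc, Nat.eq_of_beq_eq_true hde]⟩
  · rintro x ⟨c, hc, hxc⟩
    have hok := List.all_eq_true.1 ok_invs c hc
    obtain rfl : x = el c hok := Subtype.ext hxc
    have h := List.all_eq_true.1 checkRigid_ok c hc
    simp only [Bool.or_eq_true, List.any_eq_true, Bool.not_eq_true'] at h
    rcases h with ⟨i, hi, he⟩ | ⟨w, hw, he⟩
    · refine Or.inl ⟨s ^ i, by group, ?_⟩
      have hi5 : i < 5 := List.mem_range.1 hi
      have hinv : (s ^ i)⁻¹ = s ^ (5 - i) := by
        rw [inv_eq_iff_mul_eq_one, ← pow_add, show i + (5 - i) = 5 by omega, hs5]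
      refine Subtype.ext ?_
      have os := (inM11_spec (List.all_eq_true.1 ok_st codeS (by simp))).1
      have ot := (inM11_spec (List.all_eq_true.1 ok_st codeT (by simp))).1
      have o1 : okCode (powC codeS i) = true := (powCode os i).1
      have o2 : okCode (powC codeS (5 - i)) = true := (powCode os (5 - i)).1
      rw [hinv, Subgroup.coe_mul, Subgroup.coe_mul, show s = el codeS (List.all_eq_true.1 ok_st _ (by simp)) from rfl,
        el_pow, el_pow, hxc, Nat.eq_of_beq_eq_true he, gperm_mul (okCode_mulP o1 ot) o2, gperm_mul o1 ot]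
      rfl
    · refine Or.inr ⟨w, Subtype.ext ?_, ne_one_of_code (wordC_spec (List.all_eq_true.1 ok_st codeS (by simp)) hok w).1
        (wordC_spec (List.all_eq_true.1 ok_st codeS (by simp)) hok w).2 ?_⟩
      · rw [show s = el codeS (List.all_eq_true.1 ok_st _ (by simp)) from rfl, show t = el codeT (List.all_eq_true.1 ok_st _ (by simp)) from rfl, (wordC_spec _ _ w).2, rel_ok w hw, gperm_oneCode]; rfl
      · have hall : (invs.all fun c => relWords.all fun w => Nat.beq (wordC codeS c w) oneCode ||
            (List.range 24).any fun i => !Nat.beq (Computation.getW 5 (wordC codeS c w) i) i) = true := by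
          decide +kernel
        have := List.all_eq_true.1 (List.all_eq_true.1 hall c hc) w hw
        rwa [he, Bool.false_or] at this

end Cfsg.Agent.S2060
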