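import Cfsg.Statements.S1694
import Cfsg.Agent.Lib.CosetEnum.Simple
import Cfsg.Agent.Lib.CosetEnum.Suz1782.Enum
import Cfsg.Agent.Lib.CosetEnum.Suz1782.Orbits
import Cfsg.Agent.Lib.CosetEnum.SuzChain.L6
import Cfsg.Agent.Lib.CosetEnum.SuzSlp
import Cfsg.Agent.Lib.CosetEnum.SuzTriv

set_option autoImplicit false
open Cfsg

namespace Cfsg.Agent.S1694

open Cfsg.Agent.Lib.CosetEnum

theorem cover : allBelow 1782 (coverAt [(1365, Cfsg.Agent.Lib.CosetEnum.Suz1782.orbPts1, Cfsg.Agent.Lib.CosetEnum.Suz1782.orbPos1), (416, Cfsg.Agent.Lib.CosetEnum.Suz1782.orbPts2, Cfsg.Agent.Lib.CosetEnum.Suz1782.orbPos2)]) = true := by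
  decide +kernel

/-- The presented sporadic Suzuki group is simple of the expected order (that is, it is a simple group of the order of the sporadic Suzuki group). -/
theorem result : Cfsg.IsSuz Cfsg.Spor.Suz := by
  obtain ⟨ρ, hρ, hst, htr⟩ := Cfsg.Agent.Lib.CosetEnum.Suz1782.enum.action
  have hN : 0 < 1782 := by omega
  have hsub : subOf Cfsg.Agent.Lib.CosetEnum.Suz1782.letters Cfsg.Agent.Lib.CosetEnum.Suz1782.pres Cfsg.Agent.Lib.CosetEnum.Suz1782.subWords =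
      subOf Cfsg.Agent.Lib.CosetEnum.Suz1782.letters Cfsg.Agent.Lib.CosetEnum.Suz1782.pres (Cfsg.Agent.Lib.CosetEnum.Suz1782.subWords.flatten.map fun g => [g]) := rfl
  have hidx := Cfsg.Agent.Lib.CosetEnum.Suz1782.enum.index
  have hH := Cfsg.Agent.Lib.CosetEnum.SuzChain.L6.bound
  have hge := Cfsg.Agent.Lib.CosetEnum.SuzSlp.card_ge ρ _ hρ
  obtain ⟨hG, -, hinj⟩ := card_of_bounds (B := 251596800) ρ (by omega) hidx
    (by rw [hsub]; exact hH) (hge.trans' (by omega))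
  have hord : Nat.card Cfsg.Spor.Suz = 448345497600 := hG.trans (by norm_num)
  haveI : Finite Cfsg.Spor.Suz := Nat.finite_of_card_ne_zero (by rw [hord]; omega)
  have hHcard : Nat.card (subOf Cfsg.Agent.Lib.CosetEnum.Suz1782.letters Cfsg.Agent.Lib.CosetEnum.Suz1782.pres Cfsg.Agent.Lib.CosetEnum.Suz1782.subWords) = 251596800 := by
    have h := (subOf Cfsg.Agent.Lib.CosetEnum.Suz1782.letters Cfsg.Agent.Lib.CosetEnum.Suz1782.pres Cfsg.Agent.Lib.CosetEnum.Suz1782.subWords).card_mul_index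
    rw [Cfsg.Agent.Lib.CosetEnum.Suz1782.enum.index] at h
    exact Nat.eq_of_mul_eq_mul_right (by omega : 0 < 1782)
      ((h.trans hord).trans (by norm_num))
  refine ⟨?_, hord⟩
  refine isSimple_of_primitive ρ ⟨0, by omega⟩ (by omega) hinj hst htr ?_
    Cfsg.Agent.Lib.CosetEnum.SuzTriv.elt 11
    (pow_eq_one_of_table Cfsg.Agent.Lib.CosetEnum.Suz1782.letters _ ρ hρ hinj _ (by decide +kernel) 11
      Cfsg.Agent.Lib.CosetEnum.SuzTriv.scan_pow)
    (by rw [hHcard]; decide +kernel) Cfsg.Agent.Lib.CosetEnum.SuzTriv.eq_top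
  intro O h0 hinv hO
  refine no_block ρ ⟨0, by omega⟩ ![⟨1, by omega⟩, ⟨47, by omega⟩] ![1365, 416] ?_ ?_ ?_ ?_ O h0 hinv hO
  · intro j
    fin_cases j
    · exact (Cfsg.Agent.Lib.CosetEnum.Suz1782.orb1_spec ρ hρ).1
    · exact (Cfsg.Agent.Lib.CosetEnum.Suz1782.orb2_spec ρ hρ).1
  · intro y
    have h := allBelow_iff.1 cover y.1 y.2
    simp only [coverAt, force_eq, Bool.or_eq_true, Bool.and_eq_true, Bool.false_eq_true, or_false,
      Nat.beq_eq, Nat.blt_eq] at h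
    rcases h with h | ⟨hp, hq⟩ | ⟨hp, hq⟩
    · exact Or.inl (Fin.ext h)
    · exact Or.inr ⟨0, (Cfsg.Agent.Lib.CosetEnum.Suz1782.orb1_spec ρ hρ).2.2 _ hp y hq.symm⟩
    · exact Or.inr ⟨1, (Cfsg.Agent.Lib.CosetEnum.Suz1782.orb2_spec ρ hρ).2.2 _ hp y hq.symm⟩
  · decide +kernel
  · decide +kernel

end Cfsg.Agent.S1694
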