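import Cfsg.Statements.S0820
import Cfsg.Agent.Lib.PSL34Orders.Involution
-- import your own Cfsg.Agent.* helpers here

set_option autoImplicit false
open Cfsg

namespace Cfsg.Agent.S0820

/-- Any two elements of order 2 of PSL_3(4) are conjugate. -/
theorem result {F : Type*} [Field F] [Fintype F] (hF : Fintype.card F = 4) (x y : Matrix.ProjectiveSpecialLinearGroup (Fin 3) F) (hx : orderOf x = 2) (hy : orderOf y = 2) : IsConj x y := by
  obtain ⟨σ⟩ := Lib.PSL34Orders.exists_fieldEquiv F hF
  obtain ⟨e⟩ := Lib.Golay.PSL34.psl_congr σ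
  have h := Lib.PSL34Orders.isConj_of_orderOf_two (e x) (e y) ((e.orderOf_eq x).trans hx)
    ((e.orderOf_eq y).trans hy)
  simpa using e.symm.toMonoidHom.map_isConj h

end Cfsg.Agent.S0820
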