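import Cfsg.Statements.S2363
import Cfsg.Agent.S0243
import Cfsg.Agent.S0280
import Cfsg.Agent.S0292
import Cfsg.Agent.S0293
import Cfsg.Agent.S0294
import Cfsg.Agent.S1066
import Cfsg.Agent.S1067
import Cfsg.Agent.S1068
import Cfsg.Agent.S1069
import Cfsg.Agent.Lib.Symplectic.Std
import Cfsg.Agent.Lib.LieTwisted.SuzukiStructure
import Cfsg.Agent.Lib.ChevStructure.Order.CertG2
import Cfsg.Agent.Lib.ChevStructure.Order.CertF4
import Cfsg.Agent.Lib.ChevStructure.Order.CertE6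
import Cfsg.Agent.Lib.ChevStructure.Order.CertE7
import Cfsg.Agent.Lib.ChevStructure.Order.CertE8
-- import your own Cfsg.Agent.* helpers here

set_option autoImplicit false
open Cfsg

namespace Cfsg.Agent.S2363

/-- The exact power of `p` and the bound on the order, from an order formula. -/
theorem bound {p c q N E d R : ℕ} (hp : p.Prime) (hq : ∃ f, 1 ≤ f ∧ q = p ^ f) (he : d * c = q ^ N * R)
    (hd : d.Coprime p) (hR : R.Coprime p) (hle : R ≤ q ^ E) (hE : 1 ≤ E) :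
    (N + E ≤ 3 * N → c < p ^ (3 * c.factorization p)) ∧
    (3 * (N + E) ≤ 8 * N → c ^ 3 < p ^ (8 * c.factorization p)) ∧
    p ^ c.factorization p = q ^ N := by
  obtain ⟨f, hf, rfl⟩ := hq
  have hd0 : d ≠ 0 := fun h => hp.ne_one (by simpa [h] using hd)
  have hR0 : R ≠ 0 := fun h => hp.ne_one (by simpa [h] using hR)
  have hc0 : c ≠ 0 := by
    rintro rfl
    rw [mul_zero] at he
    exact mul_ne_zero (pow_ne_zero _ (pow_ne_zero _ hp.ne_zero)) hR0 he.symm
  have hk : c.factorization p = f * N := by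
    have h := congrArg (fun x => x.factorization p) he
    rw [Nat.factorization_mul hd0 hc0, Nat.factorization_mul (pow_ne_zero _ (pow_ne_zero _ hp.ne_zero)) hR0,
      ← pow_mul, hp.factorization_pow] at h
    simp only [Finsupp.add_apply, Finsupp.single_eq_same] at h
    rw [Nat.factorization_eq_zero_of_not_dvd (fun hh => (hp.coprime_iff_not_dvd.1 hd.symm) hh),
      Nat.factorization_eq_zero_of_not_dvd (fun hh => (hp.coprime_iff_not_dvd.1 hR.symm) hh)] at h
    omega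
  have hne : R ≠ (p ^ f) ^ E := by
    intro h
    rw [h, ← pow_mul, Nat.coprime_pow_left_iff (Nat.mul_pos (by omega) hE), Nat.coprime_self] at hR
    exact hp.ne_one hR
  have hlt : c < (p ^ f) ^ (N + E) := by
    calc c ≤ d * c := Nat.le_mul_of_pos_left c (Nat.pos_of_ne_zero hd0)
      _ < (p ^ f) ^ N * (p ^ f) ^ E := by
        rw [he]
        exact Nat.mul_lt_mul_of_pos_left (lt_of_le_of_ne hle hne) (pow_pos (pow_pos hp.pos _) _)
      _ = _ := (pow_add _ _ _).symm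
  refine ⟨fun h => ?_, fun h => ?_, by rw [hk, pow_mul]⟩
  · refine hlt.trans_le ?_
    rw [hk, ← pow_mul]
    exact Nat.pow_le_pow_right hp.pos (by nlinarith)
  · refine (Nat.pow_lt_pow_left hlt (by norm_num)).trans_le ?_
    rw [hk, ← pow_mul, ← pow_mul]
    exact Nat.pow_le_pow_right hp.pos (by nlinarith)

theorem qpow {p n q j : ℕ} (hp : p.Prime) (hn : 1 ≤ n) (h : p ^ n = q ^ j) (hj : j ≠ 0) :
    ∃ f, 1 ≤ f ∧ q = p ^ f := by
  obtain ⟨f, -, rfl⟩ := (Nat.dvd_prime_pow hp).1 (h.symm ▸ dvd_pow_self q hj : q ∣ p ^ n)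
  refine ⟨f, ?_, rfl⟩
  rcases Nat.eq_zero_or_pos f with rfl | hf
  · rw [pow_zero, one_pow] at h
    exact absurd h (Nat.one_lt_pow (by omega) hp.one_lt).ne'
  · exact hf

theorem fieldpow (F : Type) [Field F] [Fintype F] (p : ℕ) [CharP F p] {q j : ℕ}
    (h : Fintype.card F = q ^ j) (hj : j ≠ 0) : ∃ f, 1 ≤ f ∧ q = p ^ f := by
  obtain ⟨n, hp, hn⟩ := FiniteField.card F p
  exact qpow hp n.pos (hn ▸ h) hj

section
variable {p q : ℕ}

theorem dvd_pow_q (hq : ∃ f, 1 ≤ f ∧ q = p ^ f) {i : ℕ} (hi : 1 ≤ i) : p ∣ q ^ i := by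
  obtain ⟨f, hf, rfl⟩ := hq
  exact dvd_pow (dvd_pow_self p (by omega)) (by omega)

theorem cop_add (hp : p.Prime) (hq : ∃ f, 1 ≤ f ∧ q = p ^ f) {i : ℕ} (hi : 1 ≤ i) :
    (q ^ i + 1).Coprime p := by
  refine (hp.coprime_iff_not_dvd.2 fun h => hp.not_dvd_one ?_).symm
  exact (Nat.dvd_add_right (dvd_pow_q hq hi)).1 h

theorem cop_sub (hp : p.Prime) (hq : ∃ f, 1 ≤ f ∧ q = p ^ f) {i : ℕ} (hi : 1 ≤ i) :
    (q ^ i - 1).Coprime p := by
  refine (hp.coprime_iff_not_dvd.2 fun h => hp.not_dvd_one ?_).symm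
  have h1 : 1 ≤ q ^ i := by
    obtain ⟨f, -, rfl⟩ := hq
    exact pow_pos (pow_pos hp.pos f) i
  have := Nat.dvd_sub (dvd_pow_q hq hi) h
  rwa [show q ^ i - (q ^ i - 1) = 1 by omega] at this

theorem cop_gcd (hp : p.Prime) (hq : ∃ f, 1 ≤ f ∧ q = p ^ f) (d : ℕ) : (Nat.gcd (q - 1) d).Coprime p :=
  Nat.Coprime.coprime_dvd_left (Nat.gcd_dvd_left _ _) (by simpa using cop_sub hp hq le_rfl)

theorem cop_gcd' (hp : p.Prime) (hq : ∃ f, 1 ≤ f ∧ q = p ^ f) (d : ℕ) : (Nat.gcd d (q - 1)).Coprime p := by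
  rw [Nat.gcd_comm]; exact cop_gcd hp hq d

theorem cop_prod_sub (hp : p.Prime) (hq : ∃ f, 1 ≤ f ∧ q = p ^ f) (m : ℕ) (g : ℕ → ℕ) (hg : ∀ i, 1 ≤ g i) :
    (∏ i ∈ Finset.range m, (q ^ g i - 1)).Coprime p :=
  Nat.Coprime.prod_left fun i _ => cop_sub hp hq (hg i)

theorem cop_list (hp : p.Prime) (hq : ∃ f, 1 ≤ f ∧ q = p ^ f) (L : List ℕ) (hL : ∀ d ∈ L, 1 ≤ d) :
    ((L.map fun d => q ^ d - 1).prod).Coprime p := by
  induction L with
  | nil => simp
  | cons d L ih =>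
    rw [List.map_cons, List.prod_cons]
    exact (cop_sub hp hq (hL d (by simp))).mul_left (ih fun e he => hL e (by simp [he]))

theorem prod_sub_le (q m : ℕ) (g : ℕ → ℕ) :
    ∏ i ∈ Finset.range m, (q ^ g i - 1) ≤ q ^ ∑ i ∈ Finset.range m, g i := by
  rw [← Finset.prod_pow_eq_pow_sum]
  exact Finset.prod_le_prod' fun i _ => Nat.sub_le _ _

theorem list_le (q : ℕ) (L : List ℕ) : (L.map fun d => q ^ d - 1).prod ≤ q ^ L.sum := by
  induction L with
  | nil => simp
  | cons d L ih =>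
    rw [List.map_cons, List.prod_cons, List.sum_cons, pow_add]
    exact Nat.mul_le_mul (Nat.sub_le _ _) ih

theorem pair {q a b : ℕ} (hq : 1 ≤ q) (h : a ≤ b) : (q ^ a - 1) * (q ^ b + 1) ≤ q ^ (a + b) := by
  have h1 : q ^ a ≤ q ^ b := Nat.pow_le_pow_right hq h
  have h2 : 1 ≤ q ^ a := Nat.one_le_pow a q hq
  obtain ⟨x, hx⟩ : ∃ x, q ^ a = x + 1 := ⟨q ^ a - 1, by omega⟩
  rw [pow_add, hx, Nat.add_sub_cancel]
  nlinarith

end

/-- The product of `q ^ n - q ^ i` with the power of `q` extracted. -/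
theorem gl_prod (q : ℕ) : ∀ n, ∏ i : Fin n, (q ^ n - q ^ (i : ℕ)) =
    q ^ (∑ i ∈ Finset.range n, i) * ∏ i ∈ Finset.range n, (q ^ (i + 1) - 1)
  | 0 => by simp
  | n + 1 => by
    have e : ∀ i : Fin n, q ^ (n + 1) - q ^ ((i : ℕ) + 1) = q * (q ^ n - q ^ (i : ℕ)) := fun i => by
      rw [Nat.mul_sub, pow_succ', pow_succ']
    rw [Fin.prod_univ_succ]
    simp only [Fin.val_zero, pow_zero, Fin.val_succ]
    rw [Finset.prod_congr rfl (fun i _ => e i), Finset.prod_mul_distrib, gl_prod q n]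
    simp only [Finset.prod_const, Finset.card_univ, Fintype.card_fin, Finset.sum_range_succ,
      Finset.prod_range_succ, pow_add]
    ring

theorem two_sum_range (n : ℕ) : 2 * ∑ i ∈ Finset.range n, i = n * (n - 1) := by
  rw [mul_comm, Finset.sum_range_id_mul_two]

theorem sum_two_succ : ∀ m, ∑ i ∈ Finset.range m, 2 * (i + 1) = m * (m + 1)
  | 0 => by simp
  | m + 1 => by rw [Finset.sum_range_succ, sum_two_succ m]; ring

theorem two_sum_succ : ∀ m, 2 * ∑ i ∈ Finset.range m, (i + 2) = m * (m + 3)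
  | 0 => by simp
  | m + 1 => by rw [Finset.sum_range_succ, mul_add, two_sum_succ m]; ring

/-- The unitary product is at most the power of `q` of its total degree. -/
theorem unitary_le {q : ℕ} (hq : 1 ≤ q) (j : ℕ) :
    ∏ i ∈ Finset.range (2 * j), (if Even (i + 1) then q ^ (i + 2) + 1 else q ^ (i + 2) - 1) ≤
      q ^ ∑ i ∈ Finset.range (2 * j), (i + 2) := by
  induction j with
  | zero => simp
  | succ j ih =>
    have o : ¬ Even (2 * j + 1) := by simp [parity_simps]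
    have ev : Even (2 * j + 1 + 1) := by simp [parity_simps]
    rw [show 2 * (j + 1) = 2 * j + 1 + 1 by ring, Finset.prod_range_succ, Finset.prod_range_succ,
      Finset.sum_range_succ, Finset.sum_range_succ, if_neg o, if_pos ev, mul_assoc]
    exact (Nat.mul_le_mul ih (pair hq (by omega))).trans (le_of_eq (by rw [← pow_add, ← add_assoc]))

theorem unitary_le' {q : ℕ} (hq : 1 ≤ q) (n : ℕ) :
    ∏ i ∈ Finset.range n, (if Even (i + 1) then q ^ (i + 2) + 1 else q ^ (i + 2) - 1) ≤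
      q ^ ∑ i ∈ Finset.range n, (i + 2) := by
  obtain ⟨j, rfl | rfl⟩ : ∃ j, n = 2 * j ∨ n = 2 * j + 1 := ⟨n / 2, by omega⟩
  · exact unitary_le hq j
  · have o : ¬ Even (2 * j + 1) := by simp [parity_simps]
    rw [Finset.prod_range_succ, Finset.sum_range_succ, if_neg o]
    exact (Nat.mul_le_mul (unitary_le hq j) (Nat.sub_le _ _)).trans (le_of_eq (pow_add _ _ _).symm)

/-- Both bounds, for the families of rank at least two. -/
def Both (p c : ℕ) : Prop := c < p ^ (3 * c.factorization p) ∧ c ^ 3 < p ^ (8 * c.factorization p)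

theorem both {p c q N E d R : ℕ} (hp : p.Prime) (hq : ∃ f, 1 ≤ f ∧ q = p ^ f) (he : d * c = q ^ N * R)
    (hd : d.Coprime p) (hR : R.Coprime p) (hle : R ≤ q ^ E) (hE : 1 ≤ E) (h3 : N + E ≤ 3 * N)
    (h8 : 3 * (N + E) ≤ 8 * N) : Both p c :=
  ⟨(bound hp hq he hd hR hle hE).1 h3, (bound hp hq he hd hR hle hE).2.1 h8⟩

theorem psl_eq (F : Type) [Field F] [Fintype F] (n : ℕ) (hn : 2 ≤ n) :
    Nat.gcd n (Fintype.card F - 1) * Nat.card (Matrix.ProjectiveSpecialLinearGroup (Fin n) F) =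
      Fintype.card F ^ (∑ i ∈ Finset.range n, i) * ∏ i ∈ Finset.range (n - 1), (Fintype.card F ^ (i + 2) - 1) := by
  have h := Cfsg.Agent.S0243.result (F := F) rfl n hn
  obtain ⟨m, rfl⟩ : ∃ m, n = m + 1 := ⟨n - 1, by omega⟩
  rw [gl_prod, Finset.prod_range_succ', zero_add, pow_one] at h
  rw [Nat.add_sub_cancel]
  have h1 : 1 < Fintype.card F := Fintype.one_lt_card
  refine Nat.eq_of_mul_eq_mul_right (show 0 < Fintype.card F - 1 by omega) ?_
  rw [mul_right_comm, mul_assoc (_ ^ _)]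
  rw [← h]; ring

theorem psl {p : ℕ} (hp : p.Prime) (F : Type) [Field F] [Fintype F] [CharP F p] (n : ℕ) (hn : 2 ≤ n) :
    let c := Nat.card (Matrix.ProjectiveSpecialLinearGroup (Fin n) F)
    c < p ^ (3 * c.factorization p) ∧
      ((n = 2 → Fintype.card F ≠ p ^ c.factorization p) → c ^ 3 < p ^ (8 * c.factorization p)) := by
  intro c
  have hq := fieldpow F p (pow_one _).symm one_ne_zero
  obtain ⟨b3, b8, bk⟩ := bound hp hq (psl_eq F n hn) (cop_gcd' hp hq n)
    (cop_prod_sub hp hq _ _ fun i => by omega) (prod_sub_le _ _ _) (E := ∑ i ∈ Finset.range (n - 1), (i + 2)) (by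
      have := two_sum_succ (n - 1)
      have : 1 * 3 ≤ (n - 1) * (n - 1 + 3) := Nat.mul_le_mul (by omega) (by omega)
      omega)
  have hN := two_sum_range n
  have hE := two_sum_succ (n - 1)
  obtain ⟨m, rfl⟩ : ∃ m, n = m + 2 := ⟨n - 2, by omega⟩
  simp only [show m + 2 - 1 = m + 1 by omega] at hN hE b3 b8
  refine ⟨b3 (by nlinarith), fun h2 => ?_⟩
  rcases Nat.eq_zero_or_pos m with rfl | hm
  · exact absurd (by rw [bk]; simp [Finset.sum_range_succ]) (h2 rfl)
  · exact b8 (by nlinarith)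

theorem psp {p : ℕ} (hp : p.Prime) (F : Type) [Field F] [Fintype F] [CharP F p] (m : ℕ) (hm : 2 ≤ m) :
    Both p (Nat.card (Cfsg.PSp m F)) := by
  have hq := fieldpow F p (pow_one _).symm one_ne_zero
  refine both hp hq (Cfsg.Agent.Lib.Symplectic.card_psp (Nat.card_eq_fintype_card) (by omega))
    (cop_gcd' hp hq 2) (cop_prod_sub hp hq _ _ fun i => by omega) (prod_sub_le _ _ _) ?_ ?_ ?_ <;>
  · rw [sum_two_succ]; nlinarith

theorem psu {p : ℕ} (hp : p.Prime) (F : Type) [Field F] [Fintype F] [CharP F p] (n q : ℕ)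
    (hF : Fintype.card F = q ^ 2) (hn : 3 ≤ n) : Both p (Nat.card (Cfsg.PSU n F q)) := by
  have hq := fieldpow F p hF two_ne_zero
  have hq1 : 1 ≤ q := by
    obtain ⟨f, -, rfl⟩ := hq; exact pow_pos hp.pos f
  obtain ⟨m, rfl⟩ : ∃ m, n = m + 1 := ⟨n - 1, by omega⟩
  have h := Cfsg.Agent.S0280.result (F := F) hF (m + 1) (by omega)
  rw [Finset.prod_range_succ', if_pos (by decide : Even 0), zero_add, pow_one] at h
  have he : Nat.gcd (m + 1) (q + 1) * Nat.card (Cfsg.PSU (m + 1) F q) =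
      q ^ ((m + 1) * m / 2) * ∏ i ∈ Finset.range m, (if Even (i + 1) then q ^ (i + 2) + 1 else q ^ (i + 2) - 1) := by
    refine Nat.eq_of_mul_eq_mul_right (show 0 < q + 1 by omega) ?_
    rw [Nat.add_sub_cancel] at h
    rw [mul_right_comm, mul_assoc (_ ^ _), ← h]; ring
  have h2 : 2 * ((m + 1) * m / 2) = (m + 1) * m := Nat.mul_div_cancel' ((Nat.even_mul_pred_self (m + 1)).two_dvd)
  have hE := two_sum_succ m
  refine both hp hq he (Nat.Coprime.coprime_dvd_left (Nat.gcd_dvd_right _ _) (by simpa using cop_add hp hq le_rfl)) ?_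
    (unitary_le' hq1 m) (by nlinarith) (by nlinarith) (by nlinarith)
  refine Nat.Coprime.prod_left fun i _ => ?_
  split
  · exact cop_add hp hq (by omega)
  · exact cop_sub hp hq (by omega)

theorem omega_odd {p : ℕ} (hp : p.Prime) (F : Type) [Field F] [Fintype F] [CharP F p] (m : ℕ) (hm : 3 ≤ m)
    (hodd : Odd (Fintype.card F)) : Both p (Nat.card (Cfsg.POmega F (Cfsg.quadFormOdd m F))) := by
  have hq := fieldpow F p (pow_one _).symm one_ne_zero
  refine both hp hq (Cfsg.Agent.S0292.result rfl hodd m hm) ?_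
    (cop_prod_sub hp hq _ _ fun i => by omega) (prod_sub_le _ _ _) ?_ ?_ ?_
  · obtain ⟨f, hf, hf'⟩ := hq
    refine Nat.coprime_two_left.2 ?_
    rw [hf'] at hodd
    exact (Nat.odd_pow_iff (by omega)).1 hodd
  all_goals rw [sum_two_succ]; nlinarith

theorem omega_plus {p : ℕ} (hp : p.Prime) (F : Type) [Field F] [Fintype F] [CharP F p] (m : ℕ) (hm : 4 ≤ m) :
    Both p (Nat.card (Cfsg.POmega F (Cfsg.quadFormPlus m F))) := by
  have hq := fieldpow F p (pow_one _).symm one_ne_zero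
  have h := Cfsg.Agent.S0293.result (F := F) rfl m hm
  rw [mul_assoc (_ ^ _)] at h
  refine both hp hq h (Nat.Coprime.coprime_dvd_left (Nat.gcd_dvd_right _ _) (cop_sub hp hq (by omega)))
    ((cop_sub hp hq (by omega)).mul_left (cop_prod_sub hp hq _ _ fun i => by omega))
    (E := m + ∑ i ∈ Finset.range (m - 1), 2 * (i + 1)) ?_ ?_ ?_ ?_
  · rw [pow_add]; exact Nat.mul_le_mul (Nat.sub_le _ _) (prod_sub_le _ _ _)
  all_goals
    rw [sum_two_succ]
    obtain ⟨k, rfl⟩ : ∃ k, m = k + 1 := ⟨m - 1, by omega⟩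
    rw [Nat.add_sub_cancel]
    nlinarith

theorem omega_minus {p : ℕ} (hp : p.Prime) (F : Type) [Field F] [Fintype F] [CharP F p] (m : ℕ) (hm : 4 ≤ m)
    (a b : F) (hab : ∀ z₁ z₂ : F, z₁ ^ 2 + a * z₁ * z₂ + b * z₂ ^ 2 = 0 → z₁ = 0 ∧ z₂ = 0) :
    Both p (Nat.card (Cfsg.POmega F (Cfsg.quadFormMinus (m - 1) F a b))) := by
  have hq := fieldpow F p (pow_one _).symm one_ne_zero
  have h := Cfsg.Agent.S0294.result (F := F) rfl m hm a b hab
  obtain ⟨k, rfl⟩ : ∃ k, m = k + 2 := ⟨m - 2, by omega⟩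
  rw [mul_assoc (_ ^ _)] at h
  refine both hp hq h (Nat.Coprime.coprime_dvd_left (Nat.gcd_dvd_right _ _) (cop_add hp hq (by omega)))
    ((cop_add hp hq (by omega)).mul_left (cop_prod_sub hp hq _ _ fun i => by omega))
    (E := (k + 2) + ∑ i ∈ Finset.range (k + 2 - 1), 2 * (i + 1)) ?_ ?_ ?_ ?_
  · simp only [show k + 2 - 1 = k + 1 by omega]
    rw [Finset.prod_range_succ', Finset.sum_range_succ']
    calc _ = ((Fintype.card F ^ (2 * (0 + 1)) - 1) * (Fintype.card F ^ (k + 2) + 1)) *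
          ∏ i ∈ Finset.range k, (Fintype.card F ^ (2 * (i + 1 + 1)) - 1) := by ring
      _ ≤ Fintype.card F ^ (2 * (0 + 1) + (k + 2)) * Fintype.card F ^ ∑ i ∈ Finset.range k, 2 * (i + 1 + 1) :=
        Nat.mul_le_mul (pair Fintype.card_pos (by omega)) (prod_sub_le _ _ _)
      _ = _ := by rw [← pow_add]; congr 1; omega
  all_goals
    rw [sum_two_succ, show k + 2 - 1 = k + 1 by omega]
    nlinarith

theorem sz {F : Type} [Field F] [Fintype F] {m : ℕ} (hm : 1 ≤ m) (hF : Fintype.card F = 2 ^ (2 * m + 1)) :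
    Both 2 (Nat.card (Cfsg.Lie.Sz F (2 ^ (m + 1)))) := by
  have h : Cfsg.Agent.Lib.LieTwisted.Suzuki.IsSzField F m := ⟨hF⟩
  have hq : ∃ f, 1 ≤ f ∧ Fintype.card F = 2 ^ f := ⟨_, by omega, hF⟩
  have hc := h.card_group hm
  rw [Nat.card_congr (Cfsg.Agent.Lib.LieTwisted.Suzuki.szEquiv h hm).toEquiv, mul_assoc] at hc
  refine both Nat.prime_two hq ((one_mul _).trans hc) (Nat.coprime_one_left _)
    ((cop_add Nat.prime_two hq (by omega)).mul_left (by simpa using cop_sub Nat.prime_two hq le_rfl))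
    (E := 3) ?_ (by norm_num) (by norm_num) (by norm_num)
  have := pair (q := Fintype.card F) Fintype.card_pos (show 1 ≤ 2 by norm_num)
  rw [mul_comm]; simpa using this

theorem ree {K : Type} [Field K] [Fintype K] {m : ℕ} (hK : Fintype.card K = 3 ^ (2 * m + 1)) :
    Both 3 (Nat.card (Cfsg.Lie.twistedG2 K (3 ^ m))) := by
  have hc := Cfsg.Agent.S1069.result hK
  rw [← hK, mul_assoc] at hc
  have hq : ∃ f, 1 ≤ f ∧ Fintype.card K = 3 ^ f := ⟨_, by omega, hK⟩
  refine both Nat.prime_three hq ((one_mul _).trans hc) (Nat.coprime_one_left _)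
    ((by simpa using cop_sub Nat.prime_three hq le_rfl : (Fintype.card K - 1).Coprime 3).mul_left
      (cop_add Nat.prime_three hq (by omega)))
    (E := 4) ?_ (by norm_num) (by norm_num) (by norm_num)
  have := pair (q := Fintype.card K) Fintype.card_pos (show 1 ≤ 3 by norm_num)
  simpa using this

theorem chev {p c q N : ℕ} {L : List ℕ} {ι : Type} [Fintype ι] (g : ι → ℕ) (hp : p.Prime)
    (hq : ∃ f, 1 ≤ f ∧ q = p ^ f) (he : (∏ i, Nat.gcd (q - 1) (g i)) * c = q ^ N * (L.map fun d => q ^ d - 1).prod)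
    (hL : ∀ d ∈ L, 1 ≤ d) (hE : 1 ≤ L.sum) (h3 : N + L.sum ≤ 3 * N) (h8 : 3 * (N + L.sum) ≤ 8 * N) : Both p c :=
  both hp hq he (Nat.Coprime.prod_left fun i _ => cop_gcd hp hq _) (cop_list hp hq L hL) (list_le q L) hE h3 h8

theorem d4 {p : ℕ} (hp : p.Prime) (K : Type) [Field K] [Fintype K] [CharP K p] {q : ℕ} (hq' : IsPrimePow q)
    (hK : Fintype.card K = q ^ 3) : Both p (Nat.card (Cfsg.Lie.twistedD4 K q)) := by
  have hq := fieldpow K p hK three_ne_zero
  have hq1 : 1 ≤ q := hq'.one_lt.le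
  have hc := Cfsg.Agent.S1067.result hq' hK
  rw [mul_assoc, mul_assoc, mul_left_comm, ← mul_assoc] at hc
  refine both (N := 12) hp hq ((one_mul _).trans (hc.trans ?_)) (Nat.coprime_one_left _) ?_ (E := 16) ?_ (by norm_num) (by norm_num) (by norm_num)
    (R := (q ^ 6 - 1) * ((q ^ 2 - 1) * (q ^ 8 + q ^ 4 + 1)))
  · ring
  · refine (cop_sub hp hq (by norm_num)).mul_left ((cop_sub hp hq (by norm_num)).mul_left ?_)
    refine (hp.coprime_iff_not_dvd.2 fun h => hp.not_dvd_one ?_).symm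
    exact (Nat.dvd_add_right (dvd_add (dvd_pow_q hq (by norm_num)) (dvd_pow_q hq (by norm_num)))).1 h
  · obtain ⟨x, hx⟩ : ∃ x, q ^ 2 = x + 1 := ⟨q ^ 2 - 1, by have := Nat.one_le_pow 2 q hq1; omega⟩
    have e4 : q ^ 4 = (x + 1) ^ 2 := by rw [← hx, ← pow_mul]
    have e8 : q ^ 8 = (x + 1) ^ 4 := by rw [← hx, ← pow_mul]
    calc _ ≤ q ^ 6 * q ^ 10 := Nat.mul_le_mul (Nat.sub_le _ _) (by
          rw [show q ^ 10 = q ^ 2 * q ^ 8 by ring, hx, e4, e8, Nat.add_sub_cancel]; ring_nf; omega)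
      _ = q ^ 16 := by ring


theorem e6 {p : ℕ} (hp : p.Prime) (K : Type) [Field K] [Fintype K] [CharP K p] {q : ℕ} (hq' : IsPrimePow q)
    (hK : Fintype.card K = q ^ 2) : Both p (Nat.card (Cfsg.Lie.twistedE6 K q)) := by
  have hq := fieldpow K p hK two_ne_zero
  have hq1 : 1 ≤ q := hq'.one_lt.le
  have hc := Cfsg.Agent.S1066.result hq' hK
  refine both (N := 36) hp hq (hc.trans ?_)
    (Nat.Coprime.coprime_dvd_left (Nat.gcd_dvd_right _ _) (by simpa using cop_add hp hq le_rfl)) ?_ (E := 42) ?_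
    (by norm_num) (by norm_num) (by norm_num)
    (R := ((q ^ 2 - 1) * (q ^ 5 + 1)) * ((q ^ 6 - 1) * (q ^ 9 + 1)) * ((q ^ 8 - 1) * (q ^ 12 - 1)))
  · ring
  · exact ((((cop_sub hp hq (by norm_num)).mul_left (cop_add hp hq (by norm_num))).mul_left
      ((cop_sub hp hq (by norm_num)).mul_left (cop_add hp hq (by norm_num)))).mul_left
      ((cop_sub hp hq (by norm_num)).mul_left (cop_sub hp hq (by norm_num))))
  · exact (Nat.mul_le_mul (Nat.mul_le_mul (pair hq1 (by norm_num)) (pair hq1 (by norm_num)))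
      (Nat.mul_le_mul (Nat.sub_le _ _) (Nat.sub_le _ _))).trans (le_of_eq (by simp only [← pow_add]))

theorem f4 {K : Type} [Field K] [Fintype K] {m : ℕ} (hK : Fintype.card K = 2 ^ (2 * m + 1)) :
    Both 2 (Nat.card (Cfsg.Lie.twistedF4 K (2 ^ m))) := by
  have hc := Cfsg.Agent.S1068.result hK
  have hq : ∃ f, 1 ≤ f ∧ 2 ^ (2 * m + 1) = 2 ^ f := ⟨_, by omega, rfl⟩
  have hq1 : 1 ≤ 2 ^ (2 * m + 1) := Nat.one_le_pow _ _ (by norm_num)
  have hp := Nat.prime_two
  refine both (N := 12) hp hq ((one_mul _).trans (hc.trans ?_)) (Nat.coprime_one_left _) ?_ (E := 14) ?_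
    (by norm_num) (by norm_num) (by norm_num)
    (R := (((2 ^ (2 * m + 1)) ^ 1 - 1) * ((2 ^ (2 * m + 1)) ^ 3 + 1)) *
      (((2 ^ (2 * m + 1)) ^ 4 - 1) * ((2 ^ (2 * m + 1)) ^ 6 + 1)))
  · rw [pow_one]; ring
  · exact (((cop_sub hp hq le_rfl).mul_left (cop_add hp hq (by norm_num))).mul_left
      ((cop_sub hp hq (by norm_num)).mul_left (cop_add hp hq (by norm_num))))
  · exact (Nat.mul_le_mul (pair hq1 (by norm_num)) (pair hq1 (by norm_num))).trans
      (le_of_eq (by simp only [← pow_add]))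

/-- Let G be a finite simple group of Lie type in characteristic p and let p^k be the exact power of p dividing the order of G. Then the order of G is less than p^(3k); and unless G is isomorphic to PSL(2, F) for the field F with p^k elements, the cube of the order of G is less than p^(8k) (that is, the order is below p^(8k/3)). -/
theorem result {G : Type*} [Group G] [Finite G] (p : ℕ) (hp : p.Prime) (hG : Cfsg.IsLieTypeChar p G) :
    Nat.card G < p ^ (3 * (Nat.card G).factorization p) ∧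
      ((¬ ∃ (F : Type) (_ : Field F) (_ : Fintype F), Fintype.card F = p ^ (Nat.card G).factorization p ∧
          Nonempty (G ≃* Matrix.ProjectiveSpecialLinearGroup (Fin 2) F)) →
        Nat.card G ^ 3 < p ^ (8 * (Nat.card G).factorization p)) := by
  have fin : ∀ (H : Type) [Group H], (G ≃* H) → Both p (Nat.card H) →
      (Nat.card G < p ^ (3 * (Nat.card G).factorization p) ∧
        ((¬ ∃ (F : Type) (_ : Field F) (_ : Fintype F), Fintype.card F = p ^ (Nat.card G).factorization p ∧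
            Nonempty (G ≃* Matrix.ProjectiveSpecialLinearGroup (Fin 2) F)) →
          Nat.card G ^ 3 < p ^ (8 * (Nat.card G).factorization p))) := fun H _ e h => by
    rw [Nat.card_congr e.toEquiv]; exact ⟨h.1, fun _ => h.2⟩
  rcases hG with ⟨F, _, _, _, n, hn, -, ⟨e⟩⟩ | ⟨F, _, _, _, m, hm, -, ⟨e⟩⟩ | ⟨F, _, _, _, n, q, hF, hn, -, ⟨e⟩⟩ |
    ⟨F, _, _, _, m, hm, hodd, ⟨e⟩⟩ | ⟨F, _, _, _, m, hm, ⟨e⟩⟩ | ⟨F, _, _, _, m, a, b, hm, hab, ⟨e⟩⟩ |
    ⟨F, iF, iF', iC, h⟩ | ⟨K, iK, iK', iC, q, hq, h⟩ | ⟨rfl, F, _, _, m, hm, hF, ⟨e⟩⟩ | ⟨rfl, K, _, _, m, -, hK, ⟨e⟩⟩ |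
    ⟨rfl, K, _, _, m, -, hK, ⟨e⟩⟩
  · rw [Nat.card_congr e.toEquiv]
    refine ⟨(psl hp F n hn).1, fun hne => (psl hp F n hn).2 ?_⟩
    rintro rfl hc
    exact hne ⟨F, inferInstance, inferInstance, hc, ⟨e⟩⟩
  · exact fin _ e (psp hp F m hm)
  · exact fin _ e (psu hp F n q hF hn)
  · exact fin _ e (omega_odd hp F m hm hodd)
  · exact fin _ e (omega_plus hp F m hm)
  · exact fin _ e (omega_minus hp F m hm a b hab)
  · have hq := fieldpow F p (pow_one _).symm one_ne_zero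
    rcases h with ⟨-, ⟨e⟩⟩ | ⟨⟨e⟩⟩ | ⟨⟨e⟩⟩ | ⟨⟨e⟩⟩ | ⟨⟨e⟩⟩
    · exact fin _ e (chev _ hp hq (Cfsg.Agent.Lib.ChevStructure.Order.CertG2.card_group rfl)
        (by decide) (by decide) (by decide) (by decide))
    · exact fin _ e (chev _ hp hq (Cfsg.Agent.Lib.ChevStructure.Order.CertF4.card_group rfl)
        (by decide) (by decide) (by decide) (by decide))
    · exact fin _ e (chev _ hp hq (Cfsg.Agent.Lib.ChevStructure.Order.CertE6.card_group rfl)
        (by decide) (by decide) (by decide) (by decide))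
    · exact fin _ e (chev _ hp hq (Cfsg.Agent.Lib.ChevStructure.Order.CertE7.card_group rfl)
        (by decide) (by decide) (by decide) (by decide))
    · exact fin _ e (chev _ hp hq (Cfsg.Agent.Lib.ChevStructure.Order.CertE8.card_group rfl)
        (by decide) (by decide) (by decide) (by decide))
  · rcases h with ⟨hK, ⟨e⟩⟩ | ⟨hK, ⟨e⟩⟩
    · exact fin _ e (e6 hp K hq hK)
    · exact fin _ e (d4 hp K hq hK)
  · exact fin _ e (sz hm hF)
  · exact fin _ e (f4 hK)
  · exact fin _ e (ree hK)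

end Cfsg.Agent.S2363
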