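import Cfsg.Statements.S2185
import Cfsg.Agent.Lib.TwistedF4Two.Main

set_option autoImplicit false
set_option maxRecDepth 8000
open Cfsg

namespace Cfsg.Agent.S2185

/-- In the group ²F₄(2) (realised inside the Chevalley group of type F₄ over the field with two elements, θ the identity) every element of order 2 lies in the commutator subgroup (the Tits group, of index 2): there are no involutions outside it. -/
theorem result (g : ↥(Cfsg.Lie.twistedF4 (ZMod 2) 1)) (hg : orderOf g = 2) :
    g ∈ commutator ↥(Cfsg.Lie.twistedF4 (ZMod 2) 1) := by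
  have h2 := Cfsg.Agent.Lib.TwistedF4Two.Cells.sq_of_orderOf g hg
  obtain ⟨c, hc, hu⟩ := Cfsg.Agent.Lib.TwistedF4Two.Cells.exists_conj_mem
    Cfsg.Agent.Lib.TwistedF4Two.Main.U12_le Cfsg.Agent.Lib.TwistedF4Two.Main.isPGroup_U12
    (fun x hx h => Cfsg.Agent.Lib.TwistedF4Two.Main.fix_coset hx h) g.2 h2
  refine Cfsg.Agent.Lib.TwistedF4Two.Cells.mem_commutator_of_ab g
    (Cfsg.Agent.Lib.TwistedF4Two.Cells.mem_commutator_of_conj g hc ?_)
  refine Cfsg.Agent.Lib.TwistedF4Two.Main.phi_involution hu ?_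
  rw [show ∀ a b : GL Cfsg.Lie.chevF4.Idx (ZMod 2), a⁻¹ * b * a * (a⁻¹ * b * a) = a⁻¹ * (b * b) * a from
    fun a b => by group, h2, mul_one, inv_mul_cancel]

end Cfsg.Agent.S2185
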