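import Cfsg.Statements.S0730
import Cfsg.Agent.Lib.SharpThree.Exists
import Cfsg.Agent.Lib.SharpThree.PGL
import Cfsg.Agent.Lib.SharpThree.OddDegree

set_option autoImplicit false
open Cfsg
open scoped Pointwise

namespace Cfsg.Agent.S0730

/-- A sharply triply transitive group of degree `p^f + 1`, `p` an odd prime and `f` odd, is isomorphic to the projective general linear group of degree 2 over the field with `p^f` elements (for even `f` there is a second, twisted, group). -/
theorem result {α : Type*} [Fintype α] [DecidableEq α] {p f : ℕ} (hp : p.Prime) (hp2 : p ≠ 2) (hfo : Odd f) (hα : Fintype.card α = p ^ f + 1) (G : Subgroup (Equiv.Perm α)) (h3 : MulAction.IsMultiplyPretransitive G α 3) (hsharp : ∀ x : Fin 3 ↪ α, MulAction.stabilizer G x = ⊥) : ∃ (F : Type) (_ : Field F) (_ : Fintype F), Fintype.card F = p ^ f ∧ Nonempty (G ≃* Matrix.ProjGenLinGroup (Fin 2) F) := by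
  classical
  haveI := h3
  obtain ⟨a, b, c, hab, hac, hbc⟩ : ∃ a b c : α, a ≠ b ∧ a ≠ c ∧ b ≠ c :=
    Fintype.two_lt_card_iff.1 (by
      have := Nat.le_self_pow (show f ≠ 0 from fun h => by simp [h] at hfo) p
      have := hp.two_le
      omega)
  obtain ⟨s, hsa, hsb, hsc⟩ := Cfsg.Agent.Lib.SharpThree.exists_of_trans (G := G) h3 a b c b a c
    hab hac hbc hab.symm hbc hac
  obtain ⟨q, j, V, _, F, hq, hj, hexp, hcard, -⟩ :=
    Cfsg.Agent.Lib.SharpThree.exists_frame (G := G) h3 hsharp hab hac hbc s hsa hsb hsc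
  have hα' : Nat.card α = p ^ f + 1 := by rw [Nat.card_eq_fintype_card, hα]
  have heq : p ^ f = q ^ j := by omega
  obtain rfl : q = p := by
    have h : q ∣ p ^ f := heq ▸ dvd_pow_self q (by omega)
    exact (Nat.prime_dvd_prime_iff_eq hq hp).1 (hq.dvd_of_dvd_pow h)
  have hV : Nat.card V = q ^ f := by have := F.card_V; omega
  obtain ⟨z, hz⟩ := F.exists_neg hq hexp
  have hinv := Cfsg.Agent.Lib.SharpThree.Frame.inverts_of_odd hz hq hp2 hexp hfo hV
  have hcomm : ∀ g h : F.H, g * h = h * g := fun g h => by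
    calc g * h = F.swap (g * h)⁻¹ := by rw [hinv, inv_inv]
      _ = F.swap h⁻¹ * F.swap g⁻¹ := by rw [mul_inv_rev, map_mul]
      _ = h * g := by rw [hinv, hinv, inv_inv, inv_inv]
  obtain ⟨K, hK, hK', hcK, he⟩ := F.nonempty_iso_pgl hcomm hinv
  exact ⟨K, hK, hK', by omega, he⟩

end Cfsg.Agent.S0730
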