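import Cfsg.Statements.S4438
import Cfsg.Agent.Lib.BrauerPairs.NormalCover

set_option autoImplicit false
set_option linter.style.haveILetI false
open Cfsg

namespace Cfsg.Agent.S4438

open Cfsg.Agent.Lib.BrauerPairs.Center Cfsg.Agent.Lib.BrauerPairs.Trunc
open Cfsg.Agent.Lib.BrauerPairs.Conj Cfsg.Agent.Lib.BrauerPairs.Pairs
open Cfsg.Agent.Lib.BrauerPairs.Transport Cfsg.Agent.Lib.BrauerPairs.Maximal
open Cfsg.Agent.Lib.BrauerPairs.NormalCover Cfsg.Agent.Lib.BrauerPairs.Bridge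

attribute [local instance] Ideal.Quotient.field

/-- Two blocks of a normal subgroup covered by one block are conjugate. -/
theorem exists_conjN_eq {k : Type*} [Field k] [IsAlgClosed k] {G : Type*} [Group G] [Finite G]
    {N : Subgroup G} [N.Normal] {ψ : Blk k G} {ν ν' : Blk k N} (h : Covers N ψ ν)
    (h' : Covers N ψ ν') : ∃ x : G, conjN N x ν = ν' := by
  classical
  set z : ZAlg k G := ⟨orbitIdem N ν, orbitIdem_mem_center N ν⟩
  set z' : ZAlg k G := ⟨orbitIdem N ν', orbitIdem_mem_center N ν'⟩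
  by_contra hne
  push Not at hne
  have hz : z * z' = 0 := by
    apply Subtype.ext
    show orbitIdem N ν * orbitIdem N ν' = 0
    rw [orbitIdem, orbitIdem, Finset.sum_mul]
    refine Finset.sum_eq_zero fun f hf => ?_
    rw [Finset.mul_sum]
    refine Finset.sum_eq_zero fun f' hf' => bext_mul_bext N ?_
    rintro rfl
    obtain ⟨x, hx⟩ := (mem_orbit N).mp hf
    obtain ⟨y, hy⟩ := (mem_orbit N).mp hf'
    refine hne (y⁻¹ * x) (bext_injective N ?_)
    rw [bext_conjN, conjA_mul, hx, ← hy, ← conjA_mul, inv_mul_cancel, conjA_one]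
  have h1 := congrArg ψ hz
  rw [map_mul, map_zero, (covers_iff N).mp h, (covers_iff N).mp h', one_mul] at h1
  exact one_ne_zero h1

/-- Let N be a normal subgroup of the finite group G, b a block of N with defect group Q, and B a block of G covering b (some member of B has a constituent in b on restriction to N), all relative to a maximal ideal M of the algebraic integers containing p. Then B has a defect group P with P ⊓ N = Q. -/
theorem result {G : Type*} [Group G] [Fintype G] (p : ℕ) [Fact p.Prime] (M : Ideal Cfsg.AlgInt) (hM : Cfsg.IsPModular p M) (N : Subgroup G) [hN : N.Normal] [Fintype N] (b : Set (Cfsg.IrrCharacter N)) (hb : Cfsg.IsPBlock M b) (Q : Subgroup G) (hQN : Q ≤ N) (hQ : Cfsg.IsDefectGroup p M b (Q.subgroupOf N)) (B : Set (Cfsg.IrrCharacter G)) (hB : Cfsg.IsPBlock M B) (hcov : (∃ χ ∈ B, ∃ θ ∈ b, Cfsg.classInner (fun n : N => (χ : G → ℂ) n) (θ : N → ℂ) ≠ 0)) : ∃ P : Subgroup G, Cfsg.IsDefectGroup p M B P ∧ P ⊓ N = Q :=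 by
  haveI : M.IsMaximal := hM.2.1
  haveI := charP_res hM
  obtain ⟨P₀, hP₀⟩ := exists_isDef (p := p) (blk hB)
  obtain ⟨ω, hω⟩ := exists_pairOf_isDef hP₀
  obtain ⟨ν, hν, -, g, hg, hne⟩ := exists_covers_fixed N hω
  obtain ⟨x, hx⟩ := exists_conjN_eq hν ((covers_iff_constituent N hB hb).mp hcov)
  have hg' : (⟨x * (g : G) * x⁻¹, hN.conj_mem _ g.2 x⟩ : N).1 ∈
      Subgroup.centralizer ((P₀.map (MulAut.conj x).toMonoidHom : Subgroup G) : Set G) :=
    (mem_centralizer_map_iff x P₀ (g : G)).mp hg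
  have hne' : (bidem (blk hb)).coeff ⟨x * (g : G) * x⁻¹, hN.conj_mem _ g.2 x⟩ ≠ 0 := by
    intro h0
    apply hne
    rw [← coeff_ext N (bidem ν) g, ← coeff_conjA_conj x]
    show (conjA x (bext N ν)).coeff _ = 0
    rw [← bext_conjN, hx]
    exact (coeff_ext N (bidem (blk hb)) ⟨x * (g : G) * x⁻¹, hN.conj_mem _ g.2 x⟩).trans h0
  obtain ⟨n, hn⟩ := isDef_conj
    (isDef_inf N ((covers_iff_constituent N hB hb).mp hcov) (hP₀.map_conj x) hg' hne')
    ((isDefectGroup_iff hb _).mp hQ)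
  refine ⟨(P₀.map (MulAut.conj x).toMonoidHom).map (MulAut.conj (n : G)).toMonoidHom,
    (isDefectGroup_iff hB _).mpr ((hP₀.map_conj x).map_conj (n : G)), ?_⟩
  set P₁ := P₀.map (MulAut.conj x).toMonoidHom
  ext y
  constructor
  · rintro ⟨hy, hyN⟩
    have hz := (mem_map_conj_iff (n : G) P₁ y).mp hy
    have hzN : (n : G)⁻¹ * y * n ∈ N := mul_mem (mul_mem (inv_mem n.2) hyN) n.2
    have h2 : (⟨y, hyN⟩ : N) ∈ Q.subgroupOf N := hn ▸ ⟨⟨_, hzN⟩, ⟨hz, hzN⟩, by
      apply Subtype.ext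
      simp [mul_assoc]⟩
    exact h2
  · intro hy
    have h2 : (⟨y, hQN hy⟩ : N) ∈ Q.subgroupOf N := hy
    rw [← hn] at h2
    obtain ⟨z, hz, hzy⟩ := h2
    exact ⟨⟨z, hz.1, congrArg Subtype.val hzy⟩, hQN hy⟩

end Cfsg.Agent.S4438
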