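import Cfsg.Statements.S5911
import Cfsg.Agent.Lib.Alternating.Aut
import Cfsg.Agent.Lib.Alternating.Basic
-- import your own Cfsg.Agent.* helpers here

set_option autoImplicit false
open Cfsg

namespace Cfsg.Agent.S5911

open Equiv

/-- The coset action of a subgroup of index `n` gives an automorphism taking it to a point
stabilizer. -/
theorem exists_aut {Ω : Type*} [Fintype Ω] [DecidableEq Ω] (h5 : 5 ≤ Fintype.card Ω)
    (H : Subgroup (Perm Ω)) (hH : H.index = Fintype.card Ω) :
    ∃ (ψ : Perm Ω ≃* Perm Ω) (x : Ω), ∀ g, g ∈ H ↔ ψ g x = x := by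
  classical
  let X := Perm Ω ⧸ H
  have hX : Nat.card X = Fintype.card Ω := hH
  haveI : Finite X := Nat.finite_of_card_ne_zero (by omega)
  let e : X ≃ Ω := (Finite.equivFinOfCardEq hX).trans (Fintype.equivFin Ω).symm
  let ρ := MulAction.toPermHom (Perm Ω) X
  have hker : ρ.ker = ⊥ := by
    rw [← Subgroup.normalCore_eq_ker]
    rcases Lib.Alternating.normal_perm h5 H.normalCore with h | h | h
    · exact h
    all_goals
      exfalso
      have hle := h ▸ H.normalCore_le
      have h1 := Subgroup.index_antitone hle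
      haveI : Nontrivial Ω := Fintype.one_lt_card_iff_nontrivial.mp (by omega)
      first
        | (rw [alternatingGroup.index_eq_two] at h1; omega)
        | (rw [Subgroup.index_top] at h1; omega)
  have hρ : Function.Injective ρ := (MonoidHom.ker_eq_bot_iff _).mp hker
  let φ : Perm Ω →* Perm Ω := e.permCongrHom.toMonoidHom.comp ρ
  have hφ : Function.Injective φ := e.permCongrHom.injective.comp hρ
  refine ⟨MulEquiv.ofBijective φ (Finite.injective_iff_bijective.mp hφ),
    e (QuotientGroup.mk (1 : Perm Ω)), fun g => ?_⟩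
  simp [φ, ρ, Equiv.permCongrHom_coe, Equiv.permCongr_apply]
  rw [← MulAction.mem_stabilizer_iff, MulAction.stabilizer_quotient]

/-- Small cases: if `c ∈ H` has a unique fixed point and generates a subgroup of index at most
two of `H`, then `H` fixes a point. -/
theorem le_stabilizer {Ω : Type*} [Fintype Ω] (H : Subgroup (Perm Ω)) (c : Perm Ω) (hc : c ∈ H)
    (h2 : Nat.card H = 2 * orderOf c ∨ Nat.card H = orderOf c) (x : Ω) (hx : ∀ y, c y = y ↔ y = x) :
    H ≤ MulAction.stabilizer (Perm Ω) x := by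
  classical
  let P : Subgroup H := Subgroup.zpowers ⟨c, hc⟩
  have hP : Nat.card P = orderOf c := by
    rw [Nat.card_zpowers, Subgroup.orderOf_mk]
  have hN : P.Normal := by
    rcases h2 with h2 | h2
    · refine Subgroup.normal_of_index_eq_two ?_
      have := P.index_mul_card
      rw [hP, h2] at this
      exact Nat.eq_of_mul_eq_mul_right (orderOf_pos c) this
    · rw [(Subgroup.eq_top_of_card_eq P (hP.trans h2.symm))]
      infer_instance
  intro h hh
  obtain ⟨k, hk⟩ := Subgroup.mem_zpowers_iff.mp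
    (hN.conj_mem _ (Subgroup.mem_zpowers (⟨c, hc⟩ : H)) (⟨h, hh⟩⁻¹))
  have hk' : c ^ k = h⁻¹ * c * h := by simpa using congrArg Subtype.val hk
  show h x = x
  refine (hx (h x)).mp ?_
  have hfix : (c ^ k) x = x := Equiv.Perm.zpow_apply_eq_self_of_apply_eq_self ((hx x).mpr rfl) k
  rw [hk'] at hfix
  exact Equiv.Perm.inv_eq_iff_eq.mp (by simpa using hfix)

theorem unique_fixed_four : ∀ c : Perm (Fin 4), c * c * c = 1 → c ≠ 1 →
    ∃ x, ∀ y, c y = y ↔ y = x := by decide +kernel

theorem unique_fixed_three : ∀ c : Perm (Fin 3), c * c = 1 → c ≠ 1 →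
    ∃ x, ∀ y, c y = y ↔ y = x := by decide +kernel

theorem unique_fixed {Ω : Type*} {n : ℕ} (e : Ω ≃ Fin n) (c : Perm Ω)
    (h : ∃ x, ∀ y, e.permCongr c y = y ↔ y = x) : ∃ x, ∀ y, c y = y ↔ y = x := by
  obtain ⟨x, hx⟩ := h
  refine ⟨e.symm x, fun y => ?_⟩
  rw [Equiv.eq_symm_apply, ← hx (e y)]
  simp [Equiv.permCongr_apply]

/-- Let Ω be a finite set whose size n is not 6. Then every subgroup of the symmetric group on Ω of index n is the stabilizer of a point. -/
theorem result {Ω : Type*} [Fintype Ω] [DecidableEq Ω] (h6 : Fintype.card Ω ≠ 6)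
    (H : Subgroup (Equiv.Perm Ω)) (hH : H.index = Fintype.card Ω) :
    ∃ x : Ω, H = MulAction.stabilizer (Equiv.Perm Ω) x := by
  classical
  have hpos : H.index ≠ 0 := Subgroup.index_ne_zero_of_finite
  have hmul := H.index_mul_card
  rw [hH, Nat.card_perm, Nat.card_eq_fintype_card (α := Ω)] at hmul
  have hstab : ∀ x : Ω, H ≤ MulAction.stabilizer (Perm Ω) x →
      H = MulAction.stabilizer (Perm Ω) x := by
    intro x hle
    refine Subgroup.eq_of_le_of_card_ge hle ?_
    haveI : MulAction.IsPretransitive (Perm Ω) Ω := ⟨fun a b => ⟨swap a b, swap_apply_left a b⟩⟩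
    have h2 := (MulAction.stabilizer (Perm Ω) x).index_mul_card
    rw [MulAction.index_stabilizer_of_transitive, Nat.card_perm, Nat.card_eq_fintype_card (α := Ω),
      ← hmul] at h2
    exact le_of_eq (Nat.eq_of_mul_eq_mul_left (by omega) h2)
  obtain ⟨n, hn⟩ : ∃ n, Fintype.card Ω = n := ⟨_, rfl⟩
  rw [hn] at hH h6 hmul
  rcases Nat.lt_or_ge n 5 with h5 | h5
  · let e : Ω ≃ Fin n := Fintype.equivFinOfCardEq hn
    interval_cases n
    · exact absurd hH hpos
    · haveI : Subsingleton Ω := e.subsingleton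
      exact ⟨e.symm 0, hstab _ fun g _ => Subsingleton.elim _ _⟩
    · refine ⟨e.symm 0, hstab _ fun g hg => ?_⟩
      have hbot : H = ⊥ := Subgroup.eq_bot_of_card_eq _ (by rw [show (2 : ℕ).factorial = 2 from rfl] at hmul; omega)
      rw [hbot, Subgroup.mem_bot] at hg
      simp [hg]
    · have hcard : Nat.card H = 2 := by rw [show (3 : ℕ).factorial = 6 from rfl] at hmul; omega
      obtain ⟨c, hc⟩ := exists_prime_orderOf_dvd_card' 2 (G := H) (by rw [hcard])
      have hc' : orderOf (c : Perm Ω) = 2 := by rw [Subgroup.orderOf_coe, hc]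
      obtain ⟨x, hx⟩ := unique_fixed e (c : Perm Ω) (unique_fixed_three _
        (by rw [← sq, ← Equiv.permCongrHom_coe, ← map_pow, ← hc', pow_orderOf_eq_one, map_one])
        (fun h => by
          rw [← Equiv.permCongrHom_coe, MulEquiv.map_eq_one_iff] at h
          rw [h, orderOf_one] at hc'; omega))
      exact ⟨x, hstab x (le_stabilizer H c c.2 (Or.inr (hcard.trans hc'.symm)) x hx)⟩
    · have hcard : Nat.card H = 6 := by rw [show (4 : ℕ).factorial = 24 from rfl] at hmul; omega
      haveI : Fact (Nat.Prime 3) := ⟨Nat.prime_three⟩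
      obtain ⟨c, hc⟩ := exists_prime_orderOf_dvd_card' 3 (G := H) (by rw [hcard]; norm_num)
      have hc' : orderOf (c : Perm Ω) = 3 := by rw [Subgroup.orderOf_coe, hc]
      obtain ⟨x, hx⟩ := unique_fixed e (c : Perm Ω) (unique_fixed_four _
        (by rw [mul_assoc, ← Equiv.permCongrHom_coe, ← map_mul, ← map_mul,
              show (c : Perm Ω) * (c * c) = (c : Perm Ω) ^ 3 by simp [pow_succ, mul_assoc],
              ← hc', pow_orderOf_eq_one, map_one])
        (fun h => by
          rw [← Equiv.permCongrHom_coe, MulEquiv.map_eq_one_iff] at h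
          rw [h, orderOf_one] at hc'; omega))
      exact ⟨x, hstab x (le_stabilizer H c c.2 (Or.inl (by omega)) x hx)⟩
  · have hcardn : 5 ≤ Fintype.card Ω := hn ▸ h5
    haveI : Nontrivial Ω := Fintype.one_lt_card_iff_nontrivial.mp (by omega)
    obtain ⟨ψ, x, hψ⟩ := exists_aut hcardn H (hH.trans hn.symm)
    have hA : (alternatingGroup Ω).map ψ.toMonoidHom = alternatingGroup Ω :=
      Equiv.Perm.eq_alternatingGroup_of_index_eq_two
        (by rw [Subgroup.index_map_of_bijective ψ.bijective, alternatingGroup.index_eq_two])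
    let ψA : MulAut (alternatingGroup Ω) :=
      (ψ.subgroupMap (alternatingGroup Ω)).trans (MulEquiv.subgroupCongr hA)
    obtain ⟨σ, hσ⟩ := Lib.Alternating.exists_conj_eq (by omega) (by omega) ψA
    have hσ' : ∀ a ∈ alternatingGroup Ω, ψ a = σ * a * σ⁻¹ := fun a ha => hσ ⟨a, ha⟩
    have hinner : ∀ g, ψ g = σ * g * σ⁻¹ := by
      intro g
      have key : (σ * g)⁻¹ * (ψ g * σ) = 1 := by
        refine Lib.Alternating.eq_one_of_commute_alt (by omega) fun a ha => ?_
        have h1 := hσ' (g * a * g⁻¹) ((inferInstance : (alternatingGroup Ω).Normal).conj_mem a ha g)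
        rw [map_mul, map_mul, map_inv, hσ' a ha] at h1
        have h2 : ψ g * σ * a = σ * g * a * ((σ * g)⁻¹ * (ψ g * σ)) := by
          calc ψ g * σ * a = (ψ g * (σ * a * σ⁻¹) * (ψ g)⁻¹) * (ψ g * σ) := by group
            _ = σ * (g * a * g⁻¹) * σ⁻¹ * (ψ g * σ) := by rw [h1]
            _ = _ := by group
        show (σ * g)⁻¹ * (ψ g * σ) * a = a * ((σ * g)⁻¹ * (ψ g * σ))
        rw [mul_assoc, h2]
        group
      have : ψ g * σ = σ * g := by rwa [inv_mul_eq_one, eq_comm] at key
      rw [← this]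
      group
    refine ⟨σ⁻¹ x, ?_⟩
    ext g
    rw [hψ, hinner, MulAction.mem_stabilizer_iff, Perm.smul_def]
    simp only [Perm.mul_apply]
    rw [← Equiv.Perm.eq_inv_iff_eq]

end Cfsg.Agent.S5911
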