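import Cfsg.Statements.S0327
import Cfsg.Agent.Lib.LieTwisted.SuzukiSylow

set_option autoImplicit false
open Cfsg

namespace Cfsg.Agent.S0327

open Cfsg.Agent Cfsg.Agent.Lib.LieTwisted.Suzuki
open scoped Matrix

/-- The Suzuki group (`m ≥ 1`) is a Zassenhaus group on the `q² + 1` points of the Suzuki–Tits ovoid. -/
theorem result {F : Type*} [Field F] [Fintype F] {m : ℕ} (hm : 1 ≤ m)
    (hF : Fintype.card F = 2 ^ (2 * m + 1)) :
    Cfsg.IsZassenhausGroup (Cfsg.Sz F m) (Cfsg.suzukiOvoid F m) := by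
  have h : Lib.LieTwisted.Suzuki.IsSzField F m := ⟨hF⟩
  have hval : ∀ (g : Cfsg.Sz F m) (p q : Option (F × F)),
      g • ovPt m p = ovPt m q ↔ g • opt m p = opt m q := fun g p q =>
    ⟨fun hh => congrArg Subtype.val hh, fun hh => Subtype.ext hh⟩
  have hsurj : ∀ a : Cfsg.suzukiOvoid F m, ∃ p, ovPt m p = a := (ovPt_bijective m).2
  have hfree : ∀ g : Cfsg.Sz F m, ∀ a b c : Cfsg.suzukiOvoid F m,
      a ≠ b → b ≠ c → a ≠ c → g • a = a → g • b = b → g • c = c → g = 1 := by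
    intro g a b c hab hbc hac ha hb hc
    obtain ⟨p, rfl⟩ := hsurj a
    obtain ⟨q, rfl⟩ := hsurj b
    obtain ⟨g0, h1, h2⟩ := h.exists_pair hm (fun hpq => hab (congrArg _ hpq))
    obtain ⟨r, hr⟩ := hsurj (g0⁻¹ • c)
    have hfix : ∀ (s t : Option (F × F)), g0 • opt m s = opt m t → g • ovPt m t = ovPt m t →
        (g0⁻¹ * g * g0) • opt m s = opt m s := by
      intro s t hst ht
      rw [mul_smul, mul_smul, hst, (hval g t t).1 ht, inv_smul_eq_iff, hst]
    have hgc : (g0⁻¹ * g * g0) • opt m r = opt m r := by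
      have : (g0⁻¹ * g * g0) • ovPt m r = ovPt m r := by
        rw [hr, mul_smul, mul_smul, smul_inv_smul, hc]
      exact (hval _ _ _).1 this
    have hn : r ≠ none := by
      rintro rfl
      apply hac
      rw [(hval g0 none p).2 h1 |>.symm, hr, smul_inv_smul]
    have hz : r ≠ some (0, 0) := by
      rintro rfl
      apply hbc
      rw [(hval g0 (some (0, 0)) q).2 h2 |>.symm, hr, smul_inv_smul]
    obtain ⟨⟨x, y⟩, rfl⟩ := Option.ne_none_iff_exists'.1 hn
    have h3 := h.fix_three hm (hfix _ _ h1 ha) (hfix _ _ h2 hb)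
      (by rintro ⟨rfl, rfl⟩; exact hz rfl) hgc
    calc g = g0 * (g0⁻¹ * g * g0) * g0⁻¹ := by group
      _ = 1 := by rw [h3]; group
  obtain ⟨t, ht0, ht1⟩ := h.exists_ne01 hm
  have hd : dS h (Units.mk0 t ht0) ≠ 1 := fun he => ht1 (congrArg Units.val
    (h.dS_injective (he.trans (map_one (dS h)).symm)))
  refine ⟨⟨fun {g k} hgk => ?_⟩, ?_, hfree, ⟨dS h (Units.mk0 t ht0), hd, ovPt m none, ovPt m (some (0, 0)),
    fun he => by simpa using (ovPt_bijective m).1 he,
    (hval _ _ _).2 (h.dS_smul_none _), (hval _ _ _).2 (h.dS_smul_zero _)⟩, ?_⟩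
  · refine (inv_mul_eq_one.1 (h.faithful hm (g := k⁻¹ * g) fun p => ?_)).symm
    rw [← hval, mul_smul, hgk, inv_smul_smul]
  · rw [MulAction.is_two_pretransitive_iff]
    intro a b c d hab hcd
    obtain ⟨pa, rfl⟩ := hsurj a
    obtain ⟨pb, rfl⟩ := hsurj b
    obtain ⟨pc, rfl⟩ := hsurj c
    obtain ⟨pd, rfl⟩ := hsurj d
    obtain ⟨g1, h1, h2⟩ := h.exists_pair hm (fun he => hab (congrArg _ he))
    obtain ⟨g2, h3, h4⟩ := h.exists_pair hm (fun he => hcd (congrArg _ he))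
    refine ⟨g2 * g1⁻¹, ?_, ?_⟩
    · rw [hval, mul_smul, ← h1, inv_smul_smul, h3]
    · rw [hval, mul_smul, ← h2, inv_smul_smul, h4]
  · intro N hN hT
    refine ⟨ovPt m none, ?_⟩
    haveI := h.isSimple hm
    rcases hN.eq_bot_or_eq_top with rfl | rfl
    · exfalso
      obtain ⟨⟨n, hn⟩, hne⟩ := hT.exists_smul_eq (ovPt (F := F) m none) (ovPt m (some (0, 0)))
      obtain rfl := Subgroup.mem_bot.1 hn
      have hne' : (1 : Cfsg.Sz F m) • ovPt m none = ovPt m (some ((0 : F), (0 : F))) := hne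
      rw [one_smul] at hne'
      simpa using (ovPt_bijective m).1 hne'
    · intro hbot
      have hmem : (⟨dS h (Units.mk0 t ht0), Subgroup.mem_top _⟩ : (⊤ : Subgroup (Cfsg.Sz F m))) ∈
          MulAction.stabilizer (⊤ : Subgroup (Cfsg.Sz F m)) (ovPt m none) :=
        (hval _ _ _).2 (h.dS_smul_none _)
      rw [hbot, Subgroup.mem_bot] at hmem
      exact hd (congrArg Subtype.val hmem)

end Cfsg.Agent.S0327
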