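import Cfsg.Statements.S4116
import Mathlib
import Cfsg.Agent.Lib.Frobenius.Basic
-- import your own Cfsg.Agent.* helpers here

set_option autoImplicit false
open Cfsg

namespace Cfsg.Agent.S4116

open scoped Pointwise

variable {G : Type*} [Group G] [Finite G]

theorem mem_of_normalizes (H : Subgroup G) (hHall : (Nat.card H).Coprime H.index) {x : G}
    (hx : x ∈ Subgroup.normalizer (H : Set G))
    (hpi : ∀ q : ℕ, q.Prime → q ∣ orderOf x → q ∣ Nat.card H) : x ∈ H := by
  set N := Subgroup.normalizer (H : Set G) with hN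
  haveI : (H.subgroupOf N).Normal := Subgroup.normal_in_normalizer
  have h1 : ((⟨x, hx⟩ : N) : N ⧸ H.subgroupOf N) = 1 := by
    rw [← orderOf_eq_one_iff]
    by_contra hne
    obtain ⟨r, hr, hrd⟩ := Nat.exists_prime_and_dvd hne
    have h2 : r ∣ Nat.card H := hpi r hr ((hrd.trans (orderOf_map_dvd (QuotientGroup.mk' (H.subgroupOf N)) (⟨x, hx⟩ : N))).trans (Subgroup.orderOf_mk x hx).dvd)
    have h3 : r ∣ H.index := (hrd.trans (orderOf_dvd_natCard _)).trans (Subgroup.relIndex_dvd_index_of_le Subgroup.le_normalizer)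
    exact hr.ne_one (Nat.eq_one_of_dvd_coprimes hHall h2 h3)
  exact (QuotientGroup.eq_one_iff (N := H.subgroupOf N) (⟨x, hx⟩ : N)).1 h1

theorem exists_conj_mem (H : Subgroup G) (hHall : (Nat.card H).Coprime H.index) {x : G} {r : ℕ} (hr : r.Prime)
    (hx : orderOf x = r) (hrH : r ∣ Nat.card H) : ∃ g : G, g⁻¹ * x * g ∈ H := by
  haveI := Fact.mk hr
  obtain ⟨P, hP⟩ := (IsPGroup.of_card (p := r) (n := 1) (G := Subgroup.zpowers x)
    (by rw [Nat.card_zpowers, hx, pow_one])).exists_le_sylow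
  obtain ⟨S⟩ : Nonempty (Sylow r H) := Sylow.nonempty
  have hmap : IsPGroup r ((S : Subgroup H).map H.subtype) := S.2.map _
  have hc : Nat.card ((S : Subgroup H).map H.subtype) = r ^ (Nat.card G).factorization r := by
    rw [Subgroup.card_map_of_injective H.subtype_injective, Sylow.card_eq_multiplicity, ← H.card_mul_index,
      Nat.factorization_mul Nat.card_pos.ne' Subgroup.index_ne_zero_of_finite, Finsupp.add_apply,
      Nat.factorization_eq_zero_of_not_dvd (fun h => hr.ne_one (Nat.eq_one_of_dvd_coprimes hHall hrH h)), add_zero]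
  obtain ⟨g, hg⟩ := MulAction.exists_smul_eq G (Sylow.ofCard _ hc) P
  refine ⟨g, Subgroup.map_subtype_le _ (?_ : g⁻¹ * x * g ∈ (S : Subgroup H).map H.subtype)⟩
  have h := hP (Subgroup.mem_zpowers x)
  rw [← hg, Sylow.coe_subgroup_smul, Lib.Frobenius.mem_conj_smul] at h
  exact h

/-- Let G be a finite group with a subgroup H whose order is coprime to its index (a Hall subgroup) and which meets each of its conjugates by elements outside N_G(H) trivially. Then every subgroup of G whose order is divisible only by primes dividing the order of H lies in a conjugate of H. -/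
theorem result {G : Type*} [Group G] [Finite G] (H : Subgroup G)
    (hHall : (Nat.card H).Coprime H.index) (hTI : Cfsg.IsTISubset (H : Set G))
    (K : Subgroup G) (hK : ∀ q : ℕ, q.Prime → q ∣ Nat.card K → q ∣ Nat.card H) :
    ∃ g : G, K ≤ H.map (MulAut.conj g).toMonoidHom := by
  by_cases hK1 : K = ⊥
  · exact ⟨1, by simp [hK1]⟩
  haveI : Nontrivial K := (Subgroup.nontrivial_iff_ne_bot _).2 hK1
  -- move `K` so that it meets `H`
  obtain ⟨r, hr, hrd⟩ := Nat.exists_prime_and_dvd (n := Nat.card K) Finite.one_lt_card.ne'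
  haveI := Fact.mk hr
  obtain ⟨x, hx⟩ := exists_prime_orderOf_dvd_card' (G := K) r hrd
  rw [← Subgroup.orderOf_coe] at hx
  obtain ⟨g, hg⟩ := exists_conj_mem H hHall hr hx (hK r hr hrd)
  suffices h : K.map (MulAut.conj g⁻¹).toMonoidHom ≤ H by
    refine ⟨g, fun y hy => ⟨g⁻¹ * y * g, h ⟨y, hy, by simp⟩, ?_⟩⟩
    simp only [MulEquiv.coe_toMonoidHom, MulAut.conj_apply]; group
  set L := K.map (MulAut.conj g⁻¹).toMonoidHom with hLdef
  have hLx : g⁻¹ * (x : G) * g ∈ L := ⟨x, x.2, by simp⟩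
  have hL : ∀ y ∈ L, ∀ q : ℕ, q.Prime → q ∣ orderOf y → q ∣ Nat.card H := by
    rintro _ ⟨y, hy, rfl⟩ q hq hd
    rw [MulEquiv.coe_toMonoidHom, MulEquiv.orderOf_eq] at hd
    exact hK q hq (hd.trans (Subgroup.orderOf_dvd_natCard K hy))
  -- a conjugate of `H` meeting `L` nontrivially gives a Frobenius complement of `L`
  have hFC : ∀ c : G, (∃ z ∈ L, z ≠ 1 ∧ c⁻¹ * z * c ∈ H) → ¬ (∀ z ∈ L, c⁻¹ * z * c ∈ H) →
      Cfsg.IsFrobeniusComplement ((MulAut.conj c • H).subgroupOf L) := by
    rintro c ⟨z, hz, hz1, hzH⟩ hnot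
    rw [Lib.Frobenius.isFrobeniusComplement_iff]
    refine ⟨?_, ?_, ?_⟩
    · intro hb
      have : (⟨z, hz⟩ : L) ∈ (MulAut.conj c • H).subgroupOf L := Lib.Frobenius.mem_conj_smul.2 hzH
      rw [hb, Subgroup.mem_bot] at this
      exact hz1 (congrArg Subtype.val this)
    · intro ht
      refine hnot fun z hz => Lib.Frobenius.mem_conj_smul.1 (Subgroup.mem_subgroupOf.1 (ht ▸ Subgroup.mem_top (⟨z, hz⟩ : L)))
    · intro k hk y hy hy'
      by_contra hy1
      apply hk
      rw [Subgroup.mem_subgroupOf, Lib.Frobenius.mem_conj_smul] at hy hy' ⊢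
      have hN : c⁻¹ * (k : G) * c ∈ Subgroup.normalizer (H : Set G) := by
        rw [← inv_mem_iff]
        by_contra hn
        have h0 := hTI _ hn _ hy ?_
        · apply hy1; apply Subtype.ext
          calc (y : G) = c * (c⁻¹ * (y : G) * c) * c⁻¹ := by group
            _ = 1 := by rw [h0]; group
        · have e : (c⁻¹ * (k : G) * c)⁻¹ * (c⁻¹ * (y : G) * c) * (c⁻¹ * (k : G) * c)⁻¹⁻¹
              = c⁻¹ * ((k⁻¹ * y * k : L) : G) * c := by push_cast; group
          rw [e]; exact hy'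
      refine mem_of_normalizes H hHall hN fun q hq hd => hL k k.2 q hq ?_
      rwa [show c⁻¹ * (k : G) * c = MulAut.conj c⁻¹ (k : G) by simp, MulEquiv.orderOf_eq] at hd
  by_contra hLH
  have hD := hFC 1 ⟨_, hLx, fun e => by
      have : (x : G) = 1 := by
        calc (x : G) = g * (g⁻¹ * x * g) * g⁻¹ := by group
          _ = 1 := by rw [e]; group
      rw [this, orderOf_one] at hx; exact hr.ne_one hx.symm, by simpa using hg⟩
    (fun h => hLH fun z hz => by simpa using h z hz)
  rw [map_one, one_smul] at hD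
  obtain ⟨s, hs, hsd⟩ := Nat.exists_prime_and_dvd (n := (H.subgroupOf L).index) (by simpa using hD.2.1)
  haveI := Fact.mk hs
  obtain ⟨y, hy⟩ := exists_prime_orderOf_dvd_card' (G := L) s (hsd.trans (Subgroup.index_dvd_card _))
  have hsH : s ∣ Nat.card H := hL y y.2 s hs (by rw [Subgroup.orderOf_coe, hy])
  obtain ⟨c, hc⟩ := exists_conj_mem H hHall hs (by rw [Subgroup.orderOf_coe, hy]) hsH
  have hsD : ¬ s ∣ Nat.card (H.subgroupOf L) := fun h =>
    hs.ne_one (Nat.eq_one_of_dvd_coprimes (Lib.Frobenius.coprime_card_index hD) h hsd)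
  set D' := (MulAut.conj c • H).subgroupOf L with hD'def
  have hyD : y ∈ D' := Lib.Frobenius.mem_conj_smul.2 hc
  have hsD' : s ∣ Nat.card D' := hy ▸ Subgroup.orderOf_dvd_natCard D' hyD
  obtain ⟨b, z, hz1, hzH, hzb⟩ : ∃ (b z : G), z ≠ 1 ∧ z ∈ H ∧ b⁻¹ * z * b ∈ H ∧
      ∀ w : L, w ∈ D' → ∃ k : L, MulAut.conj b • H = MulAut.conj (k : G) • MulAut.conj c • H := by
    by_cases hall : ∀ z ∈ L, c⁻¹ * z * c ∈ H
    · refine ⟨c, g⁻¹ * x * g, ?_, hg, hall _ hLx, fun w _ => ⟨1, by simp⟩⟩
      intro e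
      have : (x : G) = 1 := by
        calc (x : G) = g * (g⁻¹ * x * g) * g⁻¹ := by group
          _ = 1 := by rw [e]; group
      rw [this, orderOf_one] at hx; exact hr.ne_one hx.symm
    · have hy1 : (y : G) ≠ 1 := fun e => by
        rw [← Subgroup.orderOf_coe, e, orderOf_one] at hy; exact hs.ne_one hy.symm
      obtain ⟨w, ⟨hw1, a, ha⟩, -, b, hb⟩ := Lib.Frobenius.conjUnion_inter_nonempty hD (hFC c ⟨y, y.2, hy1, hc⟩ hall)
      rw [Subgroup.mem_subgroupOf] at ha hb
      rw [Lib.Frobenius.mem_conj_smul] at hb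
      refine ⟨(a : G)⁻¹ * b * c, ((a⁻¹ * w * a : L) : G), ?_, ha, ?_, fun _ _ => ⟨a⁻¹ * b, ?_⟩⟩
      · intro e
        apply hw1
        have : a⁻¹ * w * a = 1 := Subtype.ext e
        calc w = a * (a⁻¹ * w * a) * a⁻¹ := by group
          _ = 1 := by rw [this]; group
      · push_cast at hb ⊢
        convert hb using 1
        group
      · rw [← mul_smul, ← map_mul]; push_cast; rfl
  obtain ⟨hzbH, hk⟩ := hzb
  have hbN : b ∈ Subgroup.normalizer (H : Set G) := by
    rw [← inv_mem_iff]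
    by_contra hn
    exact hz1 (hTI _ hn z hzH (by simpa using hzbH))
  obtain ⟨k, hk⟩ := hk y hyD
  have hbH : MulAut.conj b • H = H := by
    ext w
    rw [Lib.Frobenius.mem_conj_smul]
    have := (Subgroup.mem_normalizer_iff.1 hbN (b⁻¹ * w * b))
    rw [show b * (b⁻¹ * w * b) * b⁻¹ = w by group] at this
    exact this
  rw [hbH] at hk
  apply hsD
  rw [show H.subgroupOf L = D'.map (MulAut.conj k).toMonoidHom from ?_, Subgroup.card_map_of_injective (MulAut.conj k).injective]
  · exact hsD'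
  · ext w
    conv_lhs => rw [Subgroup.mem_subgroupOf, hk, Lib.Frobenius.mem_conj_smul, Lib.Frobenius.mem_conj_smul]
    rw [Lib.Frobenius.map_conj_eq_smul, Lib.Frobenius.mem_conj_smul, hD'def, Subgroup.mem_subgroupOf, Lib.Frobenius.mem_conj_smul]
    push_cast
    rfl

end Cfsg.Agent.S4116
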