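import Cfsg.Statements.S4115
import Mathlib
import Cfsg.Agent.S4116
import Cfsg.Agent.Lib.Brauer.HallExtension
import Cfsg.Agent.Lib.FrobComplement.Build
import Cfsg.Agent.Lib.PGroups.Frattini

set_option autoImplicit false
universe u
open Cfsg

namespace Cfsg.Agent.S4115

open Subgroup
open scoped commutatorElement

theorem hall_of_ti {G : Type*} [Group G] [Finite G] (H : Subgroup G) (hTI : Cfsg.IsTISubset (H : Set G))
    (hHall : (Nat.card H).Coprime (H.subgroupOf (normalizer (H : Set G))).index) :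
    (Nat.card H).Coprime H.index := by
  refine Nat.coprime_of_dvd fun p hp hpH hpi => ?_
  haveI := Fact.mk hp
  set N := normalizer (H : Set G) with hN
  obtain ⟨S⟩ : Nonempty (Sylow p H) := inferInstance
  set P := (S : Subgroup H).map H.subtype with hP
  have hPH : P ≤ H := map_subtype_le _
  have hcP : Nat.card P = p ^ (Nat.card H).factorization p := by
    rw [hP, card_map_of_injective H.subtype_injective, S.card_eq_multiplicity]
  set n := (Nat.card H).factorization p with hn
  have hn1 : 1 ≤ n := (hp.dvd_iff_one_le_factorization Nat.card_pos.ne').1 hpH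
  have hdvd : p ^ (n + 1) ∣ Nat.card G := by
    rw [pow_succ, ← H.card_mul_index]
    exact mul_dvd_mul (Nat.ordProj_dvd _ _) hpi
  obtain ⟨R, hR, hPR⟩ := Sylow.exists_subgroup_card_pow_succ hdvd hcP
  have hRN : R ≤ N := by
    intro g hg
    by_contra hgN
    obtain ⟨z, hzP, hz1⟩ : ∃ z ∈ P, z ≠ 1 := by
      by_contra hcon
      push Not at hcon
      rw [(eq_bot_iff_forall _).2 hcon, card_bot] at hcP
      exact absurd hcP.symm (Nat.one_lt_pow (by omega) hp.one_lt).ne'
    haveI : (P.subgroupOf R).Normal := by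
      refine Subgroup.normal_of_index_eq_minFac_card ?_
      have h1 := card_mul_index (P.subgroupOf R)
      rw [Nat.card_congr (subgroupOfEquivOfLe hPR).toEquiv, hcP, hR, pow_succ] at h1
      rw [Nat.eq_of_mul_eq_mul_left (Nat.pow_pos hp.pos) h1, hR, Nat.pow_minFac (by omega), hp.minFac_eq]
    have h2 := (inferInstance : (P.subgroupOf R).Normal).conj_mem ⟨z, hPR hzP⟩ hzP ⟨g, hg⟩
    exact hz1 (hTI g hgN z (hPH hzP) (hPH h2))
  have h1 : p ^ (n + 1) ∣ Nat.card N := hR ▸ card_dvd_of_le hRN
  rw [← card_mul_index (H.subgroupOf N),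
    Nat.card_congr (subgroupOfEquivOfLe (le_normalizer (H := H))).toEquiv] at h1
  have h2 := ((hHall.coprime_dvd_left hpH).pow_left (n + 1)).dvd_of_dvd_mul_right h1
  exact absurd ((hp.pow_dvd_iff_le_factorization Nat.card_pos.ne').1 h2) (by omega)

/-- A normal complement in the normalizer gives one in the whole group. -/
theorem exists_complement {G : Type*} [Group G] [Finite G] (H : Subgroup G)
    (hTI : Cfsg.IsTISubset (H : Set G)) (hH : (Nat.card H).Coprime H.index)
    (K : Subgroup (normalizer (H : Set G))) (hK : K.Normal)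
    (hKH : K.IsComplement' (H.subgroupOf (normalizer (H : Set G)))) :
    ∃ N : Subgroup G, N.Normal ∧ N.IsComplement' H := by
  haveI := Fintype.ofFinite G
  set N := normalizer (H : Set G) with hN
  haveI : (H.subgroupOf N).Normal := normal_in_normalizer
  have hfus : ∀ x ∈ H, ∀ y ∈ H, IsConj x y → ∃ h ∈ H, h * x * h⁻¹ = y := by
    intro x hx y hy hc
    obtain ⟨g, rfl⟩ := isConj_iff.1 hc
    by_cases hx1 : x = 1
    · exact ⟨1, one_mem _, by simp [hx1]⟩
    by_cases hg : g ∈ N
    swap
    · exact absurd (hTI g hg x hx hy) hx1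
    obtain ⟨⟨k, h⟩, hkh⟩ := hKH.2 (⟨g, hg⟩ : N)
    refine ⟨(h : N), mem_subgroupOf.1 h.2, ?_⟩
    have hcomm := Subgroup.commute_of_normal_of_disjoint _ _ hK inferInstance hKH.disjoint (k : N)
      (⟨((h : N) : G) * x * ((h : N) : G)⁻¹, le_normalizer (H.mul_mem (H.mul_mem
        (mem_subgroupOf.1 h.2) hx) (H.inv_mem (mem_subgroupOf.1 h.2)))⟩) k.2
      (mem_subgroupOf.2 (H.mul_mem (H.mul_mem (mem_subgroupOf.1 h.2) hx)
        (H.inv_mem (mem_subgroupOf.1 h.2))))
    have h1 : ((k : N) : G) * (((h : N) : G) * x * ((h : N) : G)⁻¹) =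
        ((h : N) : G) * x * ((h : N) : G)⁻¹ * ((k : N) : G) := congrArg Subtype.val hcomm.eq
    have hkh' : ((k : N) : G) * ((h : N) : G) = g := congrArg Subtype.val hkh
    rw [← hkh', show ((k : N) : G) * ((h : N) : G) * x * (((k : N) : G) * ((h : N) : G))⁻¹ =
      ((k : N) : G) * (((h : N) : G) * x * ((h : N) : G)⁻¹) * ((k : N) : G)⁻¹ by group, h1,
      mul_inv_cancel_right]
  have helem : ∀ (E : Subgroup G) (p : ℕ), p.Prime → Cfsg.IsElementary p E →
      Nat.card E ∣ Nat.card H → ∃ g : G, E.map (MulAut.conj g).toMonoidHom ≤ H := by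
    intro E p _ _ hE
    obtain ⟨g, hg⟩ := S4116.result H hH hTI E fun q _ hd => hd.trans hE
    refine ⟨g⁻¹, ?_⟩
    rintro _ ⟨x, hx, rfl⟩
    obtain ⟨y, hy, rfl⟩ := hg hx
    simpa [mul_assoc] using hy
  obtain ⟨M, hM, hsup, hinf⟩ := Lib.Brauer.HallExtension.exists_complement (H := H) ⟨hH, hfus, helem⟩
  refine ⟨M, hM, isComplement'_of_disjoint_and_mul_eq_univ (disjoint_iff.2 hinf) ?_⟩
  rw [← normal_mul M H, hsup, coe_top]

theorem exists_normalized_sylow {G : Type*} [Group G] [Finite G] (H : Subgroup G)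
    (hTI : Cfsg.IsTISubset (H : Set G)) (hH : (Nat.card H).Coprime H.index) (M : Subgroup G)
    [M.Normal] (hM : M.IsComplement' H) (q : ℕ) [Fact q.Prime] :
    ∃ Q : Sylow q M, H ≤ normalizer (((Q : Subgroup M).map M.subtype : Subgroup G) : Set G) := by
  obtain ⟨Q₀⟩ : Nonempty (Sylow q M) := inferInstance
  set T := normalizer (((Q₀ : Subgroup M).map M.subtype : Subgroup G) : Set G) with hT
  have hTM : T ⊔ M = ⊤ := Q₀.normalizer_sup_eq_top
  have hidx : (M.subgroupOf T).index = Nat.card H := by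
    have h1 : M.relIndex (T ⊔ M) = M.relIndex T := relIndex_sup_right _ _
    rw [hTM, relIndex_top_right, hM.symm.index_eq_card] at h1
    exact h1.symm
  have hcard : (Nat.card (M.subgroupOf T)).Coprime (Nat.card H) := by
    rw [← hM.symm.index_eq_card]
    refine Nat.Coprime.coprime_dvd_left ?_ (?_ : (Nat.card M).Coprime M.index)
    · exact card_comap_dvd_of_injective M T.subtype T.subtype_injective
    · rw [hM.symm.index_eq_card, ← hM.index_eq_card]
      exact hH.symm
  obtain ⟨L, hL⟩ := exists_right_complement'_of_coprime (N := M.subgroupOf T) (hidx.symm ▸ hcard)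
  have hLc : Nat.card (L.map T.subtype) = Nat.card H := by
    rw [card_map_of_injective T.subtype_injective, ← hL.symm.index_eq_card, hidx]
  obtain ⟨g, hg⟩ := S4116.result H hH hTI (L.map T.subtype) fun r _ hd => hLc ▸ hd
  have hge := eq_of_le_of_card_ge hg (by
    rw [card_map_of_injective (MulAut.conj g).injective, hLc])
  refine ⟨(MulAut.conjNormal g⁻¹ : MulAut M) • Q₀, fun h hh => ?_⟩
  have h2 : g * h * g⁻¹ ∈ T := by
    have : g * h * g⁻¹ ∈ L.map T.subtype := hge ▸ ⟨h, hh, rfl⟩
    obtain ⟨t, -, ht⟩ := this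
    exact ht ▸ t.2
  have key : ∀ z : G, z ∈ (((MulAut.conjNormal g⁻¹ : MulAut M) • Q₀ : Sylow q M) : Subgroup M).map M.subtype ↔
      g * z * g⁻¹ ∈ (Q₀ : Subgroup M).map M.subtype := by
    intro z
    constructor
    · rintro ⟨m, ⟨m₀, hm₀, rfl⟩, rfl⟩
      refine ⟨m₀, hm₀, ?_⟩
      simp [MulAut.conjNormal_apply, mul_assoc]
    · rintro ⟨m₀, hm₀, he⟩
      refine ⟨_, ⟨m₀, hm₀, rfl⟩, ?_⟩
      simp only [MulDistribMulAction.toMonoidEnd_apply, MulDistribMulAction.toMonoidHom_apply,
        coe_subtype, Subgroup.coe_subtype] at he ⊢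
      simp [MulAut.conjNormal_apply, he, mul_assoc]
  rw [Subgroup.mem_normalizer_iff]
  intro z
  rw [key, key, Subgroup.mem_normalizer_iff.1 h2 (g * z * g⁻¹),
    show g * h * g⁻¹ * (g * z * g⁻¹) * (g * h * g⁻¹)⁻¹ = g * (h * z * h⁻¹) * g⁻¹ by group]

/-- The second part. -/
theorem exists_frobenius {G : Type u} [Group G] [Finite G] (H : Subgroup G)
    (hTI : Cfsg.IsTISubset (H : Set G)) (hH : (Nat.card H).Coprime H.index) (hnn : ¬H.Normal)
    (M : Subgroup G) [M.Normal] (hM : M.IsComplement' H) :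
    ∃ (F : Type u) (_ : Group F) (_ : Finite F) (C : Subgroup F),
      Cfsg.IsFrobeniusComplement C ∧ Nonempty (H ≃* C) := by
  set N := normalizer (H : Set G) with hN
  haveI : Nontrivial H := (nontrivial_iff_ne_bot H).2 fun h => hnn (h ▸ inferInstance)
  have hfix : ∀ h ∈ H, h ≠ 1 → ∀ m ∈ M, Commute m h → m ∈ M ⊓ N := by
    intro h hh h1 m hm hc
    refine ⟨hm, ?_⟩
    by_contra hmN
    exact h1 (hTI m hmN h hh (by rwa [hc.eq, mul_inv_cancel_right]))
  have hW : ∀ m ∈ M ⊓ N, ∀ h ∈ H, Commute m h := by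
    intro m hm h hh
    have h1 : ⁅m, h⁆ ∈ M ⊓ H := by
      refine ⟨?_, ?_⟩
      · rw [commutatorElement_def, show m * h * m⁻¹ * h⁻¹ = m * (h * m⁻¹ * h⁻¹) by group]
        exact M.mul_mem hm.1 ((inferInstance : M.Normal).conj_mem _ (M.inv_mem hm.1) h)
      · rw [commutatorElement_def]
        exact H.mul_mem ((Subgroup.mem_normalizer_iff.1 hm.2 h).1 hh) (H.inv_mem hh)
    rw [hM.disjoint.eq_bot, mem_bot, commutatorElement_eq_one_iff_mul_comm] at h1
    exact h1
  have hMN : ¬M ≤ N := fun h => hnn (normalizer_eq_top_iff.1 (eq_top_iff.2 (by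
    rw [← hM.sup_eq_top]; exact sup_le h le_normalizer)))
  obtain ⟨q, hq, hqd⟩ := Nat.exists_prime_and_dvd (n := N.relIndex M)
    (fun h => hMN (relIndex_eq_one.1 h))
  haveI := Fact.mk hq
  obtain ⟨Q₁, hQ₁⟩ := exists_normalized_sylow H hTI hH M hM q
  set Q := (Q₁ : Subgroup M).map M.subtype with hQdef
  have hQM : Q ≤ M := map_subtype_le _
  have hQN : ¬Q ≤ N := by
    intro h
    have h1 : (Q₁ : Subgroup M) ≤ N.subgroupOf M := fun x hx => h ⟨x, hx, rfl⟩
    exact Q₁.not_dvd_index (hqd.trans (index_dvd_of_le h1))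
  have hQp : IsPGroup q Q := Q₁.2.map _
  set Φ := frattini Q with hΦ
  set U := Φ ⊔ N.subgroupOf Q with hU
  haveI hUn : U.Normal := Subgroup.Normal.of_commutator_le _
    ((Lib.PGroups.commutator_le_frattini hQp).trans le_sup_left)
  have hUne : U ≠ ⊤ := fun h => hQN fun x hx => by
    have h1 : N.subgroupOf Q = ⊤ := frattini_nongenerating (sup_comm Φ (N.subgroupOf Q) ▸ h)
    exact mem_subgroupOf.1 (h1.symm ▸ mem_top (⟨x, hx⟩ : Q))
  haveI : Nontrivial (Q ⧸ U) := by
    rw [← Finite.one_lt_card_iff_nontrivial]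
    refine lt_of_le_of_ne Nat.card_pos fun h => hUne (Subgroup.index_eq_one.1 h.symm)
  let φ : H →* MulAut Q := Q.normalizerMonoidHom.comp (inclusion hQ₁)
  have hφ : ∀ (h : H) (x : Q), ((φ h x : Q) : G) = h * x * (h : G)⁻¹ := fun h x => rfl
  have hUinv : ∀ h : H, U.map (φ h).toMonoidHom = U := by
    intro h
    refine eq_of_le_of_card_ge ?_ (card_map_of_injective (φ h).injective).ge
    rw [hU, Subgroup.map_sup]
    refine sup_le_sup (le_of_eq (characteristic_iff_map_eq.1 inferInstance _)) ?_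
    rintro _ ⟨x, hx, rfl⟩
    have hx : (x : G) ∈ N := hx
    show ((φ h x : Q) : G) ∈ N
    rw [hφ, ← (hW x ⟨hQM x.2, hx⟩ h h.2).eq, mul_inv_cancel_right]
    exact hx
  let θ : H →* MulAut (Q ⧸ U) :=
    { toFun := fun h => QuotientGroup.congr U U (φ h) (hUinv h)
      map_one' := by
        ext z
        induction z using QuotientGroup.induction_on with
        | H x => simp [QuotientGroup.congr_mk]
      map_mul' := fun g g' => by
        ext z
        induction z using QuotientGroup.induction_on with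
        | H x =>
          show ((φ (g * g') x : Q) : Q ⧸ U) = ((φ g (φ g' x) : Q) : Q ⧸ U)
          rw [map_mul, MulAut.mul_apply] }
  -- fixed-point-freeness
  have hfree : ∀ h : H, h ≠ 1 → ∀ v : Q ⧸ U, θ h v = v → v = 1 := by
    intro h h1 v hv
    obtain ⟨r, hr, hrd⟩ := Nat.exists_prime_and_dvd (fun e => h1 (orderOf_eq_one_iff.1 e))
    haveI := Fact.mk hr
    set t := h ^ (orderOf h / r) with ht
    have htr : orderOf t = r := by
      rw [ht, orderOf_pow_of_dvd (fun e => ?_) (Nat.div_dvd_of_dvd hrd), Nat.div_div_self hrd (orderOf_pos h).ne']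
      have := Nat.div_mul_cancel hrd
      rw [e, zero_mul] at this
      exact (orderOf_pos h).ne this
    have hvt : θ t v = v := by
      rw [ht, map_pow]
      generalize orderOf h / r = k
      induction k with
      | zero => simp
      | succ k ih => rw [pow_succ, MulAut.mul_apply, hv, ih]
    obtain ⟨x₀, rfl⟩ := QuotientGroup.mk_surjective v
    let e : {x : Q // (x : Q ⧸ U) = x₀} ≃ U :=
      { toFun := fun x => ⟨x₀⁻¹ * x.1, QuotientGroup.eq.1 x.2.symm⟩
        invFun := fun u => ⟨x₀ * u.1, (QuotientGroup.eq.2 (by simp)).symm⟩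
        left_inv := fun x => by simp
        right_inv := fun u => by simp }
    let σ : Equiv.Perm {x : Q // (x : Q ⧸ U) = x₀} :=
      Equiv.Perm.subtypePerm (φ t).toEquiv fun x => by
        constructor
        · intro hx
          have : θ t (x : Q ⧸ U) = θ t (x₀ : Q ⧸ U) := hx.trans hvt.symm
          exact (θ t).injective this
        · intro hx
          have : θ t (x : Q ⧸ U) = θ t (x₀ : Q ⧸ U) := congrArg _ hx
          exact this.trans hvt
    classical
    haveI := Fintype.ofFinite {x : Q // (x : Q ⧸ U) = x₀}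
    have hσ : ∀ k x, ((σ ^ k) x : {x : Q // (x : Q ⧸ U) = x₀}).1 = φ (t ^ k) x.1 := by
      intro k
      induction k with
      | zero => intro x; simp
      | succ k ih => intro x; rw [pow_succ, Equiv.Perm.mul_apply, ih, pow_succ, map_mul]; rfl
    have hrq : r ≠ q := by
      rintro rfl
      have h4 : r ∣ Nat.card M := by
        refine hqd.trans ?_
        exact (N.subgroupOf M).index_dvd_card
      rw [← hM.index_eq_card] at h4
      exact hr.ne_one (Nat.eq_one_of_dvd_coprimes hH (htr ▸ orderOf_dvd_natCard t) h4)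
    have hnd : ¬r ∣ Fintype.card {x : Q // (x : Q ⧸ U) = x₀} := by
      rw [← Nat.card_eq_fintype_card, Nat.card_congr e]
      intro hd
      obtain ⟨j, hj⟩ := IsPGroup.iff_card.1 (hQp.to_subgroup U)
      exact hrq ((Nat.prime_dvd_prime_iff_eq hr hq).1 (hr.dvd_of_dvd_pow (hj ▸ hd)))
    obtain ⟨⟨x, hx⟩, hxfix⟩ := Equiv.Perm.exists_fixed_point_of_prime (p := r) (n := 1) hnd (σ := σ) (by
      ext1 x
      apply Subtype.ext
      rw [hσ, pow_one, ← htr, pow_orderOf_eq_one, map_one]
      rfl)
    have h3 : φ t x = x := congrArg Subtype.val hxfix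
    have h4 : ((t : H) : G) ≠ 1 := fun e => by
      rw [← Subgroup.orderOf_coe, e, orderOf_one] at htr
      exact hr.ne_one htr.symm
    have h5 := (hfix t t.2 h4 x (hQM x.2) (by
      have h6 : ((t : H) : G) * x * ((t : H) : G)⁻¹ = x := congrArg Subtype.val h3
      exact (mul_inv_eq_iff_eq_mul.1 h6).symm)).2
    rw [← hx, QuotientGroup.eq_one_iff]
    exact mem_sup_right (mem_subgroupOf.2 h5)
  letI : CommGroup (Q ⧸ U) :=
    { (inferInstance : Group (Q ⧸ U)) with
      mul_comm := ((Subgroup.Normal.quotient_commutative_iff_commutator_le).2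
        ((Lib.PGroups.commutator_le_frattini hQp).trans le_sup_left)).is_comm.comm }
  letI : DistribMulAction H (Additive (Q ⧸ U)) :=
    { smul := fun h v => Additive.ofMul (θ h v.toMul)
      one_smul := fun v => by
        show Additive.ofMul (θ 1 v.toMul) = v
        rw [map_one]; rfl
      mul_smul := fun a b v => by
        show Additive.ofMul (θ (a * b) v.toMul) = Additive.ofMul (θ a (θ b v.toMul))
        rw [map_mul]; rfl
      smul_zero := fun h => congrArg Additive.ofMul (map_one (θ h))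
      smul_add := fun h v w => congrArg Additive.ofMul (map_mul (θ h) v.toMul w.toMul) }
  obtain ⟨L, i, j, C, hC, ⟨e⟩⟩ := Lib.FrobComplement.Build.of_fixedPointFree
    (H := H) (V := Additive (Q ⧸ U)) fun h h1 v hv =>
      congrArg Additive.ofMul (hfree h h1 v.toMul (congrArg Additive.toMul hv))
  exact ⟨ULift.{u} L, inferInstance, inferInstance, C.map MulEquiv.ulift.symm.toMonoidHom,
    Lib.FrobComplement.Build.map_equiv MulEquiv.ulift.symm hC,
    ⟨e.trans (MulEquiv.ulift.symm.subgroupMap C)⟩⟩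

/-- Let G be a finite group and H a subgroup that meets each of its conjugates by elements outside N_G(H) trivially and whose order is coprime to its index in N_G(H). Then H has a normal complement in N_G(H) if and only if H has a normal complement in G. Moreover, if H is not normal in G and has a normal complement in N_G(H), then H is isomorphic to a Frobenius complement of some finite Frobenius group. -/
theorem result {G : Type u} [Group G] [Finite G] (H : Subgroup G)
    (hTI : Cfsg.IsTISubset (H : Set G)) (hHall : (Nat.card H).Coprime (H.subgroupOf (Subgroup.normalizer (H : Set G))).index) :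
    ((∃ K : Subgroup (Subgroup.normalizer (H : Set G)), K.Normal ∧ K.IsComplement' (H.subgroupOf (Subgroup.normalizer (H : Set G)))) ↔
      (∃ N : Subgroup G, N.Normal ∧ N.IsComplement' H)) ∧
    (¬ H.Normal → (∃ K : Subgroup (Subgroup.normalizer (H : Set G)), K.Normal ∧ K.IsComplement' (H.subgroupOf (Subgroup.normalizer (H : Set G)))) →
      ∃ (F : Type u) (_ : Group F) (_ : Finite F) (C : Subgroup F), Cfsg.IsFrobeniusComplement C ∧ Nonempty (H ≃* C)) := by
  have hH := hall_of_ti H hTI hHall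
  refine ⟨⟨fun ⟨K, hK, hKH⟩ => exists_complement H hTI hH K hK hKH, fun ⟨M, hM, hMH⟩ => ?_⟩,
    fun hnn ⟨K, hK, hKH⟩ => ?_⟩
  · haveI := hM
    set N := Subgroup.normalizer (H : Set G) with hN
    refine ⟨M.subgroupOf N, inferInstance,
      Subgroup.isComplement'_of_disjoint_and_mul_eq_univ ?_ ?_⟩
    · rw [disjoint_iff, eq_bot_iff]
      rintro x ⟨h1, h2⟩
      have h3 : (x : G) ∈ M ⊓ H := ⟨h1, h2⟩
      rw [hMH.disjoint.eq_bot, Subgroup.mem_bot] at h3
      exact Subtype.ext h3
    · refine Set.eq_univ_of_forall fun n => ?_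
      obtain ⟨⟨m, h⟩, hmh⟩ := hMH.2 (n : G)
      have hmh' : (m : G) * (h : G) = n := hmh
      have hm : (m : G) ∈ N := by
        rw [eq_mul_inv_of_mul_eq hmh']
        exact N.mul_mem n.2 (N.inv_mem (Subgroup.le_normalizer h.2))
      exact ⟨⟨m, hm⟩, m.2, ⟨h, Subgroup.le_normalizer h.2⟩, h.2, Subtype.ext hmh'⟩
  · obtain ⟨M, hM, hMH⟩ := exists_complement H hTI hH K hK hKH
    haveI := hM
    exact exists_frobenius H hTI hH hnn M hMH

end Cfsg.Agent.S4115
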