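import Cfsg.Statements.S2461
import Cfsg.Agent.Lib.G2Gauss.Product
-- import your own Cfsg.Agent.* helpers here

set_option autoImplicit false
open Cfsg

namespace Cfsg.Agent.S2461

open Cfsg.Agent.Lib.G2Gauss

theorem exists_coeffs {F : Type*} [Field F] [Fintype F] (h3 : 3 ≤ Fintype.card F) :
    ∃ a ν : F, a ≠ 0 ∧ ν ≠ 1 ∧ ∀ r : F, r * r - a * r + ν ≠ 0 := by
  classical
  by_cases h2 : (2 : F) = 0
  · -- the map `r ↦ r² - r` is not onto
    obtain ⟨c, hc⟩ : ∃ c : F, ∀ r : F, r * r - r ≠ c := by
      by_contra h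
      simp only [not_exists, not_forall, not_not] at h
      have hinj := Finite.injective_iff_surjective.2 (fun c => h c : Function.Surjective fun r : F => r * r - r)
      exact zero_ne_one (hinj (show (0 : F) * 0 - 0 = 1 * 1 - 1 by ring))
    have hc0 : c ≠ 0 := fun e => hc 0 (by rw [e]; ring)
    obtain ⟨a, ha0, ha⟩ : ∃ a : F, a ≠ 0 ∧ -(a * a * c) ≠ 1 := by
      obtain ⟨b, hb⟩ : ∃ b : F, b ∉ ({0, 1} : Finset F) := by
        by_contra h
        simp only [not_exists, not_not] at h
        have := Finset.card_le_card (fun b _ => h b : (Finset.univ : Finset F) ⊆ {0, 1})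
        rw [Finset.card_univ] at this
        exact absurd (this.trans Finset.card_le_two) (by omega)
      simp only [Finset.mem_insert, Finset.mem_singleton, not_or] at hb
      by_cases h1 : -c = 1
      · refine ⟨b, hb.1, fun e => hb.2 (sub_eq_zero.1 (mul_self_eq_zero.1 ?_))⟩
        linear_combination e - b * b * h1 + (1 - b) * h2
      · exact ⟨1, one_ne_zero, by simpa using h1⟩
    refine ⟨a, -(a * a * c), ha0, ha, fun r e => hc (r / a) ?_⟩
    field_simp
    linear_combination e
  · have hodd : ringChar F ≠ 2 := fun h => h2 (by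
      have := ringChar.Nat.cast_ringChar (R := F)
      rw [h] at this; exact_mod_cast this)
    have h4 : (4 : F) ≠ 0 := fun e => h2 (mul_self_eq_zero.1 (by linear_combination e))
    obtain ⟨n, hn, hne⟩ : ∃ n : F, ¬ IsSquare n ∧ n ≠ -3 := by
      obtain ⟨n, hn⟩ := FiniteField.exists_nonsquare hodd
      by_cases he : n = -3
      · by_cases h5 : ∃ u : F, u ≠ 0 ∧ u * u ≠ 1
        · obtain ⟨u, hu0, hu1⟩ := h5
          refine ⟨u * u * n, fun ⟨z, hz⟩ => hn ⟨z / u, ?_⟩, fun e => hu1 ?_⟩
          · field_simp; linear_combination hz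
          · subst he
            have h30 : (-3 : F) ≠ 0 := fun e0 => hn (e0 ▸ IsSquare.zero)
            exact mul_right_cancel₀ h30 (by linear_combination e)
        · exfalso
          simp only [not_exists, not_and, not_not] at h5
          have h22 := h5 2 h2
          refine hn ?_
          rw [he, show (-3 : F) = 0 from by linear_combination -h22]
          exact IsSquare.zero
      · exact ⟨n, hn, he⟩
    refine ⟨1, (1 - n) / 4, one_ne_zero, fun e => hne ?_, fun r e => hn ⟨2 * r - 1, ?_⟩⟩
    · field_simp at e; linear_combination -e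
    · field_simp at e; linear_combination -e

/-- A form of Thompson's conjecture for the simple Chevalley groups G₂(q), q ≥ 3 (covering the non-identity elements), with a semisimple class: for F a finite field of characteristic p with at least 3 elements there is an element x of the Chevalley group of type G₂ over F of order prime to p such that every non-identity element of that group is a product of two conjugates of x. -/
theorem result {F : Type*} [Field F] [Fintype F] (p : ℕ) [Fact p.Prime] [CharP F p] (h3 : 3 ≤ Fintype.card F) :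
    ∃ x : Cfsg.Lie.chevG2.group F, ¬ p ∣ orderOf x ∧ ∀ g : Cfsg.Lie.chevG2.group F, g ≠ 1 → ∃ u v : Cfsg.Lie.chevG2.group F, g = (u * x * u⁻¹) * (v * x * v⁻¹) := by
  classical
  obtain ⟨a, ν, ha, hν, hirr⟩ := exists_coeffs h3
  have hν0 : ν ≠ 0 := fun e => hirr 0 (by rw [e]; ring)
  obtain ⟨A, hA⟩ := Cfsg.Agent.Lib.PSp4Class.exists_GL
    (show (Cfsg.Agent.Lib.PSp4Class.cmp a ν).det ≠ 0 by rw [Cfsg.Agent.Lib.PSp4Class.cmp, Matrix.det_fin_two_of]; simpa)
  have htr : A.1.trace = a := by rw [hA, Cfsg.Agent.Lib.PSp4Class.cmp, Matrix.trace_fin_two_of, zero_add]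
  have hdet : A.1.det = ν := by rw [hA, Cfsg.Agent.Lib.PSp4Class.cmp, Matrix.det_fin_two_of]; ring
  have hI : Irred A := by rw [Irred, htr, hdet]; exact hirr
  refine ⟨⟨psi A, psi_mem A⟩, fun hp => not_dvd_orderOf p hI ?_, fun g _ => ?_⟩
  · rw [Subgroup.orderOf_mk] at hp
    exact hp.trans (orderOf_map_dvd psi A)
  · obtain ⟨P, hP, Q, hQ, e⟩ := two_conj h3 hI (htr ▸ ha) (hdet ▸ hν) g.2
    exact ⟨⟨P, hP⟩, ⟨Q, hQ⟩, Subtype.ext (by simpa using e)⟩

end Cfsg.Agent.S2461
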