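import Cfsg.Statements.S0204
import Cfsg.Agent.Lib.FTDeps.Row0516
import Cfsg.Agent.Lib.ZStar.RankOne
import Cfsg.Agent.Lib.OddOrder.FeitThompson
-- import your own Cfsg.Agent.* helpers here

set_option autoImplicit false
open Cfsg

namespace Cfsg.Agent.S0204

/-- A non-cyclic finite simple group contains a subgroup which is a Klein four-group; this combines the Odd Order Theorem, Burnside's transfer argument for cyclic Sylow 2-subgroups and the Brauer–Suzuki Theorem. -/
theorem result {G : Type*} [Group G] [Finite G] [IsSimpleGroup G] (hG : ¬ IsCyclic G) : ∃ E : Subgroup G, IsKleinFour E := by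
  have hFT : Lib.FTDeps.Basic.OddOrderSolvable := fun X _ _ h =>
    Lib.OddOrder.FeitThompson.isSolvable_of_odd_card (G := X) h
  have hnc : ¬ IsMulCommutative G := fun hc => by
    letI : CommGroup G := { ‹Group G› with mul_comm := hc.is_comm.comm }
    exact hG IsSimpleGroup.isCyclic
  haveI : Fact (Nat.Prime 2) := ⟨Nat.prime_two⟩
  obtain ⟨z, hz⟩ := exists_prime_orderOf_dvd_card' (G := G) 2
    (Nat.not_odd_iff_even.1 (Lib.FTDeps.Row0516.even_card hFT hnc)).two_dvd
  by_contra hne
  refine Lib.FTDeps.Row0516.not_isolated hFT hnc z ⟨hz, fun g hgz => ?_⟩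
  by_contra h
  have hgo : orderOf (g * z * g⁻¹) = 2 := by
    rw [← hz]; exact MulEquiv.orderOf_eq (MulAut.conj g) z
  exact hne (Lib.ZStar.RankOne.exists_klein hz hgo (fun e => h e.symm) hgz)

end Cfsg.Agent.S0204
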