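import Cfsg.Statements.S2117
import Cfsg.Agent.Lib.Schur.MultiplierSL
import Cfsg.Agent.Lib.Multiplier.Sylow
import Cfsg.Agent.Lib.Linear.SL2Sylow2
import Cfsg.Agent.S3963

set_option autoImplicit false
open Cfsg

namespace Cfsg.Agent.S2117

/-- For a finite field with q elements, q ≠ 4 and q ≠ 9, the special linear group SL₂ has trivial Schur multiplier (here the Schur multiplier is described through stem extensions, as in the definitions). -/
theorem result {F : Type*} [Field F] [Fintype F] (h4 : Fintype.card F ≠ 4) (h9 : Fintype.card F ≠ 9) : Cfsg.HasCyclicSchurMultiplier (Matrix.SpecialLinearGroup (Fin 2) F) 1 := by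
  classical
  by_cases hq : 4 ≤ Fintype.card F
  · refine Cfsg.Agent.Lib.Schur.MultiplierSL.sl_trivial le_rfl (fun _ => by rwa [Nat.card_eq_fintype_card]) ?_
    rw [Nat.card_eq_fintype_card]
    simp [h4, h9]
  rw [Cfsg.Agent.Lib.Multiplier.hasCyclicSchurMultiplier_one_iff]
  intro Δ _ _ τ hτ
  by_contra hne
  have h1 : Nat.card τ.ker ≠ 1 := fun h1 => hne (Subgroup.card_eq_one.1 h1)
  obtain ⟨p, hp, hdvd⟩ := Nat.exists_prime_and_dvd h1
  haveI : Fact p.Prime := ⟨hp⟩
  have hcard := Cfsg.Agent.Lib.Linear.card_SL_two (F := F)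
  have hq2 : 2 ≤ Fintype.card F := Fintype.one_lt_card
  by_cases hcase : p = 2 ∧ Fintype.card F = 3
  · obtain ⟨rfl, h3⟩ := hcase
    refine Cfsg.Agent.Lib.Multiplier.not_dvd_card_ker_of_sylow_trivial τ hτ (fun S => ?_) hdvd
    obtain ⟨k, _, ⟨e⟩⟩ := Cfsg.Agent.Lib.Linear.sylow_two_SL2_quaternion (by rw [h3]; decide) S
    haveI : NeZero (2 ^ k) := ⟨pow_ne_zero k two_ne_zero⟩
    rw [Cfsg.Agent.Lib.Multiplier.hasCyclicSchurMultiplier_one_iff]
    intro Θ _ _ θ hθ
    have hcomp : Cfsg.IsStemExtension (e.toMonoidHom.comp θ) := by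
      have hk : (e.toMonoidHom.comp θ).ker = θ.ker := by
        ext x
        simp [MonoidHom.mem_ker]
      exact ⟨e.surjective.comp hθ.1, hk ▸ hθ.2.1, hk ▸ hθ.2.2⟩
    have hinj := Cfsg.Agent.Lib.Multiplier.injective_of_trivial (Cfsg.Agent.S3963.result (2 ^ k)) _ hcomp
    rw [MonoidHom.ker_eq_bot_iff]
    exact fun a b h => hinj (congrArg e h)
  · refine Cfsg.Agent.Lib.Multiplier.not_dvd_card_ker_of_cyclic τ hτ (fun S => ?_) hdvd
    have hS := S.card_eq_multiplicity
    have hle : (Nat.card (Matrix.SpecialLinearGroup (Fin 2) F)).factorization p ≤ 1 := by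
      by_contra hlt
      have hdvd2 : p ^ 2 ∣ Nat.card (Matrix.SpecialLinearGroup (Fin 2) F) :=
        (pow_dvd_pow p (by omega)).trans (Nat.ordProj_dvd _ _)
      rw [hcard] at hdvd2
      have h23 : Fintype.card F = 2 ∨ Fintype.card F = 3 := by omega
      rcases h23 with h2 | h3
      · rw [h2] at hdvd2
        have hp24 : p ^ 2 ≤ 6 := Nat.le_of_dvd (by norm_num) hdvd2
        have hp5 : p < 3 := by nlinarith
        interval_cases p <;> first | (revert hdvd2; decide) | (norm_num at hp; done)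
      · rw [h3] at hdvd2
        have hp24 : p ^ 2 ≤ 24 := Nat.le_of_dvd (by norm_num) hdvd2
        have hp5 : p < 5 := by nlinarith
        interval_cases p <;> first | exact hcase ⟨rfl, h3⟩ | (revert hdvd2; decide) | (norm_num at hp; done)
    interval_cases h : (Nat.card (Matrix.SpecialLinearGroup (Fin 2) F)).factorization p
    · rw [pow_zero] at hS
      haveI := (Nat.card_eq_one_iff_unique.1 hS).1
      exact isCyclic_of_subsingleton
    · rw [pow_one] at hS
      exact isCyclic_of_prime_card hS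

end Cfsg.Agent.S2117
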