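import Cfsg.Statements.S4065
import Cfsg.Agent.Lib.Linear.SL2
-- import your own Cfsg.Agent.* helpers here

set_option autoImplicit false
open Cfsg

namespace Cfsg.Agent.S4065

open Cfsg.Agent.Lib.Linear in
theorem nonScalar_of_ne_one {F : Type*} [Field F] [CharP F 2] {a : Matrix.SpecialLinearGroup (Fin 2) F}
    (ha : a ≠ 1) : NonScalar a := by
  intro r hr
  have hd := congrArg Matrix.det hr
  rw [a.2] at hd
  simp only [Matrix.det_smul, Fintype.card_fin, Matrix.det_one, mul_one] at hd
  have : r = 1 := by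
    have h2 : (r + 1) ^ 2 = (1 : F) + 1 := by rw [CharTwo.add_sq, one_pow, ← hd]
    rw [CharTwo.add_self_eq_zero] at h2
    have := eq_zero_of_pow_eq_zero h2
    rwa [CharTwo.add_eq_zero] at this
  apply ha
  apply Subtype.ext
  rw [hr, this, one_smul]
  rfl

open Cfsg.Agent.Lib.Linear in
theorem commute_trans {F : Type*} [Field F] [CharP F 2] {a b c : Matrix.SpecialLinearGroup (Fin 2) F}
    (ha : a ≠ 1) (hb : b * a = a * b) (hc : c * a = a * c) : b * c = c * b := by
  obtain ⟨s, t, h⟩ := exists_eq_add_smul_of_commute (nonScalar_of_ne_one ha) hb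
  obtain ⟨u, v, h'⟩ := exists_eq_add_smul_of_commute (nonScalar_of_ne_one ha) hc
  apply Subtype.ext
  show (b : Matrix (Fin 2) (Fin 2) F) * (c : Matrix (Fin 2) (Fin 2) F) = c * b
  rw [h, h']
  simp only [mul_add, add_mul, smul_mul_assoc, mul_smul_comm, one_mul, mul_one]
  module


/-- Let F be a finite field with 2ⁿ elements, n ≥ 2. In PSL₂(F) the centralizer of every element meets each of its conjugates by elements outside its normalizer trivially. -/
theorem result (n : ℕ) (hn : 2 ≤ n)
    (x : Matrix.ProjectiveSpecialLinearGroup (Fin 2) (GaloisField 2 n)) :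
    Cfsg.IsTISubset (Subgroup.centralizer ({x} : Set (Matrix.ProjectiveSpecialLinearGroup (Fin 2) (GaloisField 2 n))) :
      Set (Matrix.ProjectiveSpecialLinearGroup (Fin 2) (GaloisField 2 n))) := by
  classical
  let F := GaloisField 2 n
  haveI : CharP F 2 := inferInstance
  let π := QuotientGroup.mk' (Subgroup.center (Matrix.SpecialLinearGroup (Fin 2) F))
  have hinj : ∀ a, π a = 1 → a = 1 := by
    intro a ha
    obtain ⟨r, hr, hra⟩ := Matrix.SpecialLinearGroup.mem_center_iff.mp
      ((QuotientGroup.eq_one_iff a).mp ha)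
    by_contra hne
    refine nonScalar_of_ne_one hne r ?_
    rw [← hra, Matrix.scalar_apply, Matrix.smul_one_eq_diagonal]
  have htrans : ∀ a b c : Matrix.ProjectiveSpecialLinearGroup (Fin 2) F, a ≠ 1 →
      b * a = a * b → c * a = a * c → b * c = c * b := by
    intro a b c ha hb hc
    obtain ⟨a, rfl⟩ := QuotientGroup.mk_surjective a
    obtain ⟨b, rfl⟩ := QuotientGroup.mk_surjective b
    obtain ⟨c, rfl⟩ := QuotientGroup.mk_surjective c
    have hl : ∀ u v : Matrix.SpecialLinearGroup (Fin 2) F, π u * π v = π v * π u → u * v = v * u := by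
      intro u v h
      have := hinj ((u * v) * (v * u)⁻¹) (by rw [map_mul, map_inv, map_mul, map_mul, h, mul_inv_cancel])
      exact mul_inv_eq_one.mp this
    have ha' : a ≠ 1 := fun h => ha (by rw [h]; rfl)
    show π b * π c = π c * π b
    rw [← map_mul, ← map_mul, commute_trans ha' (hl b a hb) (hl c a hc)]
  intro g hg z hz hgz
  by_contra hz1
  apply hg
  by_cases hx : x = 1
  · subst hx
    rw [Subgroup.mem_normalizer_iff]
    intro u
    simp [Subgroup.mem_centralizer_iff]
  set C := Subgroup.centralizer ({x} : Set (Matrix.ProjectiveSpecialLinearGroup (Fin 2) F)) with hC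
  have hCmem : ∀ u, u ∈ C ↔ u * x = x * u := fun u => Subgroup.mem_centralizer_singleton_iff
  have hzx : z * x = x * z := (hCmem z).mp hz
  have hgzx : g * z * g⁻¹ * x = x * (g * z * g⁻¹) := (hCmem _).mp hgz
  have hgz1 : g * z * g⁻¹ ≠ 1 := fun h => hz1 (conj_eq_one_iff.mp h)
  rw [Subgroup.mem_normalizer_iff]
  intro u
  show u ∈ C ↔ g * u * g⁻¹ ∈ C
  rw [hCmem, hCmem]
  constructor
  · intro hu
    have h1 : u * z = z * u := htrans x u z hx hu hzx
    refine htrans (g * z * g⁻¹) _ x hgz1 ?_ hgzx.symm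
    simpa [mul_assoc] using congrArg (fun t => g * t * g⁻¹) h1
  · intro hu
    have h1 : g * u * g⁻¹ * (g * z * g⁻¹) = g * z * g⁻¹ * (g * u * g⁻¹) := htrans x _ _ hx hu hgzx
    refine htrans z u x hz1 ?_ hzx.symm
    have := congrArg (fun t => g⁻¹ * t * g) h1
    simpa [mul_assoc] using this

end Cfsg.Agent.S4065
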