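import Cfsg.Statements.S5748
import Cfsg.Agent.Lib.CASimple67.Degree
import Cfsg.Agent.Lib.Zassenhaus.AbelianKernel
import Cfsg.Agent.S0727
import Cfsg.Agent.S4065

set_option autoImplicit false
open Cfsg

namespace Cfsg.Agent.S5748

open MulAction
open Cfsg.Agent.Lib.CASimple67
open Cfsg.Agent.Lib.Fusion.Swappers

theorem forward {G : Type*} [Group G] [Finite G] [IsSimpleGroup G] (hG : ¬ IsMulCommutative G)
    (h : IsCT G) : ∃ (F : Type) (_ : Field F) (_ : Fintype F) (f : ℕ), 2 ≤ f ∧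
      Fintype.card F = 2 ^ f ∧ Nonempty (G ≃* Matrix.ProjectiveSpecialLinearGroup (Fin 2) F) := by
  classical
  obtain ⟨z, g0⟩ := exists_good hG h
  have hdeg := g0.degree
  have hq := g0.card_cen
  have he := g0.three_le
  let Ω := G ⧸ nrm' z
  have := Fintype.ofFinite Ω
  have hΩ : Fintype.card Ω = idx z + 2 := by
    rw [← Nat.card_eq_fintype_card, ← Subgroup.index_eq_card, hdeg, hq]
  obtain ⟨u, d, hu, huN, hd, hd1⟩ := g0.exists_pair
  let o : Ω := ((1 : G) : G ⧸ nrm' z)
  let p : Ω := ((u : G) : G ⧸ nrm' z)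
  have hop : o ≠ p := fun e => huN (mk_eq_one_iff.1 e.symm)
  have hfo : ∀ g : G, g • o = o ↔ g ∈ nrm' z := fun g => by
    show g • ((1 : G) : G ⧸ nrm' z) = _ ↔ _
    rw [smul_one_coset]; exact mk_eq_one_iff
  have htrans : IsPretransitive G Ω := inferInstance
  -- the centraliser is regular on the points other than `o`
  have hreg : ∀ y : Ω, y ≠ o → ∃ a ∈ cen z, a • p = y := by
    intro y hy
    let f : cen z → {y : Ω // y ≠ o} := fun a => ⟨(a : G) • p, fun e => hop
      (MulAction.injective (a : G) (((hfo _).2 (Subgroup.le_normalizer a.2)).trans e.symm))⟩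
    have hf : Function.Injective f := by
      intro a b hab
      have hab' : (a : G) • p = (b : G) • p := congrArg Subtype.val hab
      have hk : ((a : G)⁻¹ * b) • ((u : G) : G ⧸ nrm' z) = ((u : G) : G ⧸ nrm' z) := by
        show ((a : G)⁻¹ * b) • p = p
        rw [mul_smul, ← hab', inv_smul_smul]
      have hkA : (a : G)⁻¹ * b ∈ cen z := mul_mem (inv_mem a.2) b.2
      exact Subtype.ext (inv_mul_eq_one.1 (g0.two_inter hu huN hkA
        (Good.mem_two.1 ((g0.mem_two_iff_fix (Subgroup.le_normalizer hkA)).1 hk)).2))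
    have hb := hf.bijective_of_nat_card_le (by
      rw [Nat.card_eq_fintype_card, Fintype.card_subtype_compl, Fintype.card_subtype_eq, hΩ, hq]
      omega)
    obtain ⟨a, ha⟩ := hb.2 ⟨y, hy⟩
    exact ⟨a, a.2, congrArg Subtype.val ha⟩
  have hmove : ∀ x y : Ω, x ≠ y → ∃ g : G, g • o = x ∧ g • p = y := by
    intro x y hxy
    obtain ⟨g, hg⟩ := exists_smul_eq G o x
    obtain ⟨a, ha, hap⟩ := hreg (g⁻¹ • y) (fun e => hxy (by
      rw [← hg, ← e, smul_inv_smul]))
    refine ⟨g * a, ?_, ?_⟩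
    · rw [mul_smul, (hfo a).2 (Subgroup.le_normalizer ha), hg]
    · rw [mul_smul, hap, smul_inv_smul]
  have h2 : IsMultiplyPretransitive G Ω 2 := is_two_pretransitive_iff.2 fun {a b c e} hab hce => by
    obtain ⟨g, hga, hgb⟩ := hmove a b hab
    obtain ⟨k, hkc, hke⟩ := hmove c e hce
    exact ⟨k * g⁻¹, by rw [mul_smul, ← hga, inv_smul_smul, hkc],
      by rw [mul_smul, ← hgb, inv_smul_smul, hke]⟩
  have hthree : ∀ g : G, ∀ a b c : Ω, a ≠ b → b ≠ c → a ≠ c →
      g • a = a → g • b = b → g • c = c → g = 1 := by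
    intro g a b c hab hbc hac ha hb hc
    obtain ⟨k, hka, hkb⟩ := hmove a b hab
    by_contra hg
    set g' := k⁻¹ * g * k with hg'
    have hg'1 : g' ≠ 1 := fun e => hg (by
      have := congrArg (fun t => k * t * k⁻¹) e
      simpa [hg', mul_assoc] using this)
    have h1 : g' • o = o := by rw [hg', mul_smul, mul_smul, hka, ha, ← hka, inv_smul_smul]
    have h2' : g' • p = p := by rw [hg', mul_smul, mul_smul, hkb, hb, ← hkb, inv_smul_smul]
    have hgN := (hfo g').1 h1
    have hgd := (g0.mem_two_iff_fix hgN).1 h2'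
    have h3 : g' • (k⁻¹ • c) = k⁻¹ • c := by rw [hg', mul_smul, mul_smul, smul_inv_smul, hc]
    rcases g0.fix_two hu huN hgd hg'1 h3 with e | e
    · exact hac (by rw [← hka, show o = k⁻¹ • c from e.symm, smul_inv_smul])
    · exact hbc (by rw [← hkb, show p = k⁻¹ • c from e.symm, smul_inv_smul])
  have hfaith : Function.Injective (MulAction.toPermHom G Ω) := by
    rw [← MonoidHom.ker_eq_bot_iff]
    refine (IsSimpleGroup.eq_bot_or_eq_top_of_normal _ inferInstance).resolve_right fun e => huN ?_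
    have : u ∈ (MulAction.toPermHom G Ω).ker := e ▸ Subgroup.mem_top u
    rw [MonoidHom.mem_ker] at this
    exact (hfo u).1 (by simpa using congrArg (fun σ : Equiv.Perm Ω => σ o) this)
  have hfs : FaithfulSMul G Ω := ⟨fun {g k} hgk => hfaith (Equiv.ext hgk)⟩
  have hZ : Cfsg.IsZassenhausGroup G Ω := by
    refine ⟨hfs, h2, hthree, ⟨d, hd1, o, p, hop, (hfo d).2 (Good.mem_two.1 hd).1,
      (g0.mem_two_iff_fix (Good.mem_two.1 hd).1).2 hd⟩, fun N hN htr => ⟨o, fun hb => ?_⟩⟩
    rcases IsSimpleGroup.eq_bot_or_eq_top_of_normal N hN with e | e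
    · obtain ⟨m, hm⟩ := htr.exists_smul_eq o p
      have hm1 : (m : G) = 1 := Subgroup.mem_bot.1 (e ▸ m.2)
      exact hop (by rw [← hm]; exact ((by rw [hm1, one_smul] : (m : G) • o = o)).symm)
    · have hm : (⟨d, e ▸ Subgroup.mem_top d⟩ : N) ∈ stabilizer N o :=
        (hfo d).2 (Good.mem_two.1 hd).1
      have hm' := (le_of_eq hb) hm
      rw [Subgroup.mem_bot] at hm'
      exact hd1 (congrArg Subtype.val hm')
  have hpair : stabilizer G o ⊓ stabilizer G p = Good.two z u := by
    ext g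
    simp only [Subgroup.mem_inf, mem_stabilizer_iff]
    exact ⟨fun hh => (g0.mem_two_iff_fix ((hfo g).1 hh.1)).1 hh.2,
      fun hh => ⟨(hfo g).2 (Good.mem_two.1 hh).1,
        (g0.mem_two_iff_fix (Good.mem_two.1 hh).1).2 hh⟩⟩
  obtain ⟨h3, hsharp⟩ := Cfsg.Agent.Lib.Zassenhaus.sharply_of_card hZ hop (by
    rw [hpair, g0.card_two hu huN, Nat.card_eq_fintype_card, hΩ])
  -- the order of `cen z`
  obtain ⟨f, hf⟩ : ∃ f, Nat.card (cen z) = 2 ^ f := by
    have hpg : IsPGroup 2 (cen z) := fun a => ⟨1, Subtype.ext (by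
      simpa [pow_two] using g0.sq_eq_one a.1 a.2)⟩
    haveI : Fact (Nat.Prime 2) := ⟨Nat.prime_two⟩
    exact hpg.exists_card_eq
  have hf2 : 2 ≤ f := by
    by_contra hlt
    have : 2 ^ f ≤ 2 ^ 1 := Nat.pow_le_pow_right (by norm_num) (by omega)
    omega
  let R := (MulAction.toPermHom G Ω).range
  let e0 : G ≃* R := MonoidHom.ofInjective hfaith
  have he0 : ∀ (g : G) (y : Ω), (e0 g) • y = g • y := fun g y => rfl
  have h3R : IsMultiplyPretransitive R Ω 3 := by
    haveI := h3
    exact isMultiplyPretransitive_iff.2 fun x y => by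
      obtain ⟨g, hg⟩ := exists_smul_eq G x y
      exact ⟨e0 g, Function.Embedding.ext fun i => by
        show (e0 g) • x i = y i
        rw [he0, ← hg]; rfl⟩
  have hsR : ∀ x : Fin 3 ↪ Ω, stabilizer R x = ⊥ := fun x => by
    refine (Subgroup.eq_bot_iff_forall _).2 fun r hr => ?_
    obtain ⟨g, rfl⟩ := e0.surjective r
    have : g ∈ stabilizer G x := by
      rw [mem_stabilizer_iff] at hr ⊢
      ext i
      exact (he0 g (x i)).symm.trans (DFunLike.congr_fun hr i)
    rw [hsharp x, Subgroup.mem_bot] at this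
    rw [this, map_one]
  obtain ⟨F, _, _, hF, ⟨e1⟩⟩ := Cfsg.Agent.S0727.result (f := f) (by omega)
    (by rw [hΩ, ← hf, hq]) R h3R hsR
  have hchar : ringChar F = 2 := by
    obtain ⟨n, hp, hn⟩ := FiniteField.card F (ringChar F)
    rw [hF] at hn
    have hdvd : ringChar F ∣ 2 ^ f := hn ▸ dvd_pow_self _ n.ne_zero
    exact (Nat.prime_dvd_prime_iff_eq hp Nat.prime_two).1 (hp.dvd_of_dvd_pow hdvd)
  have hsurj : Function.Surjective
      (Matrix.ProjectiveSpecialLinearGroup.toPGL (n := Fin 2) (R := F)) := by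
    refine Matrix.ProjectiveSpecialLinearGroup.toPGL_surj_of_roots fun r => ?_
    obtain ⟨k, hk⟩ := FiniteField.isSquare_of_char_two hchar (r : F)
    have hk0 : k ≠ 0 := fun e0 => r.ne_zero (by rw [hk, e0, mul_zero])
    exact ⟨Units.mk0 k hk0, Units.ext (by simp [pow_two, hk])⟩
  exact ⟨F, _, _, f, hf2, hF, ⟨(e0.trans e1).trans (MulEquiv.ofBijective _
    ⟨Matrix.ProjectiveSpecialLinearGroup.toPGL_injective, hsurj⟩).symm⟩⟩

theorem backward {G : Type*} [Group G] {F : Type} [Field F] [Fintype F] {f : ℕ} (hf : f ≠ 0)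
    (hF : Fintype.card F = 2 ^ f)
    (e : G ≃* Matrix.ProjectiveSpecialLinearGroup (Fin 2) F) : IsCT G := by
  have hchar : ringChar F = 2 := by
    obtain ⟨n, hp, hn⟩ := FiniteField.card F (ringChar F)
    rw [hF] at hn
    have hdvd : ringChar F ∣ 2 ^ f := hn ▸ dvd_pow_self _ n.ne_zero
    exact (Nat.prime_dvd_prime_iff_eq hp Nat.prime_two).1 (hp.dvd_of_dvd_pow hdvd)
  have : CharP F 2 := hchar ▸ ringChar.charP F
  have hinj : ∀ x : Matrix.SpecialLinearGroup (Fin 2) F,
      x ∈ Subgroup.center (Matrix.SpecialLinearGroup (Fin 2) F) → x = 1 := by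
    intro x hx
    obtain ⟨r, hr, hra⟩ := Matrix.SpecialLinearGroup.mem_center_iff.mp hx
    by_contra hne
    refine Cfsg.Agent.S4065.nonScalar_of_ne_one hne r ?_
    rw [← hra, Matrix.scalar_apply, Matrix.smul_one_eq_diagonal]
  intro a b c _ hb _ hab hbc
  obtain ⟨a', ha'⟩ := QuotientGroup.mk_surjective (e a)
  obtain ⟨b', hb'⟩ := QuotientGroup.mk_surjective (e b)
  obtain ⟨c', hc'⟩ := QuotientGroup.mk_surjective (e c)
  have hlift : ∀ (x y : G) (x' y' : Matrix.SpecialLinearGroup (Fin 2) F),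
      (QuotientGroup.mk x' : Matrix.ProjectiveSpecialLinearGroup (Fin 2) F) = e x →
      (QuotientGroup.mk y' : Matrix.ProjectiveSpecialLinearGroup (Fin 2) F) = e y →
      x * y = y * x → x' * y' = y' * x' := by
    intro x y x' y' hx hy hxy
    refine mul_inv_eq_one.1 (hinj _ ((QuotientGroup.eq_one_iff _).1 ?_))
    rw [QuotientGroup.mk_mul, QuotientGroup.mk_inv, QuotientGroup.mk_mul, QuotientGroup.mk_mul,
      hx, hy, ← map_mul, ← map_mul, hxy]
    exact mul_inv_cancel _
  have hb1 : b' ≠ 1 := fun h1 => hb (e.injective (by rw [map_one, ← hb', h1]; rfl))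
  have hm := Cfsg.Agent.S4065.commute_trans hb1 (hlift a b a' b' ha' hb' hab)
    (hlift b c b' c' hb' hc' hbc).symm
  apply e.injective
  rw [map_mul, map_mul, ← ha', ← hc', ← QuotientGroup.mk_mul, ← QuotientGroup.mk_mul, hm]

/-- A finite non-abelian simple group in which commuting is a transitive relation on the non-identity elements (equivalently, every non-identity element has abelian centraliser) is isomorphic to PSL₂ over a field with 2^f elements for some f ≥ 2; conversely these groups have that property. -/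
theorem result {G : Type*} [Group G] [Finite G] [IsSimpleGroup G] (hG : ¬ IsMulCommutative G) :
    (∀ a b c : G, a ≠ 1 → b ≠ 1 → c ≠ 1 → Commute a b → Commute b c → Commute a c) ↔
    ∃ (F : Type) (_ : Field F) (_ : Fintype F) (f : ℕ), 2 ≤ f ∧ Fintype.card F = 2 ^ f ∧ Nonempty (G ≃* Matrix.ProjectiveSpecialLinearGroup (Fin 2) F) := by
  constructor
  · exact fun h => forward hG h
  · rintro ⟨F, _, _, f, hf, hF, ⟨e⟩⟩
    exact backward (by omega) hF e

end Cfsg.Agent.S5748
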