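import Cfsg.Statements.S2756
import Cfsg.Agent.Lib.GlaubermanGlobal.Main
import Cfsg.Agent.Lib.Involutions.BaerSuzuki

set_option autoImplicit false
open Cfsg

namespace Cfsg.Agent.S2756

open Cfsg.Agent.Lib in
open Cfsg.Agent.Lib.GlaubermanGlobal in
open Cfsg.Agent.Lib.ConjFunctor.Reach in
/-- A real element of odd order gives one inverted in some `N(Z(J(T)))`. -/
theorem exists_inverted {G : Type*} [Group G] [Finite G] {x g : G} (hx : x ≠ 1)
    (hodd : Odd (orderOf x)) (hg : g * x * g⁻¹ = x⁻¹) :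
    ∃ (q : ℕ) (_ : Fact q.Prime), q ≠ 2 ∧ ∃ T : Sylow q G, ∃ y ∈ (T : Subgroup G), y ≠ 1 ∧
      ∃ n ∈ Subgroup.normalizer (Cfsg.centerThompsonAOf (T : Subgroup G) : Set G),
        n * y * n⁻¹ = y⁻¹ := by
  classical
  obtain ⟨q, hq, hqd⟩ := Nat.exists_prime_and_dvd
    (fun h => hx (orderOf_eq_one_iff.1 h) : orderOf x ≠ 1)
  haveI : Fact q.Prime := ⟨hq⟩
  have hq2 : q ≠ 2 := fun h => (Nat.not_even_iff_odd.2 hodd) (even_iff_two_dvd.2 (h ▸ hqd))
  set u := x ^ (orderOf x / q) with hu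
  have huq : orderOf u = q := orderOf_pow_orderOf_div (orderOf_pos x).ne' hqd
  have hgu : g * u * g⁻¹ = u⁻¹ := by rw [hu, ← conj_pow, hg, inv_pow]
  obtain ⟨T, hT⟩ := (IsPGroup.of_card (p := q) (n := 1)
    (by rw [Nat.card_zpowers, huq, pow_one]) : IsPGroup q (Subgroup.zpowers u)).exists_le_sylow
  have huT : u ∈ (T : Subgroup G) := hT (Subgroup.mem_zpowers u)
  have hu1 : u ≠ 1 := fun h => by rw [h, orderOf_one] at huq; exact hq.one_lt.ne huq
  refine ⟨q, ⟨hq⟩, hq2, T, ?_⟩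
  by_cases hr : Real (Subgroup.normalizer (Cfsg.centerThompsonAOf (T : Subgroup G) : Set G)) {u} g
  · obtain ⟨n, hn, e⟩ := hr
    exact ⟨u, huT, hu1, n, hn, (e u rfl).trans hgu⟩
  · obtain ⟨⟨y, hyE, hy1, hyp, hall⟩, -⟩ := hasEigen_of_bad hq2 T ⟨{u}, g,
      Set.singleton_subset_iff.2 huT, Subgroup.mem_top _, by
        rintro _ ⟨a, ha, rfl⟩
        rw [Set.mem_singleton_iff] at ha
        subst ha
        show g * u * g⁻¹ ∈ _
        rw [hgu]
        exact inv_mem huT, hr⟩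
    obtain ⟨n, hn, e⟩ := hall (-1)
    refine ⟨y, ZJ.centerThompsonAOf_le _ hyE, hy1, n, hn, e.trans ?_⟩
    rw [eq_inv_iff_mul_eq_one, ← pow_succ, ← orderOf_dvd_iff_pow_eq_one]
    refine (orderOf_dvd_of_pow_eq_one hyp).trans ?_
    rw [← ZMod.natCast_eq_zero_iff]
    push_cast
    simp

open Cfsg.Agent.Lib in
/-- No real element of odd order: a normal Sylow `2`-subgroup. -/
theorem normal_sylow_two {G : Type*} [Group G] [Finite G]
    (h : ∀ x g : G, x ≠ 1 → Odd (orderOf x) → g * x * g⁻¹ ≠ x⁻¹) (P : Sylow 2 G) :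
    (P : Subgroup G).Normal := by
  classical
  set N := Cfsg.pCore 2 G with hN
  have hNP : N ≤ (P : Subgroup G) := Cores.pCore_le_sylow P
  have hdiv : ¬ 2 ∣ Nat.card (G ⧸ N) := by
    intro hd
    obtain ⟨t, ht⟩ := exists_prime_orderOf_dvd_card' 2 hd
    obtain ⟨b, hb, hodd, hinv⟩ := Involutions.BaerSuzuki.exists_odd_inverted t ht
      fun M hM hMp htM => by
        have h1 := Cores.le_pCore (N := M) hMp htM
        rw [show Cfsg.pCore 2 (G ⧸ N) = ⊥ from Cores.pCore_quotient_pCore 2, Subgroup.mem_bot] at h1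
        rw [h1, orderOf_one] at ht
        omega
    obtain ⟨q, hq, hqd⟩ := Nat.exists_prime_and_dvd
      (fun h => hb (orderOf_eq_one_iff.1 h) : orderOf b ≠ 1)
    haveI : Fact q.Prime := ⟨hq⟩
    have hq2 : q ≠ 2 := fun h => (Nat.not_even_iff_odd.2 hodd) (even_iff_two_dvd.2 (h ▸ hqd))
    set b' := b ^ (orderOf b / q) with hb'
    have hb'q : orderOf b' = q := orderOf_pow_orderOf_div (orderOf_pos b).ne' hqd
    have hinv' : t * b' * t⁻¹ = b'⁻¹ := by rw [hb', ← conj_pow, hinv, inv_pow]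
    obtain ⟨s, hs⟩ := QuotientGroup.mk'_surjective N b'
    obtain ⟨u, hu⟩ := QuotientGroup.mk'_surjective N t
    obtain ⟨i, hi⟩ := (Cores.pCore_isPGroup 2 : IsPGroup 2 N) ⟨s ^ q, by
      rw [← QuotientGroup.eq_one_iff, QuotientGroup.mk_pow]
      show (QuotientGroup.mk' N s) ^ q = 1
      rw [hs, ← hb'q, pow_orderOf_eq_one]⟩
    set x := s ^ 2 ^ i with hx
    set π := QuotientGroup.mk' N with hπ
    have hxq : x ^ q = 1 := by
      rw [hx, ← pow_mul, Nat.mul_comm, pow_mul]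
      simpa using congrArg Subtype.val hi
    have hπx : π x = b' ^ 2 ^ i := by rw [hx, map_pow, hs]
    have hπx1 : π x ≠ 1 := fun h1 => by
      have h2 : q ∣ 2 ^ i := hb'q ▸ orderOf_dvd_of_pow_eq_one (hπx ▸ h1)
      exact hq2 ((Nat.prime_dvd_prime_iff_eq hq Nat.prime_two).1 (hq.dvd_of_dvd_pow h2))
    have hx1 : x ≠ 1 := fun h1 => hπx1 (by rw [h1, map_one])
    have hxo : orderOf x = q := orderOf_eq_prime hxq hx1
    have hcop : ∀ n ∈ N, n ^ q = 1 → n = 1 := fun n hn hnq => by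
      obtain ⟨j, hj⟩ := (Cores.pCore_isPGroup 2 : IsPGroup 2 N) ⟨n, hn⟩
      have hj' : n ^ 2 ^ j = 1 := by simpa using congrArg Subtype.val hj
      exact orderOf_eq_one_iff.1 (Nat.eq_one_of_dvd_coprimes
        (((Nat.coprime_primes Nat.prime_two hq).2 hq2.symm).pow_left j)
        (orderOf_dvd_of_pow_eq_one hj') (orderOf_dvd_of_pow_eq_one hnq))
    -- `⟨x⟩` is a Sylow subgroup of `⟨x⟩N`
    have hTK : ConjFunctor.Basic.IsSyl q (Subgroup.zpowers x) (Subgroup.zpowers x ⊔ N) := by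
      refine ⟨le_sup_left, IsPGroup.of_card (n := 1) (by rw [Nat.card_zpowers, hxo, pow_one]),
        fun hd => ?_⟩
      have h1 : (Subgroup.zpowers x).relIndex (Subgroup.zpowers x ⊔ N) ∣ Nat.card N := by
        have hd := Cores.card_sup_dvd_mul (Subgroup.zpowers x) N
        have h2 := Subgroup.relIndex_mul_relIndex (⊥ : Subgroup G) (Subgroup.zpowers x)
          (Subgroup.zpowers x ⊔ N) bot_le le_sup_left
        rw [Subgroup.relIndex_bot_left, Subgroup.relIndex_bot_left] at h2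
        rw [← h2] at hd
        exact (Nat.mul_dvd_mul_iff_left Nat.card_pos).1 hd
      obtain ⟨j, hj⟩ := IsPGroup.iff_card.1 (Cores.pCore_isPGroup 2 : IsPGroup 2 N)
      have h3 := hd.trans h1
      rw [hj] at h3
      exact hq2 ((Nat.prime_dvd_prime_iff_eq hq Nat.prime_two).1 (hq.dvd_of_dvd_pow h3))
    have hπu : π (u * x * u⁻¹) = (π x)⁻¹ := by
      rw [map_mul, map_mul, map_inv, hu, hπx, ← conj_pow, hinv', inv_pow]
    have hconjK : Fusion.Alperin.conjS u (Subgroup.zpowers x) ≤ Subgroup.zpowers x ⊔ N := by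
      rw [Fusion.Alperin.conjS, MonoidHom.map_zpowers, Subgroup.zpowers_le]
      show u * x * u⁻¹ ∈ _
      have h1 : x * (u * x * u⁻¹) ∈ N :=
        (QuotientGroup.eq_one_iff (x * (u * x * u⁻¹))).1 (by
          show π (x * (u * x * u⁻¹)) = 1
          rw [map_mul, hπu, mul_inv_cancel])
      have h2 := Subgroup.mul_mem _ (le_sup_left (b := N) (Subgroup.inv_mem _ (Subgroup.mem_zpowers x)))
        (le_sup_right (a := Subgroup.zpowers x) h1)
      rwa [inv_mul_cancel_left] at h2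
    obtain ⟨k, hk, hkx⟩ := hTK.exists_conj_le (hTK.isP.map _) hconjK
    have hk' : k ∈ ((Subgroup.zpowers x ⊔ N : Subgroup G) : Set G) := hk
    rw [Subgroup.mul_normal _ N] at hk'
    obtain ⟨a, ha, n, hn, rfl⟩ := hk'
    obtain ⟨e, he⟩ := ha
    set g := a * n * u with hg
    have hmem : g * x * g⁻¹ ∈ Subgroup.zpowers x := by
      have h1 := hkx (Fusion.Alperin.conj_mem_conjS
        (Fusion.Alperin.conj_mem_conjS (Subgroup.mem_zpowers x)))
      simpa [hg, mul_assoc] using h1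
    have hπg : π (g * x * g⁻¹) = (π x)⁻¹ := by
      have hπn : π n = 1 := (QuotientGroup.eq_one_iff n).2 hn
      calc π (g * x * g⁻¹) = π a * π (u * x * u⁻¹) * (π a)⁻¹ := by
            simp only [hg, map_mul, map_inv, hπn]; group
        _ = (π x)⁻¹ := by
            rw [hπu, ← he, map_zpow]; group
    refine h x g hx1 (hxo ▸ hq.odd_of_ne_two hq2) ?_
    obtain ⟨j, hj⟩ := hmem
    rw [← hj, eq_inv_iff_mul_eq_one]
    refine hcop _ ((QuotientGroup.eq_one_iff _).1 ?_) ?_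
    · show π (x ^ j * x) = 1
      rw [map_mul, show x ^ j = g * x * g⁻¹ from hj, hπg, inv_mul_cancel]
    · rw [← zpow_add_one, ← zpow_natCast, ← zpow_mul, mul_comm, zpow_mul, zpow_natCast, hxq,
        one_zpow]
  have hPN : (P : Subgroup G) ≤ N := by
    intro a ha
    rw [← QuotientGroup.eq_one_iff]
    obtain ⟨j, hj⟩ := P.2 ⟨a, ha⟩
    have hj' : a ^ 2 ^ j = 1 := by simpa using congrArg Subtype.val hj
    refine orderOf_eq_one_iff.1 (Nat.eq_one_of_dvd_coprimes
      ((Nat.prime_two.coprime_iff_not_dvd.2 hdiv).pow_left j) ?_ (orderOf_dvd_natCard _))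
    exact orderOf_dvd_of_pow_eq_one (by rw [← QuotientGroup.mk_pow, hj', QuotientGroup.mk_one])
  rw [le_antisymm hPN hNP]
  infer_instance

/-- An inverted element of odd order forces a non-normal Sylow `2`-subgroup. -/
theorem not_inverted {G : Type*} [Group G] [Finite G] (h : ∀ P : Sylow 2 G, (P : Subgroup G).Normal)
    {x g : G} (hx : x ≠ 1) (hodd : Odd (orderOf x)) : g * x * g⁻¹ ≠ x⁻¹ := by
  classical
  intro hg
  obtain ⟨a, b, hb, hord⟩ :=
    Nat.exists_eq_pow_mul_and_not_dvd (orderOf_pos g).ne' 2 (by norm_num)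
  set g2 := g ^ b with hg2
  have hbo : Odd b := Nat.odd_iff.2 (by omega)
  have hiter : ∀ n : ℕ, g ^ n * x * (g ^ n)⁻¹ = if Even n then x else x⁻¹ := by
    intro n
    induction n with
    | zero => simp
    | succ n ih =>
      calc g ^ (n + 1) * x * (g ^ (n + 1))⁻¹ = g * (g ^ n * x * (g ^ n)⁻¹) * g⁻¹ := by
            rw [pow_succ']; group
        _ = _ := by
          rw [ih]
          by_cases he : Even n
          · simp [he, Nat.even_add_one, hg]
          · simp [he, Nat.even_add_one, ← conj_inv, hg]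
  have hgx : g2 * x * g2⁻¹ = x⁻¹ := by
    rw [hg2, hiter, if_neg (Nat.not_even_iff_odd.2 hbo)]
  obtain ⟨P, hP⟩ := (IsPGroup.of_card_dvd_pow (p := 2) (n := a) (by
    rw [Nat.card_zpowers]
    refine orderOf_dvd_of_pow_eq_one ?_
    rw [hg2, ← pow_mul, Nat.mul_comm, ← hord, pow_orderOf_eq_one]) :
    IsPGroup 2 (Subgroup.zpowers g2)).exists_le_sylow
  have hgP := hP (Subgroup.mem_zpowers g2)
  have hmem : g2 * x * g2⁻¹ * x⁻¹ ∈ (P : Subgroup G) := by
    rw [show g2 * x * g2⁻¹ * x⁻¹ = g2 * (x * g2⁻¹ * x⁻¹) by group]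
    exact mul_mem hgP ((h P).conj_mem _ (inv_mem hgP) x)
  rw [hgx] at hmem
  obtain ⟨j, hj⟩ := P.2 ⟨_, hmem⟩
  have hj' : (x⁻¹ * x⁻¹) ^ 2 ^ j = 1 := by simpa using congrArg Subtype.val hj
  rw [← pow_two, ← pow_mul, inv_pow, inv_eq_one] at hj'
  refine hx (orderOf_eq_one_iff.1 (Nat.eq_one_of_dvd_coprimes
    ((Nat.prime_two.coprime_iff_not_dvd.2 hodd.not_two_dvd_nat).pow_left (j + 1)) ?_ dvd_rfl))
  rw [pow_succ']
  exact orderOf_dvd_of_pow_eq_one hj'

/-- Odd order of the elements of a Sylow subgroup at an odd prime. -/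
theorem odd_orderOf {G : Type*} [Group G] [Finite G] {q : ℕ} [hq : Fact q.Prime] (hq2 : q ≠ 2)
    (T : Sylow q G) {x : G} (hx : x ∈ (T : Subgroup G)) : Odd (orderOf x) := by
  obtain ⟨k, hk⟩ := IsPGroup.iff_orderOf.1 T.2 ⟨x, hx⟩
  rw [Subgroup.orderOf_mk] at hk
  rw [hk]
  exact (hq.out.odd_of_ne_two hq2).pow

/-- For a finite group G the following are equivalent: (a) G has a normal Sylow 2-subgroup; (b) for every odd prime q dividing the order of G and every Sylow q-subgroup T, the normalizer of Z(J(T)) has a normal Sylow 2-subgroup; (c) for every odd prime q and every Sylow q-subgroup T, no nonidentity element of T is inverted by an element of the normalizer of Z(J(T)). Here J(T) is the Thompson subgroup generated by the abelian subgroups of T of largest order. Stated as the two equivalences (a) ⇔ (b) and (a) ⇔ (c). -/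
theorem result {G : Type*} [Group G] [Finite G] : ((∀ P : Sylow 2 G, (P : Subgroup G).Normal) ↔ ∀ (q : ℕ) [Fact q.Prime], q ≠ 2 → q ∣ Nat.card G → ∀ T : Sylow q G, ∀ P : Sylow 2 ↥(Subgroup.normalizer (Cfsg.centerThompsonAOf (T : Subgroup G) : Set G)), (P : Subgroup ↥(Subgroup.normalizer (Cfsg.centerThompsonAOf (T : Subgroup G) : Set G))).Normal) ∧ ((∀ P : Sylow 2 G, (P : Subgroup G).Normal) ↔ ∀ (q : ℕ) [Fact q.Prime], q ≠ 2 → ∀ T : Sylow q G, ∀ x ∈ (T : Subgroup G), x ≠ 1 → ∀ g ∈ Subgroup.normalizer (Cfsg.centerThompsonAOf (T : Subgroup G) : Set G), g * x * g⁻¹ ≠ x⁻¹) := by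
  classical
  have hca : (∀ (q : ℕ) [Fact q.Prime], q ≠ 2 → ∀ T : Sylow q G, ∀ x ∈ (T : Subgroup G), x ≠ 1 →
      ∀ g ∈ Subgroup.normalizer (Cfsg.centerThompsonAOf (T : Subgroup G) : Set G),
        g * x * g⁻¹ ≠ x⁻¹) → ∀ P : Sylow 2 G, (P : Subgroup G).Normal := fun hc P => by
    refine normal_sylow_two (fun x g hx hodd hg => ?_) P
    obtain ⟨q, hq, hq2, T, y, hy, hy1, n, hn, e⟩ := exists_inverted hx hodd hg
    exact @hc q hq hq2 T y hy hy1 n hn e
  refine ⟨⟨fun ha q _ _ _ T P => ?_, fun hb => hca fun q hq hq2 T x hx hx1 g hg => ?_⟩,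
    ⟨fun ha q _ hq2 T x hx hx1 g _ => not_inverted ha hx1 (odd_orderOf hq2 T hx), hca⟩⟩
  · obtain ⟨P₀, hP₀⟩ := (P.2.map (Subgroup.subtype _)).exists_le_sylow
    have hc := P.3 (P₀.2.comap_subtype) fun x hx => hP₀ ⟨x, hx, rfl⟩
    rw [← hc]
    exact (ha P₀).comap _
  · haveI := hq
    have hTN : (T : Subgroup G) ≤
        Subgroup.normalizer (Cfsg.centerThompsonAOf (T : Subgroup G) : Set G) :=
      Subgroup.le_normalizer.trans (Cfsg.Agent.Lib.ZJ.normalizer_le_normalizer_centerThompsonA _)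
    have hdvd : q ∣ Nat.card G := by
      obtain ⟨k, hk⟩ := IsPGroup.iff_orderOf.1 T.2 ⟨x, hx⟩
      rw [Subgroup.orderOf_mk] at hk
      cases k with
      | zero => exact absurd (orderOf_eq_one_iff.1 (by simpa using hk)) hx1
      | succ k => exact (hk ▸ dvd_pow_self q k.succ_ne_zero).trans (orderOf_dvd_natCard x)
    intro he
    refine not_inverted (hb q hq2 hdvd T) (x := ⟨x, hTN hx⟩) (g := ⟨g, hg⟩)
      (fun h => hx1 (congrArg Subtype.val h)) ?_ (Subtype.ext he)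
    rw [Subgroup.orderOf_mk]
    exact odd_orderOf hq2 T hx

end Cfsg.Agent.S2756
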