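import Cfsg.Statements.S2581
import Cfsg.Agent.Lib.JordanType.Centralizer


set_option autoImplicit false
open Cfsg

namespace Cfsg.Agent.S2581
open Cfsg.Agent.Lib.JordanType

/-- Order of the centraliser in GL of a unipotent matrix of given Jordan type over the field with q elements: if the type has a_i blocks of size i (all block sizes at least 1), the invertible matrices commuting with it number q^γ · Π_i |GL_(a_i)(q)| with γ = 2 Σ_(i<j) i a_i a_j + Σ_i (i − 1) a_i² (a group of order q^γ extended by Π GL_(a_i)(q)). -/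
theorem result {F : Type*} [Field F] [Fintype F] {q : ℕ} (hF : Fintype.card F = q) {t : ℕ} (d : Fin t → ℕ) (hd : ∀ k, 1 ≤ d k) : Nat.card {g : GL ((k : Fin t) × Fin (d k)) F // (g : Matrix ((k : Fin t) × Fin (d k)) ((k : Fin t) × Fin (d k)) F) * Cfsg.jordanTypeMatrix d F = Cfsg.jordanTypeMatrix d F * (g : Matrix ((k : Fin t) × Fin (d k)) ((k : Fin t) × Fin (d k)) F)} = q ^ (2 * (∑ i ∈ Finset.range (Finset.univ.sup d + 1), ∑ j ∈ Finset.range (Finset.univ.sup d + 1), if i < j then i * (Finset.univ.filter (fun k : Fin t => d k = i)).card * (Finset.univ.filter (fun k : Fin t => d k = j)).card else 0) + ∑ i ∈ Finset.range (Finset.univ.sup d + 1), (i - 1) * (Finset.univ.filter (fun k : Fin t => d k = i)).card ^ 2) * ∏ i ∈ Finset.range (Finset.univ.sup d + 1), ∏ j : Fin ((Finset.univ.filter (fun k : Fin t => d k = i)).card), (q ^ (Finset.univ.filter (fun k : Fin t => d k = i)).card - q ^ (j : ℕ)) := by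
  classical
  set S := Finset.univ.sup d with hSdef
  have hS : ∀ k, d k ≤ S := fun k => Finset.le_sup (Finset.mem_univ k)
  set a : ℕ → ℕ := fun i => (Finset.univ.filter (fun k : Fin t => d k = i)).card with ha
  have h := card_units_commutant (F := F) (stdCoords d) hd hS
  rw [hF] at h
  set J := Cfsg.jordanTypeMatrix d F
  let e : {g : GL ((k : Fin t) × Fin (d k)) F // (g : Matrix _ _ F) * J = J * (g : Matrix _ _ F)} ≃
      {g : Module.End F ((k : Fin t) × Fin (d k) → F) // Commute g (Matrix.toLin' (J - 1)) ∧ IsUnit g} :=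
    Equiv.ofBijective (fun g => ⟨Matrix.toLinAlgEquiv' (g.1 : Matrix _ _ F), by
        show Commute (Matrix.toLinAlgEquiv' (g.1 : Matrix _ _ F)) (Matrix.toLinAlgEquiv' (J - 1))
        exact ((Commute.sub_right g.2 (Commute.one_right _))).map Matrix.toLinAlgEquiv',
        g.1.isUnit.map Matrix.toLinAlgEquiv'⟩)
      ⟨fun g g' hh => Subtype.ext (Units.ext (Matrix.toLinAlgEquiv'.injective (congrArg Subtype.val hh))), fun g => by
        have hu := g.2.2.map Matrix.toLinAlgEquiv'.symm
        refine ⟨⟨hu.unit, ?_⟩, Subtype.ext (Matrix.toLinAlgEquiv'.apply_symm_apply g.1)⟩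
        show Matrix.toLinAlgEquiv'.symm g.1 * J = J * Matrix.toLinAlgEquiv'.symm g.1
        have h1 : Commute (Matrix.toLinAlgEquiv'.symm g.1) (J - 1) := by
          refine Matrix.toLinAlgEquiv'.injective ?_
          rw [map_mul, map_mul, AlgEquiv.apply_symm_apply]
          exact g.2.1
        have h2 := h1.add_right (Commute.one_right _)
        rwa [sub_add_cancel] at h2⟩
  rw [Nat.card_congr e]
  have hq : 0 < q := hF ▸ Fintype.card_pos
  refine Nat.eq_of_mul_eq_mul_right (pow_pos hq (∑ j ∈ Finset.range (S + 1), a j ^ 2)) (h.trans ?_)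
  rw [mul_right_comm, ← pow_add]
  congr 2
  -- fibre the double sum
  show ∑ l, ∑ k, min (d k) (d l) = 2 * (∑ i ∈ Finset.range (S + 1), ∑ j ∈ Finset.range (S + 1),
    if i < j then i * a i * a j else 0) + ∑ i ∈ Finset.range (S + 1), (i - 1) * a i ^ 2 + _
  have hfib : ∀ f : ℕ → ℕ, ∑ l, f (d l) = ∑ i ∈ Finset.range (S + 1), a i * f i := fun f => by
    rw [← Finset.sum_fiberwise_of_maps_to (g := d) (t := Finset.range (S + 1))
      (fun l _ => Finset.mem_range.2 (Nat.lt_succ_of_le (hS l)))]
    refine Finset.sum_congr rfl fun i _ => ?_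
    rw [Finset.sum_congr rfl (g := fun _ => f i) fun l hl => by rw [(Finset.mem_filter.1 hl).2],
      Finset.sum_const, smul_eq_mul]
  rw [Finset.sum_congr rfl fun l _ => hfib (fun i => min i (d l)),
    hfib (fun j => ∑ i ∈ Finset.range (S + 1), a i * min i j)]
  have h0 : a 0 = 0 := Finset.card_eq_zero.2 (Finset.filter_eq_empty_iff.2 fun k _ => Nat.one_le_iff_ne_zero.1 (hd k))
  have hsplit : ∀ i j, a j * (a i * min i j) = (if i < j then i * a i * a j else 0) + (if j < i then j * a j * a i else 0)
      + (if i = j then i * a i ^ 2 else 0) := fun i j => by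
    rcases lt_trichotomy i j with hij | hij | hij
    · rw [if_pos hij, if_neg (by omega), if_neg (by omega), min_eq_left hij.le]; ring
    · subst hij
      simp [min_self]; ring
    · rw [if_neg (by omega), if_pos hij, if_neg (by omega), min_eq_right hij.le]; ring
  simp only [Finset.mul_sum, hsplit, Finset.sum_add_distrib]
  rw [Finset.sum_comm (f := fun j i => if i < j then i * a i * a j else 0), ← two_mul, Finset.mul_sum]
  simp only [Finset.mul_sum]
  rw [add_assoc]
  congr 1
  rw [← Finset.sum_add_distrib]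
  refine Finset.sum_congr rfl fun i hi => ?_
  rw [Finset.sum_ite_eq' (Finset.range (S + 1)) i (fun x => x * a x ^ 2), if_pos hi]
  rcases Nat.eq_zero_or_pos i with rfl | hi0
  · rw [h0]; simp
  · obtain ⟨i', rfl⟩ : ∃ i', i = i' + 1 := ⟨i - 1, by omega⟩
    simp only [add_tsub_cancel_right]
    ring

end Cfsg.Agent.S2581
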