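import Cfsg.Statements.S0669
import Cfsg.Agent.Lib.Perm.Basic

set_option autoImplicit false
open Cfsg

namespace Cfsg.Agent.S0669

/-- The rank of a transitive action: orbits on ordered pairs correspond to orbits of a point stabiliser. -/
theorem result {G : Type*} [Group G] {Ω : Type*} [Finite Ω] [MulAction G Ω] [MulAction.IsPretransitive G Ω] (a : Ω) : Nat.card (MulAction.orbitRel.Quotient G (Ω × Ω)) = Nat.card (MulAction.orbitRel.Quotient (MulAction.stabilizer G a) Ω) := by
  classical
  let f : MulAction.orbitRel.Quotient (MulAction.stabilizer G a) Ω →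
      MulAction.orbitRel.Quotient G (Ω × Ω) :=
    Quotient.map' (fun y => (a, y)) (by
      intro y z hyz
      obtain ⟨⟨g, hg⟩, rfl⟩ := hyz
      exact ⟨g, Prod.ext hg rfl⟩)
  refine (Nat.card_congr (Equiv.ofBijective f ⟨?_, ?_⟩)).symm
  · intro y z
    induction y using Quotient.inductionOn' with
    | h y =>
    induction z using Quotient.inductionOn' with
    | h z =>
    intro h
    obtain ⟨g, hg⟩ := Quotient.eq''.mp h
    rw [Prod.ext_iff] at hg
    exact Quotient.eq''.mpr ⟨⟨g, hg.1⟩, hg.2⟩
  · intro q
    induction q using Quotient.inductionOn' with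
    | h q =>
    obtain ⟨g, hg⟩ := MulAction.exists_smul_eq G q.1 a
    refine ⟨Quotient.mk'' (g • q.2), Quotient.eq''.mpr ⟨g, ?_⟩⟩
    exact Prod.ext hg rfl

end Cfsg.Agent.S0669
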