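import Cfsg.Statements.S0719
import Cfsg.Agent.Lib.PermTrans.Constituents

set_option autoImplicit false
open Cfsg
open scoped Pointwise

namespace Cfsg.Agent.S0719

open MulAction Module
open Cfsg.Agent.Lib.Characters.Basic Cfsg.Agent.Lib.Characters.Complete
open Cfsg.Agent.Lib.Induced.Basic Cfsg.Agent.Lib.Perm.Modules
open Cfsg.Agent.Lib.PermTrans.Constituents

/-- The integer equation behind the theorem. -/
theorem solve {m d s u : ℤ} (hm : 2 ≤ m) (hd : 2 ≤ d) (hd' : d + 2 ≤ 2 * m - 1)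
    (h1 : d = -(m - 1) * s - u) (h2 : 2 * u ^ 2 + 2 * u + (m - 1) * (s ^ 2 + 2 * s) = 0) :
    ∃ a : ℕ, 0 < a ∧ m = 2 * (a : ℤ) ^ 2 + 2 * a + 1 ∧
      (d = a * (2 * a + 1) ∨ d = (a + 1) * (2 * a + 1)) := by
  have hu : 0 ≤ u ^ 2 + u := by
    rcases le_or_gt 0 u with h | h
    · positivity
    · nlinarith
  have hsneg : s ^ 2 + 2 * s ≤ 0 := by
    by_contra h
    push Not at h
    nlinarith
  have hs : -2 ≤ s ∧ s ≤ 0 := ⟨by nlinarith, by nlinarith⟩
  obtain ⟨hs1, hs2⟩ := hs
  interval_cases s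
  · have hu0 : u * (u + 1) = 0 := by nlinarith
    rcases mul_eq_zero.1 hu0 with h | h <;> omega
  · have hm' : m = 2 * u ^ 2 + 2 * u + 1 := by linarith
    rcases le_or_gt 0 u with h | h
    · obtain ⟨a, rfl⟩ := Int.eq_ofNat_of_zero_le h
      refine ⟨a, ?_, hm', Or.inl (by rw [h1, hm']; ring)⟩
      rcases Nat.eq_zero_or_pos a with rfl | ha
      · norm_num at hm'; omega
      · exact ha
    · obtain ⟨a, ha⟩ := Int.eq_ofNat_of_zero_le (show 0 ≤ -u - 1 by omega)
      obtain rfl : u = -(a : ℤ) - 1 := by omega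
      refine ⟨a, ?_, by rw [hm']; ring, Or.inr (by rw [h1, hm']; ring)⟩
      rcases Nat.eq_zero_or_pos a with rfl | ha'
      · norm_num at hm'; omega
      · exact ha'
  · have hu0 : u * (u + 1) = 0 := by nlinarith
    rcases mul_eq_zero.1 hu0 with h | h <;> omega

variable {G : Type*} [Group G] [Fintype G] {Ω : Type*} [Fintype Ω] [MulAction G Ω]

omit [Fintype G] in
/-- In a primitive group of rank three and even degree all non-trivial suborbits are longer than
one, and they are self-paired. -/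
theorem suborbit_facts (hprim : IsPreprimitive G Ω) {m : ℕ} (hm : Fintype.card Ω = 2 * m)
    (hm2 : 2 ≤ m) (a₀ : Ω) (hrank : Nat.card (orbitRel.Quotient (stabilizer G a₀) Ω) = 3)
    (b : Ω) (hb : b ≠ a₀) :
    2 ≤ Nat.card (orbit (stabilizer G a₀) b) ∧
    Nat.card (orbit (stabilizer G a₀) b) + 2 ≤ 2 * m - 1 ∧
    (∃ g : G, g • a₀ = b ∧ g • b = a₀) ∧
    ∃ c, c ≠ a₀ ∧ c ∉ orbit (stabilizer G a₀) b ∧
      ∀ y, y = a₀ ∨ y ∈ orbit (stabilizer G a₀) b ∨ y ∈ orbit (stabilizer G a₀) c := by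
  classical
  haveI := hprim.toIsPretransitive
  haveI : Nontrivial Ω := Fintype.one_lt_card_iff_nontrivial.1 (by omega)
  set H := stabilizer G a₀
  have hfix : orbit H a₀ = {a₀} := by
    ext x
    exact ⟨fun ⟨g, hg⟩ => by rw [← hg]; exact g.2, fun hx => hx ▸ mem_orbit_self _⟩
  have hne : (Quotient.mk'' a₀ : orbitRel.Quotient H Ω) ≠ Quotient.mk'' b := fun h => by
    have := orbitRel_apply.1 (Quotient.eq''.1 h.symm)
    rw [hfix] at this
    exact hb this
  have := Fintype.ofFinite (orbitRel.Quotient H Ω)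
  rw [Nat.card_eq_fintype_card, ← Finset.card_univ] at hrank
  let mk : Ω → orbitRel.Quotient H Ω := Quotient.mk''
  have hcard : (Finset.univ \ ({mk a₀, mk b} : Finset (orbitRel.Quotient H Ω))).card = 1 := by
    rw [Finset.card_sdiff_of_subset (Finset.subset_univ _), hrank, Finset.card_pair (show mk a₀ ≠ mk b from hne)]
  obtain ⟨qc, hqc⟩ := Finset.card_eq_one.1 hcard
  induction qc using Quotient.inductionOn' with
  | h c =>
    have hc : ¬ (Quotient.mk'' c : orbitRel.Quotient H Ω) = Quotient.mk'' a₀ ∧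
        ¬ (Quotient.mk'' c : orbitRel.Quotient H Ω) = Quotient.mk'' b := by
      have := hqc ▸ Finset.mem_singleton_self (Quotient.mk'' c : orbitRel.Quotient H Ω)
      simpa using this
    have hcb : c ∉ orbit H b := fun h => hc.2 (Quotient.eq''.2 (orbitRel_apply.2 h))
    have hca : c ≠ a₀ := fun h => hc.1 (by rw [h])
    have hall : ∀ y, y = a₀ ∨ y ∈ orbit H b ∨ y ∈ orbit H c := by
      intro y
      by_cases h1 : (Quotient.mk'' y : orbitRel.Quotient H Ω) = Quotient.mk'' a₀
      · left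
        have := orbitRel_apply.1 (Quotient.eq''.1 h1)
        rwa [hfix] at this
      by_cases h2 : (Quotient.mk'' y : orbitRel.Quotient H Ω) = Quotient.mk'' b
      · exact Or.inr (Or.inl (orbitRel_apply.1 (Quotient.eq''.1 h2)))
      · have hmem : (Quotient.mk'' y : orbitRel.Quotient H Ω) ∈
            Finset.univ \ {(Quotient.mk'' a₀ : orbitRel.Quotient H Ω), Quotient.mk'' b} := by
          simp [h1, h2]
        rw [hqc, Finset.mem_singleton] at hmem
        exact Or.inr (Or.inr (orbitRel_apply.1 (Quotient.eq''.1 hmem)))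
    -- the two subdegrees
    have hsum : (orbit H b).toFinset.card + (orbit H c).toFinset.card + 1 = 2 * m := by
      rw [← hm, ← Finset.card_univ]
      have hd : Disjoint (orbit H b).toFinset (orbit H c).toFinset := by
        rw [Finset.disjoint_left]
        intro x h1 h2
        rw [Set.mem_toFinset] at h1 h2
        exact hcb ((orbit_eq_iff.2 h1) ▸ (mem_orbit_symm.1 h2 : c ∈ orbit H x))
      have ha : a₀ ∉ (orbit H b).toFinset ∪ (orbit H c).toFinset := by
        simp only [Finset.mem_union, Set.mem_toFinset, not_or]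
        exact ⟨fun h => hb (by have := mem_orbit_symm.1 h; rwa [hfix] at this),
          fun h => hca (by have := mem_orbit_symm.1 h; rwa [hfix] at this)⟩
      rw [← Finset.card_union_of_disjoint hd, ← Finset.card_insert_of_notMem ha]
      refine congrArg _ (Finset.eq_univ_of_forall fun y => ?_)
      simp only [Finset.mem_insert, Finset.mem_union, Set.mem_toFinset]
      exact hall y
    have hcardb : ∀ x : Ω, Nat.card (orbit H x) = (orbit H x).toFinset.card := fun x => by
      rw [Nat.card_coe_set_eq, ← Set.ncard_coe_finset, Set.coe_toFinset]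
    have hone : ∀ x, x ≠ a₀ → Nat.card (orbit H x) ≠ 1 := by
      intro x hx h1
      rw [Nat.card_eq_one_iff_unique] at h1
      have hle : H ≤ stabilizer G x := fun g hg =>
        congrArg Subtype.val (h1.1.elim (⟨g • x, ⟨g, hg⟩, rfl⟩ : orbit H x) ⟨x, mem_orbit_self x⟩)
      have hmax : IsCoatom H := IsPreprimitive.isCoatom_stabilizer_of_isPreprimitive G a₀
      have hxH : stabilizer G x = H := by
        rcases eq_or_lt_of_le hle with h | h
        · exact h.symm
        · exact absurd (hmax.2 _ h) (IsPreprimitive.isCoatom_stabilizer_of_isPreprimitive G x).1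
      let B : Set Ω := {y | stabilizer G y = H}
      have hB : IsBlock G B := by
        refine isBlock_iff_smul_eq_of_nonempty.2 fun {g} hne => ?_
        obtain ⟨z, ⟨y, hy, rfl⟩, hz⟩ := hne
        change stabilizer G (g • y) = H at hz
        change stabilizer G y = H at hy
        rw [stabilizer_smul_eq_stabilizer_map_conj, hy] at hz
        ext w
        rw [Set.mem_smul_set_iff_inv_smul_mem]
        change stabilizer G (g⁻¹ • w) = H ↔ stabilizer G w = H
        rw [stabilizer_smul_eq_stabilizer_map_conj]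
        constructor
        · intro hw
          conv_rhs => rw [← hz, ← hw]
          ext k
          simp [Subgroup.mem_map, mul_assoc]
        · intro hw
          rw [hw]
          conv_lhs => rw [← hz]
          ext k
          simp [Subgroup.mem_map, mul_assoc]
      rcases hprim.isTrivialBlock_of_isBlock hB with h | h
      · exact hx (h hxH (rfl : stabilizer G a₀ = H))
      · have hfx : ∀ y z : Ω, z ∈ orbit H y → z = y := by
          intro y z ⟨g, hg⟩
          have hy : y ∈ B := h ▸ Set.mem_univ y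
          rw [← hg]
          exact (hy.symm ▸ g.2 : (g : G) ∈ stabilizer G y)
        have hs : ∀ y : Ω, (orbit H y).toFinset.card = 1 := fun y => Finset.card_eq_one.2
          ⟨y, Finset.ext fun z => by
            rw [Set.mem_toFinset, Finset.mem_singleton]
            exact ⟨hfx y z, fun e => e ▸ mem_orbit_self _⟩⟩
        rw [hs, hs] at hsum
        omega
    have h1 := hone b hb
    have h2 := hone c hca
    rw [hcardb] at h1 h2 ⊢
    have hp1 : 0 < (orbit H b).toFinset.card := Finset.card_pos.2 ⟨b, by simp⟩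
    have hp2 : 0 < (orbit H c).toFinset.card := Finset.card_pos.2 ⟨c, by simp⟩
    refine ⟨by omega, by omega, ?_, c, hca, hcb, hall⟩
    -- self-paired
    obtain ⟨g, hg⟩ := exists_smul_eq G b a₀
    rcases hall (g • a₀) with h | h | h
    · exact absurd (MulAction.injective g (h.trans hg.symm)) (Ne.symm hb)
    · obtain ⟨k, hk⟩ := h
      change (k : G) • b = g • a₀ at hk
      refine ⟨(k : G)⁻¹ * g, ?_, ?_⟩
      · rw [mul_smul, inv_smul_eq_iff]; exact hk.symm
      · rw [mul_smul, hg, inv_smul_eq_iff]; exact k.2.symm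
    · exfalso
      obtain ⟨k, hk⟩ := h
      change (k : G) • c = g • a₀ at hk
      have e1 : orbital G a₀ c = fun x y => orbital G a₀ b y x := by
        funext x y
        simp only [orbital, Set.indicator_apply]
        congr 1
        refine propext ⟨?_, ?_⟩
        · rintro ⟨f, hf⟩
          refine ⟨f * (k : G)⁻¹ * g, Prod.ext ?_ ?_⟩
          · change (f * (k : G)⁻¹ * g) • a₀ = y
            rw [mul_smul, mul_smul, ← hk, inv_smul_smul]
            exact congrArg Prod.snd hf
          · change (f * (k : G)⁻¹ * g) • b = x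
            rw [mul_smul, mul_smul, hg, inv_smul_eq_iff.2 k.2.symm]
            exact congrArg Prod.fst hf
        · rintro ⟨f, hf⟩
          refine ⟨f * g⁻¹ * (k : G), Prod.ext ?_ ?_⟩
          · change (f * g⁻¹ * (k : G)) • a₀ = x
            rw [mul_smul, mul_smul, show (k : G) • a₀ = a₀ from k.2, inv_smul_eq_iff.2 hg.symm]
            exact congrArg Prod.snd hf
          · change (f * g⁻¹ * (k : G)) • c = y
            rw [mul_smul, mul_smul, hk, inv_smul_smul]
            exact congrArg Prod.fst hf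
      have s1 := orbital_row_sum (G := G) a₀ c a₀
      have s2 := orbital_col_sum (G := G) a₀ b a₀
      rw [e1] at s1
      have : ((orbit H c).toFinset.card : ℂ) = ((orbit H b).toFinset.card : ℂ) := by
        rw [← hcardb, ← hcardb]; exact s1.symm.trans s2
      norm_cast at this
      omega

/-- Dimensions of subrepresentations of a sum of two different irreducible representations. -/
theorem dims_of_two {V : Type*} [AddCommGroup V] [Module ℂ V] [FiniteDimensional ℂ V]
    (ρ : Representation ℂ G V) {m : ℕ} (hm2 : 2 ≤ m) (χ₁ χ₂ : G → ℂ)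
    (h₁ : Cfsg.IsIrrCharacter G χ₁) (h₂ : Cfsg.IsIrrCharacter G χ₂)
    (hchar : ρ.character = χ₁ + χ₂) (hd₁ : χ₁ 1 = (m : ℂ) - 1) (hd₂ : χ₂ 1 = m)
    (E : Subrepresentation ρ) :
      finrank ℂ E.toSubmodule = 0 ∨ finrank ℂ E.toSubmodule + 1 = m ∨
      finrank ℂ E.toSubmodule = m ∨ finrank ℂ E.toSubmodule + 1 = 2 * m := by
  classical
  have hne12 : (⟨χ₁, h₁⟩ : Cfsg.IrrCharacter G) ≠ ⟨χ₂, h₂⟩ := fun h => by
    have := congrFun (congrArg Subtype.val h) 1
    change χ₁ 1 = χ₂ 1 at this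
    rw [hd₁, hd₂] at this
    simp at this
  obtain ⟨E', hE'⟩ := exists_compl ρ E
  have := Fintype.ofFinite (Cfsg.IrrCharacter G)
  choose k hk using classInner_char_nat E.toRepresentation
  choose k' hk' using classInner_char_nat E'.toRepresentation
  have htot : ∀ θ : Cfsg.IrrCharacter G, ((k θ + k' θ : ℕ) : ℂ) =
      (if (⟨χ₁, h₁⟩ : Cfsg.IrrCharacter G) = θ then 1 else 0) +
      (if (⟨χ₂, h₂⟩ : Cfsg.IrrCharacter G) = θ then 1 else 0) := by
    intro θ
    rw [Nat.cast_add, ← hk, ← hk', ← classInner_split _ E E' hE', hchar, classInner_add_left,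
      ← classInner_irr, ← classInner_irr]
  have hdec := congrFun (classFunction_eq_sum (isClassFunction_character E.toRepresentation)) 1
  have hz : ∀ θ : Cfsg.IrrCharacter G,
      θ ∉ ({⟨χ₁, h₁⟩, ⟨χ₂, h₂⟩} : Finset (Cfsg.IrrCharacter G)) → k θ = 0 := by
    intro θ hθ
    simp only [Finset.mem_insert, Finset.mem_singleton, not_or] at hθ
    have := htot θ
    rw [if_neg (Ne.symm hθ.1), if_neg (Ne.symm hθ.2), add_zero, Nat.cast_eq_zero] at this
    omega
  rw [Representation.char_one, Finset.sum_apply, ← Finset.sum_subset (Finset.subset_univ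
    ({⟨χ₁, h₁⟩, ⟨χ₂, h₂⟩} : Finset (Cfsg.IrrCharacter G))) (fun θ _ hθ => by
      rw [Pi.smul_apply, hk, hz θ hθ, Nat.cast_zero, zero_smul]), Finset.sum_pair hne12] at hdec
  simp only [Pi.smul_apply, smul_eq_mul, hd₁, hd₂] at hdec
  rw [show classInner E.toRepresentation.character χ₁ = _ from hk ⟨χ₁, h₁⟩,
    show classInner E.toRepresentation.character χ₂ = _ from hk ⟨χ₂, h₂⟩] at hdec
  have t1 := htot ⟨χ₁, h₁⟩
  have t2 := htot ⟨χ₂, h₂⟩
  rw [if_pos rfl, if_neg (Ne.symm hne12), add_zero] at t1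
  rw [if_neg hne12, if_pos rfl, zero_add] at t2
  norm_cast at t1 t2
  have e1 : k ⟨χ₁, h₁⟩ = 0 ∨ k ⟨χ₁, h₁⟩ = 1 := by omega
  have e2 : k ⟨χ₂, h₂⟩ = 0 ∨ k ⟨χ₂, h₂⟩ = 1 := by omega
  obtain ⟨e, he⟩ : ∃ e, m = e + 1 := ⟨m - 1, by omega⟩
  rcases e1 with e1 | e1 <;> rcases e2 with e2 | e2 <;> rw [e1, e2] at hdec <;>
    simp only [he, Nat.cast_add, Nat.cast_one, Nat.cast_zero, add_sub_cancel_right, zero_mul,
      one_mul, add_zero, zero_add] at hdec <;> norm_cast at hdec <;> omega

/-- The computation for one suborbit. -/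
theorem main (hprim : IsPreprimitive G Ω) {m : ℕ} (hm : Fintype.card Ω = 2 * m)
    (a₀ : Ω) (hrank : Nat.card (orbitRel.Quotient (stabilizer G a₀) Ω) = 3) (χ₁ χ₂ : G → ℂ)
    (h₁ : Cfsg.IsIrrCharacter G χ₁) (h₂ : Cfsg.IsIrrCharacter G χ₂)
    (hπ : (fun g : G => (Nat.card (fixedBy Ω g) : ℂ)) = fun g => 1 + χ₁ g + χ₂ g)
    (hd₁ : χ₁ 1 = (m : ℂ) - 1) (hd₂ : χ₂ 1 = m) (b : Ω) (hb : b ≠ a₀) :
    ∃ a : ℕ, 0 < a ∧ m = 2 * a ^ 2 + 2 * a + 1 ∧
      (Nat.card (orbit (stabilizer G a₀) b) = a * (2 * a + 1) ∨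
        Nat.card (orbit (stabilizer G a₀) b) = (a + 1) * (2 * a + 1)) := by
  classical
  haveI := hprim.toIsPretransitive
  haveI : Nonempty Ω := ⟨a₀⟩
  have hm2 : 2 ≤ m := by
    obtain ⟨n, hn, hn'⟩ := exists_degree_pos (⟨χ₁, h₁⟩ : Cfsg.IrrCharacter G)
    change χ₁ 1 = n at hn'
    rw [hd₁, sub_eq_iff_eq_add] at hn'
    norm_cast at hn'
    omega
  obtain ⟨hd2, hd3, ⟨w, hw1, hw2⟩, c, hca, hcb, hall⟩ := suborbit_facts hprim hm hm2 a₀ hrank b hb
  set d := Nat.card (orbit (stabilizer G a₀) b) with hd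
  set A := orbitalMap (G := G) a₀ b with hA
  have hsym : ∀ x y, orbital G a₀ b x y = orbital G a₀ b y x := by
    intro x y
    simp only [orbital, Set.indicator_apply]
    congr 1
    refine propext ⟨?_, ?_⟩ <;> rintro ⟨g, hg⟩ <;> refine ⟨g * w, Prod.ext ?_ ?_⟩
    · change (g * w) • a₀ = y; rw [mul_smul, hw1]; exact congrArg Prod.snd hg
    · change (g * w) • b = x; rw [mul_smul, hw2]; exact congrArg Prod.fst hg
    · change (g * w) • a₀ = x; rw [mul_smul, hw1]; exact congrArg Prod.snd hg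
    · change (g * w) • b = y; rw [mul_smul, hw2]; exact congrArg Prod.fst hg
  have hval : ∀ x y, orbital G a₀ b x y = ((if (x, y) ∈ orbit G (a₀, b) then 1 else 0 : ℕ) : ℂ) :=
    fun x y => by simp only [orbital, Set.indicator_apply]; split_ifs <;> simp
  let nn : Ω → Ω → ℕ := fun x y =>
    ∑ z, (if (x, z) ∈ orbit G (a₀, b) then 1 else 0) * (if (z, y) ∈ orbit G (a₀, b) then 1 else 0)
  let c2 : Ω → Ω → ℂ := fun x y => ∑ z, orbital G a₀ b x z * orbital G a₀ b z y
  have hc2n : ∀ x y, c2 x y = (nn x y : ℂ) := fun x y => by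
    simp only [c2, nn, hval, Nat.cast_sum, Nat.cast_mul]
  have hc2inv : ∀ (g : G) x y, c2 (g • x) (g • y) = c2 x y := by
    intro g x y
    simp only [c2]
    rw [← Equiv.sum_comp (MulAction.toPerm g)]
    simp only [MulAction.toPerm_apply, orbital_smul]
  have hdiag : c2 a₀ a₀ = d := by
    rw [hd, ← orbital_row_sum (G := G) a₀ b a₀]
    refine Finset.sum_congr rfl fun z _ => ?_
    rw [← hsym a₀ z, hval]
    split_ifs <;> simp
  set p := nn a₀ b
  set q := nn a₀ c
  have hc2val : ∀ y, c2 a₀ y = if y = a₀ then (d : ℂ)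
      else if y ∈ orbit (stabilizer G a₀) b then (p : ℂ) else (q : ℂ) := by
    intro y
    split_ifs with h1 h2
    · rw [h1, hdiag]
    · obtain ⟨k, rfl⟩ := h2
      change c2 a₀ ((k : G) • b) = _
      conv_lhs => arg 1; rw [← show (k : G) • a₀ = a₀ from k.2]
      rw [hc2inv, hc2n]
    · rcases hall y with h | h | h
      · exact absurd h h1
      · exact absurd h h2
      · obtain ⟨k, rfl⟩ := h
        change c2 a₀ ((k : G) • c) = _
        conv_lhs => arg 1; rw [← show (k : G) • a₀ = a₀ from k.2]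
        rw [hc2inv, hc2n]
  have horb : ∀ y, (a₀, y) ∈ orbit G (a₀, b) ↔ y ∈ orbit (stabilizer G a₀) b := fun y => by
    constructor
    · rintro ⟨g, hg⟩
      exact ⟨⟨g, congrArg Prod.fst hg⟩, congrArg Prod.snd hg⟩
    · rintro ⟨g, hg⟩
      exact ⟨g.1, Prod.ext g.2 hg⟩
  have hexp : ∀ x y, c2 x y = (if x = y then (d : ℂ) - q else 0) +
      ((p : ℂ) - q) * orbital G a₀ b x y + q := by
    intro x y
    obtain ⟨g, rfl⟩ := exists_smul_eq G a₀ x
    obtain ⟨z, rfl⟩ : ∃ z, g • z = y := ⟨g⁻¹ • y, smul_inv_smul g y⟩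
    rw [hc2inv, orbital_smul, hc2val, hval]
    by_cases h1 : z = a₀
    · subst h1
      have hn : (z, z) ∉ orbit G (z, b) := by
        rintro ⟨g, hg⟩
        exact hb (MulAction.injective g
          ((congrArg Prod.snd hg :).trans (congrArg Prod.fst hg :).symm))
      simp [hn]
    · have h2 : g • a₀ ≠ g • z := fun h => h1 (MulAction.injective g h).symm
      rw [if_neg h1, if_neg h2]
      simp only [horb]
      split_ifs <;> push_cast <;> ring
  -- the row sum of `A²`
  have hrow : ∑ y, c2 a₀ y = (d : ℂ) * d := by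
    simp only [c2]
    rw [Finset.sum_comm]
    simp only [← Finset.mul_sum, orbital_row_sum, ← Finset.sum_mul, hd]
  have hcount : (d : ℂ) * d = (d : ℂ) - q + ((p : ℂ) - q) * d + 2 * m * q := by
    rw [← hrow]
    simp only [hexp, Finset.sum_add_distrib, Finset.sum_ite_eq, Finset.mem_univ, if_true,
      ← Finset.mul_sum, orbital_row_sum, ← hd, Finset.sum_const, Finset.card_univ, hm,
      nsmul_eq_mul]
    push_cast; ring
  -- on the sum-zero module
  set U := Cfsg.permSumZero ℂ G Ω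
  set T : Module.End ℂ U.toSubmodule := A.restrict (orbitalMap_sumZero (G := G) a₀ b) with hTdef
  have htr : LinearMap.trace ℂ _ T = -(d : ℂ) := trace_orbital_sumZero a₀ b (Ne.symm hb) _
  have hTsq : T * T = ((d : ℂ) - q) • 1 + ((p : ℂ) - q) • T := by
    refine LinearMap.ext fun v => Subtype.ext (funext fun y => ?_)
    have hv : ∑ x, (v : Ω → ℂ) x = 0 := v.2
    change ∑ x, orbital G a₀ b x y * (∑ z, orbital G a₀ b z x * (v : Ω → ℂ) z) =
      ((d : ℂ) - q) * (v : Ω → ℂ) y + ((p : ℂ) - q) * ∑ z, orbital G a₀ b z y * (v : Ω → ℂ) z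
    simp only [Finset.mul_sum]
    rw [Finset.sum_comm]
    have e : ∀ z, ∑ x, orbital G a₀ b x y * (orbital G a₀ b z x * (v : Ω → ℂ) z) =
        c2 z y * (v : Ω → ℂ) z := fun z => by
      simp only [c2, Finset.sum_mul]
      exact Finset.sum_congr rfl fun x _ => by ring
    simp only [e, hexp, add_mul, Finset.sum_add_distrib, ite_mul, zero_mul, Finset.sum_ite_eq',
      Finset.mem_univ, if_true, mul_assoc, ← Finset.mul_sum, hv, mul_zero, add_zero]
  -- possible dimensions of invariant subspaces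
  have hUchar : U.toRepresentation.character = χ₁ + χ₂ := by
    funext g
    have h := congrFun (char_add_of_isCompl (Cfsg.permRep ℂ G Ω) _ _
      (isCompl_constants_sumZero (G := G) (Ω := Ω))) g
    rw [character_permRep, character_constants, hπ] at h
    simp only [Pi.add_apply] at h ⊢
    linear_combination -h
  have hdimU : finrank ℂ U.toSubmodule + 1 = 2 * m := by
    have h := congrFun hUchar 1
    rw [Representation.char_one, Pi.add_apply, hd₁, hd₂] at h
    have : ((finrank ℂ U.toSubmodule + 1 : ℕ) : ℂ) = ((2 * m : ℕ) : ℂ) := by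
      push_cast; rw [h]; ring
    exact_mod_cast this
  have hdims : ∀ E : Subrepresentation U.toRepresentation,
      finrank ℂ E.toSubmodule = 0 ∨ finrank ℂ E.toSubmodule + 1 = m ∨
      finrank ℂ E.toSubmodule = m ∨ finrank ℂ E.toSubmodule + 1 = 2 * m :=
    fun E => dims_of_two (V := U.toSubmodule) U.toRepresentation hm2 χ₁ χ₂ h₁ h₂ hUchar hd₁ hd₂ E
  have hmult : ∀ μ : ℂ, T.charpoly.roots.count μ = 0 ∨ T.charpoly.roots.count μ + 1 = m ∨
      T.charpoly.roots.count μ = m ∨ T.charpoly.roots.count μ + 1 = 2 * m := by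
    intro μ
    let E : Subrepresentation U.toRepresentation := ⟨T.maxGenEigenspace μ, fun g x hx =>
      Module.End.mapsTo_maxGenEigenspace_of_comm
        (LinearMap.ext fun v => Subtype.ext
          (LinearMap.congr_fun (orbitalMap_comm (G := G) a₀ b g).eq v)) μ hx⟩
    rw [Polynomial.count_roots, ← LinearMap.finrank_maxGenEigenspace_eq]
    exact hdims E
  have hroot : ∀ μ ∈ T.charpoly.roots, μ * μ = ((d : ℂ) - q) + ((p : ℂ) - q) * μ := by
    intro μ hμ
    have he : T.HasEigenvalue μ :=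
      (Module.End.hasEigenvalue_iff_isRoot_charpoly T μ).2 (Polynomial.isRoot_of_mem_roots hμ)
    obtain ⟨v, hv⟩ := he.exists_hasEigenvector
    have h := LinearMap.congr_fun hTsq v
    simp only [Module.End.mul_apply, LinearMap.add_apply, LinearMap.smul_apply,
      Module.End.one_apply, hv.apply_eq_smul, map_smul, smul_smul, ← add_smul] at h
    exact smul_left_injective ℂ hv.2 h
  have hcardroots : T.charpoly.roots.card + 1 = 2 * m := by
    rw [IsAlgClosed.card_roots_eq_natDegree, LinearMap.charpoly_natDegree]; exact hdimU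
  have hsumroots : T.charpoly.roots.sum = -(d : ℂ) := (roots_charpoly_sum T).symm.trans htr
  obtain ⟨l, hl⟩ : ∃ l, l ∈ T.charpoly.roots :=
    Multiset.card_pos_iff_exists_mem.1 (by omega)
  set l' := ((p : ℂ) - q) - l with hl'
  have hsub : ∀ μ ∈ T.charpoly.roots, μ = l ∨ μ = l' := by
    intro μ hμ
    have h1 := hroot μ hμ
    have h2 := hroot l hl
    have : (μ - l) * (μ - l') = 0 := by rw [hl']; linear_combination h1 - h2
    rcases mul_eq_zero.1 this with h | h
    · exact Or.inl (sub_eq_zero.1 h)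
    · exact Or.inr (sub_eq_zero.1 h)
  by_cases hone : ∀ μ ∈ T.charpoly.roots, μ = l
  · -- a single eigenvalue is impossible
    exfalso
    have hrep := Multiset.eq_replicate.2 ⟨rfl, hone⟩
    rw [hrep, Multiset.sum_replicate, nsmul_eq_mul] at hsumroots
    have hc : ((T.charpoly.roots.card : ℕ) : ℂ) = 2 * (m : ℂ) - 1 := by
      rw [eq_sub_iff_add_eq]; exact_mod_cast congrArg (Nat.cast : ℕ → ℂ) hcardroots
    rw [hc] at hsumroots
    have h2 := hroot l hl
    have key : (2 * (m : ℂ)) * (d : ℂ) * ((2 * (m : ℂ) - 1) - d) = 0 := by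
      linear_combination (-(2 * (m : ℂ) - 1)) * (2 * (m : ℂ) - 1) * h2 +
        ((2 * (m : ℂ) - 1) * l - d - ((p : ℂ) - q) * (2 * (m : ℂ) - 1)) * hsumroots -
        (2 * (m : ℂ) - 1) * hcount
    have h0 : (2 * (m : ℂ)) * (d : ℂ) ≠ 0 := by
      simp only [ne_eq, mul_eq_zero, Nat.cast_eq_zero, OfNat.ofNat_ne_zero, false_or]; omega
    have := (mul_eq_zero.1 key).resolve_left h0
    rw [sub_eq_zero, sub_eq_iff_eq_add] at this
    norm_cast at this
    omega
  push Not at hone
  obtain ⟨μ₀, hμ₀, hμ₀l⟩ := hone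
  have hμ₀' : μ₀ = l' := (hsub μ₀ hμ₀).resolve_left hμ₀l
  subst hμ₀'
  have hsplit : T.charpoly.roots = Multiset.replicate (T.charpoly.roots.count l) l +
      Multiset.replicate (T.charpoly.roots.count l') l' := by
    ext z
    rw [Multiset.count_add, Multiset.count_replicate, Multiset.count_replicate]
    by_cases z1 : z = l
    · subst z1; simp [hμ₀l]
    by_cases z2 : z = l'
    · subst z2; simp [Ne.symm z1]
    simp only [Ne.symm z1, Ne.symm z2, if_false, add_zero, Multiset.count_eq_zero]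
    exact fun hz => (hsub z hz).elim z1 z2
  have htot : T.charpoly.roots.count l + T.charpoly.roots.count l' + 1 = 2 * m := by
    have := congrArg Multiset.card hsplit
    rw [Multiset.card_add, Multiset.card_replicate, Multiset.card_replicate] at this
    omega
  rw [hsplit, Multiset.sum_add, Multiset.sum_replicate, Multiset.sum_replicate, nsmul_eq_mul,
    nsmul_eq_mul] at hsumroots
  have hpos1 := Multiset.count_pos.2 hl
  have hpos2 := Multiset.count_pos.2 hμ₀
  obtain ⟨v, u, hvu, huroot, hlin⟩ : ∃ v u : ℂ, v + u = (p : ℂ) - q ∧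
      u * u = ((d : ℂ) - q) + ((p : ℂ) - q) * u ∧ ((m : ℂ) - 1) * v + (m : ℂ) * u = -(d : ℂ) := by
    rcases hmult l with h | h | h | h
    · omega
    · refine ⟨l, l', by rw [hl']; ring, hroot l' hμ₀, ?_⟩
      rw [show T.charpoly.roots.count l' = m by omega] at hsumroots
      rw [← hsumroots, show ((T.charpoly.roots.count l : ℕ) : ℂ) = (m : ℂ) - 1 by
        rw [eq_sub_iff_add_eq]; exact_mod_cast h]
    · refine ⟨l', l, by rw [hl']; ring, hroot l hl, ?_⟩
      rw [h] at hsumroots
      rw [← hsumroots, show ((T.charpoly.roots.count l' : ℕ) : ℂ) = (m : ℂ) - 1 by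
        rw [eq_sub_iff_add_eq]; exact_mod_cast (show T.charpoly.roots.count l' + 1 = m by omega)]
      ring
    · omega
  obtain ⟨s, hs⟩ : ∃ s : ℤ, s = (p : ℤ) - q := ⟨_, rfl⟩
  obtain ⟨uz, huz⟩ : ∃ uz : ℤ, (uz : ℂ) = u := ⟨-(d : ℤ) - ((m : ℤ) - 1) * s, by
    rw [hs]; push_cast; linear_combination ((m : ℂ) - 1) * hvu - hlin⟩
  have e1 : (d : ℤ) = -((m : ℤ) - 1) * s - uz := by
    have : ((d : ℤ) : ℂ) = ((-((m : ℤ) - 1) * s - uz : ℤ) : ℂ) := by
      rw [hs]; push_cast; rw [huz]; linear_combination hlin - ((m : ℂ) - 1) * hvu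
    exact_mod_cast this
  have e2 : 2 * uz ^ 2 + 2 * uz + ((m : ℤ) - 1) * (s ^ 2 + 2 * s) = 0 := by
    have q1 : (uz : ℂ) * uz = ((d : ℂ) - q) + (s : ℂ) * uz := by
      rw [huz, hs]; push_cast; exact huroot
    have q2 : (d : ℂ) * d = (d : ℂ) - q + (s : ℂ) * d + 2 * m * q := by
      rw [hs]; push_cast; exact hcount
    have q3 : (d : ℂ) = -((m : ℂ) - 1) * s - uz := by exact_mod_cast congrArg (Int.cast : ℤ → ℂ) e1
    have hm0 : (m : ℂ) ≠ 0 := Nat.cast_ne_zero.2 (by omega)
    have : ((2 * uz ^ 2 + 2 * uz + ((m : ℤ) - 1) * (s ^ 2 + 2 * s) : ℤ) : ℂ) = 0 := by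
      push_cast
      refine mul_left_cancel₀ hm0 (Eq.trans ?_ (mul_zero (m : ℂ)).symm)
      linear_combination (2 * (m : ℂ) - 1) * q1 + q2 +
        (s - ((d : ℂ) - ((m : ℂ) - 1) * s - uz) + 2 * m) * q3
    exact_mod_cast this
  obtain ⟨a, ha, hma, hda⟩ := solve (m := (m : ℤ)) (d := (d : ℤ)) (by exact_mod_cast hm2)
    (by exact_mod_cast hd2) (by omega) e1 e2
  exact ⟨a, ha, by exact_mod_cast hma, hda.imp (fun h => by exact_mod_cast h)
    (fun h => by exact_mod_cast h)⟩

/-- Groups of Wielandt type: if a primitive group of degree `2m` has rank 3 and permutation character `1 + χ₁ + χ₂` with irreducible `χ₁, χ₂` of degrees `m - 1` and `m`, then `m = 2a² + 2a + 1` for some positive integer `a` and the two non-trivial subdegrees are `a(2a+1)` and `(a+1)(2a+1)`. -/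
theorem result {G : Type*} [Group G] [Fintype G] {Ω : Type*} [Fintype Ω] [MulAction G Ω] (hprim : MulAction.IsPreprimitive G Ω) {m : ℕ} (hm : Fintype.card Ω = 2 * m) (a₀ : Ω) (hrank : Nat.card (MulAction.orbitRel.Quotient (MulAction.stabilizer G a₀) Ω) = 3) (χ₁ χ₂ : G → ℂ) (h₁ : Cfsg.IsIrrCharacter G χ₁) (h₂ : Cfsg.IsIrrCharacter G χ₂) (hπ : (fun g : G => (Nat.card (MulAction.fixedBy Ω g) : ℂ)) = fun g => 1 + χ₁ g + χ₂ g) (hd₁ : χ₁ 1 = (m : ℂ) - 1) (hd₂ : χ₂ 1 = m) : ∃ a : ℕ, 0 < a ∧ m = 2 * a ^ 2 + 2 * a + 1 ∧ ∀ b : Ω, b ≠ a₀ → Nat.card (MulAction.orbit (MulAction.stabilizer G a₀) b) = a * (2 * a + 1) ∨ Nat.card (MulAction.orbit (MulAction.stabilizer G a₀) b) = (a + 1) * (2 * a + 1) := by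
  obtain ⟨b₀, hb₀⟩ : ∃ b : Ω, b ≠ a₀ := by
    haveI : Nontrivial Ω := Fintype.one_lt_card_iff_nontrivial.1 (by
      have hpos : 0 < Fintype.card Ω := Fintype.card_pos_iff.2 ⟨a₀⟩
      omega)
    exact exists_ne a₀
  obtain ⟨a, ha, hma, -⟩ := main hprim hm a₀ hrank χ₁ χ₂ h₁ h₂ hπ hd₁ hd₂ b₀ hb₀
  refine ⟨a, ha, hma, fun b hb => ?_⟩
  obtain ⟨a', -, hma', h⟩ := main hprim hm a₀ hrank χ₁ χ₂ h₁ h₂ hπ hd₁ hd₂ b hb
  obtain rfl : a' = a := by
    rcases lt_trichotomy a' a with h | h | h
    · nlinarith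
    · exact h
    · nlinarith
  exact h

end Cfsg.Agent.S0719
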