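import Cfsg.Statements.S0717
import Cfsg.Agent.Lib.PermTrans.Constituents
import Cfsg.Agent.Lib.Characters.Linear

set_option autoImplicit false
open Cfsg

namespace Cfsg.Agent.S0717

open MulAction Module
open scoped ComplexConjugate
open Cfsg.Agent.Lib.Characters.Basic Cfsg.Agent.Lib.Characters.Complete
open Cfsg.Agent.Lib.Induced.Basic Cfsg.Agent.Lib.Perm.Modules
open Cfsg.Agent.Lib.PermTrans.Constituents

variable {G : Type*} [Group G] [Fintype G]

theorem avg_subrep {V : Type*} [AddCommGroup V] [Module ℂ V] (θ : G → ℂ)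
    (ρ : Representation ℂ G V) (p : Subrepresentation ρ) (x : p.toSubmodule) :
    ((avg θ p.toRepresentation x : p.toSubmodule) : V) = avg θ ρ (x : V) := by
  simp [avg, Subrepresentation.toRepresentation]

/-- The average of an irreducible character kills a representation without that constituent. -/
theorem avg_irr_eq_zero (χ : Cfsg.IrrCharacter G) {V : Type*} [AddCommGroup V] [Module ℂ V]
    [FiniteDimensional ℂ V] (ρ : Representation ℂ G V)
    (h : Cfsg.classInner ρ.character (χ : G → ℂ) = 0) : avg (χ : G → ℂ) ρ = 0 := by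
  induction hd : finrank ℂ V using Nat.strong_induction_on generalizing V with
  | _ d ih =>
    rcases rep_trichotomy ρ with hV | hirr | ⟨p, q, hpq, hp, hq⟩
    · exact Subsingleton.elim _ _
    · obtain ⟨c, hc, hc'⟩ := avg_eq_scalar (isClassFunction_irr χ) ρ
      have h2 : ∑ g : G, (χ : G → ℂ) g * conj (ρ.character g) =
          (Nat.card G : ℂ) * Cfsg.classInner (χ : G → ℂ) ρ.character := by
        rw [Cfsg.classInner, ← mul_assoc, mul_inv_cancel₀ natCard_ne_zero, one_mul]
      rw [h2, ← classInner_conj_symm, h, map_zero, mul_zero, mul_eq_zero] at hc'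
      rw [hc, hc'.resolve_right (Nat.cast_ne_zero.2 (finrank_pos_of_isIrreducible ρ).ne'), zero_smul]
    · obtain ⟨a, ha⟩ := classInner_char_nat p.toRepresentation χ
      obtain ⟨b, hb⟩ := classInner_char_nat q.toRepresentation χ
      rw [classInner_split ρ p q hpq, ha, hb, ← Nat.cast_add, Nat.cast_eq_zero] at h
      obtain ⟨rfl, rfl⟩ : a = 0 ∧ b = 0 := by omega
      rw [Nat.cast_zero] at ha hb
      refine LinearMap.ext fun x => ?_
      obtain ⟨y, hy, z, hz, rfl⟩ := Submodule.mem_sup.mp
        (show x ∈ p.toSubmodule ⊔ q.toSubmodule by rw [hpq.sup_eq_top]; trivial)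
      have e1 := avg_subrep (χ : G → ℂ) ρ p ⟨y, hy⟩
      have e2 := avg_subrep (χ : G → ℂ) ρ q ⟨z, hz⟩
      rw [ih _ (hd ▸ hp) p.toRepresentation ha rfl] at e1
      rw [ih _ (hd ▸ hq) q.toRepresentation hb rfl] at e2
      simp only [LinearMap.zero_apply, Submodule.coe_zero] at e1 e2
      rw [map_add, ← e1, ← e2, add_zero, LinearMap.zero_apply]

/-- On an irreducible representation the average of its own character is non-zero, that of
another character is zero. -/
theorem avg_on_irreducible (χ ψ : Cfsg.IrrCharacter G) {V : Type*} [AddCommGroup V] [Module ℂ V]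
    [FiniteDimensional ℂ V] (ρ : Representation ℂ G V) [ρ.IsIrreducible]
    (h : ρ.character = (χ : G → ℂ)) :
    ∃ c : ℂ, avg (ψ : G → ℂ) ρ = c • 1 ∧ (c = 0 ↔ ψ ≠ χ) := by
  obtain ⟨c, hc, hc'⟩ := avg_eq_scalar (isClassFunction_irr ψ) ρ
  refine ⟨c, hc, ?_⟩
  have h2 : ∑ g : G, (ψ : G → ℂ) g * conj (ρ.character g) =
      (Nat.card G : ℂ) * Cfsg.classInner (ψ : G → ℂ) (χ : G → ℂ) := by
    rw [Cfsg.classInner, ← mul_assoc, mul_inv_cancel₀ natCard_ne_zero, one_mul, h]
  rw [h2] at hc'
  constructor
  · rintro rfl rfl
    rw [zero_mul, classInner_self_irr, mul_one] at hc'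
    exact natCard_ne_zero hc'.symm
  · intro hne
    rw [classInner_irr_of_ne hne, mul_zero, mul_eq_zero] at hc'
    exact hc'.resolve_right (Nat.cast_ne_zero.2 (finrank_pos_of_isIrreducible ρ).ne')

variable {Ω : Type*} [Fintype Ω] [MulAction G Ω]

/-- Matrix entries. -/
noncomputable def ent [DecidableEq Ω] (T : Module.End ℂ (Ω → ℂ)) : Matrix Ω Ω ℂ :=
  LinearMap.toMatrix' T

omit [Fintype G] in
theorem ent_apply [DecidableEq Ω] (T : Module.End ℂ (Ω → ℂ)) (x y : Ω) :
    ent T x y = T (Pi.single y 1) x := by
  rw [ent, LinearMap.toMatrix'_apply]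

theorem ent_avg [DecidableEq Ω] (θ : G → ℂ) (x y : Ω) :
    ent (avg θ (Cfsg.permRep ℂ G Ω)) x y = ∑ g : G, if g⁻¹ • y = x then θ g else 0 := by
  rw [ent_apply, avg]
  simp only [LinearMap.sum_apply, Finset.sum_apply, LinearMap.smul_apply, Pi.smul_apply,
    permRep_single, Pi.single_apply, smul_eq_mul, mul_ite, mul_one, mul_zero]
  exact Finset.sum_congr rfl fun g _ => by congr 1; exact propext eq_comm

theorem ent_avg_symm [DecidableEq Ω] (θ : G → ℂ) :
    (ent (avg θ (Cfsg.permRep ℂ G Ω))).transpose =
      ent (avg (fun g => θ g⁻¹) (Cfsg.permRep ℂ G Ω)) := by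
  ext x y
  rw [Matrix.transpose_apply, ent_avg, ent_avg]
  refine Fintype.sum_equiv (Equiv.inv G) _ _ fun g => ?_
  simp only [Equiv.inv_apply, inv_inv]
  congr 1
  exact propext ⟨fun h => by rw [← h, smul_inv_smul], fun h => by rw [← h, inv_smul_smul]⟩

/-- All suborbits of a transitive group are self-paired (every pair of points is interchanged by some group element) if and only if the permutation character is multiplicity-free and each of its irreducible constituents is real-valued. -/
theorem result {G : Type*} [Group G] [Fintype G] {Ω : Type*} [Fintype Ω] [MulAction G Ω] [MulAction.IsPretransitive G Ω] : (∀ a b : Ω, ∃ g : G, g • a = b ∧ g • b = a) ↔ ∀ χ : G → ℂ, Cfsg.IsIrrCharacter G χ → Cfsg.classInner (fun g : G => (Nat.card (MulAction.fixedBy Ω g) : ℂ)) χ ≠ 0 → Cfsg.classInner (fun g : G => (Nat.card (MulAction.fixedBy Ω g) : ℂ)) χ = 1 ∧ ∀ g : G, (starRingEnd ℂ) (χ g) = χ g := by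
  classical
  haveI : FiniteDimensional ℂ (Ω → ℂ) := inferInstance
  set ρ := Cfsg.permRep ℂ G Ω with hρ
  have hπ : ρ.character = fun g : G => (Nat.card (MulAction.fixedBy Ω g) : ℂ) := character_permRep
  constructor
  · intro hpair χ hχ hne
    -- every equivariant map is symmetric
    have hsym : ∀ T : Module.End ℂ (Ω → ℂ), (∀ g, Commute T (ρ g)) →
        (ent T).transpose = ent T := by
      intro T hT
      ext x y
      obtain ⟨g, hgx, hgy⟩ := hpair x y
      rw [Matrix.transpose_apply, ent_apply, ent_apply]
      have h := congrFun (LinearMap.congr_fun (hT g).eq (Pi.single x 1)) x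
      simp only [Module.End.mul_apply, hρ, permRep_single, permRep_apply, hgx] at h
      rw [h, show g⁻¹ • x = y from by rw [← hgy, inv_smul_smul]]
    have hcomm : ∀ S T : Module.End ℂ (Ω → ℂ), (∀ g, Commute S (ρ g)) → (∀ g, Commute T (ρ g)) →
        Commute S T := by
      intro S T hS hT
      refine LinearMap.toMatrix'.injective ?_
      rw [LinearMap.toMatrix'_mul, LinearMap.toMatrix'_mul]
      have h1 := hsym (S * T) (fun g => (hS g).mul_left (hT g))
      rw [ent, LinearMap.toMatrix'_mul, Matrix.transpose_mul] at h1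
      have h2 := hsym S hS
      have h3 := hsym T hT
      rw [ent] at h2 h3
      rw [h2, h3] at h1
      exact h1.symm
    let θ : Cfsg.IrrCharacter G := ⟨χ, hχ⟩
    obtain ⟨k, hk⟩ := classInner_char_nat ρ θ
    have hk' : Cfsg.classInner (fun g : G => (Nat.card (MulAction.fixedBy Ω g) : ℂ)) χ = k := by
      rw [← hk, hπ]
    have hk1 : k = 1 := by
      have hk0 : k ≠ 0 := fun h0 => hne (by rw [hk', h0, Nat.cast_zero])
      by_contra hk1
      obtain ⟨S, T, hS, hT, hn⟩ := exists_noncommuting ρ θ k (by omega) hk
      exact hn (hcomm S T hS hT)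
    refine ⟨by rw [hk', hk1, Nat.cast_one], ?_⟩
    -- real-valued
    obtain ⟨n, τ, hτ, hc⟩ := exists_rep θ
    haveI := hτ
    obtain ⟨p, q, hpq, ⟨e⟩⟩ := exists_summand τ ρ (by rw [hc, hk, hk1]; simp)
    have hp := isIrreducible_of_equiv e hτ
    have hpc : p.toRepresentation.character = χ := by rw [← Representation.char_iso e]; exact hc
    obtain ⟨c, hc1, hc2⟩ := avg_on_irreducible θ θ p.toRepresentation hpc
    obtain ⟨c', hc1', hc2'⟩ :=
      avg_on_irreducible θ (Cfsg.Agent.Lib.Characters.Linear.conjChar θ) p.toRepresentation hpc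
    have hE : avg (θ : G → ℂ) ρ =
        avg ((Cfsg.Agent.Lib.Characters.Linear.conjChar θ : Cfsg.IrrCharacter G) : G → ℂ) ρ := by
      refine LinearMap.toMatrix'.injective ?_
      have h1 := hsym _ (fun g => avg_comm (isClassFunction_irr θ) ρ g)
      rw [hρ, ent_avg_symm] at h1
      refine h1.symm.trans ?_
      rw [ent]
      congr 2
      funext g
      rw [Cfsg.Agent.Lib.Characters.Linear.conjChar_apply, apply_inv (isCharacter_irr θ)]
    have hcc : c = c' := by
      obtain ⟨v, hv⟩ : ∃ v : p.toSubmodule, v ≠ 0 :=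
        haveI : Nontrivial p.toSubmodule :=
          Module.finrank_pos_iff.1 (finrank_pos_of_isIrreducible p.toRepresentation)
        exists_ne 0
      have e1 := avg_subrep (θ : G → ℂ) ρ p v
      have e2 := avg_subrep
        ((Cfsg.Agent.Lib.Characters.Linear.conjChar θ : Cfsg.IrrCharacter G) : G → ℂ) ρ p v
      rw [← hE, ← e1, hc1, hc1'] at e2
      exact (smul_left_injective ℂ hv (Subtype.ext e2)).symm
    have hcne : c ≠ 0 := fun h => (hc2.1 h) rfl
    have hθ : Cfsg.Agent.Lib.Characters.Linear.conjChar θ = θ := by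
      by_contra h
      exact hcne (hcc.trans (hc2'.2 h))
    intro g
    have := congrFun (congrArg Subtype.val hθ) g
    rwa [Cfsg.Agent.Lib.Characters.Linear.conjChar_apply] at this
  · intro h a b
    rcases eq_or_ne a b with rfl | hab
    · exact ⟨1, one_smul _ _, one_smul _ _⟩
    -- the antisymmetric part of the orbital matrix
    set D : Module.End ℂ (Ω → ℂ) := orbitalMap (G := G) a b - orbitalMap (G := G) b a with hD
    have hDc : ∀ g, Commute D (ρ g) := fun g =>
      (orbitalMap_comm a b g).sub_left (orbitalMap_comm b a g)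
    have hswap : ∀ x y, orbital G b a x y = orbital G a b y x := by
      intro x y
      simp only [orbital, Set.indicator_apply]
      congr 1
      refine propext ⟨?_, ?_⟩ <;> rintro ⟨g, hg⟩ <;>
        exact ⟨g, Prod.ext (congrArg Prod.snd hg :) (congrArg Prod.fst hg :)⟩
    have hentry : ∀ x y, ent D x y = orbital G a b y x - orbital G a b x y := by
      intro x y
      rw [ent_apply, hD, LinearMap.sub_apply, Pi.sub_apply, orbitalMap, orbitalMap, kernelMap_single,
        kernelMap_single, hswap]
    have hDt : (ent D).transpose = -ent D := by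
      ext x y
      rw [Matrix.transpose_apply, Matrix.neg_apply, hentry, hentry, neg_sub]
    have hzero : ∀ χ : Cfsg.IrrCharacter G, D * avg (χ : G → ℂ) ρ = 0 := by
      intro χ
      set E := avg (χ : G → ℂ) ρ with hEdef
      by_cases hc0 : Cfsg.classInner ρ.character (χ : G → ℂ) = 0
      · rw [hEdef, avg_irr_eq_zero χ ρ hc0, mul_zero]
      have hpair := h χ χ.2 (by rwa [hπ] at hc0)
      have hEsym : (ent E).transpose = ent E := by
        rw [hEdef, hρ, ent_avg_symm]
        congr 2
        funext g
        rw [apply_inv (isCharacter_irr χ), hpair.2]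
      obtain ⟨n, τ, hτ, hc⟩ := exists_rep χ
      haveI := hτ
      obtain ⟨p, q, hpq, ⟨e⟩⟩ := exists_summand τ ρ (by rw [hc]; exact hc0)
      have hp := isIrreducible_of_equiv e hτ
      have hpc : p.toRepresentation.character = χ := by rw [← Representation.char_iso e]; exact hc
      have hq : Cfsg.classInner q.toRepresentation.character (χ : G → ℂ) = 0 := by
        have h1 := classInner_split ρ p q hpq (χ : G → ℂ)
        rw [hpc, classInner_self_irr, hπ, hpair.1] at h1
        exact (add_eq_left).1 h1.symm
      have hEq : ∀ z ∈ q.toSubmodule, E z = 0 := fun z hz => by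
        have e1 := avg_subrep (χ : G → ℂ) ρ q ⟨z, hz⟩
        rw [avg_irr_eq_zero χ q.toRepresentation hq] at e1
        exact e1.symm
      obtain ⟨c, hc1, -⟩ := avg_on_irreducible χ χ p.toRepresentation hpc
      have hEp : ∀ z ∈ p.toSubmodule, E z = c • z := fun z hz => by
        have e1 := avg_subrep (χ : G → ℂ) ρ p ⟨z, hz⟩
        rw [hc1] at e1
        exact e1.symm
      have hErange : ∀ x, E x ∈ p.toSubmodule := fun x => by
        obtain ⟨y, hy, z, hz, rfl⟩ := Submodule.mem_sup.mp
          (show x ∈ p.toSubmodule ⊔ q.toSubmodule by rw [hpq.sup_eq_top]; trivial)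
        rw [map_add, hEq z hz, add_zero, hEp y hy]
        exact Submodule.smul_mem _ _ hy
      -- `D` is a scalar on `p`
      have hDp : ∀ y ∈ p.toSubmodule, D y ∈ p.toSubmodule := by
        intro y hy
        have hcne : c ≠ 0 := by
          obtain ⟨c', hc', hiff⟩ := avg_on_irreducible χ χ p.toRepresentation hpc
          haveI : Nontrivial p.toSubmodule :=
            Module.finrank_pos_iff.1 (finrank_pos_of_isIrreducible p.toRepresentation)
          obtain ⟨v, hv⟩ := exists_ne (0 : p.toSubmodule)
          have hcc : c = c' := smul_left_injective ℂ hv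
            (LinearMap.congr_fun (hc1.symm.trans hc') v)
          exact fun h0 => (hiff.1 (hcc ▸ h0)) rfl
        have hcom : Commute D E := by
          rw [hEdef, avg]
          exact Commute.sum_right _ _ _ fun g _ => (hDc g⁻¹).smul_right _
        have hDE := LinearMap.congr_fun hcom.eq y
        simp only [Module.End.mul_apply, hEp y hy, map_smul] at hDE
        have := hErange (D y)
        rw [← hDE] at this
        simpa [smul_smul, inv_mul_cancel₀ hcne] using p.toSubmodule.smul_mem c⁻¹ this
      let F : Representation.IntertwiningMap p.toRepresentation p.toRepresentation :=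
        ⟨D.restrict hDp, fun g => LinearMap.ext fun y =>
          Subtype.ext (LinearMap.congr_fun (hDc g).eq y)⟩
      obtain ⟨l, hl⟩ :=
        (Representation.IsIrreducible.algebraMap_intertwiningMap_bijective_of_isAlgClosed
          (ρ := p.toRepresentation)).2 F
      have hl' : D * E = l • E := by
        refine LinearMap.ext fun x => ?_
        have h3 := congrArg
          (fun F : Representation.IntertwiningMap p.toRepresentation p.toRepresentation =>
            ((F.toLinearMap ⟨E x, hErange x⟩ : p.toSubmodule) : Ω → ℂ)) hl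
        simp only [Algebra.algebraMap_eq_smul_one] at h3
        exact h3.symm
      rw [hl']
      rcases eq_or_ne l 0 with h0 | h0
      · rw [h0, zero_smul]
      have h4 : ent (D * E) = l • ent E := by rw [hl', ent, map_smul, ent]
      have hcom : Commute D E := by
        rw [hEdef, avg]
        exact Commute.sum_right _ _ _ fun g _ => (hDc g⁻¹).smul_right _
      have h5 : (ent (D * E)).transpose = -ent (D * E) := by
        conv_rhs => rw [hcom.eq]
        simp only [ent, LinearMap.toMatrix'_mul, Matrix.transpose_mul]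
        rw [show (LinearMap.toMatrix' D).transpose = -LinearMap.toMatrix' D from hDt,
          show (LinearMap.toMatrix' E).transpose = LinearMap.toMatrix' E from hEsym, mul_neg]
      rw [h4, Matrix.transpose_smul, hEsym, eq_neg_iff_add_eq_zero, ← two_smul ℂ, smul_smul] at h5
      have h6 : ent E = 0 := (smul_eq_zero.1 h5).resolve_left (mul_ne_zero two_ne_zero h0)
      have : E = 0 := LinearMap.toMatrix'.injective (by rw [map_zero]; exact h6)
      rw [this, smul_zero]
    have hD0 : D = 0 := by
      have := Fintype.ofFinite (Cfsg.IrrCharacter G)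
      have hid : ∑ χ : Cfsg.IrrCharacter G, (χ : G → ℂ) 1 • avg (χ : G → ℂ) ρ =
          (Nat.card G : ℂ) • 1 := by
        simp only [avg, Finset.smul_sum, smul_smul]
        rw [Finset.sum_comm]
        simp only [← Finset.sum_smul, sum_degree_mul_apply]
        simp
      have h1 : D * ((Nat.card G : ℂ) • (1 : Module.End ℂ (Ω → ℂ))) = 0 := by
        rw [← hid, Finset.mul_sum]
        exact Finset.sum_eq_zero fun χ _ => by rw [mul_smul_comm, hzero, smul_zero]
      rw [mul_smul_comm, mul_one, smul_eq_zero] at h1
      exact h1.resolve_left natCard_ne_zero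
    have h2 := hentry b a
    rw [hD0, ent, map_zero, Matrix.zero_apply] at h2
    by_contra hno
    push Not at hno
    simp only [orbital, Set.indicator_apply, MulAction.mem_orbit_self, if_true] at h2
    rw [if_neg (fun ⟨g, hg⟩ => hno g (congrArg Prod.fst hg) (congrArg Prod.snd hg))] at h2
    simp at h2

end Cfsg.Agent.S0717
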