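import Cfsg.Statements.S1243
import Cfsg.Agent.Lib.Fusion.Alperin

set_option autoImplicit false
open Cfsg

namespace Cfsg.Agent.S1243

/-- Let T be a Sylow p-subgroup of the finite group G and W ≤ T a subgroup weakly closed in T. If d and g d g⁻¹ both centralize W, then g d g⁻¹ = h d h⁻¹ for some h ∈ N_G(W). -/
theorem result {G : Type*} [Group G] [Finite G] {p : ℕ} [Fact p.Prime] (T : Sylow p G) (W : Subgroup G) (hW : Cfsg.IsWeaklyClosed W (T : Subgroup G)) (d g : G) (hd : d ∈ Subgroup.centralizer (W : Set G)) (hgd : g * d * g⁻¹ ∈ Subgroup.centralizer (W : Set G)) : ∃ h ∈ Subgroup.normalizer (W : Set G), h * d * h⁻¹ = g * d * g⁻¹ := by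
  open Cfsg.Agent.Lib.Fusion.Alperin in
  · have key : ∀ e : G, e ∈ Subgroup.centralizer (W : Set G) →
        W ≤ Subgroup.centralizer ({e} : Set G) := by
      intro e he w hw
      rw [Subgroup.mem_centralizer_singleton_iff]
      have := Subgroup.mem_centralizer_iff.1 he w hw
      first | exact this | exact this.symm
    set C := Subgroup.centralizer ({g * d * g⁻¹} : Set G) with hC
    have hWp : IsPGroup p W := T.2.to_le hW.1
    have hW1 : W ≤ C := key _ hgd
    have hW2 : conjS g W ≤ C := by
      intro x hx
      rw [mem_conjS] at hx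
      have := key d hd hx
      rw [Subgroup.mem_centralizer_singleton_iff] at this
      rw [hC, Subgroup.mem_centralizer_singleton_iff]
      have h1 := congrArg (fun z => g * z * g⁻¹) this
      simpa [mul_assoc] using h1
    obtain ⟨R, hR⟩ := (hWp.comap_subtype (K := C)).exists_le_sylow
    have hmax : ∀ U : Subgroup G, IsPGroup p U → U ≤ C →
        (R : Subgroup C).map C.subtype ≤ U → U = (R : Subgroup C).map C.subtype := by
      intro U hU hUC hRU
      have h1 : U.comap C.subtype = (R : Subgroup C) :=
        R.3 (hU.comap_subtype (K := C)) (fun x hx => hRU ⟨x, hx, rfl⟩)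
      have h2 := congrArg (Subgroup.map C.subtype) h1
      rwa [Subgroup.map_comap_eq, Subgroup.range_subtype, inf_eq_right.2 hUC] at h2
    obtain ⟨c, hc, hcle⟩ := exists_conj_le_of_maximal (R.2.map C.subtype)
      (Subgroup.map_subtype_le _) hmax (hWp.map _) hW2
    change conjS c (conjS g W) ≤ _ at hcle
    rw [← conjS_mul] at hcle
    have hWR : W ≤ (R : Subgroup C).map C.subtype := by
      have := Subgroup.map_mono (f := C.subtype) hR
      rwa [Subgroup.map_comap_eq, Subgroup.range_subtype, inf_eq_right.2 hW1] at this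
    obtain ⟨Q, hQ⟩ := (R.2.map C.subtype).exists_le_sylow
    obtain ⟨k, hk⟩ := MulAction.exists_smul_eq G Q T
    have hkT : conjS k ((R : Subgroup C).map C.subtype) ≤ T := by
      rw [← hk]
      intro x hx
      rw [mem_conjS] at hx
      have := Subgroup.smul_mem_pointwise_smul _ (MulAut.conj k) _ (hQ hx)
      rw [Sylow.coe_subgroup_smul]
      simpa [mul_assoc] using this
    have e1 : conjS k W = W := hW.2 k ((conjS_mono hWR).trans hkT)
    have e2 : conjS (k * (c * g)) W = W := by
      refine hW.2 _ (?_ : conjS (k * (c * g)) W ≤ T)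
      rw [conjS_mul]
      exact (conjS_mono hcle).trans hkT
    refine ⟨c * g, mem_normalizer_of_conjS_eq ?_, ?_⟩
    · have := congrArg (conjS k⁻¹) (e2.trans e1.symm)
      rwa [conjS_inv_conjS, ← conjS_mul, inv_mul_cancel_left] at this
    · rw [Subgroup.mem_centralizer_singleton_iff] at hc
      have h1 : c * g * d * (c * g)⁻¹ = c * (g * d * g⁻¹) * c⁻¹ := by group
      rw [h1, mul_inv_eq_iff_eq_mul]
      first | exact hc | exact hc.symm

end Cfsg.Agent.S1243
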