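import Cfsg.Statements.S0070
import Cfsg.Agent.Lib.Cores.Basic
import Cfsg.Agent.Lib.Cores.MinNormal

set_option autoImplicit false
set_option linter.style.haveILetI false
open Cfsg

namespace Cfsg.Agent.S0070

/-- The Fitting subgroup commutes with passing to the Frattini quotient: the Fitting subgroup of G modulo its Frattini subgroup is the image of the Fitting subgroup of G. -/
theorem result {G : Type*} [Group G] [Finite G] :
    Cfsg.fittingSubgroup (G ⧸ frattini G) = (Cfsg.fittingSubgroup G).map (QuotientGroup.mk' (frattini G)) := by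
  refine le_antisymm ?_ (Lib.Cores.map_fittingSubgroup_le _ (QuotientGroup.mk'_surjective _))
  set π := QuotientGroup.mk' (frattini G) with hπ
  set M := (fittingSubgroup (G ⧸ frattini G)).comap π with hM
  have hsurj : Function.Surjective π := QuotientGroup.mk'_surjective _
  haveI : M.Normal := Subgroup.Normal.comap inferInstance π
  suffices h : Group.IsNilpotent M by
    rw [← Subgroup.map_comap_eq_self_of_surjective hsurj (fittingSubgroup (G ⧸ frattini G))]
    exact Subgroup.map_mono (Lib.Cores.le_fittingSubgroup h)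
  rw [Group.isNilpotent_of_finite_tfae.out 0 3 rfl rfl]
  intro p hp P
  set FQ := fittingSubgroup (G ⧸ frattini G) with hFQ
  haveI : Group.IsNilpotent FQ := Lib.Cores.fittingSubgroup_isNilpotent
  let g : M →* FQ := (π.comp M.subtype).codRestrict FQ fun x => x.2
  have hg : Function.Surjective g := by
    rintro ⟨y, hy⟩
    obtain ⟨x, rfl⟩ := hsurj y
    exact ⟨⟨x, hy⟩, rfl⟩
  set Q := P.mapSurjective hg with hQ
  haveI hQn : (Q : Subgroup FQ).Normal := inferInstance
  haveI := Q.characteristic_of_normal hQn
  haveI : ((Q : Subgroup FQ).map FQ.subtype).Normal := ConjAct.normal_of_characteristic_of_normal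
  set L := ((Q : Subgroup FQ).map FQ.subtype).comap π with hL
  haveI : L.Normal := Subgroup.Normal.comap inferInstance π
  set P' := (P : Subgroup M).map M.subtype with hP'
  have hPL : P' ⊔ frattini G = L := by
    rw [hL, hQ, Sylow.coe_mapSurjective, Subgroup.map_map,
      show FQ.subtype.comp g = π.comp M.subtype from rfl, ← Subgroup.map_map,
      Subgroup.comap_map_eq, hπ, QuotientGroup.ker_mk']
  have hLM : L ≤ M := Subgroup.comap_mono (Subgroup.map_subtype_le _)
  have hP'L : P' ≤ L := hPL ▸ le_sup_left
  obtain ⟨PL, hPLc⟩ : ∃ PL : Sylow p L, (PL : Subgroup L) = P'.subgroupOf L := by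
    have hp' : IsPGroup p (P'.subgroupOf L) := (P.isPGroup'.map _).comap_subtype
    refine ⟨hp'.toSylow fun hd => ?_, IsPGroup.toSylow_coe _ _⟩
    refine P.not_dvd_index (hd.trans ?_)
    have : P'.relIndex L ∣ P'.relIndex M :=
      Dvd.intro _ (Subgroup.relIndex_mul_relIndex _ _ _ hP'L hLM)
    refine this.trans (dvd_of_eq ?_)
    rw [hP', Subgroup.relIndex, Subgroup.subgroupOf, Subgroup.comap_map_eq_self_of_injective M.subtype_injective]
  have harg := Sylow.normalizer_sup_eq_top PL
  rw [hPLc, Subgroup.map_subgroupOf_eq_of_le hP'L, ← hPL, ← sup_assoc,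
    sup_eq_left.2 (Subgroup.le_normalizer : P' ≤ Subgroup.normalizer (P' : Set G))] at harg
  have hn : P'.Normal := Subgroup.normalizer_eq_top_iff.1 (frattini_nongenerating harg)
  exact hn.of_map_subtype

end Cfsg.Agent.S0070
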