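import Cfsg.Statements.S0011
import Cfsg.Agent.S0070
import Cfsg.Agent.Lib.Cores.Basic

set_option autoImplicit false
open Cfsg

namespace Cfsg.Agent.S0011

/-- If the Frattini quotient of a finite group is nilpotent then the group is nilpotent. -/
theorem result {G : Type*} [Group G] [Finite G]
    (h : Group.IsNilpotent (G ⧸ frattini G)) : Group.IsNilpotent G := by
  rw [← Cfsg.Agent.Lib.Cores.fittingSubgroup_eq_top_iff]
  refine frattini_nongenerating ?_
  have h1 := (Cfsg.Agent.S0070.result (G := G)).symm.trans
    (Cfsg.Agent.Lib.Cores.fittingSubgroup_eq_top_iff.2 h)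
  have h2 := congrArg (Subgroup.comap (QuotientGroup.mk' (frattini G))) h1
  rwa [Subgroup.comap_top, Subgroup.comap_map_eq, QuotientGroup.ker_mk'] at h2

end Cfsg.Agent.S0011
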