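import Cfsg.Statements.S0014
import Cfsg.Agent.Lib.PGroups.Frattini

set_option autoImplicit false
open Cfsg

namespace Cfsg.Agent.S0014

/-- Burnside's basis Theorem: in a finite p-group whose Frattini quotient has order p ^ n, every generating set contains n elements that already generate, and no set with fewer than n elements generates. -/
theorem result {G : Type*} [Group G] [Finite G] (p n : ℕ) [Fact p.Prime]
    (hG : IsPGroup p G) (hn : (frattini G).index = p ^ n) :
    (∀ S : Finset G, Subgroup.closure (S : Set G) = ⊤ → ∃ T : Finset G, T ⊆ S ∧ T.card = n ∧ Subgroup.closure (T : Set G) = ⊤) ∧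
    (∀ T : Finset G, Subgroup.closure (T : Set G) = ⊤ → n ≤ T.card) := by
  classical
  let K : Finset G → Subgroup G := fun T => Subgroup.closure (T : Set G) ⊔ frattini G
  have hKn : ∀ T, (K T).Normal := fun T => ⟨fun x hx g => by
    have h1 : g * x * g⁻¹ * x⁻¹ ∈ K T := le_sup_right (a := Subgroup.closure (T : Set G))
      (Cfsg.Agent.Lib.PGroups.commutatorElement_mem_frattini hG g x)
    simpa using (K T).mul_mem h1 hx⟩
  have hKmono : ∀ S T : Finset G, S ⊆ T → K S ≤ K T := fun S T h =>
    sup_le_sup_right (Subgroup.closure_mono h) _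
  have hp : p.Prime := Fact.out
  have hins : ∀ (T : Finset G) (a : G), K (insert a T) = Subgroup.zpowers a ⊔ K T := fun T a => by
    show Subgroup.closure _ ⊔ _ = _ ⊔ (_ ⊔ _)
    rw [← sup_assoc, Subgroup.zpowers_eq_closure, ← Subgroup.closure_union, Finset.coe_insert,
      Set.insert_eq]
  have key : ∀ T : Finset G, Nat.card (K T) ∣ p ^ T.card * Nat.card (frattini G) ∧
      ((∀ t ∈ T, t ∉ K (T.erase t)) → Nat.card (K T) = p ^ T.card * Nat.card (frattini G)) := by
    intro T
    induction T using Finset.induction_on with
    | empty =>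
      have h0 : K ∅ = frattini G := by simp [K]
      simp [h0]
    | insert a T ha ih =>
      by_cases hmem : a ∈ K T
      · have he : K (insert a T) = K T := by
          rw [hins, sup_eq_right, Subgroup.zpowers_le]; exact hmem
        refine ⟨?_, fun hind => absurd hmem (by simpa [ha] using hind a (Finset.mem_insert_self a T))⟩
        rw [he, Finset.card_insert_of_notMem ha, pow_succ', mul_assoc]
        exact ih.1.trans (dvd_mul_left _ _)
      · haveI := hKn T
        have hcard : Nat.card (K (insert a T)) = p * Nat.card (K T) := by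
          have h := Subgroup.relIndex_mul_relIndex (⊥ : Subgroup G) (K T) (K (insert a T)) bot_le
            (hins T a ▸ le_sup_right)
          rw [Subgroup.relIndex_bot_left, Subgroup.relIndex_bot_left] at h
          rw [← h, mul_comm, hins, Subgroup.relIndex_sup_right]
          congr 1
          rw [← QuotientGroup.ker_mk' (K T), Subgroup.relIndex_ker, MonoidHom.map_zpowers,
            Nat.card_zpowers]
          refine orderOf_eq_prime ?_ ?_
          · rw [← map_pow, QuotientGroup.mk'_apply, QuotientGroup.eq_one_iff]
            exact le_sup_right (a := Subgroup.closure (T : Set G))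
              (Cfsg.Agent.Lib.PGroups.pow_mem_frattini hG a)
          · rw [ne_eq, QuotientGroup.mk'_apply, QuotientGroup.eq_one_iff]
            exact hmem
        rw [hcard, Finset.card_insert_of_notMem ha, pow_succ', mul_assoc]
        refine ⟨Nat.mul_dvd_mul_left _ ih.1, fun hind => ?_⟩
        rw [ih.2 fun t ht htK => hind t (Finset.mem_insert_of_mem ht)
          (hKmono _ _ (Finset.erase_subset_erase t (Finset.subset_insert a T)) htK)]
  have hfull : ∀ T : Finset G, Subgroup.closure (T : Set G) = ⊤ →
      Nat.card (K T) = p ^ n * Nat.card (frattini G) := fun T hT => by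
    show Nat.card (_ ⊔ _ : Subgroup G) = _
    rw [hT, top_sup_eq, Subgroup.card_top, ← hn, Subgroup.index_mul_card]
  refine ⟨fun S hS => ?_, fun T hT => ?_⟩
  · obtain ⟨T, hT⟩ := (Set.toFinite {T : Finset G | T ⊆ S ∧ Subgroup.closure (T : Set G) = ⊤}).exists_minimal
      ⟨S, subset_rfl, hS⟩
    refine ⟨T, hT.1.1, ?_, hT.1.2⟩
    have hind : ∀ t ∈ T, t ∉ K (T.erase t) := by
      intro t ht htK
      have h1 : K (T.erase t) = ⊤ := by
        rw [eq_top_iff, ← hT.1.2, Subgroup.closure_le]
        intro x hx
        by_cases hxt : x = t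
        · exact hxt ▸ htK
        · exact le_sup_left (b := frattini G)
            (Subgroup.subset_closure (Finset.mem_coe.2 (Finset.mem_erase.2 ⟨hxt, hx⟩)))
      have h2 : Subgroup.closure ((T.erase t : Finset G) : Set G) = ⊤ :=
        Cfsg.Agent.Lib.PGroups.closure_eq_top_of_sup_frattini h1
      exact Finset.notMem_erase t T
        (hT.2 ⟨(Finset.erase_subset t T).trans hT.1.1, h2⟩ (Finset.erase_subset t T) ht)
    have h := ((key T).2 hind).symm.trans (hfull T hT.1.2)
    exact Nat.pow_right_injective hp.two_le (Nat.eq_of_mul_eq_mul_right Nat.card_pos h)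
  · have h := (key T).1
    rw [hfull T hT] at h
    exact (Nat.pow_dvd_pow_iff_le_right hp.one_lt).1 (Nat.dvd_of_mul_dvd_mul_right Nat.card_pos h)

end Cfsg.Agent.S0014
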