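import Cfsg.Statements.S0015


set_option autoImplicit false
open Cfsg

namespace Cfsg.Agent.S0015

/-- In a finite nilpotent group, an abelian normal subgroup that is maximal among abelian normal subgroups equals its own centralizer. -/
theorem result {G : Type*} [Group G] [Finite G] [Group.IsNilpotent G]
    (N : Subgroup G) [N.Normal] [IsMulCommutative N]
    (hmax : ∀ M : Subgroup G, M.Normal → IsMulCommutative M → N ≤ M → M = N) :
    Subgroup.centralizer (N : Set G) = N := by
  by_contra hne
  have hNC : N ≤ Subgroup.centralizer (N : Set G) := Subgroup.le_centralizer_iff_isMulCommutative.2 ‹_›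
  set C := Subgroup.centralizer (N : Set G) with hC
  set M := C.map (QuotientGroup.mk' N) with hMdef
  haveI hMn : M.Normal :=
    (inferInstance : (Subgroup.centralizer (N : Set G)).Normal).map _ (QuotientGroup.mk'_surjective N)
  have hMne : M ≠ ⊥ := by
    rw [hMdef, ne_eq, Subgroup.map_eq_bot_iff, QuotientGroup.ker_mk']
    exact fun h => hne (le_antisymm h hNC)
  obtain ⟨c, hc⟩ := (inferInstance : Group.IsNilpotent (G ⧸ N))
  have hex : ∃ k, M ⊓ Subgroup.upperCentralSeries (G ⧸ N) k ≠ ⊥ := ⟨c, by rwa [hc, inf_top_eq]⟩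
  classical
  obtain ⟨k, hk, hmin⟩ : ∃ k, M ⊓ Subgroup.upperCentralSeries (G ⧸ N) k ≠ ⊥ ∧
      ∀ j, j < k → ¬ M ⊓ Subgroup.upperCentralSeries (G ⧸ N) j ≠ ⊥ :=
    ⟨Nat.find hex, Nat.find_spec hex, fun j => Nat.find_min hex (m := j)⟩
  cases k with
  | zero => exact hk (by rw [Subgroup.upperCentralSeries_zero, inf_bot_eq])
  | succ j =>
    obtain ⟨z, hz, hz1⟩ := (Subgroup.ne_bot_iff_exists_ne_one).1 hk |> fun ⟨z, hz⟩ =>
      (⟨(z : G ⧸ N), z.2, fun h => hz (Subtype.ext h)⟩ :
        ∃ z, z ∈ M ⊓ Subgroup.upperCentralSeries (G ⧸ N) (j + 1) ∧ z ≠ 1)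
    have hcent : ∀ y, z * y = y * z := by
      intro y
      have h1 : z * y * z⁻¹ * y⁻¹ ∈ M ⊓ Subgroup.upperCentralSeries (G ⧸ N) j := by
        refine ⟨?_, (Subgroup.mem_upperCentralSeries_succ_iff).1 hz.2 y⟩
        have := M.mul_mem hz.1 (hMn.conj_mem _ (M.inv_mem hz.1) y)
        simpa [mul_assoc] using this
      rw [not_not.1 (hmin j j.lt_succ_self), Subgroup.mem_bot] at h1
      exact commutatorElement_eq_one_iff_mul_comm.1 h1
    obtain ⟨x, hx, rfl⟩ := hz.1
    have hxN : x ∉ N := fun h => hz1 ((QuotientGroup.eq_one_iff x).2 h)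
    set L := Subgroup.closure (insert x (N : Set G)) with hL
    have hNL : N ≤ L := fun y hy => Subgroup.subset_closure (Set.mem_insert_of_mem x hy)
    have hLeq : L = (Subgroup.zpowers (QuotientGroup.mk' N x)).comap (QuotientGroup.mk' N) := by
      rw [← MonoidHom.map_zpowers, Subgroup.comap_map_eq, QuotientGroup.ker_mk',
        Subgroup.zpowers_eq_closure, hL, Set.insert_eq, Subgroup.closure_union, Subgroup.closure_eq]
    have hLn : L.Normal := by
      rw [hLeq]
      refine Subgroup.Normal.comap ⟨fun w hw y => ?_⟩ _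
      obtain ⟨i, rfl⟩ := hw
      have h2 : Commute y ((QuotientGroup.mk' N x) ^ i) := (Commute.symm (hcent y)).zpow_right i
      simp only
      rw [h2.eq, mul_inv_cancel_right]
      exact ⟨i, rfl⟩
    have hLc : IsMulCommutative L := by
      refine Subgroup.isMulCommutative_closure ?_
      intro a ha b hb
      rcases ha with rfl | ha <;> rcases hb with rfl | hb
      · rfl
      · exact ((Subgroup.mem_centralizer_iff.1 hx) b hb).symm
      · exact (Subgroup.mem_centralizer_iff.1 hx) a ha
      · exact congrArg Subtype.val (mul_comm' (⟨a, ha⟩ : N) ⟨b, hb⟩)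
    exact hxN (hmax L hLn hLc hNL ▸ Subgroup.subset_closure (Set.mem_insert x _))

end Cfsg.Agent.S0015
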