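import Cfsg.Statements.S0018
import Cfsg.Agent.Lib.PSolvable.HallHigman
import Cfsg.Agent.Lib.Cores.Basic

set_option autoImplicit false
open Cfsg

namespace Cfsg.Agent.S0018

/-- A finite solvable group whose Sylow p-subgroups are abelian has p-length one: a Sylow p-subgroup together with the largest normal subgroup of order prime to p generates a normal subgroup. -/
theorem result {G : Type*} [Group G] [Finite G] [Group.IsSolvable G]
    (p : ℕ) [Fact p.Prime] (P : Sylow p G) (hP : IsMulCommutative P) :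
    ((P : Subgroup G) ⊔ Cfsg.pPrimeCore p G).Normal := by
  set N := Cfsg.pPrimeCore p G with hN
  set π := QuotientGroup.mk' N with hπ
  have hsurj : Function.Surjective π := QuotientGroup.mk'_surjective N
  have h1 : Cfsg.pPrimeCore p (G ⧸ N) = ⊥ := Cfsg.Agent.Lib.Cores.pPrimeCore_quotient_pPrimeCore p
  set Q := P.mapSurjective hsurj with hQ
  have hQe : (Q : Subgroup (G ⧸ N)) = (P : Subgroup G).map π := Sylow.coe_mapSurjective hsurj P
  have hOle := Cfsg.Agent.Lib.Cores.pCore_le_sylow Q
  have hQC : (Q : Subgroup (G ⧸ N)) ≤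
      Subgroup.centralizer ((Cfsg.pCore p (G ⧸ N) : Subgroup (G ⧸ N)) : Set (G ⧸ N)) := by
    intro x hx
    rw [Subgroup.mem_centralizer_iff]
    intro y hy
    have hy' := hOle hy
    rw [hQe] at hx hy'
    obtain ⟨a, ha, rfl⟩ := hx
    obtain ⟨b, hb, rfl⟩ := hy'
    have hab : b * a = a * b := congrArg Subtype.val (hP.is_comm.comm (⟨b, hb⟩ : P) ⟨a, ha⟩)
    rw [← map_mul, hab, map_mul]
  have heq : (Q : Subgroup (G ⧸ N)) = Cfsg.pCore p (G ⧸ N) := le_antisymm
    (hQC.trans (Cfsg.Agent.Lib.PSolvable.centralizer_pCore_le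
      Cfsg.Agent.Lib.PSolvable.isPSolvable_of_isSolvable h1)) hOle
  have hn : ((P : Subgroup G) ⊔ N) = (Cfsg.pCore p (G ⧸ N)).comap π := by
    rw [← heq, hQe, Subgroup.comap_map_eq, hπ, QuotientGroup.ker_mk']
  rw [hn]
  exact Subgroup.Normal.comap inferInstance π

end Cfsg.Agent.S0018
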