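import Cfsg.Statements.S0038
import Cfsg.Agent.Lib.Frobenius.Complement
import Cfsg.Agent.Lib.Induced.FrobeniusKernel

set_option autoImplicit false
set_option linter.style.haveILetI false
open Pointwise
open Cfsg

namespace Cfsg.Agent.S0038

/-- All Frobenius complements of a finite group are conjugate to one another. -/
theorem result {G : Type*} [Group G] [Finite G] (H H₀ : Subgroup G)
    (hH : Cfsg.IsFrobeniusComplement H) (hH₀ : Cfsg.IsFrobeniusComplement H₀) :
    ∃ g : G, MulAut.conj g • H₀ = H := by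
  have key : ∀ A B : Subgroup G, Cfsg.IsFrobeniusComplement A → Cfsg.IsFrobeniusComplement B →
      Nat.card B ≤ Nat.card A → ∃ g : G, MulAut.conj g • B = A := by
    intro A B hA hB hle
    obtain ⟨K, hKn, -, hKc⟩ :=
      Lib.Induced.FrobeniusKernel.exists_frobeniusKernel_subgroup hA
    haveI := hKn
    obtain ⟨g, hg⟩ := Lib.Frobenius.exists_conj_le_of_card_le hA hB hle
    refine ⟨g, Lib.Frobenius.eq_of_le_of_normal_complement hA hKc
      (Lib.Frobenius.conj_isFrobeniusComplement hB g) hg fun hF => ?_⟩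
    obtain ⟨M, hMn, -, hMc⟩ := Lib.Induced.FrobeniusKernel.exists_frobeniusKernel_subgroup hF
    exact ⟨M, hMn, hMc⟩
  rcases le_total (Nat.card H₀) (Nat.card H) with h | h
  · exact key H H₀ hH hH₀ h
  · obtain ⟨g, hg⟩ := key H₀ H hH₀ hH h
    exact ⟨g⁻¹, by rw [← hg, map_inv, inv_smul_smul]⟩

end Cfsg.Agent.S0038
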