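import Cfsg.Statements.S0047
import Mathlib.GroupTheory.Solvable
import Mathlib.Tactic

set_option autoImplicit false
set_option linter.style.haveILetI false
open Cfsg

namespace Cfsg.Agent.S0047

open scoped commutatorElement


/-- A finite group which is the product AB of two abelian subgroups A and B is solvable. -/
theorem result {G : Type*} [Group G] [Finite G] (A B : Subgroup G)
    [IsMulCommutative A] [IsMulCommutative B] (hAB : ∀ g : G, ∃ a ∈ A, ∃ b ∈ B, g = a * b) :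
    Group.IsSolvable G := by
  have hc : ∀ {H : Subgroup G} [IsMulCommutative H] {x y : G}, x ∈ H → y ∈ H → x * y = y * x :=
    fun {H} _ {x y} hx hy => congrArg Subtype.val (mul_comm' (⟨x, hx⟩ : H) ⟨y, hy⟩)
  have hBA : ∀ g : G, ∃ b ∈ B, ∃ a ∈ A, g = b * a := fun g => by
    obtain ⟨a, ha, b, hb, h⟩ := hAB g⁻¹
    exact ⟨b⁻¹, B.inv_mem hb, a⁻¹, A.inv_mem ha, by rw [← mul_inv_rev, ← h, inv_inv]⟩
  -- conjugation by an element of A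
  have hconjA : ∀ a1 ∈ A, ∀ a ∈ A, ∀ b ∈ B, ∀ b3 ∈ B, ∀ a3 ∈ A, a1 * b * a1⁻¹ = b3 * a3 →
      a1 * ⁅a, b⁆ * a1⁻¹ = ⁅a, b3⁆ := by
    intro a1 h1 a ha b hb b3 hb3 a3 ha3 he
    have e1 : a1 * ⁅a, b⁆ * a1⁻¹ = ⁅a, a1 * b * a1⁻¹⁆ := by
      have : a1 * a * a1⁻¹ = a := by rw [hc h1 ha, mul_inv_cancel_right]
      conv_rhs => rw [← this]
      simp only [commutatorElement_def]; group
    rw [e1, he, commutatorElement_def, commutatorElement_def]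
    calc a * (b3 * a3) * a⁻¹ * (b3 * a3)⁻¹ = a * b3 * (a3 * a⁻¹) * a3⁻¹ * b3⁻¹ := by group
      _ = a * b3 * (a⁻¹ * a3) * a3⁻¹ * b3⁻¹ := by rw [hc ha3 (A.inv_mem ha)]
      _ = a * b3 * a⁻¹ * b3⁻¹ := by group
  -- conjugation by an element of B
  have hconjB : ∀ b1 ∈ B, ∀ a ∈ A, ∀ b ∈ B, ∀ a2 ∈ A, ∀ b2 ∈ B, b1 * a * b1⁻¹ = a2 * b2 →
      b1 * ⁅a, b⁆ * b1⁻¹ = ⁅a2, b⁆ := by
    intro b1 h1 a ha b hb a2 ha2 b2 hb2 he
    have e1 : b1 * ⁅a, b⁆ * b1⁻¹ = ⁅b1 * a * b1⁻¹, b⁆ := by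
      have : b1 * b * b1⁻¹ = b := by rw [hc h1 hb, mul_inv_cancel_right]
      conv_rhs => rw [← this]
      simp only [commutatorElement_def]; group
    rw [e1, he, commutatorElement_def, commutatorElement_def]
    calc a2 * b2 * b * (a2 * b2)⁻¹ * b⁻¹ = a2 * (b2 * b) * b2⁻¹ * a2⁻¹ * b⁻¹ := by group
      _ = a2 * (b * b2) * b2⁻¹ * a2⁻¹ * b⁻¹ := by rw [hc hb2 hb]
      _ = a2 * b * a2⁻¹ * b⁻¹ := by group
  set S : Set G := {x | ∃ a ∈ A, ∃ b ∈ B, x = ⁅a, b⁆} with hS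
  set N := Subgroup.closure S with hN
  have hSA : ∀ a1 ∈ A, ∀ x ∈ S, a1 * x * a1⁻¹ ∈ S := by
    rintro a1 h1 x ⟨a, ha, b, hb, rfl⟩
    obtain ⟨b3, hb3, a3, ha3, he⟩ := hBA (a1 * b * a1⁻¹)
    exact ⟨a, ha, b3, hb3, hconjA a1 h1 a ha b hb b3 hb3 a3 ha3 he⟩
  have hSB : ∀ b1 ∈ B, ∀ x ∈ S, b1 * x * b1⁻¹ ∈ S := by
    rintro b1 h1 x ⟨a, ha, b, hb, rfl⟩
    obtain ⟨a2, ha2, b2, hb2, he⟩ := hAB (b1 * a * b1⁻¹)
    exact ⟨a2, ha2, b, hb, hconjB b1 h1 a ha b hb a2 ha2 b2 hb2 he⟩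
  haveI hNn : N.Normal := by
    refine ⟨fun n hn g => ?_⟩
    have hg : ∀ x ∈ S, g * x * g⁻¹ ∈ S := fun x hx => by
      obtain ⟨a, ha, b, hb, rfl⟩ := hAB g
      have := hSA a ha _ (hSB b hb x hx)
      convert this using 1; group
    induction hn using Subgroup.closure_induction with
    | mem x hx => exact Subgroup.subset_closure (hg x hx)
    | one => simp
    | mul x y _ _ h1 h2 =>
      have : g * (x * y) * g⁻¹ = (g * x * g⁻¹) * (g * y * g⁻¹) := by group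
      rw [this]; exact N.mul_mem h1 h2
    | inv x _ h1 =>
      have : g * x⁻¹ * g⁻¹ = (g * x * g⁻¹)⁻¹ := by group
      rw [this]; exact N.inv_mem h1
  have hNc : ∀ x ∈ S, ∀ y ∈ S, x * y = y * x := by
    rintro x ⟨a, ha, b, hb, rfl⟩ y ⟨a', ha', b', hb', rfl⟩
    obtain ⟨a2, ha2, b2, hb2, he2⟩ := hAB (b'⁻¹ * a * b'⁻¹⁻¹)
    obtain ⟨b3, hb3, a3, ha3, he3⟩ := hBA (a'⁻¹ * b * a'⁻¹⁻¹)
    have k1 := hconjB _ (B.inv_mem hb') a ha b hb a2 ha2 b2 hb2 he2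
    have k2 := hconjA _ (A.inv_mem ha') a ha b hb b3 hb3 a3 ha3 he3
    have k3 := hconjA _ (A.inv_mem ha') a2 ha2 b hb b3 hb3 a3 ha3 he3
    have k4 := hconjB _ (B.inv_mem hb') a ha b3 hb3 a2 ha2 b2 hb2 he2
    have k5 : a'⁻¹ * b'⁻¹ * ⁅a, b⁆ * (a'⁻¹ * b'⁻¹)⁻¹ = b'⁻¹ * a'⁻¹ * ⁅a, b⁆ * (b'⁻¹ * a'⁻¹)⁻¹ := by
      calc a'⁻¹ * b'⁻¹ * ⁅a, b⁆ * (a'⁻¹ * b'⁻¹)⁻¹
          = a'⁻¹ * (b'⁻¹ * ⁅a, b⁆ * b'⁻¹⁻¹) * a'⁻¹⁻¹ := by group
        _ = ⁅a2, b3⁆ := by rw [k1, k3]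
        _ = b'⁻¹ * (a'⁻¹ * ⁅a, b⁆ * a'⁻¹⁻¹) * b'⁻¹⁻¹ := by rw [k2, k4]
        _ = _ := by group
    have k6 : ⁅a', b'⁆ * ⁅a, b⁆ = ⁅a, b⁆ * ⁅a', b'⁆ := by
      calc ⁅a', b'⁆ * ⁅a, b⁆
          = a' * b' * (a'⁻¹ * b'⁻¹ * ⁅a, b⁆ * (a'⁻¹ * b'⁻¹)⁻¹) * (a'⁻¹ * b'⁻¹) := by
            rw [commutatorElement_def a' b']; group
        _ = a' * b' * (b'⁻¹ * a'⁻¹ * ⁅a, b⁆ * (b'⁻¹ * a'⁻¹)⁻¹) * (a'⁻¹ * b'⁻¹) := by rw [k5]
        _ = ⁅a, b⁆ * ⁅a', b'⁆ := by rw [commutatorElement_def a' b']; group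
    exact k6.symm
  rw [Group.isSolvable_iff_subgroup_quotient N]
  constructor
  · refine Group.isSolvable_of_comm fun x y => ?_
    have h1 : N ≤ Subgroup.centralizer (N : Set G) := by
      rw [hN, Subgroup.closure_le]
      intro x hx
      rw [SetLike.mem_coe, Subgroup.centralizer_closure, Subgroup.mem_centralizer_iff]
      exact fun y hy => hNc y hy x hx
    exact Subtype.ext (Subgroup.mem_centralizer_iff.1 (h1 y.2) x x.2)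
  · refine Group.isSolvable_of_comm fun x y => ?_
    obtain ⟨x, rfl⟩ := QuotientGroup.mk'_surjective N x
    obtain ⟨y, rfl⟩ := QuotientGroup.mk'_surjective N y
    set π := QuotientGroup.mk' N with hπ
    have hab : ∀ a ∈ A, ∀ b ∈ B, Commute (π a) (π b) := fun a ha b hb => by
      rw [← commutatorElement_eq_one_iff_commute, ← map_commutatorElement, hπ,
        QuotientGroup.mk'_apply, QuotientGroup.eq_one_iff]
      exact Subgroup.subset_closure ⟨a, ha, b, hb, rfl⟩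
    obtain ⟨a, ha, b, hb, rfl⟩ := hAB x
    obtain ⟨a', ha', b', hb', rfl⟩ := hAB y
    have e1 : Commute (π a) (π a') := by rw [Commute, SemiconjBy, ← map_mul, hc ha ha', map_mul]
    have e2 : Commute (π b) (π b') := by rw [Commute, SemiconjBy, ← map_mul, hc hb hb', map_mul]
    rw [map_mul, map_mul]
    exact ((e1.mul_right (hab a ha b' hb')).mul_left ((hab a' ha' b hb).symm.mul_right e2)).eq

end Cfsg.Agent.S0047
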