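import Cfsg.Statements.S0049
import Cfsg.Agent.Lib.Cores.Basic
import Cfsg.Agent.Lib.Cores.MinNormal

set_option autoImplicit false
set_option linter.style.haveILetI false
open Cfsg

namespace Cfsg.Agent.S0049

/-- A prime divisor of the order of a finite group also divides the index of the Frattini subgroup. -/
theorem result {G : Type*} [Group G] [Finite G] (p : ℕ) (hp : p.Prime) (hdvd : p ∣ Nat.card G) :
    p ∣ (frattini G).index := by
  haveI : Fact p.Prime := ⟨hp⟩
  by_contra hnd
  obtain ⟨P⟩ : Nonempty (Sylow p (frattini G)) := inferInstance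
  haveI := frattini_nilpotent (G := G)
  haveI hPn : (P : Subgroup (frattini G)).Normal := inferInstance
  haveI := P.characteristic_of_normal hPn
  haveI : ((P : Subgroup (frattini G)).map (frattini G).subtype).Normal :=
    ConjAct.normal_of_characteristic_of_normal
  set Q := (P : Subgroup (frattini G)).map (frattini G).subtype with hQ
  have hQp : IsPGroup p Q := P.isPGroup'.map _
  have hidx : ¬ p ∣ Q.index := by
    rw [hQ, Subgroup.index_map_subtype]
    exact hp.not_dvd_mul P.not_dvd_index hnd
  obtain ⟨k, hk⟩ := IsPGroup.iff_card.1 hQp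
  have hcop : (Nat.card Q).Coprime Q.index := by
    rw [hk]; exact (hp.coprime_iff_not_dvd.2 hidx).pow_left k
  obtain ⟨H, hH⟩ := Subgroup.exists_right_complement'_of_coprime hcop
  have hHtop : H = ⊤ := frattini_nongenerating (top_le_iff.1 (by
    rw [← hH.sup_eq_top]
    exact sup_le (le_sup_of_le_right (Subgroup.map_subtype_le _)) le_sup_left))
  subst hHtop
  rw [Subgroup.isComplement'_top_right] at hH
  rw [hH, Subgroup.index_bot] at hidx
  exact hidx hdvd

end Cfsg.Agent.S0049
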