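import Cfsg.Statements.S0050
import Cfsg.Agent.Lib.Hall.Basic

set_option autoImplicit false
set_option linter.style.haveILetI false
open Cfsg
open scoped Pointwise

namespace Cfsg.Agent.S0050

/-- Frattini argument for Hall subgroups: if L is a solvable normal subgroup and H a subgroup of L of order coprime to its index in L, then L together with the normaliser of H generates the whole group. -/
theorem result {G : Type*} [Group G] [Finite G] (L : Subgroup G) [L.Normal] (hL : Group.IsSolvable L)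
    (H : Subgroup G) (hHL : H ≤ L) (hHall : (Nat.card H).Coprime (H.relIndex L)) :
    L ⊔ Subgroup.normalizer (H : Set G) = ⊤ := by
  haveI := hL
  refine top_le_iff.1 fun g _ => ?_
  let π : Set ℕ := {q | q ∣ Nat.card H}
  have hH : IsPiHall π (H.subgroupOf L) := by
    refine ⟨fun q _ hd => ?_, fun q hq hd hd' => ?_⟩
    · rwa [Nat.card_congr (Subgroup.subgroupOfEquivOfLe hHL).toEquiv] at hd
    · exact hq.ne_one (Nat.eq_one_of_dvd_coprimes hHall hd hd')
  have hle : MulAut.conj g • H ≤ L := by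
    rintro _ ⟨h, hh, rfl⟩
    exact Subgroup.Normal.conj_mem ‹L.Normal› _ (hHL hh) g
  have he : (MulAut.conj g • H).subgroupOf L =
      (H.subgroupOf L).map (MulAut.conjNormal g : L ≃* L).toMonoidHom := by
    ext x
    constructor
    · rintro ⟨h, hh, he⟩
      exact ⟨⟨h, hHL hh⟩, hh, Subtype.ext he⟩
    · rintro ⟨y, hy, rfl⟩
      exact ⟨(y : G), hy, rfl⟩
  have hH' : IsPiHall π ((MulAut.conj g • H).subgroupOf L) := by
    rw [he]
    exact Lib.Hall.isPiHall_map hH _ (MulAut.conjNormal g : L ≃* L).surjective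
  obtain ⟨l, hl⟩ := Lib.Hall.exists_conj_eq hH hH'
  have hnorm : ((l : G)⁻¹ * g) ∈ Subgroup.normalizer (H : Set G) := by
    rw [Subgroup.mem_normalizer_iff_map_conj_eq]
    show MulAut.conj ((l : G)⁻¹ * g) • H = H
    rw [map_mul, mul_smul, map_inv, inv_smul_eq_iff]
    have h1 := congrArg (Subgroup.map L.subtype) hl
    rw [Subgroup.map_subgroupOf_eq_of_le hle] at h1
    rw [← h1]
    ext x
    constructor
    · rintro ⟨_, ⟨y, hy, rfl⟩, rfl⟩
      exact ⟨(y : G), hy, rfl⟩
    · rintro ⟨h, hh, rfl⟩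
      exact ⟨_, ⟨⟨h, hHL hh⟩, hh, rfl⟩, rfl⟩
  have : g = (l : G) * ((l : G)⁻¹ * g) := by group
  rw [this]
  exact Subgroup.mul_mem _ (Subgroup.mem_sup_left l.2) (Subgroup.mem_sup_right hnorm)

end Cfsg.Agent.S0050
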