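import Cfsg.Statements.S0055
import Cfsg.Agent.Lib.Cores.Basic
import Cfsg.Agent.Lib.Cores.MinNormal

set_option autoImplicit false
set_option linter.style.haveILetI false
open Cfsg

namespace Cfsg.Agent.S0055

/-- If A normalises an abelian subgroup V of coprime order, then V is the internal direct product of its A-fixed points and its commutator with A: the two meet trivially and generate V. -/
theorem result {G : Type*} [Group G] [Finite G] (A V : Subgroup G) [IsMulCommutative V]
    (hAV : A ≤ Subgroup.normalizer (V : Set G)) (hcop : (Nat.card A).Coprime (Nat.card V)) :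
    (V ⊓ Subgroup.centralizer (A : Set G)) ⊓ ⁅V, A⁆ = ⊥ ∧ (V ⊓ Subgroup.centralizer (A : Set G)) ⊔ ⁅V, A⁆ = V := by
  classical
  haveI := Fintype.ofFinite G
  have hn : ∀ a : A, ∀ v : V, (a : G) * v * (a : G)⁻¹ ∈ V :=
    fun a v => Subgroup.le_normalizer_iff.1 hAV a a.2 v v.2
  let c : A → V →* V := fun a =>
    { toFun := fun v => ⟨(a : G) * v * (a : G)⁻¹, hn a v⟩
      map_one' := Subtype.ext (by simp)
      map_mul' := fun u v => Subtype.ext (by simp only [Subgroup.coe_mul]; group) }
  letI : CommGroup V := { (inferInstance : Group V) with mul_comm := mul_comm' }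
  let φ : V →* V := ∏ a : A, c a
  have hφ : ∀ v, φ v = ∏ a : A, c a v := fun v => by simp [φ]
  set C := V ⊓ Subgroup.centralizer (A : Set G) with hC
  have hWV : ⁅V, A⁆ ≤ V := Subgroup.commutator_le.2 fun v hv a ha => by
    have h := hn ⟨a, ha⟩ ⟨v⁻¹, inv_mem hv⟩
    have : v * a * v⁻¹ * a⁻¹ = v * (a * v⁻¹ * a⁻¹) := by group
    rw [commutatorElement_def, this]
    exact V.mul_mem hv h
  have hinv : ∀ b : A, ∀ v, φ (c b v) = φ v := fun b v => by
    rw [hφ, hφ]
    refine Fintype.prod_equiv (Equiv.mulRight b) _ _ fun a => Subtype.ext ?_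
    simp [c, mul_assoc]
  have hker : ⁅V, A⁆ ≤ φ.ker.map V.subtype := Subgroup.commutator_le.2 fun v hv a ha => by
    refine ⟨⟨v, hv⟩ * (c ⟨a, ha⟩ ⟨v, hv⟩)⁻¹, ?_, ?_⟩
    · show φ _ = 1
      rw [map_mul, map_inv, hinv, mul_inv_cancel]
    · simp [c, commutatorElement_def, mul_assoc]
  have hfix : ∀ v : V, (v : G) ∈ C → φ v = v ^ Nat.card A := fun v hv => by
    rw [hφ, Nat.card_eq_fintype_card, ← Finset.card_univ, ← Finset.prod_const]
    refine Finset.prod_congr rfl fun a _ => Subtype.ext ?_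
    show (a : G) * v * (a : G)⁻¹ = v
    rw [Subgroup.mem_centralizer_iff.1 hv.2 a a.2, mul_inv_cancel_right]
  constructor
  · rw [eq_bot_iff]
    rintro x ⟨hxC, hxW⟩
    obtain ⟨v, hv, rfl⟩ := hker hxW
    have h1 : v ^ Nat.card A = 1 := by rw [← hfix v hxC]; exact hv
    have h2 : orderOf v ∣ 1 := by
      rw [← hcop]
      exact Nat.dvd_gcd (orderOf_dvd_of_pow_eq_one h1) (orderOf_dvd_natCard v)
    rw [Nat.dvd_one, orderOf_eq_one_iff] at h2
    simp [h2]
  · refine le_antisymm (sup_le inf_le_left hWV) fun x hx => ?_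
    set v : V := ⟨x, hx⟩ with hvdef
    have hφC : (φ v : G) ∈ C := by
      refine ⟨(φ v).2, Subgroup.mem_centralizer_iff.2 fun a ha => ?_⟩
      have h1 : c ⟨a, ha⟩ (φ v) = φ v := by
        rw [hφ, map_prod]
        refine Fintype.prod_equiv (Equiv.mulLeft (⟨a, ha⟩ : A)) _ _ fun b => Subtype.ext ?_
        simp [c, mul_assoc]
      have h2 : a * (φ v : G) * a⁻¹ = φ v := congrArg Subtype.val h1
      exact mul_inv_eq_iff_eq_mul.1 h2
    have hW : ((∏ a : A, v * (c a v)⁻¹ : V) : G) ∈ ⁅V, A⁆ := by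
      have : (∏ a : A, v * (c a v)⁻¹ : V) ∈ ⁅V, A⁆.subgroupOf V := by
        refine Subgroup.prod_mem _ fun a _ => ?_
        show ((v * (c a v)⁻¹ : V) : G) ∈ ⁅V, A⁆
        have h := Subgroup.commutator_mem_commutator v.2 a.2
        rw [commutatorElement_def] at h
        simpa [c, mul_assoc] using h
      exact this
    have hpow : x ^ Nat.card A ∈ C ⊔ ⁅V, A⁆ := by
      have h1 : v ^ Nat.card A = (∏ a : A, v * (c a v)⁻¹) * φ v := by
        rw [hφ, Finset.prod_mul_distrib, Finset.prod_inv_distrib, inv_mul_cancel_right,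
          Finset.prod_const, Nat.card_eq_fintype_card, Finset.card_univ]
      have h2 := congrArg Subtype.val h1
      simp only [SubmonoidClass.coe_pow, Subgroup.coe_mul] at h2
      rw [show x = (v : G) from rfl, h2]
      exact mul_mem (Subgroup.mem_sup_right hW) (Subgroup.mem_sup_left hφC)
    obtain ⟨m, hm⟩ := exists_pow_eq_self_of_coprime (x := x) (n := Nat.card A)
      (Nat.Coprime.coprime_dvd_right (by
        have := orderOf_dvd_natCard v
        rwa [← Subgroup.orderOf_coe] at this) hcop)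
    rw [← hm]
    exact pow_mem hpow m

end Cfsg.Agent.S0055
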