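import Cfsg.Statements.S0056
import Cfsg.Agent.S0055

set_option autoImplicit false
set_option linter.style.haveILetI false
open Cfsg

namespace Cfsg.Agent.S0056

/-- A coprime action on an abelian group that fixes all elements of prime order is trivial. -/
theorem result {G : Type*} [Group G] [Finite G] (A V : Subgroup G) [IsMulCommutative V]
    (hAV : A ≤ Subgroup.normalizer (V : Set G)) (hcop : (Nat.card A).Coprime (Nat.card V))
    (hΩ : ∀ v ∈ V, (orderOf v).Prime → ∀ a ∈ A, a * v = v * a) : A ≤ Subgroup.centralizer (V : Set G) := by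
  obtain ⟨h1, h2⟩ := S0055.result A V hAV hcop
  have hWV : ⁅V, A⁆ ≤ V := le_of_le_of_eq le_sup_right h2
  by_cases hW : ⁅V, A⁆ = ⊥
  · rw [← Subgroup.commutator_eq_bot_iff_le_centralizer, Subgroup.commutator_comm]
    exact hW
  exfalso
  obtain ⟨p, hp, hdvd⟩ := Nat.exists_prime_and_dvd (mt Subgroup.card_eq_one.1 hW)
  haveI : Fact p.Prime := ⟨hp⟩
  obtain ⟨w, hw⟩ := exists_prime_orderOf_dvd_card' p hdvd
  rw [← Subgroup.orderOf_coe] at hw
  have hwC : (w : G) ∈ (V ⊓ Subgroup.centralizer (A : Set G)) ⊓ ⁅V, A⁆ :=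
    ⟨⟨hWV w.2, Subgroup.mem_centralizer_iff.2 (hΩ w (hWV w.2) (hw ▸ hp))⟩, w.2⟩
  rw [h1, Subgroup.mem_bot] at hwC
  rw [hwC, orderOf_one] at hw
  exact hp.ne_one hw.symm

end Cfsg.Agent.S0056
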