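import Cfsg.Statements.S0057
import Cfsg.Agent.Lib.Cores.InvariantSylow
import Cfsg.Agent.Lib.Cores.Normalizer
import Cfsg.Agent.S0055
import Mathlib.Tactic

set_option autoImplicit false
set_option linter.style.haveILetI false
open Cfsg

namespace Cfsg.Agent.S0057

open scoped Pointwise commutatorElement


/-- Under coprime action, if the centraliser of A in K has prime index p in K then the commutator subgroup [K, A] has order exactly p. -/
theorem result {G : Type*} [Group G] [Finite G] (A K : Subgroup G) (hAK : A ≤ Subgroup.normalizer (K : Set G))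
    (hcop : (Nat.card A).Coprime (Nat.card K)) (hsolv : Group.IsSolvable A ∨ Group.IsSolvable K)
    (p : ℕ) (hp : p.Prime) (hidx : (K ⊓ Subgroup.centralizer (A : Set G)).relIndex K = p) :
    Nat.card (⁅K, A⁆ : Subgroup G) = p := by
  haveI := Fact.mk hp
  set CA := Subgroup.centralizer (A : Set G) with hCA
  set C := K ⊓ CA with hC
  obtain ⟨P, hPK, hPp, hPi, hPA⟩ :=
    Lib.Cores.InvariantSylow.exists_invariant hAK hcop hsolv p
  have hPnC : ¬ P ≤ C := fun h => hPi (by
    have h1 := Subgroup.relIndex_dvd_of_le_left K h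
    rwa [hidx] at h1)
  set CP := P ⊓ CA with hCP
  have hCPrel : CP.relIndex P = p := by
    have e : CP.relIndex P = C.relIndex P := by
      rw [← Subgroup.inf_relIndex_right C P]
      congr 1
      rw [hCP, hC]
      exact le_antisymm (le_inf (le_inf (inf_le_left.trans hPK) inf_le_right) inf_le_left)
        (le_inf inf_le_right (inf_le_left.trans inf_le_right))
    have hle : C.relIndex P ≤ p := by
      rw [← hidx]
      exact Subgroup.relIndex_le_of_le_right hPK (hidx ▸ hp.ne_zero)
    obtain ⟨n, hn⟩ := IsPGroup.iff_card.1 hPp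
    obtain ⟨i, -, hi⟩ := (Nat.dvd_prime_pow hp).1 (hn ▸ Subgroup.relIndex_dvd_card C P)
    rw [e]
    rcases Nat.lt_trichotomy i 1 with h | h | h
    · refine absurd (Subgroup.relIndex_eq_one.1 ?_) hPnC
      rw [hi, Nat.lt_one_iff.1 h, pow_zero]
    · rw [hi, h, pow_one]
    · exfalso
      rw [hi] at hle
      exact absurd hle (not_le.2 (lt_self_pow₀ hp.one_lt h))
  have hCPP : CP ≤ P := inf_le_left
  haveI hPnil : Group.IsNilpotent P := hPp.isNilpotent
  have hCPnorm : P ≤ Subgroup.normalizer (CP : Set G) := by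
    have hlt : CP < P := lt_of_le_of_ne hCPP fun h => by
      rw [h, Subgroup.relIndex_self] at hCPrel
      exact hp.ne_one hCPrel.symm
    have h1 := Lib.Cores.Normalizer.lt_normalizer_inf hPnil hlt
    set T := Subgroup.normalizer (CP : Set G) ⊓ P with hT
    have h2 := Subgroup.relIndex_mul_relIndex CP T P h1.le inf_le_right
    rw [hCPrel] at h2
    rcases (Nat.dvd_prime hp).1 (Dvd.intro _ h2) with h3 | h3
    · exact absurd (Subgroup.relIndex_eq_one.1 h3) (not_le_of_gt h1)
    · rw [h3] at h2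
      have h4 : T.relIndex P = 1 := (mul_eq_left₀ hp.ne_zero).1 h2
      exact (Subgroup.relIndex_eq_one.1 h4).trans inf_le_left
  set M := ⁅P, A⁆ with hM
  have hMP : M ≤ P := Subgroup.commutator_le.2 fun x hx a ha => by
    have h := Subgroup.le_normalizer_iff.1 hPA a ha x⁻¹ (P.inv_mem hx)
    have e : ⁅x, a⁆ = x * (a * x⁻¹ * a⁻¹) := by rw [commutatorElement_def]; group
    rw [e]
    exact P.mul_mem hx h
  have hMcomm : ⁅M, CP⁆ = ⊥ := by
    refine Subgroup.commutator_commutator_eq_bot_of_rotate ?_ ?_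
    · rw [show ⁅A, CP⁆ = ⊥ from ?_, Subgroup.commutator_bot_left]
      rw [Subgroup.commutator_eq_bot_iff_le_centralizer]
      intro a ha
      exact Subgroup.mem_centralizer_iff.2 fun c hc =>
        (Subgroup.mem_centralizer_iff.1 hc.2 a ha).symm
    · rw [Subgroup.commutator_eq_bot_iff_le_centralizer]
      refine le_trans ?_ (inf_le_right : CP ≤ CA)
      exact Subgroup.commutator_le.2 fun c hc x hx => by
        have h := Subgroup.le_normalizer_iff.1 hCPnorm x hx c⁻¹ (CP.inv_mem hc)
        have e : ⁅c, x⁆ = c * (x * c⁻¹ * x⁻¹) := by rw [commutatorElement_def]; group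
        rw [e]
        exact CP.mul_mem hc h
  have hMnC : ¬ M ≤ CA := by
    intro h
    refine hPnC fun x hx => ⟨hPK hx, Subgroup.mem_centralizer_iff.2 fun a ha => ?_⟩
    set c := ⁅x, a⁆ with hc
    have hcM : c ∈ M := Subgroup.commutator_mem_commutator hx ha
    have hac : ∀ n : ℕ, a ^ n * x⁻¹ * (a ^ n)⁻¹ = x⁻¹ * c ^ n := by
      intro n
      induction n with
      | zero => simp
      | succ n ih =>
        have hcomm : a * c ^ n * a⁻¹ = c ^ n := by
          rw [Subgroup.mem_centralizer_iff.1 (pow_mem (h hcM) n) a ha, mul_inv_cancel_right]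
        calc a ^ (n + 1) * x⁻¹ * (a ^ (n + 1))⁻¹ = a * (a ^ n * x⁻¹ * (a ^ n)⁻¹) * a⁻¹ := by
              rw [pow_succ']; group
          _ = (a * x⁻¹ * a⁻¹) * (a * c ^ n * a⁻¹) := by rw [ih]; group
          _ = x⁻¹ * c * c ^ n := by rw [hcomm, hc, commutatorElement_def]; group
          _ = x⁻¹ * c ^ (n + 1) := by rw [pow_succ' c, mul_assoc]
    have h1 := hac (orderOf a)
    rw [pow_orderOf_eq_one] at h1
    simp only [one_mul, inv_one, mul_one] at h1
    have h2 : c ^ orderOf a = 1 := mul_eq_left.1 h1.symm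
    have h3 : orderOf c ∣ 1 := by
      rw [← hcop]
      refine Nat.dvd_gcd ((orderOf_dvd_of_pow_eq_one h2).trans ?_) ?_
      · have := orderOf_dvd_natCard (⟨a, ha⟩ : A)
        rwa [Subgroup.orderOf_mk] at this
      · have := orderOf_dvd_natCard (⟨c, hPK (hMP hcM)⟩ : K)
        rwa [Subgroup.orderOf_mk] at this
    rw [Nat.dvd_one, orderOf_eq_one_iff, hc, commutatorElement_eq_one_iff_mul_comm] at h3
    exact h3.symm
  haveI : IsMulCommutative M := by
    haveI hn : (CP.subgroupOf P).Normal :=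
      (Subgroup.normal_subgroupOf_iff_le_normalizer hCPP).2 hCPnorm
    haveI : IsCyclic (P ⧸ CP.subgroupOf P) := isCyclic_of_prime_card (p := p)
      (by rw [← Subgroup.index_eq_card]; exact hCPrel)
    refine ⟨⟨fun x y => ?_⟩⟩
    refine commutative_of_cyclic_center_quotient
      ((QuotientGroup.mk' (CP.subgroupOf P)).comp (Subgroup.inclusion hMP)) ?_ x y
    intro z hz
    rw [MonoidHom.mem_ker, MonoidHom.comp_apply, QuotientGroup.mk'_apply,
      QuotientGroup.eq_one_iff] at hz
    refine Subgroup.mem_center_iff.2 fun w => Subtype.ext ?_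
    exact (Subgroup.mem_centralizer_iff.1
      (Subgroup.commutator_eq_bot_iff_le_centralizer.1 hMcomm w.2) z hz).symm
  have hAM : A ≤ Subgroup.normalizer (M : Set G) := by
    rw [hM]
    refine Subgroup.le_normalizer_iff.2 fun a ha m hm => ?_
    have h1 : MulAut.conj a • m ∈ MulAut.conj a • ⁅P, A⁆ :=
      Subgroup.smul_mem_pointwise_smul m _ _ hm
    rw [Lib.Coprime.conj_smul_eq_map, Subgroup.map_commutator, ← Lib.Coprime.conj_smul_eq_map,
      ← Lib.Coprime.conj_smul_eq_map,
      Lib.Coprime.conj_smul_eq_self_of_mem_normalizer (hPA ha),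
      Lib.Coprime.conj_smul_eq_self_of_mem_normalizer (Subgroup.le_normalizer ha)] at h1
    exact h1
  obtain ⟨hd, hsup⟩ := S0055.result A M hAM
    (hcop.coprime_dvd_right (Subgroup.card_dvd_of_le (hMP.trans hPK)))
  set R := ⁅M, A⁆ with hR
  have hRM : R ≤ M := le_of_le_of_eq le_sup_right hsup
  have hRC : R ⊓ C = ⊥ := by
    rw [← le_bot_iff, ← hd]
    exact le_inf (le_inf (inf_le_left.trans hRM) (inf_le_right.trans inf_le_right)) inf_le_left
  have hRne : R ≠ ⊥ := fun h => by
    rw [h, sup_bot_eq] at hsup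
    exact hMnC (hsup ▸ inf_le_right)
  have hRcard : Nat.card R = p := by
    have h1 : C.relIndex R = Nat.card R := by
      rw [← Subgroup.inf_relIndex_right C R, inf_comm, hRC, Subgroup.relIndex_bot_left]
    have h2 : C.relIndex R ≤ C.relIndex K :=
      Subgroup.relIndex_le_of_le_right (hRM.trans (hMP.trans hPK)) (hidx ▸ hp.ne_zero)
    rw [h1, hidx] at h2
    obtain ⟨n, hn⟩ := IsPGroup.iff_card.1 (hPp.to_le (hRM.trans hMP))
    rw [hn] at h2 ⊢
    rcases Nat.lt_trichotomy n 1 with h | h | h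
    · exact absurd (Subgroup.eq_bot_of_card_eq R (by rw [hn, Nat.lt_one_iff.1 h, pow_zero])) hRne
    · rw [h, pow_one]
    · exact absurd h2 (not_le.2 (lt_self_pow₀ hp.one_lt h))
  have hRK : R ≤ K := hRM.trans (hMP.trans hPK)
  have hprod : ∀ k ∈ K, ∃ z ∈ R, ∃ c ∈ C, k = z * c := by
    intro k hk
    let f : R × C → K := fun x =>
      ⟨(x.1 : G) * x.2, K.mul_mem (hRK x.1.2) (inf_le_left (b := CA) x.2.2)⟩
    have hf : Function.Injective f := by
      intro x y h
      exact Subgroup.mul_injective_of_disjoint (disjoint_iff.2 hRC) (congrArg Subtype.val h)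
    have hc : Nat.card (R × C) = Nat.card K := by
      rw [Nat.card_prod, hRcard, ← hidx, ← Subgroup.relIndex_bot_left C,
        ← Subgroup.relIndex_bot_left K, mul_comm]
      exact Subgroup.relIndex_mul_relIndex ⊥ C K bot_le inf_le_left
    obtain ⟨x, hx⟩ := ((Nat.bijective_iff_injective_and_card f).2 ⟨hf, hc⟩).2 ⟨k, hk⟩
    exact ⟨x.1, x.1.2, x.2, x.2.2, (congrArg Subtype.val hx).symm⟩
  have heq : ⁅K, A⁆ = R := by
    refine le_antisymm (Subgroup.commutator_le.2 fun k hk a ha => ?_)
      (Subgroup.commutator_mono (hMP.trans hPK) le_rfl)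
    obtain ⟨z, hz, c, hc, rfl⟩ := hprod k hk
    have e1 : ⁅z * c, a⁆ = z * (c * a * c⁻¹ * a⁻¹) * (a * z⁻¹ * a⁻¹) := by
      rw [commutatorElement_def]; group
    have e2 : c * a * c⁻¹ * a⁻¹ = 1 := by
      have := Subgroup.mem_centralizer_iff.1 hc.2 a ha
      rw [← this]; group
    rw [e1, e2, mul_one, show z * (a * z⁻¹ * a⁻¹) = ⁅z, a⁆ by rw [commutatorElement_def]; group]
    exact Subgroup.commutator_mem_commutator (hRM hz) ha
  rw [heq]
  exact hRcard

end Cfsg.Agent.S0057
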