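import Cfsg.Statements.S0060
import Cfsg.Agent.Lib.Cores.Basic

set_option autoImplicit false
set_option linter.style.haveILetI false
open Pointwise
open Cfsg

namespace Cfsg.Agent.S0060

/-- Brodkey's Theorem: in a finite group with abelian Sylow p-subgroups and no nontrivial normal p-subgroup, some conjugate of a Sylow p-subgroup meets it trivially. -/
theorem result {G : Type*} [Group G] [Finite G] (p : ℕ) [Fact p.Prime]
    (S : Sylow p G) (hS : IsMulCommutative S) (hOp : Cfsg.pCore p G = ⊥) :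
    ∃ g : G, (S : Subgroup G) ⊓ MulAut.conj g • (S : Subgroup G) = ⊥ := by
  let f : G → ℕ := fun g => Nat.card ((S : Subgroup G) ⊓ MulAut.conj g • (S : Subgroup G) : Subgroup G)
  obtain ⟨g₀, hg₀⟩ := Finite.exists_min f
  set Q : Subgroup G := MulAut.conj g₀ • (S : Subgroup G) with hQdef
  set D := (S : Subgroup G) ⊓ Q with hD
  set H := Subgroup.centralizer (D : Set G) with hH
  have hSH : (S : Subgroup G) ≤ H := fun s hs => Subgroup.mem_centralizer_iff.2 fun d hd => by
    have h := mul_comm' (⟨d, hd.1⟩ : (S : Subgroup G)) ⟨s, hs⟩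
    exact congrArg Subtype.val h
  have hQH : Q ≤ H := fun q hq => Subgroup.mem_centralizer_iff.2 fun d hd => by
    obtain ⟨s, hs, rfl⟩ := hq
    obtain ⟨t, ht, hte⟩ := hd.2
    rw [← hte, MulDistribMulAction.toMonoidEnd_apply]
    show (MulAut.conj g₀ • t) * (MulAut.conj g₀ • s) = (MulAut.conj g₀ • s) * (MulAut.conj g₀ • t)
    rw [← smul_mul', ← smul_mul']
    have h := mul_comm' (⟨t, ht⟩ : (S : Subgroup G)) ⟨s, hs⟩
    exact congrArg (MulAut.conj g₀ • ·) (congrArg Subtype.val h)
  set Qs : Sylow p G := g₀ • S with hQs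
  have hQc : (Qs : Subgroup G) = Q := rfl
  have key : ∀ g : G, D ≤ MulAut.conj g • (S : Subgroup G) := by
    intro g
    set R : Sylow p G := g • S with hR
    have hRH : IsPGroup p (((R : Subgroup G) ⊓ H).subgroupOf H) :=
      (R.isPGroup'.to_inf_left).comap_subtype
    obtain ⟨T, hT⟩ := hRH.exists_le_sylow
    obtain ⟨h, hh⟩ := MulAction.exists_smul_eq H T (Qs.subtype (hQc ▸ hQH))
    have hle : (((h : G) • R : Sylow p G) : Subgroup G) ⊓ H ≤ Q := by
      rintro x ⟨hx1, hx2⟩
      obtain ⟨r, hr, hre⟩ := hx1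
      have hre' : (h : G) * r * (h : G)⁻¹ = x := hre
      have hrH : r ∈ H := by
        have : r = (h : G)⁻¹ * x * h := by rw [← hre']; group
        rw [this]
        exact H.mul_mem (H.mul_mem (H.inv_mem h.2) hx2) h.2
      have h1 : h * (⟨r, hrH⟩ : H) * h⁻¹ ∈ ((h • T : Sylow p H) : Subgroup H) :=
        ⟨⟨r, hrH⟩, hT ⟨hr, hrH⟩, rfl⟩
      rw [hh] at h1
      have h2 : (h : G) * r * (h : G)⁻¹ ∈ Qs := h1
      rw [hre'] at h2
      exact h2
    have hmin := hg₀ ((h : G) * g)
    have he : MulAut.conj ((h : G) * g) • (S : Subgroup G) = (((h : G) • R : Sylow p G) : Subgroup G) := by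
      rw [map_mul, mul_smul]; rfl
    have hsub : (S : Subgroup G) ⊓ MulAut.conj ((h : G) * g) • (S : Subgroup G) ≤ D :=
      le_inf inf_le_left fun x hx => hle ⟨he ▸ hx.2, hSH hx.1⟩
    have heq := Subgroup.eq_of_le_of_card_ge hsub hmin
    intro d hd
    have hd' : d ∈ MulAut.conj ((h : G) * g) • (S : Subgroup G) := (heq.symm ▸ hd :
      d ∈ (S : Subgroup G) ⊓ MulAut.conj ((h : G) * g) • (S : Subgroup G)).2
    rw [map_mul, mul_smul, Subgroup.mem_pointwise_smul_iff_inv_smul_mem] at hd'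
    have hfixd : (MulAut.conj (h : G))⁻¹ • d = d := by
      rw [inv_smul_eq_iff, MulAut.smul_def, MulAut.conj_apply,
        ← Subgroup.mem_centralizer_iff.1 h.2 d hd, mul_inv_cancel_right]
    rwa [hfixd] at hd'
  have hDbot : D = ⊥ := by
    have hcore : D ≤ (S : Subgroup G).normalCore := by
      intro d hd g
      have := key g⁻¹ hd
      rw [map_inv, Subgroup.mem_pointwise_smul_iff_inv_smul_mem, inv_inv] at this
      simpa [MulAut.smul_def] using this
    rw [← le_bot_iff, ← hOp]
    exact hcore.trans (Lib.Cores.le_pCore (S.isPGroup'.to_le (Subgroup.normalCore_le _)))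
  exact ⟨g₀, hDbot⟩

end Cfsg.Agent.S0060
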