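import Cfsg.Statements.S0062
import Cfsg.Agent.S0061
import Mathlib.GroupTheory.Sylow
import Mathlib.Tactic
import Mathlib.Data.Finite.Perm

set_option autoImplicit false
set_option linter.style.haveILetI false
open Cfsg

namespace Cfsg.Agent.S0062

universe u

theorem exists_normal {G : Type u} [Group G] [Finite G] (p q : ℕ) (hp : p.Prime) (hq : q.Prime)
    (hlt : q < p) (hG : Nat.card G = p ^ 2 * q ^ 2) :
    ∃ N : Subgroup G, N.Normal ∧ N ≠ ⊥ ∧ N ≠ ⊤ := by
  classical
  haveI := Fact.mk hp
  obtain ⟨P⟩ : Nonempty (Sylow p G) := inferInstance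
  have hcard : Nat.card P = p ^ 2 := by
    rw [P.card_eq_multiplicity, hG, Nat.factorization_mul (pow_ne_zero _ hp.ne_zero)
      (pow_ne_zero _ hq.ne_zero), hp.factorization_pow, hq.factorization_pow]
    simp [Finsupp.single_apply, hlt.ne]
  have hidx : (P : Subgroup G).index = q ^ 2 := by
    have := (P : Subgroup G).card_mul_index
    rw [hG, show Nat.card (P : Subgroup G) = p ^ 2 from hcard] at this
    exact Nat.eq_of_mul_eq_mul_left (pow_pos hp.pos 2) this
  have hPbot : (P : Subgroup G) ≠ ⊥ := fun h => by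
    rw [show Nat.card P = Nat.card (P : Subgroup G) from rfl, h, Subgroup.card_bot] at hcard
    nlinarith [hp.two_le]
  have hPtop : (P : Subgroup G) ≠ ⊤ := fun h => by
    rw [h, Subgroup.index_top] at hidx
    nlinarith [hq.two_le]
  by_cases hnorm : (P : Subgroup G).Normal
  · exact ⟨P, hnorm, hPbot, hPtop⟩
  set N := Subgroup.normalizer ((P : Subgroup G) : Set G) with hN
  have hne1 : N.index ≠ 1 := fun h =>
    hnorm (Subgroup.normalizer_eq_top_iff.1 (Subgroup.index_eq_one.1 h))
  have hmod : N.index ≡ 1 [MOD p] := by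
    have h := card_sylow_modEq_one p G
    exact (P.card_eq_index_normalizer ▸ h :)
  have hdvd : N.index ∣ q ^ 2 := hidx ▸ Subgroup.index_dvd_of_le Subgroup.le_normalizer
  obtain ⟨j, hj, hje⟩ := (Nat.dvd_prime_pow hq).1 hdvd
  obtain ⟨hq2, hp3, hidx4⟩ : q = 2 ∧ p = 3 ∧ N.index = 4 := by
    interval_cases j
    · exact absurd (hje.trans (pow_zero q)) hne1
    · rw [pow_one] at hje
      exfalso
      rw [hje, Nat.ModEq, Nat.mod_eq_of_lt hlt, Nat.mod_eq_of_lt hp.one_lt] at hmod
      exact hq.ne_one hmod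
    · have h1 : (p : ℤ) ∣ (q : ℤ) ^ 2 - 1 := by
        have := (Nat.modEq_iff_dvd.1 hmod.symm)
        rw [hje] at this
        exact_mod_cast this
      have h2 : (p : ℤ) ∣ ((q : ℤ) - 1) * ((q : ℤ) + 1) := by convert h1 using 1; ring
      rcases (Nat.prime_iff_prime_int.1 hp).dvd_mul.1 h2 with h3 | h3
      · have := Int.le_of_dvd (by have := hq.two_le; omega) h3
        omega
      · have h4 : p ∣ q + 1 := by exact_mod_cast h3
        have h5 := Nat.le_of_dvd (by omega) h4
        have hpe : p = q + 1 := by omega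
        have hq2 : q = 2 := by
          rcases hq.eq_two_or_odd' with h | h
          · exact h
          · have h6 : Even p := hpe ▸ h.add_one
            have := hp.even_iff.1 h6
            have := hq.two_le
            omega
        exact ⟨hq2, by omega, by rw [hje, hq2]; rfl⟩
  refine ⟨N.normalCore, inferInstance, fun hbot => ?_, fun htop => ?_⟩
  · have hinj : Function.Injective (MulAction.toPermHom G (G ⧸ N)) := by
      rw [← MonoidHom.ker_eq_bot_iff, ← Subgroup.normalCore_eq_ker, hbot]
    have := Nat.card_le_card_of_injective _ hinj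
    rw [Nat.card_perm, ← Subgroup.index_eq_card, hidx4, hG, hq2, hp3] at this
    norm_num [Nat.factorial] at this
  · have := top_le_iff.1 (htop ▸ Subgroup.normalCore_le N)
    rw [this, Subgroup.index_top] at hne1
    exact hne1 rfl

theorem smaller {G : Type u} [Group G] [Finite G] (p q : ℕ) (hp : p.Prime) (hq : q.Prime)
    (hdvd : Nat.card G ∣ p ^ 2 * q ^ 2) (hlt : Nat.card G < p ^ 2 * q ^ 2) : Group.IsSolvable G := by
  obtain ⟨a, b, ha, hb, hab⟩ := Nat.dvd_mul.1 hdvd
  obtain ⟨i, hi, rfl⟩ := (Nat.dvd_prime_pow hp).1 ha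
  obtain ⟨j, hj, rfl⟩ := (Nat.dvd_prime_pow hq).1 hb
  interval_cases j
  · exact S0061.aux p q hp hq _ G i rfl (hab ▸ Dvd.intro q (by ring))
  · exact S0061.aux p q hp hq _ G i rfl (dvd_of_eq (by rw [← hab, pow_one]))
  · have : i ≤ 1 := by
      by_contra h
      have h2 : i = 2 := by omega
      subst h2
      omega
    exact S0061.aux q p hq hp _ G 2 rfl (hab ▸ by
      interval_cases i
      · exact Dvd.intro p (by ring)
      · exact dvd_of_eq (by ring))

theorem aux {G : Type u} [Group G] [Finite G] (p q : ℕ) (hp : p.Prime) (hq : q.Prime) (hlt : q < p)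
    (hG : Nat.card G = p ^ 2 * q ^ 2) : Group.IsSolvable G := by
  obtain ⟨N, hN, hbot, htop⟩ := exists_normal p q hp hq hlt hG
  haveI := hN
  have hmul : Nat.card (G ⧸ N) * Nat.card N = p ^ 2 * q ^ 2 := by
    rw [← hG, Subgroup.card_eq_card_quotient_mul_card_subgroup N]
  have hN1 : 1 < Nat.card N := (Subgroup.one_lt_card_iff_ne_bot N).2 hbot
  have hQ1 : 1 < Nat.card (G ⧸ N) := by
    rw [← Subgroup.index_eq_card]; exact Subgroup.one_lt_index_of_ne_top htop
  rw [Group.isSolvable_iff_subgroup_quotient N]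
  exact ⟨smaller p q hp hq (Dvd.intro_left _ hmul) (by nlinarith),
    smaller p q hp hq (Dvd.intro _ hmul) (by nlinarith)⟩


/-- A finite group of order p^2 * q^2 with p and q prime is solvable. -/
theorem result {G : Type*} [Group G] [Finite G] (p q : ℕ) (hp : p.Prime) (hq : q.Prime)
    (hG : Nat.card G = p ^ 2 * q ^ 2) : Group.IsSolvable G := by
  rcases lt_trichotomy p q with h | h | h
  · exact aux q p hq hp h (by rw [hG, mul_comm])
  · haveI := Fact.mk hp
    haveI := (IsPGroup.of_card (n := 4) (by rw [hG, h]; ring : Nat.card G = p ^ 4)).isNilpotent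
    infer_instance
  · exact aux p q hp hq h hG

end Cfsg.Agent.S0062
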