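import Cfsg.Statements.S0063
import Cfsg.Agent.Lib.Cores.Basic
import Cfsg.Agent.Lib.Cores.MinNormal

set_option autoImplicit false
set_option linter.style.haveILetI false
open Cfsg

namespace Cfsg.Agent.S0063

universe u

theorem aux (p : ℕ) [hp : Fact p.Prime] (m : ℕ) : ∀ (G : Type u) [Group G] [Finite G],
    Nat.card G = p ^ m → 1 < m → Group.nilpotencyClass G ≤ m - 1 := by
  induction m using Nat.strong_induction_on with
  | _ m ih =>
  intro G _ _ hG hm
  have hpG : IsPGroup p G := IsPGroup.of_card hG
  haveI := hpG.isNilpotent
  haveI : Nontrivial G := by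
    rw [← Finite.one_lt_card_iff_nontrivial, hG]
    exact Nat.one_lt_pow (by omega) hp.out.one_lt
  obtain ⟨k, hk⟩ := IsPGroup.iff_card.1 (hpG.to_quotient (Subgroup.center G))
  have hkm : k < m := by
    refine (Nat.pow_lt_pow_iff_right hp.out.one_lt).1 ?_
    rw [← hk, ← hG, Subgroup.card_eq_card_quotient_mul_card_subgroup (Subgroup.center G)]
    exact lt_mul_of_one_lt_right Nat.card_pos
      ((Subgroup.one_lt_card_iff_ne_bot _).2 hpG.bot_lt_center.ne')
  have hq := Group.nilpotencyClass_quotient_center (G := G)
  rcases Nat.lt_or_ge 1 k with hk1 | hk1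
  · have h1 := ih k hkm _ hk hk1
    omega
  · haveI : IsCyclic (G ⧸ Subgroup.center G) := by
      interval_cases k
      · haveI : Subsingleton (G ⧸ Subgroup.center G) :=
          (Nat.card_eq_one_iff_unique.1 (by simpa using hk)).1
        infer_instance
      · exact isCyclic_of_prime_card (p := p) (by simpa using hk)
    have hc : Subgroup.center G = ⊤ := by
      rw [eq_top_iff]
      intro x _
      refine Subgroup.mem_center_iff.2 fun g => ?_
      exact commutative_of_cyclic_center_quotient (QuotientGroup.mk' (Subgroup.center G))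
        (by rw [QuotientGroup.ker_mk']) g x
    have : Group.nilpotencyClass G ≤ 1 := by
      rw [← Subgroup.upperCentralSeries_eq_top_iff_nilpotencyClass_le, Subgroup.upperCentralSeries_one]
      exact hc
    omega


/-- A finite group of prime-power order p ^ m with m > 1 is nilpotent of class at most m - 1. -/
theorem result {G : Type*} [Group G] [Finite G] (p m : ℕ) [Fact p.Prime]
    (hG : Nat.card G = p ^ m) (hm : 1 < m) : Group.nilpotencyClass G ≤ m - 1 := aux p m G hG hm

end Cfsg.Agent.S0063
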