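import Cfsg.Statements.S0064
import Cfsg.Agent.Lib.Cores.Basic
import Cfsg.Agent.Lib.Cores.MinNormal

set_option autoImplicit false
set_option linter.style.haveILetI false
open Cfsg

namespace Cfsg.Agent.S0064

/-- A finite group is nilpotent exactly when each of its subgroups is subnormal. -/
theorem result {G : Type*} [Group G] [Finite G] :
    Group.IsNilpotent G ↔ ∀ H : Subgroup G, H.IsSubnormal := by
  constructor
  · intro h H
    have key : ∀ k, ∀ H : Subgroup G, H.index ≤ k → H.IsSubnormal := by
      intro k
      induction k with
      | zero => exact fun H hH => absurd (Nat.le_zero.1 hH) Subgroup.index_ne_zero_of_finite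
      | succ k ih =>
        intro H hH
        by_cases ht : H = ⊤
        · rw [ht]; exact Subgroup.IsSubnormal.top
        have hlt := normalizerCondition_of_isNilpotent H (lt_top_iff_ne_top.2 ht)
        have h1 := Subgroup.index_strictAnti hlt
        exact Subgroup.IsSubnormal.step H _ hlt.le (ih _ (by omega))
          ((Subgroup.normal_subgroupOf_iff_le_normalizer hlt.le).2 le_rfl)
    exact key _ H le_rfl
  · intro h
    rw [Group.isNilpotent_of_finite_tfae.out 0 2 rfl rfl]
    intro M hM
    rcases (h M).lt_normal with h1 | ⟨K, hK, hle, hlt⟩
    · exact absurd h1 hM.1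
    · rcases eq_or_lt_of_le hle with rfl | hlt'
      · exact hK
      · exact absurd (hM.2 K hlt') hlt.ne

end Cfsg.Agent.S0064
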