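import Cfsg.Statements.S0065
import Cfsg.Agent.Lib.Cores.Basic
import Cfsg.Agent.Lib.Cores.MinNormal

set_option autoImplicit false
set_option linter.style.haveILetI false
open Cfsg

namespace Cfsg.Agent.S0065

/-- A nontrivial normal subgroup of a nilpotent group intersects the centre nontrivially. -/
theorem result {G : Type*} [Group G] [Finite G] [Group.IsNilpotent G]
    (N : Subgroup G) [N.Normal] (hN : N ≠ ⊥) : N ⊓ Subgroup.center G ≠ ⊥ := by
  intro hbot
  obtain ⟨n, hn⟩ := Group.IsNilpotent.nilpotent (G := G)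
  have hz : ∀ k, N ⊓ Subgroup.upperCentralSeries G k = ⊥ := by
    intro k
    induction k with
    | zero => simp
    | succ k ih =>
      rw [← le_bot_iff, ← hbot]
      refine le_inf inf_le_left fun x hx => Subgroup.mem_center_iff.2 fun g => ?_
      have h1 : x * g * x⁻¹ * g⁻¹ ∈ N ⊓ Subgroup.upperCentralSeries G k := by
        refine ⟨?_, Subgroup.mem_upperCentralSeries_succ_iff.1 hx.2 g⟩
        have h3 : x * g * x⁻¹ * g⁻¹ = x * (g * x⁻¹ * g⁻¹) := by group
        rw [h3]
        exact mul_mem hx.1 (Subgroup.Normal.conj_mem ‹_› _ (inv_mem hx.1) g)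
      rw [ih, Subgroup.mem_bot] at h1
      calc g * x = (x * g * x⁻¹ * g⁻¹) * (g * x) := by rw [h1, one_mul]
        _ = x * g := by group
  have := hz n
  rw [hn, inf_top_eq] at this
  exact hN this

end Cfsg.Agent.S0065
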