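import Cfsg.Statements.S0068
import Cfsg.Agent.Lib.Cores.Basic
import Cfsg.Agent.Lib.Cores.MinNormal

set_option autoImplicit false
set_option linter.style.haveILetI false
open Cfsg

namespace Cfsg.Agent.S0068

/-- Frobenius complements of even order: if H complements a nontrivial normal subgroup K, each nonidentity element of H has trivial centraliser in K, and H has even order, then H contains a unique involution s, K is abelian, and s inverts every element of K. -/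
theorem result {G : Type*} [Group G] [Finite G] (K H : Subgroup G) [K.Normal]
    (hc : Subgroup.IsComplement' K H) (hK : K ≠ ⊥) (hfpf : ∀ h ∈ H, h ≠ 1 → K ⊓ Subgroup.centralizer {h} = ⊥)
    (heven : 2 ∣ Nat.card H) :
    (∃ s ∈ H, orderOf s = 2 ∧ (∀ t ∈ H, orderOf t = 2 → t = s) ∧ ∀ k ∈ K, s * k * s⁻¹ = k⁻¹) ∧ IsMulCommutative K := by
  haveI : Fact (Nat.Prime 2) := ⟨Nat.prime_two⟩
  have key : ∀ s ∈ H, orderOf s = 2 → ∀ k ∈ K, s * k * s⁻¹ = k⁻¹ := by
    intro s hs h2 k hk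
    have hss : s * s = 1 := by
      have := pow_orderOf_eq_one s
      rwa [h2, pow_two] at this
    have hs1 : s ≠ 1 := fun h => by simp [h] at h2
    let f : K → K := fun x => ⟨(x : G)⁻¹ * (s * x * s⁻¹),
      K.mul_mem (K.inv_mem x.2) (Subgroup.Normal.conj_mem ‹_› _ x.2 s)⟩
    have finj : Function.Injective f := by
      intro a b hab
      have hab' : (a : G)⁻¹ * (s * a * s⁻¹) = (b : G)⁻¹ * (s * b * s⁻¹) := congrArg Subtype.val hab
      have h3 : (b : G) * (a : G)⁻¹ ∈ K ⊓ Subgroup.centralizer {s} := by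
        refine ⟨K.mul_mem b.2 (K.inv_mem a.2), Subgroup.mem_centralizer_singleton_iff.2 ?_⟩
        have e : (b : G) * (a : G)⁻¹ = s * b * s⁻¹ * (s * a * s⁻¹)⁻¹ := by
          calc (b : G) * (a : G)⁻¹ = b * ((a : G)⁻¹ * (s * a * s⁻¹)) * (s * a * s⁻¹)⁻¹ := by group
            _ = b * ((b : G)⁻¹ * (s * b * s⁻¹)) * (s * a * s⁻¹)⁻¹ := by rw [hab']
            _ = _ := by group
        calc (b : G) * (a : G)⁻¹ * s = s * b * s⁻¹ * (s * a * s⁻¹)⁻¹ * s := by rw [← e]
          _ = s * ((b : G) * (a : G)⁻¹) := by group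
      rw [hfpf s hs hs1, Subgroup.mem_bot, mul_inv_eq_one] at h3
      exact Subtype.ext h3.symm
    obtain ⟨x, hx⟩ := Finite.surjective_of_injective finj ⟨k, hk⟩
    have hx' : (x : G)⁻¹ * (s * x * s⁻¹) = k := congrArg Subtype.val hx
    have hsi : s⁻¹ = s := inv_eq_of_mul_eq_one_right hss
    calc s * k * s⁻¹ = s * ((x : G)⁻¹ * (s * x * s⁻¹)) * s⁻¹ := by rw [hx']
      _ = s * (x : G)⁻¹ * s * x * (s⁻¹ * s⁻¹) := by group
      _ = s * (x : G)⁻¹ * s⁻¹ * x := by rw [hsi, hss, mul_one]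
      _ = ((x : G)⁻¹ * (s * x * s⁻¹))⁻¹ := by group
      _ = k⁻¹ := by rw [hx']
  obtain ⟨⟨s, hs⟩, hs2⟩ := exists_prime_orderOf_dvd_card' 2 heven
  rw [Subgroup.orderOf_mk] at hs2
  refine ⟨⟨s, hs, hs2, fun t ht ht2 => ?_, key s hs hs2⟩, ⟨⟨fun a b => Subtype.ext ?_⟩⟩⟩
  · by_contra hne
    obtain ⟨⟨k, hk⟩, hk1⟩ := (Subgroup.ne_bot_iff_exists_ne_one).1 hK
    have hst : s⁻¹ * t ≠ 1 := fun h => hne (eq_of_inv_mul_eq_one h).symm
    have hmem : k ∈ K ⊓ Subgroup.centralizer {s⁻¹ * t} := by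
      refine ⟨hk, Subgroup.mem_centralizer_singleton_iff.2 ?_⟩
      have h1 := key t ht ht2 k hk
      have h2 := key s hs hs2 k hk
      calc k * (s⁻¹ * t) = s⁻¹ * (s * k * s⁻¹) * t := by group
        _ = s⁻¹ * k⁻¹ * t := by rw [h2]
        _ = s⁻¹ * (t * k * t⁻¹) * t := by rw [h1]
        _ = s⁻¹ * t * k := by group
    rw [hfpf _ (mul_mem (inv_mem hs) ht) hst, Subgroup.mem_bot] at hmem
    exact hk1 (Subtype.ext hmem)
  · have h1 := key s hs hs2 _ a.2
    have h2 := key s hs hs2 _ b.2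
    have h3 := key s hs hs2 _ (mul_mem a.2 b.2)
    have h4 : ((a : G) * b)⁻¹ = (a : G)⁻¹ * (b : G)⁻¹ := by
      rw [← h1, ← h2, ← h3]; group
    have := congrArg (·⁻¹) h4
    simpa using this

end Cfsg.Agent.S0068
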