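import Cfsg.Statements.S0072
import Cfsg.Agent.Lib.Transfer.Frobenius

set_option autoImplicit false
open Cfsg

namespace Cfsg.Agent.S0072

/-- A finite group has a normal p-complement if and only if every p-local subgroup (normalizer of a nontrivial p-subgroup) has one. -/
theorem result {G : Type*} [Group G] [Finite G] (p : ℕ) [Fact p.Prime] : Cfsg.HasNormalPComplement p G ↔ ∀ Q : Subgroup G, IsPGroup p Q → Q ≠ ⊥ → Cfsg.HasNormalPComplement p (Subgroup.normalizer (Q : Set G)) := by
  constructor
  · exact fun h Q _ _ => Lib.Transfer.PResidual.hasNormalPComplement_subgroup h _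
  · intro h
    refine Lib.Transfer.Frobenius.hasNormalPComplement_of_forall_centralizes ?_
    intro Q hQ hQ1 g hg hgp
    have h1 := Lib.Transfer.Frobenius.mem_centralizer_of_hasNormalPComplement (h Q hQ hQ1)
      (Q := Q.subgroupOf (Subgroup.normalizer (Q : Set G))) hQ.comap_subtype
      (g := ⟨g, hg⟩) (Subgroup.mem_normalizer_iff.2 fun y => Subgroup.mem_normalizer_iff.1 hg y)
      (by rwa [Subgroup.orderOf_mk])
    rw [Subgroup.mem_centralizer_iff] at h1 ⊢
    intro q hq
    exact congrArg Subtype.val (h1 ⟨q, Subgroup.le_normalizer hq⟩ hq)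

end Cfsg.Agent.S0072
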