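import Cfsg.Statements.S0075
import Cfsg.Agent.Lib.Transfer.Fusion

set_option autoImplicit false
open Cfsg
open scoped commutatorElement

namespace Cfsg.Agent.S0075

/-- For an abelian Sylow p-subgroup T, its intersection with the subgroup generated by the elements of order prime to p is the commutator of T with its normalizer. -/
theorem result {G : Type*} [Group G] [Finite G] {p : ℕ} [Fact p.Prime] (T : Sylow p G) (hT : IsMulCommutative T) : (T : Subgroup G) ⊓ Cfsg.pResidual p G = ⁅(T : Subgroup G), Subgroup.normalizer (T : Set G)⁆ := by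
  have hcomm : ∀ a ∈ (T : Subgroup G), ∀ b ∈ (T : Subgroup G), a * b = b * a := fun a ha b hb =>
    congrArg Subtype.val (hT.is_comm.comm (⟨a, ha⟩ : (T : Subgroup G)) ⟨b, hb⟩)
  apply le_antisymm
  · refine Lib.Transfer.Fusion.inf_pResidual_le T _ fun x hx u _ hxu => ?_
    obtain ⟨n, hn, hnx⟩ := Lib.Transfer.Fusion.controls_of_isMulCommutative T hT x hx.2 u hxu
    have : ⁅x, u⁆ = ⁅x, n⁆ := by
      rw [commutatorElement_def, commutatorElement_def,
        show x * u * x⁻¹ * u⁻¹ = x * (u * x * u⁻¹)⁻¹ by group, ← hnx]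
      group
    rw [this]
    exact Subgroup.commutator_mem_commutator hx.2 hn
  · rw [Subgroup.commutator_le]
    intro x hx n hn
    obtain ⟨k, hk, z, hz, rfl⟩ := Lib.Transfer.PResidual.exists_mul_sylow T n
    constructor
    · rw [commutatorElement_def, mul_assoc, mul_assoc]
      refine mul_mem hx ?_
      rw [← mul_assoc]
      exact (Subgroup.mem_normalizer_iff.1 hn x⁻¹).1 (inv_mem hx)
    · have hzx : z * x⁻¹ * z⁻¹ = x⁻¹ := by
        rw [hcomm z hz x⁻¹ (inv_mem hx), mul_inv_cancel_right]
      rw [commutatorElement_def,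
        show x * (k * z) * x⁻¹ * (k * z)⁻¹ = x * k * (z * x⁻¹ * z⁻¹) * k⁻¹ by group, hzx]
      exact (Cfsg.pResidual p G).mul_mem (Lib.Transfer.PResidual.pResidual_normal.conj_mem k hk x) ((Cfsg.pResidual p G).inv_mem hk)

end Cfsg.Agent.S0075
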