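import Cfsg.Statements.S0078
import Cfsg.Agent.Lib.Transfer.Fusion

set_option autoImplicit false
open Cfsg

namespace Cfsg.Agent.S0078

/-- In a p-normal group, a Sylow p-subgroup P meets O^p(G) exactly where it meets O^p(V), for any subgroup V containing the normalizer of the centre of P. -/
theorem result {G : Type*} [Group G] [Finite G] {p : ℕ} [Fact p.Prime] (P : Sylow p G) (hn : ∀ Q : Sylow p G, (P : Subgroup G) ⊓ Subgroup.centralizer (P : Set G) ≤ (Q : Subgroup G) → (Q : Subgroup G) ⊓ Subgroup.centralizer (Q : Set G) = (P : Subgroup G) ⊓ Subgroup.centralizer (P : Set G)) (V : Subgroup G) (hV : Subgroup.normalizer (((P : Subgroup G) ⊓ Subgroup.centralizer (P : Set G) : Subgroup G) : Set G) ≤ V) : (P : Subgroup G) ⊓ Cfsg.pResidual p G = (P : Subgroup G) ⊓ (Cfsg.pResidual p V).map V.subtype := by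
  set Z := (P : Subgroup G) ⊓ Subgroup.centralizer (P : Set G) with hZdef
  have hW : Cfsg.IsWeaklyClosed Z P := by
    refine ⟨inf_le_left, fun g hg => ?_⟩
    have h1 : Z ≤ ((g⁻¹ • P : Sylow p G) : Subgroup G) := by
      intro z hz
      rw [Sylow.coe_subgroup_smul, Subgroup.mem_pointwise_smul_iff_inv_smul_mem]
      have := hg ⟨z, hz, rfl⟩
      simp only [← map_inv, MulAut.smul_def, MulAut.conj_apply, inv_inv]
      exact this
    have h2 : ∀ z ∈ Z, g⁻¹ * z * g ∈ Z := by
      intro z hz
      rw [← hn (g⁻¹ • P) h1]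
      constructor
      · show g⁻¹ * z * g ∈ ((g⁻¹ • P : Sylow p G) : Subgroup G)
        rw [Sylow.coe_subgroup_smul, Subgroup.mem_pointwise_smul_iff_inv_smul_mem]
        simp only [← map_inv, MulAut.smul_def, MulAut.conj_apply, inv_inv]
        have e : g * (g⁻¹ * z * g) * g⁻¹ = z := by group
        rw [e]
        exact hz.1
      · show g⁻¹ * z * g ∈ Subgroup.centralizer _
        rw [Subgroup.mem_centralizer_iff]
        intro w hw
        have hw' : g * w * g⁻¹ ∈ P := by
          have : w ∈ ((g⁻¹ • P : Sylow p G) : Subgroup G) := hw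
          rw [Sylow.coe_subgroup_smul, Subgroup.mem_pointwise_smul_iff_inv_smul_mem] at this
          simp only [← map_inv, MulAut.smul_def, MulAut.conj_apply, inv_inv] at this
          exact this
        have hc := Subgroup.mem_centralizer_iff.1 hz.2 _ hw'
        calc w * (g⁻¹ * z * g) = g⁻¹ * (g * w * g⁻¹ * z) * g := by group
          _ = g⁻¹ * (z * (g * w * g⁻¹)) * g := by rw [hc]
          _ = g⁻¹ * z * g * w := by group
    have h3 : Z ≤ Z.map (MulAut.conj g).toMonoidHom := fun z hz =>
      ⟨g⁻¹ * z * g, h2 z hz, by simp [mul_assoc]⟩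
    exact (Subgroup.eq_of_le_of_card_ge h3
      (le_of_eq (Subgroup.card_map_of_injective (MulAut.conj g).injective))).symm
  have hPZ : (P : Subgroup G) ≤ Subgroup.normalizer (Z : Set G) :=
    (Subgroup.le_centralizer_iff.1 (inf_le_right : Z ≤ _)).trans
      (Subgroup.centralizer_le_normalizer _)
  refine Lib.Transfer.Fusion.inf_pResidual_eq_of_controls P V (hPZ.trans hV) fun x hx g hy => ?_
  obtain ⟨v, hv, hvx⟩ :=
    Lib.Transfer.Fusion.controls_of_isWeaklyClosed P Z inf_le_right hW x hx g hy
  exact ⟨v, hV hv, hvx⟩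

end Cfsg.Agent.S0078
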