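import Cfsg.Statements.S0079
import Cfsg.Agent.Lib.Transfer.Frobenius

set_option autoImplicit false
open Cfsg

namespace Cfsg.Agent.S0079

/-- A nilpotent Hall subgroup has a normal complement exactly when elements of it that are conjugate in the whole group are already conjugate inside it. -/
theorem result {G : Type*} [Group G] [Finite G] (H : Subgroup G) (hH : Group.IsNilpotent H) (hHall : Nat.Coprime (Nat.card H) H.index) : (∃ N : Subgroup G, N.Normal ∧ N.IsComplement' H) ↔ ∀ x ∈ H, ∀ y ∈ H, (∃ g : G, g * x * g⁻¹ = y) → ∃ h ∈ H, h * x * h⁻¹ = y := by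
  constructor
  · rintro ⟨N, hN, hc⟩ x hx y hy ⟨g, rfl⟩
    obtain ⟨⟨⟨n, hn⟩, ⟨h, hh⟩⟩, hnh⟩ := hc.2 g
    refine ⟨h, hh, ?_⟩
    have hnh' : n * h = g := hnh
    have h1 : g * x * g⁻¹ * (h * x * h⁻¹)⁻¹ ∈ N := by
      rw [← hnh', show n * h * x * (n * h)⁻¹ * (h * x * h⁻¹)⁻¹
        = n * ((h * x * h⁻¹) * n⁻¹ * (h * x * h⁻¹)⁻¹) by group]
      exact mul_mem hn (hN.conj_mem _ (inv_mem hn) _)
    have h2 : g * x * g⁻¹ * (h * x * h⁻¹)⁻¹ ∈ H :=
      mul_mem hy (inv_mem (mul_mem (mul_mem hh hx) (inv_mem hh)))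
    exact (mul_inv_eq_one.1 (Subgroup.disjoint_def.1 hc.disjoint h1 h2)).symm
  · intro hfus
    refine Lib.Transfer.Frobenius.exists_normal_complement_of_forall H hHall fun q hq hqH => ?_
    haveI := Fact.mk hq
    let S : Sylow q H := default
    have hSp : IsPGroup q ((S : Subgroup H).map H.subtype) := S.2.map _
    have hidx : ¬ q ∣ ((S : Subgroup H).map H.subtype).index := by
      rw [Subgroup.index_map_subtype]
      intro hd
      rcases (Nat.Prime.dvd_mul hq).1 hd with hd | hd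
      · exact S.not_dvd_index hd
      · exact hq.one_lt.ne' (Nat.eq_one_of_dvd_coprimes hHall hqH hd)
    let P : Sylow q G := hSp.toSylow hidx
    refine Lib.Transfer.Fusion.hasNormalPComplement_of_controls P fun x hx g hy => ?_
    obtain ⟨xs, hxs, rfl⟩ := hx
    obtain ⟨ys, hys, hys'⟩ := hy
    obtain ⟨h, hh, hhx⟩ := hfus xs xs.2 ys ys.2 ⟨g, hys'.symm⟩
    haveI : Group.IsNilpotent H := hH
    have hnc : HasNormalPComplement q H :=
      Lib.Transfer.Frobenius.hasNormalPComplement_of_isNilpotent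
    obtain ⟨k, hk, z, hz, hkz⟩ := Lib.Transfer.PResidual.exists_mul_sylow S (⟨h, hh⟩ : H)
    refine ⟨z, ⟨z, hz, rfl⟩, ?_⟩
    have hkcop : (orderOf k).Coprime q :=
      (Lib.Transfer.PResidual.mem_iff_coprime_of_isComplement' S _
        (Lib.Transfer.PResidual.isComplement'_pResidual hnc S) k).1 hk
    have hzx : k * (z * xs * z⁻¹) = (z * xs * z⁻¹) * k := by
      refine Lib.Transfer.Frobenius.commute_of_coprime_of_isNilpotent ?_
      obtain ⟨e, he⟩ := IsPGroup.iff_orderOf.1 S.2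
        ⟨z * xs * z⁻¹, mul_mem (mul_mem hz hxs) (inv_mem hz)⟩
      rw [Subgroup.orderOf_mk] at he
      rw [he]
      exact hkcop.pow_right e
    have h3 : ys = k * (z * xs * z⁻¹) * k⁻¹ := by
      rw [show k * (z * xs * z⁻¹) * k⁻¹ = (k * z) * xs * (k * z)⁻¹ by group, hkz]
      exact Subtype.ext hhx.symm
    rw [hzx, mul_inv_cancel_right] at h3
    rw [← hys', h3]
    simp

end Cfsg.Agent.S0079
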