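import Cfsg.Statements.S0082
import Cfsg.Agent.Lib.Transfer.Tate

set_option autoImplicit false
open Cfsg

namespace Cfsg.Agent.S0082

/-- With a cyclic Sylow p-subgroup, either there is a normal p-complement or the elements of order prime to p generate the whole group. -/
theorem result {G : Type*} [Group G] [Finite G] {p : ℕ} [Fact p.Prime] (P : Sylow p G) (hP : IsCyclic P) : Cfsg.HasNormalPComplement p G ∨ Cfsg.pResidual p G = ⊤ := by
  set R := Cfsg.pResidual p G
  by_cases hle : (P : Subgroup G) ≤ R
  · right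
    rw [eq_top_iff, ← Lib.Transfer.PResidual.sup_sylow_eq_top P]
    exact sup_le le_rfl hle
  · left
    refine Lib.Transfer.Tate.hasNormalPComplement_of_inf_pResidual_le_frattini P fun x hx => ?_
    refine ⟨⟨x, hx.2⟩, ?_, rfl⟩
    show (⟨x, hx.2⟩ : (P : Subgroup G)) ∈ frattini (P : Subgroup G)
    simp only [frattini, Order.radical, Subgroup.mem_iInf]
    intro M hM
    have hne : R.subgroupOf (P : Subgroup G) ≠ ⊤ := fun h' => hle (Subgroup.subgroupOf_eq_top.1 h')
    obtain ⟨M', hM', hRM⟩ := (IsCoatomic.eq_top_or_exists_le_coatom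
      (R.subgroupOf (P : Subgroup G))).resolve_left hne
    obtain ⟨g, hg⟩ := hP.exists_generator
    have hp' : p.Prime := Fact.out
    have key : ∀ N : Subgroup (P : Subgroup G), N ≠ ⊤ → N ≤ Subgroup.zpowers (g ^ p) := by
      intro N hN y hy
      obtain ⟨k, rfl⟩ := hg y
      by_cases hk : (p : ℤ) ∣ k
      · obtain ⟨t, rfl⟩ := hk
        refine ⟨t, ?_⟩
        show (g ^ p) ^ t = g ^ ((p : ℤ) * t)
        rw [zpow_mul, zpow_natCast]
      · exfalso
        apply hN
        rw [eq_top_iff]
        intro w _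
        obtain ⟨e, he⟩ := IsPGroup.iff_orderOf.1 P.2 g
        obtain ⟨s, t, hst⟩ : IsCoprime k ((p : ℤ) ^ e) :=
          ((Nat.prime_iff_prime_int.1 hp').coprime_iff_not_dvd.2 hk).symm.pow_right
        have hgN : g ∈ N := by
          have := N.zpow_mem hy s
          rw [← zpow_mul, show k * s = 1 - (p : ℤ) ^ e * t by linarith, zpow_sub, zpow_one,
            zpow_mul, show g ^ ((p : ℤ) ^ e) = 1 by
              rw [show (p : ℤ) ^ e = ((p ^ e : ℕ) : ℤ) by push_cast; ring, zpow_natCast, ← he]
              exact pow_orderOf_eq_one g] at this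
          simpa using this
        obtain ⟨i, rfl⟩ := hg w
        exact N.zpow_mem hgN i
    have hgp : g ^ p ∈ M := by
      by_contra hgp
      have htop : M ⊔ Subgroup.zpowers (g ^ p) = ⊤ :=
        hM.2 _ (lt_of_le_of_ne le_sup_left fun h' => hgp (by
          rw [h']; exact Subgroup.mem_sup_right (Subgroup.mem_zpowers _)))
      have hge : (⊤ : Subgroup (P : Subgroup G)) ≤ Subgroup.zpowers (g ^ p) :=
        htop ▸ sup_le (key M hM.1) le_rfl
      have hMle : M ≤ ⊤ := le_top
      obtain ⟨k, hk⟩ := hge (Subgroup.mem_top g)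
      obtain ⟨e, he⟩ := IsPGroup.iff_orderOf.1 P.2 g
      have hk' : g ^ ((p : ℤ) * k - 1) = 1 := by
        rw [zpow_sub, zpow_mul, zpow_natCast, zpow_one]
        exact mul_inv_eq_one.2 hk
      have hd := orderOf_dvd_iff_zpow_eq_one.2 hk'
      rcases Nat.eq_zero_or_pos e with h0 | h0
      · rw [h0, pow_zero, orderOf_eq_one_iff] at he
        apply hgp
        rw [he, one_pow]
        exact one_mem _
      · have hd2 : (p : ℤ) ∣ ((p : ℤ) * k - 1) := by
          refine dvd_trans ?_ hd
          rw [he]
          push_cast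
          exact dvd_pow_self _ h0.ne'
        have hd3 : (p : ℤ) ∣ 1 := by
          have := dvd_sub (dvd_mul_right (p : ℤ) k) hd2
          simpa using this
        exact hp'.one_lt.ne' (by exact_mod_cast Int.eq_one_of_dvd_one (by positivity) hd3)
    exact Subgroup.zpowers_le.2 hgp (key M' hM'.1 (hRM hx.1))

end Cfsg.Agent.S0082
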