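import Cfsg.Statements.S0083
import Cfsg.Agent.Lib.Transfer.Frobenius

set_option autoImplicit false
open Cfsg

namespace Cfsg.Agent.S0083

/-- For an abelian Sylow p-subgroup P, a normal p-complement exists exactly when the normalizer of P is an internal direct product of P with some subgroup. -/
theorem result {G : Type*} [Group G] [Finite G] {p : ℕ} [Fact p.Prime] (P : Sylow p G) (hP : IsMulCommutative P) : Cfsg.HasNormalPComplement p G ↔ ∃ Q : Subgroup G, Q ≤ Subgroup.centralizer (P : Set G) ∧ Q ⊓ (P : Subgroup G) = ⊥ ∧ Q ⊔ (P : Subgroup G) = Subgroup.normalizer (P : Set G) := by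
  have hPc : (P : Subgroup G) ≤ Subgroup.centralizer ((P : Subgroup G) : Set G) := fun x hx =>
    Subgroup.mem_centralizer_iff.2 fun y hy =>
      congrArg Subtype.val (hP.is_comm.comm (⟨y, hy⟩ : (P : Subgroup G)) ⟨x, hx⟩)
  constructor
  · intro h
    refine ⟨Cfsg.pResidual p G ⊓ Subgroup.normalizer (P : Set G), ?_, ?_, ?_⟩
    · intro x hx
      exact Lib.Transfer.Frobenius.mem_centralizer_of_hasNormalPComplement h P.2 hx.2
        ((Lib.Transfer.PResidual.mem_iff_coprime_of_isComplement' P _
          (Lib.Transfer.PResidual.isComplement'_pResidual h P) x).1 hx.1)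
    · rw [inf_right_comm, (Lib.Transfer.PResidual.hasNormalPComplement_iff_inf_sylow P).1 h,
        bot_inf_eq]
    · refine le_antisymm (sup_le inf_le_right Subgroup.le_normalizer) fun n hn => ?_
      obtain ⟨k, hk, z, hz, rfl⟩ := Lib.Transfer.PResidual.exists_mul_sylow P n
      refine Subgroup.mul_mem_sup ⟨hk, ?_⟩ hz
      have := mul_mem hn (inv_mem (Subgroup.le_normalizer (H := (P : Subgroup G)) hz))
      rwa [mul_inv_cancel_right] at this
  · rintro ⟨Q, hQc, -, hQ⟩
    have hN : Subgroup.normalizer (P : Set G) ≤ Subgroup.centralizer (P : Set G) :=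
      hQ ▸ sup_le hQc hPc
    exact ⟨P, _, inferInstance, MonoidHom.ker_transferSylow_isComplement' P hN⟩

end Cfsg.Agent.S0083
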