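import Cfsg.Statements.S0085
import Cfsg.Agent.Lib.Transfer.Hall

set_option autoImplicit false
open Cfsg

namespace Cfsg.Agent.S0085

/-- A group whose Sylow 2-subgroups are elementary abelian of order 8 and whose order is prime to 3 and to 7 has a normal 2-complement. -/
theorem result {G : Type*} [Group G] [Finite G] (T : Sylow 2 G) (h8 : Nat.card T = 8) (he : ∀ x : T, x * x = 1) (h3 : ¬ 3 ∣ Nat.card G) (h7 : ¬ 7 ∣ Nat.card G) : Cfsg.HasNormalPComplement 2 G := by
  have hcomm : ∀ a b : T, a * b = b * a := by
    intro a b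
    have h1 : ∀ x : T, x⁻¹ = x := fun x => inv_eq_of_mul_eq_one_right (he x)
    calc a * b = (a * b)⁻¹ := (h1 _).symm
      _ = b * a := by rw [mul_inv_rev, h1, h1]
  have hP : IsMulCommutative T := ⟨⟨hcomm⟩⟩
  refine ⟨T, _, inferInstance, MonoidHom.ker_transferSylow_isComplement' T
    (Lib.Transfer.Hall.normalizer_le_centralizer_of_forall T hP (n := 3) (by
      rw [show Nat.card T = 8 from h8]; norm_num) fun q hq hq2 hqd k hk hdvd => ?_)⟩
  have hle := Nat.le_of_dvd (by interval_cases k <;> norm_num) hdvd
  interval_cases k <;> norm_num at hle hdvd <;> interval_cases q <;> first | omega | exact absurd hq (by norm_num)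

end Cfsg.Agent.S0085
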