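import Cfsg.Statements.S0087
import Cfsg.Agent.Lib.Transfer.Hall

set_option autoImplicit false
open Cfsg

namespace Cfsg.Agent.S0087

/-- A Hall subgroup that is central in its normalizer has a normal complement. -/
theorem result {G : Type*} [Group G] [Finite G] (H : Subgroup G) (hHall : Nat.Coprime (Nat.card H) H.index) (h : Subgroup.normalizer (H : Set G) ≤ Subgroup.centralizer (H : Set G)) : ∃ N : Subgroup G, N.Normal ∧ N.IsComplement' H := by
  refine Lib.Transfer.Frobenius.exists_normal_complement_of_forall H hHall fun q hq hqH => ?_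
  haveI := Fact.mk hq
  have hc : IsMulCommutative H :=
    ⟨⟨fun a b => Subtype.ext (Subgroup.mem_centralizer_iff.1 (h (Subgroup.le_normalizer b.2)) a a.2)⟩⟩
  let S : Sylow q H := default
  have hidx : ¬ q ∣ ((S : Subgroup H).map H.subtype).index := by
    rw [Subgroup.index_map_subtype]
    intro hd
    rcases (Nat.Prime.dvd_mul hq).1 hd with hd | hd
    · exact S.not_dvd_index hd
    · exact hq.one_lt.ne' (Nat.eq_one_of_dvd_coprimes hHall hqH hd)
  let P : Sylow q G := (S.2.map H.subtype).toSylow hidx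
  have hPH : (P : Subgroup G) ≤ H := Subgroup.map_subtype_le _
  set C := Subgroup.centralizer ((P : Subgroup G) : Set G) with hC
  have hHC : H ≤ C := fun x hx => Subgroup.mem_centralizer_iff.2 fun y hy =>
    congrArg Subtype.val (hc.is_comm.comm (⟨y, hPH hy⟩ : H) ⟨x, hx⟩)
  have hP : Subgroup.normalizer ((P : Subgroup G) : Set G) ≤ C := by
    intro g hg
    set H2 : Subgroup G := H.map (MulAut.conj g).toMonoidHom with hH2
    have hH2C : H2 ≤ C := by
      rintro _ ⟨x, hx, rfl⟩
      rw [hC, Subgroup.mem_centralizer_iff]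
      intro y hy
      have hy' : g⁻¹ * y * g ∈ (P : Subgroup G) := by
        have := (Subgroup.mem_normalizer_iff.1 (inv_mem hg) y).1 hy
        simpa using this
      have h1 := Subgroup.mem_centralizer_iff.1 (hHC hx) _ hy'
      show y * (g * x * g⁻¹) = g * x * g⁻¹ * y
      calc y * (g * x * g⁻¹) = g * (g⁻¹ * y * g * x) * g⁻¹ := by group
        _ = g * (x * (g⁻¹ * y * g)) * g⁻¹ := by rw [h1]
        _ = g * x * g⁻¹ * y := by group
    have hc2 : IsMulCommutative H2 := by
      refine ⟨⟨fun a b => Subtype.ext ?_⟩⟩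
      obtain ⟨a', ha', ea⟩ := a.2
      obtain ⟨b', hb', eb⟩ := b.2
      show (a : G) * b = b * a
      rw [← ea, ← eb, ← map_mul, ← map_mul]
      exact congrArg _ (congrArg Subtype.val (hc.is_comm.comm (⟨a', ha'⟩ : H) ⟨b', hb'⟩))
    have hcard : ∀ L : Subgroup G, L ≤ C → Nat.card (L.subgroupOf C) = Nat.card L := fun L hL =>
      Nat.card_congr (Subgroup.subgroupOfEquivOfLe hL).toEquiv
    obtain ⟨c, hcc⟩ := Lib.Transfer.Hall.exists_conj_eq_of_isMulCommutative
      (H.subgroupOf C) (H2.subgroupOf C)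
      ⟨⟨fun a b => Subtype.ext (Subtype.ext (congrArg Subtype.val
        (hc.is_comm.comm (⟨_, a.2⟩ : H) ⟨_, b.2⟩) :))⟩⟩
      ⟨⟨fun a b => Subtype.ext (Subtype.ext (congrArg Subtype.val
        (hc2.is_comm.comm (⟨_, a.2⟩ : H2) ⟨_, b.2⟩) :))⟩⟩
      (by rw [hcard H hHC]; exact hHall.coprime_dvd_right (Subgroup.relIndex_dvd_index_of_le hHC))
      (by rw [hcard H hHC, hcard H2 hH2C, hH2,
        Subgroup.card_map_of_injective (MulAut.conj g).injective])
    have hN : (c : G)⁻¹ * g ∈ Subgroup.normalizer (H : Set G) := by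
      rw [Subgroup.mem_normalizer_iff]
      intro x
      constructor
      · intro hx
        have hy : g * x * g⁻¹ ∈ H2 := ⟨x, hx, rfl⟩
        have := (hcc ⟨(c : G)⁻¹ * (g * x * g⁻¹) * c,
          mul_mem (mul_mem (inv_mem c.2) (hH2C hy)) c.2⟩).2
          (show (c : G) * ((c : G)⁻¹ * (g * x * g⁻¹) * c) * (c : G)⁻¹ ∈ H2 by
            simpa [mul_assoc] using hy)
        simpa [Subgroup.mem_subgroupOf, mul_assoc] using this
      · intro hx
        have h1 := (hcc ⟨_, hHC hx⟩).1 hx
        have h2 : g * x * g⁻¹ ∈ H2 := by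
          simpa [Subgroup.mem_subgroupOf, mul_assoc] using h1
        obtain ⟨y, hy, hyx⟩ := h2
        rwa [show x = y from ((MulAut.conj g).injective hyx).symm]
    have hcg : (c : G)⁻¹ * g ∈ C := Subgroup.centralizer_le (show ((P : Subgroup G) : Set G) ⊆ H from hPH) (h hN)
    have := mul_mem c.2 hcg
    rwa [mul_inv_cancel_left] at this
  exact ⟨P, _, inferInstance, MonoidHom.ker_transferSylow_isComplement' P hP⟩

end Cfsg.Agent.S0087
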