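import Cfsg.Statements.S0090
import Cfsg.Agent.Lib.Transfer.Hall

set_option autoImplicit false
open Cfsg
open scoped IsMulCommutative

namespace Cfsg.Agent.S0090

/-- An abelian normal Hall subgroup A splits as the internal direct product of G' ∩ A and Z(G) ∩ A, and [A, G] = G' ∩ A. -/
theorem result {G : Type*} [Group G] [Finite G] (A : Subgroup G) [A.Normal] (hc : IsMulCommutative A) (hHall : Nat.Coprime (Nat.card A) A.index) : ⁅A, (⊤ : Subgroup G)⁆ = commutator G ⊓ A ∧ (commutator G ⊓ A) ⊓ (Subgroup.center G ⊓ A) = ⊥ ∧ (commutator G ⊓ A) ⊔ (Subgroup.center G ⊓ A) = A := by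
  have hcomm : ∀ a ∈ A, ∀ b ∈ A, a * b = b * a := fun a ha b hb =>
    congrArg Subtype.val (hc.is_comm.comm (⟨a, ha⟩ : A) ⟨b, hb⟩)
  have hcop : Nat.Coprime A.index (⁅A, A⁆.relIndex A) :=
    hHall.symm.coprime_dvd_right (Subgroup.relIndex_dvd_card _ _)
  obtain ⟨hfoc, -⟩ := Lib.Transfer.Hall.focal_of_coprime A hcop
  have heq : ⁅A, (⊤ : Subgroup G)⁆ = commutator G ⊓ A := by
    refine le_antisymm (le_inf (Subgroup.commutator_mono le_top le_rfl)
      (Subgroup.commutator_le_left _ _)) ?_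
    rw [← hfoc, Subgroup.focalSubgroup_def, Subgroup.closure_le]
    rintro g ⟨-, x, hx, u, rfl⟩
    exact Subgroup.commutator_mem_commutator hx (Subgroup.mem_top u)
  refine ⟨heq, ?_, le_antisymm (sup_le inf_le_right inf_le_right) ?_⟩
  · rw [eq_bot_iff]
    rintro z ⟨⟨h1, h2⟩, h3, -⟩
    exact Subgroup.mem_bot.2 (Lib.Transfer.Hall.eq_one_of_mem_center A hc hHall h2 h1 h3)
  intro a ha
  haveI := hc
  haveI : Fintype (G ⧸ A) := Fintype.ofFinite _
  let φ : G ⧸ A → A := Quotient.lift (fun g => (⟨g * a * g⁻¹, ‹A.Normal›.conj_mem a ha g⟩ : A)) (by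
    intro g g' hgg
    have h1 : g⁻¹ * g' ∈ A := QuotientGroup.leftRel_apply.1 hgg
    apply Subtype.ext
    show g * a * g⁻¹ = g' * a * g'⁻¹
    calc g * a * g⁻¹ = g * ((g⁻¹ * g') * a * (g⁻¹ * g')⁻¹) * g⁻¹ := by
          rw [hcomm _ h1 a ha, mul_inv_cancel_right]
      _ = g' * a * g'⁻¹ := by group)
  let b : A := ∏ q, φ q
  have hb : (b : G) ∈ Subgroup.center G := by
    rw [Subgroup.mem_center_iff]
    intro h
    let c : A →* A :=
      { toFun := fun x => ⟨h * x * h⁻¹, ‹A.Normal›.conj_mem x x.2 h⟩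
        map_one' := by apply Subtype.ext; simp
        map_mul' := by intro x y; apply Subtype.ext; simp }
    have h2 : c b = b := by
      rw [show c b = ∏ q, c (φ q) from map_prod c φ _]
      refine Fintype.prod_equiv (MulAction.toPerm h) _ _ fun q => ?_
      obtain ⟨g, rfl⟩ := QuotientGroup.mk_surjective q
      apply Subtype.ext
      show h * (g * a * g⁻¹) * h⁻¹ = h * g * a * (h * g)⁻¹
      group
    have h3 : h * (b : G) * h⁻¹ = b := congrArg Subtype.val h2
    calc h * (b : G) = h * b * h⁻¹ * h := by group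
      _ = b * h := by rw [h3]
  let a' : A := ⟨a, ha⟩
  have hsub : b * (a' ^ A.index)⁻¹ ∈ (⁅A, (⊤ : Subgroup G)⁆).subgroupOf A := by
    rw [show A.index = Fintype.card (G ⧸ A) by rw [Subgroup.index_eq_card, Nat.card_eq_fintype_card],
      ← Finset.card_univ, ← Finset.prod_const, ← Finset.prod_inv_distrib, ← Finset.prod_mul_distrib]
    refine Subgroup.prod_mem _ fun q _ => ?_
    obtain ⟨g, rfl⟩ := QuotientGroup.mk_surjective q
    show g * a * g⁻¹ * a⁻¹ ∈ ⁅A, (⊤ : Subgroup G)⁆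
    rw [Subgroup.commutator_comm]
    exact Subgroup.commutator_mem_commutator (Subgroup.mem_top g) ha
  have hn : a ^ A.index ∈ (commutator G ⊓ A) ⊔ (Subgroup.center G ⊓ A) := by
    rw [show a ^ A.index = ((b : G) * (a ^ A.index)⁻¹)⁻¹ * b by group]
    exact Subgroup.mul_mem_sup (inv_mem (heq ▸ hsub)) ⟨hb, b.2⟩
  obtain ⟨m, hm⟩ := exists_pow_eq_self_of_coprime (x := a) (n := A.index)
    (hHall.symm.coprime_dvd_right (A.orderOf_dvd_natCard ha))
  rw [← hm]
  exact pow_mem hn m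

end Cfsg.Agent.S0090
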