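import Cfsg.Statements.S0092
import Cfsg.Agent.Lib.Transfer.Hall
import Cfsg.Agent.Lib.Coprime.Conjugacy

set_option autoImplicit false
open Cfsg
open scoped commutatorElement Pointwise

namespace Cfsg.Agent.S0092

/-- If the Sylow p-subgroups of O^p(G) are abelian then G splits over O^p(G). -/
theorem result {G : Type*} [Group G] [Finite G] {p : ℕ} [Fact p.Prime] (h : ∀ Q : Sylow p (Cfsg.pResidual p G), IsMulCommutative Q) : ∃ K : Subgroup G, K.IsComplement' (Cfsg.pResidual p G) := by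
  set K := Cfsg.pResidual p G with hKdef
  haveI : K.Normal := Lib.Transfer.PResidual.pResidual_normal
  let Q : Sylow p K := default
  have hQab : IsMulCommutative (Q : Subgroup K) := h Q
  set Q0 : Subgroup G := (Q : Subgroup K).map K.subtype with hQ0
  have hQ0K : Q0 ≤ K := Subgroup.map_subtype_le _
  set N : Subgroup G := Subgroup.normalizer (Q0 : Set G) with hN
  have hKN : N ⊔ K = ⊤ := Sylow.normalizer_sup_eq_top Q
  -- NK = K ∩ N and its normal abelian Sylow subgroup Q0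
  have hQN : Q0 ≤ K ⊓ N := le_inf hQ0K Subgroup.le_normalizer
  haveI hnorm : (Q0.subgroupOf (K ⊓ N)).Normal :=
    (Subgroup.normal_subgroupOf_iff_le_normalizer hQN).2 inf_le_right
  have hQ0p : IsPGroup p Q0 := Q.2.map _
  have hidxQ : ¬ p ∣ (Q0.subgroupOf (K ⊓ N)).index := by
    intro hd
    apply Q.not_dvd_index
    refine hd.trans ?_
    have h1 : (Q0.subgroupOf (K ⊓ N)).index ∣ (Q0.subgroupOf K).index :=
      ⟨(K ⊓ N).relIndex K, (Subgroup.relIndex_mul_relIndex _ _ _ hQN inf_le_left).symm⟩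
    rwa [show Q0.subgroupOf K = (Q : Subgroup K) from
      Subgroup.comap_map_eq_self_of_injective K.subtype_injective _] at h1
  obtain ⟨e, he⟩ := IsPGroup.iff_card.1 (hQ0p.comap_subtype (K := K ⊓ N))
  have hcop : (Nat.card (Q0.subgroupOf (K ⊓ N))).Coprime (Q0.subgroupOf (K ⊓ N)).index := by
    rw [show Nat.card (Q0.subgroupOf (K ⊓ N)) = p ^ e from he]
    exact ((Fact.out : p.Prime).coprime_iff_not_dvd.2 hidxQ).pow_left e
  obtain ⟨L', hL'⟩ := Subgroup.exists_right_complement'_of_coprime hcop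
  set L : Subgroup G := L'.map (K ⊓ N).subtype with hL
  have hLN : L ≤ K ⊓ N := Subgroup.map_subtype_le _
  have hdec : ∀ x ∈ K ⊓ N, ∃ q ∈ Q0, ∃ l ∈ L, q * l = x := by
    intro x hx
    obtain ⟨⟨⟨q, hq⟩, ⟨l, hl⟩⟩, hql⟩ := hL'.2 ⟨x, hx⟩
    exact ⟨q, hq, l, ⟨l, hl, rfl⟩, congrArg Subtype.val hql⟩
  have hQL : ∀ x ∈ Q0, x ∈ L → x = 1 := by
    intro x hx hxL
    obtain ⟨l, hl, rfl⟩ := hxL
    have := Subgroup.disjoint_def.1 hL'.disjoint (x := l) hx hl
    rw [this]; rfl
  have hcardL : Nat.card L = (Q0.subgroupOf (K ⊓ N)).index := by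
    rw [hL, Subgroup.card_map_of_injective (K ⊓ N).subtype_injective]
    exact hL'.symm.index_eq_card.symm
  have hcommQ : ∀ a ∈ Q0, ∀ b ∈ Q0, a * b = b * a := by
    rintro _ ⟨a, ha, rfl⟩ _ ⟨b, hb, rfl⟩
    exact congrArg Subtype.val
      (congrArg Subtype.val (hQab.is_comm.comm (⟨a, ha⟩ : (Q : Subgroup K)) ⟨b, hb⟩))
  set M : Subgroup G := N ⊓ Subgroup.normalizer (L : Set G) with hM
  -- M ∩ Q0 = 1
  have hMQ : ∀ x ∈ M, x ∈ Q0 → x = 1 := by
    intro x hxM hxQ
    have hxK : x ∈ K := hQ0K hxQ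
    have hcL : ∀ l ∈ L, x * l = l * x := by
      intro l hl
      rw [← commutatorElement_eq_one_iff_mul_comm]
      refine hQL _ ?_ ?_
      · rw [commutatorElement_def, mul_assoc, mul_assoc]
        refine mul_mem hxQ ?_
        rw [← mul_assoc]
        exact (Subgroup.mem_normalizer_iff.1 (hLN hl).2 _).1 (inv_mem hxQ)
      · rw [commutatorElement_def]
        exact mul_mem ((Subgroup.mem_normalizer_iff.1 hxM.2 l).1 hl) (inv_mem hl)
    have hcent : ∀ y ∈ K ⊓ N, y * x = x * y := by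
      intro y hy
      obtain ⟨q, hq, l, hl, rfl⟩ := hdec y hy
      rw [mul_assoc, ← hcL l hl, ← mul_assoc, hcommQ q hq x hxQ, mul_assoc]
    -- inside K
    set x' : K := ⟨x, hxK⟩
    have hx' : x' ∈ (Q : Subgroup K) := by
      obtain ⟨y, hy, hyx⟩ := hxQ
      rwa [show x' = y from Subtype.ext hyx.symm]
    have hcomm : x' ∈ commutator K := by
      have h1 := Lib.Transfer.PResidual.pResidual_pResidual (p := p) (G := G)
      have h2 := Lib.Transfer.Fusion.pGroup_le_commutator_pResidual Q.2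
        (show (Q : Subgroup K) ≤ Cfsg.pResidual p K by rw [h1]; exact le_top) hx'
      rw [h1] at h2
      exact h2
    have h3 : x' ∈ ⁅Subgroup.normalizer ((Q : Subgroup K) : Set K),
        Subgroup.normalizer ((Q : Subgroup K) : Set K)⁆ := by
      have h4 := Lib.Transfer.Fusion.commutator_inf_sylow_eq_of_controls Q _ Subgroup.le_normalizer
        (fun a ha g hy => Lib.Transfer.Fusion.controls_of_isMulCommutative Q hQab a ha g hy)
      have h4' : x' ∈ commutator K ⊓ (Q : Subgroup K) := Subgroup.mem_inf.2 ⟨hcomm, hx'⟩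
      rw [h4] at h4'
      exact h4'.1
    set NK : Subgroup K := Subgroup.normalizer ((Q : Subgroup K) : Set K) with hNK
    rw [← Subgroup.map_subtype_commutator] at h3
    obtain ⟨x'', hx''c, hx''⟩ := h3
    have h5 := Lib.Transfer.Hall.eq_one_of_mem_center
      ((Q : Subgroup K).subgroupOf NK)
      ⟨⟨fun a b => Subtype.ext (Subtype.ext (congrArg Subtype.val
        (hQab.is_comm.comm (⟨_, a.2⟩ : (Q : Subgroup K)) ⟨_, b.2⟩) :))⟩⟩
      (by
        rw [Nat.card_congr (Subgroup.subgroupOfEquivOfLe Subgroup.le_normalizer).toEquiv]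
        exact Q.card_coprime_index.coprime_dvd_right
          (Subgroup.relIndex_dvd_index_of_le Subgroup.le_normalizer))
      (z := x'') (by
        show (x'' : K) ∈ (Q : Subgroup K)
        rw [show (x'' : K) = x' from hx'']
        exact hx') hx''c
      (Subgroup.mem_center_iff.2 fun y => Subtype.ext (Subtype.ext (by
        have h6 : ((x'' : K) : G) = x := congrArg Subtype.val hx''
        show ((y : K) : G) * ((x'' : K) : G) = ((x'' : K) : G) * ((y : K) : G)
        rw [h6]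
        refine hcent _ ⟨(y : K).2, Subgroup.le_normalizer_map K.subtype ⟨_, y.2, rfl⟩⟩)))
    have h7 : x' = 1 := by rw [← hx'', h5]; rfl
    exact congrArg Subtype.val h7
  -- N = Q0 M
  have hNQM : ∀ g ∈ N, ∃ q ∈ Q0, ∃ m ∈ M, q * m = g := by
    intro g hg
    have hcopL : (Nat.card L).Coprime (Nat.card Q0) := by
      rw [hcardL, ← Nat.card_congr (Subgroup.subgroupOfEquivOfLe hQN).toEquiv]
      exact hcop.symm
    obtain ⟨q, hq, hqL⟩ := Lib.Coprime.exists_conj_eq_of_coprime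
      (A := L) (B := L.map (MulAut.conj g).toMonoidHom) (K := Q0) (hLN.trans inf_le_right) hcopL
      (Or.inr (by haveI := hQ0p.isNilpotent; infer_instance)) (by
        rintro _ ⟨l, hl, rfl⟩
        obtain ⟨q, hq, l', hl', hql⟩ := hdec (g * l * g⁻¹)
          ⟨‹K.Normal›.conj_mem l (hLN hl).1 g, N.mul_mem (N.mul_mem hg (hLN hl).2) (N.inv_mem hg)⟩
        show g * l * g⁻¹ ∈ L ⊔ Q0
        rw [← hql, sup_comm]
        exact Subgroup.mul_mem_sup hq hl')
      (Subgroup.card_map_of_injective (MulAut.conj g).injective)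
    refine ⟨q, hq, q⁻¹ * g, Subgroup.mem_inf.2 ⟨mul_mem (inv_mem (hQN hq).2) hg, ?_⟩, by group⟩
    rw [Subgroup.mem_normalizer_iff]
    intro l
    have h1 : q⁻¹ * g * l * (q⁻¹ * g)⁻¹ = q⁻¹ * (g * l * g⁻¹) * q := by group
    rw [h1]
    constructor
    · intro hl
      have h2 : g * l * g⁻¹ ∈ MulAut.conj q • L := hqL ▸ ⟨l, hl, rfl⟩
      exact (Lib.Coprime.mem_conj_smul).1 h2
    · intro hl
      have h2 : g * l * g⁻¹ ∈ L.map (MulAut.conj g).toMonoidHom :=
        hqL ▸ (Lib.Coprime.mem_conj_smul).2 hl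
      obtain ⟨y, hy, hyx⟩ := h2
      rwa [show l = y from ((MulAut.conj g).injective hyx).symm]
  -- Sylow subgroup of M
  let R : Sylow p M := default
  set D : Subgroup G := (R : Subgroup M).map M.subtype with hD
  refine ⟨D, ?_⟩
  have hDK : Disjoint D K := by
    rw [Subgroup.disjoint_def]
    rintro x ⟨r, hr, rfl⟩ hxK
    have hrN : (r : G) ∈ K ⊓ N := ⟨hxK, r.2.1⟩
    obtain ⟨q, hq, l, hl, hql⟩ := hdec _ hrN
    have hlM : l ∈ M := ⟨(hLN hl).2, Subgroup.le_normalizer hl⟩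
    have hq1 : q = 1 := hMQ q (by
      rw [eq_mul_inv_of_mul_eq hql]; exact mul_mem r.2 (inv_mem hlM)) hq
    rw [hq1, one_mul] at hql
    have hL' : ¬ p ∣ Nat.card L := hcardL ▸ hidxQ
    exact Subgroup.disjoint_def.1 (Lib.Transfer.PResidual.disjoint_of_not_dvd hL'
      (R.2.map M.subtype)) (show M.subtype r ∈ L by rw [show M.subtype r = (r : G) from rfl, ← hql]; exact hl) ⟨r, hr, rfl⟩
  refine Subgroup.isComplement'_of_disjoint_and_mul_eq_univ hDK (Set.eq_univ_of_forall fun g => ?_)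
  have hg : g ∈ ((N ⊔ K : Subgroup G) : Set G) := by rw [hKN]; trivial
  rw [Subgroup.mul_normal N K] at hg
  obtain ⟨n, hn, k, hk, rfl⟩ := hg
  obtain ⟨q, hq, m, hm, rfl⟩ := hNQM n hn
  obtain ⟨m0, hm0, r, hr, hmr⟩ := Lib.Transfer.PResidual.exists_mul_sylow R (⟨m, hm⟩ : M)
  have hm0K : (m0 : G) ∈ K := Lib.Transfer.PResidual.map_pResidual_le M.subtype ⟨m0, hm0, rfl⟩
  have hm' : (m0 : G) * r = m := congrArg Subtype.val hmr
  refine ⟨r, ⟨r, hr, rfl⟩, (r : G)⁻¹ * (q * m0) * r * k, ?_, ?_⟩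
  · exact mul_mem (Subgroup.Normal.conj_mem' ‹K.Normal› _ (mul_mem (hQ0K hq) hm0K) _) hk
  · show (r : G) * ((r : G)⁻¹ * (q * m0) * r * k) = q * m * k
    rw [← hm']; group

end Cfsg.Agent.S0092
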