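import Cfsg.Statements.S0093
import Cfsg.Agent.Lib.Transfer.Critical

set_option autoImplicit false
open Cfsg

namespace Cfsg.Agent.S0093

/-- Every finite p-group has a critical subgroup: a characteristic subgroup H whose Frattini subgroup and whose commutator with the whole group lie in the centre of H, and whose centralizer is contained in H. -/
theorem result {P : Type*} [Group P] [Finite P] {p : ℕ} [Fact p.Prime] (hP : IsPGroup p P) : ∃ H : Subgroup P, H.Characteristic ∧ (frattini H).map H.subtype ≤ Subgroup.centralizer (H : Set P) ∧ ⁅H, (⊤ : Subgroup P)⁆ ≤ H ⊓ Subgroup.centralizer (H : Set P) ∧ Subgroup.centralizer (H : Set P) ≤ H := by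
  obtain ⟨H, hchar, hC, hpow, hcomm⟩ := Lib.Transfer.Critical.exists_critical hP
  haveI := hchar
  haveI : H.Normal := Subgroup.normal_of_characteristic H
  refine ⟨H, hchar, ?_, ?_, hC⟩
  · rw [Subgroup.map_le_iff_le_comap]
    haveI : ((Subgroup.centralizer (H : Set P)).comap H.subtype).Normal :=
      Subgroup.Normal.comap inferInstance _
    refine Lib.PGroups.frattini_le_of_pow_commutator (p := p) _ (fun x => ?_) ?_
    · exact (hpow x x.2).2
    · rw [commutator_def, Subgroup.commutator_le]
      intro a _ b _
      exact (hcomm a a.2 b).2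
  · rw [Subgroup.commutator_le]
    exact fun x hx g _ => hcomm x hx g

end Cfsg.Agent.S0093
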