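import Cfsg.Statements.S0094
import Cfsg.Agent.Lib.PGroups.Frattini

set_option autoImplicit false
open Cfsg
open scoped commutatorElement

namespace Cfsg.Agent.S0094

/-- In a special p-group every central element has order dividing p. -/
theorem result {P : Type*} [Group P] [Finite P] {p : ℕ} [Fact p.Prime] (h : Cfsg.IsSpecial p P) (z : P) (hz : z ∈ Subgroup.center P) : z ^ p = 1 := by
  obtain ⟨hP, hfr, hcm⟩ := h
  have hz' : z ∈ commutator P := hcm ▸ hz
  rw [commutator_eq_closure] at hz'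
  clear hz
  suffices H : z ∈ Subgroup.center P ∧ z ^ p = 1 from H.2
  induction hz' using Subgroup.closure_induction with
  | mem x hx =>
    obtain ⟨a, b, rfl⟩ := hx
    have hcen : ∀ u v : P, ⁅u, v⁆ ∈ Subgroup.center P := fun u v =>
      hcm ▸ Subgroup.commutator_mem_commutator (Subgroup.mem_top u) (Subgroup.mem_top v)
    refine ⟨hcen a b, ?_⟩
    have hpow : ∀ k : ℕ, ⁅a ^ k, b⁆ = ⁅a, b⁆ ^ k := by
      intro k
      induction k with
      | zero => simp [commutatorElement_def]
      | succ k ih =>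
        have hc := Subgroup.mem_center_iff.1 (hcen a b) (a ^ k)
        calc ⁅a ^ (k + 1), b⁆ = a ^ k * ⁅a, b⁆ * (b * (a ^ k)⁻¹ * b⁻¹) := by
              rw [commutatorElement_def, commutatorElement_def]; group
          _ = ⁅a, b⁆ * ⁅a ^ k, b⁆ := by rw [hc]; simp [commutatorElement_def, mul_assoc]
          _ = ⁅a, b⁆ ^ (k + 1) := by rw [ih, ← pow_succ']
    rw [← hpow, commutatorElement_eq_one_iff_mul_comm]
    exact (Subgroup.mem_center_iff.1 (hfr ▸ Lib.PGroups.pow_mem_frattini hP a) b).symm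
  | one => exact ⟨one_mem _, one_pow _⟩
  | mul x y _ _ hx hy =>
    refine ⟨mul_mem hx.1 hy.1, ?_⟩
    rw [Commute.mul_pow (Subgroup.mem_center_iff.1 hy.1 x), hx.2, hy.2, one_mul]
  | inv x _ hx => exact ⟨inv_mem hx.1, by rw [inv_pow, hx.2, inv_one]⟩

end Cfsg.Agent.S0094
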