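import Cfsg.Statements.S0095
import Cfsg.Agent.Lib.Extraspecial.Basic

set_option autoImplicit false
open Cfsg

namespace Cfsg.Agent.S0095

/-- The order of an extraspecial p-group is an odd power p^(2n+1) of p with n ≥ 1. -/
theorem result {P : Type*} [Group P] [Finite P] {p : ℕ} [Fact p.Prime] (h : Cfsg.IsExtraspecial p P) : ∃ n : ℕ, 1 ≤ n ∧ Nat.card P = p ^ (2 * n + 1) := by
  obtain ⟨z, hz⟩ := Lib.Extraspecial.exists_esData h
  obtain ⟨n, hn⟩ := Lib.Extraspecial.exists_card_eq hz
  refine ⟨n, Nat.one_le_iff_ne_zero.2 ?_, hn⟩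
  rintro rfl
  obtain ⟨⟨_, hfr, hcm⟩, hcard⟩ := h
  have htop : Subgroup.center P = ⊤ := Subgroup.eq_top_of_card_eq _ (by rw [hcard, hn]; simp)
  have hbot : commutator P = ⊥ := by
    rw [commutator_def, Subgroup.commutator_eq_bot_iff_le_centralizer]
    intro a _
    rw [Subgroup.mem_centralizer_iff]
    intro b _
    exact Subgroup.mem_center_iff.1 (htop ▸ Subgroup.mem_top a) b
  have : Nat.card (⊥ : Subgroup P) = p := by rw [← hbot, hcm, hcard]
  rw [Subgroup.card_bot] at this
  exact (Fact.out : p.Prime).one_lt.ne this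

end Cfsg.Agent.S0095
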