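import Cfsg.Statements.S0096
import Cfsg.Agent.Lib.PGroupTheory.Regular

set_option autoImplicit false
open Cfsg

namespace Cfsg.Agent.S0096

/-- For odd p, in a p-group of class at most two the elements of order dividing p generate a subgroup of exponent dividing p. -/
theorem result {P : Type*} [Group P] [Finite P] {p : ℕ} [Fact p.Prime] (hp : p ≠ 2) (hP : IsPGroup p P) (h2 : ⁅commutator P, (⊤ : Subgroup P)⁆ = ⊥) (g : P) (hg : g ∈ Subgroup.closure {x : P | x ^ p = 1}) : g ^ p = 1 := by
  haveI := Fact.mk (Fact.out : p.Prime)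
  have hp3 : 2 ≤ p - 1 := by have := (Fact.out : p.Prime).two_le; omega
  have hlcs : (⊤ : Subgroup P).lowerCentralSeries (p - 1) = ⊥ := by
    refine le_bot_iff.1 (((⊤ : Subgroup P).lowerCentralSeries_antitone hp3).trans ?_)
    exact h2.le
  have hR := (Lib.PGroupTheory.isRegularPGroup_iff).1
    (Lib.PGroupTheory.isRegularPGroup_of_lowerCentralSeries_eq_bot hP hlcs)
  have := Lib.PGroupTheory.pow_eq_one_of_mem_closure hP (hR.2 1) (g := g) (by simpa using hg)
  simpa using this

end Cfsg.Agent.S0096
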