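import Cfsg.Statements.S0097
import Cfsg.Agent.Lib.PGroupTheory.Regular
import Cfsg.Agent.Lib.PGroups.Frattini
import Cfsg.Agent.S0094

set_option autoImplicit false
open Cfsg
open scoped commutatorElement

namespace Cfsg.Agent.S0097

/-- For odd p and E extraspecial, the subgroup generated by the elements of order dividing p has exponent dividing p and index at most p. -/
theorem result {E : Type*} [Group E] [Finite E] {p : ℕ} [Fact p.Prime] (hp : p ≠ 2) (h : Cfsg.IsExtraspecial p E) : (Subgroup.closure {x : E | x ^ p = 1}).index ≤ p ∧ ∀ g ∈ Subgroup.closure {x : E | x ^ p = 1}, g ^ p = 1 := by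
  obtain ⟨⟨hP, hfr, hcm⟩, hcard⟩ := h
  have hp3 : 2 ≤ p - 1 := by have := (Fact.out : p.Prime).two_le; omega
  have hlcs : (⊤ : Subgroup E).lowerCentralSeries (p - 1) = ⊥ := by
    refine le_bot_iff.1 (((⊤ : Subgroup E).lowerCentralSeries_antitone hp3).trans ?_)
    show ⁅commutator E, (⊤ : Subgroup E)⁆ ≤ ⊥
    rw [hcm, Subgroup.commutator_le]
    intro x hx y _
    exact Subgroup.mem_bot.2 (commutatorElement_eq_one_iff_mul_comm.2
      (Subgroup.mem_center_iff.1 hx y).symm)
  have hR := (Lib.PGroupTheory.isRegularPGroup_iff).1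
    (Lib.PGroupTheory.isRegularPGroup_of_lowerCentralSeries_eq_bot hP hlcs)
  have hΩ : ∀ g ∈ Subgroup.closure {x : E | x ^ p = 1}, g ^ p = 1 := fun g hg => by
    simpa using Lib.PGroupTheory.pow_eq_one_of_mem_closure hP (hR.2 1) (g := g) (by simpa using hg)
  refine ⟨?_, hΩ⟩
  have hcz : ∀ x : E, x ^ p ∈ Subgroup.center E := fun x =>
    hfr ▸ Lib.PGroups.pow_mem_frattini hP x
  let f : E →* Subgroup.center E :=
    { toFun := fun x => ⟨x ^ p, hcz x⟩
      map_one' := Subtype.ext (one_pow p)
      map_mul' := by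
        intro a b
        apply Subtype.ext
        obtain ⟨c, hc, hab⟩ := hR.2 1 a b
        have hc1 : c = 1 := by
          rw [Lib.PGroupTheory.powerClosure_eq_bot (p := p) (e := 1) fun x hx => ?_] at hc
          · exact Subgroup.mem_bot.1 hc
          · have hx' : x ∈ Subgroup.center E :=
              hcm ▸ Subgroup.commutator_mono le_top le_top hx
            simpa using Cfsg.Agent.S0094.result ⟨hP, hfr, hcm⟩ x hx'
        simpa [hc1] using hab }
  have hker : f.ker ≤ Subgroup.closure {x : E | x ^ p = 1} := fun x hx =>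
    Subgroup.subset_closure (congrArg Subtype.val hx)
  refine le_trans (Nat.le_of_dvd ?_ (Subgroup.index_dvd_of_le hker)) ?_
  · exact Nat.pos_of_ne_zero Subgroup.index_ne_zero_of_finite
  · rw [Subgroup.index_ker, ← hcard]
    exact Subgroup.card_le_card_group _

end Cfsg.Agent.S0097
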