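import Cfsg.Statements.S0104
import Cfsg.Agent.Lib.PGroups.Thompson

set_option autoImplicit false
open Cfsg

namespace Cfsg.Agent.S0104

open Cfsg.Agent.Lib.PGroups

/-- A subgroup Z of a Sylow p-subgroup P that is normalized by N_G(P) is weakly closed in P exactly when it is normal in every Sylow p-subgroup containing it. -/
theorem result {G : Type*} [Group G] [Finite G] {p : ℕ} [Fact p.Prime] (P : Sylow p G) (Z : Subgroup G) (hZP : Z ≤ (P : Subgroup G)) (hZN : Subgroup.normalizer (P : Set G) ≤ Subgroup.normalizer (Z : Set G)) : Cfsg.IsWeaklyClosed Z P ↔ ∀ R : Sylow p G, Z ≤ (R : Subgroup G) → (R : Subgroup G) ≤ Subgroup.normalizer (Z : Set G) := by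
  constructor
  · intro hW R hR
    obtain ⟨g, rfl⟩ := MulAction.exists_smul_eq G P R
    rw [Sylow.coe_subgroup_smul] at hR ⊢
    have hle : Z.map (MulAut.conj g⁻¹).toMonoidHom ≤ (P : Subgroup G) := by
      rintro _ ⟨z, hz, rfl⟩
      have := Subgroup.mem_pointwise_smul_iff_inv_smul_mem.mp (hR hz)
      simpa [MulAut.smul_def, MulAut.conj_apply] using this
    have hg := mem_normalizer_of_map_conj_eq (hW.2 g⁻¹ hle)
    intro r hr
    have hr' := Subgroup.mem_pointwise_smul_iff_inv_smul_mem.mp hr
    have hr'' : g⁻¹ * r * g ∈ Subgroup.normalizer (Z : Set G) := by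
      have := hZN (Subgroup.le_normalizer hr')
      simpa [MulAut.smul_def, MulAut.conj_apply] using this
    have := Subgroup.mul_mem _ (Subgroup.mul_mem _ (Subgroup.inv_mem _ hg) hr'') hg
    simpa [mul_assoc] using this
  · intro h
    refine ⟨hZP, fun g hg => map_conj_eq_of_mem_normalizer ?_⟩
    have hZR : Z ≤ ((g⁻¹ • P : Sylow p G) : Subgroup G) := by
      intro z hz
      rw [Sylow.coe_subgroup_smul, Subgroup.mem_pointwise_smul_iff_inv_smul_mem]
      simpa [MulAut.smul_def, MulAut.conj_apply] using hg ⟨z, hz, rfl⟩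
    have hRN := h _ hZR
    have hPN := h P hZP
    obtain ⟨n, hn⟩ := MulAction.exists_smul_eq (Subgroup.normalizer (Z : Set G))
      (P.subtype hPN) ((g⁻¹ • P).subtype hRN)
    rw [Sylow.smul_subtype hPN n] at hn
    have hn' : (n : G) • P = g⁻¹ • P := Sylow.subtype_injective hn
    have h1 : g * (n : G) ∈ Subgroup.normalizer (P : Set G) := by
      rw [← Sylow.smul_eq_iff_mem_normalizer, mul_smul, hn', smul_inv_smul]
    simpa using Subgroup.mul_mem _ (hZN h1) (Subgroup.inv_mem _ n.2)

end Cfsg.Agent.S0104
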