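import Cfsg.Statements.S0105
import Mathlib.GroupTheory.Transfer

set_option autoImplicit false
open Cfsg

namespace Cfsg.Agent.S0105

/-- With an abelian Sylow p-subgroup P, some quotient of G is isomorphic to the part of P central in N_G(P). -/
theorem result {G : Type*} [Group G] [Finite G] {p : ℕ} [Fact p.Prime] (P : Sylow p G) (hP : IsMulCommutative P) : ∃ (N : Subgroup G) (hN : N.Normal), Nonempty (G ⧸ N ≃* ((P : Subgroup G) ⊓ Subgroup.centralizer (Subgroup.normalizer (P : Set G) : Set G) : Subgroup G)) := by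
  classical
  set N := Subgroup.normalizer (P : Set G) with hN
  set Z0 := (P : Subgroup G) ⊓ Subgroup.centralizer (N : Set G) with hZ0
  open scoped IsMulCommutative in
  let V : G →* (P : Subgroup G) := MonoidHom.transfer (MonoidHom.id (P : Subgroup G))
  let Q := N ⧸ (P : Subgroup G).subgroupOf N
  have hmem : ∀ (x : (P : Subgroup G)) (n : N), (n : G) * x * (n : G)⁻¹ ∈ (P : Subgroup G) :=
    fun x n => (Subgroup.mem_normalizer_iff.mp n.2 x).mp x.2
  let act : ↥(P : Subgroup G) → Q → ↥(P : Subgroup G) := fun x =>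
    Quotient.lift (fun n : N => (⟨(n : G) * x * (n : G)⁻¹, hmem x n⟩ : (P : Subgroup G))) (by
      intro n m hnm
      have h' : n⁻¹ * m ∈ (P : Subgroup G).subgroupOf N := QuotientGroup.leftRel_apply.mp hnm
      have h : ((n⁻¹ * m : N) : G) ∈ (P : Subgroup G) := h'
      rw [Subgroup.coe_mul, Subgroup.coe_inv] at h
      have hc : x * ⟨_, h⟩ = ⟨_, h⟩ * x := hP.is_comm.comm _ _
      have hc' : (x : G) * ((n : G)⁻¹ * m) = (n : G)⁻¹ * m * x := congrArg Subtype.val hc
      apply Subtype.ext
      show (n : G) * x * (n : G)⁻¹ = (m : G) * x * (m : G)⁻¹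
      calc (n : G) * x * (n : G)⁻¹ = n * (x * ((n : G)⁻¹ * m)) * (m : G)⁻¹ := by group
        _ = _ := by rw [hc']; group)
  have act_mul : ∀ x y q, act (x * y) q = act x q * act y q := by
    intro x y q
    induction q using QuotientGroup.induction_on with
    | H n => exact Subtype.ext (by simp [act, mul_assoc])
  have : Fintype Q := Fintype.ofFinite Q
  open scoped IsMulCommutative in
  let φ : (P : Subgroup G) →* (P : Subgroup G) :=
    MonoidHom.mk' (fun x => ∏ q : Q, act x q) fun x y => by
      rw [← Finset.prod_mul_distrib]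
      exact Finset.prod_congr rfl fun q _ => act_mul x y q
  open scoped IsMulCommutative in
  have hφZ : ∀ x, ((φ x : (P : Subgroup G)) : G) ∈ Z0 := by
    intro x
    refine ⟨(φ x).2, ?_⟩
    intro n hn
    let c : (P : Subgroup G) →* (P : Subgroup G) :=
      MonoidHom.mk' (fun y => ⟨n * y * n⁻¹, hmem y ⟨n, hn⟩⟩) fun a b => Subtype.ext (by simp [mul_assoc])
    have hc : c (φ x) = φ x := by
      show c (∏ q : Q, act x q) = ∏ q : Q, act x q
      rw [map_prod]
      refine Fintype.prod_equiv (MulAction.toPerm (⟨n, hn⟩ : N)) _ _ fun q => ?_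
      induction q using QuotientGroup.induction_on with
      | H m => exact Subtype.ext (by
          show n * ((m : G) * x * (m : G)⁻¹) * n⁻¹ = n * (m : G) * x * (n * (m : G))⁻¹
          group)
    have := congrArg Subtype.val hc
    exact mul_inv_eq_iff_eq_mul.mp this
  open scoped IsMulCommutative in
  have hφpow : ∀ x : (P : Subgroup G), (x : G) ∈ Z0 → φ x = x ^ Nat.card Q := by
    intro x hx
    show ∏ q : Q, act x q = _
    rw [Nat.card_eq_fintype_card, ← Finset.card_univ, ← Finset.prod_const]
    refine Finset.prod_congr rfl fun q _ => ?_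
    induction q using QuotientGroup.induction_on with
    | H m => exact Subtype.ext (by
        show (m : G) * x * (m : G)⁻¹ = x
        rw [hx.2 m m.2, mul_inv_cancel_right])
  open scoped IsMulCommutative in
  have hVpow : ∀ x : (P : Subgroup G), (x : G) ∈ Z0 → V x = x ^ (P : Subgroup G).index := by
    intro x hx
    have key : ∀ (k : ℕ) (g₀ : G), g₀⁻¹ * (x : G) ^ k * g₀ ∈ (P : Subgroup G) →
        g₀⁻¹ * (x : G) ^ k * g₀ = (x : G) ^ k := by
      intro k g hg
      obtain ⟨n, hn, he⟩ := Sylow.conj_eq_normalizer_conj_of_mem P ((x : G) ^ k) g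
        (pow_mem x.2 k) hg
      rw [he, mul_assoc, ← Subgroup.pow_mem _ hx.2 k n hn, inv_mul_cancel_left]
    have h := MonoidHom.transfer_eq_pow (ϕ := MonoidHom.id (P : Subgroup G)) (x : G) key
    apply Subtype.ext
    exact (congrArg Subtype.val h).trans (by simp)
  let ψ : G →* Z0 := MonoidHom.mk' (fun g => ⟨(φ (V g) : G), hφZ (V g)⟩)
    fun a b => Subtype.ext (by simp)
  have hsurj : Function.Surjective ψ := by
    have hcop : Nat.Coprime (Nat.card Z0) ((P : Subgroup G).index * Nat.card Q) := by
      obtain ⟨k, hk⟩ := IsPGroup.iff_card.mp (P.2.to_le (inf_le_left : Z0 ≤ _))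
      rw [hk]
      refine Nat.Coprime.pow_left _ (Nat.Coprime.mul_right ?_ ?_)
      · exact (Fact.out : p.Prime).coprime_iff_not_dvd.mpr P.not_dvd_index
      · refine (Fact.out : p.Prime).coprime_iff_not_dvd.mpr fun hd => P.not_dvd_index (hd.trans ?_)
        exact Subgroup.relIndex_dvd_index_of_le (Subgroup.le_normalizer)
    intro z
    obtain ⟨y, hy⟩ := (powCoprime hcop).surjective z
    refine ⟨(y : G), Subtype.ext ?_⟩
    have hyP : (y : G) ∈ (P : Subgroup G) := y.2.1
    show ((φ (V (y : G)) : (P : Subgroup G)) : G) = z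
    rw [show V (y : G) = _ from hVpow ⟨y, hyP⟩ y.2, map_pow, hφpow ⟨y, hyP⟩ y.2, ← hy]
    simp [powCoprime, ← pow_mul, mul_comm]
  exact ⟨ψ.ker, inferInstance, ⟨QuotientGroup.quotientKerEquivOfSurjective ψ hsurj⟩⟩

end Cfsg.Agent.S0105
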