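import Cfsg.Statements.S0618
import Cfsg.Agent.Lib.PLocal.ActionQuotient
import Cfsg.Agent.Lib.PLocal.StableClosure
import Cfsg.Agent.S0617
-- import your own Cfsg.Agent.* helpers here

set_option autoImplicit false
open Cfsg

namespace Cfsg.Agent.S0618

/-- A p-separable group with trivial p'-core in which the Thompson factorization fails has p = 2 or 3, and J(G) induces on the normal closure of Ω₁(Z(S)) a group containing a normal SL(2, p). -/
theorem result {G : Type*} [Group G] [Finite G] {p : ℕ} [Fact p.Prime] (hsep : Cfsg.IsPSolvable p G) (hO : Cfsg.pPrimeCore p G = ⊥) (hnf : ¬ Cfsg.IsThompsonFactorizable p G) : (p = 2 ∨ p = 3) ∧ ∃ E : Subgroup G, Subgroup.centralizer ((⨆ S : Sylow p G, Cfsg.omegaOne p ((S : Subgroup G) ⊓ Subgroup.centralizer ((S : Subgroup G) : Set G))) : Set G) ≤ E ∧ E ≤ Cfsg.thompsonSubgroup p G ⊔ Subgroup.centralizer ((⨆ S : Sylow p G, Cfsg.omegaOne p ((S : Subgroup G) ⊓ Subgroup.centralizer ((S : Subgroup G) : Set G))) : Set G) ∧ Cfsg.thompsonSubgroup p G ⊔ Subgroup.centralizer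 ((⨆ S : Sylow p G, Cfsg.omegaOne p ((S : Subgroup G) ⊓ Subgroup.centralizer ((S : Subgroup G) : Set G))) : Set G) ≤ Subgroup.normalizer (E : Set G) ∧ ∃ hn : ((Subgroup.centralizer ((⨆ S : Sylow p G, Cfsg.omegaOne p ((S : Subgroup G) ⊓ Subgroup.centralizer ((S : Subgroup G) : Set G))) : Set G)).subgroupOf E).Normal, Nonempty ((↥E ⧸ (Subgroup.centralizer ((⨆ S : Sylow p G, Cfsg.omegaOne p ((S : Subgroup G) ⊓ Subgroup.centralizer ((S : Subgroup G) : Set G))) : Set G)).subgroupOf E) ≃* Matrix.SpecialLinearGroup (Fin 2) (ZMod p)) := by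
  open Cfsg.Agent.Lib Cfsg.Agent.Lib.PLocal in
  have hC' : Subgroup.centralizer (⨆ S : Sylow p G,
      ((omegaCenterOf p (S : Subgroup G) : Subgroup G) : Set G)) =
      Subgroup.centralizer ((omegaCenterSup p G : Subgroup G) : Set G) := by
    rw [omegaCenterSup, Subgroup.iSup_eq_closure, Subgroup.centralizer_closure]
    rfl
  rw [hC']
  set V := omegaCenterSup p G with hVdef
  set C := Subgroup.centralizer (V : Set G) with hCdef
  haveI hCn : C.Normal := Subgroup.normal_centralizer
  set J := Cfsg.thompsonSubgroup p G with hJdef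
  haveI hJn : J.Normal := by
    haveI := PGroups.thompsonSubgroup_characteristic (p := p) (G := G)
    exact inferInstance
  have hc := PSolvable.centralizer_pCore_le hsep hO
  have hV : Cfsg.IsElementaryAbelian p V := omegaCenterSup_elemAb hc
  have hJC : ¬ J ≤ C := fun h => hnf (factorizable_of_le h)
  -- `O_p(G/C) = 1`
  have hOp : Cfsg.pCore p (G ⧸ C) = ⊥ := by
    obtain ⟨k, hk⟩ := (Cores.pCore_isPGroup (G := G ⧸ C) p).exists_card_eq
    set D := (Cfsg.pCore p (G ⧸ C)).comap (QuotientGroup.mk' C) with hD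
    have hmap : D.map (QuotientGroup.mk' C) = Cfsg.pCore p (G ⧸ C) :=
      Subgroup.map_comap_eq_self_of_surjective (QuotientGroup.mk'_surjective C) _
    have hrel : C.relIndex D = p ^ k := by
      have h := Subgroup.relIndex_ker (K := D) (QuotientGroup.mk' C)
      rw [QuotientGroup.ker_mk', hmap, hk] at h
      exact h
    have hDC := eq_centralizer_of_generated (omegaCenterSup_generated (p := p) (G := G)) D
      (QuotientGroup.le_comap_mk' C _) hrel
    rw [← hmap, hDC, QuotientGroup.map_mk'_self]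
  -- the group acting on `V`
  set H := J.map (actHom V) with hHdef
  have hHact : H ≤ actH V := (Subgroup.map_le_range _ _).trans (actHom_range V).le
  have hHeq : H = (J.map (QuotientGroup.mk' C)).map SemidirectProduct.inr := by
    rw [hHdef, actHom, ← Subgroup.map_map]
  let e : ↥(J.map (QuotientGroup.mk' C)) ≃* ↥H :=
    ((J.map (QuotientGroup.mk' C)).equivMapOfInjective _ SemidirectProduct.inr_injective).trans
      (MulEquiv.subgroupCongr hHeq.symm)
  haveI : (J.map (QuotientGroup.mk' C)).Normal :=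
    Subgroup.Normal.map inferInstance _ (QuotientGroup.mk'_surjective C)
  have hS1 : Subgroup.centralizer (Cfsg.pPrimeCore p ↥H : Set ↥H) ≤ Cfsg.pPrimeCore p ↥H := by
    refine centralizer_pPrimeCore_le ((PSolvable.isPSolvable_congr e).mp
      (PSolvable.isPSolvable_subgroup (PSolvable.isPSolvable_quotient hsep C) _)) ?_
    have h := (PSolvable.pCore_map_le_of_normal (p := p) (J.map (QuotientGroup.mk' C))).trans_eq hOp
    rw [le_bot_iff, Subgroup.map_eq_bot_iff_of_injective _ (Subgroup.subtype_injective _)] at h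
    rw [← Cores.map_pCore_equiv e, h, Subgroup.map_bot]
  have hS3 : H = ⨆ A : {A : Subgroup (actGroup V) // A ≤ H ∧ Cfsg.IsBestOffenderOn p (actV V) A},
      (A : Subgroup (actGroup V)) := by
    refine le_antisymm ?_ (iSup_le fun A => A.2.1)
    rw [hHdef, hJdef, Cfsg.thompsonSubgroup, Subgroup.map_le_iff_le_comap]
    refine sSup_le fun A hA => Subgroup.map_le_iff_le_comap.mp ?_
    have hAJ : A.map (actHom V) ≤ H := Subgroup.map_mono (le_sSup hA)
    exact le_iSup_of_le ⟨A.map (actHom V), hAJ,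
      bestOffender_act V (bestOffender_of_maxElemAb hA hV)⟩ le_rfl
  have hH1 : H ≠ ⊥ := fun h => hJC fun x hx => (actHom_eq_one_iff V).mp
    (Subgroup.mem_bot.mp (h ▸ Subgroup.mem_map_of_mem (actHom V) hx))
  obtain ⟨hp23, hE, -, hsup, -, -⟩ := Cfsg.Agent.S0617.result (actV V) H (actV_elemAb V hV)
    (hHact.trans (actH_le_normalizer V))
    (le_bot_iff.mp ((inf_le_inf_right _ hHact).trans (actH_faithful V).le)) hS1 hS3 hH1
  refine ⟨hp23, ?_⟩
  rw [← hsup] at hH1
  simp only [ne_eq, iSup_eq_bot, not_forall] at hH1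
  obtain ⟨E, -⟩ := hH1
  obtain ⟨hEn, ⟨i⟩, -⟩ := hE E
  have hEH : (E : Subgroup (actGroup V)) ≤ H := (le_iSup_of_le E le_rfl).trans hsup.le
  have hker : (actHom V).ker = C := by
    ext g; rw [MonoidHom.mem_ker, actHom_eq_one_iff]
  set E' := (E : Subgroup (actGroup V)).comap (actHom V) with hE'
  have hCE : C ≤ E' := fun c hc => by
    show actHom V c ∈ (E : Subgroup (actGroup V))
    rw [(actHom_eq_one_iff V).mpr hc]
    exact Subgroup.one_mem _
  refine ⟨E', hCE, ?_, ?_, Subgroup.normal_subgroupOf_of_le_normalizer ?_, ?_⟩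
  · refine (Subgroup.comap_mono hEH).trans ?_
    rw [hHdef, Subgroup.comap_map_eq, hker]
  · intro x hx
    refine Subgroup.mem_normalizer_iff.mpr fun y => ?_
    have hx' : actHom V x ∈ Subgroup.normalizer ((E : Subgroup (actGroup V)) : Set (actGroup V)) := by
      refine hEn ?_
      have h1 : actHom V x ∈ (J ⊔ C).map (actHom V) := Subgroup.mem_map_of_mem _ hx
      rw [Subgroup.map_sup, (Subgroup.map_eq_bot_iff C).mpr hker.ge, sup_bot_eq] at h1
      exact h1
    show actHom V y ∈ (E : Subgroup (actGroup V)) ↔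
      actHom V (x * y * x⁻¹) ∈ (E : Subgroup (actGroup V))
    rw [map_mul, map_mul, map_inv]
    exact Subgroup.mem_normalizer_iff.mp hx' _
  · exact le_top.trans (Subgroup.normalizer_eq_top C).ge
  · let f : ↥E' →* ↥(E : Subgroup (actGroup V)) :=
      ((actHom V).comp E'.subtype).codRestrict _ fun x => x.2
    have hf : Function.Surjective f := by
      rintro ⟨y, hy⟩
      obtain ⟨g, rfl⟩ : y ∈ (actHom V).range := (actHom_range V).ge (hHact (hEH hy))
      exact ⟨⟨g, hy⟩, rfl⟩
    refine ⟨((QuotientGroup.quotientMulEquivOfEq ?_).trans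
      (QuotientGroup.quotientKerEquivOfSurjective f hf)).trans i⟩
    ext x
    rw [Subgroup.mem_subgroupOf, MonoidHom.mem_ker, ← Subtype.val_inj]
    exact (actHom_eq_one_iff V).symm

end Cfsg.Agent.S0618
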