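import Cfsg.Statements.S0110
import Cfsg.Agent.Lib.PGroups.ElemAb
import Cfsg.Agent.Lib.PGroups.MaxAbelian

set_option autoImplicit false
open Cfsg

namespace Cfsg.Agent.S0110

open scoped commutatorElement
open Cfsg.Agent.Lib.PGroups

/-- A subgroup is generated over `Z` by few elements. -/
theorem exists_gens {G : Type*} [Group G] [Finite G] {p : ℕ} [Fact p.Prime] (E Z : Subgroup G)
    (hE : IsPGroup p E) (hZE : Z ≤ E) :
    ∃ s : Finset G, (s : Set G) ⊆ E ∧ E ≤ Z ⊔ Subgroup.closure (s : Set G) ∧
      Nat.card Z * p ^ s.card ≤ Nat.card E := by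
  classical
  induction hd : Nat.card E - Nat.card Z using Nat.strong_induction_on generalizing Z with
  | _ d ih =>
    subst hd
    by_cases hEZ : E ≤ Z
    · exact ⟨∅, by simp, hEZ.trans le_sup_left, by simpa using Subgroup.card_le_of_le hZE⟩
    obtain ⟨x, hxE, hxZ⟩ := SetLike.not_le_iff_exists.mp hEZ
    have hle : Z ⊔ Subgroup.zpowers x ≤ E := sup_le hZE (Subgroup.zpowers_le.mpr hxE)
    have h1 := card_mul_le_card_of_mem (le_sup_left : Z ≤ Z ⊔ Subgroup.zpowers x)
      (hE.to_le hle) (le_sup_right (a := Z) (Subgroup.mem_zpowers x)) hxZ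
    have hp := (Fact.out : p.Prime).one_lt
    have hpos : 0 < Nat.card Z := Nat.card_pos
    have hlt : Nat.card Z < Nat.card (Z ⊔ Subgroup.zpowers x : Subgroup G) :=
      (lt_mul_of_one_lt_right hpos hp).trans_le h1
    obtain ⟨s, hsE, hEs, hs⟩ := ih _ (by have := Subgroup.card_le_of_le hle; omega) _ hle rfl
    refine ⟨insert x s, ?_, hEs.trans (sup_le (sup_le le_sup_left ?_) ?_), ?_⟩
    · rw [Finset.coe_insert]
      exact Set.insert_subset hxE hsE
    · exact (Subgroup.zpowers_le.mpr (Subgroup.subset_closure (by simp))).trans le_sup_right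
    · exact le_trans (Subgroup.closure_mono (by simp)) le_sup_right
    · calc Nat.card Z * p ^ (insert x s).card ≤ Nat.card Z * p ^ (s.card + 1) :=
            Nat.mul_le_mul_left _ (Nat.pow_le_pow_right (by omega) (Finset.card_insert_le _ _))
        _ = Nat.card Z * p * p ^ s.card := by ring
        _ ≤ Nat.card (Z ⊔ Subgroup.zpowers x : Subgroup G) * p ^ s.card :=
            Nat.mul_le_mul_right _ h1
        _ ≤ _ := hs

/-- In a p-group G, an extraspecial subgroup E with [G, E] ≤ Z(E) satisfies G = E C_G(E). -/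
theorem result {G : Type*} [Group G] [Finite G] {p : ℕ} [Fact p.Prime] (hG : IsPGroup p G) (E : Subgroup G) (hE : Cfsg.IsExtraspecial p E) (h : ⁅(⊤ : Subgroup G), E⁆ ≤ E ⊓ Subgroup.centralizer (E : Set G)) : E ⊔ Subgroup.centralizer (E : Set G) = ⊤ := by
  classical
  set C := Subgroup.centralizer (E : Set G) with hC
  set Z := E ⊓ C with hZdef
  have hZmap : Z = (Subgroup.center E).map E.subtype := by
    ext x
    constructor
    · intro hx
      refine ⟨⟨x, hx.1⟩, Subgroup.mem_center_iff.mpr fun y => Subtype.ext ?_, rfl⟩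
      exact hx.2 y y.2
    · rintro ⟨y, hy, rfl⟩
      exact ⟨y.2, fun z hz => congrArg Subtype.val (Subgroup.mem_center_iff.mp hy ⟨z, hz⟩)⟩
  have hZc : Nat.card Z = p := by
    rw [hZmap, Subgroup.card_map_of_injective E.subtype_injective]
    exact hE.2
  obtain ⟨s, hsE, hEs, hs⟩ := exists_gens E Z (hG.to_subgroup E) inf_le_left
  have hmem : ∀ (g : G), ∀ x ∈ E, ⁅g, x⁆ ∈ Z := fun g x hx =>
    h (Subgroup.commutator_mem_commutator (Subgroup.mem_top g) hx)
  have hCi : C.index ≤ p ^ s.card := by
    rw [Subgroup.index_eq_card]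
    let f : G → (s → Z) := fun g x => ⟨⁅g, (x : G)⁆, hmem g x (hsE x.2)⟩
    have hle : Nat.card (G ⧸ C) ≤ Nat.card (s → Z) := by
      refine Nat.card_le_card_of_injective (fun q => f (Quotient.out q)) ?_
      intro q₁ q₂ hq
      rw [← QuotientGroup.out_eq' q₁, ← QuotientGroup.out_eq' q₂, QuotientGroup.eq]
      have hq' : ∀ x ∈ s, (Quotient.out q₁) * x * (Quotient.out q₁)⁻¹ =
          (Quotient.out q₂) * x * (Quotient.out q₂)⁻¹ := fun x hx => by
        have := congrArg Subtype.val (congrFun hq ⟨x, hx⟩)
        simpa only [f, commutatorElement_def, mul_left_inj] using this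
      generalize Quotient.out q₁ = a at hq' ⊢
      generalize Quotient.out q₂ = b at hq' ⊢
      have hk : ∀ x ∈ E, x * (a⁻¹ * b) = a⁻¹ * b * x := by
        have hsub : Z ⊔ Subgroup.closure (s : Set G) ≤
            Subgroup.centralizer ({a⁻¹ * b} : Set G) := by
          refine sup_le (fun y hy => ?_) ((Subgroup.closure_le _).mpr fun y hy => ?_)
          · rw [Subgroup.mem_centralizer_singleton_iff]
            have hZn : Z.Normal := ⟨fun z hz g => by
              have : g * z * g⁻¹ = ⁅g, z⁆ * z := by rw [commutatorElement_def]; group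
              rw [this]
              exact Z.mul_mem (hmem g z hz.1) hz⟩
            exact (Subgroup.mem_center_iff.mp
              (le_center_of_normal_card_prime hG Z hZc hy) _).symm
          · rw [SetLike.mem_coe, Subgroup.mem_centralizer_singleton_iff]
            calc y * (a⁻¹ * b) = a⁻¹ * (a * y * a⁻¹) * b := by group
              _ = a⁻¹ * b * y := by rw [hq' y hy]; group
        intro x hx
        exact Subgroup.mem_centralizer_singleton_iff.mp (hsub (hEs hx))
      exact hk
    have hcard : Nat.card (s → Z) = p ^ s.card := by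
      rw [Nat.card_fun, hZc, Nat.card_eq_fintype_card, Fintype.card_coe]
    exact hcard ▸ hle
  refine Subgroup.eq_top_of_le_card _ ?_
  have hCn : E ≤ Subgroup.normalizer (C : Set G) := by
    intro e he
    refine Subgroup.mem_normalizer_iff.mpr ?_
    have hEn : E.Normal := ⟨fun z hz g => by
      have : g * z * g⁻¹ = ⁅g, z⁆ * z := by rw [commutatorElement_def]; group
      rw [this]
      exact E.mul_mem (hmem g z hz).1 hz⟩
    intro x
    exact ⟨fun hx => (inferInstance : C.Normal).conj_mem x hx e,
      fun hx => by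
        have := (inferInstance : C.Normal).conj_mem _ hx e⁻¹
        simpa [mul_assoc] using this⟩
  have hidx : C.relIndex (E ⊔ C) = C.relIndex E := by
    rw [sup_comm]
    have hEn : E.Normal := ⟨fun z hz g => by
      have : g * z * g⁻¹ = ⁅g, z⁆ * z := by rw [commutatorElement_def]; group
      rw [this]
      exact E.mul_mem (hmem g z hz).1 hz⟩
    exact Subgroup.relIndex_sup_left E C
  have h2 : p ^ s.card ≤ C.relIndex E := by
    rw [← Subgroup.inf_relIndex_right, inf_comm, ← hZdef]
    have h3 : Nat.card Z * Z.relIndex E = Nat.card E := by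
      rw [← Nat.card_congr (Subgroup.subgroupOfEquivOfLe (inf_le_left : Z ≤ E)).toEquiv]
      exact Subgroup.card_mul_index _
    rw [← h3] at hs
    exact Nat.le_of_mul_le_mul_left hs Nat.card_pos
  calc Nat.card G = Nat.card C * C.index := C.card_mul_index.symm
    _ ≤ Nat.card C * C.relIndex (E ⊔ C) := Nat.mul_le_mul_left _ (hCi.trans (hidx ▸ h2))
    _ = Nat.card (E ⊔ C : Subgroup G) := by
        rw [← Nat.card_congr (Subgroup.subgroupOfEquivOfLe (le_sup_right : C ≤ E ⊔ C)).toEquiv]
        exact Subgroup.card_mul_index _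

end Cfsg.Agent.S0110
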