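import Cfsg.Statements.S0115
import Cfsg.Agent.Lib.PGroups.MaximalClass

set_option autoImplicit false
open Cfsg

namespace Cfsg.Agent.S0115

open Cfsg.Agent.Lib.PGroups

/-- A 2-group of order 2^n, n ≥ 3, is of maximal class exactly when its commutator quotient is a Klein four-group. -/
theorem result {X : Type*} [Group X] [Finite X] (n : ℕ) (hn : 3 ≤ n) (hX : Nat.card X = 2 ^ n) : Group.nilpotencyClass X = n - 1 ↔ IsKleinFour (X ⧸ commutator X) := by
  have : Fact (Nat.Prime 2) := ⟨Nat.prime_two⟩
  have hG : IsPGroup 2 X := IsPGroup.of_card hX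
  have := hG.isNilpotent
  constructor
  · intro hc
    have hidx : (commutator X).index = 4 :=
      (index_commutator_of_class (p := 2) n (by omega) hX hc).trans (by norm_num)
    have hcard : Nat.card (X ⧸ commutator X) = 4 := by rw [← Subgroup.index_eq_card, hidx]
    have hncyc : ¬ IsCyclic (X ⧸ commutator X) := fun h => by
      have hX' := isCyclic_of_cyclic_quotient_commutator (p := 2) hG
      have := nilpotencyClass_le_one_of_comm hX'.isMulCommutative
      omega
    have : Nontrivial (X ⧸ commutator X) := Finite.one_lt_card_iff_nontrivial.mp (by omega)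
    refine ⟨hcard, (Monoid.exponent_eq_prime_iff Nat.prime_two).mpr fun g hg => ?_⟩
    obtain ⟨k, hk, ho⟩ := (Nat.dvd_prime_pow Nat.prime_two).mp
      ((orderOf_dvd_natCard g).trans (dvd_of_eq (hcard.trans (by norm_num : (4 : ℕ) = 2 ^ 2))))
    rcases k with _ | _ | k
    · exact absurd (orderOf_eq_one_iff.mp (by simpa using ho)) hg
    · simpa using ho
    · obtain rfl : k = 0 := by omega
      exact absurd (isCyclic_of_orderOf_eq_card g (by rw [ho, hcard]; norm_num)) hncyc
  · intro h
    refine class_of_index_commutator n (by omega) hX ?_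
    rw [Subgroup.index_eq_card, h.card_four]

end Cfsg.Agent.S0115
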