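import Cfsg.Statements.S0121
import Mathlib.GroupTheory.PGroup

set_option autoImplicit false
open Cfsg

namespace Cfsg.Agent.S0121

/-- A p'-automorphism of a p-group acting trivially on a critical subgroup is trivial. -/
theorem result {G : Type*} [Group G] [Finite G] {p : ℕ} [Fact p.Prime] (hG : IsPGroup p G) (H : Subgroup G) (hH : H.Characteristic) (h1 : (frattini H).map H.subtype ≤ Subgroup.centralizer (H : Set G)) (h2 : ⁅H, (⊤ : Subgroup G)⁆ ≤ H ⊓ Subgroup.centralizer (H : Set G)) (h3 : Subgroup.centralizer (H : Set G) ≤ H) (a : MulAut G) (ha : Nat.Coprime (orderOf a) p) (h : ∀ x ∈ H, a x = x) : a = 1 := by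
  refine MulEquiv.ext fun g => ?_
  have hn := Subgroup.normal_of_characteristic (H := H)
  set d := g⁻¹ * a g with hd
  have hdC : d ∈ Subgroup.centralizer (H : Set G) := by
    intro y hy
    have h1 : a (g * y * g⁻¹) = g * y * g⁻¹ := h _ (hn.conj_mem y hy g)
    rw [map_mul, map_mul, map_inv, h y hy] at h1
    have h2 : a g * y = g * y * g⁻¹ * a g := by rw [← h1]; group
    calc y * d = g⁻¹ * (g * y * g⁻¹ * a g) := by rw [hd]; group
      _ = d * y := by rw [← h2, hd]; group
  have had : a d = d := h d (h3 hdC)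
  have hag : a g = g * d := by rw [hd]; group
  have hk : ∀ k : ℕ, (a ^ k) g = g * d ^ k := by
    intro k
    induction k with
    | zero => simp
    | succ k ih =>
        rw [pow_succ', MulAut.mul_apply, ih, map_mul, map_pow, had, hag, pow_succ', mul_assoc]
  have h0 := hk (orderOf a)
  rw [pow_orderOf_eq_one, MulAut.one_apply, eq_comm, mul_eq_left] at h0
  obtain ⟨k, hk'⟩ := hG d
  have hd1 : orderOf d ∣ Nat.gcd (orderOf a) (p ^ k) :=
    Nat.dvd_gcd (orderOf_dvd_of_pow_eq_one h0) (orderOf_dvd_of_pow_eq_one hk')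
  rw [Nat.Coprime.gcd_eq_one (ha.pow_right k), Nat.dvd_one, orderOf_eq_one_iff] at hd1
  simp [hag, hd1]

end Cfsg.Agent.S0121
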