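import Cfsg.Statements.S0123
import Cfsg.Agent.Lib.PGroupTheory.Regular

set_option autoImplicit false
open Cfsg

namespace Cfsg.Agent.S0123

open Cfsg.Agent.Lib.PGroupTheory

/-- For a p-group of small class relative to p (class ≤ 2 with p odd, or class ≤ 3 with p > 3) whose derived subgroup is generated by elements of order dividing p, the p-th power map is multiplicative. -/
theorem result {R : Type*} [Group R] [Finite R] {p : ℕ} [Fact p.Prime] (hR : IsPGroup p R) (hcl : (p ≠ 2 ∧ ⁅commutator R, (⊤ : Subgroup R)⁆ = ⊥) ∨ (3 < p ∧ ⁅⁅commutator R, (⊤ : Subgroup R)⁆, (⊤ : Subgroup R)⁆ = ⊥)) (hder : commutator R ≤ Subgroup.closure {x : R | x ^ p = 1}) (x y : R) : (x * y) ^ p = x ^ p * y ^ p := by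
  have hreg : Cfsg.IsRegularPGroup p R := by
    refine isRegularPGroup_of_lowerCentralSeries_eq_bot hR ?_
    rcases hcl with ⟨hp2, h2⟩ | ⟨hp3, h3⟩
    · have hp := (Fact.out : p.Prime).two_le
      refine le_bot_iff.mp
        (((⊤ : Subgroup R).lowerCentralSeries_antitone (show 2 ≤ p - 1 by omega)).trans ?_)
      simp only [Subgroup.lowerCentralSeries_succ, Subgroup.lowerCentralSeries_zero]
      rw [commutator_def] at h2
      exact h2.le
    · have hp5 : 5 ≤ p := by
        rcases Nat.lt_or_ge p 5 with h | h
        · have h4 : p = 4 := by omega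
          exact absurd (h4 ▸ (Fact.out : p.Prime)) (by norm_num)
        · exact h
      refine le_bot_iff.mp
        (((⊤ : Subgroup R).lowerCentralSeries_antitone (show 3 ≤ p - 1 by omega)).trans ?_)
      simp only [Subgroup.lowerCentralSeries_succ, Subgroup.lowerCentralSeries_zero]
      rw [commutator_def] at h3
      exact h3.le
  obtain ⟨c, hc, hxy⟩ := (isRegularPGroup_iff.mp hreg).2 1 x y
  have hexp : ∀ z ∈ commutator R, z ^ p ^ 1 = 1 := fun z hz =>
    pow_eq_one_of_mem_closure hR ((isRegularPGroup_iff.mp hreg).2 1)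
      (by simpa only [pow_one] using hder hz)
  rw [powerClosure_eq_bot (fun z hz => hexp z (by
    rw [commutator_def]
    exact Subgroup.commutator_mono le_top le_top hz)), Subgroup.mem_bot] at hc
  simpa [hc] using hxy

end Cfsg.Agent.S0123
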