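import Cfsg.Statements.S0124
import Cfsg.Agent.Lib.PGroupTheory.Regular

set_option autoImplicit false
open Cfsg

namespace Cfsg.Agent.S0124

open Cfsg.Agent.Lib.PGroupTheory

/-- For p > 3, in a p-group of class at most three the elements of order dividing p generate a subgroup of exponent dividing p. -/
theorem result {R : Type*} [Group R] [Finite R] {p : ℕ} [Fact p.Prime] (hp : 3 < p) (hR : IsPGroup p R) (hcl : ⁅⁅commutator R, (⊤ : Subgroup R)⁆, (⊤ : Subgroup R)⁆ = ⊥) (g : R) (hg : g ∈ Subgroup.closure {x : R | x ^ p = 1}) : g ^ p = 1 := by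
  have hreg : Cfsg.IsRegularPGroup p R := by
    refine isRegularPGroup_of_lowerCentralSeries_eq_bot hR ?_
    refine le_bot_iff.mp
      (((⊤ : Subgroup R).lowerCentralSeries_antitone (show 3 ≤ p - 1 by omega)).trans ?_)
    simp only [Subgroup.lowerCentralSeries_succ, Subgroup.lowerCentralSeries_zero]
    rw [commutator_def] at hcl
    exact hcl.le
  have := pow_eq_one_of_mem_closure hR ((isRegularPGroup_iff.mp hreg).2 1) (g := g)
    (by simpa only [pow_one] using hg)
  simpa using this

end Cfsg.Agent.S0124
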