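import Cfsg.Statements.S0125
import Mathlib.GroupTheory.SchurZassenhaus
import Mathlib.GroupTheory.Transfer

set_option autoImplicit false
open Cfsg

namespace Cfsg.Agent.S0125

/-- The centralizer of a self-centralizing normal subgroup A of a Sylow p-subgroup is the direct product of A with a normal p'-subgroup. -/
theorem result {G : Type*} [Group G] [Finite G] {p : ℕ} [Fact p.Prime] (R : Sylow p G) (A : Subgroup G) (hAR : A ≤ (R : Subgroup G)) (hAn : (R : Subgroup G) ≤ Subgroup.normalizer (A : Set G)) (hC : (R : Subgroup G) ⊓ Subgroup.centralizer (A : Set G) = A) : ∃ H : Subgroup G, H ≤ Subgroup.centralizer (A : Set G) ∧ Nat.Coprime (Nat.card H) p ∧ Subgroup.centralizer (A : Set G) ≤ Subgroup.normalizer (H : Set G) ∧ H ⊓ A = ⊥ ∧ H ⊔ A = Subgroup.centralizer (A : Set G) := by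
  classical
  set C := Subgroup.centralizer (A : Set G) with hC'
  have hAc : IsMulCommutative A := by
    rw [← Subgroup.le_centralizer_iff_isMulCommutative]
    exact hC.ge.trans inf_le_right
  have hAC : A ≤ C := hC.ge.trans inf_le_right
  -- a Sylow subgroup of `C` is conjugate under `N(A)` into `R ⊓ C = A`
  set N := Subgroup.normalizer (A : Set G) with hN
  have hCN : C ≤ N := fun x hx => Subgroup.centralizer_le_normalizer _ hx
  have hcop : ¬ p ∣ (A.subgroupOf C).index := by
    obtain ⟨T, hT⟩ := IsPGroup.exists_le_sylow (p := p) (P := A.subgroupOf C)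
      ((R.2.to_le hAR).comap_subtype)
    suffices hTA : (T : Subgroup C) = A.subgroupOf C by
      rw [← hTA]
      exact T.not_dvd_index
    let T' := (T : Subgroup C).map C.subtype
    have hT'C : T' ≤ C := Subgroup.map_subtype_le _
    obtain ⟨S, hS⟩ := IsPGroup.exists_le_sylow (p := p) (P := T'.subgroupOf N)
      ((T.2.map _).comap_subtype)
    obtain ⟨n, hn⟩ := MulAction.exists_smul_eq N S (R.subtype hAn)
    have hle : T'.map (MulAut.conj (n : G)).toMonoidHom ≤ A := by
      rintro _ ⟨t, ht, rfl⟩
      rw [← hC]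
      constructor
      · have h1 : n * (⟨t, hCN (hT'C ht)⟩ : N) * n⁻¹ ∈ ((R.subtype hAn : Sylow p N) : Subgroup N) := by
          rw [← hn, Sylow.coe_subgroup_smul, Subgroup.mem_pointwise_smul_iff_inv_smul_mem]
          simp only [MulAut.smul_def, MulAut.inv_apply, MulAut.conj_symm_apply]
          group
          exact hS ht
        exact h1
      · intro y hy
        have h1 := (Subgroup.mem_normalizer_iff''.mp n.2 y).mp hy
        have h2 := hT'C ht _ h1
        show y * ((n : G) * t * (n : G)⁻¹) = (n : G) * t * (n : G)⁻¹ * y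
        calc y * ((n : G) * t * (n : G)⁻¹) = n * ((n : G)⁻¹ * y * n * t) * (n : G)⁻¹ := by group
          _ = _ := by rw [h2]; group
    refine (Subgroup.eq_of_le_of_card_ge hT ?_).symm
    have h3 := Subgroup.card_le_of_le hle
    rw [Subgroup.card_map_of_injective (MulAut.conj (n : G)).injective,
      Subgroup.card_map_of_injective C.subtype_injective] at h3
    rwa [Nat.card_congr (Subgroup.subgroupOfEquivOfLe hAC).toEquiv]
  have hAn' : (A.subgroupOf C).Normal := by
    refine (Subgroup.normal_subgroupOf_iff hAC).mpr fun h k hh hk => ?_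
    have : k * h = h * k := (hk h hh).symm
    rw [this, mul_inv_cancel_right]
    exact hh
  obtain ⟨n, hn⟩ := IsPGroup.iff_card.mp (R.2.to_le hAR)
  have hcard : Nat.card (A.subgroupOf C) = p ^ n := by
    rw [Nat.card_congr (Subgroup.subgroupOfEquivOfLe hAC).toEquiv, hn]
  obtain ⟨K, hK⟩ := Subgroup.exists_right_complement'_of_coprime (N := A.subgroupOf C)
    (by rw [hcard]; exact Nat.Coprime.pow_left _ ((Fact.out : p.Prime).coprime_iff_not_dvd.mpr hcop))
  have hKC : K.map C.subtype ≤ C := Subgroup.map_subtype_le K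
  have hsup : A.subgroupOf C ⊔ K = ⊤ := hK.sup_eq_top
  have hKn : K.Normal := by
    refine Subgroup.normalizer_eq_top_iff.mp (top_le_iff.mp (hsup ▸ sup_le ?_ ?_))
    · intro a ha
      refine Subgroup.mem_normalizer_iff.mpr fun x => ?_
      have : a * x * a⁻¹ = x := by
        apply Subtype.ext
        simp only [Subgroup.coe_mul, Subgroup.coe_inv]
        rw [x.2 a ha, mul_inv_cancel_right]
      rw [this]
    · exact Subgroup.le_normalizer
  refine ⟨K.map C.subtype, hKC, ?_, ?_, ?_, ?_⟩
  · rw [Subgroup.card_map_of_injective C.subtype_injective]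
    have : Nat.card K = (A.subgroupOf C).index := by
      rw [← hK.symm.index_eq_card]
    rw [this]
    exact Nat.Coprime.symm ((Fact.out : p.Prime).coprime_iff_not_dvd.mpr hcop)
  · refine (Subgroup.normal_subgroupOf_iff_le_normalizer hKC).mp ?_
    rwa [Subgroup.subgroupOf, Subgroup.comap_map_eq_self_of_injective C.subtype_injective]
  · rw [← Subgroup.map_subgroupOf_eq_of_le hAC, ← Subgroup.map_inf _ _ _ C.subtype_injective,
      inf_comm, hK.disjoint.eq_bot, Subgroup.map_bot]
  · rw [← Subgroup.map_subgroupOf_eq_of_le hAC, ← Subgroup.map_sup, sup_comm, hsup,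
      ← MonoidHom.range_eq_map, Subgroup.range_subtype]

end Cfsg.Agent.S0125
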