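import Cfsg.Statements.S0128
import Cfsg.Agent.Lib.PGroupTheory.RankTwoLarge

set_option autoImplicit false
open Cfsg

namespace Cfsg.Agent.S0128

open Cfsg.Agent.Lib.PGroupTheory

/-- For p > 3, in a p-group of p-rank at most 2 the elements of order dividing p generate a subgroup of exponent dividing p. -/
theorem result {R : Type*} [Group R] [Finite R] {p : ℕ} [Fact p.Prime] (hp : 3 < p) (hR : IsPGroup p R) (hrk : ∀ E : Subgroup R, Cfsg.IsElementaryAbelian p E → Nat.card E ≤ p ^ 2) (g : R) (hg : g ∈ Subgroup.closure {x : R | x ^ p = 1}) : g ^ p = 1 := by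
  have hp5 : 5 ≤ p := by
    have h4 : p ≠ 4 := fun h => absurd (h ▸ (Fact.out : p.Prime)) (by norm_num)
    omega
  have hpr : Cfsg.PRankLE p 2 R := fun A hA hA' => hrk A ⟨hA, hA'⟩
  have hreg := (isRegularPGroup_iff.1 (RankTwo.isRegularPGroup_of_prankLE hp5 R hR hpr)).2 1
  have := pow_eq_one_of_mem_closure hR hreg (g := g) (by simpa only [pow_one] using hg)
  simpa only [pow_one] using this

end Cfsg.Agent.S0128
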