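import Cfsg.Statements.S0131
import Cfsg.Agent.Lib.Transfer.PResidual

set_option autoImplicit false
open Cfsg

namespace Cfsg.Agent.S0131

open Cfsg.Agent.Lib.Transfer.PResidual
open scoped commutatorElement

/-- P/P' has a normal complement in G exactly when the focal subgroup G' ∩ P is as small as possible, namely P'. -/
theorem result {G : Type*} [Group G] [Finite G] {p : ℕ} [Fact p.Prime] (P : Sylow p G) : (∃ N : Subgroup G, N.Normal ∧ N ⊓ (P : Subgroup G) = ⁅(P : Subgroup G), (P : Subgroup G)⁆ ∧ N ⊔ (P : Subgroup G) = ⊤) ↔ commutator G ⊓ (P : Subgroup G) = ⁅(P : Subgroup G), (P : Subgroup G)⁆ := by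
  constructor
  · rintro ⟨N, hN, hinf, hsup⟩
    have hG'N : commutator G ⊔ N ⊓ (P : Subgroup G) ≤ N := by
      refine sup_le ?_ inf_le_left
      rw [commutator_def, Subgroup.commutator_le]
      intro a _ b _
      refine (QuotientGroup.eq_one_iff (N := N) _).mp ?_
      show QuotientGroup.mk' N ⁅a, b⁆ = 1
      rw [map_commutatorElement, commutatorElement_eq_one_iff_mul_comm]
      obtain ⟨n₁, h₁, x, hx, rfl⟩ := Subgroup.mem_sup_of_normal_left.mp (hsup ▸ Subgroup.mem_top a)
      obtain ⟨n₂, h₂, y, hy, rfl⟩ := Subgroup.mem_sup_of_normal_left.mp (hsup ▸ Subgroup.mem_top b)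
      have h1 : QuotientGroup.mk' N n₁ = 1 := (QuotientGroup.eq_one_iff _).mpr h₁
      have h2 : QuotientGroup.mk' N n₂ = 1 := (QuotientGroup.eq_one_iff _).mpr h₂
      rw [map_mul, map_mul, h1, h2, one_mul, one_mul, ← commutatorElement_eq_one_iff_mul_comm,
        ← map_commutatorElement]
      refine (QuotientGroup.eq_one_iff _).mpr ?_
      have := Subgroup.commutator_mem_commutator hx hy
      rw [← hinf] at this
      exact this.1
    refine le_antisymm ?_ (le_inf ?_ ?_)
    · rw [← hinf]
      exact inf_le_inf_right _ (le_sup_left.trans hG'N)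
    · exact Subgroup.commutator_mono le_top le_top
    · rw [Subgroup.commutator_le]
      intro a ha b hb
      rw [commutatorElement_def]
      exact mul_mem (mul_mem (mul_mem ha hb) (inv_mem ha)) (inv_mem hb)
  · intro h
    let f := QuotientGroup.mk' (commutator G)
    let R := pResidual p G ⊔ commutator G
    refine ⟨R, ?_, ?_, ?_⟩
    · exact ⟨fun x hx g => by
        have : g * x * g⁻¹ * x⁻¹ ∈ R := Subgroup.mem_sup_right
          (Subgroup.commutator_mem_commutator (Subgroup.mem_top g) (Subgroup.mem_top x))
        simpa using R.mul_mem this hx⟩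
    · refine le_antisymm ?_ ?_
      · intro x hx
        rw [← h]
        refine ⟨?_, hx.2⟩
        obtain ⟨r, hr, c, hc, rfl⟩ := Subgroup.mem_sup_of_normal_right.mp hx.1
        have hfc : f c = 1 := (QuotientGroup.eq_one_iff _).mpr hc
        have hfr : f r ∈ pResidual p (G ⧸ commutator G) :=
          map_pResidual_le f ⟨r, hr, rfl⟩
        have hab : ∀ a b : G ⧸ commutator G, a * b = b * a := fun a b => by
          obtain ⟨a, rfl⟩ := QuotientGroup.mk'_surjective _ a
          obtain ⟨b, rfl⟩ := QuotientGroup.mk'_surjective _ b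
          rw [← commutatorElement_eq_one_iff_mul_comm, ← map_commutatorElement]
          exact (QuotientGroup.eq_one_iff _).mpr
            (Subgroup.commutator_mem_commutator (Subgroup.mem_top a) (Subgroup.mem_top b))
        have hcop : (orderOf (f r)).Coprime p := by
          refine Subgroup.closure_induction (p := fun y _ => (orderOf y).Coprime p) (fun y hy => hy)
            (by simp) ?_ (fun y _ hy => by rwa [orderOf_inv]) hfr
          intro a b _ _ ha hb
          exact Nat.Coprime.coprime_dvd_left (Commute.orderOf_mul_dvd_lcm (hab a b))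
            (Nat.Coprime.coprime_dvd_left (Nat.lcm_dvd_mul _ _) (ha.mul_left hb))
        have hpow : ∃ k, orderOf (f r) ∣ p ^ k := by
          obtain ⟨k, hk⟩ := P.2 ⟨r * c, hx.2⟩
          refine ⟨k, orderOf_dvd_of_pow_eq_one ?_⟩
          have hk' : (r * c) ^ p ^ k = 1 := congrArg Subtype.val hk
          have := congrArg f hk'
          rwa [map_pow, map_mul, hfc, mul_one, map_one] at this
        obtain ⟨k, hk⟩ := hpow
        have h1 : f (r * c) = 1 := by
          rw [map_mul, hfc, mul_one, ← orderOf_eq_one_iff]
          exact Nat.eq_one_of_dvd_coprimes (hcop.pow_right k) dvd_rfl hk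
        exact (QuotientGroup.eq_one_iff _).mp h1
      · rw [← h]
        exact inf_le_inf_right _ le_sup_right
    · exact top_le_iff.mp ((sup_sylow_eq_top P).ge.trans (sup_le_sup_right le_sup_left _))

end Cfsg.Agent.S0131
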