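import Cfsg.Statements.S0158
import Cfsg.Agent.Lib.Characters.Indicator

set_option autoImplicit false
open Cfsg

namespace Cfsg.Agent.S0158

/-- The Frobenius–Schur indicator of an irreducible complex representation of a finite group — the average over s of the character at s * s — is 0, 1 or −1, and it vanishes exactly when some character value is not real. -/
theorem result {G : Type*} [Group G] [Fintype G] {V : Type*} [AddCommGroup V] [Module ℂ V] [FiniteDimensional ℂ V] (ρ : Representation ℂ G V) [ρ.IsIrreducible] : ((Nat.card G : ℂ)⁻¹ * ∑ s : G, ρ.character (s * s) = 0 ∨ (Nat.card G : ℂ)⁻¹ * ∑ s : G, ρ.character (s * s) = 1 ∨ (Nat.card G : ℂ)⁻¹ * ∑ s : G, ρ.character (s * s) = -1) ∧ ((Nat.card G : ℂ)⁻¹ * ∑ s : G, ρ.character (s * s) = 0 ↔ ∃ s : G, (ρ.character s).im ≠ 0) := by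
  have hi := Cfsg.Agent.Lib.Characters.Indicator.indicator_spec (Cfsg.Agent.Lib.Characters.Basic.irrChar ρ)
  by_cases h : ∀ g, (ρ.character g).im = 0
  · have h1 := hi.1 h
    refine ⟨Or.inr h1, ?_, fun ⟨s, hs⟩ => absurd (h s) hs⟩
    intro h0
    exfalso
    simp only [Cfsg.Agent.Lib.Characters.Basic.coe_irrChar, h0] at h1
    norm_num at h1
  · exact ⟨Or.inl (hi.2 h), fun _ => not_forall.mp h, fun _ => hi.2 h⟩

end Cfsg.Agent.S0158
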