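import Cfsg.Statements.S0163
import Cfsg.Agent.Lib.Brauer.Monomial

set_option autoImplicit false
open Cfsg

namespace Cfsg.Agent.S0163

/-- Brauer's induction Theorem: every character of a finite group is a ℤ-linear combination of functions induced from linear characters (homomorphisms to ℂˣ) of elementary subgroups. -/
theorem result {G : Type*} [Group G] [Fintype G] (χ : G → ℂ) (hχ : Cfsg.IsCharacter G χ) : ∃ l : List ((E : Subgroup G) × ((E →* ℂˣ) × ℤ)), (∀ t ∈ l, ∃ p : ℕ, p.Prime ∧ Cfsg.IsElementary p t.1) ∧ χ = (l.map fun t => (t.2.2 : ℂ) • Cfsg.indFun t.1 (fun e => (t.2.1 e : ℂ))).sum := by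
  have h := Cfsg.Agent.Lib.Brauer.Monomial.char_mem hχ
  clear hχ
  induction h using Submodule.span_induction with
  | mem x hx =>
    obtain ⟨H, hH, l, rfl⟩ := hx
    refine ⟨[⟨H, (l.toHomUnits, 1)⟩], ?_, by simp⟩
    intro t ht
    rw [List.mem_singleton] at ht
    subst ht
    exact hH
  | zero => exact ⟨[], by simp, by simp⟩
  | add x y _ _ h1 h2 =>
    obtain ⟨l1, hl1, rfl⟩ := h1
    obtain ⟨l2, hl2, rfl⟩ := h2
    refine ⟨l1 ++ l2, fun t ht => (List.mem_append.1 ht).elim (hl1 t) (hl2 t), ?_⟩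
    rw [List.map_append, List.sum_append]
  | smul r x _ h =>
    obtain ⟨l, hl, rfl⟩ := h
    refine ⟨l.map fun t => ⟨t.1, (t.2.1, r * t.2.2)⟩, fun t ht => ?_, ?_⟩
    · obtain ⟨s, hs, rfl⟩ := List.mem_map.1 ht
      exact hl s hs
    · rw [List.map_map, List.smul_sum, List.map_map]
      congr 1
      refine List.map_congr_left fun t _ => ?_
      simp only [Function.comp_apply, Int.cast_mul, mul_smul]
      exact (Int.cast_smul_eq_zsmul ℂ r _).symm

end Cfsg.Agent.S0163
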