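import Cfsg.Statements.S0168
import Cfsg.Agent.Lib.Characters.Basic
import Cfsg.Agent.Lib.Induced.Integral
import Mathlib
-- import your own Cfsg.Agent.* helpers here

set_option autoImplicit false
open Cfsg
open scoped ComplexConjugate

namespace Cfsg.Agent.S0168

/-- The Burnside–Brauer Theorem. Let χ be the character of a faithful complex representation of a finite group, taking m distinct values. Then every irreducible character has nonzero inner product with χ ^ i for some i < m. -/
theorem result {G : Type*} [Group G] [Fintype G] {V : Type*} [AddCommGroup V] [Module ℂ V] [FiniteDimensional ℂ V] (ρ : Representation ℂ G V) (hfaithful : Function.Injective ρ) (ψ : G → ℂ) (hψ : Cfsg.IsIrrCharacter G ψ) : ∃ i : ℕ, i < Nat.card (Set.range ρ.character) ∧ Cfsg.classInner (fun g => ρ.character g ^ i) ψ ≠ 0 := by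
  classical
  by_contra hcon
  push Not at hcon
  set A : Finset ℂ := (Finset.univ.image ρ.character).erase (ρ.character 1) with hA
  have hcard : A.card + 1 = Nat.card (Set.range ρ.character) := by
    rw [hA, Finset.card_erase_add_one (Finset.mem_image_of_mem _ (Finset.mem_univ _)),
      Nat.card_coe_set_eq, ← Set.ncard_coe_finset, Finset.coe_image, Finset.coe_univ,
      Set.image_univ]
  let P : Polynomial ℂ := ∏ a ∈ A, (Polynomial.X - Polynomial.C a)
  have hdeg : P.natDegree = A.card := Polynomial.natDegree_finset_prod_X_sub_C_eq_card A id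
  have hG : (Nat.card G : ℂ) ≠ 0 := Cfsg.Agent.Lib.Induced.Basic.natCard_ne_zero
  have hzero : ∑ g : G, P.eval (ρ.character g) * conj (ψ g) = 0 := by
    simp only [Polynomial.eval_eq_sum_range, Finset.sum_mul, mul_assoc]
    rw [Finset.sum_comm]
    refine Finset.sum_eq_zero fun i hi => ?_
    rw [Finset.mem_range, hdeg] at hi
    have := hcon i (by omega)
    rw [Cfsg.classInner, mul_eq_zero, inv_eq_zero] at this
    rw [← Finset.mul_sum, this.resolve_left hG, mul_zero]
  have hone : ∀ g : G, g ≠ 1 → P.eval (ρ.character g) = 0 := by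
    intro g hg
    rw [Polynomial.eval_prod]
    refine Finset.prod_eq_zero (i := ρ.character g)
      (Finset.mem_erase.mpr ⟨fun h => hg (hfaithful ?_),
        Finset.mem_image_of_mem _ (Finset.mem_univ _)⟩) (by simp)
    rw [Representation.char_one] at h
    rw [map_one]
    exact Cfsg.Agent.Lib.Induced.Integral.eq_id_of_character_eq ρ h
  rw [Finset.sum_eq_single (1 : G) (fun g _ hg => by rw [hone g hg, zero_mul])
    (fun h => absurd (Finset.mem_univ _) h), mul_eq_zero] at hzero
  rcases hzero with h | h
  · rw [Polynomial.eval_prod, Finset.prod_eq_zero_iff] at h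
    obtain ⟨a, ha, ha'⟩ := h
    simp only [Polynomial.eval_sub, Polynomial.eval_X, Polynomial.eval_C, sub_eq_zero] at ha'
    exact (Finset.mem_erase.mp ha).1 ha'.symm
  · rw [Cfsg.Agent.Lib.Characters.Basic.conj_apply_one (Cfsg.Agent.Lib.Characters.Basic.IsCharacter_of_isIrrCharacter hψ)] at h
    exact Cfsg.Agent.Lib.Characters.Basic.apply_one_ne_zero ⟨ψ, hψ⟩ h

end Cfsg.Agent.S0168
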