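import Cfsg.Statements.S0172
import Mathlib
-- import your own Cfsg.Agent.* helpers here

set_option autoImplicit false
open Cfsg

namespace Cfsg.Agent.S0172

/-- Class number of a Frobenius group: if G = K H with K normal, K ⊓ H trivial and no non-identity element of H commuting with a non-identity element of K, then |H| * k(G) + 1 = |H| * k(H) + k(K), where k denotes the number of conjugacy classes. -/
theorem result {G : Type*} [Group G] [Finite G] (K H : Subgroup G) [K.Normal] (hKH : K ⊓ H = ⊥) (hKH' : K ⊔ H = ⊤) (hfpf : ∀ h ∈ H, h ≠ 1 → ∀ k ∈ K, h * k = k * h → k = 1) : Nat.card H * Nat.card (ConjClasses G) + 1 = Nat.card H * Nat.card (ConjClasses H) + Nat.card (ConjClasses K) := by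
  classical
  haveI := Fintype.ofFinite G
  have hd : ∀ x : G, x ∈ K → x ∈ H → x = 1 := fun x h1 h2 => by
    have : x ∈ K ⊓ H := ⟨h1, h2⟩
    rwa [hKH, Subgroup.mem_bot] at this
  have hdec : ∀ g : G, ∃ k ∈ K, ∃ h ∈ H, k * h = g := fun g =>
    Subgroup.mem_sup_of_normal_left.mp (hKH' ▸ Subgroup.mem_top g)
  have hnK : ∀ {k : G}, k ∈ K → ∀ g : G, g * k * g⁻¹ ∈ K := fun hk g =>
    Subgroup.Normal.conj_mem inferInstance _ hk g
  let prodMap : K × H → G := fun q => (q.1 : G) * q.2
  have hprod : Function.Bijective prodMap := by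
    refine ⟨fun q q' h => ?_, fun g => ?_⟩
    · have h' : (q.1 : G) * q.2 = q'.1 * q'.2 := h
      have e1 : (q'.1 : G)⁻¹ * q.1 = q'.2 * (q.2 : G)⁻¹ := by
        calc (q'.1 : G)⁻¹ * q.1 = (q'.1 : G)⁻¹ * (q.1 * q.2) * (q.2 : G)⁻¹ := by group
          _ = q'.2 * (q.2 : G)⁻¹ := by rw [h']; group
      have e2 := hd _ (K.mul_mem (K.inv_mem q'.1.2) q.1.2)
        (e1 ▸ H.mul_mem q'.2.2 (H.inv_mem q.2.2))
      have e3 : (q.1 : G) = q'.1 := (inv_mul_eq_one.mp e2).symm
      exact Prod.ext (Subtype.ext e3) (Subtype.ext (mul_left_cancel (e3 ▸ h')))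
    · obtain ⟨k, hk, h, hh, e⟩ := hdec g
      exact ⟨(⟨k, hk⟩, ⟨h, hh⟩), e⟩
  have hcard : Nat.card G = Nat.card K * Nat.card H := by
    rw [← Nat.card_prod, Nat.card_eq_of_bijective _ hprod]
  -- the elements outside `K` are the conjugates of the elements of `H \ {1}`
  let Ψ : K × {h : H // h ≠ 1} → {g : G // ¬ g ∈ K} := fun q =>
    ⟨(q.1 : G) * (q.2.1 : G) * (q.1 : G)⁻¹, fun hin => q.2.2 (Subtype.ext (hd _ (by
      have := K.mul_mem (K.mul_mem (K.inv_mem q.1.2) hin) q.1.2
      simpa [mul_assoc] using this) q.2.1.2))⟩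
  have hΨinj : Function.Injective Ψ := by
    intro q q' h
    have h' : (q.1 : G) * (q.2.1 : G) * (q.1 : G)⁻¹ = q'.1 * (q'.2.1 : G) * (q'.1 : G)⁻¹ :=
      congrArg Subtype.val h
    set c : G := (q'.1 : G)⁻¹ * q.1 with hc
    have hcK : c ∈ K := K.mul_mem (K.inv_mem q'.1.2) q.1.2
    have e1 : c * (q.2.1 : G) * c⁻¹ = q'.2.1 := by
      calc c * (q.2.1 : G) * c⁻¹
          = (q'.1 : G)⁻¹ * ((q.1 : G) * (q.2.1 : G) * (q.1 : G)⁻¹) * q'.1 := by rw [hc]; group
        _ = q'.2.1 := by rw [h']; group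
    have e2 : (q.2.1 : G) = q'.2.1 := by
      have hK' : (q'.2.1 : G) * (q.2.1 : G)⁻¹ ∈ K := by
        have := K.mul_mem hcK (hnK (K.inv_mem hcK) (q.2.1 : G))
        have eq : (q'.2.1 : G) * (q.2.1 : G)⁻¹ = c * ((q.2.1 : G) * c⁻¹ * (q.2.1 : G)⁻¹) := by
          rw [← e1]; group
        rwa [eq]
      exact (mul_inv_eq_one.mp (hd _ hK' (H.mul_mem q'.2.1.2 (H.inv_mem q.2.1.2)))).symm
    have e3 : c = 1 := by
      refine hfpf _ q.2.1.2 (fun hh => q.2.2 (Subtype.ext hh)) c hcK ?_
      calc (q.2.1 : G) * c = c * (q.2.1 : G) * c⁻¹ * c := by rw [e1, e2]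
        _ = c * q.2.1 := by group
    exact Prod.ext (Subtype.ext (inv_mul_eq_one.mp e3).symm) (Subtype.ext (Subtype.ext e2))
  have hH1 : Nat.card {h : H // h ≠ 1} = Nat.card H - 1 := by
    rw [Nat.card_eq_fintype_card, Nat.card_eq_fintype_card, Fintype.card_subtype_compl,
      Fintype.card_subtype_eq]
  have hΨ : Function.Bijective Ψ := by
    rw [Fintype.bijective_iff_injective_and_card]
    refine ⟨hΨinj, ?_⟩
    rw [← Nat.card_eq_fintype_card, Nat.card_prod, hH1, Fintype.card_subtype_compl,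
      ← Nat.card_eq_fintype_card, hcard, ← Nat.card_eq_fintype_card, Nat.mul_sub, mul_one]
  -- centraliser counts
  let cG : G → ℕ := fun g => Nat.card {y : G // Commute g y}
  have hsum : ∀ (M : Type _) [Group M] [Fintype M],
      ∑ g : M, Nat.card {y : M // Commute g y} = Nat.card (ConjClasses M) * Nat.card M := by
    intro M _ _
    rw [← Nat.card_sigma, ← card_comm_eq_card_conjClasses_mul_card]
    exact Nat.card_congr (Equiv.subtypeProdEquivSigmaSubtype fun a b : M => Commute a b).symm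
  have hconj : ∀ a g : G, cG (a * g * a⁻¹) = cG g := fun a g =>
    (Nat.card_congr ((MulAut.conj a).toEquiv.subtypeEquiv fun y => by
      show Commute g y ↔ Commute (MulAut.conj a g) (MulAut.conj a y)
      exact ⟨fun h => h.map _,
        fun h => by simpa [mul_assoc] using h.map (MulAut.conj a).symm.toMonoidHom⟩)).symm
  have outside : ∀ g : G, g ∉ K → ∃ (k : K) (h : H), h ≠ 1 ∧ g = k * (h : G) * (k : G)⁻¹ := by
    intro g hg
    obtain ⟨⟨k, h, hh⟩, e⟩ := hΨ.2 ⟨g, hg⟩
    exact ⟨k, h, hh, (congrArg Subtype.val e).symm⟩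
  have hKc : ∀ k : K, k ≠ 1 → cG (k : G) = Nat.card {y : K // Commute k y} := by
    intro k hk
    suffices hmem : ∀ y : {y : G // Commute (k : G) y}, y.1 ∈ K from
      (Nat.card_congr (⟨fun y => ⟨(y.1 : G), congrArg Subtype.val y.2⟩,
        fun y => ⟨⟨y.1, hmem y⟩, Subtype.ext y.2⟩, fun _ => rfl, fun _ => rfl⟩ :
          {y : K // Commute k y} ≃ {y : G // Commute (k : G) y})).symm
    intro y
    by_contra hy
    obtain ⟨a, h, hh, e⟩ := outside y.1 hy
    have hyk : (k : G) * y.1 = y.1 * k := y.2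
    have hk' := hfpf h h.2 (fun e' => hh (Subtype.ext e')) ((a : G)⁻¹ * k * a)
      (K.mul_mem (K.mul_mem (K.inv_mem a.2) k.2) a.2) (by
      calc (h : G) * ((a : G)⁻¹ * k * a) = (a : G)⁻¹ * (y.1 * k) * a := by rw [e]; group
        _ = (a : G)⁻¹ * k * a * h := by rw [← hyk, e]; group)
    apply hk
    apply Subtype.ext
    calc (k : G) = (a : G) * ((a : G)⁻¹ * k * a) * (a : G)⁻¹ := by group
      _ = 1 := by rw [hk']; group
  have hHc : ∀ h : H, h ≠ 1 → cG (h : G) = Nat.card {y : H // Commute h y} := by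
    intro h hh
    suffices hmem : ∀ y : {y : G // Commute (h : G) y}, y.1 ∈ H from
      (Nat.card_congr (⟨fun y => ⟨(y.1 : G), congrArg Subtype.val y.2⟩,
        fun y => ⟨⟨y.1, hmem y⟩, Subtype.ext y.2⟩, fun _ => rfl, fun _ => rfl⟩ :
          {y : H // Commute h y} ≃ {y : G // Commute (h : G) y})).symm
    intro y
    obtain ⟨⟨k, h'⟩, e⟩ := hprod.2 y.1
    have e' : (k : G) * h' = y.1 := e
    have hc : (h : G) * ((k : G) * h') = (k : G) * h' * h := by rw [e']; exact y.2
    have he := hprod.1 (a₁ := (⟨(h : G) * k * (h : G)⁻¹, hnK k.2 _⟩, h * h'))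
      (a₂ := (k, h' * h)) (by
        show (h : G) * k * (h : G)⁻¹ * ((h * h' : H) : G) = (k : G) * ((h' * h : H) : G)
        simp only [Subgroup.coe_mul]
        rw [← mul_assoc (k : G), ← hc]; group)
    have hk1 : (k : G) = 1 := by
      refine hfpf h h.2 (fun e' => hh (Subtype.ext e')) k k.2 ?_
      have := congrArg (fun q : K × H => (q.1 : G)) he
      simp only at this
      calc (h : G) * k = (h : G) * k * (h : G)⁻¹ * h := by group
        _ = (k : G) * h := by rw [this]
    rw [← e', hk1, one_mul]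
    exact h'.2
  have key1 : Nat.card (ConjClasses G) * Nat.card G =
      ∑ k : K, cG k + Nat.card K * ∑ h : {h : H // h ≠ 1}, cG (h.1 : G) := by
    rw [← hsum G, ← Fintype.sum_subtype_add_sum_subtype (fun g => g ∈ K) cG]
    congr 1
    rw [← Fintype.sum_bijective Ψ hΨ (fun q => cG (q.2.1 : G)) _ (fun q => (hconj _ _).symm),
      Fintype.sum_prod_type]
    simp only [Finset.sum_const, Finset.card_univ, smul_eq_mul,
      Nat.card_eq_fintype_card]
  have hcG1 : cG (1 : G) = Nat.card G := Nat.card_congr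
    (Equiv.subtypeUnivEquiv fun y => Commute.one_left y)
  have h1' : ∀ (M : Type _) [Group M], Nat.card {y : M // Commute 1 y} = Nat.card M := fun M _ =>
    Nat.card_congr (Equiv.subtypeUnivEquiv fun y => Commute.one_left y)
  have key2 : ∑ k : K, cG k + Nat.card K = Nat.card G + Nat.card (ConjClasses K) * Nat.card K := by
    rw [← hsum K, ← Finset.add_sum_erase _ _ (Finset.mem_univ (1 : K)),
      ← Finset.add_sum_erase _ (fun g : K => Nat.card {y : K // Commute g y})
        (Finset.mem_univ (1 : K)), h1', Finset.sum_congr rfl fun k hk =>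
        hKc k (Finset.ne_of_mem_erase hk)]
    rw [show cG ((1 : K) : G) = Nat.card G from hcG1]
    ring
  have key3 : ∑ h : {h : H // h ≠ 1}, cG (h.1 : G) + Nat.card H =
      Nat.card (ConjClasses H) * Nat.card H := by
    rw [← hsum H, ← Finset.add_sum_erase _ (fun g : H => Nat.card {y : H // Commute g y})
        (Finset.mem_univ (1 : H)), h1', Finset.sum_congr rfl fun (h : {h : H // h ≠ 1}) _ =>
        hHc h.1 h.2, add_comm]
    congr 1
    exact (Finset.sum_subtype (Finset.univ.erase (1 : H)) (by simp)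
      fun g : H => Nat.card {y : H // Commute g y}).symm
  rw [hcard] at key1 key2
  apply Nat.eq_of_mul_eq_mul_left (Nat.card_pos (α := K))
  nlinarith [key1, key2, key3]

end Cfsg.Agent.S0172
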