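import Cfsg.Statements.S0174
import Cfsg.Agent.Lib.Clifford.Basic
-- import your own Cfsg.Agent.* helpers here

set_option autoImplicit false
open Cfsg

namespace Cfsg.Agent.S0174

/-- The Clifford Theorem for characters: if θ is an irreducible character of a finite group G, N is a normal subgroup and χ is an irreducible character of N occurring in the restriction of θ, then θ restricted to N equals e times the sum of the distinct G-conjugates of χ, where e is the inner product of the restriction with χ. -/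
theorem result {G : Type*} [Group G] [Fintype G] (N : Subgroup G) [Fintype N] (hN : N.Normal) (θ : G → ℂ) (hθ : Cfsg.IsIrrCharacter G θ) (χ : N → ℂ) (hχ : Cfsg.IsIrrCharacter N χ) (hconst : Cfsg.classInner (fun n : N => θ n) χ ≠ 0) : (fun n : N => θ n) = Cfsg.classInner (fun n : N => θ n) χ • ∑ᶠ ψ ∈ {ψ : N → ℂ | ∃ g : G, ψ = fun n : N => χ ⟨g * n * g⁻¹, hN.conj_mem n n.2 g⟩}, ψ := by
  classical
  haveI := hN
  set χ' : Cfsg.IrrCharacter N := ⟨χ, hχ⟩ with hχ'
  have h := Cfsg.Agent.Lib.Clifford.Basic.clifford N hθ χ' hconst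
  set s : Set (N → ℂ) := {ψ : N → ℂ | ∃ g : G, ψ = fun n : N => χ ⟨g * n * g⁻¹, hN.conj_mem n n.2 g⟩} with hs
  have hrange : s = ↑(Finset.univ.image fun g : G => Cfsg.Agent.Lib.Clifford.Basic.conjC N g χ) := by
    ext ψ
    simp only [hs, Set.mem_setOf_eq, Finset.coe_image, Finset.coe_univ, Set.image_univ,
      Set.mem_range]
    exact ⟨fun ⟨g, e⟩ => ⟨g, e.symm⟩, fun ⟨g, e⟩ => ⟨g, e.symm⟩⟩
  rw [hrange, finsum_mem_coe_finset]
  have hsum : ∑ x : G, Cfsg.Agent.Lib.Clifford.Basic.conjC N x χ = (Nat.card (Cfsg.Agent.Lib.Clifford.Basic.inertia N χ) : ℂ) •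
      ∑ ψ ∈ Finset.univ.image (fun g : G => Cfsg.Agent.Lib.Clifford.Basic.conjC N g χ), ψ := by
    rw [Finset.smul_sum, ← Finset.sum_fiberwise_of_maps_to
      (g := fun x : G => Cfsg.Agent.Lib.Clifford.Basic.conjC N x χ) (fun x hx => Finset.mem_image_of_mem _ hx)]
    refine Finset.sum_congr rfl fun ψ hψ => ?_
    obtain ⟨g, -, rfl⟩ := Finset.mem_image.mp hψ
    rw [Finset.sum_congr rfl (g := fun _ => Cfsg.Agent.Lib.Clifford.Basic.conjC N g χ)
      (fun x hx => (Finset.mem_filter.mp hx).2), Finset.sum_const, ← Nat.cast_smul_eq_nsmul ℂ]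
    congr 2
    rw [← Fintype.card_subtype, ← Nat.card_eq_fintype_card]
    refine Nat.card_congr ((Equiv.mulRight g⁻¹).subtypeEquiv fun x => ?_)
    exact (Cfsg.Agent.Lib.Clifford.Basic.conjC_eq_conjC_iff N x g)
  have hT : (Nat.card (Cfsg.Agent.Lib.Clifford.Basic.inertia N χ) : ℂ) ≠ 0 :=
    Cfsg.Agent.Lib.Induced.Basic.subgroup_card_ne_zero _
  simp only [hχ'] at h
  rw [hsum, smul_smul, div_mul_cancel₀ _ hT] at h
  exact h

end Cfsg.Agent.S0174
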