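import Cfsg.Statements.S0180
import Cfsg.Agent.Lib.BC78.Galois
import Cfsg.Agent.Lib.GaloisMean.Basic
import Cfsg.Agent.Lib.Characters.Complete
import Mathlib
-- import your own Cfsg.Agent.* helpers here

set_option autoImplicit false
open Cfsg

namespace Cfsg.Agent.S0180

/-- Every irreducible complex character of a finite group takes only rational values if and only if g is conjugate to g ^ m for every element g and every m coprime to the group order. -/
theorem result {G : Type*} [Group G] [Finite G] : (∀ χ : Cfsg.IrrCharacter G, ∀ g : G, ∃ q : ℚ, (χ : G → ℂ) g = (q : ℂ)) ↔ ∀ m : ℕ, m.Coprime (Nat.card G) → ∀ g : G, IsConj g (g ^ m) := by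
  classical
  constructor
  · intro hrat m hm g
    rw [Cfsg.Agent.Lib.Characters.Complete.isConj_iff_forall_irr]
    intro χ
    obtain ⟨n, ρ, hρ, hχ⟩ := χ.2
    obtain ⟨q, hq⟩ := hrat χ g
    rw [← hχ] at hq ⊢
    obtain ⟨ι, hι, b, ζ, hb, -, hchar⟩ :=
      Cfsg.Agent.Lib.Characters.Diag.exists_eigenbasis_card ρ g
    have h2 : ∀ i, (ρ (g ^ m)) (b i) = ζ i ^ m • b i := by
      intro i
      rw [map_pow]
      clear hm
      induction m with
      | zero => simp
      | succ k ih =>
        rw [pow_succ, Module.End.mul_apply, (hb i).1, map_smul, ih, smul_smul, pow_succ']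
    rw [show ρ.character (g ^ m) = ∑ i, ζ i ^ m from
      Cfsg.Agent.Lib.Characters.Diag.trace_eq_sum_eigenvalues b _ _ h2, hchar]
    have hN : Nat.card G ≠ 0 := Nat.card_pos.ne'
    haveI : NeZero (Nat.card G) := ⟨hN⟩
    have hω := Complex.isPrimitiveRoot_exp (Nat.card G) hN
    set ω := Complex.exp (2 * Real.pi * Complex.I / Nat.card G)
    choose e _ he using fun i => hω.eq_pow_of_pow_eq_one (hb i).2
    let P : Polynomial ℚ := ∑ i, Polynomial.X ^ e i - Polynomial.C q
    have hP : Polynomial.aeval ω P = 0 := by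
      rw [hchar] at hq
      simp only [P, map_sub, map_sum, map_pow, Polynomial.aeval_X, Polynomial.aeval_C, he]
      rw [hq, sub_eq_zero]
      exact (eq_ratCast _ q).symm
    have hmin : minpoly ℚ (ω ^ m) = minpoly ℚ ω := by
      rw [← Polynomial.cyclotomic_eq_minpoly_rat hω (Nat.pos_of_ne_zero hN),
        ← Polynomial.cyclotomic_eq_minpoly_rat (hω.pow_of_coprime m hm) (Nat.pos_of_ne_zero hN)]
    obtain ⟨R, hR⟩ := minpoly.dvd ℚ ω hP
    have hPm : Polynomial.aeval (ω ^ m) P = 0 := by
      rw [hR, ← hmin, map_mul, minpoly.aeval, zero_mul]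
    simp only [P, map_sub, map_sum, map_pow, Polynomial.aeval_X, Polynomial.aeval_C, he,
      sub_eq_zero] at hP hPm
    rw [hP, ← hPm]
    refine Finset.sum_congr rfl fun i _ => ?_
    rw [← he i, ← pow_mul, ← pow_mul, mul_comm]
  · intro hconj χ g
    have hint := Cfsg.Agent.Lib.Characters.Basic.isIntegral_apply (Cfsg.Agent.Lib.Characters.Basic.isCharacter_irr χ) g
    obtain ⟨k, hk⟩ := Cfsg.Agent.Lib.BC78.Galois.exists_int_of_fixed hint fun σ => by
      obtain ⟨m, hm, hσ⟩ := Cfsg.Agent.Lib.BC78.Galois.exists_exponent_char (G := G) σ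
      rw [hσ _ (Cfsg.Agent.Lib.Characters.Basic.isCharacter_irr χ) g]
      exact (Cfsg.Agent.Lib.Characters.Basic.classFunction_apply_of_isConj (Cfsg.Agent.Lib.Characters.Basic.isClassFunction_irr χ) (hconj m hm g)).symm
    exact ⟨(k : ℚ), by rw [← hk]; norm_num⟩

end Cfsg.Agent.S0180
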