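import Cfsg.Statements.S0181
import Cfsg.Agent.Lib.Characters.Basic
import Mathlib
-- import your own Cfsg.Agent.* helpers here

set_option autoImplicit false
open Cfsg

namespace Cfsg.Agent.S0181

/-- Let H be a normal subgroup of a finite group G and ρ an irreducible complex representation whose kernel does not contain H. If g commutes with no non-identity element of H, then the character of ρ vanishes at g. -/
theorem result {G : Type*} [Group G] [Finite G] {V : Type*} [AddCommGroup V] [Module ℂ V] [FiniteDimensional ℂ V] (ρ : Representation ℂ G V) [ρ.IsIrreducible] (H : Subgroup G) [H.Normal] (hker : ∃ h ∈ H, ρ h ≠ LinearMap.id) (g : G) (hg : ∀ h ∈ H, h * g = g * h → h = 1) : ρ.character g = 0 := by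
  classical
  haveI := Fintype.ofFinite G
  haveI := Fintype.ofFinite H
  have hN : H.Normal := inferInstance
  let f : H → H := fun h => ⟨(h : G) * g * (h : G)⁻¹ * g⁻¹, by
    have := H.mul_mem h.2 (hN.conj_mem _ (H.inv_mem h.2) g)
    simpa [mul_assoc] using this⟩
  have hf : Function.Bijective f := Finite.injective_iff_bijective.mp fun a b e => by
    have e' : (a : G) * g * (a : G)⁻¹ = b * g * (b : G)⁻¹ :=
      mul_right_cancel (congrArg Subtype.val e)
    have := hg ((b : G)⁻¹ * a) (H.mul_mem (H.inv_mem b.2) a.2) (by
      calc (b : G)⁻¹ * a * g = (b : G)⁻¹ * ((a : G) * g * (a : G)⁻¹) * a := by group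
        _ = g * ((b : G)⁻¹ * a) := by rw [e']; group)
    exact Subtype.ext (inv_mul_eq_one.mp this).symm
  have hval : ∀ h : H, ρ.character ((h : G) * g) = ρ.character g := by
    intro h
    obtain ⟨a, rfl⟩ := hf.2 h
    show ρ.character ((a : G) * g * (a : G)⁻¹ * g⁻¹ * g) = _
    rw [inv_mul_cancel_right, Representation.char_conj]
  set P : Module.End ℂ V := ∑ h : H, ρ (h : G)
  have hP : P = 0 := by
    let W : Subrepresentation ρ := ⟨Representation.invariants (ρ.comp H.subtype), by
      intro x v hv h
      show ρ (h : G) (ρ x v) = ρ x v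
      have := hv ⟨x⁻¹ * h * x, by simpa using hN.conj_mem _ h.2 x⁻¹⟩
      calc ρ (h : G) (ρ x v) = ρ x (ρ (x⁻¹ * h * x) v) := by
            rw [← Module.End.mul_apply, ← map_mul, ← Module.End.mul_apply, ← map_mul]
            simp [mul_assoc]
        _ = ρ x v := congrArg (ρ x) this⟩
    refine LinearMap.ext fun v => ?_
    have hw : P v ∈ Representation.invariants (ρ.comp H.subtype) := by
      intro k
      show ρ (k : G) (P v) = P v
      simp only [P, LinearMap.sum_apply, map_sum]
      refine Fintype.sum_equiv (Equiv.mulLeft k) _ _ fun h => ?_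
      rw [← Module.End.mul_apply, ← map_mul]
      rfl
    rcases (inferInstance : ρ.IsIrreducible).eq_bot_or_eq_top W with hW | hW
    · have h1 : Representation.invariants (ρ.comp H.subtype) = ⊥ :=
        congrArg Subrepresentation.toSubmodule hW
      rw [h1, Submodule.mem_bot] at hw
      exact hw
    · obtain ⟨h, hh, hne⟩ := hker
      have h1 : Representation.invariants (ρ.comp H.subtype) = ⊤ :=
        congrArg Subrepresentation.toSubmodule hW
      exact absurd (LinearMap.ext fun w => (h1 ▸ Submodule.mem_top (x := w) :
        w ∈ Representation.invariants (ρ.comp H.subtype)) ⟨h, hh⟩) hne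
  have h1 : LinearMap.trace ℂ V (P * ρ g) = (Nat.card H : ℂ) * ρ.character g := by
    rw [Finset.sum_mul, map_sum, Finset.sum_congr rfl (g := fun _ => ρ.character g) fun h _ => ?_,
      Finset.sum_const, Finset.card_univ, nsmul_eq_mul, Nat.card_eq_fintype_card]
    rw [← map_mul]
    exact hval h
  rw [hP, zero_mul, map_zero, eq_comm, mul_eq_zero] at h1
  exact h1.resolve_left (Nat.cast_ne_zero.mpr Nat.card_pos.ne')

end Cfsg.Agent.S0181
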