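import Cfsg.Statements.S0184
import Cfsg.Agent.Lib.Characters.Complete
import Cfsg.Agent.Lib.Characters.Kernel
import Cfsg.Agent.Lib.PGroups.Omega
import Cfsg.Agent.Lib.Clifford.Rep
import Mathlib
-- import your own Cfsg.Agent.* helpers here

set_option autoImplicit false
open Cfsg

namespace Cfsg.Agent.S0184

/-- A finite p-group admits a faithful irreducible complex representation if and only if its centre is cyclic. -/
theorem result {G : Type*} [Group G] [Finite G] (p : ℕ) [Fact p.Prime] (hG : IsPGroup p G) : (∃ (n : ℕ) (ρ : Representation ℂ G (Fin n → ℂ)), ρ.IsIrreducible ∧ Function.Injective ρ) ↔ IsCyclic (Subgroup.center G) := by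
  classical
  haveI := Fintype.ofFinite G
  constructor
  · rintro ⟨n, ρ, hρ, hinj⟩
    haveI := Cfsg.Agent.Lib.Clifford.Rep.nontrivial_of_irreducible ρ
    obtain ⟨v, hv⟩ := exists_ne (0 : Fin n → ℂ)
    have hsc : ∀ z : Subgroup.center G, ∃ c : ℂ, ρ (z : G) = c • (1 : Module.End ℂ (Fin n → ℂ)) :=
      fun z => Cfsg.Agent.Lib.Clifford.Rep.schur ρ _ fun g => by
        rw [← map_mul, ← map_mul, Subgroup.mem_center_iff.mp z.2 g]
    choose c hc using hsc
    have hs : Function.Injective (fun a : ℂ => a • (1 : Module.End ℂ (Fin n → ℂ))) := fun a b e => by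
      have h := congrArg (fun f : Module.End ℂ (Fin n → ℂ) => f v) e
      simp only [LinearMap.smul_apply, Module.End.one_apply] at h
      exact smul_left_injective ℂ hv h
    have hc1 : c 1 = 1 := hs (by simp [← hc])
    have hcm : ∀ a b, c (a * b) = c a * c b := fun a b => hs (by
      show c (a * b) • (1 : Module.End ℂ (Fin n → ℂ)) = (c a * c b) • 1
      rw [← hc, Subgroup.coe_mul, map_mul, hc, hc, smul_mul_smul_comm, one_mul])
    let f : Subgroup.center G →* ℂ := { toFun := c, map_one' := hc1, map_mul' := hcm }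
    refine isCyclic_of_injective_ringHom f fun a b e => Subtype.ext (hinj ?_)
    rw [hc, hc]
    exact congrArg (· • (1 : Module.End ℂ (Fin n → ℂ))) e
  · intro hcyc
    rcases subsingleton_or_nontrivial G with hs | hs
    · obtain ⟨n, ρ, hρ, -⟩ := (Cfsg.Agent.Lib.Characters.Basic.oneChar G).2
      exact ⟨n, ρ, hρ, fun a b _ => Subsingleton.elim a b⟩
    obtain ⟨z, hz, hzp⟩ : ∃ z : G, z ∈ Subgroup.center G ∧ orderOf z = p := by
      haveI := hG.center_nontrivial
      obtain ⟨k, hk⟩ := (hG.to_subgroup (Subgroup.center G)).exists_card_eq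
      have hk0 : k ≠ 0 := by
        rintro rfl
        have := Finite.one_lt_card (α := Subgroup.center G)
        rw [pow_zero] at hk
        omega
      obtain ⟨w, hw⟩ := exists_prime_orderOf_dvd_card' (G := Subgroup.center G) p
        (hk ▸ dvd_pow_self p hk0)
      exact ⟨w, w.2, by rwa [Subgroup.orderOf_coe]⟩
    have hz1 : z ≠ 1 := by
      rintro rfl
      rw [orderOf_one] at hzp
      exact (Fact.out : p.Prime).ne_one hzp.symm
    obtain ⟨χ, hχ⟩ : ∃ χ : Cfsg.IrrCharacter G, (χ : G → ℂ) z ≠ (χ : G → ℂ) 1 := by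
      by_contra h
      push Not at h
      exact hz1 (Cfsg.Agent.Lib.Characters.Complete.eq_one_of_forall_irr h)
    obtain ⟨n, ρ, hρ, hchar⟩ := χ.2
    refine ⟨n, ρ, hρ, (MonoidHom.ker_eq_bot_iff ρ).mp ?_⟩
    by_contra hne
    have hcap := Cfsg.Agent.Lib.PGroups.normal_inf_center_ne_bot hG (MonoidHom.ker ρ) hne
    obtain ⟨w, hw, hw1⟩ : ∃ w ∈ MonoidHom.ker ρ ⊓ Subgroup.center G, w ≠ 1 :=
      (MonoidHom.ker ρ ⊓ Subgroup.center G).bot_or_exists_ne_one.resolve_left hcap
    -- in a cyclic group every subgroup of order divisible by `p` contains the order-`p` subgroup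
    let w' : Subgroup.center G := ⟨w, hw.2⟩
    let z' : Subgroup.center G := ⟨z, hz⟩
    have hpw : p ∣ orderOf w' := by
      obtain ⟨k, hk⟩ := IsPGroup.iff_orderOf.mp (hG.to_subgroup (Subgroup.center G)) w'
      rcases k with _ | k
      · rw [pow_zero, orderOf_eq_one_iff] at hk
        exact absurd (congrArg Subtype.val hk) hw1
      · exact hk ▸ dvd_pow_self p k.succ_ne_zero
    have hzw : z' ∈ Subgroup.zpowers w' := by
      haveI := Fintype.ofFinite (Subgroup.center G)
      haveI := hcyc
      have h1 : orderOf z' ∣ orderOf w' := by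
        rw [show orderOf z' = p by rw [← Subgroup.orderOf_coe]; exact hzp]; exact hpw
      obtain ⟨γ, hγ⟩ := IsCyclic.exists_monoid_generator (α := Subgroup.center G)
      obtain ⟨i, hi⟩ := hγ z'
      obtain ⟨j, hj⟩ := hγ w'
      simp only at hi hj
      have hroots := IsCyclic.card_pow_eq_one_le (α := Subgroup.center G)
        (n := orderOf w') (orderOf_pos w')
      by_contra hnot
      have hsub : insert z' (Finset.univ.filter fun x => x ∈ Subgroup.zpowers w') ⊆
          Finset.univ.filter (fun x : Subgroup.center G => x ^ orderOf w' = 1) := by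
        intro x hx
        rw [Finset.mem_filter]
        refine ⟨Finset.mem_univ _, ?_⟩
        rcases Finset.mem_insert.mp hx with rfl | hx
        · exact orderOf_dvd_iff_pow_eq_one.mp h1
        · obtain ⟨i, rfl⟩ := Subgroup.mem_zpowers_iff.mp (Finset.mem_filter.mp hx).2
          rw [← zpow_natCast, ← zpow_mul, mul_comm, zpow_mul, zpow_natCast, pow_orderOf_eq_one,
            one_zpow]
      have h2 := Finset.card_le_card hsub
      rw [Finset.card_insert_of_notMem (fun h => hnot (Finset.mem_filter.mp h).2),
        ← Fintype.card_subtype] at h2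
      have h3 : Fintype.card {x // x ∈ Subgroup.zpowers w'} = orderOf w' := Fintype.card_zpowers
      omega
    obtain ⟨i, hi⟩ := Subgroup.mem_zpowers_iff.mp hzw
    apply hχ
    have hzker : z ∈ MonoidHom.ker ρ := by
      have : z = w ^ i := (congrArg Subtype.val hi).symm
      rw [this]
      exact Subgroup.zpow_mem _ hw.1 i
    rw [← hchar, Representation.character, MonoidHom.mem_ker.mp hzker, Representation.character,
      map_one ρ]

end Cfsg.Agent.S0184
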