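import Cfsg.Statements.S0185
import Cfsg.Agent.Lib.Characters.Degree
import Cfsg.Agent.Lib.Characters.Linear
import Cfsg.Agent.Lib.Induced.Integral
-- import your own Cfsg.Agent.* helpers here

set_option autoImplicit false
open Cfsg

namespace Cfsg.Agent.S0185

/-- If a finite group has a faithful complex representation of degree less than the smallest prime dividing its order, the group is abelian. -/
theorem result {G : Type*} [Group G] [Finite G] {V : Type*} [AddCommGroup V] [Module ℂ V] [FiniteDimensional ℂ V] (ρ : Representation ℂ G V) (hfaithful : Function.Injective ρ) (hdeg : ∀ p : ℕ, p.Prime → p ∣ Nat.card G → Module.finrank ℂ V < p) (a b : G) : a * b = b * a := by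
  classical
  obtain ⟨m, hm⟩ := Cfsg.Agent.Lib.Characters.Basic.character_eq_multiset_sum ρ
  have hsum : ∀ x : G, ρ.character x =
      (m.map fun χ : Cfsg.IrrCharacter G => (χ : G → ℂ) x).sum := by
    intro x
    rw [hm]
    generalize m = s
    induction s using Multiset.induction_on with
    | empty => simp
    | cons c s ih => simp [ih]
  choose d hd0 hdvd hd using fun χ : Cfsg.IrrCharacter G =>
    Cfsg.Agent.Lib.Characters.Degree.exists_degree_dvd χ
  have hV : Module.finrank ℂ V = (m.map d).sum := by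
    apply Nat.cast_injective (R := ℂ)
    rw [← Representation.char_one ρ, hsum]
    simp only [hd]
    simp [Nat.cast_multiset_sum, Multiset.map_map, Function.comp_def]
  have hlin : ∀ χ ∈ m, (χ : G → ℂ) 1 = 1 := by
    intro χ hχ
    rw [hd, Nat.cast_eq_one]
    by_contra hne
    obtain ⟨p, hp, hpd⟩ := Nat.exists_prime_and_dvd hne
    have h1 := hdeg p hp (hpd.trans (hdvd χ))
    have h2 : d χ ≤ (m.map d).sum := Multiset.le_sum_of_mem (Multiset.mem_map_of_mem d hχ)
    have h3 := Nat.le_of_dvd (hd0 χ) hpd
    omega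
  have hc : ρ.character (a * b * a⁻¹ * b⁻¹) = ρ.character 1 := by
    rw [hsum, hsum]
    congr 1
    refine Multiset.map_congr rfl fun χ hχ => ?_
    have hM := Cfsg.Agent.Lib.Characters.Linear.apply_mul_of_degree_one
      (Cfsg.Agent.Lib.Characters.Basic.isCharacter_irr χ) (hlin χ hχ)
    have ha : (χ : G → ℂ) a * (χ : G → ℂ) a⁻¹ = 1 := by
      rw [← hM, mul_inv_cancel]; exact hlin χ hχ
    have hb : (χ : G → ℂ) b * (χ : G → ℂ) b⁻¹ = 1 := by
      rw [← hM, mul_inv_cancel]; exact hlin χ hχ
    rw [hM, hM, hM, hlin χ hχ]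
    linear_combination (χ : G → ℂ) b * (χ : G → ℂ) b⁻¹ * ha + hb
  rw [Representation.char_one] at hc
  have h1 := Cfsg.Agent.Lib.Induced.Integral.eq_id_of_character_eq ρ hc
  have h2 : a * b * a⁻¹ * b⁻¹ = 1 := hfaithful (h1.trans (map_one ρ).symm)
  calc a * b = a * b * a⁻¹ * b⁻¹ * (b * a) := by group
    _ = b * a := by rw [h2, one_mul]

end Cfsg.Agent.S0185
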