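import Cfsg.Statements.S0186
import Mathlib
-- import your own Cfsg.Agent.* helpers here

set_option autoImplicit false
open Cfsg
open scoped commutatorElement

namespace Cfsg.Agent.S0186

/-- Let G be a finite simple group of order n and p a prime dividing n. If G has more than n / p^2 conjugacy classes, then every Sylow p-subgroup of G is abelian. -/
theorem result {G : Type*} [Group G] [Finite G] [IsSimpleGroup G] (p : ℕ) [Fact p.Prime] (hp : p ∣ Nat.card G) (hmany : Nat.card G < p ^ 2 * Nat.card (ConjClasses G)) (P : Sylow p G) (a b : G) (ha : a ∈ P) (hb : b ∈ P) : a * b = b * a := by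
  classical
  have hpp : p.Prime := Fact.out
  by_contra hab
  obtain ⟨e, he⟩ := IsPGroup.iff_card.mp P.2
  have cyc : ∀ (Q : Type _) [Group Q] [IsCyclic Q] (u v : Q), u * v = v * u := by
    intro Q _ _ u v
    obtain ⟨g, hg⟩ := IsCyclic.exists_generator (α := Q)
    obtain ⟨i, hi⟩ := hg u
    obtain ⟨j, hj⟩ := hg v
    simp only at hi hj
    rw [← hi, ← hj, ← zpow_add, ← zpow_add, add_comm]
  have he2 : 2 ≤ e := by
    by_contra h
    have : IsCyclic P := by
      rcases (show e = 0 ∨ e = 1 by omega) with rfl | rfl
      · have : Subsingleton P := (Nat.card_eq_one_iff_unique.mp (by simpa using he)).1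
        infer_instance
      · exact isCyclic_of_prime_card (p := p) (by simpa using he)
    exact hab (congrArg Subtype.val (cyc P ⟨a, ha⟩ ⟨b, hb⟩))
  obtain ⟨n, hn⟩ : p ^ 2 ∣ Nat.card G :=
    (he ▸ pow_dvd_pow p he2).trans (P : Subgroup G).card_subgroup_dvd_card
  have hbig : ∀ C : ConjClasses G, C ≠ ConjClasses.mk 1 → p ^ 2 ≤ Nat.card C.carrier := by
    intro C hC
    by_contra hlt
    obtain ⟨x, rfl⟩ := ConjClasses.mk_surjective C
    have hx1 : x ≠ 1 := fun h => hC (by rw [h])
    let X := MulAction.orbit (ConjAct G) x
    have hXeq : Nat.card (ConjClasses.mk x).carrier = Nat.card X := by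
      rw [← ConjAct.orbit_eq_carrier_conjClasses]
    letI actInst : MulAction G X := MulAction.compHom X ConjAct.toConjAct.toMonoidHom
    let φ : G →* Equiv.Perm X := MulAction.toPermHom G X
    rcases φ.normal_ker.eq_bot_or_eq_top with hker | hker
    · apply hab
      have hinj : Function.Injective φ := (MonoidHom.ker_eq_bot_iff φ).mp hker
      have hcomm : φ ⁅a, b⁆ = 1 := by
        refine Equiv.ext fun y => ?_
        show ⁅a, b⁆ • y = y
        let S := MulAction.stabilizer (P : Subgroup G) y
        have hidx : S.index = 1 ∨ S.index = p := by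
          obtain ⟨k, hk⟩ := P.2.index S
          have : S.index ≤ Nat.card X := by
            rw [MulAction.index_stabilizer, ← Nat.card_coe_set_eq]
            exact Finite.card_subtype_le _
          have hk2 : k < 2 := (Nat.pow_lt_pow_iff_right hpp.one_lt).mp (by
            rw [← hk]; omega)
          interval_cases k
          · exact Or.inl (by simpa using hk)
          · exact Or.inr (by simpa using hk)
        haveI hnormal : S.Normal := by
          rcases hidx with h | h
          · rw [Subgroup.index_eq_one.mp h]; infer_instance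
          · refine Subgroup.normal_of_index_eq_minFac_card ?_
            rw [h, he, Nat.pow_minFac (by omega), hpp.minFac_eq]
        have hmem : ⁅(⟨a, ha⟩ : P.toSubgroup), (⟨b, hb⟩ : P.toSubgroup)⁆ ∈ S := by
          rw [← QuotientGroup.eq_one_iff]
          haveI : IsCyclic (P.toSubgroup ⧸ S) := by
            rcases hidx with h | h
            · have : Subsingleton (P.toSubgroup ⧸ S) :=
                (Nat.card_eq_one_iff_unique.mp h).1
              infer_instance
            · exact isCyclic_of_prime_card (p := p) h
          show QuotientGroup.mk' S _ = 1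
          rw [map_commutatorElement, commutatorElement_eq_one_iff_mul_comm]
          exact cyc _ _ _
        exact hmem
      rw [← commutatorElement_eq_one_iff_mul_comm]
      exact hinj (by rw [hcomm, map_one])
    · apply hab
      have hcen : ∀ g : G, g * x * g⁻¹ = x := by
        intro g
        have hg : φ g = 1 := by rw [← MonoidHom.mem_ker, hker]; trivial
        have := Equiv.ext_iff.mp hg ⟨x, MulAction.mem_orbit_self x⟩
        exact congrArg Subtype.val this
      have hxc : x ∈ Subgroup.center G := Subgroup.mem_center_iff.mpr fun g => by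
        have := hcen g
        calc g * x = g * x * g⁻¹ * g := by group
          _ = x * g := by rw [this]
      rcases (inferInstance : (Subgroup.center G).Normal).eq_bot_or_eq_top with hZ | hZ
      · rw [hZ, Subgroup.mem_bot] at hxc
        exact absurd hxc hx1
      · exact Subgroup.mem_center_iff.mp (hZ ▸ Subgroup.mem_top b) a
  have := Fintype.ofFinite G
  have hsum : Nat.card G = ∑ C : ConjClasses G, Nat.card C.carrier := by
    rw [← Nat.card_sigma]
    exact Nat.card_congr ((Equiv.sigmaFiberEquiv ConjClasses.mk).symm.trans
      (Equiv.sigmaCongrRight fun C => Equiv.subtypeEquivRight fun x =>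
        (ConjClasses.mem_carrier_iff_mk_eq).symm))
  have h1 : Nat.card (ConjClasses.mk (1 : G)).carrier = 1 := by
    rw [Nat.card_eq_one_iff_unique]
    refine ⟨⟨fun u v => Subtype.ext ?_⟩, ⟨⟨1, ConjClasses.mem_carrier_mk⟩⟩⟩
    have hu := ConjClasses.mem_carrier_iff_mk_eq.mp u.2
    have hv := ConjClasses.mem_carrier_iff_mk_eq.mp v.2
    rw [ConjClasses.mk_eq_mk_iff_isConj, isConj_one_left] at hu hv
    rw [hu, hv]
  have hlow : 1 + (Nat.card (ConjClasses G) - 1) * p ^ 2 ≤ Nat.card G := by
    rw [hsum, ← Finset.add_sum_erase _ _ (Finset.mem_univ (ConjClasses.mk (1 : G))), h1]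
    refine Nat.add_le_add_left ?_ 1
    have := Finset.card_nsmul_le_sum (Finset.univ.erase (ConjClasses.mk (1 : G)))
      (fun C => Nat.card C.carrier) (p ^ 2) (fun C hC => hbig C (Finset.ne_of_mem_erase hC))
    simpa [Nat.card_eq_fintype_card] using this
  rw [hn] at hlow hmany
  have h2 : n < Nat.card (ConjClasses G) := Nat.lt_of_mul_lt_mul_left hmany
  have h3 : (Nat.card (ConjClasses G) - 1) * p ^ 2 < n * p ^ 2 := by
    rw [Nat.mul_comm n]; omega
  have h4 := Nat.lt_of_mul_lt_mul_right h3
  omega

end Cfsg.Agent.S0186
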