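import Cfsg.Statements.S0187
import Cfsg.Agent.Lib.Characters.Complete
import Cfsg.Agent.Lib.Characters.Linear
-- import your own Cfsg.Agent.* helpers here

set_option autoImplicit false
open Cfsg

namespace Cfsg.Agent.S0187

/-- A finite group is commutative if and only if every irreducible complex character has degree 1. -/
theorem result {G : Type*} [Group G] [Finite G] : (∀ a b : G, a * b = b * a) ↔ ∀ χ : Cfsg.IrrCharacter G, (χ : G → ℂ) 1 = 1 := by
  refine ⟨fun h χ => Cfsg.Agent.Lib.Characters.Linear.degree_eq_one_of_comm h χ, fun h a b => ?_⟩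
  have hc : a * b * a⁻¹ * b⁻¹ = 1 := by
    apply Cfsg.Agent.Lib.Characters.Complete.eq_one_of_forall_irr
    intro χ
    have hm := Cfsg.Agent.Lib.Characters.Linear.apply_mul_of_degree_one
      (Cfsg.Agent.Lib.Characters.Basic.isCharacter_irr χ) (h χ)
    have ha : (χ : G → ℂ) a * (χ : G → ℂ) a⁻¹ = 1 := by rw [← hm, mul_inv_cancel]; exact h χ
    have hb : (χ : G → ℂ) b * (χ : G → ℂ) b⁻¹ = 1 := by rw [← hm, mul_inv_cancel]; exact h χ
    rw [hm, hm, hm, h χ]
    linear_combination (χ : G → ℂ) b * (χ : G → ℂ) b⁻¹ * ha + hb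
  calc a * b = a * b * a⁻¹ * b⁻¹ * (b * a) := by group
    _ = b * a := by rw [hc, one_mul]

end Cfsg.Agent.S0187
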