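import Cfsg.Statements.S0189
import Mathlib
-- import your own Cfsg.Agent.* helpers here

set_option autoImplicit false
open Cfsg

namespace Cfsg.Agent.S0189

/-- If a complex character of a finite group vanishes at every non-identity element of a Sylow p-subgroup P, then |P| divides its degree. -/
theorem result {G : Type*} [Group G] [Finite G] (p : ℕ) [Fact p.Prime] (P : Sylow p G) (χ : G → ℂ) (hχ : Cfsg.IsCharacter G χ) (hvan : ∀ g : G, g ∈ P → g ≠ 1 → χ g = 0) : ∃ k : ℕ, χ 1 = (Nat.card P : ℂ) * k := by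
  classical
  obtain ⟨n, ρ, rfl⟩ := hχ
  have := Fintype.ofFinite P
  let σ : Representation ℂ P (Fin n → ℂ) := ρ.comp P.toSubgroup.subtype
  have hP : (Nat.card P : ℂ) ≠ 0 := Nat.cast_ne_zero.mpr Nat.card_pos.ne'
  letI : Invertible (Nat.card P : ℂ) := invertibleOfNonzero hP
  have h := σ.card_inv_mul_sum_char_eq_finrank
  have hs : ∑ g : P, σ.character g = ρ.character 1 := by
    refine (Finset.sum_eq_single (1 : P) (fun g _ hg => ?_) fun h => ?_).trans ?_
    · exact hvan g g.2 fun h => hg (Subtype.ext h)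
    · exact absurd (Finset.mem_univ _) h
    · rfl
  rw [hs] at h
  exact ⟨Module.finrank ℂ σ.invariants, by rw [← h, ← mul_assoc, mul_inv_cancel₀ hP, one_mul]⟩

end Cfsg.Agent.S0189
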