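import Cfsg.Statements.S0191
import Cfsg.Agent.Lib.BC78.Galois
import Cfsg.Agent.Lib.BC78.Norm
import Cfsg.Agent.Lib.GaloisMean.Basic
import Mathlib
-- import your own Cfsg.Agent.* helpers here

set_option autoImplicit false
open Cfsg

namespace Cfsg.Agent.S0191

/-- An irreducible complex representation of a finite group of degree greater than 1 has a character that vanishes somewhere. -/
theorem result {G : Type*} [Group G] [Finite G] {V : Type*} [AddCommGroup V] [Module ℂ V] [FiniteDimensional ℂ V] (ρ : Representation ℂ G V) [ρ.IsIrreducible] (hdeg : 1 < Module.finrank ℂ V) : ∃ g : G, ρ.character g = 0 := by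
  classical
  haveI := Fintype.ofFinite G
  by_contra hcon
  push Not at hcon
  have hirr := Cfsg.Agent.Lib.Characters.Basic.isIrrCharacter_character ρ
  have hsum := Cfsg.Agent.Lib.BC78.Norm.sum_normSq hirr
  have hcl := Cfsg.Agent.Lib.BC78.Galois.card_le_sum_normSq
    (Cfsg.Agent.Lib.Characters.Basic.isCharacter_character ρ) (Finset.univ.erase (1 : G)) (fun g hg k hk => by
      refine Finset.mem_erase.mpr ⟨fun h => (Finset.mem_erase.mp hg).1 ?_, Finset.mem_univ _⟩
      obtain ⟨m, hm⟩ := exists_pow_eq_self_of_coprime (hk.coprime_dvd_right (orderOf_dvd_natCard g))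
      rw [← hm, h, one_pow]) (fun g _ => hcon g)
  rw [← Finset.add_sum_erase _ _ (Finset.mem_univ (1 : G)), Representation.char_one,
    Complex.normSq_natCast] at hsum
  rw [Finset.card_erase_of_mem (Finset.mem_univ _), Finset.card_univ, ← Nat.card_eq_fintype_card,
    Nat.cast_sub Nat.card_pos, Nat.cast_one] at hcl
  have h2 : (2 : ℝ) ≤ (Module.finrank ℂ V : ℝ) := by exact_mod_cast hdeg
  nlinarith

end Cfsg.Agent.S0191
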