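import Cfsg.Statements.S0192
import Cfsg.Agent.Lib.Characters.Complete
import Mathlib
-- import your own Cfsg.Agent.* helpers here

set_option autoImplicit false
open Cfsg

namespace Cfsg.Agent.S0192

/-- Brauer's generation criterion. Let G be a finite simple group, H₁ and H₂ subgroups, and χ a non-principal irreducible character. If the multiplicity of the principal character in χ restricted to H₁ ⊓ H₂ is less than the sum of the corresponding multiplicities for H₁ and H₂, then H₁ and H₂ do not generate G. -/
theorem result {G : Type*} [Group G] [Fintype G] [IsSimpleGroup G] (H₁ H₂ : Subgroup G) [Fintype H₁] [Fintype H₂] [Fintype ↥(H₁ ⊓ H₂)] (χ : G → ℂ) (hχ : Cfsg.IsIrrCharacter G χ) (hχ1 : χ ≠ fun _ => 1) (hlt : (Cfsg.classInner (fun x : ↥(H₁ ⊓ H₂) => χ x) (fun _ => 1)).re < (Cfsg.classInner (fun x : H₁ => χ x) (fun _ => 1)).re + (Cfsg.classInner (fun x : H₂ => χ x) (fun _ => 1)).re) : H₁ ⊔ H₂ ≠ ⊤ := by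
  classical
  obtain ⟨n, ρ, hρ, rfl⟩ := hχ
  intro htop
  let inv : Subgroup G → Submodule ℂ (Fin n → ℂ) := fun K =>
    Representation.invariants (ρ.comp K.subtype)
  have hre : ∀ (K : Subgroup G) [Fintype K],
      (Cfsg.classInner (fun x : K => ρ.character x) (fun _ => 1)).re =
        Module.finrank ℂ (inv K) := by
    intro K _
    letI : Invertible (Nat.card K : ℂ) :=
      invertibleOfNonzero (Cfsg.Agent.Lib.Induced.Basic.subgroup_card_ne_zero K)
    have h := Representation.card_inv_mul_sum_char_eq_finrank (ρ.comp K.subtype)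
    have h' : Cfsg.classInner (fun x : K => ρ.character x) (fun _ => 1) =
        (Module.finrank ℂ (inv K) : ℂ) := by
      rw [← h, Cfsg.classInner]
      simp only [map_one, mul_one]
      rfl
    rw [h', Complex.natCast_re]
  rw [hre, hre, hre] at hlt
  have hmono : ∀ K L : Subgroup G, K ≤ L → inv L ≤ inv K := fun K L hKL v hv x =>
    hv ⟨x, hKL x.2⟩
  have hbot : inv H₁ ⊓ inv H₂ = ⊥ := by
    rw [eq_bot_iff]
    intro v hv
    rw [Submodule.mem_bot]
    by_contra hv0
    have hfix : ∀ g : G, ρ g v = v := by
      intro g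
      have hg : g ∈ H₁ ⊔ H₂ := htop ▸ Subgroup.mem_top g
      rw [Subgroup.sup_eq_closure] at hg
      induction hg using Subgroup.closure_induction with
      | mem x hx =>
        rcases hx with hx | hx
        · exact hv.1 ⟨x, hx⟩
        · exact hv.2 ⟨x, hx⟩
      | one => simp
      | mul x y _ _ hx hy => rw [map_mul, Module.End.mul_apply, hy, hx]
      | inv x _ hx =>
        conv_lhs => rw [← hx]
        rw [← Module.End.mul_apply, ← map_mul, inv_mul_cancel, map_one, Module.End.one_apply]
    let L : Subrepresentation ρ := ⟨Submodule.span ℂ {v}, by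
      intro g w hw
      obtain ⟨c, rfl⟩ := Submodule.mem_span_singleton.mp hw
      rw [map_smul, hfix]
      exact Submodule.smul_mem _ c (Submodule.mem_span_singleton_self v)⟩
    rcases hρ.eq_bot_or_eq_top L with hL | hL
    · have h1 : Submodule.span ℂ {v} = ⊥ := congrArg Subrepresentation.toSubmodule hL
      exact hv0 (Submodule.span_singleton_eq_bot.mp h1)
    · have hLtop : Submodule.span ℂ {v} = ⊤ := congrArg Subrepresentation.toSubmodule hL
      have hone : ∀ g : G, ρ g = 1 := fun g => LinearMap.ext fun w => by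
        obtain ⟨c, rfl⟩ := Submodule.mem_span_singleton.mp (hLtop ▸ Submodule.mem_top (x := w))
        rw [map_smul, hfix, Module.End.one_apply]
      apply hχ1
      funext g
      have hdim : Module.finrank ℂ (Fin n → ℂ) = 1 := by
        rw [← finrank_top ℂ, ← hLtop, finrank_span_singleton hv0]
      rw [Representation.character, hone, LinearMap.trace_one, hdim, Nat.cast_one]
  have key := Submodule.finrank_sup_add_finrank_inf_eq (inv H₁) (inv H₂)
  rw [hbot, finrank_bot] at key
  have hle : inv H₁ ⊔ inv H₂ ≤ inv (H₁ ⊓ H₂) :=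
    sup_le (hmono _ _ inf_le_left) (hmono _ _ inf_le_right)
  have := Submodule.finrank_mono hle
  have h3 : Module.finrank ℂ (inv (H₁ ⊓ H₂)) <
      Module.finrank ℂ (inv H₁) + Module.finrank ℂ (inv H₂) := by exact_mod_cast hlt
  omega

end Cfsg.Agent.S0192
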