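import Cfsg.Statements.S0194
import Cfsg.Agent.Lib.Induced.Mackey
import Cfsg.Agent.Lib.Characters.Linear
import Cfsg.Agent.Lib.Characters.Degree
import Mathlib
-- import your own Cfsg.Agent.* helpers here

set_option autoImplicit false
open scoped ComplexConjugate
open Cfsg

namespace Cfsg.Agent.S0194

/-- Let G have odd order, H be a normal subgroup and θ a non-principal irreducible character of H. Then the function induced from θ is orthogonal to its complex conjugate. -/
theorem result {G : Type*} [Group G] [Fintype G] (hodd : Odd (Nat.card G)) (H : Subgroup G) [H.Normal] (θ : H → ℂ) (hθ : Cfsg.IsIrrCharacter H θ) (hθ1 : θ ≠ fun _ => 1) : Cfsg.classInner (fun g => conj (Cfsg.indFun H θ g)) (Cfsg.indFun H θ) = 0 := by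
  classical
  have hθbar := Cfsg.Agent.Lib.Characters.Linear.isIrrCharacter_conj hθ
  have key := Cfsg.Agent.Lib.Induced.Mackey.card_mul_classInner_indFun H hθbar hθ
  have hfun : (fun g => conj (Cfsg.indFun H θ g)) = Cfsg.indFun H (fun h => conj (θ h)) :=
    funext fun g => Cfsg.Agent.Lib.Induced.Basic.indFun_conj_fun H θ g
  rw [hfun]
  have : IsEmpty {g : G // Cfsg.Agent.Lib.Clifford.Basic.conjC H g θ = fun h => conj (θ h)} := by
    refine ⟨fun ⟨g, hg⟩ => hθ1 ?_⟩
    -- `g` maps `θ` to its conjugate, so `g ^ 2` fixes `θ`; `g` has odd order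
    have hconjC : ∀ η : H → ℂ, Cfsg.Agent.Lib.Clifford.Basic.conjC H g (fun h => conj (η h)) =
        fun h => conj (Cfsg.Agent.Lib.Clifford.Basic.conjC H g η h) := fun η => rfl
    have hg2 : g * g ∈ Cfsg.Agent.Lib.Clifford.Basic.inertia H θ := by
      rw [Cfsg.Agent.Lib.Clifford.Basic.mem_inertia, Cfsg.Agent.Lib.Clifford.Basic.conjC_mul,
        hg, hconjC, hg]
      funext h
      exact Complex.conj_conj _
    have hgI : g ∈ Cfsg.Agent.Lib.Clifford.Basic.inertia H θ := by
      obtain ⟨m, hm⟩ := hodd.of_dvd_nat (orderOf_dvd_natCard g)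
      have h2 := pow_mem hg2 (m + 1)
      rwa [← pow_two, ← pow_mul, show 2 * (m + 1) = orderOf g + 1 by omega, pow_succ,
        pow_orderOf_eq_one, one_mul] at h2
    have hreal : ∀ h : H, conj (θ h) = θ h := fun h => by
      rw [Cfsg.Agent.Lib.Clifford.Basic.mem_inertia, hg] at hgI
      exact congrFun hgI h
    by_contra hne
    have := Fintype.ofFinite H
    have horth := Cfsg.Agent.Lib.Characters.Basic.classInner_irr_of_ne
      (χ := ⟨θ, hθ⟩) (ψ := Cfsg.Agent.Lib.Characters.Basic.oneChar H)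
      (fun e => hne (congrArg Subtype.val e))
    simp only [Cfsg.classInner, Cfsg.Agent.Lib.Characters.Basic.oneChar_apply, map_one, mul_one,
      mul_eq_zero, inv_eq_zero, Cfsg.Agent.Lib.Induced.Basic.natCard_ne_zero, false_or] at horth
    have hodd' : Odd (Nat.card H) := hodd.of_dvd_nat H.card_subgroup_dvd_card
    obtain ⟨d, hd0, hd, hd1⟩ := Cfsg.Agent.Lib.Characters.Degree.exists_degree_dvd
      (⟨θ, hθ⟩ : Cfsg.IrrCharacter H)
    obtain ⟨l, hl⟩ := hodd'.of_dvd_nat hd
    have hcl : Cfsg.IsCharacter H θ :=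
      Cfsg.Agent.Lib.Characters.Basic.IsCharacter_of_isIrrCharacter hθ
    have hsym : ∀ h : H, θ h⁻¹ = θ h := fun h => by
      rw [Cfsg.Agent.Lib.Characters.Basic.apply_inv hcl, hreal]
    have hno : ∀ h : H, h⁻¹ = h → h = 1 := fun h hh => by
      have : h ^ 2 = 1 := by
        calc h ^ 2 = h * h := pow_two h
          _ = h * h⁻¹ := by rw [hh]
          _ = 1 := mul_inv_cancel h
      have h1 : orderOf h ∣ Nat.gcd 2 (Nat.card H) :=
        Nat.dvd_gcd (orderOf_dvd_of_pow_eq_one this) (orderOf_dvd_natCard h)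
      rw [(Nat.coprime_two_left.mpr hodd').gcd_eq_one, Nat.dvd_one, orderOf_eq_one_iff] at h1
      exact h1
    let r : H ≃ Fin (Fintype.card H) := Fintype.equivFin H
    set S := (Finset.univ.erase (1 : H)).filter fun h => r h < r h⁻¹ with hS
    set T := (Finset.univ.erase (1 : H)).filter fun h => ¬ r h < r h⁻¹ with hT
    have hST : ∑ h ∈ T, θ h = ∑ h ∈ S, θ h := by
      refine Finset.sum_equiv (Equiv.inv H) (fun h => ?_) (fun h _ => (hsym h).symm)
      simp only [hS, hT, Finset.mem_filter, Finset.mem_erase, Finset.mem_univ, and_true,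
        Equiv.inv_apply, inv_inv, ne_eq, inv_eq_one]
      refine and_congr_right fun h1 => ⟨fun h2 => lt_of_le_of_ne (not_lt.mp h2) fun e => h1 ?_,
        fun h2 => not_lt.mpr h2.le⟩
      exact hno h (r.injective e)
    rw [← Finset.add_sum_erase _ _ (Finset.mem_univ (1 : H)),
      ← Finset.sum_filter_add_sum_filter_not (Finset.univ.erase (1 : H))
        (fun h => r h < r h⁻¹) θ, ← hS, ← hT, hST, (show θ 1 = (d : ℂ) from hd1)] at horth
    have hint : IsIntegral ℤ ((l : ℂ) + ∑ h ∈ S, θ h) :=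
      (isIntegral_algebraMap (R := ℤ) (x := (l : ℤ))).add
        (IsIntegral.sum _ fun h _ => Cfsg.Agent.Lib.Characters.Basic.isIntegral_apply hcl h)
    have hval : (l : ℂ) + ∑ h ∈ S, θ h = algebraMap ℚ ℂ (-(1 / 2)) := by
      rw [hl] at horth
      push_cast at horth
      rw [map_neg, map_div₀, map_one, map_ofNat]
      linear_combination horth / 2
    rw [hval, isIntegral_algebraMap_iff (algebraMap ℚ ℂ).injective,
      IsIntegrallyClosed.isIntegral_iff] at hint
    obtain ⟨z, hz⟩ := hint
    have h2 : (2 * z + 1 : ℚ) = 0 := by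
      rw [← eq_intCast (algebraMap ℤ ℚ), hz]; norm_num
    have : 2 * z + 1 = 0 := by exact_mod_cast h2
    omega
  rw [Nat.card_of_isEmpty (α := {g : G // Cfsg.Agent.Lib.Clifford.Basic.conjC H g θ =
    fun h => conj (θ h)}), Nat.cast_zero, mul_eq_zero] at key
  exact key.resolve_left (Cfsg.Agent.Lib.Induced.Basic.subgroup_card_ne_zero H)

end Cfsg.Agent.S0194
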