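import Cfsg.Statements.S0196
import Mathlib
-- import your own Cfsg.Agent.* helpers here

set_option autoImplicit false
open Cfsg

namespace Cfsg.Agent.S0196

/-- Let A be a subgroup of a finite group G that equals the centralizer of each of its non-identity elements, and let N be its normalizer. Then the index of A in N divides |A| − 1 (N/A permutes the non-identity elements of A in orbits of full length). -/
theorem result {G : Type*} [Group G] [Finite G] (A : Subgroup G) (hA : ∀ x ∈ A, x ≠ 1 → Subgroup.centralizer ({x} : Set G) = A) : (A.subgroupOf (Subgroup.normalizer (A : Set G))).index ∣ Nat.card A - 1 := by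
  classical
  set N := Subgroup.normalizer (A : Set G) with hN
  let X := {x : G // x ∈ A ∧ x ≠ 1}
  have hconj : ∀ (n : N) (x : G), x ∈ A → (n : G) * x * (n : G)⁻¹ ∈ A := fun n x hx =>
    ((Subgroup.mem_set_normalizer_iff.mp n.2) x).mp hx
  letI actInst : MulAction N X :=
    { smul := fun n x => ⟨(n : G) * x.1 * (n : G)⁻¹, hconj n x.1 x.2.1,
        by simpa [mul_eq_one_iff_eq_inv] using x.2.2⟩
      one_smul := fun x => Subtype.ext (by
        show ((1 : N) : G) * x.1 * ((1 : N) : G)⁻¹ = x.1
        simp)
      mul_smul := fun m n x => Subtype.ext (by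
        show ((m * n : N) : G) * x.1 * ((m * n : N) : G)⁻¹ =
          (m : G) * ((n : G) * x.1 * (n : G)⁻¹) * (m : G)⁻¹
        simp [mul_assoc]) }
  have hstab : ∀ x : X, MulAction.stabilizer N x = A.subgroupOf N := by
    intro x
    ext n
    rw [MulAction.mem_stabilizer_iff, Subgroup.mem_subgroupOf]
    have hc := hA x.1 x.2.1 x.2.2
    constructor
    · intro h
      have h' : (n : G) * x.1 * (n : G)⁻¹ = x.1 := congrArg Subtype.val h
      rw [← hc, Subgroup.mem_centralizer_singleton_iff]
      calc (n : G) * x.1 = (n : G) * x.1 * (n : G)⁻¹ * n := by group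
        _ = x.1 * n := by rw [h']
    · intro h
      rw [← hc, Subgroup.mem_centralizer_singleton_iff] at h
      apply Subtype.ext
      show (n : G) * x.1 * (n : G)⁻¹ = x.1
      rw [h]; group
  have horb : ∀ ω : Quotient (MulAction.orbitRel N X),
      Nat.card (MulAction.orbitRel.Quotient.orbit ω) = (A.subgroupOf N).index := by
    intro ω
    induction ω using Quotient.inductionOn' with
    | h x =>
      rw [MulAction.orbitRel.Quotient.orbit_mk, Nat.card_coe_set_eq, ← MulAction.index_stabilizer,
        hstab]
  have := Fintype.ofFinite (Quotient (MulAction.orbitRel N X))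
  have hX : Nat.card X = Nat.card A - 1 := by
    have e : X ≃ {a : A // ¬ a = 1} :=
      { toFun := fun x => ⟨⟨x.1, x.2.1⟩, fun h => x.2.2 (congrArg Subtype.val h)⟩
        invFun := fun a => ⟨a.1.1, a.1.2, fun h => a.2 (Subtype.ext h)⟩
        left_inv := fun x => rfl
        right_inv := fun a => rfl }
    have := Fintype.ofFinite A
    rw [Nat.card_congr e, Nat.card_eq_fintype_card, Nat.card_eq_fintype_card,
      Fintype.card_subtype_compl, Fintype.card_subtype_eq]
  rw [← hX, Nat.card_congr (MulAction.selfEquivSigmaOrbits' N X), Nat.card_sigma]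
  exact Finset.dvd_sum fun ω _ => by rw [horb]

end Cfsg.Agent.S0196
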