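import Cfsg.Statements.S0211
import Cfsg.Agent.Lib.Involutions.Basic


set_option autoImplicit false
open Cfsg

namespace Cfsg.Agent.S0211

/-- Let x, y be involutions with xy of even order n and z = (xy)^(n/2). Then xz is conjugate to x by an element of the subgroup generated by x, y if and only if 4 divides n. -/
theorem result {G : Type*} [Group G] [Finite G] (x y : G) (hx : orderOf x = 2) (hy : orderOf y = 2) (heven : Even (orderOf (x * y))) : (∃ d ∈ Subgroup.closure ({x, y} : Set G), d * x * d⁻¹ = x * (x * y) ^ (orderOf (x * y) / 2)) ↔ 4 ∣ orderOf (x * y) := by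
  rw [Cfsg.Agent.Lib.Involutions.Basic.exists_conj_mem_iff
    (Cfsg.Agent.Lib.Involutions.Basic.invol_mul_self hx)
    (Cfsg.Agent.Lib.Involutions.Basic.invol_mul_self hy)]
  obtain ⟨m, hm⟩ := heven
  have hhalf : orderOf (x * y) / 2 = m := by omega
  have hpos := orderOf_pos (x * y)
  rw [hhalf]
  constructor
  · rintro ⟨k, hk⟩
    have h1 : (x * y) ^ (2 * k - (m : ℤ)) = 1 := by
      rw [zpow_sub, zpow_natCast, mul_inv_eq_one]
      exact (mul_left_cancel hk).symm
    have h2 := orderOf_dvd_iff_zpow_eq_one.2 h1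
    obtain ⟨c, hc⟩ := h2
    rw [hm] at hc
    push_cast at hc
    have : (2 : ℤ) ∣ (m : ℤ) := ⟨k - (m : ℤ) * c, by linarith⟩
    omega
  · rintro ⟨c, hc⟩
    refine ⟨(c : ℤ), ?_⟩
    rw [show m = 2 * c by omega, ← zpow_natCast]
    push_cast
    rfl

end Cfsg.Agent.S0211
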