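import Cfsg.Statements.S0212
import Cfsg.Agent.Lib.Involutions.BrauerFowler
import Cfsg.Agent.Lib.SmallGroups.Sylow


set_option autoImplicit false
open Cfsg

namespace Cfsg.Agent.S0212

/-- The Brauer–Fowler bound: if G is a finite simple group and t an involution of G whose centralizer has order n, then |G| ≤ (2n^2)!. -/
theorem result {G : Type*} [Group G] [Finite G] [IsSimpleGroup G] (t : G) (ht : orderOf t = 2) : Nat.card G ≤ Nat.factorial (2 * (Nat.card (Subgroup.centralizer ({t} : Set G))) ^ 2) := by
  classical
  have heven : Even (Nat.card G) := even_iff_two_dvd.2 (ht ▸ orderOf_dvd_natCard t)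
  set c := Nat.card (Subgroup.centralizer ({t} : Set G)) with hc
  have htC : t ∈ Subgroup.centralizer ({t} : Set G) :=
    Subgroup.mem_centralizer_singleton_iff.2 rfl
  have hc2 : 2 ≤ c := by
    have h1 := orderOf_dvd_natCard (⟨t, htC⟩ : Subgroup.centralizer ({t} : Set G))
    rw [Subgroup.orderOf_mk, ht] at h1
    exact Nat.le_of_dvd Nat.card_pos h1
  rcases le_or_gt (Nat.card G) (2 * c ^ 2) with h | h
  · exact h.trans (Nat.self_le_factorial _)
  -- the centre is trivial
  have hcent : ∀ u : G, orderOf u = 2 → u ∉ Subgroup.center G := by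
    intro u hu huc
    rcases IsSimpleGroup.eq_bot_or_eq_top_of_normal (Subgroup.center G) inferInstance with hb | hb
    · rw [hb, Subgroup.mem_bot] at huc
      exact Cfsg.Agent.Lib.Involutions.Basic.invol_ne_one hu huc
    · have htop : Subgroup.centralizer ({t} : Set G) = ⊤ := top_le_iff.1 fun a _ =>
        Subgroup.mem_centralizer_singleton_iff.2
          ((Subgroup.mem_center_iff.1 (hb ▸ Subgroup.mem_top t)) a)
      rw [hc, htop, Subgroup.card_top] at h
      nlinarith
  obtain ⟨H, hH, hcase⟩ :=
    Cfsg.Agent.Lib.Involutions.BrauerFowler.exists_small_index heven hcent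
  have hi : H.index ≤ 2 * c ^ 2 := by
    rcases hcase with h2 | h2
    · rw [h2]; nlinarith
    · by_contra hlt
      push Not at hlt
      have horb := Cfsg.Agent.Lib.Involutions.BrauerFowler.card_le_card_invol_mul ht
      have hn : Nat.card {u : G // orderOf u = 2} ≤ Nat.card G := Finite.card_subtype_le _
      rw [← hc] at horb
      have h3 := Nat.mul_le_mul horb horb
      nlinarith
  refine le_trans ?_ (Nat.factorial_le hi)
  have hinj := Cfsg.Agent.Lib.SmallGroups.Sylow.toPermHom_injective hH
  have hle := Nat.card_le_card_of_injective _ hinj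
  rwa [Nat.card_perm] at hle

end Cfsg.Agent.S0212
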