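import Cfsg.Statements.S0228
import Cfsg.Agent.Lib.Involutions.Basic
import Cfsg.Agent.Lib.SmallGroups.Sylow


set_option autoImplicit false
open Cfsg

namespace Cfsg.Agent.S0228

/-- A group of order 12 in which no involution is central is isomorphic to the alternating group on four letters. -/
theorem result {G : Type*} [Group G] [Finite G] (hG : Nat.card G = 12) (hz : ∀ z : G, orderOf z = 2 → z ∉ Subgroup.center G) : Nonempty (G ≃* alternatingGroup (Fin 4)) := by
  classical
  obtain ⟨P⟩ := (inferInstance : Nonempty (Sylow 3 G))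
  have hPc : Nat.card (P : Subgroup G) = 3 := by
    simpa using Cfsg.Agent.Lib.SmallGroups.Sylow.card_sylow_eq P (a := 1) (m := 4)
      (by rw [hG]; norm_num) (by norm_num)
  have hdvd : Nat.card (Sylow 3 G) ∣ 4 :=
    Cfsg.Agent.Lib.SmallGroups.Sylow.card_sylow_dvd (p := 3) (a := 1) (m := 4)
      (by rw [hG]; norm_num) (by norm_num)
  have hmod := Cfsg.Agent.Lib.SmallGroups.Sylow.card_sylow_mod (G := G) (p := 3)
  have hle := Nat.le_of_dvd (by norm_num) hdvd
  have hn : Nat.card (Sylow 3 G) = 1 ∨ Nat.card (Sylow 3 G) = 4 := by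
    generalize hk : Nat.card (Sylow 3 G) = k at hdvd hmod hle
    interval_cases k <;> simp_all
  rcases hn with hn | hn
  · -- a normal Sylow 3-subgroup is centralised by an involution, which is then central
    exfalso
    have : Subsingleton (Sylow 3 G) := (Nat.card_eq_one_iff_unique.1 hn).1
    have hPn : (P : Subgroup G).Normal := P.normal_of_subsingleton
    obtain ⟨t, ht, htC⟩ : ∃ t : G, orderOf t = 2 ∧ ∀ p ∈ (P : Subgroup G), p * t = t * p := by
      have heven : Even (Nat.card (Subgroup.centralizer ((P : Subgroup G) : Set G))) := by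
        have hcard := (Subgroup.centralizer ((P : Subgroup G) : Set G)).card_mul_index
        have haut : (Subgroup.centralizer ((P : Subgroup G) : Set G)).index ∣ 2 := by
          have hker : (MulAut.conjNormal (H := (P : Subgroup G))).ker =
              Subgroup.centralizer ((P : Subgroup G) : Set G) := by
            ext g
            rw [MonoidHom.mem_ker, MulEquiv.ext_iff, Subgroup.mem_centralizer_iff]
            refine ⟨fun h p hp => ?_, fun h p => Subtype.ext ?_⟩
            · have := congrArg Subtype.val (h ⟨p, hp⟩)
              rw [MulAut.conjNormal_apply] at this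
              exact (mul_inv_eq_iff_eq_mul.1 this).symm
            · rw [MulAut.conjNormal_apply, ← h p.1 p.2, mul_inv_cancel_right]
              rfl
          rw [← hker, Subgroup.index_ker]
          refine (Subgroup.card_subgroup_dvd_card _).trans ?_
          have : IsCyclic (P : Subgroup G) := isCyclic_of_prime_card (p := 3) hPc
          rw [IsCyclic.card_mulAut, hPc, Nat.totient_prime (by norm_num)]
        rcases (Nat.dvd_prime Nat.prime_two).1 haut with h | h <;> rw [h, hG] at hcard
        · exact ⟨6, by omega⟩
        · exact ⟨3, by omega⟩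
      obtain ⟨t, ht⟩ := Cfsg.Agent.Lib.Involutions.Basic.exists_invol heven
      exact ⟨t, by rw [Subgroup.orderOf_coe]; exact ht, fun p hp => t.2 p hp⟩
    refine hz t ht ?_
    have hpt : IsPGroup 2 (Subgroup.zpowers t) :=
      IsPGroup.of_card (n := 1) (by rw [Nat.card_zpowers, ht, pow_one])
    obtain ⟨S, hS⟩ := hpt.exists_le_sylow
    have hSc : Nat.card (S : Subgroup G) = 4 := by
      simpa using Cfsg.Agent.Lib.SmallGroups.Sylow.card_sylow_eq S (a := 2) (m := 3)
        (by rw [hG]; norm_num) (by norm_num)
    have hScomm : IsMulCommutative (S : Subgroup G) :=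
      ⟨⟨fun a b => IsPGroup.commutative_of_card_eq_prime_sq (p := 2) (by rw [hSc]; norm_num) a b⟩⟩
    have htS : t ∈ (S : Subgroup G) := hS (Subgroup.mem_zpowers t)
    have hcent : (P : Subgroup G) ⊔ (S : Subgroup G) ≤ Subgroup.centralizer ({t} : Set G) :=
      sup_le (fun p hp => Subgroup.mem_centralizer_singleton_iff.2 (htC p hp))
        (fun s hs => Subgroup.mem_centralizer_singleton_iff.2 (setLike_mul_comm hs htS))
    have htop : (P : Subgroup G) ⊔ (S : Subgroup G) = ⊤ := by
      refine Subgroup.eq_top_of_le_card _ ?_
      have h3 := Subgroup.card_dvd_of_le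
        (le_sup_left : (P : Subgroup G) ≤ (P : Subgroup G) ⊔ (S : Subgroup G))
      have h4 := Subgroup.card_dvd_of_le
        (le_sup_right : (S : Subgroup G) ≤ (P : Subgroup G) ⊔ (S : Subgroup G))
      rw [hPc] at h3
      rw [hSc] at h4
      rw [hG]
      exact Nat.le_of_dvd Nat.card_pos (Nat.Coprime.mul_dvd_of_dvd_of_dvd (by norm_num) h3 h4)
    rw [Subgroup.mem_center_iff]
    intro g
    exact Subgroup.mem_centralizer_singleton_iff.1 (hcent (htop ▸ Subgroup.mem_top g))
  · -- the action on the four Sylow 3-subgroups is faithful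
    let f := MulAction.toPermHom G (Sylow 3 G)
    have hfix : ∀ g ∈ f.ker, ∀ Q : Sylow 3 G, g ∈ (Q : Subgroup G) := by
      intro g hg Q
      have hgQ : g ∈ Subgroup.normalizer ((Q : Subgroup G) : Set G) :=
        Sylow.smul_eq_iff_mem_normalizer.1 (Equiv.Perm.ext_iff.1 hg Q)
      have hQc : Nat.card (Q : Subgroup G) = 3 := by
        simpa using Cfsg.Agent.Lib.SmallGroups.Sylow.card_sylow_eq Q (a := 1) (m := 4)
          (by rw [hG]; norm_num) (by norm_num)
      have hN := Cfsg.Agent.Lib.SmallGroups.Sylow.card_normalizer_mul Q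
      rw [hn, hG] at hN
      have := Subgroup.eq_of_le_of_card_ge (Subgroup.le_normalizer (H := (Q : Subgroup G)))
        (by omega)
      exact this ▸ hgQ
    have hker : Function.Injective f := by
      rw [injective_iff_map_eq_one]
      intro g hg
      by_contra hg1
      have hall : ∀ Q : Sylow 3 G, (Q : Subgroup G) = Subgroup.zpowers g := by
        intro Q
        have hQc : Nat.card (Q : Subgroup G) = 3 := by
          simpa using Cfsg.Agent.Lib.SmallGroups.Sylow.card_sylow_eq Q (a := 1) (m := 4)
            (by rw [hG]; norm_num) (by norm_num)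
        refine (Subgroup.eq_of_le_of_card_ge (Subgroup.zpowers_le.2 (hfix g hg Q)) ?_).symm
        have hd : orderOf g ∣ 3 := hQc ▸ Subgroup.orderOf_mk g (hfix g hg Q) ▸
          orderOf_dvd_natCard (⟨g, hfix g hg Q⟩ : (Q : Subgroup G))
        rcases (Nat.dvd_prime Nat.prime_three).1 hd with h | h
        · exact absurd (orderOf_eq_one_iff.1 h) hg1
        · rw [hQc, Nat.card_zpowers, h]
      have : Subsingleton (Sylow 3 G) := ⟨fun A B => Sylow.ext ((hall A).trans (hall B).symm)⟩
      have := Finite.card_le_one_iff_subsingleton.2 this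
      omega
    have : Fintype (Sylow 3 G) := Fintype.ofFinite _
    have e : Sylow 3 G ≃ Fin 4 := Finite.equivFinOfCardEq hn
    let F : G →* Equiv.Perm (Fin 4) := (Equiv.permCongrHom e).toMonoidHom.comp f
    have hF : Function.Injective F := (Equiv.permCongrHom e).injective.comp hker
    have hidx : F.range.index = 2 := by
      have h1 := F.range.card_mul_index
      rw [← Nat.card_congr (MonoidHom.ofInjective hF).toEquiv, hG, Nat.card_perm,
        Nat.card_fin] at h1
      norm_num [Nat.factorial] at h1
      omega
    exact ⟨(MonoidHom.ofInjective hF).trans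
      (MulEquiv.subgroupCongr (Equiv.Perm.eq_alternatingGroup_of_index_eq_two hidx))⟩

end Cfsg.Agent.S0228
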