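import Cfsg.Statements.S0234
import Cfsg.Agent.Lib.Involutions.BrauerFowler
import Cfsg.Agent.Lib.Involutions.IndexTwo
import Cfsg.Agent.Lib.SmallGroups.Sylow


set_option autoImplicit false
open Cfsg

namespace Cfsg.Agent.S0234

/-- In a finite simple group G of even order greater than 2, the number n of involutions satisfies 3n < |G|. -/
theorem result {G : Type*} [Group G] [Finite G] [IsSimpleGroup G] (heven : Even (Nat.card G)) (hgt : 2 < Nat.card G) : 3 * Nat.card {t : G // orderOf t = 2} < Nat.card G := by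
  classical
  have hnc : ¬ IsMulCommutative G := by
    refine Cfsg.Agent.Lib.SmallGroups.Sylow.not_comm_of_card fun hp => ?_
    obtain ⟨m, hm⟩ := heven
    rcases hp.eq_one_or_self_of_dvd 2 ⟨m, by omega⟩ with h | h <;> omega
  have hdvd : ∀ H : Subgroup G, H ≠ ⊤ → 2 * Nat.card G ∣ H.index.factorial := fun H hH =>
    Cfsg.Agent.Lib.SmallGroups.Sylow.two_mul_card_dvd_factorial hnc hH
  have hno2 : ∀ H : Subgroup G, H.index ≠ 2 := fun H h => by
    have h1 := hdvd H fun h' => by rw [h', Subgroup.index_top] at h; omega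
    rw [h] at h1
    have := Nat.le_of_dvd (Nat.factorial_pos 2) h1
    simp only [Nat.factorial] at this
    omega
  have h4 : 4 ∣ Nat.card G := by
    by_contra h
    obtain ⟨H, hH⟩ := Cfsg.Agent.Lib.Involutions.IndexTwo.exists_index_two_of_mod_four
      (G := G) (by obtain ⟨m, hm⟩ := heven; omega)
    exact hno2 H hH
  have hcent : ∀ u : G, orderOf u = 2 → u ∉ Subgroup.center G := fun u hu huc => by
    rw [Cfsg.Agent.Lib.SmallGroups.Sylow.center_eq_bot hnc, Subgroup.mem_bot] at huc
    exact Cfsg.Agent.Lib.Involutions.Basic.invol_ne_one hu huc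
  obtain ⟨H, hH, hcase⟩ :=
    Cfsg.Agent.Lib.Involutions.BrauerFowler.exists_small_index heven hcent
  have hcase := hcase.resolve_left (hno2 H)
  set n := Nat.card {t : G // orderOf t = 2} with hn
  set N := Nat.card G with hN
  by_contra hcon
  push Not at hcon
  have hle : n ≤ N := Finite.card_subtype_le _
  have h5 : H.index ≤ 5 := by
    by_contra h
    push Not at h
    have h6 := Nat.mul_le_mul hcon hcon
    nlinarith
  have hdiv := hdvd H hH
  have hidx : 0 < H.index := Nat.pos_of_ne_zero Subgroup.index_ne_zero_of_finite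
  have hHdvd : H.index ∣ N := H.index_dvd_card
  have hcases : N = 4 ∨ N = 12 ∨ N = 20 ∨ N = 60 := by
    have h8 : N ∣ 60 ∧ 4 ∣ N := by
      refine ⟨?_, h4⟩
      have : H.index.factorial ∣ 120 := Nat.factorial_dvd_factorial h5
      exact Nat.dvd_of_mul_dvd_mul_left (by norm_num : 0 < 2) (hdiv.trans this)
    have h9 := Nat.le_of_dvd (by norm_num) h8.1
    obtain ⟨⟨a, ha⟩, b, hb⟩ := h8
    have : b ≤ 15 := by omega
    rw [hb] at ha ⊢
    interval_cases b <;> omega
  -- exclude the small orders by finding subgroups of small index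
  have hsyl : ∀ p k m : ℕ, p.Prime → N = p ^ k * m → 1 < m → ¬ p ∣ m →
      ∃ P : Subgroup G, P ≠ ⊤ ∧ P.index = m := by
    intro p k m hp hNm hm hpm
    have := Fact.mk hp
    obtain ⟨P⟩ := (inferInstance : Nonempty (Sylow p G))
    have := Cfsg.Agent.Lib.SmallGroups.Sylow.index_sylow_eq P hNm hpm
    exact ⟨P, fun h => by rw [h, Subgroup.index_top] at this; omega, this⟩
  rcases hcases with h | h | h | h
  · obtain ⟨P, hP⟩ := Sylow.exists_subgroup_card_pow_prime (G := G) (n := 1) 2
      (by rw [← hN, h]; norm_num)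
    have := P.card_mul_index
    rw [← hN, hP, h] at this
    exact hno2 P (by omega)
  · obtain ⟨P, hP1, hP2⟩ := hsyl 2 2 3 Nat.prime_two h (by norm_num) (by norm_num)
    have := hdvd P hP1
    rw [hP2, h] at this
    norm_num [Nat.factorial] at this
  · obtain ⟨P, hP1, hP2⟩ := hsyl 5 1 4 (by norm_num) h (by norm_num) (by norm_num)
    have := hdvd P hP1
    rw [hP2, h] at this
    norm_num [Nat.factorial] at this
  · have hi5 : H.index = 5 := by
      rw [h] at hdiv
      interval_cases hk : H.index <;> first | rfl | norm_num [Nat.factorial] at hdiv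
    obtain ⟨f, hf⟩ := Cfsg.Agent.Lib.SmallGroups.Sylow.exists_alt_embedding hnc hH hi5
    have hbound : n ≤ Nat.card {a : alternatingGroup (Fin 5) // a * a = 1 ∧ a ≠ 1} := by
      refine Nat.card_le_card_of_injective (fun t => ⟨f t.1, ?_, ?_⟩) fun a b hab => ?_
      · rw [← map_mul, Cfsg.Agent.Lib.Involutions.Basic.invol_mul_self t.2, map_one]
      · intro h1
        exact Cfsg.Agent.Lib.Involutions.Basic.invol_ne_one t.2 (hf (h1.trans (map_one f).symm))
      · exact Subtype.ext (hf (congrArg Subtype.val hab))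
    have h15 : Nat.card {a : alternatingGroup (Fin 5) // a * a = 1 ∧ a ≠ 1} = 15 := by
      rw [Nat.card_eq_fintype_card]
      decide +kernel
    omega

end Cfsg.Agent.S0234
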