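import Cfsg.Statements.S0236
import Cfsg.Agent.Lib.Involutions.Basic


set_option autoImplicit false
open Cfsg

namespace Cfsg.Agent.S0236

/-- If x is an involution, the number of ordered pairs (u, v) of involutions with uv = x, plus one, equals the number of involutions in the centralizer of x. -/
theorem result {G : Type*} [Group G] [Finite G] (x : G) (hx : orderOf x = 2) : Nat.card {p : G × G // orderOf p.1 = 2 ∧ orderOf p.2 = 2 ∧ p.1 * p.2 = x} + 1 = Nat.card {t : G // orderOf t = 2 ∧ Commute t x} := by
  classical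
  have hxi := Cfsg.Agent.Lib.Involutions.Basic.invol_inv hx
  have hxx := Cfsg.Agent.Lib.Involutions.Basic.invol_mul_self hx
  rw [Nat.card_congr (Cfsg.Agent.Lib.Involutions.Basic.pairsEquiv x)]
  have := Fintype.ofFinite G
  rw [Nat.card_eq_fintype_card, Fintype.card_subtype, Nat.card_eq_fintype_card, Fintype.card_subtype,
    ← Finset.card_insert_of_notMem (a := x) (by simp [hxx])]
  congr 1
  ext t
  simp only [Finset.mem_insert, Finset.mem_filter, Finset.mem_univ, true_and]
  constructor
  · rintro (rfl | ⟨h1, h2, -⟩)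
    · exact ⟨hx, Commute.refl _⟩
    · exact ⟨h1, by rw [hxi, mul_inv_eq_iff_eq_mul] at h2; exact h2⟩
  · rintro ⟨h1, h2⟩
    rcases eq_or_ne t x with h | h
    · exact Or.inl h
    · refine Or.inr ⟨h1, by rw [hxi, h2.eq, mul_inv_cancel_right], fun h3 => h ?_⟩
      rw [← inv_eq_of_mul_eq_one_left h3, hxi]

end Cfsg.Agent.S0236
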