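import Cfsg.Statements.S0240
import Cfsg.Agent.Lib.Involutions.Basic


set_option autoImplicit false
open Cfsg

namespace Cfsg.Agent.S0240

/-- Let G be a finite group with n involutions and H a subgroup with |H|·(n+1) > |G|. Then some nontrivial h ∈ H is strongly real in G: an involution t of G satisfies t h t⁻¹ = h⁻¹. -/
theorem result {G : Type*} [Group G] [Finite G] (H : Subgroup G) (hH : Nat.card G < Nat.card H * (Nat.card {t : G // orderOf t = 2} + 1)) : ∃ h : G, h ∈ H ∧ h ≠ 1 ∧ ∃ t : G, orderOf t = 2 ∧ t * h * t⁻¹ = h⁻¹ := by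
  by_contra hne
  push_neg at hne
  let f : Option {t : G // orderOf t = 2} → G ⧸ H := fun o =>
    QuotientGroup.mk (o.elim (1 : G) Subtype.val)
  have hinj : Function.Injective f := by
    rintro (_ | ⟨t, ht⟩) (_ | ⟨s, hs⟩) h
    · rfl
    · exfalso
      have hm : s ∈ H := by simpa [f, QuotientGroup.eq] using h
      exact hne s hm (Cfsg.Agent.Lib.Involutions.Basic.invol_ne_one hs) s hs
        (by rw [mul_inv_cancel_right, Cfsg.Agent.Lib.Involutions.Basic.invol_inv hs])
    · exfalso
      have hm : t ∈ H := by simpa [f, QuotientGroup.eq] using h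
      exact hne t hm (Cfsg.Agent.Lib.Involutions.Basic.invol_ne_one ht) t ht
        (by rw [mul_inv_cancel_right, Cfsg.Agent.Lib.Involutions.Basic.invol_inv ht])
    · rcases eq_or_ne t s with h' | h'
      · subst h'; rfl
      · exfalso
        have hm : t * s ∈ H := by
          simpa [f, QuotientGroup.eq, Cfsg.Agent.Lib.Involutions.Basic.invol_inv ht] using h
        refine hne (t * s) hm (fun h1 => h' ?_) t ht
          (Cfsg.Agent.Lib.Involutions.Basic.pair_inverts ht hs)
        rw [← inv_eq_of_mul_eq_one_right h1, Cfsg.Agent.Lib.Involutions.Basic.invol_inv ht]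
  have hle := Nat.card_le_card_of_injective f hinj
  rw [Finite.card_option] at hle
  have h2 : Nat.card H * H.index = Nat.card G := H.card_mul_index
  have := Nat.mul_le_mul_left (Nat.card H) hle
  rw [show Nat.card (G ⧸ H) = H.index from rfl, h2] at this
  omega

end Cfsg.Agent.S0240
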