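import Cfsg.Statements.S0241
import Cfsg.Agent.Lib.Involutions.Basic


set_option autoImplicit false
open Cfsg

namespace Cfsg.Agent.S0241

/-- If x ≠ 1 is conjugate to x⁻¹ in a finite group G and |C_G(x)| is odd, then some involution t satisfies t x t⁻¹ = x⁻¹. -/
theorem result {G : Type*} [Group G] [Finite G] (x : G) (hx : x ≠ 1) (hreal : IsConj x x⁻¹) (hodd : Odd (Nat.card (Subgroup.centralizer ({x} : Set G)))) : ∃ t : G, orderOf t = 2 ∧ t * x * t⁻¹ = x⁻¹ := by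
  obtain ⟨g, hg⟩ := isConj_iff.1 hreal
  obtain ⟨a, m, hm, hgm⟩ := Nat.exists_eq_pow_mul_and_not_dvd (orderOf_pos g).ne' 2 (by norm_num)
  have hm2 : Odd m := Nat.odd_iff.2 (by omega)
  obtain ⟨j, hj⟩ := hm2
  have hg2 : Commute (g ^ 2) x := by
    have : g ^ 2 * x * (g ^ 2)⁻¹ = x := by
      calc g ^ 2 * x * (g ^ 2)⁻¹ = g * (g * x * g⁻¹) * g⁻¹ := by
            rw [pow_two, mul_inv_rev]; simp only [mul_assoc]
        _ = g * x⁻¹ * g⁻¹ := by rw [hg]
        _ = (g * x * g⁻¹)⁻¹ := by group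
        _ = x := by rw [hg, inv_inv]
    exact mul_inv_eq_iff_eq_mul.1 this
  have hinv : g ^ m * x * (g ^ m)⁻¹ = x⁻¹ := by
    rw [hj, pow_succ', pow_mul]
    calc g * (g ^ 2) ^ j * x * (g * (g ^ 2) ^ j)⁻¹
        = g * ((g ^ 2) ^ j * x * ((g ^ 2) ^ j)⁻¹) * g⁻¹ := by group
      _ = g * x * g⁻¹ := by rw [(hg2.pow_left j).eq, mul_inv_cancel_right]
      _ = x⁻¹ := hg
  have hsq : (g ^ m) ^ 2 = 1 := by
    have hmem : (g ^ m) ^ 2 ∈ Subgroup.centralizer ({x} : Set G) := by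
      rw [Subgroup.mem_centralizer_singleton_iff, ← pow_mul, mul_comm m 2, pow_mul]
      exact (hg2.pow_left m).eq
    have h1 : orderOf ((g ^ m) ^ 2) ∣ Nat.card (Subgroup.centralizer ({x} : Set G)) := by
      have := orderOf_dvd_natCard (⟨_, hmem⟩ : Subgroup.centralizer ({x} : Set G))
      rwa [Subgroup.orderOf_mk] at this
    have h2 : orderOf ((g ^ m) ^ 2) ∣ 2 ^ a := by
      apply orderOf_dvd_of_pow_eq_one
      rw [← pow_mul, ← pow_mul, orderOf_dvd_iff_pow_eq_one.1]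
      rw [hgm]
      exact ⟨2, by ring⟩
    rw [← orderOf_eq_one_iff]
    exact Nat.eq_one_of_dvd_coprimes (hodd.coprime_two_left.pow_left a) h2 h1
  refine ⟨g ^ m, Cfsg.Agent.Lib.Involutions.Basic.invol_iff.2 ⟨by rw [← pow_two]; exact hsq, ?_⟩, hinv⟩
  intro h
  rw [h, one_mul, inv_one, mul_one] at hinv
  have hxx : orderOf x = 2 := Cfsg.Agent.Lib.Involutions.Basic.invol_iff.2
    ⟨by nth_rw 1 [hinv]; exact inv_mul_cancel x, hx⟩
  exact (Cfsg.Agent.Lib.Involutions.Basic.odd_card_iff_no_invol _).1 hodd x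
    (Subgroup.mem_centralizer_singleton_iff.2 rfl) hxx

end Cfsg.Agent.S0241
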