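import Cfsg.Statements.S0244
import Mathlib


set_option autoImplicit false
open Cfsg

namespace Cfsg.Agent.S0244

/-- Sp_2 = SL_2: a matrix on Fin 1 ⊕ Fin 1 lies in Mathlib's symplectic group iff its determinant is 1. -/
theorem result {R : Type*} [CommRing R] (A : Matrix (Fin 1 ⊕ Fin 1) (Fin 1 ⊕ Fin 1) R) : A ∈ Matrix.symplecticGroup (Fin 1) R ↔ A.det = 1 := by
  have hdet : A.det = A (Sum.inl 0) (Sum.inl 0) * A (Sum.inr 0) (Sum.inr 0)
      - A (Sum.inl 0) (Sum.inr 0) * A (Sum.inr 0) (Sum.inl 0) := by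
    rw [← Matrix.det_submatrix_equiv_self finSumFinEquiv.symm A, Matrix.det_fin_two]
    rfl
  rw [hdet]
  conv_lhs => rw [← A.fromBlocks_toBlocks]
  rw [SymplecticGroup.fromBlocks_mem_iff]
  have comm : ∀ M N : Matrix (Fin 1) (Fin 1) R, Matrix.transpose M * N = Matrix.transpose N * M := by
    intro M N
    ext i j
    fin_cases i; fin_cases j
    simp [Matrix.mul_apply, mul_comm]
  rw [and_iff_right (comm _ _), and_iff_right (comm _ _), Matrix.ext_iff.symm]
  constructor
  · intro h
    have := h 0 0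
    simp [Matrix.mul_apply, Matrix.toBlocks₁₁, Matrix.toBlocks₁₂, Matrix.toBlocks₂₁,
      Matrix.toBlocks₂₂] at this
    linear_combination this
  · intro h i j
    fin_cases i; fin_cases j
    simp [Matrix.mul_apply, Matrix.toBlocks₁₁, Matrix.toBlocks₁₂, Matrix.toBlocks₂₁,
      Matrix.toBlocks₂₂]
    linear_combination h

end Cfsg.Agent.S0244
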