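import Cfsg.Statements.S0247
import Cfsg.Agent.Lib.Linear.SmallIso.Sp4

set_option autoImplicit false
open Cfsg

namespace Cfsg.Agent.S0247

open Matrix

theorem map_mem_sp {F L : Type*} [Field F] [Field L] (e : F →+* L)
    (A : Matrix.symplecticGroup (Fin 2) F) :
    (A : Matrix (Fin 2 ⊕ Fin 2) (Fin 2 ⊕ Fin 2) F).map e ∈ Matrix.symplecticGroup (Fin 2) L := by
  have h := congrArg (fun M => M.map e) (SymplecticGroup.mem_iff.mp A.2)
  rw [Matrix.map_mul, Matrix.map_mul, Matrix.transpose_map] at h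
  have hJ : (Matrix.J (Fin 2) F).map e = Matrix.J (Fin 2) L := by
    ext i j
    rcases i with i | i <;> rcases j with j | j <;> simp [Matrix.J, Matrix.one_apply, apply_ite e]
  rw [hJ] at h
  exact SymplecticGroup.mem_iff.mpr h

/-- Sp_4 along a field isomorphism. -/
def spCongr {F L : Type*} [Field F] [Field L] (e : F ≃+* L) :
    Matrix.symplecticGroup (Fin 2) F ≃* Matrix.symplecticGroup (Fin 2) L where
  toFun A := ⟨_, map_mem_sp e.toRingHom A⟩
  invFun A := ⟨_, map_mem_sp e.symm.toRingHom A⟩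
  left_inv A := by apply Subtype.ext; ext i j; simp
  right_inv A := by apply Subtype.ext; ext i j; simp
  map_mul' A B := Subtype.ext (Matrix.map_mul (f := e.toRingHom))

/-- Sp_4(2) is isomorphic to the symmetric group S_6. -/
theorem result {F : Type*} [Field F] [Fintype F] (hF : Fintype.card F = 2) : Nonempty (Matrix.symplecticGroup (Fin 2) F ≃* Equiv.Perm (Fin 6)) := by
  have : Fact (Nat.Prime 2) := ⟨Nat.prime_two⟩
  obtain ⟨e⟩ := Cfsg.Agent.Lib.Linear.SmallIso.nonempty_sp_four_two
  have e0 : ZMod 2 ≃+* F := ZMod.ringEquivOfPrime F Nat.prime_two hF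
  exact ⟨(spCongr e0.symm).trans e⟩

end Cfsg.Agent.S0247
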