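import Cfsg.Statements.S0250
import Cfsg.Agent.Lib.Linear.ProjLine

set_option autoImplicit false
open Cfsg

namespace Cfsg.Agent.S0250

/-- SL_2(2) is isomorphic to S_3. -/
theorem result {F : Type*} [Field F] [Fintype F] (hF : Fintype.card F = 2) : Nonempty (Matrix.SpecialLinearGroup (Fin 2) F ≃* Equiv.Perm (Fin 3)) := by
  have hc : Subgroup.center (Matrix.SpecialLinearGroup (Fin 2) F) = ⊥ := by
    apply Subgroup.eq_bot_of_card_eq
    rw [Cfsg.Agent.Lib.Linear.card_center_SL, Fintype.card_fin, Nat.card_eq_fintype_card, hF]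
    rfl
  let φ : Matrix.SpecialLinearGroup (Fin 2) F →* Equiv.Perm (Fin 3) :=
    (Cfsg.Agent.Lib.Linear.pslPermFin (F := F) (k := 3) (by omega)).comp (QuotientGroup.mk' _)
  have hinj : Function.Injective φ := by
    refine (Cfsg.Agent.Lib.Linear.pslPermFin_injective (F := F) (k := 3) (by omega)).comp ?_
    rw [← MonoidHom.ker_eq_bot_iff, QuotientGroup.ker_mk', hc]
  refine ⟨MulEquiv.ofBijective φ ((Nat.bijective_iff_injective_and_card _).mpr ⟨hinj, ?_⟩)⟩
  rw [Cfsg.Agent.Lib.Linear.card_SL_two, hF, Nat.card_perm, Nat.card_fin]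
  rfl

end Cfsg.Agent.S0250
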