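import Cfsg.Statements.S0257
import Cfsg.Agent.Lib.Linear.SL2Sylow2
import Cfsg.Agent.Lib.Linear.ProjLine

set_option autoImplicit false
open Cfsg

namespace Cfsg.Agent.S0257

/-- SL_2(3) has a normal subgroup of index 3 isomorphic to the quaternion group of order 8, and its centre has order 2. -/
theorem result {F : Type*} [Field F] [Fintype F] (hF : Fintype.card F = 3) : (∃ Q : Subgroup (Matrix.SpecialLinearGroup (Fin 2) F), Q.Normal ∧ Q.index = 3 ∧ Nonempty (Q ≃* QuaternionGroup 2)) ∧ Nat.card (Subgroup.center (Matrix.SpecialLinearGroup (Fin 2) F)) = 2 := by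
  have hodd : Odd (Fintype.card F) := by rw [hF]; decide
  have hcard : Nat.card (Matrix.SpecialLinearGroup (Fin 2) F) = 24 := by
    rw [Cfsg.Agent.Lib.Linear.card_SL_two, hF]
  refine ⟨?_, ?_⟩
  · obtain ⟨e⟩ : Nonempty (Matrix.ProjectiveSpecialLinearGroup (Fin 2) F ≃*
        alternatingGroup (Fin 4)) := by
      refine Cfsg.Agent.Lib.Linear.nonempty_mulEquiv_alternating (by norm_num)
        (Cfsg.Agent.Lib.Linear.pslPermFin (F := F) (k := 4) (by omega))
        (Cfsg.Agent.Lib.Linear.pslPermFin_injective _) ?_
      rw [Cfsg.Agent.Lib.Linear.two_mul_card_PSL_two_of_odd hodd, hF]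
      rfl
    have h4 : Nat.card (Fin 4) = 4 := Nat.card_fin 4
    let π : Matrix.SpecialLinearGroup (Fin 2) F →* alternatingGroup (Fin 4) :=
      e.toMonoidHom.comp (QuotientGroup.mk' _)
    have hπ : Function.Surjective π := e.surjective.comp (QuotientGroup.mk'_surjective _)
    have hn := alternatingGroup.normal_kleinFour (α := Fin 4) h4
    have hcomap := (alternatingGroup.kleinFour (Fin 4)).index_comap_of_surjective hπ
    have h3 : (alternatingGroup.kleinFour (Fin 4)).index = 3 := by
      have h := (alternatingGroup.kleinFour (Fin 4)).card_mul_index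
      rw [alternatingGroup.kleinFour_card_of_card_eq_four h4, nat_card_alternatingGroup,
        Nat.card_fin, show Nat.factorial 4 / 2 = 12 from rfl] at h
      omega
    refine ⟨(alternatingGroup.kleinFour (Fin 4)).comap π, inferInstance, hcomap.trans h3, ?_⟩
    have hQ : Nat.card ((alternatingGroup.kleinFour (Fin 4)).comap π) = 8 := by
      have h := ((alternatingGroup.kleinFour (Fin 4)).comap π).card_mul_index
      rw [hcomap, h3, hcard] at h
      omega
    let P : Sylow 2 (Matrix.SpecialLinearGroup (Fin 2) F) :=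
      Sylow.ofCard ((alternatingGroup.kleinFour (Fin 4)).comap π) (by
        rw [hQ, hcard, show (24 : ℕ) = 2 ^ 3 * 3 from rfl,
          Nat.factorization_mul_apply_of_coprime (by decide), Nat.factorization_pow,
          Finsupp.smul_apply, Nat.prime_two.factorization_self,
          Nat.factorization_eq_zero_of_not_dvd (show ¬ 2 ∣ 3 by decide)]
        rfl)
    obtain ⟨k, hk, ⟨e'⟩⟩ := Cfsg.Agent.Lib.Linear.sylow_two_SL2_quaternion hodd P
    have : NeZero (2 ^ k) := ⟨by positivity⟩
    have hPc : Nat.card (QuaternionGroup (2 ^ k)) = 8 := (Nat.card_congr e'.toEquiv).symm.trans hQ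
    rw [Nat.card_eq_fintype_card, QuaternionGroup.card] at hPc
    obtain rfl : k = 1 := by
      rcases k with _ | _ | k
      · omega
      · rfl
      · simp only [pow_succ] at hPc
        have : 0 < 2 ^ k := by positivity
        omega
    exact ⟨e'⟩
  · rw [Cfsg.Agent.Lib.Linear.card_center_SL, Fintype.card_fin, Nat.card_eq_fintype_card, hF]
    rfl

end Cfsg.Agent.S0257
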