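import Cfsg.Statements.S0267
import Cfsg.Agent.Lib.Linear.ProjLine

set_option autoImplicit false
open Cfsg

namespace Cfsg.Agent.S0267

open Matrix Cfsg.Agent.Lib.Linear

theorem sl_smul_pt {F : Type*} [Field F] (s : Matrix.SpecialLinearGroup (Fin 2) F)
    (p : Projectivization F (Fin 2 → F)) : s • p = Matrix.SpecialLinearGroup.toGL s • p := by
  induction p using Projectivization.ind with | _ v hv => rfl

/-- SL_2(q) is 3-transitive on the q+1 points of the projective line if and only if q is even. -/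
theorem result {F : Type*} [Field F] [Fintype F] : MulAction.IsMultiplyPretransitive (Matrix.SpecialLinearGroup (Fin 2) F) (Projectivization F (Fin 2 → F)) 3 ↔ ringChar F = 2 := by
  constructor
  · intro h
    by_contra hne
    obtain ⟨d, hd⟩ := FiniteField.exists_nonsquare hne
    have hd0 : d ≠ 0 := by
      rintro rfl; exact hd ⟨0, by simp⟩
    let x : Fin 3 ↪ Projectivization F (Fin 2 → F) :=
      ⟨stdPt, stdPt_injective⟩
    let y : Fin 3 ↪ Projectivization F (Fin 2 → F) :=
      ⟨fun i => (GeneralLinearGroup.mkOfDetNeZero !![d, 0; 0, 1]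
        (by simp [Matrix.det_fin_two, hd0]) : GL (Fin 2) F) • stdPt i,
        (MulAction.injective _).comp stdPt_injective⟩
    obtain ⟨s, hs⟩ := h.exists_smul_eq x y
    apply hd
    have hfix : ∀ i, ((GeneralLinearGroup.mkOfDetNeZero !![d, 0; 0, 1]
        (by simp [Matrix.det_fin_two, hd0]) : GL (Fin 2) F)⁻¹ *
          Matrix.SpecialLinearGroup.toGL s) • stdPt i = stdPt (F := F) i := by
      intro i
      rw [mul_smul, inv_smul_eq_iff, ← sl_smul_pt]
      exact congrArg (fun z : Fin 3 ↪ Projectivization F (Fin 2 → F) => z i) hs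
    obtain ⟨e10, e01, e00⟩ := fix_std_apply hfix
    generalize hz : ((GeneralLinearGroup.mkOfDetNeZero !![d, 0; 0, 1]
        (by simp [Matrix.det_fin_two, hd0]) : GL (Fin 2) F)⁻¹ *
          Matrix.SpecialLinearGroup.toGL s) = z at e10 e01 e00
    have hs' : (Matrix.SpecialLinearGroup.toGL s : GL (Fin 2) F) =
        GeneralLinearGroup.mkOfDetNeZero !![d, 0; 0, 1] (by simp [Matrix.det_fin_two, hd0]) * z := by
      rw [← hz, mul_inv_cancel_left]
    have hdet : (s : Matrix (Fin 2) (Fin 2) F).det =
        (!![d, 0; 0, 1] * (z : Matrix (Fin 2) (Fin 2) F)).det :=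
      congrArg (fun g : GL (Fin 2) F => (g : Matrix (Fin 2) (Fin 2) F).det) hs'
    rw [s.2, Matrix.det_mul, Matrix.det_fin_two_of, Matrix.det_fin_two (z : Matrix (Fin 2) (Fin 2) F),
      e10, e01, ← e00] at hdet
    generalize (z : Matrix (Fin 2) (Fin 2) F) 0 0 = u at hdet
    have hu : u ≠ 0 := by rintro rfl; simp at hdet
    refine ⟨u⁻¹, ?_⟩
    field_simp
    linear_combination (-1) * hdet
  · intro h2
    refine ⟨fun x y => ?_⟩
    have := isMultiplyPretransitive_three_PGL (F := F)
    obtain ⟨g, hg⟩ := this.exists_smul_eq x y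
    induction g using Matrix.ProjGenLinGroup.induction_on with | mk g =>
    obtain ⟨r, hr⟩ := FiniteField.isSquare_of_char_two h2 (g : Matrix (Fin 2) (Fin 2) F).det⁻¹
    obtain ⟨s, hs⟩ : ∃ s : Matrix.SpecialLinearGroup (Fin 2) F,
        (s : Matrix (Fin 2) (Fin 2) F) = r • (g : Matrix (Fin 2) (Fin 2) F) := by
      refine ⟨⟨r • (g : Matrix (Fin 2) (Fin 2) F), ?_⟩, rfl⟩
      rw [Matrix.det_smul, Fintype.card_fin, sq, ← hr,
        inv_mul_cancel₀ (GeneralLinearGroup.det_ne_zero g)]
    refine ⟨s, ?_⟩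
    ext i
    rw [← hg, Function.Embedding.smul_apply, Function.Embedding.smul_apply, PGL_mk_smul]
    induction x i using Projectivization.ind with | _ v hv =>
    rw [Projectivization.smul_mk, Projectivization.smul_mk, Projectivization.mk_eq_mk_iff']
    refine ⟨r, ?_⟩
    rw [Matrix.SpecialLinearGroup.smul_def, hs]
    exact (smul_assoc r (g : Matrix (Fin 2) (Fin 2) F) v).symm

end Cfsg.Agent.S0267
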