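import Cfsg.Statements.S0275
import Cfsg.Agent.S0274
import Cfsg.Agent.Lib.Linear.SL2Sylow2

set_option autoImplicit false
open Cfsg

namespace Cfsg.Agent.S0275

/-- If p is odd and H is a subgroup of SL_2(q), q a power of p, with more than one Sylow p-subgroup, then the Sylow 2-subgroups of H are generalised quaternion. -/
theorem result {F : Type*} [Field F] [Fintype F] (p : ℕ) [Fact p.Prime] [CharP F p] (hp : p ≠ 2) (H : Subgroup (Matrix.SpecialLinearGroup (Fin 2) F)) (hH : 1 < Nat.card (Sylow p H)) (S : Sylow 2 H) : ∃ k : ℕ, 1 ≤ k ∧ Nonempty ((S : Subgroup H) ≃* QuaternionGroup (2 ^ k)) := by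
  classical
  have : Fact (Nat.Prime 2) := ⟨Nat.prime_two⟩
  obtain ⟨e, hpq, hcard⟩ := FiniteField.card F p
  have hoddF : Odd (Fintype.card F) := by
    rw [hcard]
    exact ((Fact.out : p.Prime).odd_of_ne_two hp).pow
  have h2 := Cfsg.Agent.Lib.Linear.two_ne_zero_of_odd_card hoddF
  have key : ∀ z : (S : Subgroup H), orderOf z = 2 →
      (((z : H) : Matrix.SpecialLinearGroup (Fin 2) F) : Matrix (Fin 2) (Fin 2) F) = -1 := by
    intro z hz
    refine Cfsg.Agent.Lib.Linear.eq_neg_one_of_mul_self h2 ?_ ?_
    · intro h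
      have : z = 1 := Subtype.ext (Subtype.ext h)
      rw [this, orderOf_one] at hz
      exact absurd hz (by norm_num)
    · have : z * z = 1 := by rw [← pow_two]; exact orderOf_dvd_iff_pow_eq_one.mp hz.dvd
      exact congrArg (fun w : (S : Subgroup H) => ((w : H) : Matrix.SpecialLinearGroup (Fin 2) F)) this
  rcases Cfsg.Agent.Lib.PGroups.isCyclic_or_quaternion S.isPGroup' (fun x y hx hy => by
    have : y = x := Subtype.ext (Subtype.ext (Subtype.ext ((key y hy).trans (key x hx).symm)))
    rw [this]; exact Subgroup.mem_zpowers x) with hc | ⟨_, hk⟩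
  · exfalso
    obtain ⟨K, hK, ⟨f⟩⟩ := Cfsg.Agent.S0274.result p hp H hH
    obtain ⟨P⟩ := (inferInstance : Nonempty (Sylow 2 (Matrix.SpecialLinearGroup (Fin 2) (ZMod p))))
    let g : Matrix.SpecialLinearGroup (Fin 2) (ZMod p) →* H :=
      (Subgroup.inclusion hK).comp f.symm.toMonoidHom
    have hg : Function.Injective g := (Subgroup.inclusion_injective hK).comp f.symm.injective
    obtain ⟨T, hT⟩ := (P.isPGroup'.map g).exists_le_sylow
    have : IsCyclic (T : Subgroup H) := isCyclic_of_surjective _ (S.equiv T).surjective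
    have : IsCyclic ((P : Subgroup _).map g) :=
      isCyclic_of_injective (Subgroup.inclusion hT) (Subgroup.inclusion_injective hT)
    exact Cfsg.Agent.Lib.Linear.sylow_two_SL2_not_isCyclic
      (by rw [ZMod.card]; exact (Fact.out : p.Prime).odd_of_ne_two hp) P
      (isCyclic_of_surjective _ ((P : Subgroup _).equivMapOfInjective g hg).symm.surjective)
  · exact hk

end Cfsg.Agent.S0275
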