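import Cfsg.Statements.S0298
import Cfsg.Agent.Lib.LowIso.SL2Tools
import Cfsg.Agent.Lib.Linear.Order

set_option autoImplicit false
open Cfsg

namespace Cfsg.Agent.S0298

/-- PΩ_3(q) is isomorphic to PSL_2(q) for q odd. -/
theorem result {F : Type*} [Field F] [Fintype F] (hodd : Odd (Fintype.card F)) : Nonempty (Cfsg.POmega F (Cfsg.quadFormOdd 1 F) ≃* Matrix.ProjectiveSpecialLinearGroup (Fin 2) F) := by
  classical
  let act : Matrix.SpecialLinearGroup (Fin 2) F →* Module.End F (Matrix (Fin 2) (Fin 2) F) :=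
    { toFun := fun g =>
        { toFun := fun X => g.1 * X * (g⁻¹).1
          map_add' := fun X Y => by rw [Matrix.mul_add, Matrix.add_mul]
          map_smul' := fun t X => by rw [RingHom.id_apply, Matrix.mul_smul, Matrix.smul_mul] }
      map_one' := LinearMap.ext fun X => by simp
      map_mul' := fun g h => LinearMap.ext fun X => by
        show (g * h).1 * X * ((g * h)⁻¹).1 = g.1 * (h.1 * X * (h⁻¹).1) * (g⁻¹).1
        rw [_root_.mul_inv_rev, Matrix.SpecialLinearGroup.coe_mul,
          Matrix.SpecialLinearGroup.coe_mul]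
        simp only [Matrix.mul_assoc] }
  let E : (Unit ⊕ (Fin 1 ⊕ Fin 1) → F) → Matrix (Fin 2) (Fin 2) F := fun v =>
    !![v (.inl ()), v (.inr (.inl 0)); v (.inr (.inr 0)), -v (.inl ())]
  obtain ⟨φ, hφ⟩ := Cfsg.Agent.Lib.LowIso.exists_hom (RingHom.id F) act E
    (fun u v => by ext i j; fin_cases i <;> fin_cases j <;> simp [E] <;> ring)
    (fun t v => by ext i j; fin_cases i <;> fin_cases j <;> simp [E])
    (fun u v h => by
      funext k
      rcases k with k | k | k
      · exact congrFun (congrFun h 0) 0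
      · fin_cases k; exact congrFun (congrFun h 0) 1
      · fin_cases k; exact congrFun (congrFun h 1) 0)
    (Cfsg.quadFormOdd 1 F) (fun X => -X.det)
    (fun g v => by
      show -(g.1 * E v * (g⁻¹).1).det = -(E v).det
      rw [Matrix.det_mul, Matrix.det_mul, g.2, (g⁻¹).2, one_mul, mul_one])
    (fun v => by simp [E, Matrix.det_fin_two, Cfsg.quadFormOdd]; ring)
    (fun g v => by
      have htr : (g.1 * E v * (g⁻¹).1).trace = 0 := by
        rw [Matrix.trace_mul_cycle, ← Matrix.SpecialLinearGroup.coe_mul g⁻¹ g, inv_mul_cancel,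
          Matrix.SpecialLinearGroup.coe_one, Matrix.one_mul]
        simp [E, Matrix.trace_fin_two]
      show ∃ w, E w = g.1 * E v * (g⁻¹).1
      generalize g.1 * E v * (g⁻¹).1 = M at htr
      rw [Matrix.trace_fin_two] at htr
      refine ⟨Sum.elim (fun _ => M 0 0) (Sum.elim ![M 0 1] ![M 1 0]), ?_⟩
      ext i j
      fin_cases i <;> fin_cases j <;> simp [E]
      linear_combination -htr)
  have hf := Cfsg.Agent.Lib.OrthStd.quadFormOdd_eq (F := F) 1
  have h2 := Cfsg.Agent.Lib.OrthOmega.two_ne_zero_of_odd hodd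
  have h4 := Cfsg.Agent.Lib.LowIso.Small.four_mul_card_omega
    (Cfsg.Agent.Lib.OrthStd.qOddC 1 F) (Cfsg.Agent.Lib.OrthOmega.qOddC_nondeg 1 h2) h2
    (by rw [Cfsg.Agent.Lib.OrthOmega.finrank_fun]; simp) hf
  have hidx : (Cfsg.Omega F (Cfsg.quadFormOdd 1 F)).index = 4 := by
    refine Nat.eq_of_mul_eq_mul_right (Nat.card_pos (α := Cfsg.Omega F (Cfsg.quadFormOdd 1 F))) ?_
    rw [Subgroup.index_mul_card, h4]
  have hker : φ.ker ≤ Subgroup.center (Matrix.SpecialLinearGroup (Fin 2) F) := by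
    intro g hg
    have hX : ∀ v, g.1 * E v = E v * g.1 := fun v => by
      have h := hφ g v
      rw [MonoidHom.mem_ker.mp hg] at h
      simp only [OneMemClass.coe_one, Units.val_one, Matrix.one_mulVec] at h
      change E v = g.1 * E v * (g⁻¹).1 at h
      conv_rhs => rw [h, Matrix.mul_assoc _ (g⁻¹).1,
        ← Matrix.SpecialLinearGroup.coe_mul g⁻¹ g, inv_mul_cancel,
        Matrix.SpecialLinearGroup.coe_one, Matrix.mul_one]
    have e01 : E (Sum.elim 0 (Sum.elim ![1] 0)) = Matrix.single 0 1 1 := by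
      ext i j; fin_cases i <;> fin_cases j <;> simp [E]
    have e10 : E (Sum.elim 0 (Sum.elim 0 ![1])) = Matrix.single 1 0 1 := by
      ext i j; fin_cases i <;> fin_cases j <;> simp [E]
    have k1 := hX (Sum.elim 0 (Sum.elim ![1] 0))
    have k2 := hX (Sum.elim 0 (Sum.elim 0 ![1]))
    rw [e01] at k1
    rw [e10] at k2
    exact Cfsg.Agent.Lib.LowIso.SL2Tools.mem_center_of_commute
      ((Commute.one_right _).add_right k1) ((Commute.one_right _).add_right k2)
  refine Cfsg.Agent.Lib.LowIso.SL2Tools.nonempty_pOmega_equiv_center φ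
    (Cfsg.Agent.Lib.LowIso.SL2Tools.map_mem_of_odd hodd φ _ hidx) ?_
    (fun g hg => Cfsg.Agent.Lib.LowIso.SL2Tools.mem_center_of_commutators fun k => hker (hg k))
  rw [← Subgroup.index_ker φ]
  refine le_trans ?_ (Nat.le_of_dvd (Nat.pos_of_ne_zero Subgroup.index_ne_zero_of_finite)
    (Subgroup.index_dvd_of_le hker))
  show _ ≤ Nat.card (Matrix.ProjectiveSpecialLinearGroup (Fin 2) F)
  have hO := Cfsg.Agent.Lib.OrthStd.card_orth_odd (F := F) rfl hodd 1
  have hP := Cfsg.Agent.Lib.Linear.two_mul_card_PSL_two_of_odd hodd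
  have hsq : (Fintype.card F + 1) * (Fintype.card F - 1) = Fintype.card F ^ 2 - 1 := by
    rw [← Nat.sq_sub_sq, one_pow]
  rw [hO] at h4
  simp only [Finset.prod_range_one, one_pow, pow_one, zero_add, mul_one] at h4
  rw [← hsq] at h4
  nlinarith

end Cfsg.Agent.S0298
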