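import Cfsg.Statements.S0299
import Cfsg.Agent.Lib.LowIso.SL2Tools
import Cfsg.Agent.Lib.Linear.Order

set_option autoImplicit false
open Cfsg

namespace Cfsg.Agent.S0299

/-- PΩ^+_4(q) is isomorphic to PSL_2(q) x PSL_2(q) for q at least 3. -/
theorem result {F : Type*} [Field F] [Fintype F] (hF : 3 ≤ Fintype.card F) : Nonempty (Cfsg.POmega F (Cfsg.quadFormPlus 2 F) ≃* Matrix.ProjectiveSpecialLinearGroup (Fin 2) F × Matrix.ProjectiveSpecialLinearGroup (Fin 2) F) := by
  classical
  let act : Matrix.SpecialLinearGroup (Fin 2) F × Matrix.SpecialLinearGroup (Fin 2) F →*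
      Module.End F (Matrix (Fin 2) (Fin 2) F) :=
    { toFun := fun g =>
        { toFun := fun X => g.1.1 * X * (g.2⁻¹).1
          map_add' := fun X Y => by rw [Matrix.mul_add, Matrix.add_mul]
          map_smul' := fun t X => by rw [RingHom.id_apply, Matrix.mul_smul, Matrix.smul_mul] }
      map_one' := LinearMap.ext fun X => by simp
      map_mul' := fun g h => LinearMap.ext fun X => by
        show (g.1 * h.1).1 * X * ((g.2 * h.2)⁻¹).1 =
          g.1.1 * (h.1.1 * X * (h.2⁻¹).1) * (g.2⁻¹).1
        rw [_root_.mul_inv_rev, Matrix.SpecialLinearGroup.coe_mul,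
          Matrix.SpecialLinearGroup.coe_mul]
        simp only [Matrix.mul_assoc] }
  let E : (Fin 2 ⊕ Fin 2 → F) → Matrix (Fin 2) (Fin 2) F := fun v =>
    !![v (.inl 0), v (.inl 1); -v (.inr 1), v (.inr 0)]
  obtain ⟨φ, hφ⟩ := Cfsg.Agent.Lib.LowIso.exists_hom (RingHom.id F) act E
    (fun u v => by ext i j; fin_cases i <;> fin_cases j <;> simp [E] <;> ring)
    (fun t v => by ext i j; fin_cases i <;> fin_cases j <;> simp [E])
    (fun u v h => by
      funext k
      rcases k with k | k <;> fin_cases k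
      · exact congrFun (congrFun h 0) 0
      · exact congrFun (congrFun h 0) 1
      · exact congrFun (congrFun h 1) 1
      · exact neg_injective (congrFun (congrFun h 1) 0))
    (Cfsg.quadFormPlus 2 F) Matrix.det
    (fun g v => by
      show (g.1.1 * E v * (g.2⁻¹).1).det = (E v).det
      rw [Matrix.det_mul, Matrix.det_mul, g.1.2, (g.2⁻¹).2, one_mul, mul_one])
    (fun v => by simp [E, Matrix.det_fin_two, Cfsg.quadFormPlus, Fin.sum_univ_two])
    (fun g v => by
      refine ⟨Sum.elim ![(act g (E v)) 0 0, (act g (E v)) 0 1]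
        ![(act g (E v)) 1 1, -(act g (E v)) 1 0], ?_⟩
      ext i j
      fin_cases i <;> fin_cases j <;> simp [E])
  have hker : ∀ g ∈ φ.ker, g.1 = g.2 ∧
      g.1 ∈ Subgroup.center (Matrix.SpecialLinearGroup (Fin 2) F) := by
    intro g hg
    have hX : ∀ v, g.1.1 * E v = E v * g.2.1 := fun v => by
      have h := hφ g v
      rw [MonoidHom.mem_ker.mp hg] at h
      simp only [OneMemClass.coe_one, Units.val_one, Matrix.one_mulVec] at h
      change E v = g.1.1 * E v * (g.2⁻¹).1 at h
      conv_rhs => rw [h, Matrix.mul_assoc _ (g.2⁻¹).1,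
        ← Matrix.SpecialLinearGroup.coe_mul g.2⁻¹ g.2, inv_mul_cancel,
        Matrix.SpecialLinearGroup.coe_one, Matrix.mul_one]
    have e1 : E (Sum.elim ![1, 0] ![1, 0]) = 1 := by
      ext i j; fin_cases i <;> fin_cases j <;> simp [E]
    have e01 : E (Sum.elim ![1, 1] ![1, 0]) = Matrix.transvection 0 1 1 := by
      ext i j; fin_cases i <;> fin_cases j <;> simp [E, Matrix.transvection]
    have e10 : E (Sum.elim ![1, 0] ![1, -1]) = Matrix.transvection 1 0 1 := by
      ext i j; fin_cases i <;> fin_cases j <;> simp [E, Matrix.transvection]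
    have k0 := hX (Sum.elim ![1, 0] ![1, 0])
    have k1 := hX (Sum.elim ![1, 1] ![1, 0])
    have k2 := hX (Sum.elim ![1, 0] ![1, -1])
    rw [e1, Matrix.mul_one, Matrix.one_mul] at k0
    rw [e01, ← k0] at k1
    rw [e10, ← k0] at k2
    exact ⟨Subtype.ext k0, Cfsg.Agent.Lib.LowIso.SL2Tools.mem_center_of_commute k1 k2⟩
  have hO := Cfsg.Agent.Lib.OrthStd.card_orth_plus (F := F) rfl 2 (by norm_num)
  simp only [show (2 : ℕ) - 1 = 1 from rfl, Finset.prod_range_one] at hO
  have hf := Cfsg.Agent.Lib.OrthStd.quadFormPlus_eq (F := F) 2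
  have hn : 2 ≤ Module.finrank F (Fin 2 ⊕ Fin 2 → F) := by
    rw [Cfsg.Agent.Lib.OrthOmega.finrank_fun]; simp
  set n := Fintype.card F with hnq
  have hsq : (n + 1) * (n - 1) = n ^ 2 - 1 := by rw [← Nat.sq_sub_sq, one_pow]
  set T := n * (n - 1) * (n + 1) with hT
  have hO' : Nat.card (Cfsg.isometryGroup F (Cfsg.quadFormPlus 2 F)) = 2 * (T * T) := by
    rw [hO, hT]
    simp only [mul_one, zero_add, pow_one]
    rw [← hsq]
    ring
  have hG : Nat.card (Matrix.SpecialLinearGroup (Fin 2) F × Matrix.SpecialLinearGroup (Fin 2) F) =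
      T * T := by
    rw [Nat.card_prod, Cfsg.Agent.Lib.Linear.card_SL_two]
  have hmain : (∀ g, φ g ∈ Cfsg.Omega F (Cfsg.quadFormPlus 2 F)) ∧
      Nat.gcd 2 (n - 1) * Nat.card (Cfsg.Omega F (Cfsg.quadFormPlus 2 F)) = T * T := by
    by_cases hodd : Odd n
    · have h2 := Cfsg.Agent.Lib.OrthOmega.two_ne_zero_of_odd (F := F) hodd
      have h4 := Cfsg.Agent.Lib.LowIso.Small.four_mul_card_omega (Cfsg.Agent.Lib.Forms.qPlus 2)
        (Cfsg.Agent.Lib.Forms.qPlus_nondeg 2) h2 hn hf
      have hidx : (Cfsg.Omega F (Cfsg.quadFormPlus 2 F)).index = 4 := by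
        refine Nat.eq_of_mul_eq_mul_right
          (Nat.card_pos (α := Cfsg.Omega F (Cfsg.quadFormPlus 2 F))) ?_
        rw [Subgroup.index_mul_card, h4]
      refine ⟨fun g => ?_, ?_⟩
      · have h1 := Cfsg.Agent.Lib.LowIso.SL2Tools.map_mem_of_odd hodd
          (φ.comp (MonoidHom.inl _ _)) _ hidx g.1
        have h2 := Cfsg.Agent.Lib.LowIso.SL2Tools.map_mem_of_odd hodd
          (φ.comp (MonoidHom.inr _ _)) _ hidx g.2
        have h := mul_mem h1 h2
        simp only [MonoidHom.comp_apply, MonoidHom.inl_apply, MonoidHom.inr_apply, ← map_mul,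
          Prod.mk_mul_mk, mul_one, one_mul] at h
        exact h
      · rw [hO'] at h4
        have : Nat.gcd 2 (n - 1) = 2 := by
          obtain ⟨k, hk⟩ := hodd
          rw [hk, Nat.add_sub_cancel]; simp
        rw [this]
        omega
    · have hev := Nat.not_odd_iff_even.mp hodd
      obtain ⟨k, hk⟩ := hev
      have h4F : 4 ≤ Nat.card F := by rw [Nat.card_eq_fintype_card, ← hnq]; omega
      obtain ⟨x, hx0, hx1⟩ : ∃ x : F, x ≠ 0 ∧ x ≠ 1 := by
        by_contra hcon
        push Not at hcon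
        have : (Finset.univ : Finset F) ⊆ {0, 1} := fun y _ => by
          rcases eq_or_ne y 0 with h | h <;> simp [h, hcon y]
        have hle := (Finset.card_le_card this).trans Finset.card_le_two
        rw [Finset.card_univ] at hle
        omega
      have hidx := Cfsg.Agent.Lib.Forms.index_commutator_two
        (Q := (Cfsg.Agent.Lib.Forms.qPlus 2 : QuadraticForm F (Fin 2 ⊕ Fin 2 → F)))
        (Cfsg.Agent.Lib.Forms.qPlus_nondeg 2)
        (Cfsg.Agent.Lib.OrthOmega.two_eq_zero_of_even (F := F) hodd) hn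
        (Or.inl ⟨x, hx0, hx1⟩)
      have h4 := Cfsg.Agent.Lib.LowIso.Small.index_mul_card_omega
        (Cfsg.Agent.Lib.Forms.qPlus 2) hf
      rw [hidx, hO'] at h4
      refine ⟨fun g => ?_, ?_⟩
      · have hp := Cfsg.Agent.Lib.Linear.commutator_SL_eq_top (F := F) (le_refl 2) fun _ => h4F
        have hm : ∀ ψ : Matrix.SpecialLinearGroup (Fin 2) F →*
            Cfsg.isometryGroup F (Cfsg.quadFormPlus 2 F),
            ∀ x, ψ x ∈ Cfsg.Omega F (Cfsg.quadFormPlus 2 F) := fun ψ x => by
          have h1 : (commutator (Matrix.SpecialLinearGroup (Fin 2) F)).map ψ ≤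
              commutator (Cfsg.isometryGroup F (Cfsg.quadFormPlus 2 F)) := by
            rw [commutator_def, commutator_def, Subgroup.map_commutator]
            exact Subgroup.commutator_mono le_top le_top
          exact h1 ⟨x, by rw [hp]; exact Subgroup.mem_top x, rfl⟩
        have h := mul_mem (hm (φ.comp (MonoidHom.inl _ _)) g.1)
          (hm (φ.comp (MonoidHom.inr _ _)) g.2)
        simp only [MonoidHom.comp_apply, MonoidHom.inl_apply, MonoidHom.inr_apply, ← map_mul,
          Prod.mk_mul_mk, mul_one, one_mul] at h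
        exact h
      · have : Nat.gcd 2 (n - 1) = 1 := by
          rw [← Nat.coprime_iff_gcd_eq_one, Nat.coprime_two_left]
          exact ⟨k - 1, by omega⟩
        rw [this]
        omega
  obtain ⟨hmem, hcardΩ⟩ := hmain
  let Z := Subgroup.center (Matrix.SpecialLinearGroup (Fin 2) F)
  have hkc : Nat.card φ.ker ≤ Nat.gcd 2 (n - 1) := by
    have hinj : Function.Injective fun g : φ.ker => (⟨g.1.1, (hker g.1 g.2).2⟩ : Z) := by
      intro g h hgh
      have h1 : g.1.1 = h.1.1 := congrArg Subtype.val hgh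
      exact Subtype.ext (Prod.ext h1
        ((hker g.1 g.2).1.symm.trans (h1.trans (hker h.1 h.2).1)))
    have h1 := Nat.card_le_card_of_injective _ hinj
    rw [Cfsg.Agent.Lib.Linear.card_center_SL, Fintype.card_fin, Nat.card_eq_fintype_card (α := F),
      ← hnq] at h1
    exact h1
  obtain ⟨e⟩ := Cfsg.Agent.Lib.LowIso.SL2Tools.nonempty_pOmega_equiv_center φ hmem
    (by
      rw [← Subgroup.index_ker φ]
      refine Nat.le_of_mul_le_mul_left ?_
        (Nat.gcd_pos_of_pos_left (n - 1) (by norm_num : 0 < 2))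
      rw [hcardΩ, ← hG, ← φ.ker.card_mul_index]
      exact Nat.mul_le_mul_right _ hkc)
    (fun g hg => by
      rw [Subgroup.mem_center_iff]
      intro k
      have h1 := fun h => (hker _ (hg h)).1
      refine Prod.ext ?_ ?_
      · have h := h1 (k.1, 1)
        simp [commutatorElement_def] at h
        exact (commutatorElement_eq_one_iff_mul_comm.mp
          (by rw [commutatorElement_def]; exact h)).symm
      · have h := h1 (1, k.2)
        simp [commutatorElement_def] at h
        exact (commutatorElement_eq_one_iff_mul_comm.mp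
          (by rw [commutatorElement_def]; exact h.symm)).symm)
  let π := MonoidHom.prodMap (QuotientGroup.mk' Z) (QuotientGroup.mk' Z)
  have hπ : Function.Surjective π :=
    Prod.map_surjective.mpr ⟨QuotientGroup.mk'_surjective Z, QuotientGroup.mk'_surjective Z⟩
  have hπk : π.ker = Subgroup.center
      (Matrix.SpecialLinearGroup (Fin 2) F × Matrix.SpecialLinearGroup (Fin 2) F) := by
    ext g
    rw [MonoidHom.mem_ker, Prod.ext_iff, Subgroup.mem_center_iff]
    show (g.1 : Matrix.ProjectiveSpecialLinearGroup (Fin 2) F) = 1 ∧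
      (g.2 : Matrix.ProjectiveSpecialLinearGroup (Fin 2) F) = 1 ↔ _
    rw [QuotientGroup.eq_one_iff, QuotientGroup.eq_one_iff, Subgroup.mem_center_iff,
      Subgroup.mem_center_iff]
    exact ⟨fun h k => Prod.ext (h.1 k.1) (h.2 k.2),
      fun h => ⟨fun k => congrArg Prod.fst (h (k, 1)), fun k => congrArg Prod.snd (h (1, k))⟩⟩
  exact ⟨e.trans ((QuotientGroup.quotientMulEquivOfEq hπk.symm).trans
    (QuotientGroup.quotientKerEquivOfSurjective π hπ))⟩

end Cfsg.Agent.S0299
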