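import Cfsg.Statements.S0302
import Cfsg.Agent.Lib.LowIso.Basic
import Cfsg.Agent.Lib.Linear.Simple
import Cfsg.Agent.Lib.Linear.Order
import Cfsg.Agent.Lib.OrthOmega.Simple

set_option autoImplicit false
open Cfsg

namespace Cfsg.Agent.S0302

/-- PΩ^+_6(q) is isomorphic to PSL_4(q). -/
theorem result {F : Type*} [Field F] [Fintype F] : Nonempty (Cfsg.POmega F (Cfsg.quadFormPlus 3 F) ≃* Matrix.ProjectiveSpecialLinearGroup (Fin 4) F) := by
  classical
  obtain ⟨φ, hφ⟩ := Cfsg.Agent.Lib.LowIso.exists_hom (RingHom.id F)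
    (Cfsg.Agent.Lib.LowIso.congAction.comp (Cfsg.slToMat 4 F))
    (fun v : Fin 3 ⊕ Fin 3 → F => Cfsg.Agent.Lib.LowIso.altMat (v (.inl 0)) (v (.inl 1)) (v (.inl 2))
      (v (.inr 2)) (-v (.inr 1)) (v (.inr 0)))
    (fun u v => by
      ext i j; fin_cases i <;> fin_cases j <;> simp [Cfsg.Agent.Lib.LowIso.altMat] <;> ring)
    (fun c v => by
      ext i j; fin_cases i <;> fin_cases j <;> simp [Cfsg.Agent.Lib.LowIso.altMat])
    (fun u v h => by
      have e := fun i j => congrFun (congrFun h i) j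
      funext k
      rcases k with k | k <;> fin_cases k
      · simpa [Cfsg.Agent.Lib.LowIso.altMat] using e 0 1
      · simpa [Cfsg.Agent.Lib.LowIso.altMat] using e 0 2
      · simpa [Cfsg.Agent.Lib.LowIso.altMat] using e 0 3
      · simpa [Cfsg.Agent.Lib.LowIso.altMat] using e 2 3
      · simpa [Cfsg.Agent.Lib.LowIso.altMat] using e 1 3
      · simpa [Cfsg.Agent.Lib.LowIso.altMat] using e 1 2)
    (Cfsg.quadFormPlus 3 F) Cfsg.Agent.Lib.LowIso.pf
    (fun g v => by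
      simp only [MonoidHom.coe_comp, Function.comp_apply,
        Cfsg.Agent.Lib.LowIso.congAction_apply, Cfsg.Agent.Lib.LowIso.pf_conj]
      rw [show ((Units.coeHom _) (Matrix.SpecialLinearGroup.toGL g)).det = 1 from g.2, one_mul])
    (fun v => by
      rw [Cfsg.Agent.Lib.LowIso.pf_altMat]
      simp [Cfsg.quadFormPlus, Fin.sum_univ_three])
    (fun g v => by
      obtain ⟨a, b, c, d, e, f, h⟩ := Cfsg.Agent.Lib.LowIso.conj_altMat (Cfsg.slToMat 4 F g)
        (v (.inl 0)) (v (.inl 1)) (v (.inl 2)) (v (.inr 2)) (-v (.inr 1)) (v (.inr 0))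
      refine ⟨Sum.elim ![a, b, c] ![f, -e, d], ?_⟩
      simp only [MonoidHom.coe_comp, Function.comp_apply, Cfsg.Agent.Lib.LowIso.congAction_apply]
      exact (by simp : _ = _).trans h.symm)
  refine Cfsg.Agent.Lib.LowIso.nonempty_pOmega_equiv _ φ
    (Cfsg.Agent.Lib.Linear.commutator_SL_eq_top (by norm_num) (by norm_num))
    (Cfsg.Agent.Lib.Linear.isSimpleGroup_PSL (by norm_num) (by norm_num)) ?_ ?_
  · refine ⟨⟨Matrix.transvection 0 1 1, by simp⟩, fun h => ?_⟩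
    have h1 := hφ ⟨Matrix.transvection 0 1 1, by simp⟩ (Sum.elim 0 ![0, 0, 1])
    rw [h] at h1
    simp only [OneMemClass.coe_one, Units.val_one, Matrix.one_mulVec] at h1
    change _ = Matrix.transvection (0 : Fin 4) 1 (1 : F) * _ *
      (Matrix.transvection (0 : Fin 4) 1 (1 : F)).transpose at h1
    have h2 := congrFun (congrFun h1 0) 2
    simp [Cfsg.Agent.Lib.LowIso.altMat, Matrix.mul_apply,
      Fin.sum_univ_succ, Matrix.transvection, Matrix.single_apply, Matrix.one_apply] at h2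
  · show Nat.card _ = Nat.card (Matrix.ProjectiveSpecialLinearGroup (Fin 4) F)
    have hP := Cfsg.Agent.Lib.OrthOmega.card_pOmega_plus (F := F) rfl 3 le_rfl
    have hS := Cfsg.Agent.Lib.Linear.sub_one_mul_card_SL (F := F) 4 (by norm_num)
    rw [Cfsg.Agent.Lib.Linear.card_SL_eq_gcd_mul_card_PSL, Fintype.card_fin,
      Nat.card_eq_fintype_card (α := F)] at hS
    obtain ⟨r, hr⟩ : ∃ r, Fintype.card F = r + 2 :=
      ⟨Fintype.card F - 2, (Nat.sub_add_cancel Fintype.one_lt_card).symm⟩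
    rw [hr] at hP hS
    have hg : Nat.gcd 4 ((r + 2) ^ 3 - 1) = Nat.gcd 4 (r + 2 - 1) := by
      rw [Nat.gcd_rec 4 ((r + 2) ^ 3 - 1), Nat.gcd_rec 4 (r + 2 - 1)]
      have e1 : ((r + 2) ^ 3 - 1) = r ^ 3 + 6 * r ^ 2 + 12 * r + 7 := by
        rw [show (r + 2) ^ 3 = r ^ 3 + 6 * r ^ 2 + 12 * r + 7 + 1 by ring]; simp
      rw [e1, show r + 2 - 1 = r + 1 by omega]
      rw [Nat.gcd_comm, Nat.gcd_comm _ 4]
      have : r % 4 = 0 ∨ r % 4 = 1 ∨ r % 4 = 2 ∨ r % 4 = 3 := by omega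
      rcases this with h | h | h | h <;> simp [Nat.add_mod, Nat.mul_mod, Nat.pow_mod, h]
    rw [hg] at hP
    refine Nat.eq_of_mul_eq_mul_left (Nat.gcd_pos_of_pos_left _ (by norm_num : 0 < 4))
      (hP.trans ?_)
    refine Nat.eq_of_mul_eq_mul_left (show 0 < r + 2 - 1 by omega) ?_
    rw [hS, Fin.prod_univ_four, Finset.prod_range_succ, Finset.prod_range_one]
    simp only [Fin.val_zero, Fin.val_one, Fin.val_two, show ((3 : Fin 4) : ℕ) = 3 from rfl]
    have hq : 1 ≤ r + 2 := by omega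
    have hq2 : 1 ≤ (r + 2) ^ 2 := Nat.one_le_pow _ _ (by omega)
    have hq3 : 1 ≤ (r + 2) ^ 3 := Nat.one_le_pow _ _ (by omega)
    have hq4 : 1 ≤ (r + 2) ^ 4 := Nat.one_le_pow _ _ (by omega)
    have a1 : (r + 2) ^ 4 - (r + 2) ^ 1 = (r + 2) * ((r + 2) ^ 3 - 1) := by
      rw [Nat.mul_sub_one]; ring_nf
    have a2 : (r + 2) ^ 4 - (r + 2) ^ 2 = (r + 2) ^ 2 * ((r + 2) ^ 2 - 1) := by
      rw [Nat.mul_sub_one]; ring_nf
    have a3 : (r + 2) ^ 4 - (r + 2) ^ 3 = (r + 2) ^ 3 * (r + 2 - 1) := by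
      rw [Nat.mul_sub_one]; ring_nf
    simp only [pow_zero, a1, a2, a3]
    ring

end Cfsg.Agent.S0302
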