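import Cfsg.Statements.S0305
import Cfsg.Agent.Lib.OrthTwo.Binary

set_option autoImplicit false
open Cfsg

namespace Cfsg.Agent.S0305

/-- GO^+_2(q) is dihedral of order 2(q-1). -/
theorem result {F : Type*} [Field F] [Fintype F] {q : ℕ} (hF : Fintype.card F = q) : Nonempty (Cfsg.isometryGroup F (Cfsg.quadFormPlus 1 F) ≃* DihedralGroup (q - 1)) := by
  obtain ⟨e⟩ := Cfsg.Agent.Lib.OrthTwo.Binary.nonempty_isometry_reindex
    (F := F) (finSumFinEquiv : Fin 1 ⊕ Fin 1 ≃ Fin 2) (Cfsg.quadFormPlus 1 F)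
    Cfsg.Agent.Lib.OrthTwo.Binary.qh (fun v => by
      simp [Cfsg.Agent.Lib.OrthTwo.Binary.qh, Cfsg.quadFormPlus, finSumFinEquiv])
  obtain ⟨d⟩ := Cfsg.Agent.Lib.OrthTwo.Binary.dihedral_plus hF
  exact ⟨e.trans d⟩

end Cfsg.Agent.S0305
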