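import Cfsg.Statements.S0307
import Mathlib


set_option autoImplicit false
open Cfsg

namespace Cfsg.Agent.S0307

/-- PSL_n(q) is normal in PGL_n(q) with cyclic quotient of order gcd(n, q-1): the image of the natural map PSL_n → PGL_n is the kernel of a surjective homomorphism onto the cyclic group of that order. -/
theorem result {F : Type*} [Field F] [Fintype F] {q : ℕ} (hF : Fintype.card F = q) (n : ℕ) (hn : 1 ≤ n) : ∃ g : Matrix.ProjGenLinGroup (Fin n) F →* Multiplicative (ZMod (Nat.gcd n (q - 1))), Function.Surjective g ∧ g.ker = (Matrix.ProjectiveSpecialLinearGroup.toPGL : Matrix.ProjectiveSpecialLinearGroup (Fin n) F →* Matrix.ProjGenLinGroup (Fin n) F).range := by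
  classical
  let R : Subgroup Fˣ := (powMonoidHom n : Fˣ →* Fˣ).range
  have hcard : Nat.card Fˣ = q - 1 := by rw [Nat.card_units, Nat.card_eq_fintype_card, hF]
  have hidx : Nat.card (Fˣ ⧸ R) = Nat.gcd n (q - 1) := by
    rw [← Subgroup.index_eq_card, IsCyclic.index_powMonoidHom_range, hcard, Nat.gcd_comm]
  have : IsCyclic (Fˣ ⧸ R) := isCyclic_of_surjective (QuotientGroup.mk' R)
    (QuotientGroup.mk'_surjective R)
  let e : (Fˣ ⧸ R) ≃* Multiplicative (ZMod (Nat.gcd n (q - 1))) :=
    mulEquivOfCyclicCardEq (by rw [hidx, Nat.card_congr Multiplicative.toAdd, Nat.card_zmod])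
  let φ : Matrix.GeneralLinearGroup (Fin n) F →* Multiplicative (ZMod (Nat.gcd n (q - 1))) :=
    e.toMonoidHom.comp ((QuotientGroup.mk' R).comp Matrix.GeneralLinearGroup.det)
  have hscalar : ∀ u : Fˣ,
      Matrix.GeneralLinearGroup.det (Matrix.GeneralLinearGroup.scalar (Fin n) u) = u ^ n := by
    intro u; ext; simp
  have hφ : φ.comp (Matrix.GeneralLinearGroup.scalar (Fin n)) = 1 := by
    refine MonoidHom.ext fun u => ?_
    show e (QuotientGroup.mk' R (Matrix.GeneralLinearGroup.det
      (Matrix.GeneralLinearGroup.scalar (Fin n) u))) = 1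
    rw [hscalar, map_eq_one_iff e e.injective]
    exact (QuotientGroup.eq_one_iff _).mpr ⟨u, rfl⟩
  refine ⟨Matrix.ProjGenLinGroup.lift φ hφ, ?_, ?_⟩
  · have : Nonempty (Fin n) := ⟨⟨0, hn⟩⟩
    intro y
    obtain ⟨r, hr⟩ := QuotientGroup.mk'_surjective R (e.symm y)
    obtain ⟨A, hA⟩ := Matrix.GeneralLinearGroup.det_surjective (n := Fin n) r
    refine ⟨Matrix.ProjGenLinGroup.mk A, ?_⟩
    rw [Matrix.ProjGenLinGroup.lift_mk]
    show e (QuotientGroup.mk' R (Matrix.GeneralLinearGroup.det A)) = y
    rw [hA, hr, e.apply_symm_apply]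
  · ext x
    induction x using Matrix.ProjGenLinGroup.induction_on with | mk A =>
    rw [MonoidHom.mem_ker, Matrix.ProjGenLinGroup.lift_mk]
    constructor
    · intro h
      have h1 : QuotientGroup.mk' R (Matrix.GeneralLinearGroup.det A) = 1 :=
        e.injective (h.trans (map_one e).symm)
      obtain ⟨u, hu⟩ := (QuotientGroup.eq_one_iff _).mp h1
      let B := A * Matrix.GeneralLinearGroup.scalar (Fin n) u⁻¹
      have hB : Matrix.GeneralLinearGroup.det B = 1 := by
        rw [map_mul, hscalar, ← hu, powMonoidHom_apply, ← mul_pow, mul_inv_cancel, one_pow]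
      have hB' : (B : Matrix (Fin n) (Fin n) F).det = 1 := by
        simpa using congrArg Units.val hB
      let S : Matrix.SpecialLinearGroup (Fin n) F := ⟨(B : Matrix (Fin n) (Fin n) F), hB'⟩
      refine ⟨QuotientGroup.mk S, ?_⟩
      rw [Matrix.ProjectiveSpecialLinearGroup.toPGL_mk, Matrix.ProjGenLinGroup.mk_eq_mk_iff]
      refine ⟨u, ?_⟩
      have : Matrix.SpecialLinearGroup.toGL S = B := Units.ext rfl
      rw [this]
      show A * _ * _ = A
      rw [mul_assoc, ← map_mul, inv_mul_cancel, map_one, mul_one]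
    · rintro ⟨y, hy⟩
      induction y using QuotientGroup.induction_on with | H S =>
      rw [Matrix.ProjectiveSpecialLinearGroup.toPGL_mk,
        Matrix.ProjGenLinGroup.mk_eq_mk_iff] at hy
      obtain ⟨u, rfl⟩ := hy
      show e (QuotientGroup.mk' R (Matrix.GeneralLinearGroup.det
        (Matrix.SpecialLinearGroup.toGL S * Matrix.GeneralLinearGroup.scalar (Fin n) u))) = 1
      rw [map_mul, hscalar]
      have : Matrix.GeneralLinearGroup.det (Matrix.SpecialLinearGroup.toGL S) = 1 :=
        Units.ext S.det_coe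
      rw [this, one_mul, map_eq_one_iff e e.injective]
      exact (QuotientGroup.eq_one_iff _).mpr ⟨u, rfl⟩

end Cfsg.Agent.S0307
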