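import Cfsg.Statements.S0313
import Cfsg.Agent.Lib.BNPair.Basic

set_option autoImplicit false
open Cfsg

namespace Cfsg.Agent.S0313

open Cfsg.Agent.Lib.BNPair.Basic

/-- Two standard parabolic subgroups of a group with a (B,N)-pair which are conjugate in `G` coincide. -/
theorem result {G : Type*} [Group G] (P : Cfsg.BNPair G) {J K : Set G}
    (hJ : J ⊆ P.S) (hK : K ⊆ P.S) (g : G)
    (h : (P.parabolic J).map (MulAut.conj g).toMonoidHom = P.parabolic K) :
    P.parabolic J = P.parabolic K := by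
  have hg : g⁻¹ ∈ P.parabolic J := by
    refine mem_of_conj_B_le (B_le_parabolic J) fun b hb => ?_
    have hb' : b ∈ P.parabolic K := B_le_parabolic K hb
    rw [← h] at hb'
    obtain ⟨x, hx, hxb⟩ := Subgroup.mem_map.1 hb'
    have e : g * x * g⁻¹ = b := by simpa using hxb
    have e2 : g⁻¹ * b * g⁻¹⁻¹ = x := by rw [← e]; group
    rwa [e2]
  rw [← h]
  have hg' : g ∈ P.parabolic J := by simpa using (P.parabolic J).inv_mem hg
  ext x
  simp only [Subgroup.mem_map, MulEquiv.coe_toMonoidHom, MulAut.conj_apply]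
  constructor
  · intro hx
    exact ⟨g⁻¹ * x * g, mul_mem (mul_mem hg hx) hg', by group⟩
  · rintro ⟨y, hy, rfl⟩
    exact mul_mem (mul_mem hg' hy) hg

end Cfsg.Agent.S0313
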