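import Cfsg.Statements.S0316
import Cfsg.Agent.Lib.BNPair.Basic

set_option autoImplicit false
open Cfsg

namespace Cfsg.Agent.S0316

open Cfsg.Agent.Lib.BNPair.Basic

/-- The map `J ↦ P_J` is a lattice isomorphism from the power set of the set of distinguished generators onto the
subgroups containing `B`. -/
theorem result {G : Type*} [Group G] (P : Cfsg.BNPair G) :
    ∃ e : Set P.S ≃o {M : Subgroup G // P.B ≤ M},
      ∀ J : Set P.S, ((e J : {M : Subgroup G // P.B ≤ M}) : Subgroup G) = P.parabolic (Subtype.val '' J) := by
  have hsub : ∀ J : Set P.S, Subtype.val '' J ⊆ P.S := fun J x hx => by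
    obtain ⟨s, -, rfl⟩ := hx; exact s.2
  refine ⟨{ toFun := fun J => ⟨P.parabolic (Subtype.val '' J), B_le_parabolic _⟩
            invFun := fun M => {s : P.S | (s : G) ∈ M.1}
            left_inv := fun J => ?_
            right_inv := fun M => ?_
            map_rel_iff' := fun {J K} => ?_ }, fun J => rfl⟩
  · ext s
    simp [mem_parabolic_S_iff (hsub J) s.2]
  · refine Subtype.ext ?_
    have h := eq_parabolic_of_B_le (P := P) M.2
    have e : Subtype.val '' {s : P.S | (s : G) ∈ M.1} = {s ∈ P.S | s ∈ M.1} := by
      ext x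
      simp [and_comm]
    change P.parabolic (Subtype.val '' {s : P.S | (s : G) ∈ M.1}) = M.1
    rw [e]
    exact h.symm
  · change P.parabolic _ ≤ P.parabolic _ ↔ J ≤ K
    rw [parabolic_le_parabolic_iff (hsub J) (hsub K), Set.image_subset_image_iff Subtype.val_injective]

end Cfsg.Agent.S0316
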