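import Cfsg.Statements.S0320
import Cfsg.Agent.Lib.BNPair.Basic
import Cfsg.Agent.Lib.Coxeter.Exchange

set_option autoImplicit false
open Cfsg

namespace Cfsg.Agent.S0320

open Cfsg.Agent.Lib.BNPair.Basic
open Cfsg.Agent.Lib.Coxeter.Exchange (wprod Reduced)

theorem exists_eraseIdx_of_sublist {α : Type*} :
    ∀ {l' l : List α}, l'.Sublist l → l'.length + 1 = l.length →
      ∃ k < l.length, l' = l.eraseIdx k
  | _, _, .slnil, h => by simp at h
  | _, _, .cons a hs, h => by
    refine ⟨0, by simp, ?_⟩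
    simp only [List.length_cons, Nat.add_right_cancel_iff] at h
    simpa using hs.eq_of_length h
  | _, _, .cons_cons a hs, h => by
    obtain ⟨k, hk, rfl⟩ := exists_eraseIdx_of_sublist hs (by simpa using h)
    exact ⟨k + 1, by simpa using hk, rfl⟩

/-- The Weyl group `W = N / (B ⊓ N)` of a (B,N)-pair, with its distinguished involutions, is a Coxeter system. -/
theorem result {G : Type*} [Group G] (P : Cfsg.BNPair G)
    [hN : ((P.B ⊓ P.N).subgroupOf P.N).Normal] :
    ∃ (M : CoxeterMatrix P.S) (cs : CoxeterSystem M (P.N ⧸ (P.B ⊓ P.N).subgroupOf P.N)),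
      ∀ s : P.S, cs.simple s = QuotientGroup.mk (⟨(s : G), P.subset s.2⟩ : P.N) := by
  let π : P.N →* (P.N ⧸ (P.B ⊓ P.N).subgroupOf P.N) := QuotientGroup.mk' _
  let f : P.S → (P.N ⧸ (P.B ⊓ P.N).subgroupOf P.N) := fun s => π ⟨(s : G), P.subset s.2⟩
  have hπ : ∀ a b : P.N, π a = π b ↔ SameW P (a : G) b := by
    intro a b
    change (QuotientGroup.mk a : P.N ⧸ _) = QuotientGroup.mk b ↔ _
    rw [QuotientGroup.eq]
    exact ⟨fun h => h.1, fun h => ⟨h, (a⁻¹ * b).2⟩⟩
  have hval : ∀ l : List P.S, ∃ a : P.N, (a : G) = (l.map Subtype.val).prod ∧ π a = wprod f l := by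
    intro l
    induction l with
    | nil => exact ⟨1, by simp, by simp [wprod]⟩
    | cons s l ih =>
      obtain ⟨a, ha, ha'⟩ := ih
      exact ⟨⟨(s : G), P.subset s.2⟩ * a, by simp [ha], by
        rw [map_mul, ha', Cfsg.Agent.Lib.Coxeter.Exchange.wprod_cons]⟩
  have hS : ∀ l : List P.S, ∀ x ∈ l.map Subtype.val, x ∈ P.S := by
    intro l x hx
    obtain ⟨s, -, rfl⟩ := List.mem_map.1 hx
    exact s.2
  have hsame : ∀ l l' : List P.S, wprod f l = wprod f l' ↔
      SameW P (l.map Subtype.val).prod (l'.map Subtype.val).prod := by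
    intro l l'
    obtain ⟨a, ha, ha'⟩ := hval l
    obtain ⟨b, hb, hb'⟩ := hval l'
    rw [← ha', ← hb', hπ, ha, hb]
  have hlift : ∀ m : List G, (∀ x ∈ m, x ∈ P.S) → ∃ l : List P.S, l.map Subtype.val = m :=
    fun m hm => ⟨m.attach.map fun x => ⟨x.1, hm x.1 x.2⟩, by simp [Function.comp_def]⟩
  have hred : ∀ l : List P.S, Reduced f l ↔ len P (l.map Subtype.val).prod = l.length := by
    intro l
    have h1 : IsWord P (l.map Subtype.val) (l.map Subtype.val).prod := ⟨hS l, sameW_refl _⟩
    constructor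
    · intro h
      obtain ⟨m, hm, hmlen⟩ := exists_reduced (prod_mem_N (hS l))
      obtain ⟨l', rfl⟩ := hlift m hm.1
      have := h l' ((hsame _ _).2 hm.2)
      have h3 : len P (l.map Subtype.val).prod ≤ (l.map Subtype.val).length := len_le h1
      simp only [List.length_map] at hmlen h3
      omega
    · intro h l' he
      have : len P (l.map Subtype.val).prod ≤ (l'.map Subtype.val).length :=
        len_le ⟨hS l', (hsame _ _).1 he⟩
      simp only [List.length_map] at this
      omega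
  refine Cfsg.Agent.Lib.Coxeter.Exchange.exists_coxeterSystem (f := f) ?_ ?_ ?_ ?_
  · intro s
    rw [← map_mul, ← map_one π, hπ]
    exact sq_sameW s.2
  · intro s t h
    exact Subtype.ext (P.inj _ s.2 _ t.2 ((hπ _ _).1 h))
  · intro w
    obtain ⟨a, rfl⟩ := QuotientGroup.mk'_surjective ((P.B ⊓ P.N).subgroupOf P.N) w
    obtain ⟨m, hm⟩ := exists_word a.2
    obtain ⟨l, rfl⟩ := hlift m hm.1
    obtain ⟨b, hb, hb'⟩ := hval l
    exact ⟨l, by rw [← hb']; exact (hπ _ _).2 (by rw [hb]; exact hm.2)⟩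
  · intro i l hl hnred
    have hlen := (hred l).1 hl
    have hn := prod_mem_N (hS l)
    have hlt : len P ((i : G) * (l.map Subtype.val).prod) < len P (l.map Subtype.val).prod := by
      rcases len_mul_left_cases i.2 hn with h | h
      · exact absurd ((hred _).2 (by
          rw [List.map_cons, List.prod_cons, List.length_cons]; omega)) hnred
      · omega
    obtain ⟨m, hsub, hmlen, hw⟩ := exchange i.2 hn ⟨hS l, sameW_refl _⟩ (by simpa using hlen.symm) hlt
    obtain ⟨k, hk, hmk⟩ := exists_eraseIdx_of_sublist hsub hmlen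
    refine ⟨k, by simpa using hk, ?_⟩
    rw [← Cfsg.Agent.Lib.Coxeter.Exchange.wprod_cons, hsame, ← List.eraseIdx_map, ← hmk]
    simpa using sameW_symm hw.2

end Cfsg.Agent.S0320
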