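import Cfsg.Statements.S0321
import Cfsg.Agent.Lib.BNPair.Basic

set_option autoImplicit false
open Cfsg

namespace Cfsg.Agent.S0321

open Cfsg.Agent.Lib.BNPair.Basic
open scoped Pointwise

/-- For `n ∈ N` not in `B`, the union `B ∪ B n B` is (the underlying set of) a subgroup exactly when `n` agrees
modulo `B ⊓ N` with one of the distinguished representatives; thus the distinguished involutions are
determined by `B` and `N`. -/
theorem result {G : Type*} [Group G] (P : Cfsg.BNPair G) {n : G}
    (hn : n ∈ P.N) (hnB : n ∉ P.B) :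
    (∃ H : Subgroup G, (H : Set G) = (P.B : Set G) ∪ DoubleCoset.doubleCoset n (P.B : Set G) P.B) ↔ ∃ s ∈ P.S, s⁻¹ * n ∈ P.B := by
  constructor
  · rintro ⟨H, hH⟩
    have hBH : P.B ≤ H := fun b hb => by
      show b ∈ (H : Set G)
      rw [hH]
      exact Or.inl hb
    have hnH : n ∈ H := by
      show n ∈ (H : Set G)
      rw [hH]
      exact Or.inr (mem_cell_self n)
    obtain ⟨l, hw, hlen⟩ := exists_reduced hn
    cases l with
    | nil => exact absurd ((len_eq_zero_iff hn).1 (by simpa using hlen.symm)) hnB
    | cons x l =>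
      have hx : x ∈ P.S := hw.1 x (by simp)
      have hxH : x ∈ H := letters_mem hn hBH hnH hw hlen (by simp)
      have hxH' : x ∈ (H : Set G) := hxH
      rw [hH] at hxH'
      rcases hxH' with h | h
      · exact absurd h (not_mem_B hx)
      · exact ⟨x, hx, sameW_symm ((mem_cell_iff_sameW hn (S_subset_N hx)).1 h)⟩
  · rintro ⟨s, hs, hsn⟩
    have hsn' : cell P n = cell P s := cell_eq_of_sameW hsn
    have hJ : ({s} : Set G) ⊆ P.S := Set.singleton_subset_iff.2 hs
    refine ⟨P.parabolic {s}, Set.ext fun g => ⟨fun hg => ?_, ?_⟩⟩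
    · obtain ⟨m, hm, hgm⟩ := (mem_parabolic_iff hJ).1 hg
      have hmN : m ∈ P.N :=
        (Subgroup.closure_le _).2 (Set.singleton_subset_iff.2 (S_subset_N hs)) hm
      have hmP : m ∈ P.parabolic {s} := closure_le_parabolic _ hm
      obtain ⟨l, hlJ, hw, hlen⟩ := (mem_parabolic_N_iff hJ hmN).1 hmP
      rcases l with _ | ⟨a, _ | ⟨b, l⟩⟩
      · left
        rwa [cell_of_mem_B ((len_eq_zero_iff hmN).1 (by simpa using hlen.symm))] at hgm
      · right
        obtain rfl : a = s := hlJ a (by simp)
        rw [cell_eq_of_sameW (show SameW P a m by simpa [IsWord] using hw.2), ← hsn'] at hgm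
        exact hgm
      · exfalso
        obtain rfl : a = s := hlJ a (by simp)
        obtain rfl : b = a := hlJ b (by simp)
        have hl : ∀ x ∈ l, x ∈ P.S := fun x hx => hw.1 x (by simp [hx])
        have h2 : IsWord P l m := ⟨hl, sameW_trans (sameW_symm (sq_mul_sameW hs (prod_mem_N hl)))
          (by simpa [IsWord] using hw.2)⟩
        have := len_le h2
        simp at hlen
        omega
    · rintro (hg | hg)
      · exact B_le_parabolic _ hg
      · have hg' : g ∈ cell P s := hsn' ▸ hg
        exact (mem_parabolic_iff hJ).2 ⟨s, Subgroup.subset_closure rfl, hg'⟩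

end Cfsg.Agent.S0321
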