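import Cfsg.Statements.S0323
import Cfsg.Agent.Lib.BNPair.Basic

set_option autoImplicit false
open scoped Pointwise
open Cfsg

namespace Cfsg.Agent.S0323

open Cfsg.Agent.Lib.BNPair.Basic
open scoped Pointwise

/-- A doubly transitive action on a set with at least three points yields a (B,N)-pair of rank one:
`B` is the stabiliser of a point `x`, `N` the setwise stabiliser of a pair `{x, y}`. -/
theorem result {G Ω : Type*} [Group G] [MulAction G Ω]
    (h2 : MulAction.IsMultiplyPretransitive G Ω 2) {x y z : Ω} (hxy : x ≠ y) (hyz : y ≠ z) (hxz : x ≠ z) :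
    ∃ P : Cfsg.BNPair G, P.B = MulAction.stabilizer G x ∧
      P.N = MulAction.stabilizer G ({x, y} : Set Ω) ∧ P.rank = 1 := by
  classical
  have h2' : ∀ {a b c d : Ω}, a ≠ b → c ≠ d → ∃ g : G, g • a = c ∧ g • b = d :=
    MulAction.is_two_pretransitive_iff.1 h2
  obtain ⟨s, hsx, hsy⟩ := h2' hxy hxy.symm
  obtain ⟨r, hrx, hry⟩ := h2' hxy hxz
  let B := MulAction.stabilizer G x
  let N := MulAction.stabilizer G ({x, y} : Set Ω)
  have hB : ∀ g : G, g ∈ B ↔ g • x = x := fun g => MulAction.mem_stabilizer_iff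
  have hN : ∀ g : G, g ∈ N ↔ (g • x = x ∧ g • y = y) ∨ (g • x = y ∧ g • y = x) := by
    intro g
    rw [MulAction.mem_stabilizer_iff]
    constructor
    · intro h
      have hx : g • x ∈ ({x, y} : Set Ω) := by rw [← h]; exact Set.smul_mem_smul_set (Set.mem_insert x {y})
      have hy : g • y ∈ ({x, y} : Set Ω) := by
        rw [← h]; exact Set.smul_mem_smul_set (Set.mem_insert_of_mem x rfl)
      have hne : g • x ≠ g • y := fun h => hxy (MulAction.injective g h)
      simp only [Set.mem_insert_iff, Set.mem_singleton_iff] at hx hy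
      rcases hx with hx | hx <;> rcases hy with hy | hy
      · exact absurd (hx.trans hy.symm) hne
      · exact Or.inl ⟨hx, hy⟩
      · exact Or.inr ⟨hx, hy⟩
      · exact absurd (hx.trans hy.symm) hne
    · rintro (⟨h1, h2⟩ | ⟨h1, h2⟩)
      · rw [← Set.image_smul, Set.image_insert_eq, Set.image_singleton, h1, h2]
      · rw [← Set.image_smul, Set.image_insert_eq, Set.image_singleton, h1, h2, Set.pair_comm]
  have hsN : s ∈ N := (hN s).2 (Or.inr ⟨hsx, hsy⟩)
  have hsB : s ∉ B := fun h => hxy (((hB s).1 h).symm.trans hsx)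
  have hsq : s * s ∈ B := (hB _).2 (by rw [mul_smul, hsx, hsy])
  have hdich : ∀ n ∈ N, n ∈ B ∨ s⁻¹ * n ∈ B := by
    intro n hn
    rcases (hN n).1 hn with ⟨h, -⟩ | ⟨h, -⟩
    · exact Or.inl ((hB n).2 h)
    · exact Or.inr ((hB _).2 (by rw [mul_smul, h, inv_smul_eq_iff, hsx]))
  -- the double coset of any element swapping `x` away is everything outside `B`
  have hcell : ∀ m g : G, m • x ≠ x → g • x ≠ x →
      g ∈ DoubleCoset.doubleCoset m (B : Set G) B := by
    intro m g hm hg
    obtain ⟨b, hbx, hbm⟩ := h2' (Ne.symm hm) (Ne.symm hg)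
    rw [DoubleCoset.mem_doubleCoset]
    refine ⟨b, (hB b).2 hbx, (b * m)⁻¹ * g, (hB _).2 ?_, by group⟩
    rw [mul_smul, inv_smul_eq_iff, mul_smul, hbm]
  have hcellB : ∀ m g : G, m • x = x → g • x = x → g ∈ DoubleCoset.doubleCoset m (B : Set G) B :=
    fun m g hm hg => DoubleCoset.mem_doubleCoset.2
      ⟨g, (hB g).2 hg, m⁻¹, B.inv_mem ((hB m).2 hm), by group⟩
  refine ⟨{
    B := B
    N := N
    S := {s}
    sup_eq_top := ?_
    conj_mem := ?_
    subset := by simpa using hsN
    sq_mem := fun t ht => by rw [Set.mem_singleton_iff.1 ht]; exact hsq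
    inj := fun a ha b hb _ => (Set.mem_singleton_iff.1 ha).trans (Set.mem_singleton_iff.1 hb).symm
    closure_sup := ?_
    mul_mem_union := ?_
    conj_ne := ?_ }, rfl, rfl, ?_⟩
  · refine eq_top_iff.2 fun g _ => ?_
    by_cases hg : g • x = x
    · exact (le_sup_left : B ≤ B ⊔ N) ((hB g).2 hg)
    · obtain ⟨u, hu, v, hv, rfl⟩ := DoubleCoset.mem_doubleCoset.1
        (hcell s g (fun h => hsB ((hB s).2 h)) hg)
      exact mul_mem (mul_mem ((le_sup_left : B ≤ B ⊔ N) hu) ((le_sup_right : N ≤ B ⊔ N) hsN))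
        ((le_sup_left : B ≤ B ⊔ N) hv)
  · rintro n hn t ⟨htB, htN⟩
    have ht : t • x = x ∧ t • y = y := by
      rcases (hN t).1 htN with h | ⟨h, -⟩
      · exact h
      · exact absurd (((hB t).1 htB).symm.trans h) hxy
    apply (hB _).2
    rw [mul_smul, mul_smul]
    rcases (hN n).1 hn with ⟨h1, h3⟩ | ⟨h1, h3⟩
    · rw [show n⁻¹ • x = x by rw [inv_smul_eq_iff, h1], ht.1, h1]
    · rw [show n⁻¹ • x = y by rw [inv_smul_eq_iff, h3], ht.2, h3]
  · refine le_antisymm (sup_le ((Subgroup.closure_le _).2 (by simpa using hsN)) inf_le_right) ?_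
    intro n hn
    rcases hdich n hn with h | h
    · exact (le_sup_right : B ⊓ N ≤ _) ⟨h, hn⟩
    · rw [show n = s * (s⁻¹ * n) by group]
      exact mul_mem ((le_sup_left : Subgroup.closure {s} ≤ _) (Subgroup.subset_closure rfl))
        ((le_sup_right : B ⊓ N ≤ _) ⟨h, N.mul_mem (N.inv_mem hsN) hn⟩)
  · rintro t ht n hn b hb
    obtain rfl : t = s := ht
    by_cases hg : (t * b * n) • x = x
    · -- one of `n`, `t * n` fixes `x`
      rcases hdich n hn with h | h
      · exact Or.inr (hcellB n _ ((hB n).1 h) hg)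
      · refine Or.inl (hcellB _ _ ((hB _).1 ?_) hg)
        rw [show t * n = t * t * (t⁻¹ * n) by group]
        exact mul_mem hsq h
    · rcases hdich n hn with h | h
      · refine Or.inl (hcell _ _ ?_ hg)
        rw [mul_smul, (hB n).1 h]
        exact fun h' => hsB ((hB t).2 h')
      · refine Or.inr (hcell n _ ?_ hg)
        intro h'
        exact hsB (by simpa using mul_mem ((hB n).2 h') (inv_mem h))
  · rintro t ht heq
    obtain rfl : t = s := ht
    have h1 : t * r⁻¹ * t ∈ B := by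
      show t * r⁻¹ * t ∈ (B : Set G)
      rw [← heq]
      exact ⟨r⁻¹, B.inv_mem ((hB r).2 hrx), rfl⟩
    have h3 := (hB _).1 h1
    rw [mul_smul, mul_smul, hsx] at h3
    have h4 : r⁻¹ • y = y := MulAction.injective t (h3.trans hsy.symm)
    rw [inv_smul_eq_iff, hry] at h4
    exact hyz h4
  · simp [Cfsg.BNPair.rank]

end Cfsg.Agent.S0323
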