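import Cfsg.Statements.S0331
import Cfsg.Agent.Lib.SzTori.Count

set_option autoImplicit false
open Cfsg Cfsg.Agent.Lib.SzTori Cfsg.Agent.Lib.LieTwisted.Suzuki

namespace Cfsg.Agent.S0331

/-- For every odd prime `p` the Sylow `p`-subgroups of the Suzuki group are cyclic. -/
theorem result {F : Type*} [Field F] [Fintype F] {m : ℕ} (hm : 1 ≤ m)
    (hF : Fintype.card F = 2 ^ (2 * m + 1)) {p : ℕ} [Fact p.Prime] (hp : p ≠ 2)
    (P : Sylow p (Cfsg.Sz F m)) : IsCyclic P := by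
  have h : IsSzField F m := ⟨hF⟩
  by_cases h1 : (P : Subgroup (Cfsg.Sz F m)) = ⊥
  · haveI : Subsingleton P := by
      refine ⟨fun a b => Subtype.ext ?_⟩
      have ha : (a : Cfsg.Sz F m) ∈ (⊥ : Subgroup (Cfsg.Sz F m)) := h1 ▸ a.2
      have hb : (b : Cfsg.Sz F m) ∈ (⊥ : Subgroup (Cfsg.Sz F m)) := h1 ▸ b.2
      rw [Subgroup.mem_bot.1 ha, Subgroup.mem_bot.1 hb]
    exact isCyclic_of_subsingleton
  haveI : Nontrivial (P : Subgroup (Cfsg.Sz F m)) := (Subgroup.nontrivial_iff_ne_bot _).2 h1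
  haveI := P.isPGroup'.center_nontrivial
  obtain ⟨⟨⟨z, hzP⟩, hzc⟩, hz⟩ := exists_ne (1 : Subgroup.center (P : Subgroup (Cfsg.Sz F m)))
  have hz1 : z ≠ 1 := fun e => hz (Subtype.ext (Subtype.ext e))
  have hz4 : z ^ 4 ≠ 1 := by
    intro e
    obtain ⟨k, hk⟩ := IsPGroup.iff_orderOf.1 P.isPGroup' ⟨z, hzP⟩
    rw [← Subgroup.orderOf_coe] at hk
    have hd : p ^ k ∣ 2 ^ 2 := hk ▸ orderOf_dvd_of_pow_eq_one e
    rcases Nat.eq_zero_or_pos k with rfl | hk0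
    · rw [pow_zero, orderOf_eq_one_iff] at hk
      exact hz1 hk
    · exact hp ((Nat.prime_dvd_prime_iff_eq Fact.out Nat.prime_two).1
        ((Fact.out : p.Prime).dvd_of_dvd_pow ((dvd_pow_self p hk0.ne').trans hd)))
  exact cyclic_of_le (centralizer_cyclic h hm hz4) fun w hw => mem_centralizer_iff'.2
    (congrArg Subtype.val (Subgroup.mem_center_iff.1 hzc ⟨w, hw⟩)).symm

end Cfsg.Agent.S0331
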