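import Cfsg.Statements.S0332
import Cfsg.Agent.Lib.SzTori.Count

set_option autoImplicit false
open Cfsg Cfsg.Agent.Lib.SzTori Cfsg.Agent.Lib.LieTwisted.Suzuki

namespace Cfsg.Agent.S0332

/-- The Suzuki group is a CN-group: every non-identity element has nilpotent centraliser. -/
theorem result {F : Type*} [Field F] [Fintype F] {m : ℕ} (hm : 1 ≤ m)
    (hF : Fintype.card F = 2 ^ (2 * m + 1)) : Cfsg.IsCNGroup (Cfsg.Sz F m) := by
  have h : IsSzField F m := ⟨hF⟩
  haveI : Fact (Nat.Prime 2) := ⟨Nat.prime_two⟩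
  intro g hg
  by_cases h4 : g ^ 4 = 1
  · have hp : IsPGroup 2 (Subgroup.zpowers g) := by
      rintro ⟨y, hy⟩
      obtain ⟨i, rfl⟩ := Subgroup.mem_zpowers_iff.1 hy
      refine ⟨2, Subtype.ext ?_⟩
      show (g ^ i) ^ (2 ^ 2) = 1
      rw [← zpow_natCast (g ^ i), ← zpow_mul, mul_comm, zpow_mul, zpow_natCast]
      norm_num [h4]
    obtain ⟨P, hP⟩ := hp.exists_le_sylow
    obtain ⟨x, hx⟩ := h.conj_sylow hm P
    have := hP (Subgroup.mem_zpowers g)
    rw [hx] at this
    obtain ⟨u, hu, rfl⟩ := this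
    have hu1 : u ≠ 1 := fun z => hg (by rw [z]; exact map_one (MulAut.conj x).toMonoidHom)
    have hle : Subgroup.centralizer ({(MulAut.conj x).toMonoidHom u} : Set (Cfsg.Sz F m)) ≤
        (unip h).map (MulAut.conj x).toMonoidHom := by
      rw [MulEquiv.coe_toMonoidHom, MulAut.conj_apply, centralizer_conj]
      exact Subgroup.map_mono (centralizer_unip_le h hm hu hu1)
    exact ((P.isPGroup'.to_le (hx ▸ hle))).isNilpotent
  · haveI := centralizer_cyclic h hm h4
    letI : CommGroup (Subgroup.centralizer ({g} : Set (Cfsg.Sz F m))) := IsCyclic.commGroup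
    exact CommGroup.isNilpotent

end Cfsg.Agent.S0332
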