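import Cfsg.Statements.S0335
import Cfsg.Agent.Lib.LieTwisted.SuzukiSylow

set_option autoImplicit false
open Cfsg

namespace Cfsg.Agent.S0335

open Cfsg.Agent Cfsg.Agent.Lib.LieTwisted.Suzuki
open scoped Matrix

/-- The Suzuki–Tits point set is an ovoid: any three distinct points of it are projectively independent
(no line of projective 3-space meets it in more than two points). -/
theorem result {F : Type*} [Field F] [Fintype F] {m : ℕ} (hm : 1 ≤ m)
    (hF : Fintype.card F = 2 ^ (2 * m + 1)) (p : Fin 3 ↪ Cfsg.suzukiOvoid F m) :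
    Projectivization.Independent (fun i => (p i : Projectivization F (Fin 4 → F))) := by
  have h : Lib.LieTwisted.Suzuki.IsSzField F m := ⟨hF⟩
  have hsurj : ∀ a : Cfsg.suzukiOvoid F m, ∃ q, ovPt m q = a := (ovPt_bijective m).2
  obtain ⟨p0, hp0⟩ := hsurj (p 0)
  obtain ⟨p1, hp1⟩ := hsurj (p 1)
  obtain ⟨g, h1, h2⟩ := h.exists_pair hm (p := p0) (q := p1) fun he => by
    rw [he, hp1] at hp0
    simpa using p.injective hp0
  obtain ⟨p2, hp2⟩ := hsurj (g⁻¹ • p 2)
  have e0 : (p 0 : Projectivization F (Fin 4 → F)) = g • opt m none := by rw [← hp0]; exact h1.symm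
  have e1 : (p 1 : Projectivization F (Fin 4 → F)) = g • opt m (some (0, 0)) := by rw [← hp1]; exact h2.symm
  have e2 : (p 2 : Projectivization F (Fin 4 → F)) = g • opt m p2 := by
    show _ = ((g • ovPt m p2 : Cfsg.suzukiOvoid F m) : Projectivization F (Fin 4 → F))
    rw [hp2, smul_inv_smul]
  obtain ⟨x, y, rfl, hxy⟩ : ∃ x y, p2 = some (x, y) ∧ ¬(x = 0 ∧ y = 0) := by
    rcases p2 with _ | ⟨x, y⟩
    · exact absurd (p.injective (Subtype.ext (e2.trans e0.symm))) (by decide)
    · refine ⟨x, y, rfl, ?_⟩
      rintro ⟨rfl, rfl⟩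
      exact absurd (p.injective (Subtype.ext (e2.trans e1.symm))) (by decide)
  let v : Fin 3 → (Fin 4 → F) := ![inf0 F, pt m 0 0, pt m x y]
  have hinj : Function.Injective (Matrix.mulVecLin (mat g)) :=
    mulVec_inj_of_det ((g : Matrix.SpecialLinearGroup (Fin 4) F).2)
  have hv : LinearIndependent F v := by
    rw [Fintype.linearIndependent_iff]
    intro c hc
    have k0 := congrFun hc 0; have k1 := congrFun hc 1; have k2 := congrFun hc 2; have k3 := congrFun hc 3
    simp [v, Fin.sum_univ_three, inf0, pt] at k1 k2 k3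
    have hc2 : c 2 = 0 := by
      by_contra hc2
      exact hxy ⟨k2.resolve_left hc2, k1.resolve_left hc2⟩
    simp [v, Fin.sum_univ_three, inf0, pt, hc2, zfun, sg_zero] at k0 k3
    intro i
    fin_cases i <;> simp_all
  have hL := hv.map' _ (LinearMap.ker_eq_bot.2 hinj)
  have hne : ∀ i, mat g *ᵥ v i ≠ 0 := fun i => hL.ne_zero i
  have key : (fun i => (p i : Projectivization F (Fin 4 → F))) =
      fun i => Projectivization.mk F (mat g *ᵥ v i) (hne i) := by
    funext i
    fin_cases i
    · refine e0.trans ?_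
      rw [opt_eq_mk, Subgroup.smul_def, Projectivization.smul_mk]
      rfl
    · refine e1.trans ?_
      rw [opt_eq_mk, Subgroup.smul_def, Projectivization.smul_mk]
      rfl
    · refine e2.trans ?_
      rw [opt_eq_mk, Subgroup.smul_def, Projectivization.smul_mk]
      rfl
  rw [key]
  exact Projectivization.Independent.mk _ hne hL

end Cfsg.Agent.S0335
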