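import Cfsg.Statements.S0341
import Cfsg.Agent.Lib.OddLocal.FrobeniusRank
import Cfsg.Agent.Lib.Perm.Regular
import Cfsg.Agent.Lib.Induced.FrobeniusKernel

set_option autoImplicit false
open Cfsg

namespace Cfsg.Agent.S0341

open MulAction Cfsg.Agent.Lib


/-- If a finite group acts faithfully and doubly transitively, no non-identity element fixes three points, some
non-identity element fixes two points, and some normal subgroup acts regularly, then the number of points
is `2^p` with `p` prime. -/
theorem result {G Ω : Type*} [Group G]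
    [MulAction G Ω] [Fintype Ω] [FaithfulSMul G Ω] (h2 : MulAction.IsMultiplyPretransitive G Ω 2)
    (h3 : ∀ g : G, ∀ a b c : Ω, a ≠ b → b ≠ c → a ≠ c → g • a = a → g • b = b → g • c = c → g = 1)
    (hfix : ∃ g : G, g ≠ 1 ∧ ∃ a b : Ω, a ≠ b ∧ g • a = a ∧ g • b = b)
    (N : Subgroup G) [N.Normal] (hNt : MulAction.IsPretransitive N Ω)
    (hNr : ∀ a : Ω, MulAction.stabilizer N a = ⊥) :
    ∃ p : ℕ, p.Prime ∧ Fintype.card Ω = 2 ^ p := by
  classical
  haveI hGfin : Finite G := Finite.of_injective _ (MulAction.toPerm_injective (α := G) (β := Ω))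
  obtain ⟨k₀, hk₀, a, b, hab, hka, hkb⟩ := hfix
  have hn3 : 3 ≤ Nat.card Ω := by
    by_contra hlt
    refine hk₀ (eq_of_smul_eq_smul fun c : Ω => ?_)
    rw [one_smul]
    by_cases hca : c = a
    · rw [hca, hka]
    by_cases hcb : c = b
    · rw [hcb, hkb]
    refine absurd ?_ hlt
    rw [Nat.card_eq_fintype_card, ← Finset.card_univ]
    calc 3 = ({a, b, c} : Finset Ω).card := by
          rw [Finset.card_insert_of_notMem (by simp [hab, Ne.symm hca]),
            Finset.card_insert_of_notMem (by simp [Ne.symm hcb]), Finset.card_singleton]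
      _ ≤ _ := Finset.card_le_card (Finset.subset_univ _)
  obtain ⟨q, hq, hNc, hexp⟩ := Perm.Regular.elementary_of_two_transitive h2 (by omega) N hNr
  haveI := Fact.mk hq
  haveI := hNc
  letI : CommGroup N := { (inferInstance : Group N) with mul_comm := hNc.is_comm.comm }
  have hbij : Function.Bijective fun n : N => n • a := Perm.Basic.smul_bijective_of_regular a (hNr a)
  have hcardN : Nat.card N = Fintype.card Ω := by
    rw [← Nat.card_eq_fintype_card]; exact Nat.card_eq_of_bijective _ hbij
  -- conjugation by an element fixing `a`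
  have hconj : ∀ g : G, g • a = a → ∀ n : N,
      g • (n • a) = (MulAut.conjNormal g n : N) • a := by
    intro g hg n
    show g • ((n : G) • a) = ((MulAut.conjNormal g n : N) : G) • a
    rw [MulAut.conjNormal_apply, mul_smul, mul_smul, inv_smul_eq_iff.2 hg.symm]
  have hfixiff : ∀ g : G, g • a = a → ∀ n : N,
      (MulAut.conjNormal g n = n ↔ g • (n • a) = n • a) := fun g hg n => by
    rw [hconj g hg]; exact ⟨fun h => by rw [h], fun h => hbij.1 h⟩
  -- a non-identity element fixing `a` fixes at most one more point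
  have hone : ∀ g : G, g ≠ 1 → g • a = a → ∀ m n : N, m ≠ 1 → n ≠ 1 →
      MulAut.conjNormal g m = m → MulAut.conjNormal g n = n → m = n := by
    intro g hg1 hga m n hm hn hgm hgn
    by_contra hmn
    refine hg1 (h3 g a (m • a) (n • a) ?_ ?_ ?_ hga ((hfixiff g hga m).1 hgm) ((hfixiff g hga n).1 hgn))
    · exact fun h => hm (hbij.1 (show m • a = (1 : N) • a by rw [one_smul]; exact h.symm))
    · exact fun h => hmn (hbij.1 h)
    · exact fun h => hn (hbij.1 (show n • a = (1 : N) • a by rw [one_smul]; exact h.symm))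
  obtain ⟨nb, hnb⟩ := hbij.2 b
  have hnb1 : nb ≠ 1 := fun h => hab (by rw [← hnb, h]; exact (one_smul N a).symm)
  have hknb : MulAut.conjNormal k₀ nb = nb := (hfixiff k₀ hka nb).2 (by
    simp only at hnb; rw [hnb, hkb])
  have hq2 : q = 2 := by
    by_contra hne
    have h2' : nb ^ 2 ≠ 1 := fun h => hne (((Nat.prime_dvd_prime_iff_eq hq Nat.prime_two).1 (by
      have hq' : orderOf nb = q := orderOf_eq_prime (Subtype.ext (hexp nb nb.2)) hnb1
      rw [← hq']; exact orderOf_dvd_of_pow_eq_one h)))
    have h3' := hone k₀ hk₀ hka nb (nb ^ 2) hnb1 h2' hknb (by rw [map_pow, hknb])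
    exact hnb1 (by rwa [pow_two, right_eq_mul] at h3')
  subst hq2
  have hN2 : IsPGroup 2 N := fun n => ⟨1, Subtype.ext (by simpa using hexp n n.2)⟩
  obtain ⟨e, he⟩ := IsPGroup.iff_card.1 hN2
  -- the stabiliser
  let H := stabilizer G a
  by_cases heven : 2 ∣ Nat.card H
  · obtain ⟨⟨h, hha⟩, hho⟩ := exists_prime_orderOf_dvd_card' (G := H) 2 heven
    rw [Subgroup.orderOf_mk] at hho
    have hh1 : h ≠ 1 := fun h1 => by rw [h1, orderOf_one] at hho; norm_num at hho
    have hhh : h * h = 1 := by rw [← pow_two, ← hho]; exact pow_orderOf_eq_one h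
    let δ : N →* N := MonoidHom.mk' (fun n => n * MulAut.conjNormal h n) fun m n => by
      rw [map_mul]; exact mul_mul_mul_comm _ _ _ _
    have hdb : ∀ n, δ n = n * MulAut.conjNormal h n := fun _ => rfl
    have hsq : ∀ n : N, n * n = 1 := fun n => by
      rw [← pow_two]; exact Subtype.ext (hexp n n.2)
    have himg : ∀ m ∈ δ.range, MulAut.conjNormal h m = m := by
      rintro _ ⟨n, rfl⟩
      rw [hdb, map_mul, ← MulAut.mul_apply, ← map_mul, hhh, map_one, MulAut.one_apply]
      exact mul_comm _ _
    have hker : ∀ m ∈ δ.ker, MulAut.conjNormal h m = m := fun m hm => by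
      rw [MonoidHom.mem_ker, hdb] at hm
      exact mul_left_cancel (hm.trans (hsq m).symm)
    have hsmall : ∀ U : Subgroup N, (∀ m ∈ U, MulAut.conjNormal h m = m) → Nat.card U ≤ 2 := by
      intro U hU
      by_cases hU1 : U = ⊥
      · rw [hU1, Subgroup.card_bot]; norm_num
      obtain ⟨x, hx, hx1⟩ := (Subgroup.ne_bot_iff_exists_ne_one.1 hU1).elim
        fun x hx => (⟨x.1, x.2, fun h => hx (Subtype.ext h)⟩ : ∃ y, y ∈ U ∧ y ≠ 1)
      have hle : U ≤ Subgroup.zpowers x := fun y hy => by
        by_cases hy1 : y = 1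
        · rw [hy1]; exact one_mem _
        · rw [hone h hh1 hha x y hx1 hy1 (hU x hx) (hU y hy)]; exact Subgroup.mem_zpowers y
      refine (Subgroup.card_le_of_le hle).trans ?_
      rw [Nat.card_zpowers]
      exact Nat.le_of_dvd two_pos (orderOf_dvd_of_pow_eq_one (by rw [pow_two]; exact hsq x))
    have hm := δ.ker.card_mul_index
    rw [Subgroup.index_ker] at hm
    have hle4 : Nat.card N ≤ 4 := hm ▸ Nat.mul_le_mul (hsmall _ hker) (hsmall _ himg)
    rw [Nat.card_eq_fintype_card] at hn3
    refine ⟨2, Nat.prime_two, ?_⟩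
    have he2 : e = 2 := by
      rw [hcardN] at he hle4
      rcases Nat.lt_or_ge e 2 with hlt | hge
      · interval_cases e <;> omega
      · rcases Nat.eq_or_lt_of_le hge with h | h
        · exact h.symm
        · have : 2 ^ 3 ≤ 2 ^ e := Nat.pow_le_pow_right two_pos h
          omega
    rw [← hcardN, he, he2]
  · let Kb : Subgroup H := stabilizer H b
    have hk₀H : k₀ ∈ H := hka
    have htrans : ∀ c : Ω, c ≠ a → ∃ h : H, h • b = c := fun c hc => by
      obtain ⟨g, hga, hgb⟩ := is_two_pretransitive_iff.mp h2 hab (Ne.symm hc)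
      exact ⟨⟨g, hga⟩, hgb⟩
    have hsep : ∀ g : H, g ∉ Kb → ∀ x : H, x ∈ Kb → g⁻¹ * x * g ∈ Kb → x = 1 := by
      intro g hg x hx hxg
      have hxb : (x : G) • b = b := hx
      have hxgb : (x : G) • ((g : G) • b) = (g : G) • b := by
        have h' : ((g : G)⁻¹ * (x : G) * (g : G)) • b = b := hxg
        rwa [mul_smul, mul_smul, inv_smul_eq_iff] at h'
      refine Subtype.ext (h3 (x : G) a b ((g : G) • b) hab (fun h => hg h.symm) ?_ x.2 hxb hxgb)
      exact fun h => hab (MulAction.injective (g : G) ((g.2 : (g : G) • a = a).trans h))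
    have hFC : Cfsg.IsFrobeniusComplement Kb := by
      refine ⟨fun h => hk₀ ?_, fun h => ?_, fun g hg => ?_⟩
      · have h' : (⟨k₀, hk₀H⟩ : H) ∈ Kb := hkb
        rw [h, Subgroup.mem_bot] at h'
        exact congrArg Subtype.val h'
      · obtain ⟨c, hca, hcb⟩ : ∃ c, c ≠ a ∧ c ≠ b := by
          by_contra hc
          push Not at hc
          have hle : (Finset.univ : Finset Ω) ⊆ {a, b} := fun c _ => by
            by_cases hca : c = a
            · simp [hca]
            · simp [hc c hca]
          have := Finset.card_le_card hle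
          rw [Finset.card_univ, ← Nat.card_eq_fintype_card, Finset.card_pair hab] at this
          omega
        obtain ⟨g, hg⟩ := htrans c hca
        exact hcb (hg.symm.trans (show g ∈ Kb from h ▸ Subgroup.mem_top g))
      · refine (Subgroup.eq_bot_iff_forall _).2 fun x hx => hsep g hg x hx.1 ?_
        have := (Subgroup.mem_pointwise_smul_iff_inv_smul_mem).1 hx.2
        simpa [mul_assoc] using this
    obtain ⟨M, hMn, -, hMc⟩ := Induced.FrobeniusKernel.exists_frobeniusKernel_subgroup hFC
    haveI := hMn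
    obtain ⟨s, hs, hsd⟩ := Nat.exists_prime_and_dvd (n := Nat.card Kb)
      (fun h => hFC.1 (Subgroup.eq_bot_of_card_eq _ h))
    haveI := Fact.mk hs
    obtain ⟨⟨r, hr⟩, hro⟩ := exists_prime_orderOf_dvd_card' (G := Kb) s hsd
    rw [Subgroup.orderOf_mk] at hro
    have hr1 : r ≠ 1 := fun h => by rw [h, orderOf_one] at hro; exact hs.one_lt.ne hro
    let B : Subgroup H := M ⊔ Subgroup.zpowers r
    let MB : Subgroup B := M.subgroupOf B
    let RB : Subgroup B := (Subgroup.zpowers r).subgroupOf B
    have hrK : Subgroup.zpowers r ≤ Kb := Subgroup.zpowers_le.2 hr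
    have hcompl : MB.IsComplement' RB := by
      refine Subgroup.isComplement'_of_disjoint_and_mul_eq_univ ?_ ?_
      · rw [Subgroup.disjoint_def]
        intro x hx hx'
        exact Subtype.ext (Subgroup.disjoint_def.1 hMc.disjoint hx (hrK hx'))
      · refine Set.eq_univ_of_forall fun x => ?_
        obtain ⟨m, hm, y, hy, hmy⟩ := Subgroup.mem_sup_of_normal_left.1 x.2
        exact ⟨⟨m, Subgroup.mem_sup_left hm⟩, hm, ⟨y, Subgroup.mem_sup_right hy⟩, hy, Subtype.ext hmy⟩
    let θ : B →* MulAut N := MulAut.conjNormal.comp (H.subtype.comp B.subtype)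
    have key := OddLocal.FrobeniusRank.card_eq_pow (q := 2) (V := N)
      (fun v => Subtype.ext (hexp v v.2)) θ ?_ hcompl ?_ ?_
    rotate_left
    · refine (Nat.Coprime.symm ?_)
      refine Nat.prime_two.coprime_iff_not_dvd.2 fun h => heven ?_
      exact h.trans B.card_subgroup_dvd_card
    · rintro ⟨x, hxB⟩ hx hx1 ⟨m, hmB⟩ hm hxm
      have hxm' : x * m = m * x := congrArg Subtype.val hxm
      have hx' : x ∈ Kb := hrK hx
      refine Subtype.ext (Subgroup.disjoint_def.1 hMc.disjoint hm ?_)
      by_contra hmK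
      refine hx1 (Subtype.ext (hsep m hmK x hx' ?_))
      rw [mul_assoc, hxm', inv_mul_cancel_left]
      exact hx'
    · intro v hv
      by_contra hv1
      have hca : v • a ≠ a := fun h => hv1 (hbij.1 (show v • a = (1 : N) • a by rwa [one_smul]))
      obtain ⟨h, hh⟩ := htrans _ hca
      refine hFC.2.1 ?_
      have hM : M = ⊥ := by
        refine (Subgroup.eq_bot_iff_forall _).2 fun m hm => ?_
        have h1 := hv ⟨m, Subgroup.mem_sup_left hm⟩ hm
        have h2' : (m : G) • (v • a) = v • a := (hfixiff (m : G) m.2 v).1 h1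
        have h3' : h⁻¹ * m * h ∈ Kb := by
          show ((h : G)⁻¹ * (m : G) * (h : G)) • b = b
          rw [mul_smul, mul_smul, inv_smul_eq_iff, show (h : G) • b = v • a from hh, h2']
        have h4 := Subgroup.disjoint_def.1 hMc.disjoint (by simpa using hMn.conj_mem m hm h⁻¹) h3'
        calc m = h * (h⁻¹ * m * h) * h⁻¹ := by group
          _ = 1 := by rw [h4]; group
      have := hMc.sup_eq_top
      rwa [hM, bot_sup_eq] at this
    have hR : Nat.card RB = s := by
      rw [Nat.card_congr (Subgroup.subgroupOfEquivOfLe le_sup_right).toEquiv, Nat.card_zpowers, hro]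
    have hrG : (r : G) ≠ 1 := fun h => hr1 (Subtype.ext h)
    have hF : Nat.card {v : N // ∀ x ∈ RB, θ x v = v} = 2 := by
      have hnbr : MulAut.conjNormal (r : G) nb = nb := (hfixiff (r : G) r.2 nb).2 (by
        simp only at hnb; rw [hnb]; exact hr)
      have hnbR : ∀ x ∈ RB, θ x nb = nb := by
        rintro ⟨x, hxB⟩ hx
        obtain ⟨i, rfl⟩ := Subgroup.mem_zpowers_iff.1 hx
        have h1 : (r ^ i : H) ∈ Kb := hrK (Subgroup.zpow_mem_zpowers r i)
        refine (hfixiff _ (r ^ i : H).2 nb).2 ?_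
        simp only at hnb
        rw [hnb]; exact h1
      rw [Nat.card_eq_two_iff]
      refine ⟨⟨1, fun x _ => map_one _⟩, ⟨nb, hnbR⟩, fun h => hnb1 (congrArg Subtype.val h).symm,
        Set.eq_univ_of_forall fun ⟨v, hv⟩ => ?_⟩
      by_cases hv1 : v = 1
      · exact Or.inl (Subtype.ext hv1)
      · refine Or.inr (Subtype.ext (hone (r : G) hrG r.2 v nb hv1 hnb1 ?_ hnbr))
        exact hv ⟨r, Subgroup.mem_sup_right (Subgroup.mem_zpowers r)⟩ (Subgroup.mem_zpowers r)
    exact ⟨s, hs, by rw [← hcardN, key, hF, hR]⟩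

end Cfsg.Agent.S0341
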