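import Cfsg.Statements.S0353
import Cfsg.Agent.Lib.Golay.Steiner

set_option autoImplicit false
open Cfsg

namespace Cfsg.Agent.S0353

/-- In an S(5, 8, 24), the symmetric difference of two blocks meeting in four points is a block. -/
theorem result {α : Type*} [Fintype α] [DecidableEq α] (hα : Fintype.card α = 24) {B : Set (Finset α)} (hB : Cfsg.IsSteinerSystem 5 8 B) {b c : Finset α} (hb : b ∈ B) (hc : c ∈ B) (h4 : (b ∩ c).card = 4) : symmDiff b c ∈ B := by
  refine Lib.Golay.Steiner.mem_of_even hα hB ?_ ?_
  · rw [symmDiff_def, Finset.sup_eq_union, Finset.card_union_of_disjoint disjoint_sdiff_sdiff,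
      Finset.card_sdiff, Finset.card_sdiff, Finset.inter_comm c b, h4, hB.1 b hb, hB.1 c hc]
  · intro e he
    have hev : ∀ x ∈ B, Even (x ∩ e).card := by
      intro x hx
      rcases eq_or_ne x e with rfl | hne
      · rw [Finset.inter_self, hB.1 x hx]; decide
      · rcases Lib.Golay.Steiner.inter_five hα hB hx he hne with h | h | h <;> rw [h] <;> decide
    have h1 : symmDiff b c ∩ e = symmDiff (b ∩ e) (c ∩ e) := by
      ext a; simp [Finset.mem_symmDiff]; tauto
    have h2 := hev b hb
    have h3 := hev c hc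
    rw [h1, symmDiff_def, Finset.sup_eq_union, Finset.card_union_of_disjoint disjoint_sdiff_sdiff]
    have h4 := Finset.card_sdiff_add_card_inter (b ∩ e) (c ∩ e)
    have h5 := Finset.card_sdiff_add_card_inter (c ∩ e) (b ∩ e)
    rw [Finset.inter_comm (c ∩ e)] at h5
    rw [Nat.even_iff] at h2 h3 ⊢
    omega

end Cfsg.Agent.S0353
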