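import Cfsg.Statements.S0357
import Cfsg.Agent.Lib.Golay.Steiner

set_option autoImplicit false
open Cfsg

namespace Cfsg.Agent.S0357

/-- In a Steiner system S(5, 6, 12), the complement of every block is again a block. -/
theorem result {α : Type*} [Fintype α] [DecidableEq α] (hα : Fintype.card α = 12) {B : Set (Finset α)} (hB : Cfsg.IsSteinerSystem 5 6 B) {b : Finset α} (hb : b ∈ B) : bᶜ ∈ B := by
  obtain ⟨h0, -⟩ := Lib.Golay.Steiner.meeting_twelve hα hB hb
  obtain ⟨c, hc⟩ := Finset.card_pos.mp (by omega : 0 < (Lib.Golay.Steiner.meeting B b 0).card)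
  rw [Lib.Golay.Steiner.mem_meeting] at hc
  have he : c = bᶜ := by
    refine Finset.eq_of_subset_of_card_le ?_ ?_
    · intro x hx
      rw [Finset.mem_compl]
      intro hxb
      have := Finset.card_eq_zero.mp hc.2.2
      exact Finset.notMem_empty x (this ▸ Finset.mem_inter.mpr ⟨hxb, hx⟩)
    · rw [Finset.card_compl, hα, hB.1 b hb, hB.1 c hc.1]
  exact he ▸ hc.1

end Cfsg.Agent.S0357
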