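import Cfsg.Statements.S0371
import Cfsg.Agent.Lib.Golay.M24

set_option autoImplicit false
open Cfsg

namespace Cfsg.Agent.S0371

/-- The code of multiplication by `u` on the residues, fixing the extra point. -/
def mulCode (u : ℕ) : ℕ :=
  Lib.Computation.packW 5 (fun i => if i < 23 then i * u % 23 else 23) 24

/-- Multiplication by a nonzero square residue modulo 23, fixing the extra point, lies in the group of the length-24 code. -/
theorem result (u : (ZMod 23)ˣ) (hu : IsSquare u) : Equiv.optionCongr (Units.mulLeft u) ∈ Cfsg.M24 := by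
  obtain ⟨v, rfl⟩ := hu
  have h : ∀ w : (ZMod 23)ˣ, Lib.Golay.inM24 (mulCode (w * w).val.val) = true ∧
      ∀ p, Equiv.optionCongr (Units.mulLeft (w * w)) p =
        Lib.Golay.imgCode (mulCode (w * w).val.val) p := by decide +kernel
  rw [Lib.Golay.eq_gperm (Lib.Golay.okCode_of_inM24 (h v).1) (h v).2]
  exact Lib.Golay.gperm_mem_M24 (h v).1

end Cfsg.Agent.S0371
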