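import Cfsg.Statements.S0375
import Cfsg.Agent.Lib.GolayUnique.Golay

set_option autoImplicit false
open Cfsg

namespace Cfsg.Agent.S0375

/-- A doubly even self-dual binary code of length 24 with no words of weight 4 is equivalent to the length-24 code built from the squares modulo 23. -/
theorem result (C : Submodule (ZMod 2) (Fin 24 → ZMod 2)) (hdim : Module.finrank (ZMod 2) C = 12) (horth : ∀ v ∈ C, ∀ w ∈ C, ∑ i, v i * w i = 0) (h4 : ∀ w ∈ C, 4 ∣ hammingNorm w) (hno4 : ∀ w ∈ C, hammingNorm w ≠ 4) : ∃ e : Fin 24 ≃ Cfsg.GolayPt, ∀ w : Cfsg.GolayPt → ZMod 2, w ∈ Cfsg.golayCode ↔ (fun i => w (e i)) ∈ C := by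
  classical
  set r : (Fin 24 → ZMod 2) →ₗ[ZMod 2] Module.Dual (ZMod 2) C :=
    C.dualRestrict.comp (dotProductEquiv (ZMod 2) (Fin 24)).toLinearMap with hr
  have hsurj : Function.Surjective r :=
    Subspace.dualRestrict_surjective.comp (dotProductEquiv (ZMod 2) (Fin 24)).surjective
  have hle : C ≤ LinearMap.ker r := by
    intro v hv
    rw [LinearMap.mem_ker]
    refine LinearMap.ext fun w => ?_
    exact horth v hv w w.2
  have hker : LinearMap.ker r = C := by
    refine (Submodule.eq_of_le_of_finrank_eq hle ?_).symm
    have h := LinearMap.finrank_range_add_finrank_ker r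
    rw [LinearMap.range_eq_top.mpr hsurj, finrank_top, Subspace.dual_finrank_eq, hdim,
      Module.finrank_fin_fun] at h
    omega
  have horth' : ∀ v : Fin 24 → ZMod 2, (∀ w ∈ C, ∑ i, v i * w i = 0) → v ∈ C := by
    intro v hv
    rw [← hker, LinearMap.mem_ker]
    exact LinearMap.ext fun w => hv w w.2
  have hone : (1 : Fin 24 → ZMod 2) ∈ C := horth' _ fun w hw => by
    refine Eq.trans (Finset.sum_congr rfl fun i _ => ?_) (horth w hw w hw)
    rw [Pi.one_apply, one_mul]
    generalize w i = x
    revert x
    decide
  let S : Finset (Finset (Fin 24)) := (Set.toFinite (Cfsg.supports (C : Set _))).toFinset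
  have hS : ∀ s, s ∈ S ↔ ∃ v ∈ C, Cfsg.support₂ v = s := fun s => Set.Finite.mem_toFinset _
  have hadd : ∀ v w : Fin 24 → ZMod 2,
      symmDiff (Cfsg.support₂ v) (Cfsg.support₂ w) = Cfsg.support₂ (v + w) := by
    intro v w
    ext p
    simp only [Cfsg.support₂, Finset.mem_filter, Finset.mem_univ, true_and, Finset.mem_symmDiff,
      Pi.add_apply]
    generalize v p = x
    generalize w p = y
    revert x y
    decide
  have huniv : (Finset.univ : Finset (Fin 24)) ∈ S :=
    (hS _).mpr ⟨1, hone, by ext p; simp [Cfsg.support₂]⟩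
  have hgood : Lib.GolayUnique.GoodCode S :=
    { card_pts := Fintype.card_fin 24
      univ_mem := huniv
      symmDiff_mem := fun a ha b hb => by
        obtain ⟨v, hv, rfl⟩ := (hS a).mp ha
        obtain ⟨w, hw, rfl⟩ := (hS b).mp hb
        exact (hS _).mpr ⟨v + w, C.add_mem hv hw, (hadd v w).symm⟩
      weight := fun c hc => by
        obtain ⟨v, hv, rfl⟩ := (hS c).mp hc
        have h1 : 4 ∣ (Cfsg.support₂ v).card := h4 v hv
        have h2 : (Cfsg.support₂ v).card ≠ 4 := hno4 v hv
        have h3 : (Cfsg.support₂ (1 + v)).card ≠ 4 := hno4 _ (C.add_mem hone hv)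
        have h5 : Cfsg.support₂ (1 + v) = (Cfsg.support₂ v)ᶜ := by
          ext p
          simp only [Cfsg.support₂, Finset.mem_filter, Finset.mem_univ, true_and, Finset.mem_compl,
            Pi.add_apply, Pi.one_apply]
          generalize v p = x
          revert x
          decide
        rw [h5, Finset.card_compl, Fintype.card_fin] at h3
        have h6 := Finset.card_le_univ (Cfsg.support₂ v)
        rw [Fintype.card_fin] at h6
        omega
      card_eq := by
        have e : {s // s ∈ S} ≃ C := (Equiv.ofBijective
          (fun v : C => (⟨Cfsg.support₂ (v : Fin 24 → ZMod 2), (hS _).mpr ⟨v, v.2, rfl⟩⟩ : {s // s ∈ S}))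
          ⟨fun v w h => Subtype.ext (Lib.Golay.support₂_injective (congrArg Subtype.val h)),
           fun s => by
            obtain ⟨v, hv, he⟩ := (hS s).mp s.2
            exact ⟨⟨v, hv⟩, Subtype.ext he⟩⟩).symm
        have h := Nat.card_congr e
        rw [Nat.card_eq_finsetCard, Module.natCard_eq_pow_finrank (K := ZMod 2), hdim,
          Nat.card_zmod] at h
        simpa using h
      sep := fun i j hij => by
        by_contra hno
        push Not at hno
        have key : ∀ w ∈ C, w i = w j := by
          intro w hw
          have h1 := hno _ ((hS _).mpr ⟨w, hw, rfl⟩)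
          have h2 := hno _ ((hS _).mpr ⟨1 + w, C.add_mem hone hw, rfl⟩)
          simp only [Cfsg.support₂, Finset.mem_filter, Finset.mem_univ, true_and, Pi.add_apply,
            Pi.one_apply] at h1 h2
          revert h1 h2
          generalize w i = x
          generalize w j = y
          revert x y
          decide
        have hp : Pi.single i 1 + Pi.single j 1 ∈ C := horth' _ fun w hw => by
          simp only [Pi.add_apply, add_mul, Finset.sum_add_distrib, Pi.single_apply, ite_mul,
            one_mul, zero_mul, Finset.sum_ite_eq', Finset.mem_univ, if_true]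
          rw [key w hw]
          generalize w j = y
          revert y
          decide
        have hw2 : hammingNorm (Pi.single i 1 + Pi.single j 1 : Fin 24 → ZMod 2) = 2 := by
          have : (Finset.univ.filter fun p => (Pi.single i 1 + Pi.single j 1 : Fin 24 → ZMod 2) p ≠ 0)
              = {i, j} := by
            ext p
            by_cases h1 : p = i <;> by_cases h2 : p = j <;>
              simp [Pi.single_apply, h1, h2, hij, Ne.symm hij]
          rw [hammingNorm, this, Finset.card_pair hij]
        have := h4 _ hp
        omega }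
  obtain ⟨f, hf⟩ := Lib.GolayUnique.code_unique hgood Lib.GolayUnique.golay_good
  refine ⟨f, fun w => ?_⟩
  have h1 : Cfsg.support₂ w = (Cfsg.support₂ fun i => w (f i)).map f.toEmbedding := by
    ext p
    simp [Cfsg.support₂]
  have h2 := hf (Cfsg.support₂ fun i => w (f i))
  rw [← h1, Lib.GolayUnique.mem_golaySets] at h2
  constructor
  · intro hw
    obtain ⟨v, hv, hvs⟩ := (hS _).mp (h2.mpr ⟨w, hw, rfl⟩)
    exact Lib.Golay.support₂_injective hvs ▸ hv
  · intro hw
    obtain ⟨v, hv, hvs⟩ := h2.mp ((hS _).mpr ⟨_, hw, rfl⟩)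
    exact Lib.Golay.support₂_injective hvs ▸ hv

end Cfsg.Agent.S0375
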