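import Cfsg.Statements.S0406
import Cfsg.Agent.Lib.Leech.CrossFrame

set_option autoImplicit false
open Matrix
open Cfsg

namespace Cfsg.Agent.S0406

/-- A rank-24 even lattice with no roots and the stated numbers of vectors of norms 4, 6, 8 is isomorphic to the Leech lattice. -/
theorem result (B : Matrix (Fin 24) (Fin 24) ℤ) (hsymm : B.IsSymm) (hpos : ∀ x : Fin 24 → ℤ, x ≠ 0 → 0 < x ⬝ᵥ (B *ᵥ x)) (heven : ∀ x : Fin 24 → ℤ, (2 : ℤ) ∣ x ⬝ᵥ (B *ᵥ x)) (h2 : ∀ x : Fin 24 → ℤ, x ⬝ᵥ (B *ᵥ x) ≠ 2) (h4 : {x : Fin 24 → ℤ | x ⬝ᵥ (B *ᵥ x) = 4}.ncard = 196560) (h6 : {x : Fin 24 → ℤ | x ⬝ᵥ (B *ᵥ x) = 6}.ncard = 16773120) (h8 : {x : Fin 24 → ℤ | x ⬝ᵥ (B *ᵥ x) = 8}.ncard = 398034000) : ∃ f : (Fin 24 → ℤ) ≃+ Cfsg.leechLattice, ∀ x : Fin 24 → ℤ, Cfsg.sqNorm ((f x : Cfsg.leechLattice) : Cfsg.GolayPt → ℤ) = 8 * (x ⬝ᵥ (B *ᵥ x)) := by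
  classical
  let ip : (Fin 24 → ℤ) → (Fin 24 → ℤ) → ℤ := fun x y => x ⬝ᵥ (B *ᵥ y)
  let b : (Fin 24 → ℤ) →ₗ[ℤ] (Fin 24 → ℤ) →ₗ[ℤ] ℤ :=
    LinearMap.mk₂ ℤ ip (fun x y z => add_dotProduct x y _)
      (fun c x y => smul_dotProduct c x _)
      (fun x y z => by simp [ip, Matrix.mulVec_add, dotProduct_add])
      (fun c x y => by
        show x ⬝ᵥ (B *ᵥ (c • y)) = c • (x ⬝ᵥ (B *ᵥ y))
        rw [Matrix.mulVec_smul, dotProduct_smul])
  have hI : Lib.SporStruct.LatticeClasses.EvenRootless ip :=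
    { symm := fun x y => by
        show x ⬝ᵥ (B *ᵥ y) = y ⬝ᵥ (B *ᵥ x)
        rw [Matrix.dotProduct_mulVec, ← Matrix.mulVec_transpose, hsymm, dotProduct_comm]
      add_left := fun x y z => add_dotProduct x y _
      pos := hpos
      even := heven
      ne_two := h2 }
  have hrank : ∀ U : Finset (Fin 24 → ℤ), (∀ x ∈ U, x ≠ 0) →
      (∀ x ∈ U, ∀ y ∈ U, x ≠ y → ip x y = 0) → U.card ≤ 24 := by
    intro U h0 ho
    have := Lib.SporStruct.LatticeClasses.orth_card_le b U (fun x hx => (hpos x (h0 x hx)).ne') ho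
    simpa using this
  let π : (Fin 24 → ℤ) → (Fin 24 → ZMod 2) := fun x i => (x i : ZMod 2)
  have hπ : ∀ x y, π x = π y ↔ ∃ z, x - y = z + z := by
    intro x y
    constructor
    · intro e
      refine ⟨fun i => (x i - y i) / 2, funext fun i => ?_⟩
      have h := congrFun e i
      simp only [π, ZMod.intCast_eq_intCast_iff'] at h
      push_cast at h
      simp only [Pi.sub_apply, Pi.add_apply]
      omega
    · rintro ⟨z, hz⟩
      funext i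
      have h := congrFun hz i
      simp only [π, ZMod.intCast_eq_intCast_iff']
      push_cast
      simp only [Pi.sub_apply, Pi.add_apply] at h
      omega
  obtain ⟨hcl, -⟩ := Lib.SporStruct.LatticeClasses.class_count
    (by rw [Nat.card_eq_fintype_card]; simp) hI π hπ hrank h4 h6 h8
  obtain ⟨x₀, hx₀⟩ := Set.nonempty_of_ncard_ne_zero
    (s := {x : Fin 24 → ℤ | x ⬝ᵥ (B *ᵥ x) = 8}) (by rw [h8]; norm_num)
  exact Lib.Leech.exists_isometry hI hrank h4 ⟨x₀, hx₀, hcl x₀ hx₀⟩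

end Cfsg.Agent.S0406
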