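import Cfsg.Statements.S0412
import Cfsg.Agent.Lib.GolayUnique.Transport
import Cfsg.Agent.Lib.GolayUnique.SteinerUnique
import Cfsg.Agent.Lib.Golay.Simple

set_option autoImplicit false
open Cfsg

namespace Cfsg.Agent.S0412

/-- Aut of an S(5, 8, 24) is simple of order 244823040 and 5-transitive on points. -/
theorem result {α : Type*} [Fintype α] [DecidableEq α] (hα : Fintype.card α = 24) {B : Set (Finset α)} (hB : Cfsg.IsSteinerSystem 5 8 B) : Cfsg.IsM24 (Cfsg.setSystemAut B) ∧ MulAction.IsMultiplyPretransitive (Cfsg.setSystemAut B) α 5 := by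
  obtain ⟨e, he⟩ := Lib.GolayUnique.octads_unique hα (by simp) hB Lib.Golay.octads_steiner
  have hM : setSystemAut octads = M24 := Lib.Golay.M24_eq_setSystemAut_octads.symm
  let φ : Cfsg.setSystemAut B ≃* M24 :=
    (Lib.GolayUnique.autEquiv e he).trans (MulEquiv.subgroupCongr hM)
  refine ⟨⟨(MulEquiv.isSimpleGroup_congr φ).mpr Lib.Golay.isSimple_M24, ?_⟩, ?_⟩
  · rw [Nat.card_congr φ.toEquiv, Lib.Golay.card_M24]
  · refine Lib.GolayUnique.isMultiplyPretransitive_of_equiv e he ?_
    rw [hM]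
    exact Lib.Golay.multiply_pretransitive

end Cfsg.Agent.S0412
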