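import Cfsg.Statements.S0413
import Cfsg.Agent.Lib.GolayUnique.Models

set_option autoImplicit false
open Cfsg

namespace Cfsg.Agent.S0413

/-- Aut of an S(4, 7, 23) is simple of order 10200960 and 4-transitive. -/
theorem result {α : Type*} [Fintype α] [DecidableEq α] (hα : Fintype.card α = 23) {B : Set (Finset α)} (hB : Cfsg.IsSteinerSystem 4 7 B) : Cfsg.IsM23 (Cfsg.setSystemAut B) ∧ MulAction.IsMultiplyPretransitive (Cfsg.setSystemAut B) α 4 := by
  obtain ⟨ι, h⟩ := Lib.GolayUnique.Derived.exists_model23 hα hB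
  have hO : ({none} : Finset GolayPt).card ≤ 2 := by simp
  let φ : Spor.M23 ≃* Cfsg.setSystemAut B :=
    (MulEquiv.subgroupCongr Lib.GolayUnique.Derived.pointSetStab_none.symm).trans
      (Lib.GolayUnique.Derived.autOfModel h hO fun g hg =>
        Lib.GolayUnique.Derived.rigid23 hα hB h hg)
  refine ⟨⟨(MulEquiv.isSimpleGroup_congr φ.symm).mpr Lib.Golay.isSimple_spor_M23, ?_⟩, ?_⟩
  · rw [← Nat.card_congr φ.toEquiv, Lib.Golay.card_spor_M23]
  · exact Lib.GolayUnique.Derived.multiply_pretransitive_of_model h hO (by simp)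

end Cfsg.Agent.S0413
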