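import Cfsg.Statements.S0414
import Cfsg.Agent.Lib.GolayUnique.Models

set_option autoImplicit false
open Cfsg

namespace Cfsg.Agent.S0414

/-- Aut of an S(3, 6, 22) has order 887040, is 3-transitive, and contains a simple subgroup of index 2. -/
theorem result {α : Type*} [Fintype α] [DecidableEq α] (hα : Fintype.card α = 22) {B : Set (Finset α)} (hB : Cfsg.IsSteinerSystem 3 6 B) : Nat.card (Cfsg.setSystemAut B) = 887040 ∧ MulAction.IsMultiplyPretransitive (Cfsg.setSystemAut B) α 3 ∧ ∃ H : Subgroup (Cfsg.setSystemAut B), H.index = 2 ∧ Cfsg.IsM22 H := by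
  obtain ⟨ι, h⟩ := Lib.GolayUnique.Derived.exists_model22 hα hB
  have hO : ({none, some 0} : Finset GolayPt).card ≤ 2 := Finset.card_le_two
  let φ := Lib.GolayUnique.Derived.autOfModel h hO fun g hg =>
    Lib.GolayUnique.Derived.rigid22 hα hB h hg
  let H₀ := Spor.M22.subgroupOf (Lib.GolayUnique.Derived.pointSetStab {none, some 0})
  let H := H₀.map φ.toMonoidHom
  have hidx : H.index = 2 :=
    (Subgroup.index_map_equiv H₀ φ).trans Lib.GolayUnique.Derived.index_M22
  let ψ : Spor.M22 ≃* H :=
    (Subgroup.subgroupOfEquivOfLe Lib.GolayUnique.Derived.M22_le).symm.trans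
      (H₀.equivMapOfInjective φ.toMonoidHom φ.injective)
  have hcard : Nat.card H = 443520 := by
    rw [← Nat.card_congr ψ.toEquiv, Lib.Golay.card_spor_M22]
  refine ⟨?_, Lib.GolayUnique.Derived.multiply_pretransitive_of_model h hO ?_, H, hidx,
    (MulEquiv.isSimpleGroup_congr ψ.symm).mpr Lib.Golay.isSimple_spor_M22, hcard⟩
  · rw [← H.card_mul_index, hcard, hidx]
  · rw [Finset.card_pair (by simp)]

end Cfsg.Agent.S0414
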