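import Cfsg.Statements.S0427
import Cfsg.Agent.Lib.Steiner22.Graphs

set_option autoImplicit false
open Cfsg

namespace Cfsg.Agent.S0427

/-- The block graph (adjacent = disjoint) of an S(3, 6, 22) is strongly regular with parameters (77, 16, 0, 4). -/
theorem result {α : Type*} [Fintype α] (hα : Fintype.card α = 22) {B : Set (Finset α)} (hB : Cfsg.IsSteinerSystem 3 6 B) [Fintype B] [DecidableRel (Cfsg.blockGraph B).Adj] : (Cfsg.blockGraph B).IsSRGWith 77 16 0 4 := by
  classical
  have h := Lib.Steiner22.data_of hα hB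
  have adj := Lib.Steiner22.blockGraph_adj hB
  refine ⟨?_, fun b => ?_, fun b c hbc => ?_, fun b c hne hbc => ?_⟩
  · rw [← Set.toFinset_card]
    exact h.card_blocks
  · rw [← SimpleGraph.card_neighborFinset_eq_degree, SimpleGraph.neighborFinset_eq_filter]
    simp only [adj]
    rw [Lib.Steiner22.card_filter_subtype (fun x => Disjoint (b : Finset α) x)]
    exact h.disjoint_count (Set.mem_toFinset.mpr b.2)
  · rw [Lib.Steiner22.card_commonNeighbors]
    simp only [adj] at hbc ⊢
    rw [Finset.card_eq_zero, Finset.filter_eq_empty_iff]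
    intro d _ hd
    exact h.no_triangle (Set.mem_toFinset.mpr b.2) (Set.mem_toFinset.mpr c.2)
      (Set.mem_toFinset.mpr d.2) hbc hd.1 hd.2
  · rw [Lib.Steiner22.card_commonNeighbors]
    simp only [adj] at hbc ⊢
    rw [Lib.Steiner22.card_filter_subtype
      (fun x => Disjoint (b : Finset α) x ∧ Disjoint (c : Finset α) x)]
    exact h.mu_count (Set.mem_toFinset.mpr b.2) (Set.mem_toFinset.mpr c.2)
      (fun e => hne (Subtype.ext e)) hbc

end Cfsg.Agent.S0427
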