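import Cfsg.Statements.S0434
import Cfsg.Agent.Lib.RecogThree.M11.Unique
import Cfsg.Agent.Lib.RecogThree.M11.Sylow3
import Cfsg.Agent.Lib.Steiner11.Aut

set_option autoImplicit false
open Cfsg

namespace Cfsg.Agent.S0434

/-- Sylow 3-normalisers in a simple group of order 7920 have order 144 (so there are 55 Sylow 3-subgroups). -/
theorem result {G : Type*} [Group G] [Finite G] (hG : Cfsg.IsM11 G) (P : Sylow 3 G) : Nat.card (Subgroup.normalizer ((P : Subgroup G) : Set G)) = 144 := by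
  haveI := hG.1
  obtain ⟨e₁⟩ := Cfsg.Agent.Lib.RecogThree.M11.Unique.equiv_M11 hG.2
  obtain ⟨e₂⟩ := Cfsg.Agent.Lib.Steiner11.exists_equiv_M11 Cfsg.Agent.Lib.Steiner11.card_ept
    Cfsg.Agent.Lib.Steiner11.sys11_steiner
  let e := e₁.trans e₂
  letI : MulAction G Cfsg.Agent.Lib.Steiner11.EPt :=
    MulAction.compHom _ e.toMonoidHom
  have h4 := Cfsg.Agent.Lib.Steiner11.transitive11
  refine Cfsg.Agent.Lib.RecogThree.M11.Sylow3.normalizer_card
    (α := Cfsg.Agent.Lib.Steiner11.EPt) (by rw [Nat.card_eq_fintype_card]; exact Cfsg.Agent.Lib.Steiner11.card_ept) ⟨?_, fun z => ?_⟩ P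
  · rw [MulAction.isMultiplyPretransitive_iff]
    intro z w
    haveI := h4
    obtain ⟨g, hg⟩ := MulAction.exists_smul_eq ↥(Cfsg.setSystemAut Cfsg.Agent.Lib.Steiner11.sys11) z w
    refine ⟨e.symm g, ?_⟩
    rw [← hg]
    apply Function.Embedding.ext
    intro i
    show (e (e.symm g)) • z i = g • z i
    rw [MulEquiv.apply_symm_apply]
  · rw [Subgroup.eq_bot_iff_forall]
    intro g hg
    have hm : e g ∈ MulAction.stabilizer (Cfsg.setSystemAut Cfsg.Agent.Lib.Steiner11.sys11) z :=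
      MulAction.mem_stabilizer_iff.mpr (MulAction.mem_stabilizer_iff.mp hg)
    rw [Cfsg.Agent.Lib.Steiner11.sharp_four Cfsg.Agent.Lib.Steiner11.card_ept
      Cfsg.Agent.Lib.Steiner11.sys11_steiner z, Subgroup.mem_bot] at hm
    exact e.injective (hm.trans (map_one e).symm)

end Cfsg.Agent.S0434
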