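import Cfsg.Statements.S0436

set_option autoImplicit false
open Cfsg

namespace Cfsg.Agent.S0436

/-- For distinct commuting members a, b of a set of 3-transpositions E, a member e of E centralises the product a * b if and only if it centralises both a and b. -/
theorem result {G : Type*} [Group G] {E : Set G} (hE : Cfsg.IsThreeTranspositionSet E) {a b e : G} (ha : a ∈ E) (hb : b ∈ E) (he : e ∈ E) (hab : a ≠ b) (hcomm : Commute a b) : Commute e (a * b) ↔ (Commute e a ∧ Commute e b) := by
  have sq : ∀ d ∈ E, d * d = 1 := fun d hd => by
    have := pow_orderOf_eq_one d; rw [hE.1 d hd, pow_two] at this; exact this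
  have inv : ∀ d ∈ E, d⁻¹ = d := fun d hd => inv_eq_of_mul_eq_one_right (sq d hd)
  refine ⟨fun h => ?_, fun h => h.1.mul_right h.2⟩
  have braid : ∀ d ∈ E, ¬ Commute e d → e * d * e = d * e * d := by
    intro d hd hne
    rcases hE.2 e he d hd with h2 | h3
    · refine absurd ?_ hne
      rw [pow_two] at h2
      have := eq_inv_of_mul_eq_one_left h2
      rwa [mul_inv_rev, inv e he, inv d hd] at this
    · have h3' : (e * d * e) * (d * e * d) = 1 := by
        rw [← h3]; simp [pow_succ, mul_assoc]
      have := eq_inv_of_mul_eq_one_left h3'
      simpa [mul_inv_rev, inv e he, inv d hd, mul_assoc] using this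
  by_cases hea : Commute e a
  · refine ⟨hea, ?_⟩
    have := hea.inv_right.mul_right h
    simpa using this
  · exfalso
    by_cases heb : Commute e b
    · apply hea
      have := h.mul_right heb.inv_right
      simpa using this
    · apply hab
      have e1 : e * (a * b) * e = a * b := by rw [h.eq, mul_assoc, sq e he, mul_one]
      have e2 : a * ((e * a) * (b * e)) * b = a * b := by
        calc a * ((e * a) * (b * e)) * b = (a * e * a) * (b * e * b) := by simp [mul_assoc]
          _ = (e * a * e) * (e * b * e) := by rw [braid a ha hea, braid b hb heb]
          _ = e * a * (e * e) * b * e := by simp [mul_assoc]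
          _ = e * (a * b) * e := by rw [sq e he]; simp [mul_assoc]
          _ = a * b := e1
      have e3 : (e * a) * (b * e) = 1 :=
        mul_left_cancel (a := a) (mul_right_cancel (b := b) (by rw [e2, mul_one]))
      have := eq_inv_of_mul_eq_one_left e3
      rw [mul_inv_rev, inv e he, inv b hb] at this
      exact mul_left_cancel this

end Cfsg.Agent.S0436
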