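import Cfsg.Statements.S0437
import Cfsg.Agent.S0436

set_option autoImplicit false
open Cfsg

namespace Cfsg.Agent.S0437

/-- For three distinct, pairwise commuting members a, b, c of a set of 3-transpositions E, a member e of E centralises a * b * c if and only if it centralises each of a, b and c. -/
theorem result {G : Type*} [Group G] {E : Set G} (hE : Cfsg.IsThreeTranspositionSet E) {a b c e : G} (ha : a ∈ E) (hb : b ∈ E) (hc : c ∈ E) (he : e ∈ E) (hab : a ≠ b) (hac : a ≠ c) (hbc : b ≠ c) (h₁ : Commute a b) (h₂ : Commute a c) (h₃ : Commute b c) : Commute e (a * b * c) ↔ (Commute e a ∧ Commute e b ∧ Commute e c) := by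
  have sq : ∀ d ∈ E, d * d = 1 := fun d hd => by
    have := pow_orderOf_eq_one d; rw [hE.1 d hd, pow_two] at this; exact this
  have inv : ∀ d ∈ E, d⁻¹ = d := fun d hd => inv_eq_of_mul_eq_one_right (sq d hd)
  refine ⟨fun h => ?_, fun h => (h.1.mul_right h.2.1).mul_right h.2.2⟩
  have bwd : ∀ u ∈ E, ∀ v ∈ E, u ≠ v → Commute u v → Commute e (u * v) → Commute e u ∧ Commute e v :=
    fun u hu v hv huv hc => (Cfsg.Agent.S0436.result hE hu hv he huv hc).1
  by_cases hea : Commute e a
  · refine ⟨hea, bwd b hb c hc hbc h₃ ?_⟩
    have := hea.inv_right.mul_right h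
    simpa [mul_assoc] using this
  by_cases heb : Commute e b
  · exfalso; apply hea
    refine (bwd a ha c hc hac h₂ ?_).1
    have hh : Commute e (a * c * b) := by rwa [mul_assoc, ← h₃.eq, ← mul_assoc]
    simpa [mul_assoc] using hh.mul_right heb.inv_right
  by_cases hec : Commute e c
  · exfalso; apply hea
    refine (bwd a ha b hb hab h₁ ?_).1
    simpa [mul_assoc] using h.mul_right hec.inv_right
  exfalso
  have braid : ∀ x ∈ E, ∀ d ∈ E, ¬ Commute x d → x * d * x = d * x * d := by
    intro x hx d hd hne
    rcases hE.2 x hx d hd with h2 | h3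
    · refine absurd ?_ hne
      rw [pow_two] at h2
      have := eq_inv_of_mul_eq_one_left h2
      rwa [mul_inv_rev, inv x hx, inv d hd] at this
    · have h3' : (x * d * x) * (d * x * d) = 1 := by
        rw [← h3]; simp [pow_succ, mul_assoc]
      have := eq_inv_of_mul_eq_one_left h3'
      simpa [mul_inv_rev, inv x hx, inv d hd, mul_assoc] using this
  -- conjugating e by a*b and by c gives the same element
  have hab2 : (a * b) * (a * b) = 1 := by
    rw [mul_assoc, ← mul_assoc b a b, ← h₁.eq, mul_assoc a b b, sq b hb, mul_one, sq a ha]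
  have habc : Commute (a * b) c := h₂.mul_left h₃
  have k1 : (a * b) * e * (a * b) = c * e * c := by
    have h' : (a * b) * (e * (a * b * c)) = (a * b) * ((a * b * c) * e) := by rw [h.eq]
    have h'' : (a * b) * e * (a * b) * c = c * e := by
      simpa [← mul_assoc, hab2] using h'
    calc (a * b) * e * (a * b) = (a * b) * e * (a * b) * c * c := by
          rw [mul_assoc _ c c, sq c hc, mul_one]
      _ = c * e * c := by rw [h'']
  have k2 : a * (e * b * e) * a = e * c * e := by
    rw [braid e he b hb heb, braid e he c hc hec, ← k1]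
    calc a * (b * e * b) * a = (a * b) * e * (b * a) := by simp [mul_assoc]
      _ = (a * b) * e * (a * b) := by rw [h₁.eq]
  -- so c is the conjugate of b by p = e a e
  obtain ⟨p, hp⟩ : ∃ p, p = e * a * e := ⟨_, rfl⟩
  have hpp : p * p = 1 := by
    rw [hp]
    calc e * a * e * (e * a * e) = e * a * (e * e) * a * e := by simp [mul_assoc]
      _ = 1 := by rw [sq e he, mul_one, mul_assoc e a a, sq a ha, mul_one, sq e he]
  have hcp : p * b * p = c := by
    rw [hp]
    calc e * a * e * b * (e * a * e) = e * (a * (e * b * e) * a) * e := by simp [mul_assoc]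
      _ = c := by rw [k2]; simp [← mul_assoc, sq e he]; simp [mul_assoc, sq e he]
  -- the product p * b has order 3, being conjugate to e * b
  have hpb : (p * b) * (p * b) * (p * b) = 1 := by
    have key : p * b = a * (e * b) * a⁻¹ := by
      rw [hp, braid e he a ha hea, inv a ha]
      calc a * e * a * b = a * e * (a * b) := by simp [mul_assoc]
        _ = a * (e * b) * a := by rw [h₁.eq]; simp [mul_assoc]
    have h3 : (e * b) ^ 3 = 1 := by
      rcases hE.2 e he b hb with h2 | h3
      · refine absurd ?_ heb
        rw [pow_two] at h2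
        have := eq_inv_of_mul_eq_one_left h2
        rwa [mul_inv_rev, inv e he, inv b hb] at this
      · exact h3
    have h4 : (p * b) ^ 3 = 1 := by rw [key, conj_pow, h3, mul_one, mul_inv_cancel]
    simpa [pow_succ] using h4
  have hbraid : p * b * p = b * p * b := by
    have h5 : (p * b * p) * (b * p * b) = 1 := by simpa [mul_assoc] using hpb
    have := eq_inv_of_mul_eq_one_left h5
    simpa [mul_inv_rev, inv b hb, inv_eq_of_mul_eq_one_right hpp, mul_assoc] using this
  have hpb' : Commute p b := by
    have h6 : b * (b * p * b) = (b * p * b) * b := by rw [← hbraid, hcp]; exact h₃.eq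
    have h7 : p * b = b * p := by
      calc p * b = b * (b * p * b) := by simp [← mul_assoc, sq b hb]
        _ = (b * p * b) * b := h6
        _ = b * p := by rw [mul_assoc (b * p) b b, sq b hb, mul_one]
    exact h7
  apply hbc
  calc b = b * (p * p) := by rw [hpp, mul_one]
    _ = p * b * p := by rw [← mul_assoc, hpb'.eq]
    _ = c := hcp

end Cfsg.Agent.S0437
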