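import Cfsg.Statements.S0438

set_option autoImplicit false
open Cfsg

namespace Cfsg.Agent.S0438

/-- Let E be a set of 3-transpositions closed under conjugation, and x an involutory automorphism of the group mapping E to itself. If some a in E fails to commute with its image x a, then x fixes an element of E. -/
theorem result {G : Type*} [Group G] {E : Set G} (hE : Cfsg.IsThreeTranspositionSet E) (hconj : ∀ g : G, ∀ d ∈ E, g * d * g⁻¹ ∈ E) (x : G ≃* G) (hx : ∀ g : G, x (x g) = g) (hxE : ∀ d ∈ E, x d ∈ E) {a : G} (ha : a ∈ E) (h : ¬ Commute a (x a)) : ∃ d ∈ E, x d = d := by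
  have sq : ∀ d ∈ E, d * d = 1 := fun d hd => by
    have := pow_orderOf_eq_one d; rw [hE.1 d hd, pow_two] at this; exact this
  have inv : ∀ d ∈ E, d⁻¹ = d := fun d hd => inv_eq_of_mul_eq_one_right (sq d hd)
  have hy : x a ∈ E := hxE a ha
  refine ⟨a * x a * a⁻¹, hconj a _ hy, ?_⟩
  rcases hE.2 a ha (x a) hy with h2 | h3
  · refine absurd ?_ h
    rw [pow_two] at h2
    have := eq_inv_of_mul_eq_one_left h2
    rwa [mul_inv_rev, inv a ha, inv _ hy] at this
  · rw [map_mul, map_mul, map_inv, hx, inv a ha, inv _ hy]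
    have h3' : (a * x a * a) * (x a * a * x a) = 1 := by
      rw [← h3]; simp [pow_succ, mul_assoc]
    have := eq_inv_of_mul_eq_one_left h3'
    simp only [mul_inv_rev, inv a ha, inv _ hy, ← mul_assoc] at this
    exact this.symm

end Cfsg.Agent.S0438
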