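import Cfsg.Statements.S0439

set_option autoImplicit false
open Cfsg

namespace Cfsg.Agent.S0439

/-- In the symmetric group of degree n ≥ 2, the set of transpositions is a conjugacy class of 3-transpositions which generates the group. -/
theorem result (n : ℕ) (hn : 2 ≤ n) : Cfsg.IsThreeTranspositionClass {σ : Equiv.Perm (Fin n) | σ.IsSwap} := by
  refine ⟨⟨?_, ?_⟩, ?_, ?_⟩
  · rintro d ⟨i, j, hij, rfl⟩
    exact orderOf_eq_prime (by rw [pow_two, Equiv.swap_mul_self]) (by simpa [Equiv.swap_eq_one_iff] using hij)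
  · rintro d ⟨i, j, hij, rfl⟩ e ⟨k, l, hkl, rfl⟩
    have shared : ∀ u v w : Fin n, v ≠ u → v ≠ w → (Equiv.swap v u * Equiv.swap v w) ^ 2 = 1 ∨
        (Equiv.swap v u * Equiv.swap v w) ^ 3 = 1 := by
      intro u v w hvu hvw
      by_cases huw : u = w
      · subst huw; left; simp [Equiv.swap_mul_self]
      · right
        have := (Equiv.Perm.isThreeCycle_swap_mul_swap_same hvu hvw huw).orderOf
        conv_lhs => arg 2; rw [← this]
        exact pow_orderOf_eq_one _
    by_cases h1 : i = k
    · subst h1; exact shared j i l hij hkl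
    by_cases h2 : i = l
    · subst h2; rw [Equiv.swap_comm k i]; exact shared j i k hij (Ne.symm hkl)
    by_cases h3 : j = k
    · subst h3; rw [Equiv.swap_comm i j]; exact shared i j l (Ne.symm hij) hkl
    by_cases h4 : j = l
    · subst h4; rw [Equiv.swap_comm i j, Equiv.swap_comm k j]; exact shared i j k (Ne.symm hij) (Ne.symm hkl)
    left
    have hd : (Equiv.swap i j).Disjoint (Equiv.swap k l) := by
      intro x
      by_cases hx : x = i ∨ x = j
      · right; rcases hx with rfl | rfl <;> exact Equiv.swap_apply_of_ne_of_ne (by assumption) (by assumption)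
      · left; push_neg at hx; exact Equiv.swap_apply_of_ne_of_ne hx.1 hx.2
    rw [hd.commute.mul_pow]; simp [pow_two, Equiv.swap_mul_self]
  · have h01 : (⟨0, by omega⟩ : Fin n) ≠ ⟨1, by omega⟩ := by simp [Fin.ext_iff]
    refine ⟨Equiv.swap _ _, ⟨_, _, h01, rfl⟩, ?_⟩
    ext s
    refine ⟨?_, ?_⟩
    · rintro ⟨i, j, hij, rfl⟩
      exact Equiv.Perm.isConj_swap h01 hij
    · intro hs
      obtain ⟨c, hc⟩ := isConj_iff.1 (show IsConj _ s from hs)
      subst hc
      exact ⟨c ⟨0, by omega⟩, c ⟨1, by omega⟩, by simpa using h01,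
        by rw [Equiv.mul_swap_eq_swap_mul, mul_assoc, mul_inv_cancel, mul_one]⟩
  · exact Equiv.Perm.closure_isSwap

end Cfsg.Agent.S0439
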