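import Cfsg.Statements.S0442

set_option autoImplicit false
open Cfsg

namespace Cfsg.Agent.S0442

/-- A standard trick for producing elements of an involution centraliser: for an involution a and an element g, let b be the conjugate g⁻¹ * a * g. If a * b has odd order 2m + 1 then g * (a * b) ^ m commutes with a; if a * b has even order 2m then (a * b) ^ m and (a * (g * a * g⁻¹)) ^ m commute with a. -/
theorem result {G : Type*} [Group G] (a g : G) (ha : orderOf a = 2) : (∀ m : ℕ, orderOf (a * (g⁻¹ * a * g)) = 2 * m + 1 → Commute (g * (a * (g⁻¹ * a * g)) ^ m) a) ∧ (∀ m : ℕ, orderOf (a * (g⁻¹ * a * g)) = 2 * m → Commute ((a * (g⁻¹ * a * g)) ^ m) a ∧ Commute ((a * (g * a * g⁻¹)) ^ m) a) := by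
  have haa : a * a = 1 := by
    have := pow_orderOf_eq_one a; rwa [ha, pow_two] at this
  have hinv : a⁻¹ = a := inv_eq_of_mul_eq_one_right haa
  obtain ⟨b, hb⟩ : ∃ b, b = g⁻¹ * a * g := ⟨_, rfl⟩
  have hbb : b * b = 1 := by
    rw [hb]
    calc g⁻¹ * a * g * (g⁻¹ * a * g) = g⁻¹ * (a * a) * g := by simp [mul_assoc]
      _ = 1 := by rw [haa, mul_one, inv_mul_cancel]
  have hbinv : b⁻¹ = b := inv_eq_of_mul_eq_one_right hbb
  rw [← hb]
  obtain ⟨c, hc⟩ : ∃ c, c = a * b := ⟨_, rfl⟩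
  rw [← hc]
  have sa : SemiconjBy a c c⁻¹ := by
    show a * c = c⁻¹ * a
    rw [hc, mul_inv_rev, hinv, hbinv, ← mul_assoc, haa, one_mul, mul_assoc, haa, mul_one]
  have sb : SemiconjBy b c c⁻¹ := by
    show b * c = c⁻¹ * b
    rw [hc, mul_inv_rev, hinv, hbinv, ← mul_assoc]
  refine ⟨fun m hm => ?_, fun m hm => ?_⟩
  · have hge : a * g = g * b := by rw [hb]; simp [← mul_assoc]
    have h1 : c ^ (2 * m + 1) = 1 := hm ▸ pow_orderOf_eq_one c
    have hcm : c⁻¹ ^ m = c ^ (m + 1) := by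
      rw [inv_pow, inv_eq_of_mul_eq_one_right]
      rw [← pow_add, show m + (m + 1) = 2 * m + 1 by omega, h1]
    refine Commute.symm ?_
    show a * (g * c ^ m) = g * c ^ m * a
    calc a * (g * c ^ m) = g * (b * c ^ m) := by rw [← mul_assoc, hge, mul_assoc]
      _ = g * (c⁻¹ ^ m * b) := by rw [(sb.pow_right m).eq]
      _ = g * c ^ m * a := by
        rw [hcm, pow_succ, mul_assoc g, mul_assoc (c ^ m), show c * b = a by
          rw [hc, mul_assoc, hbb, mul_one]]
  · have key : ∀ y : G, SemiconjBy a y y⁻¹ → y ^ (2 * m) = 1 → Commute (y ^ m) a := by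
      intro y hy h1
      have h2 : y⁻¹ ^ m = y ^ m := by
        rw [inv_pow, inv_eq_of_mul_eq_one_right]
        rw [← pow_add, ← two_mul, h1]
      refine Commute.symm ?_
      have := (hy.pow_right m).eq
      rwa [h2] at this
    refine ⟨key c sa (hm ▸ pow_orderOf_eq_one c), ?_⟩
    have hdd : a * (g * a * g⁻¹) = g * c⁻¹ * g⁻¹ := by
      rw [hc, mul_inv_rev, hinv, hbinv, hb]; simp [mul_assoc]
    refine key _ ?_ ?_
    · show a * (a * (g * a * g⁻¹)) = (a * (g * a * g⁻¹))⁻¹ * a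
      simp only [mul_inv_rev, inv_inv, hinv]
      simp only [mul_assoc]; rw [← mul_assoc a a, haa, one_mul, mul_one]
    · rw [hdd, conj_pow, inv_pow, ← hm, pow_orderOf_eq_one, inv_one, mul_one, mul_inv_cancel]

end Cfsg.Agent.S0442
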