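import Cfsg.Statements.S0443

set_option autoImplicit false
open Cfsg

namespace Cfsg.Agent.S0443

/-- Two definitions of a 2-central involution agree: an element t of order 2 of a finite group lies in the centre of some Sylow 2-subgroup if and only if its centraliser contains some Sylow 2-subgroup. -/
theorem result {G : Type*} [Group G] [Finite G] (t : G) (ht : orderOf t = 2) : Cfsg.IsTwoCentralInvolution t ↔ ∃ P : Sylow 2 G, (P : Subgroup G) ≤ Subgroup.centralizer ({t} : Set G) := by
  constructor
  · rintro ⟨-, P, -, hc⟩
    exact ⟨P, fun x hx => Subgroup.mem_centralizer_singleton_iff.2 (hc x hx)⟩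
  · rintro ⟨P, hP⟩
    refine ⟨ht, P, ?_, fun x hx => Subgroup.mem_centralizer_singleton_iff.1 (hP hx)⟩
    have hz : IsPGroup 2 (Subgroup.zpowers t) := IsPGroup.of_card (n := 1) (by rw [Nat.card_zpowers, ht, pow_one])
    have hn : t ∈ Subgroup.normalizer ((P : Subgroup G) : Set G) := by
      rw [Subgroup.mem_normalizer_iff]
      intro x
      have key : ∀ y ∈ (P : Subgroup G), t * y * t⁻¹ = y := fun y hy => by
        rw [← Subgroup.mem_centralizer_singleton_iff.1 (hP hy), mul_inv_cancel_right]
      refine ⟨fun hx => (key x hx).symm ▸ hx, fun hx => ?_⟩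
      have := key _ hx
      have h' : t * x * t⁻¹ = x := mul_left_cancel (mul_right_cancel this)
      rwa [h'] at hx
    have hm : t ∈ Subgroup.zpowers t ⊓ Subgroup.normalizer ((P : Subgroup G) : Set G) :=
      ⟨Subgroup.mem_zpowers t, hn⟩
    exact ((hz.inf_normalizer_sylow P).le hm).2

end Cfsg.Agent.S0443
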