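import Cfsg.Statements.S0444

set_option autoImplicit false
open Cfsg

namespace Cfsg.Agent.S0444

/-- Two members of a set of 3-transpositions which do not commute generate a subgroup isomorphic to the symmetric group on three letters. -/
theorem result {G : Type*} [Group G] {E : Set G} (hE : Cfsg.IsThreeTranspositionSet E) {d e : G} (hd : d ∈ E) (he : e ∈ E) (h : ¬ Commute d e) : Nonempty (Subgroup.closure ({d, e} : Set G) ≃* Equiv.Perm (Fin 3)) := by
  have sq : ∀ d ∈ E, d * d = 1 := fun d hd => by
    have := pow_orderOf_eq_one d; rw [hE.1 d hd, pow_two] at this; exact this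
  have inv : ∀ d ∈ E, d⁻¹ = d := fun d hd => inv_eq_of_mul_eq_one_right (sq d hd)
  have hde3 : (d * e) ^ 3 = 1 := by
    rcases hE.2 d hd e he with h2 | h3
    · refine absurd ?_ h
      rw [pow_two] at h2
      have := eq_inv_of_mul_eq_one_left h2
      rwa [mul_inv_rev, inv d hd, inv e he] at this
    · exact h3
  obtain ⟨c, hc⟩ : ∃ c, c = d * e := ⟨_, rfl⟩
  rw [← hc] at hde3
  have hcd : c * d = d * c⁻¹ := by
    rw [hc, mul_inv_rev, inv d hd, inv e he, mul_assoc]
  have hcd' : ∀ n : ℕ, c ^ n * d = d * c⁻¹ ^ n := fun n =>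
    ((show SemiconjBy d c⁻¹ c from hcd.symm).pow_right n).eq.symm
  have hc2 : c⁻¹ = c ^ 2 := inv_eq_of_mul_eq_one_right (by rw [← pow_succ', hde3])
  have hmod : ∀ n : ℕ, c ^ n = c ^ (n % 3) := fun n => pow_eq_pow_mod n hde3
  let f : DihedralGroup 3 → G := fun x => match x with
    | .r i => c ^ i.val
    | .sr i => d * c ^ i.val
  have hadd : ∀ i j : ZMod 3, c ^ i.val * c ^ j.val = c ^ (i + j).val := fun i j => by
    rw [← pow_add, hmod, ZMod.val_add]
  have hsub : ∀ i j : ZMod 3, c ^ i.val * (d * c ^ j.val) = d * c ^ (j - i).val := fun i j => by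
    rw [← mul_assoc, hcd', mul_assoc, hc2, ← pow_mul, ← pow_add, hmod]
    congr 2; revert i j; decide
  have hf : ∀ x y, f (x * y) = f x * f y := by
    intro x y
    rcases x with i | i <;> rcases y with j | j <;> simp only [f, DihedralGroup.r_mul_r,
      DihedralGroup.r_mul_sr, DihedralGroup.sr_mul_r, DihedralGroup.sr_mul_sr]
    · exact (hadd i j).symm
    · exact (hsub i j).symm
    · rw [mul_assoc, hadd]
    · rw [mul_assoc, hsub, ← mul_assoc d d, sq d hd, one_mul]
  let φ : DihedralGroup 3 →* G := MonoidHom.mk' f hf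
  have hc1 : c ≠ 1 := fun hc1 => h (by
    rw [hc] at hc1
    rw [show e = d by rw [← inv e he]; exact (eq_inv_of_mul_eq_one_left hc1).symm])
  have hfin : ∀ i : ZMod 3, c ^ i.val = 1 → i = 0 := by
    intro i hi
    by_contra hne
    apply hc1
    have hco : Nat.Coprime i.val 3 := (by decide : ∀ j : ZMod 3, j ≠ 0 → Nat.Coprime j.val 3) i hne
    have h' := Nat.dvd_gcd (orderOf_dvd_of_pow_eq_one hi) (orderOf_dvd_of_pow_eq_one hde3)
    rw [hco.gcd_eq_one, Nat.dvd_one, orderOf_eq_one_iff] at h'
    exact h'
  have hinj : Function.Injective φ := by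
    rw [injective_iff_map_eq_one]
    rintro (i | i) hi
    · rw [hfin i hi]; rfl
    · exfalso
      have hi' : d = (c ^ i.val)⁻¹ := eq_inv_of_mul_eq_one_left hi
      apply h
      have : Commute d c := by rw [hi']; exact (Commute.pow_self c _).inv_left
      have h' := ((Commute.refl d).inv_right).mul_right this
      rwa [hc, inv_mul_cancel_left] at h'
  have hrange : φ.range = Subgroup.closure {d, e} := by
    refine le_antisymm ?_ ?_
    · rintro _ ⟨x, rfl⟩
      have md : d ∈ Subgroup.closure ({d, e} : Set G) := Subgroup.subset_closure (by simp)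
      have mc : c ∈ Subgroup.closure ({d, e} : Set G) :=
        hc ▸ mul_mem md (Subgroup.subset_closure (by simp))
      rcases x with i | i
      · exact pow_mem mc _
      · exact mul_mem md (pow_mem mc _)
    · rw [Subgroup.closure_le]
      rintro x (hx | hx) <;> rw [hx]
      · exact ⟨.sr 0, by show d * c ^ (0 : ZMod 3).val = _; simp⟩
      · refine ⟨.sr 1, ?_⟩
        show d * c ^ (1 : ZMod 3).val = _
        rw [show (1 : ZMod 3).val = 1 from rfl, pow_one, hc, ← mul_assoc, sq d hd, one_mul]
  let g : DihedralGroup 3 → Equiv.Perm (Fin 3) := fun x => match x with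
    | .r i => (finRotate 3) ^ i.val
    | .sr i => Equiv.swap 0 1 * (finRotate 3) ^ i.val
  have hg : ∀ x y, g (x * y) = g x * g y := by decide
  have hgb : Function.Bijective g := by decide
  exact ⟨((MulEquiv.subgroupCongr hrange.symm).trans (MonoidHom.ofInjective hinj).symm).trans
    (MulEquiv.ofBijective (MonoidHom.mk' g hg) hgb)⟩

end Cfsg.Agent.S0444
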