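import Cfsg.Statements.S0445
-- import your own Cfsg.Agent.* helpers here

set_option autoImplicit false
open Cfsg Matrix

namespace Cfsg.Agent.S0445

/-- The determinant of a 3 × 3 matrix given by rows. -/
def det3 (M : Matrix (Fin 3) (Fin 3) (ZMod 2)) : ZMod 2 :=
  M 0 0 * (M 1 1 * M 2 2 - M 1 2 * M 2 1) - M 0 1 * (M 1 0 * M 2 2 - M 1 2 * M 2 0) +
    M 0 2 * (M 1 0 * M 2 1 - M 1 1 * M 2 0)

/-- A matrix commuting with the transvection, from its free entries. -/
def build (a : Fin 4 → ZMod 2) (b : Fin 3 → ZMod 2) (M : Matrix (Fin 3) (Fin 3) (ZMod 2)) :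
    Matrix (Fin 5) (Fin 5) (ZMod 2) :=
  !![1, a 0, a 1, a 2, a 3; 0, 1, 0, 0, 0; 0, b 0, M 0 0, M 0 1, M 0 2;
     0, b 1, M 1 0, M 1 1, M 1 2; 0, b 2, M 2 0, M 2 1, M 2 2]

theorem det_build (a : Fin 4 → ZMod 2) (b : Fin 3 → ZMod 2) (M : Matrix (Fin 3) (Fin 3) (ZMod 2)) :
    (build a b M).det = det3 M := by
  rw [det_succ_column_zero, Finset.sum_eq_single (0 : Fin 5)]
  · rw [det_succ_row_zero, Finset.sum_eq_single (0 : Fin 4)]
    · simp [build, Fin.succAbove, det_fin_three, det3]
      ring
    · intro i _ hi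
      fin_cases i
      · exact absurd rfl hi
      all_goals simp [build, Fin.succAbove]
    · simp
  · intro i _ hi
    fin_cases i
    · exact absurd rfl hi
    all_goals simp [build]
  · simp

theorem card_det3 : Fintype.card {M : Matrix (Fin 3) (Fin 3) (ZMod 2) // det3 M = 1} = 168 := by
  decide +kernel

/-- In the special linear group of dimension 5 over the field with two elements, the centraliser of a transvection has order 21504 = 2 ^ 7 · 168 (it is an extension of an extraspecial group of order 2 ^ 7 by the simple group of order 168). -/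
theorem result (s : Matrix.SpecialLinearGroup (Fin 5) (ZMod 2)) (hs : (s : Matrix (Fin 5) (Fin 5) (ZMod 2)) = Matrix.transvection 0 1 1) : Nat.card (Subgroup.centralizer ({s} : Set (Matrix.SpecialLinearGroup (Fin 5) (ZMod 2)))) = 21504 := by
  classical
  let S := Matrix.SpecialLinearGroup (Fin 5) (ZMod 2)
  let f : (Fin 4 → ZMod 2) × (Fin 3 → ZMod 2) × {M : Matrix (Fin 3) (Fin 3) (ZMod 2) // det3 M = 1} → S :=
    fun p => ⟨build p.1 p.2.1 p.2.2.1, by rw [det_build]; exact p.2.2.2⟩
  have hbuild : ∀ a b M, build a b M * transvection 0 1 1 = transvection 0 1 1 * build a b M := by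
    intro a b M
    ext i j
    simp only [Matrix.transvection, mul_add, add_mul, mul_one, one_mul, Matrix.add_apply]
    congr 1
    fin_cases i <;> fin_cases j <;> simp [build, Matrix.mul_apply, Matrix.single, Fin.sum_univ_five]
  have hrange : ∀ x : S, x ∈ Subgroup.centralizer ({s} : Set S) ↔ ∃ p, f p = x := by
    intro x
    rw [Subgroup.mem_centralizer_singleton_iff]
    constructor
    · intro hx
      have h : (x : Matrix (Fin 5) (Fin 5) (ZMod 2)) * transvection 0 1 1 =
          transvection 0 1 1 * (x : Matrix (Fin 5) (Fin 5) (ZMod 2)) := by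
        rw [← hs, ← Matrix.SpecialLinearGroup.coe_mul, ← Matrix.SpecialLinearGroup.coe_mul, hx]
      set X := (x : Matrix (Fin 5) (Fin 5) (ZMod 2)) with hX
      have e : ∀ i j, (X * Matrix.single (0 : Fin 5) (1 : Fin 5) (1 : ZMod 2)) i j =
          (Matrix.single (0 : Fin 5) (1 : Fin 5) (1 : ZMod 2) * X) i j := by
        intro i j
        have h' := congrFun (congrFun h i) j
        simpa [Matrix.transvection, mul_add, add_mul] using h'
      have h00 : X 0 0 = X 1 1 := by simpa [Matrix.mul_apply, Matrix.single] using e 0 1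
      have hc : ∀ i, i ≠ 0 → X i 0 = 0 := fun i hi => by
        simpa [Matrix.mul_apply, Matrix.single, Ne.symm hi] using e i 1
      have hr : ∀ j, j ≠ 1 → X 1 j = 0 := fun j hj => by
        have := e 0 j
        simpa [Matrix.mul_apply, Matrix.single, Ne.symm hj] using this.symm
      have hone : X 0 0 = 1 := by
        rcases (by decide : ∀ z : ZMod 2, z = 0 ∨ z = 1) (X 0 0) with h0 | h0
        · exfalso
          have hdet : X.det = 0 := Matrix.det_eq_zero_of_column_eq_zero 0 fun i => by
            by_cases hi : i = 0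
            · rw [hi]; exact h0
            · exact hc i hi
          rw [hX, x.det_coe] at hdet
          exact one_ne_zero hdet
        · exact h0
      have hXb : X = build ![X 0 1, X 0 2, X 0 3, X 0 4] ![X 2 1, X 3 1, X 4 1]
          !![X 2 2, X 2 3, X 2 4; X 3 2, X 3 3, X 3 4; X 4 2, X 4 3, X 4 4] := by
        ext i j
        fin_cases i <;> fin_cases j <;>
          first
            | rfl
            | exact hone
            | exact h00.symm.trans hone
            | exact hc _ (by decide)
            | exact hr _ (by decide)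
      refine ⟨(![X 0 1, X 0 2, X 0 3, X 0 4], ![X 2 1, X 3 1, X 4 1],
        ⟨!![X 2 2, X 2 3, X 2 4; X 3 2, X 3 3, X 3 4; X 4 2, X 4 3, X 4 4], ?_⟩), Subtype.ext hXb.symm⟩
      rw [← det_build ![X 0 1, X 0 2, X 0 3, X 0 4] ![X 2 1, X 3 1, X 4 1], ← hXb, hX]
      exact x.det_coe
    · rintro ⟨p, rfl⟩
      apply Subtype.ext
      rw [Matrix.SpecialLinearGroup.coe_mul, Matrix.SpecialLinearGroup.coe_mul, hs]
      exact hbuild _ _ _
  have hinj : Function.Injective f := by
    rintro ⟨a, b, M, hM⟩ ⟨a', b', M', hM'⟩ h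
    have h' : build a b M = build a' b' M' := congrArg Subtype.val h
    have g : ∀ i j, build a b M i j = build a' b' M' i j := fun i j => by rw [h']
    refine Prod.ext ?_ (Prod.ext ?_ (Subtype.ext ?_))
    · funext k; fin_cases k
      exacts [g 0 1, g 0 2, g 0 3, g 0 4]
    · funext k; fin_cases k
      exacts [g 2 1, g 3 1, g 4 1]
    · ext i j; fin_cases i <;> fin_cases j
      exacts [g 2 2, g 2 3, g 2 4, g 3 2, g 3 3, g 3 4, g 4 2, g 4 3, g 4 4]
  rw [← Nat.card_congr (Equiv.ofBijective (fun p => (⟨f p, (hrange _).2 ⟨p, rfl⟩⟩ :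
    ↥(Subgroup.centralizer ({s} : Set S)))) ⟨fun p q h => hinj (congrArg Subtype.val h),
      fun x => let ⟨p, hp⟩ := (hrange x).1 x.2; ⟨p, Subtype.ext hp⟩⟩),
    Nat.card_eq_fintype_card, Fintype.card_prod, Fintype.card_prod, card_det3]
  simp

end Cfsg.Agent.S0445
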