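import Cfsg.Statements.S0446

set_option autoImplicit false
open Cfsg

namespace Cfsg.Agent.S0446

/-- Every finite group of even order contains a 2-central involution, i.e. an element of order 2 in the centre of some Sylow 2-subgroup. -/
theorem result {G : Type*} [Group G] [Finite G] (h : Even (Nat.card G)) : ∃ t : G, Cfsg.IsTwoCentralInvolution t := by
  obtain ⟨P⟩ := (inferInstance : Nonempty (Sylow 2 G))
  have hP1 : Nontrivial (P : Subgroup G) := by
    rw [Subgroup.nontrivial_iff_ne_bot]
    exact P.ne_bot_of_dvd_card (even_iff_two_dvd.1 h)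
  have := P.isPGroup'.center_nontrivial
  have hdvd : 2 ∣ Nat.card (Subgroup.center (P : Subgroup G)) :=
    (P.isPGroup'.to_subgroup _).card_eq_or_dvd.resolve_left (Finite.one_lt_card).ne'
  obtain ⟨x, hx⟩ := exists_prime_orderOf_dvd_card' 2 hdvd
  refine ⟨((x : (P : Subgroup G)) : G), ?_, P, (x : (P : Subgroup G)).2, fun y hy => ?_⟩
  · rw [Subgroup.orderOf_coe, Subgroup.orderOf_coe, hx]
  · exact congrArg Subtype.val (Subgroup.mem_center_iff.1 x.2 ⟨y, hy⟩)

end Cfsg.Agent.S0446
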