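import Cfsg.Statements.S0457
import Cfsg.Agent.Lib.SporMatrix.J1

set_option autoImplicit false
open Cfsg

namespace Cfsg.Agent.S0457

/-- The subgroup of GL(7, 11) generated by the two explicit Janko matrices is simple of order 175560. -/
theorem result : ∃ x y : GL (Fin 7) (ZMod 11), (x : Matrix (Fin 7) (Fin 7) (ZMod 11)) = Cfsg.jankoMatrixX ∧ (y : Matrix (Fin 7) (Fin 7) (ZMod 11)) = Cfsg.jankoMatrixY ∧ Cfsg.IsJ1 (Subgroup.closure ({x, y} : Set (GL (Fin 7) (ZMod 11)))) :=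
  ⟨Cfsg.Spor.jankoX, Cfsg.Spor.jankoY, rfl, rfl,
    ⟨Cfsg.Agent.Lib.SporMatrix.J1.isSimpleGroup_J1, Cfsg.Agent.Lib.SporMatrix.J1.card_J1⟩⟩

end Cfsg.Agent.S0457
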