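import Cfsg.Statements.S0458
import Cfsg.Agent.Lib.SporMatrix.J3Sub

set_option autoImplicit false
open Cfsg

namespace Cfsg.Agent.S0458

/-- Janko's third group exists as a transitive permutation group of degree 6156 with point stabiliser of order 8160: a simple group of order 50232960. -/
theorem result : ∃ H : Subgroup (Equiv.Perm (Fin 6156)), Cfsg.IsJ3 H ∧ MulAction.IsPretransitive H (Fin 6156) ∧ Nat.card (MulAction.stabilizer H (0 : Fin 6156)) = 8160 := by
  classical
  letI : Fintype (GaloisField 2 2) := Fintype.ofFinite _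
  have hF : Fintype.card (GaloisField 2 2) = 4 := by
    rw [Fintype.card_eq_nat_card, GaloisField.card 2 2 (by norm_num)]; norm_num
  obtain ⟨ω, -, hω0, hω1⟩ : ∃ x ∈ (Finset.univ : Finset (GaloisField 2 2)), x ≠ 0 ∧ x ≠ 1 := by
    by_contra hcon
    push Not at hcon
    have hsub : (Finset.univ : Finset (GaloisField 2 2)) ⊆ {0, 1} := fun x _ => by
      by_cases hx : x = 0
      · simp [hx]
      · simp [hcon x (Finset.mem_univ x) hx]
    have := (Finset.card_le_card hsub).trans Finset.card_le_two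
    rw [Finset.card_univ, hF] at this
    omega
  have hω : ω ^ 2 + ω + 1 = 0 := by
    have h : ω ^ 3 = 1 := by
      have := FiniteField.pow_card_sub_one_eq_one ω hω0
      rwa [hF] at this
    refine (mul_eq_zero.1 (?_ : (ω - 1) * (ω ^ 2 + ω + 1) = 0)).resolve_left (sub_ne_zero.2 hω1)
    linear_combination h
  have hg := Cfsg.Agent.Lib.SporMatrix.J3.good_of_card hF hω
  obtain ⟨H, ⟨e⟩, htr, hst⟩ := Cfsg.Agent.Lib.SporMatrix.J3.exists_perm hg
  haveI := Cfsg.Agent.Lib.SporMatrix.J3.isSimpleGroup_J3 hg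
  exact ⟨H, ⟨e.symm.isSimpleGroup, by
    rw [← Nat.card_congr e.toEquiv]; exact Cfsg.Agent.Lib.SporMatrix.J3.card_J3 hg⟩, htr, hst⟩

end Cfsg.Agent.S0458
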