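import Cfsg.Statements.S0460
import Cfsg.Agent.S1699
import Cfsg.Agent.Lib.CosetEnum.ONSub.InON

set_option autoImplicit false
open Cfsg

namespace Cfsg.Agent.S0460

open Cfsg.Agent.Lib.CosetEnum

/-- The O'Nan group exists as a transitive permutation group of degree 122760: simple of order 460815505920, point stabiliser of order 3753792, and containing simple subgroups of orders 175560 and 7920. -/
theorem result : ∃ H : Subgroup (Equiv.Perm (Fin 122760)), Cfsg.IsON H ∧ MulAction.IsPretransitive H (Fin 122760) ∧ Nat.card (MulAction.stabilizer H (0 : Fin 122760)) = 3753792 ∧ (∃ K : Subgroup H, Cfsg.IsJ1 K) ∧ (∃ K : Subgroup H, Cfsg.IsM11 K) := by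
  obtain ⟨ρ, -, hst, htr, hinj, hG, hJ⟩ := ONOrbit.main
  obtain ⟨hsimple, hord⟩ := Cfsg.Agent.S1699.result
  haveI : IsSimpleGroup ONOrbit.G := hsimple
  haveI : Finite ONOrbit.G := Nat.finite_of_card_ne_zero (by rw [hG]; omega)
  let e : ONOrbit.G ≃* ρ.range := MonoidHom.ofInjective hinj
  obtain ⟨⟨K1, hK1⟩, ⟨K11, hK11⟩⟩ := ONSub.exists_subs
  have hpre : MulAction.IsPretransitive ρ.range (Fin 122760) := ⟨fun a b => by
    obtain ⟨g, hg⟩ := htr a
    obtain ⟨g', hg'⟩ := htr b
    refine ⟨⟨ρ (g' * g⁻¹), ⟨_, rfl⟩⟩, ?_⟩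
    show ρ (g' * g⁻¹) a = b
    rw [map_mul, map_inv, Equiv.Perm.mul_apply, ← hg]
    simpa using hg'⟩
  have hcard : Nat.card ρ.range = 460815505920 := (Nat.card_congr e.toEquiv).symm.trans hG
  refine ⟨ρ.range, ⟨e.symm.isSimpleGroup, hcard⟩, hpre, ?_, ?_, ?_⟩
  · let f : ONOrbit.J ≃ MulAction.stabilizer ρ.range (0 : Fin 122760) :=
      { toFun := fun x => ⟨e x.1, (hst x.1).1 x.2⟩
        invFun := fun y => ⟨e.symm y.1, (hst _).2 (by
          have h : (e (e.symm y.1)).1 (0 : Fin 122760) = 0 := by rw [MulEquiv.apply_symm_apply]; exact y.2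
          exact h)⟩
        left_inv := fun x => Subtype.ext (e.symm_apply_apply _)
        right_inv := fun y => Subtype.ext (e.apply_symm_apply _) }
    exact (Nat.card_congr f).symm.trans hJ
  · refine ⟨K1.map e.toMonoidHom, ?_⟩
    have e' : K1 ≃* K1.map e.toMonoidHom := K1.equivMapOfInjective _ e.injective
    haveI := hK1.1
    exact ⟨e'.symm.isSimpleGroup, (Nat.card_congr e'.toEquiv).symm.trans hK1.2⟩
  · refine ⟨K11.map e.toMonoidHom, ?_⟩
    have e' : K11 ≃* K11.map e.toMonoidHom := K11.equivMapOfInjective _ e.injective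
    haveI := hK11.1
    exact ⟨e'.symm.isSimpleGroup, (Nat.card_congr e'.toEquiv).symm.trans hK11.2⟩

end Cfsg.Agent.S0460
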