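import Cfsg.Statements.S0462
import Cfsg.Agent.Lib.CosetEnumHe.Stab
import Cfsg.Agent.S1695

set_option autoImplicit false
open Cfsg

namespace Cfsg.Agent.S0462

/-- The Held group exists as a transitive permutation group of degree 2058: simple of order 4030387200, with point stabiliser containing, with index 2, a copy of the 4-dimensional symplectic group over the field with four elements. -/
theorem result : ∃ H : Subgroup (Equiv.Perm (Fin 2058)), Cfsg.IsHe H ∧ MulAction.IsPretransitive H (Fin 2058) ∧ ∃ (F : Type) (_ : Field F) (_ : Fintype F), Fintype.card F = 4 ∧ ∃ N : Subgroup (MulAction.stabilizer H (0 : Fin 2058)), N.index = 2 ∧ Nonempty (N ≃* Matrix.symplecticGroup (Fin 2) F) := by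
  obtain ⟨ρ, -, hst, htr, hinj, hord, -⟩ := Cfsg.Agent.Lib.CosetEnumHe.Held.exists_action
  obtain ⟨N, -, hi, ⟨eN⟩⟩ := Cfsg.Agent.Lib.CosetEnumHe.Stab.exists_normal
  let e : Cfsg.Spor.He ≃* ρ.range := MonoidHom.ofInjective hinj
  refine ⟨ρ.range, ?_, ?_, Cfsg.Agent.Lib.RecogThree.OrdersFive.GF4, inferInstance, inferInstance,
    Cfsg.Agent.Lib.RecogThree.OrdersFive.GF4.card_eq, ?_⟩
  · obtain ⟨hs, hc⟩ := Cfsg.Agent.S1695.result
    haveI := hs
    haveI : Nontrivial ρ.range := e.symm.toEquiv.nontrivial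
    exact ⟨IsSimpleGroup.isSimpleGroup_of_surjective (f := e.toMonoidHom) e.surjective
      , (Nat.card_congr e.toEquiv).symm.trans hc⟩
  · refine ⟨fun a b => ?_⟩
    obtain ⟨x, rfl⟩ := htr a
    obtain ⟨y, rfl⟩ := htr b
    refine ⟨e (y * x⁻¹), ?_⟩
    change ρ (y * x⁻¹) (ρ x ⟨0, by omega⟩) = ρ y ⟨0, by omega⟩
    rw [← Equiv.Perm.mul_apply, ← map_mul, inv_mul_cancel_right]
  · have hmap : Cfsg.Agent.Lib.CosetEnumHe.Held.H2058.map e.toMonoidHom =
        MulAction.stabilizer ρ.range (0 : Fin 2058) := by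
      ext g
      obtain ⟨x, rfl⟩ := e.surjective g
      rw [Subgroup.mem_map_equiv, MulEquiv.symm_apply_apply, MulAction.mem_stabilizer_iff]
      exact hst x
    let eS : Cfsg.Agent.Lib.CosetEnumHe.Held.H2058 ≃* MulAction.stabilizer ρ.range (0 : Fin 2058) :=
      (e.subgroupMap _).trans (MulEquiv.subgroupCongr hmap)
    exact ⟨N.map eS.toMonoidHom, (Subgroup.index_map_equiv N eS).trans hi,
      ⟨(eS.subgroupMap N).symm.trans eN⟩⟩

end Cfsg.Agent.S0462
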