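import Cfsg.Statements.S0464
import Cfsg.Agent.Lib.ThDce.Final

set_option autoImplicit false
set_option maxRecDepth 20000
open Cfsg

namespace Cfsg.Agent.S0464

/-- An injective homomorphism carries the order, the index and the subgroup to its range. -/
theorem transfer {G H : Type} [Group G] [Group H] (ρ : G →* H) (hρ : Function.Injective ρ)
    (hG : Cfsg.IsTh G) (K : Subgroup G) {n : ℕ} (hK : K.index = n) (L : Subgroup G) (hLK : L ≤ K)
    (hL : Cfsg.Is3D4 L) :
    ∃ H' : Subgroup H, Cfsg.IsTh H' ∧ ∃ K' : Subgroup H', K'.index = n ∧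
      ∃ L' : Subgroup H', L' ≤ K' ∧ Cfsg.Is3D4 L' := by
  obtain ⟨hs, hc⟩ := hG
  haveI := hs
  let e := MonoidHom.ofInjective hρ
  refine ⟨ρ.range, ⟨e.symm.isSimpleGroup, ?_⟩, K.map e.toMonoidHom, ?_, L.map e.toMonoidHom,
    Subgroup.map_mono hLK, ?_⟩
  · rw [← Nat.card_congr e.toEquiv]
    exact hc
  · exact (Subgroup.index_map_equiv _ e).trans hK
  · obtain ⟨hs', q, hq, hc'⟩ := hL
    haveI := hs'
    let f := Subgroup.equivMapOfInjective L e.toMonoidHom e.injective
    exact ⟨f.symm.isSimpleGroup, q, hq, by rw [← Nat.card_congr f.toEquiv]; exact hc'⟩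

/-- The Thompson group exists as a group of 248 × 248 matrices over the field with three elements: a simple subgroup of GL(248, 3) of order 90745943887872000, possessing a subgroup of index 143127000 which contains a simple subgroup of the order of a triality-twisted D4 group. -/
theorem result : ∃ H : Subgroup (GL (Fin 248) (ZMod 3)), Cfsg.IsTh H ∧ ∃ K : Subgroup H, K.index = 143127000 ∧ ∃ L : Subgroup H, L ≤ K ∧ Cfsg.Is3D4 L := by
  haveI := Cfsg.Agent.Lib.ThDce.isSimple_Th
  have hinj : Function.Injective Cfsg.Agent.Lib.ThRep.rho := by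
    rw [← MonoidHom.ker_eq_bot_iff]
    rcases (MonoidHom.normal_ker Cfsg.Agent.Lib.ThRep.rho).eq_bot_or_eq_top with h | h
    · exact h
    · exfalso
      apply Cfsg.Agent.Lib.ThRep.rho_u_not_mem
      have : Cfsg.Agent.Lib.ThRep.rho (PresentedGroup.of Cfsg.Spor.Th.Gen.u) = 1 :=
        MonoidHom.mem_ker.1 (h ▸ Subgroup.mem_top _)
      rw [this]
      exact one_mem _
  refine transfer Cfsg.Agent.Lib.ThRep.rho hinj Cfsg.Agent.Lib.ThDce.isTh_Th
    Cfsg.Agent.Lib.ThP.toTh.range Cfsg.Agent.Lib.ThDce.index_toTh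
    (Cfsg.Agent.Lib.ThP.DSimple.subD.map Cfsg.Agent.Lib.ThP.toTh) (Subgroup.map_le_range _ _) ?_
  obtain ⟨hs, q, hq, hc⟩ := Cfsg.Agent.Lib.ThP.DSimple.is3D4_subD
  haveI := hs
  let f := Subgroup.equivMapOfInjective Cfsg.Agent.Lib.ThP.DSimple.subD _ Cfsg.Agent.Lib.ThDce.toTh_inj
  exact ⟨f.symm.isSimpleGroup, q, hq, by rw [← Nat.card_congr f.toEquiv]; exact hc⟩

end Cfsg.Agent.S0464
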