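import Cfsg.Statements.S0478
import Cfsg.Agent.Lib.SporMatrix.J3Unitary

set_option autoImplicit false
open Cfsg Cfsg.Spor Cfsg.Agent.Lib.SporMatrix Matrix

namespace Cfsg.Agent.S0478

/-- A triple cover of Janko's third group inside a unitary group: for a field F with four elements, the special unitary group of dimension 9 (with respect to the form with q = 2) has a subgroup whose centre has order 3 and whose quotient by its centre is simple of order 50232960. -/
theorem result : ∃ (F : Type) (_ : Field F) (_ : Fintype F), Fintype.card F = 4 ∧ ∃ H : Subgroup (Cfsg.SU 9 F 2), Nat.card (Subgroup.center H) = 3 ∧ Cfsg.IsJ3 (H ⧸ Subgroup.center H) := by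
  classical
  letI : Fintype (GaloisField 2 2) := Fintype.ofFinite _
  have hF : Fintype.card (GaloisField 2 2) = 4 := by
    rw [Fintype.card_eq_nat_card, GaloisField.card 2 2 (by norm_num)]; norm_num
  obtain ⟨ω, -, hω0, hω1⟩ : ∃ x ∈ (Finset.univ : Finset (GaloisField 2 2)), x ≠ 0 ∧ x ≠ 1 := by
    by_contra hcon
    push Not at hcon
    have hsub : (Finset.univ : Finset (GaloisField 2 2)) ⊆ {0, 1} := fun x _ => by
      by_cases hx : x = 0
      · simp [hx]
      · simp [hcon x (Finset.mem_univ x) hx]
    have := (Finset.card_le_card hsub).trans Finset.card_le_two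
    rw [Finset.card_univ, hF] at this
    omega
  have hω : ω ^ 2 + ω + 1 = 0 := by
    have h : ω ^ 3 = 1 := by
      have := FiniteField.pow_card_sub_one_eq_one ω hω0
      rwa [hF] at this
    refine (mul_eq_zero.1 (?_ : (ω - 1) * (ω ^ 2 + ω + 1) = 0)).resolve_left (sub_ne_zero.2 hω1)
    linear_combination h
  have hg := J3.good_of_card hF hω
  let e : F9 ≃ Fin 9 := Code9.posEquiv
  let φ : ↥(threeJ3 (GaloisField 2 2) ω) →* Matrix.SpecialLinearGroup (Fin 9) (GaloisField 2 2) :=
    { toFun := fun x => ⟨(J3.toMat x).submatrix e.symm e.symm, by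
        rw [det_submatrix_equiv_self]; exact J3.det_toMat hg x⟩
      map_one' := Subtype.ext (by
        show (J3.toMat 1).submatrix e.symm e.symm = _
        rw [map_one, submatrix_one_equiv]; rfl)
      map_mul' := fun x y => Subtype.ext (by
        show (J3.toMat (x * y)).submatrix e.symm e.symm
          = (J3.toMat x).submatrix e.symm e.symm * (J3.toMat y).submatrix e.symm e.symm
        rw [map_mul, submatrix_mul_equiv]) }
  have hmem : ∀ x, φ x ∈ Cfsg.SU 9 (GaloisField 2 2) 2 := by
    intro x u v
    haveI := J3.charP_two hg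
    set M : Matrix (Fin 9) (Fin 9) (GaloisField 2 2) := (J3.toMat x).submatrix e.symm e.symm with hM
    show hermForm 9 (GaloisField 2 2) 2 (M *ᵥ u) (M *ᵥ v) = hermForm 9 (GaloisField 2 2) 2 u v
    have hu : Mᵀ.map (· ^ 2) * M = 1 := by
      rw [hM, transpose_submatrix, ← submatrix_map, submatrix_mul_equiv, J3.isUnitary_toMat hg x,
        submatrix_one_equiv]
    have hsq : (fun i => (M *ᵥ v) i ^ 2) = M.map (· ^ 2) *ᵥ fun i => v i ^ 2 := by
      funext i
      simp [mulVec, dotProduct, CharTwo.sum_sq, mul_pow]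
    show (M *ᵥ u) ⬝ᵥ (fun i => (M *ᵥ v) i ^ 2) = u ⬝ᵥ fun i => v i ^ 2
    rw [hsq, dotProduct_mulVec, ← mulVec_transpose, mulVec_mulVec, ← transpose_map, hu, one_mulVec]
  let ψ := φ.codRestrict (Cfsg.SU 9 (GaloisField 2 2) 2) hmem
  have hinj : Function.Injective ψ := by
    intro x y h
    apply J3.toMat_injective
    have h2 : (J3.toMat x).submatrix e.symm e.symm = (J3.toMat y).submatrix e.symm e.symm :=
      congrArg Subtype.val (congrArg Subtype.val h)
    ext i j
    simpa using congrFun (congrFun h2 (e i)) (e j)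
  let E := MonoidHom.ofInjective hinj
  refine ⟨GaloisField 2 2, inferInstance, inferInstance, hF, ψ.range, ?_, ?_⟩
  · rw [Nat.card_congr (Subgroup.centerCongr E).symm.toEquiv, J3.card_center hg]
  · have hmap : (Subgroup.center ↥(threeJ3 (GaloisField 2 2) ω)).map (E : _ →* _)
        = Subgroup.center ↥ψ.range := by
      ext y
      refine ⟨?_, fun hy => ⟨E.symm y, ?_, E.apply_symm_apply y⟩⟩
      · rintro ⟨z, hz, rfl⟩
        exact ((Subgroup.centerCongr E) ⟨z, hz⟩).2
      · exact ((Subgroup.centerCongr E).symm ⟨y, hy⟩).2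
    let Q := QuotientGroup.congr _ _ E hmap
    haveI := J3.isSimpleGroup_J3 hg
    exact ⟨Q.symm.isSimpleGroup, by rw [← Nat.card_congr Q.toEquiv]; exact J3.card_J3 hg⟩

end Cfsg.Agent.S0478
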