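import Cfsg.Statements.S0481
import Cfsg.Agent.S0443

set_option autoImplicit false
open Cfsg

namespace Cfsg.Agent.S0481

/-- Large extraspecial subgroups: let z be an involution of a finite group G whose centraliser C contains a normal 2-subgroup Q with centre of order 2 and all squares central, such that every element of G centralising Q lies in Q. Then C contains a Sylow 2-subgroup of G, and any involution of G whose centraliser contains a Sylow 2-subgroup of G is conjugate to z. -/
theorem result {G : Type*} [Group G] [Finite G] (z : G) (hz : orderOf z = 2) (Q : Subgroup G) (hQC : Q ≤ Subgroup.centralizer ({z} : Set G)) (hQn : ∀ g ∈ Subgroup.centralizer ({z} : Set G), ∀ q ∈ Q, g * q * g⁻¹ ∈ Q) (hQ2 : IsPGroup 2 Q) (hZ : Nat.card (Subgroup.center Q) = 2) (hsq : ∀ x : Q, x ^ 2 ∈ Subgroup.center Q) (hlarge : Subgroup.centralizer (Q : Set G) ≤ Q) : (∃ P : Sylow 2 G, (P : Subgroup G) ≤ Subgroup.centralizer ({z} : Set G)) ∧ ∀ u : G, orderOf u = 2 → (∃ P : Sylow 2 G, (P : Subgroup G) ≤ Subgroup.centralizer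 ({u} : Set G)) → IsConj z u := by
  have hzQ : z ∈ Q := hlarge (Subgroup.mem_centralizer_iff.2 fun q hq =>
    Subgroup.mem_centralizer_singleton_iff.1 (hQC hq))
  have hzz : (⟨z, hzQ⟩ : Q) ∈ Subgroup.center Q := Subgroup.mem_center_iff.2 fun q =>
    Subtype.ext (Subgroup.mem_centralizer_singleton_iff.1 (hQC q.2))
  have two : ∀ w : Q, w ∈ Subgroup.center Q → w = 1 ∨ (w : G) = z := by
    intro w hw
    obtain ⟨u, v, -, huv⟩ := Nat.card_eq_two_iff.1 hZ
    have hall : ∀ y : Subgroup.center Q, y = u ∨ y = v := fun y => by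
      have := Set.eq_univ_iff_forall.1 huv y; simpa using this
    have hz1 : (⟨⟨z, hzQ⟩, hzz⟩ : Subgroup.center Q) ≠ 1 := by
      intro e
      have : z = 1 := congrArg (fun y : Subgroup.center Q => ((y : Q) : G)) e
      rw [this, orderOf_one] at hz
      omega
    rcases hall ⟨w, hw⟩ with e | e <;> rcases hall ⟨⟨z, hzQ⟩, hzz⟩ with e' | e' <;>
      rcases hall 1 with e'' | e''
    all_goals first
      | (exact absurd (e'.trans e''.symm) hz1)
      | (left; exact congrArg Subtype.val (e.trans e''.symm))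
      | (right; exact congrArg (fun y : Subgroup.center Q => ((y : Q) : G)) (e.trans e'.symm))
  obtain ⟨S, hQS⟩ := hQ2.exists_le_sylow
  have hS : ∀ R : Sylow 2 G, Q ≤ (R : Subgroup G) → ∀ w ∈ (R : Subgroup G),
      (∀ y ∈ (R : Subgroup G), w * y = y * w) → w = 1 ∨ w = z := by
    intro R hQR w hw hc
    have hwQ : w ∈ Q := hlarge (Subgroup.mem_centralizer_iff.2 fun q hq => (hc q (hQR hq)).symm)
    rcases two ⟨w, hwQ⟩ (Subgroup.mem_center_iff.2 fun q => Subtype.ext (hc q (hQR q.2)).symm) with h | h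
    · exact Or.inl (congrArg Subtype.val h)
    · exact Or.inr h
  have hS1 : Nontrivial (S : Subgroup G) := by
    rw [Subgroup.nontrivial_iff_ne_bot]
    intro hb
    have := hQS hzQ
    rw [hb, Subgroup.mem_bot] at this
    rw [this, orderOf_one] at hz
    omega
  have := S.isPGroup'.center_nontrivial
  obtain ⟨w, hw⟩ := exists_ne (1 : Subgroup.center (S : Subgroup G))
  have hwz : (((w : (S : Subgroup G))) : G) = z := by
    rcases hS S hQS _ (w : (S : Subgroup G)).2 (fun y hy =>
      (congrArg Subtype.val (Subgroup.mem_center_iff.1 w.2 ⟨y, hy⟩)).symm) with h | h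
    · exact absurd (Subtype.ext (Subtype.ext h)) hw
    · exact h
  have hSC : (S : Subgroup G) ≤ Subgroup.centralizer ({z} : Set G) := fun y hy => by
    rw [Subgroup.mem_centralizer_singleton_iff, ← hwz]
    exact congrArg Subtype.val (Subgroup.mem_center_iff.1 w.2 ⟨y, hy⟩)
  refine ⟨⟨S, hSC⟩, fun u hu hR => ?_⟩
  obtain ⟨-, R, huR, hRc⟩ := (Cfsg.Agent.S0443.result u hu).2 hR
  obtain ⟨g, hg⟩ := MulAction.exists_smul_eq G S R
  have hmem : ∀ y : G, y ∈ (R : Subgroup G) ↔ g⁻¹ * y * g ∈ (S : Subgroup G) := by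
    intro y
    rw [← hg, Sylow.smul_def, Sylow.pointwise_smul_def]
    rw [Subgroup.mem_pointwise_smul_iff_inv_smul_mem]
    simp [MulAut.smul_def, MulAut.inv_def]
  have h1 := (hmem u).1 huR
  rcases hS S hQS _ h1 (fun y hy => by
    have hy' : g * y * g⁻¹ ∈ (R : Subgroup G) := (hmem _).2 (by simpa [mul_assoc] using hy)
    have := hRc _ hy'
    have := congrArg (fun w => g⁻¹ * w * g) this
    simpa [mul_assoc] using this.symm) with h | h
  · exfalso
    have : u = 1 := by
      have := congrArg (fun w => g * w * g⁻¹) h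
      simpa [mul_assoc] using this
    rw [this, orderOf_one] at hu
    omega
  · refine isConj_iff.2 ⟨g, ?_⟩
    rw [← h]; simp [mul_assoc]

end Cfsg.Agent.S0481
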