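import Cfsg.Statements.S0493
import Cfsg.Agent.Lib.Classif.OrderSieve

set_option autoImplicit false
open Cfsg

namespace Cfsg.Agent.S0493

theorem result {G : Type*} [Group G] [Finite G] [IsSimpleGroup G]
    (hG : ¬ IsCyclic G) (h : Nat.card G ≤ 100) : Nat.card G = 60 := by
  have hna : ¬ IsMulCommutative G := by
    intro hc
    let _ : CommGroup G := { ‹Group G› with mul_comm := fun a b => hc.is_comm.comm a b }
    exact hG inferInstance
  have hm := Cfsg.Agent.Lib.Classif.OrderSieve.card_mem_survivors hna (by omega)
  simp only [Cfsg.Agent.Lib.Classif.OrderSieve.survivors, List.mem_cons, List.not_mem_nil,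
    or_false] at hm
  omega

end Cfsg.Agent.S0493
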