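import Cfsg.Statements.S0520

set_option autoImplicit false
open Cfsg

namespace Cfsg.Agent.S0520

open scoped Pointwise

/-- `x` moves every element of `V` into `S`. -/
def Into {G : Type*} [Group G] (S V : Subgroup G) (x : G) : Prop :=
  ∀ v ∈ V, x * v * x⁻¹ ∈ S

theorem into_one {G : Type*} [Group G] {S V : Subgroup G} (h : V ≤ S) : Into S V 1 :=
  fun v hv => by simpa using h hv

theorem isPGroup_two_of_kleinFour {G : Type*} [Group G] {V : Subgroup G} (hV : IsKleinFour V) :
    IsPGroup 2 V :=
  IsPGroup.of_card (n := 2) (by rw [hV.card_four]; norm_num)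

theorem kleinFour_mk {G : Type*} [Group G] {A : Subgroup G} [Finite A] (hc : Nat.card A = 4)
    (h : ∀ a ∈ A, a ^ 2 = 1) : IsKleinFour A := by
  refine ⟨hc, ?_⟩
  have h1 : Monoid.exponent A ∣ 2 :=
    Monoid.exponent_dvd_of_forall_pow_eq_one fun a => Subtype.ext (h a a.2)
  rcases (Nat.dvd_prime Nat.prime_two).mp h1 with h2 | h2
  · exfalso
    haveI := Monoid.exp_eq_one_iff.mp h2
    rw [Nat.card_eq_one_iff_unique.mpr ⟨inferInstance, inferInstance⟩] at hc
    norm_num at hc
  · exact h2

theorem kleinFour_pow_two {G : Type*} [Group G] {V : Subgroup G} (hV : IsKleinFour V) :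
    ∀ v ∈ V, v ^ 2 = 1 := by
  intro v hv
  have h : (⟨v, hv⟩ : V) ^ Monoid.exponent V = 1 := Monoid.pow_exponent_eq_one _
  rw [hV.exponent_two] at h
  exact congrArg Subtype.val h

theorem kleinFour_of_mulEquiv {A B : Type*} [Group A] [Group B] (e : A ≃* B) (h : IsKleinFour A) :
    IsKleinFour B :=
  ⟨by rw [← Nat.card_congr e.toEquiv, h.card_four],
    by rw [← Monoid.exponent_eq_of_mulEquiv e, h.exponent_two]⟩

theorem kleinFour_map {G H : Type*} [Group G] [Group H] {V : Subgroup G} (f : G →* H)
    (hf : Function.Injective f) (hV : IsKleinFour V) : IsKleinFour (V.map f) :=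
  kleinFour_of_mulEquiv (V.equivMapOfInjective f hf) hV

theorem exists_kleinFour {G : Type*} [Group G] [Finite G] (h : ¬ Cfsg.PRankLE 2 1 G) :
    ∃ V : Subgroup G, IsKleinFour V := by
  haveI : Fact (Nat.Prime 2) := ⟨Nat.prime_two⟩
  unfold Cfsg.PRankLE at h
  push Not at h
  obtain ⟨A, -, hA, hcard⟩ := h
  have hp : IsPGroup 2 A := fun a => ⟨1, Subtype.ext (by simpa using hA a a.2)⟩
  obtain ⟨k, hk⟩ := IsPGroup.iff_card.mp hp
  have h2k : 2 ≤ k := by
    by_contra h'
    have : 2 ^ k ≤ 2 ^ 1 := Nat.pow_le_pow_right (by norm_num) (by omega)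
    omega
  have hdvd : 2 ^ 2 ∣ Nat.card A := by rw [hk]; exact pow_dvd_pow 2 h2k
  obtain ⟨K, hK⟩ := Sylow.exists_subgroup_card_pow_prime 2 hdvd
  exact ⟨K.map A.subtype, kleinFour_map _ A.subtype_injective
    (kleinFour_mk (by rw [hK]; norm_num) fun a _ => Subtype.ext (hA a a.2))⟩

theorem exists_kleinFour_le {G : Type*} [Group G] [Finite G] {Q : Subgroup G}
    (h : ¬ Cfsg.PRankLE 2 1 Q) : ∃ V : Subgroup G, IsKleinFour V ∧ V ≤ Q := by
  obtain ⟨V, hV⟩ := exists_kleinFour h
  exact ⟨V.map Q.subtype, kleinFour_map _ Q.subtype_injective hV, Subgroup.map_subtype_le V⟩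

theorem not_pRankLE_of_kleinFour {G : Type*} [Group G] {Q V : Subgroup G} (hV : IsKleinFour V)
    (h : V ≤ Q) : ¬ Cfsg.PRankLE 2 1 Q := by
  intro hQ
  have e := Subgroup.subgroupOfEquivOfLe h
  have h4 := kleinFour_of_mulEquiv e.symm hV
  have := hQ (V.subgroupOf Q) (haveI := h4; IsKleinFour.isMulCommutative)
    (kleinFour_pow_two h4)
  rw [h4.card_four] at this
  norm_num at this

/-- A 2-subgroup can be moved into the Sylow subgroup `S`. -/
theorem exists_into {G : Type*} [Group G] [Finite G] (S : Sylow 2 G) {V : Subgroup G}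
    (hV : IsPGroup 2 V) : ∃ x : G, Into (S : Subgroup G) V x := by
  haveI : Fact (Nat.Prime 2) := ⟨Nat.prime_two⟩
  obtain ⟨P, hP⟩ := hV.exists_le_sylow
  obtain ⟨g, hg⟩ := MulAction.exists_smul_eq G P S
  refine ⟨g, fun v hv => ?_⟩
  rw [← hg, Sylow.coe_subgroup_smul]
  exact Subgroup.mem_pointwise_smul_iff_inv_smul_mem.mpr
    (by simpa [MulAut.smul_def, mul_assoc] using hP hv)

section Core

variable {G : Type*} [Group G] [Finite G] (S : Sylow 2 G)

/-- The 2-generated core. -/
abbrev core2 : Subgroup G :=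
  ⨆ Q : {Q : Subgroup G // Q ≤ (S : Subgroup G) ∧ ¬ Cfsg.PRankLE 2 1 Q},
    Subgroup.normalizer ((Q : Subgroup G) : Set G)

theorem normalizer_le_core2 {Q : Subgroup G} (hQ : Q ≤ (S : Subgroup G)) {V : Subgroup G}
    (hV : IsKleinFour V) (hVQ : V ≤ Q) : Subgroup.normalizer (Q : Set G) ≤ core2 S :=
  le_iSup (fun Q : {Q : Subgroup G // Q ≤ (S : Subgroup G) ∧ ¬ Cfsg.PRankLE 2 1 Q} =>
    Subgroup.normalizer ((Q : Subgroup G) : Set G)) ⟨Q, hQ, not_pRankLE_of_kleinFour hV hVQ⟩

/-- A proper subgroup of `S` grows inside `S` under the normaliser. -/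
theorem grows {P : Subgroup G} (hP : P ≤ (S : Subgroup G)) (hne : P ≠ (S : Subgroup G)) :
    P < (S : Subgroup G) ⊓ Subgroup.normalizer (P : Set G) := by
  haveI : Fact (Nat.Prime 2) := ⟨Nat.prime_two⟩
  haveI := S.isPGroup'.isNilpotent
  refine lt_of_le_of_ne (le_inf hP Subgroup.le_normalizer) fun heq => hne ?_
  have hnc := Group.normalizerCondition_of_isNilpotent (G := (S : Subgroup G))
  rw [normalizerCondition_iff_only_full_group_self_normalizing] at hnc
  have h1 := hnc (P.subgroupOf (S : Subgroup G)) (by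
    ext x
    constructor
    · intro hx
      rw [Subgroup.mem_subgroupOf, heq]
      refine ⟨x.2, Subgroup.mem_normalizer_iff.mpr fun y => ⟨fun hy => ?_, fun hy => ?_⟩⟩
      · exact (Subgroup.mem_normalizer_iff.mp hx ⟨y, hP hy⟩).mp hy
      · have hyS : y ∈ (S : Subgroup G) := by
          have := (S : Subgroup G).mul_mem ((S : Subgroup G).mul_mem
            ((S : Subgroup G).inv_mem x.2) (hP hy)) x.2
          simpa [mul_assoc] using this
        exact (Subgroup.mem_normalizer_iff.mp hx ⟨y, hyS⟩).mpr hy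
    · exact fun hx => Subgroup.le_normalizer hx)
  exact le_antisymm hP (Subgroup.subgroupOf_eq_top.mp h1)

/-- Elements moving a four-group of `S` into `S` lie in the 2-generated core. -/
theorem mem_core2_of_into : ∀ (k : ℕ) (P : Subgroup G), Nat.card (S : Subgroup G) - Nat.card P ≤ k →
    P ≤ (S : Subgroup G) → (∃ V : Subgroup G, IsKleinFour V ∧ V ≤ P) →
    ∀ g : G, Into (S : Subgroup G) P g → g ∈ core2 S := by
  haveI : Fact (Nat.Prime 2) := ⟨Nat.prime_two⟩
  intro k
  induction k with
  | zero =>
    intro P hk hP ⟨V, hV, hVP⟩ g hg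
    have hPS : P = (S : Subgroup G) :=
      Subgroup.eq_of_le_of_card_ge hP (by omega)
    subst hPS
    exact normalizer_le_core2 S le_rfl hV hVP
      (Subgroup.mem_normalizer_fintype fun n hn => hg n hn)
  | succ k ih =>
    intro P hk hP ⟨V, hV, hVP⟩ g hg
    by_cases hPS : P = (S : Subgroup G)
    · subst hPS
      exact normalizer_le_core2 S le_rfl hV hVP
        (Subgroup.mem_normalizer_fintype fun n hn => hg n hn)
    have smaller : ∀ {Q : Subgroup G}, P < Q → ∀ {a : G}, Q ≤ (S : Subgroup G) →
        Into (S : Subgroup G) Q a → a ∈ core2 S := by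
      intro Q hPQ a hQ ha
      refine ih Q ?_ hQ ⟨V, hV, hVP.trans hPQ.le⟩ a ha
      have h1 : Nat.card P < Nat.card Q := by
        by_contra hle
        exact hPQ.ne (Subgroup.eq_of_le_of_card_ge hPQ.le (by omega))
      omega
    -- the conjugate `P'` of `P`
    set P' : Subgroup G := P.map (MulAut.conj g).toMonoidHom with hP'
    have hP'S : P' ≤ (S : Subgroup G) := by rintro _ ⟨v, hv, rfl⟩; exact hg v hv
    have hP'c : Nat.card P' = Nat.card P :=
      Subgroup.card_map_of_injective (MulAut.conj g).injective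
    have hP'ne : P' ≠ (S : Subgroup G) := fun h =>
      hPS (Subgroup.eq_of_le_of_card_ge hP (by rw [← hP'c, h]))
    set N : Subgroup G := Subgroup.normalizer (P : Set G) with hN
    set Q : Subgroup G := (S : Subgroup G) ⊓ N with hQ
    set Q' : Subgroup G := (S : Subgroup G) ⊓ Subgroup.normalizer (P' : Set G) with hQ'
    -- `g⁻¹ Q' g` is a 2-subgroup of `N`
    set R : Subgroup G := Q'.map (MulAut.conj g⁻¹).toMonoidHom with hR
    have hRN : R ≤ N := by
      rintro _ ⟨q, hq, rfl⟩
      refine Subgroup.mem_normalizer_iff.mpr fun y => ?_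
      simp only [MulEquiv.coe_toMonoidHom, MulAut.conj_apply, inv_inv]
      have h1 := Subgroup.mem_normalizer_iff.mp hq.2 (g * y * g⁻¹)
      have h2 : ∀ w : G, w ∈ P ↔ g * w * g⁻¹ ∈ P' := by
        intro w
        constructor
        · exact fun hw => ⟨w, hw, rfl⟩
        · rintro ⟨w', hw', hww⟩
          simp only [MulEquiv.coe_toMonoidHom, MulAut.conj_apply, mul_left_inj,
            mul_right_inj] at hww
          exact hww ▸ hw'
      rw [h2, h2, h1]
      group
    have hQN : Q ≤ N := inf_le_right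
    have hQp : IsPGroup 2 Q := S.isPGroup'.to_le inf_le_left
    have hRp : IsPGroup 2 R := ((S.isPGroup'.to_le inf_le_left : IsPGroup 2 Q')).map _
    obtain ⟨T, hT⟩ := (hQp.comap_of_injective N.subtype N.subtype_injective).exists_le_sylow
    obtain ⟨T₂, hT₂⟩ := (hRp.comap_of_injective N.subtype N.subtype_injective).exists_le_sylow
    obtain ⟨n, hn⟩ := MulAction.exists_smul_eq N T₂ T
    obtain ⟨a, ha⟩ := exists_into S (V := (T : Subgroup N).map N.subtype) (T.isPGroup'.map _)
    -- `a` lies in the core, as it moves `Q > P` into `S`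
    have haM : a ∈ core2 S := by
      refine smaller (grows S hP hPS) inf_le_left fun q hq => ha q ?_
      exact ⟨⟨q, hQN hq⟩, hT hq, rfl⟩
    -- so does `a n g⁻¹`, as it moves `Q'` into `S`
    have hanM : a * (n : G) * g⁻¹ ∈ core2 S := by
      have hgrow : P' < Q' := grows S hP'S hP'ne
      refine ih Q' ?_ inf_le_left ⟨V.map (MulAut.conj g).toMonoidHom,
        kleinFour_map _ (MulAut.conj g).injective hV,
        (Subgroup.map_mono hVP).trans hgrow.le⟩ _ fun q hq => ?_
      · have h1 : Nat.card P' < Nat.card Q' := by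
          by_contra hle
          exact hgrow.ne (Subgroup.eq_of_le_of_card_ge hgrow.le (by omega))
        omega
      · have hmem : g⁻¹ * q * g ∈ R := ⟨q, hq, by simp [mul_assoc]⟩
        have hT2' : (⟨g⁻¹ * q * g, hRN hmem⟩ : N) ∈ (T₂ : Subgroup N) := hT₂ hmem
        have hT' : n * ⟨g⁻¹ * q * g, hRN hmem⟩ * n⁻¹ ∈ (T : Subgroup N) := by
          rw [← hn, Sylow.coe_subgroup_smul]
          exact Subgroup.mem_pointwise_smul_iff_inv_smul_mem.mpr
            (by simpa [MulAut.smul_def, mul_assoc] using hT2')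
        have := ha _ ⟨_, hT', rfl⟩
        simpa [mul_assoc] using this
    have hnM : (n : G) ∈ core2 S := normalizer_le_core2 S hP hV hVP n.2
    have := (core2 S).mul_mem ((core2 S).inv_mem hanM) ((core2 S).mul_mem haM hnM)
    simpa [mul_assoc] using this

theorem mem_core2 {U : Subgroup G} (hU : IsKleinFour U) (hUS : U ≤ (S : Subgroup G)) {g : G}
    (hg : Into (S : Subgroup G) U g) : g ∈ core2 S :=
  mem_core2_of_into S _ U le_rfl hUS ⟨U, hU, le_rfl⟩ g hg

/-- If `x` and `z` both move the four-group `V` into `S` then `z x⁻¹` is in the core. -/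
theorem mem_core2_quot {V : Subgroup G} (hV : IsKleinFour V) {x z : G}
    (hx : Into (S : Subgroup G) V x) (hz : Into (S : Subgroup G) V z) :
    z * x⁻¹ ∈ core2 S := by
  refine mem_core2 S (U := V.map (MulAut.conj x).toMonoidHom)
    (kleinFour_map _ (MulAut.conj x).injective hV) ?_ ?_
  · rintro _ ⟨v, hv, rfl⟩; exact hx v hv
  · rintro _ ⟨v, hv, rfl⟩
    simpa [mul_assoc] using hz v hv

end Core

theorem result {G : Type*} [Group G] [Finite G] (h2 : ¬ Cfsg.PRankLE 2 1 G)
    (S : Sylow 2 G) (hS : Cfsg.IsFourConnected (S : Subgroup G)) :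
    ¬ Cfsg.IsFourConnected G ↔
      (⨆ Q : {Q : Subgroup G // Q ≤ (S : Subgroup G) ∧ ¬ Cfsg.PRankLE 2 1 Q},
          Subgroup.normalizer ((Q : Subgroup G) : Set G)) ≠ ⊤ := by
  classical
  haveI : Fact (Nat.Prime 2) := ⟨Nat.prime_two⟩
  refine not_congr ⟨fun hconn => ?_, fun htop => ?_⟩
  · -- connected implies that the core is everything
    change core2 S = ⊤
    obtain ⟨U₁, hU₁⟩ := exists_kleinFour h2
    obtain ⟨x₁, hx₁⟩ := exists_into S (isPGroup_two_of_kleinFour hU₁)
    set U : Subgroup G := U₁.map (MulAut.conj x₁).toMonoidHom with hUdef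
    have hU : IsKleinFour U := kleinFour_map _ (MulAut.conj x₁).injective hU₁
    have hUS : U ≤ (S : Subgroup G) := by rintro _ ⟨v, hv, rfl⟩; exact hx₁ v hv
    rw [Subgroup.eq_top_iff']
    intro g
    set W : Subgroup G := U.map (MulAut.conj g).toMonoidHom with hWdef
    have key : ∀ V : Subgroup G, Relation.ReflTransGen
        (fun A B : Subgroup G => IsKleinFour A ∧ IsKleinFour B ∧ ∀ a ∈ A, ∀ b ∈ B, a * b = b * a)
        U V → IsKleinFour V ∧ ∀ x, Into (S : Subgroup G) V x → x ∈ core2 S := by
      intro V hV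
      induction hV with
      | refl => exact ⟨hU, fun x hx => by simpa using mem_core2_quot S hU (into_one hUS) hx⟩
      | tail _ hAB ih =>
        rename_i A B _
        obtain ⟨hA, hB, hcomm⟩ := hAB
        refine ⟨hB, fun y hy => ?_⟩
        have hAN : A ≤ Subgroup.normalizer (B : Set G) :=
          Subgroup.le_normalizer_iff.mpr fun a ha b hb => by
            rw [hcomm a ha b hb, mul_inv_cancel_right]; exact hb
        obtain ⟨z, hz⟩ := exists_into S (V := A ⊔ B)
          ((isPGroup_two_of_kleinFour hA).to_sup_of_normal_right'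
            (isPGroup_two_of_kleinFour hB) hAN)
        have hzA : z ∈ core2 S := ih.2 z fun a ha => hz a (Subgroup.mem_sup_left ha)
        have := mem_core2_quot S hB hy fun b hb => hz b (Subgroup.mem_sup_right hb)
        have := (core2 S).mul_mem ((core2 S).inv_mem this) hzA
        simpa [mul_assoc] using this
    have := (key W (hconn U W hU (kleinFour_map _ (MulAut.conj g).injective hU))).2 g⁻¹
      (by rintro _ ⟨u, hu, rfl⟩; simpa [mul_assoc] using hUS hu)
    simpa using (core2 S).inv_mem this
  · -- the core is everything, so the graph is connected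
    set R : Subgroup G → Subgroup G → Prop :=
      fun A B => IsKleinFour A ∧ IsKleinFour B ∧ ∀ a ∈ A, ∀ b ∈ B, a * b = b * a with hR
    have hsymm : ∀ A B, Relation.ReflTransGen R A B → Relation.ReflTransGen R B A := by
      intro A B h
      induction h with
      | refl => exact .refl
      | tail _ hAB ih =>
        exact Relation.ReflTransGen.head
          ⟨hAB.2.1, hAB.1, fun a ha b hb => (hAB.2.2 b hb a ha).symm⟩ ih
    have hconjR : ∀ (g : G) A B, Relation.ReflTransGen R A B →
        Relation.ReflTransGen R (A.map (MulAut.conj g).toMonoidHom)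
          (B.map (MulAut.conj g).toMonoidHom) := by
      intro g A B h
      refine h.lift (fun A : Subgroup G => A.map (MulAut.conj g).toMonoidHom) fun A B hAB =>
        ⟨kleinFour_map _ (MulAut.conj g).injective hAB.1,
          kleinFour_map _ (MulAut.conj g).injective hAB.2.1, ?_⟩
      rintro _ ⟨a, ha, rfl⟩ _ ⟨b, hb, rfl⟩
      rw [← map_mul, hAB.2.2 a ha b hb, map_mul]
    -- four-groups inside `S` are connected
    have hin : ∀ A B : Subgroup G, IsKleinFour A → IsKleinFour B → A ≤ (S : Subgroup G) →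
        B ≤ (S : Subgroup G) → Relation.ReflTransGen R A B := by
      intro A B hA hB hAS hBS
      have h := hS (A.subgroupOf S) (B.subgroupOf S)
        (kleinFour_of_mulEquiv (Subgroup.subgroupOfEquivOfLe hAS).symm hA)
        (kleinFour_of_mulEquiv (Subgroup.subgroupOfEquivOfLe hBS).symm hB)
      have h' : Relation.ReflTransGen R ((A.subgroupOf S).map (S : Subgroup G).subtype)
          ((B.subgroupOf S).map (S : Subgroup G).subtype) := by
        refine h.lift (fun A : Subgroup (S : Subgroup G) => A.map (S : Subgroup G).subtype)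
          fun A B hAB => ⟨kleinFour_map _ (Subgroup.subtype_injective _) hAB.1,
            kleinFour_map _ (Subgroup.subtype_injective _) hAB.2.1, ?_⟩
        rintro _ ⟨a, ha, rfl⟩ _ ⟨b, hb, rfl⟩
        rw [← map_mul, hAB.2.2 a ha b hb, map_mul]
      rwa [Subgroup.map_subgroupOf_eq_of_le hAS, Subgroup.map_subgroupOf_eq_of_le hBS] at h'
    obtain ⟨U₁, hU₁⟩ := exists_kleinFour h2
    obtain ⟨x₁, hx₁⟩ := exists_into S (isPGroup_two_of_kleinFour hU₁)
    obtain ⟨U, hU, hUS⟩ : ∃ U : Subgroup G, IsKleinFour U ∧ U ≤ (S : Subgroup G) :=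
      ⟨U₁.map (MulAut.conj x₁).toMonoidHom, kleinFour_map _ (MulAut.conj x₁).injective hU₁,
        by rintro _ ⟨v, hv, rfl⟩; exact hx₁ v hv⟩
    have hmapone : ∀ A : Subgroup G, A.map (MulAut.conj (1 : G)).toMonoidHom = A := by
      intro A; ext x; simp [Subgroup.mem_map]
    have hmapmap : ∀ (g h : G) (A : Subgroup G),
        (A.map (MulAut.conj h).toMonoidHom).map (MulAut.conj g).toMonoidHom =
          A.map (MulAut.conj (g * h)).toMonoidHom := by
      intro g h A
      rw [Subgroup.map_map]
      congr 1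
      ext x
      simp [mul_assoc]
    let Stab : Subgroup G :=
      { carrier := {g | Relation.ReflTransGen R U (U.map (MulAut.conj g).toMonoidHom)}
        one_mem' := by
          change Relation.ReflTransGen R U (U.map (MulAut.conj (1 : G)).toMonoidHom)
          rw [hmapone]
        mul_mem' := by
          intro a b ha hb
          have := hconjR a _ _ hb
          rw [hmapmap] at this
          exact Relation.ReflTransGen.trans ha this
        inv_mem' := by
          intro a ha
          have := hconjR a⁻¹ _ _ ha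
          rw [hmapmap, inv_mul_cancel, hmapone] at this
          exact hsymm _ _ this }
    have hle : core2 S ≤ Stab := by
      refine iSup_le fun Q g hg => ?_
      obtain ⟨V, hV, hVQ⟩ := exists_kleinFour_le Q.2.2
      change Relation.ReflTransGen R U (U.map (MulAut.conj g).toMonoidHom)
      have hVg : V.map (MulAut.conj g).toMonoidHom ≤ (S : Subgroup G) := by
        rintro _ ⟨v, hv, rfl⟩
        exact Q.2.1 ((Subgroup.mem_normalizer_iff.mp hg v).mp (hVQ hv))
      exact (hin U _ hU (kleinFour_map _ (MulAut.conj g).injective hV) hUS hVg).trans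
        (hconjR g _ _ (hin V U hV hU (hVQ.trans Q.2.1) hUS))
    have hall : ∀ V : Subgroup G, IsKleinFour V → Relation.ReflTransGen R U V := by
      intro V hV
      obtain ⟨x, hx⟩ := exists_into S (isPGroup_two_of_kleinFour hV)
      have hVS : V.map (MulAut.conj x).toMonoidHom ≤ (S : Subgroup G) := by
        rintro _ ⟨v, hv, rfl⟩; exact hx v hv
      have h1 := hin U _ hU (kleinFour_map _ (MulAut.conj x).injective hV) hUS hVS
      have h2' : x⁻¹ ∈ Stab := hle (by rw [show core2 S = ⊤ from htop]; trivial)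
      have h3 := hconjR x⁻¹ _ _ h1
      rw [hmapmap, inv_mul_cancel, hmapone] at h3
      exact Relation.ReflTransGen.trans h2' h3
    exact fun A B hA hB => (hsymm _ _ (hall A hA)).trans (hall B hB)

end Cfsg.Agent.S0520
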