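import Cfsg.Statements.S0502
import Cfsg.Agent.S0520

set_option autoImplicit false
open Cfsg

namespace Cfsg.Agent.S0502

open Cfsg.Agent.S0520 (kleinFour_mk kleinFour_map kleinFour_pow_two)

/-- The subgroup `{1, z, v, z v}` for commuting involutions. -/
def fourOf {P : Type*} [Group P] (z v : P) (hz : z * z = 1) (hv : v * v = 1) (hc : z * v = v * z) :
    Subgroup P where
  carrier := {x | x = 1 ∨ x = z ∨ x = v ∨ x = z * v}
  one_mem' := Or.inl rfl
  inv_mem' := by
    have hz' : z⁻¹ = z := inv_eq_of_mul_eq_one_right hz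
    have hv' : v⁻¹ = v := inv_eq_of_mul_eq_one_right hv
    rintro x (rfl | rfl | rfl | rfl)
    · exact Or.inl inv_one
    · exact Or.inr (Or.inl hz')
    · exact Or.inr (Or.inr (Or.inl hv'))
    · exact Or.inr (Or.inr (Or.inr (by rw [mul_inv_rev, hz', hv', hc])))
  mul_mem' := by
    have h1 : v * z = z * v := hc.symm
    have h2 : z * (z * v) = v := by rw [← mul_assoc, hz, one_mul]
    have h3 : v * (z * v) = z := by rw [← mul_assoc, h1, mul_assoc, hv, mul_one]
    have h4 : z * v * z = v := by rw [mul_assoc, h1, h2]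
    have h5 : z * v * v = z := by rw [mul_assoc, hv, mul_one]
    have h6 : z * v * (z * v) = 1 := by rw [← mul_assoc, h4, hv]
    rintro a b (rfl | rfl | rfl | rfl) (rfl | rfl | rfl | rfl) <;>
      simp [hz, hv, h1, h2, h3, h4, h5, h6]

theorem kleinFour_fourOf {P : Type*} [Group P] [Finite P] (z v : P) (hz : z * z = 1)
    (hv : v * v = 1) (hc : z * v = v * z) (hz1 : z ≠ 1) (hv1 : v ≠ 1) (hne : z ≠ v) :
    IsKleinFour (fourOf z v hz hv hc) := by
  classical
  refine kleinFour_mk ?_ ?_
  · have h : ((fourOf z v hz hv hc : Subgroup P) : Set P) = ({1, z, v, z * v} : Finset P) := by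
      ext x; simp [fourOf]
    rw [← SetLike.coe_sort_coe, Nat.card_coe_set_eq, h, Set.ncard_coe_finset]
    have hzv1 : z * v ≠ 1 := by
      intro h'
      apply hne
      calc z = z * (v * v) := by rw [hv, mul_one]
        _ = v := by rw [← mul_assoc, h', one_mul]
    have hzvz : z * v ≠ z := by simpa using hv1
    have hzvv : z * v ≠ v := by simpa using hz1
    rw [Finset.card_insert_of_notMem (by simp [hz1.symm, hv1.symm, hzv1.symm]),
      Finset.card_insert_of_notMem (by simp [hne, hzvz.symm]),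
      Finset.card_insert_of_notMem (by simp [hzvv.symm]), Finset.card_singleton]
  · have h6 : z * v * (z * v) = 1 := by
      calc z * v * (z * v) = z * (v * z) * v := by group
        _ = z * z * (v * v) := by rw [← hc]; group
        _ = 1 := by rw [hz, hv, one_mul]
    rintro a (rfl | rfl | rfl | rfl) <;> simp [sq, hz, hv, h6]

theorem result {P : Type*} [Group P] [Finite P] (hP : IsPGroup 2 P)
    (E : Subgroup P) [E.Normal] (hE : IsMulCommutative E) (hE2 : ∀ e ∈ E, e ^ 2 = 1) (hE8 : 8 ≤ Nat.card E) :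
    Cfsg.IsFourConnected P := by
  classical
  haveI : Fact (Nat.Prime 2) := ⟨Nat.prime_two⟩
  set R : Subgroup P → Subgroup P → Prop :=
    fun A B => IsKleinFour A ∧ IsKleinFour B ∧ ∀ a ∈ A, ∀ b ∈ B, a * b = b * a with hR
  have hEc : ∀ a ∈ E, ∀ b ∈ E, a * b = b * a := fun a ha b hb =>
    congrArg Subtype.val (isMulCommutative_iff.mp hE ⟨a, ha⟩ ⟨b, hb⟩)
  -- a central involution in `E`
  haveI : Nontrivial E := Finite.one_lt_card_iff_nontrivial.mp (by omega)
  obtain ⟨z, hzE, hz1, hzc⟩ : ∃ z ∈ E, z ≠ 1 ∧ ∀ g : P, g * z = z * g := by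
    have hdvd : 2 ∣ Nat.card E := ((hP.to_subgroup E).card_eq_or_dvd).resolve_left (by omega)
    have h1 : (1 : E) ∈ MulAction.fixedPoints (ConjAct P) E := fun g => smul_one g
    obtain ⟨b, hb, hb1⟩ := (hP.of_equiv ConjAct.toConjAct)
      |>.exists_fixed_point_of_prime_dvd_card_of_fixed_point E hdvd h1
    refine ⟨(b : P), b.2, fun h => hb1 (Subtype.ext h.symm), fun g => ?_⟩
    have := congrArg Subtype.val (hb (ConjAct.toConjAct g))
    rw [ConjAct.Subgroup.val_conj_smul, ConjAct.smul_def, ConjAct.ofConjAct_toConjAct] at this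
    exact mul_inv_eq_iff_eq_mul.mp this
  have hzz : z * z = 1 := by rw [← sq]; exact hE2 z hzE
  -- every four-group is joined to a four-group inside `E`
  have key : ∀ V : Subgroup P, IsKleinFour V → ∃ W : Subgroup P, IsKleinFour W ∧ W ≤ E ∧
      Relation.ReflTransGen R V W ∧ Relation.ReflTransGen R W V := by
    intro V hV
    have hV2 := kleinFour_pow_two hV
    obtain ⟨v, hvV, hv1, hvz⟩ : ∃ v ∈ V, v ≠ 1 ∧ v ≠ z := by
      by_contra hcon
      push Not at hcon
      have hsub : (V : Set P) ⊆ ({1, z} : Finset P) := fun x hx => by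
        by_cases hx1 : x = 1
        · simp [hx1]
        · simp [hcon x hx hx1]
      have h4 : Nat.card V ≤ ({1, z} : Finset P).card := by
        rw [← SetLike.coe_sort_coe, Nat.card_coe_set_eq, ← Set.ncard_coe_finset]
        exact Set.ncard_le_ncard hsub (Finset.finite_toSet _)
      rw [hV.card_four] at h4
      have := Finset.card_le_two (a := (1 : P)) (b := z)
      omega
    have hvv : v * v = 1 := by rw [← sq]; exact hV2 v hvV
    set U := fourOf z v hzz hvv (hzc v).symm with hU
    have hUk : IsKleinFour U := kleinFour_fourOf z v hzz hvv (hzc v).symm hz1 hv1 hvz.symm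
    have hVU : R V U := by
      refine ⟨hV, hUk, fun a ha b hb => ?_⟩
      haveI := hV
      have hav : a * v = v * a := congrArg Subtype.val
        (isMulCommutative_iff.mp (IsKleinFour.isMulCommutative (G := V)) ⟨a, ha⟩ ⟨v, hvV⟩)
      rcases hb with rfl | rfl | rfl | rfl
      · simp
      · exact hzc a
      · exact hav
      · rw [← mul_assoc, hzc a, mul_assoc, hav, mul_assoc]
    -- the centraliser of `v` in `E` has order at least 4
    let f : E →* E :=
      { toFun := fun e => ⟨v * e * v⁻¹ * e, E.mul_mem ((inferInstance : E.Normal).conj_mem _ e.2 v) e.2⟩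
        map_one' := by simp
        map_mul' := fun a b => by
          apply Subtype.ext
          have h1 := hEc _ ((inferInstance : E.Normal).conj_mem _ b.2 v) a a.2
          change v * ((a : P) * b) * v⁻¹ * ((a : P) * b) =
            v * a * v⁻¹ * a * (v * b * v⁻¹ * b)
          calc v * ((a : P) * b) * v⁻¹ * ((a : P) * b)
              = v * a * v⁻¹ * ((v * b * v⁻¹) * a) * b := by group
            _ = v * a * v⁻¹ * a * (v * b * v⁻¹ * b) := by rw [h1]; group }
    have hker : ∀ e : E, e ∈ f.ker → v * (e : P) = (e : P) * v := by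
      intro e he
      have h1 : v * (e : P) * v⁻¹ * e = 1 := congrArg Subtype.val (MonoidHom.mem_ker.mp he)
      have hinv : (e : P)⁻¹ = e := inv_eq_of_mul_eq_one_right (by rw [← sq]; exact hE2 e e.2)
      rw [mul_eq_one_iff_eq_inv, hinv] at h1
      exact mul_inv_eq_iff_eq_mul.mp h1
    have hrange : f.range ≤ f.ker := by
      rintro _ ⟨e, rfl⟩
      apply MonoidHom.mem_ker.mpr
      apply Subtype.ext
      change v * (v * (e : P) * v⁻¹ * e) * v⁻¹ * (v * e * v⁻¹ * e) = 1
      have hvi : v⁻¹ = v := inv_eq_of_mul_eq_one_right hvv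
      have h1 := hEc _ ((inferInstance : E.Normal).conj_mem _ e.2 v) e e.2
      have hee : (e : P) * e = 1 := by rw [← sq]; exact hE2 e e.2
      calc v * (v * (e : P) * v⁻¹ * e) * v⁻¹ * (v * e * v⁻¹ * e)
          = (v * v) * (e : P) * v⁻¹ * (e * e) * (v⁻¹ * e) := by group
        _ = 1 := by rw [hvv, hee, hvi, one_mul, mul_one, mul_assoc (e : P) v, ← mul_assoc v v,
              hvv, one_mul, hee]
    have hcard : 8 ≤ Nat.card f.ker * Nat.card f.ker := by
      refine hE8.trans ?_
      calc Nat.card E = Nat.card f.ker * f.ker.index := (Subgroup.card_mul_index f.ker).symm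
        _ = Nat.card f.ker * Nat.card f.range := by rw [Subgroup.index_ker]
        _ ≤ _ := Nat.mul_le_mul_left _
            (Nat.le_of_dvd Nat.card_pos (Subgroup.card_dvd_of_le hrange))
    obtain ⟨k, hk⟩ := IsPGroup.iff_card.mp ((hP.to_subgroup E).to_subgroup f.ker)
    have h2k : 2 ≤ k := by
      by_contra h'
      have : 2 ^ k ≤ 2 ^ 1 := Nat.pow_le_pow_right (by norm_num) (by omega)
      nlinarith
    obtain ⟨W, hW⟩ := Sylow.exists_subgroup_card_pow_prime 2
      (show 2 ^ 2 ∣ Nat.card f.ker by rw [hk]; exact pow_dvd_pow 2 h2k)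
    have hWk : IsKleinFour W := kleinFour_mk (by rw [hW]; norm_num)
      fun a _ => Subtype.ext (Subtype.ext (hE2 _ a.1.2))
    refine ⟨(W.map f.ker.subtype).map E.subtype, kleinFour_map _ E.subtype_injective
      (kleinFour_map _ f.ker.subtype_injective hWk), Subgroup.map_subtype_le _, ?_⟩
    have hUW : R U ((W.map f.ker.subtype).map E.subtype) := by
      refine ⟨hUk, kleinFour_map _ E.subtype_injective
        (kleinFour_map _ f.ker.subtype_injective hWk), ?_⟩
      rintro a ha _ ⟨_, ⟨w, hw, rfl⟩, rfl⟩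
      have hvw : v * ((w : E) : P) = ((w : E) : P) * v := hker _ w.2
      rcases ha with rfl | rfl | rfl | rfl
      · simp
      · exact (hzc _).symm
      · exact hvw
      · change z * v * ((w : E) : P) = ((w : E) : P) * (z * v)
        rw [mul_assoc, hvw, ← mul_assoc, ← hzc, mul_assoc]
    exact ⟨(Relation.ReflTransGen.single hVU).tail hUW,
      (Relation.ReflTransGen.single
        ⟨hUW.2.1, hUW.1, fun a ha b hb => (hUW.2.2 b hb a ha).symm⟩).tail
        ⟨hVU.2.1, hVU.1, fun a ha b hb => (hVU.2.2 b hb a ha).symm⟩⟩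
  intro A B hA hB
  obtain ⟨W₁, hW₁, hW₁E, h₁, -⟩ := key A hA
  obtain ⟨W₂, hW₂, hW₂E, -, h₂⟩ := key B hB
  exact (h₁.tail ⟨hW₁, hW₂, fun a ha b hb => hEc a (hW₁E ha) b (hW₂E hb)⟩).trans h₂

end Cfsg.Agent.S0502
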