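import Cfsg.Statements.S0505
import Cfsg.Agent.Lib.Cores.Pi
import Cfsg.Agent.Lib.Classif.PTimesQ

set_option autoImplicit false
open Cfsg

namespace Cfsg.Agent.S0505

open scoped commutatorElement

/-- If `O_{2'}(G) = 1` then `F(G) = O_2(G)`. -/
theorem fitting_eq_pCore {G : Type*} [Group G] [Finite G] (h : Cfsg.oddCore G = ⊥) :
    Cfsg.fittingSubgroup G = Cfsg.pCore 2 G := by
  refine le_antisymm ?_ (Cfsg.Agent.Lib.Cores.pCore_le_fittingSubgroup 2)
  rw [Cfsg.Agent.Lib.Cores.fittingSubgroup_eq_iSup_pCore]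
  refine iSup_le fun p => ?_
  rcases eq_or_ne (p : ℕ) 2 with hp | hp
  · rw [hp]
  · haveI : Fact (p : ℕ).Prime := ⟨p.2⟩
    have h1 : Cfsg.pCore (p : ℕ) G ≤ Cfsg.oddCore G := by
      refine Cfsg.Agent.Lib.Cores.le_pPrimeCore ?_
      obtain ⟨k, hk⟩ :=
        IsPGroup.iff_card.mp (Cfsg.Agent.Lib.Cores.pCore_isPGroup (G := G) (p : ℕ))
      rw [hk]
      exact Nat.Coprime.pow_left k ((Nat.coprime_primes p.2 Nat.prime_two).mpr hp)
    rw [h] at h1
    exact h1.trans bot_le

/-- An element of a 2-group of odd order is trivial. -/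
theorem eq_one_of_odd {G : Type*} [Group G] {Q : Subgroup G} (hQ : IsPGroup 2 Q) {D : Subgroup G}
    [Finite D] (hD : Odd (Nat.card D)) {x : G} (hxD : x ∈ D) (hxQ : x ∈ Q) : x = 1 := by
  obtain ⟨k, hk⟩ := hQ ⟨x, hxQ⟩
  have h1 : x ^ 2 ^ k = 1 := congrArg Subtype.val hk
  have h2 : x ^ Nat.card D = 1 := congrArg Subtype.val (pow_card_eq_one' (x := (⟨x, hxD⟩ : D)))
  have hcop : Nat.Coprime (2 ^ k) (Nat.card D) := (Nat.coprime_two_left.mpr hD).pow_left k
  exact orderOf_eq_one_iff.mp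
    (Nat.eq_one_of_dvd_coprimes hcop (orderOf_dvd_of_pow_eq_one h1) (orderOf_dvd_of_pow_eq_one h2))

theorem result {G : Type*} [Group G] [Finite G]
    (h2 : Even (Nat.card G))
    (hs : ∀ t : G, orderOf t = 2 → Group.IsSolvable (Subgroup.centralizer ({t} : Set G)))
    (hc : ∀ t : G, orderOf t = 2 → Cfsg.oddCore (Subgroup.centralizer ({t} : Set G)) = ⊥) :
    Cfsg.IsCharacteristicTwoType G := by
  refine ⟨h2, fun T hT hT1 => ?_⟩
  classical
  haveI : Fact (Nat.Prime 2) := ⟨Nat.prime_two⟩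
  -- a central involution `z` of `T`
  haveI : Nontrivial T := (Subgroup.nontrivial_iff_ne_bot T).mpr hT1
  obtain ⟨w, hw⟩ : ∃ w : Subgroup.center T, orderOf w = 2 := by
    haveI := hT.center_nontrivial
    exact exists_prime_orderOf_dvd_card' 2
      (((hT.to_subgroup _).card_eq_or_dvd).resolve_left (Finite.one_lt_card).ne')
  set z : G := ((w : T) : G) with hzdef
  have hz2 : orderOf z = 2 := by rw [hzdef, Subgroup.orderOf_coe, Subgroup.orderOf_coe, hw]
  have hzT : z ∈ T := (w : T).2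
  have hzc : ∀ t ∈ T, t * z = z * t := fun t ht =>
    congrArg Subtype.val (Subgroup.mem_center_iff.mp w.2 ⟨t, ht⟩)
  set X : Subgroup G := Subgroup.centralizer ({z} : Set G) with hX
  haveI : Group.IsSolvable X := hs z hz2
  have hTX : T ≤ X := fun t ht => Subgroup.mem_centralizer_iff.mpr fun y hy => by
    rw [Set.mem_singleton_iff.mp hy]; exact (hzc t ht).symm
  set H : Subgroup G := Subgroup.normalizer (T : Set G) with hH
  -- `Q = O_2(X)` inside `G`
  set Q : Subgroup G := (Cfsg.pCore 2 X).map X.subtype with hQdef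
  have hQp : IsPGroup 2 Q := (Cfsg.Agent.Lib.Cores.pCore_isPGroup (G := X) 2).map _
  have hQX : Q ≤ X := Subgroup.map_subtype_le _
  have hQnorm : ∀ g ∈ X, ∀ x ∈ Q, g * x * g⁻¹ ∈ Q := by
    rintro g hg _ ⟨y, hy, rfl⟩
    exact ⟨⟨g, hg⟩ * y * ⟨g, hg⟩⁻¹, (inferInstance : (Cfsg.pCore 2 X).Normal).conj_mem y hy _, rfl⟩
  -- Step 1: `O(H) = 1`
  have hOH : Cfsg.oddCore H = ⊥ := by
    set D : Subgroup G := (Cfsg.oddCore H).map H.subtype with hD
    have hDodd : Odd (Nat.card D) := by
      rw [hD, Subgroup.card_map_of_injective H.subtype_injective]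
      exact Cfsg.Agent.Lib.Cores.oddCore_odd
    have hDH : D ≤ H := Subgroup.map_subtype_le _
    have hDnorm : ∀ g ∈ H, ∀ x ∈ D, g * x * g⁻¹ ∈ D := by
      rintro g hg _ ⟨y, hy, rfl⟩
      exact ⟨⟨g, hg⟩ * y * ⟨g, hg⟩⁻¹,
        (inferInstance : (Cfsg.oddCore H).Normal).conj_mem y hy _, rfl⟩
    have hDT : ∀ d ∈ D, ∀ t ∈ T, d * t = t * d := by
      intro d hd t ht
      have h1 : d * t * d⁻¹ * t⁻¹ ∈ D := by
        have := D.mul_mem hd (hDnorm t (Subgroup.le_normalizer ht) d⁻¹ (D.inv_mem hd))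
        simpa [mul_assoc] using this
      have h2 : d * t * d⁻¹ * t⁻¹ ∈ T :=
        T.mul_mem ((Subgroup.mem_normalizer_iff.mp (hDH hd) t).mp ht) (T.inv_mem ht)
      have := eq_one_of_odd hT hDodd h1 h2
      rwa [mul_inv_eq_one, mul_inv_eq_iff_eq_mul] at this
    have hDbot : D = ⊥ := by
      rw [Subgroup.eq_bot_iff_forall]
      intro d hd
      have hdX : d ∈ X := Subgroup.mem_centralizer_iff.mpr fun y hy => by
        rw [Set.mem_singleton_iff.mp hy]; exact (hDT d hd z hzT).symm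
      have hdo : (orderOf d).Coprime 2 :=
        Nat.coprime_two_right.mpr (hDodd.of_dvd_nat (D.orderOf_dvd_natCard hd))
      have hdQ : ∀ x ∈ Q, d * x = x * d := by
        refine Cfsg.Agent.Lib.Classif.pTimesQ Q T d hQp hT
          (Subgroup.le_normalizer_iff.mpr fun g hg x hx => hQnorm g (hTX hg) x hx)
          (hQnorm d hdX) hdo (hDT d hd) ?_
        intro x hx hxT
        have hxH : x ∈ H := by
          refine Subgroup.mem_normalizer_iff.mpr fun y => ⟨fun hy => ?_, fun hy => ?_⟩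
          · rw [← hxT y hy, mul_inv_cancel_right]; exact hy
          · have h1 := hxT _ hy
            have h2 : x * y * x⁻¹ = y := by
              have := congrArg (fun a => x⁻¹ * a) h1
              simpa [mul_assoc] using this.symm
            rwa [h2] at hy
        have h1 : d * x * d⁻¹ * x⁻¹ ∈ D := by
          have := D.mul_mem hd (hDnorm x hxH d⁻¹ (D.inv_mem hd))
          simpa [mul_assoc] using this
        have h2 : d * x * d⁻¹ * x⁻¹ ∈ Q := Q.mul_mem (hQnorm d hdX x hx) (Q.inv_mem hx)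
        have := eq_one_of_odd hQp hDodd h1 h2
        rwa [mul_inv_eq_one, mul_inv_eq_iff_eq_mul] at this
      have hmem : (⟨d, hdX⟩ : X) ∈ Cfsg.pCore 2 X := by
        rw [← fitting_eq_pCore (hc z hz2)]
        refine Cfsg.Agent.Lib.Cores.centralizer_fittingSubgroup_le ?_
        rw [fitting_eq_pCore (hc z hz2)]
        exact Subgroup.mem_centralizer_iff.mpr fun y hy =>
          Subtype.ext (hdQ (y : G) ⟨y, hy, rfl⟩).symm
      exact eq_one_of_odd hQp hDodd hd ⟨_, hmem, rfl⟩
    rwa [hD, Subgroup.map_eq_bot_iff_of_injective _ H.subtype_injective] at hDbot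
  -- Step 2: `C_H(O_2(H)) ≤ O_2(H)`
  unfold Cfsg.IsOfCharacteristicTwo
  set O : Subgroup H := Cfsg.pCore 2 H with hO
  set K : Subgroup H := Subgroup.centralizer (O : Set H) with hK
  haveI hKn : K.Normal := inferInstance
  have hTO : T.subgroupOf H ≤ O :=
    Cfsg.Agent.Lib.Cores.le_pCore (hT.comap_of_injective H.subtype H.subtype_injective)
  haveI : Group.IsSolvable K := by
    let f : K →* X :=
      { toFun := fun k => ⟨(k : H).1, Subgroup.mem_centralizer_iff.mpr fun y hy => by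
          rw [Set.mem_singleton_iff.mp hy]
          have hzO : (⟨z, Subgroup.le_normalizer hzT⟩ : H) ∈ O :=
            hTO (Subgroup.mem_subgroupOf.mpr hzT)
          exact congrArg Subtype.val (Subgroup.mem_centralizer_iff.mp k.2 _ hzO)⟩
        map_one' := rfl
        map_mul' := fun _ _ => rfl }
    exact Group.isSolvable_of_isSolvable_injective (f := f) fun a b hab =>
      Subtype.ext (Subtype.ext (congrArg (Subtype.val : X → G) hab))
  have hFK : (Cfsg.fittingSubgroup K).map K.subtype ≤ O := by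
    rw [Cfsg.Agent.Lib.Cores.map_subtype_fittingSubgroup, fitting_eq_pCore hOH]
    exact inf_le_right
  intro k hk
  have hkF : (⟨k, hk⟩ : K) ∈ Cfsg.fittingSubgroup K := by
    refine Cfsg.Agent.Lib.Cores.centralizer_fittingSubgroup_le ?_
    refine Subgroup.mem_centralizer_iff.mpr fun y hy => Subtype.ext ?_
    exact Subgroup.mem_centralizer_iff.mp hk (y : H) (hFK ⟨y, hy, rfl⟩)
  exact hFK ⟨_, hkF, rfl⟩

end Cfsg.Agent.S0505
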