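import Cfsg.Statements.S0521
import Cfsg.Agent.Lib.Cores.Basic
import Cfsg.Agent.Lib.Classif.OddTransvection

set_option autoImplicit false
open Cfsg

namespace Cfsg.Agent.S0521

universe u

open Cfsg.Agent.Lib.Cores

theorem isCyclic_map {G H : Type*} [Group G] [Group H] {A : Subgroup G} (hA : IsCyclic A)
    (f : G →* H) : IsCyclic (A.map f) :=
  isCyclic_of_surjective (f.subgroupMap A) (f.subgroupMap_surjective A)

theorem isCyclic_of_map {G H : Type*} [Group G] [Group H] {A : Subgroup G} (f : G →* H)
    (hf : Function.Injective f) (hA : IsCyclic (A.map f)) : IsCyclic A :=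
  (A.equivMapOfInjective f hf).isCyclic.mpr hA

/-- Step A: `S` centralises a minimal normal elementary abelian `p`-subgroup. -/
theorem centralises_minimal {X : Type u} [Group X] [Finite X] [Group.IsSolvable X]
    (hodd : Odd (Nat.card X)) {p : ℕ} [Fact p.Prime] (S : Sylow p X)
    (hS : IsCyclic ↥⁅(S : Subgroup X), (S : Subgroup X)⁆) (M : Subgroup X) [hMn : M.Normal]
    (hMS : M ≤ (S : Subgroup X)) (hM1 : M ≠ ⊥) (hMp : ∀ m ∈ M, m ^ p = 1)
    (hMc : ∀ m ∈ M, ∀ n ∈ M, m * n = n * m)
    (hmin : ∀ N : Subgroup X, N.Normal → N ≤ M → N ≠ ⊥ → N = M) :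
    (S : Subgroup X) ≤ Subgroup.centralizer (M : Set X) := by
  classical
  have hp : p.Prime := Fact.out
  set C : Subgroup X := Subgroup.centralizer (M : Set X) with hC
  haveI hCn : C.Normal := inferInstance
  have hMP : IsPGroup p M := S.isPGroup'.to_le hMS
  intro x hxS
  -- the commutator map of `x` on `M`
  let f : M →* X :=
    { toFun := fun m => x * (m : X) * x⁻¹ * (m : X)⁻¹
      map_one' := by simp
      map_mul' := fun m n => by
        have h1 := hMc _ (M.mul_mem (hMn.conj_mem _ n.2 x) (M.inv_mem n.2)) _ (M.inv_mem m.2)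
        simp only [Subgroup.coe_mul]
        calc x * ((m : X) * n) * x⁻¹ * ((m : X) * n)⁻¹
            = (x * m * x⁻¹) * ((x * n * x⁻¹ * (n : X)⁻¹) * (m : X)⁻¹) := by group
          _ = _ := by rw [h1]; group }
  have hfr : f.range ≤ ⁅(S : Subgroup X), (S : Subgroup X)⁆ := by
    rintro _ ⟨m, rfl⟩
    exact Subgroup.commutator_mem_commutator hxS (hMS m.2)
  have hfM : f.range ≤ M := by
    rintro _ ⟨m, rfl⟩
    exact M.mul_mem (hMn.conj_mem _ m.2 x) (M.inv_mem m.2)
  haveI : IsCyclic f.range :=
    (Subgroup.subgroupOfEquivOfLe hfr).isCyclic.mp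
      (haveI := hS; Subgroup.isCyclic (f.range.subgroupOf _))
  obtain ⟨a, hagen⟩ := f.range.isCyclic_iff_exists_zpowers_eq_top.mp inferInstance
  have haM : a ∈ M := hfM (hagen ▸ Subgroup.mem_zpowers a)
  have hxa : ∀ m ∈ M, x * m * x⁻¹ * m⁻¹ ∈ Subgroup.zpowers a := by
    intro m hm
    rw [hagen]; exact ⟨⟨m, hm⟩, rfl⟩
  obtain ⟨k, hk⟩ := S.isPGroup' ⟨x, hxS⟩
  have hxk : x ^ p ^ k = 1 := congrArg Subtype.val hk
  -- every commutator of `x` is a `p`-element modulo `C`
  have hcomm : ∀ g : X, (x * (g * x * g⁻¹)⁻¹) ^ (p * p) ∈ C := by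
    intro g
    have hgM : ∀ m ∈ M, g * x * g⁻¹ * m * (g * x * g⁻¹)⁻¹ ∈ M := fun m hm => hMn.conj_mem _ hm _
    have hy : ∀ m ∈ M, g * x * g⁻¹ * m * (g * x * g⁻¹)⁻¹ * m⁻¹ ∈
        Subgroup.zpowers (g * a * g⁻¹) := by
      intro m hm
      obtain ⟨i, hi⟩ := Subgroup.mem_zpowers_iff.mp (hxa (g⁻¹ * m * g) (by
        simpa using hMn.conj_mem _ hm g⁻¹))
      refine Subgroup.mem_zpowers_iff.mpr ⟨i, ?_⟩
      rw [conj_zpow, hi]; group
    have := Cfsg.Agent.Lib.Classif.exists_pow_fix hMp hMc hodd haM (hMn.conj_mem _ haM g)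
      (fun m hm => hMn.conj_mem _ hm x) hgM hxk (l := k)
      (by rw [conj_pow, hxk]; group) hxa hy
    exact Subgroup.mem_centralizer_iff.mpr fun m hm =>
      (mul_inv_eq_iff_eq_mul.mp (this m hm)).symm
  -- `O_p(X / C) = 1`
  have hcore : Cfsg.pCore p (X ⧸ C) = ⊥ := by
    set N : Subgroup X := (Cfsg.pCore p (X ⧸ C)).comap (QuotientGroup.mk' C) with hN
    haveI hNn : N.Normal := inferInstance
    suffices h : N ≤ C by
      rw [eq_bot_iff]
      intro q hq
      obtain ⟨z, rfl⟩ := QuotientGroup.mk'_surjective C q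
      exact Subgroup.mem_bot.mpr ((QuotientGroup.eq_one_iff z).mpr (h hq))
    let φ : N →* MulAut M := (MulAut.conjNormal (H := M)).comp N.subtype
    have hR : IsPGroup p φ.range := by
      rintro ⟨_, z, rfl⟩
      obtain ⟨j, hj⟩ := pCore_isPGroup (G := X ⧸ C) p ⟨_, z.2⟩
      refine ⟨j, Subtype.ext ?_⟩
      have hj' : (z : X) ^ p ^ j ∈ C := by
        rw [← QuotientGroup.eq_one_iff]; simpa using congrArg Subtype.val hj
      change φ z ^ p ^ j = 1
      rw [← map_pow]
      ext m
      simp only [φ, MonoidHom.comp_apply, MulAut.one_apply, Subgroup.subtype_apply,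
        MulAut.conjNormal_apply, SubgroupClass.coe_pow]
      rw [← Subgroup.mem_centralizer_iff.mp hj' _ m.2, mul_inv_cancel_right]
    haveI : Nontrivial M := (Subgroup.nontrivial_iff_ne_bot M).mpr hM1
    have hdvd : p ∣ Nat.card M := hMP.card_eq_or_dvd.resolve_left Finite.one_lt_card.ne'
    obtain ⟨m₀, hm₀, hne⟩ := hR.exists_fixed_point_of_prime_dvd_card_of_fixed_point M hdvd
      (a := (1 : M)) (fun r => map_one (r : MulAut M))
    haveI hFn : (M ⊓ Subgroup.centralizer (N : Set X)).Normal := inferInstance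
    have hF : (m₀ : X) ∈ M ⊓ Subgroup.centralizer (N : Set X) := by
      refine ⟨m₀.2, Subgroup.mem_centralizer_iff.mpr fun z hz => ?_⟩
      have h1 : φ ⟨z, hz⟩ m₀ = m₀ := hm₀ ⟨φ ⟨z, hz⟩, ⟨_, rfl⟩⟩
      have h2 : z * (m₀ : X) * z⁻¹ = m₀ := congrArg Subtype.val h1
      exact mul_inv_eq_iff_eq_mul.mp h2
    have hall := hmin _ hFn inf_le_left fun h => hne (Subtype.ext (by
      rw [h, Subgroup.mem_bot] at hF; exact hF.symm))
    intro z hz
    refine Subgroup.mem_centralizer_iff.mpr fun m hm => ?_
    have hm' : m ∈ M ⊓ Subgroup.centralizer (N : Set X) := by rw [hall]; exact hm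
    exact (Subgroup.mem_centralizer_iff.mp hm'.2 z hz).symm
  -- `x` centralises `F(X / C)`
  set F := Cfsg.fittingSubgroup (X ⧸ C) with hFdef
  have hxF : (x : X ⧸ C) ∈ Subgroup.centralizer (F : Set (X ⧸ C)) := by
    haveI hnil : Group.IsNilpotent F := fittingSubgroup_isNilpotent
    obtain ⟨P⟩ := Sylow.nonempty (p := p) (G := F)
    haveI hPn : (P : Subgroup F).Normal :=
      ((Group.isNilpotent_of_finite_tfae (G := F)).out 0 3 rfl rfl).mp hnil p inferInstance P
    have hPbot : (P : Subgroup F) = ⊥ := by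
      have h1 : (P : Subgroup F).map F.subtype ≤ Cfsg.pCore p (X ⧸ C) := by
        haveI : (P : Subgroup F).Characteristic := Sylow.characteristic_of_normal P hPn
        haveI := normal_map_subtype F (P : Subgroup F)
        exact le_pCore (P.isPGroup'.map _)
      rw [hcore, le_bot_iff] at h1
      exact (Subgroup.map_eq_bot_iff_of_injective _ F.subtype_injective).mp h1
    have hnotdvd : ¬ p ∣ Nat.card F := by
      have h := P.card_eq_multiplicity
      rw [hPbot, Subgroup.card_bot] at h
      intro hd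
      have := hp.factorization_pos_of_dvd Nat.card_pos.ne' hd
      rcases Nat.pow_eq_one.mp h.symm with h' | h'
      · exact hp.ne_one h'
      · omega
    refine Subgroup.mem_centralizer_iff.mpr fun q hq => ?_
    obtain ⟨g, rfl⟩ := QuotientGroup.mk'_surjective C q
    have hmem : (x : X ⧸ C) * ((g : X ⧸ C) * x * (g : X ⧸ C)⁻¹)⁻¹ ∈ F := by
      have h1 := (inferInstance : F.Normal).conj_mem _ hq (x : X ⧸ C)
      have h2 := F.mul_mem h1 (F.inv_mem hq)
      simpa [mul_assoc] using h2
    have hpow : ((x : X ⧸ C) * ((g : X ⧸ C) * x * (g : X ⧸ C)⁻¹)⁻¹) ^ (p * p) = 1 := by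
      have := (QuotientGroup.eq_one_iff _).mpr (hcomm g)
      simpa using this
    have h1 : orderOf ((x : X ⧸ C) * ((g : X ⧸ C) * x * (g : X ⧸ C)⁻¹)⁻¹) = 1 := by
      refine Nat.eq_one_of_dvd_coprimes ?_ (orderOf_dvd_of_pow_eq_one hpow)
        (F.orderOf_dvd_natCard hmem)
      exact Nat.Coprime.mul_left (hp.coprime_iff_not_dvd.mpr hnotdvd)
        (hp.coprime_iff_not_dvd.mpr hnotdvd)
    rw [orderOf_eq_one_iff, mul_inv_eq_one, eq_mul_inv_iff_mul_eq] at h1
    exact h1.symm
  have hxF' : (x : X ⧸ C) ∈ F := centralizer_fittingSubgroup_le hxF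
  have hx1 : (x : X ⧸ C) = 1 := by
    have hle : F ≤ Cfsg.pPrimeCore p (X ⧸ C) := by
      refine le_trans (le_of_eq fittingSubgroup_eq_iSup_pCore) (iSup_le fun r => ?_)
      rcases eq_or_ne (r : ℕ) p with hr | hr
      · rw [hr, hcore]; exact bot_le
      · haveI : Fact (r : ℕ).Prime := ⟨r.2⟩
        obtain ⟨j, hj⟩ := IsPGroup.iff_card.mp (pCore_isPGroup (G := X ⧸ C) (r : ℕ))
        exact le_pPrimeCore (by rw [hj]; exact ((Nat.coprime_primes r.2 hp).mpr hr).pow_left j)
    have h1 : orderOf (x : X ⧸ C) = 1 := by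
      have hd1 : orderOf (x : X ⧸ C) ∣ p ^ k :=
        orderOf_dvd_of_pow_eq_one (by rw [← QuotientGroup.mk_pow, hxk]; rfl)
      exact Nat.eq_one_of_dvd_coprimes ((pPrimeCore_coprime p).symm.pow_left k) hd1
        ((Cfsg.pPrimeCore p (X ⧸ C)).orderOf_dvd_natCard (hle hxF'))
    exact orderOf_eq_one_iff.mp h1
  exact (QuotientGroup.eq_one_iff x).mp hx1

theorem normal_sylow (p : ℕ) [Fact p.Prime] : ∀ (n : ℕ) (X : Type u) [Group X] [Finite X],
    Nat.card X ≤ n → Group.IsSolvable X → Odd (Nat.card X) → Cfsg.pPrimeCore p X = ⊥ →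
      ∀ S : Sylow p X, IsCyclic ↥⁅(S : Subgroup X), (S : Subgroup X)⁆ →
        (S : Subgroup X).Normal := by
  have hp : p.Prime := Fact.out
  intro n
  induction n with
  | zero => intro X _ _ h; have := Nat.card_pos (α := X); omega
  | succ n ih =>
    intro X _ _ hcard hsol hodd hcore S hS
    classical
    by_cases htriv : Nontrivial X
    swap
    · rw [not_nontrivial_iff_subsingleton] at htriv
      exact ⟨fun m hm g => by rwa [Subsingleton.elim (g * m * g⁻¹) m]⟩
    -- `O_p(X) ≠ 1`
    set P := Cfsg.pCore p X with hPdef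
    have hP1 : P ≠ ⊥ := by
      intro h0
      refine fittingSubgroup_ne_bot (G := X) ?_
      rw [fittingSubgroup_eq_iSup_pCore, eq_bot_iff]
      refine iSup_le fun r => ?_
      rcases eq_or_ne (r : ℕ) p with hr | hr
      · rw [hr, ← hPdef, h0]
      · haveI : Fact (r : ℕ).Prime := ⟨r.2⟩
        obtain ⟨j, hj⟩ := IsPGroup.iff_card.mp (pCore_isPGroup (G := X) (r : ℕ))
        rw [← hcore]
        exact le_pPrimeCore (by rw [hj]; exact ((Nat.coprime_primes r.2 hp).mpr hr).pow_left j)
    -- the elements of order `p` of the centre of `O_p(X)`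
    let E : Subgroup X :=
      { carrier := {m | m ∈ P ∧ m ^ p = 1 ∧ ∀ q ∈ P, q * m = m * q}
        one_mem' := ⟨P.one_mem, one_pow p, fun q _ => by simp⟩
        mul_mem' := by
          rintro a b ⟨ha, ha1, ha2⟩ ⟨hb, hb1, hb2⟩
          exact ⟨P.mul_mem ha hb,
            by rw [(show Commute a b from hb2 a ha).mul_pow, ha1, hb1, one_mul],
            fun q hq => ((show Commute q a from ha2 q hq).mul_right (hb2 q hq)).eq⟩
        inv_mem' := by
          rintro a ⟨ha, ha1, ha2⟩
          exact ⟨P.inv_mem ha, by rw [inv_pow, ha1, inv_one],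
            fun q hq => ((show Commute q a from ha2 q hq).inv_right).eq⟩ }
    haveI hEn : E.Normal := by
      refine ⟨?_⟩
      rintro m ⟨hm, hm1, hm2⟩ g
      refine ⟨(inferInstance : P.Normal).conj_mem m hm g,
        by rw [conj_pow, hm1]; group, fun q hq => ?_⟩
      have h := hm2 (g⁻¹ * q * g) (by simpa using (inferInstance : P.Normal).conj_mem q hq g⁻¹)
      calc q * (g * m * g⁻¹) = g * ((g⁻¹ * q * g) * m) * g⁻¹ := by group
        _ = g * (m * (g⁻¹ * q * g)) * g⁻¹ := by rw [h]
        _ = g * m * g⁻¹ * q := by group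
    have hE1 : E ≠ ⊥ := by
      haveI : Nontrivial P := (Subgroup.nontrivial_iff_ne_bot P).mpr hP1
      have hPp : IsPGroup p P := pCore_isPGroup (G := X) p
      haveI := hPp.center_nontrivial
      obtain ⟨w, hw⟩ := exists_prime_orderOf_dvd_card' (G := Subgroup.center P) p
        ((hPp.to_subgroup _).card_eq_or_dvd.resolve_left Finite.one_lt_card.ne')
      intro h0
      have hwE : ((w : P) : X) ∈ E := by
        refine ⟨(w : P).2, ?_, fun q hq =>
          congrArg Subtype.val (Subgroup.mem_center_iff.mp w.2 ⟨q, hq⟩)⟩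
        have := pow_orderOf_eq_one w
        rw [hw] at this
        exact congrArg (fun z : Subgroup.center P => ((z : P) : X)) this
      rw [h0, Subgroup.mem_bot] at hwE
      have : w = 1 := Subtype.ext (Subtype.ext hwE)
      rw [this, orderOf_one] at hw
      exact hp.ne_one hw.symm
    -- a minimal normal subgroup inside it
    obtain ⟨M, ⟨hMn, hM1, hME⟩, hMmin⟩ :=
      (Set.toFinite {N : Subgroup X | N.Normal ∧ N ≠ ⊥ ∧ N ≤ E}).exists_minimal ⟨E, hEn, hE1, le_rfl⟩
    haveI := hMn
    have hMS : M ≤ (S : Subgroup X) := fun m hm => pCore_le_sylow S (hME hm).1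
    have hMp : ∀ m ∈ M, m ^ p = 1 := fun m hm => (hME hm).2.1
    have hMc : ∀ m ∈ M, ∀ q ∈ M, m * q = q * m := fun m hm q hq =>
      (hME hq).2.2 m (hME hm).1
    have hSC := centralises_minimal hodd S hS M hMS hM1 hMp hMc
      (fun N hN hNM hN1 => le_antisymm hNM (hMmin ⟨hN, hN1, hNM.trans hME⟩ hNM))
    set C : Subgroup X := Subgroup.centralizer (M : Set X) with hCdef
    by_cases hCtop : C = ⊤
    · -- `M` is central: pass to `X / M`
      have hlt : Nat.card (X ⧸ M) < Nat.card X := by
        haveI : Nontrivial M := (Subgroup.nontrivial_iff_ne_bot M).mpr hM1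
        have h2 : 1 < Nat.card M := Finite.one_lt_card
        have h3 := Subgroup.card_eq_card_quotient_mul_card_subgroup M
        have h4 : 0 < Nat.card (X ⧸ M) := Nat.card_pos
        nlinarith
      have hcore' : Cfsg.pPrimeCore p (X ⧸ M) = ⊥ := by
        set N : Subgroup X := (Cfsg.pPrimeCore p (X ⧸ M)).comap (QuotientGroup.mk' M) with hN
        haveI hNn : N.Normal := inferInstance
        suffices h : N ≤ M by
          rw [eq_bot_iff]
          intro q hq
          obtain ⟨z, rfl⟩ := QuotientGroup.mk'_surjective M q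
          exact Subgroup.mem_bot.mpr ((QuotientGroup.eq_one_iff z).mpr (h hq))
        have hMN : M ≤ N := fun m hm => by
          simp [hN, (QuotientGroup.eq_one_iff m).mpr hm]
        set M' : Subgroup N := M.subgroupOf N with hM'
        have hM'p : IsPGroup p M' :=
          (S.isPGroup'.to_le hMS).comap_of_injective N.subtype N.subtype_injective
        have hidx : ¬ p ∣ M'.index := by
          rw [hM', ← Subgroup.relIndex, ← hp.coprime_iff_not_dvd]
          have h1 : M.relIndex N = Nat.card (Cfsg.pPrimeCore p (X ⧸ M)) := by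
            rw [← Subgroup.relIndex_bot_left]
            have h2 : (⊥ : Subgroup (X ⧸ M)).comap (QuotientGroup.mk' M) = M := by
              rw [MonoidHom.comap_bot, QuotientGroup.ker_mk']
            conv_lhs => rw [← h2]
            rw [hN, Subgroup.relIndex_comap,
              Subgroup.map_comap_eq_self_of_surjective (QuotientGroup.mk'_surjective M)]
          rw [h1]
          exact (pPrimeCore_coprime p).symm
        let Q : Sylow p N := hM'p.toSylow hidx
        have hQ : (Q : Subgroup N) = M' := IsPGroup.toSylow_coe hM'p hidx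
        have hcent : Subgroup.normalizer ((Q : Subgroup N) : Set N) ≤
            Subgroup.centralizer ((Q : Subgroup N) : Set N) := by
          intro z _
          refine Subgroup.mem_centralizer_iff.mpr fun m hm => Subtype.ext ?_
          have hm' : (m : X) ∈ M := by rw [hQ] at hm; exact hm
          have hzC : (z : X) ∈ C := hCtop ▸ Subgroup.mem_top _
          exact Subgroup.mem_centralizer_iff.mp hzC _ hm'
        set D := (MonoidHom.transferSylow Q hcent).ker with hD
        have hDd : ¬ p ∣ Nat.card D := MonoidHom.not_dvd_card_ker_transferSylow Q hcent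
        have hDbot : D = ⊥ := by
          haveI : (Cfsg.pPrimeCore p N).Characteristic := inferInstance
          haveI := normal_map_subtype N (Cfsg.pPrimeCore p N)
          have h1 : (Cfsg.pPrimeCore p N).map N.subtype ≤ Cfsg.pPrimeCore p X :=
            le_pPrimeCore (by
              rw [Subgroup.card_map_of_injective N.subtype_injective]
              exact pPrimeCore_coprime p)
          rw [hcore, le_bot_iff, Subgroup.map_eq_bot_iff_of_injective _ N.subtype_injective] at h1
          rw [eq_bot_iff, ← h1]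
          exact le_pPrimeCore_of_not_dvd hDd
        have hcompl := MonoidHom.ker_transferSylow_isComplement' Q hcent
        rw [← hD, hDbot, Subgroup.isComplement'_bot_left, hQ] at hcompl
        exact Subgroup.subgroupOf_eq_top.mp hcompl
      have hnorm := ih (X ⧸ M) (by omega) inferInstance
        (hodd.of_dvd_nat (Subgroup.card_quotient_dvd_card M)) hcore'
        (S.mapSurjective (QuotientGroup.mk'_surjective M)) (by
          rw [Sylow.coe_mapSurjective, ← Subgroup.map_commutator]
          exact isCyclic_map hS _)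
      rw [Sylow.coe_mapSurjective] at hnorm
      have h := hnorm.comap (QuotientGroup.mk' M)
      rwa [QuotientGroup.comap_map_mk', sup_eq_right.mpr hMS] at h
    · -- otherwise induction inside `C`
      haveI hCn : C.Normal := inferInstance
      have hlt : Nat.card C < Nat.card X :=
        lt_of_le_of_ne (Subgroup.card_le_card_group C)
          fun h => hCtop (Subgroup.eq_top_of_card_eq C h)
      have hcoreC : Cfsg.pPrimeCore p C = ⊥ := by
        haveI := normal_map_subtype C (Cfsg.pPrimeCore p C)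
        have h1 : (Cfsg.pPrimeCore p C).map C.subtype ≤ Cfsg.pPrimeCore p X :=
          le_pPrimeCore (by
            rw [Subgroup.card_map_of_injective C.subtype_injective]
            exact pPrimeCore_coprime p)
        rwa [hcore, le_bot_iff, Subgroup.map_eq_bot_iff_of_injective _ C.subtype_injective] at h1
      have hT := ih C (by omega) inferInstance
        (hodd.of_dvd_nat (Subgroup.card_subgroup_dvd_card C)) hcoreC (S.subtype hSC) (by
          refine isCyclic_of_map C.subtype C.subtype_injective ?_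
          rw [Sylow.coe_subtype, Subgroup.map_commutator, Subgroup.map_subgroupOf_eq_of_le hSC]
          exact hS)
      haveI : ((S.subtype hSC : Sylow p C) : Subgroup C).Characteristic :=
        Sylow.characteristic_of_normal _ hT
      have h := normal_map_subtype C ((S.subtype hSC : Sylow p C) : Subgroup C)
      rwa [Sylow.coe_subtype, Subgroup.map_subgroupOf_eq_of_le hSC] at h

theorem result {X : Type*} [Group X] [Finite X] [Group.IsSolvable X]
    (hX : Odd (Nat.card X)) (p : ℕ) [Fact p.Prime] (S : Sylow p X) (hS : IsCyclic (commutator (S : Subgroup X))) :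
    (Cfsg.pPrimeCore p X ⊔ (S : Subgroup X)).Normal := by
  set O := Cfsg.pPrimeCore p X with hO
  have hS' : IsCyclic ↥⁅(S : Subgroup X), (S : Subgroup X)⁆ := by
    have h := isCyclic_map hS (S : Subgroup X).subtype
    rwa [map_commutator_eq, Subgroup.range_subtype] at h
  have hnorm := normal_sylow p (Nat.card (X ⧸ O)) (X ⧸ O) le_rfl inferInstance
    (hX.of_dvd_nat (Subgroup.card_quotient_dvd_card O)) (pPrimeCore_quotient_pPrimeCore p)
    (S.mapSurjective (QuotientGroup.mk'_surjective O)) (by
      rw [Sylow.coe_mapSurjective, ← Subgroup.map_commutator]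
      exact isCyclic_map hS' _)
  rw [Sylow.coe_mapSurjective] at hnorm
  have h := hnorm.comap (QuotientGroup.mk' O)
  rwa [QuotientGroup.comap_map_mk'] at h

end Cfsg.Agent.S0521
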