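import Cfsg.Statements.S0522
import Cfsg.Agent.Lib.OddLocal.Transitivity
import Cfsg.Agent.Lib.PSolvable.HallHigman

set_option autoImplicit false
open Cfsg

namespace Cfsg.Agent.S0522

/-- Transitivity Theorem (odd-order setting). Let X be a finite group of odd order in which the normalizer of every
nontrivial p-subgroup is solvable, P a Sylow p-subgroup, and B an abelian subgroup of P, normalized by P, with
C_P(B) = B and containing an elementary abelian subgroup of order p^3. Then for every prime q ≠ p, any two q-subgroups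
that are maximal among the q-subgroups normalized by B are conjugate by an element of the centralizer of B. -/
theorem result {X : Type*} [Group X] [Finite X] (hX : Odd (Nat.card X)) (p : ℕ)
    [Fact p.Prime] (hloc : ∀ T : Subgroup X, IsPGroup p T → T ≠ ⊥ → Group.IsSolvable (Subgroup.normalizer (T : Set X)))
    (P : Sylow p X) (B : Subgroup X) (hBP : B ≤ (P : Subgroup X))
    (hBn : ∀ x ∈ (P : Subgroup X), ∀ b ∈ B, x * b * x⁻¹ ∈ B) (hBa : IsMulCommutative B)
    (hBc : (P : Subgroup X) ⊓ Subgroup.centralizer (B : Set X) = B)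
    (hB3 : ∃ E : Subgroup X, E ≤ B ∧ (∀ e ∈ E, e ^ p = 1) ∧ p ^ 3 ≤ Nat.card E)
    (q : ℕ) [Fact q.Prime] (hqp : q ≠ p) (Q₁ Q₂ : Subgroup X)
    (h₁ : IsPGroup q Q₁ ∧ B ≤ Subgroup.normalizer (Q₁ : Set X) ∧
      ∀ R : Subgroup X, IsPGroup q R → B ≤ Subgroup.normalizer (R : Set X) → Q₁ ≤ R → R = Q₁)
    (h₂ : IsPGroup q Q₂ ∧ B ≤ Subgroup.normalizer (Q₂ : Set X) ∧
      ∀ R : Subgroup X, IsPGroup q R → B ≤ Subgroup.normalizer (R : Set X) → Q₂ ≤ R → R = Q₂) :
    ∃ c ∈ Subgroup.centralizer (B : Set X), Q₂ = Q₁.map (MulAut.conj c).toMonoidHom := by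
  obtain ⟨E, hEB, hEp, hE3⟩ := hB3
  have hBp : IsPGroup p B := P.isPGroup'.to_le hBP
  haveI := hBa
  have hBC : B ≤ Subgroup.centralizer (B : Set X) := fun b hb w hw =>
    congrArg Subtype.val (hBa.is_comm.comm ⟨w, hw⟩ ⟨b, hb⟩)
  -- `p` is odd
  have hp2 : p = 2 → False := by
    rintro rfl
    have h1 : 2 ∣ Nat.card E := by
      obtain ⟨k, hk⟩ := (hBp.to_le hEB).exists_card_eq
      rw [hk] at hE3 ⊢
      exact dvd_pow_self 2 fun h0 => by rw [h0] at hE3; norm_num at hE3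
    exact Nat.not_even_iff_odd.mpr hX (even_iff_two_dvd.mpr (h1.trans (Subgroup.card_subgroup_dvd_card E)))
  -- `B` contains every `p`-element centralising it
  have hfull : ∀ x ∈ Subgroup.centralizer (B : Set X), IsPGroup p (Subgroup.zpowers x) → x ∈ B := by
    intro x hx hxp
    set N := Subgroup.normalizer (B : Set X) with hN
    have hPN : (P : Subgroup X) ≤ N := fun g hg =>
      Subgroup.mem_normalizer_fintype fun b hb => hBn g hg b hb
    have hCN : Subgroup.centralizer (B : Set X) ≤ N := by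
      intro c hc
      exact Subgroup.mem_normalizer_fintype fun b hb => by
        show c * b * c⁻¹ ∈ (B : Set X)
        rw [← Subgroup.mem_centralizer_iff.1 hc b hb, mul_inv_cancel_right]
        exact hb
    have hxN : Subgroup.zpowers x ≤ N := Subgroup.zpowers_le.mpr (hCN hx)
    obtain ⟨T, hT⟩ := (hxp.comap_subtype (K := N)).exists_le_sylow
    obtain ⟨n, hn⟩ := MulAction.exists_smul_eq N T (P.subtype hPN)
    have hxT : (⟨x, hCN hx⟩ : N) ∈ T := hT (Subgroup.mem_zpowers x)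
    have hxP : (n : X) * x * (n : X)⁻¹ ∈ (P : Subgroup X) := by
      have : n * ⟨x, hCN hx⟩ * n⁻¹ ∈ ((n • T : Sylow p N) : Subgroup N) := ⟨_, hxT, rfl⟩
      rw [hn] at this
      exact this
    have hxC : (n : X) * x * (n : X)⁻¹ ∈ Subgroup.centralizer (B : Set X) := by
      intro b hb
      have hb' : (n : X)⁻¹ * b * n ∈ B := (Subgroup.mem_normalizer_iff''.1 n.2 b).1 hb
      have h1 := Subgroup.mem_centralizer_iff.1 hx _ hb'
      calc b * ((n : X) * x * (n : X)⁻¹) = n * ((n : X)⁻¹ * b * n * x) * (n : X)⁻¹ := by group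
        _ = n * (x * ((n : X)⁻¹ * b * n)) * (n : X)⁻¹ := by rw [h1]
        _ = n * x * (n : X)⁻¹ * b := by group
    have hmem : (n : X) * x * (n : X)⁻¹ ∈ (P : Subgroup X) ⊓ Subgroup.centralizer (B : Set X) :=
      ⟨hxP, hxC⟩
    rw [hBc] at hmem
    exact (Subgroup.mem_normalizer_iff.1 n.2 x).2 hmem
  have hS : Lib.OddLocal.Transitivity.Setup p X B := by
    refine ⟨fun T hT hT1 => ?_, fun h => (hp2 h).elim, hBp, hBa, hfull⟩
    haveI := hloc T hT hT1
    exact Lib.PSolvable.isPConstrained_of_isPSolvable Lib.PSolvable.isPSolvable_of_isSolvable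
  have hEel : Cfsg.IsElementaryAbelian p E :=
    ⟨IsMulCommutative.of_comm fun a b => Subtype.ext
      (show (a : X) * b = b * a from
        congrArg Subtype.val (hBa.is_comm.comm (⟨a, hEB a.2⟩ : B) ⟨b, hEB b.2⟩)), hEp⟩
  have hmax : ∀ Q : Subgroup X, IsPGroup q Q → B ≤ Subgroup.normalizer (Q : Set X) →
      (∀ R : Subgroup X, IsPGroup q R → B ≤ Subgroup.normalizer (R : Set X) → Q ≤ R → R = Q) →
      Q ∈ Cfsg.maxInvSubgroups ⊤ B {q} := fun Q hQ hQn hQm =>
    ⟨Lib.OddOrder.Transitivity.mem_inv.2 ⟨le_top, hQ, hQn⟩, fun R hR hle => by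
      obtain ⟨-, hRq, hRn⟩ := Lib.OddOrder.Transitivity.mem_inv.1 hR
      exact hQm R hRq hRn hle⟩
  obtain ⟨k, hk, he⟩ := Lib.OddLocal.Transitivity.maxInv_conj hS hEB hEel hE3 q hqp Q₁
    (hmax Q₁ h₁.1 h₁.2.1 h₁.2.2) Q₂ (hmax Q₂ h₂.1 h₂.2.1 h₂.2.2)
  exact ⟨k, Subgroup.map_subtype_le _ hk, he⟩

end Cfsg.Agent.S0522
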