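import Cfsg.Statements.S0529
import Cfsg.Agent.Lib.Supersolvable.Basic

set_option autoImplicit false
set_option linter.style.haveILetI false
open Cfsg

namespace Cfsg.Agent.S0529

open Subgroup in
universe u in
theorem chain {G : Type u} [Group G] [Finite G] (hG : Cfsg.IsSupersolvable G) :
    ∃ (n : ℕ) (H : Fin (n + 1) → Subgroup G), H 0 = ⊥ ∧ H (Fin.last n) = ⊤ ∧ (∀ i, (H i).Normal) ∧
      (∀ i : Fin n, H i.castSucc ≤ H i.succ ∧ ((H i.castSucc).relIndex (H i.succ)).Prime) ∧
      ∀ i j : Fin n, i ≤ j →
        (H j.castSucc).relIndex (H j.succ) ≤ (H i.castSucc).relIndex (H i.succ) := by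
  suffices ∀ (m : ℕ) (G : Type u) [Group G] [Finite G], Nat.card G = m → Cfsg.IsSupersolvable G →
      ∃ (n : ℕ) (H : Fin (n + 1) → Subgroup G), H 0 = ⊥ ∧ H (Fin.last n) = ⊤ ∧
        (∀ i, (H i).Normal) ∧
        (∀ i : Fin n, H i.castSucc ≤ H i.succ ∧ ((H i.castSucc).relIndex (H i.succ)).Prime ∧
          (H i.castSucc).relIndex (H i.succ) ∣ Nat.card G) ∧
        ∀ i j : Fin n, i ≤ j →
          (H j.castSucc).relIndex (H j.succ) ≤ (H i.castSucc).relIndex (H i.succ) by
    obtain ⟨n, H, a, b, c, d, e⟩ := this _ G rfl hG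
    exact ⟨n, H, a, b, c, fun i => ⟨(d i).1, (d i).2.1⟩, e⟩
  intro m
  induction m using Nat.strong_induction_on with
  | _ m IH =>
    intro G _ _ hm hG
    rcases subsingleton_or_nontrivial G with hs | hs
    · exact ⟨0, fun _ => ⊥, rfl, Subsingleton.elim _ _, fun _ => inferInstance,
        fun i => i.elim0, fun i => i.elim0⟩
    obtain ⟨p, hpS, hpmax⟩ := Finset.exists_max_image (Nat.card G).primeFactors id
      (Nat.nonempty_primeFactors.2 Finite.one_lt_card)
    obtain ⟨hp, hpd, -⟩ := Nat.mem_primeFactors.1 hpS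
    have hle : ∀ q : ℕ, q.Prime → q ∣ Nat.card G → q ≤ p := fun q hq hd =>
      hpmax q (Nat.mem_primeFactors.2 ⟨hq, hd, Nat.card_pos.ne'⟩)
    obtain ⟨P, hPn, hPc⟩ := Lib.Supersolvable.exists_normal_max_prime hG p hp hpd hle
    haveI := hPn
    obtain ⟨n, H, h0, hl, hn, hstep, hord⟩ := IH _ (hm ▸ Lib.Supersolvable.card_quotient_lt hp hPc)
      (G ⧸ P) rfl (Lib.Supersolvable.quotient hG P)
    set f := QuotientGroup.mk' P
    have hf : Function.Surjective f := QuotientGroup.mk'_surjective P
    have hrel : ∀ (A B : Subgroup (G ⧸ P)), (A.comap f).relIndex (B.comap f) = A.relIndex B :=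
      fun A B => by rw [relIndex_comap, map_comap_eq_self_of_surjective hf]
    have hzero : (⊥ : Subgroup G).relIndex (((H 0).comap f)) = p := by
      rw [relIndex_bot_left, h0, MonoidHom.comap_bot, QuotientGroup.ker_mk', hPc]
    refine ⟨n + 1, Fin.cons ⊥ (fun i => (H i).comap f), rfl, ?_, ?_, ?_, ?_⟩
    · rw [← Fin.succ_last, Fin.cons_succ, hl, comap_top]
    · intro i
      induction i using Fin.cases with
      | zero => rw [Fin.cons_zero]; infer_instance
      | succ j => rw [Fin.cons_succ]; exact (hn j).comap f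
    · intro i
      induction i using Fin.cases with
      | zero =>
        rw [Fin.castSucc_zero, Fin.cons_zero, Fin.cons_succ, hzero]
        exact ⟨bot_le, hp, hpd⟩
      | succ j =>
        rw [← Fin.succ_castSucc, Fin.cons_succ, Fin.cons_succ, hrel]
        exact ⟨comap_mono (hstep j).1, (hstep j).2.1,
          (hstep j).2.2.trans (card_quotient_dvd_card P)⟩
    · intro i j hij
      induction j using Fin.cases with
      | zero =>
        obtain rfl : i = 0 := le_antisymm hij (Fin.zero_le i)
        exact le_rfl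
      | succ j =>
        induction i using Fin.cases with
        | zero =>
          rw [Fin.castSucc_zero, ← Fin.succ_castSucc, Fin.cons_succ, Fin.cons_succ, Fin.cons_succ,
            Fin.cons_zero, hzero, hrel]
          exact hle _ (hstep j).2.1 ((hstep j).2.2.trans (card_quotient_dvd_card P))
        | succ i =>
          rw [← Fin.succ_castSucc, ← Fin.succ_castSucc, Fin.cons_succ, Fin.cons_succ, Fin.cons_succ,
            Fin.cons_succ, hrel, hrel]
          exact hord i j (Fin.succ_le_succ_iff.1 hij)

/-- A finite supersolvable group has a chain of normal subgroups, from the trivial subgroup to the whole group, in which every step has prime index and the primes occurring are non-increasing as one goes up the chain. -/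
theorem result {G : Type*} [Group G] [Finite G] (hG : Cfsg.IsSupersolvable G) : ∃ (n : ℕ) (H : Fin (n + 1) → Subgroup G), H 0 = ⊥ ∧ H (Fin.last n) = ⊤ ∧ (∀ i, (H i).Normal) ∧ (∀ i : Fin n, H i.castSucc ≤ H i.succ ∧ ((H i.castSucc).relIndex (H i.succ)).Prime) ∧ ∀ i j : Fin n, i ≤ j → (H j.castSucc).relIndex (H j.succ) ≤ (H i.castSucc).relIndex (H i.succ) := by
  exact chain hG

end Cfsg.Agent.S0529
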