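import Cfsg.Statements.S0530
import Cfsg.Agent.Lib.Supersolvable.Basic

set_option autoImplicit false
set_option linter.style.haveILetI false
open Cfsg

namespace Cfsg.Agent.S0530

open Subgroup in
universe u in
theorem two_mul_pow {G : Type u} [Group G] [Finite G] (p n : ℕ) (hp : p.Prime)
    (hG : Nat.card G = 2 * p ^ n) : Cfsg.IsSupersolvable G := by
  haveI := Fact.mk hp
  by_cases hp2 : p = 2
  · subst hp2
    exact Lib.Supersolvable.of_isPGroup (IsPGroup.of_card (show Nat.card G = 2 ^ (n + 1) by rw [hG]; ring))
  induction n generalizing G with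
  | zero =>
    haveI : IsCyclic G := @isCyclic_of_prime_card _ _ 2 ⟨Nat.prime_two⟩ (by simpa using hG)
    exact Lib.Supersolvable.of_isCyclic
  | succ n ih =>
    let P : Sylow p G := default
    have hPc : Nat.card (P : Subgroup G) = p ^ (n + 1) := by
      rw [P.card_eq_multiplicity, hG, Nat.factorization_mul two_ne_zero (pow_ne_zero _ hp.ne_zero)]
      simp [Nat.prime_two.factorization, hp.factorization, hp2]
    have hPi : (P : Subgroup G).index = 2 := by
      have := (P : Subgroup G).card_mul_index
      rw [hPc, hG, mul_comm 2] at this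
      exact Nat.eq_of_mul_eq_mul_left (pow_pos hp.pos _) this
    haveI : (P : Subgroup G).Normal := normal_of_index_eq_two hPi
    haveI : Nontrivial (P : Subgroup G) :=
      Finite.one_lt_card_iff_nontrivial.1 (hPc ▸ Nat.one_lt_pow (by omega) hp.one_lt)
    haveI := P.2.center_nontrivial
    obtain ⟨m, hm, hcard⟩ :=
      (P.2.to_subgroup (center (P : Subgroup G))).nontrivial_iff_card.1 inferInstance
    obtain ⟨x, hx⟩ := exists_prime_orderOf_dvd_card' p (hcard ▸ dvd_pow_self p (by omega))
    haveI : Fact (Nat.Prime 2) := ⟨Nat.prime_two⟩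
    obtain ⟨t, ht⟩ := exists_prime_orderOf_dvd_card' (G := G) 2 (hG ▸ dvd_mul_right 2 _)
    have ht2 : t * t = 1 := by rw [← pow_two, ← ht, pow_orderOf_eq_one]
    have htP : t ∉ (P : Subgroup G) := by
      intro h
      have := Subgroup.orderOf_dvd_natCard _ h
      rw [ht, hPc] at this
      exact hp2 ((Nat.prime_dvd_prime_iff_eq Nat.prime_two hp).1
        (Nat.prime_two.dvd_of_dvd_pow this)).symm
    -- elements of order `p` centralised by `P` and inverted or fixed by `t`
    set Z := (center (P : Subgroup G)).map (P : Subgroup G).subtype with hZ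
    have hZP : ∀ y ∈ Z, ∀ z ∈ (P : Subgroup G), Commute z y := by
      rintro _ ⟨y, hy, rfl⟩ z hz
      exact congrArg Subtype.val (mem_center_iff.1 hy ⟨z, hz⟩)
    haveI hZn : Z.Normal := inferInstance
    set z : G := ((x : (P : Subgroup G)) : G) with hzdef
    have hzZ : z ∈ Z := ⟨x, x.2, rfl⟩
    have hz : orderOf z = p := by rw [hzdef, orderOf_coe, orderOf_coe, hx]
    set w := t * z * t⁻¹ with hw
    have hwZ : w ∈ Z := hZn.conj_mem z hzZ t
    have hcomm : Commute z w := hZP w hwZ z (x : (P : Subgroup G)).2
    have hnorm : ∃ v ∈ Z, orderOf v = p ∧ t * v * t⁻¹ ∈ zpowers v := by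
      by_cases hzw : z * w = 1
      · refine ⟨z, hzZ, hz, ?_⟩
        rw [show t * z * t⁻¹ = z⁻¹ from (inv_eq_of_mul_eq_one_right hzw).symm]
        exact inv_mem (mem_zpowers z)
      · refine ⟨z * w, mul_mem hzZ hwZ, ?_, ?_⟩
        · refine orderOf_eq_prime ?_ hzw
          rw [hcomm.mul_pow, hw, conj_pow, ← hz, pow_orderOf_eq_one]
          group
        · have hti : t⁻¹ = t := inv_eq_of_mul_eq_one_right ht2
          have : t * (z * w) * t⁻¹ = z * w := by
            rw [hcomm.eq]
            conv_rhs => rw [← hcomm.eq]
            calc t * (w * z) * t⁻¹ = t * w * t⁻¹ * (t * z * t⁻¹) := by group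
              _ = (t * t) * z * (t * t)⁻¹ * w := by rw [hw]; group
              _ = z * w := by rw [ht2]; group
          rw [this]; exact mem_zpowers _
    obtain ⟨v, hvZ, hv, htv⟩ := hnorm
    have hvn : (zpowers v).Normal := by
      rw [← normalizer_eq_top_iff, eq_top_iff]
      have htn : t ∈ normalizer (zpowers v : Set G) :=
        mem_normalizer_iff_map_conj_eq.2 (by
          refine eq_of_le_of_card_ge ?_ ?_
          · rw [MonoidHom.map_zpowers]; exact zpowers_le.2 (by simpa using htv)
          · exact le_of_eq (Nat.card_congr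
              ((zpowers v).equivMapOfInjective _ (MulAut.conj t).injective).toEquiv))
      have hPn : (P : Subgroup G) ≤ normalizer (zpowers v : Set G) :=
        le_trans (fun y hy => mem_centralizer_iff.2 fun u hu => by
          obtain ⟨k, rfl⟩ := hu
          exact ((hZP v hvZ y hy).zpow_right k).symm.eq) (centralizer_le_normalizer _)
      intro g _
      by_cases hg : g ∈ (P : Subgroup G)
      · exact hPn hg
      · have : g * t ∈ (P : Subgroup G) := by
          rw [mul_mem_iff_of_index_two hPi]
          exact iff_of_false hg htP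
        rw [show g = g * t * t⁻¹ by group]
        exact mul_mem (hPn this) (inv_mem htn)
    haveI := hvn
    have hc : Nat.card (zpowers v) = p := by rw [Nat.card_zpowers, hv]
    refine Lib.Supersolvable.of_quotient (zpowers v) (ih ?_)
    have := card_eq_card_quotient_mul_card_subgroup (zpowers v)
    rw [hG, hc, pow_succ, ← mul_assoc] at this
    exact (Nat.eq_of_mul_eq_mul_right hp.pos this).symm

/-- A finite group whose order is twice a prime power is supersolvable. -/
theorem result {G : Type*} [Group G] [Finite G] (p n : ℕ) (hp : p.Prime) (hG : Nat.card G = 2 * p ^ n) : Cfsg.IsSupersolvable G := by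
  exact two_mul_pow p n hp hG

end Cfsg.Agent.S0530
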