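import Cfsg.Statements.S0531
import Cfsg.Agent.Lib.Supersolvable.Basic

set_option autoImplicit false
set_option linter.style.haveILetI false
open Cfsg

namespace Cfsg.Agent.S0531

open Subgroup in
universe u in
theorem exists_of_dvd {G : Type u} [Group G] [Finite G] (hG : Cfsg.IsSupersolvable G) (d : ℕ)
    (hd : d ∣ Nat.card G) : ∃ H : Subgroup G, Nat.card H = d := by
  suffices ∀ (m : ℕ) (G : Type u) [Group G] [Finite G], Nat.card G = m → Cfsg.IsSupersolvable G →
      ∀ d, d ∣ Nat.card G → ∃ H : Subgroup G, Nat.card H = d from this _ G rfl hG d hd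
  intro m
  induction m using Nat.strong_induction_on with
  | _ m IH =>
    intro G _ _ hm hG d hd
    rcases subsingleton_or_nontrivial G with hs | hs
    · rw [Nat.card_unique] at hd
      exact ⟨⊤, by rw [card_top, Nat.card_unique, Nat.eq_one_of_dvd_one hd]⟩
    obtain ⟨p, P, hp, hPc, hPn⟩ := Lib.Supersolvable.exists_prime_normal hG
    haveI := hPn
    have hss := Lib.Supersolvable.quotient hG P
    have hlt := hm ▸ Lib.Supersolvable.card_quotient_lt hp hPc
    have hGc := card_eq_card_quotient_mul_card_subgroup P
    rw [hPc] at hGc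
    have hcomap : ∀ K : Subgroup (G ⧸ P),
        Nat.card (K.comap (QuotientGroup.mk' P)) = Nat.card K * p := by
      intro K
      have h1 : (K.comap (QuotientGroup.mk' P)).index = K.index :=
        index_comap_of_surjective _ (QuotientGroup.mk'_surjective P)
      have h2 := (K.comap (QuotientGroup.mk' P)).card_mul_index
      have h3 := K.card_mul_index
      rw [hGc, ← h3, h1] at h2
      refine Nat.eq_of_mul_eq_mul_right (Nat.pos_of_ne_zero K.index_ne_zero_of_finite) ?_
      rw [h2]; ring
    by_cases hpd : p ∣ d
    · obtain ⟨e, rfl⟩ := hpd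
      obtain ⟨K, hK⟩ := IH _ hlt (G ⧸ P) rfl hss e (by
        rw [hGc, mul_comm p] at hd; exact Nat.dvd_of_mul_dvd_mul_right hp.pos hd)
      exact ⟨K.comap (QuotientGroup.mk' P), by rw [hcomap, hK, mul_comm]⟩
    · have hcop : d.Coprime p := (hp.coprime_iff_not_dvd.2 hpd).symm
      obtain ⟨K, hK⟩ := IH _ hlt (G ⧸ P) rfl hss d (hcop.dvd_of_dvd_mul_right (hGc ▸ hd))
      set L := K.comap (QuotientGroup.mk' P) with hL
      have hPL : P ≤ L := fun x hx => by
        rw [hL, mem_comap, QuotientGroup.mk'_apply, (QuotientGroup.eq_one_iff x).2 hx]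
        exact one_mem _
      have hPLc : Nat.card (P.subgroupOf L) = p := by
        rw [Nat.card_congr (subgroupOfEquivOfLe hPL).toEquiv, hPc]
      have hidx : (P.subgroupOf L).index = d := by
        have := (P.subgroupOf L).card_mul_index
        rw [hPLc, hcomap, hK, mul_comm d] at this
        exact Nat.eq_of_mul_eq_mul_left hp.pos this
      obtain ⟨C, hC⟩ := exists_right_complement'_of_coprime (N := P.subgroupOf L)
        (by rw [hPLc, hidx]; exact hcop.symm)
      refine ⟨C.map L.subtype, ?_⟩
      rw [Nat.card_congr (C.equivMapOfInjective _ L.subtype_injective).toEquiv.symm,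
        ← hC.symm.index_eq_card, hidx]

/-- A finite supersolvable group has a subgroup of each order dividing its order. -/
theorem result {G : Type*} [Group G] [Finite G] (hG : Cfsg.IsSupersolvable G) : Cfsg.HasSubgroupOfEveryOrder G := by
  exact fun d hd => exists_of_dvd hG d hd

end Cfsg.Agent.S0531
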