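import Cfsg.Statements.S0532
import Cfsg.Agent.Lib.Supersolvable.Basic

set_option autoImplicit false
set_option linter.style.haveILetI false
open Cfsg

namespace Cfsg.Agent.S0532

open Subgroup in
/-- The hypothesis passes to subgroups. -/
theorem hereditary {G : Type*} [Group G] (h : ∀ H : Subgroup G, Cfsg.HasSubgroupOfEveryOrder H)
    (M : Subgroup G) (H : Subgroup M) : Cfsg.HasSubgroupOfEveryOrder H := by
  intro d hd
  set e := H.equivMapOfInjective M.subtype M.subtype_injective
  obtain ⟨K, hK⟩ := h (H.map M.subtype) d (by rwa [Nat.card_congr e.toEquiv.symm])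
  refine ⟨K.comap e.toMonoidHom, ?_⟩
  rw [← hK]
  conv_rhs => rw [← map_comap_eq_self_of_surjective (f := e.toMonoidHom) e.surjective K]
  exact Nat.card_congr
    ((K.comap e.toMonoidHom).equivMapOfInjective e.toMonoidHom e.injective).toEquiv

open Subgroup in
theorem sylow_normal {G : Type*} [Group G] [Finite G]
    (h : ∀ H : Subgroup G, Cfsg.HasSubgroupOfEveryOrder H) (p : ℕ) [hpf : Fact p.Prime]
    (hdvd : p ∣ Nat.card G) (hmax : ∀ q : ℕ, q.Prime → q ∣ Nat.card G → q ≤ p) (P : Sylow p G) :
    (P : Subgroup G).Normal := by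
  suffices ∀ (n : ℕ) (K : Subgroup G), Nat.card K = n → p ∣ Nat.card K →
      ∀ Q : Sylow p K, (Q : Subgroup K).Normal by
    have h1 := this _ ⊤ rfl (by rwa [card_top]) (P.subtype le_top)
    exact ⟨fun x hx g => h1.conj_mem ⟨x, mem_top x⟩ hx ⟨g, mem_top g⟩⟩
  intro n
  induction n using Nat.strong_induction_on with
  | _ n IH =>
    intro K hn hpK Q
    haveI : Nontrivial K := Finite.one_lt_card_iff_nontrivial.1
      (hpf.out.one_lt.trans_le (Nat.le_of_dvd Nat.card_pos hpK))
    set q := (Nat.card K).minFac with hq
    have hqp : q.Prime := Nat.minFac_prime (Finite.one_lt_card (α := K)).ne'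
    by_cases hqeq : q = p
    · -- `K` is a `p`-group
      have : (Q : Subgroup K) = ⊤ := by
        rw [← index_eq_one]
        by_contra hne
        obtain ⟨r, hr, hrd⟩ := Nat.exists_prime_and_dvd hne
        have hrK : r ∣ Nat.card K := hrd.trans (index_dvd_card _)
        have h1 := Nat.minFac_le_of_dvd hr.two_le hrK
        rw [← hq, hqeq] at h1
        have h2 := le_antisymm (hmax r hr (hrK.trans (card_subgroup_dvd_card K))) h1
        exact Q.not_dvd_index (h2 ▸ hrd)
      rw [this]; infer_instance
    have hqd : q ∣ Nat.card K := Nat.minFac_dvd _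
    obtain ⟨M, hM⟩ := h K (Nat.card K / q) (Nat.div_dvd_of_dvd hqd)
    have hMi : M.index = q := by
      have h1 := M.card_mul_index
      rw [hM] at h1
      have h3 : 0 < Nat.card K / q := hM ▸ Nat.card_pos
      refine Nat.eq_of_mul_eq_mul_left h3 ?_
      rw [h1, Nat.div_mul_cancel hqd]
    haveI hMn : M.Normal := normal_of_index_eq_minFac_card (hMi.trans hq)
    have hQM : (Q : Subgroup K) ≤ M := by
      intro x hx
      have hx' : orderOf (x : K ⧸ M) = 1 := by
        have h1 := orderOf_map_dvd (QuotientGroup.mk' M) x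
        obtain ⟨k, hk⟩ := IsPGroup.iff_orderOf.1 Q.isPGroup' ⟨x, hx⟩
        rw [← orderOf_coe] at hk
        simp only at hk
        have h2 : orderOf (x : K ⧸ M) ∣ q := hMi ▸ (index_eq_card M ▸ orderOf_dvd_natCard _)
        exact Nat.eq_one_of_dvd_coprimes (Nat.Coprime.pow_left k
          ((Nat.coprime_primes hpf.out hqp).2 (Ne.symm hqeq))) (hk ▸ h1) h2
      rw [← QuotientGroup.eq_one_iff]
      exact orderOf_eq_one_iff.1 hx'
    set M' := M.map K.subtype with hM'
    have hcM : Nat.card M' = Nat.card M :=
      (Nat.card_congr (M.equivMapOfInjective _ K.subtype_injective).toEquiv).symm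
    have hlt : Nat.card M' < n := by
      rw [hcM, hM, ← hn]; exact Nat.div_lt_self Nat.card_pos hqp.one_lt
    have hpM : p ∣ Nat.card M' := by
      rw [hcM]; exact (Q.dvd_card_of_dvd_card hpK).trans (card_dvd_of_le hQM)
    let e := M.equivMapOfInjective K.subtype K.subtype_injective
    let QM : Sylow p M := Q.subtype hQM
    have hn' : (QM : Subgroup M).Normal := by
      have h1 := IH _ hlt M' rfl hpM (QM.mapSurjective (f := e.toMonoidHom) e.surjective)
      have h2 := h1.comap e.toMonoidHom
      rwa [show ((QM.mapSurjective (f := e.toMonoidHom) e.surjective : Sylow p M') : Subgroup M')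
        = (QM : Subgroup M).map e.toMonoidHom from rfl,
        comap_map_eq_self_of_injective e.injective] at h2
    haveI := QM.characteristic_of_normal hn'
    have h3 : ((QM : Subgroup M).map M.subtype).Normal := inferInstance
    rwa [Sylow.coe_subtype, subgroupOf_map_subtype, inf_eq_left.2 hQM] at h3

/-- If each subgroup of a finite group satisfies the converse of Lagrange's theorem, then a Sylow subgroup for the largest prime dividing the group order is normal. -/
theorem result {G : Type*} [Group G] [Finite G] (h : ∀ H : Subgroup G, Cfsg.HasSubgroupOfEveryOrder H) (p : ℕ) [Fact p.Prime] (hdvd : p ∣ Nat.card G) (hmax : ∀ q : ℕ, q.Prime → q ∣ Nat.card G → q ≤ p) (P : Sylow p G) : (P : Subgroup G).Normal := by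
  exact sylow_normal h p hdvd hmax P

end Cfsg.Agent.S0532
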