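import Cfsg.Statements.S0533
import Cfsg.Agent.Lib.Supersolvable.Huppert
import Cfsg.Agent.S0532

set_option autoImplicit false
set_option linter.style.haveILetI false
open Cfsg

namespace Cfsg.Agent.S0533

open Subgroup in
/-- The index computation: all maximal subgroups have prime index. -/
theorem index_prime {G : Type*} [Group G] [Finite G] (p : ℕ) [hp : Fact p.Prime] (P : Sylow p G)
    [(P : Subgroup G).Normal] (hquot : Cfsg.IsSupersolvable (G ⧸ (P : Subgroup G)))
    (M2 : Subgroup G) (hM2 : M2.index = p) (hM2s : Cfsg.IsSupersolvable M2)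
    (M : Subgroup G) (hM : IsCoatom M) : M.index.Prime := by
  set P' := (P : Subgroup G) with hP'
  by_cases hPM : P' ≤ M
  · have hker : (QuotientGroup.mk' P').ker ≤ M := by rwa [QuotientGroup.ker_mk']
    rw [← index_map_eq M (QuotientGroup.mk'_surjective P') hker]
    exact Lib.Supersolvable.index_prime hquot _
      (Lib.Supersolvable.isCoatom_map_of_ker_le (QuotientGroup.mk'_surjective P') hker hM)
  have hnorm : ∀ N : Subgroup G, IsCoatom N → ¬ P' ≤ N → (P' ⊓ N).Normal := by
    intro N hN hPN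
    rw [← normalizer_eq_top_iff]
    refine hN.2 _ ?_
    refine lt_of_le_not_ge (Lib.Coprime.le_normalizer_inf le_normalizer_of_normal le_normalizer) ?_
    intro hle
    haveI := P.isPGroup'.isNilpotent
    have hlt : N.subgroupOf P' < ⊤ := lt_top_iff_ne_top.2 fun h => hPN (subgroupOf_eq_top.1 h)
    obtain ⟨z, hz, hzN⟩ := SetLike.exists_of_lt (Group.normalizerCondition_of_isNilpotent _ hlt)
    refine hzN (mem_subgroupOf.2 (hle ?_))
    rw [mem_normalizer_iff]
    intro x
    constructor
    · intro hx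
      obtain ⟨h1, h2⟩ := mem_inf.1 hx
      exact mem_inf.2 ⟨mul_mem (mul_mem z.2 h1) (inv_mem z.2),
        (mem_normalizer_iff.1 hz ⟨x, h1⟩).1 h2⟩
    · intro hx
      obtain ⟨h1, h2⟩ := mem_inf.1 hx
      have h3 : x ∈ P' := by
        have := mul_mem (mul_mem (inv_mem z.2) h1) z.2
        simpa [mul_assoc] using this
      exact mem_inf.2 ⟨h3, (mem_normalizer_iff.1 hz ⟨x, h3⟩).2 h2⟩
  have hD := hnorm M hM hPM
  set D := P' ⊓ M with hDdef
  have hM2co : IsCoatom M2 := by
    refine ⟨fun h => hp.out.ne_one (by rw [← hM2, h, index_top]), fun K hK => ?_⟩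
    rcases (Nat.dvd_prime hp.out).1 ((index_dvd_of_le hK.le).trans hM2.dvd) with h1 | h1
    · exact index_eq_one.1 h1
    · exact absurd (eq_of_le_of_card_ge hK.le (by
        have h2 := K.card_mul_index
        rw [← M2.card_mul_index, h1, hM2] at h2
        exact le_of_eq (Nat.eq_of_mul_eq_mul_right hp.out.pos h2))) hK.ne
  have hPM2 : ¬ P' ≤ M2 := fun h => P.not_dvd_index (hM2.symm.dvd.trans (index_dvd_of_le h))
  have hsup2 : M2 ⊔ P' = ⊤ := hM2co.2 _ (left_lt_sup.2 hPM2)
  have hsup : M ⊔ P' = ⊤ := hM.2 _ (left_lt_sup.2 hPM)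
  haveI := hnorm M2 hM2co hPM2
  haveI := hD
  set P2 := P' ⊓ M2 with hP2
  have hP2i : P2.relIndex P' = p := by
    have h1 := relIndex_sup_right M2 P'
    rw [hsup2, relIndex_top_right] at h1
    -- `[P : P2] = [G : M2]`
    have h2 : P2.relIndex P' * P'.index = P2.index := relIndex_mul_index inf_le_left
    have h3 : P2.relIndex M2 * M2.index = P2.index := relIndex_mul_index inf_le_right
    have h4 : P2.relIndex M2 = P'.index := by rw [hP2, inf_relIndex_right, ← h1]
    rw [h4, hM2, ← h2, mul_comm P'.index] at h3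
    exact (Nat.eq_of_mul_eq_mul_right (Nat.pos_of_ne_zero P'.index_ne_zero_of_finite) h3).symm
  have hidx : M.index = D.relIndex P' := by
    have h1 := relIndex_sup_right M P'
    rw [hsup, relIndex_top_right] at h1
    have h2 : D.relIndex P' * P'.index = D.index := relIndex_mul_index inf_le_left
    have h3 : D.relIndex M * M.index = D.index := relIndex_mul_index inf_le_right
    have h4 : D.relIndex M = P'.index := by rw [hDdef, inf_relIndex_right, ← h1]
    rw [h4, ← h2, mul_comm (D.relIndex P')] at h3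
    exact Nat.eq_of_mul_eq_mul_left (Nat.pos_of_ne_zero P'.index_ne_zero_of_finite) h3
  by_cases hDP2 : D ≤ P2
  · have hP2M : P2 ≤ M := by
      by_contra hnot
      refine hPM fun x hx => ?_
      have htop : M ⊔ P2 = ⊤ := hM.2 _ (left_lt_sup.2 hnot)
      obtain ⟨a, ha, b, hb, rfl⟩ := Lib.Coprime.exists_mul_of_mem_sup (A := M)
        (le_normalizer_of_normal (H := P2)) (htop ▸ mem_top x : x ∈ M ⊔ P2)
      have haP : a ∈ P' := by simpa using mul_mem hx (inv_mem (mem_inf.1 hb).1)
      exfalso
      refine hPM2 fun y hy => ?_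
      obtain ⟨c, hc, b', hb', rfl⟩ := Lib.Coprime.exists_mul_of_mem_sup (A := M)
        (le_normalizer_of_normal (H := P2)) (htop ▸ mem_top y : y ∈ M ⊔ P2)
      have hcP : c ∈ P' := by simpa using mul_mem hy (inv_mem (mem_inf.1 hb').1)
      exact mul_mem (mem_inf.1 (hDP2 (mem_inf.2 ⟨hcP, hc⟩))).2 (mem_inf.1 hb').2
    have : D = P2 := le_antisymm hDP2 (le_inf inf_le_left hP2M)
    rw [hidx, this, hP2i]; exact hp.out
  -- `D` is not inside `M2`, so `G = M2 D`
  have hD2 : ¬ D ≤ M2 := fun h => hDP2 (le_inf inf_le_left h)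
  have hsupD : M2 ⊔ D = ⊤ := hM2co.2 _ (left_lt_sup.2 hD2)
  set X := (M ⊓ M2).subgroupOf M2 with hX
  have hMdec : ∀ m ∈ M, ∃ x ∈ M ⊓ M2, ∃ d ∈ D, m = x * d := by
    intro m hm
    obtain ⟨a, ha, d, hd, rfl⟩ := Lib.Coprime.exists_mul_of_mem_sup (A := M2)
      (le_normalizer_of_normal (H := D)) (hsupD ▸ mem_top m : m ∈ M2 ⊔ D)
    exact ⟨a, mem_inf.2 ⟨by simpa using mul_mem hm (inv_mem (mem_inf.1 hd).2), ha⟩, d, hd, rfl⟩
  have hXco : IsCoatom X := by
    refine ⟨fun h => ?_, fun L hL => ?_⟩
    · have h1 := subgroupOf_eq_top.1 h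
      have h2 : M2 = M := by
        rcases hM2co.le_iff.1 (le_refl M2) with h | h
        · exact absurd h hM2co.1
        · exact ((hM2co.le_iff.1 (h1.trans inf_le_left)).resolve_left hM.1).symm
      exact hDP2 (by rw [hDdef, hP2, h2])
    set L' := L.map M2.subtype with hL'
    obtain ⟨y, hyL, hyX⟩ := SetLike.exists_of_lt hL
    have hle : M ≤ L' ⊔ D := by
      intro m hm
      obtain ⟨x, hx, d, hd, rfl⟩ := hMdec m hm
      exact mul_mem (mem_sup_left ⟨⟨x, (mem_inf.1 hx).2⟩, hL.le hx, rfl⟩) (mem_sup_right hd)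
    have htop : L' ⊔ D = ⊤ := by
      refine hM.2 _ (lt_of_le_of_ne hle fun h => hyX ?_)
      have : (y : G) ∈ M := by rw [h]; exact mem_sup_left ⟨y, hyL, rfl⟩
      exact mem_inf.2 ⟨this, y.2⟩
    rw [eq_top_iff]
    intro g _
    obtain ⟨a, ⟨⟨b, hb2⟩, hb, rfl⟩, d, hd, hg⟩ := Lib.Coprime.exists_mul_of_mem_sup (A := L')
      (le_normalizer_of_normal (H := D)) (htop ▸ mem_top (g : G) : (g : G) ∈ L' ⊔ D)
    have hd2 : d ∈ M2 := by
      have := mul_mem (inv_mem hb2) g.2
      rw [hg] at this
      simpa using this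
    have : g = ⟨b, hb2⟩ * ⟨d, hd2⟩ := Subtype.ext hg
    rw [this]
    exact mul_mem hb (hL.le (mem_inf.2 ⟨(mem_inf.1 hd).2, hd2⟩))
  have hpr := Lib.Supersolvable.index_prime hM2s X hXco
  have hmul : (M ⊓ M2).relIndex M * M.index = (M ⊓ M2).relIndex M2 * M2.index := by
    rw [relIndex_mul_index inf_le_left, relIndex_mul_index inf_le_right]
  have hMrel : (M ⊓ M2).relIndex M = M2.index := by
    rw [inf_relIndex_left, ← relIndex_top_right]
    refine le_antisymm ?_ ?_
    · exact relIndex_le_of_le_right le_top (by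
        rw [relIndex_top_right]; exact M2.index_ne_zero_of_finite)
    · rw [← hsupD, sup_comm]
      have h5 : M2.relIndex (D ⊔ M2) = M2.relIndex D := by
        have h6 : (M2 ⊓ D).relIndex (D ⊔ M2) =
            (M2 ⊓ D).relIndex M2 * M2.relIndex (D ⊔ M2) :=
          (relIndex_mul_relIndex _ _ _ inf_le_left le_sup_right).symm
        have h7 : (M2 ⊓ D).relIndex (D ⊔ M2) = (M2 ⊓ D).relIndex D * D.relIndex (D ⊔ M2) :=
          (relIndex_mul_relIndex _ _ _ inf_le_right le_sup_left).symm
        rw [relIndex_sup_left, inf_relIndex_right] at h7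
        rw [inf_relIndex_left, h7, mul_comm] at h6
        exact (Nat.eq_of_mul_eq_mul_left (Nat.pos_of_ne_zero index_ne_zero_of_finite) h6).symm
      rw [h5]
      exact relIndex_le_of_le_right inf_le_right index_ne_zero_of_finite
  rw [hMrel, mul_comm] at hmul
  rw [Nat.eq_of_mul_eq_mul_right (Nat.pos_of_ne_zero M2.index_ne_zero_of_finite) hmul]
  exact hpr

open Subgroup in
universe u in
theorem supersolvable {G : Type u} [Group G] [Finite G]
    (h : ∀ H : Subgroup G, Cfsg.HasSubgroupOfEveryOrder H) : Cfsg.IsSupersolvable G := by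
  suffices ∀ (n : ℕ) (G : Type u) [Group G] [Finite G], Nat.card G = n →
      (∀ H : Subgroup G, Cfsg.HasSubgroupOfEveryOrder H) → Cfsg.IsSupersolvable G from
    this _ G rfl h
  intro n
  induction n using Nat.strong_induction_on with
  | _ n IH =>
    intro G _ _ hn h
    rcases subsingleton_or_nontrivial G with hs | hs
    · exact Lib.Supersolvable.of_subsingleton
    obtain ⟨p, hpS, hpmax⟩ := Finset.exists_max_image (Nat.card G).primeFactors id
      (Nat.nonempty_primeFactors.2 Finite.one_lt_card)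
    obtain ⟨hp, hpd, -⟩ := Nat.mem_primeFactors.1 hpS
    haveI := Fact.mk hp
    let P : Sylow p G := default
    haveI hPn := S0532.sylow_normal h p hpd
      (fun q hq hd => hpmax q (Nat.mem_primeFactors.2 ⟨hq, hd, Nat.card_pos.ne'⟩)) P
    have hsub : ∀ M : Subgroup G, M ≠ ⊤ → Cfsg.IsSupersolvable M := fun M hM =>
      IH _ (hn ▸ lt_of_le_of_ne (card_le_card_group M) fun he => hM (eq_top_of_card_eq M he))
        M rfl (S0532.hereditary h M)
    have hquot : Cfsg.IsSupersolvable (G ⧸ (P : Subgroup G)) := by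
      obtain ⟨C, hC⟩ := exists_right_complement'_of_coprime P.card_coprime_index
      have hCtop : C ≠ ⊤ := fun h1 => by
        rw [h1, isComplement'_top_right] at hC
        exact P.ne_bot_of_dvd_card hpd hC
      refine Lib.Supersolvable.of_surjective ((QuotientGroup.mk' (P : Subgroup G)).comp C.subtype) ?_
        (hsub C hCtop)
      intro x
      obtain ⟨g, rfl⟩ := QuotientGroup.mk'_surjective _ x
      obtain ⟨⟨a, c⟩, hac, -⟩ := hC.existsUnique g
      refine ⟨c, ?_⟩
      simp only at hac
      show QuotientGroup.mk' _ (c : G) = _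
      rw [← hac, map_mul, show QuotientGroup.mk' (P : Subgroup G) (a : G) = 1 from
        (QuotientGroup.eq_one_iff _).2 a.2, one_mul]
    obtain ⟨M2, hM2⟩ := h ⊤ (Nat.card G / p) (by rw [card_top]; exact Nat.div_dvd_of_dvd hpd)
    set M2' := M2.map (⊤ : Subgroup G).subtype with hM2'
    have hc : Nat.card M2' = Nat.card G / p := by
      rw [← hM2]
      exact (Nat.card_congr (M2.equivMapOfInjective _ (subtype_injective _)).toEquiv).symm
    have hi : M2'.index = p := by
      have h1 := M2'.card_mul_index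
      rw [hc] at h1
      have h3 : 0 < Nat.card G / p := hc ▸ Nat.card_pos
      exact Nat.eq_of_mul_eq_mul_left h3 (by rw [h1, Nat.div_mul_cancel hpd])
    exact Lib.Supersolvable.of_index_prime fun M hM =>
      index_prime p P hquot M2' hi
        (hsub M2' fun he => hp.ne_one (by rw [← hi, he, index_top])) M hM

/-- If every subgroup of a finite group has subgroups of all orders dividing its order, then the group is supersolvable. -/
theorem result {G : Type*} [Group G] [Finite G] (h : ∀ H : Subgroup G, Cfsg.HasSubgroupOfEveryOrder H) : Cfsg.IsSupersolvable G := by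
  exact supersolvable h

end Cfsg.Agent.S0533
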