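import Cfsg.Statements.S0534
import Cfsg.Agent.Lib.Hall.Basic
import Cfsg.Agent.Lib.Supersolvable.Basic
import Cfsg.Agent.S0531

set_option autoImplicit false
set_option linter.style.haveILetI false
open Cfsg

namespace Cfsg.Agent.S0534

open Subgroup in
universe u in
theorem supersolvable_of_comm (A : Type u) [CommGroup A] [Finite A] : Cfsg.IsSupersolvable A := by
  suffices ∀ (n : ℕ) (A : Type u) [CommGroup A] [Finite A], Nat.card A = n →
      Cfsg.IsSupersolvable A from this _ A rfl
  intro n
  induction n using Nat.strong_induction_on with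
  | _ n IH =>
    intro A _ _ hn
    rcases subsingleton_or_nontrivial A with hs | hs
    · exact Lib.Supersolvable.of_subsingleton
    obtain ⟨g, hg⟩ := exists_ne (1 : A)
    refine Lib.Supersolvable.of_quotient (zpowers g) (IH _ ?_ _ rfl)
    rw [← hn, card_eq_card_quotient_mul_card_subgroup (zpowers g)]
    exact lt_mul_of_one_lt_right Nat.card_pos
      ((one_lt_card_iff_ne_bot _).2 (by rwa [Ne, zpowers_eq_bot]))

open Subgroup in
theorem every_order {G A : Type*} [Group G] [CommGroup A] [Finite G] [Finite A]
    [Group.IsSolvable G] (hA : ∀ p : ℕ, p.Prime → p ∣ Nat.card A → p ∣ Nat.card G)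
    (hexp : ∀ p : ℕ, p.Prime → p ∣ Nat.card G →
      (Nat.card A).factorization p + 1 = (Nat.card G).factorization p) (d : ℕ)
    (hd : d ∣ Nat.card (G × A)) : ∃ H : Subgroup (G × A), Nat.card H = d := by
  classical
  rw [Nat.card_prod] at hd
  have hG0 : Nat.card G ≠ 0 := Nat.card_pos.ne'
  have hA0 : Nat.card A ≠ 0 := Nat.card_pos.ne'
  have hd0 : d ≠ 0 := by rintro rfl; exact mul_ne_zero hG0 hA0 (zero_dvd_iff.1 hd)
  set π : Set ℕ := {p | (Nat.card A).factorization p < d.factorization p} with hπ
  obtain ⟨H, hH⟩ := Lib.Hall.exists_isPiHall (G := G) π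
  have hHdvd : Nat.card H ∣ d := by
    rw [← Nat.factorization_le_iff_dvd Nat.card_pos.ne' hd0, Finsupp.le_def]
    intro p
    by_cases hp : p.Prime
    swap
    · simp [Nat.factorization_eq_zero_of_not_prime _ hp]
    by_cases hpH : p ∣ Nat.card H
    · have h1 : (Nat.card A).factorization p < d.factorization p := hH.1 p hp hpH
      have h2 := (Nat.factorization_le_iff_dvd Nat.card_pos.ne' hG0).2 (card_subgroup_dvd_card H) p
      have h3 := hexp p hp (hpH.trans (card_subgroup_dvd_card H))
      omega
    · simp [Nat.factorization_eq_zero_of_not_dvd hpH]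
  obtain ⟨e, he⟩ := hHdvd
  have he0 : e ≠ 0 := by rintro rfl; simp [he] at hd0
  have hedvd : e ∣ Nat.card A := by
    rw [← Nat.factorization_le_iff_dvd he0 hA0, Finsupp.le_def]
    intro p
    by_cases hp : p.Prime
    swap
    · simp [Nat.factorization_eq_zero_of_not_prime _ hp]
    have h1 : d.factorization p = (Nat.card H).factorization p + e.factorization p := by
      rw [he, Nat.factorization_mul Nat.card_pos.ne' he0]; rfl
    have h2 : d.factorization p ≤ (Nat.card G).factorization p + (Nat.card A).factorization p := by
      have := (Nat.factorization_le_iff_dvd hd0 (mul_ne_zero hG0 hA0)).2 hd p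
      rwa [Nat.factorization_mul hG0 hA0] at this
    by_cases hpπ : p ∈ π
    · have h4 : ¬ p ∣ H.index := hH.2 p hp hpπ
      have h5 : (Nat.card G).factorization p = (Nat.card H).factorization p := by
        rw [← H.card_mul_index, Nat.factorization_mul Nat.card_pos.ne' H.index_ne_zero_of_finite,
          Finsupp.add_apply, Nat.factorization_eq_zero_of_not_dvd h4, add_zero]
      by_cases hpG : p ∣ Nat.card G
      · have h3 := hexp p hp hpG
        omega
      · have h6 := Nat.factorization_eq_zero_of_not_dvd hpG
        have h7 : (Nat.card A).factorization p = 0 :=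
          Nat.factorization_eq_zero_of_not_dvd fun h => hpG (hA p hp h)
        omega
    · have h4 : d.factorization p ≤ (Nat.card A).factorization p := not_lt.1 hpπ
      omega
  obtain ⟨B, hB⟩ := S0531.exists_of_dvd (supersolvable_of_comm A) e hedvd
  exact ⟨H.prod B, by rw [Nat.card_congr (H.prodEquiv B).toEquiv, Nat.card_prod, hB, he]⟩

/-- Let G be a finite solvable group and A a finite abelian group such that every prime dividing the order of A divides the order of G and, for each prime p dividing the order of G, the exponent of p in the order of A is one less than its exponent in the order of G. Then G × A has a subgroup of every order dividing its order. -/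
theorem result {G A : Type*} [Group G] [CommGroup A] [Finite G] [Finite A] [Group.IsSolvable G] (hA : ∀ p : ℕ, p.Prime → p ∣ Nat.card A → p ∣ Nat.card G) (hexp : ∀ p : ℕ, p.Prime → p ∣ Nat.card G → (Nat.card A).factorization p + 1 = (Nat.card G).factorization p) : Cfsg.HasSubgroupOfEveryOrder (G × A) := by
  exact every_order hA hexp

end Cfsg.Agent.S0534
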