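import Cfsg.Statements.S0535
import Cfsg.Agent.Lib.Hall.Converse

set_option autoImplicit false
set_option linter.style.haveILetI false
open Cfsg

namespace Cfsg.Agent.S0535

open Subgroup in
theorem exists_complement {G : Type*} [Group G] [Finite G] (h : ∀ H : Subgroup G, H ≠ ⊥ → ∀ p : ℕ,
    p.Prime → p ∣ Nat.card H → ∃ K : Subgroup H, K ≠ ⊤ ∧ ∃ k : ℕ, K.index = p ^ k) (p : ℕ)
    (hp : p.Prime) : ∃ H : Subgroup G, H.index = p ^ (Nat.card G).factorization p := by
  suffices ∀ (n : ℕ) (H : Subgroup G), Nat.card H = n → (∃ k, H.index = p ^ k) →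
      ∃ K : Subgroup G, (∃ k, K.index = p ^ k) ∧ ¬ p ∣ Nat.card K by
    obtain ⟨K, ⟨k, hk⟩, hpK⟩ := this _ ⊤ rfl ⟨0, by simp⟩
    refine ⟨K, ?_⟩
    rw [hk, ← K.card_mul_index, Nat.factorization_mul Nat.card_pos.ne' K.index_ne_zero_of_finite,
      hk]
    simp [hp.factorization, Nat.factorization_eq_zero_of_not_dvd hpK]
  intro n
  induction n using Nat.strong_induction_on with
  | _ n IH =>
    intro H hn hH
    by_cases hd : p ∣ Nat.card H
    · have hne : H ≠ ⊥ := by
        rintro rfl; rw [card_bot] at hd; exact hp.not_dvd_one hd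
      obtain ⟨K, hK, k, hk⟩ := h H hne p hp hd
      obtain ⟨j, hj⟩ := hH
      refine IH _ ?_ (K.map H.subtype) rfl ⟨k + j, by
        rw [index_map_subtype, hk, hj, pow_add]⟩
      rw [← hn, ← Nat.card_congr (K.equivMapOfInjective _ H.subtype_injective).toEquiv]
      exact lt_of_le_of_ne (card_le_card_group K) fun he => hK (eq_top_of_card_eq K he)
    · exact ⟨H, hH, hd⟩

/-- Suppose that for every nontrivial subgroup H of a finite group and every prime p dividing the order of H there is a proper subgroup of H whose index in H is a power of p. Then the group is solvable. -/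
theorem result {G : Type*} [Group G] [Finite G] (h : ∀ H : Subgroup G, H ≠ ⊥ → ∀ p : ℕ, p.Prime → p ∣ Nat.card H → ∃ K : Subgroup H, K ≠ ⊤ ∧ ∃ k : ℕ, K.index = p ^ k) : Group.IsSolvable G := by
  exact Lib.Hall.Converse.isSolvable_of_complements (exists_complement h)

end Cfsg.Agent.S0535
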