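import Cfsg.Statements.S0537
import Cfsg.Agent.Lib.Cores.Schmidt
import Cfsg.Agent.S0055
import Cfsg.Agent.Lib.Coprime.Commutator

set_option autoImplicit false
set_option linter.style.haveILetI false
open Cfsg

namespace Cfsg.Agent.S0537

/-- A finite non-abelian group in which every proper subgroup is abelian is either of prime-power order, or is generated by a cyclic Sylow p-subgroup and a normal Sylow q-subgroup that is elementary abelian, for distinct primes p and q. -/
theorem result {G : Type*} [Group G] [Finite G] (hna : ¬ IsMulCommutative G) (h : ∀ H : Subgroup G, H ≠ ⊤ → IsMulCommutative H) : (∃ p : ℕ, p.Prime ∧ IsPGroup p G) ∨ ∃ p q : ℕ, p.Prime ∧ q.Prime ∧ p ≠ q ∧ ∃ (P : Sylow p G) (Q : Sylow q G), IsCyclic P ∧ (Q : Subgroup G).Normal ∧ Cfsg.IsElementaryAbelian q (Q : Subgroup G) ∧ (P : Subgroup G) ⊔ Q = ⊤ := by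
  by_cases hnil : Group.IsNilpotent G
  · left
    by_contra hcon
    push Not at hcon
    obtain ⟨e⟩ := (Group.isNilpotent_of_finite_tfae (G := G)).out 0 4 rfl rfl |>.1 hnil
    refine hna ⟨⟨fun a b => ?_⟩⟩
    obtain ⟨x, rfl⟩ := e.surjective a
    obtain ⟨y, rfl⟩ := e.surjective b
    rw [← map_mul, ← map_mul]
    congr 1
    funext r P
    have hr : (r : ℕ).Prime := Nat.prime_of_mem_primeFactors r.2
    haveI := h (P : Subgroup G) fun ht => hcon r hr
      ((P.isPGroup'.of_equiv (MulEquiv.subgroupCongr ht)).of_equiv Subgroup.topEquiv)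
    exact mul_comm' (x r P) (y r P)
  right
  obtain ⟨p, q, hp, hq, hpq, P, Q, hcyc, hQn, hsup, hPQ⟩ :=
    Lib.Cores.Schmidt.structure_of_minimal hnil fun H hH => by
      haveI := h H hH
      letI : CommGroup H := { (inferInstance : Group H) with mul_comm := mul_comm' }
      exact CommGroup.isNilpotent
  haveI := Fact.mk hp
  haveI := Fact.mk hq
  refine ⟨p, q, hp, hq, hpq, P, Q, hcyc, hQn, ?_, hsup⟩
  haveI := hQn
  have hQtop : (Q : Subgroup G) ≠ ⊤ := fun ht => hnil (by
    haveI := ((Q.isPGroup'.of_equiv (MulEquiv.subgroupCongr ht)).of_equiv Subgroup.topEquiv).isNilpotent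
    infer_instance)
  haveI hQc := h _ hQtop
  refine ⟨hQc, ?_⟩
  have hcop : (Nat.card (P : Subgroup G)).Coprime (Nat.card (Q : Subgroup G)) :=
    IsPGroup.coprime_card_of_ne p q hpq _ _ P.isPGroup' Q.isPGroup'
  -- proper invariant subgroups are centralised
  have hR : ∀ R : Subgroup G, R ≤ (Q : Subgroup G) → R ≠ Q →
      (P : Subgroup G) ≤ Subgroup.normalizer (R : Set G) →
      R ≤ Subgroup.centralizer ((P : Subgroup G) : Set G) := by
    intro R hRQ hne hinv
    have ht : (P : Subgroup G) ⊔ R ≠ ⊤ := by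
      intro ht
      apply hne
      refine le_antisymm hRQ fun y hy => ?_
      have hy' : y ∈ ((R ⊔ (P : Subgroup G) : Subgroup G) : Set G) := by
        rw [sup_comm, ht]; trivial
      rw [Subgroup.coe_mul_of_right_le_normalizer_left R (P : Subgroup G) hinv] at hy'
      obtain ⟨r, hr, x, hx, rfl⟩ := hy'
      have hxQ : x ∈ (P : Subgroup G) ⊓ Q :=
        ⟨hx, by
          have h' := (Q : Subgroup G).mul_mem ((Q : Subgroup G).inv_mem (hRQ hr)) hy
          rwa [inv_mul_cancel_left] at h'⟩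
      rw [Subgroup.inf_eq_bot_of_coprime hcop, Subgroup.mem_bot] at hxQ
      simpa [hxQ] using hr
    haveI := h _ ht
    intro r hr
    refine Subgroup.mem_centralizer_iff.2 fun x hx => ?_
    exact congrArg Subtype.val (mul_comm' (⟨x, Subgroup.mem_sup_left hx⟩ :
      ((P : Subgroup G) ⊔ R : Subgroup G)) ⟨r, Subgroup.mem_sup_right hr⟩)
  obtain ⟨hd, hs⟩ := S0055.result (P : Subgroup G) (Q : Subgroup G)
    Subgroup.le_normalizer_of_normal hcop
  set W := ⁅(Q : Subgroup G), (P : Subgroup G)⁆ with hW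
  have hWQ : W ≤ (Q : Subgroup G) := le_of_le_of_eq le_sup_right hs
  have hWinv : (P : Subgroup G) ≤ Subgroup.normalizer (W : Set G) :=
    Lib.Coprime.right_le_normalizer_commutator _ _
  have hWeq : W = Q := by
    by_contra hne
    have h1 := hR W hWQ hne hWinv
    have : W = ⊥ := by
      rw [← le_bot_iff, ← hd]
      exact le_inf (le_inf hWQ h1) le_rfl
    refine hPQ ?_
    rw [← Subgroup.commutator_eq_bot_iff_le_centralizer, Subgroup.commutator_comm]
    exact this
  intro a ha
  let R : Subgroup G :=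
    { carrier := {x | x ∈ (Q : Subgroup G) ∧ x ^ q = 1}
      one_mem' := ⟨one_mem _, one_pow q⟩
      mul_mem' := fun {x y} hx hy => ⟨(Q : Subgroup G).mul_mem hx.1 hy.1, by
        have hc : Commute x y := congrArg Subtype.val (mul_comm' (⟨x, hx.1⟩ : (Q : Subgroup G)) ⟨y, hy.1⟩)
        rw [hc.mul_pow, hx.2, hy.2, one_mul]⟩
      inv_mem' := fun {x} hx => ⟨(Q : Subgroup G).inv_mem hx.1, by rw [inv_pow, hx.2, inv_one]⟩ }
  have hRinv : (P : Subgroup G) ≤ Subgroup.normalizer (R : Set G) :=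
    Subgroup.le_normalizer_iff.2 fun g _ x hx =>
      ⟨hQn.conj_mem x hx.1 g, by rw [conj_pow, hx.2, mul_one, mul_inv_cancel]⟩
  have hRQ : R = Q := by
    by_contra hne
    have h1 := hR R (fun x hx => hx.1) hne hRinv
    have hb : R = ⊥ := by
      rw [← le_bot_iff, ← hd]
      exact le_inf (le_inf (fun x hx => hx.1) h1) (hWeq ▸ fun x hx => hx.1)
    obtain ⟨n, hn⟩ := IsPGroup.iff_card.1 Q.isPGroup'
    have hQne : (Q : Subgroup G) ≠ ⊥ := fun hb' => hne (le_antisymm (fun x hx => hx.1) (hb' ▸ bot_le))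
    have hdvd : q ∣ Nat.card (Q : Subgroup G) := by
      rcases Nat.eq_zero_or_pos n with h0 | h0
      · exact absurd (Subgroup.eq_bot_of_card_eq _ (by rw [hn, h0, pow_zero])) hQne
      · exact hn ▸ dvd_pow_self q h0.ne'
    obtain ⟨z, hz⟩ := exists_prime_orderOf_dvd_card' q hdvd
    rw [← Subgroup.orderOf_coe] at hz
    have : (z : G) ∈ R := ⟨z.2, orderOf_dvd_iff_pow_eq_one.1 (dvd_of_eq hz)⟩
    rw [hb, Subgroup.mem_bot] at this
    rw [this, orderOf_one] at hz
    exact hq.ne_one hz.symm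
  exact (hRQ.symm ▸ ha : a ∈ R).2

end Cfsg.Agent.S0537
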