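import Cfsg.Statements.S0539
import Cfsg.Agent.Lib.Cores.Subnormal

set_option autoImplicit false
set_option linter.style.haveILetI false
open Pointwise
open Cfsg

namespace Cfsg.Agent.S0539

open scoped Pointwise


/-- Let S be a family of subnormal subgroups of a finite group that is closed under conjugation, and S₀ a proper subfamily. Then some member of S not in S₀ normalizes the join of S₀. -/
theorem result {G : Type*} [Group G] [Finite G] (S S₀ : Set (Subgroup G)) (hS : ∀ U ∈ S, U.IsSubnormal) (hconj : ∀ U ∈ S, ∀ g : G, MulAut.conj g • U ∈ S) (h₀ : S₀ ⊂ S) : ∃ X ∈ S, X ∉ S₀ ∧ X ≤ Subgroup.normalizer ((sSup S₀ : Subgroup G) : Set G) := by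
  haveI : Finite S₀ := Subtype.finite
  set K := sSup S₀ with hK
  have hKsn : K.IsSubnormal := by
    classical
    haveI := Fintype.ofFinite S₀
    have key : ∀ s : Finset S₀, (s.sup fun U => (U : Subgroup G)).IsSubnormal := by
      intro s
      induction s using Finset.induction_on with
      | empty => simpa using Subgroup.IsSubnormal.bot
      | insert a s _ hs =>
        rw [Finset.sup_insert]
        exact Lib.Cores.Subnormal.sup (hS _ (h₀.1 a.2)) hs
    rw [hK, sSup_eq_iSup', ← Finset.sup_univ_eq_iSup]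
    exact key _
  by_cases hn : K.Normal
  · obtain ⟨X, hX, hX0⟩ := Set.exists_of_ssubset h₀
    exact ⟨X, hX, hX0, fun x _ => (Subgroup.normalizer_eq_top_iff.2 hn).symm ▸ Subgroup.mem_top x⟩
  obtain ⟨c, hc1, hc2⟩ := Lib.Cores.Subnormal.exists_conj_le_normalizer hKsn hn
  by_contra hcon
  push Not at hcon
  refine hc1 (Subgroup.eq_of_le_of_card_ge ?_
    (le_of_eq (Nat.card_congr (Subgroup.equivSMul (MulAut.conj c) K).toEquiv)))
  rw [Subgroup.pointwise_smul_subset_iff, hK]
  refine sSup_le fun U hU => ?_
  rw [← Subgroup.pointwise_smul_subset_iff]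
  by_contra hnle
  have h1 : MulAut.conj c • U ∉ S₀ := fun h => hnle (le_sSup h)
  refine hcon _ (hconj U (h₀.1 hU) c) h1 (le_trans ?_ hc2)
  exact Subgroup.pointwise_smul_le_pointwise_smul_iff.2 (le_sSup hU)

end Cfsg.Agent.S0539
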