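import Cfsg.Statements.S0540
import Cfsg.Agent.S0539
import Mathlib.Data.Fintype.Lattice
import Mathlib.Data.Set.Card

set_option autoImplicit false
open Pointwise
open Cfsg

namespace Cfsg.Agent.S0540

universe u

open scoped Pointwise

theorem key {G : Type u} [Group G] [Finite G] (A : Subgroup G) (U : Set (Subgroup G))
    (S : Subgroup G → Set (Subgroup G))
    (hS : ∀ V B : Subgroup G, B ∈ S V ↔ (∃ g : G, B = MulAut.conj g • A) ∧ B ≤ V ∧ (B.subgroupOf V).IsSubnormal)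
    (h2 : ∀ V ∈ U, ∀ W ∈ U, ∀ B ∈ S W, B ≤ V → B ∈ S V)
    (h3 : ∀ V ∈ U, ∀ W ∈ U, ∃ X ∈ U, Subgroup.normalizer ((sSup (S V ∩ S W) : Subgroup G) : Set G) ≤ X)
    (V W : Subgroup G) (hV : V ∈ U) (hW : W ∈ U) (hVmax : ∀ V' ∈ U, V ≤ V' → V' = V)
    (hbest : ∀ W' ∈ U, (∀ W'' ∈ U, W' ≤ W'' → W'' = W') → W' ≠ V →
      Nat.card (S V ∩ S W' : Set (Subgroup G)) ≤ Nat.card (S V ∩ S W : Set (Subgroup G))) :
    (S V ∩ S W = S V → V ≤ Subgroup.normalizer ((sSup (S V ∩ S W) : Subgroup G) : Set G)) ∧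
    (S V ∩ S W ≠ S V → Subgroup.normalizer ((sSup (S V ∩ S W) : Subgroup G) : Set G) ≤ V ∧
      ∃ B ∈ S V, B ∉ S W ∧ B ≤ Subgroup.normalizer ((sSup (S V ∩ S W) : Subgroup G) : Set G)) := by
  set D := S V ∩ S W with hD
  have hconjS : ∀ B ∈ S V, ∀ g ∈ V, MulAut.conj g • B ∈ S V := by
    intro B hB g hg
    obtain ⟨⟨x, hx⟩, hle, hsn⟩ := (hS V B).1 hB
    refine (hS V _).2 ⟨⟨g * x, by rw [hx, map_mul, mul_smul]⟩, ?_, ?_⟩
    · rintro _ ⟨b, hb, rfl⟩
      exact V.mul_mem (V.mul_mem hg (hle hb)) (V.inv_mem hg)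
    · have h1 := hsn.smul (MulAut.conj (⟨g, hg⟩ : V))
      refine (congrArg Subgroup.IsSubnormal ?_).mp h1
      ext y
      rw [Subgroup.mem_subgroupOf, Subgroup.mem_pointwise_smul_iff_inv_smul_mem,
        Subgroup.mem_pointwise_smul_iff_inv_smul_mem, Subgroup.mem_subgroupOf, ← map_inv, ← map_inv]
      rfl
  constructor
  · intro he g hg
    rw [Subgroup.mem_normalizer_iff_map_conj_eq]
    show MulAut.conj g • sSup D = sSup D
    refine Subgroup.eq_of_le_of_card_ge ?_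
      (le_of_eq (Nat.card_congr (Subgroup.equivSMul (MulAut.conj g) _).toEquiv))
    rw [Subgroup.pointwise_smul_subset_iff]
    refine sSup_le fun B hB => ?_
    rw [← Subgroup.pointwise_smul_subset_iff]
    exact le_sSup (he.symm ▸ hconjS B hB.1 g hg)
  · intro hne
    -- apply the normalizing lemma inside `V`
    let f : Subgroup G → Subgroup V := fun B => B.subgroupOf V
    have hinj : ∀ B ∈ S V, (f B).map V.subtype = B := fun B hB =>
      Subgroup.map_subgroupOf_eq_of_le ((hS V B).1 hB).2.1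
    obtain ⟨_, ⟨B, hB, rfl⟩, hBn, hBnorm⟩ := S0539.result (f '' S V) (f '' D)
      (by rintro _ ⟨B, hB, rfl⟩; exact ((hS V B).1 hB).2.2)
      (by
        rintro _ ⟨B, hB, rfl⟩ g
        refine ⟨MulAut.conj (g : G) • B, hconjS B hB g g.2, ?_⟩
        ext y
        simp only [f]
        rw [Subgroup.mem_subgroupOf, Subgroup.mem_pointwise_smul_iff_inv_smul_mem,
          Subgroup.mem_pointwise_smul_iff_inv_smul_mem, Subgroup.mem_subgroupOf, ← map_inv, ← map_inv]
        rfl)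
      (by
        refine Set.ssubset_iff_exists.2 ⟨Set.image_mono Set.inter_subset_left, ?_⟩
        obtain ⟨B, hB, hB'⟩ := Set.not_subset.1 (fun h => hne (Set.Subset.antisymm Set.inter_subset_left h))
        refine ⟨f B, ⟨B, hB, rfl⟩, ?_⟩
        rintro ⟨B', hB'', he⟩
        refine hB' ?_
        have := congrArg (Subgroup.map V.subtype) he
        rw [hinj B hB, hinj B' hB''.1] at this
        exact this ▸ hB'')
    have hBD : B ∉ S W := fun h => hBn ⟨B, ⟨hB, h⟩, rfl⟩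
    have hBJ : B ≤ Subgroup.normalizer ((sSup D : Subgroup G) : Set G) := by
      have h1 : (sSup (f '' D)).map V.subtype = sSup D := by
        rw [(Subgroup.gc_map_comap V.subtype).l_sSup]
        refine le_antisymm (iSup₂_le ?_) (sSup_le fun B' hB' => ?_)
        · rintro _ ⟨B', hB', rfl⟩
          rw [hinj B' hB'.1]
          exact le_sSup hB'
        · exact le_iSup₂_of_le (f B') ⟨B', hB', rfl⟩ (hinj B' hB'.1).ge
      rw [← hinj B hB, ← h1]
      exact (Subgroup.map_mono hBnorm).trans (Subgroup.le_normalizer_map _)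
    obtain ⟨X, hX, hXle⟩ := h3 V hV W hW
    obtain ⟨X', hXX', hX'max⟩ := (Set.toFinite U).exists_le_maximal hX
    have hX'U : X' ∈ U := hX'max.1
    have hle' : Subgroup.normalizer ((sSup D : Subgroup G) : Set G) ≤ X' := hXle.trans hXX'
    refine ⟨?_, B, hB, hBD, hBJ⟩
    by_contra hcon
    have hne' : X' ≠ V := fun h => hcon (h ▸ hle')
    have hcard := hbest X' hX'U (fun W'' hW'' hle => le_antisymm (hX'max.2 hW'' hle) hle) hne'
    have hsub : insert B D ⊆ S V ∩ S X' := by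
      rintro B' (rfl | hB')
      · exact ⟨hB, h2 X' hX'U V hV _ hB (hBJ.trans hle')⟩
      · exact ⟨hB'.1, h2 X' hX'U V hV _ hB'.1
          ((le_trans (le_sSup hB') Subgroup.le_normalizer).trans hle')⟩
    have h4 := Set.ncard_le_ncard hsub (Set.toFinite _)
    rw [Set.ncard_insert_of_notMem (fun h => hBD h.2) (Set.toFinite _)] at h4
    rw [Nat.card_coe_set_eq, Nat.card_coe_set_eq] at hcard
    omega


/-- A uniqueness lemma of zipper type. Let A be a subgroup of a finite group G and U a nonempty family of subgroups. For V in U write S(V) for the set of conjugates of A that lie in V and are subnormal in V. Assume: A belongs to S(V) for every V in U; a member of some S(W) that lies in V belongs to S(V); and for all V, W in U the normalizer of the join of S(V) ∩ S(W) lies in some member of U. Then U has a greatest element. -/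
theorem result {G : Type*} [Group G] [Finite G] (A : Subgroup G) (U : Set (Subgroup G)) (hU : U.Nonempty) (S : Subgroup G → Set (Subgroup G)) (hS : ∀ V B : Subgroup G, B ∈ S V ↔ (∃ g : G, B = MulAut.conj g • A) ∧ B ≤ V ∧ (B.subgroupOf V).IsSubnormal) (h1 : ∀ V ∈ U, A ∈ S V) (h2 : ∀ V ∈ U, ∀ W ∈ U, ∀ B ∈ S W, B ≤ V → B ∈ S V) (h3 : ∀ V ∈ U, ∀ W ∈ U, ∃ X ∈ U, Subgroup.normalizer ((sSup (S V ∩ S W) : Subgroup G) : Set G) ≤ X) : ∃ M ∈ U, ∀ V ∈ U, V ≤ M := by
  classical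
  by_contra hcon
  push Not at hcon
  obtain ⟨V₀, hV₀⟩ := (Set.toFinite U).exists_maximal hU
  have hmaxeq : ∀ V, Maximal (· ∈ U) V → ∀ V' ∈ U, V ≤ V' → V' = V := fun V hV V' hV' hle =>
    le_antisymm (hV.2 hV' hle) hle
  obtain ⟨W₀, hW₀U, hW₀⟩ := hcon V₀ hV₀.1
  obtain ⟨W₁, hle₁, hW₁⟩ := (Set.toFinite U).exists_le_maximal hW₀U
  haveI : Nonempty {x : Subgroup G × Subgroup G //
      Maximal (· ∈ U) x.1 ∧ Maximal (· ∈ U) x.2 ∧ x.1 ≠ x.2} :=
    ⟨⟨(V₀, W₁), hV₀, hW₁, fun (h : V₀ = W₁) => hW₀ (h ▸ hle₁)⟩⟩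
  obtain ⟨⟨⟨V, W⟩, hV, hW, hne⟩, hmax⟩ := Finite.exists_max
    (fun x : {x : Subgroup G × Subgroup G //
      Maximal (· ∈ U) x.1 ∧ Maximal (· ∈ U) x.2 ∧ x.1 ≠ x.2} =>
        Nat.card (S x.1.1 ∩ S x.1.2 : Set (Subgroup G)))
  have k1 := key A U S hS h2 h3 V W hV.1 hW.1 (hmaxeq V hV) (fun W' hW'U hW'm hne' =>
    hmax ⟨(V, W'), hV, ⟨hW'U, fun T hT hle => (hW'm T hT hle).le⟩, hne'.symm⟩)
  have k2 := key A U S hS h2 h3 W V hW.1 hV.1 (hmaxeq W hW) (fun W' hW'U hW'm hne' => by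
    rw [Set.inter_comm (S W) (S V)]
    exact hmax ⟨(W, W'), hW, ⟨hW'U, fun T hT hle => (hW'm T hT hle).le⟩, hne'.symm⟩)
  rw [Set.inter_comm (S W) (S V)] at k2
  by_cases hV' : S V ∩ S W = S V
  · by_cases hW' : S V ∩ S W = S W
    · obtain ⟨X, hX, hXle⟩ := h3 V hV.1 W hW.1
      have a1 := hmaxeq V hV X hX ((k1.1 hV').trans hXle)
      have a2 := hmaxeq W hW X hX ((k2.1 hW').trans hXle)
      exact hne (a1.symm.trans a2)
    · exact hne (hmaxeq V hV W hW.1 ((k1.1 hV').trans (k2.2 hW').1)).symm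
  · obtain ⟨hleV, B, hB, hBW, hBN⟩ := k1.2 hV'
    by_cases hW' : S V ∩ S W = S W
    · exact hne (hmaxeq W hW V hV.1 ((k2.1 hW').trans hleV))
    · exact hBW (h2 W hW.1 V hV.1 B hB (hBN.trans (k2.2 hW').1))

end Cfsg.Agent.S0540
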