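import Cfsg.Statements.S0541
import Mathlib
import Cfsg.Agent.S0539
import Cfsg.Agent.Lib.Coprime.Conjugacy
import Cfsg.Agent.Lib.Cores.Basic

set_option autoImplicit false
set_option linter.style.haveILetI false
open Pointwise
open Cfsg

namespace Cfsg.Agent.S0541

open Subgroup Pointwise in
theorem isSubnormal_of_nilpotent {P : Type*} [Group P] [Finite P] [Group.IsNilpotent P]
    (U : Subgroup P) : U.IsSubnormal := by
  suffices ∀ (m : ℕ) (U : Subgroup P), U.index = m → U.IsSubnormal from this _ U rfl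
  intro m
  induction m using Nat.strong_induction_on with
  | _ m IH =>
    intro U hm
    by_cases hU : U = ⊤
    · subst hU; exact IsSubnormal.top
    have hlt := Group.normalizerCondition_of_isNilpotent U (lt_top_iff_ne_top.2 hU)
    refine IsSubnormal.step U _ le_normalizer (IH _ ?_ _ rfl)
      ((normal_subgroupOf_iff_le_normalizer le_normalizer).2 le_rfl)
    rw [← hm]; exact index_strictAnti hlt

open Subgroup Pointwise in
/-- the subgroup generated by the conjugates of `Z` inside `W` -/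
def conjIn {G : Type*} [Group G] (Z W : Subgroup G) : Subgroup G :=
  ⨆ g ∈ {g : G | MulAut.conj g • Z ≤ W}, MulAut.conj g • Z

open Subgroup Pointwise in
theorem main {G : Type*} [Group G] [Finite G] (p : ℕ) [Fact p.Prime] (Z Y : Subgroup G)
    (h : ∀ g : G, IsPGroup p ↥(⨆ y ∈ Y, MulAut.conj (y * g) • Z)) :
    ∃ P : Sylow p G, Y ≤ normalizer ((conjIn Z (P : Subgroup G) : Subgroup G) : Set G) := by
  have hle : ∀ W : Subgroup G, conjIn Z W ≤ W := fun W => iSup₂_le fun g hg => hg
  have hmono : ∀ {W W' : Subgroup G}, W ≤ W' → conjIn Z W ≤ conjIn Z W' := fun hWW =>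
    iSup₂_le fun g hg => le_iSup₂_of_le g (hg.trans hWW) le_rfl
  obtain ⟨W, -, hW⟩ := Finite.exists_le_maximal
    (p := fun W : Subgroup G => IsPGroup p W ∧ Y ≤ normalizer (W : Set G) ∧ W ≤ conjIn Z W)
    (a := ⊥) ⟨IsPGroup.of_bot, le_normalizer_of_normal, bot_le⟩
  obtain ⟨⟨hWp, hWY, hWc⟩, hmax⟩ := hW
  obtain ⟨P, hWP⟩ := hWp.exists_le_sylow
  refine ⟨P, ?_⟩
  suffices conjIn Z (P : Subgroup G) ≤ W by
    rw [le_antisymm this (hWc.trans (hmono hWP))]; exact hWY
  by_contra hnot
  obtain ⟨g, hg, hgW⟩ : ∃ g : G, MulAut.conj g • Z ≤ (P : Subgroup G) ∧ ¬ MulAut.conj g • Z ≤ W := by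
    by_contra hall
    simp only [not_exists, not_and, not_not] at hall
    exact hnot (iSup₂_le hall)
  set P' := (P : Subgroup G) with hP'
  haveI := P.isPGroup'.isNilpotent
  let S : Set (Subgroup P') := {U | ∃ k : G, U.map P'.subtype = MulAut.conj k • Z}
  let S₀ : Set (Subgroup P') := {U | U ∈ S ∧ U.map P'.subtype ≤ W}
  have hback : ∀ k : G, MulAut.conj k • Z ≤ P' →
      ((MulAut.conj k • Z).subgroupOf P') ∈ S ∧
        ((MulAut.conj k • Z).subgroupOf P').map P'.subtype = MulAut.conj k • Z := by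
    intro k hk
    have : ((MulAut.conj k • Z).subgroupOf P').map P'.subtype = MulAut.conj k • Z := by
      rw [subgroupOf_map_subtype, inf_eq_left.2 hk]
    exact ⟨⟨k, this⟩, this⟩
  obtain ⟨X, hXS, hX0, hXN⟩ := S0539.result S S₀ (fun U _ => isSubnormal_of_nilpotent U)
    (by
      rintro U ⟨k, hk⟩ q
      exact ⟨q * k, by rw [Lib.Coprime.map_conj_smul, hk, Lib.Coprime.conj_smul_mul]; rfl⟩)
    (by
      refine ⟨fun U hU => hU.1, fun hall => hgW ?_⟩
      have h2 := hback g hg
      rw [← h2.2]; exact (hall h2.1).2)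
  obtain ⟨k, hk⟩ := hXS
  have hsup : (sSup S₀ : Subgroup P').map P'.subtype = W := by
    refine le_antisymm (map_le_iff_le_comap.2 (sSup_le fun U hU => map_le_iff_le_comap.1 hU.2)) ?_
    refine hWc.trans (iSup₂_le fun l hl => ?_)
    have h2 := hback l (le_trans hl hWP)
    rw [← h2.2]
    exact map_mono (le_sSup ⟨h2.1, by rw [h2.2]; exact hl⟩)
  have hkW : MulAut.conj k • Z ≤ normalizer (W : Set G) := by
    rw [← hk, le_normalizer_iff]
    rintro _ ⟨x, hx, rfl⟩ w hw
    rw [← hsup] at hw ⊢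
    obtain ⟨w', hw', rfl⟩ := hw
    exact ⟨x * w' * x⁻¹, (mem_normalizer_iff.1 (hXN hx) w').1 hw', rfl⟩
  have hknot : ¬ MulAut.conj k • Z ≤ W := fun hle' => hX0 ⟨⟨k, hk⟩, hk ▸ hle'⟩
  set O := ⨆ y ∈ Y, MulAut.conj (y * k) • Z with hO
  have hON : O ≤ normalizer (W : Set G) := by
    refine iSup₂_le fun y hy => ?_
    rw [le_normalizer_iff]
    intro a ha w hw
    rw [Lib.Coprime.conj_smul_mul, Lib.Coprime.mem_conj_smul] at ha
    have h1 : y⁻¹ * a * y ∈ normalizer (W : Set G) := hkW ha
    have h2 : a ∈ normalizer (W : Set G) := by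
      have := mul_mem (mul_mem (hWY hy) h1) (inv_mem (hWY hy))
      simpa [mul_assoc] using this
    exact (mem_normalizer_iff.1 h2 w).1 hw
  have hOY : Y ≤ normalizer (O : Set G) := by
    intro y hy
    have key : ∀ y ∈ Y, MulAut.conj y • O ≤ O := by
      intro y hy
      rw [hO, Lib.Coprime.conj_smul_eq_map, Subgroup.map_iSup]
      refine iSup_le fun z => ?_
      rw [Subgroup.map_iSup]
      refine iSup_le fun hz => ?_
      rw [← Lib.Coprime.conj_smul_eq_map, ← Lib.Coprime.conj_smul_mul, ← mul_assoc]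
      exact le_iSup₂_of_le (y * z) (mul_mem hy hz) le_rfl
    refine Lib.Coprime.mem_normalizer_of_conj_smul_eq (le_antisymm (key y hy) ?_)
    have h1 := pointwise_smul_le_pointwise_smul_iff (a := MulAut.conj y).2 (key _ (inv_mem hy))
    rwa [← Lib.Coprime.conj_smul_mul, mul_inv_cancel, map_one, one_smul] at h1
  have hge : W ⊔ O ≤ W := by
    refine hmax ⟨IsPGroup.to_sup_of_normal_left' hWp (h k) hON,
      Lib.Coprime.le_normalizer_sup hWY hOY, ?_⟩ le_sup_left
    refine sup_le (hWc.trans (hmono le_sup_left)) (iSup₂_le fun y hy => ?_)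
    exact le_iSup₂_of_le (y * k)
      ((le_iSup₂_of_le (f := fun z (_ : z ∈ Y) => MulAut.conj (z * k) • Z) y hy le_rfl).trans
        le_sup_right) le_rfl
  apply hknot
  refine le_trans ?_ (le_sup_right.trans hge)
  refine le_iSup₂_of_le 1 (one_mem Y) ?_
  rw [one_mul]

/-- Let Z and Y be subgroups of a finite group G and p a prime. Suppose that for every g in G the subgroup generated by the conjugates of g Z g⁻¹ under Y is a p-group. Then there is a Sylow p-subgroup P of G such that Y normalizes the subgroup generated by all conjugates of Z contained in P. -/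
theorem result {G : Type*} [Group G] [Finite G] (p : ℕ) [Fact p.Prime] (Z Y : Subgroup G) (h : ∀ g : G, IsPGroup p ↥(⨆ y ∈ Y, MulAut.conj (y * g) • Z)) : ∃ P : Sylow p G, Y ≤ Subgroup.normalizer ((⨆ g ∈ {g : G | MulAut.conj g • Z ≤ (P : Subgroup G)}, MulAut.conj g • Z : Subgroup G) : Set G) := by
  exact main p Z Y h

end Cfsg.Agent.S0541
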