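import Cfsg.Statements.S0542
import Mathlib
import Cfsg.Agent.Lib.Hall.Systems

set_option autoImplicit false
set_option linter.style.haveILetI false
open Cfsg

namespace Cfsg.Agent.S0542

open Subgroup in
theorem not_dvd_relIndex {G : Type*} [Group G] [Finite G] (p : ℕ) [Fact p.Prime] {H : Subgroup G}
    (hH : H.IsSubnormal) (S : Sylow p G) : ¬ p ∣ (S : Subgroup G).relIndex H := by
  induction hH with
  | top => rw [relIndex_top_right]; exact S.not_dvd_index
  | step H K hle hK hN ih =>
    haveI := hN
    have hp : IsPGroup p ((S : Subgroup G).subgroupOf K) :=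
      S.isPGroup'.comap_of_injective K.subtype K.subtype_injective
    obtain ⟨Q, hQ⟩ : ∃ Q : Sylow p K, (Q : Subgroup K) = (S : Subgroup G).subgroupOf K :=
      ⟨hp.toSylow ih, IsPGroup.toSylow_coe _ _⟩
    intro h
    have h1 := Lib.Hall.Systems.relIndex_dvd_index_of_normal_right (Q : Subgroup K) (H.subgroupOf K)
    rw [hQ, relIndex_subgroupOf hle] at h1
    exact ih (h.trans h1)

/-- A Sylow p-subgroup of a finite group meets every subnormal subgroup H in a Sylow p-subgroup of H. -/
theorem result {G : Type*} [Group G] [Finite G] (p : ℕ) [Fact p.Prime] (H : Subgroup G) (hH : H.IsSubnormal) (S : Sylow p G) : ∃ Q : Sylow p H, (Q : Subgroup H) = (S : Subgroup G).subgroupOf H := by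
  exact ⟨(S.isPGroup'.comap_of_injective H.subtype H.subtype_injective).toSylow
    (not_dvd_relIndex p hH S), IsPGroup.toSylow_coe _ _⟩

end Cfsg.Agent.S0542
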