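import Cfsg.Statements.S0549
import Mathlib


set_option autoImplicit false
set_option linter.style.haveILetI false
open Cfsg
open scoped Pointwise

namespace Cfsg.Agent.S0549

open Subgroup in
theorem main {G : Type*} [Group G] (U : Subgroup G) (hU : IsCoatom U) (hcore : U.normalCore = ⊥)
    (N : Subgroup G) [N.Normal] (hN : N ≠ ⊥) :
    centralizer (N : Set G) ⊓ U = ⊥ ∧ ∀ K : Subgroup G, K.Normal → K ≤ centralizer (N : Set G) →
      K = ⊥ ∨ K = centralizer (N : Set G) := by
  have htop : ∀ K : Subgroup G, K.Normal → K ≠ ⊥ → K ⊔ U = ⊤ := by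
    intro K hKn hK
    rw [sup_comm]
    refine hU.2 _ (left_lt_sup.2 fun h => hK ?_)
    haveI := hKn
    rw [← le_bot_iff, ← hcore]
    exact normal_le_normalCore.2 h
  have hbot : centralizer (N : Set G) ⊓ U = ⊥ := by
    have hn : (centralizer (N : Set G) ⊓ U).Normal := by
      rw [← normalizer_eq_top_iff, eq_top_iff, ← htop N inferInstance hN]
      refine sup_le ?_ ?_
      · refine le_trans ?_ (centralizer_le_normalizer _)
        rw [le_centralizer_iff]; exact inf_le_left
      · rw [le_normalizer_iff]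
        intro a ha b hb
        exact mem_inf.2 ⟨(inferInstance : (centralizer (N : Set G)).Normal).conj_mem b
          (mem_inf.1 hb).1 a, mul_mem (mul_mem ha (mem_inf.1 hb).2) (inv_mem ha)⟩
    by_contra hne
    haveI := hn
    apply hne
    rw [← le_bot_iff, ← hcore]
    exact normal_le_normalCore.2 inf_le_right
  refine ⟨hbot, fun K hKn hKC => or_iff_not_imp_left.2 fun hK => le_antisymm hKC ?_⟩
  intro c hc
  haveI := hKn
  obtain ⟨k, hk, u, hu, rfl⟩ : c ∈ (↑K * ↑U : Set G) := by
    rw [← normal_mul, htop K hKn hK]; trivial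
  have h1 : u ∈ centralizer (N : Set G) ⊓ U :=
    mem_inf.2 ⟨by simpa using mul_mem (inv_mem (hKC hk)) hc, hu⟩
  rw [hbot, mem_bot] at h1
  show k * u ∈ K
  rw [h1, mul_one]
  exact hk

/-- Let U be a maximal subgroup of a finite group G whose normal core is trivial, and N a nontrivial normal subgroup with centralizer C. Then C ∩ U = 1, and either C = 1 or C is a minimal normal subgroup of G. -/
theorem result {G : Type*} [Group G] [Finite G] (U : Subgroup G) (hU : IsCoatom U) (hcore : U.normalCore = ⊥) (N : Subgroup G) [N.Normal] (hN : N ≠ ⊥) : Subgroup.centralizer (N : Set G) ⊓ U = ⊥ ∧ (Subgroup.centralizer (N : Set G) = ⊥ ∨ (Subgroup.centralizer (N : Set G) ≠ ⊥ ∧ ∀ K : Subgroup G, K.Normal → K ≤ Subgroup.centralizer (N : Set G) → K = ⊥ ∨ K = Subgroup.centralizer (N : Set G))) := by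
  obtain ⟨h1, h2⟩ := main U hU hcore N hN
  refine ⟨h1, ?_⟩
  by_cases h : Subgroup.centralizer (N : Set G) = ⊥
  · exact Or.inl h
  · exact Or.inr ⟨h, h2⟩

end Cfsg.Agent.S0549
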