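import Cfsg.Statements.S0550

set_option autoImplicit false
set_option linter.style.haveILetI false
open Cfsg

namespace Cfsg.Agent.S0550

open scoped Pointwise

variable {G : Type*} [Group G]

theorem le_centralizer {A B : Subgroup G} [A.Normal] [B.Normal] (h : A ⊓ B = ⊥) :
    A ≤ Subgroup.centralizer (B : Set G) := fun a ha => by
  rw [Subgroup.mem_centralizer_iff]
  intro b hb
  exact (Subgroup.commute_of_normal_of_disjoint A B inferInstance inferInstance (disjoint_iff.2 h)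
    a b ha hb).symm.eq

theorem iso {A B U : Subgroup G} [A.Normal] [B.Normal] (hAB : A ⊓ B = ⊥) (hBU : B ⊓ U = ⊥)
    (hsup : B ⊔ U = ⊤) : Nonempty (A ≃* ↥((A ⊔ B) ⊓ U)) := by
  let f := QuotientGroup.mk' B
  have inj : ∀ X : Subgroup G, X ⊓ B = ⊥ → Function.Injective (f.comp X.subtype) := by
    intro X hX
    rw [injective_iff_map_eq_one]
    intro x hx
    have h1 : (x : G) ∈ X ⊓ B := ⟨x.2, (QuotientGroup.eq_one_iff (x : G)).1 hx⟩
    rw [hX] at h1
    exact Subtype.ext h1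
  have hmap : A.map f = ((A ⊔ B) ⊓ U).map f := by
    refine le_antisymm ?_ ?_
    · rintro _ ⟨a, ha, rfl⟩
      obtain ⟨b, hb, u, hu, rfl⟩ : a ∈ (↑B * ↑U : Set G) := by
        rw [← Subgroup.normal_mul, hsup]; trivial
      refine ⟨u, ⟨?_, hu⟩, ?_⟩
      · have h1 := mul_mem (Subgroup.mem_sup_right (S := A) (inv_mem hb))
          (Subgroup.mem_sup_left (T := B) ha)
        simpa using h1
      · simp [f, (QuotientGroup.eq_one_iff b).2 hb]
    · rintro _ ⟨u, hu, rfl⟩
      obtain ⟨a, ha, b, hb, rfl⟩ : u ∈ (↑A * ↑B : Set G) := by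
        rw [← Subgroup.normal_mul]; exact hu.1
      exact ⟨a, ha, by simp [f, (QuotientGroup.eq_one_iff b).2 hb]⟩
  have h2 : ((A ⊔ B) ⊓ U) ⊓ B = ⊥ := by
    rw [← le_bot_iff, ← hBU]
    exact le_inf inf_le_right (inf_le_left.trans inf_le_right)
  have e1 := MonoidHom.ofInjective (inj A hAB)
  have e2 := MonoidHom.ofInjective (inj _ h2)
  have r : ∀ X : Subgroup G, (f.comp X.subtype).range = X.map f := fun X => by
    rw [MonoidHom.range_comp, Subgroup.range_subtype]
  exact ⟨e1.trans ((MulEquiv.subgroupCongr (by rw [r, r, hmap])).trans e2.symm)⟩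

theorem inf_eq_bot {U X B : Subgroup G} [X.Normal] (hcore : U.normalCore = ⊥) (hsup : B ⊔ U = ⊤)
    (hXB : X ≤ Subgroup.centralizer (B : Set G)) : X ⊓ U = ⊥ := by
  have hn : (X ⊓ U).Normal := by
    rw [← Subgroup.normalizer_eq_top_iff, ← top_le_iff, ← hsup]
    refine sup_le (Subgroup.le_normalizer_iff.2 fun b hb k hk => ?_)
      (Subgroup.le_normalizer_iff.2 fun u hu k hk => ?_)
    · have h1 := Subgroup.mem_centralizer_iff.1 (hXB hk.1) b hb
      rwa [h1, mul_inv_cancel_right]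
    · exact ⟨Subgroup.Normal.conj_mem ‹_› k hk.1 u, U.mul_mem (U.mul_mem hu hk.2) (U.inv_mem hu)⟩
  haveI := hn
  rw [← le_bot_iff, ← hcore]
  exact Subgroup.normal_le_normalCore.2 inf_le_right

theorem centralizer_eq [Finite G] {U A B : Subgroup G} [A.Normal] [B.Normal]
    (hcore : U.normalCore = ⊥) (hA : A ⊔ U = ⊤) (hB : B ⊔ U = ⊤) (hAB : A ⊓ B = ⊥) :
    Subgroup.centralizer (B : Set G) = A := by
  refine le_antisymm (fun c hc => ?_) (le_centralizer hAB)
  obtain ⟨a, ha, u, hu, rfl⟩ : c ∈ (↑A * ↑U : Set G) := by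
    rw [← Subgroup.normal_mul, hA]; trivial
  have h1 : u ∈ Subgroup.centralizer (B : Set G) ⊓ U :=
    ⟨by simpa using mul_mem (inv_mem (le_centralizer hAB ha)) hc, hu⟩
  rw [inf_eq_bot hcore hB le_rfl, Subgroup.mem_bot] at h1
  subst h1
  simpa using ha


/-- Let U be a maximal subgroup with trivial normal core in a finite group G, and A ≠ B two minimal normal subgroups. Then A is the centralizer of B and B that of A, U complements each of them, A and B are non-abelian, and A, B and (A ⊔ B) ∩ U are pairwise isomorphic. -/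
theorem result {G : Type*} [Group G] [Finite G] (U : Subgroup G) (hU : IsCoatom U) (hcore : U.normalCore = ⊥) (A B : Subgroup G) [A.Normal] [B.Normal] (hA : A ≠ ⊥) (hB : B ≠ ⊥) (hAmin : ∀ K : Subgroup G, K.Normal → K ≤ A → K = ⊥ ∨ K = A) (hBmin : ∀ K : Subgroup G, K.Normal → K ≤ B → K = ⊥ ∨ K = B) (hAB : A ≠ B) : Subgroup.centralizer (B : Set G) = A ∧ Subgroup.centralizer (A : Set G) = B ∧ Subgroup.IsComplement' A U ∧ Subgroup.IsComplement' B U ∧ ¬ IsMulCommutative A ∧ Nonempty (A ≃* B) ∧ Nonempty (A ≃* ↥((A ⊔ B) ⊓ U)) := by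
  have hout : ∀ X : Subgroup G, X.Normal → X ≠ ⊥ → X ⊔ U = ⊤ := fun X hX hne => by
    haveI := hX
    rw [sup_comm]
    refine hU.2 _ (left_lt_sup.2 fun h => hne ?_)
    rw [← le_bot_iff, ← hcore]
    exact Subgroup.normal_le_normalCore.2 h
  have hsA := hout A inferInstance hA
  have hsB := hout B inferInstance hB
  have hAB' : A ⊓ B = ⊥ := (hAmin _ inferInstance inf_le_left).resolve_right fun h =>
    hAB (((hBmin A inferInstance (h ▸ inf_le_right)).resolve_left hA))
  have hBA' : B ⊓ A = ⊥ := by rw [inf_comm, hAB']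
  have hAU := inf_eq_bot hcore hsB (le_centralizer hAB')
  have hBU := inf_eq_bot hcore hsA (le_centralizer hBA')
  have hCB := centralizer_eq hcore hsA hsB hAB'
  have hCA := centralizer_eq hcore hsB hsA hBA'
  obtain ⟨e1⟩ := iso hAB' hBU hsB
  obtain ⟨e2⟩ := iso hBA' hAU hsA
  refine ⟨hCB, hCA, ?_, ?_, ?_, ⟨e1.trans ((MulEquiv.subgroupCongr (by rw [sup_comm])).trans e2.symm)⟩, ⟨e1⟩⟩
  · refine Subgroup.isComplement'_of_disjoint_and_mul_eq_univ (disjoint_iff.2 hAU) ?_
    rw [← Subgroup.normal_mul, hsA, Subgroup.coe_top]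
  · refine Subgroup.isComplement'_of_disjoint_and_mul_eq_univ (disjoint_iff.2 hBU) ?_
    rw [← Subgroup.normal_mul, hsB, Subgroup.coe_top]
  · intro hcomm
    refine hA ?_
    rw [← le_bot_iff, ← hAB']
    refine le_inf le_rfl (hCA ▸ fun a ha => ?_)
    exact Subgroup.mem_centralizer_iff.2 fun b hb =>
      congrArg Subtype.val (mul_comm' (⟨b, hb⟩ : A) ⟨a, ha⟩)

end Cfsg.Agent.S0550
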