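import Cfsg.Statements.S0551
import Cfsg.Agent.S0550
import Cfsg.Agent.Lib.Cores.MinNormal
import Cfsg.Agent.Lib.Coprime.Conjugacy

set_option autoImplicit false
set_option linter.style.haveILetI false
open Pointwise
open Cfsg

namespace Cfsg.Agent.S0551

open scoped Pointwise

variable {G : Type*} [Group G]

theorem complement [Finite G] {N U : Subgroup G} [N.Normal] [IsMulCommutative N] (hU : IsCoatom U)
    (hmin : ∀ M : Subgroup G, M.Normal → M ≤ N → M = ⊥ ∨ M = N) (hne : N ≠ ⊥)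
    (hc : U.normalCore = ⊥) :
    Subgroup.IsComplement' N U ∧ N ⊔ U = ⊤ ∧ N ⊓ U = ⊥ ∧
      Subgroup.centralizer (N : Set G) = N := by
  have hle : ¬ N ≤ U := fun h => hne (le_bot_iff.1 (hc ▸ Subgroup.normal_le_normalCore.2 h))
  have h1 := Lib.Cores.MinNormal.isComplement'_of_not_le hU hmin hle
  have h2 := h1.sup_eq_top
  refine ⟨h1, h2, disjoint_iff.1 h1.disjoint, le_antisymm (fun c hcc => ?_) ?_⟩
  · obtain ⟨a, ha, u, hu, rfl⟩ : c ∈ (↑N * ↑U : Set G) := by
      rw [← Subgroup.normal_mul, h2]; trivial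
    have haC : a ∈ Subgroup.centralizer (N : Set G) :=
      Subgroup.mem_centralizer_iff.2 fun b hb =>
        congrArg Subtype.val (mul_comm' (⟨b, hb⟩ : N) ⟨a, ha⟩)
    have h3 : u ∈ Subgroup.centralizer (N : Set G) ⊓ U :=
      ⟨by simpa using mul_mem (inv_mem haC) hcc, hu⟩
    rw [S0550.inf_eq_bot hc h2 le_rfl, Subgroup.mem_bot] at h3
    subst h3
    simpa using ha
  · exact fun a ha => Subgroup.mem_centralizer_iff.2 fun b hb =>
        congrArg Subtype.val (mul_comm' (⟨b, hb⟩ : N) ⟨a, ha⟩)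


/-- In a finite solvable group all core-free maximal subgroups are conjugate. -/
theorem result {G : Type*} [Group G] [Finite G] [Group.IsSolvable G] (U V : Subgroup G) (hU : IsCoatom U) (hV : IsCoatom V) (hUc : U.normalCore = ⊥) (hVc : V.normalCore = ⊥) : ∃ g : G, MulAut.conj g • U = V := by
  have hnt : Nontrivial G := by
    by_contra h
    rw [not_nontrivial_iff_subsingleton] at h
    exact hU.1 (Subsingleton.elim _ _)
  obtain ⟨N, hN, hne, hmin⟩ := Lib.Cores.MinNormal.exists_minimal (G := G)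
  haveI := hN
  obtain ⟨hab, p, hp, hexp⟩ := Lib.Cores.MinNormal.elementary_of_solvable hne hmin
  haveI := hab
  obtain ⟨hNU, hsU, hiU, hCN⟩ := complement hU hmin hne hUc
  obtain ⟨hNV, hsV, hiV, -⟩ := complement hV hmin hne hVc
  have hcardUV : Nat.card U = Nat.card V :=
    Nat.eq_of_mul_eq_mul_left Nat.card_pos (hNU.card_mul.trans hNV.card_mul.symm)
  by_cases hNtop : N = ⊤
  · rw [hNtop, top_inf_eq] at hiU hiV
    exact ⟨1, by rw [map_one, one_smul, hiU, hiV]⟩
  haveI : Nontrivial (G ⧸ N) := QuotientGroup.nontrivial_iff.2 hNtop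
  haveI : Group.IsSolvable (G ⧸ N) := inferInstance
  obtain ⟨Kb, hKb, hKbne, hKbmin⟩ := Lib.Cores.MinNormal.exists_minimal (G := G ⧸ N)
  haveI := hKb
  obtain ⟨-, q, hq, hqexp⟩ := Lib.Cores.MinNormal.elementary_of_solvable hKbne hKbmin
  haveI := Fact.mk hp
  haveI := Fact.mk hq
  let K : Subgroup G := Kb.comap (QuotientGroup.mk' N)
  have hKn : K.Normal := inferInstance
  have hNK : N ≤ K := fun n hn => by
    show QuotientGroup.mk' N n ∈ Kb
    rw [QuotientGroup.mk'_apply, (QuotientGroup.eq_one_iff n).2 hn]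
    exact one_mem Kb
  have hKne : ¬ K ≤ N := fun h => hKbne <| by
    rw [← Subgroup.map_comap_eq_self_of_surjective (QuotientGroup.mk'_surjective N) Kb,
      Subgroup.map_eq_bot_iff, QuotientGroup.ker_mk']
    exact h
  have hKpow : ∀ k ∈ K, k ^ q ∈ N := fun k hk => by
    rw [← QuotientGroup.eq_one_iff, QuotientGroup.mk_pow]
    exact hqexp _ hk
  have hqp : q ≠ p := by
    rintro rfl
    have hK : IsPGroup q K := fun k => ⟨2, Subtype.ext (by
      rw [pow_two, pow_mul]
      simpa using hexp _ (hKpow k k.2))⟩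
    haveI : Nontrivial K := (Subgroup.nontrivial_iff_ne_bot K).2 fun h => hKne (h ▸ bot_le)
    let Z : Subgroup G := (Subgroup.center K).map K.subtype
    have hZn : Z.Normal := ConjAct.normal_of_characteristic_of_normal
    haveI := hZn
    have hZne : Z ≠ ⊥ := fun h => by
      have h1 := IsPGroup.center_nontrivial hK
      rw [Subgroup.nontrivial_iff_ne_bot] at h1
      exact h1 ((Subgroup.map_eq_bot_iff_of_injective _ K.subtype_injective).1 h)
    rcases hmin (N ⊓ Z) inferInstance inf_le_left with h | h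
    · refine hZne (le_bot_iff.1 ?_)
      rw [← h]
      refine le_inf ((?_ : Z ≤ Subgroup.centralizer (N : Set G)).trans hCN.le) le_rfl
      exact S0550.le_centralizer (by rw [inf_comm, h])
    · refine hKne (?_ : K ≤ N)
      rw [← hCN]
      intro k hk
      rw [Subgroup.mem_centralizer_iff]
      intro n hn
      obtain ⟨z, hz, rfl⟩ : n ∈ Z := (inf_eq_left.1 h) hn
      exact congrArg Subtype.val (Subgroup.mem_center_iff.1 hz ⟨k, hk⟩).symm
  have key : ∀ W : Subgroup G, N ⊔ W = ⊤ → N ⊓ W = ⊥ →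
      (W ⊓ K) ⊔ N = K ∧ IsPGroup q (W ⊓ K : Subgroup G) ∧
        Nat.card (W ⊓ K : Subgroup G) * Nat.card N = Nat.card K := by
    intro W hs hi
    have h1 : (W ⊓ K) ⊔ N = K := by
      refine le_antisymm (sup_le inf_le_right hNK) fun k hk => ?_
      obtain ⟨n, hn, w, hw, rfl⟩ : k ∈ (↑N * ↑W : Set G) := by
        rw [← Subgroup.normal_mul, hs]; trivial
      have hwK : w ∈ K := by simpa using mul_mem (inv_mem (hNK hn)) hk
      exact mul_mem (Subgroup.mem_sup_right hn) (Subgroup.mem_sup_left ⟨hw, hwK⟩)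
    refine ⟨h1, fun x => ⟨1, Subtype.ext ?_⟩, ?_⟩
    · have h2 : (x : G) ^ q ∈ N ⊓ W := ⟨hKpow x x.2.2, pow_mem x.2.1 q⟩
      rw [hi, Subgroup.mem_bot] at h2
      simpa using h2
    · have hd : Disjoint (W ⊓ K) N := disjoint_iff.2 (le_bot_iff.1
        ((inf_le_inf_right N inf_le_left).trans (by rw [inf_comm, hi])))
      have hn : W ⊓ K ≤ Subgroup.normalizer (N : Set G) := by
        rw [Subgroup.normalizer_eq_top]; exact le_top
      rw [← Lib.Coprime.card_sup_of_disjoint hn hd, h1]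
  obtain ⟨hU1, hU2, hU3⟩ := key U hsU hiU
  obtain ⟨hV1, hV2, hV3⟩ := key V hsV hiV
  have hcop : (Nat.card (U ⊓ K : Subgroup G)).Coprime (Nat.card N) := by
    obtain ⟨a, ha⟩ := IsPGroup.iff_card.1 hU2
    obtain ⟨b, hb⟩ := IsPGroup.iff_card.1 (Lib.Cores.MinNormal.isPGroup_of_pow_eq_one hexp)
    rw [ha, hb]
    exact Nat.Coprime.pow a b ((Nat.coprime_primes hq hp).2 hqp)
  obtain ⟨k, -, hk⟩ := Lib.Coprime.exists_conj_eq_of_coprime (A := U ⊓ K) (B := V ⊓ K)
    (K := N) (by rw [Subgroup.normalizer_eq_top]; exact le_top) hcop (Or.inr inferInstance)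
    (hU1.symm ▸ inf_le_right)
    (Nat.eq_of_mul_eq_mul_right Nat.card_pos (hV3.trans hU3.symm))
  have hnle : ∀ W : Subgroup G, W ≤ Subgroup.normalizer ((W ⊓ K : Subgroup G) : Set G) :=
    fun W => Subgroup.le_normalizer_iff.2 fun w hw x hx =>
      ⟨W.mul_mem (W.mul_mem hw hx.1) (W.inv_mem hw), hKn.conj_mem x hx.2 w⟩
  have hQ : Subgroup.normalizer ((V ⊓ K : Subgroup G) : Set G) = V := by
    refine hV.le_iff.1 (hnle V) |>.resolve_left fun h => hKne ?_
    haveI : (V ⊓ K).Normal := Subgroup.normalizer_eq_top_iff.1 h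
    have h2 : V ⊓ K = ⊥ := le_bot_iff.1 (hVc ▸ Subgroup.normal_le_normalCore.2 inf_le_left)
    rw [h2, bot_sup_eq] at hV1
    exact hV1.ge
  refine ⟨k, Subgroup.eq_of_le_of_card_ge ?_
    (by rw [Lib.Coprime.card_conj_smul, hcardUV])⟩
  intro x hx
  rw [Lib.Coprime.mem_conj_smul] at hx
  rw [← hQ, ← hk]
  apply Lib.Coprime.mem_normalizer_of_conj_smul_eq
  have h5 := Lib.Coprime.conj_smul_eq_self_of_mem_normalizer (hnle U hx)
  rw [← Lib.Coprime.conj_smul_mul]
  conv_rhs => rw [← h5, ← Lib.Coprime.conj_smul_mul]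
  congr 2
  group

end Cfsg.Agent.S0551
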