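import Cfsg.Statements.S0552
import Mathlib
import Cfsg.Agent.Lib.Coprime.Action
import Cfsg.Agent.Lib.Cores.Basic

set_option autoImplicit false
set_option linter.style.haveILetI false
open Cfsg

namespace Cfsg.Agent.S0552

open Subgroup in
theorem main {G : Type*} [Group G] [Finite G] [Group.IsSolvable G] (σ : MulAut G)
    (hσ : ∀ x ∈ Cfsg.fittingSubgroup G, σ x = x) (hcop : (orderOf σ).Coprime (Nat.card G))
    (g : G) : σ g = g := by
  set F := Cfsg.fittingSubgroup G with hF
  haveI : F.Normal := Subgroup.sSup_normal _ (fun N hN => hN.1)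
  have hfix : ∀ a : zpowers σ, ∀ x ∈ F, a • x = x := by
    rintro ⟨a, ha⟩ x hx
    have : zpowers σ ≤ MulAction.stabilizer (MulAut G) x := zpowers_le.2 (hσ x hx)
    exact this ha
  refine Lib.Coprime.Action.smul_eq_of_series (A := zpowers σ) (N := F) ?_ hfix ?_
    ⟨σ, mem_zpowers σ⟩ g
  · rw [Nat.card_zpowers]; exact hcop.coprime_dvd_right (card_subgroup_dvd_card F)
  · intro a x
    refine Lib.Cores.centralizer_fittingSubgroup_le ?_
    rw [mem_centralizer_iff]
    intro y hy
    have h1 : a • (x * y * x⁻¹) = x * y * x⁻¹ :=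
      hfix a _ ((inferInstance : F.Normal).conj_mem y hy x)
    rw [smul_mul', smul_mul', smul_inv', hfix a y hy] at h1
    calc y * (x⁻¹ * a • x) = x⁻¹ * (x * y * x⁻¹) * a • x := by group
      _ = x⁻¹ * a • x * y := by rw [← h1]; group

/-- Let σ be an automorphism of a finite solvable group G fixing every element of the Fitting subgroup. If σ is not the identity then the order of σ and the order of G have a common prime factor. -/
theorem result {G : Type*} [Group G] [Finite G] [Group.IsSolvable G] (σ : G ≃* G) (hσ : ∀ x ∈ Cfsg.fittingSubgroup G, σ x = x) (hne : σ ≠ MulEquiv.refl G) : ¬ (orderOf σ).Coprime (Nat.card G) := by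
  exact fun hcop => hne (MulEquiv.ext fun g => main σ hσ hcop g)

end Cfsg.Agent.S0552
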