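import Cfsg.Statements.S0553
import Cfsg.Agent.Lib.Hall.Basic

set_option autoImplicit false
open Cfsg

namespace Cfsg.Agent.S0553

/-- Let G be a nontrivial finite solvable group in which every maximal subgroup has order coprime to its index. Then for some prime p dividing the order of G the Sylow p-subgroups of G are normal. -/
theorem result {G : Type*} [Group G] [Finite G] [Group.IsSolvable G] [Nontrivial G] (h : ∀ M : Subgroup G, IsCoatom M → (Nat.card M).Coprime M.index) : ∃ p : ℕ, p.Prime ∧ p ∣ Nat.card G ∧ ∀ P : Sylow p G, (P : Subgroup G).Normal := by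
  obtain ⟨p, N, hp, hNn, hNne, -, hNp⟩ := Cfsg.Agent.Lib.Hall.exists_normal_abelian_pgroup (G := G)
  haveI := hNn
  haveI : Fact p.Prime := ⟨hp⟩
  obtain ⟨k, hk⟩ := IsPGroup.iff_card.1 hNp
  have hpN : p ∣ Nat.card N := by
    rw [hk]
    refine dvd_pow_self p fun h0 => hNne (Subgroup.eq_bot_of_card_eq N ?_)
    rw [hk, h0, pow_zero]
  refine ⟨p, hp, hpN.trans (Subgroup.card_subgroup_dvd_card N), fun P => ?_⟩
  suffices hN : ¬ p ∣ N.index by
    have hn : ((hNp.toSylow hN : Sylow p G) : Subgroup G).Normal := by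
      rw [IsPGroup.toSylow_coe]; exact hNn
    haveI := Sylow.unique_of_normal (hNp.toSylow hN) hn
    rw [Subsingleton.elim P (hNp.toSylow hN)]
    exact hn
  obtain ⟨H, hH⟩ := Cfsg.Agent.Lib.Hall.exists_isPiHall (G := G) {q | q ≠ p}
  have hHne : H ≠ ⊤ := fun h0 => by
    subst h0
    exact hH.1 p hp (by rw [Subgroup.card_top]; exact hpN.trans (Subgroup.card_subgroup_dvd_card N)) rfl
  obtain ⟨M, hM, hHM⟩ := (eq_top_or_exists_le_coatom H).resolve_left hHne
  have hpM : p ∣ M.index := by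
    obtain ⟨q, hq, hd⟩ := Nat.exists_prime_and_dvd (fun h1 => hM.1 (Subgroup.index_eq_one.1 h1))
    have h2 := hd.trans (Subgroup.index_dvd_of_le hHM)
    by_cases hqp : q = p
    · exact hqp ▸ hd
    · exact absurd h2 (hH.2 q hq hqp)
  have hpMc : ¬ p ∣ Nat.card M := fun h1 =>
    hp.not_dvd_one ((h M hM).gcd_eq_one ▸ Nat.dvd_gcd h1 hpM)
  intro hpi
  have hNM : ¬ N ≤ M := fun hle => hpMc (hpN.trans (Subgroup.card_dvd_of_le hle))
  have htop : M ⊔ N = ⊤ := hM.2 _ (left_lt_sup.2 hNM)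
  have hc := Cfsg.Agent.Lib.Hall.card_sup_dvd M N
  rw [htop, Subgroup.card_top, ← N.index_mul_card] at hc
  exact hpMc (hpi.trans (Nat.dvd_of_mul_dvd_mul_right Nat.card_pos hc))

end Cfsg.Agent.S0553
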