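import Cfsg.Statements.S0554
import Mathlib
import Cfsg.Agent.Lib.Cores.MinNormal

set_option autoImplicit false
set_option linter.style.haveILetI false
open Cfsg

namespace Cfsg.Agent.S0554

open Subgroup in
theorem absorb {G : Type*} [Group G] (N : Subgroup G) [N.Normal] :
    ∀ (t : ℕ) (f : Fin t → Subgroup G) (i : Fin t), N ≤ f i → ∀ (s : Fin t → G),
      (∀ j, s j ∈ f j) → ∀ n ∈ N,
        ∃ s' : Fin t → G, (∀ j, s' j ∈ f j) ∧ (List.ofFn s').prod = (List.ofFn s).prod * n := by
  intro t
  induction t with
  | zero => intro f i; exact i.elim0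
  | succ t ih =>
    intro f i hi s hs n hn
    induction i using Fin.cases with
    | zero =>
      set r := (List.ofFn fun j : Fin t => s j.succ).prod with hr
      refine ⟨Fin.cons (s 0 * (r * n * r⁻¹)) (fun j => s j.succ), fun j => ?_, ?_⟩
      · induction j using Fin.cases with
        | zero =>
          rw [Fin.cons_zero]
          exact mul_mem (hs 0) (hi ((inferInstance : N.Normal).conj_mem n hn r))
        | succ j => rw [Fin.cons_succ]; exact hs _
      · rw [List.ofFn_succ, List.ofFn_succ, List.prod_cons, List.prod_cons]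
        simp only [Fin.cons_zero, Fin.cons_succ]
        rw [← hr]; group
    | succ i =>
      obtain ⟨s', h1, h2⟩ :=
        ih (fun j => f j.succ) i hi (fun j => s j.succ) (fun j => hs _) n hn
      refine ⟨Fin.cons (s 0) s', fun j => ?_, ?_⟩
      · induction j using Fin.cases with
        | zero => rw [Fin.cons_zero]; exact hs 0
        | succ j => rw [Fin.cons_succ]; exact h1 j
      · rw [List.ofFn_succ, List.ofFn_succ, List.prod_cons, List.prod_cons]
        simp only [Fin.cons_zero, Fin.cons_succ]
        rw [h2, mul_assoc]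

open Subgroup in
universe u in
theorem main {t : ℕ} {p : Fin t → ℕ} (hp : ∀ i, (p i).Prime) :
    ∀ (n : ℕ) (G : Type u) [Group G] [Finite G] [Group.IsSolvable G], Nat.card G = n →
      (∀ q : ℕ, q.Prime → q ∣ Nat.card G → ∃ i, p i = q) →
      ∀ (S : (i : Fin t) → Sylow (p i) G) (g : G),
        ∃ s : (i : Fin t) → G, (∀ i, s i ∈ (S i : Subgroup G)) ∧ g = (List.ofFn s).prod := by
  intro n
  induction n using Nat.strong_induction_on with
  | _ n IH =>
    intro G _ _ _ hn hall S g
    rcases subsingleton_or_nontrivial G with hs | hs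
    · exact ⟨fun _ => 1, fun i => one_mem _, Subsingleton.elim _ _⟩
    obtain ⟨N, hN, hNne, hmin⟩ := Lib.Cores.MinNormal.exists_minimal (G := G)
    haveI := hN
    obtain ⟨-, q, hq, hexp⟩ := Lib.Cores.MinNormal.elementary_of_solvable hNne hmin
    have hqp : IsPGroup q N := fun x => ⟨1, by rw [pow_one]; exact Subtype.ext (hexp x x.2)⟩
    obtain ⟨x, hx, hx1⟩ := N.bot_or_exists_ne_one.resolve_left hNne
    haveI := Fact.mk hq
    have hxo : orderOf x = q := orderOf_eq_prime (hexp x hx) hx1
    obtain ⟨i, rfl⟩ := hall q hq (hxo ▸ orderOf_dvd_natCard x)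
    have hNS : N ≤ (S i : Subgroup G) := hqp.le_sylow_of_normal (S i)
    have hlt : Nat.card (G ⧸ N) < n := by
      rw [← hn, card_eq_card_quotient_mul_card_subgroup N]
      exact lt_mul_of_one_lt_right Nat.card_pos ((one_lt_card_iff_ne_bot N).2 hNne)
    let f := QuotientGroup.mk' N
    haveI : ∀ j, Fact (p j).Prime := fun j => ⟨hp j⟩
    haveI : Group.IsSolvable (G ⧸ N) :=
      Group.isSolvable_of_surjective (f := f) (QuotientGroup.mk'_surjective N)
    obtain ⟨s', h1, h2⟩ := IH _ hlt (G ⧸ N) rfl
      (fun r hr hrd => hall r hr (hrd.trans (card_quotient_dvd_card N)))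
      (fun j => (S j).mapSurjective (f := f) (QuotientGroup.mk'_surjective N)) (f g)
    choose s hs hss using fun j => mem_map.1 (h1 j)
    have hn' : ((List.ofFn s).prod)⁻¹ * g ∈ N := by
      rw [← QuotientGroup.eq]
      show f (List.ofFn s).prod = f g
      rw [map_list_prod, List.map_ofFn, h2]
      congr 2
      funext j
      exact hss j
    obtain ⟨s'', h3, h4⟩ := absorb N t (fun j => (S j : Subgroup G)) i hNS s hs _ hn'
    exact ⟨s'', h3, by rw [h4]; group⟩

/-- Let G be a finite solvable group and let S assign to each of t distinct primes, including every prime divisor of the order of G, a Sylow subgroup of G. Then every element of G is a product s_0 s_1 ⋯ s_(t-1) with s_i in S i, the factors taken in the given order. -/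
theorem result {G : Type*} [Group G] [Finite G] [Group.IsSolvable G] (t : ℕ) (p : Fin t → ℕ) (hp : ∀ i, (p i).Prime) (hinj : Function.Injective p) (hall : ∀ q : ℕ, q.Prime → q ∣ Nat.card G → ∃ i, p i = q) (S : (i : Fin t) → Sylow (p i) G) : ∀ g : G, ∃ s : (i : Fin t) → G, (∀ i, s i ∈ (S i : Subgroup G)) ∧ g = (List.ofFn s).prod := by
  exact main hp _ G rfl hall S

end Cfsg.Agent.S0554
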