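import Cfsg.Statements.S0555
import Mathlib
import Cfsg.Agent.Lib.Supersolvable.Basic

set_option autoImplicit false
set_option linter.style.haveILetI false
open Cfsg
open scoped Pointwise

namespace Cfsg.Agent.S0555

open Subgroup in
theorem exists_sup {G : Type*} [Group G] {E D : Subgroup G} [(D.subgroupOf E).Normal]
    (h : IsCyclic (↥E ⧸ D.subgroupOf E)) :
    ∃ x ∈ E, E ≤ zpowers x ⊔ D := by
  obtain ⟨g, hg⟩ := h.exists_generator
  obtain ⟨⟨x, hx⟩, rfl⟩ := QuotientGroup.mk_surjective g
  refine ⟨x, hx, fun y hy => ?_⟩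
  obtain ⟨k, hk⟩ := hg (QuotientGroup.mk (⟨y, hy⟩ : E))
  simp only at hk
  rw [← QuotientGroup.mk_zpow, QuotientGroup.eq, mem_subgroupOf] at hk
  have e : y = x ^ k * ((x ^ k)⁻¹ * y) := by group
  rw [e]
  exact mul_mem (mem_sup_left (zpow_mem (mem_zpowers x) k)) (mem_sup_right (by simpa using hk))

open Subgroup in
theorem main {G : Type*} [Group G] (E D C : Subgroup G) [C.Normal] [D.Normal] (hCD : C ≤ D)
    (hDE : ⁅E, E⁆ = D) (hEG : E ≤ commutator G) (h1 : ∃ x ∈ E, E ≤ zpowers x ⊔ D)
    (h2 : ∃ y ∈ D, D ≤ zpowers y ⊔ C) : D = C := by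
  obtain ⟨x, hx, hxE⟩ := h1
  obtain ⟨y, hy, hyD⟩ := h2
  set f := QuotientGroup.mk' C with hf
  have hfs := QuotientGroup.mk'_surjective C
  haveI hDn : (D.map f).Normal := Normal.map inferInstance f hfs
  have hDz : D.map f = zpowers (f y) := by
    refine le_antisymm ?_ (zpowers_le.2 (mem_map_of_mem f hy))
    have := map_mono (f := f) hyD
    rwa [Subgroup.map_sup, MonoidHom.map_zpowers, QuotientGroup.map_mk'_self, sup_bot_eq] at this
  haveI : IsCyclic (D.map f) := hDz ▸ inferInstance
  have hED : E.map f ≤ centralizer ((D.map f : Subgroup (G ⧸ C)) : Set (G ⧸ C)) := by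
    refine le_trans ?_ (Lib.Supersolvable.commutator_le_centralizer (D.map f))
    refine le_trans (map_mono hEG) ?_
    rw [commutator_def, Subgroup.map_commutator, commutator_def]
    exact commutator_mono le_top le_top
  have hab : ⁅E.map f, E.map f⁆ = ⊥ := by
    rw [commutator_eq_bot_iff_le_centralizer]
    have h3 : E.map f ≤ zpowers (f x) ⊔ D.map f := by
      have := map_mono (f := f) hxE
      rwa [Subgroup.map_sup, MonoidHom.map_zpowers] at this
    have h4 : D.map f ≤ E.map f ⊔ D.map f := le_sup_right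
    refine h3.trans (sup_le ?_ ?_)
    · rw [zpowers_le, mem_centralizer_iff]
      intro z hz
      obtain ⟨a, ha, b, hb, rfl⟩ : z ∈ (↑(zpowers (f x)) * ↑(D.map f) : Set (G ⧸ C)) := by
        rw [← mul_normal]; exact h3 hz
      obtain ⟨k, rfl⟩ := ha
      have h5 : f x * b = b * f x :=
        (mem_centralizer_iff.1 (hED (mem_map_of_mem f hx)) b hb).symm
      show f x ^ k * b * f x = f x * (f x ^ k * b)
      rw [mul_assoc, ← h5]
      group
    · rw [le_centralizer_iff]; exact hED
  rw [← Subgroup.map_commutator, hDE, Subgroup.map_eq_bot_iff, QuotientGroup.ker_mk'] at hab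
  exact le_antisymm hab hCD

/-- Let i ≥ 1. If in the derived series of a group the quotient of the i-th term by the (i+1)-st and the quotient of the (i+1)-st by the (i+2)-nd are both cyclic, then the (i+1)-st and (i+2)-nd terms coincide. -/
theorem result {G : Type*} [Group G] (i : ℕ) (hi : 1 ≤ i) (h₁ : IsCyclic (↥(derivedSeries G i) ⧸ (derivedSeries G (i + 1)).subgroupOf (derivedSeries G i))) (h₂ : IsCyclic (↥(derivedSeries G (i + 1)) ⧸ (derivedSeries G (i + 2)).subgroupOf (derivedSeries G (i + 1)))) : derivedSeries G (i + 1) = derivedSeries G (i + 2) := by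
  haveI : ∀ n, (derivedSeries G n).Normal := fun n => derivedSeries_normal G n
  refine main (derivedSeries G i) (derivedSeries G (i + 1)) (derivedSeries G (i + 2))
    (derivedSeries_antitone G (Nat.le_succ _)) (derivedSeries_succ G i).symm ?_
    (exists_sup h₁) (exists_sup h₂)
  exact (derivedSeries_antitone G hi).trans_eq (derivedSeries_one G)

end Cfsg.Agent.S0555
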