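import Cfsg.Statements.S0557
import Mathlib

set_option autoImplicit false
open Cfsg

namespace Cfsg.Agent.S0557

theorem le_of_coprime_index {G : Type*} [Group G] [Finite G] (N X : Subgroup G) [N.Normal]
    (h : (Nat.card X).Coprime N.index) : X ≤ N :=
  Subgroup.relIndex_eq_one.mp (Nat.eq_one_of_dvd_coprimes h (Subgroup.relIndex_dvd_card N X)
    (Subgroup.relIndex_dvd_index_of_normal N X))

theorem focal_mono {G : Type*} [Group G] {X Y : Subgroup G} (h : X ≤ Y) :
    Subgroup.focalSubgroup X ≤ Subgroup.focalSubgroup Y :=
  Subgroup.closure_mono (fun _ ⟨hg, x, hx, u, hu⟩ => ⟨h hg, x, h hx, u, hu⟩)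

theorem map_focal_le {G G' : Type*} [Group G] [Group G'] (f : G →* G') (X : Subgroup G) :
    (Subgroup.focalSubgroup X).map f ≤ Subgroup.focalSubgroup (X.map f) := by
  rw [Subgroup.focalSubgroup_def, MonoidHom.map_closure]
  refine Subgroup.closure_mono ?_
  rintro _ ⟨g, ⟨hg, x, hx, u, rfl⟩, rfl⟩
  exact ⟨Subgroup.mem_map_of_mem f hg, f x, Subgroup.mem_map_of_mem f hx, f u,
    map_commutatorElement f x u⟩

theorem iterate_map_le {G G' : Type*} [Group G] [Group G'] (f : G →* G') (X : Subgroup G) (m : ℕ) :
    ((fun K : Subgroup G => Subgroup.focalSubgroup K)^[m] X).map f ≤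
      (fun K : Subgroup G' => Subgroup.focalSubgroup K)^[m] (X.map f) := by
  induction m with
  | zero => exact le_rfl
  | succ m ih =>
    rw [Function.iterate_succ_apply', Function.iterate_succ_apply']
    exact (map_focal_le f _).trans (focal_mono ih)

universe u

theorem aux (n : ℕ) : ∀ {G : Type u} [Group G] [Finite G] (H : Subgroup G),
    (Nat.card H).Coprime H.index → (fun K : Subgroup G => Subgroup.focalSubgroup K)^[n] H = ⊥ →
    ∃ N : Subgroup G, N.Normal ∧ Subgroup.IsComplement' N H := by
  induction n with
  | zero =>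
    intro G _ _ H _ h0
    simp only [Function.iterate_zero, id_eq] at h0
    subst h0
    exact ⟨⊤, inferInstance, Subgroup.isComplement'_top_bot⟩
  | succ n ih =>
    intro G _ _ H hcop hfoc
    rw [Function.iterate_succ_apply] at hfoc
    -- the transfer to `H / H*`
    set F := Subgroup.focalSubgroupOf H with hF
    have hsurj : Function.Surjective fun y : H ⧸ F => y ^ H.index := by
      exact (powCoprime (hcop.of_dvd_left (Subgroup.card_quotient_dvd_card F))).surjective
    set V := Subgroup.transferFocal H
    have hVsurj : Function.Surjective V := by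
      intro q
      obtain ⟨y, rfl⟩ := hsurj q
      obtain ⟨x, rfl⟩ := QuotientGroup.mk'_surjective _ y
      exact ⟨x, Subgroup.transferFocal_eq_pow H x⟩
    set K := V.ker with hK
    have hinf : K ⊓ H = Subgroup.focalSubgroup H := by
      ext x
      constructor
      · intro hx
        obtain ⟨hxK, hxH⟩ := Subgroup.mem_inf.mp hx
        rw [hK, MonoidHom.mem_ker] at hxK
        rw [show x = ((⟨x, hxH⟩ : H) : G) from rfl, Subgroup.transferFocal_eq_pow] at hxK
        have hinj : Function.Injective fun y : H ⧸ F => y ^ H.index :=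
          (powCoprime (hcop.of_dvd_left (Subgroup.card_quotient_dvd_card F))).injective
        have h1 : (QuotientGroup.mk ⟨x, hxH⟩ : H ⧸ F) = 1 :=
          hinj (by show _ ^ H.index = (1 : H ⧸ F) ^ H.index; rw [one_pow]; exact hxK)
        exact (QuotientGroup.eq_one_iff (N := F) _).mp h1
      · intro hx
        have hxH : x ∈ H := H.focalSubgroup_le hx
        refine Subgroup.mem_inf.mpr ⟨?_, hxH⟩
        rw [hK, MonoidHom.mem_ker, show x = ((⟨x, hxH⟩ : H) : G) from rfl,
          Subgroup.transferFocal_eq_pow]
        have h1 : (QuotientGroup.mk ⟨x, hxH⟩ : H ⧸ F) = 1 :=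
          (QuotientGroup.eq_one_iff (N := F) _).mpr hx
        rw [h1, one_pow]
    have hle : Subgroup.focalSubgroup H ≤ K := hinf ▸ inf_le_left
    have hKidx : K.index = (Subgroup.focalSubgroup H).relIndex H := by
      rw [hK, Subgroup.index_ker, MonoidHom.range_eq_top.mpr hVsurj, Subgroup.card_top]
      rfl
    -- the focal subgroup inside `K`
    set H₁ := (Subgroup.focalSubgroup H).subgroupOf K with hH₁
    have hidx1 : H₁.index = H.index := by
      have h1 := Subgroup.relIndex_mul_index hle
      have h2 := Subgroup.relIndex_mul_index (Subgroup.focalSubgroup_le H)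
      rw [← h2, hKidx, mul_comm] at h1
      exact Nat.eq_of_mul_eq_mul_left (Nat.pos_of_ne_zero (by
        rw [← hKidx]; exact Subgroup.index_ne_zero_of_finite)) h1
    have hcard1 : Nat.card H₁ = Nat.card (Subgroup.focalSubgroup H) :=
      Nat.card_congr (Subgroup.subgroupOfEquivOfLe hle).toEquiv
    have hfoc1 : (fun X : Subgroup K => Subgroup.focalSubgroup X)^[n] H₁ = ⊥ := by
      have := iterate_map_le K.subtype H₁ n
      rw [Subgroup.map_subgroupOf_eq_of_le hle, hfoc, le_bot_iff,
        Subgroup.map_eq_bot_iff_of_injective _ K.subtype_injective] at this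
      exact this
    obtain ⟨N₁, hN₁, hc₁⟩ := ih H₁ (by
      rw [hcard1, hidx1]
      exact hcop.of_dvd_left (Subgroup.card_dvd_of_le (Subgroup.focalSubgroup_le H))) hfoc1
    have hN₁card : Nat.card N₁ = H.index := by
      have h := hc₁.card_mul_card
      rw [← Subgroup.card_mul_index H₁, hidx1, mul_comm (Nat.card H₁)] at h
      exact Nat.eq_of_mul_eq_mul_right Nat.card_pos h
    have hN₁idx : N₁.index = Nat.card H₁ := by
      have h := hc₁.card_mul_card
      rw [← Subgroup.card_mul_index N₁] at h
      exact (Nat.eq_of_mul_eq_mul_left Nat.card_pos h).symm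
    set N := N₁.map K.subtype with hN
    have hNcard : Nat.card N = H.index := by
      rw [hN, Subgroup.card_map_of_injective K.subtype_injective, hN₁card]
    have hNn : N.Normal := by
      rw [← Subgroup.normalizer_eq_top_iff, Subgroup.eq_top_iff']
      intro g
      have hsub : ∀ g : G, N.map (MulAut.conj g).toMonoidHom ≤ N := by
        intro g
        have hleK : N.map (MulAut.conj g).toMonoidHom ≤ K := by
          rintro _ ⟨x, hx, rfl⟩
          exact (inferInstance : K.Normal).conj_mem x (Subgroup.map_subtype_le N₁ hx) g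
        conv_lhs => rw [← Subgroup.map_subgroupOf_eq_of_le hleK]
        refine Subgroup.map_mono (le_of_coprime_index N₁ _ ?_)
        rw [Nat.card_congr (Subgroup.subgroupOfEquivOfLe hleK).toEquiv,
          Subgroup.card_map_of_injective (MulEquiv.injective _), hNcard, hN₁idx, hcard1]
        exact hcop.symm.of_dvd_right (Subgroup.card_dvd_of_le (Subgroup.focalSubgroup_le H))
      rw [Subgroup.mem_normalizer_iff]
      intro h
      refine ⟨fun hh => hsub g ⟨h, hh, rfl⟩, fun hh => ?_⟩
      have := hsub g⁻¹ ⟨_, hh, rfl⟩
      simpa [mul_assoc] using this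
    refine ⟨N, hNn, Subgroup.isComplement'_of_coprime ?_ ?_⟩
    · rw [hNcard, mul_comm, Subgroup.card_mul_index]
    · rw [hNcard]; exact hcop.symm

/-- Let H be a subgroup of a finite group G with order coprime to its index. If iterating the focal-subgroup construction starting from H reaches the trivial subgroup after finitely many steps, then H has a normal complement in G. -/
theorem result {G : Type*} [Group G] [Finite G] (H : Subgroup G) (hHall : (Nat.card H).Coprime H.index) (n : ℕ) (hfoc : (fun K : Subgroup G => Subgroup.focalSubgroup K)^[n] H = ⊥) : ∃ N : Subgroup G, N.Normal ∧ Subgroup.IsComplement' N H := by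
  exact aux n H hHall hfoc

end Cfsg.Agent.S0557
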