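import Cfsg.Statements.S0558
import Mathlib
import Cfsg.Agent.Lib.Transfer.Frobenius


set_option autoImplicit false
set_option linter.style.haveILetI false
open Cfsg

namespace Cfsg.Agent.S0558

/-- Let H be a subgroup of a finite group G that is not a Sylow subgroup of G for any prime, and suppose that for every prime p dividing the order of H and every Sylow p-subgroup P of H the normalizer of P in G is exactly H. Then some normal subgroup of G is a complement to H. -/
theorem result {G : Type*} [Group G] [Finite G] (H : Subgroup G) (hnot : ∀ p : ℕ, p.Prime → ∀ P : Sylow p G, (P : Subgroup G) ≠ H) (hnorm : ∀ p : ℕ, p.Prime → p ∣ Nat.card H → ∀ P : Sylow p H, Subgroup.normalizer (((P : Subgroup H).map H.subtype : Subgroup G) : Set G) = H) : ∃ N : Subgroup G, N.Normal ∧ Subgroup.IsComplement' N H := by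
  open Lib.Transfer in
  have hsyl : ∀ (p : ℕ) [Fact p.Prime], p ∣ Nat.card H → ∀ P : Sylow p H,
      ∃ R : Sylow p G, (R : Subgroup G) = (P : Subgroup H).map H.subtype := by
    intro p _ hpd P
    obtain ⟨R, hR⟩ := Sylow.exists_comap_subtype_eq P
    refine ⟨R, ?_⟩
    have hinf : (R : Subgroup G) ⊓ H = (P : Subgroup H).map H.subtype := by
      rw [← hR, ← Subgroup.subgroupOf_map_subtype]; rfl
    rw [← hinf, eq_comm, inf_eq_left]
    by_contra hle
    haveI := R.isPGroup'.isNilpotent
    have hlt : ((R : Subgroup G) ⊓ H).subgroupOf R < ⊤ := by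
      rw [lt_top_iff_ne_top, Ne, Subgroup.subgroupOf_eq_top]
      exact fun h1 => hle (h1.trans inf_le_right)
    obtain ⟨t, ht, htn⟩ :=
      SetLike.exists_of_lt (normalizerCondition_of_isNilpotent _ hlt)
    have ht' : (t : G) ∈ Subgroup.normalizer
        ((((R : Subgroup G) ⊓ H).subgroupOf R).map (R : Subgroup G).subtype : Set G) :=
      Subgroup.le_normalizer_map _ ⟨t, ht, rfl⟩
    rw [Subgroup.map_subgroupOf_eq_of_le inf_le_left, hinf,
      hnorm p Fact.out hpd P] at ht'
    exact htn (Subgroup.mem_subgroupOf.mpr (Subgroup.mem_inf.mpr ⟨t.2, ht'⟩))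
  have hnormal : ∀ (p : ℕ) [Fact p.Prime] (P : Sylow p H), (P : Subgroup H).Normal := by
    intro p _ P
    by_cases hpd : p ∣ Nat.card H
    · have hle : (P : Subgroup H).map H.subtype ≤ H := Subgroup.map_subtype_le _
      have hn := (Subgroup.normal_subgroupOf_iff_le_normalizer hle).mpr (hnorm p Fact.out hpd P).ge
      rwa [Subgroup.subgroupOf, Subgroup.comap_map_eq_self_of_injective H.subtype_injective] at hn
    · have : (P : Subgroup H) = ⊥ := by
        rw [← Subgroup.card_eq_one]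
        exact P.isPGroup'.card_eq_or_dvd.resolve_right fun h1 =>
          hpd (h1.trans (Subgroup.card_subgroup_dvd_card _))
      rw [this]; infer_instance
  haveI hnil : Group.IsNilpotent H := by
    have hq := (Group.isNilpotent_of_finite_tfae (G := H)).out 0 3
    rw [hq]
    intro p hp P
    exact hnormal p P
  refine Frobenius.exists_normal_complement_of_forall H ?_ ?_
  · refine Nat.coprime_of_dvd fun p hp hpd hpi => ?_
    haveI := Fact.mk hp
    obtain ⟨P⟩ := (inferInstance : Nonempty (Sylow p H))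
    obtain ⟨R, hR⟩ := hsyl p hpd P
    refine R.not_dvd_index (hpi.trans (Subgroup.index_dvd_of_le ?_))
    rw [hR]; exact Subgroup.map_subtype_le _
  intro p hp hpd
  haveI := Fact.mk hp
  obtain ⟨P⟩ := (inferInstance : Nonempty (Sylow p H))
  haveI := hnormal p P
  obtain ⟨R, hR⟩ := hsyl p hpd P
  have hRH : (R : Subgroup G) ≤ H := hR ▸ Subgroup.map_subtype_le _
  -- another prime
  obtain ⟨q, hq, hqd, hqp⟩ : ∃ q : ℕ, q.Prime ∧ q ∣ Nat.card H ∧ q ≠ p := by
    by_contra hc
    push_neg at hc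
    have hH : IsPGroup p H := IsPGroup.of_card (n := _)
      (Nat.eq_prime_pow_of_unique_prime_dvd Nat.card_pos.ne' fun {d} hd hdd => hc d hd hdd)
    exact hnot p hp R (le_antisymm hRH (R.is_maximal' hH hRH).le)
  haveI := Fact.mk hq
  obtain ⟨Q⟩ := (inferInstance : Nonempty (Sylow q H))
  obtain ⟨T, hT⟩ := hsyl q hqd Q
  have hTH : (T : Subgroup G) ≤ H := hT ▸ Subgroup.map_subtype_le _
  have hcop : ∀ a : G, ∀ ha : a ∈ H, ∀ b : G, ∀ hb : b ∈ H, (orderOf a).Coprime (orderOf b) →
      a * b = b * a := fun a ha b hb hcop =>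
    congrArg Subtype.val (Frobenius.commute_of_coprime_of_isNilpotent (G := H)
      (a := ⟨a, ha⟩) (b := ⟨b, hb⟩) (by simpa [Subgroup.orderOf_mk] using hcop))
  refine Fusion.hasNormalPComplement_of_controls R fun x hx g hgx => ?_
  -- both centralisers contain the Sylow `q`-subgroup
  have hcent : ∀ y ∈ (R : Subgroup G), (T : Subgroup G) ≤ Subgroup.centralizer ({y} : Set G) := by
    intro y hy t ht
    rw [Subgroup.mem_centralizer_singleton_iff]
    obtain ⟨i, hi⟩ := IsPGroup.iff_orderOf.mp T.isPGroup' ⟨t, ht⟩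
    obtain ⟨j, hj⟩ := IsPGroup.iff_orderOf.mp R.isPGroup' ⟨y, hy⟩
    rw [Subgroup.orderOf_mk] at hi hj
    refine hcop t (hTH ht) y (hRH hy) ?_
    rw [hi, hj]
    exact ((Nat.coprime_primes hq hp).mpr hqp).pow _ _
  have h1 : ((g⁻¹ • T : Sylow q G) : Subgroup G) ≤ Subgroup.centralizer ({x} : Set G) := by
    intro t ht
    rw [Sylow.coe_subgroup_smul, Subgroup.mem_pointwise_smul_iff_inv_smul_mem] at ht
    simp only [← map_inv, MulAut.smul_def, MulAut.conj_apply, inv_inv] at ht
    have := Subgroup.mem_centralizer_singleton_iff.mp (hcent _ hgx ht)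
    rw [Subgroup.mem_centralizer_singleton_iff]
    calc t * x = g⁻¹ * (g * t * g⁻¹ * (g * x * g⁻¹)) * g := by group
      _ = g⁻¹ * (g * x * g⁻¹ * (g * t * g⁻¹)) * g := by rw [this]
      _ = x * t := by group
  obtain ⟨c, hc⟩ := MulAction.exists_smul_eq (Subgroup.centralizer ({x} : Set G))
    ((g⁻¹ • T).subtype h1) (T.subtype (hcent x hx))
  rw [Sylow.smul_subtype] at hc
  have hc' : (c : G) • g⁻¹ • T = T := Sylow.subtype_injective hc
  rw [smul_smul, Sylow.smul_eq_iff_mem_normalizer] at hc'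
  change _ ∈ Subgroup.normalizer ((T : Subgroup G) : Set G) at hc'
  rw [hT, hnorm q hq hqd Q] at hc'
  -- the `p`-part of `g c⁻¹` does the job
  have hh : g * (c : G)⁻¹ ∈ H := by simpa using inv_mem hc'
  obtain ⟨a, b, ha, hb, hab, -, ⟨k, hk⟩, hbp⟩ :=
    PResidual.exists_pPart_mul_pPrimePart (p := p) (⟨g * (c : G)⁻¹, hh⟩ : H) (isOfFinOrder_of_finite _)
  have haP : a ∈ (P : Subgroup H) := by
    have hz : IsPGroup p (Subgroup.zpowers a) := by
      rintro ⟨z, hz⟩
      obtain ⟨i, rfl⟩ := Subgroup.mem_zpowers_iff.mp hz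
      refine ⟨k, Subtype.ext ?_⟩
      simp only [SubmonoidClass.coe_pow, OneMemClass.coe_one]
      rw [← zpow_natCast, ← zpow_mul, mul_comm, zpow_mul, zpow_natCast, hk, one_zpow]
    obtain ⟨P', hP'⟩ := hz.exists_le_sylow
    obtain ⟨w, rfl⟩ := MulAction.exists_smul_eq H P P'
    have := hP' (Subgroup.mem_zpowers a)
    rwa [Sylow.smul_eq_of_normal] at this
  refine ⟨(a : G), by show (a : G) ∈ (R : Subgroup G); rw [hR]; exact ⟨a, haP, rfl⟩, ?_⟩
  have hbx : (b : G) * x = x * b := by
    refine hcop _ b.2 _ (hRH hx) ?_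
    obtain ⟨j, hj⟩ := IsPGroup.iff_orderOf.mp R.isPGroup' ⟨x, hx⟩
    rw [Subgroup.orderOf_mk] at hj
    rw [hj, Subgroup.orderOf_coe]
    exact hbp.pow_right j
  have hab' : (a : G) * b = g * (c : G)⁻¹ := congrArg Subtype.val hab
  have hg : g = (a : G) * b * c := by rw [hab', inv_mul_cancel_right]
  have hcx : (c : G) * x = x * c := Subgroup.mem_centralizer_singleton_iff.mp c.2
  rw [hg]
  calc (a : G) * x * (a : G)⁻¹ = a * (x * b) * (b : G)⁻¹ * (a : G)⁻¹ := by group
    _ = a * b * (x * c) * (c : G)⁻¹ * (b : G)⁻¹ * (a : G)⁻¹ := by rw [← hbx]; group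
    _ = _ := by rw [← hcx]; group

end Cfsg.Agent.S0558
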