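import Cfsg.Statements.S0563
import Mathlib
import Cfsg.Agent.Lib.KegelWielandt.Main
import Cfsg.Agent.S0561
-- import your own Cfsg.Agent.* helpers here

set_option autoImplicit false
open Pointwise
open Cfsg

namespace Cfsg.Agent.S0563

/-- The components of the factors are Hall subgroups of the product. -/
theorem coprime_comp {G : Type*} [Group G] [Finite G] {A B : Subgroup G}
    (hA : Group.IsNilpotent A) (hcop : (Nat.card A).Coprime (Nat.card B))
    (hAB : ∀ g : G, ∃ a ∈ A, ∃ b ∈ B, g = a * b) (p : ℕ) [Fact p.Prime] :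
    (Nat.card (Lib.KegelWielandt.comp p A)).Coprime (Lib.KegelWielandt.comp p A).index := by
  by_cases hp : p ∣ Nat.card A
  · have h : Nat.card G = Nat.card A * Nat.card B := by
      rw [Lib.Products.card_mul_card hAB, Lib.Hall.inf_eq_bot_of_coprime hcop, Subgroup.card_bot,
        mul_one]
    exact Sylow.card_coprime_index (Sylow.ofCard (Lib.KegelWielandt.comp p A) (by
      rw [Lib.KegelWielandt.card_comp hA, h, Nat.factorization_mul Nat.card_pos.ne'
        Nat.card_pos.ne', Finsupp.add_apply, Nat.factorization_eq_zero_of_not_dvd (n := Nat.card B)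
        (fun hd => (Fact.out : p.Prime).one_lt.ne' (Nat.eq_one_of_dvd_coprimes hcop hp hd)),
        add_zero]))
  · rw [Lib.KegelWielandt.card_comp hA, Nat.factorization_eq_zero_of_not_dvd hp, pow_zero]
    exact Nat.coprime_one_left _


/-- If a finite group G is the product AB of two nilpotent subgroups of coprime orders, then G is solvable, and for every Sylow p-subgroup P of A and Sylow q-subgroup Q of B the product set PQ is a subgroup. -/
theorem result {G : Type*} [Group G] [Finite G] (A B : Subgroup G) (hA : Group.IsNilpotent A) (hB : Group.IsNilpotent B) (hcop : (Nat.card A).Coprime (Nat.card B)) (hAB : ∀ g : G, ∃ a ∈ A, ∃ b ∈ B, g = a * b) : Group.IsSolvable G ∧ ∀ (p q : ℕ) [Fact p.Prime] [Fact q.Prime] (P : Sylow p A) (Q : Sylow q B), ∃ S : Subgroup G, (S : Set G) = (((P : Subgroup A).map A.subtype : Subgroup G) : Set G) * (((Q : Subgroup B).map B.subtype : Subgroup G) : Set G) := by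
  haveI := Lib.KegelWielandt.isSolvable hA hB hAB
  refine ⟨inferInstance, fun p q _ _ P Q => ?_⟩
  obtain ⟨S, hS⟩ := Cfsg.Agent.S0561.result A B (Lib.KegelWielandt.comp p A)
    (Lib.KegelWielandt.comp q B) hAB Lib.KegelWielandt.comp_le
    (Subgroup.normal_subgroupOf_of_le_normalizer Lib.KegelWielandt.le_normalizer_comp)
    Lib.KegelWielandt.comp_le
    (Subgroup.normal_subgroupOf_of_le_normalizer Lib.KegelWielandt.le_normalizer_comp)
    (coprime_comp hA hcop hAB p) (coprime_comp hB hcop.symm (Lib.Products.swap hAB) q) 1 1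
  refine ⟨S, ?_⟩
  rw [hS, map_one, one_smul, one_smul, ← Lib.KegelWielandt.pCore_eq_sylow hA P,
    ← Lib.KegelWielandt.pCore_eq_sylow hB Q]
  rfl

end Cfsg.Agent.S0563
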