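import Cfsg.Statements.S0567
import Mathlib


set_option autoImplicit false
open scoped commutatorElement
open Cfsg

namespace Cfsg.Agent.S0567

theorem forward {G : Type*} [Group G] (H : Subgroup G) (hH : H.IsSubnormal) :
    ∃ m : ℕ, (fun K : Subgroup G => ⁅K, H⁆)^[m] ⊤ ≤ H := by
  suffices ∀ K : Subgroup G, K.IsSubnormal → H ≤ K →
      ∃ m : ℕ, (fun K : Subgroup G => ⁅K, H⁆)^[m] ⊤ ≤ K from this H hH le_rfl
  intro K hK
  induction hK with
  | top => exact fun _ => ⟨0, le_rfl⟩
  | step L K hle _ hN ih =>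
    intro hHL
    obtain ⟨m, hm⟩ := ih (hHL.trans hle)
    refine ⟨m + 1, ?_⟩
    rw [Function.iterate_succ_apply']
    refine (Subgroup.commutator_mono hm hHL).trans ?_
    rw [Subgroup.commutator_le]
    intro a ha b hb
    rw [commutatorElement_def]
    exact mul_mem ((Subgroup.normal_subgroupOf_iff hle).mp hN b a hb ha) (inv_mem hb)

theorem backward {G : Type*} [Group G] (H : Subgroup G)
    (h : ∃ m : ℕ, (fun K : Subgroup G => ⁅K, H⁆)^[m] ⊤ ≤ H) : H.IsSubnormal := by
  obtain ⟨m, hm⟩ := h
  have key : ∀ n, ((fun K : Subgroup G => ⁅K, H⁆)^[n] ⊤ ⊔ H).IsSubnormal ∧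
      ((fun K : Subgroup G => ⁅K, H⁆)^[n + 1] ⊤ ≤ (fun K : Subgroup G => ⁅K, H⁆)^[n] ⊤ ⊔ H) := by
    intro n
    induction n with
    | zero => simp [Subgroup.IsSubnormal.top]
    | succ n ih =>
      obtain ⟨ih1, ih2⟩ := ih
      set K := (fun K : Subgroup G => ⁅K, H⁆)^[n] ⊤
      rw [Function.iterate_succ_apply' _ n] at ih2
      have hKH : (fun K : Subgroup G => ⁅K, H⁆)^[n + 1] ⊤ = ⁅K, H⁆ :=
        Function.iterate_succ_apply' _ n ⊤
      have hnorm : K ⊔ H ≤ Subgroup.normalizer ((⁅K, H⁆ ⊔ H : Subgroup G) : Set G) := by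
        refine sup_le (fun x hx => ?_) (le_sup_right.trans Subgroup.le_normalizer)
        have hsub : ∀ y ∈ K, (⁅K, H⁆ ⊔ H).map (MulAut.conj y).toMonoidHom ≤ ⁅K, H⁆ ⊔ H := by
          intro y hy
          rw [Subgroup.map_sup, sup_le_iff]
          constructor
          · rintro _ ⟨c, hc, rfl⟩
            exact Subgroup.mem_sup_left
              ((Subgroup.mem_normalizer_iff.mp (Subgroup.normalizer_commutator_ge_left K H hy)
                c).mp hc)
          · rintro _ ⟨z, hz, rfl⟩
            show y * z * y⁻¹ ∈ _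
            rw [show y * z * y⁻¹ = ⁅y, z⁆ * z by rw [commutatorElement_def]; group]
            exact mul_mem (Subgroup.mem_sup_left (Subgroup.commutator_mem_commutator hy hz))
              (Subgroup.mem_sup_right hz)
        rw [Subgroup.mem_normalizer_iff]
        intro z
        refine ⟨fun hz => hsub x hx ⟨z, hz, rfl⟩, fun hz => ?_⟩
        have := hsub x⁻¹ (inv_mem hx) ⟨_, hz, rfl⟩
        simpa [mul_assoc] using this
      rw [hKH]
      refine ⟨?_, ?_⟩
      · have hle : ⁅K, H⁆ ⊔ H ≤ K ⊔ H := sup_le ih2 le_sup_right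
        exact Subgroup.IsSubnormal.step _ _ hle ih1
          ((Subgroup.normal_subgroupOf_iff_le_normalizer hle).mpr hnorm)
      · rw [Function.iterate_succ_apply', hKH]
        exact (Subgroup.commutator_mono le_sup_left le_rfl).trans
          ((Subgroup.commutator_le.mpr fun a ha b hb => by
            rw [commutatorElement_def]
            exact mul_mem ((Subgroup.mem_normalizer_iff.mp (hnorm (sup_le ih2 le_sup_right ha))
              b).mp (Subgroup.mem_sup_right hb)) (inv_mem (Subgroup.mem_sup_right hb))))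
  have := (key m).1
  rwa [sup_eq_right.mpr hm] at this


/-- A subgroup H of a group G is subnormal exactly when, for some m, the subgroup obtained from G by taking the commutator with H m times in succession is contained in H. -/
theorem result {G : Type*} [Group G] (H : Subgroup G) : H.IsSubnormal ↔ ∃ m : ℕ, (fun K : Subgroup G => ⁅K, H⁆)^[m] ⊤ ≤ H := by
  exact ⟨forward H, backward H⟩

end Cfsg.Agent.S0567
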