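import Cfsg.Statements.S0569
import Mathlib
import Cfsg.Agent.Lib.CarterSystem.Basic
-- import your own Cfsg.Agent.* helpers here

set_option autoImplicit false
open Pointwise
open Cfsg

namespace Cfsg.Agent.S0569

/-- In a finite solvable group: each nilpotent self-normalizing subgroup contains the system normalizer of some Hall complement system, and the system normalizer of any Hall complement system lies in some nilpotent self-normalizing subgroup. -/
theorem result {G : Type*} [Group G] [Finite G] [Group.IsSolvable G] : (∀ C : Subgroup G, Cfsg.IsCarterSubgroup C → ∃ K : Nat.Primes → Subgroup G, Cfsg.IsComplementSystem K ∧ Cfsg.systemNormalizer K ≤ C) ∧ ∀ K : Nat.Primes → Subgroup G, Cfsg.IsComplementSystem K → ∃ C : Subgroup G, Cfsg.IsCarterSubgroup C ∧ Cfsg.systemNormalizer K ≤ C := by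
  refine ⟨fun C hC => ?_, fun K hK => ?_⟩
  · obtain ⟨K, hK, hR⟩ := Lib.CarterSystem.exists_reduces hC.1
    exact ⟨K, hK, Lib.CarterSystem.systemNormalizer_le hC hK hR⟩
  · obtain ⟨C, hC⟩ := Lib.Cores.Carter.exists_carter G
    obtain ⟨L, hL, hR⟩ := Lib.CarterSystem.exists_reduces hC.1
    obtain ⟨g, hg⟩ := Lib.Hall.SystemNormalizer.exists_conj_system hL hK
    refine ⟨_, Lib.Cores.Carter.conj_carter hC g, fun x hx => ?_⟩
    exact Lib.KegelWielandt.mem_conj.mpr (Lib.CarterSystem.systemNormalizer_le hC hL hR
      (Lib.CarterSystem.mem_systemNormalizer_conj hg hx))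

end Cfsg.Agent.S0569
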