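import Cfsg.Statements.S0570
import Mathlib
import Cfsg.Agent.Lib.CarterSystem.Basic
-- import your own Cfsg.Agent.* helpers here

set_option autoImplicit false
open Pointwise
open Cfsg

namespace Cfsg.Agent.S0570

/-- Let G be a finite group with a nilpotent normal subgroup F such that G modulo F is nilpotent (nilpotent length at most two). Then a subgroup of G is a Carter subgroup if and only if it is the system normalizer of some Hall complement system. -/
theorem result {G : Type*} [Group G] [Finite G] (F : Subgroup G) [F.Normal] (hF : Group.IsNilpotent F) (hGF : Group.IsNilpotent (G ⧸ F)) (C : Subgroup G) : Cfsg.IsCarterSubgroup C ↔ ∃ K : Nat.Primes → Subgroup G, Cfsg.IsComplementSystem K ∧ C = Cfsg.systemNormalizer K := by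
  haveI := hF
  haveI := hGF
  haveI : Group.IsSolvable G :=
    (Group.isSolvable_iff_subgroup_quotient F).mpr ⟨inferInstance, inferInstance⟩
  have key : ∀ (C : Subgroup G) (K : Nat.Primes → Subgroup G), Cfsg.IsCarterSubgroup C →
      Cfsg.IsComplementSystem K → Lib.CarterSystem.Reduces K C → C = Cfsg.systemNormalizer K :=
    fun C K hC hK hR => le_antisymm (Lib.CarterSystem.le_systemNormalizer hF hGF hC hK hR)
      (Lib.CarterSystem.systemNormalizer_le hC hK hR)
  constructor
  · intro hC
    obtain ⟨K, hK, hR⟩ := Lib.CarterSystem.exists_reduces hC.1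
    exact ⟨K, hK, key C K hC hK hR⟩
  · rintro ⟨K, hK, rfl⟩
    obtain ⟨C, hC⟩ := Lib.Cores.Carter.exists_carter G
    obtain ⟨L, hL, hR⟩ := Lib.CarterSystem.exists_reduces hC.1
    obtain ⟨g, hg⟩ := Lib.Hall.SystemNormalizer.exists_conj_system hL hK
    have h1 : Cfsg.systemNormalizer K = MulAut.conj g • Cfsg.systemNormalizer L := by
      ext x
      rw [Lib.KegelWielandt.mem_conj]
      refine ⟨Lib.CarterSystem.mem_systemNormalizer_conj hg, fun hx => ?_⟩
      have h2 := Lib.CarterSystem.mem_systemNormalizer_conj (K := K) (L := L) (g := g⁻¹)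
        (fun p => by rw [← hg p, map_inv, inv_smul_smul]) hx
      simpa [mul_assoc] using h2
    rw [h1, ← key C L hC hL hR]
    exact Lib.Cores.Carter.conj_carter hC g

end Cfsg.Agent.S0570
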