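import Cfsg.Statements.S0572
import Mathlib


set_option autoImplicit false
open scoped commutatorElement
open Cfsg

namespace Cfsg.Agent.S0572

/-- Itô's Theorem: if a group G is the product AB of two abelian subgroups, then the commutator subgroup of G is abelian, i.e. the second term of the derived series is trivial. -/
theorem result {G : Type*} [Group G] (A B : Subgroup G) [IsMulCommutative A] [IsMulCommutative B] (hAB : ∀ g : G, ∃ a ∈ A, ∃ b ∈ B, g = a * b) : derivedSeries G 2 = ⊥ := by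
  have cA : ∀ x ∈ A, ∀ y ∈ A, x * y = y * x := fun x hx y hy =>
    A.mul_comm_of_mem_isMulCommutative hx hy
  have cB : ∀ x ∈ B, ∀ y ∈ B, x * y = y * x := fun x hx y hy =>
    B.mul_comm_of_mem_isMulCommutative hx hy
  have hBA : ∀ g : G, ∃ b ∈ B, ∃ a ∈ A, g = b * a := fun g => by
    obtain ⟨a, ha, b, hb, hg⟩ := hAB g⁻¹
    exact ⟨b⁻¹, inv_mem hb, a⁻¹, inv_mem ha, by rw [← mul_inv_rev, ← hg, inv_inv]⟩
  have hc : ∀ g x y : G, g * ⁅x, y⁆ * g⁻¹ = ⁅g * x * g⁻¹, g * y * g⁻¹⁆ := fun g x y =>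
    map_commutatorElement (MulAut.conj g).toMonoidHom x y
  -- conjugation by an element of `A`, resp. of `B`
  have stA : ∀ a ∈ A, ∀ a' ∈ A, ∀ b b2 a2 : G, a2 ∈ A → a' * b * a'⁻¹ = b2 * a2 →
      a' * ⁅a, b⁆ * a'⁻¹ = ⁅a, b2⁆ := by
    intro a ha a' ha' b b2 a2 ha2 he
    rw [hc, he, cA a' ha' a ha, mul_inv_cancel_right, commutatorElement_def, commutatorElement_def]
    calc a * (b2 * a2) * a⁻¹ * (b2 * a2)⁻¹ = a * b2 * (a2 * a⁻¹) * a2⁻¹ * b2⁻¹ := by group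
      _ = a * b2 * (a⁻¹ * a2) * a2⁻¹ * b2⁻¹ := by rw [cA a2 ha2 a⁻¹ (inv_mem ha)]
      _ = _ := by group
  have stB : ∀ b ∈ B, ∀ b' ∈ B, ∀ a a3 b3 : G, b3 ∈ B → b' * a * b'⁻¹ = a3 * b3 →
      b' * ⁅a, b⁆ * b'⁻¹ = ⁅a3, b⁆ := by
    intro b hb b' hb' a a3 b3 hb3 he
    rw [hc, he, cB b' hb' b hb, mul_inv_cancel_right, commutatorElement_def, commutatorElement_def]
    calc a3 * b3 * b * (a3 * b3)⁻¹ * b⁻¹ = a3 * (b3 * b) * b3⁻¹ * a3⁻¹ * b⁻¹ := by group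
      _ = a3 * (b * b3) * b3⁻¹ * a3⁻¹ * b⁻¹ := by rw [cB b3 hb3 b hb]
      _ = _ := by group
  have hcomm : ∀ a ∈ A, ∀ b ∈ B, ∀ a' ∈ A, ∀ b' ∈ B, Commute ⁅a, b⁆ ⁅a', b'⁆ := by
    intro a ha b hb a' ha' b' hb'
    obtain ⟨b2, hb2, a2, ha2, e1⟩ := hBA (a'⁻¹ * b * a'⁻¹⁻¹)
    obtain ⟨a3, ha3, b3, hb3, e2⟩ := hAB (b'⁻¹ * a * b'⁻¹⁻¹)
    have hL : b'⁻¹ * (a'⁻¹ * ⁅a, b⁆ * a'⁻¹⁻¹) * b'⁻¹⁻¹ = ⁅a3, b2⁆ := by
      rw [stA a ha _ (inv_mem ha') b b2 a2 ha2 e1, stB b2 hb2 _ (inv_mem hb') a a3 b3 hb3 e2]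
    have hR : a'⁻¹ * (b'⁻¹ * ⁅a, b⁆ * b'⁻¹⁻¹) * a'⁻¹⁻¹ = ⁅a3, b2⁆ := by
      rw [stB b hb _ (inv_mem hb') a a3 b3 hb3 e2, stA a3 ha3 _ (inv_mem ha') b b2 a2 ha2 e1]
    have := hR.trans hL.symm
    simp only [inv_inv] at this
    show ⁅a, b⁆ * ⁅a', b'⁆ = ⁅a', b'⁆ * ⁅a, b⁆
    rw [commutatorElement_def a' b']
    calc ⁅a, b⁆ * (a' * b' * a'⁻¹ * b'⁻¹)
        = a' * b' * (b'⁻¹ * (a'⁻¹ * ⁅a, b⁆ * a') * b') * (a'⁻¹ * b'⁻¹) := by group
      _ = a' * b' * (a'⁻¹ * (b'⁻¹ * ⁅a, b⁆ * b') * a') * (a'⁻¹ * b'⁻¹) := by rw [this]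
      _ = a' * b' * a'⁻¹ * b'⁻¹ * ⁅a, b⁆ := by group
  set S : Set G := {c | ∃ a ∈ A, ∃ b ∈ B, c = ⁅a, b⁆} with hS
  set C := Subgroup.closure S with hC
  have hCn : C.Normal := by
    have key : ∀ g : G, ∀ c ∈ S, g * c * g⁻¹ ∈ S := by
      intro g
      obtain ⟨a', ha', b', hb', rfl⟩ := hAB g
      rintro _ ⟨a, ha, b, hb, rfl⟩
      obtain ⟨a3, ha3, b3, hb3, e2⟩ := hAB (b' * a * b'⁻¹)
      obtain ⟨b2, hb2, a2, ha2, e1⟩ := hBA (a' * b * a'⁻¹)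
      refine ⟨a3, ha3, b2, hb2, ?_⟩
      rw [show a' * b' * ⁅a, b⁆ * (a' * b')⁻¹ = a' * (b' * ⁅a, b⁆ * b'⁻¹) * a'⁻¹ by group,
        stB b hb b' hb' a a3 b3 hb3 e2, stA a3 ha3 a' ha' b b2 a2 ha2 e1]
    refine ⟨fun x hx g => ?_⟩
    induction hx using Subgroup.closure_induction with
    | mem y hy => exact Subgroup.subset_closure (key g y hy)
    | one => simp
    | mul y z _ _ ihy ihz =>
      have := mul_mem ihy ihz
      rwa [show g * y * g⁻¹ * (g * z * g⁻¹) = g * (y * z) * g⁻¹ by group] at this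
    | inv y _ ihy =>
      have := inv_mem ihy
      rwa [show (g * y * g⁻¹)⁻¹ = g * y⁻¹ * g⁻¹ by group] at this
  have hle : commutator G ≤ C := by
    rw [commutator_def, Subgroup.commutator_le]
    intro g _ h _
    rw [← QuotientGroup.eq_one_iff (N := C), ← QuotientGroup.mk'_apply, map_commutatorElement,
      commutatorElement_eq_one_iff_commute]
    set π := QuotientGroup.mk' C
    obtain ⟨a, ha, b, hb, rfl⟩ := hAB g
    obtain ⟨a', ha', b', hb', rfl⟩ := hAB h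
    have hab : ∀ x ∈ A, ∀ y ∈ B, Commute (π x) (π y) := fun x hx y hy => by
      rw [← commutatorElement_eq_one_iff_commute, ← map_commutatorElement]
      exact (QuotientGroup.eq_one_iff _).mpr (Subgroup.subset_closure ⟨x, hx, y, hy, rfl⟩)
    have haa : Commute (π a) (π a') := (show Commute a a' from cA a ha a' ha').map π
    have hbb : Commute (π b) (π b') := (show Commute b b' from cB b hb b' hb').map π
    rw [map_mul, map_mul]
    exact ((haa.mul_right (hab a ha b' hb')).mul_left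
      ((hab a' ha' b hb).symm.mul_right hbb))
  rw [show (2 : ℕ) = 1 + 1 from rfl, derivedSeries_succ, derivedSeries_one,
    Subgroup.commutator_eq_bot_iff_le_centralizer]
  refine hle.trans ?_
  refine le_trans ?_ (Subgroup.centralizer_le hle)
  rw [hC, Subgroup.centralizer_closure, Subgroup.closure_le]
  rintro _ ⟨a, ha, b, hb, rfl⟩ _ ⟨a', ha', b', hb', rfl⟩
  exact hcomm a' ha' b' hb' a ha b hb

end Cfsg.Agent.S0572
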