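import Cfsg.Statements.S0573
import Mathlib
import Cfsg.Agent.S0572


set_option autoImplicit false
set_option linter.style.haveILetI false
open scoped commutatorElement
open Cfsg

namespace Cfsg.Agent.S0573

theorem dec {G : Type*} [Group G] {A B : Subgroup G} (h : A ⊓ B = ⊥) {a a' b b' : G}
    (ha : a ∈ A) (ha' : a' ∈ A) (hb : b ∈ B) (hb' : b' ∈ B) (e : a * b = a' * b') : a = a' := by
  have h1 : a'⁻¹ * a ∈ A ⊓ B := by
    refine Subgroup.mem_inf.mpr ⟨mul_mem (inv_mem ha') ha, ?_⟩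
    rw [show a'⁻¹ * a = b' * b⁻¹ by rw [inv_mul_eq_iff_eq_mul, ← mul_assoc, ← e, mul_inv_cancel_right]]
    exact mul_mem hb' (inv_mem hb)
  rw [h, Subgroup.mem_bot, inv_mul_eq_one] at h1
  exact h1.symm

theorem aux {G : Type*} [Group G] [Finite G] [Nontrivial G] (A B : Subgroup G)
    [IsMulCommutative A] [IsMulCommutative B]
    (hAB : ∀ g : G, ∃ a ∈ A, ∃ b ∈ B, g = a * b) :
    ∃ N : Subgroup G, N.Normal ∧ N ≠ ⊥ ∧ (N ≤ A ∨ N ≤ B) := by
  by_contra hno
  have cA : ∀ x ∈ A, ∀ y ∈ A, x * y = y * x := fun x hx y hy =>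
    A.mul_comm_of_mem_isMulCommutative hx hy
  have cB : ∀ x ∈ B, ∀ y ∈ B, x * y = y * x := fun x hx y hy =>
    B.mul_comm_of_mem_isMulCommutative hx hy
  have hsub : ∀ X : Subgroup G, (∀ g : G, ∀ x ∈ X, g * x * g⁻¹ ∈ X) → (X ≤ A ∨ X ≤ B) → X = ⊥ :=
    fun X hX hor => by
      by_contra hne
      exact hno ⟨X, ⟨fun x hx g => hX g x hx⟩, hne, hor⟩
  have hcen : ∀ x : G, (∀ g, g * x = x * g) → x ∈ A ∨ x ∈ B → x = 1 := fun x hx hor => by
    have := hsub (Subgroup.zpowers x) (fun g y hy => by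
      obtain ⟨i, rfl⟩ := Subgroup.mem_zpowers_iff.mp hy
      rw [(show Commute g x from hx g).zpow_right i, mul_inv_cancel_right]
      exact zpow_mem (Subgroup.mem_zpowers x) i)
      (hor.imp Subgroup.zpowers_le.mpr Subgroup.zpowers_le.mpr)
    rwa [Subgroup.zpowers_eq_bot] at this
  have hinf : A ⊓ B = ⊥ := by
    rw [eq_bot_iff]
    intro x hx
    obtain ⟨hxA, hxB⟩ := Subgroup.mem_inf.mp hx
    refine Subgroup.mem_bot.mpr (hcen x (fun g => ?_) (Or.inl hxA))
    obtain ⟨a, ha, b, hb, rfl⟩ := hAB g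
    calc a * b * x = a * (b * x) := mul_assoc _ _ _
      _ = a * x * b := by rw [cB b hb x hxB, mul_assoc]
      _ = x * (a * b) := by rw [cA a ha x hxA, mul_assoc]
  -- the centralisers of the factors
  have hCA : ∀ g : G, (∀ a ∈ A, a * g = g * a) → g ∈ A := by
    intro g hg
    obtain ⟨a, ha, b, hb, rfl⟩ := hAB g
    have hb1 : b = 1 := by
      refine hcen b (fun x => ?_) (Or.inr hb)
      obtain ⟨a', ha', b', hb', rfl⟩ := hAB x
      have h1 : a' * b = b * a' := by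
        have := hg a' ha'
        rw [← mul_assoc, cA a' ha' a ha, mul_assoc, mul_assoc] at this
        exact mul_left_cancel this
      calc a' * b' * b = a' * (b * b') := by rw [mul_assoc, cB b' hb' b hb]
        _ = b * (a' * b') := by rw [← mul_assoc, h1, mul_assoc]
    rw [hb1, mul_one]; exact ha
  have hCB : ∀ g : G, (∀ b ∈ B, b * g = g * b) → g ∈ B := by
    intro g hg
    obtain ⟨a, ha, b, hb, rfl⟩ := hAB g
    have ha1 : a = 1 := by
      refine hcen a (fun x => ?_) (Or.inl ha)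
      obtain ⟨a', ha', b', hb', rfl⟩ := hAB x
      have h1 : b' * a = a * b' := by
        have := hg b' hb'
        rw [mul_assoc a b b', cB b hb b' hb', ← mul_assoc a b' b, ← mul_assoc b' a b] at this
        exact mul_right_cancel this
      calc a' * b' * a = a' * a * b' := by rw [mul_assoc, h1, ← mul_assoc]
        _ = a * (a' * b') := by rw [cA a' ha' a ha, mul_assoc]
    rw [ha1, one_mul]; exact hb
  set T := commutator G with hT
  haveI : T.Normal := inferInstance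
  have cT : ∀ x ∈ T, ∀ y ∈ T, x * y = y * x := by
    have h2 := S0572.result A B hAB
    rw [show (2 : ℕ) = 1 + 1 from rfl, derivedSeries_succ, derivedSeries_one,
      Subgroup.commutator_eq_bot_iff_le_centralizer] at h2
    exact fun x hx y hy => (Subgroup.mem_centralizer_iff.mp (h2 hx) y hy).symm
  have hcomT : ∀ x y : G, ⁅x, y⁆ ∈ T := fun x y =>
    Subgroup.commutator_mem_commutator (Subgroup.mem_top x) (Subgroup.mem_top y)
  -- nothing in `T` is centralised by a whole factor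
  have hTA : ∀ x ∈ T, (∀ a ∈ A, a * x = x * a) → x = 1 := by
    suffices hbot : T ⊓ A = ⊥ by
      intro x hx hc
      exact Subgroup.mem_bot.mp (hbot ▸ Subgroup.mem_inf.mpr ⟨hx, hCA x hc⟩)
    refine hsub _ (fun g x hx => ?_) (Or.inl inf_le_right)
    obtain ⟨hxT, hxA⟩ := Subgroup.mem_inf.mp hx
    refine Subgroup.mem_inf.mpr ⟨Subgroup.Normal.conj_mem inferInstance x hxT g, hCA _ fun a ha => ?_⟩
    obtain ⟨a0, ha0, b, hb, rfl⟩ := hAB g
    set y := b * x * b⁻¹ with hy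
    have hyT : y ∈ T := Subgroup.Normal.conj_mem inferInstance x hxT b
    have hconj : ∀ a ∈ A, a * y * a⁻¹ = y := fun a ha => by
      calc a * y * a⁻¹ = ⁅a, b⁆ * (b * (a * x * a⁻¹) * b⁻¹) * ⁅a, b⁆⁻¹ := by
            rw [hy, commutatorElement_def]; group
        _ = ⁅a, b⁆ * y * ⁅a, b⁆⁻¹ := by rw [cA a ha x hxA, mul_inv_cancel_right]
        _ = y := by rw [cT _ (hcomT a b) _ hyT, mul_inv_cancel_right]
    rw [show a0 * b * x * (a0 * b)⁻¹ = a0 * y * a0⁻¹ by rw [hy]; group, hconj a0 ha0]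
    exact mul_inv_eq_iff_eq_mul.mp (hconj a ha)
  have hTB : ∀ x ∈ T, (∀ b ∈ B, b * x = x * b) → x = 1 := by
    suffices hbot : T ⊓ B = ⊥ by
      intro x hx hc
      exact Subgroup.mem_bot.mp (hbot ▸ Subgroup.mem_inf.mpr ⟨hx, hCB x hc⟩)
    refine hsub _ (fun g x hx => ?_) (Or.inr inf_le_right)
    obtain ⟨hxT, hxB⟩ := Subgroup.mem_inf.mp hx
    refine Subgroup.mem_inf.mpr ⟨Subgroup.Normal.conj_mem inferInstance x hxT g, hCB _ fun b' hb' => ?_⟩
    obtain ⟨a, ha, b, hb, rfl⟩ := hAB g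
    have hbx : b * x * b⁻¹ = x := by rw [cB b hb x hxB, mul_inv_cancel_right]
    set y := a * x * a⁻¹ with hy
    have hyT : y ∈ T := Subgroup.Normal.conj_mem inferInstance x hxT a
    have hconj : ∀ b ∈ B, b * y * b⁻¹ = y := fun b hb => by
      calc b * y * b⁻¹ = ⁅b, a⁆ * (a * (b * x * b⁻¹) * a⁻¹) * ⁅b, a⁆⁻¹ := by
            rw [hy, commutatorElement_def]; group
        _ = ⁅b, a⁆ * y * ⁅b, a⁆⁻¹ := by rw [cB b hb x hxB, mul_inv_cancel_right]
        _ = y := by rw [cT _ (hcomT b a) _ hyT, mul_inv_cancel_right]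
    rw [show a * b * x * (a * b)⁻¹ = a * (b * x * b⁻¹) * a⁻¹ by group, hbx]
    exact mul_inv_eq_iff_eq_mul.mp (hconj b' hb')
  have hTne : T ≠ ⊥ := by
    intro hbot
    have hcomm : ∀ x y : G, x * y = y * x := fun x y =>
      commutatorElement_eq_one_iff_mul_comm.mp (Subgroup.mem_bot.mp (hbot ▸ hcomT x y))
    obtain ⟨g, hg⟩ := exists_ne (1 : G)
    obtain ⟨a, ha, b, hb, rfl⟩ := hAB g
    rw [hcen a (fun x => hcomm x a) (Or.inl ha), hcen b (fun x => hcomm x b) (Or.inr hb), one_mul] at hg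
    exact hg rfl
  haveI : IsMulCommutative T := ⟨⟨fun x y => Subtype.ext (cT x x.2 y y.2)⟩⟩
  obtain ⟨p, hp, hpT⟩ := Nat.exists_prime_and_dvd (n := Nat.card T)
    (fun h1 => hTne (Subgroup.card_eq_one.mp h1))
  haveI := Fact.mk hp
  obtain ⟨S⟩ := (inferInstance : Nonempty (Sylow p T))
  haveI hSn : (S : Subgroup T).Normal := ⟨fun x hx g => by
    rwa [show g * x * g⁻¹ = x from Subtype.ext (by
      show (g : G) * x * (g : G)⁻¹ = x
      rw [cT g g.2 x x.2, mul_inv_cancel_right])]⟩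
  haveI := Sylow.characteristic_of_normal S inferInstance
  set P := (S : Subgroup T).map T.subtype with hP
  haveI hPn : P.Normal := inferInstance
  have hPT : P ≤ T := Subgroup.map_subtype_le _
  have hPp : IsPGroup p P := S.isPGroup'.map _
  -- `A₁`, the `A`-parts of the elements of `P`
  set A₁ := A ⊓ (B ⊔ P) with hA₁
  choose α hα β hβ hab using hAB
  have hαA₁ : ∀ t ∈ P, α t ∈ A₁ := fun t ht => by
    refine Subgroup.mem_inf.mpr ⟨hα t, ?_⟩
    rw [show α t = t * (β t)⁻¹ from eq_mul_inv_of_mul_eq (hab t).symm]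
    exact mul_mem (Subgroup.mem_sup_right ht) (inv_mem (Subgroup.mem_sup_left (hβ t)))
  have hA₁p : IsPGroup p A₁ := by
    obtain ⟨m, hm⟩ := IsPGroup.iff_card.mp hPp
    refine IsPGroup.of_card (n := m) (hm ▸ (Nat.card_eq_of_bijective
      (fun t : P => (⟨α t, hαA₁ t t.2⟩ : A₁)) ⟨?_, ?_⟩).symm)
    · intro t t' he
      have he' : α (t : G) = α (t' : G) := congrArg Subtype.val he
      have h1 : (t : G)⁻¹ * t' ∈ T ⊓ B := by
        refine Subgroup.mem_inf.mpr ⟨mul_mem (inv_mem (hPT t.2)) (hPT t'.2), ?_⟩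
        rw [hab (t : G), hab (t' : G), he']
        simpa [mul_assoc] using mul_mem (inv_mem (hβ (t : G))) (hβ (t' : G))
      obtain ⟨h1T, h1B⟩ := Subgroup.mem_inf.mp h1
      exact Subtype.ext (inv_mul_eq_one.mp (hTB _ h1T fun b hb => cB b hb _ h1B))
    · rintro ⟨a, ha⟩
      obtain ⟨haA, haBP⟩ := Subgroup.mem_inf.mp ha
      obtain ⟨b, hb, t, ht, he⟩ := Subgroup.mem_sup_of_normal_right.mp haBP
      refine ⟨⟨b * t * b⁻¹, hPn.conj_mem t ht b⟩, Subtype.ext ?_⟩
      refine dec hinf (hα (b * t * b⁻¹)) haA (hβ (b * t * b⁻¹)) (inv_mem hb) ?_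
      rw [← hab]
      show b * t * b⁻¹ = a * b⁻¹
      rw [← he]
  -- a fixed point
  letI : MulAction A₁ P := MulAction.compHom P ((MulAut.conjNormal (H := P)).comp A₁.subtype)
  have hpP : p ∣ Nat.card P := by
    rw [hP, Subgroup.card_map_of_injective T.subtype_injective]
    exact S.dvd_card_of_dvd_card hpT
  have hfix1 : (1 : P) ∈ MulAction.fixedPoints A₁ P := fun a => by
    show MulAut.conjNormal (H := P) (a : G) 1 = 1
    exact map_one _
  obtain ⟨s, hsfix, hs1⟩ := hA₁p.exists_fixed_point_of_prime_dvd_card_of_fixed_point P hpP hfix1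
  have hsc : ∀ a ∈ A₁, a * (s : G) = s * a := fun a ha => by
    have h1 := congrArg Subtype.val (hsfix ⟨a, ha⟩)
    change a * (s : G) * a⁻¹ = (s : G) at h1
    exact mul_inv_eq_iff_eq_mul.mp h1
  set a := (α (s : G))⁻¹ with ha_def
  have haA : a ∈ A := inv_mem (hα _)
  set b := a * (s : G) with hb_def
  have hbB : b ∈ B := by
    have h1 : (s : G) = α (s : G) * β (s : G) := hab _
    rw [hb_def, ha_def, show (α (s : G))⁻¹ * (s : G) = β (s : G) from inv_mul_eq_iff_eq_mul.mpr h1]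
    exact hβ _
  -- `a` centralises `P`
  have haP : ∀ t ∈ P, a * t = t * a := fun t ht => by
    have e1 := cB b hbB (β t) (hβ t)
    have ht' : β t = (α t)⁻¹ * t := (inv_mul_eq_iff_eq_mul.mpr (hab t)).symm
    rw [hb_def, ht'] at e1
    have c1 : (s : G) * (α t)⁻¹ = (α t)⁻¹ * s := (hsc _ (inv_mem (hαA₁ t ht))).symm
    have c2 : a * (α t)⁻¹ = (α t)⁻¹ * a := cA a haA _ (inv_mem (hα t))
    have c3 : (s : G) * t = t * s := cT _ (hPT s.2) _ (hPT ht)
    have e2 : (α t)⁻¹ * (a * t * s) = (α t)⁻¹ * (t * a * s) := by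
      calc (α t)⁻¹ * (a * t * s) = ((α t)⁻¹ * a) * (t * s) := by group
        _ = (a * (α t)⁻¹) * (s * t) := by rw [c2, c3]
        _ = a * ((α t)⁻¹ * s) * t := by group
        _ = a * (s * (α t)⁻¹) * t := by rw [c1]
        _ = a * s * ((α t)⁻¹ * t) := by group
        _ = (α t)⁻¹ * t * (a * s) := e1
        _ = (α t)⁻¹ * (t * a * s) := by group
    exact mul_right_cancel (mul_left_cancel e2)
  -- `a` centralises `T`
  set π := QuotientGroup.mk' P
  have hπa : ∀ g : G, ⁅a, g⁆ ∈ P := by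
    intro g
    rw [← QuotientGroup.eq_one_iff, ← QuotientGroup.mk'_apply, map_commutatorElement,
      commutatorElement_eq_one_iff_mul_comm, hab g]
    have hπab : π b = π a := by
      rw [hb_def, map_mul, show π (s : G) = 1 from (QuotientGroup.eq_one_iff _).mpr s.2, mul_one]
    rw [map_mul, ← mul_assoc, ← map_mul, cA a haA _ (hα g), map_mul, mul_assoc, mul_assoc]
    congr 1
    rw [← hπab, ← map_mul, ← map_mul, cB b hbB _ (hβ g)]
  have haT : ∀ t ∈ T, a * t = t * a := fun t ht => by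
    have hmem : ∀ t ∈ T, a * t * a⁻¹ * t⁻¹ ∈ P := fun t _ => by
      have := hπa t; rwa [commutatorElement_def] at this
    let φ : T → T := fun x => ⟨a * x * a⁻¹ * (x : G)⁻¹, hPT (hmem x x.2)⟩
    have hφ : ∀ n : ℕ, φ ((⟨t, ht⟩ : T) ^ n) = φ ⟨t, ht⟩ ^ n := by
      intro n
      apply Subtype.ext
      simp only [φ, SubmonoidClass.coe_pow]
      have hcc : Commute (a * t * a⁻¹) t⁻¹ :=
        cT _ (Subgroup.Normal.conj_mem inferInstance t ht a) _ (inv_mem ht)
      rw [hcc.mul_pow, conj_pow, inv_pow]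
    set m := (S : Subgroup T).index
    have hm : (⟨t, ht⟩ : T) ^ m ∈ (S : Subgroup T) := Subgroup.pow_index_mem _ _
    have h1 : φ ⟨t, ht⟩ ^ m = 1 := by
      rw [← hφ m]
      apply Subtype.ext
      simp only [φ, OneMemClass.coe_one]
      rw [mul_inv_eq_one, mul_inv_eq_iff_eq_mul]
      exact haP _ ⟨_, hm, rfl⟩
    obtain ⟨k, hk⟩ := hPp ⟨_, hmem t ht⟩
    have h2 : φ ⟨t, ht⟩ ^ p ^ k = 1 := Subtype.ext (by
      simpa [φ] using congrArg Subtype.val hk)
    have h3 : φ ⟨t, ht⟩ = 1 := orderOf_eq_one_iff.mp (Nat.eq_one_of_dvd_coprimes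
      (((Nat.Prime.coprime_iff_not_dvd hp).mpr S.not_dvd_index).pow_left k)
      (orderOf_dvd_of_pow_eq_one h2) (orderOf_dvd_of_pow_eq_one h1))
    have h4 := congrArg Subtype.val h3
    simp only [φ, OneMemClass.coe_one, mul_inv_eq_iff_eq_mul, one_mul] at h4
    exact h4
  -- every element of `B` centralises `s`
  apply hs1
  refine Eq.symm (Subtype.ext (hTB (s : G) (hPT s.2) fun b' hb' => ?_))
  set w := (s : G) * (b' * (s : G)⁻¹ * b'⁻¹) with hw
  have hwT : w ∈ T :=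
    mul_mem (hPT s.2) (Subgroup.Normal.conj_mem inferInstance _ (inv_mem (hPT s.2)) b')
  have hw1 : b' * a * b'⁻¹ = a * w := by
    calc b' * a * b'⁻¹ = b' * (b * (s : G)⁻¹) * b'⁻¹ := by rw [hb_def, mul_inv_cancel_right]
      _ = (b' * b) * (s : G)⁻¹ * b'⁻¹ := by group
      _ = (b * b') * (s : G)⁻¹ * b'⁻¹ := by rw [cB b' hb' b hbB]
      _ = a * w := by rw [hw, hb_def]; group
  have hw0 : w = 1 := by
    refine hTA w hwT fun a' ha' => ?_
    have e1 : a' * (a * w) * a'⁻¹ = a * w := by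
      calc a' * (a * w) * a'⁻¹ = a' * (b' * a * b'⁻¹) * a'⁻¹ := by rw [hw1]
        _ = ⁅a', b'⁆ * (b' * (a' * a * a'⁻¹) * b'⁻¹) * ⁅a', b'⁆⁻¹ := by
            rw [commutatorElement_def]; group
        _ = ⁅a', b'⁆ * (a * w) * ⁅a', b'⁆⁻¹ := by rw [cA a' ha' a haA, mul_inv_cancel_right, hw1]
        _ = a * w := by
            rw [← mul_assoc, ← haT _ (hcomT a' b'), mul_assoc a, cT _ (hcomT a' b') _ hwT,
              ← mul_assoc, mul_inv_cancel_right]
    rw [← mul_assoc, cA a' ha' a haA, mul_assoc a, mul_inv_eq_iff_eq_mul, mul_assoc a] at e1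
    exact mul_left_cancel e1
  rw [hw] at hw0
  have h2 : b' * (s : G)⁻¹ * b'⁻¹ = (s : G)⁻¹ := eq_inv_of_mul_eq_one_right hw0
  have h3 := congrArg (·⁻¹) h2
  simp only [mul_inv_rev, inv_inv] at h3
  rw [← mul_assoc] at h3
  exact mul_inv_eq_iff_eq_mul.mp h3


/-- If a nontrivial finite group G is the product AB of abelian subgroups A and B, then some nontrivial normal subgroup of G is contained in A or in B. -/
theorem result {G : Type*} [Group G] [Finite G] [Nontrivial G] (A B : Subgroup G) [IsMulCommutative A] [IsMulCommutative B] (hAB : ∀ g : G, ∃ a ∈ A, ∃ b ∈ B, g = a * b) : ∃ N : Subgroup G, N.Normal ∧ N ≠ ⊥ ∧ (N ≤ A ∨ N ≤ B) := by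
  exact aux A B hAB

end Cfsg.Agent.S0573
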