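import Cfsg.Statements.S0571
import Mathlib
import Cfsg.Agent.S0573
import Cfsg.Agent.Lib.Supersolvable.Basic


set_option autoImplicit false
set_option linter.style.haveILetI false
open Cfsg

namespace Cfsg.Agent.S0571

universe u

theorem aux (n : ℕ) : ∀ (G : Type u) [Group G] [Finite G], Nat.card G = n → ∀ A B : Subgroup G,
    IsCyclic A → IsCyclic B → (∀ g : G, ∃ a ∈ A, ∃ b ∈ B, g = a * b) → Cfsg.IsSupersolvable G := by
  induction n using Nat.strong_induction_on with
  | _ n ih =>
    intro G _ _ hn A B hA hB hAB
    rcases subsingleton_or_nontrivial G with h | h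
    · exact Lib.Supersolvable.of_subsingleton
    haveI := hA; haveI := hB
    obtain ⟨N, hN, hne, hle⟩ := S0573.aux A B hAB
    haveI := hN
    haveI : IsCyclic N := hle.elim (fun h => isCyclic_of_injective (Subgroup.inclusion h)
      (Subgroup.inclusion_injective h)) (fun h => isCyclic_of_injective (Subgroup.inclusion h)
      (Subgroup.inclusion_injective h))
    refine Lib.Supersolvable.of_quotient N (ih _ ?_ _ rfl
      (A.map (QuotientGroup.mk' N)) (B.map (QuotientGroup.mk' N))
      (isCyclic_of_surjective _ ((QuotientGroup.mk' N).subgroupMap_surjective A))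
      (isCyclic_of_surjective _ ((QuotientGroup.mk' N).subgroupMap_surjective B)) ?_)
    · rw [← hn, Subgroup.card_eq_card_quotient_mul_card_subgroup N]
      exact lt_mul_of_one_lt_right Nat.card_pos ((Subgroup.one_lt_card_iff_ne_bot _).mpr hne)
    · intro g
      obtain ⟨g, rfl⟩ := QuotientGroup.mk'_surjective N g
      obtain ⟨a, ha, b, hb, rfl⟩ := hAB g
      exact ⟨_, Subgroup.mem_map_of_mem _ ha, _, Subgroup.mem_map_of_mem _ hb, map_mul _ a b⟩


/-- If a finite group G is the product AB of two cyclic subgroups (every element is a product ab), then G is supersolvable. -/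
theorem result {G : Type*} [Group G] [Finite G] (A B : Subgroup G) [IsCyclic A] [IsCyclic B] (hAB : ∀ g : G, ∃ a ∈ A, ∃ b ∈ B, g = a * b) : Cfsg.IsSupersolvable G := by
  exact aux _ G rfl A B inferInstance inferInstance hAB

end Cfsg.Agent.S0571
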