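import Cfsg.Statements.S0574
import Mathlib
import Cfsg.Agent.S0572
import Cfsg.Agent.Lib.KegelWielandt.Main
import Cfsg.Agent.Lib.PGroups.Omega
-- import your own Cfsg.Agent.* helpers here

set_option autoImplicit false
open Cfsg

namespace Cfsg.Agent.S0574

open scoped commutatorElement

universe u

theorem derivedSeries_two_le {G : Type u} [Group G] (N : Subgroup G) [N.Normal] (A B : Subgroup G)
    [IsMulCommutative A] (hB : ⁅B, B⁆ ≤ N) (hAB : ∀ g : G, ∃ a ∈ A, ∃ b ∈ B, g = a * b) :
    derivedSeries G 2 ≤ N := by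
  haveI : IsMulCommutative (B.map (QuotientGroup.mk' N)) := by
    refine ⟨⟨fun x y => ?_⟩⟩
    obtain ⟨_, b, hb, rfl⟩ := x
    obtain ⟨_, b', hb', rfl⟩ := y
    refine Subtype.ext ?_
    show QuotientGroup.mk' N b * QuotientGroup.mk' N b' =
      QuotientGroup.mk' N b' * QuotientGroup.mk' N b
    rw [← commutatorElement_eq_one_iff_mul_comm, ← map_commutatorElement]
    exact (QuotientGroup.eq_one_iff _).mpr (hB (Subgroup.commutator_mem_commutator hb hb'))
  haveI : IsMulCommutative (A.map (QuotientGroup.mk' N)) := by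
    refine ⟨⟨fun x y => ?_⟩⟩
    obtain ⟨_, a, ha, rfl⟩ := x
    obtain ⟨_, a', ha', rfl⟩ := y
    refine Subtype.ext ?_
    show QuotientGroup.mk' N a * QuotientGroup.mk' N a' =
      QuotientGroup.mk' N a' * QuotientGroup.mk' N a
    rw [← map_mul, ← map_mul, A.mul_comm_of_mem_isMulCommutative ha ha']
  have h := Cfsg.Agent.S0572.result (A.map (QuotientGroup.mk' N)) (B.map (QuotientGroup.mk' N))
    (Lib.Products.map_factor _ (QuotientGroup.mk'_surjective N) hAB)
  rw [← map_derivedSeries_eq (QuotientGroup.mk'_surjective N) 2, Subgroup.map_eq_bot_iff,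
    QuotientGroup.ker_mk'] at h
  exact h

/-- A factorised group is not generated by the abelian factor and the derived group of the
nilpotent one. -/
theorem sup_commutator_ne_top : ∀ (n : ℕ) {G : Type u} [Group G] [Finite G] (A B : Subgroup G),
    Nat.card G = n → IsMulCommutative A → Group.IsNilpotent B →
    (∀ g : G, ∃ a ∈ A, ∃ b ∈ B, g = a * b) → ⁅B, B⁆ ≠ ⊥ → A ⊔ ⁅B, B⁆ ≠ ⊤ := by
  intro n
  induction n using Nat.strong_induction_on with
  | _ n ih =>
  intro G _ _ A B hn hAc hB hAB hD htop
  haveI := hAc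
  have cA : ∀ x ∈ A, ∀ y ∈ A, x * y = y * x := fun x hx y hy =>
    A.mul_comm_of_mem_isMulCommutative hx hy
  haveI : Nontrivial G := by
    by_contra hc
    rw [not_nontrivial_iff_subsingleton] at hc
    exact hD (Subsingleton.elim _ _)
  haveI := Lib.KegelWielandt.isSolvable (G := G) (A := A) (B := B)
    (by letI : CommGroup A := { (inferInstance : Group A) with mul_comm := mul_comm' }
        exact inferInstance) hB hAB
  obtain ⟨N, hNn, hN0, hmin⟩ := Lib.Cores.MinNormal.exists_minimal (G := G)
  haveI := hNn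
  obtain ⟨hcomm, p, hp, hexp⟩ := Lib.Cores.MinNormal.elementary_of_solvable hN0 hmin
  haveI := Fact.mk hp
  have cN : ∀ x ∈ N, ∀ y ∈ N, x * y = y * x := fun x hx y hy =>
    congrArg Subtype.val (mul_comm' (⟨x, hx⟩ : N) ⟨y, hy⟩)
  set f := QuotientGroup.mk' N
  have hsurj : Function.Surjective f := QuotientGroup.mk'_surjective N
  have hDN : ⁅B, B⁆ ≤ N := by
    by_contra hne
    haveI : IsMulCommutative (A.map f) := by
      refine ⟨⟨fun x y => ?_⟩⟩
      obtain ⟨_, a, ha, rfl⟩ := x
      obtain ⟨_, a', ha', rfl⟩ := y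
      exact Subtype.ext (by
        show f a * f a' = f a' * f a
        rw [← map_mul, ← map_mul, cA a ha a' ha'])
    refine ih _ (hn ▸ Lib.Hall.card_quotient_lt hN0) (A.map f) (B.map f) rfl this
      (Lib.Cores.isNilpotent_map _ hB) (Lib.Products.map_factor _ hsurj hAB) ?_ ?_
    · rw [← Subgroup.map_commutator, Ne, Subgroup.map_eq_bot_iff, QuotientGroup.ker_mk']
      exact hne
    · rw [← Subgroup.map_commutator, ← Subgroup.map_sup, htop,
        Subgroup.map_top_of_surjective _ hsurj]
  have hAN : A ⊔ N = ⊤ := top_le_iff.mp (htop ▸ sup_le_sup_left hDN A)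
  have hAt : A ≠ ⊤ := by
    rintro rfl
    refine hD (le_bot_iff.mp (Subgroup.commutator_le.mpr fun x _ y _ => ?_))
    rw [Subgroup.mem_bot, commutatorElement_eq_one_iff_mul_comm]
    exact cA x (Subgroup.mem_top x) y (Subgroup.mem_top y)
  -- the `p`-part of `A` is central, hence trivial
  have hAp : ∀ x ∈ A, ∀ k : ℕ, x ^ p ^ k = 1 → x = 1 := by
    intro x hx k hk
    have hNA : ∀ y ∈ N, y ∈ A → y = 1 := by
      intro y hyN hyA
      have hn' : (A ⊓ N).Normal := by
        rw [← Subgroup.normalizer_eq_top_iff, ← top_le_iff, ← hAN]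
        refine sup_le (fun a ha => Lib.KegelWielandt.mem_normalizer_of_conj_mem fun z hz => ?_)
          (fun a ha => Lib.KegelWielandt.mem_normalizer_of_conj_mem fun z hz => ?_)
        · rw [cA a ha z hz.1, mul_inv_cancel_right]; exact hz
        · rw [cN a ha z hz.2, mul_inv_cancel_right]; exact hz
      rcases hmin _ hn' inf_le_right with h | h
      · exact Subgroup.mem_bot.mp (h ▸ (Subgroup.mem_inf.mpr ⟨hyA, hyN⟩))
      · exact absurd (top_le_iff.mp (hAN ▸ sup_le le_rfl (inf_eq_right.mp h))) hAt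
    have hZ : (N ⊓ Subgroup.centralizer ({x} : Set G)).Normal := by
      rw [← Subgroup.normalizer_eq_top_iff, ← top_le_iff, ← hAN]
      refine sup_le (fun a ha => Lib.KegelWielandt.mem_normalizer_of_conj_mem fun z hz => ?_)
        (fun a ha => Lib.KegelWielandt.mem_normalizer_of_conj_mem fun z hz => ?_)
      · refine Subgroup.mem_inf.mpr ⟨hNn.conj_mem z hz.1 a, ?_⟩
        have hax : a ∈ Subgroup.centralizer ({x} : Set G) :=
          Subgroup.mem_centralizer_singleton_iff.mpr (cA a ha x hx)
        exact mul_mem (mul_mem hax hz.2) (inv_mem hax)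
      · rw [cN a ha z hz.1, mul_inv_cancel_right]; exact hz
    have hxN : ∀ y ∈ N, y * x = x * y := by
      rcases hmin _ hZ inf_le_left with h | h
      · exfalso
        have hp' : IsPGroup p ↥(Subgroup.zpowers x ⊔ N) := by
          refine (IsPGroup.iff_orderOf.mpr fun z => ?_).to_sup_of_normal_right
            (Lib.Cores.MinNormal.isPGroup_of_pow_eq_one hexp)
          obtain ⟨i, -, hi⟩ := (Nat.dvd_prime_pow hp).mp ((orderOf_dvd_natCard z).trans
            ((Nat.card_zpowers x).symm ▸ orderOf_dvd_of_pow_eq_one hk))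
          exact ⟨i, hi⟩
        haveI : Nontrivial ↥(Subgroup.zpowers x ⊔ N) := (Subgroup.nontrivial_iff_ne_bot _).mpr
          fun h0 => hN0 (le_bot_iff.mp (h0 ▸ le_sup_right))
        have hne' := Lib.PGroups.normal_inf_center_ne_bot hp'
          (N.subgroupOf (Subgroup.zpowers x ⊔ N)) (fun h0 => hN0 (by
            rw [← Subgroup.map_subgroupOf_eq_of_le (le_sup_right : N ≤ Subgroup.zpowers x ⊔ N), h0,
              Subgroup.map_bot]))
        obtain ⟨z, hz1, hz2⟩ := (Subgroup.ne_bot_iff_exists_ne_one).mp hne' |>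
          fun ⟨w, hw⟩ => (⟨w.1, w.2, fun h => hw (Subtype.ext h)⟩ :
            ∃ z, z ∈ N.subgroupOf (Subgroup.zpowers x ⊔ N) ⊓ Subgroup.center _ ∧ z ≠ 1)
        have hzm : (z : G) ∈ N ⊓ Subgroup.centralizer ({x} : Set G) :=
          Subgroup.mem_inf.mpr ⟨hz1.1, Subgroup.mem_centralizer_singleton_iff.mpr
            (congrArg Subtype.val (Subgroup.mem_center_iff.mp hz1.2
              ⟨x, Subgroup.mem_sup_left (Subgroup.mem_zpowers x)⟩)).symm⟩
        rw [h, Subgroup.mem_bot] at hzm
        exact hz2 (Subtype.ext hzm)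
      · exact fun y hy => Subgroup.mem_centralizer_singleton_iff.mp (inf_eq_left.mp h hy)
    -- `x` is central, so its cyclic group is normal
    by_contra hx1
    have hcen : x ∈ Subgroup.center G := Subgroup.mem_center_iff.mpr fun g => by
      obtain ⟨a, ha, m, hm, rfl⟩ := Subgroup.mem_sup_of_normal_right.mp
        (show g ∈ A ⊔ N by rw [hAN]; trivial)
      rw [mul_assoc, hxN m hm, ← mul_assoc, cA a ha x hx, mul_assoc]
    have hn2 : (Subgroup.zpowers x).Normal := ⟨fun y hy g => by
      rw [Subgroup.mem_center_iff.mp (Subgroup.zpowers_le.mpr hcen hy) g, mul_inv_cancel_right]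
      exact hy⟩
    -- so the derived group of `B` lies in it
    have hDx : ⁅B, B⁆ ≤ Subgroup.zpowers x := by
      by_contra hne
      haveI := hn2
      set f' := QuotientGroup.mk' (Subgroup.zpowers x)
      haveI : IsMulCommutative (A.map f') := by
        refine ⟨⟨fun x y => ?_⟩⟩
        obtain ⟨_, a, ha, rfl⟩ := x
        obtain ⟨_, a', ha', rfl⟩ := y
        exact Subtype.ext (by
          show f' a * f' a' = f' a' * f' a
          rw [← map_mul, ← map_mul, cA a ha a' ha'])
      refine ih _ (hn ▸ Lib.Hall.card_quotient_lt (Subgroup.zpowers_ne_bot.mpr hx1))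
        (A.map f') (B.map f') rfl this (Lib.Cores.isNilpotent_map _ hB)
        (Lib.Products.map_factor _ (QuotientGroup.mk'_surjective _) hAB) ?_ ?_
      · rw [← Subgroup.map_commutator, Ne, Subgroup.map_eq_bot_iff, QuotientGroup.ker_mk']
        exact hne
      · rw [← Subgroup.map_commutator, ← Subgroup.map_sup, htop,
          Subgroup.map_top_of_surjective _ (QuotientGroup.mk'_surjective _)]
    refine hD (le_bot_iff.mp fun y hy => Subgroup.mem_bot.mpr ?_)
    exact hNA y (hDN hy) (Subgroup.zpowers_le.mpr hx (hDx hy))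
  have hpA : (Nat.card A).Coprime p := by
    refine (Nat.Prime.coprime_iff_not_dvd hp).mpr (fun hd => ?_) |>.symm
    obtain ⟨⟨a, ha⟩, hao⟩ := exists_prime_orderOf_dvd_card' p hd
    rw [Subgroup.orderOf_mk] at hao
    have := hAp a ha 1 (by rw [pow_one, ← hao, pow_orderOf_eq_one])
    rw [this, orderOf_one] at hao
    exact hp.one_lt.ne hao
  -- elements of `B` of order prime to `p` commute
  have hpn : ∀ x : G, ∀ k, orderOf x = p ^ k → x ∈ N := by
    intro x k hk
    obtain ⟨a, ha, m, hm, rfl⟩ := Subgroup.mem_sup_of_normal_right.mp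
      (show x ∈ A ⊔ N by rw [hAN]; trivial)
    have h1 : orderOf (f a) ∣ p ^ k := by
      have : f a = f (a * m) := by
        rw [map_mul, (QuotientGroup.eq_one_iff m).mpr hm |> fun h => (h : f m = 1), mul_one]
      rw [this, ← hk]
      exact orderOf_map_dvd f _
    have h2 := Nat.eq_one_of_dvd_coprimes (hpA.pow_right k)
      ((orderOf_map_dvd f a).trans (A.orderOf_dvd_natCard ha)) h1
    rw [orderOf_eq_one_iff] at h2
    exact mul_mem ((QuotientGroup.eq_one_iff a).mp h2) hm
  refine hD (le_bot_iff.mp (Subgroup.commutator_le.mpr fun x hx y hy => ?_))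
  obtain ⟨x1, x2, hx1, hx2, hxe, -, ⟨i, hi⟩, hxc⟩ :=
    Lib.Transfer.PResidual.exists_pPart_mul_pPrimePart (p := p) x (isOfFinOrder_of_finite x)
  obtain ⟨y1, y2, hy1, hy2, hye, -, ⟨j, hj⟩, hyc⟩ :=
    Lib.Transfer.PResidual.exists_pPart_mul_pPrimePart (p := p) y (isOfFinOrder_of_finite y)
  replace hx1 := Subgroup.zpowers_le.mpr hx hx1
  replace hx2 := Subgroup.zpowers_le.mpr hx hx2
  replace hy1 := Subgroup.zpowers_le.mpr hy hy1
  replace hy2 := Subgroup.zpowers_le.mpr hy hy2
  obtain ⟨i', -, hi'⟩ := (Nat.dvd_prime_pow hp).mp (orderOf_dvd_of_pow_eq_one hi)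
  obtain ⟨j', -, hj'⟩ := (Nat.dvd_prime_pow hp).mp (orderOf_dvd_of_pow_eq_one hj)
  have c11 : Commute x1 y1 := cN _ (hpn x1 i' hi') _ (hpn y1 j' hj')
  have c12 : Commute x1 y2 := Lib.KegelWielandt.commute_of_coprime hB hx1 hy2
    (hi' ▸ (hyc.pow_right i').symm)
  have c21 : Commute x2 y1 := Lib.KegelWielandt.commute_of_coprime hB hx2 hy1
    (hj' ▸ hxc.pow_right j')
  have c22 : Commute x2 y2 := by
    have hcl : ⁅x2, y2⁆ ∈ N := hDN (Subgroup.commutator_mem_commutator hx2 hy2)
    have hpart : ∀ z ∈ B, (orderOf z).Coprime p →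
        z ∈ (Cfsg.pResidual p B).map B.subtype := fun z hz hc =>
      ⟨⟨z, hz⟩, Lib.Transfer.PResidual.mem_pResidual (by rwa [Subgroup.orderOf_mk]), rfl⟩
    have hc' : (orderOf ⁅x2, y2⁆).Coprime p := by
      have hm : ⁅x2, y2⁆ ∈ (Cfsg.pResidual p B).map B.subtype := by
        rw [commutatorElement_def]
        exact mul_mem (mul_mem (mul_mem (hpart _ hx2 hxc) (hpart _ hy2 hyc))
          (inv_mem (hpart _ hx2 hxc))) (inv_mem (hpart _ hy2 hyc))
      refine Nat.Coprime.coprime_dvd_left (Subgroup.orderOf_dvd_natCard _ hm) ?_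
      haveI := hB
      rw [Subgroup.card_map_of_injective B.subtype_injective]
      exact ((hp.coprime_iff_not_dvd.mpr
        (Lib.Transfer.PResidual.hasNormalPComplement_iff_not_dvd.mp
          Lib.Transfer.Frobenius.hasNormalPComplement_of_isNilpotent))).symm
    have h1 := hexp _ hcl
    refine commutatorElement_eq_one_iff_commute.mp (orderOf_eq_one_iff.mp ?_)
    exact Nat.eq_one_of_dvd_coprimes hc' dvd_rfl (orderOf_dvd_of_pow_eq_one h1)
  rw [Subgroup.mem_bot, commutatorElement_eq_one_iff_commute, ← hxe, ← hye]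
  exact (c11.mul_right c12).mul_left (c21.mul_right c22)

theorem cardFactors_lt_of_dvd {a b : ℕ} (hb : b ≠ 0) (h : a ∣ b) (hne : a ≠ b) :
    a.primeFactorsList.length < b.primeFactorsList.length := by
  obtain ⟨c, rfl⟩ := h
  obtain ⟨ha, hc⟩ := mul_ne_zero_iff.mp hb
  rw [← ArithmeticFunction.cardFactors_apply, ← ArithmeticFunction.cardFactors_apply,
    ArithmeticFunction.cardFactors_mul ha hc]
  have : ArithmeticFunction.cardFactors c ≠ 0 := fun h0 =>
    (ArithmeticFunction.cardFactors_eq_zero_iff_eq_zero_or_one.mp h0).elim hc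
      fun h1 => hne (by rw [h1, mul_one])
  omega

theorem derivedSeries_eq_bot : ∀ (n : ℕ) {G : Type u} [Group G] [Finite G] (A B : Subgroup G),
    (Nat.card ↥⁅B, B⁆).primeFactorsList.length = n → IsMulCommutative A → Group.IsNilpotent B →
    (∀ g : G, ∃ a ∈ A, ∃ b ∈ B, g = a * b) → derivedSeries G (2 * (1 + n)) = ⊥ := by
  intro n
  induction n using Nat.strong_induction_on with
  | _ n ih =>
  intro G _ _ A B hn hAc hB hAB
  haveI := hAc
  by_cases hD : ⁅B, B⁆ = ⊥
  · have h2 := derivedSeries_two_le ⊥ A B hD.le hAB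
    refine le_bot_iff.mp (le_trans (derivedSeries_antitone G ?_) h2)
    omega
  set X := A ⊔ ⁅B, B⁆ with hX
  have hA'c : IsMulCommutative (A.subgroupOf X) :=
    ⟨⟨fun a b => Subtype.ext (Subtype.ext (A.mul_comm_of_mem_isMulCommutative a.2 b.2))⟩⟩
  have hfac : ∀ g : X, ∃ a ∈ A.subgroupOf X, ∃ b ∈ B.subgroupOf X, g = a * b := fun g => by
    obtain ⟨a, ha, b, hb, he⟩ := Lib.Products.factor_of_le hAB (le_sup_left : A ≤ X) g
    exact ⟨a, ha, b, hb.2, he⟩
  have hB' := Lib.KegelWielandt.isNilpotent_subgroupOf hB X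
  -- the normal closure of the derived group of `B` lies in `X`
  have hN : Subgroup.normalClosure ((⁅B, B⁆ : Subgroup G) : Set G) ≤ X := by
    refine (Subgroup.closure_le _).mpr fun w hw => ?_
    rw [Group.mem_conjugatesOfSet_iff] at hw
    obtain ⟨z, hz, hw⟩ := hw
    obtain ⟨c, rfl⟩ := isConj_iff.mp hw
    obtain ⟨a, ha, b, hb, rfl⟩ := hAB c
    have h1 : b * z * b⁻¹ ∈ ⁅B, B⁆ := by
      have : B ≤ Subgroup.normalizer ((⁅B, B⁆ : Subgroup G) : Set G) := by
        rw [show ⁅B, B⁆ = (commutator B).map B.subtype from (Subgroup.map_subtype_commutator B).symm]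
        refine le_trans ?_ (Subgroup.le_normalizer_map B.subtype)
        rw [Subgroup.normalizer_eq_top, ← MonoidHom.range_eq_map, Subgroup.range_subtype]
      exact (Subgroup.mem_normalizer_iff.mp (this hb) z).mp hz
    have e : a * b * z * (a * b)⁻¹ = a * (b * z * b⁻¹) * a⁻¹ := by group
    rw [e]
    exact mul_mem (mul_mem (Subgroup.mem_sup_left ha) (Subgroup.mem_sup_right h1))
      (inv_mem (Subgroup.mem_sup_left ha))
  have h2 : derivedSeries G 2 ≤ X :=
    (derivedSeries_two_le _ A B Subgroup.le_normalClosure hAB).trans hN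
  -- the derived group of `B ∩ X` is smaller
  set D := (⁅B.subgroupOf X, B.subgroupOf X⁆).map X.subtype with hDdef
  have hle : D ≤ ⁅B, B⁆ := by
    rw [hDdef, Subgroup.map_commutator]
    exact Subgroup.commutator_mono (Subgroup.map_comap_le _ _) (Subgroup.map_comap_le _ _)
  have hne : D ≠ ⁅B, B⁆ := by
    intro he
    refine sup_commutator_ne_top _ (A.subgroupOf X) (B.subgroupOf X) rfl hA'c hB' hfac ?_ ?_
    · intro h0
      rw [hDdef, h0, Subgroup.map_bot] at he
      exact hD he.symm
    · apply Subgroup.map_injective X.subtype_injective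
      rw [Subgroup.map_sup, ← hDdef, he, Subgroup.map_subgroupOf_eq_of_le le_sup_left,
        ← MonoidHom.range_eq_map, Subgroup.range_subtype]
  have hlt : (Nat.card ↥⁅B.subgroupOf X, B.subgroupOf X⁆).primeFactorsList.length < n := by
    rw [← hn, ← Subgroup.card_map_of_injective X.subtype_injective, ← hDdef]
    exact cardFactors_lt_of_dvd Nat.card_pos.ne' (Subgroup.card_dvd_of_le hle)
      fun h => hne (Subgroup.eq_of_le_of_card_ge hle h.ge)
  have h3 := ih _ hlt (A.subgroupOf X) (B.subgroupOf X) rfl hA'c hB' hfac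
  have key : ∀ k, derivedSeries G (2 + k) ≤ (derivedSeries X k).map X.subtype := by
    intro k
    induction k with
    | zero =>
      refine h2.trans ?_
      rw [derivedSeries_zero, ← MonoidHom.range_eq_map, Subgroup.range_subtype]
    | succ k ihk =>
      rw [← add_assoc, derivedSeries_succ, derivedSeries_succ, Subgroup.map_commutator]
      exact Subgroup.commutator_mono ihk ihk
  have h4 := key (2 * (1 + (Nat.card ↥⁅B.subgroupOf X, B.subgroupOf X⁆).primeFactorsList.length))
  rw [h3, Subgroup.map_bot] at h4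
  refine le_bot_iff.mp (le_trans (derivedSeries_antitone G ?_) h4)
  omega


/-- Let the finite group G be the product AB of an abelian subgroup A and a subgroup B of nilpotency class at most two, and let Ω be the number of prime factors, with multiplicity, of the order of the commutator subgroup of B. Then the term of index 2(1 + Ω) of the derived series of G is trivial. -/
theorem result {G : Type*} [Group G] [Finite G] (A B : Subgroup G) [IsMulCommutative A] (hB : commutator ↥B ≤ Subgroup.center ↥B) (hAB : ∀ g : G, ∃ a ∈ A, ∃ b ∈ B, g = a * b) : derivedSeries G (2 * (1 + (Nat.card ↥(commutator ↥B)).primeFactorsList.length)) = ⊥ := by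
  have hBn : Group.IsNilpotent B := by
    refine Group.isNilpotent_top.mp
      (Subgroup.isNilpotent_of_lowerCentralSeries_eq_bot (n := 2) ?_)
    rw [Subgroup.lowerCentralSeries_succ, Subgroup.lowerCentralSeries_succ,
      Subgroup.lowerCentralSeries_zero, Subgroup.commutator_eq_bot_iff_le_centralizer]
    intro x hx
    rw [Subgroup.mem_centralizer_iff]
    intro y _
    exact Subgroup.mem_center_iff.mp (hB hx) y
  have h := derivedSeries_eq_bot _ A B rfl inferInstance hBn hAB
  rw [← Subgroup.map_subtype_commutator, Subgroup.card_map_of_injective B.subtype_injective] at h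
  exact h

end Cfsg.Agent.S0574
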