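import Cfsg.Statements.S0575
import Mathlib


set_option autoImplicit false
open Cfsg

namespace Cfsg.Agent.S0575

theorem le_frattini {G : Type*} [Group G] {X : Subgroup G}
    (h : ∀ M : Subgroup G, IsCoatom M → X ≤ M) : X ≤ frattini G :=
  le_iInf₂ fun M hM => h M hM


/-- If H is a normal subgroup of a finite group G, then the Frattini subgroup of H, viewed in G, lies in the Frattini subgroup of G. -/
theorem result {G : Type*} [Group G] [Finite G] (H : Subgroup G) [H.Normal] : (frattini ↥H).map H.subtype ≤ frattini G := by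
  refine le_frattini fun M hM => ?_
  set X := (frattini ↥H).map H.subtype
  by_contra hX
  haveI : X.Normal := inferInstance
  have hsup : X ⊔ M = ⊤ := hM.2 _ (right_lt_sup.mpr hX)
  have hK : M.subgroupOf H ⊔ frattini ↥H = ⊤ := by
    rw [Subgroup.eq_top_iff']
    intro h
    have hh : (h : G) ∈ X ⊔ M := hsup ▸ Subgroup.mem_top _
    obtain ⟨x, hx, m, hm, he⟩ := Subgroup.mem_sup_of_normal_left.mp hh
    obtain ⟨x', hx', rfl⟩ := Subgroup.mem_map.mp hx
    have hmem : (x'⁻¹ * h : H) ∈ M.subgroupOf H := by
      show (x' : G)⁻¹ * (h : G) ∈ M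
      rw [← he]; simpa using hm
    have := mul_mem (Subgroup.mem_sup_right (S := M.subgroupOf H) hx')
      (Subgroup.mem_sup_left (T := frattini ↥H) hmem)
    simpa using this
  exact hX ((Subgroup.map_subtype_le _).trans
    (Subgroup.subgroupOf_eq_top.mp (frattini_nongenerating hK)))

end Cfsg.Agent.S0575
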