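import Cfsg.Statements.S0576
import Mathlib


set_option autoImplicit false
open Cfsg

namespace Cfsg.Agent.S0576

theorem le_frattini {G : Type*} [Group G] {X : Subgroup G}
    (h : ∀ M : Subgroup G, IsCoatom M → X ≤ M) : X ≤ frattini G :=
  le_iInf₂ fun M hM => h M hM


/-- Let H be a normal subgroup of a finite group G with H contained in the Frattini subgroup of G. Then the group of inner automorphisms of H is contained in the Frattini subgroup of the automorphism group of H. -/
theorem result {G : Type*} [Group G] [Finite G] (H : Subgroup G) [H.Normal] (hH : H ≤ frattini G) : (MulAut.conj : ↥H →* MulAut ↥H).range ≤ frattini (MulAut ↥H) := by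
  set R := (MulAut.conj : ↥H →* MulAut ↥H).range
  refine le_frattini fun M hM => ?_
  by_contra hR
  haveI : R.Normal := by
    constructor
    rintro _ ⟨h, rfl⟩ a
    exact ⟨a h, MulEquiv.ext fun x => by simp [MulAut.mul_def]⟩
  have hsup : R ⊔ M = ⊤ := hM.2 _ (right_lt_sup.mpr hR)
  set φ : G →* MulAut ↥H := MulAut.conjNormal
  have hφ : ∀ h : H, φ (h : G) = MulAut.conj h := fun h =>
    MulEquiv.ext fun x => Subtype.ext (by simp [φ])
  have hK : M.comap φ ⊔ frattini G = ⊤ := by
    rw [Subgroup.eq_top_iff']
    intro g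
    have hg : φ g ∈ R ⊔ M := hsup ▸ Subgroup.mem_top _
    obtain ⟨_, ⟨h, rfl⟩, m, hm, he⟩ := Subgroup.mem_sup_of_normal_left.mp hg
    have hmem : (h : G)⁻¹ * g ∈ M.comap φ := by
      rw [Subgroup.mem_comap, map_mul, map_inv, hφ, ← he, inv_mul_cancel_left]
      exact hm
    have := mul_mem (Subgroup.mem_sup_right (S := M.comap φ) (hH h.2))
      (Subgroup.mem_sup_left (T := frattini G) hmem)
    rwa [mul_inv_cancel_left] at this
  refine hR ?_
  rintro _ ⟨h, rfl⟩
  have : (h : G) ∈ M.comap φ := (frattini_nongenerating hK) ▸ Subgroup.mem_top _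
  rwa [Subgroup.mem_comap, hφ] at this

end Cfsg.Agent.S0576
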