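import Cfsg.Statements.S0585
import Mathlib


set_option autoImplicit false
set_option linter.style.haveILetI false
open Cfsg

namespace Cfsg.Agent.S0585

theorem complement {G : Type*} [Group G] [Finite G] (hΦ : frattini G = ⊥) (A : Subgroup G)
    [A.Normal] [IsMulCommutative A] : ∃ H : Subgroup G, Subgroup.IsComplement' A H := by
  obtain ⟨H, -, hH⟩ := Finite.exists_le_minimal (p := fun H : Subgroup G => A ⊔ H = ⊤)
    (a := ⊤) (sup_top_eq A)
  have hX : A ⊓ H = ⊥ := by
    haveI : (A ⊓ H).Normal := by
      rw [← Subgroup.normalizer_eq_top_iff, ← top_le_iff, ← hH.1, sup_le_iff]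
      constructor
      · refine (A.le_centralizer.trans ?_).trans (Subgroup.centralizer_le_normalizer _)
        exact Subgroup.centralizer_le (fun x hx => (Subgroup.mem_inf.mp hx).1)
      · intro h hh
        rw [Subgroup.mem_normalizer_iff]
        intro x
        simp only [Subgroup.mem_inf]
        refine and_congr ?_ ?_
        · exact ⟨fun hx => (inferInstance : A.Normal).conj_mem x hx h, fun hx => by
            simpa [mul_assoc] using (inferInstance : A.Normal).conj_mem _ hx h⁻¹⟩
        · rw [Subgroup.mul_mem_cancel_right _ (inv_mem hh), Subgroup.mul_mem_cancel_left _ hh]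
    rw [← le_bot_iff, ← hΦ]
    refine le_iInf₂ fun M hM => ?_
    by_contra hX
    have hsup : (A ⊓ H) ⊔ M = ⊤ := hM.2 _ (right_lt_sup.mpr hX)
    have hnew : A ⊔ (H ⊓ M) = ⊤ := by
      rw [← top_le_iff, ← hH.1]
      refine sup_le le_sup_left fun h hh => ?_
      have hh' : h ∈ (A ⊓ H) ⊔ M := hsup ▸ Subgroup.mem_top h
      obtain ⟨x, hx, m, hm, rfl⟩ := Subgroup.mem_sup_of_normal_left.mp hh'
      exact mul_mem (Subgroup.mem_sup_left (Subgroup.mem_inf.mp hx).1)
        (Subgroup.mem_sup_right (Subgroup.mem_inf.mpr
          ⟨by simpa using mul_mem (inv_mem (Subgroup.mem_inf.mp hx).2) hh, hm⟩))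
    exact hX (inf_le_right.trans ((hH.2 hnew inf_le_left).trans inf_le_right))
  refine ⟨H, Subgroup.isComplement'_of_disjoint_and_mul_eq_univ (disjoint_iff.mpr hX) ?_⟩
  rw [← Subgroup.normal_mul, hH.1, Subgroup.coe_top]


/-- If the Frattini subgroup of a finite group G is trivial, then every abelian normal subgroup of G has a complement in G. -/
theorem result {G : Type*} [Group G] [Finite G] (hΦ : frattini G = ⊥) (A : Subgroup G) [A.Normal] [IsMulCommutative A] : ∃ H : Subgroup G, Subgroup.IsComplement' A H := by
  exact complement hΦ A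

end Cfsg.Agent.S0585
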