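import Cfsg.Statements.S0586
import Mathlib
import Cfsg.Agent.Lib.Cores.Basic
import Cfsg.Agent.S0575
import Cfsg.Agent.S0585


set_option autoImplicit false
set_option linter.style.haveILetI false
open scoped commutatorElement
open Cfsg

namespace Cfsg.Agent.S0586

theorem commutator_le_coatom {G : Type*} [Group G] [Finite G] [Group.IsNilpotent G]
    {M : Subgroup G} (hM : IsCoatom M) : commutator G ≤ M := by
  haveI := Subgroup.NormalizerCondition.normal_of_coatom M normalizerCondition_of_isNilpotent hM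
  have hnt : Nontrivial (G ⧸ M) := QuotientGroup.nontrivial_iff.mpr hM.1
  haveI : IsSimpleGroup (G ⧸ M) := by
    refine ⟨fun K hK => ?_⟩
    rcases hM.le_iff.mp (QuotientGroup.le_comap_mk' M K) with h | h
    · exact Or.inr (by rw [← Subgroup.map_comap_eq_self_of_surjective
        (QuotientGroup.mk'_surjective M) K, h,
        Subgroup.map_top_of_surjective _ (QuotientGroup.mk'_surjective M)])
    · exact Or.inl (by rw [← Subgroup.map_comap_eq_self_of_surjective
        (QuotientGroup.mk'_surjective M) K, h, QuotientGroup.map_mk'_self])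
  refine Subgroup.Normal.quotient_commutative_iff_commutator_le.mp ?_
  exact IsSimpleGroup.comm_iff_isSolvable.mpr inferInstance |> fun h => ⟨⟨h⟩⟩

open scoped IsMulCommutative in
theorem nilpotent_of_comm {G : Type*} [Group G] (N : Subgroup G) [IsMulCommutative N] :
    Group.IsNilpotent N := CommGroup.isNilpotent

theorem exists_min {G : Type*} [Group G] [Finite G] (K : Subgroup G) [K.Normal] (h : K ≠ ⊥) :
    ∃ N : Subgroup G, N.Normal ∧ N ≠ ⊥ ∧ N ≤ K ∧
      ∀ X : Subgroup G, X.Normal → X ≤ N → X = ⊥ ∨ X = N := by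
  obtain ⟨N, hle, hN⟩ := Finite.exists_le_minimal (a := K)
    (p := fun N : Subgroup G => N.Normal ∧ N ≠ ⊥) ⟨inferInstance, h⟩
  exact ⟨N, hN.1.1, hN.1.2, hle, fun X hX hXN => or_iff_not_imp_left.mpr fun hne =>
    le_antisymm hXN (hN.2 ⟨hX, hne⟩ hXN)⟩


/-- If the Frattini subgroup of a finite group G is trivial, then the Fitting subgroup of G equals the join of all abelian minimal normal subgroups of G. -/
theorem result {G : Type*} [Group G] [Finite G] (hΦ : frattini G = ⊥) : Cfsg.fittingSubgroup G = sSup {N : Subgroup G | N.Normal ∧ N ≠ ⊥ ∧ IsMulCommutative N ∧ ∀ K : Subgroup G, K.Normal → K ≤ N → K = ⊥ ∨ K = N} := by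
  apply le_antisymm
  swap
  · exact sSup_le fun N ⟨hN, _, hc, _⟩ =>
      haveI := hN; haveI := hc; Lib.Cores.le_fittingSubgroup (nilpotent_of_comm N)
  set F := Cfsg.fittingSubgroup G with hF
  haveI : F.Normal := Lib.Cores.fittingSubgroup_normal
  haveI hnil : Group.IsNilpotent F := Lib.Cores.fittingSubgroup_isNilpotent
  have hcomm : IsMulCommutative F := by
    have h1 : (frattini F).map F.subtype ≤ ⊥ := hΦ ▸ S0575.result F
    rw [le_bot_iff, Subgroup.map_eq_bot_iff_of_injective _ F.subtype_injective] at h1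
    refine ⟨⟨fun a b => ?_⟩⟩
    rw [← commutatorElement_eq_one_iff_mul_comm, ← Subgroup.mem_bot, ← h1]
    show ⁅a, b⁆ ∈ Order.radical (Subgroup F)
    simp only [Order.radical, Subgroup.mem_iInf]
    intro M hM
    exact commutator_le_coatom hM (Subgroup.commutator_mem_commutator (Subgroup.mem_top a)
      (Subgroup.mem_top b))
  set S := sSup {N : Subgroup G | N.Normal ∧ N ≠ ⊥ ∧ IsMulCommutative N ∧
    ∀ K : Subgroup G, K.Normal → K ≤ N → K = ⊥ ∨ K = N} with hS
  haveI : S.Normal := Subgroup.sSup_normal _ fun N hN => hN.1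
  have hSF : S ≤ F := sSup_le fun N ⟨hN, _, hc, _⟩ =>
    haveI := hN; haveI := hc; Lib.Cores.le_fittingSubgroup (nilpotent_of_comm N)
  haveI : IsMulCommutative S := Subgroup.le_centralizer_iff_isMulCommutative.mp
    (hSF.trans ((Subgroup.le_centralizer_iff_isMulCommutative.mpr hcomm).trans
      (Subgroup.centralizer_le hSF)))
  obtain ⟨H, hH⟩ := S0585.complement hΦ S
  haveI hXn : (F ⊓ H).Normal := by
    rw [← Subgroup.normalizer_eq_top_iff, ← top_le_iff, ← hH.sup_eq_top, sup_le_iff]
    constructor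
    · refine (hSF.trans (F.le_centralizer.trans ?_)).trans (Subgroup.centralizer_le_normalizer _)
      exact Subgroup.centralizer_le (fun x hx => (Subgroup.mem_inf.mp hx).1)
    · intro h hh
      rw [Subgroup.mem_normalizer_iff]
      intro x
      simp only [Subgroup.mem_inf]
      refine and_congr ?_ ?_
      · exact ⟨fun hx => (inferInstance : F.Normal).conj_mem x hx h, fun hx => by
          simpa [mul_assoc] using (inferInstance : F.Normal).conj_mem _ hx h⁻¹⟩
      · rw [Subgroup.mul_mem_cancel_right _ (inv_mem hh), Subgroup.mul_mem_cancel_left _ hh]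
  have hX : F ⊓ H = ⊥ := by
    by_contra hne
    obtain ⟨N, hN, hNne, hNle, hNmin⟩ := exists_min (F ⊓ H) hne
    have hNc : IsMulCommutative N := Subgroup.le_centralizer_iff_isMulCommutative.mp
      ((hNle.trans inf_le_left).trans ((Subgroup.le_centralizer_iff_isMulCommutative.mpr hcomm).trans
        (Subgroup.centralizer_le (hNle.trans inf_le_left))))
    have hNS : N ≤ S ⊓ H := le_inf (le_sSup ⟨hN, hNne, hNc, hNmin⟩) (hNle.trans inf_le_right)
    rw [hH.isCompl.inf_eq_bot, le_bot_iff] at hNS
    exact hNne hNS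
  intro x hx
  have hx' : x ∈ S ⊔ H := hH.sup_eq_top ▸ Subgroup.mem_top x
  obtain ⟨s, hs, h, hh, rfl⟩ := Subgroup.mem_sup_of_normal_left.mp hx'
  have : h ∈ F ⊓ H :=
    Subgroup.mem_inf.mpr ⟨by simpa using mul_mem (inv_mem (hSF hs)) hx, hh⟩
  rw [hX, Subgroup.mem_bot] at this
  simpa [this] using hs

end Cfsg.Agent.S0586
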