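import Cfsg.Statements.S0577
import Mathlib
import Cfsg.Agent.S0575
import Cfsg.Agent.S0586
import Cfsg.Agent.Lib.Cores.Basic
import Cfsg.Agent.Lib.Transfer.Frobenius


set_option autoImplicit false
set_option linter.style.haveILetI false
open scoped commutatorElement
open Cfsg

namespace Cfsg.Agent.S0577

/-- Let G be a finite minimal non-nilpotent group and Q a normal Sylow q-subgroup of G, and let D be the commutator subgroup of Q regarded in G (a normal subgroup). Then G modulo D is non-abelian and all its proper subgroups are abelian. -/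
theorem result {G : Type*} [Group G] [Finite G] (hG : Cfsg.IsMinimalNonNilpotent G) (q : ℕ) [Fact q.Prime] (hq : q ∣ Nat.card G) (Q : Sylow q G) (hQ : (Q : Subgroup G).Normal) (D : Subgroup G) [D.Normal] (hD : D = (commutator ↥(Q : Subgroup G)).map (Q : Subgroup G).subtype) : ¬ IsMulCommutative (G ⧸ D) ∧ ∀ K : Subgroup (G ⧸ D), K ≠ ⊤ → IsMulCommutative K := by
  obtain ⟨hnn, hsub⟩ := hG
  haveI := hQ
  haveI : Group.IsNilpotent (Q : Subgroup G) := Q.isPGroup'.isNilpotent
  haveI : (D : Subgroup G).Normal := inferInstance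
  have hDQ : D ≤ (Q : Subgroup G) := hD ▸ Subgroup.map_subtype_le _
  have hDfr : D ≤ frattini G := by
    refine le_trans ?_ (S0575.result (Q : Subgroup G))
    rw [hD]
    refine Subgroup.map_mono ?_
    exact le_iInf₂ fun M hM => S0586.commutator_le_coatom hM
  -- `q`-elements lie in `Q`
  have hqel : ∀ a : G, (∃ k : ℕ, a ^ q ^ k = 1) → a ∈ (Q : Subgroup G) := by
    rintro a ⟨k, hk⟩
    have hz : IsPGroup q (Subgroup.zpowers a) := by
      rintro ⟨z, hz⟩
      obtain ⟨i, rfl⟩ := Subgroup.mem_zpowers_iff.mp hz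
      refine ⟨k, Subtype.ext ?_⟩
      simp only [SubmonoidClass.coe_pow, OneMemClass.coe_one]
      rw [← zpow_natCast, ← zpow_mul, mul_comm, zpow_mul, zpow_natCast, hk, one_zpow]
    obtain ⟨T, hT⟩ := hz.exists_le_sylow
    obtain ⟨w, rfl⟩ := MulAction.exists_smul_eq G Q T
    rw [Sylow.smul_eq_of_normal] at hT
    exact hT (Subgroup.mem_zpowers a)
  obtain ⟨K, hK⟩ := Subgroup.exists_right_complement'_of_coprime Q.card_coprime_index
  have hKcard : Nat.card K = (Q : Subgroup G).index := hK.symm.index_eq_card.symm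
  have hKtop : K ≠ ⊤ := by
    intro he
    have := hK.card_mul_card
    rw [he, Subgroup.card_top] at this
    have hQ1 : Nat.card (Q : Subgroup G) = 1 := by
      have hp := Nat.card_pos (α := G)
      nlinarith
    exact Q.ne_bot_of_dvd_card hq (Subgroup.card_eq_one.mp hQ1)
  haveI hKnil : Group.IsNilpotent K := hsub K hKtop
  -- proper subgroups of `K` centralise `Q`
  have hcent : ∀ X : Subgroup G, X < K → X ≤ Subgroup.centralizer ((Q : Subgroup G) : Set G) := by
    intro X hX
    have hne : (Q : Subgroup G) ⊔ X ≠ ⊤ := by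
      intro he
      refine hX.not_ge fun k hk => ?_
      have hk' : k ∈ (Q : Subgroup G) ⊔ X := he ▸ Subgroup.mem_top k
      obtain ⟨a, ha, x, hx, rfl⟩ := Subgroup.mem_sup_of_normal_left.mp hk'
      have : a ∈ (Q : Subgroup G) ⊓ K :=
        Subgroup.mem_inf.mpr ⟨ha, by simpa using mul_mem hk (inv_mem (hX.le hx))⟩
      rw [hK.isCompl.inf_eq_bot, Subgroup.mem_bot] at this
      simpa [this] using hx
    haveI := hsub _ hne
    intro x hx
    rw [Subgroup.mem_centralizer_iff]
    intro a ha
    refine congrArg Subtype.val (Lib.Transfer.Frobenius.commute_of_coprime_of_isNilpotent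
      (G := ↥((Q : Subgroup G) ⊔ X)) (a := ⟨a, Subgroup.mem_sup_left ha⟩)
      (b := ⟨x, Subgroup.mem_sup_right hx⟩) ?_)
    rw [Subgroup.orderOf_mk, Subgroup.orderOf_mk]
    refine (Q.card_coprime_index.coprime_dvd_left (Subgroup.orderOf_dvd_natCard _ ha)).coprime_dvd_right ?_
    rw [← hKcard]
    exact Subgroup.orderOf_dvd_natCard _ (hX.le hx)
  have hKcyc : ∀ a b : K, a * b = b * a := by
    rcases eq_top_or_exists_le_coatom (⊥ : Subgroup K) with hb | ⟨M, hM, -⟩
    · exact fun a b => by
        have h1 : ∀ c : K, c = 1 := fun c => Subgroup.mem_bot.mp (hb ▸ Subgroup.mem_top c)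
        rw [h1 a, h1 b]
    by_cases huniq : ∀ M' : Subgroup K, IsCoatom M' → M' = M
    · obtain ⟨x, hx⟩ : ∃ x, x ∉ M := by
        by_contra hc; push_neg at hc; exact hM.1 ((Subgroup.eq_top_iff' M).mpr hc)
      rcases eq_top_or_exists_le_coatom (Subgroup.zpowers x) with ht | ⟨M', hM', hle⟩
      · intro a b
        obtain ⟨i, rfl⟩ := Subgroup.mem_zpowers_iff.mp (ht ▸ Subgroup.mem_top a : a ∈ Subgroup.zpowers x)
        obtain ⟨j, rfl⟩ := Subgroup.mem_zpowers_iff.mp (ht ▸ Subgroup.mem_top b : b ∈ Subgroup.zpowers x)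
        exact zpow_mul_comm x i j
      · exact absurd (huniq M' hM' ▸ hle (Subgroup.mem_zpowers x)) hx
    · push_neg at huniq
      obtain ⟨M', hM', hne⟩ := huniq
      exfalso
      apply hnn
      have hlt : ∀ N : Subgroup K, IsCoatom N → N.map K.subtype < K := fun N hN => by
        refine lt_of_le_of_ne (Subgroup.map_subtype_le N) fun he => hN.1 ?_
        apply Subgroup.map_injective K.subtype_injective
        rw [he, ← MonoidHom.range_eq_map, Subgroup.range_subtype]
      have hsup : M' ⊔ M = ⊤ := by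
        refine hM.2 _ (right_lt_sup.mpr fun hle => ?_)
        rcases hM'.le_iff.mp hle with h' | h'
        · exact hM.1 h'
        · exact hne h'.symm
      have hKC : K ≤ Subgroup.centralizer ((Q : Subgroup G) : Set G) := by
        have := congrArg (Subgroup.map K.subtype) hsup
        rw [Subgroup.map_sup, ← MonoidHom.range_eq_map, Subgroup.range_subtype] at this
        rw [← this]
        exact sup_le (hcent _ (hlt M' hM')) (hcent _ (hlt M hM))
      haveI : K.Normal := by
        rw [← Subgroup.normalizer_eq_top_iff, ← top_le_iff, ← hK.sup_eq_top, sup_le_iff]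
        exact ⟨(Subgroup.le_centralizer_iff.mp hKC).trans (Subgroup.centralizer_le_normalizer _),
          Subgroup.le_normalizer⟩
      have := Lib.Cores.isNilpotent_sup (H := (Q : Subgroup G)) (K := K) inferInstance hKnil
      rw [hK.sup_eq_top] at this
      exact Group.isNilpotent_top.mp this
  have hGQ : ∀ x y : G, ⁅x, y⁆ ∈ (Q : Subgroup G) := by
    intro x y
    rw [← QuotientGroup.eq_one_iff, ← QuotientGroup.mk'_apply, map_commutatorElement,
      commutatorElement_eq_one_iff_mul_comm]
    have hx : x ∈ (Q : Subgroup G) ⊔ K := hK.sup_eq_top ▸ Subgroup.mem_top x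
    have hy : y ∈ (Q : Subgroup G) ⊔ K := hK.sup_eq_top ▸ Subgroup.mem_top y
    obtain ⟨a, ha, k, hk, rfl⟩ := Subgroup.mem_sup_of_normal_left.mp hx
    obtain ⟨b, hb, l, hl, rfl⟩ := Subgroup.mem_sup_of_normal_left.mp hy
    set π := QuotientGroup.mk' (Q : Subgroup G)
    rw [map_mul π a k, map_mul π b l,
      show π a = 1 from (QuotientGroup.eq_one_iff a).mpr ha,
      show π b = 1 from (QuotientGroup.eq_one_iff b).mpr hb, one_mul, one_mul, ← map_mul, ← map_mul]
    exact congrArg π (congrArg Subtype.val (hKcyc ⟨k, hk⟩ ⟨l, hl⟩))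
  constructor
  · intro hcomm
    apply hnn
    have hle : commutator G ≤ frattini G :=
      ((Subgroup.Normal.quotient_commutative_iff_commutator_le).mp hcomm).trans hDfr
    have ht := (Group.isNilpotent_of_finite_tfae (G := G)).out 0 2
    rw [ht]
    intro M hM
    exact ⟨fun m hm g => by
      have h1 : ⁅g, m⁆ ∈ M := frattini_le_coatom hM
        (hle (Subgroup.commutator_mem_commutator (Subgroup.mem_top g) (Subgroup.mem_top m)))
      have h2 := mul_mem h1 hm
      rwa [commutatorElement_def, inv_mul_cancel_right] at h2⟩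
  · intro Kb hKb
    set X := Kb.comap (QuotientGroup.mk' D) with hX
    have hXne : X ≠ ⊤ := fun he => hKb (by
      rw [← Subgroup.map_comap_eq_self_of_surjective (QuotientGroup.mk'_surjective D) Kb, ← hX, he,
        Subgroup.map_top_of_surjective _ (QuotientGroup.mk'_surjective D)])
    haveI hXnil := hsub X hXne
    have key : ∀ x y : X, ⁅(x : G), (y : G)⁆ ∈ D := by
      intro x y
      obtain ⟨a, b, ha, hb, hab, -, hak, hbq⟩ :=
        Lib.Transfer.PResidual.exists_pPart_mul_pPrimePart (p := q) x (isOfFinOrder_of_finite _)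
      obtain ⟨a', b', ha', hb', hab', -, hak', hbq'⟩ :=
        Lib.Transfer.PResidual.exists_pPart_mul_pPrimePart (p := q) y (isOfFinOrder_of_finite _)
      have haQ : (a : G) ∈ (Q : Subgroup G) := hqel _ (hak.imp fun k hk => by
        simpa using congrArg Subtype.val hk)
      have haQ' : (a' : G) ∈ (Q : Subgroup G) := hqel _ (hak'.imp fun k hk => by
        simpa using congrArg Subtype.val hk)
      have hcop : ∀ u v : X, (∃ k, u ^ q ^ k = 1) → (orderOf v).Coprime q → Commute u v := by
        intro u v hu hv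
        obtain ⟨k, hk⟩ := hu
        obtain ⟨i, -, hi⟩ := (Nat.dvd_prime_pow Fact.out).mp (orderOf_dvd_of_pow_eq_one hk)
        exact Lib.Transfer.Frobenius.commute_of_coprime_of_isNilpotent (hi ▸ (hv.pow_right i).symm)
      have hbb : Commute b b' := by
        have h1 : ((⁅b, b'⁆ : X) : G) ∈ (Q : Subgroup G) := hGQ b b'
        have h2 : ⁅b, b'⁆ ∈ Cfsg.pResidual q X := by
          have hbm := Lib.Transfer.PResidual.mem_pResidual hbq
          have hbm' := Lib.Transfer.PResidual.mem_pResidual hbq'
          rw [commutatorElement_def]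
          exact mul_mem (mul_mem (mul_mem hbm hbm') (inv_mem hbm)) (inv_mem hbm')
        rw [← commutatorElement_eq_one_iff_commute]
        refine orderOf_eq_one_iff.mp (Nat.eq_one_of_dvd_coprimes
          (b := Nat.card (Q : Subgroup G)) ?_
          (Subgroup.orderOf_dvd_natCard _ h2)
          (by rw [← Subgroup.orderOf_coe]; exact Subgroup.orderOf_dvd_natCard _ h1))
        obtain ⟨m, hm⟩ := IsPGroup.iff_card.mp Q.isPGroup'
        rw [hm]
        exact (((Nat.Prime.coprime_iff_not_dvd Fact.out).mpr
          (Lib.Transfer.PResidual.hasNormalPComplement_iff_not_dvd.mp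
            Lib.Transfer.Frobenius.hasNormalPComplement_of_isNilpotent)).symm).pow_right m
      rw [← QuotientGroup.eq_one_iff, ← QuotientGroup.mk'_apply, map_commutatorElement,
        commutatorElement_eq_one_iff_mul_comm]
      set π := QuotientGroup.mk' D
      have hπ : ∀ u v : X, Commute u v → Commute (π u) (π v) := fun u v h =>
        (h.map X.subtype).map π
      have haa : Commute (π a) (π a') := by
        rw [← commutatorElement_eq_one_iff_commute, ← map_commutatorElement]
        refine (QuotientGroup.eq_one_iff _).mpr ?_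
        rw [hD]
        exact ⟨⁅(⟨a, haQ⟩ : (Q : Subgroup G)), ⟨a', haQ'⟩⁆,
          Subgroup.commutator_mem_commutator (Subgroup.mem_top _) (Subgroup.mem_top _), rfl⟩
      rw [← hab, ← hab', Subgroup.coe_mul, Subgroup.coe_mul, map_mul, map_mul]
      exact ((haa.mul_right (hπ _ _ (hcop a b' hak hbq'))).mul_left
        ((hπ _ _ (hcop a' b hak' hbq).symm).mul_right (hπ _ _ hbb))).eq
    refine ⟨⟨fun u v => ?_⟩⟩
    obtain ⟨u', hu'⟩ := QuotientGroup.mk'_surjective D (u : G ⧸ D)
    obtain ⟨v', hv'⟩ := QuotientGroup.mk'_surjective D (v : G ⧸ D)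
    have hu2 : u' ∈ X := by rw [hX, Subgroup.mem_comap, hu']; exact u.2
    have hv2 : v' ∈ X := by rw [hX, Subgroup.mem_comap, hv']; exact v.2
    refine Subtype.ext ?_
    show (u : G ⧸ D) * v = v * u
    rw [← hu', ← hv', ← commutatorElement_eq_one_iff_mul_comm, ← map_commutatorElement]
    exact (QuotientGroup.eq_one_iff _).mpr (key ⟨u', hu2⟩ ⟨v', hv2⟩)

end Cfsg.Agent.S0577
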