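import Cfsg.Statements.S0578
import Mathlib


set_option autoImplicit false
set_option linter.style.haveILetI false
open scoped commutatorElement
open Cfsg

namespace Cfsg.Agent.S0578

universe u

theorem aux (n : ℕ) : ∀ (G : Type u) [Group G] [Finite G], Nat.card G = n →
    (∀ A : Subgroup G, IsMulCommutative A →
      Subgroup.normalizer (A : Set G) = Subgroup.centralizer (A : Set G)) →
    IsMulCommutative G := by
  induction n using Nat.strong_induction_on with
  | _ n ih =>
    intro G _ _ hn h
    have hsub : ∀ H : Subgroup G, H ≠ ⊤ → IsMulCommutative H := by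
      intro H hH
      have hlt : Nat.card H < n := hn ▸ lt_of_le_of_ne
        (Subgroup.card_le_card_group H) (fun he => hH (Subgroup.eq_top_of_card_eq H he))
      refine ih _ hlt H rfl fun A hA => le_antisymm ?_ (Subgroup.centralizer_le_normalizer _)
      intro x hx
      have hA' : IsMulCommutative (A.map H.subtype) := inferInstance
      have hx' : (x : G) ∈ Subgroup.normalizer ((A.map H.subtype : Subgroup G) : Set G) :=
        Subgroup.le_normalizer_map H.subtype ⟨x, hx, rfl⟩
      rw [h _ hA', Subgroup.mem_centralizer_iff] at hx'
      rw [Subgroup.mem_centralizer_iff]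
      exact fun a ha => Subtype.ext (hx' a (Subgroup.mem_map_of_mem H.subtype ha))
    by_cases htriv : ∃ p : ℕ, p.Prime ∧ IsPGroup p G
    · obtain ⟨p, hp, hP⟩ := htriv
      haveI := Fact.mk hp
      haveI := hP.isNilpotent
      rcases eq_top_or_exists_le_coatom (⊥ : Subgroup G) with hb | ⟨M, hM, -⟩
      · haveI : Subsingleton G := subsingleton_of_forall_eq 1 fun x => by
          have : x ∈ (⊥ : Subgroup G) := hb ▸ Subgroup.mem_top x
          exact Subgroup.mem_bot.mp this
        exact ⟨⟨fun a b => Subsingleton.elim _ _⟩⟩
      haveI := Subgroup.NormalizerCondition.normal_of_coatom M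
        normalizerCondition_of_isNilpotent hM
      have hMc := hsub M hM.1
      have hcen : M ≤ Subgroup.center G := by
        have h1 := h M hMc
        rw [Subgroup.normalizer_eq_top, eq_comm, Subgroup.centralizer_eq_top_iff_subset] at h1
        exact h1
      obtain ⟨x, hx⟩ : ∃ x, x ∉ M := by
        by_contra hc; push_neg at hc; exact hM.1 ((Subgroup.eq_top_iff' M).mpr hc)
      have hgen : M ⊔ Subgroup.zpowers x = ⊤ :=
        hM.2 _ (left_lt_sup.mpr fun hle => hx (hle (Subgroup.mem_zpowers x)))
      have hxc : x ∈ Subgroup.center G := by
        rw [Subgroup.mem_center_iff]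
        intro g
        have hle : M ⊔ Subgroup.zpowers x ≤ Subgroup.centralizer {x} := by
          refine sup_le (fun m hm => ?_) ?_
          · rw [Subgroup.mem_centralizer_singleton_iff]
            exact (Subgroup.mem_center_iff.mp (hcen hm) x).symm
          · rw [Subgroup.zpowers_le, Subgroup.mem_centralizer_singleton_iff]
        rw [hgen] at hle
        exact Subgroup.mem_centralizer_singleton_iff.mp (hle (Subgroup.mem_top g))
      rw [← Subgroup.center_eq_top_iff]
      exact top_le_iff.mp (hgen ▸ sup_le hcen (Subgroup.zpowers_le.mpr hxc))
    · push_neg at htriv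
      have key : ∀ p : ℕ, p.Prime → ¬ p ∣ Nat.card (commutator G) := by
        intro p hp hd
        haveI := Fact.mk hp
        obtain ⟨P⟩ := (inferInstance : Nonempty (Sylow p G))
        have hne : (P : Subgroup G) ≠ ⊤ := fun ht => htriv p hp (by
          intro g
          have hg : g ∈ (P : Subgroup G) := ht ▸ Subgroup.mem_top g
          obtain ⟨k, hk⟩ := P.isPGroup' ⟨g, hg⟩
          exact ⟨k, by simpa using congrArg Subtype.val hk⟩)
        haveI hPc : IsMulCommutative (P : Subgroup G) := hsub _ hne
        have hP : Subgroup.normalizer ((P : Subgroup G) : Set G) ≤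
            Subgroup.centralizer ((P : Subgroup G) : Set G) := (h _ hPc).le
        refine MonoidHom.not_dvd_card_ker_transferSylow P hP (hd.trans
          (Subgroup.card_dvd_of_le ?_))
        rw [commutator_def, Subgroup.commutator_le]
        intro a _ b _
        rw [MonoidHom.mem_ker, map_commutatorElement, commutatorElement_eq_one_iff_commute]
        exact Subtype.ext ((P : Subgroup G).mul_comm_of_mem_isMulCommutative
          (MonoidHom.transferSylow P hP a).2 (MonoidHom.transferSylow P hP b).2)
      have hbot : commutator G = ⊥ := Subgroup.card_eq_one.mp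
        (Nat.eq_one_iff_not_exists_prime_dvd.mpr key)
      exact ⟨⟨fun a b => by
        rw [← commutatorElement_eq_one_iff_mul_comm, ← Subgroup.mem_bot, ← hbot]
        exact Subgroup.commutator_mem_commutator (Subgroup.mem_top a) (Subgroup.mem_top b)⟩⟩


/-- If in a finite group the normalizer of each abelian subgroup coincides with its centralizer, then the group is abelian. -/
theorem result {G : Type*} [Group G] [Finite G] (h : ∀ A : Subgroup G, IsMulCommutative A → Subgroup.normalizer (A : Set G) = Subgroup.centralizer (A : Set G)) : IsMulCommutative G := by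
  exact aux (Nat.card G) G rfl h

end Cfsg.Agent.S0578
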