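import Cfsg.Statements.S0580
import Mathlib


set_option autoImplicit false
set_option linter.style.haveILetI false
open Cfsg

namespace Cfsg.Agent.S0580

universe u

/-- For the largest prime, the Sylow subgroup is normal. -/
theorem sylow_normal {G : Type*} [Group G] [Finite G]
    (h : ∀ M : Subgroup G, IsCoatom M → M.index.Prime) {p : ℕ} [Fact p.Prime]
    (hmax : ∀ q : ℕ, q.Prime → q ∣ Nat.card G → q ≤ p) (P : Sylow p G) :
    (P : Subgroup G).Normal := by
  rcases eq_top_or_exists_le_coatom (Subgroup.normalizer ((P : Subgroup G) : Set G)) with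
    htop | ⟨M, hM, hle⟩
  · exact Subgroup.normalizer_eq_top_iff.mp htop
  exfalso
  have hPM : (P : Subgroup G) ≤ M := Subgroup.le_normalizer.trans hle
  have hr := h M hM
  set r := M.index
  have hrp : r ≠ p := by
    intro he
    have hd : r ∣ (P : Subgroup G).index := Subgroup.index_dvd_of_le hPM
    exact P.not_dvd_index ((dvd_of_eq he.symm).trans hd)
  have hr1 : r < p := lt_of_le_of_ne (hmax r hr M.index_dvd_card) hrp
  have h1 := card_sylow_modEq_one p G
  rw [Sylow.card_eq_index_normalizer P] at h1
  change (Subgroup.normalizer ((P : Subgroup G) : Set G)).index ≡ _ [MOD p] at h1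
  rw [← Subgroup.relIndex_mul_index hle] at h1
  have h2 := card_sylow_modEq_one p M
  rw [Sylow.card_eq_index_normalizer (P.subtype hPM)] at h2
  change (Subgroup.normalizer (((P.subtype hPM : Sylow p M) : Subgroup M) : Set M)).index ≡ _ [MOD p] at h2
  have h3 : (Subgroup.normalizer (((P.subtype hPM : Sylow p M) : Subgroup M) : Set M)) =
      (Subgroup.normalizer ((P : Subgroup G) : Set G)).subgroupOf M := by
    rw [Sylow.coe_subtype, Subgroup.subgroupOf_normalizer_eq hPM]
  rw [h3] at h2
  have h4 : r % p = 1 % p := by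
    have h5 := (Nat.ModEq.mul_right r h2).symm.trans h1
    rwa [one_mul] at h5
  rw [Nat.mod_eq_of_lt hr1, Nat.mod_eq_of_lt (Fact.out : p.Prime).one_lt] at h4
  exact hr.ne_one h4

theorem aux (n : ℕ) : ∀ (G : Type u) [Group G] [Finite G], Nat.card G = n →
    (∀ M : Subgroup G, IsCoatom M → M.index.Prime) → Group.IsSolvable G := by
  induction n using Nat.strong_induction_on with
  | _ n ih =>
    intro G _ _ hn h
    by_cases h1 : Nat.card G = 1
    · haveI := (Nat.card_eq_one_iff_unique.mp h1).1
      infer_instance
    obtain ⟨p, hp, hmax⟩ := Finset.exists_max_image (Nat.card G).primeFactors id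
      ⟨_, Nat.mem_primeFactors.mpr ⟨Nat.minFac_prime h1, Nat.minFac_dvd _, Nat.card_pos.ne'⟩⟩
    obtain ⟨hp, hpd, -⟩ := Nat.mem_primeFactors.mp hp
    simp only [id_eq] at hmax
    haveI := Fact.mk hp
    obtain ⟨P⟩ := (inferInstance : Nonempty (Sylow p G))
    haveI := sylow_normal h (fun q hq hd => hmax q (Nat.mem_primeFactors.mpr ⟨hq, hd, Nat.card_pos.ne'⟩)) P
    haveI := P.isPGroup'.isNilpotent
    have hlt : Nat.card (G ⧸ (P : Subgroup G)) < n := by
      rw [← hn, Subgroup.card_eq_card_quotient_mul_card_subgroup (P : Subgroup G)]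
      exact lt_mul_of_one_lt_right Nat.card_pos
        (Subgroup.one_lt_card_iff_ne_bot _ |>.mpr (P.ne_bot_of_dvd_card hpd))
    haveI := ih _ hlt _ rfl fun M hM => by
      have := h _ (Subgroup.isCoatom_comap_of_surjective (QuotientGroup.mk'_surjective _) hM)
      rwa [Subgroup.index_comap_of_surjective _ (QuotientGroup.mk'_surjective _)] at this
    exact (Group.isSolvable_iff_subgroup_quotient (P : Subgroup G)).mpr ⟨inferInstance, inferInstance⟩


/-- If every maximal subgroup of a finite group has prime index, then the group is solvable. -/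
theorem result {G : Type*} [Group G] [Finite G] (h : ∀ M : Subgroup G, IsCoatom M → M.index.Prime) : Group.IsSolvable G := by
  exact aux _ G rfl h

end Cfsg.Agent.S0580
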