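import Cfsg.Statements.S3998
import Mathlib.GroupTheory.SchurZassenhaus
import Mathlib.GroupTheory.Sylow
import Mathlib.GroupTheory.Solvable
import Mathlib.GroupTheory.SpecificGroups.Cyclic
import Mathlib.Algebra.Group.Subgroup.Finite

set_option autoImplicit false
open Cfsg

namespace Cfsg.Agent.S3998

universe u

/-- All prime divisors of the order are at least `t`. -/
def Upper {G : Type*} [Group G] (t : ℕ) (x : G) : Prop :=
  ∀ q : ℕ, q.Prime → q ∣ orderOf x → t ≤ q

/-- For every threshold the number of upper elements is the upper part of the group order. -/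
def TowerCount (G : Type*) [Group G] : Prop :=
  ∀ t : ℕ, ∃ m : ℕ, Nat.card {x : G // Upper t x} * m = Nat.card G ∧
    (∀ q : ℕ, q.Prime → q ∣ Nat.card {x : G // Upper t x} → t ≤ q) ∧
    ∀ q : ℕ, q.Prime → q ∣ m → q < t

theorem supersolvable_quotient {G : Type*} [Group G] (hG : Cfsg.IsSupersolvable G)
    (N : Subgroup G) [N.Normal] : Cfsg.IsSupersolvable (G ⧸ N) := by
  obtain ⟨n, H, h0, hl, hn, hstep⟩ := hG
  refine ⟨n, fun i => (H i).map (QuotientGroup.mk' N), by simp [h0], ?_,
    fun i => (hn i).map _ (QuotientGroup.mk'_surjective N), fun i => ?_⟩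
  · show (H (Fin.last n)).map (QuotientGroup.mk' N) = ⊤
    rw [hl, Subgroup.map_top_of_surjective _ (QuotientGroup.mk'_surjective N)]
  · obtain ⟨g, hg⟩ := hstep i
    exact ⟨QuotientGroup.mk' N g, by simp only [hg, Subgroup.map_sup, MonoidHom.map_zpowers]⟩

theorem exists_cyclic_normal {G : Type*} [Group G] (hG : Cfsg.IsSupersolvable G)
    [Nontrivial G] : ∃ g : G, g ≠ 1 ∧ (Subgroup.zpowers g).Normal := by
  obtain ⟨n, H, h0, hl, hn, hstep⟩ := hG
  by_contra hcon
  have : ∀ i, H i = ⊥ := by
    intro i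
    induction i using Fin.induction with
    | zero => exact h0
    | succ i ih =>
      obtain ⟨g, hg⟩ := hstep i
      rw [ih, bot_sup_eq] at hg
      rw [hg, Subgroup.zpowers_eq_bot]
      by_contra hg1
      exact hcon ⟨g, hg1, hg ▸ hn i.succ⟩
  exact bot_ne_top ((this (Fin.last n)).symm.trans hl)

theorem exists_prime_order_normal {G : Type*} [Group G] [Finite G] (hG : Cfsg.IsSupersolvable G)
    [Nontrivial G] : ∃ (p : ℕ) (P : Subgroup G), p.Prime ∧ Nat.card P = p ∧ P.Normal := by
  obtain ⟨g, hg1, hgn⟩ := exists_cyclic_normal hG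
  obtain ⟨p, hp, m, hm⟩ := Nat.exists_prime_and_dvd (show orderOf g ≠ 1 by simpa using hg1)
  refine ⟨p, Subgroup.zpowers (g ^ m), hp, ?_, ⟨fun x hx k => ?_⟩⟩
  · have hgo : 0 < orderOf g := orderOf_pos g
    rw [Nat.card_zpowers, orderOf_pow_of_dvd (by rintro rfl; simp_all) (hm ▸ dvd_mul_left m p)]
    rw [hm, Nat.mul_div_cancel]
    exact Nat.pos_of_ne_zero (by rintro rfl; simp_all)
  · obtain ⟨j, rfl⟩ := Subgroup.mem_zpowers_iff.1 hx
    obtain ⟨i, hi⟩ := Subgroup.mem_zpowers_iff.1
      (hgn.conj_mem g (Subgroup.mem_zpowers g) k)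
    refine Subgroup.mem_zpowers_iff.2 ⟨i * j, ?_⟩
    rw [← conj_zpow, ← conj_pow, ← hi, ← zpow_natCast, ← zpow_mul, ← zpow_natCast, ← zpow_mul,
      ← zpow_mul]
    congr 1
    ac_rfl

theorem exists_upper_subgroup : ∀ (n : ℕ) (G : Type u) [Group G] [Finite G],
    Nat.card G = n → Cfsg.IsSupersolvable G → ∀ t : ℕ,
      ∃ N : Subgroup G, ∀ x, x ∈ N ↔ Upper t x := by
  intro n
  induction n using Nat.strong_induction_on with
  | _ n ih =>
    intro G _ _ hn hG t
    rcases subsingleton_or_nontrivial G with h | h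
    · exact ⟨⊥, fun x => by
        rw [Subsingleton.elim x 1]
        simp only [one_mem, true_iff, Upper, orderOf_one]
        intro q hq hd
        exact absurd (Nat.eq_one_of_dvd_one hd) hq.ne_one⟩
    obtain ⟨p, P, hp, hPc, hPn⟩ := exists_prime_order_normal hG
    haveI := hPn
    have hlt : Nat.card (G ⧸ P) < n := by
      rw [← hn, Subgroup.card_eq_card_quotient_mul_card_subgroup P, hPc]
      exact lt_mul_of_one_lt_right Nat.card_pos hp.one_lt
    obtain ⟨Nb, hNb⟩ := ih _ hlt (G ⧸ P) rfl (supersolvable_quotient hG P) t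
    have himg : ∀ x : G, orderOf (x : G ⧸ P) ∣ orderOf x := fun x =>
      orderOf_map_dvd (QuotientGroup.mk' P) x
    have hback : ∀ x : G, orderOf x ∣ orderOf (x : G ⧸ P) * p := fun x => by
      rw [orderOf_dvd_iff_pow_eq_one, pow_mul]
      have hmem : x ^ orderOf (x : G ⧸ P) ∈ P := by
        rw [← QuotientGroup.eq_one_iff, QuotientGroup.mk_pow, pow_orderOf_eq_one]
      exact orderOf_dvd_iff_pow_eq_one.1 (hPc ▸ Subgroup.orderOf_dvd_natCard P hmem)
    by_cases hpt : t ≤ p
    · refine ⟨Nb.comap (QuotientGroup.mk' P), fun x => ?_⟩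
      rw [Subgroup.mem_comap, QuotientGroup.mk'_apply, hNb]
      refine ⟨fun h q hq hd => ?_, fun h q hq hd => h q hq (hd.trans (himg x))⟩
      rcases hq.dvd_mul.1 (hd.trans (hback x)) with h' | h'
      · exact h q hq h'
      · rw [(Nat.prime_dvd_prime_iff_eq hq hp).1 h']; exact hpt
    replace hpt : p < t := Nat.lt_of_not_le hpt
    haveI : Fact p.Prime := ⟨hp⟩
    let K := Nb.comap (QuotientGroup.mk' P)
    have hPK : P ≤ K := fun a ha => by
      rw [Subgroup.mem_comap, QuotientGroup.mk'_apply, (QuotientGroup.eq_one_iff a).2 ha]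
      exact one_mem _
    let f : K →* Nb := (QuotientGroup.mk' P).subgroupComap Nb
    have hf : Function.Surjective f :=
      MonoidHom.subgroupComap_surjective_of_surjective _ _ (QuotientGroup.mk'_surjective P)
    have hfker : f.ker = P.subgroupOf K := by
      ext x
      rw [MonoidHom.mem_ker, Subgroup.mem_subgroupOf, ← QuotientGroup.eq_one_iff]
      exact Subtype.ext_iff
    have hkerc : Nat.card (P.subgroupOf K) = p := by
      rw [Nat.card_congr (Subgroup.subgroupOfEquivOfLe hPK).toEquiv, hPc]
    have hidx : f.ker.index = Nat.card Nb := by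
      rw [Subgroup.index_ker, f.range_eq_top.2 hf, Subgroup.card_top]
    have hpN : ∀ q : ℕ, q.Prime → q ∣ Nat.card Nb → t ≤ q := by
      intro q hq hd
      haveI : Fact q.Prime := ⟨hq⟩
      obtain ⟨x, hx⟩ := exists_prime_orderOf_dvd_card' q hd
      exact (hNb x).1 x.2 q hq (by rw [Subgroup.orderOf_coe, hx])
    have hcop : Nat.Coprime (Nat.card (P.subgroupOf K)) (P.subgroupOf K).index := by
      rw [hkerc, ← hfker, hidx, hp.coprime_iff_not_dvd]
      intro hd
      exact absurd (hpN p hp hd) (by omega)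
    obtain ⟨C, hC⟩ := Subgroup.exists_right_complement'_of_coprime hcop
    have hCc : Nat.card C = Nat.card Nb := by
      rw [← hC.symm.index_eq_card, ← hfker, hidx]
    have hCup : ∀ c : K, c ∈ C → Upper t c := by
      intro c hc q hq hd
      exact hpN q hq (hCc ▸ hd.trans (Subgroup.orderOf_dvd_natCard C hc))
    haveI : IsCyclic P := isCyclic_of_prime_card hPc
    have hcomm : ∀ c : K, c ∈ C → ∀ a ∈ P, (c : G) * a = a * c := by
      intro c hc a ha
      have hone : MulAut.conjNormal (H := P) (c : G) = 1 := by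
        rw [← orderOf_eq_one_iff]
        by_contra hne
        obtain ⟨q, hq, hqd⟩ := Nat.exists_prime_and_dvd hne
        have h1 : q ∣ orderOf (c : G) := hqd.trans (orderOf_map_dvd _ _)
        rw [Subgroup.orderOf_coe] at h1
        have h2 : q ∣ p - 1 := by
          have := hqd.trans (orderOf_dvd_natCard _)
          rwa [IsCyclic.card_mulAut, hPc, Nat.totient_prime hp] at this
        have := hCup c hc q hq h1
        have := Nat.le_of_dvd (by have := hp.two_le; omega) h2
        omega
      have := congrArg (fun φ : MulAut P => ((φ ⟨a, ha⟩ : P) : G)) hone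
      simp only [MulAut.conjNormal_apply, MulAut.one_apply] at this
      exact mul_inv_eq_iff_eq_mul.1 this
    refine ⟨C.map K.subtype, fun x => ⟨?_, fun hx => ?_⟩⟩
    · rintro ⟨c, hc, rfl⟩ q hq hd
      rw [Subgroup.coe_subtype, Subgroup.orderOf_coe] at hd
      exact hCup c hc q hq hd
    · have hxK : x ∈ K := by
        rw [Subgroup.mem_comap, QuotientGroup.mk'_apply, hNb]
        exact fun q hq hd => hx q hq (hd.trans (himg x))
      obtain ⟨⟨a, c⟩, hac, -⟩ := hC.existsUnique ⟨x, hxK⟩
      refine ⟨c, c.2, ?_⟩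
      simp only at hac
      have hxe : x = (a : K) * ((c : K) : G) := by
        rw [← Subgroup.coe_mul, hac]
      have hco : Commute ((a : K) : G) ((c : K) : G) := (hcomm c c.2 _ a.2).symm
      have hpow : ((a : K) : G) ^ orderOf x * ((c : K) : G) ^ orderOf x = 1 := by
        rw [← hco.mul_pow, ← hxe, pow_orderOf_eq_one]
      have hmem : (a : K) ^ orderOf x ∈ C := by
        have : (a : K) ^ orderOf x = ((c : K) ^ orderOf x)⁻¹ := by
          apply Subtype.ext
          push_cast
          exact eq_inv_of_mul_eq_one_left hpow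
        rw [this]; exact inv_mem (pow_mem c.2 _)
      have h1 : (a : K) ^ orderOf x = 1 :=
        Subgroup.disjoint_def.1 hC.disjoint (pow_mem a.2 _) hmem
      have h2 : orderOf (a : K) ∣ p := hkerc ▸ Subgroup.orderOf_dvd_natCard _ a.2
      have ha1 : (a : K) = 1 := by
        rcases (Nat.dvd_prime hp).1 h2 with h3 | h3
        · exact orderOf_eq_one_iff.1 h3
        · exfalso
          have := hx p hp (h3 ▸ orderOf_dvd_of_pow_eq_one h1)
          omega
      rw [hxe, ha1]; simp

theorem towerCount_of_supersolvable {G : Type u} [Group G] [Finite G]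
    (hG : Cfsg.IsSupersolvable G) : TowerCount G := by
  intro t
  obtain ⟨N, hN⟩ := exists_upper_subgroup _ G rfl hG t
  have hc : Nat.card {x : G // Upper t x} = Nat.card N :=
    Nat.card_congr (Equiv.subtypeEquivRight fun x => (hN x).symm)
  rw [hc]
  refine ⟨N.index, N.card_mul_index, fun q hq hd => ?_, fun q hq hd => ?_⟩
  · haveI : Fact q.Prime := ⟨hq⟩
    obtain ⟨x, hx⟩ := exists_prime_orderOf_dvd_card' q hd
    exact (hN x).1 x.2 q hq (by rw [Subgroup.orderOf_coe, hx])
  · by_contra hlt
    haveI : Fact q.Prime := ⟨hq⟩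
    obtain ⟨S⟩ : Nonempty (Sylow q G) := inferInstance
    have hSN : (S : Subgroup G) ≤ N := by
      intro x hx
      rw [hN]
      intro r hr hrd
      obtain ⟨k, hk⟩ := IsPGroup.iff_orderOf.1 S.2 ⟨x, hx⟩
      have h' : r ∣ q ^ k := by rw [← hk, ← Subgroup.orderOf_coe]; exact hrd
      rw [(Nat.prime_dvd_prime_iff_eq hr hq).1 (hr.dvd_of_dvd_pow h')]
      omega
    exact S.not_dvd_index (hd.trans (Subgroup.index_dvd_of_le hSN))

theorem solvable_of_towerCount : ∀ (n : ℕ) (H : Type u) [Group H] [Finite H],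
    Nat.card H = n → TowerCount H → Group.IsSolvable H := by
  intro n
  induction n using Nat.strong_induction_on with
  | _ n ih =>
    intro H _ _ hn hH
    rcases subsingleton_or_nontrivial H with h | h
    · infer_instance
    obtain ⟨p, hpS, hpmax⟩ := Finset.exists_max_image (Nat.card H).primeFactors id
      (Nat.nonempty_primeFactors.2 Finite.one_lt_card)
    obtain ⟨hp, hpd, -⟩ := Nat.mem_primeFactors.1 hpS
    haveI : Fact p.Prime := ⟨hp⟩
    have hle : ∀ q : ℕ, q.Prime → q ∣ Nat.card H → q ≤ p := fun q hq hd =>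
      hpmax q (Nat.mem_primeFactors.2 ⟨hq, hd, Nat.card_pos.ne'⟩)
    obtain ⟨P⟩ : Nonempty (Sylow p H) := inferInstance
    obtain ⟨m, hm, hup, -⟩ := hH p
    have hPup : ∀ x ∈ (P : Subgroup H), Upper p x := by
      intro x hx r hr hrd
      obtain ⟨k, hk⟩ := IsPGroup.iff_orderOf.1 P.2 ⟨x, hx⟩
      have h' : r ∣ p ^ k := by rw [← hk, ← Subgroup.orderOf_coe]; exact hrd
      rw [(Nat.prime_dvd_prime_iff_eq hr hp).1 (hr.dvd_of_dvd_pow h')]
    obtain ⟨k, hk⟩ : ∃ k, Nat.card {x : H // Upper p x} = p ^ k := by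
      haveI : Nonempty {x : H // Upper p x} := ⟨⟨1, hPup 1 (one_mem _)⟩⟩
      refine ⟨_, Nat.eq_prime_pow_of_unique_prime_dvd Nat.card_pos.ne' fun {q} hq hd => ?_⟩
      exact le_antisymm (hle q hq (hd.trans (hm ▸ dvd_mul_right _ _))) (hup q hq hd)
    have hall : ∀ x : H, Upper p x → x ∈ (P : Subgroup H) := by
      have hsub : {x : H | x ∈ (P : Subgroup H)} ⊆ {x : H | Upper p x} := hPup
      have hcard : {x : H | Upper p x}.ncard ≤ {x : H | x ∈ (P : Subgroup H)}.ncard := by
        rw [← Nat.card_coe_set_eq, ← Nat.card_coe_set_eq]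
        show Nat.card {x : H // Upper p x} ≤ Nat.card (P : Subgroup H)
        rw [hk, P.card_eq_multiplicity]
        refine Nat.pow_le_pow_right hp.pos ?_
        rw [← hp.pow_dvd_iff_le_factorization Nat.card_pos.ne', ← hk]
        exact hm ▸ dvd_mul_right _ _
      intro x hx
      have := Set.eq_of_subset_of_ncard_le hsub hcard
      have hx' : x ∈ {x : H | Upper p x} := hx
      rw [← this] at hx'
      exact hx'
    haveI hPn : (P : Subgroup H).Normal := by
      refine ⟨fun x hx g => hall _ fun q hq hd => ?_⟩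
      exact hPup x hx q hq (by rwa [← MulAut.conj_apply, MulEquiv.orderOf_eq] at hd)
    have hpP : p ∣ Nat.card (P : Subgroup H) := P.dvd_card_of_dvd_card hpd
    have hlt : Nat.card (H ⧸ (P : Subgroup H)) < n := by
      rw [← hn, Subgroup.card_eq_card_quotient_mul_card_subgroup (P : Subgroup H)]
      exact lt_mul_of_one_lt_right Nat.card_pos (hp.one_lt.trans_le (Nat.le_of_dvd Nat.card_pos hpP))
    have hsolP : Group.IsSolvable (P : Subgroup H) := by
      haveI := P.2.isNilpotent
      infer_instance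
    suffices hQ : TowerCount (H ⧸ (P : Subgroup H)) by
      haveI := hsolP
      haveI := ih _ hlt _ rfl hQ
      exact solvable_of_ker_le_range (P : Subgroup H).subtype (QuotientGroup.mk' (P : Subgroup H))
        (by simp)
    intro t
    have hcardH := Subgroup.card_eq_card_quotient_mul_card_subgroup (P : Subgroup H)
    by_cases htp : t ≤ p
    · obtain ⟨m, hm, hup, hdown⟩ := hH t
      have heq : ∀ x : H, Upper t x ↔ Upper t (x : H ⧸ (P : Subgroup H)) := by
        intro x
        refine ⟨fun hx q hq hd => hx q hq (hd.trans (orderOf_map_dvd (QuotientGroup.mk' _) x)),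
          fun hx q hq hd => ?_⟩
        have hmem : x ^ orderOf (x : H ⧸ (P : Subgroup H)) ∈ (P : Subgroup H) := by
          rw [← QuotientGroup.eq_one_iff, QuotientGroup.mk_pow, pow_orderOf_eq_one]
        have hdv : orderOf x ∣ orderOf (x : H ⧸ (P : Subgroup H)) * Nat.card (P : Subgroup H) := by
          rw [orderOf_dvd_iff_pow_eq_one, pow_mul]
          exact orderOf_dvd_iff_pow_eq_one.1 (Subgroup.orderOf_dvd_natCard _ hmem)
        rcases hq.dvd_mul.1 (hd.trans hdv) with h' | h'
        · exact hx q hq h'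
        · rw [P.card_eq_multiplicity] at h'
          rw [(Nat.prime_dvd_prime_iff_eq hq hp).1 (hq.dvd_of_dvd_pow h')]
          exact htp
      have hc : Nat.card {x : H // Upper t x} = Nat.card (P : Subgroup H) *
          Nat.card {y : H ⧸ (P : Subgroup H) // Upper t y} := by
        rw [← Nat.card_prod]
        refine Nat.card_congr ((Equiv.subtypeEquivRight heq).trans ?_)
        exact QuotientGroup.preimageMkEquivSubgroupProdSet (P : Subgroup H) {y | Upper t y}
      refine ⟨m, ?_, fun q hq hd => hup q hq (hc ▸ hd.mul_left _), hdown⟩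
      apply Nat.eq_of_mul_eq_mul_left (Nat.card_pos (α := (P : Subgroup H)))
      rw [← mul_assoc, ← hc, hm, hcardH, mul_comm]
    · have hqle : ∀ q : ℕ, q.Prime → q ∣ Nat.card (H ⧸ (P : Subgroup H)) → q < t := by
        intro q hq hd
        have := hle q hq (hd.trans ⟨_, hcardH⟩)
        omega
      have h1 : Nat.card {y : H ⧸ (P : Subgroup H) // Upper t y} = 1 := by
        rw [Nat.card_eq_one_iff_exists]
        refine ⟨⟨1, fun q hq hd => absurd (by rwa [orderOf_one, Nat.dvd_one] at hd) hq.ne_one⟩, ?_⟩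
        rintro ⟨y, hy⟩
        apply Subtype.ext
        rw [← orderOf_eq_one_iff]
        by_contra hne
        obtain ⟨q, hq, hd⟩ := Nat.exists_prime_and_dvd hne
        have := hy q hq hd
        have := hqle q hq (hd.trans (orderOf_dvd_natCard _))
        omega
      rw [TowerCount] at *
      exact ⟨_, by rw [h1, one_mul], fun q hq hd => absurd (h1 ▸ hd) hq.not_dvd_one, hqle⟩


/-- Let G and H be finite groups with the same order type (for every m the same number of elements of order m). If G is supersolvable then H is solvable. -/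
theorem result {G H : Type*} [Group G] [Finite G] [Group H] [Finite H] (hT : (∀ m : ℕ, Nat.card {g : G // orderOf g = m} = Nat.card {h : H // orderOf h = m})) (hG : Cfsg.IsSupersolvable G) :
    Group.IsSolvable H := by
  classical
  have hfib : ∀ m : ℕ, Nonempty ({g : G // orderOf g = m} ≃ {h : H // orderOf h = m}) :=
    fun m => (Finite.card_eq.1 (hT m))
  let e : G ≃ H := Equiv.ofFiberEquiv fun m => (hfib m).some
  have he : ∀ g, orderOf (e g) = orderOf g := fun g =>
    Equiv.ofFiberEquiv_map (fun m => (hfib m).some) g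
  refine solvable_of_towerCount _ H rfl fun t => ?_
  obtain ⟨m, hm⟩ := towerCount_of_supersolvable hG t
  refine ⟨m, ?_⟩
  rwa [← Nat.card_congr e, ← Nat.card_congr (e.subtypeEquiv (p := Upper t) (q := Upper t)
    fun g => by simp only [Upper, he])]

end Cfsg.Agent.S3998
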