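import Cfsg.Statements.S0582
import Mathlib
import Cfsg.Agent.S3998


set_option autoImplicit false
set_option linter.style.haveILetI false
open Pointwise
open Cfsg

namespace Cfsg.Agent.S0582

open scoped Pointwise

universe u

theorem sylow_max_normal {H : Type u} [Group H] [Finite H] (hH : Cfsg.IsSupersolvable H) {q : ℕ}
    [Fact q.Prime] (hmax : ∀ d : ℕ, d.Prime → d ∣ Nat.card H → d ≤ q) (S : Sylow q H) :
    (S : Subgroup H).Normal := by
  obtain ⟨N, hN⟩ := S3998.exists_upper_subgroup _ H rfl hH q
  have hNp : IsPGroup q N := by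
    refine IsPGroup.of_card (n := _)
      (Nat.eq_prime_pow_of_unique_prime_dvd Nat.card_pos.ne' fun {d} hd hdd => ?_)
    haveI := Fact.mk hd
    obtain ⟨x, hx⟩ := exists_prime_orderOf_dvd_card' d hdd
    rw [← Subgroup.orderOf_coe] at hx
    exact le_antisymm (hmax d hd (hdd.trans (Subgroup.card_subgroup_dvd_card N)))
      ((hN x).mp x.2 d hd (by rw [hx]))
  have hSN : (S : Subgroup H) ≤ N := fun x hx => by
    refine (hN x).mpr fun d hd hdd => le_of_eq ?_
    obtain ⟨k, hk⟩ := IsPGroup.iff_orderOf.mp S.isPGroup' ⟨x, hx⟩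
    rw [Subgroup.orderOf_mk] at hk
    rw [hk] at hdd
    exact ((Nat.prime_dvd_prime_iff_eq hd Fact.out).mp (hd.dvd_of_dvd_pow hdd)).symm
  rw [← S.is_maximal' hNp hSN]
  constructor
  intro x hx g
  rw [hN] at hx ⊢
  intro d hd hdd
  refine hx d hd ?_
  rwa [show g * x * g⁻¹ = MulAut.conj g x from rfl, MulEquiv.orderOf_eq] at hdd

theorem supersolvable_map {A B : Type u} [Group A] [Group B] (f : A →* B)
    (hf : Function.Surjective f) (hA : Cfsg.IsSupersolvable A) : Cfsg.IsSupersolvable B := by
  obtain ⟨n, H, h0, hl, hn, hstep⟩ := hA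
  refine ⟨n, fun i => (H i).map f, by simp [h0],
    by simp only [hl]; exact Subgroup.map_top_of_surjective f hf,
    fun i => (hn i).map f hf, fun i => ?_⟩
  obtain ⟨g, hg⟩ := hstep i
  exact ⟨f g, by simp only [hg, Subgroup.map_sup, MonoidHom.map_zpowers]⟩

theorem aux : ∀ (n : ℕ) {G : Type u} [Group G] [Finite G] (H K : Subgroup G), Nat.card H = n →
    Cfsg.IsSupersolvable H → Cfsg.IsSupersolvable K → Nat.card H = Nat.card K →
    (Nat.card H).Coprime H.index → ∃ x : G, MulAut.conj x • H = K := by
  intro n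
  induction n using Nat.strong_induction_on with
  | _ n ih =>
    intro G _ _ H K hn hH hK hcard hHall
    by_cases h1 : Nat.card H = 1
    · refine ⟨1, ?_⟩
      rw [map_one, one_smul, Subgroup.card_eq_one.mp h1,
        Subgroup.card_eq_one.mp (hcard.symm.trans h1)]
    obtain ⟨q, hq, hmax⟩ := Finset.exists_max_image (Nat.card H).primeFactors id
      ⟨_, Nat.mem_primeFactors.mpr ⟨Nat.minFac_prime h1, Nat.minFac_dvd _, Nat.card_pos.ne'⟩⟩
    obtain ⟨hq, hqd, -⟩ := Nat.mem_primeFactors.mp hq
    simp only [id_eq] at hmax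
    haveI := Fact.mk hq
    have hKidx : K.index = H.index := by
      have h2 := (K.card_mul_index).trans H.card_mul_index.symm
      rw [← hcard] at h2
      exact Nat.eq_of_mul_eq_mul_left Nat.card_pos h2
    have hqi : ¬ q ∣ H.index := fun hd => hq.not_dvd_one (hHall.gcd_eq_one ▸ Nat.dvd_gcd hqd hd)
    -- a normal Sylow subgroup of `G` in each
    have key : ∀ X : Subgroup G, Cfsg.IsSupersolvable X → Nat.card X = Nat.card H →
        X.index = H.index → ∃ R : Sylow q G, (R : Subgroup G) ≤ X ∧
          X ≤ Subgroup.normalizer ((R : Subgroup G) : Set G) := by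
      intro X hX hXc hXi
      obtain ⟨S⟩ := (inferInstance : Nonempty (Sylow q X))
      haveI := sylow_max_normal hX (fun d hd hdd => hmax d (Nat.mem_primeFactors.mpr
        ⟨hd, hXc ▸ hdd, Nat.card_pos.ne'⟩)) S
      refine ⟨(S.isPGroup'.map X.subtype).toSylow ?_, Subgroup.map_subtype_le _, ?_⟩
      · rw [Subgroup.index_map_subtype]
        exact hq.not_dvd_mul S.not_dvd_index (hXi ▸ hqi)
      · show X ≤ Subgroup.normalizer (((S : Subgroup X).map X.subtype : Subgroup G) : Set G)
        refine le_trans ?_ (Subgroup.le_normalizer_map X.subtype)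
        rw [Subgroup.normalizer_eq_top, ← MonoidHom.range_eq_map, Subgroup.range_subtype]
    obtain ⟨R, hRH, hHR⟩ := key H hH rfl rfl
    obtain ⟨R', hR'K, hKR'⟩ := key K hK hcard.symm hKidx
    obtain ⟨g, hg⟩ := MulAction.exists_smul_eq G R' R
    set K' := MulAut.conj g • K with hK'
    have hg' : MulAut.conj g • (R' : Subgroup G) = R := by rw [← hg]; rfl
    have hRK : (R : Subgroup G) ≤ K' := by
      rw [← hg']; exact Subgroup.pointwise_smul_le_pointwise_smul_iff.mpr hR'K
    have hK'R : K' ≤ Subgroup.normalizer ((R : Subgroup G) : Set G) := by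
      rintro _ ⟨k, hk, rfl⟩
      rw [← hg']
      exact Subgroup.le_normalizer_map (MulAut.conj g).toMonoidHom ⟨k, hKR' hk, rfl⟩
    set N := Subgroup.normalizer ((R : Subgroup G) : Set G)
    set π := QuotientGroup.mk' ((R : Subgroup G).subgroupOf N)
    set H₁ := (H.subgroupOf N).map π
    set K₁ := (K'.subgroupOf N).map π
    have hsup : ∀ X : Subgroup G, X ≤ N → Cfsg.IsSupersolvable X →
        Cfsg.IsSupersolvable ((X.subgroupOf N).map π) := fun X hX hXs =>
      supersolvable_map ((π.subgroupMap (X.subgroupOf N)).comp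
          (Subgroup.subgroupOfEquivOfLe hX).symm.toMonoidHom)
        ((π.subgroupMap_surjective _).comp (Subgroup.subgroupOfEquivOfLe hX).symm.surjective) hXs
    have hK's : Cfsg.IsSupersolvable K' :=
      supersolvable_map (K.equivMapOfInjective (MulAut.conj g).toMonoidHom
        (MulEquiv.injective _)).toMonoidHom (MulEquiv.surjective _) hK
    have hcardq : ∀ X : Subgroup G, (R : Subgroup G) ≤ X → X ≤ N →
        Nat.card ((X.subgroupOf N).map π) * Nat.card (R : Subgroup G) = Nat.card X := by
      intro X hRX hX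
      rw [← Subgroup.relIndex_ker, QuotientGroup.ker_mk', Subgroup.relIndex_subgroupOf hX]
      have h2 := Subgroup.relIndex_mul_relIndex ⊥ (R : Subgroup G) X bot_le hRX
      rwa [Subgroup.relIndex_bot_left, Subgroup.relIndex_bot_left, mul_comm] at h2
    have hK'card : Nat.card K' = Nat.card H := by
      rw [hcard]; exact Subgroup.card_map_of_injective (MulEquiv.injective _)
    have hH₁ := hcardq H hRH hHR
    have hK₁ := hcardq K' hRK hK'R
    have hRgt : 1 < Nat.card (R : Subgroup G) :=
      (Subgroup.one_lt_card_iff_ne_bot _).mpr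
        (R.ne_bot_of_dvd_card (hqd.trans (Subgroup.card_subgroup_dvd_card H)))
    obtain ⟨x, hx⟩ := ih (Nat.card H₁) (by
        rw [← hn, ← hH₁]; exact lt_mul_of_one_lt_right Nat.card_pos hRgt) H₁ K₁ rfl
      (hsup H hHR hH) (hsup K' hK'R hK's)
      (Nat.eq_of_mul_eq_mul_right Nat.card_pos (hH₁.trans (hK'card.symm.trans hK₁.symm)))
      (by
        have hidx : H₁.index = (H.subgroupOf N).index := by
          refine Subgroup.index_map_eq _ (QuotientGroup.mk'_surjective _) ?_
          rw [QuotientGroup.ker_mk']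
          exact fun y hy => hRH hy
        rw [hidx]
        exact (hHall.coprime_dvd_left (hH₁ ▸ Dvd.intro _ rfl)).coprime_dvd_right
          (Subgroup.relIndex_dvd_index_of_le hHR))
    obtain ⟨⟨m, hm⟩, rfl⟩ := QuotientGroup.mk'_surjective _ x
    refine ⟨g⁻¹ * m, ?_⟩
    suffices hkey : MulAut.conj m • H = K' by
      rw [map_mul, mul_smul, hkey, hK', ← mul_smul, ← map_mul, inv_mul_cancel, map_one, one_smul]
    refine Subgroup.eq_of_le_of_card_ge ?_ ?_
    · rintro _ ⟨y, hy, rfl⟩
      have h2 : π ⟨m, hm⟩ * π ⟨y, hHR hy⟩ * (π ⟨m, hm⟩)⁻¹ ∈ K₁ := by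
        rw [← hx]
        exact ⟨_, Subgroup.mem_map_of_mem π (show (⟨y, hHR hy⟩ : N) ∈ H.subgroupOf N from hy), rfl⟩
      rw [← map_inv, ← map_mul, ← map_mul] at h2
      obtain ⟨k, hk, hkeq⟩ := h2
      have h3 := QuotientGroup.eq.mp hkeq
      rw [Subgroup.mem_subgroupOf] at h3
      have := mul_mem (show (k : G) ∈ K' from hk) (hRK h3)
      simpa [mul_assoc] using this
    · rw [hK'card]; exact (Subgroup.card_map_of_injective (MulEquiv.injective _)).ge


/-- Let H and K be supersolvable subgroups of a finite group G of the same order, that order being coprime to their index. Then H and K are conjugate in G. -/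
theorem result {G : Type*} [Group G] [Finite G] (H K : Subgroup G) (hH : Cfsg.IsSupersolvable H) (hK : Cfsg.IsSupersolvable K) (hcard : Nat.card H = Nat.card K) (hHall : (Nat.card H).Coprime H.index) : ∃ x : G, MulAut.conj x • H = K := by
  exact aux _ H K rfl hH hK hcard hHall

end Cfsg.Agent.S0582
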