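import Cfsg.Statements.S0583
import Mathlib


set_option autoImplicit false
set_option linter.style.haveILetI false
open scoped commutatorElement
open Cfsg

namespace Cfsg.Agent.S0583

/-- In a finite group the Fitting subgroup is contained in the centralizer of each minimal normal subgroup. -/
theorem result {G : Type*} [Group G] [Finite G] (M : Subgroup G) [M.Normal] (hM : M ≠ ⊥) (hmin : ∀ K : Subgroup G, K.Normal → K ≤ M → K = ⊥ ∨ K = M) : Cfsg.fittingSubgroup G ≤ Subgroup.centralizer (M : Set G) := by
  refine sSup_le fun N ⟨hN, hnil⟩ => ?_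
  haveI : (⁅M, N⁆ : Subgroup G).Normal := inferInstance
  rcases hmin ⁅M, N⁆ inferInstance (Subgroup.commutator_le_left M N) with hb | hb
  · rw [Subgroup.commutator_comm, Subgroup.commutator_eq_bot_iff_le_centralizer] at hb
    exact hb
  · exfalso
    have hMN : M ≤ N := hb.ge.trans (Subgroup.commutator_le_right M N)
    have hall : ∀ n, M ≤ N.lowerCentralSeries n := by
      intro n
      induction n with
      | zero => simpa using hMN
      | succ n ih =>
        rw [Subgroup.lowerCentralSeries_succ]
        exact hb.ge.trans (Subgroup.commutator_mono ih le_rfl)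
    haveI := hnil
    obtain ⟨n, hn⟩ : ∃ n, N.lowerCentralSeries n = ⊥ := by
      obtain ⟨n, hn⟩ := Subgroup.nilpotent_iff_lowerCentralSeries.mp hnil
      refine ⟨n, ?_⟩
      rw [← Subgroup.top_subtype_lowerCentralSeries, hn, Subgroup.map_bot]
    exact hM (le_bot_iff.mp (hn ▸ hall n))

end Cfsg.Agent.S0583
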