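import Cfsg.Statements.S0584
import Mathlib


set_option autoImplicit false
set_option linter.style.haveILetI false
open scoped commutatorElement
open Cfsg

namespace Cfsg.Agent.S0584

/-- Let B ≤ A be normal subgroups of a finite group G with B contained in the Frattini subgroup of G. If A modulo B is nilpotent then A is nilpotent. -/
theorem result {G : Type*} [Group G] [Finite G] (A B : Subgroup G) [A.Normal] [B.Normal] (hBA : B ≤ A) (hB : B ≤ frattini G) (h : Group.IsNilpotent (↥A ⧸ B.subgroupOf A)) : Group.IsNilpotent A := by
  have hq := (Group.isNilpotent_of_finite_tfae (G := A)).out 0 3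
  rw [hq]; clear hq
  intro p hp P
  haveI := Fact.mk hp.out
  set B' := B.subgroupOf A
  haveI : B'.Normal := inferInstance
  haveI := h
  set π := QuotientGroup.mk' B'
  have hsurj : Function.Surjective π := QuotientGroup.mk'_surjective B'
  set X := ((P : Subgroup A).map π).comap π with hX
  haveI : ((P : Subgroup A).map π).Normal := by
    have := (inferInstance : ((Sylow.mapSurjective hsurj P : Sylow p (↥A ⧸ B')) :
      Subgroup (↥A ⧸ B')).Normal)
    exact this
  haveI : X.Normal := Subgroup.Normal.comap inferInstance π
  have hPX : (P : Subgroup A) ≤ X := Subgroup.le_comap_map π _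
  have hA : ∀ a : A, (a : G) ∈ Subgroup.normalizer
      (((P : Subgroup A).map A.subtype : Subgroup G) : Set G) ⊔ B := by
    intro a
    have h1 := Sylow.normalizer_sup_eq_top (N := X) (P.subtype hPX)
    have h2 : ((P.subtype hPX : Sylow p X) : Subgroup X).map X.subtype = (P : Subgroup A) := by
      rw [Sylow.coe_subtype, Subgroup.map_subgroupOf_eq_of_le hPX]
    rw [h2] at h1
    have ha : a ∈ Subgroup.normalizer ((P : Subgroup A) : Set A) ⊔ X := h1 ▸ Subgroup.mem_top a
    have hle : X ≤ Subgroup.normalizer ((P : Subgroup A) : Set A) ⊔ B' := by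
      rw [hX, Subgroup.comap_map_eq, QuotientGroup.ker_mk']
      exact sup_le_sup_right Subgroup.le_normalizer _
    have ha' : a ∈ Subgroup.normalizer ((P : Subgroup A) : Set A) ⊔ B' :=
      sup_le le_sup_left hle ha
    have h3 := Subgroup.mem_map_of_mem A.subtype ha'
    rw [Subgroup.map_sup] at h3
    refine sup_le_sup (Subgroup.le_normalizer_map _) ?_ h3
    exact (Subgroup.map_subgroupOf_eq_of_le hBA).le
  have htop : Subgroup.normalizer (((P : Subgroup A).map A.subtype : Subgroup G) : Set G) ⊔
      frattini G = ⊤ := by
    rw [← top_le_iff, ← Sylow.normalizer_sup_eq_top (N := A) P]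
    refine sup_le le_sup_left fun a ha => ?_
    exact sup_le_sup_left hB _ (hA ⟨a, ha⟩)
  exact (Subgroup.normalizer_eq_top_iff.mp (frattini_nongenerating htop)).of_map_subtype

end Cfsg.Agent.S0584
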