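import Cfsg.Statements.S0587
import Mathlib
import Cfsg.Agent.Lib.Cores.Basic
import Cfsg.Agent.S0575
import Cfsg.Agent.S0586


set_option autoImplicit false
set_option linter.style.haveILetI false
open scoped commutatorElement
open Cfsg

namespace Cfsg.Agent.S0587

theorem inf_normalizer {G : Type*} [Group G] {A B : Subgroup G} :
    Subgroup.normalizer (A : Set G) ⊓ Subgroup.normalizer (B : Set G) ≤
      Subgroup.normalizer ((A ⊓ B : Subgroup G) : Set G) := by
  intro g hg
  obtain ⟨h1, h2⟩ := Subgroup.mem_inf.mp hg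
  rw [Subgroup.mem_normalizer_iff] at h1 h2 ⊢
  intro x
  simp only [Subgroup.mem_inf]
  exact and_congr (h1 x) (h2 x)

theorem normalizer_le_normalizer_centralizer {G : Type*} [Group G] {Q : Subgroup G} :
    Subgroup.normalizer (Q : Set G) ≤
      Subgroup.normalizer (Subgroup.centralizer (Q : Set G) : Set G) := by
  have key : ∀ g ∈ Subgroup.normalizer (Q : Set G), ∀ x ∈ Subgroup.centralizer (Q : Set G),
      g * x * g⁻¹ ∈ Subgroup.centralizer (Q : Set G) := by
    intro g hg x hx
    rw [Subgroup.mem_centralizer_iff] at hx ⊢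
    intro q hq
    have h1 : g⁻¹ * q * g ∈ Q := by
      have := (Subgroup.mem_normalizer_iff.mp (inv_mem hg) q).mp hq
      rwa [inv_inv] at this
    have h2 := hx _ h1
    calc q * (g * x * g⁻¹) = g * ((g⁻¹ * q * g) * x) * g⁻¹ := by group
      _ = g * (x * (g⁻¹ * q * g)) * g⁻¹ := by rw [h2]
      _ = g * x * g⁻¹ * q := by group
  intro g hg
  rw [Subgroup.mem_normalizer_iff]
  refine fun x => ⟨key g hg x, fun hx => ?_⟩
  have := key g⁻¹ (inv_mem hg) _ hx
  simpa [mul_assoc] using this

theorem elem_of_frattini {G : Type*} [Group G] [Finite G] {p : ℕ} [Fact p.Prime] (L : Subgroup G)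
    (hL : IsPGroup p L) (hfr : frattini L = ⊥) : Cfsg.IsElementaryAbelian p L := by
  haveI := hL.isNilpotent
  have hc : ∀ (x : L), (∀ M : Subgroup L, IsCoatom M → x ∈ M) → x = 1 := fun x hx => by
    have : x ∈ frattini L := by
      show x ∈ Order.radical (Subgroup L)
      simp only [Order.radical, Subgroup.mem_iInf]
      exact hx
    rwa [hfr, Subgroup.mem_bot] at this
  refine ⟨⟨⟨fun a b => ?_⟩⟩, fun a ha => ?_⟩
  · rw [← commutatorElement_eq_one_iff_mul_comm]
    exact hc _ fun M hM => S0586.commutator_le_coatom hM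
      (Subgroup.commutator_mem_commutator (Subgroup.mem_top a) (Subgroup.mem_top b))
  · refine congrArg Subtype.val (hc ((⟨a, ha⟩ : L) ^ p) fun M hM => ?_)
    haveI := Subgroup.NormalizerCondition.normal_of_coatom M normalizerCondition_of_isNilpotent hM
    obtain ⟨k, hk⟩ := hL.index M
    have hk1 : M.index = p := by
      rcases k with _ | _ | k
      · exact absurd (Subgroup.index_eq_one.mp (by simpa using hk)) hM.1
      · simpa using hk
      · exfalso
        have hdvd : p ∣ Nat.card (L ⧸ M) := by
          rw [← Subgroup.index_eq_card, hk]; exact dvd_pow_self p (by omega)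
        obtain ⟨x, hx⟩ := exists_prime_orderOf_dvd_card' p hdvd
        rcases hM.le_iff.mp (QuotientGroup.le_comap_mk' M (Subgroup.zpowers x)) with h | h
        · have : Nat.card (Subgroup.zpowers x) = Nat.card (L ⧸ M) := by
            rw [← Subgroup.map_comap_eq_self_of_surjective (QuotientGroup.mk'_surjective M)
              (Subgroup.zpowers x), h, Subgroup.map_top_of_surjective _
              (QuotientGroup.mk'_surjective M), Subgroup.card_top]
          rw [Nat.card_zpowers, hx, ← Subgroup.index_eq_card, hk] at this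
          have := Nat.pow_lt_pow_right (Fact.out : p.Prime).one_lt (show 1 < k + 1 + 1 by omega)
          simp only [pow_one] at this
          omega
        · have hx1 : x ∈ (⊥ : Subgroup (L ⧸ M)) := by
            obtain ⟨y, rfl⟩ := QuotientGroup.mk'_surjective M x
            have hy : y ∈ (Subgroup.zpowers (QuotientGroup.mk' M y)).comap (QuotientGroup.mk' M) :=
              Subgroup.mem_zpowers _
            rw [h] at hy
            exact Subgroup.mem_bot.mpr ((QuotientGroup.eq_one_iff y).mpr hy)
          rw [Subgroup.mem_bot] at hx1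
          rw [hx1, orderOf_one] at hx
          exact (Fact.out : p.Prime).one_lt.ne hx
    rw [← hk1]
    exact Subgroup.pow_index_mem M _


/-- Let G be a finite group whose largest normal p-subgroup L is nontrivial, and M a maximal subgroup of G with trivial normal core. Then L is elementary abelian, M is a complement to L, L is a minimal normal subgroup of G, the centralizer of L is L, and for every prime q such that the largest normal q-subgroup of M is nontrivial, the order of L is congruent to 1 modulo q and q ≠ p. -/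
theorem result {G : Type*} [Group G] [Finite G] (p : ℕ) [Fact p.Prime] (hL : Cfsg.pCore p G ≠ ⊥) (M : Subgroup G) (hM : IsCoatom M) (hcore : M.normalCore = ⊥) : Cfsg.IsElementaryAbelian p (Cfsg.pCore p G) ∧ Subgroup.IsComplement' (Cfsg.pCore p G) M ∧ (∀ K : Subgroup G, K.Normal → K ≤ Cfsg.pCore p G → K = ⊥ ∨ K = Cfsg.pCore p G) ∧ Subgroup.centralizer ((Cfsg.pCore p G : Subgroup G) : Set G) = Cfsg.pCore p G ∧ ∀ (q : ℕ) [Fact q.Prime], Cfsg.pCore q ↥M ≠ ⊥ → Nat.card (Cfsg.pCore p G) % q = 1 % q ∧ q ≠ p := by
  set L := Cfsg.pCore p G with hLdef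
  haveI : L.Normal := Subgroup.sSup_normal _ (fun _ h => h.1)
  have hLp : IsPGroup p L := Lib.Cores.pCore_isPGroup p
  have hbot : ∀ X : Subgroup G, X.Normal → X ≤ M → X = ⊥ := fun X hX hle =>
    haveI := hX
    le_bot_iff.mp (hcore ▸ Subgroup.normal_le_normalCore.mpr hle)
  have hfr : frattini L = ⊥ := by
    have h1 := hbot ((frattini L).map L.subtype) inferInstance
      ((S0575.result L).trans (frattini_le_coatom hM))
    rwa [Subgroup.map_eq_bot_iff_of_injective _ L.subtype_injective] at h1
  have hel : Cfsg.IsElementaryAbelian p L := elem_of_frattini L hLp hfr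
  haveI := hel.1
  have hLM : L ⊔ M = ⊤ := hM.2 _ (right_lt_sup.mpr fun hle => hL (hbot L inferInstance hle))
  have hinf : L ⊓ M = ⊥ := by
    refine hbot _ ?_ inf_le_right
    rw [← Subgroup.normalizer_eq_top_iff, ← top_le_iff, ← hLM, sup_le_iff]
    constructor
    · refine (L.le_centralizer.trans ?_).trans (Subgroup.centralizer_le_normalizer _)
      exact Subgroup.centralizer_le (fun x hx => (Subgroup.mem_inf.mp hx).1)
    · intro h hh
      rw [Subgroup.mem_normalizer_iff]
      intro x
      simp only [Subgroup.mem_inf]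
      refine and_congr ?_ ?_
      · exact ⟨fun hx => (inferInstance : L.Normal).conj_mem x hx h, fun hx => by
          simpa [mul_assoc] using (inferInstance : L.Normal).conj_mem _ hx h⁻¹⟩
      · rw [Subgroup.mul_mem_cancel_right _ (inv_mem hh), Subgroup.mul_mem_cancel_left _ hh]
  have hmin : ∀ K : Subgroup G, K.Normal → K ≤ L → K = ⊥ ∨ K = L := by
    intro K hK hle
    refine or_iff_not_imp_left.mpr fun hne => le_antisymm hle fun l hl => ?_
    haveI := hK
    have hKM : K ⊔ M = ⊤ := hM.2 _ (right_lt_sup.mpr fun h => hne (hbot K hK h))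
    have hl' : l ∈ K ⊔ M := hKM ▸ Subgroup.mem_top l
    obtain ⟨k, hk, m, hm, rfl⟩ := Subgroup.mem_sup_of_normal_left.mp hl'
    have : m ∈ L ⊓ M := Subgroup.mem_inf.mpr ⟨by simpa using mul_mem (inv_mem (hle hk)) hl, hm⟩
    rw [hinf, Subgroup.mem_bot] at this
    simpa [this] using hk
  have hcent : Subgroup.centralizer (L : Set G) = L := by
    refine le_antisymm (fun c hc => ?_) L.le_centralizer
    have hC : Subgroup.centralizer (L : Set G) ⊓ M = ⊥ := by
      refine hbot _ ?_ inf_le_right
      rw [← Subgroup.normalizer_eq_top_iff, ← top_le_iff, ← hLM, sup_le_iff]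
      constructor
      · refine le_trans ?_ (Subgroup.centralizer_le_normalizer _)
        rw [Subgroup.le_centralizer_iff]
        exact inf_le_left
      · refine le_trans (le_inf ?_ Subgroup.le_normalizer) inf_normalizer
        rw [Subgroup.normalizer_eq_top]; exact le_top
    have hc' : c ∈ L ⊔ M := hLM ▸ Subgroup.mem_top c
    obtain ⟨l, hl, m, hm, rfl⟩ := Subgroup.mem_sup_of_normal_left.mp hc'
    have : m ∈ Subgroup.centralizer (L : Set G) ⊓ M := Subgroup.mem_inf.mpr
      ⟨by simpa using mul_mem (inv_mem (L.le_centralizer hl)) hc, hm⟩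
    rw [hC, Subgroup.mem_bot] at this
    simpa [this] using hl
  refine ⟨hel, Subgroup.isComplement'_of_disjoint_and_mul_eq_univ (disjoint_iff.mpr hinf)
    (by rw [← Subgroup.normal_mul, hLM, Subgroup.coe_top]), hmin, hcent, ?_⟩
  intro q _ hq
  set Q := (Cfsg.pCore q ↥M).map M.subtype with hQ
  have hQp : IsPGroup q Q := (Lib.Cores.pCore_isPGroup q).map _
  set X := L ⊓ Subgroup.centralizer (Q : Set G) with hX
  have hXn : X.Normal := by
    rw [← Subgroup.normalizer_eq_top_iff, ← top_le_iff, ← hLM, sup_le_iff]
    constructor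
    · refine (L.le_centralizer.trans ?_).trans (Subgroup.centralizer_le_normalizer _)
      exact Subgroup.centralizer_le (fun x hx => (Subgroup.mem_inf.mp hx).1)
    · refine le_trans (le_inf ?_ ?_) inf_normalizer
      · rw [Subgroup.normalizer_eq_top]; exact le_top
      · refine le_trans ?_ normalizer_le_normalizer_centralizer
        haveI : (Cfsg.pCore q ↥M).Normal := Subgroup.sSup_normal _ (fun _ h => h.1)
        refine le_trans ?_ (Subgroup.le_normalizer_map M.subtype)
        rw [Subgroup.normalizer_eq_top, ← MonoidHom.range_eq_map, Subgroup.range_subtype]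
  have hXbot : X = ⊥ := by
    refine (hmin X hXn inf_le_left).resolve_right fun he => hq ?_
    have h1 : Q ≤ Subgroup.centralizer (L : Set G) :=
      Subgroup.le_centralizer_iff.mp (he.ge.trans inf_le_right)
    rw [hcent] at h1
    have h2 : Q ≤ L ⊓ M := le_inf h1 (Subgroup.map_subtype_le _)
    rw [hinf, le_bot_iff, Subgroup.map_eq_bot_iff_of_injective _ M.subtype_injective] at h2
    exact h2
  letI : MulAction Q L :=
    MulAction.compHom L ((MulAut.conjNormal (H := L)).comp Q.subtype)
  have hfix : Nat.card (MulAction.fixedPoints Q L) = 1 := by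
    rw [Nat.card_eq_one_iff_unique]
    refine ⟨⟨fun a b => ?_⟩, ⟨⟨1, fun c => ?_⟩⟩⟩
    · have key : ∀ a : MulAction.fixedPoints Q L, (a : L) = 1 := fun a => by
        have ha : ((a : L) : G) ∈ X := by
          refine Subgroup.mem_inf.mpr ⟨(a : L).2, Subgroup.mem_centralizer_iff.mpr fun c hc => ?_⟩
          have h1 := congrArg Subtype.val (a.2 ⟨c, hc⟩)
          change c * ((a : L) : G) * c⁻¹ = ((a : L) : G) at h1
          exact mul_inv_eq_iff_eq_mul.mp h1
        rw [hXbot, Subgroup.mem_bot] at ha
        exact Subtype.ext ha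
      exact Subtype.ext ((key a).trans (key b).symm)
    · show MulAut.conjNormal (H := L) (c : G) 1 = 1
      exact map_one _
  have hmod : Nat.card L % q = 1 % q := by
    have := hQp.card_modEq_card_fixedPoints L
    rw [hfix] at this
    exact this
  refine ⟨hmod, ?_⟩
  rintro rfl
  have hdvd : q ∣ Nat.card L := hLp.card_eq_or_dvd.resolve_left fun h1 =>
    hL (Subgroup.card_eq_one.mp h1)
  rw [Nat.dvd_iff_mod_eq_zero.mp hdvd, Nat.mod_eq_of_lt (Fact.out : q.Prime).one_lt] at hmod
  exact zero_ne_one hmod

end Cfsg.Agent.S0587
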