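import Cfsg.Statements.S0589
import Mathlib
import Cfsg.Agent.S0588


set_option autoImplicit false
set_option linter.style.haveILetI false
open Pointwise
open Cfsg

namespace Cfsg.Agent.S0589

open scoped Pointwise

theorem conj_fix {G : Type*} [Group G] {H : Subgroup G}
    (hTI : ∀ g : G, g ∉ H → H ⊓ (MulAut.conj g • H) = ⊥) {g : G} {x : G} (hx : x ≠ 1)
    (hxg : x ∈ MulAut.conj g • H) {a : G} (ha : a * x * a⁻¹ ∈ MulAut.conj g • H) :
    a ∈ MulAut.conj g • H := by
  rw [Subgroup.mem_pointwise_smul_iff_inv_smul_mem] at hxg ha ⊢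
  simp only [MulAut.smul_def] at hxg ha ⊢
  rw [map_mul, map_mul, map_inv (MulAut.conj g)⁻¹ a] at ha
  set y := (MulAut.conj g)⁻¹ x
  set b := (MulAut.conj g)⁻¹ a
  by_contra hb
  have h1 : b * y * b⁻¹ ∈ H ⊓ (MulAut.conj b • H) :=
    Subgroup.mem_inf.mpr ⟨ha, Subgroup.smul_mem_pointwise_smul _ (MulAut.conj b) H hxg⟩
  rw [hTI b hb, Subgroup.mem_bot, mul_inv_eq_one, mul_eq_left] at h1
  exact hx ((MulAut.conj g)⁻¹.injective (h1.trans (map_one _).symm))

theorem conj_eq {G : Type*} [Group G] [Finite G] {H : Subgroup G}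
    (hTI : ∀ g : G, g ∉ H → H ⊓ (MulAut.conj g • H) = ⊥) {g g' x : G} (hx : x ≠ 1)
    (hxg : x ∈ MulAut.conj g • H) (hxg' : x ∈ MulAut.conj g' • H) :
    MulAut.conj g • H = MulAut.conj g' • H := by
  have hmem : g⁻¹ * g' ∈ H := by
    by_contra hb
    rw [Subgroup.mem_pointwise_smul_iff_inv_smul_mem] at hxg hxg'
    have h1 : (MulAut.conj g)⁻¹ • x ∈ MulAut.conj (g⁻¹ * g') • H := by
      rw [map_mul, map_inv, mul_smul]
      refine Subgroup.smul_mem_pointwise_smul _ _ _ ?_
      rw [Subgroup.mem_pointwise_smul_iff_inv_smul_mem]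
      exact hxg'
    have h2 := Subgroup.mem_inf.mpr ⟨hxg, h1⟩
    rw [hTI _ hb, Subgroup.mem_bot, inv_smul_eq_iff] at h2
    exact hx (h2.trans (smul_one _))
  conv_rhs => rw [show g' = g * (g⁻¹ * g') by group, map_mul, mul_smul,
    Subgroup.conj_smul_eq_self_of_mem hmem]

theorem aux {G : Type*} [Group G] [Finite G] (H : Subgroup G) (hne : H ≠ ⊥)
    (hTI : ∀ g : G, g ∉ H → H ⊓ (MulAut.conj g • H) = ⊥) (L : Subgroup G)
    (hL : Nat.card L ∣ Nat.card H) : ∃ x : G, L ≤ MulAut.conj x • H := by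
  classical
  have hcent : ∀ (g x : G), x ≠ 1 → x ∈ MulAut.conj g • H →
      Subgroup.centralizer ({x} : Set G) ≤ MulAut.conj g • H := fun g x hx hxg c hc => by
    refine conj_fix hTI hx hxg (a := c) ?_
    rwa [Subgroup.mem_centralizer_singleton_iff.mp hc, mul_inv_cancel_right]
  have hcop : (Nat.card H).Coprime H.index := S0588.hall_of_centralizer H fun x hx hx1 => by
    have := hcent 1 x hx1 (by rwa [map_one, one_smul])
    rwa [map_one, one_smul] at this
  have hcover : ∀ x ∈ L, x ≠ 1 → ∃ g : G, x ∈ MulAut.conj g • H := by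
    intro x hxL hx
    obtain ⟨q, hq, hqx⟩ :=
      Nat.exists_prime_and_dvd (fun h1 => hx (orderOf_eq_one_iff.mp h1) : orderOf x ≠ 1)
    haveI := Fact.mk hq
    set y := x ^ (orderOf x / q) with hy
    have hyo : orderOf y = q := orderOf_pow_orderOf_div (isOfFinOrder_of_finite x).orderOf_pos.ne' hqx
    have hqH : q ∣ Nat.card H :=
      (hqx.trans (Subgroup.orderOf_dvd_natCard L hxL)).trans hL
    obtain ⟨S⟩ := (inferInstance : Nonempty (Sylow q H))
    obtain ⟨R, hR⟩ := Sylow.exists_comap_subtype_eq S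
    have hRH : (R : Subgroup G) ≤ H := by
      have hc : (Nat.card (R : Subgroup G)).Coprime H.index := by
        obtain ⟨k, hk⟩ := IsPGroup.iff_card.mp R.isPGroup'
        rw [hk]
        exact Nat.Coprime.pow_left _ (hcop.of_dvd_left hqH)
      have hd : Nat.card ↥(R : Subgroup G) ∣ Nat.card H :=
        hc.dvd_of_dvd_mul_right (Subgroup.card_mul_index H ▸ Subgroup.card_subgroup_dvd_card _)
      have hd' : Nat.card (R : Subgroup G) ∣ Nat.card ↥((R : Subgroup G) ⊓ H) := by
        rw [← Subgroup.subgroupOf_map_subtype, Subgroup.card_map_of_injective H.subtype_injective]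
        show _ ∣ Nat.card ((R : Subgroup G).comap H.subtype)
        rw [hR, S.card_eq_multiplicity]
        rw [R.card_eq_multiplicity] at hd ⊢
        exact pow_dvd_pow q ((hq.pow_dvd_iff_le_factorization Nat.card_pos.ne').mp hd)
      exact inf_eq_left.mp (Subgroup.eq_of_le_of_card_ge inf_le_left
        (Nat.le_of_dvd Nat.card_pos hd'))
    obtain ⟨T, hT⟩ := (IsPGroup.of_card (n := 1)
      (by rw [Nat.card_zpowers, hyo, pow_one]) : IsPGroup q (Subgroup.zpowers y)).exists_le_sylow
    obtain ⟨g, rfl⟩ := MulAction.exists_smul_eq G R T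
    have hyg : y ∈ MulAut.conj g • H := by
      have := hT (Subgroup.mem_zpowers y)
      rw [Sylow.coe_subgroup_smul] at this
      exact Subgroup.pointwise_smul_le_pointwise_smul_iff.mpr hRH this
    have hy1 : y ≠ 1 := fun he => hq.one_lt.ne (by rw [← hyo, he, orderOf_one])
    exact ⟨g, hcent g y hy1 hyg (Subgroup.mem_centralizer_singleton_iff.mpr
      (by rw [hy, ← pow_succ', pow_succ]))⟩
  by_contra hno
  push_neg at hno
  -- the nonidentity elements of `L` lying in `L`-conjugates of one conjugate of `H`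
  let U : G → Set L := fun g => {y : L | y ≠ 1 ∧ ∃ l : L, (y : G) ∈ MulAut.conj ((l : G) * g) • H}
  have hcount : ∀ g : G, (∃ x ∈ L, x ≠ 1 ∧ x ∈ MulAut.conj g • H) →
      Nat.card L ≤ 2 * (U g).ncard ∧ (U g).ncard + 1 < Nat.card L := by
    rintro g ⟨x0, hx0L, hx01, hx0g⟩
    set X := (MulAut.conj g • H).subgroupOf L with hXdef
    have hXne : X ≠ ⊥ := fun he => hx01 (by
      have : (⟨x0, hx0L⟩ : L) ∈ X := hx0g
      rw [he, Subgroup.mem_bot] at this
      exact congrArg Subtype.val this)
    have hXtop : X ≠ ⊤ := fun he => hno g (Subgroup.subgroupOf_eq_top.mp he)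
    let f : (L ⧸ X) × {x : X // x ≠ 1} → L := fun qx => qx.1.out * (qx.2.1 : L) * qx.1.out⁻¹
    have hbij : Set.BijOn f Set.univ (U g) := by
      refine ⟨?_, ?_, ?_⟩
      · rintro ⟨q, ⟨x, hx⟩⟩ -
        refine ⟨?_, q.out, ?_⟩
        · intro he
          simp only [f, mul_inv_eq_one, mul_eq_left] at he
          exact hx (Subtype.ext he)
        · rw [map_mul, mul_smul]
          exact Subgroup.smul_mem_pointwise_smul _ (MulAut.conj (q.out : G)) _ x.2
      · rintro ⟨q, ⟨x, hx⟩⟩ - ⟨q', ⟨x', hx'⟩⟩ - he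
        simp only [f] at he
        have he' : ((q'.out : G)⁻¹ * q.out) * ((x : L) : G) * ((q'.out : G)⁻¹ * q.out)⁻¹ =
            ((x' : L) : G) := by
          have := congrArg Subtype.val he
          simp only [Subgroup.coe_mul, Subgroup.coe_inv] at this
          calc _ = (q'.out : G)⁻¹ * ((q.out : G) * ((x : L) : G) * (q.out : G)⁻¹) * q'.out := by
                group
            _ = _ := by rw [this]; group
        have hmem : (q'.out : G)⁻¹ * q.out ∈ MulAut.conj g • H :=
          conj_fix hTI (fun h0 => hx (Subtype.ext (Subtype.ext h0))) x.2 (he'.symm ▸ x'.2)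
        have hqq : q' = q := by
          rw [← q'.out_eq', ← q.out_eq', QuotientGroup.eq, Subgroup.mem_subgroupOf]
          simpa using hmem
        subst hqq
        simp only [mul_left_inj, mul_right_inj, SetLike.coe_eq_coe] at he
        subst he
        rfl
      · rintro y ⟨hy1, l, hl⟩
        rw [map_mul, mul_smul, Subgroup.mem_pointwise_smul_iff_inv_smul_mem] at hl
        obtain ⟨c, hc⟩ := QuotientGroup.mk_out_eq_mul X l
        have hcy : (QuotientGroup.mk l : L ⧸ X).out⁻¹ * y * (QuotientGroup.mk l : L ⧸ X).out ∈ X := by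
          rw [hc]
          have hly : l⁻¹ * y * l ∈ X := by
            rw [Subgroup.mem_subgroupOf]
            simpa [mul_assoc] using hl
          have := mul_mem (mul_mem (inv_mem c.2) hly) c.2
          simpa [mul_assoc] using this
        refine ⟨⟨QuotientGroup.mk l, ⟨⟨_, hcy⟩, fun h0 => hy1 ?_⟩⟩, trivial, ?_⟩
        · have h0' := congrArg Subtype.val h0
          simpa [mul_eq_one_iff_eq_inv, inv_mul_eq_iff_eq_mul] using h0'
        · simp [f, mul_assoc]
    have hn : (U g).ncard = X.index * (Nat.card X - 1) := by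
      rw [← hbij.image_eq, hbij.injOn.ncard_image, Set.ncard_univ, Nat.card_prod,
        Subgroup.index_eq_card]
      congr 1
      haveI := Fintype.ofFinite X
      rw [Nat.card_eq_fintype_card, Fintype.card_subtype_compl, Fintype.card_subtype_eq,
        Nat.card_eq_fintype_card]
    have hX2 : 2 ≤ Nat.card X := by
      rcases Nat.lt_or_ge (Nat.card X) 2 with h2 | h2
      · exact absurd (Subgroup.card_eq_one.mp (by have := Nat.card_pos (α := X); omega)) hXne
      · exact h2
    have hI2 : 2 ≤ X.index := X.one_lt_index_of_ne_top hXtop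
    obtain ⟨m, hm⟩ : ∃ m, Nat.card X = m + 2 := ⟨_, (Nat.sub_add_cancel hX2).symm⟩
    rw [hn, ← Subgroup.card_mul_index X, hm, show m + 2 - 1 = m + 1 by omega]
    constructor <;> nlinarith
  obtain ⟨x0, hx0, hx01⟩ : ∃ x ∈ L, x ≠ 1 := by
    by_contra hc
    push_neg at hc
    exact hno 1 fun x hx => by rw [hc x hx]; exact one_mem _
  obtain ⟨g, hg⟩ := hcover x0 hx0 hx01
  obtain ⟨c1, c2⟩ := hcount g ⟨x0, hx0, hx01, hg⟩
  obtain ⟨y, hy1, hyU⟩ : ∃ y : L, y ≠ 1 ∧ y ∉ U g := by
    by_contra hc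
    push_neg at hc
    have hsub : ({1}ᶜ : Set L) ⊆ U g := fun z hz => hc z hz
    have := Set.ncard_le_ncard hsub
    rw [Set.ncard_compl, Set.ncard_singleton] at this
    omega
  obtain ⟨g', hg'⟩ := hcover y y.2 (fun h0 => hy1 (Subtype.ext h0))
  obtain ⟨d1, -⟩ := hcount g' ⟨y, y.2, fun h0 => hy1 (Subtype.ext h0), hg'⟩
  have hdisj : Disjoint (U g) (U g') := by
    rw [Set.disjoint_left]
    rintro z ⟨hz1, l, hl⟩ ⟨-, l', hl'⟩
    -- two conjugates sharing `z` are equal
    have heq : MulAut.conj ((l : G) * g) • H = MulAut.conj ((l' : G) * g') • H :=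
      conj_eq hTI (fun h0 => hz1 (Subtype.ext h0)) hl hl'
    refine hyU ⟨hy1, l'⁻¹ * l, ?_⟩
    have : MulAut.conj (((l'⁻¹ * l : L) : G) * g) • H = MulAut.conj g' • H := by
      rw [Subgroup.coe_mul, Subgroup.coe_inv, mul_assoc, map_mul, mul_smul, heq, ← mul_smul,
        ← map_mul, inv_mul_cancel_left]
    rw [this]; exact hg'
  have htot : (U g).ncard + (U g').ncard + 1 ≤ Nat.card L := by
    rw [← Set.ncard_union_eq hdisj]
    have hsub : U g ∪ U g' ⊆ ({1}ᶜ : Set L) := by
      rintro z (hz | hz) <;> exact hz.1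
    have := Set.ncard_le_ncard hsub
    rw [Set.ncard_compl, Set.ncard_singleton] at this
    have := Nat.card_pos (α := L)
    omega
  omega


/-- Let H be a Frobenius complement in a finite group G and L a subgroup of G whose order divides the order of H. Then L is contained in some conjugate of H. -/
theorem result {G : Type*} [Group G] [Finite G] (H : Subgroup G) (hH : Cfsg.IsFrobeniusComplement H) (L : Subgroup G) (hL : Nat.card L ∣ Nat.card H) : ∃ x : G, L ≤ MulAut.conj x • H := by
  exact aux H hH.1 hH.2.2 L hL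

end Cfsg.Agent.S0589
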