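import Cfsg.Statements.S0590
import Cfsg.Agent.Lib.PLocal.Action
-- import your own Cfsg.Agent.* helpers here

set_option autoImplicit false
open Cfsg

namespace Cfsg.Agent.S0590

/-- Quadratic action on an elementary abelian p-group forces the acting group modulo the kernel of the action to be elementary abelian. -/
theorem result {G : Type*} [Group G] [Finite G] {p : ℕ} [Fact p.Prime] (V H : Subgroup G) (hV : Cfsg.IsElementaryAbelian p V) (hHV : H ≤ Subgroup.normalizer (V : Set G)) (hq : ⁅⁅V, H⁆, H⁆ = ⊥) : ⁅H, H⁆ ≤ Subgroup.centralizer (V : Set G) ∧ ∀ a ∈ H, a ^ p ∈ Subgroup.centralizer (V : Set G) := by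
  refine ⟨?_, fun a ha => ?_⟩
  · have h1 : ⁅⁅H, V⁆, H⁆ = ⊥ := by rw [Subgroup.commutator_comm H V]; exact hq
    exact Subgroup.commutator_eq_bot_iff_le_centralizer.mp
      (Subgroup.commutator_commutator_eq_bot_of_rotate h1 hq)
  · exact Lib.PLocal.pow_mem_centralizer_of_two_step (W := ⁅V, H⁆)
      (fun w hw => hV.2 w (Lib.PLocal.commutator_le_self hHV hw))
      (fun v hv => Subgroup.commutator_mem_commutator hv ha)
      (fun w hw => (Subgroup.mem_centralizer_iff.mp
        (Subgroup.commutator_eq_bot_iff_le_centralizer.mp hq hw) a ha))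

end Cfsg.Agent.S0590
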