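import Cfsg.Statements.S0592
import Cfsg.Agent.Lib.PLocal.TwoQuadratic
-- import your own Cfsg.Agent.* helpers here

set_option autoImplicit false
open Cfsg

namespace Cfsg.Agent.S0592

/-- Two quadratically acting generators of a linear group that is not a p-group, with the p'-part of the order of their product dividing q - 1, give a homomorphism onto a subgroup of SL(2, q) that is not a p-group. -/
theorem result {K : Type*} [Field K] [Fintype K] {p : ℕ} [Fact p.Prime] [CharP K p] {W : Type*} [AddCommGroup W] [Module K W] [FiniteDimensional K W] [Finite W] [Nontrivial W] (H : Subgroup (W ≃ₗ[K] W)) (a b : W ≃ₗ[K] W) (hH : H = Subgroup.closure {a, b}) (ha : ∀ w : W, a (a w - w) = a w - w) (hb : ∀ w : W, b (b w - w) = b w - w) (hnp : ¬ IsPGroup p H) (hk : ∃ e k : ℕ, orderOf (a * b) = p ^ e * k ∧ k ∣ Fintype.card K - 1) : ∃ φ : H →* Matrix.SpecialLinearGroup (Fin 2) K, ¬ IsPGroup p φ.range := by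
  subst hH
  haveI : Finite (W ≃ₗ[K] W) := Finite.of_injective (fun f => (f : W → W)) DFunLike.coe_injective
  let ρ : ↥(Subgroup.closure ({a, b} : Set (W ≃ₗ[K] W))) →* Module.End K W :=
    (LinearEquiv.automorphismGroup.toLinearMapMonoidHom).comp (Subgroup.subtype _)
  have hgen : Subgroup.closure ({⟨a, Subgroup.subset_closure (Or.inl rfl)⟩,
      ⟨b, Subgroup.subset_closure (Or.inr rfl)⟩} :
        Set ↥(Subgroup.closure ({a, b} : Set (W ≃ₗ[K] W)))) = ⊤ := by
    apply Subgroup.map_injective (Subgroup.subtype_injective _)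
    rw [MonoidHom.map_closure, Set.image_pair, ← MonoidHom.range_eq_map, Subgroup.range_subtype]
    rfl
  have hq : ∀ c : W ≃ₗ[K] W, (∀ w : W, c (c w - w) = c w - w) →
      ((c : W →ₗ[K] W) - 1) * ((c : W →ₗ[K] W) - 1) = 0 := by
    intro c hc
    refine LinearMap.ext fun w => ?_
    show (c : W →ₗ[K] W) (c w - w) - (c w - w) = 0
    rw [LinearEquiv.coe_coe, hc w, sub_self]
  obtain ⟨e, k, hek, hkd⟩ := hk
  obtain ⟨s, hs⟩ := not_forall.mp hnp
  obtain ⟨φ, t, -, ht⟩ := Lib.PLocal.TwoQuadratic.exists_hom (p := p) ρ hgen (hq a ha) (hq b hb)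
    ⟨e, k, Subtype.ext (by
      show (a * b) ^ (p ^ e * k) = 1
      rw [← hek, pow_orderOf_eq_one]), hkd⟩
    (S := ⊤) ⟨s, Subgroup.mem_top s, fun j hj => hs ⟨j, Subtype.ext
      (LinearEquiv.toLinearMap_injective hj)⟩⟩
  refine ⟨φ, fun hP => ?_⟩
  obtain ⟨j, hj⟩ := hP ⟨φ t, t, rfl⟩
  exact ht j (by rw [map_pow]; exact congrArg Subtype.val hj)

end Cfsg.Agent.S0592
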