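import Cfsg.Statements.S0594
import Cfsg.Agent.Lib.PLocal.TwoQuadratic
import Cfsg.Agent.Lib.PLocal.SLTwoNormalised
import Cfsg.Agent.Lib.Quadratic.Involves
import Mathlib.FieldTheory.Finite.GaloisField
-- import your own Cfsg.Agent.* helpers here

set_option autoImplicit false
open Cfsg

namespace Cfsg.Agent.S0594

/-- For odd p, two quadratic generators of a faithful group that is not a p-group, one of which acts nontrivially on a normal subgroup of order prime to p, force p = 3 and a section isomorphic to SL(2,3). -/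
theorem result {G : Type*} [Group G] [Finite G] {p : ℕ} [Fact p.Prime] (hp : p ≠ 2) (V H : Subgroup G) (hV : Cfsg.IsElementaryAbelian p V) (hHV : H ≤ Subgroup.normalizer (V : Set G)) (hf : H ⊓ Subgroup.centralizer (V : Set G) = ⊥) (a b : G) (hab : H = Subgroup.closure {a, b}) (ha : ⁅⁅V, Subgroup.zpowers a⁆, Subgroup.zpowers a⁆ = ⊥) (hb : ⁅⁅V, Subgroup.zpowers b⁆, Subgroup.zpowers b⁆ = ⊥) (hnp : ¬ IsPGroup p H) (Q : Subgroup G) (hQH : Q ≤ H) (hQn : H ≤ Subgroup.normalizer (Q : Set G)) (hQ : (Nat.card Q).Coprime p) (hQa : ⁅Q, Subgroup.zpowers a⁆ ≠ ⊥) : p = 3 ∧ ∃ (K L : Subgroup G) (hL : (L.subgroupOf K).Normal), K ≤ H ∧ Nonempty ((K ⧸ L.subgroupOf K) ≃* Matrix.SpecialLinearGroup (Fin 2) (ZMod 3)) := by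
  open Cfsg.Agent.Lib in
  obtain ⟨K₀, L₀, hL₀, hK₀H, hiso⟩ := Quadratic.exists_section_of_pair hp hV hHV hf hab
    (Quadratic.quad_of_commutator_eq_bot ha) (Quadratic.quad_of_commutator_eq_bot hb) hnp
  suffices h3 : p = 3 by
    subst h3
    exact ⟨rfl, K₀, L₀, hL₀, hK₀H, hiso⟩
  open Cfsg.Agent.Lib in
  obtain ⟨n, ρ, hker, hquad, -⟩ := Quadratic.exists_rep hV hHV
  have haH : a ∈ H := hab ▸ Subgroup.subset_closure (Or.inl rfl)
  have hbH : b ∈ H := hab ▸ Subgroup.subset_closure (Or.inr rfl)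
  set a' : H := ⟨a, haH⟩ with ha'
  set b' : H := ⟨b, hbH⟩ with hb'
  have hgen : Subgroup.closure ({a', b'} : Set H) = ⊤ := by
    apply Subgroup.map_injective H.subtype_injective
    rw [MonoidHom.map_closure, Set.image_pair, ← MonoidHom.range_eq_map, Subgroup.range_subtype]
    exact hab.symm
  -- an extension field containing the eigenvalues of `ab`
  set N := orderOf (a' * b') with hN
  set k := ordCompl[p] N with hk
  have hN0 : N ≠ 0 := (orderOf_pos _).ne'
  have hk0 : 0 < k := Nat.ordCompl_pos p hN0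
  set f := Nat.totient k with hfdef
  have hf0 : f ≠ 0 := (Nat.totient_pos.mpr hk0).ne'
  let F := GaloisField p f
  haveI : Fintype F := Fintype.ofFinite F
  have hcard : Fintype.card F = p ^ f := by
    rw [← Nat.card_eq_fintype_card]; exact GaloisField.card p f hf0
  have hkd : k ∣ Fintype.card F - 1 := by
    rw [hcard, ← Nat.modEq_iff_dvd' (Nat.one_le_pow _ _ (Fact.out : p.Prime).pos)]
    exact (Nat.ModEq.pow_totient (Nat.coprime_ordCompl Fact.out hN0)).symm
  let M : H →* Matrix (Fin n) (Fin n) F :=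
    ((algebraMap (ZMod p) F).mapMatrix : _ →+* _).toMonoidHom.comp ρ
  let E : Matrix (Fin n) (Fin n) F ≃ₐ[F] Module.End F (Fin n → F) := Matrix.toLinAlgEquiv'
  let σ : H →* Module.End F (Fin n → F) := E.toMonoidHom.comp M
  have hσ1 : ∀ h : H, σ h = 1 → h = 1 := by
    intro h hh
    have h1 : (algebraMap (ZMod p) F).mapMatrix (ρ h) = 1 := by
      have : E (M h) = E 1 := by rw [map_one]; exact hh
      exact E.injective this
    have h2 : ρ h = 1 := by
      refine Matrix.ext fun i j => (algebraMap (ZMod p) F).injective ?_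
      have := congrFun (congrFun h1 i) j
      simpa [Matrix.one_apply, apply_ite (algebraMap (ZMod p) F)] using this
    have h3 : (h : G) ∈ H ⊓ Subgroup.centralizer (V : Set G) := ⟨h.2, (hker h).mp h2⟩
    rw [hf, Subgroup.mem_bot] at h3
    exact Subtype.ext h3
  have hσq : ∀ h : H, (ρ h - 1) * (ρ h - 1) = 0 → (σ h - 1) * (σ h - 1) = 0 := by
    intro h hh
    show (E ((algebraMap (ZMod p) F).mapMatrix (ρ h)) - 1) *
      (E ((algebraMap (ZMod p) F).mapMatrix (ρ h)) - 1) = 0
    rw [← map_one E, ← map_one (algebraMap (ZMod p) F).mapMatrix, ← map_sub, ← map_sub, ← map_mul,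
      ← map_mul, hh, map_zero, map_zero]
  have hqa := Cfsg.Agent.Lib.Quadratic.quad_of_commutator_eq_bot ha
  have hqb := Cfsg.Agent.Lib.Quadratic.quad_of_commutator_eq_bot hb
  set Q' := Q.subgroupOf H with hQ'
  haveI hQ'n : Q'.Normal := Subgroup.normal_subgroupOf_of_le_normalizer hQn
  have hQ'c : (Nat.card Q').Coprime p := by
    rw [hQ', Nat.card_congr (Subgroup.subgroupOfEquivOfLe hQH).toEquiv]; exact hQ
  set S := Subgroup.normalClosure ((⁅Q', Subgroup.zpowers a'⁆ : Subgroup H) : Set H) with hS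
  have hSQ : S ≤ Q' :=
    Subgroup.normalClosure_le_normal (Subgroup.commutator_le_left Q' (Subgroup.zpowers a'))
  obtain ⟨s₀, hs₀, hs₀1⟩ : ∃ s ∈ S, s ≠ 1 := by
    by_contra hall
    push Not at hall
    apply hQa
    have h1 : ⁅Q', Subgroup.zpowers a'⁆ = ⊥ :=
      (Subgroup.eq_bot_iff_forall _).mpr fun x hx => hall x (Subgroup.subset_normalClosure hx)
    have h2 := congrArg (Subgroup.map H.subtype) h1
    rwa [Subgroup.map_commutator, Subgroup.map_bot, MonoidHom.map_zpowers, hQ',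
      Subgroup.map_subgroupOf_eq_of_le hQH] at h2
  obtain ⟨φ, s, hs, hsj⟩ := Cfsg.Agent.Lib.PLocal.TwoQuadratic.exists_hom (p := p) σ hgen
    (hσq _ (hquad a' hqa)) (hσq _ (hquad b' hqb))
    ⟨N.factorization p, k, by
      rw [hk, Nat.ordProj_mul_ordCompl_eq_self, hN, pow_orderOf_eq_one], hkd⟩
    (S := S) ⟨s₀, hs₀, fun j hj => hs₀1 (by
      have h1 : orderOf s₀ ∣ p ^ j := orderOf_dvd_of_pow_eq_one (hσ1 _ hj)
      have h2 : (orderOf s₀).Coprime (p ^ j) :=
        (hQ'c.coprime_dvd_left (Subgroup.orderOf_dvd_natCard _ (hSQ hs₀))).pow_right j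
      exact orderOf_eq_one_iff.mp (Nat.Coprime.eq_one_of_dvd h2 h1))⟩
  have hφs : φ s ≠ 1 := fun h => hsj 0 (by simpa using h)
  obtain ⟨q, hq, hqc⟩ : ∃ q ∈ Q', φ a' * φ q ≠ φ q * φ a' := by
    by_contra hall
    push Not at hall
    apply hφs
    refine MonoidHom.mem_ker.mp ((Subgroup.normalClosure_le_normal ?_) hs : s ∈ φ.ker)
    rw [SetLike.coe_subset_coe, Subgroup.commutator_le]
    intro x hx y hy
    obtain ⟨i, rfl⟩ := hy
    rw [MonoidHom.mem_ker, map_commutatorElement, commutatorElement_eq_one_iff_mul_comm, map_zpow]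
    exact ((show Commute (φ a') (φ x) from hall x hx).symm.zpow_right i).eq
  have hap : a' ^ p = 1 :=
    Subtype.ext (Cfsg.Agent.Lib.Quadratic.pow_char_eq_one hV hHV hf haH hqa)
  refine Cfsg.Agent.Lib.PLocal.SLTwoNormalised.p_eq_three hp (α := φ a')
    (by rw [← map_pow, hap, map_one]) (Q'.map φ)
    (hQ'c.coprime_dvd_left (Subgroup.card_map_dvd _ _)) ?_
    ⟨φ q, Subgroup.mem_map_of_mem φ hq, hqc⟩
  exact Subgroup.le_normalizer_map φ ⟨a', (Subgroup.normalizer_eq_top Q').ge (Subgroup.mem_top _), rfl⟩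

end Cfsg.Agent.S0594
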