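import Cfsg.Statements.S0599
import Cfsg.Agent.Lib.PLocal.Replacement
-- import your own Cfsg.Agent.* helpers here

set_option autoImplicit false
open Cfsg

namespace Cfsg.Agent.S0599

/-- The Timmesfeld replacement Theorem: replacing a best offender A by C_A([U, A]) gives a best offender with fixed points [U, A]C_V(A), still nontrivial on V if A was. -/
theorem result {G : Type*} [Group G] [Finite G] {p : ℕ} [Fact p.Prime] (V A : Subgroup G) (hV : Cfsg.IsElementaryAbelian p V) (hAV : A ≤ Subgroup.normalizer (V : Set G)) (hA : Cfsg.IsBestOffenderOn p V A) (U : Subgroup G) (hU : U ≤ V) : Cfsg.IsBestOffenderOn p V (A ⊓ Subgroup.centralizer ((⁅U, A⁆ : Subgroup G) : Set G)) ∧ V ⊓ Subgroup.centralizer ((A ⊓ Subgroup.centralizer ((⁅U, A⁆ : Subgroup G) : Set G) : Subgroup G) : Set G) = ⁅U, A⁆ ⊔ (V ⊓ Subgroup.centralizer (A : Set G)) ∧ (⁅V, A⁆ ≠ ⊥ → ⁅V, A ⊓ Subgroup.centralizer ((⁅U, A⁆ : Subgroup G) : Set G)⁆ ≠ ⊥) := by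
  obtain ⟨e, f⟩ := Lib.PLocal.replacement hV.1 hAV hA.2.1 hA.1 hU
  refine ⟨Lib.PLocal.bestOffender_of_meas_eq hA inf_le_left e, f, fun hne hb => hne ?_⟩
  refine Lib.PLocal.commutator_eq_bot_of_sup_eq hV.1 (Lib.PGroups.elemAb_isPGroup hV) hAV
    (Lib.PLocal.pActsOn_of_bestOffender hA) hA.2.1 ?_
  have h2 := Lib.PLocal.fixOn_eq_self_iff_commutator.mpr hb
  refine h2.symm.le.trans (f.le.trans ?_)
  exact sup_le_sup_right (Subgroup.commutator_mono hU le_rfl) _

end Cfsg.Agent.S0599
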