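import Cfsg.Statements.S0600
import Cfsg.Agent.Lib.PLocal.Thompson
-- import your own Cfsg.Agent.* helpers here

set_option autoImplicit false
open Cfsg

namespace Cfsg.Agent.S0600

/-- A normal elementary abelian p-subgroup generated by the fixed points of the Sylow p-subgroups admits no nontrivial normal p-subgroup of G modulo its centralizer. -/
theorem result {G : Type*} [Group G] [Finite G] {p : ℕ} [Fact p.Prime] (V : Subgroup G) [V.Normal] (hV : Cfsg.IsElementaryAbelian p V) (hgen : V = ⨆ S : Sylow p G, V ⊓ Subgroup.centralizer ((S : Subgroup G) : Set G)) : Cfsg.pCore p (G ⧸ Subgroup.centralizer (V : Set G)) = ⊥ := by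
  set C := Subgroup.centralizer (V : Set G) with hC
  set D := (Cfsg.pCore p (G ⧸ C)).comap (QuotientGroup.mk' C) with hD
  have hCD : C ≤ D := fun x hx => by
    rw [hD, Subgroup.mem_comap, QuotientGroup.mk'_apply, (QuotientGroup.eq_one_iff x).mpr hx]
    exact one_mem _
  obtain ⟨k, hk⟩ := IsPGroup.iff_card.mp (Lib.Cores.pCore_isPGroup (G := G ⧸ C) p)
  have hrel : C.relIndex D = p ^ k := by
    have h := Subgroup.relIndex_comap (⊥ : Subgroup (G ⧸ C)) (QuotientGroup.mk' C) D
    rw [MonoidHom.comap_bot, QuotientGroup.ker_mk'] at h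
    rw [h, Subgroup.map_comap_eq_self_of_surjective (QuotientGroup.mk'_surjective C),
      Subgroup.relIndex_bot_left, hk]
  have := Lib.PLocal.eq_centralizer_of_generated hgen.le D hCD hrel
  rw [← Subgroup.map_comap_eq_self_of_surjective (QuotientGroup.mk'_surjective C)
    (Cfsg.pCore p (G ⧸ C)), ← hD, this, QuotientGroup.map_mk'_self]

end Cfsg.Agent.S0600
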