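import Cfsg.Statements.S0609
import Cfsg.Agent.Lib.PLocal.PPrimeQuotient
import Cfsg.Agent.Lib.Cores.Basic
-- import your own Cfsg.Agent.* helpers here

set_option autoImplicit false
open Cfsg

namespace Cfsg.Agent.S0609

/-- Thompson factorizability passes to and from the quotient by the largest normal subgroup of order prime to p. -/
theorem result {G : Type*} [Group G] [Finite G] {p : ℕ} [Fact p.Prime] : Cfsg.IsThompsonFactorizable p G ↔ Cfsg.IsThompsonFactorizable p (G ⧸ Cfsg.pPrimeCore p G) := by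
  open Cfsg.Agent.Lib Cfsg.Agent.Lib.PLocal in
  set Q := Cfsg.pPrimeCore p G with hQdef
  have hQ := Cores.pPrimeCore_coprime (G := G) p
  have hinj : ∀ S : Sylow p G,
      Function.Injective ((QuotientGroup.mk' Q).comp (S : Subgroup G).subtype) :=
    fun S => comp_subtype_injective_of_coprime hQ S.isPGroup'
  constructor
  · intro h Sq gq
    obtain ⟨S, rfl⟩ := Sylow.mapSurjective_surjective (QuotientGroup.mk'_surjective Q) p Sq
    obtain ⟨g, rfl⟩ := QuotientGroup.mk'_surjective Q gq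
    obtain ⟨x, hx, c, hc, n, hn, rfl⟩ := h S g
    refine ⟨1, one_mem _, QuotientGroup.mk' Q c, ?_, QuotientGroup.mk' Q n, ?_, ?_⟩
    · show QuotientGroup.mk' Q c ∈ Subgroup.centralizer
        (omegaCenterOf p ((S : Subgroup G).map (QuotientGroup.mk' Q)) : Set (G ⧸ Q))
      rw [← map_omegaCenterOf_of_injOn _ (hinj S), Subgroup.mem_centralizer_iff]
      rintro _ ⟨z, hz, rfl⟩
      rw [← map_mul, ← map_mul, Subgroup.mem_centralizer_iff.mp hc z hz]
    · show QuotientGroup.mk' Q n ∈ Subgroup.normalizer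
        (Cfsg.thompsonSubgroupOf p ((S : Subgroup G).map (QuotientGroup.mk' Q)) : Set (G ⧸ Q))
      rw [← map_thompsonSubgroupOf_of_injOn _ (hinj S)]
      exact Subgroup.le_normalizer_map _ (Subgroup.mem_map_of_mem _ hn)
    · rw [map_mul, map_mul, show QuotientGroup.mk' Q x = 1 from (QuotientGroup.eq_one_iff x).mpr hx]
  · intro h S g
    obtain ⟨x, hx, c, hc, n, hn, heq⟩ :=
      h (Sylow.mapSurjective (QuotientGroup.mk'_surjective Q) S) (QuotientGroup.mk' Q g)
    rw [Cores.pPrimeCore_quotient_pPrimeCore, Subgroup.mem_bot] at hx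
    subst hx
    have hc' : c ∈ Subgroup.centralizer
        ((omegaCenterOf p (S : Subgroup G)).map (QuotientGroup.mk' Q) : Set (G ⧸ Q)) := by
      rw [map_omegaCenterOf_of_injOn _ (hinj S)]; exact hc
    have hn' : n ∈ Subgroup.normalizer
        ((Cfsg.thompsonSubgroupOf p (S : Subgroup G)).map (QuotientGroup.mk' Q) : Set (G ⧸ Q)) := by
      rw [map_thompsonSubgroupOf_of_injOn _ (hinj S)]; exact hn
    obtain ⟨c₀, hc₀, rfl⟩ := PSolvable.centralizer_map_le_map_centralizer Q _ hQ
      (S.isPGroup'.to_le (omegaCenterOf_le _)) hc'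
    obtain ⟨n₀, hn₀, rfl⟩ := normalizer_map_le_map_normalizer Q _ hQ
      (S.isPGroup'.to_le (PGroups.thompsonSubgroupOf_le p _)) hn'
    refine ⟨g * (c₀ * n₀)⁻¹, ?_, c₀, hc₀, n₀, hn₀, by group⟩
    rw [← QuotientGroup.eq_one_iff (N := Cfsg.pPrimeCore p G)]
    rw [one_mul, ← map_mul] at heq
    simp only [QuotientGroup.mk'_apply] at heq
    rw [QuotientGroup.mk_mul, QuotientGroup.mk_inv, heq, mul_inv_cancel]

end Cfsg.Agent.S0609
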