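import Cfsg.Statements.S0612
import Cfsg.Agent.Lib.PLocal.OffenderBasic
-- import your own Cfsg.Agent.* helpers here

set_option autoImplicit false
open Cfsg

namespace Cfsg.Agent.S0612

/-- In such a faithful group every nontrivial best offender decomposes as a direct product of minimal nontrivially-acting best offenders. -/
theorem result {G : Type*} [Group G] [Finite G] {p : ℕ} [Fact p.Prime] (V H : Subgroup G) (hV : Cfsg.IsElementaryAbelian p V) (hHV : H ≤ Subgroup.normalizer (V : Set G)) (hf : H ⊓ Subgroup.centralizer (V : Set G) = ⊥) (hS1 : Subgroup.centralizer (Cfsg.pPrimeCore p ↥H : Set ↥H) ≤ Cfsg.pPrimeCore p ↥H) (hS3 : H = ⨆ A : {A : Subgroup G // A ≤ H ∧ Cfsg.IsBestOffenderOn p V A}, (A : Subgroup G)) (hH1 : H ≠ ⊥) (A : Subgroup G) (hAH : A ≤ H) (hA : Cfsg.IsBestOffenderOn p V A) (hA1 : A ≠ ⊥) : ∃ (k : ℕ) (B : Fin k → Subgroup G), (∀ i, B i ≤ A ∧ Cfsg.IsBestOffenderOn p V (B i) ∧ ⁅V, B i⁆ ≠ ⊥ ∧ ∀ C : Subgroup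 G, C ≤ B i → Cfsg.IsBestOffenderOn p V C → ⁅V, C⁆ ≠ ⊥ → C = B i) ∧ iSupIndep B ∧ ⨆ i, B i = A := by
  have S := Lib.PLocal.offenderSetup_of_pPrimeCore hV hHV hf hS1
  obtain ⟨k, B, hB, hind, hsup⟩ := Lib.PLocal.exists_decomposition S hA hAH
  refine ⟨k, B, fun i => ⟨(hB i).1, Lib.PLocal.isTransv_bestOffender S (hB i).2, fun h => ?_,
    fun C hC _ hCne => ?_⟩, hind, hsup⟩
  · exact Lib.PLocal.fixOn_ne_self S (hB i).2.1 (Lib.PLocal.isTransv_ne_bot (hB i).2)
      (Lib.PLocal.fixOn_eq_self_iff_commutator.mpr h)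
  · rcases Lib.PLocal.mem_bot_or_eq_of_card_prime (hB i).2.2.1 C with h | h
    · exfalso
      apply hCne
      have : C = ⊥ := by rw [← h, inf_eq_right.mpr hC]
      rw [this, Subgroup.commutator_bot_right]
    · exact le_antisymm hC h

end Cfsg.Agent.S0612
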