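import Cfsg.Statements.S0619
import Cfsg.Agent.Lib.PLocal.ActionQuotient
import Cfsg.Agent.Lib.PLocal.StableClosure
-- import your own Cfsg.Agent.* helpers here

set_option autoImplicit false
open Cfsg
open scoped commutatorElement Pointwise

namespace Cfsg.Agent.S0619

/-- For a p-separable group and a normal elementary abelian p-subgroup V with no nontrivial normal p-subgroup modulo its centralizer C, the Thompson subgroup J(G) moves Ω₁(Z(J(C))) only inside V. -/
theorem result {G : Type*} [Group G] [Finite G] {p : ℕ} [Fact p.Prime] (hsep : Cfsg.IsPSolvable p G) (V : Subgroup G) [V.Normal] (hV : Cfsg.IsElementaryAbelian p V) (hO : Cfsg.pCore p (G ⧸ Subgroup.centralizer (V : Set G)) = ⊥) : ⁅Cfsg.omegaOne p (Cfsg.centerThompsonOf p (Subgroup.centralizer (V : Set G))), Cfsg.thompsonSubgroup p G⁆ ≤ V := by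
  open Cfsg.Agent.Lib Cfsg.Agent.Lib.PLocal in
  set C := Subgroup.centralizer (V : Set G) with hC
  set X := Cfsg.omegaOne p (Cfsg.centerThompsonOf p C) with hX
  have hXab : Cfsg.IsElementaryAbelian p X := PGroups.elemAb_omegaOne (inf_centralizer_comm _)
  have hS := offenderSetup_act V hV (PSolvable.isPSolvable_quotient hsep C) hO
  have key : ∀ A ∈ Cfsg.maxElementaryAbelianSubgroups p G, ⁅X, A⁆ ≤ V := by
    intro A hA
    have h1 : Nat.card (A.map (actHom V)) * Nat.card (fixOn V A) = Nat.card V := by
      have h := bestOffender_meas_eq hS (bestOffender_act V (bestOffender_of_maxElemAb hA hV))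
        ((Subgroup.map_le_range _ _).trans (actHom_range V).le)
      change Nat.card _ * Nat.card (fixOn (actV V) _) = _ at h
      rw [card_fixOn_act] at h
      rw [h, actV, MonoidHom.range_eq_map,
        Subgroup.card_map_of_injective SemidirectProduct.inl_injective, Subgroup.card_top]
    set B := A ⊓ C with hB
    have hBe : Cfsg.IsElementaryAbelian p (B ⊔ V) :=
      PGroups.elemAb_sup (PGroups.elemAb_mono hA.1 inf_le_left) hV fun b hb v hv =>
        (Subgroup.mem_centralizer_iff.mp hb.2 v hv).symm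
    have hBV : B ⊓ V = fixOn V A := by
      rw [fixOn_eq_inf hA hV]
      refine le_antisymm (fun x hx => ⟨hx.2, hx.1.1⟩) fun x hx => ⟨⟨hx.2, ?_⟩, hx.1⟩
      exact Subgroup.le_centralizer_iff_isMulCommutative.mpr hV.1 hx.1
    have hcard : Nat.card (B ⊔ V : Subgroup G) = Nat.card A := by
      refine Nat.eq_of_mul_eq_mul_right (Nat.card_pos (α := fixOn V A)) ?_
      calc Nat.card (B ⊔ V : Subgroup G) * Nat.card (fixOn V A)
          = Nat.card B * Nat.card V := by
            rw [← hBV]; exact card_sup_mul_card_inf (le_top.trans (Subgroup.normalizer_eq_top V).ge)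
        _ = Nat.card (A.map (actHom V)) * Nat.card B * Nat.card (fixOn V A) := by rw [← h1]; ring
        _ = _ := by rw [card_map_act_mul]
    have hBC : B ⊔ V ≤ C := sup_le inf_le_right (Subgroup.le_centralizer_iff_isMulCommutative.mpr hV.1)
    have hmem : B ⊔ V ∈ PGroups.maxElemAbIn p C :=
      ⟨hBC, hBe, fun D _ hD => hcard ▸ hA.2 D hD⟩
    have hXle : X ≤ B ⊔ V := by
      have hc : X ≤ Subgroup.centralizer ((B ⊔ V : Subgroup G) : Set G) :=
        ((PGroups.omegaOne_le p _).trans inf_le_right).trans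
          (Subgroup.centralizer_le (PGroups.le_thompsonSubgroupOf hmem))
      have hE : Cfsg.IsElementaryAbelian p ((B ⊔ V) ⊔ X) :=
        PGroups.elemAb_sup hBe hXab fun a ha b hb => Subgroup.mem_centralizer_iff.mp (hc hb) a ha
      have h2 : B ⊔ V = (B ⊔ V) ⊔ X :=
        Subgroup.eq_of_le_of_card_ge le_sup_left ((hA.2 _ hE).trans hcard.ge)
      exact le_sup_right.trans h2.ge
    rw [Subgroup.commutator_le]
    intro x hx a ha
    have hbx : x ∈ ((B ⊔ V : Subgroup G) : Set G) := hXle hx
    rw [Subgroup.mul_normal] at hbx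
    obtain ⟨b, hb, v, hv, rfl⟩ := hbx
    have hba : b * a = a * b := PGroups.elemAb_comm hA.1 hb.1 ha
    have he : ⁅b * v, a⁆ = b * ⁅v, a⁆ * b⁻¹ := by
      rw [commutatorElement_def, commutatorElement_def]
      calc b * v * a * (b * v)⁻¹ * a⁻¹ = b * (v * a * v⁻¹) * (b⁻¹ * a⁻¹) := by group
        _ = b * (v * a * v⁻¹) * (a * b)⁻¹ := by group
        _ = b * (v * a * v⁻¹) * (b * a)⁻¹ := by rw [hba]
        _ = _ := by group
    rw [he]
    exact Subgroup.Normal.conj_mem inferInstance _
      (commutatorElement_mem (by rw [Subgroup.normalizer_eq_top]; trivial) hv) b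
  have h3 : (Cfsg.thompsonSubgroup p G).map (QuotientGroup.mk' V) ≤
      Subgroup.centralizer ((X.map (QuotientGroup.mk' V) : Subgroup (G ⧸ V)) : Set (G ⧸ V)) := by
    rw [Cfsg.thompsonSubgroup, Subgroup.map_le_iff_le_comap]
    refine sSup_le fun A hA => Subgroup.map_le_iff_le_comap.mp ?_
    rw [Subgroup.le_centralizer_iff, ← Subgroup.commutator_eq_bot_iff_le_centralizer,
      ← Subgroup.map_commutator, Subgroup.map_eq_bot_iff, QuotientGroup.ker_mk']
    exact key A hA
  rw [Subgroup.le_centralizer_iff, ← Subgroup.commutator_eq_bot_iff_le_centralizer,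
    ← Subgroup.map_commutator, Subgroup.map_eq_bot_iff, QuotientGroup.ker_mk'] at h3
  exact h3

end Cfsg.Agent.S0619
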