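import Cfsg.Statements.S0620
import Cfsg.Agent.Lib.PLocal.CoprimeOperatorAct
-- import your own Cfsg.Agent.* helpers here

set_option autoImplicit false
open Cfsg

namespace Cfsg.Agent.S0620

/-- Under coprime action of an elementary abelian q-group X on a p-separable group K with trivial p'-core, K is generated by the normalizer of J(S), the centralizer of Ω₁(Z(S)) and the fixed points of X. -/
theorem result {G : Type*} [Group G] [Finite G] {p : ℕ} [Fact p.Prime] {q : ℕ} [Fact q.Prime] (K X : Subgroup G) (hXK : X ≤ Subgroup.normalizer (K : Set G)) (hX : Cfsg.IsElementaryAbelian q X) (hq : ¬ q ∣ Nat.card K) (hsep : Cfsg.IsPSolvable p ↥K) (hO : Cfsg.pPrimeCore p ↥K = ⊥) (S : Sylow p ↥K) : (Subgroup.normalizer (Cfsg.thompsonSubgroupOf p (S : Subgroup ↥K) : Set ↥K) ⊔ Subgroup.centralizer (Cfsg.omegaOne p ((S : Subgroup ↥K) ⊓ Subgroup.centralizer ((S : Subgroup ↥K) : Set ↥K)) : Set ↥K) ⊔ (Subgroup.centralizer (X : Set G)).subgroupOf K) = ⊤ := by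
  open Cfsg.Agent.Lib Cfsg.Agent.Lib.PLocal in
  set M := Subgroup.normalizer (Cfsg.thompsonSubgroupOf p (S : Subgroup ↥K) : Set ↥K) ⊔
    Subgroup.centralizer (Cfsg.omegaOne p ((S : Subgroup ↥K) ⊓
      Subgroup.centralizer ((S : Subgroup ↥K) : Set ↥K)) : Set ↥K) ⊔
    (Subgroup.centralizer (X : Set G)).subgroupOf K with hM
  rw [eq_top_iff]
  intro g _
  by_cases hnf : Cfsg.IsThompsonFactorizable p ↥K
  · obtain ⟨x, hx, c, hc, n, hn, rfl⟩ := hnf S g
    rw [hO, Subgroup.mem_bot] at hx
    subst hx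
    rw [one_mul]
    exact M.mul_mem (Subgroup.mem_sup_left (Subgroup.mem_sup_right hc))
      (Subgroup.mem_sup_left (Subgroup.mem_sup_left hn))
  obtain ⟨-, O, -⟩ := operatorSetup hXK hX hq hsep hO hnf
  set J := Cfsg.thompsonSubgroup p ↥K with hJdef
  haveI hJn : J.Normal := by
    haveI := PGroups.thompsonSubgroup_characteristic (p := p) (G := ↥K)
    exact inferInstance
  set C := (opHom p K).ker with hC
  have hCM : C ≤ M := by
    refine le_trans ?_ (le_sup_of_le_left le_sup_right)
    rw [hC, opHom_ker]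
    exact Subgroup.centralizer_le (SetLike.coe_subset_coe.mpr
      (le_iSup (fun S : Sylow p ↥K => omegaCenterOf p (S : Subgroup ↥K)) S))
  have hSM : (S : Subgroup ↥K) ≤ M := le_sup_of_le_left (le_sup_of_le_left
    (Subgroup.le_normalizer.trans (PGroups.normalizer_le_normalizer_thompson (p := p) _)))
  have hE : ∀ A, IsTransv p (actV (opV p K)) (opH p K) A →
      offE (opQ p K) A ≤ M.map (opHom p K) := by
    intro A hA
    obtain ⟨h, hh, hle⟩ := exists_conj_le_sylow S hA
    refine O.offE_le_of_lifts hA ?_ ?_ (hle.trans (Subgroup.map_mono hSM)) ?_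
    · have hEn := (complement O.setup O.gen hA).2.2.2.2 hh
      exact (Subgroup.map_mono le_sup_right).trans (map_conj_self hEn).le
    · rw [Subgroup.card_map_of_injective (MulAut.conj h).injective]
      exact hA.2.1
    · intro c hc hcY
      obtain ⟨d, hdX, -, rfl⟩ := exists_lift hXK hX hq hc hcY
      exact Subgroup.mem_map_of_mem _ (Subgroup.mem_sup_right hdX)
  have hJM : J ≤ M := by
    have hH : opH p K ≤ M.map (opHom p K) := (le_iSup_transv O.setup O.gen).trans
      (iSup_le fun B => le_sup_right.trans (hE B B.2))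
    intro x hx
    obtain ⟨y, hy, hyx⟩ := hH (Subgroup.mem_map_of_mem (opHom p K) hx)
    have h1 : y⁻¹ * x ∈ C := by
      rw [hC, MonoidHom.mem_ker, map_mul, map_inv, hyx, inv_mul_cancel]
    have h2 := M.mul_mem hy (hCM h1)
    rwa [mul_inv_cancel_left] at h2
  have hD : J ⊔ C ≤ M := sup_le hJM hCM
  have hJS : Cfsg.thompsonSubgroupOf p (((S : Subgroup ↥K) ⊓ (J ⊔ C) : Subgroup ↥K)) =
      Cfsg.thompsonSubgroupOf p (S : Subgroup ↥K) :=
    PGroups.thompsonSubgroupOf_eq_of_le inf_le_left
      (le_inf (PGroups.thompsonSubgroupOf_le p _) ((thompsonSubgroupOf_sylow_le S).trans le_sup_left))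
  have hN : Subgroup.normalizer (((S : Subgroup ↥K) ⊓ (J ⊔ C) : Subgroup ↥K) : Set ↥K) ≤ M := by
    refine (PGroups.normalizer_le_normalizer_thompson (p := p) _).trans ?_
    rw [hJS]
    exact le_sup_of_le_left le_sup_left
  have htop := normalizer_inf_sup_eq_top S (J ⊔ C)
  exact sup_le hN hD (htop ▸ Subgroup.mem_top g)

end Cfsg.Agent.S0620
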