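import Cfsg.Statements.S0621
import Cfsg.Agent.Lib.PLocal.CoprimeOperatorAct
-- import your own Cfsg.Agent.* helpers here

set_option autoImplicit false
open Cfsg

namespace Cfsg.Agent.S0621

/-- Let K be p-separable with O_p'(K) = 1, normalized by an elementary abelian q-group X for a prime q not dividing the order of K. If the Thompson factorization fails in K, then p is 2 or 3 and the fixed points of X contain a plane W of order p² and a subgroup inducing SL(2, p) on it. -/
theorem result {G : Type*} [Group G] [Finite G] {p : ℕ} [Fact p.Prime] {q : ℕ} [Fact q.Prime] (K X : Subgroup G) (hXK : X ≤ Subgroup.normalizer (K : Set G)) (hX : Cfsg.IsElementaryAbelian q X) (hq : ¬ q ∣ Nat.card K) (hsep : Cfsg.IsPSolvable p ↥K) (hO : Cfsg.pPrimeCore p ↥K = ⊥) (hnf : ¬ Cfsg.IsThompsonFactorizable p ↥K) : (p = 2 ∨ p = 3) ∧ ∃ W D : Subgroup G, W ≤ K ⊓ Subgroup.centralizer (X : Set G) ∧ D ≤ K ⊓ Subgroup.centralizer (X : Set G) ∧ Cfsg.IsElementaryAbelian p W ∧ Nat.card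 W = p ^ 2 ∧ D ≤ Subgroup.normalizer (W : Set G) ∧ ∃ hn : ((Subgroup.centralizer (W : Set G)).subgroupOf D).Normal, Nonempty ((↥D ⧸ (Subgroup.centralizer (W : Set G)).subgroupOf D) ≃* Matrix.SpecialLinearGroup (Fin 2) (ZMod p)) := by
  open Cfsg.Agent.Lib Cfsg.Agent.Lib.PLocal in
  obtain ⟨hp23, O, A, hA⟩ := operatorSetup hXK hX hq hsep hO hnf
  refine ⟨hp23, ?_⟩
  obtain ⟨W₀, hW₀V, hW₀Y, hW₀c, hact⟩ := O.exists_fixed_plane hA
  let ι : ↥(opV p K) →* G := (Subgroup.normalizer (K : Set G)).subtype.comp (opV p K).subtype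
  have hι : Function.Injective ι :=
    (Subgroup.subtype_injective _).comp (Subgroup.subtype_injective _)
  set W := (W₀.comap (actEmb (opV p K))).map ι with hWdef
  have hW₀eq : (W₀.comap (actEmb (opV p K))).map (actEmb (opV p K)) = W₀ :=
    Subgroup.map_comap_eq_self hW₀V
  have hconj : ∀ (n : ↥(Subgroup.normalizer (K : Set G))) (v : ↥(opV p K)),
      actHom (opV p K) n * actEmb (opV p K) v = actEmb (opV p K) v * actHom (opV p K) n ↔
        (n : G) * ι v = ι v * (n : G) := fun n v =>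
    (actHom_commute_iff (opV p K)).trans Subtype.ext_iff
  have hιV : ∀ v, ι v ∈ K := by
    rintro ⟨_, ⟨v, hv, rfl⟩⟩
    exact v.2
  have hWX : W ≤ Subgroup.centralizer (X : Set G) := by
    rintro _ ⟨v, hv, rfl⟩
    refine Subgroup.mem_centralizer_iff.mpr fun x hx => ?_
    exact (hconj ⟨x, hXK hx⟩ v).mp (Subgroup.mem_centralizer_iff.mp (hW₀Y hv) _
      ⟨⟨x, hXK hx⟩, hx, rfl⟩)
  set D := ((Cfsg.thompsonSubgroup p ↥K ⊔ (opHom p K).ker).map K.subtype) ⊓
    Subgroup.centralizer (X : Set G) with hDdef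
  have hDK : D ≤ K := inf_le_left.trans (Subgroup.map_subtype_le _)
  have hDH : ∀ d : ↥D, opHom p K ⟨d, hDK d.2⟩ ∈ opH p K ∧ opHom p K ⟨d, hDK d.2⟩ ∈
      Subgroup.centralizer (opY p K X : Set (actGroup (opV p K))) := by
    intro d
    constructor
    · obtain ⟨k, hk, hkd⟩ := (Subgroup.mem_inf.mp d.2).1
      have h1 : opHom p K k ∈
          (Cfsg.thompsonSubgroup p ↥K ⊔ (opHom p K).ker).map (opHom p K) :=
        Subgroup.mem_map_of_mem _ hk
      rw [Subgroup.map_sup, (Subgroup.map_eq_bot_iff _).mpr le_rfl, sup_bot_eq] at h1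
      have h2 : (⟨d, hDK d.2⟩ : ↥K) = k := Subtype.ext hkd.symm
      rw [h2]
      exact h1
    · refine Subgroup.mem_centralizer_iff.mpr ?_
      rintro _ ⟨n, hn, rfl⟩
      rw [opHom, MonoidHom.comp_apply, ← map_mul, ← map_mul]
      congr 1
      exact Subtype.ext (Subgroup.mem_centralizer_iff.mp d.2.2 _ hn)
  let f : ↥D →* ↥(opH p K) :=
    ((opHom p K).comp (Subgroup.inclusion hDK)).codRestrict _ fun d => (hDH d).1
  have hEH := offE_le O.setup hA
  let ψ : ↥(opH p K) →* MulAut ↥(⁅actV (opV p K), offE (opQ p K) A⁆ : Subgroup (actGroup (opV p K))) :=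
    (Subgroup.normalizerMonoidHom _).comp (Subgroup.inclusion (O.H_le_normalizer_W hA))
  have hker : ∀ h : ↥(opH p K), ψ h = 1 ↔
      (h : actGroup (opV p K)) ∈ OperatorSetup.compl (actV (opV p K)) (opH p K) (opQ p K) A := by
    intro h
    refine ⟨fun h' => ⟨h.2, Subgroup.mem_centralizer_iff.mpr fun w hw => ?_⟩, fun h' => ?_⟩
    · have h5 := DFunLike.congr_fun h'
        (⟨w, hw⟩ : ↥(⁅actV (opV p K), offE (opQ p K) A⁆ : Subgroup (actGroup (opV p K))))
      have h4 : (h : actGroup (opV p K)) * w * (h : actGroup (opV p K))⁻¹ = w :=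
        congrArg Subtype.val h5
      calc w * (h : actGroup (opV p K))
          = (h : actGroup (opV p K)) * w * (h : actGroup (opV p K))⁻¹ * h := by rw [h4]
        _ = _ := by group
    · refine MulEquiv.ext fun w => Subtype.ext ?_
      show (h : actGroup (opV p K)) * (w : actGroup (opV p K)) * (h : actGroup (opV p K))⁻¹ = w
      rw [← Subgroup.mem_centralizer_iff.mp h'.2 _ w.2, mul_inv_cancel_right]
  let δ := ψ.comp f
  have hWle : W ≤ (omegaCenterSup p ↥K).map K.subtype := by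
    rintro _ ⟨⟨_, ⟨v, hv, rfl⟩⟩, -, rfl⟩
    exact ⟨v, hv, rfl⟩
  have hDn : D ≤ Subgroup.normalizer (W : Set G) := by
    intro d hd
    refine Subgroup.mem_normalizer_fintype ?_
    rintro _ ⟨v, hv, rfl⟩
    have h0 := (hact _ (hDH ⟨d, hd⟩).1 (hDH ⟨d, hd⟩).2).1
    refine ⟨MulAut.conjNormal (Subgroup.inclusion Subgroup.le_normalizer (⟨d, hDK hd⟩ : ↥K)) v,
      ?_, rfl⟩
    show actEmb (opV p K) _ ∈ W₀
    rw [← actHom_conj]
    exact (Subgroup.mem_normalizer_iff.mp h0 _).mp hv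
  have hcard : Nat.card W = p ^ 2 := by
    rw [hWdef, Subgroup.card_map_of_injective hι,
      ← Subgroup.card_map_of_injective (actEmb_injective (opV p K)), hW₀eq, hW₀c]
  have hV₀e : Cfsg.IsElementaryAbelian p (omegaCenterSup p ↥K) :=
    omegaCenterSup_elemAb (PSolvable.centralizer_pCore_le hsep hO)
  refine ⟨W, D, le_inf (hWle.trans (Subgroup.map_subtype_le _)) hWX, le_inf hDK inf_le_right,
    PGroups.elemAb_mono (PGroups.elemAb_map _ hV₀e) hWle, hcard, hDn, ?_⟩
  have hδker : δ.ker = (Subgroup.centralizer (W : Set G)).subgroupOf D := by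
    ext d
    rw [MonoidHom.mem_ker, Subgroup.mem_subgroupOf]
    refine (hker (f d)).trans ?_
    show opHom p K ⟨d, hDK d.2⟩ ∈ _ ↔ _
    rw [← (hact _ (hDH d).1 (hDH d).2).2]
    constructor
    · intro h
      refine Subgroup.mem_centralizer_iff.mpr ?_
      rintro _ ⟨v, hv, rfl⟩
      exact ((hconj _ v).mp (Subgroup.mem_centralizer_iff.mp h _ hv).symm).symm
    · intro h
      refine Subgroup.mem_centralizer_iff.mpr fun w hw => ?_
      obtain ⟨v, hv, rfl⟩ := hW₀eq.ge hw
      exact ((hconj (Subgroup.inclusion Subgroup.le_normalizer (⟨d, hDK d.2⟩ : ↥K)) v).mpr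
        (Subgroup.mem_centralizer_iff.mp h _ ⟨v, hv, rfl⟩).symm).symm
  have hn : ((Subgroup.centralizer (W : Set G)).subgroupOf D).Normal := hδker ▸ MonoidHom.normal_ker δ
  refine ⟨hn, ?_⟩
  let ψE : ↥(offE (opQ p K) A) →* MulAut ↥(⁅actV (opV p K), offE (opQ p K) A⁆ : Subgroup (actGroup (opV p K))) :=
    ψ.comp (Subgroup.inclusion hEH)
  have hψE : Function.Injective ψE := by
    refine (injective_iff_map_eq_one _).mpr fun e he => Subtype.ext (Subgroup.mem_bot.mp ?_)
    rw [← offE_faithful O.setup hA]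
    exact ⟨e.2, ((hker _).mp he).2⟩
  have hrange : δ.range = ψE.range := by
    refine le_antisymm ?_ ?_
    · rintro _ ⟨d, rfl⟩
      obtain ⟨hc1, -, hsup, -, -⟩ := complement O.setup O.gen hA
      have hm := hsup.ge (f d).2
      have hn' : offE (opQ p K) A ≤ Subgroup.normalizer
          (OperatorSetup.compl (actV (opV p K)) (opH p K) (opQ p K) A : Set (actGroup (opV p K))) :=
        (Subgroup.commutator_eq_bot_iff_le_centralizer.mp hc1).trans
          (Subgroup.centralizer_le_normalizer _)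
      rw [← SetLike.mem_coe, Subgroup.coe_mul_of_left_le_normalizer_right _ _ hn'] at hm
      obtain ⟨e, he, g, hg, heq⟩ := hm
      refine ⟨⟨e, he⟩, ?_⟩
      have h1 : f d = ⟨e, hEH he⟩ * ⟨g, hg.1⟩ := Subtype.ext heq.symm
      show ψ _ = ψ (f d)
      rw [h1, map_mul, (hker ⟨g, hg.1⟩).mpr hg, mul_one]
      rfl
    · rintro _ ⟨e, rfl⟩
      obtain ⟨c, hc, hcY, hcf⟩ := O.exists_fixed hA e.2
      obtain ⟨d, hdX, hdJ, hdc⟩ := exists_lift hXK hX hq hc hcY
      refine ⟨⟨d, ⟨d, hdJ, rfl⟩, hdX⟩, ?_⟩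
      have h1 : f ⟨d, ⟨d, hdJ, rfl⟩, hdX⟩ =
          Subgroup.inclusion hEH e * ⟨(e : actGroup (opV p K))⁻¹ * c, hcf.1⟩ := by
        refine Subtype.ext ?_
        show opHom p K _ = (e : actGroup (opV p K)) * ((e : actGroup (opV p K))⁻¹ * c)
        rw [mul_inv_cancel_left, ← hdc]
        rfl
      show ψ _ = ψ _
      rw [h1, map_mul, (hker ⟨_, hcf.1⟩).mpr hcf, mul_one]
  obtain ⟨i⟩ := offE_equiv_SL O.setup hA
  exact ⟨((QuotientGroup.quotientMulEquivOfEq hδker.symm).trans
    ((QuotientGroup.quotientKerEquivRange δ).trans ((MulEquiv.subgroupCongr hrange).trans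
      (MonoidHom.ofInjective hψE).symm))).trans i⟩

end Cfsg.Agent.S0621
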