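import Cfsg.Statements.S0627
import Cfsg.Agent.Lib.PLocal.PStable
import Cfsg.Agent.Lib.PLocal.PPrimeQuotient
import Cfsg.Agent.S0624
import Cfsg.Agent.Lib.Cores.Basic
-- import your own Cfsg.Agent.* helpers here

set_option autoImplicit false
open Cfsg

namespace Cfsg.Agent.S0627

/-- In a p-separable group with p at least 5, the normalizer of W(S) supplements the largest normal subgroup of order prime to p. -/
theorem result {G : Type*} [Group G] [Finite G] {p : ℕ} [Fact p.Prime] (hp : 5 ≤ p) (hsep : Cfsg.IsPSolvable p G) (S : Sylow p G) : Cfsg.pPrimeCore p G ⊔ Subgroup.normalizer (((Cfsg.stableNormalClosure p ↥(S : Subgroup G)).map (S : Subgroup G).subtype) : Set G) = ⊤ := by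
  open Cfsg.Agent.Lib Cfsg.Agent.Lib.PLocal in
  set Q := Cfsg.pPrimeCore p G with hQdef
  set π := QuotientGroup.mk' Q with hπ
  have hQ := Cores.pPrimeCore_coprime (G := G) p
  have hinj : Function.Injective (π.comp (S : Subgroup G).subtype) :=
    comp_subtype_injective_of_coprime hQ S.isPGroup'
  let Sq : Sylow p (G ⧸ Q) := Sylow.mapSurjective (QuotientGroup.mk'_surjective Q) S
  have hsq : Cfsg.IsPSolvable p (G ⧸ Q) := PSolvable.isPSolvable_quotient hsep Q
  have hn := Cfsg.Agent.S0624.result
    (isActionPStable_of_noSLTwo (by omega) (noSLTwo_of_isPSolvable hp hsq))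
    (PSolvable.centralizer_pCore_le hsq (PSolvable.pPrimeCore_quotient_eq_bot Q hQdef)) Sq
  have hr : (π.comp (S : Subgroup G).subtype).range = (Sq : Subgroup (G ⧸ Q)) := by
    rw [MonoidHom.range_comp, Subgroup.range_subtype]
    rfl
  let e : ↥(S : Subgroup G) ≃* ↥(Sq : Subgroup (G ⧸ Q)) :=
    (MonoidHom.ofInjective hinj).trans (MulEquiv.subgroupCongr hr)
  set W := (Cfsg.stableNormalClosure p ↥(S : Subgroup G)).map (S : Subgroup G).subtype with hW
  have hWeq : W.map π =
      (Cfsg.stableNormalClosure p ↥(Sq : Subgroup (G ⧸ Q))).map (Sq : Subgroup (G ⧸ Q)).subtype := by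
    rw [← closure_map_equiv e, hW, Subgroup.map_map, Subgroup.map_map]
    rfl
  have hle := normalizer_map_le_map_normalizer Q W hQ
    (S.isPGroup'.to_le (Subgroup.map_subtype_le _))
  rw [hWeq, Subgroup.normalizer_eq_top_iff.mpr hn] at hle
  rw [eq_top_iff, ← Subgroup.comap_top π]
  refine (Subgroup.comap_mono hle).trans ?_
  rw [Subgroup.comap_map_eq, QuotientGroup.ker_mk', sup_comm]

end Cfsg.Agent.S0627
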