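import Cfsg.Statements.S0629
import Mathlib
import Cfsg.Agent.Lib.PSolvable.HallHigman
import Cfsg.Agent.Lib.Cores.Basic
-- import your own Cfsg.Agent.* helpers here

set_option autoImplicit false
open Cfsg

namespace Cfsg.Agent.S0629

/-- A group in which the centralizer of a Sylow p-subgroup of O_{p',p}(G) is p-solvable is p-constrained. -/
theorem result {G : Type*} [Group G] [Finite G] {p : ℕ} [Fact p.Prime] (P : Sylow p ↥(Cfsg.pPrimePCore p G)) (hsol : Cfsg.IsPSolvable p ↥(Subgroup.centralizer (((P : Subgroup ↥(Cfsg.pPrimePCore p G)).map (Cfsg.pPrimePCore p G).subtype : Subgroup G) : Set G))) : Cfsg.IsPConstrained p G := by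
  open Lib.PSolvable in
  rw [isPConstrained_iff]
  set π := QuotientGroup.mk' (Cfsg.pPrimeCore p G)
  set Q := Cfsg.pCore p (G ⧸ Cfsg.pPrimeCore p G) with hQ
  set C := Subgroup.centralizer (Q : Set (G ⧸ Cfsg.pPrimeCore p G)) with hC
  have hCle : C ≤ (Subgroup.centralizer (((P : Subgroup ↥(Cfsg.pPrimePCore p G)).map
      (Cfsg.pPrimePCore p G).subtype : Subgroup G) : Set G)).map π := by
    rw [hC, hQ, ← map_sylow_pPrimePCore P]
    exact centralizer_map_le_map_centralizer _ _ card_pPrimeCore_coprime (P.isPGroup'.map _)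
  have hCs : Cfsg.IsPSolvable p C := isPSolvable_of_injective
    (Subgroup.inclusion hCle) (Subgroup.inclusion_injective hCle) (isPSolvable_map π hsol)
  haveI : C.Normal := Subgroup.normal_centralizer
  set H := C ⊔ Q with hH
  have hQH : Q ≤ H := le_sup_right
  haveI : H.Normal := Subgroup.sup_normal C Q
  have hHs : Cfsg.IsPSolvable p H := by
    refine isPSolvable_of_extension (C.subgroupOf H) ((isPSolvable_congr
      (Subgroup.subgroupOfEquivOfLe (le_sup_left : C ≤ H)).symm).mp hCs) (isPSolvable_of_isPGroup ?_)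
    obtain ⟨m, hm⟩ := IsPGroup.iff_card.mp (isPGroup_pCore (p := p)
      (G := G ⧸ Cfsg.pPrimeCore p G))
    have h1 : C.relIndex H ∣ p ^ m := by
      rw [hH, sup_comm, Subgroup.relIndex_sup_right, ← hm]
      exact Subgroup.relIndex_dvd_card _ _
    obtain ⟨i, -, hi⟩ := (Nat.dvd_prime_pow Fact.out).mp h1
    exact IsPGroup.of_card (n := i) ((Subgroup.index_eq_card _).symm.trans hi)
  have hH1 : Cfsg.pPrimeCore p H = ⊥ := by
    have h1 := (pPrimeCore_map_le_of_normal (p := p) H).trans_eq
      (pPrimeCore_quotient_eq_bot _ rfl)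
    rw [le_bot_iff, Subgroup.map_eq_bot_iff_of_injective _ H.subtype_injective] at h1
    exact h1
  intro x hx
  have hxH : x ∈ H := Subgroup.mem_sup_left hx
  have h2 : (⟨x, hxH⟩ : H) ∈ Cfsg.pCore p H := by
    refine centralizer_pCore_le hHs hH1 ?_
    rw [Subgroup.mem_centralizer_iff]
    intro y hy
    exact Subtype.ext (Subgroup.mem_centralizer_iff.mp hx y
      (pCore_map_le_of_normal H (Subgroup.mem_map_of_mem H.subtype hy)))
  exact pCore_map_le_of_normal H (Subgroup.mem_map_of_mem H.subtype h2)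

end Cfsg.Agent.S0629
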