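import Cfsg.Statements.S0630
import Mathlib
import Cfsg.Agent.Lib.PSolvable.HallHigman
import Cfsg.Agent.Lib.Cores.Basic
-- import your own Cfsg.Agent.* helpers here

set_option autoImplicit false
open Cfsg

namespace Cfsg.Agent.S0630

theorem transport {p : ℕ} {G H : Type*} [Group G] [Group H] (e : G ≃* H)
    (h : Subgroup.centralizer ((Cfsg.pCore p G : Subgroup G) : Set G) ≤ Cfsg.pCore p G) :
    Subgroup.centralizer ((Cfsg.pCore p H : Subgroup H) : Set H) ≤ Cfsg.pCore p H := by
  intro x hx
  rw [← Lib.Cores.map_pCore_equiv e] at hx ⊢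
  refine ⟨e.symm x, h ?_, e.apply_symm_apply x⟩
  rw [Subgroup.mem_centralizer_iff]
  intro y hy
  apply e.injective
  rw [map_mul, map_mul, e.apply_symm_apply]
  exact Subgroup.mem_centralizer_iff.mp hx _ ⟨y, hy, rfl⟩


/-- p-constraint passes to and from the quotient by the largest normal subgroup of order prime to p. -/
theorem result {G : Type*} [Group G] [Finite G] {p : ℕ} [Fact p.Prime] : Cfsg.IsPConstrained p G ↔ Cfsg.IsPConstrained p (G ⧸ Cfsg.pPrimeCore p G) := by
  rw [Lib.PSolvable.isPConstrained_iff, Lib.PSolvable.isPConstrained_iff]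
  have h0 := Lib.PSolvable.pPrimeCore_quotient_eq_bot (p := p) (Cfsg.pPrimeCore p G) rfl
  set K := G ⧸ Cfsg.pPrimeCore p G
  let e : (K ⧸ Cfsg.pPrimeCore p K) ≃* K :=
    (QuotientGroup.quotientMulEquivOfEq h0).trans QuotientGroup.quotientBot
  exact ⟨transport e.symm, transport e⟩

end Cfsg.Agent.S0630
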