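import Cfsg.Statements.S0632
import Cfsg.Agent.Lib.PLocal.PPrimeQuotient
import Cfsg.Agent.Lib.PSolvable.HallHigman
import Cfsg.Agent.Lib.Cores.Basic

set_option autoImplicit false
open Cfsg
open Cfsg.Agent.Lib

namespace Cfsg.Agent.S0632

variable {G : Type*} [Group G] [Finite G] {p : ℕ} [Fact p.Prime]

theorem image_le_pCore_iff (O : Subgroup G) [O.Normal] (hO : (Nat.card O).Coprime p)
    {A P : Subgroup G} (hP : IsPGroup p ↥P) (hA : A ≤ Subgroup.normalizer (P : Set G)) :
    ((A.subgroupOf (Subgroup.normalizer (P : Set G))).map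
        (QuotientGroup.mk' ((Subgroup.centralizer (P : Set G)).subgroupOf
          (Subgroup.normalizer (P : Set G)))) ≤ pCore p _) ↔
      (((A.map (QuotientGroup.mk' O)).subgroupOf
          (Subgroup.normalizer ((P.map (QuotientGroup.mk' O) : Subgroup (G ⧸ O)) : Set (G ⧸ O)))).map
        (QuotientGroup.mk' ((Subgroup.centralizer
            ((P.map (QuotientGroup.mk' O) : Subgroup (G ⧸ O)) : Set (G ⧸ O))).subgroupOf
          (Subgroup.normalizer ((P.map (QuotientGroup.mk' O) : Subgroup (G ⧸ O)) : Set (G ⧸ O)))))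
        ≤ pCore p _) := by
  set π := QuotientGroup.mk' O with hπ
  set N := Subgroup.normalizer (P : Set G) with hN
  set N' := Subgroup.normalizer ((P.map π : Subgroup (G ⧸ O)) : Set (G ⧸ O)) with hN'
  set q' := QuotientGroup.mk'
    ((Subgroup.centralizer ((P.map π : Subgroup (G ⧸ O)) : Set (G ⧸ O))).subgroupOf N') with hq'
  have hNN' : ∀ n : ↥N, π n ∈ N' := fun n =>
    (Subgroup.le_normalizer_map π) ⟨n, n.2, rfl⟩
  let ψ : ↥N →* ↥N' := (π.comp N.subtype).codRestrict N' hNN'
  have hψ : Function.Surjective ψ := by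
    rintro ⟨x, hx⟩
    obtain ⟨n, hn, hnx⟩ := PLocal.normalizer_map_le_map_normalizer O P hO hP hx
    exact ⟨⟨n, hn⟩, Subtype.ext hnx⟩
  let f := q'.comp ψ
  have hf : Function.Surjective f := (QuotientGroup.mk'_surjective _).comp hψ
  have hker : f.ker = (Subgroup.centralizer (P : Set G)).subgroupOf N := by
    ext n
    rw [MonoidHom.mem_ker, Subgroup.mem_subgroupOf]
    show q' (ψ n) = 1 ↔ _
    rw [hq', QuotientGroup.mk'_apply, QuotientGroup.eq_one_iff, Subgroup.mem_subgroupOf]
    show π n ∈ _ ↔ _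
    rw [Subgroup.mem_centralizer_iff, Subgroup.mem_centralizer_iff]
    constructor
    · intro h u hu
      have h1 := h (π u) (Subgroup.mem_map_of_mem π hu)
      have h2 : (n : G) * u * (n : G)⁻¹ ∈ P := (Subgroup.mem_normalizer_iff.1 n.2 u).1 hu
      have h3 : (⟨_, h2⟩ : ↥P) = ⟨u, hu⟩ := by
        refine PLocal.comp_subtype_injective_of_coprime hO hP ?_
        show π ((n : G) * u * (n : G)⁻¹) = π u
        rw [map_mul, map_mul, map_inv, ← h1, mul_inv_cancel_right]
      have h4 : (n : G) * u * (n : G)⁻¹ = u := congrArg Subtype.val h3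
      exact (mul_inv_eq_iff_eq_mul.1 h4).symm
    · rintro h _ ⟨u, hu, rfl⟩
      rw [← map_mul, ← map_mul, h u hu]
  let e : (↥N ⧸ (Subgroup.centralizer (P : Set G)).subgroupOf N) ≃* _ :=
    (QuotientGroup.quotientMulEquivOfEq hker.symm).trans
      (QuotientGroup.quotientKerEquivOfSurjective f hf)
  have he : ∀ n : ↥N, e (QuotientGroup.mk' _ n) = f n := fun n => rfl
  have hA' : (A.subgroupOf N).map ψ = (A.map π).subgroupOf N' := by
    ext x
    constructor
    · rintro ⟨a, ha, rfl⟩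
      exact ⟨a, ha, rfl⟩
    · rintro ⟨a, ha, hax⟩
      exact ⟨⟨a, hA ha⟩, ha, Subtype.ext hax⟩
  have himg : ((A.subgroupOf N).map
      (QuotientGroup.mk' ((Subgroup.centralizer (P : Set G)).subgroupOf N))).map e.toMonoidHom =
      ((A.map π).subgroupOf N').map q' := by
    rw [Subgroup.map_map, ← hA', Subgroup.map_map]
    congr 1
  rw [← himg, ← Cores.map_pCore_equiv e, Subgroup.map_le_map_iff_of_injective e.injective]

/-- For a group with a nontrivial normal p-subgroup, p-stability passes to and from the quotient by the largest normal subgroup of order prime to p. -/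
theorem result {G : Type*} [Group G] [Finite G] {p : ℕ} [Fact p.Prime] (hO : Cfsg.pCore p G ≠ ⊥) : Cfsg.IsPStable p G ↔ Cfsg.IsPStable p (G ⧸ Cfsg.pPrimeCore p G) := by
  set O := pPrimeCore p G with hOdef
  set π := QuotientGroup.mk' O with hπ
  have hcop : (Nat.card O).Coprime p := Cores.pPrimeCore_coprime p
  have hπs : Function.Surjective π := QuotientGroup.mk'_surjective O
  have hne : pCore p (G ⧸ O) ≠ ⊥ := by
    intro h
    refine hO (le_bot_iff.1 ?_)
    have h1 := Cores.map_pCore_le (p := p) π hπs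
    rw [h, le_bot_iff, Subgroup.map_eq_bot_iff, QuotientGroup.ker_mk'] at h1
    calc pCore p G ≤ pCore p G ⊓ O := le_inf le_rfl h1
      _ = ⊥ := Cores.pCore_inf_pPrimeCore p
  have hOq : pPrimeCore p (G ⧸ O) = ⊥ := Cores.pPrimeCore_quotient_pPrimeCore p
  constructor
  · rintro ⟨hodd, -, h⟩
    refine ⟨hodd, hne, fun A' P' hA' hP' hnorm hP'le hP'n hcomm => ?_⟩
    have hA'N : A' ≤ Subgroup.normalizer (P' : Set (G ⧸ O)) := fun a ha => by
      rw [Subgroup.mem_normalizer_iff]
      refine fun x => ⟨hnorm a ha x, fun hx => ?_⟩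
      have := hnorm a⁻¹ (A'.inv_mem ha) _ hx
      simpa [mul_assoc] using this
    have hT' : IsPGroup p ↥(A' ⊔ P') := hA'.to_sup_of_normal_right' hP' hA'N
    obtain ⟨S⟩ := (inferInstance : Nonempty (Sylow p ↥((A' ⊔ P').comap π)))
    set T := (S : Subgroup ↥((A' ⊔ P').comap π)).map ((A' ⊔ P').comap π).subtype with hT
    have hTp : IsPGroup p ↥T := S.isPGroup'.map _
    have hTmap : T.map π = A' ⊔ P' := by
      set ρ := π.subgroupComap (A' ⊔ P') with hρ
      have hρs : Function.Surjective ρ := by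
        rintro ⟨x, hx⟩
        obtain ⟨g, rfl⟩ := hπs x
        exact ⟨⟨g, hx⟩, rfl⟩
      have h1 : ((S.mapSurjective hρs : Sylow p ↥(A' ⊔ P')) : Subgroup ↥(A' ⊔ P')) = ⊤ :=
        ((S.mapSurjective hρs).is_maximal' (Q := ⊤)
          (hT'.of_equiv Subgroup.topEquiv.symm) le_top).symm
      ext x
      constructor
      · rintro ⟨_, ⟨s, _, rfl⟩, rfl⟩
        exact s.2
      · intro hx
        have h2 : (⟨x, hx⟩ : ↥(A' ⊔ P')) ∈ ((S.mapSurjective hρs : Sylow p ↥(A' ⊔ P')) :
            Subgroup ↥(A' ⊔ P')) := h1 ▸ Subgroup.mem_top _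
        rw [Sylow.coe_mapSurjective] at h2
        obtain ⟨s, hs, hsx⟩ := h2
        exact ⟨s, ⟨s, hs, rfl⟩, congrArg Subtype.val hsx⟩
    set A := T ⊓ A'.comap π with hA
    set P := T ⊓ P'.comap π with hP
    have hlift : ∀ X : Subgroup (G ⧸ O), X ≤ A' ⊔ P' → (T ⊓ X.comap π).map π = X := by
      intro X hX
      refine le_antisymm ?_ fun x hx => ?_
      · rintro _ ⟨t, ⟨-, ht⟩, rfl⟩
        exact ht
      · obtain ⟨t, ht, rfl⟩ := (hTmap.symm.le (hX hx) : x ∈ T.map π)
        exact ⟨t, ⟨ht, hx⟩, rfl⟩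
    have hAmap : A.map π = A' := hlift A' le_sup_left
    have hPmap : P.map π = P' := hlift P' le_sup_right
    have hAp : IsPGroup p ↥A := hTp.to_le inf_le_left
    have hPp : IsPGroup p ↥P := hTp.to_le inf_le_left
    have hAP : ∀ a ∈ A, ∀ x ∈ P, a * x * a⁻¹ ∈ P := by
      rintro a ⟨haT, ha⟩ x ⟨hxT, hx⟩
      refine ⟨T.mul_mem (T.mul_mem haT hxT) (T.inv_mem haT), ?_⟩
      show π (a * x * a⁻¹) ∈ P'
      rw [map_mul, map_mul, map_inv]
      exact hnorm _ ha _ hx
    have hAN : A ≤ Subgroup.normalizer (P : Set G) := fun a ha => by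
      rw [Subgroup.mem_normalizer_iff]
      refine fun x => ⟨hAP a ha x, fun hx => ?_⟩
      have := hAP a⁻¹ (A.inv_mem ha) _ hx
      simpa [mul_assoc] using this
    rw [hOq, bot_sup_eq] at hP'n
    have hP'O : P' ≤ pCore p (G ⧸ O) := Cores.le_pCore hP'
    have key := h A P hAp hPp hAP ?_ ?_ ?_
    · have := (image_le_pCore_iff O hcop hPp hAN).1 key
      rw [← hπ, hAmap] at this
      clear key
      revert this
      rw [hPmap]
      exact id
    · intro x hx
      exact hP'O hx.2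
    · have : pPrimeCore p G ⊔ P = P'.comap π := by
        rw [← hPmap, Subgroup.comap_map_eq, hπ, QuotientGroup.ker_mk', sup_comm]
      rw [this]
      exact hP'n.comap π
    · rw [Subgroup.eq_bot_iff_forall]
      intro x hx
      have hxT : x ∈ T := by
        refine (Subgroup.commutator_le.2 fun u hu v hv => ?_ : ⁅⁅P, A⁆, A⁆ ≤ T) hx
        have hu' : u ∈ T := (Subgroup.commutator_le.2 fun u hu v hv => by
          exact T.mul_mem (T.mul_mem (T.mul_mem hu.1 hv.1) (T.inv_mem hu.1)) (T.inv_mem hv.1) :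
            ⁅P, A⁆ ≤ T) hu
        exact T.mul_mem (T.mul_mem (T.mul_mem hu' hv.1) (T.inv_mem hu')) (T.inv_mem hv.1)
      have h1 : π x ∈ (⁅⁅P, A⁆, A⁆).map π := Subgroup.mem_map_of_mem π hx
      rw [Subgroup.map_commutator, Subgroup.map_commutator, hPmap, hAmap, hcomm,
        Subgroup.mem_bot] at h1
      have h2 : (⟨x, hxT⟩ : ↥T) = 1 :=
        PLocal.comp_subtype_injective_of_coprime hcop hTp (h1.trans π.map_one.symm)
      exact congrArg Subtype.val h2
  · rintro ⟨hodd, -, h⟩
    refine ⟨hodd, hO, fun A P hA hP hnorm hPle hPn hcomm => ?_⟩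
    have hAN : A ≤ Subgroup.normalizer (P : Set G) := fun a ha => by
      rw [Subgroup.mem_normalizer_iff]
      refine fun x => ⟨hnorm a ha x, fun hx => ?_⟩
      have := hnorm a⁻¹ (A.inv_mem ha) _ hx
      simpa [mul_assoc] using this
    refine (image_le_pCore_iff O hcop hP hAN).2 (h _ _ (hA.map π) (hP.map π) ?_ ?_ ?_ ?_)
    · rintro _ ⟨a, ha, rfl⟩ _ ⟨x, hx, rfl⟩
      exact ⟨_, hnorm a ha x hx, by rw [map_mul, map_mul, map_inv]⟩
    · refine le_trans ?_ PSolvable.pCore_le_pPrimePCore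
      exact Subgroup.map_le_iff_le_comap.2 hPle
    · rw [hOq, bot_sup_eq]
      have h1 := hPn.map π hπs
      rwa [Subgroup.map_sup, hπ, QuotientGroup.map_mk'_self, bot_sup_eq] at h1
    · rw [← Subgroup.map_commutator, ← Subgroup.map_commutator, hcomm, Subgroup.map_bot]

end Cfsg.Agent.S0632
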