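import Cfsg.Statements.S0633
import Mathlib
import Cfsg.Agent.Lib.HallHigmanB.Main
-- import your own Cfsg.Agent.* helpers here

set_option autoImplicit false
open Cfsg

namespace Cfsg.Agent.S0633

/-- Theorem B of Hall and Higman on the minimal polynomial of a p-element of order p^n in a p-solvable linear group on a nonzero vector space in characteristic p with no nontrivial normal p-subgroup: its degree is p^n, except when some p^n₀ - 1 (n₀ ≤ n) is a power of a prime q for which the Sylow q-subgroups are non-abelian, in which case the degree is at least p^(n-n₀)(p^n₀ - 1). -/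
theorem result {F : Type*} [Field F] {p : ℕ} [Fact p.Prime] [CharP F p] {V : Type*} [AddCommGroup V] [Module F V] [FiniteDimensional F V] [Nontrivial V] (H : Subgroup (V ≃ₗ[F] V)) [Finite H] (hsol : Cfsg.IsPSolvable p H) (hOp : Cfsg.pCore p H = ⊥) (x : V ≃ₗ[F] V) (hx : x ∈ H) (n : ℕ) (hn : orderOf x = p ^ n) (r : ℕ) (hr : minpoly F (x : Module.End F V) = (Polynomial.X - 1) ^ r) : r = p ^ n ∨ ∃ n₀ q m : ℕ, 1 ≤ n₀ ∧ n₀ ≤ n ∧ q.Prime ∧ 1 ≤ m ∧ p ^ n₀ - 1 = q ^ m ∧ (∀ Q : Sylow q H, ¬ IsMulCommutative Q) ∧ p ^ (n - n₀) * (p ^ n₀ - 1) ≤ r := by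
  have hle : r ≤ p ^ n := by
    have h1 : Polynomial.aeval (x : Module.End F V) ((Polynomial.X - 1 : Polynomial F) ^ p ^ n) = 0 := by
      have h2 : ((x : Module.End F V)) ^ p ^ n = 1 := by
        have h3 : LinearEquiv.automorphismGroup.toLinearMapMonoidHom (x ^ p ^ n) =
            (1 : Module.End F V) := by rw [← hn, pow_orderOf_eq_one, map_one]
        rw [map_pow] at h3
        exact h3
      simp [sub_pow_char_pow, h2]
    have h4 := minpoly.dvd F _ h1
    rw [hr, pow_dvd_pow_iff (by rw [← map_one Polynomial.C]; exact Polynomial.X_sub_C_ne_zero 1)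
      (by rw [← map_one Polynomial.C]; exact Polynomial.not_isUnit_X_sub_C 1)] at h4
    exact h4
  have hlt : ∀ j : ℕ, ((x : Module.End F V) - 1) ^ j ≠ 0 → j < r := fun j hj => by
    by_contra hjr
    push Not at hjr
    refine hj ?_
    have h1 := minpoly.aeval F (x : Module.End F V)
    rw [hr, map_pow, map_sub, Polynomial.aeval_X, map_one] at h1
    rw [← Nat.add_sub_cancel' hjr, pow_add, h1, zero_mul]
  rcases n with _ | n
  · left
    have h0 := hlt 0 (by rw [pow_zero]; exact one_ne_zero)
    rw [pow_zero] at hle ⊢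
    omega
  let f : H →* Module.End F V := LinearEquiv.automorphismGroup.toLinearMapMonoidHom.comp H.subtype
  have hf : Function.Injective f := fun a b h =>
    Subtype.ext (LinearEquiv.toLinearMap_injective h)
  rcases Lib.HallHigmanB.theoremB hsol hOp f hf ⟨x, hx⟩ n (by rw [Subgroup.orderOf_mk, hn]) with h |
      ⟨n₀, q, d, h1, h2, h3, h4, h5, h6, h7⟩
  · left
    have := hlt _ h
    omega
  · refine Or.inr ⟨n₀, q, d, h1, h2, h3, h4, h5, h6, ?_⟩
    have := hlt _ h7
    omega

end Cfsg.Agent.S0633
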