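import Cfsg.Statements.S0635
import Mathlib
import Cfsg.Agent.Lib.PSolvable.PLength
-- import your own Cfsg.Agent.* helpers here

set_option autoImplicit false
open Cfsg

namespace Cfsg.Agent.S0635

universe u

open Lib.PSolvable

theorem le_of_surjective {p : ℕ} [Fact p.Prime] {G H : Type u} [Group G] [Finite G] [Group H] [Finite H]
    (f : G →* H) (hf : Function.Surjective f) (S : Sylow p G) [Group.IsNilpotent (S : Subgroup G)] :
    Group.nilpotencyClass ↥((S.mapSurjective hf : Sylow p H) : Subgroup H) ≤
      Group.nilpotencyClass ↥(S : Subgroup G) :=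
  Group.nilpotencyClass_le_of_surjective (f.subgroupMap (S : Subgroup G))
    (f.subgroupMap_surjective _)

theorem aux {p : ℕ} [Fact p.Prime] : ∀ (c : ℕ) (G : Type u) [Group G] [Finite G],
    Cfsg.IsPSolvable p G → ∀ (S : Sylow p G) [Group.IsNilpotent (S : Subgroup G)],
    Group.nilpotencyClass ↥(S : Subgroup G) ≤ c → Cfsg.PLengthLE p c G := by
  intro c
  induction c with
  | zero =>
    intro G _ _ _ S _ hc
    haveI := Group.nilpotencyClass_zero_iff_subsingleton.mp (Nat.le_zero.mp hc)
    refine pLengthLE_zero_iff.mpr fun hd => ?_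
    exact S.ne_bot_of_dvd_card hd (Subgroup.eq_bot_of_subsingleton _)
  | succ c ih =>
    intro G _ _ hG S _ hc
    refine pLengthLE_of_quotient_pPrime (N := Cfsg.pPrimeCore p G) card_pPrimeCore_coprime ?_
    set π := QuotientGroup.mk' (Cfsg.pPrimeCore p G)
    set T : Sylow p (G ⧸ Cfsg.pPrimeCore p G) :=
      S.mapSurjective (QuotientGroup.mk'_surjective _) with hT
    haveI := T.isPGroup'.isNilpotent
    have hTc : Group.nilpotencyClass ↥(T : Subgroup (G ⧸ Cfsg.pPrimeCore p G)) ≤ c + 1 :=
      (le_of_surjective π (QuotientGroup.mk'_surjective _) S).trans hc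
    have hG1 := isPSolvable_quotient hG (Cfsg.pPrimeCore p G)
    have h1 := pPrimeCore_quotient_eq_bot (p := p) (Cfsg.pPrimeCore p G) rfl
    set K := G ⧸ Cfsg.pPrimeCore p G
    set Q := Cfsg.pCore p K with hQ
    refine pLengthLE_succ_of_quotient_pCore ?_
    set f := QuotientGroup.mk' Q
    set T2 : Sylow p (K ⧸ Q) := T.mapSurjective (QuotientGroup.mk'_surjective Q)
    haveI := T2.isPGroup'.isNilpotent
    refine ih _ (isPSolvable_quotient hG1 Q) T2 ?_
    let g := f.subgroupMap (T : Subgroup K)
    have hker : Subgroup.center ↥(T : Subgroup K) ≤ g.ker := by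
      intro z hz
      refine MonoidHom.mem_ker.mpr (Subtype.ext ?_)
      show f (z : K) = 1
      refine (QuotientGroup.eq_one_iff _).mpr (centralizer_pCore_le hG1 h1 ?_)
      rw [Subgroup.mem_centralizer_iff]
      intro y hy
      have hyT : y ∈ (T : Subgroup K) := isPGroup_pCore.le_sylow_of_normal T hy
      exact congrArg Subtype.val (Subgroup.mem_center_iff.mp hz ⟨y, hyT⟩)
    have hs : Function.Surjective (QuotientGroup.lift _ g hker) := fun y => by
      obtain ⟨x, hx⟩ := f.subgroupMap_surjective (T : Subgroup K) y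
      exact ⟨QuotientGroup.mk x, hx⟩
    refine (Group.nilpotencyClass_le_of_surjective _ hs).trans ?_
    rw [Group.nilpotencyClass_quotient_center]
    exact Nat.sub_le_iff_le_add.mpr hTc


/-- The p-length of a p-soluble group is at most the nilpotency class of its Sylow p-subgroups. -/
theorem result {G : Type*} [Group G] [Finite G] {p : ℕ} [Fact p.Prime] (hsol : Cfsg.IsPSolvable p G) (S : Sylow p G) : Cfsg.PLengthLE p (Group.nilpotencyClass ↥(S : Subgroup G)) G := by
  haveI := S.isPGroup'.isNilpotent
  exact aux _ G hsol S le_rfl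

end Cfsg.Agent.S0635
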