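import Cfsg.Statements.S0636
import Cfsg.Agent.Lib.Frobenius.PGroupOdd
import Cfsg.Agent.Lib.PGroups.MaxAbelian

set_option autoImplicit false
open Cfsg
open scoped commutatorElement

namespace Cfsg.Agent.S0636

/-- For odd p, every non-cyclic normal subgroup of a p-group contains a normal elementary abelian subgroup of the whole group of order p². -/
theorem result {R : Type*} [Group R] [Finite R] {p : ℕ} [Fact p.Prime] (hp : p ≠ 2) (hR : IsPGroup p R) (S : Subgroup R) [S.Normal] (hS : ¬ IsCyclic S) : ∃ A : Subgroup R, A ≤ S ∧ A.Normal ∧ Cfsg.IsElementaryAbelian p A ∧ Nat.card A = p ^ 2 := by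
  have hpp : p.Prime := Fact.out
  obtain ⟨E, hEn, hE, hEc⟩ :=
    Lib.Frobenius.PGroupOdd.exists_normal_elemAb (G := ↥S) (p := p) (hR.to_subgroup S) hp hS
  have hSp := hR.to_subgroup S
  -- commutators of `E` with `S` are central in `S`
  have hEcom : ∀ x ∈ E, ∀ s : ↥S, ⁅x, s⁆ ∈ Subgroup.center ↥S := by
    intro x hx s
    obtain ⟨L, hLn, hLE, hLc⟩ := Lib.PGroups.exists_normal_le_card (k := 1) hSp E
      (by rw [hEc]; exact Nat.pow_le_pow_right hpp.pos (by norm_num))
    rw [pow_one] at hLc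
    have hLz := Lib.PGroups.le_center_of_normal_card_prime hSp L hLc
    have hx' : (QuotientGroup.mk' L x) ∈ E.map (QuotientGroup.mk' L) := ⟨x, hx, rfl⟩
    haveI : (E.map (QuotientGroup.mk' L)).Normal :=
      hEn.map _ (QuotientGroup.mk'_surjective L)
    have hcard : Nat.card (E.map (QuotientGroup.mk' L)) = p := by
      have h1 := Subgroup.relIndex_ker (K := E) (QuotientGroup.mk' L)
      rw [QuotientGroup.ker_mk'] at h1
      have h2 := Subgroup.relIndex_mul_relIndex (⊥ : Subgroup ↥S) L E bot_le hLE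
      rw [Subgroup.relIndex_bot_left, Subgroup.relIndex_bot_left, hLc, hEc, h1, sq] at h2
      exact Nat.eq_of_mul_eq_mul_left hpp.pos h2
    have hc := Lib.PGroups.le_center_of_normal_card_prime (hSp.to_quotient L) _ hcard hx'
    rw [Subgroup.mem_center_iff] at hc
    refine hLz ?_
    rw [← QuotientGroup.eq_one_iff]
    change (QuotientGroup.mk' L) ⁅x, s⁆ = 1
    rw [map_commutatorElement, commutatorElement_eq_one_iff_mul_comm]
    exact (hc _).symm
  -- the elements of order dividing `p` in the second centre of `S`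
  obtain ⟨q, hq⟩ : p ∣ p.choose 2 :=
    hpp.dvd_choose_self (by norm_num) (lt_of_le_of_ne hpp.two_le (Ne.symm hp))
  have hmulc : ∀ x y : ↥S, (∀ s, ⁅x, s⁆ ∈ Subgroup.center ↥S) → (∀ s, ⁅y, s⁆ ∈ Subgroup.center ↥S) →
      ∀ s, ⁅x * y, s⁆ ∈ Subgroup.center ↥S := by
    intro x y hx hy s
    have h : ⁅x * y, s⁆ = x * ⁅y, s⁆ * x⁻¹ * ⁅x, s⁆ := by
      simp only [commutatorElement_def]; group
    rw [h]
    refine mul_mem ?_ (hx s)
    have := Subgroup.mem_center_iff.1 (hy s) x
    rw [this, mul_inv_cancel_right]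
    exact hy s
  let M : Subgroup R :=
    { carrier := {r | ∃ h : r ∈ S, (∀ s : ↥S, ⁅(⟨r, h⟩ : ↥S), s⁆ ∈ Subgroup.center ↥S) ∧ r ^ p = 1}
      one_mem' := by
        refine ⟨S.one_mem, fun s => ?_, one_pow p⟩
        have : (⟨1, S.one_mem⟩ : ↥S) = 1 := rfl
        rw [this, commutatorElement_one_left]
        exact one_mem _
      mul_mem' := by
        rintro x y ⟨hxS, hx, hxp⟩ ⟨hyS, hy, hyp⟩
        refine ⟨S.mul_mem hxS hyS, hmulc ⟨x, hxS⟩ ⟨y, hyS⟩ hx hy, ?_⟩
        set u : ↥S := ⟨x, hxS⟩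
        set v : ↥S := ⟨y, hyS⟩
        have hup : u ^ p = 1 := Subtype.ext hxp
        have hvp : v ^ p = 1 := Subtype.ext hyp
        have hc : ∀ g : ↥S, Commute g ⁅v, u⁆ := fun g => Subgroup.mem_center_iff.1 (hy u) g
        have hcp : ⁅v, u⁆ ^ p = 1 := by
          have h1 : ∀ n : ℕ, v ^ n * u = ⁅v, u⁆ ^ n * (u * v ^ n) := by
            intro n
            induction n with
            | zero => simp
            | succ n ih =>
              have e : v * u = ⁅v, u⁆ * (u * v) := by rw [commutatorElement_def]; group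
              calc v ^ (n + 1) * u = v ^ n * (v * u) := by rw [pow_succ, mul_assoc]
                _ = ⁅v, u⁆ * (v ^ n * (u * v)) := by
                    rw [e, ← mul_assoc, ← mul_assoc, ((hc (v ^ n))).eq]; simp only [mul_assoc]
                _ = ⁅v, u⁆ * (⁅v, u⁆ ^ n * (u * v ^ n) * v) := by rw [← ih]; simp only [mul_assoc]
                _ = ⁅v, u⁆ ^ (n + 1) * (u * v ^ (n + 1)) := by
                    rw [pow_succ', pow_succ v]; simp only [mul_assoc]
          have h2 := h1 p
          rw [hvp, one_mul, mul_one] at h2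
          exact mul_right_cancel (b := u) (by rw [← h2, one_mul])
        have := Lib.PGroups.mul_pow_of_central_commutator u v (hc u) (hc v) p
        rw [hup, hvp, hq, pow_mul, hcp, one_pow, one_mul, one_mul] at this
        exact congrArg Subtype.val this
      inv_mem' := by
        rintro x ⟨hxS, hx, hxp⟩
        refine ⟨S.inv_mem hxS, fun s => ?_, by rw [inv_pow, hxp, inv_one]⟩
        set u : ↥S := ⟨x, hxS⟩
        have h : ⁅u⁻¹, s⁆ = u⁻¹ * ⁅u, s⁆⁻¹ * u := by
          simp only [commutatorElement_def]; group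
        change ⁅u⁻¹, s⁆ ∈ _
        rw [h]
        have := Subgroup.mem_center_iff.1 (inv_mem (hx s)) u⁻¹
        rw [this, inv_mul_cancel_right]
        exact inv_mem (hx s) }
  haveI hMn : M.Normal := ⟨by
    rintro x ⟨hxS, hx, hxp⟩ g
    have hgS : g * x * g⁻¹ ∈ S := Subgroup.Normal.conj_mem inferInstance x hxS g
    refine ⟨hgS, fun s => ?_, by rw [conj_pow, hxp]; group⟩
    set φ : ↥S ≃* ↥S := MulAut.conjNormal (H := S) g
    obtain ⟨t, rfl⟩ := φ.surjective s
    have : (⟨g * x * g⁻¹, hgS⟩ : ↥S) = φ ⟨x, hxS⟩ := Subtype.ext rfl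
    rw [this, ← map_commutatorElement]
    rw [Subgroup.mem_center_iff]
    intro z
    obtain ⟨z', rfl⟩ := φ.surjective z
    rw [← map_mul, ← map_mul, Subgroup.mem_center_iff.1 (hx t) z']⟩
  have hEM : E.map S.subtype ≤ M := by
    rintro _ ⟨e, he, rfl⟩
    exact ⟨e.2, hEcom e he, congrArg Subtype.val (Lib.PGroups.elemAb_pow hE he)⟩
  obtain ⟨A, hAn, hAM, hAc⟩ := Lib.PGroups.exists_normal_le_card (k := 2) hR M (by
    rw [← hEc, ← Subgroup.card_map_of_injective S.subtype_injective (K := E)]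
    exact Subgroup.card_le_of_le hEM)
  refine ⟨A, fun a ha => (hAM ha).1, hAn, ?_, hAc⟩
  have hc := IsPGroup.commutative_of_card_eq_prime_sq hAc
  refine Lib.PGroups.elemAb_mk (fun a ha b hb => ?_) (fun a ha => (hAM ha).2.2)
  exact congrArg Subtype.val (hc ⟨a, ha⟩ ⟨b, hb⟩)

end Cfsg.Agent.S0636
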