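import Cfsg.Statements.S0637
import Cfsg.Agent.Lib.PGroupTheory.RankTwoLarge

set_option autoImplicit false
open Cfsg
open Cfsg.Agent.Lib Cfsg.Agent.Lib.PGroupTheory

namespace Cfsg.Agent.S0637

/-- For p greater than 3, the bound p² on the order of the subgroup generated by the elements of order dividing p passes from a p-group to all its quotients. -/
theorem result {R : Type*} [Group R] [Finite R] {p : ℕ} [Fact p.Prime] (hp : 3 < p) (hR : IsPGroup p R) (hO : Nat.card ↥(Cfsg.omegaOne p (⊤ : Subgroup R)) ≤ p ^ 2) (T : Subgroup R) [T.Normal] : Nat.card ↥(Cfsg.omegaOne p (⊤ : Subgroup (R ⧸ T))) ≤ p ^ 2 := by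
  have hp5 : 5 ≤ p := by
    have h4 : p ≠ 4 := fun h => absurd (h ▸ (Fact.out : p.Prime)) (by norm_num)
    omega
  have hmem : ∀ x : R, x ^ p = 1 → x ∈ Cfsg.omegaOne p (⊤ : Subgroup R) := fun x hx =>
    PGroups.mem_omegaOne_of_pow (Subgroup.mem_top x) hx
  have hrk : Cfsg.PRankLE p 2 R := fun A _ hA =>
    (Subgroup.card_le_of_le fun a ha => hmem a (hA a ha)).trans hO
  have hreg := (isRegularPGroup_iff.1 (RankTwo.isRegularPGroup_of_prankLE hp5 R hR hrk)).2 1
  obtain ⟨K, -, hK⟩ := exists_subgroup_of_regularAt (hR.to_quotient T) (hreg.quotient T)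
  have hle : Cfsg.omegaOne p (⊤ : Subgroup (R ⧸ T)) ≤ K :=
    (Subgroup.closure_le K).2 fun x hx => (hK x).2 hx.2
  refine (Subgroup.card_le_of_le hle).trans ?_
  have h1 : Nat.card K = Nat.card {x : R ⧸ T // x ^ p = 1} :=
    Nat.card_congr (Equiv.subtypeEquivRight hK)
  rw [h1, ← index_powerClosure_eq (hR.to_quotient T) (hreg.quotient T)]
  refine le_trans ?_ ((index_powerClosure_eq hR hreg).trans_le ((Nat.card_le_card_of_injective
    (fun x : {x : R // x ^ p = 1} => (⟨x.1, hmem x.1 x.2⟩ : ↥(Cfsg.omegaOne p (⊤ : Subgroup R))))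
    fun a b h => Subtype.ext (congrArg (fun z : ↥(Cfsg.omegaOne p (⊤ : Subgroup R)) => (z : R)) h)).trans hO))
  have hsurj := QuotientGroup.mk'_surjective T
  have h2 := map_powerClosure (p := p) (e := 1) (QuotientGroup.mk' T) (⊤ : Subgroup R)
  rw [Subgroup.map_top_of_surjective _ hsurj] at h2
  rw [← h2]
  exact Nat.le_of_dvd (Nat.pos_of_ne_zero Subgroup.index_ne_zero_of_finite)
    (Subgroup.index_map_dvd _ hsurj)

end Cfsg.Agent.S0637
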