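import Cfsg.Statements.S0639
import Cfsg.Agent.Lib.PGroupTheory.RankTwoLarge

set_option autoImplicit false
open Cfsg

namespace Cfsg.Agent.S0639

open Cfsg.Agent.Lib Cfsg.Agent.Lib.PGroupTheory

/-- Huppert's criterion: for p greater than 3, a p-group whose elements of order dividing p generate a subgroup of order at most p² is metacyclic. -/
theorem result {R : Type*} [Group R] [Finite R] {p : ℕ} [Fact p.Prime] (hp : 3 < p) (hR : IsPGroup p R) (hO : Nat.card ↥(Cfsg.omegaOne p (⊤ : Subgroup R)) ≤ p ^ 2) : Cfsg.IsMetacyclic R := by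
  have hp2 : p ≠ 2 := by omega
  have hp5 : 5 ≤ p := by
    have h4 : p ≠ 4 := fun h => absurd (h ▸ (Fact.out : p.Prime)) (by norm_num)
    omega
  have hmem : ∀ x : R, x ^ p = 1 → x ∈ Cfsg.omegaOne p (⊤ : Subgroup R) := fun x hx =>
    PGroups.mem_omegaOne_of_pow (Subgroup.mem_top x) hx
  have hrk : Cfsg.PRankLE p 2 R := fun A _ hA =>
    (Subgroup.card_le_of_le fun a ha => hmem a (hA a ha)).trans hO
  have hreg := (isRegularPGroup_iff.1 (RankTwo.isRegularPGroup_of_prankLE hp5 R hR hrk)).2 1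
  refine isMetacyclic_of_regular hR hp2 hreg ?_
  rw [index_powerClosure_eq hR hreg]
  refine le_trans ?_ hO
  exact Nat.card_le_card_of_injective
    (fun x => (⟨x.1, hmem x.1 x.2⟩ : ↥(Cfsg.omegaOne p (⊤ : Subgroup R))))
    fun a b h => Subtype.ext (congrArg (fun z : ↥(Cfsg.omegaOne p (⊤ : Subgroup R)) => (z : R)) h)

end Cfsg.Agent.S0639
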