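import Cfsg.Statements.S0640
import Cfsg.Agent.Lib.OddLocal.NarrowAut

set_option autoImplicit false
open Cfsg

namespace Cfsg.Agent.S0640

/-- For odd p, a prime q ≠ p dividing the order of the automorphism group of a p-group of rank at most 2 divides p² - 1 and is less than p. -/
theorem result {R : Type*} [Group R] [Finite R] {p : ℕ} [Fact p.Prime] (hp : p ≠ 2) (hR : IsPGroup p R) (hrk : Cfsg.PRankLE p 2 R) (q : ℕ) (hq : q.Prime) (hqp : q ≠ p) (hdvd : q ∣ Nat.card (MulAut R)) : q ∣ p ^ 2 - 1 ∧ q < p := by
  classical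
  have hpp : p.Prime := Fact.out
  haveI : Fact q.Prime := ⟨hq⟩
  haveI : Finite (MulAut R) := Finite.of_injective (fun f : MulAut R => (f : R → R)) DFunLike.coe_injective
  obtain ⟨σ, hσ⟩ := exists_prime_orderOf_dvd_card' q hdvd
  let Γ := R ⋊[MonoidHom.id (MulAut R)] MulAut R
  haveI : Finite Γ := Finite.of_equiv _ SemidirectProduct.equivProd.symm
  let ι : R →* Γ := SemidirectProduct.inl
  have hι : Function.Injective ι := SemidirectProduct.inl_injective
  haveI : (ι.range).Normal := by
    rw [show ι.range = (SemidirectProduct.rightHom : Γ →* MulAut R).ker from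
      SemidirectProduct.range_inl_eq_ker_rightHom]
    infer_instance
  let e : R ≃* ↥ι.range := MonoidHom.ofInjective hι
  have hn : Cfsg.IsNarrow p ↥ι.range := by
    left
    intro A hA hexp
    have hcomm : IsMulCommutative ↥(A.comap e.toMonoidHom) := ⟨⟨fun x y => Subtype.ext <| e.injective <| by
      have h := congrArg Subtype.val (hA.is_comm.comm ⟨e x, x.2⟩ ⟨e y, y.2⟩)
      rw [Subgroup.coe_mul, Subgroup.coe_mul, map_mul, map_mul]
      exact h⟩⟩
    have h := hrk (A.comap e.toMonoidHom) hcomm fun a ha => e.injective (by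
      rw [map_pow, map_one]; exact hexp _ ha)
    refine le_trans (le_of_eq ?_) h
    rw [Subgroup.comap_equiv_eq_map_symm', Subgroup.card_map_of_injective e.symm.injective]
  have ho : orderOf (SemidirectProduct.inr σ : Γ) = q := by
    rw [orderOf_injective _ SemidirectProduct.inr_injective, hσ]
  have hdiv := Lib.OddLocal.NarrowAut.prime_dvd_of_not_centralizes (R := ι.range)
    (a := (SemidirectProduct.inr σ : Γ)) hp
    (hR.of_equiv e) hn (Subgroup.le_normalizer_of_normal (K := ⊤) trivial)
    (ho ▸ hq) (ho ▸ hqp) (by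
      intro hmem
      have hσ1 : σ = 1 := by
        ext r
        have h := Subgroup.mem_centralizer_iff.1 hmem (ι r) ⟨r, rfl⟩
        refine SemidirectProduct.inl_injective (φ := MonoidHom.id (MulAut R)) ?_
        have h' : (SemidirectProduct.inl (φ := MonoidHom.id (MulAut R)) r) * SemidirectProduct.inr σ =
          SemidirectProduct.inr σ * SemidirectProduct.inl r := h
        have h'' := SemidirectProduct.inl_aut (φ := MonoidHom.id (MulAut R)) σ r
        rw [← h', mul_assoc, ← map_mul, mul_inv_cancel, map_one, mul_one] at h''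
        exact h''
      rw [hσ1, orderOf_one] at hσ
      exact hq.one_lt.ne hσ)
  rw [ho] at hdiv
  have hp2 : 3 ≤ p := by have := hpp.two_le; omega
  refine ⟨?_, ?_⟩
  · rwa [mul_comm, ← Nat.sq_sub_sq, one_pow] at hdiv
  · rcases hq.dvd_mul.1 hdiv with h | h
    · have := Nat.le_of_dvd (by omega) h; omega
    · have hle := Nat.le_of_dvd (by omega) h
      by_contra hlt
      have h1 : q = p + 1 := by omega
      have hpo := hpp.odd_of_ne_two hp
      obtain ⟨k, hk⟩ := hpo
      have h2 : 2 ∣ q := ⟨k + 1, by omega⟩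
      have := (Nat.prime_dvd_prime_iff_eq Nat.prime_two hq).1 h2
      omega

end Cfsg.Agent.S0640
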