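import Cfsg.Statements.S0642
import Cfsg.Agent.Lib.PGroupTheory.Regular

set_option autoImplicit false
open Cfsg
open scoped commutatorElement

namespace Cfsg.Agent.S0642

/-- Among finite 2-groups the regular ones are exactly the abelian ones. -/
theorem result {G : Type*} [Group G] [Finite G] (hG : IsPGroup 2 G) : Cfsg.IsRegularPGroup 2 G ↔ ∀ a b : G, a * b = b * a := by
  constructor
  · intro h a b
    have hR := (Lib.PGroupTheory.isRegularPGroup_iff.1 h).2 1
    set D := ⁅Subgroup.closure ({a, b} : Set G), Subgroup.closure ({a, b} : Set G)⁆ with hD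
    obtain ⟨c, hc, habc⟩ := hR a b
    have hkey : ⁅b⁻¹, a⁻¹⁆ = b * c * b⁻¹ := by
      have h2 : c = (a ^ 2 * b ^ 2)⁻¹ * (a * b) ^ 2 := by
        simp only [pow_one] at habc
        rw [habc]; group
      rw [h2, commutatorElement_def]
      simp [pow_two, mul_assoc]
    have hK : ∀ x ∈ Subgroup.closure ({a, b} : Set G),
        x ∈ Subgroup.normalizer ((powerClosure 2 1 D : Subgroup G) : Set G) := by
      intro x hx
      refine Subgroup.mem_normalizer_iff.2 fun z => ⟨fun hz => ?_, fun hz => ?_⟩
      · exact Lib.PGroupTheory.conj_mem_powerClosure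
          (Subgroup.normalizer_commutator_ge_right _ _ hx) hz
      · have h3 := Lib.PGroupTheory.conj_mem_powerClosure
          (inv_mem (Subgroup.normalizer_commutator_ge_right _ _ hx)) hz
        simpa [mul_assoc] using h3
    have haK : a ∈ Subgroup.closure ({a, b} : Set G) := Subgroup.subset_closure (by simp)
    have hbK : b ∈ Subgroup.closure ({a, b} : Set G) := Subgroup.subset_closure (by simp)
    have hDle : D ≤ powerClosure 2 1 D := by
      have hmem : ⁅b⁻¹, a⁻¹⁆ ∈ powerClosure 2 1 D :=
        hkey ▸ Lib.PGroupTheory.conj_mem_powerClosure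
          (Subgroup.normalizer_commutator_ge_right _ _ hbK) hc
      have h4 := Lib.PGroupTheory.commutator_closure_pair_le (hK _ (inv_mem hbK))
        (hK _ (inv_mem haK)) hmem
      have heq : Subgroup.closure ({b⁻¹, a⁻¹} : Set G) = Subgroup.closure ({a, b} : Set G) :=
        le_antisymm (Lib.PGroupTheory.closure_pair_le (inv_mem hbK) (inv_mem haK))
          (Lib.PGroupTheory.closure_pair_le
            (inv_mem_iff.1 (Subgroup.subset_closure (by simp)))
            (inv_mem_iff.1 (Subgroup.subset_closure (by simp))))
      rwa [heq] at h4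
    have hbot : D = ⊥ := by
      rw [Subgroup.eq_bot_iff_forall]
      let f : D → D := fun x => x ^ 2
      have hsurj : Function.Surjective f := by
        rintro ⟨z, hz⟩
        obtain ⟨x, hx, hzx⟩ :=
          Lib.PGroupTheory.exists_eq_pow_of_mem_powerClosure hG hR (hDle hz)
        exact ⟨⟨x, hx⟩, Subtype.ext (by simpa [f] using hzx.symm)⟩
      have hinj : Function.Injective f := Finite.injective_iff_surjective.2 hsurj
      intro x hx
      obtain ⟨k, hk⟩ := hG x
      suffices ∀ k (x : D), x ^ 2 ^ k = 1 → x = 1 from
        congrArg Subtype.val (this k ⟨x, hx⟩ (Subtype.ext (by simpa using hk)))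
      intro k
      induction k with
      | zero => intro x h; simpa using h
      | succ k ih =>
        intro x h
        refine ih x (hinj ?_)
        simpa [f, ← pow_mul, ← pow_succ] using h
    have h5 : ⁅a, b⁆ ∈ D := Subgroup.commutator_mem_commutator haK hbK
    rw [hbot, Subgroup.mem_bot] at h5
    exact commutatorElement_eq_one_iff_mul_comm.1 h5
  · intro h
    refine ⟨hG, fun a b n => ⟨1, one_mem _, ?_⟩⟩
    rw [mul_one]
    exact (Commute.mul_pow (h a b) _)

end Cfsg.Agent.S0642
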