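import Cfsg.Statements.S0645
import Cfsg.Agent.Lib.PGroups.CyclicIndexP

set_option autoImplicit false
open Cfsg

namespace Cfsg.Agent.S0645

/-- Classification of p-groups with a cyclic maximal subgroup, odd p: a non-abelian one of order p^n has generators a of order p^(n-1) and b of order p, b outside the cyclic subgroup generated by a, with b a b⁻¹ = a^(1 + p^(n-2)). -/
theorem result {G : Type*} [Group G] [Finite G] {p : ℕ} [Fact p.Prime] (hp : p ≠ 2) (n : ℕ) (hn : 3 ≤ n) (hG : Nat.card G = p ^ n) (C : Subgroup G) (hC : IsCyclic C) (hCi : C.index = p) (hna : ∃ x y : G, x * y ≠ y * x) : ∃ a b : G, orderOf a = p ^ (n - 1) ∧ orderOf b = p ∧ b ∉ Subgroup.zpowers a ∧ b * a * b⁻¹ = a ^ (1 + p ^ (n - 2)) := by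
  have hpp : p.Prime := Fact.out
  obtain ⟨m, rfl⟩ : ∃ m, n = m + 3 := ⟨n - 3, by omega⟩
  simp only [show m + 3 - 1 = m + 2 by omega, show m + 3 - 2 = m + 1 by omega]
  have hGp : IsPGroup p G := IsPGroup.of_card hG
  haveI hCn : C.Normal := Lib.PGroups.coe_index_prime_normal hGp hCi
  obtain ⟨a, ha⟩ := C.isCyclic_iff_exists_zpowers_eq_top.mp hC
  have haC : a ∈ C := ha ▸ Subgroup.mem_zpowers a
  have hord : orderOf a = p ^ (m + 2) := by
    have h := C.card_mul_index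
    rw [hCi, hG, pow_succ, ← ha, Nat.card_zpowers] at h
    exact Nat.eq_of_mul_eq_mul_right hpp.pos h
  have hz : ∀ x y : ℤ, ((p : ℤ) ^ (m + 2) ∣ y - x) → a ^ x = a ^ y := fun x y h => by
    rw [zpow_eq_zpow_iff_modEq, hord, Nat.cast_pow]
    exact Int.modEq_iff_dvd.2 h
  have hnc : ¬ IsCyclic G := fun h => by
    obtain ⟨x, y, hxy⟩ := hna
    obtain ⟨g, hg⟩ := h.exists_zpow_surjective
    obtain ⟨i, rfl⟩ := hg x
    obtain ⟨j, rfl⟩ := hg y
    exact hxy (zpow_mul_comm g i j)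
  obtain ⟨E, hE, -, hEc⟩ := Lib.PGroups.omega_of_cyclic_index_prime hp hGp hnc hC hCi
  obtain ⟨b, hbp, hbC⟩ : ∃ b, b ^ p = 1 ∧ b ∉ C := by
    by_contra! hne
    have hle : E ≤ C := fun x hx => hne x ((hE x).1 hx)
    have : IsCyclic E := isCyclic_of_injective _ (Subgroup.inclusion_injective hle)
    obtain ⟨e, he⟩ := IsCyclic.exists_generator (α := E)
    have h1 : orderOf e = p ^ 2 := by
      rw [orderOf_eq_card_of_forall_mem_zpowers he, hEc]
    have h2 : orderOf e ∣ p :=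
      orderOf_dvd_of_pow_eq_one (Subtype.ext ((hE e).1 e.2))
    rw [h1] at h2
    have := Nat.le_of_dvd hpp.pos h2
    nlinarith [hpp.one_lt]
  have hb1 : b ≠ 1 := fun h => hbC (h ▸ C.one_mem)
  obtain ⟨r, hr⟩ := Subgroup.mem_zpowers_iff.mp (ha ▸ hCn.conj_mem a haC b)
  have hit : ∀ k : ℕ, b ^ k * a * (b ^ k)⁻¹ = a ^ (r ^ k) := by
    intro k
    induction k with
    | zero => simp
    | succ k ih =>
      calc b ^ (k + 1) * a * (b ^ (k + 1))⁻¹ = b * (b ^ k * a * (b ^ k)⁻¹) * b⁻¹ := by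
            rw [pow_succ']; group
        _ = (b * a * b⁻¹) ^ (r ^ k) := by rw [ih, conj_zpow]
        _ = a ^ (r ^ (k + 1)) := by rw [← hr, ← zpow_mul, pow_succ']
  have hrp : (p : ℤ) ^ (m + 2) ∣ r ^ p - 1 := by
    have h := hit p
    rw [hbp, inv_one, one_mul, mul_one] at h
    have h' : a ^ (r ^ p - 1) = 1 := by rw [zpow_sub, zpow_one, ← h, mul_inv_cancel]
    have := orderOf_dvd_iff_zpow_eq_one.mpr h'
    rw [hord] at this
    exact_mod_cast this
  obtain ⟨k, hk⟩ := Lib.PGroups.dvd_sub_one_of_dvd_pow_sub_one hp hrp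
  have hk' : ¬ (p : ℤ) ∣ k := by
    rintro ⟨u, rfl⟩
    have hcom : Commute b a := by
      have h := hz r 1 ⟨-u, by linear_combination (-1 : ℤ) * hk⟩
      rw [hr, zpow_one] at h
      exact mul_inv_eq_iff_eq_mul.1 h
    obtain ⟨x, y, hxy⟩ := hna
    refine hxy ?_
    have hle : C < C ⊔ Subgroup.zpowers b := lt_of_le_of_ne le_sup_left fun h =>
      hbC (h.symm ▸ (le_sup_right : Subgroup.zpowers b ≤ C ⊔ _) (Subgroup.mem_zpowers b))
    have htop : C ⊔ Subgroup.zpowers b = ⊤ := by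
      rw [← Subgroup.index_eq_one]
      have h1 := Subgroup.index_dvd_of_le hle.le
      rw [hCi] at h1
      rcases hpp.eq_one_or_self_of_dvd _ h1 with h2 | h2
      · exact h2
      · have := Subgroup.index_strictAnti hle
        rw [hCi, h2] at this
        exact absurd this (lt_irrefl _)
    have hcom' : ∀ g : G, Commute g a ∧ Commute g b := by
      intro g
      have hg : g ∈ C ⊔ Subgroup.zpowers b := htop ▸ Subgroup.mem_top g
      obtain ⟨c, hc, d, hd, rfl⟩ := Subgroup.mem_sup_of_normal_left.1 hg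
      obtain ⟨i, rfl⟩ := Subgroup.mem_zpowers_iff.mp (ha ▸ hc)
      obtain ⟨j, rfl⟩ := Subgroup.mem_zpowers_iff.mp hd
      exact ⟨((Commute.refl a).zpow_left i).mul_left (hcom.zpow_left j),
        (hcom.symm.zpow_left i).mul_left ((Commute.refl b).zpow_left j)⟩
    have hg : y ∈ C ⊔ Subgroup.zpowers b := htop ▸ Subgroup.mem_top y
    obtain ⟨c, hc, d, hd, rfl⟩ := Subgroup.mem_sup_of_normal_left.1 hg
    obtain ⟨i, rfl⟩ := Subgroup.mem_zpowers_iff.mp (ha ▸ hc)
    obtain ⟨j, rfl⟩ := Subgroup.mem_zpowers_iff.mp hd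
    exact (((hcom' x).1.zpow_right i).mul_right ((hcom' x).2.zpow_right j)).eq
  obtain ⟨j, hj⟩ : ∃ j : ℕ, (p : ℤ) ∣ j * k - 1 := by
    obtain ⟨u, v, huv⟩ : IsCoprime k (p : ℤ) :=
      ((Nat.prime_iff_prime_int.mp hpp).coprime_iff_not_dvd.mpr hk').symm
    refine ⟨(u % p).toNat, -v - u / p * k, ?_⟩
    rw [Int.toNat_of_nonneg (Int.emod_nonneg _ (by exact_mod_cast hpp.ne_zero)), Int.emod_def]
    linear_combination huv
  have hbo : orderOf b = p := orderOf_eq_prime hbp hb1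
  have hjp : ¬ p ∣ j := fun h => by
    have h1 : (p : ℤ) ∣ (j : ℤ) * k := (Int.natCast_dvd_natCast.2 h).mul_right _
    have := (dvd_sub h1 hj)
    rw [sub_sub_cancel] at this
    exact hpp.not_dvd_one (by exact_mod_cast this)
  refine ⟨a, b ^ j, hord, ?_, ?_, ?_⟩
  · rw [Nat.Coprime.orderOf_pow (y := b) (m := j) (by rw [hbo]; exact hpp.coprime_iff_not_dvd.2 hjp), hbo]
  · intro h
    obtain ⟨e, he⟩ := Nat.exists_mul_mod_eq_one_of_coprime
      (Nat.Coprime.symm (hpp.coprime_iff_not_dvd.2 hjp)) hpp.one_lt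
    refine hbC ?_
    have : (b ^ j) ^ e = b := by
      rw [← pow_mul, ← pow_mod_orderOf, hbo, he.2, pow_one]
    rw [← this]
    exact pow_mem (ha ▸ h) e
  · rw [hit j, ← zpow_natCast]
    refine hz _ _ ?_
    push_cast
    obtain ⟨q, hq⟩ := hj
    have hbin : (p : ℤ) ^ (m + 2) ∣ r ^ j - (1 + j * k * (p : ℤ) ^ (m + 1)) := by
      clear hit hjp hq
      induction j with
      | zero => simp
      | succ i ih =>
        obtain ⟨w, hw⟩ := ih
        refine ⟨w * r + i * k ^ 2 * (p : ℤ) ^ m, ?_⟩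
        push_cast
        linear_combination r * hw + (1 + i * k * (p : ℤ) ^ (m + 1)) * hk
    obtain ⟨w, hw⟩ := hbin
    exact ⟨-q - w, by linear_combination (-1 : ℤ) * hw - (p : ℤ) ^ (m + 1) * hq⟩

end Cfsg.Agent.S0645
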