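import Cfsg.Statements.S0647
import Mathlib.GroupTheory.Subgroup.Centralizer

set_option autoImplicit false
open Cfsg

namespace Cfsg.Agent.S0647

/-- For a nonempty family of maximal abelian subgroups of a finite group, the intersection of the family is the centre of the subgroup it generates, which is also the full centralizer of that subgroup. -/
theorem result {S : Type*} [Group S] [Finite S] (𝒜 : Set (Subgroup S)) (hne : 𝒜.Nonempty) (hab : ∀ A ∈ 𝒜, IsMulCommutative A) (hmax : ∀ A ∈ 𝒜, ∀ B : Subgroup S, IsMulCommutative B → A ≤ B → B = A) : sInf 𝒜 = sSup 𝒜 ⊓ Subgroup.centralizer ((sSup 𝒜 : Subgroup S) : Set S) ∧ sInf 𝒜 = Subgroup.centralizer ((sSup 𝒜 : Subgroup S) : Set S) := by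
  have hcen : Subgroup.centralizer ((sSup 𝒜 : Subgroup S) : Set S) = sInf 𝒜 := by
    apply le_antisymm
    · intro x hx
      rw [Subgroup.mem_sInf]
      intro A hA
      set B := Subgroup.closure ((A : Set S) ∪ {x}) with hB
      have hc : ∀ y ∈ (A : Set S) ∪ {x}, ∀ z ∈ (A : Set S) ∪ {x}, y * z = z * y := by
        have hAc : ∀ y ∈ A, y * x = x * y := fun y hy =>
          Subgroup.mem_centralizer_iff.1 hx y (le_sSup (α := Subgroup S) hA hy)
        have := hab A hA
        rintro y (hy | rfl) z (hz | rfl)
        · exact congrArg Subtype.val ((this.is_comm).comm (⟨y, hy⟩ : A) ⟨z, hz⟩)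
        · exact hAc y hy
        · exact (hAc z hz).symm
        · rfl
      have hBc : IsMulCommutative B := Subgroup.isMulCommutative_closure hc
      have hAB : A ≤ B := fun y hy => Subgroup.subset_closure (Or.inl hy)
      have := hmax A hA B hBc hAB
      rw [← this]
      exact Subgroup.subset_closure (Or.inr rfl)
    · intro x hx
      rw [Subgroup.mem_centralizer_iff]
      intro y hy
      have hle : sSup 𝒜 ≤ Subgroup.centralizer {x} := sSup_le fun A hA z hz => by
        have := hab A hA
        exact Subgroup.mem_centralizer_singleton_iff.2 (congrArg Subtype.val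
          ((this.is_comm).comm (⟨z, hz⟩ : A) ⟨x, Subgroup.mem_sInf.1 hx A hA⟩))
      exact Subgroup.mem_centralizer_singleton_iff.1 (hle hy)
  refine ⟨?_, hcen.symm⟩
  rw [hcen, eq_comm, inf_eq_right]
  obtain ⟨A, hA⟩ := hne
  exact (sInf_le hA).trans (le_sSup hA)

end Cfsg.Agent.S0647
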