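import Cfsg.Statements.S0648


set_option autoImplicit false
open Cfsg
open scoped commutatorElement

namespace Cfsg.Agent.S0648

/-- If A acts on B centralizing [B, B], then [B, A] has derived subgroup central in B, and for abelian A and b ∈ B with [[b, A], A, A] = 1 the derived subgroup of the subgroup [b, A] generated by the commutators of b with A has exponent dividing 2. -/
theorem result {G : Type*} [Group G] [Finite G] (A B : Subgroup G) (hAB : A ≤ Subgroup.normalizer (B : Set G)) (hc : ⁅⁅B, B⁆, A⁆ = ⊥) : ⁅⁅B, A⁆, ⁅B, A⁆⁆ ≤ B ⊓ Subgroup.centralizer (B : Set G) ∧ (IsMulCommutative A → ∀ b ∈ B, ⁅⁅(Subgroup.closure {g : G | ∃ a ∈ A, g = b⁻¹ * a * b * a⁻¹}), A⁆, A⁆ = ⊥ → ∀ w ∈ ⁅(Subgroup.closure {g : G | ∃ a ∈ A, g = b⁻¹ * a * b * a⁻¹}), (Subgroup.closure {g : G | ∃ a ∈ A, g = b⁻¹ * a * b * a⁻¹})⁆, w ^ 2 = 1) := by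
  classical
  set K := ⁅B, A⁆ with hK
  have hKB : K ≤ B := by
    rw [hK, Subgroup.commutator_le]
    intro x hx a ha
    rw [commutatorElement_def, mul_assoc x, mul_assoc]
    exact B.mul_mem hx ((Subgroup.mem_normalizer_iff.1 (hAB ha) x⁻¹).1 (B.inv_mem hx))
  have hB1 : ⁅⁅B, B⁆, B⁆ ≤ ⁅B, B⁆ :=
    Subgroup.commutator_mono (by
      rw [Subgroup.commutator_le]; intro x hx y hy
      exact B.mul_mem (B.mul_mem (B.mul_mem hx hy) (B.inv_mem hx)) (B.inv_mem hy)) le_rfl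
  have h1 : ⁅K, ⁅B, B⁆⁆ = ⊥ := by
    rw [hK, Subgroup.commutator_comm B A]
    refine Subgroup.commutator_commutator_eq_bot_of_rotate ?_ ?_
    · rw [eq_bot_iff]
      refine le_trans (Subgroup.commutator_mono ?_ le_rfl) hc.le
      rw [Subgroup.commutator_comm B ⁅B, B⁆]
      exact hB1
    · rw [hc, Subgroup.commutator_bot_left]
  have h2 : ⁅⁅K, K⁆, B⁆ = ⊥ := by
    refine Subgroup.commutator_commutator_eq_bot_of_rotate ?_ ?_
    · rw [eq_bot_iff]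
      refine le_trans (Subgroup.commutator_mono (Subgroup.commutator_mono hKB le_rfl) le_rfl) ?_
      rw [Subgroup.commutator_comm, h1]
    · rw [eq_bot_iff]
      refine le_trans (Subgroup.commutator_mono (Subgroup.commutator_mono le_rfl hKB) le_rfl) ?_
      rw [Subgroup.commutator_comm, h1]
  have hfirst : ⁅K, K⁆ ≤ B ⊓ Subgroup.centralizer (B : Set G) := by
    refine le_inf ?_ (Subgroup.commutator_eq_bot_iff_le_centralizer.1 h2)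
    rw [Subgroup.commutator_le]; intro x hx y hy
    exact B.mul_mem (B.mul_mem (B.mul_mem (hKB hx) (hKB hy)) (B.inv_mem (hKB hx))) (B.inv_mem (hKB hy))
  refine ⟨hfirst, fun hA b hb hXA => ?_⟩
  set S : Set G := {g : G | ∃ a ∈ A, g = b⁻¹ * a * b * a⁻¹} with hS
  set X := Subgroup.closure S with hX
  have hSK : ∀ a ∈ A, b⁻¹ * a * b * a⁻¹ ∈ K := by
    intro a ha
    have h : b⁻¹ * a * b * a⁻¹ = ⁅b⁻¹, a⁆ := by rw [commutatorElement_def, inv_inv]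
    rw [h]
    exact Subgroup.commutator_mem_commutator (B.inv_mem hb) ha
  have hXK : X ≤ K := (Subgroup.closure_le K).2 (by rintro _ ⟨a, ha, rfl⟩; exact hSK a ha)
  -- `A` centralises commutators of `B`
  have hfix : ∀ a ∈ A, ∀ x ∈ B, ∀ y ∈ B, a * ⁅x, y⁆ * a⁻¹ = ⁅x, y⁆ := by
    intro a ha x hx y hy
    have := (Subgroup.commutator_eq_bot_iff_le_centralizer.1 hc)
      (Subgroup.commutator_mem_commutator hx hy)
    rw [Subgroup.mem_centralizer_iff.1 this a ha, mul_inv_cancel_right]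
  have hconj : ∀ a x y : G, a * ⁅x, y⁆ * a⁻¹ = ⁅a * x * a⁻¹, a * y * a⁻¹⁆ := by
    intro a x y; simp only [commutatorElement_def]; group
  have hab : ∀ a : G, a * b * a⁻¹ = b * (b⁻¹ * a * b * a⁻¹) := fun a => by group
  -- fixed elements commute with `X`
  have hfixX : ∀ d ∈ B, (∀ a ∈ A, a * d * a⁻¹ = d) → ∀ a ∈ A,
      d * (b⁻¹ * a * b * a⁻¹) = (b⁻¹ * a * b * a⁻¹) * d := by
    intro d hd hda a ha
    have h := hfix a ha b hb d hd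
    rw [hconj, hda a ha, hab] at h
    generalize b⁻¹ * a * b * a⁻¹ = c at h ⊢
    have e : ⁅b * c, d⁆ = b * (c * d * c⁻¹ * d⁻¹) * b⁻¹ * ⁅b, d⁆ := by
      simp only [commutatorElement_def]; group
    rw [e] at h
    have h' := mul_eq_right.1 h
    rw [conj_eq_one_iff, mul_inv_eq_one, mul_inv_eq_iff_eq_mul] at h'
    exact h'.symm
  -- the central commutators
  have hcen : ∀ x ∈ K, ∀ y ∈ K, ∀ g ∈ B, g * ⁅x, y⁆ = ⁅x, y⁆ * g := fun x hx y hy g hg =>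
    Subgroup.mem_centralizer_iff.1 (hfirst (Subgroup.commutator_mem_commutator hx hy)).2 g hg
  have hBK : ∀ x ∈ B, ∀ y ∈ B, ∀ k ∈ K, k * ⁅x, y⁆ = ⁅x, y⁆ * k := fun x hx y hy k hk =>
    (Subgroup.mem_centralizer_iff.1 (Subgroup.commutator_eq_bot_iff_le_centralizer.1 h1 hk) _
      (Subgroup.commutator_mem_commutator hx hy)).symm
  -- `[c i, c j] * [b, d i j] = 1`
  have hkey : ∀ a₁ ∈ A, ∀ a₂ ∈ A,
      ⁅b, (b⁻¹ * a₂ * b * a₂⁻¹)⁻¹ * (a₁ * (b⁻¹ * a₂ * b * a₂⁻¹) * a₁⁻¹)⁆ *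
        ⁅b⁻¹ * a₁ * b * a₁⁻¹, b⁻¹ * a₂ * b * a₂⁻¹⁆ = 1 := by
    intro a₁ ha₁ a₂ ha₂
    set c₁ := b⁻¹ * a₁ * b * a₁⁻¹ with hc₁
    set c₂ := b⁻¹ * a₂ * b * a₂⁻¹ with hc₂
    set d := c₂⁻¹ * (a₁ * c₂ * a₁⁻¹) with hd
    have hc1K : c₁ ∈ K := hSK a₁ ha₁
    have hc2K : c₂ ∈ K := hSK a₂ ha₂
    have hc2X : c₂ ∈ X := Subgroup.subset_closure ⟨a₂, ha₂, rfl⟩
    have hdXA : d ∈ ⁅X, A⁆ := by
      have : d = ⁅c₂⁻¹, a₁⁆ := by rw [hd, commutatorElement_def, inv_inv]; group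
      rw [this]
      exact Subgroup.commutator_mem_commutator (X.inv_mem hc2X) ha₁
    have hdfix : ∀ a ∈ A, a * d * a⁻¹ = d := by
      intro a ha
      rw [Subgroup.mem_centralizer_iff.1
        (Subgroup.commutator_eq_bot_iff_le_centralizer.1 hXA hdXA) a ha, mul_inv_cancel_right]
    have hdB : d ∈ B := B.mul_mem (B.inv_mem (hKB hc2K))
      ((Subgroup.mem_normalizer_iff.1 (hAB ha₁) c₂).1 (hKB hc2K))
    have hdc : d * c₁ = c₁ * d := hfixX d hdB hdfix a₁ ha₁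
    have hdc' : c₂ * d = a₁ * c₂ * a₁⁻¹ := by rw [hd, mul_inv_cancel_left]
    have h := hfix a₁ ha₁ b hb c₂ (hKB hc2K)
    rw [hconj, hab, ← hc₁, ← hdc'] at h
    have e2 : ⁅c₁, c₂ * d⁆ = ⁅c₁, c₂⁆ := by
      simp only [commutatorElement_def]
      calc c₁ * (c₂ * d) * c₁⁻¹ * (c₂ * d)⁻¹ = c₁ * c₂ * (d * c₁⁻¹) * d⁻¹ * c₂⁻¹ := by group
        _ = c₁ * c₂ * (c₁⁻¹ * d) * d⁻¹ * c₂⁻¹ := by rw [(Commute.inv_right hdc).eq]
        _ = c₁ * c₂ * c₁⁻¹ * c₂⁻¹ := by group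
    have e1 : ⁅b * c₁, c₂ * d⁆ = b * ⁅c₁, c₂ * d⁆ * b⁻¹ * ⁅b, c₂ * d⁆ := by
      simp only [commutatorElement_def]; group
    have e3 : ⁅b, c₂ * d⁆ = ⁅b, c₂⁆ * (c₂ * ⁅b, d⁆ * c₂⁻¹) := by
      simp only [commutatorElement_def]; group
    rw [e1, e2, e3, hcen c₁ hc1K c₂ hc2K b hb, mul_inv_cancel_right,
      hBK b hb d hdB c₂ hc2K, mul_inv_cancel_right, ← mul_assoc,
      ← hcen c₁ hc1K c₂ hc2K _ (by
        exact B.mul_mem (B.mul_mem (B.mul_mem hb (hKB hc2K)) (B.inv_mem hb)) (B.inv_mem (hKB hc2K))),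
      mul_assoc] at h
    have h' := mul_eq_left.1 h
    exact mul_eq_one_comm.1 h'
  -- generators
  have hgen : ∀ x ∈ S, ∀ y ∈ S, ⁅x, y⁆ ^ 2 = 1 := by
    rintro _ ⟨a₁, ha₁, rfl⟩ _ ⟨a₂, ha₂, rfl⟩
    have k12 := hkey a₁ ha₁ a₂ ha₂
    have k21 := hkey a₂ ha₂ a₁ ha₁
    set c₁ := b⁻¹ * a₁ * b * a₁⁻¹ with hc₁
    set c₂ := b⁻¹ * a₂ * b * a₂⁻¹ with hc₂
    set d := c₂⁻¹ * (a₁ * c₂ * a₁⁻¹) with hd
    set e := c₁⁻¹ * (a₂ * c₁ * a₂⁻¹) with he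
    have hcomm : a₁ * a₂ = a₂ * a₁ := congrArg Subtype.val (hA.is_comm.comm ⟨a₁, ha₁⟩ ⟨a₂, ha₂⟩)
    have hrel : c₁ * (c₂ * d) = c₂ * (c₁ * e) := by
      rw [hd, he, mul_inv_cancel_left, mul_inv_cancel_left, hc₁, hc₂]
      have l : ∀ u v : G, b⁻¹ * u * b * u⁻¹ * (u * (b⁻¹ * v * b * v⁻¹) * u⁻¹) =
          b⁻¹ * (u * v) * b * (u * v)⁻¹ := fun u v => by group
      rw [l, l, hcomm]
    have hz : e = ⁅c₁⁻¹, c₂⁻¹⁆ * d := by
      have : e = (c₂ * c₁)⁻¹ * (c₁ * (c₂ * d)) := by rw [hrel]; group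
      rw [this, commutatorElement_def]; group
    have hc1K : c₁ ∈ K := hSK a₁ ha₁
    have hc2K : c₂ ∈ K := hSK a₂ ha₂
    have hbe : ⁅b, e⁆ = ⁅b, d⁆ := by
      rw [hz]
      have hzc := hcen _ (K.inv_mem hc1K) _ (K.inv_mem hc2K)
      generalize ⁅c₁⁻¹, c₂⁻¹⁆ = z at hzc ⊢
      have hdB : d ∈ B := B.mul_mem (B.inv_mem (hKB hc2K))
        ((Subgroup.mem_normalizer_iff.1 (hAB ha₁) c₂).1 (hKB hc2K))
      simp only [commutatorElement_def]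
      calc b * (z * d) * b⁻¹ * (z * d)⁻¹ = (b * z) * d * b⁻¹ * d⁻¹ * z⁻¹ := by group
        _ = z * (b * d * b⁻¹ * d⁻¹) * z⁻¹ := by rw [hzc b hb]; group
        _ = (b * d * b⁻¹ * d⁻¹) * z * z⁻¹ := by
            rw [hzc _ (B.mul_mem (B.mul_mem (B.mul_mem hb hdB) (B.inv_mem hb)) (B.inv_mem hdB))]
        _ = b * d * b⁻¹ * d⁻¹ := by group
    rw [hbe, ← commutatorElement_inv c₁ c₂] at k21
    rw [mul_eq_one_iff_eq_inv, inv_inv] at k21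
    rw [k21] at k12
    rw [sq]; exact k12
  -- bilinearity
  have hmul : ∀ x ∈ X, ∀ x' ∈ X, ∀ y ∈ X, ⁅x, y⁆ ^ 2 = 1 → ⁅x', y⁆ ^ 2 = 1 → ⁅x * x', y⁆ ^ 2 = 1 := by
    intro x hx x' hx' y hy h h'
    have e : ⁅x * x', y⁆ = x * ⁅x', y⁆ * x⁻¹ * ⁅x, y⁆ := by
      simp only [commutatorElement_def]; group
    rw [e, hcen x' (hXK hx') y (hXK hy) x (hKB (hXK hx)), mul_inv_cancel_right]
    have hcom : Commute ⁅x', y⁆ ⁅x, y⁆ := (hcen x' (hXK hx') y (hXK hy) _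
      (hfirst (Subgroup.commutator_mem_commutator (hXK hx) (hXK hy))).1).symm
    rw [hcom.mul_pow, h, h', mul_one]
  have hinv : ∀ x ∈ X, ∀ y ∈ X, ⁅x, y⁆ ^ 2 = 1 → ⁅x⁻¹, y⁆ ^ 2 = 1 := by
    intro x hx y hy h
    have e : ⁅x⁻¹, y⁆ = x⁻¹ * ⁅x, y⁆⁻¹ * x := by simp only [commutatorElement_def]; group
    have hc' : Commute x⁻¹ ⁅x, y⁆⁻¹ :=
      (show Commute x ⁅x, y⁆ from hcen x (hXK hx) y (hXK hy) x (hKB (hXK hx))).inv_inv
    rw [e, hc'.eq, inv_mul_cancel_right, inv_pow, h, inv_one]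
  have hleft : ∀ y ∈ X, (∀ x ∈ S, ⁅x, y⁆ ^ 2 = 1) → ∀ x ∈ X, ⁅x, y⁆ ^ 2 = 1 := by
    intro y hy hxy x hx
    induction hx using Subgroup.closure_induction with
    | mem s hs => exact hxy s hs
    | one => rw [commutatorElement_one_left, one_pow]
    | mul u v hu hv ih1 ih2 => exact hmul u hu v hv y hy ih1 ih2
    | inv u hu ih => exact hinv u hu y hy ih
  have hflip : ∀ x y : G, ⁅x, y⁆ ^ 2 = 1 → ⁅y, x⁆ ^ 2 = 1 := by
    intro x y h; rw [← commutatorElement_inv, inv_pow, h, inv_one]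
  have hall : ∀ y ∈ X, ∀ x ∈ X, ⁅x, y⁆ ^ 2 = 1 := by
    intro y hy
    refine hleft y hy fun s hs => hflip _ _ ?_
    exact hleft s (Subgroup.subset_closure hs) (fun t ht => hgen t ht s hs) y hy
  intro w hw
  have : w ^ 2 = 1 ∧ w ∈ ⁅K, K⁆ := by
    rw [Subgroup.commutator_def] at hw
    induction hw using Subgroup.closure_induction with
    | mem g hg =>
      obtain ⟨x, hx, y, hy, rfl⟩ := hg
      exact ⟨hall y hy x hx, Subgroup.commutator_mem_commutator (hXK hx) (hXK hy)⟩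
    | one => exact ⟨one_pow _, one_mem _⟩
    | mul u v _ _ ih1 ih2 =>
      refine ⟨?_, mul_mem ih1.2 ih2.2⟩
      have hc' : Commute u v := Subgroup.mem_centralizer_iff.1 (hfirst ih2.2).2 u (hfirst ih1.2).1
      rw [hc'.mul_pow, ih1.1, ih2.1, mul_one]
    | inv u _ ih => exact ⟨by rw [inv_pow, ih.1, inv_one], inv_mem ih.2⟩
  exact this.1

end Cfsg.Agent.S0648
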