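import Cfsg.Statements.S0649
import Mathlib

set_option autoImplicit false
open Cfsg

namespace Cfsg.Agent.S0649

/-- In the Glauberman replacement situation, if B does not normalize A then some element of B normalizes N_S(A) without normalizing A. -/
theorem result {S : Type*} [Group S] [Finite S] {p : ℕ} [Fact p.Prime] (hS : IsPGroup p S) (B : Subgroup S) [B.Normal] (hB2 : p = 2 → IsMulCommutative B) (A : Subgroup S) (hA : IsMulCommutative A) (hBA : ⁅B, B⁆ ≤ A) (hnot : ¬ B ≤ Subgroup.normalizer (A : Set S)) : ∃ b ∈ B, b ∈ Subgroup.normalizer ((Subgroup.normalizer (A : Set S)) : Set S) ∧ b ∉ Subgroup.normalizer (A : Set S) := by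
  set T := Subgroup.normalizer (A : Set S) with hT
  have hlt : T < T ⊔ B := lt_of_le_of_ne le_sup_left fun h => hnot (h ▸ le_sup_right)
  obtain ⟨u, huU, huN, huT⟩ : ∃ u ∈ T ⊔ B, u ∈ Subgroup.normalizer (T : Set S) ∧ u ∉ T := by
    haveI : Group.IsNilpotent ↥(T ⊔ B : Subgroup S) := (hS.to_subgroup _).isNilpotent
    have hne : T.subgroupOf (T ⊔ B) < ⊤ := by
      rw [lt_top_iff_ne_top, Ne, Subgroup.subgroupOf_eq_top]
      exact fun h => hlt.not_ge h
    obtain ⟨u, huN, huT⟩ := SetLike.exists_of_lt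
      (Group.normalizerCondition_of_isNilpotent (T.subgroupOf (T ⊔ B)) hne)
    refine ⟨u, u.2, Subgroup.mem_normalizer_iff.2 fun x => ?_, huT⟩
    have hu' := Subgroup.mem_normalizer_iff.1 huN
    constructor
    · intro hx
      exact (hu' ⟨x, Subgroup.mem_sup_left hx⟩).1 hx
    · intro hx
      have hxU : x ∈ T ⊔ B := by
        have h1 : (u : S)⁻¹ * ((u : S) * x * (u : S)⁻¹) * u ∈ T ⊔ B :=
          mul_mem (mul_mem (inv_mem u.2) (Subgroup.mem_sup_left hx)) u.2
        simpa [mul_assoc] using h1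
      exact (hu' ⟨x, hxU⟩).2 hx
  obtain ⟨t, ht, b, hb, rfl⟩ := Subgroup.mem_sup_of_normal_right.1 huU
  refine ⟨b, hb, ?_, fun hbT => huT (mul_mem ht hbT)⟩
  have := mul_mem (inv_mem (Subgroup.le_normalizer ht)) huN
  rwa [inv_mul_cancel_left] at this

end Cfsg.Agent.S0649
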