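import Cfsg.Statements.S0650
import Cfsg.Agent.Lib.ZJ.Replacement

set_option autoImplicit false
open Cfsg

namespace Cfsg.Agent.S0650

open Subgroup Cfsg.Agent.Lib.ZJ.Replacement
open scoped commutatorElement

/-- The Glauberman replacement Theorem: from an abelian A ⊇ [B, B] not normalized by the normal subgroup B and a suitable b ∈ B one gets the abelian subgroup A* = (A ∩ b⁻¹Ab)[A, b] of the same order, containing [B, B], meeting B strictly more than A does but not containing B, mutually normalizing with A, with strictly larger normalizer containing b, and (p odd) of no larger exponent. -/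
theorem result {S : Type*} [Group S] [Finite S] {p : ℕ} [Fact p.Prime] (hS : IsPGroup p S) (B : Subgroup S) [B.Normal] (hB2 : p = 2 → IsMulCommutative B) (A : Subgroup S) (hA : IsMulCommutative A) (hBA : ⁅B, B⁆ ≤ A) (hnot : ¬ B ≤ Subgroup.normalizer (A : Set S)) (b : S) (hb : b ∈ B) (hbN : b ∈ Subgroup.normalizer ((Subgroup.normalizer (A : Set S)) : Set S)) (hbA : b ∉ Subgroup.normalizer (A : Set S)) : Nat.card ↥((A ⊓ A.map (MulAut.conj (b⁻¹)).toMonoidHom) ⊔ Subgroup.closure {g : S | ∃ a ∈ A, g = a * b⁻¹ * a⁻¹ * b}) = Nat.card A ∧ IsMulCommutative ↥((A ⊓ A.map (MulAut.conj (b⁻¹)).toMonoidHom) ⊔ Subgroup.closure {g : S | ∃ a ∈ A, g = a * b⁻¹ * a⁻¹ * b}) ∧ ⁅B, B⁆ ≤ ((A ⊓ A.map (MulAut.conj (b⁻¹)).toMonoidHom) ⊔ Subgroup.closure {g : S | ∃ a ∈ A, g = a * b⁻¹ * a⁻¹ * b}) ∧ A ⊓ B < ((A ⊓ A.map (MulAut.conj (b⁻¹)).toMonoidHom) ⊔ Subgroup.closure {g : S | ∃ a ∈ A, g = a * b⁻¹ * a⁻¹ * b}) ⊓ B ∧ ((A ⊓ A.map (MulAut.conj (b⁻¹)).toMonoidHom) ⊔ Subgroup.closure {g : S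 | ∃ a ∈ A, g = a * b⁻¹ * a⁻¹ * b}) ⊓ B < B ∧ A ≤ Subgroup.normalizer (((A ⊓ A.map (MulAut.conj (b⁻¹)).toMonoidHom) ⊔ Subgroup.closure {g : S | ∃ a ∈ A, g = a * b⁻¹ * a⁻¹ * b} : Subgroup S) : Set S) ∧ ((A ⊓ A.map (MulAut.conj (b⁻¹)).toMonoidHom) ⊔ Subgroup.closure {g : S | ∃ a ∈ A, g = a * b⁻¹ * a⁻¹ * b}) ≤ Subgroup.normalizer (A : Set S) ∧ b ∈ Subgroup.normalizer (((A ⊓ A.map (MulAut.conj (b⁻¹)).toMonoidHom) ⊔ Subgroup.closure {g : S | ∃ a ∈ A, g = a * b⁻¹ * a⁻¹ * b} : Subgroup S) : Set S) ∧ Subgroup.normalizer (A : Set S) < Subgroup.normalizer (((A ⊓ A.map (MulAut.conj (b⁻¹)).toMonoidHom) ⊔ Subgroup.closure {g : S | ∃ a ∈ A, g = a * b⁻¹ * a⁻¹ * b} : Subgroup S) : Set S) ∧ (p ≠ 2 → Monoid.exponent ↥((A ⊓ A.map (MulAut.conj (b⁻¹)).toMonoidHom) ⊔ Subgroup.closure {g : S | ∃ a ∈ A, g = a * b⁻¹ * a⁻¹ * b}) ∣ Monoid.exponent A) := by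
  have hmem : ∀ g ∈ Subgroup.normalizer (A : Set S),
      b⁻¹ * g * b ∈ Subgroup.normalizer (A : Set S) ∧ b * g * b⁻¹ ∈ Subgroup.normalizer (A : Set S) :=
    fun g hg => ⟨(mem_normalizer_iff''.1 hbN g).1 hg, (mem_normalizer_iff.1 hbN g).1 hg⟩
  have h : Setup A B b :=
    { comm := fun x hx y hy => congrArg Subtype.val (hA.is_comm.comm ⟨x, hx⟩ ⟨y, hy⟩)
      derived := hBA
      mem := hb
      normalizes := by rw [Subgroup.normalizer_eq_top]; exact le_top
      move := fun a ha => (hmem a (le_normalizer ha)).1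
      move' := fun a ha => (hmem a (le_normalizer ha)).2
      odd := by
        by_cases hp2 : p = 2
        · exact .inr fun x hx y hy =>
            congrArg Subtype.val ((hB2 hp2).is_comm.comm ⟨x, hx⟩ ⟨y, hy⟩)
        · obtain ⟨k, hk⟩ := IsPGroup.iff_orderOf.1 hS b
          exact .inl (hk ▸ ((Fact.out : p.Prime).odd_of_ne_two hp2).pow) }
  have hU : ∀ z, z ∈ astar A b → z ∈ A ⊔ conjr A b := fun z hz => h.astar_le_sup hz
  have hAn : A ≤ Subgroup.normalizer (astar A b : Set S) := by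
    intro a ha
    refine Subgroup.mem_normalizer_iff.2 fun z => ?_
    have key : ∀ a ∈ A, ∀ z ∈ astar A b, a * z * a⁻¹ ∈ astar A b := by
      intro a ha z hz
      set R : Subgroup S := (astar A b).comap (MulAut.conj a).toMonoidHom
      have : astar A b ≤ R := by
        refine sup_le (fun k hk => ?_) ((Subgroup.closure_le _).2 ?_)
        · show a * k * a⁻¹ ∈ astar A b
          rw [h.comm a ha k hk.1, mul_inv_cancel_right]
          exact le_sup_left (b := Subgroup.closure _) hk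
        · rintro _ ⟨c, hc, rfl⟩
          rw [Setup.comb_inv_eq]
          show a * comb b c⁻¹ * a⁻¹ ∈ astar A b
          have h1 : a * comb b c⁻¹ * a⁻¹ = c * ⁅a, b⁻¹ * c⁻¹ * b⁆ * c⁻¹ * comb b c⁻¹ := by
            have h2 : a * c = c * a := h.comm a ha c hc
            calc a * comb b c⁻¹ * a⁻¹ = (a * c) * (b⁻¹ * c⁻¹ * b) * a⁻¹ := by
                  simp only [comb, inv_inv]; group
              _ = c * a * (b⁻¹ * c⁻¹ * b) * a⁻¹ := by rw [h2]
              _ = _ := by simp only [comb, inv_inv, commutatorElement_def]; group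
          rw [h1]
          refine mul_mem ?_ (Setup.comb_mem_astar (A.inv_mem hc))
          have hk := h.comm_mem ha (A.inv_mem hc)
          rw [h.comm c hc _ hk.1, mul_inv_cancel_right]
          exact le_sup_left (b := Subgroup.closure _) hk
      exact this hz
    refine ⟨key a ha z, fun hz => ?_⟩
    simpa [mul_assoc] using key a⁻¹ (A.inv_mem ha) _ hz
  have hnorm : ∀ g : S, (∀ z ∈ astar A b, g * z * g⁻¹ ∈ astar A b) →
      g ∈ Subgroup.normalizer (astar A b : Set S) := fun g hg =>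
    Cfsg.Agent.Lib.Fusion.Alperin.mem_normalizer_of_conjS_eq
      (Subgroup.eq_of_le_of_card_ge (by rintro _ ⟨z, hz, rfl⟩; exact hg z hz)
        (Cfsg.Agent.Lib.Fusion.Alperin.card_conjS g _).ge)
  have hbn : b ∈ Subgroup.normalizer (astar A b : Set S) := by
    have : b⁻¹ ∈ Subgroup.normalizer (astar A b : Set S) := by
      refine hnorm _ fun z hz => ?_
      set R : Subgroup S := (astar A b).comap (MulAut.conj b⁻¹).toMonoidHom
      have : astar A b ≤ R := by
        refine sup_le (fun k hk => ?_) ((Subgroup.closure_le _).2 ?_)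
        · show b⁻¹ * k * b⁻¹⁻¹ ∈ astar A b
          rw [inv_inv, show b⁻¹ * k * b = k * comb b k by simp [comb, mul_assoc]]
          exact mul_mem (le_sup_left (b := Subgroup.closure _) hk) (Setup.comb_mem_astar hk.1)
        · rintro _ ⟨c, hc, rfl⟩
          rw [Setup.comb_inv_eq]
          show b⁻¹ * comb b c⁻¹ * b⁻¹⁻¹ ∈ astar A b
          set u := comb b c⁻¹ with hu
          rw [inv_inv, show b⁻¹ * u * b = u * ⁅u⁻¹, b⁻¹⁆ by rw [commutatorElement_def]; group]
          exact mul_mem (Setup.comb_mem_astar (A.inv_mem hc)) (h.derived_le_astar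
            (Subgroup.commutator_mem_commutator (B.inv_mem (h.comb_mem (A.inv_mem hc)))
              (B.inv_mem hb)))
      exact this hz
    simpa using inv_mem this
  have hlt : Subgroup.normalizer (A : Set S) < Subgroup.normalizer (astar A b : Set S) := by
    refine lt_of_le_of_ne (fun g hg => hnorm g fun z hz => ?_) fun he => hbA (he ▸ hbn)
    set R : Subgroup S := (astar A b).comap (MulAut.conj g).toMonoidHom
    have : astar A b ≤ R := by
      refine sup_le (fun k hk => ?_) ((Subgroup.closure_le _).2 ?_)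
      · show g * k * g⁻¹ ∈ astar A b
        refine mem_sup_left ⟨(mem_normalizer_iff.1 hg k).1 hk.1, mem_conjr.2 ?_⟩
        have h1 := (hmem g hg).2
        have := (mem_normalizer_iff.1 h1 (b * k * b⁻¹)).1 (mem_conjr.1 hk.2)
        simpa [mul_assoc] using this
      · rintro _ ⟨c, hc, rfl⟩
        show g * (c * b⁻¹ * c⁻¹ * b) * g⁻¹ ∈ astar A b
        set a := g * c * g⁻¹ with ha'
        have ha : a ∈ A := (mem_normalizer_iff.1 hg c).1 hc
        set β := b⁻¹ * g * b * g⁻¹ with hβ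
        have hβB : β ∈ B := by
          have := B.mul_mem (B.inv_mem hb) (Subgroup.Normal.conj_mem inferInstance b hb g)
          simpa [hβ, mul_assoc] using this
        have hβN : β ∈ Subgroup.normalizer (A : Set S) := mul_mem (hmem g hg).1 (inv_mem hg)
        have heq : g * (c * b⁻¹ * c⁻¹ * b) * g⁻¹ =
            (a * β⁻¹ * a⁻¹ * β) * (β⁻¹ * comb b a⁻¹ * β) := by
          simp only [comb, ha', hβ]; group
        rw [heq]
        refine mul_mem (h.inf_le_astar ⟨?_, ?_⟩) ?_
        · have := (mem_normalizer_iff''.1 hβN a⁻¹).1 (A.inv_mem ha)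
          simpa [mul_assoc] using A.mul_mem ha this
        · exact B.mul_mem (Subgroup.Normal.conj_mem inferInstance _ (B.inv_mem hβB) a) hβB
        · set u := comb b a⁻¹ with hu
          rw [show β⁻¹ * u * β = u * ⁅u⁻¹, β⁻¹⁆ by rw [commutatorElement_def]; group]
          exact mul_mem (Setup.comb_mem_astar (A.inv_mem ha)) (h.derived_le_astar
            (Subgroup.commutator_mem_commutator (B.inv_mem (h.comb_mem (A.inv_mem ha)))
              (B.inv_mem hβB)))
    exact this hz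
  refine ⟨h.card_astar, ⟨⟨fun x y => Subtype.ext (h.astar_comm x x.2 y y.2)⟩⟩, h.derived_le_astar,
    h.inf_lt_astar_inf hbA, h.astar_inf_lt hbA, hAn, h.astar_le_sup.trans h.sup_le_normalizer,
    hbn, hlt, fun hp2 => ?_⟩
  have hodd : Odd (Monoid.exponent A) := by
    obtain ⟨k, hk⟩ := IsPGroup.iff_card.1 (hS.to_subgroup A)
    exact ((Fact.out : p.Prime).odd_of_ne_two hp2).pow.of_dvd_nat (hk ▸ Group.exponent_dvd_nat_card)
  refine Monoid.exponent_dvd_of_forall_pow_eq_one fun x => Subtype.ext ?_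
  rw [SubmonoidClass.coe_pow]
  exact h.pow_astar hodd (fun a ha => by
    simpa [Subtype.ext_iff] using Monoid.pow_exponent_eq_one (⟨a, ha⟩ : A)) x x.2

end Cfsg.Agent.S0650
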