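import Cfsg.Statements.S0651
import Cfsg.Agent.Lib.ZJ.Replacement
import Cfsg.Agent.Lib.ZJ.AbelianJ

set_option autoImplicit false
open Cfsg

namespace Cfsg.Agent.S0651

open Cfsg.Agent.Lib.ZJ

/-- For odd p and D normal in the p-group S, the abelian subgroups of D of largest order satisfy the replacement property: a class-2 normal subgroup B of S with a member containing [B, B] but not B normalizes some such member. -/
theorem result {S : Type*} [Group S] [Finite S] {p : ℕ} [Fact p.Prime] (hS : IsPGroup p S) (hp : p ≠ 2) (D : Subgroup S) [D.Normal] : ∀ (B : Subgroup S) [B.Normal], ⁅⁅B, B⁆, B⁆ = ⊥ → (∃ U ∈ (Set.image (fun A : Subgroup ↥D => A.map D.subtype) (Cfsg.maxAbelianSubgroups ↥D)), ⁅B, B⁆ ≤ U ∧ ¬ B ≤ U) → ∃ A ∈ (Set.image (fun A : Subgroup ↥D => A.map D.subtype) (Cfsg.maxAbelianSubgroups ↥D)), ⁅B, B⁆ ≤ A ∧ ¬ B ≤ A ∧ B ≤ Subgroup.normalizer (A : Set S) := by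
  intro B _ _ hU
  rw [← maxAbIn_eq_image] at hU ⊢
  obtain ⟨U, hU, hdU, hnU⟩ := hU
  refine Replacement.exists_normalizes (P := (⊤ : Subgroup S)) (maxAbIn D) (hS.to_subgroup ⊤)
    le_top ?_ (.inl hp) (fun A _ => le_top) (fun A hA x hx y hy => comm_of_mulComm hA.2.1 hx hy)
    (fun A hA b _ A' hle hc hcard _ => ?_) hU hdU hnU
  · rw [Subgroup.normalizer_eq_top]
  · refine ⟨hle.trans (sup_le hA.1 ?_), mulComm_of_comm hc,
      fun C hC hC' => hcard.symm ▸ hA.2.2 C hC hC'⟩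
    rintro _ ⟨a, ha, rfl⟩
    exact Subgroup.Normal.conj_mem inferInstance a (hA.1 ha) b⁻¹

end Cfsg.Agent.S0651
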