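import Cfsg.Statements.S0652
import Cfsg.Agent.Lib.ZJ.Replacement
import Cfsg.Agent.Lib.PGroups.Thompson

set_option autoImplicit false
open Cfsg

namespace Cfsg.Agent.S0652

open Cfsg.Agent.Lib.ZJ Cfsg.Agent.Lib.PGroups

/-- For odd p and D normal in the p-group S, the elementary abelian subgroups of D of largest order satisfy the replacement property for class-2 normal subgroups of S. -/
theorem result {S : Type*} [Group S] [Finite S] {p : ℕ} [Fact p.Prime] (hS : IsPGroup p S) (hp : p ≠ 2) (D : Subgroup S) [D.Normal] : ∀ (B : Subgroup S) [B.Normal], ⁅⁅B, B⁆, B⁆ = ⊥ → (∃ U ∈ (Set.image (fun A : Subgroup ↥D => A.map D.subtype) (Cfsg.maxElementaryAbelianSubgroups p ↥D)), ⁅B, B⁆ ≤ U ∧ ¬ B ≤ U) → ∃ A ∈ (Set.image (fun A : Subgroup ↥D => A.map D.subtype) (Cfsg.maxElementaryAbelianSubgroups p ↥D)), ⁅B, B⁆ ≤ A ∧ ¬ B ≤ A ∧ B ≤ Subgroup.normalizer (A : Set S) := by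
  intro B _ _ hU
  have himg : maxElemAbIn p D =
      Set.image (fun A : Subgroup ↥D => A.map D.subtype) (Cfsg.maxElementaryAbelianSubgroups p ↥D) := by
    ext A
    constructor
    · rintro ⟨hAP, hA, hmax⟩
      refine ⟨A.subgroupOf D, ⟨elemAb_subgroupOf hA D, fun C hC => ?_⟩,
        Subgroup.map_subgroupOf_eq_of_le hAP⟩
      have h := hmax _ (Subgroup.map_subtype_le C) (elemAb_map D.subtype hC)
      rwa [Subgroup.card_map_of_injective D.subtype_injective,
        ← Subgroup.map_subgroupOf_eq_of_le hAP,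
        Subgroup.card_map_of_injective D.subtype_injective] at h
    · rintro ⟨A', ⟨hA, hmax⟩, rfl⟩
      refine ⟨Subgroup.map_subtype_le A', elemAb_map D.subtype hA, fun C hCP hC => ?_⟩
      rw [← Subgroup.map_subgroupOf_eq_of_le hCP,
        Subgroup.card_map_of_injective D.subtype_injective,
        Subgroup.card_map_of_injective D.subtype_injective]
      exact hmax _ (elemAb_subgroupOf hC D)
  rw [← himg] at hU ⊢
  obtain ⟨U, hU, hdU, hnU⟩ := hU
  refine Replacement.exists_normalizes (P := (⊤ : Subgroup S)) (maxElemAbIn p D) (hS.to_subgroup ⊤)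
    le_top ?_ (.inl hp) (fun A _ => le_top) (fun A hA x hx y hy => elemAb_comm hA.2.1 hx hy)
    (fun A hA b _ A' hle hc hcard hexp => ?_) hU hdU hnU
  · rw [Subgroup.normalizer_eq_top]
  · refine ⟨hle.trans (sup_le hA.1 ?_), elemAb_mk hc
      (hexp p ((Fact.out : p.Prime).odd_of_ne_two hp) fun a ha => elemAb_pow hA.2.1 ha),
      fun C hC hC' => hcard.symm ▸ hA.2.2 C hC hC'⟩
    rintro _ ⟨a, ha, rfl⟩
    exact Subgroup.Normal.conj_mem inferInstance a (hA.1 ha) b⁻¹

end Cfsg.Agent.S0652
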