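import Cfsg.Statements.S0655
import Mathlib
import Cfsg.Agent.Lib.PGroups.ElemAb
import Cfsg.Agent.Lib.PGroups.Omega

set_option autoImplicit false
open Cfsg

namespace Cfsg.Agent.S0655

/-- In a p-group the intersection of all elementary abelian subgroups of largest order is the subgroup generated by the elements of order dividing p in the centre (equivalently the centralizer) of the elementary-version Thompson subgroup. -/
theorem result {S : Type*} [Group S] [Finite S] {p : ℕ} [Fact p.Prime] (hS : IsPGroup p S) : sInf (Cfsg.maxElementaryAbelianSubgroups p S) = Cfsg.omegaCenterThompson p S ∧ Cfsg.omegaCenterThompson p S = Cfsg.omegaOne p (Subgroup.centralizer (Cfsg.thompsonSubgroup p S : Set S)) := by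
  obtain ⟨A0, hA0⟩ := Lib.PGroups.maxElemAb_nonempty (p := p) (G := S)
  set M := Cfsg.maxElementaryAbelianSubgroups p S with hM
  set J := Cfsg.thompsonSubgroup p S with hJ
  have h1 : Cfsg.omegaOne p (Subgroup.centralizer (J : Set S)) ≤ sInf M := by
    refine (Subgroup.closure_le _).2 ?_
    rintro x ⟨hxC, hxp⟩
    rw [SetLike.mem_coe, Subgroup.mem_sInf]
    intro A hA
    have hcomm : ∀ a ∈ A, ∀ b ∈ Subgroup.zpowers x, a * b = b * a := by
      intro a ha b hb
      obtain ⟨k, rfl⟩ := Subgroup.mem_zpowers_iff.1 hb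
      have h : Commute a x :=
        Subgroup.mem_centralizer_iff.1 hxC a (le_sSup (α := Subgroup S) hA ha)
      exact (h.zpow_right k).eq
    have hE := Lib.PGroups.elemAb_sup hA.1 (Lib.PGroups.elemAb_zpowers hxp) hcomm
    have heq : A = A ⊔ Subgroup.zpowers x :=
      Subgroup.eq_of_le_of_card_ge le_sup_left (hA.2 _ hE)
    rw [heq]
    exact Subgroup.mem_sup_right (Subgroup.mem_zpowers x)
  have h2 : sInf M ≤ Cfsg.omegaCenterThompson p S := by
    intro x hx
    rw [Subgroup.mem_sInf] at hx
    refine Subgroup.subset_closure ⟨⟨le_sSup (α := Subgroup S) hA0 (hx A0 hA0), ?_⟩,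
      hA0.1.2 x (hx A0 hA0)⟩
    refine Subgroup.mem_centralizer_iff.2 fun y hy => ?_
    have hle : J ≤ Subgroup.centralizer {x} := sSup_le fun A hA z hz =>
      Subgroup.mem_centralizer_singleton_iff.2 (Lib.PGroups.elemAb_comm hA.1 hz (hx A hA))
    exact Subgroup.mem_centralizer_singleton_iff.1 (hle hy)
  have h3 : Cfsg.omegaCenterThompson p S ≤ Cfsg.omegaOne p (Subgroup.centralizer (J : Set S)) :=
    Lib.PGroups.omegaOne_mono inf_le_right
  exact ⟨le_antisymm h2 (h3.trans h1), le_antisymm h3 (h1.trans h2)⟩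

end Cfsg.Agent.S0655
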