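import Cfsg.Statements.S0657
import Cfsg.Agent.Lib.Quadratic.QdProps
-- import your own Cfsg.Agent.* helpers here

set_option autoImplicit false
open Cfsg

namespace Cfsg.Agent.S0657

/-- For odd p, a group that fails to be p-stable modulo its largest normal subgroup of order prime to p, and whose upper p-series does not stop there, has a section isomorphic to SL(2, p). -/
theorem result {G : Type*} [Group G] [Finite G] {p : ℕ} [Fact p.Prime] (hp : p ≠ 2) (hO : Cfsg.pPrimeCore p G < Cfsg.pPrimePCore p G) (hns : ¬ Cfsg.IsPStable p (G ⧸ Cfsg.pPrimeCore p G)) : ∃ (K L : Subgroup G) (hL : (L.subgroupOf K).Normal), K ≤ ⊤ ∧ Nonempty ((K ⧸ L.subgroupOf K) ≃* Matrix.SpecialLinearGroup (Fin 2) (ZMod p)) := by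
  obtain ⟨K, R, hR, e⟩ : Cfsg.Involves (Matrix.SpecialLinearGroup (Fin 2) (ZMod p)) G := by
    set X := G ⧸ Cfsg.pPrimeCore p G
    have hne : Cfsg.pCore p X ≠ ⊥ := by
      intro h
      apply hO.ne'
      unfold Cfsg.pPrimePCore
      rw [h, MonoidHom.comap_bot, QuotientGroup.ker_mk']
    unfold Cfsg.IsPStable at hns
    push Not at hns
    obtain ⟨A, P, hA, hP, hnorm, -, -, hq, hbad⟩ := hns ((Fact.out : p.Prime).odd_of_ne_two hp) hne
    obtain ⟨y, hy, hy'⟩ := SetLike.not_le_iff_exists.1 hbad
    obtain ⟨⟨a, haN⟩, haA, rfl⟩ := hy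
    have hqa : Lib.Quadratic.Quad P a := fun v hv => by
      have := Subgroup.commutator_mem_commutator
        (Subgroup.commutator_mem_commutator hv (show a ∈ A from haA)) (show a ∈ A from haA)
      rwa [hq, Subgroup.mem_bot] at this
    exact Lib.Quadratic.involves_of_map (QuotientGroup.mk' _) (QuotientGroup.mk'_surjective _)
      (Lib.Quadratic.involves_trans Lib.Quadratic.sl2_involves_qd
        (Lib.Quadratic.involves_qd_of_quad hp hP haN hqa hy'))
  exact ⟨K, R, hR, le_top, e⟩

end Cfsg.Agent.S0657
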