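import Cfsg.Statements.S0658
import Cfsg.Agent.Lib.ZJ.Constrained

set_option autoImplicit false
open Cfsg

namespace Cfsg.Agent.S0658

open Subgroup Cfsg.Agent.Lib.ZJ Cfsg.Agent.Lib.Fusion.Alperin

/-- In a group of characteristic p type all of whose p-locals are p-stable (p odd), the normalizer of Z(J(P)) contains the normalizer of every nontrivial subgroup of the Sylow p-subgroup P. -/
theorem result {G : Type*} [Group G] [Finite G] {p : ℕ} [Fact p.Prime] (hp : p ≠ 2) (hloc : ∀ Q : Subgroup G, IsPGroup p Q → Q ≠ ⊥ → Cfsg.pPrimeCore p ↥(Subgroup.normalizer (Q : Set G)) = ⊥ ∧ Cfsg.IsPConstrained p ↥(Subgroup.normalizer (Q : Set G)) ∧ Cfsg.IsPStable p ↥(Subgroup.normalizer (Q : Set G))) (P : Sylow p G) (Q : Subgroup G) (hQP : Q ≤ (P : Subgroup G)) (hQ1 : Q ≠ ⊥) : Subgroup.normalizer (Q : Set G) ≤ Subgroup.normalizer (Cfsg.centerThompsonAOf ((P : Subgroup G)) : Set G) := by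
  have hW := isCharPFunctor_zjA (p := p)
  have hWc := Lib.ConjFunctor.Section.isConjugacyFunctor_induced hW (X := G)
  set N₀ := Subgroup.normalizer (Cfsg.centerThompsonAOf (P : Subgroup G) : Set G) with hN₀
  have hPN : (P : Subgroup G) ≤ N₀ := le_normalizer.trans (normalizer_le_normalizer_centerThompsonA _)
  induction hm : Nat.card (P : Subgroup G) - Nat.card ((P : Subgroup G) ⊓
      Subgroup.normalizer (Q : Set G) : Subgroup G) using Nat.strong_induction_on generalizing Q with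
  | _ m ih =>
  subst hm
  set M := Subgroup.normalizer (Q : Set G) with hM
  set T₀ := (P : Subgroup G) ⊓ M with hT₀
  have IH : ∀ R : Subgroup G, R ≤ (P : Subgroup G) → R ≠ ⊥ →
      ∀ X : Subgroup G, X ≤ (P : Subgroup G) → X ≤ Subgroup.normalizer (R : Set G) →
      Nat.card T₀ < Nat.card X → Subgroup.normalizer (R : Set G) ≤ N₀ := fun R hR hR1 X hX hXN hlt => by
    refine ih _ ?_ R hR hR1 rfl
    have h1 := Subgroup.card_le_of_le (le_inf hX hXN)
    have h2 := Subgroup.card_le_of_le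
      (inf_le_left : (P : Subgroup G) ⊓ Subgroup.normalizer (R : Set G) ≤ P)
    omega
  have card_lt : ∀ {A B : Subgroup G}, A < B → Nat.card A < Nat.card B := fun {A B} h =>
    (Subgroup.card_le_of_le h.le).lt_of_ne fun e => h.ne (Subgroup.eq_of_le_of_card_ge h.le e.ge)
  have hT₀p : IsPGroup p T₀ := P.2.to_le inf_le_left
  obtain ⟨hO, hcon, hst⟩ := hloc Q (P.2.to_le hQP) hQ1
  -- the Sylow subgroups of `M`
  have hZM : ∀ T : Subgroup G, IsPGroup p T → T ≤ M →
      (∀ R : Subgroup G, IsPGroup p R → R ≤ M → T ≤ R → R = T) →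
      M ≤ Subgroup.normalizer (Cfsg.centerThompsonAOf T : Set G) := by
    intro T hTp hTM hTmax
    obtain ⟨T', hT'⟩ := (hTp.comap_subtype (K := M)).exists_le_sylow
    have hTeq : (T' : Subgroup M).map M.subtype = T := by
      refine hTmax _ (T'.2.map _) (Subgroup.map_subtype_le _) ?_
      have := Subgroup.map_mono (f := M.subtype) hT'
      rwa [Subgroup.map_comap_eq, Subgroup.range_subtype, inf_eq_right.2 hTM] at this
    have hn := centerThompsonAOf_normal_of_pPrimeCore_eq_bot hp hcon hst hO T'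
    rw [← hTeq, ← map_centerThompsonAOf _ M.subtype_injective]
    have h1 := Subgroup.le_normalizer_map (H := Cfsg.centerThompsonAOf (T' : Subgroup M)) M.subtype
    rwa [Subgroup.normalizer_eq_top_iff.2 hn, ← MonoidHom.range_eq_map, Subgroup.range_subtype] at h1
  by_cases hPM : (P : Subgroup G) ≤ M
  · exact hZM _ P.2 hPM fun R hR _ hle => P.3 hR hle
  have hlt : T₀ < (P : Subgroup G) := lt_of_le_of_ne inf_le_left fun h => hPM (h ▸ inf_le_right)
  have hT₀1 : T₀ ≠ ⊥ := fun h => hQ1 (le_bot_iff.1 (h ▸ le_inf hQP le_normalizer))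
  set Z₀ := Cfsg.centerThompsonAOf T₀ with hZ₀
  have hZ₀1 : Z₀ ≠ ⊥ := by
    rw [hZ₀, ← inducedFunctor_zjA]
    exact Lib.ConjFunctor.Basic.w_ne_bot hWc hT₀p hT₀1
  have hlt' := lt_inf_normalizer P.2 hlt
  have hZN : Subgroup.normalizer (Z₀ : Set G) ≤ N₀ :=
    IH Z₀ ((centerThompsonAOf_le _).trans inf_le_left) hZ₀1 _ inf_le_left
      (inf_le_right.trans (normalizer_le_normalizer_centerThompsonA _)) (card_lt hlt')
  obtain ⟨T, hT⟩ := (hT₀p.comap_subtype (K := M)).exists_le_sylow
  set T₁ := (T : Subgroup M).map M.subtype with hT₁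
  have hT₁p : IsPGroup p T₁ := T.2.map _
  have hT₁M : T₁ ≤ M := Subgroup.map_subtype_le _
  have hle : T₀ ≤ T₁ := by
    have := Subgroup.map_mono (f := M.subtype) hT
    rwa [Subgroup.map_comap_eq, Subgroup.range_subtype, inf_eq_right.2 inf_le_right] at this
  rcases eq_or_lt_of_le hle with heq | hlt1
  · refine le_trans ?_ hZN
    rw [hZ₀]
    refine hZM T₀ hT₀p inf_le_right fun R hR hRM hTR => ?_
    rw [heq] at hTR ⊢
    have := T.3 (hR.comap_subtype (K := M)) (fun x hx => hTR ⟨x, hx, rfl⟩)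
    rw [hT₁, ← this, Subgroup.map_comap_eq, Subgroup.range_subtype, inf_eq_right.2 hRM]
  set X := T₁ ⊓ Subgroup.normalizer (T₀ : Set G) with hX
  have hXlt : T₀ < X := lt_inf_normalizer hT₁p hlt1
  have hXN : X ≤ N₀ := (inf_le_right.trans (normalizer_le_normalizer_centerThompsonA _)).trans hZN
  obtain ⟨n, hn, hnX⟩ := exists_conj_le_of_maximal (S := (P : Subgroup G)) (N := N₀) P.2 hPN
    (fun U hU _ hle => P.3 hU hle) (hT₁p.to_le inf_le_left : IsPGroup p X) hXN
  have hQX : Q ≤ X := (le_inf hQP le_normalizer).trans hXlt.le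
  have hQn : conjS n Q ≤ (P : Subgroup G) := (conjS_mono hQX).trans hnX
  have hne : conjS n Q ≠ ⊥ := fun h =>
    hQ1 ((Subgroup.map_eq_bot_iff_of_injective _ (MulEquiv.injective _)).1 h)
  have hres := IH (conjS n Q) hQn hne (conjS n X) hnX
    (by rw [← conjS_normalizer]; exact conjS_mono (inf_le_left.trans hT₁M))
    (by rw [card_conjS]; exact card_lt hXlt)
  intro x hx
  have h2 : n * x * n⁻¹ ∈ N₀ := hres (mem_normalizer_conjS hx)
  have h3 := mul_mem (mul_mem (inv_mem hn) h2) hn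
  simpa [mul_assoc] using h3

end Cfsg.Agent.S0658
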