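import Cfsg.Statements.S0660
import Mathlib

set_option autoImplicit false
set_option linter.style.haveILetI false
open Cfsg

namespace Cfsg.Agent.S0660

/-- Under a coprime action on an abelian group, an invariant subgroup that is complemented admits an invariant complement. -/
theorem result {G : Type*} [Group G] [Finite G] (V A U : Subgroup G) (hVab : IsMulCommutative V) (hAV : A ≤ Subgroup.normalizer (V : Set G)) (hcop : (Nat.card A).Coprime (Nat.card V)) (hUV : U ≤ V) (hAU : A ≤ Subgroup.normalizer (U : Set G)) (W : Subgroup G) (hWV : W ≤ V) (hUW : U ⊓ W = ⊥) (hUWV : U ⊔ W = V) : ∃ W' : Subgroup G, W' ≤ V ∧ A ≤ Subgroup.normalizer (W' : Set G) ∧ U ⊓ W' = ⊥ ∧ U ⊔ W' = V := by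
  classical
  haveI := Fintype.ofFinite A
  letI : CommGroup V :=
    { (inferInstance : Group V) with mul_comm := fun a b => hVab.is_comm.comm a b }
  have hU : ∀ a ∈ A, ∀ u ∈ U, a * u * a⁻¹ ∈ U := fun a ha u hu =>
    (Subgroup.mem_normalizer_iff.1 (hAU ha) u).1 hu
  have hV : ∀ a ∈ A, ∀ u ∈ V, a * u * a⁻¹ ∈ V := fun a ha u hu =>
    (Subgroup.mem_normalizer_iff.1 (hAV ha) u).1 hu
  let φ : U × W →* V := MonoidHom.coprod (Subgroup.inclusion hUV) (Subgroup.inclusion hWV)
  have hφinj : Function.Injective φ := by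
    rw [injective_iff_map_eq_one]
    rintro ⟨u, w⟩ h
    have h1 : (u : G) * w = 1 := congrArg Subtype.val h
    have h2 : (u : G) ∈ U ⊓ W := ⟨u.2, eq_inv_of_mul_eq_one_left h1 ▸ W.inv_mem w.2⟩
    rw [hUW, Subgroup.mem_bot] at h2
    rw [h2, one_mul] at h1
    exact Prod.ext (Subtype.ext h2) (Subtype.ext h1)
  have hφsurj : Function.Surjective φ := by
    intro v
    have hUWn : U ≤ Subgroup.normalizer (W : Set G) := fun u hu =>
      Subgroup.mem_normalizer_iff.2 fun w => by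
        have hc : ∀ z ∈ V, u * z = z * u := fun z hz =>
          congrArg Subtype.val (hVab.is_comm.comm (⟨u, hUV hu⟩ : V) ⟨z, hz⟩)
        constructor
        · intro hw; rw [hc w (hWV hw), mul_inv_cancel_right]; exact hw
        · intro hw
          have hwV : w ∈ V := by
            have h1 := mul_mem (mul_mem (inv_mem (hUV hu)) (hWV hw)) (hUV hu)
            simpa [mul_assoc] using h1
          rwa [hc w hwV, mul_inv_cancel_right] at hw
    have hv : (v : G) ∈ ((U ⊔ W : Subgroup G) : Set G) := hUWV.symm ▸ v.2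
    rw [Subgroup.coe_mul_of_left_le_normalizer_right _ _ hUWn] at hv
    obtain ⟨u, hu, w, hw, h⟩ := hv
    exact ⟨(⟨u, hu⟩, ⟨w, hw⟩), Subtype.ext h⟩
  let e : U × W ≃* V := MulEquiv.ofBijective φ ⟨hφinj, hφsurj⟩
  let π0 : V →* U := (MonoidHom.fst U W).comp e.symm.toMonoidHom
  have hπ0 : ∀ u : U, π0 (Subgroup.inclusion hUV u) = u := by
    intro u
    have : e.symm (Subgroup.inclusion hUV u) = (u, 1) := by
      rw [MulEquiv.symm_apply_eq]
      exact Subtype.ext (show (u : G) = (u : G) * ((1 : W) : G) by simp)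
    simp [π0, this]
  let c : A → V →* V := fun a =>
    { toFun := fun v => ⟨a * v * (a : G)⁻¹, hV a a.2 v v.2⟩
      map_one' := Subtype.ext (by simp)
      map_mul' := fun x y => Subtype.ext (by simp [mul_assoc]) }
  have hc : ∀ a b : A, ∀ v, c a (c b v) = c (a * b) v := fun a b v =>
    Subtype.ext (by simp [c, mul_assoc])
  have hc1 : ∀ v, c 1 v = v := fun v => Subtype.ext (by simp [c])
  let ρ : V ≃* V := MulEquiv.ofBijective (powMonoidHom (Nat.card A))
    (Nat.Coprime.pow_left_bijective hcop.symm)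
  have hρ : ∀ v : V, (ρ.symm v) ^ Nat.card A = v := fun v => ρ.apply_symm_apply v
  let avg : V →* V :=
    { toFun := fun v => ρ.symm (∏ a : A, c a (Subgroup.inclusion hUV (π0 (c a⁻¹ v))))
      map_one' := by simp
      map_mul' := fun x y => by simp [Finset.prod_mul_distrib] }
  have havgU : ∀ v, (avg v : G) ∈ U := by
    intro v
    have h1 : (∏ a : A, c a (Subgroup.inclusion hUV (π0 (c a⁻¹ v)))) ∈ U.subgroupOf V := by
      refine Subgroup.prod_mem _ fun a _ => ?_
      exact hU a a.2 _ (π0 (c a⁻¹ v)).2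
    obtain ⟨m, hm⟩ := exists_pow_eq_self_of_coprime
      (x := ρ.symm (∏ a : A, c a (Subgroup.inclusion hUV (π0 (c a⁻¹ v)))))
      (n := Nat.card A) (hcop.of_dvd_right (orderOf_dvd_natCard _))
    rw [hρ] at hm
    show (ρ.symm _ : V) ∈ U.subgroupOf V
    rw [← hm]
    exact pow_mem h1 m
  have havgid : ∀ v : V, (v : G) ∈ U → avg v = v := by
    intro v hv
    have h1 : ∀ a : A, c a (Subgroup.inclusion hUV (π0 (c a⁻¹ v))) = v := by
      intro a
      have hm : ((a⁻¹ : A) : G) * v * ((a⁻¹ : A) : G)⁻¹ ∈ U := hU _ (a⁻¹).2 _ hv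
      have h2 := hπ0 ⟨_, hm⟩
      have h3 : (c a⁻¹ v) = Subgroup.inclusion hUV ⟨_, hm⟩ := Subtype.ext rfl
      rw [h3, h2, ← h3, hc, mul_inv_cancel, hc1]
    show ρ.symm (∏ a : A, c a (Subgroup.inclusion hUV (π0 (c a⁻¹ v)))) = v
    rw [Finset.prod_congr rfl fun a _ => h1 a, Finset.prod_const, Finset.card_univ,
      ← Nat.card_eq_fintype_card, MulEquiv.symm_apply_eq]
    rfl
  have havgc : ∀ (b : A) v, avg (c b v) = c b (avg v) := by
    intro b v
    show ρ.symm (∏ a : A, c a (Subgroup.inclusion hUV (π0 (c a⁻¹ (c b v))))) =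
      c b (ρ.symm (∏ a : A, c a (Subgroup.inclusion hUV (π0 (c a⁻¹ v)))))
    rw [MulEquiv.symm_apply_eq]
    show _ = (c b _) ^ Nat.card A
    rw [← map_pow, hρ, map_prod]
    refine (Fintype.prod_equiv (Equiv.mulLeft b) _ _ fun a => ?_).symm
    rw [Equiv.coe_mulLeft, hc, hc, mul_inv_rev, inv_mul_cancel_right]
  refine ⟨avg.ker.map V.subtype, Subgroup.map_subtype_le _, ?_, ?_, ?_⟩
  · intro a ha
    have key : ∀ a ∈ A, ∀ x ∈ avg.ker.map V.subtype, a * x * a⁻¹ ∈ avg.ker.map V.subtype := by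
      rintro a ha _ ⟨v, hv, rfl⟩
      exact ⟨c ⟨a, ha⟩ v, by rw [SetLike.mem_coe, MonoidHom.mem_ker, havgc,
        MonoidHom.mem_ker.1 hv, map_one], rfl⟩
    refine Subgroup.mem_normalizer_iff.2 fun x => ⟨key a ha x, fun hx => ?_⟩
    simpa [mul_assoc] using key a⁻¹ (inv_mem ha) _ hx
  · rw [Subgroup.eq_bot_iff_forall]
    rintro _ ⟨hxU, v, hv, rfl⟩
    rw [← havgid v hxU, MonoidHom.mem_ker.1 hv]; rfl
  · refine le_antisymm (sup_le hUV (Subgroup.map_subtype_le _)) fun x hx => ?_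
    have h1 : (avg ⟨x, hx⟩ : G) * ((avg ⟨x, hx⟩)⁻¹ * ⟨x, hx⟩ : V) = x := by simp
    rw [← h1]
    refine mul_mem (Subgroup.mem_sup_left (havgU _))
      (Subgroup.mem_sup_right ⟨(avg ⟨x, hx⟩)⁻¹ * ⟨x, hx⟩, ?_, rfl⟩)
    rw [SetLike.mem_coe, MonoidHom.mem_ker, map_mul, map_inv, havgid _ (havgU _), inv_mul_cancel]

end Cfsg.Agent.S0660
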