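import Cfsg.Statements.S0661
import Cfsg.Agent.Lib.Balance.Locals
import Cfsg.Agent.Lib.PSolvable.HallHigman
import Cfsg.Agent.Lib.Cores.Basic

set_option autoImplicit false
open Cfsg
open scoped commutatorElement

namespace Cfsg.Agent.S0661

/-- If, modulo the largest normal subgroup of order prime to p, the largest normal p-subgroup contains its centralizer, then for every p-subgroup P the p'-core of N_G(P) is just O_p'(G) ∩ N_G(P). -/
theorem result {G : Type*} [Group G] [Finite G] {p : ℕ} [Fact p.Prime] (hc : Subgroup.centralizer (Cfsg.pCore p (G ⧸ Cfsg.pPrimeCore p G) : Set (G ⧸ Cfsg.pPrimeCore p G)) ≤ Cfsg.pCore p (G ⧸ Cfsg.pPrimeCore p G)) (P : Subgroup G) (hP : IsPGroup p P) : (Cfsg.pPrimeCore p ↥(Subgroup.normalizer (P : Set G))).map (Subgroup.normalizer (P : Set G)).subtype = Cfsg.pPrimeCore p G ⊓ Subgroup.normalizer (P : Set G) := by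
  set N := Subgroup.normalizer (P : Set G) with hN
  refine le_antisymm ?_ ?_
  · refine le_inf ?_ (Subgroup.map_subtype_le _)
    rintro x ⟨y, hy, rfl⟩
    set π := QuotientGroup.mk' (pPrimeCore p G) with hπ
    set K := (pPrimeCore p ↥N).map N.subtype with hK
    have hKcop : (Nat.card (K.map π)).Coprime p := by
      refine Nat.Coprime.coprime_dvd_left (Subgroup.card_dvd_of_surjective _ (π.subgroupMap_surjective K)) ?_
      rw [hK, Subgroup.card_map_of_injective N.subtype_injective]
      exact Lib.Cores.pPrimeCore_coprime p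
    have hQp : IsPGroup p ↥(pCore p (G ⧸ pPrimeCore p G)) := Lib.Cores.pCore_isPGroup p
    have hyK : N.subtype y ∈ K := ⟨y, hy, rfl⟩
    have hxo : (orderOf (π (N.subtype y))).Coprime p :=
      hKcop.coprime_dvd_left (Subgroup.orderOf_dvd_natCard _ (Subgroup.mem_map_of_mem π hyK))
    -- `K` centralises `P`
    have hKP : N.subtype y ∈ Subgroup.centralizer (P : Set G) := by
      rw [Subgroup.mem_centralizer_iff]
      intro u hu
      have h1 : ⁅(⟨u, Subgroup.le_normalizer hu⟩ : ↥N), y⁆ ∈ pPrimeCore p ↥N := by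
        rw [commutatorElement_def]
        exact Subgroup.mul_mem _ (Subgroup.Normal.conj_mem inferInstance y hy _)
          (Subgroup.inv_mem _ hy)
      have h2 : ((⁅(⟨u, Subgroup.le_normalizer hu⟩ : ↥N), y⁆ : ↥N) : G) ∈ P := by
        simp only [commutatorElement_def, Subgroup.coe_mul, InvMemClass.coe_inv]
        rw [mul_assoc u, mul_assoc]
        exact P.mul_mem hu ((Subgroup.mem_normalizer_iff.1 y.2 _).1 (P.inv_mem hu))
      obtain ⟨k, hk⟩ := hP ⟨_, h2⟩
      have h3 : (orderOf (⁅(⟨u, Subgroup.le_normalizer hu⟩ : ↥N), y⁆ : ↥N)).Coprime p :=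
        (Lib.Cores.pPrimeCore_coprime p).coprime_dvd_left (Subgroup.orderOf_dvd_natCard _ h1)
      have h4 : (⁅(⟨u, Subgroup.le_normalizer hu⟩ : ↥N), y⁆ : ↥N) = 1 :=
        orderOf_eq_one_iff.1 (Nat.eq_one_of_dvd_coprimes (h3.pow_right k) dvd_rfl
          (orderOf_dvd_of_pow_eq_one (Subtype.ext (by simpa using congrArg Subtype.val hk))))
      exact congrArg Subtype.val (commutatorElement_eq_one_iff_mul_comm.1 h4)
    have hcent : π (N.subtype y) ∈
        Subgroup.centralizer ((pCore p (G ⧸ pPrimeCore p G)) : Set (G ⧸ pPrimeCore p G)) := by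
      refine Lib.Balance.mem_centralizer_pGroup hQp (hP.map π) Subgroup.le_normalizer_of_normal
        (Subgroup.le_normalizer_of_normal (H := pCore p (G ⧸ pPrimeCore p G)) (K := ⊤) trivial) hxo ?_ ?_
      · rw [Subgroup.coe_map]
        exact Subgroup.map_centralizer_le_centralizer_image _ _ ⟨_, hKP, rfl⟩
      · rintro rbar ⟨hrQ, hrP⟩
        obtain ⟨r, hr, rfl⟩ := Lib.PSolvable.centralizer_map_le_map_centralizer _ P
          (Lib.Cores.pPrimeCore_coprime p) hP hrP
        set rN : ↥N := ⟨r, Subgroup.centralizer_le_normalizer _ hr⟩ with hrN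
        have hc1 : rN * y * rN⁻¹ * y⁻¹ ∈ pPrimeCore p ↥N :=
          Subgroup.mul_mem _ (Subgroup.Normal.conj_mem inferInstance y hy _) (Subgroup.inv_mem _ hy)
        have hcK : π r * π (N.subtype y) * (π r)⁻¹ * (π (N.subtype y))⁻¹ ∈ K.map π :=
          ⟨_, ⟨_, hc1, rfl⟩, by simp [hrN]⟩
        have hcQ : π r * π (N.subtype y) * (π r)⁻¹ * (π (N.subtype y))⁻¹ ∈
            pCore p (G ⧸ pPrimeCore p G) := by
          rw [mul_assoc (π r), mul_assoc]
          exact Subgroup.mul_mem _ hrQ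
            (Subgroup.Normal.conj_mem inferInstance _ (Subgroup.inv_mem _ hrQ) _)
        obtain ⟨k, hk⟩ := hQp ⟨_, hcQ⟩
        have h4 := orderOf_eq_one_iff.1 (Nat.eq_one_of_dvd_coprimes
          ((hKcop.coprime_dvd_left (Subgroup.orderOf_dvd_natCard _ hcK)).pow_right k) dvd_rfl
          (orderOf_dvd_of_pow_eq_one (congrArg Subtype.val hk)))
        exact Subgroup.mem_centralizer_singleton_iff.2
          (mul_inv_eq_iff_eq_mul.1 (mul_inv_eq_one.1 h4))
    obtain ⟨k, hk⟩ := hQp ⟨_, hc hcent⟩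
    exact (QuotientGroup.eq_one_iff _).1 (orderOf_eq_one_iff.1 (Nat.eq_one_of_dvd_coprimes
      (hxo.pow_right k) dvd_rfl (orderOf_dvd_of_pow_eq_one (congrArg Subtype.val hk))))
  · intro x hx
    refine ⟨⟨x, hx.2⟩, ?_, rfl⟩
    refine Lib.Cores.le_pPrimeCore (N := (pPrimeCore p G).subgroupOf N) ?_ hx.1
    exact (Lib.Cores.pPrimeCore_coprime (G := G) p).coprime_dvd_left
      (Subgroup.card_comap_dvd_of_injective _ _ N.subtype_injective)

end Cfsg.Agent.S0661
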