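import Cfsg.Statements.S0662
import Mathlib
import Cfsg.Agent.Lib.PGroups.Frattini
import Cfsg.Agent.S0063

set_option autoImplicit false
set_option linter.style.haveILetI false
open Cfsg

namespace Cfsg.Agent.S0662

/-- In a p-group of maximal class of order at least p³ the normal subgroups of index at least p² are exactly the terms of the lower central series, and there are exactly p + 1 normal subgroups of index p. -/
theorem result {G : Type*} [Group G] [Finite G] {p : ℕ} [Fact p.Prime] (n : ℕ) (hG : Nat.card G = p ^ n) (hcl : Group.nilpotencyClass G = n - 1) (hn : 3 ≤ n) : (∀ (N : Subgroup G) [N.Normal] (r : ℕ), 2 ≤ r → N.index = p ^ r → N = (⊤ : Subgroup G).lowerCentralSeries (r - 1)) ∧ Nat.card {N : Subgroup G // N.Normal ∧ N.index = p} = p + 1 := by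
  have hp : p.Prime := Fact.out
  have hpG : IsPGroup p G := IsPGroup.of_card hG
  haveI := hpG.isNilpotent
  set γ := fun i => (⊤ : Subgroup G).lowerCentralSeries i with hγ
  have hbot : ∀ i, γ i = ⊥ ↔ n - 1 ≤ i := fun i => by
    rw [← hcl]; exact Subgroup.lowerCentralSeries_eq_bot_iff_nilpotencyClass_le
  have hanti : ∀ i, γ (i + 1) ≤ γ i := fun i =>
    (Subgroup.lowerCentralSeries_antitone (S := (⊤ : Subgroup G))) (Nat.le_succ i)
  have hstab : ∀ i, γ (i + 1) = γ i → ∀ d, γ (i + d) = γ i := by
    intro i hi d
    induction d with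
    | zero => rfl
    | succ d ih =>
      show ⁅γ (i + d), (⊤ : Subgroup G)⁆ = γ i
      rw [ih]; exact hi
  choose e he hele using fun i : ℕ => show ∃ e, (γ i).index = p ^ e ∧ e ≤ n by
    obtain ⟨e, hle, he⟩ := (Nat.dvd_prime_pow hp).1 (hG ▸ Subgroup.index_dvd_card (γ i))
    exact ⟨e, he, hle⟩
  have hstrict : ∀ i < n - 1, e i < e (i + 1) := by
    intro i hi
    have hne : γ (i + 1) < γ i := lt_of_le_of_ne (hanti i) fun h => by
      have h1 := hstab i h (n - 1)
      rw [(hbot (i + (n - 1))).2 (by omega)] at h1
      have := (hbot i).1 h1.symm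
      omega
    have h2 := Subgroup.index_strictAnti hne
    rw [he i, he (i + 1)] at h2
    exact (Nat.pow_lt_pow_iff_right hp.one_lt).1 h2
  have hγ1 : γ 1 = commutator G := Subgroup.top_lowerCentralSeries_one
  have hnc : ¬ IsMulCommutative G := fun h => by
    have := Group.IsNilpotent.nilpotencyClass_le_one_iff.2 h
    omega
  have he1 : 2 ≤ e 1 := by
    by_contra hlt
    have hcard : Nat.card (G ⧸ commutator G) = p ^ e 1 := by
      rw [← Subgroup.index_eq_card, ← hγ1]; exact he 1
    haveI : IsCyclic (G ⧸ commutator G) := by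
      rcases Nat.eq_zero_or_pos (e 1) with h0 | h0
      · haveI : Subsingleton (G ⧸ commutator G) :=
          (Nat.card_eq_one_iff_unique.1 (by rw [hcard, h0, pow_zero])).1
        infer_instance
      · exact isCyclic_of_prime_card (p := p) (by rw [hcard, show e 1 = 1 by omega, pow_one])
    haveI := Lib.PGroups.isCyclic_of_cyclic_quotient_commutator hpG
    exact hnc ⟨⟨fun a b => (IsCyclic.commGroup (α := G)).mul_comm a b⟩⟩
  have hlow : ∀ i, 1 ≤ i → i ≤ n - 1 → i + 1 ≤ e i := by
    intro i hi
    induction i, hi using Nat.le_induction with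
    | base => exact fun _ => he1
    | succ i hi ih =>
      intro hle
      have := ih (by omega)
      have := hstrict i (by omega)
      omega
  have hup : ∀ d, d ≤ n - 2 → e (n - 1 - d) + d ≤ n := by
    intro d hd
    induction d with
    | zero => simpa using hele (n - 1)
    | succ d ih =>
      have := ih (by omega)
      have h1 := hstrict (n - 1 - (d + 1)) (by omega)
      rw [show n - 1 - (d + 1) + 1 = n - 1 - d by omega] at h1
      omega
  have hexact : ∀ i, 1 ≤ i → i ≤ n - 1 → e i = i + 1 := by
    intro i hi hle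
    have := hlow i hi hle
    have h2 := hup (n - 1 - i) (by omega)
    rw [show n - 1 - (n - 1 - i) = i by omega] at h2
    omega
  refine ⟨fun N _ r hr hN => ?_, ?_⟩
  · have hrn : r ≤ n := by
      have h1 : p ^ r ∣ p ^ n := hN ▸ hG ▸ N.index_dvd_card
      exact (Nat.pow_dvd_pow_iff_le_right hp.one_lt).1 h1
    have hq : Nat.card (G ⧸ N) = p ^ r := by rw [← Subgroup.index_eq_card, hN]
    haveI := (hpG.to_quotient N).isNilpotent
    have hc := S0063.result p r hq (by omega)
    have hle : γ (r - 1) ≤ N := by
      have h1 : ((γ (r - 1)).map (QuotientGroup.mk' N)) = ⊥ := by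
        rw [eq_bot_iff]
        exact (Subgroup.lowerCentralSeries.map _ _).trans
          (Subgroup.lowerCentralSeries_eq_bot_iff_nilpotencyClass_le.2 hc).le
      rwa [Subgroup.map_eq_bot_iff, QuotientGroup.ker_mk'] at h1
    have hidx : (γ (r - 1)).index = p ^ r := by
      rw [he, hexact (r - 1) (by omega) (by omega)]
      congr 1; omega
    by_contra hne
    have h2 := Subgroup.index_strictAnti (lt_of_le_of_ne hle fun h => hne h.symm)
    rw [hidx, hN] at h2
    exact lt_irrefl _ h2
  · set D := commutator G
    have hQ : Nat.card (G ⧸ D) = p ^ 2 := by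
      rw [← Subgroup.index_eq_card, ← hγ1, he, hexact 1 le_rfl (by omega)]
    have hQnc : ¬ IsCyclic (G ⧸ D) := fun h => hnc (by
      haveI := h
      haveI := Lib.PGroups.isCyclic_of_cyclic_quotient_commutator hpG
      exact ⟨⟨fun a b => (IsCyclic.commGroup (α := G)).mul_comm a b⟩⟩)
    have hord : ∀ x : G ⧸ D, x ≠ 1 → orderOf x = p := by
      intro x hx
      have hd : orderOf x ∣ p ^ 2 := hQ ▸ orderOf_dvd_natCard x
      obtain ⟨j, hj, hjx⟩ := (Nat.dvd_prime_pow hp).1 hd
      interval_cases j
      · exact absurd (orderOf_eq_one_iff.1 (by simpa using hjx)) hx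
      · simpa using hjx
      · exact absurd (isCyclic_of_orderOf_eq_card x (by rw [hjx, hQ])) hQnc
    have hker : ∀ N : Subgroup G, N.Normal → N.index = p → D ≤ N := by
      intro N hN hidx
      haveI := hN
      haveI : Fact p.Prime := ⟨hp⟩
      haveI : IsCyclic (G ⧸ N) := isCyclic_of_prime_card (p := p)
        (by rw [← Subgroup.index_eq_card, hidx])
      exact Subgroup.Normal.quotient_commutative_iff_commutator_le.1
        ⟨⟨fun a b => (IsCyclic.commGroup (α := G ⧸ N)).mul_comm a b⟩⟩
    have hcardH : ∀ H : Subgroup (G ⧸ D), H.index = p ↔ Nat.card H = p := by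
      intro H
      have h1 := H.card_mul_index
      rw [hQ, pow_two] at h1
      constructor
      · intro h; rw [h] at h1; exact Nat.eq_of_mul_eq_mul_right hp.pos h1
      · intro h; rw [h] at h1; exact Nat.eq_of_mul_eq_mul_left hp.pos h1
    let eqv : {N : Subgroup G // N.Normal ∧ N.index = p} ≃
        {H : Subgroup (G ⧸ D) // Nat.card H = p} :=
      { toFun := fun N => ⟨N.1.map (QuotientGroup.mk' D), (hcardH _).1 (by
          rw [Subgroup.index_map, QuotientGroup.ker_mk', sup_eq_left.2 (hker N.1 N.2.1 N.2.2),
            MonoidHom.range_eq_top.2 (QuotientGroup.mk'_surjective D), Subgroup.index_top, mul_one]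
          exact N.2.2)⟩
        invFun := fun H => ⟨H.1.comap (QuotientGroup.mk' D),
          Subgroup.Normal.of_commutator_le _ (QuotientGroup.le_comap_mk' D H.1), by
          rw [Subgroup.index_comap_of_surjective _ (QuotientGroup.mk'_surjective D)]
          exact (hcardH _).2 H.2⟩
        left_inv := fun N => Subtype.ext (by
          simp only [Subgroup.comap_map_eq, QuotientGroup.ker_mk']
          exact sup_eq_left.2 (hker N.1 N.2.1 N.2.2))
        right_inv := fun H => Subtype.ext
          (Subgroup.map_comap_eq_self_of_surjective (QuotientGroup.mk'_surjective D) H.1) }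
    rw [Nat.card_congr eqv]
    classical
    haveI := Fintype.ofFinite (G ⧸ D)
    haveI := Fintype.ofFinite {H : Subgroup (G ⧸ D) // Nat.card H = p}
    let f : {x : G ⧸ D // x ≠ 1} → {H : Subgroup (G ⧸ D) // Nat.card H = p} :=
      fun x => ⟨Subgroup.zpowers x.1, by rw [Nat.card_zpowers, hord x.1 x.2]⟩
    have hfib : ∀ H : {H : Subgroup (G ⧸ D) // Nat.card H = p},
        Nat.card {x : {x : G ⧸ D // x ≠ 1} // f x = H} = p - 1 := by
      intro H
      let eq2 : {x : {x : G ⧸ D // x ≠ 1} // f x = H} ≃ {y : H.1 // y ≠ 1} :=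
        { toFun := fun x => ⟨⟨x.1.1, by
              have h1 : Subgroup.zpowers x.1.1 = H.1 := congrArg Subtype.val x.2
              exact h1 ▸ Subgroup.mem_zpowers _⟩,
            fun h => x.1.2 (congrArg Subtype.val h)⟩
          invFun := fun y => ⟨⟨y.1.1, fun h => y.2 (Subtype.ext h)⟩, Subtype.ext
            (Subgroup.eq_of_le_of_card_ge (Subgroup.zpowers_le.2 y.1.2) (by
              rw [H.2, Nat.card_zpowers, hord _ (fun h => y.2 (Subtype.ext h))]))⟩
          left_inv := fun x => by simp
          right_inv := fun y => by simp }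
      rw [Nat.card_congr eq2, Nat.card_eq_fintype_card, Fintype.card_subtype_compl,
        Fintype.card_subtype_eq, ← Nat.card_eq_fintype_card, H.2]
    have htot := Nat.card_congr (Equiv.sigmaFiberEquiv f)
    rw [Nat.card_sigma, Finset.sum_congr rfl (fun H _ => hfib H), Finset.sum_const,
      Finset.card_univ, ← Nat.card_eq_fintype_card, smul_eq_mul,
      Nat.card_eq_fintype_card (α := {x : G ⧸ D // x ≠ 1}), Fintype.card_subtype_compl,
      Fintype.card_subtype_eq, ← Nat.card_eq_fintype_card (α := G ⧸ D), hQ] at htot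
    have hp1 : 0 < p - 1 := by have := hp.two_le; omega
    refine Nat.eq_of_mul_eq_mul_right hp1 ?_
    rw [htot]
    have := hp.two_le
    zify [show 1 ≤ p ^ 2 from Nat.one_le_pow _ _ hp.pos, show 1 ≤ p by omega]
    ring

end Cfsg.Agent.S0662
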