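import Cfsg.Statements.S0663
import Mathlib

set_option autoImplicit false
open Cfsg
open scoped commutatorElement

namespace Cfsg.Agent.S0663

/-- A p-group acts uniserially on a p-group N of order p^n exactly when the iterated commutator chain from N has length n; in that case the chain terms are all the invariant subgroups of N and they are normal in N. -/
theorem result {L : Type*} [Group L] [Finite L] {p : ℕ} [Fact p.Prime] (N G : Subgroup L) (hN : IsPGroup p N) (hG : IsPGroup p G) (hGN : G ≤ Subgroup.normalizer (N : Set L)) (n : ℕ) (hn : Nat.card N = p ^ n) : ((∀ H : Subgroup L, H ≤ N → G ≤ Subgroup.normalizer (H : Set L) → H ≠ ⊥ → (⁅H, G⁆).relIndex H = p) ↔ Cfsg.iterCommutator N G (n - 1) ≠ ⊥ ∨ n = 0) ∧ ((∀ H : Subgroup L, H ≤ N → G ≤ Subgroup.normalizer (H : Set L) → H ≠ ⊥ → (⁅H, G⁆).relIndex H = p) → ∀ H : Subgroup L, H ≤ N → G ≤ Subgroup.normalizer (H : Set L) → (∃ i ≤ n, H = Cfsg.iterCommutator N G i) ∧ N ≤ Subgroup.normalizer (H : Set L)) := by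
  set P : Subgroup L := N ⊔ G with hPdef
  have hPp : IsPGroup p P := hN.to_sup_of_normal_left' hG hGN
  haveI : Group.IsNilpotent P := hPp.isNilpotent
  have hPN : P ≤ Subgroup.normalizer (N : Set L) := sup_le Subgroup.le_normalizer hGN
  -- the iterates decrease
  have hGK : ∀ (H : Subgroup L), G ≤ Subgroup.normalizer (⁅H, G⁆ : Subgroup L) :=
    fun H => Subgroup.normalizer_commutator_ge_right H G
  have hinv : ∀ i, G ≤ Subgroup.normalizer (Cfsg.iterCommutator N G i : Set L) := by
    intro i; cases i with
    | zero => exact hGN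
    | succ i => exact hGK _
  have hanti : ∀ i, Cfsg.iterCommutator N G (i + 1) ≤ Cfsg.iterCommutator N G i :=
    fun i => Subgroup.le_normalizer_iff_commutator_le_left.1 (hinv i)
  have hleN : ∀ i, Cfsg.iterCommutator N G i ≤ N := by
    intro i; induction i with
    | zero => exact le_rfl
    | succ i ih => exact (hanti i).trans ih
  -- a nontrivial invariant subgroup moves down
  have hdown : ∀ H : Subgroup L, H ≤ P → H ≤ ⁅H, P⁆ → H = ⊥ := by
    intro H hHP hH
    obtain ⟨k, hk⟩ := (Subgroup.isNilpotent_iff_lowerCentralSeries P).1 inferInstance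
    have : ∀ j, H ≤ P.lowerCentralSeries j := by
      intro j; induction j with
      | zero => exact hHP
      | succ j ih => exact hH.trans (Subgroup.commutator_mono ih le_rfl)
    exact le_bot_iff.1 (hk ▸ this k)
  have hp : p.Prime := Fact.out
  have hdvd : ∀ H : Subgroup L, H ≤ N → H ≠ ⊥ → ∀ K ≤ H, ¬ H ≤ K → p ∣ K.relIndex H := by
    intro H hHN hH K hKH hne
    obtain ⟨m, hm⟩ := (IsPGroup.iff_card).1 (hN.to_le hHN)
    have h1 : K.relIndex H ∣ Nat.card H := Subgroup.relIndex_dvd_card K H
    rw [hm] at h1
    obtain ⟨j, _, hj⟩ := (Nat.dvd_prime_pow hp).1 h1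
    rcases j with _ | j
    · exact absurd (Subgroup.relIndex_eq_one.1 (by rw [hj, pow_zero])) hne
    · rw [hj]; exact dvd_pow_self p (Nat.succ_ne_zero j)
  have hNP : N ≤ P := le_sup_left
  have hGP : G ≤ P := le_sup_right
  -- the main lemma
  have main : (∀ i < n, (Cfsg.iterCommutator N G (i + 1)).relIndex (Cfsg.iterCommutator N G i) = p) →
      ∀ H : Subgroup L, H ≤ N → G ≤ Subgroup.normalizer (H : Set L) →
        (∃ i ≤ n, H = Cfsg.iterCommutator N G i) ∧ N ≤ Subgroup.normalizer (H : Set L) := by
    intro hidx
    have hcard : ∀ i ≤ n, Nat.card (Cfsg.iterCommutator N G i) = p ^ (n - i) := by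
      intro i hi
      induction i with
      | zero => simpa [Cfsg.iterCommutator] using hn
      | succ i ih =>
        have h1 := Subgroup.relIndex_mul_relIndex ⊥ _ _ bot_le (hanti i)
        rw [Subgroup.relIndex_bot_left, Subgroup.relIndex_bot_left, hidx i hi,
          ih (Nat.le_of_succ_le hi)] at h1
        have h2 : n - i = n - (i + 1) + 1 := by omega
        rw [h2, pow_succ] at h1
        exact Nat.eq_of_mul_eq_mul_right hp.pos h1
    have hbotn : Cfsg.iterCommutator N G n = ⊥ :=
      Subgroup.eq_bot_of_card_eq _ (by simpa using hcard n le_rfl)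
    -- each iterate is normal in `P`
    have hnorm : ∀ i ≤ n, P ≤ Subgroup.normalizer (Cfsg.iterCommutator N G i : Set L) := by
      intro i hi
      induction i with
      | zero => exact hPN
      | succ i ih =>
        set K := Cfsg.iterCommutator N G i with hK
        have hKne : K ≠ ⊥ := fun h => by
          have h1 := hcard i (Nat.le_of_succ_le hi)
          rw [← hK, h, Subgroup.card_bot] at h1
          have : 1 < p ^ (n - i) := Nat.one_lt_pow (by omega) hp.one_lt
          omega
        have hKP : ⁅K, P⁆ ≤ K :=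
          Subgroup.le_normalizer_iff_commutator_le_left.1 (ih (Nat.le_of_succ_le hi))
        have hne : ¬ K ≤ ⁅K, P⁆ := fun h => hKne (hdown K ((hleN i).trans hNP) h)
        have hd := hdvd K (hleN i) hKne _ hKP hne
        have hle : ⁅K, G⁆ ≤ ⁅K, P⁆ := Subgroup.commutator_mono le_rfl hGP
        have h1 := Subgroup.relIndex_mul_relIndex ⁅K, G⁆ ⁅K, P⁆ K hle hKP
        have h2 : (⁅K, G⁆).relIndex K = p := hidx i hi
        rw [h2] at h1
        have h3 : (⁅K, P⁆).relIndex K = p :=
          ((Nat.dvd_prime hp).1 (Dvd.intro_left _ h1)).resolve_left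
            fun h => hne (Subgroup.relIndex_eq_one.1 h)
        rw [h3] at h1
        have h4 : (⁅K, G⁆).relIndex ⁅K, P⁆ = 1 :=
          Nat.eq_of_mul_eq_mul_right hp.pos (by rw [one_mul]; exact h1)
        have h5 : ⁅K, P⁆ = ⁅K, G⁆ := le_antisymm (Subgroup.relIndex_eq_one.1 h4) hle
        show P ≤ Subgroup.normalizer ((⁅K, G⁆ : Subgroup L) : Set L)
        rw [← h5]
        exact Subgroup.normalizer_commutator_ge_right K P
    intro H hHN hGH
    obtain ⟨i, hi, hHi, hmax⟩ : ∃ i ≤ n, H ≤ Cfsg.iterCommutator N G i ∧
        ∀ j ≤ n, H ≤ Cfsg.iterCommutator N G j → j ≤ i := by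
      classical
      let s := (Finset.range (n + 1)).filter fun j => H ≤ Cfsg.iterCommutator N G j
      have hs : s.Nonempty := ⟨0, by simpa [s, Cfsg.iterCommutator] using hHN⟩
      have hmem : s.max' hs ∈ s := Finset.max'_mem s hs
      rw [Finset.mem_filter, Finset.mem_range] at hmem
      exact ⟨s.max' hs, Nat.lt_succ_iff.1 hmem.1, hmem.2,
        fun j hj hjH => Finset.le_max' s j (by simp [s, hjH]; omega)⟩
    suffices hsup : ∀ j, i + 1 ≤ j → j ≤ n →
        Cfsg.iterCommutator N G i ≤ H ⊔ Cfsg.iterCommutator N G j by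
      have heq : H = Cfsg.iterCommutator N G i := by
        refine le_antisymm hHi ?_
        rcases hi.eq_or_lt with rfl | hlt
        · rw [hbotn]; exact bot_le
        · simpa [hbotn] using hsup n hlt le_rfl
      refine ⟨⟨i, hi, heq⟩, ?_⟩
      rw [heq]
      exact hNP.trans (hnorm i hi)
    intro j hij
    induction j, hij using Nat.le_induction with
    | base =>
      intro hin
      set K := Cfsg.iterCommutator N G i with hK
      set K' := Cfsg.iterCommutator N G (i + 1) with hK'
      have hne : ¬ H ≤ K' := fun h => by have := hmax (i + 1) hin h; omega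
      have hle : H ⊔ K' ≤ K := sup_le hHi (hanti i)
      have h1 := Subgroup.relIndex_mul_relIndex K' (H ⊔ K') K le_sup_right hle
      rw [show K'.relIndex K = p from hidx i hin] at h1
      rcases (Nat.dvd_prime hp).1 (Dvd.intro_left _ h1) with h2 | h2
      · exact Subgroup.relIndex_eq_one.1 h2
      · exfalso
        rw [h2] at h1
        have h3 : K'.relIndex (H ⊔ K') = 1 :=
          Nat.eq_of_mul_eq_mul_right hp.pos (by rw [one_mul]; exact h1)
        exact hne (le_sup_left.trans (Subgroup.relIndex_eq_one.1 h3))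
    | succ j hij ih =>
      intro hjn
      have hjn' : j ≤ n := Nat.le_of_succ_le hjn
      have hi1n : i + 1 ≤ n := hij.trans hjn'
      have hKj : ∀ a b : ℕ, a ≤ b →
          Cfsg.iterCommutator N G b ≤ Cfsg.iterCommutator N G a := by
        intro a b hab
        induction b, hab using Nat.le_induction with
        | base => exact le_rfl
        | succ b _ ih => exact (hanti b).trans ih
      have hstep : Cfsg.iterCommutator N G (i + 1) ≤ H ⊔ Cfsg.iterCommutator N G (j + 1) := by
        have hij' : Cfsg.iterCommutator N G i ≤ H ⊔ Cfsg.iterCommutator N G j := ih hjn'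
        refine Subgroup.commutator_le.2 fun x hx g hg => ?_
        have hn2 : H ≤ Subgroup.normalizer (Cfsg.iterCommutator N G j : Set L) :=
          (hHN.trans hNP).trans (hnorm j hjn')
        have hx' : x ∈ ((H ⊔ Cfsg.iterCommutator N G j : Subgroup L) : Set L) := hij' hx
        rw [Subgroup.coe_mul_of_left_le_normalizer_right _ _ hn2] at hx'
        obtain ⟨h, hh, k, hk, rfl⟩ := hx' 
        rw [commutatorElement_mul_left_eq_conj_mul]
        refine mul_mem (mul_mem (mul_mem (Subgroup.mem_sup_left hh) ?_)
          (Subgroup.mem_sup_left (inv_mem hh))) ?_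
        · exact Subgroup.mem_sup_right (Subgroup.commutator_mem_commutator hk hg)
        · exact Subgroup.mem_sup_left
            (Subgroup.le_normalizer_iff_commutator_le_left.1 hGH
              (Subgroup.commutator_mem_commutator hh hg))
      have hb : Cfsg.iterCommutator N G i ≤ H ⊔ Cfsg.iterCommutator N G (i + 1) := by
        have hne : ¬ H ≤ Cfsg.iterCommutator N G (i + 1) := fun h => by
          have := hmax (i + 1) hi1n h; omega
        have hle : H ⊔ Cfsg.iterCommutator N G (i + 1) ≤ Cfsg.iterCommutator N G i :=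
          sup_le hHi (hanti i)
        have h1 := Subgroup.relIndex_mul_relIndex (Cfsg.iterCommutator N G (i + 1))
          (H ⊔ Cfsg.iterCommutator N G (i + 1)) _ le_sup_right hle
        rw [hidx i hi1n] at h1
        rcases (Nat.dvd_prime hp).1 (Dvd.intro_left _ h1) with h2 | h2
        · exact Subgroup.relIndex_eq_one.1 h2
        · exfalso
          rw [h2] at h1
          exact hne (le_sup_left.trans (Subgroup.relIndex_eq_one.1
            (Nat.eq_of_mul_eq_mul_right hp.pos (by rw [one_mul]; exact h1))))
      exact hb.trans (sup_le le_sup_left hstep)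
  have hfwd : (∀ H : Subgroup L, H ≤ N → G ≤ Subgroup.normalizer (H : Set L) → H ≠ ⊥ →
      (⁅H, G⁆).relIndex H = p) →
      ∀ i < n, (Cfsg.iterCommutator N G (i + 1)).relIndex (Cfsg.iterCommutator N G i) = p ∧
        Nat.card (Cfsg.iterCommutator N G i) = p ^ (n - i) := by
    intro h i hi
    induction i with
    | zero =>
      refine ⟨h N le_rfl hGN fun hb => ?_, by simpa [Cfsg.iterCommutator] using hn⟩
      have : 1 < p ^ n := Nat.one_lt_pow (by omega) hp.one_lt
      rw [hb, Subgroup.card_bot] at hn
      omega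
    | succ i ih =>
      obtain ⟨h1, h2⟩ := ih (by omega)
      have h3 := Subgroup.relIndex_mul_relIndex ⊥ _ _ bot_le (hanti i)
      rw [Subgroup.relIndex_bot_left, Subgroup.relIndex_bot_left, h1, h2] at h3
      have h4 : n - i = n - (i + 1) + 1 := by omega
      rw [h4, pow_succ] at h3
      have h5 := Nat.eq_of_mul_eq_mul_right hp.pos h3
      refine ⟨h _ (hleN _) (hinv _) fun hb => ?_, h5⟩
      have : 1 < p ^ (n - (i + 1)) := Nat.one_lt_pow (by omega) hp.one_lt
      rw [hb, Subgroup.card_bot] at h5
      omega
  refine ⟨⟨fun h => ?_, fun h => ?_⟩, fun h => main fun i hi => (hfwd h i hi).1⟩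
  · rcases Nat.eq_zero_or_pos n with h0 | hpos
    · exact Or.inr h0
    · refine Or.inl fun hb => ?_
      have h1 := (hfwd h (n - 1) (by omega)).2
      rw [hb, Subgroup.card_bot] at h1
      have : 1 < p ^ (n - (n - 1)) := Nat.one_lt_pow (by omega) hp.one_lt
      omega
  · rcases h with h | rfl
    swap
    · intro H hHN _ hH
      exact absurd (le_bot_iff.1 ((Subgroup.eq_bot_of_card_eq N (by simpa using hn)) ▸ hHN)) hH
    intro H hHN hGH hH
    have hne : ∀ j ≤ n - 1, Cfsg.iterCommutator N G j ≠ ⊥ := by
      intro j hj hb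
      refine h ?_
      obtain ⟨d, hd⟩ := Nat.exists_eq_add_of_le hj
      rw [hd]
      clear hd hj
      induction d with
      | zero => exact hb
      | succ d ih => exact le_bot_iff.1 (ih ▸ hanti (j + d))
    have hstrict : ∀ j ≤ n - 1,
        p ∣ (Cfsg.iterCommutator N G (j + 1)).relIndex (Cfsg.iterCommutator N G j) := by
      intro j hj
      refine hdvd _ (hleN j) (hne j hj) _ (hanti j) fun hle => hne j hj ?_
      exact hdown _ ((hleN j).trans hNP) (hle.trans (Subgroup.commutator_mono le_rfl hGP))
    have hbound : ∀ j ≤ n, Nat.card (Cfsg.iterCommutator N G j) * p ^ j ∣ p ^ n := by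
      intro j hj
      induction j with
      | zero => simp [Cfsg.iterCommutator, hn]
      | succ j ih =>
        have h1 := Subgroup.relIndex_mul_relIndex ⊥ _ _ bot_le (hanti j)
        rw [Subgroup.relIndex_bot_left, Subgroup.relIndex_bot_left] at h1
        refine dvd_trans ?_ (ih (Nat.le_of_succ_le hj))
        rw [← h1, pow_succ', ← mul_assoc]
        exact mul_dvd_mul_right (mul_dvd_mul_left _ (hstrict j (by omega))) _
    have hlow : ∀ d, d ≤ n - 1 → p ^ (d + 1) ∣ Nat.card (Cfsg.iterCommutator N G (n - 1 - d)) := by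
      intro d hd
      induction d with
      | zero =>
        obtain ⟨m, hm⟩ := IsPGroup.iff_card.1 (hN.to_le (hleN (n - 1)))
        simp only [Nat.sub_zero, hm]
        rcases m with _ | m
        · exact absurd (Subgroup.eq_bot_of_card_eq _ (by simpa using hm)) h
        · simp [pow_succ']
      | succ d ih =>
        set j := n - 1 - (d + 1) with hj
        have hj1 : n - 1 - d = j + 1 := by omega
        have h1 := Subgroup.relIndex_mul_relIndex ⊥ _ _ bot_le (hanti j)
        rw [Subgroup.relIndex_bot_left, Subgroup.relIndex_bot_left] at h1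
        rw [← h1, pow_succ]
        exact mul_dvd_mul (hj1 ▸ ih (by omega)) (hstrict j (by omega))
    have hidx : ∀ j < n,
        (Cfsg.iterCommutator N G (j + 1)).relIndex (Cfsg.iterCommutator N G j) = p := by
      intro j hj
      have hexact : ∀ k < n, Nat.card (Cfsg.iterCommutator N G k) = p ^ (n - k) := by
        intro k hk
        have h1 := hlow (n - 1 - k) (by omega)
        rw [show n - 1 - (n - 1 - k) = k by omega, show n - 1 - k + 1 = n - k by omega] at h1
        have h2 := hbound k (by omega)
        refine Nat.dvd_antisymm ?_ h1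
        rw [show p ^ n = p ^ (n - k) * p ^ k by rw [← pow_add]; congr 1; omega] at h2
        exact Nat.dvd_of_mul_dvd_mul_right (pow_pos hp.pos k) h2
      have h1 := Subgroup.relIndex_mul_relIndex ⊥ _ _ bot_le (hanti j)
      rw [Subgroup.relIndex_bot_left, Subgroup.relIndex_bot_left, hexact j hj] at h1
      rcases Nat.lt_or_ge (j + 1) n with hj' | hj'
      · rw [hexact (j + 1) hj', show n - j = n - (j + 1) + 1 by omega, pow_succ] at h1
        exact Nat.eq_of_mul_eq_mul_left (pow_pos hp.pos _) h1
      · rw [show n - j = 1 by omega, pow_one] at h1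
        rcases (Nat.dvd_prime hp).1 (Dvd.intro_left _ h1) with h2 | h2
        · have := Nat.le_of_dvd (by omega) (h2 ▸ hstrict j (by omega))
          have := hp.one_lt
          omega
        · exact h2
    obtain ⟨⟨i, hi, rfl⟩, -⟩ := main hidx H hHN hGH
    rcases hi.eq_or_lt with rfl | hlt
    · exfalso
      have h1 := hbound i le_rfl
      have h2 := Nat.le_of_dvd (pow_pos hp.pos i) h1
      have h3 : Nat.card (Cfsg.iterCommutator N G i) ≤ 1 :=
        Nat.le_of_mul_le_mul_right (by rw [one_mul]; exact h2) (pow_pos hp.pos i)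
      exact hH (Subgroup.eq_bot_of_card_eq _ (le_antisymm h3 Nat.card_pos))
    · exact hidx i hlt

end Cfsg.Agent.S0663
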