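import Cfsg.Statements.S0666
import Cfsg.Agent.Lib.Induced.FrobeniusKernel
import Cfsg.Agent.Lib.Frobenius.Basic

set_option autoImplicit false
open Cfsg

namespace Cfsg.Agent.S0666

/-- A Frobenius group acting on a nontrivial abelian group of order prime to that of its kernel, with the kernel acting without nontrivial fixed points, has a complement with a nontrivial fixed point. -/
theorem result {G : Type*} [Group G] [Finite G] (V F : Subgroup G) (hVab : IsMulCommutative V) (hV1 : V ≠ ⊥) (hFV : F ≤ Subgroup.normalizer (V : Set G)) (H : Subgroup ↥F) (hH : Cfsg.IsFrobeniusComplement H) (hcop : (Nat.card V).Coprime (Nat.card (Cfsg.frobeniusKernel H))) (hCK : V ⊓ Subgroup.centralizer (Subtype.val '' Cfsg.frobeniusKernel H : Set G) = ⊥) : V ⊓ Subgroup.centralizer ((H.map F.subtype : Subgroup G) : Set G) ≠ ⊥ := by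
  classical
  letI : CommGroup ↥V := { (inferInstance : Group ↥V) with mul_comm := hVab.is_comm.comm }
  obtain ⟨K, hKn, hKset, hKH⟩ := Lib.Induced.FrobeniusKernel.exists_frobeniusKernel_subgroup hH
  haveI : Fintype ↥F := Fintype.ofFinite _
  let φ : ↥F → ↥V →* ↥V := fun x =>
    { toFun := fun v => ⟨(x : G) * v * (x : G)⁻¹, (Subgroup.mem_normalizer_iff.1 (hFV x.2) _).1 v.2⟩
      map_one' := Subtype.ext (by simp)
      map_mul' := fun a b => Subtype.ext (by simp) }
  have hφmul : ∀ (x y : ↥F) (v : ↥V), φ (x * y) v = φ x (φ y v) := fun x y v =>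
    Subtype.ext (by simp [φ, mul_assoc])
  have hfix : ∀ (X : Subgroup ↥F) (v : ↥V) (y : ↥X), φ y (∏ x : ↥X, φ x v) = ∏ x : ↥X, φ x v := by
    intro X v y
    rw [map_prod]
    exact Fintype.prod_equiv (Equiv.mulLeft y) _ _ fun x => (hφmul y x v).symm
  have hbot : ∀ (X : Subgroup ↥F),
      (∀ w : ↥V, (∀ y : ↥X, φ y w = w) → w = 1) → ∀ v : ↥V, ∏ x : ↥X, φ x v = 1 :=
    fun X hX v => hX _ fun y => hfix X v y
  have hK0 : ∀ w : ↥V, (∀ y : ↥K, φ y w = w) → w = 1 := by
    intro w hw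
    have h : (w : G) ∈ V ⊓ Subgroup.centralizer
        (Subtype.val '' Cfsg.frobeniusKernel H : Set G) := by
      refine ⟨w.2, Subgroup.mem_centralizer_iff.2 ?_⟩
      rintro _ ⟨x, hx, rfl⟩
      rw [← hKset] at hx
      exact mul_inv_eq_iff_eq_mul.1 (congrArg Subtype.val (hw ⟨x, hx⟩))
    rw [hCK, Subgroup.mem_bot] at h
    exact Subtype.ext h
  intro hbad
  have hH0 : ∀ w : ↥V, (∀ y : ↥H, φ y w = w) → w = 1 := by
    intro w hw
    have h : (w : G) ∈ V ⊓ Subgroup.centralizer ((H.map F.subtype : Subgroup G) : Set G) := by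
      refine ⟨w.2, Subgroup.mem_centralizer_iff.2 ?_⟩
      rintro _ ⟨x, hx, rfl⟩
      exact mul_inv_eq_iff_eq_mul.1 (congrArg Subtype.val (hw ⟨x, hx⟩))
    rw [hbad, Subgroup.mem_bot] at h
    exact Subtype.ext h
  have hF0 : ∀ v : ↥V, ∏ x : ↥F, φ x v = 1 := by
    intro v
    refine hK0 _ fun y => ?_
    rw [map_prod]
    exact Fintype.prod_equiv (Equiv.mulLeft (y : ↥F)) _ _ fun x => (hφmul y x v).symm
  have hφ1 : ∀ v : ↥V, φ 1 v = v := fun v => Subtype.ext (by simp [φ])
  have hconj : ∀ (k : ↥F) (v : ↥V), ∏ h : ↥H, φ (k * h * k⁻¹) v = 1 := by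
    intro k v
    simp only [hφmul]
    rw [← map_prod, hbot H hH0, map_one]
  have hkey : ∀ v : ↥V, v ^ Nat.card K = 1 := by
    intro v
    have hsplit := Finset.prod_filter_mul_prod_filter_not (Finset.univ : Finset ↥F) (· ∈ K)
      (fun x => φ x v)
    rw [hF0 v] at hsplit
    have h1 : ∏ x ∈ Finset.univ.filter (fun x : ↥F => x ∈ K), φ x v = 1 := by
      rw [Finset.prod_subtype (p := fun x => x ∈ K) (Finset.univ.filter (fun x : ↥F => x ∈ K))
        (fun x => by simp) (fun x => φ x v)]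
      exact hbot K hK0 v
    rw [h1, one_mul] at hsplit
    have h2 : ∏ z ∈ (Finset.univ : Finset ↥K) ×ˢ (Finset.univ.erase (1 : ↥H)),
        φ ((z.1 : ↥F) * z.2 * (z.1 : ↥F)⁻¹) v = 1 := by
      refine Eq.trans (Finset.prod_bij (fun z _ => (z.1 : ↥F) * z.2 * (z.1 : ↥F)⁻¹) ?_ ?_ ?_ ?_) hsplit
      · rintro ⟨k, h⟩ hz
        simp only [Finset.mem_product, Finset.mem_univ, true_and, Finset.mem_erase, and_true] at hz
        simp only [Finset.mem_filter, Finset.mem_univ, true_and]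
        intro hmem
        have : (h : ↥F) ∈ K := by simpa [mul_assoc] using hKn.conj_mem _ hmem (k : ↥F)⁻¹
        exact hz (Subtype.ext (Subgroup.disjoint_def.1 hKH.disjoint this h.2))
      · rintro ⟨k, h⟩ hz ⟨k', h'⟩ - he
        simp only [Finset.mem_product, Finset.mem_univ, true_and, Finset.mem_erase, and_true] at hz
        have hh : ((k' : ↥F)⁻¹ * k) * h * ((k' : ↥F)⁻¹ * k)⁻¹ = h' := by
          rw [show ((k' : ↥F)⁻¹ * k) * h * ((k' : ↥F)⁻¹ * k)⁻¹ =
            (k' : ↥F)⁻¹ * ((k : ↥F) * h * (k : ↥F)⁻¹) * k' by group, he]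
          group
        have hmem : ((k' : ↥F)⁻¹ * k)⁻¹ ∈ H :=
          Lib.Frobenius.mem_of_conj_mem hH h.2 (fun h1 => hz (Subtype.ext h1)) (by
            rw [inv_inv, hh]; exact h'.2)
        have hkk : ((k' : ↥F)⁻¹ * k)⁻¹ = 1 := Subgroup.disjoint_def.1 hKH.disjoint
          (K.inv_mem (K.mul_mem (K.inv_mem k'.2) k.2)) hmem
        rw [inv_eq_one, inv_mul_eq_one] at hkk
        obtain rfl : k' = k := Subtype.ext hkk
        exact Prod.ext rfl (Subtype.ext (mul_left_cancel (mul_right_cancel he)))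
      · intro x hx
        simp only [Finset.mem_filter, Finset.mem_univ, true_and] at hx
        have hx' : x ∉ (K : Set ↥F) := hx
        rw [hKset] at hx'
        simp only [Cfsg.frobeniusKernel, Set.mem_setOf_eq, not_or, not_forall, not_not] at hx'
        obtain ⟨hx1, g, hg⟩ := hx'
        rw [Lib.Frobenius.mem_conj_smul] at hg
        obtain ⟨⟨⟨k, hk⟩, ⟨h, hh⟩⟩, hkh⟩ := hKH.2 g
        refine ⟨(⟨k, hk⟩, ⟨k⁻¹ * x * k, ?_⟩), ?_, by simp [mul_assoc]⟩
        · have : k⁻¹ * x * k = h * (g⁻¹ * x * g) * h⁻¹ := by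
            rw [← hkh]; group
          rw [this]
          exact H.mul_mem (H.mul_mem hh hg) (H.inv_mem hh)
        · simp only [Finset.mem_product, Finset.mem_univ, true_and, Finset.mem_erase, and_true,
            ne_eq, Subtype.ext_iff, Subgroup.coe_one]
          intro h1
          refine hx1 ?_
          calc x = k * (k⁻¹ * x * k) * k⁻¹ := by group
            _ = 1 := by rw [show k⁻¹ * x * k = 1 from Subtype.ext h1]; group
      · intros; rfl
    have h3 : ∀ k : ↥K, ∏ h ∈ Finset.univ.erase (1 : ↥H), φ ((k : ↥F) * h * (k : ↥F)⁻¹) v = v⁻¹ := by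
      intro k
      rw [Finset.prod_erase_eq_div (Finset.mem_univ _), hconj, one_div]
      simp [hφ1]
    rw [Finset.prod_product, Finset.prod_congr rfl (fun k _ => h3 k), Finset.prod_const,
      Finset.card_univ, inv_pow, inv_eq_one] at h2
    rwa [Nat.card_eq_fintype_card]
  refine hV1 ((Subgroup.eq_bot_iff_forall _).2 fun v hv => ?_)
  have hKc : Nat.card (Cfsg.frobeniusKernel H) = Nat.card K := by rw [← hKset]; rfl
  rw [hKc] at hcop
  have h := orderOf_eq_one_iff.1 (Nat.eq_one_of_dvd_coprimes hcop (orderOf_dvd_natCard (⟨v, hv⟩ : ↥V))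
    (orderOf_dvd_of_pow_eq_one (hkey ⟨v, hv⟩)))
  exact congrArg Subtype.val h

end Cfsg.Agent.S0666
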