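import Cfsg.Statements.S0677
import Cfsg.Agent.Lib.Perm.PrimeDegreeIndex

set_option autoImplicit false
open Cfsg Cfsg.Agent.Lib.Perm Cfsg.Agent.Lib.Perm.PrimeDegreeIndex

namespace Cfsg.Agent.S0677

/-- In a transitive permutation group of prime degree `p` whose Sylow `p`-normaliser has even order, the point stabilisers are the only subgroups of index `p`. -/
theorem result {α : Type*} [Fintype α] [DecidableEq α] {p : ℕ} [Fact p.Prime] (hα : Fintype.card α = p) (G : Subgroup (Equiv.Perm α)) [MulAction.IsPretransitive G α] (P : Sylow p G) (heven : Even (Nat.card (Subgroup.normalizer ((P : Subgroup G) : Set G)))) (H : Subgroup G) (hH : H.index = p) : ∃ a : α, H = MulAction.stabilizer G a := by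
  by_cases hp2 : p = 2
  · have hne : Nonempty α := Fintype.card_pos_iff.mp (hα ▸ (Fact.out : p.Prime).pos)
    obtain ⟨a⟩ := hne
    refine ⟨a, (Two.index_two hα hp2 G hH).trans (Two.index_two hα hp2 G ?_).symm⟩
    rw [MulAction.index_stabilizer_of_transitive, Nat.card_eq_fintype_card, hα]
  obtain ⟨e, c, t, hce, hte⟩ := PrimeDegreeEven.exists_cycle_reflection hα hp2 G P heven
  exact IndexP.index_p hα hp2 G P H hH e c t hce hte

end Cfsg.Agent.S0677
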