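import Cfsg.Statements.S0678
import Cfsg.Agent.Lib.Perm.PrimeDegreeSylow
import Mathlib.GroupTheory.SpecificGroups.ZGroup
import Mathlib.GroupTheory.GroupAction.Jordan
import Mathlib.Data.Nat.Squarefree
import Mathlib.Tactic.IntervalCases

set_option autoImplicit false
open Cfsg

namespace Cfsg.Agent.S0678


open Cfsg.Agent.Lib.Perm in
theorem card_dvd {α : Type*} [Fintype α] [DecidableEq α] (hα : Fintype.card α = 7)
    (G : Subgroup (Equiv.Perm α)) [MulAction.IsPretransitive G α]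
    (hA : ¬ alternatingGroup α ≤ G) : Nat.card G ∣ 840 := by
  have : Fact (Nat.Prime 7) := ⟨by decide⟩
  have hprim := PrimeDegreeSylow.isPreprimitive hα G
  have hperm : Nat.card (Equiv.Perm α) = 5040 := by
    rw [Nat.card_perm, Nat.card_eq_fintype_card, hα]; rfl
  obtain ⟨a, b, c, hab, hac, hbc⟩ : ∃ a b c : α, a ≠ b ∧ a ≠ c ∧ b ≠ c := by
    obtain ⟨a, b, c, -, -, -, h⟩ := Finset.two_lt_card_iff.mp
      (show 2 < (Finset.univ : Finset α).card by rw [Finset.card_univ, hα]; norm_num)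
    exact ⟨a, b, c, h⟩
  have h16 : ¬ 16 ∣ Nat.card G := fun h => by
    have : Fact (Nat.Prime 2) := ⟨Nat.prime_two⟩
    obtain ⟨g, hg⟩ := PrimeDegreeSylow.exists_conj_mem (q := 2) (v := 4) (a := 1) G h
      (by rw [hperm]; norm_num)
      (show Equiv.swap a b ^ 2 ^ 1 = 1 by rw [pow_one, pow_two, Equiv.swap_mul_self])
    refine hA ?_
    rw [Equiv.Perm.subgroup_eq_top_of_isPreprimitive_of_isSwap_mem hprim _ ?_ hg]
    · exact le_top
    · exact ⟨g a, g b, g.injective.ne hab, (Equiv.mul_swap_eq_swap_mul g a b).symm ▸ by group⟩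
  have h9 : ¬ 9 ∣ Nat.card G := fun h => by
    have : Fact (Nat.Prime 3) := ⟨Nat.prime_three⟩
    have h3 : Equiv.Perm.IsThreeCycle (Equiv.swap a b * Equiv.swap a c) :=
      Equiv.Perm.isThreeCycle_swap_mul_swap_same hab hac hbc
    obtain ⟨g, hg⟩ := PrimeDegreeSylow.exists_conj_mem (q := 3) (v := 2) (a := 1) G h
      (by rw [hperm]; norm_num)
      (show (Equiv.swap a b * Equiv.swap a c) ^ 3 ^ 1 = 1 by
        rw [pow_one, ← h3.orderOf]; exact pow_orderOf_eq_one _)
    exact hA (Equiv.Perm.alternatingGroup_le_of_isPreprimitive_of_isThreeCycle_mem hprim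
      (by rw [Equiv.Perm.IsThreeCycle, Equiv.Perm.cycleType_conj]; exact h3) hg)
  have hd : Nat.card G ∈ Nat.divisors 5040 := Nat.mem_divisors.mpr
    ⟨hperm ▸ G.card_subgroup_dvd_card, by norm_num⟩
  have key : ∀ d ∈ Nat.divisors 5040, ¬ 16 ∣ d → ¬ 9 ∣ d → d ∣ 840 := by decide +kernel
  exact key _ hd h16 h9

theorem arith : ∀ k ∈ Nat.divisors 120, ∀ e ∈ Nat.divisors 6,
    k % 7 = 1 → e ≠ 1 → k ≠ 1 → k * e ∣ 120 → (k = 8 ∧ e = 3) ∨ (k = 15 ∧ e = 2) := by
  decide +kernel

/-- A non-solvable transitive permutation group on 7 points that does not contain the alternating group is a simple group of order 168. -/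
theorem result {α : Type*} [Fintype α] [DecidableEq α] (hα : Fintype.card α = 7) (G : Subgroup (Equiv.Perm α)) [MulAction.IsPretransitive G α] (hG : ¬ Group.IsSolvable G) (hA : ¬ alternatingGroup α ≤ G) : Nat.card G = 168 ∧ IsSimpleGroup G := by
  have : Fact (Nat.Prime 7) := ⟨by decide⟩
  obtain ⟨P⟩ : Nonempty (Sylow 7 G) := inferInstance
  obtain ⟨k, e, hcard, hk, he, hN⟩ :=
    Lib.Perm.PrimeDegreeSylow.card_decomposition hα G P
  have hd := card_dvd hα G hA
  have he1 : e ≠ 1 := fun h =>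
    Lib.Perm.PrimeDegreeSylow.e_ne_one hα G P hG (by rw [hN, h, mul_one])
  have hk1 : k ≠ 1 := fun h => hG <| Lib.Perm.PrimeDegreeSylow.solvable_of_sylow_normal hα G P <|
    Subgroup.eq_top_of_card_eq _ (by rw [hN, hcard, h, one_mul])
  have hke : k * e ∣ 120 := by
    refine Nat.dvd_of_mul_dvd_mul_left (show 0 < 7 by norm_num) ?_
    rw [show 7 * (k * e) = k * (7 * e) by ring, ← hcard]
    exact hd
  rcases arith k (Nat.mem_divisors.mpr ⟨(dvd_mul_right k e).trans hke, by norm_num⟩)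
      e (Nat.mem_divisors.mpr ⟨he, by norm_num⟩) hk he1 hk1 hke with ⟨rfl, rfl⟩ | ⟨rfl, rfl⟩
  · exact ⟨hcard, Lib.Perm.PrimeDegreeSylow.isSimpleGroup hα G P hG Nat.prime_three hN⟩
  · exfalso
    have hsq : Squarefree (Nat.card G) := by
      rw [hcard, Nat.squarefree_iff_prime_squarefree]
      intro q hq hdvd
      have := Nat.le_of_dvd (by norm_num) hdvd
      have hq15 : q < 15 := by nlinarith
      interval_cases q <;> revert hdvd hq <;> decide
    have := IsZGroup.of_squarefree hsq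
    exact hG inferInstance

end Cfsg.Agent.S0678
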