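import Cfsg.Statements.S0679
import Cfsg.Agent.Lib.Perm.DegreeElevenCore
import Cfsg.Agent.Lib.Perm.PrimeDegree
import Cfsg.Agent.Lib.SmallGroups.RecogSmall

set_option autoImplicit false
open Cfsg

namespace Cfsg.Agent.S0679

/-- A non-solvable transitive permutation group on 11 points that does not contain the alternating group is either sharply 4-transitive (of order 7920) or isomorphic to the projective special linear group of degree 2 over the field with 11 elements. -/
theorem result {α : Type*} [Fintype α] [DecidableEq α] (hα : Fintype.card α = 11) (G : Subgroup (Equiv.Perm α)) [MulAction.IsPretransitive G α] (hG : ¬ Group.IsSolvable G) (hA : ¬ alternatingGroup α ≤ G) : (MulAction.IsMultiplyPretransitive G α 4 ∧ ∀ x : Fin 4 ↪ α, MulAction.stabilizer G x = ⊥) ∨ Nonempty (G ≃* Matrix.ProjectiveSpecialLinearGroup (Fin 2) (ZMod 11)) := by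
  classical
  have : Fact (Nat.Prime 11) := ⟨by decide⟩
  obtain ⟨a⟩ : Nonempty α := Fintype.card_pos_iff.mp (by omega)
  obtain ⟨e, c, hc, -, -, hce⟩ := Lib.Perm.PrimeDegree.exists_cycle_equiv (p := 11) hα G a
  let f : Equiv.Perm α ≃* Equiv.Perm (ZMod 11) := e.symm.permCongrHom
  let G' : Subgroup (Equiv.Perm (ZMod 11)) := G.map f.toMonoidHom
  have hf : ∀ (g : Equiv.Perm α) (j : ZMod 11), f g j = e.symm (g (e j)) := fun g j => by
    simp [f, Equiv.permCongrHom, Equiv.permCongr_apply]
  let ι : G ≃* G' := f.subgroupMap G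
  have hι : ∀ (g : G) (j : ZMod 11),
      (ι g : Equiv.Perm (ZMod 11)) j = e.symm ((g : Equiv.Perm α) (e j)) := fun g j => hf g j
  have : MulAction.IsPretransitive G' (ZMod 11) := ⟨fun i j => by
    obtain ⟨g, hg⟩ := MulAction.exists_smul_eq G (e i) (e j)
    exact ⟨ι g, show (ι g : Equiv.Perm (ZMod 11)) i = j by
      rw [hι, show (g : Equiv.Perm α) (e i) = e j from hg, Equiv.symm_apply_apply]⟩⟩
  have hG' : ¬ Group.IsSolvable G' := fun h =>
    hG (Group.isSolvable_of_isSolvable_injective (f := ι.toMonoidHom) ι.injective)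
  have hA' : ¬ alternatingGroup (ZMod 11) ≤ G' := fun h => hA fun σ hσ => by
    have hs : Equiv.Perm.sign (f σ) = 1 :=
      (Equiv.Perm.sign_permCongr _ σ).trans (Equiv.Perm.mem_alternatingGroup.mp hσ)
    obtain ⟨τ, hτ, hτe⟩ := h (Equiv.Perm.mem_alternatingGroup.mpr hs)
    exact f.injective hτe ▸ hτ
  have ht : Lib.Perm.DegreeEleven.Has G' fun j => j + 1 :=
    ⟨f c, ⟨c, hc, rfl⟩, funext fun j => by rw [hf, hce, Equiv.symm_apply_apply]⟩
  rcases Lib.Perm.DegreeEleven.core ht hG' hA' with ⟨hcard, hsimple⟩ | ⟨hcard, h4⟩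
  · right
    have : IsSimpleGroup G := MulEquiv.isSimpleGroup ι
    exact Lib.SmallGroups.RecogSmall.psl_eleven ((Nat.card_congr ι.toEquiv).trans hcard)
      (ZMod.card 11)
  · left
    obtain ⟨htr, hfree⟩ := Lib.Perm.DegreeEleven.sharply_four hcard h4
    refine ⟨⟨fun x y => ?_⟩, fun x => ?_⟩
    · obtain ⟨σ, hσ⟩ := htr (x.trans e.symm.toEmbedding) (y.trans e.symm.toEmbedding)
      refine ⟨ι.symm σ, Function.Embedding.ext fun s => e.symm.injective ?_⟩
      have h := hσ s
      rw [← ι.apply_symm_apply σ, hι] at h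
      simpa [Subgroup.smul_def] using h
    · rw [Subgroup.eq_bot_iff_forall]
      intro g hg
      have h := hfree (x.trans e.symm.toEmbedding) (ι g) fun s => by
        have hs : (g : Equiv.Perm α) (x s) = x s :=
          DFunLike.congr_fun (MulAction.mem_stabilizer_iff.mp hg) s
        simp [hι, hs]
      exact (map_eq_one_iff ι ι.injective).mp h

end Cfsg.Agent.S0679
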