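import Cfsg.Statements.S0680
import Cfsg.Agent.Lib.Perm.Sharply2

set_option autoImplicit false
open scoped Pointwise
open Cfsg MulAction Cfsg.Agent.Lib.Perm

namespace Cfsg.Agent.S0680

/-- A finite sharply doubly transitive permutation group has degree a prime power `p ^ j`; a Sylow `p`-subgroup is normal, elementary abelian and regular, and consists of the identity together with the elements without fixed points. (Frobenius' Theorem is not needed.) -/
theorem result {α : Type*} [Fintype α] [DecidableEq α] (G : Subgroup (Equiv.Perm α)) [MulAction.IsMultiplyPretransitive G α 2] (hsharp : ∀ x : Fin 2 ↪ α, MulAction.stabilizer G x = ⊥) (h2 : 2 ≤ Fintype.card α) : ∃ p j : ℕ, p.Prime ∧ 1 ≤ j ∧ Fintype.card α = p ^ j ∧ ∀ (hp : Fact p.Prime) (P : Sylow p G), (P : Subgroup G).Normal ∧ IsMulCommutative (P : Subgroup G) ∧ (∀ x ∈ (P : Subgroup G), x ^ p = 1) ∧ MulAction.IsPretransitive (P : Subgroup G) α ∧ (∀ a : α, MulAction.stabilizer (P : Subgroup G) a = ⊥) ∧ ∀ g : G, g ∈ (P : Subgroup G)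 ↔ g = 1 ∨ ∀ a : α, g • a ≠ a := by
  obtain ⟨p, j, N, hp, hj, hn, hNc, hNn, hNa, hNe, hNt, hNr, hNm⟩ :=
    Sharply2.exists_kernel (G := G) hsharp h2
  refine ⟨p, j, hp, hj, hn, fun hpf P => ?_⟩
  have hPN : (P : Subgroup G) = N := by
    have hpN : IsPGroup p N := IsPGroup.of_card hNc
    obtain ⟨Q, hQ⟩ := hpN.exists_le_sylow
    obtain ⟨g, hg⟩ := exists_smul_eq G Q P
    have hle : N ≤ (P : Subgroup G) := by
      intro x hx
      rw [← hg, Sylow.coe_subgroup_smul, Subgroup.mem_pointwise_smul_iff_inv_smul_mem]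
      apply hQ
      have := hNn.conj_mem x hx g⁻¹
      simpa [MulAut.smul_def, MulAut.conj_inv_apply] using this
    refine (Subgroup.eq_of_le_of_card_ge hle ?_).symm
    rw [P.card_eq_multiplicity, hNc]
    refine Nat.pow_le_pow_right hp.pos ?_
    have hG := Sharply2.card_group (G := G) hsharp h2
    rw [hG, hn, Nat.factorization_mul (pow_ne_zero _ hp.ne_zero) (by omega), Finsupp.add_apply,
      hp.factorization_pow, Finsupp.single_eq_same,
      Nat.factorization_eq_zero_of_not_dvd, add_zero]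
    intro hd
    have h1 : p ∣ p ^ j - (p ^ j - 1) := Nat.dvd_sub (dvd_pow_self p (by omega)) hd
    rw [show p ^ j - (p ^ j - 1) = 1 by have := Nat.one_le_pow j p hp.pos; omega] at h1
    exact hp.one_lt.ne' (Nat.dvd_one.mp h1)
  rw [hPN]
  exact ⟨hNn, hNa, hNe, hNt, hNr, hNm⟩

end Cfsg.Agent.S0680
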