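import Cfsg.Statements.S0681
import Cfsg.Agent.Lib.Perm.NearField

set_option autoImplicit false
open Cfsg Cfsg.Agent.Lib.Perm.NearField

namespace Cfsg.Agent.S0681

/-- The affine maps `x ↦ x * a + b`, `a ≠ 0`, of a near-field form a sharply doubly transitive permutation group. -/
theorem result {F : Type*} [Cfsg.NearField F] : ∃ H : Subgroup (Equiv.Perm F), (∀ σ : Equiv.Perm F, σ ∈ H ↔ ∃ a b : F, a ≠ 0 ∧ ∀ x : F, σ x = x * a + b) ∧ MulAction.IsMultiplyPretransitive H F 2 ∧ ∀ x : Fin 2 ↪ F, MulAction.stabilizer H x = ⊥ := by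
  let aff : F → F → F → F := fun a b x => x * a + b
  let H : Subgroup (Equiv.Perm F) :=
    { carrier := {σ | ∃ a b : F, a ≠ 0 ∧ ∀ x : F, σ x = x * a + b}
      one_mem' := ⟨1, 0, fun h => NearField.zero_ne_one h.symm, fun x => by simp⟩
      mul_mem' := by
        rintro σ τ ⟨a, b, ha, hσ⟩ ⟨c, d, hc, hτ⟩
        refine ⟨c * a, d * a + b, nf_mul_ne_zero hc ha, fun x => ?_⟩
        rw [Equiv.Perm.mul_apply, hτ, hσ, NearField.right_distrib, mul_assoc, add_assoc]
      inv_mem' := by
        rintro σ ⟨a, b, ha, hσ⟩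
        obtain ⟨c, hac, hca⟩ := NearField.exists_inv a ha
        refine ⟨c, -b * c, nf_ne_zero_of_mul hac, fun x => ?_⟩
        apply σ.injective
        rw [Equiv.Perm.inv_def, Equiv.apply_symm_apply, hσ, ← NearField.right_distrib,
          mul_assoc, hca, mul_one, neg_add_cancel_right] }
  refine ⟨H, fun σ => Iff.rfl, ?_, ?_⟩
  · rw [MulAction.is_two_pretransitive_iff]
    intro u v s t huv hst
    have huv' : u - v ≠ 0 := sub_ne_zero.mpr huv
    obtain ⟨w, hw1, hw2⟩ := NearField.exists_inv (u - v) huv'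
    have hst' : s - t ≠ 0 := sub_ne_zero.mpr hst
    have hwne : w ≠ 0 := nf_ne_zero_of_mul hw1
    set a := w * (s - t) with hadef
    have ha : a ≠ 0 := nf_mul_ne_zero hwne hst'
    obtain ⟨a', ha1, ha2⟩ := NearField.exists_inv a ha
    let σ : Equiv.Perm F :=
      { toFun := fun x => x * a + (-(v * a) + t)
        invFun := fun x => (x + -(-(v * a) + t)) * a'
        left_inv := fun x => by
          simp only [add_neg_cancel_right, mul_assoc, ha1, mul_one]
        right_inv := fun x => by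
          simp only [mul_assoc, ha2, mul_one, neg_add_cancel_right] }
    refine ⟨⟨σ, a, _, ha, fun x => rfl⟩, ?_, ?_⟩
    · change u * a + (-(v * a) + t) = s
      rw [← add_assoc, ← sub_eq_add_neg, ← nf_sub_mul, hadef, ← mul_assoc, hw1, one_mul,
        sub_add_cancel]
    · change v * a + (-(v * a) + t) = t
      rw [add_neg_cancel_left]
  · intro x
    rw [Subgroup.eq_bot_iff_forall]
    rintro ⟨σ, a, b, ha, hσ⟩ hfix
    rw [MulAction.mem_stabilizer_iff] at hfix
    have h0 : σ (x 0) = x 0 := DFunLike.congr_fun hfix 0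
    have h1 : σ (x 1) = x 1 := DFunLike.congr_fun hfix 1
    rw [hσ] at h0 h1
    have hne : x 0 - x 1 ≠ 0 := sub_ne_zero.mpr (x.injective.ne (by decide))
    have h : (x 0 - x 1) * a = x 0 - x 1 := by
      rw [nf_sub_mul]
      conv_rhs => rw [← h0, ← h1]
      exact (add_sub_add_right_eq_sub' _ _ _).symm
    obtain ⟨w, hw1, hw2⟩ := NearField.exists_inv _ hne
    have ha1 : a = 1 := by rw [← one_mul a, ← hw2, mul_assoc, h]
    rw [ha1, mul_one] at h0
    have hb : b = 0 := add_eq_left.mp h0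
    apply Subtype.ext
    ext y
    simp [hσ, ha1, hb]

end Cfsg.Agent.S0681
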