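import Cfsg.Statements.S0683
import Cfsg.Agent.Lib.Perm.Sharply2
import Mathlib.Algebra.Group.TransferInstance
import Mathlib.Tactic.Group

set_option autoImplicit false
open Cfsg MulAction Cfsg.Agent.Lib.Perm

namespace Cfsg.Agent.S0683

/-- A finite sharply doubly transitive permutation group is the affine group of a near-field: the permuted set carries a near-field structure for which the group consists exactly of the maps `x ↦ x * a + b` with `a ≠ 0`. -/
theorem result {α : Type*} [Fintype α] [DecidableEq α] (H : Subgroup (Equiv.Perm α)) [MulAction.IsMultiplyPretransitive H α 2] (hsharp : ∀ x : Fin 2 ↪ α, MulAction.stabilizer H x = ⊥) (h2 : 2 ≤ Fintype.card α) : ∃ _ : Cfsg.NearField α, ∀ σ : Equiv.Perm α, σ ∈ H ↔ ∃ a b : α, a ≠ 0 ∧ ∀ x : α, σ x = x * a + b := by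
  classical
  obtain ⟨p, j, N, hp, hj, hn, hNc, hNn, hNa, hNe, hNt, hNr, hNm⟩ :=
    Sharply2.exists_kernel (G := H) hsharp h2
  have : IsPretransitive H α := isPretransitive_of_is_two_pretransitive
  obtain ⟨a, b, hab⟩ := Fintype.exists_pair_of_one_lt_card (α := α) (by omega)
  let e : N ≃ α := Basic.regularEquiv a (hNr a)
  have he : ∀ n : N, e n = n • a := fun n => rfl
  -- the multipliers
  have hex : ∀ x : α, ∃ h : H, h • a = a ∧ (x ≠ a → h • b = x) := by
    intro x
    by_cases hx : x = a
    · exact ⟨1, one_smul _ _, fun h => absurd hx h⟩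
    · obtain ⟨h, h1, h2'⟩ := is_two_pretransitive_iff.mp (inferInstance :
        IsMultiplyPretransitive H α 2) hab (Ne.symm hx)
      exact ⟨h, h1, fun _ => h2'⟩
  choose s hsa hsb using hex
  have huniq : ∀ (h : H) (x : α), h • a = a → h • b = x → x ≠ a → h = s x := by
    intro h x h1 h2' hx
    refine (inv_mul_eq_one.mp (Sharply2.eq_one_of_fix_two hsharp hab ?_ ?_)).symm
    · rw [mul_smul, h1, inv_smul_eq_iff, hsa]
    · rw [mul_smul, h2', inv_smul_eq_iff, hsb x hx]
  have hne : ∀ (h : H) (x : α), h • a = a → x ≠ a → h • x ≠ a := fun h x h1 hx h2' =>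
    hx (smul_left_cancel h (h2'.trans h1.symm))
  let agN : AddGroup (Additive N) := inferInstance
  let ag : AddGroup α := (e.symm.trans Additive.ofMul).addGroup
  have hadd : ∀ x y : α, x + y = (e.symm x * e.symm y) • a := fun x y => rfl
  have hzero : (0 : α) = a := one_smul N a
  have hconj : ∀ (h : H), h • a = a → ∀ n : N,
      h • (n • a) = (⟨h * n * h⁻¹, hNn.conj_mem n n.2 h⟩ : N) • a := fun h h1 n =>
    Basic.smul_smul_of_mem_stabilizer N h1 n
  have haut : ∀ (h : H), h • a = a → ∀ x y : α, h • (x + y) = h • x + h • y := by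
    intro h h1 x y
    obtain ⟨n, rfl⟩ := e.surjective x
    obtain ⟨m, rfl⟩ := e.surjective y
    simp only [hadd, Equiv.symm_apply_apply]
    rw [he n, he m, hconj h h1, hconj h h1, hconj h h1, ← he, ← he, ← he,
      Equiv.symm_apply_apply]
    rw [← he, Equiv.symm_apply_apply]
    congr 1
    apply Subtype.ext
    simp only [Subgroup.coe_mul]
    group
  let mul' : α → α → α := fun x y => if y = a then a else s y • x
  have hsb1 : s b = 1 := (huniq 1 b (one_smul _ _) (one_smul _ _) hab.symm).symm
  have hmulne : ∀ x y, y ≠ a → mul' x y = s y • x := fun x y hy => if_neg hy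
  let nf : Cfsg.NearField α :=
    { ag with
      mul := mul'
      one := b
      mul_assoc := fun x y z => by
        change mul' (mul' x y) z = mul' x (mul' y z)
        by_cases hz : z = a
        · simp [mul', hz]
        by_cases hy : y = a
        · subst hy
          simp [mul', hz, hsa]
        have h1 : mul' y z ≠ a := by
          rw [hmulne _ _ hz]; exact hne _ _ (hsa z) hy
        rw [hmulne _ _ hz, hmulne _ _ hy, hmulne _ _ h1, ← huniq (s z * s y) (mul' y z)
          (by rw [mul_smul, hsa, hsa]) (by rw [mul_smul, hsb y hy, hmulne _ _ hz]) h1, mul_smul]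
      one_mul := fun y => by
        change mul' b y = y
        by_cases hy : y = a
        · simp [mul', hy]
        · rw [hmulne _ _ hy, hsb y hy]
      mul_one := fun x => by
        change mul' x b = x
        rw [hmulne _ _ hab.symm, hsb1, one_smul]
      right_distrib := fun x y z => by
        change mul' (x + y) z = mul' x z + mul' y z
        by_cases hz : z = a
        · simp only [mul', hz, if_true]
          rw [← hzero, add_zero]
        · rw [hmulne _ _ hz, hmulne _ _ hz, hmulne _ _ hz, haut _ (hsa z)]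
      mul_zero := fun x => by
        change mul' x (0 : α) = (0 : α)
        rw [hzero]
        simp [mul']
      zero_ne_one := by
        change (0 : α) ≠ b
        rw [hzero]
        exact hab
      exists_inv := fun x hx => by
        have hx : x ≠ a := fun h => hx (h.trans hzero.symm)
        have h1 : ((s x)⁻¹ : H) • a = a := by rw [inv_smul_eq_iff, hsa]
        have h2' : ((s x)⁻¹ : H) • b ≠ a := hne _ _ h1 hab.symm
        refine ⟨(s x)⁻¹ • b, ?_, ?_⟩
        · change mul' x ((s x)⁻¹ • b) = b
          rw [hmulne _ _ h2', ← huniq _ _ h1 rfl h2', inv_smul_eq_iff, hsb x hx]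
        · change mul' ((s x)⁻¹ • b) x = b
          rw [hmulne _ _ hx, smul_inv_smul] }
  refine ⟨nf, fun σ => ⟨fun hσ => ?_, ?_⟩⟩
  · obtain ⟨n, hn', h, hh, hnh⟩ := Basic.exists_eq_mul_stabilizer (G := H) N a ⟨σ, hσ⟩
    have hha : h • a = a := hh
    have hc : h • b ≠ a := hne _ _ hha hab.symm
    refine ⟨h • b, e ⟨n, hn'⟩, fun h0 => hc (h0.trans hzero), fun x => ?_⟩
    have e1 : σ x = (⟨σ, hσ⟩ : H) • x := rfl
    rw [e1, hnh, mul_smul]
    change n • h • x = mul' x (h • b) + e ⟨n, hn'⟩
    rw [hmulne _ _ hc, ← huniq _ _ hha rfl hc]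
    obtain ⟨m, hm⟩ := e.surjective (h • x)
    rw [← hm, hadd, Equiv.symm_apply_apply, Equiv.symm_apply_apply, he]
    have hcomm := hNa.is_comm.comm m ⟨n, hn'⟩
    rw [hcomm, mul_smul]
    rfl
  · rintro ⟨c, d, hc, hσ⟩
    have hc : c ≠ a := fun h => hc (h.trans hzero.symm)
    suffices σ = (((e.symm d : N) : H) * s c : H) by rw [this]; exact SetLike.coe_mem _
    refine Equiv.ext fun x => ?_
    rw [hσ]
    change mul' x c + d = ((e.symm d : N) : H) • s c • x
    rw [hmulne _ _ hc, hadd, hNa.is_comm.comm, mul_smul, ← he, Equiv.apply_symm_apply]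
    rfl

end Cfsg.Agent.S0683
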