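import Cfsg.Statements.S0686
import Cfsg.Agent.Lib.FpfLinear.RegularAbelian

set_option autoImplicit false
open Cfsg

namespace Cfsg.Agent.S0686

theorem quaternion_class_two {k : ℕ} (hk : 1 ≤ k)
    (h : ∀ a b c : QuaternionGroup (2 ^ k), Commute (a * b * a⁻¹ * b⁻¹) c) : k = 1 := by
  have h1 := (h (.a 1) (.xa 0) (.xa 0)).eq
  have hinv : ((QuaternionGroup.a 1 : QuaternionGroup (2 ^ k)))⁻¹ = .a (-1) := by
    refine inv_eq_of_mul_eq_one_right ?_
    rw [QuaternionGroup.a_mul_a, add_neg_cancel, QuaternionGroup.a_zero]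
  rw [QuaternionGroup.a_mul_xa, hinv, QuaternionGroup.xa_mul_a] at h1
  have hinv' : ((QuaternionGroup.xa 0 : QuaternionGroup (2 ^ k)))⁻¹ =
      .xa ((2 ^ k : ℕ) : ZMod (2 * 2 ^ k)) := by
    refine inv_eq_of_mul_eq_one_right ?_
    rw [QuaternionGroup.xa_mul_xa, sub_zero, ← QuaternionGroup.a_zero]
    congr 1
    have h2k := ZMod.natCast_self (2 * 2 ^ k)
    rw [Nat.cast_mul, Nat.cast_ofNat] at h2k
    rw [← two_mul, h2k]
  rw [hinv', QuaternionGroup.xa_mul_xa, QuaternionGroup.a_mul_xa, QuaternionGroup.xa_mul_a] at h1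
  have h2 := QuaternionGroup.xa.inj h1
  have h4 : ((4 : ℕ) : ZMod (2 * 2 ^ k)) = 0 := by
    push_cast at h2 ⊢
    have h2k : (2 : ZMod (2 * 2 ^ k)) * (2 ^ k : ZMod (2 * 2 ^ k)) = 0 := by
      have := ZMod.natCast_self (2 * 2 ^ k)
      push_cast at this
      exact this
    first
      | linear_combination h2
      | linear_combination -h2
      | linear_combination h2 + h2k
      | linear_combination -h2 + h2k
      | linear_combination h2 + 2 * h2k
      | linear_combination -h2 + 2 * h2k
      | linear_combination h2 + 4 * h2k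
      | linear_combination h2 - 4 * h2k
      | linear_combination h2 - 2 * h2k
      | linear_combination -h2 - 2 * h2k
  rw [ZMod.natCast_eq_zero_iff, ← pow_succ'] at h4
  have : 2 ^ (k + 1) ≤ 2 ^ 2 := Nat.le_of_dvd (by norm_num) h4
  have := (Nat.pow_le_pow_iff_right (by norm_num : 1 < 2)).mp this
  omega

open scoped commutatorElement

/-- In a linear group over the prime field that is regular on non-zero vectors and has no irreducible cyclic normal subgroup, let `A` be a maximal normal abelian subgroup and `N` a normal subgroup centralising `A` that is minimal among non-abelian normal subgroups centralising `A`. Then `N` is quaternion of order 8 or isomorphic to `SL(2,5)`. -/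
theorem result {p : ℕ} [Fact p.Prime] {V : Type*} [AddCommGroup V] [Module (ZMod p) V] [Finite V] (H : Subgroup (V ≃ₗ[ZMod p] V)) (hreg : ∀ v w : V, v ≠ 0 → w ≠ 0 → ∃! h : H, (h : V ≃ₗ[ZMod p] V) v = w) (hI : ∀ A : Subgroup H, A.Normal → IsCyclic A → ∃ W : Submodule (ZMod p) V, W ≠ ⊥ ∧ W ≠ ⊤ ∧ ∀ a ∈ A, ∀ v ∈ W, ((a : H) : V ≃ₗ[ZMod p] V) v ∈ W) (A : Subgroup H) (hAn : A.Normal) (hAc : IsMulCommutative A) (hAmax : ∀ B : Subgroup H, B.Normal → IsMulCommutative B → A ≤ B → B = A) (N : Subgroup H) (hNn : N.Normal) (hNle : N ≤ Subgroup.centralizer (A : Set H)) (hNna : ¬ IsMulCommutative N) (hNmin : ∀ M : Subgroup H, M.Normal → M ≤ N → ¬ IsMulCommutative M → M = N) : Nonempty (N ≃* QuaternionGroup 2) ∨ Nonempty (N ≃* Matrix.SpecialLinearGroup (Fin 2) (ZMod 5)) := by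
  have : Nontrivial V := by
    obtain ⟨W, h1, -, -⟩ := hI ⊥ inferInstance inferInstance
    obtain ⟨w, -, hw0⟩ := Submodule.exists_mem_ne_zero_of_ne_bot h1
    exact ⟨⟨w, 0, hw0⟩⟩
  classical
  have := Cfsg.Agent.Lib.FpfLinear.RegularAbelian.finite_group H
  obtain ⟨n, hn, R, hR⟩ := Cfsg.Agent.Lib.FpfLinear.RegularAbelian.hasLinFPF H hreg
  have : Nonempty (Fin n) := ⟨⟨0, hn⟩⟩
  have hRN : Cfsg.Agent.Lib.FpfLinear.Basic.IsLinFPF (R.comp N.subtype) :=
    Cfsg.Agent.Lib.FpfLinear.Basic.comp hR N.subtype N.subtype_injective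
  have : Nontrivial N := by
    by_contra h
    rw [not_nontrivial_iff_subsingleton] at h
    exact hNna ⟨⟨fun a b => Subsingleton.elim _ _⟩⟩
  have hchar : ∀ K : Subgroup N, K.Characteristic →
      K = ⊤ ∨ IsMulCommutative (K.map N.subtype) := by
    intro K hK
    by_cases hc : IsMulCommutative (K.map N.subtype)
    · exact Or.inr hc
    · left
      have hn' : (K.map N.subtype).Normal := ConjAct.normal_of_characteristic_of_normal
      have e := hNmin _ hn' (Subgroup.map_subtype_le K) hc
      rw [eq_top_iff]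
      intro x _
      obtain ⟨y, hy, hxy⟩ := (e.symm ▸ x.2 : (x : H) ∈ K.map N.subtype)
      rwa [show x = y from Subtype.ext hxy.symm]
  rcases hchar (commutator N) inferInstance with h | h
  · exact Or.inr (Cfsg.Agent.Lib.FpfLinear.Perfect.perfect_iso hRN h)
  left
  -- the derived subgroup lies in `A`
  set D := (commutator N).map N.subtype
  have hDn : D.Normal := ConjAct.normal_of_characteristic_of_normal
  have hDA : D ≤ A := by
    have hcomm : ∀ a ∈ (A : Set H) ∪ D, ∀ b ∈ (A : Set H) ∪ D, a * b = b * a := by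
      have hAD : ∀ a ∈ A, ∀ d ∈ D, a * d = d * a := fun a ha d hd =>
        Subgroup.mem_centralizer_iff.mp (hNle (Subgroup.map_subtype_le _ hd)) a ha
      rintro a (ha | ha) b (hb | hb)
      · exact congrArg Subtype.val (hAc.is_comm.comm ⟨a, ha⟩ ⟨b, hb⟩)
      · exact hAD a ha b hb
      · exact (hAD b hb a ha).symm
      · exact congrArg Subtype.val (h.is_comm.comm ⟨a, ha⟩ ⟨b, hb⟩)
    have hB : IsMulCommutative (A ⊔ D : Subgroup H) := by
      rw [Subgroup.sup_eq_closure]
      exact Subgroup.isMulCommutative_closure hcomm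
    exact le_sup_right.trans (hAmax _ (Subgroup.sup_normal A D) hB le_sup_left).le
  have hcen : commutator N ≤ Subgroup.center N := by
    intro c hc
    rw [Subgroup.mem_center_iff]
    intro g
    exact Subtype.ext (Subgroup.mem_centralizer_iff.mp (hNle g.2) c (hDA ⟨c, hc, rfl⟩)).symm
  have hnil : Group.IsNilpotent N := by
    have : Group.IsNilpotent (Abelianization N) := inferInstance
    exact Subgroup.isNilpotent_of_ker_le_center (Abelianization.of (G := N))
      (by rwa [Abelianization.ker_of])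
  have hnormal : ∀ (q : ℕ) [Fact q.Prime] (P : Sylow q N), (P : Subgroup N).Normal := fun q _ P =>
    ((Group.isNilpotent_of_finite_tfae (G := N)).out 0 3 rfl rfl).mp hnil q inferInstance P
  obtain ⟨q, hq, P, hPna⟩ : ∃ q, ∃ _ : Fact q.Prime, ∃ P : Sylow q N,
      ¬ IsMulCommutative ((P : Subgroup N).map N.subtype) := by
    by_contra! hall
    apply hNna
    let e := Sylow.directProductOfNormal (G := N) (fun {q} _ P => hnormal q P)
    have hcomm : ∀ (q : ℕ) (_ : Fact q.Prime) (P : Sylow q N) (a b : (P : Subgroup N)),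
        a * b = b * a := fun q hq P a b => by
      have h := congrArg (fun x : (P : Subgroup N).map N.subtype => (x : H))
        ((hall q hq P).is_comm.comm ⟨((a : N) : H), Subgroup.mem_map_of_mem _ a.2⟩
          ⟨((b : N) : H), Subgroup.mem_map_of_mem _ b.2⟩)
      exact Subtype.ext (Subtype.ext h)
    refine ⟨⟨fun a b => ?_⟩⟩
    apply e.symm.injective
    rw [map_mul, map_mul]
    funext q P
    exact hcomm (q : ℕ) ⟨Nat.prime_of_mem_primeFactors q.2⟩ P _ _
  have hPc : (P : Subgroup N).Characteristic := P.characteristic_of_normal (hnormal q P)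
  have hPtop := (hchar _ hPc).resolve_right hPna
  have hNq : IsPGroup q N := by
    intro x
    obtain ⟨j, hj⟩ := P.2 ⟨x, by rw [hPtop]; exact Subgroup.mem_top x⟩
    exact ⟨j, congrArg Subtype.val hj⟩
  by_cases hq2 : q = 2
  swap
  · exfalso
    apply hNna
    have : IsCyclic N := Cfsg.Agent.Lib.FpfLinear.Perfect.sylow_odd_cyclic hR hq2 N hNq
    let _ : CommGroup N := IsCyclic.commGroup
    exact ⟨⟨fun a b => mul_comm a b⟩⟩
  subst hq2
  have hu : ∀ a b : N, orderOf a = 2 → orderOf b = 2 → b ∈ Subgroup.zpowers a := by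
    intro a b ha hb
    have hne : ∀ c : N, orderOf c = 2 → c ≠ 1 ∧ c ^ 2 = 1 := fun c hc =>
      ⟨fun h => by simp [h] at hc, hc ▸ pow_orderOf_eq_one c⟩
    rw [Cfsg.Agent.Lib.FpfLinear.Basic.involution_unique hRN (hne b hb).1 (hne b hb).2
      (hne a ha).1 (hne a ha).2]
    exact Subgroup.mem_zpowers a
  rcases Cfsg.Agent.Lib.PGroups.isCyclic_or_quaternion hNq hu with hc | ⟨-, k, hk, ⟨e⟩⟩
  · exfalso
    apply hNna
    let _ : CommGroup N := IsCyclic.commGroup
    exact ⟨⟨fun a b => mul_comm a b⟩⟩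
  have hk1 : k = 1 := quaternion_class_two hk (fun a b c => by
    have hmem : ⁅e.symm a, e.symm b⁆ ∈ commutator N := by
      rw [commutator_def]
      exact Subgroup.commutator_mem_commutator (Subgroup.mem_top _) (Subgroup.mem_top _)
    have h := congrArg e (Subgroup.mem_center_iff.mp (hcen hmem) (e.symm c))
    rw [map_mul, map_mul, map_commutatorElement, e.apply_symm_apply, e.apply_symm_apply,
      e.apply_symm_apply] at h
    exact h.symm)
  subst hk1
  exact ⟨e⟩

end Cfsg.Agent.S0686
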