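import Cfsg.Statements.S0687
import Cfsg.Agent.Lib.FpfLinear.RegularAbelian

set_option autoImplicit false
open Cfsg

namespace Cfsg.Agent.S0687

/-- In a linear group over the prime field that is regular on non-zero vectors and has no irreducible cyclic normal subgroup, a normal subgroup `N` minimal among the non-abelian normal subgroups centralising a maximal normal abelian subgroup `A` is irreducible on `V`, and its centraliser is `A`. -/
theorem result {p : ℕ} [Fact p.Prime] {V : Type*} [AddCommGroup V] [Module (ZMod p) V] [Finite V] (H : Subgroup (V ≃ₗ[ZMod p] V)) (hreg : ∀ v w : V, v ≠ 0 → w ≠ 0 → ∃! h : H, (h : V ≃ₗ[ZMod p] V) v = w) (hI : ∀ A : Subgroup H, A.Normal → IsCyclic A → ∃ W : Submodule (ZMod p) V, W ≠ ⊥ ∧ W ≠ ⊤ ∧ ∀ a ∈ A, ∀ v ∈ W, ((a : H) : V ≃ₗ[ZMod p] V) v ∈ W) (A : Subgroup H) (hAn : A.Normal) (hAc : IsMulCommutative A) (hAmax : ∀ B : Subgroup H, B.Normal → IsMulCommutative B → A ≤ B → B = A) (N : Subgroup H) (hNn : N.Normal) (hNle : N ≤ Subgroup.centralizer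 (A : Set H)) (hNna : ¬ IsMulCommutative N) (hNmin : ∀ M : Subgroup H, M.Normal → M ≤ N → ¬ IsMulCommutative M → M = N) : (∀ W : Submodule (ZMod p) V, (∀ n ∈ N, ∀ v ∈ W, ((n : H) : V ≃ₗ[ZMod p] V) v ∈ W) → W = ⊥ ∨ W = ⊤) ∧ Subgroup.centralizer (N : Set H) = A := by
  have : Nontrivial V := by
    obtain ⟨W, h1, -, -⟩ := hI ⊥ inferInstance inferInstance
    obtain ⟨w, -, hw0⟩ := Submodule.exists_mem_ne_zero_of_ne_bot h1
    exact ⟨⟨w, 0, hw0⟩⟩
  have hirr := Cfsg.Agent.Lib.FpfLinear.RegularAbelian.irreducible H hreg N hNn hNna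
  refine ⟨fun W hW => hirr W hW, ?_⟩
  have hle : A ≤ Subgroup.centralizer (N : Set H) := Subgroup.le_centralizer_iff.mp hNle
  refine hAmax _ inferInstance ⟨⟨fun c d => Subtype.ext ?_⟩⟩ hle
  classical
  let E : Subring (Module.End (ZMod p) V) := Subring.centralizer
    ((fun n : H => Cfsg.Agent.Lib.FpfLinear.RegularAbelian.rep H n) '' (N : Set H))
  have : Finite (Module.End (ZMod p) V) :=
    Finite.of_injective (fun f => (f : V → V)) DFunLike.coe_injective
  have : Nontrivial (Module.End (ZMod p) V) := by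
    obtain ⟨v, hv⟩ := exists_ne (0 : V)
    exact ⟨⟨1, 0, fun h => hv (by simpa using LinearMap.congr_fun h v)⟩⟩
  have hker : ∀ φ : E, φ ≠ 0 → ∀ v, (φ : Module.End (ZMod p) V) v = 0 → v = 0 := by
    intro φ hφ v hv
    rcases hirr (LinearMap.ker (φ : Module.End (ZMod p) V)) (fun n hn u hu => by
      rw [LinearMap.mem_ker] at hu ⊢
      have h := LinearMap.congr_fun (Subring.mem_centralizer_iff.mp φ.2 _ ⟨n, hn, rfl⟩) u
      rw [Module.End.mul_apply, Module.End.mul_apply, hu, map_zero] at h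
      exact h.symm) with h | h
    · exact (Submodule.mem_bot _).mp (h ▸ LinearMap.mem_ker.mpr hv)
    · exact absurd (Subtype.ext (LinearMap.ker_eq_top.mp h)) hφ
  have : NoZeroDivisors E := ⟨fun {φ ψ} h => by
    by_contra! hne
    exact hne.2 (Subtype.ext (LinearMap.ext fun v => hker φ hne.1 _
      (LinearMap.congr_fun (congrArg Subtype.val h) v)))⟩
  have : IsDomain E := NoZeroDivisors.to_isDomain E
  have hmem : ∀ c : Subgroup.centralizer (N : Set H),
      Cfsg.Agent.Lib.FpfLinear.RegularAbelian.rep H (c : H) ∈ E := by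
    intro c
    rw [Subring.mem_centralizer_iff]
    rintro _ ⟨n, hn, rfl⟩
    show _ * _ = _ * _
    rw [← map_mul, ← map_mul, Subgroup.mem_centralizer_iff.mp c.2 n hn]
  have h := congrArg Subtype.val
    ((Finite.isDomain_to_isField E).mul_comm ⟨_, hmem c⟩ ⟨_, hmem d⟩)
  rw [Subring.coe_mul, Subring.coe_mul, ← map_mul, ← map_mul] at h
  exact Cfsg.Agent.Lib.Spectrum.Huppert.endo_injective H.subtype H.subtype_injective h

end Cfsg.Agent.S0687
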