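import Cfsg.Statements.S0688
import Cfsg.Agent.S3361
import Mathlib.FieldTheory.Fixed

set_option autoImplicit false
open Cfsg

namespace Cfsg.Agent.S0688

theorem arith {q s k : ℕ} (hk : 2 ^ k ≤ q) (hs2 : 2 ≤ s) (hsq : s * s ≤ q)
    (h : q - 1 ≤ (s - 1) * k) : False := by
  obtain ⟨t, rfl⟩ : ∃ t, s = t + 2 := ⟨s - 2, by omega⟩
  have h1 : (t + 1) * (t + 3) ≤ (t + 1) * k := by
    calc (t + 1) * (t + 3) = (t + 2) * (t + 2) - 1 := by
          rw [eq_comm, Nat.sub_eq_iff_eq_add (by nlinarith)]; ring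
      _ ≤ q - 1 := Nat.sub_le_sub_right hsq 1
      _ ≤ _ := h
  have h2 : t + 3 ≤ k := Nat.le_of_mul_le_mul_left h1 (by omega)
  have h3 : (t + 1) * k + 2 * k ≤ k * k := by nlinarith
  have h4 : k * k + 2 ≤ 2 ^ k + 2 * k := by
    have : ∀ j, (j + 2) * (j + 2) + 2 ≤ 2 ^ (j + 2) + 2 * (j + 2) := by
      intro j
      induction j with
      | zero => norm_num
      | succ j ih =>
        have := Nat.lt_two_pow_self (n := j + 1)
        rw [pow_succ]
        ring_nf at ih this ⊢
        omega
    obtain ⟨j, rfl⟩ : ∃ j, k = j + 2 := ⟨k - 2, by omega⟩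
    exact this j
  have : (t + 2 - 1) * k = (t + 1) * k := by rw [show t + 2 - 1 = t + 1 by omega]
  omega

/-- Degrees of the soluble exceptional sharply doubly transitive groups: if a solvable linear group over the prime field is regular on the non-zero vectors of `V` and has no irreducible cyclic normal subgroup, then `V` has 25, 49, 121 or 529 elements. -/
theorem result {p : ℕ} [Fact p.Prime] {V : Type*} [AddCommGroup V] [Module (ZMod p) V] [Finite V] (H : Subgroup (V ≃ₗ[ZMod p] V)) (hreg : ∀ v w : V, v ≠ 0 → w ≠ 0 → ∃! h : H, (h : V ≃ₗ[ZMod p] V) v = w) (hI : ∀ A : Subgroup H, A.Normal → IsCyclic A → ∃ W : Submodule (ZMod p) V, W ≠ ⊥ ∧ W ≠ ⊤ ∧ ∀ a ∈ A, ∀ v ∈ W, ((a : H) : V ≃ₗ[ZMod p] V) v ∈ W) (hsolv : Group.IsSolvable H) : Nat.card V = 25 ∨ Nat.card V = 49 ∨ Nat.card V = 121 ∨ Nat.card V = 529 := by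
  classical
  have hVnt : Nontrivial V := by
    obtain ⟨W, h1, h2, -⟩ := hI ⊥ inferInstance inferInstance
    obtain ⟨w, hw, hw0⟩ := Submodule.exists_mem_ne_zero_of_ne_bot h1
    exact ⟨⟨w, 0, hw0⟩⟩
  have : Finite H := Finite.of_injective (fun h : H => ((h : V ≃ₗ[ZMod p] V) : V → V))
    fun a b e => Subtype.ext (LinearEquiv.ext (congrFun e))
  have htrans : ∀ v w : V, v ≠ 0 → w ≠ 0 → ∃ g : H, H.subtype g v = w := fun v w hv hw =>
    (hreg v w hv hw).exists
  have hfree : ∀ v : V, v ≠ 0 → ∀ g : H, H.subtype g v = v → g = 1 := fun v hv g hg =>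
    (hreg v v hv hv).unique hg rfl
  obtain ⟨hcase, -⟩ := Cfsg.Agent.S3361.result p hsolv H.subtype H.subtype_injective htrans hfree
  rcases hcase with ⟨F, _, _, e, hsl⟩ | h
  swap
  · simpa using h
  exfalso
  choose a σ hσ using hsl
  have ha : ∀ g, a g ≠ 0 := by
    intro g h0
    obtain ⟨v, hv⟩ := exists_ne (0 : V)
    have := hσ g v
    rw [h0, zero_mul] at this
    exact hv ((H.subtype g).map_eq_zero_iff.mp (e.map_eq_zero_iff.mp this))
  have huniq : ∀ g (b : F) (τ : F ≃+* F), (∀ v, e (H.subtype g v) = b * τ (e v)) → σ g = τ := by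
    intro g b τ h
    have hb : b = a g := by
      obtain ⟨v, hv⟩ := e.surjective 1
      have := (h v).symm.trans (hσ g v)
      simpa [hv] using this
    refine RingEquiv.ext fun x => ?_
    obtain ⟨v, rfl⟩ := e.surjective x
    have := (h v).symm.trans (hσ g v)
    rw [hb] at this
    exact (mul_left_cancel₀ (ha g) this).symm
  let χ : H →* (F ≃+* F) :=
  { toFun := σ
    map_one' := huniq 1 1 1 (fun v => by
      rw [map_one]
      show e v = 1 * e v
      rw [one_mul])
    map_mul' := fun g h => huniq (g * h) (a g * σ g (a h)) (σ g * σ h) (fun v => by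
      rw [map_mul]
      show e (H.subtype g (H.subtype h v)) = _
      rw [hσ, hσ, map_mul, mul_assoc]
      rfl) }
  have hscal : ∀ g ∈ χ.ker, ∀ v, e (H.subtype g v) = a g * e v := by
    intro g hg v
    rw [hσ g v, show σ g = 1 from hg]
    rfl
  -- the kernel is cyclic
  let ι : χ.ker →* Fˣ :=
  { toFun := fun g => Units.mk0 (a g) (ha g)
    map_one' := by
      obtain ⟨v, hv⟩ := e.surjective 1
      ext
      show a ((1 : χ.ker) : H) = 1
      have := hscal _ (1 : χ.ker).2 v
      rw [OneMemClass.coe_one, map_one] at this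
      simpa [hv] using this.symm
    map_mul' := fun g k => by
      obtain ⟨v, hv⟩ := e.surjective 1
      ext
      show a ((g * k : χ.ker) : H) = a g * a k
      have h1 := hscal _ (g * k).2 v
      have h2 : e (H.subtype (g * k : χ.ker) v) = a g * (a k * e v) := by
        rw [Subgroup.coe_mul, map_mul, ← hscal _ k.2 v]
        exact hscal _ g.2 _
      rw [h2, hv, mul_one, mul_one] at h1
      exact h1.symm }
  have hι : Function.Injective ι := by
    rw [injective_iff_map_eq_one]
    intro g hg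
    have hg' : a g = 1 := congrArg Units.val hg
    refine Subtype.ext (Subtype.ext (LinearEquiv.ext fun v => e.injective ?_))
    have := hscal _ g.2 v
    rw [hg', one_mul] at this
    exact this
  have : IsCyclic χ.ker := isCyclic_of_subgroup_isDomain ((Units.coeHom F).comp ι)
    (Units.val_injective.comp hι)
  obtain ⟨W, hW0, hW1, hWA⟩ := hI χ.ker inferInstance this
  -- the subfield preserving `W`
  let S : Subring F :=
  { carrier := {c | ∀ w ∈ W, ∃ u ∈ W, e u = c * e w}
    one_mem' := fun w hw => ⟨w, hw, (one_mul _).symm⟩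
    zero_mem' := fun w hw => ⟨0, W.zero_mem, by rw [map_zero, zero_mul]⟩
    add_mem' := fun {c d} hc hd w hw => by
      obtain ⟨u, hu, q1⟩ := hc w hw
      obtain ⟨u', hu', q2⟩ := hd w hw
      exact ⟨u + u', W.add_mem hu hu', by rw [map_add, q1, q2, add_mul]⟩
    neg_mem' := fun {c} hc w hw => by
      obtain ⟨u, hu, q1⟩ := hc w hw
      exact ⟨-u, W.neg_mem hu, by rw [map_neg, q1, neg_mul]⟩
    mul_mem' := fun {c d} hc hd w hw => by
      obtain ⟨u, hu, q1⟩ := hd w hw
      obtain ⟨u', hu', q2⟩ := hc u hu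
      exact ⟨u', hu', by rw [q2, q1, mul_assoc]⟩ }
  obtain ⟨w₀, hw₀, hw₀0⟩ := Submodule.exists_mem_ne_zero_of_ne_bot hW0
  obtain ⟨x, hx⟩ : ∃ x : F, x ∉ S := by
    by_contra! h
    refine hW1 (eq_top_iff.mpr fun v _ => ?_)
    obtain ⟨u, hu, q1⟩ := h (e v / e w₀) w₀ hw₀
    rw [div_mul_cancel₀ _ (fun h0 => hw₀0 (e.map_eq_zero_iff.mp h0))] at q1
    exact e.injective q1 ▸ hu
  have hinv : ∀ t : S, t ≠ 0 → ∃ c : S, t * c = 1 := fun t ht => by
    obtain ⟨c, hc⟩ := Finite.injective_iff_surjective.mp (mul_right_injective₀ ht) (1 : S)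
    exact ⟨c, hc⟩
  have hsq : Nat.card S * Nat.card S ≤ Nat.card F := by
    rw [← Nat.card_prod]
    refine Nat.card_le_card_of_injective (fun st : S × S => (st.1 : F) + st.2 * x) ?_
    rintro ⟨s, t⟩ ⟨s', t'⟩ h
    have h' : ((t - t' : S) : F) * x = ((s' - s : S) : F) := by
      push_cast
      linear_combination h
    by_cases ht : t = t'
    · subst ht
      rw [sub_self, ZeroMemClass.coe_zero, zero_mul, eq_comm, ZeroMemClass.coe_eq_zero,
        sub_eq_zero] at h'
      rw [h']
    · exfalso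
      obtain ⟨c, hc⟩ := hinv _ (sub_ne_zero.mpr ht)
      apply hx
      have : x = ((c * (s' - s) : S) : F) := by
        rw [Subring.coe_mul, ← h', ← mul_assoc, ← Subring.coe_mul, mul_comm c, hc, OneMemClass.coe_one, one_mul]
      exact this ▸ SetLike.coe_mem _
  have hAS : Nat.card χ.ker ≤ Nat.card S - 1 := by
    have : Nat.card χ.ker ≤ Nat.card {c : S // c ≠ 0} := by
      refine Nat.card_le_card_of_injective (fun g => ⟨⟨a g, fun w hw =>
        ⟨H.subtype g w, hWA g g.2 w hw, hscal _ g.2 w⟩⟩, fun h => ha g (congrArg Subtype.val h)⟩) ?_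
      intro g k h
      exact hι (Units.ext (congrArg (fun z : {c : S // c ≠ 0} => ((z.1 : S) : F)) h))
    have hS : Nat.card {c : S // c ≠ 0} = Nat.card S - 1 := by
      have := Fintype.ofFinite S
      rw [Nat.card_eq_fintype_card, Fintype.card_subtype_compl, Fintype.card_subtype_eq,
        Nat.card_eq_fintype_card]
    omega
  -- automorphisms
  have hchar : CharP F p := by
    refine CharP.charP_iff_prime_eq_zero Fact.out |>.mpr ?_
    obtain ⟨v, hv⟩ := e.surjective 1
    rw [← mul_one (p : F), ← hv, ← nsmul_eq_mul, ← map_nsmul, ← Nat.cast_smul_eq_nsmul (ZMod p),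
      ZMod.natCast_self, zero_smul, map_zero]
  let _ : Algebra (ZMod p) F := ZMod.algebra F p
  have hk : Nat.card F = p ^ Module.finrank (ZMod p) F := by
    rw [Module.natCard_eq_pow_finrank (K := ZMod p), Nat.card_zmod]
  have haut : Nat.card (F ≃+* F) ≤ Module.finrank (ZMod p) F := by
    refine (Nat.card_le_card_of_injective (fun τ : F ≃+* F => AlgEquiv.ofRingEquiv (f := τ)
      (fun c => RingHom.congr_fun (Subsingleton.elim ((τ : F →+* F).comp (algebraMap (ZMod p) F))
        (algebraMap (ZMod p) F)) c)) ?_).trans ?_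
    · intro τ τ' h
      exact RingEquiv.ext fun y => congrArg (fun f : F ≃ₐ[ZMod p] F => f y) h
    · rw [Nat.card_eq_fintype_card]
      exact AlgEquiv.card_le
  have : Finite (F ≃+* F) := Finite.of_injective _ DFunLike.coe_injective
  have hidx : χ.ker.index ≤ Module.finrank (ZMod p) F := by
    rw [Subgroup.index_ker]
    exact (Subgroup.card_le_card_group _).trans haut
  have hH : Nat.card F - 1 = Nat.card χ.ker * χ.ker.index := by
    rw [χ.ker.card_mul_index, ← Nat.card_congr e.toEquiv]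
    obtain ⟨v₀, hv₀⟩ := exists_ne (0 : V)
    have e' : H ≃ {w : V // w ≠ 0} := Equiv.ofBijective
      (fun h => ⟨H.subtype h v₀, fun h0 => hv₀ ((H.subtype h).map_eq_zero_iff.mp h0)⟩)
      ⟨fun g k h => (hreg v₀ _ hv₀ (fun h0 => hv₀ ((H.subtype k).map_eq_zero_iff.mp h0))).unique
          (congrArg Subtype.val h) rfl,
        fun w => (htrans v₀ w.1 hv₀ w.2).imp fun h he => Subtype.ext he⟩
    have := Fintype.ofFinite V
    rw [Nat.card_congr e', Nat.card_eq_fintype_card, Nat.card_eq_fintype_card (α := {w : V // w ≠ 0}),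
      Fintype.card_subtype_compl, Fintype.card_subtype_eq]
  refine arith (q := Nat.card F) (s := Nat.card S) (k := Module.finrank (ZMod p) F) ?_ ?_ hsq ?_
  · rw [hk]; exact Nat.pow_le_pow_left (Fact.out : p.Prime).two_le _
  · exact Finite.one_lt_card
  · calc Nat.card F - 1 = Nat.card χ.ker * χ.ker.index := hH
      _ ≤ _ := Nat.mul_le_mul hAS hidx

end Cfsg.Agent.S0688
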