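import Cfsg.Statements.S0692
import Cfsg.Agent.Lib.Perm.LinearCert
import Mathlib.Tactic.NormNum.Prime

set_option autoImplicit false
open Cfsg Cfsg.Agent.Lib.Perm

namespace Cfsg.Agent.S0692

/-- An exceptional sharply doubly transitive group of degree 11^2: the listed matrices generate a subgroup of GL(2,11) of order 120 acting regularly on the non-zero vectors. -/
theorem result (A : Matrix.GeneralLinearGroup (Fin 2) (ZMod 11)) (B : Matrix.GeneralLinearGroup (Fin 2) (ZMod 11)) (hA : (A : Matrix (Fin 2) (Fin 2) (ZMod 11)) = !![0, -1; 1, 0]) (hB : (B : Matrix (Fin 2) (Fin 2) (ZMod 11)) = !![2, 4; 1, -3]) : Nat.card (Subgroup.closure ({A, B} : Set (Matrix.GeneralLinearGroup (Fin 2) (ZMod 11)))) = 120 ∧ ∀ v w : Fin 2 → ZMod 11, v ≠ 0 → w ≠ 0 → ∃! h : Subgroup.closure ({A, B} : Set (Matrix.GeneralLinearGroup (Fin 2) (ZMod 11))), Matrix.mulVec ((h : Matrix.GeneralLinearGroup (Fin 2) (ZMod 11)) : Matrix (Fin 2) (Fin 2) (ZMod 11)) v = w := by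
  have : Fact (Nat.Prime 11) := ⟨by norm_num⟩
  have hA' : (A : Matrix (Fin 2) (Fin 2) (ZMod 11)) = LinearCert.toMat 11 (0, 10, 1, 0) := by rw [hA]; decide +kernel
  have hB' : (B : Matrix (Fin 2) (Fin 2) (ZMod 11)) = LinearCert.toMat 11 (2, 4, 1, 8) := by rw [hB]; decide +kernel
  refine LinearCert.regular_of_cert (q := 11) [(0, 10, 1, 0), (2, 4, 1, 8)]
    [(0,0), (1,0), (0,1), (1,1), (0,2), (1,2), (0,3), (1,3), (0,4), (1,4), (1,5), (0,6), (1,7), (0,8), (1,8), (1,9), (0,10), (0,11), (1,11), (1,12), (0,13), (1,13), (1,14), (0,15), (0,16), (1,16), (1,17), (1,18), (0,19), (0,20), (1,20), (1,21), (0,22), (0,23), (1,23), (1,24), (1,25), (0,26), (0,27), (1,27), (1,28), (1,29), (1,30), (0,32), (1,32), (1,33), (1,34), (0,35), (0,36), (1,36), (1,37), (1,38), (1,39), (0,41), (0,42), (1,42), (1,43), (1,44), (0,45), (0,46), (1,46), (1,47), (1,48), (1,49), (0,51), (0,52), (1,52), (1,53), (1,54), (1,55), (0,57), (1,58), (1,59), (1,60), (0,62), (0,63), (1,63), (1,64),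 (1,65), (1,66), (0,68), (0,69), (1,69), (1,70), (1,71), (0,72), (0,73), (1,73), (1,74), (1,75), (1,76), (0,78), (0,79), (1,79), (1,80), (1,81), (1,82), (0,84), (0,85), (1,86), (1,87), (0,90), (1,90), (1,91), (1,92), (0,95), (0,96), (1,97), (1,98), (1,99), (0,100), (1,100), (1,101), (0,105), (1,106), (1,107), (0,108), (0,109), (1,110)]
    1 1 ({A, B} : Set (Matrix.GeneralLinearGroup (Fin 2) (ZMod 11))) ?_ ?_ (Or.inl rfl) (by decide +kernel) (by decide +kernel) (by decide +kernel) (by decide +kernel) (by decide +kernel) (by decide +kernel)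
  · intro g hg
    simp only [List.mem_cons, List.not_mem_nil, or_false] at hg
    rcases hg with rfl | rfl
    · exact ⟨A, by simp, hA'⟩
    · exact ⟨B, by simp, hB'⟩
  · intro s hs
    simp only [Set.mem_insert_iff, Set.mem_singleton_iff] at hs
    rcases hs with rfl | rfl
    · exact Or.inl ⟨(0, 10, 1, 0), by simp, hA'⟩
    · exact Or.inl ⟨(2, 4, 1, 8), by simp, hB'⟩

end Cfsg.Agent.S0692
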