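import Cfsg.Statements.S0694
import Mathlib.NumberTheory.Multiplicity
import Mathlib.NumberTheory.Basic
import Mathlib.FieldTheory.Finite.Basic

/-!
# The Dickson pair condition

`q ^ i ≡ 1 (mod n (q - 1))` is compared prime by prime, by lifting the exponent.
-/

set_option autoImplicit false
open Cfsg

namespace Cfsg.Agent.S0694

/-- `s ∣ q - 1` gives `s ^ (k+1) ∣ q ^ s ^ k - 1`. -/
theorem pow_dvd_pow_pow_sub_one {s q : ℕ} (hq : 1 ≤ q) (h : s ∣ q - 1) (k : ℕ) :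
    s ^ (k + 1) ∣ q ^ s ^ k - 1 := by
  have h' : ((s : ℕ) : ℤ) ∣ (q : ℤ) - 1 := by
    have := Int.natCast_dvd_natCast.mpr h
    rwa [Nat.cast_sub hq, Nat.cast_one] at this
  have h2 := dvd_sub_pow_of_dvd_sub h' k
  rw [one_pow] at h2
  rw [← Int.natCast_dvd_natCast, Nat.cast_sub (Nat.one_le_pow _ _ hq)]
  push_cast
  exact h2

theorem dvd_pow_gcd {d q A B : ℕ} (hA : d ∣ q ^ A - 1) (hB : d ∣ q ^ B - 1) :
    d ∣ q ^ Nat.gcd A B - 1 := by
  have := Nat.dvd_gcd hA hB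
  rwa [Nat.pow_sub_one_gcd_pow_sub_one] at this

theorem pow_sub_one_dvd_of_dvd {q a b : ℕ} (h : a ∣ b) : q ^ a - 1 ∣ q ^ b - 1 := by
  have := Nat.pow_sub_one_gcd_pow_sub_one q a b
  rw [Nat.gcd_eq_left h] at this
  rw [← this]
  exact Nat.gcd_dvd_right _ _

theorem not_dvd_self_of_dvd_sub_one {r q : ℕ} (hr : r.Prime) (hq : 1 ≤ q) (h : r ∣ q - 1) :
    ¬ r ∣ q := fun h' => by
  have h'' := Nat.dvd_sub h' h
  rw [show q - (q - 1) = 1 by omega] at h''
  exact hr.one_lt.ne' (Nat.dvd_one.mp h'')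

/-- A divisor of `n` not containing the full `r`-part divides `n / r`. -/
theorem dvd_div_prime {n r d : ℕ} (hr : r.Prime) (hd : d ∣ n)
    (hnd : ¬ r ^ n.factorization r ∣ d) : d ∣ n / r := by
  obtain ⟨e, he⟩ := hd
  by_cases hre : r ∣ e
  · refine ⟨e / r, ?_⟩
    rw [he, Nat.mul_div_assoc d hre]
  · exact absurd ((Nat.Coprime.pow_left _ (hr.coprime_iff_not_dvd.mpr hre)).dvd_of_dvd_mul_right
      (he ▸ Nat.ordProj_dvd n r)) hnd

variable {q n : ℕ}

theorem minimal (hq : 1 < q) (hn : n ≠ 0) (h1 : ∀ r : ℕ, r.Prime → r ∣ n → r ∣ q - 1)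
    (h4 : 4 ∣ n → 4 ∣ q - 1) {r : ℕ} (hr : r.Prime) (hrn : r ∣ n) :
    ¬ n * (q - 1) ∣ q ^ (n / r) - 1 := by
  intro hdvd
  have := Fact.mk hr
  have hrq : r ∣ q - 1 := h1 r hr hrn
  obtain ⟨e, he⟩ := hrn
  rw [he, Nat.mul_div_cancel_left _ hr.pos, ← he] at hdvd
  have he0 : e ≠ 0 := by rintro rfl; exact hn (by simpa using he)
  have hq1 : q - 1 ≠ 0 := by omega
  have hvn : padicValNat r n = padicValNat r e + 1 := by
    rw [he, padicValNat.mul hr.ne_zero he0, padicValNat_self]; omega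
  have hpos : q ^ e - 1 ≠ 0 := by
    have : 1 < q ^ e := Nat.one_lt_pow he0 hq
    omega
  have hle : padicValNat r n + padicValNat r (q - 1) ≤ padicValNat r (q ^ e - 1) := by
    rw [← padicValNat.mul hn hq1]
    exact (padicValNat_dvd_iff_le hpos).mp (pow_padicValNat_dvd.trans hdvd)
  have hrq' : ¬ r ∣ q := not_dvd_self_of_dvd_sub_one hr hq.le hrq
  by_cases hre : r ∣ e
  · rcases hr.eq_two_or_odd' with rfl | hodd
    · obtain ⟨c, hc⟩ : 4 ∣ q - 1 := h4 (by rw [he]; exact Nat.mul_dvd_mul_left 2 hre)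
      have hq2 : padicValNat 2 (q + 1) = 1 := by
        have : q + 1 = 2 * (2 * c + 1) := by omega
        rw [this, padicValNat.mul (by norm_num) (by omega), padicValNat_self,
          padicValNat.eq_zero_of_not_dvd (by omega : ¬ 2 ∣ 2 * c + 1)]
      have := padicValNat.pow_two_sub_one hq hrq' he0 (even_iff_two_dvd.mpr hre)
      omega
    · have := padicValNat.pow_sub_pow hodd hq hrq hrq' he0
      rw [one_pow] at this
      omega
  · have hv : padicValNat r e = 0 := padicValNat.eq_zero_of_not_dvd hre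
    have hA : r ^ (padicValNat r (q - 1) + 1) ∣ q ^ e - 1 :=
      (padicValNat_dvd_iff_le hpos).mpr (by omega)
    have h := dvd_pow_gcd hA (pow_dvd_pow_pow_sub_one hq.le hrq _)
    rw [(Nat.Coprime.pow_right _ ((hr.coprime_iff_not_dvd.mpr hre).symm)).gcd_eq_one, pow_one] at h
    have := (padicValNat_dvd_iff_le hq1).mp h
    omega

theorem dvd_of_cond (hq : 1 < q) (hn : n ≠ 0) (h1 : ∀ r : ℕ, r.Prime → r ∣ n → r ∣ q - 1) :
    n * (q - 1) ∣ q ^ n - 1 := by
  rw [Nat.dvd_iff_prime_pow_dvd_dvd]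
  intro s a hs hsa
  have := Fact.mk hs
  have hq1 : q - 1 ≠ 0 := by omega
  by_cases hsn : s ∣ n
  · have hpos : q ^ n - 1 ≠ 0 := by
      have : 1 < q ^ n := Nat.one_lt_pow hn hq
      omega
    have hle : a ≤ padicValNat s n + padicValNat s (q - 1) := by
      rw [← padicValNat.mul hn hq1]
      exact (padicValNat_dvd_iff_le (Nat.mul_ne_zero hn hq1)).mp hsa
    have hrq : s ∣ q - 1 := h1 s hs hsn
    have hrq' : ¬ s ∣ q := not_dvd_self_of_dvd_sub_one hs hq.le hrq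
    rw [padicValNat_dvd_iff_le hpos]
    rcases hs.eq_two_or_odd' with rfl | hodd
    · have := padicValNat.pow_two_sub_one hq hrq' hn (even_iff_two_dvd.mpr hsn)
      have : 1 ≤ padicValNat 2 (q + 1) := one_le_padicValNat_of_dvd (by omega) (by omega)
      omega
    · have := padicValNat.pow_sub_pow hodd hq hrq hrq' hn
      rw [one_pow] at this
      omega
  · have h : s ^ a ∣ q - 1 :=
      (Nat.Coprime.pow_left a (hs.coprime_iff_not_dvd.mpr hsn)).dvd_of_dvd_mul_left hsa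
    calc s ^ a ∣ q ^ 1 - 1 := by simpa using h
      _ ∣ q ^ n - 1 := pow_sub_one_dvd_of_dvd (one_dvd n)

/-- If a prime of `n` fails to divide `q - 1`, the order drops. -/
theorem drop_prime (hq : 1 < q) (hn : n ≠ 0) (hd : n * (q - 1) ∣ q ^ n - 1) {r : ℕ} (hr : r.Prime)
    (hrn : r ∣ n) (hrq : ¬ r ∣ q - 1)
    (hmax : ∀ s : ℕ, s.Prime → s ∣ n → ¬ s ∣ q - 1 → s ≤ r) :
    n * (q - 1) ∣ q ^ (n / r) - 1 := by
  rw [Nat.dvd_iff_prime_pow_dvd_dvd]
  intro s a hs hsa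
  rcases Nat.eq_zero_or_pos a with rfl | ha
  · simp
  have hA := hsa.trans hd
  suffices ∃ B, s ^ a ∣ q ^ B - 1 ∧ ¬ r ^ n.factorization r ∣ B by
    obtain ⟨B, hB, hnB⟩ := this
    refine (dvd_pow_gcd hA hB).trans (pow_sub_one_dvd_of_dvd ?_)
    exact dvd_div_prime hr (Nat.gcd_dvd_left _ _) (fun h => hnB (h.trans (Nat.gcd_dvd_right _ _)))
  have hv : n.factorization r ≠ 0 := (hr.factorization_pos_of_dvd hn hrn).ne'
  by_cases hsq : s ∣ q - 1
  · refine ⟨s ^ a, ?_, fun h => ?_⟩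
    · exact (pow_dvd_pow s (Nat.le_succ a)).trans (pow_dvd_pow_pow_sub_one hq.le hsq a)
    · have : r ∣ s := hr.dvd_of_dvd_pow ((dvd_pow_self r hv).trans h)
      rw [(Nat.prime_dvd_prime_iff_eq hr hs).mp this] at hrq
      exact hrq hsq
  · have hcq : Nat.Coprime (s ^ a) q := by
      refine Nat.Coprime.pow_left a (hs.coprime_iff_not_dvd.mpr fun h => ?_)
      have h3 := Nat.dvd_sub (dvd_pow h hn) ((dvd_pow_self s ha.ne').trans hA)
      rw [show q ^ n - (q ^ n - 1) = 1 by have := Nat.one_lt_pow hn hq; omega] at h3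
      exact hs.one_lt.ne' (Nat.dvd_one.mp h3)
    refine ⟨Nat.totient (s ^ a), ?_, fun h => ?_⟩
    · exact (Nat.modEq_iff_dvd' (Nat.one_le_pow _ _ (by omega))).mp
        (Nat.ModEq.pow_totient hcq.symm).symm
    · have hsa' : s ^ a ∣ n :=
        (Nat.Coprime.pow_left a (hs.coprime_iff_not_dvd.mpr hsq)).dvd_of_dvd_mul_right hsa
      have hsr : s ≤ r := hmax s hs ((dvd_pow_self s ha.ne').trans hsa') hsq
      rw [Nat.totient_prime_pow hs ha] at h
      have hs1 : ¬ r ∣ s - 1 := fun h' => by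
        have := hs.two_le
        have := Nat.le_of_dvd (by omega) h'
        omega
      have h' := (Nat.Coprime.pow_left _ (hr.coprime_iff_not_dvd.mpr hs1)).dvd_of_dvd_mul_right h
      rcases eq_or_ne r s with rfl | hne
      · have h3 := (Nat.pow_dvd_pow_iff_le_right hr.one_lt).mp h'
        have h4 := (hr.pow_dvd_iff_le_factorization hn).mp hsa'
        omega
      · exact hne ((Nat.prime_dvd_prime_iff_eq hr hs).mp
          (hr.dvd_of_dvd_pow ((dvd_pow_self r hv).trans h')))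

/-- If `4 ∣ n` but `q ≡ 3 (mod 4)`, the order drops. -/
theorem drop_four (hq : 1 < q) (hn : n ≠ 0) (hd : n * (q - 1) ∣ q ^ n - 1)
    (h1 : ∀ r : ℕ, r.Prime → r ∣ n → r ∣ q - 1) (h4n : 4 ∣ n) (h4q : ¬ 4 ∣ q - 1) :
    n * (q - 1) ∣ q ^ (n / 2) - 1 := by
  have h2n : 2 ∣ n := (by norm_num : (2:ℕ) ∣ 4).trans h4n
  have h2q : 2 ∣ q - 1 := h1 2 Nat.prime_two h2n
  have hq1 : q - 1 ≠ 0 := by omega
  rw [Nat.dvd_iff_prime_pow_dvd_dvd]
  intro s a hs hsa
  have := Fact.mk hs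
  rcases eq_or_ne s 2 with rfl | hs2
  · have hn2 : n / 2 ≠ 0 := by omega
    have hev : Even (n / 2) := by rw [even_iff_two_dvd]; omega
    have hrq' : ¬ 2 ∣ q := by omega
    have hpos : q ^ (n / 2) - 1 ≠ 0 := by
      have : 1 < q ^ (n / 2) := Nat.one_lt_pow hn2 hq
      omega
    have hvn : padicValNat 2 n = padicValNat 2 (n / 2) + 1 := by
      conv_lhs => rw [← Nat.mul_div_cancel' h2n]
      rw [padicValNat.mul (by norm_num) hn2, padicValNat_self]; omega
    have hle : a ≤ padicValNat 2 n + padicValNat 2 (q - 1) := by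
      rw [← padicValNat.mul hn hq1]
      exact (padicValNat_dvd_iff_le (Nat.mul_ne_zero hn hq1)).mp hsa
    have hb : padicValNat 2 (q - 1) < 2 := by
      by_contra hc
      exact h4q ((padicValNat_dvd_iff_le hq1).mpr (not_lt.mp hc) : 2 ^ 2 ∣ q - 1)
    have hc : 2 ≤ padicValNat 2 (q + 1) := by
      refine (padicValNat_dvd_iff_le (by omega)).mp ?_
      norm_num
      omega
    have := padicValNat.pow_two_sub_one hq hrq' hn2 hev
    rw [padicValNat_dvd_iff_le hpos]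
    omega
  · rcases Nat.eq_zero_or_pos a with rfl | ha
    · simp
    have hA := hsa.trans hd
    have hsq : s ∣ q - 1 := by
      by_contra h
      have hsa' : s ^ a ∣ n :=
        (Nat.Coprime.pow_left a (hs.coprime_iff_not_dvd.mpr h)).dvd_of_dvd_mul_right hsa
      exact h (h1 s hs ((dvd_pow_self s ha.ne').trans hsa'))
    have hB : s ^ a ∣ q ^ s ^ a - 1 :=
      (pow_dvd_pow s (Nat.le_succ a)).trans (pow_dvd_pow_pow_sub_one hq.le hsq a)
    refine (dvd_pow_gcd hA hB).trans (pow_sub_one_dvd_of_dvd ?_)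
    refine dvd_div_prime Nat.prime_two (Nat.gcd_dvd_left _ _) fun h => ?_
    have hv : n.factorization 2 ≠ 0 := (Nat.prime_two.factorization_pos_of_dvd hn h2n).ne'
    have := Nat.prime_two.dvd_of_dvd_pow
      (((dvd_pow_self 2 hv).trans h).trans (Nat.gcd_dvd_right _ _))
    exact hs2 ((Nat.prime_dvd_prime_iff_eq Nat.prime_two hs).mp this).symm

/-- The Dickson pair condition: for a prime power `q` and `n > 1`, (every prime factor of `n` divides `q - 1`, and `4 ∣ n → 4 ∣ q - 1`) holds exactly when `q ^ n ≡ 1` modulo `n * (q - 1)` but `q ^ i` is not, for `0 < i < n`. -/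
theorem result (q n : ℕ) (hq : IsPrimePow q) (hn : 1 < n) : ((∀ r : ℕ, r.Prime → r ∣ n → r ∣ q - 1) ∧ (4 ∣ n → 4 ∣ q - 1)) ↔ (q ^ n ≡ 1 [MOD n * (q - 1)] ∧ ∀ i : ℕ, 0 < i → i < n → ¬ q ^ i ≡ 1 [MOD n * (q - 1)]) := by
  have hq1 : 1 < q := hq.one_lt
  have hn0 : n ≠ 0 := by omega
  have hiff : ∀ i : ℕ, q ^ i ≡ 1 [MOD n * (q - 1)] ↔ n * (q - 1) ∣ q ^ i - 1 := fun i =>
    ⟨fun h => (Nat.modEq_iff_dvd' (Nat.one_le_pow _ _ (by omega))).mp h.symm,
     fun h => ((Nat.modEq_iff_dvd' (Nat.one_le_pow _ _ (by omega))).mpr h).symm⟩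
  simp only [hiff]
  constructor
  · rintro ⟨h1, h4⟩
    refine ⟨dvd_of_cond hq1 hn0 h1, fun i hi hin hdvd => ?_⟩
    have hg := dvd_pow_gcd (dvd_of_cond hq1 hn0 h1) hdvd
    have hlt : Nat.gcd n i < n := lt_of_le_of_lt (Nat.gcd_le_right n hi) hin
    have hmul := Nat.mul_div_cancel' (Nat.gcd_dvd_left n i)
    obtain ⟨r, hr, c, hc⟩ :=
      Nat.exists_prime_and_dvd (n := n / Nat.gcd n i) (fun h => by rw [h] at hmul; omega)
    rw [hc] at hmul
    have hrn : r ∣ n := ⟨Nat.gcd n i * c, by linarith⟩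
    refine minimal hq1 hn0 h1 h4 hr hrn (hg.trans (pow_sub_one_dvd_of_dvd ⟨c, ?_⟩))
    exact Nat.div_eq_of_eq_mul_right hr.pos (by linarith)
  · rintro ⟨hd, hmin⟩
    have h1 : ∀ r : ℕ, r.Prime → r ∣ n → r ∣ q - 1 := by
      by_contra hc
      push Not at hc
      obtain ⟨r₀, hr₀, hr₀n, hr₀q⟩ := hc
      let S := n.primeFactors.filter fun s => ¬ s ∣ q - 1
      have hS : S.Nonempty :=
        ⟨r₀, Finset.mem_filter.mpr ⟨Nat.mem_primeFactors.mpr ⟨hr₀, hr₀n, hn0⟩, hr₀q⟩⟩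
      obtain ⟨hmem, hrq⟩ := Finset.mem_filter.mp (S.max'_mem hS)
      obtain ⟨hr, hrn, -⟩ := Nat.mem_primeFactors.mp hmem
      refine hmin (n / S.max' hS) (Nat.div_pos (Nat.le_of_dvd (by omega) hrn) hr.pos)
        (Nat.div_lt_self (by omega) hr.one_lt) (drop_prime hq1 hn0 hd hr hrn hrq ?_)
      intro s hs hsn hsq
      exact Finset.le_max' S s
        (Finset.mem_filter.mpr ⟨Nat.mem_primeFactors.mpr ⟨hs, hsn, hn0⟩, hsq⟩)
    refine ⟨h1, fun h4n => ?_⟩
    by_contra h4q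
    exact hmin (n / 2) (by omega) (by omega) (drop_four hq1 hn0 hd h1 h4n h4q)

end Cfsg.Agent.S0694
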