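import Cfsg.Statements.S0699
import Cfsg.Agent.Lib.Perm.Multiple

set_option autoImplicit false
open Cfsg MulAction Cfsg.Agent.Lib.Perm

namespace Cfsg.Agent.S0699

/-- Wagner's Theorem: a non-trivial normal subgroup of a triply transitive permutation group of odd degree at least 5 is triply transitive. -/
theorem result {α : Type*} [Fintype α] [DecidableEq α] (G : Subgroup (Equiv.Perm α)) (hodd : Odd (Fintype.card α)) (h5 : 5 ≤ Fintype.card α) (hG : MulAction.IsMultiplyPretransitive G α 3) (N : Subgroup G) [N.Normal] (hN : N ≠ ⊥) : MulAction.IsMultiplyPretransitive N α 3 := by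
  rcases Multiple.jordan (k := 3) (by norm_num) (by rw [Nat.card_eq_fintype_card]; omega) hG N hN
    with h | ⟨-, hc, he⟩
  · exact Multiple.three_transitive_of_odd (by rwa [Nat.card_eq_fintype_card])
      (by rw [Nat.card_eq_fintype_card]; omega) hG N h
  · exfalso
    have h2 : IsMultiplyPretransitive G α 2 :=
      isMultiplyPretransitive_of_le (n := 3) (by norm_num) (by rw [Nat.card_eq_fintype_card]; omega)
    have := isPreprimitive_of_is_two_pretransitive h2
    have := Basic.isPretransitive_of_normal_ne_bot (α := α) N hN
    have hne : Nonempty α := Fintype.card_pos_iff.mp (by omega)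
    obtain ⟨a⟩ := hne
    have hcard := Basic.card_eq_of_regular (H := N) a
      (Basic.stabilizer_eq_bot_of_comm_transitive N hc a)
    have := Fact.mk Nat.prime_two
    have hP : IsPGroup 2 N := fun n => ⟨1, Subtype.ext (by simpa using he n n.2)⟩
    obtain ⟨m, hm⟩ := hP.exists_card_eq
    rw [hm, Nat.card_eq_fintype_card] at hcard
    rw [← hcard, Nat.odd_pow_iff (by rintro rfl; rw [pow_zero] at hcard; omega)] at hodd
    exact Nat.not_odd_iff_even.mpr even_two hodd

end Cfsg.Agent.S0699
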