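import Cfsg.Statements.S0701
import Cfsg.Agent.Lib.Perm.Basic

set_option autoImplicit false
open Cfsg MulAction Cfsg.Agent.Lib.Perm
open scoped Pointwise

namespace Cfsg.Agent.S0701

/-- The centraliser in the full symmetric group of a transitive permutation group `G` is semiregular, and it is transitive if and only if `G` is regular. -/
theorem result {α : Type*} (G : Subgroup (Equiv.Perm α)) [MulAction.IsPretransitive G α] : (∀ c ∈ Subgroup.centralizer (G : Set (Equiv.Perm α)), ∀ a : α, c a = a → c = 1) ∧ (MulAction.IsPretransitive (Subgroup.centralizer (G : Set (Equiv.Perm α))) α ↔ ∀ a : α, MulAction.stabilizer G a = ⊥) := by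
  have hcomm : ∀ c ∈ Subgroup.centralizer (G : Set (Equiv.Perm α)), ∀ t ∈ G, t * c = c * t :=
    fun c hc t ht => Subgroup.mem_centralizer_iff.mp hc t ht
  refine ⟨fun c hc a ha => Basic.eq_one_of_commute_transitive G (hcomm c hc) (a := a) ha, ?_, ?_⟩
  · intro hC a
    exact Basic.stabilizer_eq_bot_of_le_centralizer _
      (fun t ht => Subgroup.mem_centralizer_iff.mpr fun c hc => (hcomm c hc t ht).symm) a
  · intro hreg
    refine ⟨fun a b => ?_⟩
    let e : G ≃ α := Basic.regularEquiv a (hreg a)
    let e' : G ≃ α := Basic.regularEquiv b (hreg b)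
    let c : Equiv.Perm α := e.symm.trans e'
    have hc : c ∈ Subgroup.centralizer (G : Set (Equiv.Perm α)) := by
      rw [Subgroup.mem_centralizer_iff]
      intro t ht
      ext x
      obtain ⟨g, rfl⟩ := e.surjective x
      have h1 : t (e g) = e (⟨t, ht⟩ * g) := by
        simp only [e, Basic.regularEquiv_apply, mul_smul]; rfl
      simp only [Equiv.Perm.coe_mul, Function.comp_apply, h1]
      simp only [c, Equiv.trans_apply, Equiv.symm_apply_apply]
      simp only [e', Basic.regularEquiv_apply, mul_smul]; rfl
    refine ⟨⟨c, hc⟩, ?_⟩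
    change c a = b
    have h1 : e 1 = a := by simp [e, Basic.regularEquiv_apply]
    conv_lhs => rw [← h1]
    simp only [c, Equiv.trans_apply, Equiv.symm_apply_apply]
    simp [e', Basic.regularEquiv_apply]

end Cfsg.Agent.S0701
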