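import Cfsg.Statements.S0703
import Cfsg.Agent.Lib.Perm.Basic
import Cfsg.Agent.Lib.Cores.MinNormal

set_option autoImplicit false
open Cfsg MulAction Cfsg.Agent.Lib.Perm

namespace Cfsg.Agent.S0703

/-- An abelian transitive minimal normal subgroup `M` of a permutation group on a finite set is self-centralising in the symmetric group, regular, elementary abelian, and is the unique minimal normal subgroup. -/
theorem result {α : Type*} [Finite α] (G : Subgroup (Equiv.Perm α)) (M : Subgroup G) [M.Normal] (hM : M ≠ ⊥) (hmin : ∀ L : Subgroup G, L.Normal → L ≤ M → L = ⊥ ∨ L = M) (hab : IsMulCommutative M) (htrans : MulAction.IsPretransitive M α) : Subgroup.centralizer ((M.map G.subtype : Subgroup (Equiv.Perm α)) : Set (Equiv.Perm α)) = M.map G.subtype ∧ (∀ a : α, MulAction.stabilizer M a = ⊥) ∧ (∃ p : ℕ, p.Prime ∧ ∀ m ∈ M, m ^ p = 1) ∧ ∀ L : Subgroup G, L.Normal → L ≠ ⊥ → (∀ L' : Subgroup G, L'.Normal → L' ≤ L → L' = ⊥ ∨ L' = L) → L = M := by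
  have := htrans
  have := Fintype.ofFinite α
  have hreg : ∀ a : α, stabilizer M a = ⊥ := Basic.stabilizer_eq_bot_of_comm_transitive M hab
  have hmap : IsPretransitive (M.map G.subtype) α :=
    ⟨fun x y => let ⟨⟨m, hm⟩, e⟩ := exists_smul_eq M x y; ⟨⟨_, Subgroup.mem_map_of_mem _ hm⟩, e⟩⟩
  have hne : Nonempty α := by
    by_contra h
    rw [not_nonempty_iff] at h
    exact hM ((Subgroup.eq_bot_iff_forall M).mpr fun m _ => Subtype.ext (Subsingleton.elim _ _))
  obtain ⟨a⟩ := hne
  have hcomm : ∀ x ∈ M, ∀ y ∈ M, x * y = y * x := fun x hx y hy =>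
    congrArg Subtype.val (hab.is_comm.comm ⟨x, hx⟩ ⟨y, hy⟩)
  have hC : Subgroup.centralizer ((M.map G.subtype : Subgroup (Equiv.Perm α)) :
      Set (Equiv.Perm α)) = M.map G.subtype := by
    refine le_antisymm (fun c hc => ?_) ?_
    · obtain ⟨⟨m, hm⟩, hma⟩ := exists_smul_eq M a (c a)
      have hma' : (m : Equiv.Perm α) a = c a := hma
      refine ⟨m, hm, ?_⟩
      change (m : Equiv.Perm α) = c
      have hmc : (m : Equiv.Perm α)⁻¹ * c = 1 := by
        refine Basic.eq_one_of_commute_transitive (M.map G.subtype) (fun t ht => ?_) (a := a) ?_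
        · obtain ⟨t', ht', rfl⟩ := ht
          have h1 : ((t' : Equiv.Perm α)) * (m : Equiv.Perm α) = m * t' :=
            congrArg Subtype.val (hcomm t' ht' m hm)
          have h2 : (t' : Equiv.Perm α) * c = c * t' :=
            Subgroup.mem_centralizer_iff.mp hc _ (Subgroup.mem_map_of_mem _ ht')
          exact ((Commute.inv_right h1).mul_right h2).eq
        · change (m : Equiv.Perm α)⁻¹ (c a) = a
          rw [← hma', ← Equiv.Perm.mul_apply, inv_mul_cancel, Equiv.Perm.one_apply]
      exact inv_mul_eq_one.mp hmc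
    · rintro _ ⟨m, hm, rfl⟩
      rw [Subgroup.mem_centralizer_iff]
      rintro _ ⟨t, ht, rfl⟩
      rw [← map_mul, ← map_mul, hcomm t ht m hm]
  refine ⟨hC, hreg, ?_, fun L hLn hL hLmin => ?_⟩
  · have := hab
    exact Cfsg.Agent.Lib.Cores.MinNormal.exists_prime_pow_eq_one hM hmin
  · by_contra hne
    have hint : L ⊓ M = ⊥ := by
      rcases hLmin (L ⊓ M) inferInstance inf_le_left with h | h
      · exact h
      · rcases hmin L hLn (h ▸ inf_le_right) with h' | h'
        · exact absurd h' hL
        · exact absurd h' hne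
    apply hL
    rw [← hint]
    refine (le_antisymm inf_le_left (le_inf le_rfl fun l hl => ?_)).symm
    have hmem : (l : Equiv.Perm α) ∈ Subgroup.centralizer
        ((M.map G.subtype : Subgroup (Equiv.Perm α)) : Set (Equiv.Perm α)) := by
      rw [Subgroup.mem_centralizer_iff]
      rintro _ ⟨m, hm, rfl⟩
      exact congrArg Subtype.val (Subgroup.commute_of_normal_of_disjoint M L (by assumption) hLn
        (disjoint_iff.mpr (by rw [inf_comm, hint])) m l hm hl).eq
    rw [hC] at hmem
    obtain ⟨m, hm, hml⟩ := hmem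
    exact Subtype.ext hml ▸ hm

end Cfsg.Agent.S0703
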