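import Cfsg.Statements.S0704
import Cfsg.Agent.Lib.Perm.Basic

set_option autoImplicit false
open Cfsg MulAction Cfsg.Agent.Lib.Perm

namespace Cfsg.Agent.S0704

/-- Two distinct transitive minimal normal subgroups `M`, `N` of a permutation group are regular, non-abelian, isomorphic, each other's centraliser in the symmetric group, and the only minimal normal subgroups. -/
theorem result {α : Type*} (G : Subgroup (Equiv.Perm α)) (M N : Subgroup G) [M.Normal] [N.Normal] (hM : M ≠ ⊥) (hN : N ≠ ⊥) (hMmin : ∀ L : Subgroup G, L.Normal → L ≤ M → L = ⊥ ∨ L = M) (hNmin : ∀ L : Subgroup G, L.Normal → L ≤ N → L = ⊥ ∨ L = N) (hMN : M ≠ N) (hMt : MulAction.IsPretransitive M α) (hNt : MulAction.IsPretransitive N α) : (∀ a : α, MulAction.stabilizer M a = ⊥) ∧ (∀ a : α, MulAction.stabilizer N a = ⊥) ∧ ¬ IsMulCommutative M ∧ Nonempty (M ≃* N) ∧ Subgroup.centralizer ((M.map G.subtype : Subgroup (Equiv.Perm α)) : Set (Equiv.Perm α)) = N.map G.subtype ∧ Subgroup.centralizer ((N.map G.subtype : Subgroup (Equiv.Perm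 α)) : Set (Equiv.Perm α)) = M.map G.subtype ∧ ∀ L : Subgroup G, L.Normal → L ≠ ⊥ → (∀ L' : Subgroup G, L'.Normal → L' ≤ L → L' = ⊥ ∨ L' = L) → L = M ∨ L = N := by
  have := hMt
  have := hNt
  have hne : Nonempty α := by
    by_contra h
    rw [not_nonempty_iff] at h
    exact hM ((Subgroup.eq_bot_iff_forall M).mpr fun m _ => Subtype.ext (Subsingleton.elim _ _))
  obtain ⟨a⟩ := hne
  have hint : M ⊓ N = ⊥ := by
    rcases hMmin (M ⊓ N) inferInstance inf_le_left with h | h
    · exact h
    · rcases hNmin M inferInstance (h ▸ inf_le_right) with h' | h'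
      · exact absurd h' hM
      · exact absurd h' hMN
  have hcomm : ∀ m ∈ M, ∀ n ∈ N, m * n = n * m := fun m hm n hn =>
    (Subgroup.commute_of_normal_of_disjoint M N (by assumption) (by assumption)
      (disjoint_iff.mpr hint) m n hm hn).eq
  have hregM : ∀ b : α, stabilizer M b = ⊥ := fun b =>
    (Basic.regular_of_commuting_transitive M N hcomm b).1
  have hregN : ∀ b : α, stabilizer N b = ⊥ := fun b =>
    (Basic.regular_of_commuting_transitive M N hcomm b).2
  have key : ∀ (A B : Subgroup G), IsPretransitive A α → IsPretransitive B α →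
      (∀ x ∈ A, ∀ y ∈ B, x * y = y * x) →
      Subgroup.centralizer ((A.map G.subtype : Subgroup (Equiv.Perm α)) : Set (Equiv.Perm α)) =
        B.map G.subtype := by
    intro A B hA hB hAB
    have : IsPretransitive (A.map G.subtype) α :=
      ⟨fun x y => let ⟨⟨m, hm⟩, e⟩ := exists_smul_eq A x y; ⟨⟨_, Subgroup.mem_map_of_mem _ hm⟩, e⟩⟩
    refine le_antisymm (fun c hc => ?_) ?_
    · obtain ⟨⟨b, hb⟩, hba⟩ := exists_smul_eq B a (c a)
      have hba' : (b : Equiv.Perm α) a = c a := hba
      refine ⟨b, hb, ?_⟩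
      change (b : Equiv.Perm α) = c
      have hbc : (b : Equiv.Perm α)⁻¹ * c = 1 := by
        refine Basic.eq_one_of_commute_transitive (A.map G.subtype) (fun t ht => ?_) (a := a) ?_
        · obtain ⟨t', ht', rfl⟩ := ht
          have h1 : ((t' : Equiv.Perm α)) * (b : Equiv.Perm α) = b * t' :=
            congrArg Subtype.val (hAB t' ht' b hb)
          have h2 : (t' : Equiv.Perm α) * c = c * t' :=
            Subgroup.mem_centralizer_iff.mp hc _ (Subgroup.mem_map_of_mem _ ht')
          exact ((Commute.inv_right h1).mul_right h2).eq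
        · change (b : Equiv.Perm α)⁻¹ (c a) = a
          rw [← hba', ← Equiv.Perm.mul_apply, inv_mul_cancel, Equiv.Perm.one_apply]
      exact inv_mul_eq_one.mp hbc
    · rintro _ ⟨b, hb, rfl⟩
      rw [Subgroup.mem_centralizer_iff]
      rintro _ ⟨t, ht, rfl⟩
      rw [← map_mul, ← map_mul, hAB t ht b hb]
  refine ⟨hregM, hregN, fun hc => ?_, ?_, key M N hMt hNt hcomm,
    key N M hNt hMt (fun x hx y hy => (hcomm y hy x hx).symm), fun L hLn hL hLmin => ?_⟩
  · apply hM
    rw [← hint]
    refine (le_antisymm inf_le_left (le_inf le_rfl fun m hm => ?_)).symm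
    have hmem : (m : Equiv.Perm α) ∈ N.map G.subtype := by
      rw [← key M N hMt hNt hcomm, Subgroup.mem_centralizer_iff]
      rintro _ ⟨x, hx, rfl⟩
      exact congrArg (fun z : M => ((z : G) : Equiv.Perm α)) (hc.is_comm.comm ⟨x, hx⟩ ⟨m, hm⟩)
    obtain ⟨n, hn, e⟩ := hmem
    exact Subtype.ext e ▸ hn
  · let eM := Basic.regularEquiv a (hregM a)
    let eN := Basic.regularEquiv a (hregN a)
    let e : M ≃ N := ((Equiv.inv M).trans eM).trans eN.symm
    have he : ∀ m : M, (e m : N) • a = m⁻¹ • a := fun m => by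
      change eN (eN.symm (eM m⁻¹)) = _
      rw [Equiv.apply_symm_apply]
      rfl
    refine ⟨{ e with map_mul' := fun x y => eN.injective ?_ }⟩
    change (e (x * y) : N) • a = (e x * e y : N) • a
    rw [he, mul_smul, he y, mul_inv_rev, mul_smul, ← he x]
    change ((y⁻¹ : M) : G) • ((e x : N) : G) • a = ((e x : N) : G) • ((y⁻¹ : M) : G) • a
    rw [smul_smul, smul_smul, hcomm _ (y⁻¹).2 _ (e x).2]
  · by_contra! hne
    have hcom : ∀ (A : Subgroup G), A.Normal →
        (∀ K : Subgroup G, K.Normal → K ≤ A → K = ⊥ ∨ K = A) → L ≠ A →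
        ∀ x ∈ L, ∀ y ∈ A, y * x = x * y := by
      intro A hA hAmin hLA x hx y hy
      refine (Subgroup.commute_of_normal_of_disjoint A L hA hLn ?_ y x hy hx).eq
      rw [disjoint_iff]
      rcases hLmin (L ⊓ A) inferInstance inf_le_left with h | h
      · rwa [inf_comm]
      · rcases hAmin L hLn (h ▸ inf_le_right) with h' | h'
        · exact absurd h' hL
        · exact absurd h' hLA
    apply hL
    rw [Subgroup.eq_bot_iff_forall]
    intro l hl
    have h1 : (l : Equiv.Perm α) ∈ N.map G.subtype := by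
      rw [← key M N hMt hNt hcomm, Subgroup.mem_centralizer_iff]
      rintro _ ⟨x, hx, rfl⟩
      exact congrArg Subtype.val (hcom M (by assumption) hMmin hne.1 l hl x hx)
    have h2 : (l : Equiv.Perm α) ∈ M.map G.subtype := by
      rw [← key N M hNt hMt (fun x hx y hy => (hcomm y hy x hx).symm),
        Subgroup.mem_centralizer_iff]
      rintro _ ⟨x, hx, rfl⟩
      exact congrArg Subtype.val (hcom N (by assumption) hNmin hne.2 l hl x hx)
    obtain ⟨n, hn, en⟩ := h1
    obtain ⟨m, hm, em⟩ := h2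
    obtain rfl : n = l := Subtype.ext en
    obtain rfl : m = n := Subtype.ext em
    exact (Subgroup.eq_bot_iff_forall _).mp hint m ⟨hm, hn⟩

end Cfsg.Agent.S0704
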