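import Cfsg.Statements.S0707
import Cfsg.Agent.Lib.Perm.Basic

set_option autoImplicit false
open Cfsg MulAction Cfsg.Agent.Lib.Perm
open scoped Pointwise

namespace Cfsg.Agent.S0707

/-- In a primitive permutation group, distinct points have distinct stabilisers unless the group is regular of prime degree. -/
theorem result {α : Type*} (G : Subgroup (Equiv.Perm α)) [MulAction.IsPreprimitive G α] (h : ¬ (Nat.card α).Prime ∨ ∃ a : α, MulAction.stabilizer G a ≠ ⊥) {a b : α} (hab : a ≠ b) : MulAction.stabilizer G a ≠ MulAction.stabilizer G b := by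
  intro heq
  classical
  have hpre : ∀ g : G, ∀ x : α, g • x = (g : Equiv.Perm α) x := fun g x => rfl
  set B : Set α := {x | stabilizer G x = stabilizer G a} with hB
  have hblock : IsBlock G B := by
    rw [isBlock_iff_smul_eq_of_nonempty]
    intro g hne
    obtain ⟨x, hx1, hx2⟩ := hne
    obtain ⟨y, hy, rfl⟩ := hx1
    ext z
    rw [Set.mem_smul_set_iff_inv_smul_mem]
    simp only [hB, Set.mem_ofPred_eq] at hy hx2 ⊢
    have key : ∀ u v : α, stabilizer G u = stabilizer G v →
        ∀ k : G, stabilizer G (k • u) = stabilizer G (k • v) := by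
      intro u v huv k
      ext h
      rw [Basic.mem_stabilizer_smul_iff, Basic.mem_stabilizer_smul_iff, huv]
    constructor
    · intro hz
      have := key _ _ (hz.trans hy.symm) g
      rw [smul_inv_smul] at this
      rw [this, hx2]
    · intro hz
      have := key _ _ (hz.trans hx2.symm) g⁻¹
      rw [inv_smul_smul] at this
      rw [this, hy]
  have ha : a ∈ B := rfl
  have hb : b ∈ B := heq.symm
  rcases IsPreprimitive.isTrivialBlock_of_isBlock hblock with hs | hu
  · exact hab (hs ha hb)
  · have hall : ∀ c : α, stabilizer G c = ⊥ := by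
      intro c
      rw [Subgroup.eq_bot_iff_forall]
      intro g hg
      refine eq_of_smul_eq_smul fun d : α => ?_
      have hcd : stabilizer G d = stabilizer G c := by
        have h1 : d ∈ B := hu ▸ Set.mem_univ d
        have h2 : c ∈ B := hu ▸ Set.mem_univ c
        exact (show stabilizer G d = stabilizer G a from h1).trans
          (show stabilizer G c = stabilizer G a from h2).symm
      rw [one_smul]
      exact (hcd.symm ▸ hg : g ∈ stabilizer G d)
    have : Nontrivial α := ⟨a, b, hab⟩
    have hco : IsCoatom (stabilizer G a) := IsPreprimitive.isCoatom_stabilizer_of_isPreprimitive G a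
    rw [hall a] at hco
    have hbt : ∀ K : Subgroup G, K = ⊥ ∨ K = ⊤ := fun K => by
      rcases (bot_le (a := K)).eq_or_lt with h | h
      · exact Or.inl h.symm
      · exact Or.inr (hco.2 K h)
    have : Nontrivial G := Subgroup.nontrivial_iff.mp (nontrivial_of_ne _ _ hco.1)
    have : IsSimpleGroup G := ⟨fun K _ => hbt K⟩
    obtain ⟨g, hg⟩ := exists_ne (1 : G)
    have hgen : Subgroup.zpowers g = ⊤ :=
      (hbt _).resolve_left (fun h => hg (Subgroup.zpowers_eq_bot.mp h))
    have : IsCyclic G := isCyclic_iff_exists_zpowers_eq_top.mpr ⟨g, hgen⟩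
    let _ : CommGroup G := IsCyclic.commGroup
    have hp : (Nat.card G).Prime := IsSimpleGroup.prime_card
    rw [Basic.card_eq_of_regular a (hall a)] at hp
    rcases h with h | ⟨c, hc⟩
    · exact h hp
    · exact hc (hall c)

end Cfsg.Agent.S0707
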