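import Cfsg.Statements.S0708
import Cfsg.Agent.Lib.Homogeneous.Semiregular

set_option autoImplicit false
open Cfsg
open scoped Pointwise

namespace Cfsg.Agent.S0708

open Cfsg.Agent.Lib.Homogeneous

section
variable {G : Type*} [Group G] {Ω : Type*} [MulAction G Ω]
  (h4 : MulAction.IsMultiplyPretransitive G Ω 4) (hsharp : ∀ x : Fin 4 ↪ Ω, MulAction.stabilizer G x = ⊥)

/-- Four distinct points as an embedding. -/
def four {a b c d : Ω} (h1 : a ≠ b) (h2 : a ≠ c) (h3 : a ≠ d) (h5 : b ≠ c) (h6 : b ≠ d) (h7 : c ≠ d) :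
    Fin 4 ↪ Ω :=
  ⟨![a, b, c, d], by
    intro i j h
    fin_cases i <;> fin_cases j <;>
      simp [h1, h2, h3, h5, h6, h7, h1.symm, h2.symm, h3.symm, h5.symm, h6.symm, h7.symm] at h ⊢⟩

include hsharp in
theorem eq4 {a b c d : Ω} (h1 : a ≠ b) (h2 : a ≠ c) (h3 : a ≠ d) (h5 : b ≠ c) (h6 : b ≠ d) (h7 : c ≠ d)
    {g h : G} (ea : g • a = h • a) (eb : g • b = h • b) (ec : g • c = h • c) (ed : g • d = h • d) :
    g = h := by
  have hmem : h⁻¹ * g ∈ MulAction.stabilizer G (four h1 h2 h3 h5 h6 h7) := by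
    refine Function.Embedding.ext fun i => ?_
    change (h⁻¹ * g) • four h1 h2 h3 h5 h6 h7 i = four h1 h2 h3 h5 h6 h7 i
    fin_cases i
    · exact (mul_smul _ _ _).trans ((congrArg (h⁻¹ • ·) ea).trans (inv_smul_smul h a))
    · exact (mul_smul _ _ _).trans ((congrArg (h⁻¹ • ·) eb).trans (inv_smul_smul h b))
    · exact (mul_smul _ _ _).trans ((congrArg (h⁻¹ • ·) ec).trans (inv_smul_smul h c))
    · exact (mul_smul _ _ _).trans ((congrArg (h⁻¹ • ·) ed).trans (inv_smul_smul h d))
  rw [hsharp, Subgroup.mem_bot, inv_mul_eq_one] at hmem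
  exact hmem.symm

include h4 in
theorem lift4 {a b c d a' b' c' d' : Ω} (h1 : a ≠ b) (h2 : a ≠ c) (h3 : a ≠ d) (h5 : b ≠ c)
    (h6 : b ≠ d) (h7 : c ≠ d) (k1 : a' ≠ b') (k2 : a' ≠ c') (k3 : a' ≠ d') (k5 : b' ≠ c')
    (k6 : b' ≠ d') (k7 : c' ≠ d') :
    ∃ g : G, g • a = a' ∧ g • b = b' ∧ g • c = c' ∧ g • d = d' := by
  obtain ⟨g, hg⟩ := MulAction.exists_smul_eq G (four h1 h2 h3 h5 h6 h7) (four k1 k2 k3 k5 k6 k7)
  exact ⟨g, DFunLike.congr_fun hg 0, DFunLike.congr_fun hg 1, DFunLike.congr_fun hg 2,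
    DFunLike.congr_fun hg 3⟩

include hsharp in
theorem fix_finite {g : G} (hg : g ≠ 1) : {x : Ω | g • x = x}.Finite := by
  classical
  by_contra h
  obtain ⟨t, ht, htc⟩ := Set.Infinite.exists_subset_card_eq h 4
  obtain ⟨a, b, c, d, h1, h2, h3, h5, h6, h7, rfl⟩ := Finset.card_eq_four.1 htc
  refine hg (eq4 hsharp h1 h2 h3 h5 h6 h7 ?_ ?_ ?_ ?_) <;>
    rw [one_smul] <;> exact ht (by simp)

include h4 hsharp in
theorem not_infinite [Infinite Ω] : False := by
  classical
  obtain ⟨t, -, ht⟩ := Set.Infinite.exists_subset_card_eq (Set.infinite_univ (α := Ω)) 4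
  obtain ⟨a, b, c, d, hab, hac, had, hbc, hbd, hcd, -⟩ := Finset.card_eq_four.1 ht
  obtain ⟨i, ia, ib, ic, id'⟩ := lift4 h4 hab hac had hbc hbd hcd hab.symm hbc hbd hac had hcd
  obtain ⟨j, ja, jb, jc, jd⟩ := lift4 h4 hab hac had hbc hbd hcd hab had hac hbd hbc hcd.symm
  have ii : i * i = 1 := eq4 hsharp hab hac had hbc hbd hcd (by rw [mul_smul, ia, ib, one_smul])
    (by rw [mul_smul, ib, ia, one_smul]) (by rw [mul_smul, ic, ic, one_smul])
    (by rw [mul_smul, id', id', one_smul])
  have jj : j * j = 1 := eq4 hsharp hab hac had hbc hbd hcd (by rw [mul_smul, ja, ja, one_smul])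
    (by rw [mul_smul, jb, jb, one_smul]) (by rw [mul_smul, jc, jd, one_smul])
    (by rw [mul_smul, jd, jc, one_smul])
  have ij : i * j = j * i := eq4 hsharp hab hac had hbc hbd hcd
    (by rw [mul_smul, mul_smul, ja, ia, jb]) (by rw [mul_smul, mul_smul, jb, ib, ja])
    (by rw [mul_smul, mul_smul, jc, id', ic, jc]) (by rw [mul_smul, mul_smul, jd, ic, id', jd])
  have si : ∀ x : Ω, i • i • x = x := fun x => by rw [← mul_smul, ii, one_smul]
  have sj : ∀ x : Ω, j • j • x = x := fun x => by rw [← mul_smul, jj, one_smul]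
  have sij : ∀ x : Ω, i • j • x = j • i • x := fun x => by rw [← mul_smul, ij, mul_smul]
  have hi1 : i ≠ 1 := fun e => hab (by rw [e, one_smul] at ia; exact ia)
  have hj1 : j ≠ 1 := fun e => hcd (by rw [e, one_smul] at jc; exact jc)
  have hij1 : i * j ≠ 1 := fun e => hab (by
    have := congrArg (· • a) e
    simp only [mul_smul, ja, ia, one_smul] at this
    exact this.symm)
  -- the two pairs are preserved by the centraliser
  have hfix : ∀ u w x : Ω, ∀ g k : G, g • u = u → g • w = w → k • u = w → u ≠ w → g ≠ 1 →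
      (∀ y : Ω, k • k • y = y) → (∀ y : Ω, g • k • y = k • g • y) →
      g • x = x → k • x ≠ x → x = u ∨ x = w := by
    intro u w x g k gu gw ku huw hg hk hgk gx kx
    by_contra! h
    refine hg (eq4 hsharp (g := g) (h := 1) huw (Ne.symm h.1)
      (fun e => h.2 (by rw [← ku, e, hk])) (Ne.symm h.2)
      (fun e => h.1 (by rw [← hk u, ku, e, hk])) (Ne.symm kx)
      (by rw [one_smul, gu]) (by rw [one_smul, gw]) (by rw [one_smul, gx])
      (by rw [one_smul, hgk, gx]))
  have hcent : ∀ h : G, h * i = i * h → h * j = j * h → h = 1 ∨ h = i ∨ h = j ∨ h = i * j := by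
    intro h hi hj
    have e1 : ∀ x : Ω, i • h • x = h • i • x := fun x => by rw [← mul_smul, ← hi, mul_smul]
    have e2 : ∀ x : Ω, j • h • x = h • j • x := fun x => by rw [← mul_smul, ← hj, mul_smul]
    have hc : h • c = c ∨ h • c = d := hfix c d (h • c) i j ic id' jc hcd hi1 sj sij (by rw [e1, ic])
      (by rw [e2, jc]; exact fun e => hcd (MulAction.injective h e).symm)
    have ha : h • a = a ∨ h • a = b := hfix a b (h • a) j i ja jb ia hab hj1 si (fun y => (sij y).symm)
      (by rw [e2, ja]) (by rw [e1, ia]; exact fun e => hab (MulAction.injective h e).symm)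
    have hb : h • b = i • h • a := by rw [e1, ia]
    have hd : h • d = j • h • c := by rw [e2, jc]
    rcases ha with ha | ha <;> rcases hc with hc | hc
    · exact Or.inl (eq4 hsharp hab hac had hbc hbd hcd (by rw [one_smul, ha])
        (by rw [one_smul, hb, ha, ia]) (by rw [one_smul, hc]) (by rw [one_smul, hd, hc, jc]))
    · exact Or.inr (Or.inr (Or.inl (eq4 hsharp hab hac had hbc hbd hcd (by rw [ha, ja])
        (by rw [hb, ha, ia, jb]) (by rw [hc, jc]) (by rw [hd, hc, jd]))))
    · exact Or.inr (Or.inl (eq4 hsharp hab hac had hbc hbd hcd (by rw [ha, ia])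
        (by rw [hb, ha]) (by rw [hc, ic]) (by rw [hd, hc, jc, id'])))
    · exact Or.inr (Or.inr (Or.inr (eq4 hsharp hab hac had hbc hbd hcd (by rw [ha, mul_smul, ja, ia])
        (by rw [hb, ha, mul_smul, jb]) (by rw [hc, mul_smul, jc, id'])
        (by rw [hd, hc, mul_smul, jd, ic]))))
  -- two regular orbits
  have hfin := ((fix_finite hsharp hi1).union (fix_finite hsharp hj1)).union (fix_finite hsharp hij1)
  obtain ⟨y, hy⟩ := hfin.infinite_compl.nonempty
  have hfin' := hfin.union (((Set.finite_singleton (j • i • y)).insert (j • y)).insert (i • y) |>.insert y)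
  obtain ⟨z, hz⟩ := hfin'.infinite_compl.nonempty
  simp only [Set.mem_compl_iff, Set.mem_union, Set.mem_ofPred_eq, Set.mem_insert_iff,
    Set.mem_singleton_iff, not_or, mul_smul] at hy hz
  obtain ⟨⟨y1, y2⟩, y3⟩ := hy
  obtain ⟨⟨⟨z1, z2⟩, z3⟩, z4, z5, z6, z7⟩ := hz
  have hdist : ∀ x : Ω, i • x ≠ x → j • x ≠ x → i • j • x ≠ x →
      x ≠ i • x ∧ x ≠ j • x ∧ x ≠ j • i • x ∧ i • x ≠ j • x ∧ i • x ≠ j • i • x ∧ j • x ≠ j • i • x := by
    intro x x1 x2 x3
    refine ⟨Ne.symm x1, Ne.symm x2, fun e => x3 (by rw [sij, ← e]), fun e => x3 (by rw [← e, si]),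
      fun e => x2 ?_, fun e => x1 (MulAction.injective j e).symm⟩
    have h := congrArg (i • ·) e
    simp only [si, sij, ← sij (i • x)] at h
    exact h.symm
  have hgen : ∀ x : Ω, i • x ≠ x → j • x ≠ x → i • j • x ≠ x →
      ∃ g : G, g * g = 1 ∧ g * i = i * g ∧ g * j = i * j * g ∧ g ≠ 1 ∧
        g • j • x = j • x ∧ g • j • i • x = j • i • x := by
    intro x x1 x2 x3
    obtain ⟨d1, d2, d3, d4, d5, d6⟩ := hdist x x1 x2 x3
    obtain ⟨g, g1, g2, g3, g4⟩ := lift4 h4 d1 d2 d3 d4 d5 d6 d1.symm d4 d5 d2 d3 d6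
    refine ⟨g, ?_, ?_, ?_, fun e => d1 (by rw [e, one_smul] at g1; exact g1), g3, g4⟩
    · exact eq4 hsharp d1 d2 d3 d4 d5 d6 (by rw [mul_smul, g1, g2, one_smul])
        (by rw [mul_smul, g2, g1, one_smul]) (by rw [mul_smul, g3, g3, one_smul])
        (by rw [mul_smul, g4, g4, one_smul])
    · refine eq4 hsharp d1 d2 d3 d4 d5 d6 ?_ ?_ ?_ ?_
      · simp only [mul_smul, g2, g1, si]
      · simp only [mul_smul, si, g1, g2]
      · simp only [mul_smul, sij, g4, g3]
      · simp only [mul_smul, sij, si, g3, g4]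
    · refine eq4 hsharp d1 d2 d3 d4 d5 d6 ?_ ?_ ?_ ?_
      · simp only [mul_smul, g3, g1, sij, si]
      · simp only [mul_smul, g4, g2, sij]
      · simp only [mul_smul, sj, g1, g3]
      · simp only [mul_smul, sj, g2, g4, sij, si]
  obtain ⟨g, gg, gi, gj, gne, gf1, gf2⟩ := hgen y y1 y2 y3
  obtain ⟨g', gg', gi', gj', gne', gf1', gf2'⟩ := hgen z z1 z2 z3
  have hv1 : g' * g * i = i * (g' * g) := by rw [mul_assoc, gi, ← mul_assoc, gi', mul_assoc]
  have hv2 : g' * g * j = j * (g' * g) := by
    rw [mul_assoc, gj, show g' * (i * j * g) = g' * i * j * g by group, gi',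
      mul_assoc i g' j, gj', show i * (i * j * g') * g = i * i * j * (g' * g) by group, ii, one_mul]
  have sg : ∀ x : Ω, g • g • x = x := fun x => by rw [← mul_smul, gg, one_smul]
  have gi_s : ∀ x : Ω, g • i • x = i • g • x := fun x => by rw [← mul_smul, gi, mul_smul]
  have hbad : ∀ u : Ω, (u = y ∨ u = j • y) → g' • u = u → g' • i • u = i • u → False := by
    intro u hu e1 e2
    have hu1 : u ≠ i • u := by
      intro e
      rcases hu with rfl | rfl
      · exact y1 e.symm
      · exact y1 (MulAction.injective j (show j • i • y = j • y by rw [← sij, ← e]))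
    have hju : j • u = y ∨ j • u = j • y := by
      rcases hu with rfl | rfl
      · exact Or.inr rfl
      · exact Or.inl (sj y)
    refine gne' (eq4 hsharp (g := g') (h := 1) hu1 ?_ ?_ ?_ ?_ ?_ (by rw [one_smul]; exact e1)
      (by rw [one_smul]; exact e2) (by rw [one_smul]; exact gf1') (by rw [one_smul]; exact gf2'))
    · intro e
      have hzu : z = j • u := by rw [e, sj]
      rcases hju with h | h <;> rw [h] at hzu
      · exact z4 hzu
      · exact z6 hzu
    · intro e
      have hzu : z = i • j • u := by rw [e, sj, si]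
      rcases hju with h | h <;> rw [h] at hzu
      · exact z5 hzu
      · exact z7 (by rw [hzu, sij])
    · intro e
      have hzu : z = i • j • u := by rw [sij, e, sj]
      rcases hju with h | h <;> rw [h] at hzu
      · exact z5 hzu
      · exact z7 (by rw [hzu, sij])
    · intro e
      have hzu : z = j • u := by
        have h := congrArg (fun w => j • i • w) e
        simp only [si, ← sij, sj] at h
        exact h.symm
      rcases hju with h | h <;> rw [h] at hzu
      · exact z4 hzu
      · exact z6 hzu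
    · exact fun e => z1 (MulAction.injective j e).symm
  rcases hcent (g' * g) hv1 hv2 with e | e | e | e
  · have hg' : g' = g := by rw [← mul_one g', ← gg, ← mul_assoc, e, one_mul]
    subst hg'
    exact hbad (j • y) (Or.inr rfl) gf1 (by rw [sij]; exact gf2)
  · have hg' : g' = i * g := by rw [← mul_one g', ← gg, ← mul_assoc, e]
    have gj_s : ∀ x : Ω, g • j • x = i • j • g • x := fun x => by
      rw [← mul_smul, gj, mul_smul, mul_smul]
    have gy : g • y = i • y := by
      have h1 := gf1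
      rw [gj_s] at h1
      have h2 := congrArg (i • ·) h1
      simp only [si] at h2
      rw [sij] at h2
      exact MulAction.injective j h2
    refine hbad y (Or.inl rfl) ?_ ?_
    · rw [hg', mul_smul, gy, si]
    · rw [hg', mul_smul, gi_s, gy, si]
  · have hg' : g' = j * g := by rw [← mul_one g', ← gg, ← mul_assoc, e]
    refine hi1 ?_
    have h1 := gg'
    rw [hg', show j * g * (j * g) = j * (g * j) * g by group, gj,
      show j * (i * j * g) * g = j * (i * j) * (g * g) by group, gg, mul_one, ij, ← mul_assoc, jj,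
      one_mul] at h1
    exact h1
  · have hg' : g' = i * j * g := by rw [← mul_one g', ← gg, ← mul_assoc, e]
    refine hi1 ?_
    have h1 := gg'
    rw [hg', show i * j * g * (i * j * g) = i * j * (g * i) * j * g by group, gi,
      show i * j * (i * g) * j * g = i * j * i * (g * j) * g by group, gj,
      show i * j * i * (i * j * g) * g = i * j * (i * i) * j * (g * g) by group, gg, ii, mul_one,
      mul_one, mul_assoc, jj, mul_one] at h1
    exact h1

end

/-- Tits' argument: a sharply 4-transitive group (no finiteness assumed) has finite degree at most 11, and at most 6 when the degree is even. -/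
theorem result {G : Type*} [Group G] {Ω : Type*} [MulAction G Ω] (h4 : MulAction.IsMultiplyPretransitive G Ω 4) (hsharp : ∀ x : Fin 4 ↪ Ω, MulAction.stabilizer G x = ⊥) (hne : Nonempty (Fin 4 ↪ Ω)) : Finite Ω ∧ Nat.card Ω ≤ 11 ∧ (Even (Nat.card Ω) → Nat.card Ω ≤ 6) := by
  classical
  rcases finite_or_infinite Ω with hfin | hinf
  · obtain ⟨e₀⟩ := hne
    let _ := Fintype.ofFinite Ω
    have hn4 : 4 ≤ Fintype.card Ω := by
      have := Fintype.card_le_of_embedding e₀
      simpa using this
    refine ⟨hfin, ?_⟩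
    rw [Nat.card_eq_fintype_card]
    rcases Nat.eq_or_lt_of_le hn4 with hn | hn
    · exact ⟨by omega, fun _ => by omega⟩
    let H : Subgroup (Equiv.Perm Ω) := (MulAction.toPermHom G Ω).range
    have hT : Trans H 4 := by
      intro S f hS hf
      obtain ⟨g, hg, hg'⟩ : ∃ g : Equiv.Perm Ω, g ∈ H ∧ ∀ x ∈ S, g x = f x := by
        obtain ⟨S', hSS', -, hS'⟩ := Finset.exists_subsuperset_card_eq (Finset.subset_univ S) hS
          (by rw [Finset.card_univ]; exact hn4)
        obtain ⟨τ, hτ⟩ := exists_perm_eq_on hf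
        obtain ⟨a, b, c, d, h1, h2, h3, h5, h6, h7, rfl⟩ := Finset.card_eq_four.1 hS'
        obtain ⟨g, ga, gb, gc, gd⟩ := lift4 h4 h1 h2 h3 h5 h6 h7 (τ.injective.ne h1)
          (τ.injective.ne h2) (τ.injective.ne h3) (τ.injective.ne h5) (τ.injective.ne h6)
          (τ.injective.ne h7)
        refine ⟨MulAction.toPermHom G Ω g, ⟨g, rfl⟩, fun x hx => ?_⟩
        rw [← hτ x hx]
        have hx' := hSS' hx
        simp only [Finset.mem_insert, Finset.mem_singleton] at hx'
        rcases hx' with rfl | rfl | rfl | rfl <;> assumption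
      exact ⟨g, hg, hg'⟩
    have htriv : ∀ S : Finset Ω, S.card = 4 → fixer H S = ⊥ := by
      intro S hS
      obtain ⟨a, b, c, d, h1, h2, h3, h5, h6, h7, rfl⟩ := Finset.card_eq_four.1 hS
      refine (Subgroup.eq_bot_iff_forall _).2 ?_
      rintro σ hσ
      obtain ⟨⟨g, rfl⟩, hfix⟩ := mem_fixer.1 hσ
      rw [eq4 hsharp h1 h2 h3 h5 h6 h7 (g := g) (h := 1) (by rw [one_smul]; exact hfix a (by simp))
        (by rw [one_smul]; exact hfix b (by simp)) (by rw [one_smul]; exact hfix c (by simp))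
        (by rw [one_smul]; exact hfix d (by simp)), map_one]
    rcases hall (le_refl 4) hT (X := ∅) rfl hn (fun g hg hc => by
        obtain ⟨S, hS, hSc⟩ := Finset.exists_subset_card_eq (s := fix g) (n := 4) (by omega)
        have hm : g ∈ fixer H S := mem_fixer.2 ⟨hg, fun x hx => mem_fix.1 (hS hx)⟩
        rwa [htriv S hSc, Subgroup.mem_bot] at hm)
      (fun S hS => by rw [htriv S hS, Subgroup.card_bot]; exact odd_one) with
      h | ⟨h, -⟩ | ⟨h, hk⟩ | ⟨h, -⟩
    · exact ⟨by omega, fun _ => by omega⟩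
    · exact ⟨by omega, fun _ => by omega⟩
    · exact ⟨by omega, fun he => by rw [h] at he; exact absurd he (by decide)⟩
    · exact ⟨by omega, fun he => by rw [h] at he; exact absurd he (by decide)⟩
  · exact (not_infinite h4 hsharp).elim

end Cfsg.Agent.S0708
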