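import Cfsg.Statements.S0709
import Mathlib

set_option autoImplicit false
open Cfsg

namespace Cfsg.Agent.S0709

/-- Witt's Lemma for constructing transitive extensions. Points `q 1, …, q t` (`t ≥ 2`) of a finite set are given; `G` fixes `q i` for `i ≥ 3` and is doubly transitive on the remaining points; `s 1 ∈ G` swaps `q 1, q 2`; for `2 ≤ i ≤ t-1`, `s i` swaps `q i, q (i+1)` and fixes the other `q j`; with `H` the stabiliser of `q 1, q 2` in `G`: `s i ^ 2 ∈ H`, `(s i * s (i+1)) ^ 3 ∈ H`, `(s i * s j) ^ 2 ∈ H` for `j ≥ i + 2`, and `s i` (`i ≥ 2`) normalises the stabiliser of `q 2` in `G`. Then `G` and the `s i` generate a `t`-transitive group whose pointwise stabiliser of the `q`'s is `H`. -/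
theorem result {α : Type*} [Fintype α] [DecidableEq α] (t : ℕ) (ht : 2 ≤ t) (q : ℕ → α) (hq : ∀ i j : ℕ, 1 ≤ i → i ≤ t → 1 ≤ j → j ≤ t → q i = q j → i = j) (G : Subgroup (Equiv.Perm α)) (hfix : ∀ g ∈ G, ∀ i : ℕ, 3 ≤ i → i ≤ t → g (q i) = q i) (h2 : ∀ a b c d : α, (∀ i, 3 ≤ i → i ≤ t → a ≠ q i ∧ b ≠ q i ∧ c ≠ q i ∧ d ≠ q i) → a ≠ b → c ≠ d → ∃ g ∈ G, g a = c ∧ g b = d) (s : ℕ → Equiv.Perm α) (hs1 : s 1 ∈ G) (hs1q : s 1 (q 1) = q 2 ∧ s 1 (q 2) = q 1) (hsq : ∀ i : ℕ, 2 ≤ i → i + 1 ≤ t → s i (q i) = q (i + 1) ∧ s i (q (i + 1)) = q i ∧ ∀ j : ℕ, 1 ≤ j → j ≤ t → j ≠ i → j ≠ i + 1 → s i (q j) = q j) (H : Subgroup (Equiv.Perm α)) (hH : H = G ⊓ MulAction.stabilizer (Equiv.Perm α) (q 1) ⊓ MulAction.stabilizer (Equiv.Perm α) (q 2)) (hsq2 : ∀ i : ℕ, 1 ≤ i → i + 1 ≤ t → s i ^ 2 ∈ H) (hbraid : ∀ i : ℕ, 1 ≤ i → i + 2 ≤ t → (s i * s (i + 1)) ^ 3 ∈ H) (hcomm : ∀ i j : ℕ, 1 ≤ i → i + 2 ≤ j → j + 1 ≤ t → (s i * s j) ^ 2 ∈ H ∧ (s j * s i) ^ 2 ∈ H) (hnorm :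 ∀ i : ℕ, 2 ≤ i → i + 1 ≤ t → ∀ g ∈ G ⊓ MulAction.stabilizer (Equiv.Perm α) (q 2), s i * g * (s i)⁻¹ ∈ G ⊓ MulAction.stabilizer (Equiv.Perm α) (q 2)) : MulAction.IsMultiplyPretransitive ↥(Subgroup.closure ((G : Set (Equiv.Perm α)) ∪ {x | ∃ i : ℕ, 2 ≤ i ∧ i + 1 ≤ t ∧ x = s i})) α t ∧ Subgroup.closure ((G : Set (Equiv.Perm α)) ∪ {x | ∃ i : ℕ, 2 ≤ i ∧ i + 1 ≤ t ∧ x = s i}) ⊓ fixingSubgroup (Equiv.Perm α) {x | ∃ i : ℕ, 1 ≤ i ∧ i ≤ t ∧ x = q i} = H := by
  classical
  obtain ⟨hs1a, hs1b⟩ := hs1q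
  let K : Subgroup (Equiv.Perm α) := G ⊓ MulAction.stabilizer (Equiv.Perm α) (q 2)
  have hKmem : ∀ g, g ∈ K ↔ g ∈ G ∧ g (q 2) = q 2 := fun g => Iff.rfl
  have hHmem : ∀ g, g ∈ H ↔ g ∈ K ∧ g (q 1) = q 1 := fun g => by
    rw [hH, hKmem]
    exact ⟨fun h => ⟨⟨h.1.1, h.2⟩, h.1.2⟩, fun h => ⟨⟨h.1.1, h.2⟩, h.1.2⟩⟩
  let L : ℕ → Subgroup (Equiv.Perm α) := fun j =>
    Subgroup.closure ((K : Set (Equiv.Perm α)) ∪ {x | ∃ i, 1 ≤ i ∧ i + 1 ≤ j ∧ x = s i})
  have hKL : ∀ j, K ≤ L j := fun j g hg => Subgroup.subset_closure (Or.inl hg)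
  have hsL : ∀ i j, 1 ≤ i → i + 1 ≤ j → s i ∈ L j :=
    fun i j h1 h2 => Subgroup.subset_closure (Or.inr ⟨i, h1, h2, rfl⟩)
  have hmono : ∀ i j, i ≤ j → L i ≤ L j := fun i j h =>
    Subgroup.closure_mono (Set.union_subset_union le_rfl fun x ⟨l, h1, h2, h3⟩ =>
      ⟨l, h1, h2.trans h, h3⟩)
  have hL1 : L 1 = K := by
    refine le_antisymm ((Subgroup.closure_le _).2 ?_) (hKL 1)
    rintro x (hx | ⟨i, h1, h2, -⟩)
    · exact hx
    · omega
  let R : ℕ → α → Prop := fun j x => ∀ i, j < i → i ≤ t → x ≠ q i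
  have hqR : ∀ i j, 1 ≤ i → i ≤ j → i ≤ t → R j (q i) := fun i j h1 h2 h3 l hl hlt h => by
    have := hq i l h1 h3 (by omega) hlt h; omega
  have hR2 : ∀ x, R 2 x → ∀ i, 3 ≤ i → i ≤ t → x ≠ q i := fun x hx i h => hx i h
  have hLfix : ∀ j i, 1 ≤ j → j < i → i ≤ t → ∀ g ∈ L j, g (q i) = q i := by
    intro j i hj hji hit g hg
    induction hg using Subgroup.closure_induction with
    | mem x hx =>
      rcases hx with hx | ⟨l, h1, h2, rfl⟩
      · rcases eq_or_ne i 2 with rfl | hi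
        · exact ((hKmem x).1 hx).2
        · exact hfix x ((hKmem x).1 hx).1 i (by omega) hit
      · rcases eq_or_ne l 1 with rfl | hl
        · exact hfix _ hs1 i (by omega) hit
        · exact (hsq l (by omega) (by omega)).2.2 i (by omega) hit (by omega) (by omega)
    | one => rfl
    | mul x y _ _ hx hy => rw [Equiv.Perm.mul_apply, hy, hx]
    | inv x _ hx => rw [Equiv.Perm.inv_eq_iff_eq, hx]
  -- transitivity of `K`
  have hKtr : ∀ x y, R 1 x → R 1 y → ∃ g ∈ K, g x = y := by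
    intro x y hx hy
    obtain ⟨g, hg, h1, h2'⟩ := h2 x (q 2) y (q 2)
      (fun i h3 hi => ⟨hx i (by omega) hi, hqR 2 2 (by norm_num) le_rfl ht i (by omega) hi,
        hy i (by omega) hi, hqR 2 2 (by norm_num) le_rfl ht i (by omega) hi⟩)
      (hx 2 (by norm_num) ht) (hy 2 (by norm_num) ht)
    exact ⟨g, (hKmem g).2 ⟨hg, h2'⟩, h1⟩
  -- the decomposition of `G`
  have hGdec : ∀ g ∈ G, g ∈ K ∨ ∃ a ∈ K, ∃ b ∈ K, g = a * s 1 * b := by
    intro g hg
    by_cases hgq : g (q 2) = q 2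
    · exact Or.inl ((hKmem g).2 ⟨hg, hgq⟩)
    right
    have hgR : R 1 (g (q 2)) := by
      intro i hi hit h
      rcases eq_or_ne i 2 with rfl | hi2
      · exact hgq h
      · exact hi2 (hq i 2 (by omega) hit (by norm_num) ht
          (g.injective ((hfix g hg i (by omega) hit).trans h.symm)))
    obtain ⟨a, ha, ha'⟩ := hKtr (q 1) _ (hqR 1 1 le_rfl le_rfl (by omega)) hgR
    refine ⟨a, ha, (a * s 1)⁻¹ * g,
      (hKmem _).2 ⟨mul_mem (inv_mem (mul_mem ((hKmem a).1 ha).1 hs1)) hg, ?_⟩, by group⟩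
    rw [Equiv.Perm.mul_apply, Equiv.Perm.inv_eq_iff_eq, Equiv.Perm.mul_apply, hs1b, ha']
  have hL2 : L 2 = G := by
    refine le_antisymm ((Subgroup.closure_le _).2 ?_) fun g hg => ?_
    · rintro x (hx | ⟨i, h1, h2', rfl⟩)
      · exact ((hKmem x).1 hx).1
      · rwa [show i = 1 by omega]
    · rcases hGdec g hg with h | ⟨a, ha, b, hb, rfl⟩
      · exact hKL 2 h
      · exact mul_mem (mul_mem (hKL 2 ha) (hsL 1 2 le_rfl le_rfl)) (hKL 2 hb)
  -- all `s i` normalise `H`
  have hsH : ∀ i, 1 ≤ i → i + 1 ≤ t → ∀ h ∈ H, s i * h * (s i)⁻¹ ∈ H := by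
    intro i h1 hi h hh
    obtain ⟨hhK, hh1⟩ := (hHmem h).1 hh
    obtain ⟨hhG, hh2⟩ := (hKmem h).1 hhK
    rcases eq_or_ne i 1 with rfl | hi1
    · have e1 : (s 1)⁻¹ (q 1) = q 2 := by rw [Equiv.Perm.inv_eq_iff_eq, hs1b]
      have e2 : (s 1)⁻¹ (q 2) = q 1 := by rw [Equiv.Perm.inv_eq_iff_eq, hs1a]
      refine (hHmem _).2 ⟨(hKmem _).2 ⟨mul_mem (mul_mem hs1 hhG) (inv_mem hs1), ?_⟩, ?_⟩
      · rw [Equiv.Perm.mul_apply, Equiv.Perm.mul_apply, e2, hh1, hs1a]
      · rw [Equiv.Perm.mul_apply, Equiv.Perm.mul_apply, e1, hh2, hs1b]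
    · have hk := hnorm i (by omega) hi h hhK
      have e1 : s i (q 1) = q 1 := (hsq i (by omega) hi).2.2 1 le_rfl (by omega) (by omega) (by omega)
      refine (hHmem _).2 ⟨hk, ?_⟩
      rw [Equiv.Perm.mul_apply, Equiv.Perm.mul_apply,
        show (s i)⁻¹ (q 1) = q 1 by rw [Equiv.Perm.inv_eq_iff_eq, e1], hh1, e1]
  have hHK : ∀ h ∈ H, h ∈ K := fun h hh => ((hHmem h).1 hh).1
  -- `s j` normalises `L (j - 1)`
  have hnL : ∀ j, 2 ≤ j → j + 1 ≤ t → ∀ a ∈ L (j - 1), s j * a * (s j)⁻¹ ∈ L (j - 1) := by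
    intro j hj hjt a ha
    induction ha using Subgroup.closure_induction with
    | mem x hx =>
      rcases hx with hx | ⟨l, h1, h2', rfl⟩
      · exact hKL _ (hnorm j hj hjt x hx)
      · have hc := (hcomm l j h1 (by omega) hjt).1
        have e : s j * s l * (s j)⁻¹ =
            (s l)⁻¹ * ((s l * s j) ^ 2 * (s j ^ 2)⁻¹) := by
          simp only [sq]; group
        rw [e]
        exact mul_mem (inv_mem (hsL l _ h1 h2'))
          (hKL _ (hHK _ (mul_mem hc (inv_mem (hsq2 j (by omega) hjt)))))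
    | one => simp
    | mul x y _ _ hx hy =>
      rw [show s j * (x * y) * (s j)⁻¹ = (s j * x * (s j)⁻¹) * (s j * y * (s j)⁻¹) by group]
      exact mul_mem hx hy
    | inv x _ hx =>
      rw [show s j * x⁻¹ * (s j)⁻¹ = (s j * x * (s j)⁻¹)⁻¹ by group]
      exact inv_mem hx
  -- the double coset decomposition
  have hdec : ∀ j, 1 ≤ j → j + 1 ≤ t → ∀ g ∈ L (j + 1),
      g ∈ L j ∨ ∃ a ∈ L j, ∃ b ∈ L j, g = a * s j * b := by
    intro j hj
    induction j, hj using Nat.le_induction with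
    | base =>
      intro _ g hg
      rw [hL1]
      exact hGdec g (hL2 ▸ hg)
    | succ j hj ih =>
      intro hjt g hg
      have ih' := ih (by omega)
      -- the set is closed under multiplication
      have hX : ∀ c ∈ L (j + 1), s (j + 1) * c * s (j + 1) ∈ L (j + 1) ∨
          ∃ a ∈ L (j + 1), ∃ b ∈ L (j + 1), s (j + 1) * c * s (j + 1) = a * s (j + 1) * b := by
        intro c hc
        have hn : ∀ a ∈ L j, s (j + 1) * a * (s (j + 1))⁻¹ ∈ L j := fun a ha => by
          have := hnL (j + 1) (by omega) hjt a (by simpa using ha)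
          simpa using this
        have hh2 : s (j + 1) ^ 2 ∈ L j := hKL _ (hHK _ (hsq2 (j + 1) (by omega) hjt))
        rcases ih' c hc with hc' | ⟨a, ha, b, hb, rfl⟩
        · left
          rw [show s (j + 1) * c * s (j + 1) = (s (j + 1) * c * (s (j + 1))⁻¹) * s (j + 1) ^ 2 by
            rw [sq]; group]
          exact hmono j (j + 1) (by omega) (mul_mem (hn c hc') hh2)
        · right
          have hb2 : (s (j + 1))⁻¹ * b * s (j + 1) ∈ L j := by
            rw [show (s (j + 1))⁻¹ * b * s (j + 1) =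
              (s (j + 1) ^ 2)⁻¹ * (s (j + 1) * b * (s (j + 1))⁻¹) * s (j + 1) ^ 2 by
                rw [sq]; group]
            exact mul_mem (mul_mem (inv_mem hh2) (hn b hb)) hh2
          have hh : s (j + 1) * s j * s (j + 1) * (s j * s (j + 1) * s j)⁻¹ ∈ H := by
            have h1 : s j ^ 2 ∈ H := hsq2 j hj (by omega)
            have h2'' : s (j + 1) ^ 2 ∈ H := hsq2 (j + 1) (by omega) hjt
            have h3 := hbraid j hj (by omega)
            have hconj : ∀ x ∈ H, (s j)⁻¹ * x * s j ∈ H := fun x hx => by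
              rw [show (s j)⁻¹ * x * s j = (s j ^ 2)⁻¹ * (s j * x * (s j)⁻¹) * s j ^ 2 by
                rw [sq]; group]
              exact mul_mem (mul_mem (inv_mem h1) (hsH j hj (by omega) x hx)) h1
            have hconj1 : ∀ x ∈ H, (s (j + 1))⁻¹ * x * s (j + 1) ∈ H := fun x hx => by
              rw [show (s (j + 1))⁻¹ * x * s (j + 1) =
                (s (j + 1) ^ 2)⁻¹ * (s (j + 1) * x * (s (j + 1))⁻¹) * s (j + 1) ^ 2 by
                rw [sq]; group]
              exact mul_mem (mul_mem (inv_mem h2'') (hsH (j + 1) (by omega) hjt x hx)) h2''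
            have e : s (j + 1) * s j * s (j + 1) * (s j * s (j + 1) * s j)⁻¹ =
                ((s j)⁻¹ * (s j * s (j + 1)) ^ 3 * s j) *
                  (s j)⁻¹ * ((s (j + 1))⁻¹ * (s j ^ 2)⁻¹ * s (j + 1)) * s j *
                  ((s j)⁻¹ * (s (j + 1) ^ 2)⁻¹ * s j) * (s j ^ 2)⁻¹ := by
              simp only [pow_succ, pow_zero, one_mul]
              group
            rw [e]
            refine mul_mem (mul_mem ?_ (hconj _ (inv_mem h2''))) (inv_mem h1)
            rw [show ∀ x y : Equiv.Perm α, x * (s j)⁻¹ * y * s j = x * ((s j)⁻¹ * y * s j) from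
              fun x y => by group]
            exact mul_mem (hconj _ h3) (hconj _ (hconj1 _ (inv_mem h1)))
          refine ⟨(s (j + 1) * a * (s (j + 1))⁻¹) *
              (s (j + 1) * s j * s (j + 1) * (s j * s (j + 1) * s j)⁻¹) * s j, ?_,
            s j * ((s (j + 1))⁻¹ * b * s (j + 1)), ?_, by group⟩
          · exact mul_mem (mul_mem (hmono j _ (by omega) (hn a ha)) (hKL _ (hHK _ hh)))
              (hsL j _ hj (by omega))
          · exact mul_mem (hsL j _ hj (by omega)) (hmono j _ (by omega) hb2)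
      induction hg using Subgroup.closure_induction with
      | mem x hx =>
        rcases hx with hx | ⟨l, h1, h2', rfl⟩
        · exact Or.inl (hKL _ hx)
        · rcases Nat.lt_or_ge l (j + 1) with hl | hl
          · exact Or.inl (hsL l _ h1 (by omega))
          · right
            refine ⟨1, one_mem _, 1, one_mem _, ?_⟩
            rw [show l = j + 1 by omega, one_mul, mul_one]
      | one => exact Or.inl (one_mem _)
      | mul x y _ _ hx hy =>
        rcases hx with hx | ⟨a, ha, b, hb, rfl⟩ <;> rcases hy with hy | ⟨c, hc, d, hd, rfl⟩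
        · exact Or.inl (mul_mem hx hy)
        · exact Or.inr ⟨x * c, mul_mem hx hc, d, hd, by group⟩
        · exact Or.inr ⟨a, ha, b * y, mul_mem hb hy, by group⟩
        · rcases hX (b * c) (mul_mem hb hc) with h | ⟨u, hu, v, hv, huv⟩
          · left
            rw [show a * s (j + 1) * b * (c * s (j + 1) * d) =
              a * (s (j + 1) * (b * c) * s (j + 1)) * d by group]
            exact mul_mem (mul_mem ha h) hd
          · refine Or.inr ⟨a * u, mul_mem ha hu, v * d, mul_mem hv hd, ?_⟩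
            rw [show a * s (j + 1) * b * (c * s (j + 1) * d) =
              a * (s (j + 1) * (b * c) * s (j + 1)) * d by group, huv]
            group
      | inv x _ hx =>
        rcases hx with hx | ⟨a, ha, b, hb, rfl⟩
        · exact Or.inl (inv_mem hx)
        · refine Or.inr ⟨b⁻¹ * (s (j + 1) ^ 2)⁻¹, ?_, a⁻¹, inv_mem ha, ?_⟩
          · exact mul_mem (inv_mem hb) (inv_mem (hKL _ (hHK _ (hsq2 (j + 1) (by omega) hjt))))
          · rw [sq]; group
  -- stabiliser of `q (j + 1)` in `L (j + 1)`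
  have hstab : ∀ j, 1 ≤ j → j + 1 ≤ t → ∀ g ∈ L (j + 1), g (q (j + 1)) = q (j + 1) → g ∈ L j := by
    intro j hj hjt g hg hgq
    rcases hdec j hj hjt g hg with h | ⟨a, ha, b, hb, rfl⟩
    · exact h
    exfalso
    have e : s j (q (j + 1)) = q j := by
      rcases eq_or_ne j 1 with rfl | h
      · exact hs1b
      · exact (hsq j (by omega) hjt).2.1
    rw [Equiv.Perm.mul_apply, Equiv.Perm.mul_apply, hLfix j _ hj (Nat.lt_succ_self j) hjt b hb,
      e] at hgq
    have := hq j (j + 1) hj (by omega) (by omega) hjt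
      (a.injective (hgq.trans (hLfix j _ hj (Nat.lt_succ_self j) hjt a ha).symm))
    omega
  -- `L j` can move any point of `R j` to `q j`
  have htr : ∀ j, 1 ≤ j → j ≤ t → ∀ x, R j x → ∃ g ∈ L j, g x = q j := by
    intro j hj
    induction j, hj using Nat.le_induction with
    | base =>
      intro _ x hx
      obtain ⟨g, hg, hg'⟩ := hKtr x (q 1) hx (hqR 1 1 le_rfl le_rfl (by omega))
      exact ⟨g, hKL 1 hg, hg'⟩
    | succ j hj ih =>
      intro hjt x hx
      by_cases hxq : x = q (j + 1)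
      · exact ⟨1, one_mem _, by simp [hxq]⟩
      obtain ⟨g, hg, hg'⟩ := ih (by omega) x (fun i hi hit => by
        rcases eq_or_ne i (j + 1) with rfl | h
        · exact hxq
        · exact hx i (by omega) hit)
      refine ⟨s j * g, mul_mem (hsL j _ hj le_rfl) (hmono j _ (by omega) hg), ?_⟩
      rw [Equiv.Perm.mul_apply, hg']
      rcases eq_or_ne j 1 with rfl | h
      · exact hs1a
      · exact (hsq j (by omega) hjt).1
  have hmap : ∀ j, j ≤ t → ∀ x : ℕ → α, (∀ i, 1 ≤ i → i ≤ j → R j (x i)) →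
      (∀ i l, 1 ≤ i → i ≤ j → 1 ≤ l → l ≤ j → x i = x l → i = l) →
      ∃ g ∈ L j, ∀ i, 1 ≤ i → i ≤ j → g (x i) = q i := by
    intro j
    induction j with
    | zero => exact fun _ x _ _ => ⟨1, one_mem _, fun i h1 h2' => by omega⟩
    | succ j ih =>
      intro hjt x hx hinj
      obtain ⟨g, hg, hg'⟩ := htr (j + 1) (by omega) hjt (x (j + 1)) (hx (j + 1) (by omega) le_rfl)
      obtain ⟨f, hf, hf'⟩ : ∃ f ∈ L j, (∀ i, 1 ≤ i → i ≤ j → f (g (x i)) = q i) := ih (by omega) (fun i => g (x i)) (fun i h1 h2' l hl hlt h => by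
          rcases eq_or_ne l (j + 1) with rfl | hl'
          · have := hinj i (j + 1) h1 (by omega) (by omega) le_rfl
              (g.injective (h.trans hg'.symm))
            omega
          · exact hx i h1 (by omega) l (by omega) hlt
              (g.injective (h.trans (hLfix (j + 1) l (by omega) (by omega) hlt g hg).symm)))
        (fun i l a b c d h => hinj i l a (by omega) c (by omega) (g.injective h))
      rcases Nat.eq_zero_or_pos j with rfl | hjpos
      · exact ⟨g, hg, fun i h1 h2' => by rw [show i = 0 + 1 by omega]; exact hg'⟩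
      refine ⟨f * g, mul_mem (hmono j _ (by omega) hf) hg, fun i h1 h2' => ?_⟩
      rw [Equiv.Perm.mul_apply]
      rcases eq_or_ne i (j + 1) with rfl | h
      · rw [hg']
        exact hLfix j _ hjpos (Nat.lt_succ_self j) hjt f hf
      · exact hf' i h1 (by omega)
  have hM : Subgroup.closure ((G : Set (Equiv.Perm α)) ∪
      {x | ∃ i : ℕ, 2 ≤ i ∧ i + 1 ≤ t ∧ x = s i}) = L t := by
    refine le_antisymm ((Subgroup.closure_le _).2 ?_) ((Subgroup.closure_le _).2 ?_)
    · rintro x (hx | ⟨i, h1, h2', rfl⟩)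
      · exact hmono 2 t ht (hL2 ▸ hx)
      · exact hsL i t (by omega) h2'
    · rintro x (hx | ⟨i, h1, h2', rfl⟩)
      · exact Subgroup.subset_closure (Or.inl ((hKmem x).1 hx).1)
      · rcases eq_or_ne i 1 with rfl | h
        · exact Subgroup.subset_closure (Or.inl hs1)
        · exact Subgroup.subset_closure (Or.inr ⟨i, by omega, h2', rfl⟩)
  rw [hM]
  refine ⟨⟨fun x y => ?_⟩, ?_⟩
  · have key : ∀ z : Fin t ↪ α, ∃ g ∈ L t, ∀ i : Fin t, g (z i) = q (i.1 + 1) := by
      intro z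
      obtain ⟨g, hg, hg'⟩ := hmap t le_rfl (fun i => z ⟨(i - 1) % t, Nat.mod_lt _ (by omega)⟩)
        (fun i _ _ l hl hlt => by omega) (fun i l h1 h2' h3 h4 h => by
          have h5 : (i - 1) % t = (l - 1) % t := congrArg Fin.val (z.injective h)
          rw [Nat.mod_eq_of_lt (by omega), Nat.mod_eq_of_lt (by omega)] at h5
          omega)
      refine ⟨g, hg, fun i => ?_⟩
      have := hg' (i.1 + 1) (by omega) i.2
      simpa [Nat.mod_eq_of_lt i.2] using this
    obtain ⟨g, hg, hg'⟩ := key x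
    obtain ⟨f, hf, hf'⟩ := key y
    refine ⟨⟨f⁻¹ * g, mul_mem (inv_mem hf) hg⟩, ?_⟩
    ext i
    show f⁻¹ (g (x i)) = y i
    rw [Equiv.Perm.inv_eq_iff_eq, hg', hf']
  · ext g
    constructor
    · rintro ⟨hgL, hgF⟩
      have hgq : ∀ i, 1 ≤ i → i ≤ t → g (q i) = q i := fun i h1 h2' =>
        (mem_fixingSubgroup_iff _).1 hgF (q i) ⟨i, h1, h2', rfl⟩
      have : ∀ d, d + 1 ≤ t → g ∈ L (t - d) := by
        intro d
        induction d with
        | zero => exact fun _ => hgL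
        | succ d ih =>
          intro hd
          refine hstab (t - (d + 1)) (by omega) (by omega) g ?_ (hgq _ (by omega) (by omega))
          rw [show t - (d + 1) + 1 = t - d by omega]
          exact ih (by omega)
      have hK1 := this (t - 1) (by omega)
      rw [show t - (t - 1) = 1 by omega, hL1] at hK1
      exact (hHmem g).2 ⟨hK1, hgq 1 le_rfl (by omega)⟩
    · intro hg
      obtain ⟨hgK, hg1⟩ := (hHmem g).1 hg
      refine ⟨hKL t hgK, (mem_fixingSubgroup_iff _).2 ?_⟩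
      rintro x ⟨i, h1, h2', rfl⟩
      show g (q i) = q i
      rcases eq_or_ne i 1 with rfl | h
      · exact hg1
      · exact hLfix 1 i le_rfl (by omega) h2' g (hL1 ▸ hgK)

end Cfsg.Agent.S0709
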