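import Cfsg.Statements.S0710
import Mathlib

set_option autoImplicit false
open Cfsg

namespace Cfsg.Agent.S0710

/-- No transitive permutation group on 13 points has order `13 * 12 * 11 * 10 * 9 * 8`. -/
theorem result {α : Type*} [Fintype α] [DecidableEq α] (hα : Fintype.card α = 13) (G : Subgroup (Equiv.Perm α)) [MulAction.IsPretransitive G α] : Nat.card G ≠ 13 * 12 * 11 * 10 * 9 * 8 := by
  classical
  intro hG
  haveI : Fact (Nat.Prime 13) := ⟨by norm_num⟩
  obtain ⟨x, hx⟩ := exists_prime_orderOf_dvd_card' (G := G) 13 (by rw [hG]; norm_num)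
  have hx' : orderOf (x : Equiv.Perm α) = 13 := by rw [Subgroup.orderOf_coe, hx]
  have hcyc : (x : Equiv.Perm α).IsCycle :=
    Equiv.Perm.isCycle_of_prime_order'' (by rw [hα]; norm_num) (by rw [hx', hα])
  have hsupp : (x : Equiv.Perm α).support.card = 13 := by rw [← hcyc.orderOf, hx']
  have hcen : Nat.card (Subgroup.centralizer {(x : Equiv.Perm α)}) = 13 := by
    rw [Equiv.Perm.nat_card_centralizer, hcyc.cycleType, hsupp, hα]
    simp
  let H : Subgroup G := Subgroup.zpowers x
  have hH : Nat.card H = 13 := by rw [Nat.card_zpowers, hx]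
  have hCle : Nat.card (Subgroup.centralizer (H : Set G)) ≤ 13 := by
    rw [← hcen]
    refine Nat.card_le_card_of_injective
      (fun c => ⟨((c : G) : Equiv.Perm α), ?_⟩) ?_
    · rw [Subgroup.mem_centralizer_singleton_iff]
      exact congrArg Subtype.val
        (Subgroup.mem_centralizer_iff.1 c.2 x (Subgroup.mem_zpowers x)).symm
    · intro a b h
      exact Subtype.ext (Subtype.ext (congrArg (fun z : Subgroup.centralizer
        {(x : Equiv.Perm α)} => (z : Equiv.Perm α)) h))
  have hHC : H ≤ Subgroup.centralizer (H : Set G) := fun a ha => by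
    rw [Subgroup.mem_centralizer_iff]
    intro b hb
    obtain ⟨i, rfl⟩ := Subgroup.mem_zpowers_iff.1 ha
    obtain ⟨j, rfl⟩ := Subgroup.mem_zpowers_iff.1 hb
    exact zpow_mul_comm x j i
  have hC : Nat.card (Subgroup.centralizer (H : Set G)) = 13 :=
    le_antisymm hCle (hH ▸ Subgroup.card_le_of_le hHC)
  set N := Subgroup.normalizer (H : Set G)
  have hker : Nat.card H.normalizerMonoidHom.ker = 13 := by
    rw [Subgroup.normalizerMonoidHom_ker,
      Nat.card_congr (Subgroup.subgroupOfEquivOfLe (H := Subgroup.centralizer (H : Set G))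
        (K := N) (Subgroup.centralizer_le_normalizer (H : Set G))).toEquiv, hC]
  haveI : IsCyclic H := isCyclic_of_prime_card hH
  have hrange : Nat.card H.normalizerMonoidHom.range ∣ 12 := by
    have h := Subgroup.card_subgroup_dvd_card H.normalizerMonoidHom.range
    rwa [IsCyclic.card_mulAut, hH, Nat.totient_prime (by norm_num)] at h
  have hN : Nat.card N = 13 * Nat.card H.normalizerMonoidHom.range := by
    rw [Subgroup.card_eq_card_quotient_mul_card_subgroup H.normalizerMonoidHom.ker,
      Nat.card_congr (QuotientGroup.quotientKerEquivRange _).toEquiv, hker, mul_comm]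
  let P : Sylow 13 G := Sylow.ofCard H (by rw [hH, hG]; rw [show Nat.factorization (13 * 12 * 11 * 10 * 9 * 8) 13 = 1 by
    rw [show (13 * 12 * 11 * 10 * 9 * 8 : ℕ) = 13 * 95040 by norm_num,
      Nat.factorization_mul (by norm_num) (by norm_num)]
    simp [Nat.Prime.factorization (show Nat.Prime 13 by norm_num),
      Nat.factorization_eq_zero_of_not_dvd (show ¬ 13 ∣ 95040 by norm_num)]]; norm_num)
  have hmod : Nat.card (Sylow 13 G) ≡ 1 [MOD 13] := card_sylow_modEq_one 13 G
  have hidx : Nat.card (Sylow 13 G) = N.index := by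
    rw [P.card_eq_index_normalizer]; rfl
  have hmul := N.card_mul_index
  rw [hN, hG, ← hidx] at hmul
  set k := Nat.card H.normalizerMonoidHom.range
  set n := Nat.card (Sylow 13 G)
  have hk : k ∈ Nat.divisors 12 := Nat.mem_divisors.2 ⟨hrange, by norm_num⟩
  rw [show Nat.divisors 12 = {1, 2, 3, 4, 6, 12} by decide] at hk
  unfold Nat.ModEq at hmod
  simp only [Finset.mem_insert, Finset.mem_singleton] at hk
  rcases hk with h | h | h | h | h | h <;> rw [h] at hmul <;> omega

end Cfsg.Agent.S0710
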