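import Cfsg.Statements.S0711
import Mathlib

set_option autoImplicit false
open Cfsg

namespace Cfsg.Agent.S0711

section helpers

variable {α : Type*} [Fintype α] [DecidableEq α]

theorem exists_extend {G : Subgroup (Equiv.Perm α)} {k : ℕ}
    (hG : MulAction.IsMultiplyPretransitive G α k) (hkn : k ≤ Fintype.card α) (s : Finset α)
    (hs : s.card ≤ k) (f : α → α) (hf : Set.InjOn f s) :
    ∃ h ∈ G, ∀ x ∈ s, (h : Equiv.Perm α) x = f x := by
  haveI := hG
  haveI : MulAction.IsMultiplyPretransitive G α s.card :=
    MulAction.isMultiplyPretransitive_of_le (n := k) hs (by rw [Nat.card_eq_fintype_card]; exact hkn)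
  let e := s.equivFin
  let x₁ : Fin s.card ↪ α := e.symm.toEmbedding.trans (Function.Embedding.subtype _)
  let x₂ : Fin s.card ↪ α := ⟨fun i => f (e.symm i).1, fun i j hij =>
    e.symm.injective (Subtype.ext (hf (e.symm i).2 (e.symm j).2 hij))⟩
  obtain ⟨h, hh⟩ := MulAction.exists_smul_eq G x₁ x₂
  refine ⟨h, h.2, fun x hx => ?_⟩
  have := DFunLike.congr_fun hh (e ⟨x, hx⟩)
  simp [x₁, x₂, Subgroup.smul_def] at this
  rw [this]
  exact congrArg (fun z : s => f z.1) (e.symm_apply_apply ⟨x, hx⟩)

/-- The points of `A` whose image under `g` leaves `A`. -/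
def exits (g : Equiv.Perm α) (A : Finset α) : Finset α := A.filter fun x => g x ∉ A

theorem exists_segment (g : Equiv.Perm α) :
    ∀ a : ℕ, a ≤ g.support.card → ∃ A, A ⊆ g.support ∧ A.card = a ∧ (exits g A).card ≤ 1 := by
  intro a
  induction a with
  | zero => exact fun _ => ⟨∅, Finset.empty_subset _, rfl, by simp [exits]⟩
  | succ a ih =>
    intro ha
    obtain ⟨A, hA, hc, he⟩ := ih (by omega)
    by_cases hz : exits g A = ∅
    · obtain ⟨z, hz1, hz2⟩ := Finset.exists_mem_notMem_of_card_lt_card
        (show A.card < g.support.card by omega)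
      refine ⟨insert z A, Finset.insert_subset hz1 hA,
        by rw [Finset.card_insert_of_notMem hz2, hc],
        le_trans (Finset.card_le_card (t := {z}) ?_) (by simp)⟩
      intro x hx
      simp only [exits, Finset.mem_filter, Finset.mem_insert, not_or] at hx
      rcases hx.1 with h | h
      · simp [h]
      · exfalso
        have : x ∈ exits g A := Finset.mem_filter.2 ⟨h, hx.2.2⟩
        simp [hz] at this
    · obtain ⟨x₀, hx₀⟩ := Finset.nonempty_iff_ne_empty.2 hz
      obtain ⟨hxA, hxg⟩ := Finset.mem_filter.1 hx₀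
      refine ⟨insert (g x₀) A, Finset.insert_subset (Equiv.Perm.apply_mem_support.2 (hA hxA)) hA,
        by rw [Finset.card_insert_of_notMem hxg, hc],
        le_trans (Finset.card_le_card (t := {g x₀}) ?_) (by simp)⟩
      intro x hx
      simp only [exits, Finset.mem_filter, Finset.mem_insert, not_or] at hx
      rcases hx.1 with h | h
      · simp [h]
      · exfalso
        have : x ∈ exits g A := Finset.mem_filter.2 ⟨h, hx.2.2⟩
        exact hx.2.1 (by rw [Finset.card_le_one.1 he x this x₀ hx₀])

/-- The size of the support of `g⁻¹ h g h⁻¹`, for `h` fixing `A` and mapping `B` into the support. -/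
theorem card_support_commutator (g h : Equiv.Perm α) (A B : Finset α) (hA : A ⊆ g.support)
    (hB : B ⊆ g.support) (hfix : ∀ x ∈ A, h x = x) (hmap : ∀ x ∈ B, h x ∈ g.support) :
    (g⁻¹ * (h * g * h⁻¹)).support.card + ((A.card - (exits g A).card) + B.card) ≤
      2 * g.support.card := by
  set Ag := A.filter fun x => g x ∈ A with hAg
  have hsub : (g⁻¹ * (h * g * h⁻¹)).support ⊆
      (g.support \ Ag) ∪ (g.support \ B).image h := by
    intro x hx
    rw [Equiv.Perm.mem_support, Equiv.Perm.mul_apply] at hx
    have hne : (h * g * h⁻¹) x ≠ g x := fun e => hx (by rw [e]; exact g.symm_apply_apply x)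
    rw [Finset.mem_union, Finset.mem_sdiff, Finset.mem_image]
    by_cases hxs : x ∈ g.support
    · left
      refine ⟨hxs, fun hxa => hne ?_⟩
      obtain ⟨h1, h2⟩ := Finset.mem_filter.1 hxa
      have h3 : h⁻¹ x = x := by rw [Equiv.Perm.inv_eq_iff_eq]; exact (hfix x h1).symm
      rw [Equiv.Perm.mul_apply, Equiv.Perm.mul_apply, h3, hfix _ h2]
    · right
      have hy : h (h⁻¹ x) = x := h.apply_symm_apply x
      refine ⟨h⁻¹ x, Finset.mem_sdiff.2 ⟨?_, fun hb => hxs (hy ▸ hmap _ hb)⟩, hy⟩
      rw [Equiv.Perm.mem_support]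
      intro hg'
      apply hne
      rw [Equiv.Perm.mul_apply, Equiv.Perm.mul_apply, hg', hy,
        Equiv.Perm.notMem_support.1 hxs]
  have h1 := (Finset.card_le_card hsub).trans (Finset.card_union_le _ _)
  have h2 : ((g.support \ B).image h).card ≤ (g.support \ B).card := Finset.card_image_le
  have h3 : Ag.card + (exits g A).card = A.card :=
    Finset.card_filter_add_card_filter_not _
  rw [Finset.card_sdiff_of_subset ((Finset.filter_subset _ A).trans hA : Ag ⊆ g.support)] at h1
  rw [Finset.card_sdiff_of_subset hB] at h2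
  have := Finset.card_le_card hB
  have := Finset.card_le_card ((Finset.filter_subset _ A).trans hA : Ag ⊆ g.support)
  simp only [hAg] at *
  omega

theorem eq_top_of_full {G : Subgroup (Equiv.Perm α)}
    (hG : MulAction.IsMultiplyPretransitive G α (Fintype.card α)) (π : Equiv.Perm α) : π ∈ G := by
  obtain ⟨h, hh, hh'⟩ := exists_extend hG le_rfl Finset.univ (by simp) π (π.injective.injOn)
  rwa [← Equiv.ext (fun x => hh' x (Finset.mem_univ x))]

/-- An element moving at least four but fewer than `2k - 2` points can be shrunk. -/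
theorem exists_smaller {G : Subgroup (Equiv.Perm α)} {k : ℕ} (hkn : k ≤ Fintype.card α)
    (hG : MulAction.IsMultiplyPretransitive G α k) (g : Equiv.Perm α) (hg : g ∈ G)
    (h4 : 4 ≤ g.support.card) (hsupp : g.support.card < 2 * k - 2) :
    ∃ c ∈ G, c ≠ 1 ∧ c.support.card < g.support.card := by
  set m := g.support.card with hm
  by_cases hfull : Fintype.card α = 4
  · have hk : k = Fintype.card α := by omega
    subst hk
    obtain ⟨a, b, hab⟩ := (Fintype.one_lt_card_iff (α := α)).1 (by omega)
    exact ⟨Equiv.swap a b, eq_top_of_full hG _, by simp [Equiv.swap_eq_one_iff, hab],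
      by rw [Equiv.Perm.card_support_swap hab]; omega⟩
  suffices h : ∃ h ∈ G, h * g * h⁻¹ ≠ g ∧ (g⁻¹ * (h * g * h⁻¹)).support.card < m by
    obtain ⟨h, hh, hne, hlt⟩ := h
    exact ⟨_, mul_mem (inv_mem hg) (mul_mem (mul_mem hh hg) (inv_mem hh)),
      fun e => hne (inv_mul_eq_one.1 e).symm, hlt⟩
  have hmn : m ≤ Fintype.card α := Finset.card_le_univ _
  rcases Nat.lt_or_ge m (Fintype.card α) with hlt | hge
  · -- there is a point outside the support
    obtain ⟨w, -, hw⟩ := Finset.exists_mem_notMem_of_card_lt_card
      (show g.support.card < (Finset.univ : Finset α).card by rw [Finset.card_univ]; exact hlt)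
    have houtside : ∀ A ⊆ g.support, A.card < m → A.card + 1 ≤ k →
        ∃ h ∈ G, h * g * h⁻¹ ≠ g ∧ (g⁻¹ * (h * g * h⁻¹)).support.card +
          ((A.card - (exits g A).card) + A.card) ≤ 2 * m := by
      intro A hA hAm hAk
      obtain ⟨y, hy, hyA⟩ := Finset.exists_mem_notMem_of_card_lt_card hAm
      obtain ⟨h, hh, hh'⟩ := exists_extend hG hkn (insert y A)
        (le_trans (Finset.card_insert_le _ _) hAk) (fun x => if x = y then w else x) (by
          intro p hp q hq hpq
          simp only [Finset.coe_insert, Set.mem_insert_iff, Finset.mem_coe] at hp hq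
          by_cases h1 : p = y <;> by_cases h2 : q = y
          · rw [h1, h2]
          · simp only [h1, h2, if_true, if_false] at hpq
            exact absurd (hA (hq.resolve_left h2)) (hpq ▸ hw)
          · simp only [h1, h2, if_true, if_false] at hpq
            exact absurd (hA (hp.resolve_left h1)) (hpq ▸ hw)
          · simpa [h1, h2] using hpq)
      have hfix : ∀ x ∈ A, h x = x := fun x hx => by
        rw [hh' x (Finset.mem_insert_of_mem hx), if_neg (fun e : x = y => hyA (by rw [← e]; exact hx))]
      have hyw : h y = w := by rw [hh' y (Finset.mem_insert_self y A), if_pos rfl]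
      refine ⟨h, hh, fun e => ?_,
        card_support_commutator g h A A hA hA hfix (fun x hx => by rw [hfix x hx]; exact hA hx)⟩
      have h1 : (h * g * h⁻¹) w = g w := by rw [e]
      have h2 : h⁻¹ w = y := by rw [← hyw]; exact h.symm_apply_apply y
      rw [Equiv.Perm.mul_apply, Equiv.Perm.mul_apply, h2, Equiv.Perm.notMem_support.1 hw, ← hyw] at h1
      exact Equiv.Perm.mem_support.1 hy (h.injective h1)
    by_cases hm4 : m = 4
    · obtain ⟨A, hA, hAc, hAe⟩ := exists_segment g 3 (by omega)
      obtain ⟨h, hh, hne, hle⟩ := houtside A hA (by omega) (by omega)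
      exact ⟨h, hh, hne, by omega⟩
    obtain ⟨A, hA, hAc, hAe⟩ := exists_segment g (min k (m - 1) - 1) (by omega)
    by_cases hz : (exits g A).card = 0
    · obtain ⟨h, hh, hne, hle⟩ := houtside A hA (by omega) (by omega)
      exact ⟨h, hh, hne, by omega⟩
    obtain ⟨x₀, hx₀⟩ := Finset.card_pos.1 (Nat.pos_of_ne_zero hz)
    obtain ⟨hxA, hxg⟩ := Finset.mem_filter.1 hx₀
    have hys : g x₀ ∈ g.support := Equiv.Perm.apply_mem_support.2 (hA hxA)
    have hy : insert (g x₀) A ⊆ g.support := Finset.insert_subset hys hA
    have hyc : (insert (g x₀) A).card = A.card + 1 := Finset.card_insert_of_notMem hxg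
    obtain ⟨u, hu, huA⟩ := Finset.exists_mem_notMem_of_card_lt_card
      (show (insert (g x₀) A).card < g.support.card by omega)
    rw [Finset.mem_insert, not_or] at huA
    obtain ⟨h, hh, hh'⟩ := exists_extend hG hkn (insert (g x₀) A) (by omega)
      (fun x => if x = g x₀ then u else x) (by
        intro p hp q hq hpq
        simp only [Finset.coe_insert, Set.mem_insert_iff, Finset.mem_coe] at hp hq
        by_cases h1 : p = g x₀ <;> by_cases h2 : q = g x₀
        · rw [h1, h2]
        · simp only [h1, h2, if_true, if_false] at hpq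
          exact absurd (hq.resolve_left h2) (hpq ▸ huA.2)
        · simp only [h1, h2, if_true, if_false] at hpq
          exact absurd (hp.resolve_left h1) (hpq ▸ huA.2)
        · simpa [h1, h2] using hpq)
    have hfix : ∀ x ∈ A, h x = x := fun x hx => by
      rw [hh' x (Finset.mem_insert_of_mem hx), if_neg (fun e : x = g x₀ => hxg (by rw [← e]; exact hx))]
    have hyu : h (g x₀) = u := by rw [hh' _ (Finset.mem_insert_self _ A), if_pos rfl]
    refine ⟨h, hh, fun e => ?_, ?_⟩
    · have h1 : (h * g * h⁻¹) x₀ = g x₀ := by rw [e]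
      have h2 : h⁻¹ x₀ = x₀ := by rw [Equiv.Perm.inv_eq_iff_eq]; exact (hfix x₀ hxA).symm
      rw [Equiv.Perm.mul_apply, Equiv.Perm.mul_apply, h2, hyu] at h1
      exact huA.1 h1
    · have := card_support_commutator g h A (insert (g x₀) A) hA hy hfix (fun x hx => by
        rcases Finset.mem_insert.1 hx with rfl | hx
        · rw [hyu]; exact hu
        · rw [hfix x hx]; exact hA hx)
      omega
  · -- every point is moved
    have huniv : g.support = Finset.univ :=
      Finset.eq_univ_of_card _ (le_antisymm hmn hge)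
    have hmov : ∀ x, g x ≠ x := fun x => Equiv.Perm.mem_support.1 (huniv ▸ Finset.mem_univ x)
    have hn5 : 5 ≤ Fintype.card α := by omega
    obtain ⟨x₀⟩ : Nonempty α := Fintype.card_pos_iff.1 (by omega)
    obtain ⟨y, -, hy⟩ := Finset.exists_mem_notMem_of_card_lt_card
      (show ({x₀, g x₀, g⁻¹ x₀} : Finset α).card < (Finset.univ : Finset α).card by
        rw [Finset.card_univ]; exact lt_of_le_of_lt Finset.card_le_three (by omega))
    obtain ⟨w, -, hw⟩ := Finset.exists_mem_notMem_of_card_lt_card
      (show ({x₀, g x₀, y, g y} : Finset α).card < (Finset.univ : Finset α).card by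
        rw [Finset.card_univ]; exact lt_of_le_of_lt Finset.card_le_four (by omega))
    simp only [Finset.mem_insert, Finset.mem_singleton, not_or] at hy hw
    have hgy0 : g y ≠ x₀ := fun e => hy.2.2 (by rw [← e]; exact (g.symm_apply_apply y).symm)
    have hgy1 : g y ≠ g x₀ := fun e => hy.1 (g.injective e)
    obtain ⟨h, hh, hh'⟩ := exists_extend hG hkn {x₀, g x₀, y, g y}
      (le_trans Finset.card_le_four (by omega)) (fun x => if x = g y then w else x) (by
        intro p hp q hq hpq
        simp only [Finset.coe_insert, Finset.coe_singleton, Set.mem_insert_iff,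
          Set.mem_singleton_iff] at hp hq
        by_cases h1 : p = g y <;> by_cases h2 : q = g y
        · rw [h1, h2]
        · simp only [h1, h2, if_true, if_false] at hpq
          rcases hq with h | h | h | h
          · exact absurd (hpq.trans h) hw.1
          · exact absurd (hpq.trans h) hw.2.1
          · exact absurd (hpq.trans h) hw.2.2.1
          · exact absurd h h2
        · simp only [h1, h2, if_true, if_false] at hpq
          rcases hp with h | h | h | h
          · exact absurd (hpq.symm.trans h) hw.1
          · exact absurd (hpq.symm.trans h) hw.2.1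
          · exact absurd (hpq.symm.trans h) hw.2.2.1
          · exact absurd h h1
        · simpa [h1, h2] using hpq)
    have e0 : h x₀ = x₀ := by rw [hh' x₀ (by simp), if_neg (Ne.symm hgy0)]
    have e1 : h (g x₀) = g x₀ := by rw [hh' _ (by simp), if_neg (Ne.symm hgy1)]
    have e2 : h y = y := by rw [hh' y (by simp), if_neg (Ne.symm (hmov y))]
    have e3 : h (g y) = w := by rw [hh' _ (by simp), if_pos rfl]
    refine ⟨h, hh, fun e => ?_, ?_⟩
    · have h1 : (h * g * h⁻¹) y = g y := by rw [e]
      have h2 : h⁻¹ y = y := by rw [Equiv.Perm.inv_eq_iff_eq]; exact e2.symm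
      rw [Equiv.Perm.mul_apply, Equiv.Perm.mul_apply, h2, e3] at h1
      exact hw.2.2.2 h1
    · rw [hm, huniv]
      refine Finset.card_lt_card (Finset.ssubset_univ_iff.2 fun e => ?_)
      have h1 : x₀ ∈ (g⁻¹ * (h * g * h⁻¹)).support := by rw [e]; exact Finset.mem_univ _
      rw [Equiv.Perm.mem_support] at h1
      apply h1
      have h2 : h⁻¹ x₀ = x₀ := by rw [Equiv.Perm.inv_eq_iff_eq]; exact e0.symm
      rw [Equiv.Perm.mul_apply, Equiv.Perm.mul_apply, Equiv.Perm.mul_apply, h2, e1]
      exact g.symm_apply_apply x₀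

end helpers

/-- A `k`-transitive permutation group (`k ≥ 3`) with a non-identity element of support smaller than `2k - 2` contains a non-identity element of support at most 3, and therefore contains the alternating group. -/
theorem result {α : Type*} [Fintype α] [DecidableEq α] (G : Subgroup (Equiv.Perm α)) {k : ℕ} (hk : 3 ≤ k) (hkn : k ≤ Fintype.card α) (hG : MulAction.IsMultiplyPretransitive G α k) (g : Equiv.Perm α) (hg : g ∈ G) (hg1 : g ≠ 1) (hsupp : g.support.card < 2 * k - 2) : (∃ h : Equiv.Perm α, h ∈ G ∧ h ≠ 1 ∧ h.support.card ≤ 3) ∧ alternatingGroup α ≤ G := by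
  classical
  have hex : ∃ h : Equiv.Perm α, h ∈ G ∧ h ≠ 1 ∧ h.support.card ≤ 3 := by
    induction hm : g.support.card using Nat.strong_induction_on generalizing g with
    | _ m ih =>
      rcases Nat.lt_or_ge g.support.card 4 with h | h
      · exact ⟨g, hg, hg1, by omega⟩
      · obtain ⟨c, hc, hc1, hlt⟩ := exists_smaller hkn hG g hg h hsupp
        exact ih c.support.card (hm ▸ hlt) c hc hc1 (by omega) rfl
  refine ⟨hex, ?_⟩
  obtain ⟨h, hh, hh1, hh3⟩ := hex
  haveI := hG
  have h2 : MulAction.IsMultiplyPretransitive G α 2 :=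
    MulAction.isMultiplyPretransitive_of_le (n := k) (by omega) (by rw [Nat.card_eq_fintype_card]; exact hkn)
  have hprim : MulAction.IsPreprimitive G α := MulAction.isPreprimitive_of_is_two_pretransitive h2
  have h0 : h.support.card ≠ 0 := fun e => hh1 (Equiv.Perm.card_support_eq_zero.1 e)
  have h1 : h.support.card ≠ 1 := Equiv.Perm.card_support_ne_one h
  by_cases e2 : h.support.card = 2
  · rw [Equiv.Perm.subgroup_eq_top_of_isPreprimitive_of_isSwap_mem hprim h
      (Equiv.Perm.card_support_eq_two.1 e2) hh]
    exact le_top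
  · exact Equiv.Perm.alternatingGroup_le_of_isPreprimitive_of_isThreeCycle_mem hprim
      (card_support_eq_three_iff.1 (by omega)) hh

end Cfsg.Agent.S0711
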