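import Cfsg.Statements.S0716
import Cfsg.Agent.Lib.PermTrans.Constituents

set_option autoImplicit false
open Cfsg

namespace Cfsg.Agent.S0716

open MulAction
open Cfsg.Agent.Lib.Characters.Basic Cfsg.Agent.Lib.Characters.Complete
open Cfsg.Agent.Lib.Characters.Transitive Cfsg.Agent.Lib.Induced.Basic

/-- Orbits on pairs are suborbits. -/
theorem card_orbits_pairs {G : Type*} [Group G] {Ω : Type*} [MulAction G Ω] [IsPretransitive G Ω]
    (a : Ω) : Nat.card (orbitRel.Quotient (stabilizer G a) Ω) =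
      Nat.card (orbitRel.Quotient G (Ω × Ω)) := by
  refine Nat.card_congr (Equiv.ofBijective
    (Quotient.map' (fun b => (a, b)) fun b c h => ?_) ⟨fun p q => ?_, fun q => ?_⟩)
  · rw [orbitRel_apply] at h ⊢
    obtain ⟨g, rfl⟩ := h
    exact ⟨g.1, Prod.ext g.2 rfl⟩
  · induction p, q using Quotient.inductionOn₂' with
    | h b c =>
      intro h
      simp only [Quotient.map'_mk''] at h
      obtain ⟨g, hg⟩ := orbitRel_apply.1 (Quotient.eq''.1 h)
      exact Quotient.eq''.2 ⟨⟨g, congrArg Prod.fst hg⟩, congrArg Prod.snd hg⟩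
  · induction q using Quotient.inductionOn' with
    | h z =>
      obtain ⟨g, hg⟩ := exists_smul_eq G a z.1
      refine ⟨Quotient.mk'' (g⁻¹ • z.2), ?_⟩
      rw [Quotient.map'_mk'']
      refine Quotient.eq''.2 ⟨g⁻¹, Prod.ext ?_ rfl⟩
      simp [← hg]

/-- The subdegrees add up to the degree. -/
theorem sum_subdegrees {G : Type*} [Group G] {Ω : Type*} [Fintype Ω] [MulAction G Ω] (a : Ω)
    [Fintype (orbitRel.Quotient (stabilizer G a) Ω)] :
    ∑ q : orbitRel.Quotient (stabilizer G a) Ω, Nat.card q.orbit = Fintype.card Ω := by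
  rw [← Nat.card_sigma, ← Nat.card_congr (selfEquivSigmaOrbits' (stabilizer G a) Ω),
    Nat.card_eq_fintype_card]

/-- If the non-principal constituents all have degree `f`, the character is multiplicity-free and
all non-trivial subdegrees are `f`. -/
theorem main {G : Type*} [Group G] [Fintype G] {Ω : Type*} [Fintype Ω] [MulAction G Ω]
    [IsPretransitive G Ω] (a : Ω) (f : ℕ)
    (hf : ∀ χ : G → ℂ, Cfsg.IsIrrCharacter G χ → χ ≠ (fun _ => 1) →
      Cfsg.classInner (permChar Ω) χ ≠ 0 → χ 1 = f) :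
    (∀ χ : G → ℂ, Cfsg.IsIrrCharacter G χ →
      Cfsg.classInner (permChar Ω) χ = 0 ∨ Cfsg.classInner (permChar Ω) χ = 1) ∧
    ∀ b : Ω, b ≠ a → Nat.card (orbit (stabilizer G a) b) = f := by
  classical
  haveI : Nonempty Ω := ⟨a⟩
  have hπ : (Cfsg.permRep ℂ G Ω).character = permChar Ω :=
    Cfsg.Agent.Lib.PermTrans.Constituents.character_permRep
  have hchar : Cfsg.IsCharacter G (permChar Ω) := hπ ▸ isCharacter_character _
  have := Fintype.ofFinite (Cfsg.IrrCharacter G)
  have := Fintype.ofFinite (orbitRel.Quotient (stabilizer G a) Ω)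
  choose k hk using fun χ : Cfsg.IrrCharacter G => exists_classInner_nat hchar (isCharacter_irr χ)
  have h1 : k (oneChar G) = 1 := by
    have := hk (oneChar G)
    rw [show ((oneChar G : Cfsg.IrrCharacter G) : G → ℂ) = fun _ => 1 from rfl,
      classInner_permChar_one (G := G)] at this
    exact_mod_cast this.symm
  have hdec := classFunction_eq_sum (isClassFunction_of_isCharacter hchar)
  -- degree
  have hdeg : Fintype.card Ω = 1 + f * ∑ χ ∈ Finset.univ.erase (oneChar G), k χ := by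
    have h := congrFun hdec 1
    rw [show permChar Ω (1 : G) = (Fintype.card Ω : ℂ) by simp [permChar],
      Finset.sum_apply, ← Finset.add_sum_erase _ _ (Finset.mem_univ (oneChar G))] at h
    have h2 : ∀ χ ∈ Finset.univ.erase (oneChar G),
        (Cfsg.classInner (permChar Ω) (χ : G → ℂ) • (χ : G → ℂ)) 1 = ((f * k χ : ℕ) : ℂ) := by
      intro χ hχ
      rw [Pi.smul_apply, smul_eq_mul, hk]
      rcases Nat.eq_zero_or_pos (k χ) with h0 | h0
      · simp [h0]
      · rw [hf χ χ.2 (fun he => (Finset.mem_erase.1 hχ).1 (Subtype.ext he))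
          (by rw [hk]; exact Nat.cast_ne_zero.2 h0.ne')]
        push_cast; ring
    rw [Finset.sum_congr rfl h2, Pi.smul_apply, hk, h1, oneChar_apply, ← Nat.cast_sum,
      ← Finset.mul_sum, Nat.cast_one, one_smul] at h
    exact_mod_cast h
  -- rank
  have hrank : Fintype.card (orbitRel.Quotient (stabilizer G a) Ω) =
      1 + ∑ χ ∈ Finset.univ.erase (oneChar G), k χ * k χ := by
    have h : Cfsg.classInner (permChar (G := G) Ω) (permChar Ω) = ((∑ χ, k χ * k χ : ℕ) : ℂ) := by
      conv_lhs => arg 1; rw [hdec]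
      rw [classInner_sum_left, Nat.cast_sum]
      refine Finset.sum_congr rfl fun χ _ => ?_
      rw [classInner_smul_left, hk, ← classInner_conj_symm, hk, map_natCast, Nat.cast_mul]
    rw [classInner_permChar (G := G) Ω, ← card_orbits_pairs a, Nat.cast_inj, Nat.card_eq_fintype_card,
      ← Finset.add_sum_erase _ _ (Finset.mem_univ (oneChar G)), h1] at h
    exact h
  -- every non-trivial subdegree is a positive multiple of `f`
  set qa : orbitRel.Quotient (stabilizer G a) Ω := Quotient.mk'' a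
  have hqa : Nat.card qa.orbit = 1 := by
    rw [orbitRel.Quotient.orbit_mk, Nat.card_eq_one_iff_unique]
    exact ⟨⟨fun x y => Subtype.ext (by
      obtain ⟨g, hg⟩ := x.2
      obtain ⟨g', hg'⟩ := y.2
      rw [← hg, ← hg']
      exact g.2.trans g'.2.symm)⟩, ⟨⟨a, mem_orbit_self a⟩⟩⟩
  have hge : ∀ q ∈ Finset.univ.erase qa, f ≤ Nat.card q.orbit := by
    intro q hq
    induction q using Quotient.inductionOn' with
    | h b =>
      rw [orbitRel.Quotient.orbit_mk]
      have hba : a ≠ b := fun h => (Finset.mem_erase.1 hq).1 (by rw [← h])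
      have hd := Cfsg.Agent.Lib.PermTrans.Constituents.dvd_subdegree (G := G) f
        (fun χ c1 c2 => ⟨1, by rw [hf χ χ.2 c1 c2, Nat.cast_one, mul_one]⟩) a b hba
      exact Nat.le_of_dvd (Nat.card_pos_iff.2 ⟨⟨⟨b, mem_orbit_self b⟩⟩, inferInstance⟩) hd
  have hsum := sum_subdegrees (G := G) a
  rw [← Finset.add_sum_erase _ _ (Finset.mem_univ qa), hqa, hdeg] at hsum
  have hlow := Finset.card_nsmul_le_sum _ _ _ hge
  rw [Finset.card_erase_of_mem (Finset.mem_univ qa), Finset.card_univ, hrank, smul_eq_mul,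
    Nat.add_sub_cancel_left] at hlow
  have hsq : ∀ χ ∈ Finset.univ.erase (oneChar G), k χ ≤ k χ * k χ := fun χ _ => Nat.le_mul_self _
  have hsq' := Finset.sum_le_sum hsq
  rcases Nat.eq_zero_or_pos f with hf0 | hfpos
  · subst hf0
    have hall : ∀ χ ∈ Finset.univ.erase (oneChar G), k χ = 0 := fun χ hχ => by
      by_contra h0
      obtain ⟨n, hn', hn⟩ := exists_degree_pos χ
      have h := hf χ χ.2 (fun he => (Finset.mem_erase.1 hχ).1 (Subtype.ext he))
        (by rw [hk]; exact Nat.cast_ne_zero.2 h0)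
      rw [hn, Nat.cast_inj] at h
      omega
    refine ⟨fun χ hχ => ?_, fun b hb => ?_⟩
    · rcases eq_or_ne (⟨χ, hχ⟩ : Cfsg.IrrCharacter G) (oneChar G) with h | h
      · right
        rw [show χ = ((⟨χ, hχ⟩ : Cfsg.IrrCharacter G) : G → ℂ) from rfl, hk, h, h1, Nat.cast_one]
      · left
        rw [show χ = ((⟨χ, hχ⟩ : Cfsg.IrrCharacter G) : G → ℂ) from rfl, hk,
          hall _ (Finset.mem_erase.2 ⟨h, Finset.mem_univ _⟩), Nat.cast_zero]
    · exfalso
      rw [zero_mul, add_zero] at hdeg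
      haveI : Subsingleton Ω := Fintype.card_le_one_iff_subsingleton.1 hdeg.le
      exact hb (Subsingleton.elim _ _)
  have hle : ∑ χ ∈ Finset.univ.erase (oneChar G), k χ * k χ ≤
      ∑ χ ∈ Finset.univ.erase (oneChar G), k χ :=
    Nat.le_of_mul_le_mul_right (by rw [mul_comm _ f, mul_comm _ f] at *; omega) hfpos
  have heq := (Finset.sum_eq_sum_iff_of_le hsq).1 (le_antisymm hsq' hle)
  refine ⟨fun χ hχ => ?_, fun b hb => ?_⟩
  · rw [show χ = ((⟨χ, hχ⟩ : Cfsg.IrrCharacter G) : G → ℂ) from rfl, hk]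
    rcases eq_or_ne (⟨χ, hχ⟩ : Cfsg.IrrCharacter G) (oneChar G) with h | h
    · right; rw [h, h1, Nat.cast_one]
    · have h3 := heq _ (Finset.mem_erase.2 ⟨h, Finset.mem_univ _⟩)
      have : k ⟨χ, hχ⟩ ≤ 1 := by nlinarith
      norm_cast; omega
  · have hq : (Quotient.mk'' b : orbitRel.Quotient (stabilizer G a) Ω) ∈ Finset.univ.erase qa := by
      refine Finset.mem_erase.2 ⟨fun h => hb ?_, Finset.mem_univ _⟩
      obtain ⟨g, hg⟩ := orbitRel_apply.1 (Quotient.eq''.1 h)
      rw [← hg]; exact g.2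
    have hK : ∑ χ ∈ Finset.univ.erase (oneChar G), k χ =
        ∑ χ ∈ Finset.univ.erase (oneChar G), k χ * k χ := le_antisymm hsq' hle
    have htot : ∑ q ∈ Finset.univ.erase qa, f = ∑ q ∈ Finset.univ.erase qa, Nat.card q.orbit := by
      rw [Finset.sum_const, Finset.card_erase_of_mem (Finset.mem_univ qa), Finset.card_univ, hrank,
        smul_eq_mul, Nat.add_sub_cancel_left, ← hK, mul_comm]
      omega
    have h3 := (Finset.sum_eq_sum_iff_of_le hge).1 htot _ hq
    rw [orbitRel.Quotient.orbit_mk] at h3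
    exact h3.symm

/-- (a) If all non-principal irreducible constituents of the permutation character of a transitive group have the same degree `f`, the character is multiplicity-free and all non-trivial subdegrees equal `f`. (b) A transitive group of rank at most 5 has multiplicity-free permutation character. -/
theorem result {G : Type*} [Group G] [Fintype G] {Ω : Type*} [Fintype Ω] [MulAction G Ω] [MulAction.IsPretransitive G Ω] (a : Ω) : ((f : ℕ) → (∀ χ : G → ℂ, Cfsg.IsIrrCharacter G χ → χ ≠ (fun _ => 1) → Cfsg.classInner (fun g : G => (Nat.card (MulAction.fixedBy Ω g) : ℂ)) χ ≠ 0 → χ 1 = f) → (∀ χ : G → ℂ, Cfsg.IsIrrCharacter G χ → Cfsg.classInner (fun g : G => (Nat.card (MulAction.fixedBy Ω g) : ℂ)) χ = 0 ∨ Cfsg.classInner (fun g : G => (Nat.card (MulAction.fixedBy Ω g) : ℂ)) χ = 1) ∧ ∀ b : Ω, b ≠ a → Nat.card (MulAction.orbit (MulAction.stabilizer G a) b) = f) ∧ (Nat.card (MulAction.orbitRel.Quotient (MulAction.stabilizer G a) Ω) ≤ 5 → ∀ χ : G → ℂ, Cfsg.IsIrrCharacter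 G χ → Cfsg.classInner (fun g : G => (Nat.card (MulAction.fixedBy Ω g) : ℂ)) χ = 0 ∨ Cfsg.classInner (fun g : G => (Nat.card (MulAction.fixedBy Ω g) : ℂ)) χ = 1) := by
  classical
  refine ⟨fun f hf => main a f hf, fun hr χ hχ => ?_⟩
  have hπ : (Cfsg.permRep ℂ G Ω).character = permChar Ω :=
    Cfsg.Agent.Lib.PermTrans.Constituents.character_permRep
  haveI : Nonempty Ω := ⟨a⟩
  have hchar : Cfsg.IsCharacter G (permChar Ω) := hπ ▸ isCharacter_character _
  have := Fintype.ofFinite (Cfsg.IrrCharacter G)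
  choose k hk using fun χ : Cfsg.IrrCharacter G => exists_classInner_nat hchar (isCharacter_irr χ)
  let θ : Cfsg.IrrCharacter G := ⟨χ, hχ⟩
  change Cfsg.classInner (permChar Ω) (θ : G → ℂ) = 0 ∨ Cfsg.classInner (permChar Ω) (θ : G → ℂ) = 1
  rw [hk]
  rcases Nat.lt_or_ge (k θ) 2 with h2 | h2
  · norm_cast; omega
  exfalso
  obtain ⟨n, -, hn⟩ := exists_degree_pos θ
  -- then it is the only non-principal constituent
  have h1 : k (oneChar G) = 1 := by
    have := hk (oneChar G)
    rw [show ((oneChar G : Cfsg.IrrCharacter G) : G → ℂ) = fun _ => 1 from rfl,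
      classInner_permChar_one (G := G)] at this
    exact_mod_cast this.symm
  have hθ1 : θ ≠ oneChar G := fun h => by rw [h, h1] at h2; omega
  have hsum : ∑ χ, k χ * k χ ≤ 5 := by
    have h : Cfsg.classInner (permChar (G := G) Ω) (permChar Ω) = ((∑ χ, k χ * k χ : ℕ) : ℂ) := by
      conv_lhs => arg 1; rw [classFunction_eq_sum (isClassFunction_of_isCharacter hchar)]
      rw [classInner_sum_left, Nat.cast_sum]
      refine Finset.sum_congr rfl fun χ _ => ?_
      rw [classInner_smul_left, hk, ← classInner_conj_symm, hk, map_natCast, Nat.cast_mul]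
    rw [classInner_permChar (G := G) Ω, ← card_orbits_pairs a, Nat.cast_inj] at h
    exact h ▸ hr
  rw [← Finset.add_sum_erase _ _ (Finset.mem_univ (oneChar G)), h1,
    ← Finset.add_sum_erase _ _ (Finset.mem_erase.2 ⟨hθ1, Finset.mem_univ θ⟩)] at hsum
  have h4 : 4 ≤ k θ * k θ := Nat.mul_le_mul h2 h2
  have honly : ∀ ψ : Cfsg.IrrCharacter G, k ψ ≠ 0 → ψ ≠ oneChar G → ψ = θ := by
    intro ψ hψ hψ1
    by_contra hne
    have := Finset.single_le_sum (f := fun χ => k χ * k χ)
      (fun i _ => Nat.zero_le _) (Finset.mem_erase.2 ⟨hne, Finset.mem_erase.2 ⟨hψ1, Finset.mem_univ ψ⟩⟩)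
    have : 0 < k ψ * k ψ := Nat.mul_pos (Nat.pos_of_ne_zero hψ) (Nat.pos_of_ne_zero hψ)
    omega
  obtain ⟨hfree, -⟩ := main (G := G) a n (fun ψ hψ c1 c2 => by
    have hψθ := honly ⟨ψ, hψ⟩ (fun h0 => c2 (by
      rw [show ψ = ((⟨ψ, hψ⟩ : Cfsg.IrrCharacter G) : G → ℂ) from rfl, hk, h0, Nat.cast_zero]))
      (fun h => c1 (congrArg Subtype.val h))
    rw [show ψ = (θ : G → ℂ) from congrArg Subtype.val hψθ]
    exact hn)
  have h3 := hfree θ θ.2
  rw [hk] at h3
  norm_cast at h3
  omega

end Cfsg.Agent.S0716
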