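import Cfsg.Statements.S0718
import Cfsg.Agent.Lib.PermTrans.Constituents

set_option autoImplicit false
open Cfsg

namespace Cfsg.Agent.S0718

/-- Multiplicity-freeness of the permutation character is equivalent to commutativity of the centraliser ring, i.e. of the algebra of `G`-equivariant endomorphisms of the complex permutation module. -/
theorem result {G : Type*} [Group G] [Fintype G] {Ω : Type*} [Fintype Ω] [MulAction G Ω] : (∀ χ : G → ℂ, Cfsg.IsIrrCharacter G χ → Cfsg.classInner (fun g : G => (Nat.card (MulAction.fixedBy Ω g) : ℂ)) χ = 0 ∨ Cfsg.classInner (fun g : G => (Nat.card (MulAction.fixedBy Ω g) : ℂ)) χ = 1) ↔ ∀ S T : (Ω → ℂ) →ₗ[ℂ] (Ω → ℂ), S ∈ ((Cfsg.permRep ℂ G Ω).linHom (Cfsg.permRep ℂ G Ω)).invariants → T ∈ ((Cfsg.permRep ℂ G Ω).linHom (Cfsg.permRep ℂ G Ω)).invariants → S ∘ₗ T = T ∘ₗ S := by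
  have hπ : (Cfsg.permRep ℂ G Ω).character =
      fun g : G => (Nat.card (MulAction.fixedBy Ω g) : ℂ) :=
    Cfsg.Agent.Lib.PermTrans.Constituents.character_permRep
  constructor
  · intro h S T hS hT
    exact (Cfsg.Agent.Lib.PermTrans.Constituents.commute_of_multiplicityFree (Cfsg.permRep ℂ G Ω)
      (fun χ => by rw [hπ]; exact h χ χ.2) S T
      ((Cfsg.Agent.Lib.PermTrans.Constituents.mem_invariants_iff S).1 hS)
      ((Cfsg.Agent.Lib.PermTrans.Constituents.mem_invariants_iff T).1 hT)).eq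
  · intro h χ hχ
    obtain ⟨k, hk⟩ := Cfsg.Agent.Lib.PermTrans.Constituents.classInner_char_nat
      (Cfsg.permRep ℂ G Ω) (⟨χ, hχ⟩ : Cfsg.IrrCharacter G)
    rw [hπ] at hk
    change Cfsg.classInner (fun g : G => (Nat.card (MulAction.fixedBy Ω g) : ℂ)) χ = k at hk
    rcases Nat.lt_or_ge k 2 with hk2 | hk2
    · rw [hk]; norm_cast; omega
    obtain ⟨S, T, hS, hT, hne⟩ := Cfsg.Agent.Lib.PermTrans.Constituents.exists_noncommuting
      (Cfsg.permRep ℂ G Ω) (⟨χ, hχ⟩ : Cfsg.IrrCharacter G) k hk2 (by rw [hπ]; exact hk)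
    exact absurd (h S T ((Cfsg.Agent.Lib.PermTrans.Constituents.mem_invariants_iff S).2 hS)
      ((Cfsg.Agent.Lib.PermTrans.Constituents.mem_invariants_iff T).2 hT)) hne

end Cfsg.Agent.S0718
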