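import Cfsg.Statements.S0720
import Cfsg.Agent.Lib.Wielandt2p.Main

set_option autoImplicit false
open Cfsg
open scoped Pointwise

namespace Cfsg.Agent.S0720

/-- Wielandt's Theorem on primitive groups of degree `2p`: such a group is doubly transitive, or it has rank 3, `p = 2a² + 2a + 1`, and subdegrees `a(2a+1)` and `(a+1)(2a+1)`. -/
theorem result {α : Type*} [Fintype α] [DecidableEq α] {p : ℕ} (hp : p.Prime) (hα : Fintype.card α = 2 * p) (G : Subgroup (Equiv.Perm α)) (hG : MulAction.IsPreprimitive G α) (a₀ : α) : MulAction.IsMultiplyPretransitive G α 2 ∨ (Nat.card (MulAction.orbitRel.Quotient (MulAction.stabilizer G a₀) α) = 3 ∧ ∃ a : ℕ, 0 < a ∧ p = 2 * a ^ 2 + 2 * a + 1 ∧ ∀ b : α, b ≠ a₀ → Nat.card (MulAction.orbit (MulAction.stabilizer G a₀) b) = a * (2 * a + 1) ∨ Nat.card (MulAction.orbit (MulAction.stabilizer G a₀) b) = (a + 1) * (2 * a + 1)) := by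
  classical
  haveI := hG.toIsPretransitive
  haveI := Fact.mk hp
  haveI : Fintype G := Fintype.ofFinite _
  haveI : Nonempty α := ⟨a₀⟩
  have hp2 := hp.two_le
  rcases eq_or_lt_of_le hp2 with h2 | hp3
  · subst h2
    haveI : FaithfulSMul G α := ⟨fun {g h} hgh => Subtype.ext (Equiv.ext hgh)⟩
    exact Or.inl (Cfsg.Agent.Lib.Wielandt2p.two_transitive_of_four hG (by rw [hα]))
  by_cases hfree : ∀ g : G, g ^ p = 1 → g ≠ 1 → ∀ a : α, g • a ≠ a
  swap
  · push Not at hfree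
    obtain ⟨g, hgp, hg1, a, ha⟩ := hfree
    exact Or.inl (Cfsg.Agent.Lib.Wielandt2p.two_transitive_of_fixed hp hp3 hα G hG g hgp hg1 a ha)
  have hdvd : p ∣ Nat.card G := by
    refine dvd_trans ⟨2, by ring⟩ (dvd_trans (dvd_of_eq (hα.symm.trans Nat.card_eq_fintype_card.symm)) ?_)
    rw [← MulAction.index_stabilizer_of_transitive G a₀]
    exact Subgroup.index_dvd_card _
  obtain ⟨x, hx⟩ := exists_prime_orderOf_dvd_card' p hdvd
  obtain ⟨S, -, long⟩ := Cfsg.Agent.Lib.Wielandt2p.exists_setup hp3 hα hG hfree x hx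
  haveI : Fintype (Cfsg.Agent.Lib.Wielandt2p.pGen p G) := Fintype.ofFinite _
  have hcard : 2 ≤ Nat.card α := by rw [Nat.card_eq_fintype_card, hα]; omega
  have hrank2 : Nat.card (MulAction.orbitRel.Quotient G (α × α)) ≤ 2 →
      MulAction.IsMultiplyPretransitive G α 2 := by
    intro h
    haveI : Nontrivial α := Finite.one_lt_card_iff_nontrivial.1 hcard
    obtain ⟨b, hb⟩ := exists_ne a₀
    have hne : (Quotient.mk'' (a₀, a₀) : MulAction.orbitRel.Quotient G (α × α)) ≠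
        Quotient.mk'' (a₀, b) := by
      intro he
      obtain ⟨g, hg⟩ := MulAction.orbitRel_apply.1 (Quotient.eq''.1 he)
      exact hb (MulAction.injective g ((congrArg Prod.snd hg).trans (congrArg Prod.fst hg).symm))
    haveI : Nontrivial (MulAction.orbitRel.Quotient G (α × α)) := ⟨⟨_, _, hne⟩⟩
    have := Finite.one_lt_card (α := MulAction.orbitRel.Quotient G (α × α))
    exact (Cfsg.Agent.Lib.Characters.Transitive.card_orbits_prod_eq_two_iff α hcard).1 (by omega)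
  rcases Cfsg.Agent.Lib.Wielandt2p.rank_cases (Cfsg.Agent.Lib.Wielandt2p.pGen p G) hα S long with
    h | ⟨h3, χ₁, χ₂, hπ, hd₁, hd₂⟩
  · exact Or.inl (hrank2 h)
  · rw [Cfsg.Agent.S0669.result a₀] at h3
    exact Or.inr ⟨h3, Cfsg.Agent.S0719.result hG hα a₀ h3 χ₁ χ₂ χ₁.2 χ₂.2 hπ hd₁ hd₂⟩

end Cfsg.Agent.S0720
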