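import Cfsg.Statements.S0723
import Cfsg.Agent.Lib.ONanScott.Subdirect
import Cfsg.Agent.Lib.CharSimple
import Cfsg.Agent.S0722

set_option autoImplicit false
open Cfsg
open scoped Pointwise

namespace Cfsg.Agent.S0723

open Cfsg.Agent.Lib.ONanScott

theorem exists_power {α : Type*} [Finite α] (H : Subgroup (Equiv.Perm α)) (N : Subgroup H) [N.Normal]
    (hN : N ≠ ⊥) (hmin : ∀ M : Subgroup H, M.Normal → M ≤ N → M = ⊥ ∨ M = N)
    (hnab : ¬ IsMulCommutative N) :
    ∃ (T : Type) (_ : Group T) (m : ℕ) (_ : N ≃* (Fin m → T)),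
      IsSimpleGroup T ∧ (∃ a b : T, a * b ≠ b * a) ∧ 0 < m := by
  have : Nontrivial N := (Subgroup.nontrivial_iff_ne_bot N).2 hN
  obtain ⟨S, m, -, hS, hm, ⟨e⟩⟩ := Cfsg.Agent.Lib.CharSimple.exists_mulEquiv_pi_of_charSimple N
    fun C hC => by
      rcases hmin (C.map N.subtype) inferInstance (Subgroup.map_subtype_le C) with h | h
      · exact Or.inl ((Subgroup.map_eq_bot_iff_of_injective _ N.subtype_injective).1 h)
      · refine Or.inr (eq_top_iff.2 fun n _ => ?_)
        have hn : (n : H) ∈ C.map N.subtype := h.symm ▸ n.2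
        obtain ⟨c, hc, e⟩ := hn
        rwa [← Subtype.ext e]
  let e₁ : S ≃* Shrink.{0} S := Shrink.mulEquiv.symm
  have hns : ¬ ∀ a b : S, a * b = b * a := fun h => hnab ⟨⟨fun x y =>
    e.injective (by rw [map_mul, map_mul]; funext i; exact h _ _)⟩⟩
  push Not at hns
  obtain ⟨a, b, hab⟩ := hns
  have : Nontrivial (Shrink.{0} S) := e₁.toEquiv.symm.nontrivial
  exact ⟨Shrink.{0} S, inferInstance, m, e.trans (MulEquiv.piCongrRight fun _ => e₁), e₁.symm.isSimpleGroup,
    ⟨e₁ a, e₁ b, fun h => hab (e₁.injective (by rw [map_mul, map_mul]; exact h))⟩, hm⟩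
set_option maxHeartbeats 1000000

/-- The core of the O'Nan–Scott Theorem. Let `H` be a primitive permutation group on a finite set whose unique minimal normal subgroup `N` is non-abelian, and `K` a point stabiliser. Then there are a non-abelian simple group `T` and an isomorphism `N ≃* T^m` (`m ≥ 1`) under which `K ⊓ N` becomes either a product `∏ K_i` of proper subgroups `K_i < T`, or the set of functions constant on each block of a partition of the index set into blocks of one common size `k ≥ 2`. -/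
theorem result {α : Type*} [Finite α] (H : Subgroup (Equiv.Perm α)) [MulAction.IsPreprimitive H α] (N : Subgroup H) [N.Normal] (hN : N ≠ ⊥) (hmin : ∀ M : Subgroup H, M.Normal → M ≤ N → M = ⊥ ∨ M = N) (huniq : ∀ L : Subgroup H, L.Normal → L ≠ ⊥ → (∀ M : Subgroup H, M.Normal → M ≤ L → M = ⊥ ∨ M = L) → L = N) (hnab : ¬ IsMulCommutative N) (a : α) : ∃ (T : Type) (_ : Group T) (m : ℕ) (e : N ≃* (Fin m → T)), IsSimpleGroup T ∧ ¬ IsMulCommutative T ∧ 0 < m ∧ ((∃ K : Fin m → Subgroup T, (∀ i, K i ≠ ⊤) ∧ ∀ n : N, (n : H) ∈ MulAction.stabilizer H a ↔ ∀ i, e n i ∈ K i) ∨ (∃ (k : ℕ) (c : Fin m → Fin m), 2 ≤ k ∧ (∀ j : Fin m, Nat.card {i : Fin m // c i = j} = k ∨ Nat.card {i : Fin m // c i = j} = 0) ∧ ∀ n : N, (n : H) ∈ MulAction.stabilizer H a ↔ ∀ i j : Fin m, c i = c j → e n i = e n j)) := by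
  classical
  obtain ⟨T, _, m, e, hT, hab, hm⟩ := exists_power H N hN hmin hnab
  set K := MulAction.stabilizer H a
  have hα : Nontrivial α := by
    by_contra hc
    rw [not_nontrivial_iff_subsingleton] at hc
    exact hN ((Subgroup.eq_bot_iff_forall _).2 fun n _ => Subtype.ext (Equiv.ext fun x => Subsingleton.elim _ _))
  have hNK : ¬ N ≤ K := fun hle => hN ((Subgroup.eq_bot_iff_forall _).2 fun n hn =>
    Subtype.ext (Equiv.ext fun x => by
      obtain ⟨h, rfl⟩ := MulAction.exists_smul_eq H a x
      have h1 : (h⁻¹ * n * h) • a = a := hle (by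
        simpa using (inferInstance : N.Normal).conj_mem n hn h⁻¹)
      rw [mul_smul, mul_smul, inv_smul_eq_iff] at h1
      exact h1))
  have htop : K ⊔ N = ⊤ :=
    (MulAction.IsPreprimitive.isCoatom_stabilizer_of_isPreprimitive H a).2 _
      (lt_of_le_of_ne le_sup_left fun h => hNK (le_sup_right.trans h.ge))
  -- the image of the point stabiliser
  let D : Subgroup (Fin m → T) := ((K.comap N.subtype).comap e.symm.toMonoidHom)
  have hD : ∀ n : N, e n ∈ D ↔ (n : H) ∈ K := fun n => by simp [D, Subgroup.mem_subgroupOf]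
  -- action of `K` on the coordinates
  have hconj : ∀ h : H, ∃ (τ : Equiv.Perm (Fin m)) (f : Fin m → T ≃* T),
      ∀ (n : N) l, e ⟨h * n * h⁻¹, (inferInstance : N.Normal).conj_mem n n.2 h⟩ l = f l (e n (τ l)) := by
    intro h
    obtain ⟨τ, f, hf⟩ := exists_perm_of_mulEquiv hab ((e.symm.trans (MulAut.conjNormal h)).trans e)
    refine ⟨τ, f, fun n l => ?_⟩
    rw [← hf (e n) l]
    simp only [MulEquiv.trans_apply, MulEquiv.symm_apply_apply]
    exact congrFun (congrArg e (Subtype.ext rfl)) l
  choose τ f hf using hconj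
  have hDinv : ∀ k ∈ K, ∀ d ∈ D, (fun l => f k l (d (τ k l))) ∈ D := by
    intro k hk d hd
    obtain ⟨n, rfl⟩ := e.surjective d
    rw [show (fun l => f k l (e n (τ k l))) =
      e ⟨k * n * k⁻¹, (inferInstance : N.Normal).conj_mem n n.2 k⟩ from funext fun l => (hf k n l).symm]
    rw [hD] at hd ⊢
    exact K.mul_mem (K.mul_mem hk hd) (K.inv_mem hk)
  -- transitivity on the coordinates
  have hone : ∀ s, ∃ u : T, u ≠ 1 := fun _ : Fin m => exists_ne 1
  have htrans : ∀ i j : Fin m, ∃ k ∈ K, τ k i = j := by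
    intro i j
    by_contra hno
    let O : Fin m → Prop := fun l => ∃ k ∈ K, τ k i = l
    let M₀ : Subgroup N :=
      { carrier := {n | ∀ l, ¬ O l → e n l = 1}
        mul_mem' := fun {x y} hx hy l hl => by simp [hx l hl, hy l hl]
        one_mem' := fun l _ => by simp
        inv_mem' := fun {x} hx l hl => by simp [hx l hl] }
    have hKinv : ∀ k ∈ K, ∀ (l : Fin m), O l → O (τ k l) := by
      rintro k hk l ⟨k₁, hk₁, rfl⟩
      refine ⟨k₁ * k, K.mul_mem hk₁ hk, ?_⟩
      by_contra hne
      obtain ⟨u, hu⟩ := hone i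
      -- evaluate on an element supported at one coordinate
      let n : N := e.symm (Pi.mulSingle (τ k (τ k₁ i)) u)
      have h1 := hf (k₁ * k) n i
      have h2 := hf k₁ ⟨k * n * k⁻¹, (inferInstance : N.Normal).conj_mem n n.2 k⟩ i
      rw [hf k n] at h2
      simp only [n, MulEquiv.apply_symm_apply, Pi.mulSingle_eq_same, Pi.mulSingle_eq_of_ne hne,
        map_one] at h1 h2
      have h3 : (⟨k₁ * k * (e.symm (Pi.mulSingle (τ k (τ k₁ i)) u) : H) * (k₁ * k)⁻¹,
          (inferInstance : N.Normal).conj_mem _ (e.symm _).2 _⟩ : N) =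
          ⟨k₁ * (k * (e.symm (Pi.mulSingle (τ k (τ k₁ i)) u) : H) * k⁻¹) * k₁⁻¹,
            (inferInstance : N.Normal).conj_mem _
              ((inferInstance : N.Normal).conj_mem _ (e.symm _).2 _) _⟩ := Subtype.ext (by group)
      rw [h3, h2] at h1
      exact hu ((map_eq_one_iff _ (f k (τ k₁ i)).injective).1 ((map_eq_one_iff _ (f k₁ i).injective).1 h1))
    have hiO : O i := by
      refine ⟨1, K.one_mem, ?_⟩
      by_contra hne
      obtain ⟨u, hu⟩ := hone i
      have h1 := hf 1 (e.symm (Pi.mulSingle i u)) i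
      simp only [one_mul, inv_one, mul_one, Subtype.coe_eta, MulEquiv.apply_symm_apply,
        Pi.mulSingle_eq_same, Pi.mulSingle_eq_of_ne hne, map_one] at h1
      exact hu h1
    have hKO : ∀ k ∈ K, ∀ l, O (τ k l) → O l := by
      intro k hk
      have himg : ∀ l ∈ (Finset.univ.filter O), τ k l ∈ Finset.univ.filter O := fun l hl => by
        simp only [Finset.mem_filter, Finset.mem_univ, true_and] at hl ⊢
        exact hKinv k hk l hl
      intro l hl
      have heq : (Finset.univ.filter O).image (τ k) = Finset.univ.filter O :=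
        Finset.eq_of_subset_of_card_le (Finset.image_subset_iff.2 himg)
          (by rw [Finset.card_image_of_injective _ (τ k).injective])
      have h' : τ k l ∈ (Finset.univ.filter O).image (τ k) := heq.symm ▸ Finset.mem_filter.2 ⟨Finset.mem_univ _, hl⟩
      rw [(τ k).injective.mem_finset_image] at h'
      exact (Finset.mem_filter.1 h').2
    have hMn : (M₀.map N.subtype).Normal := by
      constructor
      intro x hx g
      have hg : g ∈ ((K ⊔ N : Subgroup H) : Set H) := by rw [htop]; trivial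
      rw [Subgroup.coe_mul_of_left_le_normalizer_right K N (fun k _ => by rw [Subgroup.normalizer_eq_top]; trivial)] at hg
      obtain ⟨k, hk, n, hn, rfl⟩ := Set.mem_mul.1 hg
      obtain ⟨x, hx, rfl⟩ := hx
      obtain ⟨w, hw⟩ : ∃ w : N, w = (⟨n, hn⟩ : N) * x * (⟨n, hn⟩ : N)⁻¹ := ⟨_, rfl⟩
      refine Subgroup.mem_map.2 ⟨⟨k * (w : H) * k⁻¹, (inferInstance : N.Normal).conj_mem _ w.2 k⟩,
        ?_, ?_⟩
      · intro l hl
        have h1 : e x (τ k l) = 1 := hx _ fun h => hl (hKO k hk l h)
        rw [hf k w l, hw, map_mul, map_mul, map_inv, Pi.mul_apply, Pi.mul_apply, Pi.inv_apply, h1,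
          mul_one, mul_inv_cancel, map_one]
      · rw [hw]
        simp [mul_assoc]
    rcases hmin _ hMn (Subgroup.map_subtype_le M₀) with h | h
    · obtain ⟨u, hu⟩ := hone i
      have hmem : e.symm (Pi.mulSingle i u) ∈ M₀ := fun l hl => by
        rw [MulEquiv.apply_symm_apply, Pi.mulSingle_eq_of_ne (fun e' => hl (by rw [e']; exact hiO))]
      have h' : (e.symm (Pi.mulSingle i u) : H) ∈ (⊥ : Subgroup H) := h ▸ ⟨_, hmem, rfl⟩
      rw [Subgroup.mem_bot, OneMemClass.coe_eq_one, MulEquiv.map_eq_one_iff] at h'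
      exact hu (by simpa using congrFun h' i)
    · obtain ⟨u, hu⟩ := hone j
      have h' : (e.symm (Pi.mulSingle j u) : H) ∈ M₀.map N.subtype := h.symm ▸ (e.symm _).2
      obtain ⟨x, hx, hxe⟩ := h'
      rw [N.subtype_injective hxe] at hx
      have := hx j hno
      rw [MulEquiv.apply_symm_apply, Pi.mulSingle_eq_same] at this
      exact hu this
  refine ⟨T, inferInstance, m, ?_⟩
  by_cases hproj : ∀ i (s : T), ∃ d ∈ D, d i = s
  · -- diagonal case
    let r : Setoid (Fin m) :=
      { r := fun i j => ∀ d ∈ D, d i = 1 ↔ d j = 1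
        iseqv := ⟨fun _ _ _ => Iff.rfl, fun h d hd => (h d hd).symm,
          fun h h' d hd => (h d hd).trans (h' d hd)⟩ }
    let c : Fin m → Fin m := fun i => (Quotient.mk r i).out
    have hc : ∀ i, ∀ d ∈ D, d (c i) = 1 ↔ d i = 1 := fun i => Quotient.mk_out (s := r) i
    have hceq : ∀ i j, c i = c j ↔ ∀ d ∈ D, d i = 1 ↔ d j = 1 := fun i j =>
      ⟨fun h d hd => by rw [← hc i d hd, h, hc j d hd],
        fun h => congrArg Quotient.out (Quotient.sound h : Quotient.mk r i = Quotient.mk r j)⟩
    have hcc : ∀ i, c (c i) = c i := fun i => (hceq _ _).2 (hc i)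
    choose φ hφ using fun i => exists_link D hproj (c i) i (hc i)
    refine ⟨e.trans (MulEquiv.piCongrRight fun i => (φ i).symm), hT,
      fun h => by obtain ⟨x, y, hxy⟩ := hab; exact hxy (h.is_comm.comm x y), hm, Or.inr ?_⟩
    have hmem : ∀ n : N, (n : H) ∈ K ↔ ∀ i j, c i = c j → (φ i).symm (e n i) = (φ j).symm (e n j) := by
      intro n
      rw [← hD]
      constructor
      · intro hd i j hij
        rw [hφ i _ hd, hφ j _ hd, MulEquiv.symm_apply_apply, MulEquiv.symm_apply_apply, hij]
      · intro h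
        -- build the element block by block
        have hblock : ∀ s : Finset (Fin m), ∃ d ∈ D, ∀ l, d l = if c l ∈ s then e n l else 1 := by
          intro s
          induction s using Finset.induction_on with
          | empty => exact ⟨1, D.one_mem, fun l => by simp⟩
          | insert b s hb ih =>
            obtain ⟨d, hd, hdl⟩ := ih
            by_cases hcb : ∃ i, c i = b
            · obtain ⟨i, rfl⟩ := hcb
              obtain ⟨w, hw, hw1, hwi⟩ := exists_mem_of_ne_ker hab D hproj (c i)
                (Finset.univ.filter fun l => c l ≠ c i) (fun l hl => by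
                  by_contra hcon
                  simp only [not_exists, not_and, not_not] at hcon
                  have hne := (Finset.mem_filter.1 hl).2
                  refine hne ((hceq _ _).2 fun d hd => ?_)
                  rw [← hc i d hd]
                  refine ⟨hcon d hd, fun hci => ?_⟩
                  by_contra hdl'
                  -- the value at `l` would be determined
                  have hsub : ∀ t : T, ∃ d ∈ D, d (c i) = 1 ∧ d l = t := by
                    intro t
                    obtain ⟨d₀, hd₀, hd₀', hd₀''⟩ := exists_mem_of_ne_ker hab D hproj l {c i}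
                      (fun q hq => by rw [Finset.mem_singleton.1 hq]; exact ⟨d, hd, hci, hdl'⟩) t
                    exact ⟨d₀, hd₀, hd₀' _ (Finset.mem_singleton_self _), hd₀''⟩
                  obtain ⟨x, y, hxy⟩ := hab
                  obtain ⟨d₁, hd₁, e₁⟩ := hproj (c i) x
                  obtain ⟨d₂, hd₂, e₂, e₃⟩ := hsub (d₁ l)⁻¹
                  have h4 : (d₁ * d₂) l = 1 := by simp [e₃]
                  have h5 := hcon _ (D.mul_mem hd₁ hd₂) h4
                  rw [Pi.mul_apply, e₁, e₂, mul_one] at h5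
                  exact hxy (by rw [h5, one_mul, mul_one]))
                ((φ (c i)).symm (e n (c i)))
              have hbase : ∀ d ∈ D, φ (c i) (d (c i)) = d (c i) := fun d hd => by
                conv_rhs => rw [hφ (c i) d hd]
                rw [hcc]
              refine ⟨w * d, D.mul_mem hw hd, fun l => ?_⟩
              rw [Pi.mul_apply, hdl]
              by_cases hl : c l = c i
              · rw [if_neg (by rw [hl]; exact hb), if_pos (by rw [hl]; exact Finset.mem_insert_self _ _),
                  mul_one, hφ l w hw, hl, hwi, h (c i) l (by rw [hcc, hl]), MulEquiv.apply_symm_apply]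
              · rw [hw1 l (Finset.mem_filter.2 ⟨Finset.mem_univ _, hl⟩), one_mul]
                simp [hl]
            · refine ⟨d, hd, fun l => ?_⟩
              rw [hdl]
              simp [show c l ≠ b from fun h => hcb ⟨l, h⟩]
        obtain ⟨d, hd, hdl⟩ := hblock Finset.univ
        have : d = e n := funext fun l => by simpa using hdl l
        exact this ▸ hd
    -- blocks of one size
    have hcτ : ∀ k ∈ K, ∀ i j, c i = c j → c (τ k i) = c (τ k j) := by
      intro k hk i j hij
      rw [hceq] at hij ⊢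
      intro d hd
      -- pull back along the conjugation by `k`
      have := hij _ (hDinv k hk d hd)
      simpa using this
    let B : Fin m → Finset (Fin m) := fun j => Finset.univ.filter fun i => c i = c j
    have hB : ∀ i j, (B i).card = (B j).card := by
      have hle : ∀ i j, (B i).card ≤ (B j).card := by
        intro i j
        obtain ⟨k, hk, rfl⟩ := htrans i j
        refine Finset.card_le_card_of_injOn (τ k) (fun l hl => ?_) (τ k).injective.injOn
        simp only [B, Finset.mem_coe, Finset.mem_filter, Finset.mem_univ, true_and] at hl ⊢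
        exact hcτ k hk l i hl
      exact fun i j => le_antisymm (hle i j) (hle j i)
    obtain ⟨k, hk⟩ : ∃ k, k = (B ⟨0, hm⟩).card := ⟨_, rfl⟩
    refine ⟨k, c, ?_, fun j => ?_, fun n => (hmem n).trans (forall₂_congr fun i j => Iff.rfl)⟩
    · by_contra hk2
      have hinj : ∀ i j, c i = c j → i = j := fun i j hij =>
        Finset.card_le_one.1 (show (B j).card ≤ 1 by rw [hB j ⟨0, hm⟩]; omega) i
          (Finset.mem_filter.2 ⟨Finset.mem_univ _, hij⟩) j (Finset.mem_filter.2 ⟨Finset.mem_univ _, rfl⟩)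
      refine hNK fun n hn => (hmem ⟨n, hn⟩).2 fun i j hij => by rw [hinj i j hij]
    · rw [Nat.card_eq_fintype_card, Fintype.card_subtype]
      by_cases hj : ∃ i, c i = j
      · obtain ⟨i, rfl⟩ := hj
        exact Or.inl (hk ▸ hB i ⟨0, hm⟩)
      · exact Or.inr (Finset.card_eq_zero.2 (Finset.filter_eq_empty_iff.2 fun i _ h => hj ⟨i, h⟩))
  · -- product case
    refine ⟨e, hT, fun h => by obtain ⟨x, y, hxy⟩ := hab; exact hxy (h.is_comm.comm x y), hm,
      Or.inl ?_⟩
    let P : Fin m → Subgroup T := fun i => D.map (Pi.evalMonoidHom (fun _ : Fin m => T) i)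
    have hP : ∀ i s, s ∈ P i ↔ ∃ d ∈ D, d i = s := fun i s => Iff.rfl
    push Not at hproj
    obtain ⟨i₀, s₀, hs₀⟩ := hproj
    have hne : ∀ i, P i ≠ ⊤ := by
      intro i htopi
      obtain ⟨k, hk, rfl⟩ := htrans i₀ i
      have h1 : (f k i₀).symm s₀ ∈ P (τ k i₀) := htopi ▸ Subgroup.mem_top _
      obtain ⟨d, hd, hde⟩ := h1
      refine hs₀ _ (hDinv k hk d hd) ?_
      change f k i₀ (d (τ k i₀)) = s₀
      rw [show d (τ k i₀) = (f k i₀).symm s₀ from hde, MulEquiv.apply_symm_apply]
    let X₀ : Subgroup N := (Subgroup.pi Set.univ P).comap e.toMonoidHom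
    have hX₀ : ∀ n : N, n ∈ X₀ ↔ ∀ i, e n i ∈ P i := fun n =>
      ⟨fun h i => h i (Set.mem_univ i), fun h i _ => h i⟩
    have hKle : MulAction.stabilizer H a ⊓ N ≤ X₀.map N.subtype := fun x hx =>
      ⟨⟨x, hx.2⟩, (hX₀ _).2 fun i => ⟨e ⟨x, hx.2⟩, (hD _).2 hx.1, rfl⟩, rfl⟩
    have hnorm : MulAction.stabilizer H a ≤ Subgroup.normalizer ((X₀.map N.subtype : Subgroup H) : Set H) := by
      have key : ∀ k ∈ K, ∀ x ∈ X₀.map N.subtype, k * x * k⁻¹ ∈ X₀.map N.subtype := by
        rintro k hk _ ⟨n, hn, rfl⟩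
        refine ⟨⟨k * n * k⁻¹, (inferInstance : N.Normal).conj_mem n n.2 k⟩, (hX₀ _).2 fun i => ?_, rfl⟩
        obtain ⟨d, hd, hde⟩ := (hX₀ n).1 hn (τ k i)
        refine ⟨_, hDinv k hk d hd, ?_⟩
        rw [hf k n i, ← hde]
        rfl
      intro k hk
      rw [Subgroup.mem_normalizer_iff]
      refine fun x => ⟨key k hk x, fun hx => ?_⟩
      have := key k⁻¹ (K.inv_mem hk) _ hx
      simpa [mul_assoc] using this
    rcases Cfsg.Agent.S0722.result H N hN hmin a _ (Subgroup.map_subtype_le X₀) hKle hnorm with h | h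
    · refine ⟨P, hne, fun n => ⟨fun hn i => ⟨e n, (hD n).2 hn, rfl⟩, fun hn => ?_⟩⟩
      have hx : (n : H) ∈ X₀.map N.subtype := ⟨n, (hX₀ n).2 hn, rfl⟩
      rw [h] at hx
      exact hx.1
    · exfalso
      refine hne i₀ (eq_top_iff.2 fun s _ => ?_)
      have hx : (e.symm (Pi.mulSingle i₀ s) : H) ∈ X₀.map N.subtype := h.symm ▸ (e.symm _).2
      obtain ⟨x, hx, hxe⟩ := hx
      rw [N.subtype_injective hxe] at hx
      have := (hX₀ _).1 hx i₀
      rwa [MulEquiv.apply_symm_apply, Pi.mulSingle_eq_same] at this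

end Cfsg.Agent.S0723
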