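import Cfsg.Statements.S0724
import Mathlib

set_option autoImplicit false
open Cfsg
open scoped Pointwise

namespace Cfsg.Agent.S0724

theorem card_dvd_sum_fixed_pow {G Ω : Type*} [Group G] [Fintype G] [Fintype Ω] [MulAction G Ω]
    (j : ℕ) : Nat.card G ∣ ∑ g : G, Nat.card (MulAction.fixedBy Ω g) ^ j := by
  classical
  have h := MulAction.sum_card_fixedBy_eq_card_orbits_mul_card_group G (Fin j → Ω)
  have e : ∀ g : G, Fintype.card (MulAction.fixedBy (Fin j → Ω) g) =
      Nat.card (MulAction.fixedBy Ω g) ^ j := by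
    intro g
    rw [← Nat.card_eq_fintype_card,
      Nat.card_congr (β := Fin j → MulAction.fixedBy Ω g)
        ⟨fun f i => ⟨f.1 i, congrFun f.2 i⟩, fun f => ⟨fun i => (f i).1, funext fun i => (f i).2⟩,
          fun f => rfl, fun f => rfl⟩, Nat.card_pi]
    simp
  simp only [e] at h
  rw [h, Nat.card_eq_fintype_card]
  exact dvd_mul_left _ _

theorem card_dvd_sum_fixed_poly {G Ω : Type*} [Group G] [Fintype G] [Fintype Ω] [MulAction G Ω]
    (L : Finset ℕ) : ∀ j : ℕ, (Nat.card G : ℤ) ∣ ∑ g : G,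
      (Nat.card (MulAction.fixedBy Ω g) : ℤ) ^ j *
        ∏ l ∈ L, ((Nat.card (MulAction.fixedBy Ω g) : ℤ) - l) := by
  induction L using Finset.induction_on with
  | empty =>
    intro j
    simpa using Int.natCast_dvd_natCast.2 (card_dvd_sum_fixed_pow (G := G) (Ω := Ω) j)
  | @insert a L ha ih =>
    intro j
    have e : ∀ g : G, (Nat.card (MulAction.fixedBy Ω g) : ℤ) ^ j *
        ∏ l ∈ insert a L, ((Nat.card (MulAction.fixedBy Ω g) : ℤ) - l) =
        (Nat.card (MulAction.fixedBy Ω g) : ℤ) ^ (j + 1) *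
          ∏ l ∈ L, ((Nat.card (MulAction.fixedBy Ω g) : ℤ) - l) -
        (a : ℤ) * ((Nat.card (MulAction.fixedBy Ω g) : ℤ) ^ j *
          ∏ l ∈ L, ((Nat.card (MulAction.fixedBy Ω g) : ℤ) - l)) := fun g => by
      rw [Finset.prod_insert ha, pow_succ]; ring
    simp only [e, Finset.sum_sub_distrib, ← Finset.mul_sum]
    exact dvd_sub (ih (j + 1)) (Dvd.dvd.mul_left (ih j) _)

/-- Blichfeldt's Theorem: if a finite set `L` of natural numbers contains the number of fixed points of every non-identity element of a permutation group `G` of degree `n`, then the order of `G` divides `∏ (n - l)` over `l ∈ L`. -/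
theorem result {α : Type*} [Fintype α] [DecidableEq α] (G : Subgroup (Equiv.Perm α)) (L : Finset ℕ) (hL : ∀ g ∈ G, g ≠ 1 → Nat.card (MulAction.fixedBy α g) ∈ L) : Nat.card G ∣ ∏ l ∈ L, (Fintype.card α - l) := by
  classical
  by_cases hbig : ∃ l ∈ L, Fintype.card α ≤ l
  · obtain ⟨l, hl, hle⟩ := hbig
    rw [Finset.prod_eq_zero hl (Nat.sub_eq_zero_of_le hle)]
    exact dvd_zero _
  push Not at hbig
  have h := card_dvd_sum_fixed_poly (G := G) (Ω := α) L 0
  rw [Finset.sum_eq_single (1 : G)] at h
  · have h1 : Nat.card (MulAction.fixedBy α (1 : G)) = Fintype.card α := by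
      rw [MulAction.fixedBy_one_eq_univ, Nat.card_coe_set_eq, Set.ncard_univ,
        Nat.card_eq_fintype_card]
    rw [h1, pow_zero, one_mul] at h
    rw [← Int.natCast_dvd_natCast, Nat.cast_prod]
    convert h using 1
    exact Finset.prod_congr rfl fun l hl => by rw [Nat.cast_sub (hbig l hl).le]
  · intro g _ hg
    have hl := hL g g.2 (fun h => hg (Subtype.ext h))
    rw [pow_zero, one_mul]
    exact Finset.prod_eq_zero hl (by simp [MulAction.fixedBy, Subgroup.smul_def])
  · simp

end Cfsg.Agent.S0724
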