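import Cfsg.Statements.S0726
-- import your own Cfsg.Agent.* helpers here

set_option autoImplicit false
open Cfsg

namespace Cfsg.Agent.S0726

/-- The left and right regular permutation representations of a group are each other's centralisers in the symmetric group: the centraliser of the left regular image is the right regular image, and a transitive subgroup centralising the left regular image is the whole right regular image. -/
theorem result {G : Type*} [Group G] : Subgroup.centralizer ((MulAction.toPermHom G G).range : Set (Equiv.Perm G)) = (MulAction.toPermHom Gᵐᵒᵖ G).range ∧ ∀ H : Subgroup (Equiv.Perm G), H ≤ Subgroup.centralizer ((MulAction.toPermHom G G).range : Set (Equiv.Perm G)) → MulAction.IsPretransitive H G → H = (MulAction.toPermHom Gᵐᵒᵖ G).range := by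
  have key : ∀ σ : Equiv.Perm G,
      σ ∈ Subgroup.centralizer ((MulAction.toPermHom G G).range : Set (Equiv.Perm G)) →
      σ = MulAction.toPermHom Gᵐᵒᵖ G (MulOpposite.op (σ 1)) := by
    intro σ hσ
    ext x
    have h := congrArg (fun p : Equiv.Perm G => p 1)
      (Subgroup.mem_centralizer_iff.1 hσ (MulAction.toPermHom G G x) ⟨x, rfl⟩)
    simp at h
    simpa using h.symm
  refine ⟨le_antisymm (fun σ hσ => ⟨_, (key σ hσ).symm⟩) ?_, ?_⟩
  · rintro σ ⟨a, rfl⟩
    rw [Subgroup.mem_centralizer_iff]
    rintro _ ⟨g, rfl⟩
    ext x
    simp [mul_assoc]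
  · intro H hle htr
    refine le_antisymm (fun σ hσ => ⟨_, (key σ (hle hσ)).symm⟩) ?_
    rintro σ ⟨a, rfl⟩
    obtain ⟨h, hh⟩ := MulAction.exists_smul_eq H (1 : G) a.unop
    have h1 := key h.1 (hle h.2)
    change h.1 1 = a.unop at hh
    rw [hh, MulOpposite.op_unop] at h1
    rw [← h1]
    exact h.2

end Cfsg.Agent.S0726
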