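import Cfsg.Statements.S0728
import Cfsg.Agent.Lib.SharpThree.Exists
import Cfsg.Agent.Lib.SharpThree.OrderThree

set_option autoImplicit false
open Cfsg
open scoped Pointwise

namespace Cfsg.Agent.S0728

/-- In a sharply triply transitive group of even degree at least 6 (degree `q + 1`, `q` odd), a two-point stabiliser has at most one subgroup of order 3. -/
theorem result {α : Type*} [Fintype α] [DecidableEq α] (heven : Even (Fintype.card α)) (h6 : 6 ≤ Fintype.card α) (G : Subgroup (Equiv.Perm α)) (h3 : MulAction.IsMultiplyPretransitive G α 3) (hsharp : ∀ x : Fin 3 ↪ α, MulAction.stabilizer G x = ⊥) {a b : α} (hab : a ≠ b) (A B : Subgroup G) (hA : A ≤ MulAction.stabilizer G a ⊓ MulAction.stabilizer G b) (hB : B ≤ MulAction.stabilizer G a ⊓ MulAction.stabilizer G b) (hA3 : Nat.card A = 3) (hB3 : Nat.card B = 3) : A = B := by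
  classical
  haveI := h3
  obtain ⟨c, hc, hc'⟩ : ∃ c : α, c ≠ a ∧ c ≠ b := by
    obtain ⟨c, hc⟩ := Finset.exists_mem_notMem_of_card_lt_card
      (s := ({a, b} : Finset α)) (t := Finset.univ)
      (by rw [Finset.card_univ]; have := Finset.card_le_two (a := a) (b := b); omega)
    simp at hc
    exact ⟨c, hc⟩
  obtain ⟨s, hsa, hsb, hsc⟩ := Cfsg.Agent.Lib.SharpThree.exists_of_trans (G := G) h3 a b c b a c
    hab hc.symm hc'.symm hab.symm hc'.symm hc.symm
  obtain ⟨p, j, V, _, F, hp, hj, hexp, hcard, hFa, hFb, -⟩ :=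
    Cfsg.Agent.Lib.SharpThree.exists_frame (G := G) h3 hsharp hab hc.symm hc'.symm s hsa hsb hsc
  obtain ⟨z, hz⟩ := F.exists_neg hp hexp
  have hH : ∀ g : G, g ∈ MulAction.stabilizer G a ⊓ MulAction.stabilizer G b → g ∈ F.H := by
    intro g hg
    rw [F.mem_H, hFa, hFb]
    exact hg
  have hgen : ∀ (K : Subgroup G), Nat.card K = 3 → ∀ k ∈ K, k ≠ 1 → Subgroup.zpowers k = K ∧ k ^ 3 = 1 := by
    intro K hK k hk hk1
    haveI : Fact (Nat.card K).Prime := ⟨hK ▸ Nat.prime_three⟩
    have ho : orderOf k = 3 := by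
      have h1 := orderOf_dvd_natCard (⟨k, hk⟩ : K)
      rw [hK, Subgroup.orderOf_mk] at h1
      rcases (Nat.dvd_prime Nat.prime_three).1 h1 with h | h
      · exact absurd (orderOf_eq_one_iff.1 h) hk1
      · exact h
    haveI : Finite K := Nat.finite_of_card_ne_zero (by omega)
    exact ⟨Subgroup.eq_of_le_of_card_ge (Subgroup.zpowers_le.2 hk) (by rw [Nat.card_zpowers, ho, hK]),
      ho ▸ pow_orderOf_eq_one k⟩
  have hex : ∀ (K : Subgroup G), Nat.card K = 3 → ∃ k ∈ K, k ≠ 1 := fun K hK => by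
    by_contra! h
    rw [(Subgroup.eq_bot_iff_forall K).2 h, Subgroup.card_bot] at hK
    omega
  obtain ⟨w, hw, hw1⟩ := hex A hA3
  obtain ⟨v, hv, hv1⟩ := hex B hB3
  obtain ⟨eA, hw3⟩ := hgen A hA3 w hw hw1
  obtain ⟨eB, hv3⟩ := hgen B hB3 v hv hv1
  have := Cfsg.Agent.Lib.SharpThree.Frame.order_three_unique hz
    (w := ⟨w, hH w (hA hw)⟩) (v := ⟨v, hH v (hB hv)⟩) (Subtype.ext hw3)
    (fun h => hw1 (congrArg Subtype.val h)) (Subtype.ext hv3) (fun h => hv1 (congrArg Subtype.val h))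
  rw [← eA, ← eB]
  rcases this with h | h
  · rw [show v = w from congrArg Subtype.val h]
  · rw [show v = w⁻¹ from congrArg Subtype.val h, Subgroup.zpowers_inv]

end Cfsg.Agent.S0728
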