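import Cfsg.Statements.S0729
import Cfsg.Agent.Lib.SharpThree.Exists
import Cfsg.Agent.Lib.SharpThree.IndexTwoMain

set_option autoImplicit false
open Cfsg
open scoped Pointwise

namespace Cfsg.Agent.S0729

/-- In a sharply triply transitive group of even degree at least 6, the two-point stabiliser `H = G_{a,b}` has a normal subgroup of index 2 that is normalised by the element `s` interchanging `a, b` and fixing a third point `c`. -/
theorem result {α : Type*} [Fintype α] [DecidableEq α] (heven : Even (Fintype.card α)) (h6 : 6 ≤ Fintype.card α) (G : Subgroup (Equiv.Perm α)) (h3 : MulAction.IsMultiplyPretransitive G α 3) (hsharp : ∀ x : Fin 3 ↪ α, MulAction.stabilizer G x = ⊥) {a b c : α} (hab : a ≠ b) (hac : a ≠ c) (hbc : b ≠ c) (s : G) (hsa : s • a = b) (hsb : s • b = a) (hsc : s • c = c) : ∃ N : Subgroup G, N ≤ MulAction.stabilizer G a ⊓ MulAction.stabilizer G b ∧ (N.subgroupOf (MulAction.stabilizer G a ⊓ MulAction.stabilizer G b)).Normal ∧ N.relIndex (MulAction.stabilizer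 G a ⊓ MulAction.stabilizer G b) = 2 ∧ ∀ n ∈ N, s * n * s⁻¹ ∈ N := by
  classical
  haveI := h3
  obtain ⟨p, j, V, _, F, hp, hj, hexp, hcard, hFa, hFb, -, hFs⟩ :=
    Cfsg.Agent.Lib.SharpThree.exists_frame (G := G) h3 hsharp hab hac hbc s hsa hsb hsc
  obtain ⟨z, hz⟩ := F.exists_neg hp hexp
  have hodd : Odd (Nat.card V) := by
    have h1 := F.card_V
    rw [Nat.card_eq_fintype_card (α := α)] at h1
    obtain ⟨l, hl⟩ := heven
    exact ⟨l - 1, by omega⟩
  have hz1 : z ≠ 1 := Cfsg.Agent.Lib.SharpThree.Frame.neg_ne_one hz hodd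
  obtain ⟨χ, hχ⟩ : ∃ χ : F.H →* ℤˣ, χ ≠ 1 ∧ ∀ h, χ (F.swap h) = χ h := by
    obtain ⟨χ, hχ⟩ := Cfsg.Agent.Lib.SharpThree.Frame.exists_hom_ne_one hz hz1 hp hexp
    by_cases h : ∀ x, χ (F.swap x) = χ x
    · exact ⟨χ, hχ, h⟩
    refine ⟨χ * χ.comp F.swap.toMonoidHom, fun e => h fun x => ?_, fun x => ?_⟩
    · have := DFunLike.congr_fun e x
      simp only [MonoidHom.mul_apply, MonoidHom.comp_apply, MulEquiv.coe_toMonoidHom,
        MonoidHom.one_apply] at this
      rw [← Int.units_inv_eq_self (χ x)]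
      exact (inv_eq_of_mul_eq_one_right this).symm
    · simp only [MonoidHom.mul_apply, MonoidHom.comp_apply, MulEquiv.coe_toMonoidHom, F.swap_swap]
      rw [mul_comm]
  obtain ⟨hne, hinv⟩ := hχ
  have hHeq : MulAction.stabilizer G a ⊓ MulAction.stabilizer G b = F.H := by
    rw [← hFa, ← hFb]; rfl
  rw [hHeq]
  have hsub : (χ.ker.map F.H.subtype).subgroupOf F.H = χ.ker :=
    Subgroup.comap_map_eq_self_of_injective F.H.subtype_injective _
  refine ⟨χ.ker.map F.H.subtype, Subgroup.map_subtype_le _, ?_, ?_, ?_⟩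
  · rw [hsub]; infer_instance
  · rw [Subgroup.relIndex, hsub, Subgroup.index_ker]
    have hr : χ.range = ⊤ := by
      obtain ⟨x, hx⟩ : ∃ x, χ x ≠ 1 := by
        by_contra! h
        exact hne (MonoidHom.ext h)
      refine (Subgroup.eq_top_iff' _).2 fun u => ?_
      rcases Int.units_eq_one_or u with rfl | rfl
      · exact one_mem _
      · exact ⟨x, (Int.units_eq_one_or (χ x)).resolve_left hx⟩
    rw [hr, Subgroup.card_top, Nat.card_eq_fintype_card, Fintype.card_units_int]
  · rintro n ⟨h, hh, rfl⟩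
    refine ⟨F.swap h, ?_, ?_⟩
    · rw [SetLike.mem_coe, MonoidHom.mem_ker, hinv]; exact hh
    · change ((F.swap h : F.H) : G) = s * (h : G) * s⁻¹
      rw [F.swap_coe, ← hFs, F.s_inv]

end Cfsg.Agent.S0729
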