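import Cfsg.Statements.S0732
import Cfsg.Agent.Lib.PrimeKernel.Semilinear
import Cfsg.Agent.Lib.Perm.Sharply2
import Cfsg.Agent.Lib.Linear.Order
import Cfsg.Agent.Lib.Linear.FamilyHom
import Cfsg.Agent.Lib.SharpThree.PGL
import Cfsg.Agent.S0730
import Cfsg.Agent.S0731
-- import your own Cfsg.Agent.* helpers here

set_option autoImplicit false
open Cfsg

namespace Cfsg.Agent.S0732

open MulAction

theorem nonempty_pglCongr {K L : Type} [Field K] [Field L] (e : K ≃+* L) :
    Nonempty (Matrix.ProjGenLinGroup (Fin 2) K ≃* Matrix.ProjGenLinGroup (Fin 2) L) := by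
  refine ⟨QuotientGroup.congr _ _ (Units.mapEquiv (e.mapMatrix (m := Fin 2)).toMulEquiv) ?_⟩
  ext h
  show h ∈ (Subgroup.center _).map
    (Units.mapEquiv (e.mapMatrix (m := Fin 2)).toMulEquiv).toMonoidHom ↔ _
  rw [Subgroup.mem_map_equiv, Subgroup.mem_center_iff, Subgroup.mem_center_iff]
  constructor
  · intro hh g
    have := congrArg (Units.mapEquiv (e.mapMatrix (m := Fin 2)).toMulEquiv)
      (hh ((Units.mapEquiv (e.mapMatrix (m := Fin 2)).toMulEquiv).symm g))
    rwa [map_mul, map_mul, MulEquiv.apply_symm_apply, MulEquiv.apply_symm_apply] at this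
  · intro hh g
    apply (Units.mapEquiv (e.mapMatrix (m := Fin 2)).toMulEquiv).injective
    rw [map_mul, map_mul, MulEquiv.apply_symm_apply]
    exact hh _

theorem degree_three {α : Type*} [Fintype α] [DecidableEq α] (hα : Fintype.card α = 3)
    (G : Subgroup (Equiv.Perm α)) (hG : Nat.card G = 6) :
    Nonempty (G ≃* Matrix.ProjGenLinGroup (Fin 2) (ZMod 2)) := by
  have hP : Nat.card (Equiv.Perm α) = 6 := by
    rw [Nat.card_eq_fintype_card, Fintype.card_perm, hα]; rfl
  have hO : Nat.card (OnePoint (ZMod 2)) = 3 := by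
    rw [show OnePoint (ZMod 2) = Option (ZMod 2) from rfl, Finite.card_option, Nat.card_zmod]
  haveI : Finite (OnePoint (ZMod 2)) := Nat.finite_of_card_ne_zero (by omega)
  obtain ⟨e⟩ : Nonempty (α ≃ OnePoint (ZMod 2)) :=
    ⟨(Finite.equivFinOfCardEq (by rw [Nat.card_eq_fintype_card, hα])).trans
      (Finite.equivFinOfCardEq hO).symm⟩
  have hbij : Function.Bijective (Cfsg.Agent.Lib.SharpThree.pglHom (K := ZMod 2)) := by
    refine Function.Injective.bijective_of_nat_card_le Cfsg.Agent.Lib.SharpThree.pglHom_injective ?_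
    rw [← Nat.card_congr e.permCongr, hP, Cfsg.Agent.Lib.Linear.card_PGL_eq_card_SL,
      Cfsg.Agent.Lib.Linear.card_SL_two, ZMod.card]
  have hT : G = ⊤ := Subgroup.eq_top_of_card_eq G (hG.trans hP.symm)
  exact ⟨(MulEquiv.subgroupCongr hT).trans (Subgroup.topEquiv.trans
    (e.permCongrHom.trans (MulEquiv.ofBijective _ hbij).symm))⟩


/-- The order of `PSL₂(q)` determines `q`. -/
theorem psl_arith {p d j : ℕ} (hp : p.Prime) (hp2 : p ≠ 2) (hd0 : 0 < d) (hd : d < p)
    (hc : 2 * ((p + 1) * p * d) = (2 * j + 1) * (2 * j) * (2 * j + 1 + 1)) :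
    2 * j + 1 = p ∧ d = j := by
  have h3 : 3 ≤ p := by have := hp.two_le; omega
  have hlt : 2 * ((p + 1) * p * d) < 2 * ((p + 1) * p * p) := by
    have h0 : 0 < (p + 1) * p := Nat.mul_pos (by omega) hp.pos
    nlinarith
  have hj : j < p := by
    by_contra hge
    rw [not_lt] at hge
    have h1 : (2 * p + 1) * (2 * p) * (2 * p + 1 + 1) ≤ (2 * j + 1) * (2 * j) * (2 * j + 1 + 1) :=
      Nat.mul_le_mul (Nat.mul_le_mul (by omega) (by omega)) (by omega)
    nlinarith
  have hdvd : p ∣ (2 * j + 1) * (2 * j) * (2 * j + 1 + 1) := hc ▸ ⟨2 * (p + 1) * d, by ring⟩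
  have hnd : ∀ m, p ∣ 2 * m → p ∣ m := fun m hm => ((Nat.Prime.dvd_mul hp).1 hm).resolve_left
    fun h => hp2 ((Nat.prime_dvd_prime_iff_eq hp Nat.prime_two).1 h)
  have hjp : 2 * j + 1 = p := by
    rcases (Nat.Prime.dvd_mul hp).1 hdvd with h | h
    · rcases (Nat.Prime.dvd_mul hp).1 h with h | h
      · obtain ⟨c, hc'⟩ := h
        have hc2 : c < 2 := by
          by_contra hge
          rw [not_lt] at hge
          have := Nat.mul_le_mul_left p hge
          omega
        rcases (show c = 0 ∨ c = 1 by omega) with rfl | rfl <;> omega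
      · have h' := hnd j h
        rcases Nat.eq_zero_or_pos j with rfl | hj0
        · exfalso
          simp only [Nat.mul_zero, Nat.zero_mul, Nat.mul_eq_zero] at hc
          omega
        · have := Nat.le_of_dvd hj0 h'
          omega
    · have h' : p ∣ j + 1 := hnd _ (by rwa [show 2 * (j + 1) = 2 * j + 1 + 1 by ring])
      have := Nat.le_of_dvd (by omega) h'
      have hjp : j + 1 = p := by omega
      subst hjp
      exfalso
      rw [hc] at hlt
      have e1 : (2 * j + 1) * (2 * j) * (2 * j + 1 + 1) = (j + 1) * (8 * (j * j) + 4 * j) := by ring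
      have e2 : 2 * ((j + 1 + 1) * (j + 1) * (j + 1)) = (j + 1) * (2 * (j * j) + 6 * j + 4) := by
        ring
      rw [e1, e2] at hlt
      have := Nat.lt_of_mul_lt_mul_left hlt
      have : 2 * j ≤ j * j := Nat.mul_le_mul_right j (by omega)
      omega
  refine ⟨hjp, ?_⟩
  have h0 : 0 < (p + 1) * p := Nat.mul_pos (by omega) hp.pos
  have e : (2 * j + 1) * (2 * j) * (2 * j + 1 + 1) = 2 * ((p + 1) * p * j) := by
    rw [← hjp]; ring
  rw [e] at hc
  exact Nat.eq_of_mul_eq_mul_left h0 (Nat.eq_of_mul_eq_mul_left (by omega) hc)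

/-- A transitive permutation group on `p + 1` points (`p` prime) of order `(p+1) p d` with `d < p` is isomorphic to `PGL(2,p)` with `d = p - 1`, or to `PSL(2,p)` with `2d = p - 1`, or else `p + 1 = 2^q` for a prime `q`, `d = 1` or `d = q`, and the group is permutation-isomorphic to a group of semi-affine maps `x ↦ a φ(x) + b` of the field with `2^q` elements. -/
theorem result {α : Type*} [Fintype α] [DecidableEq α] {p d : ℕ} (hp : p.Prime) (hα : Fintype.card α = p + 1) (G : Subgroup (Equiv.Perm α)) [MulAction.IsPretransitive G α] (hG : Nat.card G = (p + 1) * p * d) (hd : d < p) : (d = p - 1 ∧ Nonempty (G ≃* Matrix.ProjGenLinGroup (Fin 2) (ZMod p))) ∨ (2 * d = p - 1 ∧ Nonempty (G ≃* Matrix.ProjectiveSpecialLinearGroup (Fin 2) (ZMod p))) ∨ (∃ q : ℕ, q.Prime ∧ p + 1 = 2 ^ q ∧ (d = 1 ∨ d = q) ∧ ∃ e : α ≃ GaloisField 2 q, ∀ g : G, (e.symm.trans (((g : Equiv.Perm α)).trans e)) ∈ Cfsg.semiaffineGroup (GaloisField 2 q)) := by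
  classical
  haveI : Fact p.Prime := ⟨hp⟩
  have hd0 : 0 < d := by
    rcases Nat.eq_zero_or_pos d with h | h
    · rw [h, mul_zero] at hG; exact absurd hG Nat.card_pos.ne'
    · exact h
  by_cases hp2 : p = 2
  · subst hp2
    have : d = 1 := by omega
    subst this
    exact Or.inl ⟨rfl, degree_three hα G hG⟩
  have hpodd : Odd p := hp.odd_of_ne_two hp2
  obtain ⟨a⟩ : Nonempty α := Fintype.card_pos_iff.1 (by omega)
  -- the point stabiliser
  have hstab : Nat.card (stabilizer G a) = p * d := by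
    have h := Cfsg.Agent.Lib.Perm.Basic.card_eq_card_mul_card_stabilizer (G := G) a
    rw [hG, Nat.card_eq_fintype_card (α := α), hα, mul_assoc] at h
    exact (Nat.eq_of_mul_eq_mul_left (by omega) h).symm
  let P : Sylow p (stabilizer G a) := default
  have hPc : Nat.card P = p := by
    rw [P.card_eq_multiplicity, hstab, Nat.factorization_mul hp.ne_zero hd0.ne', Finsupp.add_apply,
      hp.factorization_self, Nat.factorization_eq_zero_of_lt hd, add_zero, pow_one]
  have hsub : Subsingleton (Sylow p (stabilizer G a)) := by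
    have hidx : (P : Subgroup (stabilizer G a)).index = d := by
      have h := Subgroup.card_mul_index (P : Subgroup (stabilizer G a))
      rw [hstab] at h
      rw [show Nat.card (P : Subgroup (stabilizer G a)) = p from hPc] at h
      exact Nat.eq_of_mul_eq_mul_left hp.pos h
    have h1 : Nat.card (Sylow p (stabilizer G a)) ≤ d :=
      Nat.le_of_dvd hd0 (hidx ▸ P.card_dvd_index)
    have h2 : Nat.card (Sylow p (stabilizer G a)) % p = 1 % p :=
      card_sylow_modEq_one p (stabilizer G a)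
    rw [Nat.mod_eq_of_lt (by omega), Nat.mod_eq_of_lt hp.one_lt] at h2
    exact (Nat.card_eq_one_iff_unique.1 h2).1
  have hPn : (P : Subgroup (stabilizer G a)).Normal := Sylow.normal_of_subsingleton P
  set U : Subgroup G := (P : Subgroup (stabilizer G a)).map (stabilizer G a).subtype with hU
  have hUa : U ≤ stabilizer G a := Subgroup.map_subtype_le _
  have hUc : Nat.card U = p := by
    rw [hU, Subgroup.card_map_of_injective (Subgroup.subtype_injective _)]; exact hPc
  have hUn : ∀ h ∈ stabilizer G a, ∀ u ∈ U, h * u * h⁻¹ ∈ U := by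
    rintro h hh _ ⟨x, hx, rfl⟩
    exact ⟨⟨h, hh⟩ * x * ⟨h, hh⟩⁻¹, hPn.conj_mem x hx _, rfl⟩
  have hUn' : (U.subgroupOf (stabilizer G a)).Normal :=
    ⟨fun x hx g => hUn g g.2 x hx⟩
  haveI : Fact (Nat.card U).Prime := ⟨hUc.symm ▸ hp⟩
  obtain ⟨u0, hu0, hu1⟩ : ∃ u ∈ U, u ≠ 1 := by
    refine U.bot_or_exists_ne_one.resolve_left fun h => ?_
    rw [h, Subgroup.card_bot] at hUc
    exact hp.one_lt.ne hUc
  have hfix_a : ∀ u : U, (u : G) • a = a := fun u => hUa u.2
  -- `U` is regular on the other points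
  obtain ⟨b, hb⟩ : ∃ b : α, u0 • b ≠ b := by
    by_contra! h
    exact hu1 (FaithfulSMul.eq_of_smul_eq_smul fun x : α => (h x).trans (one_smul G x).symm)
  have hba : b ≠ a := fun h => hb (by rw [h]; exact hUa hu0)
  have hfreeb : stabilizer U b = ⊥ :=
    (stabilizer U b).eq_bot_or_eq_top_of_prime_card.resolve_right fun h =>
      hb ((mem_stabilizer_iff (G := U) (a := b)).1
        (show (⟨u0, hu0⟩ : U) ∈ stabilizer U b by rw [h]; exact Subgroup.mem_top _))
  have hinjb : Function.Injective fun u : U =>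
      (⟨(u : G) • b, fun h => hba ((smul_left_cancel (u : G)) (h.trans (hfix_a u).symm))⟩ :
        {x : α // x ≠ a}) := by
    intro u v h
    have h' : (u : G) • b = (v : G) • b := congrArg Subtype.val h
    have h2 : u⁻¹ * v ∈ stabilizer U b := by
      rw [mem_stabilizer_iff, mul_smul]
      show u⁻¹ • ((v : G) • b) = b
      rw [← h']
      exact inv_smul_smul u b
    rwa [hfreeb, Subgroup.mem_bot, inv_mul_eq_one] at h2
  have hbijb := hinjb.bijective_of_nat_card_le (by
    rw [hUc, Nat.card_eq_fintype_card, Fintype.card_subtype_compl, Fintype.card_subtype_eq, hα,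
      Nat.add_sub_cancel])
  have hreg : ∀ y z : α, y ≠ a → z ≠ a → ∃! u : U, (u : G) • y = z := by
    intro y z hy hz
    obtain ⟨v, hv⟩ := hbijb.2 ⟨y, hy⟩
    obtain ⟨w, hw⟩ := hbijb.2 ⟨z, hz⟩
    have hv' : (v : G) • b = y := congrArg Subtype.val hv
    have hw' : (w : G) • b = z := congrArg Subtype.val hw
    refine ⟨w * v⁻¹, ?_, fun u hu => ?_⟩
    · show ((w * v⁻¹ : U) : G) • y = z
      rw [← hv', ← mul_smul, ← hw', Subgroup.coe_mul, Subgroup.coe_inv, inv_mul_cancel_right]
    · rw [eq_mul_inv_iff_mul_eq]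
      apply hinjb
      refine Subtype.ext ?_
      show ((u * v : U) : G) • b = (w : G) • b
      rw [Subgroup.coe_mul, mul_smul, hv', hw']
      exact hu
  -- two-transitivity
  have h2 : IsMultiplyPretransitive G α 2 := by
    rw [is_two_pretransitive_iff]
    intro x y x' y' hxy hxy'
    obtain ⟨s, hs⟩ := exists_smul_eq G x a
    obtain ⟨t, ht⟩ := exists_smul_eq G x' a
    obtain ⟨u, hu, -⟩ := hreg (s • y) (t • y')
      (fun h => hxy (smul_left_cancel s (hs.trans h.symm)))
      (fun h => hxy' (smul_left_cancel t (ht.trans h.symm)))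
    refine ⟨t⁻¹ * u * s, ?_, ?_⟩
    · rw [mul_smul, mul_smul, hs, hfix_a, inv_smul_eq_iff, ht]
    · rw [mul_smul, mul_smul, hu, inv_smul_smul]
  have h3 : ∀ g : G, ∀ x y z : α, x ≠ y → y ≠ z → x ≠ z → g • x = x → g • y = y → g • z = z →
      g = 1 := by
    intro g x y z hxy hyz hxz hx hy hz
    obtain ⟨t, ht⟩ := exists_smul_eq G x a
    have hmove : ∀ w : α, g • w = w → (t * g * t⁻¹) • (t • w) = t • w := fun w hw => by
      rw [mul_smul, mul_smul, inv_smul_smul, hw]
    have ha' : t * g * t⁻¹ ∈ stabilizer G a := by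
      rw [mem_stabilizer_iff, ← ht]; exact hmove x hx
    have hy' : t • y ≠ a := fun h => hxy (smul_left_cancel t (ht.trans h.symm))
    have hz' : t • z ≠ a := fun h => hxz (smul_left_cancel t (ht.trans h.symm))
    obtain ⟨v, hv, hvu⟩ := hreg (t • y) (t • z) hy' hz'
    set k := t * g * t⁻¹ with hk
    have hky : k • t • y = t • y := hmove y hy
    have hkz : k • t • z = t • z := hmove z hz
    have hkyi : k⁻¹ • t • y = t • y := by rw [inv_smul_eq_iff, hky]
    have hkv : (⟨k * v * k⁻¹, hUn k ha' v v.2⟩ : U) = v := hvu _ (by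
      show (k * (v : G) * k⁻¹) • t • y = t • z
      rw [mul_smul, mul_smul, hkyi, hv, hkz])
    have hv1 : v ≠ 1 := fun h => hyz (smul_left_cancel t (by rw [← hv, h, Subgroup.coe_one, one_smul]))
    have hcomm : ∀ w : U, k * (w : G) = (w : G) * k := by
      intro w
      obtain ⟨i, rfl⟩ : ∃ i : ℤ, v ^ i = w :=
        Subgroup.mem_zpowers_iff.1 ((zpowers_eq_top_of_prime_card rfl hv1) ▸ Subgroup.mem_top w)
      have h0 : Commute k (v : G) := mul_inv_eq_iff_eq_mul.1 (congrArg Subtype.val hkv)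
      rw [Subgroup.coe_zpow]
      exact (h0.zpow_right i).eq
    have hk1 : k = 1 := FaithfulSMul.eq_of_smul_eq_smul (α := α) fun w => by
      rw [one_smul]
      by_cases hw : w = a
      · rw [hw]; exact ha'
      obtain ⟨r, hr, -⟩ := hreg (t • y) w hy' hw
      rw [← hr, ← mul_smul, hcomm, mul_smul, hky]
    rw [hk, conj_eq_one_iff] at hk1
    exact hk1
  by_cases hN : ∃ N : Subgroup G, N.Normal ∧ IsPretransitive N α ∧ ∀ x : α, stabilizer N x = ⊥
  · obtain ⟨N, hNn, hNt, hNr⟩ := hN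
    obtain ⟨q, hq, hpq, hdq, e, he⟩ := Cfsg.Agent.Lib.PrimeKernel.exists_semiaffine hp hp2 hα
      hUa hUc hUn hreg hstab hNt hNr
    exact Or.inr (Or.inr ⟨q, hq, hpq, hdq, e, fun g => he g⟩)
  push Not at hN
  have hZ : Cfsg.IsZassenhausGroup G α := by
    refine ⟨inferInstance, h2, h3, ?_, fun N hNn hNt => hN N hNn hNt⟩
    by_contra! hno
    obtain ⟨-, -, N, -, -, -, -, hNn, -, -, hNt, hNr, -⟩ :=
      Cfsg.Agent.Lib.Perm.Sharply2.exists_kernel (G := G) (α := α) (fun x => by
        rw [eq_bot_iff]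
        intro g hg
        rw [Subgroup.mem_bot]
        by_contra hg1
        refine hno g hg1 (x 0) (x 1) (x.injective.ne (by decide))
          (congrArg (fun f : Fin 2 ↪ α => f 0) (mem_stabilizer_iff.1 hg))
          (congrArg (fun f : Fin 2 ↪ α => f 1) (mem_stabilizer_iff.1 hg))) (by omega)
    obtain ⟨x, hx⟩ := hN N hNn hNt
    exact hx (hNr x)
  rcases Cfsg.Agent.S0731.result hZ a U hUa hUn' ⟨⟨fun x y => by
      haveI := isCyclic_of_prime_card hUc
      exact IsCyclic.commGroup.mul_comm x y⟩⟩ hreg with ⟨ht3, hsharp⟩ | ⟨K, fK, ffK, hK, ⟨eK⟩⟩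
  · refine Or.inl ?_
    obtain ⟨x⟩ : Nonempty (Fin 3 ↪ α) := Function.Embedding.nonempty_of_card_le (by
      simp only [Fintype.card_fin, hα]; have := hp.two_le; omega)
    haveI := ht3
    have hcard := Cfsg.Agent.Lib.Perm.Basic.card_eq_of_regular x (hsharp x)
    rw [hG, Nat.card_eq_fintype_card, Fintype.card_embedding_eq, hα, Fintype.card_fin] at hcard
    have hcard' : (p + 1) * p * d = (p + 1) * p * (p - 1) := by
      rw [hcard]
      simp [Nat.descFactorial_succ, mul_comm, mul_left_comm]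
    have hdp : d = p - 1 := Nat.eq_of_mul_eq_mul_left (Nat.mul_pos (Nat.succ_pos p) hp.pos) hcard'
    obtain ⟨F, fF, ffF, hF, ⟨eF⟩⟩ := Cfsg.Agent.S0730.result (f := 1) hp hp2 odd_one
      (by rw [pow_one, hα]) G ht3 hsharp
    obtain ⟨e2⟩ := nonempty_pglCongr (FiniteField.ringEquivOfCardEq (K := F) (K' := ZMod p)
      (by rw [hF, pow_one, ZMod.card]))
    exact ⟨hdp, ⟨eF.trans e2⟩⟩
  · refine Or.inr (Or.inl ?_)
    obtain ⟨r, hr⟩ := CharP.exists K
    have hKodd : Odd (Fintype.card K) := by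
      rw [Nat.odd_iff]
      exact FiniteField.odd_card_of_char_ne_two hK
    have hc := Cfsg.Agent.Lib.Linear.two_mul_card_PSL_two_of_odd hKodd
    rw [← Nat.card_congr eK.toEquiv, hG] at hc
    obtain ⟨j, hj⟩ := hKodd
    rw [hj, Nat.add_sub_cancel] at hc
    obtain ⟨i, hi⟩ := hpodd
    obtain ⟨hjp, hjd⟩ := psl_arith hp hp2 hd0 hd hc
    have hq : Fintype.card K = p := hj.trans hjp
    have h2d : 2 * d = p - 1 := by omega
    obtain ⟨e2⟩ := Cfsg.Agent.Lib.Linear.nonempty_pslCongr (ι := Fin 2)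
      (FiniteField.ringEquivOfCardEq (K := K) (K' := ZMod p) (by rw [hq, ZMod.card]))
    exact ⟨h2d, ⟨eK.trans e2⟩⟩

end Cfsg.Agent.S0732
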