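import Cfsg.Statements.S0733
import Mathlib

set_option autoImplicit false
open Cfsg
open scoped Pointwise

namespace Cfsg.Agent.S0733

/-- A permutation group of affine type — generated by the translations of a finite vector space `V` over `ZMod p` together with a group `G₀` of linear automorphisms — is primitive on `V` if and only if `G₀` is irreducible on `V`. -/
theorem result {p : ℕ} [Fact p.Prime] {V : Type*} [AddCommGroup V] [Module (ZMod p) V] [Finite V] [Nontrivial V] (G₀ : Subgroup (V ≃ₗ[ZMod p] V)) (G : Subgroup (Equiv.Perm V)) (hG : ∀ σ : Equiv.Perm V, σ ∈ G ↔ ∃ g ∈ G₀, ∃ b : V, ∀ x : V, σ x = (g : V ≃ₗ[ZMod p] V) x + b) : MulAction.IsPreprimitive G V ↔ ∀ W : Submodule (ZMod p) V, (∀ g ∈ G₀, ∀ v ∈ W, (g : V ≃ₗ[ZMod p] V) v ∈ W) → W = ⊥ ∨ W = ⊤ := by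
  classical
  have htrans : ∀ b : V, (Equiv.addRight b : Equiv.Perm V) ∈ G :=
    fun b => (hG _).2 ⟨1, one_mem _, b, fun x => by simp⟩
  have hlin : ∀ g ∈ G₀, (g : V ≃ₗ[ZMod p] V).toEquiv ∈ G :=
    fun g hg => (hG _).2 ⟨g, hg, 0, fun x => by simp⟩
  haveI : MulAction.IsPretransitive G V :=
    ⟨fun x y => ⟨⟨Equiv.addRight (y - x), htrans _⟩, by simp [Subgroup.smul_def]⟩⟩
  constructor
  · intro hp' W hW
    have hblock : MulAction.IsBlock G (W : Set V) := by
      refine MulAction.isBlock_iff_smul_eq_of_nonempty.2 fun {σ} hne => ?_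
      obtain ⟨g, hg, b, hb⟩ := (hG σ.1).1 σ.2
      obtain ⟨z, ⟨x, hx, rfl⟩, hz⟩ := hne
      change σ.1 x ∈ (W : Set V) at hz
      rw [hb, SetLike.mem_coe] at hz
      have hbW : b ∈ W := by
        have := W.sub_mem hz (hW g hg x hx)
        rwa [add_sub_cancel_left] at this
      refine Set.Subset.antisymm ?_ ?_
      · rintro _ ⟨u, hu, rfl⟩
        change σ.1 u ∈ (W : Set V)
        rw [hb]
        exact W.add_mem (hW g hg u hu) hbW
      · intro u hu
        refine ⟨(g⁻¹ : V ≃ₗ[ZMod p] V) (u - b), hW _ (inv_mem hg) _ (W.sub_mem hu hbW), ?_⟩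
        change σ.1 _ = u
        rw [hb]
        show g (g⁻¹ (u - b)) + b = u
        rw [← LinearEquiv.mul_apply, mul_inv_cancel]
        simp
    rcases hp'.isTrivialBlock_of_isBlock hblock with h | h
    · refine Or.inl ((Submodule.eq_bot_iff _).2 fun v hv => ?_)
      exact h hv W.zero_mem
    · exact Or.inr (SetLike.coe_injective (h.trans Submodule.top_coe.symm))
  · intro h
    refine MulAction.IsPreprimitive.of_isTrivialBlock_base (0 : V) fun {B} h0 hB => ?_
    have hadd : ∀ b ∈ B, ∀ x ∈ B, x + b ∈ B := by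
      intro b hb x hx
      have e := MulAction.isBlock_iff_smul_eq_of_nonempty.1 hB
        (g := (⟨Equiv.addRight b, htrans b⟩ : G))
        ⟨b, ⟨0, h0, by simp [Subgroup.smul_def]⟩, hb⟩
      rw [← e]
      exact ⟨x, hx, by simp [Subgroup.smul_def]⟩
    have hneg : ∀ b ∈ B, -b ∈ B := by
      intro b hb
      have hmem : ∀ n : ℕ, n • b ∈ B := by
        intro n
        induction n with
        | zero => simpa using h0
        | succ n ih => rw [succ_nsmul]; exact hadd b hb _ ih
      obtain ⟨n, hn⟩ : ∃ n, p = n + 1 := ⟨p - 1, by have := (Fact.out : p.Prime).one_lt; omega⟩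
      have : n • b = -b := by
        refine eq_neg_of_add_eq_zero_left ?_
        rw [← succ_nsmul, ← hn, ← Nat.cast_smul_eq_nsmul (ZMod p) p b, ZMod.natCast_self, zero_smul]
      rw [← this]; exact hmem n
    let A : AddSubgroup V :=
      { carrier := B
        zero_mem' := h0
        add_mem' := fun {x y} hx hy => hadd y hy x hx
        neg_mem' := fun {x} hx => hneg x hx }
    have hW := h (AddSubgroup.toZModSubmodule p A) (fun g hg v hv => by
      have e := MulAction.isBlock_iff_smul_eq_of_nonempty.1 hB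
        (g := (⟨_, hlin g hg⟩ : G)) ⟨0, ⟨0, h0, by simp [Subgroup.smul_def]⟩, h0⟩
      change g v ∈ B
      rw [← e]
      exact ⟨v, hv, rfl⟩)
    rcases hW with h1 | h1
    · left
      intro x hx y hy
      have h2 : ∀ z ∈ B, z = 0 := fun z hz => by
        have h3 : z ∈ AddSubgroup.toZModSubmodule p A := hz
        rwa [h1, Submodule.mem_bot] at h3
      rw [h2 x hx, h2 y hy]
    · right
      rw [Set.eq_univ_iff_forall]
      intro z
      have h3 : z ∈ AddSubgroup.toZModSubmodule p A := by rw [h1]; trivial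
      exact h3

end Cfsg.Agent.S0733
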