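import Cfsg.Statements.S0734
import Mathlib

set_option autoImplicit false
open Cfsg
open scoped Pointwise

namespace Cfsg.Agent.S0734

/-- Higman's criterion for primitivity: a transitive action on a finite set is primitive if and only if every non-trivial orbital graph (edges = images of a fixed pair of distinct points) is connected. -/
theorem result {G : Type*} [Group G] {Ω : Type*} [Finite Ω] [MulAction G Ω] [MulAction.IsPretransitive G Ω] [Nontrivial Ω] : MulAction.IsPreprimitive G Ω ↔ ∀ a b : Ω, a ≠ b → (SimpleGraph.fromRel fun x y : Ω => ∃ g : G, g • a = x ∧ g • b = y).Connected := by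
  classical
  let Γ : Ω → Ω → SimpleGraph Ω := fun a b =>
    SimpleGraph.fromRel fun x y : Ω => ∃ g : G, g • a = x ∧ g • b = y
  constructor
  · intro hG a b hab
    change (Γ a b).Connected
    have hadj : ∀ (g : G) (x y : Ω), (Γ a b).Adj x y → (Γ a b).Adj (g • x) (g • y) := by
      intro g x y hxy
      simp only [Γ, SimpleGraph.fromRel_adj] at hxy ⊢
      refine ⟨fun h => hxy.1 (MulAction.injective g h), ?_⟩
      rcases hxy.2 with ⟨f, h1, h2⟩ | ⟨f, h1, h2⟩
      · exact Or.inl ⟨g * f, by rw [mul_smul, h1], by rw [mul_smul, h2]⟩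
      · exact Or.inr ⟨g * f, by rw [mul_smul, h1], by rw [mul_smul, h2]⟩
    have hreach : ∀ (g : G) (x y : Ω), (Γ a b).Reachable x y → (Γ a b).Reachable (g • x) (g • y) :=
      fun g x y h => h.map ⟨fun z => g • z, fun {u v} huv => hadj g u v huv⟩
    let B : Set Ω := {x | (Γ a b).Reachable a x}
    have hB : MulAction.IsBlock G B := by
      refine MulAction.isBlock_iff_smul_eq_of_nonempty.2 fun {g} hne => ?_
      obtain ⟨z, ⟨x, hx, rfl⟩, hz⟩ := hne
      have hga : (Γ a b).Reachable a (g • a) := hz.trans (hreach g a x hx).symm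
      refine Set.Subset.antisymm ?_ ?_
      · rintro _ ⟨u, hu, rfl⟩
        exact hga.trans (hreach g a u hu)
      · intro u hu
        refine ⟨g⁻¹ • u, ?_, smul_inv_smul g u⟩
        have := hreach g⁻¹ (g • a) u (hga.symm.trans hu)
        rwa [inv_smul_smul] at this
    rcases hG.isTrivialBlock_of_isBlock hB with h | h
    · exfalso
      have hb : b ∈ B := SimpleGraph.Adj.reachable (by
        simp only [Γ, SimpleGraph.fromRel_adj]
        exact ⟨hab, Or.inl ⟨1, one_smul G a, one_smul G b⟩⟩)
      exact hab (h (SimpleGraph.Reachable.refl a) hb)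
    · have hall : ∀ x, (Γ a b).Reachable a x := fun x => by
        have : x ∈ B := by rw [h]; trivial
        exact this
      exact ⟨fun x y => (hall x).symm.trans (hall y)⟩
  · intro h
    refine { isTrivialBlock_of_isBlock := fun {B} hB => ?_ }
    by_contra hnt
    simp only [MulAction.IsTrivialBlock, not_or, Set.not_subsingleton_iff] at hnt
    obtain ⟨⟨a, ha, b, hb, hab⟩, hB2⟩ := hnt
    apply hB2
    rw [Set.eq_univ_iff_forall]
    intro x
    have hstep : ∀ u v, (Γ a b).Adj u v → u ∈ B → v ∈ B := by
      intro u v huv hu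
      simp only [Γ, SimpleGraph.fromRel_adj] at huv
      rcases huv.2 with ⟨g, h1, h2⟩ | ⟨g, h1, h2⟩
      · have e : g • B = B :=
          MulAction.isBlock_iff_smul_eq_of_nonempty.1 hB ⟨u, ⟨a, ha, h1⟩, hu⟩
        rw [← e]; exact ⟨b, hb, h2⟩
      · have e : g • B = B :=
          MulAction.isBlock_iff_smul_eq_of_nonempty.1 hB ⟨u, ⟨b, hb, h2⟩, hu⟩
        rw [← e]; exact ⟨a, ha, h1⟩
    obtain ⟨w⟩ := (h a b hab).preconnected a x
    have : ∀ {u v : Ω}, (Γ a b).Walk u v → u ∈ B → v ∈ B := by
      intro u v w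
      induction w with
      | nil => exact id
      | cons hadj _ ih => exact fun hu => ih (hstep _ _ hadj hu)
    exact this w ha

end Cfsg.Agent.S0734
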