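import Cfsg.Statements.S0736
import Mathlib

set_option autoImplicit false
open Cfsg
open scoped Pointwise

namespace Cfsg.Agent.S0736

theorem not_dvd_choose_aux {p q m : ℕ} (hp : p.Prime) {a : ℕ} (hq : q = p ^ a) :
    ¬ p ∣ (q * m + (q - 1)).choose (q * m) := by
  subst hq
  set k := p ^ a * m with hk
  intro hdvd
  have hle : k ≤ k + (p ^ a - 1) := Nat.le_add_right _ _
  have hpos : (k + (p ^ a - 1)).choose k ≠ 0 := (Nat.choose_pos hle).ne'
  have h1 := (hp.dvd_iff_one_le_factorization hpos).1 hdvd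
  rw [Nat.factorization_choose hp hle (Nat.lt_add_one _)] at h1
  obtain ⟨i, hi⟩ := Finset.card_pos.1 h1
  rw [Finset.mem_filter, Finset.mem_Ico, Nat.add_sub_cancel_left] at hi
  obtain ⟨-, hi⟩ := hi
  have hpi : 0 < p ^ i := pow_pos hp.pos i
  have hr : (p ^ a - 1) % p ^ i < p ^ i := Nat.mod_lt _ hpi
  rcases Nat.lt_or_ge a i with h | h
  · have hdiv : p ^ a ∣ p ^ i := pow_dvd_pow p h.le
    have h3 : (p ^ a - 1) % p ^ i ≤ p ^ a - 1 := Nat.mod_le _ _
    obtain ⟨u, hu⟩ : p ^ a ∣ k % p ^ i := (Nat.dvd_mod_iff hdiv).2 ⟨m, hk⟩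
    obtain ⟨w, hw⟩ := hdiv
    have h4 : k % p ^ i < p ^ i := Nat.mod_lt _ hpi
    rw [hu, hw] at h4
    have h5 : u + 1 ≤ w := Nat.lt_of_mul_lt_mul_left h4
    have h6 : p ^ a * (u + 1) ≤ p ^ a * w := Nat.mul_le_mul_left _ h5
    rw [Nat.mul_succ] at h6
    have := pow_pos hp.pos a
    omega
  · have h4 : k % p ^ i = 0 :=
      Nat.mod_eq_zero_of_dvd ((pow_dvd_pow p h).trans ⟨m, hk⟩)
    omega

theorem sum_count_eq {α : Type*} [DecidableEq α] (O : Finset α → Prop) [DecidablePred O] {k : ℕ}
    (hk : 1 ≤ k) (U : Finset α) :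
    ∑ K ∈ U.powersetCard k, (K.filter fun x => O (K.erase x)).card =
      ((U.powersetCard (k - 1)).filter O).card * (U.card - (k - 1)) := by
  have h : ∀ B ∈ (U.powersetCard (k - 1)).filter O, U.card - (k - 1) = (U \ B).card := by
    intro B hB
    rw [Finset.mem_filter, Finset.mem_powersetCard] at hB
    rw [Finset.card_sdiff_of_subset hB.1.1, hB.1.2]
  rw [← smul_eq_mul, ← Finset.sum_const, Finset.sum_congr rfl h,
    ← Finset.card_sigma, ← Finset.card_sigma]
  refine Finset.card_bij' (fun z _ => ⟨z.1.erase z.2, z.2⟩) (fun z _ => ⟨insert z.2 z.1, z.2⟩)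
    ?_ ?_ ?_ ?_
  · rintro ⟨K, x⟩ hz
    simp only [Finset.mem_sigma, Finset.mem_powersetCard, Finset.mem_filter] at hz
    obtain ⟨⟨hK, hKc⟩, hx, hO⟩ := hz
    simp only [Finset.mem_sigma, Finset.mem_powersetCard, Finset.mem_filter, Finset.mem_sdiff]
    exact ⟨⟨⟨(Finset.erase_subset _ _).trans hK, by rw [Finset.card_erase_of_mem hx, hKc]⟩, hO⟩,
      hK hx, Finset.notMem_erase x K⟩
  · rintro ⟨B, x⟩ hz
    simp only [Finset.mem_sigma, Finset.mem_powersetCard, Finset.mem_filter, Finset.mem_sdiff] at hz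
    obtain ⟨⟨⟨hB, hBc⟩, hO⟩, hx, hxB⟩ := hz
    simp only [Finset.mem_sigma, Finset.mem_powersetCard, Finset.mem_filter]
    exact ⟨⟨Finset.insert_subset hx hB, by rw [Finset.card_insert_of_notMem hxB, hBc]; omega⟩,
      Finset.mem_insert_self x B, by rwa [Finset.erase_insert hxB]⟩
  · rintro ⟨K, x⟩ hz
    simp only [Finset.mem_sigma, Finset.mem_powersetCard, Finset.mem_filter] at hz
    simp [Finset.insert_erase hz.2.1]
  · rintro ⟨B, x⟩ hz
    simp only [Finset.mem_sigma, Finset.mem_powersetCard, Finset.mem_filter, Finset.mem_sdiff] at hz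
    simp [Finset.erase_insert hz.2.2]

/-- A `k`-homogeneous permutation group of degree `n`, `k ≥ 2`, with `k + q - 1 ≤ n` for every prime power `q` dividing `k`, is `(k-1)`-homogeneous. -/
theorem result {α : Type*} [Fintype α] [DecidableEq α] (G : Subgroup (Equiv.Perm α)) {k : ℕ} (hk : 2 ≤ k) (hG : MulAction.IsPretransitive G (Set.powersetCard α k)) (hq : ∀ q : ℕ, IsPrimePow q → q ∣ k → k + q - 1 ≤ Fintype.card α) : MulAction.IsPretransitive G (Set.powersetCard α (k - 1)) := by
  classical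
  refine ⟨fun B₁ B₂ => ?_⟩
  have hkn : k ≤ Fintype.card α := by
    obtain ⟨p, hp, hpk⟩ := Nat.exists_prime_and_dvd (show k ≠ 1 by omega)
    have := hq p hp.isPrimePow hpk
    have := hp.two_le
    omega
  let O : Finset α → Prop := fun B => ∃ g : G, g • (B₁ : Finset α) = B
  have hO : ∀ (g : G) B, O B → O (g • B) := by
    rintro g B ⟨f, rfl⟩
    exact ⟨g * f, mul_smul g f _⟩
  suffices h : O (B₂ : Finset α) by
    obtain ⟨g, hg⟩ := h
    exact ⟨g, Subtype.ext hg⟩
  let cnt : Finset α → ℕ := fun K => (K.filter fun x => O (K.erase x)).card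
  -- the count does not depend on the `k`-set
  have hconst : ∀ K K' : Finset α, K.card = k → K'.card = k → cnt K ≤ cnt K' := by
    intro K K' hK hK'
    obtain ⟨g, hg⟩ := MulAction.exists_smul_eq G (⟨K, hK⟩ : Set.powersetCard α k) ⟨K', hK'⟩
    have hg' : g • K = K' := congrArg Subtype.val hg
    refine Finset.card_le_card_of_injOn (fun x => g • x) (fun x hx => ?_)
      (fun x _ y _ h => MulAction.injective g h)
    rw [Finset.mem_coe, Finset.mem_filter] at hx ⊢
    rw [← hg']
    refine ⟨Finset.smul_mem_smul_finset hx.1, ?_⟩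
    have he : (g • K).erase (g • x) = g • K.erase x := by
      rw [Finset.smul_finset_def, Finset.smul_finset_def,
        Finset.image_erase (MulAction.injective g)]
    rw [he]
    exact hO g _ hx.2
  obtain ⟨x, -, hx⟩ := Finset.exists_mem_notMem_of_card_lt_card
    (show (B₁ : Finset α).card < (Finset.univ : Finset α).card by
      rw [B₁.2, Finset.card_univ]; omega)
  set K₀ := insert x (B₁ : Finset α)
  have hK₀ : K₀.card = k := by rw [Finset.card_insert_of_notMem hx, B₁.2]; omega
  have hpos : 0 < cnt K₀ := Finset.card_pos.2 ⟨x, Finset.mem_filter.2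
    ⟨Finset.mem_insert_self x _, by rw [Finset.erase_insert hx]; exact ⟨1, one_smul _ _⟩⟩⟩
  have hle : cnt K₀ ≤ k := hK₀ ▸ Finset.card_filter_le _ _
  -- every prime power dividing `k` exactly divides the count
  have hdvd : k ∣ cnt K₀ := by
    rw [← Nat.factorization_le_iff_dvd (by omega) hpos.ne']
    intro p
    by_cases hp : p.Prime
    swap
    · simp [Nat.factorization_eq_zero_of_not_prime _ hp]
    rcases Nat.eq_zero_or_pos (k.factorization p) with h0 | h0
    · omega
    rw [← hp.pow_dvd_iff_le_factorization hpos.ne']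
    set q := p ^ k.factorization p with hqdef
    have hqk : q ∣ k := Nat.ordProj_dvd k p
    have hpp : IsPrimePow q := hp.isPrimePow.pow (by omega)
    have hqn := hq q hpp hqk
    have hqpos : 0 < q := hpp.pos
    obtain ⟨U, -, hU⟩ := Finset.exists_subset_card_eq
      (show k + q - 1 ≤ (Finset.univ : Finset α).card by rwa [Finset.card_univ])
    have hsum := sum_count_eq O (show 1 ≤ k by omega) U
    rw [Finset.sum_congr rfl (g := fun _ => cnt K₀) (fun K hK =>
      le_antisymm (hconst K K₀ (Finset.mem_powersetCard.1 hK).2 hK₀)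
        (hconst K₀ K hK₀ (Finset.mem_powersetCard.1 hK).2)),
      Finset.sum_const, smul_eq_mul, Finset.card_powersetCard, hU,
      show k + q - 1 - (k - 1) = q by omega] at hsum
    obtain ⟨m, hm⟩ := hqk
    have hcop : q.Coprime ((k + q - 1).choose k) := by
      rw [show k + q - 1 = k + (q - 1) by omega, hm]
      exact Nat.Coprime.pow_left _
        ((Nat.Prime.coprime_iff_not_dvd hp).2 (not_dvd_choose_aux hp hqdef))
    exact hcop.dvd_of_dvd_mul_left ⟨_, hsum.trans (mul_comm _ _)⟩
  have hfull : cnt K₀ = k := le_antisymm hle (Nat.le_of_dvd hpos hdvd)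
  obtain ⟨y, -, hy⟩ := Finset.exists_mem_notMem_of_card_lt_card
    (show (B₂ : Finset α).card < (Finset.univ : Finset α).card by
      rw [B₂.2, Finset.card_univ]; omega)
  have hK : (insert y (B₂ : Finset α)).card = k := by
    rw [Finset.card_insert_of_notMem hy, B₂.2]; omega
  have hc : cnt (insert y (B₂ : Finset α)) = k :=
    (le_antisymm (hconst _ _ hK hK₀) (hconst _ _ hK₀ hK)).trans hfull
  have := (Finset.card_filter_eq_iff (s := insert y (B₂ : Finset α))).1 (hc.trans hK.symm)
    y (Finset.mem_insert_self y _)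
  rwa [Finset.erase_insert hy] at this

end Cfsg.Agent.S0736
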