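import Cfsg.Statements.S0738
import Mathlib

set_option autoImplicit false
open Cfsg

namespace Cfsg.Agent.S0738

/-- Let a finite Zassenhaus group of degree `n + 1` have two-point stabilisers of order `d` with `2d ≥ n - 1`. Then a normal subgroup of a point stabiliser acting regularly on the remaining points is elementary abelian, and the degree is a prime power plus one. -/
theorem result {G Ω : Type*} [Group G] [Finite G] [MulAction G Ω] [Fintype Ω] (hZ : Cfsg.IsZassenhausGroup G Ω) {a b : Ω} (hab : a ≠ b) (hd : Fintype.card Ω - 2 ≤ 2 * Nat.card ↥(MulAction.stabilizer G a ⊓ MulAction.stabilizer G b)) (F : Subgroup G) (hFle : F ≤ MulAction.stabilizer G a) (hFn : (F.subgroupOf (MulAction.stabilizer G a)).Normal) (hreg : ∀ y z : Ω, y ≠ a → z ≠ a → ∃! u : F, (u : G) • y = z) : IsMulCommutative F ∧ ∃ p f : ℕ, p.Prime ∧ (∀ u ∈ F, u ^ p = 1) ∧ Fintype.card Ω = p ^ f + 1 := by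
  classical
  have := Fintype.ofFinite G
  obtain ⟨hfaith, -, h3, -, -⟩ := hZ
  haveI := hfaith
  set H := MulAction.stabilizer G a ⊓ MulAction.stabilizer G b with hH
  have hdpos : 0 < Nat.card H := Nat.card_pos
  have hb : b ≠ a := Ne.symm hab
  have hfixa : ∀ u : F, (u : G) • a = a := fun u => hFle u.2
  have hbij : ∀ u : F, (u : G) • b ≠ a := fun u h =>
    hb (MulAction.injective (u : G) (h.trans (hfixa u).symm))
  have hinj : ∀ u v : F, (u : G) • b = (v : G) • b → u = v := fun u v h =>
    (hreg b _ hb (hbij v)).unique h rfl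
  have hne : ∀ u : F, u ≠ 1 → (u : G) • b ≠ b := fun u hu h =>
    hu (hinj u 1 (by rw [h]; simp))
  have hcardF : Nat.card F + 1 = Fintype.card Ω := by
    have e : F ≃ {y : Ω // y ≠ a} := Equiv.ofBijective (fun u => ⟨(u : G) • b, hbij u⟩)
      ⟨fun u v h => hinj u v (congrArg Subtype.val h), fun y => by
        obtain ⟨u, hu, -⟩ := hreg b y hb y.2
        exact ⟨u, Subtype.ext hu⟩⟩
    rw [Nat.card_congr e, Nat.card_eq_fintype_card, Fintype.card_subtype_compl,
      Fintype.card_subtype_eq]
    have : 0 < Fintype.card Ω := Fintype.card_pos_iff.2 ⟨a⟩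
    omega
  have hconj : ∀ (h : H) (u : F), (h : G) * u * (h : G)⁻¹ ∈ F := fun h u => by
    have := hFn.conj_mem ⟨(u : G), hFle u.2⟩ (Subgroup.mem_subgroupOf.2 u.2) ⟨(h : G), h.2.1⟩
    simpa [Subgroup.mem_subgroupOf] using this
  let cj : H → F → F := fun h u => ⟨_, hconj h u⟩
  have hsmul : ∀ h u, ((cj h u : F) : G) • b = (h : G) • (u : G) • b := fun h u => by
    show ((h : G) * u * (h : G)⁻¹) • b = _
    rw [mul_smul, mul_smul, inv_smul_eq_iff.2 (show b = (h : G) • b from h.2.2.symm)]
  -- the conjugates of a non-identity element under `H`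
  let C : F → Finset F := fun u => Finset.univ.image fun h => cj h u
  have hC : ∀ u : F, u ≠ 1 → (C u).card = Nat.card H := by
    intro u hu
    rw [Finset.card_image_of_injective, Finset.card_univ, Nat.card_eq_fintype_card]
    intro h₁ h₂ h
    have h' : (h₁ : G) • (u : G) • b = (h₂ : G) • (u : G) • b := by
      rw [← hsmul, ← hsmul]
      exact congrArg (fun z : F => (z : G) • b) h
    have hfix : ((h₂⁻¹ * h₁ : H) : G) • (u : G) • b = (u : G) • b := by
      rw [Subgroup.coe_mul, Subgroup.coe_inv, mul_smul, h', inv_smul_smul]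
    exact (inv_mul_eq_one.1 (Subtype.ext (h3 _ a b _ hab (Ne.symm (hne u hu)) (Ne.symm (hbij u))
      (h₂⁻¹ * h₁ : H).2.1 (h₂⁻¹ * h₁ : H).2.2 hfix))).symm
  -- an invariant set of non-identity elements, not all of them, has exactly `|H|` elements
  have hinv : ∀ P : F → Prop, (∀ h u, P u → P (cj h u)) → (∀ h u, ¬ P u → ¬ P (cj h u)) →
      ¬ P 1 → ∀ u v : F, P u → v ≠ 1 → ¬ P v →
      (∀ w, P w → w ∈ C u) ∧ (Finset.univ.filter P).card = Nat.card H ∧
        Nat.card F = 2 * Nat.card H + 1 := by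
    intro P hP hP' hP1 u v hu hv1 hv
    have hu1 : u ≠ 1 := fun h => hP1 (h ▸ hu)
    have s1 : C u ⊆ Finset.univ.filter P := fun w hw => by
      obtain ⟨h, -, rfl⟩ := Finset.mem_image.1 hw
      exact Finset.mem_filter.2 ⟨Finset.mem_univ _, hP h u hu⟩
    have s2 : C v ⊆ (Finset.univ.erase (1 : F)).filter fun w => ¬ P w := fun w hw => by
      obtain ⟨h, -, rfl⟩ := Finset.mem_image.1 hw
      refine Finset.mem_filter.2 ⟨Finset.mem_erase.2 ⟨fun h1 => hv1 ?_, Finset.mem_univ _⟩, hP' h v hv⟩
      have h2 : (h : G) * v * (h : G)⁻¹ = 1 := congrArg Subtype.val h1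
      exact Subtype.ext (by simpa using h2)
    have e : (Finset.univ.erase (1 : F)).filter P = Finset.univ.filter P := by
      rw [Finset.filter_erase, Finset.erase_eq_of_notMem (by simp [hP1])]
    have hsum := Finset.card_filter_add_card_filter_not (s := Finset.univ.erase (1 : F)) (p := P)
    rw [e, Finset.card_erase_of_mem (Finset.mem_univ _), Finset.card_univ,
      ← Nat.card_eq_fintype_card] at hsum
    have c1 := Finset.card_le_card s1
    have c2 := Finset.card_le_card s2
    rw [hC u hu1] at c1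
    rw [hC v hv1] at c2
    refine ⟨fun w hw => ?_, by omega, by omega⟩
    rw [Finset.eq_of_subset_of_card_le s1 (by rw [hC u hu1]; omega)]
    exact Finset.mem_filter.2 ⟨Finset.mem_univ _, hw⟩
  rcases Nat.lt_or_ge (Nat.card F) 2 with hsmall | hbig
  · haveI : Subsingleton F := Finite.card_le_one_iff_subsingleton.1 (by omega)
    refine ⟨⟨⟨fun x y => Subsingleton.elim _ _⟩⟩, 2, 0, Nat.prime_two, fun u hu => ?_, ?_⟩
    · have : (⟨u, hu⟩ : F) = 1 := Subsingleton.elim _ _
      rw [show u = 1 from congrArg Subtype.val this, one_pow]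
    · have := Nat.card_pos (α := F); omega
  obtain ⟨p, hp, hpdvd⟩ := Nat.exists_prime_and_dvd (show Nat.card F ≠ 1 by omega)
  haveI : Fact p.Prime := ⟨hp⟩
  have hord : ∀ h u, orderOf (cj h u) = orderOf u := fun h u => by
    rw [← Subgroup.orderOf_coe, ← Subgroup.orderOf_coe u]
    exact MulEquiv.orderOf_eq (MulAut.conj (h : G)) _
  -- `F` is a `p`-group
  have hpgrp : ∀ q : ℕ, q.Prime → q ∣ Nat.card F → q = p := by
    intro q hq hqd
    by_contra hqp
    haveI : Fact q.Prime := ⟨hq⟩
    obtain ⟨v, hv⟩ := exists_prime_orderOf_dvd_card' (G := F) p hpdvd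
    obtain ⟨u, hu⟩ := exists_prime_orderOf_dvd_card' (G := F) q hqd
    obtain ⟨hall, hcnt, hn⟩ := hinv (fun w => orderOf w = p) (fun h w hw => (hord h w).trans hw)
      (fun h w hw => fun hw' => hw ((hord h w).symm.trans hw'))
      (by simp; exact hp.one_lt.ne) v u hv (fun h => by simp [h] at hu; exact hq.one_lt.ne hu)
      (by rw [hu]; exact hqp)
    letI act : MulAction (Subgroup.zpowers u) {w : F // orderOf w = p} :=
      { smul := fun g w => ⟨(g : F) * w * (g : F)⁻¹,
          (MulEquiv.orderOf_eq (MulAut.conj (g : F)) _).trans w.2⟩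
        one_smul := fun w => Subtype.ext (by show (1 : F) * w * (1 : F)⁻¹ = w; simp)
        mul_smul := fun g h w => Subtype.ext (by
          show ((g * h : Subgroup.zpowers u) : F) * w * ((g * h : Subgroup.zpowers u) : F)⁻¹ =
            (g : F) * ((h : F) * w * (h : F)⁻¹) * (g : F)⁻¹
          simp [mul_assoc]) }
    have hQ : IsPGroup q (Subgroup.zpowers u) := IsPGroup.of_card (n := 1)
      (by rw [Nat.card_zpowers, hu, pow_one])
    have hmod := hQ.card_modEq_card_fixedPoints {w : F // orderOf w = p}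
    have hfix : IsEmpty (MulAction.fixedPoints (Subgroup.zpowers u) {w : F // orderOf w = p}) := by
      refine ⟨fun w => ?_⟩
      have hc : u * (w.1 : F) * u⁻¹ = w.1 :=
        congrArg Subtype.val (w.2 ⟨u, Subgroup.mem_zpowers u⟩)
      have hcomm : Commute u (w.1 : F) := mul_inv_eq_iff_eq_mul.1 hc
      have hcop : (orderOf u).Coprime (orderOf (w.1 : F)) := by
        rw [hu, w.1.2]; exact (Nat.coprime_primes hq hp).2 hqp
      have hmul := hcomm.orderOf_mul_eq_mul_orderOf_of_coprime hcop
      rw [hu, w.1.2] at hmul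
      have hne1 : u * (w.1 : F) ≠ 1 := fun h => by
        rw [h, orderOf_one] at hmul
        have := hq.two_le; have := hp.two_le; nlinarith
      by_cases hP : orderOf (u * (w.1 : F)) = p
      · have := hq.two_le; have := hp.two_le; rw [hmul] at hP; nlinarith
      · obtain ⟨hall', -, -⟩ := hinv (fun z => z ≠ 1 ∧ orderOf z ≠ p)
          (fun h z hz => ⟨fun h1 => hz.1 (by
              have h2 : (h : G) * z * (h : G)⁻¹ = 1 := congrArg Subtype.val h1
              exact Subtype.ext (by simpa using h2)),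
            fun h1 => hz.2 ((hord h z).symm.trans h1)⟩)
          (fun h z hz h1 => hz ⟨fun h2 => h1.1 (by subst h2; exact Subtype.ext (by simp [cj])),
            fun h2 => h1.2 ((hord h z).trans h2)⟩)
          (by simp) u v ⟨fun h => by simp [h] at hu; exact hq.one_lt.ne hu, by rw [hu]; exact hqp⟩
          (fun h => by simp [h] at hv; exact hp.one_lt.ne hv) (by simp [hv])
        obtain ⟨h, -, hh⟩ := Finset.mem_image.1 (hall' _ ⟨hne1, hP⟩)
        have := hord h u
        rw [hh, hmul, hu] at this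
        have := hq.two_le; have := hp.two_le; nlinarith
    rw [(Nat.card_of_isEmpty :
        Nat.card (MulAction.fixedPoints (Subgroup.zpowers u) {w : F // orderOf w = p}) = 0),
      Nat.card_eq_fintype_card, Fintype.card_subtype, Nat.modEq_zero_iff_dvd] at hmod
    replace hmod : q ∣ Nat.card H := by rw [← hcnt]; convert hmod using 3
    rw [hn] at hqd
    exact hq.not_dvd_one ((Nat.dvd_add_right (Dvd.dvd.mul_left hmod 2)).1 hqd)
  obtain ⟨f, hf⟩ : ∃ f, Nat.card F = p ^ f :=
    ⟨_, Nat.eq_prime_pow_of_unique_prime_dvd (by omega) fun {q} hq hqd => hpgrp q hq hqd⟩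
  -- there is no proper non-trivial `H`-invariant subgroup
  have key : ∀ M : Subgroup F, (∀ h u, u ∈ M → cj h u ∈ M) → M ≠ ⊥ → M = ⊤ := by
    intro M hM hbot
    by_contra htop
    obtain ⟨v, hv⟩ : ∃ v, v ∉ M := by
      by_contra h; push Not at h; exact htop (eq_top_iff.2 fun x _ => h x)
    obtain ⟨u, hu, hu1⟩ := M.bot_or_exists_ne_one.resolve_left hbot
    have hMinv : ∀ h u, cj h u ∈ M → u ∈ M := fun h u hm => by
      have h1 := hM h⁻¹ _ hm
      have e : cj h⁻¹ (cj h u) = u := Subtype.ext (by simp [cj, mul_assoc])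
      rwa [e] at h1
    obtain ⟨-, hcnt, hn⟩ := hinv (fun w => w ∈ M ∧ w ≠ 1)
      (fun h w hw => ⟨hM h w hw.1, fun h1 => hw.2 (by
          have h2 : (h : G) * w * (h : G)⁻¹ = 1 := congrArg Subtype.val h1
          exact Subtype.ext (by simpa using h2))⟩)
      (fun h w hw h1 => hw ⟨hMinv h w h1.1, fun h2 => h1.2 (by
          subst h2; exact Subtype.ext (by simp [cj]))⟩)
      (by simp) u v ⟨hu, hu1⟩ (fun h => hv (h ▸ M.one_mem)) (fun h => hv h.1)
    have hcM : Nat.card M = Nat.card H + 1 := by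
      have hins : ∀ (A B : Finset F), (∀ x, x ∈ A ↔ x ∈ B ∨ x = 1) → (1 : F) ∉ B →
          A.card = B.card + 1 := fun A B hAB h1 => by
        rw [← Finset.card_insert_of_notMem h1]
        congr 1; ext x; rw [hAB, Finset.mem_insert, or_comm]
      rw [Nat.card_eq_fintype_card (α := M), Fintype.card_subtype, ← hcnt]
      refine hins _ _ (fun x => ?_) (by simp)
      by_cases hx : x = 1 <;> simp [hx]
    obtain ⟨i, -, hi⟩ := (Nat.dvd_prime_pow hp).1 (hf ▸ M.card_subgroup_dvd_card)
    have hi0 : i ≠ 0 := fun h => by rw [h, pow_zero] at hi; omega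
    have hdvd : p ∣ Nat.card M := hi ▸ dvd_pow_self p hi0
    rw [hn] at hpdvd
    rw [hcM] at hdvd
    have h2 : p ∣ 2 * Nat.card H + 1 + 1 := by
      rw [show 2 * Nat.card H + 1 + 1 = 2 * (Nat.card H + 1) by ring]
      exact Dvd.dvd.mul_left hdvd 2
    exact hp.not_dvd_one ((Nat.dvd_add_right hpdvd).1 h2)
  have hZcenter : Subgroup.center F = ⊤ := by
    refine key _ (fun h u hu => ?_) ?_
    · rw [Subgroup.mem_center_iff] at hu ⊢
      intro w
      have e := congrArg (fun z : F => (h : G) * z * (h : G)⁻¹) (hu (cj h⁻¹ w))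
      exact Subtype.ext (by simpa [cj, mul_assoc] using e)
    · haveI : Nontrivial F := Finite.one_lt_card_iff_nontrivial.1 (by omega)
      exact (Subgroup.nontrivial_iff_ne_bot _).1 (IsPGroup.of_card hf).center_nontrivial
  have hcomm : IsMulCommutative F := ⟨⟨fun x y =>
    (Subgroup.mem_center_iff.1 (hZcenter ▸ Subgroup.mem_top x) y).symm⟩⟩
  letI : CommGroup F := { (inferInstance : Group F) with mul_comm := hcomm.is_comm.comm }
  have hexp : (powMonoidHom p : F →* F).ker = ⊤ := by
    refine key _ (fun h u hu => ?_) ?_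
    · rw [MonoidHom.mem_ker, powMonoidHom_apply] at hu ⊢
      apply Subtype.ext
      show ((h : G) * u * (h : G)⁻¹) ^ p = 1
      rw [conj_pow, show (u : G) ^ p = 1 from congrArg Subtype.val hu]
      simp
    · obtain ⟨v, hv⟩ := exists_prime_orderOf_dvd_card' (G := F) p hpdvd
      intro h
      have hm : v ∈ (powMonoidHom p : F →* F).ker := by
        rw [MonoidHom.mem_ker, powMonoidHom_apply, ← hv, pow_orderOf_eq_one]
      rw [h, Subgroup.mem_bot] at hm
      rw [hm, orderOf_one] at hv
      exact hp.one_lt.ne hv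
  refine ⟨hcomm, p, f, hp, fun u hu => ?_, by omega⟩
  have hm : (⟨u, hu⟩ : F) ∈ (powMonoidHom p : F →* F).ker := hexp ▸ Subgroup.mem_top _
  exact congrArg Subtype.val hm

end Cfsg.Agent.S0738
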