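import Cfsg.Statements.S0739
import Cfsg.Agent.Lib.Zassenhaus.EvenPair

set_option autoImplicit false
open Cfsg

namespace Cfsg.Agent.S0739

open Cfsg.Agent.Lib.Zassenhaus

/-- In a finite Zassenhaus group whose two-point stabiliser `H = G_{a,b}` has odd order `d`, and which has no normal `q`-complement for any prime `q ∣ d`, `H` is cyclic, `C_G(H) = H`, and every element swapping `a` and `b` inverts each element of `H`. -/
theorem result {G Ω : Type*} [Group G] [Finite G] [MulAction G Ω] [Fintype Ω] (hZ : Cfsg.IsZassenhausGroup G Ω) {a b : Ω} (hab : a ≠ b) (hodd : Odd (Nat.card ↥(MulAction.stabilizer G a ⊓ MulAction.stabilizer G b))) (hnil : ∀ q : ℕ, q.Prime → q ∣ Nat.card ↥(MulAction.stabilizer G a ⊓ MulAction.stabilizer G b) → ¬ ∃ N : Subgroup G, N.Normal ∧ N.index = q ^ (Nat.card G).factorization q) : IsCyclic ↥(MulAction.stabilizer G a ⊓ MulAction.stabilizer G b) ∧ Subgroup.centralizer ((MulAction.stabilizer G a ⊓ MulAction.stabilizer G b : Subgroup G) : Set G) = MulAction.stabilizer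 G a ⊓ MulAction.stabilizer G b ∧ ∀ s : G, s • a = b → s • b = a → ∀ h ∈ MulAction.stabilizer G a ⊓ MulAction.stabilizer G b, s * h * s⁻¹ = h⁻¹ := by
  obtain ⟨hcyc, hinv⟩ := pair_cyclic_inverted hZ hab hodd hnil
  refine ⟨hcyc, le_antisymm (fun g hg => ?_) ?_, hinv⟩
  · obtain ⟨x, hx1, hxa, hxb⟩ := exists_fix_pair hZ hab
    have hx := mem_pair_stabilizer.2 ⟨hxa, hxb⟩
    have hc : x * g = g * x := Subgroup.mem_centralizer_iff.1 hg x hx
    have hgx : g * x * g⁻¹ = x := mul_inv_eq_iff_eq_mul.2 hc.symm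
    rcases pair_or_swap_of_conj hZ hab hx hx1 (by rw [hgx]; exact hx) with h | ⟨hga, hgb⟩
    · exact h
    · exfalso
      have h2 := hinv g hga hgb x hx
      rw [hgx] at h2
      have hsq : x ^ 2 = 1 := by rw [pow_two, ← eq_inv_iff_mul_eq_one]; exact h2
      obtain ⟨k, hk⟩ := hodd
      have hpow : x ^ (2 * k + 1) = 1 := by
        rw [← hk]
        exact congrArg Subtype.val (pow_card_eq_one'
          (x := (⟨x, hx⟩ : ↥(MulAction.stabilizer G a ⊓ MulAction.stabilizer G b))))
      rw [pow_succ, pow_mul, hsq, one_pow, one_mul] at hpow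
      exact hx1 hpow
  · intro x hx
    refine Subgroup.mem_centralizer_iff.2 fun y hy => ?_
    exact congrArg Subtype.val ((IsCyclic.commGroup
      (α := ↥(MulAction.stabilizer G a ⊓ MulAction.stabilizer G b))).mul_comm ⟨y, hy⟩ ⟨x, hx⟩)

end Cfsg.Agent.S0739
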