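import Cfsg.Statements.S0740
import Cfsg.Agent.Lib.Zassenhaus.EvenPair

set_option autoImplicit false
open Cfsg

namespace Cfsg.Agent.S0740

open Cfsg.Agent.Lib.Zassenhaus

/-- In a finite Zassenhaus group any two points `a ≠ b` are swapped by an involution; every such involution has exactly one fixed point when the degree is odd and 0 or 2 fixed points when the degree is even; and if the two-point stabiliser has even order, some such involution has exactly 2 fixed points. -/
theorem result {G Ω : Type*} [Group G] [Finite G] [MulAction G Ω] [Fintype Ω] (hZ : Cfsg.IsZassenhausGroup G Ω) {a b : Ω} (hab : a ≠ b) : (∃ s : G, orderOf s = 2 ∧ s • a = b ∧ s • b = a) ∧ (∀ s : G, orderOf s = 2 → s • a = b → s • b = a → (Odd (Fintype.card Ω) → Nat.card (MulAction.fixedBy Ω s) = 1) ∧ (Even (Fintype.card Ω) → Nat.card (MulAction.fixedBy Ω s) = 0 ∨ Nat.card (MulAction.fixedBy Ω s) = 2)) ∧ (Even (Fintype.card Ω) → Even (Nat.card ↥(MulAction.stabilizer G a ⊓ MulAction.stabilizer G b)) → ∃ s :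 G, orderOf s = 2 ∧ s • a = b ∧ s • b = a ∧ Nat.card (MulAction.fixedBy Ω s) = 2) := by
  refine ⟨exists_swap hZ hab, fun s hs hsa hsb => ⟨fun hodd => ?_, fun heven => ?_⟩, fun _ hd => ?_⟩
  · rw [← Nat.card_eq_fintype_card] at hodd
    obtain ⟨c, hc, hu⟩ := existsUnique_fixed_of_odd hZ hodd hs
    rw [Nat.card_coe_set_eq, Set.ncard_eq_one]
    exact ⟨c, Set.ext fun x => ⟨fun hx => hu x hx, fun hx => by rw [Set.mem_singleton_iff.1 hx]; exact hc⟩⟩
  · have h1 := card_fixedBy_le hZ (g := s) (fun h => by rw [h, orderOf_one] at hs; omega)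
    have h2 := card_fixedBy_mod_two (Ω := Ω) hs
    rw [← Nat.card_eq_fintype_card] at heven
    rw [Nat.even_iff.1 heven] at h2
    omega
  · obtain ⟨c, hca, hcb⟩ := exists_third hZ a b
    have h := two_mul_card_swaps hZ hab hd
    have h3 : 3 ≤ Nat.card Ω := by
      rw [← Set.ncard_univ]
      refine le_of_eq_of_le ?_ (Set.ncard_le_ncard (Set.subset_univ {a, b, c}) (Set.toFinite _))
      exact (Set.ncard_eq_three.2 ⟨a, b, c, hab, hca.symm, hcb.symm, rfl⟩).symm
    have hpos : 0 < Nat.card {i : G // orderOf i = 2 ∧ Nat.card (MulAction.fixedBy Ω i) = 2 ∧ i • a = b} := by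
      omega
    obtain ⟨⟨i, hi2, hifix, hia⟩⟩ := (Nat.card_pos_iff.1 hpos).1
    exact ⟨i, hi2, hia, swap_of_orderOf_two hZ hi2 hia, hifix⟩

end Cfsg.Agent.S0740
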