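import Cfsg.Statements.S0743
import Cfsg.Agent.Lib.PermTrans.Basic

set_option autoImplicit false
open Cfsg

namespace Cfsg.Agent.S0743

/-- Gleason's Lemma: let `p` be a prime and `1 ≤ k < n`; if every `k`-subset of the `n` points is exactly the fixed-point set of some `p`-subgroup of `G`, then `G` is `k`-transitive. -/
theorem result {α : Type*} [Fintype α] [DecidableEq α] (G : Subgroup (Equiv.Perm α)) {p k : ℕ} (hp : p.Prime) (hk : 1 ≤ k) (hkn : k < Fintype.card α) (h : ∀ s : Finset α, s.card = k → ∃ P : Subgroup G, IsPGroup p P ∧ MulAction.fixedPoints P α = (s : Set α)) : MulAction.IsMultiplyPretransitive G α k := by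
  classical
  haveI : Fact p.Prime := ⟨hp⟩
  refine Cfsg.Agent.Lib.PermTrans.of_fixing_transitive_top k hkn fun s hs x y hx hy => ?_
  set H := fixingSubgroup G (s : Set α)
  suffices y ∈ MulAction.orbit H x by
    obtain ⟨g, hg⟩ := this
    exact ⟨g.1, g.2, hg⟩
  -- the `p`-group fixing exactly `s` and one further point
  have key : ∀ z, z ∉ s → ∀ w, w ∉ s →
      Nat.card (MulAction.orbit H w) ≡ (if z ∈ MulAction.orbit H w then 1 else 0) [MOD p] := by
    intro z hz w hw
    obtain ⟨P, hP, hfix⟩ := h (insert z s) (by rw [Finset.card_insert_of_notMem hz]; omega)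
    have hPH : ∀ g ∈ P, g ∈ H := by
      intro g hg
      rw [mem_fixingSubgroup_iff]
      intro u hu
      have : u ∈ MulAction.fixedPoints P α := by
        rw [hfix]; exact Finset.mem_coe.2 (Finset.mem_insert_of_mem (Finset.mem_coe.1 hu))
      exact this ⟨g, hg⟩
    let O : SubMulAction P α :=
      { carrier := MulAction.orbit H w
        smul_mem' := fun g u hu => by
          obtain ⟨a, rfl⟩ := hu
          exact ⟨⟨g.1, hPH g.1 g.2⟩ * a, mul_smul _ _ _⟩ }
    have hmod := hP.card_modEq_card_fixedPoints O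
    refine hmod.trans ?_
    have hout : ∀ u ∈ MulAction.orbit H w, u ∉ s := by
      rintro u ⟨a, rfl⟩ hu
      have h1 : (a⁻¹ : H).1 • ((a : H) • w) = (a : H) • w :=
        (mem_fixingSubgroup_iff G).1 (a⁻¹ : H).2 _ (Finset.mem_coe.2 hu)
      change (a⁻¹ : H) • a • w = a • w at h1
      rw [inv_smul_smul] at h1
      exact hw (h1 ▸ hu)
    have hmem : ∀ u : O, u ∈ MulAction.fixedPoints P O ↔ (u : α) = z := by
      intro u
      have h1 : u ∈ MulAction.fixedPoints P O ↔ (u : α) ∈ MulAction.fixedPoints P α :=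
        ⟨fun hu g => congrArg Subtype.val (hu g), fun hu g => Subtype.ext (hu g)⟩
      rw [h1, hfix]
      simp only [Finset.coe_insert, Set.mem_insert_iff, Finset.mem_coe]
      exact ⟨fun hu => hu.resolve_right (hout _ u.2), Or.inl⟩
    split_ifs with hzw
    · suffices hc : Nat.card (MulAction.fixedPoints P O) = 1 by rw [hc]
      rw [Nat.card_eq_one_iff_unique]
      exact ⟨⟨fun a b => Subtype.ext (Subtype.ext (((hmem a.1).1 a.2).trans ((hmem b.1).1 b.2).symm))⟩,
        ⟨⟨⟨z, hzw⟩, (hmem _).2 rfl⟩⟩⟩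
    · suffices hc : Nat.card (MulAction.fixedPoints P O) = 0 by rw [hc]
      rw [Nat.card_eq_zero]
      exact Or.inl ⟨fun u => hzw ((hmem u.1).1 u.2 ▸ u.1.2)⟩
  by_contra hne
  have h1 := key x hx x hx
  have h2 := key y hy x hx
  rw [if_pos (MulAction.mem_orbit_self x)] at h1
  rw [if_neg hne] at h2
  have h3 : 1 ≡ 0 [MOD p] := h1.symm.trans h2
  have := (Nat.modEq_zero_iff_dvd).1 h3
  exact hp.not_dvd_one this

end Cfsg.Agent.S0743
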