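import Cfsg.Statements.S0744
import Cfsg.Agent.Lib.PermTrans.Basic

set_option autoImplicit false
open Cfsg

namespace Cfsg.Agent.S0744

theorem natCard_orbit_mul_stabilizer {M β : Type*} [Group M] [MulAction M β] (b : β) :
    Nat.card (MulAction.orbit M b) * Nat.card (MulAction.stabilizer M b) = Nat.card M := by
  rw [Nat.card_congr (MulAction.orbitEquivQuotientStabilizer M b)]
  exact (MulAction.stabilizer M b).card_eq_card_quotient_mul_card_subgroup.symm

/-- If for some `k > 1` the pointwise stabilisers of all `(k-1)`-subsets have the same order `> 1` and those of all `k`-subsets have the same order, then the group is `(k-1)`-transitive. -/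
theorem result {α : Type*} [Fintype α] [DecidableEq α] (G : Subgroup (Equiv.Perm α)) {k : ℕ} (hk : 1 < k) (hkn : k ≤ Fintype.card α) (l m : ℕ) (hl : 1 < l) (hkm1 : ∀ s : Finset α, s.card = k - 1 → Nat.card (fixingSubgroup G (s : Set α)) = l) (hkm : ∀ s : Finset α, s.card = k → Nat.card (fixingSubgroup G (s : Set α)) = m) : MulAction.IsMultiplyPretransitive G α (k - 1) := by
  classical
  refine Cfsg.Agent.Lib.PermTrans.of_fixing_transitive_top (k - 1) (by omega) fun s hs x y hx hy => ?_
  set H := fixingSubgroup G (s : Set α)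
  suffices y ∈ MulAction.orbit H x by
    obtain ⟨g, hg⟩ := this
    exact ⟨g.1, g.2, hg⟩
  by_contra hne
  have hstab : ∀ (t : Finset α) (z : α), Nat.card (MulAction.stabilizer
      (fixingSubgroup G (t : Set α)) z) = Nat.card (fixingSubgroup G ((insert z t : Finset α) : Set α)) := by
    intro t z
    refine Nat.card_congr
      { toFun := fun g => ⟨g.1.1, ?_⟩
        invFun := fun g => ⟨⟨g.1, ?_⟩, ?_⟩
        left_inv := fun g => rfl
        right_inv := fun g => rfl }
    · rw [mem_fixingSubgroup_iff]
      intro u hu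
      rcases Finset.mem_insert.1 (Finset.mem_coe.1 hu) with h | h
      · subst h; exact g.2
      · exact (mem_fixingSubgroup_iff G).1 g.1.2 u h
    · rw [mem_fixingSubgroup_iff]
      exact fun u hu => (mem_fixingSubgroup_iff G).1 g.2 u (Finset.mem_coe.2 (Finset.mem_insert_of_mem hu))
    · exact (mem_fixingSubgroup_iff G).1 g.2 z (Finset.mem_coe.2 (Finset.mem_insert_self z t))
  -- all orbits of the fixator of `s` on the other points have length `|H| / l`
  have horb : ∀ z, z ∉ s → Nat.card (MulAction.orbit H z) * l = Nat.card H := by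
    intro z hz
    rw [← hkm1 (insert z s) (by rw [Finset.card_insert_of_notMem hz]; omega), ← hstab s z,
      natCard_orbit_mul_stabilizer]
  -- orbits of the fixator of `insert x s`
  set T := insert x s with hT
  set K := fixingSubgroup G (T : Set α)
  have hTc : T.card = k - 1 := by rw [hT, Finset.card_insert_of_notMem hx]; omega
  have hKorb : ∀ z, z ∉ T → Nat.card (MulAction.orbit K z) * m = l := by
    intro z hz
    rw [← hkm (insert z T) (by rw [Finset.card_insert_of_notMem hz]; omega), ← hstab T z,
      natCard_orbit_mul_stabilizer, hkm1 T hTc]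
  have hKH : K ≤ H := fixingSubgroup_antitone G α (Finset.coe_subset.2 (Finset.subset_insert x s))
  -- a union of `K`-orbits not meeting `T` has size divisible by the common length
  obtain ⟨d, hd⟩ : ∃ d, ∀ z, z ∉ T → Nat.card (MulAction.orbit K z) = d := by
    have hxy : y ∉ T := by
      simp only [hT, Finset.mem_insert, not_or]
      exact ⟨fun h => hne (by rw [h]; exact MulAction.mem_orbit_self x), hy⟩
    refine ⟨Nat.card (MulAction.orbit K y), fun z hz => ?_⟩
    have h1 := hKorb z hz
    have h2 := hKorb y hxy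
    have hm : m ≠ 0 := fun h => by rw [h, mul_zero] at h2; omega
    exact mul_right_cancel₀ hm (h1.trans h2.symm)
  have hout : ∀ z, z ∉ s → ∀ u ∈ MulAction.orbit H z, u ∉ s := by
    rintro z hz u ⟨a, rfl⟩ hu
    have h1 : (a⁻¹ : H).1 • ((a : H) • z) = (a : H) • z :=
      (mem_fixingSubgroup_iff G).1 (a⁻¹ : H).2 _ (Finset.mem_coe.2 hu)
    change (a⁻¹ : H) • a • z = a • z at h1
    rw [inv_smul_smul] at h1
    exact hz (h1 ▸ hu)
  have hdvd : ∀ S : Finset α, (∀ u ∈ S, u ∉ T) → (∀ u ∈ S, ∀ g : K, g • u ∈ S) → d ∣ S.card := by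
    intro S
    induction S using Finset.strongInduction with
    | H S ih =>
      intro h1 h2
      rcases S.eq_empty_or_nonempty with rfl | ⟨u, hu⟩
      · simp
      set O := (MulAction.orbit K u).toFinset with hO
      have hOS : O ⊆ S := by
        intro v hv
        obtain ⟨g, rfl⟩ := Set.mem_toFinset.1 hv
        exact h2 u hu g
      have hOc : O.card = d := by
        rw [← hd u (h1 u hu), Nat.card_coe_set_eq, Set.ncard_eq_toFinset_card']
      have hsdiff : S \ O ⊂ S :=
        Finset.sdiff_ssubset hOS ⟨u, Set.mem_toFinset.2 (MulAction.mem_orbit_self u)⟩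
      have := ih _ hsdiff (fun v hv => h1 v (Finset.mem_sdiff.1 hv).1) (fun v hv g => by
        obtain ⟨hvS, hvO⟩ := Finset.mem_sdiff.1 hv
        refine Finset.mem_sdiff.2 ⟨h2 v hvS g, fun hg => hvO ?_⟩
        rw [Set.mem_toFinset] at hg ⊢
        simpa using MulAction.mem_orbit_of_mem_orbit g⁻¹ hg)
      rw [← Finset.card_sdiff_add_card_eq_card hOS, hOc]
      exact dvd_add this (dvd_refl d)
  have hinv : ∀ z : α, ∀ u : α, u ∈ (MulAction.orbit H z).toFinset → ∀ g : K,
      g • u ∈ (MulAction.orbit H z).toFinset := by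
    intro z u hu g
    rw [Set.mem_toFinset] at hu ⊢
    exact MulAction.mem_orbit_of_mem_orbit (⟨g.1, hKH g.2⟩ : H) hu
  have hA : d ∣ (MulAction.orbit H y).toFinset.card := by
    refine hdvd _ (fun u hu => ?_) (hinv y)
    rw [Set.mem_toFinset] at hu
    simp only [hT, Finset.mem_insert, not_or]
    exact ⟨fun h => hne (by rw [h] at hu; exact MulAction.mem_orbit_symm.1 hu), hout y hy u hu⟩
  have hB : d ∣ ((MulAction.orbit H x).toFinset.erase x).card := by
    refine hdvd _ (fun u hu => ?_) (fun u hu g => ?_)
    · obtain ⟨hux, hu⟩ := Finset.mem_erase.1 hu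
      rw [Set.mem_toFinset] at hu
      simp only [hT, Finset.mem_insert, not_or]
      exact ⟨hux, hout x hx u hu⟩
    · obtain ⟨hux, hu⟩ := Finset.mem_erase.1 hu
      refine Finset.mem_erase.2 ⟨fun h => hux ?_, hinv x u hu g⟩
      have hgx : g • x = x := (mem_fixingSubgroup_iff G).1 g.2 x
        (Finset.mem_coe.2 (Finset.mem_insert_self x s))
      exact MulAction.injective g (h.trans hgx.symm)
  have hr : (MulAction.orbit H y).toFinset.card = (MulAction.orbit H x).toFinset.card := by
    have h1 := horb x hx
    have h2 := horb y hy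
    simp only [Nat.card_coe_set_eq, Set.ncard_eq_toFinset_card'] at h1 h2
    exact mul_right_cancel₀ (by omega : l ≠ 0) (h2.trans h1.symm)
  rw [Finset.card_erase_of_mem (Set.mem_toFinset.2 (MulAction.mem_orbit_self x))] at hB
  rw [hr] at hA
  have hpos : 0 < (MulAction.orbit H x).toFinset.card :=
    Finset.card_pos.2 ⟨x, Set.mem_toFinset.2 (MulAction.mem_orbit_self x)⟩
  have hd1 : d = 1 := by
    have := Nat.dvd_sub hA hB
    rw [show (MulAction.orbit H x).toFinset.card - ((MulAction.orbit H x).toFinset.card - 1) = 1 by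
      omega] at this
    exact Nat.dvd_one.1 this
  -- the fixator of `T` fixes every point, hence is trivial
  have hbot : Subsingleton K := by
    refine ⟨fun a b => ?_⟩
    suffices h : ∀ (g : K) (z : α), g • z = z by
      refine Subtype.ext (Subtype.ext (Equiv.ext fun z => ?_))
      exact (h a z).trans (h b z).symm
    intro g z
    by_cases hz : z ∈ T
    · exact (mem_fixingSubgroup_iff G).1 g.2 z hz
    · have h1 := hd z hz
      rw [hd1, Nat.card_eq_one_iff_unique] at h1
      exact congrArg Subtype.val (h1.1.elim (⟨g • z, g, rfl⟩ : MulAction.orbit K z)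
        ⟨z, MulAction.mem_orbit_self z⟩)
  have : Nat.card K = 1 := Nat.card_eq_one_iff_unique.2 ⟨hbot, inferInstance⟩
  rw [hkm1 T hTc] at this
  omega

end Cfsg.Agent.S0744
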