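import Cfsg.Statements.S0745
import Cfsg.Agent.Lib.Homogeneous.LWSmall
import Cfsg.Agent.Lib.Homogeneous.LWFive
import Cfsg.Agent.Lib.Homogeneous.LWLarge

set_option autoImplicit false
open Cfsg
open scoped Pointwise

namespace Cfsg.Agent.S0745

open Cfsg.Agent.Lib.Homogeneous

/-- Let `G` have degree `n` and `3 ≤ k ≤ n`; suppose `G` is `(k-2)`-transitive but not `(k-1)`-transitive, and is `(k-1)`-homogeneous and `k`-homogeneous. Then `k = n` and `G` is the alternating group, or `n = 5, k = 4, |G| = 20`, or `n = 6, k = 5, |G| = 120`, or `n = 9, k = 5, |G| ∈ {504, 1512}`. -/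
theorem result {α : Type*} [Fintype α] [DecidableEq α] (G : Subgroup (Equiv.Perm α)) {k : ℕ} (hk : 3 ≤ k) (hkn : k ≤ Fintype.card α) (ht : MulAction.IsMultiplyPretransitive G α (k - 2)) (hnt : ¬ MulAction.IsMultiplyPretransitive G α (k - 1)) (hh1 : MulAction.IsPretransitive G (Set.powersetCard α (k - 1))) (hh : MulAction.IsPretransitive G (Set.powersetCard α k)) : (k = Fintype.card α ∧ G = alternatingGroup α) ∨ (Fintype.card α = 5 ∧ k = 4 ∧ Nat.card G = 20) ∨ (Fintype.card α = 6 ∧ k = 5 ∧ Nat.card G = 120) ∨ (Fintype.card α = 9 ∧ k = 5 ∧ (Nat.card G = 504 ∨ Nat.card G = 1512)) := by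
  have hT : Trans G (k - 2) := trans_of_mult (by omega) ht
  have hnT : ¬ Trans G (k - 1) := fun h => hnt (mult_of_trans h)
  obtain ⟨j, rfl⟩ : ∃ j, k = j + 2 := ⟨k - 2, by omega⟩
  simp only [Nat.add_sub_cancel] at hT
  rw [show j + 2 - 1 = j + 1 by omega] at hh1 hnT
  by_cases h3 : j = 1
  · subst h3
    obtain ⟨h1, h2⟩ := lw_three hT hnT hkn hh1 hh
    exact Or.inl ⟨h1.symm, h2⟩
  by_cases h4 : j = 2
  · subst h4
    rcases lw_four hT hnT hkn hh1 hh with ⟨h1, h2⟩ | ⟨h1, h2⟩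
    · exact Or.inl ⟨h1.symm, h2⟩
    · exact Or.inr (Or.inl ⟨h1, rfl, h2⟩)
  by_cases h5 : j = 3
  · subst h5
    rcases lw_five hT hnT hkn hh1 hh with ⟨h1, h2⟩ | ⟨h1, h2⟩ | ⟨h1, h2⟩
    · exact Or.inl ⟨h1.symm, h2⟩
    · exact Or.inr (Or.inr (Or.inl ⟨h1, rfl, h2⟩))
    · exact Or.inr (Or.inr (Or.inr ⟨h1, rfl, h2⟩))
  obtain ⟨h1, h2⟩ := lw_large (by omega) hkn hT hnT (homog_of_pretransitive hh1)
  exact Or.inl ⟨h1.symm, h2⟩

end Cfsg.Agent.S0745
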