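import Cfsg.Statements.S0746
import Cfsg.Agent.S0736
import Cfsg.Agent.S0745

set_option autoImplicit false
open Cfsg
open scoped Pointwise

namespace Cfsg.Agent.S0746

open Cfsg.Agent.Lib.Homogeneous

/-- The Livingstone–Wagner Theorem, first form: a `k`-homogeneous group of degree `n` with `4 ≤ 2k ≤ n` is `(k-1)`-transitive. -/
theorem result {α : Type*} [Fintype α] [DecidableEq α] (G : Subgroup (Equiv.Perm α)) {k : ℕ} (hk : 2 ≤ k) (hkn : 2 * k ≤ Fintype.card α) (hh : MulAction.IsPretransitive G (Set.powersetCard α k)) : MulAction.IsMultiplyPretransitive G α (k - 1) := by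
  induction k using Nat.strong_induction_on with
  | _ k ih =>
  have hq : ∀ q : ℕ, IsPrimePow q → q ∣ k → k + q - 1 ≤ Fintype.card α := fun q _ hd => by
    have := Nat.le_of_dvd (by omega) hd
    omega
  have h1 := Cfsg.Agent.S0736.result G hk hh hq
  by_cases hk2 : k = 2
  · subst hk2
    refine mult_of_trans (fun S f hS hf => ?_)
    rcases S.eq_empty_or_nonempty with rfl | ⟨x, hx⟩
    · exact ⟨1, G.one_mem, by simp⟩
    obtain ⟨g, hg, e⟩ := homog_of_pretransitive h1 {x} {f x} (by simp) (by simp)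
    refine ⟨g, hg, fun z hz => ?_⟩
    rw [Finset.card_le_one.1 hS z hz x hx]
    simpa using e
  by_contra hnt
  have h2 : MulAction.IsMultiplyPretransitive G α (k - 2) := by
    have := ih (k - 1) (by omega) (by omega) (by omega) h1
    rwa [show k - 1 - 1 = k - 2 by omega] at this
  rcases Cfsg.Agent.S0745.result G (show 3 ≤ k by omega) (by omega) h2 hnt h1 hh with
    ⟨h, -⟩ | ⟨h, h', -⟩ | ⟨h, h', -⟩ | ⟨h, h', -⟩ <;> omega

end Cfsg.Agent.S0746
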