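import Cfsg.Statements.S0748
import Cfsg.Agent.S0746
import Cfsg.Agent.Lib.Homogeneous.LWLarge

set_option autoImplicit false
open Cfsg
open scoped Pointwise

namespace Cfsg.Agent.S0748

open Cfsg.Agent.Lib.Homogeneous

/-- The Livingstone–Wagner Theorem: a `k`-homogeneous permutation group of degree `n` with `10 ≤ 2k ≤ n` is `k`-transitive. -/
theorem result {α : Type*} [Fintype α] [DecidableEq α] (G : Subgroup (Equiv.Perm α)) {k : ℕ} (hk : 5 ≤ k) (hkn : 2 * k ≤ Fintype.card α) (hh : MulAction.IsPretransitive G (Set.powersetCard α k)) : MulAction.IsMultiplyPretransitive G α k := by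
  obtain ⟨j, rfl⟩ : ∃ j, k = j + 1 := ⟨k - 1, by omega⟩
  have h1 := Cfsg.Agent.S0746.result G (show 2 ≤ j + 1 by omega) hkn hh
  simp only [Nat.add_sub_cancel] at h1
  refine mult_of_trans ?_
  by_contra hnt
  have hall := fullAlt_noSwap_of_not_trans (show 4 ≤ j by omega) (by omega)
    (trans_of_mult (by omega) h1) hnt (homog_of_pretransitive hh)
  exact not_fullAlt_noSwap (show 4 ≤ j by omega) (by omega) (trans_of_mult (by omega) h1)
    (fun Δ hΔ => (hall Δ hΔ).1) fun Δ hΔ => (hall Δ hΔ).2

end Cfsg.Agent.S0748
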