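import Cfsg.Statements.S0752
import Cfsg.Agent.Lib.Symplectic.Order

set_option autoImplicit false
open Cfsg

namespace Cfsg.Agent.S0752

/-- Classification of alternating forms: for an alternating bilinear form B on a finite-dimensional space over any field there is a basis indexed by (Fin m ⊕ Fin m) ⊕ Fin k such that B (e_i, f_j) = δ_ij, the e's are pairwise orthogonal, the f's are pairwise orthogonal, and the last k basis vectors are orthogonal to everything (they span the radical). -/
theorem result {F V : Type*} [Field F] [AddCommGroup V] [Module F V] [FiniteDimensional F V] (B : LinearMap.BilinForm F V) (hA : B.IsAlt) : ∃ (m k : ℕ) (b : Module.Basis ((Fin m ⊕ Fin m) ⊕ Fin k) F V), (∀ i j : Fin m, B (b (Sum.inl (Sum.inl i))) (b (Sum.inl (Sum.inr j))) = if i = j then 1 else 0) ∧ (∀ i j : Fin m, B (b (Sum.inl (Sum.inl i))) (b (Sum.inl (Sum.inl j))) = 0) ∧ (∀ i j : Fin m, B (b (Sum.inl (Sum.inr i))) (b (Sum.inl (Sum.inr j))) = 0) ∧ (∀ (j : Fin k) (v : V), B (b (Sum.inr j)) v = 0) :=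 by
  obtain ⟨W, hW⟩ := Submodule.exists_isCompl (LinearMap.ker B)
  have hrad : ∀ (z : LinearMap.ker B) (v : V), B z v = 0 ∧ B v z = 0 := fun z v => by
    have h1 : B z v = 0 := by rw [show B (z : V) = 0 from z.2]; rfl
    exact ⟨h1, by rw [← LinearMap.IsAlt.neg hA, h1, neg_zero]⟩
  let BW : W →ₗ[F] W →ₗ[F] F := Lib.Symplectic.restr B W
  have hBW : Lib.Symplectic.IsSympForm BW := by
    refine ⟨fun x => hA (x : V), fun x hx => ?_⟩
    have hz : B (x : V) = 0 := by
      refine LinearMap.ext fun v => ?_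
      obtain ⟨z, hz, w, hw, rfl⟩ : ∃ z ∈ LinearMap.ker B, ∃ w ∈ W, z + w = v :=
        Submodule.mem_sup.1 (by rw [hW.sup_eq_top]; trivial)
      rw [map_add, (hrad ⟨z, hz⟩ x).2, zero_add]
      exact hx ⟨w, hw⟩
    exact Subtype.ext (Submodule.disjoint_def.1 hW.disjoint _ hz x.2)
  obtain ⟨m, -, e, he⟩ := Lib.Symplectic.exists_std hBW
  let bW : Module.Basis (Fin m ⊕ Fin m) F W :=
    ((Pi.basisFun F (Fin m ⊕ Fin m)).map e).reindex (Equiv.sumComm _ _)
  let br := Module.finBasis F (LinearMap.ker B)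
  let b := (bW.prod br).map (Submodule.prodEquivOfIsCompl W (LinearMap.ker B) hW.symm)
  have hl : ∀ i, b (Sum.inl i) = (e (Pi.single i.swap 1) : V) := fun i => by
    simp [b, bW]
  have hr : ∀ j, b (Sum.inr j) = (br j : V) := fun j => by simp [b]
  refine ⟨m, _, b, fun i j => ?_, fun i j => ?_, fun i j => ?_, fun j v => ?_⟩
  all_goals simp only [hl, hr]
  · rw [show B (e _ : V) (e _ : V) = BW (e _) (e _) from rfl, he]
    simp [Lib.Symplectic.stdForm_apply, Pi.single_apply, Sum.swap]
    by_cases h : i = j <;> simp [h, eq_comm]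
  · rw [show B (e _ : V) (e _ : V) = BW (e _) (e _) from rfl, he]
    simp [Lib.Symplectic.stdForm_apply, Sum.swap]
  · rw [show B (e _ : V) (e _ : V) = BW (e _) (e _) from rfl, he]
    simp [Lib.Symplectic.stdForm_apply, Sum.swap]
  · exact (hrad (br j) v).1

end Cfsg.Agent.S0752
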