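import Cfsg.Statements.S0754
import Cfsg.Agent.Lib.Unitary.Basic

set_option autoImplicit false
open Cfsg

namespace Cfsg.Agent.S0754

/-- In a field F with q^2 elements, every non-zero μ with μ^q = μ (that is, μ in the subfield of order q) has exactly q + 1 solutions λ of λ^(q+1) = μ. -/
theorem result {F : Type*} [Field F] [Fintype F] {q : ℕ} (hF : Fintype.card F = q ^ 2) (μ : F) (hμ : μ ≠ 0) (hμq : μ ^ q = μ) : Nat.card {x : F // x ^ (q + 1) = μ} = q + 1 := by
  obtain ⟨x₀, hx₀⟩ := Lib.Unitary.norm_surj hF hμq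
  have hx₀' : x₀ ^ (q + 1) = μ := by rw [pow_succ', hx₀]
  have hne : x₀ ≠ 0 := fun h => hμ (by rw [← hx₀', h, zero_pow (Nat.succ_ne_zero q)])
  refine (Nat.card_congr ?_).trans (Lib.Unitary.card_norm_one hF)
  exact
    { toFun := fun x => ⟨x.1 / x₀, by rw [div_pow, x.2, hx₀', div_self hμ]⟩
      invFun := fun y => ⟨y.1 * x₀, by rw [mul_pow, y.2, hx₀', one_mul]⟩
      left_inv := fun x => Subtype.ext (div_mul_cancel₀ _ hne)
      right_inv := fun y => Subtype.ext (mul_div_cancel_right₀ _ hne) }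

end Cfsg.Agent.S0754
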