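import Cfsg.Statements.S0758
import Cfsg.Agent.Lib.Forms.Basis

set_option autoImplicit false
open Cfsg

namespace Cfsg.Agent.S0758

/-- For a finite field F of odd order q and a non-square α: the form x² + y² is isotropic iff q ≡ 1 mod 4, and the form x² + α y² is isotropic iff q ≡ 3 mod 4. -/
theorem result {F : Type*} [Field F] [Fintype F] (h2 : (2 : F) ≠ 0) (α : F) (hα : ¬ IsSquare α) : ((∃ x y : F, (x ≠ 0 ∨ y ≠ 0) ∧ x ^ 2 + y ^ 2 = 0) ↔ Fintype.card F % 4 = 1) ∧ ((∃ x y : F, (x ≠ 0 ∨ y ≠ 0) ∧ x ^ 2 + α * y ^ 2 = 0) ↔ Fintype.card F % 4 = 3) := by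
  classical
  have hchar : ringChar F ≠ 2 := fun h => h2 (by
    have := ringChar.Nat.cast_ringChar (R := F)
    rw [h] at this; exact_mod_cast this)
  have hodd := FiniteField.odd_card_of_char_ne_two hchar
  have hneg : IsSquare (-1 : F) ↔ Fintype.card F % 4 ≠ 3 := FiniteField.isSquare_neg_one_iff
  have key : ∀ c : F, c ≠ 0 → ((∃ x y : F, (x ≠ 0 ∨ y ≠ 0) ∧ x ^ 2 + c * y ^ 2 = 0) ↔ IsSquare (-c)) := by
    intro c hc
    constructor
    · rintro ⟨x, y, hxy, h⟩
      have hy : y ≠ 0 := by
        intro hy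
        have hx : x = 0 := by simpa [hy] using h
        exact hxy.elim (fun h => h hx) (fun h => h hy)
      exact ⟨x / y, by field_simp; linear_combination -h⟩
    · rintro ⟨r, hr⟩
      exact ⟨r, 1, Or.inr one_ne_zero, by linear_combination -hr⟩
  have hα0 : α ≠ 0 := fun h => hα (h ▸ IsSquare.zero)
  constructor
  · have := key 1 one_ne_zero
    simp only [one_mul] at this
    rw [this, hneg]
    omega
  · rw [key α hα0]
    have hiff : IsSquare (-α) ↔ ¬ IsSquare (-1 : F) := by
      constructor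
      · intro h h1
        exact hα (by simpa using h1.mul h)
      · intro h1
        have h3 := Lib.Forms.isSquare_div_of_nonsquares h2 hα h1
        have e : α / (-1) = -α := by field_simp
        rwa [e] at h3
    rw [hiff, hneg]
    omega

end Cfsg.Agent.S0758
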