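import Cfsg.Statements.S0759
import Cfsg.Agent.Lib.Forms.Basis

set_option autoImplicit false
open Cfsg

namespace Cfsg.Agent.S0759

/-- Type of the orthonormal form: over a finite field of odd order q and for m ≥ 1, the quadratic form Σ_(i<2m) x_i² on F^(2m) admits an m-dimensional subspace on which it vanishes identically if and only if it is not the case that q ≡ 3 (mod 4) and m is odd. -/
theorem result {F : Type*} [Field F] [Fintype F] (h2 : (2 : F) ≠ 0) (m : ℕ) (hm : 1 ≤ m) : (∃ W : Submodule F (Fin (2 * m) → F), Module.finrank F W = m ∧ ∀ w ∈ W, ∑ i, w i ^ 2 = 0) ↔ ¬ (Fintype.card F % 4 = 3 ∧ Odd m) := by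
  classical
  let ι := finSumFinEquiv.trans (finCongr (two_mul m).symm)
  let r : (Fin m ⊕ Fin m → F) ≃ₗ[F] (Fin (2 * m) → F) := LinearEquiv.funCongrLeft F F ι.symm
  let Q : QuadraticForm F (Fin m ⊕ Fin m → F) :=
    QuadraticMap.weightedSumSquares F (fun _ : Fin m ⊕ Fin m => (1 : F))
  have hr : ∀ v, ∑ i, r v i ^ 2 = Q v := fun v => by
    rw [← ι.sum_comp]
    simp [Q, r, QuadraticMap.weightedSumSquares_apply, pow_two]
  have hQi : (∃ W : Submodule F (Fin (2 * m) → F), Module.finrank F W = m ∧ ∀ w ∈ W, ∑ i, w i ^ 2 = 0) ↔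
      ∃ W : Submodule F (Fin m ⊕ Fin m → F), Module.finrank F W = m ∧ ∀ w ∈ W, Q w = 0 := by
    constructor
    · rintro ⟨W, hW, hw⟩
      refine ⟨W.map r.symm.toLinearMap, by rw [LinearEquiv.finrank_map_eq, hW], ?_⟩
      rintro _ ⟨x, hx, rfl⟩
      rw [← hr]; simpa using hw x hx
    · rintro ⟨W, hW, hw⟩
      refine ⟨W.map r.toLinearMap, by rw [LinearEquiv.finrank_map_eq, hW], ?_⟩
      rintro _ ⟨x, hx, rfl⟩
      exact (hr x).trans (hw x hx)
  rw [hQi]
  have hneg : IsSquare (-1 : F) ↔ Fintype.card F % 4 ≠ 3 := FiniteField.isSquare_neg_one_iff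
  constructor
  · rintro ⟨W, hW, hw⟩ ⟨hq, hmo⟩
    have hsq : ¬ IsSquare (-1 : F) := fun h => hneg.1 h hq
    have hN : Lib.Forms.Nondeg Q := by
      intro x hx
      funext i
      have h := hx (Pi.single i 1)
      rw [Lib.Forms.polar_eq_gram, Lib.Forms.gram_weightedSumSquares, Matrix.mulVec_single_one] at h
      simpa [Matrix.col, Matrix.diagonal_apply, dotProduct, h2] using h
    have hfr : Module.finrank F (Fin m ⊕ Fin m → F) = 2 * m := by simp [two_mul]
    rcases Lib.Forms.classify Q hN with ⟨k, hk, he⟩ | ⟨k, c, _, _, hk, _⟩ | ⟨k, a, b, hab, hk, ⟨e⟩⟩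
    · obtain rfl : m = k := by omega
      obtain ⟨d, hd⟩ := Lib.Forms.disc_of_equivalent h2 _ _
        (he.trans (Lib.Forms.qPlus_equiv_diag h2 m))
      rw [Finset.prod_const_one, Fintype.prod_sum_type] at hd
      simp only [Sum.elim_inl, Sum.elim_inr, Finset.prod_const_one, one_mul, Finset.prod_const,
        Finset.card_univ, Fintype.card_fin, hmo.neg_one_pow] at hd
      exact hsq ⟨d, by linear_combination -hd⟩
    · omega
    · have hle := Lib.Forms.witt_index_le (Lib.Forms.qBin_nondeg hab) (Lib.Forms.qBin_anisotropic hab) k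
        (W.map e.toLinearEquiv.toLinearMap) (by
          rintro _ ⟨x, hx, rfl⟩
          exact (e.map_app x).trans (hw x hx))
      rw [LinearEquiv.finrank_map_eq, hW] at hle
      omega
  · intro h
    obtain ⟨M, hM⟩ : ∃ M : Matrix (Fin m) (Fin m) F, M.transpose * M = -1 := by
      by_cases hsq : IsSquare (-1 : F)
      · obtain ⟨i, hi⟩ := hsq
        exact ⟨i • 1, by rw [Matrix.transpose_smul, Matrix.transpose_one, Matrix.smul_mul, Matrix.one_mul,
          smul_smul, ← hi, neg_smul, one_smul]⟩
      · obtain ⟨k, rfl⟩ : Even m := by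
          by_contra hme
          exact h ⟨by by_contra hq; exact hsq (hneg.2 hq), Nat.not_even_iff_odd.1 hme⟩
        obtain ⟨a, b, hab⟩ := Lib.Forms.exists_sq_add_sq h2 one_ne_zero one_ne_zero (-1 : F)
        let M₀ : Matrix (Fin k ⊕ Fin k) (Fin k ⊕ Fin k) F :=
          Matrix.fromBlocks (a • 1) (b • 1) ((-b) • 1) (a • 1)
        refine ⟨Matrix.reindex finSumFinEquiv finSumFinEquiv M₀, ?_⟩
        have : M₀.transpose * M₀ = -1 := by
          rw [Matrix.fromBlocks_transpose, Matrix.fromBlocks_multiply, ← Matrix.fromBlocks_one,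
            Matrix.fromBlocks_neg]
          simp only [Matrix.transpose_smul, Matrix.transpose_one, Matrix.smul_mul, Matrix.one_mul,
            smul_smul, neg_mul, mul_neg, neg_neg]
          congr 1
          · rw [← add_smul, show a * a + b * b = (-1 : F) by linear_combination hab, neg_smul, one_smul]
          · rw [mul_comm b a, ← add_smul, add_neg_cancel, zero_smul, neg_zero]
          · rw [mul_comm b a, ← add_smul, add_neg_cancel, zero_smul, neg_zero]
          · rw [← add_smul, show b * b + a * a = (-1 : F) by linear_combination hab, neg_smul, one_smul]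
        rw [Matrix.reindex_apply, Matrix.transpose_submatrix, Matrix.submatrix_mul_equiv, this]
        ext i j
        simp [Matrix.one_apply]
    let L : (Fin m → F) →ₗ[F] (Fin m ⊕ Fin m → F) :=
      (LinearEquiv.sumArrowLequivProdArrow (Fin m) (Fin m) F F).symm.toLinearMap.comp
        (LinearMap.prod LinearMap.id (Matrix.mulVecLin M))
    have hL : ∀ x, L x = Sum.elim x (M.mulVec x) := fun x => by
      funext i; rcases i with i | i <;> rfl
    refine ⟨LinearMap.range L, ?_, ?_⟩
    · rw [LinearMap.finrank_range_of_inj fun a b hab => ?_, Module.finrank_fintype_fun_eq_card,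
        Fintype.card_fin]
      rw [hL, hL] at hab
      funext i
      exact congrFun hab (Sum.inl i)
    · rintro _ ⟨x, rfl⟩
      have h1 : ∀ y : Fin m → F, ∑ i, y i * y i = y ⬝ᵥ y := fun y => rfl
      simp only [Q, hL, QuadraticMap.weightedSumSquares_apply, Fintype.sum_sum_type, Sum.elim_inl,
        Sum.elim_inr, one_smul, h1]
      rw [Matrix.dotProduct_mulVec, ← Matrix.mulVec_transpose, Matrix.mulVec_mulVec, hM,
        Matrix.neg_mulVec, Matrix.one_mulVec, neg_dotProduct, add_neg_cancel]

end Cfsg.Agent.S0759
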