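import Cfsg.Statements.S0761
import Cfsg.Agent.Lib.Forms.Witt

set_option autoImplicit false
open Cfsg

namespace Cfsg.Agent.S0761

/-- Hyperbolic partners: let B be a non-degenerate bilinear form on a finite-dimensional space, either alternating, or symmetric with 2 ≠ 0. If Z is a subspace on which B vanishes, x ∉ Z is isotropic and orthogonal to Z, then there is an isotropic y with B x y = 1 which is orthogonal to Z. -/
theorem result {F V : Type*} [Field F] [AddCommGroup V] [Module F V] [FiniteDimensional F V] (B : LinearMap.BilinForm F V) (hB : B.Nondegenerate) (hform : B.IsAlt ∨ (B.IsSymm ∧ (2 : F) ≠ 0)) (x : V) (Z : Submodule F V) (hxZ : x ∉ Z) (hx : B x x = 0) (hxz : ∀ z ∈ Z, B x z = 0) (hZ : ∀ z ∈ Z, ∀ z' ∈ Z, B z z' = 0) : ∃ y : V, B y y = 0 ∧ B x y = 1 ∧ ∀ z ∈ Z, B z y = 0 := by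
  obtain ⟨f, hfx, hfZ⟩ := Submodule.exists_le_ker_of_notMem hxZ
  obtain ⟨P, hPB⟩ : ∃ P : Lib.Forms.FormPair (RingHom.id F) V, P.B = B := by
    rcases hform with hA | ⟨hS, h2⟩
    · exact ⟨Lib.Forms.ofAlt B hB hA, rfl⟩
    · exact ⟨Lib.Forms.ofSymm h2 B hB hS, rfl⟩
  obtain ⟨y₀, hy₀⟩ := P.exists_rep ((f x)⁻¹ • f)
  simp only [hPB, RingHom.id_apply, LinearMap.smul_apply, smul_eq_mul] at hy₀
  have hzx : ∀ z ∈ Z, B z x = 0 := fun z hz => hPB ▸ P.eq_zero_symm (hPB.symm ▸ hxz z hz)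
  have hxy : B x y₀ = 1 := by rw [hy₀, inv_mul_cancel₀ hfx]
  have hzy : ∀ z ∈ Z, B z y₀ = 0 := fun z hz => by
    rw [hy₀, LinearMap.mem_ker.1 (hfZ hz), mul_zero]
  rcases hform with hA | ⟨hS, h2⟩
  · exact ⟨y₀, hA y₀, hxy, hzy⟩
  refine ⟨y₀ + (-(B y₀ y₀) / 2) • x, ?_, ?_, ?_⟩
  · have hyx : B y₀ x = 1 := by rw [← hxy]; exact (hS.eq y₀ x).trans rfl
    simp only [map_add, map_smul, LinearMap.add_apply, LinearMap.smul_apply, smul_eq_mul, hx, hxy,
      hyx]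
    field_simp
    ring
  · simp [hxy, hx]
  · intro z hz
    simp [hzy z hz, hzx z hz]

end Cfsg.Agent.S0761
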