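import Cfsg.Statements.S0763
import Cfsg.Agent.Lib.Forms.Quad

set_option autoImplicit false
open Cfsg

namespace Cfsg.Agent.S0763

/-- Binary quadratic forms in characteristic two over a finite field: if Q is a quadratic form on a 2-dimensional space whose polar form is non-degenerate, then either there are vectors v, w with Q v = Q w = 0 and polar value 1 (Q is xy in these coordinates), or there are v, w and μ with Q v = 1, Q w = μ, polar value 1 and x² + x + μ without roots in F (Q is x² + xy + μy²). -/
theorem result {F V : Type*} [Field F] [Finite F] [CharP F 2] [AddCommGroup V] [Module F V] (Q : QuadraticForm F V) (h2 : Module.finrank F V = 2) (hQ : (QuadraticMap.polarBilin Q).Nondegenerate) : (∃ v w : V, LinearIndependent F ![v, w] ∧ Q v = 0 ∧ Q w = 0 ∧ QuadraticMap.polar Q v w = 1) ∨ (∃ (v w : V) (μ : F), LinearIndependent F ![v, w] ∧ (∀ x : F, x ^ 2 + x + μ ≠ 0) ∧ Q v = 1 ∧ Q w = μ ∧ QuadraticMap.polar Q v w = 1) := by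
  have hN := (Lib.Forms.nondeg_iff Q).1 hQ
  have h20 : (2 : F) = 0 := CharTwo.two_eq_zero
  have : FiniteDimensional F V := Module.finite_of_finrank_pos (by omega)
  have : Nontrivial V := Module.nontrivial_of_finrank_pos (R := F) (by omega)
  by_cases hA : Q.Anisotropic
  · right
    obtain ⟨v, hv⟩ := Lib.Forms.exists_Q_eq hN (by omega) 1
    have hv0 : v ≠ 0 := fun h => by simp [h] at hv
    obtain ⟨w₀, hw₀⟩ : ∃ w, QuadraticMap.polar Q v w ≠ 0 := by
      by_contra hc
      push Not at hc
      exact hv0 (hN v hc)
    set w := (QuadraticMap.polar Q v w₀)⁻¹ • w₀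
    have hpw : QuadraticMap.polar Q v w = 1 := by
      rw [QuadraticMap.polar_smul_right, smul_eq_mul, inv_mul_cancel₀ hw₀]
    have hvv : QuadraticMap.polar Q v v = 0 := by rw [Lib.Forms.polar_self', h20, zero_mul]
    have hli : LinearIndependent F ![v, w] := by
      refine LinearIndependent.pair_iff.2 fun s t hst => ?_
      have h1 := congrArg (QuadraticMap.polar Q v) hst
      simp only [QuadraticMap.polar_add_right, QuadraticMap.polar_smul_right, hvv, hpw,
        QuadraticMap.polar_zero_right, smul_eq_mul, mul_zero, zero_add, mul_one] at h1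
      subst h1
      rw [zero_smul, add_zero] at hst
      exact ⟨(smul_eq_zero.1 hst).resolve_right hv0, rfl⟩
    refine ⟨v, w, Q w, hli, fun x hx => ?_, hv, rfl, hpw⟩
    have h0 : x • v + (1 : F) • w = 0 := hA _ (by
      rw [Lib.Forms.Q_comb, hv, hpw]; linear_combination hx)
    exact one_ne_zero (LinearIndependent.pair_iff.1 hli x 1 h0).2
  · left
    obtain ⟨e, he, he0⟩ : ∃ e, Q e = 0 ∧ e ≠ 0 := by
      simp only [QuadraticMap.Anisotropic] at hA
      push Not at hA
      exact hA
    obtain ⟨f, hp⟩ := Lib.Forms.exists_hypPair hN he0 he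
    exact ⟨e, f, hp.linearIndependent, he, hp.right, hp.pol⟩

end Cfsg.Agent.S0763
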