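import Cfsg.Statements.S0768
import Cfsg.Agent.Lib.Symplectic.Simple
import Cfsg.Agent.Lib.Symplectic.Std
import Cfsg.Agent.Lib.Forms.Quad

set_option autoImplicit false
open scoped LinearAlgebra.Projectivization
open Cfsg

namespace Cfsg.Agent.S0768

/-- Primitivity: for m ≥ 1 and F finite, the symplectic group of the form sympForm (as a subgroup of the general linear group) acts primitively on the projective space of F^(2m). -/
theorem result {F : Type*} [Field F] [Finite F] (m : ℕ) (hm : 1 ≤ m) : MulAction.IsPreprimitive ↥(Cfsg.spGL m F) (ℙ F (Fin m ⊕ Fin m → F)) := by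
  have hB := Lib.Symplectic.isSympForm_stdForm m F
  let φ : ↥(Cfsg.spGL m F) → Lib.Symplectic.Isom (Lib.Symplectic.stdForm m F) := fun g =>
    ⟨Lib.Forms.glEquiv g.1, fun x y => by
      rw [Lib.Symplectic.stdForm_eq_sympForm, Lib.Symplectic.stdForm_eq_sympForm]
      exact g.2 x y⟩
  have hφ : Function.Surjective φ := fun h =>
    ⟨⟨Lib.Forms.glEquiv.symm h.1, fun x y => by
      have := h.2 x y
      rw [Lib.Symplectic.stdForm_eq_sympForm, Lib.Symplectic.stdForm_eq_sympForm] at this
      show Cfsg.sympForm m F ((Lib.Forms.glEquiv.symm h.1).1.mulVec x) ((Lib.Forms.glEquiv.symm h.1).1.mulVec y) = _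
      rw [← Lib.Forms.glEquiv_apply, ← Lib.Forms.glEquiv_apply, MulEquiv.apply_symm_apply]
      exact this⟩, Subtype.ext (Lib.Forms.glEquiv.apply_symm_apply h.1)⟩
  let f : ℙ F (Fin m ⊕ Fin m → F) →ₑ[φ] ℙ F (Fin m ⊕ Fin m → F) :=
    { toFun := id
      map_smul' := fun g p => by
        induction p using Projectivization.ind with
        | h v hv => rfl }
  have : Nontrivial (Fin m ⊕ Fin m → F) := by
    have : Nonempty (Fin m ⊕ Fin m) := ⟨Sum.inl ⟨0, by omega⟩⟩
    infer_instance
  exact (MulAction.isPreprimitive_congr (f := f) hφ Function.bijective_id).2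
    (Lib.Symplectic.isPreprimitive_proj hB)

end Cfsg.Agent.S0768
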