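import Cfsg.Statements.S0769
import Cfsg.Agent.Lib.GLFlags.Basic

set_option autoImplicit false
open Cfsg

namespace Cfsg.Agent.S0769

/-- Order of the Borel subgroup of GL_n(q): the invertible lower-triangular n × n matrices over a field with q elements number q^(n(n-1)/2) (q-1)^n (unitriangular part times the diagonal torus). -/
theorem result {F : Type*} [Field F] [Fintype F] {q : ℕ} (hF : Fintype.card F = q) (n : ℕ) : Nat.card {g : Matrix.GeneralLinearGroup (Fin n) F // ∀ i j : Fin n, i < j → (g : Matrix (Fin n) (Fin n) F) i j = 0} = q ^ (n * (n - 1) / 2) * (q - 1) ^ n := by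
  classical
  subst hF
  have e : {g : Matrix.GeneralLinearGroup (Fin n) F // ∀ i j : Fin n, i < j →
        (g : Matrix (Fin n) (Fin n) F) i j = 0} ≃
      {g : Matrix.GeneralLinearGroup (Fin n) F //
        (g : Matrix (Fin n) (Fin n) F).BlockTriangular (fun i : Fin n => OrderDual.toDual i)} :=
    Equiv.subtypeEquivRight fun g => ⟨fun h i j hij => h i j hij, fun h i j hij => h hij⟩
  rw [Nat.card_congr e, Lib.GLFlags.card_blockTriangular_units, mul_comm]
  congr 1
  · congr 1
    have h := Lib.GLFlags.pairs_lt_identity (fun i : Fin n => OrderDual.toDual i)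
    have h1 : ∀ k : (Fin n)ᵒᵈ,
        (Finset.univ.filter fun i : Fin n => OrderDual.toDual i = k).card = 1 := fun k => by
      rw [Finset.card_eq_one]
      exact ⟨OrderDual.ofDual k, by ext i; simp only [Finset.mem_filter, Finset.mem_univ, true_and, Finset.mem_singleton]; exact Iff.rfl⟩
    simp only [h1, one_pow, Finset.sum_const, smul_eq_mul, mul_one, Fintype.card_fin,
      Finset.card_univ, Fintype.card_orderDual] at h
    rw [pow_two] at h
    have : n * (n - 1) = n * n - n := by rw [Nat.mul_sub, mul_one]
    omega
  · rw [Finset.prod_congr rfl (fun k _ => show _ = Fintype.card F - 1 from ?_), Finset.prod_const,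
      Finset.card_univ, Fintype.card_orderDual, Fintype.card_fin]
    have h1 : Fintype.card {i : Fin n // OrderDual.toDual i = k} = 1 :=
      Fintype.card_eq_one_iff.2 ⟨⟨OrderDual.ofDual k, rfl⟩, fun x => Subtype.ext (congrArg OrderDual.ofDual x.2)⟩
    rw [Lib.GLFlags.card_gl', h1]
    simp [Lib.GLFlags.qFact]

end Cfsg.Agent.S0769
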