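import Cfsg.Statements.S0770

set_option autoImplicit false
open Cfsg

namespace Cfsg.Agent.S0770

/-- For a field with at least 3 elements, an invertible matrix normalises the subgroup of invertible diagonal matrices of GL_n if and only if it is monomial (exactly one non-zero entry in each row). -/
theorem result {F : Type*} [Field F] (hF : ∃ a : F, a ≠ 0 ∧ a ≠ 1) (n : ℕ) (g : Matrix.GeneralLinearGroup (Fin n) F) : g ∈ Subgroup.normalizer ((Units.map (Matrix.diagonalRingHom (Fin n) F).toMonoidHom).range : Subgroup (Matrix.GeneralLinearGroup (Fin n) F)) ↔ ∀ i : Fin n, ∃! j : Fin n, (g : Matrix (Fin n) (Fin n) F) i j ≠ 0 := by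
  obtain ⟨a, ha0, ha1⟩ := hF
  rw [Subgroup.mem_normalizer_iff]
  set T : Subgroup (Matrix.GeneralLinearGroup (Fin n) F) :=
    (Units.map (Matrix.diagonalRingHom (Fin n) F).toMonoidHom).range with hT
  have hmem : ∀ h : Matrix.GeneralLinearGroup (Fin n) F, h ∈ T ↔
      ∃ d : Fin n → F, (∀ i, d i ≠ 0) ∧ (h : Matrix (Fin n) (Fin n) F) = Matrix.diagonal d := by
    intro h
    constructor
    · rintro ⟨u, rfl⟩
      exact ⟨u.1, fun i => ((Pi.isUnit_iff.1 u.isUnit) i).ne_zero, rfl⟩
    · rintro ⟨d, hd, hh⟩
      exact ⟨(Pi.isUnit_iff.2 fun i => (hd i).isUnit).unit, Units.ext hh.symm⟩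
  let mkD : ∀ d : Fin n → F, (∀ i, d i ≠ 0) → Matrix.GeneralLinearGroup (Fin n) F := fun d hd =>
    Matrix.GeneralLinearGroup.mkOfDetNeZero (Matrix.diagonal d) (by
      rw [Matrix.det_diagonal]; exact Finset.prod_ne_zero_iff.2 fun i _ => hd i)
  have hrow : ∀ i, ∃ j, (g : Matrix (Fin n) (Fin n) F) i j ≠ 0 := by
    intro i
    by_contra hc
    push Not at hc
    exact (Matrix.GeneralLinearGroup.det g).ne_zero (Matrix.det_eq_zero_of_row_eq_zero i hc)
  constructor
  · intro h i
    obtain ⟨j, hj⟩ := hrow i
    refine ⟨j, hj, fun j' hj' => ?_⟩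
    by_contra hne
    let d : Fin n → F := Function.update 1 j' a
    have hd : ∀ k, d k ≠ 0 := fun k => by
      by_cases hk : k = j'
      · subst hk; simp [d, ha0]
      · simp [d, hk]
    obtain ⟨e, he, hee⟩ := (hmem _).1 ((h (mkD d hd)).1 ((hmem _).2 ⟨d, hd, rfl⟩))
    have hcomm : (g : Matrix (Fin n) (Fin n) F) * Matrix.diagonal d =
        Matrix.diagonal e * (g : Matrix (Fin n) (Fin n) F) := by
      rw [← hee, ← show ((mkD d hd : Matrix.GeneralLinearGroup (Fin n) F) :
        Matrix (Fin n) (Fin n) F) = Matrix.diagonal d from rfl, ← Units.val_mul, ← Units.val_mul,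
        inv_mul_cancel_right]
    have h1 := congrFun (congrFun hcomm i) j
    have h2 := congrFun (congrFun hcomm i) j'
    simp only [Matrix.mul_diagonal, Matrix.diagonal_mul, d, Function.update_self,
      Function.update_of_ne (Ne.symm hne), Pi.one_apply, mul_one] at h1 h2
    have e1 : e i = 1 := mul_right_cancel₀ hj (by linear_combination -h1)
    rw [e1, one_mul] at h2
    exact ha1 (mul_left_cancel₀ hj' (by linear_combination h2))
  · intro hmono
    choose σ hσ hσu using hmono
    have hzero : ∀ i j, j ≠ σ i → (g : Matrix (Fin n) (Fin n) F) i j = 0 := fun i j hj => by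
      by_contra h
      exact hj (hσu i j h)
    have hinj : Function.Injective σ := by
      intro i i' hii
      by_contra hne
      have hker : ∃ v : Fin n → F, v ≠ 0 ∧ Matrix.vecMul v (g : Matrix (Fin n) (Fin n) F) = 0 := by
        refine ⟨Pi.single i ((g : Matrix (Fin n) (Fin n) F) i' (σ i)) -
          Pi.single i' ((g : Matrix (Fin n) (Fin n) F) i (σ i)), ?_, ?_⟩
        · intro h
          have := congrFun h i
          simp [hne] at this
          exact hσ i' (hii ▸ this)
        · funext j
          rw [Matrix.sub_vecMul, Matrix.single_vecMul, Matrix.single_vecMul]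
          simp only [Pi.sub_apply, Pi.smul_apply, Matrix.row, Pi.zero_apply, smul_eq_mul]
          by_cases hj : j = σ i
          · subst hj; ring
          · rw [hzero i j hj, hzero i' j (hii ▸ hj)]; ring
      exact (Matrix.GeneralLinearGroup.det g).ne_zero (Matrix.exists_vecMul_eq_zero_iff.1 hker)
    let σe := Equiv.ofBijective σ hinj.bijective_of_finite
    have key : ∀ e : Fin n → F, (g : Matrix (Fin n) (Fin n) F) * Matrix.diagonal e =
        Matrix.diagonal (fun i => e (σ i)) * (g : Matrix (Fin n) (Fin n) F) := by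
      intro e
      ext i j
      rw [Matrix.mul_diagonal, Matrix.diagonal_mul]
      by_cases hj : j = σ i
      · subst hj; ring
      · rw [hzero i j hj]; ring
    intro t
    constructor
    · intro ht
      obtain ⟨d, hd, htd⟩ := (hmem t).1 ht
      refine (hmem _).2 ⟨fun i => d (σ i), fun i => hd _, ?_⟩
      rw [Units.val_mul, Units.val_mul, htd, key, mul_assoc, ← Units.val_mul, mul_inv_cancel,
        Units.val_one, mul_one]
    · intro ht
      obtain ⟨d, hd, htd⟩ := (hmem _).1 ht
      refine (hmem t).2 ⟨fun i => d (σe.symm i), fun i => hd _, ?_⟩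
      have h3 : (g : Matrix (Fin n) (Fin n) F) * (t : Matrix (Fin n) (Fin n) F) =
          Matrix.diagonal d * (g : Matrix (Fin n) (Fin n) F) := by
        rw [← htd, ← Units.val_mul, ← Units.val_mul, inv_mul_cancel_right]
      have h4 := key (fun i => d (σe.symm i))
      have h5 : (fun i => d (σe.symm (σ i))) = d := funext fun i => congrArg d (σe.symm_apply_apply i)
      rw [h5, ← h3] at h4
      exact (g.isUnit.mul_right_inj.1 h4).symm

end Cfsg.Agent.S0770
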