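import Cfsg.Statements.S0771
import Cfsg.Agent.Lib.Forms.GLParabolic
import Cfsg.Agent.Lib.GLFlags.Basic

set_option autoImplicit false
open Cfsg

namespace Cfsg.Agent.S0771

/-- Maximal parabolic of GL_n(q): the stabiliser of the coordinate subspace spanned by the first k basis vectors has order q^(k(n-k)) · |GL_k(q)| · |GL_(n-k)(q)| (unipotent radical of order q^(k(n-k)) and Levi complement GL_k × GL_(n-k)). -/
theorem result {F : Type*} [Field F] [Fintype F] {q : ℕ} (hF : Fintype.card F = q) (n k : ℕ) (hk : k ≤ n) : Nat.card ↥(Cfsg.stabilizing (Cfsg.glToMat (Fin n) F) {v : Fin n → F | ∀ i : Fin n, k ≤ (i : ℕ) → v i = 0}) = q ^ (k * (n - k)) * (∏ i : Fin k, (q ^ k - q ^ (i : ℕ))) * ∏ i : Fin (n - k), (q ^ (n - k) - q ^ (i : ℕ)) := by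
  classical
  subst hF
  rw [Lib.Forms.GLParabolic.stabilizing_eq]
  let b : Fin n → Bool := fun i => decide (k ≤ (i : ℕ))
  have e : ↥(Cfsg.Geo.subspaceStabilizer (Lib.Forms.GLParabolic.firstK F n k)) ≃
      {g : Matrix.GeneralLinearGroup (Fin n) F // (g : Matrix (Fin n) (Fin n) F).BlockTriangular b} :=
    Equiv.subtypeEquivRight fun g => by
      rw [Lib.Forms.GLParabolic.mem_stab_iff]
      constructor
      · intro h i j hij
        simp only [b, Bool.lt_iff, decide_eq_false_iff_not, decide_eq_true_eq, not_le] at hij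
        exact h i j hij.2 hij.1
      · intro h i j hi hj
        exact h (by simp [b, Bool.lt_iff, hi, hj])
  have hlt : (Finset.univ.filter fun i : Fin n => (i : ℕ) < k).card = k := by
    rw [Fin.card_filter_val_lt]
    omega
  have hge : (Finset.univ.filter fun i : Fin n => k ≤ (i : ℕ)).card = n - k := by
    have h := Finset.card_filter_add_card_filter_not (s := (Finset.univ : Finset (Fin n)))
      (fun i : Fin n => (i : ℕ) < k)
    simp only [not_lt, Finset.card_univ, Fintype.card_fin] at h
    omega
  have hgl : ∀ (c : Bool) (r : ℕ), Fintype.card {i // b i = c} = r →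
      Nat.card (GL {i // b i = c} F) = ∏ i : Fin r, (Fintype.card F ^ r - Fintype.card F ^ (i : ℕ)) := by
    intro c r hr
    rw [← Matrix.card_GL_field]
    exact Nat.card_congr (Units.mapEquiv (Matrix.reindexAlgEquiv F F
      ((Fintype.equivFin _).trans (finCongr hr))).toMulEquiv).toEquiv
  rw [Nat.card_congr e, Lib.GLFlags.card_blockTriangular_units, Fintype.prod_bool,
    hgl true (n - k) (by rw [Fintype.card_subtype]; simpa [b] using hge),
    hgl false k (by rw [Fintype.card_subtype]; simpa [b] using hlt)]
  have hpairs : (Finset.univ.filter fun p : Fin n × Fin n => b p.1 < b p.2).card = k * (n - k) := by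
    rw [show (Finset.univ.filter fun p : Fin n × Fin n => b p.1 < b p.2) =
        (Finset.univ.filter fun i : Fin n => (i : ℕ) < k) ×ˢ
          (Finset.univ.filter fun i : Fin n => k ≤ (i : ℕ)) by
      ext p; simp [b, Bool.lt_iff], Finset.card_product, hlt, hge]
  rw [hpairs]
  ring

end Cfsg.Agent.S0771
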