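import Cfsg.Statements.S0774
import Cfsg.Agent.Lib.Forms.SpParabolic
import Cfsg.Agent.Lib.GLFlags.Basic

set_option autoImplicit false
open Cfsg

namespace Cfsg.Agent.S0774

/-- Borel subgroup of the symplectic group: the elements of Sp_2m(q) stabilising each of the totally isotropic coordinate subspaces ⟨e_0, ..., e_k⟩ (k < m) form a subgroup of order q^(m²) (q − 1)^m. -/
theorem result {F : Type*} [Field F] [Fintype F] {q : ℕ} (hF : Fintype.card F = q) (m : ℕ) : Nat.card ↥(⨅ k : Fin m, Cfsg.stabilizing (Cfsg.spToMat m F) {v : Fin m ⊕ Fin m → F | (∀ i : Fin m, (k : ℕ) < (i : ℕ) → v (Sum.inl i) = 0) ∧ ∀ i : Fin m, v (Sum.inr i) = 0}) = q ^ (m ^ 2) * (q - 1) ^ m := by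
  classical
  subst hF
  let p : Fin m → Fin m ⊕ Fin m → Prop := fun k => Sum.elim (fun i => (k : ℕ) < (i : ℕ)) (fun _ => True)
  have e1 : ∀ k : Fin m, {v : Fin m ⊕ Fin m → F | (∀ i : Fin m, (k : ℕ) < (i : ℕ) → v (Sum.inl i) = 0) ∧
      ∀ i : Fin m, v (Sum.inr i) = 0} =
      ((Lib.Forms.SpParabolic.zeroOn (p k) : Submodule F (Fin m ⊕ Fin m → F)) : Set _) := by
    intro k; ext v
    exact ⟨fun h i => Sum.casesOn i (fun i hi => h.1 i hi) (fun i _ => h.2 i),
      fun h => ⟨fun i hi => h (Sum.inl i) hi, fun i => h (Sum.inr i) trivial⟩⟩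
  have hmem : ∀ g : Matrix.symplecticGroup (Fin m) F,
      (g ∈ ⨅ k : Fin m, Cfsg.stabilizing (Cfsg.spToMat m F) {v : Fin m ⊕ Fin m → F |
        (∀ i : Fin m, (k : ℕ) < (i : ℕ) → v (Sum.inl i) = 0) ∧ ∀ i : Fin m, v (Sum.inr i) = 0}) ↔
      (g : Matrix (Fin m ⊕ Fin m) (Fin m ⊕ Fin m) F).toBlocks₂₁ = 0 ∧
        (g : Matrix (Fin m ⊕ Fin m) (Fin m ⊕ Fin m) F).toBlocks₁₁.BlockTriangular id := by
    intro g
    rw [Subgroup.mem_iInf]
    simp only [e1, Lib.Forms.SpParabolic.mem_stab_zeroOn]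
    constructor
    · intro h
      exact ⟨Matrix.ext fun i j => h j (Sum.inr i) (Sum.inl j) trivial (lt_irrefl (j : ℕ)),
        fun i j (hij : j < i) => h j (Sum.inl i) (Sum.inl j) (Fin.lt_def.1 hij) (lt_irrefl (j : ℕ))⟩
    · rintro ⟨h1, h2⟩ k
      rintro (i | i) (j | j) hi hj
      · exact h2 (show j < i from Fin.lt_def.2 (lt_of_le_of_lt (not_lt.1 hj) hi))
      · exact (hj trivial).elim
      · exact congrFun (congrFun h1 i) j
      · exact (hj trivial).elim
  let T := {a : Matrix.GeneralLinearGroup (Fin m) F // (a : Matrix (Fin m) (Fin m) F).BlockTriangular id} ×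
    {S : Matrix (Fin m) (Fin m) F // S.transpose = S}
  let f : T → ↥(⨅ k : Fin m, Cfsg.stabilizing (Cfsg.spToMat m F) {v : Fin m ⊕ Fin m → F |
        (∀ i : Fin m, (k : ℕ) < (i : ℕ) → v (Sum.inl i) = 0) ∧ ∀ i : Fin m, v (Sum.inr i) = 0}) :=
    fun t => ⟨Lib.Forms.SpParabolic.mkSp t.1.1 t.2,
      (hmem _).2 ⟨by simp [Lib.Forms.SpParabolic.mkSp], by
        simpa [Lib.Forms.SpParabolic.mkSp] using t.1.2⟩⟩
  have hbij : Function.Bijective f := by
    constructor
    · intro a b h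
      have := Lib.Forms.SpParabolic.mkSp_injective (a₁ := (a.1.1, a.2)) (a₂ := (b.1.1, b.2))
        (congrArg Subtype.val h)
      exact Prod.ext (Subtype.ext (congrArg Prod.fst this)) (congrArg Prod.snd this :)
    · rintro ⟨g, hg⟩
      obtain ⟨h1, h2⟩ := (hmem g).1 hg
      obtain ⟨a, S, hgS, ha⟩ := Lib.Forms.SpParabolic.exists_mkSp g h1
      exact ⟨(⟨a, ha ▸ h2⟩, S), Subtype.ext hgS⟩
  rw [← Nat.card_congr (Equiv.ofBijective f hbij), Nat.card_prod,
    Lib.GLFlags.card_blockTriangular_units, Lib.Forms.SpParabolic.card_symm]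
  have hfib : ∀ k : Fin m, (Finset.univ.filter fun i : Fin m => id i = k).card = 1 := fun k => by
    rw [Finset.card_eq_one]
    exact ⟨k, by ext i; simp⟩
  have hk : ∀ k : Fin m, Nat.card (Matrix.GeneralLinearGroup {i : Fin m // id i = k} F) =
      Fintype.card F - 1 := fun k => by
    rw [Lib.GLFlags.card_gl', Fintype.card_subtype, hfib]
    simp [Lib.GLFlags.qFact]
  have h := Lib.GLFlags.pairs_lt_identity (id : Fin m → Fin m)
  simp only [hfib, one_pow, Finset.sum_const, smul_eq_mul, mul_one, Fintype.card_fin,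
    Finset.card_univ] at h
  rw [Finset.prod_congr rfl (fun k _ => hk k), Finset.prod_const, Finset.card_univ,
    Fintype.card_fin, mul_assoc, ← pow_add, mul_comm]
  congr 2
  have h2 := Nat.choose_two_right (m + 1)
  have h3 : (m + 1) * (m + 1 - 1) = m ^ 2 + m := by rw [Nat.add_sub_cancel]; ring
  have h4 : Even (m ^ 2 + m) := by
    rw [show m ^ 2 + m = m * (m + 1) by ring]; exact Nat.even_mul_succ_self m
  obtain ⟨c, hc⟩ := h4
  rw [h3, hc] at h2
  simp only [id] at h ⊢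
  omega

end Cfsg.Agent.S0774
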