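import Cfsg.Statements.S0775
import Cfsg.Agent.Lib.Forms.SpStab

set_option autoImplicit false
open Cfsg

namespace Cfsg.Agent.S0775

/-- Maximal parabolics of the symplectic group: if W is a k-dimensional subspace of F^(2m) on which the symplectic form vanishes identically, its stabiliser in Sp_2m(q) has order q^(k(k+1)/2 + 2k(m−k)) · |Sp_(2m−2k)(q)| · |GL_k(q)|. -/
theorem result {F : Type*} [Field F] [Fintype F] {q : ℕ} (hF : Fintype.card F = q) (m k : ℕ) (hk : k ≤ m) (W : Submodule F (Fin m ⊕ Fin m → F)) (hWk : Module.finrank F W = k) (hW : ∀ u ∈ W, ∀ v ∈ W, Cfsg.sympForm m F u v = 0) : Nat.card ↥(Cfsg.stabilizing (Cfsg.spToMat m F) (W : Set (Fin m ⊕ Fin m → F))) = q ^ (k * (k + 1) / 2 + 2 * k * (m - k)) * (q ^ ((m - k) ^ 2) * ∏ i ∈ Finset.range (m - k), (q ^ (2 * (i + 1)) - 1)) * ∏ i : Fin k, (q ^ k - q ^ (i : ℕ)) := by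
  subst hF
  have hB := Lib.Symplectic.isSympForm_stdForm m F
  have hW' : ∀ u ∈ W, ∀ v ∈ W, Lib.Symplectic.stdForm m F u v = 0 := fun u hu v hv => by
    rw [Lib.Symplectic.stdForm_eq_sympForm]; exact hW u hu v hv
  set q := Fintype.card F with hq
  have hq' : Nat.card F = q := Nat.card_eq_fintype_card
  have hq2 : 2 ≤ q := Fintype.one_lt_card
  have hmain := Lib.Forms.SpStab.card_setStab_mul hB hWk hW'
  rw [Lib.Forms.SpStab.card_isoTuples hB hq', Lib.Symplectic.finrank_std,
    Lib.Symplectic.card_isom hB hq' (Lib.Symplectic.finrank_std m F),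
    card_linearIndependent hWk.ge, hWk,
    ← Nat.card_congr (Lib.Forms.SpStab.stdStabEquiv m W).toEquiv, ← hq] at hmain
  have key : ∀ j, j ≤ k → ∏ i ∈ Finset.range j, (q ^ (2 * m - i) - q ^ i) =
      q ^ (∑ i ∈ Finset.range j, i) * ∏ i ∈ Finset.range j, (q ^ (2 * (m - i)) - 1) := by
    intro j hj
    rw [← Finset.prod_pow_eq_pow_sum, ← Finset.prod_mul_distrib]
    refine Finset.prod_congr rfl fun i hi => ?_
    rw [Finset.mem_range] at hi
    rw [Nat.mul_sub, ← pow_add, mul_one]
    congr 2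
    omega
  have split : ∀ j, j ≤ k → ∏ i ∈ Finset.range m, (q ^ (2 * (i + 1)) - 1) =
      (∏ i ∈ Finset.range (m - j), (q ^ (2 * (i + 1)) - 1)) *
        ∏ i ∈ Finset.range j, (q ^ (2 * (m - i)) - 1) := by
    intro j
    induction j with
    | zero => simp
    | succ j ih =>
      intro hj
      rw [ih (by omega), show m - j = (m - (j + 1)) + 1 by omega, Finset.prod_range_succ,
        Finset.prod_range_succ _ j, show m - (j + 1) + 1 = m - j by omega]
      ring
  rw [key k le_rfl, split k le_rfl] at hmain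
  have hpos : 0 < ∏ i ∈ Finset.range k, (q ^ (2 * (m - i)) - 1) :=
    Finset.prod_pos fun i hi => Nat.sub_pos_of_lt (Nat.one_lt_pow (by
      rw [Finset.mem_range] at hi; omega) hq2)
  refine Nat.eq_of_mul_eq_mul_right (Nat.mul_pos (pow_pos (by omega : 0 < q) (∑ i ∈ Finset.range k, i)) hpos) ?_
  rw [hmain]
  have hexp : m ^ 2 = k * (k + 1) / 2 + 2 * k * (m - k) + (m - k) ^ 2 + ∑ i ∈ Finset.range k, i := by
    have h1 := Finset.sum_range_id_mul_two k
    have h2 : k * (k + 1) = k * (k - 1) + 2 * k := by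
      rcases k with _ | k
      · simp
      · simp only [Nat.add_sub_cancel]; ring
    obtain ⟨r, hr⟩ := Nat.exists_eq_add_of_le hk
    subst hr
    rw [h2, ← h1, Nat.add_sub_cancel_left, show ((∑ i ∈ Finset.range k, i) * 2 + 2 * k) / 2 =
      (∑ i ∈ Finset.range k, i) + k by omega]
    have h3 : k ^ 2 = (∑ i ∈ Finset.range k, i) * 2 + k := by
      rcases k with _ | k
      · simp
      · rw [h1, Nat.add_sub_cancel]; ring
    linear_combination h3
  rw [hexp, pow_add, pow_add]
  ring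

end Cfsg.Agent.S0775
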