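import Cfsg.Statements.S0776
import Cfsg.Agent.Lib.Forms.SpStab

set_option autoImplicit false
open Cfsg

namespace Cfsg.Agent.S0776

/-- If W ≤ F^(2m) is a 2k-dimensional subspace on which the symplectic form is non-degenerate, then the stabiliser of W in Sp_2m(F) is isomorphic to Sp_2k(F) × Sp_(2m−2k)(F). -/
theorem result {F : Type*} [Field F] (m k : ℕ) (hk : k ≤ m) (W : Submodule F (Fin m ⊕ Fin m → F)) (hWk : Module.finrank F W = 2 * k) (hW : ∀ u ∈ W, (∀ v ∈ W, Cfsg.sympForm m F u v = 0) → u = 0) : Nonempty (↥(Cfsg.stabilizing (Cfsg.spToMat m F) (W : Set (Fin m ⊕ Fin m → F))) ≃* Matrix.symplecticGroup (Fin k) F × Matrix.symplecticGroup (Fin (m - k)) F) := by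
  have hW' : ∀ u ∈ W, (∀ v ∈ W, Lib.Symplectic.stdForm m F u v = 0) → u = 0 := fun u hu h =>
    hW u hu fun v hv => by rw [← Lib.Symplectic.stdForm_eq_sympForm]; exact h v hv
  have hB := Lib.Symplectic.isSympForm_stdForm m F
  obtain ⟨e⟩ := Lib.Forms.SpStab.nonempty_setStab_prod hB hW'
  obtain ⟨e1⟩ := Lib.Symplectic.nonempty_isom_mulEquiv_sp (m := k)
    (Lib.Forms.SpStab.restr_isSympForm hB hW') hWk
  have hdim : Module.finrank F (LinearMap.BilinForm.orthogonal (Lib.Symplectic.stdForm m F) W) =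
      2 * (m - k) := by
    have := Submodule.finrank_add_eq_of_isCompl (Lib.Forms.SpStab.isCompl_orth hB hW')
    rw [hWk, Lib.Symplectic.finrank_std] at this
    omega
  obtain ⟨e2⟩ := Lib.Symplectic.nonempty_isom_mulEquiv_sp (m := m - k)
    (Lib.Forms.SpStab.restr_isSympForm hB (Lib.Forms.SpStab.orth_nondeg hB hW')) hdim
  exact ⟨(Lib.Forms.SpStab.stdStabEquiv m W).trans (e.trans (e1.prodCongr e2))⟩

end Cfsg.Agent.S0776
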