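import Cfsg.Statements.S0777
import Cfsg.Agent.Lib.Forms.SpTorus

set_option autoImplicit false
open Cfsg

namespace Cfsg.Agent.S0777

/-- Weyl group of type C_m: for q ≥ 4 the diagonal matrices of Sp_2m(q) form a torus T ≅ (C_(q−1))^m (the elements stabilising every coordinate axis), and the normaliser of T in Sp_2m(q) has order 2^m · m! · (q − 1)^m. -/
theorem result {F : Type*} [Field F] [Fintype F] {q : ℕ} (hF : Fintype.card F = q) (hq : 4 ≤ q) (m : ℕ) : Nat.card ↥(Subgroup.normalizer (⨅ i : Fin m ⊕ Fin m, Cfsg.stabilizing (Cfsg.spToMat m F) ((Submodule.span F {(Pi.single i (1 : F) : Fin m ⊕ Fin m → F)} : Submodule F (Fin m ⊕ Fin m → F)) : Set (Fin m ⊕ Fin m → F)) : Set (Matrix.symplecticGroup (Fin m) F))) = 2 ^ m * Nat.factorial m * (q - 1) ^ m := by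
  obtain ⟨a, ha0, ha2⟩ : ∃ a : F, a ≠ 0 ∧ a * a ≠ 1 := by
    classical
    by_contra hc
    push Not at hc
    have hsub : (Finset.univ : Finset F) ⊆ {0, 1, -1} := by
      intro x _
      by_cases hx : x = 0
      · simp [hx]
      · rcases mul_self_eq_one_iff.1 (hc x hx) with h | h <;> simp [h]
    have h1 := Finset.card_le_card hsub
    rw [Finset.card_univ, hF] at h1
    exact absurd (hq.trans (h1.trans Finset.card_le_three)) (by norm_num)
  rw [← hF]
  have h := Lib.Forms.SpTorus.card_normalizer (m := m) ha0 ha2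
  rw [Lib.Forms.SpTorus.torus, Subgroup.coe_iInf] at h
  exact h

end Cfsg.Agent.S0777
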