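import Cfsg.Statements.S0778
import Cfsg.Agent.Lib.Forms.SpParabolic

set_option autoImplicit false
open Cfsg

namespace Cfsg.Agent.S0778

/-- The elements of Sp_2m(F) stabilising both W = ⟨e_1..e_m⟩ and U = ⟨f_1..f_m⟩ form a subgroup isomorphic to GL_m(F) (block-diagonal matrices diag(X, X^(−ᵀ)) up to the sign convention of J), for m ≥ 1 or m = 0 alike. -/
theorem result {F : Type*} [Field F] (m : ℕ) : Nonempty (↥(Cfsg.stabilizing (Cfsg.spToMat m F) {v : Fin m ⊕ Fin m → F | ∀ i : Fin m, v (Sum.inr i) = 0} ⊓ Cfsg.stabilizing (Cfsg.spToMat m F) {v : Fin m ⊕ Fin m → F | ∀ i : Fin m, v (Sum.inl i) = 0}) ≃* Matrix.GeneralLinearGroup (Fin m) F) := by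
  classical
  let z1 : Submodule F (Fin m ⊕ Fin m → F) :=
    Lib.Forms.SpParabolic.zeroOn (Sum.elim (fun _ => False) (fun _ => True))
  let z2 : Submodule F (Fin m ⊕ Fin m → F) :=
    Lib.Forms.SpParabolic.zeroOn (Sum.elim (fun _ => True) (fun _ => False))
  have e1 : {v : Fin m ⊕ Fin m → F | ∀ i : Fin m, v (Sum.inr i) = 0} = (z1 : Set _) := by
    ext v
    exact ⟨fun h i => Sum.casesOn i (fun _ hf => hf.elim) (fun i _ => h i),
      fun h i => h (Sum.inr i) trivial⟩
  have e2 : {v : Fin m ⊕ Fin m → F | ∀ i : Fin m, v (Sum.inl i) = 0} = (z2 : Set _) := by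
    ext v
    exact ⟨fun h i => Sum.casesOn i (fun i _ => h i) (fun _ hf => hf.elim),
      fun h i => h (Sum.inl i) trivial⟩
  have hmem : ∀ g : Matrix.symplecticGroup (Fin m) F,
      g ∈ Cfsg.stabilizing (Cfsg.spToMat m F) {v : Fin m ⊕ Fin m → F | ∀ i : Fin m, v (Sum.inr i) = 0} ⊓
        Cfsg.stabilizing (Cfsg.spToMat m F) {v : Fin m ⊕ Fin m → F | ∀ i : Fin m, v (Sum.inl i) = 0} ↔
      (g : Matrix (Fin m ⊕ Fin m) (Fin m ⊕ Fin m) F).toBlocks₂₁ = 0 ∧
        (g : Matrix (Fin m ⊕ Fin m) (Fin m ⊕ Fin m) F).toBlocks₁₂ = 0 := by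
    intro g
    rw [Subgroup.mem_inf, e1, e2, Lib.Forms.SpParabolic.mem_stab_zeroOn,
      Lib.Forms.SpParabolic.mem_stab_zeroOn]
    constructor
    · rintro ⟨h1, h2⟩
      exact ⟨Matrix.ext fun i j => h1 (Sum.inr i) (Sum.inl j) trivial id,
        Matrix.ext fun i j => h2 (Sum.inl i) (Sum.inr j) trivial id⟩
    · rintro ⟨h1, h2⟩
      refine ⟨?_, ?_⟩
      · rintro (i | i) (j | j) hi hj
        · exact hi.elim
        · exact hi.elim
        · exact congrFun (congrFun h1 i) j
        · exact (hj trivial).elim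
      · rintro (i | i) (j | j) hi hj
        · exact (hj trivial).elim
        · exact congrFun (congrFun h2 i) j
        · exact hi.elim
        · exact hi.elim
  let f : Matrix.GeneralLinearGroup (Fin m) F →
      ↥(Cfsg.stabilizing (Cfsg.spToMat m F) {v : Fin m ⊕ Fin m → F | ∀ i : Fin m, v (Sum.inr i) = 0} ⊓
        Cfsg.stabilizing (Cfsg.spToMat m F) {v : Fin m ⊕ Fin m → F | ∀ i : Fin m, v (Sum.inl i) = 0}) :=
    fun a => ⟨Lib.Forms.SpParabolic.mkSp a ⟨0, Matrix.transpose_zero⟩,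
      (hmem _).2 ⟨by simp [Lib.Forms.SpParabolic.mkSp], by simp [Lib.Forms.SpParabolic.mkSp]⟩⟩
  have hmul : ∀ a b, f (a * b) = f a * f b := by
    intro a b
    apply Subtype.ext
    apply Subtype.ext
    simp [f, Lib.Forms.SpParabolic.mkSp, Matrix.fromBlocks_multiply, Matrix.transpose_mul,
      -Matrix.coe_units_inv]
  have hbij : Function.Bijective f := by
    constructor
    · intro a b h
      have := Lib.Forms.SpParabolic.mkSp_injective (a₁ := (a, _)) (a₂ := (b, _))
        (congrArg Subtype.val h)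
      exact congrArg Prod.fst this
    · rintro ⟨g, hg⟩
      obtain ⟨h1, h2⟩ := (hmem g).1 hg
      obtain ⟨a, S, hgS, -⟩ := Lib.Forms.SpParabolic.exists_mkSp g h1
      refine ⟨a, Subtype.ext ?_⟩
      have hS : S = ⟨0, Matrix.transpose_zero⟩ := by
        apply Subtype.ext
        have h3 : (a : Matrix (Fin m) (Fin m) F) * S.1 = 0 := by
          rw [← hgS] at h2
          simpa [Lib.Forms.SpParabolic.mkSp] using h2
        have := congrArg (fun M => ((a⁻¹ : Matrix.GeneralLinearGroup (Fin m) F) : Matrix (Fin m) (Fin m) F) * M) h3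
        simp only [← Matrix.mul_assoc, Units.inv_mul, Matrix.one_mul, Matrix.mul_zero] at this
        exact this
      show Lib.Forms.SpParabolic.mkSp a _ = g
      rw [← hgS, hS]
  exact ⟨(MulEquiv.ofBijective (MonoidHom.mk' f hmul) hbij).symm⟩

end Cfsg.Agent.S0778
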