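import Cfsg.Statements.S0781
import Cfsg.Agent.Lib.Unitary.Transvection

set_option autoImplicit false
open Cfsg

namespace Cfsg.Agent.S0781

/-- In SU_n(q) with n ≥ 4, or n = 3 and q > 2, every element whose matrix is a unitary transvection x ↦ x + c h(x, v) v (v isotropic) is a commutator ⁅B, C⁆ of two elements of SU_n(q). -/
theorem result {F : Type*} [Field F] [Fintype F] {q : ℕ} (hF : Fintype.card F = q ^ 2) (n : ℕ) (hn : 4 ≤ n ∨ (n = 3 ∧ 3 ≤ q)) (A : ↥(Cfsg.SU n F q)) (v : Fin n → F) (c : F) (hv0 : Cfsg.hermForm n F q v v = 0) (hA : ((A : Matrix.SpecialLinearGroup (Fin n) F) : Matrix (Fin n) (Fin n) F) = Cfsg.unitaryTransvection n q v c) : A ∈ commutatorSet ↥(Cfsg.SU n F q) := by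
  set B := Cfsg.Agent.Lib.Unitary.suToGU n F q A with hB
  have hBmat : B.1.1 = Cfsg.unitaryTransvection n q v c := hA
  have key : ∀ c', Cfsg.Agent.Lib.Unitary.IsTvAt v c' B → c' + c' ^ q = 0 →
      A ∈ commutatorSet ↥(Cfsg.SU n F q) := by
    intro c' hTv hc'
    obtain ⟨g, h, hg, hh, hgh⟩ :=
      Cfsg.Agent.Lib.Unitary.tv_commutator hF (by omega) hTv hv0 hc'
    have hsu : ∀ x : Cfsg.GU n F q, x.1.1.det = 1 →
        ∃ X, Cfsg.Agent.Lib.Unitary.suToGU n F q X = x := fun x hx => by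
      rw [← MonoidHom.mem_range, Cfsg.Agent.Lib.Unitary.suToGU_range]
      exact Units.ext hx
    obtain ⟨G, hG⟩ := hsu g hg
    obtain ⟨H, hH⟩ := hsu h hh
    exact ⟨G, H, Cfsg.Agent.Lib.Unitary.suToGU_injective
      (by rw [map_commutatorElement, hG, hH, hgh])⟩
  have hTv : Cfsg.Agent.Lib.Unitary.IsTvAt v c B := fun x => by
    rw [hBmat, Cfsg.Agent.Lib.Unitary.unitaryTransvection_eq_rk1,
      Cfsg.Agent.Lib.Unitary.rk1_mulVec]
  rcases eq_or_ne v 0 with hv | hv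
  · refine key 0 (fun x => ?_) ?_
    · rw [hTv x, hv, smul_zero, smul_zero]
    · rw [Cfsg.Agent.Lib.Unitary.zero_pow_q hF, add_zero]
  · refine key c hTv ((Cfsg.Agent.Lib.Unitary.preserving_transvection_iff hF hv hv0 c).1 ?_)
    intro x y
    have := Cfsg.Agent.Lib.Unitary.GU_herm x y B
    rwa [hBmat] at this

end Cfsg.Agent.S0781
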