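import Cfsg.Statements.S0782
import Cfsg.Agent.Lib.Forms.SUStab

set_option autoImplicit false
open Cfsg

namespace Cfsg.Agent.S0782

/-- Maximal parabolics of SU_n(q): if W is a k-dimensional subspace of F^n (n ≥ 1, |F| = q²) on which the Hermitian form vanishes, then (q + 1) times the order of its stabiliser in SU_n(q) equals q^(k(2n−3k)) · |GL_k(q²)| · |GU_(n−2k)(q)|, where |GU_m(q)| = q^(m(m−1)/2) Π_(i=1..m) (q^i − (−1)^i). -/
theorem result {F : Type*} [Field F] [Fintype F] {q : ℕ} (hF : Fintype.card F = q ^ 2) (n k : ℕ) (hn : 1 ≤ n) (hk : 2 * k ≤ n) (W : Submodule F (Fin n → F)) (hWk : Module.finrank F W = k) (hW : ∀ u ∈ W, ∀ v ∈ W, Cfsg.hermForm n F q u v = 0) : (q + 1) * Nat.card ↥((Cfsg.stabilizing (Cfsg.slToMat n F) (W : Set (Fin n → F))).subgroupOf (Cfsg.SU n F q)) = q ^ (k * (2 * n - 3 * k)) * (∏ i : Fin k, ((q ^ 2) ^ k - (q ^ 2) ^ (i : ℕ))) * (q ^ ((n - 2 * k) * ((n - 2 * k) - 1) / 2) * ∏ i ∈ Finset.range (n - 2 * k), (if Even i then q ^ (i + 1) + 1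 else q ^ (i + 1) - 1)) := by
  have h1 := Lib.Forms.SUStab.card_suStab_mul (q := q) hF hn hW
  have h2 := Lib.Forms.SUStab.card_guStab_mul (q := q) hF hWk hW
  rw [Lib.Forms.SUStab.card_isoTuples hF, Lib.Unitary.card_GU hF, card_linearIndependent hWk.ge, hWk,
    hF, ← h1] at h2
  have h1q := Lib.Unitary.one_lt_q hF
  let a : ℕ → ℕ := fun i => if Even i then q ^ (i + 1) + 1 else q ^ (i + 1) - 1
  have hstep : ∀ m, Lib.Unitary.countNull F q (m + 2) - 1 = a (m + 1) * a m := by
    intro m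
    rw [show m + 2 = (m + 1) + 1 by rfl, Lib.Unitary.countNull_succ_eq hF, Nat.add_sub_cancel]
    simp only [a, Nat.even_add_one]
    by_cases he : Even m <;> simp [he]
  have hsplit : ∀ j, j ≤ k → ∏ i ∈ Finset.range n, a i =
      (∏ i ∈ Finset.range (n - 2 * j), a i) *
        ∏ i ∈ Finset.range j, (Lib.Unitary.countNull F q (n - 2 * i) - 1) := by
    intro j
    induction j with
    | zero => simp
    | succ j ih =>
      intro hj
      rw [ih (by omega), show n - 2 * j = (n - 2 * (j + 1)) + 2 by omega, Finset.prod_range_succ,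
        Finset.prod_range_succ, Finset.prod_range_succ _ j,
        show n - 2 * j = (n - 2 * (j + 1)) + 2 by omega, hstep]
      ring
  have hexp : n * (n - 1) / 2 = k * (2 * n - 3 * k) + (n - 2 * k) * ((n - 2 * k) - 1) / 2 +
      2 * ∑ i ∈ Finset.range k, i := by
    rw [← Finset.sum_range_id, ← Finset.sum_range_id]
    have key : ∀ a : ℕ, 2 * (∑ i ∈ Finset.range a, i) + a = a ^ 2 := by
      intro a
      induction a with
      | zero => rfl
      | succ a ih => rw [Finset.sum_range_succ]; linear_combination ih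
    obtain ⟨r, rfl⟩ := Nat.exists_eq_add_of_le hk
    rw [Nat.add_sub_cancel_left, show 2 * (2 * k + r) - 3 * k = k + 2 * r by omega]
    have e1 := key (2 * k + r)
    have e2 := key r
    have e3 := key k
    nlinarith
  have hsum : ∏ j ∈ Finset.range k, (q ^ 2) ^ j * (Lib.Unitary.countNull F q (n - 2 * j) - 1) =
      q ^ (2 * ∑ i ∈ Finset.range k, i) * ∏ i ∈ Finset.range k, (Lib.Unitary.countNull F q (n - 2 * i) - 1) := by
    rw [Finset.prod_mul_distrib, Finset.prod_pow_eq_pow_sum, ← pow_mul]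
  have hpos : 0 < ∏ j ∈ Finset.range k, (q ^ 2) ^ j * (Lib.Unitary.countNull F q (n - 2 * j) - 1) := by
    refine Finset.prod_pos fun j hj => Nat.mul_pos (pow_pos (pow_pos (by omega) _) _) ?_
    rw [Finset.mem_range] at hj
    obtain ⟨m, hm⟩ : ∃ m, n - 2 * j = m + 2 := ⟨n - 2 * j - 2, by omega⟩
    rw [hm, hstep]
    have ha : ∀ i, 0 < a i := fun i => by
      have : 1 < q ^ (i + 1) := Nat.one_lt_pow (by omega) h1q
      simp only [a]; split <;> omega
    exact Nat.mul_pos (ha _) (ha _)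
  refine Nat.eq_of_mul_eq_mul_right hpos ?_
  rw [h2, hsum, hexp, pow_add, pow_add,
    show (∏ i ∈ Finset.range n, if Even i then q ^ (i + 1) + 1 else q ^ (i + 1) - 1) = _ from hsplit k le_rfl]
  simp only [a]
  ring

end Cfsg.Agent.S0782
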