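import Cfsg.Statements.S0783
import Cfsg.Agent.Lib.Unitary.Order
import Cfsg.Agent.Lib.Unitary.Transvection

set_option autoImplicit false
open Cfsg

namespace Cfsg.Agent.S0783

/-- PGU_n(q)/PSU_n(q) is cyclic of order (n, q+1): for n ≥ 2 and |F| = q² there is a surjective homomorphism from GU_n(q) onto the cyclic group of order gcd(n, q + 1) whose kernel is generated by the determinant-one elements together with the centre. -/
theorem result {F : Type*} [Field F] [Fintype F] {q : ℕ} (hF : Fintype.card F = q ^ 2) (n : ℕ) (hn : 2 ≤ n) : ∃ φ : ↥(Cfsg.GU n F q) →* Multiplicative (ZMod (Nat.gcd n (q + 1))), Function.Surjective φ ∧ φ.ker = (Matrix.GeneralLinearGroup.det : Matrix.GeneralLinearGroup (Fin n) F →* Fˣ).ker.subgroupOf (Cfsg.GU n F q) ⊔ Subgroup.center ↥(Cfsg.GU n F q) := by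
  classical
  have hK : Nat.card (Lib.Unitary.normHom F q).ker = q + 1 := (Lib.Unitary.card_normHom hF).1
  set R := (powMonoidHom n : (Lib.Unitary.normHom F q).ker →* (Lib.Unitary.normHom F q).ker).range
    with hR
  have hcardR : Nat.card ((Lib.Unitary.normHom F q).ker ⧸ R) = Nat.gcd n (q + 1) := by
    rw [← Subgroup.index_eq_card, hR, IsCyclic.index_powMonoidHom_range, hK, Nat.gcd_comm]
  let e : (Lib.Unitary.normHom F q).ker ⧸ R ≃* Multiplicative (ZMod (Nat.gcd n (q + 1))) :=
    (zmodCyclicMulEquiv (G := (Lib.Unitary.normHom F q).ker ⧸ R) inferInstance).symm.trans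
      (AddEquiv.toMultiplicative (ZMod.ringEquivCongr hcardR).toAddEquiv)
  have hrange := Lib.Unitary.range_detGU (n := n) hF (by omega)
  let δ : ↥(Cfsg.GU n F q) →* (Lib.Unitary.normHom F q).ker :=
    (Lib.Unitary.detGU n F q).codRestrict _ (fun A => hrange ▸ ⟨A, rfl⟩)
  have hδ : Function.Surjective δ := fun u => by
    obtain ⟨A, hA⟩ : (u : Fˣ) ∈ (Lib.Unitary.detGU n F q).range := hrange.symm ▸ u.2
    exact ⟨A, Subtype.ext hA⟩
  have hscal : ∀ (μ : Fˣ), μ ^ (q + 1) = 1 → ∃ Z : ↥(Cfsg.GU n F q),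
      Z ∈ Subgroup.center ↥(Cfsg.GU n F q) ∧ Lib.Unitary.detGU n F q Z = μ ^ n := by
    intro μ hμ
    have hμ' : (μ : F) * (μ : F) ^ q = 1 := by
      rw [← pow_succ', ← Units.val_pow_eq_pow_val, hμ, Units.val_one]
    have hpres : ∀ u v : Fin n → F, Cfsg.hermForm n F q (((μ : F) • (1 : Matrix (Fin n) (Fin n) F)).mulVec u)
        (((μ : F) • (1 : Matrix (Fin n) (Fin n) F)).mulVec v) = Cfsg.hermForm n F q u v := fun u v => by
      simp only [Matrix.smul_mulVec, Matrix.one_mulVec, Lib.Unitary.herm_smul_left,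
        Lib.Unitary.herm_smul_right]
      linear_combination (Cfsg.hermForm n F q u v) * hμ'
    refine ⟨Lib.Unitary.mkGU hF _ hpres, ?_, ?_⟩
    · rw [Subgroup.mem_center_iff]
      intro g
      refine Lib.Unitary.GU_ext fun x => ?_
      simp [Lib.Unitary.mkGU_val, Matrix.smul_mulVec]
    · apply Units.ext
      simp [Lib.Unitary.mkGU_val]
  refine ⟨(e.toMonoidHom.comp (QuotientGroup.mk' R)).comp δ,
    e.surjective.comp ((QuotientGroup.mk'_surjective R).comp hδ), ?_⟩
  have hke : (e.toMonoidHom.comp (QuotientGroup.mk' R)).ker = R := by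
    ext x
    simp
  rw [← MonoidHom.comap_ker, hke]
  ext A
  constructor
  · intro hA
    obtain ⟨u, hu⟩ := hA
    have hu' : (u : Fˣ) ^ n = Lib.Unitary.detGU n F q A := congrArg Subtype.val hu
    obtain ⟨Z, hZ, hdet⟩ := hscal u.1 u.2
    have hAZ : A = (A * Z⁻¹) * Z := (inv_mul_cancel_right A Z).symm
    rw [hAZ]
    refine Subgroup.mul_mem_sup ?_ hZ
    show Lib.Unitary.detGU n F q (A * Z⁻¹) = 1
    rw [map_mul, map_inv, hdet, hu', mul_inv_cancel]
  · intro hA
    refine (sup_le ?_ ?_ : _ ≤ Subgroup.comap δ R) hA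
    · intro B hB
      exact ⟨1, Subtype.ext ((one_pow n).trans (hB : Lib.Unitary.detGU n F q B = 1).symm)⟩
    · intro B hB
      obtain ⟨l, hl⟩ : ∃ l : F, ∀ x, B.1.1.mulVec x = l • x := by
        refine Lib.Unitary.scalar_of_isotropic_eigen hF hn _ fun v hv => ?_
        rcases eq_or_ne v 0 with rfl | hv0
        · exact ⟨0, by simp⟩
        obtain ⟨θ, hθ0, hθ⟩ := Lib.Unitary.exists_trace_zero_ne_zero hF
        obtain ⟨T, hT, -⟩ := Lib.Unitary.exists_tv hF hv hθ
        obtain ⟨f, hf⟩ := Lib.Unitary.exists_hyp hF hv0 hv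
        have h := congrArg (fun X : ↥(Cfsg.GU n F q) => X.1.1.mulVec f) (Subgroup.mem_center_iff.1 hB T)
        simp only [Lib.Unitary.GU_mul_mulVec, hT _, hf.symm' hF, mul_one, Matrix.mulVec_add,
          Matrix.mulVec_smul] at h
        exact ⟨Cfsg.hermForm n F q (B.1.1.mulVec f) v, smul_right_injective _ hθ0 (by
          simp only [smul_smul]; exact (add_left_cancel h).symm)⟩
      have hBM : B.1.1 = l • (1 : Matrix (Fin n) (Fin n) F) := by
        apply Matrix.ext_of_mulVec_single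
        intro i
        rw [hl, Matrix.smul_mulVec, Matrix.one_mulVec]
      obtain ⟨f, hf, hf'⟩ : ∃ f, Cfsg.hermForm n F q f f = 1 ∧ f ≠ 0 := by
        refine ⟨Pi.single ⟨0, by omega⟩ 1, ?_, fun h => by simpa using congrFun h ⟨0, by omega⟩⟩
        rw [Lib.Unitary.herm_std hF]; simp
      have hl1 : l * l ^ q = 1 := by
        have := B.2 f f
        simp only [Units.coeHom_apply, hl, Lib.Unitary.herm_smul_left, Lib.Unitary.herm_smul_right,
          hf, mul_one] at this
        rwa [mul_comm] at this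
      have hl0 : l ≠ 0 := fun h => by rw [h, zero_mul] at hl1; exact zero_ne_one hl1
      have hmem : Units.mk0 l hl0 ∈ (Lib.Unitary.normHom F q).ker := by
        show Units.mk0 l hl0 ^ (q + 1) = 1
        apply Units.ext
        rw [Units.val_pow_eq_pow_val, Units.val_mk0, pow_succ', hl1, Units.val_one]
      refine ⟨⟨_, hmem⟩, Subtype.ext (Units.ext ?_)⟩
      show ((Units.mk0 l hl0 ^ n : Fˣ) : F) = (Lib.Unitary.detGU n F q B : F)
      rw [Lib.Unitary.detGU_val, hBM]
      simp

end Cfsg.Agent.S0783
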