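import Cfsg.Statements.S0786
import Cfsg.Agent.Lib.Forms.Reflections

set_option autoImplicit false
open Cfsg

namespace Cfsg.Agent.S0786

/-- Generation by reflections: if F is finite, Q is a quadratic form on F^n with non-degenerate polar form, and (|F|, n) ≠ (2, 4), then the isometry group of Q is generated by the reflections r_v, Q(v) ≠ 0. -/
theorem result {F : Type*} [Field F] [Fintype F] {n : ℕ} (Q : QuadraticForm F (Fin n → F)) (hQ : (QuadraticMap.polarBilin Q).Nondegenerate) (h : Fintype.card F ≠ 2 ∨ n ≠ 4) : Subgroup.closure {g : ↥(Cfsg.isometryGroup F ⇑Q) | ∃ v : Fin n → F, Q v ≠ 0 ∧ ((g : Matrix.GeneralLinearGroup (Fin n) F) : Matrix (Fin n) (Fin n) F) = Cfsg.reflectionMatrix ⇑Q v} = ⊤ := by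
  have hN := (Lib.Forms.nondeg_iff Q).1 hQ
  have h' : (∃ a : F, a ≠ 0 ∧ a ≠ 1) ∨ Module.finrank F (Fin n → F) ≠ 4 := by
    rcases h with h | h
    · refine Or.inl ?_
      by_contra hc
      push Not at hc
      apply h
      classical
      have : (Finset.univ : Finset F) = {0, 1} := by
        ext a
        by_cases ha : a = 0
        · simp [ha]
        · simp [hc a ha]
      rw [Fintype.card, this]
      simp
    · exact Or.inr (by simpa using h)
  have key := Lib.Forms.closure_reflSet hN h'
  let e := Lib.Forms.isoOrth Q (f := ⇑Q) (fun _ => rfl)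
  rw [eq_top_iff]
  intro g _
  have hg : e g ∈ Subgroup.closure (Lib.Forms.reflSet Q) := by rw [key]; trivial
  have := Subgroup.mem_map_of_mem e.symm.toMonoidHom hg
  rw [MonoidHom.map_closure, MulEquiv.coe_toMonoidHom, MulEquiv.symm_apply_apply] at this
  refine Subgroup.closure_mono ?_ this
  rintro _ ⟨r, ⟨v, hv, rfl⟩, rfl⟩
  exact ⟨v, hv, (Lib.Forms.coe_eq_reflectionMatrix_iff Q _ v).2 (e.apply_symm_apply _)⟩

end Cfsg.Agent.S0786
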