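import Cfsg.Statements.S0787
import Cfsg.Agent.Lib.Forms.Bridge

set_option autoImplicit false
open Cfsg

namespace Cfsg.Agent.S0787

/-- Existence and uniqueness of Ω: if F is finite, n ≥ 2, Q is a quadratic form on F^n with non-degenerate polar form and (|F|, n) ≠ (2, 4), then the group of isometries of determinant one has a unique subgroup of index 2. -/
theorem result {F : Type*} [Field F] [Fintype F] {n : ℕ} (hn : 2 ≤ n) (Q : QuadraticForm F (Fin n → F)) (hQ : (QuadraticMap.polarBilin Q).Nondegenerate) (h : Fintype.card F ≠ 2 ∨ n ≠ 4) : ∃! H : Subgroup ↥(Cfsg.specialIsometryGroup F ⇑Q), H.index = 2 := by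
  classical
  have hN := (Lib.Forms.nondeg_iff Q).1 hQ
  have h01 := Lib.Forms.exists_ne01_or h
  have hfr : 2 ≤ Module.finrank F (Fin n → F) := by simpa using hn
  have hidx : ((Cfsg.Omega F ⇑Q).subgroupOf (Cfsg.specialIsometryGroup F ⇑Q)).index = 2 := by
    by_cases h2 : (2 : F) = 0
    · have ht := Lib.Forms.special_eq_top_of_char_two hN h2 h01
      show (Cfsg.Omega F ⇑Q).relIndex (Cfsg.specialIsometryGroup F ⇑Q) = 2
      rw [ht, Subgroup.relIndex_top_right]
      exact Lib.Forms.index_Omega_two hN h2 hfr h01
    · have hle := Lib.Forms.Omega_le_special Q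
      have h4 := Lib.Forms.finite_index_Omega hN h2 hfr
      have hmul := Subgroup.relIndex_mul_index hle
      rw [h4] at hmul
      have hs : (Cfsg.specialIsometryGroup F ⇑Q).index = 2 := by
        have hsub : ∀ x : Fˣ, x ∈
            (Matrix.GeneralLinearGroup.det.comp (Cfsg.isometryGroup F ⇑Q).subtype).range ↔
            x = 1 ∨ x = -1 := by
          intro x
          constructor
          · rintro ⟨g, rfl⟩
            show Matrix.GeneralLinearGroup.det (g : Matrix.GeneralLinearGroup (Fin n) F) = 1 ∨ _
            rw [Lib.Forms.det_eq_negOnePow hN h01 g]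
            rcases Lib.Forms.mult_zmod2_cases
              (Lib.Forms.dicksonHom hN h01 (Lib.Forms.toOrth Q g)) with e | e
            · left; rw [e, map_one]
            · right
              show Matrix.GeneralLinearGroup.det (g : Matrix.GeneralLinearGroup (Fin n) F) = -1
              rw [Lib.Forms.det_eq_negOnePow hN h01 g, e]
              rfl
          · rintro (rfl | rfl)
            · exact one_mem _
            · obtain ⟨v, hv⟩ := Lib.Forms.exists_Q_eq hN hfr 1
              exact ⟨Lib.Forms.irefl Q v, Lib.Forms.det_irefl (by rw [hv]; exact one_ne_zero)⟩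
        show (Matrix.GeneralLinearGroup.det.comp (Cfsg.isometryGroup F ⇑Q).subtype).ker.index = 2
        rw [Subgroup.index_ker, Nat.card_eq_two_iff]
        refine ⟨⟨1, (hsub 1).2 (Or.inl rfl)⟩, ⟨-1, (hsub (-1)).2 (Or.inr rfl)⟩, ?_, ?_⟩
        · intro he
          have := congrArg (fun u => ((Subtype.val u : Fˣ) : F)) he
          simp only [Units.val_one, Units.val_neg] at this
          exact h2 (by linear_combination this)
        · refine Set.eq_univ_of_forall fun x => ?_
          rcases (hsub x.1).1 x.2 with e | e
          · exact Or.inl (Subtype.ext e)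
          · exact Or.inr (Subtype.ext e)
      rw [hs] at hmul
      show (Cfsg.Omega F ⇑Q).relIndex (Cfsg.specialIsometryGroup F ⇑Q) = 2
      omega
  refine ⟨_, hidx, fun H hH => ?_⟩
  have hle := Lib.Forms.special_index_two_unique hN h01 H hH
  have hmul := Subgroup.relIndex_mul_index hle
  rw [hH, hidx] at hmul
  exact (le_antisymm hle (Subgroup.relIndex_eq_one.1 (by omega))).symm

end Cfsg.Agent.S0787
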