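import Cfsg.Statements.S0790
import Cfsg.Agent.Lib.Forms.Bridge

set_option autoImplicit false
open Cfsg

namespace Cfsg.Agent.S0790

/-- −1 ∈ Ω⁺_2m(q) iff q^m ≡ 1 (mod 4), for q odd and m ≥ 1 (so that in the other case SO⁺_2m(q) = 2 × Ω⁺_2m(q)). -/
theorem result {F : Type*} [Field F] [Fintype F] {q : ℕ} (hF : Fintype.card F = q) (hodd : Odd q) (m : ℕ) (hm : 1 ≤ m) : (∃ g : ↥(Cfsg.isometryGroup F (Cfsg.quadFormPlus m F)), g ∈ Cfsg.Omega F (Cfsg.quadFormPlus m F) ∧ ((g : Matrix.GeneralLinearGroup (Fin m ⊕ Fin m) F) : Matrix (Fin m ⊕ Fin m) (Fin m ⊕ Fin m) F) = -1) ↔ q ^ m % 4 = 1 := by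
  subst hF
  have h2 : (2 : F) ≠ 0 := fun h2 => by
    have hchar : ringChar F = 2 := CharP.ringChar_of_prime_eq_zero Nat.prime_two (by exact_mod_cast h2)
    exact Nat.not_odd_iff.2 (FiniteField.even_card_iff_char_two.1 hchar) hodd
  rw [Lib.Forms.exists_neg_one_Omega_iff (Lib.Forms.qPlus_eq m)]
  rw [Lib.Forms.neg_one_mem_commutator_iff (Lib.Forms.qPlus_nondeg m) h2 (by simp; omega)
      (by simp) one_ne_zero, Lib.Forms.levelCard_qPlus m one_ne_zero, Nat.card_eq_fintype_card]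
  have hqm : Odd (Fintype.card F ^ m) := hodd.pow
  obtain ⟨s, hs⟩ := hqm
  rw [hs, Nat.add_sub_cancel, mul_assoc, Nat.mul_div_cancel_left _ two_pos, Nat.even_mul]
  have : ¬ Even (Fintype.card F ^ (m - 1)) := Nat.not_even_iff_odd.2 hodd.pow
  simp only [this, or_false, Nat.even_iff]
  omega

end Cfsg.Agent.S0790
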