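import Cfsg.Statements.S0791
import Cfsg.Agent.Lib.Forms.Bridge

set_option autoImplicit false
open Cfsg

namespace Cfsg.Agent.S0791

/-- −1 ∈ Ω⁻_2m(q) iff q^m ≡ −1 (mod 4), for q odd and m ≥ 1; for the minus-type form quadFormMinus (m−1) with anisotropic binary part. -/
theorem result {F : Type*} [Field F] [Fintype F] {q : ℕ} (hF : Fintype.card F = q) (hodd : Odd q) (m : ℕ) (hm : 1 ≤ m) (a b : F) (hab : ∀ z₁ z₂ : F, z₁ ^ 2 + a * z₁ * z₂ + b * z₂ ^ 2 = 0 → z₁ = 0 ∧ z₂ = 0) : (∃ g : ↥(Cfsg.isometryGroup F (Cfsg.quadFormMinus (m - 1) F a b)), g ∈ Cfsg.Omega F (Cfsg.quadFormMinus (m - 1) F a b) ∧ ((g : Matrix.GeneralLinearGroup ((Fin (m - 1) ⊕ Fin (m - 1)) ⊕ Fin 2) F) : Matrix ((Fin (m - 1) ⊕ Fin (m - 1)) ⊕ Fin 2) ((Fin (m - 1) ⊕ Fin (m - 1)) ⊕ Fin 2) F) = -1) ↔ q ^ m % 4 = 3 := by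
  subst hF
  have h2 : (2 : F) ≠ 0 := fun h2 => by
    have hchar : ringChar F = 2 := CharP.ringChar_of_prime_eq_zero Nat.prime_two (by exact_mod_cast h2)
    exact Nat.not_odd_iff.2 (FiniteField.even_card_iff_char_two.1 hchar) hodd
  obtain ⟨k, rfl⟩ : ∃ k, m = k + 1 := ⟨m - 1, by omega⟩
  refine (Lib.Forms.exists_neg_one_Omega_iff (Q := Lib.Forms.qMinus k a b)
    (fun v => (Lib.Forms.qMinus_apply k a b v).symm)).trans ?_
  rw [Lib.Forms.neg_one_mem_commutator_iff (Lib.Forms.qMinus_nondeg k hab) h2 (by simp)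
      (by simp [parity_simps]) one_ne_zero, Lib.Forms.levelCard_qMinus k hab one_ne_zero,
    Nat.card_eq_fintype_card]
  have hqm : Odd (Fintype.card F ^ (k + 1)) := hodd.pow
  obtain ⟨s, hs⟩ := hqm
  rw [hs, show 2 * s + 1 + 1 = 2 * (s + 1) by ring, mul_assoc, Nat.mul_div_cancel_left _ two_pos,
    Nat.even_mul]
  have : ¬ Even (Fintype.card F ^ k) := Nat.not_even_iff_odd.2 hodd.pow
  simp only [this, or_false, Nat.even_iff]
  omega

end Cfsg.Agent.S0791
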