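import Cfsg.Statements.S0792
import Cfsg.Agent.Lib.Forms.Bridge

set_option autoImplicit false
open Cfsg

namespace Cfsg.Agent.S0792

/-- For q odd and Q with non-degenerate polar form on F^n, the determinant-one isometries form the subgroup generated by all products r_u r_v of two reflections (Q(u), Q(v) ≠ 0). -/
theorem result {F : Type*} [Field F] [Fintype F] (h2 : (2 : F) ≠ 0) {n : ℕ} (Q : QuadraticForm F (Fin n → F)) (hQ : (QuadraticMap.polarBilin Q).Nondegenerate) : Cfsg.specialIsometryGroup F ⇑Q = Subgroup.closure {g : ↥(Cfsg.isometryGroup F ⇑Q) | ∃ u v : Fin n → F, Q u ≠ 0 ∧ Q v ≠ 0 ∧ ((g : Matrix.GeneralLinearGroup (Fin n) F) : Matrix (Fin n) (Fin n) F) = Cfsg.reflectionMatrix ⇑Q u * Cfsg.reflectionMatrix ⇑Q v} := by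
  have hN := (Lib.Forms.nondeg_iff Q).1 hQ
  have h01 : (∃ a : F, a ≠ 0 ∧ a ≠ 1) ∨ Module.finrank F (Fin n → F) ≠ 4 :=
    Or.inl (Lib.Forms.exists_ne01 h2)
  set P := Subgroup.closure {g : ↥(Cfsg.isometryGroup F ⇑Q) | ∃ u v : Fin n → F, Q u ≠ 0 ∧ Q v ≠ 0 ∧
    ((g : Matrix.GeneralLinearGroup (Fin n) F) : Matrix (Fin n) (Fin n) F) =
      Cfsg.reflectionMatrix ⇑Q u * Cfsg.reflectionMatrix ⇑Q v} with hP
  have hpair : ∀ {u v}, Q u ≠ 0 → Q v ≠ 0 → Lib.Forms.irefl Q u * Lib.Forms.irefl Q v ∈ P := by
    intro u v hu hv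
    refine Subgroup.subset_closure ⟨u, v, hu, hv, ?_⟩
    rw [Subgroup.coe_mul, Units.val_mul, Lib.Forms.irefl_coe, Lib.Forms.irefl_coe]
  refine le_antisymm (fun g hg => ?_) ((Subgroup.closure_le _).2 ?_)
  · by_cases hne : ∃ v, Q v ≠ 0
    · obtain ⟨v₀, hv₀⟩ := hne
      set r₀ := Lib.Forms.irefl Q v₀
      have hall : ∀ x : ↥(Cfsg.isometryGroup F ⇑Q), x ∈ P ∨ x * r₀ ∈ P := by
        intro x
        have hx : x ∈ Subgroup.closure (Lib.Forms.ireflSet Q) := by
          rw [Lib.Forms.closure_ireflSet hN h01]; trivial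
        induction hx using Subgroup.closure_induction_right with
        | one => exact Or.inl (one_mem _)
        | mul_right a _ r hr ih =>
          obtain ⟨w, hw, rfl⟩ := hr
          rcases ih with h | h
          · right; rw [mul_assoc]; exact mul_mem h (hpair hw hv₀)
          · left
            have := mul_mem h (hpair hv₀ hw)
            rwa [← mul_assoc, mul_assoc a, Lib.Forms.irefl_mul_self, mul_one] at this
        | mul_inv_cancel a _ r hr ih =>
          obtain ⟨w, hw, rfl⟩ := hr
          rw [Lib.Forms.irefl_inv]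
          rcases ih with h | h
          · right; rw [mul_assoc]; exact mul_mem h (hpair hw hv₀)
          · left
            have := mul_mem h (hpair hv₀ hw)
            rwa [← mul_assoc, mul_assoc a, Lib.Forms.irefl_mul_self, mul_one] at this
      rcases hall g with h | h
      · exact h
      · exfalso
        have hg' : Matrix.GeneralLinearGroup.det (g : Matrix.GeneralLinearGroup (Fin n) F) = 1 := hg
        have hle : P ≤ Cfsg.specialIsometryGroup F ⇑Q := by
          refine (Subgroup.closure_le _).2 ?_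
          rintro x ⟨u, v, hu, hv, hx⟩
          have hxe : x = Lib.Forms.irefl Q u * Lib.Forms.irefl Q v := Subtype.ext (Units.ext (by
            rw [hx, Subgroup.coe_mul, Units.val_mul, Lib.Forms.irefl_coe, Lib.Forms.irefl_coe]))
          rw [hxe]
          exact Lib.Forms.irefl_mul_irefl_mem_special hu hv
        have hd : Matrix.GeneralLinearGroup.det
            ((g * r₀ : ↥(Cfsg.isometryGroup F ⇑Q)) : Matrix.GeneralLinearGroup (Fin n) F) = 1 := hle h
        rw [Subgroup.coe_mul, map_mul, hg', one_mul, Lib.Forms.det_irefl hv₀] at hd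
        have := congrArg Units.val hd
        simp only [Units.val_neg, Units.val_one] at this
        exact h2 (by linear_combination -this)
    · push Not at hne
      have : g ∈ Subgroup.closure (Lib.Forms.ireflSet Q) := by
        rw [Lib.Forms.closure_ireflSet hN h01]; trivial
      have he : Lib.Forms.ireflSet Q = ∅ :=
        Set.eq_empty_of_forall_notMem fun x ⟨v, hv, _⟩ => hv (hne v)
      rw [he, Subgroup.closure_empty, Subgroup.mem_bot] at this
      rw [this]; exact one_mem _
  · rintro x ⟨u, v, hu, hv, hx⟩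
    have hxe : x = Lib.Forms.irefl Q u * Lib.Forms.irefl Q v := Subtype.ext (Units.ext (by
      rw [hx, Subgroup.coe_mul, Units.val_mul, Lib.Forms.irefl_coe, Lib.Forms.irefl_coe]))
    rw [hxe]
    exact Lib.Forms.irefl_mul_irefl_mem_special hu hv

end Cfsg.Agent.S0792
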