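import Cfsg.Statements.S0793
import Cfsg.Agent.Lib.Forms.Quad

set_option autoImplicit false
open Cfsg

namespace Cfsg.Agent.S0793

/-- Root elements: if Q(u) = Q(v) = 0 and f(u, v) = 0 (f the polar form), then for every c the Siegel matrix T_(u,v)(c) preserves Q, fixes u and v, and T(c) T(d) = T(c + d). -/
theorem result {F : Type*} [Field F] {n : ℕ} (Q : QuadraticForm F (Fin n → F)) (u v : Fin n → F) (hu : Q u = 0) (hv : Q v = 0) (huv : QuadraticMap.polar ⇑Q u v = 0) : (∀ c x, Q ((Cfsg.siegelMatrix ⇑Q u v c).mulVec x) = Q x) ∧ (∀ c, (Cfsg.siegelMatrix ⇑Q u v c).mulVec u = u ∧ (Cfsg.siegelMatrix ⇑Q u v c).mulVec v = v) ∧ ∀ c d, Cfsg.siegelMatrix ⇑Q u v c * Cfsg.siegelMatrix ⇑Q u v d = Cfsg.siegelMatrix ⇑Q u v (c + d) := by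
  have hp : ∀ w x, (Cfsg.polarVec (⇑Q) w) ⬝ᵥ x = QuadraticMap.polar Q w x :=
    Lib.Forms.polarVec_dotProduct Q
  have hmv : ∀ c x, (Cfsg.siegelMatrix (⇑Q) u v c).mulVec x =
      x + (c * QuadraticMap.polar Q u x) • v + (-(c * QuadraticMap.polar Q v x)) • u := by
    intro c x
    rw [Cfsg.siegelMatrix, Matrix.add_mulVec, Matrix.one_mulVec, Matrix.smul_mulVec,
      Matrix.sub_mulVec, Matrix.vecMulVec_mulVec, Matrix.vecMulVec_mulVec, hp, hp, op_smul_eq_smul,
      op_smul_eq_smul, smul_sub, smul_smul, smul_smul]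
    module
  have huu : QuadraticMap.polar Q u u = 0 := by rw [Lib.Forms.polar_self', hu, mul_zero]
  have hvv : QuadraticMap.polar Q v v = 0 := by rw [Lib.Forms.polar_self', hv, mul_zero]
  have hvu : QuadraticMap.polar Q v u = 0 := (QuadraticMap.polar_comm _ _ _).trans huv
  refine ⟨fun c x => ?_, fun c => ⟨?_, ?_⟩, fun c d => ?_⟩
  · rw [hmv, add_assoc, Lib.Forms.Q_add, Lib.Forms.Q_comb]
    simp only [QuadraticMap.polar_add_right, QuadraticMap.polar_smul_right, smul_eq_mul, hu, hv, hvu,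
      QuadraticMap.polar_comm (⇑Q) x v, QuadraticMap.polar_comm (⇑Q) x u]
    ring
  · simp [hmv, huu, hvu]
  · simp [hmv, huv, hvv]
  · apply Matrix.ext_of_mulVec_single
    intro j
    rw [← Matrix.mulVec_mulVec, hmv, hmv, hmv]
    simp only [QuadraticMap.polar_add_right, QuadraticMap.polar_smul_right, smul_eq_mul, huu, hvv,
      huv, hvu]
    module

end Cfsg.Agent.S0793
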