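import Cfsg.Statements.S0796
-- import your own Cfsg.Agent.* helpers here

set_option autoImplicit false
open Cfsg

namespace Cfsg.Agent.S0796

/-- If G is finite and acts faithfully and primitively on X, H is the stabiliser of a point, A is a normal subgroup of H whose normal closure in G is G, then for every non-trivial normal subgroup K of G the quotient G ⧸ K is isomorphic to A ⧸ B for some normal subgroup B of A. -/
theorem result {G X : Type*} [Group G] [Finite G] [MulAction G X] [FaithfulSMul G X] (hprim : MulAction.IsPreprimitive G X) (x : X) (A : Subgroup G) (hA : A ≤ MulAction.stabilizer G x) (hAn : (A.subgroupOf (MulAction.stabilizer G x)).Normal) (hgen : Subgroup.normalClosure (A : Set G) = ⊤) (K : Subgroup G) [K.Normal] (hK : K ≠ ⊥) : ∃ (B : Subgroup A) (_ : B.Normal), Nonempty (G ⧸ K ≃* A ⧸ B) := by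
  have hfix : MulAction.fixedPoints K X ≠ Set.univ := by
    intro h
    apply hK
    rw [Subgroup.eq_bot_iff_forall]
    intro k hk
    refine FaithfulSMul.eq_of_smul_eq_smul fun y : X => ?_
    rw [one_smul]
    exact (Set.eq_univ_iff_forall.1 h y) ⟨k, hk⟩
  haveI := hprim
  haveI : MulAction.IsPretransitive K X :=
    MulAction.IsQuasiPreprimitive.isPretransitive_of_normal hfix
  have hconj : ∀ g : G, ∀ a ∈ A, g * a * g⁻¹ ∈ K ⊔ A := by
    intro g a ha
    obtain ⟨⟨k, hk⟩, hkx⟩ := MulAction.exists_smul_eq K x (g • x)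
    have hs : k⁻¹ * g ∈ MulAction.stabilizer G x := by
      rw [MulAction.mem_stabilizer_iff, mul_smul]
      rw [← show (k : G) • x = g • x from hkx, inv_smul_smul]
    have hmem := hAn.conj_mem ⟨a, hA ha⟩ (Subgroup.mem_subgroupOf.2 ha) ⟨k⁻¹ * g, hs⟩
    have hmem' : k⁻¹ * g * a * (k⁻¹ * g)⁻¹ ∈ A := Subgroup.mem_subgroupOf.1 hmem
    rw [show g * a * g⁻¹ = k * (k⁻¹ * g * a * (k⁻¹ * g)⁻¹) * k⁻¹ by group]
    exact mul_mem (mul_mem (Subgroup.mem_sup_left hk) (Subgroup.mem_sup_right hmem'))
      (inv_mem (Subgroup.mem_sup_left hk))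
  have htop : K ⊔ A = ⊤ := by
    rw [eq_top_iff, ← hgen, Subgroup.normalClosure, Subgroup.closure_le]
    intro y hy
    rw [Group.mem_conjugatesOfSet_iff] at hy
    obtain ⟨a, ha, hc⟩ := hy
    obtain ⟨g, rfl⟩ := isConj_iff.1 hc
    exact hconj g a ha
  set φ : A →* G ⧸ K := (QuotientGroup.mk' K).comp A.subtype
  have hφ : Function.Surjective φ := by
    rw [← MonoidHom.range_eq_top, MonoidHom.range_comp, Subgroup.range_subtype,
      ← Subgroup.map_top_of_surjective (QuotientGroup.mk' K) (QuotientGroup.mk'_surjective K),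
      ← htop, Subgroup.map_sup]
    rw [show K.map (QuotientGroup.mk' K) = ⊥ by rw [Subgroup.map_eq_bot_iff, QuotientGroup.ker_mk'],
      bot_sup_eq]
  exact ⟨φ.ker, inferInstance, ⟨(QuotientGroup.quotientKerEquivOfSurjective φ hφ).symm⟩⟩

end Cfsg.Agent.S0796
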