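import Cfsg.Statements.S0797
import Cfsg.Agent.Lib.Forms.Bridge

set_option autoImplicit false
open Cfsg

namespace Cfsg.Agent.S0797

/-- Index-two subgroups of a Klein four group correspond to its involutions. -/
theorem card_index_two_v4 {A : Type*} [CommGroup A] [Finite A] (h4 : Nat.card A = 4)
    (hexp : ∀ x : A, x * x = 1) : Nat.card {K : Subgroup A // K.index = 2} = 3 := by
  classical
  have hord : ∀ x : A, x ≠ 1 → Nat.card (Subgroup.zpowers x) = 2 := fun x hx => by
    rw [Nat.card_zpowers]
    exact orderOf_eq_prime (by rw [sq, hexp]) hx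
  have hbij : Function.Bijective fun x : {x : A // x ≠ 1} =>
      (⟨Subgroup.zpowers x.1, by
        have h := Subgroup.card_mul_index (Subgroup.zpowers x.1)
        rw [hord x.1 x.2, h4] at h; omega⟩ : {K : Subgroup A // K.index = 2}) := by
    constructor
    · rintro ⟨x, hx⟩ ⟨y, hy⟩ h
      have h' : Subgroup.zpowers x = Subgroup.zpowers y := congrArg Subtype.val h
      have hxy : x ∈ Subgroup.zpowers y := by
        rw [← h']; exact Subgroup.mem_zpowers x
      obtain ⟨k, hk⟩ := Subgroup.mem_zpowers_iff.1 hxy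
      rcases Int.even_or_odd k with ⟨m, rfl⟩ | ⟨m, rfl⟩
      · rw [zpow_add, hexp] at hk; exact absurd hk.symm hx
      · rw [zpow_add, zpow_one, two_mul, zpow_add, hexp, one_mul] at hk
        exact Subtype.ext hk.symm
    · rintro ⟨K, hK⟩
      have hKc : Nat.card K = 2 := by
        have h := Subgroup.card_mul_index K
        rw [hK, h4] at h; omega
      have : Nontrivial K := Finite.one_lt_card_iff_nontrivial.1 (by omega)
      obtain ⟨⟨x, hxK⟩, hx⟩ := exists_ne (1 : K)
      have hx' : x ≠ 1 := fun h => hx (Subtype.ext h)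
      refine ⟨⟨x, hx'⟩, Subtype.ext (Subgroup.eq_of_le_of_card_ge (by simpa using hxK) ?_)⟩
      rw [hord x hx', hKc]
  rw [← Nat.card_eq_of_bijective _ hbij]
  have := Fintype.ofFinite A
  rw [Nat.card_eq_fintype_card, Fintype.card_subtype_compl, Fintype.card_subtype_eq,
    ← Nat.card_eq_fintype_card, h4]

theorem units_int_mul_self (z : ℤˣ) : z * z = 1 := Int.units_mul_self z

/-- Index-two subgroups of a group whose derived quotient is the given Klein four group. -/
theorem card_index_two {G A : Type*} [Group G] [CommGroup A] [Finite A] (φ : G →* A)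
    (hφ : Function.Surjective φ) (hker : φ.ker ≤ commutator G) (h4 : Nat.card A = 4)
    (hexp : ∀ x : A, x * x = 1) : Nat.card {H : Subgroup G // H.index = 2} = 3 := by
  have hsq : ∀ H : Subgroup G, H.index = 2 → φ.ker ≤ H := fun H hH => by
    have hn : H.Normal := Subgroup.normal_of_index_eq_two hH
    have hc : commutator G ≤ H := by
      have hcyc : IsCyclic (G ⧸ H) :=
        isCyclic_of_prime_card (p := 2) (by rw [← Subgroup.index_eq_card, hH])
      have hcm : ∀ a b : G ⧸ H, a * b = b * a := fun a b => by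
        obtain ⟨g, hg⟩ := hcyc.exists_generator
        obtain ⟨i, rfl⟩ := Subgroup.mem_zpowers_iff.1 (hg a)
        obtain ⟨j, rfl⟩ := Subgroup.mem_zpowers_iff.1 (hg b)
        rw [← zpow_add, ← zpow_add, add_comm]
      rw [commutator_def, Subgroup.commutator_le]
      intro a _ b _
      rw [← QuotientGroup.ker_mk' H, MonoidHom.mem_ker, map_commutatorElement]
      exact commutatorElement_eq_one_iff_commute.2 (hcm _ _)
    exact hker.trans hc
  rw [← card_index_two_v4 h4 hexp]
  refine Nat.card_congr
    { toFun := fun H => ⟨H.1.map φ, by rw [Subgroup.index_map, sup_of_le_left (hsq _ H.2),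
          MonoidHom.range_eq_top.2 hφ, Subgroup.index_top, mul_one, H.2]⟩
      invFun := fun K => ⟨K.1.comap φ, by rw [Subgroup.index_comap_of_surjective _ hφ, K.2]⟩
      left_inv := fun H => Subtype.ext (Subgroup.comap_map_eq_self (hsq _ H.2))
      right_inv := fun K => Subtype.ext (Subgroup.map_comap_eq_self_of_surjective hφ _) }

/-- O^ε_2m(q) ≅ Ω.2² for q odd: if F is finite of odd characteristic, n ≥ 2 is even and Q has non-degenerate polar form on F^n, the isometry group of Q has exactly three subgroups of index 2. -/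
theorem result {F : Type*} [Field F] [Fintype F] (h2 : (2 : F) ≠ 0) {n : ℕ} (hn : 2 ≤ n) (heven : Even n) (Q : QuadraticForm F (Fin n → F)) (hQ : (QuadraticMap.polarBilin Q).Nondegenerate) : Nat.card {H : Subgroup ↥(Cfsg.isometryGroup F ⇑Q) // H.index = 2} = 3 := by
  have hQ' : Cfsg.Agent.Lib.Forms.Nondeg Q := (Cfsg.Agent.Lib.Forms.nondeg_iff Q).1 hQ
  have hn' : 2 ≤ Module.finrank F (Fin n → F) := by rw [Module.finrank_fin_fun]; exact hn
  set e := Cfsg.Agent.Lib.Forms.toOrth Q
  refine card_index_two ((Cfsg.Agent.Lib.Forms.omegaHom hQ' h2 1).comp e.toMonoidHom)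
    ((Cfsg.Agent.Lib.Forms.omegaHom_surjective hQ' h2 hn' one_ne_zero).comp e.surjective) ?_ ?_ ?_
  · intro g hg
    rw [Cfsg.Agent.Lib.Forms.mem_commutator_equiv e,
      ← Cfsg.Agent.Lib.Forms.ker_omegaHom hQ' h2 hn' one_ne_zero]
    exact hg
  · simp
  · rintro ⟨a, b⟩
    refine Prod.ext ?_ (units_int_mul_self b)
    rcases Cfsg.Agent.Lib.Forms.mult_zmod2_cases a with rfl | rfl
    · rfl
    · exact congrArg Multiplicative.ofAdd (show (1 : ZMod 2) + 1 = 0 by decide)

end Cfsg.Agent.S0797
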