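import Cfsg.Statements.S0798
import Cfsg.Agent.Lib.Forms.SquareClass
import Cfsg.Agent.Lib.Forms.Bridge

set_option autoImplicit false
open Cfsg

namespace Cfsg.Agent.S0798

/-- For q odd, n ≥ 2 even, Q with non-degenerate polar form (n, |F|) ≠ (4, 3), and a fixed c ≠ 0: the subgroup of the isometry group generated by the reflections r_v with Q(v) ∈ c·(F^×)² has index 2. -/
theorem result {F : Type*} [Field F] [Fintype F] (h2 : (2 : F) ≠ 0) {n : ℕ} (hn : 2 ≤ n) (heven : Even n) (Q : QuadraticForm F (Fin n → F)) (hQ : (QuadraticMap.polarBilin Q).Nondegenerate) (h43 : ¬ (n = 4 ∧ Fintype.card F = 3)) (c : F) (hc : c ≠ 0) : (Subgroup.closure {g : ↥(Cfsg.isometryGroup F ⇑Q) | ∃ (v : Fin n → F) (t : F), t ≠ 0 ∧ Q v = c * t ^ 2 ∧ ((g : Matrix.GeneralLinearGroup (Fin n) F) : Matrix (Fin n) (Fin n) F) = Cfsg.reflectionMatrix ⇑Q v}).index = 2 := by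
  have hQ' := (Lib.Forms.nondeg_iff Q).1 hQ
  have hset : (Lib.Forms.toOrth Q).toMonoidHom '' {g : ↥(Cfsg.isometryGroup F ⇑Q) | ∃ (v : Fin n → F) (t : F), t ≠ 0 ∧ Q v = c * t ^ 2 ∧ ((g : Matrix.GeneralLinearGroup (Fin n) F) : Matrix (Fin n) (Fin n) F) = Cfsg.reflectionMatrix ⇑Q v} =
      Lib.Forms.SquareClass.classSet Q c := by
    ext g
    constructor
    · rintro ⟨h, ⟨v, t, ht, hv, hh⟩, rfl⟩
      exact ⟨v, t, ht, hv, (Lib.Forms.coe_eq_reflectionMatrix_iff Q h v).1 hh⟩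
    · rintro ⟨v, t, ht, hv, rfl⟩
      exact ⟨Lib.Forms.irefl Q v, ⟨v, t, ht, hv, Lib.Forms.irefl_coe Q v⟩, Lib.Forms.toOrth_irefl Q v⟩
  rw [← Subgroup.index_map_equiv _ (Lib.Forms.toOrth Q), MonoidHom.map_closure]
  show (Subgroup.closure ((Lib.Forms.toOrth Q).toMonoidHom '' _)).index = 2
  rw [hset]
  refine Lib.Forms.SquareClass.index_closure_classSet h2 hQ' ?_ ?_ ?_ hc
  · rw [Module.finrank_fin_fun]; exact hn
  · rw [Module.finrank_fin_fun]; exact heven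
  · rw [Module.finrank_fin_fun, Nat.card_eq_fintype_card]; exact h43

end Cfsg.Agent.S0798
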