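import Cfsg.Statements.S0801
import Cfsg.Agent.Lib.DicksonId.TransvectionsExc

set_option autoImplicit false
set_option linter.style.haveILetI false
open Cfsg Cfsg.Agent.Lib.DicksonId

namespace Cfsg.Agent.S0801

/-- Let F be a finite field of odd characteristic and λ ≠ 0 an element generating F as a field. Then the lower and upper unitriangular matrices with off-diagonal entries 1 and λ generate SL_2(F), unless |F| = 9 and λ² = −1, in which case they generate a subgroup of order 120. -/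
theorem result {F : Type*} [Field F] [Fintype F] (h2 : (2 : F) ≠ 0) (lam : F) (hlam : lam ≠ 0) (hgen : Subfield.closure ({lam} : Set F) = ⊤) : (Subgroup.closure {g : Matrix.SpecialLinearGroup (Fin 2) F | (g : Matrix (Fin 2) (Fin 2) F) = !![1, 0; 1, 1] ∨ (g : Matrix (Fin 2) (Fin 2) F) = !![1, lam; 0, 1]} = ⊤ ∧ ¬ (Fintype.card F = 9 ∧ lam ^ 2 = -1)) ∨ (Fintype.card F = 9 ∧ lam ^ 2 = -1 ∧ Nat.card ↥(Subgroup.closure {g : Matrix.SpecialLinearGroup (Fin 2) F | (g : Matrix (Fin 2) (Fin 2) F) = !![1, 0; 1, 1] ∨ (g : Matrix (Fin 2) (Fin 2) F) = !![1, lam; 0, 1]}) = 120) := by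
  obtain ⟨p, hchar⟩ := CharP.exists F
  haveI := hchar
  haveI hp : Fact p.Prime := ⟨CharP.char_is_prime F p⟩
  have hp2 : p ≠ 2 := fun h => by
    subst h
    exact h2 (by exact_mod_cast CharP.cast_eq_zero F 2)
  rw [closure_set_eq]
  set G := Subgroup.closure ({trLow, trUp lam} : Set (Matrix.SpecialLinearGroup (Fin 2) F))
  have hmap : G.map (QuotientGroup.mk' _) = trGen lam := map_closure_tr lam
  have hG : 2 ∣ Nat.card (trGen lam) → G = pre (trGen lam) := fun h => by
    rw [← hmap] at h ⊢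
    exact eq_pre_of_map h2 h
  have htop : trGen lam = ⊤ → G = ⊤ := fun h => by
    rw [hG ?_, h, pre, Subgroup.comap_top]
    obtain ⟨f, hf, hq⟩ := Lib.Linear.exists_card_eq_pow (F := F) p
    have hodd : Fintype.card F % 2 = 1 := hq ▸ Nat.odd_iff.mp (hp.out.odd_of_ne_two hp2).pow
    rw [h, Subgroup.card_top]
    have hc := two_mul_card_PSL (F := F) hp2
    have h4 : 4 ∣ Fintype.card F * ((Fintype.card F - 1) * (Fintype.card F + 1)) :=
      dvd_mul_of_dvd_right (Nat.mul_dvd_mul (by omega : 2 ∣ _) (by omega : 2 ∣ _)) _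
    omega
  rcases trGen_cases hp2 hlam hgen with h | ⟨rfl, he⟩
  · refine Or.inl ⟨htop h, fun ⟨h9, hsq⟩ => ?_⟩
    have hp3 : p = 3 := by
      obtain ⟨f, hf, hq⟩ := Lib.Linear.exists_card_eq_pow (F := F) p
      rw [h9] at hq
      have hd : p ∣ 3 ^ 2 := by norm_num; rw [hq]; exact dvd_pow_self p hf.ne'
      exact (Nat.prime_dvd_prime_iff_eq hp.out Nat.prime_three).mp (hp.out.dvd_of_dvd_pow hd)
    subst hp3
    have h1 := trGen_small hsq
    rw [h, Subgroup.card_top] at h1
    have hc := two_mul_card_PSL (F := F) hp2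
    rw [h9] at hc
    omega
  · obtain ⟨h9, hsq⟩ := exc_of_alt_five hlam hgen he
    refine Or.inr ⟨h9, hsq, ?_⟩
    have hc := card_of_equiv_alt_five he
    rw [hG (by rw [hc]; norm_num), card_pre, gcd_two_eq (p := 3), if_neg (by norm_num), hc]

end Cfsg.Agent.S0801
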