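import Cfsg.Statements.S0802
import Cfsg.Agent.Lib.PSLFacts.Traces

set_option autoImplicit false
open Cfsg

namespace Cfsg.Agent.S0802

open Matrix Cfsg.Agent.Lib in
/-- In characteristic two a pair with traces `0`, `1`, `1` needs a cube root of unity. -/
theorem exists_root {F : Type*} [Field F] [CharP F 2] {W X : Matrix.SpecialLinearGroup (Fin 2) F}
    (hW : Matrix.trace (W : Matrix (Fin 2) (Fin 2) F) = 0)
    (hW1 : (W : Matrix.ProjectiveSpecialLinearGroup (Fin 2) F) ≠ 1)
    (hX : Matrix.trace (X : Matrix (Fin 2) (Fin 2) F) = 1)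
    (hWX : Matrix.trace ((W * X : Matrix.SpecialLinearGroup (Fin 2) F) : Matrix (Fin 2) (Fin 2) F) = 1) :
    ∃ u : F, u ^ 2 + u + 1 = 0 := by
  have h2 : (2 : F) = 0 := by exact_mod_cast CharP.cast_eq_zero F 2
  have hdW := Linear.sl2_det W
  have hdX := Linear.sl2_det X
  rw [DicksonFull.trace_mul] at hWX
  rw [Matrix.trace_fin_two] at hW hX
  set a := (W : Matrix (Fin 2) (Fin 2) F) 0 0 with ha
  set b := (W : Matrix (Fin 2) (Fin 2) F) 0 1 with hb
  set c := (W : Matrix (Fin 2) (Fin 2) F) 1 0 with hc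
  set d := (W : Matrix (Fin 2) (Fin 2) F) 1 1 with hd
  set e := (X : Matrix (Fin 2) (Fin 2) F) 0 0
  set f := (X : Matrix (Fin 2) (Fin 2) F) 0 1
  set g := (X : Matrix (Fin 2) (Fin 2) F) 1 0
  set i := (X : Matrix (Fin 2) (Fin 2) F) 1 1
  have hi : i = 1 - e := by linear_combination hX
  rw [hi] at hdX hWX
  have hda : d = a := by linear_combination hW - a * h2
  by_cases hb0 : b = 0
  · have ha1 : a = 1 := by
      have : (a - 1) * (a - 1) = 0 := by
        rw [hda, hb0] at hdW
        linear_combination hdW + (1 - a) * h2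
      exact sub_eq_zero.mp (mul_self_eq_zero.mp this)
    have hc0 : c ≠ 0 := by
      intro h
      apply hW1
      rw [PSLFacts.mk_eq_one_iff]
      refine ⟨1, ?_⟩
      ext r s
      fin_cases r <;> fin_cases s <;> simp [← ha, ← hb, ← hc, ← hd, hda, ha1, hb0, h]
    have hf : f = 0 := by
      rw [hda, ha1, hb0] at hWX
      have : c * f = 0 := by linear_combination hWX
      exact (mul_eq_zero.mp this).resolve_left hc0
    refine ⟨e, ?_⟩
    rw [hf] at hdX
    linear_combination (-1) * hdX + e * h2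
  · refine ⟨e + (a + 1) * f / b, ?_⟩
    field_simp
    rw [hda] at hdW hWX
    linear_combination (-b ^ 2) * hdX - f ^ 2 * hdW - b * f * hWX
      + (b ^ 2 * e + a * e * b * f + e * b * f + a * f ^ 2 + a * b * f - b ^ 2 * f * g
        + a * a * f ^ 2 - f ^ 2 * b * c + b * f ^ 2 * c + b ^ 2 * f * g) * h2


/-- PSL_2(p^n) has a subgroup isomorphic to A_4 if and only if it is not the case that p = 2 and n is odd. -/
theorem result {F : Type*} [Field F] [Fintype F] (p n : ℕ) [Fact p.Prime] [CharP F p] (hF : Fintype.card F = p ^ n) : (∃ H : Subgroup (Matrix.ProjectiveSpecialLinearGroup (Fin 2) F), Nonempty (H ≃* alternatingGroup (Fin 4))) ↔ ¬ (p = 2 ∧ Odd n) := by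
  classical
  constructor
  · rintro ⟨H, ⟨e⟩⟩ ⟨rfl, hn⟩
    obtain ⟨σ, τ, hσ, hσ1, hτ, hτ1, hστ, hστ1⟩ : ∃ σ τ : alternatingGroup (Fin 4),
        σ ^ 2 = 1 ∧ σ ≠ 1 ∧ τ ^ 3 = 1 ∧ τ ≠ 1 ∧ (σ * τ) ^ 3 = 1 ∧ σ * τ ≠ 1 := by
      decide +kernel
    obtain ⟨W, hW⟩ := Lib.PSLFacts.mk_surjective (F := F) ((e.symm σ : H) : _)
    obtain ⟨X, hX⟩ := Lib.PSLFacts.mk_surjective (F := F) ((e.symm τ : H) : _)
    have hWX : ((W * X : _) : Matrix.ProjectiveSpecialLinearGroup (Fin 2) F) =
        ((e.symm (σ * τ) : H) : _) := by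
      rw [QuotientGroup.mk_mul, hW, hX, map_mul, Subgroup.coe_mul]
    have hne : ∀ π : alternatingGroup (Fin 4), π ≠ 1 →
        ((e.symm π : H) : Matrix.ProjectiveSpecialLinearGroup (Fin 2) F) ≠ 1 := fun π h => by
      rw [Ne, OneMemClass.coe_eq_one, EmbeddingLike.map_eq_one_iff]
      exact h
    have hpow : ∀ (π : alternatingGroup (Fin 4)) (k : ℕ), π ^ k = 1 →
        ((e.symm π : H) : Matrix.ProjectiveSpecialLinearGroup (Fin 2) F) ^ k = 1 := fun π k h => by
      rw [← Subgroup.coe_pow, ← map_pow, h, map_one, Subgroup.coe_one]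
    have one : ∀ t : F, t ^ 2 = 1 → t = 1 := fun t h => by
      have h2 : (2 : F) = 0 := by exact_mod_cast CharP.cast_eq_zero F 2
      have : (t - 1) * (t - 1) = 0 := by linear_combination h + (1 - t) * h2
      exact sub_eq_zero.mp (mul_self_eq_zero.mp this)
    obtain ⟨u, hu⟩ := exists_root
      (Lib.PSLFacts.trace_of_pow_two (hW ▸ hne σ hσ1) (hW ▸ hpow σ 2 hσ)) (hW ▸ hne σ hσ1)
      (one _ (Lib.PSLFacts.trace_of_pow_three (hX ▸ hne τ hτ1) (hX ▸ hpow τ 3 hτ)))
      (one _ (Lib.PSLFacts.trace_of_pow_three (hWX ▸ hne _ hστ1) (hWX ▸ hpow _ 3 hστ)))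
    have hu1 : u ≠ 1 := fun h => by
      have h2 : (2 : F) = 0 := by exact_mod_cast CharP.cast_eq_zero F 2
      rw [h] at hu
      exact one_ne_zero (α := F) (by linear_combination hu - h2)
    have hu0 : u ≠ 0 := fun h => by simp [h] at hu
    have h3 : orderOf u = 3 := orderOf_eq_prime (by linear_combination (u - 1) * hu) hu1
    have hd := orderOf_dvd_of_pow_eq_one (FiniteField.pow_card_sub_one_eq_one u hu0)
    rw [h3, hF] at hd
    obtain ⟨k, rfl⟩ := hn
    have : 2 ^ (2 * k + 1) % 3 = 2 := by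
      rw [pow_succ, pow_mul, Nat.mul_mod, Nat.pow_mod]; norm_num
    generalize 2 ^ (2 * k + 1) = N at hd this
    obtain ⟨m, hm⟩ := hd
    omega
  · intro h
    refine Lib.PSLFacts.exists_subgroup_of_hom ?_
    by_cases h2 : (2 : F) = 0
    · have hp2 : p = 2 := by
        have := (CharP.cast_eq_zero_iff F p 2).mp (by exact_mod_cast h2)
        exact (Nat.prime_dvd_prime_iff_eq Fact.out Nat.prime_two).mp this
      subst hp2
      obtain ⟨k, rfl⟩ : Even n := Nat.not_odd_iff_even.mp fun ho => h ⟨rfl, ho⟩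
      have h3 : 3 ∣ Fintype.card Fˣ := by
        rw [Fintype.card_units, hF, ← two_mul, pow_mul]
        simpa using Nat.sub_one_dvd_pow_sub_one 4 k
      haveI : Fact (Nat.Prime 3) := ⟨Nat.prime_three⟩
      obtain ⟨w, hw⟩ := exists_prime_orderOf_dvd_card 3 h3
      have hw3 : (w : F) ^ 3 = 1 := by
        rw [← Units.val_pow_eq_pow_val, ← hw, pow_orderOf_eq_one, Units.val_one]
      have hw1 : (w : F) ≠ 1 := fun h => by
        rw [Units.val_eq_one] at h
        rw [h, orderOf_one] at hw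
        norm_num at hw
      have hroot : (w : F) ^ 2 + w + 1 = 0 := by
        apply mul_left_cancel₀ (sub_ne_zero.mpr hw1)
        rw [mul_zero]
        linear_combination hw3
      refine Lib.PSLFacts.alt_four_of_traces
        (W := Lib.DicksonFull.mk2 1 1 0 1 (by ring))
        (X := Lib.DicksonFull.mk2 (w : F) 0 0 ((w : F) ^ 2) (by linear_combination hw3)) ?_ ?_ ?_ ?_
      · rw [Lib.DicksonFull.trace_mk2]; linear_combination h2
      · intro hc
        obtain ⟨a, ha⟩ := (Lib.PSLFacts.mk_eq_one_iff _).mp hc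
        have := congrFun (congrFun ha 0) 1
        simp [Lib.DicksonFull.mk2] at this
      · rw [Lib.DicksonFull.trace_mk2]
        linear_combination ((w : F) + w ^ 2 - 1) * hroot
      · rw [Lib.DicksonFull.trace_mk2_mul]
        linear_combination ((w : F) + w ^ 2 - 1) * hroot
    · exact Lib.DicksonFull.exists_alt_four h2

end Cfsg.Agent.S0802
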