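import Cfsg.Statements.S0803
import Cfsg.Agent.Lib.PSLFacts.Traces

set_option autoImplicit false
open Cfsg

namespace Cfsg.Agent.S0803

/-- PSL_2(q) has a subgroup isomorphic to S_4 iff q² ≡ 1 (mod 16). -/
theorem result {F : Type*} [Field F] [Fintype F] {q : ℕ} (hF : Fintype.card F = q) : (∃ H : Subgroup (Matrix.ProjectiveSpecialLinearGroup (Fin 2) F), Nonempty (H ≃* Equiv.Perm (Fin 4))) ↔ q ^ 2 % 16 = 1 := by
  classical
  have hsq : q ^ 2 % 16 = (q % 16) ^ 2 % 16 := Nat.pow_mod q 2 16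
  constructor
  · rintro ⟨H, ⟨e⟩⟩
    obtain ⟨σ, hσ4, hσ2⟩ : ∃ σ : Equiv.Perm (Fin 4), σ ^ 4 = 1 ∧ σ ^ 2 ≠ 1 :=
      ⟨Equiv.swap 0 1 * Equiv.swap 1 2 * Equiv.swap 2 3, by decide +kernel, by decide +kernel⟩
    obtain ⟨x, hx⟩ := Lib.PSLFacts.mk_surjective (F := F) ((e.symm σ : H) : _)
    have hx4 : (x : Matrix.ProjectiveSpecialLinearGroup (Fin 2) F) ^ 4 = 1 := by
      rw [hx, ← Subgroup.coe_pow, ← map_pow, hσ4, map_one, Subgroup.coe_one]
    have hx2 : (x : Matrix.ProjectiveSpecialLinearGroup (Fin 2) F) ^ 2 ≠ 1 := by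
      rw [hx, ← Subgroup.coe_pow, ← map_pow, Ne, OneMemClass.coe_eq_one, EmbeddingLike.map_eq_one_iff]
      exact hσ2
    have ht := Lib.PSLFacts.trace_of_pow_four hx2 hx4
    have hodd : Odd q := by
      rw [← hF, ← Lib.PSLFacts.two_ne_zero_iff]
      intro h2
      exact hx2 (Lib.DicksonFull.mk_pow_two (pow_eq_zero_iff two_ne_zero |>.mp (ht.trans h2)))
    have h8 := FiniteField.isSquare_two_iff.mp
      ⟨Matrix.trace (x : Matrix (Fin 2) (Fin 2) F), by rw [← ht, pow_two]⟩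
    rw [hF] at h8
    rw [Nat.odd_iff] at hodd
    have key : ∀ r : Fin 16, r.val % 2 = 1 → r.val % 8 ≠ 3 → r.val % 8 ≠ 5 → r.val ^ 2 % 16 = 1 := by
      decide
    rw [hsq]
    exact key ⟨q % 16, Nat.mod_lt _ (by norm_num)⟩ (by simp only; omega) (by simp only; omega)
      (by simp only; omega)
  · intro h
    have key : ∀ r : Fin 16, r.val ^ 2 % 16 = 1 → r.val % 2 = 1 ∧ r.val % 8 ≠ 3 ∧ r.val % 8 ≠ 5 := by
      decide
    obtain ⟨k2, k3, k5⟩ := key ⟨q % 16, Nat.mod_lt _ (by norm_num)⟩ (hsq ▸ h)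
    simp only at k2 k3 k5
    obtain ⟨r, hr⟩ := (FiniteField.isSquare_two_iff (F := F)).mpr (by rw [hF]; omega)
    exact Lib.PSLFacts.exists_subgroup_of_hom (Lib.DicksonFull.exists_perm_four
      (Lib.PSLFacts.two_ne_zero_iff.mpr (by rw [hF, Nat.odd_iff]; omega))
      (r := r) (by rw [pow_two, hr]))

end Cfsg.Agent.S0803
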