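import Cfsg.Statements.S0804
import Cfsg.Agent.Lib.PSLFacts.Traces

set_option autoImplicit false
open Cfsg

namespace Cfsg.Agent.S0804

/-- PSL_2(q) has a subgroup isomorphic to A_5 iff 5 ∣ q(q² − 1). -/
theorem result {F : Type*} [Field F] [Fintype F] {q : ℕ} (hF : Fintype.card F = q) : (∃ H : Subgroup (Matrix.ProjectiveSpecialLinearGroup (Fin 2) F), Nonempty (H ≃* alternatingGroup (Fin 5))) ↔ 5 ∣ q * (q ^ 2 - 1) := by
  classical
  subst hF
  have hcard : Fintype.card F * (Fintype.card F ^ 2 - 1) =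
      Nat.gcd 2 (Fintype.card F - 1) * Nat.card (Matrix.ProjectiveSpecialLinearGroup (Fin 2) F) := by
    have h := Nat.sq_sub_sq (Fintype.card F) 1
    rw [one_pow] at h
    rw [Lib.Linear.gcd_mul_card_PSL_two, h, mul_comm (Fintype.card F + 1), mul_assoc]
  constructor
  · rintro ⟨H, ⟨e⟩⟩
    rw [hcard]
    refine Dvd.dvd.mul_left ((?_ : 5 ∣ Nat.card H).trans H.card_subgroup_dvd_card) _
    rw [Nat.card_congr e.toEquiv, nat_card_alternatingGroup, Nat.card_fin]
    decide
  · intro h
    rw [hcard] at h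
    refine Lib.PSLFacts.exists_subgroup_of_hom ?_
    have : Fact (Nat.Prime 5) := ⟨Nat.prime_five⟩
    have h5 : 5 ∣ Nat.card (Matrix.ProjectiveSpecialLinearGroup (Fin 2) F) :=
      (Nat.Prime.dvd_mul Nat.prime_five).mp h |>.resolve_left fun h' => by
        have := Nat.le_of_dvd (Nat.gcd_pos_of_pos_left _ two_pos) h'
        have := Nat.le_of_dvd two_pos (Nat.gcd_dvd_left 2 (Fintype.card F - 1))
        omega
    obtain ⟨y, hy⟩ := exists_prime_orderOf_dvd_card' 5 h5
    obtain ⟨x, rfl⟩ := Lib.PSLFacts.mk_surjective y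
    have h1 : (x : Matrix.ProjectiveSpecialLinearGroup (Fin 2) F) ≠ 1 := fun he => by
      rw [he, orderOf_one] at hy; norm_num at hy
    have ht := Lib.PSLFacts.trace_of_pow_five h1 (hy ▸ pow_orderOf_eq_one _)
    generalize Matrix.trace (x : Matrix (Fin 2) (Fin 2) F) = t at ht
    by_cases h2 : (2 : F) = 0
    · have hτ : t ^ 2 = t + 1 := by
        have : (t ^ 2 + t + 1) * (t ^ 2 + t + 1) = 0 := by
          linear_combination ht + (t ^ 3 + 3 * t ^ 2 + t) * h2
        linear_combination mul_self_eq_zero.mp this - (t + 1) * h2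
      refine Lib.PSLFacts.alt_five_of_traces
        (X := Lib.DicksonFull.mk2 1 t (t + 1) 0 (by linear_combination (-1) * hτ - (t + 1) * h2))
        (Y := Lib.DicksonFull.mk2 0 (-t) (-(t + 1)) (-t)
          (by linear_combination (-1) * hτ - (t + 1) * h2)) ?_ ?_ ?_ ?_
      · rw [Lib.DicksonFull.trace_mk2]; ring
      · rw [Lib.DicksonFull.trace_mk2]; linear_combination hτ + t * h2
      · rw [Lib.DicksonFull.trace_mk2_mul]; linear_combination (-t * (t + 1)) * h2
      · intro hc
        obtain ⟨a, ha⟩ := (Lib.PSLFacts.mk_eq_one_iff _).mp hc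
        have := congrFun (congrFun ha 0) 1
        rw [Matrix.SpecialLinearGroup.coe_mul] at this
        simp [Lib.DicksonFull.mk2, Matrix.mul_apply, Fin.sum_univ_two] at this
        exact one_ne_zero (α := F) (by linear_combination this + hτ + (t + 1) * h2)
    · exact Lib.DicksonFull.exists_alt_five h2 (r := 2 * t ^ 2 - 3) (by linear_combination 4 * ht)

end Cfsg.Agent.S0804
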