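import Cfsg.Statements.S0805
import Cfsg.Agent.Lib.PSLFacts.Traces
import Cfsg.Agent.Lib.DicksonFull.Subfield

set_option autoImplicit false
open Cfsg

namespace Cfsg.Agent.S0805

/-- Subfield subgroups: let F be a finite field of odd order q and K a finite field with |K|^m = q, m ≥ 1. Then PSL_2(F) has a subgroup isomorphic to PSL_2(K), and has a subgroup isomorphic to PGL_2(K) if and only if m is even. -/
theorem result {F K : Type*} [Field F] [Fintype F] [Field K] [Fintype K] {q : ℕ} (hF : Fintype.card F = q) (hodd : Odd q) (m : ℕ) (hm : 1 ≤ m) (hK : Fintype.card K ^ m = q) : (∃ H : Subgroup (Matrix.ProjectiveSpecialLinearGroup (Fin 2) F), Nonempty (H ≃* Matrix.ProjectiveSpecialLinearGroup (Fin 2) K)) ∧ ((∃ H : Subgroup (Matrix.ProjectiveSpecialLinearGroup (Fin 2) F), Nonempty (H ≃* Matrix.ProjGenLinGroup (Fin 2) K)) ↔ Even m) := by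
  classical
  have := ringChar.charP K
  obtain ⟨e, hp, he⟩ := FiniteField.card K (ringChar K)
  generalize ringChar K = p at *
  have := Fact.mk hp
  subst hF
  have hkodd : Odd (Fintype.card K) := by
    have := hodd
    rw [← hK] at this
    exact (Nat.odd_pow_iff (by omega)).mp this
  have hF' : Fintype.card F = p ^ ((e : ℕ) * m) := by rw [← hK, he, pow_mul]
  have : CharP F p := Lib.DicksonFull.charP_of_card hp hF'
  obtain ⟨f⟩ := Lib.DicksonFull.exists_ringHom (K := K) (F := F) he hF'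
  refine ⟨⟨(Lib.DicksonFull.pslExt f).range,
    ⟨(MonoidHom.ofInjective (Lib.DicksonFull.pslExt_injective f)).symm⟩⟩, ?_, ?_⟩
  · rintro ⟨H, ⟨g⟩⟩
    by_contra hm2
    obtain ⟨u, rfl⟩ := Nat.not_even_iff_odd.mp hm2
    have hd := H.card_subgroup_dvd_card
    rw [Nat.card_congr g.toEquiv, Lib.Linear.card_PGL_eq_card_SL (ι := Fin 2) (F := K),
      Lib.Linear.card_SL_two] at hd
    have h2 := Nat.mul_dvd_mul_left 2 hd
    have esq : ∀ n : ℕ, (n - 1) * (n + 1) = n ^ 2 - 1 := fun n => by
      have h := Nat.sq_sub_sq n 1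
      rw [one_pow] at h
      rw [h, mul_comm]
    rw [Lib.Linear.two_mul_card_PSL_two_of_odd hodd, ← hK, mul_assoc, mul_assoc, esq, esq] at h2
    set k := Fintype.card K with hk
    have hk1 : 1 < k := Fintype.one_lt_card
    have hco : Nat.Coprime (k ^ 2 - 1) (k ^ (2 * u + 1)) := by
      refine Nat.Coprime.pow_right _ ?_
      rw [Nat.coprime_comm, ← Nat.coprime_pow_left_iff two_pos]
      exact (Nat.coprime_self_sub_right (Nat.one_le_pow _ _ (by omega))).mpr (Nat.coprime_one_right _)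
    have hco2 : Nat.Coprime 2 (k ^ (2 * u + 1)) := Nat.coprime_two_left.mpr hkodd.pow
    have h3 : 2 * (k ^ 2 - 1) ∣ (k ^ (2 * u + 1)) ^ 2 - 1 :=
      (Nat.Coprime.mul_left hco2 hco).dvd_of_dvd_mul_left
        ((Nat.mul_dvd_mul_left 2 (dvd_mul_left _ k)).trans h2)
    rw [← pow_mul, mul_comm (2 * u + 1), pow_mul] at h3
    obtain ⟨x, hx⟩ : ∃ x, k ^ 2 = 1 + x :=
      ⟨_, (Nat.add_sub_cancel' (Nat.one_le_pow _ _ (by omega))).symm⟩
    rw [hx, Nat.add_sub_cancel_left] at h3
    have hx0 : 0 < x := by nlinarith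
    have hxe : x % 2 = 0 := by
      have : k ^ 2 % 2 = 1 := Nat.odd_iff.mp hkodd.pow
      omega
    have key : ∀ j, ∃ s, (1 + x) ^ j = 1 + x * s ∧ s % 2 = j % 2 := by
      intro j
      induction j with
      | zero => exact ⟨0, by simp⟩
      | succ j ih =>
        obtain ⟨s, h4, h5⟩ := ih
        refine ⟨1 + s + x * s, by rw [pow_succ, h4]; ring, ?_⟩
        rw [Nat.add_mod (1 + s), Nat.mul_mod, hxe, zero_mul, Nat.zero_mod, add_zero, Nat.mod_mod]
        omega
    obtain ⟨s, h4, h5⟩ := key (2 * u + 1)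
    rw [h4, Nat.add_sub_cancel_left, mul_comm 2 x] at h3
    have := Nat.dvd_of_mul_dvd_mul_left hx0 h3
    omega
  · intro hev
    obtain ⟨u, hu⟩ := hev
    have hsq : ∀ a : K, IsSquare (f a) := by
      intro a
      rcases eq_or_ne a 0 with rfl | ha
      · rw [map_zero]; exact ⟨0, (mul_zero 0).symm⟩
      have hchar : ringChar F ≠ 2 := fun h => by
        have := FiniteField.even_card_iff_char_two.mp h
        rw [Nat.odd_iff] at hodd
        omega
      rw [FiniteField.isSquare_iff hchar ((map_ne_zero f).mpr ha), ← map_pow]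
      obtain ⟨c, hc⟩ : Fintype.card K - 1 ∣ Fintype.card F / 2 := by
        have h1 : Fintype.card K ^ 2 - 1 ∣ Fintype.card F - 1 := by
          rw [← hK, hu, ← two_mul, pow_mul]
          exact Nat.sub_one_dvd_pow_sub_one _ _
        have h2 : (Fintype.card K - 1) * (Fintype.card K + 1) ∣ Fintype.card F - 1 := by
          rwa [mul_comm, ← Nat.sq_sub_sq, one_pow]
        rw [Nat.odd_iff] at hkodd hodd
        have h3 : (Fintype.card K - 1) * 2 ∣ 2 * (Fintype.card F / 2) := by
          rw [show 2 * (Fintype.card F / 2) = Fintype.card F - 1 by omega]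
          exact (Nat.mul_dvd_mul_left _ (Nat.dvd_of_mod_eq_zero (by omega))).trans h2
        rw [mul_comm] at h3
        exact Nat.dvd_of_mul_dvd_mul_left two_pos h3
      rw [hc, pow_mul, FiniteField.pow_card_sub_one_eq_one a ha, one_pow, map_one]
    obtain ⟨φ, hφ, -⟩ := Lib.DicksonFull.exists_pgl_hom f hsq
    exact Lib.PSLFacts.exists_subgroup_of_hom ⟨φ, hφ⟩

end Cfsg.Agent.S0805
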