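import Cfsg.Statements.S0806
import Cfsg.Agent.Lib.DicksonId.Consequences
import Cfsg.Agent.Lib.DicksonId.MaxCommon
import Cfsg.Agent.Lib.DicksonFull.Maximal

set_option autoImplicit false
open Cfsg

namespace Cfsg.Agent.S0806

/-- Minimal index (Galois): if q ∉ {2, 3, 5, 7, 9, 11} then every proper subgroup of PSL_2(q) has index ≥ q + 1, and some subgroup has index exactly q + 1. -/
theorem result {F : Type*} [Field F] [Fintype F] {q : ℕ} (hF : Fintype.card F = q) (hq : q ∉ ({2, 3, 5, 7, 9, 11} : Finset ℕ)) : (∀ H : Subgroup (Matrix.ProjectiveSpecialLinearGroup (Fin 2) F), H ≠ ⊤ → q + 1 ≤ H.index) ∧ ∃ H : Subgroup (Matrix.ProjectiveSpecialLinearGroup (Fin 2) F), H.index = q + 1 := by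
  classical
  subst hF
  obtain ⟨p, hCF⟩ : ∃ p, CharP F p := ⟨_, ringChar.charP F⟩
  haveI := hCF
  haveI : Fact p.Prime := ⟨CharP.char_is_prime F p⟩
  obtain ⟨f, hf, hq'⟩ := Lib.Linear.exists_card_eq_pow (F := F) p
  simp only [Finset.mem_insert, Finset.mem_singleton, not_or] at hq
  set q := Fintype.card F with hqdef
  have h1 : 1 < q := Fintype.one_lt_card
  have hd12 : Nat.gcd 2 (q - 1) = if p = 2 then 1 else 2 := Lib.DicksonId.gcd_two_eq (p := p)
  set d := Nat.gcd 2 (q - 1) with hd
  have hd0 : 0 < d := Nat.gcd_pos_of_pos_left _ two_pos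
  have hd2 : d ≤ 2 := Nat.le_of_dvd two_pos (Nat.gcd_dvd_left _ _)
  have hodd : p ≠ 2 → q % 2 = 1 := fun h => hq' ▸ Nat.odd_iff.mp ((Fact.out : p.Prime).odd_of_ne_two h).pow
  have h12 : q ≠ 6 := fun e => by
    rw [hq'] at e
    have e2 := (Nat.prime_dvd_prime_iff_eq Nat.prime_two (Fact.out : p.Prime)).mp
      (Nat.prime_two.dvd_of_dvd_pow (e.symm ▸ (by norm_num : 2 ∣ 6)))
    have e3 := (Nat.prime_dvd_prime_iff_eq Nat.prime_three (Fact.out : p.Prime)).mp
      (Nat.prime_three.dvd_of_dvd_pow (e.symm ▸ (by norm_num : 3 ∣ 6)))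
    omega
  have hG : d * Nat.card (Matrix.ProjectiveSpecialLinearGroup (Fin 2) F) = q * (q - 1) * (q + 1) :=
    Lib.Linear.gcd_mul_card_PSL_two
  -- the bound on orders gives the bound on indices
  have bound : ∀ H : Subgroup (Matrix.ProjectiveSpecialLinearGroup (Fin 2) F),
      d * Nat.card H ≤ q * (q - 1) → q + 1 ≤ H.index := fun H h => by
    have hi := Subgroup.card_mul_index H
    by_contra hlt
    have h' : d * Nat.card H * H.index = q * (q - 1) * (q + 1) := by rw [mul_assoc, hi, hG]
    have hle := Nat.mul_le_mul_right H.index h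
    have hlt' : q * (q - 1) * H.index < q * (q - 1) * (q + 1) :=
      Nat.mul_lt_mul_of_pos_left (by omega) (Nat.mul_pos (by omega) (by omega))
    omega
  have hqq : 4 * (q - 1) ≤ q * (q - 1) := Nat.mul_le_mul_right _ (by omega)
  have cyc : ∀ (H : Subgroup (Matrix.ProjectiveSpecialLinearGroup (Fin 2) F)) (C : Subgroup H),
      IsCyclic C → C.index ≤ 2 → ¬ p ∣ Nat.card C → d * Nat.card H ≤ q * (q - 1) := by
    intro H C hC hi hpC
    obtain ⟨x, -, hx⟩ := Lib.DicksonId.orderOf_eq_card_of_generator C hC
    have hC' : d * Nat.card C ≤ q + 1 := by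
      rw [← hx]
      rcases Lib.DicksonId.orderOf_dvd_of_not_dvd (p := p) (x := x) (hx ▸ hpC) with h | h
      · rcases Nat.eq_zero_or_pos ((q + 1) / d) with h0 | h0
        · have := (Nat.div_eq_zero_iff.mp h0).resolve_left (by omega)
          omega
        · exact le_trans (Nat.mul_le_mul_left _ (Nat.le_of_dvd h0 h)) (Nat.mul_div_le _ _)
      · rcases Nat.eq_zero_or_pos ((q - 1) / d) with h0 | h0
        · have := (Nat.div_eq_zero_iff.mp h0).resolve_left (by omega)
          omega
        · exact le_trans (Nat.mul_le_mul_left _ (Nat.le_of_dvd h0 h))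
            ((Nat.mul_div_le _ _).trans (by omega))
    rw [← Subgroup.card_mul_index C, ← mul_assoc]
    have := Nat.mul_le_mul hC' hi
    omega
  refine ⟨fun H hH => ?_, ?_⟩
  · have hlt : Nat.card H < Nat.card (Matrix.ProjectiveSpecialLinearGroup (Fin 2) F) :=
      Lib.DicksonId.card_lt_of_ne_top hH
    refine bound H ?_
    by_cases hpH : p ∣ Nat.card H
    · rcases Lib.DicksonFull.dvd_cases H hpH with ⟨c1, c2, -⟩ | ⟨q', k, hk, rfl, hk1, hk2, hc⟩
      · obtain ⟨P, hP⟩ := Lib.DicksonId.exists_normalizer H hpH c1 c2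
        exact le_trans (Nat.mul_le_mul_left _ (Nat.le_of_dvd Nat.card_pos (Subgroup.card_dvd_of_le hP)))
          (Lib.DicksonId.card_normalizer_sylow P).le
      rcases hc with ⟨hq2, C, hC, hi⟩ | ⟨hq3, hfm⟩ | ⟨hq3, hM60⟩
      · refine cyc H C hC hi.le fun hd' => hk2 ?_
        have hp2 : p = 2 := (Nat.prime_dvd_prime_iff_eq Fact.out Nat.prime_two).mp (hq2 ▸ dvd_pow_self p hk.ne')
        rw [← Subgroup.card_mul_index C, hi, pow_succ, hq2, mul_comm]
        exact Nat.mul_dvd_mul_right hd' 2
      · obtain ⟨r, rfl⟩ := (Lib.DicksonId.subfield_ident H hk hk1 hk2 hfm).1 f hq'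
        rcases Nat.lt_or_ge r 2 with hr | hr
        · exfalso
          obtain rfl : r = 1 := by
            have : r ≠ 0 := by rintro rfl; simp at hf
            omega
          rw [mul_one] at hq'
          rw [← hq'] at hfm hk1
          by_cases hp2 : p = 2
          · have heven : Even q := by
              rw [hq', hp2]; exact Nat.even_pow.mpr ⟨even_two, hk.ne'⟩
            have hGc := Lib.DicksonFull.card_psl_even (F := F) heven
            rw [← hqdef] at hGc
            rcases hfm with e | e
            · obtain ⟨m, hm⟩ := hk1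
              obtain ⟨j, hj⟩ := even_iff_two_dvd.mp heven
              have : 2 * m + 1 = q * q :=
                Nat.eq_of_mul_eq_mul_left (show 0 < q by omega)
                  (show q * (2 * m + 1) = q * (q * q) by rw [hm] at e; linarith [e])
              rw [hj, mul_assoc] at this
              omega
            · omega
          · have hGc := Lib.DicksonFull.card_psl_odd (F := F) (Nat.odd_iff.mpr (hodd hp2))
            rw [← hqdef] at hGc
            omega
        · have hqq' : p ^ k * p ^ k ≤ q := by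
            rw [hq', ← pow_add]
            exact Nat.pow_le_pow_right (Fact.out : p.Prime).pos (by nlinarith)
          have hM : Nat.card H ≤ (p ^ k) ^ 3 - p ^ k := by omega
          refine (Nat.mul_le_mul hd2 hM).trans ?_
          have e : (p ^ k) ^ 3 - p ^ k = p ^ k * (p ^ k * p ^ k - 1) := by
            rw [Nat.mul_sub, mul_one, ← mul_assoc, show (p ^ k) ^ 3 = p ^ k * p ^ k * p ^ k by ring]
          rw [e, ← mul_assoc]
          exact Nat.mul_le_mul ((Nat.mul_le_mul_right _ (by omega)).trans hqq') (by omega)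
      · have hp3 : p = 3 := (Nat.prime_dvd_prime_iff_eq Fact.out Nat.prime_three).mp (hq3 ▸ dvd_pow_self p hk.ne')
        have hq13 : 13 ≤ q := by
          have := hodd (by omega)
          omega
        rw [hM60]
        have := Nat.mul_le_mul hq13 (show 12 ≤ q - 1 by omega)
        omega
    · rcases Lib.DicksonFull.coprime_cases H hpH with ⟨C, hC, hi⟩ | h
      · exact cyc H C hC hi fun hd' => hpH (hd'.trans (Subgroup.card_subgroup_dvd_card C))
      · have hp2 : p ≠ 2 := by rintro rfl; omega
        have := hodd hp2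
        have := Nat.mul_le_mul (show 13 ≤ q by omega) (show 12 ≤ q - 1 by omega)
        have := Nat.mul_le_mul hd2 (show Nat.card H ≤ 60 by omega)
        omega
  · obtain ⟨P⟩ : Nonempty (Sylow p (Matrix.ProjectiveSpecialLinearGroup (Fin 2) F)) := inferInstance
    refine ⟨Subgroup.normalizer ((P : Subgroup (Matrix.ProjectiveSpecialLinearGroup (Fin 2) F)) : Set _), ?_⟩
    have h := Lib.DicksonId.card_normalizer_sylow P
    have hi := Subgroup.card_mul_index
      (Subgroup.normalizer ((P : Subgroup (Matrix.ProjectiveSpecialLinearGroup (Fin 2) F)) :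
        Set (Matrix.ProjectiveSpecialLinearGroup (Fin 2) F)))
    rw [← hi, ← mul_assoc, h] at hG
    exact Nat.eq_of_mul_eq_mul_left (Nat.mul_pos (by omega) (by omega)) hG

end Cfsg.Agent.S0806
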