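import Cfsg.Statements.S0808
import Cfsg.Agent.Lib.PSLFacts.FourGroups

set_option autoImplicit false
open Cfsg

namespace Cfsg.Agent.S0808

/-- Conjugacy classes of four-groups in PSL_2(q), q odd: if q ≡ 3 or 5 (mod 8) all Klein four-subgroups are conjugate; if q ≡ 1 or 7 (mod 8) there are two Klein four-subgroups which are not conjugate, and every Klein four-subgroup is conjugate to one of them. -/
theorem result {F : Type*} [Field F] [Fintype F] {q : ℕ} (hF : Fintype.card F = q) (hodd : Odd q) : ((q % 8 = 3 ∨ q % 8 = 5) → ∀ V W : Subgroup (Matrix.ProjectiveSpecialLinearGroup (Fin 2) F), IsKleinFour V → IsKleinFour W → ∃ g : Matrix.ProjectiveSpecialLinearGroup (Fin 2) F, W = V.map (MulAut.conj g).toMonoidHom) ∧ ((q % 8 = 1 ∨ q % 8 = 7) → ∃ V₁ V₂ : Subgroup (Matrix.ProjectiveSpecialLinearGroup (Fin 2) F), IsKleinFour V₁ ∧ IsKleinFour V₂ ∧ (¬ ∃ g : Matrix.ProjectiveSpecialLinearGroup (Fin 2) F, V₂ = V₁.map (MulAut.conj g).toMonoidHom) ∧ ∀ W : Subgroup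 (Matrix.ProjectiveSpecialLinearGroup (Fin 2) F), IsKleinFour W → (∃ g : Matrix.ProjectiveSpecialLinearGroup (Fin 2) F, W = V₁.map (MulAut.conj g).toMonoidHom) ∨ (∃ g : Matrix.ProjectiveSpecialLinearGroup (Fin 2) F, W = V₂.map (MulAut.conj g).toMonoidHom)) := by
  classical
  subst hF
  have h2 : (2 : F) ≠ 0 := Lib.PSLFacts.two_ne_zero_iff.mpr hodd
  have hsq := FiniteField.isSquare_two_iff (F := F)
  have hcount := Lib.PSLFacts.FourGroups.twelve_mul_card h2
  set K : Set (Subgroup (Matrix.ProjectiveSpecialLinearGroup (Fin 2) F)) := {V | IsKleinFour V} with hK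
  have hK' : Nat.card {V : Subgroup (Matrix.ProjectiveSpecialLinearGroup (Fin 2) F) // IsKleinFour V} =
      K.ncard := Nat.card_coe_set_eq K
  set O := fun V : Subgroup (Matrix.ProjectiveSpecialLinearGroup (Fin 2) F) =>
    Set.range fun g : Matrix.ProjectiveSpecialLinearGroup (Fin 2) F => V.map (MulAut.conj g).toMonoidHom with hO
  have hsub : ∀ V : Subgroup (Matrix.ProjectiveSpecialLinearGroup (Fin 2) F), IsKleinFour V → O V ⊆ K := fun V hV W ⟨g, hg⟩ => hg ▸ Lib.PSLFacts.FourCount.klein_map hV g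
  have horb : ∀ V : Subgroup (Matrix.ProjectiveSpecialLinearGroup (Fin 2) F), IsKleinFour V → ∀ n, Nat.card (Subgroup.normalizer (V : Set (Matrix.ProjectiveSpecialLinearGroup (Fin 2) F))) = n →
      (O V).ncard * n = 12 * K.ncard := fun V hV n hn => by
    have h := Lib.PSLFacts.FourCount.card_orbit V
    rw [Nat.card_coe_set_eq, hn] at h
    rw [← hK', hcount]
    exact h
  refine ⟨fun hq V W hV hW => ?_, fun hq => ?_⟩
  · have h := horb V hV 12 ((Lib.PSLFacts.FourGroups.card_normalizer h2 hV).2 fun h => by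
      have := hsq.mp h; omega)
    have heq : O V = K := Set.eq_of_subset_of_ncard_le (hsub V hV) (by omega) (Set.toFinite _)
    obtain ⟨g, hg⟩ := (heq.symm ▸ hW : W ∈ O V)
    exact ⟨g, hg.symm⟩
  · have h24 : ∀ V : Subgroup (Matrix.ProjectiveSpecialLinearGroup (Fin 2) F), IsKleinFour V → 2 * (O V).ncard = K.ncard := fun V hV => by
      have := horb V hV 24 ((Lib.PSLFacts.FourGroups.card_normalizer h2 hV).1 (hsq.mpr (by omega)))
      omega
    have hne : 0 < K.ncard := by
      have : 0 < Nat.card (Matrix.ProjectiveSpecialLinearGroup (Fin 2) F) := Nat.card_pos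
      omega
    obtain ⟨V₁, hV₁⟩ := Set.nonempty_of_ncard_ne_zero hne.ne'
    obtain ⟨V₂, hV₂, hout⟩ := Set.not_subset.mp (fun h : K ⊆ O V₁ => by
      have := Set.ncard_le_ncard h (Set.toFinite _)
      have := h24 V₁ hV₁
      omega)
    refine ⟨V₁, V₂, hV₁, hV₂, fun ⟨g, hg⟩ => hout ⟨g, hg.symm⟩, fun W hW => ?_⟩
    have hdisj : Disjoint (O V₁) (O V₂) := Set.disjoint_left.mpr fun X ⟨g, hg⟩ ⟨k, hk⟩ => hout ⟨k⁻¹ * g, by
      have e : V₂ = (V₁.map (MulAut.conj g).toMonoidHom).map (MulAut.conj k⁻¹).toMonoidHom := by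
        simp only at hg hk
        rw [hg, ← hk, Subgroup.map_map, show ((MulAut.conj k⁻¹).toMonoidHom.comp (MulAut.conj k).toMonoidHom) =
          MonoidHom.id _ from MonoidHom.ext fun x => by simp [mul_assoc], Subgroup.map_id]
      show V₁.map (MulAut.conj (k⁻¹ * g)).toMonoidHom = V₂
      rw [e, Subgroup.map_map]
      congr 1
      ext x
      simp [mul_assoc]⟩
    have heq : O V₁ ∪ O V₂ = K := Set.eq_of_subset_of_ncard_le
      (Set.union_subset (hsub V₁ hV₁) (hsub V₂ hV₂)) (by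
        rw [Set.ncard_union_eq hdisj (Set.toFinite _) (Set.toFinite _)]
        have := h24 V₁ hV₁
        have := h24 V₂ hV₂
        omega) (Set.toFinite _)
    rcases (heq.symm ▸ hW : W ∈ O V₁ ∪ O V₂) with ⟨g, hg⟩ | ⟨g, hg⟩
    · exact Or.inl ⟨g, hg.symm⟩
    · exact Or.inr ⟨g, hg.symm⟩

end Cfsg.Agent.S0808
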