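import Cfsg.Statements.S0809
import Cfsg.Agent.Lib.PSLFacts.Involutions

set_option autoImplicit false
open Cfsg

namespace Cfsg.Agent.S0809

/-- In SL_2(q), q odd: any two subgroups of order 4 are conjugate, and the normaliser of a subgroup of order 4 has order 2(q − 1) if q ≡ 1 (mod 4) and 2(q + 1) if q ≡ 3 (mod 4); consequently all involutions of PSL_2(q) are conjugate. -/
theorem result {F : Type*} [Field F] [Fintype F] {q : ℕ} (hF : Fintype.card F = q) (hodd : Odd q) (A : Subgroup (Matrix.SpecialLinearGroup (Fin 2) F)) (hA : Nat.card A = 4) : (∀ B : Subgroup (Matrix.SpecialLinearGroup (Fin 2) F), Nat.card B = 4 → ∃ g : Matrix.SpecialLinearGroup (Fin 2) F, B = A.map (MulAut.conj g).toMonoidHom) ∧ (q % 4 = 1 → Nat.card ↥(Subgroup.normalizer (A : Set (Matrix.SpecialLinearGroup (Fin 2) F))) = 2 * (q - 1)) ∧ (q % 4 = 3 → Nat.card ↥(Subgroup.normalizer (A : Set (Matrix.SpecialLinearGroup (Fin 2) F))) = 2 * (q + 1)) ∧ (∀ x y : Matrix.ProjectiveSpecialLinearGroup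 (Fin 2) F, orderOf x = 2 → orderOf y = 2 → IsConj x y) := by
  classical
  subst hF
  have h2 : (2 : F) ≠ 0 := Lib.PSLFacts.two_ne_zero_iff.mpr hodd
  have hF2 : Fintype.card F % 2 = 1 := Nat.odd_iff.mp hodd
  have gen : ∀ B : Subgroup (Matrix.SpecialLinearGroup (Fin 2) F), Nat.card B = 4 →
      ∃ a, Lib.PSLTwo.Sylow.slTr a = 0 ∧ B = Subgroup.zpowers a := by
    intro B hB
    obtain ⟨a, haB, ha⟩ : ∃ a ∈ B, orderOf a = 4 := by
      by_contra hc
      push Not at hc
      have hall : ∀ x ∈ B, x = 1 ∨ x = Lib.PSLTwo.Sylow.negOne := fun x hx => by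
        have h4 : orderOf x ∣ 4 := hB ▸ Subgroup.orderOf_dvd_natCard B hx
        have hle := Nat.le_of_dvd (by norm_num) h4
        have hne := hc x hx
        refine Lib.PSLTwo.Sylow.sq_eq_one h2 ?_
        rw [← pow_two]
        refine orderOf_dvd_iff_pow_eq_one.mp ?_
        interval_cases h : orderOf x <;> revert h4 hne <;> decide
      have hsub : (B : Set (Matrix.SpecialLinearGroup (Fin 2) F)) ⊆ {1, Lib.PSLTwo.Sylow.negOne} :=
        fun x hx => by simpa using hall x hx
      have h5 := Set.ncard_le_ncard hsub (Set.toFinite _)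
      rw [← Nat.card_coe_set_eq] at h5
      have h6 := h5.trans (Set.ncard_insert_le _ _)
      rw [Set.ncard_singleton, SetLike.coe_sort_coe, hB] at h6
      omega
    refine ⟨a, Lib.PSLFacts.Invol.trace_zero_of_orderOf_four h2 ha,
      (Subgroup.eq_of_le_of_card_ge (Subgroup.zpowers_le.mpr haB) ?_).symm⟩
    rw [Nat.card_zpowers, ha, hB]
  have conjmap : ∀ g a : Matrix.SpecialLinearGroup (Fin 2) F,
      (Subgroup.zpowers a).map (MulAut.conj g).toMonoidHom = Subgroup.zpowers (g * a * g⁻¹) :=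
    fun g a => MonoidHom.map_zpowers _ a
  obtain ⟨a, ha, rfl⟩ := gen A hA
  have hord := Lib.PSLFacts.Invol.orderOf_of_trace_zero h2 ha
  have hpre : Subgroup.normalizer
      ((Subgroup.zpowers a : Subgroup (Matrix.SpecialLinearGroup (Fin 2) F)) : Set _) =
      Lib.PSLTwo.ClassSize.pre a := by
    ext h
    rw [Lib.PSLTwo.ClassSize.mem_pre]
    constructor
    · intro hh
      have hmem := (Subgroup.mem_normalizer_iff.mp hh a).mp (Subgroup.mem_zpowers a)
      obtain ⟨j, hj⟩ := mem_powers_iff_mem_zpowers.mpr hmem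
      have hj' : a ^ (j % 4) = h * a * h⁻¹ := by rw [← hord, pow_mod_orderOf]; exact hj
      have hsq := Lib.PSLFacts.Invol.mul_self_of_trace_zero ha
      have hord' : orderOf (h * a * h⁻¹) = 4 :=
        Lib.PSLFacts.Invol.orderOf_of_trace_zero h2 (by rw [Lib.PSLTwo.Sylow.slTr_conj, ha])
      rw [← hj'] at hord'
      rcases (show j % 4 = 0 ∨ j % 4 = 1 ∨ j % 4 = 2 ∨ j % 4 = 3 by omega) with e | e | e | e <;>
        rw [e] at hj' hord'
      · rw [pow_zero, orderOf_one] at hord'; omega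
      · rw [pow_one] at hj'
        exact Or.inl (mul_inv_eq_iff_eq_mul.mp hj'.symm)
      · have := Nat.le_of_dvd two_pos (orderOf_dvd_of_pow_eq_one
          (x := a ^ 2) (n := 2) (by rw [← pow_mul, show 2 * 2 = 4 from rfl, ← hord, pow_orderOf_eq_one]))
        omega
      · refine Or.inr ?_
        rw [pow_succ, pow_two, hsq] at hj'
        rw [mul_inv_eq_iff_eq_mul.mp hj'.symm, Lib.PSLTwo.Sylow.negOne_central, mul_assoc, mul_assoc,
          Lib.PSLTwo.Sylow.negOne_central]
    · intro hh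
      refine Subgroup.mem_normalizer_fintype fun z hz => ?_
      obtain ⟨j, rfl⟩ := hz
      change h * a ^ j * h⁻¹ ∈ Subgroup.zpowers a
      rw [← conj_zpow]
      refine zpow_mem ?_ j
      rcases hh with hh | hh
      · rw [hh, mul_inv_cancel_right]; exact Subgroup.mem_zpowers a
      · rw [hh, mul_assoc a h, ← Lib.PSLTwo.Sylow.negOne_central, ← mul_assoc, mul_inv_cancel_right,
          ← Lib.PSLFacts.Invol.mul_self_of_trace_zero ha]
        exact mul_mem (Subgroup.mem_zpowers a)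
          (mul_mem (Subgroup.mem_zpowers a) (Subgroup.mem_zpowers a))
  refine ⟨fun B hB => ?_, fun h => ?_, fun h => ?_, fun x y hx hy => ?_⟩
  · obtain ⟨b, hb, rfl⟩ := gen B hB
    obtain ⟨g, hg⟩ := Lib.PSLTwo.Sylow.exists_conj hF2 h2 (Lib.PSLFacts.Invol.sq_ne_four h2 ha)
      (hb.trans ha.symm)
    exact ⟨g, by rw [conjmap, hg]⟩
  · rw [hpre]; exact (Lib.PSLFacts.Invol.card_pre h2 ha).1 h
  · rw [hpre]; exact (Lib.PSLFacts.Invol.card_pre h2 ha).2 h
  · obtain ⟨u, rfl, hu⟩ := Lib.PSLFacts.Invol.trace_zero_of_involution hx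
    obtain ⟨v, rfl, hv⟩ := Lib.PSLFacts.Invol.trace_zero_of_involution hy
    obtain ⟨g, hg⟩ := Lib.PSLTwo.Sylow.exists_conj hF2 h2 (Lib.PSLFacts.Invol.sq_ne_four h2 hu)
      (hv.trans hu.symm)
    exact isConj_iff.mpr ⟨Lib.SL2Tori.Products.proj g, by rw [← hg, map_mul, map_mul, map_inv]⟩

end Cfsg.Agent.S0809
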