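import Cfsg.Statements.S0810
import Cfsg.Agent.S0804
import Cfsg.Agent.Lib.DicksonId.Consequences
import Cfsg.Agent.Lib.DicksonId.MaxCommon
import Cfsg.Agent.Lib.DicksonFull.Maximal
import Cfsg.Agent.Lib.DicksonFull.Subfield
import Cfsg.Agent.Lib.Spectrum.SL25Recognition

set_option autoImplicit false
open Cfsg

namespace Cfsg.Agent.S0810

/-- A group with an abelian subgroup containing all commutators is solvable. -/
theorem solvable_of_commutators {H : Type*} [Group H] (A : Subgroup H)
    (hA : ∀ a b : A, a * b = b * a) (h : ∀ a b : H, a * b * a⁻¹ * b⁻¹ ∈ A) : Group.IsSolvable H := by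
  haveI : A.Normal := ⟨fun a ha g => by
    rw [show g * a * g⁻¹ = (g * a * g⁻¹ * a⁻¹) * a by group]
    exact mul_mem (h g a) ha⟩
  haveI : Group.IsSolvable A := Group.isSolvable_of_comm hA
  haveI : Group.IsSolvable (H ⧸ A) := Group.isSolvable_of_comm fun a b => by
    induction a using QuotientGroup.induction_on with | _ a => ?_
    induction b using QuotientGroup.induction_on with | _ b => ?_
    rw [← QuotientGroup.mk_mul, ← QuotientGroup.mk_mul, QuotientGroup.eq]
    rw [show (a * b)⁻¹ * (b * a) = b⁻¹ * a⁻¹ * b⁻¹⁻¹ * a⁻¹⁻¹ by group]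
    exact h _ _
  exact Lib.Spectrum.isSolvable_iff_of_normal A

/-- A group with a cyclic subgroup of index at most two is solvable. -/
theorem solvable_of_index_le_two {H : Type*} [Group H] [Finite H] (C : Subgroup H) (hC : IsCyclic C)
    (hi : C.index ≤ 2) : Group.IsSolvable H := by
  haveI := hC
  haveI : C.Normal := by
    rcases (show C.index = 1 ∨ C.index = 2 by have := C.index_ne_zero_of_finite; omega) with e | e
    · rw [Subgroup.index_eq_one.mp e]; infer_instance
    · exact Subgroup.normal_of_index_eq_two e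
  haveI : Group.IsSolvable C := Group.isSolvable_of_comm fun a b => (IsMulCommutative.is_comm).comm a b
  haveI : Group.IsSolvable (H ⧸ C) :=
    Lib.Spectrum.isSolvable_of_card_lt_sixty _ (Subgroup.index_eq_card C).symm (by omega)
  exact Lib.Spectrum.isSolvable_iff_of_normal C

theorem not_solvable_psl {K : Type*} [Field K] [Fintype K] (h : 4 ≤ Fintype.card K) :
    ¬ Group.IsSolvable (Matrix.ProjectiveSpecialLinearGroup (Fin 2) K) := by
  haveI := Lib.DicksonId.isSimple (F := K) h
  intro hs
  obtain ⟨a, b, hab⟩ := Lib.Linear.exists_not_commute_PSL (F := K) (ι := Fin 2)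
    (Lib.Linear.commutator_SL_eq_top le_rfl fun _ => by rwa [Nat.card_eq_fintype_card])
  exact hab (IsSimpleGroup.comm_iff_isSolvable.mpr hs a b)


/-- PSL_2(q) is minimal simple iff q is 2^r (r prime), 3^r (r an odd prime), a prime greater than 5 congruent to 2 or 3 mod 5, or 5. -/
theorem result {F : Type*} [Field F] [Fintype F] {q : ℕ} (hF : Fintype.card F = q) : Cfsg.IsMinimalSimple (Matrix.ProjectiveSpecialLinearGroup (Fin 2) F) ↔ ((∃ r : ℕ, r.Prime ∧ q = 2 ^ r) ∨ (∃ r : ℕ, r.Prime ∧ r ≠ 2 ∧ q = 3 ^ r) ∨ (q.Prime ∧ 5 < q ∧ (q % 5 = 2 ∨ q % 5 = 3)) ∨ q = 5) := by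
  classical
  subst hF
  obtain ⟨p, hCF⟩ : ∃ p, CharP F p := ⟨_, ringChar.charP F⟩
  haveI := hCF
  haveI hp : Fact p.Prime := ⟨CharP.char_is_prime F p⟩
  obtain ⟨f, hf, hq⟩ := Lib.Linear.exists_card_eq_pow (F := F) p
  have hG := Lib.Linear.gcd_mul_card_PSL_two (F := F)
  rw [Lib.DicksonId.gcd_two_eq (p := p)] at hG
  constructor
  · rintro ⟨hsimp, hnc, hall⟩
    haveI := hsimp
    have h4 : 4 ≤ Fintype.card F := by
      by_contra h
      refine hnc ⟨⟨fun a b => IsSimpleGroup.comm_iff_isSolvable.mpr ?_ a b⟩⟩
      refine Lib.Spectrum.isSolvable_of_card_lt_sixty _ rfl ?_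
      have := Fintype.one_lt_card (α := F)
      interval_cases hc : Fintype.card F <;> split_ifs at hG <;> omega
    have sub : ∀ e r : ℕ, f = e * r → 2 ≤ r → 4 ≤ p ^ e → False := by
      intro e r hfer hr he
      have he0 : e ≠ 0 := by rintro rfl; simp at he
      letI : Fintype (GaloisField p e) := Fintype.ofFinite _
      have hK : Fintype.card (GaloisField p e) = p ^ e := by
        rw [← Nat.card_eq_fintype_card, GaloisField.card p e he0]
      obtain ⟨φ⟩ := Lib.DicksonFull.exists_ringHom (K := GaloisField p e) (F := F) (p := p) (e := e) (r := r)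
        hK (hfer ▸ hq)
      refine not_solvable_psl (K := GaloisField p e) (by omega) ?_
      haveI := hall (Lib.DicksonFull.pslExt φ).range fun htop => by
        have h1 := Lib.DicksonId.card_pslExt_range (Nat.pos_of_ne_zero he0) φ
        rw [htop, Subgroup.card_top, Lib.DicksonId.gcd_two_eq (p := p), hG, mul_assoc] at h1
        refine (Lib.DicksonId.form_strictMono (by omega) ?_).ne h1.symm
        rw [hq, hfer]
        exact Nat.pow_lt_pow_right hp.out.one_lt (lt_mul_of_one_lt_right (Nat.pos_of_ne_zero he0) hr)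
      exact Group.isSolvable_of_isSolvable_injective (f := (Lib.DicksonFull.pslExt φ).rangeRestrict)
        fun a b hab => Lib.DicksonFull.pslExt_injective φ (congrArg Subtype.val hab)
    have no5 : 5 ∣ Fintype.card F * (Fintype.card F ^ 2 - 1) → 60 < Nat.card (Matrix.ProjectiveSpecialLinearGroup (Fin 2) F) → False := by
      intro h h60
      obtain ⟨H, ⟨e⟩⟩ := (Cfsg.Agent.S0804.result rfl).mpr h
      haveI := hall H fun htop => by
        have := Nat.card_congr e.toEquiv
        rw [htop, Subgroup.card_top, nat_card_alternatingGroup, Nat.card_fin] at this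
        norm_num [Nat.factorial, -Nat.card_eq_fintype_card] at this
        omega
      haveI := alternatingGroup.isSimpleGroup_five
      have := IsSimpleGroup.comm_iff_isSolvable.mpr
        (Group.isSolvable_of_surjective (f := e.toMonoidHom) e.surjective)
      obtain ⟨a, b, hab⟩ : ∃ a b : alternatingGroup (Fin 5), a * b ≠ b * a := by decide +kernel
      exact hab (this a b)
    by_cases hf1 : f = 1
    · subst hf1
      rw [pow_one] at hq
      rw [hq] at hG h4 no5 ⊢
      by_cases h5 : p = 5
      · exact Or.inr (Or.inr (Or.inr h5))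
      · refine Or.inr (Or.inr (Or.inl ⟨hp.out, ?_, ?_⟩))
        · have h4p : p ≠ 4 := fun e => absurd (e ▸ hp.out : Nat.Prime 4) (by norm_num)
          omega
        · by_contra hmod
          have h7 : 7 ≤ p := by
            have h4p : p ≠ 4 := fun e => absurd (e ▸ hp.out : Nat.Prime 4) (by norm_num)
            have h6p : p ≠ 6 := fun e => absurd (e ▸ hp.out : Nat.Prime 6) (by norm_num)
            omega
          have h0 : p % 5 ≠ 0 := fun h0 => h5 ((Nat.prime_dvd_prime_iff_eq Nat.prime_five hp.out).mp
            (Nat.dvd_of_mod_eq_zero h0)).symm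
          refine no5 (dvd_mul_of_dvd_right ?_ _) ?_
          · rw [show p ^ 2 - 1 = (p + 1) * (p - 1) from (Nat.sq_sub_sq p 1).trans rfl]
            rcases (show p % 5 = 1 ∨ p % 5 = 4 by omega) with e | e
            · exact dvd_mul_of_dvd_right (by omega) _
            · exact dvd_mul_of_dvd_left (by omega) _
          · rw [if_neg (by omega)] at hG
            have := Nat.mul_le_mul (Nat.mul_le_mul h7 (show 6 ≤ p - 1 by omega)) (show 8 ≤ p + 1 by omega)
            omega
    · have hrp : ∀ r, r.Prime → r ∣ f → f = r ∧ p ≤ 3 := by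
        intro r hr hd
        obtain ⟨e, rfl⟩ := hd
        have hlt : ¬ 4 ≤ p ^ e := fun h => sub e r (mul_comm r e) hr.two_le h
        have he0 : 0 < e := Nat.pos_of_ne_zero fun h => by simp [h] at hf
        have hp2 := hp.out.two_le
        rcases Nat.lt_or_ge e 2 with h | h
        · obtain rfl : e = 1 := by omega
          rw [pow_one] at hlt
          exact ⟨mul_one r, by omega⟩
        · exfalso
          exact hlt (le_trans (Nat.mul_le_mul hp2 hp2) (by
            rw [← pow_two]; exact Nat.pow_le_pow_right hp.out.pos h))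
      obtain ⟨r, hr, hrf⟩ := Nat.exists_prime_and_dvd hf1
      obtain ⟨rfl, hp3⟩ := hrp r hr hrf
      have hp2 := hp.out.two_le
      obtain rfl | rfl : p = 2 ∨ p = 3 := by omega
      · exact Or.inl ⟨f, hr, hq⟩
      · refine Or.inr (Or.inl ⟨f, hr, ?_, hq⟩)
        rintro rfl
        rw [hq, if_neg (by norm_num)] at hG
        refine no5 (by rw [hq]; decide) ?_
        norm_num [-Nat.card_eq_fintype_card] at hG
        omega
  · intro hlist
    have h4 : 4 ≤ Fintype.card F := by
      rcases hlist with ⟨r, hr, e⟩ | ⟨r, hr, -, e⟩ | ⟨-, e, -⟩ | e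
      · rw [e]; exact (Nat.pow_le_pow_right (by norm_num) hr.two_le).trans' (by norm_num)
      · rw [e]; exact (Nat.pow_le_pow_right (by norm_num) hr.two_le).trans' (by norm_num)
      · omega
      · omega
    have hkey : ∀ b r : ℕ, b.Prime → Fintype.card F = b ^ r → p = b ∧ f = r := by
      intro b r hb e
      have hr0 : r ≠ 0 := by rintro rfl; simp at e; omega
      have hpb : p = b := (Nat.prime_dvd_prime_iff_eq hp.out hb).mp
        (hp.out.dvd_of_dvd_pow (e ▸ hq ▸ dvd_pow_self p hf.ne'))
      exact ⟨hpb, Nat.pow_right_injective hp.out.two_le (by show p ^ f = p ^ r; rw [← hq, e, hpb])⟩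
    -- five divides the order only for `q = 4, 5` and in characteristic two
    have hlist' : ((p = 2 ∨ p = 3) ∧ f.Prime ∨ f = 1) ∧
        (p = 2 ∨ p = 5 ∨ ¬ 5 ∣ Nat.card (Matrix.ProjectiveSpecialLinearGroup (Fin 2) F)) := by
      have no : Fintype.card F % 5 = 2 ∨ Fintype.card F % 5 = 3 →
          ¬ 5 ∣ Nat.card (Matrix.ProjectiveSpecialLinearGroup (Fin 2) F) := by
        intro hm hd
        have h5 : 5 ∣ Fintype.card F * (Fintype.card F - 1) * (Fintype.card F + 1) := hG ▸ hd.mul_left _
        rcases (Nat.Prime.dvd_mul Nat.prime_five).mp h5 with h | h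
        · rcases (Nat.Prime.dvd_mul Nat.prime_five).mp h with h | h <;> omega
        · omega
      rcases hlist with ⟨r, hr, e⟩ | ⟨r, hr, hr2, e⟩ | ⟨hpr, -, hm⟩ | e
      · obtain ⟨rfl, rfl⟩ := hkey 2 r Nat.prime_two e
        exact ⟨Or.inl ⟨Or.inl rfl, hr⟩, Or.inl rfl⟩
      · obtain ⟨rfl, rfl⟩ := hkey 3 r Nat.prime_three e
        refine ⟨Or.inl ⟨Or.inr rfl, hr⟩, Or.inr (Or.inr (no ?_))⟩
        obtain ⟨j, hj⟩ := hr.odd_of_ne_two hr2
        have h3 : ∀ i, 3 ^ (2 * i + 1) % 5 = 2 ∨ 3 ^ (2 * i + 1) % 5 = 3 := by
          intro i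
          induction i with
          | zero => simp
          | succ i ih =>
            rw [show 2 * (i + 1) + 1 = 2 * i + 1 + 2 by ring, pow_add]
            omega
        rw [e, hj]
        exact h3 j
      · obtain ⟨rfl, rfl⟩ := hkey _ 1 hpr (pow_one _).symm
        exact ⟨Or.inr rfl, Or.inr (Or.inr (no hm))⟩
      · obtain ⟨rfl, rfl⟩ := hkey 5 1 Nat.prime_five (e.trans (pow_one 5).symm)
        exact ⟨Or.inr rfl, Or.inr (Or.inl rfl)⟩
    obtain ⟨hshape, h5⟩ := hlist'
    refine ⟨Lib.DicksonId.isSimple h4, fun hc => not_solvable_psl h4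
      (Group.isSolvable_of_comm fun a b => hc.is_comm.comm a b), fun H hH => ?_⟩
    have hlt : Nat.card H < Nat.card (Matrix.ProjectiveSpecialLinearGroup (Fin 2) F) :=
      Lib.DicksonId.card_lt_of_ne_top hH
    have sixty : Nat.card H = 60 → p = 3 ∨ ¬ p ∣ 60 → False := fun h hp' => by
      have hd : 5 ∣ Nat.card (Matrix.ProjectiveSpecialLinearGroup (Fin 2) F) :=
        (h ▸ (by norm_num : 5 ∣ 60) : 5 ∣ Nat.card H).trans H.card_subgroup_dvd_card
      rcases h5 with rfl | rfl | h5
      · exact hp'.elim (by norm_num) (fun h => h (by norm_num))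
      · exact hp'.elim (by norm_num) (fun h => h (by norm_num))
      · exact h5 hd
    by_cases hpH : p ∣ Nat.card H
    · rcases Lib.DicksonFull.dvd_cases H hpH with ⟨c1, c2, -⟩ | ⟨q', k, hk, rfl, hk1, hk2, hc⟩
      · exact solvable_of_commutators
          { carrier := {a : H | a ^ p = 1}
            one_mem' := one_pow _
            mul_mem' := fun {a b} ha hb => by
              show (a * b) ^ p = 1
              rw [(c2 a b ha hb).mul_pow, ha, hb, one_mul]
            inv_mem' := fun {a} ha => by
              show a⁻¹ ^ p = 1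
              rw [inv_pow, ha, inv_one] }
          (fun a b => Subtype.ext (c2 a b a.2 b.2).eq) c1
      rcases hc with ⟨-, C, hC, hi⟩ | ⟨hq3, hfm⟩ | ⟨hq3, hM60⟩
      · exact solvable_of_index_le_two C hC hi.le
      · obtain ⟨m, rfl⟩ := (Lib.DicksonId.subfield_ident H hk hk1 hk2 hfm).1 f hq
        rcases Nat.lt_or_ge m 2 with hm | hm
        · exfalso
          obtain rfl : m = 1 := by
            have : m ≠ 0 := by rintro rfl; simp at hf
            omega
          rw [mul_one] at hq
          rw [← hq] at hfm hk1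
          rcases Nat.even_or_odd (Fintype.card F) with hev | hod
          · have hGc := Lib.DicksonFull.card_psl_even (F := F) hev
            rcases hfm with e | e
            · obtain ⟨u, hu⟩ := hk1
              obtain ⟨j, hj⟩ := even_iff_two_dvd.mp hev
              have : 2 * u + 1 = Fintype.card F * Fintype.card F :=
                Nat.eq_of_mul_eq_mul_left Fintype.card_pos
                  (show Fintype.card F * (2 * u + 1) = Fintype.card F * (Fintype.card F * Fintype.card F) by
                    rw [hu] at e; linarith [e])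
              rw [hj, mul_assoc] at this
              omega
            · omega
          · have hGc := Lib.DicksonFull.card_psl_odd (F := F) hod
            omega
        · rcases hshape with ⟨hp23, hpr⟩ | h1
          · obtain rfl : k = 1 := by
              rcases (Nat.dvd_prime hpr).mp (dvd_mul_right k m) with e | e
              · exact e
              · have : k * 1 < k * m := Nat.mul_lt_mul_of_pos_left hm hk
                omega
            rw [pow_one] at hq3 hfm
            obtain rfl : p = 3 := by omega
            exact Lib.Spectrum.isSolvable_of_card_lt_sixty _ rfl (by norm_num [-Nat.card_eq_fintype_card] at hfm; omega)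
          · have : 1 * 2 ≤ k * m := Nat.mul_le_mul hk hm
            omega
      · refine (sixty hM60 (Or.inl ?_)).elim
        exact (Nat.prime_dvd_prime_iff_eq hp.out Nat.prime_three).mp (hq3 ▸ dvd_pow_self p hk.ne')
    · rcases Lib.DicksonFull.coprime_cases H hpH with ⟨C, hC, hi⟩ | h
      · exact solvable_of_index_le_two C hC hi
      · rcases h with h | h | h
        · exact Lib.Spectrum.isSolvable_of_card_lt_sixty _ h (by norm_num)
        · exact Lib.Spectrum.isSolvable_of_card_lt_sixty _ h (by norm_num)
        · exact (sixty h (Or.inr (h ▸ hpH))).elim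

end Cfsg.Agent.S0810
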