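import Cfsg.Statements.S0811
import Cfsg.Agent.Lib.PSLFacts.DihedralMax

set_option autoImplicit false
open Cfsg

namespace Cfsg.Agent.S0811

/-- For q ∉ {2, 7, 9}, PSL_2(q) has a maximal subgroup isomorphic to the dihedral group of order 2(q + 1)/d, d = gcd(2, q − 1). -/
theorem result {F : Type*} [Field F] [Fintype F] {q : ℕ} (hF : Fintype.card F = q) (hq : q ∉ ({2, 7, 9} : Finset ℕ)) : ∃ H : Subgroup (Matrix.ProjectiveSpecialLinearGroup (Fin 2) F), IsCoatom H ∧ Nonempty (H ≃* DihedralGroup ((q + 1) / Nat.gcd 2 (q - 1))) := by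
  classical
  subst hF
  obtain ⟨f, hp', hf⟩ := FiniteField.card F (ringChar F)
  haveI : Fact (ringChar F).Prime := ⟨hp'⟩
  haveI := ringChar.charP F
  set p := ringChar F
  rw [← Lib.DicksonId.dd_eq_gcd (p := p)]
  simp only [Finset.mem_insert, Finset.mem_singleton, not_or] at hq
  have h1 := Fintype.one_lt_card (α := F)
  have hcardG : Nat.card (Matrix.ProjectiveSpecialLinearGroup (Fin 2) F) *
      Lib.RecogThree.PSL2Orders.dd (Fintype.card F) + Fintype.card F = Fintype.card F ^ 3 := by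
    unfold Lib.RecogThree.PSL2Orders.dd
    split_ifs with h
    · rw [mul_one]; exact Lib.DicksonFull.card_psl_even (even_iff_two_dvd.mpr h)
    · rw [mul_comm]; exact Lib.DicksonFull.card_psl_odd (Nat.odd_iff.mpr (by omega))
  by_cases h3 : Fintype.card F = 3
  · rw [h3] at hcardG ⊢
    rw [show Lib.RecogThree.PSL2Orders.dd 3 = 2 from rfl] at hcardG ⊢
    haveI : Fact (Nat.Prime 2) := ⟨Nat.prime_two⟩
    have hG : Nat.card (Matrix.ProjectiveSpecialLinearGroup (Fin 2) F) = 12 := by omega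
    obtain ⟨H, hH⟩ := Sylow.exists_subgroup_card_pow_prime 2 (n := 2)
      (G := Matrix.ProjectiveSpecialLinearGroup (Fin 2) F) (by rw [hG]; norm_num)
    rw [show 2 ^ 2 = 4 from rfl] at hH
    have hp3 : p = 3 := ((Nat.prime_dvd_prime_iff_eq Nat.prime_three hp').mp
      (Nat.prime_three.dvd_of_dvd_pow (by rw [← hf, h3]))).symm
    have hexp : ∀ x : H, x * x = 1 := fun x => by
      have h4 : orderOf x ∣ 4 := hH ▸ orderOf_dvd_natCard x
      rw [← pow_two]
      refine orderOf_dvd_iff_pow_eq_one.mp ?_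
      have hc := Lib.RecogThree.PSL2Orders.orderOf_cases p (x : Matrix.ProjectiveSpecialLinearGroup (Fin 2) F)
      rw [Subgroup.orderOf_coe, h3, hp3, show Lib.RecogThree.PSL2Orders.dd 3 = 2 from rfl] at hc
      have hle := Nat.le_of_dvd (by norm_num) h4
      have := orderOf_pos x
      interval_cases orderOf x <;> revert h4 hc <;> decide
    haveI : IsKleinFour H :=
      { card_four := hH
        exponent_two := Nat.prime_two.eq_one_or_self_of_dvd _
          (Monoid.exponent_dvd_of_forall_pow_eq_one fun x => by rw [pow_two, hexp]) |>.resolve_left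
          fun h => by
            haveI := Monoid.exp_eq_one_iff.mp h
            rw [Nat.card_of_subsingleton (1 : H)] at hH
            omega }
    refine ⟨H, Lib.DicksonFull.isCoatom_of_card _ (by omega) fun M hM => ?_,
      (IsKleinFour.nonempty_mulEquiv : Nonempty (H ≃* DihedralGroup 2))⟩
    have hd := hH ▸ Subgroup.card_dvd_of_le hM
    have hd' := hG ▸ Subgroup.card_subgroup_dvd_card M
    rw [hH, hG]
    have := Nat.le_of_dvd (by norm_num) hd'
    interval_cases Nat.card M <;> omega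
  obtain ⟨-, hy, -⟩ := Lib.RecogThree.PSL2Orders.exists_orders (F := F) p
  set q := Fintype.card F with hq'
  have hd : Lib.RecogThree.PSL2Orders.dd q = 1 ∧ q % 2 = 0 ∨
      Lib.RecogThree.PSL2Orders.dd q = 2 ∧ q % 2 = 1 := by
    unfold Lib.RecogThree.PSL2Orders.dd
    split_ifs <;> omega
  have hn : (q + 1) / Lib.RecogThree.PSL2Orders.dd q * Lib.RecogThree.PSL2Orders.dd q = q + 1 := by
    rcases hd with ⟨e, h⟩ | ⟨e, h⟩ <;> rw [e] <;> omega
  refine Lib.PSLFacts.DihedralMax.exists_maximal p hy (Or.inl hn) hq.2.2 ?_ ?_ ?_ ?_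
  · rcases hd with ⟨e, h⟩ | ⟨e, h⟩ <;> rw [e] <;> omega
  · by_cases h5 : q = 5
    · rw [h5, show Lib.RecogThree.PSL2Orders.dd 5 = 2 from rfl] at hcardG
      exact Or.inr (by omega)
    · exact Or.inl (by rcases hd with ⟨e, h⟩ | ⟨e, h⟩ <;> rw [e] <;> omega)
  · by_cases h5 : q = 4 ∨ q = 5
    · right
      rcases h5 with h5 | h5 <;> rw [h5] at hcardG <;>
        [rw [show Lib.RecogThree.PSL2Orders.dd 4 = 1 from rfl] at hcardG;
         rw [show Lib.RecogThree.PSL2Orders.dd 5 = 2 from rfl] at hcardG] <;> omega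
    · exact Or.inl (by rcases hd with ⟨e, h⟩ | ⟨e, h⟩ <;> rw [e] <;> omega)
  · have hcube : 16 * q ≤ q ^ 3 := by
      rw [show q ^ 3 = q * q * q by ring]
      exact Nat.mul_le_mul_right q (Nat.mul_le_mul (show 4 ≤ q by omega) (show 4 ≤ q by omega))
    rcases hd with ⟨e, h⟩ | ⟨e, h⟩ <;> rw [e] at hcardG ⊢ <;> omega

end Cfsg.Agent.S0811
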