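import Cfsg.Statements.S0812
import Cfsg.Agent.Lib.PSLFacts.DihedralMax

set_option autoImplicit false
open Cfsg

namespace Cfsg.Agent.S0812

/-- For q ∉ {2, 3, 5, 7, 9, 11}, PSL_2(q) has a maximal subgroup isomorphic to the dihedral group of order 2(q − 1)/d, d = gcd(2, q − 1). -/
theorem result {F : Type*} [Field F] [Fintype F] {q : ℕ} (hF : Fintype.card F = q) (hq : q ∉ ({2, 3, 5, 7, 9, 11} : Finset ℕ)) : ∃ H : Subgroup (Matrix.ProjectiveSpecialLinearGroup (Fin 2) F), IsCoatom H ∧ Nonempty (H ≃* DihedralGroup ((q - 1) / Nat.gcd 2 (q - 1))) := by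
  classical
  subst hF
  obtain ⟨f, hp', hf⟩ := FiniteField.card F (ringChar F)
  haveI : Fact (ringChar F).Prime := ⟨hp'⟩
  haveI := ringChar.charP F
  set p := ringChar F
  rw [← Lib.DicksonId.dd_eq_gcd (p := p)]
  simp only [Finset.mem_insert, Finset.mem_singleton, not_or] at hq
  have h1 := Fintype.one_lt_card (α := F)
  have hcardG : Nat.card (Matrix.ProjectiveSpecialLinearGroup (Fin 2) F) *
      Lib.RecogThree.PSL2Orders.dd (Fintype.card F) + Fintype.card F = Fintype.card F ^ 3 := by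
    unfold Lib.RecogThree.PSL2Orders.dd
    split_ifs with h
    · rw [mul_one]; exact Lib.DicksonFull.card_psl_even (even_iff_two_dvd.mpr h)
    · rw [mul_comm]; exact Lib.DicksonFull.card_psl_odd (Nat.odd_iff.mpr (by omega))
  obtain ⟨hy, -, -⟩ := Lib.RecogThree.PSL2Orders.exists_orders (F := F) p
  set q := Fintype.card F with hq'
  have hd : Lib.RecogThree.PSL2Orders.dd q = 1 ∧ q % 2 = 0 ∨
      Lib.RecogThree.PSL2Orders.dd q = 2 ∧ q % 2 = 1 := by
    unfold Lib.RecogThree.PSL2Orders.dd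
    split_ifs <;> omega
  have hn : (q - 1) / Lib.RecogThree.PSL2Orders.dd q * Lib.RecogThree.PSL2Orders.dd q = q - 1 := by
    rcases hd with ⟨e, h⟩ | ⟨e, h⟩ <;> rw [e] <;> omega
  have h6 : q ≠ 6 := fun e => by
    rw [e] at hf
    have e2 := (Nat.prime_dvd_prime_iff_eq Nat.prime_two hp').mp
      (Nat.prime_two.dvd_of_dvd_pow (hf ▸ (by norm_num : 2 ∣ 6)))
    have e3 := (Nat.prime_dvd_prime_iff_eq Nat.prime_three hp').mp
      (Nat.prime_three.dvd_of_dvd_pow (hf ▸ (by norm_num : 3 ∣ 6)))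
    omega
  refine Lib.PSLFacts.DihedralMax.exists_maximal p hy (Or.inr hn) hq.2.2.2.2.1 ?_ ?_ ?_ ?_
  · rcases hd with ⟨e, h⟩ | ⟨e, h⟩ <;> rw [e] <;> omega
  · by_cases h4 : q = 4
    · rw [h4, show Lib.RecogThree.PSL2Orders.dd 4 = 1 from rfl] at hcardG
      exact Or.inr (by omega)
    · exact Or.inl (by rcases hd with ⟨e, h⟩ | ⟨e, h⟩ <;> rw [e] <;> omega)
  · by_cases h4 : q = 4
    · rw [h4, show Lib.RecogThree.PSL2Orders.dd 4 = 1 from rfl] at hcardG
      exact Or.inr (by omega)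
    · exact Or.inl (by rcases hd with ⟨e, h⟩ | ⟨e, h⟩ <;> rw [e] <;> omega)
  · have hcube : 16 * q ≤ q ^ 3 := by
      rw [show q ^ 3 = q * q * q by ring]
      exact Nat.mul_le_mul_right q (Nat.mul_le_mul (show 4 ≤ q by omega) (show 4 ≤ q by omega))
    rcases hd with ⟨e, h⟩ | ⟨e, h⟩ <;> rw [e] at hcardG ⊢ <;> omega

end Cfsg.Agent.S0812
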