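import Cfsg.Statements.S0816
import Cfsg.Agent.Lib.AutPOmega.Models
-- import your own Cfsg.Agent.* helpers here

set_option autoImplicit false
open Cfsg

namespace Cfsg.Agent.S0816

open Cfsg.Agent.Lib



/-- |Aut(PΩ_(2m+1)(q))| = 2 f · |PΩ_(2m+1)(q)| for q = p^f odd and m ≥ 3 (for the form quadFormOdd). -/
theorem result {F : Type*} [Field F] [Fintype F] (p f : ℕ) [Fact p.Prime] (hf : 1 ≤ f) (hF : Fintype.card F = p ^ f) (hodd : Odd p) (m : ℕ) (hm : 3 ≤ m) : Nat.card (MulAut (Cfsg.POmega F (Cfsg.quadFormOdd m F))) = 2 * f * Nat.card (Cfsg.POmega F (Cfsg.quadFormOdd m F)) := by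
  haveI : CharP F p := charP_of_card_eq_prime_pow hF
  have hq : Odd (Fintype.card F) := by rw [hF]; exact hodd.pow
  have h2 := OrthOmega.two_ne_zero_of_odd hq
  have h7 : 7 ≤ Module.finrank F (Unit ⊕ (Fin m ⊕ Fin m) → F) := by
    rw [OrthOmega.finrank_fun]; simp; omega
  have h := AutPOmega.card_mulAut_pOmega (Q := OrthStd.qOddC m F) p
    (OrthOmega.qOddC_nondeg m h2) h7 (AutPOmega.noTriality_odd m) (OrthStd.quadFormOdd_eq m)
    (fun σ => ⟨AutPOmega.Semisim.ofField _ σ (AutPOmega.odd_field m σ), rfl⟩)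
  rw [AutPOmega.mult_range_odd m h2, AutPSL.card_fieldAuts hF,
    AutPOmega.card_isometry_odd hF (by rw [← hF]; exact hq) m (by omega)] at h
  have hu := AutPOmega.two_mul_card_sq (F := F) h2
  refine Nat.eq_of_mul_eq_mul_right (Nat.card_pos (α := Fˣ)) (h.trans ?_)
  rw [← hu]
  ring

end Cfsg.Agent.S0816
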