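import Cfsg.Statements.S0817
import Cfsg.Agent.Lib.AutPOmega.OutPlus
import Cfsg.Agent.Lib.OrthBalance.Center
import Cfsg.Agent.Lib.OrthField.MinusSetup
import Cfsg.Agent.Lib.ChevClassical.D4
import Cfsg.Agent.Lib.ChevAut.Instances
import Cfsg.Agent.Lib.ChevStructure.CommAll

set_option autoImplicit false
open Cfsg

namespace Cfsg.Agent.S0817

open Cfsg.Agent.Lib

section D4

open Cfsg.Lie Cfsg.Agent.Lib.ChevStructure Cfsg.Agent.Lib.ChevAut

theorem ker_relations {G : Type*} [CommGroup G] {x y z w : G} (h0 : w = x ^ 2) (h2 : w = y ^ 2)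
    (h3 : w = z ^ 2) (h1 : w ^ 2 = x * y * z) :
    w = 1 ∧ y / x * (z / x) = x ∧ z / x = y ∧ y / x = z := by
  have hyz : y * z = x ^ 3 := by
    have h : x * (y * z) = x * x ^ 3 := by rw [← mul_assoc, ← h1, h0, ← pow_mul, ← pow_succ']
    exact mul_left_cancel h
  have hw : w = 1 := by
    have h : (y * z) ^ 2 = w ^ 2 := by rw [mul_pow, ← h2, ← h3, ← sq]
    rw [hyz, ← pow_mul, h0, ← pow_mul] at h
    have h' : x ^ 4 * x ^ 2 = x ^ 4 := by rw [← pow_add]; exact h
    rw [h0]
    exact mul_eq_left.1 h'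
  have hx : x * x = 1 := by rw [← sq, ← h0, hw]
  have hy : y * y = 1 := by rw [← sq, ← h2, hw]
  have hz : z * z = 1 := by rw [← sq, ← h3, hw]
  have ix : x⁻¹ = x := inv_eq_of_mul_eq_one_right hx
  have hyz' : y * z = x := by rw [hyz, pow_succ, sq, hx, one_mul]
  refine ⟨hw, ?_, ?_, ?_⟩
  · rw [div_eq_mul_inv, div_eq_mul_inv, ix, mul_mul_mul_comm, hyz', hx, mul_one]
  · rw [div_eq_mul_inv, ix, ← hyz', mul_comm y z, ← mul_assoc, hz, one_mul]
  · rw [div_eq_mul_inv, ix, ← hyz', ← mul_assoc, hy, one_mul]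

/-- The Cartan matrix of type D₄. -/
def cartanD : Fin chevD4.rank → Fin chevD4.rank → ℤ :=
  ![![2, -1, 0, 0], ![-1, 2, -1, -1], ![0, -1, 2, 0], ![0, -1, 0, 2]]

theorem cart_vals : ∀ i j : Fin chevD4.rank, cart chevD4 i j = cartanD i j := by
  decide +kernel

/-- The cokernel of the Cartan matrix of type D₄ on tuples of units. -/
theorem cartMap_index_D4 (C : Core chevD4) {F : Type*} [Field F] [Fintype F] :
    (cartMap C (F := F)).range.index = Nat.card {u : Fˣ // u ^ 2 = 1} ^ 2 := by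
  classical
  have h : (cartMap C (F := F)).range.index = Nat.card (cartMap C (F := F)).ker := by
    have h1 := Subgroup.card_eq_card_quotient_mul_card_subgroup (cartMap C (F := F)).ker
    rw [← Subgroup.index_eq_card, Subgroup.index_ker] at h1
    have h2 := Subgroup.index_mul_card (cartMap C (F := F)).range
    rw [h1, mul_comm _ (Nat.card (cartMap C (F := F)).ker)] at h2
    exact Nat.eq_of_mul_eq_mul_right Nat.card_pos h2
  have key : ∀ c : Fin chevD4.rank → Fˣ, cartMap C c = 1 ↔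
      c (1 : Fin 4) = c (0 : Fin 4) ^ 2 ∧ c (1 : Fin 4) = c (2 : Fin 4) ^ 2 ∧
        c (1 : Fin 4) = c (3 : Fin 4) ^ 2 ∧
        c (1 : Fin 4) ^ 2 = c (0 : Fin 4) * c (2 : Fin 4) * c (3 : Fin 4) := by
    intro c
    simp only [funext_iff, cartMap_apply C, Pi.one_apply, cart_vals]
    refine (Fin.forall_fin_succ (n := 3)).trans ?_
    simp only [Fin.forall_fin_succ, Fin.forall_fin_zero, and_true]
    show (∏ j : Fin 4, _) = _ ∧ (∏ j : Fin 4, _) = _ ∧ (∏ j : Fin 4, _) = _ ∧ (∏ j : Fin 4, _) = _ ↔ _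
    simp only [Fin.prod_univ_four]
    simp [cartanD, zpow_ofNat, mul_inv_eq_one, inv_mul_eq_one]
    constructor
    · rintro ⟨h0, h1, h2, h3⟩
      exact ⟨h0.symm, h2, h3, by rw [← h1]; simp [mul_comm, mul_left_comm, mul_assoc]⟩
    · rintro ⟨h0, h2, h3, h1⟩
      exact ⟨h0.symm, by rw [h1]; simp [mul_comm, mul_left_comm, mul_assoc], h2, h3⟩
  rw [h, sq, ← Nat.card_prod]
  refine Nat.card_congr ?_
  exact
    { toFun := fun c => (⟨c.1 (2 : Fin 4) / c.1 (0 : Fin 4), by
          obtain ⟨h0, h2, -, -⟩ := (key c.1).1 c.2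
          rw [div_pow, ← h0, ← h2, div_self']⟩,
        ⟨c.1 (3 : Fin 4) / c.1 (0 : Fin 4), by
          obtain ⟨h0, -, h3, -⟩ := (key c.1).1 c.2
          rw [div_pow, ← h0, ← h3, div_self']⟩)
      invFun := fun e => ⟨(![e.1.1 * e.2.1, 1, e.2.1, e.1.1] : Fin 4 → Fˣ), (key _).2 (by
        obtain ⟨⟨a, ha⟩, ⟨b, hb⟩⟩ := e
        refine ⟨?_, ?_, ?_, ?_⟩
        · show 1 = (a * b) ^ 2
          rw [mul_pow, ha, hb, one_mul]
        · exact hb.symm
        · exact ha.symm
        · show 1 ^ 2 = a * b * b * a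
          rw [mul_assoc a b b, ← sq b, hb, mul_one, ← sq, ha, one_pow])⟩
      left_inv := fun c => by
        obtain ⟨h0, h2, h3, h1⟩ := (key c.1).1 c.2
        obtain ⟨hw, e0, e2, e3⟩ := ker_relations h0 h2 h3 h1
        refine Subtype.ext (funext fun i => ?_)
        fin_cases i
        · exact e0
        · exact hw.symm
        · exact e2
        · exact e3
      right_inv := fun e => by
        obtain ⟨⟨a, ha⟩, ⟨b, hb⟩⟩ := e
        refine Prod.ext (Subtype.ext ?_) (Subtype.ext ?_)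
        · show b / (a * b) = a
          rw [div_mul_cancel_right, inv_eq_iff_mul_eq_one, ← sq, ha]
        · show a / (a * b) = b
          rw [div_mul_cancel_left, inv_eq_iff_mul_eq_one, ← sq, hb] }

end D4

theorem two_mul_gcd_sub {m : ℕ} (p : ℕ) {f : ℕ} (hf : 1 ≤ f) (hp : p.Prime) (hm : 1 ≤ m) :
    2 * Nat.gcd 4 ((p ^ f) ^ m - 1) =
      if p = 2 then 2 else (if Even (m * (p ^ f - 1) / 2) then 8 else 4) := by
  rcases hp.eq_two_or_odd' with rfl | ho
  · rw [if_pos rfl]
    have h2 : 2 ∣ (2 ^ f) ^ m := dvd_pow (dvd_pow_self 2 (by omega)) (by omega)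
    have h1 : 1 ≤ (2 ^ f) ^ m := Nat.one_le_pow _ _ (Nat.two_pow_pos f)
    have : Nat.Coprime 4 ((2 ^ f) ^ m - 1) :=
      Nat.Coprime.pow_left 2 ((Nat.Prime.coprime_iff_not_dvd Nat.prime_two).2 fun hd => by omega)
    rw [this.gcd_eq_one]
  · have hp2 : p ≠ 2 := fun h => by rw [h] at ho; exact absurd ho (by decide)
    rw [if_neg hp2]
    obtain ⟨j, hj⟩ : Odd (p ^ f) := ho.pow
    have hhalf : m * (p ^ f - 1) / 2 = m * j := by
      rw [hj, show 2 * j + 1 - 1 = j * 2 by omega, ← mul_assoc, Nat.mul_div_cancel _ two_pos]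
    rw [hhalf, hj]
    have hmod : (2 * j + 1) ^ m % 4 = if Even (m * j) then 1 else 3 := by
      rw [Nat.pow_mod]
      rcases Nat.even_or_odd j with ⟨i, rfl⟩ | ⟨i, rfl⟩
      · rw [show (2 * (i + i) + 1) % 4 = 1 by omega, one_pow, if_pos (by simp)]
        norm_num
      · rw [show (2 * (2 * i + 1) + 1) % 4 = 3 by omega]
        rcases Nat.even_or_odd m with ⟨l, rfl⟩ | ⟨l, rfl⟩
        · rw [if_pos (by simp [Nat.even_mul]), ← two_mul, pow_mul, Nat.pow_mod]
          simp
        · rw [if_neg (by simp [Nat.even_mul, parity_simps]), pow_succ, pow_mul, Nat.mul_mod,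
            Nat.pow_mod]
          simp
    set N := (2 * j + 1) ^ m
    have hN : 1 ≤ N := Nat.one_le_pow _ _ (by omega)
    split_ifs at hmod ⊢ with he
    · rw [Nat.gcd_eq_left (show 4 ∣ N - 1 by omega)]
    · have h2 : (N - 1) % 4 = 2 := by omega
      rw [Nat.gcd_rec, h2]; rfl

/-- |Aut(PΩ⁺_2m(q))| for q = p^f, m ≥ 4: |PΩ⁺_2m(q)| times f, times 3 when m = 4, times 2 if p = 2, and times 8 or 4 if p is odd according as m(q−1)/2 is even or odd. -/
theorem result {F : Type*} [Field F] [Fintype F] (p f : ℕ) [Fact p.Prime] (hf : 1 ≤ f) (hF : Fintype.card F = p ^ f) (m : ℕ) (hm : 4 ≤ m) : Nat.card (MulAut (Cfsg.POmega F (Cfsg.quadFormPlus m F))) = (if m = 4 then 3 else 1) * (if p = 2 then 2 else (if Even (m * (p ^ f - 1) / 2) then 8 else 4)) * f * Nat.card (Cfsg.POmega F (Cfsg.quadFormPlus m F)) := by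
  classical
  have hp : p.Prime := Fact.out
  haveI : CharP F p := charP_of_card_eq_prime_pow hF
  have hsurj : ∀ σ : F ≃+* F, ∃ S : AutPOmega.Semisim (Forms.qPlus (F := F) m), S.τ = σ :=
    fun σ => ⟨(OrthField.DPlus (F := F) hm).fieldS σ (OrthField.fixes_plus m σ), rfl⟩
  have hgal := Cfsg.Agent.Lib.AutPSL.card_fieldAuts hF
  by_cases h4 : m = 4
  · subst h4
    obtain ⟨e⟩ := ChevClassical.D4.main (F := F)
    set C := ChevStructure.Cert.D4.core
    obtain ⟨S⟩ := ChevStructure.nonempty_sys Cfsg.Lie.chevD4 (by simp)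
    have hD : Cfsg.Lie.chevD4 ∈ [Cfsg.Lie.chevG2, Cfsg.Lie.chevB2, Cfsg.Lie.chevD4, Cfsg.Lie.chevF4,
        Cfsg.Lie.chevE6, Cfsg.Lie.chevE7, Cfsg.Lie.chevE8] := by simp
    have hout := ChevAut.card_out S.toCore S.commOK (ChevAut.table_all _ hD) (ChevAut.headsOK_all _ hD)
      hD (ChevAut.famD4 (F := F) S.toCore S.commOK)
    rw [cartMap_index_D4, hgal, Nat.card_fin] at hout
    have hcen := OrthBalance.center_pOmega_eq_bot (OrthField.DPlus (F := F) hm)
    have hinn : Nat.card (Cfsg.Inn (Cfsg.POmega F (Cfsg.quadFormPlus 4 F))) =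
        Nat.card (Cfsg.POmega F (Cfsg.quadFormPlus 4 F)) := by
      have hinj : Function.Injective
          (MulAut.conj : Cfsg.POmega F (Cfsg.quadFormPlus 4 F) →* _) := by
        refine (injective_iff_map_eq_one _).2 fun k hk => ?_
        rw [← Subgroup.mem_bot, ← hcen, Subgroup.mem_center_iff]
        intro g
        have := MulEquiv.congr_fun hk g
        rw [MulAut.conj_apply, MulAut.one_apply, mul_inv_eq_iff_eq_mul] at this
        exact this.symm
      exact (Nat.card_congr (MonoidHom.ofInjective hinj).toEquiv).symm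
    have hcongr : Nat.card (Cfsg.Out (Cfsg.POmega F (Cfsg.quadFormPlus 4 F))) =
        Nat.card (Cfsg.Out ↥(Cfsg.Lie.chevD4.group F)) :=
      (Nat.card_congr (QuotientGroup.congr _ _ (MulAut.congr e) (OrthField.map_inn e)).toEquiv).symm
    rw [← Subgroup.index_mul_card (Cfsg.Inn (Cfsg.POmega F (Cfsg.quadFormPlus 4 F))),
      Subgroup.index_eq_card, hinn, hcongr, hout, if_pos rfl]
    congr 1
    have hmu : Nat.card {u : Fˣ // u ^ 2 = 1} = if p = 2 then 1 else 2 := by
      have h1 : Nat.card {u : Fˣ // u ^ 2 = 1} = Nat.gcd (Nat.card Fˣ) 2 := by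
        rw [← IsCyclic.card_powMonoidHom_ker (G := Fˣ) 2]
        rfl
      rw [h1, Nat.card_units, Nat.card_eq_fintype_card, hF]
      split_ifs with h2
      · subst h2
        have : 2 ∣ 2 ^ f := dvd_pow_self 2 (by omega)
        have : 1 < 2 ^ f := Nat.one_lt_two_pow (by omega)
        have hodd : Nat.Coprime (2 ^ f - 1) 2 := Nat.coprime_two_right.2 (Nat.odd_iff.2 (by omega))
        exact hodd
      · have hodd : Odd (p ^ f) := (hp.eq_two_or_odd'.resolve_left h2).pow
        obtain ⟨j, hj⟩ := hodd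
        rw [hj, Nat.gcd_comm]
        exact Nat.gcd_eq_left ⟨j, by omega⟩
    rw [hmu]
    split_ifs with h2 h3
    · ring
    · ring
    · exact absurd (by rw [show 4 * (p ^ f - 1) / 2 = 2 * (p ^ f - 1) by omega]; exact even_two_mul _) h3
  · have h := AutPOmega.card_mulAut_pOmega (Q := Forms.qPlus (F := F) m) p (Forms.qPlus_nondeg m)
      (AutPOmega.seven_le_plus F hm) (AutPOmega.noTriality_plus (by omega))
      (OrthStd.quadFormPlus_eq m) hsurj
    rw [AutPOmega.mult_range_plus m, Subgroup.card_top, hgal,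
      AutPOmega.card_isometry_plus hF m (by omega)] at h
    refine Nat.eq_of_mul_eq_mul_right (Nat.card_pos (α := Fˣ)) (h.trans ?_)
    rw [if_neg h4, one_mul, two_mul_gcd_sub p hf hp (by omega : 1 ≤ m)]
    ring

end Cfsg.Agent.S0817
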