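import Cfsg.Statements.S0818
import Cfsg.Agent.Lib.AutPOmega.Models
-- import your own Cfsg.Agent.* helpers here

set_option autoImplicit false
open Cfsg

namespace Cfsg.Agent.S0818

open Cfsg.Agent.Lib

theorem two_mul_gcd {m : ℕ} (p : ℕ) {f : ℕ} (hf : 1 ≤ f) (hp : p.Prime) :
    2 * Nat.gcd 4 ((p ^ f) ^ m + 1) =
      if m = 0 then 4 else if p = 2 then 2 else (if Even (m * (p ^ f - 1) / 2) then 4 else 8) := by
  rcases hp.eq_two_or_odd' with rfl | ho
  · by_cases hm : m = 0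
    · simp [hm]
    · rw [if_neg hm, if_pos rfl]
      have : Nat.Coprime 4 ((2 ^ f) ^ m + 1) := by
        refine Nat.Coprime.pow_left 2 ((Nat.Prime.coprime_iff_not_dvd Nat.prime_two).2 ?_)
        intro hd
        have h2 : 2 ∣ (2 ^ f) ^ m := dvd_pow (dvd_pow_self 2 (by omega)) hm
        omega
      rw [this.gcd_eq_one]
  · have hp2 : p ≠ 2 := fun h => by rw [h] at ho; exact absurd ho (by decide)
    by_cases hm : m = 0
    · subst hm; simp
    rw [if_neg hm, if_neg hp2]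
    obtain ⟨j, hj⟩ : Odd (p ^ f) := ho.pow
    have hhalf : m * (p ^ f - 1) / 2 = m * j := by
      rw [hj, show 2 * j + 1 - 1 = j * 2 by omega, ← mul_assoc, Nat.mul_div_cancel _ two_pos]
    rw [hhalf, hj]
    have hmod : ((2 * j + 1) ^ m + 1) % 4 = if Even (m * j) then 2 else 0 := by
      rw [Nat.add_mod, Nat.pow_mod]
      rcases Nat.even_or_odd j with ⟨i, rfl⟩ | ⟨i, rfl⟩
      · rw [show (2 * (i + i) + 1) % 4 = 1 by omega, one_pow, if_pos (by simp)]; norm_num
      · rw [show (2 * (2 * i + 1) + 1) % 4 = 3 by omega]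
        rcases Nat.even_or_odd m with ⟨l, rfl⟩ | ⟨l, rfl⟩
        · rw [if_pos (by simp [Nat.even_mul]), ← two_mul, pow_mul, Nat.pow_mod]
          simp
        · rw [if_neg (by simp [Nat.even_mul, parity_simps]), pow_succ, pow_mul, Nat.mul_mod,
            Nat.pow_mod]
          simp
    rw [Nat.gcd_rec, hmod]
    split_ifs <;> simp

/-- |Aut(PΩ⁻_2m(q))| for q = p^f, m ≥ 4 (form quadFormMinus (m−1) with anisotropic binary part): |PΩ⁻_2m(q)| times f, times 2 if p = 2, and times 4 or 8 if p is odd according as m(q−1)/2 is even or odd. -/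
theorem result {F : Type*} [Field F] [Fintype F] (p f : ℕ) [Fact p.Prime] (hf : 1 ≤ f) (hF : Fintype.card F = p ^ f) (m : ℕ) (hm : 4 ≤ m) (a b : F) (hab : ∀ z₁ z₂ : F, z₁ ^ 2 + a * z₁ * z₂ + b * z₂ ^ 2 = 0 → z₁ = 0 ∧ z₂ = 0) : Nat.card (MulAut (Cfsg.POmega F (Cfsg.quadFormMinus (m - 1) F a b))) = (if p = 2 then 2 else (if Even (m * (p ^ f - 1) / 2) then 4 else 8)) * f * Nat.card (Cfsg.POmega F (Cfsg.quadFormMinus (m - 1) F a b)) := by
  haveI : CharP F p := charP_of_card_eq_prime_pow hF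
  have h7 : 7 ≤ Module.finrank F ((Fin (m - 1) ⊕ Fin (m - 1)) ⊕ Fin 2 → F) := by
    rw [OrthOmega.finrank_fun]; simp; omega
  have h := AutPOmega.card_mulAut_pOmega (Q := OrthStd.qMinusC (m - 1) a b) p
    (AutPOmega.qMinusC_nondeg _ hab) h7 (AutPOmega.noTriality_minus hab)
    (OrthStd.quadFormMinus_eq _ a b) (AutPOmega.minus_tau_surjective _ hab)
  rw [AutPOmega.mult_range_minus _ hab, Subgroup.card_top, AutPSL.card_fieldAuts hF,
    AutPOmega.card_isometry_minus hF m (by omega) hab] at h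
  refine Nat.eq_of_mul_eq_mul_right (Nat.card_pos (α := Fˣ)) (h.trans ?_)
  rw [two_mul_gcd p hf (Fact.out : p.Prime), if_neg (by omega : m ≠ 0)]
  ring

end Cfsg.Agent.S0818
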