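import Cfsg.Statements.S0821
import Cfsg.Agent.Lib.ClassicalIso.SympInvolutions
import Cfsg.Agent.Lib.ClassicalIso.OddOrthInvolutions

set_option autoImplicit false
open Cfsg

namespace Cfsg.Agent.S0821

/-- PSp_2m(q) ≇ PΩ_(2m+1)(q) for q odd and m ≥ 3 (they have the same order). -/
theorem result {F : Type*} [Field F] [Fintype F] (hodd : Odd (Fintype.card F)) (m : ℕ) (hm : 3 ≤ m) : IsEmpty (Cfsg.PSp m F ≃* Cfsg.POmega F (Cfsg.quadFormOdd m F)) := by
  refine ⟨fun e => ?_⟩
  have h2 : (2 : F) ≠ 0 := fun h => by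
    have h' := FiniteField.even_card_of_char_two (F := F) (CharP.ringChar_of_prime_eq_zero Nat.prime_two (by exact_mod_cast h))
    rw [Nat.odd_iff] at hodd
    omega
  obtain ⟨t, ht⟩ := Cfsg.Agent.Lib.ClassicalIso.exists_class_invariant h2 m
  obtain ⟨X, hX, hXc⟩ := Cfsg.Agent.Lib.ClassicalIso.exists_involutions (m := m) h2 hm
  have hinj : Function.Injective fun k => t (e.symm (X k)) := by
    intro i j hij
    refine hXc i j ?_
    have h := ht _ _ (by rw [MulEquiv.orderOf_eq, hX]) (by rw [MulEquiv.orderOf_eq, hX]) hij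
    rw [← e.apply_symm_apply (X i), ← e.apply_symm_apply (X j)]
    exact MonoidHom.map_isConj e.toMonoidHom h
  have := Fintype.card_le_of_injective _ hinj
  simp only [Fintype.card_fin] at this
  omega

end Cfsg.Agent.S0821
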