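import Cfsg.Statements.S0824
import Cfsg.Agent.Lib.Forms.PermModule
import Cfsg.Agent.Lib.Forms.Bridge
import Cfsg.Agent.Lib.OrthStd.Models

set_option autoImplicit false
open Cfsg

namespace Cfsg.Agent.S0824

/-- O⁻_4(2) ≅ S_5: the isometry group of the form x y + z_1² + z_1 z_2 + z_2² over the field with 2 elements is isomorphic to the symmetric group on 5 letters. -/
theorem result {F : Type*} [Field F] [Fintype F] (hF : Fintype.card F = 2) : Nonempty (↥(Cfsg.isometryGroup F (Cfsg.quadFormMinus 1 F 1 1)) ≃* Equiv.Perm (Fin 5)) := by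
  classical
  have h2 : (2 : F) = 0 := by
    have := FiniteField.cast_card_eq_zero F
    rwa [hF] at this
  have hg : Lib.Forms.PermModule.Good F 5 (0 : F) := by
    refine ⟨h2, le_rfl, Or.inl ⟨rfl, ?_⟩⟩
    push_cast; linear_combination (2 : F) * h2
  have h01 : ∀ z : F, z = 0 ∨ z = 1 := by
    intro z
    by_contra hc
    push Not at hc
    have := Finset.card_le_univ ({0, 1, z} : Finset F)
    rw [hF, Finset.card_eq_three.2 ⟨0, 1, z, zero_ne_one, Ne.symm hc.1, Ne.symm hc.2, rfl⟩] at this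
    omega
  have hanis : ∀ z₁ z₂ : F, z₁ ^ 2 + 1 * z₁ * z₂ + 1 * z₂ ^ 2 = 0 → z₁ = 0 ∧ z₂ = 0 := by
    intro x y h
    rcases h01 x with rfl | rfl <;> rcases h01 y with rfl | rfl <;> simp at h ⊢
    exact one_ne_zero (by linear_combination h - h2 : (1 : F) = 0)
  obtain ⟨f, hf⟩ := Lib.Forms.PermModule.exists_hom hg
  have hfr := Lib.Forms.PermModule.finrank_heart hg
  rw [if_pos rfl] at hfr
  have hQ := Lib.Forms.PermModule.heart_nondeg hg
  have hcard : Nat.card (Equiv.Perm (Fin 5)) = 120 := by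
    rw [Nat.card_perm, Nat.card_eq_fintype_card, Fintype.card_fin]; rfl
  have hdvd := Subgroup.card_dvd_of_injective f hf
  rw [hcard] at hdvd
  rcases Lib.Forms.classify _ hQ with ⟨k, hk, he⟩ | ⟨k, a, _, hne, _, _⟩ | ⟨k, a, b, hab, hk, he⟩
  · exfalso
    obtain rfl : k = 2 := by omega
    obtain ⟨e⟩ := he
    have hc := Lib.OrthStd.card_orth_plus (F := F) (q := 2) hF 2 (by norm_num)
    rw [Nat.card_congr ((Lib.Forms.isoOrth (Lib.Forms.qPlus (F := F) 2) (Lib.Forms.qPlus_eq 2)).trans
      (Lib.Forms.orthCongr e).symm).toEquiv] at hc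
    rw [hc] at hdvd
    simp [Finset.prod_range_succ] at hdvd
  · exact absurd h2 hne
  · obtain rfl : k = 1 := by omega
    obtain ⟨ha, hb⟩ : a = 1 ∧ b = 1 := by
      have h10 := fun h => one_ne_zero (hab 1 0 h).1
      have h01' := fun h => one_ne_zero (hab 0 1 h).2
      have h11 := fun h => one_ne_zero (hab 1 1 h).1
      rcases h01 a with rfl | rfl <;> rcases h01 b with rfl | rfl
      · exact absurd (by ring) h01'
      · exact absurd (by linear_combination h2) h11
      · exact absurd (by ring) h01'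
      · exact ⟨rfl, rfl⟩
    subst ha hb
    obtain ⟨e⟩ := he
    obtain ⟨e'⟩ := Lib.Forms.qMinus_equiv (F := F) 1 1 1
    let Ψ := ((Lib.Forms.isoOrth (Lib.Forms.qMinus 1 (1 : F) 1) (fun v => (Lib.Forms.qMinus_apply 1 1 1 v).symm)).trans
      (Lib.Forms.orthCongr e')).trans (Lib.Forms.orthCongr e).symm
    have hc := Lib.OrthStd.card_orth_minus (F := F) (q := 2) hF 2 (by norm_num) hab
    rw [Nat.card_congr Ψ.toEquiv] at hc
    have hbij : Function.Bijective f := (Nat.bijective_iff_injective_and_card f).2 ⟨hf, by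
      rw [hcard, hc]; simp [Finset.prod_range_succ]⟩
    exact ⟨Ψ.trans (MulEquiv.ofBijective f hbij).symm⟩

end Cfsg.Agent.S0824
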