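import Cfsg.Statements.S0825
import Cfsg.Agent.Lib.Forms.PermModule
import Cfsg.Agent.Lib.Forms.Bridge
import Cfsg.Agent.Lib.OrthStd.Models

set_option autoImplicit false
open Cfsg

namespace Cfsg.Agent.S0825

/-- O⁺_6(2) ≅ S_8: the isometry group of the hyperbolic form x_1y_1 + x_2y_2 + x_3y_3 over the field with 2 elements is isomorphic to the symmetric group on 8 letters. -/
theorem result {F : Type*} [Field F] [Fintype F] (hF : Fintype.card F = 2) : Nonempty (↥(Cfsg.isometryGroup F (Cfsg.quadFormPlus 3 F)) ≃* Equiv.Perm (Fin 8)) := by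
  classical
  have h2 : (2 : F) = 0 := by
    have := FiniteField.cast_card_eq_zero F
    rwa [hF] at this
  have hg : Lib.Forms.PermModule.Good F 8 (1 : F) := by
    refine ⟨h2, by norm_num, Or.inr ⟨rfl, ?_, ?_⟩⟩
    · push_cast; linear_combination (4 : F) * h2
    · rw [Lib.Forms.PermModule.pairForm_apply]
      simp only [Pi.one_apply, mul_one, Fin.sum_univ_succ, Fin.sum_univ_zero]
      norm_num [Fin.lt_def]
      linear_combination (14 : F) * h2
  obtain ⟨f, hf⟩ := Lib.Forms.PermModule.exists_hom hg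
  have hfr := Lib.Forms.PermModule.finrank_heart hg
  rw [if_neg one_ne_zero] at hfr
  have hQ := Lib.Forms.PermModule.heart_nondeg hg
  have hcard : Nat.card (Equiv.Perm (Fin 8)) = 40320 := by
    rw [Nat.card_perm, Nat.card_eq_fintype_card, Fintype.card_fin]; rfl
  have hdvd := Subgroup.card_dvd_of_injective f hf
  rw [hcard] at hdvd
  rcases Lib.Forms.classify _ hQ with ⟨k, hk, he⟩ | ⟨k, a, _, hne, _, _⟩ | ⟨k, a, b, hab, hk, he⟩
  · obtain rfl : k = 3 := by omega
    obtain ⟨e⟩ := he
    let Ψ := (Lib.Forms.isoOrth (Lib.Forms.qPlus (F := F) 3) (Lib.Forms.qPlus_eq 3)).trans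
      (Lib.Forms.orthCongr e).symm
    have hc := Lib.OrthStd.card_orth_plus (F := F) (q := 2) hF 3 (by norm_num)
    rw [Nat.card_congr Ψ.toEquiv] at hc
    have hbij : Function.Bijective f := (Nat.bijective_iff_injective_and_card f).2 ⟨hf, by
      rw [hcard, hc]; simp [Finset.prod_range_succ]⟩
    exact ⟨Ψ.trans (MulEquiv.ofBijective f hbij).symm⟩
  · exact absurd h2 hne
  · exfalso
    obtain rfl : k = 2 := by omega
    obtain ⟨e⟩ := he
    have hc := Lib.OrthStd.card_orth_minus (F := F) (q := 2) hF 3 (by norm_num) hab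
    rw [Nat.card_congr ((Lib.Forms.isoOrth (Lib.Forms.qMinus 2 a b) (fun v => (Lib.Forms.qMinus_apply 2 a b v).symm)).toEquiv),
      Lib.Forms.card_orth_congr (Lib.Forms.qMinus_equiv 2 a b), ← Nat.card_congr (Lib.Forms.orthCongr e).toEquiv] at hc
    rw [hc] at hdvd
    simp [Finset.prod_range_succ] at hdvd

end Cfsg.Agent.S0825
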