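import Cfsg.Statements.S0826
import Cfsg.Agent.Lib.Symplectic.Std

set_option autoImplicit false
open Cfsg

namespace Cfsg.Agent.S0826

/-- S_2n ≤ Sp_(2n−2)(2) for n ≥ 3: there is an injective homomorphism from the symmetric group on 2n letters into the symplectic group of degree 2n − 2 over the field with two elements. -/
theorem result (n : ℕ) (hn : 3 ≤ n) : ∃ f : Equiv.Perm (Fin (2 * n)) →* Matrix.symplecticGroup (Fin (n - 1)) (ZMod 2), Function.Injective f := by
  classical
  let S : (Fin (2 * n) → ZMod 2) →ₗ[ZMod 2] ZMod 2 := ∑ i, LinearMap.proj i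
  have hS : ∀ x, S x = ∑ i, x i := fun x => by simp [S]
  let E := LinearMap.ker S
  have hE : ∀ {x}, x ∈ E ↔ ∑ i, x i = 0 := fun {x} => by rw [LinearMap.mem_ker, hS]
  have h2n : ((2 * n : ℕ) : ZMod 2) = 0 := ZMod.natCast_eq_zero_iff_even.2 ⟨n, by ring⟩
  have hone : (1 : Fin (2 * n) → ZMod 2) ∈ E := hE.2 (by simpa [Finset.card_univ] using h2n)
  let one : E := ⟨1, hone⟩
  let R : Submodule (ZMod 2) E := Submodule.span (ZMod 2) {one}
  let D : E →ₗ[ZMod 2] E →ₗ[ZMod 2] ZMod 2 :=
    LinearMap.mk₂ (ZMod 2) (fun x y => ∑ i, (x : Fin (2 * n) → ZMod 2) i * (y : Fin (2 * n) → ZMod 2) i)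
      (fun a b y => by simp [add_mul, Finset.sum_add_distrib])
      (fun c a y => by simp [Finset.mul_sum, mul_assoc])
      (fun a b b' => by simp [mul_add, Finset.sum_add_distrib])
      (fun c a b => by simp [Finset.mul_sum, mul_left_comm])
  have hD : ∀ x y : E, D x y = ∑ i, (x : Fin (2 * n) → ZMod 2) i * (y : Fin (2 * n) → ZMod 2) i := fun x y => rfl
  have hD1 : ∀ x : E, D one x = 0 := fun x => by
    rw [hD]; simp only [one, Pi.one_apply, one_mul]; exact hE.1 x.2
  have hDc : ∀ x y : E, D x y = D y x := fun x y => by simp [hD, mul_comm]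
  have hRle : ∀ x : E, R ≤ LinearMap.ker (D x) := fun x =>
    (Submodule.span_singleton_le_iff_mem _ _).2 (LinearMap.mem_ker.2 ((hDc x one).trans (hD1 x)))
  let D₁ : E →ₗ[ZMod 2] (E ⧸ R) →ₗ[ZMod 2] ZMod 2 :=
    { toFun := fun x => R.liftQ (D x) (hRle x)
      map_add' := fun x y => Submodule.linearMap_qext _ (LinearMap.ext fun z => by simp)
      map_smul' := fun c x => Submodule.linearMap_qext _ (LinearMap.ext fun z => by simp) }
  let B : (E ⧸ R) →ₗ[ZMod 2] (E ⧸ R) →ₗ[ZMod 2] ZMod 2 := R.liftQ D₁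
    ((Submodule.span_singleton_le_iff_mem _ _).2 (LinearMap.mem_ker.2
      (Submodule.linearMap_qext _ (LinearMap.ext fun z => by simp [D₁, hD1]))))
  have hB : ∀ x y : E, B (Submodule.Quotient.mk x) (Submodule.Quotient.mk y) = D x y := fun x y => rfl
  have hsq : ∀ a : ZMod 2, a * a = a := by decide
  have hsymp : Lib.Symplectic.IsSympForm B := by
    refine ⟨fun x => ?_, fun x hx => ?_⟩
    · obtain ⟨x, rfl⟩ := Submodule.Quotient.mk_surjective _ x
      rw [hB, hD]; simp only [hsq]; exact hE.1 x.2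
    · obtain ⟨x, rfl⟩ := Submodule.Quotient.mk_surjective _ x
      rw [Submodule.Quotient.mk_eq_zero]
      have hconst : ∀ a b, (x : Fin (2 * n) → ZMod 2) a = (x : Fin (2 * n) → ZMod 2) b := by
        intro a b
        by_cases hab : a = b
        · rw [hab]
        have hy : (Pi.single a 1 + Pi.single b 1 : Fin (2 * n) → ZMod 2) ∈ E := hE.2 (by
          simp [Finset.sum_add_distrib]; decide)
        have h := hx (Submodule.Quotient.mk ⟨_, hy⟩)
        rw [hB, hD] at h
        simp [mul_add, Finset.sum_add_distrib, Pi.single_apply] at h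
        exact (by decide : ∀ p q : ZMod 2, p + q = 0 → p = q) _ _ h
      refine Submodule.mem_span_singleton.2 ⟨(x : Fin (2 * n) → ZMod 2) ⟨0, by omega⟩, ?_⟩
      apply Subtype.ext
      funext i
      simpa [one] using hconst _ i
  have hfin : Module.finrank (ZMod 2) (E ⧸ R) = 2 * (n - 1) := by
    have hS' : Function.Surjective S := fun c => ⟨Pi.single ⟨0, by omega⟩ c, by rw [hS]; simp⟩
    have h1 := S.finrank_range_add_finrank_ker
    rw [LinearMap.range_eq_top.2 hS', finrank_top, Module.finrank_self, Module.finrank_fin_fun] at h1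
    have h3 := R.finrank_quotient_add_finrank
    have hR1 : Module.finrank (ZMod 2) R = 1 := finrank_span_singleton fun h => by
      have := congrFun (congrArg Subtype.val h) ⟨0, by omega⟩
      exact absurd this (by simp [one])
    have hEd : Module.finrank (ZMod 2) E = 2 * n - 1 := by
      show Module.finrank (ZMod 2) (LinearMap.ker S) = _; omega
    omega
  -- the action
  let P : Equiv.Perm (Fin (2 * n)) → (E →ₗ[ZMod 2] E) := fun σ =>
    (LinearMap.funLeft (ZMod 2) (ZMod 2) σ.symm).restrict (p := E) (q := E) fun x hx =>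
      hE.2 ((σ.symm.sum_comp fun i => x i).trans (hE.1 hx))
  have hP : ∀ σ (x : E) i, (P σ x : Fin (2 * n) → ZMod 2) i = (x : Fin (2 * n) → ZMod 2) (σ.symm i) :=
    fun σ x i => rfl
  have hPR : ∀ σ, R ≤ R.comap (P σ) := fun σ => (Submodule.span_singleton_le_iff_mem _ _).2 (by
    show P σ one ∈ R
    rw [show P σ one = one from Subtype.ext (funext fun i => rfl)]
    exact Submodule.mem_span_singleton_self one)
  let Pq : Equiv.Perm (Fin (2 * n)) → ((E ⧸ R) →ₗ[ZMod 2] (E ⧸ R)) := fun σ => R.mapQ R (P σ) (hPR σ)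
  have hPq : ∀ σ τ, (Pq σ).comp (Pq τ) = Pq (σ * τ) := fun σ τ =>
    Submodule.linearMap_qext _ (LinearMap.ext fun z => congrArg Submodule.Quotient.mk
      (Subtype.ext (funext fun i => rfl)))
  have hPq1 : Pq 1 = LinearMap.id :=
    Submodule.linearMap_qext _ (LinearMap.ext fun z => congrArg Submodule.Quotient.mk
      (Subtype.ext (funext fun i => rfl)))
  let g : Equiv.Perm (Fin (2 * n)) → Lib.Symplectic.Isom B := fun σ =>
    ⟨LinearEquiv.ofLinearMap (Pq σ) (Pq σ⁻¹) (by rw [hPq, mul_inv_cancel, hPq1])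
      (by rw [hPq, inv_mul_cancel, hPq1]), fun x y => by
      obtain ⟨x, rfl⟩ := Submodule.Quotient.mk_surjective _ x
      obtain ⟨y, rfl⟩ := Submodule.Quotient.mk_surjective _ y
      show B (Submodule.Quotient.mk (P σ x)) (Submodule.Quotient.mk (P σ y)) = _
      rw [hB, hB, hD, hD]
      simp only [hP]
      exact σ.symm.sum_comp fun i => (x : Fin (2 * n) → ZMod 2) i * (y : Fin (2 * n) → ZMod 2) i⟩
  let gh : Equiv.Perm (Fin (2 * n)) →* Lib.Symplectic.Isom B := MonoidHom.mk' g fun σ τ =>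
    Lib.Symplectic.isom_ext fun x => (LinearMap.congr_fun (hPq σ τ) x).symm
  obtain ⟨e⟩ := Lib.Symplectic.nonempty_isom_mulEquiv_sp hsymp hfin
  refine ⟨e.toMonoidHom.comp gh, e.injective.comp ?_⟩
  rw [injective_iff_map_eq_one]
  intro σ hσ
  by_contra hne
  obtain ⟨i, hi⟩ : ∃ i, σ i ≠ i := by
    by_contra hc; push Not at hc; exact hne (Equiv.ext hc)
  obtain ⟨k, hki, hkj⟩ : ∃ k, k ≠ i ∧ k ≠ σ i := by
    obtain ⟨k, -, hk⟩ := Finset.exists_mem_notMem_of_card_lt_card
      (s := ({i, σ i} : Finset (Fin (2 * n)))) (t := Finset.univ) (by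
        have := Finset.card_le_two (a := i) (b := σ i)
        rw [Finset.card_univ, Fintype.card_fin]; omega)
    simp at hk
    exact ⟨k, hk.1, hk.2⟩
  have hy : (Pi.single i 1 + Pi.single k 1 : Fin (2 * n) → ZMod 2) ∈ E := hE.2 (by
    simp [Finset.sum_add_distrib]; decide)
  have h := congrArg (fun z : Lib.Symplectic.Isom B => z • (Submodule.Quotient.mk ⟨_, hy⟩ : E ⧸ R)) hσ
  simp only [one_smul] at h
  change Submodule.Quotient.mk (P σ ⟨_, hy⟩) = Submodule.Quotient.mk ⟨_, hy⟩ at h
  rw [Submodule.Quotient.eq, Submodule.mem_span_singleton] at h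
  obtain ⟨c, hc⟩ := h
  have hv : ∀ l, c = ((Pi.single i 1 + Pi.single k 1 : Fin (2 * n) → ZMod 2) (σ.symm l)) -
      (Pi.single i 1 + Pi.single k 1 : Fin (2 * n) → ZMod 2) l := fun l => by
    have := congrFun (congrArg Subtype.val hc) l
    simpa [one, hP] using this
  have hj := hv (σ i)
  simp [Pi.single_apply, hki, hki.symm, hi, Ne.symm hkj] at hj
  obtain ⟨l, -, hl⟩ := Finset.exists_mem_notMem_of_card_lt_card
    (s := ({i, k, σ i, σ k} : Finset (Fin (2 * n)))) (t := Finset.univ) (by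
      have := Finset.card_le_four (a := i) (b := k) (c := σ i) (d := σ k)
      rw [Finset.card_univ, Fintype.card_fin]; omega)
  simp at hl
  have hl' := hv l
  simp [Pi.single_apply, Equiv.symm_apply_eq, hl.1, hl.2.1, hl.2.2.1, hl.2.2.2] at hl'
  exact one_ne_zero (hj.symm.trans hl')

end Cfsg.Agent.S0826
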