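import Cfsg.Statements.S5908
import Cfsg.Agent.Lib.SU32.Derived

set_option autoImplicit false
open Cfsg

namespace Cfsg.Agent.S5908

open Cfsg.Agent.Lib.SU32.Derived

/-- A character killing every element of prime order obstructs complements. -/
theorem not_complemented {G A : Type*} [Group G] [Finite G] [Group A] (χ : G →* A)
    (hne : χ.ker ≠ ⊤) (h : ∀ x : G, (orderOf x).Prime → χ x = 1) :
    ¬ ComplementedLattice (Subgroup G) := by
  intro hcl
  obtain ⟨C, hC⟩ := exists_isCompl χ.ker
  have hCbot : C ≠ ⊥ := fun hb => hne (by rw [← hC.sup_eq_top, hb, sup_bot_eq])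
  haveI : Nontrivial C := C.nontrivial_iff_ne_bot.2 hCbot
  obtain ⟨p, hp, hpd⟩ := Nat.exists_prime_and_dvd (Finite.one_lt_card (α := C)).ne'
  haveI := Fact.mk hp
  obtain ⟨x, hx⟩ := exists_prime_orderOf_dvd_card' p hpd
  have hx' : orderOf (x : G) = p := by rw [Subgroup.orderOf_coe, hx]
  have hmem : (x : G) ∈ χ.ker ⊓ C := ⟨h _ (hx'.symm ▸ hp), x.2⟩
  rw [hC.inf_eq_bot, Subgroup.mem_bot] at hmem
  rw [hmem, orderOf_one] at hx'
  exact hp.ne_one hx'.symm

/-- Commutes with six elements generating SU₃(2). -/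
def centralLike (c : Cols) : Bool :=
  [code t0, code t1, code t2, code g0, code g1, code h1].all fun x => mmN c x == mmN x c

theorem check : (elems.all fun g => piN g.1 == 0 || !centralLike (mmN g g)) = true := by
  decide +kernel

theorem piF_eq_zero (g : S) (hg : g ^ 2 ∈ Subgroup.center S) : piF g = 0 := by
  have h := List.all_eq_true.1 check (code g) (code_mem g)
  have hc : centralLike (mmN (code g) (code g)) = true := by
    rw [← code_mul, ← sq]
    simp only [centralLike, List.all_eq_true, beq_iff_eq]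
    intro x hx
    simp only [List.mem_cons, List.not_mem_nil, or_false] at hx
    rcases hx with rfl | rfl | rfl | rfl | rfl | rfl <;>
      rw [← code_mul, ← code_mul, Subgroup.mem_center_iff.1 hg]
  rw [hc] at h
  simp only [Bool.not_true, Bool.or_false, beq_iff_eq] at h
  apply n_inj
  rw [n_piF, h]
  rfl

theorem main4 : ¬ ComplementedLattice (Subgroup (Cfsg.PSU 3 F4 2)) := by
  have hle : Subgroup.center S ≤ chi.ker := fun z hz =>
    show chi z = 1 from congrArg Multiplicative.ofAdd (piF_eq_zero z (Subgroup.pow_mem _ hz 2))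
  let χ : Cfsg.PSU 3 F4 2 →* Multiplicative F4 := QuotientGroup.lift (Subgroup.center S) chi hle
  refine not_complemented χ ?_ ?_
  · intro h
    have h1 : chi g0 = 1 :=
      ((SetLike.ext_iff.1 h (QuotientGroup.mk g0 : Cfsg.PSU 3 F4 2)).2 (Subgroup.mem_top _) :)
    have h2 : piF g0 = 0 := h1
    exact absurd h2 (by decide +kernel)
  · intro x hx
    induction x using QuotientGroup.induction_on with
    | H g =>
      show chi g = 1
      rcases hx.eq_two_or_odd' with h2 | ⟨m, hm⟩
      · have h3 := pow_orderOf_eq_one (QuotientGroup.mk g : Cfsg.PSU 3 F4 2)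
        rw [h2, ← QuotientGroup.mk_pow, QuotientGroup.eq_one_iff] at h3
        exact congrArg Multiplicative.ofAdd (piF_eq_zero g h3)
      · have h3 := pow_orderOf_eq_one (QuotientGroup.mk g : Cfsg.PSU 3 F4 2)
        rw [hm, ← QuotientGroup.mk_pow, QuotientGroup.eq_one_iff] at h3
        have h4 : chi (g ^ (2 * m + 1)) = 1 := hle h3
        have hsq : ∀ a : F4, a + a = 0 := by decide +kernel
        have h5 : chi g ^ 2 = 1 := by
          rw [sq]
          exact congrArg Multiplicative.ofAdd (hsq (piF g))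
        rwa [map_pow, pow_succ, pow_mul, h5, one_pow, one_mul] at h4

theorem exists_equiv (F : Type*) [Field F] [Fintype F] (hF : Fintype.card F = 4) :
    Nonempty (SU 3 F4 2 ≃* SU 3 F 2) := by
  let φ : F4 ≃+* F := FiniteField.ringEquivOfCardEq (K := F4) (K' := F) (by rw [hF]; rfl)
  let Φ : Matrix.SpecialLinearGroup (Fin 3) F4 ≃* Matrix.SpecialLinearGroup (Fin 3) F :=
    MulEquiv.ofBijective (Matrix.SpecialLinearGroup.map (φ : F4 →+* F)) ⟨fun a b h => by
      ext i j
      exact φ.injective (congrArg (fun m : Matrix.SpecialLinearGroup (Fin 3) F => (m : Matrix _ _ F) i j) h),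
     fun m => ⟨Matrix.SpecialLinearGroup.map (φ.symm : F →+* F4) m, by ext i j; simp⟩⟩
  have key : ∀ g, Φ g ∈ SU 3 F 2 ↔ g ∈ SU 3 F4 2 := by
    intro g
    have hmul : ∀ u, (slToMat 3 F (Φ g)).mulVec (fun i => φ (u i)) = fun i => φ ((slToMat 3 F4 g).mulVec u i) := by
      intro u; funext i
      simp [Φ, Matrix.mulVec, dotProduct, map_sum]
      rfl
    have hf : ∀ u v : Fin 3 → F4, hermForm 3 F 2 (fun i => φ (u i)) (fun i => φ (v i)) = φ (hermForm 3 F4 2 u v) := by
      intro u v; simp [hermForm, map_sum]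
    constructor
    · intro h u v
      apply φ.injective
      rw [← hf, ← hf, ← hmul, ← hmul]
      exact h _ _
    · intro h u v
      have hu : u = fun i => φ (φ.symm (u i)) := by simp
      have hv : v = fun i => φ (φ.symm (v i)) := by simp
      rw [hu, hv, hmul, hmul, hf, hf, h]
  exact ⟨(Φ.subgroupMap (SU 3 F4 2)).trans (MulEquiv.subgroupCongr (by
    ext x
    constructor
    · rintro ⟨g, hg, rfl⟩; exact (key g).2 hg
    · intro hx; exact ⟨Φ.symm x, (key _).1 (by simpa using hx), by simp⟩))⟩

/-- The subgroup lattice of PSU₃(2) (the solvable group of order 72, realised over the field with 4 elements) is not complemented: some subgroup H has no subgroup X with H ⊔ X = ⊤ and H ⊓ X = ⊥. -/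
theorem result {F : Type*} [Field F] [Fintype F] (hF : Fintype.card F = 4) :
    ¬ ComplementedLattice (Subgroup (Cfsg.PSU 3 F 2)) := by
  obtain ⟨E⟩ := exists_equiv F hF
  have hmap : (Subgroup.center (SU 3 F4 2)).map (E : SU 3 F4 2 →* SU 3 F 2) =
      Subgroup.center (SU 3 F 2) := by
    ext x
    constructor
    · rintro ⟨z, hz, rfl⟩
      refine Subgroup.mem_center_iff.2 fun y => ?_
      obtain ⟨w, rfl⟩ := E.surjective y
      show E w * E z = E z * E w
      rw [← map_mul, ← map_mul, Subgroup.mem_center_iff.1 hz]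
    · intro hx
      refine ⟨E.symm x, Subgroup.mem_center_iff.2 fun y => ?_, by simp⟩
      apply E.injective
      rw [map_mul, map_mul, E.apply_symm_apply]
      exact Subgroup.mem_center_iff.1 hx _
  let Q : Cfsg.PSU 3 F4 2 ≃* Cfsg.PSU 3 F 2 := QuotientGroup.congr _ _ E hmap
  intro h
  exact main4 ((OrderIso.complementedLattice_iff Q.mapSubgroup).2 h)

end Cfsg.Agent.S5908
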