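import Cfsg.Statements.S0827
import Cfsg.Agent.S0282
import Cfsg.Agent.S5908
import Cfsg.Agent.Lib.TwoGroups.Recognition

set_option autoImplicit false
set_option linter.style.haveILetI false
open Cfsg

namespace Cfsg.Agent.S0827

open Cfsg.Agent.Lib.SU32.Derived
open Cfsg.Agent.S5908 (centralLike)

theorem central_all : ((elems.filter centralLike).all fun c =>
    elems.all fun x => mmN c x == mmN x c) = true := by decide +kernel

theorem mem_center_iff (g : S) : g ∈ Subgroup.center S ↔ centralLike (code g) = true := by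
  constructor
  · intro hg
    simp only [centralLike, List.all_eq_true, beq_iff_eq]
    intro x hx
    simp only [List.mem_cons, List.not_mem_nil, or_false] at hx
    rcases hx with rfl | rfl | rfl | rfl | rfl | rfl <;>
      rw [← code_mul, ← code_mul, Subgroup.mem_center_iff.1 hg]
  · intro hg
    refine Subgroup.mem_center_iff.2 fun y => code_injective ?_
    have h1 := List.all_eq_true.1 central_all (code g) (List.mem_filter.2 ⟨code_mem g, hg⟩)
    have h2 := List.all_eq_true.1 h1 (code y) (code_mem y)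
    rw [code_mul, code_mul]
    exact (eq_of_beq h2).symm

def cube (c : Cols) : Cols := mmN c (mmN c c)

def inN (c : Cols) : Bool := centralLike (cube c)

theorem check_mul : ((elems.filter inN).all fun a => (elems.filter inN).all fun b =>
    inN (mmN a b)) = true := by decide +kernel

theorem check_nine : (elems.all fun a => !centralLike (cube (cube a)) || inN a) = true := by
  decide +kernel

abbrev P4 := Cfsg.PSU 3 F4 2

theorem code_cube (g : S) : code (g ^ 3) = cube (code g) := by
  rw [pow_succ', pow_two, code_mul, code_mul]; rfl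

theorem cube_iff (g : S) : (QuotientGroup.mk g : P4) ^ 3 = 1 ↔ inN (code g) = true := by
  rw [← QuotientGroup.mk_pow, QuotientGroup.eq_one_iff, mem_center_iff, code_cube]; rfl

theorem mul_cube (x y : P4) (hx : x ^ 3 = 1) (hy : y ^ 3 = 1) : (x * y) ^ 3 = 1 := by
  induction x using QuotientGroup.induction_on with
  | H g =>
    induction y using QuotientGroup.induction_on with
    | H h =>
      rw [cube_iff] at hx hy
      rw [← QuotientGroup.mk_mul, cube_iff, code_mul]
      exact List.all_eq_true.1 (List.all_eq_true.1 check_mul _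
        (List.mem_filter.2 ⟨code_mem g, hx⟩)) _ (List.mem_filter.2 ⟨code_mem h, hy⟩)

/-- The elements of exponent three. -/
def N : Subgroup P4 where
  carrier := {x | x ^ 3 = 1}
  mul_mem' {x y} hx hy := mul_cube x y hx hy
  one_mem' := one_pow 3
  inv_mem' {x} hx := by
    show x⁻¹ ^ 3 = 1
    rw [inv_pow, (hx : x ^ 3 = 1), inv_one]

theorem mem_N {x : P4} : x ∈ N ↔ x ^ 3 = 1 := Iff.rfl

instance : N.Normal := ⟨fun n hn g => by
  rw [mem_N, conj_pow, mem_N.1 hn, mul_one, mul_inv_cancel]⟩

theorem card_P4 : Nat.card P4 = 72 := (Cfsg.Agent.S0282.result (F := F4) rfl).1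

theorem card_N : Nat.card N = 9 := by
  haveI : Fact (Nat.Prime 3) := ⟨Nat.prime_three⟩
  have hN : IsPGroup 3 N := fun x => ⟨1, Subtype.ext (by simpa using mem_N.1 x.2)⟩
  obtain ⟨P, hle⟩ := hN.exists_le_sylow
  have hP : Nat.card (P : Subgroup P4) = 9 := by
    rw [P.card_eq_multiplicity, card_P4]
    have : (72 : ℕ).factorization 3 = 2 := by
      rw [show (72 : ℕ) = 2 ^ 3 * 3 ^ 2 by rfl, Nat.factorization_mul (by norm_num) (by norm_num),
        Nat.prime_two.factorization_pow, Nat.prime_three.factorization_pow]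
      simp
    rw [this]; rfl
  have h : (P : Subgroup P4) ≤ N := by
    intro x hx
    have h9 : x ^ 9 = 1 := by
      have := pow_card_eq_one' (G := (P : Subgroup P4)) (x := ⟨x, hx⟩)
      rw [hP] at this
      exact congrArg Subtype.val this
    rw [mem_N]
    induction x using QuotientGroup.induction_on with
    | H g =>
      rw [cube_iff]
      rw [← QuotientGroup.mk_pow, QuotientGroup.eq_one_iff, mem_center_iff,
        show (9 : ℕ) = 3 * 3 from rfl, pow_mul, code_cube, code_cube] at h9
      have := List.all_eq_true.1 check_nine (code g) (code_mem g)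
      simpa [h9] using this
  rw [le_antisymm hle h, hP]

theorem card_Q : Nat.card (P4 ⧸ N) = 8 := by
  have h := Subgroup.card_eq_card_quotient_mul_card_subgroup N
  rw [card_P4, card_N] at h
  omega

abbrev pr (g : S) : P4 ⧸ N := QuotientGroup.mk (QuotientGroup.mk g : P4)

theorem pr_eq_one (g : S) : pr g = 1 ↔ inN (code g) = true := by
  rw [QuotientGroup.eq_one_iff, mem_N, cube_iff]

theorem quot4 : Nonempty (P4 ⧸ N ≃* QuaternionGroup 2) := by
  have hone : ∀ g : S, inN (code g) = true → pr g = 1 := fun g hg => (pr_eq_one g).2 hg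
  have hne : ∀ g : S, inN (code g) = false → pr g ≠ 1 := fun g hg h => by
    rw [(pr_eq_one g).1 h] at hg; exact Bool.noConfusion hg
  have ha4 : pr g0 ^ 4 = 1 := by
    have h := hone (g0 * (g0 * (g0 * g0))) (by rw [code_mul, code_mul, code_mul]; decide +kernel)
    rw [← h]
    show pr g0 ^ 4 = pr g0 * (pr g0 * (pr g0 * pr g0))
    simp only [pow_succ, pow_zero, one_mul, mul_assoc]
  have ha2 : ¬ pr g0 ^ 2 = 1 := fun h => hne (g0 * g0) (by rw [code_mul]; decide +kernel)
    (show pr g0 * pr g0 = 1 by rw [← h, pow_two])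
  have ha : orderOf (pr g0) = 4 := by
    haveI : Fact (Nat.Prime 2) := ⟨Nat.prime_two⟩
    have := orderOf_eq_prime_pow (p := 2) (n := 1) (x := pr g0) ?_ ?_
    · simpa using this
    · simpa using ha2
    · simpa using ha4
  have h3 : ∀ u v : S, pr (u * v) = pr u * pr v := fun u v => rfl
  have hb : pr h0 * pr h0 = pr g0 ^ 2 := by
    have h := hone (g0 * g0 * (h0 * h0)) (by rw [code_mul, code_mul, code_mul]; decide +kernel)
    rw [h3, h3, h3] at h
    calc pr h0 * pr h0 = (pr g0 * pr g0)⁻¹ * (pr g0 * pr g0 * (pr h0 * pr h0)) := by group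
      _ = (pr g0 * pr g0)⁻¹ := by rw [h, mul_one]
      _ = (pr g0 * pr g0)⁻¹ * pr g0 ^ 4 := by rw [ha4, mul_one]
      _ = _ := by group
  have hab : pr h0 * pr g0 * (pr h0)⁻¹ = (pr g0)⁻¹ := by
    have h := hone (h0 * g0 * (h0 * h0 * h0) * g0) (by
      rw [code_mul, code_mul, code_mul, code_mul, code_mul]; decide +kernel)
    rw [h3, h3, h3, h3, h3] at h
    have hb4 : pr h0 * pr h0 * (pr h0 * pr h0) = 1 := by rw [hb, ← pow_add]; exact ha4
    have hi : (pr h0)⁻¹ = pr h0 * pr h0 * pr h0 :=
      inv_eq_of_mul_eq_one_left (by rw [← hb4]; group)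
    rw [hi]
    exact eq_inv_of_mul_eq_one_left h
  have hmem : pr h0 ∉ Subgroup.zpowers (pr g0) := by
    intro hm
    have hn : pr h0 * pr g0 ≠ pr g0 * pr h0 := fun hc => by
      rw [hc, mul_inv_cancel_right] at hab
      apply ha2
      rw [pow_two]
      nth_rewrite 1 [hab]
      exact inv_mul_cancel _
    obtain ⟨k, hk⟩ := hm
    apply hn
    rw [← hk]
    exact ((Commute.refl _).zpow_left k).eq
  exact Cfsg.Agent.Lib.TwoGroups.Recognition.nonempty_quaternion (m := 2) ha hb hab hmem card_Q

/-- U_3(2) ≅ 3².Q_8: PSU_3(2) (form over the field with 4 elements) has a normal subgroup N which is elementary abelian of order 9 such that the quotient by N is isomorphic to the quaternion group of order 8. -/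
theorem result {F : Type*} [Field F] [Fintype F] (hF : Fintype.card F = 4) : ∃ (N : Subgroup (Cfsg.PSU 3 F 2)) (_ : N.Normal), Nat.card N = 9 ∧ (∀ x ∈ N, x ^ 3 = 1) ∧ Nonempty (Cfsg.PSU 3 F 2 ⧸ N ≃* QuaternionGroup 2) := by
  obtain ⟨E⟩ := Cfsg.Agent.S5908.exists_equiv F hF
  have hmap : (Subgroup.center (SU 3 F4 2)).map (E : SU 3 F4 2 →* SU 3 F 2) =
      Subgroup.center (SU 3 F 2) := by
    ext x
    constructor
    · rintro ⟨z, hz, rfl⟩
      refine Subgroup.mem_center_iff.2 fun y => ?_
      obtain ⟨w, rfl⟩ := E.surjective y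
      show E w * E z = E z * E w
      rw [← map_mul, ← map_mul, Subgroup.mem_center_iff.1 hz]
    · intro hx
      refine ⟨E.symm x, Subgroup.mem_center_iff.2 fun y => ?_, by simp⟩
      apply E.injective
      rw [map_mul, map_mul, E.apply_symm_apply]
      exact Subgroup.mem_center_iff.1 hx _
  let Q : Cfsg.PSU 3 F4 2 ≃* Cfsg.PSU 3 F 2 := QuotientGroup.congr _ _ E hmap
  haveI hn : (N.map Q.toMonoidHom).Normal :=
    Subgroup.Normal.map (inferInstance : N.Normal) _ Q.surjective
  refine ⟨N.map Q.toMonoidHom, hn, ?_, ?_, ?_⟩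
  · rw [← card_N]
    exact (Nat.card_congr (N.equivMapOfInjective _ Q.injective).toEquiv).symm
  · rintro _ ⟨y, hy, rfl⟩
    rw [← map_pow, mem_N.1 hy, map_one]
  · obtain ⟨e⟩ := quot4
    haveI : (N.map (Q : P4 →* Cfsg.PSU 3 F 2)).Normal := hn
    exact ⟨(QuotientGroup.congr N _ Q rfl).symm.trans e⟩

end Cfsg.Agent.S0827
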