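import Cfsg.Statements.S0828
import Cfsg.Agent.Lib.Forms.SpStab

set_option autoImplicit false
open Cfsg

namespace Cfsg.Agent.S0828

/-- The symplectic generalised quadrangle over a field with q elements: the number of 2-dimensional subspaces of F^4 on which the symplectic form vanishes is (q + 1)(q² + 1), and every non-zero vector lies in exactly q + 1 of them. -/
theorem result {F : Type*} [Field F] [Fintype F] {q : ℕ} (hF : Fintype.card F = q) : Nat.card {W : Submodule F (Fin 2 ⊕ Fin 2 → F) // Module.finrank F W = 2 ∧ ∀ u ∈ W, ∀ v ∈ W, Cfsg.sympForm 2 F u v = 0} = (q + 1) * (q ^ 2 + 1) ∧ ∀ v : Fin 2 ⊕ Fin 2 → F, v ≠ 0 → Nat.card {W : Submodule F (Fin 2 ⊕ Fin 2 → F) // Module.finrank F W = 2 ∧ v ∈ W ∧ ∀ u ∈ W, ∀ w ∈ W, Cfsg.sympForm 2 F u w = 0} = q + 1 := by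
  subst hF
  classical
  set q := Fintype.card F with hq
  have hq' : Nat.card F = q := Nat.card_eq_fintype_card
  have hq2 : 2 ≤ q := Fintype.one_lt_card
  have hB := Lib.Symplectic.isSympForm_stdForm 2 F
  have hfr := Lib.Symplectic.finrank_std 2 F
  simp only [← Lib.Symplectic.stdForm_eq_sympForm]
  set B := Lib.Symplectic.stdForm 2 F with hBdef
  have span_iso : ∀ (k : ℕ) (t : Fin k → Fin 2 ⊕ Fin 2 → F), (∀ i j, B (t i) (t j) = 0) →
      ∀ u ∈ Submodule.span F (Set.range t), ∀ w ∈ Submodule.span F (Set.range t), B u w = 0 := by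
    intro k t ht u hu w hw
    obtain ⟨c, rfl⟩ := (Submodule.mem_span_range_iff_exists_fun F).1 hu
    obtain ⟨d, rfl⟩ := (Submodule.mem_span_range_iff_exists_fun F).1 hw
    simp [map_sum, LinearMap.sum_apply, ht]
  constructor
  · let S := {W : Submodule F (Fin 2 ⊕ Fin 2 → F) // Module.finrank F W = 2 ∧ ∀ u ∈ W, ∀ v ∈ W, B u v = 0}
    let f : Lib.Forms.SpStab.isoTuples B 2 → S := fun t => ⟨Submodule.span F (Set.range t.1),
      (finrank_span_eq_card t.2.1).trans (Fintype.card_fin 2), span_iso 2 t.1 t.2.2⟩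
    have hfib : ∀ W : S, Nat.card {t // f t = W} = Nat.card {s : Fin 2 → W.1 // LinearIndependent F s} := by
      intro W
      refine Nat.card_congr
        { toFun := fun t => ⟨fun i => ⟨t.1.1 i, congrArg Subtype.val t.2 ▸ Submodule.subset_span ⟨i, rfl⟩⟩,
            LinearIndependent.of_comp W.1.subtype t.1.2.1⟩
          invFun := fun p => ⟨⟨fun i => (p.1 i : Fin 2 ⊕ Fin 2 → F),
              p.2.map' W.1.subtype W.1.ker_subtype,
              fun i j => W.2.2 _ (p.1 i).2 _ (p.1 j).2⟩, ?_⟩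
          left_inv := fun t => rfl
          right_inv := fun p => rfl }
      refine Subtype.ext (Submodule.eq_of_le_of_finrank_le (Submodule.span_le.2 ?_) ?_)
      · rintro _ ⟨i, rfl⟩; exact (p.1 i).2
      · exact le_of_eq (W.2.1.trans ((finrank_span_eq_card (p.2.map' W.1.subtype W.1.ker_subtype)).trans
          (Fintype.card_fin 2)).symm)
    have hcard := Lib.Forms.SpStab.card_isoTuples hB hq' 2
    have : Fintype S := Fintype.ofFinite _
    rw [← Nat.card_congr (Equiv.sigmaFiberEquiv f), Nat.card_sigma, Finset.sum_congr rfl (fun W _ => by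
      rw [hfib W, card_linearIndependent W.2.1.ge, W.2.1, Fin.prod_univ_two]), Finset.sum_const, smul_eq_mul,
      Finset.card_univ, ← Nat.card_eq_fintype_card, hfr, Finset.prod_range_succ, Finset.prod_range_succ,
      Finset.prod_range_zero, ← hq] at hcard
    show Nat.card S = _
    simp only [Fin.val_zero, Fin.val_one, pow_zero, pow_one, one_mul] at hcard
    have hpos : 0 < (q ^ 2 - 1) * (q ^ 2 - q) := Nat.mul_pos (Nat.sub_pos_of_lt (by nlinarith))
      (Nat.sub_pos_of_lt (by nlinarith))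
    refine Nat.eq_of_mul_eq_mul_right hpos (hcard.trans ?_)
    norm_num
    obtain ⟨r, hr⟩ : ∃ r, q = r + 2 := ⟨q - 2, by omega⟩
    rw [hr]
    have e1 : (r + 2) ^ 4 - 1 = ((r + 2) ^ 2 + 1) * ((r + 2) ^ 2 - 1) := by
      rw [Nat.mul_sub, mul_one, show ((r + 2) ^ 2 + 1) * (r + 2) ^ 2 = (r + 2) ^ 4 + (r + 2) ^ 2 by ring]
      omega
    have e2 : (r + 2) ^ 3 - (r + 2) = (r + 2 + 1) * ((r + 2) ^ 2 - (r + 2)) := by
      rw [Nat.mul_sub, show (r + 2 + 1) * (r + 2) ^ 2 = (r + 2) ^ 3 + (r + 2) ^ 2 by ring,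
        show (r + 2 + 1) * (r + 2) = (r + 2) ^ 2 + (r + 2) by ring]
      omega
    rw [e1, e2]; ring
  · intro v hv
    let S := {W : Submodule F (Fin 2 ⊕ Fin 2 → F) // Module.finrank F W = 2 ∧ v ∈ W ∧ ∀ u ∈ W, ∀ w ∈ W, B u w = 0}
    let K := LinearMap.ker (B v)
    let L := Submodule.span F {v}
    have hLK : L ≤ K := (Submodule.span_singleton_le_iff_mem _ _).2 (hB.self v)
    have hli : ∀ x : ((K : Set (Fin 2 ⊕ Fin 2 → F)) \ L : Set (Fin 2 ⊕ Fin 2 → F)),
        LinearIndependent F ![v, x.1] := fun x =>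
      (LinearIndependent.pair_iff' hv).2 fun a h => x.2.2 (Submodule.mem_span_singleton.2 ⟨a, h⟩)
    let f : ((K : Set (Fin 2 ⊕ Fin 2 → F)) \ L : Set (Fin 2 ⊕ Fin 2 → F)) → S := fun x =>
      ⟨Submodule.span F (Set.range ![v, x.1]),
        (finrank_span_eq_card (hli x)).trans (Fintype.card_fin 2),
        Submodule.subset_span ⟨0, rfl⟩,
        span_iso 2 _ (by
          have hx : B v x.1 = 0 := LinearMap.mem_ker.1 x.2.1
          intro i j
          fin_cases i <;> fin_cases j
          · exact hB.self v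
          · exact hx
          · exact hB.comm_eq_zero.1 hx
          · exact hB.self _)⟩
    have hL1 : Module.finrank F L = 1 := finrank_span_singleton hv
    have hK : Module.finrank F K = 3 := by
      have h := Module.Dual.finrank_ker_add_one_of_ne_zero (hB.apply_ne_zero hv)
      rw [hfr] at h
      show Module.finrank F (LinearMap.ker (B v)) = 3
      omega
    have hcnt : ∀ W : S, Nat.card ((W.1 : Set (Fin 2 ⊕ Fin 2 → F)) \ L : Set (Fin 2 ⊕ Fin 2 → F)) = q ^ 2 - q := by
      intro W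
      rw [Nat.card_coe_set_eq, Set.ncard_sdiff (show (L : Set (Fin 2 ⊕ Fin 2 → F)) ⊆ (W.1 : Set (Fin 2 ⊕ Fin 2 → F)) from SetLike.coe_subset_coe.2
          ((Submodule.span_singleton_le_iff_mem _ _).2 W.2.2.1)),
        ← Nat.card_coe_set_eq, ← Nat.card_coe_set_eq, SetLike.coe_sort_coe, SetLike.coe_sort_coe,
        Module.natCard_eq_pow_finrank (K := F) (V := W.1), Module.natCard_eq_pow_finrank (K := F) (V := L),
        W.2.1, hL1, hq', pow_one]
    have hfib : ∀ W : S, Nat.card {x // f x = W} = q ^ 2 - q := by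
      intro W
      rw [← hcnt W]
      refine Nat.card_congr
        { toFun := fun x => ⟨x.1.1, congrArg Subtype.val x.2 ▸ Submodule.subset_span ⟨1, rfl⟩, x.1.2.2⟩
          invFun := fun y => ⟨⟨y.1, LinearMap.mem_ker.2 (W.2.2.2 v W.2.2.1 _ y.2.1), y.2.2⟩, ?_⟩
          left_inv := fun x => rfl
          right_inv := fun y => rfl }
      refine Subtype.ext (Submodule.eq_of_le_of_finrank_le (Submodule.span_le.2 ?_) ?_)
      · rintro _ ⟨i, rfl⟩
        fin_cases i
        · exact W.2.2.1
        · exact y.2.1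
      · exact le_of_eq (W.2.1.trans ((finrank_span_eq_card
          ((LinearIndependent.pair_iff' hv).2 fun a h => y.2.2 (Submodule.mem_span_singleton.2 ⟨a, h⟩))).trans
          (Fintype.card_fin 2)).symm)
    have : Fintype S := Fintype.ofFinite _
    have hcard := (Nat.card_congr (Equiv.sigmaFiberEquiv f)).symm
    rw [Nat.card_sigma, Finset.sum_congr rfl (fun W _ => hfib W), Finset.sum_const, smul_eq_mul,
      Finset.card_univ, ← Nat.card_eq_fintype_card, Nat.card_coe_set_eq, Set.ncard_sdiff hLK,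
      ← Nat.card_coe_set_eq, ← Nat.card_coe_set_eq, SetLike.coe_sort_coe, SetLike.coe_sort_coe,
      Module.natCard_eq_pow_finrank (K := F) (V := K), Module.natCard_eq_pow_finrank (K := F) (V := L),
      hK, hL1, hq', pow_one] at hcard
    show Nat.card S = _
    refine Nat.eq_of_mul_eq_mul_right (Nat.sub_pos_of_lt (show q < q ^ 2 by nlinarith)) (hcard.symm.trans ?_)
    rw [Nat.mul_sub, show (q + 1) * q ^ 2 = q ^ 3 + q ^ 2 by ring,
      show (q + 1) * q = q ^ 2 + q by ring]
    omega

end Cfsg.Agent.S0828
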