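import Cfsg.Statements.S0830
import Cfsg.Agent.Lib.Unitary.Isotropic

set_option autoImplicit false
open Cfsg

namespace Cfsg.Agent.S0830

/-- The unitary quadrangle of PSU_5(q): with |F| = q², the number of 2-dimensional subspaces of F^5 on which the Hermitian form vanishes is (q³ + 1)(q⁵ + 1). -/
theorem result {F : Type*} [Field F] [Fintype F] {q : ℕ} (hF : Fintype.card F = q ^ 2) : Nat.card {W : Submodule F (Fin 5 → F) // Module.finrank F W = 2 ∧ ∀ u ∈ W, ∀ v ∈ W, Cfsg.hermForm 5 F q u v = 0} = (q ^ 3 + 1) * (q ^ 5 + 1) := by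
  have h := Cfsg.Agent.Lib.Unitary.card_tiPlanes_mul (n := 5) hF
  have h1 := Cfsg.Agent.Lib.Unitary.countNull_succ_eq hF 4
  have h2 := Cfsg.Agent.Lib.Unitary.countNull_succ_eq hF 2
  have hq := Cfsg.Agent.Lib.Unitary.one_lt_q hF
  norm_num [Nat.even_iff] at h1 h2
  rw [h1, show (5 : ℕ) - 2 = 3 from rfl, h2] at h
  simp only [Nat.add_sub_cancel] at h
  have h4q : 4 ≤ q ^ 2 := by nlinarith
  have hA : 1 ≤ (q ^ 2) ^ 2 - 1 := Nat.le_sub_of_add_le (by nlinarith [h4q])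
  have hB : 1 ≤ (q ^ 2) ^ 2 - q ^ 2 := Nat.le_sub_of_add_le (by nlinarith [h4q])
  apply Nat.eq_of_mul_eq_mul_right (Nat.mul_pos hA hB)
  rw [h]
  have e : ∀ k, 1 ≤ q ^ k := fun k => Nat.one_le_pow _ _ (by omega)
  have e' : q ^ 2 ≤ (q ^ 2) ^ 2 := Nat.le_self_pow (by norm_num) _
  zify [e 1, e 2, e 3, e 4, e 5, e', hq.le, Nat.one_le_pow 2 (q ^ 2) (e 2)]
  ring

end Cfsg.Agent.S0830
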