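import Cfsg.Statements.S0831
import Cfsg.Agent.Lib.Forms.MaxSingular

set_option autoImplicit false
open Cfsg

namespace Cfsg.Agent.S0831

/-- The two families of maximal totally singular subspaces of the hyperbolic quadric: for the form Σ x_i y_i on F^(2m), m ≥ 1, and m-dimensional subspaces U, W, X on which it vanishes, the parities of m − dim(U ∩ W), m − dim(W ∩ X) and m − dim(U ∩ X) sum to an even number (so 'even codimension of the intersection' is an equivalence relation), and there exist two such subspaces meeting in codimension 1 (so there are exactly two classes). -/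
theorem result {F : Type*} [Field F] (m : ℕ) (hm : 1 ≤ m) : (∀ U W X : Submodule F (Fin m ⊕ Fin m → F), (Module.finrank F U = m ∧ ∀ w ∈ U, Cfsg.quadFormPlus m F w = 0) → (Module.finrank F W = m ∧ ∀ w ∈ W, Cfsg.quadFormPlus m F w = 0) → (Module.finrank F X = m ∧ ∀ w ∈ X, Cfsg.quadFormPlus m F w = 0) → Even ((m - Module.finrank F ↥(U ⊓ W)) + (m - Module.finrank F ↥(W ⊓ X)) + (m - Module.finrank F ↥(U ⊓ X)))) ∧ ∃ U W : Submodule F (Fin m ⊕ Fin m → F), (Module.finrank F U = m ∧ ∀ w ∈ U, Cfsg.quadFormPlus m F w = 0) ∧ (Module.finrank F W = m ∧ ∀ w ∈ W, Cfsg.quadFormPlus m F w = 0) ∧ Module.finrank F ↥(U ⊓ W) + 1 = m := by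
  have hQ := Lib.Forms.qPlus_nondeg (F := F) m
  have hV := Lib.Forms.MaxSingular.finrank_space (F := F) (m := m)
  have hval : ∀ w : Fin m ⊕ Fin m → F, Cfsg.quadFormPlus m F w = Lib.Forms.qPlus m w := fun w =>
    (Lib.Forms.qPlus_apply m w).symm
  simp only [hval]
  refine ⟨fun U W X hU hW hX => Lib.Forms.MaxSingular.even_triangle hQ hV _ U W X hU hW hX rfl, ?_⟩
  have hX := Lib.Forms.MaxSingular.isMax_stdX (F := F) (m := m)
  have hX' := Lib.Forms.MaxSingular.isMax_stdX' (F := F) (m := m)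
  obtain ⟨Y, hYX, hYdim⟩ : ∃ Y : Submodule F (Fin m ⊕ Fin m → F),
      Y ≤ Lib.Forms.MaxSingular.stdX F m ∧ Module.finrank F Y + 1 = m := by
    refine ⟨Lib.Forms.MaxSingular.stdX F m ⊓ LinearMap.ker (LinearMap.proj (Sum.inl ⟨0, hm⟩)),
      inf_le_left, ?_⟩
    classical
    have h := Lib.Forms.MaxSingular.finrank_vanishing (F := F)
      (insert (Sum.inl ⟨0, hm⟩) (Finset.univ.map ⟨Sum.inr, Sum.inr_injective⟩))
      (Lib.Forms.MaxSingular.stdX F m ⊓ LinearMap.ker (LinearMap.proj (Sum.inl ⟨0, hm⟩)))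
      (fun v => by simp [Lib.Forms.MaxSingular.stdX, and_comm])
    rw [Finset.card_insert_of_notMem (by simp)] at h
    simp at h
    omega
  have hYs : ∀ y ∈ Y, Lib.Forms.qPlus m y = 0 := fun y hy => hX.2 y (hYX hy)
  obtain ⟨W, hW, hYW, hXW⟩ := Lib.Forms.MaxSingular.exists_through hQ hV hX' hYs
  refine ⟨_, W, hX, hW, ?_⟩
  have hle : Module.finrank F ↥(Lib.Forms.MaxSingular.stdX F m ⊓ W) ≥ Module.finrank F Y :=
    Submodule.finrank_mono (le_inf hYX hYW)
  have hne : Module.finrank F ↥(Lib.Forms.MaxSingular.stdX F m ⊓ W) ≠ m := by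
    intro h
    have e1 : Lib.Forms.MaxSingular.stdX F m ⊓ W = W :=
      Submodule.eq_of_le_of_finrank_le inf_le_right (by rw [hW.1, h])
    have h1 : Lib.Forms.MaxSingular.stdX' F m ⊓ Lib.Forms.MaxSingular.perp (Lib.Forms.qPlus m) Y ≤
        Lib.Forms.MaxSingular.stdX F m ⊓ Lib.Forms.MaxSingular.stdX' F m := fun x hx => by
      have hx' := hXW hx
      rw [← e1] at hx'
      exact ⟨hx'.1, hx.1⟩
    have h2 := Submodule.finrank_mono h1
    rw [Lib.Forms.MaxSingular.stdX_inf, finrank_bot] at h2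
    have h3 := Lib.Forms.MaxSingular.finrank_inf_perp hQ hV hX' Y
    omega
  have h4 : Module.finrank F ↥(Lib.Forms.MaxSingular.stdX F m ⊓ W) ≤
      Module.finrank F (Lib.Forms.MaxSingular.stdX F m) := Submodule.finrank_mono inf_le_left
  rw [hX.1] at h4
  omega

end Cfsg.Agent.S0831
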