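import Cfsg.Statements.S0833
import Cfsg.Agent.Lib.Forms.Tensor
import Cfsg.Agent.Lib.Symplectic.Std

set_option autoImplicit false
open Cfsg

namespace Cfsg.Agent.S0833

/-- If B₁, B₂ are non-degenerate alternating forms on U (dim 2k) and W (dim 2l), then B₁ ⊗ B₂ on U ⊗ W is symmetric, non-degenerate, and vanishes identically on some subspace of dimension 2kl (half of dim U ⊗ W). -/
theorem result {F U W : Type*} [Field F] [Fintype F] [AddCommGroup U] [Module F U] [FiniteDimensional F U] [AddCommGroup W] [Module F W] [FiniteDimensional F W] (B₁ : LinearMap.BilinForm F U) (B₂ : LinearMap.BilinForm F W) (h₁ : B₁.Nondegenerate) (h₂ : B₂.Nondegenerate) (hA₁ : B₁.IsAlt) (hA₂ : B₂.IsAlt) (k l : ℕ) (hU : Module.finrank F U = 2 * k) (hW : Module.finrank F W = 2 * l) : (B₁.tmul B₂).IsSymm ∧ (B₁.tmul B₂).Nondegenerate ∧ (∃ X : Submodule F (TensorProduct F U W), Module.finrank F X = 2 * k * l ∧ ∀ x ∈ X, ∀ y ∈ X, (B₁.tmul B₂) x y = 0) := by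
  have hsymm : (B₁.tmul B₂).IsSymm := by
    refine ⟨fun x y => ?_⟩
    induction x using TensorProduct.induction_on with
    | zero => simp
    | add a b ha hb => simp only [map_add, LinearMap.add_apply, RingHom.id_apply] at ha hb ⊢; rw [ha, hb]
    | tmul u w =>
      induction y using TensorProduct.induction_on with
      | zero => simp
      | add a b ha hb => simp only [map_add, LinearMap.add_apply, RingHom.id_apply] at ha hb ⊢; rw [ha, hb]
      | tmul u' w' =>
        show B₁.tmul B₂ (u ⊗ₜ w) (u' ⊗ₜ w') = B₁.tmul B₂ (u' ⊗ₜ w') (u ⊗ₜ w)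
        rw [Lib.Forms.Tensor.tmul_apply', Lib.Forms.Tensor.tmul_apply',
          ← LinearMap.IsAlt.neg hA₁ u' u, ← LinearMap.IsAlt.neg hA₂ w' w]
        ring
  refine ⟨hsymm, Lib.Forms.Tensor.nondegenerate_tmul h₁ h₂ hsymm, ?_⟩
  have hB₁ : Lib.Symplectic.IsSympForm B₁ := ⟨hA₁, h₁.1⟩
  obtain ⟨e, he⟩ := Lib.Symplectic.exists_isometry hB₁ (Lib.Symplectic.isSympForm_stdForm k F)
    (by rw [hU, Lib.Symplectic.finrank_std])
  let L : Submodule F U := (Lib.Forms.MaxSingular.stdX F k).comap e.toLinearMap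
  have hL : ∀ x ∈ L, ∀ y ∈ L, B₁ x y = 0 := by
    intro x hx y hy
    simp only [L, Lib.Forms.MaxSingular.stdX, Submodule.mem_comap, Submodule.mem_iInf,
      LinearMap.mem_ker, LinearMap.proj_apply, LinearEquiv.coe_coe] at hx hy
    rw [← he, Lib.Symplectic.stdForm_apply]
    exact Finset.sum_eq_zero fun i _ => by rw [hx i, hy i]; ring
  obtain ⟨X, hX, hX'⟩ := Lib.Forms.Tensor.exists_isotropic B₂ L hL
  refine ⟨X, ?_, hX'⟩
  have hLd : Module.finrank F L = k := by
    show Module.finrank F ↥(Submodule.comap e.toLinearMap (Lib.Forms.MaxSingular.stdX F k)) = k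
    rw [Submodule.comap_equiv_eq_map_symm, LinearEquiv.finrank_map_eq,
      Lib.Forms.MaxSingular.isMax_stdX.1]
  rw [hX, hW, hLd]
  ring

end Cfsg.Agent.S0833
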