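import Cfsg.Statements.S0834
import Cfsg.Agent.Lib.Forms.Tensor

set_option autoImplicit false
open Cfsg

namespace Cfsg.Agent.S0834

/-- Over a finite field with 2 ≠ 0: if B₁ on U (dim 2k, k ≥ 1) and B₂ on W (dim 2l, l ≥ 1) are non-degenerate symmetric forms admitting no totally isotropic subspaces of dimensions k, resp. l (minus type), then B₁ ⊗ B₂ admits a totally isotropic subspace of dimension 2kl (plus type). -/
theorem result {F U W : Type*} [Field F] [Fintype F] [AddCommGroup U] [Module F U] [FiniteDimensional F U] [AddCommGroup W] [Module F W] [FiniteDimensional F W] (h2 : (2 : F) ≠ 0) (B₁ : LinearMap.BilinForm F U) (B₂ : LinearMap.BilinForm F W) (h₁ : B₁.Nondegenerate) (h₂ : B₂.Nondegenerate) (hS₁ : B₁.IsSymm) (hS₂ : B₂.IsSymm) (k l : ℕ) (hk : 1 ≤ k) (hl : 1 ≤ l) (hU : Module.finrank F U = 2 * k) (hW : Module.finrank F W = 2 * l) (hm₁ : ¬ (∃ X : Submodule F (U), Module.finrank F X =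 k ∧ ∀ x ∈ X, ∀ y ∈ X, (B₁) x y = 0)) (hm₂ : ¬ (∃ X : Submodule F (W), Module.finrank F X = l ∧ ∀ x ∈ X, ∀ y ∈ X, (B₂) x y = 0)) : (∃ X : Submodule F (TensorProduct F U W), Module.finrank F X = 2 * k * l ∧ ∀ x ∈ X, ∀ y ∈ X, (B₁.tmul B₂) x y = 0) := by
  classical
  obtain ⟨α, hα⟩ := Lib.Forms.exists_nonsq h2
  obtain ⟨a, rfl⟩ : ∃ a, k = a + 1 := ⟨k - 1, by omega⟩
  obtain ⟨b', rfl⟩ : ∃ b', l = b' + 1 := ⟨l - 1, by omega⟩
  obtain ⟨b, hb, -, -⟩ := Lib.Forms.exists_orth_basis_symm h2 hα (2 * a + 1) B₁ hS₁ h₁ (by omega)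
  obtain ⟨c, hc, -, -⟩ := Lib.Forms.exists_orth_basis_symm h2 hα (2 * b' + 1) B₂ hS₂ h₂ (by omega)
  have hs0 : LinearMap.IsSymm (B₁.tmul B₂) :=
    LinearMap.IsSymm.tmul ⟨fun x y => hS₁.eq x y⟩ ⟨fun x y => hS₂.eq x y⟩
  have hs : LinearMap.BilinForm.IsSymm (B₁.tmul B₂) := ⟨fun x y => hs0.eq x y⟩
  refine (Lib.Forms.Tensor.exists_lagrangian_iff h2 hs (Lib.Forms.Tensor.nondegenerate_tmul h₁ h₂ hs0)
    (b.tensorProduct c) (fun i j hij => ?_) _ (by simp; ring)).2 ?_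
  · rw [Module.Basis.tensorProduct_apply', Module.Basis.tensorProduct_apply', Lib.Forms.Tensor.tmul_apply']
    by_cases h1 : i.1 = j.1
    · rw [hc _ _ fun h2 => hij (Prod.ext h1 h2), zero_mul]
    · rw [hb _ _ h1, mul_zero]
  · simp only [Module.Basis.tensorProduct_apply', Lib.Forms.Tensor.tmul_apply', Fintype.prod_prod_type,
      Finset.prod_mul_distrib, Finset.prod_const, Finset.card_univ, Fintype.card_fin, Finset.prod_pow]
    refine ⟨(-1) ^ ((a + 1) * (b' + 1)) * ((∏ j, B₂ (c j) (c j)) ^ (a + 1) *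
      (∏ i, B₁ (b i) (b i)) ^ (b' + 1)), ?_⟩
    ring

end Cfsg.Agent.S0834
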