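import Cfsg.Statements.S0835
import Cfsg.Agent.Lib.Forms.Tensor

set_option autoImplicit false
open Cfsg

namespace Cfsg.Agent.S0835

/-- Over a finite field with 2 ≠ 0: if B₁ on U (dim 2k, k ≥ 1) is non-degenerate symmetric of minus type (no totally isotropic k-subspace) and B₂ on W (dim 2l + 1) is non-degenerate symmetric, then B₁ ⊗ B₂ (dimension 2k(2l+1)) admits no totally isotropic subspace of dimension k(2l+1) (minus type). -/
theorem result {F U W : Type*} [Field F] [Fintype F] [AddCommGroup U] [Module F U] [FiniteDimensional F U] [AddCommGroup W] [Module F W] [FiniteDimensional F W] (h2 : (2 : F) ≠ 0) (B₁ : LinearMap.BilinForm F U) (B₂ : LinearMap.BilinForm F W) (h₁ : B₁.Nondegenerate) (h₂ : B₂.Nondegenerate) (hS₁ : B₁.IsSymm) (hS₂ : B₂.IsSymm) (k l : ℕ) (hk : 1 ≤ k) (hU : Module.finrank F U = 2 * k) (hW : Module.finrank F W = 2 * l + 1) (hm₁ : ¬ (∃ X : Submodule F (U), Module.finrank F X = k ∧ ∀ x ∈ X, ∀ y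 ∈ X, (B₁) x y = 0)) : ¬ (∃ X : Submodule F (TensorProduct F U W), Module.finrank F X = k * (2 * l + 1) ∧ ∀ x ∈ X, ∀ y ∈ X, (B₁.tmul B₂) x y = 0) := by
  classical
  obtain ⟨α, hα⟩ := Lib.Forms.exists_nonsq h2
  obtain ⟨a, rfl⟩ : ∃ a, k = a + 1 := ⟨k - 1, by omega⟩
  obtain ⟨b, hb, -, -⟩ := Lib.Forms.exists_orth_basis_symm h2 hα (2 * a + 1) B₁ hS₁ h₁ (by omega)
  obtain ⟨c, hc, hc1, hc2⟩ := Lib.Forms.exists_orth_basis_symm h2 hα (2 * l) B₂ hS₂ h₂ hW
  have hs0 : LinearMap.IsSymm (B₁.tmul B₂) :=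
    LinearMap.IsSymm.tmul ⟨fun x y => hS₁.eq x y⟩ ⟨fun x y => hS₂.eq x y⟩
  have hs : LinearMap.BilinForm.IsSymm (B₁.tmul B₂) := ⟨fun x y => hs0.eq x y⟩
  rw [Lib.Forms.Tensor.exists_lagrangian_iff h2 hs (Lib.Forms.Tensor.nondegenerate_tmul h₁ h₂ hs0)
    (b.tensorProduct c) (fun i j hij => ?_) _ (by simp; ring)]
  · intro hsq
    have hd : ¬ IsSquare ((-1 : F) ^ (a + 1) * ∏ i, B₁ (b i) (b i)) := fun h =>
      hm₁ ((Lib.Forms.Tensor.exists_lagrangian_iff h2 hS₁ h₁ b hb _ (by simp; ring)).2 h)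
    have hc0 : ∀ j, B₂ (c j) (c j) ≠ 0 := fun j hj => by
      by_cases hl : j = Fin.last (2 * l)
      · subst hl
        rcases hc2 with h | h
        · exact one_ne_zero (h.symm.trans hj)
        · exact hα ((h.symm.trans hj) ▸ IsSquare.zero)
      · exact one_ne_zero ((hc1 j hl).symm.trans hj)
    simp only [Module.Basis.tensorProduct_apply', Lib.Forms.Tensor.tmul_apply', Fintype.prod_prod_type,
      Finset.prod_mul_distrib, Finset.prod_const, Finset.card_univ, Fintype.card_fin, Finset.prod_pow] at hsq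
    obtain ⟨r, hr⟩ := hsq
    set x := (-1 : F) ^ (a + 1) * ∏ i, B₁ (b i) (b i) with hx
    set D := ∏ j, B₂ (c j) (c j) with hD
    have hD0 : D ≠ 0 := Finset.prod_ne_zero_iff.2 fun j _ => hc0 j
    have hx0 : x ≠ 0 := fun h => hd (h ▸ IsSquare.zero)
    have hr' : x * ((x ^ l * D ^ (a + 1)) * (x ^ l * D ^ (a + 1))) = r * r := by
      rw [← hr, hx]; ring
    refine hd ⟨r / (x ^ l * D ^ (a + 1)), ?_⟩
    rw [div_mul_div_comm, ← hr',
      mul_div_cancel_right₀ _ (mul_ne_zero (mul_ne_zero (pow_ne_zero _ hx0) (pow_ne_zero _ hD0))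
        (mul_ne_zero (pow_ne_zero _ hx0) (pow_ne_zero _ hD0)))]
  · rw [Module.Basis.tensorProduct_apply', Module.Basis.tensorProduct_apply', Lib.Forms.Tensor.tmul_apply']
    by_cases h1 : i.1 = j.1
    · rw [hc _ _ fun h2 => hij (Prod.ext h1 h2), zero_mul]
    · rw [hb _ _ h1, mul_zero]

end Cfsg.Agent.S0835
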