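import Cfsg.Statements.S0836
import Cfsg.Agent.Lib.AutPSL.Gen

set_option autoImplicit false
open Cfsg

namespace Cfsg.Agent.S0836

/-- For i ≠ j and any scalar c, the elementary transvection 1 + c E_ij is a commutator ⁅g, h⁆ of two elements of SL_n(F) provided n ≥ 3, or n = 2 and F contains x ≠ 0 with x² ≠ 1. -/
theorem result {F : Type*} [Field F] (n : ℕ) (hn : 3 ≤ n ∨ (n = 2 ∧ ∃ x : F, x ≠ 0 ∧ x ^ 2 ≠ 1)) (i j : Fin n) (hij : i ≠ j) (c : F) (t : Matrix.SpecialLinearGroup (Fin n) F) (ht : (t : Matrix (Fin n) (Fin n) F) = Matrix.transvection i j c) : t ∈ commutatorSet (Matrix.SpecialLinearGroup (Fin n) F) := by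
  obtain rfl : t = Matrix.SpecialLinearGroup.transvection hij c := Subtype.ext ht
  rcases hn with hn | ⟨-, x, hx, hx2⟩
  · obtain ⟨k, hki, hkj⟩ : ∃ k : Fin n, k ≠ i ∧ k ≠ j := by
      by_contra hall
      push Not at hall
      have hsub : (Finset.univ : Finset (Fin n)) ⊆ {i, j} := fun k _ => by
        simp only [Finset.mem_insert, Finset.mem_singleton]
        exact or_iff_not_imp_left.2 (hall k)
      have h := (Finset.card_le_card hsub).trans Finset.card_le_two
      rw [Finset.card_univ, Fintype.card_fin] at h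
      omega
    refine ⟨_, _, (Cfsg.Agent.Lib.AutPSL.commutator_transvection hki.symm hkj hij c 1).trans ?_⟩
    rw [mul_one]
  · refine ⟨_, _, (Cfsg.Agent.Lib.AutPSL.commutator_diag2n_transvection hij x hx
      (c / (x ^ 2 - 1))).trans ?_⟩
    rw [div_mul_cancel₀ c (sub_ne_zero_of_ne hx2)]

end Cfsg.Agent.S0836
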