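import Cfsg.Statements.S0837
import Cfsg.Agent.Lib.Unitary.Basic

set_option autoImplicit false
open Cfsg

namespace Cfsg.Agent.S0837

open Matrix

variable {F : Type*} [Field F] [Fintype F] {q k l n : ℕ}

/-- Glueing two vectors along `e`. -/
def glue (e : Fin k ⊕ Fin l ≃ Fin n) (a : Fin k → F) (b : Fin l → F) : Fin n → F :=
  fun i => Sum.elim a b (e.symm i)

omit [Fintype F] in
theorem herm_glue (e : Fin k ⊕ Fin l ≃ Fin n) (a a' : Fin k → F) (b b' : Fin l → F) :
    hermForm n F q (glue e a b) (glue e a' b') = hermForm k F q a a' + hermForm l F q b b' := by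
  rw [hermForm, ← e.sum_comp, Fintype.sum_sum_type]
  simp [glue, hermForm]

omit [Field F] [Fintype F] in
theorem glue_split (e : Fin k ⊕ Fin l ≃ Fin n) (v : Fin n → F) :
    glue e (fun i => v (e (Sum.inl i))) (fun i => v (e (Sum.inr i))) = v := by
  funext i
  rcases h : e.symm i with j | j <;> simp [glue, h] <;> rw [← h, e.apply_symm_apply]

/-- Block diagonal matrix along `e`. -/
def blk (e : Fin k ⊕ Fin l ≃ Fin n) (A : Matrix (Fin k) (Fin k) F) (B : Matrix (Fin l) (Fin l) F) :
    Matrix (Fin n) (Fin n) F :=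
  (Matrix.fromBlocks A 0 0 B).submatrix e.symm e.symm

omit [Fintype F] in
theorem blk_mulVec (e : Fin k ⊕ Fin l ≃ Fin n) (A : Matrix (Fin k) (Fin k) F)
    (B : Matrix (Fin l) (Fin l) F) (a : Fin k → F) (b : Fin l → F) :
    blk e A B *ᵥ glue e a b = glue e (A *ᵥ a) (B *ᵥ b) := by
  funext i
  rw [blk, Matrix.submatrix_mulVec_equiv, Equiv.symm_symm]
  have : (glue e a b) ∘ e = Sum.elim a b := by funext j; simp [glue]
  rw [this, Function.comp_apply, Matrix.fromBlocks_mulVec]
  simp [glue]

theorem coord_equiv (hF : Fintype.card F = q ^ 2) (e : Fin k ⊕ Fin l ≃ Fin n) (P : GU n F q)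
    (W : Submodule F (Fin n → F))
    (hW : ∀ v, P.1.1 *ᵥ v ∈ W ↔ ∀ j, v (e (Sum.inr j)) = 0) :
    Nonempty (↥((Cfsg.stabilizing (Cfsg.glToMat (Fin n) F) (W : Set (Fin n → F))).subgroupOf
      (Cfsg.GU n F q)) ≃* ↥(Cfsg.GU k F q) × ↥(Cfsg.GU l F q)) := by
  classical
  let B : GU k F q × GU l F q → GU n F q := fun p =>
    Lib.Unitary.mkGU hF (blk e p.1.1.1 p.2.1.1) fun u v => by
      rw [← glue_split e u, ← glue_split e v, blk_mulVec, blk_mulVec, herm_glue, herm_glue,
        Lib.Unitary.GU_herm, Lib.Unitary.GU_herm]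
  let φ : GU k F q × GU l F q →* GU n F q := MonoidHom.mk' (fun p => P * B p * P⁻¹) fun p p' => by
    have : B (p * p') = B p * B p' := by
      refine Subtype.ext (Units.ext ?_)
      show blk e (p.1.1.1 * p'.1.1.1) (p.2.1.1 * p'.2.1.1) = blk e _ _ * blk e _ _
      rw [blk, blk, blk, Matrix.submatrix_mul_equiv, Matrix.fromBlocks_multiply]
      simp
    simp only [this]
    group
  have hinj : Function.Injective φ := by
    intro p p' h
    have h' : B p = B p' := mul_left_cancel (mul_right_cancel (show P * B p * P⁻¹ = P * B p' * P⁻¹ from h))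
    have hM := congrArg (fun A : GU n F q => (A.1.1).submatrix e e) h'
    change (blk e _ _).submatrix e e = (blk e _ _).submatrix e e at hM
    simp only [blk, Matrix.submatrix_submatrix, Equiv.symm_comp_self, Matrix.submatrix_id_id,
      Matrix.fromBlocks_inj] at hM
    exact Prod.ext (Subtype.ext (Units.ext hM.1)) (Subtype.ext (Units.ext hM.2.2.2))
  have key : ∀ g : GU n F q, g ∈ (Cfsg.stabilizing (Cfsg.glToMat (Fin n) F)
      (W : Set (Fin n → F))).subgroupOf (Cfsg.GU n F q) ↔
      ∀ v, (∀ j, v (e (Sum.inr j)) = 0) ↔ ∀ j, ((P⁻¹ * g * P).1.1 *ᵥ v) (e (Sum.inr j)) = 0 := by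
    intro g
    have hX : ∀ v, P.1.1 *ᵥ ((P⁻¹ * g * P).1.1 *ᵥ v) = g.1.1 *ᵥ (P.1.1 *ᵥ v) := fun v => by
      rw [Lib.Unitary.GU_mul_mulVec, Lib.Unitary.GU_mul_mulVec, Lib.Unitary.GU_mulVec_inv]
    constructor
    · intro h v
      rw [← hW, ← hW, hX]
      exact h _
    · intro h v
      have h1 := h (P⁻¹.1.1 *ᵥ v)
      rw [← hW, ← hW, hX, Lib.Unitary.GU_mulVec_inv] at h1
      exact h1
  have hrange : φ.range = (Cfsg.stabilizing (Cfsg.glToMat (Fin n) F)
      (W : Set (Fin n → F))).subgroupOf (Cfsg.GU n F q) := by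
    ext g
    constructor
    · rintro ⟨p, rfl⟩
      rw [key]
      intro v
      have : P⁻¹ * φ p * P = B p := by simp [φ, mul_assoc]
      rw [this]
      show _ ↔ ∀ j, (blk e _ _ *ᵥ v) _ = 0
      conv_rhs => rw [← glue_split e v, blk_mulVec]
      simp only [glue, Equiv.symm_apply_apply, Sum.elim_inr]
      refine ⟨fun h j => ?_, fun h => ?_⟩
      · rw [show (fun i => v (e (Sum.inr i))) = 0 from funext h, Matrix.mulVec_zero]; rfl
      · have h0 : p.2.1.1 *ᵥ (fun i => v (e (Sum.inr i))) = 0 := funext h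
        intro j
        have := Lib.Unitary.GU_inv_mulVec (v := fun i => v (e (Sum.inr i))) p.2
        rw [h0, Matrix.mulVec_zero] at this
        exact (congrFun this j).symm
    · intro hg
      rw [key] at hg
      set X := P⁻¹ * g * P with hXdef
      have h21 : ∀ a, ∀ j, (X.1.1 *ᵥ glue e a 0) (e (Sum.inr j)) = 0 :=
        fun a => (hg _).1 fun j => by simp [glue]
      have h12 : ∀ b, ∀ i, (X.1.1 *ᵥ glue e 0 b) (e (Sum.inl i)) = 0 := by
        intro b i
        set u := X⁻¹.1.1 *ᵥ glue e (Pi.single i 1) 0 with hu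
        have hu0 : ∀ j, u (e (Sum.inr j)) = 0 := (hg u).2 fun j => by
          rw [hu, Lib.Unitary.GU_mulVec_inv]; simp [glue]
        have h1 := Lib.Unitary.GU_herm (u := glue e 0 b) (v := u) X
        rw [hu, Lib.Unitary.GU_mulVec_inv, ← hu] at h1
        rw [← glue_split e (X.1.1 *ᵥ glue e 0 b), herm_glue, ← glue_split e u, herm_glue] at h1
        rw [show (fun j => u (e (Sum.inr j))) = 0 from funext hu0] at h1
        simpa [hermForm, zero_pow (Lib.Unitary.q_ne_zero hF), Pi.single_apply,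
          Lib.Unitary.zero_pow_q hF] using h1
      let A : Matrix (Fin k) (Fin k) F := X.1.1.submatrix (e ∘ Sum.inl) (e ∘ Sum.inl)
      let D : Matrix (Fin l) (Fin l) F := X.1.1.submatrix (e ∘ Sum.inr) (e ∘ Sum.inr)
      have hX : X.1.1 = blk e A D := by
        have h21' : ∀ i j, X.1.1 (e (Sum.inr j)) (e (Sum.inl i)) = 0 := fun i j => by
          have := h21 (Pi.single i 1) j
          have hs : glue e (Pi.single i (1 : F)) 0 = Pi.single (e (Sum.inl i)) 1 := by
            funext t; obtain ⟨s, rfl⟩ := e.surjective t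
            rcases s with s | s <;> simp [glue, Pi.single_apply]
          rw [hs] at this
          simpa using this
        have h12' : ∀ i j, X.1.1 (e (Sum.inl i)) (e (Sum.inr j)) = 0 := fun i j => by
          have := h12 (Pi.single j 1) i
          have hs : glue e 0 (Pi.single j (1 : F)) = Pi.single (e (Sum.inr j)) 1 := by
            funext t; obtain ⟨s, rfl⟩ := e.surjective t
            rcases s with s | s <;> simp [glue, Pi.single_apply]
          rw [hs] at this
          simpa using this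
        ext a b
        obtain ⟨s, rfl⟩ := e.surjective a
        obtain ⟨t, rfl⟩ := e.surjective b
        rcases s with s | s <;> rcases t with t | t <;> simp [blk, A, D, h12', h21']
      have hA : ∀ u v, hermForm k F q (A *ᵥ u) (A *ᵥ v) = hermForm k F q u v := fun u v => by
        have h := Lib.Unitary.GU_herm (u := glue e u 0) (v := glue e v 0) X
        rw [hX, blk_mulVec, blk_mulVec, herm_glue, herm_glue] at h
        simpa [hermForm] using h
      have hD : ∀ u v, hermForm l F q (D *ᵥ u) (D *ᵥ v) = hermForm l F q u v := fun u v => by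
        have h := Lib.Unitary.GU_herm (u := glue e 0 u) (v := glue e 0 v) X
        rw [hX, blk_mulVec, blk_mulVec, herm_glue, herm_glue] at h
        simpa [hermForm] using h
      refine ⟨(Lib.Unitary.mkGU hF A hA, Lib.Unitary.mkGU hF D hD), ?_⟩
      have hB : B (Lib.Unitary.mkGU hF A hA, Lib.Unitary.mkGU hF D hD) = X :=
        Subtype.ext (Units.ext hX.symm)
      show P * B _ * P⁻¹ = g
      rw [hB, hXdef]
      group
  exact ⟨((MonoidHom.ofInjective hinj).trans (MulEquiv.subgroupCongr hrange)).symm⟩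

/-- If W ≤ F^n (|F| = q²) is a k-dimensional subspace on which the Hermitian form Σ x_i y_i^q is non-degenerate, then the stabiliser of W in GU_n(q) is isomorphic to GU_k(q) × GU_(n−k)(q). -/
theorem result {F : Type*} [Field F] [Fintype F] {q : ℕ} (hF : Fintype.card F = q ^ 2) (n k : ℕ) (hk : k ≤ n) (W : Submodule F (Fin n → F)) (hWk : Module.finrank F W = k) (hW : ∀ u ∈ W, (∀ v ∈ W, Cfsg.hermForm n F q u v = 0) → u = 0) : Nonempty (↥((Cfsg.stabilizing (Cfsg.glToMat (Fin n) F) (W : Set (Fin n → F))).subgroupOf (Cfsg.GU n F q)) ≃* ↥(Cfsg.GU k F q) × ↥(Cfsg.GU (n - k) F q)) := by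
  classical
  obtain ⟨f, hf, hfW, hspan⟩ := Lib.Unitary.exists_orthonormal_of_nondeg hF k W hWk hW
  obtain ⟨g, hg, hgf⟩ := Lib.Unitary.orthonormal_extend hF (Nat.add_sub_cancel' hk) hf
  let e : Fin k ⊕ Fin (n - k) ≃ Fin n := finSumFinEquiv.trans (finCongr (Nat.add_sub_cancel' hk))
  have hb : Lib.Unitary.Orthonormal' q (Sum.elim f g ∘ e.symm) := by
    intro a b
    obtain ⟨s, rfl⟩ := e.surjective a
    obtain ⟨t, rfl⟩ := e.surjective b
    rcases s with i | i <;> rcases t with j | j
    · simpa using hf i j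
    · simpa using Lib.Unitary.herm_eq_zero_symm hF (hgf j i)
    · simpa using hgf i j
    · simpa using hg i j
  obtain ⟨P, hP⟩ := Lib.Unitary.exists_GU_cols hF hb
  refine coord_equiv hF e P W fun v => ?_
  have hPv : P.1.1 *ᵥ v = ∑ i, v (e (Sum.inl i)) • f i + ∑ j, v (e (Sum.inr j)) • g j := by
    conv_lhs => rw [pi_eq_sum_univ' v]
    rw [Matrix.mulVec_sum, ← e.sum_comp, Fintype.sum_sum_type]
    simp [Matrix.mulVec_smul, hP]
  rw [hPv]
  have hm : ∑ i, v (e (Sum.inl i)) • f i ∈ W := sum_mem fun i _ => W.smul_mem _ (hfW i)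
  rw [W.add_mem_iff_right hm]
  constructor
  · intro h j
    have h0 : Cfsg.hermForm n F q (∑ t, v (e (Sum.inr t)) • g t) (g j) = v (e (Sum.inr j)) :=
      Lib.Unitary.orthonormal_coeff hg _ j
    rw [← h0]
    generalize (∑ t, v (e (Sum.inr t)) • g t) = w at h
    rw [← hspan, Submodule.mem_span_range_iff_exists_fun] at h
    obtain ⟨c, rfl⟩ := h
    simp [Lib.Unitary.herm_sum_left, Lib.Unitary.herm_smul_left,
      fun i => Lib.Unitary.herm_eq_zero_symm hF (hgf j i)]
  · intro h; simp [h]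

end Cfsg.Agent.S0837
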