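import Cfsg.Statements.S0838
import Cfsg.Agent.Lib.Forms.Count

set_option autoImplicit false
open Cfsg

namespace Cfsg.Agent.S0838

open Cfsg.Agent.Lib.Forms in
theorem model {F : Type*} [Field F] [Fintype F] {n : ℕ} (hn : Odd n)
    (Q : QuadraticForm F (Fin n → F)) (hQ : (QuadraticMap.polarBilin Q).Nondegenerate) :
    ∃ (m : ℕ) (c : F), c ≠ 0 ∧ n = 2 * m + 1 ∧
      Q.Equivalent ((qPlus m).prod (qOne c)) := by
  obtain ⟨k, hk⟩ := hn
  rcases classify Q ((nondeg_iff Q).1 hQ) with ⟨m, h, -⟩ | ⟨m, c, hc, -, h, he⟩ | ⟨m, a, b, -, h, -⟩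
  · rw [Module.finrank_fin_fun] at h; omega
  · rw [Module.finrank_fin_fun] at h; exact ⟨m, c, hc, h, he⟩
  · rw [Module.finrank_fin_fun] at h; omega

/-- Scaling the first half of the coordinates. -/
noncomputable def scaleLeft {F : Type*} [Field F] (m : ℕ) {c : F} (hc : c ≠ 0) :
    (Fin m ⊕ Fin m → F) ≃ₗ[F] (Fin m ⊕ Fin m → F) where
  toFun v := Sum.elim (fun i => c * v (.inl i)) fun i => v (.inr i)
  map_add' u v := by ext (i | i) <;> simp [mul_add]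
  map_smul' a v := by ext (i | i) <;> simp [mul_left_comm]
  invFun v := Sum.elim (fun i => c⁻¹ * v (.inl i)) fun i => v (.inr i)
  left_inv v := by ext (i | i) <;> simp [hc]
  right_inv v := by ext (i | i) <;> simp [hc]

/-- Over a finite field with 2 ≠ 0 and n odd: two quadratic forms Q₁, Q₂ on F^n with non-degenerate polar forms are similar — there are an invertible linear map g and a scalar c ≠ 0 with Q₂ (g v) = c · Q₁ v for all v. -/
theorem result {F : Type*} [Field F] [Fintype F] (h2 : (2 : F) ≠ 0) {n : ℕ} (hn : Odd n) (Q₁ Q₂ : QuadraticForm F (Fin n → F)) (h₁ : (QuadraticMap.polarBilin Q₁).Nondegenerate) (h₂ : (QuadraticMap.polarBilin Q₂).Nondegenerate) : ∃ (g : (Fin n → F) ≃ₗ[F] (Fin n → F)) (c : F), c ≠ 0 ∧ ∀ v, Q₂ (g v) = c * Q₁ v := by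
  obtain ⟨m, c₁, hc₁, hn₁, ⟨e₁⟩⟩ := model hn Q₁ h₁
  obtain ⟨m₂, c₂, hc₂, hn₂, ⟨e₂⟩⟩ := model hn Q₂ h₂
  obtain rfl : m₂ = m := by omega
  have hc : c₂ / c₁ ≠ 0 := div_ne_zero hc₂ hc₁
  refine ⟨(e₁.toLinearEquiv.trans ((scaleLeft m₂ hc).prodCongr (LinearEquiv.refl F F))).trans
    e₂.toLinearEquiv.symm, c₂ / c₁, hc, fun v => ?_⟩
  have h₁' := e₁.map_app v
  rw [LinearEquiv.trans_apply, LinearEquiv.trans_apply, ← e₂.map_app]
  show ((Cfsg.Agent.Lib.Forms.qPlus m₂).prod (Cfsg.Agent.Lib.Forms.qOne c₂))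
    (e₂.toLinearEquiv (e₂.toLinearEquiv.symm _)) = _
  rw [LinearEquiv.apply_symm_apply, ← h₁']
  change ((Cfsg.Agent.Lib.Forms.qPlus m₂).prod (Cfsg.Agent.Lib.Forms.qOne c₂))
    (scaleLeft m₂ hc (e₁ v).1, (e₁ v).2) = c₂ / c₁ *
      ((Cfsg.Agent.Lib.Forms.qPlus m₂).prod (Cfsg.Agent.Lib.Forms.qOne c₁)) (e₁ v)
  simp only [QuadraticMap.prod_apply, Cfsg.Agent.Lib.Forms.qPlus_apply,
    Cfsg.Agent.Lib.Forms.qOne_apply, scaleLeft, LinearEquiv.coe_mk, LinearMap.coe_mk,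
    AddHom.coe_mk, Sum.elim_inl, Sum.elim_inr, mul_add, Finset.mul_sum]
  congr 1
  · exact Finset.sum_congr rfl fun i _ => by ring
  · field_simp

end Cfsg.Agent.S0838
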