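import Cfsg.Statements.S0839
-- import your own Cfsg.Agent.* helpers here

set_option autoImplicit false
open Cfsg

namespace Cfsg.Agent.S0839

open Matrix
/-- A matrix of determinant one with prescribed nonzero first row. -/
theorem exists_first_row {F : Type*} [Field F] (n : ℕ) {w : Fin (n + 2) → F} {k : Fin (n + 2)}
    (hk : w k ≠ 0) :
    ∃ h : Matrix.SpecialLinearGroup (Fin (n + 2)) F,
      (h : Matrix (Fin (n + 2)) (Fin (n + 2)) F) 0 = w := by
  have hw : w = ∑ i, w i • (1 : Matrix (Fin (n + 2)) (Fin (n + 2)) F) i := by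
    ext j
    simp [Matrix.one_apply, Finset.sum_apply]
  set A : Matrix (Fin (n + 2)) (Fin (n + 2)) F :=
    ((1 : Matrix (Fin (n + 2)) (Fin (n + 2)) F).updateRow k w).submatrix (Equiv.swap 0 k) id with hA
  have hA0 : A 0 = w := by
    ext j
    simp [hA]
  have hdet : A.det ≠ 0 := by
    rw [hA, Matrix.det_permute, mul_ne_zero_iff]
    refine ⟨?_, ?_⟩
    · rcases Int.units_eq_one_or (Equiv.Perm.sign (Equiv.swap (0 : Fin (n + 2)) k)) with h | h <;>
        simp [h]
    · rw [hw, Matrix.det_updateRow_sum, Matrix.det_one, smul_eq_mul, mul_one]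
      exact hk
  refine ⟨⟨A.updateRow 1 (A.det⁻¹ • A 1), ?_⟩, ?_⟩
  · rw [Matrix.det_updateRow_smul, Matrix.updateRow_eq_self, inv_mul_cancel₀ hdet]
  · show A.updateRow 1 (A.det⁻¹ • A 1) 0 = w
    rw [Matrix.updateRow_ne (zero_ne_one), hA0]

/-- Every transvection t ∈ SL_(n+2)(F) (rank(t − 1) = 1, (t − 1)² = 0) is conjugate in SL_(n+2)(F) to 1 + v·e_0ᵀ for some column vector v with v_0 = 0 (the group A of matrices that are the identity except in the first column below the diagonal); the dimension is written n + 2 ≥ 2. -/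
theorem result {F : Type*} [Field F] (n : ℕ) (t : Matrix.SpecialLinearGroup (Fin (n + 2)) F) (ht : Cfsg.IsTransvection (t : Matrix (Fin (n + 2)) (Fin (n + 2)) F)) : ∃ (g : Matrix.SpecialLinearGroup (Fin (n + 2)) F) (v : Fin (n + 2) → F), v 0 = 0 ∧ ((g⁻¹ * t * g : Matrix.SpecialLinearGroup (Fin (n + 2)) F) : Matrix (Fin (n + 2)) (Fin (n + 2)) F) = 1 + Matrix.vecMulVec v (Pi.single 0 1) := by
  obtain ⟨hrank, hsq⟩ := ht
  set M := (t : Matrix (Fin (n + 2)) (Fin (n + 2)) F) - 1 with hMdef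
  -- a rank one matrix is a product of a column and a row
  have hfin : Module.finrank F (LinearMap.range M.mulVecLin) = 1 := hrank
  obtain ⟨⟨u, hu⟩, hu0, hspan⟩ := finrank_eq_one_iff'.1 hfin
  have hcol : ∀ j, ∃ a : F, a • u = M *ᵥ Pi.single j 1 := fun j => by
    obtain ⟨a, ha⟩ := hspan ⟨M *ᵥ Pi.single j 1, ⟨Pi.single j 1, rfl⟩⟩
    exact ⟨a, congrArg Subtype.val ha⟩
  choose w hw using hcol
  have hM : M = Matrix.vecMulVec u w := by
    ext i j
    have := congrFun (hw j) i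
    simp only [Pi.smul_apply, smul_eq_mul, Matrix.mulVec_single_one, Matrix.col_apply] at this
    rw [Matrix.vecMulVec_apply, ← this, mul_comm]
  have hu' : u ≠ 0 := fun h => hu0 (Subtype.ext h)
  have hw0 : w ≠ 0 := by
    intro h
    rw [hM, h, Matrix.vecMulVec_zero, Matrix.rank_zero] at hrank
    exact zero_ne_one hrank
  have hwu : w ⬝ᵥ u = 0 := by
    rw [hM, Matrix.vecMulVec_mul_vecMulVec, Matrix.vecMulVec_eq_zero] at hsq
    rcases hsq with h | h
    · exact absurd h hu'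
    · exact (smul_eq_zero.1 h).resolve_right hw0
  obtain ⟨k, hk⟩ := Function.ne_iff.1 hw0
  obtain ⟨h, hh⟩ := exists_first_row n hk
  refine ⟨h⁻¹, (h : Matrix (Fin (n + 2)) (Fin (n + 2)) F) *ᵥ u, ?_, ?_⟩
  · show (h : Matrix (Fin (n + 2)) (Fin (n + 2)) F) 0 ⬝ᵥ u = 0
    rw [hh, hwu]
  · rw [inv_inv, Matrix.SpecialLinearGroup.coe_mul, Matrix.SpecialLinearGroup.coe_mul,
      show (t : Matrix (Fin (n + 2)) (Fin (n + 2)) F) = 1 + Matrix.vecMulVec u w by
        rw [← hM, hMdef, add_sub_cancel],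
      mul_add, add_mul, mul_one, ← Matrix.SpecialLinearGroup.coe_mul, mul_inv_cancel,
      Matrix.SpecialLinearGroup.coe_one, Matrix.mul_vecMulVec, Matrix.vecMulVec_mul]
    congr 2
    have hrow : w = Pi.single 0 1 ᵥ* (h : Matrix (Fin (n + 2)) (Fin (n + 2)) F) := by
      rw [Matrix.single_one_vecMul, ← hh]
      rfl
    rw [hrow, Matrix.vecMul_vecMul, ← Matrix.SpecialLinearGroup.coe_mul, mul_inv_cancel,
      Matrix.SpecialLinearGroup.coe_one, Matrix.vecMul_one]

end Cfsg.Agent.S0839
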