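import Cfsg.Statements.S0841
import Mathlib

set_option autoImplicit false
open Cfsg
open scoped commutatorElement

namespace Cfsg.Agent.S0841

theorem aux_two_mul (n : ℕ) : (n + 1) * (n + 1 - 1) / 2 = n + n * (n - 1) / 2 := by
  rcases n with _ | m
  · simp
  · simp only [Nat.add_sub_cancel]
    have h : (m + 1 + 1) * (m + 1) = (m + 1) * m + (m + 1) * 2 := by ring
    rw [h, Nat.add_mul_div_right _ _ two_pos]
    ring

/-- If the commutator subgroup of G lies in the centre, then for all x, y in G and every natural number n one has (x * y) ^ n = x ^ n * y ^ n * c ^ (n * (n - 1) / 2) with c = y⁻¹ * x⁻¹ * y * x. -/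
theorem result {G : Type*} [Group G] (hG : commutator G ≤ Subgroup.center G) (x y : G) (n : ℕ) : (x * y) ^ n = x ^ n * y ^ n * (y⁻¹ * x⁻¹ * y * x) ^ (n * (n - 1) / 2) := by
  set c := y⁻¹ * x⁻¹ * y * x with hc
  have hcc : c ∈ Subgroup.center G := by
    apply hG
    have h : c = ⁅y⁻¹, x⁻¹⁆ := by rw [hc, commutatorElement_def]; group
    rw [h, commutator_def]
    exact Subgroup.commutator_mem_commutator (Subgroup.mem_top _) (Subgroup.mem_top _)
  have hcg : ∀ g : G, Commute c g := fun g => (Subgroup.mem_center_iff.mp hcc g).symm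
  have hyx : y * x = x * y * c := by rw [hc]; group
  have key : ∀ m : ℕ, y ^ m * x = x * y ^ m * c ^ m := by
    intro m
    induction m with
    | zero => simp
    | succ m ih =>
      calc y ^ (m + 1) * x = y * (y ^ m * x) := by rw [pow_succ']; group
        _ = y * x * (y ^ m * c ^ m) := by rw [ih]; group
        _ = x * y * (c * y ^ m) * c ^ m := by rw [hyx]; group
        _ = x * y * (y ^ m * c) * c ^ m := by rw [(hcg (y ^ m)).eq]
        _ = x * y ^ (m + 1) * c ^ (m + 1) := by rw [pow_succ', pow_succ']; group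
  induction n with
  | zero => simp
  | succ n ih =>
    have hp : Commute (c ^ (n * (n - 1) / 2)) (x * y) := (hcg _).pow_left _
    calc (x * y) ^ (n + 1) = x ^ n * (y ^ n * c ^ (n * (n - 1) / 2) * (x * y)) := by
            rw [pow_succ, ih]; group
      _ = x ^ n * (y ^ n * ((x * y) * c ^ (n * (n - 1) / 2))) := by rw [mul_assoc, hp.eq]
      _ = x ^ n * ((y ^ n * x) * y) * c ^ (n * (n - 1) / 2) := by group
      _ = x ^ n * (x * y ^ n * (c ^ n * y)) * c ^ (n * (n - 1) / 2) := by rw [key]; group
      _ = x ^ n * (x * y ^ n * (y * c ^ n)) * c ^ (n * (n - 1) / 2) := by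
            rw [((hcg y).pow_left n).eq]
      _ = x ^ (n + 1) * y ^ (n + 1) * c ^ ((n + 1) * (n + 1 - 1) / 2) := by
            rw [aux_two_mul, pow_add, pow_succ, pow_succ]; group

end Cfsg.Agent.S0841
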