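import Cfsg.Statements.S0849
import Mathlib

set_option autoImplicit false
open Cfsg

namespace Cfsg.Agent.S0849

open scoped Classical in
/-- Let H be a subgroup of a finite group G and S a subset of H that is mapped to itself under conjugation by H, is disjoint from its conjugate by any element outside H, and is closed under inverses. Let φ be a class function of H vanishing on H away from S, and let u, v be involutions of G. Then the sum of the induced function of φ over all products a * b with a conjugate to u and b conjugate to v equals the index of H times the sum of φ (a * b) over such pairs with a and b in H. -/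
theorem result {G : Type*} [Group G] [Fintype G] (H : Subgroup G) (S : Set G) (hSH : S ⊆ H) (hHS : ∀ h ∈ H, ∀ s ∈ S, h * s * h⁻¹ ∈ S) (hTI : ∀ g : G, g ∉ H → ∀ s ∈ S, g * s * g⁻¹ ∉ S) (hinv : ∀ s ∈ S, s⁻¹ ∈ S) (φ : H → ℂ) (hφ : Cfsg.IsClassFunction H φ) (hφS : ∀ x : H, (x : G) ∉ S → φ x = 0) (u v : G) (hu : orderOf u = 2) (hv : orderOf v = 2) : ∑ᶠ p ∈ {p : G × G | IsConj u p.1 ∧ IsConj v p.2}, Cfsg.indFun H φ (p.1 * p.2) = (H.index : ℂ) * ∑ᶠ p ∈ {p : H × H | IsConj u (p.1 : G) ∧ IsConj v (p.2 : G)}, φ (p.1 * p.2) := by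
  let f : G → G → ℂ := fun a b =>
    if IsConj u a ∧ IsConj v b then extendByZero H φ (a * b) else 0
  have hconj : ∀ (w x a : G), IsConj w (x⁻¹ * a * x) ↔ IsConj w a := by
    intro w x a
    constructor
    · intro h
      exact h.trans (isConj_iff.mpr ⟨x, by group⟩)
    · intro h
      exact h.trans (isConj_iff.mpr ⟨x⁻¹, by group⟩)
  have hA : ∑ᶠ p ∈ {p : G × G | IsConj u p.1 ∧ IsConj v p.2}, Cfsg.indFun H φ (p.1 * p.2)
      = (Nat.card H : ℂ)⁻¹ * ((Nat.card G : ℂ) * ∑ p : G × G, f p.1 p.2) := by
    rw [finsum_mem_eq_toFinset_sum, Set.toFinset_setOf, Finset.sum_filter]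
    have h0 : ∀ p : G × G, (if IsConj u p.1 ∧ IsConj v p.2 then Cfsg.indFun H φ (p.1 * p.2) else 0)
        = (Nat.card H : ℂ)⁻¹ * ∑ x : G, f (x⁻¹ * p.1 * x) (x⁻¹ * p.2 * x) := by
      intro p
      simp only [f, hconj]
      split_ifs with h
      · rw [indFun]
        congr 1
        refine Finset.sum_congr rfl fun x _ => ?_
        congr 1
        group
      · simp
    rw [Finset.sum_congr rfl fun p _ => h0 p, ← Finset.mul_sum, Finset.sum_comm]
    congr 1
    have h1 : ∀ x : G, ∑ p : G × G, f (x⁻¹ * p.1 * x) (x⁻¹ * p.2 * x) = ∑ p : G × G, f p.1 p.2 := by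
      intro x
      refine Fintype.sum_equiv
        (((MulAut.conj x⁻¹).toEquiv).prodCongr ((MulAut.conj x⁻¹).toEquiv)) _ _ ?_
      intro p
      simp
    rw [Finset.sum_congr rfl fun x _ => h1 x, Finset.sum_const, Finset.card_univ, nsmul_eq_mul,
      Nat.card_eq_fintype_card]
  have hsq : ∀ {a : G}, IsConj u a → a * a = 1 := by
    intro a h
    obtain ⟨c, hc⟩ := isConj_iff.mp h
    have : u * u = 1 := by rw [← pow_two, ← hu, pow_orderOf_eq_one]
    rw [← hc]
    calc c * u * c⁻¹ * (c * u * c⁻¹) = c * (u * u) * c⁻¹ := by group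
      _ = 1 := by rw [this]; group
  have hsqv : ∀ {a : G}, IsConj v a → a * a = 1 := by
    intro a h
    obtain ⟨c, hc⟩ := isConj_iff.mp h
    have : v * v = 1 := by rw [← pow_two, ← hv, pow_orderOf_eq_one]
    rw [← hc]
    calc c * v * c⁻¹ * (c * v * c⁻¹) = c * (v * v) * c⁻¹ := by group
      _ = 1 := by rw [this]; group
  have hB : ∑ p : G × G, f p.1 p.2
      = ∑ᶠ p ∈ {p : H × H | IsConj u (p.1 : G) ∧ IsConj v (p.2 : G)}, φ (p.1 * p.2) := by
    rw [finsum_mem_eq_toFinset_sum, Set.toFinset_setOf, Finset.sum_filter]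
    symm
    refine Fintype.sum_of_injective (fun p : H × H => ((p.1 : G), (p.2 : G))) ?_ _ _ ?_ ?_
    · intro p q hpq
      simp only [Prod.mk.injEq, SetLike.coe_eq_coe] at hpq
      exact Prod.ext hpq.1 hpq.2
    · intro p hp
      by_contra hne
      simp only [f] at hne
      split_ifs at hne with h
      · have hmem : p.1 * p.2 ∈ S := by
          by_contra hS
          apply hne
          rw [extendByZero]
          by_cases hH : p.1 * p.2 ∈ H
          · rw [show p.1 * p.2 = ((⟨p.1 * p.2, hH⟩ : H) : G) from rfl,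
              Subtype.val_injective.extend_apply]
            exact hφS _ hS
          · rw [Function.extend_apply']
            · rfl
            · rintro ⟨q, hq⟩
              exact hH (hq ▸ q.2)
        have h1 : p.1 ∈ H := by
          by_contra h1
          apply hTI p.1 h1 _ hmem
          have e1 : p.1⁻¹ = p.1 := inv_eq_of_mul_eq_one_left (hsq h.1)
          have e2 : p.2⁻¹ = p.2 := inv_eq_of_mul_eq_one_left (hsqv h.2)
          have : p.1 * (p.1 * p.2) * p.1⁻¹ = (p.1 * p.2)⁻¹ := by
            rw [mul_inv_rev, e1, e2, ← mul_assoc p.1 p.1, hsq h.1, one_mul]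
          rw [this]
          exact hinv _ hmem
        have h2 : p.2 ∈ H := by
          have := H.mul_mem (H.inv_mem h1) (hSH hmem)
          rwa [inv_mul_cancel_left] at this
        exact hp ⟨(⟨p.1, h1⟩, ⟨p.2, h2⟩), rfl⟩
      · exact hne rfl
    · intro p
      simp only [f]
      split_ifs with h
      · rw [extendByZero, show (p.1 : G) * (p.2 : G) = ((p.1 * p.2 : H) : G) from rfl,
          Subtype.val_injective.extend_apply]
      · rfl
  rw [hA, hB, ← mul_assoc]
  congr 1
  have hH : (Nat.card H : ℂ) ≠ 0 := by exact_mod_cast Nat.card_pos.ne'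
  rw [← Subgroup.index_mul_card H]
  push_cast
  field_simp

end Cfsg.Agent.S0849
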