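import Cfsg.Statements.S0851
import Cfsg.Agent.Lib.Clifford.TICoherent
import Cfsg.Agent.Lib.Clifford.Ito
import Cfsg.Agent.S0170

set_option autoImplicit false
open Cfsg

namespace Cfsg.Agent.S0851

/-- Let K be a subgroup of the finite group G that meets each conjugate by an element outside its normalizer N trivially, is properly contained in N, and contains the centralizer of each of its non-identity elements (a T.I. subgroup with Frobenius normalizer). Suppose K is abelian, let e be the index of K in N, and call an irreducible character of N relevant when it takes at some element of K a value different from its degree. Then either there is exactly one relevant character and K is an elementary abelian p-group of order e + 1 for some prime p, or there are a sign ε and an injective map f from the relevant characters to the irreducible characters of G such that inducing χ - ξ to G gives ε (f χ - f ξ) for all relevant χ and ξ. -/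
theorem result {G : Type*} [Group G] [Fintype G] (K : Subgroup G) (hTI : ∀ g : G, g ∉ Subgroup.normalizer (K : Set G) → ∀ k ∈ K, g * k * g⁻¹ ∈ K → k = 1) (hlt : K < Subgroup.normalizer (K : Set G)) (hC : ∀ k ∈ K, k ≠ 1 → Subgroup.centralizer ({k} : Set G) ≤ K) (hab : ∀ a ∈ K, ∀ b ∈ K, a * b = b * a) : (Nat.card {χ : Cfsg.IrrCharacter (Subgroup.normalizer (K : Set G)) // ∃ k : Subgroup.normalizer (K : Set G), (k : G) ∈ K ∧ (χ : ↥(Subgroup.normalizer (K : Set G)) → ℂ) k ≠ (χ : ↥(Subgroup.normalizer (K : Set G)) → ℂ) 1} = 1 ∧ ∃ p : ℕ, p.Prime ∧ Cfsg.IsElementaryAbelian p K ∧ Nat.card K = (K.subgroupOf (Subgroup.normalizer (K : Set G))).index + 1) ∨ ∃ (ε : ℂ) (f : {χ : Cfsg.IrrCharacter (Subgroup.normalizer (K : Set G)) // ∃ k : Subgroup.normalizer (K : Set G), (k : G) ∈ K ∧ (χ : ↥(Subgroup.normalizer (K : Set G)) → ℂ) k ≠ (χ : ↥(Subgroup.normalizer (K : Set G)) → ℂ) 1} → Cfsg.IrrCharacter G), (ε = 1 ∨ ε = -1) ∧ Function.Injective f ∧ ∀ χ ξ, Cfsg.indFun (Subgroup.normalizer (K : Set G)) ((χ.1 : ↥(Subgroup.normalizer (K : Set G)) →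 ℂ) - (ξ.1 : ↥(Subgroup.normalizer (K : Set G)) → ℂ)) = ε • ((f χ : G → ℂ) - (f ξ : G → ℂ)) := by
  classical
  set K' : Subgroup (Subgroup.normalizer (K : Set G)) := K.subgroupOf (Subgroup.normalizer (K : Set G)) with hK'
  have := Fintype.ofFinite (Cfsg.IrrCharacter (Subgroup.normalizer (K : Set G)))
  let P : Cfsg.IrrCharacter (Subgroup.normalizer (K : Set G)) → Prop := fun χ => Lib.Clifford.KernelChars.Rel K' (χ : (Subgroup.normalizer (K : Set G)) → ℂ)
  show (Nat.card {χ // P χ} = 1 ∧ _) ∨ ∃ (ε : ℂ) (f : {χ // P χ} → Cfsg.IrrCharacter G), _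
  set s := Finset.univ.filter P with hs
  have hcard : Nat.card {χ // P χ} = s.card := by
    rw [Nat.card_eq_fintype_card, Fintype.card_subtype]
  have hC' := Lib.Clifford.TICoherent.self_centralizing K hC
  have habN : ∀ a ∈ K', ∀ b ∈ K', a * b = b * a := fun a ha b hb =>
    Subtype.ext (hab a ha b hb)
  have hcen : ∀ k ∈ K', k ≠ 1 → Nat.card (Subgroup.centralizer ({k} : Set (Subgroup.normalizer (K : Set G)))) = Nat.card K' := by
    intro k hk hk1
    have : Subgroup.centralizer ({k} : Set (Subgroup.normalizer (K : Set G))) = K' := by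
      ext x
      rw [Subgroup.mem_centralizer_singleton_iff]
      exact ⟨fun h => hC' k hk hk1 x h, fun h => habN x h k hk⟩
    rw [this]
  -- counting the relevant characters
  have hscard : (s.card : ℂ) * (K'.index : ℂ) = (Nat.card K' : ℂ) - 1 := by
    have hrow : ∀ χ ∈ s, ∑ k : K', (χ : (Subgroup.normalizer (K : Set G)) → ℂ) k * starRingEnd ℂ ((χ : (Subgroup.normalizer (K : Set G)) → ℂ) k) =
        Nat.card (Subgroup.normalizer (K : Set G)) := by
      intro χ hχ
      have hv : ∀ {x}, x ∉ K' → (χ : (Subgroup.normalizer (K : Set G)) → ℂ) x = 0 := fun hx =>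
        Lib.Clifford.KernelChars.vanish K' hC' χ (Finset.mem_filter.mp hχ).2 hx
      have h := Lib.Characters.Basic.classInner_self_irr χ
      rw [Cfsg.classInner, inv_mul_eq_one₀ Lib.Induced.Basic.natCard_ne_zero] at h
      rw [h, ← Finset.sum_filter_of_ne (p := fun x => x ∈ K') (fun x _ hx => by
        by_contra hn
        exact hx (by rw [hv hn, zero_mul]))]
      exact (Finset.sum_subtype (Finset.univ.filter (· ∈ K')) (by simp)
        (fun x => (χ : (Subgroup.normalizer (K : Set G)) → ℂ) x * starRingEnd ℂ ((χ : (Subgroup.normalizer (K : Set G)) → ℂ) x))).symm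
    have htot := Finset.sum_congr rfl hrow
    rw [Finset.sum_comm, Finset.sum_const, nsmul_eq_mul,
      ← Finset.add_sum_erase _ _ (Finset.mem_univ (1 : K')),
      Finset.sum_congr rfl (fun χ _ => by
        show _ = (χ : (Subgroup.normalizer (K : Set G)) → ℂ) 1 ^ 2
        rw [OneMemClass.coe_one,
          Lib.Characters.Basic.conj_apply_one (Lib.Characters.Basic.isCharacter_irr χ), sq]),
      Lib.Clifford.KernelChars.sum_rel_sq K',
      Finset.sum_congr rfl (fun k hk => by
        rw [Lib.Clifford.KernelChars.sum_rel_norm K' k.2,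
          hcen k k.2 (fun e => Finset.ne_of_mem_erase hk (Subtype.ext e))]),
      Finset.sum_const, nsmul_eq_mul, Finset.card_erase_of_mem (Finset.mem_univ _),
      Finset.card_univ, ← Nat.card_eq_fintype_card, Nat.cast_sub Nat.card_pos, Nat.cast_one,
      ← K'.card_mul_index, Nat.cast_mul] at htot
    refine mul_left_cancel₀ (Lib.Induced.Basic.natCard_ne_zero (G := K')) ?_
    linear_combination -htot
  -- all relevant characters have degree the index
  choose d hd hdvd using fun χ : Cfsg.IrrCharacter (Subgroup.normalizer (K : Set G)) =>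
    Lib.Clifford.Ito.degree_dvd_index K' habN χ
  have hdeg : ∀ χ ∈ s, d χ = K'.index := by
    have hle : ∀ χ ∈ s, d χ ^ 2 ≤ K'.index ^ 2 := fun χ _ => Nat.pow_le_pow_left
      (Nat.le_of_dvd (Nat.pos_of_ne_zero Subgroup.index_ne_zero_of_finite) (hdvd χ)) 2
    have hsum : ∑ χ ∈ s, d χ ^ 2 = ∑ χ ∈ s, K'.index ^ 2 := by
      have h := Lib.Clifford.KernelChars.sum_rel_sq K'
      simp only [hd] at h
      rw [← hscard] at h
      apply Nat.cast_injective (R := ℂ)
      rw [Finset.sum_const, smul_eq_mul, Nat.cast_sum]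
      push_cast
      linear_combination h
    intro χ hχ
    exact (Nat.pow_left_injective two_ne_zero) ((Finset.sum_eq_sum_iff_of_le hle).mp hsum χ hχ)
  rcases Nat.lt_or_ge s.card 2 with hlt2 | hge
  · rcases Nat.lt_or_ge s.card 1 with h0 | h1
    · right
      have : IsEmpty {χ // P χ} := Finite.card_eq_zero_iff.mp (by omega)
      exact ⟨1, fun x => this.elim x, Or.inl rfl, fun x => this.elim x, fun x => this.elim x⟩
    · left
      have hone : s.card = 1 := by omega
      refine ⟨by omega, ?_⟩
      have hK : Nat.card K' = K'.index + 1 := by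
        rw [hone, Nat.cast_one, one_mul, eq_sub_iff_add_eq] at hscard
        exact_mod_cast hscard.symm
      have hKK : Nat.card K' = Nat.card K :=
        Nat.card_congr (Subgroup.subgroupOfEquivOfLe Subgroup.le_normalizer).toEquiv
      have hidx : 0 < K'.index := Nat.pos_of_ne_zero Subgroup.index_ne_zero_of_finite
      have hne : Nat.card K' ≠ 1 := by omega
      obtain ⟨p, hp, hpdvd⟩ := Nat.exists_prime_and_dvd hne
      have := Fact.mk hp
      obtain ⟨z, hz⟩ := exists_prime_orderOf_dvd_card' (G := K') p hpdvd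
      have hz1 : (z : (Subgroup.normalizer (K : Set G))) ≠ 1 := fun e => hp.one_lt.ne' (by
        rw [← hz, orderOf_eq_one_iff]; exact Subtype.ext e)
      -- all non-identity elements of `K` are conjugate in the normalizer
      have hconj : ∀ x ∈ K', x ≠ 1 → IsConj (z : (Subgroup.normalizer (K : Set G))) x := by
        have h := Lib.Characters.Complete.card_conjugates_mul_centralizer (z : (Subgroup.normalizer (K : Set G)))
        rw [hcen _ z.2 hz1, ← K'.card_mul_index, mul_comm] at h
        have hc := Nat.eq_of_mul_eq_mul_left Nat.card_pos h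
        have hsub : {x : (Subgroup.normalizer (K : Set G)) | IsConj (z : (Subgroup.normalizer (K : Set G))) x} ⊆ (K' : Set (Subgroup.normalizer (K : Set G))) \ {1} := by
          intro x hx
          obtain ⟨c, rfl⟩ := isConj_iff.mp hx
          refine ⟨Subgroup.Normal.conj_mem inferInstance _ z.2 c, fun e => hz1 ?_⟩
          exact conj_eq_one_iff.mp e
        have heq := Set.eq_of_subset_of_ncard_le hsub (by
          rw [Set.ncard_sdiff_singleton_of_mem K'.one_mem, ← Nat.card_coe_set_eq,
            ← Nat.card_coe_set_eq]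
          show Nat.card K' - 1 ≤ _
          rw [show Nat.card {x : (Subgroup.normalizer (K : Set G)) | IsConj (z : (Subgroup.normalizer (K : Set G))) x} = K'.index from hc]
          omega) (Set.toFinite _)
        intro x hx hx1
        exact heq.symm.subset ⟨hx, hx1⟩
      refine ⟨p, hp, ⟨⟨⟨fun a b => Subtype.ext (hab a a.2 b b.2)⟩⟩, ?_⟩, by omega⟩
      intro a ha
      by_cases ha1 : a = 1
      · simp [ha1]
      obtain ⟨c, hc⟩ := isConj_iff.mp (hconj ⟨a, Subgroup.le_normalizer ha⟩ ha
        (fun e => ha1 (congrArg Subtype.val e)))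
      have hzp : (z : (Subgroup.normalizer (K : Set G))) ^ p = 1 := by
        rw [← Subgroup.coe_pow, ← hz, pow_orderOf_eq_one, OneMemClass.coe_one]
      have : (⟨a, Subgroup.le_normalizer ha⟩ : (Subgroup.normalizer (K : Set G))) ^ p = 1 := by
        rw [← hc, conj_pow, hzp, mul_one, mul_inv_cancel]
      exact congrArg Subtype.val this
  · right
    let eqv : {χ // P χ} ≃ Fin s.card := (Finite.equivFin _).trans (finCongr hcard)
    obtain ⟨ε, hε, θ, hθ, hinj, hind⟩ := Cfsg.Agent.S0170.result (G := G) (K : Set G)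
      Subgroup.le_normalizer hTI s.card hge (fun i => ((eqv.symm i).1 : (Subgroup.normalizer (K : Set G)) → ℂ))
      (fun i => (eqv.symm i).1.2)
      (fun i j h => eqv.symm.injective (Subtype.ext (Subtype.ext h)))
      (fun i x hx => Lib.Clifford.KernelChars.vanish K' hC' (eqv.symm i).1 (eqv.symm i).2 hx)
      (fun i j => by
        simp only [hd, hdeg _ (Finset.mem_filter.mpr ⟨Finset.mem_univ _, (eqv.symm i).2⟩),
          hdeg _ (Finset.mem_filter.mpr ⟨Finset.mem_univ _, (eqv.symm j).2⟩)])
    refine ⟨ε, fun (χ : {χ // P χ}) => ⟨θ (eqv χ), hθ _⟩, hε, fun a b h => eqv.injective (hinj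
      (congrArg Subtype.val h)), fun χ ξ => ?_⟩
    have := hind (eqv χ) (eqv ξ)
    erw [Equiv.symm_apply_apply, Equiv.symm_apply_apply] at this
    exact (Lib.Induced.Basic.indFun_sub _ _ _).trans this

end Cfsg.Agent.S0851
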