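import Cfsg.Statements.S0855
import Cfsg.Agent.Lib.Clifford.Ito
import Cfsg.Agent.Lib.Clifford.Linear
import Cfsg.Agent.Lib.Characters.Linear
import Cfsg.Agent.Lib.Characters.Complete

set_option autoImplicit false
open Cfsg

namespace Cfsg.Agent.S0855

open Cfsg.Agent.Lib Cfsg.Agent.Lib.Characters.Basic Cfsg.Agent.Lib.Characters
open Cfsg.Agent.Lib.Clifford.Basic

universe u

/-- Degrees that are powers of `p` descend to normal subgroups. -/
theorem degrees_descend {G : Type u} [Group G] [Finite G] (p : ℕ) (hp : p.Prime)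
    (M : Subgroup G) [M.Normal]
    (h : ∀ χ : Cfsg.IrrCharacter G, ∃ k : ℕ, (χ : G → ℂ) 1 = (p : ℂ) ^ k)
    (θ : Cfsg.IrrCharacter M) : ∃ k : ℕ, (θ : M → ℂ) 1 = (p : ℂ) ^ k := by
  classical
  have := Fintype.ofFinite G
  have hind := Induced.Character.isCharacter_indFun M (isCharacter_irr θ)
  have hne : Cfsg.indFun M (θ : M → ℂ) ≠ 0 := by
    intro h0
    have h1 := congrFun h0 1
    rw [Induced.Basic.indFun_one, Pi.zero_apply, mul_eq_zero] at h1
    exact degree_pos θ.2 (h1.resolve_left (Nat.cast_ne_zero.mpr Subgroup.index_ne_zero_of_finite))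
  obtain ⟨χ, hχ⟩ := exists_constituent hind hne
  rw [Induced.Basic.frobenius_reciprocity M _ (isClassFunction_irr χ)] at hχ
  have hdeg := clifford_degree M χ.2 θ (classInner_ne_zero_symm hχ)
  obtain ⟨e, he⟩ := exists_classInner_nat (isCharacter_comp M.subtype (isCharacter_irr χ))
    (isCharacter_irr θ)
  have he' : Cfsg.classInner (fun m : M => (χ : G → ℂ) m) θ = (e : ℂ) := he
  obtain ⟨d, -, hd⟩ := exists_degree_pos θ
  obtain ⟨k, hk⟩ := h χ
  rw [hk, he', hd] at hdeg
  have h2 : p ^ k = e * (inertia M (θ : M → ℂ)).index * d := by exact_mod_cast hdeg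
  obtain ⟨i, -, hi⟩ := (Nat.dvd_prime_pow hp).mp (Dvd.intro_left _ h2.symm : d ∣ p ^ k)
  exact ⟨i, by rw [hd, hi]; push_cast; rfl⟩

/-- `p` divides the index of the derived subgroup. -/
theorem dvd_index_commutator {G : Type u} [Group G] [Finite G] (p : ℕ) (hp : p.Prime)
    (h : ∀ χ : Cfsg.IrrCharacter G, ∃ k : ℕ, (χ : G → ℂ) 1 = (p : ℂ) ^ k)
    (hdvd : p ∣ Nat.card G) : p ∣ (commutator G).index := by
  classical
  have := Fintype.ofFinite (Cfsg.IrrCharacter G)
  choose k hk using h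
  have hsum : ∑ χ : Cfsg.IrrCharacter G, (p ^ k χ) ^ 2 = Nat.card G := by
    have := Complete.finsum_degree_sq (G := G)
    simp only [finsum_eq_sum_of_fintype, hk] at this
    exact_mod_cast this
  have hsplit := Finset.sum_filter_add_sum_filter_not (Finset.univ : Finset (Cfsg.IrrCharacter G))
    (fun χ => k χ = 0) (fun χ => (p ^ k χ) ^ 2)
  have h0 : ∑ χ ∈ Finset.univ.filter (fun χ : Cfsg.IrrCharacter G => k χ = 0), (p ^ k χ) ^ 2
      = (commutator G).index := by
    rw [Finset.sum_congr rfl (g := fun _ => 1) (fun χ hχ => by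
      rw [(Finset.mem_filter.mp hχ).2]; simp), Finset.sum_const, smul_eq_mul, mul_one,
      ← Linear.card_linear, Nat.card_eq_fintype_card, Fintype.card_subtype]
    congr 1
    refine Finset.filter_congr fun χ _ => ?_
    rw [hk]
    constructor
    · intro h0; rw [h0, pow_zero]
    · intro h1
      have h2 : p ^ k χ = 1 := by exact_mod_cast h1
      exact (Nat.pow_eq_one.mp h2).resolve_left hp.ne_one
  have h1 : p ∣ ∑ χ ∈ Finset.univ.filter (fun χ : Cfsg.IrrCharacter G => ¬ k χ = 0), (p ^ k χ) ^ 2 :=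
    Finset.dvd_sum fun χ hχ => dvd_pow (dvd_pow_self p (Finset.mem_filter.mp hχ).2) two_ne_zero
  rw [← hsum, ← hsplit, h0] at hdvd
  exact (Nat.dvd_add_left h1).mp hdvd

/-- A group all of whose irreducible characters are linear is abelian. -/
theorem comm_of_linear {G : Type u} [Group G] [Finite G]
    (h : ∀ χ : Cfsg.IrrCharacter G, (χ : G → ℂ) 1 = 1) (a b : G) : a * b = b * a := by
  rw [← inv_mul_eq_one]
  refine Complete.eq_one_of_forall_irr fun χ => ?_
  rw [← Linear.degOneHom_apply (isCharacter_irr χ) (h χ),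
    ← Linear.degOneHom_apply (isCharacter_irr χ) (h χ), map_one, map_mul, map_inv, map_mul,
    map_mul, mul_comm (Linear.degOneHom _ (h χ) b), inv_mul_cancel]

/-- The hard direction. -/
theorem exists_complement (p : ℕ) (hp : p.Prime) : ∀ (n : ℕ) {G : Type u} [Group G] [Finite G],
    Nat.card G = n → (∀ χ : Cfsg.IrrCharacter G, ∃ k : ℕ, (χ : G → ℂ) 1 = (p : ℂ) ^ k) →
    ∃ A : Subgroup G, A.Normal ∧ (∀ a ∈ A, ∀ b ∈ A, a * b = b * a) ∧
      Nat.Coprime (Nat.card A) p ∧ ∃ k : ℕ, A.index = p ^ k := by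
  intro n
  induction n using Nat.strong_induction_on with
  | _ n ih =>
  intro G _ _ hn h
  have : Fact p.Prime := ⟨hp⟩
  by_cases hdvd : p ∣ Nat.card G
  swap
  · refine ⟨⊤, inferInstance, fun a _ b _ => comm_of_linear (fun χ => ?_) a b, ?_, 0, by simp⟩
    · obtain ⟨d, -, hd, hd'⟩ := Degree.exists_degree_dvd χ
      obtain ⟨k, hk⟩ := h χ
      rw [hd', ← Nat.cast_pow, Nat.cast_inj] at hk
      rw [hd']
      rcases k with _ | k
      · simp [hk]
      · exact absurd ((hk ▸ dvd_pow_self p k.succ_ne_zero : p ∣ d).trans hd) hdvd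
    · rw [Subgroup.card_top]
      exact ((Nat.Prime.coprime_iff_not_dvd hp).mpr hdvd).symm
  have hidx := dvd_index_commutator p hp h hdvd
  have hlin : Nat.card (G →* ℂˣ) = (commutator G).index := by
    rw [← Linear.card_linear]
    exact Nat.card_congr (Linear.linEquiv G)
  have : Finite (G →* ℂˣ) := Nat.finite_of_card_ne_zero (hlin ▸ Subgroup.index_ne_zero_of_finite)
  obtain ⟨μ, hμ⟩ := exists_prime_orderOf_dvd_card' p (hlin ▸ hidx : p ∣ Nat.card (G →* ℂˣ))
  have hrange : IsPGroup p μ.range := by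
    intro x
    refine ⟨1, ?_⟩
    obtain ⟨g, hg⟩ := x.2
    refine Subtype.ext ?_
    rw [SubmonoidClass.coe_pow, ← hg, pow_one, ← MonoidHom.pow_apply, ← hμ, pow_orderOf_eq_one]
    rfl
  have : Finite μ.range := Finite.of_surjective _ μ.rangeRestrict_surjective
  obtain ⟨j, hj⟩ := IsPGroup.iff_card.mp hrange
  set M := μ.ker with hM
  have hMidx : M.index = p ^ j := by rw [hM, Subgroup.index_ker, hj]
  have hMlt : Nat.card M < n := by
    rw [← hn]
    refine lt_of_le_of_ne (Subgroup.card_le_card_group M) fun heq => ?_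
    have h1 : μ = 1 := MonoidHom.ext fun g => by
      have hg : g ∈ M := by rw [Subgroup.eq_top_of_card_eq M heq]; trivial
      exact MonoidHom.mem_ker.mp hg
    rw [h1, orderOf_one] at hμ
    exact hp.ne_one hμ.symm
  obtain ⟨A, hAn, hAab, hAcop, k, hAk⟩ := ih _ hMlt (G := M) rfl (degrees_descend p hp M h)
  have hA_mem : ∀ x : M, Nat.Coprime (orderOf x) p → x ∈ A := by
    intro x hx
    rw [← QuotientGroup.eq_one_iff, ← orderOf_eq_one_iff]
    have h1 : orderOf (x : M ⧸ A) ∣ p ^ k := by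
      rw [← hAk, Subgroup.index_eq_card]
      exact _root_.orderOf_dvd_natCard _
    exact Nat.eq_one_of_dvd_coprimes (hx.pow_right k) (orderOf_map_dvd (QuotientGroup.mk' A) x) h1
  refine ⟨A.map M.subtype, ⟨?_⟩, ?_, ?_, k + j, ?_⟩
  · rintro _ ⟨x, hx, rfl⟩ g
    refine ⟨MulAut.conjNormal g x, hA_mem _ ?_, MulAut.conjNormal_apply g x⟩
    rw [MulEquiv.orderOf_eq]
    exact hAcop.coprime_dvd_left (Subgroup.orderOf_dvd_natCard A hx)
  · rintro _ ⟨a, ha, rfl⟩ _ ⟨b, hb, rfl⟩
    rw [← map_mul, hAab a ha b hb, map_mul]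
  · rwa [Subgroup.card_subtype]
  · rw [Subgroup.index_map_subtype, hAk, hMidx, pow_add]

/-- For a finite group G and a prime p: every irreducible character of G has degree a power of p if and only if G has an abelian normal subgroup whose order is prime to p and whose index is a power of p. -/
theorem result {G : Type*} [Group G] [Finite G] (p : ℕ) (hp : p.Prime) : (∀ χ : Cfsg.IrrCharacter G, ∃ k : ℕ, (χ : G → ℂ) 1 = (p : ℂ) ^ k) ↔ ∃ A : Subgroup G, A.Normal ∧ (∀ a ∈ A, ∀ b ∈ A, a * b = b * a) ∧ Nat.Coprime (Nat.card A) p ∧ ∃ k : ℕ, A.index = p ^ k := by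
  refine ⟨exists_complement p hp _ rfl, ?_⟩
  rintro ⟨A, hAn, hAab, -, k, hk⟩ χ
  obtain ⟨d, hd, hdvd⟩ := Clifford.Ito.degree_dvd_index A hAab χ
  rw [hk] at hdvd
  obtain ⟨i, -, rfl⟩ := (Nat.dvd_prime_pow hp).mp hdvd
  exact ⟨i, by rw [hd, Nat.cast_pow]⟩

end Cfsg.Agent.S0855
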