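import Cfsg.Statements.S0858
import Cfsg.Agent.Lib.Clifford.GoingDown
import Cfsg.Agent.Lib.Brauer.PermChar

set_option autoImplicit false
open Cfsg

namespace Cfsg.Agent.S0858

open Cfsg.Agent.Lib Cfsg.Agent.Lib.Characters.Basic Cfsg.Agent.Lib.Clifford.Basic

universe u

/-- The induction. -/
theorem main : ∀ (n : ℕ) {G : Type u} [Group G] [Fintype G], Nat.card G = n →
    ∀ (N : Subgroup G) [N.Normal], (∀ M : Subgroup G, N < M → ⁅M, M⁆ ⊔ N < M) →
    (∀ (H K L : Subgroup G), N ≤ L → L < K → K ≤ H → (∀ h ∈ H, ∀ k ∈ K, h * k * h⁻¹ ∈ K) →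
      (∀ h ∈ H, ∀ l ∈ L, h * l * h⁻¹ ∈ L) →
      (∀ M : Subgroup G, L ≤ M → M ≤ K → (∀ h ∈ H, ∀ m ∈ M, h * m * h⁻¹ ∈ M) → M = L ∨ M = K) →
      ¬ IsSquare (L.relIndex K)) →
    ∀ (χ : G → ℂ), Cfsg.IsIrrCharacter G χ →
    ∃ (H : Subgroup G) (hNH : N ≤ H) (ψ : H → ℂ), Cfsg.IsIrrCharacter H ψ ∧
      Cfsg.indFun H ψ = χ ∧ Cfsg.IsIrrCharacter N (fun n : N => ψ ⟨(n : G), hNH n.2⟩) := by
  intro n
  induction n using Nat.strong_induction_on with
  | _ n ih =>
  intro G _ _ hn N _ hder hchief χ hχ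
  classical
  -- smallest normal subgroup above `N` with irreducible restriction
  have hex : ∃ (m : ℕ) (M : Subgroup G), Nat.card M = m ∧ M.Normal ∧ N ≤ M ∧
      Cfsg.IsIrrCharacter M (fun x : M => χ x) :=
    ⟨_, ⊤, rfl, inferInstance, le_top,
      isIrrCharacter_comp (⊤ : Subgroup G).subtype (fun g => ⟨⟨g, trivial⟩, rfl⟩) hχ⟩
  obtain ⟨M, hMc, hMn, hNM, hMirr⟩ := Nat.find_spec hex
  rcases hNM.eq_or_lt with hEq | hlt
  · subst hEq
    refine ⟨⊤, le_top, χ ∘ (⊤ : Subgroup G).subtype,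
      isIrrCharacter_comp _ (fun g => ⟨⟨g, trivial⟩, rfl⟩) hχ, ?_, hMirr⟩
    funext g
    exact Brauer.PermChar.indFun_top _
      (isClassFunction_irr ⟨_, isIrrCharacter_comp _ (fun g => ⟨⟨g, trivial⟩, rfl⟩) hχ⟩) g
  -- an abelian chief factor `M / L`
  have hex2 : ∃ (m : ℕ) (L : Subgroup G), M.index + m = N.index ∧ L.Normal ∧ ⁅M, M⁆ ⊔ N ≤ L ∧ L < M := by
    refine ⟨N.index - M.index, ⁅M, M⁆ ⊔ N, ?_, ?_, le_rfl, hder M hlt⟩
    · have := Subgroup.index_antitone hNM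
      omega
    · infer_instance
  have hLex : ∃ L : Subgroup G, (L.Normal ∧ ⁅M, M⁆ ⊔ N ≤ L ∧ L < M) ∧
      ∀ L' : Subgroup G, (L'.Normal ∧ ⁅M, M⁆ ⊔ N ≤ L' ∧ L' < M) → L ≤ L' → L' = L := by
    obtain ⟨m, L₀, -, hL₀⟩ := hex2
    obtain ⟨L, hL⟩ := (Set.toFinite {L : Subgroup G | L.Normal ∧ ⁅M, M⁆ ⊔ N ≤ L ∧ L < M}).exists_maximal
      ⟨L₀, hL₀⟩
    exact ⟨L, hL.1, fun L' h1 h2 => le_antisymm (hL.2 h1 h2) h2⟩
  obtain ⟨L, ⟨hLn, hNL, hLM⟩, hLmax⟩ := hLex
  have hNL' : N ≤ L := le_sup_right.trans hNL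
  have hchiefM : ∀ M' : Subgroup G, M'.Normal → L ≤ M' → M' ≤ M → M' = L ∨ M' = M := by
    intro M' hM'n h1 h2
    rcases h2.eq_or_lt with h | h
    · exact Or.inr h
    · exact Or.inl (hLmax M' ⟨hM'n, hNL.trans h1, h⟩ h1)
  have hsq : ¬ IsSquare (L.relIndex M) := by
    refine hchief ⊤ M L hNL' hLM le_top (fun h _ k hk => hMn.conj_mem k hk h)
      (fun h _ l hl => hLn.conj_mem l hl h) fun M' h1 h2 h3 => hchiefM M' ⟨fun m hm g => h3 g trivial m hm⟩ h1 h2
  have hresL : (fun x : L => (fun y : M => χ y) ⟨(x : G), hLM.le x.2⟩) = fun x : L => χ x := rfl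
  rcases Clifford.GoingDown.going_down M L hLM.le hchiefM (le_sup_left.trans hNL) ⟨_, hMirr⟩
      (fun g => conjC_restrict M (isClassFunction_irr ⟨χ, hχ⟩) g) with h | ⟨φ, e, -, -, he⟩ | ⟨F, hF, hFc, h⟩
  · exfalso
    rw [hresL] at h
    have h1 := Nat.find_min' hex ⟨L, rfl, hLn, hNL', h⟩
    rw [← hMc] at h1
    exact hLM.ne (Subgroup.eq_of_le_of_card_ge hLM.le h1)
  · exact absurd ⟨e, by rw [← he, pow_two]⟩ hsq
  -- the sum case
  rw [hresL] at h
  have hidx : 1 < L.relIndex M := by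
    have h1 : L.relIndex M ≠ 1 := fun h1 => hLM.not_ge (Subgroup.relIndex_eq_one.mp h1)
    have h2 : L.relIndex M ≠ 0 := Subgroup.index_ne_zero_of_finite
    omega
  obtain ⟨φ₁, hφ₁, φ₂, hφ₂, hne⟩ := Finset.one_lt_card.mp (hFc ▸ hidx)
  have hinner : ∀ φ ∈ F, Cfsg.classInner (fun x : L => χ x) φ = 1 := by
    intro φ hφ
    rw [h, classInner_sum_left, Finset.sum_eq_single φ]
    · exact classInner_self_irr ⟨φ, hF φ hφ⟩
    · intro b hb hbne
      exact classInner_irr_of_ne (χ := ⟨b, hF b hb⟩) (ψ := ⟨φ, hF φ hφ⟩)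
        fun e => hbne (congrArg Subtype.val e)
    · exact fun hc => absurd hφ hc
  let θ : Cfsg.IrrCharacter L := ⟨φ₁, hF φ₁ hφ₁⟩
  have hθ : Cfsg.classInner (fun x : L => χ x) θ ≠ 0 := by
    show Cfsg.classInner _ φ₁ ≠ 0
    rw [hinner φ₁ hφ₁]
    exact one_ne_zero
  set T := inertia L (θ : L → ℂ) with hT
  have hLT : L ≤ T := le_inertia L (isClassFunction_irr θ)
  have hNT : N ≤ T := hNL'.trans hLT
  have hTne : T ≠ ⊤ := by
    intro htop
    obtain ⟨g, hg⟩ := exists_conj_of_constituents L hχ (θ := θ) (ψ := ⟨φ₂, hF φ₂ hφ₂⟩) hθ (by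
      show Cfsg.classInner _ φ₂ ≠ 0
      rw [hinner φ₂ hφ₂]
      exact one_ne_zero)
    have h2 : conjC L g θ = (θ : L → ℂ) := (mem_inertia L).mp (hT ▸ htop ▸ Subgroup.mem_top g : g ∈ inertia L (θ : L → ℂ))
    rw [h2] at hg
    exact hne hg
  obtain ⟨ψ, hψ, hψind, -, -⟩ := exists_correspondent L hχ θ hθ T hT hLT
  -- apply induction to `T`
  have hcard : Nat.card T < n := by
    rw [← hn]
    refine lt_of_le_of_ne (Subgroup.card_le_card_group T) fun h => hTne ?_
    exact Subgroup.eq_top_of_card_eq T h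
  have hNTn : (N.subgroupOf T).Normal := Subgroup.normal_subgroupOf
  have hmapN : (N.subgroupOf T).map T.subtype = N := by
    rw [Subgroup.subgroupOf_map_subtype, inf_eq_left.mpr hNT]
  obtain ⟨H, hNH, ξ, hξ, hξind, hξN⟩ := ih (Nat.card T) hcard (G := T) rfl (N.subgroupOf T)
    (fun M' hM' => by
      have h1 : N < M'.map T.subtype := hmapN ▸ Subgroup.map_subtype_lt_map_subtype.mpr hM'
      have h2 := hder _ h1
      rw [← Subgroup.map_subtype_lt_map_subtype, Subgroup.map_sup, Subgroup.map_commutator, hmapN]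
      exact h2)
    (fun H' K' L' hN' hlt' hle' hK'n hL'n hch => by
      have h1 := hchief (H'.map T.subtype) (K'.map T.subtype) (L'.map T.subtype)
        (hmapN ▸ Subgroup.map_mono hN') (Subgroup.map_subtype_lt_map_subtype.mpr hlt')
        (Subgroup.map_mono hle')
        (by rintro _ ⟨a, ha, rfl⟩ _ ⟨b, hb, rfl⟩; exact ⟨a * b * a⁻¹, hK'n a ha b hb, by simp⟩)
        (by rintro _ ⟨a, ha, rfl⟩ _ ⟨b, hb, rfl⟩; exact ⟨a * b * a⁻¹, hL'n a ha b hb, by simp⟩)
        (fun M' hM1 hM2 hM3 => by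
          have hM' : M' ≤ T := hM2.trans (Subgroup.map_subtype_le _)
          have e : (M'.subgroupOf T).map T.subtype = M' := by
            rw [Subgroup.subgroupOf_map_subtype, inf_eq_left.mpr hM']
          have := hch (M'.subgroupOf T)
            (fun x hx => Subgroup.mem_subgroupOf.mpr (hM1 ⟨x, hx, rfl⟩))
            (fun x hx => by
              obtain ⟨y, hy, hyx⟩ := hM2 (Subgroup.mem_subgroupOf.mp hx)
              rwa [show y = x from Subtype.ext hyx] at hy)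
            (fun a ha m hm => Subgroup.mem_subgroupOf.mpr
              (hM3 _ ⟨a, ha, rfl⟩ _ (Subgroup.mem_subgroupOf.mp hm)))
          rcases this with h | h
          · exact Or.inl (e ▸ congrArg (Subgroup.map T.subtype) h)
          · exact Or.inr (e ▸ congrArg (Subgroup.map T.subtype) h))
      rwa [Subgroup.relIndex_map_map_of_injective _ _ (Subgroup.subtype_injective T)] at h1)
    ψ hψ
  let eH := H.equivMapOfInjective T.subtype Subtype.val_injective
  refine ⟨H.map T.subtype, ?_, fun k => ξ (eH.symm k),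
    isIrrCharacter_comp eH.symm.toMonoidHom eH.symm.surjective hξ, ?_, ?_⟩
  · rw [← hmapN]
    exact Subgroup.map_mono hNH
  · rw [← Brauer.PermChar.indFun_indFun T H ξ, hξind, hψind]
  · let toN : N →* N.subgroupOf T := (Subgroup.subgroupOfEquivOfLe hNT).symm.toMonoidHom
    have hs : Function.Surjective toN := (Subgroup.subgroupOfEquivOfLe hNT).symm.surjective
    have h3 := isIrrCharacter_comp toN hs hξN
    convert h3 using 1
    funext x
    show ξ (eH.symm _) = ξ _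
    congr 1
    rw [MulEquiv.symm_apply_eq]
    exact Subtype.ext rfl

/-- Let N be a normal subgroup of the finite group G with G / N solvable, and suppose that for every subgroup H containing N and all subgroups L < K between N and H that are normal in H with no subgroup normal in H strictly between them, the index of L in K is not a perfect square. Then every irreducible character χ of G is induced from an irreducible character ψ of some subgroup H containing N such that the restriction of ψ to N is irreducible. -/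
theorem result {G : Type*} [Group G] [Fintype G] (N : Subgroup G) [N.Normal] (hsolv : Group.IsSolvable (G ⧸ N)) (hchief : ∀ (H K L : Subgroup G), N ≤ L → L < K → K ≤ H → (∀ h ∈ H, ∀ k ∈ K, h * k * h⁻¹ ∈ K) → (∀ h ∈ H, ∀ l ∈ L, h * l * h⁻¹ ∈ L) → (∀ M : Subgroup G, L ≤ M → M ≤ K → (∀ h ∈ H, ∀ m ∈ M, h * m * h⁻¹ ∈ M) → M = L ∨ M = K) → ¬ IsSquare (L.relIndex K)) (χ : G → ℂ) (hχ : Cfsg.IsIrrCharacter G χ) : ∃ (H : Subgroup G) (hNH : N ≤ H) (ψ : H → ℂ), Cfsg.IsIrrCharacter H ψ ∧ Cfsg.indFun H ψ = χ ∧ Cfsg.IsIrrCharacter N (fun n : N => ψ ⟨(n : G), hNH n.2⟩) := by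
  refine main (Nat.card G) rfl N (fun M hM => ?_) hchief χ hχ
  have hq : M.map (QuotientGroup.mk' N) ≠ ⊥ := by
    rw [Ne, Subgroup.map_eq_bot_iff, QuotientGroup.ker_mk']
    exact hM.not_ge
  have h := Group.IsSolvable.commutator_lt_of_ne_bot hq
  refine lt_of_le_of_ne (sup_le (Subgroup.commutator_le_self M) hM.le) fun he => h.ne ?_
  conv_rhs => rw [← he, Subgroup.map_sup, Subgroup.map_commutator, QuotientGroup.map_mk'_self,
    sup_bot_eq]

end Cfsg.Agent.S0858
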