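import Cfsg.Statements.S0859
import Cfsg.Agent.Lib.Clifford.Monomial

set_option autoImplicit false
open Cfsg

namespace Cfsg.Agent.S0859

open Cfsg.Agent.Lib Cfsg.Agent.Lib.Characters.Basic Cfsg.Agent.Lib.Clifford

/-- Let G be a finite solvable group and N a normal subgroup such that for every prime p every Sylow p-subgroup of N is abelian. Suppose every irreducible character of G is induced from an irreducible character of some subgroup containing N whose restriction to N is irreducible. Then every irreducible character of G is induced from a character of degree 1 of some subgroup. -/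
theorem result {G : Type*} [Group G] [Fintype G] [Group.IsSolvable G] (N : Subgroup G) [N.Normal] (hab : ∀ (p : ℕ) [Fact p.Prime] (P : Sylow p N), ∀ a ∈ P, ∀ b ∈ P, a * b = b * a) (hrel : ∀ χ : G → ℂ, Cfsg.IsIrrCharacter G χ → ∃ (H : Subgroup G) (hNH : N ≤ H) (ψ : H → ℂ), Cfsg.IsIrrCharacter H ψ ∧ Cfsg.indFun H ψ = χ ∧ Cfsg.IsIrrCharacter N (fun n : N => ψ ⟨(n : G), hNH n.2⟩)) (χ : G → ℂ) (hχ : Cfsg.IsIrrCharacter G χ) : ∃ (U : Subgroup G) (lam : U → ℂ), Cfsg.IsCharacter U lam ∧ lam 1 = 1 ∧ Cfsg.indFun U lam = χ := by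
  classical
  obtain ⟨H, hNH, ψ, hψ, hind, hres⟩ := hrel χ hχ
  have : (N.subgroupOf H).Normal := Subgroup.normal_subgroupOf
  have hres' : Cfsg.IsIrrCharacter (N.subgroupOf H) (fun x : N.subgroupOf H => ψ x) :=
    isIrrCharacter_comp (Subgroup.subgroupOfEquivOfLe hNH).toMonoidHom
      (Subgroup.subgroupOfEquivOfLe hNH).surjective hres
  obtain ⟨U, lam, hlam, hlam1, hU⟩ := Monomial.monomial_of_restrict (N.subgroupOf H)
    (fun p hp P hP hPN a ha b hb => by
      have : Fact p.Prime := ⟨hp⟩
      have hPp : IsPGroup p ((P.map H.subtype).subgroupOf N) := (hP.map _).comap_subtype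
      obtain ⟨Q, hQ⟩ := hPp.exists_le_sylow
      have h := hab p Q ⟨(a : G), Subgroup.mem_subgroupOf.mp (hPN ha)⟩ (hQ ⟨a, ha, rfl⟩)
        ⟨(b : G), Subgroup.mem_subgroupOf.mp (hPN hb)⟩ (hQ ⟨b, hb, rfl⟩)
      exact Subtype.ext (congrArg (fun x : N => (x : G)) h))
    hψ hres'
  refine ⟨U.map H.subtype,
    fun k => lam ((U.equivMapOfInjective H.subtype Subtype.val_injective).symm k),
    isCharacter_comp (U.equivMapOfInjective H.subtype Subtype.val_injective).symm.toMonoidHom hlam,
    ?_, ?_⟩
  · show lam ((U.equivMapOfInjective H.subtype Subtype.val_injective).symm 1) = 1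
    rw [map_one, hlam1]
  · rw [← Brauer.PermChar.indFun_indFun H U lam, hU, hind]

end Cfsg.Agent.S0859
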