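import Cfsg.Statements.S0860
import Cfsg.Agent.Lib.Characters.Complete

set_option autoImplicit false
open Cfsg
open scoped ComplexConjugate

namespace Cfsg.Agent.S0860

open Cfsg.Agent.Lib.Induced.Basic Cfsg.Agent.Lib.Characters.Basic Cfsg.Agent.Lib.Characters

/-- Let a group A act on the irreducible characters and on the conjugacy classes of a finite group G so that for a in A, the character a • χ takes at g' the value of χ at g whenever the class of g' is a • (class of g). Then every element of A fixes equally many irreducible characters and conjugacy classes. -/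
theorem result {G : Type*} [Group G] [Finite G] {A : Type*} [Group A] [MulAction A (Cfsg.IrrCharacter G)] [MulAction A (ConjClasses G)] (hcompat : ∀ (a : A) (χ : Cfsg.IrrCharacter G) (g g' : G), ConjClasses.mk g' = a • ConjClasses.mk g → ((a • χ : Cfsg.IrrCharacter G) : G → ℂ) g' = (χ : G → ℂ) g) (a : A) : Nat.card {χ : Cfsg.IrrCharacter G // a • χ = χ} = Nat.card {C : ConjClasses G // a • C = C} := by
  classical
  have := Fintype.ofFinite G
  have := Fintype.ofFinite (Cfsg.IrrCharacter G)
  have : Finite (ConjClasses G) := Finite.of_surjective _ ConjClasses.mk_surjective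
  have := Fintype.ofFinite (ConjClasses G)
  have hh : ∀ g : G, ∃ h : G, ConjClasses.mk h = a⁻¹ • ConjClasses.mk g :=
    fun g => ConjClasses.mk_surjective _
  choose h hh using hh
  have hval : ∀ (χ : Cfsg.IrrCharacter G) (g : G),
      ((a • χ : Cfsg.IrrCharacter G) : G → ℂ) g = (χ : G → ℂ) (h g) :=
    fun χ g => hcompat a χ (h g) g (by rw [hh, smul_inv_smul])
  have key : (Nat.card {χ : Cfsg.IrrCharacter G // a • χ = χ} : ℂ)
      = (Nat.card {C : ConjClasses G // a • C = C} : ℂ) := by
    calc (Nat.card {χ : Cfsg.IrrCharacter G // a • χ = χ} : ℂ)
        = ∑ χ : Cfsg.IrrCharacter G,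
            Cfsg.classInner ((a • χ : Cfsg.IrrCharacter G) : G → ℂ) (χ : G → ℂ) := by
          simp only [classInner_irr, Finset.sum_boole]
          rw [Nat.card_eq_fintype_card, Fintype.card_subtype]
      _ = (Nat.card G : ℂ)⁻¹ * ∑ g : G,
            if IsConj (h g) g then (Nat.card (Subgroup.centralizer ({h g} : Set G)) : ℂ) else 0 := by
          simp only [Cfsg.classInner, hval, ← Finset.mul_sum]
          rw [Finset.sum_comm]
          simp only [Complete.sum_irr_mul_conj]
          congr! 
      _ = (Nat.card G : ℂ)⁻¹ * ∑ C : ConjClasses G,
            if a • C = C then (Nat.card G : ℂ) else 0 := by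
          congr 1
          rw [← Finset.sum_fiberwise Finset.univ ConjClasses.mk]
          refine Finset.sum_congr rfl fun C _ => ?_
          obtain ⟨g₀, rfl⟩ := ConjClasses.mk_surjective C
          have hterm : ∀ g ∈ Finset.univ.filter (fun g => ConjClasses.mk g = ConjClasses.mk g₀),
              (if IsConj (h g) g then (Nat.card (Subgroup.centralizer ({h g} : Set G)) : ℂ) else 0)
              = if a • ConjClasses.mk g₀ = ConjClasses.mk g₀ then
                  (Nat.card (Subgroup.centralizer ({g₀} : Set G)) : ℂ) else 0 := by
            intro g hg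
            rw [Finset.mem_filter] at hg
            have hiff : IsConj (h g) g ↔ a • ConjClasses.mk g₀ = ConjClasses.mk g₀ := by
              rw [← ConjClasses.mk_eq_mk_iff_isConj, hh, inv_smul_eq_iff, hg.2, eq_comm]
            by_cases hc : IsConj (h g) g
            · rw [if_pos hc, if_pos (hiff.mp hc)]
              have hc2 : IsConj (h g) g₀ := hc.trans (ConjClasses.mk_eq_mk_iff_isConj.mp hg.2)
              have e1 := Complete.card_conjugates_mul_centralizer (h g)
              have e2 := Complete.card_conjugates_mul_centralizer g₀
              have e3 : Nat.card {x : G // IsConj (h g) x} = Nat.card {x : G // IsConj g₀ x} :=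
                Nat.card_congr (_root_.Equiv.subtypeEquivRight fun x =>
                  ⟨hc2.symm.trans, hc2.trans⟩)
              rw [e3] at e1
              have : Nonempty {x : G // IsConj g₀ x} := ⟨⟨g₀, IsConj.refl _⟩⟩
              rw [Nat.eq_of_mul_eq_mul_left Nat.card_pos (e1.trans e2.symm)]
            · rw [if_neg hc, if_neg (fun e => hc (hiff.mpr e))]
          rw [Finset.sum_congr rfl hterm, Finset.sum_const, nsmul_eq_mul]
          have hcard : (Finset.univ.filter (fun g => ConjClasses.mk g = ConjClasses.mk g₀)).card
              = Nat.card {x : G // IsConj g₀ x} := by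
            rw [Nat.card_eq_fintype_card, Fintype.card_subtype]
            congr 1
            ext g
            simp only [Finset.mem_filter, Finset.mem_univ, true_and,
              ConjClasses.mk_eq_mk_iff_isConj]
            exact isConj_comm
          rw [hcard, mul_ite, mul_zero, ← Nat.cast_mul, Complete.card_conjugates_mul_centralizer]
      _ = (Nat.card {C : ConjClasses G // a • C = C} : ℂ) := by
          rw [← Finset.sum_filter, Finset.sum_const, nsmul_eq_mul, mul_comm _ (Nat.card G : ℂ),
            ← mul_assoc, inv_mul_cancel₀ natCard_ne_zero, one_mul, Nat.card_eq_fintype_card,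
            Fintype.card_subtype]
  exact_mod_cast key

end Cfsg.Agent.S0860
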