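import Cfsg.Statements.S0861
import Cfsg.Agent.Lib.Clifford.Ito
import Cfsg.Agent.Lib.Characters.Kernel
import Cfsg.Agent.Lib.Characters.Linear
import Cfsg.Agent.Lib.BC78.Galois
import Cfsg.Agent.Lib.BC78.Roots

set_option autoImplicit false
open Cfsg

namespace Cfsg.Agent.S0861

open Cfsg.Agent.Lib Cfsg.Agent.Lib.Characters.Basic Cfsg.Agent.Lib.Characters
open scoped ComplexConjugate commutatorElement

universe u
variable {G : Type u} [Group G] [Finite G]

/-- A character of degree prime to `p` does not vanish at a `p`-element. -/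
theorem apply_ne_zero (p : ℕ) [Fact p.Prime] {χ : G → ℂ} (hχ : Cfsg.IsCharacter G χ) {d : ℕ}
    (hd : χ 1 = d) (hcop : ¬ p ∣ d) {g : G} {j : ℕ} (hg : g ^ p ^ j = 1) : χ g ≠ 0 := by
  intro h0
  obtain ⟨M, hM, hpM⟩ : ∃ M : Ideal Cfsg.AlgInt, M.IsMaximal ∧ (p : Cfsg.AlgInt) ∈ M := by
    have hp : ¬ IsUnit (p : Cfsg.AlgInt) := by
      rintro ⟨u, hu⟩
      have h1 : (p : Cfsg.AlgInt) * (↑u⁻¹ : Cfsg.AlgInt) = 1 := by rw [← hu, Units.mul_inv]
      have hint : IsIntegral ℤ ((p : ℂ)⁻¹) := by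
        have h2 : ((↑u⁻¹ : Cfsg.AlgInt) : ℂ) = (p : ℂ)⁻¹ := by
          refine eq_inv_of_mul_eq_one_right ?_
          have := congrArg (fun x : Cfsg.AlgInt => (x : ℂ)) h1
          simpa using this
        rw [← h2]
        exact (↑u⁻¹ : Cfsg.AlgInt).2
      have hq : IsIntegral ℤ ((p : ℚ)⁻¹) := by
        refine (isIntegral_algHom_iff ((algebraMap ℚ ℂ).toIntAlgHom)
          (algebraMap ℚ ℂ).injective).mp ?_
        simpa using hint
      obtain ⟨m, hm⟩ := IsIntegrallyClosed.isIntegral_iff.mp hq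
      rw [eq_intCast] at hm
      have hpp := (Fact.out : p.Prime)
      have : (m : ℚ) * (p : ℚ) = 1 := by rw [hm, inv_mul_cancel₀]; exact_mod_cast hpp.ne_zero
      have h3 : (m : ℤ) * (p : ℤ) = 1 := by exact_mod_cast this
      have h4 : (p : ℤ) ∣ 1 := ⟨m, by rw [mul_comm]; exact h3.symm⟩
      exact hpp.ne_one (Nat.dvd_one.mp (Int.natCast_dvd_natCast.mp h4))
    exact exists_max_ideal_of_mem_nonunits hp
  have : IsDomain (Cfsg.AlgInt ⧸ M) := Ideal.Quotient.isDomain M
  have hchar : CharP (Cfsg.AlgInt ⧸ M) p := by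
    have : (p : Cfsg.AlgInt ⧸ M) = 0 := by
      rw [← map_natCast (Ideal.Quotient.mk M), Ideal.Quotient.eq_zero_iff_mem]
      exact hpM
    exact (CharP.charP_iff_prime_eq_zero Fact.out).mpr this
  have hint : IsIntegral ℤ (χ g) := BC78.Roots.isIntegral_char hχ g
  have h := BC78.Roots.char_eq_degree_mod hχ g hg (Ideal.Quotient.mk M) hint
  have h1 : (⟨χ g, hint⟩ : Cfsg.AlgInt) = 0 := Subtype.ext h0
  have h2 : (Cfsg.charDegree χ : ℂ) = (d : ℂ) := by rw [BC78.Roots.charDegree_cast hχ, hd]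
  rw [h1, map_zero, Nat.cast_injective h2] at h
  exact hcop ((CharP.cast_eq_zero_iff (Cfsg.AlgInt ⧸ M) p d).mp h.symm)

/-- Let P be a normal abelian Sylow p-subgroup of the finite group G and suppose some element g of P has centralizer exactly P. Then the number of irreducible characters of G is at most the order of P, and if equality holds then G / P is abelian (the commutator subgroup lies in P). -/
theorem result {G : Type*} [Group G] [Finite G] (p : ℕ) [Fact p.Prime] (P : Sylow p G) [(P : Subgroup G).Normal] (hab : ∀ a ∈ P, ∀ b ∈ P, a * b = b * a) (g : G) (hg : g ∈ P) (hC : Subgroup.centralizer ({g} : Set G) = P) : Nat.card (Cfsg.IrrCharacter G) ≤ Nat.card P ∧ (Nat.card (Cfsg.IrrCharacter G) = Nat.card P → commutator G ≤ P) := by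
  classical
  have := Fintype.ofFinite G
  have := Fintype.ofFinite (Cfsg.IrrCharacter G)
  let S : Finset G := Finset.univ.filter fun x => ∃ k : ℕ, k.Coprime (Nat.card G) ∧ g ^ k = x
  have hgS : g ∈ S := Finset.mem_filter.mpr ⟨Finset.mem_univ _, 1, Nat.coprime_one_left _, pow_one g⟩
  have hS : ∀ x ∈ S, ∀ k : ℕ, k.Coprime (Nat.card G) → x ^ k ∈ S := by
    intro x hx k hk
    obtain ⟨-, l, hl, rfl⟩ := Finset.mem_filter.mp hx
    exact Finset.mem_filter.mpr ⟨Finset.mem_univ _, l * k, hl.mul_left hk, pow_mul g l k⟩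
  have hSP : ∀ x ∈ S, x ∈ P := by
    intro x hx
    obtain ⟨-, l, -, rfl⟩ := Finset.mem_filter.mp hx
    exact (P : Subgroup G).pow_mem hg l
  have hScent : ∀ x ∈ S, Nat.card (Subgroup.centralizer ({x} : Set G)) = Nat.card P := by
    intro x hx
    obtain ⟨-, l, hl, rfl⟩ := Finset.mem_filter.mp hx
    suffices h : Subgroup.centralizer ({g ^ l} : Set G) = Subgroup.centralizer ({g} : Set G) by
      rw [h, hC]
    ext y
    rw [Subgroup.mem_centralizer_singleton_iff, Subgroup.mem_centralizer_singleton_iff]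
    constructor
    · intro h
      obtain ⟨r, hr⟩ := exists_pow_eq_self_of_coprime (hl.coprime_dvd_right (_root_.orderOf_dvd_natCard g))
      have h' : Commute y ((g ^ l) ^ r) := Commute.pow_right h r
      rw [hr] at h'
      exact h'
    · intro h
      exact Commute.pow_right h l
  have hsum : ∀ x ∈ S, ∑ χ : Cfsg.IrrCharacter G, Complex.normSq ((χ : G → ℂ) x) = (Nat.card P : ℝ) := by
    intro x hx
    have h := Complete.sum_irr_mul_conj x x
    rw [if_pos (IsConj.refl x), hScent x hx] at h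
    simp only [Complex.mul_conj, ← Complex.ofReal_sum] at h
    exact_mod_cast h
  have hlb : ∀ χ : Cfsg.IrrCharacter G, (S.card : ℝ) ≤ ∑ x ∈ S, Complex.normSq ((χ : G → ℂ) x) := by
    intro χ
    refine BC78.Galois.card_le_sum_normSq (isCharacter_irr χ) S hS fun x hx => ?_
    obtain ⟨d, hd, hdvd⟩ := Clifford.Ito.degree_dvd_index (P : Subgroup G) hab χ
    obtain ⟨j, hj⟩ := P.2 ⟨x, hSP x hx⟩
    refine apply_ne_zero p (isCharacter_irr χ) hd (fun h => P.not_dvd_index (h.trans hdvd)) (j := j) ?_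
    exact congrArg Subtype.val hj
  have htot : ∑ χ : Cfsg.IrrCharacter G, ∑ x ∈ S, Complex.normSq ((χ : G → ℂ) x)
      = (Nat.card P : ℝ) * S.card := by
    rw [Finset.sum_comm, Finset.sum_congr rfl hsum, Finset.sum_const, nsmul_eq_mul, mul_comm]
  have hSpos : (0 : ℝ) < S.card := by exact_mod_cast Finset.card_pos.mpr ⟨g, hgS⟩
  refine ⟨?_, fun heq => ?_⟩
  · have h1 : (Fintype.card (Cfsg.IrrCharacter G) : ℝ) * S.card ≤ (Nat.card P : ℝ) * S.card := by
      rw [← htot, ← nsmul_eq_mul, ← Finset.card_univ, ← Finset.sum_const]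
      exact Finset.sum_le_sum fun χ _ => hlb χ
    rw [Nat.card_eq_fintype_card]
    exact_mod_cast le_of_mul_le_mul_right h1 hSpos
  · have h1 : ∑ _χ : Cfsg.IrrCharacter G, (S.card : ℝ)
        = ∑ χ : Cfsg.IrrCharacter G, ∑ x ∈ S, Complex.normSq ((χ : G → ℂ) x) := by
      rw [htot, Finset.sum_const, nsmul_eq_mul, Finset.card_univ, ← Nat.card_eq_fintype_card, heq]
    have h2 := (Finset.sum_eq_sum_iff_of_le (fun χ _ => hlb χ)).mp h1
    have hcomm : ∀ q r : G ⧸ (P : Subgroup G), q * r = r * q := by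
      intro q r
      rw [← inv_mul_eq_one]
      refine Complete.eq_one_of_forall_irr fun φ => ?_
      let χ := (Kernel.inflateEquiv (P : Subgroup G) φ).1
      have hker : ∀ x ∈ S, (χ : G → ℂ) x = (χ : G → ℂ) 1 := fun x hx =>
        (Kernel.inflateEquiv (P : Subgroup G) φ).2 x (hSP x hx)
      obtain ⟨d, hd0, hd⟩ := exists_degree_pos χ
      have h3 := h2 χ (Finset.mem_univ χ)
      rw [Finset.sum_congr rfl fun x hx => by rw [hker x hx, hd, Complex.normSq_natCast],
        Finset.sum_const, nsmul_eq_mul] at h3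
      have hd1 : d = 1 := by
        have h5 : (d * d : ℝ) = 1 := by
          have := mul_left_cancel₀ hSpos.ne' (show (S.card : ℝ) * (d * d) = S.card * 1 by
            rw [mul_one]; exact h3.symm)
          exact this
        have h6 : d * d = 1 := by exact_mod_cast h5
        exact (mul_eq_one.mp h6).1
      have hφ1 : (φ : G ⧸ (P : Subgroup G) → ℂ) 1 = 1 := by
        have h7 : (χ : G → ℂ) 1 = (φ : G ⧸ (P : Subgroup G) → ℂ) 1 :=
          Kernel.inflateEquiv_apply (P : Subgroup G) φ 1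
        rw [← h7, hd, hd1, Nat.cast_one]
      have h8 := Linear.degOneHom_apply (isCharacter_irr φ) hφ1
      rw [← h8, ← h8, map_one, map_mul, map_inv, map_mul, map_mul, mul_comm (Linear.degOneHom _ hφ1 r),
        inv_mul_cancel]
    rw [commutator_def, Subgroup.commutator_le]
    intro a _ b _
    rw [← QuotientGroup.eq_one_iff]
    show QuotientGroup.mk' (P : Subgroup G) ⁅a, b⁆ = 1
    rw [map_commutatorElement, commutatorElement_eq_one_iff_mul_comm]
    exact hcomm _ _

end Cfsg.Agent.S0861
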