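import Cfsg.Statements.S0868
import Cfsg.Agent.Lib.Clifford.Gallagher

set_option autoImplicit false
open scoped ComplexConjugate
open Cfsg

namespace Cfsg.Agent.S0868

open Cfsg.Agent.Lib.Induced.Basic Cfsg.Agent.Lib.Characters.Basic Cfsg.Agent.Lib.Clifford

/-- Let N be a normal subgroup of the finite group G, χ an irreducible character of G whose restriction ϑ to N is irreducible, and ψ an irreducible character of G. Define η on G by η g = (1 / order of N) * Σ over n in N of ψ (n * g) * conj (χ (n * g)). Then: if the restriction of ψ to N has nonzero inner product with ϑ, η is an irreducible character of G; if that inner product is zero, η vanishes identically; and if ψ = χ then η is identically 1. -/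
theorem result {G : Type*} [Group G] [Fintype G] (N : Subgroup G) [N.Normal] [Fintype N] (χ : G → ℂ) (hχ : Cfsg.IsIrrCharacter G χ) (hχN : Cfsg.IsIrrCharacter N (fun n : N => χ n)) (ψ : G → ℂ) (hψ : Cfsg.IsIrrCharacter G ψ) (η : G → ℂ) (hη : η = fun g => (Nat.card N : ℂ)⁻¹ * ∑ n : N, ψ ((n : G) * g) * conj (χ ((n : G) * g))) : (Cfsg.classInner (fun n : N => ψ n) (fun n : N => χ n) ≠ 0 → Cfsg.IsIrrCharacter G η) ∧ (Cfsg.classInner (fun n : N => ψ n) (fun n : N => χ n) = 0 → η = 0) ∧ (ψ = χ → η = fun _ => 1) := by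
  obtain ⟨k, ρ, hρ, hρc⟩ := hχ
  obtain ⟨l, σ, hσ, hσc⟩ := hψ
  have hχ : Cfsg.IsIrrCharacter G χ := ⟨k, ρ, hρ, hρc⟩
  have hψ : Cfsg.IsIrrCharacter G ψ := ⟨l, σ, hσ, hσc⟩
  have hres : (Gallagher.res N ρ).IsIrreducible := by
    rw [isIrreducible_iff_classInner_self]
    have e : (Gallagher.res N ρ).character = fun n : N => χ n := by
      funext n; rw [← hρc]; rfl
    rw [e]
    exact classInner_self_irr ⟨_, hχN⟩
  have havg : ∀ g : G, (Nat.card N : ℂ)⁻¹ * ∑ n : N, χ ((n : G) * g) * conj (χ ((n : G) * g)) = 1 := by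
    intro g
    rw [← hρc]
    exact Gallagher.average_self N ρ g
  refine ⟨fun hne => ?_, fun h0 => ?_, fun h => by subst h; rw [hη]; exact funext havg⟩
  · have hone : (fun _ => 1 : N → ℂ) * (fun n : N => χ n) = fun n : N => χ n := by
      funext n; exact one_mul _
    obtain ⟨-, -, h3⟩ := Gallagher.gallagher N (fun _ => 1) (fun n : N => χ n) (oneChar N).2
      (fun g => rfl) (fun g => Basic.conjC_restrict N (isClassFunction_irr ⟨χ, hχ⟩) g)
      (by rw [hone]; exact hχN) hχ (fun n => rfl)
    obtain ⟨β, hβ, he⟩ := h3 ⟨ψ, hψ⟩ (by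
      rw [hone, frobenius_reciprocity N _ (isClassFunction_irr ⟨ψ, hψ⟩)]
      exact Basic.classInner_ne_zero_symm hne)
    have heta : η = (β : G → ℂ) := by
      funext g
      rw [hη]
      have e : ∀ n : N, ψ ((n : G) * g) * conj (χ ((n : G) * g))
          = (β : G → ℂ) g * (χ ((n : G) * g) * conj (χ ((n : G) * g))) := fun n => by
        have := congrFun he ((n : G) * g)
        simp only [Pi.mul_apply] at this
        rw [this, Gallagher.apply_mul_of_over_one N β hβ n g, mul_assoc]
      simp only [e, ← Finset.mul_sum]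
      rw [mul_left_comm, havg, mul_one]
    rw [heta]
    exact β.2
  · rw [hη]
    funext g
    rw [← hσc, ← hρc] at h0 ⊢
    exact Gallagher.average_eq_zero N ρ σ h0 g

end Cfsg.Agent.S0868
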