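import Cfsg.Statements.S0869
import Mathlib

set_option autoImplicit false
open Cfsg

namespace Cfsg.Agent.S0869

/-- Let S be a nonempty finite type and R an additive subgroup of the integer-valued functions on S that is closed under pointwise multiplication. If the constant function 1 is not in R, then there exist a point x of S and a prime p such that p divides f x for every f in R. -/
theorem result {S : Type*} [Finite S] [Nonempty S] (R : AddSubgroup (S → ℤ)) (hmul : ∀ f ∈ R, ∀ g ∈ R, f * g ∈ R) (h1 : (1 : S → ℤ) ∉ R) : ∃ (x : S) (p : ℕ), p.Prime ∧ ∀ f ∈ R, (p : ℤ) ∣ f x := by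
  classical
  by_contra hcon
  push Not at hcon
  have hone : ∀ x : S, ∃ f ∈ R, f x = 1 := by
    intro x
    let ev : (S → ℤ) →+ ℤ := Pi.evalAddMonoidHom (fun _ : S => ℤ) x
    obtain ⟨d, hd⟩ := Int.subgroup_cyclic (R.map ev)
    by_cases hu : d.natAbs = 1
    · have h1m : (1 : ℤ) ∈ R.map ev := by
        rw [hd, AddSubgroup.mem_closure_singleton]
        rcases Int.natAbs_eq d with h | h
        · exact ⟨1, by rw [h, hu]; simp⟩
        · exact ⟨-1, by rw [h, hu]; simp⟩
      obtain ⟨f, hf, hfx⟩ := h1m
      exact ⟨f, hf, hfx⟩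
    · obtain ⟨p, hp, hpd⟩ := Nat.exists_prime_and_dvd hu
      obtain ⟨f, hf, hfx⟩ := hcon x p hp
      exfalso
      apply hfx
      have hm : f x ∈ R.map ev := ⟨f, hf, rfl⟩
      rw [hd, AddSubgroup.mem_closure_singleton] at hm
      obtain ⟨k, hk⟩ := hm
      rw [← hk, smul_eq_mul]
      exact (Int.natCast_dvd.mpr hpd).mul_left k
  have hset : ∀ s : Finset S, ∃ f ∈ R, ∀ x ∈ s, f x = 1 := by
    intro s
    induction s using Finset.induction_on with
    | empty => exact ⟨0, R.zero_mem, by simp⟩
    | insert a s ha ih =>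
      obtain ⟨f, hf, hfs⟩ := ih
      obtain ⟨g, hg, hga⟩ := hone a
      refine ⟨f + g - f * g, R.sub_mem (R.add_mem hf hg) (hmul f hf g hg), ?_⟩
      intro x hx
      rcases Finset.mem_insert.mp hx with h | h
      · subst h; simp [hga]
      · simp [hfs x h]
  have : Fintype S := Fintype.ofFinite S
  obtain ⟨f, hf, hf1⟩ := hset Finset.univ
  exact h1 (by
    have : f = 1 := funext fun x => hf1 x (Finset.mem_univ x)
    rwa [this] at hf)

end Cfsg.Agent.S0869
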