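import Cfsg.Statements.S0874
import Cfsg.Agent.Lib.Brauer.Elementary

set_option autoImplicit false
open Cfsg

namespace Cfsg.Agent.S0874

/-- For a finite group G and a prime p there are an integer m not divisible by p and a list of triples (E, φ, c), with E a p-elementary subgroup, φ a character of E and c an integer, such that the constant function m on G equals the sum of the c • (function induced from φ). -/
theorem result {G : Type*} [Group G] [Fintype G] (p : ℕ) (hp : p.Prime) : ∃ (m : ℤ) (l : List ((E : Subgroup G) × ((E → ℂ) × ℤ))), ¬ (p : ℤ) ∣ m ∧ (∀ t ∈ l, Cfsg.IsElementary p t.1 ∧ Cfsg.IsCharacter t.1 t.2.1) ∧ (fun _ : G => (m : ℂ)) = (l.map fun t => (t.2.2 : ℂ) • Cfsg.indFun t.1 t.2.1).sum := by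
  obtain ⟨m, hm, hmem⟩ := Cfsg.Agent.Lib.Brauer.Elementary.brauer_local (G := G) p hp
  suffices h : ∀ f ∈ Submodule.span ℤ (Cfsg.Agent.Lib.Brauer.Elementary.monoSet
      (fun H : Subgroup G => IsElementary p H)),
      ∃ l : List ((E : Subgroup G) × ((E → ℂ) × ℤ)),
        (∀ t ∈ l, Cfsg.IsElementary p t.1 ∧ Cfsg.IsCharacter t.1 t.2.1) ∧
        f = (l.map fun t => (t.2.2 : ℂ) • Cfsg.indFun t.1 t.2.1).sum by
    obtain ⟨l, hl, he⟩ := h _ hmem
    exact ⟨m, l, hm, hl, he⟩
  intro f hf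
  induction hf using Submodule.span_induction with
  | mem x hx =>
    obtain ⟨H, hH, l, rfl⟩ := hx
    refine ⟨[⟨H, (l, 1)⟩], ?_, by simp⟩
    intro t ht
    rw [List.mem_singleton] at ht
    subst ht
    exact ⟨hH, Cfsg.Agent.Lib.Brauer.Elementary.isCharacter_hom l⟩
  | zero => exact ⟨[], by simp, by simp⟩
  | add x y _ _ h1 h2 =>
    obtain ⟨l1, hl1, rfl⟩ := h1
    obtain ⟨l2, hl2, rfl⟩ := h2
    refine ⟨l1 ++ l2, fun t ht => (List.mem_append.1 ht).elim (hl1 t) (hl2 t), ?_⟩
    rw [List.map_append, List.sum_append]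
  | smul r x _ h =>
    obtain ⟨l, hl, rfl⟩ := h
    refine ⟨l.map fun t => ⟨t.1, (t.2.1, r * t.2.2)⟩, fun t ht => ?_, ?_⟩
    · obtain ⟨s, hs, rfl⟩ := List.mem_map.1 ht
      exact hl s hs
    · rw [List.map_map, List.smul_sum, List.map_map]
      congr 1
      refine List.map_congr_left fun t _ => ?_
      simp only [Function.comp_apply, Int.cast_mul, mul_smul]
      exact (Int.cast_smul_eq_zsmul ℂ r _).symm

end Cfsg.Agent.S0874
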