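import Cfsg.Statements.S0875
import Cfsg.Agent.Lib.Brauer.Section

set_option autoImplicit false
open Cfsg

namespace Cfsg.Agent.S0875

/-- Let G be a finite group of order m * n with m and n coprime, and g an element whose order is coprime to m. Every x in G factors uniquely as x = u * v with u, v commuting, the order of u coprime to n and the order of v coprime to m; let ϑ be the function on G equal to n at those x whose factor v is conjugate to g and equal to 0 elsewhere. Then ϑ is a linear combination of the irreducible characters of G with algebraic-integer coefficients. -/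
theorem result {G : Type*} [Group G] [Fintype G] (m n : ℕ) (hmn : Nat.card G = m * n) (hcop : Nat.Coprime m n) (g : G) (hg : Nat.Coprime (orderOf g) m) (ϑ : G → ℂ) (hϑ1 : ∀ x : G, (∃ v : G, IsConj v g ∧ (∃ u : G, x = u * v ∧ Commute u v ∧ Nat.Coprime (orderOf u) n ∧ Nat.Coprime (orderOf v) m)) → ϑ x = n) (hϑ0 : ∀ x : G, (¬ ∃ v : G, IsConj v g ∧ (∃ u : G, x = u * v ∧ Commute u v ∧ Nat.Coprime (orderOf u) n ∧ Nat.Coprime (orderOf v) m)) → ϑ x = 0) : ∃ c : Cfsg.IrrCharacter G → ℂ, (∀ χ, c χ ∈ Cfsg.AlgInt) ∧ ϑ = ∑ᶠ χ : Cfsg.IrrCharacter G, c χ • (χ : G → ℂ) := by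
  classical
  obtain ⟨k, hk0, hk1⟩ : ∃ k : ℕ, k ≡ 0 [MOD m] ∧ k ≡ 1 [MOD n] := by
    obtain ⟨k, h1, h0⟩ := Cfsg.Agent.Lib.Brauer.Induction.exists_split_exp hcop.symm
    exact ⟨k, h0, h1⟩
  have hfun : ϑ = fun x : G => if IsConj (x ^ k) g then (n : ℂ) else 0 := by
    funext x
    have hiff : (∃ v : G, IsConj v g ∧ (∃ u : G, x = u * v ∧ Commute u v ∧
        Nat.Coprime (orderOf u) n ∧ Nat.Coprime (orderOf v) m)) ↔ IsConj (x ^ k) g := by
      constructor
      · rintro ⟨v, hv, u, rfl, huv, hu, hv'⟩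
        have hu' : orderOf u ∣ m :=
          hu.dvd_of_dvd_mul_right (hmn ▸ orderOf_dvd_natCard u)
        have hvn : orderOf v ∣ n :=
          hv'.dvd_of_dvd_mul_left (hmn ▸ orderOf_dvd_natCard v)
        rw [huv.mul_pow, orderOf_dvd_iff_pow_eq_one.1 (hu'.trans (Nat.modEq_zero_iff_dvd.1 hk0)),
          one_mul]
        convert hv using 1
        conv_rhs => rw [← pow_one v]
        rw [pow_eq_pow_iff_modEq]
        exact hk1.of_dvd hvn
      · intro h
        refine ⟨x ^ k, h, x * (x ^ k)⁻¹, by rw [inv_mul_cancel_right],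
          ((Commute.refl x).pow_right k).mul_left (Commute.inv_left (Commute.refl (x ^ k))), ?_, ?_⟩
        · refine Nat.Coprime.coprime_dvd_left ?_ hcop
          apply orderOf_dvd_of_pow_eq_one
          rw [((Commute.refl x).pow_right k).inv_right.mul_pow, inv_pow, mul_inv_eq_one,
            ← pow_mul, pow_eq_pow_iff_modEq]
          refine Nat.ModEq.of_dvd (hmn ▸ orderOf_dvd_natCard x) ?_
          have h1 := (hk1.mul_right' m).symm
          rwa [one_mul, mul_comm n m] at h1
        · refine Nat.Coprime.coprime_dvd_left ?_ hcop.symm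
          apply orderOf_dvd_of_pow_eq_one
          rw [← pow_mul, ← orderOf_dvd_iff_pow_eq_one]
          exact (hmn ▸ orderOf_dvd_natCard x).trans (mul_dvd_mul_right (Nat.modEq_zero_iff_dvd.1 hk0) n)
    by_cases hx : IsConj (x ^ k) g
    · rw [if_pos hx, hϑ1 x (hiff.2 hx)]
    · rw [if_neg hx, hϑ0 x (fun h => hx (hiff.1 h))]
  rw [hfun]
  exact Cfsg.Agent.Lib.Brauer.Section.exists_coeff
    (Cfsg.Agent.Lib.Brauer.Section.section_mem hmn hcop hk0 hk1 g)

end Cfsg.Agent.S0875
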