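import Cfsg.Statements.S0876
import Cfsg.Agent.Lib.Brauer.Section
import Cfsg.Agent.Lib.Blocks.LocalRing

set_option autoImplicit false
open Cfsg

namespace Cfsg.Agent.S0876

/-- Let G be a finite group, p a prime and M a maximal ideal of the ring of algebraic integers containing p. Let x, y be elements with p-parts a and b (so a⁻¹ * x and b⁻¹ * y are their p-regular parts). Then a⁻¹ * x and b⁻¹ * y are conjugate in G if and only if, for every irreducible character χ, the difference χ x - χ y lies in the local ideal at M. -/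
theorem result {G : Type*} [Group G] [Finite G] (p : ℕ) (M : Ideal Cfsg.AlgInt) (hM : Cfsg.IsPModular p M) (x y a b : G) (ha : Cfsg.IsPPart p x a) (hb : Cfsg.IsPPart p y b) : IsConj (a⁻¹ * x) (b⁻¹ * y) ↔ ∀ χ : Cfsg.IrrCharacter G, Cfsg.MemLocalIdeal M ((χ : G → ℂ) x - (χ : G → ℂ) y) := by
  classical
  haveI : Fintype G := Fintype.ofFinite G
  haveI : M.IsMaximal := hM.2.1
  have hp := hM.1
  obtain ⟨e, n, hn, hcard⟩ :=
    Nat.exists_eq_pow_mul_and_not_dvd (n := Nat.card G) Nat.card_pos.ne' p hp.ne_one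
  have hcop : Nat.Coprime (p ^ e) n := (hp.coprime_iff_not_dvd.2 hn).pow_left e
  obtain ⟨k, hk1, hk0⟩ := Cfsg.Agent.Lib.Brauer.Induction.exists_split_exp hcop.symm
  -- the p-regular part is a power
  have hpart : ∀ (z c : G), Cfsg.IsPPart p z c → z ^ k = c⁻¹ * z := by
    rintro z c ⟨d, rfl, hcd, ⟨j, hj⟩, hd⟩
    have hd' : orderOf d ∣ n :=
      (((hp.coprime_iff_not_dvd.2 hd).pow_left e).symm).dvd_of_dvd_mul_left
        (hcard ▸ orderOf_dvd_natCard d)
    have hc' : orderOf c ∣ p ^ e :=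
      (hj ▸ (hp.coprime_iff_not_dvd.2 hn).pow_left j).dvd_of_dvd_mul_right
        (hcard ▸ orderOf_dvd_natCard c)
    rw [inv_mul_cancel_left, hcd.mul_pow,
      orderOf_dvd_iff_pow_eq_one.1 (hc'.trans (Nat.modEq_zero_iff_dvd.1 hk0)), one_mul]
    conv_rhs => rw [← pow_one d]
    rw [pow_eq_pow_iff_modEq]
    exact hk1.of_dvd hd'
  rw [← hpart x a ha, ← hpart y b hb]
  have hintc : ∀ (χ : Cfsg.IrrCharacter G) (z : G), IsIntegral ℤ ((χ : G → ℂ) z) := fun χ z =>
    Cfsg.Agent.Lib.Characters.Basic.isIntegral_apply (Cfsg.Agent.Lib.Characters.Basic.isCharacter_irr χ) z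
  -- congruence of a value with the value at the regular part
  have hcong : ∀ (χ : Cfsg.IrrCharacter G) (z : G),
      Ideal.Quotient.mk M (⟨(χ : G → ℂ) (z ^ k), hintc χ _⟩ : Cfsg.AlgInt)
        = Ideal.Quotient.mk M (⟨(χ : G → ℂ) z, hintc χ z⟩ : Cfsg.AlgInt) := by
    intro χ z
    obtain ⟨d, ρ, -, hρ⟩ := χ.2
    obtain ⟨ι, hι, bb, ζ, hζ, -, hchar⟩ :=
      Cfsg.Agent.Lib.Characters.Diag.exists_eigenbasis_card ρ z
    have hpow : ∀ (j : ℕ) i, (ρ z ^ j) (bb i) = ζ i ^ j • bb i := by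
      intro j i
      induction j with
      | zero => simp
      | succ j ih =>
        rw [pow_succ, Module.End.mul_apply, (hζ i).1, map_smul, ih, smul_smul, ← pow_succ']
    have hzk : ρ.character (z ^ k) = ∑ i, ζ i ^ k :=
      Cfsg.Agent.Lib.Characters.Diag.trace_eq_sum_eigenvalues bb _ _ fun i => by
        rw [map_pow, hpow k i]
    have hζi : ∀ i, IsIntegral ℤ (ζ i) := fun i => IsIntegral.of_pow (n := Nat.card G) Nat.card_pos
      (by rw [(hζ i).2]; exact isIntegral_one)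
    let Z : ι → Cfsg.AlgInt := fun i => ⟨ζ i, hζi i⟩
    have hZ : ∀ i, Ideal.Quotient.mk M (Z i ^ k) = Ideal.Quotient.mk M (Z i) := by
      intro i
      have hN : 0 < Nat.card G := Nat.card_pos
      have hZN : Z i ^ Nat.card G = 1 := Subtype.ext (by push_cast; exact (hζ i).2)
      have hw : Ideal.Quotient.mk M (Z i ^ (k + Nat.card G - 1)) = 1 := by
        refine Cfsg.Agent.Lib.Blocks.mk_eq_one_of_pow_prime_pow hM (k := e) ?_
        push_cast
        rw [← pow_mul]
        have h1 : n ∣ k + Nat.card G - 1 := by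
          have h3 : n ∣ Nat.card G := ⟨p ^ e, by rw [hcard, mul_comm]⟩
          have h4 : k + Nat.card G ≡ 1 + 0 [MOD n] := hk1.add (Nat.modEq_zero_iff_dvd.2 h3)
          exact (Nat.modEq_iff_dvd' (by omega)).1 h4.symm
        obtain ⟨c, hc⟩ := h1
        rw [hc, show n * c * p ^ e = Nat.card G * c by rw [hcard]; ring, pow_mul, (hζ i).2, one_pow]
      calc Ideal.Quotient.mk M (Z i ^ k) = Ideal.Quotient.mk M (Z i ^ (k + Nat.card G - 1) * Z i) := by
            rw [← pow_succ, show k + Nat.card G - 1 + 1 = k + Nat.card G by omega, pow_add, hZN, mul_one]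
        _ = Ideal.Quotient.mk M (Z i) := by rw [map_mul, hw, one_mul]
    have e1 : (⟨(χ : G → ℂ) (z ^ k), hintc χ _⟩ : Cfsg.AlgInt) = ∑ i, Z i ^ k := by
      apply Subtype.ext
      push_cast
      exact (congrFun hρ (z ^ k)).symm.trans hzk
    have e2 : (⟨(χ : G → ℂ) z, hintc χ z⟩ : Cfsg.AlgInt) = ∑ i, Z i := by
      apply Subtype.ext
      push_cast
      exact (congrFun hρ z).symm.trans hchar
    rw [e1, e2, map_sum, map_sum]
    exact Finset.sum_congr rfl fun i _ => hZ i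
  have hmem : ∀ (χ : Cfsg.IrrCharacter G),
      Cfsg.MemLocalIdeal M ((χ : G → ℂ) x - (χ : G → ℂ) y) ↔
        Ideal.Quotient.mk M (⟨(χ : G → ℂ) (x ^ k), hintc χ _⟩ : Cfsg.AlgInt)
          = Ideal.Quotient.mk M (⟨(χ : G → ℂ) (y ^ k), hintc χ _⟩ : Cfsg.AlgInt) := by
    intro χ
    rw [hcong χ x, hcong χ y, Ideal.Quotient.eq, ← Cfsg.Agent.Lib.Blocks.memLocalIdeal_algInt_iff]
    rfl
  constructor
  · intro h χ
    rw [hmem]
    congr 1
    exact Subtype.ext (Cfsg.Agent.Lib.Characters.Basic.classFunction_apply_of_isConj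
      (Cfsg.Agent.Lib.Characters.Basic.isClassFunction_irr χ) h)
  · intro h
    obtain ⟨c, hc, hf⟩ := Cfsg.Agent.Lib.Brauer.Section.exists_coeff
      (Cfsg.Agent.Lib.Brauer.Section.section_mem hcard hcop hk0 hk1 (x ^ k))
    by_contra hne
    haveI : Fintype (Cfsg.IrrCharacter G) := Fintype.ofFinite _
    have hx0 := congrFun hf x
    have hy0 := congrFun hf y
    simp only [finsum_eq_sum_of_fintype, Finset.sum_apply, Pi.smul_apply, smul_eq_mul,
      if_pos (IsConj.refl (x ^ k))] at hx0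
    simp only [finsum_eq_sum_of_fintype, Finset.sum_apply, Pi.smul_apply, smul_eq_mul,
      if_neg (fun e : IsConj (y ^ k) (x ^ k) => hne e.symm)] at hy0
    have hn' : Cfsg.MemLocalIdeal M (n : ℂ) := by
      have : (n : ℂ) = ∑ χ : Cfsg.IrrCharacter G, c χ * ((χ : G → ℂ) x - (χ : G → ℂ) y) := by
        simp only [mul_sub, Finset.sum_sub_distrib, ← hx0, ← hy0, sub_zero]
      rw [this]
      exact Cfsg.Agent.Lib.Blocks.memLocalIdeal_sum _ fun χ _ =>
        Cfsg.Agent.Lib.Blocks.memLocalIdeal_mul_left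
          (Cfsg.Agent.Lib.Blocks.mem_localRing_of_isIntegral (hc χ)) (h χ)
    exact hn ((Cfsg.Agent.Lib.Blocks.memLocalIdeal_natCast_iff hM n).1 hn')

end Cfsg.Agent.S0876
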