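import Cfsg.Statements.S0879
-- import your own Cfsg.Agent.* helpers here

set_option autoImplicit false
open Cfsg

namespace Cfsg.Agent.S0879

/-- Let G be a Zassenhaus group on the finite set Ω and E the stabilizer of two distinct points a, b. Then an element outside the normalizer of E conjugates no non-identity element of E into E, and E has index 2 in its normalizer. -/
theorem result {G Ω : Type*} [Group G] [Finite G] [MulAction G Ω] [Fintype Ω] (hZ : Cfsg.IsZassenhausGroup G Ω) {a b : Ω} (hab : a ≠ b) : (∀ g : G, g ∉ Subgroup.normalizer ((MulAction.stabilizer G a ⊓ MulAction.stabilizer G b : Subgroup G) : Set G) → ∀ x ∈ (MulAction.stabilizer G a ⊓ MulAction.stabilizer G b : Subgroup G), g * x * g⁻¹ ∈ (MulAction.stabilizer G a ⊓ MulAction.stabilizer G b : Subgroup G) → x = 1) ∧ ((MulAction.stabilizer G a ⊓ MulAction.stabilizer G b : Subgroup G).subgroupOf (Subgroup.normalizer ((MulAction.stabilizer G a ⊓ MulAction.stabilizer G b : Subgroup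 G) : Set G))).index = 2 := by
  classical
  obtain ⟨hf, h2, h3, ⟨g₀, hg₀, a₀, b₀, hab₀, hga₀, hgb₀⟩, -⟩ := hZ
  rw [MulAction.is_two_pretransitive_iff] at h2
  set E := MulAction.stabilizer G a ⊓ MulAction.stabilizer G b with hE
  have hmem : ∀ x, x ∈ E ↔ x • a = a ∧ x • b = b := fun x => Iff.rfl
  have hnorm : ∀ g : G, (g • a = a ∧ g • b = b) ∨ (g • a = b ∧ g • b = a) →
      g ∈ Subgroup.normalizer (E : Set G) := by
    intro g hg
    rw [Subgroup.mem_normalizer_iff]
    intro x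
    simp only [hmem]
    rcases hg with ⟨h1, h1'⟩ | ⟨h1, h1'⟩
    · have e : g⁻¹ • a = a := inv_smul_eq_iff.2 h1.symm
      have e' : g⁻¹ • b = b := inv_smul_eq_iff.2 h1'.symm
      constructor <;> rintro ⟨hx, hx'⟩
      · simp [mul_smul, e, e', hx, hx', h1, h1']
      · rw [mul_smul, mul_smul, e, ← eq_inv_smul_iff, e] at hx
        rw [mul_smul, mul_smul, e', ← eq_inv_smul_iff, e'] at hx'
        exact ⟨hx, hx'⟩
    · have e : g⁻¹ • a = b := inv_smul_eq_iff.2 h1'.symm
      have e' : g⁻¹ • b = a := inv_smul_eq_iff.2 h1.symm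
      constructor <;> rintro ⟨hx, hx'⟩
      · simp [mul_smul, e, e', hx, hx', h1, h1']
      · rw [mul_smul, mul_smul, e, ← eq_inv_smul_iff, e] at hx
        rw [mul_smul, mul_smul, e', ← eq_inv_smul_iff, e'] at hx'
        exact ⟨hx', hx⟩
  have key : ∀ g : G, ∀ x ∈ E, g * x * g⁻¹ ∈ E → x ≠ 1 →
      (g • a = a ∧ g • b = b) ∨ (g • a = b ∧ g • b = a) := by
    intro g x hx hgx hx1
    rw [hmem] at hx hgx
    have hga : (g * x * g⁻¹) • g • a = g • a := by rw [smul_smul, inv_mul_cancel_right, mul_smul, hx.1]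
    have hgb : (g * x * g⁻¹) • g • b = g • b := by rw [smul_smul, inv_mul_cancel_right, mul_smul, hx.2]
    have hne : g * x * g⁻¹ ≠ 1 := conj_eq_one_iff.not.2 hx1
    have hgab : g • a ≠ g • b := fun e => hab (MulAction.injective g e)
    have hA : g • a = a ∨ g • a = b := by
      by_contra hh
      push Not at hh
      exact hne (h3 _ a b (g • a) hab hh.2.symm hh.1.symm hgx.1 hgx.2 hga)
    have hB : g • b = a ∨ g • b = b := by
      by_contra hh
      push Not at hh
      exact hne (h3 _ a b (g • b) hab hh.2.symm hh.1.symm hgx.1 hgx.2 hgb)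
    rcases hA with hA | hA <;> rcases hB with hB | hB
    · exact absurd (hA.trans hB.symm) hgab
    · exact Or.inl ⟨hA, hB⟩
    · exact Or.inr ⟨hA, hB⟩
    · exact absurd (hA.trans hB.symm) hgab
  refine ⟨fun g hg x hx hgx => not_not.1 fun hx1 => hg (hnorm g (key g x hx hgx hx1)), ?_⟩
  obtain ⟨x, hx, hx1⟩ : ∃ x ∈ E, x ≠ 1 := by
    obtain ⟨k, hk, hk'⟩ := h2 hab₀ hab
    refine ⟨k * g₀ * k⁻¹, ?_, conj_eq_one_iff.not.2 hg₀⟩
    rw [hmem, ← hk, ← hk']
    simp [mul_smul, hga₀, hgb₀]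
  obtain ⟨t, ht, ht'⟩ := h2 hab hab.symm
  rw [Subgroup.index_eq_two_iff]
  refine ⟨⟨t, hnorm t (Or.inr ⟨ht, ht'⟩)⟩, fun g => ?_⟩
  simp only [Subgroup.mem_subgroupOf, Subgroup.coe_mul, hmem, mul_smul, ht, ht']
  rcases key g x hx ((Subgroup.mem_normalizer_iff.1 g.2 x).1 hx) hx1 with ⟨h1, h1'⟩ | ⟨h1, h1'⟩
  · exact Or.inr ⟨⟨h1, h1'⟩, fun hh => hab (h1.symm.trans hh.2)⟩
  · exact Or.inl ⟨⟨h1', h1⟩, fun hh => hab (hh.1.symm.trans h1)⟩

end Cfsg.Agent.S0879
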