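import Cfsg.Statements.S0880
import Cfsg.Agent.Lib.Zassenhaus.Basic
import Cfsg.Agent.Lib.Perm.Basic

set_option autoImplicit false
open Cfsg

namespace Cfsg.Agent.S0880

open Cfsg.Agent.Lib.Zassenhaus MulAction

/-- The sum of the numbers of fixed points in a transitive action is the order of the group. -/
theorem sum_fixed {G X : Type*} [Group G] [Fintype G] [MulAction G X] [Finite X] [hXne : Nonempty X]
    [IsPretransitive G X] : ∑ g : G, Nat.card (fixedBy X g) = Fintype.card G := by
  classical
  have := Fintype.ofFinite X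
  have := Fintype.ofFinite (Quotient (orbitRel G X))
  have h := sum_card_fixedBy_eq_card_orbits_mul_card_group G X
  have h1 : Fintype.card (Quotient (orbitRel G X)) = 1 := by
    rw [Fintype.card_eq_one_iff]
    obtain ⟨x⟩ := ‹Nonempty X›
    refine ⟨Quotient.mk'' x, fun q => ?_⟩
    induction q using Quotient.inductionOn' with
    | h y => exact Quotient.sound' (exists_smul_eq G x y)
  rw [h1, one_mul] at h
  rw [← h]
  exact Finset.sum_congr rfl fun g _ => Nat.card_eq_fintype_card

/-- Let G be a finite simple Zassenhaus group on Ω with n points whose two-point stabilizer E has odd order less than n - 2. Then there are two elements of G, each fixing no point of Ω, that are not conjugate. -/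
theorem result {G Ω : Type*} [Group G] [Finite G] [MulAction G Ω] [Fintype Ω] (hZ : Cfsg.IsZassenhausGroup G Ω) {a b : Ω} (hab : a ≠ b) [IsSimpleGroup G] (hodd : Odd (Nat.card ↥(MulAction.stabilizer G a ⊓ MulAction.stabilizer G b : Subgroup G))) (hlt : Nat.card ↥(MulAction.stabilizer G a ⊓ MulAction.stabilizer G b : Subgroup G) < Fintype.card Ω - 2) : ∃ x y : G, (∀ c : Ω, x • c ≠ c) ∧ (∀ c : Ω, y • c ≠ c) ∧ ¬ IsConj x y := by
  classical
  have := Fintype.ofFinite G
  have := pretransitive hZ
  have := two_trans hZ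
  set E := stabilizer G a ⊓ stabilizer G b with hE
  set e := Nat.card E with he
  set n := Fintype.card Ω with hn
  let f : G → ℕ := fun g => Nat.card (fixedBy Ω g)
  have hn' : Nat.card Ω = n := Nat.card_eq_fintype_card
  have h1 : ∑ g : G, f g = Fintype.card G := sum_fixed (X := Ω) (hXne := ⟨a⟩)
  have h2 : ∑ g : G, f g * (f g - 1) = Fintype.card G := by
    rw [← sum_fixed (X := Fin 2 ↪ Ω) (hXne := ⟨⟨![a, b], by
      intro i j; fin_cases i <;> fin_cases j <;> simp [hab, hab.symm]⟩⟩)]
    refine Finset.sum_congr rfl fun g _ => ?_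
    let ψ : fixedBy (Fin 2 ↪ Ω) g ≃ (Fin 2 ↪ fixedBy Ω g) :=
      { toFun := fun p => ⟨fun i => ⟨p.1 i, by
            have := DFunLike.congr_fun p.2 i
            exact this⟩, fun i j h => p.1.injective (congrArg Subtype.val h)⟩
        invFun := fun p => ⟨⟨fun i => (p i).1, fun i j h => p.injective (Subtype.ext h)⟩, by
            refine DFunLike.ext _ _ fun i => ?_
            exact (p i).2⟩
        left_inv := fun p => rfl
        right_inv := fun p => rfl }
    rw [Nat.card_congr ψ, Nat.card_eq_fintype_card, Fintype.card_embedding_eq, Fintype.card_fin]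
    show f g * (f g - 1) = _
    rw [show f g = Fintype.card (fixedBy Ω g) from Nat.card_eq_fintype_card]
    simp [Nat.descFactorial, mul_comm]
  -- count the fixed point free elements
  let F := Finset.univ.filter fun g : G => f g = 0
  have hf1 : f 1 = n := by
    show Nat.card (fixedBy Ω (1 : G)) = n
    rw [← hn', fixedBy_one_eq_univ, Nat.card_univ]
  have hcount : 2 * F.card + 2 + n * (n - 1) = Fintype.card G + 2 * n := by
    have h3 : ∀ g ∈ Finset.univ.erase (1 : G),
        2 * (if f g = 0 then 1 else 0) + 2 * f g = 2 + f g * (f g - 1) := by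
      intro g hg
      have hle : f g ≤ 2 := card_fixedBy_le hZ (Finset.mem_erase.1 hg).1
      interval_cases h : f g <;> simp
    have h4 := Finset.sum_congr rfl h3
    simp only [Finset.sum_add_distrib, ← Finset.mul_sum] at h4
    have e1 := Finset.add_sum_erase Finset.univ (fun g => if f g = 0 then 1 else 0) (Finset.mem_univ (1 : G))
    have e2 := Finset.add_sum_erase Finset.univ f (Finset.mem_univ (1 : G))
    have e3 := Finset.add_sum_erase Finset.univ (fun g => f g * (f g - 1)) (Finset.mem_univ (1 : G))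
    haveI : Nonempty Ω := ⟨a⟩
    have hn0 : n ≠ 0 := Fintype.card_ne_zero
    simp only [hf1, h1, h2, if_neg hn0, zero_add, Finset.sum_boole, Nat.cast_id] at e1 e2 e3
    simp only [Finset.sum_const, Finset.card_erase_of_mem (Finset.mem_univ (1 : G)),
      Finset.card_univ, smul_eq_mul, Finset.sum_boole, Nat.cast_id] at h4
    rw [e1] at h4
    have hG1 : 0 < Fintype.card G := Fintype.card_pos
    show 2 * (Finset.univ.filter fun g : G => f g = 0).card + 2 + n * (n - 1) = _
    omega
  -- the order of the group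
  have hG : Fintype.card G = n * (n - 1) * e := by
    rw [← Nat.card_eq_fintype_card, Lib.Perm.Basic.card_eq_card_mul_card_stabilizer (G := G) a, hn',
      mul_assoc]
    congr 1
    have hi := (two_trans hZ).index_of_fixingSubgroup_mul (G := G) (s := ({a, b} : Set Ω))
      (by rw [Set.ncard_pair hab])
    have hfs : fixingSubgroup G ({a, b} : Set Ω) = E := by
      ext g
      simp [mem_fixingSubgroup_iff, hE]
    have hc := (fixingSubgroup G ({a, b} : Set Ω)).card_mul_index
    have hs := Lib.Perm.Basic.card_eq_card_mul_card_stabilizer (G := G) a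
    rw [hfs] at hi hc
    rw [hn'] at hi hs
    have hn2 : 2 ≤ n := by
      rw [← hn']
      exact Finite.one_lt_card_iff_nontrivial.2 ⟨a, b, hab⟩
    obtain ⟨k, hk⟩ : ∃ k, n = k + 2 := ⟨n - 2, by omega⟩
    rw [hk, Nat.factorial_succ, Nat.factorial_succ, show k + 2 - 2 = k by omega, ← mul_assoc] at hi
    have hidx := Nat.eq_of_mul_eq_mul_right (Nat.factorial_pos _) hi
    rw [← hc, hidx, hk, ← he] at hs
    rw [hk, show k + 2 - 1 = k + 1 by omega]
    exact Nat.eq_of_mul_eq_mul_left (by omega : 0 < k + 2) (by rw [← hs]; ring)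
  obtain ⟨g0, hg01, hg0a, hg0b⟩ := exists_fix_pair hZ hab
  have he2 : 2 ≤ e := by
    rw [he]
    exact Finite.one_lt_card_iff_nontrivial.2
      ⟨⟨g0, mem_pair_stabilizer.2 ⟨hg0a, hg0b⟩⟩, 1, fun h => hg01 (congrArg Subtype.val h)⟩
  obtain ⟨q, hq⟩ := hodd
  obtain ⟨j, hj⟩ : ∃ j, n = j + 2 := ⟨n - 2, by omega⟩
  have hF : F.card = (j + 1) * ((j + 2) * q + 1) := by
    rw [hG, hj, hq, show j + 2 - 1 = j + 1 by omega] at hcount
    linarith
  obtain ⟨x, hx⟩ := Finset.card_pos.1 (hF ▸ by positivity : 0 < F.card)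
  have hfpf : ∀ y : G, f y = 0 ↔ ∀ c : Ω, y • c ≠ c := fun y => by
    show Nat.card (fixedBy Ω y) = 0 ↔ _
    rw [Finite.card_eq_zero_iff, isEmpty_subtype]
    rfl
  by_contra hcon
  push Not at hcon
  have hxf := (hfpf x).1 (Finset.mem_filter.1 hx).2
  have hclass : (F : Set G) = {y | IsConj x y} := by
    ext y
    simp only [F, Finset.coe_filter, Finset.mem_univ, true_and, Set.mem_setOf_eq, hfpf]
    refine ⟨fun hy => hcon x y hxf hy, fun hy c hc => ?_⟩
    obtain ⟨g, rfl⟩ := isConj_iff.1 hy
    refine hxf (g⁻¹ • c) ?_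
    conv_rhs => rw [← hc, mul_smul, mul_smul, inv_smul_smul]
  have hdvd : F.card ∣ Fintype.card G := by
    rw [← Set.ncard_coe_finset, hclass, ← Nat.card_eq_fintype_card]
    have h5 : {y | IsConj x y} = (ConjClasses.mk x).carrier := by
      ext y
      rw [Set.mem_setOf_eq, ConjClasses.mem_carrier_iff_mk_eq, ConjClasses.mk_eq_mk_iff_isConj]
      exact ⟨IsConj.symm, IsConj.symm⟩
    rw [h5, ← ConjAct.orbit_eq_carrier_conjClasses, ← MulAction.index_stabilizer,
      ← Nat.card_congr (ConjAct.toConjAct (G := G)).toEquiv.symm]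
    exact Subgroup.index_dvd_card _
  rw [hF, hG, hj, hq, show j + 2 - 1 = j + 1 by omega,
    show (j + 2) * (j + 1) * (2 * q + 1) = (j + 1) * ((j + 2) * (2 * q + 1)) by ring] at hdvd
  have hd := Nat.Coprime.dvd_of_dvd_mul_left (Nat.coprime_mul_left_add_left _ _ _ |>.2 (Nat.coprime_one_left _))
    (Nat.dvd_of_mul_dvd_mul_left (Nat.succ_pos j) hdvd)
  have := Nat.le_of_dvd (by omega) hd
  have : j + 2 ≤ (j + 2) * q := Nat.le_mul_of_pos_right _ (by omega)
  omega

end Cfsg.Agent.S0880
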