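import Cfsg.Statements.S0882
import Cfsg.Agent.Lib.Zassenhaus.KernelCases

set_option autoImplicit false
open Cfsg

namespace Cfsg.Agent.S0882

/-- Let G be a finite simple Zassenhaus group on Ω with n = h + 1 points whose two-point stabilizer E has odd order e with 2e < h - 1. Then any two involutions of G are conjugate, and the number of involutions is e * (h + 1) if h is even and e * h if h is odd. -/
theorem result {G Ω : Type*} [Group G] [Finite G] [MulAction G Ω] [Fintype Ω] (hZ : Cfsg.IsZassenhausGroup G Ω) {a b : Ω} (hab : a ≠ b) [IsSimpleGroup G] (h e : ℕ) (hh : Fintype.card Ω = h + 1) (he : Nat.card ↥(MulAction.stabilizer G a ⊓ MulAction.stabilizer G b : Subgroup G) = e) (hodd : Odd e) (hlt : 2 * e < h - 1) : (∀ x y : G, orderOf x = 2 → orderOf y = 2 → IsConj x y) ∧ Nat.card {x : G // orderOf x = 2} = (if Even h then e * (h + 1) else e * h) := by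
  classical
  obtain ⟨U, hU⟩ := Lib.Zassenhaus.exists_regKernel hZ hab
  have hh' : Nat.card Ω = h + 1 := by rw [Nat.card_eq_fintype_card]; exact hh
  have hn : Odd (Nat.card Ω) := by
    rw [← Nat.not_even_iff_odd]
    intro hn
    have h1 := (Lib.Zassenhaus.even_degree hZ hab hU hn (he.symm ▸ hodd)).1
    omega
  obtain ⟨-, hcount, hconj, -⟩ := Lib.Zassenhaus.odd_involutions hZ hab hU hn
  have hiff : ∀ x : G, orderOf x = 2 ↔ (x * x = 1 ∧ x ≠ 1) := fun x =>
    ⟨fun hx => ⟨by rw [← pow_two, ← hx, pow_orderOf_eq_one],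
      fun e' => by rw [e', orderOf_one] at hx; omega⟩,
      fun hx => orderOf_eq_prime (by rw [pow_two, hx.1]) hx.2⟩
  refine ⟨fun x y hx hy => hconj x y ((hiff x).1 hx).1 ((hiff x).1 hx).2 ((hiff y).1 hy).1
    ((hiff y).1 hy).2, ?_⟩
  rw [Nat.card_congr (Equiv.subtypeEquivRight hiff), hcount, hh', he, if_pos ?_, mul_comm]
  obtain ⟨j, hj⟩ := hn
  exact ⟨j, by omega⟩

end Cfsg.Agent.S0882
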