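import Cfsg.Statements.S0883
import Cfsg.Agent.Lib.Zassenhaus.KernelCases

set_option autoImplicit false
open Cfsg

namespace Cfsg.Agent.S0883

/-- Let G be a finite simple Zassenhaus group on Ω with h + 1 points whose two-point stabilizer E has odd order e with 2e < h - 1, and let H be the subgroup of the stabilizer of a consisting of the identity and the elements fixing no point other than a (given here as a subgroup of the stabilizer of order one less than the number of points whose non-identity elements fix only a; it is the Frobenius kernel of the stabilizer). If a non-identity element u of H is a product of two involutions of G, then u is an involution. -/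
theorem result {G Ω : Type*} [Group G] [Finite G] [MulAction G Ω] [Fintype Ω] (hZ : Cfsg.IsZassenhausGroup G Ω) {a b : Ω} (hab : a ≠ b) [IsSimpleGroup G] (h e : ℕ) (hh : Fintype.card Ω = h + 1) (he : Nat.card ↥(MulAction.stabilizer G a ⊓ MulAction.stabilizer G b : Subgroup G) = e) (hodd : Odd e) (hlt : 2 * e < h - 1) (H : Subgroup G) (hHa : H ≤ MulAction.stabilizer G a) (hHcard : Nat.card H + 1 = Fintype.card Ω) (hHfix : ∀ u ∈ H, u ≠ 1 → ∀ c : Ω, u • c = c → c = a) (u : G) (hu : u ∈ H) (hu1 : u ≠ 1) (x y : G) (hx : orderOf x = 2) (hy : orderOf y = 2) (hxy : x * y = u) : orderOf u = 2 := by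
  classical
  have hU := Lib.Zassenhaus.regKernel_of_fix hZ hab hHa hHcard hHfix
  have hh' : Nat.card Ω = h + 1 := by rw [Nat.card_eq_fintype_card]; exact hh
  have hn : Odd (Nat.card Ω) := by
    rw [← Nat.not_even_iff_odd]
    intro hn
    have h1 := (Lib.Zassenhaus.even_degree hZ hab hU hn (he.symm ▸ hodd)).1
    omega
  obtain ⟨hAU, -, -, hcen⟩ := Lib.Zassenhaus.odd_involutions hZ hab hU hn
  have hxx : x * x = 1 := by rw [← pow_two, ← hx, pow_orderOf_eq_one]
  have hyy : y * y = 1 := by rw [← pow_two, ← hy, pow_orderOf_eq_one]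
  have hxinv : x⁻¹ = x := inv_eq_of_mul_eq_one_right hxx
  have hxu : x * u * x⁻¹ = u⁻¹ := by
    rw [← hxy, mul_inv_rev, inv_eq_of_mul_eq_one_right hyy, hxinv, ← mul_assoc x x, hxx, one_mul]
  have hxn : x ∈ Subgroup.normalizer (H : Set G) := by
    by_contra hxn
    exact hu1 (Lib.Zassenhaus.RegKernel.ti hZ hab hU x hxn u hu (hxu ▸ inv_mem hu))
  rw [Lib.Zassenhaus.RegKernel.normalizer_eq hZ hab hU, MulAction.mem_stabilizer_iff] at hxn
  have hxH : x ∈ H := hAU x hxx (fun e' => by rw [e', orderOf_one] at hx; omega) hxn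
  have hc := hcen x hxH hxx u hu
  rw [← hc, mul_inv_cancel_right] at hxu
  exact orderOf_eq_prime (by rw [pow_two]; exact eq_inv_iff_mul_eq_one.1 hxu) hu1

end Cfsg.Agent.S0883
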