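import Cfsg.Statements.S0884
import Cfsg.Agent.Lib.Zassenhaus.FpfClasses

set_option autoImplicit false
open Cfsg

namespace Cfsg.Agent.S0884

/-- Let G be a finite simple Zassenhaus group on Ω with h + 1 points whose two-point stabilizer E has odd order e with 2e < h - 1, and let H be the subgroup of the stabilizer of a consisting of the identity and the elements fixing no point other than a (given here as a subgroup of the stabilizer of order one less than the number of points whose non-identity elements fix only a; it is the Frobenius kernel of the stabilizer). Then at least e conjugacy classes of G contain no element of H. -/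
theorem result {G Ω : Type*} [Group G] [Finite G] [MulAction G Ω] [Fintype Ω] (hZ : Cfsg.IsZassenhausGroup G Ω) {a b : Ω} (hab : a ≠ b) [IsSimpleGroup G] (h e : ℕ) (hh : Fintype.card Ω = h + 1) (he : Nat.card ↥(MulAction.stabilizer G a ⊓ MulAction.stabilizer G b : Subgroup G) = e) (hodd : Odd e) (hlt : 2 * e < h - 1) (H : Subgroup G) (hHa : H ≤ MulAction.stabilizer G a) (hHcard : Nat.card H + 1 = Fintype.card Ω) (hHfix : ∀ u ∈ H, u ≠ 1 → ∀ c : Ω, u • c = c → c = a) : e ≤ Nat.card {C : ConjClasses G // ∀ g : G, ConjClasses.mk g = C → g ∉ H} := by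
  classical
  have := Fintype.ofFinite G
  have hU := Lib.Zassenhaus.regKernel_of_fix hZ hab hHa hHcard hHfix
  have hh' : Nat.card Ω = h + 1 := by rw [Nat.card_eq_fintype_card]; exact hh
  have hn : Odd (Nat.card Ω) := by
    rw [← Nat.not_even_iff_odd]
    intro hn
    have h1 := (Lib.Zassenhaus.even_degree hZ hab hU hn (he.symm ▸ hodd)).1
    omega
  have hF := Lib.Zassenhaus.fpf_classes hZ hab hU hn
  rw [he] at hF
  have : Finite (ConjClasses G) := Finite.of_surjective ConjClasses.mk ConjClasses.mk_surjective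
  have := Fintype.ofFinite (ConjClasses G)
  set D := MulAction.stabilizer G a ⊓ MulAction.stabilizer G b with hD
  obtain ⟨t, ht, hta, htb⟩ := Lib.Zassenhaus.exists_swap hZ hab
  obtain ⟨c₀, hc₀, hc₀u⟩ := Lib.Zassenhaus.existsUnique_fixed_of_odd hZ hn ht
  have hinv : ∀ δ ∈ D, t * δ * t⁻¹ = δ⁻¹ := fun δ hδ =>
    Lib.Zassenhaus.swap_inverts hZ hab ht hta htb hc₀ hc₀u hδ
  have hDcomm : ∀ x ∈ D, ∀ y ∈ D, x * y = y * x := by
    intro x hx y hy
    have h := hinv _ (mul_mem hx hy)
    rw [show t * (x * y) * t⁻¹ = (t * x * t⁻¹) * (t * y * t⁻¹) by group, hinv x hx, hinv y hy,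
      ← mul_inv_rev] at h
    exact (inv_injective h).symm
  -- conjugacy inside `G_ab`
  have hfus : ∀ x ∈ D, x ≠ 1 → ∀ y ∈ D, IsConj x y → y = x ∨ y = x⁻¹ := by
    intro x hx hx1 y hy hxy
    obtain ⟨g, hg⟩ := isConj_iff.1 hxy
    have hy1 : y ≠ 1 := fun h => hx1 (by rw [h, mul_inv_eq_one, mul_eq_left] at hg; exact hg)
    obtain ⟨hxa, hxb⟩ := Lib.Zassenhaus.mem_pair_stabilizer.1 hx
    obtain ⟨hya, hyb⟩ := Lib.Zassenhaus.mem_pair_stabilizer.1 hy
    have hmem : ∀ p, x • p = p → g • p = a ∨ g • p = b := by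
      intro p hp
      by_contra! hne
      refine hy1 (Lib.Zassenhaus.eq_one_of_three hZ hab hne.2.symm hne.1.symm hya hyb ?_)
      rw [← hg, mul_smul, mul_smul, inv_smul_smul, hp]
    rcases hmem a hxa with h1 | h1
    · have h2 : g • b = b := (hmem b hxb).resolve_left fun h =>
        hab (MulAction.injective g (h1.trans h.symm))
      left
      rw [← hg, hDcomm g (Lib.Zassenhaus.mem_pair_stabilizer.2 ⟨h1, h2⟩) x hx, mul_inv_cancel_right]
    · have h2 : g • b = a := (hmem b hxb).resolve_right fun h =>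
        hab (MulAction.injective g (h1.trans h.symm))
      right
      have hm : t⁻¹ * g ∈ D := Lib.Zassenhaus.mem_pair_stabilizer.2
        ⟨by rw [mul_smul, h1, inv_smul_eq_iff, hta], by rw [mul_smul, h2, inv_smul_eq_iff, htb]⟩
      rw [← hg]
      calc g * x * g⁻¹ = t * ((t⁻¹ * g) * x * (t⁻¹ * g)⁻¹) * t⁻¹ := by group
        _ = t * x * t⁻¹ := by rw [hDcomm _ hm x hx, mul_inv_cancel_right]
        _ = x⁻¹ := hinv x hx
  let A := Finset.univ.filter fun C : ConjClasses G => ∀ g : G, ConjClasses.mk g = C → g ∉ H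
  let F := Finset.univ.filter fun C : ConjClasses G =>
    ∀ g : G, ConjClasses.mk g = C → ∀ c : Ω, g • c ≠ c
  let S := Finset.univ.filter fun x : G => x ∈ D ∧ x ≠ 1
  have hFA : F ⊆ A := fun C hC => Finset.mem_filter.2 ⟨Finset.mem_univ _, fun g hg hgH =>
    (Finset.mem_filter.1 hC).2 g hg a (MulAction.mem_stabilizer_iff.1 (hHa hgH))⟩
  have hSA : S.image ConjClasses.mk ⊆ A := by
    intro C hC
    obtain ⟨x, hx, rfl⟩ := Finset.mem_image.1 hC
    obtain ⟨-, hxD, hx1⟩ := Finset.mem_filter.1 hx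
    obtain ⟨hxa, hxb⟩ := Lib.Zassenhaus.mem_pair_stabilizer.1 hxD
    refine Finset.mem_filter.2 ⟨Finset.mem_univ _, fun g hg hgH => ?_⟩
    obtain ⟨k, hk⟩ := isConj_iff.1 (ConjClasses.mk_eq_mk_iff_isConj.1 hg).symm
    have hg1 : g ≠ 1 := fun h => hx1 (by rw [h, mul_inv_eq_one, mul_eq_left] at hk; exact hk)
    have e1 := hHfix g hgH hg1 (k • a) (by rw [← hk, mul_smul, mul_smul, inv_smul_smul, hxa])
    have e2 := hHfix g hgH hg1 (k • b) (by rw [← hk, mul_smul, mul_smul, inv_smul_smul, hxb])
    exact hab (MulAction.injective k (e1.trans e2.symm))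
  have hdisj : Disjoint F (S.image ConjClasses.mk) := by
    refine Finset.disjoint_left.2 fun C hC hC' => ?_
    obtain ⟨x, hx, rfl⟩ := Finset.mem_image.1 hC'
    exact (Finset.mem_filter.1 hC).2 x rfl a
      (Lib.Zassenhaus.mem_pair_stabilizer.1 (Finset.mem_filter.1 hx).2.1).1
  have hS2 : S.card ≤ 2 * (S.image ConjClasses.mk).card := by
    refine Finset.card_le_mul_card_image S 2 fun C hC => ?_
    obtain ⟨x, hx, rfl⟩ := Finset.mem_image.1 hC
    obtain ⟨-, hxD, hx1⟩ := Finset.mem_filter.1 hx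
    refine (Finset.card_le_card (t := {x, x⁻¹}) fun y hy => ?_).trans Finset.card_le_two
    obtain ⟨hy1, hy2⟩ := Finset.mem_filter.1 hy
    rw [Finset.mem_insert, Finset.mem_singleton]
    exact hfus x hxD hx1 y (Finset.mem_filter.1 hy1).2.1
      (ConjClasses.mk_eq_mk_iff_isConj.1 hy2).symm
  have hScard : S.card + 1 = e := by
    rw [← he, Nat.card_eq_fintype_card, Fintype.card_subtype,
      ← Finset.card_erase_add_one (s := Finset.univ.filter fun x : G => x ∈ D) (a := (1 : G))
        (by simp)]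
    congr 2
    ext x; simp [S, and_comm]
  have hAcard : Nat.card {C : ConjClasses G // ∀ g : G, ConjClasses.mk g = C → g ∉ H} = A.card := by
    rw [Nat.card_eq_fintype_card, Fintype.card_subtype]
  have hFcard : Nat.card {C : ConjClasses G // ∀ g : G, ConjClasses.mk g = C → ∀ c : Ω, g • c ≠ c} =
      F.card := by rw [Nat.card_eq_fintype_card, Fintype.card_subtype]
  rw [hAcard]
  rw [hFcard] at hF
  have := Finset.card_le_card (Finset.union_subset hFA hSA)
  rw [Finset.card_union_of_disjoint hdisj] at this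
  omega

end Cfsg.Agent.S0884
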