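import Cfsg.Statements.S0893
import Cfsg.Agent.Lib.Brauer.ExtraspecialChar
import Cfsg.Agent.Lib.Induced.Character
import Cfsg.Agent.Lib.Brauer.PermChar

set_option autoImplicit false
open Cfsg

namespace Cfsg.Agent.S0893

/-- Let P be an extraspecial p-group of order p ^ (2 * n + 1), A an abelian subgroup of order p ^ (n + 1), and λ a character of A of degree 1 that is not identically 1 on the elements of A lying in the centre of P. Then the function induced from λ to P is an irreducible character of P and vanishes at every element outside the centre. -/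
theorem result {P : Type*} [Group P] [Fintype P] (p n : ℕ) [Fact p.Prime] (hP : Cfsg.IsExtraspecial p P) (hcard : Nat.card P = p ^ (2 * n + 1)) (A : Subgroup P) (hab : ∀ a ∈ A, ∀ b ∈ A, a * b = b * a) (hA : Nat.card A = p ^ (n + 1)) (lam : A → ℂ) (hlam : Cfsg.IsCharacter A lam ∧ lam 1 = 1) (hZ : ∃ a : A, (a : P) ∈ Subgroup.center P ∧ lam a ≠ 1) : Cfsg.IsIrrCharacter P (Cfsg.indFun A lam) ∧ ∀ x : P, x ∉ Subgroup.center P → Cfsg.indFun A lam x = 0 := by
  classical
  obtain ⟨a, haZ, ha⟩ := hZ
  have ha1 : (a : P) ≠ 1 := fun h => ha (by rw [show a = 1 from Subtype.ext h, hlam.2])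
  have hZA : Subgroup.center P ≤ A :=
    (Agent.Lib.Brauer.ExtraspecialChar.center_le_zpowers hP haZ ha1).trans
      (Subgroup.zpowers_le.2 a.2)
  have hval : ∀ z (hz : z ∈ Subgroup.center P) (x : P),
      Cfsg.indFun A lam (x * z) = lam ⟨z, hZA hz⟩ * Cfsg.indFun A lam x := by
    intro z hz x
    simp only [Cfsg.indFun]
    rw [mul_left_comm]
    congr 1
    rw [Finset.mul_sum]
    refine Finset.sum_congr rfl fun y _ => ?_
    have e : y⁻¹ * (x * z) * y = y⁻¹ * x * y * z := by
      rw [mul_assoc (y⁻¹ * x), Subgroup.mem_center_iff.1 hz y]; group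
    rw [e]
    by_cases hw : y⁻¹ * x * y ∈ A
    · rw [Agent.Lib.Brauer.PermChar.ext0_mem lam hw,
        Agent.Lib.Brauer.PermChar.ext0_mem lam (A.mul_mem hw (hZA hz)), mul_comm,
        ← Agent.Lib.Characters.Linear.apply_mul_of_degree_one hlam.1 hlam.2]
      rfl
    · rw [Agent.Lib.Brauer.PermChar.ext0_notMem lam hw, Agent.Lib.Brauer.PermChar.ext0_notMem lam
        (fun h => hw (by simpa using A.mul_mem h (A.inv_mem (hZA hz)))), mul_zero]
  have hone : Cfsg.indFun A lam 1 = (p : ℂ) ^ n := by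
    simp only [Cfsg.indFun, mul_one, inv_mul_cancel,
      Agent.Lib.Brauer.PermChar.ext0_mem lam A.one_mem]
    rw [show lam ⟨1, A.one_mem⟩ = 1 from hlam.2, Finset.sum_const, nsmul_eq_mul, mul_one,
      Finset.card_univ, ← Nat.card_eq_fintype_card, hcard, hA]
    have hp0 : (p : ℂ) ≠ 0 := Nat.cast_ne_zero.2 (Fact.out : p.Prime).ne_zero
    push_cast
    rw [show 2 * n + 1 = (n + 1) + n by ring, pow_add (p : ℂ) (n + 1) n, ← mul_assoc,
      inv_mul_cancel₀ (pow_ne_zero _ hp0), one_mul]
  have hvan : ∀ x : P, x ∉ Subgroup.center P → Cfsg.indFun A lam x = 0 := fun x hx =>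
    Agent.Lib.Brauer.ExtraspecialChar.vanish_of_translate hP
      (Agent.Lib.Brauer.PermChar.indFun_classFun A lam) haZ ha (fun y => hval a haZ y) hx
  refine ⟨Agent.Lib.Characters.Basic.isIrrCharacter_of_classInner_self
    (Agent.Lib.Induced.Character.isCharacter_indFun A hlam.1) ?_, hvan⟩
  have hsq : ∀ z ∈ Subgroup.center P,
      Cfsg.indFun A lam z * (starRingEnd ℂ) (Cfsg.indFun A lam z) = ((p ^ (2 * n) : ℕ) : ℂ) := by
    intro z hz
    have h := hval z hz 1
    rw [one_mul, hone] at h
    rw [h, map_mul, ← Agent.Lib.Characters.Basic.apply_inv hlam.1, mul_mul_mul_comm,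
      ← Agent.Lib.Characters.Linear.apply_mul_of_degree_one hlam.1 hlam.2, mul_inv_cancel,
      hlam.2, one_mul, map_pow, Complex.conj_natCast, ← pow_add, ← two_mul, Nat.cast_pow]
  rw [Cfsg.classInner, ← Finset.sum_filter_add_sum_filter_not Finset.univ (· ∈ Subgroup.center P),
    Finset.sum_eq_zero (s := Finset.univ.filter fun x => x ∉ Subgroup.center P)
      (fun x hx => by rw [hvan x (Finset.mem_filter.1 hx).2, zero_mul]), add_zero,
    Finset.sum_congr rfl (fun x hx => hsq x (Finset.mem_filter.1 hx).2), Finset.sum_const,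
    nsmul_eq_mul, ← Fintype.card_subtype, ← Nat.card_eq_fintype_card,
    show Nat.card {x : P // x ∈ Subgroup.center P} = p from hP.2, hcard,
    inv_mul_eq_one₀ (by exact_mod_cast pow_ne_zero _ (Fact.out : p.Prime).ne_zero)]
  push_cast
  ring

end Cfsg.Agent.S0893
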