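import Cfsg.Statements.S0900
import Cfsg.Agent.Lib.Clifford.Basic
import Cfsg.Agent.Lib.Induced.Generalized

set_option autoImplicit false
open Cfsg Cfsg.Agent.Lib
open scoped ComplexConjugate

namespace Cfsg.Agent.S0900

/-- Let N be a normal subgroup of the finite group G, χ an irreducible character of G and ϑ an irreducible character of N having nonzero inner product with the restriction of χ. Consider: (a) the restriction of χ to N is e • ϑ for a natural number e with e ^ 2 equal to the index of N; (b) χ vanishes outside N and ϑ is invariant under conjugation by G; (c) ϑ is invariant and every irreducible character of G having nonzero inner product with the function induced from ϑ equals χ. Then (a) ↔ (b) and (a) ↔ (c). -/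
theorem result {G : Type*} [Group G] [Fintype G] (N : Subgroup G) [hN : N.Normal] [Fintype N] (χ : G → ℂ) (hχ : Cfsg.IsIrrCharacter G χ) (ϑ : N → ℂ) (hϑ : Cfsg.IsIrrCharacter N ϑ) (hcon : Cfsg.classInner (fun n : N => χ n) ϑ ≠ 0) : ((∃ e : ℕ, (fun n : N => χ n) = (e : ℂ) • ϑ ∧ e ^ 2 = N.index) ↔ ((∀ g : G, g ∉ N → χ g = 0) ∧ ∀ (g : G) (n : N), ϑ ⟨g * n * g⁻¹, hN.conj_mem (n : G) n.2 g⟩ = ϑ n)) ∧ ((∃ e : ℕ, (fun n : N => χ n) = (e : ℂ) • ϑ ∧ e ^ 2 = N.index) ↔ (∀ (g : G) (n : N), ϑ ⟨g * n * g⁻¹, hN.conj_mem (n : G) n.2 g⟩ = ϑ n ∧ ∀ ψ : G → ℂ, Cfsg.IsIrrCharacter G ψ → Cfsg.classInner (Cfsg.indFun N ϑ) ψ ≠ 0 → ψ = χ)) := by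
  classical
  have hχI : χ = ((⟨χ, hχ⟩ : Cfsg.IrrCharacter G) : G → ℂ) := rfl
  have hχc := Characters.Basic.IsCharacter_of_isIrrCharacter hχ
  have hχcl := Characters.Basic.isClassFunction_of_isCharacter hχc
  have hself : Cfsg.classInner χ χ = 1 := Characters.Basic.classInner_self_irr ⟨χ, hχ⟩
  have hϑself : Cfsg.classInner ϑ ϑ = 1 := Characters.Basic.classInner_self_irr ⟨ϑ, hϑ⟩
  have hG0 : (Nat.card G : ℂ) ≠ 0 := by exact_mod_cast Nat.card_pos.ne'
  have hN0 : (Nat.card N : ℂ) ≠ 0 := by exact_mod_cast Nat.card_pos.ne'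
  have hidx : (Nat.card G : ℂ) = (Nat.card N : ℂ) * N.index := by
    rw [← Nat.cast_mul, N.card_mul_index]
  have hsumN : ∀ F : G → ℂ, (∀ g, g ∉ N → F g = 0) → ∑ g : G, F g = ∑ n : N, F n := by
    intro F hF
    rw [← Finset.sum_subset (Finset.subset_univ (Finset.univ.filter (· ∈ N)))
      (fun g _ hg => hF g (fun h => hg (Finset.mem_filter.2 ⟨Finset.mem_univ g, h⟩)))]
    exact Finset.sum_subtype _ (fun g => by simp) F
  -- the key identity
  have hsum : ∀ e : ℕ, (fun n : N => χ n) = (e : ℂ) • ϑ →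
      (∑ n : N, χ n * conj (χ n)) = (Nat.card N : ℂ) * (e : ℂ) ^ 2 := by
    intro e he
    have h1 : ∑ n : N, ϑ n * conj (ϑ n) = (Nat.card N : ℂ) := by
      rw [Cfsg.classInner, inv_mul_eq_one₀ hN0] at hϑself
      exact hϑself.symm
    rw [← h1, Finset.sum_mul]
    refine Finset.sum_congr rfl fun n _ => ?_
    have h2 := congrFun he n
    simp only [Pi.smul_apply, smul_eq_mul] at h2
    rw [h2, map_mul, map_natCast]; ring
  have hinv_of : ∀ e : ℕ, (fun n : N => χ n) = (e : ℂ) • ϑ →
      ∀ (g : G) (n : N), ϑ ⟨g * n * g⁻¹, hN.conj_mem (n : G) n.2 g⟩ = ϑ n := by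
    intro e he g n
    have he0 : (e : ℂ) ≠ 0 := by
      intro h
      apply hcon
      rw [he, h, zero_smul, Characters.Basic.classInner_zero_left]
    apply mul_left_cancel₀ he0
    have h1 := congrFun he ⟨g * n * g⁻¹, hN.conj_mem (n : G) n.2 g⟩
    have h2 := congrFun he n
    simp only [Pi.smul_apply, smul_eq_mul] at h1 h2
    rw [← h1, ← h2]
    exact hχcl n g
  have hrestr : (∀ (g : G) (n : N), ϑ ⟨g * n * g⁻¹, hN.conj_mem (n : G) n.2 g⟩ = ϑ n) →
      ∃ e : ℕ, (fun n : N => χ n) = (e : ℂ) • ϑ := by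
    intro hinv
    obtain ⟨e, he⟩ := Characters.Basic.exists_classInner_nat
      (Characters.Basic.isCharacter_comp N.subtype hχc)
      (Characters.Basic.IsCharacter_of_isIrrCharacter hϑ)
    refine ⟨e, ?_⟩
    have h := Clifford.Basic.restrict_eq_smul N hχ (⟨ϑ, hϑ⟩ : Cfsg.IrrCharacter N) hcon
      (fun g => funext fun n => by rw [Clifford.Basic.conjC_apply]; exact hinv g n)
    rw [h]
    exact congrArg (· • ϑ) he
  -- A implies vanishing
  have hvan : ∀ e : ℕ, (fun n : N => χ n) = (e : ℂ) • ϑ → e ^ 2 = N.index →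
      ∀ g : G, g ∉ N → χ g = 0 := by
    intro e he he2 g hg
    have h1 : ∑ x : G, χ x * conj (χ x) = (Nat.card G : ℂ) := by
      rw [Cfsg.classInner, inv_mul_eq_one₀ hG0] at hself
      exact hself.symm
    have h2 : ∑ x ∈ Finset.univ.filter (fun x : G => x ∈ N), χ x * conj (χ x) = (Nat.card G : ℂ) := by
      rw [Finset.sum_subtype (p := (· ∈ N)) _ (fun x => by simp), hidx, hsum e he, ← he2]
      push_cast
      rfl
    rw [← Finset.sum_filter_add_sum_filter_not Finset.univ (· ∈ N), h2, add_eq_left] at h1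
    have h3 : ∑ x ∈ Finset.univ.filter (fun x : G => x ∉ N), Complex.normSq (χ x) = 0 := by
      have : ((∑ x ∈ Finset.univ.filter (fun x : G => x ∉ N), Complex.normSq (χ x) : ℝ) : ℂ) = 0 := by
        rw [← h1, Complex.ofReal_sum]
        exact Finset.sum_congr rfl fun x _ => (Complex.mul_conj (χ x)).symm
      exact_mod_cast this
    exact Complex.normSq_eq_zero.1
      ((Finset.sum_eq_zero_iff_of_nonneg fun x _ => Complex.normSq_nonneg _).1 h3 g
        (Finset.mem_filter.2 ⟨Finset.mem_univ g, hg⟩))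
  have hind : (∀ (g : G) (n : N), ϑ ⟨g * n * g⁻¹, hN.conj_mem (n : G) n.2 g⟩ = ϑ n) →
      ∀ n : N, Cfsg.indFun N ϑ n = (N.index : ℂ) * ϑ n := by
    intro hinv n
    rw [Clifford.Basic.indFun_apply_normal]
    have : ∀ x : G, Clifford.Basic.conjC N x ϑ n = ϑ n := fun x => by
      rw [Clifford.Basic.conjC_apply]; exact hinv x n
    rw [Finset.sum_congr rfl (fun x _ => this x), Finset.sum_const, Finset.card_univ, nsmul_eq_mul,
      ← Nat.card_eq_fintype_card, hidx]
    field_simp
  constructor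
  · constructor
    · rintro ⟨e, he, he2⟩
      exact ⟨hvan e he he2, hinv_of e he⟩
    · rintro ⟨hz, hinv⟩
      obtain ⟨e, he⟩ := hrestr hinv
      refine ⟨e, he, ?_⟩
      have h1 : ∑ x : G, χ x * conj (χ x) = (Nat.card G : ℂ) := by
        rw [Cfsg.classInner, inv_mul_eq_one₀ hG0] at hself
        exact hself.symm
      rw [hsumN _ (fun g hg => by rw [hz g hg, zero_mul]), hsum e he, hidx] at h1
      exact_mod_cast mul_left_cancel₀ hN0 h1
  · constructor
    · rintro ⟨e, he, he2⟩ g n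
      refine ⟨hinv_of e he g n, fun ψ hψ hne => ?_⟩
      have heq : Cfsg.indFun N ϑ = (e : ℂ) • χ := by
        funext x
        by_cases hx : x ∈ N
        · have h3 := congrFun he ⟨x, hx⟩
          simp only [Pi.smul_apply, smul_eq_mul] at h3
          rw [hind (hinv_of e he) ⟨x, hx⟩, Pi.smul_apply, smul_eq_mul, h3, ← mul_assoc, ← he2]
          push_cast; ring
        · rw [Induced.Basic.indFun_eq_zero_of_not_mem_normal N ϑ hx, Pi.smul_apply,
            hvan e he he2 x hx, smul_zero]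
      by_contra hcon'
      apply hne
      rw [heq, Induced.Basic.classInner_smul_left]
      have := Characters.Basic.classInner_irr_of_ne
        (χ := (⟨χ, hχ⟩ : Cfsg.IrrCharacter G)) (ψ := ⟨ψ, hψ⟩)
        (fun h => hcon' (congrArg Subtype.val h).symm)
      rw [show Cfsg.classInner χ ψ = 0 from this, mul_zero]
    · intro h
      have hinv : ∀ (g : G) (n : N), ϑ ⟨g * n * g⁻¹, hN.conj_mem (n : G) n.2 g⟩ = ϑ n :=
        fun g n => (h g n).1
      have huniq := (h 1 1).2
      obtain ⟨e, he⟩ := hrestr hinv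
      refine ⟨e, he, ?_⟩
      haveI : Fintype (Cfsg.IrrCharacter G) := Fintype.ofFinite _
      have hgen : Cfsg.IsCharacter G (Cfsg.indFun N ϑ) :=
        Induced.Character.isCharacter_indFun N (Characters.Basic.IsCharacter_of_isIrrCharacter hϑ)
      have hexp := Characters.Basic.character_eq_finsum hgen
      rw [finsum_eq_single _ (⟨χ, hχ⟩ : Cfsg.IrrCharacter G) (fun ψ hψ => by
        have : Cfsg.classInner (Cfsg.indFun N ϑ) (ψ : G → ℂ) = 0 :=
          not_not.1 fun h0 => hψ (Subtype.ext (huniq ψ ψ.2 h0))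
        rw [this, zero_smul])] at hexp
      have hfr : Cfsg.classInner (Cfsg.indFun N ϑ) χ = (e : ℂ) := by
        rw [Induced.Basic.frobenius_reciprocity N ϑ hχcl, he, Induced.Basic.classInner_smul_right,
          hϑself, map_natCast, mul_one]
      have h1 := congrFun hexp 1
      simp only [Pi.smul_apply, smul_eq_mul, hfr] at h1
      have h2 := congrFun he 1
      simp only [Pi.smul_apply, smul_eq_mul, OneMemClass.coe_one] at h2
      rw [Induced.Basic.indFun_one, h2, ← mul_assoc] at h1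
      have h3 := mul_right_cancel₀
        (Characters.Basic.apply_one_ne_zero (⟨ϑ, hϑ⟩ : Cfsg.IrrCharacter N)) h1
      have h4 : (N.index : ℂ) = ((e ^ 2 : ℕ) : ℂ) := by rw [h3]; push_cast; ring
      exact_mod_cast h4.symm

end Cfsg.Agent.S0900
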