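import Cfsg.Statements.S0902
import Cfsg.Agent.Lib.Blocks.DefectGroup

set_option autoImplicit false
open Cfsg

namespace Cfsg.Agent.S0902

open scoped ComplexConjugate
open Cfsg.Agent.Lib.Blocks Cfsg.Agent.Lib.Characters.Basic

theorem memLocalRing_blockCoeff_other {G : Type*} [Group G] [Finite G] {p : ℕ}
    {M M' : Ideal Cfsg.AlgInt} [M.IsMaximal] [M'.IsMaximal] (hM : Cfsg.IsPModular p M)
    (hM' : Cfsg.IsPModular p M') {B : Set (Cfsg.IrrCharacter G)} (hB : Cfsg.IsPBlock M B) (g : G) :
    Cfsg.MemLocalRing M' (Cfsg.blockCoeff B g) := by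
  classical
  haveI := Fintype.ofFinite G
  haveI := Fintype.ofFinite (Cfsg.IrrCharacter G)
  haveI := Fact.mk hM.1
  by_cases hg : p ∣ orderOf g
  · rw [blockCoeff_eq_zero_of_dvd hM hB hg]
    exact mem_localRing_iff.mp (zero_mem (localRing M'))
  obtain ⟨P⟩ : Nonempty (Sylow p G) := inferInstance
  haveI := Fintype.ofFinite (P : Subgroup G)
  set F : G → ℂ := fun v => ∑ χ : Cfsg.IrrCharacter G with χ ∈ B,
    conj ((χ : G → ℂ) g) * (χ : G → ℂ) v with hF
  have hF0 : ∀ v, p ∣ orderOf v → F v = 0 := fun v hv => by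
    have h := congrArg (starRingEnd ℂ) (weak_orthogonality hM hB hg hv)
    rw [finsum_mem_eq_toFinset_sum, map_sum, map_zero] at h
    simp only [map_mul, Complex.conj_conj] at h
    rw [← h, hF]
    exact Finset.sum_congr (by ext; simp) fun _ _ => rfl
  have hsum : ∑ u : (P : Subgroup G), F u = F 1 := by
    rw [Finset.sum_eq_single (1 : (P : Subgroup G))]
    · simp
    · intro u _ hu
      obtain ⟨k, hk⟩ := IsPGroup.iff_orderOf.mp P.2 u
      rw [← Subgroup.orderOf_coe] at hk
      exact hF0 _ (hk ▸ dvd_pow_self p fun h => hu (Subtype.ext (orderOf_eq_one_iff.mp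
        (by simp [hk, h]))))
    · exact fun h => absurd (Finset.mem_univ _) h
  have hint : IsIntegral ℤ ((Nat.card (P : Subgroup G) : ℂ)⁻¹ * F 1) := by
    rw [← hsum]
    simp only [hF]
    rw [Finset.sum_comm, Finset.mul_sum]
    refine IsIntegral.sum _ fun χ _ => ?_
    rw [← Finset.mul_sum, ← mul_assoc, mul_comm ((Nat.card (P : Subgroup G) : ℂ)⁻¹), mul_assoc]
    refine IsIntegral.mul ?_ ?_
    · rw [← apply_inv (isCharacter_irr χ)]
      exact isIntegral_apply (isCharacter_irr χ) _
    · simpa using isIntegral_average_coset χ (P : Subgroup G) (Subgroup.one_mem _)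
  have hc : Cfsg.blockCoeff B g =
      ((P : Subgroup G).index : ℂ)⁻¹ * ((Nat.card (P : Subgroup G) : ℂ)⁻¹ * F 1) := by
    rw [blockCoeff_eq_sum, ← mul_assoc, ← mul_inv, ← (P : Subgroup G).index_mul_card, Nat.cast_mul]
    refine congrArg _ (Finset.sum_congr rfl fun χ _ => mul_comm _ _)
  rw [hc]
  exact mem_localRing_iff.mp (mul_mem (natCast_inv_mem_localRing hM' P.not_dvd_index)
    (mem_localRing_of_isIntegral hint))

/-- If two irreducible characters of a finite group lie in the same block relative to one maximal ideal M of the algebraic integers containing the prime p, then at every element the difference of their central characters is an algebraic integer lying in every maximal ideal containing p; in particular they lie in the same block relative to any such ideal. -/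
theorem result {G : Type*} [Group G] [Finite G] (p : ℕ) [Fact p.Prime] (M : Ideal Cfsg.AlgInt) (hM : Cfsg.IsPModular p M) (χ ψ : Cfsg.IrrCharacter G) (h : Cfsg.SameBlock M (χ : G → ℂ) (ψ : G → ℂ)) (M' : Ideal Cfsg.AlgInt) (hM' : Cfsg.IsPModular p M') (g : G) : ∃ r : Cfsg.AlgInt, r ∈ M' ∧ (r : ℂ) = Cfsg.centralChar (χ : G → ℂ) g - Cfsg.centralChar (ψ : G → ℂ) g := by
  haveI := hM.2.1
  haveI := hM'.2.1
  have h1 : ψ ∈ Cfsg.blockOf M' (χ : G → ℂ) := by
    have hsub := blockOf_subset_of_memLocalRing (M := M)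
      (memLocalRing_blockCoeff_other hM' hM (isPBlock_blockOf χ)) (mem_blockOf_self χ)
    exact hsub h
  obtain hr := h1 g
  refine ⟨⟨_, ((isIntegral_centralChar χ g).sub
    (isIntegral_centralChar ψ g))⟩, ?_, rfl⟩
  exact memLocalIdeal_algInt_iff.mp hr

end Cfsg.Agent.S0902
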