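import Cfsg.Statements.S0903


set_option autoImplicit false
open Cfsg

namespace Cfsg.Agent.S0903

/-- Let P be a p-subgroup of the finite group G, let c centralize P and let g, h ∈ G. The number of pairs (x, y) with x conjugate to g, y conjugate to h and x * y = c is congruent modulo p to the number of such pairs in which x and y both centralize P. (This is why the Brauer map on class sums is multiplicative.) -/
theorem result {G : Type*} [Group G] [Finite G] (p : ℕ) [Fact p.Prime] (P : Subgroup G) (hP : IsPGroup p P) (c : G) (hc : c ∈ Subgroup.centralizer (P : Set G)) (g h : G) : Nat.card {xy : G × G // IsConj g xy.1 ∧ IsConj h xy.2 ∧ xy.1 * xy.2 = c} ≡ Nat.card {xy : G × G // IsConj g xy.1 ∧ IsConj h xy.2 ∧ xy.1 * xy.2 = c ∧ xy.1 ∈ Subgroup.centralizer (P : Set G) ∧ xy.2 ∈ Subgroup.centralizer (P : Set G)} [MOD p] := by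
  classical
  let X := {xy : G × G // IsConj g xy.1 ∧ IsConj h xy.2 ∧ xy.1 * xy.2 = c}
  letI : MulAction P X :=
    { smul := fun u xy => ⟨((u : G) * xy.1.1 * (u : G)⁻¹, (u : G) * xy.1.2 * (u : G)⁻¹),
        xy.2.1.trans (isConj_iff.mpr ⟨u, rfl⟩), xy.2.2.1.trans (isConj_iff.mpr ⟨u, rfl⟩), by
          have hu : (u : G) * c = c * u := Subgroup.mem_centralizer_iff.mp hc u u.2
          calc (u : G) * xy.1.1 * (u : G)⁻¹ * ((u : G) * xy.1.2 * (u : G)⁻¹)
              = (u : G) * (xy.1.1 * xy.1.2) * (u : G)⁻¹ := by simp [mul_assoc]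
            _ = c := by rw [xy.2.2.2, hu, mul_inv_cancel_right]⟩
      one_smul := fun xy => Subtype.ext <| Prod.ext (by
        show ((1 : P) : G) * xy.1.1 * ((1 : P) : G)⁻¹ = _; simp) (by
        show ((1 : P) : G) * xy.1.2 * ((1 : P) : G)⁻¹ = _; simp)
      mul_smul := fun u v xy => Subtype.ext <| Prod.ext (by
        show ((u * v : P) : G) * xy.1.1 * ((u * v : P) : G)⁻¹ =
          (u : G) * ((v : G) * xy.1.1 * (v : G)⁻¹) * (u : G)⁻¹
        simp [mul_assoc]) (by
        show ((u * v : P) : G) * xy.1.2 * ((u * v : P) : G)⁻¹ =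
          (u : G) * ((v : G) * xy.1.2 * (v : G)⁻¹) * (u : G)⁻¹
        simp [mul_assoc]) }
  have hfix : ∀ xy : X, xy ∈ MulAction.fixedPoints P X ↔
      xy.1.1 ∈ Subgroup.centralizer (P : Set G) ∧ xy.1.2 ∈ Subgroup.centralizer (P : Set G) := by
    intro xy
    constructor
    · intro hxy
      constructor <;> refine Subgroup.mem_centralizer_iff.mpr fun u hu => ?_
      · exact mul_inv_eq_iff_eq_mul.mp (congrArg Prod.fst (congrArg Subtype.val (hxy ⟨u, hu⟩)))
      · exact mul_inv_eq_iff_eq_mul.mp (congrArg Prod.snd (congrArg Subtype.val (hxy ⟨u, hu⟩)))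
    · intro hxy u
      exact Subtype.ext (Prod.ext
        (mul_inv_eq_iff_eq_mul.mpr (Subgroup.mem_centralizer_iff.mp hxy.1 u u.2))
        (mul_inv_eq_iff_eq_mul.mpr (Subgroup.mem_centralizer_iff.mp hxy.2 u u.2)))
  refine (hP.card_modEq_card_fixedPoints X).trans ?_
  refine Nat.ModEq.symm ?_
  unfold Nat.ModEq
  refine congrArg (· % p) ?_
  exact Nat.card_congr
    { toFun := fun z => ⟨⟨z.1, z.2.1, z.2.2.1, z.2.2.2.1⟩, (hfix _).mpr z.2.2.2.2⟩
      invFun := fun z => ⟨z.1.1, z.1.2.1, z.1.2.2.1, z.1.2.2.2, (hfix z.1).mp z.2⟩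
      left_inv := fun _ => rfl
      right_inv := fun _ => rfl }

end Cfsg.Agent.S0903
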