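import Cfsg.Statements.S0905
import Cfsg.Agent.Lib.BrauerMap.Nilpotent
import Cfsg.Agent.Lib.Cores.Basic

set_option autoImplicit false
open Cfsg

namespace Cfsg.Agent.S0905



/-- Let F be a field of characteristic p and let g be an element of the finite group G no conjugate of which centralizes O_p(G). Then the class sum of g is a nilpotent element of the group algebra F[G]. -/
theorem result {G : Type*} [Group G] [Finite G] (p : ℕ) [Fact p.Prime] (F : Type*) [Field F] [CharP F p] (g : G) (hg : ∀ x : G, IsConj g x → x ∉ Subgroup.centralizer (Cfsg.pCore p G : Set G)) : IsNilpotent (∑ᶠ x ∈ ConjClasses.carrier (ConjClasses.mk g), MonoidAlgebra.single x (1 : F) : MonoidAlgebra F G) := by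
  classical
  haveI := Fintype.ofFinite G
  have hn : g ∉ Subgroup.centralizer (Cfsg.pCore p G : Set G) := hg g (IsConj.refl g)
  haveI : (Cfsg.pCore p G).Normal := inferInstance
  obtain ⟨n, hn⟩ := Cfsg.Agent.Lib.BrauerMap.Nilpotent.isNilpotent_classSum F
    (Cfsg.Agent.Lib.Cores.pCore_isPGroup (G := G) p) hn
  refine ⟨n, ?_⟩
  have e : (∑ᶠ x ∈ ConjClasses.carrier (ConjClasses.mk g), MonoidAlgebra.single x (1 : F) :
      MonoidAlgebra F G) = Cfsg.Agent.Lib.BrauerMap.ClassSum.classSum F g := by
    rw [finsum_mem_eq_finite_toFinset_sum _ (Set.toFinite _)]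
    ext a
    rw [MonoidAlgebra.coeff_sum, Finsupp.finsetSum_apply,
      Cfsg.Agent.Lib.BrauerMap.ClassSum.coeff_classSum]
    simp [MonoidAlgebra.coeff_single, Finsupp.single_apply, ConjClasses.mem_carrier_iff_mk_eq,
      ConjClasses.mk_eq_mk_iff_isConj]
    simp only [← isConj_iff]
    exact if_congr isConj_comm rfl rfl
  rw [e]
  exact congrArg Subtype.val hn

end Cfsg.Agent.S0905
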