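import Cfsg.Statements.S0912
import Cfsg.Agent.Lib.Blocks.DefectGroup
import Cfsg.Agent.Lib.Cores.Basic
import Cfsg.Agent.Lib.BrauerMap.Nilpotent

set_option autoImplicit false
open Cfsg

namespace Cfsg.Agent.S0912

open Cfsg.Agent.Lib.Blocks

/-- Let B be a block of the finite group G relative to a maximal ideal M of the algebraic integers containing the prime p. Every defect group of B contains the largest normal p-subgroup O_p(G). -/
theorem result {G : Type*} [Group G] [Finite G] (p : ℕ) [Fact p.Prime] (M : Ideal Cfsg.AlgInt) (hM : Cfsg.IsPModular p M) (B : Set (Cfsg.IrrCharacter G)) (hB : Cfsg.IsPBlock M B) (D : Subgroup G) (hD : Cfsg.IsDefectGroup p M B D) : Cfsg.pCore p G ≤ D := by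
  haveI := hM.2.1
  letI := Ideal.Quotient.field M
  haveI := charP_residue hM
  haveI : (Cfsg.pCore p G).Normal := inferInstance
  obtain ⟨g, hg, P, rfl⟩ := hD
  obtain ⟨χ, hχ⟩ := isPBlock_nonempty hB
  have hp := Cfsg.Agent.Lib.Cores.pCore_isPGroup (G := G) p
  have hc : g ∈ Subgroup.centralizer (Cfsg.pCore p G : Set G) := by
    by_contra hn
    refine hg.2.2 χ hχ ((memLocalIdeal_centralChar_iff χ g).mpr ?_)
    rw [← omegaBar_classSumC]
    exact Cfsg.Agent.Lib.BrauerMap.Nilpotent.algHom_classSum_eq_zero hp hn _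
  refine normal_le_of_le_centralizer hp (fun q hq => ?_) P
  exact Subgroup.mem_centralizer_singleton_iff.mpr (hc q hq)

end Cfsg.Agent.S0912
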