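import Cfsg.Statements.S0915
import Cfsg.Agent.Lib.Blocks.Central
import Cfsg.Agent.Lib.BrauerMap.Nilpotent
import Cfsg.Agent.Lib.Cores.Basic
import Cfsg.Agent.Lib.PSolvable.HallHigman

set_option autoImplicit false
open Cfsg

namespace Cfsg.Agent.S0915

open MonoidAlgebra Cfsg.Agent.Lib.BrauerMap.ClassSum

/-- A homomorphism of the centre takes the class size at a class inside an abelian `p`-subgroup. -/
theorem algHom_classSum_eq_card {K : Type*} [Field K] {p : ℕ} [Fact p.Prime] [CharP K p]
    {G : Type*} [Group G] [Finite G] {C : Subgroup G} [C.Normal] (hC : IsPGroup p C)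
    (hab : ∀ a b : C, a * b = b * a) {g : G} (hg : g ∈ C)
    (lam : Subalgebra.center K (MonoidAlgebra K G) →ₐ[K] K) :
    lam (classSumC K g) = (Nat.card {a : G // IsConj g a} : K) := by
  classical
  haveI := Fintype.ofFinite G
  letI : CommGroup C := { (inferInstance : Group C) with mul_comm := hab }
  haveI : CharP (MonoidAlgebra K C) p :=
    charP_of_injective_algebraMap (algebraMap K (MonoidAlgebra K C)).injective p
  obtain ⟨e, he⟩ := IsPGroup.iff_card.mp hC
  have hmem : ∀ a : {a : G // IsConj g a}, (a : G) ∈ C := by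
    rintro ⟨a, ha⟩
    obtain ⟨c, rfl⟩ := isConj_iff.mp ha
    exact Subgroup.Normal.conj_mem inferInstance g hg c
  let φ : MonoidAlgebra K C →ₐ[K] MonoidAlgebra K G := MonoidAlgebra.mapDomainAlgHom K K C.subtype
  let s : MonoidAlgebra K C :=
    ∑ a : {a : G // IsConj g a}, single (⟨(a : G), hmem a⟩ : C) 1
  have hs : φ s = classSum K g := by
    rw [Cfsg.Agent.Lib.BrauerMap.Nilpotent.classSum_eq_sum, map_sum]
    exact Finset.sum_congr rfl fun a _ => by simp [φ]
  have hpow : s ^ p ^ e = (Nat.card {a : G // IsConj g a} : MonoidAlgebra K C) := by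
    simp only [s]
    rw [sum_pow_char_pow, Finset.sum_congr rfl fun (a : {a : G // IsConj g a}) _ => show
      (single (⟨(a : G), hmem a⟩ : C) (1 : K)) ^ p ^ e = 1 by
        rw [single_pow, one_pow, ← he, pow_card_eq_one', one_def],
      Finset.sum_const, nsmul_eq_mul, mul_one, Finset.card_univ, Nat.card_eq_fintype_card]
  have hz : (classSumC K g) ^ p ^ e = (Nat.card {a : G // IsConj g a} :
      Subalgebra.center K (MonoidAlgebra K G)) := by
    refine Subtype.ext ?_
    rw [SubmonoidClass.coe_pow]
    show classSum K g ^ p ^ e = _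
    rw [← hs, ← map_pow, hpow, map_natCast]
    rfl
  have h1 := congrArg lam hz
  rw [map_pow, map_natCast] at h1
  have h2 : (lam (classSumC K g) - (Nat.card {a : G // IsConj g a} : K)) ^ p ^ e = 0 := by
    rw [sub_pow_char_pow, h1, ← iterateFrobenius_def, map_natCast, sub_self]
  exact sub_eq_zero.mp (pow_eq_zero_iff (pow_ne_zero _ (Fact.out : p.Prime).ne_zero) |>.mp h2)

/-- Let G be a finite p-solvable group with trivial largest normal subgroup of order prime to p. Then any two irreducible characters of G lie in the same block relative to every maximal ideal M of the algebraic integers containing p: G has a single p-block. -/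
theorem result {G : Type*} [Group G] [Finite G] (p : ℕ) [Fact p.Prime] (M : Ideal Cfsg.AlgInt) (hM : Cfsg.IsPModular p M) (hsolv : Cfsg.IsPSolvable p G) (hcore : Cfsg.pPrimeCore p G = ⊥) (χ ψ : Cfsg.IrrCharacter G) : Cfsg.SameBlock M (χ : G → ℂ) (ψ : G → ℂ) := by
  classical
  haveI := hM.2.1
  letI := Ideal.Quotient.field M
  haveI := Cfsg.Agent.Lib.Blocks.charP_residue hM
  have hP := Cfsg.Agent.Lib.Cores.pCore_isPGroup (G := G) p
  haveI : (Cfsg.pCore p G).Normal := inferInstance
  have hle := Cfsg.Agent.Lib.PSolvable.centralizer_pCore_le hsolv hcore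
  refine Cfsg.Agent.Lib.Blocks.sameBlock_iff_residue.mpr fun g => ?_
  rw [← Cfsg.Agent.Lib.Blocks.omegaBar_classSumC, ← Cfsg.Agent.Lib.Blocks.omegaBar_classSumC]
  by_cases hg : g ∈ Subgroup.centralizer (Cfsg.pCore p G : Set G)
  · have hab : ∀ a b : Subgroup.centralizer (Cfsg.pCore p G : Set G), a * b = b * a := fun a b =>
      Subtype.ext (Subgroup.mem_centralizer_iff.mp b.2 a (hle a.2))
    haveI : (Subgroup.centralizer (Cfsg.pCore p G : Set G)).Normal := inferInstance
    rw [algHom_classSum_eq_card (hP.to_le hle) hab hg,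
      algHom_classSum_eq_card (hP.to_le hle) hab hg]
  · rw [Cfsg.Agent.Lib.BrauerMap.Nilpotent.algHom_classSum_eq_zero hP hg,
      Cfsg.Agent.Lib.BrauerMap.Nilpotent.algHom_classSum_eq_zero hP hg]

end Cfsg.Agent.S0915
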