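import Cfsg.Statements.S0916
import Cfsg.Agent.Lib.Blocks.DefectGroup
import Cfsg.Agent.Lib.BrauerPairs.Pairs

set_option autoImplicit false
open Cfsg

namespace Cfsg.Agent.S0916

theorem exists_sylow_of_card {G : Type*} [Group G] [Finite G] {p : ℕ} [Fact p.Prime]
    {P C : Subgroup G} (hle : P ≤ C) (hcard : Nat.card P = p ^ (Nat.card C).factorization p) :
    ∃ S : Sylow p C, (S : Subgroup C).map C.subtype = P :=
  ⟨Sylow.ofCard (P.subgroupOf C)
    (by rw [Nat.card_congr (Subgroup.subgroupOfEquivOfLe hle).toEquiv, hcard]),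
    Subgroup.map_subgroupOf_eq_of_le hle⟩

theorem card_eq_of_sylow {G : Type*} [Group G] [Finite G] {p : ℕ} [Fact p.Prime]
    {P C : Subgroup G} {S : Sylow p C} (hS : (S : Subgroup C).map C.subtype = P) :
    Nat.card P = p ^ (Nat.card C).factorization p := by
  rw [← hS, ← Nat.card_congr ((S : Subgroup C).equivMapOfInjective _ C.subtype_injective).toEquiv]
  exact S.card_eq_multiplicity

theorem mem_centralizer_iff_le {G : Type*} [Group G] {P : Subgroup G} {c : G} :
    c ∈ Subgroup.centralizer (P : Set G) ↔ P ≤ Subgroup.centralizer ({c} : Set G) := by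
  constructor
  · intro h q hq
    exact Subgroup.mem_centralizer_singleton_iff.mpr (Subgroup.mem_centralizer_iff.mp h q hq)
  · intro h
    exact Subgroup.mem_centralizer_iff.mpr fun q hq =>
      Subgroup.mem_centralizer_singleton_iff.mp (h hq)

/-- Let P be a p-subgroup of the finite group G, C its centralizer and N its normalizer. Say that a conjugacy class (of G, or of N) has defect group P when P is a Sylow p-subgroup of the centralizer (in G, respectively in N) of some element of the class. Then: (i) if the class of g in G has defect group P, the elements of that class lying in C form a single N-class, again with defect group P; (ii) every N-class with defect group P arises this way from exactly one G-class with defect group P. -/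
theorem result {G : Type*} [Group G] [Finite G] (p : ℕ) [Fact p.Prime] (P : Subgroup G) (hP : IsPGroup p P) : (∀ g : G, (∃ S : Sylow p (Subgroup.centralizer ({g} : Set G)), (S : Subgroup (Subgroup.centralizer ({g} : Set G))).map (Subgroup.centralizer ({g} : Set G)).subtype = P) → (∃ c : G, IsConj g c ∧ c ∈ Subgroup.centralizer (P : Set G)) ∧ (∀ c₁ c₂ : G, IsConj g c₁ → IsConj g c₂ → c₁ ∈ Subgroup.centralizer (P : Set G) → c₂ ∈ Subgroup.centralizer (P : Set G) → ∃ n ∈ Subgroup.normalizer (P : Set G), n * c₁ * n⁻¹ = c₂)) ∧ (∀ c : G, c ∈ Subgroup.centralizer (P : Set G) → (∃ S : Sylow p (Subgroup.centralizer ({c} : Set G) ⊓ Subgroup.normalizer (P : Set G) : Subgroup G), (S : Subgroup ↥(Subgroup.centralizer ({c} : Set G) ⊓ Subgroup.normalizer (P : Set G))).map (Subgroup.centralizer ({c} : Set G) ⊓ Subgroup.normalizer (P : Set G)).subtype = P) → ∃ S : Sylow p (Subgroup.centralizer ({c} : Set G)), (S : Subgroup (Subgroup.centralizer ({c} : Set G))).map (Subgroup.centralizer ({c} : Set G)).subtype = P) := by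
  constructor
  · rintro g ⟨S, hS⟩
    have hgC : g ∈ Subgroup.centralizer (P : Set G) :=
      mem_centralizer_iff_le.mpr (hS ▸ Subgroup.map_subtype_le _)
    refine ⟨⟨g, IsConj.refl g, hgC⟩, fun c₁ c₂ h₁ h₂ hc₁ hc₂ => ?_⟩
    obtain ⟨t, ht⟩ := isConj_iff.mp (h₁.symm.trans h₂)
    have hcard : ∀ c, IsConj g c →
        Nat.card P = p ^ (Nat.card (Subgroup.centralizer ({c} : Set G))).factorization p := by
      intro c hc
      have hG := (Subgroup.centralizer ({g} : Set G)).index_mul_card
      rw [Cfsg.Agent.Lib.Blocks.centralizer_index_eq_of_isConj hc,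
        ← (Subgroup.centralizer ({c} : Set G)).index_mul_card] at hG
      rw [← Nat.eq_of_mul_eq_mul_left
        (Nat.pos_of_ne_zero Subgroup.index_ne_zero_of_finite) hG]
      exact card_eq_of_sylow hS
    have hle : P.map (MulAut.conj t).toMonoidHom ≤ Subgroup.centralizer ({c₂} : Set G) := by
      rintro _ ⟨q, hq, rfl⟩
      refine Subgroup.mem_centralizer_singleton_iff.mpr ?_
      have h := Subgroup.mem_centralizer_iff.mp hc₁ q hq
      rw [← ht]
      simpa [mul_assoc] using congrArg (fun z => t * z * t⁻¹) h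
    obtain ⟨S₁, hS₁⟩ := exists_sylow_of_card hle (by
      rw [Cfsg.Agent.Lib.Blocks.card_map_conj]; exact hcard c₂ h₂)
    obtain ⟨S₂, hS₂⟩ := exists_sylow_of_card (mem_centralizer_iff_le.mp hc₂) (hcard c₂ h₂)
    obtain ⟨s, hs⟩ := MulAction.exists_smul_eq (Subgroup.centralizer ({c₂} : Set G)) S₁ S₂
    have hmem : (s : G) * t ∈ Subgroup.normalizer (P : Set G) := by
      rw [Subgroup.mem_normalizer_iff_map_conj_eq]
      refine Subgroup.eq_of_le_of_card_ge ?_ (le_of_eq (Cfsg.Agent.Lib.Blocks.card_map_conj _ P).symm)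
      rintro _ ⟨q, hq, rfl⟩
      obtain ⟨q₁, hq₁, hq₁e⟩ := hS₁.ge (Subgroup.mem_map_of_mem _ hq)
      have h4 : MulAut.conj s q₁ ∈ (S₂ : Subgroup (Subgroup.centralizer ({c₂} : Set G))) := by
        rw [← hs, Sylow.coe_subgroup_smul]
        exact Subgroup.smul_mem_pointwise_smul q₁ (MulAut.conj s) _ hq₁
      have h5 := hS₂.le (Subgroup.mem_map_of_mem _ h4)
      have e : (q₁ : G) = t * q * t⁻¹ := hq₁e
      simpa [e, mul_assoc] using h5
    refine ⟨(s : G) * t, hmem, ?_⟩
    rw [mul_inv_rev, show (s : G) * t * c₁ * (t⁻¹ * (s : G)⁻¹) = (s : G) * (t * c₁ * t⁻¹) * (s : G)⁻¹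
      by group, ht, Subgroup.mem_centralizer_singleton_iff.mp s.2, mul_inv_cancel_right]
  · rintro c hc ⟨S, hS⟩
    have hle := mem_centralizer_iff_le.mp hc
    obtain ⟨T, hT⟩ := (hP.of_equiv (Subgroup.subgroupOfEquivOfLe hle).symm).exists_le_sylow
    refine ⟨T, le_antisymm ?_ (fun q hq => ⟨⟨q, hle hq⟩, hT hq, rfl⟩)⟩
    set Q := (T : Subgroup (Subgroup.centralizer ({c} : Set G))).map
      (Subgroup.centralizer ({c} : Set G)).subtype with hQ
    by_contra hne
    have hlt : P < Q := lt_of_le_of_ne (fun q hq => ⟨⟨q, hle hq⟩, hT hq, rfl⟩)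
      (fun e => hne e.ge)
    have hQp : IsPGroup p Q := T.2.map _
    have hlt' := Cfsg.Agent.Lib.BrauerPairs.Pairs.lt_normalizer_inf hQp hlt
    have hR : Q ⊓ Subgroup.normalizer (P : Set G) ≤
        Subgroup.centralizer ({c} : Set G) ⊓ Subgroup.normalizer (P : Set G) :=
      inf_le_inf_right _ (Subgroup.map_subtype_le _)
    have h2 := card_eq_of_sylow hS
    have h3 : Nat.card ↥(Q ⊓ Subgroup.normalizer (P : Set G)) ≤ Nat.card P := by
      obtain ⟨n, hn⟩ := IsPGroup.iff_card.mp (hQp.to_le (inf_le_left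
        (b := Subgroup.normalizer (P : Set G))))
      rw [h2, hn]
      refine Nat.pow_le_pow_right (Fact.out : p.Prime).pos ?_
      refine ((Fact.out : p.Prime).pow_dvd_iff_le_factorization Nat.card_pos.ne').mp ?_
      rw [← hn]
      exact Subgroup.card_dvd_of_le hR
    exact hlt'.ne (Subgroup.eq_of_le_of_card_ge hlt'.le h3)

end Cfsg.Agent.S0916
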