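import Cfsg.Statements.S0921
import Cfsg.Agent.S0914
import Cfsg.Agent.Lib.BrauerMap.Covering
import Cfsg.Agent.Lib.Cores.Basic
import Cfsg.Agent.Lib.BlocksChars5.Basic

set_option autoImplicit false
open Cfsg

namespace Cfsg.Agent.S0921

open Cfsg.Agent.Lib.Blocks Cfsg.Agent.Lib.BrauerMap.Normal Cfsg.Agent.Lib.BrauerMap.Covering

/-- Let N = O_p'(G) be the largest normal subgroup of the finite group G of order prime to p, and fix a maximal ideal M of the algebraic integers containing p. If two irreducible characters χ, ψ of G lie in the same block relative to M, then an irreducible character of N occurs in the restriction of χ exactly when it occurs in the restriction of ψ. -/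
theorem result {G : Type*} [Group G] [Finite G] (p : ℕ) [Fact p.Prime] (M : Ideal Cfsg.AlgInt) (hM : Cfsg.IsPModular p M) [Fintype G] (χ ψ : Cfsg.IrrCharacter G) (h : Cfsg.SameBlock M (χ : G → ℂ) (ψ : G → ℂ)) (θ : Cfsg.IrrCharacter (Cfsg.pPrimeCore p G)) [Fintype (Cfsg.pPrimeCore p G)] : Cfsg.classInner (fun n : Cfsg.pPrimeCore p G => (χ : G → ℂ) n) (θ : Cfsg.pPrimeCore p G → ℂ) ≠ 0 ↔ Cfsg.classInner (fun n : Cfsg.pPrimeCore p G => (ψ : G → ℂ) n) (θ : Cfsg.pPrimeCore p G → ℂ) ≠ 0 := by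
  classical
  haveI := hM.2.1
  have hndvd := Cfsg.Agent.Lib.Cores.not_dvd_card_pPrimeCore (G := G) p
  have key : ∀ α β : Cfsg.IrrCharacter G, Cfsg.SameBlock M (α : G → ℂ) (β : G → ℂ) →
      Cfsg.classInner (resFun (Cfsg.pPrimeCore p G) (α : G → ℂ)) (θ : _ → ℂ) ≠ 0 →
      Cfsg.classInner (resFun (Cfsg.pPrimeCore p G) (β : G → ℂ)) (θ : _ → ℂ) ≠ 0 := by
    intro α β hαβ hθ
    obtain ⟨η, hη⟩ := exists_constituent_restrict (Cfsg.pPrimeCore p G) β
    obtain ⟨g, hg⟩ := exists_conj_mem_of_constituents (Cfsg.pPrimeCore p G) hαβ hθ hη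
    rw [(Cfsg.Agent.S0914.result p M hM θ).mp fun hd => hndvd (hd.trans
      (Nat.div_dvd_of_dvd (Cfsg.Agent.Lib.BlocksChars5.Basic.degree_dvd_card θ)))] at hg
    rw [← Set.mem_singleton_iff.mp hg, classInner_conjIrr]
    exact hη
  exact ⟨key χ ψ h, key ψ χ (sameBlock_symm h)⟩

end Cfsg.Agent.S0921
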