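import Cfsg.Statements.S0923
import Cfsg.Agent.Lib.Blocks.SecondMain

set_option autoImplicit false
open Cfsg

namespace Cfsg.Agent.S0923

/-- Brauer's Second Main Theorem, in terms of ordinary characters. Let x be a p-element of the finite group G with centralizer C, let χ lie in the block B of G and let b be a block of C that does not induce B (relative to a maximal ideal M of the algebraic integers containing p). Form the class function ϑ(c) = χ(x c) on C and its b-part (the sum over ψ ∈ b of the inner product of ϑ with ψ, times ψ). Then the b-part of ϑ vanishes at every p-regular element of C. (Equivalently, the generalized decomposition numbers of χ with respect to b are zero.) -/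
theorem result {G : Type*} [Group G] [Finite G] (p : ℕ) [Fact p.Prime] (M : Ideal Cfsg.AlgInt) (hM : Cfsg.IsPModular p M) (x : G) (hx : ∃ k : ℕ, orderOf x = p ^ k) (B : Set (Cfsg.IrrCharacter G)) (hB : Cfsg.IsPBlock M B) (χ : Cfsg.IrrCharacter G) (hχ : χ ∈ B) (b : Set (Cfsg.IrrCharacter (Subgroup.centralizer ({x} : Set G)))) (hb : Cfsg.IsPBlock M b) (hnot : ¬ Cfsg.IsInducedBlock M (Subgroup.centralizer ({x} : Set G)) b B) (y : Subgroup.centralizer ({x} : Set G)) (hy : ¬ p ∣ orderOf y) : Cfsg.blockPart b (fun c : Subgroup.centralizer ({x} : Set G) => (χ : G → ℂ) (x * (c : G))) y = 0 := by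
  classical
  haveI := hM.2.1
  haveI := Fintype.ofFinite G
  haveI := Fintype.ofFinite (Subgroup.centralizer ({x} : Set G))
  haveI := Fintype.ofFinite (Cfsg.IrrCharacter (Subgroup.centralizer ({x} : Set G)))
  haveI := Cfsg.Agent.Lib.Blocks.charP_residue hM
  obtain ⟨k, hk⟩ := hx
  have hxy : Commute x (y : G) := (Subgroup.mem_centralizer_singleton_iff.mp y.2).symm
  have hy' : ¬ p ∣ orderOf (y : G) := by rwa [Subgroup.orderOf_coe]
  set P := Subgroup.zpowers x with hPdef
  have hP : IsPGroup p P := IsPGroup.of_card (n := k) (by rw [Nat.card_zpowers, hk])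
  have hCP : Subgroup.centralizer (P : Set G) = (Subgroup.centralizer ({x} : Set G)) := by
    refine le_antisymm (Subgroup.centralizer_le fun z hz => ?_) fun z hz => ?_
    · rw [Set.mem_singleton_iff.mp hz]
      exact Subgroup.mem_zpowers x
    · have hzx : Commute z x := Subgroup.mem_centralizer_singleton_iff.mp hz
      refine Subgroup.mem_centralizer_iff.mpr ?_
      rintro _ ⟨n, rfl⟩
      exact (hzx.zpow_right n).eq.symm
  have hPC : P ≤ (Subgroup.centralizer ({x} : Set G)) := Subgroup.zpowers_le.mpr (Subgroup.mem_centralizer_singleton_iff.mpr rfl)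
  have hN : (Subgroup.centralizer ({x} : Set G)) ≤ Subgroup.normalizer (P : Set G) :=
    hCP.ge.trans (Subgroup.centralizer_le_normalizer _)
  have h0 := Cfsg.Agent.Lib.Blocks.finsum_blockCoeff_mul_eq_zero hM hb (x := x) (y := (y : G))
    hk hy' hxy y.2 le_rfl χ (fun ξ hξ => ?_)
  swap
  · obtain ⟨ψ, hψ⟩ := Cfsg.Agent.Lib.Blocks.exists_omegaBar_eq
      ((Cfsg.Agent.Lib.Blocks.omegaBar M ξ).comp
        (Cfsg.Agent.Lib.BrauerMap.Basic.brauerHom hP hCP.le hN))
    have hind : ∀ ξ' ∈ b, Cfsg.Agent.Lib.BrauerMap.Induced.inducedBar M (Subgroup.centralizer ({x} : Set G)) ξ' =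
        (Cfsg.Agent.Lib.Blocks.omegaBar M ψ).toLinearMap := by
      intro ξ' hξ'
      rw [Cfsg.Agent.Lib.BrauerMap.Induced.inducedBar_eq_brauer hP hPC hCP.le hN ξ',
        Cfsg.Agent.Lib.Blocks.omegaBar_eq_of_mem hb hξ' hξ, hψ]
    rw [hind ξ hξ, AlgHom.toLinearMap_apply, Cfsg.Agent.Lib.Blocks.omegaBar_blockIdemBar, if_neg]
    intro hψB
    apply hnot
    refine ⟨hb, hB, fun ξ' hξ' χ' hχ' => ?_⟩
    refine (Cfsg.Agent.Lib.BrauerMap.Induced.induced_congr_iff ξ' χ').mpr fun g => ?_
    rw [← Cfsg.Agent.Lib.BrauerMap.Induced.inducedBar_classSumC, hind ξ' hξ',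
      AlgHom.toLinearMap_apply, Cfsg.Agent.Lib.Blocks.omegaBar_classSumC]
    refine Cfsg.Agent.Lib.Blocks.residue_ccR_eq_of_mem hB ?_ hχ' g
    rw [Cfsg.Agent.Lib.Blocks.isPBlock_eq_blockOf hB hχ]
    exact hψB
  set φ : (Subgroup.centralizer ({x} : Set G)) → ℂ := fun c => (χ : G → ℂ) (x * (c : G)) with hφ
  have hφc : Cfsg.IsClassFunction (Subgroup.centralizer ({x} : Set G)) φ := by
    intro g h
    simp only [hφ, Subgroup.coe_mul, Subgroup.coe_inv]
    calc (χ : G → ℂ) (x * ((h : G) * g * (h : G)⁻¹))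
        = (χ : G → ℂ) ((h : G) * (x * g) * (h : G)⁻¹) := by
          congr 1
          rw [← mul_assoc (h : G) x, Subgroup.mem_centralizer_singleton_iff.mp h.2]
          simp only [mul_assoc]
      _ = _ := Cfsg.Agent.Lib.Blocks.char_conj_apply χ _ _
  rw [finsum_eq_sum_of_fintype] at h0
  refine Eq.trans ?_ h0
  have hrew : ∀ c : (Subgroup.centralizer ({x} : Set G)), Cfsg.blockCoeff b c * (χ : G → ℂ) ((c : G) * (x * (y : G))) =
      Cfsg.blockCoeff b c * φ (c * y) := by
    intro c
    simp only [hφ, Subgroup.coe_mul]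
    rw [← mul_assoc, Subgroup.mem_centralizer_singleton_iff.mp c.2, mul_assoc]
  simp only [hrew]
  conv_rhs =>
    rw [Cfsg.Agent.Lib.Characters.Complete.classFunction_eq_sum hφc]
  simp only [Finset.sum_apply, Pi.smul_apply, smul_eq_mul, Finset.mul_sum]
  rw [Finset.sum_comm]
  rw [Cfsg.blockPart, finsum_mem_eq_toFinset_sum,
    show b.toFinset = Finset.univ.filter (· ∈ b) by ext; simp]
  rw [Finset.sum_filter]
  refine Finset.sum_congr rfl fun ψ _ => ?_
  have hlin : ∑ c : (Subgroup.centralizer ({x} : Set G)), Cfsg.blockCoeff b c * (ψ : (Subgroup.centralizer ({x} : Set G)) → ℂ) (c * y) =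
      if ψ ∈ b then (ψ : (Subgroup.centralizer ({x} : Set G)) → ℂ) y else 0 := by
    have h1 : Cfsg.Agent.Lib.Blocks.lin (ψ : (Subgroup.centralizer ({x} : Set G)) → ℂ)
        ((Cfsg.Agent.Lib.Blocks.idem b).1 * MonoidAlgebra.single y 1) =
        if ψ ∈ b then (ψ : (Subgroup.centralizer ({x} : Set G)) → ℂ) y else 0 := by
      rw [Cfsg.Agent.Lib.Blocks.lin_center_mul ψ (Cfsg.Agent.Lib.Blocks.idem b).2,
        ← Cfsg.Agent.Lib.Blocks.omega_apply, Cfsg.Agent.Lib.Blocks.omega_idem,
        Cfsg.Agent.Lib.Blocks.lin_single]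
      split_ifs <;> simp
    rw [← h1]
    have hsum : (Cfsg.Agent.Lib.Blocks.idem b).1 =
        ∑ c : (Subgroup.centralizer ({x} : Set G)), MonoidAlgebra.single c (Cfsg.blockCoeff b c) := by
      refine MonoidAlgebra.coeff_injective (Finsupp.ext fun k => ?_)
      rw [MonoidAlgebra.coeff_sum, Finsupp.finsetSum_apply]
      simp [Cfsg.Agent.Lib.Blocks.coeff_idem, MonoidAlgebra.coeff_single, Finsupp.single_apply]
    rw [hsum, Finset.sum_mul, map_sum]
    refine Finset.sum_congr rfl fun c _ => ?_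
    rw [MonoidAlgebra.single_mul_single, Cfsg.Agent.Lib.Blocks.lin_single, mul_one]
  simp only [mul_left_comm (Cfsg.blockCoeff b _), ← Finset.mul_sum, hlin, mul_ite, mul_zero]
  convert rfl

end Cfsg.Agent.S0923
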