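import Cfsg.Statements.S0926
import Cfsg.Agent.Lib.Blocks.HeightZeroValue

set_option autoImplicit false
open Cfsg

namespace Cfsg.Agent.S0926

/-- Let B be a block of the finite group G with defect group D (relative to a maximal ideal M of the algebraic integers containing p), let χ ∈ B have height zero, and let x be a p-element. Then some conjugate of x lies in D if and only if χ does not vanish on the whole p-section of x (the elements whose p-part is conjugate to x). -/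
theorem result {G : Type*} [Group G] [Finite G] (p : ℕ) [Fact p.Prime] (M : Ideal Cfsg.AlgInt) (hM : Cfsg.IsPModular p M) (B : Set (Cfsg.IrrCharacter G)) (hB : Cfsg.IsPBlock M B) (D : Subgroup G) (hD : Cfsg.IsDefectGroup p M B D) (χ : Cfsg.IrrCharacter G) (hχ : χ ∈ B) (h0 : Cfsg.blockHeight p B (χ : G → ℂ) = 0) (x : G) (hx : ∃ k : ℕ, orderOf x = p ^ k) : (∃ g : G, g * x * g⁻¹ ∈ D) ↔ ∃ u : G, (∃ z : G, Cfsg.IsPPart p u z ∧ IsConj x z) ∧ (χ : G → ℂ) u ≠ 0 := by
  haveI := hM.2.1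
  constructor
  · rintro ⟨g, hg⟩
    obtain ⟨y, hy, P, hP⟩ := hD
    obtain ⟨k, hk⟩ := hx
    set x' := g * x * g⁻¹ with hx'
    have hx'y : Commute x' y :=
      Subgroup.mem_centralizer_singleton_iff.mp (Subgroup.map_subtype_le _ (hP ▸ hg))
    have hord : orderOf x' = p ^ k := by
      rw [← hk]; exact (MulAut.conj g).orderOf_eq x
    have hreg := Cfsg.Agent.Lib.Blocks.not_dvd_orderOf_isDefectClass hM hB hy
    refine ⟨x' * y, ⟨x', ⟨y, rfl, hx'y, ⟨k, hord⟩, hreg⟩, isConj_iff.mpr ⟨g, rfl⟩⟩, fun h => ?_⟩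
    exact Cfsg.Agent.Lib.Blocks.not_memLocalIdeal_char_mul_defectClass hM hB hy hx'y ⟨k, hord⟩
      hχ h0 (h ▸ Cfsg.Agent.Lib.Blocks.memLocalIdeal_zero)
  · rintro ⟨u, ⟨z, hz, hxz⟩, hne⟩
    by_contra hno
    refine hne (Cfsg.Agent.Lib.Blocks.char_eq_zero_of_pPart_notMem hM hB hD hz (fun t ht => ?_) hχ)
    obtain ⟨c, hc⟩ := isConj_iff.mp hxz
    refine hno ⟨t⁻¹ * c, ?_⟩
    rw [← hc] at ht
    simpa [mul_assoc] using ht

end Cfsg.Agent.S0926
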