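import Cfsg.Statements.S0927
import Cfsg.Agent.Lib.Blocks.HeightZeroValue

set_option autoImplicit false
open Cfsg

namespace Cfsg.Agent.S0927

/-- Let B be a block of the finite group G relative to a maximal ideal M of the algebraic integers containing p, let y represent a defect class of B and let P be a Sylow p-subgroup of the centralizer of y. (a) If x ∈ P and χ ∈ B has height zero, then χ (x * y) is not in the local ideal at M. (b) If x lies in the centre of P, then for every χ ∈ B the central character of χ at x * y is not in the local ideal at M. -/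
theorem result {G : Type*} [Group G] [Finite G] (p : ℕ) [Fact p.Prime] (M : Ideal Cfsg.AlgInt) (hM : Cfsg.IsPModular p M) (B : Set (Cfsg.IrrCharacter G)) (hB : Cfsg.IsPBlock M B) (y : G) (hy : Cfsg.IsDefectClass M B y) (P : Sylow p (Subgroup.centralizer ({y} : Set G))) (x : Subgroup.centralizer ({y} : Set G)) (hx : x ∈ (P : Subgroup (Subgroup.centralizer ({y} : Set G)))) : (∀ χ ∈ B, Cfsg.blockHeight p B (χ : G → ℂ) = 0 → ¬ Cfsg.MemLocalIdeal M ((χ : G → ℂ) ((x : G) * y))) ∧ ((∀ w ∈ (P : Subgroup (Subgroup.centralizer ({y} : Set G))), x * w = w * x) → ∀ χ ∈ B, ¬ Cfsg.MemLocalIdeal M (Cfsg.centralChar (χ : G → ℂ) ((x : G) * y))) := by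
  haveI := hM.2.1
  have hxy : Commute (x : G) y := Subgroup.mem_centralizer_singleton_iff.mp x.2
  obtain ⟨k, hk⟩ := IsPGroup.iff_orderOf.mp P.2 ⟨x, hx⟩
  have hk' : ∃ k : ℕ, orderOf (x : G) = p ^ k := ⟨k, by
    rw [← hk, Subgroup.orderOf_coe, ← Subgroup.orderOf_coe (⟨x, hx⟩ : P)]⟩
  refine ⟨fun χ hχ h0 =>
    Cfsg.Agent.Lib.Blocks.not_memLocalIdeal_char_mul_defectClass hM hB hy hxy hk' hχ h0,
    fun hc χ hχ => Cfsg.Agent.Lib.Blocks.not_memLocalIdeal_centralChar_mul_defectClass hM hB hy
      hxy hk' P ?_ hχ⟩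
  rintro _ ⟨w, hw, rfl⟩
  refine Subgroup.mem_centralizer_singleton_iff.mpr ?_
  have h1 : Commute (w : G) (x : G) := (congrArg Subtype.val (hc w hw)).symm
  have h2 : Commute (w : G) y := Subgroup.mem_centralizer_singleton_iff.mp w.2
  exact h1.mul_right h2

end Cfsg.Agent.S0927
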