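import Cfsg.Statements.S0932
import Cfsg.Agent.Lib.Induced.Basic
import Cfsg.Agent.Lib.BrauerMap.ClassSum
import Cfsg.Agent.Lib.Characters.Basic

set_option autoImplicit false
open Cfsg

namespace Cfsg.Agent.S0932

/-- Let H be a subgroup of the finite group G and ξ a character of H. For every g ∈ G, the sum of ξ h / ξ 1 over the elements h ∈ H that are conjugate in G to g equals the central character at g of the character of G induced from ξ (class size times value divided by degree). -/
theorem result {G : Type*} [Group G] [Fintype G] (H : Subgroup G) (ξ : H → ℂ) (hξ : Cfsg.IsCharacter H ξ) (g : G) : Cfsg.inducedCentralChar H ξ g = Cfsg.centralChar (Cfsg.indFun H ξ) g := by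
  classical
  haveI : Fintype H := Fintype.ofFinite H
  have hcf : Cfsg.IsClassFunction G (fun x => if IsConj g x then (1 : ℂ) else 0) := fun a b =>
    if_congr ⟨fun h => h.trans (isConj_iff.mpr ⟨b⁻¹, by simp [mul_assoc]⟩),
      fun h => h.trans (isConj_iff.mpr ⟨b, rfl⟩)⟩ rfl rfl
  have h1 := Cfsg.Agent.Lib.Induced.Basic.sum_indFun_mul H ξ hcf
  have hl : ∑ x : G, Cfsg.indFun H ξ x * (if IsConj g x then (1 : ℂ) else 0) =
      ((Subgroup.centralizer ({g} : Set G)).index : ℂ) * Cfsg.indFun H ξ g := by
    simp only [mul_ite, mul_one, mul_zero]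
    rw [← Finset.sum_filter, Finset.sum_congr rfl fun x hx =>
      (Cfsg.Agent.Lib.Characters.Basic.classFunction_apply_of_isConj
        (Cfsg.Agent.Lib.Induced.Basic.isClassFunction_indFun H ξ)
        (Finset.mem_filter.mp hx).2).symm, Finset.sum_const, nsmul_eq_mul,
      ← Fintype.card_subtype, ← Nat.card_eq_fintype_card,
      Cfsg.Agent.Lib.BrauerMap.ClassSum.card_isConj]
  rw [hl] at h1
  rw [Cfsg.centralChar, h1, Cfsg.Agent.Lib.Induced.Basic.indFun_one,
    mul_div_mul_left _ _ (Nat.cast_ne_zero.mpr H.index_ne_zero_of_finite),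
    Cfsg.inducedCentralChar, finsum_mem_eq_toFinset_sum, Finset.sum_div]
  simp only [mul_ite, mul_one, mul_zero, ite_div, zero_div]
  rw [← Finset.sum_filter]
  exact Finset.sum_congr (by ext; simp) fun _ _ => rfl

end Cfsg.Agent.S0932
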