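import Cfsg.Statements.S0933
import Cfsg.Agent.Lib.Blocks.Induced
import Cfsg.Agent.S0932

set_option autoImplicit false
open Cfsg

namespace Cfsg.Agent.S0933

/-- Let H be a subgroup of the finite group G and ξ an irreducible character of H such that the induced function ξ^G is an irreducible character of G. Then, relative to any maximal ideal M of the algebraic integers containing the prime p, the block of ξ induces the block of ξ^G. -/
theorem result {G : Type*} [Group G] [Fintype G] (p : ℕ) [Fact p.Prime] (M : Ideal Cfsg.AlgInt) (hM : Cfsg.IsPModular p M) (H : Subgroup G) (ξ : Cfsg.IrrCharacter H) (hind : Cfsg.IsIrrCharacter G (Cfsg.indFun H (ξ : H → ℂ))) : Cfsg.IsInducedBlock M H (Cfsg.blockOf M (ξ : H → ℂ)) (Cfsg.blockOf M (Cfsg.indFun H (ξ : H → ℂ))) := by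
  haveI := hM.2.1
  refine ⟨Cfsg.Agent.Lib.Blocks.isPBlock_blockOf ξ, Cfsg.Agent.Lib.Blocks.isPBlock_blockOf (⟨_, hind⟩ : Cfsg.IrrCharacter G),
    fun ξ' hξ' χ' hχ' g => ?_⟩
  have h0 := Cfsg.Agent.S0932.result H (ξ : H → ℂ)
    (Cfsg.Agent.Lib.Characters.Basic.isCharacter_irr ξ)
  refine (Cfsg.Agent.Lib.BrauerMap.Induced.induced_congr_iff ξ' χ').mpr (fun g => ?_) g
  rw [← Cfsg.Agent.Lib.BrauerMap.Induced.inducedBar_classSumC,
    Cfsg.Agent.Lib.Blocks.inducedBar_eq_of_mem (Cfsg.Agent.Lib.Blocks.isPBlock_blockOf ξ) hξ' (Cfsg.Agent.Lib.Blocks.mem_blockOf_self ξ),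
    Cfsg.Agent.Lib.BrauerMap.Induced.inducedBar_classSumC,
    Cfsg.Agent.Lib.Blocks.residue_ccR_eq_of_mem (Cfsg.Agent.Lib.Blocks.isPBlock_blockOf (⟨_, hind⟩ : Cfsg.IrrCharacter G)) hχ'
      (Cfsg.Agent.Lib.Blocks.mem_blockOf_self _) g]
  exact congrArg _ (Subtype.ext (h0 g))

end Cfsg.Agent.S0933
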