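import Cfsg.Statements.S0934
import Cfsg.Agent.Lib.Blocks.Induced

set_option autoImplicit false
open Cfsg

namespace Cfsg.Agent.S0934

/-- Let H be a subgroup of the finite group G and fix a maximal ideal M of the algebraic integers containing the prime p. If the block b of H induces the block B of G and ξ ∈ b, then there is χ ∈ B whose restriction to H has nonzero inner product with ξ. -/
theorem result {G : Type*} [Group G] [Fintype G] (p : ℕ) [Fact p.Prime] (M : Ideal Cfsg.AlgInt) (hM : Cfsg.IsPModular p M) (H : Subgroup G) [Fintype H] (b : Set (Cfsg.IrrCharacter H)) (B : Set (Cfsg.IrrCharacter G)) (hind : Cfsg.IsInducedBlock M H b B) (ξ : Cfsg.IrrCharacter H) (hξ : ξ ∈ b) : ∃ χ ∈ B, Cfsg.classInner (fun h : H => (χ : G → ℂ) h) (ξ : H → ℂ) ≠ 0 := by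
  classical
  haveI := hM.2.1
  haveI := Fintype.ofFinite (Cfsg.IrrCharacter G)
  by_contra hno
  push Not at hno
  obtain ⟨φ, hφ⟩ := Cfsg.Agent.Lib.Blocks.isPBlock_nonempty hind.2.1
  have h1 := Cfsg.Agent.Lib.Blocks.inducedBar_eq_omegaBar hind hξ hφ
    (Cfsg.Agent.Lib.Blocks.blockIdemBar hind.2.1)
  rw [Cfsg.Agent.Lib.Blocks.omegaBar_blockIdemBar, if_pos hφ,
    Cfsg.Agent.Lib.Blocks.inducedBar_eq_resCenter] at h1
  have h2 : Cfsg.Agent.Lib.Blocks.resCenter H (Cfsg.Agent.Lib.Blocks.blockIdemBar hind.2.1) =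
      Cfsg.Agent.Lib.Blocks.mapCenter (Cfsg.Agent.Lib.Blocks.residue M)
        (Cfsg.Agent.Lib.Blocks.resCenter H (Cfsg.Agent.Lib.Blocks.blockIdemR hind.2.1)) := by
    refine Subtype.ext (MonoidAlgebra.coeff_injective (Finsupp.ext fun h => ?_))
    rw [Cfsg.Agent.Lib.Blocks.coeff_resCenter, Cfsg.Agent.Lib.Blocks.coeff_mapCenter,
      Cfsg.Agent.Lib.Blocks.coeff_resCenter]
    exact Cfsg.Agent.Lib.Blocks.coeff_mapCenter _ _ _
  have h3 : Cfsg.Agent.Lib.Blocks.omegaR M ξ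
      (Cfsg.Agent.Lib.Blocks.resCenter H (Cfsg.Agent.Lib.Blocks.blockIdemR hind.2.1)) = 0 := by
    refine Subtype.ext ?_
    rw [Cfsg.Agent.Lib.Blocks.coe_omegaR, Cfsg.Agent.Lib.Blocks.omega_apply,
      Cfsg.Agent.Lib.Blocks.lin_apply]
    have hrw : ∀ h : H, (Cfsg.Agent.Lib.Blocks.mapCenter
        (Cfsg.Agent.Lib.Blocks.localRing M).subtype (Cfsg.Agent.Lib.Blocks.resCenter H
          (Cfsg.Agent.Lib.Blocks.blockIdemR hind.2.1))).1.coeff h = Cfsg.blockCoeff B (h : G) := by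
      intro h
      rw [Cfsg.Agent.Lib.Blocks.coeff_mapCenter, Cfsg.Agent.Lib.Blocks.coeff_resCenter]
      exact Cfsg.Agent.Lib.Blocks.coe_coeff_blockIdemR hind.2.1 _
    simp only [hrw, Cfsg.Agent.Lib.Blocks.blockCoeff_eq_sum, Finset.mul_sum, Finset.sum_mul]
    rw [Finset.sum_comm, Finset.sum_eq_zero, zero_div]
    · rfl
    intro χ hχ
    have h4 := congrArg (starRingEnd ℂ) (hno χ (Finset.mem_filter.mp hχ).2)
    simp only [Cfsg.classInner, map_mul, map_inv₀, map_natCast, map_sum, map_zero,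
      Complex.conj_conj, mul_eq_zero, inv_eq_zero, Nat.cast_eq_zero, Nat.card_pos.ne',
      false_or] at h4
    calc _ = (Nat.card G : ℂ)⁻¹ * (χ : G → ℂ) 1 *
          ∑ h : H, starRingEnd ℂ ((χ : G → ℂ) h) * (ξ : H → ℂ) h := by
            rw [Finset.mul_sum]
            exact Finset.sum_congr rfl fun h _ => by ring
      _ = 0 := by rw [h4, mul_zero]
  rw [h2, Cfsg.Agent.Lib.Blocks.omegaBar_mapCenter, h3, map_zero] at h1
  exact zero_ne_one h1

end Cfsg.Agent.S0934
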