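import Cfsg.Statements.S0939
import Cfsg.Agent.Lib.BrauerMap.PKernel
import Cfsg.Agent.Lib.Cores.Basic

set_option autoImplicit false
open Cfsg
open Cfsg.Agent.Lib.BrauerMap.Inflation Cfsg.Agent.Lib.BrauerMap.PKernel Cfsg.Agent.Lib.Blocks Cfsg.Agent.Lib.Characters.Basic

namespace Cfsg.Agent.S0939

/-- Let G be a finite group with a normal p-complement (the largest normal subgroup O_p'(G) of order prime to p has p-power index). Then, relative to any maximal ideal M of the algebraic integers containing p, the principal block of G is the set of irreducible characters χ with χ n = χ 1 for every n ∈ O_p'(G). -/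
theorem result {G : Type*} [Group G] [Finite G] (p : ℕ) [Fact p.Prime] (M : Ideal Cfsg.AlgInt) (hM : Cfsg.IsPModular p M) (hnc : ∃ k : ℕ, (Cfsg.pPrimeCore p G).index = p ^ k) : Cfsg.principalBlock M G = {χ : Cfsg.IrrCharacter G | ∀ n ∈ Cfsg.pPrimeCore p G, (χ : G → ℂ) n = (χ : G → ℂ) 1} := by
  haveI := hM.2.1
  set N := Cfsg.pPrimeCore p G
  obtain ⟨k, hk⟩ := hnc
  ext χ
  constructor
  · intro hχ
    rw [principalBlock_eq] at hχ
    exact blockOf_subset_trivialOn hM N (Cfsg.Agent.Lib.Cores.not_dvd_card_pPrimeCore p)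
      (χ := oneChar G) (fun n _ => rfl) hχ
  · intro hχ
    have hf : Function.Surjective (QuotientGroup.mk' N) := QuotientGroup.mk'_surjective N
    have hP : IsPGroup p (G ⧸ N) := IsPGroup.of_card (n := k) (by rw [← Subgroup.index_eq_card, hk])
    obtain ⟨χ', rfl⟩ := exists_infl (QuotientGroup.mk' N) hf χ
      (fun g hg => hχ g ((QuotientGroup.eq_one_iff g).1 hg))
    exact sameBlock_infl (QuotientGroup.mk' N) hf
      (sameBlock_of_isPGroup hM hP (oneChar (G ⧸ N)) χ')

end Cfsg.Agent.S0939
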