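import Cfsg.Statements.S0940
import Cfsg.Agent.Lib.BrauerMap.PElements
import Cfsg.Agent.Lib.BrauerMap.PrincipalSection
-- import your own Cfsg.Agent.* helpers here

set_option autoImplicit false
open Cfsg

namespace Cfsg.Agent.S0940

open Lib.Blocks Lib.Blocks.Contrib Lib.Characters.Basic Lib.Characters.Complete
open Lib.BrauerMap.PElements Lib.BrauerMap.Basic
open scoped ComplexConjugate

/-- Let G be a finite group and M a maximal ideal of the algebraic integers containing the prime p. For every p-regular g, the idempotent coefficient of the principal block at g (the inverse of the group order times the sum over χ in the principal block of χ 1 * conj (χ g)) is congruent modulo the local ideal at M to N / R, where N is the number of pairs (x, y) with x of p-power order, y of order prime to p and x * y = g, and R is the number of elements of G of order prime to p. -/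
theorem result {G : Type*} [Group G] [Finite G] (p : ℕ) [Fact p.Prime] (M : Ideal Cfsg.AlgInt) (hM : Cfsg.IsPModular p M) (g : G) (hg : ¬ p ∣ orderOf g) : Cfsg.MemLocalIdeal M (Cfsg.blockCoeff (Cfsg.principalBlock M G) g - (Nat.card {xy : G × G // (∃ k : ℕ, orderOf xy.1 = p ^ k) ∧ ¬ p ∣ orderOf xy.2 ∧ xy.1 * xy.2 = g} : ℂ) / (Nat.card {y : G // ¬ p ∣ orderOf y} : ℂ)) := by
  classical
  haveI := hM.2.1
  letI := Fintype.ofFinite G
  letI := Fintype.ofFinite (Cfsg.IrrCharacter G)
  have hp : p.Prime := Fact.out
  set B := Cfsg.principalBlock M G with hBdef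
  have hB : Cfsg.IsPBlock M B := isPBlock_principalBlock
  have hone : oneChar G ∈ B := oneChar_mem_principalBlock
  set R : ℂ := regSum p (oneChar G : G → ℂ) (oneChar G : G → ℂ) with hRdef
  have hRnat : (Nat.card {y : G // ¬ p ∣ orderOf y} : ℂ) = R := by
    rw [hRdef, regSum_eq_sum, Nat.card_eq_fintype_card, Fintype.card_subtype,
      ← Finset.sum_boole]
    exact Finset.sum_congr rfl fun g _ => by
      simp only [oneChar_apply, mul_one]
      split_ifs <;> rfl
  have hR : ¬ p ∣ Nat.card {y : G // ¬ p ∣ orderOf y} := by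
    have h1 : Cfsg.charDegree (oneChar G : G → ℂ) = 1 := by
      rw [Cfsg.charDegree, oneChar_apply]; simp
    have hv : vdeg p (oneChar G) = 0 := by rw [vdeg, h1]; simp
    have h := not_dvd_contribN hM hB hone (by
      have := minVdeg_le (p := p) hone
      omega) hone
    rw [hv, zero_add, pow_one] at h
    have e : (Nat.card {y : G // ¬ p ∣ orderOf y} : ℤ) =
        (primeToCard p G : ℤ) * contribN p (oneChar G) (oneChar G) := by
      have h2 := regSum_eq_contribN p (oneChar G) (oneChar G)
      rw [← hRdef, ← hRnat] at h2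
      exact_mod_cast h2
    intro hd
    exact ((Nat.prime_iff_prime_int.mp hp).dvd_or_dvd (e ▸ Int.natCast_dvd_natCast.mpr hd)).elim
      (fun h' => not_dvd_primeToCard hp (Int.natCast_dvd_natCast.mp h')) h
  set S : Cfsg.IrrCharacter G → ℂ := fun χ =>
    regSum p (χ : G → ℂ) (oneChar G : G → ℂ) / (χ : G → ℂ) 1 with hS
  -- the congruence of the regular sums
  have hcong : ∀ χ ∈ B, Cfsg.MemLocalIdeal M (S χ - R) := by
    intro χ hχ
    have h := (sum_div_mem (M := M) (regular_conj_classFun (p := p) (oneChar G))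
      (regular_conj_mem (oneChar G)) χ).2 hB hχ _ hone
    rw [sum_regular_conj, sum_regular_conj, oneChar_apply, div_one] at h
    exact h
  set T : Cfsg.IrrCharacter G → ℂ := fun χ => ∑ x : G, (χ : G → ℂ) x * pInd p x with hT
  -- the coefficient through the sums over the p-elements
  have hcoeff : Cfsg.blockCoeff B g =
      (Nat.card G : ℂ)⁻¹ * ∑ χ ∈ bset B, T χ * conj ((χ : G → ℂ) g) := by
    rw [Cfsg.blockCoeff, finsum_mem_bset]
    refine congrArg _ ?_
    simp only [hT, Finset.sum_mul]
    rw [Finset.sum_comm, Finset.sum_eq_single (1 : G)]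
    · refine Finset.sum_congr rfl fun χ _ => ?_
      rw [pInd, if_pos ⟨0, by simp⟩, mul_one]
    · intro x _ hx
      by_cases hxp : ∃ k : ℕ, orderOf x = p ^ k
      · have hxx : Cfsg.IsPPart p x x :=
          ⟨1, mul_one x, Commute.one_right x, hxp, by simp [hp.ne_one]⟩
        have h := sum_block_eq_zero hM hxx (isPPart_one_of_regular hg)
          (fun e => hx (isConj_one_left.mp e)) hB
        rw [finsum_mem_bset] at h
        rw [← h]
        refine Finset.sum_congr rfl fun χ _ => ?_
        rw [pInd, if_pos hxp, mul_one, apply_inv (isCharacter_irr χ)]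
      · exact Finset.sum_eq_zero fun χ _ => by rw [pInd, if_neg hxp, mul_zero, zero_mul]
    · exact fun h => absurd (Finset.mem_univ _) h
  -- the number of products
  set N := Nat.card {xy : G × G //
    (∃ k : ℕ, orderOf xy.1 = p ^ k) ∧ ¬ p ∣ orderOf xy.2 ∧ xy.1 * xy.2 = g} with hN
  have hcount : (N : ℂ) = (Nat.card G : ℂ)⁻¹ * ∑ χ ∈ bset B, T χ * S χ * conj ((χ : G → ℂ) g) := by
    set zA := ofClassFun (fun x : G => pInd p x) (fun u x => pInd_isClassFunction p x u)
    set zB := ofClassFun (fun x : G => if p ∣ orderOf x then (0 : ℂ) else 1)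
      (fun u x => by rw [show u * x * u⁻¹ = MulAut.conj u x from rfl, (MulAut.conj u).orderOf_eq x])
    set F : G → ℂ := fun h => (zA * zB).1.coeff h with hF
    have hFc : Cfsg.IsClassFunction G F := fun x u => coeff_eq_of_isConj (zA * zB)
      (isConj_iff.mpr ⟨u, rfl⟩).symm
    have hFcount : ∀ h, F h = ((Nat.card {xy : G × G //
        (∃ k : ℕ, orderOf xy.1 = p ^ k) ∧ ¬ p ∣ orderOf xy.2 ∧ xy.1 * xy.2 = h} : ℕ) : ℂ) := by
      intro h
      rw [hF, Nat.card_eq_fintype_card, Fintype.card_subtype, ← Finset.sum_boole,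
        Fintype.sum_prod_type]
      show ((zA * zB : Subalgebra.center ℂ (MonoidAlgebra ℂ G)) : MonoidAlgebra ℂ G).coeff h = _
      rw [Subalgebra.coe_mul, coeff_mul_sum]
      refine Finset.sum_congr rfl fun x _ => ?_
      rw [Finset.sum_eq_single (x⁻¹ * h) (fun y _ hy => if_neg fun hc => hy (by
          rw [← hc.2.2, inv_mul_cancel_left])) (fun hh => absurd (Finset.mem_univ _) hh)]
      simp only [zA, zB, coeff_ofClassFun, pInd]
      by_cases h1 : ∃ k : ℕ, orderOf x = p ^ k <;> by_cases h2 : p ∣ orderOf (x⁻¹ * h) <;>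
        simp [h1, h2]
    have hinner : ∀ χ : Cfsg.IrrCharacter G,
        conj (Cfsg.classInner F (χ : G → ℂ)) = (Nat.card G : ℂ)⁻¹ * (T χ * S χ) := by
      intro χ
      have h := lin_center_mul χ zA.2 zB.1
      rw [lin_apply, lin_apply, lin_apply] at h
      simp only [Cfsg.classInner, map_mul, map_inv₀, map_natCast, map_sum, Complex.conj_conj]
      refine congrArg _ ?_
      calc ∑ x, conj (F x) * (χ : G → ℂ) x = ∑ x, F x * (χ : G → ℂ) x :=
            Finset.sum_congr rfl fun x _ => by rw [hFcount, map_natCast]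
        _ = _ := h
        _ = T χ * S χ := by
          simp only [zA, zB, coeff_ofClassFun, hT, hS]
          rw [regSum_eq_sum, Finset.sum_congr rfl fun x _ => mul_comm (pInd p x) _, div_mul_eq_mul_div,
            mul_div_assoc]
          refine congrArg _ (congrArg (· / _) (Finset.sum_congr rfl fun x _ => ?_))
          simp only [oneChar_apply, mul_one]
          split_ifs <;> simp
    have hexp := congrFun (classFunction_eq_sum hFc) g
    simp only [Finset.sum_apply, Pi.smul_apply, smul_eq_mul] at hexp
    have hexp' := congrArg conj hexp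
    rw [hFcount, map_natCast, map_sum, ← hN] at hexp'
    simp only [map_mul, hinner] at hexp'
    rw [hexp', Finset.mul_sum]
    refine (Finset.sum_subset (Finset.subset_univ _) fun χ _ hχ => ?_).symm.trans
      (Finset.sum_congr rfl fun χ _ => by ring)
    have h0 : regSum p (χ : G → ℂ) (oneChar G : G → ℂ) = 0 := by
      rw [regSum_eq_contribN, contribN_comm,
        contribN_eq_zero hM hB hone (fun h => hχ (mem_bset.mpr h)), Int.cast_zero, mul_zero]
    simp [hS, h0]
  rw [hRnat]
  have hRinv : R⁻¹ ∈ localRing M := hRnat ▸ natCast_inv_mem_localRing hM hR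
  have hR0 : R ≠ 0 := hRnat ▸ Nat.cast_ne_zero.mpr fun e => hR (e ▸ dvd_zero p)
  have key : Cfsg.blockCoeff B g - (N : ℂ) / R = -(R⁻¹ * ∑ χ ∈ bset B,
      (T χ / (Nat.card G : ℂ)) * ((S χ - R) * conj ((χ : G → ℂ) g))) := by
    rw [hcoeff, hcount, Finset.mul_sum, Finset.mul_sum, Finset.sum_div, ← Finset.sum_sub_distrib,
      Finset.mul_sum, ← Finset.sum_neg_distrib]
    refine Finset.sum_congr rfl fun χ _ => ?_
    field_simp
    ring
  rw [key]
  refine memLocalIdeal_neg (memLocalIdeal_mul_left hRinv (memLocalIdeal_sum _ fun χ hχ => ?_))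
  refine memLocalIdeal_mul_left (sum_pInd_div_card_mem hM (isCharacter_irr χ))
    (memLocalIdeal_mul_right (hcong χ (mem_bset.mp hχ)) ?_)
  rw [← apply_inv (isCharacter_irr χ)]
  exact mem_localRing_of_isIntegral (isIntegral_apply (isCharacter_irr χ) _)

end Cfsg.Agent.S0940
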