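import Cfsg.Statements.S0941
import Cfsg.Agent.Lib.BrauerMap.PKernel

set_option autoImplicit false
open Cfsg
open MonoidAlgebra Cfsg.Agent.Lib.BrauerMap.Inflation Cfsg.Agent.Lib.BrauerMap.PKernel Cfsg.Agent.Lib.Blocks

namespace Cfsg.Agent.S0941

theorem dvd_iff_of_conj {G : Type*} [Group G] {p : ℕ} (u g : G) :
    p ∣ orderOf (u * g * u⁻¹) ↔ p ∣ orderOf g := by
  rw [← MulAut.conj_apply, MulEquiv.orderOf_eq]

/-- Let P be a normal p-subgroup of the finite group G such that the index of C_G(P) is a power of p, and fix a maximal ideal M of the algebraic integers containing p. Then (i) two irreducible characters of G ⧸ P lie in the same block if and only if their inflations to G do, and (ii) every block of G contains the inflation of some irreducible character of G ⧸ P; so inflation induces a bijection between the blocks of G ⧸ P and the blocks of G. -/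
theorem result {G : Type*} [Group G] [Finite G] (p : ℕ) [Fact p.Prime] (M : Ideal Cfsg.AlgInt) (hM : Cfsg.IsPModular p M) (P : Subgroup G) [P.Normal] (hP : IsPGroup p P) (hC : ∃ k : ℕ, (Subgroup.centralizer (P : Set G)).index = p ^ k) : (∀ χ ψ : Cfsg.IrrCharacter (G ⧸ P), Cfsg.SameBlock M (χ : G ⧸ P → ℂ) (ψ : G ⧸ P → ℂ) ↔ Cfsg.SameBlock M ((χ : G ⧸ P → ℂ) ∘ QuotientGroup.mk) ((ψ : G ⧸ P → ℂ) ∘ QuotientGroup.mk)) ∧ ∀ B : Set (Cfsg.IrrCharacter G), Cfsg.IsPBlock M B → ∃ χ : Cfsg.IrrCharacter (G ⧸ P), ∃ θ ∈ B, (θ : G → ℂ) = (χ : G ⧸ P → ℂ) ∘ QuotientGroup.mk := by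
  classical
  haveI := hM.2.1
  letI := Ideal.Quotient.field M
  haveI := charP_residue hM
  haveI := Fintype.ofFinite G
  set f : G →* G ⧸ P := QuotientGroup.mk' P with hfdef
  have hf : Function.Surjective f := QuotientGroup.mk'_surjective P
  have hker : IsPGroup p f.ker := hP.to_le (le_of_eq (QuotientGroup.ker_mk' P))
  haveI hCn : (Subgroup.centralizer (P : Set G)).Normal := Subgroup.normal_centralizer
  -- p-regular elements centralise P, and lift uniquely
  have hreg : ∀ g : G, ¬ p ∣ orderOf g → g ∈ Subgroup.centralizer (P : Set G) := by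
    intro g hg
    obtain ⟨k, hk⟩ := hC
    rw [← QuotientGroup.eq_one_iff, ← orderOf_eq_one_iff]
    refine Nat.eq_one_of_dvd_coprimes (Nat.Coprime.pow_right k
      (((Fact.out : p.Prime).coprime_iff_not_dvd.2 hg).symm)) (orderOf_map_dvd (QuotientGroup.mk' (Subgroup.centralizer (P : Set G))) g) ?_
    rw [← hk, Subgroup.index_eq_card]
    exact orderOf_dvd_natCard (g : G ⧸ Subgroup.centralizer (P : Set G))
  have huniq : ∀ g g' : G, ¬ p ∣ orderOf g → ¬ p ∣ orderOf g' → f g = f g' → g = g' := by
    intro g g' hg hg' e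
    have hu : g⁻¹ * g' ∈ P := QuotientGroup.eq.1 e
    have hcomm : Commute g g' := by
      have h1 : g * (g⁻¹ * g') = g⁻¹ * g' * g :=
        ((Subgroup.mem_centralizer_iff.1 (hreg g hg)) _ hu).symm
      rw [mul_inv_cancel_left] at h1
      have h2 := congrArg (fun t => g * t) h1
      simpa [Commute, SemiconjBy, mul_assoc] using h2
    obtain ⟨i, hi⟩ := IsPGroup.iff_orderOf.1 hP ⟨_, hu⟩
    rw [Subgroup.orderOf_mk] at hi
    have hd : orderOf (g⁻¹ * g') ∣ orderOf g * orderOf g' := by
      rw [← orderOf_inv g]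
      exact hcomm.inv_left.orderOf_mul_dvd_mul_orderOf
    rw [hi] at hd
    have h0 : p ^ i = 1 := Nat.eq_one_of_dvd_coprimes (Nat.Coprime.pow_left i
      ((Fact.out : p.Prime).coprime_iff_not_dvd.2 fun h =>
        ((Fact.out : p.Prime).dvd_mul.1 h).elim hg hg')) dvd_rfl hd
    exact inv_mul_eq_one.1 (orderOf_eq_one_iff.1 (hi.trans h0))
  refine ⟨fun χ ψ => ⟨sameBlock_infl f hf, fun h => ?_⟩, fun B hB => ?_⟩
  · change Cfsg.SameBlock M (infl f hf χ : G → ℂ) (infl f hf ψ : G → ℂ) at h
    rw [sameBlock_iff_omegaBar, omegaBar_infl, omegaBar_infl] at h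
    have hB := isPBlock_blockOf (M := M) χ
    let w := ofClassFun
      (fun g : G => if p ∣ orderOf g then 0 else (blockIdemBar hB).1.coeff (f g))
      (fun u g => by
        simp only [dvd_iff_of_conj, map_mul, map_inv]
        rw [(Cfsg.Agent.Lib.BrauerMap.Basic.mem_center_iff_coeff _).1 (blockIdemBar hB).2])
    have hw : pushC (Cfsg.AlgInt ⧸ M) f hf w = blockIdemBar hB := by
      refine Subtype.ext (MonoidAlgebra.ext (Finsupp.ext fun a => ?_))
      rw [coe_pushC, coeff_push]
      by_cases ha : p ∣ orderOf a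
      · have h0 : (blockIdemBar hB).1.coeff a = 0 := by
          rw [blockIdemBar, coeff_mapCenter]
          have e : (blockIdemR hB).1.coeff a = 0 := Subtype.ext (by
            rw [coe_coeff_blockIdemR, blockCoeff_eq_zero_of_dvd hM hB ha]; rfl)
          rw [e, map_zero]
        rw [h0]
        refine Finset.sum_eq_zero fun g _ => ?_
        split_ifs with hg
        · simp only [w, coeff_ofClassFun, hg, h0, ite_self]
        · rfl
      · obtain ⟨x, rfl⟩ := hf a
        obtain ⟨u, v, huv, -, ⟨i, hi⟩, hv, hux, -⟩ :=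
          Cfsg.Agent.Lib.Brauer.Induction.exists_pParts p (Fact.out : p.Prime) x
        have hfu : f u = 1 := by
          obtain ⟨j, hj⟩ := Subgroup.mem_zpowers_iff.1 hux
          have h1 : orderOf (f u) ∣ p ^ i := hi ▸ orderOf_map_dvd f u
          have h2 : orderOf (f u) ∣ orderOf (f x) := by
            refine orderOf_dvd_of_mem_zpowers (Subgroup.mem_zpowers_iff.2 ⟨j, ?_⟩)
            rw [← map_zpow, hj]
          exact orderOf_eq_one_iff.1 (Nat.eq_one_of_dvd_coprimes
            (Nat.Coprime.pow_left i ((Fact.out : p.Prime).coprime_iff_not_dvd.2 ha)) h1 h2)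
        have hfv : f v = f x := by rw [← huv, map_mul, hfu, one_mul]
        rw [Finset.sum_eq_single v]
        · rw [if_pos hfv]
          simp only [w, coeff_ofClassFun, if_neg hv, hfv]
        · intro g _ hg
          split_ifs with hgx
          · have hgd : p ∣ orderOf g := by
              by_contra hgd
              exact hg (huniq g v hgd hv (hgx.trans hfv.symm))
            simp only [w, coeff_ofClassFun, if_pos hgd]
          · rfl
        · simp
    have h1 := DFunLike.congr_fun h w
    rw [AlgHom.comp_apply, AlgHom.comp_apply, hw, omegaBar_blockIdemBar, omegaBar_blockIdemBar,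
      if_pos (mem_blockOf_self χ)] at h1
    by_contra hψ
    rw [if_neg (show ψ ∉ Cfsg.blockOf M (χ : G ⧸ P → ℂ) from hψ)] at h1
    exact one_ne_zero h1
  · obtain ⟨χ, hχ⟩ := exists_infl_mem hM f hf hker hB
    exact ⟨χ, _, hχ, rfl⟩

end Cfsg.Agent.S0941
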