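import Cfsg.Statements.S0943
import Mathlib.Analysis.Complex.Polynomial.Basic
-- import your own Cfsg.Agent.* helpers here

set_option autoImplicit false
open Cfsg

namespace Cfsg.Agent.S0943

/-- Let χ be an irreducible character of the finite group G and u, v ∈ G. If χ (x * y) = χ (u * v) whenever x is conjugate to u and y is conjugate to v, then χ u * χ v = χ 1 * χ (u * v). (Multiply the class sums of u and v and apply the central character of χ.) -/
theorem result {G : Type*} [Group G] [Finite G] (χ : Cfsg.IrrCharacter G) (u v : G) (hc : ∀ x y : G, IsConj u x → IsConj v y → (χ : G → ℂ) (x * y) = (χ : G → ℂ) (u * v)) : (χ : G → ℂ) u * (χ : G → ℂ) v = (χ : G → ℂ) 1 * (χ : G → ℂ) (u * v) := by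
  classical
  haveI := Fintype.ofFinite G
  obtain ⟨n, ρ, hirr, hρ⟩ := χ.2
  haveI := hirr
  haveI : NeZero n := ⟨by
    rintro rfl
    have := hirr.toNontrivial
    obtain ⟨a, b, hab⟩ := this.exists_pair_ne
    exact hab (by
      ext v
      exact iff_of_true (Subsingleton.elim 0 v ▸ zero_mem _) (Subsingleton.elim 0 v ▸ zero_mem _))⟩
  rw [← hρ] at hc ⊢
  set K : Finset G := Finset.univ.filter (fun x => IsConj u x)
  set L : Finset G := Finset.univ.filter (fun x => IsConj v x)
  have hcomm : ∀ (w g : G) (f : Fin n → ℂ),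
      (∑ x ∈ Finset.univ.filter (fun x => IsConj w x), ρ x) (ρ g f) =
        ρ g ((∑ x ∈ Finset.univ.filter (fun x => IsConj w x), ρ x) f) := by
    intro w g f
    simp only [LinearMap.sum_apply, map_sum]
    refine Finset.sum_nbij (fun x => g⁻¹ * x * g) ?_ ?_ ?_ ?_
    · intro x hx
      simp only [Finset.mem_filter, Finset.mem_univ, true_and] at hx ⊢
      exact hx.trans (isConj_iff.2 ⟨g⁻¹, by simp⟩)
    · intro a _ b _ h
      simpa using h
    · intro x hx
      simp only [Finset.coe_filter, Finset.mem_univ, true_and, Set.mem_ofPred_eq] at hx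
      refine ⟨g * x * g⁻¹, ?_, by simp [mul_assoc]⟩
      simpa using hx.trans (isConj_iff.2 ⟨g, rfl⟩)
    · intro x _
      change ρ x (ρ g f) = ρ g (ρ (g⁻¹ * x * g) f)
      rw [← Module.End.mul_apply, ← Module.End.mul_apply, ← map_mul, ← map_mul]
      simp [mul_assoc]
  have hscalar : ∀ w : G, ∃ c : ℂ,
      (∑ x ∈ Finset.univ.filter (fun x => IsConj w x), ρ x) = c • (1 : Module.End ℂ (Fin n → ℂ)) := by
    intro w
    obtain ⟨c, hc⟩ := (Representation.IsIrreducible.algebraMap_intertwiningMap_bijective_of_isAlgClosed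
      (ρ := ρ)).2
      (LinearMap.intertwiningMap_of_isIntertwiningMap ρ ρ _ (hcomm w))
    refine ⟨c, ?_⟩
    have := congrArg Representation.IntertwiningMap.toLinearMap hc
    exact this.symm
  obtain ⟨a, ha⟩ := hscalar u
  obtain ⟨b, hb⟩ := hscalar v
  have hval : ∀ w x : G, IsConj w x → ρ.character x = ρ.character w := by
    intro w x hx
    obtain ⟨c, rfl⟩ := isConj_iff.1 hx
    exact ρ.char_conj w c
  have hchar1 : ρ.character 1 = (n : ℂ) := by
    rw [Representation.char_one, Module.finrank_fin_fun]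
  have htr : ∀ w : G, ∀ c : ℂ,
      (∑ x ∈ Finset.univ.filter (fun x => IsConj w x), ρ x) = c • (1 : Module.End ℂ (Fin n → ℂ)) →
      ((Finset.univ.filter (fun x => IsConj w x)).card : ℂ) * ρ.character w = c * n := by
    intro w c h
    have h' := congrArg (LinearMap.trace ℂ (Fin n → ℂ)) h
    rw [map_sum, map_smul, LinearMap.trace_one, Module.finrank_fin_fun, smul_eq_mul] at h'
    rw [← h', ← nsmul_eq_mul, ← Finset.sum_const]
    exact Finset.sum_congr rfl fun x hx => (hval w x (Finset.mem_filter.1 hx).2).symm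
  have h1 := htr u a ha
  have h2 := htr v b hb
  have h3 : ((K.card : ℂ) * L.card) * ρ.character (u * v) = a * b * n := by
    have h' := congrArg (LinearMap.trace ℂ (Fin n → ℂ)) (congrArg₂ (· * ·) ha hb)
    simp only [smul_mul_smul_comm, mul_one, map_smul, LinearMap.trace_one,
      Module.finrank_fin_fun, smul_eq_mul, Finset.sum_mul_sum, map_sum] at h'
    rw [← h', ← Nat.cast_mul, ← Finset.card_product, ← nsmul_eq_mul, ← Finset.sum_const,
      ← Finset.sum_product']
    refine Finset.sum_congr rfl fun xy hxy => ?_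
    obtain ⟨hx, hy⟩ := Finset.mem_product.1 hxy
    rw [← hc xy.1 xy.2 (Finset.mem_filter.1 hx).2 (Finset.mem_filter.1 hy).2, ← map_mul]
    rfl
  have hne : ((K.card : ℂ) * L.card) ≠ 0 := by
    have hK : K.Nonempty := ⟨u, Finset.mem_filter.2 ⟨Finset.mem_univ _, IsConj.refl u⟩⟩
    have hL : L.Nonempty := ⟨v, Finset.mem_filter.2 ⟨Finset.mem_univ _, IsConj.refl v⟩⟩
    exact mul_ne_zero (Nat.cast_ne_zero.2 hK.card_pos.ne') (Nat.cast_ne_zero.2 hL.card_pos.ne')
  rw [hchar1]
  apply mul_left_cancel₀ hne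
  calc ((K.card : ℂ) * L.card) * (ρ.character u * ρ.character v)
      = ((K.card : ℂ) * ρ.character u) * ((L.card : ℂ) * ρ.character v) := by ring
    _ = (a * n) * (b * n) := by rw [h1, h2]
    _ = (a * b * n) * n := by ring
    _ = ((K.card : ℂ) * L.card) * ((n : ℂ) * ρ.character (u * v)) := by rw [← h3]; ring

end Cfsg.Agent.S0943
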