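import Cfsg.Statements.S0946
import Cfsg.Agent.Lib.Homocyclic.TwoTwo

set_option autoImplicit false
open Cfsg

namespace Cfsg.Agent.S0946

/-- Let P be a Sylow 2-subgroup of the finite group G isomorphic to Z/2^m × Z/2^m with m ≥ 1. Then either P has a normal complement in G, or all involutions of G are conjugate. -/
theorem result {G : Type*} [Group G] [Finite G] (P : Sylow 2 G) (m : ℕ) (hm : 1 ≤ m) (e : (P : Subgroup G) ≃* Multiplicative (ZMod (2 ^ m) × ZMod (2 ^ m))) : (∃ N : Subgroup G, N.Normal ∧ Subgroup.IsComplement' N (P : Subgroup G)) ∨ ∀ s t : G, orderOf s = 2 → orderOf t = 2 → IsConj s t := by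
  obtain ⟨_, h2⟩ := Cfsg.Agent.Lib.Homocyclic.TwoTwo.normalizer_facts P m hm e
  by_cases h : (Subgroup.centralizer (P : Set G)).relIndex (Subgroup.normalizer (P : Set G)) = 1
  · exact Or.inl ⟨_, MonoidHom.normal_ker _,
      MonoidHom.ker_transferSylow_isComplement' P (Subgroup.relIndex_eq_one.1 h)⟩
  · refine Or.inr fun s t hs ht => ?_
    have key : ∀ x : G, orderOf x = 2 → ∃ y ∈ (P : Subgroup G), orderOf y = 2 ∧ IsConj x y := by
      intro x hx
      have hp : IsPGroup 2 (Subgroup.zpowers x) :=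
        IsPGroup.of_card (n := 1) (by rw [Nat.card_zpowers, hx, pow_one])
      obtain ⟨Q, hQ⟩ := hp.exists_le_sylow
      obtain ⟨g, hg⟩ := MulAction.exists_smul_eq G Q P
      refine ⟨g * x * g⁻¹, ?_, ?_, isConj_iff.2 ⟨g, rfl⟩⟩
      · rw [← hg]
        have hxQ : x ∈ (Q : Subgroup G) := hQ (Subgroup.mem_zpowers x)
        exact Set.mem_smul_set.2 ⟨x, hxQ, rfl⟩
      · rw [← MulAut.conj_apply, MulEquiv.orderOf_eq, hx]
    obtain ⟨s', hsP, hs2, hsc⟩ := key s hs
    obtain ⟨t', htP, ht2, htc⟩ := key t ht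
    obtain ⟨n, -, hn⟩ := (h2 h).2 s' hsP t' htP hs2 ht2
    exact hsc.trans ((isConj_iff.2 ⟨n, hn⟩).trans htc.symm)

end Cfsg.Agent.S0946
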