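import Cfsg.Statements.S0953
import Cfsg.Agent.Lib.BrauerPairs.Bridge
import Cfsg.Agent.Lib.Blocks.Orthogonality
import Cfsg.Agent.Lib.BrauerMap.BlockCount

set_option autoImplicit false
open Cfsg

namespace Cfsg.Agent.S0953

open MonoidAlgebra Lib.BrauerMap.Basic Lib.BrauerMap.ClassSum Lib.BrauerMap.BlockCount
open Lib.BrauerPairs.Center Lib.BrauerPairs.Trunc Lib.BrauerPairs.Maximal Lib.BrauerPairs.Pairs
open Lib.BrauerPairs.Bridge (Res toSet blk)

attribute [local instance] Ideal.Quotient.field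

variable {G : Type*} [Group G] [Finite G] {p : ℕ} [Fact p.Prime] {M : Ideal Cfsg.AlgInt}
  [M.IsMaximal]

/-- The classes of p-regular elements centralizing a conjugate of `P`. -/
def classesAt (p : ℕ) (P : Subgroup G) : Set (ConjClasses G) :=
  {C | ∃ g : G, ConjClasses.mk g = C ∧ ¬ p ∣ orderOf g ∧ g ∈ Subgroup.centralizer (P : Set G)}

/-- The blocks with defect group `P`, as homomorphisms. -/
noncomputable def blocksEquiv (M : Ideal Cfsg.AlgInt) [M.IsMaximal] (P : Sylow p G) :
    {B : Set (Cfsg.IrrCharacter G) //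
      Cfsg.IsPBlock M B ∧ Cfsg.IsDefectGroup p M B (P : Subgroup G)} ≃
    {ψ : Blk (Res M) G | IsDef p ψ (P : Subgroup G)} where
  toFun B := ⟨blk B.2.1, (Lib.BrauerPairs.Bridge.isDefectGroup_iff B.2.1 _).mp B.2.2⟩
  invFun ψ := ⟨toSet ψ.1, Lib.BrauerPairs.Bridge.isPBlock_toSet _,
    (Lib.BrauerPairs.Bridge.isDefectGroup_iff (Lib.BrauerPairs.Bridge.isPBlock_toSet _) _).mpr
      (by rw [Lib.BrauerPairs.Bridge.blk_toSet ψ.1 (Lib.BrauerPairs.Bridge.isPBlock_toSet _)]; exact ψ.2)⟩
  left_inv B := Subtype.ext (Lib.BrauerPairs.Bridge.toSet_blk B.2.1)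
  right_inv ψ := Subtype.ext (Lib.BrauerPairs.Bridge.blk_toSet ψ.1 (Lib.BrauerPairs.Bridge.isPBlock_toSet _))

/-- Classes of the normalizer and classes of the group. -/
noncomputable def classesEquiv (P : Sylow p G) :
    classesAt p (P : Subgroup G) ≃
    {C : ConjClasses (Subgroup.normalizer ((P : Subgroup G) : Set G)) //
      ∀ n : Subgroup.normalizer ((P : Subgroup G) : Set G), ConjClasses.mk n = C →
        ¬ p ∣ orderOf n ∧ (n : G) ∈ Subgroup.centralizer ((P : Subgroup G) : Set G)} := by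
  refine (Equiv.ofBijective (fun C => (⟨ConjClasses.map
    (Subgroup.normalizer ((P : Subgroup G) : Set G)).subtype C.1, ?_⟩ :
      classesAt p (P : Subgroup G))) ⟨?_, ?_⟩).symm
  · obtain ⟨n, hn⟩ := ConjClasses.exists_rep C.1
    obtain ⟨h1, h2⟩ := C.2 n hn
    exact ⟨(n : G), by rw [← hn]; rfl, by rwa [Subgroup.orderOf_coe], h2⟩
  · rintro ⟨C, hC⟩ ⟨C', hC'⟩ h
    obtain ⟨n, rfl⟩ := ConjClasses.exists_rep C
    obtain ⟨m, rfl⟩ := ConjClasses.exists_rep C'
    have h' : IsConj (n : G) (m : G) :=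
      ConjClasses.mk_eq_mk_iff_isConj.mp (congrArg Subtype.val h)
    obtain ⟨g, hg⟩ := isConj_iff.mp h'
    obtain ⟨a, ha, he⟩ := Sylow.conj_eq_normalizer_conj_of_mem_centralizer P (n : G) g⁻¹
      (hC n rfl).2 (by rw [inv_inv, hg]; exact (hC' m rfl).2)
    rw [inv_inv, hg] at he
    exact Subtype.ext (ConjClasses.mk_eq_mk_iff_isConj.mpr
      (isConj_iff.mpr ⟨⟨a, ha⟩⁻¹, Subtype.ext (by simp [he])⟩))
  · rintro ⟨_, g, rfl, hg, hgC⟩
    refine ⟨⟨ConjClasses.mk ⟨g, Subgroup.centralizer_le_normalizer _ hgC⟩, fun n hn => ?_⟩, rfl⟩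
    obtain ⟨a, ha⟩ := isConj_iff.mp (ConjClasses.mk_eq_mk_iff_isConj.mp hn).symm
    have e : (a : G) * g * (a : G)⁻¹ = n := congrArg Subtype.val ha
    refine ⟨?_, ?_⟩
    · rw [← Subgroup.orderOf_coe, ← e, ← MulAut.conj_apply,
        MulEquiv.orderOf_eq]
      exact hg
    · rw [← e]
      exact (mem_centralizer_conj_iff a.2 g).mp hgC

theorem card_le (hM : Cfsg.IsPModular p M) [CharP (Res M) p] (P : Sylow p G) :
    Nat.card {ψ : Blk (Res M) G | IsDef p ψ (P : Subgroup G)} ≤
      Nat.card (classesAt p (P : Subgroup G)) := by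
  refine card_blocks_le _ _ fun ψ hψ ψ' _ g hne hψg => ?_
  obtain ⟨ω, hω⟩ := exists_pairOf_isDef hψ
  obtain ⟨c, hc⟩ := exists_conj_mem hω hψg
  refine ⟨c * g * c⁻¹, ConjClasses.mk_eq_mk_iff_isConj.mpr (isConj_iff.mpr ⟨c⁻¹, by simp [mul_assoc]⟩),
    ?_, hc⟩
  intro hdvd
  have hB' := Lib.BrauerPairs.Bridge.isPBlock_toSet (M := M) ψ'
  rw [← MulAut.conj_apply,
    MulEquiv.orderOf_eq] at hdvd
  rw [← Lib.BrauerPairs.Bridge.blk_toSet ψ' hB',
    Lib.BrauerPairs.Bridge.coeff_bidem_ne_zero_iff hB',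
    Lib.Blocks.blockCoeff_eq_zero_of_dvd hM hB' hdvd] at hne
  exact hne Lib.Blocks.memLocalIdeal_zero

theorem le_card [CharP (Res M) p] (P : Sylow p G) :
    Nat.card (classesAt p (P : Subgroup G)) ≤
      Nat.card {ψ : Blk (Res M) G | IsDef p ψ (P : Subgroup G)} := by
  classical
  haveI : Finite (ConjClasses G) := Quotient.finite _
  set C := Subgroup.centralizer ((P : Subgroup G) : Set G) with hC
  refine card_le_blocks _ _ fun z hz hψ => ?_
  -- truncation at the Sylow subgroup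
  have hfix : IsFixedBy C (z : MonoidAlgebra (Res M) G) := isFixedBy_of_mem_center _ z.2
  set y : ZAlg (Res M) C := ⟨br (P : Subgroup G) z, br_mem_center hfix⟩ with hy
  have hnil : IsNilpotent y := by
    refine isNilpotent_of_forall_hom (k := Res M) fun ω => ?_
    obtain ⟨ψ, hpair, -⟩ := existsUnique_pairOf (⟨(P : Subgroup G), ω⟩ : Idx (Res M) G) P.2
    have hdef : IsDef p ψ (P : Subgroup G) :=
      isDef_of_top ⟨P.2, fun b hb => P.3 hb.1 hb.2.1⟩ hpair
    rw [hy, ← val_eq ω hfix, hpair.apply_eq]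
    exact hψ ψ hdef
  have hsupp : ∀ g : G, g ∈ C → (z : MonoidAlgebra (Res M) G).coeff g ≠ 0 → ¬ p ∣ orderOf g := by
    intro g _ hne hdvd
    by_cases hT : ConjClasses.mk g ∈ classesAt p (P : Subgroup G)
    · obtain ⟨g', hg', hreg, -⟩ := hT
      obtain ⟨a, ha⟩ := isConj_iff.mp (ConjClasses.mk_eq_mk_iff_isConj.mp hg')
      rw [← ha, ← MulAut.conj_apply,
        MulEquiv.orderOf_eq] at hdvd
      exact hreg hdvd
    · exact hne ((Lib.Blocks.coeff_eq_of_isConj z (out_isConj g)).trans (hz _ hT))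
  set Z : Subgroup C := (P : Subgroup G).subgroupOf C
  have hZc : Z ≤ Subgroup.center C := fun a ha => Subgroup.mem_center_iff.mpr fun b =>
    Subtype.ext (Subgroup.mem_centralizer_iff.mp b.2 a ha).symm
  haveI : Z.Normal := ⟨fun a ha b => by
    rw [Subgroup.mem_center_iff.mp (hZc ha) b, mul_inv_cancel_right]; exact ha⟩
  have hidx : ¬ p ∣ Z.index := by
    obtain ⟨S⟩ : Nonempty (Sylow p C) := inferInstance
    have hSP : (S : Subgroup C).map C.subtype ≤ (P : Subgroup G) := by
      have hp' : IsPGroup p ((S : Subgroup C).map C.subtype) := S.2.map _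
      refine le_trans le_sup_left (le_of_eq (P.3 (IsPGroup.to_sup_of_normal_right' hp' P.2 ?_)
        le_sup_right))
      exact (Subgroup.map_subtype_le _).trans (Subgroup.centralizer_le_normalizer _)
    have hSZ : (S : Subgroup C) ≤ Z := fun a ha => hSP ⟨a, ha, rfl⟩
    exact fun hd => S.not_dvd_index (hd.trans (Subgroup.index_dvd_of_le hSZ))
  have hy0 : y = 0 := eq_zero_of_isNilpotent_regular Z hZc
    (P.2.comap_of_injective C.subtype C.subtype_injective) hidx hnil (fun g hg => by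
      rw [hy] at hg
      rw [← Subgroup.orderOf_coe]
      exact hsupp g g.2 (by rwa [coeff_br] at hg))
  refine Subtype.ext (MonoidAlgebra.ext (Finsupp.ext fun g => ?_))
  rw [ZeroMemClass.coe_zero, coeff_zero, Finsupp.zero_apply]
  by_cases hT : ConjClasses.mk g ∈ classesAt p (P : Subgroup G)
  · obtain ⟨g', hg', -, hg'C⟩ := hT
    rw [← Lib.Blocks.coeff_eq_of_isConj z (ConjClasses.mk_eq_mk_iff_isConj.mp hg')]
    have h1 := congrArg (fun x : ZAlg (Res M) C =>
      (x : MonoidAlgebra (Res M) C).coeff ⟨g', hg'C⟩) hy0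
    refine (coeff_br _ _ _).symm.trans (h1.trans ?_)
    simp
  · exact (Lib.Blocks.coeff_eq_of_isConj z (out_isConj g)).trans (hz _ hT)

/-- Let P be a Sylow p-subgroup of the finite group G with normalizer N, and fix a maximal ideal M of the algebraic integers containing p. The number of blocks of G having P as a defect group equals the number of conjugacy classes of N consisting of elements of order prime to p that centralize P. -/
theorem result {G : Type*} [Group G] [Finite G] (p : ℕ) [Fact p.Prime] (M : Ideal Cfsg.AlgInt) (hM : Cfsg.IsPModular p M) (P : Sylow p G) : Nat.card {B : Set (Cfsg.IrrCharacter G) // Cfsg.IsPBlock M B ∧ Cfsg.IsDefectGroup p M B (P : Subgroup G)} = Nat.card {C : ConjClasses (Subgroup.normalizer ((P : Subgroup G) : Set G)) // ∀ n : Subgroup.normalizer ((P : Subgroup G) : Set G), ConjClasses.mk n = C → ¬ p ∣ orderOf n ∧ (n : G) ∈ Subgroup.centralizer ((P : Subgroup G) : Set G)} := by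
  classical
  haveI := hM.2.1
  letI := Ideal.Quotient.field M
  haveI := Lib.BrauerPairs.Bridge.charP_res hM
  rw [Nat.card_congr (blocksEquiv M P), ← Nat.card_congr (classesEquiv P (p := p))]
  exact le_antisymm (card_le hM P) (le_card P)

end Cfsg.Agent.S0953
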