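import Cfsg.Statements.S0966
import Cfsg.Agent.Lib.BrauerMap.Covering
import Cfsg.Agent.Lib.BrauerMap.BlockCount
import Cfsg.Agent.Lib.BrauerPairs.Bridge
import Cfsg.Agent.Lib.Blocks.Orthogonality

set_option autoImplicit false
open Cfsg

namespace Cfsg.Agent.S0966

open Lib.BrauerMap Lib.BrauerMap.Normal Lib.BrauerMap.Induced
open Lib.BrauerPairs.Center Lib.BrauerPairs.Bridge
open Lib.Blocks (residue ccR)

attribute [local instance] Ideal.Quotient.field

/-- Some irreducible character lies over a given character of a subgroup. -/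
theorem exists_over {G : Type*} [Group G] [Fintype G] (N : Subgroup G) [Fintype N]
    (θ : Cfsg.IrrCharacter N) :
    ∃ χ : Cfsg.IrrCharacter G,
      Cfsg.classInner (fun n : N => (χ : G → ℂ) n) (θ : N → ℂ) ≠ 0 := by
  classical
  haveI := Fintype.ofFinite (Cfsg.IrrCharacter G)
  by_contra hcon
  push Not at hcon
  have h : ∑ χ : Cfsg.IrrCharacter G, (χ : G → ℂ) 1 *
      Cfsg.classInner (fun n : N => (χ : G → ℂ) n) (θ : N → ℂ) = 0 :=
    Finset.sum_eq_zero fun χ _ => by rw [hcon χ, mul_zero]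
  simp only [Cfsg.classInner, Finset.mul_sum] at h
  rw [Finset.sum_comm, Finset.sum_eq_single (1 : N)] at h
  · have h1 : ∀ χ : Cfsg.IrrCharacter G, (χ : G → ℂ) 1 * ((Nat.card N : ℂ)⁻¹ *
        ((χ : G → ℂ) ((1 : N) : G) * (starRingEnd ℂ) ((θ : N → ℂ) 1))) =
        ((Nat.card N : ℂ)⁻¹ * (starRingEnd ℂ) ((θ : N → ℂ) 1)) *
          ((χ : G → ℂ) 1 * (χ : G → ℂ) 1) := fun χ => by
      rw [OneMemClass.coe_one]; ring
    simp only [h1, ← Finset.mul_sum, Lib.Characters.Complete.sum_degree_mul_apply (G := G) (1 : G),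
      if_true] at h
    simp [Lib.Blocks.char_one_ne_zero θ] at h
  · intro n _ hn
    have h1 : ∀ χ : Cfsg.IrrCharacter G, (χ : G → ℂ) 1 * ((Nat.card N : ℂ)⁻¹ *
        ((χ : G → ℂ) (n : G) * (starRingEnd ℂ) ((θ : N → ℂ) n))) =
        ((Nat.card N : ℂ)⁻¹ * (starRingEnd ℂ) ((θ : N → ℂ) n)) *
          ((χ : G → ℂ) 1 * (χ : G → ℂ) (n : G)) := fun χ => by ring
    simp only [h1, ← Finset.mul_sum, Lib.Characters.Complete.sum_degree_mul_apply (G := G) (n : G)]
    rw [if_neg (fun e : (n : G) = 1 => hn (Subtype.ext e)), mul_zero]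
  · simp

/-- Above a normal subgroup of p-power index, constituents in one block come from one block. -/
theorem sameBlock_of_constituents {G : Type*} [Group G] [Fintype G] {p : ℕ} [Fact p.Prime]
    {M : Ideal Cfsg.AlgInt} [M.IsMaximal] (hM : Cfsg.IsPModular p M) (N : Subgroup G)
    [hN : N.Normal] [Fintype N] (hidx : ∃ k : ℕ, N.index = p ^ k)
    {χ χ' : Cfsg.IrrCharacter G} {θ θ' : Cfsg.IrrCharacter N}
    (hχ : Cfsg.classInner (fun n : N => (χ : G → ℂ) n) (θ : N → ℂ) ≠ 0)
    (hχ' : Cfsg.classInner (fun n : N => (χ' : G → ℂ) n) (θ' : N → ℂ) ≠ 0)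
    (hb : Cfsg.SameBlock M (θ : N → ℂ) (θ' : N → ℂ)) :
    Cfsg.SameBlock M (χ : G → ℂ) (χ' : G → ℂ) := by
  classical
  haveI := charP_res hM
  haveI : Finite (ConjClasses G) := Quotient.finite _
  haveI := Fintype.ofFinite (ConjClasses G)
  rw [Lib.Blocks.sameBlock_iff_omegaBar]
  refine eq_of_apply_idem_ne_zero (ψ := blkOf M χ') (φ := blkOf M χ) ?_
  have key : blkOf M χ (idem (blkOf M χ')) = blkOf M χ' (idem (blkOf M χ')) := by
    rw [BlockCount.apply_eq_sum_classSum, BlockCount.apply_eq_sum_classSum]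
    refine Finset.sum_congr rfl fun c _ => ?_
    by_cases hc : (c.out : G) ∈ N
    · congr 1
      rw [blkOf_classSumC, blkOf_classSumC, ← Covering.residue_icR_of_constituent N hχ hc,
        ← Covering.residue_icR_of_constituent N hχ' hc]
      exact inducedCentralChar_congr hb _
    · suffices h0 : (bidem (blkOf M χ')).coeff c.out = 0 by
        show (bidem (blkOf M χ')).coeff c.out * _ = (bidem (blkOf M χ')).coeff c.out * _
        rw [h0, zero_mul, zero_mul]
      by_contra hne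
      have hB := isPBlock_toSet (M := M) (blkOf M χ')
      rw [← blk_toSet (blkOf M χ') hB] at hne
      change (bidem (blk hB)).coeff c.out ≠ 0 at hne
      rw [coeff_bidem_ne_zero_iff hB] at hne
      refine hne (Lib.Blocks.blockCoeff_eq_zero_of_dvd hM hB ?_ ▸ Lib.Blocks.memLocalIdeal_zero)
      obtain ⟨k, hk⟩ := hidx
      have hd : orderOf (QuotientGroup.mk' N c.out) ∣ p ^ k := by
        rw [← hk, Subgroup.index_eq_card]
        exact orderOf_dvd_natCard _
      obtain ⟨i, -, hi⟩ := (Nat.dvd_prime_pow (Fact.out : p.Prime)).mp hd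
      rcases Nat.eq_zero_or_pos i with rfl | hpos
      · rw [pow_zero, orderOf_eq_one_iff] at hi
        exact absurd ((QuotientGroup.eq_one_iff _).mp hi) hc
      · exact (dvd_pow_self p hpos.ne').trans (hi ▸ orderOf_map_dvd (QuotientGroup.mk' N) c.out)
  rw [key, apply_idem_self]
  exact one_ne_zero

/-- Let N be a normal subgroup of p-power index in the finite group G and b a block of N relative to a maximal ideal M of the algebraic integers containing p. Then there is exactly one block B of G containing a character whose restriction to N has a constituent in b. -/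
theorem result {G : Type*} [Group G] [Fintype G] (p : ℕ) [Fact p.Prime] (M : Ideal Cfsg.AlgInt) (hM : Cfsg.IsPModular p M) (N : Subgroup G) [N.Normal] [Fintype N] (hidx : ∃ k : ℕ, N.index = p ^ k) (b : Set (Cfsg.IrrCharacter N)) (hb : Cfsg.IsPBlock M b) : ∃! B : Set (Cfsg.IrrCharacter G), Cfsg.IsPBlock M B ∧ ∃ χ ∈ B, ∃ θ ∈ b, Cfsg.classInner (fun n : N => (χ : G → ℂ) n) (θ : N → ℂ) ≠ 0 := by
  classical
  haveI := hM.2.1
  letI := Ideal.Quotient.field M
  obtain ⟨θ, hθ⟩ := Lib.Blocks.isPBlock_nonempty hb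
  obtain ⟨χ, hχ⟩ := exists_over N θ
  refine ⟨Cfsg.blockOf M (χ : G → ℂ),
    ⟨⟨χ, rfl⟩, χ, Lib.Blocks.mem_blockOf_self χ, θ, hθ, hχ⟩, ?_⟩
  rintro B ⟨hB, χ', hχ', θ', hθ', hc'⟩
  rw [Lib.Blocks.isPBlock_eq_blockOf hB hχ']
  symm
  refine Lib.Blocks.blockOf_eq_iff.mpr ?_
  refine (Lib.Blocks.sameBlock_iff_omegaBar.mp (sameBlock_of_constituents hM N hidx hc' hχ
    (by
      rw [Lib.Blocks.isPBlock_eq_blockOf hb hθ'] at hθ
      exact hθ))).symm

end Cfsg.Agent.S0966
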