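import Cfsg.Statements.S0954
import Cfsg.Agent.S0966
import Cfsg.Agent.Lib.BrauerMap.Covering
import Cfsg.Agent.Lib.Blocks.DefectGroup

set_option autoImplicit false
open Cfsg

namespace Cfsg.Agent.S0954

/-- A group of order prime to `p` has one character in each block. -/
theorem eq_of_sameBlock {H : Type*} [Group H] [Finite H] {p : ℕ} {M : Ideal Cfsg.AlgInt}
    [M.IsMaximal] (hM : Cfsg.IsPModular p M) (hH : ¬ p ∣ Nat.card H) (θ η : Cfsg.IrrCharacter H)
    (h : η ∈ Cfsg.blockOf M (θ : H → ℂ)) : η = θ := by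
  classical
  refine Lib.Blocks.blockOf_subset_of_memLocalRing (A := {θ}) (fun g => ?_) rfl h
  rw [Cfsg.blockCoeff, finsum_mem_singleton]
  refine Lib.Blocks.mem_localRing_iff.1 ?_
  refine mul_mem (Lib.Blocks.natCast_inv_mem_localRing hM hH) (mul_mem ?_ ?_)
  · rw [Lib.Blocks.char_one_eq_degree]
    exact natCast_mem _ _
  · rw [← Lib.Characters.Basic.apply_inv (Lib.Characters.Basic.isCharacter_irr θ)]
    exact Lib.Blocks.char_mem_localRing θ _

/-- Let N be a normal subgroup of the finite group G of order prime to p and of p-power index (a normal p-complement), and fix a maximal ideal M of the algebraic integers containing p. Then two irreducible characters χ, ψ of G lie in the same block if and only if some irreducible character of N has nonzero inner product with both the restriction of χ and the restriction of ψ. -/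
theorem result {G : Type*} [Group G] [Fintype G] (p : ℕ) [Fact p.Prime] (M : Ideal Cfsg.AlgInt) (hM : Cfsg.IsPModular p M) (N : Subgroup G) [N.Normal] [Fintype N] (hN : ¬ p ∣ Nat.card N) (hidx : ∃ k : ℕ, N.index = p ^ k) (χ ψ : Cfsg.IrrCharacter G) : Cfsg.SameBlock M (χ : G → ℂ) (ψ : G → ℂ) ↔ ∃ θ : Cfsg.IrrCharacter N, Cfsg.classInner (fun n : N => (χ : G → ℂ) n) (θ : N → ℂ) ≠ 0 ∧ Cfsg.classInner (fun n : N => (ψ : G → ℂ) n) (θ : N → ℂ) ≠ 0 := by
  classical
  haveI := hM.2.1
  constructor
  · intro h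
    obtain ⟨θ, hθ⟩ := Lib.BrauerMap.Covering.exists_constituent_restrict N χ
    obtain ⟨η, hη⟩ := Lib.BrauerMap.Covering.exists_constituent_restrict N ψ
    obtain ⟨g, hg⟩ := Lib.BrauerMap.Covering.exists_conj_mem_of_constituents N h hθ hη
    refine ⟨θ, hθ, ?_⟩
    rw [← eq_of_sameBlock hM hN θ _ hg]
    intro h0
    exact hη ((Lib.BrauerMap.Normal.classInner_conjIrr N ψ g η).symm.trans h0)
  · rintro ⟨θ, hχ, hψ⟩
    exact S0966.sameBlock_of_constituents hM N hidx hχ hψ (Lib.Blocks.sameBlock_refl θ)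

end Cfsg.Agent.S0954
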