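import Cfsg.Statements.S0955
import Cfsg.Agent.Lib.Cores.Basic
import Cfsg.Agent.Lib.BrauerMap.DefectFacts
import Cfsg.Prelude.Def_CaseTheorems

set_option autoImplicit false
open Cfsg

namespace Cfsg.Agent.S0955

/-- Let D be a defect group of a block of the finite group G relative to a maximal ideal M of the algebraic integers containing the prime p. Then D is the largest normal p-subgroup of its own normalizer: O_p(N_G(D)) = D. -/
theorem result {G : Type*} [Group G] [Finite G] (p : ℕ) [Fact p.Prime] (M : Ideal Cfsg.AlgInt) (hM : Cfsg.IsPModular p M) (B : Set (Cfsg.IrrCharacter G)) (hB : Cfsg.IsPBlock M B) (D : Subgroup G) (hD : Cfsg.IsDefectGroup p M B D) : (Cfsg.pCore p (Subgroup.normalizer (D : Set G))).map (Subgroup.normalizer (D : Set G)).subtype = D := by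
  classical
  haveI := hM.2.1
  letI := Ideal.Quotient.field M
  haveI := Lib.BrauerPairs.Bridge.charP_res hM
  rw [Lib.BrauerPairs.Bridge.isDefectGroup_iff hB] at hD
  have hDp := hD.isPGroup
  set N := Subgroup.normalizer (D : Set G)
  set C := Cfsg.pCore p N
  haveI : (D.subgroupOf N).Normal := Subgroup.normal_subgroupOf_of_le_normalizer le_rfl
  have hDle : D.subgroupOf N ≤ C :=
    Lib.Cores.le_pCore (hDp.of_equiv (Subgroup.subgroupOfEquivOfLe Subgroup.le_normalizer).symm)
  haveI hCn : C.Normal := Cfsg.pCore_normal p _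
  refine Lib.BrauerMap.DefectFacts.eq_of_normal_normalizer hD
    ((Lib.Cores.pCore_isPGroup p).map _) ?_ (Subgroup.map_subtype_le _) ?_
  · rw [← Subgroup.map_subgroupOf_eq_of_le (Subgroup.le_normalizer (H := D))]
    exact Subgroup.map_mono hDle
  · intro n hn
    rw [Subgroup.mem_normalizer_iff]
    intro r
    constructor
    · rintro ⟨r, hr, rfl⟩
      exact ⟨⟨n, hn⟩ * r * ⟨n, hn⟩⁻¹, hCn.conj_mem r hr ⟨n, hn⟩, rfl⟩
    · rintro ⟨s, hs, he⟩
      refine ⟨⟨n, hn⟩⁻¹ * s * ⟨n, hn⟩, ?_, ?_⟩
      · simpa using hCn.conj_mem s hs ⟨n, hn⟩⁻¹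
      · simp only [Subgroup.coe_subtype] at he
        simp [he, mul_assoc]

end Cfsg.Agent.S0955
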