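import Cfsg.Statements.S0957
-- import your own Cfsg.Agent.* helpers here

set_option autoImplicit false
open Cfsg

namespace Cfsg.Agent.S0957

/-- Let P be a Sylow p-subgroup of the finite group G, let g, h ∈ G and let p ^ d be the order of a Sylow p-subgroup of the centralizer of g. Then the number of pairs (y, z) with y conjugate to g, z conjugate to h and z * y⁻¹ ∈ P is divisible by the order of P divided by p ^ d. -/
theorem result {G : Type*} [Group G] [Finite G] (p : ℕ) [Fact p.Prime] (P : Sylow p G) (g h : G) (S : Sylow p (Subgroup.centralizer ({g} : Set G))) : Nat.card P / Nat.card S ∣ Nat.card {yz : G × G // IsConj g yz.1 ∧ IsConj h yz.2 ∧ yz.2 * yz.1⁻¹ ∈ (P : Subgroup G)} := by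
  classical
  let X := {yz : G × G // IsConj g yz.1 ∧ IsConj h yz.2 ∧ yz.2 * yz.1⁻¹ ∈ (P : Subgroup G)}
  have conj_mem : ∀ (u : P) (x : X),
      IsConj g ((u : G) * x.1.1 * (u : G)⁻¹) ∧ IsConj h ((u : G) * x.1.2 * (u : G)⁻¹) ∧
        (u : G) * x.1.2 * (u : G)⁻¹ * ((u : G) * x.1.1 * (u : G)⁻¹)⁻¹ ∈ (P : Subgroup G) := by
    intro u x
    refine ⟨x.2.1.trans (isConj_iff.2 ⟨u, rfl⟩), x.2.2.1.trans (isConj_iff.2 ⟨u, rfl⟩), ?_⟩
    have e : (u : G) * x.1.2 * (u : G)⁻¹ * ((u : G) * x.1.1 * (u : G)⁻¹)⁻¹ =
        (u : G) * (x.1.2 * x.1.1⁻¹) * (u : G)⁻¹ := by group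
    rw [e]
    exact mul_mem (mul_mem u.2 x.2.2.2) (inv_mem u.2)
  let act : MulAction P X :=
    { smul := fun u x =>
        ⟨((u : G) * x.1.1 * (u : G)⁻¹, (u : G) * x.1.2 * (u : G)⁻¹), conj_mem u x⟩
      mul_smul := fun u v x => Subtype.ext (Prod.ext
        (by change ((u : G) * v) * x.1.1 * ((u : G) * v)⁻¹ = _; simp [HSMul.hSMul, mul_assoc])
        (by change ((u : G) * v) * x.1.2 * ((u : G) * v)⁻¹ = _; simp [HSMul.hSMul, mul_assoc]))
      one_smul := fun x => Subtype.ext (Prod.ext
        (by change (1 : G) * x.1.1 * (1 : G)⁻¹ = _; simp)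
        (by change (1 : G) * x.1.2 * (1 : G)⁻¹ = _; simp)) }
  have key : ∀ x : X, Nat.card P / Nat.card S ∣ Nat.card (MulAction.orbit P x) := by
    intro x
    obtain ⟨c, hc⟩ := isConj_iff.1 x.2.1
    let T := MulAction.stabilizer P x
    have hfix : ∀ u : T, ((u : P) : G) * x.1.1 * ((u : P) : G)⁻¹ = x.1.1 := fun u =>
      congrArg (fun w : X => w.1.1) u.2
    let f : T →* Subgroup.centralizer ({g} : Set G) :=
      { toFun := fun u => ⟨c⁻¹ * ((u : P) : G) * c, by
          rw [Subgroup.mem_centralizer_singleton_iff]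
          have hx := hfix u
          rw [← hc, mul_inv_eq_iff_eq_mul] at hx
          calc c⁻¹ * ((u : P) : G) * c * g = c⁻¹ * (((u : P) : G) * (c * g * c⁻¹)) * c := by group
            _ = c⁻¹ * (c * g * c⁻¹ * ((u : P) : G)) * c := by rw [hx]
            _ = g * (c⁻¹ * ((u : P) : G) * c) := by group⟩
        map_one' := Subtype.ext (by simp)
        map_mul' := fun u v => Subtype.ext (by simp; group) }
    have hf : Function.Injective f := by
      intro u v e
      have e' := congrArg Subtype.val e
      simp only [f, MonoidHom.coe_mk, OneHom.coe_mk, mul_left_inj, mul_right_inj] at e'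
      exact Subtype.ext (Subtype.ext e')
    have hdvd : Nat.card T ∣ Nat.card S := by
      obtain ⟨n, hn⟩ := IsPGroup.iff_card.1 (P.2.to_subgroup T)
      have h1 := Subgroup.card_dvd_of_injective f hf
      rw [hn] at h1 ⊢
      rw [S.card_eq_multiplicity]
      exact pow_dvd_pow p
        (((Fact.out : p.Prime).pow_dvd_iff_le_factorization Nat.card_pos.ne').1 h1)
    have h2 : Nat.card (MulAction.orbit P x) * Nat.card T = Nat.card P := by
      rw [← Nat.card_prod]
      exact Nat.card_congr (MulAction.orbitProdStabilizerEquivGroup P x)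
    obtain ⟨a, ha⟩ := IsPGroup.iff_card.1 P.2
    obtain ⟨b, hb⟩ := IsPGroup.iff_card.1 S.2
    obtain ⟨t, ht⟩ := IsPGroup.iff_card.1 (P.2.to_subgroup T)
    obtain ⟨w, hw⟩ := hdvd
    have hP : Nat.card (P : Subgroup G) = Nat.card P := rfl
    have hS' : Nat.card (S : Subgroup (Subgroup.centralizer ({g} : Set G))) = Nat.card S := rfl
    rcases Nat.le_total b a with hba | hab
    · rw [← hP, ← hS', ha, hb, Nat.pow_div hba (Fact.out : p.Prime).pos]
      have h3 : Nat.card S ∣ Nat.card P := by rw [← hP, ← hS', ha, hb]; exact pow_dvd_pow p hba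
      obtain ⟨q, hq⟩ := h3
      have h4 : Nat.card T * Nat.card (MulAction.orbit P x) = Nat.card T * (w * q) := by
        rw [mul_comm, h2, hq, hw, mul_assoc]
      have h5 := Nat.eq_of_mul_eq_mul_left Nat.card_pos h4
      have h6 : p ^ b * p ^ (a - b) = p ^ b * q := by
        rw [← pow_add, Nat.add_sub_cancel' hba, ← ha, ← hb, hP, hS', hq]
      rw [Nat.eq_of_mul_eq_mul_left (pow_pos (Fact.out : p.Prime).pos b) h6, h5]
      exact dvd_mul_left q w
    · have : Nat.card P / Nat.card S ∣ 1 := by
        rcases Nat.eq_or_lt_of_le hab with e | e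
        · rw [← hP, ← hS', ha, hb, e, Nat.div_self (pow_pos (Fact.out : p.Prime).pos b)]
        · exfalso
          have h3 := S.card_eq_multiplicity
          rw [← hS', hb] at h3
          have h4 := Nat.pow_right_injective (Fact.out : p.Prime).two_le h3
          have h5 : (Nat.card (Subgroup.centralizer ({g} : Set G))).factorization p ≤
              (Nat.card G).factorization p :=
            (Nat.factorization_le_iff_dvd Nat.card_pos.ne' Nat.card_pos.ne').2
              (Subgroup.card_subgroup_dvd_card _) p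
          have h6 := P.card_eq_multiplicity
          rw [← hP, ha] at h6
          have h7 := Nat.pow_right_injective (Fact.out : p.Prime).two_le h6
          omega
      exact this.trans (one_dvd _)
  haveI := Fintype.ofFinite (Quotient (MulAction.orbitRel P X))
  change _ ∣ Nat.card X
  rw [Nat.card_congr (MulAction.selfEquivSigmaOrbits P X), Nat.card_sigma]
  exact Finset.dvd_sum fun o _ => key _

end Cfsg.Agent.S0957
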