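import Cfsg.Statements.S0958
import Cfsg.Agent.Lib.BrauerMap.DefectFacts
import Cfsg.Agent.Lib.BrauerMap.InducedHom

set_option autoImplicit false
open Cfsg

namespace Cfsg.Agent.S0958

/-- Let P be a p-subgroup of the finite group G and H a subgroup with P ⊔ C_G(P) ≤ H ≤ N_G(P); fix a maximal ideal M of the algebraic integers containing p. Then a block B of G is induced by some block of H if and only if some conjugate of P is contained in a defect group of B. -/
theorem result {G : Type*} [Group G] [Finite G] (p : ℕ) [Fact p.Prime] (M : Ideal Cfsg.AlgInt) (hM : Cfsg.IsPModular p M) (P H : Subgroup G) (hP : IsPGroup p P) (hPH : P ⊔ Subgroup.centralizer (P : Set G) ≤ H) (hHN : H ≤ Subgroup.normalizer (P : Set G)) (B : Set (Cfsg.IrrCharacter G)) (hB : Cfsg.IsPBlock M B) : (∃ b : Set (Cfsg.IrrCharacter H), Cfsg.IsInducedBlock M H b B) ↔ ∃ D : Subgroup G, Cfsg.IsDefectGroup p M B D ∧ ∃ x : G, P.map (MulAut.conj x).toMonoidHom ≤ D := by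
  classical
  haveI := hM.2.1
  letI := Ideal.Quotient.field M
  haveI := Lib.BrauerPairs.Bridge.charP_res hM
  have hPle : P ≤ H := le_sup_left.trans hPH
  have hCle : Subgroup.centralizer (P : Set G) ≤ H := le_sup_right.trans hPH
  simp only [Lib.BrauerMap.InducedHom.isInducedBlock_iff hP hPle hCle hHN,
    Lib.BrauerPairs.Bridge.isDefectGroup_iff hB]
  constructor
  · rintro ⟨b, hb, hB', h⟩
    obtain ⟨D, hD⟩ := Lib.BrauerPairs.Maximal.exists_isDef (p := p) (Lib.BrauerPairs.Bridge.blk hB)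
    refine ⟨D, hD, (Lib.BrauerMap.DefectFacts.exists_coeff_ne_zero_iff hD hP).mp ?_⟩
    by_contra hcon
    push Not at hcon
    have h1 := DFunLike.congr_fun h
      (Lib.BrauerPairs.Center.idem (Lib.BrauerPairs.Bridge.blk hB'))
    rw [Lib.BrauerPairs.Center.apply_idem_self, AlgHom.comp_apply] at h1
    have h0 : Lib.BrauerMap.Basic.brauerHom hP hCle hHN
        (Lib.BrauerPairs.Center.idem (Lib.BrauerPairs.Bridge.blk hB')) = 0 := by
      refine Subtype.ext ?_
      ext c
      rw [Lib.BrauerMap.Basic.brauerHom_apply, Lib.BrauerMap.Basic.coeff_brauerTo]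
      split_ifs with hc
      · exact hcon (c : G) hc
      · rfl
    rw [h0, map_zero] at h1
    exact zero_ne_one h1
  · rintro ⟨D, hD, hx⟩
    obtain ⟨c, hc, hne⟩ := (Lib.BrauerMap.DefectFacts.exists_coeff_ne_zero_iff hD hP).mpr hx
    set F := Lib.BrauerMap.Basic.brauerHom (k := Lib.BrauerPairs.Bridge.Res M) hP hCle hHN
    set e := F (Lib.BrauerPairs.Center.idem (Lib.BrauerPairs.Bridge.blk hB))
    have he : e ≠ 0 := by
      intro h0
      have h1 := congrArg (fun z : Lib.BrauerPairs.Center.ZAlg (Lib.BrauerPairs.Bridge.Res M) H =>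
        (z : MonoidAlgebra (Lib.BrauerPairs.Bridge.Res M) H).coeff ⟨c, hCle hc⟩) h0
      simp only [e, F, Lib.BrauerMap.Basic.brauerHom_apply,
        Lib.BrauerMap.Basic.coeff_brauerTo] at h1
      rw [if_pos hc] at h1
      exact hne h1
    obtain ⟨φ, hφ⟩ := Lib.BrauerPairs.Center.exists_apply_eq_one
      (k := Lib.BrauerPairs.Bridge.Res M) ((Lib.BrauerPairs.Center.idem_isIdem _).map F) he
    refine ⟨Lib.BrauerPairs.Bridge.toSet φ, Lib.BrauerPairs.Bridge.isPBlock_toSet φ, hB, ?_⟩
    rw [Lib.BrauerPairs.Bridge.blk_toSet]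
    exact Lib.BrauerPairs.Center.eq_of_apply_idem_ne_zero
      (by rw [AlgHom.comp_apply, hφ]; exact one_ne_zero)

end Cfsg.Agent.S0958
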