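import Cfsg.Statements.S0961
import Cfsg.Agent.Lib.Brauer.Characterization
import Cfsg.Agent.Lib.CNGroup.Basic

set_option autoImplicit false
open Cfsg

namespace Cfsg.Agent.S0961

/-- In a finite nilpotent group the elements of order prime to p form a normal subgroup of
p-power index. -/
theorem exists_regular_subgroup {E : Type*} [Group E] [Finite E] (p : ℕ) [Fact p.Prime]
    (hE : Group.IsNilpotent E) :
    ∃ K : Subgroup E, K.Normal ∧ (∀ x : E, ¬ p ∣ orderOf x ↔ x ∈ K) ∧ ∃ k : ℕ, K.index = p ^ k := by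
  haveI := hE
  obtain ⟨P⟩ : Nonempty (Sylow p E) := inferInstance
  haveI : (P : Subgroup E).Normal := by
    have h := ((Group.isNilpotent_of_finite_tfae (G := E)).out 0 3).1 hE
    exact h p inferInstance P
  have hcop : (Nat.card (P : Subgroup E)).Coprime (P : Subgroup E).index := P.card_coprime_index
  obtain ⟨K, hK⟩ := Subgroup.exists_right_complement'_of_coprime hcop
  have hKcard : Nat.card K = (P : Subgroup E).index := (hK.symm.index_eq_card).symm
  have hPp : ∀ a ∈ (P : Subgroup E), ∃ i : ℕ, orderOf a = p ^ i := fun a ha => by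
    obtain ⟨i, hi⟩ := IsPGroup.iff_orderOf.1 P.2 ⟨a, ha⟩
    exact ⟨i, by rw [← hi, Subgroup.orderOf_mk]⟩
  have hcomm : ∀ a ∈ (P : Subgroup E), ∀ b ∈ K, a * b = b * a := fun a ha b hb => by
    refine Cfsg.Agent.Lib.CNGroup.Basic.commute_of_coprime_nilpotent E a b ?_
    obtain ⟨i, hi⟩ := hPp a ha
    rw [hi]
    refine Nat.Coprime.pow_left i ((Fact.out : p.Prime).coprime_iff_not_dvd.2 fun h => ?_)
    refine P.not_dvd_index (h.trans ?_)
    rw [← hKcard]
    exact Subgroup.orderOf_dvd_natCard K hb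
  have hdec : ∀ x : E, ∃ a ∈ (P : Subgroup E), ∃ b ∈ K, a * b = x := fun x => by
    obtain ⟨⟨⟨a, ha⟩, ⟨b, hb⟩⟩, h⟩ := hK.2 x
    exact ⟨a, ha, b, hb, h⟩
  have hKn : K.Normal := by
    refine ⟨fun b hb g => ?_⟩
    obtain ⟨a, ha, c, hc, rfl⟩ := hdec g
    have : a * c * b * (a * c)⁻¹ = c * b * c⁻¹ := by
      have hm : c * b * c⁻¹ ∈ K := mul_mem (mul_mem hc hb) (inv_mem hc)
      calc a * c * b * (a * c)⁻¹ = a * (c * b * c⁻¹) * a⁻¹ := by group
        _ = c * b * c⁻¹ := by rw [hcomm a ha _ hm, mul_inv_cancel_right]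
    rw [this]
    exact mul_mem (mul_mem hc hb) (inv_mem hc)
  refine ⟨K, hKn, fun x => ⟨fun hx => ?_, fun hx h => ?_⟩, ?_⟩
  · obtain ⟨a, ha, b, hb, rfl⟩ := hdec x
    obtain ⟨i, hi⟩ := hPp a ha
    suffices a = 1 by simpa [this] using hb
    have hb' : b ^ (P : Subgroup E).index = 1 := by
      rw [← orderOf_dvd_iff_pow_eq_one, ← hKcard]
      exact Subgroup.orderOf_dvd_natCard K hb
    have h1 : a ^ (orderOf (a * b) * (P : Subgroup E).index) = 1 := by
      have h2 : (a * b) ^ (orderOf (a * b) * (P : Subgroup E).index) = 1 := by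
        rw [pow_mul, pow_orderOf_eq_one, one_pow]
      rw [(show Commute a b from hcomm a ha b hb).mul_pow] at h2
      rwa [mul_comm (orderOf (a * b)) (P : Subgroup E).index, pow_mul b, hb', one_pow, mul_one,
        mul_comm] at h2
    have hcop2 : (p ^ i).Coprime (orderOf (a * b) * (P : Subgroup E).index) :=
      Nat.Coprime.pow_left i ((Fact.out : p.Prime).coprime_iff_not_dvd.2
        fun h => ((Fact.out : p.Prime).dvd_mul.1 h).elim hx P.not_dvd_index)
    have h3 := Nat.dvd_gcd (orderOf_dvd_of_pow_eq_one (pow_orderOf_eq_one a))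
      (orderOf_dvd_of_pow_eq_one h1)
    rw [hi] at h3
    rw [hcop2.gcd_eq_one, Nat.dvd_one, ← hi] at h3
    exact orderOf_eq_one_iff.1 h3
  · refine P.not_dvd_index (h.trans ?_)
    rw [← hKcard]
    exact Subgroup.orderOf_dvd_natCard K hx
  · refine (IsPGroup.iff_card.1 P.2).imp fun k hk => ?_
    exact hK.index_eq_card.trans hk

/-- Let χ be an irreducible character of the finite group G and let p ^ a be the largest power of the prime p dividing the order of G. Then the function equal to p ^ a * χ x at elements x of order prime to p and to 0 elsewhere is a generalized character (a difference of characters). -/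
theorem result {G : Type*} [Group G] [Finite G] (p : ℕ) [Fact p.Prime] (χ : Cfsg.IrrCharacter G) : Cfsg.IsGeneralizedCharacter G (fun x : G => if p ∣ orderOf x then 0 else ((p ^ (Nat.card G).factorization p : ℕ) : ℂ) * (χ : G → ℂ) x) := by
  classical
  haveI := Fintype.ofFinite G
  set pa : ℕ := p ^ (Nat.card G).factorization p with hpa
  have hcl : Cfsg.IsClassFunction G (χ : G → ℂ) :=
    Cfsg.Agent.Lib.Brauer.Characterization.isClassFunction_of_isCharacter
      (by obtain ⟨n, ρ, -, h⟩ := χ.2; exact ⟨n, ρ, h⟩)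
  refine Cfsg.Agent.Lib.Brauer.Characterization.isGeneralized_of_mem
    (Cfsg.Agent.Lib.Brauer.Characterization.mem_of_elementary ℤ ?_ ?_)
  · intro g h
    have e : orderOf (h * g * h⁻¹) = orderOf g := by rw [← MulAut.conj_apply, MulEquiv.orderOf_eq]
    simp only [e, hcl g h]
  · intro E hEf q hq hel
    obtain ⟨K, hKn, hK, k, hk⟩ := exists_regular_subgroup p
      (Cfsg.Agent.Lib.Brauer.Monomial.isNilpotent_of_elementary hq hel)
    obtain ⟨m, hm⟩ : p ^ k ∣ pa := by
      refine pow_dvd_pow p (((Fact.out : p.Prime).pow_dvd_iff_le_factorization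
        Nat.card_pos.ne').1 ?_)
      rw [← hk]
      exact (Subgroup.index_dvd_card K).trans (Subgroup.card_subgroup_dvd_card E)
    have hres : Cfsg.IsCharacter K (fun y : K => (χ : G → ℂ) ((y : E) : G)) := by
      obtain ⟨n, ρ, -, h⟩ := χ.2
      exact ⟨n, ρ.comp (E.subtype.comp K.subtype), funext fun y => congrFun h _⟩
    have hfun : (fun e : E => if p ∣ orderOf (e : G) then 0 else (pa : ℂ) * (χ : G → ℂ) (e : G)) =
        (m : ℤ) • Cfsg.indFun K (fun y : K => (χ : G → ℂ) ((y : E) : G)) := by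
      funext e
      have hterm : ∀ x : E,
          Cfsg.extendByZero K (fun y : K => (χ : G → ℂ) ((y : E) : G)) (x⁻¹ * e * x) =
            if p ∣ orderOf (e : G) then 0 else (χ : G → ℂ) (e : G) := by
        intro x
        have hord : orderOf (x⁻¹ * e * x) = orderOf (e : G) := by
          rw [Subgroup.orderOf_coe]
          simpa using MulEquiv.orderOf_eq (MulAut.conj x⁻¹) e
        by_cases hd : p ∣ orderOf (e : G)
        · rw [if_pos hd, Cfsg.Agent.Lib.Brauer.PermChar.ext0_notMem]
          exact fun hmem => (hK _).2 hmem (hord.symm ▸ hd)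
        · rw [if_neg hd, Cfsg.Agent.Lib.Brauer.PermChar.ext0_mem _ ((hK _).1 (hord.symm ▸ hd))]
          simpa using hcl (e : G) ((x : G)⁻¹)
      rw [Pi.smul_apply, Cfsg.indFun, Finset.sum_congr rfl fun x _ => hterm x, Finset.sum_const,
        Finset.card_univ, ← Nat.card_eq_fintype_card, ← K.index_mul_card, hk]
      have hne : (Nat.card K : ℂ) ≠ 0 := Nat.cast_ne_zero.2 Nat.card_pos.ne'
      rw [zsmul_eq_mul, nsmul_eq_mul, hm]
      push_cast
      split_ifs with hd
      · simp
      · field_simp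
    rw [hfun]
    refine Submodule.smul_mem _ _ (Submodule.span_mono ?_
      (Cfsg.Agent.Lib.Brauer.Monomial.char_mem
        (Cfsg.Agent.Lib.Induced.Character.isCharacter_indFun K hres)))
    rintro f ⟨H, -, l, rfl⟩
    exact ⟨H, trivial, l, rfl⟩

end Cfsg.Agent.S0961
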