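import Cfsg.Statements.S0962
import Cfsg.Agent.Lib.Blocks.DefectGroup
import Cfsg.Agent.Lib.BrauerPairs.Bridge
import Cfsg.Agent.Lib.BrauerMap.BlockCount

set_option autoImplicit false
open Cfsg

namespace Cfsg.Agent.S0962

/-- Fix a maximal ideal M of the algebraic integers containing the prime p and a natural number d. The number of blocks of the finite group G of defect at least d is at most the number of conjugacy classes of p-regular elements of G of defect at least d, where the defect of a class is the exponent of p in the order of the centralizer of any of its elements. -/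
theorem result {G : Type*} [Group G] [Finite G] (p : ℕ) [Fact p.Prime] (M : Ideal Cfsg.AlgInt) (hM : Cfsg.IsPModular p M) (d : ℕ) : Nat.card {B : Set (Cfsg.IrrCharacter G) // Cfsg.IsPBlock M B ∧ d ≤ Cfsg.blockDefect p B} ≤ Nat.card {C : ConjClasses G // ∃ g : G, ConjClasses.mk g = C ∧ Cfsg.IsPRegular p g ∧ d ≤ (Nat.card (Subgroup.centralizer ({g} : Set G))).factorization p} := by
  classical
  haveI := hM.2.1
  letI := Ideal.Quotient.field M
  haveI := Lib.BrauerPairs.Bridge.charP_res hM
  let 𝔅 : Set (Lib.BrauerPairs.Center.Blk (Lib.BrauerPairs.Bridge.Res M) G) :=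
    {ψ | d ≤ Cfsg.blockDefect p (Lib.BrauerPairs.Bridge.toSet ψ)}
  let T : Set (ConjClasses G) := {C | ∃ g : G, ConjClasses.mk g = C ∧ Cfsg.IsPRegular p g ∧
    d ≤ (Nat.card (Subgroup.centralizer ({g} : Set G))).factorization p}
  haveI : Finite {B : Set (Cfsg.IrrCharacter G) //
      Cfsg.IsPBlock M B ∧ d ≤ Cfsg.blockDefect p B} := Subtype.finite
  refine le_trans (Nat.card_le_card_of_injective (β := 𝔅)
    (fun B => ⟨Lib.BrauerPairs.Bridge.blk B.2.1, by
      show d ≤ Cfsg.blockDefect p _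
      rw [Lib.BrauerPairs.Bridge.toSet_blk]; exact B.2.2⟩) ?_) ?_
  · intro B B' h
    have h1 := congrArg (fun ψ : 𝔅 => Lib.BrauerPairs.Bridge.toSet ψ.1) h
    simp only [Lib.BrauerPairs.Bridge.toSet_blk] at h1
    exact Subtype.ext h1
  refine Lib.BrauerMap.BlockCount.card_blocks_le 𝔅 T fun ψ hψ ψ' _ g hne hψg => ⟨g, rfl, ?_, ?_⟩
  · intro hdvd
    have hB' := Lib.BrauerPairs.Bridge.isPBlock_toSet (M := M) ψ'
    rw [← Lib.BrauerPairs.Bridge.blk_toSet ψ' hB',
      Lib.BrauerPairs.Bridge.coeff_bidem_ne_zero_iff hB',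
      Lib.Blocks.blockCoeff_eq_zero_of_dvd hM hB' hdvd] at hne
    exact hne Lib.Blocks.memLocalIdeal_zero
  · have hB := Lib.BrauerPairs.Bridge.isPBlock_toSet (M := M) ψ
    obtain ⟨D, hD⟩ := Lib.BrauerPairs.Maximal.exists_isDef (p := p) ψ
    obtain ⟨ω, hω⟩ := Lib.BrauerPairs.Maximal.exists_pairOf_isDef hD
    obtain ⟨c, hc⟩ := Lib.BrauerPairs.Maximal.exists_conj_mem hω hψg
    have hcard : Nat.card D = p ^ Cfsg.blockDefect p (Lib.BrauerPairs.Bridge.toSet ψ) :=
      Lib.Blocks.card_isDefectGroup hM hB (by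
        rw [Lib.BrauerPairs.Bridge.isDefectGroup_iff hB, Lib.BrauerPairs.Bridge.blk_toSet]
        exact hD)
    have hle : D.map (MulAut.conj c⁻¹).toMonoidHom ≤ Subgroup.centralizer ({g} : Set G) := by
      apply Lib.BrauerPairs.Maximal.mem_centralizer_singleton_of
      have h1 := (Lib.BrauerPairs.Pairs.mem_centralizer_map_iff c⁻¹ D (c * g * c⁻¹)).mp hc
      simpa [mul_assoc] using h1
    have hdvd := Subgroup.card_dvd_of_le hle
    rw [Lib.BrauerPairs.Maximal.card_map_conj, hcard] at hdvd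
    exact le_trans hψ
      (((Fact.out : p.Prime).pow_dvd_iff_le_factorization Nat.card_pos.ne').mp hdvd)

end Cfsg.Agent.S0962
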