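import Cfsg.Statements.S0965
import Cfsg.Agent.Lib.BrauerMap.Covering

set_option autoImplicit false
open Cfsg
open Cfsg.Agent.Lib.BrauerMap.Covering Cfsg.Agent.Lib.BrauerMap.Normal Cfsg.Agent.Lib.BrauerMap.Induced Cfsg.Agent.Lib.Blocks

namespace Cfsg.Agent.S0965

/-- Let N be a normal subgroup of the finite group G and let B, b be blocks of G and of N relative to a maximal ideal M of the algebraic integers containing the prime p. Then some χ ∈ B has a constituent in b on restriction to N if and only if, for all χ ∈ B, θ ∈ b and n ∈ N, the central character of χ at n is congruent modulo the local ideal at M to the sum of θ m / θ 1 over the elements m ∈ N conjugate in G to n. -/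
theorem result {G : Type*} [Group G] [Fintype G] (p : ℕ) [Fact p.Prime] (M : Ideal Cfsg.AlgInt) (hM : Cfsg.IsPModular p M) (N : Subgroup G) [N.Normal] [Fintype N] (B : Set (Cfsg.IrrCharacter G)) (hB : Cfsg.IsPBlock M B) (b : Set (Cfsg.IrrCharacter N)) (hb : Cfsg.IsPBlock M b) : (∃ χ ∈ B, ∃ θ ∈ b, Cfsg.classInner (fun n : N => (χ : G → ℂ) n) (θ : N → ℂ) ≠ 0) ↔ ∀ χ ∈ B, ∀ θ ∈ b, ∀ n : N, Cfsg.MemLocalIdeal M (Cfsg.centralChar (χ : G → ℂ) (n : G) - Cfsg.inducedCentralChar N (θ : N → ℂ) (n : G)) := by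
  haveI := hM.2.1
  constructor
  · rintro ⟨χ₀, hχ₀, θ₀, hθ₀, hcon⟩ χ hχ θ hθ n
    refine (memLocalIdeal_sub_iff (x := ccR M χ (n : G)) (y := icR M N θ (n : G))).2 ?_
    have hχs : Cfsg.SameBlock M (χ₀ : G → ℂ) (χ : G → ℂ) := by
      rw [isPBlock_eq_blockOf hB hχ₀] at hχ; exact hχ
    have hθs : Cfsg.SameBlock M (θ₀ : N → ℂ) (θ : N → ℂ) := by
      rw [isPBlock_eq_blockOf hb hθ₀] at hθ; exact hθ
    rw [← inducedCentralChar_congr hθs, residue_icR_of_constituent N hcon n.2]
    exact (sameBlock_iff_residue.1 hχs _).symm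
  · intro h
    obtain ⟨χ, hχ⟩ := isPBlock_nonempty hB
    obtain ⟨θ, hθ⟩ := isPBlock_nonempty hb
    obtain ⟨η, hη⟩ := exists_constituent_restrict N χ
    have hres : ∀ g : G, residue M (icR M N θ g) = residue M (icR M N η g) := by
      intro g
      by_cases hg : g ∈ N
      · rw [residue_icR_of_constituent N hη hg]
        exact ((memLocalIdeal_sub_iff (x := ccR M χ g) (y := icR M N θ g)).1
          (h χ hχ θ hθ ⟨g, hg⟩)).symm
      · rw [icR_eq_zero_of_notMem N θ hg, icR_eq_zero_of_notMem N η hg]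
    obtain ⟨g, hg⟩ := exists_conj_mem_of_residue_eq N θ η hres
    rw [← isPBlock_eq_blockOf hb hθ] at hg
    refine ⟨χ, hχ, _, hg, ?_⟩
    have e := classInner_conjIrr N χ g η
    exact fun h0 => hη (e.symm.trans h0)

end Cfsg.Agent.S0965
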