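import Cfsg.Statements.S0967
import Cfsg.Agent.Lib.BrauerMap.Inflation

set_option autoImplicit false
open Cfsg
open Cfsg.Agent.Lib.BrauerMap.Inflation Cfsg.Agent.Lib.Blocks

namespace Cfsg.Agent.S0967

/-- Let N be a normal subgroup of the finite group G of order prime to p and fix a maximal ideal M of the algebraic integers containing p. If χ is an irreducible character of G ⧸ N and ψ lies in the block of its inflation χ ∘ (quotient map), then ψ is itself inflated from an irreducible character ψ' of G ⧸ N lying in the block of χ. (Over a normal p'-subgroup, blocks of the quotient are whole blocks of G.) -/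
theorem result {G : Type*} [Group G] [Finite G] (p : ℕ) [Fact p.Prime] (M : Ideal Cfsg.AlgInt) (hM : Cfsg.IsPModular p M) (N : Subgroup G) [N.Normal] (hN : ¬ p ∣ Nat.card N) (χ : Cfsg.IrrCharacter (G ⧸ N)) (ψ : Cfsg.IrrCharacter G) (hψ : ψ ∈ Cfsg.blockOf M ((χ : G ⧸ N → ℂ) ∘ QuotientGroup.mk)) : ∃ ψ' : Cfsg.IrrCharacter (G ⧸ N), (ψ : G → ℂ) = (ψ' : G ⧸ N → ℂ) ∘ QuotientGroup.mk ∧ Cfsg.SameBlock M (χ : G ⧸ N → ℂ) (ψ' : G ⧸ N → ℂ) := by
  haveI := hM.2.1
  have hf : Function.Surjective (QuotientGroup.mk' N) := QuotientGroup.mk'_surjective N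
  have hψ' : ψ ∈ Cfsg.blockOf M (infl (QuotientGroup.mk' N) hf χ : G → ℂ) := hψ
  have htriv : ∀ n ∈ N, (infl (QuotientGroup.mk' N) hf χ : G → ℂ) n =
      (infl (QuotientGroup.mk' N) hf χ : G → ℂ) 1 := fun n hn => by
    rw [infl_apply, infl_apply]
    simp [(QuotientGroup.eq_one_iff n).2 hn]
  have hψN := blockOf_subset_trivialOn hM N hN htriv hψ'
  obtain ⟨ψ', rfl⟩ := exists_infl (QuotientGroup.mk' N) hf ψ
    (fun g hg => hψN g ((QuotientGroup.eq_one_iff g).1 hg))
  refine ⟨ψ', rfl, sameBlock_of_infl hM (QuotientGroup.mk' N) hf ?_ hψ'⟩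
  rwa [QuotientGroup.ker_mk']

end Cfsg.Agent.S0967
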