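import Cfsg.Statements.S0969
import Cfsg.Agent.Lib.BrauerMap.CentralDefect

set_option autoImplicit false
open Cfsg

namespace Cfsg.Agent.S0969

/-- Let D be a central p-subgroup of the finite group G and χ an irreducible character with the exponent of p in χ(1) equal to the exponent of p in the index of D; fix a maximal ideal M of the algebraic integers containing p. Then D is a defect group of the block of χ, and χ g = 0 whenever the p-part of g does not lie in D. -/
theorem result {G : Type*} [Group G] [Finite G] (p : ℕ) [Fact p.Prime] (M : Ideal Cfsg.AlgInt) (hM : Cfsg.IsPModular p M) (D : Subgroup G) (hD : IsPGroup p D) (hDZ : D ≤ Subgroup.center G) (χ : Cfsg.IrrCharacter G) (hdeg : (Cfsg.charDegree (χ : G → ℂ)).factorization p = D.index.factorization p) : Cfsg.IsDefectGroup p M (Cfsg.blockOf M (χ : G → ℂ)) D ∧ ∀ g x : G, Cfsg.IsPPart p g x → x ∉ D → (χ : G → ℂ) g = 0 := by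
  classical
  haveI := hM.2.1
  letI := Ideal.Quotient.field M
  haveI := Lib.BrauerPairs.Bridge.charP_res hM
  have hB : Cfsg.IsPBlock M (Cfsg.blockOf M (χ : G → ℂ)) := ⟨χ, rfl⟩
  have hψ := Lib.BrauerPairs.Bridge.blkOf_of_mem hB (Lib.Blocks.mem_blockOf_self χ)
  have hdef := Lib.BrauerMap.CentralDefect.isDef_of_degree hM hD hDZ hdeg hψ
  refine ⟨(Lib.BrauerPairs.Bridge.isDefectGroup_iff hB D).mpr hdef, fun g x hx hnot => ?_⟩
  refine Lib.BrauerMap.CentralDefect.apply_eq_zero_of_isDef hM hB hdef hx (fun c hc => hnot ?_)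
    (Lib.Blocks.mem_blockOf_self χ)
  have h1 := Subgroup.mem_center_iff.mp (hDZ hc) c
  rw [inv_mul_cancel_right] at h1
  rw [mul_left_cancel h1] at hc
  exact hc

end Cfsg.Agent.S0969
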