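import Cfsg.Statements.S0970
import Cfsg.Agent.Lib.BrauerPairs.NormalCover
import Cfsg.Agent.Lib.Blocks.ContribRank
import Cfsg.Agent.Lib.Blocks.DefectGroup
-- import your own Cfsg.Agent.* helpers here

set_option autoImplicit false
open Cfsg

namespace Cfsg.Agent.S0970

open Lib.BrauerPairs.Bridge Lib.BrauerMap.Normal Lib.BrauerMap.Covering
open Lib.Blocks Lib.Blocks.Contrib Lib.Characters.Basic

attribute [local instance] Ideal.Quotient.field

variable {G : Type*} [Group G] [Fintype G] (N : Subgroup G) [N.Normal] [Fintype N]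

open scoped Classical in
/-- The squares of the degrees over a set of characters of `N` that every constituent of every
character above it lies in. -/
theorem index_mul_sum_sq (b : Set (Cfsg.IrrCharacter N)) (A : Set (Cfsg.IrrCharacter G))
    (h1 : ∀ χ ∈ A, ∀ θ : Cfsg.IrrCharacter N,
      Cfsg.classInner (fun n : N => (χ : G → ℂ) n) (θ : N → ℂ) ≠ 0 → θ ∈ b)
    (h2 : ∀ χ, χ ∉ A → ∀ θ ∈ b, Cfsg.classInner (fun n : N => (χ : G → ℂ) n) (θ : N → ℂ) = 0) :
    N.index * ∑ θ ∈ bset b, Cfsg.charDegree (θ : N → ℂ) ^ 2 =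
      ∑ χ ∈ bset A, Cfsg.charDegree (χ : G → ℂ) ^ 2 := by
  letI := Fintype.ofFinite (Cfsg.IrrCharacter G)
  letI := Fintype.ofFinite (Cfsg.IrrCharacter N)
  have key : ∀ χ : Cfsg.IrrCharacter G,
      ∑ θ ∈ bset b, Cfsg.classInner (θ : N → ℂ) (fun n : N => (χ : G → ℂ) n) * (θ : N → ℂ) 1 =
        if χ ∈ A then (χ : G → ℂ) 1 else 0 := by
    intro χ
    have hc : Cfsg.IsCharacter N (fun n : N => (χ : G → ℂ) n) :=
      isCharacter_comp N.subtype (isCharacter_irr χ)
    have hsymm : ∀ θ : Cfsg.IrrCharacter N,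
        Cfsg.classInner (θ : N → ℂ) (fun n : N => (χ : G → ℂ) n) =
          Cfsg.classInner (fun n : N => (χ : G → ℂ) n) (θ : N → ℂ) := fun θ => by
      obtain ⟨k, hk⟩ := exists_classInner_nat hc (isCharacter_irr θ)
      rw [← Lib.Induced.Basic.classInner_conj_symm, hk, map_natCast]
    simp only [hsymm]
    split_ifs with hχ
    · have h := congrFun (character_eq_finsum hc) 1
      rw [finsum_eq_sum_of_fintype, Finset.sum_apply] at h
      simp only [Pi.smul_apply, smul_eq_mul, OneMemClass.coe_one] at h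
      rw [h]
      refine Finset.sum_subset (Finset.subset_univ _) fun θ _ hθ => ?_
      by_contra hne
      exact hθ (mem_bset.mpr (h1 χ hχ θ (left_ne_zero_of_mul hne)))
    · exact Finset.sum_eq_zero fun θ hθ => by rw [h2 χ hχ θ (mem_bset.mp hθ), zero_mul]
  have hind : ∀ θ : Cfsg.IrrCharacter N, (N.index : ℂ) * (θ : N → ℂ) 1 =
      ∑ χ : Cfsg.IrrCharacter G,
        Cfsg.classInner (θ : N → ℂ) (fun n : N => (χ : G → ℂ) n) * (χ : G → ℂ) 1 := by
    intro θ
    have h := congrFun (character_eq_finsum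
      (Lib.Induced.Character.isCharacter_indFun N (isCharacter_irr θ))) 1
    rw [Lib.Induced.Basic.indFun_one, finsum_eq_sum_of_fintype, Finset.sum_apply] at h
    simp only [Pi.smul_apply, smul_eq_mul] at h
    rw [h]
    exact Finset.sum_congr rfl fun χ _ => by
      rw [Lib.Induced.Basic.frobenius_reciprocity N _ (isClassFunction_irr χ)]
  suffices h : ((N.index * ∑ θ ∈ bset b, Cfsg.charDegree (θ : N → ℂ) ^ 2 : ℕ) : ℂ) =
      ((∑ χ ∈ bset A, Cfsg.charDegree (χ : G → ℂ) ^ 2 : ℕ) : ℂ) by exact_mod_cast h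
  push_cast
  simp only [← (Lib.H80.ClassMult.deg_spec _).2, pow_two]
  calc (N.index : ℂ) * ∑ θ ∈ bset b, (θ : N → ℂ) 1 * (θ : N → ℂ) 1
      = ∑ θ ∈ bset b, ∑ χ : Cfsg.IrrCharacter G, Cfsg.classInner (θ : N → ℂ)
          (fun n : N => (χ : G → ℂ) n) * (θ : N → ℂ) 1 * (χ : G → ℂ) 1 := by
        rw [Finset.mul_sum]
        refine Finset.sum_congr rfl fun θ _ => ?_
        rw [← mul_assoc, hind, Finset.sum_mul]
        exact Finset.sum_congr rfl fun χ _ => by ring
    _ = ∑ χ : Cfsg.IrrCharacter G, (if χ ∈ A then (χ : G → ℂ) 1 else 0) * (χ : G → ℂ) 1 := by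
        rw [Finset.sum_comm]
        exact Finset.sum_congr rfl fun χ _ => by rw [← key χ, Finset.sum_mul]
    _ = ∑ χ ∈ bset A, (χ : G → ℂ) 1 * (χ : G → ℂ) 1 := by
        simp only [ite_mul, zero_mul]
        rw [← Finset.sum_filter]
        exact Finset.sum_congr (by ext; simp) fun _ _ => rfl

/-- Let N be a normal subgroup of the finite group G and fix a maximal ideal M of the algebraic integers containing the prime p. Let b be a block of N that is invariant under conjugation by G, and B a block of G covering b (some χ ∈ B has a constituent in b) whose defect is at least that of every block covering b. If P is a defect group of B, then p does not divide the index of P ⊔ N, the subgroup P ∩ N of N is a defect group of b, and the defect of B equals the defect of b plus the exponent of p in the index of N. -/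
theorem result {G : Type*} [Group G] [Fintype G] (p : ℕ) [Fact p.Prime] (M : Ideal Cfsg.AlgInt) (hM : Cfsg.IsPModular p M) (N : Subgroup G) [hN : N.Normal] [Fintype N] (b : Set (Cfsg.IrrCharacter N)) (hb : Cfsg.IsPBlock M b) (hinv : ∀ g : G, ∀ θ ∈ b, ∀ θ' : Cfsg.IrrCharacter N, (∀ n : N, (θ' : N → ℂ) n = (θ : N → ℂ) ⟨g * n * g⁻¹, hN.conj_mem n n.2 g⟩) → θ' ∈ b) (B : Set (Cfsg.IrrCharacter G)) (hB : Cfsg.IsPBlock M B) (hcov : ∃ χ ∈ B, ∃ θ ∈ b, Cfsg.classInner (fun n : N => (χ : G → ℂ) n) (θ : N → ℂ) ≠ 0) (hmax : ∀ B' : Set (Cfsg.IrrCharacter G), Cfsg.IsPBlock M B' → (∃ χ ∈ B', ∃ θ ∈ b, Cfsg.classInner (fun n : N => (χ : G → ℂ) n) (θ : N → ℂ) ≠ 0) → Cfsg.blockDefect p B' ≤ Cfsg.blockDefect p B) (P : Subgroup G) (hP : Cfsg.IsDefectGroup p M B P) : ¬ p ∣ (P ⊔ N).index ∧ Cfsg.IsDefectGroup p M b ((P ⊓ N).subgroupOf N) ∧ Cfsg.blockDefect p B = Cfsg.blockDefect p b + N.index.factorization p := by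
  classical
  haveI := hM.2.1
  haveI := charP_res hM
  have hp : p.Prime := Fact.out
  obtain ⟨χ₀, hχ₀, θ₀, hθ₀, hin₀⟩ := hcov
  -- every constituent above `b` lies in `b`
  have hall : ∀ χ χ' : Cfsg.IrrCharacter G, Cfsg.SameBlock M (χ : G → ℂ) (χ' : G → ℂ) →
      ∀ θ ∈ b, Cfsg.classInner (fun n : N => (χ : G → ℂ) n) (θ : N → ℂ) ≠ 0 →
      ∀ ψ : Cfsg.IrrCharacter N,
        Cfsg.classInner (fun n : N => (χ' : G → ℂ) n) (ψ : N → ℂ) ≠ 0 → ψ ∈ b := by
    intro χ χ' hsame θ hθ hin ψ hψ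
    obtain ⟨g, hg⟩ := exists_conj_mem_of_constituents N hsame hin hψ
    rw [← isPBlock_eq_blockOf hb hθ] at hg
    refine hinv g⁻¹ _ hg ψ fun n => ?_
    rw [conjIrr_apply]
    refine congrArg (ψ : N → ℂ) (Subtype.ext ?_)
    simp [mul_assoc]
  set A : Set (Cfsg.IrrCharacter G) := {χ | ∃ θ ∈ b,
    Cfsg.classInner (fun n : N => (χ : G → ℂ) n) (θ : N → ℂ) ≠ 0} with hA
  have hsum := index_mul_sum_sq N b A
    (fun χ ⟨θ, hθ, hin⟩ ψ hψ => hall χ χ (sameBlock_refl χ) θ hθ hin ψ hψ)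
    (fun χ hχ θ hθ => by_contra fun h => hχ ⟨θ, hθ, h⟩)
  -- saturation
  have hsat : ∀ χ ∈ A, ∀ χ' : Cfsg.IrrCharacter G, Cfsg.SameBlock M (χ : G → ℂ) (χ' : G → ℂ) → χ' ∈ A := by
    rintro χ ⟨θ, hθ, hin⟩ χ' hs
    obtain ⟨ψ, hψ⟩ := exists_constituent_restrict N χ'
    exact ⟨ψ, hall χ χ' hs θ hθ hin ψ hψ, hψ⟩
  set a := (Nat.card G).factorization p with ha
  have hdvd : p ^ (a + minVdeg p B) ∣ ∑ χ ∈ bset A, Cfsg.charDegree (χ : G → ℂ) ^ 2 := by
    rw [← Finset.sum_fiberwise_of_maps_to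
      (g := fun χ : Cfsg.IrrCharacter G => Cfsg.blockOf M (χ : G → ℂ))
      (t := (bset A).image fun χ : Cfsg.IrrCharacter G => Cfsg.blockOf M (χ : G → ℂ))
      (fun χ hχ => Finset.mem_image_of_mem _ hχ)]
    refine Finset.dvd_sum fun B' hB' => ?_
    obtain ⟨χ, hχ, rfl⟩ := Finset.mem_image.mp hB'
    rw [mem_bset] at hχ
    have hB'' : Cfsg.IsPBlock M (Cfsg.blockOf M (χ : G → ℂ)) := ⟨χ, rfl⟩
    rw [show Finset.filter (fun φ : Cfsg.IrrCharacter G =>
        Cfsg.blockOf M (φ : G → ℂ) = Cfsg.blockOf M (χ : G → ℂ)) (bset A) =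
        bset (Cfsg.blockOf M (χ : G → ℂ)) by
      ext φ
      simp only [Finset.mem_filter, mem_bset]
      exact ⟨fun h => h.2 ▸ mem_blockOf_self φ, fun h => ⟨hsat χ hχ φ h,
        blockOf_eq_of_mem h⟩⟩]
    have hle := hmax _ hB'' ⟨χ, mem_blockOf_self χ, hχ⟩
    rw [blockDefect_eq, blockDefect_eq] at hle
    have hS := factorization_sum_sq (p := p) hM hB''
    refine dvd_trans (pow_dvd_pow p ?_) (Nat.ordProj_dvd _ p)
    rw [hS, ← ha]
    have := minVdeg_le_factorization (p := p) hB''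
    have := minVdeg_le_factorization (p := p) hB
    omega
  rw [← hsum] at hdvd
  have hS0 : ∑ θ ∈ bset b, Cfsg.charDegree (θ : N → ℂ) ^ 2 ≠ 0 :=
    (Finset.sum_pos (fun θ _ => pow_pos (Lib.H80.ClassMult.deg_spec θ).1 2)
      ⟨θ₀, mem_bset.mpr hθ₀⟩).ne'
  rw [hp.pow_dvd_iff_le_factorization (mul_ne_zero Subgroup.index_ne_zero_of_finite hS0),
    Nat.factorization_mul Subgroup.index_ne_zero_of_finite hS0, Finsupp.add_apply,
    factorization_sum_sq (p := p) hM hb] at hdvd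
  have hGN : a = (Nat.card N).factorization p + N.index.factorization p := by
    rw [ha, ← N.card_mul_index, Nat.factorization_mul Nat.card_pos.ne'
      Subgroup.index_ne_zero_of_finite, Finsupp.add_apply]
  -- the defect group of `b`
  have hPdef := (isDefectGroup_iff hB P).mp hP
  obtain ⟨ω, hω⟩ := Lib.BrauerPairs.Maximal.exists_pairOf_isDef hPdef
  obtain ⟨ν, hcν, -, g, hg, hne⟩ := Lib.BrauerPairs.NormalCover.exists_covers_fixed N hω
  have hν : ν = blk hb := by
    obtain ⟨χ, hχ, θ, hθ, hin⟩ := (Lib.BrauerPairs.NormalCover.covers_iff_constituent N hB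
      (isPBlock_toSet (M := M) ν)).mpr (by rwa [blk_toSet])
    have hθb : θ ∈ b := hall χ₀ χ (sameBlock_trans (sameBlock_symm
      (isPBlock_eq_blockOf hB hχ ▸ hχ₀ : χ₀ ∈ Cfsg.blockOf M (χ : G → ℂ)))
      (sameBlock_refl χ)) θ₀ hθ₀ hin₀ θ hin
    rw [← blkOf_of_mem hb hθb]
    exact hθ.symm
  have hbdef : Cfsg.IsDefectGroup p M b ((P ⊓ N).subgroupOf N) :=
    (isDefectGroup_iff hb _).mpr
      (hν ▸ Lib.BrauerPairs.NormalCover.isDef_inf N hcν hPdef hg hne)
  have hcP := card_isDefectGroup hM hB hP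
  have hcb := card_isDefectGroup hM hb hbdef
  set dB := Cfsg.blockDefect p B with hdB
  set db := Cfsg.blockDefect p b with hdb
  have e1 : p ^ dB = p ^ db * N.relIndex (P ⊔ N) := by
    rw [Subgroup.relIndex_sup_right, ← Subgroup.inf_relIndex_right, inf_comm, ← hcP, ← hcb,
      ← ((P ⊓ N).subgroupOf P).card_mul_index,
      Nat.card_congr (Subgroup.subgroupOfEquivOfLe (inf_le_left : P ⊓ N ≤ P)).toEquiv,
      Nat.card_congr (Subgroup.subgroupOfEquivOfLe (inf_le_right : P ⊓ N ≤ N)).toEquiv]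
    rfl
  have e2 := Subgroup.relIndex_mul_index (le_sup_right : N ≤ P ⊔ N)
  have hr0 : N.relIndex (P ⊔ N) ≠ 0 := fun h => by
    rw [h, mul_zero] at e1
    exact pow_ne_zero _ hp.ne_zero e1
  have e3 := congrArg (fun n : ℕ => n.factorization p) e1
  have e4 := congrArg (fun n : ℕ => n.factorization p) e2
  simp only [Nat.factorization_mul (pow_ne_zero _ hp.ne_zero) hr0, Finsupp.add_apply,
    hp.factorization_pow, Finsupp.single_eq_same] at e3
  simp only [Nat.factorization_mul hr0 Subgroup.index_ne_zero_of_finite, Finsupp.add_apply] at e4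
  have hb1 : minVdeg p b + db = (Nat.card N).factorization p := minVdeg_add_blockDefect hb
  have hB1 : minVdeg p B + dB = a := minVdeg_add_blockDefect hB
  refine ⟨fun hd => ?_, hbdef, by omega⟩
  have := hp.factorization_pos_of_dvd Subgroup.index_ne_zero_of_finite hd
  omega

end Cfsg.Agent.S0970
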