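import Cfsg.Statements.S0971
import Cfsg.Agent.Lib.BrauerMap.InducedHom
import Cfsg.Agent.Lib.BrauerMap.Covering

set_option autoImplicit false
open Cfsg

namespace Cfsg.Agent.S0971

open Lib.BrauerMap.Induced Lib.BrauerPairs.Bridge
open Lib.Blocks (residue ccR memLocalIdeal_sub_iff)

attribute [local instance] Ideal.Quotient.field

/-- A block above a block of a normal subgroup containing `C(Q)` is the induced one. -/
theorem induced_of_covers {G : Type*} [Group G] [Fintype G] {p : ℕ} [Fact p.Prime]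
    {M : Ideal Cfsg.AlgInt} [M.IsMaximal] [CharP (Res M) p] (Q N : Subgroup G) [Q.Normal]
    [N.Normal] [Fintype N] (hQ : IsPGroup p Q) (hC : Subgroup.centralizer (Q : Set G) ≤ N)
    {b : Set (Cfsg.IrrCharacter N)} (hb : Cfsg.IsPBlock M b) {B : Set (Cfsg.IrrCharacter G)}
    (hB : Cfsg.IsPBlock M B) {χ : Cfsg.IrrCharacter G} (hχ : χ ∈ B) {θ : Cfsg.IrrCharacter N}
    (hθ : θ ∈ b) (hin : Cfsg.classInner (fun n : N => (χ : G → ℂ) n) (θ : N → ℂ) ≠ 0) :
    Cfsg.IsInducedBlock M N b B := by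
  refine ⟨hb, hB, fun ξ hξ χ' hχ' => (induced_congr_iff ξ χ').mpr fun g => ?_⟩
  rw [Lib.Blocks.isPBlock_eq_blockOf hb hθ] at hξ
  rw [← inducedCentralChar_congr hξ g]
  by_cases hg : g ∈ N
  · rw [Lib.BrauerMap.Covering.residue_icR_of_constituent N hin hg]
    exact Lib.Blocks.residue_ccR_eq_of_mem hB hχ hχ' g
  · rw [Lib.BrauerMap.Covering.icR_eq_zero_of_notMem N θ hg, map_zero, ← blkOf_classSumC]
    exact (Lib.BrauerMap.Nilpotent.algHom_classSum_eq_zero hQ (fun h => hg (hC h)) _).symm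

/-- Let Q be a normal p-subgroup of the finite group G, let N = Q ⊔ C_G(Q) (a normal subgroup) and let b be a block of N relative to a maximal ideal M of the algebraic integers containing p. Then b induces some block of G, and every block B of G containing a character whose restriction to N has a constituent in b is induced by b. -/
theorem result {G : Type*} [Group G] [Fintype G] (p : ℕ) [Fact p.Prime] (M : Ideal Cfsg.AlgInt) (hM : Cfsg.IsPModular p M) (Q : Subgroup G) [Q.Normal] (hQ : IsPGroup p Q) [Fintype ↥(Q ⊔ Subgroup.centralizer (Q : Set G))] (b : Set (Cfsg.IrrCharacter ↥(Q ⊔ Subgroup.centralizer (Q : Set G)))) (hb : Cfsg.IsPBlock M b) : Cfsg.InducedBlockDefined M (Q ⊔ Subgroup.centralizer (Q : Set G)) b ∧ ∀ B : Set (Cfsg.IrrCharacter G), Cfsg.IsPBlock M B → (∃ χ ∈ B, ∃ θ ∈ b, Cfsg.classInner (fun n : ↥(Q ⊔ Subgroup.centralizer (Q : Set G)) => (χ : G → ℂ) n) (θ : ↥(Q ⊔ Subgroup.centralizer (Q : Set G)) → ℂ) ≠ 0) → Cfsg.IsInducedBlock M (Q ⊔ Subgroup.centralizer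 (Q : Set G)) b B := by
  classical
  haveI := hM.2.1
  haveI := Lib.BrauerPairs.Bridge.charP_res hM
  haveI : (Subgroup.centralizer (Q : Set G)).Normal := by
    refine ⟨fun c hc x => ?_⟩
    rw [Subgroup.mem_centralizer_iff] at hc ⊢
    intro q hq
    have h1 := hc (x⁻¹ * q * x) (by simpa using Subgroup.Normal.conj_mem ‹Q.Normal› q hq x⁻¹)
    have h2 := congrArg (fun t => x * t * x⁻¹) h1
    simpa [mul_assoc] using h2
  refine ⟨Lib.BrauerMap.InducedHom.inducedBlockDefined hQ le_sup_left le_sup_right ?_ hb,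
    fun B hB ⟨χ, hχ, θ, hθ, hin⟩ => induced_of_covers Q _ hQ le_sup_right hb hB hχ hθ hin⟩
  rw [Subgroup.normalizer_eq_top]
  exact le_top

end Cfsg.Agent.S0971
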