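import Cfsg.Statements.S0972
import Cfsg.Agent.Lib.BrauerMap.NormalDefect
import Cfsg.Agent.Lib.Clifford.Ito
-- import your own Cfsg.Agent.* helpers here

set_option autoImplicit false
open Cfsg

namespace Cfsg.Agent.S0972

/-- Let B be a block of the finite group G (relative to a maximal ideal M of the algebraic integers containing the prime p) with a defect group P that is normal in G. Then P is commutative if and only if every member of B has height zero. -/
theorem result {G : Type*} [Group G] [Finite G] (p : ℕ) [Fact p.Prime] (M : Ideal Cfsg.AlgInt) (hM : Cfsg.IsPModular p M) (B : Set (Cfsg.IrrCharacter G)) (hB : Cfsg.IsPBlock M B) (P : Subgroup G) [P.Normal] (hP : Cfsg.IsDefectGroup p M B P) : (∀ a ∈ P, ∀ c ∈ P, a * c = c * a) ↔ ∀ χ ∈ B, Cfsg.blockHeight p B (χ : G → ℂ) = 0 := by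
  classical
  haveI : M.IsMaximal := hM.2.1
  letI := Ideal.Quotient.field M
  haveI := Lib.BrauerPairs.Bridge.charP_res hM
  letI := Fintype.ofFinite G
  have hp : p.Prime := Fact.out
  have hge : ∀ χ ∈ B, P.index.factorization p ≤
      (Cfsg.charDegree (χ : G → ℂ)).factorization p := fun χ hχ =>
    (hp.pow_dvd_iff_le_factorization (Lib.H80.ClassMult.deg_spec χ).1.ne').mp
      (Lib.Blocks.pow_dvd_charDegree hM hB hP hχ)
  obtain ⟨χ₁, hχ₁, hnot⟩ := Lib.Blocks.exists_not_pow_dvd_charDegree hM hB hP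
  have hmin : sInf ((fun χ : Cfsg.IrrCharacter G =>
      (Cfsg.charDegree (χ : G → ℂ)).factorization p) '' B) = P.index.factorization p := by
    refine le_antisymm ?_ (le_csInf ⟨_, χ₁, hχ₁, rfl⟩ (by
      rintro _ ⟨χ, hχ, rfl⟩; exact hge χ hχ))
    refine le_trans (Nat.sInf_le ⟨χ₁, hχ₁, rfl⟩) ?_
    by_contra h
    exact hnot ((hp.pow_dvd_iff_le_factorization (Lib.H80.ClassMult.deg_spec χ₁).1.ne').mpr
      (not_le.mp h))
  have hheight : ∀ χ ∈ B, Cfsg.blockHeight p B (χ : G → ℂ) = 0 ↔
      (Cfsg.charDegree (χ : G → ℂ)).factorization p ≤ P.index.factorization p := fun χ _ => by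
    rw [Cfsg.blockHeight, hmin]
    omega
  constructor
  · intro hab χ hχ
    rw [hheight χ hχ]
    obtain ⟨d, hd, hdvd⟩ := Lib.Clifford.Ito.degree_dvd_index P hab χ
    rw [(Lib.H80.ClassMult.deg_spec χ).2, Nat.cast_inj] at hd
    exact (Nat.factorization_le_iff_dvd (Lib.H80.ClassMult.deg_spec χ).1.ne'
      Subgroup.index_ne_zero_of_finite).mpr (hd ▸ hdvd) p
  · intro hall
    set N := P ⊔ Subgroup.centralizer (P : Set G)
    set Q := P.subgroupOf N
    have hQp : IsPGroup p Q :=
      ((Lib.BrauerPairs.Bridge.isDefectGroup_iff hB P).mp hP).isPGroup.of_equiv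
        (Subgroup.subgroupOfEquivOfLe (le_sup_left : P ≤ N)).symm
    have hlin : ∀ μ : Cfsg.IrrCharacter Q, (μ : Q → ℂ) 1 = 1 := by
      intro μ
      obtain ⟨χ, hχ, hle⟩ := Lib.BrauerMap.NormalDefect.exists_degree_ge hM hB hP μ
      have h0 := (hheight χ hχ).mp (hall χ hχ)
      obtain ⟨k, hk⟩ := IsPGroup.iff_card.mp hQp
      obtain ⟨i, -, hi⟩ := (Nat.dvd_prime_pow hp).mp (hk ▸ Lib.H80.ClassMult.charDegree_dvd_card μ)
      rw [hi, hp.factorization_pow, Finsupp.single_eq_same] at hle
      rw [(Lib.H80.ClassMult.deg_spec μ).2, hi, show i = 0 by omega, pow_zero, Nat.cast_one]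
    haveI : Finite (ConjClasses Q) := Quotient.finite _
    have hcard : Nat.card (ConjClasses Q) = Nat.card Q := by
      have h := Lib.Characters.Complete.finsum_degree_sq (G := Q)
      letI := Fintype.ofFinite (Cfsg.IrrCharacter Q)
      simp only [hlin, one_pow] at h
      rw [finsum_eq_sum_of_fintype, Finset.sum_const, Finset.card_univ, nsmul_one,
        Nat.cast_inj] at h
      rw [← Lib.Characters.Complete.card_irr_eq_card_conjClasses, Nat.card_eq_fintype_card, h]
    have hinj : Function.Injective (ConjClasses.mk : Q → ConjClasses Q) :=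
      ((Nat.bijective_iff_surjective_and_card _).mpr ⟨ConjClasses.mk_surjective, hcard.symm⟩).1
    intro a ha c hc
    have e := hinj (ConjClasses.mk_eq_mk_iff_isConj.mpr
      (isConj_iff.mpr ⟨(⟨⟨a, le_sup_left (α := Subgroup G) ha⟩, ha⟩ : Q), rfl⟩ :
        IsConj (⟨⟨c, le_sup_left (α := Subgroup G) hc⟩, hc⟩ : Q) _))
    have e' : a * c * a⁻¹ = c := (congrArg (fun t : Q => ((t : N) : G)) e).symm
    calc a * c = a * c * a⁻¹ * a := by simp
      _ = c * a := by rw [e']

end Cfsg.Agent.S0972
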