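import Cfsg.Statements.S0973
import Cfsg.Agent.Lib.BrauerMap.FirstMain
import Cfsg.Agent.Lib.BrauerMap.InducedHom

set_option autoImplicit false
open Cfsg

namespace Cfsg.Agent.S0973

/-- Let B be a block of the finite group G with defect group P (relative to a maximal ideal M of the algebraic integers containing p), and let L = P ⊔ C_G(P). Then (i) some block b of L with defect group P (viewed in L) induces B, and (ii) if b and b' are blocks of L both inducing B, there is n ∈ N_G(P) carrying b to b': for every θ ∈ b there is θ' ∈ b' with θ' x = θ (n x n⁻¹) for all x ∈ L. -/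
theorem result {G : Type*} [Group G] [Finite G] (p : ℕ) [Fact p.Prime] (M : Ideal Cfsg.AlgInt) (hM : Cfsg.IsPModular p M) (B : Set (Cfsg.IrrCharacter G)) (hB : Cfsg.IsPBlock M B) (P : Subgroup G) (hP : Cfsg.IsDefectGroup p M B P) : (∃ b : Set (Cfsg.IrrCharacter ↥(P ⊔ Subgroup.centralizer (P : Set G))), Cfsg.IsDefectGroup p M b (P.subgroupOf (P ⊔ Subgroup.centralizer (P : Set G))) ∧ Cfsg.IsInducedBlock M (P ⊔ Subgroup.centralizer (P : Set G)) b B) ∧ ∀ b b' : Set (Cfsg.IrrCharacter ↥(P ⊔ Subgroup.centralizer (P : Set G))), Cfsg.IsInducedBlock M (P ⊔ Subgroup.centralizer (P : Set G)) b B → Cfsg.IsInducedBlock M (P ⊔ Subgroup.centralizer (P : Set G)) b' B → ∃ n ∈ Subgroup.normalizer (P : Set G), ∀ θ ∈ b, ∃ θ' ∈ b', ∀ x : ↥(P ⊔ Subgroup.centralizer (P : Set G)), ∀ hx : n * (x : G) * n⁻¹ ∈ P ⊔ Subgroup.centralizer (P : Set G), (θ' : ↥(P ⊔ Subgroup.centralizer (P : Set G)) → ℂ) x = (θ : ↥(P ⊔ Subgroup.centralizer (P : Set G)) → ℂ) ⟨n * (x :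 G) * n⁻¹, hx⟩ := by
  classical
  haveI := hM.2.1
  letI := Ideal.Quotient.field M
  haveI := Lib.BrauerPairs.Bridge.charP_res hM
  rw [Lib.BrauerPairs.Bridge.isDefectGroup_iff hB] at hP
  have hPp := hP.isPGroup
  set L := P ⊔ Subgroup.centralizer (P : Set G) with hL
  have hPL : P ≤ L := le_sup_left
  have hC : Subgroup.centralizer (P : Set G) ≤ L := le_sup_right
  have hN : L ≤ Subgroup.normalizer (P : Set G) :=
    sup_le Subgroup.le_normalizer (Subgroup.centralizer_le_normalizer _)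
  simp only [Lib.BrauerMap.InducedHom.isInducedBlock_iff hPp hPL hC hN]
  constructor
  · obtain ⟨ω, hω⟩ := Lib.BrauerPairs.Maximal.exists_pairOf_isDef hP
    set φ := Lib.BrauerMap.FirstMain.toL hPp hPL hC ω with hφ
    have hcomp : φ.comp (Lib.BrauerMap.Basic.brauerHom hPp hC hN) =
        Lib.BrauerPairs.Bridge.blk hB := by
      rw [hφ, Lib.BrauerMap.FirstMain.toL_comp_brauerHom]
      obtain ⟨_, h⟩ := Lib.BrauerPairs.Maximal.pairOf_iff.mp hω
      exact h
    have hb := Lib.BrauerPairs.Bridge.isPBlock_toSet (M := M) φ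
    refine ⟨Lib.BrauerPairs.Bridge.toSet φ, ?_, hb, hB, ?_⟩
    · rw [Lib.BrauerPairs.Bridge.isDefectGroup_iff hb, Lib.BrauerPairs.Bridge.blk_toSet φ hb]
      exact Lib.BrauerMap.FirstMain.isDef_of_comp hPp hPL hC hN φ (hcomp.symm ▸ hP)
    · rw [Lib.BrauerPairs.Bridge.blk_toSet φ hb]
      exact hcomp
  · rintro b b' ⟨hb, hB₁, h⟩ ⟨hb', hB₂, h'⟩
    obtain ⟨ω, hω⟩ := Lib.BrauerMap.FirstMain.exists_toL hPp hPL hC hN
      (Lib.BrauerPairs.Bridge.blk hb)
    obtain ⟨ω', hω'⟩ := Lib.BrauerMap.FirstMain.exists_toL hPp hPL hC hN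
      (Lib.BrauerPairs.Bridge.blk hb')
    rw [hω, Lib.BrauerMap.FirstMain.toL_comp_brauerHom] at h
    rw [hω', Lib.BrauerMap.FirstMain.toL_comp_brauerHom] at h'
    have hpair : Lib.BrauerPairs.Maximal.PairOf p (Lib.BrauerPairs.Bridge.blk hB) ⟨P, ω⟩ :=
      Lib.BrauerPairs.Maximal.pairOf_iff.mpr ⟨hPp, h⟩
    have hpair' : Lib.BrauerPairs.Maximal.PairOf p (Lib.BrauerPairs.Bridge.blk hB) ⟨P, ω'⟩ :=
      Lib.BrauerPairs.Maximal.pairOf_iff.mpr ⟨hPp, h'⟩
    obtain ⟨x, hx⟩ := Lib.BrauerPairs.Maximal.top_conj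
      (Lib.BrauerPairs.Maximal.top_of_isDef hpair hP)
      (Lib.BrauerPairs.Maximal.top_of_isDef hpair' hP) hpair hpair'
    have hxN : x ∈ Subgroup.normalizer (P : Set G) :=
      Subgroup.mem_normalizer_iff_map_conj_eq.mpr (congrArg Sigma.fst hx)
    have hxC := Lib.BrauerPairs.Pairs.mem_centralizer_conj_iff hxN
    have hcω : Lib.BrauerPairs.Conj.cBlk x _ _ hxC ω = ω' := by
      refine Lib.BrauerPairs.Conj.bext_injective (Subgroup.centralizer (P : Set G)) ?_
      rw [Lib.BrauerPairs.Conj.bext_cBlk]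
      have h2 := congrArg
        (fun c : Lib.BrauerPairs.Pairs.Idx (Lib.BrauerPairs.Bridge.Res M) G =>
          Lib.BrauerPairs.Conj.bext (Subgroup.centralizer (c.1 : Set G)) c.2) hx
      simp only [Lib.BrauerPairs.Transport.bext_cPair] at h2
      exact h2
    have hxL : ∀ g, g ∈ L ↔ x * g * x⁻¹ ∈ L := by
      intro g
      have hmap : L.map (MulAut.conj x).toMonoidHom = L := by
        rw [hL, Subgroup.map_sup, Lib.BrauerPairs.Pairs.map_conj_eq_of_mem hxN]
        congr 1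
        refine le_antisymm ?_ fun c hc => ?_
        · rintro _ ⟨c, hc, rfl⟩
          exact (hxC c).mp hc
        · exact ⟨x⁻¹ * c * x, (hxC _).mpr (by simpa [mul_assoc] using hc), by simp [mul_assoc]⟩
      constructor
      · intro hg
        rw [← hmap]
        exact ⟨g, hg, rfl⟩
      · intro hg
        rw [← hmap] at hg
        obtain ⟨g', hg', he⟩ := hg
        simp only [MulEquiv.coe_toMonoidHom, MulAut.conj_apply] at he
        rwa [← mul_left_cancel (mul_right_cancel he)]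
    refine ⟨x⁻¹, inv_mem hxN, fun θ hθ => ⟨Lib.BrauerPairs.Bridge.pushIrr
      (Lib.BrauerPairs.Conj.conjEquiv x L L hxL) θ, ?_, fun y hy => ?_⟩⟩
    · rw [← Lib.BrauerPairs.Bridge.toSet_blk hb', Lib.BrauerPairs.Bridge.mem_toSet,
        Lib.BrauerPairs.Bridge.blkOf_pushIrr_conj, Lib.BrauerPairs.Bridge.blkOf_of_mem hb hθ, hω,
        hω', Lib.BrauerMap.FirstMain.cBlk_toL hPp hPL hC hxC hxL, hcω]
    · rw [Lib.BrauerPairs.Bridge.pushIrr_apply]
      refine congrArg (θ : L → ℂ) (Subtype.ext ?_)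
      show x⁻¹ * (y : G) * x = x⁻¹ * (y : G) * (x⁻¹)⁻¹
      rw [inv_inv]

end Cfsg.Agent.S0973
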