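import Cfsg.Statements.S0986
import Cfsg.Agent.Lib.Fusion.Alperin

set_option autoImplicit false
open Cfsg

namespace Cfsg.Agent.S0986

/-- Let P and Q be distinct Sylow p-subgroups of a finite group G chosen so that the order of P ∩ Q is as large as possible among intersections of two distinct Sylow p-subgroups, and let N be the normalizer of P ∩ Q. Then N has more than one Sylow p-subgroup, any two distinct Sylow p-subgroups of N intersect exactly in P ∩ Q, and each Sylow p-subgroup of N lies in exactly one Sylow p-subgroup of G. -/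
theorem result {G : Type*} [Group G] [Finite G] (p : ℕ) [Fact p.Prime] (P Q : Sylow p G) (hPQ : P ≠ Q) (hmax : ∀ P' Q' : Sylow p G, P' ≠ Q' → Nat.card ↥((P' : Subgroup G) ⊓ (Q' : Subgroup G)) ≤ Nat.card ↥((P : Subgroup G) ⊓ (Q : Subgroup G))) : 1 < Nat.card (Sylow p ↥(Subgroup.normalizer (((P : Subgroup G) ⊓ (Q : Subgroup G) : Subgroup G) : Set G))) ∧ (∀ S T : Sylow p ↥(Subgroup.normalizer (((P : Subgroup G) ⊓ (Q : Subgroup G) : Subgroup G) : Set G)), S ≠ T → (S : Subgroup _) ⊓ (T : Subgroup _) = ((P : Subgroup G) ⊓ (Q : Subgroup G)).subgroupOf (Subgroup.normalizer (((P : Subgroup G) ⊓ (Q : Subgroup G) : Subgroup G) : Set G))) ∧ ∀ S : Sylow p ↥(Subgroup.normalizer (((P : Subgroup G) ⊓ (Q : Subgroup G) : Subgroup G) : Set G)), ∃! T : Sylow p G, (S : Subgroup _).map (Subgroup.normalizer (((P : Subgroup G) ⊓ (Q : Subgroup G) : Subgroup G) : Set G)).subtype ≤ (T : Subgroup G) := by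
  have hp := (Fact.out : p.Prime)
  set D := (P : Subgroup G) ⊓ (Q : Subgroup G) with hD
  set N := Subgroup.normalizer (D : Set G) with hN
  have huniq : ∀ (A : Subgroup G) (T T' : Sylow p G), A ≤ (T : Subgroup G) →
      A ≤ (T' : Subgroup G) → Nat.card ↥D < Nat.card ↥A → T = T' := by
    intro A T T' h1 h2 h3
    by_contra hne
    have h4 := Nat.le_of_dvd Nat.card_pos (Subgroup.card_dvd_of_le (le_inf h1 h2))
    have h5 := hmax T T' hne
    omega
  have hne' : ∀ T : Sylow p G, D ≤ (T : Subgroup G) → D ≠ (T : Subgroup G) := by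
    intro T hDT heq
    apply hPQ
    have hc : ∀ S : Sylow p G, Nat.card ↥(S : Subgroup G) = Nat.card ↥D := fun S => by
      rw [heq, S.card_eq_multiplicity, T.card_eq_multiplicity]
    exact _root_.Sylow.ext ((Subgroup.eq_of_le_of_card_ge (inf_le_left : D ≤ _) (hc P).le).symm.trans
      (Subgroup.eq_of_le_of_card_ge (inf_le_right : D ≤ _) (hc Q).le))
  have hgrow : ∀ T : Sylow p G, D ≤ (T : Subgroup G) →
      Nat.card ↥D < Nat.card ↥((T : Subgroup G) ⊓ N) := by
    intro T hDT
    have hlt : D < (T : Subgroup G) ⊓ N :=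
      Lib.Fusion.Alperin.lt_inf_normalizer T.2 (lt_of_le_of_ne hDT (hne' T hDT))
    by_contra hle
    exact hlt.ne (Subgroup.eq_of_le_of_card_ge hlt.le (not_lt.mp hle))
  have hpD : IsPGroup p ↥D := P.2.to_le inf_le_left
  have hDN : D ≤ N := Subgroup.le_normalizer
  have hDnorm : (D.subgroupOf N).Normal := Subgroup.normal_in_normalizer
  have hDS : ∀ S : Sylow p ↥N, D.subgroupOf N ≤ (S : Subgroup ↥N) := fun S =>
    (hpD.of_equiv (Subgroup.subgroupOfEquivOfLe hDN).symm).le_sylow_of_normal S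
  have hex : ∀ S : Sylow p ↥N, ∃ T : Sylow p G, (S : Subgroup ↥N).map N.subtype ≤ (T : Subgroup G) :=
    fun S => (S.2.map N.subtype).exists_le_sylow
  have hDmap : ∀ S : Sylow p ↥N, D ≤ (S : Subgroup ↥N).map N.subtype := fun S d hd =>
    ⟨⟨d, hDN hd⟩, hDS S hd, rfl⟩
  have hbig : ∀ S : Sylow p ↥N, Nat.card ↥D < Nat.card ↥((S : Subgroup ↥N).map N.subtype) := by
    intro S
    have hPN := hgrow P inf_le_left
    obtain ⟨S₀, hS₀⟩ := IsPGroup.exists_le_sylow
      (P.2.comap_of_injective N.subtype N.subtype_injective)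
    have h1 : ((P : Subgroup G) ⊓ N) ≤ (S₀ : Subgroup ↥N).map N.subtype := fun d hd =>
      ⟨⟨d, hd.2⟩, hS₀ hd.1, rfl⟩
    refine lt_of_lt_of_le hPN ?_
    rw [← Nat.card_congr ((S : Subgroup ↥N).equivMapOfInjective _ N.subtype_injective).toEquiv,
      S.card_eq_multiplicity, ← S₀.card_eq_multiplicity,
      Nat.card_congr ((S₀ : Subgroup ↥N).equivMapOfInjective _ N.subtype_injective).toEquiv]
    exact Nat.le_of_dvd Nat.card_pos (Subgroup.card_dvd_of_le h1)
  refine ⟨?_, ?_, ?_⟩
  · rw [Finite.one_lt_card_iff_nontrivial]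
    by_contra hsub
    rw [not_nontrivial_iff_subsingleton] at hsub
    apply hPQ
    obtain ⟨S, hS⟩ := IsPGroup.exists_le_sylow
      (P.2.comap_of_injective N.subtype N.subtype_injective)
    obtain ⟨S', hS'⟩ := IsPGroup.exists_le_sylow
      (Q.2.comap_of_injective N.subtype N.subtype_injective)
    have : S = S' := Subsingleton.elim _ _
    subst this
    obtain ⟨T, hT⟩ := hex S
    have h1 : T = P := huniq ((P : Subgroup G) ⊓ N) T P
      (fun d hd => hT ⟨⟨d, hd.2⟩, hS hd.1, rfl⟩) inf_le_left (hgrow P inf_le_left)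
    have h2 : T = Q := huniq ((Q : Subgroup G) ⊓ N) T Q
      (fun d hd => hT ⟨⟨d, hd.2⟩, hS' hd.1, rfl⟩) inf_le_left (hgrow Q inf_le_right)
    exact h1.symm.trans h2
  · intro S T hST
    refine le_antisymm ?_ (le_inf (hDS S) (hDS T))
    obtain ⟨S', hS'⟩ := hex S
    obtain ⟨T', hT'⟩ := hex T
    have hne : S' ≠ T' := by
      intro he
      subst he
      apply hST
      have key : ∀ U : Sylow p ↥N, (U : Subgroup ↥N).map N.subtype ≤ (S' : Subgroup G) →
          (U : Subgroup ↥N) = (S' : Subgroup G).comap N.subtype := fun U hU =>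
        (U.3 (S'.2.comap_of_injective N.subtype N.subtype_injective)
          (Subgroup.map_le_iff_le_comap.mp hU)).symm
      exact _root_.Sylow.ext ((key S hS').trans (key T hT').symm)
    have hle : D ≤ (S' : Subgroup G) ⊓ (T' : Subgroup G) :=
      le_inf ((hDmap S).trans hS') ((hDmap T).trans hT')
    have heq : D = (S' : Subgroup G) ⊓ (T' : Subgroup G) :=
      Subgroup.eq_of_le_of_card_ge hle (hmax S' T' hne)
    intro x hx
    show (x : G) ∈ D
    rw [heq]
    exact ⟨hS' ⟨x, hx.1, rfl⟩, hT' ⟨x, hx.2, rfl⟩⟩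
  · intro S
    obtain ⟨T, hT⟩ := hex S
    exact ⟨T, hT, fun T' hT' => huniq _ T' T hT' hT (hbig S)⟩

end Cfsg.Agent.S0986
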