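import Cfsg.Statements.S0987
import Cfsg.Agent.Lib.SmallGroups.Counting
import Cfsg.Agent.Lib.SylowNumbers.Basic

set_option autoImplicit false
open Cfsg

namespace Cfsg.Agent.S0987

/-- If a finite group has order pqr for primes p < q < r, then its Sylow r-subgroups are normal. -/
theorem result {G : Type*} [Group G] [Finite G] (p q r : ℕ) (hp : p.Prime) (hq : q.Prime) [Fact r.Prime] (hpq : p < q) (hqr : q < r) (hG : Nat.card G = p * q * r) (R : Sylow r G) : (R : Subgroup G).Normal := by
  classical
  have hfp : Fact p.Prime := ⟨hp⟩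
  have hfq : Fact q.Prime := ⟨hq⟩
  have hr : r.Prime := Fact.out
  have hpr : p < r := hpq.trans hqr
  have hcp : ¬ r ∣ p * q := by
    intro h
    rcases hr.dvd_mul.mp h with h | h
    · exact absurd ((Nat.prime_dvd_prime_iff_eq hr hp).mp h) hpr.ne'
    · exact absurd ((Nat.prime_dvd_prime_iff_eq hr hq).mp h) hqr.ne'
  have hGr : Nat.card G = r ^ 1 * (p * q) := by rw [hG]; ring
  by_contra hR
  -- number of Sylow `r`-subgroups is `p q`
  have hd := Lib.SmallGroups.Sylow.card_sylow_dvd hGr hcp
  have hmod := Lib.SmallGroups.Sylow.card_sylow_mod (G := G) (p := r)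
  have hne : Nat.card (Sylow r G) ≠ 1 := by
    intro h1
    have : Subsingleton (Sylow r G) := (Nat.card_eq_one_iff_unique.mp h1).1
    exact hR R.normal_of_subsingleton
  have hnr : Nat.card (Sylow r G) = p * q := by
    obtain ⟨a, b, ha, hb, hab⟩ := exists_dvd_and_dvd_of_dvd_mul hd
    rw [hab] at hmod hne ⊢
    rcases (Nat.dvd_prime hp).mp ha with rfl | rfl <;> rcases (Nat.dvd_prime hq).mp hb with rfl | rfl
    · simp at hne
    · rw [one_mul, Nat.mod_eq_of_lt hqr] at hmod; omega
    · rw [mul_one, Nat.mod_eq_of_lt hpr] at hmod; omega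
    · rfl
  -- at least `q` Sylow `q`-subgroups, so too many elements
  have hGq : Nat.card G = q ^ 1 * (p * r) := by rw [hG]; ring
  have hcq : ¬ q ∣ p * r := by
    intro h
    rcases hq.dvd_mul.mp h with h | h
    · exact absurd ((Nat.prime_dvd_prime_iff_eq hq hp).mp h) hpq.ne'
    · exact absurd ((Nat.prime_dvd_prime_iff_eq hq hr).mp h) hqr.ne
  have hCr := Lib.SmallGroups.Counting.card_orderOf_eq_prime (G := G) (p := r)
    (fun P => by simpa using Lib.SmallGroups.Sylow.card_sylow_eq P hGr hcp)
  have hCq := Lib.SmallGroups.Counting.card_orderOf_eq_prime (G := G) (p := q)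
    (fun P => by simpa using Lib.SmallGroups.Sylow.card_sylow_eq P hGq hcq)
  have hqd := Lib.SmallGroups.Sylow.card_sylow_dvd hGq hcq
  have hqmod := Lib.SmallGroups.Sylow.card_sylow_mod (G := G) (p := q)
  have hqne : Nat.card (Sylow q G) ≠ 1 := by
    intro h1
    -- `Q` normal: then `Q R` has a unique Sylow `r`-subgroup and contains all of them
    have : Subsingleton (Sylow q G) := (Nat.card_eq_one_iff_unique.mp h1).1
    let Q : Sylow q G := default
    have hQn : (Q : Subgroup G).Normal := Q.normal_of_subsingleton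
    have hQc : Nat.card ↥(Q : Subgroup G) = q := by
      simpa using Lib.SmallGroups.Sylow.card_sylow_eq Q hGq hcq
    have hRc : Nat.card ↥(R : Subgroup G) = r := by
      simpa using Lib.SmallGroups.Sylow.card_sylow_eq R hGr hcp
    -- `C(R)` contains `Q` as `Aut Q` has order prime to `r`
    have hRC : (R : Subgroup G) ≤ Subgroup.centralizer ((Q : Subgroup G) : Set G) := by
      have hcyc : IsCyclic ↥(Q : Subgroup G) := isCyclic_of_prime_card hQc
      have hrel := Lib.SmallGroups.Sylow.relIndex_dvd_card_mulAut (Q : Subgroup G)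
      rw [IsCyclic.card_mulAut, hQc, Nat.totient_prime hq,
        Subgroup.normalizer_eq_top, Subgroup.relIndex_top_right] at hrel
      obtain ⟨S, hS⟩ := Lib.SylowNumbers.Basic.exists_sylow_le (p := r)
        (Subgroup.centralizer ((Q : Subgroup G) : Set G))
        (fun h => by have := Nat.le_of_dvd (by have := hq.two_le; omega) (h.trans hrel); omega)
      obtain ⟨g, rfl⟩ := MulAction.exists_smul_eq G S R
      intro x hx
      rw [_root_.Sylow.coe_subgroup_smul, Subgroup.mem_pointwise_smul_iff_inv_smul_mem] at hx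
      have h2 := hS hx
      have h3 : (Subgroup.centralizer ((Q : Subgroup G) : Set G)).Normal := inferInstance
      have h4 := h3.conj_mem _ h2 g
      simpa [MulAut.smul_def, mul_assoc] using h4
    have hQN : (Q : Subgroup G) ≤ Subgroup.normalizer ((R : Subgroup G) : Set G) :=
      le_trans (Subgroup.le_centralizer_iff.mp hRC)
        (Lib.SmallGroups.Sylow.centralizer_le_normalizer _)
    have hmul := Lib.SmallGroups.Sylow.card_normalizer_mul R
    have hdvd := Subgroup.card_dvd_of_le hQN
    rw [hQc] at hdvd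
    obtain ⟨t, ht⟩ := hdvd
    rw [ht, hnr, hG] at hmul
    have : q * t * (p * q) = r * (p * q) := by rw [hmul]; ring
    have h5 := Nat.eq_of_mul_eq_mul_right (by have := hp.two_le; have := hq.two_le; positivity) this
    exact absurd ((Nat.prime_dvd_prime_iff_eq hq hr).mp ⟨t, h5.symm⟩) hqr.ne
  have hq1 : q + 1 ≤ Nat.card (Sylow q G) := by
    by_contra hlt
    rcases Nat.lt_or_eq_of_le (Nat.lt_succ_iff.mp (not_le.mp hlt)) with h | h
    · rw [Nat.mod_eq_of_lt h] at hqmod; exact hqne hqmod
    · rw [h, Nat.mod_self] at hqmod; omega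
  have : Fintype G := Fintype.ofFinite G
  have hsum : Nat.card {g : G // orderOf g = r} + Nat.card {g : G // orderOf g = q} <
      Nat.card G := by
    rw [Nat.card_eq_fintype_card, Nat.card_eq_fintype_card, Nat.card_eq_fintype_card,
      Fintype.card_subtype, Fintype.card_subtype, ← Finset.card_union_of_disjoint]
    · refine Finset.card_lt_univ_of_notMem (x := (1 : G)) ?_
      simp [hr.ne_one.symm, hq.ne_one.symm]
    · rw [Finset.disjoint_filter]
      intro g _ h1 h2
      omega
  rw [hCr, hCq, hnr, hG] at hsum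
  have h1 := Nat.mul_le_mul_right (q - 1) hq1
  obtain ⟨r', rfl⟩ := Nat.exists_eq_add_of_le hr.one_le
  obtain ⟨q', rfl⟩ := Nat.exists_eq_add_of_le hq.one_le
  simp only [Nat.add_sub_cancel_left] at hsum h1
  nlinarith

end Cfsg.Agent.S0987
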