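import Cfsg.Statements.S0988
import Cfsg.Agent.S0496
import Cfsg.Agent.Lib.Classif.OrderSieve
import Cfsg.Agent.Lib.SmallGroups.Sylow

set_option autoImplicit false
open Cfsg

namespace Cfsg.Agent.S0988

/-- In a non-abelian simple group a Sylow subgroup of prime order is not at the smallest prime. -/
theorem exists_smaller {G : Type*} [Group G] [Finite G] [IsSimpleGroup G]
    (hG : ¬ IsMulCommutative G) {q m : ℕ} [hq : Fact q.Prime] (h : Nat.card G = q ^ 1 * m)
    (hm : ¬ q ∣ m) : ∃ s, s.Prime ∧ s < q ∧ s ∣ Nat.card G := by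
  obtain ⟨P⟩ := (inferInstance : Nonempty (Sylow q G))
  have hP : Nat.card (P : Subgroup G) = q := by
    rw [Lib.SmallGroups.Sylow.card_sylow_eq P h hm, pow_one]
  obtain ⟨e, c, he, he1, -, -, hce⟩ := Lib.SmallGroups.Sylow.exists_normalizer_factor hG P hP
  obtain ⟨s, hs, hse⟩ := Nat.exists_prime_and_dvd (by omega : e ≠ 1)
  refine ⟨s, hs, ?_, ?_⟩
  · have := Nat.le_of_dvd (by have := hq.out.two_le; omega) (hse.trans he)
    have := hq.out.two_le
    omega
  · exact (hse.trans (Dvd.intro_left c hce)).trans (Subgroup.card_subgroup_dvd_card _)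

/-- A prime above `p` dividing `|Aut P|` for `|P| = p²` divides `p + 1`. -/
theorem dvd_succ_of_dvd_mulAut {P : Type*} [Group P] [Finite P] {p s : ℕ} (hp : p.Prime)
    (hs : s.Prime) (hlt : p < s) (hP : Nat.card P = p ^ 2) (hd : s ∣ Nat.card (MulAut P)) :
    s ∣ p + 1 := by
  classical
  haveI : Fact s.Prime := ⟨hs⟩
  haveI : Finite (MulAut P) := Finite.of_injective (fun f : MulAut P => (f : P → P))
    fun f g h => MulEquiv.ext (congrFun h)
  obtain ⟨f, hf⟩ := exists_prime_orderOf_dvd_card' (G := MulAut P) s hd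
  have hpg : IsPGroup s (Subgroup.zpowers f) :=
    IsPGroup.of_card (n := 1) (by rw [Nat.card_zpowers, hf, pow_one])
  have hmod := hpg.card_modEq_card_fixedPoints P
  let F : Subgroup P :=
    { carrier := MulAction.fixedPoints (Subgroup.zpowers f) P
      one_mem' := fun g => (g : MulAut P).map_one
      mul_mem' := fun {a b} ha hb g => by
        show (g : MulAut P) (a * b) = a * b
        rw [map_mul, show (g : MulAut P) a = a from ha g, show (g : MulAut P) b = b from hb g]
      inv_mem' := fun {a} ha g => by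
        show (g : MulAut P) a⁻¹ = a⁻¹
        rw [map_inv, show (g : MulAut P) a = a from ha g] }
  obtain ⟨i, hi, hF⟩ := (Nat.dvd_prime_pow hp).mp (hP ▸ Subgroup.card_subgroup_dvd_card F)
  change Nat.card P ≡ Nat.card F [MOD s] at hmod
  rw [hP, hF] at hmod
  have hp2 := hp.two_le
  interval_cases i
  · rw [pow_zero, Nat.ModEq.comm, Nat.modEq_iff_dvd' (Nat.one_le_pow _ _ hp.pos),
      show p ^ 2 - 1 = (p + 1) * (p - 1) by rw [← Nat.sq_sub_sq, one_pow]] at hmod
    rcases hs.dvd_mul.mp hmod with h | h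
    · exact h
    · have := Nat.le_of_dvd (by omega) h
      omega
  · rw [pow_one, Nat.ModEq.comm, Nat.modEq_iff_dvd' (Nat.le_self_pow two_ne_zero p),
      show p ^ 2 - p = p * (p - 1) by rw [Nat.mul_sub, mul_one, pow_two]] at hmod
    rcases hs.dvd_mul.mp hmod with h | h
    · have := Nat.le_of_dvd hp.pos h
      omega
    · have := Nat.le_of_dvd (by omega) h
      omega
  · -- `f` would be the identity
    exfalso
    have htop : F = ⊤ := Subgroup.eq_top_of_card_eq F (hF.trans hP.symm)
    have hone : f = 1 := MulEquiv.ext fun x => (show x ∈ F from htop ▸ Subgroup.mem_top x)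
      ⟨f, Subgroup.mem_zpowers f⟩
    rw [hone, orderOf_one] at hf
    exact hs.ne_one hf.symm

/-- If a finite simple group has order p^2 * q * r with p, q and r prime, then its order is 60. -/
theorem result {G : Type*} [Group G] [Finite G] [IsSimpleGroup G] (p q r : ℕ) (hp : p.Prime) (hq : q.Prime) (hr : r.Prime) (hG : Nat.card G = p ^ 2 * q * r) : Nat.card G = 60 := by
  have hnc : ¬ IsMulCommutative G := by
    refine Lib.SmallGroups.Sylow.not_comm_of_card ?_
    rw [hG, mul_assoc]
    refine Nat.not_prime_mul ?_ ?_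
    · exact (Nat.one_lt_pow two_ne_zero hp.one_lt).ne'
    · exact (one_lt_mul'' hq.one_lt hr.one_lt).ne'
  have h2p := fun (s t a b : ℕ) (hs : s.Prime) (ht : t.Prime) =>
    Lib.Classif.OrderSieve.card_ne_two_primes hnc s t a b hs ht
  have hpq : p ≠ q := fun e => h2p p r 3 1 hp hr (by rw [hG, ← e]; ring)
  have hpr : p ≠ r := fun e => h2p p q 3 1 hp hq (by rw [hG, ← e]; ring)
  have hqr : q ≠ r := fun e => h2p p q 2 2 hp hq (by rw [hG, ← e]; ring)
  have hdiv : ∀ s, s.Prime → s ∣ Nat.card G → s = p ∨ s = q ∨ s = r := by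
    intro s hs hd
    rw [hG] at hd
    rcases hs.dvd_mul.mp hd with hd | hd
    · rcases hs.dvd_mul.mp hd with hd | hd
      · exact Or.inl ((Nat.prime_dvd_prime_iff_eq hs hp).mp (hs.dvd_of_dvd_pow hd))
      · exact Or.inr (Or.inl ((Nat.prime_dvd_prime_iff_eq hs hq).mp hd))
    · exact Or.inr (Or.inr ((Nat.prime_dvd_prime_iff_eq hs hr).mp hd))
  have hnd : ∀ {a b : ℕ}, a.Prime → b.Prime → a ≠ b → ¬ a ∣ b := fun ha hb hne h =>
    hne ((Nat.prime_dvd_prime_iff_eq ha hb).mp h)
  haveI := Fact.mk hp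
  haveI := Fact.mk hq
  haveI := Fact.mk hr
  -- `p` is the smallest prime
  obtain ⟨s, hs, hsq, hsd⟩ := exists_smaller hnc (q := q) (m := p ^ 2 * r) (by rw [hG]; ring)
    fun h => (hq.dvd_mul.mp h).elim
      (fun h => hnd hq hp hpq.symm (hq.dvd_of_dvd_pow h)) (hnd hq hr hqr)
  obtain ⟨t, ht, htr, htd⟩ := exists_smaller hnc (q := r) (m := p ^ 2 * q) (by rw [hG]; ring)
    fun h => (hr.dvd_mul.mp h).elim
      (fun h => hnd hr hp hpr.symm (hr.dvd_of_dvd_pow h)) (hnd hr hq hqr.symm)
  have hsmall : p < q ∧ p < r := by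
    rcases hdiv s hs hsd with rfl | rfl | rfl <;> rcases hdiv t ht htd with rfl | rfl | rfl <;> omega
  -- the normaliser of a Sylow `p`-subgroup
  obtain ⟨P⟩ := (inferInstance : Nonempty (Sylow p G))
  have hm : ¬ p ∣ q * r := fun h => (hp.dvd_mul.mp h).elim (hnd hp hq hpq) (hnd hp hr hpr)
  have hP := Lib.SmallGroups.Sylow.card_sylow_eq P (a := 2) (by rw [hG]; ring) hm
  set C := Subgroup.centralizer ((P : Subgroup G) : Set G)
  set N := Subgroup.normalizer ((P : Subgroup G) : Set G)
  have hne : C.relIndex N ≠ 1 := fun h => by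
    refine Lib.SmallGroups.Sylow.not_normalizer_le_centralizer hnc P ?_
      (Subgroup.relIndex_eq_one.mp h)
    intro hb
    rw [hb, Subgroup.card_bot] at hP
    exact (Nat.one_lt_pow two_ne_zero hp.one_lt).ne hP
  obtain ⟨u, hu, hud⟩ := Nat.exists_prime_and_dvd hne
  haveI := Fact.mk hu
  have hCN := Lib.SmallGroups.Sylow.card_centralizer_mul_relIndex (P : Subgroup G)
  have hPC : (P : Subgroup G) ≤ C := by
    intro x hx
    rw [Subgroup.mem_centralizer_iff]
    intro y hy
    exact congrArg Subtype.val ((IsPGroup.commGroupOfCardEqPrimeSq hP).mul_comm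
      (⟨y, hy⟩ : (P : Subgroup G)) ⟨x, hx⟩)
  have hup : u ≠ p := by
    rintro rfl
    have h1 : u ^ 2 * u ∣ Nat.card N := by
      rw [← hCN]
      exact mul_dvd_mul (hP ▸ Subgroup.card_dvd_of_le hPC) hud
    have h2 := h1.trans (Subgroup.card_subgroup_dvd_card N)
    rw [hG, mul_assoc (u ^ 2)] at h2
    exact hm (Nat.dvd_of_mul_dvd_mul_left (pow_pos hu.pos 2) h2)
  have hlt : p < u := by
    rcases hdiv u hu ((hud.trans (Dvd.intro_left _ hCN)).trans
      (Subgroup.card_subgroup_dvd_card N)) with e | e | e <;> omega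
  have h := dvd_succ_of_dvd_mulAut hp hu hlt hP
    (hud.trans (Lib.SmallGroups.Sylow.relIndex_dvd_card_mulAut _))
  have hu1 : u = p + 1 := by have := Nat.le_of_dvd (by omega) h; omega
  obtain rfl : p = 2 := by
    rcases hp.eq_two_or_odd with h2 | h2
    · exact h2
    · have := hp.two_le
      rcases hu.eq_two_or_odd with h3 | h3 <;> omega
  subst hu1
  -- one of `q`, `r` is `3`; the other is at most `11`
  have key : ∀ w : ℕ, w.Prime → 3 < w → Nat.card G = 12 * w → Nat.card G = 60 := by
    intro w hw h3 hcard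
    haveI := Fact.mk hw
    have hw12 : ¬ w ∣ 12 := fun h => by
      have := Nat.le_of_dvd (by norm_num) h
      interval_cases w <;> first | omega | norm_num at *
    have h1 : Nat.card G = w ^ 1 * 12 := by rw [hcard, pow_one, mul_comm]
    have hn1 := Lib.SmallGroups.Sylow.card_sylow_ne_one h1 hw12 one_ne_zero (by norm_num)
    have hdvd := Lib.SmallGroups.Sylow.card_sylow_dvd h1 hw12
    have hmod := Lib.SmallGroups.Sylow.card_sylow_mod (G := G) (p := w)
    have hle : w ≤ 11 := by
      have := Nat.le_of_dvd (by norm_num) hdvd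
      by_contra hgt
      push Not at hgt
      rcases Nat.lt_or_ge (Nat.card (Sylow w G)) w with hl | hl
      · rw [Nat.mod_eq_of_lt hl] at hmod; exact hn1 hmod
      · have hw12' : w ≤ 12 := hl.trans this
        interval_cases w <;> interval_cases (Nat.card (Sylow _ G)) <;> norm_num at *
    have h496 := S0496.result hnc (by omega)
    omega
  rcases hdiv (2 + 1) hu ((hud.trans (Dvd.intro_left _ hCN)).trans
      (Subgroup.card_subgroup_dvd_card N)) with e | e | e
  · omega
  · subst e
    refine key r hr ?_ (by rw [hG]; ring)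
    omega
  · subst e
    refine key q hq ?_ (by rw [hG]; ring)
    omega

end Cfsg.Agent.S0988
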