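import Cfsg.Statements.S0994
import Cfsg.Agent.Lib.SmallGroups.Sylow

set_option autoImplicit false
open Cfsg

namespace Cfsg.Agent.S0994

/-- No finite simple group has order 1188 = 2^2 * 3^3 * 11. -/
theorem result {G : Type*} [Group G] [Finite G] [IsSimpleGroup G] : Nat.card G ≠ 1188 := by
  intro h
  have hG := Lib.SmallGroups.Sylow.not_comm_of_card (G := G) (by rw [h]; norm_num)
  have : Fact (Nat.Prime 11) := ⟨by norm_num⟩
  let P : Sylow 11 G := default
  have hP := Lib.SmallGroups.Sylow.card_sylow_eq P (a := 1) (m := 108) (by rw [h]; norm_num) (by norm_num)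
  rw [pow_one] at hP
  have hmem := Lib.SmallGroups.Sylow.card_sylow_mem (G := G) (p := 11) (a := 1) (m := 108)
    (by rw [h]; norm_num) (by norm_num)
  have hne := Lib.SmallGroups.Sylow.card_sylow_ne_one (G := G) (p := 11) (a := 1) (m := 108)
    (by rw [h]; norm_num) (by norm_num) one_ne_zero (by norm_num)
  have h12 : Nat.card (Sylow 11 G) = 12 := by
    rw [show (108 : ℕ).divisors.filter (fun d => d % 11 = 1) = {1, 12} by decide] at hmem
    simpa [hne] using hmem
  obtain ⟨e, c, he, he1, hc, -, hce⟩ :=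
    Lib.SmallGroups.Sylow.exists_normalizer_factor hG P hP
  have hN := Lib.SmallGroups.Sylow.card_normalizer_mul P
  rw [h12, h, ← hce] at hN
  have hd : e ∣ 99 := ⟨c, by linarith⟩
  have h1 : e ∣ 1 := (Nat.dvd_gcd (show e ∣ 10 from he) hd).trans (by norm_num)
  have := Nat.le_of_dvd one_pos h1
  omega

end Cfsg.Agent.S0994
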