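import Cfsg.Statements.S0995
import Cfsg.Agent.Lib.SmallGroups.Counting

set_option autoImplicit false
open Cfsg

namespace Cfsg.Agent.S0995

/-- Let G be a finite perfect group containing an element z of prime order p whose centralizer is the cyclic group it generates. Let t be the number of conjugacy classes of elements of order p. Then t divides p - 1, the number of Sylow p-subgroups has the form 1 + n * p, and |G| * t = (p - 1) * p * (1 + n * p). -/
theorem result {G : Type*} [Group G] [Finite G] (hperf : commutator G = ⊤) (p : ℕ) [Fact p.Prime] (z : G) (hz : orderOf z = p) (hC : Subgroup.centralizer ({z} : Set G) = Subgroup.zpowers z) : ∃ n t : ℕ, t = Nat.card {c : ConjClasses G // ∃ g : G, ConjClasses.mk g = c ∧ orderOf g = p} ∧ t ∣ p - 1 ∧ Nat.card (Sylow p G) = 1 + n * p ∧ Nat.card G * t = (p - 1) * p * (1 + n * p) := by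
  classical
  have hp := (Fact.out : p.Prime)
  -- the Sylow `p`-subgroups have order `p`
  obtain ⟨P₀, hP₀⟩ := (IsPGroup.of_card (n := 1)
    (by rw [Nat.card_zpowers, hz, pow_one]) : IsPGroup p ↥(Subgroup.zpowers z)).exists_le_sylow
  have hz1 : z ≠ 1 := fun h => hp.ne_one (by rw [← hz, h, orderOf_one])
  have hP₀c : Nat.card ↥(P₀ : Subgroup G) = p := by
    have hnt : Nontrivial ↥(P₀ : Subgroup G) :=
      ⟨⟨z, hP₀ (Subgroup.mem_zpowers z)⟩, 1, fun h => hz1 (congrArg Subtype.val h)⟩
    have := P₀.2.center_nontrivial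
    obtain ⟨⟨⟨c, hcP⟩, hc⟩, hc1⟩ := exists_ne (1 : Subgroup.center ↥(P₀ : Subgroup G))
    have hcomm : ∀ x ∈ (P₀ : Subgroup G), x * c = c * x := fun x hx =>
      congrArg Subtype.val (Subgroup.mem_center_iff.mp hc ⟨x, hx⟩)
    have hcz : c ∈ Subgroup.zpowers z := by
      rw [← hC, Subgroup.mem_centralizer_singleton_iff]
      exact (hcomm z (hP₀ (Subgroup.mem_zpowers z))).symm
    have hne : c ≠ 1 := fun h => hc1 (Subtype.ext (Subtype.ext h))
    have hzc : Subgroup.zpowers c = Subgroup.zpowers z := by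
      refine Subgroup.eq_of_le_of_card_ge (Subgroup.zpowers_le.mpr hcz) ?_
      have hd := Subgroup.card_dvd_of_le (Subgroup.zpowers_le.mpr hcz)
      rw [Nat.card_zpowers, Nat.card_zpowers, hz] at hd
      rw [Nat.card_zpowers, Nat.card_zpowers, hz,
        (hp.eq_one_or_self_of_dvd _ hd).resolve_left (fun h => hne (orderOf_eq_one_iff.mp h))]
    have hle : (P₀ : Subgroup G) ≤ Subgroup.zpowers z := by
      intro x hx
      rw [← hC, Subgroup.mem_centralizer_singleton_iff]
      obtain ⟨k, hk⟩ := Subgroup.mem_zpowers_iff.mp (hzc ▸ Subgroup.mem_zpowers z)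
      rw [← hk]
      exact (Commute.zpow_right (hcomm x hx) k)
    rw [le_antisymm hle hP₀, Nat.card_zpowers, hz]
  have hP : ∀ P : Sylow p G, Nat.card ↥(P : Subgroup G) = p := fun P => by
    rw [P.card_eq_multiplicity, ← P₀.card_eq_multiplicity, hP₀c]
  -- centralizers of elements of order `p` have order `p`
  have hcent : ∀ y : G, orderOf y = p →
      Nat.card ↥(Subgroup.centralizer ({y} : Set G)) = p := by
    intro y hy
    obtain ⟨R, hR⟩ := (IsPGroup.of_card (n := 1)
      (by rw [Nat.card_zpowers, hy, pow_one]) : IsPGroup p ↥(Subgroup.zpowers y)).exists_le_sylow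
    obtain ⟨g, rfl⟩ := MulAction.exists_smul_eq G P₀ R
    have hmem := hR (Subgroup.mem_zpowers y)
    rw [_root_.Sylow.coe_subgroup_smul, Subgroup.mem_pointwise_smul_iff_inv_smul_mem] at hmem
    have heq : (P₀ : Subgroup G) = Subgroup.zpowers z :=
      (Subgroup.eq_of_le_of_card_ge hP₀ (by rw [hP₀c, Nat.card_zpowers, hz])).symm
    rw [heq] at hmem
    have hy' : ((MulAut.conj g)⁻¹ • y : G) = g⁻¹ * y * g := by simp [MulAut.smul_def]
    rw [hy'] at hmem
    have hz' : z ∈ Subgroup.zpowers (g⁻¹ * y * g) := by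
      have h2 : orderOf (g⁻¹ * y * g) = p := by
        rw [← hy]
        simpa using (MulAut.conj g⁻¹).orderOf_eq y
      have h3 := Subgroup.eq_of_le_of_card_ge (Subgroup.zpowers_le.mpr hmem)
        (by rw [Nat.card_zpowers, Nat.card_zpowers, h2, hz])
      rw [h3]
      exact Subgroup.mem_zpowers z
    have h4 : Subgroup.centralizer ({y} : Set G) ≤
        (Subgroup.zpowers z).map (MulAut.conj g).toMonoidHom := by
      intro c hc
      rw [Subgroup.mem_centralizer_singleton_iff] at hc
      refine ⟨g⁻¹ * c * g, ?_, by simp [mul_assoc]⟩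
      rw [SetLike.mem_coe, ← hC, Subgroup.mem_centralizer_singleton_iff]
      obtain ⟨k, hk⟩ := Subgroup.mem_zpowers_iff.mp hz'
      rw [← hk]
      refine Commute.zpow_right ?_ k
      show g⁻¹ * c * g * (g⁻¹ * y * g) = g⁻¹ * y * g * (g⁻¹ * c * g)
      calc g⁻¹ * c * g * (g⁻¹ * y * g) = g⁻¹ * (c * y) * g := by group
        _ = g⁻¹ * (y * c) * g := by rw [hc]
        _ = g⁻¹ * y * g * (g⁻¹ * c * g) := by group
    apply le_antisymm
    · refine le_trans (Nat.le_of_dvd Nat.card_pos (Subgroup.card_dvd_of_le h4)) ?_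
      rw [← Nat.card_congr ((Subgroup.zpowers z).equivMapOfInjective _
        (MulAut.conj g).injective).toEquiv, Nat.card_zpowers, hz]
    · rw [← hy, ← Nat.card_zpowers]
      refine Nat.le_of_dvd Nat.card_pos (Subgroup.card_dvd_of_le (Subgroup.zpowers_le.mpr ?_))
      exact Subgroup.mem_centralizer_singleton_iff.mpr rfl
  -- count classes
  let T := {c : ConjClasses G // ∃ g : G, ConjClasses.mk g = c ∧ orderOf g = p}
  let f : {g : G // orderOf g = p} → T := fun g => ⟨ConjClasses.mk g.1, g.1, rfl, g.2⟩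
  have hfib : ∀ c : T, Nat.card {g : {g : G // orderOf g = p} // f g = c} * p = Nat.card G := by
    rintro ⟨c, g, rfl, hg⟩
    have e : {a : {g : G // orderOf g = p} // f a = ⟨ConjClasses.mk g, g, rfl, hg⟩} ≃
        {y : G // IsConj g y} :=
      { toFun := fun a => ⟨a.1.1, (ConjClasses.mk_eq_mk_iff_isConj.mp
          (congrArg Subtype.val a.2)).symm⟩
        invFun := fun y => ⟨⟨y.1, by
            obtain ⟨k, hk⟩ := isConj_iff.mp y.2
            rw [← hk, ← hg]
            exact (MulAut.conj k).orderOf_eq g⟩,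
          Subtype.ext (ConjClasses.mk_eq_mk_iff_isConj.mpr y.2.symm)⟩
        left_inv := fun a => rfl
        right_inv := fun y => rfl }
    rw [Nat.card_congr e]
    conv_lhs => arg 2; rw [← hcent g hg]
    exact Lib.SmallGroups.Counting.card_isConj_mul g
  have hcount : Nat.card T * Nat.card G = Nat.card (Sylow p G) * (p - 1) * p := by
    have : Fintype T := Fintype.ofFinite T
    rw [← Lib.SmallGroups.Counting.card_orderOf_eq_prime hP,
      ← Nat.card_congr (Equiv.sigmaFiberEquiv f), Nat.card_sigma, Finset.sum_mul,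
      Finset.sum_congr rfl (fun c _ => hfib c), Finset.sum_const, Finset.card_univ,
      Nat.card_eq_fintype_card (α := T), smul_eq_mul]
  have hmod := Lib.SmallGroups.Sylow.card_sylow_mod (G := G) (p := p)
  refine ⟨Nat.card (Sylow p G) / p, Nat.card T, rfl, ?_, ?_, ?_⟩
  · -- `t ∣ p - 1`
    have hN := Lib.SmallGroups.Sylow.card_normalizer_mul P₀
    rw [← hN] at hcount
    have hdvd : p ∣ Nat.card ↥(Subgroup.normalizer ((P₀ : Subgroup G) : Set G)) := by
      have := Subgroup.card_dvd_of_le (Subgroup.le_normalizer (H := (P₀ : Subgroup G)))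
      rwa [hP₀c] at this
    obtain ⟨e, he⟩ := hdvd
    rw [he] at hcount
    refine ⟨e, ?_⟩
    refine Nat.eq_of_mul_eq_mul_right (Nat.mul_pos (Nat.card_pos (α := Sylow p G)) hp.pos) ?_
    linarith
  · rw [← Nat.mod_add_div (Nat.card (Sylow p G)) p, hmod, Nat.add_mul_div_left _ _ hp.pos,
      Nat.div_eq_of_lt hp.one_lt]
    ring
  · have h2 : 1 + Nat.card (Sylow p G) / p * p = Nat.card (Sylow p G) := by
      have := Nat.mod_add_div (Nat.card (Sylow p G)) p
      rw [hmod] at this
      linarith
    rw [h2]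
    linarith

end Cfsg.Agent.S0995
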