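import Cfsg.Statements.S0998
import Cfsg.Agent.S0997
import Cfsg.Agent.Lib.Linear.Order
import Cfsg.Agent.Lib.SmallGroups.RecogSmall

set_option autoImplicit false
open Cfsg

namespace Cfsg.Agent.S0998

/-- An odd prime `r` and an odd number `k` with `2 ^ (m + 1) * k = 2 * r * q ^ b`. -/
theorem eq_of_two_pow_mul {m k r q b : ℕ} (hm : 2 ≤ m) (hk : Odd k) (hr : r.Prime) (hq : q.Prime)
    (hqr : q ≠ r) (h : 2 ^ m * k = r * q ^ b) : k = r ∧ q = 2 := by
  have hq2 : q = 2 := by
    by_contra hne
    have h4 : 4 ∣ r * q ^ b := h ▸ dvd_mul_of_dvd_left (by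
      exact (show 4 = 2 ^ 2 by norm_num) ▸ Nat.pow_dvd_pow 2 hm) k
    have hc : Nat.Coprime 4 (q ^ b) :=
      (show 4 = 2 ^ 2 by norm_num) ▸ Nat.Coprime.pow 2 b
        ((Nat.coprime_primes Nat.prime_two hq).mpr (Ne.symm hne))
    have := hc.dvd_of_dvd_mul_right h4
    have hr4 := (Nat.dvd_prime hr).mp this
    rcases hr4 with h1 | h1
    · omega
    · rw [← h1] at hr; norm_num at hr
  subst hq2
  refine ⟨Nat.dvd_antisymm ?_ ?_, rfl⟩
  · exact ((Nat.coprime_two_right.mpr hk).pow_right b).dvd_of_dvd_mul_right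
      (h ▸ dvd_mul_left k (2 ^ m))
  · exact (((Nat.coprime_primes hr Nat.prime_two).mpr hqr.symm).pow_right m).dvd_of_dvd_mul_left
      (h ▸ dvd_mul_right r (2 ^ b))

theorem three_dvd_prod {p : ℕ} (hp : p.Prime) (h3 : 3 < p) : 3 ∣ (p - 1) * (p + 1) := by
  have h : p % 3 = 1 ∨ p % 3 = 2 := by
    have : ¬ 3 ∣ p := fun h => by
      have := (Nat.prime_dvd_prime_iff_eq Nat.prime_three hp).mp h
      omega
    omega
  rcases h with h | h
  · exact dvd_mul_of_dvd_left (by omega) _
  · exact dvd_mul_of_dvd_right (by omega) _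

/-- A non-cyclic finite simple group whose order has the form p * r * q^b for distinct primes p, q, r is isomorphic to the projective special linear group of dimension 2 over the field with 5 or with 7 elements. -/
theorem result {G : Type*} [Group G] [Finite G] [IsSimpleGroup G] (hG : ¬ IsCyclic G) (p q r b : ℕ) (hp : p.Prime) (hq : q.Prime) (hr : r.Prime) (hpq : p ≠ q) (hpr : p ≠ r) (hqr : q ≠ r) (hG' : Nat.card G = p * r * q ^ b) : (∃ (F : Type) (_ : Field F) (_ : Fintype F), Fintype.card F = 5 ∧ Nonempty (G ≃* Matrix.ProjectiveSpecialLinearGroup (Fin 2) F)) ∨ (∃ (F : Type) (_ : Field F) (_ : Fintype F), Fintype.card F = 7 ∧ Nonempty (G ≃* Matrix.ProjectiveSpecialLinearGroup (Fin 2) F)) := by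
  wlog hrp : r < p generalizing p r
  · exact this r p hr hp hqr.symm hpr.symm hpq.symm (by rw [hG']; ring)
      (lt_of_le_of_ne (not_lt.mp hrp) hpr)
  have hnc := Lib.FirstPower.Large.not_comm hG
  by_cases hr1 : r < p - 1
  swap
  · -- the primes 2 and 3
    exfalso
    have hr2 : r = 2 := by
      by_contra hne
      have h1 := hr.odd_of_ne_two hne
      have h2 := hp.odd_of_ne_two (by have := hr.two_le; omega)
      rw [Nat.odd_iff] at h1 h2
      omega
    subst hr2
    have hp3 : p = 3 := by omega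
    subst hp3
    have := Fact.mk Nat.prime_two
    obtain ⟨T⟩ : Nonempty (Sylow 2 G) := inferInstance
    have hT : Nat.card (T : Subgroup G) = 2 := by
      rw [T.card_eq_multiplicity, hG', Nat.factorization_mul (by norm_num)
        (pow_ne_zero _ hq.ne_zero), Nat.factorization_mul (by norm_num) (by norm_num),
        Nat.factorization_pow]
      simp only [Finsupp.add_apply, Finsupp.smul_apply, smul_eq_mul,
        Nat.prime_two.factorization_self,
        Nat.factorization_eq_zero_of_not_dvd (n := 3) (p := 2) (by norm_num),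
        Nat.factorization_eq_zero_of_not_dvd (n := q) (p := 2) (fun h => hqr
          ((Nat.prime_dvd_prime_iff_eq Nat.prime_two hq).mp h).symm)]
      simp
    exact Lib.FirstPower.SmallDegree.not_isCyclic_sylow_two hnc T
      (fun h => by rw [h, Subgroup.card_bot] at hT; omega) (isCyclic_of_prime_card hT)
  rcases S0997.result hG p q b r hp hq hpq (by rw [hG']; ring) hr1 with
    ⟨m, F, i, j, hF, hm, ⟨φ⟩⟩ | ⟨m, F, i, j, hF, hm, hp3, ⟨φ⟩⟩
  · have hp2 : p ≠ 2 := by rintro rfl; have := hr.two_le; omega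
    have hodd := hp.odd_of_ne_two hp2
    have hcard := Lib.Linear.two_mul_card_PSL_two_of_odd (F := F) (hF ▸ hodd)
    rw [← Nat.card_congr φ.toEquiv, hG', hF, show 2 * (p * r * q ^ b) = p * (2 * (r * q ^ b)) by ring,
      mul_assoc p (p - 1) (p + 1)] at hcard
    have hcard' := Nat.eq_of_mul_eq_mul_left hp.pos hcard
    have hp3 : 3 < p := by
      have := hr.two_le
      omega
    have hm2 : 2 ≤ m := by
      by_contra hlt
      interval_cases m <;> simp at hm <;> omega
    have h3 := three_dvd_prod hp hp3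
    obtain ⟨m', rfl⟩ : ∃ m', m = m' + 1 := ⟨m - 1, by omega⟩
    have hpow : 2 ^ (m' + 1) = 2 * 2 ^ m' := pow_succ' 2 m'
    have hev : Even (2 ^ m') := (Nat.even_pow).mpr ⟨even_two, by omega⟩
    rw [← hcard'] at h3
    rcases hm with hm | hm
    · obtain ⟨hk, rfl⟩ := eq_of_two_pow_mul (m := m' + 1) (k := 2 ^ m' + 1) hm2
        hev.add_one hr hq hqr (Nat.eq_of_mul_eq_mul_left two_pos (by
          rw [hcard', hm, Nat.add_sub_cancel, hpow]; ring))
      left
      have hr3 : r = 3 := by
        have hc : Nat.Coprime 3 (2 * 2 ^ b) := by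
          rw [← pow_succ']; exact Nat.Coprime.pow_right _ (by norm_num)
        rw [show 2 * (r * 2 ^ b) = r * (2 * 2 ^ b) by ring] at h3
        exact ((Nat.prime_dvd_prime_iff_eq Nat.prime_three hr).mp
          (hc.dvd_of_dvd_mul_right h3)).symm
      exact ⟨F, i, j, by omega, ⟨φ⟩⟩
    · obtain ⟨hk, rfl⟩ := eq_of_two_pow_mul (m := m' + 1) (k := 2 ^ m' - 1) hm2
        (Nat.Even.sub_odd (Nat.one_le_two_pow) hev odd_one) hr hq hqr
        (Nat.eq_of_mul_eq_mul_left two_pos (by
          rw [hcard', show p + 1 = 2 ^ (m' + 1) by omega,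
            show p - 1 = 2 * (2 ^ m' - 1) by omega]; ring))
      right
      have hr3 : r = 3 := by
        have hc : Nat.Coprime 3 (2 * 2 ^ b) := by
          rw [← pow_succ']; exact Nat.Coprime.pow_right _ (by norm_num)
        rw [show 2 * (r * 2 ^ b) = r * (2 * 2 ^ b) by ring] at h3
        exact ((Nat.prime_dvd_prime_iff_eq Nat.prime_three hr).mp
          (hc.dvd_of_dvd_mul_right h3)).symm
      exact ⟨F, i, j, by omega, ⟨φ⟩⟩
  · have hm2 : 2 ≤ m := by
      by_contra hlt
      interval_cases m <;> simp at hm <;> omega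
    have hev : Even (2 ^ m) := (Nat.even_pow).mpr ⟨even_two, by omega⟩
    have hcard := Lib.Linear.card_PSL_two_of_even (F := F) (hF ▸ hev)
    rw [← Nat.card_congr φ.toEquiv, hG', hF, ← hm, mul_assoc p r (q ^ b), mul_comm _ p] at hcard
    have hcard' := Nat.eq_of_mul_eq_mul_left hp.pos hcard
    obtain ⟨hk, rfl⟩ := eq_of_two_pow_mul (k := 2 ^ m - 1) hm2
      (Nat.Even.sub_odd (Nat.one_le_two_pow) hev odd_one) hr hq hqr hcard'.symm
    have h3 := three_dvd_prod hp hp3
    have hr3 : r = 3 := by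
      rw [show p - 1 = 2 ^ m by omega, show p + 1 = 2 * (2 ^ (m - 1) + 1) by
        rw [mul_add, ← pow_succ', show m - 1 + 1 = m by omega, hm]] at h3
      by_contra hne
      have hdvd : 3 ∣ 2 ^ (m - 1) + 1 := (Nat.Coprime.pow_right m (show Nat.Coprime 3 2 by
        norm_num)).dvd_of_dvd_mul_left h3 |> fun h => (show Nat.Coprime 3 2 by
          norm_num).dvd_of_dvd_mul_left h
      have hpp : p = 2 * 2 ^ (m - 1) + 1 := by
        rw [← pow_succ', show m - 1 + 1 = m by omega, hm]
      have hr3' : 3 ∣ r := by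
        rw [← hk, show 2 ^ m - 1 = 2 * 2 ^ (m - 1) - 1 by
          rw [← pow_succ', show m - 1 + 1 = m by omega]]
        obtain ⟨k, hk'⟩ := hdvd
        exact ⟨2 * k - 1, by omega⟩
      exact hne ((Nat.prime_dvd_prime_iff_eq Nat.prime_three hr).mp hr3').symm
    left
    have hp5 : p = 5 := by omega
    have h60 : Nat.card G = 60 := by
      have hb2 : 2 ^ b = 4 := by
        rw [hr3, show 2 ^ m = 4 by omega] at hcard'
        omega
      rw [hG', hp5, hr3, hb2]
    have : Fact (Nat.Prime 5) := ⟨by norm_num⟩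
    exact ⟨ZMod 5, ZMod.instField 5, inferInstance, ZMod.card 5,
      Lib.SmallGroups.RecogSmall.psl_five h60 (ZMod.card 5)⟩

end Cfsg.Agent.S0998
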