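import Cfsg.Statements.S1002

import Cfsg.Agent.Lib.Classif.SmallOrderKills4

set_option autoImplicit false
open Cfsg

namespace Cfsg.Agent.S1002

open Lib.SmallGroups Lib.Classif.SmallOrderKills3 Lib.Classif.PrimeExceptional

theorem signed_eq (c : ℤ) (h : (409 : ℤ) ∣ c - 1) (h2 : 2 ≤ c.natAbs) (hd : c.natAbs ∣ 1004913)
    (hlo : -1002 ≤ c) (hhi : c ≤ 1002) : c = 819 := by
  obtain ⟨k, hk⟩ := h
  have : -3 ≤ k ∧ k ≤ 2 := by omega
  obtain ⟨k1, k2⟩ := this
  obtain rfl : c = 409 * k + 1 := by linarith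
  interval_cases k <;> norm_num at *

/-- No finite simple group has order 1004913 = 3^3 * 7 * 13 * 409. -/
theorem result {G : Type*} [Group G] [Finite G] [IsSimpleGroup G] : Nat.card G ≠ 1004913 := by
  intro h
  classical
  haveI : Fintype G := Fintype.ofFinite G
  have hG := not_comm h (by norm_num)
  haveI : Fact (Nat.Prime 409) := ⟨by norm_num⟩
  obtain ⟨hn, hall⟩ := prime_data hG (p := 409) h (m := 2457) rfl (by norm_num) (by norm_num)
  obtain ⟨P⟩ := (inferInstance : Nonempty (Sylow 409 G))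
  obtain ⟨hP, e, c, he, he1, ⟨k, rfl⟩, hC, hN, hce⟩ := hall P
  rw [show Lib.Classif.OrderSieve.adm 1004913 409 1 2457 = [819] by decide +kernel,
    List.mem_singleton] at hn
  rw [hn] at hce
  have hk : k * e = 3 := by nlinarith
  have : k = 1 ∧ e = 3 := by
    have := Nat.le_of_dvd three_pos ⟨e, hk.symm⟩
    interval_cases k <;> omega
  obtain ⟨rfl, rfl⟩ := this
  have hC' := Lib.Classif.SmallOrderKills4.centralizer_eq P hP hC
  have hN' : Nat.card (Subgroup.normalizer ((P : Subgroup G) : Set G)) = 3 * 409 := by omega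
  obtain ⟨Fm⟩ := exists_family P hP hC' hN' (Or.inr rfl) (by norm_num) (Or.inr (by norm_num))
  obtain ⟨a, b, hab, hK⟩ := Finset.card_eq_two.mp (show Fm.K.card = 2 by
    have := Fm.card_K; omega)
  have hperf := Sylow.commutator_eq_top hG
  have key : ∀ χ ∈ Fm.K, 2 ≤ (Fm.σ χ * deg χ).natAbs ∧ (Fm.σ χ * deg χ).natAbs ∣ 1004913 ∧
      (Fm.σ χ * deg χ) ^ 2 = deg χ ^ 2 := by
    intro χ hχ
    have h2 := two_le_deg hperf χ (fun e => Fm.one_not_mem (e ▸ hχ))
    rcases Fm.σ_unit χ hχ with hs | hs <;> rw [hs] <;>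
      refine ⟨by simp; omega, ?_, by ring⟩ <;>
      (rw [show ((_ : ℤ) * deg χ).natAbs = (deg χ).natAbs by simp, natAbs_deg, ← h]
       exact Lib.H80.ClassMult.charDegree_dvd_card χ)
  have haK : a ∈ Fm.K := by rw [hK]; simp
  have hbK : b ∈ Fm.K := by rw [hK]; simp
  obtain ⟨ha2, had, hasq⟩ := key a haK
  obtain ⟨hb2, hbd, hbsq⟩ := key b hbK
  have hca := Fm.cong_K a haK
  have hcb := Fm.cong_K b hbK
  have hsq := Fm.square_sum
  rw [hK, Finset.sum_pair hab, h, ← hasq, ← hbsq] at hsq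
  have hnn : (0 : ℤ) ≤ ∑ᶠ r, deg (Fm.θ r) ^ 2 := finsum_nonneg fun r => sq_nonneg _
  generalize Fm.σ a * deg a = x at *
  generalize Fm.σ b * deg b = y at *
  norm_num at hca hcb hsq
  have hx := signed_eq x hca ha2 had (by nlinarith) (by nlinarith)
  have hy := signed_eq y hcb hb2 hbd (by nlinarith) (by nlinarith)
  subst hx hy
  norm_num at hsq
  linarith

end Cfsg.Agent.S1002
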