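import Cfsg.Statements.S1006
import Cfsg.Agent.Lib.SmallGroups.Order168

set_option autoImplicit false
open Cfsg

namespace Cfsg.Agent.S1006

open Lib.SmallGroups.Order168 in
theorem class_seven {G : Type*} [Group G] [Finite G] [IsSimpleGroup G] (h : Nat.card G = 168)
    {x : G} (hx : orderOf x = 7) :
    Nat.card {g : G // IsConj x g} = 24 ∧ ¬ IsConj x x⁻¹ := by
  have : Fact (Nat.Prime 7) := ⟨by norm_num⟩
  have hc := Lib.SmallGroups.Counting.card_isConj_mul x
  have hC : Nat.card ↥(Subgroup.centralizer ({x} : Set G)) = 7 := by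
    rcases order_cases h x with e | e | e
    · omega
    · exact e.2
    · rw [hx] at e; norm_num at e
  rw [hC, h] at hc
  refine ⟨by omega, fun hinv => ?_⟩
  obtain ⟨g, hg⟩ := isConj_iff.mp hinv
  obtain ⟨Q, hQ⟩ := (IsPGroup.of_card (n := 1)
    (by rw [Nat.card_zpowers, hx, pow_one]) : IsPGroup 7 ↥(Subgroup.zpowers x)).exists_le_sylow
  have heq : Subgroup.zpowers x = (Q : Subgroup G) := Subgroup.eq_of_le_of_card_ge hQ
    (by rw [card_of_sylow7 h, Nat.card_zpowers, hx])
  have hmem : g ∈ Subgroup.normalizer ((Q : Subgroup G) : Set G) := by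
    rw [← heq, Subgroup.mem_normalizer_iff]
    have hx' : ∀ k : ℤ, g * x ^ k * g⁻¹ = x ^ (-k) := fun k => by
      rw [← conj_zpow, hg, inv_zpow, ← zpow_neg]
    intro v
    constructor
    · intro hv
      obtain ⟨k, rfl⟩ := Subgroup.mem_zpowers_iff.mp hv
      exact ⟨-k, (hx' k).symm⟩
    · intro hv
      obtain ⟨k, hk⟩ := Subgroup.mem_zpowers_iff.mp hv
      refine Subgroup.mem_zpowers_iff.mpr ⟨-k, ?_⟩
      have h2 := hx' (-k)
      rw [neg_neg, hk] at h2
      exact mul_left_cancel (mul_right_cancel h2)
  have h21 : g ^ 21 = 1 := by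
    have := pow_card_eq_one' (x := (⟨g, hmem⟩ : ↥(Subgroup.normalizer ((Q : Subgroup G) : Set G))))
    rw [card_normalizer7 h] at this
    exact congrArg Subtype.val this
  have hcomm : Commute (g ^ 2) x := by
    show g ^ 2 * x = x * g ^ 2
    have h1 : g * x = x⁻¹ * g := by rw [← hg]; group
    have h2 : g * x⁻¹ = x * g := by
      calc g * x⁻¹ = (g * x * g⁻¹)⁻¹ * g := by group
        _ = x * g := by rw [hg, inv_inv]
    calc g ^ 2 * x = g * (g * x) := by rw [pow_two, mul_assoc]
      _ = g * x⁻¹ * g := by rw [h1, mul_assoc]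
      _ = x * g ^ 2 := by rw [h2, pow_two, mul_assoc]
  have hgx : Commute g x := by
    have := hcomm.pow_left 11
    rw [← pow_mul, show 2 * 11 = 21 + 1 by norm_num, pow_add, h21, one_mul, pow_one] at this
    exact this
  have hxx : x = x⁻¹ := by
    rw [hgx.eq, mul_inv_cancel_right] at hg
    exact hg
  have h2 : x ^ 2 = 1 := by rw [pow_two]; nth_rewrite 1 [hxx]; exact inv_mul_cancel x
  have h3 := orderOf_dvd_of_pow_eq_one h2
  rw [hx] at h3
  norm_num at h3

theorem conj_three {G : Type*} [Group G] [Finite G] [IsSimpleGroup G] (h : Nat.card G = 168)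
    (s t : G) (hs : orderOf s = 3) (ht : orderOf t = 3) : IsConj s t := by
  classical
  have := Fintype.ofFinite G
  have hc := Lib.SmallGroups.Counting.card_isConj_mul s
  have hC : Nat.card ↥(Subgroup.centralizer ({s} : Set G)) = 3 := by
    rcases Lib.SmallGroups.Order168.order_cases h s with e | e | e
    · exact e.2
    · omega
    · rw [hs] at e; norm_num at e
  rw [hC, h, Nat.card_eq_fintype_card, Fintype.card_subtype] at hc
  have h56 := Lib.SmallGroups.Order168.card_order3 h
  rw [Nat.card_eq_fintype_card, Fintype.card_subtype] at h56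
  have hsub : Finset.univ.filter (fun g => IsConj s g) ⊆
      Finset.univ.filter (fun g : G => orderOf g = 3) := by
    intro g hg
    simp only [Finset.mem_filter, Finset.mem_univ, true_and] at hg ⊢
    obtain ⟨k, rfl⟩ := isConj_iff.mp hg
    exact ((MulAut.conj k).orderOf_eq s).trans hs
  have heq := Finset.eq_of_subset_of_card_le hsub (by omega)
  have hmem : t ∈ Finset.univ.filter (fun g => IsConj s g) := by rw [heq]; simpa using ht
  simpa using hmem


/-- In a simple group of order 168 there are 56 elements of order 3, all conjugate; 42 elements of order 4, all conjugate; and 48 elements of order 7 falling into two conjugacy classes of size 24, an element of order 7 not being conjugate to its inverse. -/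
theorem result {G : Type*} [Group G] [Finite G] [IsSimpleGroup G] (h : Nat.card G = 168) : Nat.card {g : G // orderOf g = 3} = 56 ∧ (∀ s t : G, orderOf s = 3 → orderOf t = 3 → IsConj s t) ∧ Nat.card {g : G // orderOf g = 4} = 42 ∧ (∀ s t : G, orderOf s = 4 → orderOf t = 4 → IsConj s t) ∧ Nat.card {g : G // orderOf g = 7} = 48 ∧ ∀ x : G, orderOf x = 7 → Nat.card {g : G // IsConj x g} = 24 ∧ ¬ IsConj x x⁻¹ := by
  obtain ⟨-, h4, -, h4c⟩ := Lib.SmallGroups.Order168.two_classes h
  exact ⟨Lib.SmallGroups.Order168.card_order3 h, conj_three h, h4, h4c,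
    Lib.SmallGroups.Order168.card_order7 h, fun x hx => class_seven h hx⟩

end Cfsg.Agent.S1006
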