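import Cfsg.Statements.S1008
import Cfsg.Agent.Lib.SmallGroups.Order168Four

set_option autoImplicit false
open Cfsg

namespace Cfsg.Agent.S1008

/-- In a simple group of order 168 every maximal subgroup is either isomorphic to the symmetric group of degree 4 or non-abelian of order 21; the maximal subgroups of order 21 form one conjugacy class and those isomorphic to the symmetric group of degree 4 form exactly two conjugacy classes. -/
theorem result {G : Type*} [Group G] [Finite G] [IsSimpleGroup G] (h : Nat.card G = 168) : (∀ M : Subgroup G, IsCoatom M → Nonempty (↥M ≃* Equiv.Perm (Fin 4)) ∨ (Nat.card ↥M = 21 ∧ ¬ IsMulCommutative ↥M)) ∧ (∀ M M' : Subgroup G, IsCoatom M → IsCoatom M' → Nat.card ↥M = 21 → Nat.card ↥M' = 21 → ∃ g : G, M' = M.map (MulAut.conj g).toMonoidHom) ∧ ∃ M₁ M₂ : Subgroup G, IsCoatom M₁ ∧ IsCoatom M₂ ∧ Nonempty (↥M₁ ≃* Equiv.Perm (Fin 4)) ∧ Nonempty (↥M₂ ≃* Equiv.Perm (Fin 4)) ∧ (∀ g : G, M₂ ≠ M₁.map (MulAut.conj g).toMonoidHom) ∧ ∀ M : Subgroup G, IsCoatom M → Nonempty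 (↥M ≃* Equiv.Perm (Fin 4)) → ∃ g : G, M = M₁.map (MulAut.conj g).toMonoidHom ∨ M = M₂.map (MulAut.conj g).toMonoidHom := by
  have : Fact (Nat.Prime 2) := ⟨by norm_num⟩
  have : Fact (Nat.Prime 7) := ⟨by norm_num⟩
  have h24 : ∀ M : Subgroup G, Nonempty (↥M ≃* Equiv.Perm (Fin 4)) → Nat.card ↥M = 24 := by
    rintro M ⟨e⟩
    rw [Nat.card_congr e.toEquiv, Nat.card_perm, Nat.card_fin]
    rfl
  refine ⟨fun M hM => ?_, fun M M' hM hM' h1 h2 => ?_, ?_⟩
  · rcases Lib.SmallGroups.Order168Four.maximal_cases h hM with ⟨U, hU, rfl⟩ | ⟨Q, rfl⟩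
    · exact Or.inl (Lib.SmallGroups.Order168Four.normalizer_four_iso h hU)
    · refine Or.inr ⟨Lib.SmallGroups.Order168.card_normalizer7 h Q, fun hc => ?_⟩
      have hle : Subgroup.normalizer ((Q : Subgroup G) : Set G) ≤
          Subgroup.centralizer ((Q : Subgroup G) : Set G) := fun x hx y hy =>
        congrArg Subtype.val (hc.is_comm.comm
          (⟨y, Subgroup.le_normalizer hy⟩ : ↥(Subgroup.normalizer ((Q : Subgroup G) : Set G)))
          ⟨x, hx⟩)
      have := Subgroup.card_le_of_le hle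
      rw [Lib.SmallGroups.Order168.card_normalizer7 h Q,
        Lib.SmallGroups.Order168.card_centralizer7 h Q] at this
      omega
  · have key : ∀ M : Subgroup G, IsCoatom M → Nat.card ↥M = 21 →
        ∃ Q : Sylow 7 G, M = Subgroup.normalizer ((Q : Subgroup G) : Set G) := by
      intro M hM hc
      rcases Lib.SmallGroups.Order168Four.maximal_cases h hM with ⟨U, hU, rfl⟩ | hQ
      · rw [Lib.SmallGroups.Order168Four.card_normalizer_four h hU] at hc; omega
      · exact hQ
    obtain ⟨Q, rfl⟩ := key M hM h1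
    obtain ⟨Q', rfl⟩ := key M' hM' h2
    obtain ⟨g, hg⟩ := MulAction.exists_smul_eq G Q Q'
    refine ⟨g, ?_⟩
    rw [← hg, ← Lib.SmallGroups.Order168Four.normalizer_map_conj]
    rfl
  · let T : Sylow 2 G := default
    obtain ⟨⟨U₁, hU₁T, hU₁⟩, ⟨U₂, hU₂T, hU₂⟩, hne, huniv⟩ :=
      Nat.card_eq_two_iff.mp (Lib.SmallGroups.Order168Four.card_fours h T)
    have hne' : U₁ ≠ U₂ := fun e => hne (Subtype.ext e)
    refine ⟨_, _, Lib.SmallGroups.Order168Four.isCoatom_normalizer_four h hU₁,
      Lib.SmallGroups.Order168Four.isCoatom_normalizer_four h hU₂,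
      Lib.SmallGroups.Order168Four.normalizer_four_iso h hU₁,
      Lib.SmallGroups.Order168Four.normalizer_four_iso h hU₂, ?_, ?_⟩
    · intro g he
      have hW := Lib.SmallGroups.Order168Four.kleinFour_map_conj hU₁ g
      rw [← Lib.SmallGroups.Order168Four.normalizer_map_conj] at he
      refine Lib.SmallGroups.Order168Four.not_conj h T hU₁T hU₂T hU₁ hU₂ hne' g
        (Lib.SmallGroups.Order168Four.eq_of_le_normalizer h hW hU₂ ?_ he.ge)
      exact Subgroup.le_normalizer.trans he.le
    · intro M hM hS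
      rcases Lib.SmallGroups.Order168Four.maximal_cases h hM with ⟨U, hU, rfl⟩ | ⟨Q, rfl⟩
      · obtain ⟨T', hT'⟩ := (IsPGroup.of_card (n := 2) (by rw [hU.card_four]; norm_num) :
          IsPGroup 2 ↥U).exists_le_sylow
        obtain ⟨g, hg⟩ := MulAction.exists_smul_eq G T' T
        have hle : U.map (MulAut.conj g).toMonoidHom ≤ (T : Subgroup G) := by
          rw [← hg]; exact Subgroup.map_mono hT'
        have hmem : (⟨_, hle, Lib.SmallGroups.Order168Four.kleinFour_map_conj hU g⟩ :
            {V : Subgroup G // V ≤ (T : Subgroup G) ∧ IsKleinFour ↥V}) ∈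
            ({⟨U₁, hU₁T, hU₁⟩, ⟨U₂, hU₂T, hU₂⟩} : Set _) := huniv ▸ Set.mem_univ _
        refine ⟨g⁻¹, ?_⟩
        rcases hmem with e | e
        · left
          rw [← Lib.SmallGroups.Order168Four.normalizer_map_conj,
            ← show U.map (MulAut.conj g).toMonoidHom = U₁ from congrArg Subtype.val e,
            Lib.SmallGroups.Order168Four.map_conj_mul, inv_mul_cancel,
            Lib.SmallGroups.Order168Four.map_conj_one]
        · right
          rw [← Lib.SmallGroups.Order168Four.normalizer_map_conj,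
            ← show U.map (MulAut.conj g).toMonoidHom = U₂ from congrArg Subtype.val e,
            Lib.SmallGroups.Order168Four.map_conj_mul, inv_mul_cancel,
            Lib.SmallGroups.Order168Four.map_conj_one]
      · have := h24 _ hS
        rw [Lib.SmallGroups.Order168.card_normalizer7 h Q] at this
        omega

end Cfsg.Agent.S1008
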