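import Cfsg.Statements.S1013
import Cfsg.Agent.Lib.SmallGroups.Sylow

set_option autoImplicit false
open Cfsg

namespace Cfsg.Agent.S1013

open Subgroup in
/-- An element of `K` of order prime to `p` dies in any homomorphism to a `p`-group. -/
theorem map_eq_one {K A : Type*} [Group K] [Group A] [Finite A] {p : ℕ} (f : K →* A)
    (hA : Nat.card A = p) (g : K) (hg : (orderOf g).Coprime p) : f g = 1 := by
  have h1 : orderOf (f g) ∣ orderOf g := orderOf_map_dvd f g
  have h2 : orderOf (f g) ∣ p := hA ▸ orderOf_dvd_natCard (f g)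
  exact orderOf_eq_one_iff.mp (Nat.eq_one_of_dvd_coprimes hg h1 h2)


/-- Let G be a transitive permutation group of prime degree p having more than one Sylow p-subgroup, and suppose a Sylow p-subgroup P has prime index in its normalizer. Then G is simple. -/
theorem result {α : Type*} [Fintype α] [DecidableEq α] {p : ℕ} [Fact p.Prime] (hα : Fintype.card α = p) (G : Subgroup (Equiv.Perm α)) [MulAction.IsPretransitive ↥G α] (P : Sylow p ↥G) (hn : 1 < Nat.card (Sylow p ↥G)) (ht : (((P : Subgroup ↥G).subgroupOf (Subgroup.normalizer ((P : Subgroup ↥G) : Set ↥G))).index).Prime) : IsSimpleGroup ↥G := by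
  classical
  have hp := (Fact.out : p.Prime)
  -- orders
  have hdvdp : p ∣ Nat.card ↥G := by
    obtain ⟨a⟩ : Nonempty α := Fintype.card_pos_iff.mp (hα ▸ hp.pos)
    have h1 : (MulAction.stabilizer ↥G a).index = p := by
      rw [MulAction.index_stabilizer_of_transitive, Nat.card_eq_fintype_card, hα]
    exact h1 ▸ Subgroup.index_dvd_card _
  have hp2 : p ^ 2 ∣ Nat.card ↥G → False := by
    intro h
    have h2 : p ^ 2 ∣ p.factorial := by
      refine h.trans ((Subgroup.card_subgroup_dvd_card G).trans ?_)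
      rw [Nat.card_perm, Nat.card_eq_fintype_card, hα]
    have hf : p.factorial = p * (p - 1).factorial := (Nat.mul_factorial_pred hp.ne_zero).symm
    rw [hf, pow_two, Nat.mul_dvd_mul_iff_left hp.pos, hp.dvd_factorial] at h2
    have := hp.two_le
    omega
  have hS : ∀ S : Sylow p ↥G, Nat.card ↥(S : Subgroup ↥G) = p := by
    intro S
    obtain ⟨k, hk⟩ := S.2.exists_card_eq
    have h1 := S.dvd_card_of_dvd_card hdvdp
    rw [hk] at h1 ⊢
    match k with
    | 0 => rw [pow_zero] at h1; exact absurd (Nat.dvd_one.mp h1) hp.ne_one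
    | 1 => exact pow_one p
    | k + 2 =>
      exact (hp2 ((pow_dvd_pow p (by omega : 2 ≤ k + 2)).trans
        (hk ▸ Subgroup.card_subgroup_dvd_card _))).elim
  have hfaith : ∀ g : ↥G, (∀ a : α, g • a = a) → g = 1 := fun g hg =>
    Subtype.ext (Equiv.ext fun a => hg a)
  -- a non-trivial normal subgroup has order divisible by `p`
  have hK : ∀ K : Subgroup ↥G, K.Normal → K ≠ ⊥ → p ∣ Nat.card ↥K := by
    intro K hKn hKb
    obtain ⟨⟨k, hk⟩, hk1'⟩ := K.ne_bot_iff_exists_ne_one.mp hKb
    have hk1 : k ≠ 1 := fun e => hk1' (Subtype.ext e)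
    obtain ⟨a, ha⟩ := not_forall.mp (fun h => hk1 (hfaith k h))
    have hblock : MulAction.IsBlock ↥G (MulAction.orbit ↥K a) :=
      MulAction.IsBlock.orbit_of_normal a
    have hdvd := hblock.ncard_dvd_card (MulAction.nonempty_orbit a)
    rw [Nat.card_eq_fintype_card, hα] at hdvd
    have hne : (MulAction.orbit ↥K a).ncard ≠ 1 := by
      intro h1
      obtain ⟨c, hc⟩ := Set.ncard_eq_one.mp h1
      have h2 : a ∈ MulAction.orbit ↥K a := MulAction.mem_orbit_self a
      have h3 : (⟨k, hk⟩ : ↥K) • a ∈ MulAction.orbit ↥K a := MulAction.mem_orbit a _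
      rw [hc, Set.mem_singleton_iff] at h2 h3
      exact ha (h3.trans h2.symm)
    have h4 := (hp.eq_one_or_self_of_dvd _ hdvd).resolve_left hne
    rw [← h4, ← MulAction.index_stabilizer]
    exact Subgroup.index_dvd_card _
  have hnt : Nontrivial ↥G := Finite.one_lt_card_iff_nontrivial.mp
    (lt_of_lt_of_le hp.one_lt (Nat.le_of_dvd Nat.card_pos hdvdp))
  refine ⟨fun K hKn => ?_⟩
  by_contra hne
  rw [not_or] at hne
  obtain ⟨hKb, hKt⟩ := hne
  -- `P ≤ K`
  have hpK := hK K hKn hKb
  have hPK : (P : Subgroup ↥G) ≤ K := by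
    obtain ⟨⟨x, hx⟩, hxp⟩ := exists_prime_orderOf_dvd_card' p hpK
    rw [Subgroup.orderOf_mk] at hxp
    obtain ⟨R, hR⟩ := (IsPGroup.of_card (n := 1)
      (by rw [Nat.card_zpowers, hxp, pow_one]) :
        IsPGroup p ↥(Subgroup.zpowers x)).exists_le_sylow
    have hRK : (R : Subgroup ↥G) ≤ K := by
      rw [← Subgroup.eq_of_le_of_card_ge hR (by rw [hS R, Nat.card_zpowers, hxp])]
      exact Subgroup.zpowers_le.mpr hx
    obtain ⟨g, rfl⟩ := MulAction.exists_smul_eq ↥G R P
    intro y hy
    rw [_root_.Sylow.coe_subgroup_smul, Subgroup.mem_pointwise_smul_iff_inv_smul_mem] at hy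
    simpa [MulAut.smul_def, mul_assoc] using hKn.conj_mem _ (hRK hy) g
  set N := Subgroup.normalizer ((P : Subgroup ↥G) : Set ↥G) with hN
  have hsup : N ⊔ K = ⊤ := P.normalizer_sup_eq_top' hPK
  have hPN : (P : Subgroup ↥G) ≤ N ⊓ K := le_inf Subgroup.le_normalizer hPK
  have hrel : ((P : Subgroup ↥G).relIndex (N ⊓ K)) * (N ⊓ K).relIndex N =
      (P : Subgroup ↥G).relIndex N := Subgroup.relIndex_mul_relIndex _ _ _ hPN inf_le_left
  have hKi : (N ⊓ K).relIndex N ≠ 1 := by
    intro h
    rw [Subgroup.relIndex_eq_one] at h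
    exact hKt (top_le_iff.mp (hsup ▸ sup_le (h.trans inf_le_right) le_rfl))
  have hM : N ⊓ K ≤ (P : Subgroup ↥G) := by
    rw [← Subgroup.relIndex_eq_one]
    change Nat.Prime ((P : Subgroup ↥G).relIndex N) at ht
    rcases (Nat.dvd_prime ht).mp (Dvd.intro _ hrel) with h | h
    · exact h
    · exfalso
      rw [h] at hrel
      exact hKi (by simpa [ht.ne_zero] using hrel)
  -- Burnside in `K`
  let Q : Sylow p ↥K := P.subtype hPK
  have hQc : Nat.card ↥(Q : Subgroup ↥K) = p :=
    (Nat.card_congr (Subgroup.subgroupOfEquivOfLe hPK).toEquiv).trans (hS P)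
  have hQN : Subgroup.normalizer ((Q : Subgroup ↥K) : Set ↥K) ≤
      Subgroup.centralizer ((Q : Subgroup ↥K) : Set ↥K) := by
    intro x hx
    have hxQ : x ∈ (Q : Subgroup ↥K) := by
      rw [show ((Q : Subgroup ↥K)) = (P : Subgroup ↥G).subgroupOf K from rfl,
        ← Subgroup.subgroupOf_normalizer_eq hPK] at hx
      exact hM ⟨hx, x.2⟩
    have hc : IsCyclic ↥(Q : Subgroup ↥K) := isCyclic_of_prime_card hQc
    intro y hy
    exact congrArg Subtype.val (hc.isMulCommutative.is_comm.comm (⟨y, hy⟩ : ↥(Q : Subgroup ↥K))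
      ⟨x, hxQ⟩)
  let T := MonoidHom.transferSylow Q hQN
  have hTn : ¬ p ∣ Nat.card ↥T.ker := MonoidHom.not_dvd_card_ker_transferSylow Q hQN
  have hker : ∀ g : ↥K, g ∈ T.ker ↔ (orderOf g).Coprime p := by
    intro g
    constructor
    · intro hg
      have hd : orderOf g ∣ Nat.card ↥T.ker := by
        rw [← Subgroup.orderOf_mk g hg]; exact orderOf_dvd_natCard _
      exact ((hp.coprime_iff_not_dvd.mpr hTn).coprime_dvd_right hd).symm
    · exact fun hg => map_eq_one T hQc g hg
  set L := T.ker.map K.subtype with hL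
  have hLn : L.Normal := by
    refine ⟨fun x hx g => ?_⟩
    obtain ⟨y, hy, rfl⟩ := hx
    refine ⟨⟨g * K.subtype y * g⁻¹, hKn.conj_mem _ y.2 g⟩, ?_, rfl⟩
    rw [SetLike.mem_coe, hker, ← Subgroup.orderOf_coe]
    have : orderOf (g * K.subtype y * g⁻¹) = orderOf y :=
      ((MulAut.conj g).orderOf_eq (K.subtype y)).trans (Subgroup.orderOf_coe y)
    rw [this]
    exact (hker y).mp hy
  have hLb : T.ker = ⊥ := by
    by_contra hb
    have := hK L hLn (fun h => hb ((Subgroup.map_eq_bot_iff_of_injective _ K.subtype_injective).mp h))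
    rw [← Nat.card_congr (T.ker.equivMapOfInjective _ K.subtype_injective).toEquiv] at this
    exact hTn this
  have hKP : K = (P : Subgroup ↥G) := by
    have hc := MonoidHom.ker_transferSylow_isComplement' Q hQN
    rw [show (MonoidHom.transferSylow Q hQN).ker = ⊥ from hLb,
      Subgroup.isComplement'_bot_left] at hc
    exact le_antisymm (Subgroup.subgroupOf_eq_top.mp hc) hPK
  have : (P : Subgroup ↥G).Normal := hKP ▸ hKn
  have hsub : Subsingleton (Sylow p ↥G) := by
    constructor
    intro R S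
    obtain ⟨g, rfl⟩ := MulAction.exists_smul_eq ↥G P R
    obtain ⟨k, rfl⟩ := MulAction.exists_smul_eq ↥G P S
    rw [_root_.Sylow.smul_eq_of_normal, _root_.Sylow.smul_eq_of_normal]
  rw [Nat.card_unique] at hn
  exact lt_irrefl 1 hn

end Cfsg.Agent.S1013
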