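import Cfsg.Statements.S1014
import Cfsg.Agent.Lib.SmallGroups.Counting

set_option autoImplicit false
open Cfsg

namespace Cfsg.Agent.S1014

/-- No finite simple group has order 1104 = 2^4 * 3 * 23. -/
theorem result {G : Type*} [Group G] [Finite G] [IsSimpleGroup G] : Nat.card G ≠ 1104 := by
  intro h
  have hG := Lib.SmallGroups.Sylow.not_comm_of_card (G := G) (by rw [h]; norm_num)
  have : Fact (Nat.Prime 23) := ⟨by norm_num⟩
  let P : Sylow 23 G := default
  have hne := Lib.SmallGroups.Sylow.card_sylow_ne_one (G := G) (p := 23) (a := 1) (m := 48)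
    (by rw [h]; norm_num) (by norm_num) one_ne_zero (by norm_num)
  have h24 : Nat.card (Sylow 23 G) = 24 := by
    have hmem := Lib.SmallGroups.Sylow.card_sylow_mem (G := G) (p := 23) (a := 1) (m := 48)
      (by rw [h]; norm_num) (by norm_num)
    rw [show (48 : ℕ).divisors.filter (fun d => d % 23 = 1) = {1, 24} by decide] at hmem
    simpa [hne] using hmem
  have hN := Lib.SmallGroups.Sylow.card_normalizer_mul P
  rw [h24, h] at hN
  have hidx : (Subgroup.normalizer ((P : Subgroup G) : Set G)).index = 24 := by
    rw [Lib.SmallGroups.Sylow.index_normalizer, h24]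
  have hdvd := Lib.SmallGroups.Counting.two_mul_normalizer_dvd hG
    (Lib.SmallGroups.Sylow.normalizer_ne_top P hne) (p := 23) (by norm_num)
    (by rw [hidx]; norm_num) (by rw [hidx]; norm_num) (by rw [h]; norm_num) P
  rw [hidx] at hdvd
  have h46 : Nat.card ↥(Subgroup.normalizer ((P : Subgroup G) : Set G)) = 46 := by omega
  rw [h46] at hdvd
  norm_num [Nat.factorial] at hdvd

end Cfsg.Agent.S1014
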