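import Cfsg.Statements.S1015
import Cfsg.Agent.Lib.SmallGroups.Counting

set_option autoImplicit false
open Cfsg

namespace Cfsg.Agent.S1015

/-- No finite simple group has order 1200 = 2^4 * 3 * 5^2. -/
theorem result {G : Type*} [Group G] [Finite G] [IsSimpleGroup G] : Nat.card G ≠ 1200 := by
  intro h
  have hG := Lib.SmallGroups.Sylow.not_comm_of_card (G := G) (by rw [h]; norm_num)
  have : Fact (Nat.Prime 5) := ⟨by norm_num⟩
  have hne := Lib.SmallGroups.Sylow.card_sylow_ne_one (G := G) (p := 5) (a := 2) (m := 48)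
    (by rw [h]; norm_num) (by norm_num) two_ne_zero (by norm_num)
  have hmem := Lib.SmallGroups.Sylow.card_sylow_mem (G := G) (p := 5) (a := 2) (m := 48)
    (by rw [h]; norm_num) (by norm_num)
  have hfac := Lib.SmallGroups.Sylow.two_mul_card_dvd_sylow_factorial hG hne
  have h16 : Nat.card (Sylow 5 G) = 16 := by
    rw [show (48 : ℕ).divisors.filter (fun d => d % 5 = 1) = {1, 6, 16} by decide] at hmem
    simp only [Finset.mem_insert, Finset.mem_singleton] at hmem
    rcases hmem with h1 | h1 | h1
    · exact absurd h1 hne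
    · rw [h1, h] at hfac; norm_num [Nat.factorial] at hfac
    · exact h1
  obtain ⟨P, R, hPR, j, hj0, hj, hD⟩ :=
    Lib.SmallGroups.Counting.exists_card_inf_mul (p := 5) (G := G) 2 (by rw [h16]; decide)
  obtain rfl : j = 1 := by omega
  rw [pow_one] at hD
  obtain ⟨-, -, m, d, hN, hdm, hd, hd5, hm⟩ :=
    Lib.SmallGroups.Counting.normalizer_inf_of_index_prime P R hPR hD
  have hP := Lib.SmallGroups.Sylow.card_sylow_eq P (a := 2) (m := 48) (by rw [h]; norm_num) (by norm_num)
  rw [hP] at hN hD
  set D := (P : Subgroup G) ⊓ (R : Subgroup G)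
  set N := Subgroup.normalizer (D : Set G) with hNdef
  have hDbot : D ≠ ⊥ := fun hb => by rw [hb, Subgroup.card_bot] at hD; norm_num at hD
  have hDtop : D ≠ ⊤ := fun hb => by
    rw [hb, Subgroup.card_top, h] at hD; norm_num at hD
  have hNtop : N ≠ ⊤ := fun ht => by
    have : D.Normal := Subgroup.normalizer_eq_top_iff.mp ht
    rcases IsSimpleGroup.eq_bot_or_eq_top_of_normal D this with hb | hb
    · exact hDbot hb
    · exact hDtop hb
  have hmul := N.card_mul_index
  rw [hN, h] at hmul
  have hm48 : m * N.index = 48 := by linarith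
  have hd48 : d ∈ (48 : ℕ).divisors := Nat.mem_divisors.mpr
    ⟨hdm.trans (Dvd.intro _ hm48), by norm_num⟩
  have hm0 : 0 < m := by
    rcases Nat.eq_zero_or_pos m with h0 | h0
    · subst h0; simp at hm48
    · exact h0
  have hdle : 6 ≤ m := le_trans hd5 (Nat.le_of_dvd hm0 hdm)
  have hidx : N.index ≤ 8 := by nlinarith
  have hf := Lib.SmallGroups.Sylow.two_mul_card_dvd_factorial hG hNtop
  rw [h] at hf
  have := hf.trans (Nat.factorial_dvd_factorial hidx)
  norm_num [Nat.factorial] at this

end Cfsg.Agent.S1015
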