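import Cfsg.Statements.S1018
import Cfsg.Agent.Lib.SmallGroups.Counting

set_option autoImplicit false
open Cfsg

namespace Cfsg.Agent.S1018

/-- Let P be a Sylow p-subgroup of order p of a finite group G, and consider the action of G on the left cosets of the normalizer N of P. Then every element of order p fixes exactly one coset, and an element of N that does not centralize P fixes at most as many cosets as there are orbits of P. -/
theorem result {G : Type*} [Group G] [Finite G] (p : ℕ) [Fact p.Prime] (P : Sylow p G) (hP : Nat.card ↥(P : Subgroup G) = p) : (∀ y : G, orderOf y = p → Nat.card (MulAction.fixedBy (G ⧸ Subgroup.normalizer ((P : Subgroup G) : Set G)) y) = 1) ∧ ∀ x : G, x ∈ Subgroup.normalizer ((P : Subgroup G) : Set G) → x ∉ Subgroup.centralizer ((P : Subgroup G) : Set G) → Nat.card (MulAction.fixedBy (G ⧸ Subgroup.normalizer ((P : Subgroup G) : Set G)) x) ≤ Nat.card (MulAction.orbitRel.Quotient ↥(P : Subgroup G) (G ⧸ Subgroup.normalizer ((P : Subgroup G) : Set G))) := by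
  have hp := (Fact.out : p.Prime)
  have hord : ∀ y : G, orderOf y = p → ∀ R : Sylow p G,
      (y • R = R ↔ (R : Subgroup G) = Subgroup.zpowers y) := by
    intro y hy R
    have hy' : IsPGroup p ↥(Subgroup.zpowers y) :=
      IsPGroup.of_card (n := 1) (by rw [Nat.card_zpowers, hy, pow_one])
    have hR : Nat.card ↥(R : Subgroup G) = p := by
      rw [R.card_eq_multiplicity, ← P.card_eq_multiplicity, hP]
    constructor
    · intro h
      rw [_root_.Sylow.smul_eq_iff_mem_normalizer] at h
      have hle : Subgroup.zpowers y ≤ (R : Subgroup G) :=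
        fun a ha => ((hy'.inf_normalizer_sylow R).le ⟨ha, Subgroup.zpowers_le.mpr h ha⟩).2
      exact (Subgroup.eq_of_le_of_card_ge hle (by rw [hR, Nat.card_zpowers, hy])).symm
    · intro h
      rw [_root_.Sylow.smul_eq_iff_mem_normalizer]
      exact Subgroup.le_normalizer (h ▸ Subgroup.mem_zpowers y)
  have hsmul : ∀ (g : G) (R : Sylow p G),
      g ∈ Subgroup.normalizer ((R : Subgroup G) : Set G) ↔ g • R = R := fun g R =>
    _root_.Sylow.smul_eq_iff_mem_normalizer.symm
  have hfix : ∀ (y g : G), (QuotientGroup.mk g :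
      G ⧸ Subgroup.normalizer ((P : Subgroup G) : Set G)) ∈
        MulAction.fixedBy (G ⧸ Subgroup.normalizer ((P : Subgroup G) : Set G)) y ↔
      y • (g • P) = g • P := by
    intro y g
    rw [MulAction.mem_fixedBy, MulAction.Quotient.smul_mk, eq_comm, QuotientGroup.eq,
      hsmul, mul_smul, inv_smul_eq_iff, smul_eq_mul, mul_smul]
  have hone : ∀ y : G, orderOf y = p →
      Nat.card (MulAction.fixedBy (G ⧸ Subgroup.normalizer ((P : Subgroup G) : Set G)) y) = 1 := by
    intro y hy
    rw [Nat.card_eq_one_iff_unique]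
    constructor
    · constructor
      rintro ⟨a, ha⟩ ⟨b, hb⟩
      induction a using QuotientGroup.induction_on with | _ g => ?_
      induction b using QuotientGroup.induction_on with | _ k => ?_
      rw [hfix, hord y hy] at ha hb
      apply Subtype.ext
      show (QuotientGroup.mk g : G ⧸ _) = QuotientGroup.mk k
      rw [QuotientGroup.eq, hsmul, mul_smul, inv_smul_eq_iff]
      exact _root_.Sylow.ext (hb.trans ha.symm)
    · obtain ⟨R, hR⟩ := (IsPGroup.of_card (n := 1)
        (by rw [Nat.card_zpowers, hy, pow_one]) : IsPGroup p ↥(Subgroup.zpowers y)).exists_le_sylow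
      obtain ⟨g, rfl⟩ := MulAction.exists_smul_eq G P R
      refine ⟨⟨QuotientGroup.mk g, (hfix y g).mpr ?_⟩⟩
      rw [_root_.Sylow.smul_eq_iff_mem_normalizer]
      exact Subgroup.le_normalizer (hR (Subgroup.mem_zpowers y))
  refine ⟨hone, fun x hx hxc => ?_⟩
  set X := G ⧸ Subgroup.normalizer ((P : Subgroup G) : Set G)
  refine Nat.card_le_card_of_injective
    (fun a : MulAction.fixedBy X x =>
      (Quotient.mk'' a.1 : MulAction.orbitRel.Quotient ↥(P : Subgroup G) X)) ?_
  rintro ⟨a, ha⟩ ⟨b, hb⟩ hab
  obtain ⟨⟨u, hu⟩, hua⟩ := Quotient.exact' hab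
  change u • b = a at hua
  apply Subtype.ext
  show a = b
  rw [MulAction.mem_fixedBy] at ha hb
  set w := u⁻¹ * (x * u * x⁻¹) with hw
  have hwP : w ∈ (P : Subgroup G) :=
    mul_mem (inv_mem hu) ((Subgroup.mem_normalizer_iff.mp hx u).mp hu)
  have hxb : x⁻¹ • b = b := inv_smul_eq_iff.mpr hb.symm
  have hwb : w • b = b := by
    rw [hw, mul_smul, mul_smul, mul_smul, hxb, hua, ha, inv_smul_eq_iff]
    exact hua.symm
  by_cases hw1 : w = 1
  · -- then `x` commutes with `u`, so `u = 1`
    have hcomm : Commute u x := by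
      have h1 : u = x * u * x⁻¹ := inv_mul_eq_one.mp (hw ▸ hw1)
      show u * x = x * u
      calc u * x = x * u * x⁻¹ * x := by rw [← h1]
        _ = x * u := by group
    by_cases hu1 : u = 1
    · rw [← hua, hu1, one_smul]
    exfalso
    apply hxc
    intro v hv
    have hz : Subgroup.zpowers u = (P : Subgroup G) := by
      refine Subgroup.eq_of_le_of_card_ge (Subgroup.zpowers_le.mpr hu) ?_
      have hd := Subgroup.card_dvd_of_le (Subgroup.zpowers_le.mpr hu)
      rw [Nat.card_zpowers, hP] at hd
      rw [Nat.card_zpowers, hP, (hp.eq_one_or_self_of_dvd _ hd).resolve_left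
        (fun h => hu1 (orderOf_eq_one_iff.mp h))]
    obtain ⟨k, rfl⟩ := Subgroup.mem_zpowers_iff.mp (hz ▸ hv)
    exact hcomm.zpow_left k
  · have hz : Subgroup.zpowers w = (P : Subgroup G) := by
      refine Subgroup.eq_of_le_of_card_ge (Subgroup.zpowers_le.mpr hwP) ?_
      have hd := Subgroup.card_dvd_of_le (Subgroup.zpowers_le.mpr hwP)
      rw [Nat.card_zpowers, hP] at hd
      rw [Nat.card_zpowers, hP, (hp.eq_one_or_self_of_dvd _ hd).resolve_left
        (fun h => hw1 (orderOf_eq_one_iff.mp h))]
    have hstab : (P : Subgroup G) ≤ MulAction.stabilizer G b := by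
      exact hz.symm.le.trans (Subgroup.zpowers_le.mpr (MulAction.mem_stabilizer_iff.mpr hwb))
    rw [← hua]
    exact hstab hu

end Cfsg.Agent.S1018
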