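import Cfsg.Statements.S1019
import Cfsg.Agent.Lib.SmallGroups.Counting

set_option autoImplicit false
open Cfsg

namespace Cfsg.Agent.S1019

/-- Let H be a subgroup of a finite group G and x an element of H. In the action of G on the left cosets of H, the number of cosets fixed by x, multiplied by the size of the conjugacy class of x, equals the index of H multiplied by the number of conjugates of x that lie in H. -/
theorem result {G : Type*} [Group G] [Finite G] (H : Subgroup G) (x : G) (hx : x ∈ H) : Nat.card (MulAction.fixedBy (G ⧸ H) x) * Nat.card {g : G // IsConj x g} = H.index * Nat.card {g : G // IsConj x g ∧ g ∈ H} := by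
  have hfix : ∀ g : G, (QuotientGroup.mk g : G ⧸ H) ∈ MulAction.fixedBy (G ⧸ H) x ↔
      g⁻¹ * x * g ∈ H := by
    intro g
    rw [MulAction.mem_fixedBy, MulAction.Quotient.smul_mk, QuotientGroup.eq, ← H.inv_mem_iff]
    simp [smul_eq_mul, mul_assoc]
  have hA : Nat.card ↥H * Nat.card (MulAction.fixedBy (G ⧸ H) x) =
      Nat.card {g : G // g⁻¹ * x * g ∈ H} := by
    rw [← QuotientGroup.card_preimage_mk H (MulAction.fixedBy (G ⧸ H) x)]
    exact Nat.card_congr (Equiv.subtypeEquivRight hfix)
  rw [Lib.SmallGroups.Counting.card_conj_fiber x (fun y => y ∈ H)] at hA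
  have hG := Lib.SmallGroups.Counting.card_isConj_mul x
  rw [← H.card_mul_index] at hG
  refine Nat.eq_of_mul_eq_mul_left (Nat.card_pos (α := ↥H)) ?_
  calc Nat.card ↥H * (Nat.card (MulAction.fixedBy (G ⧸ H) x) * Nat.card {g : G // IsConj x g})
      = (Nat.card ↥H * Nat.card (MulAction.fixedBy (G ⧸ H) x)) *
          Nat.card {g : G // IsConj x g} := by ring
    _ = Nat.card {y : G // IsConj x y ∧ y ∈ H} * (Nat.card {g : G // IsConj x g} *
          Nat.card ↥(Subgroup.centralizer ({x} : Set G))) := by rw [hA]; ring
    _ = Nat.card ↥H * (H.index * Nat.card {g : G // IsConj x g ∧ g ∈ H}) := by rw [hG]; ring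

end Cfsg.Agent.S1019
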