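import Cfsg.Statements.S1022
import Mathlib
import Cfsg.Agent.Lib.SylowNumbers.SimpleAux

set_option autoImplicit false
open Cfsg

namespace Cfsg.Agent.S1022

open Subgroup MulAction
open Cfsg.Agent.Lib.SylowNumbers.Basic
open Cfsg.Agent.Lib.SylowNumbers.Actions
open Cfsg.Agent.Lib.SylowNumbers.SimpleAux
open scoped Pointwise

variable {G : Type*} [Group G] [Finite G]

instance fact19 : Fact (Nat.Prime 19) := ⟨by norm_num⟩

theorem nineteen_le_index [IsSimpleGroup G] (h19 : 19 ∣ Nat.card G) {M : Subgroup G} (hM : M ≠ ⊤) :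
    19 ≤ M.index := by
  classical
  haveI : Fintype (G ⧸ M) := Fintype.ofFinite _
  haveI : Nontrivial (G ⧸ M) := QuotientGroup.nontrivial_iff.mpr hM
  have hinj : Function.Injective (toPermHom G (G ⧸ M)) := by
    rw [← MonoidHom.ker_eq_bot_iff, eq_bot_iff]
    exact fun g hg => faithful_of_simple (G ⧸ M) fun a => Equiv.congr_fun (show MulAction.toPerm g = (1 : Equiv.Perm (G ⧸ M)) from hg) a
  have h : 19 ∣ (M.index).factorial := by
    have := h19.trans (card_dvd_of_injective _ hinj)
    rwa [Nat.card_perm] at this
  exact (Nat.Prime.dvd_factorial (by norm_num : Nat.Prime 19)).mp h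

/-- The index 21 action is impossible. -/
theorem index_ne_21 [IsSimpleGroup G] (hbig : 2 < Nat.card G) {M : Subgroup G} {t z : G}
    (ht : orderOf t = 2) (hz : orderOf z = 19) (hc : Commute t z) : M.index ≠ 21 := by
  classical
  intro hidx
  haveI : Fintype (G ⧸ M) := Fintype.ofFinite _
  have hM : M ≠ ⊤ := by rintro rfl; simp at hidx
  haveI : Nontrivial (G ⧸ M) := QuotientGroup.nontrivial_iff.mpr hM
  have hcard : Nat.card (G ⧸ M) = 21 := hidx
  have hmove : ∀ a : G ⧸ M, z • a ≠ a → t • a = a := by
    intro a ha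
    have h1 := mem_orbit_of_commute Nat.prime_two ht (by norm_num : Nat.Prime 19) hz hc ha
      (by omega)
    have h2 := pow_smul_eq_of_mem_orbit hc (hz ▸ pow_orderOf_eq_one z) h1
    rwa [← pow_mod_orderOf, ht, show 19 % 2 = 1 from rfl, pow_one] at h2
  obtain ⟨a, ha⟩ : ∃ a : G ⧸ M, z • a ≠ a := by
    by_contra h
    push Not at h
    have := faithful_of_simple (G ⧸ M) h
    rw [this, orderOf_one] at hz
    omega
  have horb : 19 ≤ (orbit (zpowers z) a).ncard := by
    obtain ⟨k, hk⟩ := (isPGroup_zpowers (k := 1) (by rw [hz, pow_one]) :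
      IsPGroup 19 (zpowers z)).card_orbit a
    rw [Nat.card_coe_set_eq] at hk
    rcases k with _ | k
    · exfalso
      rw [pow_zero, Set.ncard_eq_one] at hk
      obtain ⟨b, hb⟩ := hk
      have h1 : z • a ∈ orbit (zpowers z) a := ⟨⟨z, mem_zpowers z⟩, rfl⟩
      have h2 : a ∈ orbit (zpowers z) a := mem_orbit_self a
      rw [hb, Set.mem_singleton_iff] at h1 h2
      exact ha (h1.trans h2.symm)
    · rw [hk]; exact Nat.le_self_pow (by omega) 19
  let σ : Equiv.Perm (G ⧸ M) := toPermHom G (G ⧸ M) t
  have hsub : (σ.support : Set (G ⧸ M)) ⊆ (orbit (zpowers z) a)ᶜ := by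
    intro b hb hbo
    rw [Finset.mem_coe, Equiv.Perm.mem_support] at hb
    refine hb (hmove b fun hzb => ?_)
    obtain ⟨⟨w, hw⟩, rfl⟩ := hbo
    obtain ⟨i, rfl⟩ := mem_zpowers_iff.mp hw
    apply ha
    change z • z ^ i • a = z ^ i • a at hzb
    rw [← mul_smul, ((Commute.refl z).zpow_right i).eq, mul_smul] at hzb
    exact MulAction.injective _ hzb
  have hle := Set.ncard_le_ncard hsub (Set.toFinite _)
  rw [Set.ncard_coe_finset, Set.ncard_compl, hcard] at hle
  have hsign := sign_eq_one hbig (toPermHom G (G ⧸ M)) t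
  have hne1 : σ ≠ 1 := by
    intro h
    have := faithful_of_simple (G ⧸ M) (g := t) fun b => Equiv.congr_fun h b
    rw [this, orderOf_one] at ht
    omega
  have h2 : σ.support.card = 2 := by
    have h0 : σ.support.card ≠ 0 := fun h =>
      hne1 (Equiv.Perm.support_eq_empty_iff.mp (Finset.card_eq_zero.mp h))
    have := Equiv.Perm.card_support_ne_one σ
    omega
  rw [Equiv.Perm.IsSwap.sign_eq (Equiv.Perm.card_support_eq_two.mp h2)] at hsign
  exact absurd hsign (by decide)

/-- A group of order 7296 without element of order 57 cannot have 96 Sylow 19-subgroups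
with abelian normalizers. -/
theorem no_7296 (hG : Nat.card G = 7296) (P : Sylow 19 G)
    (hidx : (normalizer ((P : Subgroup G) : Set G)).index = 96)
    (hNC : normalizer ((P : Subgroup G) : Set G) ≤ centralizer ((P : Subgroup G) : Set G)) :
    False := by
  haveI : Fact (Nat.Prime 3) := ⟨Nat.prime_three⟩
  have hP : Nat.card (P : Subgroup G) = 19 := by
    rw [P.card_eq_multiplicity, hG, show (7296 : ℕ) = 19 ^ 1 * 384 by norm_num,
      Nat.factorization_mul (by norm_num) (by norm_num)]
    simp [Nat.Prime.factorization_pow (by norm_num : Nat.Prime 19),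
      Nat.Prime.factorization_self (by norm_num : Nat.Prime 19),
      Nat.factorization_eq_zero_of_not_dvd (by norm_num : ¬ 19 ∣ 384)]
  have hc := MonoidHom.ker_transferSylow_isComplement' P hNC
  set K := (MonoidHom.transferSylow P hNC).ker
  have hK : Nat.card K = 384 := by
    have := hc.card_mul
    rw [hP, hG] at this
    omega
  obtain ⟨R⟩ : Nonempty (Sylow 3 K) := inferInstance
  have hR : Nat.card (R : Subgroup K) = 3 := by
    rw [R.card_eq_multiplicity, hK, show (384 : ℕ) = 3 ^ 1 * 128 by norm_num,
      Nat.factorization_mul (by norm_num) (by norm_num)]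
    simp [Nat.Prime.factorization_pow Nat.prime_three, Nat.Prime.factorization_self Nat.prime_three,
      Nat.factorization_eq_zero_of_not_dvd (by norm_num : ¬ 3 ∣ 128)]
  set R' := (R : Subgroup K).map K.subtype with hR'def
  have hR' : Nat.card R' = 3 := by rw [hR'def, card_map_of_injective K.subtype_injective, hR]
  have hsup : normalizer (R' : Set G) ⊔ K = ⊤ := Sylow.normalizer_sup_eq_top R
  have h19 : 19 ∣ Nat.card (normalizer (R' : Set G)) := by
    have h1 := Subgroup.relIndex_sup_right (K := K) (H := normalizer (R' : Set G))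
    rw [hsup, relIndex_top_right] at h1
    have h2 : K.index = 19 := by rw [hc.symm.index_eq_card, hP]
    rw [← h2, h1]
    exact relIndex_dvd_card ..
  obtain ⟨y, hy⟩ := exists_prime_orderOf_dvd_card' 19 h19
  have hdvd := relIndex_centralizer_dvd_totient R' (isCyclic_of_prime_card hR')
  rw [hR', show Nat.totient 3 = 2 by decide] at hdvd
  have hyc : (y : G) ∈ centralizer (R' : Set G) := by
    haveI : ((centralizer (R' : Set G)).subgroupOf (normalizer (R' : Set G))).Normal := by
      rw [← normalizerMonoidHom_ker R']; infer_instance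
    have h1 := Subgroup.pow_index_mem ((centralizer (R' : Set G)).subgroupOf (normalizer (R' : Set G))) y
    rw [← relIndex] at h1
    have h2 : y ^ 2 ∈ (centralizer (R' : Set G)).subgroupOf (normalizer (R' : Set G)) := by
      obtain ⟨k, hk⟩ := hdvd
      rw [hk, pow_mul]
      exact pow_mem h1 k
    have h3 : y = (y ^ 2) ^ 10 := by
      rw [← pow_mul, ← pow_mod_orderOf, hy]
      norm_num
    rw [h3]
    exact mem_subgroupOf.mp (pow_mem h2 10)
  obtain ⟨Q, hQ⟩ := (isPGroup_zpowers (x := (y : G)) (k := 1)
    (by rw [pow_one, orderOf_coe, hy]) : IsPGroup 19 (zpowers (y : G))).exists_le_sylow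
  have hQeq : zpowers (y : G) = Q := by
    refine eq_of_le_of_card_ge hQ ?_
    rw [Nat.card_congr (Sylow.equiv Q P).toEquiv, hP, Nat.card_zpowers, orderOf_coe, hy]
  have hle : R' ≤ normalizer ((Q : Subgroup G) : Set G) := by
    refine le_trans ?_ (centralizer_le_normalizer _)
    rw [← hQeq]
    intro r hr
    rw [mem_centralizer_iff]
    rintro w hw
    obtain ⟨i, rfl⟩ := mem_zpowers_iff.mp hw
    exact ((show Commute (y : G) r from (mem_centralizer_iff.mp hyc r hr).symm).zpow_left i).eq
  have h3 := card_dvd_of_le hle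
  have hQidx : (normalizer ((Q : Subgroup G) : Set G)).index = 96 := by
    exact (Q.card_eq_index_normalizer.symm.trans P.card_eq_index_normalizer).trans hidx
  have := (normalizer ((Q : Subgroup G) : Set G)).card_mul_index
  rw [hQidx, hG] at this
  rw [hR'] at h3
  omega

/-- No finite simple group has order 459648 = 2^7 * 3^3 * 7 * 19. -/
theorem result {G : Type*} [Group G] [Finite G] [IsSimpleGroup G] : Nat.card G ≠ 459648 := by
  classical
  intro hG
  haveI : Fact (Nat.Prime 2) := ⟨Nat.prime_two⟩
  haveI : Fact (Nat.Prime 7) := ⟨by norm_num⟩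
  have hbig : 2 < Nat.card G := by omega
  have hfac : ∀ p k m : ℕ, p.Prime → p ^ k * m = 459648 → ¬ p ∣ m →
      (459648 : ℕ).factorization p = k := by
    intro p k m hp e hm
    rw [← e, Nat.factorization_mul (pow_ne_zero _ hp.ne_zero) (by rintro rfl; exact hm (dvd_zero _)),
      Finsupp.add_apply, hp.factorization_pow, Finsupp.single_eq_same,
      Nat.factorization_eq_zero_of_not_dvd hm, add_zero]
  obtain ⟨P⟩ : Nonempty (Sylow 19 G) := inferInstance
  have hP : Nat.card (P : Subgroup G) = 19 := by
    rw [P.card_eq_multiplicity, hG, hfac 19 1 24192 (by norm_num) (by norm_num) (by norm_num), pow_one]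
  set N := normalizer ((P : Subgroup G) : Set G) with hNdef
  set C := centralizer ((P : Subgroup G) : Set G) with hCdef
  haveI hPcyc : IsCyclic (P : Subgroup G) := isCyclic_of_prime_card hP
  have hPC : (P : Subgroup G) ≤ C := by
    letI : CommGroup (P : Subgroup G) := IsCyclic.commGroup
    intro a ha
    rw [hCdef, mem_centralizer_iff]
    intro b hb
    exact congrArg Subtype.val (mul_comm (⟨b, hb⟩ : (P : Subgroup G)) ⟨a, ha⟩)
  have hPN : (P : Subgroup G) ≤ N := le_normalizer
  have hCN : C ≤ N := centralizer_le_normalizer _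
  have hn : N.index % 19 = 1 := by
    have h := card_sylow_modEq_one 19 G
    rw [P.card_eq_index_normalizer, Nat.ModEq] at h
    exact h
  have hn' : N.index ∣ 24192 := by
    have h := index_dvd_of_le hPN
    have := (P : Subgroup G).card_mul_index
    rw [hP, hG] at this
    rwa [show (P : Subgroup G).index = 24192 by omega] at h
  have hncases : N.index = 1 ∨ N.index = 96 ∨ N.index = 1008 := by
    have hmem : N.index ∈ Nat.divisors 24192 := Nat.mem_divisors.mpr ⟨hn', by norm_num⟩
    revert hn hmem
    generalize N.index = m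
    intro hn hmem
    have : ∀ d ∈ Nat.divisors 24192, d % 19 = 1 → d = 1 ∨ d = 96 ∨ d = 1008 := by decide +kernel
    exact this m hmem hn
  have hNtop : N ≠ ⊤ := by
    intro h
    haveI : (P : Subgroup G).Normal := normalizer_eq_top_iff.mp h
    rcases (inferInstance : (P : Subgroup G).Normal).eq_bot_or_eq_top with e | e
    · rw [e, card_bot] at hP; omega
    · rw [e, card_top, hG] at hP; omega
  have hNcard := N.card_mul_index
  have hC18 : C.relIndex N ∣ 18 := by
    have := relIndex_centralizer_dvd_totient (P : Subgroup G) hPcyc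
    rwa [hP, Nat.totient_prime (by norm_num)] at this
  have hCcard : Nat.card C * C.relIndex N = Nat.card N :=
    by rw [← (C.subgroupOf N).card_mul_index, Nat.card_congr (subgroupOfEquivOfLe hCN).toEquiv]; rfl
  obtain ⟨z', hz'⟩ := exists_prime_orderOf_dvd_card' 19 hP.symm.dvd
  have hz : orderOf (z' : G) = 19 := by rw [orderOf_coe, hz']
  have hzgen : zpowers (z' : G) = P := by
    refine eq_of_le_of_card_ge (zpowers_le.mpr z'.2) ?_
    rw [hP, Nat.card_zpowers, hz]
  rcases hncases with h | h | h
  · exact hNtop (index_eq_one.mp h)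
  · -- 96 Sylow subgroups: an element of order 7 fixes all of them
    rw [h, hG] at hNcard
    have h7 : 7 ∣ Nat.card C := by
      have h1 : 7 ∣ Nat.card C * C.relIndex N := by rw [hCcard]; omega
      exact ((by norm_num : Nat.Prime 7).dvd_mul.mp h1).resolve_right fun h2 =>
        absurd (h2.trans hC18) (by norm_num)
    obtain ⟨x, hx⟩ := exists_prime_orderOf_dvd_card' 7 h7
    have hcardS : Nat.card (Sylow 19 G) = 96 := by rw [show Nat.card (Sylow 19 G) = N.index from P.card_eq_index_normalizer, h]
    haveI : Nontrivial (Sylow 19 G) := by rw [← Finite.one_lt_card_iff_nontrivial]; omega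
    have hxc : Commute (x : G) z' := ((mem_centralizer_iff.mp x.2) _ z'.2).symm
    have hx1 : (x : G) = 1 := faithful_of_simple (Sylow 19 G) fun Q => by
      by_cases hQ : (z' : G) • Q = Q
      · have hPQ : P = Q := eq_of_le_normalizer (by
          rw [← hzgen, zpowers_le]; exact Sylow.smul_eq_iff_mem_normalizer.mp hQ)
        rw [← hPQ]
        exact Sylow.smul_eq_iff_mem_normalizer.mpr (hCN x.2)
      · have h1 := mem_orbit_of_commute (by norm_num : Nat.Prime 7) (by rw [orderOf_coe, hx])
          (by norm_num : Nat.Prime 19) hz hxc hQ (by rw [hcardS]; norm_num)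
        have h2 := pow_smul_eq_of_mem_orbit hxc (hz ▸ pow_orderOf_eq_one _) h1
        have h3 : (x : G) = ((x : G) ^ 19) ^ 3 := by
          rw [← pow_mul, ← pow_mod_orderOf, orderOf_coe, hx]; simp
        rw [h3, pow_succ, pow_succ, pow_one, mul_smul, mul_smul, h2, h2, h2]
    rw [← orderOf_coe, hx1, orderOf_one] at hx
    omega
  · -- 1008 Sylow subgroups
    rw [h, hG] at hNcard
    have hN : Nat.card N = 456 := by omega
    have h4 : 4 ∣ Nat.card C := by
      rw [hN] at hCcard
      have hr : C.relIndex N ∈ Nat.divisors 18 := Nat.mem_divisors.mpr ⟨hC18, by norm_num⟩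
      revert hCcard hr
      generalize C.relIndex N = r
      intro hCcard hr
      fin_cases hr <;> omega
    have key : ∀ t ∈ C, orderOf t = 2 → centralizer {t} ≤ N := by
      intro t htC ht
      obtain ⟨V, hV, htV⟩ := Sylow.exists_subgroup_card_pow_prime_le (G := C) 2 (m := 2) (n := 1)
        (by simpa using h4) (zpowers (⟨t, htC⟩ : C))
        (by rw [Nat.card_zpowers, ← orderOf_coe, ht, pow_one]) (by norm_num)
      rw [zpowers_le] at htV
      set M := centralizer ({t} : Set G)
      set V' := V.map C.subtype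
      have hV' : Nat.card V' = 4 := by
        rw [card_map_of_injective C.subtype_injective, hV]; norm_num
      have hV'C : V' ≤ C := map_subtype_le V
      have hV'M : V' ≤ M := by
        rintro _ ⟨v, hv, rfl⟩
        rw [mem_centralizer_singleton_iff]
        letI : CommGroup V := IsPGroup.commGroupOfCardEqPrimeSq hV
        exact congrArg (fun w : V => ((w : C) : G)) (mul_comm (⟨v, hv⟩ : V) ⟨⟨t, htC⟩, htV⟩)
      have hPM : (P : Subgroup G) ≤ M := by
        intro a ha
        rw [mem_centralizer_singleton_iff]
        exact (mem_centralizer_iff.mp htC a ha)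
      have hMtop : M ≠ ⊤ := by
        intro e
        have htz : t ∈ center G := mem_center_iff.mpr fun g => by
          have : g ∈ M := e ▸ mem_top g
          rw [mem_centralizer_singleton_iff] at this
          exact this
        rcases (inferInstance : (center G).Normal).eq_bot_or_eq_top with hb | hb
        · rw [hb, mem_bot] at htz
          rw [htz, orderOf_one] at ht
          omega
        · haveI : (P : Subgroup G).Normal := ⟨fun a ha g => by
            have : g ∈ center G := hb ▸ mem_top g
            rw [← (mem_center_iff.mp this a), mul_inv_cancel_right]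
            exact ha⟩
          exact hNtop (normalizer_eq_top_iff.mpr inferInstance)
      have hidx19 := nineteen_le_index (by rw [hG]; norm_num) hMtop
      have h76 : 76 ∣ Nat.card (M ⊓ N ⊓ C : Subgroup G) := by
        have e1 := card_dvd_of_le (le_inf (le_inf hV'M (hV'C.trans hCN)) hV'C)
        have e2 := card_dvd_of_le (le_inf (le_inf hPM hPN) hPC)
        rw [hV'] at e1
        rw [hP] at e2
        exact Nat.Coprime.mul_dvd_of_dvd_of_dvd (by norm_num) e1 e2
      have h76' : 76 ∣ Nat.card (M ⊓ N : Subgroup G) := h76.trans (card_dvd_of_le inf_le_left)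
      have h456 : Nat.card (M ⊓ N : Subgroup G) ∣ 456 := hN ▸ card_dvd_of_le inf_le_right
      have hm19 := relIndex_normalizer_modEq_one P hPM
      have hMcard : Nat.card (M ⊓ N : Subgroup G) * N.relIndex M = Nat.card M := by
        rw [inf_comm, ← inf_relIndex_right N M]
        rw [← ((N ⊓ M).subgroupOf M).card_mul_index,
          Nat.card_congr (subgroupOfEquivOfLe (inf_le_right : N ⊓ M ≤ M)).toEquiv]
        rfl
      have hMdvd : Nat.card M ∣ 459648 := hG ▸ card_subgroup_dvd_card M
      have hMidx : Nat.card M * M.index = 459648 := hG ▸ M.card_mul_index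
      have hm : N.relIndex M ∣ 6048 := by
        obtain ⟨c, hc⟩ := h76'
        rw [← hMcard, hc, show (459648 : ℕ) = 76 * 6048 by norm_num] at hMdvd
        exact (dvd_mul_left _ c).trans (Nat.dvd_of_mul_dvd_mul_left (by norm_num) (mul_assoc 76 c _ ▸ hMdvd))
      have hm3 : N.relIndex M = 1 ∨ N.relIndex M = 96 ∨ N.relIndex M = 1008 := by
        have hmem : N.relIndex M ∈ Nat.divisors 6048 := Nat.mem_divisors.mpr ⟨hm, by norm_num⟩
        have : ∀ d ∈ Nat.divisors 6048, d % 19 = 1 → d = 1 ∨ d = 96 ∨ d = 1008 := by decide +kernel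
        exact this _ hmem hm19
      have hj : Nat.card (M ⊓ N : Subgroup G) = 76 ∨ Nat.card (M ⊓ N : Subgroup G) = 152 ∨
          Nat.card (M ⊓ N : Subgroup G) = 228 ∨ Nat.card (M ⊓ N : Subgroup G) = 456 := by
        have hmem : Nat.card (M ⊓ N : Subgroup G) ∈ Nat.divisors 456 :=
          Nat.mem_divisors.mpr ⟨h456, by norm_num⟩
        have : ∀ d ∈ Nat.divisors 456, 76 ∣ d → d = 76 ∨ d = 152 ∨ d = 228 ∨ d = 456 := by decide +kernel
        exact this _ hmem h76'
      rcases hm3 with e | e | e
      · exact relIndex_eq_one.mp e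
      · exfalso
        rw [e] at hMcard
        rcases hj with hj | hj | hj | hj <;> rw [hj] at hMcard <;> rw [← hMcard] at hMidx
        · refine no_7296 (G := M) hMcard.symm (P.subtype hPM) ?_ ?_
          · show (normalizer ((((P : Subgroup G).subgroupOf M : Subgroup M)) : Set M)).index = 96
            rw [← subgroupOf_normalizer_eq hPM]
            exact e
          · show normalizer ((((P : Subgroup G).subgroupOf M : Subgroup M)) : Set M) ≤ centralizer ((((P : Subgroup G).subgroupOf M : Subgroup M)) : Set M)
            rw [← subgroupOf_normalizer_eq hPM]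
            intro w hw
            rw [mem_centralizer_iff]
            have heq : M ⊓ N ⊓ C = M ⊓ N := eq_of_le_of_card_ge inf_le_left (by
              rw [hj]; exact Nat.le_of_dvd Nat.card_pos h76)
            have hwC : (w : G) ∈ C := by
              have : (w : G) ∈ M ⊓ N := ⟨w.2, hw⟩
              rw [← heq] at this
              exact this.2
            intro a ha
            exact Subtype.ext (mem_centralizer_iff.mp hwC a ha)
        · omega
        · exact index_ne_21 hbig ht hz (mem_centralizer_iff.mp htC _ z'.2).symm (show M.index = 21 by omega)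
        · omega
      · exfalso
        rw [e] at hMcard
        rcases hj with hj | hj | hj | hj <;> rw [hj] at hMcard <;> rw [← hMcard] at hMidx <;> omega
    obtain ⟨L, hL⟩ := Sylow.exists_subgroup_card_pow_prime (G := C) 2 (n := 2) (by simpa using h4)
    set L' := L.map C.subtype
    have hL' : Nat.card L' = 4 := by
      rw [card_map_of_injective C.subtype_injective, hL]; norm_num
    have hL'C : L' ≤ C := map_subtype_le L
    have hL'N : L' ≤ N := hL'C.trans hCN
    obtain ⟨T, hT, hLT⟩ := Sylow.exists_subgroup_card_pow_prime_le (G := N) 2 (m := 3) (n := 2)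
      (by rw [hN]; norm_num) (L'.subgroupOf N)
      (by rw [Nat.card_congr (subgroupOfEquivOfLe hL'N).toEquiv, hL']; norm_num) (by norm_num)
    set T' := T.map N.subtype
    have hT' : Nat.card T' = 8 := by
      rw [card_map_of_injective N.subtype_injective, hT]; norm_num
    have hLT' : L' ≤ T' := fun a ha => ⟨⟨a, hL'N ha⟩, hLT ha, rfl⟩
    obtain ⟨S, hS⟩ := (IsPGroup.of_card (n := 3) (by rw [hT']; norm_num) : IsPGroup 2 T').exists_le_sylow
    have hScard : Nat.card (S : Subgroup G) = 128 := by
      rw [S.card_eq_multiplicity, hG, hfac 2 7 3591 Nat.prime_two (by norm_num) (by norm_num)]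
      norm_num
    haveI : Group.IsNilpotent (S : Subgroup G) := S.isPGroup'.isNilpotent
    have hlt : T'.subgroupOf (S : Subgroup G) < ⊤ := by
      rw [lt_top_iff_ne_top, Ne, subgroupOf_eq_top]
      intro h
      have := card_le_of_le h
      omega
    obtain ⟨g, hgN, hgT⟩ := SetLike.exists_of_lt (normalizerCondition_of_isNilpotent _ hlt)
    rw [mem_subgroupOf] at hgT
    have hgconj : ∀ a ∈ T', (g : G) * a * (g : G)⁻¹ ∈ T' := fun a ha =>
      (mem_normalizer_iff.mp hgN ⟨a, hS ha⟩).mp ha
    set L2 := L'.map (MulAut.conj (g : G)).toMonoidHom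
    have hL2 : Nat.card L2 = 4 := by
      rw [card_map_of_injective (MulAut.conj (g : G)).injective, hL']
    have hL2T : L2 ≤ T' := by
      rintro _ ⟨a, ha, rfl⟩
      exact hgconj a (hLT' ha)
    have hint : 1 < Nat.card (L' ⊓ L2 : Subgroup G) := by
      by_contra hle
      have hb : L' ⊓ L2 = ⊥ := (Subgroup.eq_bot_iff_card _).mpr
        (le_antisymm (not_lt.mp hle) Nat.card_pos)
      have hinj : Function.Injective
          (fun q : L' × L2 => (⟨(q.1 : G) * q.2, mul_mem (hLT' q.1.2) (hL2T q.2.2)⟩ : T')) := by
        intro q q' hqq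
        exact mul_injective_of_disjoint (disjoint_iff.mpr hb) (congrArg Subtype.val hqq)
      have := Nat.card_le_card_of_injective _ hinj
      rw [Nat.card_prod, hL', hL2, hT'] at this
      omega
    have heven : 2 ∣ Nat.card (L' ⊓ L2 : Subgroup G) := by
      obtain ⟨k, -, hk⟩ := (Nat.dvd_prime_pow Nat.prime_two).mp
        (show Nat.card (L' ⊓ L2 : Subgroup G) ∣ 2 ^ 2 by
          rw [show (2:ℕ) ^ 2 = Nat.card L' by rw [hL']; norm_num]
          exact card_dvd_of_le inf_le_left)
      rw [hk]
      exact dvd_pow_self 2 (by rintro rfl; rw [hk] at hint; simp at hint)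
    obtain ⟨⟨t, htL, ⟨s, hs, hst⟩⟩, ht⟩ := exists_prime_orderOf_dvd_card' 2 heven
    replace ht : orderOf t = 2 := by rw [← ht, ← orderOf_coe]
    change (g : G) * s * (g : G)⁻¹ = t at hst
    have hle := key t (hL'C htL) ht
    have hgP : (g : G) • P = P := by
      refine eq_of_le_normalizer fun a ha => ?_
      rw [Sylow.coe_subgroup_smul, Subgroup.mem_pointwise_smul_iff_inv_smul_mem, ← map_inv,
        MulAut.smul_def, MulAut.conj_apply, inv_inv] at ha
      apply hle
      rw [mem_centralizer_singleton_iff]
      have hsa := mem_centralizer_iff.mp (hL'C hs) _ ha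
      calc a * t = (g : G) * (((g : G)⁻¹ * a * (g : G)) * s) * (g : G)⁻¹ := by rw [← hst]; group
        _ = (g : G) * (s * ((g : G)⁻¹ * a * (g : G))) * (g : G)⁻¹ := by rw [hsa]
        _ = t * a := by rw [← hst]; group
    have hgN' : (g : G) ∈ N := Sylow.smul_eq_iff_mem_normalizer.mp hgP
    have hTeq : T' = (S : Subgroup G) ⊓ N := by
      refine eq_of_le_of_card_ge (le_inf hS (map_subtype_le T)) ?_
      rw [hT']
      have := Nat.dvd_gcd (card_dvd_of_le (inf_le_left : (S : Subgroup G) ⊓ N ≤ S))
        (card_dvd_of_le (inf_le_right : (S : Subgroup G) ⊓ N ≤ N))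
      rw [hScard, hN] at this
      exact Nat.le_of_dvd (by norm_num) this
    exact hgT (hTeq ▸ ⟨g.2, hgN'⟩)

end Cfsg.Agent.S1022
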