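import Cfsg.Statements.S1025
import Cfsg.Agent.Lib.ChevStructure.CommAll

set_option autoImplicit false
open Cfsg

namespace Cfsg.Agent.S1025

/-- Chevalley's commutator formula: for roots `s ≠ ±r`, `x_s(u) x_r(t) = x_r(t) x_s(u) · ∏_{i,j>0} x_{ir+js}(C_{ijrs} (-t)^i u^j)`, the product (in order of increasing `i + j`) and the constants being those of `commWord`. -/
theorem result {F : Type*} [Field F] (D : Cfsg.Lie.ChevalleyDatum) (hD : D ∈ [Cfsg.Lie.chevG2, Cfsg.Lie.chevB2, Cfsg.Lie.chevD4, Cfsg.Lie.chevF4, Cfsg.Lie.chevE6, Cfsg.Lie.chevE7, Cfsg.Lie.chevE8]) (r s : ℕ) (hr : r < D.nroots) (hs : s < D.nroots)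
    (hrs : s ≠ r) (hneg : s ≠ D.neg r) (t u : F) :
    D.x F s u * D.x F r t = D.x F r t * D.x F s u * D.wordMat F (D.commWord F r s t u) := by
  obtain ⟨C⟩ := Lib.ChevStructure.nonempty_core D hD
  lift r to Fin D.nroots using hr
  lift s to Fin D.nroots using hs
  rw [C.neg_val] at hneg
  have h := Lib.ChevStructure.comm_formula D hD t u r s (fun e => hrs (by rw [e]))
    (fun e => hneg (by rw [e]))
  simp only [Lib.ChevStructure.commLHS, Lib.ChevStructure.commRHS, Lib.ChevStructure.evalW,
    List.map_append, List.map_map, List.map_cons, List.map_nil, List.prod_append, List.prod_cons,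
    List.prod_nil, mul_one, Int.cast_one, pow_zero, pow_one, one_mul, ← C.xN_eq_x] at h
  rw [h, mul_assoc, mul_assoc]
  congr 2
  simp only [Lie.ChevalleyDatum.wordMat, Lie.ChevalleyDatum.commWord, List.map_map]
  congr 1
  refine List.map_congr_left fun c _ => ?_
  simp only [Function.comp_apply, Int.cast_mul, Int.cast_pow, Int.cast_neg, Int.cast_one]
  congr 1
  rw [neg_pow t]
  ring

end Cfsg.Agent.S1025
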