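import Cfsg.Statements.S1026
import Cfsg.Agent.Lib.ChevStructure.Torus

set_option autoImplicit false
open Cfsg

namespace Cfsg.Agent.S1026

/-- Every element of `U` has a unique expression `∏_{r ∈ Φ⁺} x_r(t_r)`, the product over the positive roots in increasing index order (the coefficient family `t`, supported on the positive roots, exists and is unique); and conversely every such ordered product is the matrix of an element of `U`. -/
theorem result {F : Type*} [Field F] (D : Cfsg.Lie.ChevalleyDatum) (hD : D ∈ [Cfsg.Lie.chevG2, Cfsg.Lie.chevB2, Cfsg.Lie.chevD4, Cfsg.Lie.chevF4, Cfsg.Lie.chevE6, Cfsg.Lie.chevE7, Cfsg.Lie.chevE8]) :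
    (∀ g : GL D.Idx F, g ∈ D.posUnipotent F →
      ∃! t : ℕ → F, (∀ r, ¬ D.IsPosRoot r → t r = 0) ∧
        (g : Matrix D.Idx D.Idx F) = D.wordMat F (D.posRoots.map fun r => (r, t r))) ∧
    (∀ t : ℕ → F, ∃ g : GL D.Idx F, g ∈ D.posUnipotent F ∧
      (g : Matrix D.Idx D.Idx F) = D.wordMat F (D.posRoots.map fun r => (r, t r))) := by
  obtain ⟨S⟩ := Lib.ChevStructure.nonempty_sys D hD
  refine ⟨fun g hg => ?_, fun t => ?_⟩
  · rw [S.toCore.posUnipotent_eq] at hg
    obtain ⟨t, rfl⟩ := S.commOK.exists_posWord F hg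
    classical
    refine ⟨fun r => if h : r < D.nroots then (if D.IsPosRoot r then t ⟨r, h⟩ else 0) else 0, ⟨?_, ?_⟩, ?_⟩
    · intro r hr
      simp [hr]
    · rw [S.toCore.wordMat_posRoots]
      refine congrArg Units.val (S.toCore.wordX_congr F fun r hr => ?_)
      simp [(S.toCore.pos_iff r).2 (S.toCore.mem_posL.1 hr)]
    · rintro t' ⟨h0, h⟩
      rw [S.toCore.wordMat_posRoots] at h
      have hu := S.toCore.wordX_unique F S.toCore.posL_sorted (fun r hr => S.toCore.mem_posL.1 hr)
        (Units.ext h)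
      funext r
      by_cases hr : D.IsPosRoot r
      · have := hu ⟨r, hr.1⟩ (S.toCore.mem_posL.2 ((S.toCore.pos_iff ⟨r, hr.1⟩).1 hr))
        simpa [hr, hr.1] using this.symm
      · simp [hr, h0 r hr]
  · refine ⟨S.toCore.wordX F S.toCore.posL fun r => t r.val, ?_, (S.toCore.wordMat_posRoots t).symm⟩
    rw [S.toCore.posUnipotent_eq]
    exact S.toCore.wordX_mem F (fun r hr => S.toCore.mem_posL.1 hr) _

end Cfsg.Agent.S1026
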