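import Cfsg.Statements.S1034
import Cfsg.Agent.Lib.ChevStructure.Torus

set_option autoImplicit false
open Cfsg

namespace Cfsg.Agent.S1034

/-- Every element of `H` is a product `h_{p_1}(c_1) ⋯ h_{p_l}(c_l)` over the fundamental roots, with non-zero `c_i`. -/
theorem result {F : Type*} [Field F] (D : Cfsg.Lie.ChevalleyDatum) (hD : D ∈ [Cfsg.Lie.chevG2, Cfsg.Lie.chevB2, Cfsg.Lie.chevD4, Cfsg.Lie.chevF4, Cfsg.Lie.chevE6, Cfsg.Lie.chevE7, Cfsg.Lie.chevE8]) (g : GL D.Idx F) (hg : g ∈ D.diagonalSubgroup F) :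
    ∃ c : ℕ → F, (∀ i < D.rank, c i ≠ 0) ∧
      (g : Matrix D.Idx D.Idx F) = D.wordMat F ((List.range D.rank).flatMap fun i => D.hWord (D.simple i) (c i)) := by
  obtain ⟨S⟩ := Lib.ChevStructure.nonempty_sys D hD
  obtain ⟨c, rfl⟩ := S.toCore.mem_diagonal_iff.1 hg
  classical
  refine ⟨fun i => if h : i < D.rank then ((c ⟨i, h⟩ : Fˣ) : F) else 1, fun i hi => by simp [hi], ?_⟩
  rw [S.toCore.HT_list, S.toCore.wordMat_flat, ← List.map_coe_finRange_eq_range, List.map_map,
    ← Units.coeHom_apply (List.prod _), map_list_prod, List.map_map]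
  refine congrArg List.prod (List.map_congr_left fun i _ => ?_)
  simp only [Function.comp_apply, Units.coeHom_apply, Fin.is_lt, dite_true, Fin.eta, S.toCore.simple_eq]
  exact (S.toCore.hMat_eq _ _).symm

end Cfsg.Agent.S1034
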