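import Cfsg.Statements.S1035
import Cfsg.Agent.Lib.ChevStructure.Order.CertG2
import Cfsg.Agent.Lib.ChevStructure.Order.CertF4
import Cfsg.Agent.Lib.ChevStructure.Order.CertE8
import Cfsg.Agent.Lib.ChevStructure.Order.CertE6
import Cfsg.Agent.Lib.ChevStructure.Order.CertE7
import Cfsg.Agent.Lib.ChevStructure.Order.CertB2
import Cfsg.Agent.Lib.ChevStructure.Order.CertD4

set_option autoImplicit false
open Cfsg

namespace Cfsg.Agent.S1035

/-- `d · |H| = (q - 1)^rank` over a field with `q` elements, with `d = 1` (G₂, F₄, E₈), `gcd(3, q-1)` (E₆), `gcd(2, q-1)` (E₇, B₂), `gcd(2, q-1)²` (D₄). -/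
theorem result {F : Type*} [Field F] [Fintype F] {q : ℕ} (hq : Fintype.card F = q)
    (p : Cfsg.Lie.ChevalleyDatum × ℕ)
    (hp : p ∈ [(Cfsg.Lie.chevG2, 1), (Cfsg.Lie.chevF4, 1), (Cfsg.Lie.chevE8, 1), (Cfsg.Lie.chevE6, Nat.gcd 3 (q - 1)),
      (Cfsg.Lie.chevE7, Nat.gcd 2 (q - 1)), (Cfsg.Lie.chevB2, Nat.gcd 2 (q - 1)), (Cfsg.Lie.chevD4, Nat.gcd 2 (q - 1) ^ 2)]) :
    p.2 * Nat.card (p.1.diagonalSubgroup F) = (q - 1) ^ p.1.rank := by
  simp only [List.mem_cons, List.not_mem_nil, or_false] at hp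
  rcases hp with rfl | rfl | rfl | rfl | rfl | rfl | rfl
  · have h := Lib.ChevStructure.Order.CertG2.card_diagonal (K := F) hq
    change (∏ i : Fin 2, Nat.gcd (q - 1) (Lib.ChevStructure.Order.DataTorus.dG2.getD i.val 0)) *
      Nat.card (Cfsg.Lie.chevG2.diagonalSubgroup F) = _ at h
    simp [Lib.ChevStructure.Order.DataTorus.dG2, Fin.prod_univ_succ] at h
    simpa [sq] using h
  · have h := Lib.ChevStructure.Order.CertF4.card_diagonal (K := F) hq
    change (∏ i : Fin 4, Nat.gcd (q - 1) (Lib.ChevStructure.Order.DataTorus.dF4.getD i.val 0)) *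
      Nat.card (Cfsg.Lie.chevF4.diagonalSubgroup F) = _ at h
    simp [Lib.ChevStructure.Order.DataTorus.dF4, Fin.prod_univ_succ] at h
    simpa [sq] using h
  · have h := Lib.ChevStructure.Order.CertE8.card_diagonal (K := F) hq
    change (∏ i : Fin 8, Nat.gcd (q - 1) (Lib.ChevStructure.Order.DataTorus.dE8.getD i.val 0)) *
      Nat.card (Cfsg.Lie.chevE8.diagonalSubgroup F) = _ at h
    simp [Lib.ChevStructure.Order.DataTorus.dE8, Fin.prod_univ_succ] at h
    simpa [sq] using h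
  · have h := Lib.ChevStructure.Order.CertE6.card_diagonal (K := F) hq
    change (∏ i : Fin 6, Nat.gcd (q - 1) (Lib.ChevStructure.Order.DataTorus.dE6.getD i.val 0)) *
      Nat.card (Cfsg.Lie.chevE6.diagonalSubgroup F) = _ at h
    simp [Lib.ChevStructure.Order.DataTorus.dE6, Fin.prod_univ_succ, Nat.gcd_comm (q - 1) 3] at h
    simpa [sq] using h
  · have h := Lib.ChevStructure.Order.CertE7.card_diagonal (K := F) hq
    change (∏ i : Fin 7, Nat.gcd (q - 1) (Lib.ChevStructure.Order.DataTorus.dE7.getD i.val 0)) *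
      Nat.card (Cfsg.Lie.chevE7.diagonalSubgroup F) = _ at h
    simp [Lib.ChevStructure.Order.DataTorus.dE7, Fin.prod_univ_succ, Nat.gcd_comm (q - 1) 2] at h
    simpa [sq] using h
  · have h := Lib.ChevStructure.Order.CertB2.card_diagonal (K := F) hq
    change (∏ i : Fin 2, Nat.gcd (q - 1) (Lib.ChevStructure.Order.DataTorus.dB2.getD i.val 0)) *
      Nat.card (Cfsg.Lie.chevB2.diagonalSubgroup F) = _ at h
    simp [Lib.ChevStructure.Order.DataTorus.dB2, Fin.prod_univ_succ, Nat.gcd_comm (q - 1) 2] at h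
    simpa [sq] using h
  · have h := Lib.ChevStructure.Order.CertD4.card_diagonal (K := F) hq
    change (∏ i : Fin 4, Nat.gcd (q - 1) (Lib.ChevStructure.Order.DataTorus.dD4.getD i.val 0)) *
      Nat.card (Cfsg.Lie.chevD4.diagonalSubgroup F) = _ at h
    simp [Lib.ChevStructure.Order.DataTorus.dD4, Fin.prod_univ_succ, Nat.gcd_comm (q - 1) 2] at h
    simpa [sq] using h

end Cfsg.Agent.S1035
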