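import Cfsg.Statements.S1058
import Cfsg.Agent.Lib.ChevStructure.B2Six

set_option autoImplicit false
open Cfsg

namespace Cfsg.Agent.S1058

/-- B₂(2) ≅ S₆. -/
theorem result {F : Type*} [Field F] [Fintype F] (hF : Fintype.card F = 2) :
    Nonempty (↥(Cfsg.Lie.chevB2.group F) ≃* Equiv.Perm (Fin 6)) := by
  obtain ⟨e⟩ := Lib.ChevStructure.nonempty_zmod_two hF
  obtain ⟨f⟩ := Lib.ChevStructure.nonempty_group_equiv Lib.ChevStructure.Cert.B2.core e
  obtain ⟨g⟩ := Lib.ChevStructure.B2Six.nonempty_equiv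
  exact ⟨f.symm.trans g⟩

end Cfsg.Agent.S1058
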