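import Cfsg.Statements.S1075
import Cfsg.Agent.S1011
import Cfsg.Agent.Lib.LieTwisted.ReeOutBasic
import Mathlib.GroupTheory.Transfer

/-!
The derived subgroup of `²G₂(3)`: transfer to the quotient `t,u,v ↦ u - t²` of the Sylow
3-subgroup gives a normal subgroup of index 3; counting Sylow 7-subgroups shows that it is the
unique minimal normal subgroup and that it is simple.
-/

set_option autoImplicit false
open Cfsg

namespace Cfsg.Agent.S1075

open Cfsg.Lie Cfsg.Agent.Lib.LieTwisted Cfsg.Agent.Lib.LieTwisted.Ree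
  Cfsg.Agent.Lib.LieTwisted.ReeOut

section coords

variable {K : Type*} [Field K] [CharP K 3] [Fintype K] {m : ℕ} (hK : Fintype.card K = 3 ^ (2 * m + 1))

include hK in
lemma card_B1 : Nat.card ↥(B1 (K := K) m) =
    (3 ^ (2 * m + 1)) ^ 3 * (3 ^ (2 * m + 1) - 1) := by
  classical
  let f : (K × K × K) × Kˣ → ↥(B1 (K := K) m) := fun p =>
    ⟨X m p.1.1 p.1.2.1 p.1.2.2 * Y hK p.2, XY_mem_B hK _ _ _ _⟩
  have hf : Function.Bijective f := by
    constructor
    · rintro ⟨⟨a, b, c⟩, y⟩ ⟨⟨a', b', c'⟩, y'⟩ h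
      have h1 : X m a b c * Y hK y = X m a' b' c' * Y hK y' := congrArg Subtype.val h
      have h2 : reeU m a b c * hy m y = reeU m a' b' c' * hy m y' := congrArg Subtype.val h1
      obtain ⟨⟨e1, e2, e3⟩, e4⟩ := reeU_hy_inj h2
      subst e1 e2 e3 e4
      rfl
    · rintro ⟨g, hg⟩
      obtain ⟨t, u, v, y, h⟩ := (borel_twisted hK g.1).1 ⟨mem_B1.1 hg, g.2⟩
      exact ⟨((t, u, v), y), Subtype.ext (Subtype.ext h.symm)⟩
  rw [← Nat.card_congr (Equiv.ofBijective f hf), Nat.card_eq_fintype_card]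
  simp only [Fintype.card_prod, Fintype.card_units, hK]
  ring

end coords

section generic

variable {G : Type*} [Group G] [Finite G]

lemma seven_sylow (hG : Nat.card G = 1512) (Q : Sylow 7 G) : Nat.card ↥(Q : Subgroup G) = 7 := by
  haveI : Fact (Nat.Prime 7) := ⟨by norm_num⟩
  rw [Q.card_eq_multiplicity, hG,
    show (1512 : ℕ) = 7 ^ 1 * 216 by norm_num, Nat.factorization_mul (by norm_num) (by norm_num),
    Finsupp.add_apply, Nat.factorization_pow, Finsupp.smul_apply,
    Nat.Prime.factorization_self (by norm_num : Nat.Prime 7),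
    Nat.factorization_eq_zero_of_not_dvd (by norm_num : ¬ 7 ∣ 216)]
  rfl

lemma card_sylow_seven (hG : Nat.card G = 1512)
    (hdvdN : ∀ K : Subgroup G, K.Normal → K ≠ ⊥ → 28 ∣ Nat.card ↥K) :
    Nat.card (Sylow 7 G) = 36 := by
  haveI : Fact (Nat.Prime 7) := ⟨by norm_num⟩
  obtain ⟨Q⟩ : Nonempty (Sylow 7 G) := inferInstance
  have hmod : Nat.card (Sylow 7 G) % 7 = 1 := card_sylow_modEq_one 7 G
  have hdvd : Nat.card (Sylow 7 G) ∣ 216 := by
    have h := Q.card_dvd_index
    have h2 := (Q : Subgroup G).card_mul_index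
    rw [seven_sylow hG Q, hG] at h2
    rwa [show (Q : Subgroup G).index = 216 by omega] at h
  have h3 : Nat.card (Sylow 7 G) = 1 ∨ Nat.card (Sylow 7 G) = 8 ∨ Nat.card (Sylow 7 G) = 36 := by
    have : ∀ k ∈ Finset.range 217, k ∣ 216 → k % 7 = 1 → k = 1 ∨ k = 8 ∨ k = 36 := by decide +kernel
    exact this _ (Finset.mem_range.2 (by have := Nat.le_of_dvd (by norm_num) hdvd; omega)) hdvd hmod
  have hidx := Q.card_eq_index_normalizer
  have hmul := (Subgroup.normalizer (Q : Set G)).card_mul_index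
  rw [← hidx, hG] at hmul
  rcases h3 with h | h | h
  · exfalso
    haveI := Sylow.normal_of_normalizer_normal Q
    have htop : Subgroup.normalizer (Q : Set G) = ⊤ := by rw [← Subgroup.index_eq_one, ← hidx, h]
    haveI : (Q : Subgroup G).Normal := Subgroup.normalizer_eq_top_iff.1 htop
    have hne : (Q : Subgroup G) ≠ ⊥ := by
      intro hb; have := seven_sylow hG Q; rw [hb, Subgroup.card_bot] at this; omega
    have := hdvdN (Q : Subgroup G) ‹_› hne
    rw [seven_sylow hG Q] at this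
    norm_num at this
  · exfalso
    have hinj : Function.Injective (MulAction.toPermHom G (Sylow 7 G)) := by
      rw [← MonoidHom.ker_eq_bot_iff]
      by_contra hne
      have h28 := hdvdN _ inferInstance hne
      have hle : (MulAction.toPermHom G (Sylow 7 G)).ker ≤ Subgroup.normalizer (Q : Set G) := by
        intro g hg
        rw [MonoidHom.mem_ker] at hg
        exact Sylow.smul_eq_iff_mem_normalizer.1
          (congrArg (fun σ : Equiv.Perm (Sylow 7 G) => σ Q) hg)
      have h2 := h28.trans (Subgroup.card_dvd_of_le hle)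
      rw [h] at hmul
      omega
    have hd := Subgroup.card_dvd_of_injective _ hinj
    rw [hG, Nat.card_perm, h] at hd
    norm_num [Nat.factorial] at hd
  · exact h

lemma sylow_le_ker (hG : Nat.card G = 1512) (N : Subgroup G) [N.Normal] (hN : N.index = 3)
    (Q : Sylow 7 G) : (Q : Subgroup G) ≤ N := by
  intro g hg
  have h7 : g ^ 7 = 1 := by
    have := pow_card_eq_one' (x := (⟨g, hg⟩ : ↥(Q : Subgroup G)))
    rw [seven_sylow hG Q] at this
    exact congrArg Subtype.val this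
  have h3 : g ^ 3 ∈ N := hN ▸ Subgroup.pow_index_mem N g
  have : g = g ^ 7 * ((g ^ 3) ^ 2)⁻¹ := by group
  rw [this, h7, one_mul]
  exact inv_mem (pow_mem h3 2)

/-- A subgroup of order dividing 504 containing all Sylow 7-subgroups is everything or has a
characteristic subgroup of order 36. -/
lemma big (hG : Nat.card G = 1512) (h36 : Nat.card (Sylow 7 G) = 36) (L : Subgroup G)
    (hdvd : Nat.card ↥L ∣ 504) (hall : ∀ Q : Sylow 7 G, (Q : Subgroup G) ≤ L) :
    Nat.card ↥L = 504 ∨ ∃ C : Subgroup ↥L, C.Characteristic ∧ Nat.card ↥C = 36 := by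
  haveI : Fact (Nat.Prime 7) := ⟨by norm_num⟩
  obtain ⟨Q⟩ : Nonempty (Sylow 7 G) := inferInstance
  let P : Sylow 7 ↥L := Q.subtype (hall Q)
  have hP7 : Nat.card ↥(P : Subgroup ↥L) = 7 := by
    show Nat.card ↥((Q : Subgroup G).subgroupOf L) = 7
    rw [Nat.card_congr (Subgroup.subgroupOfEquivOfLe (hall Q)).toEquiv, seven_sylow hG Q]
  have hbij : Function.Bijective (fun Q' : Sylow 7 G => Q'.subtype (hall Q')) :=
    ⟨fun A A' h => Sylow.ext (le_antisymm
      (fun z hz => (SetLike.ext_iff.1 (congrArg Sylow.toSubgroup h) ⟨z, hall A hz⟩).1 hz)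
      (fun z hz => (SetLike.ext_iff.1 (congrArg Sylow.toSubgroup h) ⟨z, hall A' hz⟩).2 hz)),
     fun R => let ⟨S, hS⟩ := R.exists_comap_subtype_eq; ⟨S, Sylow.ext hS⟩⟩
  have hn : Nat.card (Sylow 7 ↥L) = 36 := by
    rw [← Nat.card_congr (Equiv.ofBijective _ hbij), h36]
  have hidx := P.card_eq_index_normalizer
  have hmul := (Subgroup.normalizer (P : Set ↥L)).card_mul_index
  rw [← hidx, hn] at hmul
  have h7L : 7 ∣ Nat.card ↥L := hP7 ▸ Subgroup.card_subgroup_dvd_card _
  have hcases : Nat.card ↥L = 252 ∨ Nat.card ↥L = 504 := by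
    have : ∀ k ∈ Finset.range 505, k ∣ 504 → 7 ∣ k → 36 ∣ k → k = 252 ∨ k = 504 := by decide +kernel
    exact this _ (Finset.mem_range.2 (by have := Nat.le_of_dvd (by norm_num) hdvd; omega)) hdvd h7L
      ⟨_, by rw [← hmul, mul_comm]⟩
  rcases hcases with h252 | h504
  swap
  · exact Or.inl h504
  right
  have hle : (P : Subgroup ↥L) ≤ Subgroup.normalizer (P : Set ↥L) := Subgroup.le_normalizer
  have hPN : (P : Subgroup ↥L) = Subgroup.normalizer (P : Set ↥L) :=
    Subgroup.eq_of_le_of_card_ge hle (by rw [hP7]; rw [h252] at hmul; omega)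
  haveI : IsCyclic ↥(P : Subgroup ↥L) := isCyclic_of_prime_card hP7
  have hNC : Subgroup.normalizer (P : Set ↥L) ≤ Subgroup.centralizer (P : Set ↥L) := by
    rw [← hPN]
    intro a ha
    rw [Subgroup.mem_centralizer_iff]
    intro b hb
    exact congrArg Subtype.val ((IsCyclic.commGroup (α := ↥(P : Subgroup ↥L))).mul_comm
      ⟨b, hb⟩ ⟨a, ha⟩)
  have hc := MonoidHom.ker_transferSylow_isComplement' P hNC
  have hcard : Nat.card ↥(MonoidHom.transferSylow P hNC).ker = 36 := by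
    have := hc.card_mul_card
    rw [hP7, h252] at this
    omega
  refine ⟨(MonoidHom.transferSylow P hNC).ker, ?_, hcard⟩
  have hi : (MonoidHom.transferSylow P hNC).ker.index = 7 := by
    have := (MonoidHom.transferSylow P hNC).ker.card_mul_index
    rw [hcard, h252] at this
    omega
  rw [Subgroup.characteristic_iff_map_le]
  intro φ
  rw [Subgroup.map_le_iff_le_comap]
  intro c hc'
  rw [Subgroup.mem_comap]
  show φ c ∈ _
  have hc36 : c ^ 36 = 1 := by
    have := pow_card_eq_one' (x := (⟨c, hc'⟩ : ↥(MonoidHom.transferSylow P hNC).ker))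
    rw [hcard] at this
    exact congrArg Subtype.val this
  have h7 : (φ c) ^ 7 ∈ (MonoidHom.transferSylow P hNC).ker := by
    have h0 := Subgroup.pow_index_mem (MonoidHom.transferSylow P hNC).ker (φ c)
    rwa [hi] at h0
  have : φ c = (φ c) ^ 36 * (((φ c) ^ 7) ^ 5)⁻¹ := by group
  rw [this, ← map_pow, hc36, map_one, one_mul]
  exact inv_mem (pow_mem h7 5)

lemma le_of_seven (H : Subgroup G) [H.Normal] (h7 : 7 ∣ Nat.card ↥H)
    (hQ : ∀ Q : Sylow 7 G, Nat.card ↥(Q : Subgroup G) = 7) (Q : Sylow 7 G) : (Q : Subgroup G) ≤ H := by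
  haveI : Fact (Nat.Prime 7) := ⟨by norm_num⟩
  obtain ⟨g, hg⟩ := exists_prime_orderOf_dvd_card' 7 h7
  have hg' : Nat.card ↥(Subgroup.zpowers (g : G)) = 7 := by
    rw [Nat.card_zpowers, Subgroup.orderOf_coe, hg]
  obtain ⟨Q', hQ'⟩ := (IsPGroup.of_card (p := 7) (n := 1) (by rw [hg', pow_one])).exists_le_sylow
  have e : Subgroup.zpowers (g : G) = Q' := Subgroup.eq_of_le_of_card_ge hQ' (by rw [hQ, hg'])
  obtain ⟨x, hx⟩ := MulAction.exists_smul_eq G Q' Q
  rw [← hx, Sylow.coe_subgroup_smul, ← e]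
  intro z hz
  obtain ⟨n, hn, rfl⟩ := Subgroup.mem_map.1 hz
  exact Subgroup.Normal.conj_mem ‹_› n (Subgroup.zpowers_le.2 g.2 hn) x

theorem main (hG : Nat.card G = 1512)
    (hdvdN : ∀ K : Subgroup G, K.Normal → K ≠ ⊥ → 28 ∣ Nat.card ↥K)
    (N : Subgroup G) [N.Normal] (hN : N.index = 3) :
    Nat.card ↥N = 504 ∧ IsSimpleGroup ↥N ∧
      ∀ K : Subgroup G, K.Normal → K ≠ ⊥ → K ≤ N → K = N := by
  haveI : Fact (Nat.Prime 7) := ⟨by norm_num⟩
  have hcardN : Nat.card ↥N = 504 := by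
    have h := N.card_mul_index
    rw [hN, hG] at h
    omega
  have h36 := card_sylow_seven hG hdvdN
  refine ⟨hcardN, ?_, ?_⟩
  swap
  · intro K hK hK1 hKN
    haveI := hK
    have h28 := hdvdN K hK hK1
    have hall := le_of_seven K (dvd_trans (by norm_num) h28) (seven_sylow hG)
    rcases big hG h36 K (hcardN ▸ Subgroup.card_dvd_of_le hKN) hall with h | ⟨C, hC, hC36⟩
    · exact Subgroup.eq_of_le_of_card_ge hKN (by rw [hcardN, h])
    · exfalso
      have hcC : Nat.card ↥(C.map K.subtype) = 36 := by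
        rw [Subgroup.card_map_of_injective K.subtype_injective, hC36]
      have := hdvdN (C.map K.subtype) inferInstance (fun hb => by
        rw [hb, Subgroup.card_bot] at hcC; omega)
      rw [hcC] at this
      norm_num at this
  haveI : Nontrivial ↥N := Finite.one_lt_card_iff_nontrivial.1 (by rw [hcardN]; norm_num)
  refine ⟨fun L hL => ?_⟩
  by_contra hcon
  obtain ⟨hbot, htop⟩ := not_or.1 hcon
  have hsup : ∀ A B' : Subgroup ↥N, A.Normal → ¬ 7 ∣ Nat.card ↥A → ¬ 7 ∣ Nat.card ↥B' →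
      ¬ 7 ∣ Nat.card ↥(A ⊔ B') := by
    intro A B' hA ha hb hd
    haveI := hA
    have h1 := Subgroup.card_mul_index (A.subgroupOf (A ⊔ B'))
    rw [Nat.card_congr (Subgroup.subgroupOfEquivOfLe (le_sup_left (b := B'))).toEquiv] at h1
    have h2 : (A.subgroupOf (A ⊔ B')).index ∣ Nat.card ↥B' := by
      show A.relIndex (A ⊔ B') ∣ _
      rw [sup_comm, Subgroup.relIndex_sup_right]
      exact Subgroup.index_dvd_card _
    rw [← h1] at hd
    rcases (Nat.Prime.dvd_mul (by norm_num)).1 hd with h | h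
    · exact ha h
    · exact hb (h.trans h2)
  have key : ∀ C : Subgroup ↥N, C.Normal → C ≠ ⊥ → ¬ 7 ∣ Nat.card ↥C → False := by
    intro C hC hC1 h7
    obtain ⟨A, ⟨hA, hA7⟩, hmax⟩ :=
      (Set.toFinite {A : Subgroup ↥N | A.Normal ∧ ¬ 7 ∣ Nat.card ↥A}).exists_maximalFor id _ ⟨C, hC, h7⟩
    haveI := hA
    have hbig : ∀ B' : Subgroup ↥N, B'.Normal → ¬ 7 ∣ Nat.card ↥B' → B' ≤ A := by
      intro B' hB hb
      haveI := hB
      exact le_sup_right.trans (hmax (j := A ⊔ B') ⟨inferInstance, hsup A B' hA hA7 hb⟩ le_sup_left)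
    haveI hchar : A.Characteristic := by
      rw [Subgroup.characteristic_iff_map_le]
      intro φ
      exact hbig _ (Subgroup.Normal.map hA _ φ.surjective) (by
        rwa [Subgroup.card_map_of_injective φ.injective])
    have hne : A.map N.subtype ≠ ⊥ := by
      intro hb
      rw [Subgroup.map_eq_bot_iff_of_injective _ N.subtype_injective] at hb
      exact hC1 (le_bot_iff.1 (hb ▸ hbig C hC h7))
    have := hdvdN (A.map N.subtype) inferInstance hne
    rw [Subgroup.card_map_of_injective N.subtype_injective] at this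
    exact hA7 (dvd_trans (by norm_num) this)
  have h7 : 7 ∣ Nat.card ↥L := by_contra fun h => key L hL hbot h
  haveI := hL
  have hc7 : ∀ R : Sylow 7 ↥N, Nat.card ↥(R : Subgroup ↥N) = 7 := by
    intro R
    obtain ⟨S, hS⟩ := R.exists_comap_subtype_eq
    rw [← hS]
    show Nat.card ↥((S : Subgroup G).subgroupOf N) = 7
    rw [Nat.card_congr (Subgroup.subgroupOfEquivOfLe (sylow_le_ker hG N hN S)).toEquiv, seven_sylow hG S]
  have hall : ∀ Q : Sylow 7 G, (Q : Subgroup G) ≤ L.map N.subtype := by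
    intro Q z hz
    have hP := le_of_seven L h7 hc7 (Q.subtype (sylow_le_ker hG N hN Q))
    exact ⟨⟨z, sylow_le_ker hG N hN Q hz⟩, hP hz, rfl⟩
  have hcardM : Nat.card ↥(L.map N.subtype) = Nat.card ↥L :=
    Subgroup.card_map_of_injective N.subtype_injective
  rcases big hG h36 _ (hcardN ▸ Subgroup.card_dvd_of_le (Subgroup.map_subtype_le L)) hall with h | ⟨C, hC, hC36⟩
  · exact htop (Subgroup.eq_top_of_card_eq L (by rw [← hcardM, h, hcardN]))
  · let e : ↥L ≃* ↥(L.map N.subtype) := L.equivMapOfInjective N.subtype N.subtype_injective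
    have hchar : (C.map e.symm.toMonoidHom).Characteristic := by
      rw [Subgroup.characteristic_iff_map_le]
      intro φ
      have h0 := (Subgroup.characteristic_iff_map_le.1 hC) ((e.symm.trans φ).trans e)
      rintro _ ⟨_, ⟨c, hc, rfl⟩, rfl⟩
      refine ⟨e (φ (e.symm c)), h0 ⟨c, hc, rfl⟩, ?_⟩
      simp
    haveI := hchar
    have hcard : Nat.card ↥((C.map e.symm.toMonoidHom).map L.subtype) = 36 := by
      rw [Subgroup.card_map_of_injective L.subtype_injective,
        Subgroup.card_map_of_injective e.symm.injective, hC36]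
    refine key ((C.map e.symm.toMonoidHom).map L.subtype) inferInstance (fun hb => ?_) (by rw [hcard]; norm_num)
    rw [hb, Subgroup.card_bot] at hcard
    omega

end generic

set_option maxHeartbeats 1000000
set_option maxRecDepth 8000

local notation "G3" => RG (ZMod 3) 0
local notation "U" => U1 (K := ZMod 3) 0
local notation "B" => B1 (K := ZMod 3) 0

lemma hK3 : Fintype.card (ZMod 3) = 3 ^ (2 * 0 + 1) := by simp

lemma card_G3 : Nat.card G3 = 1512 := by
  rw [card_twisted hK3]; norm_num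

lemma card_U : Nat.card ↥U = 27 := by
  rw [Nat.card_congr (Subgroup.subgroupOfEquivOfLe inf_le_right).toEquiv, card_pos_twisted hK3]
  norm_num

lemma X_mul3 (t u v t' u' v' : ZMod 3) :
    ∃ w, X 0 t u v * X 0 t' u' v' = X 0 (t + t') (u + u' - t' * t) w := by
  rw [X_mul hK3]
  have : sg 0 t' = t' := by
    rw [sg_apply, pow_zero, pow_one]
    exact ZMod.pow_card t'
  rw [this]
  exact ⟨_, rfl⟩

/-- `t,u,v ↦ u - t²` on the Sylow 3-subgroup. -/
noncomputable def psiFun (z : ↥U) : Multiplicative (ZMod 3) :=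
  Multiplicative.ofAdd
    (((mem_U hK3).1 z.2).choose_spec.choose - ((mem_U hK3).1 z.2).choose ^ 2)

lemma psiFun_X {z : ↥U} {t u v : ZMod 3} (h : (z : G3) = X 0 t u v) :
    psiFun z = Multiplicative.ofAdd (u - t ^ 2) := by
  have hs := ((mem_U hK3).1 z.2).choose_spec.choose_spec.choose_spec
  obtain ⟨ht, hu, -⟩ := X_inj (h.symm.trans hs)
  exact congrArg₂ (fun a b : ZMod 3 => Multiplicative.ofAdd (a - b ^ 2)) hu.symm ht.symm

/-- The character. -/
noncomputable def psi : ↥U →* Multiplicative (ZMod 3) :=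
  MonoidHom.mk' psiFun (by
    intro a b
    obtain ⟨t, u, v, ha⟩ := (mem_U hK3).1 a.2
    obtain ⟨t', u', v', hb⟩ := (mem_U hK3).1 b.2
    obtain ⟨w, hw⟩ := X_mul3 t u v t' u' v'
    rw [psiFun_X ha, psiFun_X hb,
      psiFun_X (z := a * b) (t := t + t') (u := u + u' - t' * t) (v := w) (by
        rw [Subgroup.coe_mul, ha, hb, hw]),
      ← ofAdd_add]
    congr 1
    have h3 : (3 : ZMod 3) = 0 := by decide
    linear_combination (-(t * t')) * h3)

lemma psi_X {z : ↥U} {t u v : ZMod 3} (h : (z : G3) = X 0 t u v) :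
    psi z = Multiplicative.ofAdd (u - t ^ 2) := psiFun_X h

lemma psi_Y {z w : ↥U} (y : (ZMod 3)ˣ) (h : Y hK3 y * (z : G3) * (Y hK3 y)⁻¹ = w) :
    psi w = psi z := by
  obtain ⟨t, u, v, hz⟩ := (mem_U hK3).1 z.2
  have hc := conj_Y_X hK3 y t u v
  rw [MulAut.conj_apply, ← hz, h] at hc
  rw [psi_X hz, psi_X hc, aHom_val, bHom_val]
  have hs : sg 0 (y : ZMod 3) = y := by
    rw [sg_apply, pow_zero, pow_one]
    exact ZMod.pow_card _
  rw [hs, div_self (Units.ne_zero y), one_mul]
  have key : ∀ (c d : ZMod 3), d ≠ 0 → (d * c) ^ 2 = c ^ 2 := by decide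
  rw [pow_two (y : ZMod 3), mul_div_assoc, div_self (Units.ne_zero y), mul_one,
    key t y (Units.ne_zero y)]

lemma psi_conj_U (g : ↥U) {z w : ↥U} (h : (g : G3) * z * (g : G3)⁻¹ = w) : psi w = psi z := by
  have : w = g * z * g⁻¹ := Subtype.ext (by rw [← h]; rfl)
  rw [this, map_mul, map_mul, map_inv, mul_comm (psi g), mul_inv_cancel_right]

lemma U_le_B : U ≤ B := fun _ hx => ⟨pos_le_borel hx.1, Subtype.mem _⟩

lemma B_cases {g : G3} (hg : g ∈ B) : ∃ (t u v : ZMod 3) (y : (ZMod 3)ˣ), g = X 0 t u v * Y hK3 y := by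
  obtain ⟨t, u, v, y, h⟩ := (borel_twisted hK3 g.1).1 ⟨mem_B1.1 hg, g.2⟩
  exact ⟨t, u, v, y, Subtype.ext h⟩

lemma conj_U_of_mem_B {g : G3} (hg : g ∈ B) {x : G3} (hx : x ∈ U) : g * x * g⁻¹ ∈ U := by
  obtain ⟨t, u, v, y, rfl⟩ := B_cases hg
  have h1 := (conj_Y_mem hK3 y x).2 hx
  rw [MulAut.conj_apply] at h1
  have h2 := conj_X_mem hK3 t u v h1
  rwa [show X 0 t u v * Y hK3 y * x * (X 0 t u v * Y hK3 y)⁻¹ =
    X 0 t u v * (Y hK3 y * x * (Y hK3 y)⁻¹) * (X 0 t u v)⁻¹ by group]

lemma psi_conj_B {g : G3} (hg : g ∈ B) {z w : ↥U} (h : g * (z : G3) * g⁻¹ = w) :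
    psi w = psi z := by
  obtain ⟨t, u, v, y, rfl⟩ := B_cases hg
  have h1 : Y hK3 y * (z : G3) * (Y hK3 y)⁻¹ ∈ U := by
    have := (conj_Y_mem hK3 y (z : G3)).2 z.2
    rwa [MulAut.conj_apply] at this
  rw [← psi_Y y (z := z) (w := ⟨_, h1⟩) rfl]
  refine psi_conj_U ⟨X 0 t u v, X_mem hK3 t u v⟩ ?_
  rw [← h]; group

lemma isPGroup_U : IsPGroup 3 ↥U := IsPGroup.of_card (n := 3) (by rw [card_U]; norm_num)

/-- The Sylow 3-subgroup. -/
noncomputable def P3 : Sylow 3 G3 :=
  haveI : Fact (Nat.Prime 3) := ⟨Nat.prime_three⟩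
  Sylow.ofCard U (by
    rw [card_U, card_G3]
    have : (1512 : ℕ).factorization 3 = 3 := by
      rw [show (1512 : ℕ) = 3 ^ 3 * 56 by norm_num, Nat.factorization_mul (by norm_num) (by norm_num),
        Finsupp.add_apply, Nat.factorization_pow, Finsupp.smul_apply,
        Nat.Prime.factorization_self Nat.prime_three,
        Nat.factorization_eq_zero_of_not_dvd (by norm_num : ¬ 3 ∣ 56)]
      rfl
    rw [this]; norm_num)

lemma coe_P3 : (P3 : Subgroup G3) = U := rfl

open scoped Pointwise in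
lemma mem_B_of_conj {g x : G3} (hx : x ∈ U) (hx1 : x ≠ 1) (h : g⁻¹ * x * g ∈ U) : g ∈ B := by
  haveI : Fact (Nat.Prime 3) := ⟨Nat.prime_three⟩
  have e : g • P3 = P3 := by
    by_contra hne
    have := sylow_TI hK3 (g • P3) P3 hne
    rw [Subgroup.eq_bot_iff_forall] at this
    refine hx1 (this x ⟨?_, hx⟩)
    show x ∈ MulAut.conj g • (U : Subgroup G3)
    rw [Subgroup.mem_pointwise_smul_iff_inv_smul_mem]
    simpa [MulAut.conj_apply] using h
  refine mem_B_of_normalizes hK3 fun y hy => ?_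
  have hh : MulAut.conj g • (U : Subgroup G3) = U := by
    have := congrArg (fun P : Sylow 3 G3 => (P : Subgroup G3)) e
    simpa [Sylow.coe_subgroup_smul, coe_P3] using this
  rw [← hh, Subgroup.mem_pointwise_smul_iff_inv_smul_mem]
  simpa [MulAut.conj_apply, mul_assoc] using hy

/-- The transfer. -/
noncomputable def V3 : G3 →* Multiplicative (ZMod 3) := MonoidHom.transfer psi

lemma index_U : (U).index = 56 := by
  have h := (U).card_mul_index
  rw [card_U, card_G3] at h
  omega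

lemma psi_conj_pow (x : ↥U) (k : ℕ) (g₀ : G3) (h : g₀⁻¹ * (x : G3) ^ k * g₀ ∈ U) :
    psi ⟨g₀⁻¹ * (x : G3) ^ k * g₀, h⟩ = psi x ^ k := by
  rw [← map_pow]
  by_cases h1 : (x : G3) ^ k = 1
  · congr 1; apply Subtype.ext; simp [h1]
  · have hg : g₀⁻¹ ∈ B := inv_mem (mem_B_of_conj (pow_mem x.2 k) h1 h)
    exact psi_conj_B hg (z := x ^ k) (by simp)

open MulAction Subgroup in
lemma transfer_eq (x : ↥U) : V3 (x : G3) = psi x ^ 56 := by
  classical
  let := Subgroup.fintypeQuotientOfFiniteIndex (H := U)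
  rw [V3, MonoidHom.transfer_eq_prod_quotient_orbitRel_zpowers_quot,
    Finset.prod_congr rfl fun q _ => psi_conj_pow x _ _ _, Finset.prod_pow_eq_pow_sum,
    ← index_U, index_eq_sum_minimalPeriod U (x : G3)]

lemma exists_V3_ne_one : ∃ g, V3 g ≠ 1 := by
  refine ⟨X 0 0 1 0, ?_⟩
  have := transfer_eq ⟨X 0 0 1 0, X_mem hK3 0 1 0⟩
  rw [this, psi_X (z := ⟨X 0 0 1 0, X_mem hK3 0 1 0⟩) (t := 0) (u := 1) (v := 0) rfl]
  intro h
  have h3 : ∀ z : Multiplicative (ZMod 3), z ^ 3 = 1 := by decide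
  rw [show (56 : ℕ) = 3 * 18 + 2 by norm_num, pow_add, pow_mul, h3, one_pow, one_mul] at h
  revert h
  decide

lemma index_ker : V3.ker.index = 3 := by
  have h : V3.range = ⊤ := by
    haveI : Fact (Nat.Prime (Nat.card (Multiplicative (ZMod 3)))) := ⟨by simp; norm_num⟩
    refine (V3.range.eq_bot_or_eq_top_of_prime_card).resolve_left fun hb => ?_
    obtain ⟨g, hg⟩ := exists_V3_ne_one
    exact hg ((Subgroup.eq_bot_iff_forall _).1 hb _ ⟨g, rfl⟩)
  rw [Subgroup.index_ker, h, Subgroup.card_top]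
  simp

lemma card_B_dvd : Nat.card G3 = 28 * Nat.card ↥B := by
  rw [card_G3, card_B1 hK3]
  norm_num

lemma w0_not_mem_B : w0 (K := ZMod 3) 0 ∉ B := fun h => n0_not_borel (mem_B1.1 h)

lemma sup_eq_top_of_not_le {K : Subgroup G3} (hK : ¬ K ≤ B) : K ⊔ B = ⊤ := by
  obtain ⟨k, hk, hkB⟩ := SetLike.not_le_iff_exists.1 hK
  have hw : w0 (K := ZMod 3) 0 ∈ K ⊔ B := by
    rcases bruhat' hK3 k with ⟨t, u, v, y, h⟩ | ⟨t, u, v, y, t', u', v', h⟩
    · exact absurd (h ▸ XY_mem_B hK3 t u v y) hkB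
    · have h' : w0 0 = (X 0 t u v * Y hK3 y)⁻¹ * k * (X 0 t' u' v')⁻¹ := by rw [h]; group
      rw [h']
      exact mul_mem (mul_mem (inv_mem (le_sup_right (a := K) (XY_mem_B hK3 t u v y)))
        (le_sup_left (b := B) hk)) (inv_mem (le_sup_right (a := K) (U_le_B (X_mem hK3 t' u' v'))))
  rw [eq_top_iff]
  intro z _
  rcases bruhat' hK3 z with ⟨t, u, v, y, rfl⟩ | ⟨t, u, v, y, t', u', v', rfl⟩
  · exact le_sup_right (a := K) (XY_mem_B hK3 t u v y)
  · exact mul_mem (mul_mem (le_sup_right (a := K) (XY_mem_B hK3 t u v y)) hw)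
      (le_sup_right (a := K) (U_le_B (X_mem hK3 t' u' v')))

lemma dvd_card_normal {K : Subgroup G3} [hn : K.Normal] (hK : K ≠ ⊥) : 28 ∣ Nat.card ↥K := by
  have hKB : ¬ K ≤ B := fun h =>
    hK (le_bot_iff.1 ((Subgroup.normal_le_normalCore.2 h).trans (core_trivial hK3).le))
  have htop := sup_eq_top_of_not_le hKB
  have h1 : (K.subgroupOf B).index = K.index := by
    show K.relIndex B = K.index
    rw [← Subgroup.relIndex_sup_right, sup_comm, htop, Subgroup.relIndex_top_right]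
  have hG := card_B_dvd
  have hK' := K.card_mul_index
  obtain ⟨c, hc⟩ : K.index ∣ Nat.card ↥B := h1 ▸ Subgroup.index_dvd_card _
  rw [hc] at hG
  refine ⟨c, Nat.eq_of_mul_eq_mul_right (Nat.pos_of_ne_zero K.index_ne_zero_of_finite) ?_⟩
  rw [hK', hG]; ring


/-- The derived subgroup of `²G₂(3)` has order 504 and is isomorphic to `PSL₂(8)`. -/
theorem result {L : Type*} [Field L] [Fintype L] (hL : Fintype.card L = 8) :
    Nat.card ↥(commutator ↥(Cfsg.Lie.twistedG2 (ZMod 3) 1)) = 504 ∧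
      Nonempty (↥(commutator ↥(Cfsg.Lie.twistedG2 (ZMod 3) 1)) ≃* Matrix.ProjectiveSpecialLinearGroup (Fin 2) L) := by
  show Nat.card ↥(commutator G3) = 504 ∧ Nonempty (↥(commutator G3) ≃* _)
  obtain ⟨hcard, hsimp, huniq⟩ :=
    main card_G3 (fun K hK hK1 => @dvd_card_normal K hK hK1) (MonoidHom.ker V3) index_ker
  haveI := hsimp
  have hne : commutator G3 ≠ ⊥ := by
    intro hb
    have hc : ∀ a b : G3, a * b = b * a := by
      intro a b
      have := Subgroup.commutator_mem_commutator (Subgroup.mem_top a) (Subgroup.mem_top b)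
      rw [← commutator_def, hb, Subgroup.mem_bot] at this
      exact commutatorElement_eq_one_iff_mul_comm.1 this
    haveI hn : (B).Normal := ⟨fun x hx g => by rwa [hc g x, mul_inv_cancel_right]⟩
    have hB : B = ⊥ :=
      le_bot_iff.1 (((Subgroup.normal_le_normalCore (H := B)).2 le_rfl).trans (core_trivial hK3).le)
    exact one_ne_zero (X_inj (congrArg id (show X 0 (0 : ZMod 3) 1 0 = X 0 0 0 0 by
      rw [X_zero]; exact Subgroup.mem_bot.1 (hB ▸ U_le_B (X_mem hK3 0 1 0))))).2.1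
  have heq : commutator G3 = MonoidHom.ker V3 :=
    huniq _ inferInstance hne (Abelianization.commutator_subset_ker V3)
  rw [heq]
  exact ⟨hcard, Cfsg.Agent.S1011.result hcard hL⟩

end Cfsg.Agent.S1075
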