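import Cfsg.Statements.S1080
-- import your own Cfsg.Agent.* helpers here

set_option autoImplicit false
open Cfsg

namespace Cfsg.Agent.S1080

open Cfsg.Lie

lemma xMat_map {F : Type*} [Field F] (D : ChevalleyDatum) (f : F ≃+* F) (r : Fin D.nroots) (t : F) :
    (D.xMat F r t).map f = D.xMat F r (f t) := by
  ext row col
  simp only [Matrix.map_apply, ChevalleyDatum.xMat, Matrix.of_apply]
  rcases col with i | s
  · rcases row with i' | u
    · dsimp only; split_ifs <;> simp
    · dsimp only; split_ifs <;> simp
  · dsimp only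
    split_ifs with h1 h2
    · rcases row with i' | u
      · simp
      · dsimp only; split_ifs <;> simp
    · rcases row with i' | u
      · simp
      · dsimp only; split_ifs <;> simp
    · rcases row with i' | u
      · simp
      · simp [map_list_sum, List.map_map, Function.comp_def, apply_ite (f : F → F)]

/-- Field automorphisms: for every field automorphism `f` there is a group automorphism sending each `x_r(t)` to `x_r(f t)`. -/
theorem result {F : Type*} [Field F] (D : Cfsg.Lie.ChevalleyDatum) (hD : D ∈ [Cfsg.Lie.chevG2, Cfsg.Lie.chevB2, Cfsg.Lie.chevD4, Cfsg.Lie.chevF4, Cfsg.Lie.chevE6, Cfsg.Lie.chevE7, Cfsg.Lie.chevE8]) (f : F ≃+* F) :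
    ∃ α : ↥(D.group F) ≃* ↥(D.group F), ∀ (g : ↥(D.group F)) (r : ℕ) (t : F), r < D.nroots →
      ((g : GL D.Idx F) : Matrix D.Idx D.Idx F) = D.x F r t → ((α g : GL D.Idx F) : Matrix D.Idx D.Idx F) = D.x F r (f t) := by
  have hGL : ∀ (f : F ≃+* F) (g : GL D.Idx F), g ∈ D.group F →
      Matrix.GeneralLinearGroup.map (f : F →+* F) g ∈ D.group F := by
    intro f g hg
    induction hg using Subgroup.closure_induction with
    | mem x hx =>
      obtain ⟨r, t, hx⟩ := hx
      refine Subgroup.subset_closure ⟨r, f t, ?_⟩
      show (x : Matrix D.Idx D.Idx F).map f = _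
      rw [hx, xMat_map]
    | one => simp
    | mul x y _ _ hx hy => simpa [map_mul] using mul_mem hx hy
    | inv x _ hx => simpa [map_inv] using inv_mem hx
  have hcomp : ∀ (f : F ≃+* F) (g : GL D.Idx F),
      Matrix.GeneralLinearGroup.map (f.symm : F →+* F) (Matrix.GeneralLinearGroup.map (f : F →+* F) g) = g := by
    intro f g
    ext i j
    simp
  refine ⟨{ toFun := fun g => ⟨_, hGL f g g.2⟩
            invFun := fun g => ⟨_, hGL f.symm g g.2⟩
            left_inv := fun g => Subtype.ext (hcomp f g)
            right_inv := fun g => Subtype.ext (by simpa using hcomp f.symm g)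
            map_mul' := fun a b => Subtype.ext (map_mul _ _ _) }, ?_⟩
  intro g r t hr hg
  show ((g : GL D.Idx F) : Matrix D.Idx D.Idx F).map f = _
  rw [hg]
  simp only [ChevalleyDatum.x, hr, dif_pos, xMat_map]

end Cfsg.Agent.S1080
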