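import Cfsg.Statements.S1095
import Cfsg.Agent.Lib.ChevStructure.Words
import Cfsg.Agent.Lib.ChevStructure.Instances

set_option autoImplicit false
open Cfsg

namespace Cfsg.Agent.S1095

open Cfsg.Lie Cfsg.Agent.Lib.ChevStructure

theorem eta_mul {D : ChevalleyDatum} (C : Core D) (i : Fin D.rank) (s : Rt D) :
    C.η i s * C.η i (C.w i s) = (((-1 : ℤˣ) ^ A D i s : ℤˣ) : ℤ) := by
  have h := congrArg (fun g : GL D.Idx ℤ => (g : Matrix D.Idx D.Idx ℤ) (Sum.inr s) (Sum.inr s))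
    (C.nR_mul ℤ (C.p i) 1 1)
  rw [show C.nR ℤ (C.p i) 1 = C.P ℤ i from rfl] at h
  simp only [Units.val_mul, C.P_val, Matrix.mul_apply, Fintype.sum_sum_type, Core.hD, Core.diag,
    Pm, Matrix.map_apply, Matrix.of_apply, Sum.elim_inr, Matrix.diagonal_apply_eq] at h
  rw [Finset.sum_eq_single (C.w i s)] at h
  · simpa [C.w_w, C.pr_p, mul_comm] using h
  · intro b _ hb; simp [hb]
  · simp

/-- `n_p` (p = p_{i+1} fundamental) is the signed monomial matrix `h_{p_j} ↦ h_{p_j} - A_{p_j,p} h_p`, `e_s ↦ η_s e_{w_p(s)}`, with `η_s = ±1`, `η_p = η_{-p} = -1`, `η_s η_{w_p(s)} = (-1)^{A_{p,s}}`, `η_s η_{-s} = 1`. -/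
theorem result {F : Type*} [Field F] (D : Cfsg.Lie.ChevalleyDatum) (hD : D ∈ [Cfsg.Lie.chevG2, Cfsg.Lie.chevB2, Cfsg.Lie.chevD4, Cfsg.Lie.chevF4, Cfsg.Lie.chevE6, Cfsg.Lie.chevE7, Cfsg.Lie.chevE8]) (i : ℕ) (hi : i < D.rank) :
    ∃ η : ℕ → ℤ, (∀ s < D.nroots, η s = 1 ∨ η s = -1) ∧ η (D.simple i) = -1 ∧ η (D.neg (D.simple i)) = -1 ∧
      (∀ s < D.nroots, η s * η (D.reflectRoot i s) = (-1) ^ (D.cartan i s).natAbs ∧ η s * η (D.neg s) = 1) ∧
      D.nMat F (D.simple i) 1 = Matrix.of (fun (row col : D.Idx) =>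
        Sum.elim
          (fun j' : Fin D.rank => Sum.elim
            (fun j : Fin D.rank => (if j' = j then (1 : F) else 0) - (if (j' : ℕ) = i then ((D.cartan j (D.simple i) : ℤ) : F) else 0))
            (fun _ => (0 : F)) col)
          (fun s' : Fin D.nroots => Sum.elim
            (fun _ => (0 : F))
            (fun s : Fin D.nroots => if (s' : ℕ) = D.reflectRoot i s then ((η s : ℤ) : F) else 0) col)
          row) := by
  obtain ⟨C⟩ := nonempty_core D hD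
  obtain ⟨i, rfl⟩ : ∃ k : Fin D.rank, k.val = i := ⟨⟨i, hi⟩, rfl⟩
  refine ⟨fun s => if h : s < D.nroots then C.η i ⟨s, h⟩ else 1, ?_, ?_, ?_, ?_, ?_⟩
  · intro s hs; simpa [hs] using C.η_one i ⟨s, hs⟩
  · simp [C.simple_eq, C.η_p]
  · have e : D.neg (D.simple i) = (C.p i).rev.val := by rw [C.simple_eq]; exact C.neg_val _
    simp only [e, (C.p i).rev.isLt, dite_true, Fin.eta, C.η_rev, C.η_p]
  · intro s hs
    obtain ⟨s, rfl⟩ : ∃ k : Rt D, k.val = s := ⟨⟨s, hs⟩, rfl⟩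
    simp only [C.w_eq, C.neg_val, Fin.is_lt, dite_true, Fin.eta, C.η_rev, C.η_mul_self, and_true]
    rw [eta_mul C i s]
    show (((-1 : ℤˣ) ^ D.cartan i.val s.val : ℤˣ) : ℤ) = _
    rcases Int.even_or_odd (D.cartan i.val s.val) with h | h
    · rw [h.neg_one_zpow, (Int.natAbs_even.2 h).neg_one_pow]; simp
    · rw [h.neg_one_zpow, (Int.natAbs_odd.2 h).neg_one_pow]; simp
  · rw [C.nMat_one, C.P_val]
    ext a b
    rcases a with a | a <;> rcases b with b | b <;>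
      simp [Pm, C.simple_eq, C.w_eq, A, Fin.ext_iff, Fin.is_lt]

end Cfsg.Agent.S1095
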