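import Cfsg.Statements.S1096
import Cfsg.Agent.Lib.ChevStructure.Words
import Cfsg.Agent.Lib.ChevStructure.Instances

set_option autoImplicit false
open Cfsg

namespace Cfsg.Agent.S1096

open Cfsg.Lie Cfsg.Agent.Lib.ChevStructure

theorem hD' {D : ChevalleyDatum} {R : Type*} [CommRing R] (r : Rt D) (c : Rˣ) :
    Core.hD R r c = Core.diag R (fun s => c ^ pr D r s) := rfl

/-- `n_p h_{p_j}(t) n_p⁻¹ = h_{w_p(p_j)}(t)` for fundamental `p`, `p_j` and `t ≠ 0`, stated as `n_p h_{p_j}(t) = h_{w_p(p_j)}(t) n_p`. -/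
theorem result {F : Type*} [Field F] (D : Cfsg.Lie.ChevalleyDatum) (hD : D ∈ [Cfsg.Lie.chevG2, Cfsg.Lie.chevB2, Cfsg.Lie.chevD4, Cfsg.Lie.chevF4, Cfsg.Lie.chevE6, Cfsg.Lie.chevE7, Cfsg.Lie.chevE8]) (i j : ℕ) (hi : i < D.rank) (hj : j < D.rank) (t : F) (ht : t ≠ 0) :
    D.nMat F (D.simple i) 1 * D.hMat F (D.simple j) t = D.hMat F (D.reflectRoot i (D.simple j)) t * D.nMat F (D.simple i) 1 := by
  obtain ⟨C⟩ := nonempty_core D hD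
  obtain ⟨i, rfl⟩ : ∃ k : Fin D.rank, k.val = i := ⟨⟨i, hi⟩, rfl⟩
  obtain ⟨j, rfl⟩ : ∃ k : Fin D.rank, k.val = j := ⟨⟨j, hj⟩, rfl⟩
  rw [C.nMat_one, C.simple_eq j, C.w_eq,
    show t = ((Units.mk0 t ht : Fˣ) : F) from rfl, C.hMat_eq, C.hMat_eq]
  rw [← Units.val_mul, ← Units.val_mul]
  congr 1
  rw [hD', C.P_diag]
  congr 2
  funext s
  rw [← C.pr_w i (C.p j) (C.w i s), C.w_w]

end Cfsg.Agent.S1096
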