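import Cfsg.Statements.S1098
import Cfsg.Agent.Lib.LieTwisted.IsogenyB2
import Cfsg.Agent.Lib.LieTwisted.IsogenyF4

set_option autoImplicit false
open Cfsg

namespace Cfsg.Agent.S1098

/-- Graph automorphisms in characteristic 2 (K perfect): for B₂ (a short, b long) `x_a(t) ↦ x_b(t²)`, `x_b(t) ↦ x_a(t)`, and for F₄ (p₁, p₂ short, p₃, p₄ long) `x_{p₁}(t) ↦ x_{p₄}(t²)`, `x_{p₂}(t) ↦ x_{p₃}(t²)`, `x_{p₃}(t) ↦ x_{p₂}(t)`, `x_{p₄}(t) ↦ x_{p₁}(t)`, likewise on the negatives, extend to an automorphism of the group. -/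
theorem result {K : Type*} [Field K] [CharP K 2] (hperf : ∀ x : K, ∃ y : K, y ^ 2 = x)
    (p : Cfsg.Lie.ChevalleyDatum × List (ℕ × ℕ))
    (hp : p ∈ [(Cfsg.Lie.chevB2, [(1, 2), (0, 1)]), (Cfsg.Lie.chevF4, [(3, 2), (2, 2), (1, 1), (0, 1)])]) :
    ∃ α : ↥(p.1.group K) ≃* ↥(p.1.group K), ∀ (g : ↥(p.1.group K)) (i : ℕ) (t : K), i < p.1.rank →
      (((g : GL p.1.Idx K) : Matrix p.1.Idx p.1.Idx K) = p.1.x K (p.1.simple i) t →
        ((α g : GL p.1.Idx K) : Matrix p.1.Idx p.1.Idx K) = p.1.x K (p.1.simple (p.2.getD i (0, 1)).1) (t ^ (p.2.getD i (0, 1)).2)) ∧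
      (((g : GL p.1.Idx K) : Matrix p.1.Idx p.1.Idx K) = p.1.x K (p.1.neg (p.1.simple i)) t →
        ((α g : GL p.1.Idx K) : Matrix p.1.Idx p.1.Idx K) = p.1.x K (p.1.neg (p.1.simple (p.2.getD i (0, 1)).1)) (t ^ (p.2.getD i (0, 1)).2)) := by
  classical
  simp only [List.mem_cons, List.not_mem_nil, or_false] at hp
  rcases hp with rfl | rfl
  · open Cfsg.Agent.Lib.LieTwisted in
    refine ⟨MulEquiv.ofBijective IsogenyB2.sigma (IsogenyB2.sigma_bijective hperf), fun g i t hi => ?_⟩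
    have key : ∀ (r r' : Fin Cfsg.Lie.chevB2.nroots) (k : ℕ),
        Cfsg.Agent.Lib.LieTwisted.IsogenyB2.rho r = r' → Cfsg.Agent.Lib.LieTwisted.IsogenyB2.lam r.val = k →
        ((g : GL Cfsg.Lie.chevB2.Idx K) : Matrix Cfsg.Lie.chevB2.Idx Cfsg.Lie.chevB2.Idx K) =
          Cfsg.Lie.chevB2.x K r.val t →
        ((Cfsg.Agent.Lib.LieTwisted.IsogenyB2.sigma g : GL Cfsg.Lie.chevB2.Idx K) :
          Matrix Cfsg.Lie.chevB2.Idx Cfsg.Lie.chevB2.Idx K) = Cfsg.Lie.chevB2.x K r'.val (t ^ k) := by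
      intro r r' k h1 h2 h
      subst h1; subst h2
      have hg : g = ⟨_, Cfsg.Agent.Lib.LieTwisted.IsogenyB2.C.X_mem_group r t⟩ :=
        Subtype.ext (Cfsg.Agent.Lib.LieTwisted.IsogenyB2.C.eq_X h)
      rw [hg, Cfsg.Agent.Lib.LieTwisted.IsogenyB2.sigma_X]
      exact Cfsg.Agent.Lib.LieTwisted.IsogenyB2.C.X_val_x _ _
    obtain rfl | rfl : i = 0 ∨ i = 1 := by
      change i < 2 at hi
      omega
    · exact ⟨key ⟨5, by decide⟩ ⟨4, by decide⟩ 2 (by decide +kernel) (by decide +kernel),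
        key ⟨2, by decide⟩ ⟨3, by decide⟩ 2 (by decide +kernel) (by decide +kernel)⟩
    · exact ⟨key ⟨4, by decide⟩ ⟨5, by decide⟩ 1 (by decide +kernel) (by decide +kernel),
        key ⟨3, by decide⟩ ⟨2, by decide⟩ 1 (by decide +kernel) (by decide +kernel)⟩
  · haveI : Fact (Nat.Prime 2) := ⟨Nat.prime_two⟩
    haveI : CharP K Cfsg.Agent.Lib.LieTwisted.Isogeny.dataF4.p := ‹CharP K 2›
    haveI : ExpChar K Cfsg.Agent.Lib.LieTwisted.Isogeny.dataF4.p := ExpChar.prime Nat.prime_two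
    refine ⟨Cfsg.Agent.Lib.LieTwisted.Isogeny.sigmaEquiv Cfsg.Agent.Lib.LieTwisted.Isogeny.dataF4_good
      Cfsg.Agent.Lib.LieTwisted.Isogeny.dataF4_disj hperf, fun g i t hi => ?_⟩
    have key := fun r hr h => Cfsg.Agent.Lib.LieTwisted.Isogeny.sigma_root
      Cfsg.Agent.Lib.LieTwisted.Isogeny.dataF4_good Cfsg.Agent.Lib.LieTwisted.Isogeny.dataF4_disj g (r := r)
      (t := t) hr h
    obtain rfl | rfl | rfl | rfl : i = 0 ∨ i = 1 ∨ i = 2 ∨ i = 3 := by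
      change i < 4 at hi
      omega
    · exact ⟨key 33 (by decide), key 14 (by decide)⟩
    · exact ⟨key 27 (by decide), key 20 (by decide)⟩
    · exact ⟨key 25 (by decide), key 22 (by decide)⟩
    · exact ⟨key 24 (by decide), key 23 (by decide)⟩

end Cfsg.Agent.S1098
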