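import Cfsg.Statements.S1099
import Cfsg.Agent.Lib.LieTwisted.IsogenyG2

set_option autoImplicit false
open Cfsg

namespace Cfsg.Agent.S1099

open Cfsg.Agent.Lib.LieTwisted.Isogeny

/-- Graph automorphism of G₂ in characteristic 3 (K perfect): `x_a(t) ↦ x_b(t³)`, `x_b(t) ↦ x_a(t)`, `x_{-a}(t) ↦ x_{-b}(t³)`, `x_{-b}(t) ↦ x_{-a}(t)` extend to an automorphism of the group. -/
theorem result {K : Type*} [Field K] [CharP K 3] (hperf : ∀ x : K, ∃ y : K, y ^ 3 = x) :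
    ∃ α : ↥(Cfsg.Lie.chevG2.group K) ≃* ↥(Cfsg.Lie.chevG2.group K), ∀ (g : ↥(Cfsg.Lie.chevG2.group K)) (t : K),
      (((g : GL Cfsg.Lie.chevG2.Idx K) : Matrix _ _ K) = Cfsg.Lie.chevG2.x K Cfsg.Lie.g2a t →
        ((α g : GL Cfsg.Lie.chevG2.Idx K) : Matrix _ _ K) = Cfsg.Lie.chevG2.x K Cfsg.Lie.g2b (t ^ 3)) ∧
      (((g : GL Cfsg.Lie.chevG2.Idx K) : Matrix _ _ K) = Cfsg.Lie.chevG2.x K Cfsg.Lie.g2b t →
        ((α g : GL Cfsg.Lie.chevG2.Idx K) : Matrix _ _ K) = Cfsg.Lie.chevG2.x K Cfsg.Lie.g2a t) ∧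
      (((g : GL Cfsg.Lie.chevG2.Idx K) : Matrix _ _ K) = Cfsg.Lie.chevG2.x K Cfsg.Lie.g2ma t →
        ((α g : GL Cfsg.Lie.chevG2.Idx K) : Matrix _ _ K) = Cfsg.Lie.chevG2.x K Cfsg.Lie.g2mb (t ^ 3)) ∧
      (((g : GL Cfsg.Lie.chevG2.Idx K) : Matrix _ _ K) = Cfsg.Lie.chevG2.x K Cfsg.Lie.g2mb t →
        ((α g : GL Cfsg.Lie.chevG2.Idx K) : Matrix _ _ K) = Cfsg.Lie.chevG2.x K Cfsg.Lie.g2ma t) := by
  haveI : CharP K dataG2.p := ‹CharP K 3›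
  haveI : Fact (Nat.Prime 3) := ⟨Nat.prime_three⟩
  haveI : ExpChar K dataG2.p := ExpChar.prime Nat.prime_three
  refine ⟨sigmaEquiv dataG2_good dataG2_disj hperf, fun g t => ⟨fun h => ?_, fun h => ?_, fun h => ?_, fun h => ?_⟩⟩
  · exact sigma_root dataG2_good dataG2_disj g (r := Cfsg.Lie.g2a) (by decide) h
  · have := sigma_root dataG2_good dataG2_disj g (r := Cfsg.Lie.g2b) (by decide) h
    rwa [show dataG2.lm Cfsg.Lie.g2b = 1 from rfl, pow_one] at this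
  · exact sigma_root dataG2_good dataG2_disj g (r := Cfsg.Lie.g2ma) (by decide) h
  · have := sigma_root dataG2_good dataG2_disj g (r := Cfsg.Lie.g2mb) (by decide) h
    rwa [show dataG2.lm Cfsg.Lie.g2mb = 1 from rfl, pow_one] at this

end Cfsg.Agent.S1099
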