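import Cfsg.Statements.S1100
import Cfsg.Agent.Lib.ChevStructure.NormalForm
import Cfsg.Agent.Lib.ChevStructure.Instances

set_option autoImplicit false
open Cfsg

namespace Cfsg.Agent.S1100

open Cfsg.Lie Cfsg.Agent.Lib.ChevStructure

section
variable {D : ChevalleyDatum} (C : Core D) {F : Type*} [Field F]

theorem neg_eq_US : D.negUnipotent F = C.US F C.Neg := by
  rw [ChevalleyDatum.negUnipotent, Core.US]
  congr 1
  ext g
  constructor
  · rintro ⟨r, t, hr, hg⟩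
    exact ⟨⟨r, hr.1⟩, (C.negr_iff ⟨r, hr.1⟩).1 hr, t, C.eq_X hg⟩
  · rintro ⟨r, hr, t, rfl⟩
    exact ⟨r.val, t, (C.negr_iff r).2 hr, C.X_val_x r t⟩

/-- The subgroup `U_w⁻` of a representative in N is the group of the inversion set. -/
theorem Uw_eq {n : GL D.Idx F} {σ : Equiv.Perm (Rt D)} (hσ : C.Acts n σ) :
    Subgroup.closure {x : GL D.Idx F | ∃ (r : ℕ) (t : F), D.IsPosRoot r ∧
      (D.rootSubgroup F r).map (MulAut.conj n).toMonoidHom ≤ D.negUnipotent F ∧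
      (x : Matrix D.Idx D.Idx F) = D.x F r t} = C.US F (C.inv' σ) := by
  have key : ∀ r : Rt D, (D.rootSubgroup F r.val).map (MulAut.conj n).toMonoidHom ≤ D.negUnipotent F ↔
      σ r ∈ C.Neg := by
    intro r
    obtain ⟨e, he⟩ := hσ r
    constructor
    · intro hle
      by_contra hn
      have hm : C.X F (σ r) ((e : F) * 1) ∈ C.US F C.Neg := by
        rw [← neg_eq_US C, ← he 1]
        exact hle ⟨_, Subgroup.subset_closure ⟨1, C.X_val_x r 1⟩, rfl⟩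
      have h1 : C.X F (σ r) ((e : F) * 1) = 1 := by
        rw [← Subgroup.mem_bot, ← C.borel_inf_negUS]
        refine Subgroup.mem_inf.2 ⟨C.X_mem_borel ?_ _, hm⟩
        by_contra hp
        exact hn ((C.neg_iff_not_pos _).2 hp)
      exact mul_ne_zero e.ne_zero one_ne_zero (C.X_eq_one h1)
    · intro hr
      rw [neg_eq_US C, Subgroup.map_le_iff_le_comap, ChevalleyDatum.rootSubgroup, Subgroup.closure_le]
      rintro x ⟨t, hx⟩
      show n * x * n⁻¹ ∈ C.US F C.Neg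
      rw [C.eq_X hx, he t]
      exact C.X_mem_US F hr _
  rw [Core.US]
  congr 1
  ext x
  constructor
  · rintro ⟨r, t, hr, hle, hx⟩
    exact ⟨⟨r, hr.1⟩, ⟨(C.pos_iff ⟨r, hr.1⟩).1 hr, (key ⟨r, hr.1⟩).1 hle⟩, t, C.eq_X hx⟩
  · rintro ⟨r, ⟨hr, hs⟩, t, rfl⟩
    exact ⟨r.val, t, (C.pos_iff r).2 hr, (key r).2 hs, C.X_val_x r t⟩

end

/-- Canonical form `g = b n_w u` (`b ∈ B`, `u ∈ U_w⁻ = ⟨X_r : r > 0, n_w X_r n_w⁻¹ ≤ V⟩`): such a decomposition exists for every element of the group; the coset `n_w H` is determined by `g`; and for a fixed representative `n_w` the factors `b`, `u` are unique. -/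
theorem result {F : Type*} [Field F] (D : Cfsg.Lie.ChevalleyDatum) (hD : D ∈ [Cfsg.Lie.chevG2, Cfsg.Lie.chevB2, Cfsg.Lie.chevD4, Cfsg.Lie.chevF4, Cfsg.Lie.chevE6, Cfsg.Lie.chevE7, Cfsg.Lie.chevE8]) :
    (∀ g ∈ D.group F, ∃ b ∈ D.borelSubgroup F, ∃ n ∈ D.monomialSubgroup F,
      ∃ u ∈ Subgroup.closure {x : GL D.Idx F | ∃ (r : ℕ) (t : F), D.IsPosRoot r ∧
            (D.rootSubgroup F r).map (MulAut.conj n).toMonoidHom ≤ D.negUnipotent F ∧ (x : Matrix D.Idx D.Idx F) = D.x F r t},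
        g = b * n * u) ∧
    (∀ (b b' n n' u u' : GL D.Idx F), b ∈ D.borelSubgroup F → b' ∈ D.borelSubgroup F →
      n ∈ D.monomialSubgroup F → n' ∈ D.monomialSubgroup F →
      u ∈ Subgroup.closure {x : GL D.Idx F | ∃ (r : ℕ) (t : F), D.IsPosRoot r ∧
            (D.rootSubgroup F r).map (MulAut.conj n).toMonoidHom ≤ D.negUnipotent F ∧ (x : Matrix D.Idx D.Idx F) = D.x F r t} →
      u' ∈ Subgroup.closure {x : GL D.Idx F | ∃ (r : ℕ) (t : F), D.IsPosRoot r ∧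
            (D.rootSubgroup F r).map (MulAut.conj n').toMonoidHom ≤ D.negUnipotent F ∧ (x : Matrix D.Idx D.Idx F) = D.x F r t} →
      b * n * u = b' * n' * u' → n⁻¹ * n' ∈ D.diagonalSubgroup F ∧ (n = n' → b = b' ∧ u = u')) := by
  obtain ⟨C, H⟩ : ∃ C : Core D, CommOK C := by
    obtain ⟨S⟩ := nonempty_sys D hD
    exact ⟨S.toCore, S.commOK⟩
  refine ⟨fun g hg => ?_, fun b b' n n' u u' hb hb' hn hn' hu hu' e => ?_⟩
  · obtain ⟨σ, b, hb, u, hu, rfl⟩ := H.exists_normalForm hg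
    refine ⟨b, hb, C.rep F σ, C.rep_mem σ, u, ?_, rfl⟩
    rw [Uw_eq C (C.acts_rep F σ)]
    exact hu
  · have hd : ∀ m : GL D.Idx F, m ∈ D.monomialSubgroup F → ∃ σ : C.WG, C.Acts m (σ : Equiv.Perm (Rt D)) ∧
        ∃ d ∈ D.diagonalSubgroup F, m = d * C.rep F σ := by
      intro m hm
      refine ⟨C.wHom ⟨m, hm⟩, C.acts_wOf ⟨m, hm⟩, m * (C.rep F (C.wHom ⟨m, hm⟩))⁻¹, ?_, (inv_mul_cancel_right _ _).symm⟩
      refine C.mem_diagonal_of_acts_one (mul_mem hm (inv_mem (C.rep_mem _))) ?_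
      have := C.acts_mul F (C.acts_wOf ⟨m, hm⟩) (C.acts_inv F (C.acts_rep F (C.wHom ⟨m, hm⟩)))
      rwa [show (C.wOf ⟨m, hm⟩ : C.WG) = C.wHom ⟨m, hm⟩ from rfl, mul_inv_cancel] at this
    obtain ⟨σ, hσ, d, hdd, rfl⟩ := hd n hn
    obtain ⟨τ, hτ, d', hdd', rfl⟩ := hd n' hn'
    rw [Uw_eq C hσ] at hu
    rw [Uw_eq C hτ] at hu'
    have e' : b * d * C.rep F σ * u = b' * d' * C.rep F τ * u' := by simpa [mul_assoc] using e
    obtain ⟨hστ, hbd, huu⟩ := H.normalForm_unique (mul_mem hb (C.diagonal_le_borel hdd))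
      (mul_mem hb' (C.diagonal_le_borel hdd')) hu hu' e'
    subst hστ
    refine ⟨?_, fun hnn => ⟨?_, huu⟩⟩
    · rw [show (d * C.rep F σ)⁻¹ * (d' * C.rep F σ) = (C.rep F σ)⁻¹ * (d⁻¹ * d') * (C.rep F σ)⁻¹⁻¹ by group]
      exact C.conj_diagonal (inv_mem (C.rep_mem σ)) (mul_mem (inv_mem hdd) hdd')
    · rw [mul_right_cancel hnn] at hbd
      exact mul_right_cancel hbd

end Cfsg.Agent.S1100
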