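import Cfsg.Statements.S1118
import Cfsg.Agent.Lib.RankOne.Basic

set_option autoImplicit false
open Cfsg Cfsg.Agent.Lib.RankOne.Basic Cfsg.Agent.Lib.RankOne.Involution
open scoped Pointwise

namespace Cfsg.Agent.S1118

/-- In the rank-one set-up (`G` finite and doubly transitive on `Ω`, `t` an involution moving `a`, `Q` normal in `G_a` with `G_a = Q D`, `Q ⊓ D = 1` for the two-point stabiliser `D = G_a ⊓ G_{t • a}`, `|Q|` even, `|D|` odd), the normaliser of a subset of `Q` containing a non-identity element lies in `G_a`; consequently `N_G(Q) = N_G(G_a) = G_a`. -/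
theorem result {G Ω : Type*} [Group G] [Finite G] [MulAction G Ω] {a : Ω} {t : G} {Q : Subgroup G}
    (hS : Cfsg.IsRankOneSetup G Ω a t Q) :
    (∀ X : Set G, X ⊆ (Q : Set G) → (∃ x ∈ X, x ≠ 1) → Subgroup.normalizer X ≤ MulAction.stabilizer G a) ∧
      Subgroup.normalizer (Q : Set G) = MulAction.stabilizer G a ∧
      Subgroup.normalizer (MulAction.stabilizer G a : Set G) = MulAction.stabilizer G a := by
  obtain ⟨s, hs⟩ := exists_involution hS
  have hsQ := involutions_stab_mem_Q hS hs.1 hs.2.2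
  have main : ∀ X : Set G, X ⊆ (Q : Set G) → (∃ x ∈ X, x ≠ 1) →
      Subgroup.normalizer X ≤ MulAction.stabilizer G a := by
    rintro X hX ⟨x, hx, hx1⟩ g hg
    by_contra hga
    have h1 := hX ((Subgroup.mem_set_normalizer_iff.1 hg x).1 hx)
    have hne : g⁻¹ • a ≠ a := fun h => hga (MulAction.mem_stabilizer_iff.2 (inv_smul_eq_iff.1 h).symm)
    refine hx1 (Q_free hS (hX hx) hne ?_)
    have h2 := Q_fix hS h1
    rw [mul_smul, mul_smul] at h2
    exact eq_inv_smul_iff.2 h2
  refine ⟨main, ?_, ?_⟩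
  · refine le_antisymm (main _ subset_rfl ⟨s, hsQ, hs.2.1⟩) fun g hg => ?_
    rw [Subgroup.mem_normalizer_iff]
    intro x
    refine ⟨fun hx => hS.conj_mem g hg x hx, fun hx => ?_⟩
    simpa [mul_assoc] using hS.conj_mem g⁻¹ ((MulAction.stabilizer G a).inv_mem hg) _ hx
  · refine le_antisymm (fun g hg => ?_) Subgroup.le_normalizer
    by_contra hga
    have h1 := (Subgroup.mem_normalizer_iff.1 hg s).1 hs.1
    have hne : g⁻¹ • a ≠ a := fun h => hga (MulAction.mem_stabilizer_iff.2 (inv_smul_eq_iff.1 h).symm)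
    refine hs.2.1 (Q_free hS hsQ hne ?_)
    have h2 : (g * s * g⁻¹) • a = a := h1
    rw [mul_smul, mul_smul] at h2
    exact eq_inv_smul_iff.2 h2

end Cfsg.Agent.S1118
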