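import Cfsg.Statements.S1119
import Cfsg.Agent.Lib.RankOne.Basic

set_option autoImplicit false
open Cfsg Cfsg.Agent.Lib.RankOne.Basic Cfsg.Agent.Lib.RankOne.Involution
open scoped Pointwise

namespace Cfsg.Agent.S1119

/-- In the rank-one set-up (`G` finite and doubly transitive on `Ω`, `t` an involution moving `a`, `Q` normal in `G_a` with `G_a = Q D`, `Q ⊓ D = 1` for the two-point stabiliser `D = G_a ⊓ G_{t • a}`, `|Q|` even, `|D|` odd): `Q` acts regularly on `Ω` minus `a`; hence `|Ω| = |Q| + 1`, `|G| = |Q| |D| (|Q| + 1)`, some Sylow 2-subgroup of `G` lies in `Q`, and each `g ∉ G_a` is uniquely `x t y` with `x ∈ G_a`, `y ∈ Q` (canonical form). -/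
theorem result {G Ω : Type*} [Group G] [Finite G] [MulAction G Ω] {a : Ω} {t : G} {Q : Subgroup G}
    (hS : Cfsg.IsRankOneSetup G Ω a t Q) :
    (∀ b c : Ω, b ≠ a → c ≠ a → ∃! x : Q, (x : G) • b = c) ∧
      Nat.card Ω = Nat.card Q + 1 ∧
      Nat.card G = Nat.card Q * Nat.card ↥(MulAction.stabilizer G a ⊓ MulAction.stabilizer G (t • a)) * (Nat.card Q + 1) ∧
      (∃ P : Sylow 2 G, (P : Subgroup G) ≤ Q) ∧
      ∀ g : G, g ∉ MulAction.stabilizer G a → ∃! p : G × G, p.1 ∈ MulAction.stabilizer G a ∧ p.2 ∈ Q ∧ g = p.1 * t * p.2 := by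
  refine ⟨fun b c hb hc => Q_existsUnique hS hb hc, card_omega hS, card_group hS, ?_, ?_⟩
  · obtain ⟨P⟩ : Nonempty (Sylow 2 Q) := inferInstance
    have hP : IsPGroup 2 (P.toSubgroup.map Q.subtype) := P.2.map _
    obtain ⟨P', hle⟩ := hP.exists_le_sylow
    have heq : (P' : Subgroup G) = P.toSubgroup.map Q.subtype := by
      refine (Subgroup.eq_of_le_of_card_ge hle ?_).symm
      rw [P'.card_eq_multiplicity, Subgroup.card_map_of_injective Q.subtype_injective,
        P.card_eq_multiplicity]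
      refine Nat.pow_le_pow_right (by norm_num) ?_
      have hQ : Nat.card Q ≠ 0 := Nat.card_pos.ne'
      have hD : Nat.card (twoStab G a t) ≠ 0 := Nat.card_pos.ne'
      rw [card_group hS, Nat.factorization_mul (mul_ne_zero hQ hD) (by omega),
        Nat.factorization_mul hQ hD, Finsupp.add_apply, Finsupp.add_apply]
      rw [Nat.factorization_eq_zero_of_not_dvd (n := Nat.card (twoStab G a t)),
        Nat.factorization_eq_zero_of_not_dvd (n := Nat.card Q + 1)]
      · simp
      · exact Odd.not_two_dvd_nat (hS.even_card.add_one)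
      · exact Odd.not_two_dvd_nat hS.odd_card
    exact ⟨P', heq.le.trans (Subgroup.map_subtype_le _)⟩
  · intro g hg
    have hne : g⁻¹ • a ≠ a := fun h => hg (MulAction.mem_stabilizer_iff.2 (inv_smul_eq_iff.1 h).symm)
    obtain ⟨y, hy, hyb⟩ := Q_trans hS (t_smul_ne hS) hne
    refine ⟨(g * y * t, y⁻¹), ⟨?_, Q.inv_mem hy, ?_⟩, ?_⟩
    · rw [MulAction.mem_stabilizer_iff, mul_smul, mul_smul, hyb, smul_inv_smul]
    · simp [mul_assoc, tt_mul hS]
    · rintro ⟨x, z⟩ ⟨hx, hz, h⟩
      simp only at hx hz h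
      have hz2 : z⁻¹ = y := Q_smul_inj hS (Q.inv_mem hz) hy (t_smul_ne hS) (by
        rw [hyb, h, mul_inv_rev, mul_inv_rev, mul_smul, mul_smul, t_inv hS,
          inv_smul_eq_iff.2 (MulAction.mem_stabilizer_iff.1 hx).symm])
      subst hz2
      simp [h, mul_assoc, hS.mul_self]

end Cfsg.Agent.S1119
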