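import Cfsg.Statements.S1125
import Cfsg.Agent.Lib.RankOne.Basic

set_option autoImplicit false
open Cfsg Cfsg.Agent.Lib.RankOne.Basic Cfsg.Agent.Lib.RankOne.Involution
open scoped Pointwise

namespace Cfsg.Agent.S1125

/-- In the rank-one set-up (`G` finite and doubly transitive on `Ω`, `t` an involution moving `a`, `Q` normal in `G_a` with `G_a = Q D`, `Q ⊓ D = 1` for the two-point stabiliser `D = G_a ⊓ G_{t • a}`, `|Q|` even, `|D|` odd), let `X ⊆ D` fix at least three points of `Ω`. Then `C_G(X)` is doubly transitive on the fixed-point set of `X`, `|C_Q(X)|` is even, and `C_{G_a}(X) = C_Q(X) C_D(X)`. -/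
theorem result {G Ω : Type*} [Group G] [Finite G] [MulAction G Ω] {a : Ω} {t : G} {Q : Subgroup G}
    (hS : Cfsg.IsRankOneSetup G Ω a t Q)
    (X : Set G) (hX : X ⊆ ((MulAction.stabilizer G a ⊓ MulAction.stabilizer G (t • a)) : Set G))
    (h3 : ∃ b c d : Ω, b ≠ c ∧ b ≠ d ∧ c ≠ d ∧ ∀ x ∈ X, x • b = b ∧ x • c = c ∧ x • d = d) :
    (∀ b₁ b₂ c₁ c₂ : Ω, (∀ x ∈ X, x • b₁ = b₁ ∧ x • b₂ = b₂ ∧ x • c₁ = c₁ ∧ x • c₂ = c₂) →
        b₁ ≠ b₂ → c₁ ≠ c₂ → ∃ g ∈ Subgroup.centralizer X, g • b₁ = c₁ ∧ g • b₂ = c₂) ∧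
      Even (Nat.card ↥(Subgroup.centralizer X ⊓ Q)) ∧
      (Subgroup.centralizer X ⊓ Q) ⊔ (Subgroup.centralizer X ⊓ (MulAction.stabilizer G a ⊓ MulAction.stabilizer G (t • a))) = Subgroup.centralizer X ⊓ MulAction.stabilizer G a := by
  have haF : a ∈ fixedSet X Ω := fun x hx => (hX hx).1
  refine ⟨fun b₁ b₂ c₁ c₂ h hb hc => ?_, ?_, ?_⟩
  · exact centralizer_two_trans hS hX h3 (fun x hx => (h x hx).1) (fun x hx => (h x hx).2.1)
      (fun x hx => (h x hx).2.2.1) (fun x hx => (h x hx).2.2.2) hb hc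
  · obtain ⟨z, hzC, hza, hz2⟩ := exists_centralizer_involution hS hX h3
    have hz1 : z ≠ 1 := fun h => t_smul_ne hS (by rw [← hza, h, one_smul])
    obtain ⟨c, hzc, hzu⟩ := exists_fixed hS hz1 hz2
    have hcF : c ∈ fixedSet X Ω := fun x hx => hzu _ (by
      rw [← mul_smul, ← Subgroup.mem_centralizer_iff.1 hzC x hx, mul_smul, hzc])
    have hca : c ≠ a := fun h => t_smul_ne hS (by rw [← hza, ← h, hzc, h])
    obtain ⟨g, hg, hgc, -⟩ := centralizer_two_trans hS hX h3 hcF haF haF hcF hca hca.symm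
    have h1 : g * z * g⁻¹ ∈ MulAction.stabilizer G a := by
      rw [MulAction.mem_stabilizer_iff, mul_smul, mul_smul, inv_smul_eq_iff.2 hgc.symm, hzc, hgc]
    have h2 : g * z * g⁻¹ * (g * z * g⁻¹) = 1 := by
      rw [show g * z * g⁻¹ * (g * z * g⁻¹) = g * (z * z) * g⁻¹ by group, hz2, mul_one, mul_inv_cancel]
    have hne : g * z * g⁻¹ ≠ 1 := fun h => hz1 (by simpa using h)
    have hmem : g * z * g⁻¹ ∈ Subgroup.centralizer X ⊓ Q :=
      ⟨Subgroup.mul_mem _ (Subgroup.mul_mem _ hg hzC) (Subgroup.inv_mem _ hg),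
        involutions_stab_mem_Q hS h1 h2⟩
    rw [even_iff_two_dvd]
    have hord : orderOf (⟨_, hmem⟩ : ↥(Subgroup.centralizer X ⊓ Q)) = 2 :=
      orderOf_eq_prime (by rw [sq]; exact Subtype.ext h2) (fun h => hne (congrArg Subtype.val h))
    rw [← hord]
    exact orderOf_dvd_natCard _
  · refine le_antisymm (sup_le (inf_le_inf_left _ hS.le) (inf_le_inf_left _ inf_le_left)) ?_
    rintro g ⟨hgC, hga⟩
    obtain ⟨q, hq, d, hd, rfl⟩ := exists_Q_D hS hga
    have hqb : q • (t • a) ∈ fixedSet X Ω := by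
      have := centralizer_smul_mem (Ω := Ω) hgC (c := t • a) (fun x hx => (hX hx).2)
      rwa [mul_smul, (mem_twoStab.1 hd).2] at this
    have hqC := centralizer_of_Q_smul hS hX hq hqb
    refine Subgroup.mul_mem_sup ⟨hqC, hq⟩ ⟨?_, hd⟩
    have h := Subgroup.mul_mem _ (Subgroup.inv_mem _ hqC) hgC
    rwa [inv_mul_cancel_left] at h

end Cfsg.Agent.S1125
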