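import Cfsg.Statements.S1139
import Cfsg.Agent.Lib.Suzuki2.TypeA

set_option autoImplicit false
open Cfsg Cfsg.Agent.Lib.Suzuki2.Basic Cfsg.Agent.Lib.Suzuki2.TypeA

namespace Cfsg.Agent.S1139

/-- A Suzuki 2-group `P` with `|P| = |Z(P)|²` is of type A: for some finite field `F` with `|F| = |Z(P)|` and some field automorphism `φ ≠ 1` of odd order, `P` is isomorphic to the group of lower unitriangular matrices with rows `(1,0,0)`, `(x,1,0)`, `(y, φ x, 1)`. -/
theorem result {P : Type*} [Group P] (hP : Cfsg.IsSuzukiTwoGroup P)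
    (hcard : Nat.card P = Nat.card (Subgroup.center P) ^ 2) :
    ∃ (F : Type) (_ : Field F) (_ : Fintype F) (φ : F ≃+* F), Fintype.card F = Nat.card (Subgroup.center P) ∧
      φ ≠ RingEquiv.refl F ∧ Odd (orderOf φ) ∧ Nonempty (P ≃* Cfsg.suzukiTypeA F (φ : F →+* F)) := by
  obtain ⟨hfin, h2, hnc, -, K, hcyc, htrans⟩ := hP
  haveI := hfin
  have hK : TransInvol K := by
    refine ⟨fun k hk l hl => ?_, fun x y hx hx2 hy hy2 => ?_⟩
    · have : IsMulCommutative K := inferInstance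
      exact congrArg Subtype.val (mul_comm' (⟨k, hk⟩ : K) ⟨l, hl⟩)
    · obtain ⟨⟨k, hk⟩, h, -⟩ := htrans x y hx hx2 hy hy2
      exact ⟨k, hk, h⟩
  exact typeA_of_card_sq h2 K hK hnc hcard

end Cfsg.Agent.S1139
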