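import Cfsg.Statements.S1147
import Cfsg.Agent.Lib.SuzukiKernel.Main
import Cfsg.Agent.S0345
import Cfsg.Agent.S1139

set_option autoImplicit false
open Cfsg

namespace Cfsg.Agent.S1147

/-- Let a finite simple Zassenhaus group `G` on `Ω` have a normal subgroup `U` of `G_a`, regular on `Ω` minus `a`, which is a non-abelian 2-group. Then `|Ω| = 2^(2n) + 1` with `n` odd, `n > 1`, a two-point stabiliser `G_a ⊓ G_b` is cyclic of order `2^n - 1`, and `U` is isomorphic to the type-A group over a field with `2^n` elements for some field automorphism `φ`. -/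
theorem result {G Ω : Type*} [Group G] [Finite G] [MulAction G Ω] [Finite Ω]
    (hZ : Cfsg.IsZassenhausGroup G Ω) [IsSimpleGroup G] {a b : Ω} (hab : a ≠ b)
    (U : Subgroup G) (hUle : U ≤ MulAction.stabilizer G a)
    (hUn : ∀ h ∈ MulAction.stabilizer G a, ∀ u ∈ U, h * u * h⁻¹ ∈ U)
    (hreg : ∀ c d : Ω, c ≠ a → d ≠ a → ∃! u : U, (u : G) • c = d)
    (hU2 : IsPGroup 2 U) (hUna : ∃ u ∈ U, ∃ v ∈ U, u * v ≠ v * u) :
    ∃ n : ℕ, Odd n ∧ 1 < n ∧ Nat.card Ω = 2 ^ (2 * n) + 1 ∧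
      IsCyclic ↥(MulAction.stabilizer G a ⊓ MulAction.stabilizer G b) ∧
      Nat.card ↥(MulAction.stabilizer G a ⊓ MulAction.stabilizer G b) = 2 ^ n - 1 ∧
      ∃ (F : Type) (_ : Field F) (_ : Fintype F) (φ : F ≃+* F), Fintype.card F = 2 ^ n ∧
        Nonempty (U ≃* Cfsg.suzukiTypeA F (φ : F →+* F)) := by
  obtain ⟨u, hu, v, hv, huv⟩ := hUna
  have hU : Cfsg.Agent.Lib.Zassenhaus.RegKernel a b U :=
    ⟨hUle, fun g hg w hw => hUn g hg w hw, fun z hz => hreg b z hab.symm hz⟩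
  have hcyc := (Cfsg.Agent.S0345.result hZ hab).1
  obtain ⟨k, hk, hk1, hn, hd, hcard, hc, hS⟩ := Cfsg.Agent.Lib.SuzukiKernel.structure_thm hZ hab hU
    hU2 ⟨⟨u, hu⟩, ⟨v, hv⟩, fun e => huv (congrArg Subtype.val e)⟩ hcyc
  obtain ⟨F, fF, ffF, φ, hF, -, -, hiso⟩ :=
    Cfsg.Agent.S1139.result hS (by rw [hc, hcard])
  exact ⟨k, hk, hk1, hn, hcyc, hd, F, fF, ffF, φ, hF.trans hc, hiso⟩

end Cfsg.Agent.S1147
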