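import Cfsg.Statements.S1153
import Cfsg.Agent.Lib.Ree.Basic
-- import your own Cfsg.Agent.* helpers here

set_option autoImplicit false
set_option linter.unusedSectionVars false
set_option synthInstance.maxHeartbeats 200000
set_option maxHeartbeats 1000000
open Cfsg

namespace Cfsg.Agent.S1153

open Cfsg.Agent.Lib.Ree Cfsg.Agent.Lib.LieTwisted.Ree

section
variable {G : Type*} [Group G] [Finite G] {X : Type*} [MulAction G X]

lemma card_stab_le (g : G) (x y z : X) :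
    Nat.card ↥(MulAction.stabilizer G x ⊓ MulAction.stabilizer G y ⊓ MulAction.stabilizer G z) ≤
      Nat.card ↥(MulAction.stabilizer G (g • x) ⊓ MulAction.stabilizer G (g • y) ⊓ MulAction.stabilizer G (g • z)) := by
  have key : ∀ (h : G) (w : X), h ∈ MulAction.stabilizer G w → g * h * g⁻¹ ∈ MulAction.stabilizer G (g • w) := by
    intro h w hw
    rw [MulAction.mem_stabilizer_iff] at hw ⊢
    rw [mul_smul, mul_smul, inv_smul_smul, hw]
  let f : ↥(MulAction.stabilizer G x ⊓ MulAction.stabilizer G y ⊓ MulAction.stabilizer G z) →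
      ↥(MulAction.stabilizer G (g • x) ⊓ MulAction.stabilizer G (g • y) ⊓ MulAction.stabilizer G (g • z)) :=
    fun h => ⟨g * h.1 * g⁻¹, ⟨key _ _ h.2.1.1, key _ _ h.2.1.2⟩, key _ _ h.2.2⟩
  refine Nat.card_le_card_of_injective f fun a b h => Subtype.ext ?_
  exact mul_left_cancel (mul_right_cancel (congrArg Subtype.val h : g * a.1 * g⁻¹ = g * b.1 * g⁻¹))

end

section
variable {K : Type*} [Field K] [CharP K 3] [Fintype K] {m : ℕ} [hF : Fact (Fintype.card K = 3 ^ (2 * m + 1))]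

/-- The coset space. -/
abbrev X (K : Type*) [Field K] (m : ℕ) := Cfsg.Agent.Lib.Ree.G K m ⧸ B1 (K := K) m

lemma smul_one_eq (h : Cfsg.Agent.Lib.Ree.G K m) : h • ((1 : Cfsg.Agent.Lib.Ree.G K m) : X K m) = ((h : Cfsg.Agent.Lib.Ree.G K m) : X K m) := by
  show ((h * 1 : Cfsg.Agent.Lib.Ree.G K m) : X K m) = _
  rw [mul_one]

lemma coe_eq_one_iff (h : Cfsg.Agent.Lib.Ree.G K m) :
    ((h : Cfsg.Agent.Lib.Ree.G K m) : X K m) = ((1 : Cfsg.Agent.Lib.Ree.G K m) : X K m) ↔ h ∈ B1 (K := K) m := by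
  rw [QuotientGroup.eq, mul_one, inv_mem_iff]

lemma coe_UW {a b c a' b' c' : K} (h : ((gU a b c * w0 m : Cfsg.Agent.Lib.Ree.G K m) : X K m) = ((gU a' b' c' * w0 m : Cfsg.Agent.Lib.Ree.G K m) : X K m)) :
    a = a' ∧ b = b' ∧ c = c' := by
  rw [QuotientGroup.eq, mul_inv_rev, w0_inv] at h
  have hv := mul_mem (inv_mem (gU_mem_U1 (m := m) a b c)) (gU_mem_U1 (m := m) a' b' c')
  have h1 : (gU a b c : Cfsg.Agent.Lib.Ree.G K m)⁻¹ * gU a' b' c' = 1 := by
    refine Subtype.ext (borel_inf_opp hv.1 (mem_B1.1 (?_ : w0 m * _ * w0 m ∈ B1 (K := K) m)))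
    simpa [mul_assoc] using h
  exact gU_inj (inv_mul_eq_one.1 h1)

lemma cases_coset (x : X K m) :
    x = ((1 : Cfsg.Agent.Lib.Ree.G K m) : X K m) ∨ ∃ a b c : K, x = ((gU a b c * w0 m : Cfsg.Agent.Lib.Ree.G K m) : X K m) := by
  obtain ⟨k, rfl⟩ := QuotientGroup.mk_surjective x
  rcases gcases k with ⟨t, u, v, y, rfl⟩ | ⟨t, u, v, y, a, b, c, rfl⟩
  · exact Or.inl ((coe_eq_one_iff _).2 (mem_B1_iff.2 ⟨t, u, v, y, rfl⟩))
  · refine Or.inr ⟨t, u, v, ?_⟩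
    rw [QuotientGroup.eq, show (gU t u v * gH y * w0 m * gU a b c : Cfsg.Agent.Lib.Ree.G K m) =
      gU t u v * w0 m * (gH y⁻¹ * gU a b c) by rw [mul_assoc (gU t u v) (gH y), gH_w0]; simp [mul_assoc]]
    rw [mul_inv_rev, mul_assoc, inv_mul_cancel, mul_one]
    exact inv_mem (mul_mem (gH_mem_B1 _) (gU_mem_B1 _ _ _))

lemma two_trans (x y : X K m) (hxy : x ≠ y) :
    ∃ g : Cfsg.Agent.Lib.Ree.G K m, g • x = ((1 : Cfsg.Agent.Lib.Ree.G K m) : X K m) ∧ g • y = ((w0 m : Cfsg.Agent.Lib.Ree.G K m) : X K m) := by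
  obtain ⟨k, rfl⟩ := QuotientGroup.mk_surjective x
  have hne : k⁻¹ • y ≠ ((1 : Cfsg.Agent.Lib.Ree.G K m) : X K m) := by
    intro h
    apply hxy
    rw [inv_smul_eq_iff, smul_one_eq] at h
    exact h.symm
  obtain ⟨a, b, c, h⟩ := (cases_coset (k⁻¹ • y)).resolve_left hne
  refine ⟨(gU a b c)⁻¹ * k⁻¹, ?_, ?_⟩
  · rw [mul_smul, ← smul_one_eq k, inv_smul_smul, smul_one_eq, coe_eq_one_iff]
    exact inv_mem (gU_mem_B1 a b c)
  · rw [mul_smul, h]
    show (((gU a b c)⁻¹ * (gU a b c * w0 m) : Cfsg.Agent.Lib.Ree.G K m) : X K m) = _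
    rw [inv_mul_cancel_left]

lemma stab_two (h : Cfsg.Agent.Lib.Ree.G K m) (h1 : h • ((1 : Cfsg.Agent.Lib.Ree.G K m) : X K m) = ((1 : Cfsg.Agent.Lib.Ree.G K m) : X K m))
    (h2 : h • ((w0 m : Cfsg.Agent.Lib.Ree.G K m) : X K m) = ((w0 m : Cfsg.Agent.Lib.Ree.G K m) : X K m)) : ∃ y : Kˣ, h = gH y := by
  rw [smul_one_eq, coe_eq_one_iff] at h1
  obtain ⟨t, u, v, y, rfl⟩ := mem_B1_iff.1 h1
  refine ⟨y, ?_⟩
  have e : ((gU t u v * gH y * w0 m : Cfsg.Agent.Lib.Ree.G K m) : X K m) = ((gU t u v * w0 m : Cfsg.Agent.Lib.Ree.G K m) : X K m) := by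
    rw [mul_assoc, gH_w0, ← mul_assoc, QuotientGroup.eq]
    rw [mul_inv_rev, mul_assoc, inv_mul_cancel, mul_one]
    exact inv_mem (gH_mem_B1 _)
  have h3 := e.symm.trans h2
  obtain ⟨rfl, rfl, rfl⟩ := coe_UW (m := m) (a := t) (b := u) (c := v) (a' := (0 : K)) (b' := 0) (c' := 0) (by rw [h3, gU_zero, one_mul])
  rw [gU_zero, one_mul]

lemma gH_smul (y : Kˣ) (a b c : K) :
    (gH y : Cfsg.Agent.Lib.Ree.G K m) • ((gU a b c * w0 m : Cfsg.Agent.Lib.Ree.G K m) : X K m) =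
      ((gU (scA m y * a) (scB m y * b) ((y : K) * c) * w0 m : Cfsg.Agent.Lib.Ree.G K m) : X K m) := by
  show ((gH y * (gU a b c * w0 m) : Cfsg.Agent.Lib.Ree.G K m) : X K m) = _
  rw [← mul_assoc, gH_gU, mul_assoc, gH_w0, ← mul_assoc, QuotientGroup.eq]
  rw [mul_inv_rev, mul_assoc, inv_mul_cancel, mul_one]
  exact inv_mem (gH_mem_B1 _)

theorem main :
    (∀ x y z : X K m, x ≠ y → x ≠ z → y ≠ z →
        Nat.card ↥(MulAction.stabilizer _ x ⊓ MulAction.stabilizer _ y ⊓ MulAction.stabilizer (Cfsg.Agent.Lib.Ree.G K m) z) ≤ 2) ∧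
      ∃ x y z : X K m, x ≠ y ∧ x ≠ z ∧ y ≠ z ∧
        Nat.card ↥(MulAction.stabilizer _ x ⊓ MulAction.stabilizer _ y ⊓ MulAction.stabilizer (Cfsg.Agent.Lib.Ree.G K m) z) = 2 := by
  classical
  have hne1 : (1 : K) ≠ 0 := one_ne_zero
  have hup : ∀ z : X K m, z ≠ ((1 : Cfsg.Agent.Lib.Ree.G K m) : X K m) → z ≠ ((w0 m : Cfsg.Agent.Lib.Ree.G K m) : X K m) →
      Nat.card ↥(MulAction.stabilizer _ ((1 : Cfsg.Agent.Lib.Ree.G K m) : X K m) ⊓ MulAction.stabilizer _ ((w0 m : Cfsg.Agent.Lib.Ree.G K m) : X K m) ⊓ MulAction.stabilizer (Cfsg.Agent.Lib.Ree.G K m) z) ≤ 2 := by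
    intro z hz1 hz2
    obtain ⟨a, b, c, rfl⟩ := (cases_coset z).resolve_left hz1
    have key : ∀ h ∈ MulAction.stabilizer _ ((1 : Cfsg.Agent.Lib.Ree.G K m) : X K m) ⊓ MulAction.stabilizer _ ((w0 m : Cfsg.Agent.Lib.Ree.G K m) : X K m) ⊓
        MulAction.stabilizer (Cfsg.Agent.Lib.Ree.G K m) ((gU a b c * w0 m : Cfsg.Agent.Lib.Ree.G K m) : X K m),
        h = 1 ∨ h = gH (-1) := by
      rintro h ⟨⟨h1, h2⟩, h3⟩
      obtain ⟨y, rfl⟩ := stab_two h h1 h2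
      have h3' : _ = _ := h3
      rw [gH_smul] at h3'
      obtain ⟨e1, e2, e3⟩ := coe_UW (m := m) h3'
      by_cases hy1 : y = 1
      · exact Or.inl (by rw [hy1, map_one])
      by_cases hy2 : y = -1
      · exact Or.inr (by rw [hy2])
      obtain ⟨hA, hB, hC⟩ := scales_ne (m := m) hy1 hy2
      exfalso
      apply hz2
      obtain rfl : a = 0 := by by_contra h0; exact hA ((mul_left_eq_self₀.1 e1).resolve_right h0)
      obtain rfl : b = 0 := by by_contra h0; exact hB ((mul_left_eq_self₀.1 e2).resolve_right h0)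
      obtain rfl : c = 0 := by by_contra h0; exact hC ((mul_left_eq_self₀.1 e3).resolve_right h0)
      rw [gU_zero, one_mul]
    refine le_trans (Set.ncard_le_ncard (t := {1, gH (-1)}) ?_ (Set.toFinite _)) (Set.ncard_insert_le _ _ |>.trans (by simp))
    intro h hh
    exact key h hh
  refine ⟨fun x y z hxy hxz hyz => ?_, ?_⟩
  · obtain ⟨g, hx, hy⟩ := two_trans x y hxy
    refine (card_stab_le g x y z).trans ?_
    rw [hx, hy]
    refine hup _ ?_ ?_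
    · rw [← hx]; exact fun h => hxz ((MulAction.injective g) h).symm
    · rw [← hy]; exact fun h => hyz ((MulAction.injective g) h).symm
  · have hw : (w0 m : Cfsg.Agent.Lib.Ree.G K m) = gU 0 0 0 * w0 m := by rw [gU_zero, one_mul]
    have d1 : ∀ a b c : K, ((1 : Cfsg.Agent.Lib.Ree.G K m) : X K m) ≠ ((gU a b c * w0 m : Cfsg.Agent.Lib.Ree.G K m) : X K m) := by
      intro a b c h
      have h2 : (gU a b c * w0 m : Cfsg.Agent.Lib.Ree.G K m) ∈ B1 (K := K) m := (coe_eq_one_iff _).1 h.symm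
      have := mul_mem (inv_mem (gU_mem_B1 (m := m) a b c)) h2
      rw [inv_mul_cancel_left] at this
      exact n0_not_borel (mem_B1.1 this)
    have d2 : ((w0 m : Cfsg.Agent.Lib.Ree.G K m) : X K m) ≠ ((gU 0 1 0 * w0 m : Cfsg.Agent.Lib.Ree.G K m) : X K m) := by
      intro h
      exact hne1 (coe_UW (m := m) (a := (0 : K)) (b := 0) (c := 0) (a' := 0) (b' := 1) (c' := 0) (by rw [gU_zero, one_mul]; exact h)).2.1.symm
    have d0 : ((1 : Cfsg.Agent.Lib.Ree.G K m) : X K m) ≠ ((w0 m : Cfsg.Agent.Lib.Ree.G K m) : X K m) := by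
      rw [hw]; exact d1 0 0 0
    refine ⟨_, _, _, d0, d1 0 1 0, d2, le_antisymm (hup _ (d1 0 1 0).symm d2.symm) ?_⟩
    have hna : (gH (-1) : Cfsg.Agent.Lib.Ree.G K m) ≠ 1 := by
      intro h
      have h' : (-1 : Kˣ) = 1 := gH_injective (m := m) (by rw [h, map_one])
      have h2 : (-1 : K) = 1 := congrArg Units.val h'
      have h3 : (3 : K) = 0 := CharP.cast_eq_zero K 3
      exact one_ne_zero (by linear_combination h3 + h2 : (1 : K) = 0)
    have hge : 1 < Nat.card ↥(MulAction.stabilizer _ ((1 : Cfsg.Agent.Lib.Ree.G K m) : X K m) ⊓ MulAction.stabilizer _ ((w0 m : Cfsg.Agent.Lib.Ree.G K m) : X K m) ⊓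
        MulAction.stabilizer (Cfsg.Agent.Lib.Ree.G K m) ((gU 0 1 0 * w0 m : Cfsg.Agent.Lib.Ree.G K m) : X K m)) := by
      rw [Finite.one_lt_card_iff_nontrivial]
      refine ⟨⟨⟨gH (-1), ⟨?_, ?_⟩, ?_⟩, 1, fun h => hna (congrArg Subtype.val h)⟩⟩
      · show _ = _
        rw [smul_one_eq, coe_eq_one_iff]
        exact gH_mem_B1 _
      · show _ = _
        rw [hw, gH_smul]
        simp
      · show _ = _
        rw [gH_smul, scB_neg_one]
        simp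
    exact hge

end

/-- In the small Ree group ²G₂(q), q = 3^(2m+1), realised as G¹ inside the Chevalley group G₂ over the field with q elements, with `B¹ = G¹ ∩ B`: in the action of `G¹` on the cosets of `B¹`, the joint stabiliser of any three distinct cosets has order at most 2, and for some three distinct cosets it has order exactly 2. -/
theorem result {K : Type*} [Field K] [Fintype K] {m : ℕ} (hK : Fintype.card K = 3 ^ (2 * m + 1)) :
    (∀ x y z : ↥(Cfsg.Lie.twistedG2 K (3 ^ m)) ⧸ ((Cfsg.Lie.chevG2.borelSubgroup K ⊓ Cfsg.Lie.twistedG2 K (3 ^ m))).subgroupOf (Cfsg.Lie.twistedG2 K (3 ^ m)), x ≠ y → x ≠ z → y ≠ z →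
        Nat.card ↥(MulAction.stabilizer ↥(Cfsg.Lie.twistedG2 K (3 ^ m)) x ⊓ MulAction.stabilizer ↥(Cfsg.Lie.twistedG2 K (3 ^ m)) y ⊓ MulAction.stabilizer ↥(Cfsg.Lie.twistedG2 K (3 ^ m)) z) ≤ 2) ∧
      ∃ x y z : ↥(Cfsg.Lie.twistedG2 K (3 ^ m)) ⧸ ((Cfsg.Lie.chevG2.borelSubgroup K ⊓ Cfsg.Lie.twistedG2 K (3 ^ m))).subgroupOf (Cfsg.Lie.twistedG2 K (3 ^ m)), x ≠ y ∧ x ≠ z ∧ y ≠ z ∧
        Nat.card ↥(MulAction.stabilizer ↥(Cfsg.Lie.twistedG2 K (3 ^ m)) x ⊓ MulAction.stabilizer ↥(Cfsg.Lie.twistedG2 K (3 ^ m)) y ⊓ MulAction.stabilizer ↥(Cfsg.Lie.twistedG2 K (3 ^ m)) z) = 2 := by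
  haveI := charP_of_card hK
  haveI : Fact (Fintype.card K = 3 ^ (2 * m + 1)) := ⟨hK⟩
  exact main

end Cfsg.Agent.S1153
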