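import Cfsg.Statements.S1167
import Cfsg.Agent.Lib.Zassenhaus.AbelianKernel

set_option autoImplicit false
set_option linter.style.haveILetI false
open Cfsg

namespace Cfsg.Agent.S1167

open Cfsg.Agent.Lib.Zassenhaus

/-- Let `G` be a finite simple Zassenhaus group on `Ω`, `U` a normal subgroup of `G_a` regular on `Ω` minus `a` which is an abelian 2-group, and `v` an involution with `v • a ≠ a`. Then there is a unique `u₀ ∈ U`, `u₀ ≠ 1`, with `v u₀ v = u₀ v u₀`. -/
theorem result {G Ω : Type*} [Group G] [Finite G] [MulAction G Ω] [Finite Ω]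
    (hZ : Cfsg.IsZassenhausGroup G Ω) [IsSimpleGroup G] {a : Ω}
    (U : Subgroup G) (hUle : U ≤ MulAction.stabilizer G a)
    (hUn : ∀ h ∈ MulAction.stabilizer G a, ∀ u ∈ U, h * u * h⁻¹ ∈ U)
    (hreg : ∀ c d : Ω, c ≠ a → d ≠ a → ∃! u : U, (u : G) • c = d)
    (hU2 : IsPGroup 2 U) (hUab : ∀ u ∈ U, ∀ u' ∈ U, u * u' = u' * u)
    (v : G) (hv1 : v ≠ 1) (hv2 : v * v = 1) (hva : v • a ≠ a) :
    ∃! u₀ : G, u₀ ∈ U ∧ u₀ ≠ 1 ∧ v * u₀ * v = u₀ * v * u₀ := by
  classical
  have := faithful hZ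
  have hab : a ≠ v • a := hva.symm
  set b := v • a with hb
  have hU : AbKernel a b U := ⟨hUle, fun g hg u hu => hUn g hg u hu, hUab,
    fun x hx => hreg b x hva hx⟩
  have hvb : v • b = a := by rw [hb, ← mul_smul, hv2, one_smul]
  -- odd degree, sharply three transitive
  have h2 := AbKernel.two_le_card hZ hab hU
  have hcard := AbKernel.card_add_one hab hU
  have hn : Odd (Nat.card Ω) := by
    obtain ⟨k, hk⟩ := IsPGroup.iff_card.1 hU2
    have hk0 : k ≠ 0 := fun h => by rw [hk, h, pow_zero] at h2; omega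
    rw [← hcard, hk]
    exact ((Nat.even_pow.2 ⟨even_two, hk0⟩).add_one)
  have hd := card_pair_of_odd hZ hab hU hn
  -- the kernel consists of involutions
  have hsq : ∀ u ∈ U, u * u = 1 := by
    intro u hu
    by_cases hu1 : u = 1
    · rw [hu1, one_mul]
    obtain ⟨k, hk⟩ := IsPGroup.iff_card.1 hU2
    have hk0 : k ≠ 0 := fun h => by rw [hk, h, pow_zero] at h2; omega
    haveI : Fact (Nat.Prime 2) := ⟨Nat.prime_two⟩
    obtain ⟨j, hj⟩ := exists_prime_orderOf_dvd_card' (G := U) 2 (hk ▸ dvd_pow_self 2 hk0)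
    let f : ↥(MulAction.stabilizer G a ⊓ MulAction.stabilizer G b) → {w : U // w ≠ 1} := fun δ =>
      ⟨⟨(δ : G) * u * (δ : G)⁻¹, hU.conj _ (mem_pair_stabilizer.1 δ.2).1 u hu⟩, fun h => hu1 (by
        have h' : (δ : G) * u * (δ : G)⁻¹ = 1 := congrArg Subtype.val h
        rwa [mul_inv_eq_one, mul_eq_left] at h')⟩
    have hf : Function.Injective f := fun δ ε h =>
      AbKernel.conj_pair_injective hZ hab hU hu hu1
        (congrArg (fun w : {w : U // w ≠ 1} => ((w.1 : U) : G)) h)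
    letI := Fintype.ofFinite U
    have hb2 := hf.bijective_of_nat_card_le (by
      rw [Nat.card_eq_fintype_card (α := {w : U // w ≠ 1}), Fintype.card_subtype_compl,
        Fintype.card_subtype_eq, ← Nat.card_eq_fintype_card]
      omega)
    obtain ⟨δ, hδ⟩ := hb2.2 ⟨j, fun h => by rw [h, orderOf_one] at hj; omega⟩
    have hj' : (δ : G) * u * (δ : G)⁻¹ = (j : G) :=
      congrArg (fun w : {w : U // w ≠ 1} => ((w.1 : U) : G)) hδ
    have hjj : (j : G) * j = 1 := by
      have := pow_orderOf_eq_one j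
      rw [hj, pow_two] at this
      exact congrArg Subtype.val this
    have : (δ : G) * (u * u) * (δ : G)⁻¹ = 1 := by rw [← hjj, ← hj']; group
    rwa [mul_inv_eq_one, mul_eq_left] at this
  -- the fixed point of `v`
  obtain ⟨c, hvc, hcu⟩ := existsUnique_fixed_of_odd hZ hn (orderOf_eq_prime (by rw [pow_two, hv2]) hv1)
  have hca : c ≠ a := fun h => hva (by rw [hb, ← h, hvc])
  have hcb : c ≠ b := fun h => hab (by rw [← hvb, ← h, hvc])
  obtain ⟨⟨u₀, hu₀⟩, hu₀b, hu₀u⟩ := hreg b c hva hca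
  have hu₀b' : u₀ • b = c := hu₀b
  have hu₀1 : u₀ ≠ 1 := fun h => hcb (by rw [← hu₀b', h, one_smul])
  have hua : ∀ u ∈ U, u • a = a := fun u hu => MulAction.mem_stabilizer_iff.1 (hUle hu)
  -- `w = v u₀` permutes `a, b, c` cyclically
  have hu₀c : u₀ • c = b := by rw [← hu₀b', ← mul_smul, hsq u₀ hu₀, one_smul]
  have hw3 : (v * u₀) * (v * u₀) * (v * u₀) = 1 := by
    refine eq_one_of_three hZ hab hcb.symm hca.symm ?_ ?_ ?_ <;>
      simp only [mul_smul, hua u₀ hu₀, hu₀b', hu₀c, hvb, hvc, ← hb]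
  have hvi : v⁻¹ = v := inv_eq_of_mul_eq_one_right hv2
  have hui : u₀⁻¹ = u₀ := inv_eq_of_mul_eq_one_right (hsq u₀ hu₀)
  refine ⟨u₀, ⟨hu₀, hu₀1, ?_⟩, ?_⟩
  · calc v * u₀ * v = (v * u₀) * (v * u₀) * (v * u₀) * (u₀⁻¹ * v⁻¹ * u₀⁻¹) := by group
      _ = u₀ * v * u₀ := by rw [hw3, one_mul, hui, hvi]
  · rintro u ⟨hu, -, he⟩
    have hd1 : v • (u • b) = u • b := by
      have h := congrArg (fun g : G => g • a) he
      simp only [mul_smul, hua u hu, ← hb] at h
      exact h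
    have hue : u • b = c := hcu _ hd1
    exact congrArg Subtype.val (hu₀u ⟨u, hu⟩ hue)

end Cfsg.Agent.S1167
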