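import Cfsg.Statements.S1176
import Cfsg.Agent.Lib.Involutions.Basic

set_option autoImplicit false
open Cfsg
open scoped commutatorElement

namespace Cfsg.Agent.S1176

/-- Let x₀ be an involution of the finite group G and D its conjugacy class. Assume (a) for each x ∈ D the subgroup W(x) generated by the members of D commuting with x is a 2-group of nilpotency class at most 2, and (b) the product of two distinct commuting members of D again lies in D. Then for all x, y ∈ D, if xy has even order greater than 2, its order is 4. -/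
theorem result {G : Type*} [Group G] [Finite G] (x₀ : G) (hx₀ : orderOf x₀ = 2) (ha : ∀ x : G, IsConj x₀ x → IsPGroup 2 ↥(Subgroup.closure {y : G | IsConj x₀ y ∧ Commute y x}) ∧ ⁅⁅Subgroup.closure {y : G | IsConj x₀ y ∧ Commute y x}, Subgroup.closure {y : G | IsConj x₀ y ∧ Commute y x}⁆, Subgroup.closure {y : G | IsConj x₀ y ∧ Commute y x}⁆ = ⊥) (hb : ∀ x y : G, IsConj x₀ x → IsConj x₀ y → x ≠ y → Commute x y → IsConj x₀ (x * y)) (x y : G) (hx : IsConj x₀ x) (hy : IsConj x₀ y) (heven : Even (orderOf (x * y))) (hgt : 2 < orderOf (x * y)) : orderOf (x * y) = 4 := by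
  have hxo : orderOf x = 2 := by
    obtain ⟨a, rfl⟩ := isConj_iff.1 hx
    exact (Lib.Involutions.Basic.orderOf_conj_eq a x₀).trans hx₀
  have hyo : orderOf y = 2 := by
    obtain ⟨a, rfl⟩ := isConj_iff.1 hy
    exact (Lib.Involutions.Basic.orderOf_conj_eq a x₀).trans hx₀
  have hxx := Lib.Involutions.Basic.invol_mul_self hxo
  have hyy := Lib.Involutions.Basic.invol_mul_self hyo
  obtain ⟨hv, hvx, hvy⟩ := Lib.Involutions.Basic.central_invol hxo hyo heven
  set m := orderOf (x * y) / 2 with hm
  set r := x * y with hr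
  have hcomm := Lib.Involutions.Basic.invert_comm hxx (Lib.Involutions.Basic.invert_mul hxx hyy)
  -- `x * r ^ m` lies in the class
  have hxv : IsConj x₀ (x * r ^ m) := by
    rcases Nat.even_or_odd m with ⟨j, hj⟩ | ⟨j, hj⟩
    · refine hx.trans (isConj_iff.2 ⟨r ^ (-(j : ℤ)), ?_⟩)
      rw [hr] at *
      rw [hcomm, neg_neg, mul_assoc, ← zpow_neg, neg_neg, ← zpow_add, ← zpow_natCast (x * y) m, hj]
      push_cast
      rfl
    · refine hy.trans (isConj_iff.2 ⟨r ^ (-(j : ℤ)), ?_⟩)
      have e : y = x * r := by rw [hr, ← mul_assoc, hxx, one_mul]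
      rw [hr] at *
      conv_lhs => arg 1; arg 2; rw [e]
      rw [← mul_assoc, hcomm, neg_neg, mul_assoc x, ← zpow_neg, neg_neg, ← zpow_add_one,
        mul_assoc x, ← zpow_add, ← zpow_natCast (x * y) m, hj]
      congr 2
      push_cast
      ring
  have hvD : IsConj x₀ (r ^ m) := by
    have h := hb x (x * r ^ m) hx hxv
      (fun h => Lib.Involutions.Basic.invol_ne_one hv (left_eq_mul.1 h))
      ((Commute.refl x).mul_right hvx.symm)
    rwa [← mul_assoc, hxx, one_mul] at h
  obtain ⟨-, h3⟩ := ha (r ^ m) hvD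
  have hxW : x ∈ Subgroup.closure {w : G | IsConj x₀ w ∧ Commute w (r ^ m)} :=
    Subgroup.subset_closure ⟨hx, hvx.symm⟩
  have hyW : y ∈ Subgroup.closure {w : G | IsConj x₀ w ∧ Commute w (r ^ m)} :=
    Subgroup.subset_closure ⟨hy, hvy.symm⟩
  have hc := Subgroup.commutator_mem_commutator (Subgroup.commutator_mem_commutator hxW hyW) hxW
  rw [h3, Subgroup.mem_bot, commutatorElement_eq_one_iff_mul_comm] at hc
  have hrr : ⁅x, y⁆ = r * r := by
    rw [commutatorElement_def, Lib.Involutions.Basic.invol_inv hxo,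
      Lib.Involutions.Basic.invol_inv hyo, hr]
    group
  rw [hrr] at hc
  have hinv := Lib.Involutions.Basic.invert_mul hxx hyy
  have h4 : r ^ 4 = 1 := by
    have h1 : x * (r * r) * x = (r * r)⁻¹ := by
      calc x * (r * r) * x = (x * r * x) * (x * r * x) := by
            rw [show x * r * x * (x * r * x) = x * r * (x * x) * r * x by group, hxx]; group
        _ = (r * r)⁻¹ := by rw [hr, hinv, mul_inv_rev (x * y) (x * y)]
    rw [← hc, mul_assoc, hxx, mul_one, eq_inv_iff_mul_eq_one] at h1
    rw [show r ^ 4 = r * r * (r * r) by simp only [pow_succ, pow_zero, one_mul, mul_assoc]]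
    exact h1
  have hdvd : orderOf r ∣ 4 := orderOf_dvd_of_pow_eq_one h4
  have := Nat.le_of_dvd (by norm_num) hdvd
  obtain ⟨q, hq⟩ := heven
  omega

end Cfsg.Agent.S1176
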