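import Cfsg.Statements.S1177


set_option autoImplicit false
open Cfsg

namespace Cfsg.Agent.S1177

/-- Let A be a nontrivial elementary abelian 2-subgroup of a finite group G which is a T.I. set (each conjugate of A meets A trivially or equals A) and which does not commute elementwise with any conjugate of A other than A itself. Then for every a ∈ A, a ≠ 1, every conjugate of A contained in C_G(a) is equal to A (A is weakly closed in C_G(a)). -/
theorem result {G : Type*} [Group G] [Finite G] (A : Subgroup G) (hA : Cfsg.IsElementaryAbelian 2 A) (hA1 : A ≠ ⊥) (hTI : ∀ g : G, A.map (MulAut.conj g).toMonoidHom ⊓ A = ⊥ ∨ A.map (MulAut.conj g).toMonoidHom = A) (hb : ∀ g : G, (∀ a ∈ A, ∀ b ∈ A.map (MulAut.conj g).toMonoidHom, a * b = b * a) → A.map (MulAut.conj g).toMonoidHom = A) (a : G) (ha : a ∈ A) (ha1 : a ≠ 1) (g : G) (hg : A.map (MulAut.conj g).toMonoidHom ≤ Subgroup.centralizer ({a} : Set G)) : A.map (MulAut.conj g).toMonoidHom = A := by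
  obtain ⟨hAc, hAsq⟩ := hA
  have := hAc
  set B := A.map (MulAut.conj g).toMonoidHom with hB
  rcases hTI g with hdis | heq
  swap
  · exact heq
  have hBinv : ∀ b ∈ B, b⁻¹ = b := by
    rintro _ ⟨a', ha', rfl⟩
    refine inv_eq_of_mul_eq_one_right ?_
    rw [← map_mul, ← pow_two, hAsq a' ha', map_one]
  have hab : ∀ b ∈ B, Commute a b := fun b hb =>
    Subgroup.mem_centralizer_iff.1 (hg hb) a rfl
  -- every element of `B` normalises `A`
  have hN : ∀ b ∈ B, ∀ c ∈ A, b * c * b⁻¹ ∈ A := by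
    intro b hb c hc
    have hab' : a ∈ A.map (MulAut.conj b).toMonoidHom :=
      ⟨a, ha, show b * a * b⁻¹ = a by rw [← (hab b hb).eq, mul_inv_cancel_right]⟩
    rcases hTI b with h | h
    · exact absurd ((Subgroup.eq_bot_iff_forall _).1 h a ⟨hab', ha⟩) ha1
    · exact h ▸ ⟨c, hc, rfl⟩
  -- every element of `A` commutes with a nontrivial element of `B`
  have hfix : ∀ c ∈ A, ∃ b ∈ B, b ≠ 1 ∧ Commute b c := by
    intro c hc
    by_contra hno
    simp only [not_exists, not_and] at hno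
    by_cases hc1 : c = 1
    · obtain ⟨e, he, he1⟩ := (Subgroup.ne_bot_iff_exists_ne_one).1 hA1 |>
        fun ⟨e, he⟩ => (⟨(e : G), e.2, fun h => he (Subtype.ext h)⟩ : ∃ e ∈ A, e ≠ (1 : G))
      exact hno (MulAut.conj g e) ⟨e, he, rfl⟩
        (fun h => he1 ((MulAut.conj g).injective (h.trans (map_one _).symm)))
        (hc1 ▸ Commute.one_right _)
    · let f : B → {e : A // e ≠ 1} := fun b =>
        ⟨⟨(b : G) * c * (b : G)⁻¹, hN b b.2 c hc⟩, fun h =>
          hc1 (conj_eq_one_iff.1 (congrArg Subtype.val h))⟩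
      have hf : Function.Injective f := by
        intro b₁ b₂ h
        have h' : (b₁ : G) * c * (b₁ : G)⁻¹ = (b₂ : G) * c * (b₂ : G)⁻¹ :=
          congrArg (fun e : {e : A // e ≠ 1} => ((e : A) : G)) h
        by_contra hne
        refine hno ((b₂ : G)⁻¹ * b₁) (mul_mem (inv_mem b₂.2) b₁.2) (fun h1 => hne ?_) ?_
        · exact Subtype.ext (inv_mul_eq_one.1 h1).symm
        · show (b₂ : G)⁻¹ * b₁ * c = c * ((b₂ : G)⁻¹ * b₁)
          calc (b₂ : G)⁻¹ * b₁ * c = (b₂ : G)⁻¹ * ((b₁ : G) * c * (b₁ : G)⁻¹) * b₁ := by group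
            _ = (b₂ : G)⁻¹ * ((b₂ : G) * c * (b₂ : G)⁻¹) * b₁ := by rw [h']
            _ = c * ((b₂ : G)⁻¹ * b₁) := by group
      have h1 := Nat.card_le_card_of_injective f hf
      have h2 : Nat.card B = Nat.card A :=
        Subgroup.card_map_of_injective (MulAut.conj g).injective
      have h3 : Nat.card {e : A // e ≠ 1} < Nat.card A :=
        Finite.card_subtype_lt (x := 1) (fun h => h rfl)
      omega
  refine hb g fun c hc b hbB => ?_
  obtain ⟨b₁, hb₁, hb₁1, hcomm⟩ := hfix c hc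
  have hcB : ∀ b' ∈ B, c * b' * c⁻¹ ∈ B := by
    obtain ⟨e, he, he'⟩ := hb₁
    intro b' hb'
    rcases hTI (g⁻¹ * c * g) with h | h
    · have hmem : e ∈ A.map (MulAut.conj (g⁻¹ * c * g)).toMonoidHom := by
        refine ⟨e, he, ?_⟩
        apply (MulAut.conj g).injective
        calc g * ((g⁻¹ * c * g) * e * (g⁻¹ * c * g)⁻¹) * g⁻¹ = c * (g * e * g⁻¹) * c⁻¹ := by group
          _ = g * e * g⁻¹ := by
            rw [show g * e * g⁻¹ = b₁ from he', ← hcomm.eq, mul_inv_cancel_right]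
      have he1 := (Subgroup.eq_bot_iff_forall _).1 h e ⟨hmem, he⟩
      exact absurd (by rw [← he', he1, map_one]) hb₁1
    · obtain ⟨e', he2, rfl⟩ := hb'
      refine ⟨(g⁻¹ * c * g) * e' * (g⁻¹ * c * g)⁻¹, h ▸ ⟨e', he2, rfl⟩, ?_⟩
      show g * ((g⁻¹ * c * g) * e' * (g⁻¹ * c * g)⁻¹) * g⁻¹ = c * (g * e' * g⁻¹) * c⁻¹
      group
  have hmemA : c * b * c⁻¹ * b⁻¹ ∈ A := by
    have := mul_mem hc (hN b hbB _ (inv_mem hc))
    rwa [show c * (b * c⁻¹ * b⁻¹) = c * b * c⁻¹ * b⁻¹ by group] at this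
  have h1 := (Subgroup.eq_bot_iff_forall _).1 hdis _
    (Subgroup.mem_inf.2 ⟨mul_mem (hcB b hbB) (inv_mem hbB), hmemA⟩)
  exact mul_inv_eq_iff_eq_mul.1 (mul_inv_eq_one.1 h1)

end Cfsg.Agent.S1177
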