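import Cfsg.Statements.S1178


set_option autoImplicit false
open Cfsg

namespace Cfsg.Agent.S1178

/-- Let A be a subgroup of a Sylow 2-subgroup S of the finite group G which is weakly closed in S. If a conjugate g A g⁻¹ commutes elementwise with A, then g A g⁻¹ = A. -/
theorem result {G : Type*} [Group G] [Finite G] (S : Sylow 2 G) (A : Subgroup G) (hW : Cfsg.IsWeaklyClosed A (S : Subgroup G)) (g : G) (hc : ∀ a ∈ A, ∀ b ∈ A.map (MulAut.conj g).toMonoidHom, a * b = b * a) : A.map (MulAut.conj g).toMonoidHom = A := by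
  set B := A.map (MulAut.conj g).toMonoidHom with hB
  have hA2 : IsPGroup 2 A := S.isPGroup'.to_le hW.1
  have hB2 : IsPGroup 2 B := hA2.map _
  have hle : B ≤ Subgroup.normalizer (A : Set G) := by
    intro b hb
    rw [Subgroup.mem_normalizer_iff]
    intro a
    constructor
    · intro ha
      rwa [← hc a ha b hb, mul_inv_cancel_right]
    · intro ha
      have h1 := hc _ ha b hb
      have : b * a * b⁻¹ = a := by
        calc b * a * b⁻¹ = b⁻¹ * (b * (b * a * b⁻¹)) := by group
          _ = b⁻¹ * (b * a * b⁻¹ * b) := by rw [h1]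
          _ = a := by group
      exact this ▸ ha
  obtain ⟨P, hP⟩ := (hA2.to_sup_of_normal_left' hB2 hle).exists_le_sylow
  obtain ⟨x, hx⟩ := MulAction.exists_smul_eq G P S
  have key : ∀ a : G, A.map (MulAut.conj a).toMonoidHom ≤ P →
      A.map (MulAut.conj (x * a)).toMonoidHom = A := by
    intro a ha
    apply hW.2
    rintro _ ⟨e, he, rfl⟩
    have hmem : x * (a * e * a⁻¹) * x⁻¹ ∈ (S : Subgroup G) := by
      rw [← hx]
      exact ⟨a * e * a⁻¹, ha ⟨e, he, rfl⟩, rfl⟩
    show x * a * e * (x * a)⁻¹ ∈ (S : Subgroup G)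
    rwa [show x * a * e * (x * a)⁻¹ = x * (a * e * a⁻¹) * x⁻¹ by group]
  have h1 := key g (le_sup_right.trans hP)
  have h2 := key 1 (by
    rintro _ ⟨e, he, rfl⟩
    exact hP (Subgroup.mem_sup_left (by simpa using he)))
  rw [mul_one] at h2
  have hcomp : ∀ a b : G, A.map (MulAut.conj (a * b)).toMonoidHom =
      (A.map (MulAut.conj b).toMonoidHom).map (MulAut.conj a).toMonoidHom := by
    intro a b
    rw [Subgroup.map_map]
    congr 1
    ext e
    simp [MulAut.conj_apply, mul_assoc]
  rw [hcomp] at h1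
  exact Subgroup.map_injective (MulAut.conj x).injective (h1.trans h2.symm)

end Cfsg.Agent.S1178
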