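import Cfsg.Statements.S1180
import Cfsg.Agent.Lib.IsolatedInvolution.Basic

set_option autoImplicit false
open Cfsg

namespace Cfsg.Agent.S1180

/-- Let z be an isolated involution of the finite group G and H a subgroup containing z. Then every conjugate g z g⁻¹ that lies in H is conjugate to z by an element of H. -/
theorem result {G : Type*} [Group G] [Finite G] (z : G) (hz : Cfsg.IsIsolatedInvolution z) (H : Subgroup G) (hzH : z ∈ H) (g : G) (hg : g * z * g⁻¹ ∈ H) : ∃ h ∈ H, h * z * h⁻¹ = g * z * g⁻¹ := by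
  have hconj : IsConj z (g * z * g⁻¹) := isConj_iff.2 ⟨g, rfl⟩
  have hodd := Lib.IsolatedInvolution.Basic.odd_orderOf_mul hz hconj (IsConj.refl z)
  refine ⟨Lib.IsolatedInvolution.Basic.half (g * z * g⁻¹) z, ?_,
    Lib.IsolatedInvolution.Basic.half_conj ?_ ?_ hodd⟩
  · exact Subgroup.zpowers_le.2 (mul_mem hg hzH)
      (Lib.IsolatedInvolution.Basic.half_mem_zpowers _ _)
  · exact Lib.Involutions.Basic.invol_mul_self ((Lib.Involutions.Basic.orderOf_conj_eq g z).trans hz.1)
  · exact Lib.Involutions.Basic.invol_mul_self hz.1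

end Cfsg.Agent.S1180
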