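import Cfsg.Statements.S1181
import Cfsg.Agent.Lib.IsolatedInvolution.Basic

set_option autoImplicit false
open Cfsg

namespace Cfsg.Agent.S1181

/-- Let z be an isolated involution of the finite group G and N a normal subgroup with z ∉ N. Then the centralizer of zN in G/N is the image of C_G(z), and zN is an isolated involution of G/N. -/
theorem result {G : Type*} [Group G] [Finite G] (z : G) (hz : Cfsg.IsIsolatedInvolution z) (N : Subgroup G) [N.Normal] (hzN : z ∉ N) : Subgroup.centralizer ({(QuotientGroup.mk z : G ⧸ N)} : Set (G ⧸ N)) = (Subgroup.centralizer ({z} : Set G)).map (QuotientGroup.mk' N) ∧ Cfsg.IsIsolatedInvolution (QuotientGroup.mk z : G ⧸ N) := by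
  have hzz := Lib.Involutions.Basic.invol_mul_self hz.1
  -- a conjugate of `z` in the same coset of `N` is conjugate to it by an element of `N`
  have key : ∀ g : G, (QuotientGroup.mk (g * z * g⁻¹ * z) : G ⧸ N) = 1 →
      ∃ k ∈ N, k * z * k⁻¹ = g * z * g⁻¹ := fun g hgN => by
    have hconj : IsConj z (g * z * g⁻¹) := isConj_iff.2 ⟨g, rfl⟩
    have hodd := Lib.IsolatedInvolution.Basic.odd_orderOf_mul hz hconj (IsConj.refl z)
    refine ⟨_, Subgroup.zpowers_le.2 ((QuotientGroup.eq_one_iff _).1 hgN)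
      (Lib.IsolatedInvolution.Basic.half_mem_zpowers _ _),
      Lib.IsolatedInvolution.Basic.half_conj ?_ hzz hodd⟩
    exact Lib.Involutions.Basic.invol_mul_self
      ((Lib.Involutions.Basic.orderOf_conj_eq g z).trans hz.1)
  have hzbar : (QuotientGroup.mk z : G ⧸ N) * QuotientGroup.mk z = 1 := by
    rw [← QuotientGroup.mk_mul, hzz, QuotientGroup.mk_one]
  refine ⟨le_antisymm ?_ ?_, ?_, ?_⟩
  · intro q hq
    obtain ⟨g, rfl⟩ := QuotientGroup.mk_surjective q
    have hq' : (QuotientGroup.mk g : G ⧸ N) * QuotientGroup.mk z =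
        QuotientGroup.mk z * QuotientGroup.mk g := Subgroup.mem_centralizer_singleton_iff.1 hq
    obtain ⟨k, hkN, hk⟩ := key g (by
      simp only [QuotientGroup.mk_mul, QuotientGroup.mk_inv]
      rw [hq', mul_inv_cancel_right, hzbar])
    refine ⟨k⁻¹ * g, Subgroup.mem_centralizer_singleton_iff.2 ?_, ?_⟩
    · calc k⁻¹ * g * z = k⁻¹ * (g * z * g⁻¹) * g := by group
        _ = k⁻¹ * (k * z * k⁻¹) * g := by rw [hk]
        _ = z * (k⁻¹ * g) := by group
    · show (QuotientGroup.mk (k⁻¹ * g) : G ⧸ N) = QuotientGroup.mk g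
      rw [QuotientGroup.mk_mul, QuotientGroup.mk_inv, (QuotientGroup.eq_one_iff k).2 hkN, inv_one,
        one_mul]
  · rintro _ ⟨c, hc, rfl⟩
    rw [Subgroup.mem_centralizer_singleton_iff]
    show (QuotientGroup.mk c : G ⧸ N) * QuotientGroup.mk z =
      QuotientGroup.mk z * QuotientGroup.mk c
    rw [← QuotientGroup.mk_mul, ← QuotientGroup.mk_mul,
      Subgroup.mem_centralizer_singleton_iff.1 hc]
  · exact orderOf_eq_prime (by rw [pow_two, hzbar]) fun h => hzN ((QuotientGroup.eq_one_iff z).1 h)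
  · intro q hq
    obtain ⟨g, rfl⟩ := QuotientGroup.mk_surjective q
    rw [← QuotientGroup.mk_inv, ← QuotientGroup.mk_mul, ← QuotientGroup.mk_mul] at hq ⊢
    have hconj : IsConj z (g * z * g⁻¹) := isConj_iff.2 ⟨g, rfl⟩
    have hodd := Lib.IsolatedInvolution.Basic.odd_orderOf_mul hz hconj (IsConj.refl z)
    have hgg : (QuotientGroup.mk (g * z * g⁻¹) : G ⧸ N) * QuotientGroup.mk (g * z * g⁻¹) = 1 := by
      rw [← QuotientGroup.mk_mul, ← QuotientGroup.mk_one]
      congr 1
      exact Lib.Involutions.Basic.invol_mul_self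
        ((Lib.Involutions.Basic.orderOf_conj_eq g z).trans hz.1)
    have h2 : (QuotientGroup.mk (g * z * g⁻¹ * z) : G ⧸ N) ^ 2 = 1 := by
      rw [pow_two, QuotientGroup.mk_mul]
      calc (QuotientGroup.mk (g * z * g⁻¹) : G ⧸ N) * QuotientGroup.mk z *
            (QuotientGroup.mk (g * z * g⁻¹) * QuotientGroup.mk z)
          = (QuotientGroup.mk (g * z * g⁻¹) : G ⧸ N) *
            (QuotientGroup.mk z * QuotientGroup.mk (g * z * g⁻¹)) * QuotientGroup.mk z := by
            simp only [mul_assoc]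
        _ = (QuotientGroup.mk (g * z * g⁻¹) : G ⧸ N) *
            (QuotientGroup.mk (g * z * g⁻¹) * QuotientGroup.mk z) * QuotientGroup.mk z := by
            rw [hq.eq]
        _ = 1 := by rw [← mul_assoc (QuotientGroup.mk (g * z * g⁻¹) : G ⧸ N), hgg, one_mul, hzbar]
    have h3 : (QuotientGroup.mk (g * z * g⁻¹ * z) : G ⧸ N) ^ orderOf (g * z * g⁻¹ * z) = 1 := by
      rw [← QuotientGroup.mk_pow, pow_orderOf_eq_one, QuotientGroup.mk_one]
    have h1 := pow_gcd_eq_one.2 ⟨h2, h3⟩
    rw [show Nat.gcd 2 (orderOf (g * z * g⁻¹ * z)) = 1 from Nat.coprime_two_left.2 hodd, pow_one,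
      QuotientGroup.mk_mul] at h1
    calc (QuotientGroup.mk (g * z * g⁻¹) : G ⧸ N)
        = QuotientGroup.mk (g * z * g⁻¹) * QuotientGroup.mk z * QuotientGroup.mk z := by
          rw [mul_assoc (QuotientGroup.mk (g * z * g⁻¹) : G ⧸ N), hzbar, mul_one]
      _ = QuotientGroup.mk z := by rw [h1, one_mul]

end Cfsg.Agent.S1181
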