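import Cfsg.Statements.S1182
import Cfsg.Agent.Lib.IsolatedInvolution.Basic

set_option autoImplicit false
open Cfsg

namespace Cfsg.Agent.S1182

/-- Let z be an isolated involution of the finite group G and H a subgroup normalized by z. If x, y ∈ H both commute with z and y = h x h⁻¹ for some h ∈ H, then y = c x c⁻¹ for some c ∈ H commuting with z. -/
theorem result {G : Type*} [Group G] [Finite G] (z : G) (hz : Cfsg.IsIsolatedInvolution z) (H : Subgroup G) (hzH : z ∈ Subgroup.normalizer (H : Set G)) (x y : G) (hx : x ∈ H) (hy : y ∈ H) (hxz : Commute x z) (hyz : Commute y z) (h : G) (hh : h ∈ H) (hconj : h * x * h⁻¹ = y) : ∃ c ∈ H, Commute c z ∧ c * x * c⁻¹ = y := by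
  have hzz := Lib.Involutions.Basic.invol_mul_self hz.1
  have hzi : z⁻¹ = z := Lib.Involutions.Basic.invol_inv hz.1
  set t := h⁻¹ * z * h with ht
  have hconj : IsConj z t := isConj_iff.2 ⟨h⁻¹, by rw [ht, inv_inv]⟩
  have htt : t * t = 1 :=
    Lib.Involutions.Basic.invol_mul_self
      (Lib.IsolatedInvolution.Basic.isolated_of_isConj hz hconj).1
  have hodd := Lib.IsolatedInvolution.Basic.odd_orderOf_mul hz hconj (IsConj.refl z)
  have htzH : t * z ∈ H := by
    have : z * h * z⁻¹ ∈ H := (Subgroup.mem_normalizer_iff.1 hzH h).1 hh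
    have := mul_mem (inv_mem hh) this
    rwa [hzi, show h⁻¹ * (z * h * z) = t * z by rw [ht]; group] at this
  have htx : Commute x t := by
    show x * (h⁻¹ * z * h) = h⁻¹ * z * h * x
    calc x * (h⁻¹ * z * h) = h⁻¹ * ((h * x * h⁻¹) * z) * h := by group
      _ = h⁻¹ * (z * (h * x * h⁻¹)) * h := by rw [show h * x * h⁻¹ * z = z * (h * x * h⁻¹) from by rw [‹h * x * h⁻¹ = y›]; exact hyz]
      _ = h⁻¹ * z * h * x := by group
  have hk := Lib.IsolatedInvolution.Basic.half_conj htt hzz hodd
  set k := Lib.IsolatedInvolution.Basic.half t z with hkdef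
  have hkH : k ∈ H :=
    Subgroup.zpowers_le.2 htzH (Lib.IsolatedInvolution.Basic.half_mem_zpowers _ _)
  have hkx : Commute x k := by
    rw [hkdef, Lib.IsolatedInvolution.Basic.half]
    exact (htx.mul_right hxz).pow_right _
  refine ⟨h * k, mul_mem hh hkH, ?_, ?_⟩
  · show h * k * z = z * (h * k)
    calc h * k * z = h * (k * z * k⁻¹) * k := by group
      _ = h * (h⁻¹ * z * h) * k := by rw [hk]
      _ = z * (h * k) := by group
  · rw [show h * k * x * (h * k)⁻¹ = h * (k * x * k⁻¹) * h⁻¹ by group, ← hkx.eq,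
      mul_inv_cancel_right]
    assumption

end Cfsg.Agent.S1182
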