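import Cfsg.Statements.S1183
import Cfsg.Agent.Lib.IsolatedInvolution.Basic
import Cfsg.Agent.Lib.TwoGroups.FusionCentric
import Cfsg.Agent.S1182

set_option autoImplicit false
open Cfsg

namespace Cfsg.Agent.S1183

/-- Let z be an isolated involution of the finite group G and C = C_G(z). Then the subgroup of G generated by its elements of odd order is all of G if and only if the subgroup of C generated by its elements of odd order is all of C. -/
theorem result {G : Type*} [Group G] [Finite G] (z : G) (hz : Cfsg.IsIsolatedInvolution z) : Cfsg.pResidual 2 G = ⊤ ↔ Cfsg.pResidual 2 ↥(Subgroup.centralizer ({z} : Set G)) = ⊤ := by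
  have hp : Fact (Nat.Prime 2) := ⟨Nat.prime_two⟩
  -- every `x ∈ S` commutes with `z` when `z ∈ S`
  obtain ⟨S, hzS⟩ : ∃ S : Sylow 2 G, z ∈ S := by
    have hz2 : IsPGroup 2 (Subgroup.zpowers z) :=
      IsPGroup.of_card (n := 1) (by rw [Nat.card_zpowers, hz.1, pow_one])
    obtain ⟨S, hS⟩ := hz2.exists_le_sylow
    exact ⟨S, hS (Subgroup.mem_zpowers z)⟩
  set C := Subgroup.centralizer ({z} : Set G) with hC
  have hSC : (S : Subgroup G) ≤ C := by
    intro s hs
    rw [hC, Subgroup.mem_centralizer_singleton_iff]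
    have hmem : s * z * s⁻¹ * z ∈ (S : Subgroup G) :=
      mul_mem (mul_mem (mul_mem hs hzS) (inv_mem hs)) hzS
    obtain ⟨k, hk⟩ := S.2 ⟨_, hmem⟩
    have hodd := Lib.IsolatedInvolution.Basic.odd_orderOf_mul hz
      (isConj_iff.2 ⟨s, rfl⟩ : IsConj z (s * z * s⁻¹)) (IsConj.refl z)
    have hk' : (s * z * s⁻¹ * z) ^ 2 ^ k = 1 := congrArg Subtype.val hk
    have h1 := pow_gcd_eq_one.2 ⟨hk', pow_orderOf_eq_one (s * z * s⁻¹ * z)⟩
    rw [show Nat.gcd (2 ^ k) (orderOf (s * z * s⁻¹ * z)) = 1 from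
      (Nat.coprime_two_left.2 hodd).pow_left k, pow_one] at h1
    calc s * z = (s * z * s⁻¹ * z) * z⁻¹ * s := by group
      _ = z * s := by rw [h1, one_mul, Lib.Involutions.Basic.invol_inv hz.1]
  have hstep : ∀ (X : Type _) [Group X] [Finite X],
      Cfsg.pResidual 2 X ≠ ⊤ → ∃ H : Subgroup X, H.index = 2 := by
    intro X _ _ hX
    obtain ⟨j, hj⟩ := Lib.Transfer.PResidual.exists_index_eq_pow (p := 2) (G := X)
    have hn : (Cfsg.pResidual 2 X).Normal := inferInstance
    rcases Nat.eq_zero_or_pos j with rfl | hjpos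
    · exact absurd (Subgroup.index_eq_one.1 hj) hX
    rw [Subgroup.index_eq_card] at hj
    obtain ⟨j', rfl⟩ : ∃ j', j = j' + 1 := ⟨j - 1, by omega⟩
    obtain ⟨K, hK⟩ := Sylow.exists_subgroup_card_pow_prime 2
      (G := X ⧸ Cfsg.pResidual 2 X) (n := j') (by rw [hj]; exact pow_dvd_pow 2 (by omega))
    refine ⟨K.comap (QuotientGroup.mk' _), ?_⟩
    rw [Subgroup.index_comap_of_surjective _ (QuotientGroup.mk'_surjective _)]
    have h1 := K.card_mul_index
    rw [hK, hj, pow_succ] at h1
    exact Nat.eq_of_mul_eq_mul_left (by positivity) h1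
  have hodd2 : ∀ (X : Type _) [Group X] [Finite X] (H : Subgroup X), H.index = 2 →
      Cfsg.pResidual 2 X ≠ ⊤ := by
    intro X _ _ H hH htop
    have hle : Cfsg.pResidual 2 X ≤ H := by
      refine Lib.Transfer.PResidual.pResidual_le_iff.2 fun g hg => ?_
      obtain ⟨m, hm⟩ := Nat.coprime_two_right.1 hg
      have h1 : g ^ (2 * m + 1) = 1 := hm ▸ pow_orderOf_eq_one g
      have h2 : (g ^ m) ^ 2 ∈ H := Subgroup.sq_mem_of_index_two hH _
      have h3 : g = ((g ^ m) ^ 2)⁻¹ := by
        rw [eq_inv_iff_mul_eq_one, ← pow_mul, ← pow_succ', mul_comm m 2, h1]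
      rw [h3]
      exact inv_mem h2
    rw [htop, top_le_iff] at hle
    rw [hle, Subgroup.index_top] at hH
    omega
  constructor
  · intro hG
    by_contra hne
    obtain ⟨H, hH⟩ := hstep ↥C hne
    set M := (S : Subgroup G) ⊓ H.map C.subtype with hM
    have hinv : ∀ x ∈ S, ∀ g : G, g * x * g⁻¹ ∈ S → x⁻¹ * (g * x * g⁻¹) ∈ M := by
      intro x hx g hgx
      refine Subgroup.mem_inf.2 ⟨mul_mem (inv_mem hx) hgx, ?_⟩
      obtain ⟨c, -, hcz, hcx⟩ := Cfsg.Agent.S1182.result z hz ⊤
        (Subgroup.mem_normalizer_iff.2 fun w =>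
          iff_of_true (Subgroup.mem_top w) (Subgroup.mem_top _))
        x (g * x * g⁻¹) trivial trivial
        (Subgroup.mem_centralizer_singleton_iff.1 (hSC hx))
        (Subgroup.mem_centralizer_singleton_iff.1 (hSC hgx)) g trivial rfl
      have hcC : c ∈ C := Subgroup.mem_centralizer_singleton_iff.2 hcz.eq
      refine ⟨(⟨x, hSC hx⟩ : C)⁻¹ * (⟨c, hcC⟩ * ⟨x, hSC hx⟩ * ⟨c, hcC⟩⁻¹), ?_, ?_⟩
      · have : H.Normal := Subgroup.normal_of_index_eq_two hH
        have key : ∀ a b : C, a⁻¹ * (b * a * b⁻¹) ∈ H := fun a b => by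
          simp only [Subgroup.mul_mem_iff_of_index_two hH, inv_mem_iff]
          tauto
        exact key _ _
      · show x⁻¹ * (c * x * c⁻¹) = _
        rw [hcx]
    obtain ⟨K, hKn, hKS, hKi, hKodd⟩ :=
      Lib.TwoGroups.FusionCentric.exists_normal_of_invariant S M inf_le_left hinv
    have hle : Cfsg.pResidual 2 G ≤ K := Lib.Transfer.PResidual.pResidual_le_iff.2 hKodd
    rw [hG, top_le_iff] at hle
    rw [hle, Subgroup.index_top, eq_comm, Subgroup.relIndex_eq_one] at hKi
    -- the Sylow subgroup would lie in a subgroup of index two of the centraliser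
    have hSH : (S : Subgroup G).subgroupOf C ≤ H := by
      intro u hu
      obtain ⟨v, hv, hvu⟩ := (hKi hu).2
      exact (Subtype.ext hvu : v = u) ▸ hv
    have h1 : H.index ∣ ((S : Subgroup G).subgroupOf C).index := Subgroup.index_dvd_of_le hSH
    rw [hH] at h1
    exact S.not_dvd_index (h1.trans (Subgroup.relIndex_dvd_index_of_le hSC))
  · intro hCtop
    by_contra hne
    obtain ⟨N, hN⟩ := hstep G hne
    have hNn : N.Normal := Subgroup.normal_of_index_eq_two hN
    have h1 : N.relIndex C ∣ 2 := by rw [← hN]; exact N.relIndex_dvd_index_of_normal C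
    rcases (Nat.dvd_prime Nat.prime_two).1 h1 with h | h
    · have h2 : (S : Subgroup G) ≤ N := hSC.trans (Subgroup.relIndex_eq_one.1 h)
      have h3 := Subgroup.index_dvd_of_le h2
      rw [hN] at h3
      exact S.not_dvd_index h3
    · exact hodd2 ↥C (N.subgroupOf C) h hCtop

end Cfsg.Agent.S1183
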