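import Cfsg.Statements.S1185
import Cfsg.Agent.Lib.IsolatedInvolution.Basic

set_option autoImplicit false
open Cfsg

namespace Cfsg.Agent.S1185

/-- Let z be an isolated involution of the finite group G with centralizer C. Then for every g ∈ G there is exactly one element k in the coset gC that has odd order and is inverted by z. -/
theorem result {G : Type*} [Group G] [Finite G] (z : G) (hz : Cfsg.IsIsolatedInvolution z) (g : G) : ∃! k : G, (Odd (orderOf k) ∧ z * k * z⁻¹ = k⁻¹) ∧ g⁻¹ * k ∈ Subgroup.centralizer ({z} : Set G) := by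
  obtain ⟨k, ⟨hk1, hk2⟩, huniq⟩ := Lib.IsolatedInvolution.Basic.existsUnique_inverted hz
    (t := g * z * g⁻¹) (isConj_iff.2 ⟨g, rfl⟩)
  have key : ∀ u : G, g⁻¹ * u ∈ Subgroup.centralizer ({z} : Set G) ↔
      u * z * u⁻¹ = g * z * g⁻¹ := by
    intro u
    rw [Subgroup.mem_centralizer_singleton_iff]
    constructor
    · intro h
      calc u * z * u⁻¹ = g * (g⁻¹ * u * z) * u⁻¹ := by group
        _ = g * (z * (g⁻¹ * u)) * u⁻¹ := by rw [h]
        _ = g * z * g⁻¹ := by group
    · intro h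
      calc g⁻¹ * u * z = g⁻¹ * (u * z * u⁻¹) * u := by group
        _ = g⁻¹ * (g * z * g⁻¹) * u := by rw [h]
        _ = z * (g⁻¹ * u) := by group
  exact ⟨k, ⟨hk1, (key k).2 hk2⟩, fun u hu => huniq u ⟨hu.1, (key u).1 hu.2⟩⟩

end Cfsg.Agent.S1185
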