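import Cfsg.Statements.S1186
import Cfsg.Agent.Lib.IsolatedInvolution.Basic

set_option autoImplicit false
open Cfsg

namespace Cfsg.Agent.S1186

/-- Let z be an isolated involution of the finite group G, C = C_G(z), K the set of elements of odd order inverted by z, and s an involution of C. Then |G| = |C| · |C_K(sz)| · |C_K(s)|. -/
theorem result {G : Type*} [Group G] [Finite G] (z : G) (hz : Cfsg.IsIsolatedInvolution z) (s : G) (hs : orderOf s = 2) (hsz : Commute s z) : Nat.card G = Nat.card (Subgroup.centralizer ({z} : Set G)) * Nat.card {k : G // Odd (orderOf k) ∧ z * k * z⁻¹ = k⁻¹ ∧ Commute k (s * z)} * Nat.card {k : G // Odd (orderOf k) ∧ z * k * z⁻¹ = k⁻¹ ∧ Commute k s} := by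
  classical
  have hzz := Lib.Involutions.Basic.invol_mul_self hz.1
  have hzi : z⁻¹ = z := Lib.Involutions.Basic.invol_inv hz.1
  have hsi : s⁻¹ = s := Lib.Involutions.Basic.invol_inv hs
  have hss := Lib.Involutions.Basic.invol_mul_self hs
  let K := {k : G // Odd (orderOf k) ∧ z * k * z⁻¹ = k⁻¹}
  let A := {k : G // Odd (orderOf k) ∧ z * k * z⁻¹ = k⁻¹ ∧ Commute k s}
  let B := {k : G // Odd (orderOf k) ∧ z * k * z⁻¹ = k⁻¹ ∧ Commute k (s * z)}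
  have hex : ∀ {t : G}, IsConj z t → ∃ k : K, k.1 * z * k.1⁻¹ = t := fun {t} ht => by
    obtain ⟨k, ⟨hk, hk2⟩, -⟩ := Lib.IsolatedInvolution.Basic.existsUnique_inverted hz ht
    exact ⟨⟨k, hk⟩, hk2⟩
  have huniq : ∀ {k k' : G}, Odd (orderOf k) → z * k * z⁻¹ = k⁻¹ → Odd (orderOf k') →
      z * k' * z⁻¹ = k'⁻¹ → k * z * k⁻¹ = k' * z * k'⁻¹ → k = k' := fun {k k'} a b c d e => by
    obtain ⟨_, -, hu⟩ := Lib.IsolatedInvolution.Basic.existsUnique_inverted hz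
      (t := k' * z * k'⁻¹) (isConj_iff.2 ⟨k', rfl⟩)
    exact (hu k ⟨⟨a, b⟩, e⟩).trans (hu k' ⟨⟨c, d⟩, rfl⟩).symm
  -- `G = K * C`
  have hGKC : Nat.card G = Nat.card (Subgroup.centralizer ({z} : Set G)) * Nat.card K := by
    rw [← Nat.card_prod]
    refine (Nat.card_congr (Equiv.ofBijective
      (fun p : Subgroup.centralizer ({z} : Set G) × K => p.2.1 * p.1.1) ⟨?_, ?_⟩)).symm
    · rintro ⟨c, k⟩ ⟨c', k'⟩ h
      have hc := Subgroup.mem_centralizer_singleton_iff.1 c.2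
      have hc' := Subgroup.mem_centralizer_singleton_iff.1 c'.2
      have hk : k.1 = k'.1 := by
        refine huniq k.2.1 k.2.2 k'.2.1 k'.2.2 ?_
        have h' : k.1 * c.1 = k'.1 * c'.1 := h
        calc k.1 * z * k.1⁻¹ = k.1 * (z * c.1) * c.1⁻¹ * k.1⁻¹ := by group
          _ = k.1 * (c.1 * z) * c.1⁻¹ * k.1⁻¹ := by rw [hc]
          _ = (k.1 * c.1) * z * (k.1 * c.1)⁻¹ := by group
          _ = k'.1 * (c'.1 * z) * c'.1⁻¹ * k'.1⁻¹ := by rw [h']; group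
          _ = k'.1 * (z * c'.1) * c'.1⁻¹ * k'.1⁻¹ := by rw [hc']
          _ = k'.1 * z * k'.1⁻¹ := by group
      have hkk : k = k' := Subtype.ext hk
      subst hkk
      exact Prod.ext (Subtype.ext (mul_left_cancel h)) rfl
    · intro g
      obtain ⟨k, hk⟩ := hex (t := g * z * g⁻¹) (isConj_iff.2 ⟨g, rfl⟩)
      refine ⟨⟨⟨k.1⁻¹ * g, Subgroup.mem_centralizer_singleton_iff.2 ?_⟩, k⟩,
        mul_inv_cancel_left k.1 g⟩
      calc k.1⁻¹ * g * z = k.1⁻¹ * (g * z * g⁻¹) * g := by group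
        _ = k.1⁻¹ * (k.1 * z * k.1⁻¹) * g := by rw [hk]
        _ = z * (k.1⁻¹ * g) := by group
  -- conjugation by `s` and by `s * z`
  have hszs : s * z * s⁻¹ = z := by rw [hsz.eq, mul_inv_cancel_right]
  have hact : ∀ w : G, Commute w z → ∀ k : G, Odd (orderOf k) → z * k * z⁻¹ = k⁻¹ →
      Odd (orderOf (w * k * w⁻¹)) ∧ z * (w * k * w⁻¹) * z⁻¹ = (w * k * w⁻¹)⁻¹ := by
    intro w hw k hk hk2
    refine ⟨by rwa [Lib.Involutions.Basic.orderOf_conj_eq], ?_⟩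
    calc z * (w * k * w⁻¹) * z⁻¹ = (z * w) * k * (z * w)⁻¹ := by group
      _ = (w * z) * k * (w * z)⁻¹ := by rw [hw.eq]
      _ = w * (z * k * z⁻¹) * w⁻¹ := by group
      _ = (w * k * w⁻¹)⁻¹ := by rw [hk2]; group
  -- the fixed conjugate exchanging `d` and its image under `s`
  have hmid : ∀ {e e' d : G}, IsConj z e → IsConj z e' → IsConj z d →
      e * d * e⁻¹ = s * d * s⁻¹ → e' * d * e'⁻¹ = s * d * s⁻¹ → e = e' := by
    intro e e' d he he' hd h h'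
    refine Lib.IsolatedInvolution.Basic.eq_of_mul_commute hz he he' hd ?_
    have hei : e⁻¹ = e := Lib.Involutions.Basic.invol_inv
      (Lib.IsolatedInvolution.Basic.isolated_of_isConj hz he).1
    rw [← hei]
    show e⁻¹ * e' * d = d * (e⁻¹ * e')
    calc e⁻¹ * e' * d = e⁻¹ * (e' * d * e'⁻¹) * e' := by group
      _ = e⁻¹ * (e * d * e⁻¹) * e' := by rw [h', h]
      _ = d * (e⁻¹ * e') := by group
  have hBz : ∀ b : B, z * (b.1 * z * b.1⁻¹) * z⁻¹ = s * (b.1 * z * b.1⁻¹) * s⁻¹ := by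
    intro b
    have h1 : s * z * b.1 * (s * z)⁻¹ = b.1 := by rw [← b.2.2.2.eq, mul_inv_cancel_right]
    have h2 : s * b.1 * s⁻¹ = b.1⁻¹ := by
      calc s * b.1 * s⁻¹ = (s * (z * b.1 * z⁻¹) * s⁻¹)⁻¹ := by rw [b.2.2.1]; group
        _ = (s * z * b.1 * (s * z)⁻¹)⁻¹ := by group
        _ = b.1⁻¹ := by rw [h1]
    have h3 : s * b.1⁻¹ * s⁻¹ = b.1 := by
      calc s * b.1⁻¹ * s⁻¹ = (s * b.1 * s⁻¹)⁻¹ := by group
        _ = b.1 := by rw [h2, inv_inv]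
    have h4 : z * b.1⁻¹ * z⁻¹ = b.1 := by
      calc z * b.1⁻¹ * z⁻¹ = (z * b.1 * z⁻¹)⁻¹ := by group
        _ = b.1 := by rw [b.2.2.1, inv_inv]
    calc z * (b.1 * z * b.1⁻¹) * z⁻¹ = (z * b.1 * z⁻¹) * z * (z * b.1⁻¹ * z⁻¹) := by group
      _ = (s * b.1 * s⁻¹) * (s * z * s⁻¹) * (s * b.1⁻¹ * s⁻¹) := by
        rw [b.2.2.1, h4, h2, h3, hszs]
      _ = s * (b.1 * z * b.1⁻¹) * s⁻¹ := by group
  have hkey : ∀ (a : A) (b : B), a.1 * z * a.1⁻¹ * (a.1 * (b.1 * z * b.1⁻¹) * a.1⁻¹) *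
      (a.1 * z * a.1⁻¹)⁻¹ = s * (a.1 * (b.1 * z * b.1⁻¹) * a.1⁻¹) * s⁻¹ := by
    intro a b
    calc a.1 * z * a.1⁻¹ * (a.1 * (b.1 * z * b.1⁻¹) * a.1⁻¹) * (a.1 * z * a.1⁻¹)⁻¹
        = a.1 * (z * (b.1 * z * b.1⁻¹) * z⁻¹) * a.1⁻¹ := by group
      _ = (a.1 * s) * (b.1 * z * b.1⁻¹) * (a.1 * s)⁻¹ := by rw [hBz b]; group
      _ = s * (a.1 * (b.1 * z * b.1⁻¹) * a.1⁻¹) * s⁻¹ := by rw [a.2.2.2.eq]; group
  let F : A × B → {t : G // IsConj z t} := fun p =>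
    ⟨p.1.1 * (p.2.1 * z * p.2.1⁻¹) * p.1.1⁻¹, isConj_iff.2 ⟨p.1.1 * p.2.1, by group⟩⟩
  have hFinj : Function.Injective F := by
    rintro ⟨a, b⟩ ⟨a', b'⟩ h
    have h' : a.1 * (b.1 * z * b.1⁻¹) * a.1⁻¹ = a'.1 * (b'.1 * z * b'.1⁻¹) * a'.1⁻¹ :=
      congrArg Subtype.val h
    have he : a.1 * z * a.1⁻¹ = a'.1 * z * a'.1⁻¹ :=
      hmid (isConj_iff.2 ⟨_, rfl⟩) (isConj_iff.2 ⟨_, rfl⟩) (F ⟨a, b⟩).2 (hkey a b)
        (by show _ * (a.1 * (b.1 * z * b.1⁻¹) * a.1⁻¹) * _ = s * (a.1 * (b.1 * z * b.1⁻¹) * a.1⁻¹) * s⁻¹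
            rw [h']; exact hkey a' b')
    have haa : a = a' := Subtype.ext (huniq a.2.1 a.2.2.1 a'.2.1 a'.2.2.1 he)
    subst haa
    have hb : b.1 * z * b.1⁻¹ = b'.1 * z * b'.1⁻¹ := mul_left_cancel (mul_right_cancel h')
    exact Prod.ext rfl (Subtype.ext (huniq b.2.1 b.2.2.1 b'.2.1 b'.2.2.1 hb))
  have hFsurj : Function.Surjective F := by
    rintro ⟨d, hd⟩
    have hσ : ∀ {t : G}, IsConj z t → IsConj z (s * t * s⁻¹) := fun ht =>
      ht.trans (isConj_iff.2 ⟨s, rfl⟩)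
    have hdd := Lib.Involutions.Basic.invol_mul_self
      (Lib.IsolatedInvolution.Basic.isolated_of_isConj hz hd).1
    have hσd := Lib.Involutions.Basic.invol_mul_self
      (Lib.IsolatedInvolution.Basic.isolated_of_isConj hz (hσ hd)).1
    have hodd := Lib.IsolatedInvolution.Basic.odd_orderOf_mul hz (hσ hd) hd
    have hc := Lib.IsolatedInvolution.Basic.half_conj hσd hdd hodd
    have hi := Lib.IsolatedInvolution.Basic.half_inverted hσd hdd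
    have ho := Lib.IsolatedInvolution.Basic.odd_orderOf_half hodd
    set h := Lib.IsolatedInvolution.Basic.half (s * d * s⁻¹) d
    -- `h * d` is conjugate to `z`
    obtain ⟨q, hq1, hq2⟩ : ∃ q, q * q = h ∧ d * q * d⁻¹ = q⁻¹ := by
      obtain ⟨n, hn⟩ := ho
      refine ⟨h ^ (n + 1), ?_, ?_⟩
      · rw [← pow_add, show n + 1 + (n + 1) = 2 * n + 1 + 1 by ring, pow_succ, ← hn,
          pow_orderOf_eq_one, one_mul]
      · rw [← conj_pow, hi, inv_pow]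
    have hmid' : ∃ e, IsConj z e ∧ e * d * e⁻¹ = s * d * s⁻¹ := by
      refine ⟨h * d, hd.trans (isConj_iff.2 ⟨q, ?_⟩), ?_⟩
      · rw [Lib.IsolatedInvolution.Basic.conj_eq_sq_mul hq2, hq1]
      · rw [← hc]; group
    obtain ⟨e, he, hed⟩ := hmid'
    have hei : e⁻¹ = e := Lib.Involutions.Basic.invol_inv
      (Lib.IsolatedInvolution.Basic.isolated_of_isConj hz he).1
    have hfix : s * e * s⁻¹ = e := by
      refine hmid (hσ he) he hd ?_ hed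
      have hback : e * (s * d * s⁻¹) * e⁻¹ = d := by
        rw [← hed]
        nth_rw 4 [← hei]
        nth_rw 1 [← hei]
        group
      calc s * e * s⁻¹ * d * (s * e * s⁻¹)⁻¹ = s * (e * (s⁻¹ * d * s) * e⁻¹) * s⁻¹ := by group
        _ = s * (e * (s * d * s⁻¹) * e⁻¹) * s⁻¹ := by rw [hsi]
        _ = s * d * s⁻¹ := by rw [hback]
    obtain ⟨a, ha⟩ := hex he
    have has : Commute a.1 s := by
      have h2 := hact s hsz a.1 a.2.1 a.2.2
      have := huniq h2.1 h2.2 a.2.1 a.2.2 (by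
        calc s * a.1 * s⁻¹ * z * (s * a.1 * s⁻¹)⁻¹
            = s * (a.1 * (s⁻¹ * z * s) * a.1⁻¹) * s⁻¹ := by group
          _ = s * (a.1 * z * a.1⁻¹) * s⁻¹ := by rw [hsi, show s * z * s = z by
                rw [← hsi] at hszs; simpa [hsi] using hszs]
          _ = a.1 * z * a.1⁻¹ := by rw [ha, hfix])
      exact (mul_inv_eq_iff_eq_mul.1 this).symm
    obtain ⟨b, hb⟩ := hex (t := a.1⁻¹ * d * a.1) (hd.trans (isConj_iff.2 ⟨a.1⁻¹, by group⟩))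
    have hbsz : Commute b.1 (s * z) := by
      have hw : Commute (s * z) z := hsz.mul_left (Commute.refl z)
      have h2 := hact (s * z) hw b.1 b.2.1 b.2.2
      have hfix2 : s * z * (a.1⁻¹ * d * a.1) * (s * z)⁻¹ = a.1⁻¹ * d * a.1 := by
        have h5 : z * (a.1⁻¹ * d * a.1) * z⁻¹ = a.1⁻¹ * (s * d * s⁻¹) * a.1 := by
          rw [← hed, ← ha]; group
        calc s * z * (a.1⁻¹ * d * a.1) * (s * z)⁻¹
            = s * (z * (a.1⁻¹ * d * a.1) * z⁻¹) * s⁻¹ := by group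
          _ = (s * a.1⁻¹) * (s * d * s⁻¹) * (s * a.1⁻¹)⁻¹ := by rw [h5]; group
          _ = (a.1⁻¹ * s) * (s * d * s⁻¹) * (a.1⁻¹ * s)⁻¹ := by rw [has.inv_left.eq]
          _ = a.1⁻¹ * ((s * s) * d * (s * s)⁻¹) * a.1 := by group
          _ = a.1⁻¹ * d * a.1 := by rw [hss]; group
      have := huniq h2.1 h2.2 b.2.1 b.2.2 (by
        calc s * z * b.1 * (s * z)⁻¹ * z * (s * z * b.1 * (s * z)⁻¹)⁻¹
            = s * z * (b.1 * ((s * z)⁻¹ * z * (s * z)) * b.1⁻¹) * (s * z)⁻¹ := by group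
          _ = s * z * (b.1 * z * b.1⁻¹) * (s * z)⁻¹ := by
                rw [mul_assoc (s * z)⁻¹, ← hw.eq, inv_mul_cancel_left]
          _ = b.1 * z * b.1⁻¹ := by rw [hb, hfix2])
      exact (mul_inv_eq_iff_eq_mul.1 this).symm
    refine ⟨⟨⟨a.1, a.2.1, a.2.2, has⟩, ⟨b.1, b.2.1, b.2.2, hbsz⟩⟩, Subtype.ext ?_⟩
    show a.1 * (b.1 * z * b.1⁻¹) * a.1⁻¹ = d
    rw [hb]; group
  have hKcls : Nat.card K = Nat.card {t : G // IsConj z t} := by
    refine Nat.card_congr (Equiv.ofBijective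
      (fun k : K => (⟨k.1 * z * k.1⁻¹, isConj_iff.2 ⟨k.1, rfl⟩⟩ : {t : G // IsConj z t}))
      ⟨fun k k' h => Subtype.ext (huniq k.2.1 k.2.2 k'.2.1 k'.2.2 (congrArg Subtype.val h)),
        fun t => ?_⟩)
    obtain ⟨k, hk⟩ := hex t.2
    exact ⟨k, Subtype.ext hk⟩
  rw [hGKC, hKcls, ← Nat.card_congr (Equiv.ofBijective F ⟨hFinj, hFsurj⟩), Nat.card_prod]
  ring

end Cfsg.Agent.S1186
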