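import Cfsg.Statements.S1189
import Cfsg.Agent.Lib.TwoGroups.QuasiDihedral
import Cfsg.Agent.Lib.TwoGroups.Classes

set_option autoImplicit false
open Cfsg

namespace Cfsg.Agent.S1189

/-- A quasi-dihedral 2-group has exactly two conjugacy classes of elements of order 2 and exactly two conjugacy classes of elements of order 4. -/
theorem result {S : Type*} [Group S] [Finite S] (hS : Cfsg.IsQuasiDihedral S) : Nat.card {C : ConjClasses S // ∃ t : S, orderOf t = 2 ∧ ConjClasses.mk t = C} = 2 ∧ Nat.card {C : ConjClasses S // ∃ t : S, orderOf t = 4 ∧ ConjClasses.mk t = C} = 2 := by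
  obtain ⟨k, x, y, D⟩ := Lib.TwoGroups.QuasiDihedral.exists_QD hS
  refine ⟨Lib.TwoGroups.Classes.natCard_classes_eq_two _ _
      (Lib.TwoGroups.QuasiDihedral.orderOf_half D)
      (Lib.TwoGroups.QuasiDihedral.orderOf_outer_even D (map_zero _))
      (Lib.TwoGroups.QuasiDihedral.not_isConj_outer D _ _) fun t ht => ?_,
    Lib.TwoGroups.Classes.natCard_classes_eq_two _ _
      (Lib.TwoGroups.QuasiDihedral.orderOf_quarter D)
      (Lib.TwoGroups.QuasiDihedral.orderOf_outer_odd D (map_one _))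
      (Lib.TwoGroups.QuasiDihedral.not_isConj_outer D _ _) fun t ht => ?_⟩
  · rcases Lib.TwoGroups.QuasiDihedral.orderOf_two_cases D ht with rfl | ⟨i, hi, rfl⟩
    · exact Or.inl (IsConj.refl _)
    · obtain ⟨d, hd⟩ := Lib.TwoGroups.QuasiDihedral.exists_conj_outer D
        (i := 0) (i' := i) (by rw [hi, map_zero])
      exact Or.inr (isConj_iff.2 ⟨_, hd⟩)
  · rcases Lib.TwoGroups.QuasiDihedral.orderOf_four_cases D ht with rfl | rfl | ⟨i, hi, rfl⟩
    · exact Or.inl (IsConj.refl _)
    · exact Or.inl (Lib.TwoGroups.QuasiDihedral.isConj_quarter D)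
    · obtain ⟨d, hd⟩ := Lib.TwoGroups.QuasiDihedral.exists_conj_outer D
        (i := 1) (i' := i) (by rw [hi, map_one])
      exact Or.inr (isConj_iff.2 ⟨_, hd⟩)

end Cfsg.Agent.S1189
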