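import Cfsg.Statements.S1192
import Cfsg.Agent.Lib.TwoGroups.QuasiDihedral

set_option autoImplicit false
open Cfsg

namespace Cfsg.Agent.S1192

/-- A quasi-dihedral group S of order 2^(n+1) has exactly three maximal subgroups; one is cyclic, one is isomorphic to the generalized quaternion group of order 2^n and one to the dihedral group of order 2^n. -/
theorem result {S : Type*} [Group S] [Finite S] (hS : Cfsg.IsQuasiDihedral S) (n : ℕ) (hn : Nat.card S = 2 ^ (n + 1)) : ∃ M₁ M₂ M₃ : Subgroup S, IsCoatom M₁ ∧ IsCoatom M₂ ∧ IsCoatom M₃ ∧ M₁ ≠ M₂ ∧ M₁ ≠ M₃ ∧ M₂ ≠ M₃ ∧ (∀ M : Subgroup S, IsCoatom M → M = M₁ ∨ M = M₂ ∨ M = M₃) ∧ IsCyclic M₁ ∧ Nonempty (M₂ ≃* QuaternionGroup (2 ^ (n - 2))) ∧ Nonempty (M₃ ≃* DihedralGroup (2 ^ (n - 1))) := by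
  obtain ⟨k, x, y, D⟩ := Lib.TwoGroups.QuasiDihedral.exists_QD hS
  rw [Lib.TwoGroups.QuasiDihedral.card_eq D] at hn
  have hk := Nat.pow_right_injective le_rfl hn
  obtain rfl : n = k + 3 := by omega
  refine ⟨Subgroup.zpowers x, Lib.TwoGroups.QuasiDihedral.maxSub D 1,
    Lib.TwoGroups.QuasiDihedral.maxSub D 0, Lib.TwoGroups.QuasiDihedral.isCoatom_zpowers D,
    Lib.TwoGroups.QuasiDihedral.isCoatom_maxSub D 1,
    Lib.TwoGroups.QuasiDihedral.isCoatom_maxSub D 0, ?_, ?_, ?_, ?_, inferInstance, ?_, ?_⟩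
  · intro h
    exact D.mul_notMem 1
      (h ▸ (Lib.TwoGroups.QuasiDihedral.mem_maxSub_cy D).2 (map_one _))
  · intro h
    exact D.mul_notMem 0
      (h ▸ (Lib.TwoGroups.QuasiDihedral.mem_maxSub_cy D).2 (map_zero _))
  · intro h
    have h1 := (Lib.TwoGroups.QuasiDihedral.mem_maxSub_cy D (e := 1)).2 (map_one _)
    rw [h, Lib.TwoGroups.QuasiDihedral.mem_maxSub_cy D, map_one] at h1
    exact one_ne_zero h1
  · intro M hM
    rcases Lib.TwoGroups.QuasiDihedral.isCoatom_cases D hM with h | h | h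
    · exact Or.inl h
    · exact Or.inr (Or.inr h)
    · exact Or.inr (Or.inl h)
  · rw [show k + 3 - 2 = k + 1 by omega]
    exact Lib.TwoGroups.QuasiDihedral.quaternion_maxSub D
  · rw [show k + 3 - 1 = k + 2 by omega]
    exact Lib.TwoGroups.QuasiDihedral.dihedral_maxSub D

end Cfsg.Agent.S1192
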