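import Cfsg.Statements.S1194
import Cfsg.Agent.Lib.TwoGroups.QuasiDihedral

set_option autoImplicit false
open Cfsg

namespace Cfsg.Agent.S1194

/-- In a quasi-dihedral 2-group S, every proper normal subgroup is either a maximal subgroup or a cyclic subgroup contained in the derived subgroup S'. -/
theorem result {S : Type*} [Group S] [Finite S] (hS : Cfsg.IsQuasiDihedral S) (N : Subgroup S) [N.Normal] (hN : N ≠ ⊤) : IsCoatom N ∨ (IsCyclic N ∧ N ≤ commutator S) := by
  obtain ⟨k, x, y, D⟩ := Lib.TwoGroups.QuasiDihedral.exists_QD hS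
  by_cases hle : N ≤ Subgroup.zpowers x
  · by_cases hlt : N = Subgroup.zpowers x
    · exact Or.inl (hlt ▸ Lib.TwoGroups.QuasiDihedral.isCoatom_zpowers D)
    refine Or.inr ⟨Subgroup.isCyclic_of_le hle, fun g hg => ?_⟩
    rw [Lib.TwoGroups.QuasiDihedral.commutator_eq D,
      Lib.TwoGroups.QuasiDihedral.mem_zpowers_two_iff D]
    have := D.neZero
    obtain ⟨i, rfl⟩ := (Lib.TwoGroups.Recognition.mem_zpowers_iff_powZ D.orderOf_x).1 (hle hg)
    refine ⟨i, ?_, rfl⟩
    rcases Lib.TwoGroups.QuasiDihedral.zmod_two_cases (Lib.TwoGroups.QuasiDihedral.par k i) with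
      h | h
    · exact h
    · exact absurd (le_antisymm hle (Subgroup.zpowers_le.2
        (Lib.TwoGroups.QuasiDihedral.x_mem_of_odd D h hg))) hlt
  · obtain ⟨i, hi⟩ := D.exists_mem_of_not_le hle
    rw [Lib.TwoGroups.QuasiDihedral.normal_eq_maxSub D hN hi]
    exact Or.inl (Lib.TwoGroups.QuasiDihedral.isCoatom_maxSub D _)

end Cfsg.Agent.S1194
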