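import Cfsg.Statements.S1195
import Cfsg.Agent.Lib.TwoGroups.Wreathed
import Cfsg.Agent.Lib.TwoGroups.Classes

set_option autoImplicit false
open Cfsg

namespace Cfsg.Agent.S1195

/-- A wreathed 2-group has exactly three conjugacy classes of elements of order 2. -/
theorem result {S : Type*} [Group S] [Finite S] (hS : Cfsg.IsWreathed S) : Nat.card {C : ConjClasses S // ∃ t : S, orderOf t = 2 ∧ ConjClasses.mk t = C} = 3 := by
  obtain ⟨k, x, y, z, D⟩ := Lib.TwoGroups.Wreathed.exists_data hS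
  have hh := Lib.TwoGroups.Wreathed.half_add_half k
  have h0 := Lib.TwoGroups.Wreathed.half_ne_zero k
  refine Lib.TwoGroups.Classes.natCard_classes_eq_three _ _ _
    (D.orderOf_e_two hh hh (Or.inl h0)) (D.orderOf_e_two hh (add_zero 0) (Or.inl h0))
    (D.orderOf_ez_two 0) ?_ ?_ ?_ fun t ht => ?_
  · intro h
    obtain ⟨g, hg⟩ := isConj_iff.1 h
    rw [Subgroup.mem_center_iff.1 (D.diag_mem_center _) g, mul_inv_cancel_right] at hg
    exact h0 (D.e_inj hg).2
  · intro h
    obtain ⟨g, hg⟩ := isConj_iff.1 h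
    rw [Subgroup.mem_center_iff.1 (D.diag_mem_center _) g, mul_inv_cancel_right] at hg
    exact D.ez_ne_e _ _ _ _ hg.symm
  · intro h
    obtain ⟨g, hg⟩ := isConj_iff.1 h
    exact D.ez_notMem _ _ (hg ▸ D.normal_base.conj_mem _ (D.e_mem_base _ _) g)
  · rcases D.invol_cases ht with rfl | rfl | rfl | ⟨i, rfl⟩
    · exact Or.inl (IsConj.refl _)
    · exact Or.inr (Or.inl (IsConj.refl _))
    · exact Or.inr (Or.inl D.isConj_half)
    · refine Or.inr (Or.inr ?_)
      rw [neg_zero]
      exact D.isConj_invol_outer i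

end Cfsg.Agent.S1195
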