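import Cfsg.Statements.S1196
import Cfsg.Agent.Lib.TwoGroups.Wreathed

set_option autoImplicit false
open Cfsg

namespace Cfsg.Agent.S1196

/-- A wreathed 2-group S of order 2^(2n+1) has a unique commutative subgroup of order 2^(2n), and this subgroup is isomorphic to the direct product of two cyclic groups of order 2^n. -/
theorem result {S : Type*} [Group S] [Finite S] (hS : Cfsg.IsWreathed S) (n : ℕ) (hn : Nat.card S = 2 ^ (2 * n + 1)) : (∃! U : Subgroup S, IsMulCommutative U ∧ Nat.card U = 2 ^ (2 * n)) ∧ ∀ U : Subgroup S, IsMulCommutative U → Nat.card U = 2 ^ (2 * n) → Nonempty (U ≃* Multiplicative (ZMod (2 ^ n) × ZMod (2 ^ n))) := by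
  obtain ⟨k, x, y, z, D⟩ := Lib.TwoGroups.Wreathed.exists_data hS
  rw [D.card_eq] at hn
  have hk := Nat.pow_right_injective le_rfl hn
  obtain rfl : n = k + 2 := by omega
  rw [show 2 * (k + 2) = 2 * k + 4 by omega]
  refine ⟨⟨D.base, ⟨D.isMulCommutative_base, D.card_base⟩,
    fun U hU => D.eq_base_of_abelian hU.1 hU.2⟩, fun U hU hc => ?_⟩
  rw [D.eq_base_of_abelian hU hc]
  exact ⟨D.baseEquiv.symm⟩

end Cfsg.Agent.S1196
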