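import Cfsg.Statements.S1198
import Cfsg.Agent.Lib.TwoGroups.Wreathed

set_option autoImplicit false
open Cfsg

namespace Cfsg.Agent.S1198

/-- A wreathed 2-group S has a normal Klein four-subgroup T such that every Klein four-subgroup of S other than T is conjugate in S to any other such subgroup; in particular S has exactly two conjugacy classes of Klein four-subgroups. -/
theorem result {S : Type*} [Group S] [Finite S] (hS : Cfsg.IsWreathed S) : ∃ T : Subgroup S, IsKleinFour T ∧ T.Normal ∧ (∃ T₀ : Subgroup S, IsKleinFour T₀ ∧ T₀ ≠ T) ∧ ∀ T₁ T₂ : Subgroup S, IsKleinFour T₁ → IsKleinFour T₂ → T₁ ≠ T → T₂ ≠ T → ∃ s : S, T₁.map (MulAut.conj s).toMonoidHom = T₂ := by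
  obtain ⟨k, x, y, z, D⟩ := Lib.TwoGroups.Wreathed.exists_data hS
  refine ⟨D.omegaBase, D.isKleinFour_omegaBase, D.normal_omegaBase,
    ⟨D.outerFour 0, D.isKleinFour_outerFour 0, fun h => ?_⟩, fun T₁ T₂ h₁ h₂ n₁ n₂ => ?_⟩
  · have hm : Lib.TwoGroups.Wreathed.el k x y 0 (-0) * z ∈ D.outerFour 0 :=
      ⟨0, add_zero 0, Or.inr (by simp)⟩
    rw [h] at hm
    exact D.ez_notMem _ _ (D.mem_omegaBase.1 hm).1
  · obtain ⟨i, hi⟩ := D.four_cases h₁ n₁
    obtain ⟨j, hj⟩ := D.four_cases h₂ n₂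
    rw [D.eq_outerFour h₁ hi, D.eq_outerFour h₂ hj]
    exact ⟨_, D.outerFour_conj i j⟩

end Cfsg.Agent.S1198
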