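import Cfsg.Statements.S1199
import Cfsg.Agent.Lib.TwoGroups.Wreathed

set_option autoImplicit false
open Cfsg

namespace Cfsg.Agent.S1199

/-- A wreathed 2-group S of order 2^(2n+1) has exactly one subgroup of order 2^(n+1) isomorphic to a generalized quaternion group, and that subgroup is normal in S. -/
theorem result {S : Type*} [Group S] [Finite S] (hS : Cfsg.IsWreathed S) (n : ℕ) (hn : Nat.card S = 2 ^ (2 * n + 1)) : (∃! Y : Subgroup S, Nat.card Y = 2 ^ (n + 1) ∧ Nonempty (Y ≃* QuaternionGroup (2 ^ (n - 1)))) ∧ ∀ Y : Subgroup S, Nat.card Y = 2 ^ (n + 1) → Nonempty (Y ≃* QuaternionGroup (2 ^ (n - 1))) → Y.Normal := by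
  obtain ⟨k, x, y, z, D⟩ := Lib.TwoGroups.Wreathed.exists_data hS
  rw [D.card_eq] at hn
  have hk := Nat.pow_right_injective le_rfl hn
  obtain rfl : n = k + 2 := by omega
  rw [show k + 2 - 1 = k + 1 by omega, show k + 2 + 1 = k + 3 by omega]
  refine ⟨⟨D.quatSub, ⟨D.card_quatSub, D.quaternion_quatSub⟩,
    fun Y hY => hY.2.elim (D.eq_quatSub hY.1)⟩, fun Y hc hY => ?_⟩
  rw [hY.elim (D.eq_quatSub hc)]
  exact D.normal_quatSub

end Cfsg.Agent.S1199
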