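import Cfsg.Statements.S1202
import Cfsg.Agent.Lib.TwoGroups.WreathedAut

set_option autoImplicit false
open Cfsg

namespace Cfsg.Agent.S1202

/-- Let S be a wreathed 2-group of order 2^(2n+1) and X a subgroup with C_S(X) ≤ X such that Aut(X) is not a 2-group. Then |N_S(X) : X| = 2, and either X is the commutative subgroup of order 2^(2n), or X = Q·Z(S) for some subgroup Q ≅ Q₈; in the latter case any two such subgroups are conjugate in S. -/
theorem result {S : Type*} [Group S] [Finite S] (hS : Cfsg.IsWreathed S) (n : ℕ) (hn : Nat.card S = 2 ^ (2 * n + 1)) (X : Subgroup S) (hC : Subgroup.centralizer (X : Set S) ≤ X) (hA : ¬ IsPGroup 2 (MulAut X)) : X.relIndex (Subgroup.normalizer (X : Set S)) = 2 ∧ ((IsMulCommutative X ∧ Nat.card X = 2 ^ (2 * n)) ∨ ∃ Q : Subgroup S, Nonempty (Q ≃* QuaternionGroup 2) ∧ X = Q ⊔ Subgroup.center S) ∧ ∀ X' : Subgroup S, Subgroup.centralizer (X' : Set S) ≤ X' → ¬ IsPGroup 2 (MulAut X') → ¬ IsMulCommutative X → ¬ IsMulCommutative X' → ∃ s : S, X.map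 (MulAut.conj s).toMonoidHom = X' := by
  obtain ⟨k, x, y, z, D⟩ := Lib.TwoGroups.Wreathed.exists_data hS
  rw [D.card_eq] at hn
  have hk := Nat.pow_right_injective le_rfl hn
  obtain rfl : n = k + 2 := by omega
  refine ⟨?_, ?_, fun X' hC' hA' hX hX' => ?_⟩
  · rcases Lib.TwoGroups.WreathedAut.classify D hC hA with rfl | ⟨i, rfl⟩
    · exact Lib.TwoGroups.WreathedAut.relIndex_normalizer_base D
    · exact Lib.TwoGroups.WreathedAut.relIndex_normalizer_qz D i
  · rcases Lib.TwoGroups.WreathedAut.classify D hC hA with rfl | ⟨i, rfl⟩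
    · exact Or.inl ⟨D.isMulCommutative_base, by rw [D.card_base]; ring⟩
    · exact Or.inr (Lib.TwoGroups.WreathedAut.exists_quaternion D i)
  · rcases Lib.TwoGroups.WreathedAut.classify D hC hA with rfl | ⟨i, rfl⟩
    · exact absurd D.isMulCommutative_base hX
    rcases Lib.TwoGroups.WreathedAut.classify D hC' hA' with rfl | ⟨i', rfl⟩
    · exact absurd D.isMulCommutative_base hX'
    exact ⟨_, Lib.TwoGroups.WreathedAut.qz_conj D i i'⟩

end Cfsg.Agent.S1202
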