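import Cfsg.Statements.S1209
import Cfsg.Agent.Lib.TwoGroups.WreathedFusion

set_option autoImplicit false
open Cfsg

namespace Cfsg.Agent.S1209

/-- Let G be a finite group whose Sylow 2-subgroup S is wreathed of order 2^(2n+1), U the commutative subgroup of index 2 in S, Q a quaternion subgroup of order 8 of S and V = Q Z(S). If |N_G(U) : C_G(U)| = 6 and |N_G(V) : V C_G(V)| = 6, then G has no subgroup of index 2 and exactly one conjugacy class of involutions. -/
theorem result {G : Type*} [Group G] [Finite G] (S : Sylow 2 G) (hS : Cfsg.IsWreathed (S : Subgroup G)) (n : ℕ) (hn : Nat.card S = 2 ^ (2 * n + 1)) (U : Subgroup G) (hUS : U ≤ S) (hUab : IsMulCommutative U) (hUcard : Nat.card U = 2 ^ (2 * n)) (Q : Subgroup G) (hQS : Q ≤ S) (eQ : Q ≃* QuaternionGroup 2) (h₁ : (Subgroup.centralizer (U : Set G)).relIndex (Subgroup.normalizer (U : Set G)) = 6) (h₂ : ((Q ⊔ ((Subgroup.center (S : Subgroup G)).map (S : Subgroup G).subtype)) ⊔ Subgroup.centralizer ((Q ⊔ ((Subgroup.center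 (S : Subgroup G)).map (S : Subgroup G).subtype) : Subgroup G) : Set G)).relIndex (Subgroup.normalizer ((Q ⊔ ((Subgroup.center (S : Subgroup G)).map (S : Subgroup G).subtype) : Subgroup G) : Set G)) = 6) : (∀ H : Subgroup G, H.index ≠ 2) ∧ Nat.card {C : ConjClasses G // ∃ t : G, orderOf t = 2 ∧ ConjClasses.mk t = C} = 1 := by
  obtain ⟨k, x, y, z, D⟩ := Lib.TwoGroups.Wreathed.exists_data hS
  rw [D.card_eq] at hn
  have hk := Nat.pow_right_injective le_rfl hn
  obtain rfl : n = k + 2 := by omega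
  obtain rfl := Lib.TwoGroups.WreathedLocal.base_eq D hUS hUab (by rw [hUcard]; congr 1)
  obtain ⟨i₀, hi⟩ := Lib.TwoGroups.WreathedLocal.qz_eq D eQ hQS
  change Q ⊔ (Subgroup.center (S : Subgroup G)).map (S : Subgroup G).subtype = _ at hi
  rw [hi] at h₂
  exact ⟨Lib.TwoGroups.WreathedFusion.no_index_two D h₁ h₂,
    Lib.TwoGroups.WreathedFusion.card_invol_one D
      (Lib.TwoGroups.WreathedFusion.isConj_zeta_tau D h₁)
      (Lib.TwoGroups.WreathedFusion.isConj_tau_sigma D h₂)⟩

end Cfsg.Agent.S1209
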