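import Cfsg.Statements.S1210
import Cfsg.Agent.Lib.TwoGroups.WreathedFusion

set_option autoImplicit false
open Cfsg

namespace Cfsg.Agent.S1210

/-- Let G be a finite group whose Sylow 2-subgroup S is wreathed of order 2^(2n+1), U the commutative subgroup of index 2 in S, Q a quaternion subgroup of order 8 of S and V = Q Z(S). If |N_G(U) : C_G(U)| = 2 and |N_G(V) : V C_G(V)| = 6, then G has a normal subgroup K of index 2^n whose Sylow 2-subgroups are generalized quaternion and which has no subgroup of index 2; every subgroup of Z(S) is weakly closed in S; and G has exactly two classes of involutions. -/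
theorem result {G : Type*} [Group G] [Finite G] (S : Sylow 2 G) (hS : Cfsg.IsWreathed (S : Subgroup G)) (n : ℕ) (hn : Nat.card S = 2 ^ (2 * n + 1)) (U : Subgroup G) (hUS : U ≤ S) (hUab : IsMulCommutative U) (hUcard : Nat.card U = 2 ^ (2 * n)) (Q : Subgroup G) (hQS : Q ≤ S) (eQ : Q ≃* QuaternionGroup 2) (h₁ : (Subgroup.centralizer (U : Set G)).relIndex (Subgroup.normalizer (U : Set G)) = 2) (h₂ : ((Q ⊔ ((Subgroup.center (S : Subgroup G)).map (S : Subgroup G).subtype)) ⊔ Subgroup.centralizer ((Q ⊔ ((Subgroup.center (S : Subgroup G)).map (S : Subgroup G).subtype) : Subgroup G) : Set G)).relIndex (Subgroup.normalizer ((Q ⊔ ((Subgroup.center (S : Subgroup G)).map (S : Subgroup G).subtype) : Subgroup G) : Set G)) = 6) : (∃ K : Subgroup G, K.Normal ∧ K.index = 2 ^ n ∧ (∀ P : Sylow 2 ↥K, ∃ m : ℕ, 1 ≤ m ∧ Nonempty ((P : Subgroup ↥K) ≃* QuaternionGroup (2 ^ m))) ∧ (∀ H : Subgroup ↥K, H.index ≠ 2)) ∧ (∀ Z₀ : Subgroup G, Z₀ ≤ ((Subgroup.center (S : Subgroup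 G)).map (S : Subgroup G).subtype) → Cfsg.IsWeaklyClosed Z₀ (S : Subgroup G)) ∧ Nat.card {C : ConjClasses G // ∃ t : G, orderOf t = 2 ∧ ConjClasses.mk t = C} = 2 := by
  obtain ⟨k, x, y, z, D⟩ := Lib.TwoGroups.Wreathed.exists_data hS
  rw [D.card_eq] at hn
  have hk := Nat.pow_right_injective le_rfl hn
  obtain rfl : n = k + 2 := by omega
  obtain rfl := Lib.TwoGroups.WreathedLocal.base_eq D hUS hUab (by rw [hUcard]; congr 1)
  obtain ⟨i₀, hi⟩ := Lib.TwoGroups.WreathedLocal.qz_eq D eQ hQS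
  change Q ⊔ (Subgroup.center (S : Subgroup G)).map (S : Subgroup G).subtype = _ at hi
  rw [hi] at h₂
  have hB := Lib.TwoGroups.WreathedLocal.actsLike_base D h₁
  refine ⟨?_, Lib.TwoGroups.WreathedFusion.weaklyClosed D hB,
    Lib.TwoGroups.WreathedFusion.card_invol_two_isolated D hB
      (Lib.TwoGroups.WreathedFusion.isConj_tau_sigma D h₂)⟩
  obtain ⟨K, hK, hKS, hKi, hodd, hKodd⟩ :=
    Lib.TwoGroups.WreathedFusion.exists_normal_quat D hB
  refine ⟨K, hK, hKi, fun P => ⟨k + 1, by omega, ?_⟩,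
    Lib.TwoGroups.WreathedFusion.no_index_two_quat D h₂ hKS hodd hKodd⟩
  obtain ⟨f⟩ := Lib.TwoGroups.WreathedFusion.sylow_equiv hKS P
  obtain ⟨g⟩ := D.quaternion_quatSub
  exact ⟨f.trans g⟩

end Cfsg.Agent.S1210
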