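import Cfsg.Statements.S1218
import Mathlib
import Cfsg.Agent.Lib.Fusion.SylowRecognize
import Cfsg.Agent.Lib.FusionPSL3.GL2Two
import Cfsg.Agent.Lib.Unitary.Order
-- import your own Cfsg.Agent.* helpers here

set_option autoImplicit false
open scoped MatrixGroups
open Cfsg

namespace Cfsg.Agent.S1218

open Cfsg.Agent.Lib.Fusion Cfsg.Agent.Lib.FusionPSL3 Cfsg.Agent.Lib.Unitary Matrix

variable {F : Type*} [Field F] [Fintype F] {q : ℕ}

theorem mem_gu (hF : Fintype.card F = q ^ 2) (g : GL (Fin 2) F)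
    (h1 : g.1 0 0 * g.1 0 0 ^ q + g.1 1 0 * g.1 1 0 ^ q = 1)
    (h2 : g.1 0 1 * g.1 0 1 ^ q + g.1 1 1 * g.1 1 1 ^ q = 1)
    (h3 : g.1 0 0 * g.1 0 1 ^ q + g.1 1 0 * g.1 1 1 ^ q = 0)
    (h4 : g.1 0 1 * g.1 0 0 ^ q + g.1 1 1 * g.1 1 0 ^ q = 0) :
    g ∈ Cfsg.GU 2 F q := by
  intro u v
  simp only [Cfsg.hermForm, Units.coeHom_apply, Matrix.mulVec, dotProduct, Fin.sum_univ_two,
    add_pow_q hF, mul_pow]
  linear_combination (u 0 * v 0 ^ q) * h1 + (u 1 * v 1 ^ q) * h2 + (u 0 * v 1 ^ q) * h3 +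
    (u 1 * v 0 ^ q) * h4

theorem units_card (hF : Fintype.card F = q ^ 2) : Nat.card Fˣ = (q + 1) * (q - 1) := by
  rw [Nat.card_units, Nat.card_eq_fintype_card, hF, ← one_pow 2, Nat.sq_sub_sq, one_pow]

theorem card_eq (hF : Fintype.card F = q ^ 2) :
    Nat.card (Cfsg.GU 2 F q) = q * ((q + 1) * ((q + 1) * (q - 1))) := by
  rw [card_GU hF 2, Finset.prod_range_succ, Finset.prod_range_succ, Finset.prod_range_zero]
  simp only [show (2 : ℕ) * (2 - 1) / 2 = 1 by norm_num, Even.zero, if_true,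
    show ¬ Even 1 by decide, if_false, pow_one, one_mul, zero_add,
    show (1 : ℕ) + 1 = 2 by norm_num]
  rw [← one_pow 2, Nat.sq_sub_sq, one_pow]

theorem wr_case (hF : Fintype.card F = q ^ 2) (hq : q % 4 = 3) (P : Sylow 2 (Cfsg.GU 2 F q)) :
    Cfsg.IsWreathed (P : Subgroup (Cfsg.GU 2 F q)) := by
  classical
  have h1q := one_lt_q hF
  have hq0 := q_ne_zero hF
  obtain ⟨n, o, ho, hno⟩ := Nat.exists_eq_two_pow_mul_odd (n := q + 1) (by omega)
  have hn : 2 ≤ n := by
    by_contra h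
    obtain ⟨t, rfl⟩ := ho
    interval_cases n <;> omega
  obtain ⟨o', ho', ho''⟩ : ∃ o', Odd o' ∧ q - 1 = 2 * o' :=
    ⟨(q - 1) / 2, by rw [Nat.odd_iff]; omega, by omega⟩
  have hqo : Odd q := by rw [Nat.odd_iff]; omega
  obtain ⟨a, ha⟩ := SylowRecognize.exists_orderOf (C := Fˣ) (d := 2 ^ n) (by
    rw [units_card hF, hno, mul_assoc]
    exact dvd_mul_right _ _)
  have ha1 : (a : F) * (a : F) ^ q = 1 := by
    rw [← pow_succ', ← Units.val_pow_eq_pow_val,
      orderOf_dvd_iff_pow_eq_one.1 (ha ▸ hno ▸ dvd_mul_right _ _), Units.val_one]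
  let x : Cfsg.GU 2 F q := ⟨diagU a 1, mem_gu hF _ (by simp [diagU_val, zero_pow hq0, ha1])
    (by simp [diagU_val, zero_pow hq0]) (by simp [diagU_val, zero_pow hq0])
    (by simp [diagU_val, zero_pow hq0])⟩
  let y : Cfsg.GU 2 F q := ⟨diagU 1 a, mem_gu hF _ (by simp [diagU_val, zero_pow hq0])
    (by simp [diagU_val, zero_pow hq0, ha1]) (by simp [diagU_val, zero_pow hq0])
    (by simp [diagU_val, zero_pow hq0])⟩
  let z : Cfsg.GU 2 F q := ⟨swapU, mem_gu hF _ (by simp [swapU_val, zero_pow hq0])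
    (by simp [swapU_val, zero_pow hq0]) (by simp [swapU_val, zero_pow hq0])
    (by simp [swapU_val, zero_pow hq0])⟩
  have hinj : Function.Injective fun u : Fˣ => (diagU u 1 : GL (Fin 2) F) := by
    intro u v h
    have := congrArg (fun g : GL (Fin 2) F => g.1 0 0) h
    simpa [diagU_val, Units.val_inj] using this
  have hx : orderOf x = 2 ^ n := by
    rw [← ha, ← Subgroup.orderOf_coe]
    exact orderOf_injective
      ({ toFun := fun u => diagU u 1, map_one' := diagU_one,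
         map_mul' := fun u v => by rw [diagU_mul, one_mul] } : Fˣ →* GL (Fin 2) F) hinj a
  refine SylowRecognize.wreathed P (o := q * o * o * o') (y := y)
    (z := z) hn ?_ (((hqo.mul ho).mul ho).mul ho') hx ?_ ?_ ?_ ?_
  · rw [card_eq hF, hno, ho'', two_mul n, pow_succ, pow_add]; ring
  · apply Subtype.ext
    show diagU a 1 * diagU 1 a = diagU 1 a * diagU a 1
    rw [diagU_mul, diagU_mul, one_mul, mul_one]
  · refine (Subgroup.eq_bot_iff_forall _).2 ?_
    intro g hg
    obtain ⟨h1, h2⟩ := Subgroup.mem_inf.1 hg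
    rw [← mem_powers_iff_mem_zpowers, Submonoid.mem_powers_iff] at h1 h2
    obtain ⟨k, hk⟩ := h1
    obtain ⟨l, hl⟩ := h2
    have e : (diagU a 1 : GL (Fin 2) F) ^ k = diagU 1 a ^ l :=
      congrArg Subtype.val (hk.trans hl.symm)
    rw [diagU_pow, diagU_pow, one_pow, one_pow] at e
    have h00 := congrArg (fun g : GL (Fin 2) F => g.1 0 0) e
    have hak : a ^ k = 1 := by simpa [diagU_val, ← Units.val_pow_eq_pow_val] using h00
    rw [← hk]
    apply Subtype.ext
    show (diagU a 1 : GL (Fin 2) F) ^ k = 1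
    rw [diagU_pow, hak, one_pow, diagU_one]
  · refine orderOf_eq_prime ?_ ?_
    · rw [pow_two]
      apply Subtype.ext
      show (swapU * swapU : GL (Fin 2) F) = 1
      apply gl_ext <;> simp [swapU_val, Matrix.mul_apply, Fin.sum_univ_two]
    · intro h
      have := congrArg (fun g : Cfsg.GU 2 F q => (g : GL (Fin 2) F).1 0 0) h
      simp [z, swapU_val] at this
  · rw [mul_inv_eq_iff_eq_mul]
    apply Subtype.ext
    show (swapU * diagU a 1 : GL (Fin 2) F) = diagU 1 a * swapU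
    apply gl_ext <;> simp [swapU_val, diagU_val, Matrix.mul_apply, Fin.sum_univ_two]

theorem qd_case (hF : Fintype.card F = q ^ 2) (hq : q % 4 = 1) (P : Sylow 2 (Cfsg.GU 2 F q)) :
    Cfsg.IsQuasiDihedral (P : Subgroup (Cfsg.GU 2 F q)) := by
  classical
  have h1q := one_lt_q hF
  have hq0 := q_ne_zero hF
  obtain ⟨m, o, ho, hmo⟩ := Nat.exists_eq_two_pow_mul_odd (n := q - 1) (by omega)
  have hm : 2 ≤ m := by
    by_contra h
    obtain ⟨t, rfl⟩ := ho
    interval_cases m <;> omega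
  obtain ⟨o', ho', ho''⟩ : ∃ o', Odd o' ∧ q + 1 = 2 * o' :=
    ⟨(q + 1) / 2, by rw [Nat.odd_iff]; omega, by omega⟩
  have hqo : Odd q := by rw [Nat.odd_iff]; omega
  have hu : Nat.card Fˣ = (q + 1) * (q - 1) := units_card hF
  have h2 : (2 : F) ≠ 0 := by
    intro h
    have hc : Odd (Fintype.card F) := hF ▸ hqo.pow
    have : ringChar F = 2 := (CharP.ringChar_of_prime_eq_zero Nat.prime_two (by exact_mod_cast h))
    exact (Nat.not_even_iff_odd.2 hc) (FiniteField.even_card_iff_char_two.1 this |> fun h' =>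
      Nat.even_iff.2 h')
  -- an element of norm -1
  obtain ⟨c', hc'⟩ := SylowRecognize.exists_orderOf (C := Fˣ) (d := 2 * (q + 1)) (by
    rw [hu, hmo, mul_comm 2 (q + 1)]
    exact mul_dvd_mul_left _ (dvd_mul_of_dvd_left (dvd_pow_self 2 (by omega)) _))
  set c : F := (c' : F) with hcdef
  have hc0 : c ≠ 0 := c'.ne_zero
  have hcn : c * c ^ q = -1 := by
    have hsq : (c * c ^ q) * (c * c ^ q) = 1 := by
      rw [← pow_succ', ← pow_add, ← two_mul, hcdef, ← Units.val_pow_eq_pow_val,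
        orderOf_dvd_iff_pow_eq_one.1 (hc' ▸ dvd_refl _), Units.val_one]
    refine (mul_self_eq_one_iff.1 hsq).resolve_left fun h => ?_
    have : c' ^ (q + 1) = 1 := Units.ext (by rw [Units.val_pow_eq_pow_val, pow_succ', Units.val_one]; exact h)
    have := Nat.le_of_dvd (by omega) (hc' ▸ orderOf_dvd_of_pow_eq_one this)
    omega
  obtain ⟨lam, hlam⟩ := SylowRecognize.exists_orderOf (C := Fˣ) (d := 2 ^ (m + 1)) (by
    rw [hu, hmo, ho'', pow_succ]
    exact ⟨o * o', by ring⟩)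
  set mu : Fˣ := (lam ^ q)⁻¹ with hmudef
  have hlamqq : ((lam : F) ^ q) ^ q = lam := pow_q_q hF _
  have hmq : (mu : F) ^ q = (lam : F)⁻¹ := by
    rw [hmudef, Units.val_inv_eq_inv_val, Units.val_pow_eq_pow_val, inv_pow, hlamqq]
  have hlq : (lam : F) ^ q = (mu : F)⁻¹ := by
    rw [hmudef, Units.val_inv_eq_inv_val, Units.val_pow_eq_pow_val, inv_inv]
  let T : GL (Fin 2) F :=
    ⟨!![1, 1; c, -c], !![1 / 2, 1 / (2 * c); 1 / 2, -(1 / (2 * c))],
      by
        ext i j
        fin_cases i <;> fin_cases j <;> simp [Matrix.mul_apply, Fin.sum_univ_two] <;>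
          field_simp <;> ring,
      by
        ext i j
        fin_cases i <;> fin_cases j <;> simp [Matrix.mul_apply, Fin.sum_univ_two] <;>
          field_simp <;> ring⟩
  have hTx : ∀ a b : Fˣ, (T * diagU a b * T⁻¹).1 =
      !![((a : F) + b) / 2, ((a : F) - b) / (2 * c); c * ((a : F) - b) / 2, ((a : F) + b) / 2] := by
    intro a b
    show !![1, 1; c, -c] * !![(a : F), 0; 0, (b : F)] *
      !![1 / 2, 1 / (2 * c); 1 / 2, -(1 / (2 * c))] = _
    ext i j
    fin_cases i <;> fin_cases j <;> simp [Matrix.mul_apply, Fin.sum_univ_two] <;>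
      field_simp <;> ring
  have hcq : c ^ q = -c⁻¹ := by
    field_simp
    linear_combination hcn
  have two_q : (2 : F) ^ q = 2 := by
    rw [show (2 : F) = 1 + 1 by norm_num, add_pow_q hF, one_pow]
  have hmem : T * diagU lam mu * T⁻¹ ∈ Cfsg.GU 2 F q := by
    have hl0 : (lam : F) ≠ 0 := lam.ne_zero
    have hm0 : (mu : F) ≠ 0 := mu.ne_zero
    apply mem_gu hF <;>
      simp only [hTx, Matrix.of_apply, Matrix.cons_val', Matrix.cons_val_zero,
        Matrix.cons_val_one, Matrix.empty_val', Matrix.cons_val_fin_one, div_pow, mul_pow,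
        add_pow_q hF, sub_pow_q hF, two_q, hmq, hlq, hcq] <;>
      field_simp <;> ring
  have hrel : mu = lam ^ (2 ^ m - 1) := by
    rw [hmudef, inv_eq_iff_mul_eq_one, ← pow_add, ← orderOf_dvd_iff_pow_eq_one, hlam]
    have hle := Nat.one_le_two_pow (n := m)
    obtain ⟨t, rfl⟩ := ho
    refine ⟨t + 1, ?_⟩
    have e : 2 ^ m * (2 * t + 1) = 2 ^ (m + 1) * t + 2 ^ m := by ring
    have e' : 2 ^ (m + 1) * (t + 1) = 2 ^ (m + 1) * t + 2 ^ m + 2 ^ m := by ring
    omega
  have hrel' : mu ^ (2 ^ m - 1) = lam := by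
    rw [hrel, ← pow_mul]
    nth_rw 2 [← pow_one lam]
    rw [pow_eq_pow_iff_modEq, hlam]
    obtain ⟨j, rfl⟩ : ∃ j, m = j + 2 := ⟨m - 2, by omega⟩
    have hle := Nat.one_le_two_pow (n := j + 2)
    obtain ⟨w, hw⟩ : ∃ w, 2 ^ (j + 2) = w + 1 := ⟨2 ^ (j + 2) - 1, by omega⟩
    rw [hw, Nat.add_sub_cancel]
    have h2j : 2 ^ (j + 2 + 1) ∣ w * w - 1 := by
      have hw4 : w + 1 = 4 * 2 ^ j := by rw [← hw]; ring
      refine ⟨2 * 2 ^ j - 1, ?_⟩
      have e : 2 ^ (j + 2 + 1) = 8 * 2 ^ j := by ring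
      have hj := Nat.one_le_two_pow (n := j)
      obtain ⟨v, hv⟩ : ∃ v, 2 ^ j = v + 1 := ⟨2 ^ j - 1, by omega⟩
      rw [e, hv]
      have : w = 4 * v + 3 := by omega
      subst this
      rw [show 2 * (v + 1) - 1 = 2 * v + 1 by omega, Nat.sub_eq_iff_eq_add (by nlinarith)]
      ring
    have hpos : 1 ≤ w * w := by
      have hp : 2 ^ (j + 2) = 4 * 2 ^ j := by ring
      have := Nat.one_le_two_pow (n := j)
      have : 1 ≤ w := by omega
      nlinarith
    exact ((Nat.modEq_iff_dvd' hpos).2 h2j).symm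
  let x : Cfsg.GU 2 F q := ⟨_, hmem⟩
  let y : Cfsg.GU 2 F q := ⟨reflU, mem_gu hF _ (by simp [diagU_val, zero_pow hq0])
    (by simp [diagU_val, zero_pow hq0, neg_pow_q hF]) (by simp [diagU_val, zero_pow hq0])
    (by simp [diagU_val, zero_pow hq0])⟩
  let D : Fˣ × Fˣ →* GL (Fin 2) F :=
    { toFun := fun p => T * diagU p.1 p.2 * T⁻¹
      map_one' := by simp [diagU_one]
      map_mul' := fun p r => by
        show T * diagU (p.1 * r.1) (p.2 * r.2) * T⁻¹ = _
        rw [← diagU_mul]; group }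
  have hD : Function.Injective D := by
    rintro ⟨a, b⟩ ⟨a', b'⟩ h
    have h' : T * diagU a b * T⁻¹ = T * diagU a' b' * T⁻¹ := h
    rw [mul_left_inj, mul_right_inj] at h'
    have h00 := congrArg (fun g : GL (Fin 2) F => g.1 0 0) h'
    have h11 := congrArg (fun g : GL (Fin 2) F => g.1 1 1) h'
    simp [diagU_val, Units.val_inj] at h00 h11
    rw [h00, h11]
  have hx : orderOf x = 2 ^ (m + 1) := by
    rw [← Subgroup.orderOf_coe]
    show orderOf (D (lam, mu)) = _
    rw [orderOf_injective D hD, Prod.orderOf, hlam]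
    apply Nat.lcm_eq_left
    rw [hrel, ← hlam]
    exact orderOf_pow_dvd _
  refine SylowRecognize.quasiDihedral P (n := m + 1) (o := q * o' * o' * o) (by omega) ?_
    (((hqo.mul ho').mul ho').mul ho) (x := x) (y := y) hx ?_ ?_
  · rw [card_eq hF, hmo, ho'']; ring
  · refine orderOf_eq_prime ?_ ?_
    · rw [pow_two]
      apply Subtype.ext
      show (reflU * reflU : GL (Fin 2) F) = 1
      rw [diagU_mul]; simp [diagU_one]
    · intro h
      have := congrArg (fun g : Cfsg.GU 2 F q => (g : GL (Fin 2) F).1 1 1) h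
      simp [y, diagU_val] at this
      exact h2 (by linear_combination -this)
  · rw [Nat.add_sub_cancel]
    apply Subtype.ext
    show reflU * (T * diagU lam mu * T⁻¹) * reflU⁻¹ = (D (lam, mu)) ^ (2 ^ m - 1)
    rw [← map_pow, Prod.pow_mk, ← hrel, hrel', diagU_inv, inv_one, inv_neg, inv_one]
    show reflU * (T * diagU lam mu * T⁻¹) * reflU = T * diagU mu lam * T⁻¹
    apply Units.ext
    rw [Units.val_mul, Units.val_mul, hTx, hTx]
    ext i j
    fin_cases i <;> fin_cases j <;> simp [diagU_val, Matrix.mul_apply, Fin.sum_univ_two] <;> ring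

/-- Let F be a finite field with q² elements, q odd, let GU be the subgroup of GL(2,F) preserving the Hermitian form u₁v₁^q + u₂v₂^q, and P a Sylow 2-subgroup of GU. If q ≡ 1 (mod 4) then P is quasi-dihedral; if q ≡ 3 (mod 4) then P is wreathed. -/
theorem result {F : Type*} [Field F] [Fintype F] (q : ℕ) (hF : Fintype.card F = q ^ 2) (hq : Odd q) (P : Sylow 2 ↥(Cfsg.preserving (Units.coeHom (Matrix (Fin 2) (Fin 2) F)) (Cfsg.hermForm 2 F q))) : (q % 4 = 1 → Cfsg.IsQuasiDihedral (P : Subgroup ↥(Cfsg.preserving (Units.coeHom (Matrix (Fin 2) (Fin 2) F)) (Cfsg.hermForm 2 F q)))) ∧ (q % 4 = 3 → Cfsg.IsWreathed (P : Subgroup ↥(Cfsg.preserving (Units.coeHom (Matrix (Fin 2) (Fin 2) F)) (Cfsg.hermForm 2 F q)))) := by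
  exact ⟨fun h => qd_case hF h P, fun h => wr_case hF h P⟩

end Cfsg.Agent.S1218
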