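import Cfsg.Statements.S1219
import Mathlib
import Cfsg.Agent.Lib.FusionPSL3.Embedding
import Cfsg.Agent.Lib.SignDiag.Basic
-- import your own Cfsg.Agent.* helpers here

set_option autoImplicit false
open scoped MatrixGroups
open Cfsg

namespace Cfsg.Agent.S1219

open Cfsg.Agent.Lib.FusionPSL3 Cfsg.Agent.Lib.SignDiag Matrix

variable {F : Type*} [Field F] [Fintype F]

local notation "G2" => GL (Fin 2) F
local notation "L3" => Matrix.SpecialLinearGroup (Fin 3) F

/-- Every involution of `SL₃` is conjugate to `diag(-1,-1,1)`. -/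
theorem exists_conj_negU (h2 : (2 : F) ≠ 0) (s : L3) (hs : s * s = 1) (hs1 : s ≠ 1) :
    ∃ m : L3, m * s * m⁻¹ = iota (negU : G2) := by
  classical
  set u : GL (Fin 3) F := SpecialLinearGroup.toGL s with hu
  have huu : u * u = 1 := by rw [hu, ← map_mul, hs, map_one]
  let ρ : Multiplicative (ZMod 2) →* GL (Fin 3) F :=
    { toFun := fun a => u ^ (Multiplicative.toAdd a).val
      map_one' := by simp
      map_mul' := fun a b => by
        rw [← pow_add, toAdd_mul, ZMod.val_add]
        conv_rhs => rw [← Nat.mod_add_div ((Multiplicative.toAdd a).val +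
          (Multiplicative.toAdd b).val) 2, pow_add, pow_mul, pow_two, huu, one_pow, mul_one] }
  obtain ⟨Q, χ, hχ, hd⟩ := Basic.exists_diagonal ρ h2 (by decide)
  have hdet := Basic.det_eq_prod ρ hd (Multiplicative.ofAdd 1)
  have hρ : (ρ (Multiplicative.ofAdd 1) : Matrix (Fin 3) (Fin 3) F) =
      (s : Matrix (Fin 3) (Fin 3) F) := by
    show ((u ^ ((1 : ZMod 2)).val : GL (Fin 3) F) : Matrix (Fin 3) (Fin 3) F) = _
    rw [ZMod.val_one, pow_one]; rfl
  rw [hρ, s.2, Fin.prod_univ_three] at hdet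
  have hd1 := hd (Multiplicative.ofAdd 1)
  rw [hρ] at hd1
  set e : Fin 3 → F := fun i => χ i (Multiplicative.ofAdd 1) with he
  have hQ : (Q : Matrix (Fin 3) (Fin 3) F).det ≠ 0 :=
    (Matrix.isUnit_iff_isUnit_det _).1 Q.isUnit |>.ne_zero
  let S : L3 := ⟨(Q : Matrix (Fin 3) (Fin 3) F) *
      diagonal ![(Q : Matrix (Fin 3) (Fin 3) F).det⁻¹, 1, 1], by
    rw [det_mul, det_diagonal, Fin.prod_univ_three]
    simp [hQ]⟩
  have hS : (s : Matrix (Fin 3) (Fin 3) F) * S.1 = S.1 * diagonal e := by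
    show (s : Matrix (Fin 3) (Fin 3) F) * ((Q : Matrix (Fin 3) (Fin 3) F) * _) = _
    rw [← mul_assoc, hd1, mul_assoc, mul_assoc, diagonal_mul_diagonal, diagonal_mul_diagonal]
    simp [mul_comm]
  have step : ∀ g : G2, (iota g).1 = diagonal e →
      S⁻¹ * s * S = iota g := by
    intro g hg
    rw [mul_assoc, inv_mul_eq_iff_eq_mul]
    apply Subtype.ext
    show (s : Matrix (Fin 3) (Fin 3) F) * S.1 = S.1 * (iota g).1
    rw [hS, hg]
  have h3 : iota (negU : G2) = iota (diagU (-1) (-1)⁻¹ : G2) := by simp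
  rcases hχ 0 (Multiplicative.ofAdd 1) with h0 | h0 <;>
    rcases hχ 1 (Multiplicative.ofAdd 1) with h1 | h1 <;>
    rcases hχ 2 (Multiplicative.ofAdd 1) with h5 | h5
  · exfalso
    apply hs1
    have h := step 1 (by
      ext i j
      fin_cases i <;> fin_cases j <;> simp [he, h0, h1, h5])
    rw [map_one, mul_assoc, inv_mul_eq_one] at h
    exact mul_eq_right.1 h.symm
  · exfalso; rw [h0, h1, h5] at hdet; exact h2 (by linear_combination -hdet)
  · exfalso; rw [h0, h1, h5] at hdet; exact h2 (by linear_combination -hdet)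
  · refine ⟨permOuter⁻¹ * S⁻¹, ?_⟩
    have h := step reflU (by
      rw [iota_diag]
      ext i j
      fin_cases i <;> fin_cases j <;> simp [he, h0, h1, h5])
    rw [_root_.mul_inv_rev, inv_inv, inv_inv,
      show permOuter⁻¹ * S⁻¹ * s * (S * permOuter) = permOuter⁻¹ * (S⁻¹ * s * S) * permOuter by
        group, h, mul_assoc]
    rw [← permOuter_conj, inv_mul_cancel_left]
  · exfalso; rw [h0, h1, h5] at hdet; exact h2 (by linear_combination -hdet)
  · refine ⟨permLast⁻¹ * S⁻¹, ?_⟩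
    have h := step (diagU (-1) 1) (by
      rw [iota_diag]
      ext i j
      fin_cases i <;> fin_cases j <;> simp [he, h0, h1, h5])
    rw [_root_.mul_inv_rev, inv_inv, inv_inv,
      show permLast⁻¹ * S⁻¹ * s * (S * permLast) = permLast⁻¹ * (S⁻¹ * s * S) * permLast by group,
      h, mul_assoc, ← permLast_conj, inv_mul_cancel_left, h3]
  · refine ⟨S⁻¹, ?_⟩
    rw [inv_inv]
    exact step negU (by
      rw [iota_diag]
      ext i j
      fin_cases i <;> fin_cases j <;> simp [he, h0, h1, h5])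
  · exfalso; rw [h0, h1, h5] at hdet; exact h2 (by linear_combination -hdet)

theorem centre_iota_iff {g : G2} :
    iota g ∈ Subgroup.center L3 ↔ ∃ a : Fˣ, a ^ 3 = 1 ∧ g = diagU a a := by
  rw [Matrix.SpecialLinearGroup.mem_center_iff]
  constructor
  · rintro ⟨r, hr, hrg⟩
    have hr0 : r ≠ 0 := by
      rintro rfl
      simp [Fintype.card_fin] at hr
    refine ⟨Units.mk0 r hr0, Units.ext (by simpa using hr), ?_⟩
    have e : ∀ i j, (Matrix.scalar (Fin 3) r) i j = (iota g).1 i j := fun i j => by rw [hrg]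
    have a := e 0 0; have b := e 0 1; have c := e 1 0; have d := e 1 1
    simp [iota_val] at a b c d
    exact gl_ext (by simp [diagU_val, a]) (by simp [diagU_val, b]) (by simp [diagU_val, c])
      (by simp [diagU_val, d])
  · rintro ⟨a, ha, rfl⟩
    refine ⟨(a : F), by simpa [Units.ext_iff] using ha, ?_⟩
    have h3 : (a * a)⁻¹ = a := by
      rw [inv_eq_iff_mul_eq_one, ← ha, pow_succ, pow_two]
    show Matrix.scalar (Fin 3) (a : F) = (iota (diagU a a : G2)).1
    rw [iota_diag, h3]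
    ext i j
    fin_cases i <;> fin_cases j <;> simp

/-- Let F be a finite field of odd order q and t an involution of PSL(3,F). Then C(t) is isomorphic to the quotient of GL(2,F) by a central subgroup of order gcd(q−1, 3). -/
theorem result {F : Type*} [Field F] [Fintype F] (hF : Odd (Fintype.card F)) (t : Matrix.ProjectiveSpecialLinearGroup (Fin 3) F) (ht : orderOf t = 2) : ∃ (Z : Subgroup (GL (Fin 2) F)) (_ : Z.Normal), Z ≤ Subgroup.center (GL (Fin 2) F) ∧ Nat.card Z = Nat.gcd (Fintype.card F - 1) 3 ∧ Nonempty (↥(Subgroup.centralizer ({t} : Set (Matrix.ProjectiveSpecialLinearGroup (Fin 3) F))) ≃* GL (Fin 2) F ⧸ Z) := by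
  classical
  have h2 : (2 : F) ≠ 0 := Basic.two_ne_zero_of_odd hF
  set π : Matrix.SpecialLinearGroup (Fin 3) F →* Matrix.ProjectiveSpecialLinearGroup (Fin 3) F :=
    QuotientGroup.mk' (Subgroup.center (Matrix.SpecialLinearGroup (Fin 3) F)) with hπ
  have hker : ∀ m, π m = 1 ↔ m ∈ Subgroup.center (Matrix.SpecialLinearGroup (Fin 3) F) :=
    fun m => QuotientGroup.eq_one_iff m
  have hcube : ∀ c ∈ Subgroup.center (Matrix.SpecialLinearGroup (Fin 3) F), c ^ 3 = 1 := by
    intro c hc
    obtain ⟨r, hr, hrc⟩ := Matrix.SpecialLinearGroup.mem_center_iff.1 hc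
    rw [Fintype.card_fin] at hr
    apply Subtype.ext
    rw [Matrix.SpecialLinearGroup.coe_pow, ← hrc, ← map_pow, hr, map_one]
    rfl
  obtain ⟨s₀, rfl⟩ := QuotientGroup.mk'_surjective _ t
  obtain ⟨s, hss, hst⟩ : ∃ s, s * s = 1 ∧ π s = π s₀ := by
    have hc : s₀ * s₀ ∈ Subgroup.center (Matrix.SpecialLinearGroup (Fin 3) F) := by
      rw [← hker, map_mul, ← pow_two, ← orderOf_dvd_iff_pow_eq_one, ht]
    refine ⟨s₀ ^ 3, ?_, ?_⟩
    · rw [← pow_add, show 3 + 3 = 2 * 3 by norm_num, pow_mul, pow_two]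
      exact hcube _ hc
    · rw [pow_succ, pow_two, map_mul, (hker _).2 hc, one_mul]
  rw [show QuotientGroup.mk' _ s₀ = π s from hst.symm] at ht ⊢
  have hs1 : s ≠ 1 := by rintro rfl; rw [map_one, orderOf_one] at ht; norm_num at ht
  obtain ⟨m, hm⟩ := exists_conj_negU h2 s hss hs1
  set z : Matrix.SpecialLinearGroup (Fin 3) F := iota (negU : GL (Fin 2) F) with hz
  let f : GL (Fin 2) F →* ↥(Subgroup.centralizer ({π s} : Set (Matrix.ProjectiveSpecialLinearGroup (Fin 3) F))) :=
    ((MulAut.conj (π m⁻¹)).toMonoidHom.comp (π.comp iota)).codRestrict _ (fun g => by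
      rw [Subgroup.mem_centralizer_singleton_iff]
      have e : π s = π m⁻¹ * π z * (π m⁻¹)⁻¹ := by
        rw [← map_inv, ← map_mul, ← map_mul, ← hm]; congr 1; group
      have c : π (iota g) * π z = π z * π (iota g) := by
        rw [← map_mul, ← map_mul, hz, ← map_mul, ← map_mul, scalar_central]
      show π m⁻¹ * π (iota g) * (π m⁻¹)⁻¹ * π s = π s * (π m⁻¹ * π (iota g) * (π m⁻¹)⁻¹)
      rw [e, show π m⁻¹ * π (iota g) * (π m⁻¹)⁻¹ * (π m⁻¹ * π z * (π m⁻¹)⁻¹) =
          π m⁻¹ * (π (iota g) * π z) * (π m⁻¹)⁻¹ by group, c]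
      group)
  have hfker : ∀ g, g ∈ f.ker ↔ ∃ a : Fˣ, a ^ 3 = 1 ∧ g = diagU a a := by
    intro g
    rw [MonoidHom.mem_ker, Subtype.ext_iff, ← centre_iota_iff, ← hker]
    show π m⁻¹ * π (iota g) * (π m⁻¹)⁻¹ = 1 ↔ _
    rw [conj_eq_one_iff]
  have hsurj : Function.Surjective f := by
    rintro ⟨x, hx⟩
    obtain ⟨y, rfl⟩ := QuotientGroup.mk'_surjective _ (π m * x * (π m)⁻¹)
      |>.imp fun y hy => (show π m⁻¹ * π y * π m = x by
        rw [show π y = π m * x * (π m)⁻¹ from hy, map_inv]; group)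
    rw [Subgroup.mem_centralizer_singleton_iff] at hx
    have hc : y * z * y⁻¹ * z⁻¹ ∈ Subgroup.center (Matrix.SpecialLinearGroup (Fin 3) F) := by
      rw [← hker, ← hm]
      simp only [map_mul, map_inv] at hx ⊢
      have hx' : π y * (π m * π s * (π m)⁻¹) = (π m * π s * (π m)⁻¹) * π y := by
        calc π y * (π m * π s * (π m)⁻¹) = π m * ((π m)⁻¹ * π y * π m * π s) * (π m)⁻¹ := by group
          _ = π m * (π s * ((π m)⁻¹ * π y * π m)) * (π m)⁻¹ := by rw [hx]
          _ = _ := by group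
      rw [hx']; group
    have hc1 : y * z * y⁻¹ * z⁻¹ = 1 := by
      have hzz : z * z = 1 := by rw [hz, ← map_mul, negU_sq, map_one]
      set c := y * z * y⁻¹ * z⁻¹ with hcdef
      have h1 : c * z = y * z * y⁻¹ := by rw [hcdef]; group
      have hsq : c * c = 1 := by
        have : (c * z) * (c * z) = 1 := by
          rw [h1, show y * z * y⁻¹ * (y * z * y⁻¹) = y * (z * z) * y⁻¹ by group, hzz]
          group
        rwa [show c * z * (c * z) = c * (z * c) * z by group, Subgroup.mem_center_iff.1 hc z,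
          show c * (c * z) * z = c * c * (z * z) by group, hzz, mul_one] at this
      have h3 := hcube c hc
      rwa [pow_succ, pow_two, hsq, one_mul] at h3
    have hcomm : y * z = z * y := by
      rwa [mul_inv_eq_one, mul_inv_eq_iff_eq_mul] at hc1
    obtain ⟨a, b, c, d⟩ := offdiag_zero h2 hcomm
    obtain ⟨g, hg⟩ := exists_iota_eq a b c d
    exact ⟨g, Subtype.ext (by
      show π m⁻¹ * π (iota g) * (π m⁻¹)⁻¹ = π m⁻¹ * π y * π m
      rw [hg, map_inv π m, inv_inv])⟩
  refine ⟨f.ker, inferInstance, ?_, ?_, ⟨(QuotientGroup.quotientKerEquivOfSurjective f hsurj).symm⟩⟩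
  · intro g hg
    obtain ⟨a, -, rfl⟩ := (hfker g).1 hg
    exact Subgroup.mem_center_iff.2 fun h => (scalar_central a h).symm
  · have e : f.ker ≃ (powMonoidHom 3 : Fˣ →* Fˣ).ker :=
      (Equiv.ofBijective
        (fun a : (powMonoidHom 3 : Fˣ →* Fˣ).ker =>
          (⟨diagU (a : Fˣ) a, (hfker _).2 ⟨a, a.2, rfl⟩⟩ : f.ker))
        ⟨fun a b h => by
          have h' := congrArg (fun g : f.ker => (g : GL (Fin 2) F).1 0 0) h
          exact Subtype.ext (Units.ext (by simpa [diagU_val] using h')),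
        fun g => by
          obtain ⟨a, ha, hga⟩ := (hfker g).1 g.2
          exact ⟨⟨a, ha⟩, Subtype.ext hga.symm⟩⟩).symm
    rw [Nat.card_congr e, IsCyclic.card_powMonoidHom_ker, Nat.card_units,
      Nat.card_eq_fintype_card]

end Cfsg.Agent.S1219
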