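import Cfsg.Statements.S1231
import Cfsg.Agent.Lib.Fusion.Alperin

set_option autoImplicit false
open Cfsg

namespace Cfsg.Agent.S1231

theorem prankLE_of_injective {p k : ℕ} {A B : Type*} [Group A] [Group B] (f : A →* B)
    (hf : Function.Injective f) (hB : Cfsg.PRankLE p k B) : Cfsg.PRankLE p k A := by
  intro E hEc hEp
  rw [← Subgroup.card_map_of_injective (f := f) hf]
  refine hB _ ⟨⟨?_⟩⟩ ?_
  · rintro ⟨x, hx⟩ ⟨y, hy⟩
    obtain ⟨a, ha, rfl⟩ := hx
    obtain ⟨b, hb, rfl⟩ := hy
    apply Subtype.ext
    show f a * f b = f b * f a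
    rw [← map_mul, ← map_mul]
    exact congrArg (fun z : E => f (z : A)) (hEc.is_comm.comm ⟨a, ha⟩ ⟨b, hb⟩)
  · rintro _ ⟨a, ha, rfl⟩
    rw [← map_pow, hEp a ha, map_one]

/-- Let H be a subgroup of the finite group G, p a prime, k ≥ 1, and P a Sylow p-subgroup of H whose p-rank is at least k. Then N_G(X) ≤ H for every subgroup X of P of p-rank at least k if and only if H ∩ gHg⁻¹ has p-rank less than k for every g ∉ H. -/
theorem result {G : Type*} [Group G] [Finite G] {p : ℕ} [Fact p.Prime] (k : ℕ) (hk : 1 ≤ k) (H : Subgroup G) (P : Sylow p ↥H) (hP : ¬ Cfsg.PRankLE p (k - 1) ↥(P : Subgroup ↥H)) : (∀ X : Subgroup G, X ≤ (P : Subgroup ↥H).map H.subtype → ¬ Cfsg.PRankLE p (k - 1) ↥X → Subgroup.normalizer (X : Set G) ≤ H) ↔ (∀ g : G, g ∉ H → Cfsg.PRankLE p (k - 1) ↥(H ⊓ H.map (MulAut.conj g).toMonoidHom)) := by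
  open Cfsg.Agent.Lib.Fusion.Alperin in
  · set PG := (P : Subgroup ↥H).map H.subtype with hPG
    have hPGp : IsPGroup p PG := P.2.map H.subtype
    have hPGH : PG ≤ H := Subgroup.map_subtype_le _
    have hmono : ∀ {A B : Subgroup G}, A ≤ B → Cfsg.PRankLE p (k - 1) B → Cfsg.PRankLE p (k - 1) A := by
      intro A B hAB hB
      exact prankLE_of_injective _ (Subgroup.inclusion_injective hAB) hB
    constructor
    · intro hN g hg
      by_contra hrk
      -- an elementary abelian witness inside the intersection
      set I := H ⊓ H.map (MulAut.conj g).toMonoidHom with hI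
      simp only [Cfsg.PRankLE, not_forall] at hrk
      obtain ⟨E, hEc, hEp, hEcard⟩ := hrk
      have hEpg : IsPGroup p E := fun x => ⟨1, Subtype.ext (by simpa using hEp x x.2)⟩
      obtain ⟨R₀, hR₀⟩ := hEpg.exists_le_sylow
      set R := (R₀ : Subgroup I).map I.subtype with hR
      have hRp : IsPGroup p R := R₀.2.map I.subtype
      have hRmax : ∀ U : Subgroup G, IsPGroup p U → U ≤ I → R ≤ U → U = R := by
        intro U hU hUI hRU
        have h1 : U.comap I.subtype = (R₀ : Subgroup I) :=
          R₀.3 (hU.comap_subtype (K := I)) (fun x hx => hRU ⟨x, hx, rfl⟩)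
        have h2 := congrArg (Subgroup.map I.subtype) h1
        rwa [Subgroup.map_comap_eq, Subgroup.range_subtype, inf_eq_right.2 hUI] at h2
      have hRI : R ≤ I := Subgroup.map_subtype_le _
      have hrkR : ¬ Cfsg.PRankLE p (k - 1) R := by
        intro hle
        apply hEcard
        have hE' : E.map I.subtype ≤ R := Subgroup.map_mono hR₀
        let f : E →* R := (I.subtype.comp E.subtype).codRestrict R fun z => hE' ⟨z, z.2, rfl⟩
        have hf : Function.Injective f := fun a b h =>
          Subtype.ext (Subtype.ext (congrArg (fun z : R => (z : G)) h))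
        have hE : Cfsg.PRankLE p (k - 1) E := prankLE_of_injective f hf hle
        have h1 := hE ⊤ ⟨⟨fun a b => Subtype.ext (hEc.is_comm.comm (a : E) (b : E))⟩⟩
          (fun a _ => Subtype.ext (hEp a a.2))
        rwa [Subgroup.card_top] at h1
      have hPmax : ∀ U : Subgroup G, IsPGroup p U → U ≤ H → PG ≤ U → U = PG := by
        intro U hU hUH hPU
        have h1 : U.comap H.subtype = (P : Subgroup H) :=
          P.3 (hU.comap_subtype (K := H)) (fun x hx => hPU ⟨x, hx, rfl⟩)
        have h2 := congrArg (Subgroup.map H.subtype) h1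
        rwa [Subgroup.map_comap_eq, Subgroup.range_subtype, inf_eq_right.2 hUH] at h2
      obtain ⟨h, hh, hhR⟩ := exists_conj_le_of_maximal hPGp hPGH hPmax hRp (hRI.trans inf_le_left)
      have hnR : Subgroup.normalizer (R : Set G) ≤ H := by
        intro x hx
        have h1 := hN (conjS h R) hhR (fun hle => hrkR ?_) (mem_normalizer_conjS (g := h) hx)
        · have := H.mul_mem (H.mul_mem (H.inv_mem hh) h1) hh
          simpa [mul_assoc] using this
        · exact prankLE_of_injective
            (Subgroup.equivMapOfInjective R _ (MulEquiv.injective _)).toMonoidHom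
            (MulEquiv.injective _) hle
      -- `R` is a Sylow subgroup of the conjugate of `H`
      have hmaxg : ∀ U : Subgroup G, IsPGroup p U → U ≤ conjS g H → R ≤ U → U = R := by
        intro U hU hUg hRU
        by_contra hne
        have hlt := lt_inf_normalizer hU (lt_of_le_of_ne hRU (Ne.symm hne))
        exact hlt.ne (hRmax _ (hU.to_le inf_le_left)
          (le_inf (inf_le_right.trans hnR) (inf_le_left.trans hUg)) hlt.le).symm
      have hgR : conjS g⁻¹ R ≤ H := by
        rw [← conjS_inv_conjS g H]; exact conjS_mono (hRI.trans inf_le_right)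
      obtain ⟨h', hh', hh'R⟩ := exists_conj_le_of_maximal hPGp hPGH hPmax
        (hRp.map (MulAut.conj g⁻¹).toMonoidHom) hgR
      rw [← conjS, ← conjS_mul] at hh'R
      have hgH : ∀ U : Subgroup G, U ≤ H → conjS g U ≤ conjS g H := fun U hU => conjS_mono hU
      have hfull : conjS (h' * g⁻¹) R = PG := by
        have hU : conjS (h' * g⁻¹)⁻¹ PG = R := by
          refine hmaxg _ (hPGp.map _) ?_ ?_
          · rw [mul_inv_rev, inv_inv, conjS_mul]
            refine conjS_mono ((conjS_mono hPGH).trans (le_of_eq ?_))
            exact conjS_eq_of_mem_normalizer (Subgroup.le_normalizer (H.inv_mem hh'))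
          · rw [← conjS_inv_conjS (h' * g⁻¹) R]; exact conjS_mono hh'R
        rw [← hU, ← conjS_mul, mul_inv_cancel, conjS_one]
      have hfull2 : conjS h R = PG := Subgroup.eq_of_le_of_card_ge hhR (by
        rw [card_conjS, ← hfull, card_conjS])
      have hx : h' * g⁻¹ * h⁻¹ ∈ Subgroup.normalizer (PG : Set G) := by
        apply mem_normalizer_of_conjS_eq
        conv_lhs => rw [← hfull2]
        rw [← conjS_mul, inv_mul_cancel_right, hfull]
      have h2 := hN PG le_rfl (fun hle => hP ?_) hx
      · apply hg
        have := H.inv_mem (H.mul_mem (H.mul_mem (H.inv_mem hh') h2) hh)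
        simpa [mul_assoc] using this
      · exact prankLE_of_injective
          (Subgroup.equivMapOfInjective _ _ Subtype.val_injective).toMonoidHom
          (MulEquiv.injective _) hle
    · intro hI X hX hrk x hx
      by_contra hxH
      refine hrk (hmono (le_inf (hX.trans hPGH) ?_) (hI x hxH))
      rw [← conjS]
      calc X = conjS x X := (conjS_eq_of_mem_normalizer hx).symm
        _ ≤ conjS x H := conjS_mono (hX.trans hPGH)

end Cfsg.Agent.S1231
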