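import Cfsg.Statements.S1233
import Cfsg.Agent.S1232
import Cfsg.Agent.Lib.HaradaRank.CentralQ8

set_option autoImplicit false
open Cfsg
open Cfsg.Agent.Lib.HaradaRank.CentralQ8

namespace Cfsg.Agent.S1233

theorem q8_center : ∀ w : QuaternionGroup 2,
    w * QuaternionGroup.a 1 = QuaternionGroup.a 1 * w →
    w * QuaternionGroup.xa 0 = QuaternionGroup.xa 0 * w →
    w = 1 ∨ w = QuaternionGroup.a 1 * QuaternionGroup.a 1 := by decide

theorem q8_gen : ∀ w : QuaternionGroup 2, ∃ n m : Fin 4,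
    w = QuaternionGroup.a 1 ^ (n : ℕ) * QuaternionGroup.xa 0 ^ (m : ℕ) := by decide

theorem q8_rel : QuaternionGroup.a (1 : ZMod (2 * 2)) * QuaternionGroup.a 1 *
      (QuaternionGroup.a 1 * QuaternionGroup.a 1) = (1 : QuaternionGroup 2) ∧
    (QuaternionGroup.xa 0 : QuaternionGroup 2) * QuaternionGroup.xa 0 =
      QuaternionGroup.a 1 * QuaternionGroup.a 1 ∧
    (QuaternionGroup.xa 0 : QuaternionGroup 2) * QuaternionGroup.a 1 =
      QuaternionGroup.a 1 * QuaternionGroup.a 1 *
        (QuaternionGroup.a 1 * QuaternionGroup.xa 0) := by decide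

theorem pair {S : Type*} [Group S] {P : Subgroup S} (e : P ≃* QuaternionGroup 2) :
    ∃ i j : S, i ∈ P ∧ j ∈ P ∧ i * i * (i * i) = 1 ∧ j * j = i * i ∧
      j * i = i * i * (i * j) ∧ (P : Subgroup S) ≤ Subgroup.closure ({i, j} : Set S) ∧
      ∀ w ∈ P, w * i = i * w → w * j = j * w → w = 1 ∨ w = i * i := by
  let f : QuaternionGroup 2 →* S := P.subtype.comp e.symm.toMonoidHom
  have hf : ∀ w : S, ∀ hw : w ∈ P, f (e ⟨w, hw⟩) = w := fun w hw => by simp [f]
  have hinj : Function.Injective f := P.subtype_injective.comp e.symm.injective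
  refine ⟨f (QuaternionGroup.a 1), f (QuaternionGroup.xa 0), (e.symm _).2, (e.symm _).2,
    ?_, ?_, ?_, fun w hw => ?_, fun w hw h1 h2 => ?_⟩
  · rw [← map_mul, ← map_mul, q8_rel.1, map_one]
  · rw [← map_mul, ← map_mul, q8_rel.2.1]
  · rw [← map_mul, ← map_mul, ← map_mul, ← map_mul, q8_rel.2.2]
  · obtain ⟨n, m, h⟩ := q8_gen (e ⟨w, hw⟩)
    rw [← hf w hw, h, map_mul, map_pow, map_pow]
    exact mul_mem (pow_mem (Subgroup.subset_closure (by simp)) _)
      (pow_mem (Subgroup.subset_closure (by simp)) _)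
  · rw [← hf w hw] at h1 h2 ⊢
    rw [← map_mul, ← map_mul] at h1 h2
    rcases q8_center _ (hinj h1) (hinj h2) with h | h
    · exact Or.inl (by rw [h, map_one])
    · exact Or.inr (by rw [h, map_mul])

/-- Let S be a finite 2-group and Q a subgroup of order 32 generated by two elementwise-commuting subgroups Q₁, Q₂ each isomorphic to the quaternion group of order 8 (so Q = Q₁ ∗ Q₂). If C_S(Q) ≤ Q, then every section of S has 2-rank at most 4. -/
theorem result {S : Type*} [Group S] [Finite S] (hS : IsPGroup 2 S) (Q Q₁ Q₂ : Subgroup S) (e₁ : Q₁ ≃* QuaternionGroup 2) (e₂ : Q₂ ≃* QuaternionGroup 2) (hcomm : ∀ a ∈ Q₁, ∀ b ∈ Q₂, a * b = b * a) (hQ : Q₁ ⊔ Q₂ = Q) (hQ32 : Nat.card Q = 32) (hC : Subgroup.centralizer (Q : Set S) ≤ Q) : Cfsg.SectionalPRankLE 2 4 S := by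
  classical
  obtain ⟨i, j, hi, hj, hz1, hjj, hji, hgen1, hcen1⟩ := pair e₁
  obtain ⟨i', j', hi', hj', hz2, hjj', hji', hgen2, hcen2⟩ := pair e₂
  -- the two factors meet non-trivially
  obtain ⟨w, hw1, hw2, hw⟩ : ∃ w, w ∈ Q₁ ∧ w ∈ Q₂ ∧ w ≠ 1 := by
    by_contra hcon
    push Not at hcon
    let g : Q₁ × Q₂ → Q := fun p => ⟨p.1.1 * p.2.1,
      hQ ▸ mul_mem (Subgroup.mem_sup_left p.1.2) (Subgroup.mem_sup_right p.2.2)⟩
    have hg : Function.Injective g := by
      rintro ⟨⟨a, ha⟩, ⟨b, hb⟩⟩ ⟨⟨c, hc⟩, ⟨d, hd⟩⟩ h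
      have h' : a * b = c * d := congrArg Subtype.val h
      have e : c⁻¹ * a = d * b⁻¹ := by
        rw [eq_mul_inv_iff_mul_eq, mul_assoc, h', inv_mul_cancel_left]
      have e1 := hcon (c⁻¹ * a) (mul_mem (inv_mem hc) ha) (e ▸ mul_mem hd (inv_mem hb))
      have hca : c = a := inv_mul_eq_one.1 e1
      subst hca
      have hdb : b = d := mul_left_cancel h'
      subst hdb
      rfl
    have h64 := Nat.card_le_card_of_injective g hg
    rw [Nat.card_prod, Nat.card_congr e₁.toEquiv, Nat.card_congr e₂.toEquiv, hQ32,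
      Nat.card_eq_fintype_card, QuaternionGroup.card] at h64
    omega
  have hzz : i' * i' = i * i := by
    have h1 := (hcen1 w hw1 (hcomm i hi w hw2).symm (hcomm j hj w hw2).symm).resolve_left hw
    have h2 := (hcen2 w hw2 (hcomm w hw1 i' hi') (hcomm w hw1 j' hj')).resolve_left hw
    rw [← h2, h1]
  have h : Frame Q (i * i) i j i' j' :=
    { quad :=
        { zz := hz1, ii := rfl, jj := hjj, ji := hji, ii' := hzz, jj' := hjj'.trans hzz
          ji' := by rw [hji', hzz]
          c1 := hcomm i hi i' hi', c2 := hcomm i hi j' hj'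
          c3 := hcomm j hj i' hi', c4 := hcomm j hj j' hj' }
      hi := hQ ▸ Subgroup.mem_sup_left hi
      hj := hQ ▸ Subgroup.mem_sup_left hj
      hi' := hQ ▸ Subgroup.mem_sup_right hi'
      hj' := hQ ▸ Subgroup.mem_sup_right hj'
      card := hQ32
      gen := fun x hx => by
        have : Q₁ ⊔ Q₂ ≤ Subgroup.closure ({i, j, i', j'} : Set S) :=
          sup_le (hgen1.trans (Subgroup.closure_mono (by
              intro y hy
              rcases hy with e | e
              · simp [e]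
              · simp [Set.mem_singleton_iff.1 e])))
            (hgen2.trans (Subgroup.closure_mono (by
              intro y hy
              rcases hy with e | e
              · simp [e]
              · simp [Set.mem_singleton_iff.1 e])))
        exact this (hQ.symm ▸ hx) }
  obtain ⟨A, hAc, hA2, hA8, hCA⟩ := exists_self_centralizing hS h hC
  exact Cfsg.Agent.S1232.result hS A
    ⟨⟨⟨fun a b => Subtype.ext (hAc a a.2 b b.2)⟩⟩, hA2⟩ hA8 hCA

end Cfsg.Agent.S1233
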