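import Cfsg.Statements.S1234
import Cfsg.Agent.S1232

set_option autoImplicit false
open Cfsg

namespace Cfsg.Agent.S1234

/-- Let S be a finite 2-group and Q ≤ S a subgroup of order 32 having an elementary abelian subgroup E of order 16 and an involution s ∉ E whose centralizer in E has order 4 (so Q ≅ (Z₂ × Z₂) ≀ Z₂). If C_S(Z(Q)) = Q, then every section of S has 2-rank at most 4. -/
theorem result {S : Type*} [Group S] [Finite S] (hS : IsPGroup 2 S) (Q E : Subgroup S) (hEQ : E ≤ Q) (hE : Cfsg.IsElementaryAbelian 2 E) (hE16 : Nat.card E = 16) (hQ32 : Nat.card Q = 32) (s : S) (hsQ : s ∈ Q) (hsE : s ∉ E) (hs : orderOf s = 2) (hfix : Nat.card ↥(E ⊓ Subgroup.centralizer ({s} : Set S)) = 4) (hC : Subgroup.centralizer (((Subgroup.center Q).map Q.subtype : Subgroup S) : Set S) = Q) : Cfsg.SectionalPRankLE 2 4 S := by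
  classical
  have hs2 : s * s = 1 := by rw [← pow_two, ← hs]; exact pow_orderOf_eq_one s
  have hsinv : s⁻¹ = s := inv_eq_of_mul_eq_one_right hs2
  have hEc : ∀ a ∈ E, ∀ b ∈ E, a * b = b * a := fun a ha b hb =>
    congrArg Subtype.val (hE.1.1.comm ⟨a, ha⟩ ⟨b, hb⟩)
  have hE2 : ∀ a ∈ E, a * a = 1 := fun a ha => by rw [← pow_two]; exact hE.2 a ha
  have hidx : (E.subgroupOf Q).index = 2 := by
    have h := Subgroup.card_mul_index (E.subgroupOf Q)
    rw [Nat.card_congr (Subgroup.subgroupOfEquivOfLe hEQ).toEquiv, hE16, hQ32] at h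
    omega
  have hcoset : ∀ x ∈ Q, x ∉ E → s * x ∈ E := fun x hx hxE => by
    have h := Subgroup.mul_mem_iff_of_index_two hidx (a := ⟨s, hsQ⟩) (b := ⟨x, hx⟩)
    simp only [Subgroup.mem_subgroupOf] at h
    exact h.2 (iff_of_false hsE hxE)
  have hcases : ∀ x ∈ Q, ∃ e ∈ E, x = e ∨ x = s * e := fun x hx => by
    by_cases hxE : x ∈ E
    · exact ⟨x, hxE, Or.inl rfl⟩
    · exact ⟨s * x, hcoset x hx hxE, Or.inr (by rw [← mul_assoc, hs2, one_mul])⟩
  have hmemA : ∀ x, x ∈ Q ⊓ Subgroup.centralizer ({s} : Set S) ↔ x ∈ Q ∧ s * x = x * s := fun x => by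
    rw [Subgroup.mem_inf, Subgroup.mem_centralizer_singleton_iff]
    exact and_congr_right fun _ => eq_comm
  have hmemU : ∀ x, x ∈ E ⊓ Subgroup.centralizer ({s} : Set S) ↔ x ∈ E ∧ s * x = x * s := fun x => by
    rw [Subgroup.mem_inf, Subgroup.mem_centralizer_singleton_iff]
    exact and_congr_right fun _ => eq_comm
  have hform : ∀ x ∈ Q ⊓ Subgroup.centralizer ({s} : Set S),
      ∃ u ∈ E ⊓ Subgroup.centralizer ({s} : Set S), x = u ∨ x = s * u := fun x hx => by
    obtain ⟨hxQ, hxs⟩ := (hmemA x).1 hx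
    obtain ⟨e, he, rfl | rfl⟩ := hcases x hxQ
    · exact ⟨x, (hmemU x).2 ⟨he, hxs⟩, Or.inl rfl⟩
    · refine ⟨e, (hmemU e).2 ⟨he, ?_⟩, Or.inr rfl⟩
      exact mul_left_cancel (a := s) (by rw [hxs, mul_assoc])
  have hAc : ∀ a ∈ Q ⊓ Subgroup.centralizer ({s} : Set S),
      ∀ b ∈ Q ⊓ Subgroup.centralizer ({s} : Set S), Commute a b := fun a ha b hb => by
    obtain ⟨u, hu, ha'⟩ := hform a ha
    obtain ⟨v, hv, hb'⟩ := hform b hb
    have huv : Commute u v := hEc u ((hmemU u).1 hu).1 v ((hmemU v).1 hv).1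
    have hus : Commute u s := ((hmemU u).1 hu).2.symm
    have hvs : Commute v s := ((hmemU v).1 hv).2.symm
    rcases ha' with ha' | ha' <;> rcases hb' with hb' | hb' <;> rw [ha', hb']
    · exact huv
    · exact hus.mul_right huv
    · exact hvs.symm.mul_left huv
    · exact ((Commute.refl s).mul_right hvs.symm).mul_left (hus.mul_right huv)
  have hAe : Cfsg.IsElementaryAbelian 2 (Q ⊓ Subgroup.centralizer ({s} : Set S) : Subgroup S) := by
    refine ⟨⟨⟨fun a b => Subtype.ext (hAc a a.2 b b.2)⟩⟩, fun a ha => ?_⟩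
    obtain ⟨u, hu, rfl | rfl⟩ := hform a ha
    · rw [pow_two]; exact hE2 _ ((hmemU _).1 hu).1
    · have hsu : Commute s u := ((hmemU u).1 hu).2
      rw [hsu.mul_pow, pow_two, pow_two, hs2, hE2 _ ((hmemU u).1 hu).1, one_mul]
  have hA8 : Nat.card (Q ⊓ Subgroup.centralizer ({s} : Set S) : Subgroup S) = 8 := by
    let f : (E ⊓ Subgroup.centralizer ({s} : Set S) : Subgroup S) × Bool →
        (Q ⊓ Subgroup.centralizer ({s} : Set S) : Subgroup S) := fun p =>
      ⟨bif p.2 then s * p.1 else p.1, by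
        obtain ⟨⟨u, hu⟩, b⟩ := p
        obtain ⟨huE, hus⟩ := (hmemU u).1 hu
        cases b
        · exact (hmemA _).2 ⟨hEQ huE, hus⟩
        · exact (hmemA _).2 ⟨mul_mem hsQ (hEQ huE), by
            show s * (s * u) = s * u * s
            rw [mul_assoc, ← hus]⟩⟩
    have hf : Function.Bijective f := by
      constructor
      · rintro ⟨⟨u, hu⟩, b⟩ ⟨⟨v, hv⟩, c⟩ h
        have h' := congrArg Subtype.val h
        have hu' := ((hmemU u).1 hu).1
        have hv' := ((hmemU v).1 hv).1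
        cases b <;> cases c <;> simp only [f, cond_true, cond_false] at h'
        · subst h'; rfl
        · exact absurd (by simpa using mul_mem (h' ▸ hu' : s * v ∈ E) (inv_mem hv')) hsE
        · exact absurd (by simpa using mul_mem (h'.symm ▸ hv' : s * u ∈ E) (inv_mem hu')) hsE
        · have := mul_left_cancel h'; subst this; rfl
      · rintro ⟨x, hx⟩
        obtain ⟨u, hu, rfl | rfl⟩ := hform x hx
        · exact ⟨(⟨_, hu⟩, false), rfl⟩
        · exact ⟨(⟨u, hu⟩, true), rfl⟩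
    rw [← Nat.card_congr (Equiv.ofBijective f hf), Nat.card_prod, hfix]
    simp
  refine Cfsg.Agent.S1232.result hS _ hAe hA8 (le_antisymm (fun x hx => ?_) fun a ha => ?_)
  · have hsA : s ∈ Q ⊓ Subgroup.centralizer ({s} : Set S) := (hmemA s).2 ⟨hsQ, rfl⟩
    refine (hmemA x).2 ⟨?_, Subgroup.mem_centralizer_iff.1 hx s hsA⟩
    rw [← hC, Subgroup.mem_centralizer_iff]
    rintro _ ⟨⟨z, hzQ⟩, hz, rfl⟩
    refine Subgroup.mem_centralizer_iff.1 hx z ((hmemA z).2 ⟨hzQ, ?_⟩)
    exact congrArg Subtype.val (Subgroup.mem_center_iff.1 hz ⟨s, hsQ⟩)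
  · exact Subgroup.mem_centralizer_iff.2 fun b hb => hAc b hb a ha

end Cfsg.Agent.S1234
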