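import Cfsg.Statements.S1235
import Cfsg.Agent.Lib.Fusion.FourByFour
import Cfsg.Agent.Lib.TwoGroups.QuasiDihedral

set_option autoImplicit false
open Cfsg

namespace Cfsg.Agent.S1235

open Subgroup
open Cfsg.Agent.Lib.Fusion Cfsg.Agent.Lib.Fusion.SectionCount Cfsg.Agent.Lib.Fusion.Alperin
open Cfsg.Agent.Lib.Fusion.RankTwoFusionSimple (Four mem_normalizer_of conj_mem)
open Cfsg.Agent.Lib.TwoGroups

/-- The shapes of `D`: a four group, or a cyclic subgroup of index two and a centre `{1, d}`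
with `d` a square. -/
theorem shape {D : Type*} [Group D] [Finite D] (hp : IsPGroup 2 D)
    (hD : (∃ m : ℕ, 2 ≤ m ∧ Nonempty (D ≃* DihedralGroup m)) ∨ Cfsg.IsQuasiDihedral D) :
    (Nat.card D = 4 ∧ ∀ x : D, x * x = 1) ∨
      ∃ a d s : D, 2 * orderOf a = Nat.card D ∧ d ≠ 1 ∧ s * s = d ∧ (∀ y : D, d * y = y * d) ∧
        ∀ z : D, (∀ y : D, z * y = y * z) → z = 1 ∨ z = d := by
  rcases hD with ⟨m, hm, ⟨e⟩⟩ | hQ
  · have : NeZero m := ⟨by omega⟩
    have hcard : Nat.card D = 2 * m := (Nat.card_congr e.toEquiv).trans DihedralGroup.nat_card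
    obtain ⟨n, hn⟩ := IsPGroup.iff_card.1 hp
    rcases eq_or_ne m 2 with rfl | hm2
    · refine Or.inl ⟨hcard, fun x => e.injective ?_⟩
      rw [map_mul, map_one]
      have h : ∀ y : DihedralGroup 2, y * y = 1 := by decide
      exact h _
    refine Or.inr ?_
    have hm4 : ∃ q, m = 4 * q := by
      rw [hn] at hcard
      rcases n with _ | _ | _ | n
      · omega
      · omega
      · omega
      · exact ⟨2 ^ n, by rw [pow_succ, pow_succ, pow_succ] at hcard; omega⟩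
    obtain ⟨q, rfl⟩ := hm4
    have h2 : ∀ i : ZMod (4 * q), i = -i → i = 0 ∨ i = ((2 * q : ℕ) : ZMod (4 * q)) := by
      intro i hi
      rcases (ZMod.neg_eq_self_iff i).1 hi.symm with h | h
      · exact Or.inl h
      · exact Or.inr (by rw [← ZMod.natCast_zmod_val i]; congr 1; omega)
    refine ⟨e.symm (.r 1), e.symm (.r ((2 * q : ℕ) : ZMod (4 * q))),
      e.symm (.r ((q : ℕ) : ZMod (4 * q))), ?_, ?_, ?_, ?_, ?_⟩
    · rw [MulEquiv.orderOf_eq, DihedralGroup.orderOf_r_one, hcard]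
    · intro h
      rw [MulEquiv.map_eq_one_iff, DihedralGroup.one_def, DihedralGroup.r.injEq,
        ZMod.natCast_eq_zero_iff] at h
      have := Nat.le_of_dvd (by omega) h
      omega
    · rw [← map_mul, DihedralGroup.r_mul_r, ← Nat.cast_add, two_mul]
    · intro y
      apply e.injective
      rw [map_mul, map_mul, MulEquiv.apply_symm_apply]
      have hneg : -((2 * q : ℕ) : ZMod (4 * q)) = ((2 * q : ℕ) : ZMod (4 * q)) := by
        rw [neg_eq_iff_add_eq_zero, ← Nat.cast_add, show 2 * q + 2 * q = 4 * q by ring,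
          ZMod.natCast_self]
      rcases e y with j | j
      · rw [DihedralGroup.r_mul_r, DihedralGroup.r_mul_r, add_comm]
      · rw [DihedralGroup.r_mul_sr, DihedralGroup.sr_mul_r, sub_eq_add_neg, hneg]
    · intro z hz
      have h0 := congrArg e (hz (e.symm (.sr 0)))
      have h1 := congrArg e (hz (e.symm (.r 1)))
      simp only [map_mul, MulEquiv.apply_symm_apply] at h0 h1
      rw [← e.symm_apply_apply z]
      rcases hez : e z with j | j
      · rw [hez, DihedralGroup.r_mul_sr, DihedralGroup.sr_mul_r, DihedralGroup.sr.injEq] at h0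
        rcases h2 j (by linear_combination -h0) with rfl | rfl
        · exact Or.inl (by rw [← DihedralGroup.one_def, map_one])
        · exact Or.inr rfl
      · exfalso
        rw [hez, DihedralGroup.sr_mul_r, DihedralGroup.r_mul_sr, DihedralGroup.sr.injEq] at h1
        have h3 : ((2 : ℕ) : ZMod (4 * q)) = 0 := by push_cast; linear_combination h1
        rw [ZMod.natCast_eq_zero_iff] at h3
        have := Nat.le_of_dvd (by omega) h3
        omega
  · obtain ⟨k, x, y, Q⟩ := QuasiDihedral.exists_QD hQ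
    refine Or.inr ⟨x, _, Recognition.powZ (2 ^ (k + 3)) x (QuasiDihedral.quarter k), ?_,
      fun h => QuasiDihedral.half_ne_zero k (Q.powZ_eq_one_iff.1 h),
      (by rw [Q.mul_cc, QuasiDihedral.quarter_add_quarter]),
      fun y => (mem_center_iff.1 (QuasiDihedral.half_mem_center Q) y).symm, fun z hz => ?_⟩
    · rw [Q.orderOf_x, Q.card_eq]
    · have hzc : z ∈ center D := mem_center_iff.2 fun y => (hz y).symm
      rw [QuasiDihedral.center_eq Q] at hzc
      have hd := QuasiDihedral.orderOf_half Q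
      obtain ⟨i, rfl⟩ := mem_powers_iff_mem_zpowers.2 hzc
      show _ ^ i = _ ∨ _ ^ i = _
      rw [← pow_mod_orderOf, hd]
      rcases Nat.mod_two_eq_zero_or_one i with h | h <;> simp [h]

/-- A Sylow `2`-subgroup equal to `T` when `D` is nonabelian. -/
theorem normalizer_le {G : Type*} [Group G] [Finite G] {S T D B : Subgroup G}
    (hS : IsPGroup 2 S) (hprod : Cfsg.IsInternalDirectProduct D B T) (hB : Four B)
    (hdec : ∀ t ∈ T, ∃ x ∈ D, ∃ b ∈ B, t = x * b)
    (hcent : ∀ b ∈ B, b ≠ 1 → ∀ s ∈ S, s * b = b * s → s ∈ T)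
    {d : G} (hd1 : d ≠ 1) (hdD : d ∈ D) (hsq : ∃ s ∈ D, s * s = d)
    (hdc : ∀ y ∈ D, d * y = y * d) (hz : ∀ z ∈ D, (∀ y ∈ D, z * y = y * z) → z = 1 ∨ z = d) :
    S ⊓ normalizer (T : Set G) ≤ T := by
  obtain ⟨hDT, hBT, hcomm, hinf, -⟩ := hprod
  intro g₁ hg₁
  by_contra hg₁T
  obtain ⟨g, hgS, hgN, hgT, hg2⟩ : ∃ g, g ∈ S ∧ g ∈ normalizer (T : Set G) ∧ g ∉ T ∧ g * g ∈ T := by
    classical
    obtain ⟨n, hn⟩ := hS ⟨g₁, hg₁.1⟩
    have hex : ∃ j, g₁ ^ 2 ^ j ∈ T := ⟨n, by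
      have : g₁ ^ 2 ^ n = 1 := by simpa using congrArg Subtype.val hn
      rw [this]; exact T.one_mem⟩
    have h0 : Nat.find hex ≠ 0 := fun h => hg₁T (by simpa [h] using Nat.find_spec hex)
    refine ⟨g₁ ^ 2 ^ (Nat.find hex - 1), pow_mem hg₁.1 _, pow_mem hg₁.2 _,
      Nat.find_min hex (by omega), ?_⟩
    rw [← pow_add, ← two_mul, ← pow_succ', show Nat.find hex - 1 + 1 = Nat.find hex by omega]
    exact Nat.find_spec hex
  have hdT : ∀ t ∈ T, d * t = t * d := by
    intro t ht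
    obtain ⟨x, hx, b, hb, rfl⟩ := hdec t ht
    rw [← mul_assoc, hdc x hx, mul_assoc, hcomm d hdD b hb, mul_assoc]
  have hbT : ∀ b ∈ B, ∀ t ∈ T, b * t = t * b := by
    intro b hb t ht
    obtain ⟨x, hx, c, hc, rfl⟩ := hdec t ht
    rw [← mul_assoc, ← hcomm x hx b hb, mul_assoc, hB.comm hb hc, mul_assoc]
  -- images of central elements
  have hcen : ∀ z ∈ T, (∀ t ∈ T, z * t = t * z) → ∀ t ∈ T,
      g * z * g⁻¹ * t = t * (g * z * g⁻¹) := by
    intro z _ hzt t ht
    have h := hzt _ (conj_mem (inv_mem hgN) ht)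
    calc g * z * g⁻¹ * t = g * (z * (g⁻¹ * t * g⁻¹⁻¹)) * g⁻¹ := by group
      _ = t * (g * z * g⁻¹) := by rw [h]; group
  have hgd : g * d * g⁻¹ = d := by
    obtain ⟨s, hs, rfl⟩ := hsq
    have hm := conj_mem hgN (hDT hs)
    obtain ⟨x, hx, b, hb, he⟩ := hdec _ hm
    have hcz := hcen _ (hDT hdD) hdT
    rw [show g * (s * s) * g⁻¹ = g * s * g⁻¹ * (g * s * g⁻¹) by group, he] at hcz ⊢
    have hxx : x * b * (x * b) = x * x := by
      rw [mul_assoc, ← mul_assoc b, ← hcomm x hx b hb, mul_assoc x b, hB.sq b hb, mul_one]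
    rw [hxx] at hcz ⊢
    refine (hz _ (D.mul_mem hx hx) fun y hy => hcz y (hDT hy)).resolve_left fun h => hd1 ?_
    have : g * (s * s) * g⁻¹ = 1 := by
      rw [show g * (s * s) * g⁻¹ = g * s * g⁻¹ * (g * s * g⁻¹) by group, he, hxx, h]
    exact conj_eq_one_iff.1 this
  -- the image of an involution of `B` leaves `B`
  have hout : ∀ b ∈ B, b ≠ 1 → g * b * g⁻¹ ∉ B := by
    intro b hb hb1 hb'
    have hfix : ∀ c ∈ B, g * c * g⁻¹ = c → c = 1 := fun c hc h => by
      by_contra h1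
      exact hgT (hcent c hc h1 g hgS (mul_inv_eq_iff_eq_mul.1 h))
    have hback : g * (g * b * g⁻¹) * g⁻¹ = b := by
      rw [show g * (g * b * g⁻¹) * g⁻¹ = g * g * b * (g * g)⁻¹ by group, ← hbT b hb _ hg2,
        mul_inv_cancel_right]
    have h := hfix _ (B.mul_mem hb hb') (by
      rw [show g * (b * (g * b * g⁻¹)) * g⁻¹ = g * b * g⁻¹ * (g * (g * b * g⁻¹) * g⁻¹) by group,
        hback, hB.comm hb' hb])
    refine hb1 (hfix b hb ?_)
    rw [← inv_eq_of_mul_eq_one_right h, hB.inv hb]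
  have himg : ∀ b ∈ B, b ≠ 1 → ∃ b' ∈ B, g * b * g⁻¹ = d * b' := by
    intro b hb hb1
    obtain ⟨x, hx, b', hb', he⟩ := hdec _ (conj_mem hgN (hBT hb))
    have hxc : ∀ y ∈ D, x * y = y * x := fun y hy => by
      have h := hcen b (hBT hb) (hbT b hb) y (hDT hy)
      rw [he, mul_assoc, ← hcomm y hy b' hb', ← mul_assoc, ← mul_assoc] at h
      exact mul_right_cancel h
    rcases hz x hx hxc with rfl | rfl
    · exact absurd (by rw [he, one_mul]; exact hb') (hout b hb hb1)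
    · exact ⟨b', hb', he⟩
  obtain ⟨b₁, hb₁, hb₁1, -⟩ := hB.exists_ne 1
  obtain ⟨b₂, hb₂, hb₂1, hb₂'⟩ := hB.exists_ne b₁
  have hb₁₂ : b₁ * b₂ ≠ 1 := fun h =>
    hb₂' (by rw [← inv_eq_of_mul_eq_one_right h, hB.inv hb₁])
  obtain ⟨c₁, hc₁, e₁⟩ := himg b₁ hb₁ hb₁1
  obtain ⟨c₂, hc₂, e₂⟩ := himg b₂ hb₂ hb₂1
  refine hout _ (B.mul_mem hb₁ hb₂) hb₁₂ ?_
  rw [show g * (b₁ * b₂) * g⁻¹ = g * b₁ * g⁻¹ * (g * b₂ * g⁻¹) by group, e₁, e₂,
    mul_assoc, ← mul_assoc c₁, ← hcomm d hdD c₁ hc₁, mul_assoc d c₁, ← mul_assoc d d]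
  obtain ⟨s, -, hs⟩ := hsq
  have hd2 : d * d = 1 := by
    rcases hz (d * d) (D.mul_mem hdD hdD) (fun y hy => by
      rw [mul_assoc, hdc y hy, ← mul_assoc, hdc y hy, mul_assoc]) with h | h
    · exact h
    · exact absurd (mul_eq_left.1 h) hd1
  rw [hd2, one_mul]
  exact B.mul_mem hc₁ hc₂

/-- The bound inside `D × B`. -/
theorem bound {G : Type*} [Group G] [Finite G] {T D B : Subgroup G}
    (hprod : Cfsg.IsInternalDirectProduct D B T) (hB : Four B)
    (hdec : ∀ t ∈ T, ∃ x ∈ D, ∃ b ∈ B, t = x * b)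
    {a : G} (ha : a ∈ D) (hcard : 2 * orderOf a = Nat.card D) : Bounded 4 T := by
  obtain ⟨hDT, hBT, hcomm, hinf, -⟩ := hprod
  have haD : zpowers a ≤ D := zpowers_le.2 ha
  refine bounded_of_relIndex fun H K hHT hk => ?_
  let C : Subgroup G :=
    { carrier := {t | ∃ x ∈ zpowers a, ∃ b ∈ B, t = x * b}
      one_mem' := ⟨1, one_mem _, 1, one_mem _, (one_mul 1).symm⟩
      mul_mem' := by
        rintro _ _ ⟨x, hx, b, hb, rfl⟩ ⟨x', hx', b', hb', rfl⟩
        refine ⟨x * x', mul_mem hx hx', b * b', mul_mem hb hb', ?_⟩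
        rw [mul_assoc, ← mul_assoc b, ← hcomm x' (haD hx') b hb]
        group
      inv_mem' := by
        rintro _ ⟨x, hx, b, hb, rfl⟩
        exact ⟨x⁻¹, inv_mem hx, b⁻¹, inv_mem hb, by
          rw [mul_inv_rev, hcomm _ (haD (inv_mem hx)) _ (inv_mem hb)]⟩ }
  have hCT : C ≤ T := by
    rintro _ ⟨x, hx, b, hb, rfl⟩
    exact T.mul_mem (hDT (haD hx)) (hBT hb)
  have hidx : C.relIndex T ≤ 2 := by
    choose x hx b hb he using fun t : T => hdec t t.2
    refine (FourByFour.relIndex_le_of_fun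
      (fun t : T => ((⟨x t, hx t⟩ : D) : D ⧸ (zpowers a).subgroupOf D)) fun t t' e => ?_).trans ?_
    · rw [QuotientGroup.eq, mem_subgroupOf] at e
      simp only [Subgroup.coe_mul, Subgroup.coe_inv] at e
      refine ⟨_, e, b t * b t', B.mul_mem (hb t) (hb t'), ?_⟩
      rw [he t, he t', mul_inv_rev, hB.inv (hb t), mul_assoc (b t), ← mul_assoc (x t)⁻¹,
        ← mul_assoc (b t), ← hcomm _ (haD e) (b t) (hb t)]
      group
    · have h := relIndex_mul_card (K := zpowers a) D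
      rw [inf_eq_left.2 haD, Nat.card_zpowers, ← hcard] at h
      exact (Nat.eq_of_mul_eq_mul_right (orderOf_pos a) h).le
  refine (step hCT).trans ((Nat.mul_le_mul hidx (?_ : _ ≤ 8)).trans le_rfl)
  let A : Subgroup G :=
    { carrier := {x | x ∈ zpowers a ∧ ∃ b ∈ B, x * b ∈ H}
      one_mem' := ⟨one_mem _, 1, one_mem _, by rw [mul_one]; exact one_mem H⟩
      mul_mem' := by
        rintro x x' ⟨hx, b, hb, h⟩ ⟨hx', b', hb', h'⟩
        refine ⟨mul_mem hx hx', b * b', mul_mem hb hb', ?_⟩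
        rw [show x * x' * (b * b') = x * (x' * b) * b' by group, hcomm x' (haD hx') b hb,
          show x * (b * x') * b' = x * b * (x' * b') by group]
        exact mul_mem h h'
      inv_mem' := by
        rintro x ⟨hx, b, hb, h⟩
        refine ⟨inv_mem hx, b⁻¹, inv_mem hb, ?_⟩
        rw [hcomm _ (haD (inv_mem hx)) _ (inv_mem hb), ← mul_inv_rev]
        exact inv_mem h }
  have : IsCyclic A := Subgroup.isCyclic_of_le (fun x hx => hx.1 : A ≤ zpowers a)
  obtain ⟨⟨x₀, hx₀⟩, hgen⟩ := IsCyclic.exists_generator (α := A)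
  obtain ⟨-, b₀, hb₀, hh⟩ := id hx₀
  have hx₀D : x₀ ∈ D := haD hx₀.1
  have hdecC : ∀ h : (H ⊓ C : Subgroup G), ∃ i : ℤ, ∃ b ∈ B, (h : G) = (x₀ * b₀) ^ i * b := by
    rintro ⟨_, hhH, x, hx, b, hb, rfl⟩
    obtain ⟨i, hi⟩ := mem_zpowers_iff.1 (hgen ⟨x, hx, b, hb, hhH⟩)
    have hi' : x₀ ^ i = x := by simpa using congrArg Subtype.val hi
    refine ⟨i, b₀⁻¹ ^ i * b, B.mul_mem (zpow_mem (inv_mem hb₀) i) hb, ?_⟩
    rw [(show Commute x₀ b₀ from hcomm x₀ hx₀D b₀ hb₀).mul_zpow, inv_zpow, hi']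
    group
  choose i b hb he using hdecC
  refine (FourByFour.relIndex_le_of_fun
    (fun h => (((i h : ℤ) : ZMod 2), (⟨b h, hb h⟩ : B))) fun h h' e => ?_).trans ?_
  · obtain ⟨e1, e2⟩ := Prod.ext_iff.1 e
    have e2' : b h = b h' := congrArg Subtype.val e2
    obtain ⟨l, hl⟩ : (2 : ℤ) ∣ i h' - i h := by
      have := (ZMod.intCast_zmod_eq_zero_iff_dvd (i h' - i h) 2).1 (by
        push_cast; rw [show ((i h : ℤ) : ZMod 2) = i h' from e1, sub_self])
      exact_mod_cast this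
    have hcb : ∀ j : ℤ, Commute ((x₀ * b₀) ^ j) (b h') := fun j =>
      ((show Commute x₀ (b h') from hcomm x₀ hx₀D _ (hb h')).mul_left
        (show Commute b₀ (b h') from hB.comm hb₀ (hb h'))).zpow_left j
    have : (h : G)⁻¹ * h' = (x₀ * b₀) ^ l * (x₀ * b₀) ^ l := by
      rw [he h, he h', e2', mul_inv_rev, (hcb (i h')).eq, ← zpow_add, ← two_mul, ← hl,
        mul_assoc, ← mul_assoc ((x₀ * b₀) ^ i h)⁻¹, ((hcb (i h)).inv_left).eq]
      group
    rw [this]
    exact hk.sq _ (zpow_mem hh l)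
  · rw [Nat.card_prod, Nat.card_zmod, hB.card]

/-- Let G be a finite group, x an involution and T ≤ G a Sylow 2-subgroup of C_G(x) (T ≤ C_G(x) with |C_G(x) : T| odd) which is the internal direct product of a subgroup D that is dihedral (of order ≥ 4) or quasi-dihedral and a Klein four-subgroup B. Suppose that for every involution b ∈ B, T ≤ C_G(b) with |C_G(b) : T| odd. Then every section of G has 2-rank at most 4. -/
theorem result {G : Type*} [Group G] [Finite G] (x : G) (hx : orderOf x = 2) (T D B : Subgroup G) (hT : IsPGroup 2 T) (hTx : T ≤ Subgroup.centralizer ({x} : Set G)) (hTxi : Odd (T.relIndex (Subgroup.centralizer ({x} : Set G)))) (hprod : Cfsg.IsInternalDirectProduct D B T) (hD : (∃ m : ℕ, 2 ≤ m ∧ Nonempty (D ≃* DihedralGroup m)) ∨ Cfsg.IsQuasiDihedral D) (hB : IsKleinFour B) (hTb : ∀ b ∈ B, orderOf b = 2 → T ≤ Subgroup.centralizer ({b} : Set G) ∧ Odd (T.relIndex (Subgroup.centralizer ({b} : Set G)))) : Cfsg.SectionalPRankLE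 2 4 G := by
  obtain ⟨hDT, hBT, hcomm, hinf, hsup⟩ := id hprod
  have hB4 : Four B := ⟨IsKleinFour.card_four, fun b hb =>
    congrArg Subtype.val (IsKleinFour.mul_self (⟨b, hb⟩ : B))⟩
  have hdec : ∀ t ∈ T, ∃ x ∈ D, ∃ b ∈ B, t = x * b := by
    let M : Subgroup G :=
      { carrier := {t | ∃ x ∈ D, ∃ b ∈ B, t = x * b}
        one_mem' := ⟨1, one_mem _, 1, one_mem _, (one_mul 1).symm⟩
        mul_mem' := by
          rintro _ _ ⟨x, hx, b, hb, rfl⟩ ⟨x', hx', b', hb', rfl⟩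
          refine ⟨x * x', mul_mem hx hx', b * b', mul_mem hb hb', ?_⟩
          rw [mul_assoc, ← mul_assoc b, ← hcomm x' hx' b hb]
          group
        inv_mem' := by
          rintro _ ⟨x, hx, b, hb, rfl⟩
          exact ⟨x⁻¹, inv_mem hx, b⁻¹, inv_mem hb, by
            rw [mul_inv_rev, hcomm _ (inv_mem hx) _ (inv_mem hb)]⟩ }
    intro t ht
    have hle : D ⊔ B ≤ M := sup_le (fun x hx => ⟨x, hx, 1, one_mem _, (mul_one x).symm⟩)
      fun b hb => ⟨1, one_mem _, b, hb, (one_mul b).symm⟩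
    exact hle (hsup ▸ ht)
  have : Fact (Nat.Prime 2) := ⟨Nat.prime_two⟩
  obtain ⟨S, hTS⟩ := hT.exists_le_sylow
  refine sectional_of_sylow S ?_
  have hcent : ∀ b ∈ B, b ≠ 1 → ∀ s ∈ (S : Subgroup G), s * b = b * s → s ∈ T := by
    intro b hb hb1 s hs hsb
    obtain ⟨hle, hodd⟩ := hTb b hb (orderOf_eq_prime (by rw [pow_two, hB4.sq b hb]) hb1)
    set C : Subgroup G := centralizer ({b} : Set G)
    have hTU : T ≤ (S : Subgroup G) ⊓ C := le_inf hTS hle
    have h1 := relIndex_mul_relIndex T ((S : Subgroup G) ⊓ C) C hTU inf_le_right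
    obtain ⟨n, hn⟩ := IsPGroup.iff_card.1 (S.2.to_le (inf_le_left : (S : Subgroup G) ⊓ C ≤ S))
    obtain ⟨j, -, hj⟩ := (Nat.dvd_prime_pow Nat.prime_two).1 (hn ▸ relIndex_dvd_card T _)
    have h2 : T.relIndex ((S : Subgroup G) ⊓ C) = 1 := by
      rcases j with _ | j
      · simpa using hj
      · exfalso
        rw [← h1, hj] at hodd
        exact Nat.not_odd_iff_even.2 (((Nat.even_pow.2 ⟨even_two, Nat.succ_ne_zero j⟩)).mul_right _) hodd
    exact relIndex_eq_one.1 h2 ⟨hs, mem_centralizer_singleton_iff.2 hsb⟩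
  rcases shape (hT.to_le hDT) hD with ⟨hD4, hDsq⟩ | ⟨a, d, s, hcard, hd1, hsd, hdc, hz⟩
  · refine FourByFour.Setup.bounded (T := T) (B := B) ⟨S.2, hTS, ?_, ?_, hB4, hBT, hcent⟩
    · refine le_antisymm ?_ ?_
      · choose x hx b hb he using fun t : T => hdec t t.2
        calc Nat.card T ≤ Nat.card (D × B) := by
              refine Nat.card_le_card_of_injective
                (fun t => ((⟨x t, hx t⟩ : D), (⟨b t, hb t⟩ : B))) fun t t' e => ?_
              simp only [Prod.mk.injEq, Subtype.mk.injEq] at e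
              exact Subtype.ext (by rw [he t, he t', e.1, e.2])
          _ = 16 := by rw [Nat.card_prod, hD4, hB4.card]
      · have := FourByFour.card_mul_le hDT hBT fun x hx hx' =>
          (Subgroup.eq_bot_iff_forall _).1 hinf x ⟨hx, hx'⟩
        rwa [hD4, hB4.card] at this
    · intro t ht
      obtain ⟨x, hx, b, hb, rfl⟩ := hdec t ht
      rw [mul_assoc, ← mul_assoc b, ← hcomm x hx b hb, mul_assoc x b, hB4.sq b hb, mul_one]
      exact congrArg Subtype.val (hDsq ⟨x, hx⟩)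
  · have hST : (S : Subgroup G) = T := by
      refine le_antisymm ?_ hTS
      by_contra h
      refine (lt_inf_normalizer S.2 (lt_of_le_of_ne hTS fun e => h e.ge)).not_ge ?_
      exact normalizer_le S.2 hprod hB4 hdec hcent (fun e => hd1 (Subtype.ext e)) d.2
        ⟨s, s.2, congrArg Subtype.val hsd⟩ (fun y hy => congrArg Subtype.val (hdc ⟨y, hy⟩))
        fun z hzD h => (hz ⟨z, hzD⟩ fun y => Subtype.ext (h y y.2)).imp
          (congrArg Subtype.val) (congrArg Subtype.val)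
    rw [hST]
    exact bound hprod hB4 hdec a.2 ((Subgroup.orderOf_coe a).symm ▸ hcard)

end Cfsg.Agent.S1235
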