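import Cfsg.Statements.S1236
import Mathlib


set_option autoImplicit false
open Cfsg

namespace Cfsg.Agent.S1236

theorem card_map_mul {R Q : Type*} [Group R] [Group Q] (f : R →* Q) (A : Subgroup R)
    (h : f.ker ≤ A) : Nat.card (A.map f) * Nat.card f.ker = Nat.card A := by
  have h1 := Subgroup.card_eq_card_quotient_mul_card_subgroup (f.ker.subgroupOf A)
  rw [Nat.card_congr (Subgroup.subgroupOfEquivOfLe h).toEquiv] at h1
  rw [h1]
  congr 1
  let g := f.domRestrict A
  have hg : g.ker = f.ker.subgroupOf A := by ext x; simp [g, Subgroup.mem_subgroupOf]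
  rw [← hg, Nat.card_congr (QuotientGroup.quotientKerEquivRange g).toEquiv]
  congr 1
  simp [g]

theorem exists_small_dihedral {Q : Type*} [Group Q] (m : ℕ) (hm : 2 ≤ m)
    (e : Q ≃* DihedralGroup m) (B : Subgroup Q) (hB4 : Nat.card B = 4) (hB2 : ∀ b ∈ B, b * b = 1)
    (hBc : ∀ x ∈ B, ∀ y ∈ B, x * y = y * x) :
    ∃ s ∈ B, Nat.card (Subgroup.centralizer ({s} : Set Q)) ≤ 4 := by
  have : NeZero m := ⟨by omega⟩
  have hdouble : ∀ j : ZMod m, j + j = 0 → j = 0 ∨ j = ((m / 2 : ℕ) : ZMod m) := by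
    intro j hj
    have h1 : ((j.val + j.val : ℕ) : ZMod m) = 0 := by simp [hj]
    rw [ZMod.natCast_eq_zero_iff] at h1
    obtain ⟨c, hc⟩ := h1
    have := ZMod.val_lt j
    rcases c with _ | _ | c
    · left
      rw [← ZMod.natCast_zmod_val j, show j.val = 0 by omega, Nat.cast_zero]
    · right
      rw [← ZMod.natCast_zmod_val j, show j.val = m / 2 by omega]
    · nlinarith
  -- some element of `B` is a reflection
  obtain ⟨s, hs, i, hsi⟩ : ∃ s ∈ B, ∃ i, e s = DihedralGroup.sr i := by
    by_contra hcon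
    push Not at hcon
    have hinj : Nat.card B ≤ 2 := by
      have : ∀ b : B, e b = DihedralGroup.r 0 ∨ e b = DihedralGroup.r ((m / 2 : ℕ) : ZMod m) := by
        intro b
        cases hb : e (b : Q) with
        | r j =>
          have h1 := congrArg e (hB2 b b.2)
          rw [map_mul, map_one, hb, DihedralGroup.r_mul_r, DihedralGroup.one_def] at h1
          rcases hdouble j (DihedralGroup.r.inj h1) with h | h <;> simp [h]
        | sr j => exact absurd hb (hcon b b.2 j)
      let f : B → Bool := fun b => decide (e (b : Q) = DihedralGroup.r 0)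
      have hf : Function.Injective f := by
        intro a b hab
        apply Subtype.ext
        apply e.injective
        simp only [f, decide_eq_decide] at hab
        rcases this a with ha | ha <;> rcases this b with hb | hb
        · rw [ha, hb]
        · rw [ha, (hab.1 ha)]
        · rw [hb, (hab.2 hb)]
        · rw [ha, hb]
      exact (Nat.card_le_card_of_injective f hf).trans (by simp)
    omega
  refine ⟨s, hs, ?_⟩
  let f : Subgroup.centralizer ({s} : Set Q) → Bool × Bool := fun x =>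
    match e (x : Q) with
    | .r j => (true, decide (j = 0))
    | .sr j => (false, decide (j = i))
  have hcases : ∀ x : Subgroup.centralizer ({s} : Set Q),
      (∃ j, e (x : Q) = .r j ∧ (j = 0 ∨ j = ((m / 2 : ℕ) : ZMod m))) ∨
      (∃ j, e (x : Q) = .sr j ∧ (j = i ∨ j = i + ((m / 2 : ℕ) : ZMod m))) := by
    intro x
    have h1 := congrArg e (Subgroup.mem_centralizer_singleton_iff.1 x.2)
    rw [map_mul, map_mul, hsi] at h1
    cases hx : e (x : Q) with
    | r j =>
      rw [hx] at h1
      simp only [DihedralGroup.r_mul_sr, DihedralGroup.sr_mul_r, DihedralGroup.sr.injEq] at h1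
      refine Or.inl ⟨j, rfl, hdouble j ?_⟩
      first
        | (calc j + j = (i + j) - (i - j) := by abel
            _ = 0 := by rw [h1, sub_self])
        | (calc j + j = (i + j) - (i - j) := by abel
            _ = 0 := by rw [← h1, sub_self])
    | sr j =>
      rw [hx] at h1
      simp only [DihedralGroup.sr_mul_sr, DihedralGroup.r.injEq] at h1
      refine Or.inr ⟨j, rfl, ?_⟩
      rcases hdouble (j - i) (by first
        | (calc j - i + (j - i) = (j - i) - (i - j) := by abel
            _ = 0 := by rw [h1, sub_self])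
        | (calc j - i + (j - i) = (j - i) - (i - j) := by abel
            _ = 0 := by rw [← h1, sub_self])) with h | h
      · left; exact sub_eq_zero.1 h
      · right; rw [← h]; abel
  have hf : Function.Injective f := by
    intro x y hxy
    apply Subtype.ext; apply e.injective
    rcases hcases x with ⟨j, hj, hj'⟩ | ⟨j, hj, hj'⟩ <;>
      rcases hcases y with ⟨k, hk, hk'⟩ | ⟨k, hk, hk'⟩ <;>
      simp only [f, hj, hk, Prod.mk.injEq, Bool.true_eq_false, Bool.false_eq_true, false_and,
        true_and, decide_eq_decide] at hxy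
    all_goals rw [hj, hk]
    all_goals congr 1
    all_goals rcases hj' with rfl | rfl <;> rcases hk' with rfl | rfl <;> simp_all
  exact (Nat.card_le_card_of_injective f hf).trans (by simp)

theorem exists_small_quasiDihedral {Q : Type*} [Group Q] [Finite Q] (hQ : Cfsg.IsQuasiDihedral Q)
    (B : Subgroup Q) (hB4 : Nat.card B = 4) (hB2 : ∀ b ∈ B, b * b = 1) :
    ∃ s ∈ B, Nat.card (Subgroup.centralizer ({s} : Set Q)) ≤ 4 := by
  classical
  obtain ⟨n, hn, hcard, x, y, hx, hy, hyx⟩ := hQ
  set X := Subgroup.zpowers x with hX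
  have hXcard : Nat.card X = 2 ^ n := by rw [Nat.card_zpowers, hx]
  have hXidx : X.index = 2 := by
    have h1 := X.card_mul_index
    rw [hXcard, hcard, pow_succ] at h1
    exact Nat.eq_of_mul_eq_mul_left (by positivity) h1
  have hXc : IsCyclic X := inferInstance
  have hfour : 2 ^ n = 4 * 2 ^ (n - 2) := by
    rw [show (4 : ℕ) = 2 ^ 2 from rfl, ← pow_add, show 2 + (n - 2) = n by omega]
  have hhalf : 2 ^ (n - 1) = 2 * 2 ^ (n - 2) := by
    rw [← pow_succ', show n - 2 + 1 = n - 1 by omega]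
  have htwo : 2 ^ (n - 2) = 2 * 2 ^ (n - 3) := by
    rw [← pow_succ', show n - 3 + 1 = n - 2 by omega]
  have hpos : 0 < 2 ^ (n - 3) := by positivity
  -- only two square roots of unity in `X`
  have hroots : Nat.card {w : X // w ^ 2 = 1} ≤ 2 := by
    have := Fintype.ofFinite X
    rw [Nat.card_eq_fintype_card, Fintype.card_subtype]
    exact IsCyclic.card_pow_eq_one_le two_pos
  -- `y` fixes only those
  have hfix : ∀ j : ℤ, y * x ^ j * y⁻¹ = x ^ j → (x ^ j) ^ 2 = 1 := by
    intro j hj
    have h1 : y * x ^ j * y⁻¹ = (y * x * y⁻¹) ^ j := conj_zpow.symm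
    rw [h1, hyx, ← zpow_natCast, ← zpow_mul, ← orderOf_dvd_sub_iff_zpow_eq_zpow, hx] at hj
    push_cast [Nat.cast_sub (show 1 ≤ 2 ^ (n - 1) by omega)] at hj
    have e1 : ((2 : ℤ) ^ n) = 4 * 2 ^ (n - 2) := by exact_mod_cast hfour
    have e2 : ((2 : ℤ) ^ (n - 1)) = 2 * 2 ^ (n - 2) := by exact_mod_cast hhalf
    have e3 : ((2 : ℤ) ^ (n - 2)) = 2 * 2 ^ (n - 3) := by exact_mod_cast htwo
    rw [e1, e2] at hj
    have h2 : (2 * 2 ^ (n - 2) : ℤ) ∣ j * (2 ^ (n - 2) - 1) := by
      obtain ⟨c, hc⟩ := hj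
      first
        | exact ⟨c, by linarith [hc]⟩
        | exact ⟨-c, by linarith [hc]⟩
    have h3 : (2 * 2 ^ (n - 2) : ℤ) ∣ j := by
      refine (IsCoprime.dvd_of_dvd_mul_right ?_ h2)
      refine IsCoprime.mul_left ?_ (IsCoprime.pow_left ?_) <;>
        exact ⟨(2 : ℤ) ^ (n - 3), -1, by rw [e3]; ring⟩
    rw [← zpow_natCast, ← zpow_mul, ← orderOf_dvd_iff_zpow_eq_one, hx]
    obtain ⟨c, rfl⟩ := h3
    refine ⟨c, ?_⟩
    push_cast
    rw [e1]; ring
  have hy' : y ∉ X := by
    intro hmem
    obtain ⟨k, rfl⟩ := Subgroup.mem_zpowers_iff.1 hmem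
    have h1 := hfix 1 (by rw [zpow_one]; group)
    rw [zpow_one] at h1
    have h2 := orderOf_dvd_of_pow_eq_one h1
    rw [hx] at h2
    have := Nat.le_of_dvd (by norm_num) h2
    omega
  obtain ⟨s, hs, hsX⟩ : ∃ s ∈ B, s ∉ X := by
    by_contra hcon
    push Not at hcon
    let f : B → {w : X // w ^ 2 = 1} :=
      fun b => ⟨⟨b, hcon b b.2⟩, Subtype.ext (by simpa [pow_two] using hB2 b b.2)⟩
    have hf : Function.Injective f := fun a b h =>
      Subtype.ext (congrArg (fun w : {w : X // w ^ 2 = 1} => ((w : X) : Q)) h)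
    have := Nat.card_le_card_of_injective f hf
    omega
  refine ⟨s, hs, ?_⟩
  have hys : y⁻¹ * s ∈ X :=
    (Subgroup.mul_mem_iff_of_index_two hXidx).2 (iff_of_false (fun h => hy' (by simpa using h)) hsX)
  have hfix' : ∀ w ∈ X, w * s = s * w → w ^ 2 = 1 := by
    intro w hw hsw
    obtain ⟨j, rfl⟩ := Subgroup.mem_zpowers_iff.1 hw
    obtain ⟨i, hi⟩ := Subgroup.mem_zpowers_iff.1 hys
    apply hfix
    have hcomm : x ^ i * x ^ j = x ^ j * x ^ i := by rw [← zpow_add, ← zpow_add, add_comm]
    have hs' : s = y * x ^ i := by rw [hi]; group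
    calc y * x ^ j * y⁻¹ = y * (x ^ i * x ^ j * (x ^ i)⁻¹) * y⁻¹ := by
          rw [hcomm, mul_inv_cancel_right]
      _ = (s * x ^ j) * s⁻¹ := by rw [hs']; group
      _ = x ^ j := by rw [← hsw, mul_inv_cancel_right]
  have hmem : ∀ c : Subgroup.centralizer ({s} : Set Q), (c : Q) * s = s * c := fun c => by
    have := Subgroup.mem_centralizer_singleton_iff.1 c.2
    first | exact this | exact this.symm
  let f : Subgroup.centralizer ({s} : Set Q) → Bool × {w : X // w ^ 2 = 1} := fun c =>
    if h : (c : Q) ∈ X then (true, ⟨⟨c, h⟩, Subtype.ext (hfix' c h (hmem c))⟩)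
    else (false, ⟨⟨c * s, (Subgroup.mul_mem_iff_of_index_two hXidx).2 (iff_of_false h hsX)⟩,
      Subtype.ext (hfix' _ ((Subgroup.mul_mem_iff_of_index_two hXidx).2 (iff_of_false h hsX))
        (show (c : Q) * s * s = s * (c * s) by rw [← mul_assoc s, ← hmem c]))⟩)
  have hf : Function.Injective f := by
    intro a b hab
    apply Subtype.ext
    by_cases ha : (a : Q) ∈ X <;> by_cases hb : (b : Q) ∈ X <;>
      simp [f, ha, hb] at hab <;> simp [hab]
  have := Nat.card_le_card_of_injective f hf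
  rw [Nat.card_prod, Nat.card_eq_fintype_card (α := Bool), Fintype.card_bool] at this
  omega

/-- Let R be a finite group, t a central involution of R such that R ⧸ ⟨t⟩ is dihedral (of order ≥ 4) or quasi-dihedral, and A ≤ R an elementary abelian subgroup of order 8 containing t. Then C_R(A) = A. -/
theorem result {R : Type*} [Group R] [Finite R] (t : R) (ht : orderOf t = 2) (htz : t ∈ Subgroup.center R) [(Subgroup.zpowers t).Normal] (hq : (∃ m : ℕ, 2 ≤ m ∧ Nonempty (R ⧸ Subgroup.zpowers t ≃* DihedralGroup m)) ∨ Cfsg.IsQuasiDihedral (R ⧸ Subgroup.zpowers t)) (A : Subgroup R) (hA : Cfsg.IsElementaryAbelian 2 A) (hA8 : Nat.card A = 8) (htA : t ∈ A) : Subgroup.centralizer (A : Set R) = A := by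
  obtain ⟨hAc, hAp⟩ := hA
  let π := QuotientGroup.mk' (Subgroup.zpowers t)
  have hker : π.ker = Subgroup.zpowers t := QuotientGroup.ker_mk' _
  set B := A.map π with hB
  have hcardt : Nat.card (Subgroup.zpowers t) = 2 := by rw [Nat.card_zpowers, ht]
  have htA' : Subgroup.zpowers t ≤ A := Subgroup.zpowers_le.2 htA
  have hB4 : Nat.card B = 4 := by
    have h1 := card_map_mul π A (hker.le.trans htA')
    rw [hker, hcardt, hA8] at h1
    rw [hB]; omega
  have hB2 : ∀ b ∈ B, b * b = 1 := by
    rintro _ ⟨a, ha, rfl⟩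
    rw [← map_mul, ← pow_two, hAp a ha, map_one]
  have hBcomm : ∀ x ∈ B, ∀ y ∈ B, x * y = y * x := by
    rintro _ ⟨a, ha, rfl⟩ _ ⟨c, hc, rfl⟩
    rw [← map_mul, ← map_mul, show a * c = c * a from
      congrArg Subtype.val (hAc.is_comm.comm ⟨a, ha⟩ ⟨c, hc⟩)]
  refine le_antisymm (fun r hr => ?_) (fun a ha => Subgroup.mem_centralizer_iff.2
    fun b hb => congrArg Subtype.val (hAc.is_comm.comm ⟨b, hb⟩ ⟨a, ha⟩))
  obtain ⟨s, hsB, hs4⟩ : ∃ s ∈ B, Nat.card (Subgroup.centralizer ({s} : Set (R ⧸ Subgroup.zpowers t))) ≤ 4 := by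
    rcases hq with ⟨m, hm, ⟨e⟩⟩ | hq
    · exact exists_small_dihedral m hm e B hB4 hB2 hBcomm
    · exact exists_small_quasiDihedral hq B hB4 hB2
  have hBC : B ≤ Subgroup.centralizer ({s} : Set (R ⧸ Subgroup.zpowers t)) := by
    intro y hy
    rw [Subgroup.mem_centralizer_singleton_iff]
    first | exact hBcomm _ hsB _ hy | exact hBcomm _ hy _ hsB
  have hBeq := Subgroup.eq_of_le_of_card_ge hBC (hs4.trans hB4.ge)
  have hπr : π r ∈ B := by
    rw [hBeq, Subgroup.mem_centralizer_singleton_iff]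
    obtain ⟨a, ha, rfl⟩ := hsB
    have := congrArg π (Subgroup.mem_centralizer_iff.1 hr a ha)
    rw [map_mul, map_mul] at this
    first | exact this | exact this.symm
  obtain ⟨a, ha, har⟩ := hπr
  have : a⁻¹ * r ∈ Subgroup.zpowers t := by
    rw [← hker, MonoidHom.mem_ker, map_mul, map_inv, har, inv_mul_cancel]
  simpa using mul_mem ha (htA' this)

end Cfsg.Agent.S1236
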