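import Cfsg.Statements.S1239
import Cfsg.Agent.Lib.ZStar.Consequences
import Cfsg.Agent.Lib.ZStar.StronglyClosed
import Cfsg.Agent.Lib.TwoGroups.NoIndexTwo


set_option autoImplicit false
open Cfsg

namespace Cfsg.Agent.S1239

/-- Let X be a finite group whose Sylow 2-subgroup S is quasi-dihedral or wreathed, and suppose some involution of S is isolated in X. Then the product of the largest normal odd-order subgroup O(X) with the centre of S is normal in X. -/
theorem result {X : Type*} [Group X] [Finite X] (S : Sylow 2 X) (hS : Cfsg.IsQuasiDihedral (S : Subgroup X) ∨ Cfsg.IsWreathed (S : Subgroup X)) (z : X) (hzS : z ∈ S) (hz : Cfsg.IsIsolatedInvolution z) : (Cfsg.oddCore X ⊔ (Subgroup.center (S : Subgroup X)).map (S : Subgroup X).subtype).Normal := by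
  set O := Cfsg.oddCore X with hO
  have hOn : O.Normal := by rw [hO]; unfold Cfsg.oddCore; infer_instance
  have hiz := Lib.ZStar.Consequences.isolatedIn_of_involution hz S hzS
  have hzc : (⟨z, hzS⟩ : (S : Subgroup X)) ∈ Subgroup.center (S : Subgroup X) :=
    Subgroup.mem_center_iff.2 fun s => Subtype.ext (hiz.commute s.2).eq
  have hz2 : orderOf (⟨z, hzS⟩ : (S : Subgroup X)) = 2 := by rw [Subgroup.orderOf_mk, hz.1]
  have key : ∀ ζ ∈ (Subgroup.center (S : Subgroup X)).map (S : Subgroup X).subtype, ∀ g : X,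
      g * ζ * g⁻¹ ∈ (S : Subgroup X) → g * ζ * g⁻¹ = ζ := by
    intro ζ hζ g hg
    rcases hS with hS | hS
    · obtain ⟨k, a, b, D⟩ := Lib.TwoGroups.QuasiDihedral.exists_QD hS
      obtain ⟨c, hc, rfl⟩ := hζ
      have hcard := Lib.TwoGroups.QuasiDihedral.card_center D
      have hle : Subgroup.zpowers (⟨z, hzS⟩ : (S : Subgroup X)) = Subgroup.center (S : Subgroup X) :=
        Subgroup.eq_of_le_of_card_ge (Subgroup.zpowers_le.2 hzc)
          (by rw [hcard, Nat.card_zpowers, hz2])
      rw [← hle] at hc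
      obtain ⟨i, hi⟩ := hc
      change g * (c : X) * g⁻¹ ∈ _ at hg
      change g * (c : X) * g⁻¹ = (c : X)
      have hi' : z ^ i = (c : X) := congrArg Subtype.val hi
      rcases Int.even_or_odd i with ⟨j, hj⟩ | ⟨j, hj⟩
      · have : (c : X) = 1 := by
          rw [← hi', hj, ← two_mul, zpow_mul, zpow_two, ← sq, ← hz.1, pow_orderOf_eq_one, one_zpow]
        rw [this]; group
      · have : (c : X) = z := by
          rw [← hi', hj, zpow_add, zpow_mul, zpow_two, ← sq, ← hz.1, pow_orderOf_eq_one, one_zpow,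
            one_mul, zpow_one]
        rw [this] at hg ⊢
        exact hiz.2 g hg
    · obtain ⟨k, a, b, w, D⟩ := Lib.TwoGroups.Wreathed.exists_data hS
      refine Lib.TwoGroups.WreathedFusion.center_isolated D
        (Lib.TwoGroups.WreathedLocal.actsLike_base D
          ((Lib.TwoGroups.WreathedLocal.base_relIndex D).resolve_right fun h6 => ?_)) hζ hg
      have hzz : (⟨z, hzS⟩ : (S : Subgroup X)) =
          Lib.TwoGroups.Wreathed.el k a b (Lib.TwoGroups.Wreathed.half k) (Lib.TwoGroups.Wreathed.half k) := by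
        have hmem := hzc
        rw [D.center_eq] at hmem
        have hmem' := D.diag_mem_center (Lib.TwoGroups.Wreathed.half k)
        rw [D.center_eq] at hmem'
        have hζo := Lib.TwoGroups.WreathedFusion.orderOf_zeta D
        rw [Subgroup.orderOf_coe] at hζo
        rw [(Lib.Involutions.Basic.invol_unique_zpowers hz2 hmem).2,
          (Lib.Involutions.Basic.invol_unique_zpowers hζo hmem').2]
      obtain ⟨n, hn⟩ := isConj_iff.1 (Lib.TwoGroups.WreathedFusion.isConj_zeta_tau D h6)
      rw [← hzz] at hn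
      have h := hiz.2 n (by rw [hn]; exact SetLike.coe_mem _)
      rw [hn] at h
      exact Lib.TwoGroups.WreathedFusion.e_half_ne D (Subtype.ext h |>.trans hzz)
  have hcore : ∀ ζ ∈ (Subgroup.center (S : Subgroup X)).map (S : Subgroup X).subtype, ∀ g : X,
      ζ * g * ζ⁻¹ * g⁻¹ ∈ O := fun ζ hζ g =>
    Lib.ZStar.Elements.commutator_mem_oddCore Lib.ZStar.StronglyClosed.involutionThm _ X S ζ rfl
      ⟨Subgroup.map_subtype_le _ hζ, key ζ hζ⟩ g
  refine ⟨fun n hn g => ?_⟩
  obtain ⟨o, ho, ζ, hζ, rfl⟩ := Subgroup.mem_sup_of_normal_left.1 hn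
  have e : g * (o * ζ) * g⁻¹ = g * o * g⁻¹ * (ζ * g * ζ⁻¹ * g⁻¹)⁻¹ * ζ := by group
  rw [e]
  exact mul_mem (Subgroup.mem_sup_left (mul_mem (hOn.conj_mem o ho g) (inv_mem (hcore ζ hζ g))))
    (Subgroup.mem_sup_right hζ)

end Cfsg.Agent.S1239
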