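import Cfsg.Statements.S1242
import Mathlib
import Cfsg.Agent.Lib.Fusion.Thompson

set_option autoImplicit false
open Cfsg
open scoped commutatorElement

namespace Cfsg.Agent.S1242

/-- Let G be a finite group, p a prime and H a subgroup of index prime to p such that any two elements of H of p-power order that are conjugate in G are conjugate in H. Then (O^p(G)·G') ∩ H = O^p(H)·H', where O^p denotes the subgroup generated by the elements of order prime to p. -/
theorem result {G : Type*} [Group G] [Finite G] {p : ℕ} [Fact p.Prime] (H : Subgroup G) (hidx : Nat.Coprime p H.index) (hfus : ∀ g ∈ H, (∃ k : ℕ, orderOf g = p ^ k) → ∀ a : G, a * g * a⁻¹ ∈ H → ∃ h ∈ H, h * g * h⁻¹ = a * g * a⁻¹) : (Cfsg.pResidual p G ⊔ commutator G) ⊓ H = (Cfsg.pResidual p ↥H ⊔ commutator ↥H).map H.subtype := by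
  set K := Cfsg.pResidual p ↥H ⊔ commutator ↥H with hK
  have hKn : K.Normal :=
    ⟨fun n hn g => by
      have h1 : g * n * g⁻¹ * n⁻¹ ∈ K :=
        Subgroup.mem_sup_right (Subgroup.commutator_mem_commutator (Subgroup.mem_top g) (Subgroup.mem_top n))
      simpa using K.mul_mem h1 hn⟩
  let A : CommGroup (H ⧸ K) :=
    { (inferInstance : Group (H ⧸ K)) with
      mul_comm := fun a b => by
        induction a using QuotientGroup.induction_on with
        | H x =>
          induction b using QuotientGroup.induction_on with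
          | H y =>
            rw [← QuotientGroup.mk_mul, ← QuotientGroup.mk_mul, QuotientGroup.eq]
            have h1 : ⁅y⁻¹, x⁻¹⁆ ∈ K := Subgroup.mem_sup_right
              (Subgroup.commutator_mem_commutator (Subgroup.mem_top _) (Subgroup.mem_top _))
            simpa [commutatorElement_def, mul_assoc] using h1 }
  apply le_antisymm
  · intro x hx
    obtain ⟨hx1, hxH⟩ := Subgroup.mem_inf.1 hx
    rw [Subgroup.mem_map]
    refine ⟨⟨x, hxH⟩, ?_, rfl⟩
    let φ : H →* H ⧸ K := QuotientGroup.mk' K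
    obtain ⟨a, b, hpb, hab⟩ := Nat.exists_eq_pow_mul_and_not_dvd (orderOf_pos x).ne' p
      (Fact.out : p.Prime).ne_one
    have hb : Nat.Coprime b p := ((Fact.out : p.Prime).coprime_iff_not_dvd.2 hpb).symm
    -- the `p`-part
    set y := x ^ b with hy
    have hyH : y ∈ H := pow_mem hxH b
    have hyp : orderOf y ∣ p ^ a := orderOf_dvd_of_pow_eq_one (by
      rw [hy, ← pow_mul, mul_comm, ← hab, pow_orderOf_eq_one])
    obtain ⟨a', -, hya⟩ := (Nat.dvd_prime_pow (Fact.out : p.Prime)).1 hyp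
    have hc : ∀ (m : ℕ) (g : G) (h : g * y ^ m * g⁻¹ ∈ H),
        φ ⟨g * y ^ m * g⁻¹, h⟩ = φ ⟨y, hyH⟩ ^ m := by
      intro m g h
      obtain ⟨k, hk⟩ : ∃ k, orderOf (y ^ m) = p ^ k := by
        obtain ⟨k, -, hk⟩ := (Nat.dvd_prime_pow (Fact.out : p.Prime)).1
          ((hya ▸ orderOf_pow_dvd m : orderOf (y ^ m) ∣ p ^ a'))
        exact ⟨k, hk⟩
      obtain ⟨c, hc, hce⟩ := hfus (y ^ m) (pow_mem hyH m) ⟨k, hk⟩ g h
      have : (⟨g * y ^ m * g⁻¹, h⟩ : H) = ⟨c, hc⟩ * ⟨y, hyH⟩ ^ m * (⟨c, hc⟩ : H)⁻¹ :=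
        Subtype.ext hce.symm
      rw [this, map_mul, map_mul, map_inv, map_pow, mul_comm (φ ⟨c, hc⟩), mul_inv_cancel_right]
    have h2 := Cfsg.Agent.Lib.Fusion.Thompson.transfer_controlled φ y hyH hc
    have hpord : ∀ z : H ⧸ K, ∀ n : ℕ, Nat.Coprime n p → z ^ n = 1 → z = 1 := by
      intro z n hn hz
      induction z using QuotientGroup.induction_on with
      | H w =>
        obtain ⟨a₁, b₁, hp₁, hab₁⟩ := Nat.exists_eq_pow_mul_and_not_dvd (orderOf_pos w).ne' p
          (Fact.out : p.Prime).ne_one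
        have h1 : φ w ^ (p ^ a₁) = 1 := by
          rw [← map_pow]
          refine (QuotientGroup.eq_one_iff _).2 (Subgroup.mem_sup_left (Subgroup.subset_closure ?_))
          refine Nat.Coprime.coprime_dvd_left (orderOf_dvd_of_pow_eq_one (x := w ^ p ^ a₁) (n := b₁) ?_)
            ((Fact.out : p.Prime).coprime_iff_not_dvd.2 hp₁).symm
          rw [← pow_mul, ← hab₁, pow_orderOf_eq_one]
        exact orderOf_eq_one_iff.1 (Nat.Coprime.eq_one_of_dvd
          (Nat.Coprime.coprime_dvd_left (orderOf_dvd_of_pow_eq_one hz) (hn.pow_right a₁))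
          (orderOf_dvd_of_pow_eq_one h1))
    have h3 : MonoidHom.transfer φ y = 1 := by
      have hker : Cfsg.pResidual p G ⊔ commutator G ≤ (MonoidHom.transfer φ).ker := by
        refine sup_le ((Subgroup.closure_le _).2 fun g hg => ?_)
          (Abelianization.commutator_subset_ker _)
        exact hpord _ _ hg (by rw [← map_pow, pow_orderOf_eq_one, map_one])
      exact hker (pow_mem hx1 b)
    rw [h3] at h2
    have h4 : φ ⟨y, hyH⟩ = 1 := hpord _ _ hidx.symm h2.symm
    have hyK : (⟨x, hxH⟩ : H) ^ b ∈ K := (QuotientGroup.eq_one_iff _).1 h4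
    have hzK : (⟨x, hxH⟩ : H) ^ (p ^ a) ∈ K := by
      refine Subgroup.mem_sup_left (Subgroup.subset_closure ?_)
      refine Nat.Coprime.coprime_dvd_left (orderOf_dvd_of_pow_eq_one ?_) hb
      apply Subtype.ext
      simp only [SubmonoidClass.coe_pow, OneMemClass.coe_one]
      rw [← pow_mul, ← hab, pow_orderOf_eq_one]
    have hg := Nat.gcd_eq_gcd_ab b (p ^ a)
    rw [hb.pow_right a, Nat.cast_one] at hg
    have : (⟨x, hxH⟩ : H) = ((⟨x, hxH⟩ : H) ^ b) ^ Nat.gcdA b (p ^ a) *
        ((⟨x, hxH⟩ : H) ^ (p ^ a)) ^ Nat.gcdB b (p ^ a) := by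
      rw [← zpow_natCast, ← zpow_natCast, ← zpow_mul, ← zpow_mul, ← zpow_add, ← hg, zpow_one]
    rw [this]
    exact mul_mem (zpow_mem hyK _) (zpow_mem hzK _)
  · refine le_inf ?_ (Subgroup.map_subtype_le _)
    rw [hK, Subgroup.map_sup]
    refine sup_le_sup ?_ ?_
    · rw [Cfsg.pResidual, MonoidHom.map_closure, Subgroup.closure_le]
      rintro _ ⟨g, hg, rfl⟩
      exact Subgroup.subset_closure (by simpa [Subgroup.orderOf_coe] using hg)
    · rw [commutator_def, Subgroup.map_commutator, commutator_def]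
      exact Subgroup.commutator_mono le_top le_top

end Cfsg.Agent.S1242
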