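import Cfsg.Statements.S1246
import Cfsg.Agent.Lib.CharP.Basic
import Cfsg.Agent.Lib.Balance.Locals
import Cfsg.Agent.Lib.Fusion.Alperin

set_option autoImplicit false
open Cfsg

namespace Cfsg.Agent.S1246

open Cfsg.Agent.Lib

variable {G : Type*} [Group G] [Finite G] {p : ℕ} [Fact p.Prime]

/-- `F*` is a `p`-group exactly when the group has characteristic `p`. -/
theorem charP_iff_isPGroup {H : Type*} [Group H] [Finite H] :
    IsPGroup p ↥(Cfsg.generalizedFittingSubgroup H) ↔
      Subgroup.centralizer (Cfsg.pCore p H : Set H) ≤ Cfsg.pCore p H := by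
  constructor
  · intro h
    have hle : Cfsg.generalizedFittingSubgroup H ≤ Cfsg.pCore p H := Cores.le_pCore h
    exact (Subgroup.centralizer_le hle).trans (Components.GenFitting.centralizer_le.trans hle)
  · intro h
    rw [Balance.centralizer_pCore_le_iff.1 h]
    exact Cores.pCore_isPGroup p

/-- Characteristic `p` passes from `C(V)` to `C(B)` when `B` normalizes `V`. -/
theorem step {V B : Subgroup G} (hB : IsPGroup p B) (hVB : V ≤ B)
    (hBV : B ≤ Subgroup.normalizer (V : Set G))
    (hV : Subgroup.centralizer (Cfsg.pCore p ↥(Subgroup.centralizer (V : Set G)) :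
      Set ↥(Subgroup.centralizer (V : Set G))) ≤ Cfsg.pCore p ↥(Subgroup.centralizer (V : Set G))) :
    Subgroup.centralizer (Cfsg.pCore p ↥(Subgroup.centralizer (B : Set G)) :
      Set ↥(Subgroup.centralizer (B : Set G))) ≤ Cfsg.pCore p ↥(Subgroup.centralizer (B : Set G)) := by
  set L := Subgroup.centralizer (V : Set G) with hL
  set K := Subgroup.centralizer (B : Set G) with hK
  have hKL : K ≤ L := Subgroup.centralizer_le hVB
  have hBL : B ≤ Subgroup.normalizer (L : Set G) := by
    intro b hb
    apply Fusion.Alperin.mem_normalizer_of_conjS_eq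
    have hbV := Fusion.Alperin.conjS_eq_of_mem_normalizer (hBV hb)
    refine Subgroup.eq_of_le_of_card_ge (fun x hx => ?_) (Fusion.Alperin.card_conjS b L).ge
    rw [Fusion.Alperin.mem_conjS] at hx
    rw [hL, Subgroup.mem_centralizer_iff] at hx ⊢
    intro v hv
    have hv' : b⁻¹ * v * b ∈ V := Fusion.Alperin.mem_conjS.1 (hbV.symm ▸ hv)
    have := congrArg (fun z => b * z * b⁻¹) (hx _ hv')
    simpa [mul_assoc] using this
  have hBO : B ≤ Subgroup.normalizer (Cfsg.pCoreOf p L : Set G) := by
    intro b hb
    rw [Subgroup.mem_normalizer_iff_map_conj_eq]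
    have hLb : L.map (MulAut.conj b).toMonoidHom = L :=
      Subgroup.mem_normalizer_iff_map_conj_eq.1 (hBL hb)
    refine Subgroup.eq_of_le_of_card_ge
      (CharP.le_pCoreOf ((CharP.isPGroup_pCoreOf p L).map _) ?_ ?_)
      (Subgroup.card_map_of_injective (MulAut.conj b).injective).ge
    · exact (Subgroup.map_mono (CharP.pCoreOf_le p L)).trans hLb.le
    · conv_lhs => rw [← hLb]
      exact (Subgroup.map_mono (CharP.le_normalizer_pCoreOf p L)).trans
        (Subgroup.le_normalizer_map _)
  refine CharP.charP_of_coprime fun x hxK hx hc => ?_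
  refine CharP.eq_one_of_charP hV (hKL hxK) hx ?_
  refine CharP.commute_of_axb hB hx (fun b hb => (Subgroup.mem_centralizer_iff.1 hxK b hb).symm)
    (CharP.isPGroup_pCoreOf p L) hBO (CharP.le_normalizer_pCoreOf p L (hKL hxK)) fun u hu hub => hc u ?_
  refine CharP.le_pCoreOf ((CharP.isPGroup_pCoreOf p L).to_le inf_le_left)
    (N := Cfsg.pCoreOf p L ⊓ K) inf_le_right ?_
    ⟨hu, Subgroup.mem_centralizer_iff.2 fun b hb => (hub b hb).eq.symm⟩
  exact le_trans (le_inf (hKL.trans (CharP.le_normalizer_pCoreOf p L)) Subgroup.le_normalizer)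
    Subgroup.inf_normalizer_le_normalizer_inf

/-- Let V ≤ U be p-subgroups of the finite group G. If the generalized Fitting subgroup of C_G(V) is a p-group, then so is that of C_G(U). -/
theorem result {G : Type*} [Group G] [Finite G] {p : ℕ} [Fact p.Prime] (U V : Subgroup G) (hVU : V ≤ U) (hU : IsPGroup p U) (hV : IsPGroup p ↥(Cfsg.generalizedFittingSubgroup ↥(Subgroup.centralizer (V : Set G)))) : IsPGroup p ↥(Cfsg.generalizedFittingSubgroup ↥(Subgroup.centralizer (U : Set G))) := by
  rw [charP_iff_isPGroup] at hV ⊢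
  induction hd : Nat.card U - Nat.card V using Nat.strong_induction_on generalizing V with
  | _ d ih =>
    subst hd
    rcases eq_or_lt_of_le hVU with rfl | hlt
    · exact hV
    have hgrow := Fusion.Alperin.lt_inf_normalizer hU hlt
    refine ih _ ?_ (U ⊓ Subgroup.normalizer (V : Set G)) inf_le_left
      (step (hU.to_le inf_le_left) hgrow.le inf_le_right hV) rfl
    have h1 : Nat.card V < Nat.card ↥(U ⊓ Subgroup.normalizer (V : Set G)) :=
      lt_of_le_of_ne (Subgroup.card_le_of_le hgrow.le)
        fun h => hgrow.ne (Subgroup.eq_of_le_of_card_ge hgrow.le h.ge)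
    have h2 := Subgroup.card_le_of_le (inf_le_left (a := U) (b := Subgroup.normalizer (V : Set G)))
    omega

end Cfsg.Agent.S1246
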