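import Cfsg.Statements.S1247
import Cfsg.Agent.Lib.Components.GenFitting
import Cfsg.Agent.Lib.Classif.PTimesQ

set_option autoImplicit false
open Cfsg

namespace Cfsg.Agent.S1247

open Subgroup
open scoped commutatorElement
open Cfsg.Agent.Lib Cfsg.Agent.Lib.Components

section Inner

variable {A : Type*} [Group A] [Finite A]

/-- An element of a `p`-group and of a `q`-group, `p ≠ q`, is trivial. -/
theorem eq_one_of_pq {H K : Subgroup A} {p q : ℕ} [Fact p.Prime] [Fact q.Prime] (hne : p ≠ q)
    (hH : IsPGroup p H) (hK : IsPGroup q K) {x : A} (hxH : x ∈ H) (hxK : x ∈ K) : x = 1 :=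
  disjoint_def.1 (IsPGroup.disjoint_of_ne p q hne H K hH hK) hxH hxK

/-- An element of order prime to `p` lies in a normal subgroup if the quotient image is a
`p`-element. -/
theorem mem_of_coprime {L R : Subgroup A} [L.Normal] [R.Normal] {p : ℕ} (hR : IsPGroup p R)
    {y : A} (hy : y ∈ L ⊔ R) (ho : (orderOf y).Coprime p) : y ∈ L := by
  obtain ⟨l, hl, r, hr, rfl⟩ := mem_sup_of_normal_right.1 hy
  obtain ⟨k, hk⟩ := hR ⟨r, hr⟩
  have hk' : r ^ p ^ k = 1 := by simpa using congrArg Subtype.val hk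
  have e : ((l * r : A) : A ⧸ L) = (r : A ⧸ L) := by
    rw [QuotientGroup.mk_mul, (QuotientGroup.eq_one_iff l).2 hl, one_mul]
  rw [← QuotientGroup.eq_one_iff, ← orderOf_eq_one_iff]
  refine Nat.eq_one_of_dvd_coprimes (ho.pow_right k) ?_ ?_
  · exact orderOf_map_dvd (QuotientGroup.mk' L) _
  · rw [e]
    refine orderOf_dvd_of_pow_eq_one ?_
    rw [← QuotientGroup.mk_pow, hk', QuotientGroup.mk_one]

/-- `F ≤ O_{p'} O_p`. -/
theorem fitting_le_sup (p : ℕ) [hp : Fact p.Prime] :
    fittingSubgroup A ≤ pPrimeCore p A ⊔ pCore p A := by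
  rw [Cores.fittingSubgroup_eq_iSup_pCore]
  refine iSup_le fun q => ?_
  by_cases hq : (q : ℕ) = p
  · rw [hq]; exact le_sup_right
  · haveI : Fact (q : ℕ).Prime := ⟨q.2⟩
    refine le_trans (Cores.le_pPrimeCore_of_not_dvd fun hd => hq ?_) le_sup_left
    obtain ⟨n, hn⟩ := IsPGroup.iff_card.1 (Cores.pCore_isPGroup (G := A) (q : ℕ))
    rw [hn] at hd
    exact ((Nat.prime_dvd_prime_iff_eq hp.out q.2).1 (hp.out.dvd_of_dvd_pow hd)).symm

theorem pCore_ne_bot {p : ℕ} [Fact p.Prime] (h : p ∣ Nat.card (fittingSubgroup A)) :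
    pCore p A ≠ ⊥ := by
  intro h0
  have h1 := fitting_le_sup (A := A) p
  rw [h0, sup_bot_eq] at h1
  exact Cores.not_dvd_card_pPrimeCore p (h.trans (card_dvd_of_le h1))

theorem layer_commute {e f : A} (he : e ∈ layer A) (hf : f ∈ fittingSubgroup A) :
    e * f = f * e :=
  ((mem_centralizer_iff.1 (Layer.fitting_le_centralizer_layer hf)) e he)

/-- The centre of `O_p` is centralised by `F*`. -/
theorem centralizes_fstar {p : ℕ} [Fact p.Prime] :
    pCore p A ⊓ centralizer (pCore p A : Set A) ≤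
      centralizer (generalizedFittingSubgroup A : Set A) := by
  intro z hz
  rw [mem_centralizer_iff]
  suffices h : generalizedFittingSubgroup A ≤ centralizer ({z} : Set A) from
    fun y hy => mem_centralizer_singleton_iff.1 (h hy)
  refine sup_le (fun e he => mem_centralizer_singleton_iff.2
    (layer_commute he (Cores.pCore_le_fittingSubgroup p hz.1))) ?_
  rw [Cores.fittingSubgroup_eq_iSup_pCore]
  refine iSup_le fun q => fun y hy => mem_centralizer_singleton_iff.2 ?_
  by_cases hq : (q : ℕ) = p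
  · exact mem_centralizer_iff.1 hz.2 y (hq ▸ hy)
  · haveI : Fact (q : ℕ).Prime := ⟨q.2⟩
    exact (Subgroup.commute_of_normal_of_disjoint _ _ inferInstance inferInstance
      (IsPGroup.disjoint_of_ne (q : ℕ) p hq _ _ (Cores.pCore_isPGroup _) (Cores.pCore_isPGroup _))
      y z hy hz.1)

variable {S : Subgroup A} (hSF : S ≤ generalizedFittingSubgroup A) (hsn : S.IsSubnormal)
  (hC : generalizedFittingSubgroup A ⊓ centralizer (S : Set A) ≤ S)
include hSF hsn hC

theorem layer_le : layer A ≤ S := by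
  unfold layer
  refine sSup_le fun K hK => ?_
  have hK' : IsComponent K := hK
  rcases Component.le_or_commutator_eq_bot hK' hsn with h | h
  · exact h
  have h1 : K ≤ centralizer (S : Set A) := Subgroup.le_centralizer_iff.1 (Subgroup.commutator_eq_bot_iff_le_centralizer.1 h)
  have h2 : K ≤ generalizedFittingSubgroup A :=
    le_trans (Layer.component_le_layer hK') GenFitting.layer_le_generalizedFitting
  exact le_trans (le_inf h2 h1) hC

omit hsn in
theorem center_pCore_le {p : ℕ} [Fact p.Prime] :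
    pCore p A ⊓ centralizer (pCore p A : Set A) ≤ S := fun z hz =>
  hC ⟨(Cores.pCore_le_fittingSubgroup p).trans le_sup_right hz.1,
    centralizer_le hSF (centralizes_fstar hz)⟩

/-- A `p`-subgroup normalised by `S` centralises `E` and the other cores. -/
theorem normal_le_centralizer {p : ℕ} [Fact p.Prime] {X : Subgroup A} (hX : IsPGroup p X)
    (hSX : S ≤ normalizer (X : Set A)) :
    layer A ≤ centralizer (X : Set A) ∧
      ∀ q : ℕ, q.Prime → q ≠ p → pCore q A ≤ centralizer (X : Set A) := by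
  set E := layer A with hE
  have hES : E ≤ S := layer_le hSF hsn hC
  have hconj : ∀ s ∈ S, ∀ x ∈ X, s * x * s⁻¹ ∈ X := fun s hs x hx =>
    (mem_normalizer_iff.1 (hSX hs) x).1 hx
  have hEX : E ≤ centralizer (X : Set A) := by
    refine Subgroup.le_centralizer_iff.1 (Subgroup.commutator_eq_bot_iff_le_centralizer.1 ?_)
    refine commutator_eq_bot_of_perfect (K := E) (M := X) Layer.commutator_layer_self ?_
    have h1 : ⁅X, E⁆ ≤ X ⊓ E := commutator_le.2 fun x hx e he => by
      rw [commutatorElement_def]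
      refine ⟨?_, E.mul_mem ((inferInstance : E.Normal).conj_mem e he x) (E.inv_mem he)⟩
      have := X.mul_mem hx (hconj e (hES he) _ (X.inv_mem hx))
      rwa [show x * (e * x⁻¹ * e⁻¹) = x * e * x⁻¹ * e⁻¹ by group] at this
    have h2 : X ⊓ E ≤ fittingSubgroup A := by
      have hn : ((X ⊓ E).subgroupOf E).Normal := ⟨fun a ha e => by
        rw [mem_subgroupOf] at ha ⊢
        exact ⟨hconj e (hES e.2) _ ha.1, E.mul_mem (E.mul_mem e.2 ha.2) (E.inv_mem e.2)⟩⟩
      refine (Cores.IsSubnormal.le_pCore ?_ hX.to_inf_left).trans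
        (Cores.pCore_le_fittingSubgroup p)
      exact Subgroup.IsSubnormal.trans inf_le_right (Subgroup.Normal.isSubnormal hn)
        (Subgroup.Normal.isSubnormal inferInstance)
    rw [eq_bot_iff]
    refine (commutator_mono (h1.trans h2) le_rfl).trans ?_
    rw [Subgroup.commutator_comm, Layer.commutator_layer_fitting]
  refine ⟨hEX, fun q hq hqp y hy => mem_centralizer_iff.2 fun x hx => ?_⟩
  haveI : Fact q.Prime := ⟨hq⟩
  set R := pCore q A with hR
  have hxT : ∀ t ∈ S ⊓ R, x * t = t * x := by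
    intro t ht
    have h1 : x * t * x⁻¹ * t⁻¹ = 1 := by
      refine eq_one_of_pq hqp.symm hX (Cores.pCore_isPGroup (G := A) q) ?_ ?_
      · have := X.mul_mem hx (hconj t ht.1 _ (X.inv_mem hx))
        rwa [show x * (t * x⁻¹ * t⁻¹) = x * t * x⁻¹ * t⁻¹ by group] at this
      · exact R.mul_mem ((inferInstance : R.Normal).conj_mem t ht.2 x) (R.inv_mem ht.2)
    rwa [mul_inv_eq_one, mul_inv_eq_iff_eq_mul] at h1
  obtain ⟨k, hk⟩ := hX ⟨x, hx⟩
  refine Classif.pTimesQ R (S ⊓ R) x (Cores.pCore_isPGroup q)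
    (Cores.pCore_isPGroup q).to_inf_right (fun t _ => by rw [normalizer_eq_top R]; trivial)
    (fun r hr => (inferInstance : R.Normal).conj_mem r hr x) ?_ hxT (fun r hr hfix => ?_) y hy
  · refine Nat.Coprime.coprime_dvd_left (orderOf_dvd_of_pow_eq_one ?_)
      (((Nat.coprime_primes Fact.out hq).2 hqp.symm).pow_left k)
    simpa using congrArg Subtype.val hk
  · refine hxT r ⟨hC ⟨((Cores.pCore_le_fittingSubgroup q).trans le_sup_right) hr,
      mem_centralizer_iff.2 fun s hs => ?_⟩, hr⟩
    obtain ⟨e, he, f, hf, rfl⟩ := mem_sup_of_normal_left.1 (hSF hs)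
    have hfS : f ∈ S := by simpa using S.mul_mem (S.inv_mem (hES he)) hs
    obtain ⟨b, hb, a, ha, rfl⟩ := mem_sup_of_normal_left.1 (fitting_le_sup q hf)
    have hco : (orderOf b).Coprime (orderOf a) := by
      obtain ⟨j, hj⟩ := Cores.pCore_isPGroup (G := A) q ⟨a, ha⟩
      refine Nat.Coprime.coprime_dvd_right (orderOf_dvd_of_pow_eq_one
        (by simpa using congrArg Subtype.val hj : a ^ q ^ j = 1)) (Nat.Coprime.pow_right j ?_)
      exact (Cores.pPrimeCore_coprime q).coprime_dvd_left
        ((pPrimeCore q A).orderOf_dvd_natCard hb)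
    have hdis : Disjoint (pPrimeCore q A) R := by
      rw [disjoint_def]
      intro z hz hz'
      obtain ⟨j, hj⟩ := Cores.pCore_isPGroup (G := A) q ⟨z, hz'⟩
      rw [← orderOf_eq_one_iff]
      exact Nat.eq_one_of_dvd_coprimes ((Cores.pPrimeCore_coprime q).pow_right j)
        ((pPrimeCore q A).orderOf_dvd_natCard hz)
        (orderOf_dvd_of_pow_eq_one (by simpa using congrArg Subtype.val hj))
    have hba : Commute b a :=
      Subgroup.commute_of_normal_of_disjoint _ _ inferInstance inferInstance hdis b a hb ha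
    have haS : a ∈ S := by
      obtain ⟨m, hm1, hm2⟩ := Nat.chineseRemainder hco 0 1
      have e2 : (b * a) ^ m = a := by
        rw [hba.mul_pow, orderOf_dvd_iff_pow_eq_one.1 (Nat.modEq_zero_iff_dvd.1 hm1), one_mul]
        conv_rhs => rw [← pow_one a]
        exact pow_eq_pow_iff_modEq.2 hm2
      exact e2 ▸ pow_mem hfS m
    have c1 : Commute e r := layer_commute he (Cores.pCore_le_fittingSubgroup q hr)
    have c2 : Commute b r :=
      Subgroup.commute_of_normal_of_disjoint _ _ inferInstance inferInstance hdis b r hb hr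
    have c3 : Commute a r := hfix a ⟨haS, ha⟩
    exact (c1.mul_left (c2.mul_left c3)).eq

/-- A `p`-subgroup normalised by `S` centralises the elements of `F*` of order prime to `p`. -/
theorem commute_coprime {p : ℕ} [Fact p.Prime] {X : Subgroup A} (hX : IsPGroup p X)
    (hSX : S ≤ normalizer (X : Set A)) {y : A} (hy : y ∈ generalizedFittingSubgroup A)
    (ho : (orderOf y).Coprime p) : ∀ x ∈ X, x * y = y * x := by
  obtain ⟨hE, hQ⟩ := normal_le_centralizer hSF hsn hC hX hSX
  have hle : generalizedFittingSubgroup A ≤ (centralizer (X : Set A)).normalCore ⊔ pCore p A := by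
    refine sup_le ((normal_le_normalCore.2 hE).trans le_sup_left) ?_
    rw [Cores.fittingSubgroup_eq_iSup_pCore]
    refine iSup_le fun q => ?_
    by_cases hq : (q : ℕ) = p
    · rw [hq]; exact le_sup_right
    · exact (normal_le_normalCore.2 (hQ q q.2 hq)).trans le_sup_left
  have := normalCore_le _ (mem_of_coprime (Cores.pCore_isPGroup p) (hle hy) ho)
  exact fun x hx => mem_centralizer_iff.1 this x hx

/-- If `p` does not divide `|F|`, such a subgroup is trivial. -/
theorem eq_bot_of_not_dvd {p : ℕ} [Fact p.Prime] {X : Subgroup A} (hX : IsPGroup p X)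
    (hSX : S ≤ normalizer (X : Set A)) (hp : ¬ p ∣ Nat.card (fittingSubgroup A)) : X = ⊥ := by
  obtain ⟨hE, hQ⟩ := normal_le_centralizer hSF hsn hC hX hSX
  have hdis : ∀ x ∈ fittingSubgroup A, ∀ k, x ^ p ^ k = 1 → x = 1 := fun x hx k hk =>
    orderOf_eq_one_iff.1 (Nat.eq_one_of_dvd_coprimes
      ((((Fact.out : p.Prime).coprime_iff_not_dvd).2 hp).symm.pow_right k)
      ((fittingSubgroup A).orderOf_dvd_natCard hx) (orderOf_dvd_of_pow_eq_one hk))
  have hle : generalizedFittingSubgroup A ≤ centralizer (X : Set A) := by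
    refine sup_le hE ?_
    rw [Cores.fittingSubgroup_eq_iSup_pCore]
    refine iSup_le fun q => ?_
    by_cases hq : (q : ℕ) = p
    · rw [hq]
      refine le_of_eq_of_le ((eq_bot_iff_forall _).2 fun x hx => ?_) bot_le
      obtain ⟨k, hk⟩ := Cores.pCore_isPGroup (G := A) p ⟨x, hx⟩
      exact hdis x (Cores.pCore_le_fittingSubgroup p hx) k (by simpa using congrArg Subtype.val hk)
    · exact hQ q q.2 hq
  rw [Subgroup.le_centralizer_iff] at hle
  have hXF : X ≤ generalizedFittingSubgroup A ⊓ centralizer (generalizedFittingSubgroup A : Set A) :=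
    le_inf (hle.trans GenFitting.centralizer_le) hle
  have hZ : generalizedFittingSubgroup A ⊓ centralizer (generalizedFittingSubgroup A : Set A) ≤
      fittingSubgroup A := by
    haveI : IsMulCommutative ↥(generalizedFittingSubgroup A ⊓
        centralizer (generalizedFittingSubgroup A : Set A)) :=
      ⟨⟨fun a b => Subtype.ext (mem_centralizer_iff.1 b.2.2 _ a.2.1)⟩⟩
    refine Cores.le_fittingSubgroup ?_
    exact Subgroup.isNilpotent_of_lowerCentralSeries_eq_bot (n := 1) (by
      rw [Subgroup.lowerCentralSeries_succ, Subgroup.lowerCentralSeries_zero,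
        Subgroup.commutator_eq_bot_iff_le_centralizer]
      exact le_centralizer _)
  rw [eq_bot_iff_forall]
  intro x hx
  obtain ⟨k, hk⟩ := hX ⟨x, hx⟩
  exact hdis x (hZ (hXF hx)) k (by simpa using congrArg Subtype.val hk)

end Inner

/-- Let G be a non-abelian finite simple group, A a maximal subgroup, F = F*(A) its generalized Fitting subgroup (viewed in G), and S ≤ F a subgroup subnormal in F with C_F(S) ≤ S. Let B be any subgroup of G containing S. Then (a) for every prime q not dividing |F(A)|, O_q(B) ∩ A = 1; and (b) for every prime p dividing |F(A)|, O_p(B) commutes elementwise with the subgroup of F generated by its elements of order prime to p. -/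
theorem result {G : Type*} [Group G] [Finite G] [IsSimpleGroup G] (hna : ¬ IsMulCommutative G) (A : Subgroup G) (hA : IsCoatom A) (S : Subgroup G) (hSF : S ≤ (Cfsg.generalizedFittingSubgroup ↥A).map A.subtype) (hSsn : (S.subgroupOf ((Cfsg.generalizedFittingSubgroup ↥A).map A.subtype)).IsSubnormal) (hSC : (Cfsg.generalizedFittingSubgroup ↥A).map A.subtype ⊓ Subgroup.centralizer (S : Set G) ≤ S) (B : Subgroup G) (hSB : S ≤ B) : (∀ q : ℕ, q.Prime → ¬ q ∣ Nat.card (Cfsg.fittingSubgroup ↥A) → (Cfsg.pCore q ↥B).map B.subtype ⊓ A = ⊥) ∧ (∀ p : ℕ, p.Prime → p ∣ Nat.card (Cfsg.fittingSubgroup ↥A) → ∀ x ∈ (Cfsg.pCore p ↥B).map B.subtype, ∀ y ∈ (Cfsg.pResidual p ↥(Cfsg.generalizedFittingSubgroup ↥A)).map ((Cfsg.generalizedFittingSubgroup ↥A).subtype) , x * (A.subtype y) = (A.subtype y) * x) := by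
  set Fs : Subgroup A := generalizedFittingSubgroup A with hFs
  have hSA : S ≤ A := hSF.trans (map_subtype_le _)
  set S' : Subgroup A := S.subgroupOf A with hS'
  have hSF' : S' ≤ Fs := fun s hs => by
    obtain ⟨f, hf, he⟩ := hSF hs
    rwa [← Subtype.ext he]
  have hsn : S'.IsSubnormal := by
    let φ : Fs →* Fs.map A.subtype := A.subtype.subgroupMap Fs
    have h1 := hSsn.comap φ
    have e : (S.subgroupOf (Fs.map A.subtype)).comap φ = S'.subgroupOf Fs := rfl
    rw [e] at h1
    exact Subgroup.IsSubnormal.trans hSF' h1 (Subgroup.Normal.isSubnormal inferInstance)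
  have hC : Fs ⊓ centralizer (S' : Set A) ≤ S' := fun a ha => by
    refine hSC ⟨⟨a, ha.1, rfl⟩, mem_centralizer_iff.2 fun s hs => ?_⟩
    exact congrArg Subtype.val (mem_centralizer_iff.1 ha.2 ⟨s, hSA hs⟩ hs)
  have hQ : ∀ r : ℕ, ∀ b ∈ B, ∀ x ∈ (pCore r B).map B.subtype,
      b * x * b⁻¹ ∈ (pCore r B).map B.subtype := by
    rintro r b hb _ ⟨x, hx, rfl⟩
    exact ⟨⟨b, hb⟩ * x * (⟨b, hb⟩ : B)⁻¹, Subgroup.Normal.conj_mem inferInstance x hx _, rfl⟩
  have hX : ∀ r : ℕ, IsPGroup r (((pCore r B).map B.subtype).subgroupOf A) ∧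
      S' ≤ normalizer ((((pCore r B).map B.subtype).subgroupOf A : Subgroup A) : Set A) := by
    refine fun r => ⟨((Cores.pCore_isPGroup r).map _).comap_subtype, fun s hs => ?_⟩
    refine mem_normalizer_iff.2 fun x => ⟨fun hx => hQ r _ (hSB hs) _ hx, fun hx => ?_⟩
    have := hQ r _ (B.inv_mem (hSB hs)) _ hx
    rw [mem_subgroupOf]
    convert this using 1
    rw [map_mul, map_mul, map_inv, Subgroup.coe_subtype]
    group
  -- normalisers of normal subgroups of `A`
  have hnorm : ∀ M : Subgroup A, M.Normal → M ≠ ⊥ → ∀ g : G,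
      (∀ m ∈ M, g * (m : G) = m * g) → g ∈ A := by
    intro M hM hM1 g hg
    have hle : A ≤ normalizer ((M.map A.subtype : Subgroup G) : Set G) := fun a ha => by
      refine mem_normalizer_iff.2 fun x => ⟨?_, ?_⟩
      · rintro ⟨m, hm, rfl⟩
        exact ⟨⟨a, ha⟩ * m * (⟨a, ha⟩ : A)⁻¹, hM.conj_mem m hm _, rfl⟩
      · rintro ⟨m, hm, he⟩
        refine ⟨(⟨a, ha⟩ : A)⁻¹ * m * ⟨a, ha⟩, by simpa using hM.conj_mem m hm (⟨a, ha⟩ : A)⁻¹, ?_⟩
        simp only [map_mul, map_inv, he]
        simp [mul_assoc]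
    have hgm : g ∈ normalizer ((M.map A.subtype : Subgroup G) : Set G) :=
      centralizer_le_normalizer _ (mem_centralizer_iff.2 (by
        rintro _ ⟨m, hm, rfl⟩; exact (hg m hm).symm))
    rcases hA.le_iff.1 hle with h | h
    · exfalso
      rcases (normalizer_eq_top_iff.1 h).eq_bot_or_eq_top with e | e
      · exact hM1 ((map_eq_bot_iff_of_injective _ A.subtype_injective).1 e)
      · exact hA.1 (top_le_iff.1 (e ▸ map_subtype_le M))
    · exact h ▸ hgm
  refine ⟨fun q hq hqF => ?_, fun p hp hpF => ?_⟩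
  · haveI : Fact q.Prime := ⟨hq⟩
    have := eq_bot_of_not_dvd hSF' hsn hC (hX q).1 (hX q).2 hqF
    rw [subgroupOf_eq_bot] at this
    exact this.eq_bot
  haveI : Fact p.Prime := ⟨hp⟩
  intro x hx y hy
  set Q : Subgroup G := (pCore p B).map B.subtype with hQdef
  -- it is enough that `Q ≤ A`
  have hfinish : x ∈ A → x * (A.subtype y) = A.subtype y * x := by
    intro hxA
    obtain ⟨y₁, hy₁, rfl⟩ := hy
    have hle : pResidual p Fs ≤
        (centralizer ({(⟨x, hxA⟩ : A)} : Set A)).comap Fs.subtype := by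
      refine (closure_le _).2 fun z hz => mem_centralizer_singleton_iff.2 ?_
      exact (commute_coprime hSF' hsn hC (hX p).1 (hX p).2 z.2 (by rwa [Subgroup.orderOf_coe])
        ⟨x, hxA⟩ hx).symm
    exact congrArg Subtype.val (mem_centralizer_singleton_iff.1 (hle hy₁)).symm
  set Z : Subgroup A := pCore p A ⊓ centralizer (pCore p A : Set A) with hZdef
  have hZ1 : Z ≠ ⊥ := by
    have : Nontrivial (pCore p A) := nontrivial_iff_ne_bot _ |>.2 (pCore_ne_bot hpF)
    have := (Cores.pCore_isPGroup (G := A) p).center_nontrivial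
    obtain ⟨⟨z, hz⟩, hz1⟩ := exists_ne (1 : center (pCore p A))
    refine fun h => hz1 (Subtype.ext (Subtype.ext ((eq_bot_iff_forall _).1 h z ⟨z.2, ?_⟩)))
    exact mem_centralizer_iff.2 fun a ha => congrArg Subtype.val (mem_center_iff.1 hz ⟨a, ha⟩)
  have hZS : Z ≤ S' := center_pCore_le hSF' hC
  -- the elements of `S` of order prime to `p` centralise `Q`
  have hcent : ∀ d ∈ S', (orderOf d).Coprime p → ∀ w ∈ Q, (d : G) * w = w * d := by
    intro d hd hdo
    refine Classif.pTimesQ Q (Z.map A.subtype) (d : G) ((Cores.pCore_isPGroup p).map _)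
      (((Cores.pCore_isPGroup p).to_inf_left).map _) ?_
      (fun w hw => hQ p _ (hSB hd) w hw) (by rwa [Subgroup.orderOf_coe]) ?_ fun w hw hfix => ?_
    · rintro _ ⟨z, hz, rfl⟩
      refine mem_normalizer_iff.2 fun w => ⟨fun hw => hQ p _ (hSB (hZS hz)) w hw, fun hw => ?_⟩
      have h' := hQ p _ (B.inv_mem (hSB (hZS hz))) _ hw
      convert h' using 1
      group
    · rintro _ ⟨z, hz, rfl⟩
      exact congrArg Subtype.val (mem_centralizer_iff.1 (centralizes_fstar hz) d (hSF' hd))
    · have hwA : w ∈ A := hnorm Z inferInstance hZ1 w fun z hz => (hfix _ ⟨z, hz, rfl⟩).symm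
      exact congrArg Subtype.val
        (commute_coprime hSF' hsn hC (hX p).1 (hX p).2 (hSF' hd) hdo ⟨w, hwA⟩ hw).symm
  by_cases hq : ∃ q : ℕ, q.Prime ∧ q ≠ p ∧ pCore q A ≠ ⊥
  · obtain ⟨q, hq, hqp, hq1⟩ := hq
    haveI : Fact q.Prime := ⟨hq⟩
    refine hfinish (hnorm (pCore q A ⊓ centralizer (pCore q A : Set A)) inferInstance ?_ x
      fun m hm => (hcent m (center_pCore_le hSF' hC hm) ?_ x hx).symm)
    · have : Nontrivial (pCore q A) := nontrivial_iff_ne_bot _ |>.2 hq1
      have := (Cores.pCore_isPGroup (G := A) q).center_nontrivial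
      obtain ⟨⟨z, hz⟩, hz1⟩ := exists_ne (1 : center (pCore q A))
      refine fun h => hz1 (Subtype.ext (Subtype.ext ((eq_bot_iff_forall _).1 h z ⟨z.2, ?_⟩)))
      exact mem_centralizer_iff.2 fun a ha => congrArg Subtype.val (mem_center_iff.1 hz ⟨a, ha⟩)
    · obtain ⟨k, hk⟩ := Cores.pCore_isPGroup (G := A) q ⟨m, hm.1⟩
      exact Nat.Coprime.coprime_dvd_left (orderOf_dvd_of_pow_eq_one
        (by simpa using congrArg Subtype.val hk)) (((Nat.coprime_primes hq hp).2 hqp).pow_left k)
  push Not at hq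
  by_cases hM : closure {e : A | e ∈ layer A ∧ (orderOf e).Coprime p} = ⊥
  · -- `F*` is a `p`-group
    have hEp : IsPGroup p (layer A) := fun ⟨e, he⟩ => by
      refine ⟨(orderOf e).factorization p, Subtype.ext ?_⟩
      have h0 := (orderOf_pos e).ne'
      refine (eq_bot_iff_forall _).1 hM _ (subset_closure ⟨pow_mem he _, ?_⟩)
      rw [SubgroupClass.coe_pow, orderOf_pow_of_dvd (pow_ne_zero _ hp.ne_zero) (Nat.ordProj_dvd _ _)]
      exact (Nat.coprime_ordCompl hp h0).symm
    have hE : layer A = ⊥ := by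
      by_contra h
      obtain ⟨K, hK⟩ := Layer.layer_ne_bot_iff.1 h
      have := hEp.isNilpotent
      exact Component.not_le_of_isSolvable hK (Layer.component_le_layer hK)
    have hFp : Fs ≤ pCore p A := by
      rw [hFs, generalizedFittingSubgroup, hE, bot_sup_eq, Cores.fittingSubgroup_eq_iSup_pCore]
      refine iSup_le fun q => ?_
      by_cases h : (q : ℕ) = p
      · rw [h]
      · rw [hq q q.2 h]; exact bot_le
    have htriv : pResidual p Fs = ⊥ := by
      refine closure_eq_bot_iff.2 fun z hz => ?_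
      obtain ⟨k, hk⟩ := ((Cores.pCore_isPGroup (G := A) p).to_le hFp) z
      exact orderOf_eq_one_iff.1 (Nat.eq_one_of_dvd_coprimes (Nat.Coprime.pow_right k hz) dvd_rfl
        (orderOf_dvd_of_pow_eq_one hk))
    rw [htriv, Subgroup.map_bot, mem_bot] at hy
    rw [hy, map_one, mul_one, one_mul]
  · refine hfinish (hnorm _ ?_ hM x fun m hm => ?_)
    · refine ⟨fun m hm a => ?_⟩
      have hmap : (closure {e : A | e ∈ layer A ∧ (orderOf e).Coprime p}).map
          (MulAut.conj a).toMonoidHom ≤ closure {e : A | e ∈ layer A ∧ (orderOf e).Coprime p} := by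
        rw [MonoidHom.map_closure]
        refine closure_mono ?_
        rintro _ ⟨e, ⟨he, ho⟩, rfl⟩
        refine ⟨Subgroup.Normal.conj_mem inferInstance e he a, ?_⟩
        rwa [MulEquiv.coe_toMonoidHom, MulEquiv.orderOf_eq]
      exact hmap ⟨m, hm, rfl⟩
    · have hle : closure {e : A | e ∈ layer A ∧ (orderOf e).Coprime p} ≤
          (centralizer ({x} : Set G)).comap A.subtype := by
        refine (closure_le _).2 fun e he => mem_centralizer_singleton_iff.2 ?_
        exact hcent e (layer_le hSF' hsn hC he.1) he.2 x hx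
      exact (mem_centralizer_singleton_iff.1 (hle hm)).symm

end Cfsg.Agent.S1247
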