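import Cfsg.Statements.S1253
import Cfsg.Agent.Lib.ZStar.StronglyClosed
import Cfsg.Agent.Lib.ZStar.Consequences
import Cfsg.Agent.Lib.Coprime.Glauberman


set_option autoImplicit false
open Cfsg

namespace Cfsg.Agent.S1253

theorem card_eq_inf_mul_map {G : Type*} [Group G] [Finite G] (X O : Subgroup G) [O.Normal] :
    Nat.card X = Nat.card (X ⊓ O : Subgroup G) * Nat.card (X.map (QuotientGroup.mk' O)) := by
  set φ := (QuotientGroup.mk' O).comp X.subtype with hφ
  have h1 : φ.range = X.map (QuotientGroup.mk' O) := by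
    rw [hφ, MonoidHom.range_comp, Subgroup.range_subtype]
  have hk : φ.ker = O.subgroupOf X := by
    rw [hφ, ← MonoidHom.comap_ker, QuotientGroup.ker_mk']
    rfl
  rw [← h1, ← Subgroup.index_ker, hk, ← Subgroup.inf_subgroupOf_left O X,
    ← Nat.card_congr (Subgroup.subgroupOfEquivOfLe (inf_le_left : X ⊓ O ≤ X)).toEquiv,
    Subgroup.card_mul_index]

/-- Let z be an isolated involution of the finite group G with centralizer C, p an odd prime and P a Sylow p-subgroup of G normalized by z. Then P ∩ C has p-power-free index in C (it is a Sylow p-subgroup of C), and |P : C_P(z)| equals the number of elements x ∈ P with z x z⁻¹ = x⁻¹. -/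
theorem result {G : Type*} [Group G] [Finite G] (z : G) (hz : Cfsg.IsIsolatedInvolution z) {p : ℕ} [Fact p.Prime] (hp : p ≠ 2) (P : Sylow p G) (hzP : z ∈ Subgroup.normalizer ((P : Subgroup G) : Set G)) : ¬ p ∣ ((P : Subgroup G) ⊓ Subgroup.centralizer ({z} : Set G)).relIndex (Subgroup.centralizer ({z} : Set G)) ∧ ((P : Subgroup G) ⊓ Subgroup.centralizer ({z} : Set G)).relIndex (P : Subgroup G) = Nat.card {x : G // x ∈ P ∧ z * x * z⁻¹ = x⁻¹} := by
  classical
  have hzz : z * z = 1 := by rw [← sq, ← hz.1, pow_orderOf_eq_one]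
  have hzi : z⁻¹ = z := inv_eq_of_mul_eq_one_right hzz
  have hZ := Lib.ZStar.Consequences.isolated_commutator_mem Lib.ZStar.StronglyClosed.involutionThm hz
  set O := Cfsg.oddCore G with hO
  have hOn : O.Normal := by rw [hO]; unfold Cfsg.oddCore; infer_instance
  set C := Subgroup.centralizer ({z} : Set G) with hC
  have hodd : ∀ x : G, x ∈ (P : Subgroup G) → Odd (orderOf x) := by
    intro x hx
    obtain ⟨k, hk⟩ := IsPGroup.iff_orderOf.1 P.2 ⟨x, hx⟩
    rw [Subgroup.orderOf_mk] at hk
    rw [hk]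
    exact ((Fact.out : p.Prime).odd_of_ne_two hp).pow
  -- square roots of inverted elements
  have hroot : ∀ i : G, Odd (orderOf i) → z * i * z⁻¹ = i⁻¹ →
      ∃ y ∈ Subgroup.zpowers i, y * y = i ∧ z * y * z⁻¹ = y⁻¹ := by
    intro i hi hinv
    obtain ⟨m, hm⟩ := hi
    refine ⟨i ^ (m + 1), pow_mem (Subgroup.mem_zpowers i) _, ?_, ?_⟩
    · rw [← pow_add, show m + 1 + (m + 1) = orderOf i + 1 by omega, pow_succ, pow_orderOf_eq_one,
        one_mul]
    · rw [← conj_pow, hinv, inv_pow]
  -- decomposition of `P`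
  have hdec : ∀ x : G, x ∈ (P : Subgroup G) → ∃ y : G, y ∈ (P : Subgroup G) ∧
      y * y = x * z * x⁻¹ * z⁻¹ ∧ y ∈ O ∧ y⁻¹ * x ∈ C := by
    intro x hx
    have hiP : x * z * x⁻¹ * z⁻¹ ∈ (P : Subgroup G) := by
      rw [mul_assoc x, mul_assoc]
      exact mul_mem hx ((Subgroup.mem_normalizer_iff.1 hzP _).1 (inv_mem hx))
    have hiO : x * z * x⁻¹ * z⁻¹ ∈ O := by
      rw [show x * z * x⁻¹ * z⁻¹ = (z * x * z⁻¹ * x⁻¹)⁻¹ by group]
      exact inv_mem (hZ x)
    obtain ⟨y, hy, hy2, hyz⟩ := hroot _ (hodd _ hiP) (by rw [hzi]; simp [mul_assoc, hzi, hzz])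
    refine ⟨y, Subgroup.zpowers_le.2 hiP hy, hy2, Subgroup.zpowers_le.2 hiO hy, ?_⟩
    refine Subgroup.mem_centralizer_singleton_iff.2 (mul_inv_eq_iff_eq_mul.1 ?_)
    calc y⁻¹ * x * z * (y⁻¹ * x)⁻¹ = y⁻¹ * (x * z * x⁻¹ * z⁻¹) * (z * y * z⁻¹) * z := by group
      _ = y⁻¹ * (y * y) * y⁻¹ * z := by rw [hy2, hyz]
      _ = z := by group
  constructor
  · -- every `p`-subgroup of the centraliser is small
    set π := QuotientGroup.mk' O with hπ
    have hbound : ∀ Q : Subgroup G, IsPGroup p Q → Q ≤ C →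
        Nat.card Q ≤ Nat.card ((P : Subgroup G) ⊓ C : Subgroup G) := by
      intro Q hQ hQC
      rw [card_eq_inf_mul_map Q O, card_eq_inf_mul_map ((P : Subgroup G) ⊓ C) O]
      refine Nat.mul_le_mul ?_ ?_
      · have hAO : Subgroup.zpowers z ≤ Subgroup.normalizer (O : Set G) := by
          rw [Subgroup.normalizer_eq_top]; exact le_top
        have hoddO : Odd (Nat.card O) := Lib.ZStar.Elements.oddCore_odd
        have hcop : (Nat.card (Subgroup.zpowers z)).Coprime (Nat.card O) := by
          rw [Nat.card_zpowers, hz.1]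
          exact Nat.coprime_two_left.2 hoddO
        have hsolv : Group.IsSolvable (Subgroup.zpowers z) ∨ Group.IsSolvable O :=
          Or.inl (Lib.Coprime.isSolvable_zpowers z)
        have hzQ : Subgroup.zpowers z ≤ Subgroup.normalizer ((Q ⊓ O : Subgroup G) : Set G) := by
          rw [Subgroup.zpowers_le, Subgroup.mem_normalizer_iff]
          intro q
          constructor
          · intro hq
            rw [← Subgroup.mem_centralizer_singleton_iff.1 (hQC hq.1), mul_inv_cancel_right]
            exact hq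
          · intro hq
            have h : z * q * z⁻¹ * z = z * (z * q * z⁻¹) :=
              Subgroup.mem_centralizer_singleton_iff.1 (hQC hq.1)
            rw [inv_mul_cancel_right] at h
            rw [mul_left_cancel h]
            exact hq
        obtain ⟨R, hQR, hzR⟩ := Lib.Coprime.exists_invariant_sylow_ge hAO hcop hsolv p (Q ⊓ O)
          inf_le_right (hQ.to_le inf_le_left) hzQ
        have hzPO : Subgroup.zpowers z ≤
            Subgroup.normalizer (((P : Subgroup G) ⊓ O : Subgroup G) : Set G) := by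
          rw [Subgroup.zpowers_le, Subgroup.mem_normalizer_iff]
          intro q
          exact ⟨fun hq => ⟨(Subgroup.mem_normalizer_iff.1 hzP q).1 hq.1, hOn.conj_mem q hq.2 z⟩,
            fun hq => ⟨(Subgroup.mem_normalizer_iff.1 hzP q).2 hq.1, by
              simpa [mul_assoc] using hOn.conj_mem _ hq.2 z⁻¹⟩⟩
        obtain ⟨R', hPR', hzR'⟩ := Lib.Coprime.exists_invariant_sylow_ge hAO hcop hsolv p
          ((P : Subgroup G) ⊓ O) inf_le_right (P.2.to_le inf_le_left) hzPO
        obtain ⟨c, hc, hcR⟩ := Lib.Coprime.exists_conj_invariant_sylow hAO hcop hsolv R R' hzR hzR'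
        have hR'P : (R' : Subgroup O).map O.subtype ≤ (P : Subgroup G) ⊓ O := by
          obtain ⟨P', hP'⟩ := (R'.2.map O.subtype).exists_le_sylow
          obtain ⟨g, hg⟩ := MulAction.exists_smul_eq G P' P
          refine le_of_eq (Subgroup.eq_of_le_of_card_ge hPR' ?_).symm
          refine le_of_le_of_eq (Subgroup.card_le_of_le (K := (P' : Subgroup G) ⊓ O)
            (le_inf hP' (Subgroup.map_subtype_le _))) ?_
          have hmap : ((P' : Subgroup G) ⊓ O).map (MulAut.conj g).toMonoidHom =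
              (P : Subgroup G) ⊓ O := by
            rw [Subgroup.map_inf _ _ _ (MulAut.conj g).injective, ← hg, Sylow.coe_subgroup_smul]
            congr 1
            refine le_antisymm ?_ fun o ho => ⟨g⁻¹ * o * g, by simpa using hOn.conj_mem o ho g⁻¹,
              by simp [mul_assoc]⟩
            rintro _ ⟨o, ho, rfl⟩
            exact hOn.conj_mem o ho g
          rw [← hmap, Subgroup.card_map_of_injective (f := (MulAut.conj g).toMonoidHom)
            (MulAut.conj g).injective]
        have hsub : (Q ⊓ O).map (MulAut.conj c).toMonoidHom ≤ (P : Subgroup G) ⊓ C ⊓ O := by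
          rintro _ ⟨q, hq, rfl⟩
          have h1 : c * q * c⁻¹ ∈ (R' : Subgroup O).map O.subtype := by
            rw [← hcR]
            exact Subgroup.smul_mem_pointwise_smul q (MulAut.conj c) _ (hQR hq)
          refine ⟨⟨(hR'P h1).1, Subgroup.mem_centralizer_singleton_iff.2 ?_⟩, (hR'P h1).2⟩
          have hcz : Commute c z :=
            (Subgroup.mem_centralizer_iff.1 hc.2 z (Subgroup.mem_zpowers z)).symm
          exact ((hcz.mul_left (Subgroup.mem_centralizer_singleton_iff.1 (hQC hq.1))).mul_left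
            hcz.inv_left).eq
        refine le_trans (le_of_eq ?_) (Subgroup.card_le_of_le hsub)
        rw [Subgroup.card_map_of_injective (f := (MulAut.conj c).toMonoidHom) (MulAut.conj c).injective]
      · have hmap : ((P : Subgroup G) ⊓ C).map π = (P : Subgroup G).map π := by
          refine le_antisymm (Subgroup.map_mono inf_le_left) ?_
          rintro _ ⟨x, hx, rfl⟩
          obtain ⟨y, hyP, -, hyO, hyC⟩ := hdec x hx
          refine ⟨y⁻¹ * x, ⟨(P : Subgroup G).mul_mem ((P : Subgroup G).inv_mem hyP) hx, hyC⟩, ?_⟩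
          rw [map_mul, map_inv, (show π y = 1 from (QuotientGroup.eq_one_iff y).2 hyO), inv_one,
            one_mul]
        rw [hmap]
        obtain ⟨P', hP'⟩ := (hQ.map π).exists_le_sylow
        refine (Subgroup.card_le_of_le hP').trans (le_of_eq ?_)
        rw [Nat.card_congr (P'.equiv (P.mapSurjective (QuotientGroup.mk'_surjective O))).toEquiv,
          Sylow.coe_mapSurjective]
    have hp1 : IsPGroup p (((P : Subgroup G) ⊓ C).subgroupOf C) :=
      (P.2.to_le inf_le_left).of_equiv (Subgroup.subgroupOfEquivOfLe inf_le_right).symm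
    obtain ⟨T, hT⟩ := hp1.exists_le_sylow
    have he : ((P : Subgroup G) ⊓ C).subgroupOf C = (T : Subgroup C) := by
      refine Subgroup.eq_of_le_of_card_ge hT ?_
      rw [Nat.card_congr (Subgroup.subgroupOfEquivOfLe (inf_le_right : (P : Subgroup G) ⊓ C ≤ C)).toEquiv,
        ← Subgroup.card_map_of_injective C.subtype_injective]
      exact hbound _ (T.2.map _) (Subgroup.map_subtype_le _)
    rw [Subgroup.relIndex, he]
    exact T.not_dvd_index
  · rw [Subgroup.inf_relIndex_left, Subgroup.relIndex, Subgroup.index_eq_card]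
    have hwd : ∀ a b : (P : Subgroup G), (a : G)⁻¹ * b ∈ C →
        (a : G) * z * (a : G)⁻¹ * z⁻¹ = (b : G) * z * (b : G)⁻¹ * z⁻¹ := by
      intro a b hab
      have hcz := Subgroup.mem_centralizer_singleton_iff.1 hab
      congr 1
      calc (a : G) * z * (a : G)⁻¹ = a * (z * ((a : G)⁻¹ * b)) * (b : G)⁻¹ := by group
        _ = a * ((a : G)⁻¹ * b * z) * (b : G)⁻¹ := by rw [hcz]
        _ = b * z * (b : G)⁻¹ := by group
    have hmem : ∀ a : (P : Subgroup G), (a : G) * z * (a : G)⁻¹ * z⁻¹ ∈ (P : Subgroup G) ∧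
        z * ((a : G) * z * (a : G)⁻¹ * z⁻¹) * z⁻¹ = ((a : G) * z * (a : G)⁻¹ * z⁻¹)⁻¹ := by
      intro a
      refine ⟨?_, by rw [hzi]; simp [mul_assoc, hzi, hzz]⟩
      rw [mul_assoc (a : G), mul_assoc]
      exact mul_mem a.2 ((Subgroup.mem_normalizer_iff.1 hzP _).1 (inv_mem a.2))
    refine Nat.card_congr (Equiv.ofBijective
      (fun q => Quotient.liftOn' q
        (fun a : (P : Subgroup G) => (⟨_, hmem a⟩ : {x : G // x ∈ P ∧ z * x * z⁻¹ = x⁻¹}))
        fun a b hab => Subtype.ext (hwd a b (Subgroup.mem_subgroupOf.1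
          (QuotientGroup.leftRel_apply.1 hab)))) ⟨?_, ?_⟩)
    · intro q₁ q₂
      induction q₁ using Quotient.inductionOn' with | _ a =>
      induction q₂ using Quotient.inductionOn' with | _ b =>
      intro hab
      have hab' : (a : G) * z * (a : G)⁻¹ * z⁻¹ = (b : G) * z * (b : G)⁻¹ * z⁻¹ :=
        congrArg Subtype.val hab
      refine QuotientGroup.eq.2 (Subgroup.mem_subgroupOf.2
        (Subgroup.mem_centralizer_singleton_iff.2 ?_))
      simp only [Subgroup.coe_mul, Subgroup.coe_inv]
      have h := mul_right_cancel hab'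
      calc (a : G)⁻¹ * b * z = (a : G)⁻¹ * (b * z * (b : G)⁻¹) * b := by group
        _ = (a : G)⁻¹ * (a * z * (a : G)⁻¹) * b := by rw [h]
        _ = z * ((a : G)⁻¹ * b) := by group
    · rintro ⟨x, hxP, hx⟩
      obtain ⟨y, hy, hy2, hyz⟩ := hroot x (hodd x hxP) hx
      refine ⟨Quotient.mk'' ⟨y, Subgroup.zpowers_le.2 hxP hy⟩, Subtype.ext ?_⟩
      change y * z * y⁻¹ * z⁻¹ = x
      have h3 : z * y⁻¹ * z⁻¹ = y := by
        rw [show z * y⁻¹ * z⁻¹ = (z * y * z⁻¹)⁻¹ by group, hyz, inv_inv]
      calc y * z * y⁻¹ * z⁻¹ = y * (z * y⁻¹ * z⁻¹) := by group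
        _ = x := by rw [h3, hy2]

end Cfsg.Agent.S1253
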