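import Cfsg.Statements.S1254
import Cfsg.Agent.Lib.Fusion.DihedralClasses

set_option autoImplicit false
open Cfsg
open Cfsg.Agent.Lib.Fusion

namespace Cfsg.Agent.S1254

/-- Let X be a finite group whose Sylow 2-subgroup S is dihedral (of order at least 4). Then X has a normal 2-complement if and only if, for every Klein four-subgroup U ≤ S, the normalizer N_X(U) is generated by C_X(U) and N_S(U). -/
theorem result {X : Type*} [Group X] [Finite X] (S : Sylow 2 X) (m : ℕ) (hm : 2 ≤ m) (eS : (S : Subgroup X) ≃* DihedralGroup m) : Cfsg.HasNormalPComplement 2 X ↔ ∀ U : Subgroup X, U ≤ S → IsKleinFour U → Subgroup.normalizer (U : Set X) = Subgroup.centralizer (U : Set X) ⊔ ((S : Subgroup X) ⊓ Subgroup.normalizer (U : Set X)) := by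
  have : Fact (Nat.Prime 2) := ⟨Nat.prime_two⟩
  let D := Dihedral.Coords.ofEquiv eS
  constructor
  · intro hN U hUS hU
    refine le_antisymm ?_ (sup_le (Subgroup.centralizer_le_normalizer _) inf_le_right)
    intro n hn
    obtain ⟨P, K, hK, hKP⟩ := hN
    obtain ⟨g, hg⟩ := MulAction.exists_smul_eq X P S
    -- a complement to `P` is one to `S`
    have hKS : K.IsComplement' (S : Subgroup X) := by
      refine Subgroup.isComplement'_of_card_mul_and_disjoint ?_ ?_
      · rw [Nat.card_congr (Sylow.equiv S P).toEquiv]; exact hKP.card_mul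
      · rw [Subgroup.disjoint_def]
        intro x hxK hxS
        have h1 : g⁻¹ * x * g ∈ (P : Subgroup X) := by
          have h2 : x ∈ ((g • P : Sylow 2 X) : Subgroup X) := hg.symm ▸ hxS
          rw [Sylow.coe_subgroup_smul, Subgroup.mem_pointwise_smul_iff_inv_smul_mem] at h2
          simpa [mul_assoc] using h2
        have h3 := Subgroup.disjoint_def.1 hKP.disjoint
          (by simpa using hK.conj_mem x hxK g⁻¹) h1
        have h4 := congrArg (fun z => g * z * g⁻¹) h3
        simpa [mul_assoc] using h4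
    have hmem : n ∈ K ⊔ (S : Subgroup X) := by rw [hKS.sup_eq_top]; exact Subgroup.mem_top _
    rw [← SetLike.mem_coe, Subgroup.normal_mul] at hmem
    obtain ⟨k, hk, s, hs, rfl⟩ := hmem
    have hfix : ∀ u ∈ U, k * (s * u * s⁻¹) * k⁻¹ = s * u * s⁻¹ := by
      intro u hu
      have h1 : k * s * u * (k * s)⁻¹ ∈ U := (Subgroup.mem_normalizer_iff.1 hn u).1 hu
      have h2 : k * (s * u * s⁻¹) * k⁻¹ * (s * u * s⁻¹)⁻¹ ∈ K := by
        have : k * (s * u * s⁻¹) * k⁻¹ * (s * u * s⁻¹)⁻¹ =
            k * ((s * u * s⁻¹) * k⁻¹ * (s * u * s⁻¹)⁻¹) := by group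
        rw [this]
        exact mul_mem hk (hK.conj_mem _ (inv_mem hk) _)
      have h3 : k * (s * u * s⁻¹) * k⁻¹ * (s * u * s⁻¹)⁻¹ ∈ (S : Subgroup X) := by
        refine mul_mem ?_ (inv_mem (mul_mem (mul_mem hs (hUS hu)) (inv_mem hs)))
        have : k * (s * u * s⁻¹) * k⁻¹ = k * s * u * (k * s)⁻¹ := by group
        rw [this]; exact hUS h1
      exact mul_inv_eq_one.1 (Subgroup.disjoint_def.1 hKS.disjoint h2 h3)
    have hsN : s ∈ Subgroup.normalizer (U : Set X) := by
      apply Alperin.mem_normalizer_of_conjS_eq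
      refine Subgroup.eq_of_le_of_card_ge (fun x hx => ?_) (Alperin.card_conjS s U).ge
      rw [Alperin.mem_conjS] at hx
      have h1 := (Subgroup.mem_normalizer_iff.1 hn _).1 hx
      have h2 := hfix _ hx
      have : s * (s⁻¹ * x * s) * s⁻¹ = x := by group
      rw [this] at h2
      rw [show k * s * (s⁻¹ * x * s) * (k * s)⁻¹ = k * x * k⁻¹ by group, h2] at h1
      exact h1
    have hkC : k ∈ Subgroup.centralizer (U : Set X) := by
      rw [Subgroup.mem_centralizer_iff]
      intro x hx
      have h1 := hfix (s⁻¹ * x * s) (by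
        simpa using (Subgroup.mem_normalizer_iff.1 (inv_mem hsN) x).1 hx)
      rw [show s * (s⁻¹ * x * s) * s⁻¹ = x by group] at h1
      exact (mul_inv_eq_iff_eq_mul.1 h1).symm
    exact mul_mem (Subgroup.mem_sup_left hkC) (Subgroup.mem_sup_right ⟨hs, hsN⟩)
  · intro h
    refine D.hasNormalPComplement fun U hUS hU n hn hodd => ?_
    have hNC := h U hUS (Dihedral.isFour_iff.1 hU)
    set N := Subgroup.normalizer (U : Set X)
    set C := (Subgroup.centralizer (U : Set X)).subgroupOf N
    have : C.Normal := Subgroup.normal_subgroupOf_centralizer_normalizer _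
    have hmem : (⟨n, hn⟩ : N) ∈ C ⊔ ((S : Subgroup X) ⊓ N).subgroupOf N := by
      rw [← Subgroup.subgroupOf_sup (Subgroup.centralizer_le_normalizer _) inf_le_right]
      rw [Subgroup.mem_subgroupOf, ← hNC]
      exact hn
    rw [← SetLike.mem_coe, Subgroup.normal_mul] at hmem
    obtain ⟨c, hc, t, ht, hct⟩ := hmem
    have himg : Dihedral.autPerm U ⟨n, hn⟩ = Dihedral.autPerm U t := by
      rw [← hct, map_mul]
      have : c ∈ (Dihedral.autPerm U).ker := by rw [Dihedral.ker_autPerm]; exact hc
      rw [MonoidHom.mem_ker.1 this, one_mul]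
    obtain ⟨j, hj⟩ := S.2 ⟨(t : X), (Subgroup.mem_subgroupOf.1 ht).1⟩
    have ht1 : Dihedral.autPerm U ⟨n, hn⟩ = 1 := by
      rw [← orderOf_eq_one_iff]
      refine Nat.eq_one_of_dvd_coprimes ((Nat.coprime_two_left.2 hodd).pow_left j) ?_ ?_
      · rw [himg]
        refine (orderOf_map_dvd _ _).trans (orderOf_dvd_of_pow_eq_one ?_)
        exact Subtype.ext (congrArg Subtype.val hj :)
      · rw [← Subgroup.orderOf_mk n hn]
        exact orderOf_map_dvd _ _
    have hk : (⟨n, hn⟩ : N) ∈ (Dihedral.autPerm U).ker := ht1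
    rw [Dihedral.ker_autPerm, Subgroup.mem_subgroupOf, Subgroup.mem_centralizer_iff] at hk
    exact fun x hx => (hk x hx).symm

end Cfsg.Agent.S1254
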