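import Cfsg.Statements.S1255
import Cfsg.Agent.Lib.Fusion.DihedralClasses

set_option autoImplicit false
open Cfsg
open Cfsg.Agent.Lib.Fusion

namespace Cfsg.Agent.S1255

/-- Let X be a finite group whose Sylow 2-subgroup S is dihedral of order 2m ≥ 4. Then X has no subgroup of index 2 and no isolated involution if and only if either all involutions of X are conjugate, or for every Klein four-subgroup U ≤ S the index |N_X(U) : C_X(U)| equals 3 when |S| = 4 and equals 6 when |S| > 4. -/
theorem result {X : Type*} [Group X] [Finite X] (S : Sylow 2 X) (m : ℕ) (hm : 2 ≤ m) (eS : (S : Subgroup X) ≃* DihedralGroup m) : ((∀ H : Subgroup X, H.index ≠ 2) ∧ (∀ z : X, ¬ Cfsg.IsIsolatedInvolution z)) ↔ ((∀ a b : X, orderOf a = 2 → orderOf b = 2 → IsConj a b) ∨ (∀ U : Subgroup X, U ≤ S → IsKleinFour U → (Subgroup.centralizer (U : Set X)).relIndex (Subgroup.normalizer (U : Set X)) = (if Nat.card S = 4 then 3 else 6))) := by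
  have : Fact (Nat.Prime 2) := ⟨Nat.prime_two⟩
  let D := Dihedral.Coords.ofEquiv eS
  have hthree : (∀ U : Subgroup X, U ≤ S → IsKleinFour U →
      (Subgroup.centralizer (U : Set X)).relIndex (Subgroup.normalizer (U : Set X)) =
        (if Nat.card S = 4 then 3 else 6)) → ∀ a b : X, orderOf a = 2 → orderOf b = 2 → IsConj a b :=
    fun h => D.isConj_of_three hm fun U hU hf => by
      rw [h U hU (Dihedral.isFour_iff.1 hf)]
      split <;> norm_num
  constructor
  · rintro ⟨hidx, -⟩
    right
    intro U hUS hU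
    have hf := Dihedral.isFour_iff.2 hU
    have h3 : 3 ∣ (Subgroup.centralizer (U : Set X)).relIndex (Subgroup.normalizer (U : Set X)) := by
      by_contra h3
      obtain ⟨H, hH⟩ := D.exists_index_two hm hUS hf
        fun n hn hodd => Dihedral.commute_of_not_three hf h3 hn hodd
      exact hidx H hH
    have h6 := Dihedral.relIndex_dvd_six hf
    have hcard : Nat.card (S : Subgroup X) = 2 * m := D.card
    by_cases hm4 : m < 4
    · have hm' : m = 2 := by
        obtain ⟨k, hk⟩ := D.exists_pow hm
        rcases k with _ | k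
        · simpa using hk
        · have : 4 ≤ 2 ^ (k + 1 + 1) := Nat.pow_le_pow_right two_pos (show 2 ≤ k + 1 + 1 by omega)
          omega
      rw [if_pos (show Nat.card (S : Subgroup X) = 4 by omega)]
      have hUS' : U = (S : Subgroup X) :=
        Subgroup.eq_of_le_of_card_ge hUS (by rw [hcard, hm', hf.1])
      have hcomm : (S : Subgroup X) ≤ Subgroup.centralizer (U : Set X) := by
        intro x hx
        rw [Subgroup.mem_centralizer_iff]
        exact fun y hy => hf.comm hy (hUS' ▸ hx)
      have hodd : ¬ 2 ∣ (Subgroup.centralizer (U : Set X)).relIndex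
          (Subgroup.normalizer (U : Set X)) := by
        intro h2
        have hmul := Subgroup.relIndex_mul_index (H := Subgroup.centralizer (U : Set X))
          (Subgroup.centralizer_le_normalizer (U : Set X))
        exact S.not_dvd_index ((h2.trans (Dvd.intro _ hmul)).trans (Subgroup.index_dvd_of_le hcomm))
      obtain ⟨c, hc⟩ := h3
      rw [hc] at h6 hodd ⊢
      have : c ∣ 2 := Nat.dvd_of_mul_dvd_mul_left (by norm_num) (show 3 * c ∣ 3 * 2 from h6)
      rcases (Nat.dvd_prime Nat.prime_two).1 this with rfl | rfl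
      · rfl
      · exact absurd (dvd_mul_left 2 3) hodd
    · rw [if_neg (show ¬ Nat.card (S : Subgroup X) = 4 by omega)]
      obtain ⟨i, hi⟩ := D.four_contains_sr hm hUS hf
      have hm4' := D.four_dvd (by omega)
      obtain ⟨s, hsS, hsN, hse⟩ := D.exists_swap hm hm4' hUS hf hi
      have hmove : Dihedral.autPerm U ⟨s, hsN⟩ ≠ 1 := by
        intro h1
        have hk : (⟨s, hsN⟩ : Subgroup.normalizer (U : Set X)) ∈ (Dihedral.autPerm U).ker := h1
        rw [Dihedral.ker_autPerm, Subgroup.mem_subgroupOf, Subgroup.mem_centralizer_iff] at hk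
        rw [← hk _ hi, mul_inv_cancel_right] at hse
        have h2 := DihedralGroup.sr.inj (D.inj hse)
        exact Dihedral.half_ne_zero hm (by simpa using h2.symm)
      have h2 : 2 ∣ (Subgroup.centralizer (U : Set X)).relIndex (Subgroup.normalizer (U : Set X)) := by
        rw [Dihedral.relIndex_eq_card_range]
        obtain ⟨j, hj⟩ := S.2 ⟨s, hsS⟩
        obtain ⟨l, -, hl⟩ := (Nat.dvd_prime_pow Nat.prime_two).1
          ((orderOf_map_dvd (Dihedral.autPerm U) ⟨s, hsN⟩).trans
            (orderOf_dvd_of_pow_eq_one (n := 2 ^ j) (Subtype.ext (congrArg Subtype.val hj :))))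
        have hl0 : l ≠ 0 := fun h0 => hmove (orderOf_eq_one_iff.1 (by rw [hl, h0, pow_zero]))
        have hmem : Dihedral.autPerm U ⟨s, hsN⟩ ∈ (Dihedral.autPerm U).range := ⟨_, rfl⟩
        exact (hl ▸ dvd_pow_self 2 hl0 : 2 ∣ orderOf (Dihedral.autPerm U ⟨s, hsN⟩)).trans
          (Subgroup.orderOf_dvd_natCard _ hmem)
      exact Nat.dvd_antisymm h6 (Nat.Coprime.mul_dvd_of_dvd_of_dvd (by norm_num) h2 h3 :)
  · exact fun h => D.fusionSimple_of_isConj hm (h.elim id hthree)

end Cfsg.Agent.S1255
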