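import Cfsg.Statements.S1256
import Cfsg.Agent.Lib.Fusion.DihedralClasses

set_option autoImplicit false
open Cfsg
open Cfsg.Agent.Lib.Fusion

namespace Cfsg.Agent.S1256

theorem zmod_two_cases : ∀ v : ZMod 2, v = 0 ∨ v = 1 := by decide

/-- Let X be a finite group whose Sylow 2-subgroup S is dihedral of order 2m ≥ 4. If |S| = 4, any two Klein four-subgroups of X are conjugate; if |S| > 4, there are Klein four-subgroups U₁, U₂ of X that are not conjugate, and every Klein four-subgroup of X is conjugate to U₁ or to U₂. -/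
theorem result {X : Type*} [Group X] [Finite X] (S : Sylow 2 X) (m : ℕ) (hm : 2 ≤ m) (eS : (S : Subgroup X) ≃* DihedralGroup m) : (Nat.card S = 4 → ∀ U V : Subgroup X, IsKleinFour U → IsKleinFour V → (∃ x : X, U.map (MulAut.conj x).toMonoidHom = V)) ∧ (4 < Nat.card S → ∃ U₁ U₂ : Subgroup X, IsKleinFour U₁ ∧ IsKleinFour U₂ ∧ ¬ (∃ x : X, U₁.map (MulAut.conj x).toMonoidHom = U₂) ∧ ∀ V : Subgroup X, IsKleinFour V → (∃ x : X, V.map (MulAut.conj x).toMonoidHom = U₁) ∨ (∃ x : X, V.map (MulAut.conj x).toMonoidHom = U₂)) := by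
  have : Fact (Nat.Prime 2) := ⟨Nat.prime_two⟩
  let D := Dihedral.Coords.ofEquiv eS
  have hmove : ∀ V : Subgroup X, IsKleinFour V → ∃ g : X, Alperin.conjS g V ≤ S := by
    intro V hV
    obtain ⟨Q, hQ⟩ := (Dihedral.isFour_iff.2 hV).isPGroup.exists_le_sylow
    obtain ⟨g, hg⟩ := MulAction.exists_smul_eq X Q S
    refine ⟨g, ?_⟩
    rw [← hg]
    intro x hx
    rw [Alperin.mem_conjS] at hx
    have := Subgroup.smul_mem_pointwise_smul _ (MulAut.conj g) _ (hQ hx)
    rw [Sylow.coe_subgroup_smul]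
    simpa [mul_assoc] using this
  have hcard : Nat.card (S : Subgroup X) = 2 * m := D.card
  constructor
  · intro h4 U V hU hV
    obtain ⟨a, ha⟩ := hmove U hU
    obtain ⟨b, hb⟩ := hmove V hV
    refine ⟨b⁻¹ * a, ?_⟩
    have ea : Alperin.conjS a U = (S : Subgroup X) :=
      Subgroup.eq_of_le_of_card_ge ha (by rw [Alperin.card_conjS, hU.card_four, h4])
    have eb : Alperin.conjS b V = (S : Subgroup X) :=
      Subgroup.eq_of_le_of_card_ge hb (by rw [Alperin.card_conjS, hV.card_four, h4])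
    show Alperin.conjS (b⁻¹ * a) U = V
    rw [Alperin.conjS_mul, ea, ← eb, Alperin.conjS_inv_conjS]
  · intro h4
    have hm4 : 4 ≤ m := by
      obtain ⟨k, hk⟩ := D.exists_pow hm
      rcases k with _ | k
      · rw [show m = 2 by simpa using hk] at hcard
        exact absurd (h4.trans_le hcard.le) (by norm_num)
      · calc 4 = 2 ^ 2 := rfl
          _ ≤ m := hk ▸ Nat.pow_le_pow_right two_pos (show 2 ≤ k + 1 + 1 by omega)
    have hm2 := D.two_dvd hm
    obtain ⟨U₁, h1S, h1f, h1m⟩ := D.exists_four hm (D.four_dvd hm4) 0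
    obtain ⟨U₂, h2S, h2f, h2m⟩ := D.exists_four hm (D.four_dvd hm4) 1
    refine ⟨U₁, U₂, Dihedral.isFour_iff.1 h1f, Dihedral.isFour_iff.1 h2f, ?_, ?_⟩
    · rintro ⟨x, hx⟩
      obtain ⟨j, hj, hjm⟩ := D.par_of_conj hm4 hm2 (g := x) h1S (hx.le.trans h2S) h1f h1m
      rw [show Alperin.conjS x U₁ = U₂ from hx] at hjm
      have h3 : D.φ (DihedralGroup.sr j) ∈ D.fourSet 1 := D.four_eq hm h2S h2f h2m ▸ hjm
      have key : ∀ k, D.φ (DihedralGroup.sr k) ∈ D.fourSet 1 → Dihedral.par hm2 k = 1 := by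
        intro k hk
        simp only [Dihedral.Coords.fourSet, Set.mem_insert_iff, Set.mem_singleton_iff] at hk
        rcases hk with h | h | h | h
        · rw [← map_one D.φ] at h; exact absurd (D.inj h) (by simp [DihedralGroup.one_def, -DihedralGroup.r_zero])
        · exact absurd (D.inj h) (by simp)
        · rw [DihedralGroup.sr.inj (D.inj h), map_one]
        · rw [DihedralGroup.sr.inj (D.inj h), map_add, map_one,
            Dihedral.par_half (D.four_dvd hm4), add_zero]
      rw [key j h3, map_zero] at hj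
      exact one_ne_zero hj
    · intro V hV
      obtain ⟨g, hg⟩ := hmove V hV
      have hVf := (Dihedral.isFour_iff.2 hV).map g
      obtain ⟨k, hk⟩ := D.four_contains_sr hm hg hVf
      rcases zmod_two_cases (Dihedral.par hm2 k) with hp | hp
      · left
        obtain ⟨s, -, hs⟩ := D.four_conj hm hm2 hg hVf h1S h1f hk h1m (by rw [hp, map_zero])
        exact ⟨s * g, by rw [← Alperin.conjS, Alperin.conjS_mul]; exact hs⟩
      · right
        obtain ⟨s, -, hs⟩ := D.four_conj hm hm2 hg hVf h2S h2f hk h2m (by rw [hp, map_one])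
        exact ⟨s * g, by rw [← Alperin.conjS, Alperin.conjS_mul]; exact hs⟩

end Cfsg.Agent.S1256
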