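import Cfsg.Statements.S1258
import Cfsg.Agent.Lib.Components.Basic

set_option autoImplicit false
set_option linter.style.haveILetI false
open scoped commutatorElement
open Cfsg

namespace Cfsg.Agent.S1258

/-- If the central quotient of a finite group X is non-abelian simple, then X = X' Z(X) and the commutator subgroup X' is quasisimple. -/
theorem result {X : Type*} [Group X] [Finite X] (hs : IsSimpleGroup (X ⧸ Subgroup.center X)) (hna : ¬ IsMulCommutative (X ⧸ Subgroup.center X)) : commutator X ⊔ Subgroup.center X = ⊤ ∧ Cfsg.IsQuasisimple ↥(commutator X) := by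
  haveI := hs
  have hsurj : Function.Surjective (QuotientGroup.mk' (Subgroup.center X)) :=
    QuotientGroup.mk'_surjective _
  have hperfQ : commutator (X ⧸ Subgroup.center X) = ⊤ :=
    (Subgroup.Normal.eq_bot_or_eq_top inferInstance).resolve_left
      fun hb => hna ((commutator_eq_bot_iff _).mp hb)
  have hmap : (commutator X).map (QuotientGroup.mk' (Subgroup.center X)) = ⊤ := by
    rw [commutator_def, Subgroup.map_commutator, Subgroup.map_top_of_surjective _ hsurj,
      ← commutator_def, hperfQ]
  have hsup : commutator X ⊔ Subgroup.center X = ⊤ := by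
    have h1 := congrArg (Subgroup.comap (QuotientGroup.mk' (Subgroup.center X))) hmap
    rwa [Subgroup.comap_map_eq, QuotientGroup.ker_mk', Subgroup.comap_top] at h1
  refine ⟨hsup, ?_, ?_⟩
  · rw [Subgroup.isPerfect_iff]
    refine le_antisymm (Subgroup.commutator_le_self _) ?_
    show commutator X ≤ ⁅commutator X, commutator X⁆
    conv_lhs => rw [commutator_def]
    rw [Subgroup.commutator_le]
    intro a _ b _
    have hsurj' : ∀ x : X, ∃ d ∈ commutator X, ∃ z ∈ Subgroup.center X, x = d * z := by
      intro x
      obtain ⟨d, hd, z, hz, hdz⟩ :=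
        Subgroup.mem_sup_of_normal_right.mp (show x ∈ commutator X ⊔ Subgroup.center X by simp [hsup])
      exact ⟨d, hd, z, hz, hdz.symm⟩
    obtain ⟨d, hd, z, hz, rfl⟩ := hsurj' a
    obtain ⟨e, he, w, hw, rfl⟩ := hsurj' b
    have hz' := Subgroup.mem_center_iff.mp hz
    have hw' := Subgroup.mem_center_iff.mp hw
    have key : ⁅d * z, e * w⁆ = ⁅d, e⁆ := by
      rw [commutatorElement_def, commutatorElement_def, mul_inv_rev, mul_inv_rev]
      calc d * z * (e * w) * (z⁻¹ * d⁻¹) * (w⁻¹ * e⁻¹)
          = d * ((z * (e * w)) * z⁻¹) * d⁻¹ * (w⁻¹ * e⁻¹) := by group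
        _ = d * e * (w * d⁻¹) * w⁻¹ * e⁻¹ := by rw [← hz' (e * w)]; group
        _ = d * e * d⁻¹ * e⁻¹ := by rw [← hw' d⁻¹]; group
    rw [key]
    exact Subgroup.commutator_mem_commutator hd he
  · set f := (QuotientGroup.mk' (Subgroup.center X)).comp (commutator X).subtype with hf
    have hfs : Function.Surjective f := by
      intro q
      obtain ⟨d, hd, hq⟩ := (show q ∈ (commutator X).map (QuotientGroup.mk' (Subgroup.center X)) by
        simp [hmap])
      exact ⟨⟨d, hd⟩, hq⟩
    have hker : f.ker = Subgroup.center ↥(commutator X) := by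
      ext x
      rw [MonoidHom.mem_ker, hf, MonoidHom.comp_apply, QuotientGroup.mk'_apply,
        QuotientGroup.eq_one_iff, Subgroup.mem_center_iff, Subgroup.mem_center_iff]
      refine ⟨fun h y => Subtype.ext (h (y : X)), fun h y => ?_⟩
      obtain ⟨d, hd, z, hz, hdz⟩ :=
        Subgroup.mem_sup_of_normal_right.mp (show y ∈ commutator X ⊔ Subgroup.center X by simp [hsup])
      rw [← hdz]
      have h1 : d * (x : X) = (x : X) * d := congrArg Subtype.val (h ⟨d, hd⟩)
      have h2 := Subgroup.mem_center_iff.mp hz (x : X)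
      simp only [Subgroup.coe_subtype]
      rw [mul_assoc, ← h2, ← mul_assoc, h1, mul_assoc]
    exact ((QuotientGroup.quotientMulEquivOfEq hker).symm.trans
      (QuotientGroup.quotientKerEquivOfSurjective f hfs)).isSimpleGroup

end Cfsg.Agent.S1258
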