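import Cfsg.Statements.S1263
import Cfsg.Agent.Lib.Components.Basic

set_option autoImplicit false
set_option linter.style.haveILetI false
open scoped commutatorElement
open Cfsg

namespace Cfsg.Agent.S1263

/-- For a finite group G, Z(E(G)) is the subgroup generated by the centres Z(L) of the components L of G (all viewed as subgroups of G). -/
theorem result {G : Type*} [Group G] [Finite G] : (Subgroup.center ↥(Cfsg.layer G)).map (Cfsg.layer G).subtype = ⨆ L : {K : Subgroup G // Cfsg.IsComponent K}, (Subgroup.center ↥(L : Subgroup G)).map (L : Subgroup G).subtype := by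
  have hle : ∀ K : Subgroup G, IsComponent K → K ≤ Cfsg.layer G := fun K hK => le_sSup hK
  refine le_antisymm ?_ (iSup_le fun L => ?_)
  · have key : ∀ S : Set {K : Subgroup G // IsComponent K}, S.Finite →
        ∀ z ∈ ⨆ L ∈ S, (L : Subgroup G), (∀ L ∈ S, z ∈ Subgroup.centralizer ((L : Subgroup G) : Set G)) →
        z ∈ ⨆ L : {K : Subgroup G // IsComponent K},
          (Subgroup.center ↥(L : Subgroup G)).map (L : Subgroup G).subtype := by
      intro S hS
      induction S, hS using Set.Finite.induction_on with
      | empty =>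
        intro z hz _
        simp only [Set.mem_empty_iff_false, iSup_false, iSup_bot, Subgroup.mem_bot] at hz
        exact hz ▸ one_mem _
      | @insert L S hLS _ ih =>
        intro z hz hcen
        rw [iSup_insert] at hz
        have hLc : ∀ M ∈ S, (L : Subgroup G) ≤ Subgroup.centralizer ((M : Subgroup G) : Set G) :=
          fun M hM => Cfsg.Agent.Lib.Components.Component.le_centralizer_of_ne L.2 M.2
            fun he => hLS (Subtype.ext he ▸ hM)
        have hnorm : (L : Subgroup G) ≤ Subgroup.normalizer ((⨆ M ∈ S, (M : Subgroup G) : Subgroup G) : Set G) := by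
          refine le_trans ?_ (Subgroup.centralizer_le_normalizer _)
          rw [Subgroup.le_centralizer_iff]
          exact iSup₂_le fun M hM => Subgroup.le_centralizer_iff.1 (hLc M hM)
        rw [← SetLike.mem_coe, Subgroup.coe_mul_of_left_le_normalizer_right _ _ hnorm] at hz
        obtain ⟨l, hl, m, hm, rfl⟩ := hz
        have hlc : l ∈ Subgroup.centralizer ((L : Subgroup G) : Set G) := by
          have hmc : m ∈ Subgroup.centralizer ((L : Subgroup G) : Set G) :=
            (iSup₂_le (f := fun M (_ : M ∈ S) => (M : Subgroup G))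
              fun M hM => Subgroup.le_centralizer_iff.1 (hLc M hM)) hm
          exact (Subgroup.mul_mem_cancel_right _ hmc).1 (hcen L (Set.mem_insert _ _))
        refine mul_mem (Subgroup.mem_iSup_of_mem L ?_) (ih m hm fun M hM => ?_)
        · exact ⟨⟨l, hl⟩, Subgroup.mem_center_iff.2 fun y =>
            Subtype.ext (Subgroup.mem_centralizer_iff.1 hlc y y.2), rfl⟩
        · exact (Subgroup.mul_mem_cancel_left _ (hLc M hM hl)).1 (hcen M (Set.mem_insert_of_mem _ hM))
    rintro z ⟨⟨z, hzE⟩, hzc, rfl⟩
    refine key Set.univ (Set.toFinite _) z ?_ ?_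
    · exact (sSup_le fun K hK => le_iSup₂_of_le (⟨K, hK⟩ : {K : Subgroup G // IsComponent K})
        (Set.mem_univ _) le_rfl : Cfsg.layer G ≤ _) hzE
    · intro L _
      exact Subgroup.mem_centralizer_iff.2 fun y hy =>
        congrArg Subtype.val (Subgroup.mem_center_iff.1 hzc ⟨y, hle _ L.2 hy⟩)
  · rintro z ⟨⟨z, hzL⟩, hzc, rfl⟩
    refine ⟨⟨z, hle _ L.2 hzL⟩, Subgroup.mem_center_iff.2 fun y => Subtype.ext ?_, rfl⟩
    have hc : z ∈ Subgroup.centralizer (Cfsg.layer G : Set G) := by
      have h0 : Subgroup.zpowers z ≤ Subgroup.centralizer (Cfsg.layer G : Set G) := by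
        rw [Subgroup.le_centralizer_iff]
        refine sSup_le fun K hK => ?_
        rw [Subgroup.le_centralizer_iff, Subgroup.zpowers_le]
        by_cases hKL : K = (L : Subgroup G)
        · rw [hKL]
          exact Subgroup.mem_centralizer_iff.2 fun y hy =>
            congrArg Subtype.val (Subgroup.mem_center_iff.1 hzc ⟨y, hy⟩)
        · exact Cfsg.Agent.Lib.Components.Component.le_centralizer_of_ne L.2 hK (Ne.symm hKL) hzL
      exact h0 (Subgroup.mem_zpowers z)
    exact Subgroup.mem_centralizer_iff.1 hc y y.2

end Cfsg.Agent.S1263
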