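import Cfsg.Statements.S1264
import Cfsg.Agent.Lib.Cores.Basic

set_option autoImplicit false
set_option linter.style.haveILetI false
open scoped commutatorElement
open Cfsg

namespace Cfsg.Agent.S1264

/-- Let G be finite, C = C_G(F(G)) the centralizer of the Fitting subgroup, and N a solvable subgroup of C normalized by C. Then N ≤ Z(F(G)). -/
theorem result {G : Type*} [Group G] [Finite G] (N : Subgroup G) (hN : N ≤ Subgroup.centralizer (Cfsg.fittingSubgroup G : Set G)) (hnorm : Subgroup.centralizer (Cfsg.fittingSubgroup G : Set G) ≤ Subgroup.normalizer (N : Set G)) (hsolv : Group.IsSolvable ↥N) : N ≤ (Subgroup.center ↥(Cfsg.fittingSubgroup G)).map (Cfsg.fittingSubgroup G).subtype := by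
  set F := Cfsg.fittingSubgroup G with hF
  haveI : (Subgroup.centralizer (F : Set G)).Normal := Subgroup.normal_centralizer
  have hNsn : N.IsSubnormal :=
    Subgroup.IsSubnormal.step _ _ hN (inferInstance : (Subgroup.centralizer (F : Set G)).Normal).isSubnormal
      (Subgroup.normal_subgroupOf_of_le_normalizer hnorm)
  have key : ∀ n, (derivedSeries ↥N (n + 1)).map N.subtype ≤ F →
      (derivedSeries ↥N n).map N.subtype ≤ F := by
    intro n h
    have hsn : ((derivedSeries ↥N n).map N.subtype).IsSubnormal :=
      (derivedSeries_normal ↥N n).isSubnormal.trans' hNsn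
    refine Cfsg.Agent.Lib.Cores.IsSubnormal.le_fittingSubgroup hsn
      (Subgroup.isNilpotent_of_lowerCentralSeries_eq_bot (n := 2) ?_)
    rw [Subgroup.lowerCentralSeries_succ, Subgroup.lowerCentralSeries_succ,
      Subgroup.lowerCentralSeries_zero, Subgroup.commutator_eq_bot_iff_le_centralizer,
      ← Subgroup.map_commutator, ← derivedSeries_succ]
    refine le_trans h ?_
    rw [Subgroup.le_centralizer_iff]
    exact (Subgroup.map_subtype_le _).trans hN
  obtain ⟨n, hn⟩ := hsolv.solvable
  have hNF : N ≤ F := by
    have hbot : (derivedSeries ↥N n).map N.subtype ≤ F := by rw [hn, Subgroup.map_bot]; exact bot_le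
    clear hn
    induction n with
    | zero => rwa [derivedSeries_zero, ← MonoidHom.range_eq_map, Subgroup.range_subtype] at hbot
    | succ n ih => exact ih (key n hbot)
  intro x hx
  exact ⟨⟨x, hNF hx⟩, Subgroup.mem_center_iff.2 fun y =>
    Subtype.ext (Subgroup.mem_centralizer_iff.1 (hN hx) y y.2), rfl⟩

end Cfsg.Agent.S1264
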