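import Cfsg.Statements.S1273
import Cfsg.Agent.Lib.Balance.PLayer

set_option autoImplicit false
set_option linter.style.haveILetI false
open Cfsg

namespace Cfsg.Agent.S1273

/-- Let K be a p-component of the finite group X and N a normal subgroup of K whose index in K is prime to p. Then N = K. -/
theorem result {X : Type*} [Group X] [Finite X] (p : ℕ) [Fact p.Prime] (K : Subgroup X) (hK : Cfsg.IsPComponent p K) (N : Subgroup ↥K) [N.Normal] (hidx : (N.index).Coprime p) : N = ⊤ := by
  set φ := (QuotientGroup.mk' (pPrimeCore p X)).subgroupMap K with hφdef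
  have hφ : Function.Surjective φ := (QuotientGroup.mk' (pPrimeCore p X)).subgroupMap_surjective K
  rcases Cfsg.Agent.Lib.Components.Quasisimple.normal_le_center_or_eq_top hK.2.1.2
      ((inferInstance : N.Normal).map φ hφ) with hc | ht
  · refine absurd (Nat.Coprime.of_dvd_left ?_ hidx)
      (Cfsg.Agent.Lib.Components.PComponent.component_center_index_not_coprime
        (Cfsg.Agent.Lib.Cores.pPrimeCore_quotient_pPrimeCore p) hK.2.1)
    exact (Subgroup.index_dvd_of_le hc).trans (Subgroup.index_map_dvd _ hφ)
  · have he : (N.map K.subtype).map (QuotientGroup.mk' (pPrimeCore p X)) =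
        K.map (QuotientGroup.mk' (pPrimeCore p X)) := by
      refine le_antisymm (Subgroup.map_mono (Subgroup.map_subtype_le N)) fun y hy => ?_
      obtain ⟨x, hx, hxy⟩ : (⟨y, hy⟩ : ↥(K.map (QuotientGroup.mk' (pPrimeCore p X)))) ∈ N.map φ :=
        ht ▸ Subgroup.mem_top _
      exact ⟨(x : X), ⟨x, hx, rfl⟩, congrArg Subtype.val hxy⟩
    have h1 := Cfsg.Agent.Lib.Components.PComponent.eq_of_map_eq_of_le hK
      ((inferInstance : N.Normal).isSubnormal.trans' hK.1) (Subgroup.map_subtype_le N) he
    exact Subgroup.map_injective K.subtype_injective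
      (h1.trans (by rw [← MonoidHom.range_eq_map, Subgroup.range_subtype]))

end Cfsg.Agent.S1273
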