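import Cfsg.Statements.S1277
import Cfsg.Agent.Lib.Balance.PLayer

set_option autoImplicit false
set_option linter.style.haveILetI false
open Cfsg

namespace Cfsg.Agent.S1277

/-- For a finite group X with core O(X): the image of E(X) in X / O(X) is all of E(X / O(X)) if and only if every 2-component of X is a component, i.e. L_{2'}(X) ≤ E(X). -/
theorem result {X : Type*} [Group X] [Finite X] : (Cfsg.layer X).map (QuotientGroup.mk' (Cfsg.oddCore X)) = Cfsg.layer (X ⧸ Cfsg.oddCore X) ↔ Cfsg.pLayer 2 X ≤ Cfsg.layer X := by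
  haveI : Fact (Nat.Prime 2) := ⟨Nat.prime_two⟩
  have hle : (Cfsg.layer X).map (QuotientGroup.mk' (Cfsg.oddCore X)) ≤ Cfsg.layer (X ⧸ Cfsg.oddCore X) := by
    rw [Subgroup.map_le_iff_le_comap]
    refine sSup_le fun K hK => Subgroup.map_le_iff_le_comap.1 ?_
    by_cases hb : K.map (QuotientGroup.mk' (Cfsg.oddCore X)) = ⊥
    · rw [hb]; exact bot_le
    haveI : Nontrivial ↥(K.map (QuotientGroup.mk' (Cfsg.oddCore X))) :=
      (Subgroup.nontrivial_iff_ne_bot _).2 hb
    exact le_sSup ⟨hK.1.map (QuotientGroup.mk'_surjective _),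
      Cfsg.Agent.Lib.Components.Quasisimple.of_surjective hK.2
        ((QuotientGroup.mk' _).subgroupMap_surjective K)⟩
  constructor
  · intro h
    refine sSup_le fun K hK => ?_
    refine Cfsg.Agent.Lib.Components.PComponent.le_of_subnormal hK
      (Cfsg.Agent.Lib.Components.Layer.layer_normal (G := X)).isSubnormal ?_
    have h1 : K.map (QuotientGroup.mk' (Cfsg.oddCore X)) ≤
        (Cfsg.layer X).map (QuotientGroup.mk' (Cfsg.oddCore X)) :=
      h ▸ Cfsg.Agent.Lib.Components.Layer.component_le_layer hK.2.1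
    rwa [Subgroup.map_le_map_iff, QuotientGroup.ker_mk'] at h1
  · intro h
    exact le_antisymm hle
      ((Cfsg.Agent.Lib.Components.PComponent.map_pLayer (p := 2) (G := X)).symm.le.trans
        (Subgroup.map_mono h))

end Cfsg.Agent.S1277
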