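import Cfsg.Statements.S1278
import Cfsg.Agent.Lib.Balance.PLayer

set_option autoImplicit false
set_option linter.style.haveILetI false
open Cfsg

namespace Cfsg.Agent.S1278

/-- Let K ≠ L be 2-components of the finite group X. Then ⁅K, L⁆ ≤ O(K) ⊓ O(L), and if K is quasisimple then ⁅K, L⁆ = 1. -/
theorem result {X : Type*} [Group X] [Finite X] (K L : Subgroup X) (hK : Cfsg.IsPComponent 2 K) (hL : Cfsg.IsPComponent 2 L) (hne : K ≠ L) : ⁅K, L⁆ ≤ ((Cfsg.oddCore ↥K).map K.subtype) ⊓ ((Cfsg.oddCore ↥L).map L.subtype) ∧ (Cfsg.IsQuasisimple ↥K → ⁅K, L⁆ = ⊥) := by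
  haveI : Fact (Nat.Prime 2) := ⟨Nat.prime_two⟩
  have hO := Cfsg.Agent.Lib.Components.PComponent.commutator_le hK hL hne
  have hK' : ⁅K, L⁆ ≤ K := Subgroup.le_normalizer_iff_commutator_le_left.1
    (Cfsg.Agent.Lib.Components.PComponent.le_normalizer hK hL)
  have hL' : ⁅K, L⁆ ≤ L := Subgroup.le_normalizer_iff_commutator_le_right.1
    (Cfsg.Agent.Lib.Components.PComponent.le_normalizer hL hK)
  have h1 : ⁅K, L⁆ ≤ Cfsg.Agent.Lib.Balance.coreIn 2 K :=
    (Cfsg.Agent.Lib.Balance.coreIn_eq_inf_of_isSubnormal hK.1).symm ▸ le_inf hK' hO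
  refine ⟨le_inf h1
    ((Cfsg.Agent.Lib.Balance.coreIn_eq_inf_of_isSubnormal (p := 2) hL.1).symm ▸ le_inf hL' hO :
      ⁅K, L⁆ ≤ Cfsg.Agent.Lib.Balance.coreIn 2 L), fun hq => ?_⟩
  have h2 := (Cfsg.Agent.Lib.Balance.isQuasisimple_pComponent_iff hK).1 hq
  rw [Subgroup.commutator_comm]
  refine Cfsg.Agent.Lib.Components.commutator_eq_bot_of_perfect
    (Cfsg.Agent.Lib.Components.PComponent.commutator_self hK) (le_bot_iff.1 ?_)
  rw [← h2, Subgroup.commutator_comm K]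
  exact Subgroup.commutator_mono (by rwa [Subgroup.commutator_comm]) le_rfl

end Cfsg.Agent.S1278
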