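import Cfsg.Statements.S1279
import Cfsg.Agent.Lib.Balance.Functor

set_option autoImplicit false
set_option linter.style.haveILetI false
open scoped Pointwise
open Cfsg

namespace Cfsg.Agent.S1279

/-- Let A be a noncyclic elementary abelian p-subgroup of the finite group G such that C_G(a) is solvable for every non-identity a ∈ A. Then a ↦ O_{p'}(C_G(a)) is a solvable A-signalizer functor on G. -/
theorem result {G : Type*} [Group G] [Finite G] (p : ℕ) [Fact p.Prime] (A : Subgroup G) (hA : Cfsg.IsElementaryAbelian p A) (hA2 : p ^ 2 ≤ Nat.card ↥A) (hsolv : ∀ a ∈ A, a ≠ 1 → Group.IsSolvable ↥(Subgroup.centralizer ({a} : Set G))) : Cfsg.IsSolvableSignalizerFunctor p A (fun a => Cfsg.centralizerPPrimeCore p a) := by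
  haveI := hA.1
  refine ⟨⟨fun a _ _ => Cfsg.Agent.Lib.Balance.centralizerPPrimeCore_le a,
    fun a _ _ => Cfsg.Agent.Lib.Balance.not_dvd_card_centralizerPPrimeCore a,
    fun a ha _ b hb x hx => ?_, fun a ha ha1 b hb hb1 => ?_⟩, fun a ha ha1 => ?_⟩
  · have hab : b ∈ Subgroup.centralizer ({a} : Set G) :=
      Subgroup.mem_centralizer_singleton_iff.2 (congrArg Subtype.val (hA.1.is_comm.comm (⟨b, hb⟩ : ↥A) ⟨a, ha⟩))
    exact (Subgroup.mem_normalizer_iff.1
      (Cfsg.Agent.Lib.Balance.centralizer_le_normalizer_centralizerPPrimeCore a hab) x).1 hx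
  · haveI := hsolv b hb hb1
    exact Cfsg.Agent.Lib.Balance.balance_of_pLayer_eq_bot (orderOf_eq_prime (hA.2 a ha) ha1)
      (congrArg Subtype.val (hA.1.is_comm.comm (⟨a, ha⟩ : ↥A) ⟨b, hb⟩))
      Cfsg.Agent.Lib.Balance.pLayer_eq_bot_of_isSolvable
  · haveI := hsolv a ha ha1
    exact Group.isSolvable_of_isSolvable_injective
      (Subgroup.inclusion_injective (Cfsg.Agent.Lib.Balance.centralizerPPrimeCore_le a))

end Cfsg.Agent.S1279
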