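import Cfsg.Statements.S1280
import Cfsg.Agent.Lib.Signalizer.Basic
import Cfsg.Agent.Lib.Coprime.Glauberman
import Cfsg.Agent.Lib.LA5.Basic

set_option autoImplicit false
set_option linter.style.haveILetI false
open scoped Pointwise
open Cfsg

namespace Cfsg.Agent.S1280

/-- Let θ be a solvable A-signalizer functor (A a noncyclic elementary abelian p-subgroup of the finite group G), and X, Y members of its family with Y ≤ N_G(X). Then X ⊔ Y (= XY) is again in the family. -/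
theorem result {G : Type*} [Group G] [Finite G] (p : ℕ) [Fact p.Prime] (A : Subgroup G) (hA : Cfsg.IsElementaryAbelian p A) (hA2 : p ^ 2 ≤ Nat.card ↥A) (θ : G → Subgroup G) (hθ : Cfsg.IsSolvableSignalizerFunctor p A θ) (X Y : Subgroup G) (hX : X ∈ Cfsg.signalizerFamily p A θ) (hY : Y ∈ Cfsg.signalizerFamily p A θ) (hn : Y ≤ Subgroup.normalizer (X : Set G)) : X ⊔ Y ∈ Cfsg.signalizerFamily p A θ := by
  haveI := hX.1
  haveI := hY.1
  have hnX : (X.subgroupOf (X ⊔ Y)).Normal :=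
    Subgroup.normal_subgroupOf_of_le_normalizer (sup_le Subgroup.le_normalizer hn)
  have hset := Subgroup.coe_mul_of_right_le_normalizer_left X Y hn
  have hcard : Nat.card ↥(X ⊔ Y) * Nat.card ↥(X ⊓ Y) = Nat.card ↥X * Nat.card ↥Y := by
    have := Cfsg.Agent.Lib.LA5.Basic.card_mul_card_inf X Y
    rw [← hset] at this
    exact this
  refine ⟨?_, ?_, ?_, ?_⟩
  · haveI : Group.IsSolvable ↥(X.subgroupOf (X ⊔ Y)) := Group.isSolvable_of_surjective
      (f := (Subgroup.subgroupOfEquivOfLe (le_sup_left : X ≤ X ⊔ Y)).symm.toMonoidHom)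
      (Subgroup.subgroupOfEquivOfLe (le_sup_left : X ≤ X ⊔ Y)).symm.surjective
    haveI : Group.IsSolvable (↥(X ⊔ Y) ⧸ X.subgroupOf (X ⊔ Y)) := by
      refine Group.isSolvable_of_surjective (G := ↥Y)
        (f := (QuotientGroup.mk' (X.subgroupOf (X ⊔ Y))).comp (Subgroup.inclusion le_sup_right)) ?_
      intro q
      obtain ⟨z, rfl⟩ := QuotientGroup.mk'_surjective _ q
      obtain ⟨x, hx, y, hy, hxy⟩ : (z : G) ∈ (X : Set G) * (Y : Set G) := hset ▸ z.2
      refine ⟨⟨y, hy⟩, (QuotientGroup.eq_iff_div_mem).2 ?_⟩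
      show (((⟨y, (le_sup_right : Y ≤ X ⊔ Y) hy⟩ : ↥(X ⊔ Y)) / z : ↥(X ⊔ Y)) : G) ∈ X
      rw [Subgroup.coe_div, ← hxy]
      have e : y / (x * y) = x⁻¹ := by rw [div_eq_mul_inv, mul_inv_rev, mul_inv_cancel_left]
      show y / (x * y) ∈ X
      rw [e]
      exact X.inv_mem hx
    exact Group.isSolvable_of_ker_le_range (X.subgroupOf (X ⊔ Y)).subtype
      (QuotientGroup.mk' (X.subgroupOf (X ⊔ Y))) (by rw [QuotientGroup.ker_mk', Subgroup.range_subtype])
  · intro hd
    rcases (Fact.out : p.Prime).dvd_mul.1 (hd.trans (Dvd.intro _ hcard)) with h | h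
    · exact hX.2.1 h
    · exact hY.2.1 h
  · rw [← Cfsg.Agent.Lib.Signalizer.le_normalizer_iff_conj_mem]
    exact Cfsg.Agent.Lib.Coprime.le_normalizer_sup
      (Cfsg.Agent.Lib.Signalizer.le_normalizer_of_mem hX) (Cfsg.Agent.Lib.Signalizer.le_normalizer_of_mem hY)
  · intro a ha ha1 z hz
    have hzs : z ∈ (X : Set G) * (Y : Set G) := hset ▸ hz.1
    obtain ⟨x, hx, y, hy, rfl⟩ := hzs
    have hcop : (Nat.card ↥(Subgroup.zpowers a)).Coprime (Nat.card ↥(X ⊓ Y)) := by
      rw [Nat.card_zpowers, orderOf_eq_prime (hA.2 a ha) ha1]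
      exact (Fact.out : p.Prime).coprime_iff_not_dvd.2
        fun h => hX.2.1 (h.trans (Subgroup.card_dvd_of_le inf_le_left))
    have hfix : x * y ∈ Subgroup.centralizer (Subgroup.zpowers a : Set G) := by
      rw [Subgroup.zpowers_eq_closure, Subgroup.centralizer_closure]; exact hz.2
    obtain ⟨x', hx', y', hy', e⟩ := Cfsg.Agent.Lib.Coprime.exists_mul_eq_of_fixed
      ((Subgroup.zpowers_le.2 ha).trans (Cfsg.Agent.Lib.Signalizer.le_normalizer_of_mem hX))
      ((Subgroup.zpowers_le.2 ha).trans (Cfsg.Agent.Lib.Signalizer.le_normalizer_of_mem hY))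
      hcop (Or.inl (Cfsg.Agent.Lib.Coprime.isSolvable_zpowers a)) hx hy hfix
    show x * y ∈ θ a
    rw [e]
    have hc : Subgroup.centralizer (Subgroup.zpowers a : Set G) = Subgroup.centralizer ({a} : Set G) := by
      rw [Subgroup.zpowers_eq_closure, Subgroup.centralizer_closure]
    exact mul_mem (hX.2.2.2 a ha ha1 ⟨hx'.1, hc ▸ hx'.2⟩) (hY.2.2.2 a ha ha1 ⟨hy'.1, hc ▸ hy'.2⟩)

end Cfsg.Agent.S1280
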