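import Cfsg.Statements.S1281
import Cfsg.Agent.Lib.Signalizer.Basic
import Cfsg.Agent.Lib.Coprime.Glauberman

set_option autoImplicit false
set_option linter.style.haveILetI false
open scoped Pointwise
open Cfsg

namespace Cfsg.Agent.S1281

/-- Let θ be a solvable A-signalizer functor on the finite group G (A a noncyclic elementary abelian p-subgroup) and N a normal subgroup of order prime to p. Then for all non-identity a, b ∈ A, the image of θ a in G / N meets the centralizer of the image of b inside the image of θ b. -/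
theorem result {G : Type*} [Group G] [Finite G] (p : ℕ) [Fact p.Prime] (A : Subgroup G) (hA : Cfsg.IsElementaryAbelian p A) (hA2 : p ^ 2 ≤ Nat.card ↥A) (θ : G → Subgroup G) (hθ : Cfsg.IsSolvableSignalizerFunctor p A θ) (N : Subgroup G) [N.Normal] (hN : ¬ p ∣ Nat.card ↥N) (a b : G) (ha : a ∈ A) (ha1 : a ≠ 1) (hb : b ∈ A) (hb1 : b ≠ 1) : (θ a).map (QuotientGroup.mk' N) ⊓ Subgroup.centralizer {QuotientGroup.mk' N b} ≤ (θ b).map (QuotientGroup.mk' N) := by
  rintro z ⟨⟨x, hx, rfl⟩, hzb⟩
  set W := θ a ⊓ N with hW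
  have hAθ : A ≤ Subgroup.normalizer (θ a : Set G) := Cfsg.Agent.Lib.Signalizer.le_normalizer_theta hθ.1 ha ha1
  have hnW : Subgroup.zpowers b ≤ Subgroup.normalizer (W : Set G) :=
    Cfsg.Agent.Lib.Coprime.le_normalizer_inf ((Subgroup.zpowers_le.2 hb).trans hAθ)
      Subgroup.le_normalizer_of_normal
  have hcop : (Nat.card ↥(Subgroup.zpowers b)).Coprime (Nat.card ↥W) := by
    rw [Nat.card_zpowers, orderOf_eq_prime (hA.2 b hb) hb1]
    exact (Fact.out : p.Prime).coprime_iff_not_dvd.2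
      fun h => hN (h.trans (Subgroup.card_dvd_of_le inf_le_right))
  have hxz : ∀ u ∈ Subgroup.zpowers b, x⁻¹ * (u * x * u⁻¹) ∈ W := by
    intro u hu
    refine ⟨(θ a).mul_mem ((θ a).inv_mem hx)
      ((Subgroup.mem_normalizer_iff.1 (hAθ (Subgroup.zpowers_le.2 hb hu)) x).1 hx), ?_⟩
    have h2 : Subgroup.zpowers b ≤ (Subgroup.centralizer ({QuotientGroup.mk' N x} : Set (G ⧸ N))).comap
        (QuotientGroup.mk' N) := by
      rw [Subgroup.zpowers_le, Subgroup.mem_comap, Subgroup.mem_centralizer_singleton_iff]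
      exact (Subgroup.mem_centralizer_singleton_iff.1 hzb).symm
    have h3 := Subgroup.mem_centralizer_singleton_iff.1 (h2 hu)
    refine (QuotientGroup.eq_one_iff _).1 ?_
    show QuotientGroup.mk' N _ = 1
    rw [map_mul, map_mul, map_mul, map_inv, map_inv, h3]
    group
  obtain ⟨n, hn, hxn⟩ := Cfsg.Agent.Lib.Coprime.exists_mul_fixed hnW hcop
    (Or.inl (Cfsg.Agent.Lib.Coprime.isSolvable_zpowers b)) hxz
  rw [Subgroup.zpowers_eq_closure, Subgroup.centralizer_closure] at hxn
  refine ⟨x * n, Cfsg.Agent.Lib.Signalizer.balance hθ.1 ha ha1 hb hb1 ⟨mul_mem hx hn.1, hxn⟩, ?_⟩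
  rw [map_mul, show QuotientGroup.mk' N n = 1 from (QuotientGroup.eq_one_iff n).2 hn.2, mul_one]

end Cfsg.Agent.S1281
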