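import Cfsg.Statements.S1286

set_option autoImplicit false
open Cfsg

namespace Cfsg.Agent.S1286

abbrev X5 := Equiv.Perm (Fin 5)

def sa : X5 := Equiv.swap 3 4
def sb : X5 := Equiv.swap 0 1
def sc : X5 := Equiv.swap 0 1 * Equiv.swap 1 2
def sd : X5 := Equiv.swap 2 3 * Equiv.swap 3 4

def subA : Subgroup X5 where
  carrier := {x | x = 1 ∨ x = sa ∨ x = sb ∨ x = sa * sb}
  one_mem' := Or.inl rfl
  mul_mem' := by
    rintro x y (rfl | rfl | rfl | rfl) (rfl | rfl | rfl | rfl) <;>
      (show _ ∨ _ ∨ _ ∨ _; decide +kernel)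
  inv_mem' := by
    rintro x (rfl | rfl | rfl | rfl) <;> (show _ ∨ _ ∨ _ ∨ _; decide +kernel)

theorem mem_subA {x : X5} : x ∈ subA ↔ (x = 1 ∨ x = sa ∨ x = sb ∨ x = sa * sb) := Iff.rfl

def subU : Subgroup X5 where
  carrier := {x | x = 1 ∨ x = sc ∨ x = sc * sc}
  one_mem' := Or.inl rfl
  mul_mem' := by
    rintro x y (rfl | rfl | rfl) (rfl | rfl | rfl) <;>
      (show _ ∨ _ ∨ _; decide +kernel)
  inv_mem' := by
    rintro x (rfl | rfl | rfl) <;> (show _ ∨ _ ∨ _; decide +kernel)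

theorem mem_subU {x : X5} : x ∈ subU ↔ (x = 1 ∨ x = sc ∨ x = sc * sc) := Iff.rfl

def subV : Subgroup X5 where
  carrier := {x | x = 1 ∨ x = sd ∨ x = sd * sd}
  one_mem' := Or.inl rfl
  mul_mem' := by
    rintro x y (rfl | rfl | rfl) (rfl | rfl | rfl) <;>
      (show _ ∨ _ ∨ _; decide +kernel)
  inv_mem' := by
    rintro x (rfl | rfl | rfl) <;> (show _ ∨ _ ∨ _; decide +kernel)

theorem mem_subV {x : X5} : x ∈ subV ↔ (x = 1 ∨ x = sd ∨ x = sd * sd) := Iff.rfl

def theta (x : X5) : Subgroup X5 := if x = sa then subU else if x = sb then subV else ⊥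

theorem theta_sa : theta sa = subU := if_pos rfl

theorem theta_sb : theta sb = subV := by
  have : sb ≠ sa := by decide +kernel
  simp [theta, this]

theorem theta_sab : theta (sa * sb) = ⊥ := by
  have h1 : sa * sb ≠ sa := by decide +kernel
  have h2 : sa * sb ≠ sb := by decide +kernel
  simp [theta, h1, h2]

theorem card_subA : Nat.card ↥subA = 4 := by
  have h : (subA : Set X5) = ({1, sa, sb, sa * sb} : Finset X5) := by
    ext x; simp [mem_subA, SetLike.mem_coe]
  have : Nat.card ↥subA = Set.ncard (subA : Set X5) := rfl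
  rw [this, h, Set.ncard_coe_finset]
  decide +kernel

theorem card_subU : Nat.card ↥subU = 3 := by
  have h : (subU : Set X5) = ({1, sc, sc * sc} : Finset X5) := by
    ext x; simp [mem_subU, SetLike.mem_coe]
  have : Nat.card ↥subU = Set.ncard (subU : Set X5) := rfl
  rw [this, h, Set.ncard_coe_finset]
  decide +kernel

theorem card_subV : Nat.card ↥subV = 3 := by
  have h : (subV : Set X5) = ({1, sd, sd * sd} : Finset X5) := by
    ext x; simp [mem_subV, SetLike.mem_coe]
  have : Nat.card ↥subV = Set.ncard (subV : Set X5) := rfl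
  rw [this, h, Set.ncard_coe_finset]
  decide +kernel

theorem theta_cases {a : X5} (ha : a ∈ subA) (ha1 : a ≠ 1) :
    (a = sa ∧ theta a = subU) ∨ (a = sb ∧ theta a = subV) ∨ (a = sa * sb ∧ theta a = ⊥) := by
  rcases mem_subA.1 ha with rfl | rfl | rfl | rfl
  · exact absurd rfl ha1
  · exact Or.inl ⟨rfl, theta_sa⟩
  · exact Or.inr (Or.inl ⟨rfl, theta_sb⟩)
  · exact Or.inr (Or.inr ⟨rfl, theta_sab⟩)

theorem mem_cent {a x : X5} : x ∈ Subgroup.centralizer ({a} : Set X5) ↔ x * a = a * x := by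
  rw [Subgroup.mem_centralizer_iff]
  simp [eq_comm]

theorem signalizer : Cfsg.IsSignalizerFunctor 2 subA theta := by
  refine ⟨?_, ?_, ?_, ?_⟩
  · intro a ha ha1 x hx
    rw [mem_cent]
    rcases theta_cases ha ha1 with ⟨rfl, h⟩ | ⟨rfl, h⟩ | ⟨rfl, h⟩ <;> rw [h] at hx
    · rcases mem_subU.1 hx with rfl | rfl | rfl <;> decide +kernel
    · rcases mem_subV.1 hx with rfl | rfl | rfl <;> decide +kernel
    · rw [Subgroup.mem_bot] at hx; subst hx; simp
  · intro a ha ha1
    rcases theta_cases ha ha1 with ⟨rfl, h⟩ | ⟨rfl, h⟩ | ⟨rfl, h⟩ <;> rw [h]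
    · rw [card_subU]; decide
    · rw [card_subV]; decide
    · simp
  · intro a ha ha1 b hb x hx
    rcases theta_cases ha ha1 with ⟨rfl, h⟩ | ⟨rfl, h⟩ | ⟨rfl, h⟩ <;> rw [h] at hx ⊢
    · rw [mem_subU]
      rcases mem_subA.1 hb with rfl | rfl | rfl | rfl <;>
        rcases mem_subU.1 hx with rfl | rfl | rfl <;> decide +kernel
    · rw [mem_subV]
      rcases mem_subA.1 hb with rfl | rfl | rfl | rfl <;>
        rcases mem_subV.1 hx with rfl | rfl | rfl <;> decide +kernel
    · rw [Subgroup.mem_bot] at hx ⊢; subst hx; simp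
  · intro a ha ha1 b hb hb1 x hx
    obtain ⟨hx1, hx2⟩ := Subgroup.mem_inf.1 hx
    rw [mem_cent] at hx2
    rcases theta_cases ha ha1 with ⟨rfl, h⟩ | ⟨rfl, h⟩ | ⟨rfl, h⟩ <;> rw [h] at hx1
    · rcases theta_cases hb hb1 with ⟨rfl, h'⟩ | ⟨rfl, h'⟩ | ⟨rfl, h'⟩ <;> rw [h']
      · exact hx1
      all_goals
        rcases mem_subU.1 hx1 with rfl | rfl | rfl
        · exact Subgroup.one_mem _
        · exact absurd hx2 (by decide +kernel)
        · exact absurd hx2 (by decide +kernel)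
    · rcases theta_cases hb hb1 with ⟨rfl, h'⟩ | ⟨rfl, h'⟩ | ⟨rfl, h'⟩ <;> rw [h']
      rotate_left
      · exact hx1
      all_goals
        rcases mem_subV.1 hx1 with rfl | rfl | rfl
        · exact Subgroup.one_mem _
        · exact absurd hx2 (by decide +kernel)
        · exact absurd hx2 (by decide +kernel)
    · rw [Subgroup.mem_bot] at hx1; subst hx1; exact Subgroup.one_mem _

theorem isSolvable_of_card_three {H : Subgroup X5} (h : Nat.card ↥H = 3) : Group.IsSolvable ↥H := by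
  haveI : Fact (Nat.Prime 3) := ⟨by decide⟩
  haveI : IsCyclic ↥H := isCyclic_of_prime_card (p := 3) h
  infer_instance

theorem result : ∃ (X : Type) (_ : Group X) (_ : Finite X) (A : Subgroup X) (θ : X → Subgroup X), Cfsg.IsElementaryAbelian 2 A ∧ Nat.card ↥A = 4 ∧ Cfsg.IsSolvableSignalizerFunctor 2 A θ ∧ ¬ Cfsg.IsCompleteSignalizerFunctor 2 A θ := by
  refine ⟨X5, inferInstance, inferInstance, subA, theta, ⟨?_, ?_⟩, card_subA, ⟨signalizer, ?_⟩, ?_⟩
  · refine ⟨⟨fun x y => Subtype.ext ?_⟩⟩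
    obtain ⟨x, hx⟩ := x
    obtain ⟨y, hy⟩ := y
    show x * y = y * x
    rcases mem_subA.1 hx with rfl | rfl | rfl | rfl <;>
      rcases mem_subA.1 hy with rfl | rfl | rfl | rfl <;> decide +kernel
  · intro a ha
    rcases mem_subA.1 ha with rfl | rfl | rfl | rfl <;> decide +kernel
  · intro a ha ha1
    rcases theta_cases ha ha1 with ⟨rfl, h⟩ | ⟨rfl, h⟩ | ⟨rfl, h⟩ <;> rw [h]
    · exact isSolvable_of_card_three card_subU
    · exact isSolvable_of_card_three card_subV
    · infer_instance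
  · rintro ⟨_, W, _, hW, hcomp⟩
    have hsa : sa ∈ subA := mem_subA.2 (Or.inr (Or.inl rfl))
    have hsb : sb ∈ subA := mem_subA.2 (Or.inr (Or.inr (Or.inl rfl)))
    have h1 := hcomp sa hsa (by decide +kernel)
    have h2 := hcomp sb hsb (by decide +kernel)
    rw [theta_sa] at h1
    rw [theta_sb] at h2
    have hcW : sc ∈ W := by
      have : sc ∈ subU := mem_subU.2 (Or.inr (Or.inl rfl))
      rw [← h1] at this; exact this.1
    have hdW : sd ∈ W := by
      have : sd ∈ subV := mem_subV.2 (Or.inr (Or.inl rfl))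
      rw [← h2] at this; exact this.1
    have hw : sc * sd * sc⁻¹ * sd ∈ W :=
      W.mul_mem (W.mul_mem (W.mul_mem hcW hdW) (W.inv_mem hcW)) hdW
    apply hW
    have h2' : orderOf (sc * sd * sc⁻¹ * sd) = 2 := by
      rw [orderOf_eq_iff (by decide)]
      refine ⟨by decide +kernel, ?_⟩
      intro m hm hm0
      interval_cases m
      decide +kernel
    rw [← h2']
    exact Subgroup.orderOf_dvd_natCard W hw

end Cfsg.Agent.S1286
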