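import Cfsg.Statements.S1289
import Cfsg.Agent.Lib.Balance.PLayer

set_option autoImplicit false
set_option linter.style.haveILetI false
open Cfsg

namespace Cfsg.Agent.S1289

/-- A p-component K of the finite group X is subnormal, perfect, of order divisible by p, and minimal among the subnormal perfect subgroups of X of order divisible by p. -/
theorem result {X : Type*} [Group X] [Finite X] (p : ℕ) [Fact p.Prime] (K : Subgroup X) (hK : Cfsg.IsPComponent p K) : K.IsSubnormal ∧ ⁅K, K⁆ = K ∧ p ∣ Nat.card ↥K ∧ ∀ H : Subgroup X, H ≤ K → H.IsSubnormal → ⁅H, H⁆ = H → p ∣ Nat.card ↥H → H = K := by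
  have hperf := Cfsg.Agent.Lib.Components.PComponent.commutator_self hK
  have hnot : ∀ H : Subgroup X, H.IsSubnormal → p ∣ Nat.card ↥H → ¬ H ≤ Cfsg.pPrimeCore p X :=
    fun H _ hd hle => Cfsg.Agent.Lib.Cores.not_dvd_card_pPrimeCore (G := X) p
      (hd.trans (Subgroup.card_dvd_of_le hle))
  refine ⟨hK.1, hperf, ?_, fun H hHK hH hHH hd => ?_⟩
  · by_contra hd
    exact Cfsg.Agent.Lib.Components.PComponent.not_le_pPrimeCore hK
      (Cfsg.Agent.Lib.Components.PComponent.subnormal_coprime_le hK.1
        ((Fact.out : p.Prime).coprime_iff_not_dvd.2 hd).symm)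
  · rcases Cfsg.Agent.Lib.Components.Component.isPerfect_eq_of_subnormal_le hK.2.1
      (hH.map (f := QuotientGroup.mk' (Cfsg.pPrimeCore p X)) (QuotientGroup.mk'_surjective _))
      (Subgroup.map_mono hHK) with h | h
    · refine absurd ?_ (hnot H hH hd)
      have h2 : H.map (QuotientGroup.mk' (Cfsg.pPrimeCore p X)) ≤ ⊥ := by
        conv_lhs => rw [← hHH]
        rw [Subgroup.map_commutator, ← h]
        exact Subgroup.commutator_mono le_rfl (Subgroup.map_mono hHK)
      rwa [le_bot_iff, Subgroup.map_eq_bot_iff, QuotientGroup.ker_mk'] at h2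
    · exact Cfsg.Agent.Lib.Components.PComponent.eq_of_map_eq_of_le hK hH hHK h

end Cfsg.Agent.S1289
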