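import Cfsg.Statements.S1294
import Cfsg.Agent.Lib.Signalizer.Complete
import Cfsg.Agent.Lib.Balance.Connected

set_option autoImplicit false
open Cfsg

namespace Cfsg.Agent.S1294

theorem result {G : Type*} [Group G] [Finite G] (p : ℕ) [Fact p.Prime] (hO : Cfsg.pPrimeCore p G = ⊥) (hrk : ¬ Cfsg.PRankLE p 2 G) (hconn : Cfsg.IsRankGraphConnected p 2 G) (θ : G → Subgroup G) (hC : ∀ a : G, (orderOf a = p ∧ ¬ Cfsg.PRankLE p 2 ↥(Subgroup.centralizer ({a} : Set G))) → θ a ≤ Subgroup.centralizer ({a} : Set G) ∧ ¬ p ∣ Nat.card ↥(θ a) ∧ Group.IsSolvable ↥(θ a)) (heq : ∀ a g : G, (orderOf a = p ∧ ¬ Cfsg.PRankLE p 2 ↥(Subgroup.centralizer ({a} : Set G))) → θ (g * a * g⁻¹) = (θ a).map (MulAut.conj g).toMonoidHom) (hbal : ∀ a b : G, (orderOf a = p ∧ ¬ Cfsg.PRankLE p 2 ↥(Subgroup.centralizer ({a} : Set G))) → (orderOf b = p ∧ ¬ Cfsg.PRankLE p 2 ↥(Subgroup.centralizer ({b} : Set G))) → a *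 b = b * a → θ a ⊓ Subgroup.centralizer {b} ≤ θ b) (a : G) (ha : (orderOf a = p ∧ ¬ Cfsg.PRankLE p 2 ↥(Subgroup.centralizer ({a} : Set G)))) : θ a = ⊥ := by
  have hS : Lib.Balance.HasCompleteness p G := fun A hA hA3 ψ hψ =>
    let ⟨hm, he⟩ := Lib.Signalizer.Completes.closure hA hA3 hψ.1
      (Lib.Signalizer.completes hA hA3 hψ)
    ⟨hm.2.1, he⟩
  exact Lib.Balance.functor_eq_bot_of_connected hS hO hrk hconn θ hC heq hbal a ha

end Cfsg.Agent.S1294
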