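import Cfsg.Statements.S1295
import Cfsg.Agent.Lib.Signalizer.Complete
import Cfsg.Agent.Lib.Balance.Connected

set_option autoImplicit false
open Cfsg

namespace Cfsg.Agent.S1295

theorem result {G : Type*} [Group G] [Finite G] (p : ℕ) [Fact p.Prime] (hO : Cfsg.pPrimeCore p G = ⊥) (hrk : ¬ Cfsg.PRankLE p 2 G) (hconn : Cfsg.IsRankGraphConnected p 2 G) (hL : ∀ a : G, (orderOf a = p ∧ ¬ Cfsg.PRankLE p 2 ↥(Subgroup.centralizer ({a} : Set G))) → Cfsg.pLayer p ↥(Subgroup.centralizer ({a} : Set G)) = ⊥ ∧ Group.IsSolvable ↥(Cfsg.centralizerPPrimeCore p a)) (a : G) (ha : (orderOf a = p ∧ ¬ Cfsg.PRankLE p 2 ↥(Subgroup.centralizer ({a} : Set G)))) : Cfsg.generalizedFittingSubgroup ↥(Subgroup.centralizer ({a} : Set G)) = Cfsg.pCore p ↥(Subgroup.centralizer ({a} : Set G)) := by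
  have hS : Lib.Balance.HasCompleteness p G := fun A hA hA3 ψ hψ =>
    let ⟨hm, he⟩ := Lib.Signalizer.Completes.closure hA hA3 hψ.1
      (Lib.Signalizer.completes hA hA3 hψ)
    ⟨hm.2.1, he⟩
  exact Lib.Balance.fitting_centralizer_of_connected hS hO hrk hconn hL a ha

end Cfsg.Agent.S1295
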