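import Cfsg.Agent.Lib.BenderOne.Final
import Cfsg.Agent.Lib.Dichotomy34.Main
import Cfsg.Agent.Lib.StrongEmb10.Main
import Cfsg.Statements.S1296
-- import your own Cfsg.Agent.* helpers here

set_option autoImplicit false
open Cfsg

namespace Cfsg.Agent.S1296

open Cfsg.Agent.Lib

/-- Dichotomy Theorem. Let G be a finite group of even order with no normal subgroup of index 2 and with O(G) = 1. Then G has 2-rank at most 2, or G is of component type, or G is of characteristic 2 type. -/
theorem result {G : Type*} [Group G] [Finite G] (heven : Even (Nat.card G)) (hO2 : ∀ N : Subgroup G, N.Normal → N.index ≠ 2) (hO : Cfsg.oddCore G = ⊥) : Cfsg.PRankLE 2 2 G ∨ Cfsg.IsComponentType G ∨ Cfsg.IsCharacteristicTwoType G :=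
  Dichotomy34.dichotomy (fun G _ _ H hH => StrongEmb10.row1221 BenderOne.propPartOneFinal hH) hO2 hO

end Cfsg.Agent.S1296
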