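import Cfsg.Statements.S1303

set_option autoImplicit false
open Cfsg

namespace Cfsg.Agent.S1303

abbrev SL23 := Matrix.SpecialLinearGroup (Fin 2) (ZMod 3)

theorem four_mul : ∀ x y : SL23, x ^ 4 = 1 → y ^ 4 = 1 → (x * y) ^ 4 = 1 := by
  decide +kernel

def quat : Subgroup SL23 where
  carrier := {x | x ^ 4 = 1}
  one_mem' := one_pow 4
  mul_mem' := fun {x y} hx hy => four_mul x y hx hy
  inv_mem' := fun {x} hx => by
    show x⁻¹ ^ 4 = 1
    rw [inv_pow, show x ^ 4 = 1 from hx, inv_one]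

theorem mem_quat {x : SL23} : x ∈ quat ↔ x ^ 4 = 1 := Iff.rfl

theorem quat_normal : quat.Normal := by
  refine ⟨fun x hx g => ?_⟩
  rw [mem_quat] at hx ⊢
  rw [conj_pow, hx, mul_one, mul_inv_cancel]

theorem quat_pgroup : IsPGroup 2 ↥quat := by
  intro x
  refine ⟨2, Subtype.ext ?_⟩
  exact x.2

theorem card_SL23 : Fintype.card SL23 = 24 := by decide +kernel

theorem odd_cubed {x : SL23} (h : Nat.Coprime (orderOf x) 2) : x ^ 3 = 1 := by
  apply orderOf_dvd_iff_pow_eq_one.1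
  have h1 : orderOf x ∣ 8 * 3 := by
    have := orderOf_dvd_card (x := x)
    rwa [card_SL23] at this
  have h8 : Nat.Coprime (orderOf x) 8 := by
    simpa using h.pow_right 3
  exact h8.dvd_of_dvd_mul_left h1

theorem three_escape : ∀ g : SL23, g ≠ 1 → g ^ 3 = 1 → ∃ h : SL23, (h * g * h⁻¹ * g⁻¹) ^ 3 ≠ 1 := by
  decide +kernel

theorem core_eq_bot : Cfsg.pPrimeCore 2 SL23 = ⊥ := by
  rw [eq_bot_iff]
  refine sSup_le ?_
  rintro N ⟨hN, hcop⟩ g hg
  have hcube : ∀ n : SL23, n ∈ N → n ^ 3 = 1 := fun n hn =>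
    odd_cubed (Nat.Coprime.coprime_dvd_left (N.orderOf_dvd_natCard hn) hcop)
  by_contra hne
  obtain ⟨h, hh⟩ := three_escape g hne (hcube g hg)
  exact hh (hcube _ (N.mul_mem (hN.conj_mem g hg h) (N.inv_mem hg)))

theorem cent_quat : ∀ x : SL23, (∀ y : SL23, y ^ 4 = 1 → y * x = x * y) → x ^ 4 = 1 := by
  decide +kernel

theorem involution_central : ∀ t : SL23, t ^ 2 = 1 → ∀ g : SL23, g * t = t * g := by
  decide +kernel

def gen3 : SL23 := ⟨!![1, 1; 0, 1], by decide +kernel⟩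

theorem quat_le_pPrimePCore : quat ≤ Cfsg.pPrimePCore 2 SL23 := by
  intro x hx
  show QuotientGroup.mk' (Cfsg.pPrimeCore 2 SL23) x ∈ Cfsg.pCore 2 (SL23 ⧸ Cfsg.pPrimeCore 2 SL23)
  have hn : (quat.map (QuotientGroup.mk' (Cfsg.pPrimeCore 2 SL23))).Normal :=
    quat_normal.map _ (QuotientGroup.mk'_surjective _)
  have hle : quat.map (QuotientGroup.mk' (Cfsg.pPrimeCore 2 SL23)) ≤
      Cfsg.pCore 2 (SL23 ⧸ Cfsg.pPrimeCore 2 SL23) :=
    le_sSup ⟨hn, quat_pgroup.map _⟩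
  exact hle ⟨x, hx, rfl⟩

theorem result : Cfsg.IsPConstrained 2 (Matrix.SpecialLinearGroup (Fin 2) (ZMod 3)) ∧ Cfsg.pPrimeCore 2 (Matrix.SpecialLinearGroup (Fin 2) (ZMod 3)) = ⊥ ∧ (∀ t : Matrix.SpecialLinearGroup (Fin 2) (ZMod 3), orderOf t = 2 → t ∈ Subgroup.center (Matrix.SpecialLinearGroup (Fin 2) (ZMod 3))) ∧ ∃ Q : Subgroup (Matrix.SpecialLinearGroup (Fin 2) (ZMod 3)), Nat.card ↥Q = 3 ∧ ¬ (Q ≤ Cfsg.pPrimeCore 2 (Matrix.SpecialLinearGroup (Fin 2) (ZMod 3))) := by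
  refine ⟨?_, core_eq_bot, ?_, ?_⟩
  · intro P x hx
    apply quat_le_pPrimePCore
    rw [mem_quat]
    apply cent_quat
    intro y hy
    haveI : (quat.subgroupOf (Cfsg.pPrimePCore 2 SL23)).Normal := quat_normal.subgroupOf _
    have hp : IsPGroup 2 ↥(quat.subgroupOf (Cfsg.pPrimePCore 2 SL23)) :=
      quat_pgroup.of_equiv (Subgroup.subgroupOfEquivOfLe quat_le_pPrimePCore).symm
    have hle : quat.subgroupOf (Cfsg.pPrimePCore 2 SL23) ≤ (P : Subgroup _) :=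
      (hp.le_sylow_of_normal P)
    have hy' : y ∈ Cfsg.pPrimePCore 2 SL23 := quat_le_pPrimePCore hy
    exact Subgroup.mem_centralizer_iff.1 hx y ⟨⟨y, hy'⟩, hle (show y ∈ quat from hy), rfl⟩
  · intro t ht
    rw [Subgroup.mem_center_iff]
    exact involution_central t (orderOf_dvd_iff_pow_eq_one.1 ht.dvd)
  · refine ⟨Subgroup.zpowers gen3, ?_, ?_⟩
    · rw [Nat.card_zpowers]
      rw [orderOf_eq_iff (by decide)]
      refine ⟨by decide +kernel, ?_⟩
      intro m hm hm0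
      interval_cases m <;> decide +kernel
    · rw [core_eq_bot, le_bot_iff, Subgroup.zpowers_eq_bot]
      decide +kernel

end Cfsg.Agent.S1303
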