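import Cfsg.Statements.S1304
import Mathlib.Tactic.Group
-- import your own Cfsg.Agent.* helpers here

set_option autoImplicit false
open Cfsg

namespace Cfsg.Agent.S1304

/-- Let X be a perfect group and α an automorphism of X with α(x) x⁻¹ central for every x. Then α is the identity. -/
theorem result {X : Type*} [Group X] (hperf : commutator X = ⊤) (α : X ≃* X) (h : ∀ x : X, α x * x⁻¹ ∈ Subgroup.center X) : ∀ x : X, α x = x := by
  have hz : ∀ x y : X, α (x * y) * (x * y)⁻¹ = (α x * x⁻¹) * (α y * y⁻¹) := by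
    intro x y
    have hc := Subgroup.mem_center_iff.mp (h y) x⁻¹
    rw [map_mul, mul_inv_rev]
    calc α x * α y * (y⁻¹ * x⁻¹) = α x * (α y * y⁻¹ * x⁻¹) := by group
      _ = α x * (x⁻¹ * (α y * y⁻¹)) := by rw [hc]
      _ = _ := by group
  let z : X →* ↥(Subgroup.center X) :=
    MonoidHom.mk' (fun x => ⟨α x * x⁻¹, h x⟩) (fun x y => Subtype.ext (hz x y))
  intro x
  have hker : commutator X ≤ z.ker := by
    rw [commutator_def, Subgroup.commutator_le]
    intro a _ b _
    rw [MonoidHom.mem_ker, map_commutatorElement]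
    exact commutatorElement_eq_one_iff_mul_comm.mpr (Subtype.ext (Subgroup.mem_center_iff.mp (z b).2 (z a).1))
  have hx : z x = 1 := MonoidHom.mem_ker.mp (hker (hperf ▸ Subgroup.mem_top x))
  exact mul_inv_eq_one.mp (congrArg Subtype.val hx)

end Cfsg.Agent.S1304
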