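import Cfsg.Statements.S1305
import Cfsg.Agent.Lib.ComponentPairs.Basic
import Cfsg.Agent.Lib.Balance.LBalanceTwo
import Cfsg.Agent.Lib.ZStar.UniqueCase
import Cfsg.Agent.Lib.OddOrder.Rank
import Cfsg.Agent.Lib.PGroups.ElemAb
-- import your own Cfsg.Agent.* helpers here

set_option autoImplicit false
open Cfsg

namespace Cfsg.Agent.S1305

open Cfsg.Agent Cfsg.Agent.Lib Cfsg.Agent.Lib.Components

/-- Let G be a finite group of component type with the B-property and no nontrivial normal subgroup of odd order. Let a be an involution and K a component of C_G(a) such that (a) |K| is maximal among the orders of components of centralizers of involutions of G, (b) subject to (a) the 2-rank of the centralizer of K in C_G(a) is as large as possible, and (c) K has 2-rank at least 2. If B is an elementary abelian 2-subgroup of that centralizer of the largest possible order, then K is a component of C_G(b) for every non-identity b ∈ B. -/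
theorem result {G : Type*} [Group G] [Finite G] (hO : Cfsg.oddCore G = ⊥) (hB : Cfsg.HasBProperty G) (hct : Cfsg.IsComponentType G) (a : G) (ha : orderOf a = 2) (K : Subgroup G) (hKa : K ≤ Subgroup.centralizer ({a} : Set G)) (hK : Cfsg.IsComponent (K.subgroupOf (Subgroup.centralizer ({a} : Set G)))) (hmax : ∀ y : G, orderOf y = 2 → ∀ K' : Subgroup G, K' ≤ Subgroup.centralizer ({y} : Set G) → Cfsg.IsComponent (K'.subgroupOf (Subgroup.centralizer ({y} : Set G))) → Nat.card ↥K' ≤ Nat.card ↥K ∧ (Nat.card ↥K' = Nat.card ↥K → ∀ k : ℕ, Cfsg.PRankLE 2 k ↥(Subgroup.centralizer ({a} : Set G) ⊓ Subgroup.centralizer (K : Set G)) → Cfsg.PRankLE 2 k ↥(Subgroup.centralizer ({y} : Set G) ⊓ Subgroup.centralizer (K' : Set G)))) (hrk : ¬ Cfsg.PRankLE 2 1 ↥K) (B : Subgroup G) (hBle : B ≤ Subgroup.centralizer ({a} : Set G) ⊓ Subgroup.centralizer (K : Set G)) (hBel : Cfsg.IsElementaryAbelian 2 B) (hBmax : ∀ B' : Subgroup G, B' ≤ Subgroup.centralizer ({a} : Set G) ⊓ Subgroup.centralizer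 (K : Set G) → Cfsg.IsElementaryAbelian 2 B' → Nat.card ↥B' ≤ Nat.card ↥B) (b : G) (hb : b ∈ B) (hb1 : b ≠ 1) : K ≤ Subgroup.centralizer ({b} : Set G) ∧ Cfsg.IsComponent (K.subgroupOf (Subgroup.centralizer ({b} : Set G))) := by
  haveI : Fact (Nat.Prime 2) := ⟨Nat.prime_two⟩
  have hBc : ∀ x ∈ B, ∀ y ∈ B, x * y = y * x := fun x hx y hy => PGroups.elemAb_comm hBel hx hy
  have hbK := hBle hb
  have hKb : K ≤ Subgroup.centralizer ({b} : Set G) := fun k hk =>
    Subgroup.mem_centralizer_singleton_iff.2 (Subgroup.mem_centralizer_iff.1 hbK.2 k hk)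
  refine ⟨hKb, ?_⟩
  have hbo : orderOf b = 2 := orderOf_eq_prime (hBel.2 b hb) hb1
  have haB : a ∈ B := by
    have hS : IsElementaryAbelian 2 (B ⊔ Subgroup.zpowers a) := by
      refine PGroups.elemAb_sup hBel (PGroups.elemAb_zpowers (by rw [← ha, pow_orderOf_eq_one])) ?_
      intro x hx y hy
      obtain ⟨i, rfl⟩ := Subgroup.mem_zpowers_iff.1 hy
      exact ((show Commute x a from
        Subgroup.mem_centralizer_singleton_iff.1 (hBle hx).1).zpow_right i).eq
    have haK : a ∈ Subgroup.centralizer ({a} : Set G) ⊓ Subgroup.centralizer (K : Set G) :=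
      ⟨Subgroup.mem_centralizer_singleton_iff.2 rfl, Subgroup.mem_centralizer_iff.2 fun k hk =>
        Subgroup.mem_centralizer_singleton_iff.1 (hKa hk)⟩
    have h := hBmax _ (sup_le hBle (Subgroup.zpowers_le.2 haK)) hS
    rw [Subgroup.eq_of_le_of_card_ge (le_sup_left : B ≤ B ⊔ Subgroup.zpowers a) h]
    exact Subgroup.mem_sup_right (Subgroup.mem_zpowers a)
  set X := Subgroup.centralizer ({b} : Set G) with hX
  have haX : a ∈ X := Subgroup.mem_centralizer_singleton_iff.2 (hBc a haB b hb)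
  set a' : ↥X := ⟨a, haX⟩ with ha'
  have htt : a' * a' = 1 := Subtype.ext (by
    show a * a = 1
    rw [← pow_two, ← ha, pow_orderOf_eq_one])
  set L := K.subgroupOf X with hLdef
  have hLt : L ≤ Subgroup.centralizer ({a'} : Set ↥X) := fun k hk =>
    Subgroup.mem_centralizer_singleton_iff.2 (Subtype.ext
      (Subgroup.mem_centralizer_singleton_iff.1 (hKa hk)))
  -- `K` is a component of `C_X(a)`
  have hLc : IsComponent (L.subgroupOf (Subgroup.centralizer ({a'} : Set ↥X))) := by
    let f : ↥(Subgroup.centralizer ({a'} : Set ↥X)) →* ↥(Subgroup.centralizer ({a} : Set G)) :=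
      MonoidHom.mk' (fun x => ⟨((x : ↥X) : G), Subgroup.mem_centralizer_singleton_iff.2
        (congrArg Subtype.val (Subgroup.mem_centralizer_singleton_iff.1 x.2))⟩) (fun x y => rfl)
    refine ⟨hK.1.comap f, ?_⟩
    exact Quasisimple.of_mulEquiv hK.2 ((Subgroup.subgroupOfEquivOfLe hKa).trans
      ((Subgroup.subgroupOfEquivOfLe hKb).symm.trans (Subgroup.subgroupOfEquivOfLe hLt).symm))
  have hKq : IsQuasisimple ↥K := Quasisimple.of_mulEquiv hK.2 (Subgroup.subgroupOfEquivOfLe hKa)
  have heven : Even (Nat.card ↥K) := by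
    by_contra hodd
    refine hrk fun E hE1 hE2 => ?_
    obtain ⟨k, hk⟩ := PGroups.elemAb_card_eq_pow (⟨hE1, hE2⟩ : IsElementaryAbelian 2 E)
    have hd := Subgroup.card_subgroup_dvd_card E
    rw [hk] at hd ⊢
    have : k = 0 := by
      by_contra hk0
      exact hodd (even_iff_two_dvd.2 ((dvd_pow_self 2 hk0).trans hd))
    rw [this]; norm_num
  -- by L-balance `K` lies in the layer of `C(b)`
  have hLE : L ≤ layer ↥X := by
    have h2 : IsPComponent 2 (L.subgroupOf (Subgroup.centralizer ({a'} : Set ↥X))) :=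
      ComponentPairs.isPComponent_two hLc (by
        rwa [Nat.card_congr ((Subgroup.subgroupOfEquivOfLe hLt).trans
          (Subgroup.subgroupOfEquivOfLe hKb)).toEquiv])
    have hT : IsPGroup 2 ↥(Subgroup.zpowers a') :=
      IsPGroup.of_card (n := 1) (by rw [Nat.card_zpowers, pow_one]; exact (Subgroup.orderOf_mk _ _).trans ha)
    have hbal := Balance.twoLayer_centralizer_le (X := ↥X)
      (fun G _ _ P t ht htP h => ZStar.UniqueCase.zstar P t ht htP h) hT
    rw [Subgroup.zpowers_eq_closure, Subgroup.centralizer_closure] at hbal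
    have hle : L ≤ pLayer 2 ↥X := by
      refine le_trans ?_ hbal
      conv_lhs => rw [← Subgroup.map_subgroupOf_eq_of_le hLt]
      exact Subgroup.map_mono (le_sSup h2)
    refine hle.trans (sSup_le fun P hP => Layer.component_le_layer ⟨hP.1, ?_⟩)
    refine (Balance.isQuasisimple_pComponent_iff hP).2 (le_bot_iff.1 ?_)
    have hcore : Balance.coreIn 2 P ≤ oddCore ↥X := by
      rw [Balance.coreIn_eq_inf_of_isSubnormal hP.1]; exact inf_le_right
    refine (Subgroup.commutator_mono (le_sSup hP : P ≤ pLayer 2 ↥X) hcore).trans ?_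
    have h := hB b hbo
    rw [hO, le_bot_iff, Subgroup.map_eq_bot_iff, X.ker_subtype] at h
    exact h
  obtain ⟨D, hD, hcases⟩ := ComponentPairs.trichotomy htt hLt hLc hLE
  set DG := D.map X.subtype with hDG
  have hDGc : IsComponent (DG.subgroupOf X) := by
    rw [hDG, Subgroup.subgroupOf, Subgroup.comap_map_eq_self_of_injective X.subtype_injective]
    exact hD
  have hcard : ∀ H : Subgroup ↥X, Nat.card ↥(H.map X.subtype) = Nat.card ↥H := fun H =>
    Nat.card_congr (H.equivMapOfInjective _ X.subtype_injective).symm.toEquiv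
  have hLK : Nat.card ↥L = Nat.card ↥K := Nat.card_congr (Subgroup.subgroupOfEquivOfLe hKb).toEquiv
  have hm := hmax b hbo DG (Subgroup.map_subtype_le _) hDGc
  rw [hcard] at hm
  rcases hcases with h | ⟨h, -⟩ | ⟨_, hne, hrange, -⟩
  · exact (h ▸ hD : IsComponent L)
  · exfalso
    have hlt := Set.ncard_lt_ncard (SetLike.coe_ssubset_coe.2 h) (Set.toFinite _)
    rw [← Nat.card_coe_set_eq, ← Nat.card_coe_set_eq] at hlt
    exact absurd ((hLK ▸ hlt : Nat.card ↥K < Nat.card ↥D)) (not_lt.2 hm.1)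
  exfalso
  set φ := ComponentPairs.diag hD hne with hφ
  have hsize : Nat.card ↥φ.range = Nat.card ↥K := by rw [← hrange, hLK]
  have hφinj : Function.Injective φ := by
    have h1 : Nat.card ↥D ≤ Nat.card ↥φ.range := hsize.symm ▸ hm.1
    have hbij : Function.Bijective φ.rangeRestrict := by
      rw [Nat.bijective_iff_surjective_and_card]
      exact ⟨φ.rangeRestrict_surjective,
        le_antisymm h1 (Nat.card_le_card_of_surjective _ φ.rangeRestrict_surjective)⟩
    exact fun x y hxy => hbij.1 (Subtype.ext hxy)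
  have hDK : Nat.card ↥D = Nat.card ↥K :=
    (Nat.card_congr (MonoidHom.ofInjective hφinj).toEquiv).trans hsize
  -- `m₂(C(b) ∩ C(D))` is at most the rank of `B`
  set D1 := D.map (MulAut.conj a').toMonoidHom with hD1
  obtain ⟨k, hk⟩ := PGroups.elemAb_card_eq_pow hBel
  have hrank : PRankLE 2 k ↥(Subgroup.centralizer ({b} : Set G) ⊓ Subgroup.centralizer (DG : Set G)) := by
    refine hm.2 hDK k (OddOrder.Rank.prankLE_subgroup_iff.2 fun E hE hE' => ?_)
    rw [← hk]
    exact hBmax E hE hE'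
  -- the subgroup of `B` normalizing `D`
  have hBX : B ≤ X := fun x hx => Subgroup.mem_centralizer_singleton_iff.2 (hBc x hx b hb)
  set B' := B.subgroupOf X with hB'
  have hB'K : ∀ β ∈ B', ∀ l ∈ L, β * l = l * β := fun β hβ l hl => Subtype.ext
    (Subgroup.mem_centralizer_iff.1 (hBle hβ).2 (l : G) hl).symm
  have hφcomm : ∀ β ∈ B', ∀ e : ↥D, β * φ e = φ e * β := fun β hβ e =>
    hB'K β hβ _ (hrange.ge ⟨e, rfl⟩)
  have hdich : ∀ β ∈ B', D.map (MulAut.conj β).toMonoidHom = D ∨
      D.map (MulAut.conj β).toMonoidHom = D1 := by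
    intro β hβ
    by_contra hcon
    push Not at hcon
    set D' := D.map (MulAut.conj β).toMonoidHom with hD'
    have hcomm' : β * a' = a' * β := Subtype.ext (hBc _ hβ a haB)
    have hD'' : D'.map (MulAut.conj a').toMonoidHom = D1.map (MulAut.conj β).toMonoidHom := by
      rw [hD', hD1, Subgroup.map_map, Subgroup.map_map]
      congr 1
      ext x
      show ((a' * (β * x * β⁻¹) * a'⁻¹ : ↥X) : G) = ((β * (a' * x * a'⁻¹) * β⁻¹ : ↥X) : G)
      congr 1
      calc a' * (β * x * β⁻¹) * a'⁻¹ = (a' * β) * x * (a' * β)⁻¹ := by group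
        _ = _ := by rw [← hcomm']; group
    have h1 : D'.map (MulAut.conj a').toMonoidHom ≠ D := fun h => hcon.2 (by
      rw [hD1, ← h, ComponentPairs.map_conj_conj htt])
    refine Quasisimple.not_isMulCommutative hD.2 ⟨⟨fun e f => ?_⟩⟩
    -- `φ f` is fixed by `β`, so lies in components commuting with `D`
    have h2 : φ f = β * (f : ↥X) * β⁻¹ * (a' * (β * (f : ↥X) * β⁻¹) * a'⁻¹) := by
      have h3 : φ f = β * φ f * β⁻¹ := by rw [hφcomm β hβ f, mul_inv_cancel_right]
      rw [h3, hφ, ComponentPairs.diag_apply]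
      calc β * ((f : ↥X) * (a' * f * a'⁻¹)) * β⁻¹
          = β * f * β⁻¹ * ((β * a') * f * (β * a')⁻¹) := by group
        _ = _ := by rw [hcomm']; group
    have hc : Commute (e : ↥X) (φ f) := by
      rw [h2]
      refine Commute.mul_right ?_ ?_
      · exact (Subgroup.mem_centralizer_iff.1
          (Component.le_centralizer_of_ne hD (Component.conj hD β) (Ne.symm hcon.1) e.2) _
          ⟨f, f.2, rfl⟩).symm
      · exact (Subgroup.mem_centralizer_iff.1
          (Component.le_centralizer_of_ne hD (Component.conj (Component.conj hD β) a') (Ne.symm h1)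
            e.2) _ ⟨_, ⟨f, f.2, rfl⟩, rfl⟩).symm
    have hc' : Commute (e : ↥X) (a' * (f : ↥X) * a'⁻¹) := ComponentPairs.pair_commute hD hne e.2 f.2
    have := hc.mul_right hc'.inv_right
    rw [hφ, ComponentPairs.diag_apply, mul_inv_cancel_right] at this
    exact Subtype.ext this.eq
  have hcentD : ∀ β ∈ B', D.map (MulAut.conj β).toMonoidHom = D →
      ∀ e ∈ D, β * e = e * β := by
    intro β hβ hfix e he
    let α : ↥D ≃* ↥D := ((MulAut.conj β).subgroupMap D).trans (MulEquiv.subgroupCongr hfix)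
    have hα : ∀ f : ↥D, ((α f : ↥D) : ↥X) = β * (f : ↥X) * β⁻¹ := fun f => rfl
    have hcomm' : β * a' = a' * β := Subtype.ext (hBc _ hβ a haB)
    have hαφ : ∀ f : ↥D, φ (α f) = φ f := fun f => by
      rw [hφ, ComponentPairs.diag_apply, ComponentPairs.diag_apply, hα]
      calc β * (f : ↥X) * β⁻¹ * (a' * (β * f * β⁻¹) * a'⁻¹)
          = β * f * β⁻¹ * ((a' * β) * f * (a' * β)⁻¹) := by group
        _ = β * f * β⁻¹ * ((β * a') * f * (β * a')⁻¹) := by rw [hcomm']
        _ = β * φ f * β⁻¹ := by rw [hφ, ComponentPairs.diag_apply]; group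
        _ = _ := by rw [hφcomm β hβ f, mul_inv_cancel_right, hφ, ComponentPairs.diag_apply]
    have h := congrArg Subtype.val (hφinj (hαφ ⟨e, he⟩))
    rw [hα] at h
    exact mul_inv_eq_iff_eq_mul.1 h
  set B0 : Subgroup ↥X := B' ⊓ Subgroup.normalizer (D : Set ↥X) with hB0
  have hB0c : ∀ β ∈ B0, ∀ e ∈ D ⊔ D1, β * e = e * β := by
    intro β hβ e he
    have hcomm' : β * a' = a' * β := Subtype.ext (hBc _ hβ.1 a haB)
    have hle : D ⊔ D1 ≤ Subgroup.centralizer ({β} : Set ↥X) := by
      have h1 := hcentD β hβ.1 (Balance.mem_normalizer_iff_cj.1 hβ.2)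
      refine sup_le (fun f hf => Subgroup.mem_centralizer_singleton_iff.2 (h1 f hf).symm) ?_
      rintro _ ⟨f, hf, rfl⟩
      refine Subgroup.mem_centralizer_singleton_iff.2 ?_
      show a' * f * a'⁻¹ * β = β * (a' * f * a'⁻¹)
      calc a' * f * a'⁻¹ * β = a' * f * (a'⁻¹ * β) := by group
        _ = a' * f * (β * a'⁻¹) := by rw [((show Commute β a' from hcomm').inv_right).eq]
        _ = a' * (β * f) * a'⁻¹ := by rw [h1 f hf]; group
        _ = (a' * β) * f * a'⁻¹ := by group
        _ = _ := by rw [← hcomm']; group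
    exact (Subgroup.mem_centralizer_singleton_iff.1 (hle he)).symm
  -- a four-subgroup of `D^a`
  obtain ⟨A, hA, hAc⟩ : ∃ A : Subgroup ↥X, (A ≤ D1 ∧ IsElementaryAbelian 2 A) ∧
      2 ^ 1 < Nat.card ↥A := by
    have hD1K : ↥D1 ≃* ↥K :=
      (D.equivMapOfInjective _ (MulAut.conj a').injective).symm.trans
        ((MonoidHom.ofInjective hφinj).trans ((MulEquiv.subgroupCongr hrange.symm).trans
          (Subgroup.subgroupOfEquivOfLe hKb)))
    obtain ⟨E, hE1, hE2, hEc⟩ : ∃ E : Subgroup ↥K, IsMulCommutative E ∧ (∀ e ∈ E, e ^ 2 = 1) ∧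
        2 ^ 1 < Nat.card ↥E := by
      by_contra hcon
      exact hrk fun E h1 h2 => not_lt.1 fun h3 => hcon ⟨E, h1, h2, h3⟩
    have hE : IsElementaryAbelian 2 E := ⟨hE1, hE2⟩
    refine ⟨(E.map hD1K.symm.toMonoidHom).map D1.subtype, ⟨Subgroup.map_subtype_le _, ?_⟩, ?_⟩
    · exact PGroups.elemAb_map _ (PGroups.elemAb_map _ hE)
    · rwa [Nat.card_congr ((E.equivMapOfInjective _ hD1K.symm.injective).trans
        (Subgroup.equivMapOfInjective _ _ D1.subtype_injective)).symm.toEquiv]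
  -- `B₀ A` is too big
  have hinf : B0 ⊓ A = ⊥ := by
    rw [eq_bot_iff]
    rintro z ⟨hz, hzA⟩
    rw [Subgroup.mem_bot]
    obtain ⟨f, hf, rfl⟩ := hA.1 hzA
    have hcomm' := Subtype.ext (hBc _ hz.1 a haB) (a2 := a' * (MulAut.conj a').toMonoidHom f)
      (a1 := (MulAut.conj a').toMonoidHom f * a')
    have hfz : a' * f * a'⁻¹ = f := by
      have h : a' * f * a'⁻¹ * a' = a' * (a' * f * a'⁻¹) := hcomm'
      rw [inv_mul_cancel_right] at h
      exact (mul_left_cancel h).symm
    show a' * f * a'⁻¹ = 1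
    have hff : f * f = 1 := by
      have h2 : (a' * f * a'⁻¹) ^ 2 = 1 := hA.2.2 _ hzA
      rw [hfz, pow_two] at h2
      exact h2
    have h1 : φ ⟨f, hf⟩ = φ 1 := by
      rw [map_one, hφ, ComponentPairs.diag_apply, hfz]
      exact hff
    have := congrArg Subtype.val (hφinj h1)
    rw [show f = 1 from this]
    group
  have hB0e : IsElementaryAbelian 2 B0 := by
    refine ⟨⟨⟨fun x y => Subtype.ext (Subtype.ext (hBc _ x.2.1 _ y.2.1))⟩⟩, fun x hx => Subtype.ext ?_⟩
    exact hBel.2 _ hx.1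
  have hS : IsElementaryAbelian 2 (B0 ⊔ A) :=
    PGroups.elemAb_sup hB0e hA.2 fun x hx y hy => hB0c x hx y (Subgroup.mem_sup_right (hA.1 hy))
  have hSle : (B0 ⊔ A).map X.subtype ≤
      Subgroup.centralizer ({b} : Set G) ⊓ Subgroup.centralizer (DG : Set G) := by
    refine le_inf (Subgroup.map_subtype_le _) ?_
    rw [Subgroup.map_le_iff_le_comap]
    refine sup_le (fun x hx => ?_) (fun x hx => ?_) <;>
      refine Subgroup.mem_centralizer_iff.2 ?_ <;> rintro _ ⟨e, he, rfl⟩
    · exact congrArg Subtype.val (hB0c x hx e (Subgroup.mem_sup_left he)).symm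
    · exact congrArg Subtype.val (Subgroup.mem_centralizer_iff.1
        (Component.le_centralizer_of_ne (Component.conj hD a') hD hne (hA.1 hx)) e he)
  have hlim := OddOrder.Rank.prankLE_subgroup_iff.1 hrank _ hSle (PGroups.elemAb_map X.subtype hS)
  rw [hcard, ← hk] at hlim
  have hcardS : Nat.card ↥B0 * Nat.card ↥A ≤ Nat.card ↥(B0 ⊔ A) := by
    rw [← Nat.card_prod]
    refine Nat.card_le_card_of_injective
      (fun p : ↥B0 × ↥A => (⟨(p.1 : ↥X) * p.2, Subgroup.mul_mem_sup p.1.2 p.2.2⟩ : ↥(B0 ⊔ A))) ?_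
    rintro ⟨x, y⟩ ⟨x', y'⟩ h
    have h' : (x : ↥X) * y = (x' : ↥X) * y' := congrArg Subtype.val h
    have h1 : ((x' : ↥X))⁻¹ * x = (y' : ↥X) * ((y : ↥X))⁻¹ := by
      rw [inv_mul_eq_iff_eq_mul, ← mul_assoc, ← h']; group
    have h2 : ((x' : ↥X))⁻¹ * x = 1 := by
      rw [← Subgroup.mem_bot, ← hinf]
      exact ⟨B0.mul_mem (B0.inv_mem x'.2) x.2, h1 ▸ A.mul_mem y'.2 (A.inv_mem y.2)⟩
    have hxx : x = x' := Subtype.ext (inv_mul_eq_one.1 h2).symm
    subst hxx
    exact Prod.ext rfl (Subtype.ext (mul_left_cancel h'))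
  have hB0i : Nat.card ↥B ≤ 2 * Nat.card ↥B0 := by
    have ha0 : (2 : ℕ) = Nat.card Bool := by simp
    rw [ha0, ← Nat.card_prod]
    classical
    refine Nat.card_le_card_of_surjective
      (fun p : Bool × ↥B0 => (⟨(if p.1 then a else 1) * (((p.2 : ↥X) : G)),
        B.mul_mem (by split <;> [exact haB; exact B.one_mem]) p.2.2.1⟩ : ↥B)) ?_
    rintro ⟨β, hβ⟩
    rcases hdich ⟨β, hBX hβ⟩ hβ with h | h
    · exact ⟨(false, ⟨⟨β, hBX hβ⟩, hβ, Balance.mem_normalizer_iff_cj.2 h⟩), Subtype.ext (one_mul _)⟩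
    · refine ⟨(true, ⟨a' * ⟨β, hBX hβ⟩, B.mul_mem haB hβ, Balance.mem_normalizer_iff_cj.2 ?_⟩),
        Subtype.ext ?_⟩
      · show D.map (MulAut.conj (a' * ⟨β, hBX hβ⟩)).toMonoidHom = D
        calc D.map (MulAut.conj (a' * ⟨β, hBX hβ⟩)).toMonoidHom
            = (D.map (MulAut.conj (⟨β, hBX hβ⟩ : ↥X)).toMonoidHom).map
                (MulAut.conj a').toMonoidHom := by
              rw [Subgroup.map_map, map_mul]; rfl
          _ = D := by rw [h, hD1, ComponentPairs.map_conj_conj htt]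
      · show a * (a * β) = β
        rw [← mul_assoc, ← pow_two, ← ha, pow_orderOf_eq_one, one_mul]
  have hpos : 0 < Nat.card ↥B0 := Nat.card_pos
  have h4 : 4 ≤ Nat.card ↥A := by
    obtain ⟨j, hj⟩ := PGroups.elemAb_card_eq_pow hA.2
    rw [hj] at hAc ⊢
    exact (show 4 = 2 ^ 2 by norm_num) ▸ Nat.pow_le_pow_right two_pos
      ((Nat.pow_lt_pow_iff_right (by norm_num)).1 hAc)
  have := Nat.mul_le_mul_left (Nat.card ↥B0) h4
  omega

end Cfsg.Agent.S1305
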