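import Cfsg.Statements.S1306
import Cfsg.Agent.Lib.MaxPairs.Basic
import Mathlib.GroupTheory.Perm.Cycle.Type
-- import your own Cfsg.Agent.* helpers here

set_option autoImplicit false
open Cfsg

namespace Cfsg.Agent.S1306

open Subgroup Cfsg.Agent.Lib Cfsg.Agent.Lib.Components

/-- Let G be finite, x an involution and L ≤ C_G(x) a component of C_G(x). Suppose L is a component of C_G(y) for every involution y ∈ C_G(L), and ⁅L, g L g⁻¹⁆ ≠ 1 whenever g L g⁻¹ ≠ L. Then L is a standard subgroup of G. -/
theorem result {G : Type*} [Group G] [Finite G] (x : G) (hx : orderOf x = 2) (L : Subgroup G) (hLx : L ≤ Subgroup.centralizer ({x} : Set G)) (hL : Cfsg.IsComponent (L.subgroupOf (Subgroup.centralizer ({x} : Set G)))) (hne : ∀ y : G, orderOf y = 2 → y ∈ Subgroup.centralizer (L : Set G) → L ≤ Subgroup.centralizer ({y} : Set G) ∧ Cfsg.IsComponent (L.subgroupOf (Subgroup.centralizer ({y} : Set G)))) (hnc : ∀ g : G, L.map (MulAut.conj g).toMonoidHom ≠ L → ⁅L, L.map (MulAut.conj g).toMonoidHom⁆ ≠ ⊥) : Cfsg.IsStandardSubgroup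 L := by
  have key : ∀ g y : G, orderOf y = 2 → y ∈ Subgroup.centralizer (L : Set G) →
      y ∈ (Subgroup.centralizer (L : Set G)).map (MulAut.conj g).toMonoidHom →
      L.map (MulAut.conj g).toMonoidHom = L := by
    intro g y hy hyL hyg
    obtain ⟨y', hy', hyy⟩ := hyg
    have hy'o : orderOf y' = 2 := by
      rw [← orderOf_injective (MulAut.conj g).toMonoidHom (MulAut.conj g).injective y', hyy, hy]
    obtain ⟨hLy, hcy⟩ := hne y hy hyL
    obtain ⟨hLy', hcy'⟩ := hne y' hy'o hy'
    set C' : Subgroup G := Subgroup.centralizer ({y'} : Set G)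
    set C : Subgroup G := Subgroup.centralizer ({y} : Set G)
    have hmap : C'.map (MulAut.conj g).toMonoidHom = C := by
      ext z
      constructor
      · rintro ⟨w, hw, rfl⟩
        rw [Subgroup.mem_centralizer_singleton_iff, ← hyy, ← map_mul, ← map_mul,
          Subgroup.mem_centralizer_singleton_iff.1 hw]
      · intro hz
        refine ⟨(MulAut.conj g).symm z, ?_, (MulAut.conj g).apply_symm_apply z⟩
        refine Subgroup.mem_centralizer_singleton_iff.2 ((MulAut.conj g).injective ?_)
        rw [map_mul, map_mul, MulEquiv.apply_symm_apply]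
        have := Subgroup.mem_centralizer_singleton_iff.1 hz
        rw [← hyy] at this
        exact this
    have hLg : L.map (MulAut.conj g).toMonoidHom ≤ C := hmap ▸ Subgroup.map_mono hLy'
    by_contra hne'
    refine hnc g hne' ?_
    rcases Component.eq_or_commutator_eq_bot hcy (MaxPairs.component_map_conj g hLy' hmap hcy') with h | h
    · refine absurd ?_ hne'
      have h' := congrArg (Subgroup.map C.subtype) h
      rw [Subgroup.map_subgroupOf_eq_of_le hLy, Subgroup.map_subgroupOf_eq_of_le hLg] at h'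
      exact h'.symm
    · exact (commutator_subgroupOf_eq_bot_iff hLy hLg).1 h
  have hxC : x ∈ Subgroup.centralizer (L : Set G) := Subgroup.mem_centralizer_iff.2 fun l hl =>
    Subgroup.mem_centralizer_singleton_iff.1 (hLx hl)
  have hNN : Subgroup.normalizer (L : Set G) ≤ Subgroup.normalizer (Subgroup.centralizer (L : Set G) : Set G) := by
    intro g hg
    rw [Subgroup.mem_normalizer_iff]
    intro c
    have hg1 := Subgroup.mem_normalizer_iff.1 hg
    constructor
    · intro hc
      refine Subgroup.mem_centralizer_iff.2 fun l hl => ?_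
      have h' : g⁻¹ * l * g ∈ L := by
        rw [hg1]; simpa [mul_assoc] using hl
      have := Subgroup.mem_centralizer_iff.1 hc _ h'
      calc l * (g * c * g⁻¹) = g * ((g⁻¹ * l * g) * c) * g⁻¹ := by group
        _ = g * (c * (g⁻¹ * l * g)) * g⁻¹ := by rw [this]
        _ = _ := by group
    · intro hc
      refine Subgroup.mem_centralizer_iff.2 fun l hl => ?_
      have := Subgroup.mem_centralizer_iff.1 hc _ ((hg1 l).1 hl)
      calc l * c = g⁻¹ * ((g * l * g⁻¹) * (g * c * g⁻¹)) * g := by group
        _ = g⁻¹ * ((g * c * g⁻¹) * (g * l * g⁻¹)) * g := by rw [this]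
        _ = _ := by group
  refine ⟨MaxPairs.isQuasisimple_of_component hLx hL, ⟨?_, fun g hg => ?_⟩, hnc, le_antisymm hNN fun g hg => ?_⟩
  · rw [even_iff_two_dvd, ← hx]
    exact Subgroup.orderOf_dvd_natCard _ hxC
  · by_contra hodd
    rw [Nat.not_odd_iff_even, even_iff_two_dvd] at hodd
    obtain ⟨⟨y, hym⟩, hy⟩ := exists_prime_orderOf_dvd_card' 2 hodd
    rw [Subgroup.orderOf_mk] at hy
    obtain ⟨hyL, hyg⟩ := hym
    exact hg (hNN (Subgroup.mem_normalizer_iff_map_conj_eq.2 (key g y hy hyL hyg)))
  · have h := Subgroup.mem_normalizer_iff_map_conj_eq.1 hg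
    exact Subgroup.mem_normalizer_iff_map_conj_eq.2 (key g x hx hxC (h.symm ▸ hxC))

end Cfsg.Agent.S1306
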