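import Cfsg.Statements.S1307
import Cfsg.Agent.S0201
import Cfsg.Agent.Lib.ZStar.RankOne
import Cfsg.Agent.Lib.PGroups.UniqueInvolution
import Cfsg.Agent.Lib.Components.Basic
import Cfsg.Agent.Lib.Cores.Basic
import Cfsg.Agent.Lib.Involutions.IndexTwo
-- import your own Cfsg.Agent.* helpers here

set_option autoImplicit false
open Cfsg

namespace Cfsg.Agent.S1307

open Cfsg.Agent Cfsg.Agent.Lib Cfsg.Agent.Lib.Components

/-- Let G be finite, x an involution and L ≤ C_G(x) a component of C_G(x) of even order and 2-rank 1, such that L is a component of C_G(y) for every involution y ∈ C_G(L). Then some involution of L is a classical involution of G. -/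
theorem result {G : Type*} [Group G] [Finite G] (x : G) (hx : orderOf x = 2) (L : Subgroup G) (hLx : L ≤ Subgroup.centralizer ({x} : Set G)) (hL : Cfsg.IsComponent (L.subgroupOf (Subgroup.centralizer ({x} : Set G)))) (heven : Even (Nat.card ↥L)) (hrk : Cfsg.PRankLE 2 1 ↥L) (hne : ∀ y : G, orderOf y = 2 → y ∈ Subgroup.centralizer (L : Set G) → L ≤ Subgroup.centralizer ({y} : Set G) ∧ Cfsg.IsComponent (L.subgroupOf (Subgroup.centralizer ({y} : Set G)))) : ∃ t ∈ L, Cfsg.IsClassicalInvolution t := by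
  haveI : Fact (Nat.Prime 2) := ⟨Nat.prime_two⟩
  have hq : IsQuasisimple ↥L :=
    Quasisimple.of_mulEquiv hL.2 (Subgroup.subgroupOfEquivOfLe hLx)
  haveI := hq.1
  let S : Sylow 2 ↥L := default
  have huniq : ∀ a b : ↥(S : Subgroup ↥L), orderOf a = 2 → orderOf b = 2 →
      b ∈ Subgroup.zpowers a := by
    intro a b ha hb
    have hno : ∀ E : Subgroup ↥L, ¬ IsKleinFour E := fun E hE => by
      have h := hrk E ⟨⟨fun u v => mul_comm_of_exponent_two hE.exponent_two u v⟩⟩
        (fun e he => by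
          have := Monoid.pow_exponent_eq_one (⟨e, he⟩ : ↥E)
          rw [hE.exponent_two] at this
          exact congrArg Subtype.val this)
      rw [hE.card_four] at h
      norm_num at h
    have := ZStar.RankOne.eq_of_no_klein hno S.isPGroup' a.2 b.2
      (by rwa [Subgroup.orderOf_coe]) (by rwa [Subgroup.orderOf_coe])
    rw [Subtype.ext this]
    exact Subgroup.mem_zpowers _
  rcases PGroups.isCyclic_or_quaternion S.isPGroup' huniq with hc | ⟨-, m, hm, ⟨e⟩⟩
  · exfalso
    obtain ⟨N, hN⟩ := Involutions.IndexTwo.exists_index_two_of_cyclic_sylow heven S hc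
    haveI : N.Normal := Subgroup.normal_of_index_eq_two hN
    haveI : IsCyclic (↥L ⧸ N) :=
      isCyclic_of_prime_card (p := 2) (by rw [← Subgroup.index_eq_card, hN])
    have hle : commutator ↥L ≤ N := by
      rw [commutator_def, Subgroup.commutator_le]
      intro a _ b _
      rw [← QuotientGroup.eq_one_iff, ← QuotientGroup.mk'_apply, map_commutatorElement]
      exact commutatorElement_eq_one_iff_mul_comm.2 (IsCyclic.commutative.is_comm.comm _ _)
    rw [Group.IsPerfect.commutator_eq_top, top_le_iff] at hle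
    rw [hle, Subgroup.index_top] at hN
    omega
  obtain ⟨k, rfl⟩ : ∃ k, m = k + 1 := ⟨m - 1, by omega⟩
  -- pass to `L / O(L)`
  set π := QuotientGroup.mk' (Cfsg.pPrimeCore 2 ↥L) with hπ
  have hinj : Function.Injective (π.subgroupMap (S : Subgroup ↥L)) := by
    intro a b hab
    have h : ((a : ↥L))⁻¹ * b ∈ Cfsg.pPrimeCore 2 ↥L := QuotientGroup.eq.1 (congrArg Subtype.val hab)
    have hbot : (S : Subgroup ↥L) ⊓ Cfsg.pPrimeCore 2 ↥L = ⊥ := Subgroup.inf_eq_bot_of_coprime (by
      obtain ⟨j, hj⟩ := IsPGroup.iff_card.1 S.isPGroup'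
      rw [hj]
      exact ((Cores.pPrimeCore_coprime 2).symm).pow_left j)
    exact Subtype.ext (inv_mul_eq_one.1
      (Subgroup.mem_bot.1 (hbot.le ⟨(S : Subgroup ↥L).mul_mem (inv_mem a.2) b.2, h⟩)))
  let e' : ↥((S.mapSurjective (QuotientGroup.mk'_surjective (Cfsg.pPrimeCore 2 ↥L)) :
      Subgroup (↥L ⧸ Cfsg.pPrimeCore 2 ↥L))) ≃* QuaternionGroup (2 ^ (k + 1)) :=
    (MulEquiv.ofBijective _ ⟨hinj, π.subgroupMap_surjective _⟩).symm.trans e
  have hO : ∀ N : Subgroup (↥L ⧸ Cfsg.pPrimeCore 2 ↥L), N.Normal → Odd (Nat.card N) → N = ⊥ :=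
    fun N hN hodd => le_bot_iff.1 ((Cores.pPrimeCore_quotient_pPrimeCore (G := ↥L) 2) ▸
      Cores.le_pPrimeCore (Nat.coprime_two_right.2 hodd))
  have h2 := S0201.result _ k e' hO
  set N := (Subgroup.center (↥L ⧸ Cfsg.pPrimeCore 2 ↥L)).comap π with hN
  have hcard : 2 ∣ Nat.card ↥N := by
    have h := Subgroup.card_dvd_of_surjective
      (π.subgroupComap (Subgroup.center (↥L ⧸ Cfsg.pPrimeCore 2 ↥L)))
      (π.subgroupComap_surjective_of_surjective _ (QuotientGroup.mk'_surjective _))
    rwa [h2] at h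
  obtain ⟨⟨s, hs⟩, hso⟩ := exists_prime_orderOf_dvd_card' 2 hcard
  have hsc : s ∈ Subgroup.center ↥L := by
    refine ((Quasisimple.normal_le_center_or_eq_top hq
      (Subgroup.Normal.comap inferInstance π)).resolve_right fun htop => ?_) hs
    have hle : commutator ↥L ≤ Cfsg.pPrimeCore 2 ↥L := by
      rw [commutator_def, Subgroup.commutator_le]
      intro a _ b _
      rw [← QuotientGroup.eq_one_iff, ← QuotientGroup.mk'_apply, map_commutatorElement]
      refine commutatorElement_eq_one_iff_mul_comm.2 (Subgroup.mem_center_iff.1 ?_ _).symm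
      exact (htop.ge (Subgroup.mem_top a) : a ∈ N)
    rw [Group.IsPerfect.commutator_eq_top, top_le_iff] at hle
    have hcop := Cores.pPrimeCore_coprime (G := ↥L) 2
    rw [hle, Subgroup.card_top, Nat.coprime_two_right] at hcop
    exact Nat.not_even_iff_odd.2 hcop heven
  have hto : orderOf (s : G) = 2 := by
    rw [Subgroup.orderOf_coe]
    exact (Subgroup.orderOf_coe (⟨s, hs⟩ : ↥N)).trans hso
  have htc : (s : G) ∈ Subgroup.centralizer (L : Set G) := Subgroup.mem_centralizer_iff.2
    fun l hl => congrArg Subtype.val (Subgroup.mem_center_iff.1 hsc ⟨l, hl⟩)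
  obtain ⟨hle, hcomp⟩ := hne s hto htc
  exact ⟨s, s.2, hto, L, hle, s.2, hcomp.1, S, k, ⟨e⟩⟩

end Cfsg.Agent.S1307
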