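import Cfsg.Statements.S1312
import Cfsg.Agent.Lib.MaxPairs.Basic
-- import your own Cfsg.Agent.* helpers here

set_option autoImplicit false
open Cfsg

namespace Cfsg.Agent.S1312

open Subgroup Cfsg.Agent.Lib Cfsg.Agent.Lib.Components Cfsg.Agent.Lib.MaxPairs

/-- Let G be a non-abelian finite simple group and M ≠ N maximal subgroups of G with F*(M) ≤ N and F*(N) ≤ M. Then there is a prime p such that F*(M) and F*(N) are both p-groups. -/
theorem result {G : Type*} [Group G] [Finite G] [IsSimpleGroup G] (hna : ¬ IsMulCommutative G) (M N : Subgroup G) (hM : IsCoatom M) (hN : IsCoatom N) (hMN : M ≠ N) (h1 : (Cfsg.generalizedFittingSubgroup ↥M).map M.subtype ≤ N) (h2 : (Cfsg.generalizedFittingSubgroup ↥N).map N.subtype ≤ M) : ∃ p : ℕ, p.Prime ∧ IsPGroup p ↥(Cfsg.generalizedFittingSubgroup ↥M) ∧ IsPGroup p ↥(Cfsg.generalizedFittingSubgroup ↥N) := by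
  have hE : Cfsg.layer ↥M = ⊥ ∧ Cfsg.layer ↥N = ⊥ := by
    have heq := le_antisymm (map_layer_le h1 h2) (map_layer_le h2 h1)
    by_cases hb : (Cfsg.layer ↥M).map M.subtype = ⊥
    · refine ⟨(Subgroup.map_eq_bot_iff_of_injective _ M.subtype_injective).1 hb, ?_⟩
      rw [heq] at hb
      exact (Subgroup.map_eq_bot_iff_of_injective _ N.subtype_injective).1 hb
    · refine absurd ?_ hMN
      rw [← normalizer_eq_of_normal hM (Subgroup.map_subtype_le _) (le_normalizer_map_subtype M _) hb,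
        heq, normalizer_eq_of_normal hN (Subgroup.map_subtype_le _) (le_normalizer_map_subtype N _)
          (heq ▸ hb)]
  obtain ⟨hE1, hE2⟩ := hE
  have hg : ∀ K : Subgroup G, Cfsg.layer ↥K = ⊥ →
      Cfsg.generalizedFittingSubgroup ↥K = Cfsg.fittingSubgroup ↥K := fun K h => by
    rw [Cfsg.generalizedFittingSubgroup, h, bot_sup_eq]
  rw [hg M hE1] at h1 ⊢
  rw [hg N hE2] at h2 ⊢
  have hMne : M ≠ ⊥ := by
    intro h
    subst h
    refine hna ⟨⟨fun a b => ?_⟩⟩
    by_cases ha : a = 1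
    · rw [ha, one_mul, mul_one]
    · have h0 : Subgroup.zpowers a = ⊤ := hM.2 _ (bot_lt_iff_ne_bot.2 (by simpa using ha))
      obtain ⟨k, rfl⟩ := Subgroup.mem_zpowers_iff.1 (h0 ▸ Subgroup.mem_top b)
      exact ((Commute.refl a).zpow_right k).eq
  have hFne : Cfsg.fittingSubgroup ↥M ≠ ⊥ := by
    have : Nontrivial ↥M := (Subgroup.nontrivial_iff_ne_bot M).2 hMne
    rw [← hg M hE1]
    exact GenFitting.ne_bot
  obtain ⟨p, hp, hPne⟩ : ∃ p : ℕ, p.Prime ∧ Cfsg.pCore p ↥M ≠ ⊥ := by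
    by_contra! h
    refine hFne ?_
    rw [Cores.fittingSubgroup_eq_iSup_pCore]
    exact iSup_eq_bot.2 fun q => h q q.2
  haveI : Fact p.Prime := ⟨hp⟩
  have hP1 : P1 p M ≠ ⊥ := fun h => hPne ((Subgroup.map_eq_bot_iff_of_injective _ M.subtype_injective).1 h)
  have hP2 : P1 p N ≠ ⊥ := fun h => hP1 (eq_bot_of_commute hE2 ((P1_le_fitting M).trans h1)
    (P1_le_centralizer_Q1 h1 h2) h (card_coprime M N))
  have hpg : ∀ K : Subgroup G, Q1 p K = ⊥ → IsPGroup p ↥(Cfsg.fittingSubgroup ↥K) := by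
    intro K hK
    have h := fitting_le_sup p K
    rw [hK, sup_bot_eq] at h
    exact (Cores.pCore_isPGroup p).to_le ((Subgroup.map_le_map_iff_of_injective K.subtype_injective).1 h)
  have hqq : ∀ A B : Subgroup G, (Cfsg.fittingSubgroup ↥A).map A.subtype ≤ B →
      (Cfsg.fittingSubgroup ↥B).map B.subtype ≤ A → Cfsg.layer ↥B = ⊥ → Q1 p B = ⊥ → Q1 p A = ⊥ := by
    intro A B hA hB hBE hQB
    have hc : Q1 p A ≤ Subgroup.centralizer (P1 p B : Set G) :=
      Subgroup.le_centralizer_iff.1 (P1_le_centralizer_Q1 hB hA)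
    have hle : Q1 p A ≤ P1 p B := by
      intro a ha
      have haB : a ∈ B := hA (Q1_le_fitting A ha)
      have h1 : (⟨a, haB⟩ : ↥B) ∈ Subgroup.centralizer (Cfsg.fittingSubgroup ↥B : Set ↥B) :=
        Subgroup.mem_centralizer_iff.2 fun y hy => Subtype.ext <| by
          have hy' : (y : G) ∈ P1 p B ⊔ Q1 p B := fitting_le_sup p B ⟨y, hy, rfl⟩
          rw [hQB, sup_bot_eq] at hy'
          exact Subgroup.mem_centralizer_iff.1 (hc ha) _ hy'
      have h3 : a ∈ P1 p B ⊔ Q1 p B := fitting_le_sup p B ⟨_, FStarTools.centralizer_fitting_le_iff.2 hBE h1, rfl⟩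
      rwa [hQB, sup_bot_eq] at h3
    have := (disjoint_of_coprime_natCard (card_coprime (p := p) B A)).eq_bot
    rwa [inf_eq_right.2 hle] at this
  by_cases hQ : Q1 p N = ⊥
  · exact ⟨p, hp, hpg M (hqq M N h1 h2 hE2 hQ), hpg N hQ⟩
  · have hQM : Q1 p M ≠ ⊥ := fun h => hQ (hqq N M h2 h1 hE1 h)
    have heq : P1 p M = P1 p N :=
      le_antisymm (P1_le_P1 h2 h1 hE2 hM hQM) (P1_le_P1 h1 h2 hE1 hN hQ)
    refine absurd ?_ hMN
    have e1 : Subgroup.normalizer (P1 p M : Set G) = M :=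
      normalizer_eq_of_normal hM (Subgroup.map_subtype_le _) (le_normalizer_map_subtype M _) hP1
    have e2 : Subgroup.normalizer (P1 p N : Set G) = N :=
      normalizer_eq_of_normal hN (Subgroup.map_subtype_le _) (le_normalizer_map_subtype N _) hP2
    rw [← e1, heq, e2]

end Cfsg.Agent.S1312
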