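import Cfsg.Statements.S1313
import Cfsg.Agent.Lib.FStarTools.Basic
-- import your own Cfsg.Agent.* helpers here

set_option autoImplicit false
open Cfsg

namespace Cfsg.Agent.S1313

open Subgroup Cfsg.Agent.Lib.Components Cfsg.Agent.Lib.FStarTools

/-- For a finite group H, |H| ≤ |F*(H)|!. -/
theorem result {H : Type*} [Group H] [Finite H] : Nat.card H ≤ Nat.factorial (Nat.card ↥(Cfsg.generalizedFittingSubgroup H)) := by
  set F := Cfsg.generalizedFittingSubgroup H
  let φ : H →* MulAut ↥F := MulAut.conjNormal
  have hker : φ.ker ≤ Subgroup.centralizer (F : Set H) := by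
    intro x hx
    rw [Subgroup.mem_centralizer_iff]
    intro y hy
    have h1 : (φ x) ⟨y, hy⟩ = ⟨y, hy⟩ := by rw [MonoidHom.mem_ker.mp hx]; rfl
    have h2 : x * y * x⁻¹ = y := by
      have := congrArg Subtype.val h1
      simpa [φ] using this
    exact (mul_inv_eq_iff_eq_mul.mp h2).symm
  have hk : Nat.card ↥φ.ker ≤ Nat.card ↥F :=
    Subgroup.card_le_of_le (hker.trans GenFitting.centralizer_le)
  have hr : Nat.card ↥φ.range ≤ Nat.factorial (Nat.card ↥F - 1) := by
    classical
    haveI : Fintype ↥F := Fintype.ofFinite _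
    let res : MulAut ↥F → Equiv.Perm {x : ↥F // x ≠ 1} := fun a =>
      a.toEquiv.subtypeEquiv (fun x => by simp)
    have hres : Function.Injective res := by
      intro a b hab
      ext x
      by_cases hx : x = 1
      · subst hx; simp
      · have := congrArg (fun e => (((e ⟨x, hx⟩ : {x : ↥F // x ≠ 1}) : ↥F) : H)) hab
        simpa [res] using this
    calc Nat.card ↥φ.range ≤ Nat.card (MulAut ↥F) := Subgroup.card_le_card_group _
      _ ≤ Nat.card (Equiv.Perm {x : ↥F // x ≠ 1}) := Nat.card_le_card_of_injective res hres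
      _ = _ := by
        rw [Nat.card_perm, Nat.card_eq_fintype_card, Fintype.card_subtype_compl,
          Fintype.card_subtype_eq, Nat.card_eq_fintype_card]
  have hpos : 0 < Nat.card ↥F := Nat.card_pos
  calc Nat.card H = Nat.card ↥φ.ker * Nat.card ↥φ.range := by
        rw [← Subgroup.card_mul_index φ.ker, Subgroup.index_ker]
    _ ≤ Nat.card ↥F * Nat.factorial (Nat.card ↥F - 1) := Nat.mul_le_mul hk hr
    _ = _ := Nat.mul_factorial_pred (by omega)

end Cfsg.Agent.S1313
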