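import Cfsg.Statements.S1314
import Mathlib.Tactic.Group
-- import your own Cfsg.Agent.* helpers here

set_option autoImplicit false
open Cfsg

namespace Cfsg.Agent.S1314

open scoped commutatorElement

/-- Let x be an involution of a group G and L a perfect subgroup with ⁅L, x L x⁻¹⁆ = 1. Then l ↦ l (x l x⁻¹) is a group homomorphism π from L to G whose kernel is central in L and whose image lies in C_G(x); and the commutator subgroup of C_{L ⊔ xLx⁻¹}(x) equals the image of π. -/
theorem result {G : Type*} [Group G] [Finite G] (x : G) (hx : orderOf x = 2) (L : Subgroup G) (hperf : ⁅L, L⁆ = L) (hcomm : ⁅L, L.map (MulAut.conj x).toMonoidHom⁆ = ⊥) : ∃ π : ↥L →* G, (∀ l : ↥L, π l = (l : G) * (x * (l : G) * x⁻¹)) ∧ π.ker ≤ Subgroup.center ↥L ∧ π.range ≤ Subgroup.centralizer ({x} : Set G) ∧ ⁅(L ⊔ L.map (MulAut.conj x).toMonoidHom) ⊓ Subgroup.centralizer ({x} : Set G), (L ⊔ L.map (MulAut.conj x).toMonoidHom) ⊓ Subgroup.centralizer ({x} : Set G)⁆ = π.range := by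
  have hxx : x * x = 1 := by rw [← sq, ← hx, pow_orderOf_eq_one]
  have hxi : x⁻¹ = x := inv_eq_of_mul_eq_one_left hxx
  set c : G →* G := (MulAut.conj x).toMonoidHom with hcdef
  have hc : ∀ g, c g = x * g * x⁻¹ := fun g => rfl
  have hcc : ∀ g, c (c g) = g := fun g => by
    rw [hc, hc, hxi]
    calc x * (x * g * x) * x = (x * x) * g * (x * x) := by group
      _ = g := by rw [hxx, one_mul, mul_one]
  have hcom : ∀ a ∈ L, ∀ b ∈ L, a * c b = c b * a := fun a ha b hb =>
    (Subgroup.mem_centralizer_iff.1 (Subgroup.commutator_eq_bot_iff_le_centralizer.1 hcomm ha)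
      (c b) ⟨b, hb, rfl⟩).symm
  let π : ↥L →* G := MonoidHom.mk' (fun l => (l : G) * c l) (fun a b => by
    show (↑(a * b) : G) * c ↑(a * b) = _
    rw [Subgroup.coe_mul, map_mul]
    calc (a : G) * b * (c a * c b) = (a : G) * ((b : G) * c a) * c b := by simp only [mul_assoc]
      _ = (a : G) * (c a * b) * c b := by rw [hcom b b.2 a a.2]
      _ = _ := by simp only [mul_assoc])
  have hπ : ∀ l, π l = (l : G) * c l := fun l => rfl
  have hrange : π.range ≤ Subgroup.centralizer ({x} : Set G) := by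
    rintro _ ⟨l, rfl⟩
    rw [Subgroup.mem_centralizer_singleton_iff, hπ]
    have hfix : c ((l : G) * c l) = (l : G) * c l := by
      rw [map_mul, hcc, ← hcom l l.2 l l.2]
    rw [hc] at hfix
    calc (l : G) * c l * x = x * ((l : G) * c l) * x⁻¹ * x := by rw [hfix]
      _ = _ := by rw [inv_mul_cancel_right]
  have hker : π.ker ≤ Subgroup.center ↥L := by
    intro l hl
    rw [MonoidHom.mem_ker, hπ, mul_eq_one_iff_eq_inv] at hl
    refine Subgroup.mem_center_iff.2 fun m => Subtype.ext ?_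
    show (m : G) * l = l * m
    rw [hl, ← map_inv]
    exact hcom m m.2 _ (inv_mem l.2)
  refine ⟨π, fun l => hπ l, hker, hrange, le_antisymm ?_ ?_⟩
  · have hnorm : L ≤ Subgroup.normalizer (L.map (MulAut.conj x).toMonoidHom : Set G) :=
      (Subgroup.commutator_eq_bot_iff_le_centralizer.1 hcomm).trans (Subgroup.centralizer_le_normalizer _)
    set W := (L ⊔ L.map (MulAut.conj x).toMonoidHom) ⊓ Subgroup.centralizer ({x} : Set G)
    have hdec : ∀ u ∈ W, ∃ l : ↥L, ∃ z : G, u = π l * z ∧ ∀ w ∈ L ⊔ L.map (MulAut.conj x).toMonoidHom, z * w = w * z := by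
      rintro u ⟨hu, hux⟩
      replace hu : u ∈ ((L ⊔ L.map (MulAut.conj x).toMonoidHom : Subgroup G) : Set G) := hu
      rw [Subgroup.coe_mul_of_left_le_normalizer_right _ _ hnorm] at hu
      obtain ⟨a, ha, _, ⟨b, hb, rfl⟩, rfl⟩ := hu
      simp only [SetLike.mem_coe] at ha hb
      have hfix : c (a * c b) = a * c b := by
        rw [hc, ← Subgroup.mem_centralizer_singleton_iff.1 hux]
        exact mul_inv_cancel_right _ _
      rw [map_mul, hcc] at hfix
      -- `u = π b * (a b⁻¹)`
      have hz : b⁻¹ * a = c a * (c b)⁻¹ := by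
        rw [eq_mul_inv_iff_mul_eq, mul_assoc, ← hfix, ← hcom b hb a ha]
        simp
      refine ⟨⟨b, hb⟩, b⁻¹ * a, ?_, ?_⟩
      · show a * c b = b * c b * (b⁻¹ * a)
        rw [mul_assoc b, ← mul_assoc (c b), ← hcom _ (inv_mem hb) b hb, mul_assoc, ← hcom a ha b hb]
        simp [mul_assoc]
      · have hle : L ⊔ L.map (MulAut.conj x).toMonoidHom ≤ Subgroup.centralizer ({b⁻¹ * a} : Set G) := by
          refine sup_le (fun w hw => ?_) ?_
          · rw [Subgroup.mem_centralizer_singleton_iff, hz]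
            have h1 := hcom w hw a ha
            have h2 := hcom w hw _ (inv_mem hb)
            rw [map_inv] at h2
            rw [← mul_assoc, h1, mul_assoc, h2, mul_assoc]
          · rintro _ ⟨w, hw, rfl⟩
            rw [Subgroup.mem_centralizer_singleton_iff]
            exact (hcom _ (mul_mem (inv_mem hb) ha) w hw).symm
        intro w hw
        exact (Subgroup.mem_centralizer_singleton_iff.1 (hle hw)).symm
    rw [Subgroup.commutator_le]
    intro u hu v hv
    obtain ⟨l, z, rfl, hz⟩ := hdec u hu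
    obtain ⟨m, z', rfl, hz'⟩ := hdec v hv
    refine ⟨⁅l, m⁆, ?_⟩
    rw [map_commutatorElement]
    have hπW : ∀ n, π n ∈ L ⊔ L.map (MulAut.conj x).toMonoidHom := fun n =>
      mul_mem (Subgroup.mem_sup_left n.2) (Subgroup.mem_sup_right ⟨n, n.2, rfl⟩)
    have e1 : Commute z (π m * z') := hz _ hv.1
    have e2 : Commute z' (π l) := hz' _ (hπW l)
    simp only [commutatorElement_def, mul_inv_rev]
    calc π l * π m * (π l)⁻¹ * (π m)⁻¹
        = π l * π m * (z' * ((π l)⁻¹) * z'⁻¹) * (π m)⁻¹ := by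
          rw [(e2.inv_right).eq]; group
      _ = π l * (π m * z') * ((π l)⁻¹ * (z'⁻¹ * (π m)⁻¹)) := by group
      _ = π l * (z * (π m * z') * z⁻¹) * ((π l)⁻¹ * (z'⁻¹ * (π m)⁻¹)) := by
          rw [e1.eq, mul_inv_cancel_right]
      _ = π l * z * (π m * z') * (z⁻¹ * (π l)⁻¹) * (z'⁻¹ * (π m)⁻¹) := by group
  · have : π.range = ⁅π.range, π.range⁆ := by
      have htop : (⊤ : Subgroup ↥L) = ⁅(⊤ : Subgroup ↥L), ⊤⁆ := by
        refine le_antisymm ?_ le_top
        rw [← Subgroup.map_le_map_iff_of_injective L.subtype_injective, Subgroup.map_commutator,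
          ← MonoidHom.range_eq_map, Subgroup.range_subtype, hperf]
      rw [MonoidHom.range_eq_map]
      conv_lhs => rw [htop]
      rw [Subgroup.map_commutator]
    rw [this]
    refine Subgroup.commutator_mono ?_ ?_ <;>
      exact le_inf (by rintro _ ⟨n, rfl⟩; exact mul_mem (Subgroup.mem_sup_left n.2) (Subgroup.mem_sup_right ⟨n, n.2, rfl⟩)) hrange

end Cfsg.Agent.S1314
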