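import Cfsg.Statements.S1315
import Cfsg.Agent.Lib.Intrinsic76.Types
import Cfsg.Agent.Lib.Intrinsic76.PartTwo
import Mathlib
-- import your own Cfsg.Agent.* helpers here

set_option autoImplicit false
open Cfsg

namespace Cfsg.Agent.S1315

open Cfsg.Agent.Lib.Intrinsic76 Cfsg.Agent.Lib.Balance

section

variable {G : Type*} [Group G] [Finite G] {t : G} {J : Subgroup G}

/-- `barS (Cen t) J` is `J / O(J)`. -/
noncomputable def barEquiv (hle : J ≤ Cen t) (hc : IsPComponent 2 (J.subgroupOf (Cen t))) :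
    ↥(barS (Cen t) J) ≃* ↥J ⧸ oddCore ↥J :=
  ((QuotientGroup.quotientKerEquivOfSurjective _
      ((QuotientGroup.mk' (pPrimeCore 2 ↥(Cen t))).subgroupMap_surjective _)).symm.trans
    (QuotientGroup.quotientMulEquivOfEq (pPrimeCore_eq_ker_subgroupMap hc.1))).trans
    (QuotientGroup.congr _ _ (Subgroup.subgroupOfEquivOfLe hle)
      (Lib.Cores.map_pPrimeCore_equiv (Subgroup.subgroupOfEquivOfLe hle)))

theorem barS_uniq (ht : t * t = 1) (hu : ∀ a ∈ J, orderOf a = 2 → a = t) :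
    ∀ q ∈ barS (Cen t) J, q * q = 1 → q = 1 ∨ q = bar (Cen t) t := by
  intro q hq hq2
  haveI : Fact (Nat.Prime 2) := ⟨Nat.prime_two⟩
  obtain ⟨a, ha, haC, rfl⟩ := mem_barS.1 hq
  obtain ⟨m, hm, hm'⟩ := exists_two_pow a
  have hb : bar (Cen t) (a ^ m) = bar (Cen t) a := by
    rw [bar_pow haC]
    exact hm' _ (by rw [← bar_pow haC, pow_orderOf_eq_one, bar_one]) (two_of_mul_self hq2)
  have h2 : a ^ m * a ^ m = 1 := (oddEl_of_bar (mul_mem (pow_mem haC m) (pow_mem haC m)) (by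
    rw [bar_mul (pow_mem haC m) (pow_mem haC m), hb, hq2])).eq_one (hm.mul hm (Commute.refl _))
  by_cases h1 : a ^ m = 1
  · left
    rw [← hb, h1, bar_one]
  · right
    rw [← hb, hu _ (pow_mem ha m) (orderOf_eq_prime (by rw [pow_two, h2]) h1)]

theorem ip_of_model {T : Type*} [Group T] (hz : t ∈ J ∧ orderOf t = 2 ∧ ∀ a ∈ J, orderOf a = 2 → a = t)
    (hJ : J ≤ Cen t ∧ IsPComponent 2 (J.subgroupOf (Cen t))) (e : ↥J ⧸ oddCore ↥J ≃* T) (hT : Model T) :
    IP (Nat.card T) t J := by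
  obtain ⟨h2, h1⟩ := orderOf_two hz.2.1
  refine ⟨h2, h1, hz.1, hJ, ?_, ?_⟩
  · exact goodIn_of_model hJ.2.2.1.2 (bar_mem_barS hz.1 (self_mem_Cen t))
      (bar_ne_one_of_involution (self_mem_Cen t) h2 h1) (bar_mul_self (self_mem_Cen t) h2)
      (barS_uniq h2 hz.2.2) ((barEquiv hJ.1 hJ.2).trans e) hT
  · exact Nat.card_congr ((barEquiv hJ.1 hJ.2).trans e).toEquiv

theorem ip_of_2A7 (hz : t ∈ J ∧ orderOf t = 2 ∧ ∀ a ∈ J, orderOf a = 2 → a = t)
    (hJ : J ≤ Cen t ∧ IsPComponent 2 (J.subgroupOf (Cen t)))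
    (hT : IsNonsplitDoubleCover (↥J ⧸ oddCore ↥J) ↥(alternatingGroup (Fin 7))) :
    IP (2 * Nat.card ↥(alternatingGroup (Fin 7))) t J := by
  have hcard : Nat.card (↥J ⧸ oddCore ↥J) = 2 * Nat.card ↥(alternatingGroup (Fin 7)) := by
    obtain ⟨hc, ⟨e⟩, -⟩ := hT
    rw [← Subgroup.card_mul_index (Subgroup.center (↥J ⧸ oddCore ↥J)), hc, Subgroup.index,
      Nat.card_congr e.toEquiv]
  rw [← hcard]
  refine ip_of_model hz hJ (MulEquiv.refl _) (model_2A7 hT fun u hu => ?_)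
  obtain ⟨h2, -⟩ := orderOf_two hz.2.1
  obtain ⟨q, rfl⟩ := (barEquiv hJ.1 hJ.2).surjective u
  rw [← map_mul, EmbeddingLike.map_eq_one_iff] at hu
  refine Subgroup.mem_center_iff.2 fun v => ?_
  obtain ⟨r, rfl⟩ := (barEquiv hJ.1 hJ.2).surjective v
  rw [← map_mul, ← map_mul]
  refine congrArg (barEquiv hJ.1 hJ.2) (Subtype.ext ?_)
  rcases barS_uniq h2 hz.2.2 q q.2 (congrArg Subtype.val hu) with h | h <;>
    simp only [Subgroup.coe_mul, h]
  · rw [mul_one, one_mul]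
  · exact (bar_self_comm t _).symm

end

/-- Let G be finite and J ≠ K subgroups, each containing exactly one involution, z(J) resp. z(K), each a 2-component of the centralizer of its involution, with J / O(J) and K / O(K) both isomorphic to SL(2, F) for one finite field F of odd order, or both non-split double covers of A7. Then (i) every 2-element of K of order at least 4 centralizing z(J) normalizes J; (ii) if z(J) normalizes K then z(K) normalizes J. -/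
theorem result {G : Type*} [Group G] [Finite G] (J K : Subgroup G) (hJK : J ≠ K) (zJ zK : G) (hzJ : zJ ∈ J ∧ orderOf zJ = 2 ∧ ∀ t ∈ J, orderOf t = 2 → t = zJ) (hzK : zK ∈ K ∧ orderOf zK = 2 ∧ ∀ t ∈ K, orderOf t = 2 → t = zK) (hJ : J ≤ Subgroup.centralizer ({zJ} : Set G) ∧ Cfsg.IsPComponent 2 (J.subgroupOf (Subgroup.centralizer ({zJ} : Set G)))) (hK : K ≤ Subgroup.centralizer ({zK} : Set G) ∧ Cfsg.IsPComponent 2 (K.subgroupOf (Subgroup.centralizer ({zK} : Set G)))) (htype : (∃ (F : Type) (_ : Field F) (_ : Fintype F), Odd (Fintype.card F) ∧ Nonempty (↥J ⧸ Cfsg.oddCore ↥J ≃* Matrix.SpecialLinearGroup (Fin 2) F) ∧ Nonempty (↥K ⧸ Cfsg.oddCore ↥K ≃* Matrix.SpecialLinearGroup (Fin 2) F)) ∨ (Cfsg.IsNonsplitDoubleCover (↥J ⧸ Cfsg.oddCore ↥J) ↥(alternatingGroup (Fin 7)) ∧ Cfsg.IsNonsplitDoubleCover (↥K ⧸ Cfsg.oddCore ↥K) ↥(alternatingGroup (Fin 7)))) : (∀ y ∈ K, IsPGroup 2 ↥(Subgroup.zpowers y) → 4 ≤ orderOf y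 → y * zJ = zJ * y → y ∈ Subgroup.normalizer (J : Set G)) ∧ (zJ ∈ Subgroup.normalizer (K : Set G) → zK ∈ Subgroup.normalizer (J : Set G)) := by
  haveI : Fact (Nat.Prime 2) := ⟨Nat.prime_two⟩
  obtain ⟨N, hJ', hK'⟩ : ∃ N, IP N zJ J ∧ IP N zK K := by
    rcases htype with ⟨F, _, _, hF, ⟨eJ⟩, ⟨eK⟩⟩ | ⟨hJA, hKA⟩
    · exact ⟨_, ip_of_model hzJ hJ eJ (model_sl2 F hF), ip_of_model hzK hK eK (model_sl2 F hF)⟩
    · exact ⟨_, ip_of_2A7 hzJ hJ hJA, ip_of_2A7 hzK hK hKA⟩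
  have hsame : zJ = zK → K ≤ Subgroup.normalizer (J : Set G) := fun h k hk => by
    subst h
    have h1 := Lib.Components.PComponent.le_normalizer hJ.2 hK.2
      (show (⟨k, hK.1 hk⟩ : ↥(Cen zJ)) ∈ K.subgroupOf (Cen zJ) from hk)
    refine hJ'.mem_normalizer (hK.1 hk) fun q hq => ?_
    obtain ⟨a, ha, haC, rfl⟩ := mem_barS.1 hq
    rw [← bar_conj (hK.1 hk) haC]
    exact hJ'.bar_mem ((Subgroup.mem_normalizer_iff.1 h1 ⟨a, haC⟩).1 ha)
  refine ⟨fun y hy hy2 hy4 hc => ?_, fun hn => ?_⟩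
  · by_cases h : zJ = zK
    · exact hsame h hy
    · refine normalizes hJ' hK' h hy (two_of_isPGroup hy2) (fun h2 => ?_) hc
      have := orderOf_le_of_pow_eq_one (x := y) (n := 2) two_pos (by rw [pow_two, h2])
      omega
  · by_cases h : zJ = zK
    · exact hsame h hzK.1
    · exact normalizes_symm hJ' hK' h hn

end Cfsg.Agent.S1315
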