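import Cfsg.Statements.S1316
import Cfsg.Agent.Lib.FStarTools.Basic
-- import your own Cfsg.Agent.* helpers here

set_option autoImplicit false
open Cfsg

namespace Cfsg.Agent.S1316

open Subgroup Cfsg.Agent.Lib.Components Cfsg.Agent.Lib.FStarTools

/-- For a finite group X, E(X) equals the intersection of the derived series of F*(X) (its last term). -/
theorem result {X : Type*} [Group X] [Finite X] : (⨅ n : ℕ, (derivedSeries ↥(Cfsg.generalizedFittingSubgroup X) n).map (Cfsg.generalizedFittingSubgroup X).subtype) = Cfsg.layer X := by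
  set F' := Cfsg.generalizedFittingSubgroup X
  have hE : Cfsg.layer X ≤ F' := GenFitting.layer_le_generalizedFitting
  refine le_antisymm ?_ (le_iInf fun n => ?_)
  · have : Group.IsSolvable ↥(Cfsg.fittingSubgroup X) := isSolvable_fitting
    let g : ↥F' →* X ⧸ Cfsg.layer X := (QuotientGroup.mk' (Cfsg.layer X)).comp F'.subtype
    have hr : g.range = (Cfsg.fittingSubgroup X).map (QuotientGroup.mk' (Cfsg.layer X)) := by
      show ((QuotientGroup.mk' (Cfsg.layer X)).comp F'.subtype).range = _
      rw [MonoidHom.range_comp, Subgroup.range_subtype]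
      show (Cfsg.layer X ⊔ Cfsg.fittingSubgroup X).map _ = _
      rw [Subgroup.map_sup, (Subgroup.map_eq_bot_iff (Cfsg.layer X)).mpr (by rw [QuotientGroup.ker_mk']), bot_sup_eq]
    have hs : Group.IsSolvable ↥g.range := by
      rw [hr]
      exact Group.isSolvable_of_surjective (f := (QuotientGroup.mk' (Cfsg.layer X)).subgroupMap (Cfsg.fittingSubgroup X))
        (MonoidHom.subgroupMap_surjective _ _)
    obtain ⟨n, hn⟩ := (Group.isSolvable_def ↥g.range).mp hs
    refine (iInf_le _ n).trans ?_
    intro x hx
    obtain ⟨y, hy, rfl⟩ := hx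
    have h1 : g.rangeRestrict y ∈ derivedSeries ↥g.range n :=
      map_derivedSeries_le_derivedSeries g.rangeRestrict n (Subgroup.mem_map_of_mem _ hy)
    rw [hn, Subgroup.mem_bot] at h1
    have h2 : g y = 1 := congrArg Subtype.val h1
    exact (QuotientGroup.eq_one_iff _).mp h2
  · induction n with
    | zero => rw [derivedSeries_zero, ← MonoidHom.range_eq_map, Subgroup.range_subtype]; exact hE
    | succ n ih =>
      rw [derivedSeries_succ, Subgroup.map_commutator, ← Layer.commutator_layer_self]
      exact Subgroup.commutator_mono ih ih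

end Cfsg.Agent.S1316
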