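import Cfsg.Statements.S1317
import Cfsg.Agent.Lib.FStarTools.Basic
-- import your own Cfsg.Agent.* helpers here

set_option autoImplicit false
open Cfsg

namespace Cfsg.Agent.S1317

open Subgroup Cfsg.Agent.Lib.Components Cfsg.Agent.Lib.FStarTools Cfsg.Agent.Lib

/-- For a finite group X, the centre of the layer E(X) is F(X) ∩ E(X). -/
theorem result {X : Type*} [Group X] [Finite X] : (Subgroup.center ↥(Cfsg.layer X)).map (Cfsg.layer X).subtype = Cfsg.fittingSubgroup X ⊓ Cfsg.layer X := by
  refine le_antisymm (le_inf ?_ (Subgroup.map_subtype_le _)) ?_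
  · have hn : ((Subgroup.center ↥(Cfsg.layer X)).map (Cfsg.layer X).subtype).Normal :=
      Cores.normal_map_subtype _ _
    refine Cores.le_fittingSubgroup ?_
    refine Cores.isNilpotent_map _ ?_
    let _ : CommGroup ↥(Subgroup.center ↥(Cfsg.layer X)) :=
      { (inferInstance : Group ↥(Subgroup.center ↥(Cfsg.layer X))) with
        mul_comm := fun a b => Subtype.ext (Subgroup.mem_center_iff.mp b.2 a.1) }
    exact CommGroup.isNilpotent
  · rintro x ⟨hxF, hxE⟩
    refine ⟨⟨x, hxE⟩, Subgroup.mem_center_iff.mpr fun y => Subtype.ext ?_, rfl⟩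
    exact Subgroup.mem_centralizer_iff.mp (Layer.fitting_le_centralizer_layer hxF) y y.2

end Cfsg.Agent.S1317
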