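import Cfsg.Statements.S1319
import Cfsg.Agent.Lib.FStarTools.Basic
-- import your own Cfsg.Agent.* helpers here

set_option autoImplicit false
open Cfsg

namespace Cfsg.Agent.S1319

open Subgroup Cfsg.Agent.Lib.Components Cfsg.Agent.Lib.FStarTools

/-- Let A be a subnormal subgroup of the finite group X with E(A) = A. Then A ≤ E(X) and A is normal in E(X). -/
theorem result {X : Type*} [Group X] [Finite X] (A : Subgroup X) (hsn : A.IsSubnormal) (hA : Cfsg.layer ↥A = ⊤) : A ≤ Cfsg.layer X ∧ (A.subgroupOf (Cfsg.layer X)).Normal := by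
  have hA' : A = sSup {K : Subgroup X | Cfsg.IsComponent K ∧ K ≤ A} := by
    rw [← map_layer_subnormal hsn, hA, ← MonoidHom.range_eq_map, Subgroup.range_subtype]
  have hle : A ≤ Cfsg.layer X := by
    rw [hA']
    exact sSup_le fun K hK => Layer.component_le_layer hK.1
  refine ⟨hle, (Subgroup.normal_subgroupOf_iff_le_normalizer hle).mpr fun g hg => ?_⟩
  rw [Subgroup.mem_normalizer_iff_map_conj_eq]
  refine Subgroup.eq_of_le_of_card_ge ?_ ?_
  · show A.map (MulAut.conj g).toMonoidHom ≤ A
    conv_lhs => rw [hA']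
    rw [Subgroup.map_le_iff_le_comap]
    refine sSup_le fun K hK => ?_
    rw [← Subgroup.map_le_iff_le_comap]
    have h := Layer.layer_le_normalizer hK.1 hg
    rw [Subgroup.mem_normalizer_iff_map_conj_eq] at h
    exact h.le.trans hK.2
  · exact le_of_eq (Subgroup.card_map_of_injective (MulAut.conj g).injective).symm

end Cfsg.Agent.S1319
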