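import Cfsg.Statements.S1320
import Cfsg.Agent.Lib.FStarTools.Basic
-- import your own Cfsg.Agent.* helpers here

set_option autoImplicit false
open Cfsg

namespace Cfsg.Agent.S1320

open Subgroup Cfsg.Agent.Lib.Components Cfsg.Agent.Lib.FStarTools

/-- Let B be a normal subgroup of the finite group A. Then F*(A) ∩ B = F*(B). -/
theorem result {A : Type*} [Group A] [Finite A] (B : Subgroup A) [B.Normal] : Cfsg.generalizedFittingSubgroup A ⊓ B = (Cfsg.generalizedFittingSubgroup ↥B).map B.subtype := by
  have hB : B.IsSubnormal := Subgroup.Normal.isSubnormal inferInstance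
  have hSn : (Cfsg.generalizedFittingSubgroup A ⊓ B).IsSubnormal := Subgroup.Normal.isSubnormal inferInstance
  refine le_antisymm ?_ ?_
  · rw [subnormal_genFitting_decomp hSn inf_le_left]
    show _ ≤ (Cfsg.layer ↥B ⊔ Cfsg.fittingSubgroup ↥B).map B.subtype
    rw [Subgroup.map_sup, map_fitting_subnormal hB, map_layer_subnormal hB]
    exact sup_le ((inf_le_inf le_rfl inf_le_right).trans le_sup_right)
      (le_sup_of_le_left (sSup_le_sSup fun K hK => ⟨hK.1, hK.2.trans inf_le_right⟩))
  · refine le_inf ?_ (Subgroup.map_subtype_le _)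
    show (Cfsg.layer ↥B ⊔ Cfsg.fittingSubgroup ↥B).map B.subtype ≤ Cfsg.layer A ⊔ Cfsg.fittingSubgroup A
    rw [Subgroup.map_sup, map_fitting_subnormal hB]
    exact sup_le_sup (map_layer_le_layer hB) inf_le_left

end Cfsg.Agent.S1320
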