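import Cfsg.Statements.S1323
import Cfsg.Agent.Lib.Alternating.Stabilizer
import Cfsg.Agent.Lib.Components.Basic
-- import your own Cfsg.Agent.* helpers here

set_option autoImplicit false
open Cfsg

namespace Cfsg.Agent.S1323

open Equiv Equiv.Perm MulAction Cfsg.Agent.Lib Cfsg.Agent.Lib.Components
open scoped commutatorElement

variable {n : ℕ}

/-- Pointwise stabilizer of a set of points in `A_n`. -/
def Lf (T : Finset (Fin n)) : Subgroup ↥(alternatingGroup (Fin n)) :=
  fixingSubgroup (alternatingGroup (Fin n)) (T : Set (Fin n))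

theorem mem_Lf {T : Finset (Fin n)} {g : ↥(alternatingGroup (Fin n))} :
    g ∈ Lf T ↔ ∀ y ∈ T, (g : Perm (Fin n)) y = y := by
  simp [Lf, mem_fixingSubgroup_iff, Subgroup.smul_def, Perm.smul_def]

/-- The equivalence with an alternating group. -/
noncomputable def lfEquiv (T : Finset (Fin n)) :
    alternatingGroup (Tᶜ : Finset (Fin n)) ≃* ↥(Lf T) :=
  (Cfsg.Agent.Lib.Alternating.altFixingEquiv Tᶜ).trans
    (MulEquiv.subgroupCongr (by rw [Lf, Finset.coe_compl, compl_compl]))

theorem exists_cycle {T : Finset (Fin n)} {a b c : Fin n} (ha : a ∉ T) (hb : b ∉ T) (hc : c ∉ T)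
    (hab : a ≠ b) (hac : a ≠ c) (hbc : b ≠ c) :
    ∃ x ∈ Lf T, (x : Perm (Fin n)) a = b ∧ ∀ y, y ≠ a → y ≠ b → y ≠ c → (x : Perm (Fin n)) y = y := by
  have hmem : swap a c * swap a b ∈ alternatingGroup (Fin n) :=
    mul_mem_alternatingGroup_of_isSwap ⟨_, _, hac, rfl⟩ ⟨_, _, hab, rfl⟩
  have hfix : ∀ y, y ≠ a → y ≠ b → y ≠ c → (swap a c * swap a b) y = y := fun y h1 h2 h3 => by
    rw [Perm.mul_apply, swap_apply_of_ne_of_ne h1 h2, swap_apply_of_ne_of_ne h1 h3]
  refine ⟨⟨_, hmem⟩, mem_Lf.2 fun y hy => ?_, ?_, hfix⟩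
  · exact hfix y (fun h => ha (h ▸ hy)) (fun h => hb (h ▸ hy)) (fun h => hc (h ▸ hy))
  · show (swap a c * swap a b) a = b
    rw [Perm.mul_apply, swap_apply_left, swap_apply_of_ne_of_ne (Ne.symm hab) hbc]

theorem exists_not_mem_of_card (s : Finset (Fin n)) (h : s.card < n) : ∃ y, y ∉ s :=
  Cfsg.Agent.Lib.Alternating.exists_notMem_of_card_lt (by rwa [Fintype.card_fin])

theorem exists_moving {T : Finset (Fin n)} (hT : T.card + 3 ≤ n) {y : Fin n} (hy : y ∉ T) :
    ∃ x ∈ Lf T, (x : Perm (Fin n)) y ≠ y := by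
  obtain ⟨b, hb⟩ := exists_not_mem_of_card (insert y T) (by
    have := Finset.card_insert_le y T; omega)
  obtain ⟨c, hc⟩ := exists_not_mem_of_card (insert b (insert y T)) (by
    have := Finset.card_insert_le y T; have := Finset.card_insert_le b (insert y T); omega)
  simp only [Finset.mem_insert, not_or] at hb hc
  obtain ⟨x, hx, hxy, -⟩ := exists_cycle hy hb.2 hc.2.2 (Ne.symm hb.1) (Ne.symm hc.2.1) (Ne.symm hc.1)
  exact ⟨x, hx, hxy ▸ hb.1⟩

theorem subset_of_le {T U : Finset (Fin n)} (hT : T.card + 3 ≤ n) (h : Lf T ≤ Lf U) : U ⊆ T := by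
  intro y hy
  by_contra hyT
  obtain ⟨x, hx, hxy⟩ := exists_moving hT hyT
  exact hxy (mem_Lf.1 (h hx) y hy)

theorem centralizer_Lf {T : Finset (Fin n)} (hT : T.card + 5 ≤ n) :
    Subgroup.centralizer (Lf T : Set ↥(alternatingGroup (Fin n))) = Lf Tᶜ := by
  ext g
  rw [Subgroup.mem_centralizer_iff, mem_Lf]
  constructor
  · intro hg y hy
    rw [Finset.mem_compl] at hy
    by_contra hne
    set z := (g : Perm (Fin n)) y with hz
    obtain ⟨b, hb⟩ := exists_not_mem_of_card (insert z (insert y T)) (by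
      have := Finset.card_insert_le y T; have := Finset.card_insert_le z (insert y T); omega)
    obtain ⟨c, hc⟩ := exists_not_mem_of_card (insert b (insert z (insert y T))) (by
      have := Finset.card_insert_le y T; have := Finset.card_insert_le z (insert y T)
      have := Finset.card_insert_le b (insert z (insert y T)); omega)
    simp only [Finset.mem_insert, not_or] at hb hc
    obtain ⟨x, hx, hxy, hfix⟩ := exists_cycle hy hb.2.2 hc.2.2.2 (Ne.symm hb.2.1) (Ne.symm hc.2.2.1) (Ne.symm hc.1)
    have h1 := congrArg (fun p : ↥(alternatingGroup (Fin n)) => (p : Perm (Fin n)) y) (hg x hx)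
    simp only [Subgroup.coe_mul, Perm.mul_apply] at h1
    rw [← hz, hfix z hne (Ne.symm hb.1) (Ne.symm hc.2.1), hxy] at h1
    exact hb.2.1 ((g : Perm (Fin n)).injective h1.symm)
  · intro hg x hx
    have hd : Perm.Disjoint (x : Perm (Fin n)) (g : Perm (Fin n)) := fun y => by
      by_cases hy : y ∈ T
      · exact Or.inl (mem_Lf.1 hx y hy)
      · exact Or.inr (hg y (Finset.mem_compl.2 hy))
    exact Subtype.ext hd.commute.eq

/-- The image of a set of points. -/
def move (g : ↥(alternatingGroup (Fin n))) (T : Finset (Fin n)) : Finset (Fin n) :=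
  T.map (g : Perm (Fin n)).toEmbedding

theorem map_Lf (g : ↥(alternatingGroup (Fin n))) (T : Finset (Fin n)) :
    (Lf T).map (MulAut.conj g).toMonoidHom = Lf (move g T) := by
  ext x
  rw [Subgroup.mem_map_equiv, MulAut.conj_symm_apply, mem_Lf, mem_Lf]
  simp only [move, Finset.mem_map, Equiv.coe_toEmbedding, forall_exists_index, and_imp,
    forall_apply_eq_imp_iff₂, Subgroup.coe_mul, Subgroup.coe_inv, Perm.mul_apply]
  refine forall₂_congr fun y _ => ?_
  constructor
  · intro h
    have := congrArg (g : Perm (Fin n)) h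
    simpa using this
  · intro h
    rw [h]
    simp

theorem move_compl (g : ↥(alternatingGroup (Fin n))) (T : Finset (Fin n)) :
    move g Tᶜ = (move g T)ᶜ := by
  ext y
  simp [move, Finset.mem_map_equiv]

theorem card_move (g : ↥(alternatingGroup (Fin n))) (T : Finset (Fin n)) : (move g T).card = T.card :=
  Finset.card_map _

theorem standard (T : Finset (Fin n)) (hT : T.card = 4) (hn : 9 ≤ n) :
    Cfsg.IsStandardSubgroup (Lf T) := by
  have hC := centralizer_Lf (T := T) (by omega)
  have hTc : (Tᶜ : Finset (Fin n)).card + 3 ≤ n := by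
    rw [Finset.card_compl, Fintype.card_fin]; omega
  have hN : ∀ g, g ∈ Subgroup.normalizer (Lf T : Set ↥(alternatingGroup (Fin n))) ↔ move g T = T := by
    intro g
    rw [Subgroup.mem_normalizer_iff_map_conj_eq]
    show (Lf T).map (MulAut.conj g).toMonoidHom = Lf T ↔ _
    rw [map_Lf]
    refine ⟨fun h => le_antisymm ?_ ?_, fun h => by rw [h]⟩
    · exact subset_of_le (by omega) h.ge
    · exact subset_of_le (by rw [card_move]; omega) h.le
  have hNC : ∀ g, g ∈ Subgroup.normalizer (Lf Tᶜ : Set ↥(alternatingGroup (Fin n))) ↔ move g T = T := by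
    intro g
    rw [Subgroup.mem_normalizer_iff_map_conj_eq]
    show (Lf Tᶜ).map (MulAut.conj g).toMonoidHom = Lf Tᶜ ↔ _
    rw [map_Lf, move_compl]
    refine ⟨fun h => compl_injective (le_antisymm ?_ ?_), fun h => by rw [h]⟩
    · exact subset_of_le hTc h.ge
    · refine subset_of_le ?_ h.le
      rwa [← move_compl, card_move]
  refine ⟨?_, ?_, fun g hg hcomm => ?_, ?_⟩
  · have hcard : 5 ≤ Nat.card (Tᶜ : Finset (Fin n)) := by
      rw [Nat.card_eq_fintype_card, Fintype.card_coe, Finset.card_compl, Fintype.card_fin]; omega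
    have := alternatingGroup.isSimpleGroup hcard
    refine Quasisimple.of_mulEquiv (Quasisimple.of_isSimpleGroup ?_) (lfEquiv T)
    exact Cfsg.Agent.Lib.Alternating.alt_not_isMulCommutative (by rw [← Nat.card_eq_fintype_card]; omega)
  · rw [hC]
    refine ⟨?_, fun g hg => ?_⟩
    · haveI : Nontrivial ↥(Tᶜᶜ : Finset (Fin n)) := by
        rw [compl_compl, ← Finite.one_lt_card_iff_nontrivial, Nat.card_eq_fintype_card, Fintype.card_coe]
        omega
      rw [even_iff_two_dvd, ← Nat.card_congr (lfEquiv Tᶜ).toEquiv, nat_card_alternatingGroup]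
      rw [Nat.card_eq_fintype_card, Fintype.card_coe, compl_compl, hT]
      decide
    · rw [hNC] at hg
      rw [map_Lf, move_compl]
      have hle : Lf Tᶜ ⊓ Lf (move g T)ᶜ ≤ Lf (T ∩ move g T)ᶜ := by
        rintro x ⟨h1, h2⟩
        refine mem_Lf.2 fun y hy => ?_
        rcases (by simpa [Finset.mem_compl, Finset.mem_inter, imp_iff_not_or] using hy : y ∉ T ∨ y ∉ move g T) with h | h
        · exact mem_Lf.1 h1 y (Finset.mem_compl.2 h)
        · exact mem_Lf.1 h2 y (Finset.mem_compl.2 h)
      have hk : (T ∩ move g T).card ≤ 3 := by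
        by_contra hlt
        have h1 := Finset.eq_of_subset_of_card_le (Finset.inter_subset_left : T ∩ move g T ⊆ T) (by omega)
        exact hg (Finset.eq_of_subset_of_card_le (Finset.inter_eq_left.1 h1) (by rw [card_move])).symm
      refine (Odd.of_dvd_nat ?_ (Subgroup.card_dvd_of_le hle))
      rw [← Nat.card_congr (lfEquiv _).toEquiv]
      rcases Nat.lt_or_ge (T ∩ move g T).card 2 with h | h
      · haveI : Subsingleton ↥((T ∩ move g T)ᶜᶜ : Finset (Fin n)) := by
          rw [compl_compl]
          exact Finset.card_le_one_iff_subsingleton_coe.1 (by omega)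
        rw [Nat.card_unique]
        exact odd_one
      · haveI : Nontrivial ↥((T ∩ move g T)ᶜᶜ : Finset (Fin n)) := by
          rw [compl_compl, ← Finite.one_lt_card_iff_nontrivial, Nat.card_eq_fintype_card, Fintype.card_coe]
          omega
        rw [nat_card_alternatingGroup, Nat.card_eq_fintype_card, Fintype.card_coe, compl_compl]
        interval_cases (T ∩ move g T).card <;> decide
  · rw [map_Lf, Subgroup.commutator_comm, Subgroup.commutator_eq_bot_iff_le_centralizer, hC] at hcomm
    have := Finset.card_le_card (subset_of_le (by rw [card_move]; omega) hcomm)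
    rw [card_move, Finset.card_compl, Fintype.card_fin] at this
    omega
  · ext g
    rw [hN, hC, hNC]

/-- In A_n, n ≥ 9, the pointwise stabilizer of four points is standard. -/
theorem result (n : ℕ) (h4 : 4 ≤ n) (hn : 9 ≤ n) : Cfsg.IsStandardSubgroup (⨅ i : Fin 4, MulAction.stabilizer ↥(alternatingGroup (Fin n)) (Fin.castLE h4 i : Fin n)) := by
  let T : Finset (Fin n) := Finset.univ.image (Fin.castLE h4 : Fin 4 → Fin n)
  have hT : T.card = 4 := by
    rw [Finset.card_image_of_injective _ (Fin.castLE_injective h4), Finset.card_univ, Fintype.card_fin]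
  have hL : (⨅ i : Fin 4, MulAction.stabilizer ↥(alternatingGroup (Fin n)) (Fin.castLE h4 i : Fin n)) = Lf T := by
    ext g
    simp only [Lf, T, Subgroup.mem_iInf, mem_fixingSubgroup_iff, MulAction.mem_stabilizer_iff,
      Finset.coe_image, Finset.coe_univ, Set.image_univ, Set.forall_mem_range]
  rw [hL]
  exact standard T hT hn

end Cfsg.Agent.S1323
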