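import Cfsg.Statements.S1327
import Cfsg.Agent.Lib.FStarTools.Basic
import Cfsg.Agent.Lib.Components.PComponent
import Cfsg.Agent.Lib.PSolvable.HallHigman
-- import your own Cfsg.Agent.* helpers here

set_option autoImplicit false
open Cfsg

namespace Cfsg.Agent.S1327

open Subgroup Cfsg.Agent.Lib.Components Cfsg.Agent.Lib.FStarTools Cfsg.Agent.Lib

/-- A finite group X is p-constrained if and only if its p-layer L_{p'}(X) is trivial (equivalently X / O_{p'}(X) has trivial layer). -/
theorem result {X : Type*} [Group X] [Finite X] (p : ℕ) [Fact p.Prime] : Cfsg.IsPConstrained p X ↔ Cfsg.pLayer p X = ⊥ := by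
  rw [PSolvable.isPConstrained_iff, ← fitting_eq_pCore (Cores.pPrimeCore_quotient_pPrimeCore p),
    centralizer_fitting_le_iff, ← PComponent.map_pLayer]
  constructor
  · intro h
    rw [Subgroup.map_eq_bot_iff, QuotientGroup.ker_mk'] at h
    exact sSup_eq_bot.mpr fun K hK => absurd ((le_sSup hK).trans h) (PComponent.not_le_pPrimeCore hK)
  · intro h
    rw [h, Subgroup.map_bot]

end Cfsg.Agent.S1327
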