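import Cfsg.Statements.S1331
import Cfsg.Agent.Lib.PLocal.CoprimeGen
import Cfsg.Agent.Lib.Signalizer.Basic
-- import your own Cfsg.Agent.* helpers here

set_option autoImplicit false
open Cfsg

namespace Cfsg.Agent.S1331

/-- Let θ be a solvable A-signalizer functor on the finite group G for the prime p, A elementary abelian of rank at least 3, X a member of the family of θ, and B ≤ A with |B| ≥ p². Then X is generated by the subgroups X ∩ ⋂_{d ∈ D, d ≠ 1} θ d, D ranging over the subgroups of index p in B. -/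
theorem result {G : Type*} [Group G] [Finite G] (p : ℕ) [Fact p.Prime] (A : Subgroup G) (hA : Cfsg.IsElementaryAbelian p A) (hA3 : p ^ 3 ≤ Nat.card ↥A) (θ : G → Subgroup G) (hθ : Cfsg.IsSolvableSignalizerFunctor p A θ) (X : Subgroup G) (hX : X ∈ Cfsg.signalizerFamily p A θ) (B : Subgroup G) (hB : B ≤ A) (hB2 : p ^ 2 ≤ Nat.card ↥B) : X = ⨆ D : {D : Subgroup G // D ≤ B ∧ D.relIndex B = p}, X ⊓ Cfsg.signalizerInf (D : Subgroup G) θ := by
  refine le_antisymm ?_ (iSup_le fun D => inf_le_left)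
  have hBe : Cfsg.IsElementaryAbelian p B := by
    refine ⟨⟨⟨fun a b => Subtype.ext ?_⟩⟩, fun a ha => hA.2 a (hB ha)⟩
    show (a : G) * b = b * a
    exact congrArg Subtype.val (hA.1.is_comm.comm ⟨(a : G), hB a.2⟩ ⟨(b : G), hB b.2⟩)
  have hp : p.Prime := Fact.out
  have hBX : B ≤ Subgroup.normalizer (X : Set G) :=
    hB.trans (Cfsg.Agent.Lib.Signalizer.le_normalizer_of_mem hX)
  refine (Cfsg.Agent.Lib.PLocal.le_iSup_fixOn_hyperplane hBe hBX
    ((Nat.Prime.coprime_iff_not_dvd hp).2 hX.2.1).symm).trans (iSup_le fun D => ?_)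
  obtain ⟨D, hDB, hDi⟩ := D
  obtain ⟨k, hk⟩ := IsPGroup.iff_card.1 (Cfsg.Agent.Lib.PGroups.elemAb_isPGroup hBe)
  have hk2 : 2 ≤ k := (Nat.pow_le_pow_iff_right hp.one_lt).1 (hk ▸ hB2)
  obtain ⟨D', hD', hD'B, hD'D⟩ : ∃ D' : Subgroup G, D' ≤ B ∧ D'.relIndex B = p ∧ D' ≤ D := by
    have hdvd : D.relIndex B ∣ p ^ k := hk ▸ Subgroup.relIndex_dvd_card D B
    obtain ⟨j, -, hj⟩ := (Nat.dvd_prime_pow hp).1 hdvd
    by_cases hj0 : j = 0
    · obtain ⟨E, hE⟩ := Sylow.exists_subgroup_card_pow_prime (G := ↥B) p (n := k - 1) (by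
        rw [hk]; exact pow_dvd_pow p (Nat.sub_le k 1))
      refine ⟨E.map B.subtype, Subgroup.map_subtype_le _, ?_, ?_⟩
      · have h1 := Subgroup.card_mul_index E
        rw [hE, hk] at h1
        rw [Subgroup.relIndex, Subgroup.subgroupOf, Subgroup.comap_map_eq_self_of_injective B.subtype_injective]
        have h2 : p ^ (k - 1) * p = p ^ k := by rw [← pow_succ]; congr 1; omega
        exact Nat.eq_of_mul_eq_mul_left (pow_pos hp.pos _) (h1.trans h2.symm)
      · rw [hj0, pow_zero, Subgroup.relIndex_eq_one] at hj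
        exact (Subgroup.map_subtype_le _).trans hj
    · refine ⟨D, hDB, ?_, le_rfl⟩
      rw [hj] at hDi ⊢
      have hj1 : j ≤ 1 := (Nat.pow_le_pow_iff_right hp.one_lt).1 (by simpa using hDi)
      rw [show j = 1 by omega, pow_one]
  refine le_iSup_of_le ⟨D', hD', hD'B⟩ ?_
  refine le_inf inf_le_left ((inf_le_inf_left X (Subgroup.centralizer_le hD'D)).trans ?_)
  exact Cfsg.Agent.Lib.Signalizer.inf_centralizer_le_signalizerInf hX (hD'.trans hB)

end Cfsg.Agent.S1331
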