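import Cfsg.Statements.S1335
import Mathlib.GroupTheory.Nilpotent
-- import your own Cfsg.Agent.* helpers here

set_option autoImplicit false
open Cfsg

namespace Cfsg.Agent.S1335

/-- Let H be a subgroup of the finite group G, p a prime, k ≥ 1, P a Sylow p-subgroup of H of p-rank at least k, and suppose N_G(X) ≤ H for every subgroup X ≤ P of p-rank at least k. Then P is a Sylow p-subgroup of G. -/
theorem result {G : Type*} [Group G] [Finite G] {p : ℕ} [Fact p.Prime] (k : ℕ) (hk : 1 ≤ k) (H : Subgroup G) (P : Sylow p ↥H) (hP : ¬ Cfsg.PRankLE p (k - 1) ↥(P : Subgroup ↥H)) (hΓ : (∀ X : Subgroup G, X ≤ (P : Subgroup ↥H).map H.subtype → ¬ Cfsg.PRankLE p (k - 1) ↥X → Subgroup.normalizer (X : Set G) ≤ H)) : ∃ Q : Sylow p G, (Q : Subgroup G) = (P : Subgroup ↥H).map H.subtype := by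
  set Pm : Subgroup G := (P : Subgroup ↥H).map H.subtype with hPm
  have hPp : IsPGroup p ↥Pm := P.isPGroup'.map _
  obtain ⟨Q, hQ⟩ := hPp.exists_le_sylow
  refine ⟨Q, le_antisymm ?_ hQ⟩
  by_contra hne
  have hlt : Pm.subgroupOf (Q : Subgroup G) < ⊤ :=
    lt_top_iff_ne_top.2 fun h => hne (Subgroup.subgroupOf_eq_top.1 h)
  have : Group.IsNilpotent ↥(Q : Subgroup G) := Q.isPGroup'.isNilpotent
  obtain ⟨q, hq, hqP⟩ := SetLike.exists_of_lt (Group.normalizerCondition_of_isNilpotent _ hlt)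
  have hqn : (q : G) ∈ Subgroup.normalizer (Pm : Set G) := by
    rw [Subgroup.mem_normalizer_iff] at hq ⊢
    intro x
    constructor
    · intro hx
      exact (hq ⟨x, hQ hx⟩).1 hx
    · intro hx
      have hxQ : x ∈ (Q : Subgroup G) := by
        have h' := Subgroup.mul_mem _ (Subgroup.mul_mem _ (Subgroup.inv_mem _ q.2) (hQ hx)) q.2
        simpa [mul_assoc] using h'
      exact (hq ⟨x, hxQ⟩).2 hx
  have hPrk : ¬ Cfsg.PRankLE p (k - 1) ↥Pm := by
    intro h
    refine hP fun A hA hA' => ?_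
    let e := (P : Subgroup ↥H).equivMapOfInjective H.subtype H.subtype_injective
    have hc := h (A.map e.toMonoidHom) ⟨⟨fun a b => ?_⟩⟩ ?_
    · rwa [Subgroup.card_map_of_injective e.injective] at hc
    · obtain ⟨_, a, ha, rfl⟩ := a
      obtain ⟨_, b, hb, rfl⟩ := b
      refine Subtype.ext ?_
      show e a * e b = e b * e a
      rw [← map_mul, ← map_mul]
      exact congrArg e (congrArg Subtype.val (hA.is_comm.comm ⟨a, ha⟩ ⟨b, hb⟩))
    · rintro _ ⟨a, ha, rfl⟩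
      rw [← map_pow, hA' a ha, map_one]
  have hqH : (q : G) ∈ H := hΓ Pm le_rfl hPrk hqn
  set R : Subgroup G := (Q : Subgroup G) ⊓ H with hR
  have hRp : IsPGroup p ↥(R.subgroupOf H) :=
    (Q.isPGroup'.to_le inf_le_left).of_equiv (Subgroup.subgroupOfEquivOfLe inf_le_right).symm
  have hPR : (P : Subgroup ↥H) ≤ R.subgroupOf H := fun x hx => ⟨hQ ⟨x, hx, rfl⟩, x.2⟩
  have := P.is_maximal' hRp hPR
  refine hqP ⟨⟨q, hqH⟩, ?_, rfl⟩
  show (⟨(q : G), hqH⟩ : ↥H) ∈ (P : Subgroup ↥H)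
  rw [← this]
  exact ⟨q.2, hqH⟩

end Cfsg.Agent.S1335
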