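import Cfsg.Statements.S1336
import Mathlib.GroupTheory.Sylow
-- import your own Cfsg.Agent.* helpers here

set_option autoImplicit false
open Cfsg

namespace Cfsg.Agent.S1336

/-- Let G be finite and p prime. Then G has a proper subgroup H with p ∣ |H| and p ∤ |H ∩ gHg⁻¹| for every g ∉ H (a strongly p-embedded subgroup) if and only if G is not 1-connected for p. -/
theorem result {G : Type*} [Group G] [Finite G] (p : ℕ) [Fact p.Prime] : (∃ H : Subgroup G, H ≠ ⊤ ∧ p ∣ Nat.card ↥H ∧ ∀ g : G, g ∉ H → ¬ p ∣ Nat.card ↥(H ⊓ H.map (MulAut.conj g).toMonoidHom)) ↔ ¬ Cfsg.IsKConnected p 1 G := by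
  classical
  let V : Subgroup G → Prop := fun A => Cfsg.IsElementaryAbelian p A ∧ p ^ 1 ≤ Nat.card ↥A
  let r : Subgroup G → Subgroup G → Prop := fun A B =>
    Cfsg.IsElementaryAbelian p A ∧ p ^ 1 ≤ Nat.card ↥A ∧ Cfsg.IsElementaryAbelian p B ∧
      p ^ 1 ≤ Nat.card ↥B ∧ ∀ a ∈ A, ∀ b ∈ B, a * b = b * a
  have hp : p.Prime := Fact.out
  let cg : G → Subgroup G → Subgroup G := fun g A => A.map (MulAut.conj g).toMonoidHom
  have hVne : ∀ A, V A → ∃ a ∈ A, orderOf a = p := by
    intro A hA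
    have h1 : p ≤ Nat.card ↥A := by simpa using hA.2
    have : Nontrivial ↥A := Finite.one_lt_card_iff_nontrivial.1 (lt_of_lt_of_le hp.one_lt h1)
    obtain ⟨a, ha, ha1⟩ := (Subgroup.nontrivial_iff_exists_ne_one A).1 this
    exact ⟨a, ha, orderOf_eq_prime (hA.1.2 a ha) ha1⟩
  have hcgV : ∀ g A, V A → V (cg g A) := by
    intro g A hA
    refine ⟨⟨⟨⟨fun a b => ?_⟩⟩, ?_⟩, ?_⟩
    · obtain ⟨_, a, ha, rfl⟩ := a
      obtain ⟨_, b, hb, rfl⟩ := b
      refine Subtype.ext ?_
      show MulAut.conj g a * MulAut.conj g b = MulAut.conj g b * MulAut.conj g a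
      rw [← map_mul, ← map_mul]
      exact congrArg _ (congrArg Subtype.val (hA.1.1.is_comm.comm ⟨a, ha⟩ ⟨b, hb⟩))
    · rintro _ ⟨a, ha, rfl⟩
      rw [← map_pow, hA.1.2 a ha, map_one]
    · show p ^ 1 ≤ Nat.card ↥(A.map (MulAut.conj g).toMonoidHom)
      rw [Subgroup.card_map_of_injective (MulAut.conj g).injective]
      exact hA.2
  constructor
  · rintro ⟨H, hH, hdvd, hse⟩ hconn
    have hstep : ∀ A B, r A B → A ≤ H → B ≤ H := by
      intro A B h hA b hb
      by_contra hbH
      obtain ⟨a, ha, hao⟩ := hVne A ⟨h.1, h.2.1⟩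
      refine hse b hbH ?_
      have hmem : a ∈ H ⊓ H.map (MulAut.conj b).toMonoidHom := by
        refine ⟨hA ha, a, hA ha, ?_⟩
        show b * a * b⁻¹ = a
        rw [← h.2.2.2.2 a ha b hb, mul_inv_cancel_right]
      have := Subgroup.orderOf_dvd_natCard _ hmem
      rwa [hao] at this
    obtain ⟨⟨x, hxH⟩, hx⟩ := exists_prime_orderOf_dvd_card' (G := ↥H) p hdvd
    rw [Subgroup.orderOf_mk] at hx
    have hX : V (Subgroup.zpowers x) := by
      refine ⟨⟨inferInstance, ?_⟩, ?_⟩
      · rintro _ ⟨k, rfl⟩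
        show (x ^ k) ^ p = 1
        rw [← zpow_natCast, ← zpow_mul, mul_comm, zpow_mul, zpow_natCast, ← hx, pow_orderOf_eq_one,
          one_zpow]
      · simp [Nat.card_zpowers, hx]
    obtain ⟨g, hg⟩ : ∃ g, g ∉ H := by
      by_contra! h
      exact hH ((Subgroup.eq_top_iff' H).2 h)
    have hR : ∀ A B, Relation.ReflTransGen r A B → A ≤ H → B ≤ H := by
      intro A B h
      induction h with
      | refl => exact id
      | tail _ hbc ih => exact fun hA => hstep _ _ hbc (ih hA)
    have hgx := hR _ _ (hconn _ _ hX.1 hX.2 (hcgV g _ hX).1 (hcgV g _ hX).2)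
      (Subgroup.zpowers_le.2 hxH) ⟨x, Subgroup.mem_zpowers x, rfl⟩
    refine hse g hg ?_
    have := Subgroup.orderOf_dvd_natCard _ (show MulAut.conj g x ∈ H ⊓ H.map (MulAut.conj g).toMonoidHom
      from ⟨hgx, x, hxH, rfl⟩)
    rwa [show orderOf (MulAut.conj g x) = p from
      (orderOf_injective (MulAut.conj g).toMonoidHom (MulAut.conj g).injective x).trans hx] at this
  · intro hnc
    obtain ⟨E, E', hE1, hE2, hE1', hE2', hEE'⟩ : ∃ E E', Cfsg.IsElementaryAbelian p E ∧
        p ^ 1 ≤ Nat.card ↥E ∧ Cfsg.IsElementaryAbelian p E' ∧ p ^ 1 ≤ Nat.card ↥E' ∧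
        ¬ Relation.ReflTransGen r E E' := by
      by_contra! h
      exact hnc fun A B hA hA' hB hB' => h A B hA hA' hB hB'
    have hsymm : ∀ A B, Relation.ReflTransGen r A B → Relation.ReflTransGen r B A := by
      intro A B h
      induction h with
      | refl => exact .refl
      | tail _ hbc ih =>
        exact (Relation.ReflTransGen.single
          ⟨hbc.2.2.1, hbc.2.2.2.1, hbc.1, hbc.2.1, fun a ha b hb => (hbc.2.2.2.2 b hb a ha).symm⟩).trans ih
    have heq : ∀ g A B, Relation.ReflTransGen r A B → Relation.ReflTransGen r (cg g A) (cg g B) := by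
      intro g A B h
      refine h.lift _ ?_
      rintro a b ⟨h1, h2, h3, h4, h5⟩
      refine ⟨(hcgV g a ⟨h1, h2⟩).1, (hcgV g a ⟨h1, h2⟩).2, (hcgV g b ⟨h3, h4⟩).1,
        (hcgV g b ⟨h3, h4⟩).2, ?_⟩
      rintro _ ⟨x, hx, rfl⟩ _ ⟨y, hy, rfl⟩
      rw [← map_mul, ← map_mul, h5 x hx y hy]
    have hmul : ∀ g h A, cg g (cg h A) = cg (g * h) A := by
      intro g h A
      show (A.map _).map _ = A.map _
      rw [Subgroup.map_map]
      congr 1
      ext x
      simp [mul_assoc]
    have hone : ∀ A, cg 1 A = A := by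
      intro A
      ext x
      simp [cg]
    let H : Subgroup G :=
      { carrier := {g | Relation.ReflTransGen r (cg g E) E}
        one_mem' := by show Relation.ReflTransGen r _ _; rw [hone]
        mul_mem' := by
          intro a b ha hb
          show Relation.ReflTransGen r _ _
          rw [← hmul]
          exact (heq a _ _ hb).trans ha
        inv_mem' := by
          intro a ha
          show Relation.ReflTransGen r _ _
          have := heq a⁻¹ _ _ ha
          rw [hmul, inv_mul_cancel, hone] at this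
          exact hsymm _ _ this }
    have hEH : E ≤ H := by
      intro e he
      have : cg e E = E := Subgroup.mem_normalizer_iff_map_conj_eq.1 (Subgroup.le_normalizer he)
      show Relation.ReflTransGen r (cg e E) E
      rw [this]
    -- vertices inside one p-subgroup are joined
    have hP : ∀ (S : Subgroup G) A B, IsPGroup p ↥S → V A → V B → A ≤ S → B ≤ S →
        Relation.ReflTransGen r A B := by
      intro S A B hS hA hB hAS hBS
      obtain ⟨a, ha, hao⟩ := hVne A hA
      have : Nontrivial ↥S := (Subgroup.nontrivial_iff_exists_ne_one S).2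
        ⟨a, hAS ha, fun h => hp.ne_one (by rw [← hao, h, orderOf_one])⟩
      obtain ⟨z, hz⟩ : ∃ z : ↥(Subgroup.center ↥S), orderOf z = p := by
        have := hS.center_nontrivial
        obtain ⟨n, hn⟩ := IsPGroup.iff_card.1 (hS.to_subgroup (Subgroup.center ↥S))
        refine exists_prime_orderOf_dvd_card' p ?_
        rw [hn]
        refine dvd_pow_self p fun h0 => ?_
        have := Finite.one_lt_card_iff_nontrivial.2 ‹Nontrivial ↥(Subgroup.center ↥S)›
        rw [hn, h0, pow_zero] at this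
        exact lt_irrefl _ this
      set z' : G := ((z : ↥S) : G) with hz'
      have hzo : orderOf z' = p := by rw [hz', Subgroup.orderOf_coe, Subgroup.orderOf_coe, hz]
      have hzc : ∀ s ∈ S, ∀ w ∈ Subgroup.zpowers z', s * w = w * s := by
        rintro s hs _ ⟨k, rfl⟩
        refine Commute.zpow_right ?_ k
        exact congrArg Subtype.val (Subgroup.mem_center_iff.1 z.2 ⟨s, hs⟩)
      have hZ : V (Subgroup.zpowers z') := by
        refine ⟨⟨inferInstance, ?_⟩, ?_⟩
        · rintro _ ⟨k, rfl⟩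
          show (z' ^ k) ^ p = 1
          rw [← zpow_natCast, ← zpow_mul, mul_comm, zpow_mul, zpow_natCast, ← hzo, pow_orderOf_eq_one,
            one_zpow]
        · simp [Nat.card_zpowers, hzo]
      have h1 : r A (Subgroup.zpowers z') :=
        ⟨hA.1, hA.2, hZ.1, hZ.2, fun s hs w hw => hzc s (hAS hs) w hw⟩
      have h2 : r (Subgroup.zpowers z') B :=
        ⟨hZ.1, hZ.2, hB.1, hB.2, fun w hw s hs => (hzc s (hBS hs) w hw).symm⟩
      exact (Relation.ReflTransGen.single h1).tail h2
    have hVp : ∀ A, V A → IsPGroup p ↥A := fun A hA a => ⟨1, by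
      rw [pow_one]; exact Subtype.ext (hA.1.2 a a.2)⟩
    -- every vertex inside H is joined to E
    have hall : ∀ A, V A → A ≤ H → Relation.ReflTransGen r A E := by
      intro A hA hAH
      obtain ⟨S, hS⟩ := IsPGroup.exists_le_sylow (P := E.subgroupOf H)
        ((hVp E ⟨hE1, hE2⟩).of_equiv (Subgroup.subgroupOfEquivOfLe hEH).symm)
      obtain ⟨S', hS'⟩ := IsPGroup.exists_le_sylow (P := A.subgroupOf H)
        ((hVp A hA).of_equiv (Subgroup.subgroupOfEquivOfLe hAH).symm)
      obtain ⟨h, hh⟩ := MulAction.exists_smul_eq (↥H) S' S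
      have hA' : cg h A ≤ (S : Subgroup ↥H).map H.subtype := by
        rintro _ ⟨a, ha, rfl⟩
        refine ⟨h * ⟨a, hAH ha⟩ * h⁻¹, ?_, rfl⟩
        rw [← hh]
        exact ⟨⟨a, hAH ha⟩, hS' ha, rfl⟩
      have hE' : E ≤ (S : Subgroup ↥H).map H.subtype := fun e he => ⟨⟨e, hEH he⟩, hS he, rfl⟩
      have h1 := (hP _ _ _ (S.isPGroup'.map _) (hcgV _ _ hA) ⟨hE1, hE2⟩ hA' hE').trans (hsymm _ _ h.2)
      have h2 := heq (h : G)⁻¹ _ _ h1
      rwa [hmul, hmul, inv_mul_cancel, hone, hone] at h2
    refine ⟨H, fun h => hEE' (hsymm _ _ (hall E' ⟨hE1', hE2'⟩ (h ▸ le_top))), ?_, ?_⟩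
    · obtain ⟨e, he, heo⟩ := hVne E ⟨hE1, hE2⟩
      rw [← heo]
      exact Subgroup.orderOf_dvd_natCard _ (hEH he)
    · intro g hg hdvd
      obtain ⟨⟨x, hxm⟩, hxo⟩ := exists_prime_orderOf_dvd_card' p hdvd
      rw [Subgroup.orderOf_mk] at hxo
      obtain ⟨hx, y, hy, hyx⟩ := hxm
      have hyo : orderOf y = p := by
        rw [← orderOf_injective (MulAut.conj g).toMonoidHom (MulAut.conj g).injective y, hyx, hxo]
      have hV : ∀ w : G, orderOf w = p → V (Subgroup.zpowers w) := by
        intro w hw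
        refine ⟨⟨inferInstance, ?_⟩, ?_⟩
        · rintro _ ⟨k, rfl⟩
          show (w ^ k) ^ p = 1
          rw [← zpow_natCast, ← zpow_mul, mul_comm, zpow_mul, zpow_natCast, ← hw, pow_orderOf_eq_one,
            one_zpow]
        · simp [Nat.card_zpowers, hw]
      have h1 := hall _ (hV x hxo) (Subgroup.zpowers_le.2 hx)
      have h2 := heq g _ _ (hall _ (hV y hyo) (Subgroup.zpowers_le.2 hy))
      have h3 : cg g (Subgroup.zpowers y) = Subgroup.zpowers x := by
        show (Subgroup.zpowers y).map (MulAut.conj g).toMonoidHom = _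
        rw [MonoidHom.map_zpowers, hyx]
      rw [h3] at h2
      exact hg ((hsymm _ _ h2).trans h1)

end Cfsg.Agent.S1336
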