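import Cfsg.Statements.S1338
import Cfsg.Agent.Lib.PConnected.RankFour
-- import your own Cfsg.Agent.* helpers here

set_option autoImplicit false
open Cfsg

namespace Cfsg.Agent.S1338

/-- A finite 3-group of 3-rank at least 4 is 2-connected for the prime 3: its commuting graph on elementary abelian subgroups of order ≥ 9 is connected. -/
theorem result {P : Type*} [Group P] [Finite P] (hP : IsPGroup 3 P) (hrk : ¬ Cfsg.PRankLE 3 3 P) : Cfsg.IsKConnected 3 2 P := by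
  haveI : Fact (Nat.Prime 3) := ⟨Nat.prime_three⟩
  obtain ⟨E, -, hE, hEc⟩ := Cfsg.Agent.Lib.OddOrder.Rank.exists_elemAb_of_not_prankLE
    (H := (⊤ : Subgroup P)) (p := 3) (k := 3) (fun h => hrk fun B hB1 hB2 =>
      Cfsg.Agent.Lib.OddOrder.Rank.prankLE_subgroup_iff.1 h B le_top ⟨hB1, hB2⟩)
  have hE4 : 3 ^ 4 ≤ Nat.card ↥E := by
    obtain ⟨k, hk⟩ := Cfsg.Agent.Lib.PGroups.elemAb_card_eq_pow hE
    rw [hk] at hEc ⊢
    exact Nat.pow_le_pow_right (by norm_num) ((Nat.pow_lt_pow_iff_right (by norm_num)).1 hEc)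
  have hrk2 : ¬ Cfsg.PRankLE 3 2 P := fun h => by
    have := hE4.trans (h E hE.1 hE.2)
    norm_num at this
  obtain ⟨A, hAn, hA, hAc⟩ :=
    Cfsg.Agent.Lib.PConnected.exists_normal_four (by norm_num) hP hE hE4
  obtain ⟨U, hUn, hU, hUc⟩ := Cfsg.Agent.Lib.PConnected.exists_normal_sq hP hrk2
  have hreach : ∀ X : Subgroup P, Cfsg.IsElementaryAbelian 3 X → 3 ^ 2 ≤ Nat.card ↥X →
      Relation.ReflTransGen (Cfsg.Agent.Lib.PConnected.rel 3) X U := fun X hX hXc =>
    (Cfsg.Agent.Lib.PConnected.reach_iff hP hrk2 hU hUc X hX hXc).2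
      (Cfsg.Agent.Lib.PConnected.not_prankLE_centralizer hP hA hAc.ge hX hXc)
  intro X X' hX hXc hX' hX'c
  exact (hreach X hX hXc).trans
    (haveI : Std.Symm (Cfsg.Agent.Lib.PConnected.rel (G := P) 3) :=
      ⟨Cfsg.Agent.Lib.PConnected.rel_symm⟩
    Std.Symm.symm _ _ (hreach X' hX' hX'c))

end Cfsg.Agent.S1338
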