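import Cfsg.Statements.S1339
import Cfsg.Agent.Lib.Balance.Locals
import Mathlib.LinearAlgebra.Matrix.Transvection
import Mathlib.FieldTheory.Finite.Basic
import Mathlib.Tactic.Abel
-- import your own Cfsg.Agent.* helpers here

set_option autoImplicit false
open Cfsg

namespace Cfsg.Agent.S1339

/-- Let F be a field with 2 elements, n ≥ 3, and t ∈ SL(n, F) a transvection (t = 1 + E_{ij}, i ≠ j). Then the generalized Fitting subgroup of C(t) is O_2(C(t)). -/
theorem result {F : Type*} [Field F] [Fintype F] [DecidableEq F] (hF : Fintype.card F = 2) (n : ℕ) (hn : 3 ≤ n) (i j : Fin n) (hij : i ≠ j) (t : Matrix.SpecialLinearGroup (Fin n) F) (ht : (t : Matrix (Fin n) (Fin n) F) = Matrix.transvection i j 1) : Cfsg.generalizedFittingSubgroup ↥(Subgroup.centralizer ({t} : Set (Matrix.SpecialLinearGroup (Fin n) F))) = Cfsg.pCore 2 ↥(Subgroup.centralizer ({t} : Set (Matrix.SpecialLinearGroup (Fin n) F))) := by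
  set C := Subgroup.centralizer ({t} : Set (Matrix.SpecialLinearGroup (Fin n) F)) with hC
  have hne0 : ∀ c : F, c ≠ 0 → c = 1 := fun c hc => by
    have h := FiniteField.pow_card_sub_one_eq_one c hc
    rwa [hF, show (2 : ℕ) - 1 = 1 from rfl, pow_one] at h
  have htwo : (2 : F) = 0 := by
    by_contra h
    have h1 := hne0 2 h
    exact one_ne_zero (α := F) (by linear_combination h1)
  have hmem : ∀ A : Matrix.SpecialLinearGroup (Fin n) F, A ∈ C ↔
      (A : Matrix (Fin n) (Fin n) F) * Matrix.transvection i j 1 =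
        Matrix.transvection i j 1 * (A : Matrix (Fin n) (Fin n) F) := by
    intro A
    rw [hC, Subgroup.mem_centralizer_singleton_iff, ← ht]
    exact ⟨fun h => congrArg Subtype.val h, fun h => Subtype.ext h⟩
  have hcol : ∀ A : ↥C, ∀ a, a ≠ i → ((A : Matrix.SpecialLinearGroup (Fin n) F) : Matrix (Fin n) (Fin n) F) a i = 0 := by
    intro A a ha
    have h := congrFun (congrFun ((hmem _).1 A.2) a) j
    rw [Matrix.mul_transvection_apply_same, Matrix.transvection_mul_apply_of_ne _ _ _ _ ha, one_mul] at h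
    simpa using h
  have hrow : ∀ A : ↥C, ∀ b, b ≠ j → ((A : Matrix.SpecialLinearGroup (Fin n) F) : Matrix (Fin n) (Fin n) F) j b = 0 := by
    intro A b hb
    have h := congrFun (congrFun ((hmem _).1 A.2) i) b
    rw [Matrix.mul_transvection_apply_of_ne _ _ _ _ hb, Matrix.transvection_mul_apply_same, one_mul] at h
    simpa using h.symm
  have hdiag : ∀ A : ↥C, ((A : Matrix.SpecialLinearGroup (Fin n) F) : Matrix (Fin n) (Fin n) F) i i = 1 ∧
      ((A : Matrix.SpecialLinearGroup (Fin n) F) : Matrix (Fin n) (Fin n) F) j j = 1 := by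
    intro A
    refine ⟨hne0 _ fun h => ?_, hne0 _ fun h => ?_⟩
    · have hd := (A : Matrix.SpecialLinearGroup (Fin n) F).2
      rw [Matrix.det_eq_zero_of_column_eq_zero i (fun a => if ha : a = i then by rw [ha]; exact h else hcol A a ha)] at hd
      exact zero_ne_one hd
    · have hd := (A : Matrix.SpecialLinearGroup (Fin n) F).2
      rw [Matrix.det_eq_zero_of_row_eq_zero j (fun b => if hb : b = j then by rw [hb]; exact h else hrow A b hb)] at hd
      exact zero_ne_one hd
  let ψ : ↥C →* Matrix {a : Fin n // a ≠ i ∧ a ≠ j} {a : Fin n // a ≠ i ∧ a ≠ j} F :=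
    { toFun := fun A => ((A : Matrix.SpecialLinearGroup (Fin n) F) : Matrix (Fin n) (Fin n) F).submatrix Subtype.val Subtype.val
      map_one' := by
        ext a b
        simp [Matrix.one_apply, Subtype.ext_iff]
      map_mul' := fun A B => by
        ext a b
        simp only [Subgroup.coe_mul, Matrix.SpecialLinearGroup.coe_mul, Matrix.submatrix_apply, Matrix.mul_apply]
        rw [← Finset.sum_subtype (s := Finset.univ.filter fun c : Fin n => c ≠ i ∧ c ≠ j) (by simp)
          (fun c => ((A : Matrix.SpecialLinearGroup (Fin n) F) : Matrix (Fin n) (Fin n) F) a c *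
            ((B : Matrix.SpecialLinearGroup (Fin n) F) : Matrix (Fin n) (Fin n) F) c b)]
        refine (Finset.sum_subset (Finset.filter_subset _ _) fun c _ hc => ?_).symm
        by_cases hci : (c : Fin n) = i
        · rw [hci, hcol A _ a.2.1, zero_mul]
        · have hcj : (c : Fin n) = j := by
            by_contra hcj
            exact hc (Finset.mem_filter.2 ⟨Finset.mem_univ _, hci, hcj⟩)
          rw [hcj, hrow B _ b.2.2, mul_zero] }
  set Q := ψ.ker with hQ
  have hQmem : ∀ A : ↥C, A ∈ Q → ∀ a b, a ≠ i → b ≠ j →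
      ((A : Matrix.SpecialLinearGroup (Fin n) F) : Matrix (Fin n) (Fin n) F) a b = (1 : Matrix (Fin n) (Fin n) F) a b := by
    intro A hA a b ha hb
    by_cases haj : a = j
    · subst haj
      rw [hrow A b hb, Matrix.one_apply_ne (Ne.symm hb)]
    by_cases hbi : b = i
    · subst hbi
      rw [hcol A a ha, Matrix.one_apply_ne ha]
    have := Matrix.ext_iff.2 (MonoidHom.mem_ker.1 hA) ⟨a, ha, haj⟩ ⟨b, hbi, hb⟩
    simpa [ψ, Matrix.one_apply, Subtype.ext_iff] using this
  have hQp : IsPGroup 2 ↥Q := by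
    intro A
    refine ⟨2, ?_⟩
    set M := (((A : ↥C) : Matrix.SpecialLinearGroup (Fin n) F) : Matrix (Fin n) (Fin n) F) with hM
    have hN : ∀ a b, a ≠ i → b ≠ j → (M - 1) a b = 0 := fun a b ha hb => by
      rw [Matrix.sub_apply, hM, hQmem _ A.2 a b ha hb, sub_self]
    have hNi : ∀ a, (M - 1) a i = 0 := fun a => by
      by_cases ha : a = i
      · rw [ha, Matrix.sub_apply, Matrix.one_apply_eq, hM, (hdiag (A : ↥C)).1, sub_self]
      · exact hN a i ha hij
    have hNj : ∀ b, (M - 1) j b = 0 := fun b => by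
      by_cases hb : b = j
      · rw [hb, Matrix.sub_apply, Matrix.one_apply_eq, hM, (hdiag (A : ↥C)).2, sub_self]
      · exact hN j b (Ne.symm hij) hb
    have hN2 : ∀ a b, (a ≠ i ∨ b ≠ j) → ((M - 1) * (M - 1)) a b = 0 := by
      intro a b hab
      rw [Matrix.mul_apply]
      refine Finset.sum_eq_zero fun c _ => ?_
      by_cases hci : c = i
      · rw [hci, hNi, zero_mul]
      by_cases hcj : c = j
      · rw [hcj, hNj, mul_zero]
      rcases hab with ha | hb
      · rw [hN a c ha hcj, zero_mul]
      · rw [hN c b hci hb, mul_zero]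
    have hN4 : ((M - 1) * (M - 1)) * ((M - 1) * (M - 1)) = 0 := by
      ext a b
      rw [Matrix.mul_apply]
      refine Finset.sum_eq_zero fun c _ => ?_
      by_cases hci : c = i
      · rw [hN2 a c (Or.inr (hci ▸ hij)), zero_mul]
      · rw [hN2 c b (Or.inl hci), mul_zero]
    have h2 : ∀ X : Matrix (Fin n) (Fin n) F, X + X = 0 := fun X => by
      ext a b
      rw [Matrix.add_apply, ← two_mul, htwo, zero_mul, Matrix.zero_apply]
    have hsq : ∀ X : Matrix (Fin n) (Fin n) F, (1 + X) * (1 + X) = 1 + X * X := fun X => by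
      rw [mul_add, add_mul, add_mul, one_mul, one_mul, mul_one]
      calc 1 + X + (X + X * X) = 1 + (X + X) + X * X := by abel
        _ = _ := by rw [h2, add_zero]
    refine Subtype.ext (Subtype.ext (Subtype.ext ?_))
    show M ^ 2 ^ 2 = 1
    have hMd : M = 1 + (M - 1) := by abel
    rw [show (2 : ℕ) ^ 2 = 2 * 2 from rfl, pow_mul, pow_two, pow_two, hMd, hsq, hsq, hN4, add_zero]
  have hCQ : Subgroup.centralizer (Q : Set ↥C) ≤ Q := by
    intro A hA
    refine MonoidHom.mem_ker.2 ?_
    ext k b
    obtain ⟨k, hki, hkj⟩ := k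
    obtain ⟨b, hbi, hbj⟩ := b
    have hTC : (⟨Matrix.transvection i k (1 : F), Matrix.det_transvection_of_ne i k (Ne.symm hki) 1⟩ :
        Matrix.SpecialLinearGroup (Fin n) F) ∈ C := by
      refine (hmem _).2 ?_
      show Matrix.transvection i k (1 : F) * _ = _ * Matrix.transvection i k (1 : F)
      simp only [Matrix.transvection, mul_add, add_mul, mul_one, one_mul]
      rw [Matrix.single_mul_single_of_ne (h := hki), Matrix.single_mul_single_of_ne (h := Ne.symm hij)]
      abel
    have hTQ : (⟨_, hTC⟩ : ↥C) ∈ Q := by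
      refine MonoidHom.mem_ker.2 ?_
      ext a c
      simp [ψ, Matrix.transvection, Matrix.one_apply, Subtype.ext_iff, Matrix.single_apply, Ne.symm a.2.1]
    have h := congrArg (fun X : ↥C => ((X : Matrix.SpecialLinearGroup (Fin n) F) : Matrix (Fin n) (Fin n) F))
      (Subgroup.mem_centralizer_iff.1 hA _ hTQ)
    change Matrix.transvection i k (1 : F) * ((A : Matrix.SpecialLinearGroup (Fin n) F) : Matrix (Fin n) (Fin n) F) =
      ((A : Matrix.SpecialLinearGroup (Fin n) F) : Matrix (Fin n) (Fin n) F) * Matrix.transvection i k (1 : F) at h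
    have h' := Matrix.ext_iff.2 h i b
    rw [Matrix.transvection_mul_apply_same, one_mul] at h'
    show ((A : Matrix.SpecialLinearGroup (Fin n) F) : Matrix (Fin n) (Fin n) F) k b = _
    by_cases hbk : b = k
    · subst hbk
      rw [Matrix.mul_transvection_apply_same, one_mul, (hdiag A).1] at h'
      rw [Matrix.one_apply_eq]
      exact add_left_cancel h'
    · rw [Matrix.mul_transvection_apply_of_ne _ _ _ _ hbk, add_eq_left] at h'
      rw [h', Matrix.one_apply_ne (by simp [Subtype.ext_iff, Ne.symm hbk])]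
  haveI : Fact (Nat.Prime 2) := ⟨Nat.prime_two⟩
  have hQle : Q ≤ Cfsg.pCore 2 ↥C := Cfsg.Agent.Lib.Cores.le_pCore hQp
  exact Cfsg.Agent.Lib.Balance.centralizer_pCore_le_iff.1
    (((Subgroup.centralizer_le hQle).trans hCQ).trans hQle)

end Cfsg.Agent.S1339
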