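import Cfsg.Statements.S1340
import Cfsg.Agent.Lib.Linear.Simple
import Cfsg.Agent.Lib.Cores.Pi
import Cfsg.Agent.Lib.Components.Basic
-- import your own Cfsg.Agent.* helpers here

set_option autoImplicit false
open Cfsg

namespace Cfsg.Agent.S1340

open Matrix Cfsg.Agent.Lib

variable {F : Type*} [Field F] [Fintype F] [DecidableEq F]

/-- The reflection centralizer contains a normal copy of `SL_m`. -/
theorem data (hF : Odd (Fintype.card F)) (m : ℕ) (hm : 2 ≤ m) (hcard : m = 2 → 4 ≤ Nat.card F) :
    ∃ t : GL (Fin (m + 1)) F, orderOf t = 2 ∧ t ∉ Subgroup.center (GL (Fin (m + 1)) F) ∧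
      ∃ K : Subgroup ↥(Subgroup.centralizer ({t} : Set (GL (Fin (m + 1)) F))),
        K.Normal ∧ Cfsg.IsQuasisimple ↥K ∧ Even (Nat.card ↥K) := by
  classical
  have hne : (-1 : F) ≠ 1 := by
    intro h
    have h2 : (2 : F) = 0 := by linear_combination -h
    have := ringChar.spec F 2 |>.1 (by exact_mod_cast h2)
    have hchar : ringChar F = 2 := by
      rcases (Nat.dvd_prime Nat.prime_two).1 this with h1 | h1
      · exact absurd h1 (CharP.ringChar_ne_one)
      · exact h1
    have := FiniteField.even_card_iff_char_two.1 hchar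
    rw [Nat.odd_iff] at hF
    omega
  set t : GL (Fin (m + 1)) F := Linear.diagOne 0 (-1) with ht
  set d : Fin (m + 1) → F := Function.update 1 0 (-1) with hd
  have htd : (t : Matrix (Fin (m + 1)) (Fin (m + 1)) F) = diagonal d := Linear.coe_diagOne 0 (-1)
  have hd0 : d 0 = -1 := Function.update_self _ _ _
  have hd1 : ∀ k : Fin m, d k.succ = 1 := fun k => Function.update_of_ne (Fin.succ_ne_zero k) _ _
  set C := Subgroup.centralizer ({t} : Set (GL (Fin (m + 1)) F)) with hC
  have hmem : ∀ A : GL (Fin (m + 1)) F, A ∈ C ↔ ∀ a b : Fin (m + 1),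
      (A : Matrix (Fin (m + 1)) (Fin (m + 1)) F) a b * d b = d a * (A : Matrix (Fin (m + 1)) (Fin (m + 1)) F) a b := by
    intro A
    rw [hC, Subgroup.mem_centralizer_singleton_iff, Units.ext_iff, Units.val_mul, Units.val_mul, htd,
      ← Matrix.ext_iff]
    simp only [Matrix.mul_diagonal, Matrix.diagonal_mul]
  have h0b : ∀ A : ↥C, ∀ k : Fin m, ((A : GL (Fin (m + 1)) F) : Matrix (Fin (m + 1)) (Fin (m + 1)) F) 0 k.succ = 0 := by
    intro A k
    have h := (hmem _).1 A.2 0 k.succ
    rw [hd0, hd1] at h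
    by_contra hx
    exact hne (mul_right_cancel₀ hx (by linear_combination -h))
  have ha0 : ∀ A : ↥C, ∀ k : Fin m, ((A : GL (Fin (m + 1)) F) : Matrix (Fin (m + 1)) (Fin (m + 1)) F) k.succ 0 = 0 := by
    intro A k
    have h := (hmem _).1 A.2 k.succ 0
    rw [hd0, hd1] at h
    by_contra hx
    exact hne (mul_right_cancel₀ hx (by linear_combination h))
  -- the block embedding
  let E : Matrix (Fin m) (Fin m) F → Matrix (Fin (m + 1)) (Fin (m + 1)) F := fun S a b =>
    Fin.cases (Fin.cases 1 (fun _ => 0) b) (fun k => Fin.cases 0 (fun l => S k l) b) a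
  have hEmul : ∀ S T, E S * E T = E (S * T) := by
    intro S T
    ext a b
    rw [Matrix.mul_apply, Fin.sum_univ_succ]
    refine Fin.cases ?_ (fun k => ?_) a <;> refine Fin.cases ?_ (fun l => ?_) b <;>
      simp [E, Matrix.mul_apply]
  have hEone : E 1 = 1 := by
    ext a b
    refine Fin.cases ?_ (fun k => ?_) a <;> refine Fin.cases ?_ (fun l => ?_) b <;>
      simp [E, Matrix.one_apply, Fin.succ_ne_zero, eq_comm]
  have hEdet : ∀ S, (E S).det = S.det := by
    intro S
    have hsub : (E S).submatrix Fin.succ Fin.succ = S := by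
      ext a b
      rfl
    rw [Matrix.det_succ_row_zero, Fin.sum_univ_succ,
      Finset.sum_eq_zero (fun k _ => by rw [show E S 0 k.succ = 0 from rfl, mul_zero, zero_mul]),
      show E S 0 0 = 1 from rfl, Fin.succAbove_zero, hsub, add_zero, Fin.val_zero, pow_zero, one_mul, one_mul]
  let f : Matrix.SpecialLinearGroup (Fin m) F →* GL (Fin (m + 1)) F :=
    MonoidHom.mk' (fun S => GeneralLinearGroup.mkOfDetNeZero (E S) (by rw [hEdet, S.2]; exact one_ne_zero))
      (fun S T => Units.ext (by
        show E ((S * T : Matrix.SpecialLinearGroup (Fin m) F) : Matrix (Fin m) (Fin m) F) = E S * E T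
        rw [hEmul, Matrix.SpecialLinearGroup.coe_mul]))
  have hfC : ∀ S, f S ∈ C := by
    intro S
    rw [hmem]
    intro a b
    show E S a b * d b = d a * E S a b
    refine Fin.cases ?_ (fun k => ?_) a <;> refine Fin.cases ?_ (fun l => ?_) b <;>
      simp [E, hd0, hd1]
  let f' : Matrix.SpecialLinearGroup (Fin m) F →* ↥C := f.codRestrict C hfC
  have hinj : Function.Injective f' := by
    intro S T h
    ext k l
    exact congrArg (fun X : ↥C => ((X : GL (Fin (m + 1)) F) : Matrix (Fin (m + 1)) (Fin (m + 1)) F) k.succ l.succ) h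
  have hrange : ∀ A : ↥C, A ∈ f'.range ↔ ((A : GL (Fin (m + 1)) F) : Matrix (Fin (m + 1)) (Fin (m + 1)) F) 0 0 = 1 ∧
      ((A : GL (Fin (m + 1)) F) : Matrix (Fin (m + 1)) (Fin (m + 1)) F).det = 1 := by
    intro A
    constructor
    · rintro ⟨S, rfl⟩
      refine ⟨?_, ?_⟩
      · show E S 0 0 = 1
        simp [E]
      · show (E S).det = 1
        rw [hEdet, S.2]
    · rintro ⟨h1, h2⟩
      set M := ((A : GL (Fin (m + 1)) F) : Matrix (Fin (m + 1)) (Fin (m + 1)) F) with hM
      have hE : E (M.submatrix Fin.succ Fin.succ) = M := by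
        ext a b
        refine Fin.cases ?_ (fun k => ?_) a <;> refine Fin.cases ?_ (fun l => ?_) b <;>
          simp [E, hM, h0b, ha0]
        exact h1.symm
      refine ⟨⟨M.submatrix Fin.succ Fin.succ, by rw [← hEdet, hE, h2]⟩, Subtype.ext (Units.ext ?_)⟩
      exact hE
  have hnorm : f'.range.Normal := by
    have h00 : ∀ A B : ↥C, ((A * B : ↥C) : GL (Fin (m + 1)) F).val 0 0 =
        (A : GL (Fin (m + 1)) F).val 0 0 * (B : GL (Fin (m + 1)) F).val 0 0 := by
      intro A B
      simp [Matrix.mul_apply, Fin.sum_univ_succ, h0b A]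
    refine ⟨fun A hA g => ?_⟩
    rw [hrange] at hA ⊢
    constructor
    · rw [h00, h00, hA.1, mul_one, ← h00, mul_inv_cancel]
      simp
    · simp only [Subgroup.coe_mul, Subgroup.coe_inv, Units.val_mul, Matrix.det_mul, hA.2, mul_one]
      rw [← Matrix.det_mul, ← Units.val_mul, mul_inv_cancel]
      simp
  refine ⟨t, ?_, ?_, f'.range, hnorm, ?_, ?_⟩
  · refine orderOf_eq_prime (Units.ext ?_) fun h => ?_
    · rw [sq, Units.val_mul, htd, Matrix.diagonal_mul_diagonal, Units.val_one, ← Matrix.diagonal_one]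
      refine congrArg Matrix.diagonal (funext fun a => ?_)
      refine Fin.cases ?_ (fun k => ?_) a <;> simp [hd0, hd1]
    · have h' := congrArg (fun X : GL (Fin (m + 1)) F => X.val 0 0) h
      simp only [htd, Matrix.diagonal_apply_eq, hd0, Units.val_one, Matrix.one_apply_eq] at h'
      exact hne h'
  · intro hz
    have hne' : (0 : Fin (m + 1)) ≠ (⟨0, by omega⟩ : Fin m).succ := (Fin.succ_ne_zero _).symm
    set T : GL (Fin (m + 1)) F := GeneralLinearGroup.mkOfDetNeZero (transvection 0 (⟨0, by omega⟩ : Fin m).succ (1 : F))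
      (by rw [det_transvection_of_ne _ _ hne']; exact one_ne_zero)
    have hT : T ∈ C := Subgroup.mem_centralizer_singleton_iff.2 (Subgroup.mem_center_iff.1 hz T)
    have h := h0b ⟨T, hT⟩ ⟨0, by omega⟩
    have hval : (T : Matrix (Fin (m + 1)) (Fin (m + 1)) F) = transvection 0 (⟨0, by omega⟩ : Fin m).succ (1 : F) := rfl
    rw [show ((⟨T, hT⟩ : ↥C) : GL (Fin (m + 1)) F) = T from rfl, hval] at h
    simp [transvection, hne'] at h
  · exact Components.Quasisimple.of_mulEquiv
      ⟨Linear.isPerfect_SL hm hcard, Linear.isSimpleGroup_PSL hm hcard⟩ (MonoidHom.ofInjective hinj)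
  · -- an element of order 2
    rw [← Nat.card_congr (MonoidHom.ofInjective hinj).toEquiv, even_iff_two_dvd]
    set i0 : Fin m := ⟨0, by omega⟩
    set i1 : Fin m := ⟨1, by omega⟩
    set e : Fin m → F := Function.update (Function.update 1 i0 (-1)) i1 (-1) with he
    have hi : i0 ≠ i1 := by simp [i0, i1]
    have hdet : (diagonal e).det = 1 := by
      rw [det_diagonal, he, Finset.prod_update_of_mem (Finset.mem_univ _),
        Finset.prod_update_of_mem (by simp [hi])]
      simp
    obtain ⟨D, hD⟩ : ∃ D : Matrix.SpecialLinearGroup (Fin m) F, (D : Matrix (Fin m) (Fin m) F) = diagonal e :=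
      ⟨⟨diagonal e, hdet⟩, rfl⟩
    have horder : orderOf D = 2 := by
      refine orderOf_eq_prime (Subtype.ext ?_) fun h => ?_
      · show (D : Matrix (Fin m) (Fin m) F) ^ 2 = 1
        rw [hD]
        rw [sq, Matrix.diagonal_mul_diagonal, ← Matrix.diagonal_one]
        refine congrArg Matrix.diagonal (funext fun a => ?_)
        simp only [he]
        by_cases h1 : a = i1
        · subst h1; simp
        · by_cases h0 : a = i0
          · subst h0; simp [Function.update_of_ne hi]
          · simp [Function.update_of_ne h1, Function.update_of_ne h0]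
      · have h' := congrArg (fun X : Matrix.SpecialLinearGroup (Fin m) F => (X : Matrix (Fin m) (Fin m) F) i1 i1) h
        simp [hD, he] at h'
        exact hne h'
    exact horder ▸ orderOf_dvd_natCard _

/-- For odd q and n ≥ 3, GL(n, q) has an involution centralizer with a component modulo its core. -/
theorem result {F : Type*} [Field F] [Fintype F] [DecidableEq F] (hF : Odd (Fintype.card F)) (n : ℕ) (hn : 3 ≤ n) (h33 : ¬ (n = 3 ∧ Fintype.card F = 3)) : ∃ t : Matrix.GeneralLinearGroup (Fin n) F, orderOf t = 2 ∧ t ∉ Subgroup.center (Matrix.GeneralLinearGroup (Fin n) F) ∧ Cfsg.HasComponent (↥(Subgroup.centralizer ({t} : Set (Matrix.GeneralLinearGroup (Fin n) F))) ⧸ Cfsg.oddCore ↥(Subgroup.centralizer ({t} : Set (Matrix.GeneralLinearGroup (Fin n) F)))) := by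
  obtain ⟨m, rfl⟩ : ∃ m, n = m + 1 := ⟨n - 1, by omega⟩
  obtain ⟨t, ht, htc, K, hKn, hKq, hKeven⟩ := data (F := F) hF m (by omega) (fun h => by
    by_contra hlt
    have h3 : Fintype.card F = 3 := by
      have h2 := Fintype.one_lt_card (α := F)
      rw [Nat.card_eq_fintype_card] at hlt
      obtain ⟨r, hr⟩ := hF
      omega
    exact h33 ⟨by omega, h3⟩)
  refine ⟨t, ht, htc, ?_⟩
  set O := Cfsg.oddCore ↥(Subgroup.centralizer ({t} : Set (Matrix.GeneralLinearGroup (Fin (m + 1)) F)))
  set π := QuotientGroup.mk' O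
  have hsn : (K.map π).IsSubnormal := hKn.isSubnormal.map (f := π) (QuotientGroup.mk'_surjective _)
  refine ⟨K.map π, hsn, ?_⟩
  have : Nontrivial ↥(K.map π) := by
    rw [Subgroup.nontrivial_iff_ne_bot]
    intro h
    rw [Subgroup.map_eq_bot_iff, QuotientGroup.ker_mk'] at h
    have hodd : Odd (Nat.card ↥O) := Cfsg.Agent.Lib.Cores.oddCore_odd
    have := Odd.of_dvd_nat hodd (Subgroup.card_dvd_of_le h)
    exact absurd hKeven (Nat.not_even_iff_odd.2 this)
  exact Cfsg.Agent.Lib.Components.Quasisimple.of_surjective hKq (π.subgroupMap_surjective K)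

end Cfsg.Agent.S1340
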