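import Cfsg.Statements.S1342
import Cfsg.Agent.Lib.ExtLayer.Basic
-- import your own Cfsg.Agent.* helpers here

set_option autoImplicit false
open Cfsg

namespace Cfsg.Agent.S1342

open Subgroup Cfsg.Agent.Lib Cfsg.Agent.Lib.Components

/-- For a finite group X, L*_{2'}(X) is normal in X. -/
theorem result {X : Type*} [Group X] [Finite X] : (Cfsg.extendedTwoLayer X).Normal := by
  obtain ⟨T⟩ : Nonempty (Sylow 2 ↥(ExtLayer.base X)) := inferInstance
  rw [← Subgroup.normalizer_eq_top_iff, eq_top_iff]
  intro g _
  rw [Subgroup.mem_normalizer_iff_map_conj_eq]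
  show Subgroup.map (MulAut.conj g).toMonoidHom _ = _
  refine Subgroup.eq_of_le_of_card_ge ?_
    (le_of_eq (Subgroup.card_map_of_injective (MulAut.conj g).injective).symm)
  rw [ExtLayer.extendedTwoLayer_eq_single T, Subgroup.map_sup]
  refine sup_le (le_sup_of_le_left ?_) ?_
  · exact (Subgroup.mem_normalizer_iff_map_conj_eq.1 (by rw [Subgroup.normalizer_eq_top]; trivial)).le
  · rw [ExtLayer.coreCent, ExtLayer.coreIn_centralizer_conj, ← ExtLayer.extendedTwoLayer_eq_single T,
      ExtLayer.extendedTwoLayer_eq]
    refine le_sup_of_le_right ?_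
    have hle : (ExtLayer.hat T).map (MulAut.conj g).toMonoidHom ≤ ExtLayer.base X := by
      refine (Subgroup.map_mono (Subgroup.map_subtype_le _)).trans ?_
      exact (Subgroup.mem_normalizer_iff_map_conj_eq.1 (by rw [Subgroup.normalizer_eq_top]; trivial)).le
    obtain ⟨T', hT'⟩ := ExtLayer.exists_sylow_le ((T.isPGroup'.map _).map _) hle
    have heq : ExtLayer.hat T' = (ExtLayer.hat T).map (MulAut.conj g).toMonoidHom := by
      refine (Subgroup.eq_of_le_of_card_ge hT' (le_of_eq ?_)).symm
      show Nat.card ↥((T' : Subgroup ↥(ExtLayer.base X)).map (ExtLayer.base X).subtype) =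
        Nat.card ↥(((T : Subgroup ↥(ExtLayer.base X)).map (ExtLayer.base X).subtype).map (MulAut.conj g).toMonoidHom)
      rw [Subgroup.card_map_of_injective (f := (MulAut.conj g).toMonoidHom) (MulAut.conj g).injective,
        Subgroup.card_map_of_injective (Subgroup.subtype_injective _),
        Subgroup.card_map_of_injective (Subgroup.subtype_injective _),
        Sylow.card_eq_multiplicity T', Sylow.card_eq_multiplicity T]
    rw [← heq]
    exact le_iSup (fun T => ExtLayer.coreCent T) T'

end Cfsg.Agent.S1342
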