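import Cfsg.Statements.S1343
import Cfsg.Agent.Lib.ExtLayer.Basic
-- import your own Cfsg.Agent.* helpers here

set_option autoImplicit false
open Cfsg

namespace Cfsg.Agent.S1343

open Subgroup Cfsg.Agent.Lib Cfsg.Agent.Lib.Components

/-- Let X be finite. Then L*_{2'}(X) = L_{2'}(X) ⊔ F for some subgroup F of odd order normalized by a Sylow 2-subgroup of X. -/
theorem result {X : Type*} [Group X] [Finite X] : ∃ F : Subgroup X, Odd (Nat.card ↥F) ∧ (∃ S : Sylow 2 X, (S : Subgroup X) ≤ Subgroup.normalizer (F : Set X)) ∧ Cfsg.extendedTwoLayer X = Cfsg.pLayer 2 X ⊔ F := by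
  obtain ⟨T⟩ : Nonempty (Sylow 2 ↥(ExtLayer.base X)) := inferInstance
  obtain ⟨S, hS⟩ := (T.isPGroup'.map (ExtLayer.base X).subtype).exists_le_sylow
  have hTS : (S : Subgroup X) ⊓ ExtLayer.base X = ExtLayer.hat T := by
    refine le_antisymm ?_ (le_inf hS (Subgroup.map_subtype_le _))
    obtain ⟨T', hT'⟩ := ExtLayer.exists_sylow_le (R := (S : Subgroup X) ⊓ ExtLayer.base X)
      (S.isPGroup'.to_le inf_le_left) inf_le_right
    have h1 : ExtLayer.hat T ≤ ExtLayer.hat T' := (le_inf hS (Subgroup.map_subtype_le _)).trans hT'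
    have h2 : (T : Subgroup ↥(ExtLayer.base X)) ≤ T' :=
      (Subgroup.map_le_map_iff_of_injective (Subgroup.subtype_injective _)).1 h1
    rw [ExtLayer.hat, ← T.is_maximal' T'.isPGroup' h2]
    exact hT'
  refine ⟨Cfsg.oddCore X ⊔ ExtLayer.coreCent T, ?_, ⟨S, ?_⟩, ?_⟩
  · have h1 : (Nat.card ↥(Cfsg.oddCore X)).Coprime 2 := Cores.pPrimeCore_coprime 2
    have h2 : (Nat.card ↥(ExtLayer.coreCent T)).Coprime 2 := Balance.coreIn_coprime _
    have h3 := Cores.card_sup_dvd_mul (ExtLayer.coreCent T) (Cfsg.oddCore X)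
    rw [sup_comm] at h3
    exact Nat.coprime_two_right.1 (Nat.Coprime.of_dvd_left h3 (Nat.Coprime.mul_left h2 h1))
  · refine ExtLayer.le_normalizer_sup (le_trans ?_
      (ExtLayer.normalizer_le_normalizer_coreIn_centralizer _))
    intro s hs
    rw [Subgroup.mem_normalizer_iff_map_conj_eq]
    show (ExtLayer.hat T).map (MulAut.conj s).toMonoidHom = _
    rw [← hTS, Subgroup.map_inf _ _ (MulAut.conj s).toMonoidHom (MulAut.conj s).injective]
    refine congrArg₂ (· ⊓ ·) ?_ ?_
    · exact Subgroup.mem_normalizer_iff_map_conj_eq.1 (Subgroup.le_normalizer hs)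
    · exact Subgroup.mem_normalizer_iff_map_conj_eq.1 (by rw [Subgroup.normalizer_eq_top]; trivial)
  · rw [ExtLayer.extendedTwoLayer_eq_single T, sup_assoc]

end Cfsg.Agent.S1343
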