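import Cfsg.Statements.S1344
import Cfsg.Agent.Lib.ExtLayer.Basic
import Mathlib.Tactic.Group
-- import your own Cfsg.Agent.* helpers here

set_option autoImplicit false
open Cfsg

namespace Cfsg.Agent.S1344

open Subgroup Cfsg.Agent.Lib Cfsg.Agent.Lib.Components

/-- Let K be a 2-component of the finite group X. Then K ≤ L*_{2'}(X) and K is normal in L*_{2'}(X). -/
theorem result {X : Type*} [Group X] [Finite X] (K : Subgroup X) (hK : Cfsg.IsPComponent 2 K) : K ≤ Cfsg.extendedTwoLayer X ∧ (K.subgroupOf (Cfsg.extendedTwoLayer X)).Normal := by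
  have hKle : K ≤ Cfsg.pLayer 2 X := le_sSup hK
  have hK' : K ≤ Cfsg.extendedTwoLayer X := hKle.trans (le_sup_left.trans le_sup_left)
  refine ⟨hK', (Subgroup.normal_subgroupOf_iff_le_normalizer hK').2 ?_⟩
  obtain ⟨P⟩ : Nonempty (Sylow 2 ↥K) := inferInstance
  obtain ⟨T, hT⟩ := ExtLayer.exists_sylow_le (P.isPGroup'.map K.subtype)
    ((Subgroup.map_subtype_le _).trans (hKle.trans le_sup_left))
  rw [ExtLayer.extendedTwoLayer_eq_single T]
  refine sup_le (sup_le (sSup_le fun K' hK'' => PComponent.le_normalizer hK hK'')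
    (PComponent.pPrimeCore_le_normalizer hK)) fun y hy => ?_
  rw [Subgroup.mem_normalizer_iff_map_conj_eq]
  by_contra hne
  have hcomm := PComponent.commutator_le hK (PComponent.conj hK y) (fun h => hne h.symm)
  set π := QuotientGroup.mk' (Cfsg.pPrimeCore 2 X) with hπ
  have hyc := Subgroup.mem_centralizer_iff.1 (Balance.coreIn_le _ hy)
  set φ : ↥K →* ↥(K.map π) := π.subgroupMap K with hφ
  have hsurj : Function.Surjective φ := π.subgroupMap_surjective K
  have hz : (P : Subgroup ↥K).map φ ≤ Subgroup.center ↥(K.map π) := by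
    rintro _ ⟨x, hx, rfl⟩
    refine Subgroup.mem_center_iff.2 fun z => ?_
    obtain ⟨k, rfl⟩ := hsurj z
    have hfix : y * (x : X) * y⁻¹ = x := by
      rw [← hyc x (hT ⟨x, hx, rfl⟩)]
      group
    have hmem : (x : X) ∈ K.map (MulAut.conj y).toMonoidHom := ⟨x, x.2, hfix⟩
    have h2 := hcomm (Subgroup.commutator_mem_commutator k.2 hmem)
    refine Subtype.ext ?_
    show π k * π x = π x * π k
    rw [← commutatorElement_eq_one_iff_mul_comm, ← map_commutatorElement]
    exact (QuotientGroup.eq_one_iff _).2 h2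
  refine PComponent.component_center_index_not_coprime (Cores.pPrimeCore_quotient_pPrimeCore 2)
    hK.2.1 (Nat.Coprime.of_dvd_left ((Subgroup.index_dvd_of_le hz).trans
      (Subgroup.index_map_dvd _ hsurj)) ?_)
  exact ((Nat.Prime.coprime_iff_not_dvd Nat.prime_two).2 P.not_dvd_index).symm

end Cfsg.Agent.S1344
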