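import Cfsg.Statements.S1346
import Cfsg.Agent.Lib.ExtLayer.LStarBalance
import Cfsg.Agent.Lib.OddOrder.FeitThompson
import Cfsg.Agent.S1342

set_option autoImplicit false
open Cfsg

namespace Cfsg.Agent.S1346

/-- Let G be a finite group all of whose 2-local subgroups have known non-abelian composition factors, and x, y commuting involutions. Then the extended 2-layer of L*_{2'}(C_G(x)) ∩ C_G(y) (as a group) is contained in L*_{2'}(C_G(y)). -/
theorem result {G : Type*} [Group G] [Finite G] (hK : ∀ T : Subgroup G, IsPGroup 2 ↥T → T ≠ ⊥ → Cfsg.IsCompositionKGroup ↥(Subgroup.normalizer (T : Set G))) (x y : G) (hx : orderOf x = 2) (hy : orderOf y = 2) (hxy : x * y = y * x) : (Cfsg.extendedTwoLayer ↥((Cfsg.extendedTwoLayer ↥(Subgroup.centralizer ({x} : Set G))).map (Subgroup.centralizer ({x} : Set G)).subtype ⊓ Subgroup.centralizer ({y} : Set G))).map ((Cfsg.extendedTwoLayer ↥(Subgroup.centralizer ({x} : Set G))).map (Subgroup.centralizer ({x} : Set G)).subtype ⊓ Subgroup.centralizer ({y} : Set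 G)).subtype ≤ (Cfsg.extendedTwoLayer ↥(Subgroup.centralizer ({y} : Set G))).map (Subgroup.centralizer ({y} : Set G)).subtype := by
  set C := Subgroup.centralizer ({y} : Set G) with hC
  set H := (Cfsg.extendedTwoLayer ↥(Subgroup.centralizer ({x} : Set G))).map
    (Subgroup.centralizer ({x} : Set G)).subtype ⊓ C with hH
  have hxC : x ∈ C := Subgroup.mem_centralizer_singleton_iff.2 hxy
  set R := Subgroup.zpowers (⟨x, hxC⟩ : ↥C) with hR
  have hRp : IsPGroup 2 ↥R :=
    IsPGroup.of_card (n := 1) (by rw [Nat.card_zpowers, Subgroup.orderOf_mk, hx, pow_one])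
  have hcr : ∀ c : ↥C, c ∈ Subgroup.centralizer (R : Set ↥C) ↔
      (c : G) ∈ Subgroup.centralizer ({x} : Set G) := fun c => by
    rw [hR, Subgroup.zpowers_eq_closure, Subgroup.centralizer_closure,
      Subgroup.mem_centralizer_singleton_iff, Subgroup.mem_centralizer_singleton_iff, Subtype.ext_iff]
    rfl
  set f : ↥H →* ↥C := Subgroup.inclusion inf_le_right with hf
  have hfr : f.range = H.subgroupOf C := Subgroup.inclusion_range inf_le_right
  have hle : f.range ≤ Subgroup.centralizer (R : Set ↥C) := by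
    rw [hfr]
    intro c hc
    exact (hcr c).2 (Subgroup.map_subtype_le _ (Subgroup.mem_subgroupOf.1 hc).1)
  have hnorm : Subgroup.centralizer (R : Set ↥C) ≤ Subgroup.normalizer (f.range : Set ↥C) := by
    intro c hc
    have hcx := (hcr c).1 hc
    rw [hfr, Subgroup.mem_normalizer_iff]
    have key : ∀ a : G, a ∈ Subgroup.centralizer ({x} : Set G) → a ∈ C → ∀ h : G, h ∈ H →
        a * h * a⁻¹ ∈ H := by
      intro a hax hay h hh
      refine ⟨?_, C.mul_mem (C.mul_mem hay hh.2) (C.inv_mem hay)⟩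
      obtain ⟨k, hk, rfl⟩ := hh.1
      have := Cfsg.Agent.S1342.result (X := ↥(Subgroup.centralizer ({x} : Set G)))
      exact ⟨⟨a, hax⟩ * k * ⟨a, hax⟩⁻¹,
        (inferInstance : (Cfsg.extendedTwoLayer _).Normal).conj_mem k hk ⟨a, hax⟩, rfl⟩
    intro h
    rw [Subgroup.mem_subgroupOf, Subgroup.mem_subgroupOf]
    constructor
    · intro hh
      exact key c hcx c.2 h hh
    · intro hh
      have h2 := key (c : G)⁻¹ ((Subgroup.centralizer ({x} : Set G)).inv_mem hcx) (C.inv_mem c.2) _ hh
      rwa [show (c : G)⁻¹ * ((c * h * c⁻¹ : ↥C) : G) * ((c : G)⁻¹)⁻¹ = (h : G) by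
        push_cast; group] at h2
  have h := Cfsg.Agent.Lib.ExtLayer.LStarBalance.map_extendedTwoLayer_le
    (fun _ _ _ h => Cfsg.Agent.Lib.OddOrder.FeitThompson.isSolvable_of_odd_card h)
    f (Subgroup.inclusion_injective _) hRp hle hnorm
  refine le_trans (le_of_eq ?_) (Subgroup.map_mono (f := C.subtype) h)
  rw [Subgroup.map_map, hf, Subgroup.subtype_comp_inclusion]

end Cfsg.Agent.S1346
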