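import Cfsg.Statements.S1348
import Cfsg.Agent.Lib.Linear.Simple
import Cfsg.Agent.Lib.Components.Basic
import Cfsg.Agent.Lib.Involutions.Basic
-- import your own Cfsg.Agent.* helpers here

set_option autoImplicit false
open Cfsg

namespace Cfsg.Agent.S1348

open Cfsg.Agent.Lib

/-- The standard block `SL(m)` in `SL(m + 1)`. -/
theorem data {F : Type*} [Field F] [Fintype F] [DecidableEq F] (hF : Odd (Fintype.card F)) (m : ℕ)
    (hm : 6 ≤ m) (hev : Even m) (t : Matrix.SpecialLinearGroup (Fin (m + 1)) F)
    (ht : (t : Matrix (Fin (m + 1)) (Fin (m + 1)) F) =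
      Matrix.diagonal (fun i : Fin (m + 1) => if (i : ℕ) + 1 = m + 1 then (1 : F) else -1)) :
    Cfsg.IsStandardSubgroup ((Cfsg.layer ↥(Subgroup.centralizer
      ({t} : Set (Matrix.SpecialLinearGroup (Fin (m + 1)) F)))).map
      (Subgroup.centralizer ({t} : Set (Matrix.SpecialLinearGroup (Fin (m + 1)) F))).subtype) := by
  classical
  have hne : (-1 : F) ≠ 1 := by
    intro h
    have h2 : (2 : F) = 0 := by linear_combination -h
    have := ringChar.spec F 2 |>.1 (by exact_mod_cast h2)
    have hchar : ringChar F = 2 := by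
      rcases (Nat.dvd_prime Nat.prime_two).1 this with h1 | h1
      · exact absurd h1 (CharP.ringChar_ne_one)
      · exact h1
    have := FiniteField.even_card_iff_char_two.1 hchar
    rw [Nat.odd_iff] at hF
    omega
  set l := Fin.last m with hl
  set d : Fin (m + 1) → F := fun i => if (i : ℕ) + 1 = m + 1 then (1 : F) else -1 with hd
  have hdl : d l = 1 := by simp [hd, hl]
  have hdc : ∀ k : Fin m, d k.castSucc = -1 := fun k => by
    simp [hd, (Nat.ne_of_lt k.isLt)]
  set C := Subgroup.centralizer ({t} : Set (Matrix.SpecialLinearGroup (Fin (m + 1)) F)) with hC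
  have hmem : ∀ A, A ∈ C ↔ ∀ a b : Fin (m + 1), (A : Matrix (Fin (m + 1)) (Fin (m + 1)) F) a b * d b =
      d a * (A : Matrix (Fin (m + 1)) (Fin (m + 1)) F) a b := by
    intro A
    rw [hC, Subgroup.mem_centralizer_singleton_iff, Matrix.SpecialLinearGroup.ext_iff]
    simp only [Matrix.SpecialLinearGroup.coe_mul, ht, Matrix.mul_diagonal, Matrix.diagonal_mul, hd]
  have hlb : ∀ A ∈ C, ∀ k : Fin m, (A : Matrix (Fin (m + 1)) (Fin (m + 1)) F) l k.castSucc = 0 := by
    intro A hA k
    have h := (hmem A).1 hA l k.castSucc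
    rw [hdl, hdc] at h
    by_contra hx
    exact hne (mul_right_cancel₀ hx (by linear_combination h))
  have hal : ∀ A ∈ C, ∀ k : Fin m, (A : Matrix (Fin (m + 1)) (Fin (m + 1)) F) k.castSucc l = 0 := by
    intro A hA k
    have h := (hmem A).1 hA k.castSucc l
    rw [hdl, hdc] at h
    by_contra hx
    exact hne (mul_right_cancel₀ hx (by linear_combination -h))
  let E : Matrix (Fin m) (Fin m) F → Matrix (Fin (m + 1)) (Fin (m + 1)) F := fun S a b =>
    Fin.lastCases (Fin.lastCases 1 (fun _ => 0) b) (fun k => Fin.lastCases 0 (fun j => S k j) b) a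
  have hEmul : ∀ S T, E S * E T = E (S * T) := by
    intro S T
    ext a b
    rw [Matrix.mul_apply, Fin.sum_univ_castSucc]
    refine Fin.lastCases ?_ (fun k => ?_) a <;> refine Fin.lastCases ?_ (fun j => ?_) b <;>
      simp [E, Matrix.mul_apply]
  have hEdet : ∀ S, (E S).det = S.det := by
    intro S
    have hsub : (E S).submatrix (Fin.last m).succAbove (Fin.last m).succAbove = S := by
      ext a b
      show E S ((Fin.last m).succAbove a) ((Fin.last m).succAbove b) = S a b
      simp [E]
    rw [Matrix.det_succ_row _ (Fin.last m), Fin.sum_univ_castSucc,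
      Finset.sum_eq_zero (fun k _ => by
        rw [show E S (Fin.last m) k.castSucc = 0 by simp [E], mul_zero, zero_mul]),
      hsub, zero_add, show E S (Fin.last m) (Fin.last m) = 1 by simp [E],
      Even.neg_one_pow (by simp), one_mul, one_mul]
  let f : Matrix.SpecialLinearGroup (Fin m) F →* Matrix.SpecialLinearGroup (Fin (m + 1)) F :=
    MonoidHom.mk' (fun S => ⟨E S, by rw [hEdet, S.2]⟩) (fun S T => Subtype.ext (by
      show E ((S * T : Matrix.SpecialLinearGroup (Fin m) F) : Matrix (Fin m) (Fin m) F) = E S * E T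
      rw [hEmul, Matrix.SpecialLinearGroup.coe_mul]))
  have hf : ∀ S, (f S : Matrix (Fin (m + 1)) (Fin (m + 1)) F) = E S := fun S => rfl
  have hinj : Function.Injective f := by
    intro S T h
    ext k j
    have h' := congrArg (fun X : Matrix.SpecialLinearGroup (Fin (m + 1)) F =>
      (X : Matrix (Fin (m + 1)) (Fin (m + 1)) F) k.castSucc j.castSucc) h
    simpa [hf, E] using h'
  have hfC : f.range ≤ C := by
    rintro _ ⟨S, rfl⟩
    rw [hmem]
    intro a b
    rw [hf]
    refine Fin.lastCases ?_ (fun k => ?_) a <;> refine Fin.lastCases ?_ (fun j => ?_) b <;>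
      simp [E, hdc, show d (Fin.last m) = 1 from hdl]
  -- the corner entry
  let χ : ↥C →* F := MonoidHom.mk
    ⟨fun A => ((A : Matrix.SpecialLinearGroup (Fin (m + 1)) F) :
      Matrix (Fin (m + 1)) (Fin (m + 1)) F) l l, by simp⟩
    (fun A B => by
      show (((A : Matrix.SpecialLinearGroup (Fin (m + 1)) F) * (B : Matrix.SpecialLinearGroup (Fin (m + 1)) F) :
        Matrix.SpecialLinearGroup (Fin (m + 1)) F) : Matrix (Fin (m + 1)) (Fin (m + 1)) F) l l = _
      rw [Matrix.SpecialLinearGroup.coe_mul, Matrix.mul_apply, Fin.sum_univ_castSucc,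
        Finset.sum_eq_zero (fun k _ => by rw [hlb A.1 A.2, zero_mul]), zero_add])
  have hker : ∀ A : ↥C, (A : Matrix.SpecialLinearGroup (Fin (m + 1)) F) ∈ f.range ↔ χ A = 1 := by
    intro A
    constructor
    · rintro ⟨S, hS⟩
      show ((A : Matrix.SpecialLinearGroup (Fin (m + 1)) F) : Matrix _ _ F) l l = 1
      rw [← hS, hf]
      simp [E, hl]
    · intro h
      change ((A : Matrix.SpecialLinearGroup (Fin (m + 1)) F) : Matrix (Fin (m + 1)) (Fin (m + 1)) F) l l = 1 at h
      set M := ((A : Matrix.SpecialLinearGroup (Fin (m + 1)) F) : Matrix (Fin (m + 1)) (Fin (m + 1)) F) with hM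
      have hE : E (M.submatrix Fin.castSucc Fin.castSucc) = M := by
        ext a b
        refine Fin.lastCases ?_ (fun k => ?_) a <;> refine Fin.lastCases ?_ (fun j => ?_) b
        · simpa [E] using h.symm
        · simpa [E] using (hlb A.1 A.2 j).symm
        · simpa [E] using (hal A.1 A.2 k).symm
        · simp [E]
      let S : Matrix.SpecialLinearGroup (Fin m) F := ⟨M.submatrix Fin.castSucc Fin.castSucc, by
        rw [← hEdet, hE]; exact (A : Matrix.SpecialLinearGroup (Fin (m + 1)) F).2⟩
      exact ⟨S, Subtype.ext ((hf S).trans hE)⟩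
  set K := f.range.subgroupOf C with hK
  have hKker : K = χ.toHomUnits.ker := by
    ext A
    rw [hK, Subgroup.mem_subgroupOf, hker, MonoidHom.mem_ker, Units.ext_iff]
    rfl
  haveI hKn : K.Normal := hKker ▸ MonoidHom.normal_ker _
  have hq : IsQuasisimple ↥f.range := Components.Quasisimple.of_mulEquiv
    ⟨Linear.isPerfect_SL (by omega) (fun h => by omega),
      Linear.isSimpleGroup_PSL (by omega) (fun h => by omega)⟩ (MonoidHom.ofInjective hinj)
  have hKc : IsComponent K := ⟨hKn.isSubnormal,
    Components.Quasisimple.of_mulEquiv hq (Subgroup.subgroupOfEquivOfLe hfC).symm⟩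
  have hlayer : layer ↥C = K := by
    refine le_antisymm (sSup_le fun D hD => ?_) (Components.Layer.component_le_layer hKc)
    rw [← Components.Component.commutator_self hD, Subgroup.commutator_le, hKker]
    intro x _ y _
    rw [MonoidHom.mem_ker, map_commutatorElement]
    exact commutatorElement_eq_one_iff_mul_comm.2 (mul_comm _ _)
  rw [hlayer, hK, Subgroup.map_subgroupOf_eq_of_le hfC]
  -- the centraliser of the block
  set Z := Subgroup.centralizer (f.range : Set (Matrix.SpecialLinearGroup (Fin (m + 1)) F)) with hZ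
  have hCL : C ≤ Subgroup.normalizer (f.range : Set (Matrix.SpecialLinearGroup (Fin (m + 1)) F)) :=
    (Subgroup.normal_subgroupOf_iff_le_normalizer hfC).1 hKn
  have hdiag : ∀ A ∈ Z, ∃ a : F, ∀ i j : Fin (m + 1), (A : Matrix (Fin (m + 1)) (Fin (m + 1)) F) i j =
      if i = j then (if i = l then (A : Matrix (Fin (m + 1)) (Fin (m + 1)) F) l l else a) else 0 := by
    intro A hA
    set M := (A : Matrix (Fin (m + 1)) (Fin (m + 1)) F) with hM
    have htr : ∀ i j : Fin m, i ≠ j → M * Matrix.transvection i.castSucc j.castSucc (1 : F) =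
        Matrix.transvection i.castSucc j.castSucc (1 : F) * M := by
      intro i j hij
      let S : Matrix.SpecialLinearGroup (Fin m) F :=
        ⟨Matrix.transvection i j (1 : F), Matrix.det_transvection_of_ne i j hij 1⟩
      have h := congrArg (fun X : Matrix.SpecialLinearGroup (Fin (m + 1)) F =>
        (X : Matrix (Fin (m + 1)) (Fin (m + 1)) F)) (Subgroup.mem_centralizer_iff.1 hA (f S) ⟨S, rfl⟩)
      simp only [Matrix.SpecialLinearGroup.coe_mul] at h
      change E (Matrix.transvection i j (1 : F)) * M = M * E (Matrix.transvection i j (1 : F)) at h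
      have hET : E (Matrix.transvection i j (1 : F)) = Matrix.transvection i.castSucc j.castSucc (1 : F) := by
        ext a b
        refine Fin.lastCases ?_ (fun k => ?_) a <;> refine Fin.lastCases ?_ (fun q => ?_) b <;>
          simp [E, Matrix.transvection, Matrix.one_apply, Matrix.single_apply, Fin.castSucc_ne_last,
            (Fin.castSucc_ne_last _).symm]
      rw [hET] at h
      exact h.symm
    have hoff : ∀ a : Fin (m + 1), ∀ i : Fin m, a ≠ i.castSucc → M a i.castSucc = 0 ∧ M i.castSucc a = 0 := by
      intro a i hai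
      obtain ⟨j, hji⟩ : ∃ j : Fin m, j ≠ i := by
        haveI : Nontrivial (Fin m) := Fin.nontrivial_iff_two_le.2 (by omega)
        exact exists_ne i
      have hji' : j.castSucc ≠ i.castSucc := fun h => hji (Fin.castSucc_injective _ h)
      refine ⟨?_, ?_⟩
      · have h := Matrix.ext_iff.2 (htr i j hji.symm) a j.castSucc
        rw [Matrix.mul_transvection_apply_same, Matrix.transvection_mul_apply_of_ne _ _ _ _ hai] at h
        simpa using h
      · have h := Matrix.ext_iff.2 (htr j i hji) j.castSucc a
        rw [Matrix.transvection_mul_apply_same, Matrix.mul_transvection_apply_of_ne _ _ _ _ hai] at h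
        simpa [eq_comm] using h
    have heq : ∀ i j : Fin m, M i.castSucc i.castSucc = M j.castSucc j.castSucc := by
      intro i j
      by_cases hij : i = j
      · rw [hij]
      have hij' : i.castSucc ≠ j.castSucc := fun h => hij (Fin.castSucc_injective _ h)
      have h := Matrix.ext_iff.2 (htr i j hij) i.castSucc j.castSucc
      rw [Matrix.mul_transvection_apply_same, Matrix.transvection_mul_apply_same, one_mul, one_mul] at h
      exact add_left_cancel h
    obtain ⟨i0⟩ : Nonempty (Fin m) := ⟨⟨0, by omega⟩⟩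
    refine ⟨M i0.castSucc i0.castSucc, fun i j => ?_⟩
    refine Fin.lastCases ?_ (fun k => ?_) i <;> refine Fin.lastCases ?_ (fun q => ?_) j
    · simp [hl]
    · rw [if_neg (Fin.castSucc_ne_last q).symm]
      exact (hoff _ q (Fin.castSucc_ne_last q).symm).1
    · rw [if_neg (Fin.castSucc_ne_last k)]
      exact (hoff _ k (Fin.castSucc_ne_last k).symm).2
    · by_cases hkq : k = q
      · subst hkq
        rw [if_pos rfl, if_neg (by simp [hl, Fin.castSucc_ne_last]), heq k i0]
      · have hkq' : k.castSucc ≠ q.castSucc := fun h => hkq (Fin.castSucc_injective _ h)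
        rw [if_neg hkq']
        exact (hoff _ q hkq').1
  have htZ : t ∈ Z := Subgroup.mem_centralizer_iff.2 fun x hx =>
    Subgroup.mem_centralizer_singleton_iff.1 (hfC hx)
  have hto : orderOf t = 2 := by
    refine orderOf_eq_prime (Subtype.ext ?_) fun h => ?_
    · rw [Matrix.SpecialLinearGroup.coe_pow, ht, pow_two, Matrix.diagonal_mul_diagonal,
        Matrix.SpecialLinearGroup.coe_one, ← Matrix.diagonal_one]
      refine congrArg Matrix.diagonal (funext fun i => ?_)
      show d i * d i = 1
      refine Fin.lastCases ?_ (fun k => ?_) i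
      · rw [show d (Fin.last m) = 1 from hdl, one_mul]
      · rw [hdc, neg_mul_neg, one_mul]
    · have h' := congrArg (fun X : Matrix.SpecialLinearGroup (Fin (m + 1)) F =>
        (X : Matrix (Fin (m + 1)) (Fin (m + 1)) F) (⟨0, by omega⟩ : Fin m).castSucc
          (⟨0, by omega⟩ : Fin m).castSucc) h
      simp only [ht, Matrix.diagonal_apply_eq, Matrix.SpecialLinearGroup.coe_one, Matrix.one_apply_eq] at h'
      exact hne ((hdc _).symm.trans h')
  have huniq : ∀ s ∈ Z, orderOf s = 2 → s = t := by
    intro s hs hso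
    obtain ⟨a, ha⟩ := hdiag s hs
    set b := (s : Matrix (Fin (m + 1)) (Fin (m + 1)) F) l l with hb
    have hsd : (s : Matrix (Fin (m + 1)) (Fin (m + 1)) F) =
        Matrix.diagonal (fun i => if i = l then b else a) := by
      ext i j
      rw [ha, Matrix.diagonal_apply]
    have h2 : (s : Matrix (Fin (m + 1)) (Fin (m + 1)) F) * (s : Matrix (Fin (m + 1)) (Fin (m + 1)) F) = 1 := by
      rw [← Matrix.SpecialLinearGroup.coe_mul, ← pow_two, ← hso, pow_orderOf_eq_one,
        Matrix.SpecialLinearGroup.coe_one]
    rw [hsd, Matrix.diagonal_mul_diagonal, ← Matrix.diagonal_one] at h2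
    have hsq := congrFun (Matrix.diagonal_injective h2)
    have ha2 : a * a = 1 := by
      have := hsq (⟨0, by omega⟩ : Fin m).castSucc
      rw [if_neg (show (⟨0, by omega⟩ : Fin m).castSucc ≠ l from Fin.castSucc_ne_last _)] at this
      exact this
    have hdet : a ^ m * b = 1 := by
      have := s.2
      rw [hsd, Matrix.det_diagonal, Fin.prod_univ_castSucc] at this
      simpa [hl, Fin.castSucc_ne_last] using this
    have hb1 : b = 1 := by
      obtain ⟨r, rfl⟩ := hev
      rw [← two_mul, pow_mul, pow_two, ha2, one_pow, one_mul] at hdet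
      exact hdet
    have ha1 : a = -1 := by
      refine ((mul_self_eq_one_iff.1 ha2).resolve_left fun h => ?_)
      have : s = 1 := Subtype.ext (by
        rw [hsd, Matrix.SpecialLinearGroup.coe_one, ← Matrix.diagonal_one, h, hb1]
        simp)
      rw [this, orderOf_one] at hso
      omega
    refine Subtype.ext ?_
    rw [hsd, ht, ha1, hb1]
    refine congrArg Matrix.diagonal (funext fun i => ?_)
    refine Fin.lastCases ?_ (fun k => ?_) i
    · rw [if_pos hl.symm]
      exact hdl.symm
    · rw [if_neg (show k.castSucc ≠ l from Fin.castSucc_ne_last k)]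
      exact (hdc k).symm
  have hnorm : ∀ g, g * t * g⁻¹ = t →
      g ∈ Subgroup.normalizer (f.range : Set (Matrix.SpecialLinearGroup (Fin (m + 1)) F)) :=
    fun g hg => hCL (Subgroup.mem_centralizer_singleton_iff.2 (mul_inv_eq_iff_eq_mul.1 hg))
  have hNN : Subgroup.normalizer (f.range : Set (Matrix.SpecialLinearGroup (Fin (m + 1)) F)) ≤
      Subgroup.normalizer (Z : Set (Matrix.SpecialLinearGroup (Fin (m + 1)) F)) :=
    (Subgroup.normal_subgroupOf_iff_le_normalizer (Subgroup.centralizer_le_normalizer _)).1
      (Subgroup.normal_subgroupOf_centralizer_normalizer _)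
  refine ⟨hq, ⟨?_, fun g hg => ?_⟩, fun g hg hbot => ?_, le_antisymm hNN fun g hg => ?_⟩
  · rw [even_iff_two_dvd, ← hto, ← Subgroup.orderOf_mk t htZ]
    exact orderOf_dvd_natCard _
  · by_contra hodd
    obtain ⟨⟨s, hs⟩, hso⟩ := exists_prime_orderOf_dvd_card' 2
      (even_iff_two_dvd.1 (Nat.not_odd_iff_even.1 hodd))
    rw [Subgroup.orderOf_mk] at hso
    obtain ⟨hs1, s', hs', hss⟩ := hs
    have hs'o : orderOf s' = 2 := by
      rw [← hso, ← hss]
      exact (orderOf_injective _ (MulAut.conj g).injective s').symm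
    rw [huniq s hs1 hso, huniq s' hs' hs'o] at hss
    exact hg (hNN (hnorm g hss))
  · rw [Subgroup.commutator_comm, Subgroup.commutator_eq_bot_iff_le_centralizer] at hbot
    refine Components.Quasisimple.not_isMulCommutative hq ⟨⟨fun x y => ?_⟩⟩
    have hmemZ : ∀ z : ↥f.range, g * (z : Matrix.SpecialLinearGroup (Fin (m + 1)) F) * g⁻¹ ∈ Z :=
      fun z => hbot ⟨z, z.2, rfl⟩
    have hcomm : ∀ A ∈ Z, ∀ B ∈ Z, A * B = B * A := by
      intro A hA B hB
      obtain ⟨a, ha⟩ := hdiag A hA
      obtain ⟨b, hb⟩ := hdiag B hB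
      have hAd : (A : Matrix (Fin (m + 1)) (Fin (m + 1)) F) =
          Matrix.diagonal (fun i => (A : Matrix (Fin (m + 1)) (Fin (m + 1)) F) i i) := by
        ext i j
        rw [Matrix.diagonal_apply]
        by_cases hij : i = j
        · rw [if_pos hij, hij]
        · rw [if_neg hij, ha, if_neg hij]
      have hBd : (B : Matrix (Fin (m + 1)) (Fin (m + 1)) F) =
          Matrix.diagonal (fun i => (B : Matrix (Fin (m + 1)) (Fin (m + 1)) F) i i) := by
        ext i j
        rw [Matrix.diagonal_apply]
        by_cases hij : i = j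
        · rw [if_pos hij, hij]
        · rw [if_neg hij, hb, if_neg hij]
      refine Subtype.ext ?_
      rw [Matrix.SpecialLinearGroup.coe_mul, Matrix.SpecialLinearGroup.coe_mul, hAd, hBd,
        Matrix.diagonal_mul_diagonal, Matrix.diagonal_mul_diagonal]
      exact congrArg Matrix.diagonal (funext fun i => mul_comm _ _)
    have h := hcomm _ (hmemZ x) _ (hmemZ y)
    refine Subtype.ext ((MulAut.conj g).injective ?_)
    simpa [mul_assoc] using h
  · refine hnorm g (huniq _ ((Subgroup.mem_normalizer_iff.1 hg t).1 htZ) ?_)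
    exact (orderOf_injective (MulAut.conj g).toMonoidHom (MulAut.conj g).injective t).trans hto

/-- Let F be a finite field of odd order, n ≥ 7 odd, and t ∈ SL(n, F) the diagonal matrix with entries −1, …, −1, 1. Then E(C(t)) is a standard subgroup of SL(n, F). -/
theorem result {F : Type*} [Field F] [Fintype F] [DecidableEq F] (hF : Odd (Fintype.card F)) (n : ℕ) (hn : 7 ≤ n) (hodd : Odd n) (t : Matrix.SpecialLinearGroup (Fin n) F) (ht : (t : Matrix (Fin n) (Fin n) F) = Matrix.diagonal (fun i : Fin n => if (i : ℕ) + 1 = n then (1 : F) else -1)) : Cfsg.IsStandardSubgroup ((Cfsg.layer ↥(Subgroup.centralizer ({t} : Set (Matrix.SpecialLinearGroup (Fin n) F)))).map (Subgroup.centralizer ({t} : Set (Matrix.SpecialLinearGroup (Fin n) F))).subtype) := by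
  obtain ⟨m, rfl⟩ : ∃ m, n = m + 1 := ⟨n - 1, by omega⟩
  exact data hF m (by omega) (by simpa [Nat.odd_add_one] using hodd) t ht

end Cfsg.Agent.S1348
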