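import Cfsg.Statements.S1349
import Mathlib.Tactic.Group
import Cfsg.Agent.Lib.Coprime.Commutator
import Cfsg.Agent.Lib.Components.Basic
import Cfsg.Agent.Lib.Cores.Basic
import Cfsg.Agent.Lib.PGroups.ElemAb
import Cfsg.Agent.Lib.PLocal.CoprimeGen
import Cfsg.Agent.Lib.OddLocal.CoprimeFix
import Cfsg.Agent.Lib.Involutions.Basic
-- import your own Cfsg.Agent.* helpers here

set_option autoImplicit false
open Cfsg

namespace Cfsg.Agent.S1349

open Cfsg.Agent.Lib Subgroup
open scoped commutatorElement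

variable {G : Type*} [Group G]

/-- The automorphisms induced by `N(L)` preserve characteristic subgroups of `L`. -/
theorem le_normalizer_map_characteristic (L : Subgroup G) (C : Subgroup ↥L) [hC : C.Characteristic] :
    Subgroup.normalizer (L : Set G) ≤ Subgroup.normalizer (C.map L.subtype : Set G) := by
  intro g hg
  rw [Subgroup.mem_normalizer_iff_map_conj_eq] at hg ⊢
  let e : ↥L ≃* ↥L := ((MulAut.conj g).subgroupMap L).trans (MulEquiv.subgroupCongr hg)
  show (C.map L.subtype).map (MulAut.conj g).toMonoidHom = _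
  conv_rhs => rw [← (Subgroup.characteristic_iff_map_eq.1 hC e)]
  rw [Subgroup.map_map, Subgroup.map_map]
  rfl

theorem le_normalizer_centralizer (H : Subgroup G) :
    Subgroup.normalizer (H : Set G) ≤ Subgroup.normalizer (Subgroup.centralizer (H : Set G) : Set G) := by
  intro g hg
  have hg1 := Subgroup.mem_normalizer_iff.1 hg
  rw [Subgroup.mem_normalizer_iff]
  intro c
  constructor
  · intro hc
    refine Subgroup.mem_centralizer_iff.2 fun l hl => ?_
    have h' : g⁻¹ * l * g ∈ H := by rw [hg1]; simpa [mul_assoc] using hl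
    have := Subgroup.mem_centralizer_iff.1 hc _ h'
    calc l * (g * c * g⁻¹) = g * ((g⁻¹ * l * g) * c) * g⁻¹ := by group
      _ = g * (c * (g⁻¹ * l * g)) * g⁻¹ := by rw [this]
      _ = _ := by group
  · intro hc
    refine Subgroup.mem_centralizer_iff.2 fun l hl => ?_
    have := Subgroup.mem_centralizer_iff.1 hc _ ((hg1 l).1 hl)
    calc l * c = g⁻¹ * ((g * l * g⁻¹) * (g * c * g⁻¹)) * g := by group
      _ = g⁻¹ * ((g * c * g⁻¹) * (g * l * g⁻¹)) * g := by rw [this]
      _ = _ := by group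

/-- An involution inverting an element of odd order generates a dihedral group with it. -/
theorem dihedral_iso {a l : G} (ha : orderOf a = 2) (hinv : a * l * a = l⁻¹) (hodd : Odd (orderOf l))
    (hl : l ≠ 1) :
    Nonempty (↥(Subgroup.zpowers a ⊔ Subgroup.zpowers l) ≃* DihedralGroup (orderOf l)) := by
  have haa : a * a = 1 := Involutions.Basic.invol_mul_self ha
  have hy : orderOf (a * l) = 2 := by
    refine Involutions.Basic.invol_iff.2 ⟨?_, fun h => ?_⟩
    · rw [← mul_assoc, hinv, inv_mul_cancel]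
    · have hla : l = a := by rw [← one_mul l, ← haa, mul_assoc, h, mul_one]
      rw [hla, ha] at hodd
      exact absurd hodd (by decide)
  have hxy : a * (a * l) = l := by rw [← mul_assoc, haa, one_mul]
  have hcl : Subgroup.zpowers a ⊔ Subgroup.zpowers l = Subgroup.closure ({a, a * l} : Set G) := by
    refine le_antisymm (sup_le ?_ ?_) ((Subgroup.closure_le _).2 ?_)
    · exact Subgroup.zpowers_le.2 (Subgroup.subset_closure (by simp))
    · refine Subgroup.zpowers_le.2 ?_
      have h0 := Subgroup.mul_mem _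
        (Subgroup.subset_closure (show a ∈ ({a, a * l} : Set G) by simp))
        (Subgroup.subset_closure (show a * l ∈ ({a, a * l} : Set G) by simp))
      rwa [hxy] at h0
    · rintro x (rfl | rfl)
      · exact Subgroup.mem_sup_left (Subgroup.mem_zpowers x)
      · exact Subgroup.mul_mem_sup (Subgroup.mem_zpowers a) (Subgroup.mem_zpowers l)
  have e := Involutions.Basic.closurePairEquiv ha hy
  rw [hxy] at e
  exact ⟨(MulEquiv.subgroupCongr hcl).trans e⟩

/-- Hyperplanes with a non-central fixed point. -/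
def Good (A K : Subgroup G) : Set (Subgroup G) :=
  {s | s ≤ A ∧ s.relIndex A = 2 ∧ ¬ K ⊓ Subgroup.centralizer (s : Set G) ≤ Subgroup.centralizer (A : Set G)}

theorem mul_mem_of_relIndex_two {s A : Subgroup G} (h : s.relIndex A = 2) {x y : G} (hx : x ∈ A) (hy : y ∈ A) :
    (x * y ∈ s ↔ (x ∈ s ↔ y ∈ s)) := by
  have := Subgroup.mul_mem_iff_of_index_two (G := ↥A) h (a := ⟨x, hx⟩) (b := ⟨y, hy⟩)
  simpa [Subgroup.mem_subgroupOf] using this

variable [Finite G]

theorem inter_eq_one {A K : Subgroup G} (hA : Cfsg.IsElementaryAbelian 2 A)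
    (hAK : A ≤ Subgroup.normalizer (K : Set G)) (hK : Odd (Nat.card ↥K))
    (hfaith : A ⊓ Subgroup.centralizer (K : Set G) = ⊥) {x : G} (hx : x ∈ A)
    (h : ∀ s ∈ Good A K, x ∈ s) : x = 1 := by
  haveI : Fact (Nat.Prime 2) := ⟨Nat.prime_two⟩
  have hle : K ≤ Subgroup.centralizer ({x} : Set G) := by
    refine (PLocal.le_iSup_fixOn_hyperplane hA hAK (Nat.coprime_two_right.2 hK)).trans (iSup_le fun B => ?_)
    obtain ⟨B, hBA, hBi⟩ := B
    by_cases hgood : B ∈ Good A K
    · exact inf_le_right.trans (Subgroup.centralizer_le (Set.singleton_subset_iff.2 (h B hgood)))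
    · have hc : K ⊓ Subgroup.centralizer (B : Set G) ≤ Subgroup.centralizer (A : Set G) := by
        by_contra hc
        have hne1 : B.relIndex A ≠ 1 := by
          intro h1
          have : B = A := le_antisymm hBA (Subgroup.relIndex_eq_one.1 h1)
          subst this
          exact hc inf_le_right
        have h0 : B.relIndex A ≠ 0 := Subgroup.index_ne_zero_of_finite
        exact hgood ⟨hBA, by omega, hc⟩
      exact hc.trans (Subgroup.centralizer_le (Set.singleton_subset_iff.2 hx))
  refine Subgroup.mem_bot.1 (hfaith ▸ ⟨hx, Subgroup.mem_centralizer_iff.2 fun k hk => ?_⟩)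
  exact Subgroup.mem_centralizer_singleton_iff.1 (hle hk)

/-- An element outside the hyperplane `B` on whose fixed points `B` acts faithfully. -/
theorem exists_point {A B C : Subgroup G} (hA : Cfsg.IsElementaryAbelian 2 A) (hBA : B ≤ A)
    (hBi : B.relIndex A = 2) (hAC : A ≤ Subgroup.normalizer (C : Set G)) (hC : Odd (Nat.card ↥C))
    (hfaith : B ⊓ Subgroup.centralizer (C : Set G) = ⊥) :
    ∃ a ∈ A, a ∉ B ∧ B ⊓ Subgroup.centralizer (C ⊓ Subgroup.centralizer ({a} : Set G) : Set G) = ⊥ := by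
  classical
  by_cases hK : A ⊓ Subgroup.centralizer (C : Set G) ≤ B
  · have hfaithA : A ⊓ Subgroup.centralizer (C : Set G) = ⊥ :=
      le_bot_iff.1 (hfaith ▸ le_inf hK inf_le_right)
    obtain ⟨S, ⟨hSsub, hSone⟩, hmin⟩ := (Set.toFinite
      {S : Set (Subgroup G) | S ⊆ Good A C ∧ ∀ x ∈ A, (∀ s ∈ S, x ∈ s) → x = 1}).exists_minimal
      ⟨Good A C, subset_rfl, fun x hx h => inter_eq_one hA hAC hC hfaithA hx h⟩
    have hdual : ∀ k ∈ S, ∃ a ∈ A, a ∉ k ∧ ∀ s ∈ S, s ≠ k → a ∈ s := by
      intro k hk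
      by_contra! hno
      have hP : S \ {k} ∈ {S : Set (Subgroup G) | S ⊆ Good A C ∧ ∀ x ∈ A, (∀ s ∈ S, x ∈ s) → x = 1} := by
        refine ⟨Set.sdiff_subset.trans hSsub, fun x hx h => hSone x hx fun s hs => ?_⟩
        by_cases hsk : s = k
        · subst hsk
          by_contra hxk
          obtain ⟨s', hs', hne, hxs'⟩ := hno x hx hxk
          exact hxs' (h s' ⟨hs', hne⟩)
        · exact h s ⟨hs, hsk⟩
      exact ((hmin hP Set.sdiff_subset) hk).2 rfl
    obtain ⟨k, hk, a, ha, hak, has, haB⟩ : ∃ k ∈ S, ∃ a ∈ A, a ∉ k ∧ (∀ s ∈ S, s ≠ k → a ∈ s) ∧ a ∉ B := by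
      by_contra! hno
      have hgen : ∀ (n : ℕ) x, x ∈ A → {s ∈ S | x ∉ s}.ncard ≤ n → x ∈ B := by
        intro n
        induction n with
        | zero =>
          intro x hx hn
          have he := (Set.ncard_eq_zero (Set.toFinite _)).1 (Nat.le_zero.1 hn)
          rw [hSone x hx fun s hs => by
            by_contra hxs
            exact Set.eq_empty_iff_forall_notMem.1 he s ⟨hs, hxs⟩]
          exact one_mem _
        | succ n ih =>
          intro x hx hn
          by_cases hall : ∀ s ∈ S, x ∈ s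
          · rw [hSone x hx hall]; exact one_mem _
          push Not at hall
          obtain ⟨k, hk, hxk⟩ := hall
          obtain ⟨a, ha, hak, has⟩ := hdual k hk
          have haB := hno k hk a ha hak has
          have hsub : {s ∈ S | x * a ∉ s} ⊆ {s ∈ S | x ∉ s} \ {k} := by
            rintro s ⟨hs, hxa⟩
            have hiff := mul_mem_of_relIndex_two (hSsub hs).2.1 hx ha
            by_cases hsk : s = k
            · subst hsk
              exact absurd (hiff.2 ⟨fun h => absurd h hxk, fun h => absurd h hak⟩) hxa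
            · exact ⟨⟨hs, fun h => hxa (hiff.2 ⟨fun _ => has s hs hsk, fun _ => h⟩)⟩, hsk⟩
          have hlt := Set.ncard_le_ncard hsub (Set.toFinite _)
          rw [Set.ncard_sdiff_singleton_of_mem (show k ∈ {s ∈ S | x ∉ s} from ⟨hk, hxk⟩)] at hlt
          have := ih (x * a) (mul_mem hx ha) (by omega)
          exact (Subgroup.mul_mem_cancel_right _ haB).1 this
      have hBeq : B = A := le_antisymm hBA fun x hx => hgen _ x hx le_rfl
      rw [hBeq, Subgroup.relIndex_self] at hBi
      exact absurd hBi (by norm_num)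
    refine ⟨a, ha, haB, (Subgroup.eq_bot_iff_forall _).2 fun b hb => ?_⟩
    obtain ⟨hbB, hbC⟩ := hb
    have hbs : ∀ s ∈ S, s ≠ k → b ∈ s := by
      intro s hs hsk
      by_contra hbs
      refine (hSsub hs).2.2 fun c hc => Subgroup.mem_centralizer_iff.2 fun y hy => ?_
      have hbc : b * c = c * b := ((Subgroup.mem_centralizer_iff.1 hbC) c
        ⟨hc.1, Subgroup.mem_centralizer_singleton_iff.2 (Subgroup.mem_centralizer_iff.1 hc.2 a (has s hs hsk)).symm⟩).symm
      by_cases hys : y ∈ s
      · exact Subgroup.mem_centralizer_iff.1 hc.2 y hys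
      · have hyb : y * b ∈ s :=
          (mul_mem_of_relIndex_two (hSsub hs).2.1 hy (hBA hbB)).2 ⟨fun h => absurd h hys, fun h => absurd h hbs⟩
        have h1 : Commute (y * b) c := Subgroup.mem_centralizer_iff.1 hc.2 _ hyb
        have h2 : y = y * b * b⁻¹ := by group
        rw [h2]
        exact (h1.mul_left (show Commute b c from hbc).inv_left).eq
    by_cases hbk : b ∈ k
    · exact hSone b (hBA hbB) fun s hs => if h : s = k then h ▸ hbk else hbs s hs h
    · exfalso
      refine haB ?_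
      have h1 : b * a = 1 := hSone _ (mul_mem (hBA hbB) ha) fun s hs => by
        by_cases h : s = k
        · subst h
          exact (mul_mem_of_relIndex_two (hSsub hs).2.1 (hBA hbB) ha).2 ⟨fun h => absurd h hbk, fun h => absurd h hak⟩
        · exact mul_mem (hbs s hs h) (has s hs h)
      rw [← inv_eq_of_mul_eq_one_right h1]
      exact inv_mem hbB
  · obtain ⟨a, ⟨ha, haC⟩, haB⟩ := SetLike.not_le_iff_exists.1 hK
    refine ⟨a, ha, haB, le_bot_iff.1 (le_trans ?_ hfaith.le)⟩
    refine inf_le_inf_left _ (Subgroup.centralizer_le fun c hc => ⟨hc, ?_⟩)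
    exact Subgroup.mem_centralizer_singleton_iff.2 (Subgroup.mem_centralizer_iff.1 haC c hc)

theorem main : ∀ (d : ℕ) (A F : Subgroup G), Cfsg.IsElementaryAbelian 2 A → Nat.card ↥A = 2 ^ d →
    A ≤ Subgroup.normalizer (F : Set G) → Group.IsNilpotent ↥F → Odd (Nat.card ↥F) →
    A ⊓ Subgroup.centralizer (F : Set G) = ⊥ →
    ∃ a l : Fin d → G, (∀ i, a i ∈ A ∧ orderOf (a i) = 2) ∧
      (∀ i, l i ∈ F ∧ l i ≠ 1 ∧ a i * l i * a i = (l i)⁻¹) ∧
      (⨆ i, Subgroup.zpowers (a i)) = A ∧ ∀ i j, i ≠ j → Commute (a i) (l j) ∧ Commute (l i) (l j) := by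
  intro d
  induction d with
  | zero =>
    intro A F _ hAd _ _ _ _
    refine ⟨Fin.elim0, Fin.elim0, fun i => i.elim0, fun i => i.elim0, ?_, fun i => i.elim0⟩
    rw [Subgroup.card_eq_one.1 (hAd.trans (pow_zero 2)), iSup_eq_bot]
    exact fun i => i.elim0
  | succ d ih =>
    intro A F hA hAd hAF hnil hodd hfaith
    obtain ⟨x, hx, hx1⟩ : ∃ x ∈ A, x ≠ 1 := by
      by_contra! h
      rw [(Subgroup.eq_bot_iff_forall A).2 h, Subgroup.card_bot] at hAd
      exact absurd hAd.symm (Nat.one_lt_pow (by omega) (by norm_num)).ne'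
    obtain ⟨B, ⟨hBA, hBi, hBC⟩, hxB⟩ : ∃ B ∈ Good A F, x ∉ B := by
      by_contra! h
      exact hx1 (inter_eq_one hA hAF hodd hfaith hx h)
    obtain ⟨c, ⟨hcF, hcB⟩, hcA⟩ := SetLike.not_le_iff_exists.1 hBC
    obtain ⟨a0, ha0, ha0c⟩ : ∃ a ∈ A, ¬ Commute a c := by
      by_contra! h
      exact hcA (Subgroup.mem_centralizer_iff.2 fun y hy => h y hy)
    have hsq : ∀ y ∈ A, y * y = 1 := fun y hy => by rw [← sq]; exact hA.2 y hy
    have hinv' : ∀ y ∈ A, y⁻¹ = y := fun y hy => inv_eq_of_mul_eq_one_right (hsq y hy)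
    set l := c * (a0 * c⁻¹ * a0) with hl
    have hlF : l ∈ F := by
      refine mul_mem hcF ?_
      have := (Subgroup.mem_normalizer_iff.1 (hAF ha0) c⁻¹).1 (inv_mem hcF)
      rwa [hinv' a0 ha0] at this
    have hl1 : l ≠ 1 := by
      intro h
      refine ha0c ?_
      have h2 : c * a0 * c⁻¹ = a0⁻¹ := eq_inv_of_mul_eq_one_left (by rw [← h, hl]; group)
      rw [hinv' a0 ha0, mul_inv_eq_iff_eq_mul] at h2
      exact h2.symm
    have hl0 : a0 * l * a0 = l⁻¹ := by
      rw [hl]
      calc a0 * (c * (a0 * c⁻¹ * a0)) * a0 = a0 * c * a0 * c⁻¹ * (a0 * a0) := by group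
        _ = _ := by rw [hsq a0 ha0, mul_one, mul_inv_rev, mul_inv_rev, mul_inv_rev, inv_inv, hinv' a0 ha0]; group
    have hlB : ∀ b ∈ B, Commute b l := fun b hb => by
      have h1 : Commute b c := Subgroup.mem_centralizer_iff.1 hcB b hb
      have h2 : Commute b a0 := PGroups.elemAb_comm hA (hBA hb) ha0
      exact h1.mul_right ((h2.mul_right h1.inv_right).mul_right h2)
    have ha0B : a0 ∉ B := fun h => ha0c (Subgroup.mem_centralizer_iff.1 hcB a0 h)
    have hout : ∀ y ∈ A, y ∉ B → y * l * y = l⁻¹ := by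
      intro y hy hyB
      have hb : y * a0 ∈ B :=
        (mul_mem_of_relIndex_two hBi hy ha0).2 ⟨fun h => absurd h hyB, fun h => absurd h ha0B⟩
      set b := y * a0 with hb'
      have hyb : y = b * a0 := by rw [hb', mul_assoc, hsq a0 ha0, mul_one]
      have hcomm : Commute b a0 := PGroups.elemAb_comm hA (hBA hb) ha0
      rw [hyb]
      calc b * a0 * l * (b * a0) = b * a0 * l * (a0 * b) := congrArg (b * a0 * l * ·) hcomm.eq
        _ = b * (a0 * l * a0) * b := by simp only [mul_assoc]
        _ = l⁻¹ * (b * b) := by rw [hl0, ((hlB b hb).inv_right).eq, mul_assoc]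
        _ = _ := by rw [hsq b (hBA hb), mul_one]
    have hAl : A ≤ Subgroup.normalizer (Subgroup.zpowers l : Set G) := by
      intro y hy
      rw [Subgroup.mem_normalizer_iff_map_conj_eq]
      show (Subgroup.zpowers l).map (MulAut.conj y).toMonoidHom = _
      rw [MonoidHom.map_zpowers]
      show Subgroup.zpowers (y * l * y⁻¹) = _
      rw [hinv' y hy]
      by_cases hyB : y ∈ B
      · rw [(hlB y hyB).eq, mul_assoc, hsq y hy, mul_one]
      · rw [hout y hy hyB, Subgroup.zpowers_inv]
    set C := F ⊓ Subgroup.centralizer (Subgroup.zpowers l : Set G) with hC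
    have hAC : A ≤ Subgroup.normalizer (C : Set G) :=
      Coprime.le_normalizer_inf hAF (hAl.trans (le_normalizer_centralizer _))
    have hCodd : Odd (Nat.card ↥C) := hodd.of_dvd_nat (Subgroup.card_dvd_of_le inf_le_left)
    have hfB : B ⊓ Subgroup.centralizer (C : Set G) = ⊥ := by
      refine le_bot_iff.1 fun b hb => ?_
      rw [← hfaith]
      refine ⟨hBA hb.1, Subgroup.mem_centralizer_iff.2 fun f hf => ?_⟩
      have hcop : (orderOf b).Coprime (Nat.card ↥F) :=
        Nat.Coprime.of_dvd_left (orderOf_dvd_of_pow_eq_one (hA.2 b (hBA hb.1))) (Nat.coprime_two_left.2 hodd)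
      refine (OddLocal.CoprimeFix.centralizes_of_centralizer_fixed (C := F ⊓ Subgroup.centralizer ({b} : Set G)) hnil
        inf_le_left (hAF (hBA hb.1)) hcop
        (fun h hh hbh => ⟨hh, Subgroup.mem_centralizer_singleton_iff.2 hbh.symm⟩) ?_ ?_ f hf).symm
      · exact Subgroup.mem_centralizer_iff.2 fun y hy => Subgroup.mem_centralizer_singleton_iff.1 hy.2
      · intro h hh hhC
        refine (Subgroup.mem_centralizer_iff.1 hb.2 h ⟨hh, Subgroup.mem_centralizer_iff.2 fun y hy => ?_⟩).symm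
        have hlC : l ∈ F ⊓ Subgroup.centralizer ({b} : Set G) :=
          ⟨hlF, Subgroup.mem_centralizer_singleton_iff.2 (hlB b hb.1).eq.symm⟩
        obtain ⟨k, rfl⟩ := Subgroup.mem_zpowers_iff.1 hy
        exact ((show Commute l h from Subgroup.mem_centralizer_iff.1 hhC l hlC).zpow_left k).eq
    obtain ⟨a, ha, haB, hfC⟩ := exists_point hA hBA hBi hAC hCodd hfB
    set F' := C ⊓ Subgroup.centralizer (Subgroup.zpowers a : Set G) with hF'
    have hBcard : Nat.card ↥B = 2 ^ d := by
      have h1 := Subgroup.card_mul_index (B.subgroupOf A)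
      rw [Nat.card_congr (Subgroup.subgroupOfEquivOfLe hBA).toEquiv, hAd,
        show (B.subgroupOf A).index = 2 from hBi, pow_succ] at h1
      exact Nat.eq_of_mul_eq_mul_right two_pos h1
    have hBF' : B ≤ Subgroup.normalizer (F' : Set G) := by
      refine Coprime.le_normalizer_inf (hBA.trans hAC) ((?_ : B ≤ _).trans (le_normalizer_centralizer _))
      intro b hb
      exact Subgroup.centralizer_le_normalizer _ (Subgroup.mem_centralizer_iff.2 fun y hy => by
        obtain ⟨k, rfl⟩ := Subgroup.mem_zpowers_iff.1 hy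
        exact ((show Commute a b from PGroups.elemAb_comm hA ha (hBA hb)).zpow_left k).eq)
    have hfF' : B ⊓ Subgroup.centralizer (F' : Set G) = ⊥ := by
      refine le_bot_iff.1 (le_trans (inf_le_inf_left _ (Subgroup.centralizer_le ?_)) hfC.le)
      rintro y ⟨hy1, hy2⟩
      refine ⟨hy1, Subgroup.mem_centralizer_iff.2 fun z hz => ?_⟩
      obtain ⟨k, rfl⟩ := Subgroup.mem_zpowers_iff.1 hz
      exact ((show Commute a y from (Subgroup.mem_centralizer_singleton_iff.1 hy2).symm).zpow_left k).eq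
    have hF'F : F' ≤ F := inf_le_left.trans inf_le_left
    obtain ⟨av, lv, hav, hlv, hsup, hpair⟩ := ih B F' (PGroups.elemAb_mono hA hBA) hBcard hBF'
      (Cores.isNilpotent_of_le hF'F hnil) (hodd.of_dvd_nat (Subgroup.card_dvd_of_le hF'F)) hfF'
    have ha1 : a ≠ 1 := fun h => haB (h ▸ one_mem B)
    refine ⟨Fin.cons a av, Fin.cons l lv, ?_, ?_, ?_, ?_⟩
    · refine Fin.cases ?_ (fun i => ?_)
      · simp only [Fin.cons_zero]
        exact ⟨ha, orderOf_eq_prime (hA.2 a ha) ha1⟩
      · simp only [Fin.cons_succ]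
        exact ⟨hBA (hav i).1, (hav i).2⟩
    · refine Fin.cases ?_ (fun i => ?_)
      · simp only [Fin.cons_zero]
        exact ⟨hlF, hl1, hout a ha haB⟩
      · simp only [Fin.cons_succ]
        exact ⟨hF'F (hlv i).1, (hlv i).2⟩
    · refine le_antisymm (iSup_le fun i => ?_) ?_
      · refine Fin.cases ?_ (fun j => ?_) i
        · simpa using ha
        · simpa using hBA (hav j).1
      · intro y hy
        have hle : B ≤ ⨆ i, Subgroup.zpowers ((Fin.cons a av : Fin (d + 1) → G) i) := by
          rw [← hsup]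
          exact iSup_le fun i => le_iSup_of_le i.succ (by simp)
        have hamem : a ∈ ⨆ i, Subgroup.zpowers ((Fin.cons a av : Fin (d + 1) → G) i) :=
          Subgroup.mem_iSup_of_mem 0 (by simp)
        by_cases hyB : y ∈ B
        · exact hle hyB
        · have hya : y * a ∈ B :=
            (mul_mem_of_relIndex_two hBi hy ha).2 ⟨fun h => absurd h hyB, fun h => absurd h haB⟩
          have h0 := mul_mem (hle hya) hamem
          rwa [mul_assoc, hsq a ha, mul_one] at h0
    · have hla : ∀ j, Commute a (lv j) := fun j =>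
        Subgroup.mem_centralizer_iff.1 (hlv j).1.2 a (Subgroup.mem_zpowers a)
      have hll : ∀ j, Commute l (lv j) := fun j =>
        Subgroup.mem_centralizer_iff.1 (hlv j).1.1.2 l (Subgroup.mem_zpowers l)
      refine Fin.cases (Fin.cases ?_ fun j _ => ?_) fun i => Fin.cases (fun _ => ?_) fun j hij => ?_
      · exact fun h => absurd rfl h
      · simp only [Fin.cons_zero, Fin.cons_succ]
        exact ⟨hla j, hll j⟩
      · simp only [Fin.cons_zero, Fin.cons_succ]
        exact ⟨hlB _ (hav i).1, (hll i).symm⟩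
      · simp only [Fin.cons_succ]
        exact hpair i j fun h => hij (h ▸ rfl)

/-- Thompson's dihedral lemma. -/
theorem result {G : Type*} [Group G] [Finite G] (L A : Subgroup G) (hLs : Group.IsSolvable ↥L) (hLodd : Odd (Nat.card ↥L)) (hA : Cfsg.IsElementaryAbelian 2 A) (d : ℕ) (hd : 1 ≤ d) (hAd : Nat.card ↥A = 2 ^ d) (hAL : A ≤ Subgroup.normalizer (L : Set G)) (hfaith : A ⊓ Subgroup.centralizer (L : Set G) = ⊥) : ∃ (Ai : Fin d → Subgroup G) (Li : Fin d → Subgroup G) (n : Fin d → ℕ), (∀ i, Ai i ≤ A ∧ Nat.card ↥(Ai i) = 2 ∧ Li i ≤ L ∧ Odd (n i) ∧ 3 ≤ n i ∧ Nonempty (↥(Ai i ⊔ Li i) ≃* DihedralGroup (n i))) ∧ (⨆ i, Ai i) = A ∧ ∀ i j, i ≠ j → ∀ x ∈ Ai i ⊔ Li i, ∀ y ∈ Ai j ⊔ Li j, x * y = y * x := by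
  haveI := hLs
  set F : Subgroup G := (Cfsg.fittingSubgroup ↥L).map L.subtype with hFdef
  have hFL : F ≤ L := Subgroup.map_subtype_le _
  have hAF : A ≤ Subgroup.normalizer (F : Set G) :=
    hAL.trans (le_normalizer_map_characteristic L _)
  have hFnil : Group.IsNilpotent ↥F := Cores.isNilpotent_map _ Cores.fittingSubgroup_isNilpotent
  have hFodd : Odd (Nat.card ↥F) := hLodd.of_dvd_nat (Subgroup.card_dvd_of_le hFL)
  have hcopA : ∀ (B : Subgroup G), B ≤ A → ∀ K : Subgroup G, K ≤ L → (Nat.card ↥B).Coprime (Nat.card ↥K) := by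
    intro B hB K hK
    refine Nat.Coprime.of_dvd_left (Subgroup.card_dvd_of_le hB) (Nat.Coprime.of_dvd_right (Subgroup.card_dvd_of_le hK) ?_)
    rw [hAd]
    exact Nat.Coprime.pow_left d (Nat.coprime_two_left.2 hLodd)
  have hfaithF : A ⊓ Subgroup.centralizer (F : Set G) = ⊥ := by
    refine (Subgroup.eq_bot_iff_forall _).2 fun a ha => ?_
    have hle : Subgroup.zpowers a ≤ A := Subgroup.zpowers_le.2 ha.1
    have hFa : ⁅F, Subgroup.zpowers a⁆ = ⊥ := by
      rw [Subgroup.commutator_comm, Subgroup.commutator_eq_bot_iff_le_centralizer, Subgroup.zpowers_le]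
      exact ha.2
    have hLa : ⁅L, Subgroup.zpowers a⁆ ≤ L :=
      (Subgroup.le_normalizer_iff_commutator_le_left.1 (hle.trans hAL))
    have hFL' : L ≤ Subgroup.normalizer (F : Set G) := fun x hx =>
      le_normalizer_map_characteristic L _ (Subgroup.le_normalizer hx)
    have h : ⁅L, Subgroup.zpowers a⁆ ≤ F := by
      have h3 : ⁅⁅Subgroup.zpowers a, F⁆, L⁆ = ⊥ := by
        rw [Subgroup.commutator_comm _ F, hFa, Subgroup.commutator_bot_left]
      have h5 : ⁅⁅F, L⁆, Subgroup.zpowers a⁆ = ⊥ := le_bot_iff.1 (hFa ▸ Subgroup.commutator_mono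
        (Subgroup.le_normalizer_iff_commutator_le_left.1 hFL') le_rfl)
      have h1 := Components.three_subgroups h3 h5
      intro x hx
      refine ⟨⟨x, hLa hx⟩, Cores.centralizer_fittingSubgroup_le (G := ↥L)
        (Subgroup.mem_centralizer_iff.2 fun y hy => Subtype.ext ?_), rfl⟩
      exact Subgroup.mem_centralizer_iff.1 (Subgroup.commutator_eq_bot_iff_le_centralizer.1 h1 hx)
        (y : G) ⟨y, hy, rfl⟩
    have hc := Cfsg.Agent.Lib.Coprime.le_centralizer_of_series (hcopA _ hle F hFL) h hFa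
    rw [Subgroup.zpowers_le] at hc
    exact Subgroup.mem_bot.1 (hfaith ▸ ⟨ha.1, hc⟩)
  obtain ⟨a, l, ha, hl, hsup, hpair⟩ := main d A F hA hAd hAF hFnil hFodd hfaithF
  refine ⟨fun i => Subgroup.zpowers (a i), fun i => Subgroup.zpowers (l i), fun i => orderOf (l i),
    fun i => ?_, hsup, ?_⟩
  · have hodd : Odd (orderOf (l i)) := hFodd.of_dvd_nat (Subgroup.orderOf_dvd_natCard _ (hl i).1)
    refine ⟨Subgroup.zpowers_le.2 (ha i).1, by rw [Nat.card_zpowers]; exact (ha i).2,
      Subgroup.zpowers_le.2 (hFL (hl i).1), hodd, ?_, dihedral_iso (ha i).2 (hl i).2.2 hodd (hl i).2.1⟩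
    obtain ⟨r, hr⟩ := hodd
    have : orderOf (l i) ≠ 1 := fun h => (hl i).2.1 (orderOf_eq_one_iff.1 h)
    show 3 ≤ orderOf (l i)
    omega
  · intro i j hij x hx y hy
    have hle : ∀ u v : G, ∀ s : Fin d, Commute u (a s) → Commute u (l s) →
        v ∈ Subgroup.zpowers (a s) ⊔ Subgroup.zpowers (l s) → Commute u v := by
      intro u v s h1 h2 hv
      exact (Subgroup.mem_centralizer_singleton_iff.1
        ((sup_le (Subgroup.zpowers_le.2 (Subgroup.mem_centralizer_singleton_iff.2 h1.symm))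
          (Subgroup.zpowers_le.2 (Subgroup.mem_centralizer_singleton_iff.2 h2.symm)) :
          _ ≤ Subgroup.centralizer ({u} : Set G)) hv)).symm
    have hai : Commute (a i) y := hle _ _ j
      (PGroups.elemAb_comm hA (ha i).1 (ha j).1) (hpair i j hij).1 hy
    have hli : Commute (l i) y := hle _ _ j (hpair j i (Ne.symm hij)).1.symm (hpair i j hij).2 hy
    exact (hle y x i hai.symm hli.symm hx).symm.eq

end Cfsg.Agent.S1349
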