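import Cfsg.Statements.S1350
import Cfsg.Agent.Lib.OddOrder.SigmaHall
-- import your own Cfsg.Agent.* helpers here

set_option autoImplicit false
open Cfsg

namespace Cfsg.Agent.S1350

/-- Let G be a minimal simple group of odd order and M a maximal subgroup. Then M_σ (the largest normal σ(M)-subgroup of M) is a Hall σ(M)-subgroup of M and also of G, and every Hall σ(M)-subgroup of M that is normal in M equals M_σ. -/
theorem result {G : Type*} [Group G] [Finite G] (hG : Cfsg.IsMinSimpleOddOrder G)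
    (M : Subgroup G) (hM : IsCoatom M) :
    Cfsg.IsPiHallOf (Cfsg.sigma M) (Cfsg.sigmaCore M) M ∧ Cfsg.IsPiHall (Cfsg.sigma M) (Cfsg.sigmaCore M) ∧
      ∀ N : Subgroup G, M ≤ Subgroup.normalizer (N : Set G) → Cfsg.IsPiHallOf (Cfsg.sigma M) N M →
        N = Cfsg.sigmaCore M := by
  have hH := Cfsg.Agent.Lib.OddOrder.SigmaHall.sigmaCore_isPiHallOf hG hM
  refine ⟨hH, ⟨hH.2.1, fun p hp hps hd => ?_⟩, fun N hMN hN => ?_⟩
  · rw [← Subgroup.relIndex_mul_index hH.1] at hd
    rcases hp.dvd_mul.1 hd with h | h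
    · exact hH.2.2 p hp hps h
    · haveI := Fact.mk hp
      obtain ⟨S⟩ : Nonempty (Sylow p M) := inferInstance
      exact Cfsg.Agent.Lib.OddOrder.Sigma.not_dvd_index hps S
        (h.trans (Subgroup.index_dvd_of_le (Subgroup.map_subtype_le _)))
  · haveI : (N.subgroupOf M).Normal := (Subgroup.normal_subgroupOf_iff_le_normalizer hN.1).2 hMN
    have hle : N.subgroupOf M ≤ Cfsg.piCore (Cfsg.sigma M) M :=
      Cfsg.Agent.Lib.Cores.le_piCore fun q hq hd => hN.2.1 q hq
        (by rwa [Cfsg.Agent.Lib.OddOrder.NormedConstrained.card_subgroupOf_eq hN.1] at hd)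
    have hle' : N ≤ Cfsg.sigmaCore M := by
      rw [← Subgroup.map_subgroupOf_eq_of_le hN.1]
      exact Subgroup.map_mono hle
    refine le_antisymm hle' (Subgroup.relIndex_eq_one.1 ?_)
    by_contra hne
    obtain ⟨q, hq, hd⟩ := Nat.exists_prime_and_dvd hne
    refine hN.2.2 q hq (hH.2.1 q hq (hd.trans ?_)) (hd.trans ?_)
    · exact Dvd.intro_left _ (Subgroup.card_mul_index (N.subgroupOf (Cfsg.sigmaCore M)))
    · exact Dvd.intro _ (Subgroup.relIndex_mul_relIndex N (Cfsg.sigmaCore M) M hle' hH.1)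

end Cfsg.Agent.S1350
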