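import Cfsg.Statements.S1386
import Cfsg.Agent.Lib.OddOrder.Cyclic

set_option autoImplicit false
open Cfsg

namespace Cfsg.Agent.S1386

/-- Let G be a finite group, W₁, W₂ subgroups forming a self-normalizing cyclic pair, S a subgroup with W₂ ≤ S and W₁ a complement to S' in S, and (W₁, U, W₂') type-P data for S. Then W₂' = W₂ (that is, C_{S'}(W₁) = W₂). -/
theorem result {G : Type*} [Group G] [Finite G] (W₁ W₂ S U W₂' : Subgroup G) (hW : Cfsg.IsSelfNormalizingCyclic W₁ W₂)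
    (hSW : Cfsg.IsComplIn ⁅S, S⁆ W₁ S) (hW₂S : W₂ ≤ S) (hP : Cfsg.IsTypePWith S W₁ U W₂') :
    W₂' = W₂ := by
  obtain ⟨h1, h2, h12, hcomm, hcyc, hnorm⟩ := hW
  obtain ⟨h1', h2', h12', hcomm', hcyc', -⟩ := hP.selfNormalizing
  obtain ⟨a, ha, ha1⟩ := W₁.bot_or_exists_ne_one.resolve_left h1
  obtain ⟨b, hb, hb1⟩ := W₂.bot_or_exists_ne_one.resolve_left h2
  haveI := hP.W₁_cyclic
  haveI := hcyc
  haveI := hcyc'
  have hle : W₁ ⊔ W₂ ≤ W₁ ⊔ W₂' := by
    refine sup_le le_sup_left fun y hy => ?_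
    obtain ⟨w, hw, d, hd, rfl⟩ := (Lib.OddOrder.Basic.isComplIn_symm hSW).2.2.2 y (hW₂S hy)
    refine mul_mem (Subgroup.mem_sup_left hw) (Subgroup.mem_sup_right ?_)
    rw [← hP.W₂_centralizer a ha ha1]
    refine ⟨hd, Subgroup.mem_centralizer_singleton_iff.2 ?_⟩
    have e1 : Commute a (w * d) := hcomm a ha _ hy
    have e2 : Commute a w := congrArg Subtype.val (mul_comm' (⟨a, ha⟩ : W₁) ⟨w, hw⟩)
    have e3 : Commute a (w⁻¹ * (w * d)) := e2.inv_right.mul_right e1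
    rw [inv_mul_cancel_left] at e3
    exact e3.symm
  have hWW : W₁ ⊔ W₂' = W₁ ⊔ W₂ := by
    refine le_antisymm (sup_le le_sup_left fun y hy => ?_) hle
    have hab : ({a * b} : Set G) ⊆ (↑(W₁ ⊔ W₂) : Set G) \ (↑W₁ ∪ ↑W₂) := by
      rintro x rfl
      refine ⟨mul_mem (Subgroup.mem_sup_left ha) (Subgroup.mem_sup_right hb), ?_⟩
      rintro (hx | hx)
      · exact hb1 (Subgroup.mem_bot.1 (h12 ▸ ⟨(mul_mem_cancel_left ha).1 hx, hb⟩))
      · exact ha1 (Subgroup.mem_bot.1 (h12 ▸ ⟨ha, (mul_mem_cancel_right hb).1 hx⟩))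
    rw [← hnorm {a * b} hab (Set.singleton_nonempty _)]
    have hyb : Commute y b := congrArg Subtype.val (mul_comm'
      (⟨y, Subgroup.mem_sup_right hy⟩ : ↥(W₁ ⊔ W₂')) ⟨b, hle (Subgroup.mem_sup_right hb)⟩)
    have hya : Commute y a := (hcomm' a ha y hy).symm
    have hy2 : y * (a * b) * y⁻¹ = a * b := by rw [(hya.mul_right hyb).eq, mul_inv_cancel_right]
    refine Subgroup.mem_normalizer_fintype (S := {a * b}) fun n hn => ?_
    rw [Set.mem_singleton_iff] at hn ⊢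
    rw [hn, hy2]
  refine Lib.OddOrder.Cyclic.eq_of_card_eq_of_isCyclic (W := W₁ ⊔ W₂)
    (hWW ▸ le_sup_right) le_sup_right ?_
  have c1 := Lib.OddOrder.Basic.isComplIn_card (Lib.OddOrder.Cyclic.isComplIn_sup_of_commute hcomm h12)
  have c2 := Lib.OddOrder.Basic.isComplIn_card (Lib.OddOrder.Cyclic.isComplIn_sup_of_commute hcomm' h12')
  rw [hWW, ← c1] at c2
  exact Nat.eq_of_mul_eq_mul_left Nat.card_pos c2

end Cfsg.Agent.S1386
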