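import Cfsg.Statements.S1427
import Cfsg.Agent.Lib.OddOrder.CentTauOne
import Cfsg.Agent.Lib.OddOrder.TauTwoFacts
-- import your own Cfsg.Agent.* helpers here

set_option autoImplicit false
open Cfsg Cfsg.Agent.Lib.OddOrder

namespace Cfsg.Agent.S1427

/-- Let G be a minimal simple group of odd order, M a maximal subgroup, E a complement to M_σ in M, and S a nontrivial cyclic Sylow subgroup of E (for some prime). Then M_σ ∩ C_G(x) = M_σ ∩ C_G(S) for every non-identity x ∈ S. -/
theorem result {G : Type*} [Group G] [Finite G] (hG : Cfsg.IsMinSimpleOddOrder G)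
    (M : Subgroup G) (hM : IsCoatom M) (E : Subgroup G) (hE : Cfsg.IsComplIn E (Cfsg.sigmaCore M) M) (p : ℕ) [Fact p.Prime] (S : Sylow p E) (hS1 : (S : Subgroup E) ≠ ⊥) (hSc : IsCyclic (S : Subgroup E)) :
    ∀ x ∈ (S : Subgroup E).map E.subtype, x ≠ 1 →
        Cfsg.sigmaCore M ⊓ Subgroup.centralizer ({x} : Set G) = Cfsg.sigmaCore M ⊓ Subgroup.centralizer (((S : Subgroup E).map E.subtype : Subgroup G) : Set G) := by
  intro x hx hx1
  set S' := (S : Subgroup E).map E.subtype with hS'
  have hσ := SigmaHall.sigmaCore_isPiHallOf hG hM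
  have hS'M : S' ≤ M := (Subgroup.map_subtype_le _).trans hE.1
  have hS'p : IsPGroup p S' := S.2.map _
  have hS'1 : S' ≠ ⊥ := by
    rwa [Ne, hS', Subgroup.map_eq_bot_iff_of_injective _ E.subtype_injective]
  have hcard : (Cfsg.sigmaCore M).relIndex M = Nat.card E :=
    Basic.isComplIn_relIndex (Basic.isComplIn_symm hE)
  have hps : p ∉ Cfsg.sigma M := fun h => hσ.2.2 p Fact.out h (hcard ▸
    (SigmaEmbedding.ne_one_of_pgroup hS'p hS'1).trans
      (Subgroup.card_dvd_of_le (Subgroup.map_subtype_le _)))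
  have hidx : ¬ p ∣ (S'.subgroupOf M).index := by
    show ¬ p ∣ S'.relIndex M
    rw [← Subgroup.relIndex_mul_relIndex S' E M (Subgroup.map_subtype_le _) hE.1, hS',
      Basic.relIndex_map_subtype, Basic.isComplIn_relIndex hE]
    exact fun hd => ((Fact.out : p.Prime).dvd_mul.1 hd).elim S.not_dvd_index
      fun h => hps (hσ.2.1 p Fact.out h)
  let SM : Sylow p M := (hS'p.of_equiv (Subgroup.subgroupOfEquivOfLe hS'M).symm).toSylow hidx
  have hr1 : Cfsg.PRankLE p 1 M := by
    by_contra h
    have h1 := AlphaCentralizer.not_prankLE_sylow SM h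
    rw [show (SM : Subgroup M).map M.subtype = S' from
      Subgroup.map_subgroupOf_eq_of_le hS'M] at h1
    obtain ⟨F, hF, hFe, hFc⟩ := Rank.exists_elemAb_of_not_prankLE h1
    rw [pow_one] at hFc
    haveI : IsCyclic S' := isCyclic_of_surjective
      ((S : Subgroup E).equivMapOfInjective E.subtype E.subtype_injective).toMonoidHom
      ((S : Subgroup E).equivMapOfInjective E.subtype E.subtype_injective).surjective
    exact Rank.elemAb_not_isCyclic hFe hFc (isCyclic_of_injective (Subgroup.inclusion hF)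
      (Subgroup.inclusion_injective hF))
  haveI hS'c : IsCyclic S' := SigmaCompl.isCyclic_of_prankLE_one hG hS'M hr1 hS'p
  letI := IsCyclic.commGroup (α := S')
  obtain ⟨n, hn⟩ := IsPGroup.iff_orderOf.1 hS'p ⟨x, hx⟩
  rw [Subgroup.orderOf_mk] at hn
  have hn0 : n ≠ 0 := fun e => hx1 (by rw [e, pow_zero, orderOf_eq_one_iff] at hn; exact hn)
  obtain ⟨k, rfl⟩ : ∃ k, n = k + 1 := ⟨n - 1, by omega⟩
  set y := x ^ p ^ k with hy
  have hyo : orderOf y = p := by
    rw [hy, orderOf_pow' _ (pow_ne_zero _ (Fact.out : p.Prime).ne_zero), hn, pow_succ,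
      Nat.gcd_eq_right (dvd_mul_right _ _), Nat.mul_div_cancel_left _
        (pow_pos (Fact.out : p.Prime).pos _)]
  refine le_antisymm ?_ (inf_le_inf_left _ (Subgroup.centralizer_le (Set.singleton_subset_iff.2 hx)))
  refine le_inf inf_le_left ((inf_le_inf_left _ ?_).trans (SigmaMeet.prime_action
    (TauTwoFacts.tauTwo hG) hG hM hps hr1 (P := Subgroup.zpowers y) (S := S')
    (by rw [Nat.card_zpowers, hyo]) (Subgroup.zpowers_le.2 (pow_mem (hS'M hx) _)) hS'p
    (le_inf hS'M ?_)))
  · rw [Subgroup.zpowers_eq_closure, Subgroup.centralizer_closure]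
    intro z hz
    exact Subgroup.mem_centralizer_singleton_iff.2
      (Commute.pow_right (Subgroup.mem_centralizer_singleton_iff.1 hz : Commute z x) _)
  · intro s hs
    rw [Subgroup.zpowers_eq_closure, Subgroup.centralizer_closure]
    exact Subgroup.mem_centralizer_singleton_iff.2
      (congrArg Subtype.val (mul_comm (⟨s, hs⟩ : S') ⟨y, pow_mem hx _⟩))

end Cfsg.Agent.S1427
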