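import Cfsg.Statements.S1428
import Cfsg.Agent.Lib.OddOrder.CentTauOne
import Cfsg.Agent.Lib.OddOrder.TauTwoFacts
-- import your own Cfsg.Agent.* helpers here

set_option autoImplicit false
open Cfsg Cfsg.Agent.Lib.OddOrder

namespace Cfsg.Agent.S1428

/-- Let G be a minimal simple group of odd order, M a maximal subgroup, E a complement to M_σ in M, p ∈ τ₁(M), P ≤ E a subgroup of order p, and R a subgroup of prime order of E ∩ C_G(P). Then M_σ ∩ C_G(P) ≤ M_σ ∩ C_G(R). -/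
theorem result {G : Type*} [Group G] [Finite G] (hG : Cfsg.IsMinSimpleOddOrder G)
    (M : Subgroup G) (hM : IsCoatom M) (E : Subgroup G) (hE : Cfsg.IsComplIn E (Cfsg.sigmaCore M) M) (p : ℕ) (hp : p ∈ Cfsg.tau1 M) (P : Subgroup G) (hPE : P ≤ E) (hP : Nat.card P = p)
    (R : Subgroup G) (hRE : R ≤ E ⊓ Subgroup.centralizer (P : Set G)) (hR : (Nat.card R).Prime) :
    Cfsg.sigmaCore M ⊓ Subgroup.centralizer (P : Set G) ≤ Cfsg.sigmaCore M ⊓ Subgroup.centralizer (R : Set G) := by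
  haveI : Fact p.Prime := ⟨hp.1⟩
  haveI : Fact (Nat.card R).Prime := ⟨hR⟩
  obtain ⟨x, hx⟩ := exists_prime_orderOf_dvd_card' (G := R) (Nat.card R) dvd_rfl
  have hxo : orderOf (x : G) = Nat.card R := by rw [Subgroup.orderOf_coe, hx]
  have hxE : (x : G) ∈ E ⊓ Subgroup.centralizer (P : Set G) := hRE x.2
  have hrσ : Nat.card R ∉ Cfsg.sigma M := fun h => by
    refine (SigmaHall.sigmaCore_isPiHallOf hG hM).2.2 _ hR h ?_
    rw [Basic.isComplIn_relIndex (Basic.isComplIn_symm hE)]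
    exact Subgroup.card_dvd_of_le (hRE.trans inf_le_left)
  have hz : Subgroup.zpowers (x : G) = R :=
    Subgroup.eq_of_le_of_card_ge (Subgroup.zpowers_le.2 x.2) (by rw [Nat.card_zpowers, hxo])
  refine le_inf inf_le_left ((CentTauOne.le_centralizer (TauTwoFacts.tauTwo hG) hG hM hp hP
    (hPE.trans hE.1) (hE.1 hxE.1) hxo hrσ hxE.2).trans (le_of_eq ?_))
  rw [← Subgroup.centralizer_closure, ← Subgroup.zpowers_eq_closure, hz]

end Cfsg.Agent.S1428
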