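import Cfsg.Statements.S1441
import Cfsg.Agent.Lib.OddLocal.CoprimeFix

set_option autoImplicit false
open Cfsg

namespace Cfsg.Agent.S1441

/-- Let G be a finite group, H a solvable subgroup and A a subgroup normalizing H. Suppose there is a chain H = H₀ ≥ H₁ ≥ ⋯ ≥ H_n = 1 of subgroups normal in H and normalized by A such that A acts trivially on each factor H_{i-1}/H_i (that is, [H_{i-1}, A] ≤ H_i). Then every prime dividing the index of C_A(H) in A divides the order of H. -/
theorem result {G : Type*} [Group G] [Finite G] (H A : Subgroup G) (hH : Group.IsSolvable H) (hA : (A ≤ Subgroup.normalizer (H : Set G)))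
    (n : ℕ) (c : Fin (n + 1) → Subgroup G) (hc0 : c 0 = H) (hcn : c (Fin.last n) = ⊥) (hanti : Antitone c)
    (hcN : ∀ i, H ≤ Subgroup.normalizer ((c i : Subgroup G) : Set G)) (hcA : ∀ i, A ≤ Subgroup.normalizer ((c i : Subgroup G) : Set G))
    (htriv : ∀ i : Fin n, ⁅c i.castSucc, A⁆ ≤ c i.succ) :
    ∀ p : ℕ, p.Prime → p ∣ (A ⊓ Subgroup.centralizer (H : Set G)).relIndex A → p ∣ Nat.card H := by
  open Cfsg.Agent.Lib.OddLocal.CoprimeFix in
  intro p hp hdvd
  by_contra hnot
  haveI : Fact p.Prime := ⟨hp⟩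
  obtain ⟨P⟩ := (inferInstance : Nonempty (Sylow p A))
  have hle : (P : Subgroup A) ≤ (A ⊓ Subgroup.centralizer (H : Set G)).subgroupOf A := by
    intro x hx
    refine Subgroup.mem_subgroupOf.mpr ⟨x.2, Subgroup.mem_centralizer_iff.mpr fun h hh => ?_⟩
    have hcop : (orderOf (x : G)).Coprime (Nat.card H) := by
      obtain ⟨m, hm⟩ := IsPGroup.iff_orderOf.mp P.isPGroup' ⟨x, hx⟩
      rw [Subgroup.orderOf_mk] at hm
      rw [Subgroup.orderOf_coe, hm]
      exact Nat.Coprime.pow_left m (hp.coprime_iff_not_dvd.mpr hnot)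
    refine (centralizes_of_series c hc0 hcn (fun i => hc0 ▸ hanti (Fin.zero_le i)) hcop ?_ h hh).symm
    intro i y hy
    refine htriv i ?_
    have hmem := Subgroup.commutator_mem_commutator hy x.2
    have : (x : G) * y * (x : G)⁻¹ * y⁻¹ = (y * x * y⁻¹ * (x : G)⁻¹)⁻¹ := by group
    rw [this]
    exact inv_mem hmem
  exact P.not_dvd_index (hdvd.trans (Subgroup.index_dvd_of_le hle))

end Cfsg.Agent.S1441
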