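import Cfsg.Statements.S1442
import Cfsg.Agent.Lib.OddLocal.CoprimeFix

set_option autoImplicit false
open Cfsg

namespace Cfsg.Agent.S1442

/-- Let G be a finite group, H a nilpotent subgroup and A a subgroup normalizing H with the orders of A and H coprime. Put C = H ∩ C_G(A). If H ∩ C_G(C) ≤ C then A centralizes H. -/
theorem result {G : Type*} [Group G] [Finite G] (H A : Subgroup G) (hH : Group.IsNilpotent H) (hA : (A ≤ Subgroup.normalizer (H : Set G))) (hcop : (Nat.card A).Coprime (Nat.card H))
    (hC : H ⊓ Subgroup.centralizer (((H ⊓ Subgroup.centralizer (A : Set G)) : Subgroup G) : Set G) ≤ (H ⊓ Subgroup.centralizer (A : Set G))) :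
    A ≤ Subgroup.centralizer (H : Set G) := by
  open Cfsg.Agent.Lib.OddLocal.CoprimeFix in
  intro x hx
  refine Subgroup.mem_centralizer_iff.mpr fun y hy => ?_
  by_contra hne
  -- it suffices to treat the fixed points of `x` alone
  have hcopx : (orderOf x).Coprime (Nat.card H) :=
    hcop.coprime_dvd_left (Subgroup.orderOf_dvd_natCard A hx)
  refine hne (centralizes_of_centralizer_fixed (C := H ⊓ Subgroup.centralizer ({x} : Set G))
    hH inf_le_left (hA hx) hcopx ?_ ?_ ?_ y hy).symm
  · exact fun h hh he => ⟨hh, Subgroup.mem_centralizer_singleton_iff.mpr he.symm⟩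
  · refine Subgroup.mem_centralizer_iff.mpr fun c hc => ?_
    exact Subgroup.mem_centralizer_singleton_iff.mp hc.2
  · intro h hh hc
    have hle : H ⊓ Subgroup.centralizer (A : Set G) ≤ H ⊓ Subgroup.centralizer ({x} : Set G) :=
      inf_le_inf_left H (Subgroup.centralizer_le (by simpa using hx))
    have h2 : h ∈ H ⊓ Subgroup.centralizer (A : Set G) :=
      hC ⟨hh, Subgroup.centralizer_le hle hc⟩
    exact Subgroup.mem_centralizer_iff.mp h2.2 x hx

end Cfsg.Agent.S1442
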