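import Cfsg.Statements.S1443
import Cfsg.Agent.Lib.OddLocal.CoprimeFix

set_option autoImplicit false
open Cfsg

namespace Cfsg.Agent.S1443

/-- Let G be a finite group, p an odd prime, H a p-subgroup, E an elementary abelian subgroup of H, and A a subgroup of order coprime to p normalizing H. If A centralizes every element of order p in H ∩ C_G(E), then A centralizes H. -/
theorem result {G : Type*} [Group G] [Finite G] (p : ℕ) [Fact p.Prime] (hp : p ≠ 2) (H E A : Subgroup G) (hH : IsPGroup p H) (hE : E ≤ H) (hEe : Cfsg.IsElementaryAbelian p E)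
    (hA : (A ≤ Subgroup.normalizer (H : Set G))) (hcop : (Nat.card A).Coprime p)
    (hfix : ∀ x ∈ (H ⊓ Subgroup.centralizer (E : Set G)), orderOf x = p → A ≤ Subgroup.centralizer ({x} : Set G)) :
    A ≤ Subgroup.centralizer (H : Set G) := by
  open Cfsg.Agent.Lib.OddLocal.CoprimeFix in
  intro x hx
  have hcx : (orderOf x).Coprime p := hcop.coprime_dvd_left (Subgroup.orderOf_dvd_natCard A hx)
  have hcH : (orderOf x).Coprime (Nat.card H) := by
    obtain ⟨m, hm⟩ := IsPGroup.iff_card.mp hH
    rw [hm]
    exact hcx.pow_right m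
  obtain ⟨hEc, hEp⟩ := hEe
  have hfix' : ∀ h ∈ H ⊓ Subgroup.centralizer (E : Set G), orderOf h = p → x * h = h * x :=
    fun h hh ho => (Subgroup.mem_centralizer_singleton_iff.mp (hfix h hh ho hx)).symm.symm
  have hxE : x ∈ Subgroup.centralizer (E : Set G) := by
    refine Subgroup.mem_centralizer_iff.mpr fun e he => ?_
    rcases (Nat.dvd_prime (Fact.out : p.Prime)).mp (orderOf_dvd_of_pow_eq_one (hEp e he)) with h1 | h1
    · rw [orderOf_eq_one_iff] at h1
      simp [h1]
    · refine (hfix' e ⟨hE he, Subgroup.mem_centralizer_iff.mpr fun f hf => ?_⟩ h1).symm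
      exact setLike_mul_comm hf he
  have hQN : x ∈ Subgroup.normalizer ((H ⊓ Subgroup.centralizer (E : Set G) : Subgroup G) : Set G) := by
    rw [Subgroup.mem_normalizer_iff]
    intro y
    have key : ∀ z ∈ Subgroup.centralizer (E : Set G), ∀ w : G,
        w ∈ Subgroup.centralizer (E : Set G) → z * w * z⁻¹ ∈ Subgroup.centralizer (E : Set G) :=
      fun z hz w hw => mul_mem (mul_mem hz hw) (inv_mem hz)
    constructor
    · exact fun hy => ⟨(Subgroup.mem_normalizer_iff.mp (hA hx) y).mp hy.1, key x hxE y hy.2⟩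
    · intro hy
      refine ⟨(Subgroup.mem_normalizer_iff.mp (hA hx) y).mpr hy.1, ?_⟩
      have := key x⁻¹ (inv_mem hxE) _ hy.2
      simpa [mul_assoc] using this
  have hfixQ := centralizes_of_omega hp hcx (hH.to_le inf_le_left) hQN hfix'
  refine Subgroup.mem_centralizer_iff.mpr fun y hy => ?_
  refine (centralizes_of_centralizer_fixed (C := H ⊓ Subgroup.centralizer ({x} : Set G))
    hH.isNilpotent inf_le_left (hA hx) hcH ?_ ?_ ?_ y hy).symm
  · exact fun h hh he => ⟨hh, Subgroup.mem_centralizer_singleton_iff.mpr he.symm⟩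
  · exact Subgroup.mem_centralizer_iff.mpr fun c hc => Subgroup.mem_centralizer_singleton_iff.mp hc.2
  · intro h hh hc
    refine hfixQ h ⟨hh, Subgroup.centralizer_le (fun e he => ?_) hc⟩
    exact ⟨hE he, Subgroup.mem_centralizer_singleton_iff.mpr (Subgroup.mem_centralizer_iff.mp hxE e he)⟩

end Cfsg.Agent.S1443
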