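import Cfsg.Statements.S1453
import Cfsg.Agent.Lib.OddLocal.NarrowAut
import Cfsg.Agent.Lib.PGroups.UniqueInvolution
-- import your own Cfsg.Agent.* helpers here

set_option autoImplicit false
open Cfsg
open scoped commutatorElement

namespace Cfsg.Agent.S1453

/-- Let p be an odd prime and R a finite p-group with an elementary abelian subgroup of order p ^ 3 and an elementary abelian subgroup E of order p ^ 2 contained in no larger elementary abelian subgroup. Let Z₂ be the second centre of R, W the subgroup generated by the elements of Z₂ of order dividing p, and T = C_R(W). Then E is not contained in T; the elements of order dividing p of the centre of R generate a group of order p; W is elementary abelian of order p ^ 2; and T is characteristic in R of index p. -/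
theorem result {R : Type*} [Group R] [Finite R] (p : ℕ) [Fact p.Prime] (hp : p ≠ 2) (hR : IsPGroup p R) (hr : ¬ Cfsg.PRankLE p 2 R)
    (E : Subgroup R) (hE : Cfsg.IsElementaryAbelian p E) (hE2 : Nat.card E = p ^ 2)
    (hEmax : ∀ B : Subgroup R, Cfsg.IsElementaryAbelian p B → E ≤ B → B = E) :
    ¬ E ≤ Subgroup.centralizer ((Subgroup.closure {x : R | x ∈ Subgroup.upperCentralSeries R 2 ∧ x ^ p = 1} : Subgroup R) : Set R) ∧
      Nat.card ↥(Subgroup.closure {x : R | x ∈ Subgroup.center R ∧ x ^ p = 1}) = p ∧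
      (Cfsg.IsElementaryAbelian p (Subgroup.closure {x : R | x ∈ Subgroup.upperCentralSeries R 2 ∧ x ^ p = 1}) ∧
        Nat.card ↥(Subgroup.closure {x : R | x ∈ Subgroup.upperCentralSeries R 2 ∧ x ^ p = 1}) = p ^ 2) ∧
      (Subgroup.centralizer ((Subgroup.closure {x : R | x ∈ Subgroup.upperCentralSeries R 2 ∧ x ^ p = 1} : Subgroup R) : Set R)).Characteristic ∧
      (Subgroup.centralizer ((Subgroup.closure {x : R | x ∈ Subgroup.upperCentralSeries R 2 ∧ x ^ p = 1} : Subgroup R) : Set R)).index = p := by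
  classical
  have hprime := (Fact.out : p.Prime)
  haveI := hR.isNilpotent
  have hEcomm : ∀ a ∈ E, ∀ b ∈ E, a * b = b * a := fun a ha b hb =>
    Cfsg.Agent.Lib.PGroups.elemAb_comm hE ha hb
  -- elements of exponent `p` centralizing `E` lie in `E`
  have homega : ∀ y : R, (∀ e ∈ E, Commute e y) → y ^ p = 1 → y ∈ E := by
    intro y hy hyp
    have hB := hEmax (Subgroup.closure ((E : Set R) ∪ {y}))
      (Cfsg.Agent.Lib.PGroups.elemAb_closure (by
        rintro a (ha | rfl) b (hb | rfl)
        · exact hEcomm a ha b hb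
        · exact (hy a ha).eq
        · exact (hy b hb).eq.symm
        · rfl) (by
        rintro a (ha | rfl)
        · exact hE.2 a ha
        · exact hyp)) (fun a ha => Subgroup.subset_closure (Or.inl ha))
    exact hB ▸ Subgroup.subset_closure (Or.inr rfl)
  obtain ⟨A, hA1, hA2, hA3⟩ : ∃ A : Subgroup R, IsMulCommutative A ∧ (∀ a ∈ A, a ^ p = 1) ∧
      p ^ 2 < Nat.card A := by
    simp only [Cfsg.PRankLE] at hr
    push Not at hr
    exact hr
  have hA : Cfsg.IsElementaryAbelian p A := ⟨hA1, hA2⟩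
  have hAE : ¬ (∀ e ∈ E, ∀ a ∈ A, Commute e a) := fun h => by
    have := Subgroup.card_le_of_le (show A ≤ E from fun a ha => homega a (fun e he => h e he a ha) (hA2 a ha))
    exact absurd (this.trans hE2.le) (not_le.mpr hA3)
  set Z1 := Subgroup.closure {x : R | x ∈ Subgroup.center R ∧ x ^ p = 1} with hZ1
  have hZ1c : Z1 ≤ Subgroup.center R := (Subgroup.closure_le _).mpr fun x hx => hx.1
  have hZ1E : Z1 ≤ E := (Subgroup.closure_le _).mpr fun x hx =>
    homega x (fun e _ => Subgroup.mem_center_iff.mp hx.1 e) hx.2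
  obtain ⟨x, hxE, hxZ⟩ : ∃ x ∈ E, x ∉ Z1 := by
    by_contra hno
    push Not at hno
    exact hAE fun e he a _ => (Subgroup.mem_center_iff.mp (hZ1c (hno e he)) a).symm
  have hxc : x ∉ Subgroup.center R := fun h => hxZ (Subgroup.subset_closure ⟨h, hE.2 x hxE⟩)
  have hnc : ¬ IsCyclic R := by
    intro hc
    haveI : IsCyclic A := inferInstance
    have h1 := Nat.le_of_dvd hprime.pos (Cfsg.Agent.Lib.PGroups.elemAb_card_dvd_of_isCyclic hA)
    exact absurd (h1.trans (Nat.le_self_pow two_ne_zero p)) (not_le.mpr hA3)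
  obtain ⟨W, hWn, hWe, hWc⟩ := Cfsg.Agent.Lib.PGroups.exists_normal_elemAb_sq hp hR hnc
  haveI := hWn
  have hWne : W ≠ ⊥ := by
    rintro rfl
    rw [Subgroup.card_bot] at hWc
    exact absurd hWc (Nat.one_lt_pow two_ne_zero hprime.one_lt).ne
  obtain ⟨Z, hZW, hZc, -, hZcard⟩ := Cfsg.Agent.Lib.PGroups.exists_central_card_prime hR W hWne
  have hZZ1 : Z ≤ Z1 := fun z hz => Subgroup.subset_closure ⟨hZc hz, hWe.2 z (hZW hz)⟩
  have hZ1card : Nat.card Z1 = p := by
    refine le_antisymm ?_ (hZcard ▸ Subgroup.card_le_of_le hZZ1)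
    have := Cfsg.Agent.Lib.PGroups.card_mul_le_card_of_mem (A := Z1) (B := E) hZ1E (hR.to_subgroup E) hxE hxZ
    rw [hE2, pow_two] at this
    exact Nat.le_of_mul_le_mul_right this hprime.pos
  have hgen : ∀ y : R, Commute x y → ∀ e ∈ E, Commute e y := by
    intro y hy e he
    have hEeq : Subgroup.closure ((Z1 : Set R) ∪ {x}) = E := by
      refine Subgroup.eq_of_le_of_card_ge ((Subgroup.closure_le _).mpr ?_) ?_
      · rintro b (hb | rfl)
        · exact hZ1E hb
        · exact hxE
      · have := Cfsg.Agent.Lib.PGroups.card_mul_le_card_of_mem (A := Z1)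
          (B := Subgroup.closure ((Z1 : Set R) ∪ {x})) (fun b hb => Subgroup.subset_closure (Or.inl hb))
          (hR.to_subgroup _) (Subgroup.subset_closure (Or.inr rfl)) hxZ
        rw [hZ1card, ← pow_two] at this
        exact hE2.le.trans this
    refine Subgroup.mem_centralizer_singleton_iff.mp
      ((?_ : E ≤ Subgroup.centralizer ({y} : Set R)) he)
    rw [← hEeq, Subgroup.closure_le]
    rintro b (hb | rfl)
    · exact Subgroup.mem_centralizer_singleton_iff.mpr (Subgroup.mem_center_iff.mp (hZ1c hb) y).symm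
    · exact Subgroup.mem_centralizer_singleton_iff.mpr hy.eq
  -- the second central series
  set S := {y : R | y ∈ Subgroup.upperCentralSeries R 2 ∧ y ^ p = 1} with hS
  have hcentral : ∀ u ∈ Subgroup.upperCentralSeries R 2, ∀ g : R, ⁅u, g⁆ ∈ Subgroup.center R := by
    intro u hu g
    rw [← Subgroup.upperCentralSeries_one]
    exact Subgroup.mem_upperCentralSeries_succ_iff.mp hu g
  have hexp : ∀ u ∈ Subgroup.closure S, u ∈ Subgroup.upperCentralSeries R 2 ∧ u ^ p = 1 := by
    intro u hu
    induction hu using Subgroup.closure_induction with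
    | mem u hu => exact hu
    | one => exact ⟨one_mem _, one_pow p⟩
    | inv u _ ih => exact ⟨inv_mem ih.1, by rw [inv_pow, ih.2, inv_one]⟩
    | mul u v _ _ ihu ihv =>
      refine ⟨mul_mem ihu.1 ihv.1, ?_⟩
      have hc := hcentral v ihv.1 u
      have hcv : ⁅v, u⁆ ^ p = 1 := by
        rw [← Cfsg.Agent.Lib.PGroups.commutatorElement_pow_left_of_central v u
          (Subgroup.mem_center_iff.mp hc v) p, ihv.2]
        simp
      obtain ⟨k, hk⟩ : p ∣ p.choose 2 := hprime.dvd_choose_self two_ne_zero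
        (lt_of_le_of_ne hprime.two_le (Ne.symm hp))
      rw [Cfsg.Agent.Lib.PGroups.mul_pow_of_central_commutator u v
        (Subgroup.mem_center_iff.mp hc u) (Subgroup.mem_center_iff.mp hc v), ihu.2, ihv.2, hk,
        pow_mul, hcv, one_pow, one_mul, one_mul]
  set U := Subgroup.closure S with hU
  have hUZ1 : ∀ u ∈ U, ∀ g : R, ⁅u, g⁆ ∈ Z1 := by
    intro u hu g
    obtain ⟨h1, h2⟩ := hexp u hu
    refine Subgroup.subset_closure ⟨hcentral u h1 g, ?_⟩
    rw [← Cfsg.Agent.Lib.PGroups.commutatorElement_pow_left_of_central u g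
      (Subgroup.mem_center_iff.mp (hcentral u h1 g) u) p, h2]
    simp
  have hEU : ¬ E ≤ U := by
    intro hle
    have h4 : Nat.card A ≤ Nat.card ↥(A ⊓ Subgroup.centralizer ({x} : Set R)) * Nat.card Z1 :=
      Cfsg.Agent.Lib.OddLocal.NarrowAut.card_le_centralizer_mul fun a _ => by
        rw [← commutatorElement_inv]; exact inv_mem (hUZ1 x (hle hxE) a)
    have hle' : A ⊓ Subgroup.centralizer ({x} : Set R) ≤ E := fun a ha =>
      homega a (hgen a (Subgroup.mem_centralizer_singleton_iff.mp ha.2).symm) (hA2 a ha.1)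
    obtain ⟨n, hn⟩ := Cfsg.Agent.Lib.PGroups.elemAb_card_eq_pow hA
    have h3 : 3 ≤ n := (Nat.pow_lt_pow_iff_right hprime.one_lt).mp (hn ▸ hA3)
    have h5 : p ^ 2 ≤ Nat.card ↥(A ⊓ Subgroup.centralizer ({x} : Set R)) := by
      have h6 : p ^ 3 ≤ Nat.card ↥(A ⊓ Subgroup.centralizer ({x} : Set R)) * p :=
        le_trans (hn ▸ Nat.pow_le_pow_right hprime.pos h3) (hZ1card ▸ h4)
      rw [pow_succ] at h6
      exact Nat.le_of_mul_le_mul_right h6 hprime.pos
    have h7 : A ⊓ Subgroup.centralizer ({x} : Set R) = E :=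
      Subgroup.eq_of_le_of_card_ge hle' (hE2 ▸ h5)
    exact hAE fun e he a ha =>
      (Cfsg.Agent.Lib.PGroups.elemAb_comm hA (h7 ▸ he : e ∈ A ⊓ _).1 ha : _)
  have hUE : ∀ u ∈ U, Commute x u → u ∈ E := fun u hu h => homega u (hgen u h) (hexp u hu).2
  have hWU : W ≤ U := by
    intro w hw
    refine Subgroup.subset_closure ⟨Subgroup.mem_upperCentralSeries_succ_iff.mpr fun g => ?_, hWe.2 w hw⟩
    rw [Subgroup.upperCentralSeries_one]
    have hne : ¬ W ≤ ⁅W, (⊤ : Subgroup R)⁆ := fun h =>
      hWne (Cfsg.Agent.Lib.OddLocal.NarrowAut.eq_bot_of_le_commutator le_top h)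
    obtain ⟨w', hw', hw'1⟩ := SetLike.not_le_iff_exists.mp hne
    have h1 := Cfsg.Agent.Lib.PGroups.card_mul_le_card_of_mem (Subgroup.commutator_le_left W ⊤)
      (hR.to_subgroup W) hw' hw'1
    rw [hWc, pow_two] at h1
    have hmem : ⁅w, g⁆ ∈ ⁅W, (⊤ : Subgroup R)⁆ :=
      Subgroup.commutator_mem_commutator hw (Subgroup.mem_top g)
    by_cases hb : ⁅W, (⊤ : Subgroup R)⁆ = ⊥
    · rw [hb, Subgroup.mem_bot] at hmem
      rw [hmem]; exact one_mem _
    · obtain ⟨Z', hZ'le, hZ'c, -, hZ'card⟩ :=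
        Cfsg.Agent.Lib.PGroups.exists_central_card_prime hR ⁅W, (⊤ : Subgroup R)⁆ hb
      have heq : Z' = ⁅W, (⊤ : Subgroup R)⁆ := Subgroup.eq_of_le_of_card_ge hZ'le
        (hZ'card ▸ Nat.le_of_mul_le_mul_right h1 hprime.pos)
      exact hZ'c (heq ▸ hmem)
  have hUle : Nat.card U ≤ p ^ 2 := by
    have h1 := Cfsg.Agent.Lib.OddLocal.NarrowAut.card_le_centralizer_mul (V := U) (W := Z1) (r := x)
      fun u hu => hUZ1 u hu x
    have hle : U ⊓ Subgroup.centralizer ({x} : Set R) ≤ U ⊓ E := fun u hu =>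
      ⟨hu.1, hUE u hu.1 (Subgroup.mem_centralizer_singleton_iff.mp hu.2).symm⟩
    have h2 : Nat.card ↥(U ⊓ E) ≤ p := by
      obtain ⟨e, he, heU⟩ := SetLike.not_le_iff_exists.mp hEU
      have := Cfsg.Agent.Lib.PGroups.card_mul_le_card_of_mem (A := U ⊓ E) (B := E) inf_le_right
        (hR.to_subgroup E) he (fun h => heU h.1)
      rw [hE2, pow_two] at this
      exact Nat.le_of_mul_le_mul_right this hprime.pos
    calc Nat.card U ≤ _ := h1
      _ ≤ p * p := Nat.mul_le_mul ((Subgroup.card_le_of_le hle).trans h2) hZ1card.le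
      _ = p ^ 2 := (pow_two p).symm
  have hUW : W = U := Subgroup.eq_of_le_of_card_ge hWU (hWc ▸ hUle)
  have hnot : ¬ E ≤ Subgroup.centralizer (U : Set R) := by
    intro h
    have hle : U ≤ E := fun u hu => hUE u hu (Subgroup.mem_centralizer_iff.mp (h hxE) u hu).symm
    exact hEU (Subgroup.eq_of_le_of_card_ge hle (by rw [← hUW, hWc, hE2])).ge
  haveI hUc : U.Characteristic := by
    rw [Subgroup.characteristic_iff_map_le]
    intro φ
    rw [hU, MonoidHom.map_closure]
    refine Subgroup.closure_mono ?_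
    rintro _ ⟨y, ⟨hy1, hy2⟩, rfl⟩
    refine ⟨Subgroup.characteristic_iff_map_le.mp inferInstance φ ⟨y, hy1, rfl⟩, ?_⟩
    rw [← map_pow, hy2, map_one]
  refine ⟨hnot, hZ1card, ⟨hUW ▸ hWe, hUW ▸ hWc⟩, inferInstance, ?_⟩
  obtain ⟨w, hwU, hwZ⟩ : ∃ w ∈ U, w ∉ Z1 := by
    by_contra hno
    push Not at hno
    have := Subgroup.card_le_of_le (show U ≤ Z1 from hno)
    rw [← hUW, hWc, hZ1card] at this
    exact absurd this (not_le.mpr (by nlinarith [hprime.two_le]))
  have hCw : Subgroup.centralizer (U : Set R) = Subgroup.centralizer ({w} : Set R) := by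
    refine le_antisymm (Subgroup.centralizer_le (Set.singleton_subset_iff.mpr hwU)) fun y hy => ?_
    refine Subgroup.mem_centralizer_iff.mpr fun u hu => ?_
    have hEeq : Subgroup.closure ((Z1 : Set R) ∪ {w}) = U := by
      refine Subgroup.eq_of_le_of_card_ge ((Subgroup.closure_le _).mpr ?_) ?_
      · rintro b (hb | rfl)
        · exact hWU.trans le_rfl |> fun _ => Subgroup.closure_mono (by
            rintro z ⟨hz1, hz2⟩
            exact ⟨Subgroup.mem_upperCentralSeries_succ_iff.mpr fun g => by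
              rw [commutatorElement_eq_one_iff_mul_comm.mpr (Subgroup.mem_center_iff.mp hz1 g).symm]
              exact one_mem _, hz2⟩) hb
        · exact hwU
      · have := Cfsg.Agent.Lib.PGroups.card_mul_le_card_of_mem (A := Z1)
          (B := Subgroup.closure ((Z1 : Set R) ∪ {w})) (fun b hb => Subgroup.subset_closure (Or.inl hb))
          (hR.to_subgroup _) (Subgroup.subset_closure (Or.inr rfl)) hwZ
        rw [hZ1card, ← pow_two] at this
        exact hUle.trans this
    refine (Subgroup.mem_centralizer_singleton_iff.mp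
      ((?_ : U ≤ Subgroup.centralizer ({y} : Set R)) hu))
    rw [← hEeq, Subgroup.closure_le]
    rintro b (hb | rfl)
    · exact Subgroup.mem_centralizer_singleton_iff.mpr (Subgroup.mem_center_iff.mp (hZ1c hb) y).symm
    · exact Subgroup.mem_centralizer_singleton_iff.mpr (Subgroup.mem_centralizer_singleton_iff.mp hy).symm
  set C := Subgroup.centralizer (U : Set R)
  have h1 : Nat.card R ≤ Nat.card C * p := by
    have := Cfsg.Agent.Lib.OddLocal.NarrowAut.card_le_centralizer_mul (V := (⊤ : Subgroup R)) (W := Z1) (r := w)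
      fun g _ => by rw [← commutatorElement_inv]; exact inv_mem (hUZ1 w hwU g)
    rwa [Subgroup.card_top, top_inf_eq, ← hCw, hZ1card] at this
  rw [← C.index_mul_card, mul_comm C.index] at h1
  have hle : C.index ≤ p := Nat.le_of_mul_le_mul_left h1 Nat.card_pos
  obtain ⟨k, hk⟩ := hR.index C
  have hk0 : k ≠ 0 := by
    rintro rfl
    rw [pow_zero] at hk
    exact hnot (Subgroup.index_eq_one.mp hk ▸ le_top)
  refine le_antisymm hle ?_
  rw [hk]; exact Nat.le_self_pow hk0 p

end Cfsg.Agent.S1453
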