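import Cfsg.Statements.S1454
import Cfsg.Agent.Lib.OddLocal.NarrowBig
-- import your own Cfsg.Agent.* helpers here

set_option autoImplicit false
open Cfsg

namespace Cfsg.Agent.S1454

/-- Let G be a finite group, p an odd prime, R a narrow p-subgroup and A a solvable subgroup of odd order normalizing R with A ∩ C_G(R) = 1. Then [A, A] ≤ O_p(A) and the index of O_p(A) in A is coprime to p; if R has an elementary abelian subgroup of order p ^ 3 then the order of every element of A of order coprime to p divides p − 1; and if the order of A is a prime not dividing p(p − 1), then 2·#A divides p + 1, and if in addition [R, A] = R and R is non-abelian then #R = p ^ 3. -/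
theorem result {G : Type*} [Group G] [Finite G] (p : ℕ) [Fact p.Prime] (hp : p ≠ 2) (R A : Subgroup G) (hR : IsPGroup p R) (hRn : Cfsg.IsNarrow p R)
    (hA : (A ≤ Subgroup.normalizer (R : Set G))) (hAs : Group.IsSolvable A) (hAodd : Odd (Nat.card A)) (hfaith : A ⊓ Subgroup.centralizer (R : Set G) = ⊥) :
    (commutator ↥A ≤ Cfsg.pCore p ↥A ∧ ((Cfsg.pCore p ↥A).index).Coprime p) ∧
      (¬ Cfsg.PRankLE p 2 R → ∀ a ∈ A, (orderOf a).Coprime p → orderOf a ∣ p - 1) ∧
      ((Nat.card A).Prime → ¬ Nat.card A ∣ p * (p - 1) →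
        2 * Nat.card A ∣ p + 1 ∧ (⁅R, A⁆ = R → ¬ IsMulCommutative R → Nat.card R = p ^ 3)) := by
  haveI := hAs
  have hprime := (Fact.out : p.Prime)
  have hfix : ∀ a : G, a ∈ A → a ∈ Subgroup.centralizer (R : Set G) → a = 1 := fun a ha hc => by
    have : a ∈ A ⊓ Subgroup.centralizer (R : Set G) := ⟨ha, hc⟩
    rwa [hfaith, Subgroup.mem_bot] at this
  have hbig : ¬ Cfsg.PRankLE p 2 R → ∀ a ∈ A, (orderOf a).Coprime p → orderOf a ∣ p - 1 :=
    fun hr a ha hap => orderOf_dvd_of_pow_eq_one (hfix _ (pow_mem ha _)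
      (Cfsg.Agent.Lib.OddLocal.NarrowBig.pow_sub_one_centralizes hp hR hRn hr (hA ha) hap))
  refine ⟨?_, hbig, fun hq hqd => ?_⟩
  · have hp' : IsPGroup p (commutator ↥A) := by
      refine IsPGroup.of_card (Nat.eq_prime_pow_of_unique_prime_dvd Nat.card_pos.ne' fun {q} hq hqd => ?_)
      by_contra hqp
      haveI : Fact q.Prime := ⟨hq⟩
      obtain ⟨c, hc⟩ := exists_prime_orderOf_dvd_card' (G := ↥(commutator ↥A)) q hqd
      have hmem : ((c : A) : G) ∈ ⁅A, A⁆ := by
        rw [← Subgroup.map_subtype_commutator]; exact Subgroup.mem_map_of_mem A.subtype c.2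
      have ho : orderOf ((c : A) : G) = q := by rw [Subgroup.orderOf_coe, Subgroup.orderOf_coe, hc]
      have h1 := hfix _ (c : A).2 (Cfsg.Agent.Lib.OddLocal.NarrowAut.derived_centralizes hp hR hRn hA hAodd hmem
        (by rw [ho]; exact (Nat.coprime_primes hq hprime).mpr hqp))
      rw [h1, orderOf_one] at ho
      exact hq.ne_one ho.symm
    have hle : commutator ↥A ≤ Cfsg.pCore p ↥A := Cfsg.Agent.Lib.Cores.le_pCore hp'
    refine ⟨hle, ?_⟩
    let P : Sylow p ↥A := default
    have hPc : Cfsg.pCore p ↥A ≤ P := Cfsg.Agent.Lib.Cores.pCore_le_sylow P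
    haveI : (P : Subgroup ↥A).Normal := Subgroup.Normal.of_commutator_le _ (hle.trans hPc)
    rw [le_antisymm hPc (Cfsg.Agent.Lib.Cores.le_pCore P.isPGroup')]
    exact ((hprime.coprime_iff_not_dvd).mpr P.not_dvd_index).symm
  · haveI : Fact (Nat.card A).Prime := ⟨hq⟩
    obtain ⟨a, ha⟩ := exists_prime_orderOf_dvd_card' (G := ↥A) (Nat.card A) dvd_rfl
    have ho : orderOf (a : G) = Nat.card A := by rw [Subgroup.orderOf_coe, ha]
    have hqp : Nat.card A ≠ p := fun h => hqd (h ▸ dvd_mul_right _ _)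
    have hnc : (a : G) ∉ Subgroup.centralizer (R : Set G) := fun hc => hq.ne_one (by
      rw [← ho, hfix _ a.2 hc, orderOf_one])
    have hd := Cfsg.Agent.Lib.OddLocal.NarrowAut.prime_dvd_of_not_centralizes hp hR hRn (hA a.2)
      (ho ▸ hq) (ho ▸ hqp) hnc
    rw [ho] at hd
    have hd1 : Nat.card A ∣ p + 1 := (hq.dvd_mul.mp hd).resolve_left
      fun h => hqd (dvd_mul_of_dvd_right h p)
    refine ⟨Nat.Coprime.mul_dvd_of_dvd_of_dvd (Nat.coprime_two_left.mpr hAodd)
      (hprime.odd_of_ne_two hp).add_one.two_dvd hd1, fun hRA hR' => ?_⟩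
    have hr : Cfsg.PRankLE p 2 R := by
      by_contra hr
      have := hbig hr a a.2 (ho ▸ (Nat.coprime_primes hq hprime).mpr hqp)
      rw [ho] at this
      exact hqd (dvd_mul_of_dvd_right this p)
    exact Cfsg.Agent.Lib.OddLocal.NarrowBig.card_eq_cube hp hR hr hA hq hqd hAodd hRA hR'

end Cfsg.Agent.S1454
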