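import Cfsg.Statements.S1456
import Cfsg.Agent.Lib.OddLocal.DerivedFitting
import Cfsg.Agent.Lib.OddLocal.NarrowRank
-- import your own Cfsg.Agent.* helpers here

set_option autoImplicit false
open Cfsg

namespace Cfsg.Agent.S1456

/-- Let G be a solvable group of odd order, p a prime, and E an elementary abelian p-subgroup of the Fitting subgroup F(G) such that F(G) ∩ C_G(E) has no elementary abelian subgroup of order q ^ 3 for any prime q. Then the derived subgroup of G is contained in F(G). -/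
theorem result {G : Type*} [Group G] [Finite G] [Group.IsSolvable G] (hodd : Odd (Nat.card G)) (p : ℕ) [Fact p.Prime] (E : Subgroup G) (hE : E ≤ Cfsg.fittingSubgroup G) (hEe : Cfsg.IsElementaryAbelian p E)
    (hr : Cfsg.RankLE 2 ↥(Cfsg.fittingSubgroup G ⊓ Subgroup.centralizer (E : Set G))) :
    commutator G ≤ Cfsg.fittingSubgroup G := by
  refine Cfsg.Agent.Lib.OddLocal.DerivedFitting.commutator_le_fitting hodd fun q hq hq2 => ?_
  haveI : Fact q.Prime := ⟨hq⟩
  have hEp : IsPGroup p E := fun x => ⟨1, Subtype.ext (by simpa using hEe.2 x x.2)⟩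
  have hEcore : E ≤ Cfsg.pCore p G := fun e he => by
    refine Cfsg.Agent.Lib.OddLocal.DerivedFitting.mem_pCore_of_mem_fitting (hE he) ?_
    obtain ⟨k, hk⟩ := IsPGroup.iff_orderOf.mp hEp ⟨e, he⟩
    exact ⟨k, by rw [← hk, ← Subgroup.orderOf_coe]⟩
  have hrank : ∀ {K : Subgroup G}, K ≤ Cfsg.fittingSubgroup G ⊓ Subgroup.centralizer (E : Set G) →
      Cfsg.PRankLE q 2 K := fun hK => Cfsg.Agent.Lib.OddOrder.Rank.prankLE_mono hK (hr q hq)
  by_cases hqp : q = p
  · subst hqp
    refine Cfsg.Agent.Lib.OddLocal.NarrowRank.isNarrow_of_centralizer hq2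
      (Cfsg.Agent.Lib.Cores.pCore_isPGroup q) (E := E.subgroupOf (Cfsg.pCore q G))
      (Cfsg.Agent.Lib.PGroups.elemAb_subgroupOf hEe _) ?_
    refine fun A hA1 hA2 => ?_
    rw [← Subgroup.card_map_of_injective (Subgroup.subtype_injective _)]
    refine Cfsg.Agent.Lib.OddOrder.Rank.prankLE_subgroup_iff.mp (Cfsg.Agent.Lib.OddOrder.Rank.prankLE_subgroup_iff.mpr fun D hD hDe => ?_) _ (Subgroup.map_subtype_le _) (Cfsg.Agent.Lib.PGroups.elemAb_map _ ⟨hA1, hA2⟩)
    rw [← Subgroup.card_map_of_injective (Cfsg.pCore q G).subtype_injective]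
    refine Cfsg.Agent.Lib.OddOrder.Rank.prankLE_subgroup_iff.mp (hrank (K := (Subgroup.centralizer ((E.subgroupOf (Cfsg.pCore q G)) : Set ↥(Cfsg.pCore q G))).map (Cfsg.pCore q G).subtype) ?_) _ (Subgroup.map_mono hD) (Cfsg.Agent.Lib.PGroups.elemAb_map _ hDe)
    rintro _ ⟨y, hy, rfl⟩
    refine ⟨Cfsg.Agent.Lib.Cores.pCore_le_fittingSubgroup q y.2, Subgroup.mem_centralizer_iff.mpr fun e he => ?_⟩
    exact congrArg Subtype.val (Subgroup.mem_centralizer_iff.mp hy ⟨e, hEcore he⟩ he)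
  · refine Or.inl (hrank fun y hy => ⟨Cfsg.Agent.Lib.Cores.pCore_le_fittingSubgroup q hy,
      Subgroup.mem_centralizer_iff.mpr fun e he => ?_⟩)
    have hd : Disjoint (Cfsg.pCore p G) (Cfsg.pCore q G) :=
      IsPGroup.disjoint_of_ne p q (Ne.symm hqp) _ _ (Cfsg.Agent.Lib.Cores.pCore_isPGroup p)
        (Cfsg.Agent.Lib.Cores.pCore_isPGroup q)
    exact (Subgroup.commute_of_normal_of_disjoint _ _ inferInstance inferInstance hd e y (hEcore he) hy).eq

end Cfsg.Agent.S1456
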