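import Cfsg.Statements.S1458
import Cfsg.Agent.Lib.ZJ.Elementary
import Cfsg.Agent.Lib.OddLocal.PStable
import Cfsg.Agent.Lib.PSolvable.HallHigman

set_option autoImplicit false
open Cfsg
open scoped commutatorElement

namespace Cfsg.Agent.S1458

/-- Let G be a solvable group of odd order, p a prime and S a Sylow p-subgroup of G. Then the subgroup generated by the centre of the Thompson subgroup of S and O_{p'}(G) is normal in G. -/
theorem result {G : Type*} [Group G] [Finite G] [Group.IsSolvable G] (hodd : Odd (Nat.card G)) (p : ℕ) [Fact p.Prime] (S : Sylow p G) :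
    (Cfsg.centerThompsonOf p (S : Subgroup G) ⊔ Cfsg.pPrimeCore p G).Normal := by
  have hcp : (Nat.card (Cfsg.pPrimeCore p G)).Coprime p := Lib.Cores.pPrimeCore_coprime p
  by_cases hp2 : p = 2
  · subst hp2
    have htop : Cfsg.pPrimeCore 2 G = ⊤ := top_le_iff.mp
      (Lib.Cores.le_pPrimeCore (by rw [Subgroup.card_top]; exact Nat.coprime_two_right.mpr hodd))
    rw [htop, sup_top_eq]
    infer_instance
  obtain ⟨f, hf⟩ : ∃ f, f = QuotientGroup.mk' (Cfsg.pPrimeCore p G) := ⟨_, rfl⟩
  have hfs : Function.Surjective f := hf ▸ QuotientGroup.mk'_surjective _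
  haveI : Group.IsSolvable (G ⧸ Cfsg.pPrimeCore p G) :=
    Group.isSolvable_of_surjective (QuotientGroup.mk'_surjective _)
  have hodd' : Odd (Nat.card (G ⧸ Cfsg.pPrimeCore p G)) :=
    hodd.of_dvd_nat (Subgroup.card_quotient_dvd_card _)
  have hinj : Function.Injective (f.comp (S : Subgroup G).subtype) := by
    rw [injective_iff_map_eq_one]
    intro s hs
    rw [MonoidHom.comp_apply, hf, QuotientGroup.mk'_apply, QuotientGroup.eq_one_iff] at hs
    obtain ⟨j, hj⟩ := S.isPGroup'.exists_card_eq
    refine Subtype.ext (orderOf_eq_one_iff.mp (Nat.eq_one_of_dvd_coprimes (hcp.pow_right j)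
      (Subgroup.orderOf_dvd_natCard _ hs) (hj ▸ Subgroup.orderOf_dvd_natCard _ s.2)))
  have hnorm := Lib.ZJ.centerThompsonOf_normal hp2
    (Lib.PSolvable.centralizer_pCore_le Lib.PSolvable.isPSolvable_of_isSolvable
      (Lib.Cores.pPrimeCore_quotient_pPrimeCore p))
    (fun P _ hP a ha => Lib.OddLocal.PStable.mem_pCore_of_quad hodd' hp2 P hP (by
      intro u hu
      have hz := Subgroup.mem_zpowers a
      have h1 : ⁅u, a⁆ ∈ ⁅P, Subgroup.zpowers a⁆ := Subgroup.commutator_mem_commutator hu hz
      have h2 := Subgroup.commutator_mem_commutator h1 hz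
      rw [ha, Subgroup.mem_bot, commutatorElement_eq_one_iff_mul_comm] at h2
      rw [show a * u * a⁻¹ * u⁻¹ = ⁅u, a⁆⁻¹ by rw [commutatorElement_def]; group]
      exact ((show Commute ⁅u, a⁆ a from h2).inv_left).eq.symm))
    (S.mapSurjective hfs)
  have hmap : (Cfsg.centerThompsonOf p (S : Subgroup G)).map f =
      Cfsg.centerThompsonOf p ((S.mapSurjective hfs : Sylow p _) : Subgroup _) := by
    obtain ⟨T, hT⟩ : ∃ T : Subgroup ↥(S : Subgroup G), T = ⊤ := ⟨_, rfl⟩
    have h1 := Lib.PGroups.map_centerThompsonOf (p := p) (S : Subgroup G).subtype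
      (S : Subgroup G).subtype_injective ⊤
    rw [← MonoidHom.range_eq_map, Subgroup.range_subtype] at h1
    rw [← h1, Subgroup.map_map, Lib.PGroups.map_centerThompsonOf (p := p) _ hinj ⊤,
      ← Subgroup.map_map, ← MonoidHom.range_eq_map, Subgroup.range_subtype]
    rfl
  have h2 : Cfsg.centerThompsonOf p (S : Subgroup G) ⊔ Cfsg.pPrimeCore p G =
      ((Cfsg.centerThompsonOf p (S : Subgroup G)).map f).comap f := by
    rw [Subgroup.comap_map_eq, hf, QuotientGroup.ker_mk']
  rw [h2, hmap]
  exact Subgroup.Normal.comap hnorm f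


end Cfsg.Agent.S1458
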