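import Cfsg.Statements.S1459
import Cfsg.Agent.Lib.Hall.Basic
import Cfsg.Agent.Lib.Coprime.Commutator
import Cfsg.Agent.Lib.Cores.Basic
import Cfsg.Agent.Lib.PGroups.Frattini

set_option autoImplicit false
open Cfsg
open scoped Pointwise commutatorElement

namespace Cfsg.Agent.S1459

/-- Let G be a finite solvable group. (a) If H is a normal subgroup of order coprime to its index, K is a complement to H, and H ≤ G', then H = [H, K] and H ∩ C_G(K) ≤ [H, H]. (b) If G' is nilpotent and has prime index in G, then the order of G' is coprime to its index and G' = [G, K] (the subgroup generated by commutators of elements of G with elements of K) for every complement K of G'. -/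
theorem result {G : Type*} [Group G] [Finite G] [Group.IsSolvable G] :
    (∀ (H K : Subgroup G), H.Normal → (Nat.card H).Coprime H.index → Subgroup.IsComplement' H K → H ≤ commutator G →
        H = ⁅H, K⁆ ∧ H ⊓ Subgroup.centralizer (K : Set G) ≤ ⁅H, H⁆) ∧
      (Group.IsNilpotent ↥(commutator G) → (commutator G).index.Prime →
        (Nat.card ↥(commutator G)).Coprime (commutator G).index ∧
        ∀ K : Subgroup G, Subgroup.IsComplement' (commutator G) K → commutator G = ⁅(⊤ : Subgroup G), K⁆) := by
  have key : ∀ (H K : Subgroup G), H.Normal → (Nat.card H).Coprime H.index →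
      Subgroup.IsComplement' H K → H ≤ commutator G →
      H = ⁅H, K⁆ ∧ H ⊓ Subgroup.centralizer (K : Set G) ≤ ⁅H, H⁆ := by
    intro H K hHn hcop hc hle
    haveI := hHn
    have htop : H ⊔ K = ⊤ := hc.sup_eq_top
    have hd : H ⊓ K = ⊥ := disjoint_iff.1 hc.disjoint
    haveI : (⁅H, K⁆ : Subgroup G).Normal := by
      rw [← Subgroup.normalizer_eq_top_iff, ← top_le_iff, ← htop]
      exact sup_le (Cfsg.Agent.Lib.Coprime.left_le_normalizer_commutator H K) (Cfsg.Agent.Lib.Coprime.right_le_normalizer_commutator H K)
    set L := ⁅H, K⁆ with hL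
    have hLH : L ≤ H := Cfsg.Agent.Lib.Coprime.commutator_le_of_le_normalizer Subgroup.le_normalizer_of_normal
    haveI : (L ⊔ ⁅H, H⁆).Normal := Subgroup.sup_normal _ _
    set M := L ⊔ ⁅H, H⁆ with hM
    have hMH : M ≤ H := sup_le hLH (Subgroup.commutator_le_self H)
    set f := QuotientGroup.mk' M with hf
    have hsurj : Function.Surjective f := QuotientGroup.mk'_surjective M
    have hG' : commutator G ≤ M ⊔ ⁅K, K⁆ := by
      have hftop : H.map f ⊔ K.map f = ⊤ := by
        rw [← Subgroup.map_sup, htop, Subgroup.map_top_of_surjective f hsurj]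
      have hker : ∀ X : Subgroup G, X ≤ M → X.map f = ⊥ := fun X hX => by
        rw [Subgroup.map_eq_bot_iff, hf, QuotientGroup.ker_mk']; exact hX
      haveI : (H.map f).Normal := hHn.map f hsurj
      have hcent : H.map f ≤ Subgroup.center (G ⧸ M) := by
        intro x hx
        rw [Subgroup.mem_center_iff]
        intro y
        obtain ⟨a, ha, b, hb, rfl⟩ := Subgroup.mem_sup_of_normal_left.1
          (show y ∈ H.map f ⊔ K.map f by rw [hftop]; exact Subgroup.mem_top y)
        have e1 : ⁅H.map f, H.map f⁆ = ⊥ := by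
          rw [← Subgroup.map_commutator]; exact hker _ le_sup_right
        have e2 : ⁅H.map f, K.map f⁆ = ⊥ := by
          rw [← Subgroup.map_commutator]; exact hker _ le_sup_left
        have c1 := (Subgroup.mem_centralizer_iff.1 (Subgroup.commutator_eq_bot_iff_le_centralizer.1 e1 hx)) a ha
        have c2 := (Subgroup.mem_centralizer_iff.1 (Subgroup.commutator_eq_bot_iff_le_centralizer.1 e2 hx)) b hb
        rw [mul_assoc, c2, ← mul_assoc, c1, mul_assoc]
      have hh : (commutator G).map f ≤ ⁅K, K⁆.map f := by
        rw [commutator_def, Subgroup.map_commutator, Subgroup.map_top_of_surjective f hsurj,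
          Subgroup.map_commutator, Subgroup.commutator_le]
        intro x _ y _
        obtain ⟨a, ha, b, hb, rfl⟩ := Subgroup.mem_sup_of_normal_left.1
          (show x ∈ H.map f ⊔ K.map f by rw [hftop]; exact Subgroup.mem_top x)
        obtain ⟨a', ha', b', hb', rfl⟩ := Subgroup.mem_sup_of_normal_left.1
          (show y ∈ H.map f ⊔ K.map f by rw [hftop]; exact Subgroup.mem_top y)
        have ca : ∀ z, Commute z a := fun z => Subgroup.mem_center_iff.1 (hcent ha) z
        have ca' : ∀ z, Commute z a' := fun z => Subgroup.mem_center_iff.1 (hcent ha') z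
        have e : ⁅a * b, a' * b'⁆ = ⁅b, b'⁆ := by
          have h1 : (a * b) * (a' * b') = (a * a') * (b * b') := by
            rw [mul_assoc, ← mul_assoc b, (ca' b).eq, mul_assoc, ← mul_assoc]
          have h2 : (a' * b') * (a * b) = (a * a') * (b' * b) := by
            rw [mul_assoc, ← mul_assoc b', (ca b').eq, mul_assoc, ← mul_assoc, (ca a').eq]
          have e1 : ∀ u v : G ⧸ M, ⁅u, v⁆ = (u * v) * (v * u)⁻¹ := fun u v => by
            rw [commutatorElement_def, mul_inv_rev, ← mul_assoc]
          have hcc : ∀ z, (a * a') * z * (a * a')⁻¹ = z := fun z => by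
            rw [← ((ca z).mul_right (ca' z)).eq, mul_inv_cancel_right]
          rw [e1, e1, h1, h2, mul_inv_rev]
          calc (a * a') * (b * b') * ((b' * b)⁻¹ * (a * a')⁻¹)
              = (a * a') * ((b * b') * (b' * b)⁻¹) * (a * a')⁻¹ := by simp only [mul_assoc]
            _ = _ := hcc _
        rw [e]
        exact Subgroup.commutator_mem_commutator hb hb'
      rw [Subgroup.map_le_map_iff, hf, QuotientGroup.ker_mk', sup_comm] at hh
      exact hh
    have hHM : H ≤ M := by
      intro h hh
      obtain ⟨m, hm, c, hc, rfl⟩ := Subgroup.mem_sup_of_normal_left.1 (hG' (hle hh))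
      have h1 : c ∈ H ⊓ K := ⟨by
        have := H.mul_mem (H.inv_mem (hMH hm)) hh
        rwa [inv_mul_cancel_left] at this, Subgroup.commutator_le_self K hc⟩
      rw [hd, Subgroup.mem_bot] at h1
      rwa [h1, mul_one]
    have hHL : H = L := by
      refine le_antisymm ?_ hLH
      set g := QuotientGroup.mk' L with hg
      have hperf : H.map g ≤ ⁅H.map g, H.map g⁆ := by
        refine (Subgroup.map_mono hHM).trans ?_
        rw [Subgroup.map_sup, hg, QuotientGroup.map_mk'_self, bot_sup_eq, ← hg, Subgroup.map_commutator]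
      by_contra hne
      haveI : Group.IsSolvable (G ⧸ L) :=
        Group.isSolvable_of_surjective (QuotientGroup.mk'_surjective L)
      refine (Group.IsSolvable.commutator_lt_of_ne_bot (H := H.map g) ?_).not_ge hperf
      rw [ne_eq, Subgroup.map_eq_bot_iff, hg, QuotientGroup.ker_mk']
      exact hne
    refine ⟨hHL, ?_⟩
    set g := QuotientGroup.mk' ⁅H, H⁆ with hg
    have hgs : Function.Surjective g := QuotientGroup.mk'_surjective _
    haveI : (H.map g).Normal := hHn.map g hgs
    haveI : IsMulCommutative (H.map g) := by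
      rw [← Subgroup.le_centralizer_iff_isMulCommutative, ← Subgroup.commutator_eq_bot_iff_le_centralizer,
        ← Subgroup.map_commutator, hg, QuotientGroup.map_mk'_self]
    have h0 := Cfsg.Agent.Lib.Coprime.centralizer_inf_commutator_eq_bot (A := K.map g) (V := H.map g)
      Subgroup.le_normalizer_of_normal
      ((Nat.Coprime.coprime_dvd_left (Subgroup.card_map_dvd K g)
        (show (Nat.card K).Coprime (Nat.card H) by rw [← hc.symm.index_eq_card]; exact hcop.symm)
        ).coprime_dvd_right (Subgroup.card_map_dvd H g))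
    rw [← Subgroup.map_commutator, ← hL, ← hHL, inf_eq_left.2 inf_le_left] at h0
    rintro x ⟨hxH, hxK⟩
    have hx : g x ∈ H.map g ⊓ Subgroup.centralizer ((K.map g : Subgroup (G ⧸ ⁅H, H⁆)) : Set (G ⧸ ⁅H, H⁆)) := by
      refine ⟨Subgroup.mem_map_of_mem g hxH, ?_⟩
      refine Subgroup.mem_centralizer_iff.2 ?_
      rintro _ ⟨k, hk, rfl⟩
      rw [← map_mul, (Subgroup.mem_centralizer_iff.1 hxK) k hk, map_mul]
    rw [h0, Subgroup.mem_bot, hg, QuotientGroup.mk'_apply, QuotientGroup.eq_one_iff] at hx
    exact hx
  refine ⟨key, fun hnil hidx => ?_⟩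
  haveI : Fact (commutator G).index.Prime := ⟨hidx⟩
  set q := (commutator G).index with hq
  have hcop : (Nat.card ↥(commutator G)).Coprime q := by
    by_contra hnc
    have hdvd : q ∣ Nat.card ↥(commutator G) := by
      by_contra hd; exact hnc (hidx.coprime_iff_not_dvd.2 hd).symm
    set R₀ := Cfsg.pPrimeCore q ↥(commutator G) with hR₀
    haveI : (R₀.map (commutator G).subtype).Normal := Cfsg.Agent.Lib.Cores.normal_map_subtype _ R₀
    set R := R₀.map (commutator G).subtype with hR
    have hR₀idx : ∀ r : ℕ, r.Prime → r ∣ R₀.index → r = q := by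
      intro r hr hd
      by_contra hne
      haveI : Fact r.Prime := ⟨hr⟩
      obtain ⟨P⟩ : Nonempty (Sylow r ↥(commutator G)) := inferInstance
      refine P.not_dvd_index (hd.trans (Subgroup.index_dvd_of_le ?_))
      refine Cfsg.Agent.Lib.Cores.le_pPrimeCore_of_not_dvd fun h => hne ?_
      exact (Cfsg.Agent.Lib.Hall.prime_dvd_pgroup hr hidx P.isPGroup' h).symm
    have hQ : IsPGroup q (G ⧸ R) := by
      refine IsPGroup.of_card (n := (R₀.index * q).primeFactorsList.length) ?_
      rw [← Subgroup.index_eq_card, hR, Subgroup.index_map_subtype, ← hq]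
      refine Nat.eq_prime_pow_of_unique_prime_dvd (mul_ne_zero Subgroup.index_ne_zero_of_finite
        hidx.ne_zero) fun {r} hr hd => ?_
      rcases hr.dvd_mul.1 hd with h | h
      · exact hR₀idx r hr h
      · exact (Nat.prime_dvd_prime_iff_eq hr hidx).1 h
    have hmap : commutator (G ⧸ R) = (commutator G).map (QuotientGroup.mk' R) := by
      rw [commutator_def, commutator_def, Subgroup.map_commutator,
        Subgroup.map_top_of_surjective _ (QuotientGroup.mk'_surjective R)]
    haveI : IsCyclic ((G ⧸ R) ⧸ commutator (G ⧸ R)) := by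
      refine isCyclic_of_prime_card (p := q) ?_
      rw [← Subgroup.index_eq_card, hmap, Subgroup.index_map_eq _ (QuotientGroup.mk'_surjective R)]
      rw [QuotientGroup.ker_mk']
      exact Subgroup.map_subtype_le _
    haveI : IsCyclic (G ⧸ R) := Cfsg.Agent.Lib.PGroups.isCyclic_of_cyclic_quotient_commutator hQ
    have hbot : commutator (G ⧸ R) = ⊥ := by
      rw [commutator_def, eq_bot_iff, Subgroup.commutator_le]
      intro x _ y _
      rw [Subgroup.mem_bot, commutatorElement_eq_one_iff_mul_comm]
      exact (IsCyclic.commGroup (α := G ⧸ R)).mul_comm x y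
    rw [hmap, Subgroup.map_eq_bot_iff, QuotientGroup.ker_mk'] at hbot
    have hR₀top : R₀ = ⊤ := by
      rw [eq_top_iff]
      intro x _
      obtain ⟨y, hy, hyx⟩ := hbot x.2
      exact (Subtype.ext hyx : y = x) ▸ hy
    refine Cfsg.Agent.Lib.Cores.not_dvd_card_pPrimeCore (G := ↥(commutator G)) q ?_
    rw [← hR₀, hR₀top, Subgroup.card_top]
    exact hdvd
  refine ⟨hcop, fun K hK => le_antisymm ?_ (Subgroup.commutator_mono le_rfl le_top)⟩
  exact (key (commutator G) K inferInstance hcop hK le_rfl).1.le.trans
    (Subgroup.commutator_mono le_top le_rfl)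

end Cfsg.Agent.S1459
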