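import Cfsg.Statements.S1460
import Cfsg.Agent.Lib.Hall.SystemNormalizer
import Cfsg.Agent.Lib.Coprime.Glauberman

set_option autoImplicit false
open Cfsg
open scoped Pointwise

namespace Cfsg.Agent.S1460

/-- Let G be a finite solvable group, K a normal subgroup and U a subgroup with G = KU, and H ≤ U a subgroup whose order is coprime to that of K. Then H ∩ G' = H ∩ U'; N_G(H) is generated by K ∩ C_G(H) and U ∩ N_G(H); and if gHg⁻¹ ≤ U for some g ∈ G then g = u c with u ∈ U and c ∈ K ∩ C_G(H). -/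
theorem result {G : Type*} [Group G] [Finite G] [Group.IsSolvable G] (K U H : Subgroup G) [K.Normal] (hKU : K ⊔ U = ⊤) (hH : H ≤ U) (hcop : (Nat.card H).Coprime (Nat.card K)) :
    H ⊓ commutator G = H ⊓ ⁅U, U⁆ ∧
      Subgroup.normalizer (H : Set G) = (K ⊓ Subgroup.centralizer (H : Set G)) ⊔ (U ⊓ Subgroup.normalizer (H : Set G)) ∧
      ∀ g : G, H.map (MulAut.conj g).toMonoidHom ≤ U → ∃ u ∈ U, ∃ c ∈ K ⊓ Subgroup.centralizer (H : Set G), g = u * c := by
  have hd : K ⊓ H = ⊥ := Cfsg.Agent.Lib.Hall.inf_eq_bot_of_coprime hcop.symm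
  have hthird : ∀ g : G, H.map (MulAut.conj g).toMonoidHom ≤ U →
      ∃ u ∈ U, ∃ c ∈ K ⊓ Subgroup.centralizer (H : Set G), g = u * c := by
    intro g hg
    have hg' : MulAut.conj g • H ≤ U := hg
    obtain ⟨u, hu, k, hk, rfl⟩ := Subgroup.mem_sup_of_normal_right.1
      (show g ∈ U ⊔ K by rw [sup_comm, hKU]; exact Subgroup.mem_top g)
    have hkU : MulAut.conj k • H ≤ U := by
      have h := Subgroup.pointwise_smul_le_pointwise_smul_iff (a := MulAut.conj u⁻¹) |>.2 hg'
      rwa [← mul_smul, ← map_mul, inv_mul_cancel_left,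
        Cfsg.Agent.Lib.Hall.SystemNormalizer.conj_smul_eq_self (U.inv_mem hu)] at h
    have hkHK : MulAut.conj k • H ≤ H ⊔ K := by
      rw [← Cfsg.Agent.Lib.Hall.SystemNormalizer.conj_smul_eq_self
        (show k ∈ H ⊔ K from Subgroup.mem_sup_right hk)]
      exact Subgroup.pointwise_smul_le_pointwise_smul_iff.2 le_sup_left
    have hHn : H ≤ Subgroup.normalizer ((K ⊓ U : Subgroup G) : Set G) := fun x hx => by
      rw [Cfsg.Agent.Lib.Hall.SystemNormalizer.mem_normalizer_iff_conj_smul, Subgroup.smul_inf,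
        Cfsg.Agent.Lib.Hall.SystemNormalizer.conj_smul_le_of_normal K,
        Cfsg.Agent.Lib.Hall.SystemNormalizer.conj_smul_eq_self (hH hx)]
    have hB : MulAut.conj k • H ≤ H ⊔ (K ⊓ U) := by
      intro y hy
      obtain ⟨a, ha, b, hb, rfl⟩ := Subgroup.mem_sup_of_normal_right.1 (hkHK hy)
      have hbU : b ∈ U := by
        have h := U.mul_mem (U.inv_mem (hH ha)) (hkU hy)
        rwa [inv_mul_cancel_left] at h
      exact mul_mem (Subgroup.mem_sup_left ha) (Subgroup.mem_sup_right ⟨hb, hbU⟩)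
    obtain ⟨m, hm, hmk⟩ := Cfsg.Agent.Lib.Coprime.exists_conj_eq_of_coprime hHn
      (hcop.coprime_dvd_right (Subgroup.card_dvd_of_le inf_le_left)) (Or.inl inferInstance) hB
      (Cfsg.Agent.Lib.Hall.card_conj_smul H k)
    refine ⟨u * m, U.mul_mem hu hm.2, m⁻¹ * k, ⟨K.mul_mem (K.inv_mem hm.1) hk, ?_⟩, by group⟩
    have hc : MulAut.conj (m⁻¹ * k) • H = H := by
      rw [map_mul, mul_smul, ← hmk, ← mul_smul, ← map_mul, inv_mul_cancel, map_one, one_smul]
    refine Cfsg.Agent.Lib.Coprime.mem_centralizer_of_disjoint (K := K) (disjoint_iff.2 (inf_comm K H ▸ hd)) hc fun a _ => ?_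
    have hc' : m⁻¹ * k ∈ K := K.mul_mem (K.inv_mem hm.1) hk
    rw [mul_assoc (m⁻¹ * k) a, mul_assoc (m⁻¹ * k)]
    exact K.mul_mem hc' (Subgroup.Normal.conj_mem ‹_› _ (K.inv_mem hc') a)
  refine ⟨le_antisymm ?_ (le_inf inf_le_left (inf_le_right.trans
    (Subgroup.commutator_mono le_top le_top))), ?_, hthird⟩
  · rintro h ⟨hhH, hhG⟩
    refine ⟨hhH, ?_⟩
    set f := QuotientGroup.mk' K with hf
    have hfU : U.map f = ⊤ := by
      rw [← Subgroup.map_top_of_surjective f (QuotientGroup.mk'_surjective K), ← hKU, Subgroup.map_sup,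
        QuotientGroup.map_mk'_self, bot_sup_eq]
    have h1 : h ∈ ⁅U, U⁆ ⊔ K := by
      have h2 : f h ∈ ⁅U, U⁆.map f := by
        rw [Subgroup.map_commutator, hfU]
        have := Subgroup.mem_map_of_mem f hhG
        rw [commutator_def, Subgroup.map_commutator,
          Subgroup.map_top_of_surjective f (QuotientGroup.mk'_surjective K)] at this
        exact this
      have h3 : h ∈ (⁅U, U⁆.map f).comap f := h2
      rwa [Subgroup.comap_map_eq, hf, QuotientGroup.ker_mk'] at h3
    obtain ⟨a, ha, b, hb, hab⟩ := Subgroup.mem_sup_of_normal_right.1 h1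
    have haU : a ∈ U := Subgroup.commutator_le_self U ha
    have hbU : b ∈ U := by
      have := U.mul_mem (U.inv_mem haU) (hH hhH)
      rwa [← hab, inv_mul_cancel_left] at this
    let q : U →* U ⧸ commutator U := QuotientGroup.mk' _
    have haC : (⟨a, haU⟩ : U) ∈ commutator U := by
      rw [← U.map_subtype_commutator] at ha
      obtain ⟨z, hz, rfl⟩ := ha
      exact hz
    have hq : q ⟨h, hH hhH⟩ = q ⟨b, hbU⟩ := by
      rw [show (⟨h, hH hhH⟩ : U) = ⟨a, haU⟩ * ⟨b, hbU⟩ from Subtype.ext hab.symm, map_mul,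
        show q ⟨a, haU⟩ = 1 from (QuotientGroup.eq_one_iff (⟨a, haU⟩ : U)).2 haC, one_mul]
    have hone : orderOf (q ⟨h, hH hhH⟩) = 1 := by
      refine Nat.eq_one_of_dvd_coprimes hcop ?_ ?_
      · refine (orderOf_map_dvd q _).trans ?_
        rw [Subgroup.orderOf_mk]
        exact (Subgroup.orderOf_mk h hhH).symm ▸ orderOf_dvd_natCard (⟨h, hhH⟩ : H)
      · rw [hq]
        refine (orderOf_map_dvd q _).trans ?_
        rw [Subgroup.orderOf_mk]
        exact (Subgroup.orderOf_mk b hb).symm ▸ orderOf_dvd_natCard (⟨b, hb⟩ : K)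
    rw [← U.map_subtype_commutator]
    exact ⟨⟨h, hH hhH⟩, (QuotientGroup.eq_one_iff _).1 (orderOf_eq_one_iff.1 hone), rfl⟩
  · have hCN : K ⊓ Subgroup.centralizer (H : Set G) ≤ Subgroup.normalizer (H : Set G) := by
      rintro c ⟨-, hc⟩
      rw [Subgroup.mem_normalizer_iff]
      intro x
      constructor <;> intro hx
      · rwa [← (Subgroup.mem_centralizer_iff.1 hc) x hx, mul_inv_cancel_right]
      · have h := (Subgroup.mem_centralizer_iff.1 hc) _ hx
        rw [inv_mul_cancel_right, mul_assoc c x] at h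
        have h2 := mul_left_cancel (show c * x = c * (c * (x * c⁻¹)) from h)
        rwa [h2, ← mul_assoc]
    refine le_antisymm (fun g hg => ?_) (sup_le hCN inf_le_right)
    obtain ⟨u, hu, c, hc, rfl⟩ := hthird g (by
      show MulAut.conj g • H ≤ U
      rw [Cfsg.Agent.Lib.Hall.SystemNormalizer.mem_normalizer_iff_conj_smul.1 hg]; exact hH)
    refine mul_mem (Subgroup.mem_sup_right ⟨hu, ?_⟩) (Subgroup.mem_sup_left hc)
    simpa using (Subgroup.normalizer (H : Set G)).mul_mem hg ((Subgroup.normalizer _).inv_mem (hCN hc))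

end Cfsg.Agent.S1460
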