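import Cfsg.Statements.S1461
import Cfsg.Agent.Lib.OddOrder.NormedConstrained
import Cfsg.Agent.S1460

set_option autoImplicit false
open Cfsg

namespace Cfsg.Agent.S1461

/-- Let G be a finite solvable group, p a prime with G = O_{p',p,p'}(G), and S a Sylow p-subgroup. Then: if S ≤ G' then S ≤ [N_G(S), N_G(S)]; if Y ⊆ S and xYx⁻¹ ⊆ S then x = g c for some g ∈ N_G(S) and c centralizing Y; and for every p-subgroup Q there is x ∈ C_G(Q ∩ S) with xQx⁻¹ ≤ S. -/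
theorem result {G : Type*} [Group G] [Finite G] [Group.IsSolvable G] (p : ℕ) [Fact p.Prime] (hpl : Cfsg.PLengthLE p 1 G) (S : Sylow p G) :
    ((S : Subgroup G) ≤ commutator G → (S : Subgroup G) ≤ ⁅Subgroup.normalizer ((S : Subgroup G) : Set G), Subgroup.normalizer ((S : Subgroup G) : Set G)⁆) ∧
      (∀ (Y : Set G) (x : G), Y ⊆ (S : Subgroup G) → (fun y => x * y * x⁻¹) '' Y ⊆ (S : Subgroup G) →
        ∃ g ∈ Subgroup.normalizer ((S : Subgroup G) : Set G), ∃ c ∈ Subgroup.centralizer Y, g * c = x) ∧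
      ∀ Q : Subgroup G, IsPGroup p Q → ∃ x ∈ Subgroup.centralizer ((Q ⊓ (S : Subgroup G) : Subgroup G) : Set G), Q.map (MulAut.conj x).toMonoidHom ≤ (S : Subgroup G) := by
  obtain ⟨U, hUn, hU, -, hR⟩ := Lib.OddOrder.NormedConstrained.exists_of_pLength_one hpl
  obtain ⟨f, hf⟩ : ∃ f, f = QuotientGroup.mk' U := ⟨_, rfl⟩
  have hfs : Function.Surjective f := hf ▸ QuotientGroup.mk'_surjective U
  obtain ⟨j, hj⟩ := S.isPGroup'.exists_card_eq
  have hdis : ∀ s ∈ (S : Subgroup G), s ∈ U → s = 1 := fun s hs hsU =>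
    orderOf_eq_one_iff.mp (Nat.eq_one_of_dvd_coprimes (hU.pow_right j)
      (Subgroup.orderOf_dvd_natCard _ hsU) (hj ▸ Subgroup.orderOf_dvd_natCard _ hs))
  -- the Frattini argument
  have hT : (S : Subgroup G).map f = Cfsg.pCore p (G ⧸ U) := by
    refine le_antisymm (hf ▸ hR S) ?_
    rw [← Sylow.coe_mapSurjective hfs]
    exact Lib.Cores.pCore_le_sylow _
  have hMn : (U ⊔ (S : Subgroup G)).Normal := by
    have h : U ⊔ (S : Subgroup G) = ((S : Subgroup G).map f).comap f := by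
      rw [Subgroup.comap_map_eq, hf, QuotientGroup.ker_mk', sup_comm]
    rw [h, hT]
    exact Subgroup.Normal.comap inferInstance f
  have hfr := Sylow.normalizer_sup_eq_top (S.subtype (le_sup_right : (S : Subgroup G) ≤ U ⊔ S))
  rw [Sylow.coe_subtype, Subgroup.map_subgroupOf_eq_of_le le_sup_right] at hfr
  obtain ⟨N, hN⟩ : ∃ N, N = Subgroup.normalizer ((S : Subgroup G) : Set G) := ⟨_, rfl⟩
  rw [← hN] at hfr ⊢
  have hUN : U ⊔ N = ⊤ := by
    rw [eq_top_iff, ← hfr]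
    exact sup_le le_sup_right (sup_le le_sup_left ((hN ▸ Subgroup.le_normalizer).trans le_sup_right))
  have hfus : ∀ (Y : Set G) (x : G), Y ⊆ (S : Subgroup G) →
      (fun y => x * y * x⁻¹) '' Y ⊆ (S : Subgroup G) →
      ∃ g ∈ N, ∃ c ∈ Subgroup.centralizer Y, g * c = x := by
    intro Y x hY hxY
    obtain ⟨n, hn, u, hu, rfl⟩ := Subgroup.mem_sup_of_normal_right.1
      (show x ∈ N ⊔ U by rw [sup_comm, hUN]; exact Subgroup.mem_top x)
    refine ⟨n, hn, u, Subgroup.mem_centralizer_iff.mpr fun y hy => ?_, rfl⟩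
    have h1 : u * y * u⁻¹ ∈ (S : Subgroup G) := by
      have h := (Subgroup.mem_normalizer_iff.mp (hN ▸ hn) (u * y * u⁻¹)).mpr
      refine h ?_
      have h' : (n * u) * y * (n * u)⁻¹ ∈ (S : Subgroup G) := hxY ⟨y, hy, rfl⟩
      rwa [show n * (u * y * u⁻¹) * n⁻¹ = (n * u) * y * (n * u)⁻¹ by group]
    have h2 : u * y * u⁻¹ * y⁻¹ = 1 :=
      hdis _ (mul_mem h1 (inv_mem (hY hy))) (by
        rw [show u * y * u⁻¹ * y⁻¹ = u * (y * u⁻¹ * y⁻¹) by group]
        exact mul_mem hu (hUn.conj_mem _ (inv_mem hu) y))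
    rw [mul_inv_eq_one, mul_inv_eq_iff_eq_mul] at h2
    exact h2.symm
  refine ⟨fun hS => ?_, hfus, fun Q hQ => ?_⟩
  · have hcop : (Nat.card (S : Subgroup G)).Coprime (Nat.card U) := hj ▸ (hU.pow_right j).symm
    obtain ⟨h1, -, -⟩ := S1460.result U N (S : Subgroup G) hUN (hN ▸ Subgroup.le_normalizer) hcop
    rw [inf_eq_left.mpr hS] at h1
    exact h1.le.trans inf_le_right
  · obtain ⟨T, hQT⟩ := hQ.exists_le_sylow
    obtain ⟨g, hg⟩ := MulAction.exists_smul_eq G T S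
    have hgQ : ∀ y ∈ Q, g * y * g⁻¹ ∈ (S : Subgroup G) := fun y hy => hg ▸ ⟨y, hQT hy, rfl⟩
    obtain ⟨n, hn, c, hc, hnc⟩ := hfus ((Q ⊓ (S : Subgroup G) : Subgroup G) : Set G) g
      (fun y hy => hy.2) (by rintro _ ⟨y, hy, rfl⟩; exact hgQ y hy.1)
    refine ⟨c, hc, ?_⟩
    rintro _ ⟨y, hy, rfl⟩
    refine (Subgroup.mem_normalizer_iff.mp (hN ▸ hn) _).mpr ?_
    rw [MulEquiv.coe_toMonoidHom, MulAut.conj_apply,
      show n * (c * y * c⁻¹) * n⁻¹ = (n * c) * y * (n * c)⁻¹ by group, hnc]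
    exact hgQ y hy


end Cfsg.Agent.S1461
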