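import Cfsg.Statements.S1462
import Cfsg.Agent.Lib.OddOrder.NormedConstrained

set_option autoImplicit false
open Cfsg

namespace Cfsg.Agent.S1462

/-- Let G be a finite solvable group, p an odd prime with G = O_{p',p,p'}(G), E an elementary abelian p-subgroup contained in no larger elementary abelian p-subgroup of G, and L a subgroup of order coprime to p normalized by E. Then L ≤ O_{p'}(G). -/
theorem result {G : Type*} [Group G] [Finite G] [Group.IsSolvable G] (p : ℕ) [Fact p.Prime] (hp : p ≠ 2) (hpl : Cfsg.PLengthLE p 1 G) (E L : Subgroup G) (hE : Cfsg.IsElementaryAbelian p E)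
    (hEmax : ∀ B : Subgroup G, Cfsg.IsElementaryAbelian p B → E ≤ B → B = E) (hL : (Nat.card L).Coprime p) (hEL : E ≤ Subgroup.normalizer (L : Set G)) :
    L ≤ Cfsg.pPrimeCore p G := by
  haveI := hE.1
  refine Lib.OddOrder.NormedConstrained.le_pPrimeCore_of_pLength_one hp hpl
    (fun a => ⟨1, Subtype.ext (by simpa using hE.2 a a.2)⟩) ?_ hL hEL
  intro x hx hxp
  have hcomm : ∀ a ∈ E, a * x = x * a := Subgroup.mem_centralizer_iff.mp hx
  have hc : ∀ u ∈ (E : Set G) ∪ {x}, ∀ v ∈ (E : Set G) ∪ {x}, u * v = v * u := by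
    rintro u (hu | rfl) v (hv | rfl)
    · exact congrArg Subtype.val (hE.1.1.comm ⟨u, hu⟩ ⟨v, hv⟩)
    · exact hcomm u hu
    · exact (hcomm v hv).symm
    · rfl
  haveI hB := Subgroup.isMulCommutative_closure hc
  have hle : E ≤ Subgroup.closure ((E : Set G) ∪ {x}) := fun e he => Subgroup.subset_closure (Or.inl he)
  rw [← hEmax _ ⟨hB, fun b hb => ?_⟩ hle]
  · exact Subgroup.subset_closure (Or.inr rfl)
  · induction hb using Subgroup.closure_induction with
    | mem u hu => rcases hu with hu | rfl <;> [exact hE.2 u hu; exact hxp]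
    | one => exact one_pow p
    | mul u v hu hv ihu ihv =>
      have h : Commute u v := congrArg Subtype.val (hB.1.comm ⟨u, hu⟩ ⟨v, hv⟩)
      rw [h.mul_pow, ihu, ihv, one_mul]
    | inv u _ ih => rw [inv_pow, ih, inv_one]


end Cfsg.Agent.S1462
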