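import Cfsg.Statements.S1464
import Cfsg.Agent.Lib.OddLocal.PStable

set_option autoImplicit false
open Cfsg

namespace Cfsg.Agent.S1464

/-- Let p be an odd prime and G a solvable group of odd order, P a p-subgroup with O_{p'}(G)P normal in G, and A a p-subgroup of N_G(P) with [[P, A], A] = 1. Then the image of A in the quotient N_G(P)/C_G(P) is contained in the p-core of that quotient. -/
theorem result {G : Type*} [Group G] [Finite G] [Group.IsSolvable G] (hodd : Odd (Nat.card G)) (p : ℕ) [Fact p.Prime] (hp : p ≠ 2) (P A : Subgroup G) (hP : IsPGroup p P) (hPn : (Cfsg.pPrimeCore p G ⊔ P).Normal)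
    (hA : IsPGroup p A) (hAN : A ≤ Subgroup.normalizer (P : Set G)) (hquad : ⁅⁅P, A⁆, A⁆ = ⊥) :
    (A.subgroupOf (Subgroup.normalizer (P : Set G))).map
        (QuotientGroup.mk' ((Subgroup.centralizer (P : Set G)).subgroupOf (Subgroup.normalizer (P : Set G))))
      ≤ Cfsg.pCore p _ := by
  open Cfsg.Agent.Lib.OddLocal.PStable in
  rintro _ ⟨x, hx, rfl⟩
  haveI : (P.subgroupOf (Subgroup.normalizer (P : Set G))).Normal := Subgroup.normal_in_normalizer
  refine mem_pCore_of_quad' (hodd.of_dvd_nat (Subgroup.card_subgroup_dvd_card _)) hp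
    (P.subgroupOf (Subgroup.normalizer (P : Set G))) _ ?_ (hP.comap_subtype) ?_
  · ext z
    simp only [Subgroup.mem_subgroupOf, Subgroup.mem_centralizer_iff, SetLike.mem_coe]
    refine ⟨fun h w hw => Subtype.ext (h _ hw), fun h w hw => ?_⟩
    exact congrArg Subtype.val (h ⟨w, Subgroup.le_normalizer hw⟩ hw)
  · intro u hu
    apply Subtype.ext
    have hc := Subgroup.commutator_eq_bot_iff_le_centralizer.mp hquad
    have hmem : (x : G) * u * (x : G)⁻¹ * (u : G)⁻¹ ∈ ⁅P, A⁆ := by
      have h1 := inv_mem (Subgroup.commutator_mem_commutator (Subgroup.mem_subgroupOf.mp hu)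
        (Subgroup.mem_subgroupOf.mp hx))
      simpa [commutatorElement_def, mul_assoc] using h1
    exact Subgroup.mem_centralizer_iff.mp (hc hmem) _ (Subgroup.mem_subgroupOf.mp hx)

end Cfsg.Agent.S1464
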