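import Cfsg.Statements.S1465
import Cfsg.Agent.Lib.OddLocal.PStable
import Cfsg.Agent.Lib.PSolvable.HallHigman

set_option autoImplicit false
open Cfsg

namespace Cfsg.Agent.S1465

/-- Let p be an odd prime, G a solvable group of odd order, P a normal p-subgroup of G, and X the subgroup generated by a family of abelian p-subgroups of G each normalized by P. Then the image of X in G/C_G(P) lies in O_p(G/C_G(P)); and if O_{p'}(G) = 1 and O_p(G) ∩ C_G(P) ≤ P then X ≤ O_p(G). -/
theorem result {G : Type*} [Group G] [Finite G] [Group.IsSolvable G] (hodd : Odd (Nat.card G)) (p : ℕ) [Fact p.Prime] (hp : p ≠ 2) (P : Subgroup G) [P.Normal] (hP : IsPGroup p P)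
    (S : Set (Subgroup G)) (hS : ∀ B ∈ S, IsMulCommutative B ∧ IsPGroup p B ∧ P ≤ Subgroup.normalizer (B : Set G)) :
    (sSup S).map (QuotientGroup.mk' (Subgroup.centralizer (P : Set G))) ≤ Cfsg.pCore p (G ⧸ Subgroup.centralizer (P : Set G)) ∧
      (Cfsg.pPrimeCore p G = ⊥ → Cfsg.pCore p G ⊓ Subgroup.centralizer (P : Set G) ≤ P → sSup S ≤ Cfsg.pCore p G) := by
  open Cfsg.Agent.Lib.OddLocal.PStable in
  have key : ∀ B ∈ S, ∀ x ∈ B, IsQuad x P := fun B hB x hx =>
    isQuad_of_abelian (hS B hB).1 (hS B hB).2.2 hx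
  refine ⟨?_, fun hO hCP => ?_⟩
  · rw [Subgroup.map_le_iff_le_comap]
    refine sSup_le fun B hB x hx => ?_
    exact mem_pCore_of_quad hodd hp P hP (key B hB x hx)
  · have hC : IsPGroup p (Subgroup.centralizer (P : Set G)) := by
      let C := Subgroup.centralizer (P : Set G)
      have hC1 : Cfsg.pPrimeCore p C = ⊥ := by
        have h := Cfsg.Agent.Lib.PSolvable.pPrimeCore_map_le_of_normal (p := p) C
        rw [hO, le_bot_iff, Subgroup.map_eq_bot_iff, Subgroup.ker_subtype, le_bot_iff] at h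
        exact h
      have hle := Cfsg.Agent.Lib.PSolvable.centralizer_pCore_le (p := p) (G := C)
        Cfsg.Agent.Lib.PSolvable.isPSolvable_of_isSolvable hC1
      have hmap : (Cfsg.pCore p C).map C.subtype ≤ Cfsg.pCore p G :=
        Cfsg.Agent.Lib.PSolvable.pCore_map_le_of_normal C
      have hcen : ∀ c : C, c ∈ Subgroup.centralizer ((Cfsg.pCore p C : Subgroup C) : Set C) := by
        refine fun c => Subgroup.mem_centralizer_iff.mpr fun d hd => Subtype.ext ?_
        have hdP : (d : G) ∈ P := hCP ⟨hmap (Subgroup.mem_map_of_mem _ hd), d.2⟩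
        exact Subgroup.mem_centralizer_iff.mp c.2 _ hdP
      exact fun c => by
        obtain ⟨k, hk⟩ := Cfsg.Agent.Lib.Cores.pCore_isPGroup (G := C) p ⟨c, hle (hcen c)⟩
        exact ⟨k, congrArg Subtype.val hk⟩
    refine sSup_le fun B hB x hx => ?_
    exact mem_pCore_of_quad_of_centralizer hodd hp P hP hC (key B hB x hx)

end Cfsg.Agent.S1465
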