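import Cfsg.Statements.S1471
import Cfsg.Agent.Lib.NormOne.Basic

set_option autoImplicit false
open Cfsg

namespace Cfsg.Agent.S1471

/-- Let p and q be odd primes with (p^q − 1)/(p − 1) coprime to p − 1. Then there are at least two elements a of the field with p ^ q elements such that both a and 2 − a have norm 1 to the prime field. -/
theorem result (p q : ℕ) [Fact p.Prime] [Fact q.Prime] (hp : p ≠ 2) (hq : q ≠ 2) (hA : Nat.Coprime ((p ^ q - 1) / (p - 1)) (p - 1)) :
    2 ≤ Set.ncard {a : GaloisField p q | Algebra.norm (ZMod p) a = 1 ∧ Algebra.norm (ZMod p) (2 - a) = 1} := by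
  obtain ⟨a, ha1, ha, ha2⟩ : ∃ a : GaloisField p q, a ≠ 1 ∧ Algebra.norm (ZMod p) a = 1 ∧
      Algebra.norm (ZMod p) (2 - a) = 1 := by
    have hqp := (Fact.out : q.Prime)
    have hdim : Module.finrank (ZMod p) (GaloisField p q) = q := GaloisField.finrank p hqp.ne_zero
    have hcop : q.Coprime (p - 1) := by
      rw [hqp.coprime_iff_not_dvd]
      intro hd
      refine hqp.not_dvd_one (hA ▸ Nat.dvd_gcd ?_ hd)
      rw [← Nat.geomSum_eq (Fact.out : p.Prime).two_le, ← ZMod.natCast_eq_zero_iff]
      have h1 : (p : ZMod q) = 1 := by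
        rw [show p = (p - 1) + 1 by have := (Fact.out : p.Prime).two_le; omega, Nat.cast_add,
          (ZMod.natCast_eq_zero_iff _ q).mpr hd, zero_add, Nat.cast_one]
      simp [h1]
    by_cases h3 : q = 3
    · subst h3
      exact Lib.NormOne.Basic.exists_ne_one_cubic hp
    · exact Lib.NormOne.Basic.exists_ne_one_large (by rwa [hdim]) hp (by
        rw [hdim]
        have := hqp.two_le
        have h4 : q ≠ 4 := fun h => absurd (h ▸ hqp) (by norm_num)
        omega)
  calc 2 = ({1, a} : Set (GaloisField p q)).ncard := (Set.ncard_pair (Ne.symm ha1)).symm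
    _ ≤ _ := Set.ncard_le_ncard (by
        rintro x (rfl | rfl)
        · exact ⟨map_one _, by rw [show (2 : GaloisField p q) - 1 = 1 by norm_num, map_one]⟩
        · exact ⟨ha, ha2⟩) (Set.toFinite _)


end Cfsg.Agent.S1471
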