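import Cfsg.Statements.S1475
import Cfsg.Agent.Lib.Hall.Basic
import Cfsg.Agent.Lib.Frobenius.FixedPointFree

set_option autoImplicit false
open Cfsg

namespace Cfsg.Agent.S1475

open Subgroup in
open scoped IsMulCommutative in
theorem aux : ∀ (n : ℕ) (G : Type*) [Group G] [Finite G] [Group.IsSolvable G], Nat.card G = n →
    (∀ g : G, IsPrimePow (orderOf g) ∨ g = 1) → (Nat.card G).primeFactors.card ≤ 2 := by
  intro n
  induction n using Nat.strong_induction_on with
  | _ n ih =>
  intro G _ _ _ hn h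
  by_contra hlt
  haveI : Nontrivial G := by
    by_contra hnt
    rw [not_nontrivial_iff_subsingleton] at hnt
    simp [Nat.card_of_subsingleton (1 : G)] at hlt
  -- elements of two different prime orders cannot commute
  have hcomm : ∀ (a b : G) (p q : ℕ), p.Prime → q.Prime → p ≠ q → orderOf a = p → orderOf b = q →
      a * b ≠ b * a := by
    intro a b p q hp hq hpq ha hb hab
    have ho : orderOf (a * b) = p * q := by
      rw [(show Commute a b from hab).orderOf_mul_eq_mul_orderOf_of_coprime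
        (by rw [ha, hb]; exact (Nat.coprime_primes hp hq).mpr hpq), ha, hb]
    rcases h (a * b) with h1 | h1
    · rw [ho, isPrimePow_iff_unique_prime_dvd] at h1
      exact hpq (h1.unique ⟨hp, dvd_mul_right p q⟩ ⟨hq, dvd_mul_left q p⟩)
    · rw [h1, orderOf_one] at ho
      exact hp.ne_one (Nat.eq_one_of_mul_eq_one_right ho.symm)
  obtain ⟨p, N, hp, hNn, hNne, hNc, hNp⟩ := Cfsg.Agent.Lib.Hall.exists_normal_abelian_pgroup (G := G)
  haveI : Fact p.Prime := ⟨hp⟩
  haveI : IsMulCommutative N := ⟨⟨fun a b => Subtype.ext (hNc a a.2 b b.2)⟩⟩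
  obtain ⟨l, hl⟩ := IsPGroup.iff_card.mp hNp
  have hl0 : l ≠ 0 := fun h0 => hNne (eq_bot_of_card_eq N (by rw [hl, h0, pow_zero]))
  have hquot : (Nat.card (G ⧸ N)).primeFactors.card ≤ 2 := by
    refine ih _ (hn ▸ Cfsg.Agent.Lib.Hall.card_quotient_lt hNne) (G ⧸ N) rfl fun g => ?_
    obtain ⟨g, rfl⟩ := QuotientGroup.mk'_surjective N g
    rcases h g with h1 | h1
    · by_cases h2 : QuotientGroup.mk' N g = 1
      · exact Or.inr h2
      · exact Or.inl (h1.dvd (orderOf_map_dvd _ g) (fun he => h2 (orderOf_eq_one_iff.mp he)))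
    · exact Or.inr (by rw [h1, map_one])
  have hcard : Nat.card G = p ^ l * Nat.card (G ⧸ N) := by
    rw [card_eq_card_quotient_mul_card_subgroup N, hl, mul_comm]
  have hpf : (Nat.card G).primeFactors = insert p (Nat.card (G ⧸ N)).primeFactors := by
    rw [hcard, Nat.primeFactors_mul (pow_ne_zero _ hp.ne_zero) Nat.card_pos.ne',
      Nat.primeFactors_pow _ hl0, hp.primeFactors, Finset.insert_eq]
  have hpidx : ¬ p ∣ Nat.card (G ⧸ N) := by
    intro hdvd
    rw [Finset.insert_eq_of_mem (Nat.mem_primeFactors.mpr ⟨hp, hdvd, Nat.card_pos.ne'⟩)] at hpf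
    exact hlt (hpf ▸ hquot)
  obtain ⟨K, hK⟩ := exists_right_complement'_of_coprime (N := N) (by
    rw [hl, index_eq_card]; exact (hp.coprime_iff_not_dvd.mpr hpidx).pow_left l)
  have hKcard : Nat.card K = Nat.card (G ⧸ N) := by rw [← index_eq_card]; exact hK.symm.index_eq_card.symm
  -- `K` is fixed-point-free on `N`
  have hfpf : ∀ a ∈ K, a ≠ 1 → N ⊓ centralizer {a} = ⊥ := by
    intro a ha ha1
    refine (eq_bot_iff_forall _).mpr fun v hv => ?_
    by_contra hv1
    obtain ⟨q, hq, hqd⟩ := Nat.exists_prime_and_dvd (fun h => ha1 (orderOf_eq_one_iff.mp h))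
    obtain ⟨r, hr, hrd⟩ := Nat.exists_prime_and_dvd (fun h => hv1 (orderOf_eq_one_iff.mp h))
    have hqp : q ≠ p := fun he => hpidx (he ▸ hKcard ▸ hqd.trans (orderOf_dvd_natCard K ha))
    have hrp : r = p := Cfsg.Agent.Lib.Hall.prime_dvd_pgroup hp hr hNp
      (hrd.trans (orderOf_dvd_natCard N hv.1))
    refine hcomm (a ^ (orderOf a / q)) (v ^ (orderOf v / r)) q r hq hr (hrp ▸ hqp)
      (orderOf_pow_orderOf_div (orderOf_pos a).ne' hqd)
      (orderOf_pow_orderOf_div (orderOf_pos v).ne' hrd) ?_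
    exact ((show Commute a v from (mem_centralizer_singleton_iff.mp hv.2).symm).pow_pow _ _).eq
  haveI : Nontrivial K := by
    rw [← Finite.one_lt_card_iff_nontrivial, hKcard]
    by_contra h1
    have : (Nat.card (G ⧸ N)) = 1 := le_antisymm (not_lt.mp h1) Nat.card_pos
    rw [this, Nat.primeFactors_one] at hpf
    exact hlt (by rw [hpf]; simp)
  obtain ⟨q, M, hq, hMn, hMne, hMc, hMq⟩ := Cfsg.Agent.Lib.Hall.exists_normal_abelian_pgroup (G := K)
  haveI : Fact q.Prime := ⟨hq⟩
  haveI : IsMulCommutative M := ⟨⟨fun a b => Subtype.ext (hMc a a.2 b b.2)⟩⟩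
  -- a second prime `r`
  obtain ⟨r, hr, hrd, hrq⟩ : ∃ r, r.Prime ∧ r ∣ Nat.card K ∧ r ≠ q := by
    by_contra hno
    refine hlt ?_
    have hsub : (Nat.card (G ⧸ N)).primeFactors ⊆ {q} := by
      intro r hr
      rw [Finset.mem_singleton]
      by_contra hne
      exact hno ⟨r, Nat.prime_of_mem_primeFactors hr, hKcard ▸ Nat.dvd_of_mem_primeFactors hr, hne⟩
    rw [hpf]
    exact (Finset.card_le_card (Finset.insert_subset_insert p hsub)).trans Finset.card_le_two
  haveI : Fact r.Prime := ⟨hr⟩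
  obtain ⟨i, hi⟩ := IsPGroup.iff_card.mp hMq
  obtain ⟨⟨a, haM⟩, ha⟩ := exists_prime_orderOf_dvd_card' (G := M) q (by
    rw [hi]; exact dvd_pow_self q (fun h0 => hMne (eq_bot_of_card_eq M (by rw [hi, h0, pow_zero]))))
  rw [Subgroup.orderOf_mk] at ha
  obtain ⟨b, hb⟩ := exists_prime_orderOf_dvd_card' (G := K) r hrd
  have hbnorm : ∀ A : Subgroup G, A ≤ K → A ≤ normalizer (N : Set G) :=
    fun A _ => le_normalizer_of_normal
  -- commuting elements of order `q` in `K` generate the same subgroup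
  have hconj : b * a * b⁻¹ ∈ zpowers a := by
    haveI : Nontrivial N := (nontrivial_iff_ne_bot N).mpr hNne
    have hf := Cfsg.Agent.Lib.Frobenius.isFPF_conj (A := K) (V := N) (hbnorm _ le_rfl) hfpf
    have hmem : b * a * b⁻¹ ∈ M := hMn.conj_mem a haM b
    refine hf.mem_zpowers_of_commute hq ha ?_ (hMc a haM _ hmem)
    rw [conj_pow, ← ha, pow_orderOf_eq_one, mul_one, mul_inv_cancel]
  let A : Subgroup G := (zpowers a ⊔ zpowers b).map K.subtype
  have hAcard : Nat.card A = q * r := by
    rw [card_map_of_injective K.subtype_injective]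
    have hbn : zpowers b ≤ normalizer (zpowers a : Set K) := zpowers_le.mpr (by
      have hle : (zpowers a).map (MulAut.conj b).toMonoidHom ≤ zpowers a := by
        rw [MonoidHom.map_zpowers]; exact zpowers_le.mpr hconj
      have heq := eq_of_le_of_card_ge hle (card_map_of_injective (MulAut.conj b).injective).ge
      rw [mem_normalizer_iff]
      intro y
      constructor
      · intro hy
        exact heq ▸ ⟨y, hy, rfl⟩
      · intro hy
        obtain ⟨z, hz, hzy⟩ : b * y * b⁻¹ ∈ (zpowers a).map (MulAut.conj b).toMonoidHom := heq.symm ▸ hy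
        exact (mul_left_cancel (mul_right_cancel hzy) : z = y) ▸ hz)
    refine le_antisymm ?_ (Nat.le_of_dvd Nat.card_pos ?_)
    · have he : ((zpowers a ⊔ zpowers b : Subgroup K) : Set K) =
          (fun x : zpowers a × zpowers b => (x.1 : K) * x.2) '' Set.univ := by
        rw [coe_mul_of_right_le_normalizer_left (zpowers a) (zpowers b) hbn, Set.image_univ]
        ext z
        constructor
        · rintro ⟨x, hx, y, hy, rfl⟩
          exact ⟨(⟨x, hx⟩, ⟨y, hy⟩), rfl⟩
        · rintro ⟨⟨⟨x, hx⟩, y, hy⟩, rfl⟩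
          exact ⟨x, hx, y, hy, rfl⟩
      calc Nat.card ↥(zpowers a ⊔ zpowers b)
          = ((zpowers a ⊔ zpowers b : Subgroup K) : Set K).ncard := Nat.card_coe_set_eq _
        _ ≤ (Set.univ : Set (zpowers a × zpowers b)).ncard := by
          rw [he]; exact Set.ncard_image_le
        _ = q * r := by rw [Set.ncard_univ, Nat.card_prod, Nat.card_zpowers, Nat.card_zpowers, ha, hb]
    · exact ((Nat.coprime_primes hq hr).mpr hrq.symm).mul_dvd_of_dvd_of_dvd
        (ha ▸ orderOf_dvd_natCard _ (le_sup_left (a := zpowers a) (mem_zpowers a)))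
        (hb ▸ orderOf_dvd_natCard _ (le_sup_right (b := zpowers b) (mem_zpowers b)))
  have hf := Cfsg.Agent.Lib.Frobenius.isFPF_conj (A := A) (V := N) (hbnorm _ (map_subtype_le _))
    (fun x hx hx1 => hfpf x (map_subtype_le _ hx) hx1)
  haveI : Nontrivial N := (nontrivial_iff_ne_bot N).mpr hNne
  haveI := hf.isCyclic_of_card_eq_mul hq hr hAcard
  obtain ⟨c, hc⟩ := IsCyclic.exists_ofOrder_eq_natCard (α := A)
  rw [hAcard, ← Subgroup.orderOf_coe] at hc
  rcases h (c : G) with h1 | h1
  · rw [hc, isPrimePow_iff_unique_prime_dvd] at h1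
    exact hrq (h1.unique ⟨hr, dvd_mul_left r q⟩ ⟨hq, dvd_mul_right q r⟩)
  · rw [h1, orderOf_one] at hc
    exact hq.ne_one (Nat.eq_one_of_mul_eq_one_right hc.symm)

/-- Let G be a finite solvable group such that the order of every element is a prime power (1 included). Then at most two distinct primes divide the order of G. -/
theorem result {G : Type*} [Group G] [Finite G] [Group.IsSolvable G] (h : ∀ g : G, IsPrimePow (orderOf g) ∨ g = 1) :
    (Nat.card G).primeFactors.card ≤ 2 := by
  exact aux _ G rfl h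

end Cfsg.Agent.S1475
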