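import Cfsg.Statements.S1478
import Cfsg.Agent.Lib.CNGroup.MinSimple

set_option autoImplicit false
open Cfsg

namespace Cfsg.Agent.S1478

/-- Let G be a minimal simple group of odd order in which every non-identity element has nilpotent centralizer. Then no subgroup of G is a three-step group with respect to any prime. -/
theorem result {G : Type*} [Group G] [Finite G] (hG : Cfsg.IsMinSimpleOddOrder G) (hCN : Cfsg.IsCNGroup G) :
    ∀ (H : Subgroup G) (p : ℕ), ¬ Cfsg.IsThreeStepGroup p ↥H := by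
  intro X p h3
  obtain ⟨hD1, A, hA1, -, -, hAp, hn, hne, -, hfpf, hc⟩ := h3
  obtain ⟨D, hDdef⟩ : ∃ D : Subgroup ↥X, D = Cfsg.pCore p X := ⟨_, rfl⟩
  haveI hDn : D.Normal := hDdef ▸ inferInstance
  have hDp : IsPGroup p D := hDdef ▸ Lib.Cores.pCore_isPGroup p
  rw [← hDdef] at hD1 hn hne hfpf hc
  have hX : X ≠ ⊤ := by
    intro htop
    have hDn' : (D.map X.subtype).Normal := by
      rw [← Subgroup.normalizer_eq_top_iff, eq_top_iff, ← htop]
      exact Lib.OddOrder.Basic.le_normalizer_map_subtype X D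
    rcases Lib.OddOrder.MinSimple.eq_bot_or_top hG hDn' with h | h
    · exact hD1 ((Subgroup.map_eq_bot_iff_of_injective _ X.subtype_injective).mp h)
    · refine hne (top_le_iff.mp fun x _ => Subgroup.mem_sup_left ?_)
      obtain ⟨d, hd, hdx⟩ : (x : G) ∈ D.map X.subtype := h.symm ▸ Subgroup.mem_top _
      rwa [← Subtype.ext hdx]
  haveI := Lib.OddOrder.MinSimple.solvable_of_ne_top hG hX
  haveI : Nontrivial D := (Subgroup.nontrivial_iff_ne_bot D).mpr hD1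
  obtain ⟨D₀, hD₀⟩ : ∃ D₀ : Subgroup ↥X, D₀ = (fittingSubgroup D).map D.subtype := ⟨_, rfl⟩
  have hD₀le : D₀ ≤ D := hD₀ ▸ Subgroup.map_subtype_le _
  haveI hD₀n : D₀.Normal := by
    rw [hD₀, Lib.Cores.map_subtype_fittingSubgroup]; infer_instance
  have hD₀nil : Group.IsNilpotent (D₀.map X.subtype) :=
    Lib.Cores.isNilpotent_map _ (hD₀ ▸ Lib.Cores.isNilpotent_map _ Lib.Cores.fittingSubgroup_isNilpotent)
  have hD₀1 : D₀ ≠ ⊥ := by
    rw [hD₀, Ne, Subgroup.map_eq_bot_iff_of_injective _ D.subtype_injective]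
    exact Lib.Cores.fittingSubgroup_ne_bot
  obtain ⟨H, hH, hle⟩ := Lib.CNGroup.MaxNilpotent.exists_maxNilpotent_ge hD₀nil
  have hXN : X ≤ Subgroup.normalizer (H : Set G) :=
    Lib.CNGroup.MinSimple.le_normalizer_of_normal hG hCN hH
      (fun h => hD₀1 ((Subgroup.map_eq_bot_iff_of_injective _ X.subtype_injective).mp h)) hle
      (Lib.OddOrder.Basic.le_normalizer_map_subtype X D₀)
  have hcomm : ∀ u v : X, ((u * v * u⁻¹ * v⁻¹ : X) : G) ∈ H := fun u v =>
    Lib.CNGroup.MinSimple.commutator_mem hG hCN hH (hXN u.2) (hXN v.2)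
  have hcop : ∀ a ∈ A, ∀ d ∈ D, (orderOf a).Coprime (orderOf d) := by
    intro a ha d hd
    obtain ⟨k, hk⟩ := hDp ⟨d, hd⟩
    refine (hAp.pow_right k).of_dvd (Subgroup.orderOf_dvd_natCard A ha) ?_
    exact orderOf_dvd_of_pow_eq_one (congrArg Subtype.val hk)
  have hAH : ∀ a ∈ A, (a : G) ∈ H → a = 1 := by
    intro a ha haH
    by_contra ha1
    obtain ⟨⟨d, hd⟩, hd1⟩ := Subgroup.ne_bot_iff_exists_ne_one.mp hD₀1
    apply hd1
    have h := Lib.CNGroup.Basic.commute_of_mem_nilpotent hH.1 haH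
      (hle (Subgroup.mem_map_of_mem _ hd)) (by
        rw [Subgroup.coe_subtype, Subgroup.orderOf_coe, Subgroup.orderOf_coe]
        exact hcop a ha d (hD₀le hd))
    refine Subtype.ext (Subgroup.mem_bot.mp ?_)
    rw [← hfpf a ha ha1]
    exact ⟨hD₀le hd, Subgroup.mem_centralizer_singleton_iff.mpr (Subtype.ext h.symm)⟩
  obtain ⟨⟨a, ha⟩, ha1⟩ := Subgroup.ne_bot_iff_exists_ne_one.mp hA1
  have ha1' : a ≠ 1 := fun h => ha1 (Subtype.ext h)
  -- `a` is fixed-point-free on `D`, so `D` consists of commutators and lies in `H`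
  have hDH : ∀ d ∈ D, ((d : X) : G) ∈ H := by
    intro d hd
    let φ : D → D := fun e => ⟨a * e * a⁻¹ * (e : X)⁻¹,
      mul_mem (hDn.conj_mem _ e.2 a) (inv_mem e.2)⟩
    have hinj : Function.Injective φ := by
      intro e₁ e₂ he
      have he' : a * e₁ * a⁻¹ * (e₁ : X)⁻¹ = a * e₂ * a⁻¹ * (e₂ : X)⁻¹ := congrArg Subtype.val he
      refine Subtype.ext (inv_mul_eq_one.mp (Subgroup.mem_bot.mp ?_)).symm
      rw [← hfpf a ha ha1']
      refine ⟨D.mul_mem (D.inv_mem e₂.2) e₁.2, Subgroup.mem_centralizer_singleton_iff.mpr ?_⟩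
      have h2 : a * ((e₂ : X)⁻¹ * e₁) * a⁻¹ = (e₂ : X)⁻¹ * e₁ := by
        calc a * ((e₂ : X)⁻¹ * e₁) * a⁻¹ = (a * e₂ * a⁻¹)⁻¹ * (a * e₁ * a⁻¹ * (e₁ : X)⁻¹) * e₁ := by group
          _ = (a * e₂ * a⁻¹)⁻¹ * (a * e₂ * a⁻¹ * (e₂ : X)⁻¹) * e₁ := by rw [he']
          _ = (e₂ : X)⁻¹ * e₁ := by group
      exact (mul_inv_eq_iff_eq_mul.mp h2).symm
    obtain ⟨e, he⟩ := (Finite.injective_iff_surjective.mp hinj) ⟨d, hd⟩
    have h := hcomm a e
    rwa [show a * (e : X) * a⁻¹ * (e : X)⁻¹ = d from congrArg Subtype.val he] at h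
  obtain ⟨x, hx⟩ : ∃ x : X, x ∉ D ⊔ A := by
    by_contra h
    push Not at h
    exact hne (top_le_iff.mp fun x _ => h x)
  refine hc x hx a ha ha1' ?_
  have hmem : x * a * x⁻¹ * a⁻¹ ∈ D ⊔ A :=
    mul_mem (hn.conj_mem a (Subgroup.mem_sup_right ha) x) (inv_mem (Subgroup.mem_sup_right ha))
  obtain ⟨d, hd, a', ha', hda⟩ := Subgroup.mem_sup_of_normal_left.mp hmem
  have ha'H : ((a' : X) : G) ∈ H := by
    have h1 := hcomm x a
    rw [← hda, Subgroup.coe_mul] at h1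
    exact (H.mul_mem_cancel_left (hDH d hd)).mp h1
  rw [← hda, hAH a' ha' ha'H, mul_one]
  exact hd


end Cfsg.Agent.S1478
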