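import Cfsg.Statements.S1483
import Cfsg.Agent.Lib.CNGroup.MinSimple

set_option autoImplicit false
open Cfsg

namespace Cfsg.Agent.S1483

/-- Let G be a minimal simple group of odd order in which every non-identity element has nilpotent centralizer. Then any two nilpotent subgroups each contained in no larger nilpotent subgroup are either conjugate or of coprime orders; and for primes p, q, r: if some elements x, y ≠ 1 of p-power and q-power order commute, and some elements y', z ≠ 1 of q-power and r-power order commute, then some elements of p-power and r-power order, both ≠ 1, commute. -/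
theorem result {G : Type*} [Group G] [Finite G] (hG : Cfsg.IsMinSimpleOddOrder G) (hCN : Cfsg.IsCNGroup G) :
    (∀ H₁ H₂ : Subgroup G, (Group.IsNilpotent ↥H₁ ∧ ∀ L : Subgroup G, Group.IsNilpotent L → H₁ ≤ L → L = H₁) → (Group.IsNilpotent ↥H₂ ∧ ∀ L : Subgroup G, Group.IsNilpotent L → H₂ ≤ L → L = H₂) → (∃ g : G, H₂ = H₁.map (MulAut.conj g).toMonoidHom) ∨ (Nat.card H₁).Coprime (Nat.card H₂)) ∧
      ∀ (p q r : ℕ), p.Prime → q.Prime → r.Prime → ∀ (x y y' z : G), x ≠ 1 → y ≠ 1 → y' ≠ 1 → z ≠ 1 →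
        IsPGroup p (Subgroup.zpowers x) → IsPGroup q (Subgroup.zpowers y) → IsPGroup q (Subgroup.zpowers y') → IsPGroup r (Subgroup.zpowers z) →
        x * y = y * x → y' * z = z * y' →
        ∃ x' z' : G, x' ≠ 1 ∧ z' ≠ 1 ∧ IsPGroup p (Subgroup.zpowers x') ∧ IsPGroup r (Subgroup.zpowers z') ∧ x' * z' = z' * x' := by
  refine ⟨fun H₁ H₂ h1 h2 => ?_, ?_⟩
  · by_cases hc : (Nat.card H₁).Coprime (Nat.card H₂)
    · exact Or.inr hc
    · obtain ⟨p, hp, hd1, hd2⟩ := Nat.Prime.not_coprime_iff_dvd.mp hc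
      exact Or.inl (Lib.CNGroup.MinSimple.conj_of_common_prime hG hCN h1 h2 hp hd1 hd2)
  intro p q r hp hq hr x y y' z hx hy hy' hz hxp hyq hy'q hzr hxy hyz
  have dvd : ∀ {s : ℕ} {w : G}, s.Prime → w ≠ 1 → IsPGroup s (Subgroup.zpowers w) →
      ∀ {K : Subgroup G}, w ∈ K → s ∣ Nat.card K := by
    intro s w hs hw hws K hwK
    haveI : Fact s.Prime := ⟨hs⟩
    haveI : Nontrivial (Subgroup.zpowers w) :=
      (Subgroup.nontrivial_iff_ne_bot _).mpr (by rw [Ne, Subgroup.zpowers_eq_bot]; exact hw)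
    exact (Lib.CNGroup.MinSimple.prime_dvd_card hws).trans
      (Subgroup.card_dvd_of_le (Subgroup.zpowers_le.mpr hwK))
  obtain ⟨H₁, h1, hle1⟩ := Lib.CNGroup.MaxNilpotent.exists_maxNilpotent_ge (hCN x hx)
  obtain ⟨H₂, h2, hle2⟩ := Lib.CNGroup.MaxNilpotent.exists_maxNilpotent_ge (hCN z hz)
  have hp1 := dvd hp hx hxp (hle1 (Subgroup.mem_centralizer_singleton_iff.mpr rfl))
  have hq1 := dvd hq hy hyq (hle1 (Subgroup.mem_centralizer_singleton_iff.mpr hxy.symm))
  have hr2 := dvd hr hz hzr (hle2 (Subgroup.mem_centralizer_singleton_iff.mpr rfl))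
  have hq2 := dvd hq hy' hy'q (hle2 (Subgroup.mem_centralizer_singleton_iff.mpr hyz))
  obtain ⟨g, hg⟩ := Lib.CNGroup.MinSimple.conj_of_common_prime hG hCN h1 h2 hq hq1 hq2
  have hr1 : r ∣ Nat.card H₁ := by
    rwa [hg, Subgroup.card_map_of_injective (MulAut.conj g).injective] at hr2
  obtain ⟨x', hx', hxo, -⟩ := Lib.CNGroup.MaxNilpotent.exists_central_orderOf h1.1 hp hp1
  obtain ⟨z', hz', hzo, hzc⟩ := Lib.CNGroup.MaxNilpotent.exists_central_orderOf h1.1 hr hr1
  refine ⟨x', z', fun h => hp.ne_one (by rw [← hxo, h, orderOf_one]),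
    fun h => hr.ne_one (by rw [← hzo, h, orderOf_one]),
    IsPGroup.of_card (n := 1) (by rw [Nat.card_zpowers, hxo, pow_one]),
    IsPGroup.of_card (n := 1) (by rw [Nat.card_zpowers, hzo, pow_one]), hzc x' hx'⟩


end Cfsg.Agent.S1483
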