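import Cfsg.Statements.S1484
import Cfsg.Agent.Lib.CNGroup.MinSimple

set_option autoImplicit false
open Cfsg

namespace Cfsg.Agent.S1484

/-- Let G be a minimal simple group of odd order in which every non-identity element has nilpotent centralizer, and M₁, …, M_k maximal subgroups, pairwise non-conjugate, such that every maximal subgroup is conjugate to some M_i. Let H_i be the largest normal nilpotent Hall subgroup of M_i. Then the orders of the H_i are pairwise coprime, their product is the order of G, and every element of G is conjugate to an element of some H_i. -/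
theorem result {G : Type*} [Group G] [Finite G] (hG : Cfsg.IsMinSimpleOddOrder G) (hCN : Cfsg.IsCNGroup G) (k : ℕ) (Mrep : Fin k → Subgroup G) (hmax : ∀ i, IsCoatom (Mrep i))
    (hnc : ∀ i j, i ≠ j → ∀ g : G, Mrep j ≠ (Mrep i).map (MulAut.conj g).toMonoidHom) (hall : ∀ M : Subgroup G, IsCoatom M → ∃ i, ∃ g : G, M = (Mrep i).map (MulAut.conj g).toMonoidHom) :
    (∀ i j, i ≠ j → (Nat.card (Cfsg.fittingHallOf (Mrep i))).Coprime (Nat.card (Cfsg.fittingHallOf (Mrep j)))) ∧
      ∏ i, Nat.card (Cfsg.fittingHallOf (Mrep i)) = Nat.card G ∧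
      ∀ x : G, ∃ i, ∃ g : G, g * x * g⁻¹ ∈ Cfsg.fittingHallOf (Mrep i) := by
  have hHi : ∀ i, ∃ H, Lib.CNGroup.MaxNilpotent.IsMaxNilpotent H ∧
      Mrep i = Subgroup.normalizer (H : Set G) ∧ Cfsg.fittingHallOf (Mrep i) = H := by
    intro i
    obtain ⟨H, hH, hM⟩ := Lib.CNGroup.MinSimple.exists_of_coatom hG hCN (hmax i)
    exact ⟨H, hH, hM, hM.symm ▸ Lib.CNGroup.MinSimple.fittingHallOf_normalizer hG hCN hH⟩
  choose K hKm hKM hKF using hHi
  simp only [hKF]
  have hcover : ∀ H : Subgroup G, Lib.CNGroup.MaxNilpotent.IsMaxNilpotent H →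
      ∃ i, ∃ g : G, H = (K i).map (MulAut.conj g).toMonoidHom := by
    intro H hH
    obtain ⟨i, g, hg⟩ := hall _ (Lib.CNGroup.MinSimple.normalizer_isCoatom hG hCN hH)
    refine ⟨i, g, ?_⟩
    rw [hKM i, Lib.CNGroup.MinSimple.map_normalizer_conj] at hg
    have h := congrArg Cfsg.fittingHallOf hg
    rwa [Lib.CNGroup.MinSimple.fittingHallOf_normalizer hG hCN hH,
      Lib.CNGroup.MinSimple.fittingHallOf_normalizer hG hCN
        (Lib.CNGroup.MaxNilpotent.isMaxNilpotent_conj (hKm i) g)] at h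
  have hcop : ∀ i j, i ≠ j → (Nat.card (K i)).Coprime (Nat.card (K j)) := by
    intro i j hij
    by_contra hc
    obtain ⟨p, hp, hd1, hd2⟩ := Nat.Prime.not_coprime_iff_dvd.mp hc
    obtain ⟨g, hg⟩ := Lib.CNGroup.MinSimple.conj_of_common_prime hG hCN (hKm i) (hKm j) hp hd1 hd2
    apply hnc i j hij g
    rw [hKM i, hKM j, hg, Lib.CNGroup.MinSimple.map_normalizer_conj]
  refine ⟨hcop, Nat.dvd_antisymm ?_ ?_, fun x => ?_⟩
  · refine Finset.prod_dvd_of_isRelPrime (fun i _ j _ hij => ?_) fun i _ => Subgroup.card_subgroup_dvd_card _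
    exact Nat.coprime_iff_isRelPrime.mp (hcop i j hij)
  · refine (Nat.dvd_iff_prime_pow_dvd_dvd _ _).mpr fun p k hp hd => ?_
    haveI : Fact p.Prime := ⟨hp⟩
    rcases Nat.eq_zero_or_pos k with rfl | hk
    · simp
    obtain ⟨S⟩ := (inferInstance : Nonempty (Sylow p G))
    obtain ⟨H, hH, hle⟩ := Lib.CNGroup.MaxNilpotent.exists_maxNilpotent_ge
      (K := (S : Subgroup G)) S.isPGroup'.isNilpotent
    obtain ⟨i, g, hg⟩ := hcover H hH
    have h1 : p ^ k ∣ Nat.card (S : Subgroup G) := by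
      rw [Sylow.card_eq_multiplicity]
      exact pow_dvd_pow p ((hp.pow_dvd_iff_le_factorization Nat.card_pos.ne').mp hd)
    have h2 : Nat.card H = Nat.card (K i) := by
      rw [hg, Subgroup.card_map_of_injective (MulAut.conj g).injective]
    exact h1.trans ((Subgroup.card_dvd_of_le hle).trans
      (h2 ▸ Finset.dvd_prod_of_mem _ (Finset.mem_univ i)))
  · obtain ⟨H, hH, hle⟩ := Lib.CNGroup.MaxNilpotent.exists_maxNilpotent_ge
      (K := Subgroup.zpowers x) (Lib.CNGroup.Basic.isNilpotent_of_commute fun _ _ _ _ a b _ _ _ _ _ =>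
        (IsCyclic.commGroup (α := Subgroup.zpowers x)).mul_comm a b)
    obtain ⟨i, g, hg⟩ := hcover H hH
    refine ⟨i, g⁻¹, ?_⟩
    rw [inv_inv]
    exact Lib.CNGroup.MaxNilpotent.mem_conj_map.mp (hg ▸ hle (Subgroup.mem_zpowers x))


end Cfsg.Agent.S1484
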