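import Cfsg.Statements.S1485
import Cfsg.Agent.Lib.Isometry.Clifford
-- import your own Cfsg.Agent.* helpers here

set_option autoImplicit false
open Cfsg

namespace Cfsg.Agent.S1485

open scoped ComplexConjugate
open Cfsg.Agent.Lib.Clifford.Basic (conjC inertia)


/-- Let H be a normal subgroup of the finite group G and θ an irreducible character of H. On H, the function induced from θ equals r times the sum of the distinct G-conjugates of θ, where r is the number of elements of G fixing θ under conjugation divided by the order of H (the index of H in the inertia group). -/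
theorem result {G : Type*} [Group G] [Fintype G] (H : Subgroup G) [hN : H.Normal] (θ : H → ℂ) (hθ : Cfsg.IsIrrCharacter H θ) : (fun h : H => Cfsg.indFun H θ h) = ((Nat.card {g : G // ∀ h : H, θ ⟨g * h * g⁻¹, hN.conj_mem h h.2 g⟩ = θ h} : ℂ) / (Nat.card H : ℂ)) • ∑ᶠ ψ ∈ {ψ : H → ℂ | ∃ g : G, ψ = fun h : H => θ ⟨g * h * g⁻¹, hN.conj_mem h h.2 g⟩}, ψ := by
  classical
  have hcard : Nat.card {g : G // ∀ h : H, θ ⟨g * h * g⁻¹, hN.conj_mem h h.2 g⟩ = θ h} =
      Nat.card (inertia H θ) :=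
    Nat.card_congr (Equiv.subtypeEquivRight fun g =>
      Cfsg.Agent.Lib.Isometry.Clifford.conj_eq_iff_mem_inertia H θ g)
  have hset : {ψ : H → ℂ | ∃ g : G, ψ = fun h : H => θ ⟨g * h * g⁻¹, hN.conj_mem h h.2 g⟩} =
      ↑(Finset.univ.image fun g : G => conjC H g θ) := by
    ext ψ
    simp only [Finset.coe_image, Finset.coe_univ, Set.image_univ, Set.mem_range]
    exact ⟨fun ⟨g, h⟩ => ⟨g, h.symm⟩, fun ⟨g, h⟩ => ⟨g, h.symm⟩⟩
  rw [hset, finsum_mem_coe_finset, hcard, Cfsg.Agent.Lib.Clifford.Basic.indFun_restrict_normal,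
    Finset.sum_comp (fun ψ : H → ℂ => ψ) (fun x : G => conjC H x θ), div_eq_inv_mul, mul_smul]
  congr 1
  rw [Finset.smul_sum]
  refine Finset.sum_congr rfl fun ψ hψ => ?_
  rw [← Nat.cast_smul_eq_nsmul ℂ]
  congr 2
  obtain ⟨x₀, -, rfl⟩ := Finset.mem_image.1 hψ
  rw [← Fintype.card_subtype, Nat.card_eq_fintype_card]
  refine Fintype.card_congr ⟨fun x => ⟨x.1 * x₀⁻¹, (Cfsg.Agent.Lib.Clifford.Basic.conjC_eq_conjC_iff H x.1 x₀).1 x.2⟩,
    fun t => ⟨t.1 * x₀, (Cfsg.Agent.Lib.Clifford.Basic.conjC_eq_conjC_iff H (t.1 * x₀) x₀).2 (by simpa using t.2)⟩,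
    fun x => Subtype.ext (by simp), fun t => Subtype.ext (by simp)⟩

end Cfsg.Agent.S1485
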