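import Cfsg.Statements.S1486
import Cfsg.Agent.Lib.Isometry.Clifford
-- import your own Cfsg.Agent.* helpers here

set_option autoImplicit false
open Cfsg

namespace Cfsg.Agent.S1486

open scoped ComplexConjugate
open Cfsg.Agent.Lib.Clifford.Basic (conjC inertia)


/-- Let H be a normal subgroup of the finite group G and θ, φ irreducible characters of H. If φ is a G-conjugate of θ then the functions induced from θ and φ coincide; if φ is not a G-conjugate of θ then the induced functions are orthogonal. -/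
theorem result {G : Type*} [Group G] [Fintype G] (H : Subgroup G) [hN : H.Normal] (θ φ : H → ℂ) (hθ : Cfsg.IsIrrCharacter H θ) (hφ : Cfsg.IsIrrCharacter H φ) : ((∃ g : G, φ = fun h : H => θ ⟨g * h * g⁻¹, hN.conj_mem h h.2 g⟩) → Cfsg.indFun H φ = Cfsg.indFun H θ) ∧ ((¬ ∃ g : G, φ = fun h : H => θ ⟨g * h * g⁻¹, hN.conj_mem h h.2 g⟩) → Cfsg.classInner (Cfsg.indFun H φ) (Cfsg.indFun H θ) = 0) := by
  classical
  refine ⟨?_, fun h => ?_⟩
  · rintro ⟨g, rfl⟩
    funext y
    by_cases hy : y ∈ H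
    · have e := fun (η : H → ℂ) => Cfsg.Agent.Lib.Clifford.Basic.indFun_apply_normal H η ⟨y, hy⟩
      rw [e, e θ]
      congr 1
      refine Fintype.sum_equiv (Equiv.mulLeft g) _ _ fun x => ?_
      show conjC H x (conjC H g θ) _ = conjC H (g * x) θ _
      rw [Cfsg.Agent.Lib.Clifford.Basic.conjC_mul]
    · rw [Cfsg.Agent.Lib.Induced.Basic.indFun_eq_zero_of_not_mem_normal H _ hy,
        Cfsg.Agent.Lib.Induced.Basic.indFun_eq_zero_of_not_mem_normal H _ hy]
  · have h' := Cfsg.Agent.Lib.Induced.Mackey.card_mul_classInner_indFun H hφ hθ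
    have : IsEmpty {g : G // conjC H g θ = φ} := ⟨fun g => h ⟨g.1, g.2.symm⟩⟩
    have e0 : Nat.card {g : G // conjC H g θ = φ} = 0 := Nat.card_of_isEmpty
    rw [e0, Nat.cast_zero, mul_eq_zero] at h'
    exact h'.resolve_left (Cfsg.Agent.Lib.Induced.Basic.subgroup_card_ne_zero H)

end Cfsg.Agent.S1486
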