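import Cfsg.Statements.S1487
import Cfsg.Agent.Lib.Isometry.Clifford
-- import your own Cfsg.Agent.* helpers here

set_option autoImplicit false
open Cfsg

namespace Cfsg.Agent.S1487

open scoped ComplexConjugate
open Cfsg.Agent.Lib.Clifford.Basic (conjC inertia)


/-- Let A ≤ H be normal subgroups of the finite group G and θ an irreducible character of H. Then θ takes the value θ 1 on all of A if and only if the function induced from θ to G takes its value at 1 on all of A. -/
theorem result {G : Type*} [Group G] [Fintype G] (A H : Subgroup G) [A.Normal] [H.Normal] (hAH : A ≤ H) (θ : H → ℂ) (hθ : Cfsg.IsIrrCharacter H θ) : (∀ a : H, (a : G) ∈ A → θ a = θ 1) ↔ (∀ a : G, a ∈ A → Cfsg.indFun H θ a = Cfsg.indFun H θ 1) := by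
  classical
  have hc := Cfsg.Agent.Lib.Characters.Basic.IsCharacter_of_isIrrCharacter hθ
  have hval : ∀ a : G, ∀ ha : a ∈ H, Cfsg.indFun H θ a =
      (Nat.card H : ℂ)⁻¹ * ∑ x : G, conjC H x θ ⟨a, ha⟩ := fun a ha =>
    Cfsg.Agent.Lib.Clifford.Basic.indFun_apply_normal H θ ⟨a, ha⟩
  have h1 : ∀ x : G, conjC H x θ 1 = θ 1 := fun x => by
    rw [Cfsg.Agent.Lib.Clifford.Basic.conjC_apply]; congr 1; ext; simp
  constructor
  · intro h a ha
    rw [hval a (hAH ha), hval 1 H.one_mem]
    congr 1
    refine Finset.sum_congr rfl fun x _ => ?_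
    rw [show (⟨1, H.one_mem⟩ : H) = 1 from rfl, h1, Cfsg.Agent.Lib.Clifford.Basic.conjC_apply]
    exact h _ ((inferInstance : A.Normal).conj_mem a ha x)
  · intro h a ha
    obtain ⟨d, hd⟩ := Cfsg.Agent.Lib.Characters.Basic.exists_degree hc
    have he := h (a : G) ha
    rw [hval _ a.2, hval 1 H.one_mem] at he
    have hs : ∑ x : G, conjC H x θ a = ∑ x : G, (d : ℂ) := by
      rw [← Subtype.coe_eta a a.2, mul_left_cancel₀ (inv_ne_zero (Cfsg.Agent.Lib.Induced.Basic.subgroup_card_ne_zero H)) he]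
      exact Finset.sum_congr rfl fun x _ => (h1 x).trans hd
    have hle : ∀ x : G, ‖conjC H x θ a‖ ≤ (d : ℝ) := fun x => by
      rw [Cfsg.Agent.Lib.Clifford.Basic.conjC_apply]
      refine (Cfsg.Agent.Lib.Characters.Basic.norm_apply_le hc _).trans ?_
      rw [hd, Complex.norm_natCast]
    have hre : ∀ x ∈ (Finset.univ : Finset G), 0 ≤ (d : ℝ) - (conjC H x θ a).re := fun x _ =>
      sub_nonneg.2 ((Complex.re_le_norm _).trans (hle x))
    have hz := (Finset.sum_eq_zero_iff_of_nonneg hre).1 (by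
      have := congrArg Complex.re hs
      simp only [Complex.re_sum, Complex.natCast_re] at this
      rw [Finset.sum_sub_distrib, this, sub_self]) 1 (Finset.mem_univ _)
    rw [Cfsg.Agent.Lib.Clifford.Basic.conjC_one, sub_eq_zero] at hz
    have hn := hle 1
    rw [Cfsg.Agent.Lib.Clifford.Basic.conjC_one] at hn
    rw [hd]
    refine Complex.ext (by rw [Complex.natCast_re]; exact hz.symm) ?_
    rw [Complex.natCast_im]
    have h2 : Complex.normSq (θ a) ≤ (d : ℝ) ^ 2 := by
      rw [Complex.normSq_eq_norm_sq]; exact pow_le_pow_left₀ (norm_nonneg _) hn 2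
    rw [Complex.normSq_apply, ← hz] at h2
    nlinarith [mul_self_nonneg (θ a).im]

end Cfsg.Agent.S1487
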