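import Cfsg.Statements.S1488
import Mathlib
import Cfsg.Agent.Lib.Induced.Basic
-- import your own Cfsg.Agent.* helpers here

set_option autoImplicit false
open Cfsg

namespace Cfsg.Agent.S1488

/-- Let A be a normal subgroup of the finite group G contained in the subgroup H, let θ be a function on H and θ₁ a function on the image of H in G ⧸ A whose composite with the projection is θ. Then the function induced from θ₁ to G ⧸ A, composed with the projection G → G ⧸ A, equals the function induced from θ to G. -/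
theorem result {G : Type*} [Group G] [Fintype G] (A H : Subgroup G) [A.Normal] (hAH : A ≤ H) [Fintype (G ⧸ A)] [Fintype ↥(H.map (QuotientGroup.mk' A))] (θ : H → ℂ) (θ₁ : ↥(H.map (QuotientGroup.mk' A)) → ℂ) (hθ : ∀ x : H, θ₁ ⟨QuotientGroup.mk' A x, Subgroup.mem_map_of_mem _ x.2⟩ = θ x) (g : G) : Cfsg.indFun (H.map (QuotientGroup.mk' A)) θ₁ (QuotientGroup.mk' A g) = Cfsg.indFun H θ g := by
  classical
  have hmem : ∀ y : G, (QuotientGroup.mk' A) y ∈ H.map (QuotientGroup.mk' A) ↔ y ∈ H := by
    intro y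
    refine ⟨?_, Subgroup.mem_map_of_mem _⟩
    rintro ⟨x, hx, e⟩
    have := QuotientGroup.eq.1 (show (x : G ⧸ A) = y from e)
    simpa using H.mul_mem hx (hAH this)
  have hext : ∀ y : G, Cfsg.extendByZero (H.map (QuotientGroup.mk' A)) θ₁ ((QuotientGroup.mk' A) y) = Cfsg.extendByZero H θ y := by
    intro y
    by_cases hy : y ∈ H
    · rw [Cfsg.Agent.Lib.Induced.Basic.extendByZero_of_mem H θ hy,
        Cfsg.Agent.Lib.Induced.Basic.extendByZero_of_mem _ θ₁ ((hmem y).2 hy)]
      exact hθ ⟨y, hy⟩
    · rw [Cfsg.Agent.Lib.Induced.Basic.extendByZero_of_not_mem H θ hy,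
        Cfsg.Agent.Lib.Induced.Basic.extendByZero_of_not_mem _ θ₁ (fun h => hy ((hmem y).1 h))]
  have hsum : ∑ x : G, Cfsg.extendByZero H θ (x⁻¹ * g * x) =
      (Nat.card A : ℂ) * ∑ q : G ⧸ A, Cfsg.extendByZero (H.map (QuotientGroup.mk' A)) θ₁ (q⁻¹ * (QuotientGroup.mk' A) g * q) := by
    rw [← Finset.sum_fiberwise (Finset.univ : Finset G) (fun x => (QuotientGroup.mk' A) x), Finset.mul_sum]
    refine Finset.sum_congr rfl fun q _ => ?_
    rw [Finset.sum_congr rfl (g := fun _ => Cfsg.extendByZero (H.map (QuotientGroup.mk' A)) θ₁ (q⁻¹ * (QuotientGroup.mk' A) g * q)) fun x hx => by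
      rw [← hext, map_mul, map_mul, map_inv, (Finset.mem_filter.1 hx).2]]
    rw [Finset.sum_const, nsmul_eq_mul]
    congr 1
    norm_cast
    obtain ⟨y, rfl⟩ := QuotientGroup.mk'_surjective A q
    rw [Nat.card_eq_fintype_card, Fintype.card]
    refine (Finset.card_bij (fun (a : A) _ => y * a) ?_ ?_ ?_).symm
    · intro a _
      simp only [Finset.mem_filter, Finset.mem_univ, true_and]
      exact (QuotientGroup.eq.2 (by simp)).symm
    · intro a _ b _ h; exact Subtype.ext (mul_left_cancel h)
    · intro x hx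
      simp only [Finset.mem_filter, Finset.mem_univ, true_and] at hx
      exact ⟨⟨y⁻¹ * x, QuotientGroup.eq.1 hx.symm⟩, Finset.mem_univ _, by simp⟩
  have hcard : Nat.card H = Nat.card A * Nat.card (H.map (QuotientGroup.mk' A)) := by
    have h1 := A.card_mul_index
    have h2 : (H.map (QuotientGroup.mk' A)).index = H.index :=
      H.index_map_eq (QuotientGroup.mk'_surjective A) (by rw [QuotientGroup.ker_mk']; exact hAH)
    have h3 := (H.map (QuotientGroup.mk' A)).card_mul_index
    rw [h2, ← Subgroup.index_eq_card] at h3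
    have h4 : Nat.card H * H.index = Nat.card A * Nat.card (H.map (QuotientGroup.mk' A)) * H.index := by
      rw [H.card_mul_index, mul_assoc, h3, h1]
    exact mul_right_cancel₀ H.index_ne_zero_of_finite h4
  unfold Cfsg.indFun
  rw [hsum, hcard, Nat.cast_mul, mul_inv, mul_assoc, mul_left_comm (Nat.card (H.map (QuotientGroup.mk' A)) : ℂ)⁻¹,
    ← mul_assoc, inv_mul_cancel₀ (by exact_mod_cast Nat.card_pos.ne'), one_mul]

end Cfsg.Agent.S1488
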