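import Cfsg.Statements.S1493
import Cfsg.Agent.Lib.BC78.PowChar
import Cfsg.Agent.Lib.Characters.Complete

set_option autoImplicit false
open Cfsg
open Cfsg.Agent.Lib.Induced.Basic Cfsg.Agent.Lib.Characters.Basic Cfsg.Agent.Lib.Characters.Complete

namespace Cfsg.Agent.S1493

/-- Let G be a finite group of order a * b with a and b coprime, let k be coprime to a, and let χ be a character of G. Then there is a character χ' of G such that χ'(g) = χ(g ^ k) whenever the order of g divides a and χ'(g) = χ(g) whenever the order of g is coprime to a; moreover χ' is irreducible if χ is. -/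
theorem result {G : Type*} [Group G] [Finite G] (a b k : ℕ) (hab : Nat.card G = a * b) (hcop : Nat.Coprime a b) (hk : Nat.Coprime k a) (χ : G → ℂ) (hχ : Cfsg.IsCharacter G χ) : ∃ χ' : G → ℂ, Cfsg.IsCharacter G χ' ∧ (Cfsg.IsIrrCharacter G χ → Cfsg.IsIrrCharacter G χ') ∧ (∀ g : G, orderOf g ∣ a → χ' g = χ (g ^ k)) ∧ (∀ g : G, Nat.Coprime (orderOf g) a → χ' g = χ g) := by
  classical
  haveI := Fintype.ofFinite G
  haveI := Fintype.ofFinite (Cfsg.IrrCharacter G)
  set k' : ℕ := (Nat.chineseRemainder hcop k 1).1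
  obtain ⟨h1, h2⟩ : k' ≡ k [MOD a] ∧ k' ≡ 1 [MOD b] := (Nat.chineseRemainder hcop k 1).2
  have hk' : k'.Coprime (Nat.card G) := by
    rw [hab]
    refine Nat.Coprime.mul_right ?_ ?_
    · rw [Nat.Coprime, Nat.ModEq.gcd_eq h1]; exact hk
    · rw [Nat.Coprime, Nat.ModEq.gcd_eq h2, Nat.gcd_one_left]
  refine ⟨fun g => χ (g ^ k'), ?_,
    fun h => Cfsg.Agent.Lib.BC78.PowChar.isIrrCharacter_pow h hk', fun g hg => ?_, fun g hg => ?_⟩
  · have hc : ∀ φ : Cfsg.IrrCharacter G, ∃ n : ℕ, Cfsg.classInner χ φ = n := fun φ =>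
      exists_classInner_nat hχ (isCharacter_irr φ)
    choose n hn using hc
    have h := classFunction_eq_sum (isClassFunction_of_isCharacter hχ)
    have e : (fun g => χ (g ^ k')) =
        ∑ φ : Cfsg.IrrCharacter G, n φ • (fun g => (φ : G → ℂ) (g ^ k')) := by
      funext g
      conv_lhs => rw [h]
      simp [Finset.sum_apply, hn]
    rw [e]
    exact isCharacter_sum _ fun φ _ => isCharacter_nsmul
      (IsCharacter_of_isIrrCharacter (Cfsg.Agent.Lib.BC78.PowChar.isIrrCharacter_pow φ.2 hk')) _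
  · show χ (g ^ k') = χ (g ^ k)
    rw [pow_eq_pow_iff_modEq.2 (h1.of_dvd hg)]
  · show χ (g ^ k') = χ g
    have hgb : orderOf g ∣ b := hg.dvd_of_dvd_mul_left (hab ▸ orderOf_dvd_natCard g)
    conv_rhs => rw [← pow_one g]
    rw [pow_eq_pow_iff_modEq.2 (h2.of_dvd hgb)]

end Cfsg.Agent.S1493
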