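import Cfsg.Statements.S1507
import Cfsg.Agent.Lib.CyclicTI.Family
import Cfsg.Agent.Lib.CyclicTI.Count

set_option autoImplicit false
open Cfsg
open Cfsg.Agent.Lib.CyclicTI Cfsg.Agent.Lib.Induced.Basic Cfsg.Agent.Lib.Characters.Basic

namespace Cfsg.Agent.S1507

open Classical in
/-- Let W₁, W₂ ≤ G form a self-normalising cyclic subgroup W = W₁ ⊔ W₂ of odd order with Nat.card W₁ < Nat.card W₂, and χ an orthonormal family of irreducible characters of G up to sign, indexed by the linear characters ω of W, with χ_1 = 1, χ_ω = ω on W outside W₁ ∪ W₂, and the induction identity for (1 − φ)(1 − ψ). Let θ be a class function of G vanishing on W outside W₁ ∪ W₂, and suppose fewer than 2 · Nat.card W₁ linear characters ω of W have ⟨θ, χ ω⟩ ≠ 0. Then one of: all ⟨θ, χ ω⟩ vanish; or there are ψ₀ and a with ⟨θ, χ ω⟩ = a when ω ψ₀⁻¹ is trivial on W₂ and 0 otherwise; or there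 are φ₀ and a with ⟨θ, χ ω⟩ = a when ω φ₀⁻¹ is trivial on W₁ and 0 otherwise. -/
theorem result {G : Type*} [Group G] [Fintype G] (W₁ W₂ : Subgroup G) (hW : Cfsg.IsSelfNormalizingCyclic W₁ W₂) (hodd : Odd (Nat.card ↥(W₁ ⊔ W₂))) (χ : (↥(W₁ ⊔ W₂) →* ℂˣ) → (G → ℂ)) (hχ : Cfsg.IsCyclicTIFamily W₁ W₂ χ) (hlt : Nat.card W₁ < Nat.card W₂) (θ : G → ℂ) (hθ : Cfsg.IsClassFunction G θ) (hθV : ∀ w : ↥(W₁ ⊔ W₂), (w : G) ∉ W₁ → (w : G) ∉ W₂ → θ w = 0) (hfew : Nat.card {ω : ↥(W₁ ⊔ W₂) →* ℂˣ // Cfsg.classInner θ (χ ω) ≠ 0} < 2 * Nat.card W₁) : (∀ ω, Cfsg.classInner θ (χ ω) = 0) ∨ (∃ (ψ₀ : ↥(W₁ ⊔ W₂) →* ℂˣ) (a : ℂ), ∀ ω, Cfsg.classInner θ (χ ω) = if (∀ w : ↥(W₁ ⊔ W₂), (w : G) ∈ W₂ → (ω * ψ₀⁻¹) w = 1) then a else 0) ∨ (∃ (φ₀ : ↥(W₁ ⊔ W₂) →* ℂˣ) (a : ℂ), ∀ ω, Cfsg.classInner θ (χ ω) = if (∀ w : ↥(W₁ ⊔ W₂), (w : G) ∈ W₁ → (ω * φ₀⁻¹) w = 1) then a else 0) := by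
  classical
  haveI := finite_hom (G := G) (W₁ := W₁) (W₂ := W₂)
  haveI := Fintype.ofFinite (↥(W₁ ⊔ W₂) →* ℂˣ)
  let α := {φ : ↥(W₁ ⊔ W₂) →* ℂˣ // IsP φ}
  let β := {ψ : ↥(W₁ ⊔ W₂) →* ℂˣ // IsQ ψ}
  let a : (↥(W₁ ⊔ W₂) →* ℂˣ) → ℂ := fun ω => Cfsg.classInner θ (χ ω)
  let A : α → ℂ := fun φ => a φ.1
  let B : β → ℂ := fun ψ => a ψ.1 - a 1
  have hcα : Fintype.card α = Nat.card W₁ := by
    rw [Fintype.card_subtype]; exact card_isP hW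
  have hcβ : Fintype.card β = Nat.card W₂ := by
    rw [Fintype.card_subtype]; exact card_isQ hW
  have hval : ∀ (x : α) (y : β), a (x.1 * y.1) = A x + B y := fun x y => by
    simp only [A, B, a]
    linear_combination coef_relation hW hχ hθ hθV x.2 y.2
  have hbij : Function.Bijective (fun z : α × β => z.1.1 * z.2.1) := by
    refine ⟨fun z z' h => ?_, fun ω => ?_⟩
    · obtain ⟨h1, h2⟩ := pair_inj z.1.2 z'.1.2 z.2.2 z'.2.2 h
      exact Prod.ext (Subtype.ext h1) (Subtype.ext h2)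
    · obtain ⟨φ, ψ, hP, hQ, rfl⟩ := exists_decomp hW ω
      exact ⟨(⟨φ, hP⟩, ⟨ψ, hQ⟩), rfl⟩
  obtain ⟨ho1, ho2⟩ := odd_factors hodd
  obtain ⟨m, hm⟩ := ho1
  obtain ⟨n, hn⟩ := ho2
  have t1 := three_le_card hW.1 ⟨m, hm⟩
  have hfew' : (Finset.univ.filter fun z : α × β => A z.1 + B z.2 ≠ 0).card <
      2 * Fintype.card α := by
    rw [hcα, ← Fintype.card_subtype, ← Nat.card_eq_fintype_card]
    refine lt_of_eq_of_lt (Nat.card_congr ((Equiv.ofBijective _ hbij).subtypeEquiv fun z => ?_)) hfew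
    simp only [Equiv.ofBijective_apply]
    rw [← hval]
  rcases Cfsg.Agent.Lib.CyclicTI.Count.few_nonzero A B (by omega) (by omega) hfew' with
    h | ⟨y₀, c, h⟩ | ⟨x₀, c, h⟩
  · left
    intro ω
    obtain ⟨z, rfl⟩ := hbij.2 ω
    exact (hval z.1 z.2).trans (h _ _)
  · refine Or.inr (Or.inl ⟨y₀.1, c, fun ω => ?_⟩)
    obtain ⟨z, rfl⟩ := hbij.2 ω
    refine ((hval z.1 z.2).trans (h _ _)).trans (if_congr ⟨fun e => ?_, fun e => ?_⟩ rfl rfl)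
    · intro w hw
      simp [e, z.1.2 w hw]
    · refine Subtype.ext (hom_ext (fun w hw => (z.2.2 w hw).trans (y₀.2 w hw).symm) fun w hw => ?_)
      have := e w hw
      simpa [z.1.2 w hw, mul_inv_eq_one] using this
  · refine Or.inr (Or.inr ⟨x₀.1, c, fun ω => ?_⟩)
    obtain ⟨z, rfl⟩ := hbij.2 ω
    refine ((hval z.1 z.2).trans (h _ _)).trans (if_congr ⟨fun e => ?_, fun e => ?_⟩ rfl rfl)
    · intro w hw
      simp [e, z.2.2 w hw]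
    · refine Subtype.ext (hom_ext (fun w hw => ?_) fun w hw => (z.1.2 w hw).trans (x₀.2 w hw).symm)
      have := e w hw
      simpa [z.2.2 w hw, mul_inv_eq_one] using this

end Cfsg.Agent.S1507
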