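import Cfsg.Statements.S1508
import Cfsg.Agent.Lib.CyclicTI.Family
import Cfsg.Agent.Lib.BC78.Galois

set_option autoImplicit false
open Cfsg
open Cfsg.Agent.Lib.CyclicTI Cfsg.Agent.Lib.Induced.Basic Cfsg.Agent.Lib.Characters.Basic
open Cfsg.Agent.Lib.BC78

namespace Cfsg.Agent.S1508

/-- Let W₁, W₂ ≤ G form a self-normalising cyclic subgroup W = W₁ ⊔ W₂ of odd order and χ an orthonormal family of irreducible characters of G up to sign, indexed by the linear characters ω of W, with χ_1 = 1, χ_ω = ω on W outside W₁ ∪ W₂, and the induction identity for (1 − φ)(1 − ψ). Let ω be a linear character of W and g an element of G whose order is coprime to the order of ω. Then χ ω g is an integer. -/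
theorem result {G : Type*} [Group G] [Fintype G] (W₁ W₂ : Subgroup G) (hW : Cfsg.IsSelfNormalizingCyclic W₁ W₂) (hodd : Odd (Nat.card ↥(W₁ ⊔ W₂))) (χ : (↥(W₁ ⊔ W₂) →* ℂˣ) → (G → ℂ)) (hχ : Cfsg.IsCyclicTIFamily W₁ W₂ χ) (ω : ↥(W₁ ⊔ W₂) →* ℂˣ) (g : G) (hg : Nat.Coprime (orderOf g) (orderOf ω)) : ∃ n : ℤ, χ ω g = n := by
  classical
  obtain ⟨f, s, hs, hf, hsf⟩ : ∃ (f : G → ℂ) (s : ℤ), (s = 1 ∨ s = -1) ∧ Cfsg.IsCharacter G f ∧
      χ ω = fun x => (s : ℂ) * f x := by
    rcases hχ.irr_or_neg ω with h | h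
    · exact ⟨_, 1, Or.inl rfl, IsCharacter_of_isIrrCharacter h, funext fun x => by simp⟩
    · exact ⟨_, -1, Or.inr rfl, IsCharacter_of_isIrrCharacter h, funext fun x => by simp⟩
  suffices ∀ σ : Galois.Alg ≃ₐ[ℚ] Galois.Alg,
      ((σ ⟨f g, Galois.mem_alg_of_isIntegral (isIntegral_apply hf g)⟩ : Galois.Alg) : ℂ) = f g by
    obtain ⟨m, hm⟩ := Galois.exists_int_of_fixed (isIntegral_apply hf g) this
    exact ⟨s * m, by rw [hsf]; simp [hm]⟩
  intro σ
  obtain ⟨k, hk, hσ⟩ := Galois.exists_exponent_char (G := G) σ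
  rw [hσ f hf g]
  have hωG : ω ^ Nat.card G = 1 := by
    ext w
    rw [show (ω ^ Nat.card G) w = ω w ^ Nat.card G from rfl, ← map_pow,
      show w ^ Nat.card G = 1 from Subtype.ext (by simp)]
    simp
  set a := orderOf ω with ha
  have haG : a ∣ Nat.card G := orderOf_dvd_of_pow_eq_one hωG
  have hoG : orderOf g ∣ Nat.card G := orderOf_dvd_natCard g
  obtain ⟨t, ht1, ht2⟩ := Nat.chineseRemainder hg.symm 1 k
  have htc : t.Coprime (a * orderOf g) := by
    refine Nat.Coprime.mul_right ?_ ?_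
    · rw [Nat.Coprime, Nat.ModEq.gcd_eq ht1, Nat.gcd_one_left]
    · rw [Nat.Coprime, Nat.ModEq.gcd_eq ht2]
      exact hk.coprime_dvd_right hoG
  haveI : NeZero (Nat.card G) := ⟨Nat.card_pos.ne'⟩
  obtain ⟨u, hu⟩ := ZMod.unitsMap_surjective
    (hg.symm.mul_dvd_of_dvd_of_dvd haG hoG) (ZMod.unitOfCoprime t htc)
  set k' := (u : ZMod (Nat.card G)).val
  set l := ((u⁻¹ : (ZMod (Nat.card G))ˣ) : ZMod (Nat.card G)).val
  have hk' : k'.Coprime (Nat.card G) := ZMod.val_coe_unit_coprime u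
  have hkl : k' * l ≡ 1 [MOD Nat.card G] := by
    rw [← ZMod.natCast_eq_natCast_iff]
    simp [k', l]
  have hkt : k' ≡ t [MOD a * orderOf g] := by
    rw [← ZMod.natCast_eq_natCast_iff]
    have h := congrArg (fun v : (ZMod (a * orderOf g))ˣ => (v : ZMod (a * orderOf g))) hu
    simp only [ZMod.coe_unitOfCoprime] at h
    rw [← h]
    simp [k', ZMod.unitsMap_def, ZMod.castHom_apply, ← ZMod.cast_eq_val]
  have hl : l ≡ 1 [MOD a] := by
    have h1 : k' ≡ 1 [MOD a] := (hkt.of_dvd (Dvd.intro _ rfl)).trans ht1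
    have h2 := hkl.of_dvd haG
    calc l = 1 * l := (one_mul l).symm
      _ ≡ k' * l [MOD a] := (h1.symm.mul_right l)
      _ ≡ 1 [MOD a] := h2
  have hωl : ω ^ l = ω := by
    ext w
    refine congrArg Units.val ?_
    show ω w ^ l = ω w
    conv_rhs => rw [← pow_one (ω w)]
    refine pow_eq_pow_iff_modEq.2 (hl.of_dvd (orderOf_dvd_of_pow_eq_one ?_))
    exact DFunLike.congr_fun (pow_orderOf_eq_one ω) w
  have h := family_pow hW hodd hχ hk' hkl ω g
  rw [hωl, show g ^ k' = g ^ k from pow_eq_pow_iff_modEq.2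
    ((hkt.of_dvd (Dvd.intro_left _ rfl)).trans ht2)] at h
  rw [hsf] at h
  rcases hs with q | q <;> subst q
  · simpa using h
  · simpa using h

end Cfsg.Agent.S1508
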