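import Cfsg.Statements.S1515
import Cfsg.Agent.Lib.Isometry.Coherence
-- import your own Cfsg.Agent.* helpers here

set_option autoImplicit false
open Cfsg

namespace Cfsg.Agent.S1515

/-- Let (S, τ, R) be a coherence system from L to G, χ ∈ S, and ψ an integer combination of S with ⟨χ, ψ⟩ = ⟨conj χ, ψ⟩ = 0. Let τ₁ be a linear isometry on the integer combinations of χ − ψ and χ − conj χ, with virtual-character values, agreeing with τ on integer multiples of χ − conj χ. Then the sum over α ∈ R χ of the squared absolute values of ⟨τ₁(χ − ψ), α⟩ is at least ⟨χ, χ⟩; and if ⟨τ₁(χ − ψ), τ₁(χ − ψ)⟩ minus that sum is at least ⟨ψ, ψ⟩, then the sum equals ⟨χ, χ⟩ and every ⟨τ₁(χ − ψ), α⟩ with α ∈ R χ is 0 or 1. -/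
theorem result {L : Type*} [Group L] [Fintype L] {G : Type*} [Group G] [Fintype G] (S : Set (L → ℂ)) (τ : (L → ℂ) → (G → ℂ)) (R : (L → ℂ) → Finset (G → ℂ)) (hS : Cfsg.IsCoherenceSystem S τ R) (χ : L → ℂ) (hχ : χ ∈ S) (ψ : L → ℂ) (hψ : ψ ∈ Cfsg.zspan S) (h1 : Cfsg.classInner χ ψ = 0) (h2 : Cfsg.classInner (Cfsg.conjFun χ) ψ = 0) (τ₁ : (L → ℂ) → (G → ℂ)) (hτ₁ : Cfsg.IsLinearIsometryOn (Cfsg.zspan {χ - ψ, χ - Cfsg.conjFun χ}) τ₁) (hagree : ∀ n : ℤ, τ₁ (n • (χ - Cfsg.conjFun χ)) = τ (n • (χ - Cfsg.conjFun χ))) : (Cfsg.classInner χ χ).re ≤ ∑ α ∈ R χ, ‖Cfsg.classInner (τ₁ (χ - ψ)) α‖ ^ 2 ∧ ((Cfsg.classInner ψ ψ).re ≤ (Cfsg.classInner (τ₁ (χ - ψ)) (τ₁ (χ - ψ))).re - ∑ α ∈ R χ, ‖Cfsg.classInner (τ₁ (χ - ψ)) α‖ ^ 2 → (∑ α ∈ R χ, ‖Cfsg.classInner (τ₁ (χ - ψ)) α‖ ^ 2 = (Cfsg.classInner χ χ).re ∧ ∀ α ∈ R χ, Cfsg.classInner (τ₁ (χ - ψ)) α = 0 ∨ Cfsg.classInner (τ₁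 (χ - ψ)) α = 1)) := by
  classical
  obtain ⟨n, -, hn, -, -⟩ := Cfsg.Agent.Lib.Isometry.Coherence.sys_norm hS hχ
  have m1 : χ - ψ ∈ Cfsg.zspan {χ - ψ, χ - Cfsg.conjFun χ} := Submodule.subset_span (by simp)
  have m2 : χ - Cfsg.conjFun χ ∈ Cfsg.zspan {χ - ψ, χ - Cfsg.conjFun χ} :=
    Submodule.subset_span (by simp)
  have e1 : τ₁ (χ - Cfsg.conjFun χ) = τ (χ - Cfsg.conjFun χ) := by simpa using hagree 1
  set v := τ₁ (χ - ψ) with hv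
  have h1' : Cfsg.classInner ψ χ = 0 := by
    rw [← Cfsg.Agent.Lib.Induced.Basic.classInner_conj_symm, h1, map_zero]
  have h2' : Cfsg.classInner ψ (Cfsg.conjFun χ) = 0 := by
    rw [← Cfsg.Agent.Lib.Induced.Basic.classInner_conj_symm, h2, map_zero]
  have hin : Cfsg.classInner v (τ (χ - Cfsg.conjFun χ)) = (n : ℂ) := by
    rw [← e1, hv, hτ₁.2.2.1 _ m1 _ m2, Cfsg.Agent.Lib.Induced.Basic.classInner_sub_left,
      Cfsg.Agent.Lib.Induced.Basic.classInner_sub_right, Cfsg.Agent.Lib.Induced.Basic.classInner_sub_right,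
      hn, Cfsg.Agent.Lib.Isometry.Coherence.sys_orth_conj hS hχ, h1', h2']
    ring
  obtain ⟨x, hx, hge, hsum, hres⟩ :=
    Cfsg.Agent.Lib.Isometry.Coherence.sys_project hS hχ (hτ₁.2.2.2 _ m1) hin
  have hS2 : ∑ α ∈ R χ, ‖Cfsg.classInner v α‖ ^ 2 = ((∑ α ∈ R χ, x α ^ 2 : ℤ) : ℝ) := by
    push_cast
    exact Finset.sum_congr rfl fun α hα => by rw [hx α hα]; simp [sq_abs]
  have hnR : (Cfsg.classInner χ χ).re = (((n : ℤ)) : ℝ) := by rw [hn]; simp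
  refine ⟨by rw [hS2, hnR]; exact_mod_cast hge, fun h => ?_⟩
  have hvv : (Cfsg.classInner v v).re = (Cfsg.classInner χ χ).re + (Cfsg.classInner ψ ψ).re := by
    rw [hv, hτ₁.2.2.1 _ m1 _ m1, Cfsg.Agent.Lib.Induced.Basic.classInner_sub_left,
      Cfsg.Agent.Lib.Induced.Basic.classInner_sub_right, Cfsg.Agent.Lib.Induced.Basic.classInner_sub_right,
      h1, h1']
    simp
  rw [hS2, hvv, hnR] at h
  have hle : ∑ α ∈ R χ, x α ^ 2 ≤ (n : ℤ) := by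
    have : ((∑ α ∈ R χ, x α ^ 2 : ℤ) : ℝ) ≤ (((n : ℤ)) : ℝ) := by linarith
    exact Int.cast_le.1 this
  refine ⟨by rw [hS2, hnR, le_antisymm hle hge], fun α hα => ?_⟩
  rcases Cfsg.Agent.Lib.Isometry.Coherence.zero_one_of_sum_eq (hsum.symm ▸ hle) α hα with e | e
  · exact Or.inl (by rw [hx α hα, e]; simp)
  · exact Or.inr (by rw [hx α hα, e]; simp)

end Cfsg.Agent.S1515
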