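import Cfsg.Statements.S1522
import Cfsg.Agent.Lib.Isometry.KernelCoherence
import Cfsg.Agent.Lib.Isometry.Iterate
import Cfsg.Agent.Lib.OddOrder.PF9Induced
import Cfsg.Agent.Lib.Characters.Kernel
import Cfsg.Agent.Lib.Characters.Degree
-- import your own Cfsg.Agent.* helpers here

set_option autoImplicit false
open Cfsg

namespace Cfsg.Agent.S1522

open Cfsg.Agent.Lib Cfsg.Agent.Lib.Isometry
open scoped commutatorElement

/-- Let K be a nilpotent normal subgroup of the finite group L of odd order with [K,K] < K < L and L/[K,K] a Frobenius group with kernel K/[K,K] (elements of K outside [K,K] are centralised modulo [K,K] only from inside K); let (S, τ, R) be a coherence system from L to G with S the functions induced from non-principal irreducible characters of K. Let Z be a nontrivial normal subgroup of L contained in the centre of K, and suppose every member of S outside S(Z) is an irreducible character of L. Then S minus S(Z) is the set of irreducible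 characters χ of L with χ z ≠ χ 1 for some z ∈ Z, and it is coherent. -/
theorem result {L : Type*} [Group L] [Fintype L] {G : Type*} [Group G] [Fintype G] (K : Subgroup L) [hK : K.Normal] (hsolv : Group.IsSolvable K) (τ : (L → ℂ) → (G → ℂ)) (R : (L → ℂ) → Finset (G → ℂ)) (hS : Cfsg.IsCoherenceSystem (Cfsg.inducedIrrAbove K ⊥) τ R) (hodd : Odd (Nat.card L)) (hnil : Group.IsNilpotent K) (hH₁K : ⁅K, K⁆ < K) (hKL : K < ⊤) (hfrob : ∀ k ∈ K, k ∉ ⁅K, K⁆ → ∀ x : L, x * k * x⁻¹ * k⁻¹ ∈ ⁅K, K⁆ → x ∈ K) (Z : Subgroup L) [Z.Normal] (hZ1 : Z ≠ ⊥) (hZK : Z ≤ K) (hZc : ∀ z ∈ Z, ∀ k ∈ K, z * k = k * z) (hirr : ∀ χ ∈ Cfsg.inducedIrrAbove K ⊥ \ Cfsg.inducedIrrAbove K Z, Cfsg.IsIrrCharacter L χ) : Cfsg.inducedIrrAbove K ⊥ \ Cfsg.inducedIrrAbove K Z = {χ | Cfsg.IsIrrCharacter L χ ∧ ∃ z ∈ Z, χ z ≠ χ 1} ∧ Cfsg.IsCoherent (Cfsg.inducedIrrAbove K ⊥ \ Cfsg.inducedIrrAbove K Z) {1}ᶜ τ := by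
  classical
  have hmemR : ∀ φ ∈ Cfsg.inducedIrrAbove K ⊥ \ Cfsg.inducedIrrAbove K Z,
      φ ∈ Cfsg.inducedIrrAbove K ⊥ := fun φ h => h.1
  -- the members are the irreducible characters non-trivial on `Z`
  have hmem : ∀ χ : L → ℂ, χ ∈ Cfsg.inducedIrrAbove K ⊥ \ Cfsg.inducedIrrAbove K Z ↔
      Cfsg.IsIrrCharacter L χ ∧ ∃ z ∈ Z, χ z ≠ χ 1 := by
    intro χ
    constructor
    · intro hχ
      have hi := hirr χ hχ
      refine ⟨hi, ?_⟩
      by_contra hcon
      push Not at hcon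
      obtain ⟨⟨θ, hθ, hne, -, rfl⟩, hnot⟩ := hχ
      refine hnot ⟨θ, hθ, hne, fun a ha => ?_, rfl⟩
      -- `θ` is a constituent of the restriction
      have hres : Cfsg.IsCharacter K (fun k : K => Cfsg.indFun K θ k) :=
        Characters.Basic.isCharacter_comp K.subtype (Characters.Basic.IsCharacter_of_isIrrCharacter hi)
      have hin : Cfsg.classInner (fun k : K => Cfsg.indFun K θ k) θ = 1 := by
        rw [← Induced.Basic.frobenius_reciprocity' K θ (Induced.Basic.isClassFunction_indFun K θ)]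
        exact Characters.Basic.classInner_self_irr ⟨_, hi⟩
      obtain ⟨m, r, hr, hm, -, hdec⟩ := Clifford.Basic.exists_eq_nsmul_add hres ⟨θ, hθ⟩
      have hm1 : m = 1 := by
        rw [show Cfsg.classInner (fun k : K => Cfsg.indFun K θ k) θ = m from hm] at hin
        exact_mod_cast hin
      subst hm1
      rw [one_smul] at hdec
      have hra := congrFun hdec a
      have hr1 := congrFun hdec 1
      simp only [Pi.add_apply, OneMemClass.coe_one] at hra hr1
      rw [hcon _ ha] at hra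
      have hd := Characters.Basic.norm_apply_le (Characters.Basic.IsCharacter_of_isIrrCharacter hθ) a
      have hd' := Characters.Basic.norm_apply_le hr a
      obtain ⟨d, hd1⟩ := Characters.Basic.exists_degree (Characters.Basic.IsCharacter_of_isIrrCharacter hθ)
      obtain ⟨e, he⟩ := Characters.Basic.exists_degree hr
      rw [hd1, Complex.norm_natCast] at hd
      rw [he, Complex.norm_natCast] at hd'
      rw [hd1] at hr1 ⊢
      rw [he] at hr1
      have hre : (θ a).re + (r a).re = (d : ℝ) + e := by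
        have := congrArg Complex.re (hra.symm.trans hr1)
        simpa using this
      have h2 : (θ a).re = d := by
        linarith [Complex.re_le_norm (θ a), Complex.re_le_norm (r a)]
      refine Complex.ext (by simpa using h2) ?_
      by_contra him
      have := Complex.abs_re_lt_norm.2 (by simpa using him)
      rw [h2, abs_of_nonneg (Nat.cast_nonneg d)] at this
      linarith
    · rintro ⟨hi, z, hz, hne⟩
      have hres : Cfsg.IsCharacter K (fun k : K => χ k) :=
        Characters.Basic.isCharacter_comp K.subtype (Characters.Basic.IsCharacter_of_isIrrCharacter hi)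
      haveI := Fintype.ofFinite (Cfsg.IrrCharacter K)
      obtain ⟨θ, hθ, hzne⟩ : ∃ θ : Cfsg.IrrCharacter K,
          Cfsg.classInner (fun k : K => χ k) θ ≠ 0 ∧
            (θ : K → ℂ) ⟨z, hZK hz⟩ ≠ (θ : K → ℂ) 1 := by
        by_contra hcon
        push Not at hcon
        apply hne
        have hexp := Characters.Basic.character_eq_finsum hres
        rw [finsum_eq_sum_of_fintype] at hexp
        have e1 := congrFun hexp ⟨z, hZK hz⟩
        have e2 := congrFun hexp 1
        simp only [Finset.sum_apply, Pi.smul_apply, smul_eq_mul, OneMemClass.coe_one] at e1 e2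
        rw [e1, e2]
        refine Finset.sum_congr rfl fun θ _ => ?_
        by_cases h0 : Cfsg.classInner (fun k : K => χ k) θ = 0
        · rw [h0, zero_mul, zero_mul]
        · rw [hcon θ h0]
      have hne1 : (θ : K → ℂ) ≠ fun _ => 1 := fun e => hzne (by rw [e])
      have hin : Cfsg.indFun K (θ : K → ℂ) ∈
          Cfsg.inducedIrrAbove K ⊥ \ Cfsg.inducedIrrAbove K Z := by
        refine ⟨⟨θ, θ.2, hne1, fun a ha => ?_, rfl⟩, ?_⟩
        · rw [show a = 1 from Subtype.ext (Subgroup.mem_bot.1 ha)]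
        · rintro ⟨η, hη, -, htriv, he⟩
          obtain ⟨g, hg⟩ := OddOrder.PF9Char.conj_of_indFun_eq K θ.2 hη he
          refine hzne ?_
          rw [← hg, Clifford.Basic.conjC_apply, Clifford.Basic.conjC_apply,
            htriv _ (Subgroup.Normal.conj_mem inferInstance z hz g)]
          congr 1
          exact Subtype.ext (by simp)
      have hI := hirr _ hin
      have hcI : Cfsg.classInner (Cfsg.indFun K (θ : K → ℂ)) χ ≠ 0 := by
        rw [Induced.Basic.frobenius_reciprocity K _ (Characters.Basic.isClassFunction_irr ⟨χ, hi⟩)]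
        exact Clifford.Basic.classInner_ne_zero_symm hθ
      have he : Cfsg.indFun K (θ : K → ℂ) = χ := by
        by_contra hne'
        exact hcI (Characters.Basic.classInner_irr_of_ne (χ := ⟨_, hI⟩) (ψ := ⟨χ, hi⟩)
          fun e => hne' (congrArg Subtype.val e))
      exact he ▸ hin
  refine ⟨Set.ext hmem, ?_⟩
  set U : Finset (L → ℂ) := InducedSystem.above K ⊥ \ InducedSystem.above K Z with hU
  have hUeq : (↑U : Set (L → ℂ)) = Cfsg.inducedIrrAbove K ⊥ \ Cfsg.inducedIrrAbove K Z := by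
    rw [hU, Finset.coe_sdiff, InducedSystem.coe_above, InducedSystem.coe_above]
  have hUconj : ∀ φ ∈ U, Cfsg.conjFun φ ∈ U := by
    intro φ h
    obtain ⟨h1, h2⟩ := Finset.mem_sdiff.1 h
    refine Finset.mem_sdiff.2 ⟨InducedSystem.conj_mem K h1, fun hc => h2 ?_⟩
    have := InducedSystem.conj_mem K hc
    rwa [Isometry.Inner.conjFun_conjFun] at this
  -- some character of `L` is not trivial on `Z`
  obtain ⟨χ₀, hχ₀⟩ : ∃ χ, χ ∈ U := by
    obtain ⟨z, hz, hz1⟩ := (Subgroup.bot_or_exists_ne_one Z).resolve_left hZ1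
    obtain ⟨χ, hχ⟩ := Characters.Kernel.exists_apply_ne_degree hz1
    exact ⟨χ, Finset.mem_coe.1 (hUeq ▸ (hmem _).2 ⟨χ.2, z, hz, hχ⟩)⟩
  have hex : ∃ α ∈ Cfsg.zspanOn (↑U : Set (L → ℂ)) {1}ᶜ, α ≠ 0 :=
    Isometry.Coherence.exists_ne_zero_zspanOn hS (hmemR χ₀ (hUeq ▸ Finset.mem_coe.2 hχ₀))
      (Finset.mem_coe.2 hχ₀) (Finset.mem_coe.2 (hUconj _ hχ₀))
  rw [← hUeq]
  by_cases hpp : ∃ p m : ℕ, p.Prime ∧ (⊥ : Subgroup L).relIndex K = p ^ m
  swap
  · haveI : ((⊥ : Subgroup L).subgroupOf K).Normal := by rw [Subgroup.bot_subgroupOf]; infer_instance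
    haveI : Group.IsNilpotent (↥K ⧸ (⊥ : Subgroup L).subgroupOf K) := by
      haveI := hnil
      infer_instance
    refine InducedSystem.coherent_mono ?_ (hUeq.le.trans hmemR) hex
    exact KernelCoherence.coherent_main hsolv hS hodd ⊥ bot_le inferInstance ⁅K, K⁆
      (sup_bot_eq _).symm hH₁K hKL hfrob (Or.inr (Or.inr (Or.inl hpp)))
  obtain ⟨p, b, hp, hb⟩ := hpp
  rw [Subgroup.relIndex_bot_left] at hb
  have hp3 : 3 ≤ p := by
    have hb0 : b ≠ 0 := by
      rintro rfl
      exact hH₁K.ne (le_antisymm hH₁K.le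
        ((Subgroup.card_eq_one.1 (by simpa using hb)).le.trans bot_le))
    have hodd' : Odd p := (hodd.of_dvd_nat (Subgroup.card_subgroup_dvd_card K)).of_dvd_nat
      (hb ▸ dvd_pow_self p hb0)
    obtain ⟨r, hr⟩ := hodd'
    have := hp.two_le
    omega
  have he0 : 0 < K.index := Nat.pos_of_ne_zero Subgroup.index_ne_zero_of_finite
  -- the degrees
  have hdegS : ∀ φ ∈ InducedSystem.above K ⊥, ∃ m : ℕ, φ 1 = (m : ℂ) ∧ ∃ n : ℕ,
      Cfsg.classInner φ φ = n := by
    intro φ hφ
    obtain ⟨θ, hθ, rfl⟩ := Finset.mem_image.1 hφ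
    obtain ⟨m, -, -, hm⟩ := InducedSystem.indFun_one K hθ
    have hc : Cfsg.IsCharacter L (Cfsg.indFun K θ) := Induced.Character.isCharacter_indFun K
      (Characters.Basic.IsCharacter_of_isIrrCharacter ((InducedSystem.mem_theta K).1 hθ).1)
    exact ⟨_, hm, Characters.Basic.exists_classInner_nat hc hc⟩
  choose! d hd n hn using hdegS
  have hUdata : ∀ φ ∈ U, ∃ k : ℕ, d φ = K.index * p ^ k ∧ p ^ (2 * k) ∣ Z.relIndex K := by
    intro φ hφ
    obtain ⟨hφ1, -⟩ := Finset.mem_sdiff.1 hφ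
    obtain ⟨θ, hθ, rfl⟩ := Finset.mem_image.1 hφ1
    obtain ⟨m, hm0, hm, hm'⟩ := InducedSystem.indFun_one K hθ
    have hi := ((InducedSystem.mem_theta K).1 hθ).1
    obtain ⟨m', -, hdvd, hm2⟩ := Characters.Degree.exists_degree_dvd (⟨θ, hi⟩ : Cfsg.IrrCharacter K)
    have hmm : m' = m := by exact_mod_cast hm2.symm.trans hm
    subst hmm
    obtain ⟨k, -, rfl⟩ := (Nat.dvd_prime_pow hp).1 (hb ▸ hdvd)
    refine ⟨k, Nat.cast_injective ((hd _ hφ1).symm.trans hm'), ?_⟩
    have hbnd := Cfsg.Agent.S1492.result θ hi ⊥ ⊤ (Z.subgroupOf K) bot_le le_top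
      (fun c _ b hb => by simp [Subgroup.mem_bot.1 hb])
      (fun z hz c _ => by
        rw [Subgroup.mem_bot]
        have e : z * c = c * z := Subtype.ext (hZc _ hz _ c.2)
        rw [e, mul_inv_cancel_right, mul_inv_cancel])
      (fun b hb => by rw [Subgroup.mem_bot.1 hb])
    rw [hm, Complex.norm_natCast, Subgroup.card_top,
      Nat.card_congr (Subgroup.subgroupOfEquivOfLe hZK).toEquiv] at hbnd
    have hbnd' : (p ^ k) ^ 2 * Nat.card K * Nat.card Z ≤ Nat.card K ^ 2 := by exact_mod_cast hbnd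
    have hKZ : Nat.card Z * Z.relIndex K = Nat.card K := by
      have := Subgroup.relIndex_mul_relIndex (⊥ : Subgroup L) Z K bot_le hZK
      rwa [Subgroup.relIndex_bot_left, Subgroup.relIndex_bot_left] at this
    have hle : (p ^ k) ^ 2 ≤ Z.relIndex K := by
      refine Nat.le_of_mul_le_mul_left (c := Nat.card K * Nat.card Z) ?_
        (Nat.mul_pos (Nat.card_pos (α := K)) (Nat.card_pos (α := Z)))
      calc Nat.card K * Nat.card Z * (p ^ k) ^ 2 = (p ^ k) ^ 2 * Nat.card K * Nat.card Z := by ring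
        _ ≤ Nat.card K ^ 2 := hbnd'
        _ = Nat.card K * Nat.card Z * Z.relIndex K := by rw [mul_assoc, hKZ, sq]
    obtain ⟨s, -, hs⟩ := (Nat.dvd_prime_pow hp).1
      (hb ▸ Dvd.intro_left _ hKZ : Z.relIndex K ∣ p ^ b)
    rw [hs] at hle ⊢
    rw [← pow_mul, mul_comm k 2] at hle
    exact Nat.pow_dvd_pow p ((Nat.pow_le_pow_iff_right hp.one_lt).1 hle)
  choose! k hk hk2 using hUdata
  have hn1 : ∀ φ ∈ U, n φ = 1 := by
    intro φ hφ
    have hi := hirr φ (hUeq ▸ Finset.mem_coe.2 hφ)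
    exact Nat.cast_injective (((hn φ (Finset.mem_sdiff.1 hφ).1).symm.trans
      (Characters.Basic.classInner_self_irr ⟨φ, hi⟩)).trans Nat.cast_one.symm)
  -- the sum of the squares of the degrees
  have hsumb := InducedSystem.sum_sq_norm K hS subset_rfl ⊥ bot_le d n hd hn
  have hsubA : InducedSystem.above K Z ⊆ InducedSystem.above K ⊥ :=
    InducedSystem.above_anti K bot_le
  have hsumz := InducedSystem.sum_sq_norm K hS subset_rfl Z hZK d n
    (fun φ h => hd φ (hsubA h)) (fun φ h => hn φ (hsubA h))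
  rw [← Finset.sum_sdiff hsubA, hsumz, ← hU] at hsumb
  rw [Subgroup.relIndex_bot_left] at hsumb
  have hkey : K.index * (∑ φ ∈ U, p ^ (2 * k φ)) + Z.relIndex K = Nat.card K := by
    have hUsum : ∑ φ ∈ U, ((d φ : ℝ) ^ 2 / (n φ : ℝ)) =
        (K.index : ℝ) ^ 2 * ((∑ φ ∈ U, p ^ (2 * k φ) : ℕ) : ℝ) := by
      rw [Nat.cast_sum, Finset.mul_sum]
      refine Finset.sum_congr rfl fun φ hφ => ?_
      rw [hn1 φ hφ, hk φ hφ]
      push_cast
      ring
    rw [hUsum] at hsumb
    have he : (K.index : ℝ) ≠ 0 := Nat.cast_ne_zero.2 he0.ne'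
    have h4 : (K.index : ℝ) * ((∑ φ ∈ U, p ^ (2 * k φ) : ℕ) : ℝ) + (Z.relIndex K : ℝ) =
        (Nat.card K : ℝ) := mul_left_cancel₀ he (by linear_combination hsumb)
    exact_mod_cast h4
  have hmod := (KernelCoherence.relIndex_modEq_quotient hKL (H₁ := ⁅K, K⁆) (N := ⁅K, K⁆)
    le_rfl hH₁K.le hfrob).2
  have hcop : p.Coprime K.index := by
    refine hp.coprime_iff_not_dvd.2 fun hd' => ?_
    have hr : ⁅K, K⁆.relIndex K ∣ p ^ b := hb ▸ Subgroup.index_dvd_card _
    obtain ⟨s, -, hs⟩ := (Nat.dvd_prime_pow hp).1 hr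
    have hs0 : s ≠ 0 := by
      rintro rfl
      exact hH₁K.ne (le_antisymm hH₁K.le (Subgroup.relIndex_eq_one.1 (by simpa using hs)))
    have h1 : p ^ s ≡ 1 [MOD p] := hs ▸ hmod.of_dvd hd'
    have h0 : p ^ s ≡ 0 [MOD p] := Nat.modEq_zero_iff_dvd.2 (dvd_pow_self p hs0)
    have h2 := Nat.modEq_zero_iff_dvd.1 (h1.symm.trans h0)
    exact hp.one_lt.ne' (Nat.dvd_one.1 h2)
  refine Isometry.Iterate.coherent_pPower (R := R) U (Isometry.Iterate.sys_mono hS
    (hUeq.le.trans hmemR) ⟨χ₀, Finset.mem_coe.2 hχ₀⟩ hUconj)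
    (fun φ hφ => Characters.Basic.classInner_self_irr ⟨φ, hirr φ (hUeq ▸ Finset.mem_coe.2 hφ)⟩)
    K.index p he0 hp3 k (fun φ hφ => by rw [hd φ (Finset.mem_sdiff.1 hφ).1, hk φ hφ]) ?_
  intro φ hφ
  refine (Nat.Coprime.pow_left _ hcop).dvd_of_dvd_mul_left ?_
  refine (Nat.dvd_add_iff_left (hk2 φ hφ)).2 ?_
  rw [hkey]
  refine (hk2 φ hφ).trans ⟨Nat.card Z, ?_⟩
  have := Subgroup.relIndex_mul_relIndex (⊥ : Subgroup L) Z K bot_le hZK
  rw [Subgroup.relIndex_bot_left, Subgroup.relIndex_bot_left] at this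
  rw [← this, mul_comm]

end Cfsg.Agent.S1522
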