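import Cfsg.Statements.S1524
import Cfsg.Agent.Lib.Isometry.SibleyOdd
import Cfsg.Agent.Lib.Isometry.KernelInduced

set_option autoImplicit false
open Cfsg

namespace Cfsg.Agent.S1524

/-- Let G be a finite group and H ≤ L subgroups with L of odd order, H ≠ ⊥ nilpotent and normal in L with a nontrivial complement W₁ in L (H ⊓ W₁ = ⊥, H ⊔ W₁ = L) acting on H without non-identity fixed points (L is a Frobenius group with kernel H), and suppose the underlying set of H is a TI-subset of G whose normaliser is L. Let S be the set of functions on L induced from the non-principal irreducible characters of H. Then (S, L minus 1, induction to G) is coherent. -/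
theorem result {G : Type*} [Group G] [Fintype G] (H L W₁ : Subgroup G) [Fintype L] (hodd : Odd (Nat.card L)) (hHL : H ≤ L) (hW₁L : W₁ ≤ L) (hH1 : H ≠ ⊥) (hW1 : W₁ ≠ ⊥) (hnil : Group.IsNilpotent H) (hHn : ∀ x ∈ L, ∀ h ∈ H, x * h * x⁻¹ ∈ H) (hinf : H ⊓ W₁ = ⊥) (hsup : H ⊔ W₁ = L) (hfpf : ∀ w ∈ W₁, w ≠ 1 → ∀ h ∈ H, w * h = h * w → h = 1) (hTI : Cfsg.IsTISubset (H : Set G)) (hN : Subgroup.normalizer (H : Set G) = L) : Cfsg.IsCoherent (Cfsg.inducedIrrAbove (H.subgroupOf L) ⊥) {1}ᶜ (fun α : L → ℂ => Cfsg.indFun L α) := by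
  classical
  have : (H.subgroupOf L).Normal := ⟨fun h hh x => hHn x x.2 h hh⟩
  have hsup' : H.subgroupOf L ⊔ W₁.subgroupOf L = ⊤ := by
    rw [← Subgroup.subgroupOf_sup hHL hW₁L, hsup, Subgroup.subgroupOf_self]
  have hC := Lib.Isometry.KernelInduced.centralizer_le_of_fpf (H.subgroupOf L) (W₁.subgroupOf L)
    hsup' (fun w hw hw1 h hh he => Subtype.ext (hfpf w hw (fun e => hw1 (Subtype.ext e)) h hh
      (congrArg Subtype.val he)))
  rw [← Lib.Isometry.KernelInduced.coe_layer_eq _ hC]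
  convert Lib.Isometry.SibleyOdd.coherent_odd hHL
    (fun g hg t ht h => hTI g (by rw [hN]; exact hg) t ht h) hC hodd ?_ ?_ using 3
  · rw [Ne, Subgroup.subgroupOf_eq_bot, disjoint_iff, inf_eq_left.2 hHL]
    exact hH1
  · rw [Ne, Subgroup.subgroupOf_eq_top]
    intro hle
    refine hW1 ?_
    rw [← hinf, inf_eq_right.2 (hW₁L.trans hle)]

end Cfsg.Agent.S1524
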