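import Cfsg.Statements.S1529
import Cfsg.Agent.Lib.Isometry.Criterion
-- import your own Cfsg.Agent.* helpers here

set_option autoImplicit false
open Cfsg

namespace Cfsg.Agent.S1529

open Cfsg.Agent.Lib.Isometry.Inner
open Cfsg.Agent.Lib.Induced.Basic (classInner_add_left classInner_add_right classInner_sub_left classInner_sub_right classInner_smul_left classInner_smul_right classInner_conj_symm)
open scoped ComplexConjugate


/-- Let N be a subgroup of the finite group G, S a set of irreducible characters of N with at least two members, and τ₁ a linear isometry on the integer combinations of S with virtual-character values such that τ₁ α vanishes at 1 whenever α ∈ ℤ[S] does. Then there is ε ∈ {1, −1} such that ε • τ₁ χ is an irreducible character of G for every χ ∈ S, and distinct members of S give distinct characters. -/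
theorem result {G : Type*} [Group G] [Fintype G] (N : Subgroup G) [Fintype N] (S : Set (N → ℂ)) (hirr : ∀ χ ∈ S, Cfsg.IsIrrCharacter N χ) (htwo : ∃ χ ∈ S, ∃ ψ ∈ S, χ ≠ ψ) (τ₁ : (N → ℂ) → (G → ℂ)) (hτ₁ : Cfsg.IsLinearIsometryOn (Cfsg.zspan S) τ₁) (h0 : ∀ α ∈ Cfsg.zspan S, α 1 = 0 → τ₁ α 1 = 0) : ∃ ε : ℂ, (ε = 1 ∨ ε = -1) ∧ (∀ χ ∈ S, Cfsg.IsIrrCharacter G (ε • τ₁ χ)) ∧ (∀ χ ∈ S, ∀ ψ ∈ S, τ₁ χ = τ₁ ψ → χ = ψ) := by
  classical
  have hm : ∀ χ ∈ S, χ ∈ Cfsg.zspan S := fun χ h => subset_zspan S h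
  have hf : ∀ χ ∈ S, Cfsg.IsIrrCharacter G (τ₁ χ) ∨ Cfsg.IsIrrCharacter G (-τ₁ χ) := fun χ h =>
    signed_of_norm_one (hτ₁.2.2.2 _ (hm χ h))
      (by rw [hτ₁.2.2.1 _ (hm χ h) _ (hm χ h), classInner_irr_eq (hirr χ h) (hirr χ h), if_pos rfl])
  obtain ⟨χ₀, h₀, -⟩ := htwo
  obtain ⟨ε, hε, hε₀⟩ : ∃ ε : ℂ, (ε = 1 ∨ ε = -1) ∧ Cfsg.IsIrrCharacter G (ε • τ₁ χ₀) := by
    rcases hf χ₀ h₀ with h | h
    · exact ⟨1, Or.inl rfl, by simpa using h⟩
    · exact ⟨-1, Or.inr rfl, by simpa using h⟩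
  refine ⟨ε, hε, fun χ hχ => ?_, fun χ hχ ψ hψ e => ?_⟩
  · by_contra hc
    have hneg : Cfsg.IsIrrCharacter G ((-ε) • τ₁ χ) := by
      rcases hε with rfl | rfl <;> rcases hf χ hχ with h | h <;> first | (simpa using h) | (exact absurd (by simpa using h) hc)
    obtain ⟨p, hp, ep⟩ := Cfsg.Agent.Lib.Characters.Basic.exists_degree_pos ⟨χ, hirr χ hχ⟩
    obtain ⟨q, hq, eq⟩ := Cfsg.Agent.Lib.Characters.Basic.exists_degree_pos ⟨χ₀, hirr χ₀ h₀⟩
    obtain ⟨p', hp', ep'⟩ := Cfsg.Agent.Lib.Characters.Basic.exists_degree_pos ⟨_, hneg⟩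
    obtain ⟨q', hq', eq'⟩ := Cfsg.Agent.Lib.Characters.Basic.exists_degree_pos ⟨_, hε₀⟩
    simp only [Pi.smul_apply, smul_eq_mul] at ep eq ep' eq'
    have hα : ((q : ℤ) : ℂ) • χ - ((p : ℤ) : ℂ) • χ₀ ∈ Cfsg.zspan S :=
      Cfsg.Agent.Lib.Isometry.Coherence.zspan_sub
        (Cfsg.Agent.Lib.Isometry.Coherence.zspan_smul _ (hm χ hχ))
        (Cfsg.Agent.Lib.Isometry.Coherence.zspan_smul _ (hm χ₀ h₀))
    have hα1 := h0 _ hα (by simp [ep, eq]; ring)
    rw [Cfsg.Agent.Lib.Isometry.Criterion.span_iso_sub hτ₁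
        (Cfsg.Agent.Lib.Isometry.Coherence.zspan_smul _ (hm χ hχ))
        (Cfsg.Agent.Lib.Isometry.Coherence.zspan_smul _ (hm χ₀ h₀)),
      Cfsg.Agent.Lib.Isometry.Criterion.span_iso_smul hτ₁ (hm χ hχ),
      Cfsg.Agent.Lib.Isometry.Criterion.span_iso_smul hτ₁ (hm χ₀ h₀)] at hα1
    have h9 : (q : ℂ) * p' + (p : ℂ) * q' = 0 := by
      rw [← ep', ← eq']
      simp only [Pi.sub_apply, Pi.smul_apply, smul_eq_mul] at hα1
      push_cast at hα1
      linear_combination -ε * hα1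
    have h10 : q * p' + p * q' = 0 := by exact_mod_cast h9
    have := Nat.mul_pos hq hp'
    omega
  · have h := hτ₁.2.2.1 _ (hm χ hχ) _ (hm ψ hψ)
    rw [e, classInner_self_signed (hf ψ hψ), classInner_irr_eq (hirr χ hχ) (hirr ψ hψ)] at h
    by_contra hne
    rw [if_neg hne] at h
    exact one_ne_zero h

end Cfsg.Agent.S1529
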