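import Cfsg.Statements.S1531
import Cfsg.Agent.Lib.Isometry.Criterion
-- import your own Cfsg.Agent.* helpers here

set_option autoImplicit false
open Cfsg

namespace Cfsg.Agent.S1531

open Cfsg.Agent.Lib.Isometry.Inner Cfsg.Agent.Lib.Isometry.Coherence Cfsg.Agent.Lib.Isometry.Criterion
open Cfsg.Agent.Lib.Induced.Basic (classInner_add_left classInner_add_right classInner_sub_left classInner_sub_right classInner_smul_left classInner_smul_right classInner_conj_symm)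
open scoped ComplexConjugate


/-- Let N be a subgroup of the finite group G, S a set of irreducible characters of N, and α a linear isometry on the integer combinations of S vanishing at 1 with values virtual characters of G vanishing at 1. Let X, Y ⊆ S be disjoint, each with at least two members, and σ, τ linear isometries on ℤ[X], ℤ[Y] into virtual characters agreeing with α on the members vanishing at 1. Then ⟨σ χ, τ η⟩ = 0 for χ ∈ X, η ∈ Y; and if for some χ₀ ∈ X, η₀ ∈ Y with degrees c = χ₀ 1, e = η₀ 1 one has α (c • η₀ − e • χ₀) = c • τ η₀ − e • σ χ₀, then (X ∪ Y, N minus 1, α) is coherent. -/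
theorem result {G : Type*} [Group G] [Fintype G] (N : Subgroup G) [Fintype N] (S X Y : Set (N → ℂ)) (hirr : ∀ ξ ∈ S, Cfsg.IsIrrCharacter N ξ) (hXS : X ⊆ S) (hYS : Y ⊆ S) (hXY : Disjoint X Y) (hX2 : ∃ a ∈ X, ∃ b ∈ X, a ≠ b) (hY2 : ∃ a ∈ Y, ∃ b ∈ Y, a ≠ b) (α : (N → ℂ) → (G → ℂ)) (hα : Cfsg.IsLinearIsometryOn (Cfsg.zspanOn S {1}ᶜ) α) (hα1 : ∀ θ ∈ Cfsg.zspanOn S {1}ᶜ, α θ 1 = 0) (σ τ : (N → ℂ) → (G → ℂ)) (hσ : Cfsg.IsLinearIsometryOn (Cfsg.zspan X) σ) (hσα : ∀ θ ∈ Cfsg.zspanOn X {1}ᶜ, σ θ = α θ) (hτ : Cfsg.IsLinearIsometryOn (Cfsg.zspan Y) τ) (hτα : ∀ θ ∈ Cfsg.zspanOn Y {1}ᶜ, τ θ = α θ) : (∀ χ ∈ X, ∀ η ∈ Y, Cfsg.classInner (σ χ) (τ η) = 0) ∧ ((∃ χ₀ ∈ X, ∃ η₀ ∈ Y, α (χ₀ 1 • η₀ - η₀ 1 • χ₀) = χ₀ 1 • τ η₀ - η₀ 1 • σ χ₀) → Cfsg.IsCoherent (X ∪ Y) {1}ᶜ α) := by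
  classical
  have hd : ∀ ξ ∈ S, ∃ n : ℕ, 0 < n ∧ ξ 1 = n := fun ξ h =>
    Cfsg.Agent.Lib.Characters.Basic.exists_degree_pos ⟨ξ, hirr ξ h⟩
  have hin : ∀ ξ ∈ S, ∀ η ∈ S, Cfsg.classInner ξ η = if ξ = η then 1 else 0 :=
    fun ξ h η h' => classInner_irr_eq (hirr ξ h) (hirr η h')
  have hσsig : ∀ χ ∈ X, Cfsg.IsIrrCharacter G (σ χ) ∨ Cfsg.IsIrrCharacter G (-σ χ) := fun χ h =>
    signed_of_norm_one (hσ.2.2.2 _ (subset_zspan X h))
      (by rw [hσ.2.2.1 _ (subset_zspan X h) _ (subset_zspan X h), hin χ (hXS h) χ (hXS h), if_pos rfl])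
  have hτsig : ∀ χ ∈ Y, Cfsg.IsIrrCharacter G (τ χ) ∨ Cfsg.IsIrrCharacter G (-τ χ) := fun χ h =>
    signed_of_norm_one (hτ.2.2.2 _ (subset_zspan Y h))
      (by rw [hτ.2.2.1 _ (subset_zspan Y h) _ (subset_zspan Y h), hin χ (hYS h) χ (hYS h), if_pos rfl])
  have diff : ∀ (U : Set (N → ℂ)), U ⊆ S → ∀ a ∈ U, ∀ b ∈ U, ∀ m n : ℕ, a 1 = m → b 1 = n →
      ((n : ℤ) : ℂ) • a - ((m : ℤ) : ℂ) • b ∈ Cfsg.zspanOn U {1}ᶜ := by
    intro U _ a ha b hb m n hm hn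
    refine mem_zspanOn_one.2 ⟨zspan_sub (zspan_smul _ (subset_zspan U ha))
      (zspan_smul _ (subset_zspan U hb)), ?_⟩
    simp [hm, hn]; ring
  have hperp : ∀ χ ∈ X, ∀ η ∈ Y, Cfsg.classInner (σ χ) (τ η) = 0 := by
    intro χ hχ η hη
    rcases signed_cases (hσsig χ hχ) (hτsig η hη) with h | ⟨ε, hε, e, he⟩
    · exact h
    exfalso
    obtain ⟨χ', hχ', hne⟩ : ∃ χ' ∈ X, χ' ≠ χ := by
      obtain ⟨a, ha, b, hb, hab⟩ := hX2
      by_cases h : a = χ
      · exact ⟨b, hb, fun h' => hab (h.trans h'.symm)⟩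
      · exact ⟨a, ha, h⟩
    obtain ⟨η', hη', hne'⟩ : ∃ η' ∈ Y, η' ≠ η := by
      obtain ⟨a, ha, b, hb, hab⟩ := hY2
      by_cases h : a = η
      · exact ⟨b, hb, fun h' => hab (h.trans h'.symm)⟩
      · exact ⟨a, ha, h⟩
    obtain ⟨d, hd0, ed⟩ := hd χ (hXS hχ)
    obtain ⟨d', hd0', ed'⟩ := hd χ' (hXS hχ')
    obtain ⟨k, hk0, ek⟩ := hd η (hYS hη)
    obtain ⟨k', hk0', ek'⟩ := hd η' (hYS hη')
    have hθ := diff X hXS χ hχ χ' hχ' d d' ed ed'
    have hφ := diff Y hYS η hη η' hη' k k' ek ek'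
    have eσ : σ (((d' : ℤ) : ℂ) • χ - ((d : ℤ) : ℂ) • χ') =
        ((d' : ℤ) : ℂ) • σ χ - ((d : ℤ) : ℂ) • σ χ' := by
      rw [span_iso_sub hσ (zspan_smul _ (subset_zspan X hχ)) (zspan_smul _ (subset_zspan X hχ')),
        span_iso_smul hσ (subset_zspan X hχ), span_iso_smul hσ (subset_zspan X hχ')]
    have eτ : τ (((k' : ℤ) : ℂ) • η - ((k : ℤ) : ℂ) • η') =
        ((k' : ℤ) : ℂ) • τ η - ((k : ℤ) : ℂ) • τ η' := by
      rw [span_iso_sub hτ (zspan_smul _ (subset_zspan Y hη)) (zspan_smul _ (subset_zspan Y hη')),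
        span_iso_smul hτ (subset_zspan Y hη), span_iso_smul hτ (subset_zspan Y hη')]
    have hne2 : ∀ a ∈ X, ∀ b ∈ Y, a ≠ b := fun a ha b hb e' =>
      Set.disjoint_left.1 hXY ha (e'.symm ▸ hb)
    have h0 := hα.2.2.1 _ (zspanOn_mono _ hXS hθ) _ (zspanOn_mono _ hYS hφ)
    rw [← hσα _ hθ, ← hτα _ hφ, eσ, eτ] at h0
    simp only [classInner_sub_left, classInner_sub_right, classInner_smul_left, classInner_smul_right,
      map_intCast, hin χ (hXS hχ) η (hYS hη), hin χ (hXS hχ) η' (hYS hη'),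
      hin χ' (hXS hχ') η (hYS hη), hin χ' (hXS hχ') η' (hYS hη'), if_neg (hne2 χ hχ η hη),
      if_neg (hne2 χ hχ η' hη'), if_neg (hne2 χ' hχ' η hη), if_neg (hne2 χ' hχ' η' hη'), he] at h0
    have z1 : Cfsg.classInner (σ χ) (τ η') = 0 := by
      rw [e, classInner_smul_left, hτ.2.2.1 _ (subset_zspan Y hη) _ (subset_zspan Y hη'),
        hin η (hYS hη) η' (hYS hη'), if_neg hne'.symm, mul_zero]
    have hεne : ε ≠ 0 := by rcases hε with rfl | rfl <;> norm_num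
    have z2 : Cfsg.classInner (σ χ') (τ η) = 0 := by
      have h' := hσ.2.2.1 _ (subset_zspan X hχ') _ (subset_zspan X hχ)
      rw [hin χ' (hXS hχ') χ (hXS hχ), if_neg hne, e, classInner_smul_right, mul_eq_zero] at h'
      exact h'.resolve_left (by simpa using hεne)
    rw [z1, z2] at h0
    push_cast at h0
    rcases signed_cases (hσsig χ' hχ') (hτsig η' hη') with h | ⟨ε', hε', e', he'⟩
    · rw [h] at h0
      simp [hεne, hd0'.ne', hk0'.ne'] at h0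
    rw [he'] at h0
    have hσ1 : (d' : ℂ) * σ χ 1 - (d : ℂ) * σ χ' 1 = 0 := by
      have h' := hα1 _ (zspanOn_mono _ hXS hθ)
      rw [← hσα _ hθ, eσ] at h'
      simpa using h'
    have hτ1 : (k' : ℂ) * τ η 1 - (k : ℂ) * τ η' 1 = 0 := by
      have h' := hα1 _ (zspanOn_mono _ hYS hφ)
      rw [← hτα _ hφ, eτ] at h'
      simpa using h'
    rw [e, e', Pi.smul_apply, Pi.smul_apply, smul_eq_mul, smul_eq_mul] at hσ1
    have : (d : ℂ) * ε' * τ η 1 * ((k : ℂ) ^ 2 + (k' : ℂ) ^ 2) = 0 := by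
      linear_combination (k : ℂ) * τ η 1 * h0 - (k : ℂ) * k' * hσ1 + (d : ℂ) * ε' * k' * hτ1
    have hk : (k : ℂ) ^ 2 + (k' : ℂ) ^ 2 ≠ 0 := by
      have : 0 < k ^ 2 + k' ^ 2 := by positivity
      exact_mod_cast this.ne'
    have hε'ne : ε' ≠ 0 := by rcases hε' with rfl | rfl <;> norm_num
    simp [hk, hε'ne, hd0.ne', apply_one_ne_zero_of_signed (hτsig η hη)] at this
  refine ⟨hperp, ?_⟩
  rintro ⟨χ₀, h₀, η₀, h₀', hlink⟩
  have hsub : X ∪ Y ⊆ S := Set.union_subset hXS hYS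
  have hfin : (X ∪ Y).Finite := finite_of_orthogonal
    (fun a ha b hb hne => by rw [hin a (hsub ha) b (hsub hb), if_neg hne])
    (fun a ha e => apply_one_ne_zero_of_signed (Or.inl (hirr a (hsub ha))) (by rw [e]; rfl))
  have hm : ∀ {a : N → ℂ}, a ∈ hfin.toFinset → a ∈ X ∪ Y := fun h => hfin.mem_toFinset.1 h
  rw [← hfin.coe_toFinset]
  set f := fun a => if a ∈ X then σ a else τ a with hf
  have fX : ∀ a ∈ X, f a = σ a := fun a h => if_pos h
  have fY : ∀ a ∈ Y, f a = τ a := fun a h => if_neg fun h' => Set.disjoint_left.1 hXY h' h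
  refine coherent_of_images (fun a ha b hb hne => by rw [hin a (hsub (hm ha)) b (hsub (hm hb)), if_neg hne])
    (fun a ha e => apply_one_ne_zero_of_signed (Or.inl (hirr a (hsub (hm ha)))) (by rw [e]; rfl))
    f ?_ ?_ ?_ ?_
  · intro a ha
    rcases hm ha with h | h
    · rw [fX a h]; exact gen_of_signed (hσsig a h)
    · rw [fY a h]; exact gen_of_signed (hτsig a h)
  · intro a ha b hb
    rcases hm ha with h | h <;> rcases hm hb with h' | h'
    · rw [fX a h, fX b h', hσ.2.2.1 _ (subset_zspan X h) _ (subset_zspan X h')]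
    · rw [fX a h, fY b h', hperp a h b h', hin a (hXS h) b (hYS h'),
        if_neg fun (e' : a = b) => Set.disjoint_left.1 hXY h (e'.symm ▸ h')]
    · rw [fY a h, fX b h', ← classInner_conj_symm, hperp b h' a h, map_zero,
        hin a (hYS h) b (hXS h'), if_neg fun (e' : a = b) => Set.disjoint_left.1 hXY h' (e' ▸ h)]
    · rw [fY a h, fY b h', hτ.2.2.1 _ (subset_zspan Y h) _ (subset_zspan Y h')]
  · obtain ⟨a, ha, b, hb, hab⟩ := hX2
    obtain ⟨m, hm0, em⟩ := hd a (hXS ha)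
    obtain ⟨n, hn0, en⟩ := hd b (hXS hb)
    rw [hfin.coe_toFinset]
    refine ⟨_, zspanOn_mono _ Set.subset_union_left (diff X hXS a ha b hb m n em en), fun e => ?_⟩
    have := congrArg (fun z => Cfsg.classInner z a) e
    simp [classInner_sub_left, classInner_smul_left, hin a (hXS ha) a (hXS ha), hin b (hXS hb) a (hXS ha),
      hab.symm, Cfsg.Agent.Lib.Characters.Basic.classInner_zero_left, hn0.ne'] at this
  · intro T hT θ hθ
    rw [hfin.coe_toFinset] at hθ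
    obtain ⟨hθs, hθ1⟩ := mem_zspanOn_one.1 hθ
    have hθs' : θ ∈ Submodule.span ℤ (X ∪ Y) := hθs
    rw [Submodule.span_union, Submodule.mem_sup] at hθs'
    obtain ⟨p, hp, q, hq, rfl⟩ := hθs'
    obtain ⟨dx, hdx, edx⟩ := hd χ₀ (hXS h₀)
    obtain ⟨ey, hey, eey⟩ := hd η₀ (hYS h₀')
    obtain ⟨Q, hQ⟩ : ∃ Q : ℤ, q 1 = Q := by
      obtain ⟨a, b, ha, hb, e⟩ := gen_zspan (fun z hz => gen_of_irr (hirr z (hYS hz))) hq
      obtain ⟨m, hm⟩ := Cfsg.Agent.Lib.Characters.Basic.exists_degree ha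
      obtain ⟨n, hn⟩ := Cfsg.Agent.Lib.Characters.Basic.exists_degree hb
      exact ⟨(m : ℤ) - n, by rw [e]; simp [hm, hn]⟩
    have hP : p 1 = -(Q : ℂ) := by
      rw [Pi.add_apply, hQ] at hθ1; linear_combination hθ1
    set A1 := ((dx : ℤ) : ℂ) • p - ((-Q : ℤ) : ℂ) • χ₀ with hA1
    set A2 := ((ey : ℤ) : ℂ) • q - (Q : ℂ) • η₀ with hA2
    set A3 := χ₀ 1 • η₀ - η₀ 1 • χ₀ with hA3
    have m1 : A1 ∈ Cfsg.zspanOn X {1}ᶜ := mem_zspanOn_one.2
      ⟨zspan_sub (zspan_smul _ hp) (zspan_smul _ (subset_zspan X h₀)), by simp [hA1, hP, edx]; ring⟩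
    have m2 : A2 ∈ Cfsg.zspanOn Y {1}ᶜ := mem_zspanOn_one.2
      ⟨zspan_sub (zspan_smul _ hq) (zspan_smul _ (subset_zspan Y h₀')), by simp [hA2, hQ, eey]; ring⟩
    have m3 : A3 ∈ Cfsg.zspanOn (X ∪ Y) {1}ᶜ := mem_zspanOn_one.2
      ⟨by
        rw [hA3, edx, eey]
        exact zspan_sub
          (by simpa using zspan_smul (dx : ℤ) (subset_zspan (X ∪ Y) (Set.mem_union_right X h₀')))
          (by simpa using zspan_smul (ey : ℤ) (subset_zspan (X ∪ Y) (Set.mem_union_left Y h₀))),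
        by simp [hA3]; ring⟩
    have hTX : ∀ z ∈ Cfsg.zspan X, T z = σ z := fun z hz => span_iso_agree hσ T
      (fun a ha => by rw [hT a (hfin.mem_toFinset.2 (Or.inl ha)), fX a ha]) hz
    have hTY : ∀ z ∈ Cfsg.zspan Y, T z = τ z := fun z hz => span_iso_agree hτ T
      (fun a ha => by rw [hT a (hfin.mem_toFinset.2 (Or.inr ha)), fY a ha]) hz
    set D : Set (N → ℂ) := {A1, A2, A3} with hD
    have hagree : ∀ z ∈ Cfsg.zspan D, T z = α z := by
      intro z hz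
      refine agree_span hα T ?_ ?_ hz
      · rintro _ (rfl | rfl | rfl)
        exacts [zspanOn_mono _ hXS m1, zspanOn_mono _ hYS m2, zspanOn_mono _ hsub m3]
      · rintro _ (rfl | rfl | rfl)
        · rw [hTX _ m1.1, hσα _ m1]
        · rw [hTY _ m2.1, hτα _ m2]
        · rw [hA3, hlink, map_sub, map_smul, map_smul, hTX χ₀ (subset_zspan X h₀),
            hTY η₀ (subset_zspan Y h₀')]
    have hN : ((dx : ℤ) * ey) ≠ 0 := by positivity
    refine agree_of_smul hα T (zspanOn_mono _ hsub hθ) hN (hagree _ ?_)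
    have : ((((dx : ℤ) * ey : ℤ)) : ℂ) • (p + q) =
        ((ey : ℤ) : ℂ) • A1 + ((dx : ℤ) : ℂ) • A2 + (Q : ℂ) • A3 := by
      funext y
      simp only [hA1, hA2, hA3, Pi.add_apply, Pi.sub_apply, Pi.smul_apply, smul_eq_mul, edx, eey]
      push_cast; ring
    rw [this]
    exact (Submodule.span ℤ D).add_mem ((Submodule.span ℤ D).add_mem
      (zspan_smul _ (subset_zspan D (by simp [hD])))
      (zspan_smul _ (subset_zspan D (by simp [hD]))))
      (zspan_smul _ (subset_zspan D (by simp [hD])))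

end Cfsg.Agent.S1531
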