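import Cfsg.Statements.S1532
import Cfsg.Agent.Lib.Isometry.NormalizerBridge

set_option autoImplicit false
open Cfsg

namespace Cfsg.Agent.S1532

/-- Let G be a finite group, p an odd prime and P a Sylow p-subgroup that is non-abelian, whose underlying set is a TI-subset of G, with P properly contained in its set normaliser N and C_G(x) ≤ P for every non-identity x ∈ P. Let Z be a nontrivial subgroup of the centre of P normalised by N. Then the set of irreducible characters χ of N with χ z ≠ χ 1 for some z ∈ Z is coherent for the map induced by induction from N to G. -/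
theorem result {G : Type*} [Group G] [Fintype G] (p : ℕ) [Fact p.Prime] (hp : p ≠ 2) (P : Sylow p G) (hna : ¬ IsMulCommutative (P : Subgroup G)) (hTI : Cfsg.IsTISubset ((P : Subgroup G) : Set G)) (hlt : (P : Subgroup G) < Subgroup.normalizer ((P : Subgroup G) : Set G)) (hC : ∀ k ∈ (P : Subgroup G), k ≠ 1 → Subgroup.centralizer ({k} : Set G) ≤ (P : Subgroup G)) [Fintype ↥(Subgroup.normalizer ((P : Subgroup G) : Set G))] (Z : Subgroup G) (hZ1 : Z ≠ ⊥) (hZP : ∀ z ∈ Z, z ∈ (P : Subgroup G) ∧ ∀ y ∈ (P : Subgroup G), z * y = y * z) (hZn : ∀ x ∈ Subgroup.normalizer ((P : Subgroup G) : Set G), ∀ z ∈ Z, x * z * x⁻¹ ∈ Z) : Cfsg.IsCoherent {χ : ↥(Subgroup.normalizer ((P : Subgroup G) : Set G)) → ℂ | Cfsg.IsIrrCharacter ↥(Subgroup.normalizer ((P : Subgroup G) : Set G)) χ ∧ ∃ z : ↥(Subgroup.normalizer ((P : Subgroup G) : Set G)), (z : G) ∈ Z ∧ χ z ≠ χ 1} {1}ᶜ (fun α => Cfsg.indFun (Subgroup.normalizer ((P : Subgroup G) : Set G)) α) := by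
  classical
  rename_i instN
  obtain rfl : instN = (Subgroup.normalizer ((P : Subgroup G) : Set G)).instFintypeSubtypeMemOfDecidablePred :=
    Subsingleton.elim _ _
  set K := (P : Subgroup G) with hKP
  have : (K.subgroupOf (Subgroup.normalizer (K : Set G))).Normal := Subgroup.normal_in_normalizer
  have hC' := Lib.Isometry.NormalizerBridge.centralizer_le K hC
  have : Nontrivial Z := (Subgroup.nontrivial_iff_ne_bot Z).2 hZ1
  have hP1 : K ≠ ⊥ := fun h => hZ1 (le_bot_iff.1 (h ▸ fun z hz => (hZP z hz).1))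
  have h1 := Lib.Isometry.NormalizerBridge.ne_bot K hP1
  have htop := Lib.Isometry.NormalizerBridge.ne_top K hlt
  obtain ⟨n, hn⟩ := IsPGroup.iff_card.1 P.isPGroup'
  have hcard : Nat.card (K.subgroupOf (Subgroup.normalizer (K : Set G))) = p ^ n := by
    rw [Lib.Isometry.NormalizerBridge.card_eq]; exact hn
  have hodd : Odd (Nat.card ↥(Subgroup.normalizer (K : Set G))) := by
    rw [← (K.subgroupOf (Subgroup.normalizer (K : Set G))).index_mul_card, Nat.odd_mul, hcard]
    refine ⟨Nat.not_even_iff_odd.1 fun h => hna ⟨⟨fun a b => Subtype.ext ?_⟩⟩,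
      ((Fact.out : p.Prime).odd_of_ne_two hp).pow⟩
    exact congrArg (fun x : ↥(Subgroup.normalizer (K : Set G)) => (x : G)) (Lib.Isometry.TINilpotent.comm_of_even_index hC' h.two_dvd
      ⟨a, Subgroup.le_normalizer a.2⟩ a.2 ⟨b, Subgroup.le_normalizer b.2⟩ b.2)
  obtain ⟨R, hS⟩ := Lib.Isometry.FrobeniusTI.exists_system
    (fun g hg t ht h => hTI g hg t ht h) hC' hodd h1
  set Z' := Z.subgroupOf (Subgroup.normalizer (K : Set G)) with hZ'
  have : Z'.Normal := ⟨fun z hz x => hZn x x.2 z hz⟩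
  have hset : {χ : ↥(Subgroup.normalizer (K : Set G)) → ℂ |
      Cfsg.IsIrrCharacter ↥(Subgroup.normalizer (K : Set G)) χ ∧
        ∃ z : ↥(Subgroup.normalizer (K : Set G)), (z : G) ∈ Z ∧ χ z ≠ χ 1} =
      ↑(Lib.Isometry.Inflate.layer Z' ⊥) := by
    ext χ
    rw [Finset.mem_coe, Lib.Isometry.Inflate.mem_layer]
    exact ⟨fun ⟨a, b⟩ => ⟨a, fun g hg => by rw [Subgroup.mem_bot.1 hg], b⟩,
      fun ⟨a, _, b⟩ => ⟨a, b⟩⟩
  rw [hset]
  refine Lib.Isometry.Layers.coherent_layer_pGroup hC' hS Fact.out hp hcard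
    (A := Z') (B := ⊥) (fun z hz => (hZP z hz).1) ?_ ?_
  · rw [bot_lt_iff_ne_bot, Ne, Subgroup.subgroupOf_eq_bot, disjoint_iff,
      inf_eq_left.2 (show Z ≤ Subgroup.normalizer (K : Set G) from
        fun z hz => Subgroup.le_normalizer (hZP z hz).1)]
    exact hZ1
  · rw [Subgroup.commutator_le]
    intro z hz k hk
    rw [Subgroup.mem_bot, commutatorElement_eq_one_iff_mul_comm]
    exact Subtype.ext ((hZP z hz).2 k hk)

end Cfsg.Agent.S1532
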