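import Cfsg.Statements.S1533
import Cfsg.Agent.Lib.Isometry.NormalizerBridge

set_option autoImplicit false
open Cfsg

namespace Cfsg.Agent.S1533

/-- Let G be a finite group, p an odd prime, and P a nontrivial Sylow p-subgroup whose underlying set is a TI-subset of G, with P properly contained in its set normaliser N and C_G(x) ≤ P for every non-identity x ∈ P. Let S be the set of irreducible characters χ of N with χ x ≠ χ 1 for some x ∈ P. Then either S has exactly one member, P is elementary abelian and Nat.card P = [N:P] + 1; or (S, N minus 1, induction to G) is coherent. -/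
theorem result {G : Type*} [Group G] [Fintype G] (p : ℕ) [Fact p.Prime] (hp : p ≠ 2) (P : Sylow p G) (hP1 : (P : Subgroup G) ≠ ⊥) (hTI : Cfsg.IsTISubset ((P : Subgroup G) : Set G)) (hlt : (P : Subgroup G) < Subgroup.normalizer ((P : Subgroup G) : Set G)) (hC : ∀ k ∈ (P : Subgroup G), k ≠ 1 → Subgroup.centralizer ({k} : Set G) ≤ (P : Subgroup G)) [Fintype ↥(Subgroup.normalizer ((P : Subgroup G) : Set G))] : (Nat.card {χ : ↥(Subgroup.normalizer ((P : Subgroup G) : Set G)) → ℂ // Cfsg.IsIrrCharacter ↥(Subgroup.normalizer ((P : Subgroup G) : Set G)) χ ∧ ∃ x : ↥(Subgroup.normalizer ((P : Subgroup G) : Set G)), (x : G) ∈ (P : Subgroup G) ∧ χ x ≠ χ 1} = 1 ∧ Cfsg.IsElementaryAbelian p (P : Subgroup G) ∧ Nat.card (P : Subgroup G) = ((P : Subgroup G).subgroupOf (Subgroup.normalizer ((P : Subgroup G) : Set G))).index + 1) ∨ Cfsg.IsCoherent {χ : ↥(Subgroup.normalizer ((P : Subgroup G) : Set G)) → ℂ | Cfsg.IsIrrCharacter ↥(Subgroup.normalizer ((P : Subgroup G) : Set G)) χ ∧ ∃ x : ↥(Subgroup.normalizer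 ((P : Subgroup G) : Set G)), (x : G) ∈ (P : Subgroup G) ∧ χ x ≠ χ 1} {1}ᶜ (fun α => Cfsg.indFun (Subgroup.normalizer ((P : Subgroup G) : Set G)) α) := by
  classical
  set K := (P : Subgroup G) with hKP
  have : (K.subgroupOf (Subgroup.normalizer (K : Set G))).Normal := Subgroup.normal_in_normalizer
  have hC' := Lib.Isometry.NormalizerBridge.centralizer_le K hC
  have h1 := Lib.Isometry.NormalizerBridge.ne_bot K hP1
  rw [Lib.Isometry.NormalizerBridge.setOf_eq_layer K]
  have hcard : ∀ (S : Finset (↥(Subgroup.normalizer (K : Set G)) → ℂ)),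
      Nat.card {χ // χ ∈ S} = S.card := fun S => Nat.card_eq_finsetCard S
  rcases Lib.Isometry.TINilpotent.dichotomy Subgroup.le_normalizer
      (fun g hg t ht h => hTI g hg t ht h) hC' h1
      (Lib.Isometry.NormalizerBridge.ne_top K hlt) with
    ⟨ha, hb, q, hq, hel⟩ | ⟨⟨m, hm⟩, -, -⟩ | hcoh
  · left
    rw [Lib.Isometry.NormalizerBridge.card_eq] at hb
    refine ⟨?_, ?_, hb⟩
    · rw [← ha, ← hcard]
      exact Nat.card_congr (Equiv.subtypeEquivRight fun χ => by
        rw [← Finset.mem_coe, ← Lib.Isometry.NormalizerBridge.setOf_eq_layer K]; rfl)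
    · have hel' := Lib.Isometry.NormalizerBridge.isElementaryAbelian K hel
      refine ⟨hel'.1, fun a ha' => ?_⟩
      obtain ⟨x, hx, hx1⟩ : ∃ x ∈ K, x ≠ 1 := by
        by_contra! h
        exact hP1 ((Subgroup.eq_bot_iff_forall _).2 h)
      have hxq : orderOf x = q := orderOf_eq_prime (hp := ⟨hq⟩) (hel'.2 x hx) hx1
      have hqp : q = p := by
        obtain ⟨n, hn⟩ := IsPGroup.iff_card.1 P.isPGroup'
        have : q ∣ p ^ n := hxq ▸ hn ▸ Subgroup.orderOf_dvd_natCard _ hx
        exact (Nat.prime_dvd_prime_iff_eq hq Fact.out).1 (hq.dvd_of_dvd_pow this)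
      exact hqp ▸ hel'.2 a ha'
  · exfalso
    rw [Lib.Isometry.NormalizerBridge.card_eq] at hm
    obtain ⟨n, hn⟩ := IsPGroup.iff_card.1 P.isPGroup'
    rw [hKP, hn] at hm
    rcases Nat.eq_zero_or_pos n with rfl | hn0
    · exact hP1 (Subgroup.card_eq_one.1 (by simpa using hn))
    · exact hp ((Nat.prime_dvd_prime_iff_eq Fact.out Nat.prime_two).1
        ((Fact.out : p.Prime).dvd_of_dvd_pow (hm ▸ dvd_pow_self p hn0.ne')))
  · refine Or.inr ?_
    convert hcoh using 3

end Cfsg.Agent.S1533
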