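import Cfsg.Statements.S1535
import Cfsg.Agent.Lib.Isometry.FeitCoherence

set_option autoImplicit false
open Cfsg

namespace Cfsg.Agent.S1535

/-- Let N be a finite group with a proper nontrivial normal subgroup H such that every element commuting with a non-identity element of H lies in H (N is a Frobenius group with kernel H); let e be the index of H and suppose Nat.card H ≠ e + 1. Let S be the set of irreducible characters χ of N with χ h ≠ χ 1 for some h ∈ H, and τ a linear isometry on the integer combinations of S vanishing at 1, with values virtual characters of a finite group G vanishing at 1. Then (S, N minus 1, τ) is coherent, or there is a prime p with Nat.card H a power of p, H non-abelian and [H : [H,H]] ≤ 4e² + 1. -/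
theorem result {N : Type*} [Group N] [Fintype N] {G : Type*} [Group G] [Fintype G] (H : Subgroup N) [H.Normal] (hH1 : H ≠ ⊥) (hH2 : H ≠ ⊤) (hC : ∀ h ∈ H, h ≠ 1 → Subgroup.centralizer ({h} : Set N) ≤ H) (he : Nat.card H ≠ H.index + 1) (τ : (N → ℂ) → (G → ℂ)) (hτ : Cfsg.IsLinearIsometryOn (Cfsg.zspanOn {χ : N → ℂ | Cfsg.IsIrrCharacter N χ ∧ ∃ h ∈ H, χ h ≠ χ 1} {1}ᶜ) τ) (hτ1 : ∀ α ∈ Cfsg.zspanOn {χ : N → ℂ | Cfsg.IsIrrCharacter N χ ∧ ∃ h ∈ H, χ h ≠ χ 1} {1}ᶜ, τ α 1 = 0) : Cfsg.IsCoherent {χ : N → ℂ | Cfsg.IsIrrCharacter N χ ∧ ∃ h ∈ H, χ h ≠ χ 1} {1}ᶜ τ ∨ ∃ p : ℕ, p.Prime ∧ (∃ m : ℕ, Nat.card H = p ^ m) ∧ ¬ IsMulCommutative H ∧ (⁅H, H⁆.subgroupOf H).index ≤ 4 * H.index ^ 2 + 1 := by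
  classical
  have hS : {χ : N → ℂ | Cfsg.IsIrrCharacter N χ ∧ ∃ h ∈ H, χ h ≠ χ 1} =
      (↑(Lib.Isometry.Inflate.layer H ⊥) : Set (N → ℂ)) := by
    ext χ
    rw [Finset.mem_coe, Lib.Isometry.Inflate.mem_layer]
    refine ⟨fun ⟨h1, h2⟩ => ⟨h1, fun g hg => by rw [Subgroup.mem_bot.1 hg], h2⟩,
      fun ⟨h1, _, h2⟩ => ⟨h1, h2⟩⟩
  rw [hS] at hτ hτ1 ⊢
  have he0 : 0 < H.index := Nat.pos_of_ne_zero Subgroup.index_ne_zero_of_finite
  have hcoh := Lib.Isometry.FeitCoherence.coherent_of_criterion hC hτ hτ1 hH1 hH2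
  by_cases hab : IsMulCommutative H
  · refine Or.inl (hcoh (Or.inl ⟨fun a ha b hb => congrArg Subtype.val
      (hab.is_comm.comm ⟨a, ha⟩ ⟨b, hb⟩), ?_⟩))
    have h1 := Lib.Isometry.Layers.relIndex_modEq hC ⊥ bot_le
    rw [Subgroup.relIndex_bot_left] at h1
    obtain ⟨k, hk⟩ := (Nat.modEq_iff_dvd' Nat.card_pos).1 h1.symm
    have h2 : Nat.card H ≠ 1 := fun h => hH1 (Subgroup.card_eq_one.1 h)
    have h3 : 0 < Nat.card H := Nat.card_pos
    have hk2 : 2 ≤ k := by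
      by_contra hlt
      rcases (show k = 0 ∨ k = 1 by omega) with rfl | rfl
      · rw [mul_zero] at hk; omega
      · rw [mul_one] at hk; omega
    have := Nat.mul_le_mul_left H.index hk2
    omega
  by_cases hp : ∃ p a : ℕ, p.Prime ∧ Nat.card H = p ^ a
  · by_cases hbig : 4 * H.index ^ 2 + 1 < (H.lowerCentralSeries 1).relIndex H
    · exact Or.inl (hcoh (Or.inr (Or.inr hbig)))
    · obtain ⟨p, a, hp, ha⟩ := hp
      refine Or.inr ⟨p, hp, ⟨a, ha⟩, hab, ?_⟩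
      rw [not_lt, Subgroup.lowerCentralSeries_succ, Subgroup.lowerCentralSeries_zero] at hbig
      exact hbig
  · refine Or.inl (hcoh (Or.inr (Or.inl ⟨?_, hp⟩)))
    have : H.index ≠ 1 := fun h => hH2 (Subgroup.index_eq_one.1 h)
    omega

end Cfsg.Agent.S1535
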