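import Cfsg.Statements.S1546
import Mathlib
-- import your own Cfsg.Agent.* helpers here

set_option autoImplicit false
open Cfsg

namespace Cfsg.Agent.S1546

/-- Let p and q be odd primes and N = (p ^ q − 1) / (p − 1) = 1 + p + ⋯ + p^(q−1). Then N is odd; if p ≡ 1 (mod q) then q ∣ N; and if p is not ≡ 1 (mod q) then N is coprime to p − 1 and every divisor of N is ≡ 1 (mod q). -/
theorem result (p q : ℕ) (hp : p.Prime) (hq : q.Prime) (hp2 : p ≠ 2) (hq2 : q ≠ 2) : Odd ((p ^ q - 1) / (p - 1)) ∧ (p % q = 1 → q ∣ (p ^ q - 1) / (p - 1)) ∧ (p % q ≠ 1 → Nat.Coprime ((p ^ q - 1) / (p - 1)) (p - 1) ∧ ∀ x : ℕ, x ∣ (p ^ q - 1) / (p - 1) → x % q = 1) := by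
  have hp3 : 3 ≤ p := lt_of_le_of_ne hp.two_le (Ne.symm hp2)
  have hN : (p ^ q - 1) / (p - 1) = ∑ i ∈ Finset.range q, p ^ i :=
    (Nat.geomSum_eq hp.two_le q).symm
  rw [hN]
  set N := ∑ i ∈ Finset.range q, p ^ i with hNdef
  have hNmod : ∀ m : ℕ, p ≡ 1 [MOD m] → N ≡ q [MOD m] := by
    intro m hm
    have : ((N : ℕ) : ZMod m) = ((q : ℕ) : ZMod m) := by
      have hp1 : ((p : ℕ) : ZMod m) = 1 := by
        simpa using (ZMod.natCast_eq_natCast_iff p 1 m).2 hm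
      simp [hNdef, hp1]
    exact (ZMod.natCast_eq_natCast_iff _ _ _).1 this
  refine ⟨?_, ?_, ?_⟩
  · have h2 : N ≡ q [MOD 2] := hNmod 2 (Nat.odd_iff.1 (hp.odd_of_ne_two hp2))
    exact Nat.odd_iff.2 (h2.trans (show q ≡ 1 [MOD 2] from Nat.odd_iff.1 (hq.odd_of_ne_two hq2)))
  · intro h
    have h1 : p ≡ 1 [MOD q] := h.trans (Nat.mod_eq_of_lt hq.one_lt).symm
    exact Nat.modEq_zero_iff_dvd.1 ((hNmod q h1).trans (Nat.modEq_zero_iff_dvd.2 dvd_rfl))
  intro hne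
  have hmod : p ≡ 1 [MOD p - 1] :=
    ((Nat.modEq_iff_dvd' hp.one_lt.le).2 dvd_rfl).symm
  have hqd : ¬ q ∣ p - 1 := fun h => hne (by
    have := ((Nat.modEq_iff_dvd' hp.one_lt.le).2 h).symm
    rwa [Nat.ModEq, Nat.mod_eq_of_lt hq.one_lt] at this)
  have hco : Nat.Coprime N (p - 1) := by
    have : Nat.Coprime q (p - 1) := hq.coprime_iff_not_dvd.2 hqd
    rw [Nat.Coprime, (hNmod (p - 1) hmod).gcd_eq]
    exact this
  refine ⟨hco, fun x => ?_⟩
  induction x using Nat.recOnMul with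
  | zero =>
    intro h
    have h0 : N = 0 := zero_dvd_iff.1 h
    have : p ^ 0 ≤ N := Finset.single_le_sum (f := fun i => p ^ i) (fun i _ => Nat.zero_le _)
      (Finset.mem_range.2 hq.pos)
    rw [h0] at this; simp at this
  | one => intro _; exact Nat.mod_eq_of_lt hq.one_lt
  | prime r hr =>
    intro hrN
    have := Fact.mk hr
    have hgeom : ((p : ZMod r) - 1) * ((N : ℕ) : ZMod r) = (p : ZMod r) ^ q - 1 := by
      have := mul_geom_sum (p : ZMod r) q
      rw [hNdef]; push_cast; exact this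
    rw [(ZMod.natCast_eq_zero_iff _ _).2 hrN, mul_zero] at hgeom
    have hpq : (p : ZMod r) ^ q = 1 := (sub_eq_zero.1 hgeom.symm)
    have hne1 : (p : ZMod r) ≠ 1 := fun h => by
      have h2 : r ∣ p - 1 := by
        rw [← (ZMod.natCast_eq_zero_iff _ _), Nat.cast_sub hp.one_lt.le, h]; simp
      exact hr.not_dvd_one (Nat.eq_one_of_dvd_coprimes hco hrN h2 ▸ dvd_rfl)
    have hne0 : (p : ZMod r) ≠ 0 := fun h => by
      rw [h, zero_pow hq.pos.ne'] at hpq; exact zero_ne_one hpq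
    haveI := Fact.mk hq
    have ho := orderOf_eq_prime hpq hne1
    have hd := ZMod.orderOf_dvd_card_sub_one hne0
    rw [ho] at hd
    have := ((Nat.modEq_iff_dvd' hr.one_lt.le).2 hd).symm
    rwa [Nat.ModEq, Nat.mod_eq_of_lt hq.one_lt] at this
  | mul a b ha hb =>
    intro h
    rw [Nat.mul_mod, ha (dvd_trans (dvd_mul_right a b) h), hb (dvd_trans (dvd_mul_left b a) h)]
    simp [Nat.mod_eq_of_lt hq.one_lt]

end Cfsg.Agent.S1546
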