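import Cfsg.Statements.S1559
import Cfsg.Agent.Lib.SporStruct.TrioOrbits

set_option autoImplicit false
open scoped Pointwise
open Cfsg

namespace Cfsg.Agent.S1559

open Cfsg.Agent.Lib.SporStruct OrbitTree FamilyCode
open scoped Pointwise

theorem class_sizes : (TrioData.classes.map fun e => (e.1, e.2.2.keys.length)) = [(1536, 1), (768, 42), (384, 56), (288, 1008), (240, 2688)] := by
  decide +kernel

theorem value {S Y : Finset (Finset Cfsg.GolayPt)} (hS : S ∈ Cfsg.trios) (hY : Y ∈ Cfsg.trios) :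
    kappa S Y ∈ [1536, 768, 384, 288, 240] := by
  obtain ⟨e, he, hk⟩ := TrioOrbits.kappa_value hS hY
  have h : (e.1, e.2.2.keys.length) ∈ TrioData.classes.map (fun e => (e.1, e.2.2.keys.length)) :=
    List.mem_map_of_mem he
  rw [class_sizes] at h
  have h2 := List.mem_map_of_mem (f := Prod.fst) h
  rw [hk]
  simpa using h2

theorem size {S : Finset (Finset Cfsg.GolayPt)} (hS : S ∈ Cfsg.trios) {v n : ℕ}
    (h : (v, n) ∈ [(1536, 1), (768, 42), (384, 56), (288, 1008), (240, 2688)]) : {Y | Y ∈ Cfsg.trios ∧ kappa S Y = v}.ncard = n := by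
  rw [← class_sizes] at h
  obtain ⟨e, he, heq⟩ := List.mem_map.1 h
  simp only [Prod.mk.injEq] at heq
  rw [TrioOrbits.ncard_class hS, ← heq.1, TrioOrbits.countP_class he, heq.2]

theorem class_eq_orbit {S X : Finset (Finset Cfsg.GolayPt)} (hS : S ∈ Cfsg.trios) (hX : X ∈ Cfsg.trios) :
    MulAction.orbit ↥(MulAction.stabilizer Cfsg.M24 S) X =
      {Y | Y ∈ Cfsg.trios ∧ kappa S Y = kappa S X} := by
  ext Y
  constructor
  · rintro ⟨⟨g, hg⟩, rfl⟩
    refine ⟨TrioOrbits.smul_mem g hX, ?_⟩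
    show kappa S (g • X) = kappa S X
    conv_lhs => rw [← MulAction.mem_stabilizer_iff.1 hg]
    exact kappa_smul g S X
  · rintro ⟨hY, hk⟩
    obtain ⟨g, hg, hgx⟩ := TrioOrbits.classes_trans hS hX hY hk.symm
    exact ⟨⟨g, MulAction.mem_stabilizer_iff.2 hg⟩, hgx⟩

theorem exists_class {S : Finset (Finset Cfsg.GolayPt)} (hS : S ∈ Cfsg.trios) {v n : ℕ}
    (h : (v, n) ∈ [(1536, 1), (768, 42), (384, 56), (288, 1008), (240, 2688)]) : ∃ X ∈ Cfsg.trios, kappa S X = v := by
  have hn : n ≠ 0 := by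
    have : ∀ p ∈ [(1536, 1), (768, 42), (384, 56), (288, 1008), (240, 2688)], p.2 ≠ 0 := by decide
    exact this (v, n) h
  obtain ⟨X, hX, hk⟩ := Set.nonempty_of_ncard_ne_zero ((size hS h).trans_ne hn)
  exact ⟨X, hX, hk⟩

theorem value_self {S : Finset (Finset Cfsg.GolayPt)} (hS : S ∈ Cfsg.trios) : kappa S S = 1536 := by
  obtain ⟨a, rfl⟩ := TrioOrbits.exists_smul_std hS
  rw [kappa_smul, TrioOrbits.kappa_std TrioOrbits.std_mem, TrioOrbits.code_std]
  decide +kernel

theorem eq_self {S Y : Finset (Finset Cfsg.GolayPt)} (hS : S ∈ Cfsg.trios) (hY : Y ∈ Cfsg.trios) :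
    kappa S Y = 1536 ↔ Y = S := by
  refine ⟨fun hk => ?_, fun h => by rw [h, value_self hS]⟩
  obtain ⟨A, hA⟩ := Set.ncard_eq_one.1 (size (v := 1536) (n := 1) hS (by simp))
  have h1 : Y ∈ ({A} : Set (Finset (Finset Cfsg.GolayPt))) := hA ▸ ⟨hY, hk⟩
  have h2 : S ∈ ({A} : Set (Finset (Finset Cfsg.GolayPt))) := hA ▸ ⟨hS, value_self hS⟩
  rw [Set.mem_singleton_iff] at h1 h2
  rw [h1, h2]

/-- The class number of a value. -/
def label (i : ℕ) : Fin 5 := if i = 1536 then 0 else if i = 768 then 1 else if i = 384 then 2 else if i = 288 then 3 else 4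

theorem label_inj : ∀ a ∈ [1536, 768, 384, 288, 240], ∀ b ∈ [1536, 768, 384, 288, 240], label a = label b → a = b := by decide

theorem label_spec : ∀ a ∈ [1536, 768, 384, 288, 240], ∀ j : Fin 5, label a = j ↔ a = ![1536, 768, 384, 288, 240] j := by decide

/-- A trio stabiliser has five orbits on the 3795 trios, of sizes 1, 42, 56, 1008, 2688; and the stabiliser is a maximal proper subgroup. -/
theorem result (T : Finset (Finset Cfsg.GolayPt)) (hT : T ∈ Cfsg.trios) : ∃ X₁ ∈ Cfsg.trios, ∃ X₂ ∈ Cfsg.trios, ∃ X₃ ∈ Cfsg.trios, ∃ X₄ ∈ Cfsg.trios, (MulAction.orbit ↥(MulAction.stabilizer Cfsg.M24 T) X₁).ncard = 42 ∧ (MulAction.orbit ↥(MulAction.stabilizer Cfsg.M24 T) X₂).ncard = 56 ∧ (MulAction.orbit ↥(MulAction.stabilizer Cfsg.M24 T) X₃).ncard = 1008 ∧ (MulAction.orbit ↥(MulAction.stabilizer Cfsg.M24 T) X₄).ncard = 2688 ∧ Cfsg.trios = {T} ∪ MulAction.orbit ↥(MulAction.stabilizer Cfsg.M24 T) X₁ ∪ MulAction.orbit ↥(MulAction.stabilizer Cfsg.M24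 T) X₂ ∪ MulAction.orbit ↥(MulAction.stabilizer Cfsg.M24 T) X₃ ∪ MulAction.orbit ↥(MulAction.stabilizer Cfsg.M24 T) X₄ ∧ IsCoatom (MulAction.stabilizer Cfsg.M24 T) := by
  obtain ⟨X1, hX1, k1⟩ := exists_class (v := 768) (n := 42) hT (by simp)
  obtain ⟨X2, hX2, k2⟩ := exists_class (v := 384) (n := 56) hT (by simp)
  obtain ⟨X3, hX3, k3⟩ := exists_class (v := 288) (n := 1008) hT (by simp)
  obtain ⟨X4, hX4, k4⟩ := exists_class (v := 240) (n := 2688) hT (by simp)
  refine ⟨X1, hX1, X2, hX2, X3, hX3, X4, hX4, ?_⟩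
  rw [class_eq_orbit hT hX1, class_eq_orbit hT hX2, class_eq_orbit hT hX3, class_eq_orbit hT hX4, k1, k2, k3, k4]
  refine ⟨size hT (by simp), size hT (by simp), size hT (by simp), size hT (by simp), ?_, ?_⟩
  · ext Y
    simp only [Set.mem_union, Set.mem_singleton_iff, Set.mem_ofPred_eq]
    constructor
    · intro hY
      have hv := value hT hY
      simp only [List.mem_cons, List.not_mem_nil, or_false, eq_self hT hY] at hv
      tauto
    · intro hY
      rcases hY with ((((rfl | ⟨hY, -⟩) | ⟨hY, -⟩) | ⟨hY, -⟩) | ⟨hY, -⟩)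
      · exact hT
      · exact hY
      · exact hY
      · exact hY
      · exact hY
  · refine BlockMax.isCoatom_stabilizer (Set.toFinite _) (TrioOrbits.orbit_eq hT)
      (fun Y => label (kappa T Y)) (by norm_num) ?_ ?_ ![1, 42, 56, 1008, 2688] ?_ (by decide) 3795
      (Cfsg.Agent.S1557.result).2 (by decide +kernel)
    · intro Y hY
      rw [label_spec _ (value hT hY)]
      exact eq_self hT hY
    · intro Y hY Z hZ hl
      exact TrioOrbits.classes_trans hT hY hZ (label_inj _ (value hT hY) _ (value hT hZ) hl)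
    · intro j
      have e : {Y | Y ∈ Cfsg.trios ∧ label (kappa T Y) = j} = {Y | Y ∈ Cfsg.trios ∧ kappa T Y = ![1536, 768, 384, 288, 240] j} := by
        ext Y
        exact ⟨fun h' => ⟨h'.1, (label_spec _ (value hT h'.1) j).1 h'.2⟩, fun h' => ⟨h'.1, (label_spec _ (value hT h'.1) j).2 h'.2⟩⟩
      rw [e]
      refine size hT ?_
      fin_cases j <;> simp

end Cfsg.Agent.S1559
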