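import Cfsg.Statements.S1560
import Cfsg.Agent.Lib.SporStruct.DodecadOrbits

set_option autoImplicit false
open scoped Pointwise
open Cfsg

namespace Cfsg.Agent.S1560

open Cfsg.Agent.Lib.SporStruct

theorem counts :
    DodecadOrbits.univMasks.countP (fun m => Nat.beq (Cfsg.Agent.Lib.Golay.pc24 (DodecadData.root &&& m)) 4) = 495 ∧
    DodecadOrbits.univMasks.countP (fun m => Nat.beq (Cfsg.Agent.Lib.Golay.pc24 (DodecadData.root &&& m)) 6) = 1584 ∧
    DodecadOrbits.univMasks.countP (fun m => Nat.beq (Cfsg.Agent.Lib.Golay.pc24 (DodecadData.root &&& m)) 8) = 495 := by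
  decide +kernel

/-- Intersection numbers of dodecads: a dodecad meets every other dodecad in 0, 4, 6 or 8 points, meeting 495 of them in 4 points, 1584 in 6 points and 495 in 8 points. -/
theorem result (d : Finset Cfsg.GolayPt) (hd : d ∈ Cfsg.dodecads) : (∀ d' ∈ Cfsg.dodecads, d' ≠ d → (d ∩ d').card = 0 ∨ (d ∩ d').card = 4 ∨ (d ∩ d').card = 6 ∨ (d ∩ d').card = 8) ∧ {d' : Finset Cfsg.GolayPt | d' ∈ Cfsg.dodecads ∧ (d ∩ d').card = 4}.ncard = 495 ∧ {d' : Finset Cfsg.GolayPt | d' ∈ Cfsg.dodecads ∧ (d ∩ d').card = 6}.ncard = 1584 ∧ {d' : Finset Cfsg.GolayPt | d' ∈ Cfsg.dodecads ∧ (d ∩ d').card = 8}.ncard = 495 := by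
  refine ⟨fun d' hd' hne => ?_, ?_, ?_, ?_⟩
  · have h1 := Masks.card_symmDiff_add d d'
    have h2 := Cfsg.Agent.Lib.Golay.card_of_mem_supports (Masks.symmDiff_mem_supports hd.1 hd'.1)
    rw [hd.2, hd'.2] at h1
    have h3 : (symmDiff d d').card ≠ 0 := fun h => hne
      (symmDiff_eq_bot.1 (Finset.card_eq_zero.1 h)).symm
    omega
  · rw [DodecadOrbits.ncard_class hd]; exact counts.1
  · rw [DodecadOrbits.ncard_class hd]; exact counts.2.1
  · rw [DodecadOrbits.ncard_class hd]; exact counts.2.2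

end Cfsg.Agent.S1560
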