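import Cfsg.Statements.S1562
import Cfsg.Agent.Lib.SporStruct.TripleOrbits

set_option autoImplicit false
open scoped Pointwise
open Cfsg

namespace Cfsg.Agent.S1562

open Cfsg.Agent.Lib.SporStruct
open Cfsg.Agent.Lib.Golay
open scoped Pointwise

open scoped Classical in
/-- The invariant of two triples. -/
noncomputable def kappa (a b : Finset Cfsg.GolayPt) : ℕ :=
  (a ∩ b).card * 2 + if ∃ o ∈ Cfsg.octads, a ∪ b ⊆ o then 1 else 0

theorem kappa_smul (g : ↥Cfsg.M24) (a b : Finset Cfsg.GolayPt) :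
    kappa (g • a) (g • b) = kappa a b := by
  classical
  unfold kappa
  rw [← Finset.smul_finset_inter, Finset.card_smul_finset, ← Finset.smul_finset_union]
  congr 1
  have hiff : (∃ o ∈ Cfsg.octads, g • (a ∪ b) ⊆ o) ↔ ∃ o ∈ Cfsg.octads, a ∪ b ⊆ o := by
    constructor
    · rintro ⟨o, ho, h⟩
      refine ⟨g⁻¹ • o, PermCodes.smul_octads (g⁻¹).2 ho, ?_⟩
      have := Finset.smul_finset_subset_smul_finset (a := g⁻¹) h
      rwa [inv_smul_smul] at this
    · rintro ⟨o, ho, h⟩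
      exact ⟨g • o, PermCodes.smul_octads g.2 ho, Finset.smul_finset_subset_smul_finset h⟩
  exact if_congr hiff rfl rfl

theorem kappa_std (y : Finset Cfsg.GolayPt) :
    kappa TripleOrbits.std y = TripleOrbits.kf (maskOfSet y) := (TripleOrbits.kf_mask y).symm

theorem counts : TripleOrbits.univMasks.countP (fun m => Nat.beq (TripleOrbits.kf m) 1) = 210 ∧
    TripleOrbits.univMasks.countP (fun m => Nat.beq (TripleOrbits.kf m) 0) = 1120 := by
  decide +kernel

theorem kappa_eq_one {a b : Finset Cfsg.GolayPt} :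
    kappa a b = 1 ↔ Disjoint a b ∧ ∃ o ∈ Cfsg.octads, a ∪ b ⊆ o := by
  classical
  unfold kappa
  rw [Finset.disjoint_iff_inter_eq_empty, ← Finset.card_eq_zero]
  split
  · rename_i h; exact ⟨fun e => ⟨by omega, h⟩, fun e => by omega⟩
  · rename_i h; exact ⟨fun e => by omega, fun e => absurd e.2 h⟩

theorem kappa_eq_zero {a b : Finset Cfsg.GolayPt} :
    kappa a b = 0 ↔ Disjoint a b ∧ ¬ ∃ o ∈ Cfsg.octads, a ∪ b ⊆ o := by
  classical
  unfold kappa
  rw [Finset.disjoint_iff_inter_eq_empty, ← Finset.card_eq_zero]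
  split
  · rename_i h; exact ⟨fun e => by omega, fun e => absurd h e.2⟩
  · rename_i h; exact ⟨fun e => ⟨by omega, h⟩, fun e => by omega⟩

/-- Orbits of a triad stabiliser on the triads disjoint from it: the 210 triads inside a common octad with it form one orbit and the remaining 1120 another. -/
theorem result (T : Finset Cfsg.GolayPt) (hT : T.card = 3) : {U : Finset Cfsg.GolayPt | U.card = 3 ∧ Disjoint T U ∧ (∃ o ∈ Cfsg.octads, T ∪ U ⊆ o)}.ncard = 210 ∧ {U : Finset Cfsg.GolayPt | U.card = 3 ∧ Disjoint T U ∧ ¬ (∃ o ∈ Cfsg.octads, T ∪ U ⊆ o)}.ncard = 1120 ∧ ∀ U U' : Finset Cfsg.GolayPt, U.card = 3 → U'.card = 3 → Disjoint T U → Disjoint T U' → ((∃ o ∈ Cfsg.octads, T ∪ U ⊆ o) ↔ (∃ o ∈ Cfsg.octads, T ∪ U' ⊆ o)) → ∃ g : Equiv.Perm Cfsg.GolayPt, g ∈ Cfsg.M24 ∧ g • T = T ∧ g • U = U' := by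
  have hstd : ∀ y ∈ TripleOrbits.ksets, ∀ z ∈ TripleOrbits.ksets,
      kappa TripleOrbits.std y = kappa TripleOrbits.std z →
      ∃ g : ↥Cfsg.M24, g • TripleOrbits.std = TripleOrbits.std ∧ g • y = z := by
    intro y hy z hz h
    rw [kappa_std, kappa_std] at h
    exact TripleOrbits.std_classes hy hz h
  have hcount : ∀ i, {U | U ∈ TripleOrbits.ksets ∧ kappa T U = i}.ncard =
      TripleOrbits.univMasks.countP (fun m => Nat.beq (TripleOrbits.kf m) i) := by
    intro i
    rw [BlockMax.transport_ncard (G := ↥Cfsg.M24) (fun g a b _ _ => kappa_smul g a b)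
      (fun g _ ha => TripleOrbits.smul_mem g ha) (fun _ hw => TripleOrbits.exists_smul_std hw)
      TripleOrbits.std_mem hT i, ← TripleOrbits.ncard_std_class]
    congr 1
    ext y
    simp [kappa_std]
  refine ⟨?_, ?_, ?_⟩
  · rw [← counts.1, ← hcount 1]
    congr 1
    ext U
    simp only [Set.mem_ofPred_eq, kappa_eq_one]
    exact Iff.rfl
  · rw [← counts.2, ← hcount 0]
    congr 1
    ext U
    simp only [Set.mem_ofPred_eq, kappa_eq_zero]
    exact Iff.rfl
  · intro U U' hU hU' hd hd' hiff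
    have hk : kappa T U = kappa T U' := by
      by_cases h : ∃ o ∈ Cfsg.octads, T ∪ U ⊆ o
      · rw [kappa_eq_one.2 ⟨hd, h⟩, kappa_eq_one.2 ⟨hd', hiff.1 h⟩]
      · rw [kappa_eq_zero.2 ⟨hd, h⟩, kappa_eq_zero.2 ⟨hd', fun h' => h (hiff.2 h')⟩]
    obtain ⟨g, hg, hg'⟩ := BlockMax.transport (G := ↥Cfsg.M24) (fun g a b _ _ => kappa_smul g a b)
      (fun g _ ha => TripleOrbits.smul_mem g ha) (fun _ hw => TripleOrbits.exists_smul_std hw)
      TripleOrbits.std_mem hstd hT hU hU' hk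
    exact ⟨g, g.2, hg, hg'⟩

end Cfsg.Agent.S1562
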