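import Cfsg.Statements.S1563
import Cfsg.Agent.Lib.SporStruct.PairOrbits

set_option autoImplicit false
open scoped Pointwise
open Cfsg

namespace Cfsg.Agent.S1563

open Cfsg.Agent.Lib.SporStruct OrbitTree
open Cfsg.Agent.Lib.Golay

/-- The class number of an invariant. -/
def label (i : ℕ) : Fin 3 := if i = 2 then 0 else if i = 1 then 1 else 2

theorem values : (PairOrbits.univMasks.all fun m =>
    [2, 1, 0].contains (PairOrbits.kf m) && ((label (PairOrbits.kf m)).val != 0 || Nat.beq m PairData.root)) = true := by
  decide +kernel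

theorem root_kf : label (PairOrbits.kf PairData.root) = 0 := by decide +kernel

theorem label_inj : ∀ a ∈ [2, 1, 0], ∀ b ∈ [2, 1, 0], label a = label b → a = b := by decide

theorem counts : ∀ i : Fin 3,
    (PairOrbits.univMasks.countP fun m => Nat.beq (label (PairOrbits.kf m)).val i.val) = ![1, 44, 231] i := by
  decide +kernel

/-- The stabiliser of a pair of points (setwise) is a maximal proper subgroup of the group of the length-24 code. -/
theorem result (s : Finset Cfsg.GolayPt) (hs : s.card = 2) : IsCoatom (MulAction.stabilizer Cfsg.M24 s) := by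
  obtain ⟨g, rfl⟩ := PairOrbits.exists_smul_std (s := s) hs
  refine BlockMax.isCoatom_smul g ?_
  have hval : ∀ y ∈ PairOrbits.ksets, PairOrbits.kf (maskOfSet y) ∈ [2, 1, 0] ∧
      (label (PairOrbits.kf (maskOfSet y)) = 0 → maskOfSet y = PairData.root) := by
    intro y hy
    have h := List.all_eq_true.1 values _ ((PairOrbits.mem_univMasks _).2 ⟨y, hy, rfl⟩)
    simp only [Bool.and_eq_true, Bool.or_eq_true, List.contains_iff_mem, bne_iff_ne, ne_eq, Nat.beq_eq] at h
    exact ⟨h.1, fun h0 => h.2.resolve_left (fun hne => hne (congrArg Fin.val h0))⟩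
  refine BlockMax.isCoatom_stabilizer (Set.toFinite _) (PairOrbits.orbit_eq PairOrbits.std_mem)
    (fun y => label (PairOrbits.kf (maskOfSet y))) (by norm_num) ?_ ?_ ![1, 44, 231] ?_ ?_ 276
    PairOrbits.ncard_ksets (by decide +kernel)
  · intro y hy
    constructor
    · intro h
      exact Masks.maskOfSet_injective ((hval y hy).2 h |>.trans PairOrbits.maskOfSet_std.symm)
    · rintro rfl
      rw [PairOrbits.maskOfSet_std]; exact root_kf
  · intro y hy z hz h
    exact PairOrbits.std_classes hy hz (label_inj _ (hval y hy).1 _ (hval z hz).1 h)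
  · intro i
    rw [← counts i, ← CodedOrbit.class_ncard (Ω := PairOrbits.ksets) (E := maskOfSet) Masks.maskOfSet_injective.injOn PairOrbits.univ_nodup PairOrbits.mem_univMasks]
    congr 1
    ext y
    simp [Fin.ext_iff]
  · decide

end Cfsg.Agent.S1563
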