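import Cfsg.Statements.S1564
import Cfsg.Agent.Lib.SporStruct.TripleOrbits

set_option autoImplicit false
open scoped Pointwise
open Cfsg

namespace Cfsg.Agent.S1564

open Cfsg.Agent.Lib.SporStruct OrbitTree
open Cfsg.Agent.Lib.Golay

/-- The class number of an invariant. -/
def label (i : ℕ) : Fin 5 := if i = 7 then 0 else if i = 5 then 1 else if i = 3 then 2 else if i = 1 then 3 else 4

theorem values : (TripleOrbits.univMasks.all fun m =>
    [7, 5, 3, 1, 0].contains (TripleOrbits.kf m) && ((label (TripleOrbits.kf m)).val != 0 || Nat.beq m TripleData.root)) = true := by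
  decide +kernel

theorem root_kf : label (TripleOrbits.kf TripleData.root) = 0 := by decide +kernel

theorem label_inj : ∀ a ∈ [7, 5, 3, 1, 0], ∀ b ∈ [7, 5, 3, 1, 0], label a = label b → a = b := by decide

theorem counts : ∀ i : Fin 5,
    (TripleOrbits.univMasks.countP fun m => Nat.beq (label (TripleOrbits.kf m)).val i.val) = ![1, 63, 630, 210, 1120] i := by
  decide +kernel

/-- The stabiliser of a set of three points (setwise) is a maximal proper subgroup of the group of the length-24 code. -/
theorem result (s : Finset Cfsg.GolayPt) (hs : s.card = 3) : IsCoatom (MulAction.stabilizer Cfsg.M24 s) := by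
  obtain ⟨g, rfl⟩ := TripleOrbits.exists_smul_std (s := s) hs
  refine BlockMax.isCoatom_smul g ?_
  have hval : ∀ y ∈ TripleOrbits.ksets, TripleOrbits.kf (maskOfSet y) ∈ [7, 5, 3, 1, 0] ∧
      (label (TripleOrbits.kf (maskOfSet y)) = 0 → maskOfSet y = TripleData.root) := by
    intro y hy
    have h := List.all_eq_true.1 values _ ((TripleOrbits.mem_univMasks _).2 ⟨y, hy, rfl⟩)
    simp only [Bool.and_eq_true, Bool.or_eq_true, List.contains_iff_mem, bne_iff_ne, ne_eq, Nat.beq_eq] at h
    exact ⟨h.1, fun h0 => h.2.resolve_left (fun hne => hne (congrArg Fin.val h0))⟩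
  refine BlockMax.isCoatom_stabilizer (Set.toFinite _) (TripleOrbits.orbit_eq TripleOrbits.std_mem)
    (fun y => label (TripleOrbits.kf (maskOfSet y))) (by norm_num) ?_ ?_ ![1, 63, 630, 210, 1120] ?_ ?_ 2024
    TripleOrbits.ncard_ksets (by decide +kernel)
  · intro y hy
    constructor
    · intro h
      exact Masks.maskOfSet_injective ((hval y hy).2 h |>.trans TripleOrbits.maskOfSet_std.symm)
    · rintro rfl
      rw [TripleOrbits.maskOfSet_std]; exact root_kf
  · intro y hy z hz h
    exact TripleOrbits.std_classes hy hz (label_inj _ (hval y hy).1 _ (hval z hz).1 h)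
  · intro i
    rw [← counts i, ← CodedOrbit.class_ncard (Ω := TripleOrbits.ksets) (E := maskOfSet) Masks.maskOfSet_injective.injOn TripleOrbits.univ_nodup TripleOrbits.mem_univMasks]
    congr 1
    ext y
    simp [Fin.ext_iff]
  · decide

end Cfsg.Agent.S1564
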