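import Cfsg.Statements.S1565
import Cfsg.Agent.Lib.SporStruct.OctadOrbits

set_option autoImplicit false
open scoped Pointwise
open Cfsg

namespace Cfsg.Agent.S1565

open Cfsg.Agent.Lib.SporStruct

/-- The class of an intersection size. -/
def label (i : ℕ) : Fin 4 := if i = 8 then 0 else if i = 0 then 1 else if i = 2 then 2 else 3

theorem counts :
    OctadOrbits.univMasks.countP (fun m => Nat.beq (Cfsg.Agent.Lib.Golay.pc24 (OctadData.root &&& m)) 8) = 1 ∧
    OctadOrbits.univMasks.countP (fun m => Nat.beq (Cfsg.Agent.Lib.Golay.pc24 (OctadData.root &&& m)) 0) = 30 ∧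
    OctadOrbits.univMasks.countP (fun m => Nat.beq (Cfsg.Agent.Lib.Golay.pc24 (OctadData.root &&& m)) 2) = 448 ∧
    OctadOrbits.univMasks.countP (fun m => Nat.beq (Cfsg.Agent.Lib.Golay.pc24 (OctadData.root &&& m)) 4) = 280 := by
  decide +kernel

/-- The stabiliser of an octad is a maximal proper subgroup of the group of the length-24 code. -/
theorem result (o : Finset Cfsg.GolayPt) (ho : o ∈ Cfsg.octads) : IsCoatom (MulAction.stabilizer Cfsg.M24 o) := by
  have hinter : ∀ o' ∈ Cfsg.octads, (o ∩ o').card = 8 ∨ (o ∩ o').card = 0 ∨ (o ∩ o').card = 2 ∨ (o ∩ o').card = 4 := by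
    intro o' ho'
    have h1 := Masks.card_symmDiff_add o o'
    have h2 := Cfsg.Agent.Lib.Golay.card_of_mem_supports (Masks.symmDiff_mem_supports ho.1 ho'.1)
    have h3 : (o ∩ o').card ≤ 8 := ho.2 ▸ Finset.card_le_card Finset.inter_subset_left
    rw [ho.2, ho'.2] at h1
    omega
  have hlab : ∀ i, (i = 8 ∨ i = 0 ∨ i = 2 ∨ i = 4) → ∀ j : Fin 4, label i = j ↔ i = ![8, 0, 2, 4] j := by
    intro i hi j
    rcases hi with rfl | rfl | rfl | rfl <;> fin_cases j <;> simp [label]
  refine BlockMax.isCoatom_stabilizer (Set.toFinite _) (OctadOrbits.orbit_eq ho)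
    (fun y => label (o ∩ y).card) (by norm_num) ?_ ?_ ![1, 30, 448, 280] ?_ ?_ 759
    Cfsg.Agent.Lib.Golay.ncard_octads (by decide +kernel)
  · intro y hy
    rw [hlab _ (hinter y hy)]
    constructor
    · intro h
      have e : o ∩ y = o := Finset.eq_of_subset_of_card_le Finset.inter_subset_left (by rw [ho.2, h]; rfl)
      refine (Finset.eq_of_subset_of_card_le (fun x hx => ?_) (by rw [hy.2, ho.2])).symm
      rw [← e] at hx
      exact (Finset.mem_inter.1 hx).2
    · rintro rfl; rw [Finset.inter_self]; exact ho.2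
  · intro y hy z hz h
    refine OctadOrbits.classes_trans ho hy hz ?_
    rw [(hlab _ (hinter y hy) _).1 h]
    exact ((hlab _ (hinter z hz) _).1 rfl).symm
  · intro i
    have e : {y | y ∈ Cfsg.octads ∧ label (o ∩ y).card = i} = {y | y ∈ Cfsg.octads ∧ (o ∩ y).card = ![8, 0, 2, 4] i} := by
      ext y
      exact ⟨fun h => ⟨h.1, (hlab _ (hinter y h.1) i).1 h.2⟩, fun h => ⟨h.1, (hlab _ (hinter y h.1) i).2 h.2⟩⟩
    rw [e, OctadOrbits.ncard_class ho]
    fin_cases i
    · exact counts.1
    · exact counts.2.1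
    · exact counts.2.2.1
    · exact counts.2.2.2
  · decide

end Cfsg.Agent.S1565
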