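import Cfsg.Statements.S1566
import Cfsg.Agent.Lib.SporStruct.DodecadOrbits

set_option autoImplicit false
open scoped Pointwise
open Cfsg

namespace Cfsg.Agent.S1566

open Cfsg.Agent.Lib.SporStruct OrbitTree
open Cfsg.Agent.Lib.Golay
open scoped Pointwise

/-- A complementary pair. -/
def pair (d : Finset Cfsg.GolayPt) : Finset (Finset Cfsg.GolayPt) := {d, dᶜ}

theorem smul_compl' (g : ↥Cfsg.M24) (d : Finset Cfsg.GolayPt) : g • dᶜ = (g • d)ᶜ := by
  rw [Finset.compl_eq_univ_sdiff, Finset.smul_finset_sdiff, Finset.smul_finset_univ,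
    Finset.compl_eq_univ_sdiff]

theorem smul_pair (g : ↥Cfsg.M24) (d : Finset Cfsg.GolayPt) : g • pair d = pair (g • d) := by
  simp only [pair, Finset.smul_finset_insert, Finset.smul_finset_singleton, smul_compl']

theorem pair_compl (d : Finset Cfsg.GolayPt) : pair dᶜ = pair d := by
  simp only [pair, compl_compl]
  exact Finset.pair_comm _ _

theorem compl_dodecad {d : Finset Cfsg.GolayPt} (hd : d ∈ Cfsg.dodecads) : dᶜ ∈ Cfsg.dodecads :=
  ⟨Masks.compl_mem_supports hd.1, by rw [Finset.card_compl, hd.2, card_golayPt]⟩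

/-- The representatives. -/
def rep : Set (Finset Cfsg.GolayPt) :=
  {d | d ∈ Cfsg.dodecads ∧ maskOfSet d < maskOfSet dᶜ}

theorem pair_injOn : Set.InjOn pair rep := by
  rintro a ⟨_, hlt⟩ b ⟨_, hlt'⟩ h
  have hm : a ∈ pair b := h ▸ (by simp [pair] : a ∈ pair a)
  simp only [pair, Finset.mem_insert, Finset.mem_singleton] at hm
  rcases hm with rfl | rfl
  · rfl
  · rw [compl_compl] at hlt; omega

theorem exists_rep {d : Finset Cfsg.GolayPt} (hd : d ∈ Cfsg.dodecads) : ∃ e ∈ rep, pair e = pair d := by
  rcases lt_trichotomy (maskOfSet d) (maskOfSet dᶜ) with h | h | h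
  · exact ⟨d, ⟨hd, h⟩, rfl⟩
  · exfalso
    have e := Masks.maskOfSet_injective h
    have h1 := congrArg Finset.card (Finset.inter_self d)
    rw [show d ∩ d = d ∩ dᶜ from congrArg (d ∩ ·) e, Finset.inter_compl, hd.2] at h1
    simp at h1
  · exact ⟨dᶜ, ⟨compl_dodecad hd, by rwa [compl_compl]⟩, pair_compl d⟩

/-- The class of a pair relative to the standard dodecad. -/
noncomputable def label (P : Finset (Finset Cfsg.GolayPt)) : Fin 3 :=
  if ∃ t ∈ P, (DodecadOrbits.std ∩ t).card = 12 then 0
  else if ∃ t ∈ P, (DodecadOrbits.std ∩ t).card = 4 then 1 else 2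

/-- The class computed from a mask. -/
def labelMask (m : ℕ) : Fin 3 :=
  let i := pc24 (DodecadData.root &&& m)
  bif Nat.beq i 12 || Nat.beq i 0 then 0 else (bif Nat.beq i 4 || Nat.beq i 8 then 1 else 2)

theorem inter_add_compl (d : Finset Cfsg.GolayPt) :
    (DodecadOrbits.std ∩ d).card + (DodecadOrbits.std ∩ dᶜ).card = 12 := by
  rw [← Finset.sdiff_eq_inter_compl, Finset.card_inter_add_card_sdiff]
  exact DodecadOrbits.std_mem.2

theorem label_pair (d : Finset Cfsg.GolayPt) : label (pair d) = labelMask (maskOfSet d) := by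
  have h := inter_add_compl d
  rw [DodecadOrbits.card_inter_std d] at h
  simp only [label, labelMask, pair, Finset.mem_insert, Finset.mem_singleton, exists_eq_or_imp,
    exists_eq_left, DodecadOrbits.card_inter_std d]
  generalize pc24 (DodecadData.root &&& maskOfSet d) = a at h ⊢
  generalize (DodecadOrbits.std ∩ dᶜ).card = b at h ⊢
  have ha : a ≤ 12 := by omega
  obtain rfl : b = 12 - a := by omega
  revert ha a
  decide +kernel

theorem counts : ∀ i : Fin 3, (DodecadOrbits.univMasks.countP fun m =>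
    Nat.blt m (m ^^^ 16777215) && Nat.beq (labelMask m).val i.val) = ![1, 495, 792] i := by
  decide +kernel

theorem total : (DodecadOrbits.univMasks.countP fun m => Nat.blt m (m ^^^ 16777215)) = 1288 := by
  decide +kernel

theorem inter_cases : (DodecadOrbits.univMasks.all fun m =>
    [12, 0, 4, 6, 8].contains (pc24 (DodecadData.root &&& m))) = true := by
  decide +kernel

/-- The setwise stabiliser of a dodecad together with its complement is a maximal proper subgroup of the group of the length-24 code. -/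
theorem result (d : Finset Cfsg.GolayPt) (hd : d ∈ Cfsg.dodecads) : IsCoatom (MulAction.stabilizer Cfsg.M24 ({d, dᶜ} : Finset (Finset Cfsg.GolayPt))) := by
  obtain ⟨g, rfl⟩ := DodecadOrbits.exists_smul_std hd
  show IsCoatom (MulAction.stabilizer ↥Cfsg.M24 (pair (g • DodecadOrbits.std)))
  rw [← smul_pair]
  refine BlockMax.isCoatom_smul g ?_
  have horb : MulAction.orbit ↥Cfsg.M24 (pair DodecadOrbits.std) = pair '' rep := by
    ext P
    constructor
    · rintro ⟨a, rfl⟩
      obtain ⟨e, he, hee⟩ := exists_rep (DodecadOrbits.smul_mem a DodecadOrbits.std_mem)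
      exact ⟨e, he, hee.trans (smul_pair a _).symm⟩
    · rintro ⟨e, he, rfl⟩
      obtain ⟨a, rfl⟩ := DodecadOrbits.exists_smul_std he.1
      exact ⟨a, smul_pair a _⟩
  have hcl := fun (p : ℕ → Bool) => CodedOrbit.class_ncard (Ω := Cfsg.dodecads) (E := maskOfSet)
    Masks.maskOfSet_injective.injOn DodecadOrbits.univ_nodup DodecadOrbits.mem_univMasks p
  refine BlockMax.isCoatom_stabilizer (Set.toFinite _) horb label (by norm_num) ?_ ?_
    ![1, 495, 792] ?_ (by decide) 1288 ?_ (by decide +kernel)
  · rintro _ ⟨e, he, rfl⟩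
    constructor
    · intro h
      have hh : ∃ t ∈ pair e, (DodecadOrbits.std ∩ t).card = 12 := by
        by_contra hcon
        rw [label, if_neg hcon] at h
        split at h <;> exact absurd h (by decide)
      obtain ⟨t, ht, h12⟩ := hh
      have htd : t ∈ Cfsg.dodecads ∧ pair t = pair e := by
        simp only [pair, Finset.mem_insert, Finset.mem_singleton] at ht
        rcases ht with rfl | rfl
        · exact ⟨he.1, rfl⟩
        · exact ⟨compl_dodecad he.1, pair_compl e⟩
      have e1 : DodecadOrbits.std ∩ t = DodecadOrbits.std :=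
        Finset.eq_of_subset_of_card_le Finset.inter_subset_left (by rw [h12, DodecadOrbits.std_mem.2])
      have e2 : DodecadOrbits.std = t := Finset.eq_of_subset_of_card_le
        (fun x hx => (Finset.mem_inter.1 (by rw [e1]; exact hx)).2) (by rw [DodecadOrbits.std_mem.2, htd.1.2])
      rw [← htd.2, ← e2]
    · intro h
      rw [h, label, if_pos ⟨DodecadOrbits.std, by simp [pair], by rw [Finset.inter_self]; exact DodecadOrbits.std_mem.2⟩]
  · rintro _ ⟨a, ha, rfl⟩ _ ⟨b, hb, rfl⟩ h
    rw [label_pair, label_pair] at h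
    have hmem : ∀ e ∈ Cfsg.dodecads, pc24 (DodecadData.root &&& maskOfSet e) ∈ [12, 0, 4, 6, 8] := fun e he => by
      have := List.all_eq_true.1 inter_cases _ ((DodecadOrbits.mem_univMasks _).2 ⟨e, he, rfl⟩)
      simpa using this
    have key : ∀ i ∈ [12, 0, 4, 6, 8], ∀ j ∈ [12, 0, 4, 6, 8],
        (bif Nat.beq i 12 || Nat.beq i 0 then (0 : Fin 3) else (bif Nat.beq i 4 || Nat.beq i 8 then 1 else 2)) =
        (bif Nat.beq j 12 || Nat.beq j 0 then (0 : Fin 3) else (bif Nat.beq j 4 || Nat.beq j 8 then 1 else 2)) →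
        i = j ∨ i + j = 12 := by decide +kernel
    rcases key _ (hmem a ha.1) _ (hmem b hb.1) h with he | he
    · obtain ⟨k, hk, hk'⟩ := DodecadOrbits.std_classes ha.1 hb.1 (by
        rw [DodecadOrbits.card_inter_std, DodecadOrbits.card_inter_std, he])
      exact ⟨k, by rw [smul_pair, hk], by rw [smul_pair, hk']⟩
    · obtain ⟨k, hk, hk'⟩ := DodecadOrbits.std_classes ha.1 (compl_dodecad hb.1) (by
        have := inter_add_compl b
        rw [DodecadOrbits.card_inter_std b] at this
        rw [DodecadOrbits.card_inter_std a]; omega)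
      exact ⟨k, by rw [smul_pair, hk], by rw [smul_pair, hk', pair_compl]⟩
  · intro i
    rw [← counts i, ← hcl]
    have e : {P | P ∈ pair '' rep ∧ label P = i} = pair '' {d | d ∈ rep ∧ label (pair d) = i} := by
      ext P
      constructor
      · rintro ⟨⟨d, hd, rfl⟩, hl⟩; exact ⟨d, ⟨hd, hl⟩, rfl⟩
      · rintro ⟨d, ⟨hd, hl⟩, rfl⟩; exact ⟨⟨d, hd, rfl⟩, hl⟩
    rw [e, (pair_injOn.mono fun d hd => hd.1).ncard_image]
    congr 1
    ext d
    simp [rep, label_pair, Masks.maskOfSet_compl, Fin.ext_iff, and_assoc]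
  · rw [pair_injOn.ncard_image, ← total, ← hcl]
    congr 1
    ext d
    simp [rep, Masks.maskOfSet_compl]

end Cfsg.Agent.S1566
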