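import Cfsg.Statements.S1567
import Cfsg.Agent.Lib.LeechMod2.MinSpan

set_option autoImplicit false
open Cfsg

namespace Cfsg.Agent.S1567

/-- The rank-24 lattice is the additive subgroup generated by its 196560 minimal vectors. -/
theorem result : AddSubgroup.closure {x : Cfsg.GolayPt → ℤ | x ∈ Cfsg.leechLattice ∧ Cfsg.sqNorm x = 32} = Cfsg.leechLattice := by
  refine le_antisymm ((AddSubgroup.closure_le _).2 fun x hx => hx.1) fun x hx => ?_
  have h : (⟨x, hx⟩ : ↥Cfsg.leechLattice) ∈ Cfsg.Agent.Lib.LeechMod2.MinSpan.minSpan :=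
    Cfsg.Agent.Lib.LeechMod2.MinSpan.minSpan_eq_top ▸ AddSubgroup.mem_top _
  have hle : Cfsg.Agent.Lib.LeechMod2.MinSpan.minSpan ≤ (AddSubgroup.closure
      {x : Cfsg.GolayPt → ℤ | x ∈ Cfsg.leechLattice ∧ Cfsg.sqNorm x = 32}).comap Cfsg.leechLattice.subtype :=
    (AddSubgroup.closure_le _).2 fun v hv => AddSubgroup.subset_closure ⟨v.2, hv⟩
  exact hle h

end Cfsg.Agent.S1567
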