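import Cfsg.Statements.S1568
import Cfsg.Agent.Lib.Leech.Shells

set_option autoImplicit false
open Cfsg

namespace Cfsg.Agent.S1568

open Cfsg.Agent.Lib Cfsg.Agent.Lib.Leech

/-- Count of even vectors from the alphabets. -/
def evenCount (V0 V1 : List ℤ) : ℕ :=
  let F := fun c => tabGet (tab evenW 4 12 (List.replicate c V1 ++ List.replicate (24 - c) V0)) 12 0
  F 0 + 759 * F 8 + 2576 * F 12 + 759 * F 16 + F 24

theorem counts : evenCount [0] [1, -1] = 5275648 ∧ evenCount [0, 2, -2] [1, -1] = 5275648 + 3108864 ∧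
    evenCount V0full V1full = 5275648 + 3108864 ∧
    4096 * tabGet (tab oddW 2 3 (List.replicate 24 [0, -1])) 3 1 = 8290304 ∧
    4096 * tabGet (tab oddW 2 3 (List.replicate 24 Vkfull)) 3 1 = 8290304 + 98304 := by
  decide +kernel

/-- Even vectors of norm 48 with halved coordinates in the alphabets. -/
def evenSet (V0 V1 : List ℤ) : Set (GolayPt → ℤ) :=
  {x | EvenVec x ∧ sqNorm x = 4 * ((12 : ℕ) : ℤ) ∧ ∀ i, x i / 2 ∈ (if i ∈ res 2 x then V1 else V0)}

/-- Odd vectors of norm 48 with parameters in the alphabet. -/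
def oddSet (V : List ℤ) : Set (GolayPt → ℤ) :=
  {x | OddVec x ∧ sqNorm x = 24 + 8 * ((3 : ℕ) : ℤ) ∧ ∀ i, oddK (x i) ∈ V}

theorem evenSet_ncard {V0 V1 : List ℤ} (n0 : V0.Nodup) (n1 : V1.Nodup)
    (p0 : ∀ v ∈ V0, v % 2 = 0) (p1 : ∀ v ∈ V1, v % 2 = 1) :
    (evenSet V0 V1).ncard = evenCount V0 V1 :=
  (ncard_even n0 n1 p0 p1 (M := 12) (Mmax := 12) le_rfl).trans
    (sum_by_weight fun c => tabGet (tab evenW 4 12 (List.replicate c V1 ++ List.replicate (24 - c) V0)) 12 0)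

theorem oddSet_ncard {V : List ℤ} (nV : V.Nodup) :
    (oddSet V).ncard = 4096 * tabGet (tab oddW 2 3 (List.replicate 24 V)) 3 1 :=
  ncard_odd nV le_rfl

theorem even_eq : evenSet [0, 2, -2] [1, -1] = evenSet V0full V1full := by
  refine Set.eq_of_subset_of_ncard_le ?_ ?_ (Set.finite_of_ncard_ne_zero ?_)
  · rintro x ⟨h1, h2, h3⟩
    refine ⟨h1, h2, fun i => ?_⟩
    have := h3 i
    split_ifs at this ⊢ <;> simp [V0full, V1full] at this ⊢ <;> tauto
  · rw [evenSet_ncard (by decide) (by decide) (by decide) (by decide),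
      evenSet_ncard (by decide) (by decide) (by decide) (by decide), counts.2.1, counts.2.2.1]
  · rw [evenSet_ncard (by decide) (by decide) (by decide) (by decide), counts.2.2.1]
    norm_num

theorem abs_le {x : GolayPt → ℤ} (hn : sqNorm x = 48) (i : GolayPt) : -6 ≤ x i ∧ x i ≤ 6 := by
  have := sq_le_sqNorm x i
  rw [hn] at this
  constructor <;> nlinarith

theorem even_mem {x : GolayPt → ℤ} (hn : sqNorm x = 48) (h : EvenVec x) :
    x ∈ evenSet [0, 2, -2] [1, -1] := by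
  rw [even_eq]
  refine ⟨h, by rw [hn]; norm_num, fun i => ?_⟩
  have := abs_le hn i
  have := h.1 i
  simp only [mem_res]
  split_ifs with h2 <;> simp [V1full, V0full] <;> omega

theorem odd_mem {x : GolayPt → ℤ} (hn : sqNorm x = 48) (h : OddVec x) : x ∈ oddSet Vkfull := by
  refine ⟨h, by rw [hn]; norm_num, fun i => ?_⟩
  obtain ⟨hl, hu⟩ := abs_le hn i
  have hp := h.1 i
  generalize x i = a at hl hu hp
  interval_cases a <;> simp_all [oddK, Vkfull]

theorem even_coord {x : GolayPt → ℤ} (hx : x ∈ evenSet [0, 2, -2] [1, -1]) (i : GolayPt) :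
    x i = 0 ∨ x i = 2 ∨ x i = -2 ∨ x i = 4 ∨ x i = -4 := by
  have h := hx.2.2 i
  have := hx.1.1 i
  split_ifs at h <;> simp at h <;> omega

theorem odd_coord {x : GolayPt → ℤ} (hx : x ∈ oddSet Vkfull) (i : GolayPt) :
    |x i| = 1 ∨ |x i| = 3 ∨ |x i| = 5 := by
  have h := hx.2.2 i
  have := hx.1.1 i
  simp only [oddK, Vkfull, List.mem_cons, List.not_mem_nil, or_false] at h
  split_ifs at h <;> (simp only [Int.abs_eq_natAbs] at *; omega)

theorem oddK_small {a : ℤ} (hp : a % 2 = 1) : oddK a ∈ [(0 : ℤ), -1] ↔ |a| = 1 ∨ |a| = 3 := by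
  simp only [oddK, List.mem_cons, List.not_mem_nil, or_false]
  split_ifs <;> (simp only [Int.abs_eq_natAbs] at *; omega)

theorem twos_eq : {x : Cfsg.GolayPt → ℤ | x ∈ Cfsg.leechLattice ∧ Cfsg.sqNorm x = 48 ∧ ∀ i, x i = 0 ∨ x i = 2 ∨ x i = -2} =
    evenSet [0] [1, -1] := by
  ext x
  constructor
  · rintro ⟨hx, hn, hc⟩
    have he : EvenVec x := (mem_leech_iff.1 hx).resolve_right fun h => by
      have := h.1 none; have := hc none; omega
    refine ⟨he, by rw [hn]; norm_num, fun i => ?_⟩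
    have := hc i
    simp only [mem_res]
    split_ifs <;> simp <;> omega
  · rintro ⟨he, hn, hc⟩
    refine ⟨mem_leech_iff.2 (Or.inl he), by simpa using hn, fun i => ?_⟩
    have h := hc i
    have := he.1 i
    split_ifs at h <;> simp at h <;> omega

theorem fours_eq : {x : Cfsg.GolayPt → ℤ | x ∈ Cfsg.leechLattice ∧ Cfsg.sqNorm x = 48 ∧ ∃ i, |x i| = 4} =
    evenSet [0, 2, -2] [1, -1] \ evenSet [0] [1, -1] := by
  ext x
  constructor
  · rintro ⟨hx, hn, i, hi⟩
    have he : EvenVec x := (mem_leech_iff.1 hx).resolve_right fun h => by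
      have := h.1 i; (simp only [Int.abs_eq_natAbs] at *; omega)
    refine ⟨even_mem hn he, fun h => ?_⟩
    rw [← twos_eq] at h
    have := h.2.2 i
    (simp only [Int.abs_eq_natAbs] at *; omega)
  · rintro ⟨h1, h2⟩
    have hn : sqNorm x = 48 := by simpa using h1.2.1
    refine ⟨mem_leech_iff.2 (Or.inl h1.1), hn, ?_⟩
    by_contra hcon
    push Not at hcon
    apply h2
    rw [← twos_eq]
    refine ⟨mem_leech_iff.2 (Or.inl h1.1), hn, fun i => ?_⟩
    have := hcon i
    have := even_coord h1 i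
    (simp only [Int.abs_eq_natAbs] at *; omega)

theorem five_excludes {x : GolayPt → ℤ} (ho : OddVec x) (hn : sqNorm x = 48) {i j : GolayPt}
    (hij : i ≠ j) (hi : |x i| = 5) (hj : |x j| ≠ 1) : False := by
  have h1 : ∀ a ∈ Finset.univ, (1 : ℤ) ≤ x a ^ 2 := fun a _ => by
    have := ho.1 a
    rcases (by omega : 1 ≤ x a ∨ x a ≤ -1) with h' | h' <;> nlinarith
  have hj9 : 9 ≤ x j ^ 2 := by
    have := ho.1 j
    rcases (by simp only [Int.abs_eq_natAbs] at *; omega : 3 ≤ x j ∨ x j ≤ -3) with h' | h' <;> nlinarith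
  have hi25 : x i ^ 2 = 25 := by rw [← sq_abs, hi]; norm_num
  have h2 : ∑ a ∈ Finset.univ \ {i, j}, (1 : ℤ) ≤ ∑ a ∈ Finset.univ \ {i, j}, x a ^ 2 :=
    Finset.sum_le_sum fun a _ => h1 a (Finset.mem_univ a)
  have h3 : sqNorm x = x i ^ 2 + x j ^ 2 + ∑ a ∈ Finset.univ \ {i, j}, x a ^ 2 := by
    rw [sqNorm, ← Finset.sum_sdiff (Finset.subset_univ ({i, j} : Finset GolayPt)), Finset.sum_pair hij]
    ring
  rw [Finset.sum_const, Finset.card_sdiff_of_subset (Finset.subset_univ _), Finset.card_univ, card_pt,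
    Finset.card_pair hij, nsmul_eq_mul, mul_one] at h2
  push_cast at h2
  omega

theorem threes_eq : {x : Cfsg.GolayPt → ℤ | x ∈ Cfsg.leechLattice ∧ Cfsg.sqNorm x = 48 ∧ ∃ i j k, i ≠ j ∧ j ≠ k ∧ i ≠ k ∧ |x i| = 3 ∧ |x j| = 3 ∧ |x k| = 3} =
    oddSet [0, -1] := by
  ext x
  constructor
  · rintro ⟨hx, hn, i, j, k, hij, -, -, hi, hj, -⟩
    have ho : OddVec x := (mem_leech_iff.1 hx).resolve_left fun h => by
      have := h.1 i; (simp only [Int.abs_eq_natAbs] at *; omega)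
    refine ⟨ho, by rw [hn]; norm_num, fun a => (oddK_small (ho.1 a)).2 ?_⟩
    rcases odd_coord (odd_mem hn ho) a with h | h | h
    · exact Or.inl h
    · exact Or.inr h
    · exfalso
      by_cases hai : a = i
      · subst hai; omega
      · exact five_excludes ho hn hai h (by omega)
  · rintro ⟨ho, hn, hc⟩
    have hn' : sqNorm x = 48 := by simpa using hn
    refine ⟨mem_leech_iff.2 (Or.inr ho), hn', ?_⟩
    have hv : ∀ a, |x a| = 1 ∨ |x a| = 3 := fun a => (oddK_small (ho.1 a)).1 (hc a)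
    let T := Finset.univ.filter fun a => |x a| = 3
    have hsum : sqNorm x = 24 + 8 * (T.card : ℤ) := by
      rw [sqNorm, Finset.sum_congr rfl (g := fun a => (1 : ℤ) + 8 * if |x a| = 3 then 1 else 0)
        (fun a _ => by rcases hv a with h | h <;> rw [← sq_abs, h] <;> norm_num),
        Finset.sum_add_distrib, Finset.sum_const, Finset.card_univ, card_pt, ← Finset.mul_sum,
        Finset.sum_boole]
      norm_num [T]
    obtain ⟨i, j, k, h1, h2, h3, e⟩ := Finset.card_eq_three.1 (show T.card = 3 by omega)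
    have hm : ∀ a ∈ T, |x a| = 3 := fun a ha => (Finset.mem_filter.1 ha).2
    exact ⟨i, j, k, h1, h3, h2, hm i (by simp [e]), hm j (by simp [e]), hm k (by simp [e])⟩

theorem fives_eq : {x : Cfsg.GolayPt → ℤ | x ∈ Cfsg.leechLattice ∧ Cfsg.sqNorm x = 48 ∧ ∃ i, |x i| = 5} =
    oddSet Vkfull \ oddSet [0, -1] := by
  ext x
  constructor
  · rintro ⟨hx, hn, i, hi⟩
    have ho : OddVec x := (mem_leech_iff.1 hx).resolve_left fun h => by
      have := h.1 i; (simp only [Int.abs_eq_natAbs] at *; omega)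
    refine ⟨odd_mem hn ho, fun h => ?_⟩
    rcases (oddK_small (ho.1 i)).1 (h.2.2 i) with h' | h' <;> omega
  · rintro ⟨h1, h2⟩
    refine ⟨mem_leech_iff.2 (Or.inr h1.1), by simpa using h1.2.1, ?_⟩
    by_contra hcon
    push Not at hcon
    refine h2 ⟨h1.1, h1.2.1, fun a => (oddK_small (h1.1.1 a)).2 ?_⟩
    rcases odd_coord h1 a with h | h | h
    · exact Or.inl h
    · exact Or.inr h
    · exact absurd h (hcon a)

/-- Shape census of the lattice vectors of sum of squares 48 (customary norm 6): the four families (2^12, 0^12), (±3^3, ±1^21), (±4, ±2^8, 0^15) and (±5, ±1^23) have 5275648, 8290304, 3108864 and 98304 members. -/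
theorem result : {x : Cfsg.GolayPt → ℤ | x ∈ Cfsg.leechLattice ∧ Cfsg.sqNorm x = 48 ∧ ∀ i, x i = 0 ∨ x i = 2 ∨ x i = -2}.ncard = 5275648 ∧ {x : Cfsg.GolayPt → ℤ | x ∈ Cfsg.leechLattice ∧ Cfsg.sqNorm x = 48 ∧ ∃ i j k, i ≠ j ∧ j ≠ k ∧ i ≠ k ∧ |x i| = 3 ∧ |x j| = 3 ∧ |x k| = 3}.ncard = 8290304 ∧ {x : Cfsg.GolayPt → ℤ | x ∈ Cfsg.leechLattice ∧ Cfsg.sqNorm x = 48 ∧ ∃ i, |x i| = 4}.ncard = 3108864 ∧ {x : Cfsg.GolayPt → ℤ | x ∈ Cfsg.leechLattice ∧ Cfsg.sqNorm x = 48 ∧ ∃ i, |x i| = 5}.ncard = 98304 := by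
  rw [twos_eq, threes_eq, fours_eq, fives_eq]
  have hA := (evenSet_ncard (V0 := [0]) (V1 := [1, -1]) (by decide) (by decide) (by decide) (by decide)).trans counts.1
  have hAll := (evenSet_ncard (V0 := [0, 2, -2]) (V1 := [1, -1]) (by decide) (by decide) (by decide) (by decide)).trans counts.2.1
  have hB := (oddSet_ncard (V := [0, -1]) (by decide)).trans counts.2.2.2.1
  have hOdd := (oddSet_ncard (V := Vkfull) (by decide)).trans counts.2.2.2.2
  refine ⟨hA, hB, ?_, ?_⟩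
  · have hsub : evenSet [0] [1, -1] ⊆ evenSet [0, 2, -2] [1, -1] := by
      rintro x ⟨h1, h2, h3⟩
      refine ⟨h1, h2, fun i => ?_⟩
      have := h3 i
      split_ifs at this ⊢ <;> simp at this ⊢ <;> tauto
    rw [Set.ncard_sdiff hsub (Set.finite_of_ncard_ne_zero (by rw [hA]; norm_num)), hAll, hA]
  · have hsub : oddSet [0, -1] ⊆ oddSet Vkfull := by
      rintro x ⟨h1, h2, h3⟩
      refine ⟨h1, h2, fun i => ?_⟩
      have := h3 i
      simp [Vkfull] at this ⊢
      tauto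
    rw [Set.ncard_sdiff hsub (Set.finite_of_ncard_ne_zero (by rw [hB]; norm_num)), hOdd, hB]

end Cfsg.Agent.S1568
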