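import Cfsg.Statements.S1572
import Cfsg.Agent.Lib.Leech.CrossMax

set_option autoImplicit false
open scoped Pointwise
open Cfsg

namespace Cfsg.Agent.S1572

/-- The stabiliser of the standard cross is a maximal proper subgroup of the lattice's automorphism group. -/
theorem result (H : Subgroup ↥Cfsg.Co0) (hH : (H : Set ↥Cfsg.Co0) = {g : ↥Cfsg.Co0 | (∀ v : ↥Cfsg.leechLattice, (v : Cfsg.GolayPt → ℤ) ∈ Cfsg.stdCross → ((g • v : ↥Cfsg.leechLattice) : Cfsg.GolayPt → ℤ) ∈ Cfsg.stdCross)}) : IsCoatom H := by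
  have key : ∀ g : ↥Cfsg.Co0, (∀ v : ↥Cfsg.leechLattice, (v : Cfsg.GolayPt → ℤ) ∈ Cfsg.stdCross →
      ((g • v : ↥Cfsg.leechLattice) : Cfsg.GolayPt → ℤ) ∈ Cfsg.stdCross) ↔
      g ∈ Lib.Leech.crossGroup := by
    intro g
    constructor
    · intro h
      obtain ⟨j, s, hs, hj⟩ := h (Lib.Leech.eightE none) ⟨none, 8, Or.inl rfl, rfl⟩
      refine Lib.Leech.axis_of_one (i := none) (j := j) ?_
      rcases hs with rfl | rfl
      · exact Or.inl (Subtype.ext hj)
      · refine Or.inr (Subtype.ext (hj.trans ?_))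
        simp [Lib.Leech.eightE, ← Pi.single_neg]
    · intro hg v hv
      obtain ⟨i, s, hs, hi⟩ := hv
      obtain ⟨j, hj⟩ := hg i
      have hv' : v = Lib.Leech.eightE i ∨ v = -Lib.Leech.eightE i := by
        rcases hs with rfl | rfl
        · exact Or.inl (Subtype.ext hi)
        · refine Or.inr (Subtype.ext (hi.trans ?_))
          simp [Lib.Leech.eightE, ← Pi.single_neg]
      rcases hv' with rfl | rfl <;> rcases hj with hj | hj <;>
        simp only [Lib.Leech.smul_neg', hj, neg_neg] <;>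
        first
        | exact ⟨j, 8, Or.inl rfl, rfl⟩
        | exact ⟨j, -8, Or.inr rfl, by simp [Lib.Leech.eightE, ← Pi.single_neg]⟩
  have e : H = Lib.Leech.crossGroup := SetLike.ext fun g => by
    rw [← key g, ← SetLike.mem_coe, hH]
    rfl
  rw [e]
  exact Lib.Leech.CrossMax.isCoatom_crossGroup

end Cfsg.Agent.S1572
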