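import Cfsg.Statements.S1578
import Cfsg.Agent.Lib.SporStruct.LeechCounts

set_option autoImplicit false
open Cfsg

namespace Cfsg.Agent.S1578

open Cfsg.Agent.Lib Cfsg.Agent.Lib.SporStruct in
/-- A lattice vector of customary norm 6 is the sum of an unordered pair of minimal vectors in exactly 276 ways (552 ordered summands). -/
theorem result (u : ↥Cfsg.leechLattice) (hu : Cfsg.sqNorm (u : Cfsg.GolayPt → ℤ) = 48) : {v : ↥Cfsg.leechLattice | Cfsg.sqNorm (v : Cfsg.GolayPt → ℤ) = 32 ∧ Cfsg.sqNorm ((u - v) : Cfsg.GolayPt → ℤ) = 32}.ncard = 552 := by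
  rw [← LeechCounts.N24 (u := u) hu, LeechCounts.N, ← Set.ncard_coe_finset]
  congr 1
  ext v
  simp only [Finset.coe_filter, LeechCounts.mem_shell, Set.mem_ofPred_eq]
  have e := Leech.sqNorm_sub (u : GolayPt → ℤ) (v : GolayPt → ℤ)
  constructor
  · rintro ⟨h1, h2⟩
    refine ⟨h1, ?_⟩
    show dotInt (u : GolayPt → ℤ) (v : GolayPt → ℤ) = 24
    omega
  · rintro ⟨h1, h2⟩
    have h2' : dotInt (u : GolayPt → ℤ) (v : GolayPt → ℤ) = 24 := h2
    have h1' : sqNorm (v : GolayPt → ℤ) = 32 := h1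
    exact ⟨h1', by omega⟩

end Cfsg.Agent.S1578
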