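import Cfsg.Statements.S1585
import Cfsg.Agent.Lib.SporStruct.LeechPairs

set_option autoImplicit false
open Cfsg

namespace Cfsg.Agent.S1585

open Cfsg.Agent.Lib Cfsg.Agent.Lib.SporStruct in
/-- Two vectors of customary norm 6 with inner product −4 are exchanged by some automorphism of the lattice. -/
theorem result (v w : ↥Cfsg.leechLattice) (hv : Cfsg.sqNorm (v : Cfsg.GolayPt → ℤ) = 48) (hw : Cfsg.sqNorm (w : Cfsg.GolayPt → ℤ) = 48) (hvw : Cfsg.dotInt (v : Cfsg.GolayPt → ℤ) (w : Cfsg.GolayPt → ℤ) = -32) : ∃ g : ↥Cfsg.Co0, g • v = w ∧ g • w = v := by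
  have hn : sqNorm ((v + w : ↥leechLattice) : GolayPt → ℤ) = 32 := by
    rw [AddSubgroup.coe_add, Leech.sqNorm_add]; omega
  have d1 : dotInt ((v + w : ↥leechLattice) : GolayPt → ℤ) (v : GolayPt → ℤ) = 16 := by
    rw [LeechPairs.dot_comm, AddSubgroup.coe_add, LeechPairs.dot_add_right, LeechPairs.dot_self]
    omega
  have d2 : dotInt ((v + w : ↥leechLattice) : GolayPt → ℤ) (w : GolayPt → ℤ) = 16 := by
    rw [LeechPairs.dot_comm, AddSubgroup.coe_add, LeechPairs.dot_add_right, LeechPairs.dot_self,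
      LeechPairs.dot_comm]
    omega
  obtain ⟨g, g1, g2⟩ := LeechPairs.transitive48_16 (t := v + w) (v := v) (t' := v + w) (v' := w)
    hn hv d1 hn hw d2
  refine ⟨g, g2, ?_⟩
  rw [Leech.smul_add', g2, add_comm v w] at g1
  exact add_left_cancel g1

end Cfsg.Agent.S1585
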