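import Cfsg.Statements.S1587
import Cfsg.Agent.Lib.SporStruct.LatticeClasses

set_option autoImplicit false
open Matrix
open Cfsg

namespace Cfsg.Agent.S1587

open Cfsg.Agent.Lib.SporStruct.LatticeClasses

theorem even_rootless (B : Matrix (Fin 24) (Fin 24) ℤ) (hsymm : B.IsSymm) (hpos : ∀ x : Fin 24 → ℤ, x ≠ 0 → 0 < x ⬝ᵥ (B *ᵥ x)) (heven : ∀ x : Fin 24 → ℤ, (2 : ℤ) ∣ x ⬝ᵥ (B *ᵥ x)) (h2 : ∀ x : Fin 24 → ℤ, x ⬝ᵥ (B *ᵥ x) ≠ 2) :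
    EvenRootless (fun x y : Fin 24 → ℤ => x ⬝ᵥ (B *ᵥ y)) where
  symm x y := by
    rw [Matrix.dotProduct_mulVec, ← Matrix.mulVec_transpose, hsymm.eq, dotProduct_comm]
  add_left x y z := add_dotProduct _ _ _
  pos := hpos
  even := heven
  ne_two := h2

theorem cong_iff (x y : Fin 24 → ℤ) : (∃ z, x - y = z + z) ↔ ∀ i, (2 : ℤ) ∣ (x - y) i := by
  constructor
  · rintro ⟨z, hz⟩ i
    exact ⟨z i, by rw [hz, Pi.add_apply]; ring⟩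
  · intro h
    choose z hz using h
    exact ⟨z, funext fun i => by rw [hz i, Pi.add_apply]; ring⟩

/-- First step of the characterisation of the rank-24 lattice: in an even lattice without roots, norm-8 vectors congruent modulo 2 are equal, opposite or orthogonal. -/
theorem result (B : Matrix (Fin 24) (Fin 24) ℤ) (hsymm : B.IsSymm) (hpos : ∀ x : Fin 24 → ℤ, x ≠ 0 → 0 < x ⬝ᵥ (B *ᵥ x)) (heven : ∀ x : Fin 24 → ℤ, (2 : ℤ) ∣ x ⬝ᵥ (B *ᵥ x)) (h2 : ∀ x : Fin 24 → ℤ, x ⬝ᵥ (B *ᵥ x) ≠ 2) (x y : Fin 24 → ℤ) (hx : x ⬝ᵥ (B *ᵥ x) = 8) (hy : y ⬝ᵥ (B *ᵥ y) = 8) (hc : ∀ i, (2 : ℤ) ∣ (x - y) i) : y = x ∨ y = -x ∨ x ⬝ᵥ (B *ᵥ y) = 0 := by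
  rcases (even_rootless B hsymm hpos heven h2).norm8_trichotomy hx hy ((cong_iff x y).2 hc) with h | h | h
  · exact Or.inl h.symm
  · exact Or.inr (Or.inl (by rw [h, neg_neg]))
  · exact Or.inr (Or.inr h)

end Cfsg.Agent.S1587
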