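import Cfsg.Statements.S1588
import Cfsg.Agent.Lib.SporStruct.LatticeClasses

set_option autoImplicit false
open Matrix
open Cfsg

namespace Cfsg.Agent.S1588

open Cfsg.Agent.Lib.SporStruct.LatticeClasses

theorem even_rootless (B : Matrix (Fin 24) (Fin 24) ℤ) (hsymm : B.IsSymm) (hpos : ∀ x : Fin 24 → ℤ, x ≠ 0 → 0 < x ⬝ᵥ (B *ᵥ x)) (heven : ∀ x : Fin 24 → ℤ, (2 : ℤ) ∣ x ⬝ᵥ (B *ᵥ x)) (h2 : ∀ x : Fin 24 → ℤ, x ⬝ᵥ (B *ᵥ x) ≠ 2) :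
    EvenRootless (fun x y : Fin 24 → ℤ => x ⬝ᵥ (B *ᵥ y)) where
  symm x y := by
    rw [Matrix.dotProduct_mulVec, ← Matrix.mulVec_transpose, hsymm.eq, dotProduct_comm]
  add_left x y z := add_dotProduct _ _ _
  pos := hpos
  even := heven
  ne_two := h2

theorem cong_iff (x y : Fin 24 → ℤ) : (∃ z, x - y = z + z) ↔ ∀ i, (2 : ℤ) ∣ (x - y) i := by
  constructor
  · rintro ⟨z, hz⟩ i
    exact ⟨z i, by rw [hz, Pi.add_apply]; ring⟩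
  · intro h
    choose z hz using h
    exact ⟨z, funext fun i => by rw [hz i, Pi.add_apply]; ring⟩

theorem rank_bound (B : Matrix (Fin 24) (Fin 24) ℤ) (U : Finset (Fin 24 → ℤ))
    (hU : ∀ x ∈ U, x ⬝ᵥ (B *ᵥ x) ≠ 0)
    (ho : ∀ x ∈ U, ∀ y ∈ U, x ≠ y → x ⬝ᵥ (B *ᵥ y) = 0) : U.card ≤ 24 := by
  have h := orth_card_le (LinearMap.mk₂ ℤ (fun x y : Fin 24 → ℤ => x ⬝ᵥ (B *ᵥ y))
    (fun a b c => add_dotProduct a b _) (fun c a b => smul_dotProduct c a _)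
    (fun a b c => by rw [Matrix.mulVec_add, dotProduct_add])
    (fun c a b => by rw [Matrix.mulVec_smul, dotProduct_smul])) U (by simpa using hU) (by simpa using ho)
  simpa using h

/-- Second step of the characterisation: under the vector counts of the rank-24 lattice, the norm-8 vectors fall into congruence classes of exactly 48 modulo twice the lattice. -/
theorem result (B : Matrix (Fin 24) (Fin 24) ℤ) (hsymm : B.IsSymm) (hpos : ∀ x : Fin 24 → ℤ, x ≠ 0 → 0 < x ⬝ᵥ (B *ᵥ x)) (heven : ∀ x : Fin 24 → ℤ, (2 : ℤ) ∣ x ⬝ᵥ (B *ᵥ x)) (h2 : ∀ x : Fin 24 → ℤ, x ⬝ᵥ (B *ᵥ x) ≠ 2) (h4 : {x : Fin 24 → ℤ | x ⬝ᵥ (B *ᵥ x) = 4}.ncard = 196560) (h6 : {x : Fin 24 → ℤ | x ⬝ᵥ (B *ᵥ x) = 6}.ncard = 16773120) (h8 : {x : Fin 24 → ℤ | x ⬝ᵥ (B *ᵥ x) = 8}.ncard = 398034000) (x : Fin 24 → ℤ) (hx : x ⬝ᵥ (B *ᵥ x) = 8) : {y : Fin 24 → ℤ | y ⬝ᵥ (B *ᵥ y) = 8 ∧ ∀ i, (2 : ℤ) ∣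 (x - y) i}.ncard = 48 := by
  have h := (class_count (K := Fin 24 → ZMod 2) (by simp) (even_rootless B hsymm hpos heven h2)
    (fun x i => (x i : ZMod 2)) (fun x y => by
      rw [cong_iff, funext_iff]
      refine forall_congr' fun i => ?_
      rw [ZMod.intCast_eq_intCast_iff_dvd_sub, Pi.sub_apply, dvd_sub_comm]
      rfl)
    (fun U hU ho => rank_bound B U (fun x hx => ne_of_gt (hpos x (hU x hx))) ho) h4 h6 h8).1 x hx
  rw [← h]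
  congr 1
  ext y
  simp only [Set.mem_setOf_eq, cong_iff]

end Cfsg.Agent.S1588
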