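import Cfsg.Statements.S1589
import Cfsg.Agent.Lib.M24Index.Main
import Cfsg.Agent.Lib.M24Index.Pair

set_option autoImplicit false
open scoped Pointwise
open Cfsg

namespace Cfsg.Agent.S1589

open Cfsg.Agent.Lib.M24Index.Main in
/-- Conjugate into the overgroups of the coded Sylow group. -/
theorem conj_le (H : Subgroup ↥Cfsg.M24) (h2 : 1024 ∣ Nat.card H) (h11 : ¬ 11 ∣ Nat.card H)
    (h23 : ¬ 23 ∣ Nat.card H) : ∃ g : ↥Cfsg.M24,
      H ≤ MulAction.stabilizer Cfsg.M24 (g • o0) ∨ H ≤ MulAction.stabilizer Cfsg.M24 (g • x0) ∨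
        H ≤ MulAction.stabilizer Cfsg.M24 (g • t0) := by
  haveI : Fact (Nat.Prime 2) := ⟨Nat.prime_two⟩
  obtain ⟨P, hP⟩ := Sylow.exists_subgroup_card_pow_prime (G := H) 2 (n := 10) (by
    rw [show (2 : ℕ) ^ 10 = 1024 by norm_num]; exact h2)
  have hfac : (Nat.card Cfsg.M24).factorization 2 = 10 := by
    rw [Cfsg.Agent.Lib.Golay.card_M24, show (244823040 : ℕ) = 2 ^ 10 * 239085 by norm_num,
      Nat.factorization_mul (by norm_num) (by norm_num), Finsupp.add_apply,
      Nat.Prime.factorization_pow Nat.prime_two, Finsupp.single_eq_same,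
      Nat.factorization_eq_zero_of_not_dvd (by norm_num : ¬ 2 ∣ 239085)]
  let P' : Sylow 2 Cfsg.M24 := Sylow.ofCard (P.map H.subtype) (by
    rw [Subgroup.card_map_of_injective H.subtype_injective, hP, hfac])
  let T : Sylow 2 Cfsg.M24 := Sylow.ofCard S (by rw [card_S, hfac]; norm_num)
  obtain ⟨g, hg⟩ := MulAction.exists_smul_eq Cfsg.M24 T P'
  set H' := H.map (MulAut.conj g⁻¹).toMonoidHom
  have hS : S ≤ H' := by
    intro s hs
    have h1 : g * s * g⁻¹ ∈ ((g • T : Sylow 2 Cfsg.M24) : Subgroup Cfsg.M24) := by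
      rw [Sylow.coe_subgroup_smul]
      exact ⟨s, hs, rfl⟩
    rw [hg] at h1
    obtain ⟨y, -, hy⟩ := h1
    refine ⟨g * s * g⁻¹, hy ▸ y.2, ?_⟩
    simp [mul_assoc]
  have hc : Nat.card H' = Nat.card H :=
    Subgroup.card_map_of_injective (MulAut.conj g⁻¹).injective
  have key : ∀ {α : Type} [inst : MulAction Cfsg.M24 α] (a : α),
      H' ≤ MulAction.stabilizer Cfsg.M24 a → H ≤ MulAction.stabilizer Cfsg.M24 (g • a) := by
    intro α _ a ha h hh
    have h1 := MulAction.mem_stabilizer_iff.1 (ha ⟨h, hh, rfl⟩)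
    rw [MulEquiv.coe_toMonoidHom, MulAut.conj_apply, inv_inv, mul_smul, mul_smul,
      inv_smul_eq_iff] at h1
    exact MulAction.mem_stabilizer_iff.2 h1
  refine ⟨g, ?_⟩
  rcases le_stab H' hS (hc ▸ h11) (hc ▸ h23) with h | h | h
  · exact Or.inl (key _ h)
  · exact Or.inr (Or.inl (key _ h))
  · exact Or.inr (Or.inr (key _ h))

open Cfsg.Agent.Lib.M24Index.Main in
/-- Orders of stabilisers of translates. -/
theorem card_translate (g : ↥Cfsg.M24) :
    Nat.card (MulAction.stabilizer Cfsg.M24 (g • o0)) = 322560 ∧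
    Nat.card (MulAction.stabilizer Cfsg.M24 (g • x0)) = 138240 ∧
    Nat.card (MulAction.stabilizer Cfsg.M24 (g • t0)) = 64512 := by
  refine ⟨?_, ?_, ?_⟩ <;>
    rw [MulAction.stabilizer_smul_eq_stabilizer_map_conj,
      Subgroup.card_map_of_injective (MulAut.conj g).injective]
  exacts [card_stab_o0, card_stab_x0, card_stab_t0]

/-- Subgroups of the group of the length-24 code of index 759, 276 and 1771 are exactly the octad, duad and sextet stabilisers, and no subgroup has index 253. -/
theorem result : (∀ H : Subgroup ↥Cfsg.M24, H.index = 759 → ∃ o ∈ Cfsg.octads, H = MulAction.stabilizer Cfsg.M24 o) ∧ (∀ H : Subgroup ↥Cfsg.M24, H.index = 276 → ∃ s : Finset Cfsg.GolayPt, s.card = 2 ∧ H = MulAction.stabilizer Cfsg.M24 s) ∧ (∀ H : Subgroup ↥Cfsg.M24, H.index = 1771 → ∃ S ∈ Cfsg.sextets, H = MulAction.stabilizer Cfsg.M24 S) ∧ ∀ H : Subgroup ↥Cfsg.M24, H.index ≠ 253 := by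
  have hcard : ∀ (H : Subgroup ↥Cfsg.M24) (n : ℕ), H.index = n → Nat.card H * n = 244823040 :=
    fun H n hn => by rw [← hn, Subgroup.card_mul_index, Cfsg.Agent.Lib.Golay.card_M24]
  refine ⟨fun H hH => ?_, fun H hH => ?_, fun H hH => ?_, fun H hH => ?_⟩
  · have hc : Nat.card H = 322560 := by have := hcard H _ hH; omega
    obtain ⟨g, h | h | h⟩ := conj_le H (by rw [hc]; norm_num) (by rw [hc]; norm_num) (by rw [hc]; norm_num)
    · refine ⟨_, Cfsg.Agent.Lib.SporStruct.OctadOrbits.smul_mem g
        Cfsg.Agent.Lib.M24Index.Main.o0_mem, Subgroup.eq_of_le_of_card_ge h ?_⟩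
      rw [hc, (card_translate g).1]
    · have := Subgroup.card_dvd_of_le h
      rw [hc, (card_translate g).2.1] at this
      norm_num at this
    · have := Subgroup.card_dvd_of_le h
      rw [hc, (card_translate g).2.2] at this
      norm_num at this
  · have hc : Nat.card H = 887040 := by have := hcard H _ hH; omega
    exact Cfsg.Agent.Lib.M24Index.Pair.pair H hc
  · have hc : Nat.card H = 138240 := by have := hcard H _ hH; omega
    obtain ⟨g, h | h | h⟩ := conj_le H (by rw [hc]; norm_num) (by rw [hc]; norm_num) (by rw [hc]; norm_num)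
    · have := Subgroup.card_dvd_of_le h
      rw [hc, (card_translate g).1] at this
      norm_num at this
    · refine ⟨_, Cfsg.Agent.Lib.SporStruct.SextetOrbits.smul_mem g
        Cfsg.Agent.Lib.M24Index.Main.x0_mem, Subgroup.eq_of_le_of_card_ge h ?_⟩
      rw [hc, (card_translate g).2.1]
    · have := Subgroup.card_dvd_of_le h
      rw [hc, (card_translate g).2.2] at this
      norm_num at this
  · have hc : Nat.card H = 967680 := by have := hcard H _ hH; omega
    obtain ⟨g, h | h | h⟩ := conj_le H (by rw [hc]; norm_num) (by rw [hc]; norm_num) (by rw [hc]; norm_num)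
    · have := Subgroup.card_dvd_of_le h
      rw [hc, (card_translate g).1] at this
      norm_num at this
    · have := Subgroup.card_dvd_of_le h
      rw [hc, (card_translate g).2.1] at this
      norm_num at this
    · have := Subgroup.card_dvd_of_le h
      rw [hc, (card_translate g).2.2] at this
      norm_num at this

end Cfsg.Agent.S1589
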