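import Cfsg.Statements.S1590
import Cfsg.Agent.Lib.SporStruct.TernaryCode

set_option autoImplicit false
open Cfsg

namespace Cfsg.Agent.S1590

open Cfsg.Agent.Lib.SporStruct.TernaryCode

theorem weights : (∀ a : Fin 6 → ZMod 3, a ≠ 0 → (Finset.univ.filter fun i => enc a (ptOf i) ≠ 0).card = 6 ∨ (Finset.univ.filter fun i => enc a (ptOf i) ≠ 0).card = 9 ∨ (Finset.univ.filter fun i => enc a (ptOf i) ≠ 0).card = 12) := by
  decide +kernel

theorem counts : ((Finset.univ : Finset (Fin 6 → ZMod 3)).filter fun a => (Finset.univ.filter fun i => enc a (ptOf i) ≠ 0).card = 6).card = 264 ∧ ((Finset.univ : Finset (Fin 6 → ZMod 3)).filter fun a => (Finset.univ.filter fun i => enc a (ptOf i) ≠ 0).card = 9).card = 440 ∧ ((Finset.univ : Finset (Fin 6 → ZMod 3)).filter fun a => (Finset.univ.filter fun i => enc a (ptOf i) ≠ 0).card = 12).card = 24 := by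
  decide +kernel

theorem card_eq (a : Fin 6 → ZMod 3) :
    (ternarySupport (enc a)).card = (Finset.univ.filter fun i => enc a (ptOf i) ≠ 0).card := by
  rw [← Finset.card_map posEquiv.toEmbedding]
  congr 1
  ext i
  simp [ternarySupport, posEquiv]

theorem ncard_weight (n : ℕ) :
    {x : Cfsg.ArrayPt → ZMod 3 | x ∈ Cfsg.ternaryGolayCode ∧ (Cfsg.ternarySupport x).card = n}.ncard =
      ((Finset.univ : Finset (Fin 6 → ZMod 3)).filter fun a => (Finset.univ.filter fun i => enc a (ptOf i) ≠ 0).card = n).card := by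
  rw [← Set.ncard_coe_finset, ← Set.ncard_image_of_injective _ enc_injective]
  congr 1
  ext x
  simp only [Set.mem_setOf_eq, Set.mem_image, Finset.coe_filter, Finset.mem_univ, true_and, mem_iff]
  constructor
  · rintro ⟨⟨a, rfl⟩, h⟩
    exact ⟨a, by rw [← card_eq]; exact h, rfl⟩
  · rintro ⟨a, h, rfl⟩
    exact ⟨⟨a, rfl⟩, by rw [card_eq]; exact h⟩

/-- The length-12 ternary code has 729 words with weight distribution 0^1 6^264 9^440 12^24. -/
theorem result : Nat.card ↥Cfsg.ternaryGolayCode = 729 ∧ (∀ x ∈ Cfsg.ternaryGolayCode, x ≠ 0 → (Cfsg.ternarySupport x).card = 6 ∨ (Cfsg.ternarySupport x).card = 9 ∨ (Cfsg.ternarySupport x).card = 12) ∧ {x : Cfsg.ArrayPt → ZMod 3 | x ∈ Cfsg.ternaryGolayCode ∧ (Cfsg.ternarySupport x).card = 6}.ncard = 264 ∧ {x : Cfsg.ArrayPt → ZMod 3 | x ∈ Cfsg.ternaryGolayCode ∧ (Cfsg.ternarySupport x).card = 9}.ncard = 440 ∧ {x : Cfsg.ArrayPt → ZMod 3 | x ∈ Cfsg.ternaryGolayCode ∧ (Cfsg.ternarySupport x).card = 12}.ncard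 = 24 := by
  refine ⟨by rw [← Nat.card_congr codeEquiv]; simp, ?_, ?_, ?_, ?_⟩
  · intro x hx hx0
    obtain ⟨a, rfl⟩ := (mem_iff x).1 hx
    rw [card_eq]
    refine weights a (fun h => hx0 ?_)
    rw [h]; funext p; rw [← ptOf_posOf p]; generalize posOf p = k; fin_cases k <;> rfl
  · rw [ncard_weight]; exact counts.1
  · rw [ncard_weight]; exact counts.2.1
  · rw [ncard_weight]; exact counts.2.2

end Cfsg.Agent.S1590
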