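import Cfsg.Statements.S1591
import Cfsg.Agent.Lib.SporStruct.TernaryCode

set_option autoImplicit false
open Cfsg

namespace Cfsg.Agent.S1591

open Cfsg.Agent.Lib.SporStruct.TernaryCode

theorem gens_orth : ∀ i j : Fin 6, ∑ k : Fin 12, enc (Pi.single i 1) (ptOf k) * enc (Pi.single j 1) (ptOf k) = 0 := by
  decide +kernel

theorem enc_expand : ∀ (a : Fin 6 → ZMod 3) (k : Fin 12),
    enc a (ptOf k) = ∑ i, a i * enc (Pi.single i 1) (ptOf k) := by
  decide +kernel

/-- Any two words of the length-12 ternary code have dot product zero. -/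
theorem result (x y : Cfsg.ArrayPt → ZMod 3) (hx : x ∈ Cfsg.ternaryGolayCode) (hy : y ∈ Cfsg.ternaryGolayCode) : ∑ p, x p * y p = 0 := by
  obtain ⟨a, rfl⟩ := (mem_iff x).1 hx
  obtain ⟨b, rfl⟩ := (mem_iff y).1 hy
  rw [← Equiv.sum_comp posEquiv.symm]
  show ∑ k, enc a (ptOf k) * enc b (ptOf k) = 0
  rw [Finset.sum_congr rfl fun k _ => congrArg₂ (· * ·) (enc_expand a k) (enc_expand b k)]
  simp only [Finset.sum_mul_sum]
  rw [Finset.sum_comm]
  refine Finset.sum_eq_zero fun i _ => ?_
  rw [Finset.sum_comm]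
  refine Finset.sum_eq_zero fun j _ => ?_
  have := congrArg (fun t => a i * b j * t) (gens_orth i j)
  simp only [Finset.mul_sum, mul_zero] at this
  rw [← this]
  exact Finset.sum_congr rfl fun k _ => by ring

end Cfsg.Agent.S1591
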