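import Cfsg.Statements.S1592
import Cfsg.Agent.Lib.SporStruct.TernaryHexads

set_option autoImplicit false
open Cfsg

namespace Cfsg.Agent.S1592

open Cfsg.Agent.Lib.SporStruct.TernaryCode

/-- The position set of a mask. -/
def unmask (m : ℕ) : Finset (Fin 12) := Finset.univ.filter fun i => m.testBit (i : ℕ) = true

theorem table_unmask : ∀ m ∈ hexadMasks, mask (unmask m) = m := by decide +kernel

theorem masks_nodup : hexadMasks.Nodup := by decide +kernel

theorem card_six : ∀ m ∈ hexadMasks, (unmask m).card = 6 := by decide +kernel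

/-- Number of ones among the last `k` binary digits. -/
def popc : ℕ → ℕ → ℕ
  | 0, _ => 0
  | k + 1, n => n % 2 + popc k (n / 2)

/-- For five-element masks, exactly one hexad contains it. -/
def uniqueCheck : Bool :=
  (List.range 4096).all fun n => popc 12 n != 5 ||
    (hexadMasks.countP fun m => (n &&& m) == n) == 1

theorem uniqueCheck_eq : uniqueCheck = true := by decide +kernel

theorem popc_eq : ∀ k n : ℕ, popc k n = ∑ i ∈ Finset.range k, (n.testBit i).toNat
  | 0, n => by simp [popc]
  | k + 1, n => by
    rw [Finset.sum_range_succ', popc, popc_eq k (n / 2), Nat.testBit_zero, add_comm]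
    congr 1
    · exact Finset.sum_congr rfl fun i _ => by rw [Nat.testBit_succ]
    · rcases Nat.mod_two_eq_zero_or_one n with h | h <;> simp [h]

theorem testBit_mask (s : Finset (Fin 12)) (i : Fin 12) :
    (mask s).testBit (i : ℕ) = true ↔ i ∈ s := by
  have e : mask s = ∑ j ∈ s.map Fin.valEmbedding, 2 ^ j := by simp [mask]
  rw [e, ← Nat.mem_bitIndices, ← List.mem_toFinset, Finset.toFinset_bitIndices_sum_two_pow]
  simp [Fin.val_inj]

theorem five_facts (s : Finset (Fin 12)) (hs : s ∈ (Finset.univ : Finset (Fin 12)).powersetCard 5) :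
    mask s < 4096 ∧ popc 12 (mask s) = 5 := by
  refine ⟨?_, ?_⟩
  · have h : mask s ≤ ∑ i : Fin 12, 2 ^ (i : ℕ) :=
      Finset.sum_le_sum_of_subset (Finset.subset_univ s)
    have : (∑ i : Fin 12, 2 ^ (i : ℕ)) = 4095 := by decide +kernel
    omega
  · rw [popc_eq, ← Fin.sum_univ_eq_sum_range (fun i => ((mask s).testBit i).toNat) 12,
      ← (Finset.mem_powersetCard.1 hs).2, Finset.card_eq_sum_ones]
    symm
    refine Finset.sum_subset_zero_on_sdiff (Finset.subset_univ s) ?_ ?_
    · intro i hi
      have : ¬ (mask s).testBit (i : ℕ) = true := by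
        rw [testBit_mask]; exact (Finset.mem_sdiff.1 hi).2
      simp [this]
    · intro i hi
      simp [(testBit_mask s i).2 hi]

theorem unique_block (s : Finset (Fin 12)) (hs : s ∈ (Finset.univ : Finset (Fin 12)).powersetCard 5) :
    hexadMasks.countP (fun m => decide (mask s &&& m = mask s)) = 1 := by
  have h := List.all_eq_true.1 uniqueCheck_eq _ (List.mem_range.2 (five_facts s hs).1)
  rw [(five_facts s hs).2] at h
  simp only [bne_self_eq_false, Bool.false_or, beq_iff_eq] at h
  refine Eq.trans ?_ h
  apply List.countP_congr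
  intro m _
  simp

theorem subset_test : ∀ m ∈ hexadMasks, ∀ s : Finset (Fin 12),
    (mask s &&& m = mask s ↔ s ⊆ unmask m) := by
  intro m hm s
  constructor
  · intro h i hi
    have := (testBit_mask s i).2 hi
    rw [← h, Nat.testBit_and, Bool.and_eq_true] at this
    simp [unmask, this.2]
  · intro h
    apply Nat.eq_of_testBit_eq
    intro j
    rw [Nat.testBit_and]
    by_cases hj : (mask s).testBit j = true
    · have hlt : j < 12 := by
        by_contra hcon
        have e : mask s = ∑ j ∈ s.map Fin.valEmbedding, 2 ^ j := by simp [mask]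
        rw [e, ← Nat.mem_bitIndices, ← List.mem_toFinset, Finset.toFinset_bitIndices_sum_two_pow] at hj
        simp at hj
        obtain ⟨a, _, rfl⟩ := hj
        exact hcon a.isLt
      have hi := h ((testBit_mask s ⟨j, hlt⟩).1 hj)
      simp [unmask] at hi
      simp [hj, hi]
    · simp at hj
      simp [hj]

theorem set_eq : hexadSet = (fun m => (unmask m).map posEquiv.symm.toEmbedding) '' {m | m ∈ hexadMasks} := by
  ext h
  rw [mem_hexadSet_iff]
  constructor
  · intro hm
    refine ⟨_, hm, ?_⟩
    have := mask_injective (table_unmask _ hm)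
    simp only [this, Finset.map_map]
    ext; simp
  · rintro ⟨m, hm, rfl⟩
    have : ((unmask m).map posEquiv.symm.toEmbedding).map posEquiv.toEmbedding = unmask m := by
      ext; simp
    simp only [this, table_unmask m hm]
    exact hm

/-- The supports of the weight-6 words of the length-12 ternary code form a Steiner system S(5, 6, 12) with 132 blocks. -/
theorem result : Cfsg.IsSteinerSystem 5 6 {h : Finset Cfsg.ArrayPt | ∃ x ∈ Cfsg.ternaryGolayCode, Cfsg.ternarySupport x = h ∧ h.card = 6} ∧ {h : Finset Cfsg.ArrayPt | ∃ x ∈ Cfsg.ternaryGolayCode, Cfsg.ternarySupport x = h ∧ h.card = 6}.ncard = 132 := by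
  show IsSteinerSystem 5 6 hexadSet ∧ hexadSet.ncard = 132
  rw [set_eq]
  have hinj : Set.InjOn (fun m => (unmask m).map posEquiv.symm.toEmbedding) {m | m ∈ hexadMasks} := by
    intro a ha b hb h
    have := Finset.map_injective _ h
    rw [← table_unmask a ha, this, table_unmask b hb]
  refine ⟨⟨?_, ?_⟩, ?_⟩
  · rintro b ⟨m, hm, rfl⟩
    rw [Finset.card_map]; exact card_six m hm
  · intro s hs
    have hs' : s.map posEquiv.toEmbedding ∈ (Finset.univ : Finset (Fin 12)).powersetCard 5 := by
      simp [Finset.mem_powersetCard, hs]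
    have hsub : ∀ m ∈ hexadMasks, (mask (s.map posEquiv.toEmbedding) &&& m = mask (s.map posEquiv.toEmbedding)) ↔
        s ⊆ (unmask m).map posEquiv.symm.toEmbedding := by
      intro m hm
      rw [subset_test m hm, Finset.subset_map_symm]
    have hc := unique_block _ hs'
    rw [List.countP_eq_length_filter, List.length_eq_one_iff] at hc
    obtain ⟨m, hm⟩ := hc
    have hmem : m ∈ hexadMasks ∧ mask (s.map posEquiv.toEmbedding) &&& m = mask (s.map posEquiv.toEmbedding) := by
      have : m ∈ List.filter (fun m => decide (mask (s.map posEquiv.toEmbedding) &&& m = mask (s.map posEquiv.toEmbedding))) hexadMasks := by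
        rw [hm]; exact List.mem_singleton_self m
      simpa using this
    refine ⟨_, ⟨⟨m, hmem.1, rfl⟩, (hsub m hmem.1).1 hmem.2⟩, ?_⟩
    rintro b ⟨⟨m', hm', rfl⟩, hb⟩
    have : m' ∈ List.filter (fun m => decide (mask (s.map posEquiv.toEmbedding) &&& m = mask (s.map posEquiv.toEmbedding))) hexadMasks :=
      List.mem_filter.2 ⟨hm', decide_eq_true ((hsub m' hm').2 hb)⟩
    rw [hm, List.mem_singleton] at this
    rw [this]
  · rw [Set.ncard_image_of_injOn hinj]
    have : {m | m ∈ hexadMasks} = (hexadMasks.toFinset : Set ℕ) := by ext; simp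
    rw [this, Set.ncard_coe_finset, List.toFinset_card_of_nodup masks_nodup]
    decide +kernel

end Cfsg.Agent.S1592
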