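import Cfsg.Statements.S1593
import Cfsg.Agent.Lib.SporStruct.TernaryCode

set_option autoImplicit false
open Cfsg

namespace Cfsg.Agent.S1593

open Cfsg.Agent.Lib.SporStruct.TernaryCode

theorem connected : ∀ j : Fin 6, parA 0 j ≠ 0 ∨ parA 1 j ≠ 0 := by decide

theorem connected' : ∀ i : Fin 6, parA i 2 ≠ 0 ∨ parA i 3 ≠ 0 := by decide

/-- The only sign changes preserving the length-12 ternary code are the identity and negation of all coordinates. -/
theorem result (c : Cfsg.ArrayPt → (ZMod 3)ˣ) (h : (∀ x ∈ Cfsg.ternaryGolayCode, Cfsg.monomialMap 1 c x ∈ Cfsg.ternaryGolayCode)) : (∀ p, c p = 1) ∨ (∀ p, c p = -1) := by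
  -- a row of the generator matrix forces equal signs on its support
  have key : ∀ i : Fin 6, ∀ j : Fin 6, parA i j ≠ 0 → c (chk j) = c (info i) := by
    intro i j hij
    have hm := h _ (enc_mem (Pi.single i 1))
    have he := congrFun (eq_enc hm) (chk j)
    have hrow : enc (Pi.single i 1) (chk j) = parA i j := by
      fin_cases i <;> fin_cases j <;> rfl
    have hinfo : (fun k => monomialMap 1 c (enc (Pi.single i 1)) (info k)) =
        (c (info i) : ZMod 3) • (Pi.single i 1 : Fin 6 → ZMod 3) := by
      funext k
      simp only [monomialMap, Equiv.Perm.one_symm, Equiv.Perm.one_apply, enc_info, Pi.smul_apply, smul_eq_mul]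
      by_cases hk : k = i
      · subst hk; rfl
      · simp [Pi.single_eq_of_ne hk]
    rw [hinfo] at he
    have hlin : enc ((c (info i) : ZMod 3) • (Pi.single i 1 : Fin 6 → ZMod 3)) (chk j) =
        (c (info i) : ZMod 3) * parA i j := by
      generalize (c (info i) : ZMod 3) = t
      revert t
      fin_cases i <;> fin_cases j <;> decide +kernel
    rw [hlin] at he
    simp only [monomialMap, Equiv.Perm.one_symm, Equiv.Perm.one_apply, hrow] at he
    exact Units.ext (mul_right_cancel₀ hij he)
  have hj : ∀ j : Fin 6, c (chk j) = c (info 0) := by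
    have h2 : c (chk 2) = c (info 0) := key 0 2 (by decide)
    have h12 : c (info 1) = c (chk 2) := (key 1 2 (by decide)).symm
    intro j
    rcases connected j with hh | hh
    · exact key 0 j hh
    · rw [key 1 j hh, h12, h2]
  have hi : ∀ i : Fin 6, c (info i) = c (info 0) := by
    intro i
    rcases connected' i with hh | hh
    · rw [← key i 2 hh, hj]
    · rw [← key i 3 hh, hj]
  have hall : ∀ p, c p = c (info 0) := by
    intro p
    rw [← ptOf_posOf p]
    generalize posOf p = k
    fin_cases k
    · exact hi 0
    · exact hi 1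
    · exact hi 2
    · exact hi 3
    · exact hi 4
    · exact hi 5
    · exact hj 0
    · exact hj 1
    · exact hj 2
    · exact hj 3
    · exact hj 4
    · exact hj 5
  have two : ∀ u : (ZMod 3)ˣ, u = 1 ∨ u = -1 := by decide
  rcases two (c (info 0)) with e | e
  · exact Or.inl fun p => (hall p).trans e
  · exact Or.inr fun p => (hall p).trans e

end Cfsg.Agent.S1593
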