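import Cfsg.Statements.S1594
import Cfsg.Agent.S1592
import Cfsg.Agent.S1593
import Cfsg.Agent.Lib.Steiner11.Aut
import Cfsg.Agent.Lib.Computation.PermCode
import Cfsg.Agent.Lib.SporStruct.TernaryHexads
-- import your own Cfsg.Agent.* helpers here

set_option autoImplicit false
open Cfsg

namespace Cfsg.Agent.S1594

open Cfsg.Agent.Lib.Computation Cfsg.Agent.Lib.SporStruct.TernaryCode
open scoped Pointwise

/-- Generators (order of the group: 95040). -/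
def m12t_gens : List Nat := [0xa67b09183542, 0x87053b914a26]

def m12t_steps : List (Step Nat) := [.mul 1 1,
  .mul 1 2,
  .mul 3 0,
  .mul 0 2,
  .mul 4 5,
  .mul 0 6,
  .mul 0 7,
  .mul 0 3,
  .mul 9 0,
  .mul 1 2,
  .mul 10 11,
  .mul 0 1,
  .mul 0 3,
  .mul 13 0,
  .mul 15 15,
  .mul 16 0,
  .mul 0 6,
  .mul 11 10,
  .mul 0 1,
  .mul 0 2,
  .mul 9 21,
  .mul 18 0,
  .mul 0 2,
  .mul 14 0,
  .mul 7 0,
  .mul 3 0,
  .mul 17 0,
  .mul 0 13,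
  .mul 15 6,
  .mul 0 8,
  .mul 16 1,
  .mul 0 9,
  .mul 0 23,
  .mul 24 34,
  .mul 0 2,
  .mul 0 2,
  .mul 22 0,
  .mul 0 7,
  .mul 24 0,
  .mul 9 17,
  .mul 14 23,
  .mul 0 1,
  .mul 0 33,
  .mul 21 0,
  .mul 0 5,
  .mul 42 45,
  .mul 36 0,
  .mul 0 36,
  .mul 0 14,
  .mul 0 40,
  .mul 15 0,
  .mul 0 37,
  .mul 11 0,
  .mul 2 42,
  .mul 0 40,
  .mul 55 53,
  .mul 0 55,
  .mul 0 52,
  .mul 0 55,
  .mul 0 53,
  .mul 0 53,
  .mul 0 57,
  .mul 0 44,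
  .mul 0 48,
  .mul 0 18,
  .mul 0 49,
  .mul 0 58,
  .mul 0 56,
  .mul 0 47,
  .mul 0 59,
  .mul 0 48,
  .mul 0 54,
  .mul 0 53,
  .mul 0 64,
  .mul 0 27,
  .mul 0 27,
  .mul 0 64,
  .mul 0 64,
  .mul 0 58,
  .mul 0 45,
  .mul 0 66,
  .mul 0 58,
  .mul 0 53,
  .mul 0 34,
  .mul 0 54,
  .mul 0 61,
  .mul 0 55,
  .mul 0 55,
  .mul 0 63,
  .mul 0 54,
  .mul 0 57,
  .mul 0 41,
  .mul 0 56,
  .mul 0 42,
  .mul 0 68,
  .mul 0 58,
  .mul 0 58,
  .mul 0 43,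
  .mul 0 57,
  .mul 0 59,
  .mul 0 48,
  .mul 0 46,
  .mul 0 63,
  .mul 0 61,
  .mul 0 51,
  .mul 0 62,
  .mul 0 62,
  .mul 0 62,
  .mul 0 81,
  .mul 0 81,
  .inv 110 0x8b649a213057,
  .mul 0 5,
  .mul 113 112,
  .inv 0 0xa028b7439516,
  .mul 0 6,
  .mul 116 116,
  .inv 0 0x18629b7a435,
  .mul 0 10,
  .mul 0 6,
  .mul 1 0,
  .mul 8 0,
  .mul 3 0,
  .inv 0 0x269b75a14830,
  .mul 0 8,
  .mul 0 12,
  .inv 0 0x8a2391b54670,
  .mul 0 16,
  .mul 9 9,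
  .inv 0 0x3798a562b410,
  .mul 0 2,
  .mul 77 116,
  .mul 21 0,
  .mul 132 132,
  .inv 0 0x48a16b053729,
  .mul 0 2,
  .mul 11 23,
  .inv 0 0x8a2391b54670,
  .mul 0 2,
  .inv 20 0x469857a32b10,
  .mul 0 1,
  .mul 140 140,
  .inv 0 0x48a16b053729,
  .mul 0 33,
  .inv 19 0x7b2a95684310,
  .mul 0 1,
  .mul 15 0,
  .mul 1 0,
  .inv 0 0x47a35698b210,
  .mul 0 8]

def m12t_chain : List (Level Nat) := [
  ⟨0, [0x8b67a5493210, 0x49856ba73210, 0x86b53794a210, 0x25986a7b4310, 0x6b971384a250, 0xa67b09183542],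
    (.node (.node (.node (.node .leaf ⟨0, 0xba9876543210, 0xba9876543210, 0, 0, 0⟩ .leaf) ⟨1, 0x9726508a34b1, 0x14b5a8723906, 3, 5, 5⟩ (.node .leaf ⟨2, 0xa67b09183542, 0x8b649a213057, 1, 0, 5⟩ .leaf)) ⟨3, 0x5a62091847b3, 0x1a6429b30857, 2, 2, 3⟩ (.node (.node .leaf ⟨4, 0x75a30918b624, 0x3964b2a08157, 3, 3, 3⟩ .leaf) ⟨5, 0x690a274b3185, 0x48a16b053729, 2, 2, 5⟩ .leaf)) ⟨6, 0xb73208194a56, 0xb246a0139857, 4, 10, 2⟩ (.node (.node (.node .leaf ⟨7, 0xa90536b24187, 0x5ba106837429, 3, 5, 3⟩ .leaf) ⟨8, 0x390b2146a578, 0x83a01425b769, 3, 5, 4⟩ .leaf) ⟨9, 0x7b062348a159, 0xa304b8156729, 3, 5, 2⟩ (.node (.node .leaf ⟨10, 0x96720b15438a, 0x60b19a432857, 3, 3, 2⟩ .leaf) ⟨11, 0x65a20814937b, 0x9361ba42857, 4, 10, 0⟩ .leaf)))⟩,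
  ⟨1, [0x8b67a5493210, 0x49856ba73210, 0x86b53794a210, 0x25986a7b4310, 0x6b971384a250],
    (.node (.node (.node (.node .leaf ⟨1, 0xba9876543210, 0xba9876543210, 0, 1, 0⟩ .leaf) ⟨2, 0x68571ba93420, 0x654a8b923170, 4, 11, 3⟩ .leaf) ⟨3, 0x62b714589a30, 0x92348b561a70, 3, 7, 2⟩ (.node (.node .leaf ⟨4, 0x586a1379b240, 0x384a59b16270, 2, 5, 0⟩ .leaf) ⟨5, 0x6b971384a250, 0xa3958b146270, 1, 1, 4⟩ .leaf)) ⟨6, 0x84571a93b260, 0x365b819a4270, 3, 10, 2⟩ (.node (.node (.node .leaf ⟨7, 0xa296148b5370, 0x4b9518362a70, 2, 5, 3⟩ .leaf) ⟨8, 0x36915a74b280, 0x36915a74b280, 2, 5, 4⟩ .leaf) ⟨9, 0x78b31a546290, 0x961ab3548270, 2, 5, 2⟩ (.node (.node .leaf ⟨10, 0xb486135792a0, 0xb139485a6270, 2, 5, 1⟩ .leaf) ⟨11, 0x78a5146923b0, 0x194ab5862370, 3, 4, 3⟩ .leaf)))⟩,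
  ⟨2, [0x8b67a5493210, 0x49856ba73210, 0x86b53794a210, 0x25986a7b4310],
    (.node (.node (.node (.node .leaf ⟨2, 0xba9876543210, 0xba9876543210, 0, 2, 0⟩ .leaf) ⟨3, 0x25986a7b4310, 0x469857a32b10, 1, 2, 3⟩ .leaf) ⟨4, 0x3798a562b410, 0x3798a562b410, 2, 3, 3⟩ (.node (.node .leaf ⟨5, 0x39276a48b510, 0x36a48725b910, 3, 10, 3⟩ .leaf) ⟨6, 0x2b8937a54610, 0xa58962437b10, 3, 10, 2⟩ .leaf)) ⟨7, 0x36859ab24710, 0x56792a83b410, 3, 4, 1⟩ (.node (.node (.node .leaf ⟨8, 0x2579b43a6810, 0x748293a65b10, 4, 11, 0⟩ .leaf) ⟨9, 0x284a6b357910, 0x682a37495b10, 3, 10, 1⟩ .leaf) ⟨10, 0x29b576384a10, 0x92a476835b10, 2, 3, 2⟩ (.node .leaf ⟨11, 0x2684a5379b10, 0x27394a685b10, 3, 10, 0⟩ .leaf)))⟩,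
  ⟨3, [0x8b67a5493210, 0x49856ba73210, 0x86b53794a210],
    (.node (.node (.node (.node .leaf ⟨3, 0xba9876543210, 0xba9876543210, 0, 3, 0⟩ .leaf) ⟨4, 0x6a5739b84210, 0x5a648b937210, 3, 11, 1⟩ .leaf) ⟨5, 0x4a76b3895210, 0x7a45983b6210, 3, 6, 0⟩ (.node .leaf ⟨6, 0x5789a3b46210, 0x5789a3b46210, 2, 10, 2⟩ .leaf)) ⟨7, 0x935b6a847210, 0x86b53794a210, 3, 6, 2⟩ (.node (.node (.node .leaf ⟨8, 0xa4793b568210, 0x6b83945a7210, 3, 11, 0⟩ .leaf) ⟨9, 0x5b4a36879210, 0xa83546b97210, 2, 10, 1⟩ .leaf) ⟨10, 0x86b53794a210, 0x935b6a847210, 1, 3, 2⟩ (.node .leaf ⟨11, 0x75843a69b210, 0x3649b5a87210, 2, 10, 0⟩ .leaf)))⟩,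
  ⟨4, [0x8b67a5493210, 0x49856ba73210],
    (.node (.node (.node (.node .leaf ⟨4, 0xba9876543210, 0xba9876543210, 0, 4, 0⟩ .leaf) ⟨5, 0xa74b89653210, 0x8b67a5493210, 3, 6, 0⟩ .leaf) ⟨6, 0x785ab4963210, 0x785ab4963210, 2, 9, 0⟩ (.node .leaf ⟨7, 0x49856ba73210, 0x65a9478b3210, 1, 4, 1⟩ .leaf)) ⟨8, 0x54b69a783210, 0x967458ba3210, 2, 9, 1⟩ (.node (.node .leaf ⟨9, 0x8b67a5493210, 0xa74b89653210, 1, 4, 0⟩ .leaf) ⟨10, 0x967458ba3210, 0x54b69a783210, 2, 7, 0⟩ (.node .leaf ⟨11, 0x65a9478b3210, 0x49856ba73210, 3, 6, 1⟩ .leaf)))⟩]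

theorem m12t_check : (permRep 12 4 (by decide)).checkClosure m12t_gens m12t_steps m12t_chain = true := by
  decide +kernel

/-- Generator 0. -/
def pos0 : Equiv.Perm (Fin 12) :=
  ⟨![2, 4, 5, 3, 8, 1, 9, 0, 11, 7, 6, 10], ![7, 5, 0, 3, 1, 2, 10, 9, 4, 6, 11, 8], by decide +kernel, by decide +kernel⟩

/-- Signs going with generator 0. -/
def sgn0 (p : ArrayPt) : (ZMod 3)ˣ := (![1, 1, 1, 1, -1, -1, 1, 1, 1, -1, -1, 1] : Fin 12 → (ZMod 3)ˣ) (posOf p)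

/-- Generator 1. -/
def pos1 : Equiv.Perm (Fin 12) :=
  ⟨![6, 2, 10, 4, 1, 9, 11, 3, 5, 0, 7, 8], ![9, 4, 1, 7, 3, 8, 0, 10, 11, 5, 2, 6], by decide +kernel, by decide +kernel⟩

/-- Signs going with generator 1. -/
def sgn1 (p : ArrayPt) : (ZMod 3)ˣ := (![1, -1, -1, -1, 1, 1, 1, 1, 1, -1, 1, 1] : Fin 12 → (ZMod 3)ˣ) (posOf p)

/-- Preservation of the code. -/
def Pres (σ : Equiv.Perm ArrayPt) (c : ArrayPt → (ZMod 3)ˣ) : Prop :=
  ∀ x ∈ ternaryGolayCode, monomialMap σ c x ∈ ternaryGolayCode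

/-- A permutation of positions as one of the array. -/
def toArr : Equiv.Perm (Fin 12) ≃* Equiv.Perm ArrayPt := posEquiv.symm.permCongrHom

theorem pres_of_check {σ : Equiv.Perm ArrayPt} {c : ArrayPt → (ZMod 3)ˣ}
    (h : ∀ a, CodeCond (monomialMap σ c (enc a))) : Pres σ c := by
  intro x hx
  obtain ⟨a, rfl⟩ := (mem_iff x).1 hx
  exact (mem_iff_cond _).2 (h a)

theorem pres0 : Pres (toArr pos0) sgn0 := pres_of_check (by decide +kernel)

theorem pres1 : Pres (toArr pos1) sgn1 := pres_of_check (by decide +kernel)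

theorem monomialMap_mul (σ τ : Equiv.Perm ArrayPt) (c d : ArrayPt → (ZMod 3)ˣ) (x : ArrayPt → ZMod 3) :
    monomialMap (σ * τ) (fun i => c i * d (σ.symm i)) x = monomialMap σ c (monomialMap τ d x) := by
  funext i
  simp only [monomialMap, Equiv.Perm.mul_def, Equiv.symm_trans_apply, Units.val_mul, mul_assoc]

/-- The permutation parts. -/
def partsMonoid : Submonoid (Equiv.Perm ArrayPt) where
  carrier := {σ | ∃ c, Pres σ c}
  one_mem' := ⟨1, fun x hx => by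
    have : monomialMap 1 (1 : ArrayPt → (ZMod 3)ˣ) x = x := by
      funext i; simp [monomialMap, Equiv.Perm.one_symm, Equiv.Perm.one_apply]
    rw [this]; exact hx⟩
  mul_mem' := by
    rintro σ τ ⟨c, hc⟩ ⟨d, hd⟩
    exact ⟨_, fun x hx => by rw [monomialMap_mul]; exact hc _ (hd _ hx)⟩

/-- The permutation parts as a group. -/
def parts : Subgroup (Equiv.Perm ArrayPt) where
  toSubmonoid := partsMonoid
  inv_mem' := by
    intro σ hσ
    have h : σ⁻¹ = σ ^ (orderOf σ - 1) := inv_eq_of_mul_eq_one_left (by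
      rw [← pow_succ, Nat.sub_add_cancel (orderOf_pos σ), pow_orderOf_eq_one])
    rw [h]
    exact Submonoid.pow_mem partsMonoid hσ _

theorem support_monomialMap (σ : Equiv.Perm ArrayPt) (c : ArrayPt → (ZMod 3)ˣ) (x : ArrayPt → ZMod 3) :
    ternarySupport (monomialMap σ c x) = σ • ternarySupport x := by
  ext i
  simp only [ternarySupport, monomialMap, Finset.mem_filter, Finset.mem_univ, true_and, ne_eq,
    Units.mul_right_eq_zero, ← Finset.inv_smul_mem_iff, Equiv.Perm.smul_def, Equiv.Perm.inv_def]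

theorem parts_le : parts ≤ setSystemAut hexadSet := by
  rintro σ ⟨c, hc⟩
  rw [MulAction.mem_stabilizer_iff]
  refine Set.eq_of_subset_of_ncard_le ?_ ?_ (Set.toFinite _)
  · rintro _ ⟨h, ⟨x, hx, rfl, h6⟩, rfl⟩
    exact ⟨_, hc x hx, support_monomialMap σ c x, by dsimp only; rw [Finset.card_smul_finset]; exact h6⟩
  · exact le_of_eq (Set.ncard_image_of_injective _ (MulAction.injective σ)).symm

theorem card_aut : Nat.card (setSystemAut hexadSet) = 95040 := by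
  obtain ⟨φ⟩ := Lib.Steiner11.exists_equiv_M12 (B := hexadSet) (by decide +kernel) S1592.result.1
  rw [← Nat.card_congr φ.toEquiv, Lib.Golay.card_spor_M12]

theorem parts_eq : parts = setSystemAut hexadSet := by
  refine Subgroup.eq_of_le_of_card_ge parts_le ?_
  rw [card_aut]
  have hle : (Subgroup.closure {s | s ∈ [pos0, pos1]}).map toArr.toMonoidHom ≤ parts := by
    rw [Subgroup.map_le_iff_le_comap, Subgroup.closure_le]
    intro s hs
    simp only [List.mem_cons, List.not_mem_nil, or_false, Set.mem_ofPred_eq] at hs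
    rcases hs with rfl | rfl
    exacts [⟨_, pres0⟩, ⟨_, pres1⟩]
  refine le_trans ?_ (Subgroup.card_le_of_le hle)
  rw [Subgroup.card_map_of_injective toArr.injective,
    card_closure_perms [pos0, pos1] m12t_gens (by decide +kernel) m12t_check]
  exact le_of_eq (by decide +kernel)

theorem pres_neg {σ : Equiv.Perm ArrayPt} {c : ArrayPt → (ZMod 3)ˣ} (h : Pres σ c) : Pres σ (-c) := by
  intro x hx
  have : monomialMap σ (-c) x = -monomialMap σ c x := by funext i; simp [monomialMap]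
  rw [this]
  exact neg_mem (h x hx)

theorem pres_unique {σ : Equiv.Perm ArrayPt} {c c0 : ArrayPt → (ZMod 3)ˣ} (h : Pres σ c)
    (h0 : Pres σ c0) : c = c0 ∨ c = -c0 := by
  let f : ↥ternaryGolayCode → ↥ternaryGolayCode := fun x => ⟨monomialMap σ c0 x, h0 x x.2⟩
  have hf : Function.Surjective f := Finite.injective_iff_surjective.1 fun x y e => by
    refine Subtype.ext (funext fun i => ?_)
    have e' := congrFun (congrArg Subtype.val e) (σ i)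
    simpa [f, monomialMap] using e'
  have hd : Pres 1 (fun i => c i * (c0 i)⁻¹) := by
    intro y hy
    obtain ⟨x, hx⟩ := hf ⟨y, hy⟩
    have hxy : monomialMap σ c0 x = y := congrArg Subtype.val hx
    have : monomialMap 1 (fun i => c i * (c0 i)⁻¹) y = monomialMap σ c x := by
      subst hxy
      funext i
      simp only [monomialMap, Equiv.Perm.one_symm, Equiv.Perm.one_apply, Units.val_mul, mul_assoc, Units.inv_mul_cancel_left]
    rw [this]; exact h x x.2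
  rcases S1593.result _ hd with h1 | h1
  · exact Or.inl (funext fun i => mul_inv_eq_one.1 (h1 i))
  · refine Or.inr (funext fun i => ?_)
    have := h1 i
    rw [mul_inv_eq_iff_eq_mul] at this
    rw [this, Pi.neg_apply, neg_one_mul]

/-- Chosen signs. -/
noncomputable def sgnOf (σ : ↥parts) : ArrayPt → (ZMod 3)ˣ := (σ.2 : ∃ c, Pres σ.1 c).choose

theorem pres_sgnOf (σ : ↥parts) : Pres σ.1 (sgnOf σ) := (σ.2 : ∃ c, Pres σ.1 c).choose_spec

/-- A monomial automorphism from a permutation part and a sign. -/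
noncomputable def pairMap (x : ↥parts × Bool) :
    {f : Equiv.Perm ArrayPt × (ArrayPt → (ZMod 3)ˣ) // Pres f.1 f.2} :=
  match x with
  | (σ, true) => ⟨(σ.1, sgnOf σ), pres_sgnOf σ⟩
  | (σ, false) => ⟨(σ.1, -sgnOf σ), pres_neg (pres_sgnOf σ)⟩

theorem pairMap_bijective : Function.Bijective pairMap := by
  have hne : ∀ u : (ZMod 3)ˣ, u ≠ -u := by decide
  constructor
  · rintro ⟨σ, b⟩ ⟨τ, b'⟩ e
    have hs : σ = τ := by
      cases b <;> cases b' <;> exact Subtype.ext (congrArg (fun z => z.1.1) e)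
    subst hs
    cases b <;> cases b'
    · rfl
    · exact absurd (congrFun (congrArg (fun z => z.1.2) e) (0, 0)).symm (hne _)
    · exact absurd (congrFun (congrArg (fun z => z.1.2) e) (0, 0)) (hne _)
    · rfl
  · rintro ⟨⟨σ, c⟩, h⟩
    rcases pres_unique h (pres_sgnOf ⟨σ, c, h⟩) with e | e
    · exact ⟨(⟨σ, c, h⟩, true), Subtype.ext (Prod.ext rfl e.symm)⟩
    · exact ⟨(⟨σ, c, h⟩, false), Subtype.ext (Prod.ext rfl e.symm)⟩

/-- The monomial automorphism group of the length-12 ternary code has order 190080 and its permutation parts are exactly the automorphisms of its hexad system. -/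
theorem result : Nat.card {f : Equiv.Perm Cfsg.ArrayPt × (Cfsg.ArrayPt → (ZMod 3)ˣ) // (∀ x ∈ Cfsg.ternaryGolayCode, Cfsg.monomialMap f.1 f.2 x ∈ Cfsg.ternaryGolayCode)} = 190080 ∧ {σ : Equiv.Perm Cfsg.ArrayPt | ∃ c : Cfsg.ArrayPt → (ZMod 3)ˣ, (∀ x ∈ Cfsg.ternaryGolayCode, Cfsg.monomialMap σ c x ∈ Cfsg.ternaryGolayCode)} = (Cfsg.setSystemAut {h : Finset Cfsg.ArrayPt | ∃ x ∈ Cfsg.ternaryGolayCode, Cfsg.ternarySupport x = h ∧ h.card = 6} : Set (Equiv.Perm Cfsg.ArrayPt)) := by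
  refine ⟨?_, congrArg SetLike.coe parts_eq⟩
  change Nat.card {f : Equiv.Perm ArrayPt × (ArrayPt → (ZMod 3)ˣ) // Pres f.1 f.2} = 190080
  rw [← Nat.card_eq_of_bijective _ pairMap_bijective, Nat.card_prod, parts_eq, card_aut]
  simp

end Cfsg.Agent.S1594
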