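import Cfsg.Statements.S1595
-- import your own Cfsg.Agent.* helpers here

set_option autoImplicit false
open Cfsg

namespace Cfsg.Agent.S1595

/-- Blocks through a subset `s` of size at most `5`: their number times the binomial factor. -/
theorem blocks_through {α : Type*} [Fintype α] [DecidableEq α] (hα : Fintype.card α = 12)
    {B : Finset (Finset α)} (hB : Cfsg.IsSteinerSystem 5 6 (B : Set (Finset α))) (s : Finset α)
    (hs : s.card ≤ 5) :
    (B.filter fun c => s ⊆ c).card * Nat.choose (6 - s.card) (5 - s.card) =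
      Nat.choose (12 - s.card) (5 - s.card) := by
  have h := Finset.sum_card_bipartiteAbove_eq_sum_card_bipartiteBelow (fun (c : Finset α) (u : Finset α) => u ⊆ c \ s)
    (s := B.filter fun c => s ⊆ c) (t := ((Finset.univ \ s).powersetCard (5 - s.card)))
  have hl : ∀ c ∈ B.filter (fun c => s ⊆ c),
      (Finset.bipartiteAbove (fun (c : Finset α) (u : Finset α) => u ⊆ c \ s)
        ((Finset.univ \ s).powersetCard (5 - s.card)) c).card = Nat.choose (6 - s.card) (5 - s.card) := by
    intro c hc
    rw [Finset.mem_filter] at hc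
    have : Finset.bipartiteAbove (fun (c : Finset α) (u : Finset α) => u ⊆ c \ s)
        ((Finset.univ \ s).powersetCard (5 - s.card)) c = (c \ s).powersetCard (5 - s.card) := by
      ext u
      simp only [Finset.bipartiteAbove, Finset.mem_filter, Finset.mem_powersetCard]
      refine ⟨fun h => ⟨h.2, h.1.2⟩, fun h => ⟨⟨h.1.trans (Finset.sdiff_subset_sdiff (Finset.subset_univ c) subset_rfl), h.2⟩, h.1⟩⟩
    rw [this, Finset.card_powersetCard, Finset.card_sdiff_of_subset hc.2, hB.1 c hc.1]
  have hr : ∀ u ∈ (Finset.univ \ s).powersetCard (5 - s.card),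
      (Finset.bipartiteBelow (fun (c : Finset α) (u : Finset α) => u ⊆ c \ s)
        (B.filter fun c => s ⊆ c) u).card = 1 := by
    intro u hu
    rw [Finset.mem_powersetCard] at hu
    have hd : Disjoint s u := Finset.disjoint_left.2 fun x hx hxu => (Finset.mem_sdiff.1 (hu.1 hxu)).2 hx
    obtain ⟨c, ⟨hc, hsub⟩, huniq⟩ := hB.2 (s ∪ u) (by rw [Finset.card_union_of_disjoint hd, hu.2]; omega)
    refine Finset.card_eq_one.2 ⟨c, ?_⟩
    ext d
    simp only [Finset.bipartiteBelow, Finset.mem_filter, Finset.mem_singleton]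
    constructor
    · rintro ⟨⟨hd', hsd⟩, hud⟩
      exact huniq d ⟨hd', Finset.union_subset hsd (hud.trans Finset.sdiff_subset)⟩
    · rintro rfl
      refine ⟨⟨hc, (Finset.union_subset_iff.1 hsub).1⟩, fun x hx => Finset.mem_sdiff.2 ⟨(Finset.union_subset_iff.1 hsub).2 hx, fun hxs => ?_⟩⟩
      exact Finset.disjoint_left.1 hd hxs hx
  rw [Finset.sum_congr rfl hl, Finset.sum_congr rfl hr, Finset.sum_const, Finset.sum_const,
    smul_eq_mul, smul_eq_mul, mul_one, Finset.card_powersetCard,
    Finset.card_sdiff_of_subset (Finset.subset_univ s), Finset.card_univ, hα] at h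
  exact h

/-- The number of blocks meeting the block `b` exactly in `s`, by the size of `s`. -/
def triangle : ℕ → ℕ
  | 0 => 1
  | 2 => 3
  | 3 => 2
  | 4 => 3
  | 6 => 1
  | _ => 0

theorem exact_count {α : Type*} [Fintype α] [DecidableEq α] (hα : Fintype.card α = 12)
    {B : Finset (Finset α)} (hB : Cfsg.IsSteinerSystem 5 6 (B : Set (Finset α))) {b : Finset α}
    (hb : b ∈ B) (s : Finset α) (hsb : s ⊆ b) (hs1 : 1 ≤ s.card) :
    (B.filter fun c => b ∩ c = s).card = triangle s.card := by
  have hb6 : b.card = 6 := hB.1 b hb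
  induction hn : (6 - s.card) using Nat.strong_induction_on generalizing s with
  | _ n ih =>
    have hle : s.card ≤ 6 := hb6 ▸ Finset.card_le_card hsb
    by_cases h6 : s.card = 6
    · have e : s = b := Finset.eq_of_subset_of_card_le hsb (by omega)
      rw [h6]
      refine Finset.card_eq_one.2 ⟨b, ?_⟩
      ext c
      simp only [Finset.mem_filter, Finset.mem_singleton]
      constructor
      · rintro ⟨hc, hi⟩
        exact (Finset.eq_of_subset_of_card_le (fun x hx => (Finset.mem_inter.1 (by rw [hi, e]; exact hx)).2)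
          (by rw [hB.1 c hc, hb6])).symm
      · rintro rfl; exact ⟨hb, by rw [Finset.inter_self, e]⟩
    -- split the blocks through `s` by their intersection with `b`
    have hsplit : (B.filter fun c => s ⊆ c).card =
        ∑ u ∈ (b \ s).powerset, (B.filter fun c => b ∩ c = s ∪ u).card := by
      rw [Finset.card_eq_sum_card_fiberwise (f := fun c => (b ∩ c) \ s) (t := (b \ s).powerset)
        (fun c _ => Finset.mem_coe.2 (Finset.mem_powerset.2 (Finset.sdiff_subset_sdiff Finset.inter_subset_left subset_rfl)))]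
      refine Finset.sum_congr rfl fun u hu => ?_
      rw [Finset.mem_powerset] at hu
      congr 1
      ext c
      simp only [Finset.mem_filter]
      constructor
      · rintro ⟨⟨hc, hsc⟩, rfl⟩
        exact ⟨hc, (Finset.union_sdiff_of_subset (Finset.subset_inter hsb hsc)).symm⟩
      · rintro ⟨hc, hi⟩
        refine ⟨⟨hc, fun x hx => (Finset.mem_inter.1 (by rw [hi]; exact Finset.mem_union_left u hx)).2⟩, ?_⟩
        rw [hi, Finset.union_sdiff_left]
        exact Finset.sdiff_eq_self_of_disjoint (Finset.disjoint_left.2 fun x hx hxs => (Finset.mem_sdiff.1 (hu hx)).2 hxs)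
    rw [Finset.sum_powerset] at hsplit
    have hm : (b \ s).card = 6 - s.card := by rw [Finset.card_sdiff_of_subset hsb, hb6]
    rw [hm, Finset.sum_range_succ', Finset.powersetCard_zero, Finset.sum_singleton,
      Finset.union_empty] at hsplit
    have hterm : ∀ j, ∑ u ∈ (b \ s).powersetCard (j + 1), (B.filter fun c => b ∩ c = s ∪ u).card =
        Nat.choose (6 - s.card) (j + 1) * triangle (s.card + (j + 1)) := by
      intro j
      rw [← hm, ← Finset.card_powersetCard, ← smul_eq_mul, ← Finset.sum_const]
      refine Finset.sum_congr rfl fun u hu => ?_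
      rw [Finset.mem_powersetCard] at hu
      have hd : Disjoint s u := Finset.disjoint_left.2 fun x hx hxu => (Finset.mem_sdiff.1 (hu.1 hxu)).2 hx
      have hc : (s ∪ u).card = s.card + (j + 1) := by rw [Finset.card_union_of_disjoint hd, hu.2]
      rw [← hc]
      exact ih (6 - (s ∪ u).card) (by omega) (s ∪ u)
        (Finset.union_subset hsb (hu.1.trans Finset.sdiff_subset)) (by omega) rfl
    rw [Finset.sum_congr rfl (fun j _ => hterm j)] at hsplit
    have hN := blocks_through hα hB s (by omega)
    rw [hsplit] at hN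
    clear hterm ih hn hsplit hm hB
    generalize (B.filter fun c => b ∩ c = s).card = f at hN ⊢
    generalize s.card = k at hN hs1 hle h6 ⊢
    interval_cases k <;>
      simp [Finset.sum_range_succ, triangle, Nat.choose] at hN h6 ⊢ <;> omega

/-- Leech triangle of S(5, 6, 12): blocks meet in 0, 2, 3 or 4 points, and a block is met exactly in a given 2-, 3- or 4-subset by 3, 2, 3 blocks respectively. -/
theorem result {α : Type*} [Fintype α] [DecidableEq α] (hα : Fintype.card α = 12) {B : Set (Finset α)} (hB : Cfsg.IsSteinerSystem 5 6 B) (b : Finset α) (hb : b ∈ B) : (∀ c ∈ B, c ≠ b → (b ∩ c).card = 0 ∨ (b ∩ c).card = 2 ∨ (b ∩ c).card = 3 ∨ (b ∩ c).card = 4) ∧ ∀ s ⊆ b, (s.card = 2 → {c : Finset α | c ∈ B ∧ b ∩ c = s}.ncard = 3) ∧ (s.card = 3 → {c : Finset α | c ∈ B ∧ b ∩ c = s}.ncard = 2) ∧ (s.card = 4 → {c : Finset α | c ∈ B ∧ b ∩ c = s}.ncard = 3) := by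
  classical
  obtain ⟨B', rfl⟩ : ∃ B' : Finset (Finset α), (B' : Set (Finset α)) = B :=
    ⟨(Set.toFinite B).toFinset, Set.Finite.coe_toFinset _⟩
  have hb' : b ∈ B' := hb
  refine ⟨fun c hc hcb => ?_, fun s hs => ?_⟩
  · by_cases h0 : (b ∩ c).card = 0
    · exact Or.inl h0
    have h := exact_count hα hB hb' (b ∩ c) Finset.inter_subset_left (by omega)
    have hpos : 0 < (B'.filter fun d => b ∩ d = b ∩ c).card :=
      Finset.card_pos.2 ⟨c, Finset.mem_filter.2 ⟨hc, rfl⟩⟩
    have hle : (b ∩ c).card ≤ 6 := (Finset.card_le_card Finset.inter_subset_left).trans (hB.1 b hb).le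
    have hne6 : (b ∩ c).card ≠ 6 := by
      intro h6
      have e1 : b ∩ c = b := Finset.eq_of_subset_of_card_le Finset.inter_subset_left (by rw [h6, hB.1 b hb])
      exact hcb (Finset.eq_of_subset_of_card_le (fun x hx => (Finset.mem_inter.1 (by rw [e1]; exact hx)).2)
        (by rw [hB.1 b hb, hB.1 c hc])).symm
    generalize hk : (b ∩ c).card = k at h h0 hle hne6 ⊢
    interval_cases k <;> first | omega | (simp only [triangle] at h; omega)
  · have e : {c : Finset α | c ∈ (B' : Set (Finset α)) ∧ b ∩ c = s} = ↑(B'.filter fun c => b ∩ c = s) := by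
      ext c; simp
    rw [e, Set.ncard_coe_finset]
    refine ⟨fun h => ?_, fun h => ?_, fun h => ?_⟩ <;>
      rw [exact_count hα hB hb' s hs (by omega), h] <;> rfl

end Cfsg.Agent.S1595
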