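import Cfsg.Statements.S1596
import Cfsg.Agent.Lib.M24Config.Quartets

set_option autoImplicit false
open scoped Pointwise
open Cfsg

namespace Cfsg.Agent.S1596

open Cfsg.Agent.Lib.Golay Cfsg.Agent.Lib.SporStruct.Masks Cfsg.Agent.Lib.M24Config
open Cfsg.Agent.Lib.M24Config.DataD Cfsg.Agent.Lib.M24Config.Dodecad
open Cfsg.Agent.Lib.M24Config.Quartets
open scoped Pointwise

/-- The mask of the base triple. -/
def t0 : ℕ := 13

theorem t0_set : setOfMask t0 = {pt pD, pt qD, pt rD} := by decide +kernel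

theorem t0_lt : t0 < 2 ^ 24 := by decide +kernel

/-- Each hexad through the base triple gives one quartet. -/
theorem key : (hexList.filter fun h => Nat.beq (h &&& t0) t0).all (fun h =>
    Nat.beq (((List.range 220).filter fun i =>
      (four (getQ i)).contains t0 && (four (getQ i)).contains (h ^^^ t0)).length) 1) = true := by
  decide +kernel

theorem four_lt : ∀ i : Fin 220, ∀ m ∈ four (getQ i), m < 2 ^ 24 := by decide +kernel

theorem mem_decQ_iff {i : ℕ} (hi : i < 220) {s : Finset GolayPt} :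
    s ∈ decQ (getQ i) ↔ maskOfSet s ∈ four (getQ i) := by
  simp only [decQ, Finset.mem_image, List.mem_toFinset]
  constructor
  · rintro ⟨m, hm, rfl⟩
    rwa [maskOfSet_setOfMask (four_lt ⟨i, hi⟩ m hm)]
  · exact fun h => ⟨_, h, setOfMask_maskOfSet s⟩

/-- The statement at the base dodecad and base triple. -/
theorem base {u : Finset GolayPt} (hd : Disjoint (setOfMask t0) u)
    (hh : setOfMask t0 ∪ u ∈ hexadsOn (setOfMask dod0)) :
    ∃! Q, Q ∈ quartets (setOfMask dod0) ∧ setOfMask t0 ∈ Q ∧ u ∈ Q := by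
  rw [mem_hexList_iff] at hh
  have hm : maskOfSet (setOfMask t0) = t0 := maskOfSet_setOfMask t0_lt
  have hu : maskOfSet u = maskOfSet (setOfMask t0 ∪ u) ^^^ t0 := by
    conv_lhs => rw [show u = (setOfMask t0 ∪ u) \ setOfMask t0 by
      rw [Finset.union_sdiff_left, Finset.sdiff_eq_self_of_disjoint hd.symm]]
    rw [maskOfSet_sdiff Finset.subset_union_left, hm]
  have h13 : maskOfSet (setOfMask t0 ∪ u) &&& t0 = t0 := by
    refine setOfMask_injOn (lt_of_le_of_lt Nat.and_le_right t0_lt) t0_lt ?_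
    rw [setOfMask_and, setOfMask_maskOfSet, Finset.inter_eq_right]
    exact Finset.subset_union_left
  have h1 := List.all_eq_true.1 key _
    (List.mem_filter.2 ⟨hh, by rw [h13]; exact Nat.beq_refl _⟩)
  rw [Nat.beq_eq, List.length_eq_one_iff] at h1
  obtain ⟨i, hi⟩ := h1
  have hmem : ∀ j, j ∈ [i] ↔
      j < 220 ∧ setOfMask t0 ∈ decQ (getQ j) ∧ u ∈ decQ (getQ j) := by
    intro j
    rw [← hi, List.mem_filter, List.mem_range, Bool.and_eq_true, List.contains_iff_mem,
      List.contains_iff_mem, ← hu]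
    constructor
    · rintro ⟨hj, a, b⟩
      exact ⟨hj, (mem_decQ_iff hj).2 (by rw [hm]; exact a), (mem_decQ_iff hj).2 b⟩
    · rintro ⟨hj, a, b⟩
      exact ⟨hj, by rw [← hm]; exact (mem_decQ_iff hj).1 a, (mem_decQ_iff hj).1 b⟩
  obtain ⟨hi', a, b⟩ := (hmem i).1 (List.mem_singleton_self i)
  refine ⟨decQ (getQ i), ⟨mem_quartets_iff.2 ⟨i, hi', rfl⟩, a, b⟩, ?_⟩
  rintro Q ⟨hQ, a', b'⟩
  obtain ⟨j, hj, rfl⟩ := mem_quartets_iff.1 hQ
  rw [List.mem_singleton.1 ((hmem j).2 ⟨hj, a', b'⟩)]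

/-- A quartet of a dodecad is determined by any two of its triples: two disjoint triples uniting to a hexad extend to exactly one quartet. -/
theorem result (d : Finset Cfsg.GolayPt) (hd : d ∈ Cfsg.dodecads) (t u : Finset Cfsg.GolayPt) (ht : t.card = 3) (hu : u.card = 3) (htu : Disjoint t u) (hh : t ∪ u ∈ Cfsg.hexadsOn d) : ∃! Q : Finset (Finset Cfsg.GolayPt), Q ∈ Cfsg.quartets d ∧ t ∈ Q ∧ u ∈ Q := by
  obtain ⟨p, q, r, hpq, hpr, hqr, rfl⟩ := Finset.card_eq_three.1 ht
  obtain ⟨-, o, hoo, ho⟩ := hh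
  have hsub : ({p, q, r} : Finset GolayPt) ∪ u ⊆ d := by
    rw [← ho]; exact Finset.inter_subset_right
  have hin : ∀ x ∈ ({p, q, r} : Finset GolayPt), x ∈ d := fun x hx =>
    hsub (Finset.mem_union_left _ hx)
  obtain ⟨g, hg, hgd, hgp, hgq, hgr⟩ :=
    norm_three hd (hin p (by simp)) (hin q (by simp)) (hin r (by simp)) hpq hpr hqr
  have hgt : g • ({p, q, r} : Finset GolayPt) = setOfMask t0 := by
    rw [t0_set]
    simp [Finset.smul_finset_insert, Equiv.Perm.smul_def, hgp, hgq, hgr]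
  have hbase := base (u := g • u) (by
      rw [← hgt, Finset.disjoint_left]
      intro x hx hxu
      rw [← Finset.inv_smul_mem_iff] at hx hxu
      exact Finset.disjoint_left.1 htu hx hxu)
    (by rw [← hgt, ← Finset.smul_finset_union, ← hgd]
        exact smul_hexadsOn hg ⟨by rw [Finset.card_union_of_disjoint htu, ht, hu], o, hoo, ho⟩)
  obtain ⟨Q, ⟨hQ, hQt, hQu⟩, huniq⟩ := hbase
  have tr : ∀ R : Finset (Finset GolayPt),
      (R ∈ quartets d ∧ ({p, q, r} : Finset GolayPt) ∈ R ∧ u ∈ R) ↔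
        (g • R ∈ quartets (setOfMask dod0) ∧ setOfMask t0 ∈ g • R ∧ g • u ∈ g • R) := fun R => by
    rw [← hgd, smul_quartets_iff hg, ← hgt, Finset.smul_mem_smul_finset_iff,
      Finset.smul_mem_smul_finset_iff]
  refine ⟨g⁻¹ • Q, (tr _).2 ?_, fun R hR => ?_⟩
  · rw [smul_inv_smul]; exact ⟨hQ, hQt, hQu⟩
  · rw [eq_inv_smul_iff]; exact huniq _ ((tr R).1 hR)

end Cfsg.Agent.S1596
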