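import Cfsg.Statements.S1597
import Cfsg.Agent.Lib.M24Config.Quartets

set_option autoImplicit false
open scoped Pointwise
open Cfsg

namespace Cfsg.Agent.S1597

open Cfsg.Agent.Lib.Golay Cfsg.Agent.Lib.SporStruct.Masks Cfsg.Agent.Lib.M24Config
open Cfsg.Agent.Lib.M24Config.DataD Cfsg.Agent.Lib.M24Config.DataQ
open Cfsg.Agent.Lib.M24Config.Dodecad Cfsg.Agent.Lib.M24Config.Quartets
open Cfsg.Agent.Lib.Computation (getW decodeP okPerm decodeP_apply permRep)
open scoped Pointwise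


/-- A dodecad has 220 quartets and its stabiliser is transitive on them. -/
theorem result (d : Finset Cfsg.GolayPt) (hd : d ∈ Cfsg.dodecads) : (Cfsg.quartets d).ncard = 220 ∧ ∀ Q ∈ Cfsg.quartets d, ∀ Q' ∈ Cfsg.quartets d, ∃ g : Equiv.Perm Cfsg.GolayPt, g ∈ Cfsg.M24 ∧ g • d = d ∧ g • Q = Q' := by
  obtain ⟨g, hg, hed⟩ := norm_dodecad hd
  refine ⟨?_, fun Q hQ Q' hQ' => ?_⟩
  · have e : (fun Q : Finset (Finset Cfsg.GolayPt) => g • Q) '' Cfsg.quartets d =
        Cfsg.quartets (setOfMask dod0) := by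
      ext Q
      constructor
      · rintro ⟨Q, hQ, rfl⟩
        exact hed ▸ smul_quartets hg hQ
      · intro hQ
        exact ⟨g⁻¹ • Q, (smul_quartets_iff hg).1 (by rwa [smul_inv_smul, hed]), smul_inv_smul g Q⟩
    rw [← ncard_quartets, ← e, Set.ncard_image_of_injective _ (MulAction.injective g)]
  · obtain ⟨f, hf, hfe⟩ := quartets_transitive (hed ▸ smul_quartets hg hQ) (hed ▸ smul_quartets hg hQ')
    refine ⟨g⁻¹ * f * g, conj_mem hg hf, ?_, ?_⟩
    · rw [mul_smul, mul_smul, hed, hf.2 dod0 (by simp), ← hed, inv_smul_smul]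
    · rw [mul_smul, mul_smul, hfe, inv_smul_smul]

end Cfsg.Agent.S1597
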