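import Cfsg.Statements.S1598
import Cfsg.Agent.Lib.M24Config.Quartets
import Cfsg.Agent.Lib.Linear.Order

set_option autoImplicit false
open scoped Pointwise
open Cfsg

namespace Cfsg.Agent.S1598

open Cfsg.Agent.Lib.Golay Cfsg.Agent.Lib.SporStruct.Masks Cfsg.Agent.Lib.M24Config
open Cfsg.Agent.Lib.M24Config.DataD Cfsg.Agent.Lib.M24Config.DataQ
open Cfsg.Agent.Lib.M24Config.Dodecad Cfsg.Agent.Lib.M24Config.Quartets
open Cfsg.Agent.Lib.Computation (getW decodeP okPerm decodeP_apply permRep)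
open scoped Pointwise

def vecEnc (v : Fin 2 → ZMod 3) : Fin 8 := Fin.ofNat 8 (3 * (v 0).val + (v 1).val - 1)

def vecDec (i : Fin 8) : Fin 2 → ZMod 3 :=
  ![(((i : ℕ) + 1) / 3 : ℕ), (((i : ℕ) + 1) % 3 : ℕ)]

theorem vecDec_ne : ∀ i, vecDec i ≠ 0 := by decide +kernel

theorem vecEnc_dec : ∀ i, vecEnc (vecDec i) = i := by decide +kernel

theorem vecDec_enc : ∀ v, v ≠ 0 → vecDec (vecEnc v) = v := by decide +kernel

theorem mulVec_ne_zero [Fact (Nat.Prime 3)] (A : GL (Fin 2) (ZMod 3)) {v : Fin 2 → ZMod 3}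
    (hv : v ≠ 0) : (A : Matrix (Fin 2) (Fin 2) (ZMod 3)).mulVec v ≠ 0 := by
  intro h
  apply hv
  have := congrArg ((A⁻¹ : GL (Fin 2) (ZMod 3)) : Matrix (Fin 2) (Fin 2) (ZMod 3)).mulVec h
  rwa [Matrix.mulVec_mulVec, ← Units.val_mul, inv_mul_cancel, Units.val_one, Matrix.one_mulVec,
    Matrix.mulVec_zero] at this

/-- the action on the eight non-zero vectors -/
noncomputable def vecPerm [Fact (Nat.Prime 3)] : GL (Fin 2) (ZMod 3) →* Equiv.Perm (Fin 8) where
  toFun A :=
    { toFun := fun i => vecEnc ((A : Matrix (Fin 2) (Fin 2) (ZMod 3)).mulVec (vecDec i))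
      invFun := fun i =>
        vecEnc (((A⁻¹ : GL (Fin 2) (ZMod 3)) : Matrix (Fin 2) (Fin 2) (ZMod 3)).mulVec (vecDec i))
      left_inv := fun i => by
        simp only [vecDec_enc _ (mulVec_ne_zero A (vecDec_ne i)), Matrix.mulVec_mulVec,
          ← Units.val_mul, inv_mul_cancel, Units.val_one, Matrix.one_mulVec, vecEnc_dec]
      right_inv := fun i => by
        simp only [vecDec_enc _ (mulVec_ne_zero A⁻¹ (vecDec_ne i)), Matrix.mulVec_mulVec,
          ← Units.val_mul, mul_inv_cancel, Units.val_one, Matrix.one_mulVec, vecEnc_dec] }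
  map_one' := by
    ext1 i
    show vecEnc (Matrix.mulVec _ _) = i
    rw [Units.val_one, Matrix.one_mulVec, vecEnc_dec]
  map_mul' A B := by
    ext1 i
    show vecEnc (Matrix.mulVec _ _) = vecEnc (Matrix.mulVec _ (vecDec (vecEnc (Matrix.mulVec _ _))))
    rw [vecDec_enc _ (mulVec_ne_zero B (vecDec_ne i)), Matrix.mulVec_mulVec, Units.val_mul]

theorem vecPerm_injective [Fact (Nat.Prime 3)] : Function.Injective vecPerm := by
  intro A B h
  apply Units.ext
  have hv : ∀ v : Fin 2 → ZMod 3, v ≠ 0 →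
      (A : Matrix (Fin 2) (Fin 2) (ZMod 3)).mulVec v = (B : Matrix (Fin 2) (Fin 2) (ZMod 3)).mulVec v := by
    intro v hv
    have := congrArg (fun s : Equiv.Perm (Fin 8) => vecDec (s (vecEnc v))) h
    simp only [vecPerm, MonoidHom.coe_mk, OneHom.coe_mk, Equiv.coe_fn_mk, vecDec_enc v hv] at this
    rwa [vecDec_enc _ (mulVec_ne_zero A hv), vecDec_enc _ (mulVec_ne_zero B hv)] at this
  refine Matrix.mulVec_injective (funext fun v => ?_)
  by_cases h0 : v = 0
  · simp [h0]
  · exact hv v h0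

def matOf (t : ℕ × ℕ × ℕ × ℕ) : Matrix (Fin 2) (Fin 2) (ZMod 3) :=
  !![(t.1 : ZMod 3), (t.2.1 : ZMod 3); (t.2.2.1 : ZMod 3), (t.2.2.2 : ZMod 3)]

theorem matches_check : ∀ j : Fin 2, ∀ i : Fin 8,
    (vecEnc ((matOf (vecMats.getD j (0, 0, 0, 0))).mulVec (vecDec i)) : ℕ) =
      getW 5 ((pairs.map Prod.snd).getD j 0) i := by decide +kernel

theorem det_check : ∀ j : Fin 2, (matOf (vecMats.getD j (0, 0, 0, 0))).det ≠ 0 := by decide +kernel

theorem fst_eq : pairs.map Prod.fst = left_gens := by decide +kernel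

theorem snd_eq : pairs.map Prod.snd = right_gens := by decide +kernel

theorem card_image :
    Nat.card (Subgroup.closure (decodeP 8 5 '' {s | s ∈ pairs.map Prod.snd})) = 48 := by
  rw [snd_eq]
  exact ((permRep 8 5 (by decide)).card_closure right_check).trans (by decide +kernel)

theorem image_eq [Fact (Nat.Prime 3)] :
    Subgroup.closure (decodeP 8 5 '' {s | s ∈ pairs.map Prod.snd}) = vecPerm.range := by
  refine Subgroup.eq_of_le_of_card_ge ?_ ?_
  · rw [Subgroup.closure_le]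
    rintro _ ⟨s, hs, rfl⟩
    obtain ⟨j, hj, rfl⟩ := List.getElem_of_mem hs
    have hlen : (pairs.map Prod.snd).length = 2 := rfl
    have hj2 : j < 2 := hlen ▸ hj
    have hu : IsUnit (matOf (vecMats.getD j (0, 0, 0, 0))) :=
      (Matrix.isUnit_iff_isUnit_det _).2 (isUnit_iff_ne_zero.2 (det_check ⟨j, hj2⟩))
    refine ⟨hu.unit, ?_⟩
    have hok : ∀ s ∈ pairs.map Prod.snd, okPerm 8 5 s = true := by decide +kernel
    refine Equiv.ext fun i => Fin.ext ?_
    rw [decodeP_apply (hok _ (List.getElem_mem hj))]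
    have := matches_check ⟨j, hj2⟩ i
    simp only [List.getD_eq_getElem _ _ hj] at this
    exact this
  · rw [card_image, ← Nat.card_congr (MonoidHom.ofInjective vecPerm_injective).toEquiv,
      Cfsg.Agent.Lib.Linear.card_GL_two, ZMod.card]
    norm_num

theorem exists_normal [Fact (Nat.Prime 3)] : ∃ f : qStab →* GL (Fin 2) (ZMod 3),
    Function.Surjective f ∧ Nat.card f.ker = 9 := by
  have hA : Nat.card (gsub (pairs.map Prod.fst)) = 432 := by rw [fst_eq]; exact card_left
  obtain ⟨f, hf⟩ := exists_hom (w := 5) (k := 8) (by decide) pairs (by decide +kernel)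
    (gens := both_gens) (by decide +kernel) both_check (by decide +kernel) hA
  rw [image_eq] at hf
  let e := MonoidHom.ofInjective (f := vecPerm) vecPerm_injective
  let f' : gsub (pairs.map Prod.fst) →* GL (Fin 2) (ZMod 3) :=
    e.symm.toMonoidHom.comp ((MulEquiv.subgroupCongr hf).toMonoidHom.comp f.rangeRestrict)
  let c : qStab ≃* gsub (pairs.map Prod.fst) :=
    MulEquiv.subgroupCongr (by rw [fst_eq, gsub_left_eq])
  let h := f'.comp c.toMonoidHom
  have hs : Function.Surjective h := by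
    simp only [h, f', MonoidHom.coe_comp]
    exact (e.symm.surjective.comp
      ((MulEquiv.subgroupCongr hf).surjective.comp f.rangeRestrict_surjective)).comp c.surjective
  refine ⟨h, hs, ?_⟩
  have h1 := Subgroup.card_eq_card_quotient_mul_card_subgroup h.ker
  rw [Nat.card_congr (QuotientGroup.quotientKerEquivOfSurjective h hs).toEquiv,
    Nat.card_congr c.toEquiv, hA, Cfsg.Agent.Lib.Linear.card_GL_two, ZMod.card] at h1
  omega

/-- the twelve points of the base dodecad -/
def ptList : List ℕ := (ksub 24 1).filter qIn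

theorem pts_orbit :
    orbitOk (fun c a b => Nat.beq (permMask c a) b) left_gens (fun i => ptList.getD i 0) 12 ptTree =
      true := by decide +kernel

theorem point_transitive {p q : GolayPt} (hp : p ∈ setOfMask dod0) (hq : q ∈ setOfMask dod0) :
    ∃ f ∈ qStab, f p = q := by
  have hlen : ptList.length = 12 := by decide +kernel
  obtain ⟨i, hi, hie⟩ := List.getElem_of_mem (mask_single_mem (qIn_single hp))
  obtain ⟨j, hj, hje⟩ := List.getElem_of_mem (mask_single_mem (qIn_single hq))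
  have hok : ∀ c ∈ left_gens, inM24 c = true := by decide +kernel
  obtain ⟨f, hf, he⟩ := orbit_spec setOfMask (fun c hc x y h => by
      rw [smul_setOfMask (okCode_of_inM24 (hok c hc)), Nat.eq_of_beq_eq_true h])
    pts_orbit (i := i) (j := j) (hlen ▸ hi) (hlen ▸ hj)
  refine ⟨f, gsub_left_eq ▸ hf, ?_⟩
  have e1 : ptList.getD i 0 = maskOfSet ({p} : Finset GolayPt) := by
    unfold ptList; rw [List.getD_eq_getElem _ _ hi]; exact hie
  have e2 : ptList.getD j 0 = maskOfSet ({q} : Finset GolayPt) := by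
    unfold ptList; rw [List.getD_eq_getElem _ _ hj]; exact hje
  simp only [e1, e2, setOfMask_maskOfSet] at he
  exact smul_single_iff.1 he


/-- A quartet stabiliser inside the dodecad stabiliser has order 432, a normal subgroup of order 9 with quotient GL(2, 3), and is transitive on the dodecad. -/
theorem result (d : Finset Cfsg.GolayPt) (hd : d ∈ Cfsg.dodecads) (Q : Finset (Finset Cfsg.GolayPt)) (hQ : Q ∈ Cfsg.quartets d) : Nat.card ↥(MulAction.stabilizer Cfsg.M24 d ⊓ MulAction.stabilizer Cfsg.M24 Q) = 432 ∧ (∃ (N : Subgroup ↥(MulAction.stabilizer Cfsg.M24 d ⊓ MulAction.stabilizer Cfsg.M24 Q)) (_ : N.Normal), Nat.card N = 9 ∧ Nonempty (↥(MulAction.stabilizer Cfsg.M24 d ⊓ MulAction.stabilizer Cfsg.M24 Q) ⧸ N ≃* GL (Fin 2) (ZMod 3))) ∧ ∀ p ∈ d, ∀ q ∈ d, ∃ g ∈ (MulAction.stabilizer Cfsg.M24 d ⊓ MulAction.stabilizer Cfsg.M24 Q), ((g : ↥Cfsg.M24) : Equiv.Perm Cfsg.GolayPt) p = q := by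
  haveI : Fact (Nat.Prime 3) := ⟨by norm_num⟩
  obtain ⟨g, hg, hed, heQ⟩ := norm_quartet hd hQ
  obtain ⟨e, he⟩ := exists_equiv_qStab hg hed heQ
  refine ⟨?_, ?_, ?_⟩
  · rw [Nat.card_congr e.toEquiv, ← gsub_left_eq, card_left]
  · obtain ⟨f, hf, hk⟩ := exists_normal
    let h := f.comp e.toMonoidHom
    have hs : Function.Surjective h := hf.comp e.surjective
    refine ⟨h.ker, inferInstance, ?_, ⟨QuotientGroup.quotientKerEquivOfSurjective h hs⟩⟩
    rw [← hk]
    exact Nat.card_congr (e.toEquiv.subtypeEquiv fun x => Iff.rfl)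
  · intro p hp q hq
    obtain ⟨f, hf, hfe⟩ := point_transitive (p := g p) (q := g q) (hed ▸ (mem_smul_iff' g d p).2 hp)
      (hed ▸ (mem_smul_iff' g d q).2 hq)
    refine ⟨(e.symm ⟨f, hf⟩).1, (e.symm ⟨f, hf⟩).2, ?_⟩
    have h1 := he (e.symm ⟨f, hf⟩)
    rw [MulEquiv.apply_symm_apply] at h1
    have h1' : f = g * ((e.symm ⟨f, hf⟩).1 : Equiv.Perm Cfsg.GolayPt) * g⁻¹ := h1
    apply g.injective
    rw [← hfe]
    conv_rhs => rw [h1']
    simp [Equiv.Perm.mul_apply]

end Cfsg.Agent.S1598
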