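import Cfsg.Statements.S1599
import Cfsg.Agent.Lib.M24Config.Quartets

set_option autoImplicit false
open scoped Pointwise
open Cfsg

namespace Cfsg.Agent.S1599

open Cfsg.Agent.Lib.Golay Cfsg.Agent.Lib.SporStruct.Masks Cfsg.Agent.Lib.M24Config
open Cfsg.Agent.Lib.M24Config.DataD Cfsg.Agent.Lib.M24Config.DataQ
open Cfsg.Agent.Lib.M24Config.Dodecad Cfsg.Agent.Lib.M24Config.Quartets
open Cfsg.Agent.Lib.Computation (getW decodeP okPerm decodeP_apply permRep)
open scoped Pointwise

/-- each generator permutes the listed quartets as given -/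
def closedOk (get : ℕ → ℕ) (n : ℕ) (cs imgs : List ℕ) : Bool :=
  (List.range cs.length).all fun k => (List.range n).all fun i =>
    Nat.blt (getW 8 (imgs.getD k 0) i) n &&
      edgeQ (cs.getD k 0) (get i) (get (getW 8 (imgs.getD k 0) i))

/-- distinct indices give distinct families -/
def distinctOk (get : ℕ → ℕ) (n : ℕ) : Bool :=
  (List.range n).all fun i => (List.range n).all fun j => Nat.beq i j ||
    !((four (get i)).all fun m => (four (get j)).contains m) ||
    !((four (get i)).all fun m => Nat.blt m 16777216) || !((four (get j)).all fun m => Nat.blt m 16777216)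

def boundedOk (get : ℕ → ℕ) (n : ℕ) : Bool :=
  (List.range n).all fun i => (four (get i)).all fun m => Nat.blt m 16777216

theorem inj_of_check {n : ℕ} (get : ℕ → ℕ) (h : (distinctOk get n && boundedOk get n) = true) :
    Set.InjOn (fun i => decQ (get i)) (Set.Iio n) := by
  simp only [Bool.and_eq_true, distinctOk, boundedOk, List.all_eq_true, List.mem_range, Bool.or_eq_true,
    Bool.not_eq_true', Nat.beq_eq, List.all_eq_false, List.contains_iff_mem, Nat.blt_eq] at h
  intro i hi j hj e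
  rcases h.1 i hi j hj with ((h1 | ⟨m, hm, h1⟩) | ⟨m, hm, h1⟩) | ⟨m, hm, h1⟩
  · exact h1
  · exfalso
    apply h1
    have hmem : setOfMask m ∈ decQ (get j) := by
      have : setOfMask m ∈ decQ (get i) := Finset.mem_image_of_mem _ (List.mem_toFinset.2 hm)
      rwa [show decQ (get i) = decQ (get j) from e] at this
    simp only [decQ, Finset.mem_image, List.mem_toFinset] at hmem
    obtain ⟨m', hm', he⟩ := hmem
    rwa [← setOfMask_injOn (a := m') (b := m) (by norm_num; exact h.2 j hj m' hm')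
      (by norm_num; exact h.2 i hi m hm) he]
  · exact absurd (h.2 i hi m hm) h1
  · exact absurd (h.2 j hj m hm) h1

theorem left_ok : ∀ c ∈ left_gens, okCode c = true := by decide +kernel

theorem orbit_eq {n : ℕ} (get : ℕ → ℕ) (tree : ℕ) (imgs : List ℕ) (hn : 0 < n)
    (ht : orbitOk edgeQ left_gens get n tree = true) (hc : closedOk get n left_gens imgs = true) :
    MulAction.orbit qStab (decQ (get 0)) = (fun i => decQ (get i)) '' Set.Iio n := by
  classical
  ext X
  constructor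
  · rintro ⟨⟨f, hf⟩, rfl⟩
    set S := (Finset.range n).image fun i => decQ (get i) with hS
    have hstab : gsub left_gens ≤ MulAction.stabilizer (Equiv.Perm GolayPt) S := by
      rw [gsub, Subgroup.closure_le]
      rintro _ ⟨c, hc', rfl⟩
      obtain ⟨k, hk, rfl⟩ := List.getElem_of_mem hc'
      simp only [closedOk, List.all_eq_true, List.mem_range, Bool.and_eq_true, Nat.blt_eq] at hc
      show gperm _ • S = S
      refine Finset.eq_of_subset_of_card_le ?_ (by rw [Finset.card_smul_finset])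
      intro Y hY
      obtain ⟨Y', hY', rfl⟩ := Finset.mem_smul_finset.1 hY
      obtain ⟨i, hi, rfl⟩ := Finset.mem_image.1 hY'
      have h := hc k hk i (Finset.mem_range.1 hi)
      rw [List.getD_eq_getElem _ _ hk] at h
      exact Finset.mem_image.2 ⟨_, Finset.mem_range.2 h.1,
        (edgeQ_spec (left_ok _ (List.getElem_mem hk)) h.2).symm⟩
    have hfS : f • S = S := hstab (gsub_left_eq ▸ hf)
    have h1 : f • decQ (get 0) ∈ f • S :=
      Finset.smul_mem_smul_finset (Finset.mem_image.2 ⟨0, Finset.mem_range.2 hn, rfl⟩)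
    rw [hfS, hS, Finset.mem_image] at h1
    obtain ⟨i, hi, he⟩ := h1
    exact ⟨i, Finset.mem_range.1 hi, he⟩
  · rintro ⟨i, hi, rfl⟩
    obtain ⟨f, hf, he⟩ := orbit_spec decQ (fun c hc a b h => edgeQ_spec (left_ok c hc) h) ht hn hi
    exact ⟨⟨f, gsub_left_eq ▸ hf⟩, he⟩

def get1 (i : ℕ) : ℕ := getW 96 orb1 i

theorem orbit1 : MulAction.orbit qStab (decQ (get1 0)) = (fun i => decQ (get1 i)) '' Set.Iio 12 :=
  orbit_eq get1 tree1 [img1_0, img1_1] (by norm_num) (by decide +kernel) (by decide +kernel)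

theorem orbit1_card : (MulAction.orbit qStab (decQ (get1 0))).ncard = 12 := by
  rw [orbit1, Set.InjOn.ncard_image]
  · rw [← Finset.coe_Iio, Set.ncard_coe_finset, Nat.card_Iio]
  · exact inj_of_check get1 (by decide +kernel)

def get2 (i : ℕ) : ℕ := getW 96 orb2 i

theorem orbit2 : MulAction.orbit qStab (decQ (get2 0)) = (fun i => decQ (get2 i)) '' Set.Iio 27 :=
  orbit_eq get2 tree2 [img2_0, img2_1] (by norm_num) (by decide +kernel) (by decide +kernel)

theorem orbit2_card : (MulAction.orbit qStab (decQ (get2 0))).ncard = 27 := by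
  rw [orbit2, Set.InjOn.ncard_image]
  · rw [← Finset.coe_Iio, Set.ncard_coe_finset, Nat.card_Iio]
  · exact inj_of_check get2 (by decide +kernel)

def get3 (i : ℕ) : ℕ := getW 96 orb3 i

theorem orbit3 : MulAction.orbit qStab (decQ (get3 0)) = (fun i => decQ (get3 i)) '' Set.Iio 72 :=
  orbit_eq get3 tree3 [img3_0, img3_1] (by norm_num) (by decide +kernel) (by decide +kernel)

theorem orbit3_card : (MulAction.orbit qStab (decQ (get3 0))).ncard = 72 := by
  rw [orbit3, Set.InjOn.ncard_image]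
  · rw [← Finset.coe_Iio, Set.ncard_coe_finset, Nat.card_Iio]
  · exact inj_of_check get3 (by decide +kernel)

def get4 (i : ℕ) : ℕ := getW 96 orb4 i

theorem orbit4 : MulAction.orbit qStab (decQ (get4 0)) = (fun i => decQ (get4 i)) '' Set.Iio 108 :=
  orbit_eq get4 tree4 [img4_0, img4_1] (by norm_num) (by decide +kernel) (by decide +kernel)

theorem orbit4_card : (MulAction.orbit qStab (decQ (get4 0))).ncard = 108 := by
  rw [orbit4, Set.InjOn.ncard_image]
  · rw [← Finset.coe_Iio, Set.ncard_coe_finset, Nat.card_Iio]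
  · exact inj_of_check get4 (by decide +kernel)

/-- membership in the five classes -/
def sameQ (a b : ℕ) : Bool :=
  (four a).all (fun m => (four b).contains m) && (four b).all (fun m => (four a).contains m)

theorem sameQ_spec {a b : ℕ} (h : sameQ a b = true) : decQ a = decQ b := by
  simp only [sameQ, Bool.and_eq_true, List.all_eq_true, List.contains_iff_mem] at h
  ext s
  simp only [decQ, Finset.mem_image, List.mem_toFinset]
  exact ⟨fun ⟨m, hm, e⟩ => ⟨m, h.1 m hm, e⟩, fun ⟨m, hm, e⟩ => ⟨m, h.2 m hm, e⟩⟩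

def allClasses : List ℕ := getQ 0 :: ((List.range 12).map get1 ++ (List.range 27).map get2 ++
  (List.range 72).map get3 ++ (List.range 108).map get4)

theorem classes_cover : ((List.range 220).all fun i => allClasses.any (sameQ (getQ i))) = true := by
  decide +kernel

theorem classes_sub : (allClasses.all fun a => (List.range 220).any fun i => sameQ (getQ i) a) = true := by
  decide +kernel

theorem reps_mem : get1 0 ∈ allClasses ∧ get2 0 ∈ allClasses ∧ get3 0 ∈ allClasses ∧ get4 0 ∈ allClasses := by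
  decide +kernel

theorem class_mem {a : ℕ} (ha : a ∈ allClasses) : decQ a ∈ quartets (setOfMask dod0) := by
  have h := List.all_eq_true.1 classes_sub a ha
  simp only [List.any_eq_true, List.mem_range] at h
  obtain ⟨i, hi, hs⟩ := h
  exact mem_quartets_iff.2 ⟨i, hi, sameQ_spec hs⟩

theorem base_classes : quartets (setOfMask dod0) = {quartet0} ∪ MulAction.orbit qStab (decQ (get1 0)) ∪
    MulAction.orbit qStab (decQ (get2 0)) ∪ MulAction.orbit qStab (decQ (get3 0)) ∪
      MulAction.orbit qStab (decQ (get4 0)) := by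
  rw [orbit1, orbit2, orbit3, orbit4]
  ext X
  simp only [Set.mem_union, Set.mem_singleton_iff, Set.mem_image, Set.mem_Iio, or_assoc]
  constructor
  · intro hX
    obtain ⟨i, hi, rfl⟩ := mem_quartets_iff.1 hX
    have h := List.all_eq_true.1 classes_cover i (List.mem_range.2 hi)
    simp only [List.any_eq_true] at h
    obtain ⟨a, ha, hs⟩ := h
    rw [sameQ_spec hs]
    simp only [allClasses, List.mem_cons, List.mem_append, List.mem_map, List.mem_range,
      or_assoc] at ha
    rcases ha with rfl | ⟨k, hk, rfl⟩ | ⟨k, hk, rfl⟩ | ⟨k, hk, rfl⟩ | ⟨k, hk, rfl⟩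
    · exact Or.inl rfl
    · exact Or.inr (Or.inl ⟨k, hk, rfl⟩)
    · exact Or.inr (Or.inr (Or.inl ⟨k, hk, rfl⟩))
    · exact Or.inr (Or.inr (Or.inr (Or.inl ⟨k, hk, rfl⟩)))
    · exact Or.inr (Or.inr (Or.inr (Or.inr ⟨k, hk, rfl⟩)))
  · intro h
    rcases h with rfl | ⟨k, hk, rfl⟩ | ⟨k, hk, rfl⟩ | ⟨k, hk, rfl⟩ | ⟨k, hk, rfl⟩
    · exact quartet0_mem
    all_goals
      refine class_mem ?_
      simp only [allClasses, List.mem_cons, List.mem_append, List.mem_map, List.mem_range, or_assoc]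
    · exact Or.inr (Or.inl ⟨k, hk, rfl⟩)
    · exact Or.inr (Or.inr (Or.inl ⟨k, hk, rfl⟩))
    · exact Or.inr (Or.inr (Or.inr (Or.inl ⟨k, hk, rfl⟩)))
    · exact Or.inr (Or.inr (Or.inr (Or.inr ⟨k, hk, rfl⟩)))


/-- A quartet stabiliser has five orbits on the quartets of its dodecad, of sizes 1, 12, 27, 72, 108. -/
theorem result (d : Finset Cfsg.GolayPt) (hd : d ∈ Cfsg.dodecads) (Q : Finset (Finset Cfsg.GolayPt)) (hQ : Q ∈ Cfsg.quartets d) : ∃ X₁ ∈ Cfsg.quartets d, ∃ X₂ ∈ Cfsg.quartets d, ∃ X₃ ∈ Cfsg.quartets d, ∃ X₄ ∈ Cfsg.quartets d, (MulAction.orbit ↥(MulAction.stabilizer Cfsg.M24 d ⊓ MulAction.stabilizer Cfsg.M24 Q) X₁).ncard = 12 ∧ (MulAction.orbit ↥(MulAction.stabilizer Cfsg.M24 d ⊓ MulAction.stabilizer Cfsg.M24 Q) X₂).ncard = 27 ∧ (MulAction.orbit ↥(MulAction.stabilizer Cfsg.M24 d ⊓ MulAction.stabilizer Cfsg.M24 Q) X₃).ncard = 72 ∧ (MulAction.orbit ↥(MulAction.stabilizer Cfsg.M24 d ⊓ MulAction.stabilizer Cfsg.M24 Q) X₄).ncard = 108 ∧ Cfsg.quartets d = {Q} ∪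 MulAction.orbit ↥(MulAction.stabilizer Cfsg.M24 d ⊓ MulAction.stabilizer Cfsg.M24 Q) X₁ ∪ MulAction.orbit ↥(MulAction.stabilizer Cfsg.M24 d ⊓ MulAction.stabilizer Cfsg.M24 Q) X₂ ∪ MulAction.orbit ↥(MulAction.stabilizer Cfsg.M24 d ⊓ MulAction.stabilizer Cfsg.M24 Q) X₃ ∪ MulAction.orbit ↥(MulAction.stabilizer Cfsg.M24 d ⊓ MulAction.stabilizer Cfsg.M24 Q) X₄ := by
  obtain ⟨g, hg, hed, heQ⟩ := norm_quartet hd hQ
  obtain ⟨e, he⟩ := exists_equiv_qStab hg hed heQ
  let ψ : Finset (Finset Cfsg.GolayPt) → Finset (Finset Cfsg.GolayPt) := fun X => g⁻¹ • X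
  have hψ : Function.Injective ψ := MulAction.injective g⁻¹
  have horb : ∀ Y, MulAction.orbit ↥(MulAction.stabilizer Cfsg.M24 d ⊓ MulAction.stabilizer Cfsg.M24 Q)
      (ψ Y) = ψ '' MulAction.orbit qStab Y := by
    intro Y
    ext X
    constructor
    · rintro ⟨x, rfl⟩
      refine ⟨(e x : Equiv.Perm Cfsg.GolayPt) • Y, ⟨e x, rfl⟩, ?_⟩
      show g⁻¹ • ((e x : Equiv.Perm Cfsg.GolayPt) • Y) = (x.1 : Equiv.Perm Cfsg.GolayPt) • (g⁻¹ • Y)
      rw [he, smul_smul, smul_smul]
      congr 1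
      group
    · rintro ⟨_, ⟨f, rfl⟩, rfl⟩
      refine ⟨e.symm f, ?_⟩
      have h1 := he (e.symm f)
      rw [MulEquiv.apply_symm_apply] at h1
      show ((e.symm f).1 : Equiv.Perm Cfsg.GolayPt) • (g⁻¹ • Y) =
        g⁻¹ • ((f : Equiv.Perm Cfsg.GolayPt) • Y)
      rw [h1, smul_smul, smul_smul]
      congr 1
      group
  have hmem : ∀ Y, Y ∈ Cfsg.quartets (setOfMask dod0) → ψ Y ∈ Cfsg.quartets d := by
    intro Y hY
    refine (smul_quartets_iff hg).1 ?_
    rw [hed]
    show g • g⁻¹ • Y ∈ _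
    rwa [smul_inv_smul]
  have hin : ∀ a ∈ allClasses, ψ (decQ a) ∈ Cfsg.quartets d := fun a ha => hmem _ (class_mem ha)
  refine ⟨ψ (decQ (get1 0)), hin (get1 0) reps_mem.1, ψ (decQ (get2 0)), hin (get2 0) reps_mem.2.1,
    ψ (decQ (get3 0)), hin (get3 0) reps_mem.2.2.1, ψ (decQ (get4 0)), hin (get4 0) reps_mem.2.2.2,
    ?_, ?_, ?_, ?_, ?_⟩
  · rw [horb, Set.ncard_image_of_injective _ hψ, orbit1_card]
  · rw [horb, Set.ncard_image_of_injective _ hψ, orbit2_card]
  · rw [horb, Set.ncard_image_of_injective _ hψ, orbit3_card]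
  · rw [horb, Set.ncard_image_of_injective _ hψ, orbit4_card]
  · rw [horb, horb, horb, horb]
    have hQ0 : ({Q} : Set (Finset (Finset Cfsg.GolayPt))) = ψ '' {quartet0} := by
      rw [Set.image_singleton]
      show _ = {g⁻¹ • quartet0}
      rw [← heQ, inv_smul_smul]
    rw [hQ0, ← Set.image_union, ← Set.image_union, ← Set.image_union, ← Set.image_union,
      ← base_classes]
    ext X
    constructor
    · intro hX
      exact ⟨g • X, hed ▸ smul_quartets hg hX, inv_smul_smul g X⟩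
    · rintro ⟨Y, hY, rfl⟩
      exact hmem Y hY

end Cfsg.Agent.S1599
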