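import Cfsg.Statements.S1600
import Cfsg.Agent.Lib.M24Config.Dodecad

set_option autoImplicit false
open scoped Pointwise
open Cfsg

namespace Cfsg.Agent.S1600

open Cfsg.Agent.Lib.Golay Cfsg.Agent.Lib.SporStruct.Masks Cfsg.Agent.Lib.M24Config
open Cfsg.Agent.Lib.M24Config.DataD Cfsg.Agent.Lib.M24Config.Dodecad
open scoped Pointwise
open Cfsg.Agent.Lib.Computation

theorem order72 : Nat.card (gsub fixThree_gens) = 72 := card_gsub fixThree_check (by decide +kernel)

theorem outThree_ok : stepOutThree.ok ((ksub 24 1).filter qOut) = true := by decide +kernel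

theorem card_fixes : Nat.card (Fixes [2 ^ rD, 2 ^ qD, 2 ^ pD, dod0]) = 72 := by
  have hg : gensOk fixThree_gens [2 ^ rD, 2 ^ qD, 2 ^ pD, dod0] = true := by decide +kernel
  rw [← gsub_eq_fixes hg order72 card_le_three, order72]


/-- The pointwise stabiliser of three points of a dodecad inside the dodecad stabiliser (order 72) is transitive on the complementary dodecad. -/
theorem result (d : Finset Cfsg.GolayPt) (hd : d ∈ Cfsg.dodecads) (p q r : Cfsg.GolayPt) (hp : p ∈ d) (hq : q ∈ d) (hr : r ∈ d) (hpq : p ≠ q) (hpr : p ≠ r) (hqr : q ≠ r) : Nat.card ↥(MulAction.stabilizer Cfsg.M24 d ⊓ MulAction.stabilizer Cfsg.M24 p ⊓ MulAction.stabilizer Cfsg.M24 q ⊓ MulAction.stabilizer Cfsg.M24 r) = 72 ∧ ∀ x ∉ d, ∀ y ∉ d, ∃ g ∈ (MulAction.stabilizer Cfsg.M24 d ⊓ MulAction.stabilizer Cfsg.M24 p ⊓ MulAction.stabilizer Cfsg.M24 q ⊓ MulAction.stabilizer Cfsg.M24 r), ((g : ↥Cfsg.M24) : Equiv.Perm Cfsg.GolayPt) x = y := by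
  obtain ⟨g, hg, hed, hgp, hgq, hgr⟩ := norm_three hd hp hq hr hpq hpr hqr
  obtain ⟨e, he⟩ := exists_equiv_fixes (H := MulAction.stabilizer Cfsg.M24 d ⊓
      MulAction.stabilizer Cfsg.M24 p ⊓ MulAction.stabilizer Cfsg.M24 q ⊓
      MulAction.stabilizer Cfsg.M24 r) hg (ms := [2 ^ rD, 2 ^ qD, 2 ^ pD, dod0]) (fun x => by
    simp only [List.forall_mem_cons, List.not_mem_nil, false_imp_iff, implies_true, and_true,
      conj_fix_point_iff (show rD < 24 by decide) hgr, conj_fix_point_iff (show qD < 24 by decide) hgq,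
      conj_fix_point_iff (show pD < 24 by decide) hgp, ← hed, conj_fix_iff, Subgroup.mem_inf,
      MulAction.mem_stabilizer_iff, Subgroup.smul_def, Equiv.Perm.smul_def]
    tauto)
  refine ⟨(Nat.card_congr e.toEquiv).trans card_fixes, ?_⟩
  intro x hx y hy
  have hmem : ∀ z, z ∉ d → maskOfSet ({g z} : Finset Cfsg.GolayPt) ∈ (ksub 24 1).filter qOut :=
    fun z hz => mask_single_mem (qOut_single fun h => hz (by rwa [← hed, mem_smul_iff'] at h))
  obtain ⟨f, hf, hfe⟩ := Step.transitive_sets₂ outThree_ok (hmem x hx) (hmem y hy)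
  rw [smul_single_iff] at hfe
  refine ⟨((e.symm ⟨f, hf⟩ : _) : ↥Cfsg.M24), (e.symm ⟨f, hf⟩).2, ?_⟩
  have h1 := he (e.symm ⟨f, hf⟩)
  rw [MulEquiv.apply_symm_apply] at h1
  have h1' : f = g * ((e.symm ⟨f, hf⟩).1 : Equiv.Perm Cfsg.GolayPt) * g⁻¹ := h1
  apply g.injective
  rw [← hfe]
  conv_rhs => rw [h1']
  simp [Equiv.Perm.mul_apply]

end Cfsg.Agent.S1600
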