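import Cfsg.Statements.S1601
import Cfsg.Agent.Lib.M24Config.Dodecad
import Cfsg.Agent.Lib.SmallGroups.ProjLine

set_option autoImplicit false
open scoped Pointwise
open Cfsg

namespace Cfsg.Agent.S1601

open Cfsg.Agent.Lib.Golay Cfsg.Agent.Lib.SporStruct.Masks Cfsg.Agent.Lib.M24Config
open Cfsg.Agent.Lib.M24Config.DataD Cfsg.Agent.Lib.M24Config.Dodecad
open Cfsg.Agent.Lib.Computation (Level permRep decodeP okPerm decodeP_apply getW)
open scoped Pointwise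

/-- generators and their images -/
def pairs : List (ℕ × ℕ) := [(0x33996154f09d2f24a8882b62b1bc20, 0x3aca65040311109), (0x44c4e658d4854e3895a45dd2a7c820, 0x41c25580893086a)]

/-- Generators (order of the group: 660). -/
def left_gens : List Nat := [0x33996154f09d2f24a8882b62b1bc20, 0x44c4e658d4854e3895a45dd2a7c820]

def left_steps : List (Cfsg.Agent.Lib.Computation.Step Nat) := [.mul 0 1,
  .mul 0 2,
  .mul 0 3,
  .mul 4 4,
  .mul 4 5,
  .mul 6 0,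
  .mul 0 2,
  .mul 4 0,
  .mul 0 5,
  .mul 10 10,
  .mul 11 0,
  .mul 0 2,
  .mul 10 9,
  .mul 0 1,
  .mul 0 2,
  .mul 15 16,
  .mul 0 17,
  .mul 11 0,
  .mul 0 3,
  .mul 20 11,
  .mul 0 1,
  .mul 9 0,
  .mul 4 0,
  .mul 3 0,
  .mul 8 15,
  .mul 0 5,
  .mul 0 8,
  .mul 0 10,
  .mul 28 2,
  .mul 0 2,
  .mul 0 12,
  .mul 0 11,
  .mul 12 33,
  .mul 0 2,
  .mul 0 2,
  .mul 6 0,
  .mul 0 8,
  .mul 8 0,
  .mul 10 20,
  .mul 16 27,
  .mul 0 1,
  .mul 0 21,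
  .mul 24 0,
  .mul 0 5,
  .mul 38 44,
  .mul 36 0,
  .mul 0 30,
  .mul 0 14,
  .mul 0 28,
  .mul 15 0,
  .mul 0 21,
  .mul 11 0,
  .mul 2 36,
  .mul 0 24,
  .mul 54 49,
  .mul 0 51,
  .mul 0 55,
  .mul 0 51,
  .mul 0 56,
  .mul 0 56,
  .mul 0 53,
  .mul 0 48,
  .mul 0 52,
  .mul 0 18,
  .mul 0 53,
  .mul 0 57,
  .mul 0 50,
  .mul 0 50,
  .mul 0 59,
  .mul 0 51,
  .mul 0 58,
  .mul 0 57,
  .mul 0 52,
  .mul 0 27,
  .mul 0 27,
  .mul 0 50,
  .mul 0 50,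
  .mul 0 62,
  .mul 0 45,
  .mul 0 50,
  .mul 0 61,
  .mul 0 54,
  .mul 0 34,
  .mul 0 55,
  .mul 0 63,
  .mul 0 55,
  .mul 0 55,
  .mul 0 65,
  .mul 0 54,
  .mul 0 57,
  .mul 0 41,
  .mul 0 56,
  .mul 0 42,
  .mul 0 70,
  .mul 0 58,
  .mul 0 58,
  .mul 0 43,
  .mul 0 57,
  .mul 0 59,
  .mul 0 48,
  .mul 0 46,
  .mul 0 63,
  .mul 0 61,
  .mul 0 51,
  .mul 0 62,
  .mul 0 62,
  .mul 0 62,
  .mul 0 83,
  .mul 109 109,
  .inv 0 0x88a8f954e3640b66a1464ac979b820,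
  .mul 0 2,
  .mul 112 111,
  .mul 113 0,
  .inv 0 0x2cdc264a23ac0f4321575912d7d820,
  .mul 0 8,
  .mul 0 0,
  .inv 0 0x2be838490c759b325e293ad46a8820,
  .mul 0 6,
  .mul 118 118,
  .mul 120 0,
  .inv 0 0x6d69073d331d8822ae26b9d4893020,
  .mul 0 14,
  .mul 123 123,
  .inv 0 0x88a8f954e3640b66a1464ac979b820,
  .mul 0 19,
  .mul 10 0,
  .mul 11 0,
  .inv 0 0x2ba8c859237ca35519a83ac9798820,
  .mul 0 6]

def left_chain : List (Level Nat) := [
  ⟨2, [0x33a70abd349590c2aa2d3dd6418820, 0x55a0f94cf5a310e5dd2d8988518820, 0x34a74ad9b073e23591093dcaa60820, 0x33996154f09d2f24a8882b62b1bc20],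
    (.node (.node (.node (.node .leaf ⟨2, 0xbdab49ca307b9ac5a928398a418820, 0xbdab49ca307b9ac5a928398a418820, 0, 2, 0⟩ .leaf) ⟨3, 0x25195159b383af2894c851d2b78c20, 0x6ca968316f1ba3521ca83255714c20, 4, 12, 2⟩ .leaf) ⟨12, 0x5507314a3583cd6696e921d0b73020, 0x4b216a4a2f70d6225d0533547acc20, 3, 14, 1⟩ (.node (.node .leaf ⟨14, 0xbbc7214cf0ad0d6411492c5ab63820, 0xbb1ee950d0b08a32250b8b4eaacc20, 2, 15, 2⟩ .leaf) ⟨15, 0x33996154f09d2f24a8882b62b1bc20, 0x6d24e7b0b0158d5229688dce91cc20, 1, 2, 3⟩ .leaf)) ⟨16, 0xbb2ce151337c95589968234e51c020, 0xbd592839627d0d64b6282a8871cc20, 3, 20, 0⟩ (.node (.node (.node .leaf ⟨18, 0xbd98e14cf4ac0cf8a88d5a1251c820, 0xbd9f09096e651153a8a68b4891cc20, 2, 15, 0⟩ .leaf) ⟨19, 0x6d24e7b0b0158d5229688dce91cc20, 0x33996154f09d2f24a8882b62b1bc20, 2, 15, 3⟩ .leaf) ⟨20, 0x331d61423593d534dcad220eb1d020, 0x5520263e3275516235662dd271cc20, 2, 15, 1⟩ (.node (.node .leaf ⟨21, 0x33a54788b6641b33a9774a0911d420,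 0x440546548e9d9af4a8e65de251c820, 3, 18, 3⟩ .leaf) ⟨22, 0x3486f154f49c2ee691515a50565820, 0x68a507d90ea31633a4c58dc8aacc20, 3, 18, 2⟩ .leaf)))⟩,
  ⟨3, [0x33a70abd349590c2aa2d3dd6418820, 0x55a0f94cf5a310e5dd2d8988518820, 0x34a74ad9b073e23591093dcaa60820],
    (.node (.node (.node (.node .leaf ⟨3, 0xbdab49ca307b9ac5a928398a418820, 0xbdab49ca307b9ac5a928398a418820, 0, 3, 0⟩ .leaf) ⟨12, 0x34a74ad9b073e23591093dcaa60820, 0x34a74ad9b073e23591093dcaa60820, 1, 3, 2⟩ .leaf) ⟨14, 0x34e4f85915650e3595a98a89770820, 0x24a0eb54f3a0d2f599116dd4560820, 2, 12, 1⟩ (.node (.node .leaf ⟨15, 0xbd6ce849331d0ec596286914678820, 0xbd6ce849331d0ec596286914678820, 3, 14, 2⟩ .leaf) ⟨16, 0x551cc9d62f1c936290e86acd780820, 0x232569ba23854f435da84956a78820, 5, 20, 0⟩ .leaf)) ⟨18, 0x34dd6a3e351c0ec2ad2d4115790820, 0x25213b0e2e9550c515276dd6678820, 4, 22, 2⟩ (.node (.node (.node .leaf ⟨19, 0x349967d0f01d62e22d28696ea98820,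 0x2d1d21d9b09b0f5511288dccb78820, 5, 18, 1⟩ .leaf) ⟨20, 0x542ccacd321be2e590ed416e6a0820, 0x2d663941b6731145de27490ca78820, 4, 15, 1⟩ .leaf) ⟨21, 0xbbd8e940f41cd362162d42ccaa8820, 0xbb07074d32b5115311a78954b78820, 6, 19, 0⟩ (.node .leaf ⟨22, 0xbd5f2a39b3640e32ad114a886b0820, 0xb8ed38510eaca2f518e96916560820, 3, 14, 0⟩ .leaf)))⟩,
  ⟨4, [0x33a70abd349590c2aa2d3dd6418820, 0x55a0f94cf5a310e5dd2d8988518820],
    (.node (.node .leaf ⟨4, 0xbdab49ca307b9ac5a928398a418820, 0xbdab49ca307b9ac5a928398a418820, 0, 4, 0⟩ .leaf) ⟨5, 0x55a0f94cf5a310e5dd2d8988518820, 0x55a0f94cf5a310e5dd2d8988518820, 1, 4, 1⟩ (.node .leaf ⟨11, 0x53a927d4f3831b629a284dc8b18820, 0x332558512f9d9ae25ce88a96518820, 2, 5, 0⟩ .leaf))⟩,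
  ⟨5, [0x33a70abd349590c2aa2d3dd6418820],
    (.node (.node .leaf ⟨5, 0xbdab49ca307b9ac5a928398a418820, 0xbdab49ca307b9ac5a928398a418820, 0, 5, 0⟩ .leaf) ⟨11, 0x33a70abd349590c2aa2d3dd6418820, 0x33a70abd349590c2aa2d3dd6418820, 1, 5, 0⟩ .leaf)⟩]

theorem left_check : (permRep 24 5 (by decide)).checkClosure left_gens left_steps left_chain = true := by
  decide +kernel

/-- Generators (order of the group: 660). -/
def right_gens : List Nat := [0x3aca65040311109, 0x41c25580893086a]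

def right_steps : List (Cfsg.Agent.Lib.Computation.Step Nat) := [.mul 1 1,
  .mul 1 2,
  .mul 3 0,
  .mul 0 2,
  .mul 4 5,
  .mul 0 6,
  .mul 0 7,
  .mul 0 3,
  .mul 9 0,
  .mul 9 10,
  .mul 0 11,
  .mul 8 0,
  .mul 4 5,
  .mul 3 0,
  .mul 0 5,
  .mul 0 3,
  .mul 0 5,
  .mul 0 5,
  .mul 19 19,
  .mul 20 0,
  .mul 0 7,
  .mul 15 14,
  .mul 0 1,
  .mul 0 2,
  .mul 12 0,
  .mul 16 0,
  .mul 5 0,
  .mul 15 0,
  .mul 0 7,
  .mul 0 11,
  .mul 0 21,
  .mul 19 0,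
  .mul 32 17,
  .mul 24 34,
  .mul 31 34,
  .mul 22 0,
  .mul 0 26,
  .mul 0 3,
  .mul 0 29,
  .mul 6 23,
  .mul 0 28,
  .mul 7 0,
  .mul 0 3,
  .mul 0 10,
  .mul 15 0,
  .mul 4 36,
  .mul 4 0,
  .mul 14 0,
  .mul 0 31,
  .mul 16 0,
  .mul 7 40,
  .mul 0 18,
  .mul 52 50,
  .mul 0 52,
  .mul 0 49,
  .mul 0 52,
  .mul 0 50,
  .mul 0 50,
  .mul 0 54,
  .mul 0 37,
  .mul 0 41,
  .mul 0 26,
  .mul 0 42,
  .mul 0 55,
  .mul 0 54,
  .mul 0 54,
  .mul 0 53,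
  .mul 0 55,
  .mul 0 47,
  .mul 0 46,
  .mul 0 61,
  .mul 0 35,
  .mul 0 35,
  .mul 0 59,
  .mul 0 59,
  .mul 0 51,
  .mul 0 42,
  .mul 0 44,
  .mul 0 53,
  .mul 0 63,
  .mul 0 42,
  .mul 0 64,
  .mul 0 56,
  .mul 0 43,
  .mul 0 43,
  .mul 0 58,
  .mul 0 44,
  .mul 0 41,
  .mul 0 49,
  .mul 0 42,
  .mul 0 47,
  .mul 0 63,
  .mul 0 44,
  .mul 0 44,
  .mul 0 43,
  .mul 0 66,
  .mul 0 78,
  .mul 0 53,
  .mul 0 46,
  .mul 0 49,
  .mul 0 70,
  .mul 0 56,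
  .mul 0 71,
  .mul 0 71,
  .mul 105 104,
  .mul 105 0,
  .mul 106 0,
  .inv 0 0x3ac24281061a542,
  .mul 0 4,
  .mul 110 109,
  .mul 111 0,
  .mul 111 0,
  .inv 0 0x414823ad23080ca,
  .mul 0 10,
  .inv 0 0x4112610d4709560,
  .mul 0 6]

def right_chain : List (Level Nat) := [
  ⟨0, [0x288c758c8852420, 0x952b2204a31c60, 0x3aca65040311109],
    (.node (.node (.node (.node .leaf ⟨0, 0x5a928398a418820, 0x5a928398a418820, 0, 0, 0⟩ .leaf) ⟨1, 0x380622212b29941, 0x204a6588674a00a, 3, 6, 2⟩ (.node .leaf ⟨2, 0x290030ad2751902, 0x30ca12096a400e9, 3, 5, 1⟩ .leaf)) ⟨3, 0x2910a4840231d63, 0xa0e910d6a010c5, 3, 6, 0⟩ (.node (.node .leaf ⟨4, 0x12c0129cc942864, 0x50883314e00ad09, 3, 5, 0⟩ .leaf) ⟨5, 0x51c015a12220cc5, 0x3aca65040311109, 2, 9, 2⟩ .leaf)) ⟨6, 0x594831040a4a0e6, 0x590620814941cc5, 2, 9, 0⟩ (.node (.node (.node .leaf ⟨7, 0xa4435a80431507, 0x3994100c4442565, 4, 8, 0⟩ .leaf) ⟨8, 0x894638c054ac88,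 0x124603a08132965, 3, 6, 1⟩ .leaf) ⟨9, 0x3aca65040311109, 0x51c015a12220cc5, 1, 0, 2⟩ (.node (.node .leaf ⟨10, 0x220e2304091acaa, 0x1008a49c2b1a0c5, 4, 3, 0⟩ .leaf) ⟨11, 0x19ca8218024854b, 0x4685192759045, 4, 8, 1⟩ .leaf)))⟩,
  ⟨1, [0x288c758c8852420, 0x952b2204a31c60],
    (.node (.node (.node (.node .leaf ⟨1, 0x5a928398a418820, 0x5a928398a418820, 0, 1, 0⟩ .leaf) ⟨2, 0xa0643acc951440, 0x30c8a3944848560, 3, 10, 0⟩ .leaf) ⟨3, 0x952b2204a31c60, 0x4112610d4709560, 1, 1, 1⟩ (.node (.node .leaf ⟨4, 0x508e92a0cb18480, 0x22d06494e11a840, 4, 5, 0⟩ .leaf) ⟨5, 0x1a90259127304a0, 0x3a8a920c265a040, 3, 10, 1⟩ .leaf)) ⟨6, 0x1892152ce5410c0, 0x31d23284825a900, 2, 3, 1⟩ (.node (.node (.node .leaf ⟨7, 0x1acca20509288e0, 0x520850a467588c0, 4, 2, 1⟩ .leaf) ⟨8, 0x31d23284825a900, 0x1892152ce5410c0, 3, 6, 1⟩ .leaf) ⟨9, 0x9d485946611120, 0x3a428510c228d60, 4, 2, 0⟩ (.node (.node .leaf ⟨10, 0x90c541d221ad40, 0x104a73250a19160,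 2, 3, 0⟩ .leaf) ⟨11, 0x4112610d4709560, 0x952b2204a31c60, 4, 8, 1⟩ .leaf)))⟩,
  ⟨2, [0x288c758c8852420],
    (.node (.node (.node .leaf ⟨2, 0x5a928398a418820, 0x5a928398a418820, 0, 2, 0⟩ .leaf) ⟨3, 0x41945208eb48c20, 0x2246b2a90711820, 3, 6, 0⟩ .leaf) ⟨6, 0x2246b2a90711820, 0x41945208eb48c20, 2, 9, 0⟩ (.node (.node .leaf ⟨9, 0x288c758c8852420, 0x38c444256532820, 1, 2, 0⟩ .leaf) ⟨10, 0x38c444256532820, 0x288c758c8852420, 4, 3, 0⟩ .leaf))⟩]

theorem right_check : (permRep 12 5 (by decide)).checkClosure right_gens right_steps right_chain = true := by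
  decide +kernel

/-- Generators (order of the group: 660). -/
def both_gens : List Nat := [0x7e375e89961b69c82118e3160951d04d45d224a10814d44b0cf040, 0x81f65d8d872179a6e221308e3161944151c34453442d724a3d2040]

def both_steps : List (Cfsg.Agent.Lib.Computation.Step Nat) := [.mul 0 1,
  .mul 0 2,
  .mul 0 3,
  .mul 4 4,
  .mul 4 5,
  .mul 6 0,
  .mul 0 2,
  .mul 4 0,
  .mul 0 5,
  .mul 10 10,
  .mul 11 0,
  .mul 0 2,
  .mul 10 9,
  .mul 0 1,
  .mul 0 2,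
  .mul 15 16,
  .mul 0 17,
  .mul 11 0,
  .mul 0 3,
  .mul 20 11,
  .mul 0 1,
  .mul 9 0,
  .mul 4 0,
  .mul 3 0,
  .mul 8 15,
  .mul 0 5,
  .mul 0 8,
  .mul 0 10,
  .mul 28 2,
  .mul 0 2,
  .mul 0 12,
  .mul 0 11,
  .mul 12 33,
  .mul 0 2,
  .mul 0 2,
  .mul 6 0,
  .mul 0 8,
  .mul 8 0,
  .mul 10 20,
  .mul 16 27,
  .mul 0 1,
  .mul 0 21,
  .mul 24 0,
  .mul 0 5,
  .mul 38 44,
  .mul 36 0,
  .mul 0 30,
  .mul 0 14,
  .mul 0 28,
  .mul 15 0,
  .mul 0 21,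
  .mul 11 0,
  .mul 2 36,
  .mul 0 24,
  .mul 54 49,
  .mul 0 51,
  .mul 0 55,
  .mul 0 51,
  .mul 0 56,
  .mul 0 56,
  .mul 0 53,
  .mul 0 48,
  .mul 0 52,
  .mul 0 18,
  .mul 0 53,
  .mul 0 57,
  .mul 0 50,
  .mul 0 50,
  .mul 0 59,
  .mul 0 51,
  .mul 0 58,
  .mul 0 57,
  .mul 0 52,
  .mul 0 27,
  .mul 0 27,
  .mul 0 50,
  .mul 0 50,
  .mul 0 62,
  .mul 0 45,
  .mul 0 50,
  .mul 0 61,
  .mul 0 54,
  .mul 0 34,
  .mul 0 55,
  .mul 0 63,
  .mul 0 55,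
  .mul 0 55,
  .mul 0 65,
  .mul 0 54,
  .mul 0 57,
  .mul 0 41,
  .mul 0 56,
  .mul 0 42,
  .mul 0 70,
  .mul 0 58,
  .mul 0 58,
  .mul 0 43,
  .mul 0 57,
  .mul 0 59,
  .mul 0 48,
  .mul 0 46,
  .mul 0 63,
  .mul 0 61,
  .mul 0 51,
  .mul 0 62,
  .mul 0 62,
  .mul 0 62,
  .mul 0 83,
  .mul 109 109,
  .inv 0 0x89e75f6198e085a71b44250f4951c331015634828624b1174ce040,
  .mul 0 2,
  .mul 112 111,
  .mul 113 0,
  .inv 0 0x7e086375e89961b69c1533823124435501d41882972c424d3d6040,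
  .mul 0 8,
  .mul 0 0,
  .inv 0 0x71f8a38596a075b61e14f50341220c3963531174491cb286542040,
  .mul 0 6,
  .mul 118 118,
  .mul 120 0,
  .inv 0 0x8a16df8da79881c75935551038f2530d610214b4465c728848c040,
  .mul 0 14,
  .mul 123 123,
  .inv 0 0x89e75f6198e085a71b44250f4951c331015634828624b1174ce040,
  .mul 0 19,
  .mul 10 0,
  .mul 11 0,
  .inv 0 0x6dd7a18e06197dc6a214e50c4162433d24552863481cb1174c2040,
  .mul 0 6]

def both_chain : List (Level Nat) := [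
  ⟨2, [0x61c69d65b8227a17e318e4d054f25449620c14a44d1d72c40c2040, 0x69d7de86089b72361929640f4931d550c20e2d724d4461050c2040, 0x85e8d97627db71881a1924d455635038f4432c42091d714a302040, 0x7e375e89961b69c82118e3160951d04d45d224a10814d44b0cf040],
    (.node (.node (.node (.node .leaf ⟨2, 0x8e28607de75c6da6585d65544d24503ce34c2ca2481c61440c2040, 0x8e28607de75c6da6585d65544d24503ce34c2ca2481c61440c2040, 0, 2, 0⟩ .leaf) ⟨3, 0x79d8df66285c81b69811431509635340e5d244518828724b3c3040, 0x85e75b82389c6997d835251640c2cf0ce455107148189297093040, 4, 12, 2⟩ .leaf) ⟨12, 0x89f85d81e8db65c61a2940d309245540f1963455c910720b38c040, 0x76385f89e81a7186d924c41651244f3832c211720518d287553040, 3, 14, 1⟩ (.node (.node .leaf ⟨14, 0x7617e27a069c61b6635cf0d20931d055419620428915134b30e040, 0x62089e85f8dc69d65b5cc3ce49419058214310920b44d1ca553040, 2, 15, 2⟩ .leaf) ⟨15, 0x7e375e89961b69c82118e3160951d04d45d224a10814d44b0cf040,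 0x89f6198e085a71b79d35448e3cc15009619510a2c84571c90d3040, 1, 2, 3⟩ .leaf)) ⟨16, 0x6a171d8237e261e6d95cc58e0942533d22954462c810d1c50d0040, 0x79c89f75a82166361b5d531240e2c23d419624d44814a1070d3040, 3, 20, 0⟩ (.node (.node (.node .leaf ⟨18, 0x65881b71f8de86275a5d630e0931d455018f44a10d2c82450d2040, 0x75a6e179c65f8188e25d63d04822ce3142151ca14644d1090d3040, 2, 15, 0⟩ .leaf) ⟨19, 0x89f6198e085a71b79d35448e3cc15009619510a2c84571c90d3040, 0x7e375e89961b69c82118e3160951d04d45d224a10814d44b0cf040, 2, 15, 3⟩ .leaf) ⟨20, 0x85a8a075865c8db79f18c39609045548f29325714d1081cb0d4040, 0x6e18e06197dc6a275e29440230f45239521610d2c61572470d3040, 2, 15, 1⟩ (.node (.node .leaf ⟨21, 0x82179a6e27d976361c18e4943c21563103531ca2d72481110d5040, 0x69e8a37616d87e071921009431510e4d634f24a1c62d74450d2040, 3, 18, 3⟩ .leaf) ⟨22, 0x81a65c6dd8628de7d81920cf0951d44d05ce3442912c9205316040, 0x6dc76365a7a07e28583424903d620e50c2c31c918545710a553040,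 3, 18, 2⟩ .leaf)))⟩,
  ⟨3, [0x61c69d65b8227a17e318e4d054f25449620c14a44d1d72c40c2040, 0x69d7de86089b72361929640f4931d550c20e2d724d4461050c2040, 0x85e8d97627db71881a1924d455635038f4432c42091d714a302040],
    (.node (.node (.node (.node .leaf ⟨3, 0x8e28607de75c6da6585d65544d24503ce34c2ca2481c61440c2040, 0x8e28607de75c6da6585d65544d24503ce34c2ca2481c61440c2040, 0, 3, 0⟩ .leaf) ⟨12, 0x85e8d97627db71881a1924d455635038f4432c42091d714a302040, 0x85e8d97627db71881a1924d455635038f4432c42091d714a302040, 1, 3, 2⟩ .leaf) ⟨14, 0x7e069889d85c6d97a319348f4162153141c32c534944a117382040, 0x61f7628d979c6e16a011240e5951d350324f2c6211357285302040, 2, 12, 1⟩ (.node (.node .leaf ⟨15, 0x75961a79f8db7208a15d558e4122530d41cc2c54483442863c2040, 0x75961a79f8db7208a15d558e4122530d41cc2c54483442863c2040, 3, 14, 2⟩ .leaf) ⟨16, 0x7237d875a86279b81929438c4d544f0d22561441c834b197402040, 0x89c75985b7e369e62010c4964ce4434151d41973482452ca3c2040,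 5, 20, 0⟩ .leaf)) ⟨18, 0x81f8e16d961e89d71a19339650f4550d01cc14b24d204297482040, 0x85b82389c6997d879d11441358344e49520c2852473572c63c2040, 4, 22, 2⟩ (.node (.node (.node .leaf ⟨19, 0x7a169f7186607626e31923163d41d00d544e10b2483455ca4c2040, 0x61a89c8236df66175e1543920d63504cc1d528424845718b3c2040, 5, 18, 1⟩ .leaf) ⟨20, 0x89866382169c6de75f29058c5532520cf44e2c41cd2055c6502040, 0x82379f61a65c6dd8621554c349035638c2142d744724418a3c2040, 4, 15, 1⟩ .leaf) ⟨21, 0x6da8598a37dd81c7985cf30e4901d40d325610544d20b18a542040, 0x79f85b75971a8e28185cc0d039325259421518434744528b3c2040, 6, 19, 0⟩ (.node .leaf ⟨22, 0x65d8637206a279f6d85d53d250e3533101c314b21124a106582040, 0x81c85e69b89f65d8d85c359341420e55244f2861c93442c5302040, 3, 14, 0⟩ .leaf)))⟩,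
  ⟨4, [0x61c69d65b8227a17e318e4d054f25449620c14a44d1d72c40c2040, 0x69d7de86089b72361929640f4931d550c20e2d724d4461050c2040],
    (.node (.node .leaf ⟨4, 0x8e28607de75c6da6585d65544d24503ce34c2ca2481c61440c2040, 0x8e28607de75c6da6585d65544d24503ce34c2ca2481c61440c2040, 0, 4, 0⟩ .leaf) ⟨5, 0x69d7de86089b72361929640f4931d550c20e2d724d4461050c2040, 0x69d7de86089b72361929640f4931d550c20e2d724d4461050c2040, 1, 4, 1⟩ (.node .leaf ⟨11, 0x86065b69d71e8988df28e5123d51d340c35614644825710b0c2040, 0x65b8e261c79d81f85a18c49541424f4d634e1171c844a2c50c2040, 2, 5, 0⟩ .leaf))⟩,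
  ⟨5, [0x61c69d65b8227a17e318e4d054f25449620c14a44d1d72c40c2040],
    (.node (.node .leaf ⟨5, 0x8e28607de75c6da6585d65544d24503ce34c2ca2481c61440c2040, 0x8e28607de75c6da6585d65544d24503ce34c2ca2481c61440c2040, 0, 5, 0⟩ .leaf) ⟨11, 0x61c69d65b8227a17e318e4d054f25449620c14a44d1d72c40c2040, 0x61c69d65b8227a17e318e4d054f25449620c14a44d1d72c40c2040, 1, 5, 0⟩ .leaf)⟩]

theorem both_check : (permRep 36 6 (by decide)).checkClosure both_gens both_steps both_chain = true := by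
  decide +kernel

theorem left_eq : pairs.map Prod.fst = left_gens := by decide +kernel
theorem right_eq : pairs.map Prod.snd = right_gens := by decide +kernel

theorem card_left : Nat.card (gsub (pairs.map Prod.fst)) = 660 := by
  rw [left_eq]; exact card_gsub left_check (by decide +kernel)

theorem card_right :
    Nat.card (Subgroup.closure (decodeP 12 5 '' {s | s ∈ pairs.map Prod.snd})) = 660 := by
  rw [right_eq]
  exact ((permRep 12 5 (by decide)).card_closure right_check).trans (by decide +kernel)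

theorem exists_iso_image : Nonempty (gsub (pairs.map Prod.fst) ≃*
    Subgroup.closure (decodeP 12 5 '' {s | s ∈ pairs.map Prod.snd})) := by
  obtain ⟨f, hf⟩ := exists_hom (w := 6) (k := 12) (by decide) pairs (by decide +kernel)
    (gens := both_gens) (by decide +kernel) both_check (by decide +kernel) card_left
  haveI : Finite (gsub (pairs.map Prod.fst)) := Nat.finite_of_card_ne_zero (by rw [card_left]; norm_num)
  have hb : Function.Bijective f.rangeRestrict := by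
    refine (Nat.bijective_iff_surjective_and_card _).2 ⟨f.rangeRestrict_surjective, ?_⟩
    rw [card_left, hf, card_right]
  exact ⟨(MulEquiv.ofBijective _ hb).trans (MulEquiv.subgroupCongr hf)⟩

/-- the twelve points as the projective line -/
def optEquiv : Fin 12 ≃ Option (ZMod 11) where
  toFun i := if (i : ℕ) < 11 then some ((i : ℕ) : ZMod 11) else none
  invFun x := x.elim 11 fun z => ⟨z.val, lt_trans z.val_lt (by decide)⟩
  left_inv := by decide +kernel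
  right_inv := by decide +kernel

/-- the same, with the projective line as the target -/
def lineEquiv : Fin 12 ≃ OnePoint (ZMod 11) := optEquiv

/-- the fractional linear map of a matrix -/
def mobFun (a b c d : ZMod 11) : Option (ZMod 11) → Option (ZMod 11)
  | none => if c = 0 then none else some (a * c ^ 9)
  | some x => if c * x + d = 0 then none else some ((a * x + b) * (c * x + d) ^ 9)

open Cfsg.Agent.Lib.SmallGroups.ProjLine in
theorem toPerm_eq_mobFun [Fact (Nat.Prime 11)] (m : Matrix.SpecialLinearGroup (Fin 2) (ZMod 11))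
    (x : OnePoint (ZMod 11)) :
    toPerm m x = mobFun (m.1 0 0) (m.1 0 1) (m.1 1 0) (m.1 1 1) x := by
  have inv9 : ∀ z : ZMod 11, z⁻¹ = z ^ 9 := by decide +kernel +revert
  induction x using OnePoint.rec with
  | infty =>
    rw [toPerm_infty, div_eq_mul_inv, inv9]
    rfl
  | coe z =>
    rw [toPerm_coe, div_eq_mul_inv, inv9]
    rfl

def mat0 : Matrix.SpecialLinearGroup (Fin 2) (ZMod 11) :=
  ⟨!![5, 8; 7, 7], by simp [Matrix.det_fin_two_of]; decide⟩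

def mat1 : Matrix.SpecialLinearGroup (Fin 2) (ZMod 11) :=
  ⟨!![5, 3; 2, 8], by simp [Matrix.det_fin_two_of]; decide⟩

open Cfsg.Agent.Lib.SmallGroups.ProjLine in
theorem image_le [Fact (Nat.Prime 11)] :
    Subgroup.closure (decodeP 12 5 '' {s | s ∈ pairs.map Prod.snd}) ≤
      (toPerm (F := ZMod 11)).range.map lineEquiv.symm.permCongrHom.toMonoidHom := by
  rw [Subgroup.closure_le, right_eq]
  rintro _ ⟨s, hs, rfl⟩
  simp only [right_gens, Set.mem_ofPred_eq, List.mem_cons, List.not_mem_nil, or_false] at hs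
  rcases hs with rfl | rfl
  · refine ⟨toPerm mat0, ⟨_, rfl⟩, ?_⟩
    have key : ∀ i : Fin 12, ((optEquiv.symm (mobFun 5 8 7 7 (optEquiv i)) : Fin 12) : ℕ) =
        getW 5 0x3aca65040311109 i := by decide +kernel +revert
    refine Equiv.ext fun i => Fin.ext ?_
    rw [decodeP_apply (by decide +kernel), ← key i]
    show ((lineEquiv.symm (toPerm mat0 (lineEquiv i)) : Fin 12) : ℕ) = _
    rw [toPerm_eq_mobFun]
    rfl
  · refine ⟨toPerm mat1, ⟨_, rfl⟩, ?_⟩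
    have key : ∀ i : Fin 12, ((optEquiv.symm (mobFun 5 3 2 8 (optEquiv i)) : Fin 12) : ℕ) =
        getW 5 0x41c25580893086a i := by decide +kernel +revert
    refine Equiv.ext fun i => Fin.ext ?_
    rw [decodeP_apply (by decide +kernel), ← key i]
    show ((lineEquiv.symm (toPerm mat1 (lineEquiv i)) : Fin 12) : ℕ) = _
    rw [toPerm_eq_mobFun]
    rfl

open Cfsg.Agent.Lib.SmallGroups.ProjLine in
theorem card_line [Fact (Nat.Prime 11)] :
    Nat.card (toPerm (F := ZMod 11)).range = 660 := by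
  rw [card_range]
  have h := Cfsg.Agent.Lib.Linear.two_mul_card_PSL_two_of_odd (F := ZMod 11) (by rw [ZMod.card]; decide)
  rw [ZMod.card] at h
  omega

open Cfsg.Agent.Lib.SmallGroups.ProjLine in
theorem exists_psl [Fact (Nat.Prime 11)] : Nonempty (gsub (pairs.map Prod.fst) ≃*
    Matrix.ProjectiveSpecialLinearGroup (Fin 2) (ZMod 11)) := by
  obtain ⟨e⟩ := exists_iso_image
  let φ : Equiv.Perm (OnePoint (ZMod 11)) →* Equiv.Perm (Fin 12) :=
    lineEquiv.symm.permCongrHom.toMonoidHom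
  have hφ : Function.Injective φ := lineEquiv.symm.permCongrHom.injective
  let em := (toPerm (F := ZMod 11)).range.equivMapOfInjective φ hφ
  have heq : Subgroup.closure (decodeP 12 5 '' {s | s ∈ pairs.map Prod.snd}) =
      (toPerm (F := ZMod 11)).range.map φ :=
    Subgroup.eq_of_le_of_card_ge image_le
      (by rw [card_right, ← Nat.card_congr em.toEquiv, card_line])
  exact ⟨((e.trans (MulEquiv.subgroupCongr heq)).trans em.symm).trans (rangeEquiv (ZMod 11)).symm⟩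


/-- In the 3-transitive action of the smallest Mathieu group on the complementary dodecad, a point stabiliser is isomorphic to PSL(2, 11). -/
theorem result (d : Finset Cfsg.GolayPt) (hd : d ∈ Cfsg.dodecads) (p q : Cfsg.GolayPt) (hp : p ∈ d) (hq : q ∉ d) : Nonempty (↥(MulAction.stabilizer Cfsg.M24 d ⊓ MulAction.stabilizer Cfsg.M24 p ⊓ MulAction.stabilizer Cfsg.M24 q) ≃* Matrix.ProjectiveSpecialLinearGroup (Fin 2) (ZMod 11)) := by
  obtain ⟨g, hg, hed, hgp, hgq⟩ := norm_mixed hd hp hq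
  obtain ⟨e, -⟩ := exists_equiv_fixes (H := MulAction.stabilizer Cfsg.M24 d ⊓
      MulAction.stabilizer Cfsg.M24 p ⊓ MulAction.stabilizer Cfsg.M24 q) hg
      (ms := [2 ^ xD, 2 ^ pD, dod0]) (fun x => by
    simp only [List.forall_mem_cons, List.not_mem_nil, false_imp_iff, implies_true, and_true,
      conj_fix_point_iff (show xD < 24 by decide) hgq, conj_fix_point_iff (show pD < 24 by decide) hgp,
      ← hed, conj_fix_iff, Subgroup.mem_inf, MulAction.mem_stabilizer_iff, Subgroup.smul_def,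
      Equiv.Perm.smul_def]
    tauto)
  haveI : Fact (Nat.Prime 11) := ⟨by norm_num⟩
  obtain ⟨e'⟩ := exists_psl
  have hgo : gensOk (pairs.map Prod.fst) [2 ^ xD, 2 ^ pD, dod0] = true := by decide +kernel
  exact ⟨e.trans ((MulEquiv.subgroupCongr (gsub_eq_fixes hgo card_left card_le_mixed).symm).trans e')⟩

end Cfsg.Agent.S1601
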