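import Cfsg.Statements.S1602
import Cfsg.Agent.Lib.M24Config.Dodecad

set_option autoImplicit false
open scoped Pointwise
open Cfsg

namespace Cfsg.Agent.S1602

open Cfsg.Agent.Lib.Golay Cfsg.Agent.Lib.SporStruct.Masks Cfsg.Agent.Lib.M24Config
open Cfsg.Agent.Lib.M24Config.DataD Cfsg.Agent.Lib.M24Config.Dodecad
open Cfsg.Agent.Lib.Computation (Level permRep decodeP okPerm decodeP_apply getW)
open scoped Pointwise

def stepPair : Cfsg.Agent.Lib.M24Config.Step where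
  ms := [1, 8245261]
  cs := [0x25473858c2a496c3a12d55ca173e20, 0x25a70a88af70cf44994b406f1931a0]
  n := 66
  packed := 0x820000802000022000800800020800002800800400020400002400000c00800200020200002200000a000006008001000201000021000009000005000003008000800200800020800008800004800002800001808000400200400020400008400004400002400001400000c08000200200200020200008200004200002200001200000a0000060800010020010002010000810000410000210000110000090000050000030800002020002002002000802000402000202000102000082000042000022000012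
  tree := 0x102702e0102902d010350280103b00c010340330102a0260002a0380103c0270003c0290003a01f0100602300002041010030300002b021010070350001e03b0102f0340103d0180100802a0100403c0100f03a0100d0310000d0060001d00b0101500a00013002000110030101202b000120070101703e0103901e0003902f000360200100e03d0000e008000100040003700f0104000d0101c01d0001c0150101401301032011000320120001901701005039000050360102c00e0002c0100101a037010010400000101c000250140101603200016019010220050101b02c0001b01a01024001000240250103f0160003f0220100901b000090240100003f00000009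

/-- generators and their images -/
def pairs : List (ℕ × ℕ) := [(0x43acc9caf480ccf6c4aa59d21a8880, 0x19041), (0x3ceac152f095a2f5250b694c11b880, 0x400c41)]

/-- Generators (order of the group: 120). -/
def left_gens : List Nat := [0x43acc9caf480ccf6c4aa59d21a8880, 0x3ceac152f095a2f5250b694c11b880]

def left_steps : List (Cfsg.Agent.Lib.Computation.Step Nat) := [.mul 0 1,
  .mul 0 2,
  .mul 0 3,
  .mul 4 4,
  .mul 4 5,
  .mul 6 0,
  .mul 0 2,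
  .mul 4 0,
  .mul 0 5,
  .mul 10 10,
  .mul 11 0,
  .mul 0 2,
  .mul 10 9,
  .mul 0 1,
  .mul 0 2,
  .mul 15 16,
  .mul 0 17,
  .mul 11 0,
  .mul 0 3,
  .mul 20 11,
  .mul 0 1,
  .mul 9 0,
  .mul 4 0,
  .mul 3 0,
  .mul 8 15,
  .mul 0 5,
  .mul 0 8,
  .mul 0 10,
  .mul 28 2,
  .mul 0 2,
  .mul 0 12,
  .mul 0 11,
  .mul 12 33,
  .mul 0 2,
  .mul 0 2,
  .mul 6 0,
  .mul 0 8,
  .mul 8 0,
  .mul 10 20,
  .mul 16 27,
  .mul 0 1,
  .mul 0 21,
  .mul 24 0,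
  .mul 0 5,
  .mul 38 44,
  .mul 36 0,
  .mul 0 30,
  .mul 0 14,
  .mul 0 28,
  .mul 15 0,
  .mul 0 21,
  .mul 11 0,
  .mul 2 36,
  .mul 0 24,
  .mul 54 49,
  .mul 0 51,
  .mul 0 55,
  .mul 0 51,
  .mul 0 56,
  .mul 0 56,
  .mul 0 53,
  .mul 0 48,
  .mul 0 52,
  .mul 0 18,
  .mul 0 53,
  .mul 0 57,
  .mul 0 50,
  .mul 0 50,
  .mul 0 59,
  .mul 0 51,
  .mul 0 58,
  .mul 0 57,
  .mul 0 52,
  .mul 0 27,
  .mul 0 27,
  .mul 0 50,
  .mul 0 50,
  .mul 0 62,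
  .mul 0 45,
  .mul 0 50,
  .mul 0 61,
  .mul 0 54,
  .mul 0 34,
  .mul 0 55,
  .mul 0 63,
  .mul 0 55,
  .mul 0 55,
  .mul 0 65,
  .mul 0 54,
  .mul 0 57,
  .mul 0 41,
  .mul 0 56,
  .mul 0 42,
  .mul 0 70,
  .mul 0 58,
  .mul 0 58,
  .mul 0 43,
  .mul 0 57,
  .mul 0 59,
  .mul 0 48,
  .mul 0 46,
  .mul 0 63,
  .mul 0 61,
  .mul 0 51,
  .mul 0 62,
  .mul 0 62,
  .mul 0 62,
  .mul 0 83,
  .inv 108 0x8d4709c94f659743a0b73352170880,
  .mul 0 2,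
  .mul 0 5,
  .mul 1 0,
  .inv 0 0x30dcfb52f0908ac5212b6c4e49d420,
  .mul 0 5,
  .inv 114 0x8d4709c94f659743a0b73352170880,
  .mul 0 9,
  .inv 0 0x68aaf730f0a4ef24a16a898a41d820,
  .mul 0 3]

def left_chain : List (Level Nat) := [
  ⟨1, [0x33a70abd349590c2aa2d3dd6418820, 0x68aaf730f0a4ef24a16a898a41d820, 0xbd872750f064daf52d09894c4a8820, 0x43acc9caf480ccf6c4aa59d21a8880],
    (.node (.node .leaf ⟨1, 0xbdab49ca307b9ac5a928398a418820, 0xbdab49ca307b9ac5a928398a418820, 0, 1, 0⟩ .leaf) ⟨4, 0x43acc9caf480ccf6c4aa59d21a8880, 0x8d4709c94f659743a0b73352170880, 1, 1, 3⟩ .leaf)⟩,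
  ⟨3, [0x33a70abd349590c2aa2d3dd6418820, 0x68aaf730f0a4ef24a16a898a41d820, 0xbd872750f064daf52d09894c4a8820],
    (.node (.node (.node .leaf ⟨2, 0x6d470b3d6ca3912ba4d129d4414c20, 0x5cecf1311493af08954d324e4a8c20, 5, 22, 1⟩ .leaf) ⟨3, 0xbdab49ca307b9ac5a928398a418820, 0xbdab49ca307b9ac5a928398a418820, 0, 3, 0⟩ (.node .leaf ⟨14, 0x34c741422f9554c416e75a5a475820, 0x489d4b3e3280cac3b4cb45d44acc20, 3, 19, 1⟩ .leaf)) ⟨19, 0x3386fb40f465512515b14aee498820, 0x2cdd01b112a592f32ced8dd44a8820, 2, 21, 0⟩ (.node (.node .leaf ⟨21, 0xbd872750f064daf52d09894c4a8820, 0xbd872750f064daf52d09894c4a8820, 1, 3, 2⟩ .leaf) ⟨22, 0xbd470151327cd4c6acc72c504b3820, 0xb8ed2740d47896c53625424e4acc20, 4, 14, 0⟩ .leaf))⟩,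
  ⟨2, [0x33a70abd349590c2aa2d3dd6418820, 0x68aaf730f0a4ef24a16a898a41d820],
    (.node (.node (.node .leaf ⟨2, 0xbdab49ca307b9ac5a928398a418820, 0xbdab49ca307b9ac5a928398a418820, 0, 2, 0⟩ .leaf) ⟨14, 0x40a72b30f4854cf8b4aa4dd641b820, 0x34dd0ad16f609522a0f78b5241d820, 2, 22, 0⟩ .leaf) ⟨19, 0x559cc14a2f854d43dca85b5241cc20, 0x559cc14a2f854d43dca85b5241cc20, 3, 14, 1⟩ (.node (.node .leaf ⟨21, 0x53acc13d32a4ef03996d2a2241d420, 0x6d44f740ac959144de265a8e41cc20, 4, 19, 0⟩ .leaf) ⟨22, 0x68aaf730f0a4ef24a16a898a41d820, 0x68aaf730f0a4ef24a16a898a41d820, 1, 2, 1⟩ .leaf))⟩,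
  ⟨5, [0x33a70abd349590c2aa2d3dd6418820],
    (.node (.node .leaf ⟨5, 0xbdab49ca307b9ac5a928398a418820, 0xbdab49ca307b9ac5a928398a418820, 0, 5, 0⟩ .leaf) ⟨11, 0x33a70abd349590c2aa2d3dd6418820, 0x33a70abd349590c2aa2d3dd6418820, 1, 5, 0⟩ .leaf)⟩]

theorem left_check : (permRep 24 5 (by decide)).checkClosure left_gens left_steps left_chain = true := by
  decide +kernel

/-- Generators (order of the group: 120). -/
def right_gens : List Nat := [0x19041, 0x400c41]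

def right_steps : List (Cfsg.Agent.Lib.Computation.Step Nat) := [.mul 1 1,
  .mul 1 2,
  .mul 3 0,
  .mul 0 2,
  .mul 4 5,
  .mul 0 6,
  .mul 0 7,
  .mul 0 3,
  .mul 9 0,
  .mul 1 2,
  .mul 10 11,
  .mul 0 1,
  .mul 0 3,
  .mul 13 0,
  .mul 5 15,
  .mul 12 15,
  .mul 6 0,
  .mul 0 6,
  .mul 0 3,
  .mul 0 10,
  .mul 9 21,
  .mul 18 0,
  .mul 9 0,
  .mul 9 0,
  .mul 0 2,
  .mul 10 0,
  .mul 0 6,
  .mul 0 13,
  .mul 29 29,
  .mul 30 0,
  .mul 0 20,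
  .mul 25 24,
  .mul 0 1,
  .mul 0 2,
  .mul 12 0,
  .mul 26 0,
  .mul 5 0,
  .mul 15 0,
  .mul 0 7,
  .mul 0 11,
  .mul 0 26,
  .mul 32 3,
  .mul 0 28,
  .mul 20 22,
  .mul 19 35,
  .mul 19 0,
  .mul 32 0,
  .mul 0 3,
  .mul 34 0,
  .mul 5 27,
  .mul 11 0,
  .mul 0 42,
  .mul 30 0,
  .mul 0 4,
  .mul 27 43,
  .mul 0 41,
  .mul 56 54,
  .mul 0 56,
  .mul 0 53,
  .mul 0 56,
  .mul 0 54,
  .mul 0 54,
  .mul 0 58,
  .mul 0 31,
  .mul 0 35,
  .mul 0 49,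
  .mul 0 36,
  .mul 0 59,
  .mul 0 57,
  .mul 0 48,
  .mul 0 60,
  .mul 0 49,
  .mul 0 41,
  .mul 0 40,
  .mul 0 65,
  .mul 0 58,
  .mul 0 58,
  .mul 0 65,
  .mul 0 65,
  .mul 0 45,
  .mul 0 65,
  .mul 0 67,
  .mul 0 47,
  .mul 0 60,
  .mul 0 65,
  .mul 0 41,
  .mul 0 50,
  .mul 0 63,
  .mul 0 63,
  .mul 0 52,
  .mul 0 64,
  .mul 0 46,
  .mul 0 72,
  .mul 0 47,
  .mul 0 67,
  .mul 0 57,
  .mul 0 49,
  .mul 0 49,
  .mul 0 43,
  .mul 0 60,
  .mul 0 50,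
  .mul 0 73,
  .mul 0 46,
  .mul 0 54,
  .mul 0 53,
  .mul 0 65,
  .mul 0 54,
  .mul 0 54,
  .mul 0 54,
  .mul 0 67,
  .mul 0 67,
  .mul 0 70,
  .mul 112 112,
  .inv 0 0x118082,
  .mul 0 2,
  .mul 115 115,
  .mul 117 0,
  .inv 0 0x101043,
  .mul 0 11,
  .inv 0 0x118880,
  .mul 0 5,
  .mul 121 121,
  .inv 0 0x118082,
  .mul 0 14]

def right_chain : List (Level Nat) := [
  ⟨0, [0x320820, 0x219020, 0x118880, 0x19041],
    (.node (.node (.node .leaf ⟨0, 0x418820, 0x418820, 0, 0, 0⟩ .leaf) ⟨1, 0x19041, 0x218404, 1, 0, 3⟩ .leaf) ⟨2, 0x118082, 0x118082, 2, 1, 3⟩ (.node (.node .leaf ⟨3, 0x20443, 0x300444, 3, 4, 0⟩ .leaf) ⟨4, 0x18444, 0x18444, 2, 1, 2⟩ .leaf))⟩,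
  ⟨1, [0x320820, 0x219020, 0x118880],
    (.node (.node (.node .leaf ⟨1, 0x418820, 0x418820, 0, 1, 0⟩ .leaf) ⟨2, 0x119040, 0x218480, 2, 4, 1⟩ .leaf) ⟨3, 0x120860, 0x308880, 2, 4, 0⟩ (.node .leaf ⟨4, 0x118880, 0x118880, 1, 1, 2⟩ .leaf))⟩,
  ⟨2, [0x320820, 0x219020],
    (.node (.node .leaf ⟨2, 0x418820, 0x418820, 0, 2, 0⟩ .leaf) ⟨3, 0x220c20, 0x311020, 2, 4, 0⟩ (.node .leaf ⟨4, 0x219020, 0x219020, 1, 2, 1⟩ .leaf))⟩,
  ⟨3, [0x320820],
    (.node (.node .leaf ⟨3, 0x418820, 0x418820, 0, 3, 0⟩ .leaf) ⟨4, 0x320820, 0x320820, 1, 3, 0⟩ .leaf)⟩]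

theorem right_check : (permRep 5 5 (by decide)).checkClosure right_gens right_steps right_chain = true := by
  decide +kernel

/-- Generators (order of the group: 120). -/
def both_gens : List Nat := [0x18df35943acc9caf480ccf6c4aa59d21a8880, 0x1cc6f593ceac152f095a2f5250b694c11b880]

def both_steps : List (Cfsg.Agent.Lib.Computation.Step Nat) := [.mul 0 1,
  .mul 0 2,
  .mul 0 3,
  .mul 4 4,
  .mul 4 5,
  .mul 6 0,
  .mul 0 2,
  .mul 4 0,
  .mul 0 5,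
  .mul 10 10,
  .mul 11 0,
  .mul 0 2,
  .mul 10 9,
  .mul 0 1,
  .mul 0 2,
  .mul 15 16,
  .mul 0 17,
  .mul 11 0,
  .mul 0 3,
  .mul 20 11,
  .mul 0 1,
  .mul 9 0,
  .mul 4 0,
  .mul 3 0,
  .mul 8 15,
  .mul 0 5,
  .mul 0 8,
  .mul 0 10,
  .mul 28 2,
  .mul 0 2,
  .mul 0 12,
  .mul 0 11,
  .mul 12 33,
  .mul 0 2,
  .mul 0 2,
  .mul 6 0,
  .mul 0 8,
  .mul 8 0,
  .mul 10 20,
  .mul 16 27,
  .mul 0 1,
  .mul 0 21,
  .mul 24 0,
  .mul 0 5,
  .mul 38 44,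
  .mul 36 0,
  .mul 0 30,
  .mul 0 14,
  .mul 0 28,
  .mul 15 0,
  .mul 0 21,
  .mul 11 0,
  .mul 2 36,
  .mul 0 24,
  .mul 54 49,
  .mul 0 51,
  .mul 0 55,
  .mul 0 51,
  .mul 0 56,
  .mul 0 56,
  .mul 0 53,
  .mul 0 48,
  .mul 0 52,
  .mul 0 18,
  .mul 0 53,
  .mul 0 57,
  .mul 0 50,
  .mul 0 50,
  .mul 0 59,
  .mul 0 51,
  .mul 0 58,
  .mul 0 57,
  .mul 0 52,
  .mul 0 27,
  .mul 0 27,
  .mul 0 50,
  .mul 0 50,
  .mul 0 62,
  .mul 0 45,
  .mul 0 50,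
  .mul 0 61,
  .mul 0 54,
  .mul 0 34,
  .mul 0 55,
  .mul 0 63,
  .mul 0 55,
  .mul 0 55,
  .mul 0 65,
  .mul 0 54,
  .mul 0 57,
  .mul 0 41,
  .mul 0 56,
  .mul 0 42,
  .mul 0 70,
  .mul 0 58,
  .mul 0 58,
  .mul 0 43,
  .mul 0 57,
  .mul 0 59,
  .mul 0 48,
  .mul 0 46,
  .mul 0 63,
  .mul 0 61,
  .mul 0 51,
  .mul 0 62,
  .mul 0 62,
  .mul 0 62,
  .mul 0 83,
  .inv 108 0x1ade71c8d4709c94f659743a0b73352170880,
  .mul 0 2,
  .mul 0 5,
  .mul 1 0,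
  .inv 0 0x1cc6f3a30dcfb52f0908ac5212b6c4e49d420,
  .mul 0 5,
  .inv 114 0x1ade71c8d4709c94f659743a0b73352170880,
  .mul 0 9,
  .inv 0 0x1cce37a68aaf730f0a4ef24a16a898a41d820,
  .mul 0 3]

def both_chain : List (Level Nat) := [
  ⟨1, [0x18d6f3c33a70abd349590c2aa2d3dd6418820, 0x1cce37a68aaf730f0a4ef24a16a898a41d820, 0x1cc675bbd872750f064daf52d09894c4a8820, 0x18df35943acc9caf480ccf6c4aa59d21a8880],
    (.node (.node .leaf ⟨1, 0x1cdeb38bdab49ca307b9ac5a928398a418820, 0x1cdeb38bdab49ca307b9ac5a928398a418820, 0, 1, 0⟩ .leaf) ⟨4, 0x18df35943acc9caf480ccf6c4aa59d21a8880, 0x1ade71c8d4709c94f659743a0b73352170880, 1, 1, 3⟩ .leaf)⟩,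
  ⟨3, [0x18d6f3c33a70abd349590c2aa2d3dd6418820, 0x1cce37a68aaf730f0a4ef24a16a898a41d820, 0x1cc675bbd872750f064daf52d09894c4a8820],
    (.node (.node (.node .leaf ⟨2, 0x19d637c6d470b3d6ca3912ba4d129d4414c20, 0x18cef9a5cecf1311493af08954d324e4a8c20, 5, 22, 1⟩ .leaf) ⟨3, 0x1cdeb38bdab49ca307b9ac5a928398a418820, 0x1cdeb38bdab49ca307b9ac5a928398a418820, 0, 3, 0⟩ (.node .leaf ⟨14, 0x1ae6f3834c741422f9554c416e75a5a475820, 0x1bd7338489d4b3e3280cac3b4cb45d44acc20, 3, 19, 1⟩ .leaf)) ⟨19, 0x18e677a3386fb40f465512515b14aee498820, 0x1bce35c2cdd01b112a592f32ced8dd44a8820, 2, 21, 0⟩ (.node (.node .leaf ⟨21, 0x1cc675bbd872750f064daf52d09894c4a8820, 0x1cc675bbd872750f064daf52d09894c4a8820, 1, 3, 2⟩ .leaf) ⟨22, 0x1bc6b3cbd470151327cd4c6acc72c504b3820, 0x18e6b3bb8ed2740d47896c53625424e4acc20, 4, 14, 0⟩ .leaf))⟩,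
  ⟨2, [0x18d6f3c33a70abd349590c2aa2d3dd6418820, 0x1cce37a68aaf730f0a4ef24a16a898a41d820],
    (.node (.node (.node .leaf ⟨2, 0x1cdeb38bdab49ca307b9ac5a928398a418820, 0x1cdeb38bdab49ca307b9ac5a928398a418820, 0, 2, 0⟩ .leaf) ⟨14, 0x18cf35b40a72b30f4854cf8b4aa4dd641b820, 0x1ac677c34dd0ad16f609522a0f78b5241d820, 2, 22, 0⟩ .leaf) ⟨19, 0x1adf319559cc14a2f854d43dca85b5241cc20, 0x1adf319559cc14a2f854d43dca85b5241cc20, 3, 14, 1⟩ (.node (.node .leaf ⟨21, 0x1bd639953acc13d32a4ef03996d2a2241d420, 0x19e6f1a6d44f740ac959144de265a8e41cc20, 4, 19, 0⟩ .leaf) ⟨22, 0x1cce37a68aaf730f0a4ef24a16a898a41d820, 0x1cce37a68aaf730f0a4ef24a16a898a41d820, 1, 2, 1⟩ .leaf))⟩,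
  ⟨5, [0x18d6f3c33a70abd349590c2aa2d3dd6418820],
    (.node (.node .leaf ⟨5, 0x1cdeb38bdab49ca307b9ac5a928398a418820, 0x1cdeb38bdab49ca307b9ac5a928398a418820, 0, 5, 0⟩ .leaf) ⟨11, 0x18d6f3c33a70abd349590c2aa2d3dd6418820, 0x18d6f3c33a70abd349590c2aa2d3dd6418820, 1, 5, 0⟩ .leaf)⟩]

theorem both_check : (permRep 29 5 (by decide)).checkClosure both_gens both_steps both_chain = true := by
  decide +kernel

theorem left_eq : pairs.map Prod.fst = left_gens := by decide +kernel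
theorem right_eq : pairs.map Prod.snd = right_gens := by decide +kernel

theorem card_left : Nat.card (gsub (pairs.map Prod.fst)) = 120 := by
  rw [left_eq]; exact card_gsub left_check (by decide +kernel)

theorem card_right :
    Nat.card (Subgroup.closure (decodeP 5 5 '' {s | s ∈ pairs.map Prod.snd})) = 120 := by
  rw [right_eq]
  exact ((permRep 5 5 (by decide)).card_closure right_check).trans (by decide +kernel)

theorem exists_iso_image : Nonempty (gsub (pairs.map Prod.fst) ≃*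
    Subgroup.closure (decodeP 5 5 '' {s | s ∈ pairs.map Prod.snd})) := by
  obtain ⟨f, hf⟩ := exists_hom (w := 5) (k := 5) (by decide) pairs (by decide +kernel)
    (gens := both_gens) (by decide +kernel) both_check (by decide +kernel) card_left
  haveI : Finite (gsub (pairs.map Prod.fst)) := Nat.finite_of_card_ne_zero (by rw [card_left]; norm_num)
  have hb : Function.Bijective f.rangeRestrict := by
    refine (Nat.bijective_iff_surjective_and_card _).2 ⟨f.rangeRestrict_surjective, ?_⟩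
    rw [card_left, hf, card_right]
  exact ⟨(MulEquiv.ofBijective _ hb).trans (MulEquiv.subgroupCongr hf)⟩

def qPair (m : ℕ) : Bool := Nat.beq (m &&& dod0) 0

theorem stepPair_ok : stepPair.ok ((ksub 24 2).filter qPair) = true := by decide +kernel

theorem card_le_pair : Nat.card (Fixes [2 ^ xD ||| 2 ^ yD, 2 ^ pD, dod0]) ≤ 120 := by
  have key : ∀ a b c : ℕ, a * 66 ≤ b → b ≤ c → c = 7920 → a ≤ 120 := by omega
  refine key _ _ _ ?_ card_le_one rfl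
  exact Step.card_fixes_le (S := stepPair) (l := (ksub 24 2).filter qPair) (b := 2 ^ xD ||| 2 ^ yD) stepPair_ok
    (by decide +kernel) (by decide +kernel) (by decide +kernel)

theorem exists_s5 : Nonempty (gsub (pairs.map Prod.fst) ≃* Equiv.Perm (Fin 5)) := by
  obtain ⟨e⟩ := exists_iso_image
  have htop : Subgroup.closure (decodeP 5 5 '' {s | s ∈ pairs.map Prod.snd}) = ⊤ := by
    refine Subgroup.eq_top_of_card_eq _ ?_
    rw [card_right, Nat.card_eq_fintype_card, Fintype.card_perm, Fintype.card_fin]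
    decide
  exact ⟨(e.trans (MulEquiv.subgroupCongr htop)).trans Subgroup.topEquiv⟩


/-- In the 12-point action of the smallest Mathieu group the setwise stabiliser of a pair is isomorphic to the symmetric group of degree 5. -/
theorem result (d : Finset Cfsg.GolayPt) (hd : d ∈ Cfsg.dodecads) (p q q' : Cfsg.GolayPt) (hp : p ∈ d) (hq : q ∉ d) (hq' : q' ∉ d) (hqq' : q ≠ q') : Nonempty (↥(MulAction.stabilizer Cfsg.M24 d ⊓ MulAction.stabilizer Cfsg.M24 p ⊓ MulAction.stabilizer Cfsg.M24 ({q, q'} : Finset Cfsg.GolayPt)) ≃* Equiv.Perm (Fin 5)) := by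
  obtain ⟨g, hg, hed, hgp, hgq, hgq'⟩ := norm_mixed_two hd hp hq hq' hqq'
  have hpair : g • ({q, q'} : Finset Cfsg.GolayPt) = setOfMask (2 ^ xD ||| 2 ^ yD) := by
    rw [Finset.smul_finset_insert, Finset.smul_finset_singleton, Equiv.Perm.smul_def,
      Equiv.Perm.smul_def, hgq, hgq']
    decide +kernel
  obtain ⟨e, -⟩ := exists_equiv_fixes (H := MulAction.stabilizer Cfsg.M24 d ⊓
      MulAction.stabilizer Cfsg.M24 p ⊓ MulAction.stabilizer Cfsg.M24 ({q, q'} : Finset Cfsg.GolayPt))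
      hg (ms := [2 ^ xD ||| 2 ^ yD, 2 ^ pD, dod0]) (fun x => by
    simp only [List.forall_mem_cons, List.not_mem_nil, false_imp_iff, implies_true, and_true,
      ← hpair, conj_fix_point_iff (show pD < 24 by decide) hgp,
      ← hed, conj_fix_iff, Subgroup.mem_inf, MulAction.mem_stabilizer_iff, Subgroup.smul_def,
      Equiv.Perm.smul_def]
    tauto)
  obtain ⟨e'⟩ := exists_s5
  have hgo : gensOk (pairs.map Prod.fst) [2 ^ xD ||| 2 ^ yD, 2 ^ pD, dod0] = true := by decide +kernel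
  exact ⟨e.trans ((MulEquiv.subgroupCongr (gsub_eq_fixes hgo card_left card_le_pair).symm).trans e')⟩

end Cfsg.Agent.S1602
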