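import Cfsg.Statements.S1603
import Cfsg.Agent.Lib.M24Config.DataM11
import Cfsg.Agent.Lib.M24Config.Conj
import Cfsg.Agent.Lib.M24Config.Dodecad
import Cfsg.Agent.S1598

set_option autoImplicit false
open scoped Pointwise
open Cfsg

namespace Cfsg.Agent.S1603

open Cfsg.Agent.Lib.Golay Cfsg.Agent.Lib.SporStruct.Masks Cfsg.Agent.Lib.M24Config
open Cfsg.Agent.Lib.M24Config.DataD Cfsg.Agent.Lib.M24Config.Dodecad
open Cfsg.Agent.Lib.M24Config.DataM11
open Cfsg.Agent.Lib.Computation (getW mulP decodeP okPerm decodeP_apply permRep)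
open Cfsg.Agent.S1598 (vecPerm vecPerm_injective vecEnc vecDec matOf)

/-- The stabiliser of the base dodecad and a point in it. -/
noncomputable abbrev M11 : Subgroup (Equiv.Perm GolayPt) := Fixes [2 ^ pD, dod0]

theorem gsub_full_eq : gsub full_gens = M11 :=
  (gsub_eq_fixes (by decide +kernel) (card_gsub full_check (by decide +kernel)) card_le_one)

theorem card_M11 : Nat.card M11 = 7920 := by
  rw [← gsub_full_eq]; exact card_gsub full_check (by decide +kernel)

theorem gens_le {cs : List ℕ} (h : gensOk cs [2 ^ pD, dod0] = true) : gsub cs ≤ M11 :=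
  gsub_le_fixes h

/-- The chosen involution. -/
noncomputable def z0 : Equiv.Perm GolayPt := gperm (classList.getD 0 0)

theorem syl_facts : (gensOk sylGens [2 ^ pD, dod0] && listClosed sylGens sylList &&
    gensOk (sylConj.map Prod.snd) [2 ^ pD, dod0] &&
    sylList.all fun a => sameImg a oneCode || !sameImg (mulP 24 5 a a) oneCode ||
      sylConj.any fun sh => Nat.beq sh.1 a && edgeC sh.2 a (classList.getD 0 0)) = true := by
  decide +kernel

theorem syl_card : Nat.card (gsub sylGens) = 16 := by
  rw [show sylGens = syl_gens by decide +kernel]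
  exact card_gsub syl_check (by decide +kernel)

/-- All involutions are conjugate to the chosen one. -/
theorem conj_z0 {x : Equiv.Perm GolayPt} (hx : x ∈ M11) (ho : orderOf x = 2) :
    ∃ k ∈ M11, k * x * k⁻¹ = z0 := by
  have h := syl_facts
  simp only [Bool.and_eq_true, List.all_eq_true, Bool.or_eq_true, List.any_eq_true,
    Bool.not_eq_true', Nat.beq_eq] at h
  obtain ⟨⟨⟨hg, hl⟩, hh⟩, hall⟩ := h
  haveI : Fact (Nat.Prime 2) := ⟨Nat.prime_two⟩
  have hv : (7920 : ℕ).factorization 2 = 4 := by
    rw [Nat.factorization_def _ Nat.prime_two,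
      show (7920 : ℕ) = 2 ^ 4 * 495 from rfl, padicValNat.mul (by norm_num) (by norm_num),
      padicValNat.prime_pow, padicValNat.eq_zero_of_not_dvd (by norm_num)]
  obtain ⟨k, hk, hkx⟩ := exists_conj_mem (p := 2) (gens_le hg)
    (by rw [syl_card, card_M11, hv]; norm_num) hx (n := 1) (by rw [ho, pow_one])
  obtain ⟨a, ha, hae⟩ := gsub_subset_list hl hkx
  have hok : ∀ s ∈ sylList, okCode s = true := by decide +kernel
  have h1 : okCode oneCode = true := by decide +kernel
  have ho' : orderOf (gperm a) = 2 := by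
    rw [hae, ← ho, ← MulAut.conj_apply, MulEquiv.orderOf_eq]
  have hp2 : gperm a * gperm a = 1 := by
    have := pow_orderOf_eq_one (gperm a)
    rwa [ho', sq] at this
  have hne : gperm a ≠ 1 := fun e => by rw [e, orderOf_one] at ho'; omega
  obtain ⟨⟨s, h'⟩, hs, hsa, hedge⟩ : ∃ sh ∈ sylConj, sh.1 = a ∧
      edgeC sh.2 a (classList.getD 0 0) = true := by
    rcases hall a ha with (e | e) | e
    · exact absurd (((sameImg_iff (hok a ha) h1).1 e).trans gperm_oneCode) hne
    · have := (sameImg_iff (okCode_mulP (hok a ha) (hok a ha)) h1).2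
        (by rw [gperm_mul (hok a ha) (hok a ha), hp2, gperm_oneCode])
      exact absurd this (by simp [e])
    · exact e
  have hm : h' ∈ sylConj.map Prod.snd := List.mem_map.2 ⟨(s, h'), hs, rfl⟩
  have hok' : ∀ c ∈ sylConj.map Prod.snd, okCode c = true := by decide +kernel
  refine ⟨gperm h' * k, mul_mem (gens_le hh (gperm_mem_gsub hm)) hk, ?_⟩
  rw [z0, ← edgeC_mul (hok' _ hm) hedge, hae]
  group

theorem pairs_facts : (gensOk (pairs.map Prod.fst) [2 ^ pD, dod0] &&
    (pairs.map Prod.fst).all (fun c => sameImg (mulP 24 5 c (classList.getD 0 0))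
      (mulP 24 5 (classList.getD 0 0) c)) &&
    okCode (classList.getD 0 0) && (pairs.map Prod.fst).all okCode) = true := by decide +kernel

theorem cent_card : Nat.card (gsub (pairs.map Prod.fst)) = 48 := by
  rw [show pairs.map Prod.fst = cent_gens by decide +kernel]
  exact card_gsub cent_check (by decide +kernel)

theorem class_facts : (orbitOk edgeC full_gens (fun i => classList.getD i 0) 165 classTree &&
    full_gens.all okCode && gensOk [classList.getD 0 0] [2 ^ pD, dod0] &&
    (List.range 165).all fun i => okCode (classList.getD i 0) && (List.range i).all fun j =>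
      !sameImg (classList.getD i 0) (classList.getD j 0)) = true := by decide +kernel

/-- The centraliser of the chosen involution. -/
theorem exists_cent_equiv {x : M11} (hx : (x : Equiv.Perm GolayPt) = z0) :
    Nonempty (Subgroup.centralizer ({x} : Set M11) ≃* gsub (pairs.map Prod.fst)) := by
  have h := class_facts
  simp only [Bool.and_eq_true, List.all_eq_true, List.mem_range, Bool.not_eq_true'] at h
  obtain ⟨⟨⟨ht, hok⟩, -⟩, hd⟩ := h
  have hle := card_centralizer_mul_le (le_of_eq gsub_full_eq) (List.all_eq_true.2 hok) ht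
    (fun i hi j hj e => by
      by_contra hne
      rcases Nat.lt_or_gt_of_ne hne with l | l
      · have := (sameImg_iff (hd j hj).1 (hd i hi).1).2 e.symm
        rw [(hd j hj).2 i l] at this; cases this
      · have := (sameImg_iff (hd i hi).1 (hd j hj).1).2 e
        rw [(hd i hi).2 j l] at this; cases this) (by norm_num) (x := x) hx
  rw [card_M11] at hle
  have h' := pairs_facts
  simp only [Bool.and_eq_true] at h'
  obtain ⟨⟨⟨hg, hcomm⟩, hz⟩, hp⟩ := h'
  rw [List.all_eq_true] at hcomm hp
  have hG : gsub (pairs.map Prod.fst) ≤ (Subgroup.centralizer ({x} : Set M11)).map M11.subtype := by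
    rw [gsub, Subgroup.closure_le]
    rintro _ ⟨c, hc, rfl⟩
    refine ⟨⟨gperm c, gens_le hg (gperm_mem_gsub hc)⟩, ?_, rfl⟩
    rw [SetLike.mem_coe, Subgroup.mem_centralizer_singleton_iff]
    have := (sameImg_iff (okCode_mulP (hp c hc) hz) (okCode_mulP hz (hp c hc))).1 (hcomm c hc)
    rw [gperm_mul (hp c hc) hz, gperm_mul hz (hp c hc)] at this
    apply Subtype.ext
    show gperm c * (x : Equiv.Perm GolayPt) = x * gperm c
    rw [hx]; exact this
  have he := Subgroup.eq_of_le_of_card_ge hG (by
    rw [Subgroup.card_map_of_injective M11.subtype_injective, cent_card]; omega)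
  exact ⟨((Subgroup.centralizer ({x} : Set M11)).equivMapOfInjective M11.subtype
    M11.subtype_injective).trans (MulEquiv.subgroupCongr he.symm)⟩

theorem img_card :
    Nat.card (Subgroup.closure (decodeP 8 5 '' {s | s ∈ pairs.map Prod.snd})) = 48 := by
  rw [show pairs.map Prod.snd = img_gens by decide +kernel]
  exact ((permRep 8 5 (by decide)).card_closure img_check).trans (by decide +kernel)

theorem matches_check : ∀ j : Fin 2, ∀ i : Fin 8,
    (vecEnc ((matOf (mats.getD j (0, 0, 0, 0))).mulVec (vecDec i)) : ℕ) =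
      getW 5 ((pairs.map Prod.snd).getD j 0) i := by decide +kernel

theorem det_check : ∀ j : Fin 2, (matOf (mats.getD j (0, 0, 0, 0))).det ≠ 0 := by decide +kernel

theorem image_eq [Fact (Nat.Prime 3)] :
    Subgroup.closure (decodeP 8 5 '' {s | s ∈ pairs.map Prod.snd}) = vecPerm.range := by
  refine Subgroup.eq_of_le_of_card_ge ?_ ?_
  · rw [Subgroup.closure_le]
    rintro _ ⟨s, hs, rfl⟩
    obtain ⟨j, hj, rfl⟩ := List.getElem_of_mem hs
    have hlen : (pairs.map Prod.snd).length = 2 := rfl
    have hj2 : j < 2 := hlen ▸ hj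
    have hu : IsUnit (matOf (mats.getD j (0, 0, 0, 0))) :=
      (Matrix.isUnit_iff_isUnit_det _).2 (isUnit_iff_ne_zero.2 (det_check ⟨j, hj2⟩))
    refine ⟨hu.unit, ?_⟩
    have hok : ∀ s ∈ pairs.map Prod.snd, okPerm 8 5 s = true := by decide +kernel
    refine Equiv.ext fun i => Fin.ext ?_
    rw [decodeP_apply (hok _ (List.getElem_mem hj))]
    have := matches_check ⟨j, hj2⟩ i
    simp only [List.getD_eq_getElem _ _ hj] at this
    exact this
  · rw [img_card, ← Nat.card_congr (MonoidHom.ofInjective vecPerm_injective).toEquiv,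
      Cfsg.Agent.Lib.Linear.card_GL_two, ZMod.card]
    norm_num

theorem cent_equiv_GL [Fact (Nat.Prime 3)] :
    Nonempty (gsub (pairs.map Prod.fst) ≃* GL (Fin 2) (ZMod 3)) := by
  obtain ⟨f, hf⟩ := exists_hom (w := 5) (k := 8) (by decide) pairs (by decide +kernel)
    (gens := both_gens) (by decide +kernel) both_check (by decide +kernel) cent_card
  have hb : Function.Bijective f.rangeRestrict := by
    refine (Nat.bijective_iff_surjective_and_card _).2 ⟨f.rangeRestrict_surjective, ?_⟩
    rw [cent_card, hf, img_card]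
  rw [image_eq] at hf
  exact ⟨(MulEquiv.ofBijective _ hb).trans ((MulEquiv.subgroupCongr hf).trans
    (MonoidHom.ofInjective vecPerm_injective).symm)⟩

/-- An isomorphism maps centralisers to centralisers. -/
theorem map_centralizer {A B : Type*} [Group A] [Group B] (e : A ≃* B) (a : A) :
    (Subgroup.centralizer ({a} : Set A)).map (e : A →* B) = Subgroup.centralizer {e a} := by
  ext y
  constructor
  · rintro ⟨u, hu, rfl⟩
    rw [SetLike.mem_coe, Subgroup.mem_centralizer_singleton_iff] at hu
    rw [Subgroup.mem_centralizer_singleton_iff]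
    show e u * e a = e a * e u
    rw [← map_mul, hu, map_mul]
  · intro hy
    refine ⟨e.symm y, ?_, e.apply_symm_apply y⟩
    rw [Subgroup.mem_centralizer_singleton_iff] at hy
    rw [SetLike.mem_coe, Subgroup.mem_centralizer_singleton_iff]
    apply e.injective
    simpa using hy

/-- Involution centralisers in the smallest Mathieu group are isomorphic to GL(2, 3). -/
theorem result (d : Finset Cfsg.GolayPt) (hd : d ∈ Cfsg.dodecads) (p : Cfsg.GolayPt) (hp : p ∈ d) (x : ↥(MulAction.stabilizer Cfsg.M24 d ⊓ MulAction.stabilizer Cfsg.M24 p)) (hx : orderOf x = 2) : Nonempty (↥(Subgroup.centralizer ({x} : Set ↥(MulAction.stabilizer Cfsg.M24 d ⊓ MulAction.stabilizer Cfsg.M24 p))) ≃* GL (Fin 2) (ZMod 3)) := by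
  haveI : Fact (Nat.Prime 3) := ⟨by norm_num⟩
  obtain ⟨g, hg, hed, hgp⟩ := norm_one hd hp
  obtain ⟨e, -⟩ := exists_equiv_fixes (H := MulAction.stabilizer Cfsg.M24 d ⊓
      MulAction.stabilizer Cfsg.M24 p) hg (ms := [2 ^ pD, dod0]) (fun y => by
    simp only [List.forall_mem_cons, List.not_mem_nil, false_imp_iff, implies_true, and_true,
      conj_fix_point_iff (show pD < 24 by decide) hgp,
      ← hed, conj_fix_iff, Subgroup.mem_inf, MulAction.mem_stabilizer_iff, Subgroup.smul_def,
      Equiv.Perm.smul_def]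
    tauto)
  have ho : orderOf ((e x : M11) : Equiv.Perm Cfsg.GolayPt) = 2 := by
    rw [Subgroup.orderOf_coe, MulEquiv.orderOf_eq, hx]
  obtain ⟨k, hk, hkx⟩ := conj_z0 (e x).2 ho
  let c : M11 ≃* M11 := MulAut.conj ⟨k, hk⟩
  let e' := e.trans c
  obtain ⟨i1⟩ := exists_cent_equiv (x := e' x) (by
    show k * ((e x : M11) : Equiv.Perm Cfsg.GolayPt) * k⁻¹ = z0
    exact hkx)
  obtain ⟨i2⟩ := cent_equiv_GL
  exact ⟨(e'.subgroupMap (Subgroup.centralizer _)).trans
    ((MulEquiv.subgroupCongr (map_centralizer e' x)).trans (i1.trans i2))⟩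

end Cfsg.Agent.S1603
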