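import Cfsg.Statements.S1604
import Cfsg.Agent.Lib.M24Config.Octad

set_option autoImplicit false
open scoped Pointwise
open Cfsg

namespace Cfsg.Agent.S1604

open Cfsg.Agent.Lib.Golay Cfsg.Agent.Lib.SporStruct.Masks Cfsg.Agent.Lib.M24Config
open Cfsg.Agent.Lib.M24Config.DataA Cfsg.Agent.Lib.M24Config.Octad
open scoped Pointwise

/-- the property in the base configuration -/
def Base (s : Finset GolayPt) : Prop := pt pA ∈ s ∧ pt qA ∈ s

/-- the same on masks -/
def qBase (m : ℕ) : Bool := m.testBit pA && m.testBit qA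

theorem base_iff (m : ℕ) : Base (setOfMask m) ↔ qBase m = true := by
  simp [Base, qBase, idx_pt (show pA < 24 by decide), idx_pt (show qA < 24 by decide),
    idx_pt (show xA < 24 by decide)]

def qMeet (k m : ℕ) : Bool := qBase m && Nat.beq (pc24 (oct0 &&& m)) k

theorem meet_iff (k m : ℕ) :
    (Base (setOfMask m) ∧ (setOfMask oct0 ∩ setOfMask m).card = k) ↔ qMeet k m = true := by
  rw [← setOfMask_and, card_setOfMask, base_iff, qMeet, Bool.and_eq_true, Nat.beq_eq]

theorem count (k : ℕ) :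
    {s | s ∈ octads ∧ Base s ∧ (setOfMask oct0 ∩ s).card = k}.ncard =
      ((masksOfWeight 8).filter (qMeet k)).length :=
  ncard_weight fun m _ => meet_iff k m


theorem two_ok : stepPQ2.ok ((masksOfWeight 8).filter (qMeet 2)) = true := by decide +kernel
theorem four_ok : stepPQ4.ok ((masksOfWeight 8).filter (qMeet 4)) = true := by decide +kernel
theorem self_only : (masksOfWeight 8).filter (qMeet 8) = [oct0] := by decide +kernel
theorem meet_cases : ((masksOfWeight 8).filter qBase).all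
    (fun m => [2, 4, 8].contains (pc24 (oct0 &&& m))) = true := by decide +kernel

theorem count_two : ((masksOfWeight 8).filter (qMeet 2)).length = 16 := by decide +kernel
theorem count_four : ((masksOfWeight 8).filter (qMeet 4)).length = 60 := by decide +kernel


/-- A hexad stabiliser in the two-point stabiliser has orbits of sizes 1, 16, 60 on the 77 hexads: the 16 hexads disjoint from it and the 60 meeting it in two points. -/
theorem result (p q : Cfsg.GolayPt) (hpq : p ≠ q) (o o' o'' : Finset Cfsg.GolayPt) (ho : o ∈ Cfsg.octads) (ho' : o' ∈ Cfsg.octads) (ho'' : o'' ∈ Cfsg.octads) (hp : p ∈ o ∧ p ∈ o' ∧ p ∈ o'') (hq : q ∈ o ∧ q ∈ o' ∧ q ∈ o'') (h : (o ∩ o').card = (o ∩ o'').card) : {x : Finset Cfsg.GolayPt | x ∈ Cfsg.octads ∧ p ∈ x ∧ q ∈ x ∧ (o ∩ x).card = 2}.ncard = 16 ∧ {x : Finset Cfsg.GolayPt | x ∈ Cfsg.octads ∧ p ∈ x ∧ q ∈ x ∧ (o ∩ x).card = 4}.ncard = 60 ∧ ∃ g : Equiv.Perm Cfsg.GolayPt, g ∈ Cfsg.M24 ∧ g p = p ∧ g q = q ∧ g • o = o ∧ g • o'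 = o'' := by
  obtain ⟨g, hg, heo, hgp, hgq⟩ := norm_pair ho hp.1 hq.1 hpq
  have tr : ∀ k x, (x ∈ Cfsg.octads ∧ p ∈ x ∧ q ∈ x ∧ (o ∩ x).card = k) ↔
      (g • x ∈ Cfsg.octads ∧ Base (g • x) ∧ (setOfMask oct0 ∩ (g • x)).card = k) := by
    intro k x
    rw [smul_mem_octads_iff hg, Base, ← hgp, ← hgq, mem_smul_iff', mem_smul_iff', ← heo,
      inter_card_smul]
    simp only [and_assoc]
  have cnt : ∀ k, {x : Finset Cfsg.GolayPt | x ∈ Cfsg.octads ∧ p ∈ x ∧ q ∈ x ∧
      (o ∩ x).card = k}.ncard = ((masksOfWeight 8).filter (qMeet k)).length := by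
    intro k
    rw [← count, ← ncard_comp_smul g fun s => s ∈ Cfsg.octads ∧ Base s ∧ (setOfMask oct0 ∩ s).card = k]
    exact congrArg Set.ncard (Set.ext fun x => tr k x)
  refine ⟨(cnt 2).trans count_two, (cnt 4).trans count_four, ?_⟩
  have h' := (tr _ o').1 ⟨ho', hp.2.1, hq.2.1, rfl⟩
  have h'' := (tr _ o'').1 ⟨ho'', hp.2.2, hq.2.2, h.symm⟩
  have m' := mask_weight_mem (Q := fun s => Base s ∧ (setOfMask oct0 ∩ s).card = (o ∩ o').card)
    (fun m _ => meet_iff _ m) h'.1 h'.2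
  have m'' := mask_weight_mem (Q := fun s => Base s ∧ (setOfMask oct0 ∩ s).card = (o ∩ o').card)
    (fun m _ => meet_iff _ m) h''.1 h''.2
  have hk : (o ∩ o').card ∈ [2, 4, 8] := by
    have hb := mask_weight_mem (Q := Base) (fun m _ => base_iff m) h'.1 h'.2.1
    have := List.all_eq_true.1 meet_cases _ hb
    rwa [List.contains_iff_mem, ← card_inter_eq' h'.2.2] at this
  have main : ∃ f ∈ Fixes [2 ^ qA, 2 ^ pA, oct0], f • (g • o') = g • o'' := by
    simp only [List.mem_cons, List.not_mem_nil, or_false] at hk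
    rcases hk with hk | hk | hk <;> rw [hk] at m' m''
    · obtain ⟨f, hf, he⟩ := Step.transitive two_ok m' m''
      rw [setOfMask_maskOfSet, setOfMask_maskOfSet] at he
      exact ⟨f, hf, he⟩
    · obtain ⟨f, hf, he⟩ := Step.transitive four_ok m' m''
      rw [setOfMask_maskOfSet, setOfMask_maskOfSet] at he
      exact ⟨f, hf, he⟩
    · rw [self_only, List.mem_singleton] at m' m''
      exact ⟨1, Subgroup.one_mem _, by rw [one_smul]; exact maskOfSet_injective (m'.trans m''.symm)⟩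
  obtain ⟨f, hf, he⟩ := main
  refine ⟨g⁻¹ * f * g, Subgroup.mul_mem _ (Subgroup.mul_mem _ (Subgroup.inv_mem _ hg)
    (fixes_le_M24 _ hf)) hg, ?_, ?_, ?_, ?_⟩
  · simp only [Equiv.Perm.mul_apply, hgp, fixes_point hf (show pA < 24 by decide) (by simp),
      Equiv.Perm.inv_eq_iff_eq, hgp]
  · simp only [Equiv.Perm.mul_apply, hgq, fixes_point hf (show qA < 24 by decide) (by simp),
      Equiv.Perm.inv_eq_iff_eq, hgq]
  · rw [mul_smul, mul_smul, heo, hf.2 oct0 (by simp), ← heo, inv_smul_smul]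
  · rw [mul_smul, mul_smul, he, inv_smul_smul]

end Cfsg.Agent.S1604
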