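import Cfsg.Statements.S1605
import Cfsg.Agent.Lib.M24Config.Octad

set_option autoImplicit false
open scoped Pointwise
open Cfsg

namespace Cfsg.Agent.S1605

open Cfsg.Agent.Lib.Golay Cfsg.Agent.Lib.SporStruct.Masks Cfsg.Agent.Lib.M24Config
open Cfsg.Agent.Lib.M24Config.DataA Cfsg.Agent.Lib.M24Config.Octad
open scoped Pointwise

/-- the property in the base configuration -/
def Base (s : Finset GolayPt) : Prop := pt pA ∈ s ∧ pt xA ∉ s

/-- the same on masks -/
def qBase (m : ℕ) : Bool := m.testBit pA && !m.testBit xA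

theorem base_iff (m : ℕ) : Base (setOfMask m) ↔ qBase m = true := by
  simp [Base, qBase, idx_pt (show pA < 24 by decide), idx_pt (show qA < 24 by decide),
    idx_pt (show xA < 24 by decide)]

def qMeet (k m : ℕ) : Bool := qBase m && Nat.beq (pc24 (oct0 &&& m)) k

theorem meet_iff (k m : ℕ) :
    (Base (setOfMask m) ∧ (setOfMask oct0 ∩ setOfMask m).card = k) ↔ qMeet k m = true := by
  rw [← setOfMask_and, card_setOfMask, base_iff, qMeet, Bool.and_eq_true, Nat.beq_eq]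

theorem count (k : ℕ) :
    {s | s ∈ octads ∧ Base s ∧ (setOfMask oct0 ∩ s).card = k}.ncard =
      ((masksOfWeight 8).filter (qMeet k)).length :=
  ncard_weight fun m _ => meet_iff k m

theorem two_ok : stepPX2.ok ((masksOfWeight 8).filter (qMeet 2)) = true := by decide +kernel
theorem count_two : ((masksOfWeight 8).filter (qMeet 2)).length = 70 := by decide +kernel
theorem four_ok : stepPX4.ok ((masksOfWeight 8).filter (qMeet 4)) = true := by decide +kernel
theorem count_four : ((masksOfWeight 8).filter (qMeet 4)).length = 105 := by decide +kernel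
theorem meet_cases : ((masksOfWeight 8).filter qBase).all
    (fun m => [2, 4, 8].contains (pc24 (oct0 &&& m))) = true := by decide +kernel
theorem self_only : (masksOfWeight 8).filter (qMeet 8) = [oct0] := by decide +kernel
theorem count_all : ((masksOfWeight 8).filter qBase).length = 176 := by decide +kernel

theorem stepPQ_mem {p q : GolayPt} {o : Finset GolayPt} (ho : o ∈ octads) (hp : p ∈ o) (hq : q ∉ o) :
    ∃ g ∈ M24, g • o = setOfMask oct0 ∧ g p = pt pA ∧ g q = pt xA :=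
  norm_mixed ho hp hq

theorem exists_avoiding {p q : GolayPt} (hpq : p ≠ q) : ∃ o ∈ octads, p ∈ o ∧ q ∉ o := by
  have key : ∀ i : Fin 24, ∀ j : Fin 24, i ≠ j →
      (masksOfWeight 8).any (fun m => m.testBit i && !m.testBit j) = true := by decide +kernel
  have h := key ⟨idx p, idx_lt p⟩ ⟨idx q, idx_lt q⟩
    (fun e => hpq (idx_injective (Fin.mk.inj_iff.1 e)))
  rw [List.any_eq_true] at h
  obtain ⟨m, hm, hb⟩ := h
  simp only [Bool.and_eq_true, Bool.not_eq_true'] at hb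
  exact ⟨setOfMask m, setOfMask_mem_weight hm, mem_setOfMask.2 hb.1, by simp [hb.2]⟩


/-- The two-point stabiliser acts on the 176 octads through the first point avoiding the second with rank 3 and subdegrees 1, 70, 105 (intersections 8, 2, 4). -/
theorem result (p q : Cfsg.GolayPt) (hpq : p ≠ q) : {x : Finset Cfsg.GolayPt | (x ∈ Cfsg.octads ∧ p ∈ x ∧ q ∉ x)}.ncard = 176 ∧ (∀ o o' : Finset Cfsg.GolayPt, (o ∈ Cfsg.octads ∧ p ∈ o ∧ q ∉ o) → (o' ∈ Cfsg.octads ∧ p ∈ o' ∧ q ∉ o') → ∃ g : Equiv.Perm Cfsg.GolayPt, g ∈ Cfsg.M24 ∧ g p = p ∧ g q = q ∧ g • o = o') ∧ ∀ o : Finset Cfsg.GolayPt, (o ∈ Cfsg.octads ∧ p ∈ o ∧ q ∉ o) → {x : Finset Cfsg.GolayPt | (x ∈ Cfsg.octads ∧ p ∈ x ∧ q ∉ x) ∧ (o ∩ x).card = 2}.ncard = 70 ∧ {x : Finset Cfsg.GolayPt | (x ∈ Cfsg.octads ∧ p ∈ x ∧ q ∉ x) ∧ (o ∩ x).card = 4}.ncard = 105 ∧ ∀ o' o'' : Finset Cfsg.GolayPt, (o' ∈ Cfsg.octads ∧ p ∈ o' ∧ q ∉ o') → (o'' ∈ Cfsg.octads ∧ p ∈ o'' ∧ q ∉ o'') → (o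 ∩ o').card = (o ∩ o'').card → ∃ g : Equiv.Perm Cfsg.GolayPt, g ∈ Cfsg.M24 ∧ g p = p ∧ g q = q ∧ g • o = o ∧ g • o' = o'' := by
  obtain ⟨o₁, ho₁, hpo₁, hqo₁⟩ := exists_avoiding hpq
  refine ⟨?_, ?_, ?_⟩
  · obtain ⟨g, hg, -, hgp, hgq⟩ := stepPQ_mem ho₁ hpo₁ hqo₁
    rw [← count_all, ← ncard_weight (n := 8) (Q := Base) (fun m _ => base_iff m),
      ← ncard_comp_smul g fun s => s ∈ wordsOfWeight (Cfsg.golayCode : Set (Cfsg.GolayPt → ZMod 2)) 8 ∧ Base s]
    refine congrArg Set.ncard (Set.ext fun y => ?_)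
    show _ ↔ g • y ∈ Cfsg.octads ∧ Base (g • y)
    rw [smul_mem_octads_iff hg, Base, ← hgp, ← hgq, mem_smul_iff', mem_smul_iff']
    rfl
  · rintro o o' ⟨ho, hpo, hqo⟩ ⟨ho', hpo', hqo'⟩
    obtain ⟨a, ha, hao, hap, haq⟩ := stepPQ_mem ho hpo hqo
    obtain ⟨b, hb, hbo, hbp, hbq⟩ := stepPQ_mem ho' hpo' hqo'
    refine ⟨b⁻¹ * a, Subgroup.mul_mem _ (Subgroup.inv_mem _ hb) ha, ?_, ?_, ?_⟩
    · rw [Equiv.Perm.mul_apply, hap, ← hbp, Equiv.Perm.inv_eq_iff_eq]
    · rw [Equiv.Perm.mul_apply, haq, ← hbq, Equiv.Perm.inv_eq_iff_eq]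
    · rw [mul_smul, hao, ← hbo, inv_smul_smul]
  intro o ho
  obtain ⟨g, hg, heo, hgp, hgq⟩ := stepPQ_mem ho.1 ho.2.1 ho.2.2
  have tr : ∀ k y, ((y ∈ Cfsg.octads ∧ p ∈ y ∧ q ∉ y) ∧ (o ∩ y).card = k) ↔
      (g • y ∈ Cfsg.octads ∧ Base (g • y) ∧ (setOfMask oct0 ∩ (g • y)).card = k) := by
    intro k y
    rw [smul_mem_octads_iff hg, Base, ← hgp, ← hgq, mem_smul_iff', mem_smul_iff', ← heo,
      inter_card_smul]
    simp only [and_assoc]
  have cnt : ∀ k, {y : Finset Cfsg.GolayPt | (y ∈ Cfsg.octads ∧ p ∈ y ∧ q ∉ y) ∧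
      (o ∩ y).card = k}.ncard = ((masksOfWeight 8).filter (qMeet k)).length := by
    intro k
    rw [← count, ← ncard_comp_smul g fun s => s ∈ Cfsg.octads ∧ Base s ∧ (setOfMask oct0 ∩ s).card = k]
    exact congrArg Set.ncard (Set.ext fun y => tr k y)
  refine ⟨(cnt 2).trans count_two, (cnt 4).trans count_four, ?_⟩
  intro o' o'' hy' hy'' h
  have h' := (tr _ o').1 ⟨hy', rfl⟩
  have h'' := (tr _ o'').1 ⟨hy'', h.symm⟩
  have m' := mask_weight_mem (Q := fun s => Base s ∧ (setOfMask oct0 ∩ s).card = (o ∩ o').card)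
    (fun m _ => meet_iff _ m) h'.1 h'.2
  have m'' := mask_weight_mem (Q := fun s => Base s ∧ (setOfMask oct0 ∩ s).card = (o ∩ o').card)
    (fun m _ => meet_iff _ m) h''.1 h''.2
  have hk : (o ∩ o').card ∈ [2, 4, 8] := by
    have hb := mask_weight_mem (Q := Base) (fun m _ => base_iff m) h'.1 h'.2.1
    have := List.all_eq_true.1 meet_cases _ hb
    rwa [List.contains_iff_mem, ← card_inter_eq' h'.2.2] at this
  have main : ∃ f ∈ Fixes [2 ^ xA, 2 ^ pA, oct0], f • (g • o') = g • o'' := by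
    simp only [List.mem_cons, List.not_mem_nil, or_false] at hk
    rcases hk with hk | hk | hk <;> rw [hk] at m' m''
    · exact Step.transitive_sets₂ two_ok m' m''
    · exact Step.transitive_sets₂ four_ok m' m''
    · rw [self_only, List.mem_singleton] at m' m''
      exact ⟨1, Subgroup.one_mem _, by rw [one_smul]; exact maskOfSet_injective (m'.trans m''.symm)⟩
  obtain ⟨f, hf, he⟩ := main
  refine ⟨g⁻¹ * f * g, conj_mem hg hf, conj_point hgp (fixes_point hf (show pA < 24 by decide) (by simp)),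
    conj_point hgq (fixes_point hf (show xA < 24 by decide) (by simp)), conj_set ?_, conj_set he⟩
  rw [heo, hf.2 oct0 (by simp)]

end Cfsg.Agent.S1605
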