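import Cfsg.Statements.S1606
import Cfsg.Agent.Lib.MathieuBlocks.M22Degree
import Cfsg.Agent.Lib.MathieuBlocks.M22Local
import Cfsg.Agent.Lib.Golay.Stabilizers

set_option autoImplicit false
open scoped Pointwise
open Cfsg

namespace Cfsg.Agent.S1606

open Cfsg.Agent.Lib.Computation Cfsg.Agent.Lib.Golay
open Cfsg.Agent.Lib.FusionAlperin.MathieuInst Cfsg.Agent.Lib.MathieuBlocks.Search
open Cfsg.Agent.Lib.MathieuBlocks.M22Elements

def tC : ℕ := 961438487862802151075401656472045760

def posB : List (ℕ × ℕ) := [(4, 0), (5, 0), (0, 0), (1, 0), (2, 0), (2, 1), (6, 0), (2, 2), (2, 4), (1, 1), (0, 2), (3, 0), (3, 2), (3, 1), (1, 4), (2, 3), (0, 1), (0, 3), (0, 4), (3, 4), (1, 2), (1, 3), (3, 3), (7, 0)]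

theorem elemT : (in22 x11 && in22 w11 && in22 tC && Nat.beq (pwCode w11 5) oneCode &&
    Nat.beq (pwCode x11 11) oneCode && !Nat.beq (getW 5 x11 1) 1 && !Nat.beq (getW 5 w11 2) 2 &&
    Nat.beq (mulP 24 5 w11 x11) (mulP 24 5 (pwCode x11 3) w11) &&
    Nat.beq (mulP 24 5 tC w11) (mulP 24 5 (pwCode w11 2) tC) &&
    Nat.beq (pwCode (mulP 24 5 tC (mulP 24 5 x11 x11)) 7) oneCode &&
    !Nat.beq (getW 5 (mulP 24 5 tC (mulP 24 5 x11 x11)) 1) 1) = true := by decide +kernel

theorem centB : certOk w11 w11 5 [2, 3, 4, 11, 0, 1, 6, 23] posB [2, 3, 4, 11] [0, 23]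
    (fun c => Nat.beq c oneCode) = true := by decide +kernel

/-- Elements normalising a cyclic group of prime order with cyclic centraliser. -/
theorem normalizer_le {G : Type*} [Group G] [Finite G] {x w : G} {q r m : ℕ}
    (hc : ∀ u, u * x = x * u → u ∈ Subgroup.zpowers x) (hw : w * x * w⁻¹ = x ^ m)
    (hx : orderOf x = q) (hq : 0 < q) (hex : ∀ u : G, ∀ k < q, u * x * u⁻¹ = x ^ k →
      ∃ i < r, k = m ^ i % q) {u : G} (hu : u ∈ Subgroup.normalizer (Subgroup.zpowers x : Set G)) :
    ∃ i < r, ∃ j < q, u = w ^ i * x ^ j := by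
  classical
  have h1 : u * x * u⁻¹ ∈ Subgroup.zpowers x :=
    (Subgroup.mem_normalizer_iff.1 hu x).1 (Subgroup.mem_zpowers x)
  rw [mem_zpowers_iff_mem_range_orderOf, Finset.mem_image] at h1
  obtain ⟨k, hk, he⟩ := h1
  rw [Finset.mem_range, hx] at hk
  obtain ⟨i, hi, hki⟩ := hex u k hk he.symm
  have hwi : ∀ n : ℕ, w ^ n * x * (w ^ n)⁻¹ = x ^ (m ^ n) := by
    intro n
    induction n with
    | zero => simp
    | succ n ih =>
      rw [pow_succ', show w * w ^ n * x * (w * w ^ n)⁻¹ = w * (w ^ n * x * (w ^ n)⁻¹) * w⁻¹ by group,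
        ih, ← conj_pow, hw, ← pow_mul, pow_succ' m]
  have e2 : x ^ k = x ^ (m ^ i) := by rw [hki, ← hx, pow_mod_orderOf]
  have hcm : (w ^ i)⁻¹ * u * x = x * ((w ^ i)⁻¹ * u) := by
    have e : u * x = w ^ i * x * (w ^ i)⁻¹ * u := by
      rw [hwi, ← e2, he, inv_mul_cancel_right]
    rw [mul_assoc, e]; group
  have h2 := hc _ hcm
  rw [mem_zpowers_iff_mem_range_orderOf, Finset.mem_image] at h2
  obtain ⟨j, hj, hje⟩ := h2
  rw [Finset.mem_range, hx] at hj
  exact ⟨i, hi, j, hj, by rw [hje, mul_inv_cancel_left]⟩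

/-- The number of conjugates of the subgroup of order `q` forces the whole normaliser into `H`. -/
theorem forced {G : Type*} [Group G] [Finite G] {x w : G} {q r m n : ℕ} [Fact q.Prime]
    (hc : ∀ u, u * x = x * u → u ∈ Subgroup.zpowers x) (hw : w * x * w⁻¹ = x ^ m)
    (hx : orderOf x = q) (hex : ∀ u : G, ∀ k < q, u * x * u⁻¹ = x ^ k →
      ∃ i < r, k = m ^ i % q) {H : Subgroup G} (hH : Nat.card H = n) (hn : ¬ q * q ∣ n)
    (hxH : x ∈ H) :
    (∃ d, d * q ≤ r * q ∧ d * q ∣ n ∧ n / (d * q) % q = 1 ∧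
      (d = r → ∀ u ∈ Subgroup.normalizer (Subgroup.zpowers x : Set G), u ∈ H)) := by
  classical
  have hq : 0 < q := (Fact.out : q.Prime).pos
  set N := Subgroup.normalizer (Subgroup.zpowers x : Set G) with hN
  let x' : H := ⟨x, hxH⟩
  have hx' : orderOf x' = q := by rw [← hx]; exact (Subgroup.orderOf_coe x').symm
  have hdvd : q ∣ n := by rw [← hH, ← hx']; exact orderOf_dvd_natCard _
  have hn0 : n ≠ 0 := by rw [← hH]; exact Nat.card_pos.ne'
  have hf : n.factorization q = 1 := by
    refine le_antisymm ?_ ((Fact.out : q.Prime).factorization_pos_of_dvd hn0 hdvd)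
    by_contra hgt
    apply hn
    rw [← sq]
    exact dvd_trans (pow_dvd_pow q (by omega)) (Nat.ordProj_dvd n q)
  let S : Sylow q H := Sylow.ofCard (Subgroup.zpowers x') (by
    rw [Nat.card_zpowers, hx', hH, hf, pow_one])
  have hnorm : Subgroup.normalizer ((S : Subgroup H) : Set H) = N.subgroupOf H := by
    have hz : ∀ y : H, y ∈ (S : Subgroup H) ↔ (y : G) ∈ Subgroup.zpowers x := fun y => by
      show y ∈ Subgroup.zpowers x' ↔ _
      simp only [Subgroup.mem_zpowers_iff, Subtype.ext_iff, SubgroupClass.coe_zpow, x']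
    ext u
    rw [Subgroup.mem_subgroupOf, hN, Subgroup.mem_normalizer_iff, Subgroup.mem_normalizer_iff]
    constructor
    · intro h g
      constructor
      · intro hg
        exact (hz _).1 ((h ⟨g, (Subgroup.zpowers_le.2 hxH) hg⟩).1 ((hz _).2 hg))
      · intro hg
        have hgH : g ∈ H := by
          have := mul_mem (mul_mem (inv_mem u.2) ((Subgroup.zpowers_le.2 hxH) hg)) u.2
          simpa [mul_assoc] using this
        exact (hz ⟨g, hgH⟩).1 ((h ⟨g, hgH⟩).2 ((hz _).2 hg))
    · intro h y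
      rw [hz, hz]
      exact h (y : G)
  have hS1 : Nat.card (Sylow q H) = (N.subgroupOf H).index :=
    (Sylow.card_eq_index_normalizer S).trans (congrArg Subgroup.index hnorm)
  have hS2 : Nat.card (Sylow q H) % q = 1 := by
    have := card_sylow_modEq_one q H
    rwa [Nat.ModEq, Nat.mod_eq_of_lt (Fact.out : q.Prime).one_lt] at this
  set c := Nat.card (N.subgroupOf H) with hcdef
  have hc1 : c * (N.subgroupOf H).index = n := by rw [hcdef, Subgroup.card_mul_index, hH]
  have hqc : q ∣ c := by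
    have hxN : x' ∈ N.subgroupOf H := by
      rw [Subgroup.mem_subgroupOf]
      exact Subgroup.le_normalizer (Subgroup.mem_zpowers x)
    rw [hcdef, ← hx', show orderOf x' = orderOf (⟨x', hxN⟩ : N.subgroupOf H) from
      (Subgroup.orderOf_coe (⟨x', hxN⟩ : N.subgroupOf H))]
    exact orderOf_dvd_natCard _
  let f : Fin r × Fin q → G := fun p => w ^ (p.1 : ℕ) * x ^ (p.2 : ℕ)
  have hsub : (N : Set G) ⊆ Set.range f := fun u hu => by
    obtain ⟨i, hi, j, hj, e⟩ := normalizer_le hc hw hx hq hex hu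
    exact ⟨(⟨i, hi⟩, ⟨j, hj⟩), e.symm⟩
  have hNle : Nat.card N ≤ r * q := by
    refine le_trans (Nat.card_mono (Set.finite_range f) hsub) ?_
    refine le_trans (Finite.card_range_le f) ?_
    simp
  let K := (N.subgroupOf H).map H.subtype
  have hKN : K ≤ N := by rintro _ ⟨y, hy, rfl⟩; exact hy
  have hKc : Nat.card K = c := Subgroup.card_map_of_injective H.subtype_injective
  have hle : c ≤ r * q := by
    rw [← hKc]; exact (Subgroup.card_le_of_le hKN).trans hNle
  obtain ⟨d, hd⟩ := hqc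
  have hc' : d * q = c := by rw [hd]; ring
  refine ⟨d, hc' ▸ hle, hc' ▸ ⟨_, hc1.symm⟩, ?_, fun hdr u hu => ?_⟩
  · rw [hc', ← hc1, Nat.mul_div_cancel_left _ Nat.card_pos, ← hS1, hS2]
  · have e : K = N := Subgroup.eq_of_le_of_card_ge hKN (by rw [hKc, ← hc', hdr]; exact hNle)
    have : u ∈ K := e.symm ▸ hu
    obtain ⟨y, -, rfl⟩ := this
    exact y.2

theorem key (H : Subgroup Spor.M22) : H.index ≠ 56 ∧ H.index ≠ 210 := by
  have hE := elemT
  simp only [Bool.and_eq_true, Bool.not_eq_true', Nat.beq_eq] at hE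
  obtain ⟨⟨⟨⟨⟨⟨⟨⟨⟨⟨hxm, hwm⟩, htm⟩, hw5⟩, hx11⟩, hx1⟩, hw1⟩, hwx⟩, htw⟩, h7⟩, h71⟩ := hE
  have ok : ∀ {c}, in22 c = true → okCode c = true := fun {c} hc => okCode_of_inM24 (by
    simp only [in22, in23, Bool.and_eq_true] at hc; exact hc.1.1)
  let a : Spor.M22 := ⟨gperm x11, mem22 _ hxm⟩
  let b : Spor.M22 := ⟨gperm w11, mem22 _ hwm⟩
  let t : Spor.M22 := ⟨gperm tC, mem22 _ htm⟩
  haveI : Fact (Nat.Prime 11) := ⟨by norm_num⟩
  haveI : Fact (Nat.Prime 5) := ⟨by norm_num⟩
  haveI : Fact (Nat.Prime 7) := ⟨by norm_num⟩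
  have moved : ∀ {c i : ℕ} {q : ℕ} [Fact q.Prime] (y : Spor.M22), okCode c = true →
      (y : Equiv.Perm GolayPt) = gperm c → i < 24 → Nat.beq (getW 5 c i) i = false →
      Nat.beq (pwCode c q) oneCode = true → orderOf y = q := by
    intro c i q _ y hc hy hi hm hp
    refine orderOf_eq_prime (Subtype.ext ?_) ?_
    · rw [SubmonoidClass.coe_pow, hy, ← (pwCode_spec hc q).2, Nat.eq_of_beq_eq_true hp,
        gperm_oneCode]; rfl
    · intro e
      rw [← Bool.not_eq_true, Nat.beq_eq] at hm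
      apply hm
      have e' : gperm c (pt i) = pt i := by
        rw [← hy, e]; rfl
      have e2 := congrArg idx e'
      rwa [idx_gperm hc, idx_pt hi] at e2
  have ha : orderOf a = 11 := moved (i := 1) (q := 11) a (ok hxm) rfl (by norm_num) hx1
    (by rw [Nat.beq_eq]; exact hx11)
  have hb : orderOf b = 5 := moved (i := 2) (q := 5) b (ok hwm) rfl (by norm_num) hw1
    (by rw [Nat.beq_eq]; exact hw5)
  have conjEq : ∀ {u v : Spor.M22} {c d k : ℕ}, okCode c = true → okCode d = true →
      (u : Equiv.Perm GolayPt) = gperm c → (v : Equiv.Perm GolayPt) = gperm d →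
      mulP 24 5 c d = mulP 24 5 (pwCode d k) c → u * v * u⁻¹ = v ^ k := by
    intro u v c d k hc hd hu hv he
    rw [mul_inv_eq_iff_eq_mul]
    apply Subtype.ext
    rw [Subgroup.coe_mul, Subgroup.coe_mul, SubmonoidClass.coe_pow, hu, hv,
      ← (pwCode_spec hd k).2, ← gperm_mul hc hd, he, gperm_mul (pwCode_spec hd k).1 hc]
  have hab : b * a * b⁻¹ = a ^ 3 := conjEq (ok hwm) (ok hxm) rfl rfl hwx
  have hbt : t * b * t⁻¹ = b ^ 2 := conjEq (ok htm) (ok hwm) rfl rfl htw
  have centA : ∀ u, u * a = a * u → u ∈ Subgroup.zpowers a := fun u hu => by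
    obtain ⟨k, hk⟩ := eq_pow_of_cert cent11 a.2 u.2 (congrArg Subtype.val hu)
    exact ⟨k, Subtype.ext (by simp [a, hk])⟩
  have centB' : ∀ u, u * b = b * u → u ∈ Subgroup.zpowers b := fun u hu => by
    obtain ⟨k, hk⟩ := eq_pow_of_cert centB b.2 u.2 (congrArg Subtype.val hu)
    exact ⟨k, Subtype.ext (by simp [b, hk])⟩
  have hinv : ∀ u : Spor.M22, u * a * u⁻¹ ≠ a ^ 10 := by
    intro u he
    rw [mul_inv_eq_iff_eq_mul] at he
    have hu' := congrArg Subtype.val he
    rw [Subgroup.coe_mul, Subgroup.coe_mul, SubmonoidClass.coe_pow] at hu'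
    have hu'' : (u : Equiv.Perm GolayPt) * gperm x11 = gperm (pwCode x11 10) * u := by
      rw [(pwCode_spec (ok hxm) _).2]; exact hu'
    obtain ⟨k, v, -, hv⟩ := cert_spec noInv11
      (by rw [(pwCode_spec (ok hxm) _).2]; exact pow_mem a.2 _) u.2 hu''
    exact absurd hv (by simp)
  have conjIter : ∀ (u : Spor.M22) (k : ℕ), u * a * u⁻¹ = a ^ k → ∀ n : ℕ,
      u ^ n * a * (u ^ n)⁻¹ = a ^ (k ^ n % 11) := by
    intro u k he n
    rw [← ha, pow_mod_orderOf]
    induction n with
    | zero => simp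
    | succ n ih =>
      rw [pow_succ', show u * u ^ n * a * (u * u ^ n)⁻¹ = u * (u ^ n * a * (u ^ n)⁻¹) * u⁻¹ by group,
        ih, ← conj_pow, he, ← pow_mul, pow_succ' k]
  have exA : ∀ u : Spor.M22, ∀ k < 11, u * a * u⁻¹ = a ^ k → ∃ i < 5, k = 3 ^ i % 11 := by
    intro u k hk he
    have h5 := conjIter u k he 5
    have hne : k ^ 5 % 11 ≠ 10 := fun e => hinv (u ^ 5) (by rw [h5, e])
    have hk0 : k ≠ 0 := by
      rintro rfl
      rw [pow_zero, mul_inv_eq_one] at he
      have : a = 1 := by simpa using he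
      rw [this, orderOf_one] at ha; omega
    interval_cases k <;> first | omega | decide +kernel | simp at hne
  have exB : ∀ u : Spor.M22, ∀ k < 5, u * b * u⁻¹ = b ^ k → ∃ i < 4, k = 2 ^ i % 5 := by
    intro u k hk he
    have hk0 : k ≠ 0 := by
      rintro rfl
      rw [pow_zero, mul_inv_eq_one] at he
      have : b = 1 := by simpa using he
      rw [this, orderOf_one] at hb; omega
    interval_cases k <;> first | omega | decide +kernel
  have hcard : Nat.card Spor.M22 = 443520 := card22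
  have main : ∀ n, Nat.card H = n → (n = 2112 ∨ n = 7920) → False := by
    intro n hn hcases
    have h11 : 11 ∣ Nat.card H := by rw [hn]; rcases hcases with rfl | rfl <;> norm_num
    obtain ⟨y, hy⟩ := exists_prime_orderOf_dvd_card' 11 h11
    -- a conjugate of `H` containing `a`
    have hf : (Nat.card Spor.M22).factorization 11 = 1 := by
      rw [hcard, show (443520 : ℕ) = 11 ^ 1 * 40320 by norm_num, Nat.factorization_mul (by norm_num)
        (by norm_num), Finsupp.add_apply, Nat.Prime.factorization_pow (by norm_num),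
        Finsupp.single_eq_same, Nat.factorization_eq_zero_of_not_dvd (by norm_num : ¬ 11 ∣ 40320)]
    let A : Sylow 11 Spor.M22 := Sylow.ofCard (Subgroup.zpowers a) (by
      rw [Nat.card_zpowers, ha, hf, pow_one])
    let Y : Sylow 11 Spor.M22 := Sylow.ofCard (Subgroup.zpowers (y : Spor.M22)) (by
      rw [Nat.card_zpowers, Subgroup.orderOf_coe, hy, hf, pow_one])
    obtain ⟨g, hg⟩ := MulAction.exists_smul_eq Spor.M22 Y A
    let H' := H.map (MulAut.conj g).toMonoidHom
    have hn' : Nat.card H' = n := by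
      rw [Subgroup.card_map_of_injective (MulAut.conj g).injective, hn]
    have haH : a ∈ H' := by
      have ha' : a ∈ (A : Subgroup Spor.M22) := Subgroup.mem_zpowers a
      rw [← hg, Sylow.coe_subgroup_smul] at ha'
      obtain ⟨z, hz, e⟩ := ha'
      exact ⟨z, Subgroup.zpowers_le.2 y.2 hz, e⟩
    obtain ⟨d, hd1, hd2, hd3, hd4⟩ := forced (r := 5) centA hab ha exA hn'
      (by rcases hcases with rfl | rfl <;> norm_num) haH
    rcases hcases with rfl | rfl
    · have : d ≤ 5 := by omega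
      interval_cases d <;> simp at hd2 hd3
    have hd5 : d = 5 := by
      have : d ≤ 5 := by omega
      interval_cases d <;> first | rfl | simp at hd2 hd3
    have hbN : b ∈ Subgroup.normalizer (Subgroup.zpowers a : Set Spor.M22) := by
      refine Subgroup.mem_normalizer_iff.2 ?_
      have hmap : (Subgroup.zpowers a).map (MulAut.conj b).toMonoidHom = Subgroup.zpowers a := by
        refine Subgroup.eq_of_le_of_card_ge ?_ ?_
        · rw [MonoidHom.map_zpowers]
          refine Subgroup.zpowers_le.2 ⟨3, ?_⟩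
          simp [MulAut.conj_apply, hab]
        · rw [Subgroup.card_map_of_injective (MulAut.conj b).injective]
      intro z
      conv_rhs => rw [← hmap, Subgroup.mem_map_equiv]
      simp [MulAut.conj_symm_apply, mul_assoc]
    have hbH : b ∈ H' := hd4 hd5 b hbN
    obtain ⟨e, he1, he2, he3, he4⟩ := forced (r := 4) centB' hbt hb exB hn' (by norm_num) hbH
    have he5 : e = 4 := by
      have : e ≤ 4 := by omega
      interval_cases e <;> first | rfl | simp at he2 he3
    have htN : t ∈ Subgroup.normalizer (Subgroup.zpowers b : Set Spor.M22) := by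
      refine Subgroup.mem_normalizer_iff.2 ?_
      have hmap : (Subgroup.zpowers b).map (MulAut.conj t).toMonoidHom = Subgroup.zpowers b := by
        refine Subgroup.eq_of_le_of_card_ge ?_ ?_
        · rw [MonoidHom.map_zpowers]
          refine Subgroup.zpowers_le.2 ⟨2, ?_⟩
          simp [MulAut.conj_apply, hbt]
        · rw [Subgroup.card_map_of_injective (MulAut.conj t).injective]
      intro z
      conv_rhs => rw [← hmap, Subgroup.mem_map_equiv]
      simp [MulAut.conj_symm_apply, mul_assoc]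
    have htH : t ∈ H' := he4 he5 t htN
    have hword : orderOf (t * (a * a)) = 7 := moved (i := 1) (q := 7) (t * (a * a))
      (okCode_mulP (ok htm) (okCode_mulP (ok hxm) (ok hxm)))
      (by rw [Subgroup.coe_mul, Subgroup.coe_mul, gperm_mul (ok htm) (okCode_mulP (ok hxm) (ok hxm)),
        gperm_mul (ok hxm) (ok hxm)])
      (by norm_num) h71 (by rw [Nat.beq_eq]; exact h7)
    have hw7 : orderOf (⟨t * (a * a), mul_mem htH (mul_mem haH haH)⟩ : H') ∣ Nat.card H' :=
      orderOf_dvd_natCard _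
    rw [← Subgroup.orderOf_coe, hn', hword] at hw7
    norm_num at hw7
  have hi := Subgroup.card_mul_index H
  rw [hcard] at hi
  constructor <;> intro h <;> rw [h] at hi
  · exact main _ rfl (Or.inr (by omega))
  · exact main _ rfl (Or.inl (by omega))

/-- The stabiliser of two points in the group of the length-24 code has no subgroups of index 56 or 210. -/
theorem result (p q : Cfsg.GolayPt) (hpq : p ≠ q) (H : Subgroup ↥(MulAction.stabilizer Cfsg.M24 p ⊓ MulAction.stabilizer Cfsg.M24 q)) : H.index ≠ 56 ∧ H.index ≠ 210 := by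
  obtain ⟨g, hg, gp, gq⟩ := Cfsg.Agent.Lib.Golay.exists_map_two hpq
    (show (none : Cfsg.GolayPt) ≠ some 0 by simp)
  let f : ↥(MulAction.stabilizer Cfsg.M24 p ⊓ MulAction.stabilizer Cfsg.M24 q) →*
      Equiv.Perm Cfsg.GolayPt :=
    (MulAut.conj g).toMonoidHom.comp (Cfsg.M24.subtype.comp (Subgroup.subtype _))
  have hf : Function.Injective f :=
    (MulAut.conj g).injective.comp (Subtype.coe_injective.comp Subtype.coe_injective)
  have hr : f.range = Spor.M22 := by
    ext y
    rw [Cfsg.Agent.Lib.MathieuBlocks.M22Local.mem_M22_iff]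
    constructor
    · rintro ⟨x, rfl⟩
      obtain ⟨hxp, hxq⟩ := x.2
      have e1 : (x.1 : Equiv.Perm Cfsg.GolayPt) p = p := hxp
      have e2 : (x.1 : Equiv.Perm Cfsg.GolayPt) q = q := hxq
      refine ⟨mul_mem (mul_mem hg x.1.2) (inv_mem hg), ?_, ?_⟩
      · show g ((x.1 : Equiv.Perm Cfsg.GolayPt) (g⁻¹ none)) = none
        rw [show g⁻¹ none = p by rw [← gp]; simp, e1, gp]
      · show g ((x.1 : Equiv.Perm Cfsg.GolayPt) (g⁻¹ (some 0))) = some 0
        rw [show g⁻¹ (some 0) = q by rw [← gq]; simp, e2, gq]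
    · rintro ⟨hy, h1, h2⟩
      refine ⟨⟨⟨g⁻¹ * y * g, mul_mem (mul_mem (inv_mem hg) hy) hg⟩, ?_, ?_⟩, ?_⟩
      · show g⁻¹ (y (g p)) = p
        rw [gp, h1, ← gp]; simp
      · show g⁻¹ (y (g q)) = q
        rw [gq, h2, ← gq]; simp
      · show g * (g⁻¹ * y * g) * g⁻¹ = y
        group
  let e := (MonoidHom.ofInjective hf).trans (MulEquiv.subgroupCongr hr)
  have := key (H.map e.toMonoidHom)
  rwa [show (H.map e.toMonoidHom).index = H.index from Subgroup.index_map_equiv H e] at this

end Cfsg.Agent.S1606
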