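import Cfsg.Statements.S1607
import Cfsg.Agent.Lib.M24Config.Octad

set_option autoImplicit false
open scoped Pointwise
open Cfsg

namespace Cfsg.Agent.S1607

open Cfsg.Agent.Lib.Golay Cfsg.Agent.Lib.SporStruct.Masks Cfsg.Agent.Lib.M24Config
open Cfsg.Agent.Lib.M24Config.DataA Cfsg.Agent.Lib.M24Config.Octad
open scoped Pointwise

/-- the property in the base configuration -/
def Base (s : Finset GolayPt) : Prop := pt pA ∈ s

/-- the same on masks -/
def qBase (m : ℕ) : Bool := m.testBit pA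

theorem base_iff (m : ℕ) : Base (setOfMask m) ↔ qBase m = true := by
  simp [Base, qBase, idx_pt (show pA < 24 by decide), idx_pt (show qA < 24 by decide),
    idx_pt (show xA < 24 by decide)]

def qMeet (k m : ℕ) : Bool := qBase m && Nat.beq (pc24 (oct0 &&& m)) k

theorem meet_iff (k m : ℕ) :
    (Base (setOfMask m) ∧ (setOfMask oct0 ∩ setOfMask m).card = k) ↔ qMeet k m = true := by
  rw [← setOfMask_and, card_setOfMask, base_iff, qMeet, Bool.and_eq_true, Nat.beq_eq]

theorem count (k : ℕ) :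
    {s | s ∈ octads ∧ Base s ∧ (setOfMask oct0 ∩ s).card = k}.ncard =
      ((masksOfWeight 8).filter (qMeet k)).length :=
  ncard_weight fun m _ => meet_iff k m

theorem two_ok : stepP2.ok ((masksOfWeight 8).filter (qMeet 2)) = true := by decide +kernel
theorem count_two : ((masksOfWeight 8).filter (qMeet 2)).length = 112 := by decide +kernel
theorem four_ok : stepP4.ok ((masksOfWeight 8).filter (qMeet 4)) = true := by decide +kernel
theorem count_four : ((masksOfWeight 8).filter (qMeet 4)).length = 140 := by decide +kernel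
theorem meet_cases : ((masksOfWeight 8).filter qBase).all
    (fun m => [2, 4, 8].contains (pc24 (oct0 &&& m))) = true := by decide +kernel
theorem self_only : (masksOfWeight 8).filter (qMeet 8) = [oct0] := by decide +kernel


/-- The point stabiliser acts on the 253 heptads of its S(4, 7, 23) with rank 3 and subdegrees 1, 112, 140 (intersections 8, 2, 4). -/
theorem result (x : Cfsg.GolayPt) (o : Finset Cfsg.GolayPt) (ho : o ∈ Cfsg.octads) (hx : x ∈ o) : {o' : Finset Cfsg.GolayPt | o' ∈ Cfsg.octads ∧ x ∈ o' ∧ (o ∩ o').card = 2}.ncard = 112 ∧ {o' : Finset Cfsg.GolayPt | o' ∈ Cfsg.octads ∧ x ∈ o' ∧ (o ∩ o').card = 4}.ncard = 140 ∧ ∀ o' o'' : Finset Cfsg.GolayPt, o' ∈ Cfsg.octads → o'' ∈ Cfsg.octads → x ∈ o' → x ∈ o'' → (o ∩ o').card = (o ∩ o'').card → ∃ g : Equiv.Perm Cfsg.GolayPt, g ∈ Cfsg.M24 ∧ g x = x ∧ g • o = o ∧ g • o' = o'' := by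
  obtain ⟨g, hg, heo, hgp⟩ := norm_inside ho hx
  have tr : ∀ k y, (y ∈ Cfsg.octads ∧ x ∈ y ∧ (o ∩ y).card = k) ↔
      (g • y ∈ Cfsg.octads ∧ Base (g • y) ∧ (setOfMask oct0 ∩ (g • y)).card = k) := by
    intro k y
    rw [smul_mem_octads_iff hg, Base, ← hgp, mem_smul_iff', ← heo, inter_card_smul]
  have cnt : ∀ k, {y : Finset Cfsg.GolayPt | y ∈ Cfsg.octads ∧ x ∈ y ∧ (o ∩ y).card = k}.ncard =
      ((masksOfWeight 8).filter (qMeet k)).length := by
    intro k
    rw [← count, ← ncard_comp_smul g fun s => s ∈ Cfsg.octads ∧ Base s ∧ (setOfMask oct0 ∩ s).card = k]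
    exact congrArg Set.ncard (Set.ext fun y => tr k y)
  refine ⟨(cnt 2).trans count_two, (cnt 4).trans count_four, ?_⟩
  intro o' o'' ho' ho'' hx' hx'' h
  have h' := (tr _ o').1 ⟨ho', hx', rfl⟩
  have h'' := (tr _ o'').1 ⟨ho'', hx'', h.symm⟩
  have m' := mask_weight_mem (Q := fun s => Base s ∧ (setOfMask oct0 ∩ s).card = (o ∩ o').card)
    (fun m _ => meet_iff _ m) h'.1 h'.2
  have m'' := mask_weight_mem (Q := fun s => Base s ∧ (setOfMask oct0 ∩ s).card = (o ∩ o').card)
    (fun m _ => meet_iff _ m) h''.1 h''.2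
  have hk : (o ∩ o').card ∈ [2, 4, 8] := by
    have hb := mask_weight_mem (Q := Base) (fun m _ => base_iff m) h'.1 h'.2.1
    have := List.all_eq_true.1 meet_cases _ hb
    rwa [List.contains_iff_mem, ← card_inter_eq' h'.2.2] at this
  have main : ∃ f ∈ Fixes [2 ^ pA, oct0], f • (g • o') = g • o'' := by
    simp only [List.mem_cons, List.not_mem_nil, or_false] at hk
    rcases hk with hk | hk | hk <;> rw [hk] at m' m''
    · exact Step.transitive_sets₂ two_ok m' m''
    · exact Step.transitive_sets₂ four_ok m' m''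
    · rw [self_only, List.mem_singleton] at m' m''
      exact ⟨1, Subgroup.one_mem _, by rw [one_smul]; exact maskOfSet_injective (m'.trans m''.symm)⟩
  obtain ⟨f, hf, he⟩ := main
  refine ⟨g⁻¹ * f * g, conj_mem hg hf, conj_point hgp (fixes_point hf (show pA < 24 by decide) (by simp)),
    conj_set ?_, conj_set he⟩
  rw [heo, hf.2 oct0 (by simp)]

end Cfsg.Agent.S1607
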