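import Cfsg.Statements.S1609
import Cfsg.Agent.S1606
import Cfsg.Agent.Lib.M24Classes.Classes
import Cfsg.Agent.Lib.FusionAlperin.M22Data
import Cfsg.Agent.Lib.Golay.Steiner

set_option autoImplicit false
open scoped Pointwise
open Cfsg

namespace Cfsg.Agent.S1609

open Cfsg.Agent.Lib Cfsg.Agent.Lib.Computation Cfsg.Agent.Lib.Golay
open Cfsg.Agent.Lib.FusionAlperin.MathieuInst Cfsg.Agent.Lib.FusionAlperin.MathieuCert
open Cfsg.Agent.Lib.MathieuBlocks.Search Cfsg.Agent.Lib.MathieuBlocks.M22Elements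
open Cfsg.Agent.Lib.M24Classes

/-- The listed group. -/
theorem groupOk22 : groupOk in22 FusionAlperin.M22Data.gens FusionAlperin.M22Data.els = true := by
  decide +kernel

theorem card_els : (FusionAlperin.M22Data.els.map Prod.fst).length = 2 ^ 7 := by decide +kernel

/-- Representatives of the orbits of the listed group. -/
def reps : List ℕ := [0, 1, 2, 15, 23]

/-- The representative of the orbit of a point. -/
def rep (i : ℕ) : ℕ :=
  if i = 0 then 0 else if i = 23 then 23 else if i = 15 ∨ i = 17 then 15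
  else if i = 1 ∨ i = 13 ∨ i = 18 ∨ i = 19 then 1 else 2

theorem rep_spec : ((List.range 24).all fun i =>
    (FusionAlperin.M22Data.els.map Prod.fst).any fun c => Nat.beq (getW 5 c (rep i)) i) = true := by
  decide +kernel

/-- An invariant set containing the point `some 0`, not containing `none`. -/
noncomputable def candSet (f1 f2 f15 : Bool) : Finset GolayPt :=
  Finset.univ.filter fun p => rep (idx p) = 0 ∨ (rep (idx p) = 1 ∧ f1 = true) ∨
    (rep (idx p) = 2 ∧ f2 = true) ∨ (rep (idx p) = 15 ∧ f15 = true)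

theorem candSet_card : ∀ f1 f2 f15 : Bool, (Finset.univ.filter fun p : GolayPt =>
    rep (idx p) = 0 ∨ (rep (idx p) = 1 ∧ f1 = true) ∨ (rep (idx p) = 2 ∧ f2 = true) ∨
      (rep (idx p) = 15 ∧ f15 = true)).card = 1 + cond f1 4 0 + cond f2 16 0 + cond f15 2 0 := by
  decide +kernel

theorem rep_cases : ∀ p : GolayPt, p ≠ none →
    rep (idx p) = 0 ∨ rep (idx p) = 1 ∨ rep (idx p) = 2 ∨ rep (idx p) = 15 := by decide +kernel

theorem rep_idem : ∀ p : GolayPt, p ≠ none → pt (rep (idx p)) ≠ none := by decide +kernel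

theorem duad_eq : ({pt 15, pt 17} : Finset GolayPt) =
    (Finset.univ.erase none).filter fun p => ¬(rep (idx p) = 0 ∨ (rep (idx p) = 1 ∧ true = true) ∨
      (rep (idx p) = 2 ∧ true = true) ∨ (rep (idx p) = 15 ∧ false = true)) := by decide +kernel

/-- The octad through the fixed points. -/
theorem heptad_eq : setOfMask 9347075 = insert none (Finset.univ.filter fun p : GolayPt =>
    rep (idx p) = 0 ∨ (rep (idx p) = 1 ∧ true = true) ∨ (rep (idx p) = 2 ∧ false = true) ∨
      (rep (idx p) = 15 ∧ true = true)) := by decide +kernel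

theorem heptad_code : (inCode 9347075 && Nat.beq (pc24 9347075) 8) = true := by decide +kernel

theorem sevenNums : (Nat.beq (Coset.fixNum Data.r7) 3 && Nat.beq (Coset.fixNum Data.r7b) 3) = true := by
  decide +kernel

/-- An element of order 7 fixes three points. -/
theorem fixCnt_seven {s : Equiv.Perm GolayPt} (hs : s ∈ M24) (h7 : orderOf s = 7) :
    Classes.fixCnt s = 3 := by
  obtain ⟨⟨⟨_, ha⟩, hb⟩, -⟩ : _ ∧ _ := by
    simpa only [Bool.and_eq_true] using Classes.class7_ok
  have hn := sevenNums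
  simp only [Bool.and_eq_true, Nat.beq_eq] at hn
  obtain ⟨m, -, e | e⟩ := Classes.seven_conj hs h7 <;> rw [e, Classes.fixCnt_conj, Classes.fixCnt]
  · rw [Coset.card_fixed (okCode_of_inM24 ha), hn.1]
  · rw [Coset.card_fixed (okCode_of_inM24 hb), hn.2]

/-- A permutation of order 7 fixes pointwise every invariant set with fewer than 7 points. -/
theorem fix_small {α : Type*} [Fintype α] [DecidableEq α] {y : Equiv.Perm α} (h7 : orderOf y = 7)
    {O : Finset α} (hO : O.card < 7) (hinv : ∀ p, y p ∈ O ↔ p ∈ O) : ∀ p ∈ O, y p = p := by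
  intro p hp
  let z : Equiv.Perm {q // q ∈ O} := y.subtypePerm hinv
  have hz7 : z ^ 7 = 1 := by
    rw [Equiv.Perm.subtypePerm_pow]
    ext q
    simp [← h7, pow_orderOf_eq_one]
  have h2 : orderOf z ∣ Nat.factorial O.card := by
    have := orderOf_dvd_card (x := z)
    rwa [Fintype.card_perm, Fintype.card_coe] at this
  have h1 : orderOf z = 1 := by
    rcases (Nat.dvd_prime (by norm_num : Nat.Prime 7)).1 (orderOf_dvd_of_pow_eq_one hz7) with h | h
    · exact h
    · exfalso
      rw [h] at h2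
      have := (Nat.Prime.dvd_factorial (by norm_num : Nat.Prime 7)).1 h2
      omega
  have := congrArg (fun u : Equiv.Perm {q // q ∈ O} => (u ⟨p, hp⟩ : α)) (orderOf_eq_one_iff.1 h1)
  simpa [z] using this

/-- No subgroup of order 40320 in M22. -/
theorem no_40320 (H : Subgroup Spor.M22) : Nat.card H ≠ 40320 := by
  intro hH
  have hE : elementOk x7 w7 7 2 = true := element7
  simp only [elementOk, Bool.and_eq_true, Bool.not_eq_true', Nat.beq_eq] at hE
  obtain ⟨⟨⟨⟨hxm, hwm⟩, hp⟩, hne⟩, hwx⟩ := hE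
  have ok : ∀ {c}, in22 c = true → okCode c = true := fun {c} hc => okCode_of_inM24 (by
    simp only [in22, in23, Bool.and_eq_true] at hc; exact hc.1.1)
  let a : Spor.M22 := ⟨gperm x7, mem22 _ hxm⟩
  let w : Spor.M22 := ⟨gperm w7, mem22 _ hwm⟩
  haveI : Fact (Nat.Prime 7) := ⟨by norm_num⟩
  have ha : orderOf a = 7 := by
    refine orderOf_eq_prime (Subtype.ext ?_) ?_
    · show gperm x7 ^ 7 = 1
      rw [← (pwCode_spec (ok hxm) 7).2, hp, gperm_oneCode]
    · intro e
      rw [← Bool.not_eq_true, Nat.beq_eq] at hne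
      apply hne
      have e' : gperm x7 (pt 1) = pt 1 := by
        show (a : Equiv.Perm GolayPt) (pt 1) = pt 1
        rw [e]; rfl
      have e2 := congrArg idx e'
      rwa [idx_gperm (ok hxm), idx_pt (by norm_num)] at e2
  have hwa : w * a * w⁻¹ = a ^ 2 := by
    rw [mul_inv_eq_iff_eq_mul]
    apply Subtype.ext
    show gperm w7 * gperm x7 = gperm x7 ^ 2 * gperm w7
    rw [← (pwCode_spec (ok hxm) 2).2, ← gperm_mul (ok hwm) (ok hxm), hwx,
      gperm_mul (pwCode_spec (ok hxm) 2).1 (ok hwm)]
  have centA : ∀ u, u * a = a * u → u ∈ Subgroup.zpowers a := fun u hu => by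
    obtain ⟨k, hk⟩ := eq_pow_of_cert cent7 a.2 u.2 (congrArg Subtype.val hu)
    exact ⟨k, Subtype.ext (by simp [a, hk])⟩
  have hinv : ∀ u : Spor.M22, u * a * u⁻¹ ≠ a ^ 6 := by
    intro u he
    rw [mul_inv_eq_iff_eq_mul] at he
    have hu' : (u : Equiv.Perm GolayPt) * gperm x7 = gperm (pwCode x7 6) * u := by
      rw [(pwCode_spec (ok hxm) _).2]; exact congrArg Subtype.val he
    obtain ⟨k, v, -, hv⟩ := cert_spec noInv7
      (by rw [(pwCode_spec (ok hxm) _).2]; exact pow_mem a.2 _) u.2 hu'
    exact absurd hv (by simp)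
  have exA : ∀ u : Spor.M22, ∀ k < 7, u * a * u⁻¹ = a ^ k → ∃ i < 3, k = 2 ^ i % 7 := by
    intro u k hk he
    have h3 : u ^ 3 * a * (u ^ 3)⁻¹ = a ^ (k ^ 3 % 7) := by
      rw [← ha, pow_mod_orderOf,
        show u ^ 3 = u * u * u by simp [pow_succ],
        show u * u * u * a * (u * u * u)⁻¹ = u * (u * (u * a * u⁻¹) * u⁻¹) * u⁻¹ by group, he, ← conj_pow,
        he, ← pow_mul, ← conj_pow, he, ← pow_mul]
      ring_nf
    have hne : k ^ 3 % 7 ≠ 6 := fun e => hinv (u ^ 3) (by rw [h3, e])
    have hk0 : k ≠ 0 := by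
      rintro rfl
      rw [pow_zero, mul_inv_eq_one] at he
      have : a = 1 := by simpa using he
      rw [this, orderOf_one] at ha; omega
    interval_cases k <;> first | omega | decide +kernel | simp at hne
  obtain ⟨y, hy⟩ := exists_prime_orderOf_dvd_card' 7 (show 7 ∣ Nat.card H by rw [hH]; norm_num)
  have hf : (Nat.card Spor.M22).factorization 7 = 1 := by
    rw [card22, show (443520 : ℕ) = 7 ^ 1 * 63360 by norm_num, Nat.factorization_mul (by norm_num)
      (by norm_num), Finsupp.add_apply, Nat.Prime.factorization_pow (by norm_num),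
      Finsupp.single_eq_same, Nat.factorization_eq_zero_of_not_dvd (by norm_num : ¬ 7 ∣ 63360)]
  let A : Sylow 7 Spor.M22 := Sylow.ofCard (Subgroup.zpowers a) (by
    rw [Nat.card_zpowers, ha, hf, pow_one])
  let Y : Sylow 7 Spor.M22 := Sylow.ofCard (Subgroup.zpowers (y : Spor.M22)) (by
    rw [Nat.card_zpowers, Subgroup.orderOf_coe, hy, hf, pow_one])
  obtain ⟨g, hg⟩ := MulAction.exists_smul_eq Spor.M22 Y A
  let H' := H.map (MulAut.conj g).toMonoidHom
  have hn' : Nat.card H' = 40320 := by
    rw [Subgroup.card_map_of_injective (MulAut.conj g).injective, hH]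
  have haH : a ∈ H' := by
    have ha' : a ∈ (A : Subgroup Spor.M22) := Subgroup.mem_zpowers a
    rw [← hg, Sylow.coe_subgroup_smul] at ha'
    obtain ⟨z, hz, e⟩ := ha'
    exact ⟨z, Subgroup.zpowers_le.2 y.2 hz, e⟩
  obtain ⟨d, hd1, hd2, hd3, -⟩ := S1606.forced (r := 3) centA hwa ha exA hn' (by norm_num) haH
  have : d ≤ 3 := by omega
  interval_cases d <;> simp at hd2 hd3

theorem mem23_iff {g : Equiv.Perm GolayPt} : g ∈ Spor.M23 ↔ g ∈ M24 ∧ g none = none :=
  ⟨fun h => ⟨h.1, h.2⟩, fun h => ⟨h.1, h.2⟩⟩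

/-- A subgroup inside a set stabiliser of large index is the stabiliser. -/
theorem eq_stab {S : Finset GolayPt} {H : Subgroup Spor.M23} (hi : H.index = 253)
    (hle : ∀ y ∈ H, (y : Equiv.Perm GolayPt) • S = S) {T : Finset (Finset GolayPt)}
    (hT : 24 ≤ T.card) (horb : ∀ B ∈ T, ∃ g ∈ Spor.M23, g • S = B) :
    H = MulAction.stabilizer Spor.M23 S := by
  classical
  have hsub : H ≤ MulAction.stabilizer Spor.M23 S := hle
  have hpos := Subgroup.relIndex_mul_index hsub
  have horb' : T.card ≤ (MulAction.stabilizer Spor.M23 S).index := by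
    rw [MulAction.index_stabilizer, ← Set.ncard_coe_finset]
    refine Set.ncard_le_ncard (fun B hB => ?_) (Set.toFinite _)
    obtain ⟨g, hg, e⟩ := horb B hB
    exact ⟨⟨g, hg⟩, e⟩
  rw [hi] at hpos
  have hdvd : (MulAction.stabilizer Spor.M23 S).index ∈ Nat.divisors 253 :=
    Nat.mem_divisors.2 ⟨⟨_, (mul_comm _ _).trans hpos |>.symm⟩, by norm_num⟩
  rw [show Nat.divisors 253 = {1, 11, 23, 253} by decide +kernel] at hdvd
  simp only [Finset.mem_insert, Finset.mem_singleton] at hdvd
  have h253 : (MulAction.stabilizer Spor.M23 S).index = 253 := by omega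
  rw [h253] at hpos
  have : H.relIndex (MulAction.stabilizer Spor.M23 S) = 1 := by omega
  exact le_antisymm hsub (Subgroup.relIndex_eq_one.1 this)

/-- Subgroups of index 253 containing the chosen 2-group. -/
theorem key {H : Subgroup Spor.M23} (hi : H.index = 253)
    (hP : ∀ c ∈ FusionAlperin.M22Data.els.map Prod.fst, ∃ h ∈ H, (h : Equiv.Perm GolayPt) = gperm c) :
    (∃ s : Finset GolayPt, s.card = 2 ∧ none ∉ s ∧ H = MulAction.stabilizer Spor.M23 s) ∨
      ∃ o ∈ octads, none ∈ o ∧ H = MulAction.stabilizer Spor.M23 o := by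
  classical
  have hcard : Nat.card H = 40320 := by
    have := Subgroup.card_mul_index H
    rw [hi, card23] at this
    omega
  set O : Finset GolayPt := (MulAction.orbit H (some 0 : GolayPt)).toFinset with hO
  have hmem : ∀ p, p ∈ O ↔ ∃ h : H, ((h : Spor.M23) : Equiv.Perm GolayPt) (some 0) = p := by
    intro p; rw [hO, Set.mem_toFinset]; exact Iff.rfl
  have hinv : ∀ h : H, ∀ p, ((h : Spor.M23) : Equiv.Perm GolayPt) p ∈ O ↔ p ∈ O := by
    intro h p
    rw [hO, Set.mem_toFinset, Set.mem_toFinset]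
    show h • p ∈ MulAction.orbit H (some 0 : GolayPt) ↔ _
    rw [← MulAction.orbit_eq_iff, ← MulAction.orbit_eq_iff, MulAction.orbit_smul]
  have h0 : (some 0 : GolayPt) ∈ O := (hmem _).2 ⟨1, rfl⟩
  have hnone : none ∉ O := by
    intro h
    obtain ⟨u, hu⟩ := (hmem _).1 h
    have e := (mem23_iff.1 (u : Spor.M23).2).2
    exact absurd (((u : Spor.M23) : Equiv.Perm GolayPt).injective (hu.trans e.symm)) (by simp)
  have hrep : ∀ p, p ∈ O ↔ pt (rep (idx p)) ∈ O := by
    intro p
    have h := List.all_eq_true.1 rep_spec (idx p) (List.mem_range.2 (idx_lt p))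
    simp only [List.any_eq_true, Nat.beq_eq] at h
    obtain ⟨c, hc, he⟩ := h
    obtain ⟨u, hu, hue⟩ := hP c hc
    have hok : okCode c = true := ((groupData_of_ok (H := Spor.M22) mem22 groupOk22).ok c hc).1
    have hlt : rep (idx p) < 24 := by unfold rep; split_ifs <;> omega
    have e : (u : Equiv.Perm GolayPt) (pt (rep (idx p))) = p := by
      apply idx_injective
      rw [hue, idx_gperm hok, idx_pt hlt, he]
    conv_lhs => rw [← e]
    exact hinv ⟨u, hu⟩ _
  set f1 : Bool := decide (pt 1 ∈ O) with hf1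
  set f2 : Bool := decide (pt 2 ∈ O) with hf2
  set f15 : Bool := decide (pt 15 ∈ O) with hf15
  have hOeq : O = candSet f1 f2 f15 := by
    ext p
    rw [candSet, Finset.mem_filter, hrep p]
    by_cases hp : p = none
    · subst hp
      have : rep (idx (none : GolayPt)) = 23 := rfl
      simp [this, show pt 23 = (none : GolayPt) from rfl, hnone]
    · rcases rep_cases p hp with h | h | h | h <;>
        simp [h, f1, f2, f15, show pt 0 = (some 0 : GolayPt) from rfl, h0]
  have hsize : O.card = 1 + cond f1 4 0 + cond f2 16 0 + cond f15 2 0 := by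
    rw [hOeq]; exact candSet_card _ _ _
  have hdvd : O.card ∣ 40320 := by
    rw [hO, Set.toFinset_card, ← Nat.card_eq_fintype_card, ← hcard]
    exact Dvd.intro _ (by
      rw [← Nat.card_prod, Nat.card_congr (MulAction.orbitProdStabilizerEquivGroup H _)])
  have hsmall : O.card < 7 → O.card = 1 := by
    intro hlt
    by_contra hne
    obtain ⟨y, hy⟩ := @exists_prime_orderOf_dvd_card' H _ _ 7 ⟨by norm_num⟩
      (by rw [hcard]; norm_num)
    set σ : Equiv.Perm GolayPt := ((y : Spor.M23) : Equiv.Perm GolayPt) with hσ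
    have hσ7 : orderOf σ = 7 := by rw [hσ, Subgroup.orderOf_coe, Subgroup.orderOf_coe, hy]
    have h3 := fixCnt_seven (mem23_iff.1 (y : Spor.M23).2).1 hσ7
    have hfix := fix_small hσ7 hlt (hinv y)
    have : (insert none O).card ≤ Classes.fixCnt σ := by
      refine Finset.card_le_card fun p hp => Finset.mem_filter.2 ⟨Finset.mem_univ _, ?_⟩
      rcases Finset.mem_insert.1 hp with rfl | hp
      · exact (mem23_iff.1 (y : Spor.M23).2).2
      · exact hfix p hp
    rw [h3, Finset.card_insert_of_notMem hnone] at this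
    have : O.card ≠ 2 := by rw [hsize]; cases f1 <;> cases f2 <;> cases f15 <;> simp
    have : O.card ≠ 0 := Finset.card_ne_zero.2 ⟨_, h0⟩
    omega
  have hsmul : ∀ y ∈ H, (y : Equiv.Perm GolayPt) • O = O := by
    intro y hy
    refine Finset.eq_of_subset_of_card_le (fun p hp => ?_) (by rw [Finset.card_smul_finset])
    obtain ⟨q, hq, rfl⟩ := Finset.mem_smul_finset.1 hp
    exact (hinv ⟨y, hy⟩ q).2 hq
  have hfixnone : ∀ y : Spor.M23, (y : Equiv.Perm GolayPt) • (none : GolayPt) = none :=
    fun y => (mem23_iff.1 y.2).2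
  rw [hsize] at hdvd hsmall
  cases hb1 : f1 <;> cases hb2 : f2 <;> cases hb15 : f15 <;>
    simp only [hb1, hb2, hb15, cond_true, cond_false] at hdvd hsmall hOeq
  all_goals try (exfalso; norm_num at hdvd; done)
  all_goals try (exfalso; revert hsmall; decide)
  · -- a fixed point
    exfalso
    have hOone : ∀ h : H, ((h : Spor.M23) : Equiv.Perm GolayPt) (some 0) = some 0 := by
      intro h
      have hc : O.card = 1 := by rw [hOeq]; exact candSet_card false false false
      exact Finset.card_le_one.1 hc.le _ ((hmem _).2 ⟨h, rfl⟩) _ h0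
    refine no_40320 ((H.map Spor.M23.subtype).subgroupOf Spor.M22) ?_
    rw [Nat.card_congr (Subgroup.subgroupOfEquivOfLe (?_ : H.map Spor.M23.subtype ≤ Spor.M22)).toEquiv,
      Subgroup.card_map_of_injective Spor.M23.subtype_injective, hcard]
    rintro _ ⟨u, hu, rfl⟩
    exact ⟨u.2, hOone ⟨u, hu⟩⟩
  · -- a heptad
    right
    have ho : setOfMask 9347075 ∈ octads := by
      have h := heptad_code
      simp only [Bool.and_eq_true, Nat.beq_eq] at h
      exact ⟨setOfMask_mem_supports h.1, by rw [card_setOfMask, h.2]⟩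
    have he : setOfMask 9347075 = insert none O := by rw [hOeq]; exact heptad_eq
    refine ⟨_, ho, by rw [he]; exact Finset.mem_insert_self _ _, eq_stab hi (fun y hy => ?_)
      (T := Steiner.through octads {(none : GolayPt)}) ?_ fun B hB => ?_⟩
    · rw [he, Finset.smul_finset_insert, hfixnone, hsmul y hy]
    · have := Steiner.card_through octads_steiner {(none : GolayPt)} (by simp)
      rw [Finset.card_singleton, show Fintype.card GolayPt = 24 by decide] at this
      norm_num [Nat.choose] at this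
      omega
    · simp only [Steiner.through, Finset.mem_filter, Steiner.mem_blocks,
        Finset.singleton_subset_iff] at hB
      obtain ⟨hB, hnB⟩ := hB
      have pick : ∀ A : Finset GolayPt, A.card = 8 → none ∈ A →
          ∃ v : Fin 5 ↪ GolayPt, v 0 = none ∧ ∀ i, v i ∈ A := by
        intro A hA hn
        obtain ⟨E, hE1, hE2⟩ := Finset.exists_subset_card_eq (s := A.erase none) (n := 4)
          (by rw [Finset.card_erase_of_mem hn, hA]; norm_num)
        let w := (Finset.equivFinOfCardEq hE2).symm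
        refine ⟨⟨Fin.cons none fun i => (w i : GolayPt), ?_⟩, rfl, ?_⟩
        · rw [Fin.cons_injective_iff]
          refine ⟨?_, Subtype.val_injective.comp w.injective⟩
          rintro ⟨i, hi⟩
          exact (Finset.mem_erase.1 (hE1 (w i).2)).1 hi
        · intro i
          induction i using Fin.cases with
          | zero => exact hn
          | succ i => exact (Finset.mem_erase.1 (hE1 (w i).2)).2
      obtain ⟨v, hv0, hv⟩ := pick _ ho.2 (by rw [he]; exact Finset.mem_insert_self _ _)
      obtain ⟨v', hv0', hv'⟩ := pick B hB.2 hnB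
      obtain ⟨g, hg, hgv⟩ := exists_map_tuple le_rfl v v'
      refine ⟨g, mem23_iff.2 ⟨hg, by have := hgv 0; rwa [hv0, hv0'] at this⟩, ?_⟩
      refine Steiner.eq_of_subset octads_steiner (s := Finset.univ.map v') (smul_mem_octads hg ho) hB
        (by rw [Finset.card_map, Finset.card_univ, Fintype.card_fin]) ?_ ?_
      · intro p hp
        obtain ⟨i, -, rfl⟩ := Finset.mem_map.1 hp
        rw [← hgv i]
        exact Finset.smul_mem_smul_finset (hv i)
      · intro p hp
        obtain ⟨i, -, rfl⟩ := Finset.mem_map.1 hp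
        exact hv' i
  · -- a duad
    left
    have he : ({pt 15, pt 17} : Finset GolayPt) = (Finset.univ.erase none).filter (· ∉ O) := by
      rw [hOeq]
      refine duad_eq.trans ?_
      ext p
      simp only [candSet, Finset.mem_filter, Finset.mem_univ, true_and]
    refine ⟨{pt 15, pt 17}, by decide +kernel, by decide +kernel, eq_stab hi (fun y hy => ?_)
      (T := Finset.powersetCard 2 (Finset.univ.erase (none : GolayPt))) ?_ fun B hB => ?_⟩
    · rw [he]
      refine Finset.eq_of_subset_of_card_le (fun p hp => ?_) (by rw [Finset.card_smul_finset])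
      obtain ⟨q, hq, rfl⟩ := Finset.mem_smul_finset.1 hp
      simp only [Finset.mem_filter, Finset.mem_erase, Finset.mem_univ, and_true] at hq ⊢
      refine ⟨fun e => hq.1 ?_, fun e => hq.2 ((hinv ⟨y, hy⟩ q).1 e)⟩
      exact smul_left_cancel (y : Equiv.Perm GolayPt) (e.trans (hfixnone y).symm)
    · rw [Finset.card_powersetCard, Finset.card_erase_of_mem (Finset.mem_univ _),
        Finset.card_univ, show Fintype.card GolayPt = 24 by decide]
      decide +kernel
    · rw [Finset.mem_powersetCard, Finset.card_eq_two] at hB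
      obtain ⟨hsub, a, b, hab, rfl⟩ := hB
      have ha : a ≠ none := fun e => by
        have := hsub (Finset.mem_insert_self a _); simp [e] at this
      have hb : b ≠ none := fun e => by
        have := hsub (show b ∈ ({a, b} : Finset GolayPt) by simp); simp [e] at this
      obtain ⟨g, hg, g1, g2, g3⟩ := exists_map_three (show (none : GolayPt) ≠ pt 15 by decide +kernel)
        (show (none : GolayPt) ≠ pt 17 by decide +kernel) (show pt 15 ≠ pt 17 by decide +kernel)
        ha.symm hb.symm hab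
      refine ⟨g, mem23_iff.2 ⟨hg, g1⟩, ?_⟩
      rw [Finset.smul_finset_insert, Finset.smul_finset_singleton, Equiv.Perm.smul_def,
        Equiv.Perm.smul_def, g2, g3]

/-- Subgroups of index 253 in the Mathieu group of degree 23 are exactly the duad stabilisers and the heptad stabilisers. -/
theorem result (x : Cfsg.GolayPt) (H : Subgroup ↥(MulAction.stabilizer Cfsg.M24 x)) (hH : H.index = 253) : (∃ s : Finset Cfsg.GolayPt, s.card = 2 ∧ x ∉ s ∧ H = (MulAction.stabilizer Cfsg.M24 s).subgroupOf (MulAction.stabilizer Cfsg.M24 x)) ∨ ∃ o ∈ Cfsg.octads, x ∈ o ∧ H = (MulAction.stabilizer Cfsg.M24 o).subgroupOf (MulAction.stabilizer Cfsg.M24 x) := by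
  classical
  obtain ⟨g, hg, gx⟩ := Cfsg.Agent.Lib.Golay.exists_map_one x none
  let f : ↥(MulAction.stabilizer Cfsg.M24 x) →* Equiv.Perm Cfsg.GolayPt :=
    (MulAut.conj g).toMonoidHom.comp (Cfsg.M24.subtype.comp (Subgroup.subtype _))
  have hf : Function.Injective f :=
    (MulAut.conj g).injective.comp (Subtype.coe_injective.comp Subtype.coe_injective)
  have hr : f.range = Spor.M23 := by
    ext y
    rw [mem23_iff]
    constructor
    · rintro ⟨u, rfl⟩
      have e1 : (u.1 : Equiv.Perm Cfsg.GolayPt) x = x := u.2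
      refine ⟨mul_mem (mul_mem hg u.1.2) (inv_mem hg), ?_⟩
      show g ((u.1 : Equiv.Perm Cfsg.GolayPt) (g⁻¹ none)) = none
      rw [show g⁻¹ none = x by rw [← gx]; simp, e1, gx]
    · rintro ⟨hy, h1⟩
      refine ⟨⟨⟨g⁻¹ * y * g, mul_mem (mul_mem (inv_mem hg) hy) hg⟩, ?_⟩, ?_⟩
      · show g⁻¹ (y (g x)) = x
        rw [gx, h1, ← gx]; simp
      · show g * (g⁻¹ * y * g) * g⁻¹ = y
        group
  let e := (MonoidHom.ofInjective hf).trans (MulEquiv.subgroupCongr hr)
  have he : ∀ u, (e u : Equiv.Perm Cfsg.GolayPt) = g * (u.1 : Equiv.Perm Cfsg.GolayPt) * g⁻¹ :=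
    fun u => rfl
  let K := H.map e.toMonoidHom
  have hKi : K.index = 253 := (Subgroup.index_map_equiv H e).trans hH
  have hKc : Nat.card K = 40320 := by
    have := Subgroup.card_mul_index K
    rw [hKi, card23] at this
    omega
  haveI : Fact (Nat.Prime 2) := ⟨Nat.prime_two⟩
  have D := groupData_of_ok (H := Spor.M22) mem22 groupOk22
  have hle : genBy FusionAlperin.M22Data.gens ≤ Spor.M23 := D.le.trans inf_le_left
  let P := (genBy FusionAlperin.M22Data.gens).subgroupOf Spor.M23
  have hPc : Nat.card P = 2 ^ 7 := by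
    rw [Nat.card_congr (Subgroup.subgroupOfEquivOfLe hle).toEquiv, D.card_eq, card_els]
  have h40 : (40320 : ℕ).factorization 2 = 7 := by
    rw [show (40320 : ℕ) = 2 ^ 7 * 315 by norm_num, Nat.factorization_mul (by norm_num)
      (by norm_num), Finsupp.add_apply, Nat.Prime.factorization_pow Nat.prime_two,
      Finsupp.single_eq_same, Nat.factorization_eq_zero_of_not_dvd (by norm_num : ¬ 2 ∣ 315)]
  have h23 : (Nat.card Spor.M23).factorization 2 = 7 := by
    rw [card23, show (10200960 : ℕ) = 2 ^ 7 * 79695 by norm_num, Nat.factorization_mul (by norm_num)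
      (by norm_num), Finsupp.add_apply, Nat.Prime.factorization_pow Nat.prime_two,
      Finsupp.single_eq_same, Nat.factorization_eq_zero_of_not_dvd (by norm_num : ¬ 2 ∣ 79695)]
  let T : Sylow 2 Spor.M23 := Sylow.ofCard P (by rw [hPc, h23])
  obtain ⟨SK⟩ : Nonempty (Sylow 2 K) := inferInstance
  let S : Sylow 2 Spor.M23 := Sylow.ofCard ((SK : Subgroup K).map K.subtype) (by
    rw [Subgroup.card_map_of_injective K.subtype_injective, Sylow.card_eq_multiplicity, hKc, h40,
      h23])
  obtain ⟨k, hk⟩ := MulAction.exists_smul_eq Spor.M23 S T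
  let K' := K.map (MulAut.conj k).toMonoidHom
  have hK'i : K'.index = 253 := (Subgroup.index_map_equiv K (MulAut.conj k)).trans hKi
  have hP : ∀ c ∈ FusionAlperin.M22Data.els.map Prod.fst,
      ∃ h ∈ K', (h : Equiv.Perm Cfsg.GolayPt) = gperm c := by
    intro c hc
    refine ⟨⟨gperm c, hle (D.gperm_mem hc)⟩, ?_, rfl⟩
    have : (⟨gperm c, hle (D.gperm_mem hc)⟩ : Spor.M23) ∈ (T : Subgroup Spor.M23) := D.gperm_mem hc
    rw [← hk, Sylow.coe_subgroup_smul] at this
    obtain ⟨z, ⟨w, -, rfl⟩, ez⟩ := this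
    exact ⟨(w : Spor.M23), w.2, ez⟩
  have back : ∀ s : Finset Cfsg.GolayPt, K' = MulAction.stabilizer Spor.M23 s → H =
      (MulAction.stabilizer Cfsg.M24 (((k : Equiv.Perm Cfsg.GolayPt) * g)⁻¹ • s)).subgroupOf
        (MulAction.stabilizer Cfsg.M24 x) := by
    intro s hs
    ext u
    have h1 : u ∈ H ↔ (MulAut.conj k) (e u) ∈ K' := by
      refine ⟨fun h => ⟨_, ⟨u, h, rfl⟩, rfl⟩, ?_⟩
      rintro ⟨z, ⟨u', hu', rfl⟩, ez⟩
      rwa [← e.injective ((MulAut.conj k).injective ez)]
    rw [h1, hs, MulAction.mem_stabilizer_iff, Subgroup.mem_subgroupOf, MulAction.mem_stabilizer_iff,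
      Subgroup.smul_def, Subgroup.smul_def, MulAut.conj_apply, Subgroup.coe_mul, Subgroup.coe_mul,
      Subgroup.coe_inv, he]
    rw [show (k : Equiv.Perm Cfsg.GolayPt) * (g * (u.1 : Equiv.Perm Cfsg.GolayPt) * g⁻¹) *
      (k : Equiv.Perm Cfsg.GolayPt)⁻¹ = ((k : Equiv.Perm Cfsg.GolayPt) * g) *
        (u.1 : Equiv.Perm Cfsg.GolayPt) * ((k : Equiv.Perm Cfsg.GolayPt) * g)⁻¹ by group,
      mul_smul, mul_smul, ← eq_inv_smul_iff]
  set m : Equiv.Perm Cfsg.GolayPt := ((k : Equiv.Perm Cfsg.GolayPt) * g)⁻¹ with hm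
  have hmn : m • (none : Cfsg.GolayPt) = x := by
    rw [hm, inv_smul_eq_iff, mul_smul, Equiv.Perm.smul_def, Equiv.Perm.smul_def, gx]
    exact ((mem23_iff.1 k.2).2).symm
  rcases key hK'i hP with ⟨s, hs2, hsn, hs⟩ | ⟨o, ho, hon, hs⟩
  · refine Or.inl ⟨m • s, by rw [Finset.card_smul_finset, hs2], fun h => hsn ?_, back s hs⟩
    rwa [← hmn, Finset.smul_mem_smul_finset_iff] at h
  · refine Or.inr ⟨m • o, Cfsg.Agent.Lib.Golay.smul_mem_octads
      (inv_mem (mul_mem (mem23_iff.1 k.2).1 hg)) ho, ?_, back o hs⟩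
    rw [← hmn]
    exact Finset.smul_mem_smul_finset hon

end Cfsg.Agent.S1609
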