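import Cfsg.Statements.S1610
import Cfsg.Agent.Lib.Hexacode.Basic

set_option autoImplicit false
open Cfsg

namespace Cfsg.Agent.S1610

open Cfsg.Agent.Lib.Hexacode.Basic


/-- The hexacode has 64 words, minimum weight 4, and weight distribution 0^1 4^45 6^18. -/
theorem result (F : Type*) [Field F] [Fintype F] [DecidableEq F] (hF : Fintype.card F = 4) (ω : F) (hω : ω ^ 2 + ω + 1 = 0) : Nat.card ↥(Cfsg.hexacode F ω) = 64 ∧ (∀ x ∈ Cfsg.hexacode F ω, x ≠ 0 → (Finset.univ.filter fun i => x i ≠ 0).card = 4 ∨ (Finset.univ.filter fun i => x i ≠ 0).card = 6) ∧ {x : Fin 6 → F | x ∈ Cfsg.hexacode F ω ∧ (Finset.univ.filter fun i => x i ≠ 0).card = 4}.ncard = 45 ∧ {x : Fin 6 → F | x ∈ Cfsg.hexacode F ω ∧ (Finset.univ.filter fun i => x i ≠ 0).card = 6}.ncard = 18 := by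
  classical
  have hwt : ∀ t, (Finset.univ.filter fun i => wordOf ω t i ≠ 0).card =
      (Finset.univ.filter fun i => kWord t i ≠ 0).card := fun t => by
    congr 1
    ext i
    simp [wordOf, emb_ne_zero hF hω]
  have key : ∀ k, {x : Fin 6 → F | x ∈ Cfsg.hexacode F ω ∧
      (Finset.univ.filter fun i => x i ≠ 0).card = k}.ncard =
      (Finset.univ.filter fun t => (Finset.univ.filter fun i => kWord t i ≠ 0).card = k).card := by
    intro k
    rw [← Set.ncard_coe_finset, ← Set.ncard_image_of_injective _ (wordOf_injective hF hω)]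
    congr 1
    ext x
    simp only [Set.mem_ofPred_eq, Set.mem_image, Finset.coe_filter, Finset.mem_univ, true_and]
    constructor
    · rintro ⟨hx, hk⟩
      obtain ⟨t, rfl⟩ := (mem_iff_exists_wordOf hF hω x).1 hx
      exact ⟨t, by rwa [← hwt], rfl⟩
    · rintro ⟨t, hk, rfl⟩
      exact ⟨(mem_iff_exists_wordOf hF hω _).2 ⟨t, rfl⟩, by rwa [hwt]⟩
  refine ⟨?_, ?_, ?_, ?_⟩
  · have e : Nat.card ↥(Cfsg.hexacode F ω) = Nat.card ↥(Set.range (wordOf ω)) :=
      Nat.card_congr (Equiv.subtypeEquivRight fun x => mem_iff_exists_wordOf hF hω x)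
    rw [e, ← Nat.card_congr (Equiv.ofInjective _ (wordOf_injective hF hω))]
    simp
  · intro x hx hne
    obtain ⟨t, rfl⟩ := (mem_iff_exists_wordOf hF hω x).1 hx
    rw [hwt]
    have ht : ∀ t : Fin 4 × Fin 4 × Fin 4, t ≠ (0, 0, 0) →
        (Finset.univ.filter fun i => kWord t i ≠ 0).card = 4 ∨
        (Finset.univ.filter fun i => kWord t i ≠ 0).card = 6 := by decide +kernel
    apply ht
    rintro rfl
    apply hne
    funext i
    fin_cases i <;> rfl
  · rw [key]
    decide +kernel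
  · rw [key]
    decide +kernel

end Cfsg.Agent.S1610
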