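import Cfsg.Statements.S1611
import Cfsg.Agent.Lib.Hexacode.Basic

set_option autoImplicit false
open Cfsg

namespace Cfsg.Agent.S1611

open Cfsg.Agent.Lib.Hexacode.Basic

def nz : Fin 3 → Fin 4 := ![1, 2, 3]

def row : Fin 3 → Fin 6 → Fin 4 :=
  ![kWord (1, 0, 0), kWord (0, 1, 0), kWord (0, 0, 1)]

def okK (σ : Equiv.Perm (Fin 6)) (d : Fin 6 → Fin 3) : Bool :=
  inHexa (fun i => kMul (nz (d i)) (row 0 (σ.symm i))) &&
  inHexa (fun i => kMul (nz (d i)) (row 1 (σ.symm i))) &&
  inHexa (fun i => kMul (nz (d i)) (row 2 (σ.symm i)))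

def dvec (a b c d e f : Fin 3) : Fin 6 → Fin 3 := ![a, b, c, d, e, f]

theorem dvec_eta (d : Fin 6 → Fin 3) : dvec (d 0) (d 1) (d 2) (d 3) (d 4) (d 5) = d := by
  funext i
  fin_cases i <;> rfl

theorem diag_check : ∀ a b c d e f : Fin 3,
    okK 1 (dvec a b c d e f) = true → a = b ∧ a = c ∧ a = d ∧ a = e ∧ a = f := by
  decide +kernel

theorem swap_check : ∀ a b c d e f : Fin 3,
    okK (Equiv.swap 0 1) (dvec a b c d e f) = false := by
  decide +kernel

theorem pair_check : ∀ a b : Fin 6, a ≠ b → ∃ u v w x y z : Fin 3,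
    okK (Equiv.swap a b * Equiv.swap 0 1) (dvec u v w x y z) = true := by
  decide +kernel

variable {F : Type*} [Field F] [Fintype F] {ω : F}

/-- the monomial map preserves the code -/
def Pres (ω : F) (σ : Equiv.Perm (Fin 6)) (c : Fin 6 → Fˣ) : Prop :=
  ∀ x ∈ Cfsg.hexacode F ω, Cfsg.monomialMap σ c x ∈ Cfsg.hexacode F ω

theorem monomialMap_comp (σ τ : Equiv.Perm (Fin 6)) (c c' : Fin 6 → Fˣ) (x : Fin 6 → F) :
    Cfsg.monomialMap (σ * τ) (fun i => c i * c' (σ.symm i)) x =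
      Cfsg.monomialMap σ c (Cfsg.monomialMap τ c' x) := by
  funext i
  simp [Cfsg.monomialMap, Equiv.Perm.mul_def, mul_assoc]

theorem pres_mul {σ τ : Equiv.Perm (Fin 6)} {c c' : Fin 6 → Fˣ} (h : Pres ω σ c)
    (h' : Pres ω τ c') : Pres ω (σ * τ) (fun i => c i * c' (σ.symm i)) := by
  intro x hx
  rw [monomialMap_comp]
  exact h _ (h' _ hx)

theorem pres_one : Pres ω 1 1 := by
  intro x hx
  have : Cfsg.monomialMap (1 : Equiv.Perm (Fin 6)) (1 : Fin 6 → Fˣ) x = x := by
    funext i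
    simp [Cfsg.monomialMap, Equiv.Perm.one_def]
  rwa [this]

theorem pres_inv {σ : Equiv.Perm (Fin 6)} {c : Fin 6 → Fˣ} (h : Pres ω σ c) :
    Pres ω σ⁻¹ (fun i => (c (σ i))⁻¹) := by
  intro x hx
  have hmaps : Set.MapsTo (Cfsg.monomialMap σ c) (Cfsg.hexacode F ω : Set (Fin 6 → F))
      (Cfsg.hexacode F ω : Set (Fin 6 → F)) := h
  have hinj : Set.InjOn (Cfsg.monomialMap σ c) (Cfsg.hexacode F ω : Set (Fin 6 → F)) := by
    intro y _ z _ e
    funext i
    simpa [Cfsg.monomialMap] using congrFun e (σ i)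
  obtain ⟨y, hy, rfl⟩ :=
    (((Set.toFinite _).surjOn_iff_bijOn_of_mapsTo hmaps).2
      ((Set.toFinite _).injOn_iff_bijOn_of_mapsTo hmaps |>.1 hinj)) hx
  have : Cfsg.monomialMap σ⁻¹ (fun i => (c (σ i))⁻¹) (Cfsg.monomialMap σ c y) = y := by
    funext i
    simp [Cfsg.monomialMap, Equiv.Perm.inv_def]
  rwa [this]

variable (hF : Fintype.card F = 4) (hω : ω ^ 2 + ω + 1 = 0)

include hF hω in
theorem toField_aux : ∀ a : Fin 3, emb ω (nz a) ≠ 0 := by
  intro a
  rw [emb_ne_zero hF hω]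
  revert a
  decide

/-- the units attached to a vector of the model -/
noncomputable def toU (d : Fin 6 → Fin 3) : Fin 6 → Fˣ :=
  fun i => Units.mk0 (emb ω (nz (d i))) (toField_aux hF hω (d i))

include hF hω in
theorem toU_surjective : Function.Surjective (toU hF hω) := by
  intro c
  have : ∀ i, ∃ a : Fin 3, emb ω (nz a) = (c i : F) := by
    intro i
    obtain ⟨k, hk⟩ := (emb_bijective hF hω).2 (c i : F)
    have hk0 : k ≠ 0 := (emb_ne_zero hF hω k).1 (by rw [hk]; exact (c i).ne_zero)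
    have : ∀ k : Fin 4, k ≠ 0 → ∃ a, nz a = k := by decide
    obtain ⟨a, rfl⟩ := this k hk0
    exact ⟨a, hk⟩
  choose d hd using this
  exact ⟨d, funext fun i => Units.ext (hd i)⟩

include hF hω in
theorem pres_toU_iff (σ : Equiv.Perm (Fin 6)) (d : Fin 6 → Fin 3) :
    Pres ω σ (toU hF hω d) ↔ okK σ d = true := by
  have key : ∀ w : Fin 6 → Fin 4, Cfsg.monomialMap σ (toU hF hω d) (emb ω ∘ w) =
      emb ω ∘ fun i => kMul (nz (d i)) (w (σ.symm i)) := by
    intro w
    funext i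
    simp [Cfsg.monomialMap, toU, emb_mul hω]
  have hrow : ∀ r, emb ω ∘ row r ∈ Cfsg.hexacode F ω := by
    intro r
    rw [emb_comp_mem_iff hF hω]
    revert r
    decide +kernel
  simp only [okK, Bool.and_eq_true, ← emb_comp_mem_iff hF hω, ← key, and_assoc]
  constructor
  · intro h
    exact ⟨h _ (hrow 0), h _ (hrow 1), h _ (hrow 2)⟩
  · rintro ⟨h0, h1, h2⟩ x hx
    have hlin : x = x 0 • (emb ω ∘ row 0) + x 1 • (emb ω ∘ row 1) + x 2 • (emb ω ∘ row 2) := by
      obtain ⟨a, b, c⟩ := (mem_hexacode_iff hF hω x).1 hx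
      funext i
      fin_cases i <;> simp [row, kWord, kAdd, kMul, emb] <;>
        first
        | rfl
        | linear_combination a
        | linear_combination b
        | linear_combination c
    have hmap : ∀ (u v : F) (w : F) (y z t : Fin 6 → F),
        Cfsg.monomialMap σ (toU hF hω d) (u • y + v • z + w • t) =
          u • Cfsg.monomialMap σ (toU hF hω d) y + v • Cfsg.monomialMap σ (toU hF hω d) z +
            w • Cfsg.monomialMap σ (toU hF hω d) t := by
      intro u v w y z t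
      funext i
      simp [Cfsg.monomialMap]
      ring
    rw [hlin, hmap]
    exact add_mem (add_mem (Submodule.smul_mem _ _ h0) (Submodule.smul_mem _ _ h1))
      (Submodule.smul_mem _ _ h2)

include hF hω in
theorem diag {c : Fin 6 → Fˣ} (h : Pres ω 1 c) : ∀ i, c i = c 0 := by
  obtain ⟨d, rfl⟩ := toU_surjective hF hω c
  rw [pres_toU_iff hF hω, ← dvec_eta d] at h
  obtain ⟨e1, e2, e3, e4, e5⟩ := diag_check _ _ _ _ _ _ h
  intro i
  fin_cases i <;> simp [toU, ← e1, ← e2, ← e3, ← e4, ← e5]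

include hF hω in
theorem swap_not (c : Fin 6 → Fˣ) : ¬ Pres ω (Equiv.swap 0 1) c := by
  obtain ⟨d, rfl⟩ := toU_surjective hF hω c
  rw [pres_toU_iff hF hω, ← dvec_eta d, swap_check]
  simp

include hF hω in
theorem exists_pres_iff (σ : Equiv.Perm (Fin 6)) :
    (∃ c, Pres ω σ c) ↔ σ ∈ alternatingGroup (Fin 6) := by
  have hpair : ∀ a b : Fin 6, a ≠ b → ∃ c, Pres ω (Equiv.swap a b * Equiv.swap 0 1) c := by
    intro a b hab
    obtain ⟨u, v, w, x, y, z, h⟩ := pair_check a b hab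
    exact ⟨_, (pres_toU_iff hF hω _ _).2 h⟩
  have hpair' : ∀ a b : Fin 6, a ≠ b → ∃ c, Pres ω (Equiv.swap 0 1 * Equiv.swap a b) c := by
    intro a b hab
    obtain ⟨c, hc⟩ := hpair a b hab
    have h := pres_inv hc
    simp only [mul_inv_rev, Equiv.swap_inv] at h
    exact ⟨_, h⟩
  have main : ∀ τ : Equiv.Perm (Fin 6),
      ((∃ c, Pres ω τ c) ∧ Equiv.Perm.sign τ = 1) ∨
      ((∃ c, Pres ω (τ * Equiv.swap 0 1) c) ∧ Equiv.Perm.sign τ = -1) := by
    intro τ
    induction τ using Equiv.Perm.swap_induction_on' with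
    | one => exact Or.inl ⟨⟨1, pres_one⟩, map_one _⟩
    | mul_swap τ a b hab ih =>
      rcases ih with ⟨⟨c, hc⟩, hs⟩ | ⟨⟨c, hc⟩, hs⟩
      · obtain ⟨c', hc'⟩ := hpair a b hab
        refine Or.inr ⟨⟨fun i => c i * c' (τ.symm i), ?_⟩, by simp [hs, hab]⟩
        rw [mul_assoc]
        exact pres_mul hc hc'
      · obtain ⟨c', hc'⟩ := hpair' a b hab
        refine Or.inl ⟨⟨fun i => c i * c' ((τ * Equiv.swap 0 1).symm i), ?_⟩, by simp [hs, hab]⟩
        have h := pres_mul hc hc'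
        simpa [mul_assoc] using h
  rw [Equiv.Perm.mem_alternatingGroup]
  constructor
  · rintro ⟨c, hc⟩
    rcases main σ with ⟨_, h⟩ | ⟨⟨c', hc'⟩, _⟩
    · exact h
    · exfalso
      have h := pres_mul (pres_inv hc) hc'
      simp only [inv_mul_cancel_left] at h
      exact swap_not hF hω _ h
  · intro h
    rcases main σ with ⟨h', _⟩ | ⟨_, h'⟩
    · exact h'
    · rw [h] at h'
      exact absurd h' (by decide)


/-- The monomial automorphism group of the hexacode has order 1080: its diagonal part is the scalars and its permutation parts form the alternating group of degree 6. -/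
theorem result (F : Type*) [Field F] [Fintype F] [DecidableEq F] (hF : Fintype.card F = 4) (ω : F) (hω : ω ^ 2 + ω + 1 = 0) : Nat.card {f : Equiv.Perm (Fin 6) × (Fin 6 → Fˣ) // (∀ x ∈ Cfsg.hexacode F ω, Cfsg.monomialMap f.1 f.2 x ∈ Cfsg.hexacode F ω)} = 1080 ∧ (∀ c : Fin 6 → Fˣ, (∀ x ∈ Cfsg.hexacode F ω, Cfsg.monomialMap 1 c x ∈ Cfsg.hexacode F ω) → ∀ i j, c i = c j) ∧ {σ : Equiv.Perm (Fin 6) | ∃ c : Fin 6 → Fˣ, (∀ x ∈ Cfsg.hexacode F ω, Cfsg.monomialMap σ c x ∈ Cfsg.hexacode F ω)} = (alternatingGroup (Fin 6) : Set (Equiv.Perm (Fin 6))) := by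
  classical
  refine ⟨?_, ?_, ?_⟩
  · have hex : ∀ σ : alternatingGroup (Fin 6), ∃ c, Pres ω (σ : Equiv.Perm (Fin 6)) c :=
      fun σ => (exists_pres_iff hF hω σ).2 σ.2
    choose s hs using hex
    have e : {f : Equiv.Perm (Fin 6) × (Fin 6 → Fˣ) // (∀ x ∈ Cfsg.hexacode F ω,
        Cfsg.monomialMap f.1 f.2 x ∈ Cfsg.hexacode F ω)} ≃ alternatingGroup (Fin 6) × Fˣ :=
      { toFun := fun f => (⟨f.1.1, (exists_pres_iff hF hω _).1 ⟨f.1.2, f.2⟩⟩,
          f.1.2 0 * (s ⟨f.1.1, (exists_pres_iff hF hω _).1 ⟨f.1.2, f.2⟩⟩ 0)⁻¹)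
        invFun := fun p => ⟨(p.1.1, fun i => p.2 * s p.1 i), by
          intro x hx
          have : Cfsg.monomialMap p.1.1 (fun i => p.2 * s p.1 i) x =
              (p.2 : F) • Cfsg.monomialMap p.1.1 (s p.1) x := by
            funext i
            simp [Cfsg.monomialMap, mul_assoc]
          rw [this]
          exact Submodule.smul_mem _ _ (hs p.1 x hx)⟩
        left_inv := by
          rintro ⟨⟨σ, c⟩, h⟩
          have hσ := (exists_pres_iff hF hω σ).1 ⟨c, h⟩
          set c₀ := s ⟨σ, hσ⟩ with hc₀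
          have hq := pres_mul (σ := σ) (τ := σ⁻¹) (c := c) h (pres_inv (hs ⟨σ, hσ⟩))
          simp only [mul_inv_cancel, Equiv.apply_symm_apply] at hq
          have hd := diag hF hω hq
          refine Subtype.ext (Prod.ext rfl (funext fun i => ?_))
          have := hd i
          simp only [← hc₀] at this ⊢
          rw [← this, inv_mul_cancel_right]
        right_inv := by
          rintro ⟨σ, u⟩
          simp }
    have hU : Nat.card Fˣ = 3 := by
      rw [Nat.card_units, Nat.card_eq_fintype_card, hF]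
    have hA : Nat.card (alternatingGroup (Fin 6)) = 360 := by
      rw [nat_card_alternatingGroup]
      simp [Nat.factorial]
    rw [Nat.card_congr e, Nat.card_prod, hA, hU]
  · intro c h i j
    rw [diag hF hω h i, diag hF hω h j]
  · ext σ
    exact exists_pres_iff hF hω σ

end Cfsg.Agent.S1611
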