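import Cfsg.Statements.S1614
import Cfsg.Agent.Lib.SporFischer.SpCase
import Cfsg.Agent.Lib.SporFischer.UCase
import Cfsg.Agent.Lib.Cores.Basic
import Cfsg.Agent.Lib.Linear.SmallIso.Sp4
-- import your own Cfsg.Agent.* helpers here

set_option autoImplicit false
open Cfsg

namespace Cfsg.Agent.S1614

/-- A solvable group with central cores for the prime two and for odd order is commutative. -/
theorem center_eq_top_of_cores {H : Type*} [Group H] [Finite H] [Group.IsSolvable H]
    (h2 : pCore 2 H ≤ Subgroup.center H) (ho : oddCore H ≤ Subgroup.center H) : Subgroup.center H = ⊤ := by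
  have hF : fittingSubgroup H ≤ Subgroup.center H := by
    rw [Lib.Cores.fittingSubgroup_eq_iSup_pCore]
    refine iSup_le fun r => ?_
    by_cases hr : (r : ℕ) = 2
    · rw [hr]; exact h2
    · haveI : Fact (r : ℕ).Prime := ⟨r.2⟩
      refine (le_sSup ⟨Lib.PSolvable.pCore_normal', ?_⟩ : pCore (r : ℕ) H ≤ pPrimeCore 2 H).trans ho
      obtain ⟨k, hk⟩ := IsPGroup.iff_card.1 (Lib.Cores.pCore_isPGroup (G := H) (r : ℕ))
      rw [hk]
      exact Nat.Coprime.pow_left k ((Nat.coprime_primes r.2 Nat.prime_two).2 hr)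
  have hC := Lib.Cores.centralizer_fittingSubgroup_le (G := H)
  rw [Subgroup.centralizer_eq_top_iff_subset.2 hF] at hC
  exact top_le_iff.1 ((hC.trans hF))

/-- If the commuting transpositions of one transposition generate a solvable group, a Fischer 3-transposition group is S5, S6, PSU(4, 2) or PSU(5, 2). -/
theorem result {G : Type*} [Group G] [Finite G] (hsol : ∀ N : Subgroup G, N.Normal → Group.IsSolvable ↥N → N = ⊥) (hperf : ⁅commutator G, commutator G⁆ = commutator G) {D : Set G} (hD : Cfsg.IsThreeTranspositionClass D) (x : G) (hx : x ∈ D) (hs : Group.IsSolvable ↥(Subgroup.closure {y : G | y ∈ D ∧ y ≠ x ∧ Commute x y})) : Nonempty (G ≃* Equiv.Perm (Fin 5)) ∨ Nonempty (G ≃* Equiv.Perm (Fin 6)) ∨ ∃ (F : Type) (_ : Field F) (_ : Fintype F), Fintype.card F = 4 ∧ (Nonempty (G ≃* Cfsg.PSU 4 F 2) ∨ Nonempty (G ≃* Cfsg.PSU 5 F 2)) := by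
  have hp := Lib.SporFischer.isFischerPair hsol hperf hD
  have hZ : Subgroup.center G = ⊥ :=
    hsol _ inferInstance (Group.isSolvable_of_comm fun a b => Subtype.ext (Subgroup.mem_center_iff.1 b.2 a))
  haveI := hs
  change Group.IsSolvable ↥(Subgroup.closure (Lib.RankThree.comSet D x)) at hs
  by_cases ho : oddCore ↥(Subgroup.closure (Lib.RankThree.comSet D x)) ≤ Subgroup.center _
  swap
  · obtain ⟨y, w, hw⟩ := Lib.SporFischer.exists_wRel_of_oddCore hp hx ho
    exact Or.inl (hp.sym_five_of_wRel hx hw)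
  obtain ⟨b, hb, hbx, hc⟩ := hp.width x hx
  have hy : b ∈ Lib.RankThree.comSet D x := ⟨hb, hbx, hc⟩
  have h2 : ¬ pCore 2 ↥(Subgroup.closure (Lib.RankThree.comSet D x)) ≤ Subgroup.center _ := by
    intro h2
    haveI := hs
    have htop := center_eq_top_of_cores h2 ho
    have hall : ∀ u ∈ Lib.RankThree.comSet D x, ∀ v ∈ Lib.RankThree.comSet D x, Commute u v := by
      intro u hu v hv
      have hm : (⟨v, Subgroup.subset_closure hv⟩ : ↥(Subgroup.closure (Lib.RankThree.comSet D x))) ∈
          Subgroup.center _ := by rw [htop]; trivial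
      exact congrArg Subtype.val (Subgroup.mem_center_iff.1 hm ⟨u, Subgroup.subset_closure hu⟩)
    have hone : ∀ z ∈ Lib.RankThree.comSet D x, z = b := by
      intro z hz
      have key : ∀ u v, Lib.SporFischer.IsFischerPair.CompRel D x u v → u = v := by
        intro u v hr
        induction hr with
        | rel u v h => exact absurd (hall u h.1 v h.2.1) h.2.2
        | refl u => rfl
        | symm u v _ ih => exact ih.symm
        | trans u v w _ _ i j => exact i.trans j
      exact (key b z (hp.single_comp hx hy hz)).symm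
    have hxb : x ∈ Lib.RankThree.comSet D b := ⟨hx, Ne.symm hbx, hc.symm⟩
    have hone' : ∀ z ∈ Lib.RankThree.comSet D b, z = x := by
      have h1 : (Lib.RankThree.comSet D x).ncard ≤ 1 :=
        (Set.ncard_le_one_iff (Set.toFinite _)).2 fun hu hv => (hone _ hu).trans (hone _ hv).symm
      rw [Lib.RankThree.comSet_ncard hD hx hb] at h1
      exact fun z hz => (Set.ncard_le_one_iff (Set.toFinite _)).1 h1 hz hxb
    refine hbx (Lib.RankThree.eq_of_adjSet hD hp.modules hp.two hb hx (Set.ext fun e => ?_))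
    constructor
    · rintro ⟨he, hne⟩
      refine ⟨he, fun h => hne ?_⟩
      by_cases hex : e = x
      · subst hex; exact hc.symm
      · rw [hone e ⟨he, hex, h⟩]
    · rintro ⟨he, hne⟩
      refine ⟨he, fun h => hne ?_⟩
      by_cases heb : e = b
      · subst heb; exact hc
      · rw [hone' e ⟨he, heb, h⟩]
  have hV := Lib.SporFischer.hasVLines_of_pCore hp hx h2
  rcases hp.vLine_ncard_cases hV hx hy with h3 | h5
  · obtain ⟨n, ⟨e⟩, hn2, hchain⟩ :=
      hp.symplectic_of_lines_three hV hZ fun u hu v hv => (hp.vLine_ncard hu hv hx hy).trans h3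
    have hn : n = 2 := by
      by_contra hne
      obtain ⟨a, ha, b', hb', c, hc', z, hz, h1, h2', h3', h4, h5, h6⟩ := hchain x hx (by omega)
      exact hp.not_solvable_of_chain ha.1 hb'.1 hc'.1 hz.1 h1 h2' h3' h4 h5 h6
        (Subgroup.subset_closure ha) (Subgroup.subset_closure hb') (Subgroup.subset_closure hc')
        (Subgroup.subset_closure hz) hs
    subst hn
    obtain ⟨e'⟩ := Lib.Linear.SmallIso.nonempty_sp_four_two
    exact Or.inr (Or.inl ⟨e.trans e'⟩)
  · obtain ⟨F, i1, i2, n, hF, hn4, hiso, hle⟩ :=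
      hp.unitary_of_lines_five hV hZ (fun u hu v hv => (hp.vLine_ncard hu hv hx hy).trans h5) hx
    refine Or.inr (Or.inr ⟨F, i1, i2, hF, ?_⟩)
    have := hle hs
    rcases (show n = 4 ∨ n = 5 by omega) with rfl | rfl
    exacts [Or.inl hiso, Or.inr hiso]

end Cfsg.Agent.S1614
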