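import Cfsg.Statements.S1616
import Cfsg.Agent.Lib.SporFischer.SpCase
import Cfsg.Agent.Lib.SporFischer.UCase
-- import your own Cfsg.Agent.* helpers here

set_option autoImplicit false
open Cfsg

namespace Cfsg.Agent.S1616

/-- If O₂(⟨D_x⟩) is not central in ⟨D_x⟩ for some transposition x, the 3-transposition group is some Sp(2n, 2) or PSU(n, 2). -/
theorem result {G : Type*} [Group G] [Finite G] (hsol : ∀ N : Subgroup G, N.Normal → Group.IsSolvable ↥N → N = ⊥) (hperf : ⁅commutator G, commutator G⁆ = commutator G) {D : Set G} (hD : Cfsg.IsThreeTranspositionClass D) (x : G) (hx : x ∈ D) (h : ¬ Cfsg.pCore 2 ↥(Subgroup.closure {y : G | y ∈ D ∧ y ≠ x ∧ Commute x y}) ≤ Subgroup.center ↥(Subgroup.closure {y : G | y ∈ D ∧ y ≠ x ∧ Commute x y})) : (∃ n : ℕ, Nonempty (G ≃* Matrix.symplecticGroup (Fin n) (ZMod 2))) ∨ ∃ (F : Type) (_ : Field F) (_ : Fintype F) (n : ℕ), Fintype.card F = 4 ∧ Nonempty (G ≃* Cfsg.PSU n F 2) := by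
  have hp := Lib.SporFischer.isFischerPair hsol hperf hD
  have hV := Lib.SporFischer.hasVLines_of_pCore hp hx h
  have hZ : Subgroup.center G = ⊥ :=
    hsol _ inferInstance (Group.isSolvable_of_comm fun a b => Subtype.ext (Subgroup.mem_center_iff.1 b.2 a))
  obtain ⟨b, hb, hbx, hc⟩ := hp.width x hx
  have hy : b ∈ Lib.RankThree.comSet D x := ⟨hb, hbx, hc⟩
  rcases hp.vLine_ncard_cases hV hx hy with h3 | h5
  · obtain ⟨n, hn, -⟩ :=
      hp.symplectic_of_lines_three hV hZ fun u hu v hv => (hp.vLine_ncard hu hv hx hy).trans h3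
    exact Or.inl ⟨n, hn⟩
  · obtain ⟨F, i1, i2, n, hF, -, hiso, -⟩ :=
      hp.unitary_of_lines_five hV hZ (fun u hu v hv => (hp.vLine_ncard hu hv hx hy).trans h5) hx
    exact Or.inr ⟨F, i1, i2, n, hF, hiso⟩

end Cfsg.Agent.S1616
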