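import Cfsg.Statements.S1617
import Cfsg.Agent.Lib.ZStar.UniqueCase
import Cfsg.Agent.Lib.OddOrder.FeitThompson
import Cfsg.Agent.Lib.Involutions.BaerSuzuki
import Cfsg.Agent.Lib.RankThreeInv22.Main

set_option autoImplicit false
open Cfsg

open Cfsg.Agent.Lib

namespace Cfsg.Agent.S1617

universe u

variable {G : Type u} [Group G]

/-- Conjugates along the dihedral group of two members. -/
theorem pow_mem {D : Set G} (hsq : ∀ d ∈ D, d * d = 1)
    (hmem : ∀ g : G, ∀ d ∈ D, g * d * g⁻¹ ∈ D) {x w : G} (hx : x ∈ D) (hw : w ∈ D) (k : ℕ) :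
    x * (x * w) ^ k ∈ D := by
  have hxi : x⁻¹ = x := inv_eq_of_mul_eq_one_right (hsq x hx)
  have hwi : w⁻¹ = w := inv_eq_of_mul_eq_one_right (hsq w hw)
  have hconj : ∀ j : ℕ, ∀ y ∈ D, y * (x * w) * y⁻¹ = (x * w)⁻¹ →
      ((x * w) ^ j)⁻¹ * y * (x * w) ^ j = y * (x * w) ^ (2 * j) := by
    intro j y hy hinv
    have hyi : y⁻¹ = y := inv_eq_of_mul_eq_one_right (hsq y hy)
    have e : ((x * w) ^ j)⁻¹ * y = y * (x * w) ^ j := by
      rw [← inv_pow, ← hinv, conj_pow, inv_mul_cancel_right]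
    rw [e, mul_assoc, ← pow_add, two_mul]
  obtain ⟨j, hj | hj⟩ := Nat.even_or_odd' k
  · have := hmem ((x * w) ^ j)⁻¹ x hx
    rw [inv_inv, hconj j x hx (by
      rw [mul_inv_rev, hxi, hwi, ← mul_assoc, hsq x hx, one_mul])] at this
    rwa [hj]
  · have := hmem ((x * w) ^ j)⁻¹ w hw
    rw [inv_inv, hconj j w hw (by
      rw [mul_inv_rev, hxi, hwi]; simp only [mul_assoc, hsq w hw, mul_one])] at this
    rwa [hj, pow_succ', ← mul_assoc, ← mul_assoc, hsq x hx, one_mul]


/-- A generating conjugacy class of involutions on which the group (with trivial solvable radical) acts with rank 3 is a class of 3-transpositions. -/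
theorem result {G : Type*} [Group G] [Finite G] (hsol : ∀ N : Subgroup G, N.Normal → Group.IsSolvable ↥N → N = ⊥) {D : Set G} (hinv : ∀ d ∈ D, orderOf d = 2) (hconj : ∃ d ∈ D, D = conjugatesOf d) (hgen : Subgroup.closure D = ⊤) (hrank : ∀ x ∈ D, ∃ y ∈ D, ∃ z ∈ D, {w : G | ∃ g : G, Commute g x ∧ g * y * g⁻¹ = w} ≠ {w : G | ∃ g : G, Commute g x ∧ g * x * g⁻¹ = w} ∧ {w : G | ∃ g : G, Commute g x ∧ g * z * g⁻¹ = w} ≠ {w : G | ∃ g : G, Commute g x ∧ g * x * g⁻¹ = w} ∧ {w : G | ∃ g : G, Commute g x ∧ g * y * g⁻¹ = w} ≠ {w : G | ∃ g : G, Commute g x ∧ g * z * g⁻¹ = w} ∧ D = {w : G | ∃ g : G, Commute g x ∧ g * x * g⁻¹ = w} ∪ {w : G | ∃ g : G, Commute g x ∧ g * y * g⁻¹ = w} ∪ {w : G | ∃ g : G, Commute g x ∧ g * z * g⁻¹ = w}) : Cfsg.IsThreeTranspositionClass D := by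
  classical
  haveI : Fact (Nat.Prime 2) := ⟨Nat.prime_two⟩
  obtain ⟨d0, hd0, hD⟩ := hconj
  have hmem : ∀ g : G, ∀ d ∈ D, g * d * g⁻¹ ∈ D := by
    intro g d hd
    rw [hD] at hd ⊢
    exact IsConj.trans hd (isConj_iff.2 ⟨g, rfl⟩)
  have hclass : ∀ x ∈ D, ∀ y ∈ D, ∃ g : G, g * x * g⁻¹ = y := by
    intro x hx y hy
    rw [hD] at hx hy
    exact isConj_iff.1 (IsConj.trans (IsConj.symm hx) hy)
  have hsq : ∀ d ∈ D, d * d = 1 := fun d hd => by
    have := pow_orderOf_eq_one d
    rwa [hinv d hd, pow_two] at this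
  have hne1 : ∀ d ∈ D, d ≠ 1 := fun d hd e => by
    have := hinv d hd
    rw [e, orderOf_one] at this
    omega
  have hsq' : ∀ x ∈ D, ∀ y ∈ D, (Commute x y ↔ (x * y) ^ 2 = 1) := fun x hx y hy =>
    RankThreeInv22.commute_iff_sq (hsq x hx) (hsq y hy)
  -- not all members commute
  have hnab : ¬ ∀ x ∈ D, ∀ y ∈ D, Commute x y := by
    intro hall
    have hcomm : ∀ a b : G, a * b = b * a := by
      intro a b
      have ha : a ∈ Subgroup.closure D := hgen ▸ Subgroup.mem_top a
      have hb : b ∈ Subgroup.closure D := hgen ▸ Subgroup.mem_top b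
      have : Commute a b := by
        induction ha, hb using Subgroup.closure_induction₂ with
        | mem x y hx hy => exact hall x hx y hy
        | one_left y _ => exact Commute.one_left y
        | one_right x _ => exact Commute.one_right x
        | mul_left x y z _ _ _ e1 e2 => exact e1.mul_left e2
        | mul_right x y z _ _ _ e1 e2 => exact e1.mul_right e2
        | inv_left x y _ _ e => exact e.inv_left
        | inv_right x y _ _ e => exact e.inv_right
      exact this.eq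
    have hbot := hsol ⊤ inferInstance (Group.isSolvable_of_comm fun a b =>
      Subtype.ext (hcomm a b))
    exact hne1 d0 hd0 (Subgroup.mem_bot.1 (hbot ▸ Subgroup.mem_top d0))
  -- some pair commutes, by the theorem on isolated involutions and the odd order theorem
  have hex : ∃ x ∈ D, ∃ y ∈ D, Commute x y ∧ x ≠ y := by
    by_contra hno
    push Not at hno
    obtain ⟨P, hP⟩ := (IsPGroup.of_card (p := 2) (G := Subgroup.zpowers d0) (n := 1)
      (by rw [Nat.card_zpowers, hinv d0 hd0, pow_one])).exists_le_sylow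
    obtain ⟨N, hN, hodd, hNc⟩ := Lib.ZStar.UniqueCase.zstar P d0 (hinv d0 hd0)
      (hP (Subgroup.mem_zpowers d0)) fun g hg => by
        set w := g * d0 * g⁻¹
        by_contra hne
        obtain ⟨i, hi⟩ := P.isPGroup' ⟨d0 * w, mul_mem (hP (Subgroup.mem_zpowers d0)) hg⟩
        have hw : w ∈ D := hmem g d0 hd0
        have hdvd : orderOf (d0 * w) ∣ 2 ^ i :=
          orderOf_dvd_of_pow_eq_one (by simpa using congrArg Subtype.val hi)
        obtain ⟨k, -, hk⟩ := (Nat.dvd_prime_pow Nat.prime_two).1 hdvd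
        rcases k with _ | _ | k
        · have e1 : d0 * w = 1 := orderOf_eq_one_iff.1 hk
          exact hne ((eq_inv_of_mul_eq_one_right e1).trans
            (inv_eq_of_mul_eq_one_right (hsq d0 hd0)))
        · exact hne (hno d0 hd0 w hw ((hsq' d0 hd0 w hw).2 (by
            have := pow_orderOf_eq_one (d0 * w); rwa [hk, zero_add, pow_one] at this))).symm
        · have hyD := pow_mem hsq hmem hd0 hw (2 ^ (k + 1))
          have hc : Commute d0 (d0 * (d0 * w) ^ 2 ^ (k + 1)) := by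
            rw [hsq' d0 hd0 _ hyD, ← mul_assoc, hsq d0 hd0, one_mul, ← pow_mul, ← pow_succ, ← hk,
              pow_orderOf_eq_one]
          have e := hno d0 hd0 _ hyD hc
          have e1 : (d0 * w) ^ 2 ^ (k + 1) = 1 := left_eq_mul.1 e
          have h3 := orderOf_dvd_of_pow_eq_one e1
          rw [hk] at h3
          have := Nat.le_of_dvd (by positivity) h3
          have : 2 ^ (k + 1) < 2 ^ (k + 1 + 1) := Nat.pow_lt_pow_right (by norm_num) (by omega)
          omega
    have hNbot := hsol N hN (Lib.OddOrder.FeitThompson.isSolvable_of_odd_card hodd)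
    refine hnab fun x hx y hy => ?_
    obtain ⟨g, hg⟩ := hclass d0 hd0 x hx
    obtain ⟨k, hk⟩ := hclass d0 hd0 y hy
    have hc : ∀ g : G, g * d0 * g⁻¹ = d0 := fun g => by
      have h1 := hNc g
      rw [hNbot, Subgroup.mem_bot] at h1
      have h2 : d0 * g = g * d0 := by
        have := congrArg (fun w => w * g * d0) h1
        simpa [mul_assoc] using this
      rw [← h2, mul_inv_cancel_right]
    rw [← hg, ← hk, hc, hc]
  -- one orbit of each kind
  have horb : ∀ x ∈ D, ∀ y ∈ D, ∀ z ∈ D, x ≠ y → x ≠ z → (Commute x y ↔ Commute x z) →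
      ∃ g : G, g * x * g⁻¹ = x ∧ g * y * g⁻¹ = z := by
    intro x hx y hy z hz hxy hxz hiff
    obtain ⟨y₀, hy₀, z₀, hz₀, hy₁, hz₁, hyz₁, hcov⟩ := hrank x hx
    have hcomm : ∀ {g : G}, Commute g x → ∀ y, Commute x (g * y * g⁻¹) ↔ Commute x y := by
      intro g hg y
      conv_lhs => rw [show x = g * x * g⁻¹ by rw [hg.eq, mul_inv_cancel_right]]
      exact Commute.conj_iff g
    have hor : ∀ w ∈ D, x ≠ w → (∃ g, Commute g x ∧ g * y₀ * g⁻¹ = w) ∨
        (∃ g, Commute g x ∧ g * z₀ * g⁻¹ = w) := by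
      intro w hw hne
      rw [hcov] at hw
      rcases hw with (⟨g, hg, e⟩ | h1) | h1
      · exact absurd (by rw [← e, hg.eq, mul_inv_cancel_right]) hne
      · exact Or.inl h1
      · exact Or.inr h1
    have hboth : ¬ (Commute x y₀ ↔ Commute x z₀) := by
      intro he
      have hval : ∀ w ∈ D, x ≠ w → (Commute x w ↔ Commute x y₀) := by
        intro w hw hne
        rcases hor w hw hne with ⟨g, hg, rfl⟩ | ⟨g, hg, rfl⟩
        · exact hcomm hg _
        · exact (hcomm hg _).trans he.symm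
      by_cases hy' : Commute x y₀
      · apply hnab
        intro a ha b hb
        obtain ⟨k, hk⟩ := hclass a ha x hx
        have : Commute x (k * b * k⁻¹) := by
          by_cases e : x = k * b * k⁻¹
          · exact e ▸ Commute.refl x
          · exact (hval _ (hmem k b hb) e).2 hy'
        rw [← hk] at this
        exact (Commute.conj_iff k).1 this
      · obtain ⟨a, ha, b, hb, hab, hne⟩ := hex
        obtain ⟨k, hk⟩ := hclass a ha x hx
        refine hy' ((hval _ (hmem k b hb) ?_).1 (hk ▸ (Commute.conj_iff k).2 hab))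
        rw [← hk]
        exact fun e => hne (mul_left_cancel (mul_right_cancel e))
    have hsame : ∀ {w₀ : G} {g k : G}, Commute g x → Commute k x → g * w₀ * g⁻¹ = y →
        k * w₀ * k⁻¹ = z → ∃ g : G, g * x * g⁻¹ = x ∧ g * y * g⁻¹ = z := by
      intro w₀ g k hg hk e1 e2
      refine ⟨k * g⁻¹, ?_, by rw [← e1, ← e2]; group⟩
      rw [((hk.mul_left hg.inv_left)).eq, mul_inv_cancel_right]
    rcases hor y hy hxy with ⟨g, hg, e1⟩ | ⟨g, hg, e1⟩ <;>
      rcases hor z hz hxz with ⟨k, hk, e2⟩ | ⟨k, hk, e2⟩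
    · exact hsame hg hk e1 e2
    · exact absurd (by rw [← hcomm hg, e1, hiff, ← e2, hcomm hk]) hboth
    · exact absurd (Iff.symm (by rw [← hcomm hg, e1, hiff, ← e2, hcomm hk])) hboth
    · exact hsame hg hk e1 e2
  -- one order for all non-commuting pairs
  push Not at hnab
  obtain ⟨x₀, hx₀, y₀, hy₀, hxy₀⟩ := hnab
  set n := orderOf (x₀ * y₀) with hn
  have hord : ∀ x ∈ D, ∀ y ∈ D, ¬ Commute x y → orderOf (x * y) = n := by
    intro x hx y hy hxy
    obtain ⟨k, hk⟩ := hclass x hx x₀ hx₀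
    have h1 : ¬ Commute x₀ (k * y * k⁻¹) := hk ▸ fun e => hxy ((Commute.conj_iff k).1 e)
    obtain ⟨g, hg1, hg2⟩ := horb x₀ hx₀ _ (hmem k y hy) y₀ hy₀
      (fun e => h1 (e ▸ Commute.refl x₀)) (fun e => hxy₀ (e ▸ Commute.refl x₀))
      (iff_of_false h1 hxy₀)
    rw [hn, ← hg1, ← hg2, ← hk, ← (MulAut.conj (g * k)).orderOf_eq (x * y), MulAut.conj_apply]
    congr 1
    group
  have hdiv : ∀ k : ℕ, (x₀ * y₀) ^ k ≠ 1 → ((x₀ * y₀) ^ k) ^ 2 = 1 ∨
      orderOf ((x₀ * y₀) ^ k) = n := by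
    intro k _
    have hmemk := pow_mem hsq hmem hx₀ hy₀ k
    have e : x₀ * (x₀ * (x₀ * y₀) ^ k) = (x₀ * y₀) ^ k := by
      rw [← mul_assoc, hsq x₀ hx₀, one_mul]
    by_cases hc : Commute x₀ (x₀ * (x₀ * y₀) ^ k)
    · left
      rw [hsq' x₀ hx₀ _ hmemk, e] at hc
      exact hc
    · right
      rw [← e]
      exact hord _ hx₀ _ hmemk hc
  have hn0 : 0 < n := orderOf_pos _
  have hn12 : 3 ≤ n := by
    by_contra hlt
    refine hxy₀ ((hsq' x₀ hx₀ y₀ hy₀).2 ?_)
    rcases (show n = 1 ∨ n = 2 by omega) with e | e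
    · rw [orderOf_eq_one_iff.1 e, one_pow]
    · rw [← e, hn, pow_orderOf_eq_one]
  -- `n` is four or an odd prime
  have hpr : n = 4 ∨ n.Prime := by
    set q := n.minFac with hq
    have hqp : q.Prime := Nat.minFac_prime (by omega)
    have hqd : q ∣ n := n.minFac_dvd
    by_cases hqn : q = n
    · exact Or.inr (hqn ▸ hqp)
    left
    have ho : orderOf ((x₀ * y₀) ^ q) = n / q := orderOf_pow_of_dvd hqp.ne_zero (hn ▸ hqd)
    have hlt : n / q < n := Nat.div_lt_self hn0 hqp.one_lt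
    obtain ⟨r, hr⟩ := hqd
    have hrq : n / q = r := by rw [hr, Nat.mul_div_cancel_left _ hqp.pos]
    rcases hdiv q (fun e => by
      rw [e, orderOf_one, hrq] at ho
      rw [← ho, mul_one] at hr
      exact hqn hr.symm) with e | e
    · have h2 := orderOf_dvd_of_pow_eq_one e
      rw [ho, hrq] at h2
      rcases (Nat.dvd_prime Nat.prime_two).1 h2 with f | f
      · rw [f, mul_one] at hr
        exact absurd hr.symm hqn
      · subst f
        have hq2 : q ≤ 2 := Nat.minFac_le_of_dvd (le_refl 2) ⟨q, by rw [hr]; ring⟩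
        have : q = 2 := le_antisymm hq2 hqp.two_le
        rw [hr, this]
    · omega
  have hpair : ∀ x ∈ D, ∀ y ∈ D, orderOf (x * y) ∣ 2 ∨ orderOf (x * y) = n := by
    intro x hx y hy
    by_cases hc : Commute x y
    · exact Or.inl (orderOf_dvd_of_pow_eq_one ((hsq' x hx y hy).1 hc))
    · exact Or.inr (hord x hx y hy hc)
  rcases hpr with h4 | hprime
  · exfalso
    have hx2 : IsPGroup 2 (Subgroup.zpowers d0) :=
      IsPGroup.of_card (n := 1) (by rw [Nat.card_zpowers, hinv d0 hd0, pow_one])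
    obtain ⟨N, hN, hN2, hdN⟩ := Lib.Involutions.BaerSuzuki.baer_suzuki_elem hx2 fun g => by
      have hw := hmem g d0 hd0
      rcases eq_or_ne (g * d0 * g⁻¹) d0 with e | e
      · rw [e, Set.pair_eq_singleton, ← Subgroup.zpowers_eq_closure]
        exact hx2
      obtain ⟨k, hk⟩ : ∃ k, orderOf (d0 * (g * d0 * g⁻¹)) = 2 ^ k := by
        rcases hpair d0 hd0 _ hw with f | f
        · rcases (Nat.dvd_prime Nat.prime_two).1 f with f | f
          · exact ⟨0, f⟩
          · exact ⟨1, f⟩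
        · exact ⟨2, f.trans (h4.trans (by norm_num))⟩
      refine IsPGroup.of_card (n := k + 1) ?_
      rw [Lib.Involutions.Basic.card_closure_pair (hinv d0 hd0) (hinv _ hw), hk]
      ring
    haveI := hN2.isNilpotent
    have := hsol N hN inferInstance
    exact hne1 d0 hd0 (Subgroup.mem_bot.1 (this ▸ hdN))
  · rcases (show n = 3 ∨ 5 ≤ n by
      rcases (show n = 3 ∨ n = 4 ∨ 5 ≤ n by omega) with e | e | e
      · exact Or.inl e
      · rw [e] at hprime; norm_num at hprime
      · exact Or.inr e) with h3 | h5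
    · refine ⟨⟨hinv, fun x hx y hy => ?_⟩, ⟨d0, hd0, hD⟩, hgen⟩
      rcases hpair x hx y hy with e | e
      · exact Or.inl (orderOf_dvd_iff_pow_eq_one.1 e)
      · exact Or.inr (h3 ▸ e ▸ pow_orderOf_eq_one _)
    · exfalso
      obtain ⟨a, ha, c, hc, hac, hne⟩ := hex
      have h : RankThreeInv22.Hyp n D := ⟨hprime, h5, hsq, hne1, hmem, hord⟩
      exact h.false_of_trans ha hc hac hne hgen hclass
        (fun x hx y hy z hz e1 e2 => fun n1 n2 => horb x hx y hy z hz n1 n2 (iff_of_true e1 e2)) hsol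

end Cfsg.Agent.S1617
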