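import Cfsg.Statements.S1621
import Cfsg.Agent.Lib.SporJ2.Group

set_option autoImplicit false
open Quaternion
open Cfsg

namespace Cfsg.Agent.S1621

open Cfsg.Agent.Lib.SporJ2
open Quaternion

/-- The icosian Leech lattice has 37800 minimal vectors giving 315 distinct reflections. -/
theorem result : {r : Fin 3 → ℍ[ℝ] | r ∈ Cfsg.Spor.icoLeech ∧ Cfsg.Spor.qip r r = 4}.ncard = 37800 ∧ {f : Equiv.Perm ↥Cfsg.Spor.icoLeech | Cfsg.Spor.IsIcoReflection f}.ncard = 315 := by
  classical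
  have hset : {f : Equiv.Perm ↥Cfsg.Spor.icoLeech | Cfsg.Spor.IsIcoReflection f} = Set.range R := by
    ext f
    refine ⟨fun hf => (exists_R hf).imp fun _ h => h.symm, ?_⟩
    rintro ⟨k, rfl⟩
    exact ⟨⟨_, (vec_spec k.2).2.2.1⟩, (vec_spec k.2).2.2.2, fun x => rfl⟩
  have hnd : units.Nodup := by decide +kernel
  let φ : {u // u ∈ units} × Fin 315 → (Fin 3 → ℍ[ℝ]) := fun p => lmul (val p.1.1) (valT (vec p.2))
  have hφ : Function.Injective φ := by
    rintro ⟨⟨u, hu⟩, j⟩ ⟨⟨u', hu'⟩, k⟩ h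
    change lmul (val u) (valT (vec j)) = lmul (val u') (valT (vec k)) at h
    have hjk : j = k := R_injective (Equiv.ext fun x => Subtype.ext (by
      rw [R_apply, R_apply, ← qrefl_lmul_unit (unit_spec hu).2.1, h,
        qrefl_lmul_unit (unit_spec hu').2.1]))
    subst hjk
    obtain ⟨-, -, -, hq⟩ := vec_spec j.2
    have h4 := congrArg (fun v => Cfsg.Spor.qip v (valT (vec j))) h
    simp only [qip_lmul_left, hq] at h4
    have hne : (4 : ℍ[ℝ]) ≠ 0 := fun e => by
      have := congrArg (fun x : ℍ[ℝ] => x.re) e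
      rw [show (4 : ℍ[ℝ]) = ((4 : ℝ) : ℍ[ℝ]) from rfl] at this
      simp at this
    obtain rfl := val_injective (mul_right_cancel₀ hne h4)
    rfl
  have hr : {r : Fin 3 → ℍ[ℝ] | r ∈ Cfsg.Spor.icoLeech ∧ Cfsg.Spor.qip r r = 4} = Set.range φ := by
    ext r
    constructor
    · rintro ⟨hr, hq⟩
      obtain ⟨u, hu, k, hk, he⟩ := minimal_complete hr hq
      exact ⟨⟨⟨u, hu⟩, ⟨k, hk⟩⟩, he.symm⟩
    · rintro ⟨⟨⟨u, hu⟩, k⟩, rfl⟩
      obtain ⟨-, -, hL, hq⟩ := vec_spec k.2
      refine ⟨lmul_mem_icoLeech (units_mem hu).2 hL, ?_⟩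
      show Cfsg.Spor.qip (lmul _ _) (lmul _ _) = 4
      rw [qip_lmul_left, qip_lmul_right, hq, ← mul_assoc, ← (Commute.ofNat_left 4 (val u)).eq,
        mul_assoc, (unit_spec hu).2.2, mul_one]
  rw [hr, hset, Set.ncard_range_of_injective hφ, Set.ncard_range_of_injective R_injective,
    Nat.card_prod, Nat.card_fin]
  have : Nat.card {u // u ∈ units} = 120 := by
    rw [Nat.subtype_card units.toFinset (fun x => List.mem_toFinset), List.toFinset_card_of_nodup hnd,
      units_length]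
  exact ⟨by rw [this], rfl⟩

end Cfsg.Agent.S1621
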