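import Cfsg.Statements.S1622
import Cfsg.Agent.Lib.SporJ2.Group

set_option autoImplicit false
open Quaternion
open Cfsg

namespace Cfsg.Agent.S1622

open Cfsg.Agent.Lib.SporJ2

/-- The reflection group is transitive on its 315 reflections by conjugation. -/
theorem result (f f' : Equiv.Perm ↥Cfsg.Spor.icoLeech) (hf : Cfsg.Spor.IsIcoReflection f) (hf' : Cfsg.Spor.IsIcoReflection f') : ∃ g ∈ Cfsg.Spor.twoJ2, g * f * g⁻¹ = f' := by
  obtain ⟨j, rfl⟩ := exists_R hf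
  obtain ⟨k, rfl⟩ := exists_R hf'
  have key : ∀ k, ∃ g ∈ Cfsg.Spor.twoJ2, g * R 0 * g⁻¹ = R k :=
    tree_inductionF (P := fun k => ∃ g ∈ Cfsg.Spor.twoJ2, g * R 0 * g⁻¹ = R k)
      ⟨1, one_mem _, by simp⟩ fun g p ⟨x, hx, he⟩ =>
        ⟨R (gF g) * x, mul_mem (R_mem _) hx, by rw [R_step, ← he, mul_inv_rev, R_inv]; group⟩
  obtain ⟨a, ha, ea⟩ := key j
  obtain ⟨b, hb, eb⟩ := key k
  exact ⟨b * a⁻¹, mul_mem hb (inv_mem ha), by rw [← ea, ← eb]; group⟩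

end Cfsg.Agent.S1622
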