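import Cfsg.Statements.S1623
import Cfsg.Agent.Lib.SporJ2.Cent

set_option autoImplicit false
open Quaternion
open Cfsg

namespace Cfsg.Agent.S1623

open Cfsg.Agent.Lib.SporJ2

/-- A reflection centraliser in the Hall–Janko group is an extension of an extraspecial group of order 32 by the alternating group of degree 5. -/
theorem result (f : Equiv.Perm ↥Cfsg.Spor.icoLeech) (hf : Cfsg.Spor.IsIcoReflection f) (hfm : f ∈ Cfsg.Spor.twoJ2) : ∃ (Q : Subgroup ↥(Subgroup.centralizer {(QuotientGroup.mk ⟨f, hfm⟩ : Cfsg.Spor.J2)})) (_ : Q.Normal), Nat.card Q = 32 ∧ Cfsg.IsExtraspecial 2 Q ∧ Nonempty (↥(Subgroup.centralizer {(QuotientGroup.mk ⟨f, hfm⟩ : Cfsg.Spor.J2)}) ⧸ Q ≃* alternatingGroup (Fin 5)) := by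
  obtain ⟨j, rfl⟩ := exists_R hf
  have key : ∀ k, ∃ c : Cfsg.Spor.J2, c * rbar 0 * c⁻¹ = rbar k :=
    tree_inductionF (P := fun k => ∃ c : Cfsg.Spor.J2, c * rbar 0 * c⁻¹ = rbar k) ⟨1, by simp⟩
      fun g p ⟨c, he⟩ => ⟨rbar (gF g) * c, by
        have e : (⟨R (sigF g p), R_mem _⟩ : Cfsg.Spor.twoJ2) =
            ⟨R (gF g), R_mem _⟩ * ⟨R p, R_mem _⟩ * ⟨R (gF g), R_mem _⟩⁻¹ :=
          Subtype.ext (by simp only [Subgroup.coe_mul, InvMemClass.coe_inv, R_inv, R_step])
        rw [mul_inv_rev, show rbar (sigF g p) = rbar (gF g) * rbar p * (rbar (gF g))⁻¹ from congrArg _ e, ← he]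
        group⟩
  obtain ⟨c, hc⟩ := key j
  obtain ⟨e⟩ := exists_centralizer_equiv
  have hm : (Subgroup.centralizer {rbar 0}).map (MulAut.conj c).toMonoidHom = Subgroup.centralizer {rbar j} := by
    ext x
    rw [Subgroup.mem_map_equiv, Subgroup.mem_centralizer_singleton_iff, Subgroup.mem_centralizer_singleton_iff,
      ← hc, MulAut.conj_symm_apply]
    constructor
    · intro h
      have h' := congrArg (fun y => c * y * c⁻¹) h
      simpa [mul_assoc] using h'
    · intro h
      have h' := congrArg (fun y => c⁻¹ * y * c) h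
      simpa [mul_assoc] using h'
  exact structure_of_equiv ((((MulAut.conj c).subgroupMap (Subgroup.centralizer {rbar 0})).trans
    (MulEquiv.subgroupCongr hm)).symm.trans e)

end Cfsg.Agent.S1623
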