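import Cfsg.Statements.S1626
import Cfsg.Agent.Lib.SporMatrix.J3Lines

set_option autoImplicit false
open scoped MatrixGroups
open Matrix
open Cfsg

namespace Cfsg.Agent.S1626

open Cfsg.Agent.Lib.SporMatrix Code9 J3 J3Lines Matrix
attribute [local instance] lineAct

/-- Orbits of the triple cover of the third Janko group on lines of its 9-space over the field with 4 elements: the line through the first basis vector has exactly 23256 images, and the isotropic lines (nonzero v with Σ v_z³ = 0) form a single orbit. -/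
theorem result (F : Type) [Field F] [Fintype F] (hF : Fintype.card F = 4) (ω : F) (hω : ω ^ 2 + ω + 1 = 0) : {L : Submodule F (Cfsg.Spor.F9 → F) | ∃ g ∈ Cfsg.Spor.threeJ3 F ω, L = F ∙ ((g : Matrix Cfsg.Spor.F9 Cfsg.Spor.F9 F) *ᵥ (Pi.single (0 : Cfsg.Spor.F9) (1 : F) : Cfsg.Spor.F9 → F))}.ncard = 23256 ∧ ∀ v w : Cfsg.Spor.F9 → F, v ≠ 0 → w ≠ 0 → ∑ z, (v z) ^ 3 = 0 → ∑ z, (w z) ^ 3 = 0 → ∃ g ∈ Cfsg.Spor.threeJ3 F ω, ∃ c : F, c ≠ 0 ∧ (g : Matrix Cfsg.Spor.F9 Cfsg.Spor.F9 F) *ᵥ v = c • w := by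
  classical
  have hg := good_of_card hF hω
  refine ⟨?_, fun v w hv hw hv0 hw0 => ?_⟩
  · rw [← ncard_point_orbit hg hF]
    congr 1
    have hone : decV ω 1 = (Pi.single (0 : Cfsg.Spor.F9) (1 : F) : Cfsg.Spor.F9 → F) := by
      have hb : ∀ z : Cfsg.Spor.F9, (1 : ℕ).testBit (9 + pos z) = false ∧
          ((1 : ℕ).testBit (pos z) = true ↔ z = 0) := by decide +kernel
      funext z
      by_cases h : z = 0
      · rw [decV, (hb z).1, (hb z).2.2 h, h, Pi.single_eq_same]; simp [bit]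
      · rw [decV, (hb z).1, Bool.eq_false_iff.2 fun h' => h ((hb z).2.1 h'), Pi.single_eq_of_ne h]
        simp [bit]
    ext L
    constructor
    · rintro ⟨g, hgm, rfl⟩
      refine ⟨⟨g, hgm⟩, ?_⟩
      show (⟨g, hgm⟩ : ↥(Cfsg.Spor.threeJ3 F ω)) • ln ω 1 = _
      rw [ln, smul_span, hone]
      rfl
    · rintro ⟨g, rfl⟩
      refine ⟨g.1, g.2, ?_⟩
      show g • ln ω 1 = _
      rw [ln, smul_span, hone]
      rfl
  · obtain ⟨g, hgv⟩ := iso_line_mem hg hF hv hv0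
    obtain ⟨h, hhw⟩ := iso_line_mem hg hF hw hw0
    have e1 : g • ln ω 72 = F ∙ v := hgv
    have e2 : h • ln ω 72 = F ∙ w := hhw
    have e : (h * g⁻¹) • (F ∙ v) = F ∙ w := by rw [← e1, mul_smul, inv_smul_smul, e2]
    rw [smul_span] at e
    obtain ⟨c, hc⟩ := Submodule.mem_span_singleton.1
      (e ▸ Submodule.mem_span_singleton_self _ : toMat (h * g⁻¹) *ᵥ v ∈ F ∙ w)
    refine ⟨((h * g⁻¹ : ↥(Cfsg.Spor.threeJ3 F ω)) : GL Cfsg.Spor.F9 F), (h * g⁻¹).2, c, ?_, hc.symm⟩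
    rintro rfl
    rw [zero_smul] at hc
    rw [← hc, Submodule.span_zero_singleton] at e
    exact hw (Submodule.span_singleton_eq_bot.1 e.symm)

end Cfsg.Agent.S1626
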