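import Cfsg.Statements.S1628
import Cfsg.Agent.Lib.RuLattice.Basic

set_option autoImplicit false
open Cfsg

namespace Cfsg.Agent.S1628

/-- The Conway–Wales lattice as stored is even with no vectors of true norm 2: stored norms are multiples of 8, never equal to 8, and the minimum over nonzero vectors is 16. -/
theorem result : (∀ x ∈ Cfsg.Spor.ruLattice, (8 : ℤ) ∣ Cfsg.Spor.ruNorm x) ∧ (∀ x ∈ Cfsg.Spor.ruLattice, Cfsg.Spor.ruNorm x ≠ 8) ∧ (∀ x ∈ Cfsg.Spor.ruLattice, x ≠ 0 → 16 ≤ Cfsg.Spor.ruNorm x) ∧ ∃ x ∈ Cfsg.Spor.ruLattice, Cfsg.Spor.ruNorm x = 16 := by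
  open Cfsg.Agent.Lib.RuLattice.Basic in
  have h8 : ∀ x ∈ Cfsg.Spor.ruLattice, (8 : ℤ) ∣ Cfsg.Spor.ruNorm x := fun x hx => by
    rw [ruNorm_eq]; exact eight_dvd (ruLattice_le hx)
  open Cfsg.Agent.Lib.RuLattice.Basic in
  have hr : ∀ x ∈ Cfsg.Spor.ruLattice, Cfsg.Spor.ruNorm x ≠ 8 := fun x hx => by
    rw [ruNorm_eq]; exact no_root (ruLattice_le hx)
  refine ⟨h8, hr, fun x hx hne => ?_, ?_⟩
  · have h0 : Cfsg.Spor.ruNorm x ≠ 0 := by
      intro h
      apply hne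
      funext p
      have h1 := (Finset.sum_eq_zero_iff_of_nonneg fun p _ => GaussianInt.norm_nonneg (x p)).1 h p
        (Finset.mem_univ p)
      exact GaussianInt.norm_eq_zero.1 h1
    have hpos : 0 ≤ Cfsg.Spor.ruNorm x := Finset.sum_nonneg fun p _ => GaussianInt.norm_nonneg (x p)
    obtain ⟨k, hk⟩ := h8 x hx
    have := hr x hx
    omega
  · refine ⟨Cfsg.Spor.ruTable.getD 0 0, ?_, by decide +kernel⟩
    rw [Cfsg.Spor.ruLattice, AddSubgroup.mem_sInf]
    intro L hL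
    refine hL.1 _ ?_
    have hlen : (0 : ℕ) < Cfsg.Spor.ruTable.length := by decide
    rw [List.getD_eq_getElem _ _ hlen]
    exact List.getElem_mem hlen

end Cfsg.Agent.S1628
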