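import Cfsg.Statements.S1635
import Cfsg.Agent.Lib.GolayPunct.Basic

set_option autoImplicit false
open Cfsg

namespace Cfsg.Agent.S1635

open Cfsg.Agent.Lib.Golay Cfsg.Agent.Lib.GolayPunct.Basic

/-- Coset leaders of the length-24 code: a coset contains a unique word of weight ≤ 3, or else exactly six words of weight 4 and none lighter. -/
theorem result (w : Cfsg.GolayPt → ZMod 2) : ({v : Cfsg.GolayPt → ZMod 2 | hammingNorm v ≤ 4 ∧ w - v ∈ Cfsg.golayCode}.ncard = 1 ∧ ∃ v : Cfsg.GolayPt → ZMod 2, hammingNorm v ≤ 3 ∧ w - v ∈ Cfsg.golayCode) ∨ ({v : Cfsg.GolayPt → ZMod 2 | hammingNorm v ≤ 4 ∧ w - v ∈ Cfsg.golayCode}.ncard = 6 ∧ ∀ v : Cfsg.GolayPt → ZMod 2, w - v ∈ Cfsg.golayCode → hammingNorm v ≤ 4 → hammingNorm v = 4) := by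
  rcases coset_leaders w with ⟨v, hv, hc, huniq⟩ | ⟨hsix, hfour, _⟩
  · refine Or.inl ⟨?_, v, hv, hc⟩
    rw [Set.ncard_eq_one]
    refine ⟨v, Set.eq_singleton_iff_unique_mem.2 ⟨⟨hv.trans (by norm_num), hc⟩, ?_⟩⟩
    exact fun u hu => huniq u hu.1 hu.2
  · exact Or.inr ⟨hsix, hfour⟩

end Cfsg.Agent.S1635
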