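import Cfsg.Statements.S1636
import Cfsg.Agent.Lib.GolayPunct.Basic

set_option autoImplicit false
open Cfsg

namespace Cfsg.Agent.S1636

open Cfsg.Agent.Lib.Golay Cfsg.Agent.Lib.GolayPunct.Basic

/-- the punctured word of a message -/
def punct (k : Fin 4096) : ZMod 23 → ZMod 2 := fun x => wordOfMask (enc k) (some x)

theorem norm_punct (k : Fin 4096) : hammingNorm (punct k) = pc24 (enc k % 8388608) := by
  rw [← card_setOfMask]
  refine Finset.card_bij (fun x _ => some x) ?_ ?_ ?_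
  · intro x hx
    simp only [Finset.mem_filter, Finset.mem_univ, true_and] at hx
    have hlt : x.val < 23 := x.val_lt
    rw [mem_setOfMask, show (8388608 : ℕ) = 2 ^ 23 from rfl, Nat.testBit_mod_two_pow]
    cases hb : (enc k).testBit x.val <;> simp [punct, wordOfMask, idx, hlt, hb] at hx ⊢
  · intro a _ b _ h
    exact Option.some.inj h
  · intro p hp
    rw [mem_setOfMask, show (8388608 : ℕ) = 2 ^ 23 from rfl, Nat.testBit_mod_two_pow] at hp
    simp only [Bool.and_eq_true, decide_eq_true_eq] at hp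
    cases p with
    | none => simp [idx] at hp
    | some x =>
      have h2 : (enc k).testBit x.val = true := hp.2
      exact ⟨x, Finset.mem_filter.2 ⟨Finset.mem_univ _, by simp [punct, wordOfMask, idx, h2]⟩, rfl⟩

theorem punct_injective : Function.Injective punct := by
  intro a b h
  apply Fin.ext
  have hw : wordOfMask (enc a) = wordOfMask (enc b) := by
    refine eq_of_close (mem_golayCode_iff.2 ⟨a, a.2, rfl⟩) (mem_golayCode_iff.2 ⟨b, b.2, rfl⟩) ?_
    have hz : (fun x : ZMod 23 => (wordOfMask (enc a) - wordOfMask (enc b)) (some x)) = 0 := by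
      funext x
      simpa [sub_eq_zero, punct] using congrFun h x
    rw [hammingNorm_option, hz, hammingNorm_zero]
    split_ifs <;> omega
  rw [← enc_mod a.2, wordOfMask_injOn (enc_lt a.2) (enc_lt b.2) hw, enc_mod b.2]

/-- The punctured length-23 code has weight distribution 0^1 7^253 8^506 11^1288 12^1288 15^506 16^253 23^1. -/
theorem result : {u : ZMod 23 → ZMod 2 | ∃ w ∈ Cfsg.golayCode, ∀ x : ZMod 23, u x = w (some x)}.ncard = 4096 ∧ {u : ZMod 23 → ZMod 2 | u ∈ {u : ZMod 23 → ZMod 2 | ∃ w ∈ Cfsg.golayCode, ∀ x : ZMod 23, u x = w (some x)} ∧ hammingNorm u = 7}.ncard = 253 ∧ {u : ZMod 23 → ZMod 2 | u ∈ {u : ZMod 23 → ZMod 2 | ∃ w ∈ Cfsg.golayCode, ∀ x : ZMod 23, u x = w (some x)} ∧ hammingNorm u = 8}.ncard = 506 ∧ {u : ZMod 23 → ZMod 2 | u ∈ {u : ZMod 23 → ZMod 2 | ∃ w ∈ Cfsg.golayCode, ∀ x : ZMod 23, u x = w (some x)} ∧ hammingNorm u = 11}.ncard = 1288 ∧ {u : ZMod 23 → ZMod 2 | u ∈ {u : ZMod 23 → ZMod 2 | ∃ w ∈ Cfsg.golayCode, ∀ x : ZMod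 23, u x = w (some x)} ∧ hammingNorm u = 12}.ncard = 1288 ∧ {u : ZMod 23 → ZMod 2 | u ∈ {u : ZMod 23 → ZMod 2 | ∃ w ∈ Cfsg.golayCode, ∀ x : ZMod 23, u x = w (some x)} ∧ hammingNorm u = 15}.ncard = 506 ∧ {u : ZMod 23 → ZMod 2 | u ∈ {u : ZMod 23 → ZMod 2 | ∃ w ∈ Cfsg.golayCode, ∀ x : ZMod 23, u x = w (some x)} ∧ hammingNorm u = 16}.ncard = 253 ∧ ∀ u ∈ {u : ZMod 23 → ZMod 2 | ∃ w ∈ Cfsg.golayCode, ∀ x : ZMod 23, u x = w (some x)}, u ≠ 0 → 7 ≤ hammingNorm u := by
  have hs : {u : ZMod 23 → ZMod 2 | ∃ w ∈ Cfsg.golayCode, ∀ x : ZMod 23, u x = w (some x)} =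
      Set.range punct := by
    ext u
    constructor
    · rintro ⟨w, hw, he⟩
      obtain ⟨k, hk, rfl⟩ := mem_golayCode_iff.1 hw
      exact ⟨⟨k, hk⟩, (funext he).symm⟩
    · rintro ⟨k, rfl⟩
      exact ⟨_, mem_golayCode_iff.2 ⟨k, k.2, rfl⟩, fun x => rfl⟩
  have hcount : ∀ n, {u : ZMod 23 → ZMod 2 | u ∈ Set.range punct ∧ hammingNorm u = n}.ncard =
      ((List.range 4096).filter fun k => Nat.beq (pc24 (enc k % 8388608)) n).length := by
    intro n
    have e : {u : ZMod 23 → ZMod 2 | u ∈ Set.range punct ∧ hammingNorm u = n} =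
        punct '' {k : Fin 4096 | pc24 (enc k % 8388608) = n} := by
      ext u
      simp only [Set.mem_ofPred_eq, Set.mem_range, Set.mem_image]
      constructor
      · rintro ⟨⟨k, rfl⟩, h⟩
        exact ⟨k, by rw [← norm_punct]; exact h, rfl⟩
      · rintro ⟨k, h, rfl⟩
        exact ⟨⟨k, rfl⟩, by rw [norm_punct]; exact h⟩
    rw [e, Set.ncard_image_of_injective _ punct_injective,
      ← Set.ncard_image_of_injective _ Fin.val_injective,
      ← List.toFinset_card_of_nodup (List.Nodup.filter _ List.nodup_range),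
      ← Set.ncard_coe_finset]
    congr 1
    ext k
    simp only [Set.mem_image, Set.mem_ofPred_eq, List.coe_toFinset, List.mem_filter,
      List.mem_range, Nat.beq_eq]
    constructor
    · rintro ⟨k, h, rfl⟩
      exact ⟨k.2, h⟩
    · rintro ⟨hk, h⟩
      exact ⟨⟨k, hk⟩, h, rfl⟩
  rw [hs]
  refine ⟨?_, ?_, ?_, ?_, ?_, ?_, ?_, ?_⟩
  · rw [← Set.image_univ, Set.ncard_image_of_injective _ punct_injective, Set.ncard_univ,
      Nat.card_fin]
  all_goals try (rw [hcount]; decide +kernel)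
  rintro u ⟨k, rfl⟩ hne
  have hchk : ((List.range 4096).all fun j => Nat.beq j 0 || Nat.ble 7 (pc24 (enc j % 8388608))) =
      true := by decide +kernel
  have hk := List.all_eq_true.1 hchk k.1 (List.mem_range.2 k.2)
  simp only [Bool.or_eq_true, Nat.beq_eq, Nat.ble_eq] at hk
  rcases hk with hk | hk
  · exfalso
    apply hne
    funext x
    simp [punct, hk, enc_zero, wordOfMask_zero]
  · rw [norm_punct]; exact hk

end Cfsg.Agent.S1636
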