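import Cfsg.Statements.S1637
import Cfsg.Agent.Lib.GolayPunct.Basic

set_option autoImplicit false
open Cfsg

namespace Cfsg.Agent.S1637

open Cfsg.Agent.Lib.Golay Cfsg.Agent.Lib.GolayPunct.Basic

/-- The punctured length-23 code is a perfect 3-error-correcting code: each word of length 23 is within distance 3 of exactly one codeword. -/
theorem result (u : ZMod 23 → ZMod 2) : ∃! c : ZMod 23 → ZMod 2, c ∈ {u : ZMod 23 → ZMod 2 | ∃ w ∈ Cfsg.golayCode, ∀ x : ZMod 23, u x = w (some x)} ∧ hammingDist u c ≤ 3 := by
  have hdn : ∀ a b : ZMod 23 → ZMod 2, hammingDist a b = hammingNorm (a - b) := by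
    intro a b
    rw [hammingDist_eq_hammingNorm]
    congr 1
    funext x
    simp only [Pi.sub_apply, Pi.add_apply, Pi.neg_apply, CharTwo.sub_eq_add, CharTwo.neg_eq]
  let w : GolayPt → ZMod 2 := fun p => p.elim 0 u
  have key : ∃ c : GolayPt → ZMod 2, c ∈ Cfsg.golayCode ∧
      hammingNorm (fun x => u x - c (some x)) ≤ 3 := by
    rcases coset_leaders w with ⟨v, hv, hc, _⟩ | ⟨_, _, hall⟩
    · refine ⟨w - v, hc, ?_⟩
      have he : (fun x : ZMod 23 => u x - (w - v) (some x)) = fun x => v (some x) := by
        funext x; simp [w]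
      rw [he]
      rw [hammingNorm_option] at hv
      omega
    · obtain ⟨v, hc, h4, h1⟩ := hall none
      refine ⟨w - v, hc, ?_⟩
      have he : (fun x : ZMod 23 => u x - (w - v) (some x)) = fun x => v (some x) := by
        funext x; simp [w]
      rw [he]
      rw [hammingNorm_option, h1, if_neg (one_ne_zero)] at h4
      omega
  obtain ⟨c, hc, hd⟩ := key
  refine ⟨fun x => c (some x), ⟨⟨c, hc, fun x => rfl⟩, ?_⟩, ?_⟩
  · rw [hdn]; exact hd
  · rintro e ⟨⟨c', hc', he⟩, hd'⟩
    have hdist : hammingDist e (fun x => c (some x)) ≤ 6 := by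
      have h1 := hammingDist_triangle_left e (fun x => c (some x)) u
      have h2 : hammingDist u (fun x => c (some x)) ≤ 3 := by
        rw [hdn]; exact hd
      omega
    have heq : c' = c := by
      refine eq_of_close hc' hc ?_
      rw [hammingNorm_option]
      rw [hdn] at hdist
      have : (fun x : ZMod 23 => (c' - c) (some x)) = e - fun x => c (some x) := by
        funext x; simp [he x]
      rw [this]
      split_ifs <;> omega
    funext x
    rw [he x, heq]

end Cfsg.Agent.S1637
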