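import Cfsg.Statements.S1638
import Cfsg.Agent.Lib.M24Config.Move

set_option autoImplicit false
open scoped Pointwise
open Cfsg

namespace Cfsg.Agent.S1638

open Cfsg.Agent.Lib.Golay Cfsg.Agent.Lib.SporStruct.Masks Cfsg.Agent.Lib.M24Config
open scoped Pointwise

/-- transitivity certificate -/
def stepAll : Cfsg.Agent.Lib.M24Config.Step where
  ms := []
  cs := [0xb82d5a4e5183dcd62d4941cc520c41, 0x5883388a1c8f5140b46cd317aed7, 0xbba8ab116d7c52899d90286a219a40]
  n := 24
  packed := 0x800000400000200000100000080000040000020000010000008000004000002000001000000800000400000200000100000080000040000020000010000008000004000002000001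
  tree := 0x10050090201400a0200c0080100c0150000c00d0000f01000004005000130140200e011000060070000b00c0100300f02012004000120130201600e020020060100200b000020030200101201001016000010020100001700000001

/-- transitivity certificate -/
def stepOther : Cfsg.Agent.Lib.M24Config.Step where
  ms := [1]
  cs := [0x8152f6216375a77089b53a8d224680, 0xa4a0fb5c51a91676166d50d09305c0]
  n := 23
  packed := 0x800000400000200000100000080000040000020000010000008000004000002000001000000800000400000200000100000080000040000020000010000008000004000002
  tree := 0x100b006010100010001200b0100c00a000050090100f0100000f002010080120000800c0101101601004007000040050101400f0100300801015011000150040100e0140100d0030000d0150001300e0100000d00000013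

/-- transitivity certificate -/
def stepPairs : Cfsg.Agent.Lib.M24Config.Step where
  ms := [2, 1]
  cs := [0x824d6244ec9a9d4bc968195e26d420, 0xaa4f26a19122e7613ae583cc3a2820]
  n := 231
  packed := 0xc00000a000006000009000005000003000008800004800002800001800008400004400002400001400000c00008200004200002200001200000a000006000081000041000021000011000009000005000003000080800040800020800010800008800004800002800001800080400040400020400010400008400004400002400001400000c00080200040200020200010200008200004200002200001200000a000006000801000401000201000101000081000041000021000011000009000005000003000800800400800200800100800080800040800020800010800008800004800002800001800800400400400200400100400080400040400020400010400008400004400002400001400000c00800200400200200200100200080200040200020200010200008200004200002200001200000a000006008001004001002001001001000801000401000201000101000081000041000021000011000009000005000003008000804000802000801000800800800400800200800100800080800040800020800010800008800004800002800001808000404000402000401000400800400400400200400100400080400040400020400010400008400004400002400001400000c08000204000202000201000200800200400200200200100200080200040200020200010200008200004200002200001200000a000006080001040001020001010001008001004001002001001001000801000401000201000101000081000041000021000011000009000005000003080000840000820000810000808000804000802000801000800800800400800200800100800080800040800020800010800008800004800002800001880000440000420000410000408000404000402000401000400800400400400200400100400080400040400020400010400008400004400002400001400000c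
  tree := 0xdd03a0109003201046058000460a70008905200074070010e30da000e30d00101e0dd0009a0c2000200b50005404401030027010b60d80102606b0101307e010d50630100309001008007000cc0a9000420c70105f046010e6089010a100f000140cf0000b096000dc0cb0104a05900073074000d7067000990e30009e06e0108d0c1000b30650103701e010be09a000be02e0003d020010290170002900c0003301001049054010530c90007a07c000cd0300001f08e000240310104502a000450c60001d0b6010040910000402600038013010d10d50101c011010ca03901041003010680a8000680180008a07f0106d0840006d01a0105d0830005d03f0002d008010d40aa000980cc000a205e000e50570003e075010770420007705f010800e6000800a1010b90de0002f0140108c00b0008c0dc000a003b0108f09b0008f0930101904a000190730000e06c0009f0d701079043010bc099010bb09e000bb08d000230b300097086010b1037000b10be0107b03d0104804f000480c40005a0290105603300056049010470530107204c0007207a000ac0e2010640cd0006401f000660240003c0450103501d00035004000ab038010600d10006001c010500ca00050041000d2068010ae08a000ae088010ad06d000e105d010df081000df02d010210d401006098000060a20108b0e50008b09d0107803e00078077010d6080010870b90008702f010820a40008208c010b00a0000b008f010360190003600e01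0bf09f010b4079000b40bc010610bb00061023010090970101605b000160b10000507b010510ba00051048000c805a0104b04e0004b0560107604700076072010220ac000220640105c0660005c03c010c3035000c30ab010e4060000e4050010ce0d2000ce0ae0000d0ad010280e1010a50df0102b021010a3006000a308b010d9078000d90d6010b8087000b8082010940b0000940360101b0bf0001b0b401012061000340090102c0160002c00501002051000020c80107d04b01069076000690220104d05c0004d0c3010af0e4000af0ce0106200d00062028010d30a5000d302b010a60a3010250d9000250b80100a0940000a0c00100101b00001012000e0034010c502c010710020007107d000920690106f04d010850af00085062010b20d3000b20a6010150250001500a0109c0010009c0e0000400c5010bd071000bd092010db06f000db0850106a0b20006a0150105509c00055040010950bd000950db010b706a000b705501000095000000b7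

/-- transitivity certificate -/
def stepIn : Cfsg.Agent.Lib.M24Config.Step where
  ms := [12, 2, 1]
  cs := [0x3a50f74c978aa0db50c5aad9210c20, 0x53d36a9992a1d7743a0d8cc8510c20]
  n := 30
  packed := 0x300000240000140000820000090000088000018000804000024000202000102000042000400800001400400200000a00080100010100008100001080000480400040000840000240800020020020004020001010000410000090
  tree := 0x10090150000901d01008018000130170000101b0100a01a000160090101100b0001100f0000e00800010013010050010000500a00019016000070110101400e0001400c00003010010020050000201201006019000060070100d0140000d003000040020101c0060001c00d010000040000001c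

/-- transitivity certificate -/
def stepFar : Cfsg.Agent.Lib.M24Config.Step where
  ms := [12, 2, 1]
  cs := [0x3a50f74c978aa0db50c5aad9210c20, 0x53d36a9992a1d7743a0d8cc8510c20]
  n := 160
  packed := 0xc00000a000006000009000005000008800004800002800001800008400004400000c00004200002200001200000a000006000081000041000021000011000005000003000080800040800020800010800004800002800040400020400010400008400004400001400000c00080200040200008200002200001200000a000006000801000401000201000101000081000041000021000011000009000005000003000800800200800100800080800040800020800010800008800004800002800001800800400400400200400100400080400040400020400010400008400004400002400000c008002002002001002000802000402000202000102000082000042000022000012000006008001004001002001001001000401000201000041000021000011000009000005000003008000804000802000801000800800800400800200800100800080800040800020800008800002800001808000402000401000400800400400400200400100400080400040400020400010400004400001400000c04000202000201000200800200400200100200080200020200010200008200004200002200001200000a0000060800010400010200010100010080010040010020010010010008010004010002010000810000210000110000050000030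
  tree := 0x10420230001e0480000a0940104906300049026000240530009707c0105806b0005800c000380440103e07b0003e0170101f09001054061000110720104d06d0100101b0102107f010150020000d0420104a033000320920004702a0109c05d0001907401028029000280660108d0840008d0520103d03f0003d01e0100e0180000e04e0107109f0000900a000730490000708f01059024000590970103a0580003a0380001d03e0107e01f01046054000460110107a0620008704d0101a00101096021000960360009e02d01012005000120160104c08a00020015010300640003008c010140060103406e0003400d0105c04a0005c04301082032000820470108509b0106c09c0006c07801003019000030280105008d000500250102b04f0002b03d000750570101c00e010830710008300901091073000910070008b088000650990108e0590008e03a0100b01d0000b07e0105f0460005f07a000670870008900f0100801a000080960102209a000220600107009e01004012000040950105104c000510200104003000040014010310340003105c0105b0820005b0850109306c00093003010860500002e02b0103c0750003c01c01039083000560910106a0690104b08b010770650007708e0101000b0001005f0107606700076089010130080001302201027070000270040109805100098040010550310005505b01037093000370860108102e0008103c01080039000800560104106a0109d04b0103b0770003b010010450760004501301035027000350980105e0550005e0370105a0810005a0800102f0410002f09d0106803b000680450107d0350007d05e0102c05a0002c02f010790680007907d0106f02c0006f0790000006f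

/-- transitivity certificate -/
def stepOne : Cfsg.Agent.Lib.M24Config.Step where
  ms := [12, 2, 1]
  cs := [0x3a50f74c978aa0db50c5aad9210c20, 0x53d36a9992a1d7743a0d8cc8510c20]
  n := 40
  packed := 0x800008400008200008100008080008040008020008010008008008004008002008001008000808000408000208000108000088000048000028000018800004400004200004100004080004040004020004010004008004004004002004001004000804000404000204000104000084000044000024000014
  tree := 0x100d01c0000d01401018009000180010101f0100001f00d0102000e000200130002400b00007026000110180100a0170000a01a0101201f00012019010050200000501601003021000060240101d0070001d00c010230110002300a0001b01201025005000250040101e0030001e006010080270000801d010020230000201b0100f0250000f01e00015008010220020002200f0100001500000022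

def needMask : ℕ := 15

def sMask : ℕ := 12

def qOther (m : ℕ) : Bool := !Nat.beq m 1
def qPairs (m : ℕ) : Bool := Nat.beq (m &&& 3) 0
def inOct (m : ℕ) : Bool :=
  (masksOfWeight 8).any fun o => Nat.beq (o &&& (needMask ||| m)) (needMask ||| m)
def qClass (k : ℕ) (b : Bool) (m : ℕ) : Bool :=
  qPairs m && Nat.beq (pc24 (sMask &&& m)) k && (inOct m == b)

theorem stepAll_ok : stepAll.ok ((ksub 24 1).filter fun _ => true) = true := by decide +kernel
theorem stepOther_ok : stepOther.ok ((ksub 24 1).filter qOther) = true := by decide +kernel
theorem stepPairs_ok : stepPairs.ok ((ksub 24 2).filter qPairs) = true := by decide +kernel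
theorem stepIn_ok : stepIn.ok ((ksub 24 2).filter (qClass 0 true)) = true := by decide +kernel
theorem stepFar_ok : stepFar.ok ((ksub 24 2).filter (qClass 0 false)) = true := by decide +kernel
theorem stepOne_ok : stepOne.ok ((ksub 24 2).filter fun m => qPairs m && Nat.beq (pc24 (sMask &&& m)) 1) =
    true := by decide +kernel
theorem count_in : ((ksub 24 2).filter (qClass 0 true)).length = 30 := by decide +kernel
theorem count_far : ((ksub 24 2).filter (qClass 0 false)).length = 160 := by decide +kernel
theorem pairs_nodup : (ksub 24 2).Nodup := by decide +kernel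
theorem pairs_facts : ∀ m ∈ ksub 24 2, m < 2 ^ 24 ∧ pc24 m = 2 := by decide +kernel

/-- a pair avoiding the two base points -/
def Pair0 (t : Finset GolayPt) : Prop := t.card = 2 ∧ pt 0 ∉ t ∧ pt 1 ∉ t

/-- the pair lies with the base pair and points in an octad -/
def Oct0 (t : Finset GolayPt) : Prop :=
  ∃ o ∈ octads, pt 0 ∈ o ∧ pt 1 ∈ o ∧ setOfMask sMask ∪ t ⊆ o

theorem qPairs_iff (m : ℕ) : (pt 0 ∉ setOfMask m ∧ pt 1 ∉ setOfMask m) ↔ qPairs m = true := by
  rw [mem_setOfMask, mem_setOfMask, idx_pt (show 0 < 24 by decide), idx_pt (show 1 < 24 by decide),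
    qPairs, Nat.beq_eq, show (3 : ℕ) = 2 ^ 2 - 1 from rfl, Nat.and_two_pow_sub_one_eq_mod]
  simp only [Nat.testBit_eq_decide_div_mod_eq, decide_eq_true_eq]
  norm_num
  omega

theorem pair_mem {t : Finset GolayPt} (h : Pair0 t) {c : ℕ → Bool} (hc : c (maskOfSet t) = true) :
    maskOfSet t ∈ (ksub 24 2).filter c :=
  List.mem_filter.2 ⟨maskOfSet_mem_ksub h.1, hc⟩

theorem pair0_qPairs {t : Finset GolayPt} (h : Pair0 t) : qPairs (maskOfSet t) = true := by
  rw [← qPairs_iff, setOfMask_maskOfSet]; exact h.2

theorem oct0_iff (t : Finset GolayPt) : Oct0 t ↔ inOct (maskOfSet t) = true := by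
  have hn : setOfMask (needMask ||| maskOfSet t) = {pt 0, pt 1} ∪ (setOfMask sMask ∪ t) := by
    rw [show needMask = (2 ^ 0 ||| 2 ^ 1) ||| sMask from rfl, setOfMask_or, setOfMask_or, setOfMask_or,
      setOfMask_two_pow (show 0 < 24 by decide), setOfMask_two_pow (show 1 < 24 by decide),
      setOfMask_maskOfSet, Finset.union_assoc]
    rfl
  simp only [Oct0, inOct, List.any_eq_true, Nat.beq_eq]
  constructor
  · rintro ⟨o, ho, h0, h1, hst⟩
    refine ⟨maskOfSet o, maskOfSet_mem_weight ho, ?_⟩
    refine setOfMask_injOn (lt_of_le_of_lt Nat.and_le_left (maskOfSet_lt o))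
      (Nat.or_lt_two_pow (by decide) (maskOfSet_lt t)) ?_
    rw [setOfMask_and, setOfMask_maskOfSet, hn, Finset.inter_eq_right]
    refine Finset.union_subset ?_ hst
    simp [Finset.insert_subset_iff, h0, h1]
  · rintro ⟨m, hm, he⟩
    refine ⟨setOfMask m, setOfMask_mem_weight hm, ?_⟩
    have := congrArg setOfMask he
    rw [setOfMask_and, hn, Finset.inter_eq_right, Finset.union_subset_iff] at this
    simp only [Finset.insert_subset_iff, Finset.singleton_subset_iff] at this
    exact ⟨this.1.1, this.1.2, this.2⟩

theorem class_iff (k : ℕ) (b : Bool) (m : ℕ) (hm : m ∈ ksub 24 2) :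
    (Pair0 (setOfMask m) ∧ (setOfMask sMask ∩ setOfMask m).card = k ∧ (Oct0 (setOfMask m) ↔ b = true)) ↔
      qClass k b m = true := by
  rw [Pair0, ← setOfMask_and, card_setOfMask, card_setOfMask, qPairs_iff, oct0_iff,
    maskOfSet_setOfMask (pairs_facts m hm).1, qClass]
  simp only [(pairs_facts m hm).2, true_and, Bool.and_eq_true, Nat.beq_eq, beq_iff_eq]
  cases inOct m <;> cases b <;> simp

theorem count (k : ℕ) (b : Bool) :
    {t | Pair0 t ∧ (setOfMask sMask ∩ t).card = k ∧ (Oct0 t ↔ b = true)}.ncard =
      ((ksub 24 2).filter (qClass k b)).length := by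
  refine ncard_sets (pairs_nodup.filter _) (fun m hm => (pairs_facts m (List.mem_filter.1 hm).1).1) ?_ ?_
  · intro t ht
    have hm := maskOfSet_mem_ksub ht.1.1
    refine List.mem_filter.2 ⟨hm, ?_⟩
    rw [← class_iff k b _ hm, setOfMask_maskOfSet]
    exact ht
  · intro m hm
    obtain ⟨hm, hq⟩ := List.mem_filter.1 hm
    exact (class_iff k b m hm).2 hq

theorem norm {p q : GolayPt} (hpq : p ≠ q) {s : Finset GolayPt}
    (hs : s.card = 2 ∧ p ∉ s ∧ q ∉ s) :
    ∃ g ∈ M24, g p = pt 0 ∧ g q = pt 1 ∧ g • s = setOfMask sMask := by
  obtain ⟨a, ha, hap⟩ := Step.move_point stepAll_ok (p := p) (i := 0) (by decide) rfl rfl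
  have hne : a q ≠ pt 0 := hap ▸ a.injective.ne hpq.symm
  have hq1 : qOther (2 ^ idx (a q)) = true := by
    simp only [qOther, Bool.not_eq_true', ← Bool.not_eq_true, Nat.beq_eq]
    intro e
    exact hne (by rw [← Nat.pow_right_injective le_rfl (e.trans (pow_zero 2).symm), pt_idx])
  obtain ⟨b, hb, hbq⟩ := Step.move_point stepOther_ok (p := a q) (i := 1) (by decide) hq1
    (by decide +kernel)
  have hbp : (b * a) p = pt 0 := by
    rw [Equiv.Perm.mul_apply, hap]
    exact fixes_point hb (by decide) (by simp [stepOther])
  have hP : Pair0 ((b * a) • s) := by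
    refine ⟨by rw [Finset.card_smul_finset]; exact hs.1, ?_, ?_⟩
    · rw [← hbp, mem_smul_iff']; exact hs.2.1
    · rw [← show (b * a) q = pt 1 from hbq, mem_smul_iff']; exact hs.2.2
  obtain ⟨c, hc, hcs⟩ := Step.transitive_sets stepPairs_ok (pair_mem hP (pair0_qPairs hP))
    (b := sMask) (by decide +kernel)
  refine ⟨c * (b * a), Subgroup.mul_mem _ (fixes_le_M24 _ hc)
    (Subgroup.mul_mem _ (fixes_le_M24 _ hb) (fixes_le_M24 _ ha)), ?_, ?_, ?_⟩
  · rw [Equiv.Perm.mul_apply, hbp]
    exact fixes_point hc (by decide) (by simp [stepPairs])
  · rw [Equiv.Perm.mul_apply, show (b * a) q = pt 1 from hbq]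
    exact fixes_point hc (by decide) (by simp [stepPairs])
  · rw [mul_smul, hcs]


/-- Fix two points p ≠ q and a pair s of two further points. Among the pairs avoiding p, q and disjoint from s, exactly 30 lie in an octad together with p, q and s and exactly 160 do not; and any two pairs other than s that meet s in equally many points and agree on that octad property are carried to one another by an element of the group of the length-24 code fixing p, q and s. -/
theorem result (p q : Cfsg.GolayPt) (hpq : p ≠ q) (s : Finset Cfsg.GolayPt) (hs : (s.card = 2 ∧ p ∉ s ∧ q ∉ s)) : {t : Finset Cfsg.GolayPt | (t.card = 2 ∧ p ∉ t ∧ q ∉ t) ∧ Disjoint s t ∧ (∃ o ∈ Cfsg.octads, p ∈ o ∧ q ∈ o ∧ s ∪ t ⊆ o)}.ncard = 30 ∧ {t : Finset Cfsg.GolayPt | (t.card = 2 ∧ p ∉ t ∧ q ∉ t) ∧ Disjoint s t ∧ ¬ (∃ o ∈ Cfsg.octads, p ∈ o ∧ q ∈ o ∧ s ∪ t ⊆ o)}.ncard = 160 ∧ ∀ t t' : Finset Cfsg.GolayPt, (t.card = 2 ∧ p ∉ t ∧ q ∉ t) → (t'.card = 2 ∧ p ∉ t' ∧ q ∉ t') → t ≠ s → t' ≠ s → (s ∩ t).card = (s ∩ t').card → ((∃ o ∈ Cfsg.octads, p ∈ o ∧ q ∈ o ∧ s ∪ t ⊆ o) ↔ (∃ o ∈ Cfsg.octads, p ∈ o ∧ q ∈ o ∧ s ∪ t' ⊆ o)) → ∃ g : Equiv.Perm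 Cfsg.GolayPt, g ∈ Cfsg.M24 ∧ g p = p ∧ g q = q ∧ g • s = s ∧ g • t = t' := by
  obtain ⟨g, hg, hgp, hgq, hgs⟩ := norm hpq hs
  have hpair : ∀ t, (t.card = 2 ∧ p ∉ t ∧ q ∉ t) ↔ Pair0 (g • t) := fun t => by
    rw [Pair0, Finset.card_smul_finset, ← hgp, ← hgq, mem_smul_iff', mem_smul_iff']
  have hoct : ∀ t, (∃ o ∈ Cfsg.octads, p ∈ o ∧ q ∈ o ∧ s ∪ t ⊆ o) ↔ Oct0 (g • t) := fun t => by
    rw [Oct0, ← hgp, ← hgq, ← hgs]
    constructor
    · rintro ⟨o, ho, h1, h2, h3⟩
      exact ⟨g • o, (smul_mem_octads_iff hg).2 ho, (mem_smul_iff' g o p).2 h1,
        (mem_smul_iff' g o q).2 h2,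
        by rw [← Finset.smul_finset_union, Finset.smul_finset_subset_smul_finset_iff]; exact h3⟩
    · rintro ⟨o, ho, h1, h2, h3⟩
      refine ⟨g⁻¹ • o, (smul_mem_octads_iff (Subgroup.inv_mem _ hg)).2 ho, ?_, ?_, ?_⟩
      · rwa [← mem_smul_iff' g, smul_inv_smul]
      · rwa [← mem_smul_iff' g, smul_inv_smul]
      · rwa [← Finset.smul_finset_subset_smul_finset_iff (a := g), smul_inv_smul,
          Finset.smul_finset_union]
  have hmeet : ∀ t, (setOfMask sMask ∩ (g • t)).card = (s ∩ t).card := fun t => by
    rw [← hgs, inter_card_smul]
  have cnt : ∀ b, {t : Finset Cfsg.GolayPt | (t.card = 2 ∧ p ∉ t ∧ q ∉ t) ∧ Disjoint s t ∧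
      ((∃ o ∈ Cfsg.octads, p ∈ o ∧ q ∈ o ∧ s ∪ t ⊆ o) ↔ b = true)}.ncard =
      ((ksub 24 2).filter (qClass 0 b)).length := by
    intro b
    rw [← count, ← ncard_comp_smul g fun t =>
      Pair0 t ∧ (setOfMask sMask ∩ t).card = 0 ∧ (Oct0 t ↔ b = true)]
    refine congrArg Set.ncard (Set.ext fun t => ?_)
    simp only [Set.mem_ofPred_eq, hpair, hoct, hmeet, Finset.card_eq_zero,
      Finset.disjoint_iff_inter_eq_empty]
  refine ⟨?_, ?_, ?_⟩
  · rw [← count_in, ← cnt true]
    simp only [iff_true]
  · rw [← count_far, ← cnt false]
    simp only [Bool.false_eq_true, iff_false]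
  intro t t' ht ht' hts ht's hcard hiff
  have P1 := (hpair t).1 ht
  have P2 := (hpair t').1 ht'
  have finish : ∀ {S : Cfsg.Agent.Lib.M24Config.Step} {c : ℕ → Bool},
      S.ok ((ksub 24 2).filter c) = true → S.ms = [sMask, 2 ^ 1, 2 ^ 0] →
      c (maskOfSet (g • t)) = true → c (maskOfSet (g • t')) = true →
      ∃ f : Equiv.Perm Cfsg.GolayPt, f ∈ Cfsg.M24 ∧ f p = p ∧ f q = q ∧ f • s = s ∧ f • t = t' := by
    intro S c hS hms c1 c2
    obtain ⟨f, hf, he⟩ := Step.transitive_sets₂ hS (pair_mem P1 c1) (pair_mem P2 c2)
    rw [hms] at hf
    refine ⟨g⁻¹ * f * g, conj_mem hg hf,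
      conj_point hgp (fixes_point hf (show 0 < 24 by decide) (by simp)),
      conj_point hgq (fixes_point hf (show 1 < 24 by decide) (by simp)), conj_set ?_, conj_set he⟩
    rw [hgs, hf.2 sMask (by simp)]
  have hp1 := pair0_qPairs P1
  have hp2 := pair0_qPairs P2
  have hk1 : pc24 (sMask &&& maskOfSet (g • t)) = (s ∩ t).card := by
    rw [← card_inter_eq' (rfl : (setOfMask sMask ∩ (g • t)).card = _), hmeet]
  have hk2 : pc24 (sMask &&& maskOfSet (g • t')) = (s ∩ t).card := by
    rw [← card_inter_eq' (rfl : (setOfMask sMask ∩ (g • t')).card = _), hmeet, hcard]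
  have hcases : (s ∩ t).card = 0 ∨ (s ∩ t).card = 1 := by
    have h2 : (s ∩ t).card ≤ 2 := hs.1 ▸ Finset.card_le_card Finset.inter_subset_left
    have hne : (s ∩ t).card ≠ 2 := fun h => by
      have e1 : s ∩ t = t :=
        Finset.eq_of_subset_of_card_le Finset.inter_subset_right (by omega)
      have e2 : t = s :=
        Finset.eq_of_subset_of_card_le (fun x hx => (Finset.mem_inter.1 (e1.symm ▸ hx)).1) (by omega)
      exact hts e2
    omega
  rcases hcases with hk | hk <;> rw [hk] at hk1 hk2
  · by_cases hb : ∃ o ∈ Cfsg.octads, p ∈ o ∧ q ∈ o ∧ s ∪ t ⊆ o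
    · have b1 := (oct0_iff _).1 ((hoct t).1 hb)
      have b2 := (oct0_iff _).1 ((hoct t').1 (hiff.1 hb))
      exact finish stepIn_ok rfl (by simp [qClass, hp1, hk1, b1]) (by simp [qClass, hp2, hk2, b2])
    · have b1 : inOct (maskOfSet (g • t)) = false := by
        rw [← Bool.not_eq_true, ← oct0_iff, ← hoct]; exact hb
      have b2 : inOct (maskOfSet (g • t')) = false := by
        rw [← Bool.not_eq_true, ← oct0_iff, ← hoct, ← hiff]; exact hb
      exact finish stepFar_ok rfl (by simp [qClass, hp1, hk1, b1]) (by simp [qClass, hp2, hk2, b2])
  · exact finish stepOne_ok rfl (by simp [hp1, hk1]) (by simp [hp2, hk2])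

end Cfsg.Agent.S1638
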