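import Cfsg.Statements.S1639
import Cfsg.Agent.Lib.M24Config.Dodecad

set_option autoImplicit false
open scoped Pointwise
open Cfsg

namespace Cfsg.Agent.S1639

open Cfsg.Agent.Lib.Golay Cfsg.Agent.Lib.SporStruct.Masks Cfsg.Agent.Lib.M24Config
open Cfsg.Agent.Lib.M24Config.DataD Cfsg.Agent.Lib.M24Config.Dodecad
open scoped Pointwise

def qMeet (k m : ℕ) : Bool := m.testBit pD && Nat.beq (pc24 (dod0 &&& m)) k

theorem meet_iff (k m : ℕ) :
    (pt pD ∈ setOfMask m ∧ (setOfMask dod0 ∩ setOfMask m).card = k) ↔ qMeet k m = true := by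
  rw [← setOfMask_and, card_setOfMask, qMeet, Bool.and_eq_true, Nat.beq_eq, mem_setOfMask,
    idx_pt (show pD < 24 by decide)]

theorem count (k : ℕ) :
    {s | s ∈ dodecads ∧ pt pD ∈ s ∧ (setOfMask dod0 ∩ s).card = k}.ncard =
      ((masksOfWeight 12).filter (qMeet k)).length :=
  ncard_weight fun m _ => meet_iff k m

theorem ok4 : stepMeet4.ok ((masksOfWeight 12).filter (qMeet 4)) = true := by decide +kernel
theorem ok6 : stepMeet6.ok ((masksOfWeight 12).filter (qMeet 6)) = true := by decide +kernel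
theorem ok8 : stepMeet8.ok ((masksOfWeight 12).filter (qMeet 8)) = true := by decide +kernel
theorem count4 : ((masksOfWeight 12).filter (qMeet 4)).length = 165 := by decide +kernel
theorem count6 : ((masksOfWeight 12).filter (qMeet 6)).length = 792 := by decide +kernel
theorem count8 : ((masksOfWeight 12).filter (qMeet 8)).length = 330 := by decide +kernel
theorem self_only : (masksOfWeight 12).filter (qMeet 12) = [dod0] := by decide +kernel
theorem meet_cases : ((masksOfWeight 12).filter fun m => m.testBit pD).all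
    (fun m => [4, 6, 8, 12].contains (pc24 (dod0 &&& m))) = true := by decide +kernel


/-- The point stabiliser acts on the 1288 dodecads through the point with rank 4 and subdegrees 1, 165, 330, 792, distinguished by intersection 4, 8, 6 with the fixed dodecad. -/
theorem result (x : Cfsg.GolayPt) (d : Finset Cfsg.GolayPt) (hd : d ∈ Cfsg.dodecads) (hx : x ∈ d) : {d' : Finset Cfsg.GolayPt | d' ∈ Cfsg.dodecads ∧ x ∈ d' ∧ (d ∩ d').card = 4}.ncard = 165 ∧ {d' : Finset Cfsg.GolayPt | d' ∈ Cfsg.dodecads ∧ x ∈ d' ∧ (d ∩ d').card = 8}.ncard = 330 ∧ {d' : Finset Cfsg.GolayPt | d' ∈ Cfsg.dodecads ∧ x ∈ d' ∧ (d ∩ d').card = 6}.ncard = 792 ∧ ∀ d' d'' : Finset Cfsg.GolayPt, d' ∈ Cfsg.dodecads → d'' ∈ Cfsg.dodecads → x ∈ d' → x ∈ d'' → (d ∩ d').card = (d ∩ d'').card → ∃ g : Equiv.Perm Cfsg.GolayPt, g ∈ Cfsg.M24 ∧ g x = x ∧ g • d = d ∧ g • d' = d'' := by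
  obtain ⟨g, hg, hed, hgp⟩ := norm_one hd hx
  have tr : ∀ k y, (y ∈ Cfsg.dodecads ∧ x ∈ y ∧ (d ∩ y).card = k) ↔
      (g • y ∈ Cfsg.dodecads ∧ pt pD ∈ g • y ∧ (setOfMask dod0 ∩ (g • y)).card = k) := by
    intro k y
    rw [smul_mem_dodecads_iff hg, ← hgp, mem_smul_iff', ← hed, inter_card_smul]
  have cnt : ∀ k, {y : Finset Cfsg.GolayPt | y ∈ Cfsg.dodecads ∧ x ∈ y ∧ (d ∩ y).card = k}.ncard =
      ((masksOfWeight 12).filter (qMeet k)).length := by
    intro k
    rw [← count, ← ncard_comp_smul g fun s =>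
      s ∈ Cfsg.dodecads ∧ pt pD ∈ s ∧ (setOfMask dod0 ∩ s).card = k]
    exact congrArg Set.ncard (Set.ext fun y => tr k y)
  refine ⟨(cnt 4).trans count4, (cnt 8).trans count8, (cnt 6).trans count6, ?_⟩
  intro d' d'' hd' hd'' hx' hx'' h
  have h' := (tr _ d').1 ⟨hd', hx', rfl⟩
  have h'' := (tr _ d'').1 ⟨hd'', hx'', h.symm⟩
  have m' := mask_weight_mem (Q := fun s => pt pD ∈ s ∧ (setOfMask dod0 ∩ s).card = (d ∩ d').card)
    (fun m _ => meet_iff _ m) h'.1 h'.2
  have m'' := mask_weight_mem (Q := fun s => pt pD ∈ s ∧ (setOfMask dod0 ∩ s).card = (d ∩ d').card)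
    (fun m _ => meet_iff _ m) h''.1 h''.2
  have hk : (d ∩ d').card ∈ [4, 6, 8, 12] := by
    have hb := mask_weight_mem (Q := fun s => pt pD ∈ s) (q := fun m => m.testBit pD)
      (fun m _ => by rw [mem_setOfMask, idx_pt (show pD < 24 by decide)]) h'.1 h'.2.1
    have := List.all_eq_true.1 meet_cases _ hb
    rwa [List.contains_iff_mem, ← card_inter_eq' h'.2.2] at this
  have main : ∃ f ∈ Fixes [2 ^ pD, dod0], f • (g • d') = g • d'' := by
    simp only [List.mem_cons, List.not_mem_nil, or_false] at hk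
    rcases hk with hk | hk | hk | hk <;> rw [hk] at m' m''
    · exact Step.transitive_sets₂ ok4 m' m''
    · exact Step.transitive_sets₂ ok6 m' m''
    · exact Step.transitive_sets₂ ok8 m' m''
    · rw [self_only, List.mem_singleton] at m' m''
      exact ⟨1, Subgroup.one_mem _, by rw [one_smul]; exact maskOfSet_injective (m'.trans m''.symm)⟩
  obtain ⟨f, hf, he⟩ := main
  refine ⟨g⁻¹ * f * g, conj_mem hg hf,
    conj_point hgp (fixes_point hf (show pD < 24 by decide) (by simp)), conj_set ?_, conj_set he⟩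
  rw [hed, hf.2 dod0 (by simp)]

end Cfsg.Agent.S1639
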