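import Cfsg.Statements.S1640
import Cfsg.Agent.Lib.SporStruct.LeechCounts

set_option autoImplicit false
open Cfsg

namespace Cfsg.Agent.S1640

open Cfsg.Agent.Lib Cfsg.Agent.Lib.SporStruct in
/-- The stabiliser of a vector of customary norm 6 is transitive on the 11178 minimal vectors of customary inner product −2 with it. -/
theorem result (u : ↥Cfsg.leechLattice) (hu : Cfsg.sqNorm (u : Cfsg.GolayPt → ℤ) = 48) : {x : ↥Cfsg.leechLattice | Cfsg.sqNorm (x : Cfsg.GolayPt → ℤ) = 32 ∧ Cfsg.dotInt (u : Cfsg.GolayPt → ℤ) (x : Cfsg.GolayPt → ℤ) = -16}.ncard = 11178 ∧ ∀ x ∈ {x : ↥Cfsg.leechLattice | Cfsg.sqNorm (x : Cfsg.GolayPt → ℤ) = 32 ∧ Cfsg.dotInt (u : Cfsg.GolayPt → ℤ) (x : Cfsg.GolayPt → ℤ) = -16}, ∀ x' ∈ {x : ↥Cfsg.leechLattice | Cfsg.sqNorm (x : Cfsg.GolayPt → ℤ) = 32 ∧ Cfsg.dotInt (u : Cfsg.GolayPt → ℤ) (x : Cfsg.GolayPt → ℤ) = -16}, ∃ g : ↥Cfsg.Co0, g • u = u ∧ g • x = x' := by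
  refine ⟨?_, fun x hx x' hx' => ?_⟩
  · rw [← (LeechCounts.count48 (u := u) hu).2.2.1, LeechCounts.N, ← Set.ncard_coe_finset]
    congr 1
    ext v
    simp only [Finset.coe_filter, LeechCounts.mem_shell, Set.mem_ofPred_eq]
    exact Iff.rfl
  · obtain ⟨hx, hxd⟩ := hx
    obtain ⟨hx', hxd'⟩ := hx'
    obtain ⟨g, g1, g2⟩ := LeechPairs.transitive48_16 (t := -x) (v := u) (t' := -x') (v' := u)
      (by simpa [Leech.sqNorm_neg] using hx) hu
      (by simp only [Leech.vec, AddSubgroup.coe_neg]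
          rw [LeechPairs.dot_comm, LeechPairs.dot_neg_right, hxd]; norm_num)
      (by simpa [Leech.sqNorm_neg] using hx') hu
      (by simp only [Leech.vec, AddSubgroup.coe_neg]
          rw [LeechPairs.dot_comm, LeechPairs.dot_neg_right, hxd']; norm_num)
    refine ⟨g, g2, ?_⟩
    rw [Leech.smul_neg'] at g1
    exact neg_injective g1

end Cfsg.Agent.S1640
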