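import Cfsg.Statements.S1641
import Cfsg.Agent.Lib.SporStruct.LeechCo3

set_option autoImplicit false
open Cfsg

namespace Cfsg.Agent.S1641

open Cfsg.Agent.Lib Cfsg.Agent.Lib.SporStruct Leech LeechPairs LeechCounts LeechMcLRank LeechCo3
open Finset

/-- The octad with a given mask. -/
theorem oct_mem {m : ℕ} (h : Golay.inCode m = true ∧ Golay.pc24 m = 8) :
    Golay.setOfMask m ∈ octads :=
  Golay.mem_wordsOfWeight_iff.2 ⟨m, Golay.mem_masksOfWeight.2 h, rfl⟩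

/-- A representative with its count against the hundred gives an orbit. -/
theorem exists_rep (c : ℕ) (β V : ℤ) (m : ℕ) (N : Finset GolayPt) {T n K : ℕ}
    (hc : c = 0 ∨ c = 2) (hV : 4 * ((c : ℤ) + β) = V)
    (hm : Golay.inCode m = true ∧ Golay.pc24 m = 8)
    (hN : N ⊆ Golay.setOfMask m ∧ N.card = c ∧ mk (Golay.setOfMask m) N a0 = (c : ℤ) ∧
      mk (Golay.setOfMask m) N b0 = β)
    (hT : (Tg c β).card = T) (htr : Trans c β)
    (hn : 1 + (((univ : Finset GolayPt) \ {a0, b0}).filter fun k =>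
        ∑ i, mk (Golay.setOfMask m) N i - 4 * mk (Golay.setOfMask m) N k = V).card +
      ((Golay.masksOfWeight 8).filter fun o => decide (a0 ∈ Golay.setOfMask o ∧
        b0 ∈ Golay.setOfMask o ∧
          2 * ∑ i ∈ Golay.setOfMask o, mk (Golay.setOfMask m) N i = V)).length = n)
    (hK : K * n = 100 * T) (hn0 : 0 < n) :
    ∃ z ∈ Tg c β, (MulAction.orbit Stab0 z).ncard = K := by
  classical
  have h : Idx c β (Golay.setOfMask m) N := ⟨oct_mem hm, hN⟩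
  refine ⟨_, elt_mem_Tg hc h, Nat.eq_of_mul_eq_mul_right hn0 ?_⟩
  rw [hK]
  refine orbit_count hV (elt_mem_Tg hc h) hT htr ?_
  rw [elt_apply (idx_facts hc h).1 (idx_facts hc h).2, count_A _ V ?_, hn]
  rw [dot_x0, hN.2.2.1, hN.2.2.2, hV]

theorem rep_m8 : ∃ z ∈ Tg 0 2, (MulAction.orbit Stab0 z).ncard = 352 :=
  exists_rep (n := 50) 0 2 8 1302533 ∅ (Or.inl rfl) (by norm_num) (by decide +kernel)
    (by decide +kernel) card_m8 trans_m8 (by decide +kernel) rfl (by norm_num)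

theorem rep_zero : ∃ z ∈ Tg 0 0, (MulAction.orbit Stab0 z).ncard = 4125 :=
  exists_rep (n := 8) 0 0 0 4845570 ∅ (Or.inl rfl) (by norm_num) (by decide +kernel)
    (by decide +kernel) card_zero trans_zero (by decide +kernel) rfl (by norm_num)

theorem rep_p8 : ∃ z ∈ Tg 2 0, (MulAction.orbit Stab0 z).ncard = 5600 :=
  exists_rep (n := 66) 2 0 8 13938692 {Golay.pt 2, Golay.pt 12} (Or.inr rfl) (by norm_num)
    (by decide +kernel) (by decide +kernel) card_p8 trans_p8 (by decide +kernel) rfl (by norm_num)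

theorem rep_p16 : ∃ z ∈ Tg 2 (-2), (MulAction.orbit Stab0 z).ncard = 1100 :=
  exists_rep (n := 42) 2 (-2) 0 13062145 {b0, Golay.pt 12} (Or.inr rfl) (by norm_num)
    (by decide +kernel) (by decide +kernel) card_p16 trans_p16 (by decide +kernel) rfl (by norm_num)

/-- The orbits exhaust the standard configuration. -/
theorem standard : ∃ z₁ z₂ z₃ z₄ : leechLattice,
    (MulAction.orbit Stab0 z₁).ncard = 352 ∧ (MulAction.orbit Stab0 z₂).ncard = 1100 ∧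
    (MulAction.orbit Stab0 z₃).ncard = 4125 ∧ (MulAction.orbit Stab0 z₄).ncard = 5600 ∧
    {y : leechLattice | sqNorm (vec y) = 32 ∧ dotInt (vec u0) (vec y) = 16} =
      {t0} ∪ MulAction.orbit Stab0 z₁ ∪ MulAction.orbit Stab0 z₂ ∪ MulAction.orbit Stab0 z₃ ∪
        MulAction.orbit Stab0 z₄ := by
  classical
  obtain ⟨z₁, m₁, c₁⟩ := rep_m8
  obtain ⟨z₂, m₂, c₂⟩ := rep_p16
  obtain ⟨z₃, m₃, c₃⟩ := rep_zero
  obtain ⟨z₄, m₄, c₄⟩ := rep_p8
  refine ⟨z₁, z₂, z₃, z₄, c₁, c₂, c₃, c₄, ?_⟩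
  set M : Set leechLattice :=
    {y : leechLattice | sqNorm (vec y) = 32 ∧ dotInt (vec u0) (vec y) = 16} with hM
  have hfin : M.Finite := (finite_shell 32).subset fun y hy => hy.1
  have hMc : M.ncard = 11178 := by
    have e : M = ↑((shell 32).filter fun y => dotInt (vec u0) (vec y) = 16) := by
      ext y; simp [hM, mem_shell]
    rw [e, Set.ncard_coe_finset]
    exact (count48 (norm_fiveBase a0)).2.2.2.1
  have hsub : ∀ {c : ℕ} {β : ℤ} {z : leechLattice}, z ∈ Tg c β →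
      ∀ y ∈ MulAction.orbit Stab0 z, y ∈ M ∧ dotInt (vec t0) (vec y) = 4 * ((c : ℤ) - β) := by
    rintro c β z hz _ ⟨⟨g, hg⟩, rfl⟩
    obtain ⟨hn, ha, hb, hs⟩ := mem_Tg.1 hz
    obtain ⟨g1, g2⟩ := mem_stab0.1 hg
    refine ⟨⟨?_, ?_⟩, ?_⟩
    · show sqNorm (vec (g • z)) = 32
      rw [norm_smul', hn]
    · show dotInt (vec u0) (vec (g • z)) = 16
      rw [dot_smul_left g1, dot_u0, hs, ha]; ring
    · show dotInt (vec t0) (vec (g • z)) = _
      rw [dot_smul_left g2, dot_t0, ha, hb]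
  have ht : t0 ∈ M ∧ dotInt (vec t0) (vec t0) = 32 :=
    ⟨⟨norm_t0, by rw [dot_comm, dot_t0_u0]⟩, by rw [dot_self, norm_t0]⟩
  set O₁ := MulAction.orbit Stab0 z₁
  set O₂ := MulAction.orbit Stab0 z₂
  set O₃ := MulAction.orbit Stab0 z₃
  set O₄ := MulAction.orbit Stab0 z₄
  have f₁ : O₁.Finite := hfin.subset fun y hy => (hsub m₁ y hy).1
  have f₂ : O₂.Finite := hfin.subset fun y hy => (hsub m₂ y hy).1
  have f₃ : O₃.Finite := hfin.subset fun y hy => (hsub m₃ y hy).1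
  have f₄ : O₄.Finite := hfin.subset fun y hy => (hsub m₄ y hy).1
  symm
  refine Set.eq_of_subset_of_ncard_le ?_ ?_ hfin
  · rintro y ((((rfl | h) | h) | h) | h)
    exacts [ht.1, (hsub m₁ y h).1, (hsub m₂ y h).1, (hsub m₃ y h).1, (hsub m₄ y h).1]
  · rw [hMc, Set.ncard_union_eq _ ((((Set.finite_singleton _).union f₁).union f₂).union f₃) f₄,
      Set.ncard_union_eq _ (((Set.finite_singleton _).union f₁).union f₂) f₃,
      Set.ncard_union_eq _ ((Set.finite_singleton _).union f₁) f₂,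
      Set.ncard_union_eq _ (Set.finite_singleton _) f₁, Set.ncard_singleton, c₁, c₂, c₃, c₄]
    all_goals
      rw [Set.disjoint_left]
      intro y h h'
      simp only [Set.mem_union, Set.mem_singleton_iff] at h
    · rcases h with rfl
      have := (hsub m₁ _ h').2; have := ht.2; omega
    · have := (hsub m₂ _ h').2
      rcases h with rfl | h
      · have := ht.2; omega
      · have := (hsub m₁ _ h).2; omega
    · have := (hsub m₃ _ h').2
      rcases h with (rfl | h) | h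
      · have := ht.2; omega
      · have := (hsub m₁ _ h).2; omega
      · have := (hsub m₂ _ h).2; omega
    · have := (hsub m₄ _ h').2
      rcases h with ((rfl | h) | h) | h
      · have := ht.2; omega
      · have := (hsub m₁ _ h).2; omega
      · have := (hsub m₂ _ h).2; omega
      · have := (hsub m₃ _ h).2; omega

/-- The third Conway group acts on the 11178 cosets of the Higman–Sims group with rank 5 and subdegrees 1, 352, 1100, 4125, 5600. -/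
theorem result (u x : ↥Cfsg.leechLattice) (hu : Cfsg.sqNorm (u : Cfsg.GolayPt → ℤ) = 48) (hx : x ∈ {x : ↥Cfsg.leechLattice | Cfsg.sqNorm (x : Cfsg.GolayPt → ℤ) = 32 ∧ Cfsg.dotInt (u : Cfsg.GolayPt → ℤ) (x : Cfsg.GolayPt → ℤ) = -16}) : ∃ y₁ ∈ {x : ↥Cfsg.leechLattice | Cfsg.sqNorm (x : Cfsg.GolayPt → ℤ) = 32 ∧ Cfsg.dotInt (u : Cfsg.GolayPt → ℤ) (x : Cfsg.GolayPt → ℤ) = -16}, ∃ y₂ ∈ {x : ↥Cfsg.leechLattice | Cfsg.sqNorm (x : Cfsg.GolayPt → ℤ) = 32 ∧ Cfsg.dotInt (u : Cfsg.GolayPt → ℤ) (x : Cfsg.GolayPt → ℤ) = -16}, ∃ y₃ ∈ {x : ↥Cfsg.leechLattice | Cfsg.sqNorm (x : Cfsg.GolayPt → ℤ) = 32 ∧ Cfsg.dotInt (u : Cfsg.GolayPt → ℤ) (x : Cfsg.GolayPt → ℤ) = -16}, ∃ y₄ ∈ {x : ↥Cfsg.leechLattice | Cfsg.sqNorm (x : Cfsg.GolayPt → ℤ) = 32 ∧ Cfsg.dotInt (u : Cfsg.GolayPt → ℤ) (x : Cfsg.GolayPt → ℤ) = -16}, (MulAction.orbit ↥(MulAction.stabilizer ↥Cfsg.Co0 u ⊓ MulAction.stabilizer ↥Cfsg.Co0 x) y₁).ncard = 352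 ∧ (MulAction.orbit ↥(MulAction.stabilizer ↥Cfsg.Co0 u ⊓ MulAction.stabilizer ↥Cfsg.Co0 x) y₂).ncard = 1100 ∧ (MulAction.orbit ↥(MulAction.stabilizer ↥Cfsg.Co0 u ⊓ MulAction.stabilizer ↥Cfsg.Co0 x) y₃).ncard = 4125 ∧ (MulAction.orbit ↥(MulAction.stabilizer ↥Cfsg.Co0 u ⊓ MulAction.stabilizer ↥Cfsg.Co0 x) y₄).ncard = 5600 ∧ {x : ↥Cfsg.leechLattice | Cfsg.sqNorm (x : Cfsg.GolayPt → ℤ) = 32 ∧ Cfsg.dotInt (u : Cfsg.GolayPt → ℤ) (x : Cfsg.GolayPt → ℤ) = -16} = {x} ∪ MulAction.orbit ↥(MulAction.stabilizer ↥Cfsg.Co0 u ⊓ MulAction.stabilizer ↥Cfsg.Co0 x) y₁ ∪ MulAction.orbit ↥(MulAction.stabilizer ↥Cfsg.Co0 u ⊓ MulAction.stabilizer ↥Cfsg.Co0 x) y₂ ∪ MulAction.orbit ↥(MulAction.stabilizer ↥Cfsg.Co0 u ⊓ MulAction.stabilizer ↥Cfsg.Co0 x) y₃ ∪ MulAction.orbit ↥(MulAction.stabilizer ↥Cfsg.Co0 u ⊓ MulAction.stabilizer ↥Cfsg.Co0 x) y₄ := by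
  classical
  obtain ⟨hxn, hxu⟩ := hx
  have hn : sqNorm (vec (-x)) = 32 := by
    show sqNorm (-(x : GolayPt → ℤ)) = 32
    rw [sqNorm_neg]; exact hxn
  have hd : dotInt (vec (-x)) (vec u) = 16 := by
    rw [dot_comm]
    show dotInt (u : GolayPt → ℤ) (-(x : GolayPt → ℤ)) = 16
    rw [dot_neg_right, hxu]; norm_num
  obtain ⟨g, g1, g2⟩ :=
    transitive48_16 (v' := u0) hn hu hd norm_t0 (norm_fiveBase a0) dot_t0_u0
  obtain ⟨ψ, hψ⟩ : ∃ ψ : leechLattice → leechLattice, ∀ z, ψ z = -(g⁻¹ • z) := ⟨_, fun _ => rfl⟩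
  have ψinj : Function.Injective ψ := fun a b h => by
    rw [hψ, hψ, neg_inj] at h
    exact MulAction.injective g⁻¹ h
  have hu' : g⁻¹ • u0 = u := inv_smul_eq_iff.2 g2.symm
  have hx' : g⁻¹ • t0 = -x := inv_smul_eq_iff.2 g1.symm
  have gx : g • x = -t0 := by rw [← g1, smul_neg', neg_neg]
  have mem : ∀ y : leechLattice, (sqNorm (vec y) = 32 ∧ dotInt (vec u) (vec y) = -16) ↔
      ∃ z, (sqNorm (vec z) = 32 ∧ dotInt (vec u0) (vec z) = 16) ∧ ψ z = y := by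
    intro y
    constructor
    · rintro ⟨h1, h2⟩
      refine ⟨g • (-y), ⟨?_, ?_⟩, by rw [hψ, inv_smul_smul, neg_neg]⟩
      · rw [norm_smul']
        show sqNorm (-(vec y)) = 32
        rw [sqNorm_neg, h1]
      · rw [← g2, dot_smul]
        show dotInt (vec u) (-(vec y)) = 16
        rw [dot_neg_right, h2]; norm_num
    · rintro ⟨z, ⟨h1, h2⟩, rfl⟩
      rw [hψ, ← hu']
      refine ⟨?_, ?_⟩
      · show sqNorm (-(vec (g⁻¹ • z))) = 32
        rw [sqNorm_neg, norm_smul', h1]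
      · show dotInt (vec (g⁻¹ • u0)) (-(vec (g⁻¹ • z))) = -16
        rw [dot_neg_right, dot_smul, h2]
  have orb : ∀ z, MulAction.orbit
      ↥(MulAction.stabilizer ↥Cfsg.Co0 u ⊓ MulAction.stabilizer ↥Cfsg.Co0 x) (ψ z) =
        ψ '' MulAction.orbit Stab0 z := by
    intro z
    ext y
    constructor
    · rintro ⟨⟨h, hh1, hh2⟩, rfl⟩
      have h1 : h • u = u := hh1
      have h2 : h • x = x := hh2
      refine ⟨(g * h * g⁻¹) • z, ⟨⟨g * h * g⁻¹, mem_stab0.2 ⟨?_, ?_⟩⟩, rfl⟩, ?_⟩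
      · rw [mul_smul, mul_smul, hu', h1, g2]
      · rw [mul_smul, mul_smul, hx', smul_neg', h2, g1]
      · show ψ ((g * h * g⁻¹) • z) = h • ψ z
        rw [hψ, hψ, smul_neg', mul_smul, mul_smul, inv_smul_smul]
    · rintro ⟨_, ⟨⟨h, hh⟩, rfl⟩, rfl⟩
      obtain ⟨h1, h2⟩ := mem_stab0.1 hh
      refine ⟨⟨g⁻¹ * h * g, ?_, ?_⟩, ?_⟩
      · show (g⁻¹ * h * g) • u = u
        rw [mul_smul, mul_smul, g2, h1, hu']
      · show (g⁻¹ * h * g) • x = x
        rw [mul_smul, mul_smul, gx, smul_neg', h2, smul_neg', hx', neg_neg]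
      · show (g⁻¹ * h * g) • ψ z = ψ (h • z)
        rw [hψ, hψ, smul_neg', mul_smul, mul_smul, smul_inv_smul]
  obtain ⟨z₁, z₂, z₃, z₄, c₁, c₂, c₃, c₄, hall⟩ := standard
  have hx0 : ψ t0 = x := by rw [hψ, hx', neg_neg]
  have hset : {y : ↥Cfsg.leechLattice | Cfsg.sqNorm (y : Cfsg.GolayPt → ℤ) = 32 ∧
      Cfsg.dotInt (u : Cfsg.GolayPt → ℤ) (y : Cfsg.GolayPt → ℤ) = -16} =
      ψ '' {z : leechLattice | sqNorm (vec z) = 32 ∧ dotInt (vec u0) (vec z) = 16} := by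
    ext y
    exact mem y
  rw [hset, hall]
  refine ⟨ψ z₁, ?_, ψ z₂, ?_, ψ z₃, ?_, ψ z₄, ?_, ?_, ?_, ?_, ?_, ?_⟩
  · exact ⟨z₁, by simp [MulAction.mem_orbit_self], rfl⟩
  · exact ⟨z₂, by simp [MulAction.mem_orbit_self], rfl⟩
  · exact ⟨z₃, by simp [MulAction.mem_orbit_self], rfl⟩
  · exact ⟨z₄, by simp [MulAction.mem_orbit_self], rfl⟩
  · rw [orb, Set.ncard_image_of_injective _ ψinj, c₁]
  · rw [orb, Set.ncard_image_of_injective _ ψinj, c₂]
  · rw [orb, Set.ncard_image_of_injective _ ψinj, c₃]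
  · rw [orb, Set.ncard_image_of_injective _ ψinj, c₄]
  · simp only [orb, Set.image_union, Set.image_singleton, hx0]

end Cfsg.Agent.S1641
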