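import Cfsg.Statements.S1642
import Cfsg.Agent.Lib.SporStruct.LeechPairs
import Cfsg.Agent.Lib.Golay.M24

set_option autoImplicit false
open Cfsg

namespace Cfsg.Agent.S1642

open Cfsg.Agent.Lib Cfsg.Agent.Lib.SporStruct Leech LeechPairs Finset

/-- A dodecad preserved by `t ↦ -1/t`. -/
def dod : Finset GolayPt :=
  [1, 2, 3, 6, 10, 11, 14, 15, 16, 18, 19, 22].toFinset.image fun k : ZMod 23 => (some k : GolayPt)

theorem dod_ind : ind dod = qrWord 0 + qrWord 1 + qrWord 22 := by decide +kernel

theorem dod_code : IsCode dod := by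
  rw [isCode_iff, dod_ind]
  have h : ∀ t, qrWord t ∈ golayCode := fun t => Submodule.subset_span (Or.inl ⟨t, rfl⟩)
  exact add_mem (add_mem (h 0) (h 1)) (h 22)

theorem dod_card : dod.card = 12 := by decide +kernel

theorem dod_inv : ∀ i, (projInv i ∈ dod ↔ i ∈ dod) := by decide +kernel

theorem projInv_symm : (projInv.symm : Equiv.Perm GolayPt) = projInv := rfl

theorem projInv_two : ∀ i, projInv (projInv i) = i := by decide +kernel

/-- The involution. -/
noncomputable def inv2 : Co0 := monomial projInv Golay.projInv_mem dodᶜ dod_code.compl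

theorem inv2_apply (x : leechLattice) (i : GolayPt) :
    vec (inv2 • x) i = if i ∈ dod then vec x (projInv i) else -vec x (projInv i) := by
  rw [inv2, monomial_smul, signedPerm, projInv_symm]
  by_cases h : i ∈ dod <;> simp [h]

/-- Twice the dodecad. -/
def v0 : leechLattice := ⟨fun i => if i ∈ dod then 2 else 0, by
  convert two_smul_code_mem dod_code using 1⟩

theorem v0_apply (i : GolayPt) : vec v0 i = if i ∈ dod then 2 else 0 := rfl

theorem v0_norm : sqNorm (vec v0) = 48 := by
  unfold sqNorm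
  simp only [v0_apply, ite_pow, ne_eq, OfNat.ofNat_ne_zero, not_false_eq_true, zero_pow,
    Finset.sum_ite_mem, Finset.univ_inter, Finset.sum_const, dod_card]
  norm_num

/-- The first point of the pair. -/
abbrev pa : GolayPt := some 1

/-- The second point of the pair. -/
abbrev pb : GolayPt := some 22

theorem pair_facts : pa ≠ pb ∧ pa ∈ dod ∧ pb ∈ dod ∧ projInv pa = pb ∧ projInv pb = pa := by
  decide +kernel

theorem t0_dot : dotInt (vec (pp pa pb)) (vec v0) = 16 := by
  rw [dot_pp, v0_apply, v0_apply, if_pos pair_facts.2.1, if_pos pair_facts.2.2.1]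
  norm_num

theorem inv2_v0 : inv2 • v0 = v0 := by
  refine Subtype.ext (funext fun i => ?_)
  show vec (inv2 • v0) i = vec v0 i
  rw [inv2_apply, v0_apply, v0_apply]
  simp only [dod_inv]
  split_ifs <;> simp

theorem pp_apply (i : GolayPt) :
    vec (pp pa pb) i = (if i = pa then 4 else 0) + (if i = pb then 4 else 0) := by
  simp [pp, vec, Pi.single_apply]

theorem inv2_t0 : inv2 • pp pa pb = pp pa pb := by
  refine Subtype.ext (funext fun i => ?_)
  show vec (inv2 • pp pa pb) i = vec (pp pa pb) i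
  rw [inv2_apply, pp_apply, pp_apply]
  obtain ⟨-, ha, hb, hab, hba⟩ := pair_facts
  have e1 : projInv i = pa ↔ i = pb := by
    rw [← hba]; exact projInv.injective.eq_iff
  have e2 : projInv i = pb ↔ i = pa := by
    rw [← hab]; exact projInv.injective.eq_iff
  simp only [e1, e2]
  by_cases h : i ∈ dod
  · rw [if_pos h]; ring
  · rw [if_neg h, if_neg (fun e : i = pb => h (e ▸ hb)), if_neg (fun e : i = pa => h (e ▸ ha))]
    simp

theorem inv2_sq : inv2 ^ 2 = 1 := by
  refine co0_ext fun j => Subtype.ext (funext fun i => ?_)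
  rw [sq, mul_smul, one_smul]
  show vec (inv2 • inv2 • eightE j) i = vec (eightE j) i
  rw [inv2_apply, inv2_apply, projInv_two]
  simp only [dod_inv]
  split_ifs <;> simp

theorem inv2_order : orderOf inv2 = 2 := by
  haveI : Fact (Nat.Prime 2) := ⟨Nat.prime_two⟩
  refine orderOf_eq_prime inv2_sq fun h => ?_
  have := inv2_apply (eightE pa) pa
  rw [h, one_smul, if_pos pair_facts.2.1, pair_facts.2.2.2.1] at this
  simp [eightE, vec, Pi.single_apply] at this
  exact absurd this (by decide)

theorem no_fixed (x : leechLattice) (ht : dotInt (vec (pp pa pb)) (vec x) = 0)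
    (hv : dotInt (vec v0) (vec x) = 24) : inv2 • x ≠ x := by
  intro h
  have hi : ∀ i, vec x i = if i ∈ dod then vec x (projInv i) else -vec x (projInv i) := by
    intro i; rw [← inv2_apply, h]
  obtain ⟨-, ha, -, hab, -⟩ := pair_facts
  have h1 := hi pa
  rw [if_pos ha, hab] at h1
  rw [dot_pp] at ht
  have he : EvenVec (vec x) := (mem_leech_iff.1 x.2).resolve_right fun ho => by
    have := ho.1 pa; simp only [vec] at *; omega
  have hD : 2 * ∑ i ∈ dod, vec x i = 24 := by
    rw [← hv, Finset.mul_sum]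
    simp only [dotInt, v0_apply, ite_mul, zero_mul, Finset.sum_ite_mem, Finset.univ_inter]
  have hC : ∑ i ∈ dodᶜ, vec x i = 0 := by
    have e : ∑ i ∈ dodᶜ, vec x i = -∑ i ∈ dodᶜ, vec x i := by
      rw [← Finset.sum_neg_distrib]
      refine Finset.sum_nbij' projInv projInv (fun i hh => ?_) (fun i hh => ?_)
        (fun i _ => projInv_two i) (fun i _ => projInv_two i) (fun i hh => ?_)
      · simpa [dod_inv] using hh
      · simpa [dod_inv] using hh
      · rw [hi i, if_neg (by simpa using hh)]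
    omega
  have hs := he.2.2
  rw [← Finset.sum_add_sum_compl dod] at hs
  simp only [vec] at *
  omega

/-- Some involution of the Higman–Sims group acts without fixed points on its 100 points. -/
theorem result (v w : ↥Cfsg.leechLattice) (hv : Cfsg.sqNorm (v : Cfsg.GolayPt → ℤ) = 48) (hw : Cfsg.sqNorm (w : Cfsg.GolayPt → ℤ) = 48) (hvw : Cfsg.dotInt (v : Cfsg.GolayPt → ℤ) (w : Cfsg.GolayPt → ℤ) = -32) : ∃ g : ↥Cfsg.Co0, g • v = v ∧ g • w = w ∧ orderOf g = 2 ∧ ∀ x ∈ {x : ↥Cfsg.leechLattice | Cfsg.sqNorm (x : Cfsg.GolayPt → ℤ) = 32 ∧ Cfsg.dotInt (v : Cfsg.GolayPt → ℤ) (x : Cfsg.GolayPt → ℤ) = 24 ∧ Cfsg.dotInt (w : Cfsg.GolayPt → ℤ) (x : Cfsg.GolayPt → ℤ) = -24}, g • x ≠ x := by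
  classical
  have hn : sqNorm (vec (v + w)) = 32 := by
    simp only [vec, AddSubgroup.coe_add, sqNorm_add]; omega
  have hd : dotInt (vec (v + w)) (vec v) = 16 := by
    simp only [vec, AddSubgroup.coe_add]
    rw [dot_comm, dot_add_right, dot_self]; omega
  obtain ⟨k, k1, k2⟩ := transitive48_16 hn hv hd (norm_pp pair_facts.1) v0_norm t0_dot
  have f1 : (k⁻¹ * inv2 * k) • v = v := by
    rw [mul_smul, mul_smul, k2, inv2_v0, ← k2, inv_smul_smul]
  have f2 : (k⁻¹ * inv2 * k) • (v + w) = v + w := by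
    rw [mul_smul, mul_smul, k1, inv2_t0, ← k1, inv_smul_smul]
  refine ⟨k⁻¹ * inv2 * k, f1, ?_, ?_, fun x hx hfix => ?_⟩
  · rw [smul_add', f1] at f2
    exact add_left_cancel f2
  · rw [show k⁻¹ * inv2 * k = MulAut.conj k⁻¹ inv2 by simp [MulAut.conj_apply],
      MulEquiv.orderOf_eq, inv2_order]
  · obtain ⟨-, x1, x2⟩ := hx
    refine no_fixed (k • x) ?_ ?_ ?_
    · rw [← k1, dot_smul, vec, AddSubgroup.coe_add, dot_comm, dot_add_right, dot_comm,
        dot_comm _ (w : GolayPt → ℤ), x1, x2]
      norm_num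
    · rw [← k2, dot_smul]; exact x1
    · rw [mul_smul, mul_smul, inv_smul_eq_iff] at hfix
      exact hfix

end Cfsg.Agent.S1642
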