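import Cfsg.Statements.S1668
import Cfsg.Agent.Lib.SuzRank51.Main
import Cfsg.Agent.Lib.CosetEnum.G24Rep.Hom

set_option autoImplicit false
open Cfsg

namespace Cfsg.Agent.S1668

/-- Recognition of the sporadic Suzuki group as a rank 3 permutation group: a transitive permutation group on 1782 points in which the stabiliser of a point is isomorphic to the Chevalley group G₂(4) and has two further orbits, of sizes 416 and 1365, is isomorphic to the sporadic Suzuki group. -/
theorem result {Ω : Type*} [Fintype Ω] [DecidableEq Ω] (hΩ : Fintype.card Ω = 1782) (G : Subgroup (Equiv.Perm Ω)) [MulAction.IsPretransitive G Ω] (a : Ω) (K : Type) [Field K] [Fintype K] (hK : Fintype.card K = 4) (e : MulAction.stabilizer G a ≃* Cfsg.Lie.chevG2.group K) (b c : Ω) (hb : (MulAction.orbit (MulAction.stabilizer G a) b).ncard = 416) (hc : (MulAction.orbit (MulAction.stabilizer G a) c).ncard = 1365) : Cfsg.Spor.IsoSuz G := by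
  haveI := Lib.SuzRank51.finite_PG
  obtain ⟨e0⟩ := Lib.CosetEnum.G24Rep.nonempty_iso
  let f : Lib.G24.K4 ≃+* K := FiniteField.ringEquivOfCardEq
    (Lib.G24.K4.card_eq.trans hK.symm)
  let ι : Lib.SuzRank51.PG ≃* MulAction.stabilizer G a :=
    ((e0.trans Lib.G24.equivGroup).trans (Lib.G24.Transport.groupEquiv _ f)).trans e.symm
  let ψ : Lib.SuzRank51.PG →* G := (MulAction.stabilizer G a).subtype.comp ι.toMonoidHom
  have horb : ∀ d : Ω, {w | ∃ x, ψ x • d = w} = MulAction.orbit (MulAction.stabilizer G a) d := by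
    intro d
    ext w
    constructor
    · rintro ⟨x, rfl⟩; exact ⟨ι x, rfl⟩
    · rintro ⟨m, rfl⟩
      exact ⟨ι.symm m, by show ((ι (ι.symm m) : G) • d) = m • d; rw [ι.apply_symm_apply]; rfl⟩
  refine Lib.SuzRank51.iso_suz (a := a) (b := b) (c := c) (ψ := ψ)
    (by rw [Nat.card_eq_fintype_card, hΩ]) (MulAction.exists_smul_eq G)
    ((MulAction.stabilizer G a).subtype_injective.comp ι.injective)
    (fun g => ⟨fun hg => ⟨ι.symm ⟨g, hg⟩, by
      show ((ι (ι.symm ⟨g, hg⟩) : G)) = g
      rw [ι.apply_symm_apply]⟩, ?_⟩)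
    (by rw [horb, hb]) (by rw [horb, hc])
  rintro ⟨x, rfl⟩
  exact (ι x).2

end Cfsg.Agent.S1668
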