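import Cfsg.Statements.S1679
import Cfsg.Agent.Lib.CosetEnum.G24Rep.Hom
import Cfsg.Agent.S1694

set_option autoImplicit false
open Cfsg

namespace Cfsg.Agent.S1679

open Cfsg.Agent.Lib.CosetEnum Cfsg.Agent.Lib.G24

/-- In the presented sporadic Suzuki group (generators a, …, g), the subgroup generated by the images of a, …, f is isomorphic to the adjoint Chevalley group of type G₂ over a field with four elements. -/
theorem result : ∃ (K : Type) (_ : Field K) (_ : Fintype K), Fintype.card K = 4 ∧ Nonempty ((((Subgroup.closure ({Cfsg.Spor.Suz.a, Cfsg.Spor.Suz.b, Cfsg.Spor.Suz.c, Cfsg.Spor.Suz.d, Cfsg.Spor.Suz.e, Cfsg.Spor.Suz.f} : Set (FreeGroup Cfsg.Spor.Suz.Gen))).map (PresentedGroup.mk (Cfsg.Spor.coxRelators Cfsg.Spor.Suz.edges ∪ {r | r ∈ Cfsg.Spor.Suz.extra})))) ≃* Cfsg.Lie.chevG2.group K) := by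
  rw [map_closure_eq_subOf Suz1782.letters _ Suz1782.subWords (by decide +kernel)
    [Cfsg.Spor.Suz.a, Cfsg.Spor.Suz.b, Cfsg.Spor.Suz.c, Cfsg.Spor.Suz.d, Cfsg.Spor.Suz.e, Cfsg.Spor.Suz.f]
    (by decide +kernel) _ (by ext; simp)]
  obtain ⟨ψ, hψ⟩ := exists_cover (n := 5) (RL0 := SuzSub.RL0) Suz1782.letters Suz1782.pres
    Suz1782.rels_mem Suz1782.letters_ok Suz1782.table_ok.col [0, 1, 2, 3, 4, 5] rfl
    (by decide +kernel)
  replace hψ : ψ.range = subOf Suz1782.letters Suz1782.pres Suz1782.subWords := hψ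
  have hJ : 251596800 ≤ Nat.card ψ.range := by
    have h := (subOf Suz1782.letters Suz1782.pres Suz1782.subWords).card_mul_index
    rw [Suz1782.enum.index] at h
    rw [hψ]
    have h' : Nat.card (subOf Suz1782.letters Suz1782.pres Suz1782.subWords) * 1782 =
        448345497600 := h.trans Cfsg.Agent.S1694.result.2
    omega
  obtain ⟨e⟩ := G24Rep.nonempty_iso
  exact ⟨K4, inferInstance, inferInstance, K4.card_eq,
    ⟨((MulEquiv.subgroupCongr hψ.symm).trans
      (MonoidHom.ofInjective (injective_of_card ψ SuzSub.card_le hJ)).symm).trans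
      (e.trans equivGroup)⟩⟩

end Cfsg.Agent.S1679
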