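import Cfsg.Statements.S1690
import Cfsg.Agent.Lib.Fi24.Main

set_option autoImplicit false
open Cfsg

namespace Cfsg.Agent.S1690

/-- In the presented group Fi₂₄ = Fi₂₄′:2, the subgroup generated by the images of a, b, c, d, e, f, g, h, i, j and l (every generator but k) has index 306936. -/
theorem result : (((Subgroup.closure ({Cfsg.Spor.Fi24.a, Cfsg.Spor.Fi24.b, Cfsg.Spor.Fi24.c, Cfsg.Spor.Fi24.d, Cfsg.Spor.Fi24.e, Cfsg.Spor.Fi24.f, Cfsg.Spor.Fi24.g, Cfsg.Spor.Fi24.h, Cfsg.Spor.Fi24.i, Cfsg.Spor.Fi24.j, Cfsg.Spor.Fi24.l} : Set (FreeGroup Cfsg.Spor.Fi24.Gen))).map (PresentedGroup.mk (Cfsg.Spor.coxRelators Cfsg.Spor.Fi24.edges ∪ {r | r ∈ Cfsg.Spor.Fi24.extra})))).index = 306936 := by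
  refine Eq.trans (congrArg Subgroup.index ?_) Cfsg.Agent.Lib.Fi24.index_H
  rw [MonoidHom.map_closure]
  refine congrArg Subgroup.closure (Set.ext fun x => ?_)
  constructor
  · rintro ⟨w, hw, rfl⟩
    simp only [Set.mem_insert_iff, Set.mem_singleton_iff] at hw
    rcases hw with rfl | rfl | rfl | rfl | rfl | rfl | rfl | rfl | rfl | rfl | rfl
    exacts [⟨2, by omega, by omega, rfl⟩, ⟨3, by omega, by omega, rfl⟩, ⟨4, by omega, by omega, rfl⟩,
      ⟨5, by omega, by omega, rfl⟩, ⟨6, by omega, by omega, rfl⟩, ⟨7, by omega, by omega, rfl⟩,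
      ⟨8, by omega, by omega, rfl⟩, ⟨10, by omega, by omega, rfl⟩, ⟨11, by omega, by omega, rfl⟩,
      ⟨9, by omega, by omega, rfl⟩, ⟨0, by omega, by omega, rfl⟩]
  · rintro ⟨g, hg, hg1, rfl⟩
    refine ⟨FreeGroup.of (Cfsg.Agent.Lib.Fi24.genOf g), ?_, rfl⟩
    interval_cases g <;> first
      | omega
      | simp [Cfsg.Agent.Lib.Fi24.genOf]

end Cfsg.Agent.S1690
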