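import Cfsg.Statements.S1693
import Cfsg.Agent.Lib.CosetEnum.ONOrbit.Facts
import Cfsg.Agent.Lib.CosetEnum.L37.Iso

set_option autoImplicit false
open Cfsg

namespace Cfsg.Agent.S1693

open Cfsg.Agent.Lib.CosetEnum

/-- In the presented O'Nan group, the subgroup H generated by the images of a, …, f has a normal subgroup of index 2 isomorphic to PSL(3, 7). -/
theorem result : ∃ N : Subgroup (((Subgroup.closure ({Cfsg.Spor.ON.a, Cfsg.Spor.ON.b, Cfsg.Spor.ON.c, Cfsg.Spor.ON.d, Cfsg.Spor.ON.e, Cfsg.Spor.ON.f} : Set (FreeGroup Cfsg.Spor.ON.Gen))).map (PresentedGroup.mk (Cfsg.Spor.coxRelators Cfsg.Spor.ON.edges ∪ {r | r ∈ Cfsg.Spor.ON.extra})))), N.Normal ∧ N.index = 2 ∧ Nonempty (N ≃* Matrix.ProjectiveSpecialLinearGroup (Fin 3) (ZMod 7)) := by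
  rw [map_closure_eq_subOf ON122760.letters _ ON122760.subWords (by decide +kernel)
    [Cfsg.Spor.ON.a, Cfsg.Spor.ON.b, Cfsg.Spor.ON.c, Cfsg.Spor.ON.d, Cfsg.Spor.ON.e, Cfsg.Spor.ON.f]
    (by decide +kernel) _ (by ext; simp)]
  obtain ⟨ψ, hψ⟩ := ONOrbit.exists_onto
  obtain ⟨ρ, -, -, -, -, -, hJ⟩ := ONOrbit.main
  obtain ⟨⟨eC⟩, hP⟩ := L37.nonempty_iso
  have hinj : Function.Injective ψ :=
    injective_of_card ψ L37.card_le (by rw [hψ, hJ])
  let e : PresentedGroup L37.pres ≃* ONOrbit.J :=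
    (MonoidHom.ofInjective hinj).trans (MulEquiv.subgroupCongr hψ)
  haveI : L37.C.Normal := Subgroup.normal_of_index_eq_two L37.index_C
  refine ⟨L37.C.map e.toMonoidHom, Subgroup.Normal.map inferInstance _ e.surjective, ?_,
    ⟨(e.subgroupMap L37.C).symm.trans eC⟩⟩
  exact (Subgroup.index_map_equiv L37.C e).trans L37.index_C

end Cfsg.Agent.S1693
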