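import Cfsg.Statements.S1706
import Cfsg.Agent.Lib.ThDce.Final

set_option autoImplicit false
open Cfsg

namespace Cfsg.Agent.S1706

/-- In the presented Thompson sporadic group (generators a, b, c, d, e, s, t, u), the subgroup generated by the images of a, b, c, d, e, s, t has index 143127000. -/
theorem result : (((Subgroup.closure ({Cfsg.Spor.Th.a, Cfsg.Spor.Th.b, Cfsg.Spor.Th.c, Cfsg.Spor.Th.d, Cfsg.Spor.Th.e, Cfsg.Spor.Th.s, Cfsg.Spor.Th.t} : Set (FreeGroup Cfsg.Spor.Th.Gen))).map (PresentedGroup.mk (Cfsg.Spor.coxRelators Cfsg.Spor.Th.edges ∪ {r | r ∈ Cfsg.Spor.Th.extra})))).index = 143127000 := by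
  rw [← Cfsg.Agent.Lib.ThP.range_toTh]
  exact Cfsg.Agent.Lib.ThDce.index_toTh

end Cfsg.Agent.S1706
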