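import Cfsg.Statements.S5450
import Cfsg.Agent.Lib.FischerFi22Large20.Final
import Cfsg.Agent.Lib.FischerFi22Large20.Move

set_option autoImplicit false
open Cfsg

namespace Cfsg.Agent.S5450

/-- Let G be a finite group of large Fischer type at the involution z: the generalized Fitting subgroup Q of H = C_G(z) is extraspecial of order 2^13, H has normal subgroups Q ≤ H₁ ≤ H₂ with H₁/Q of order 3, H₂/H₁ the projective special unitary group of dimension 4 over the field with nine elements and H₂ of index 2 in H, and some conjugate of z other than z lies in Q. Let t be an involution of Q not conjugate to z in G, and K the generalized Fitting subgroup of the centralizer of t. Then K is quasisimple of index 2 in the centralizer of t, contains t, and the centralizer of t modulo the subgroup generated by t is isomorphic to the full automorphism group of the Fischer group Fi₂₂ (as presented). -/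
theorem result {G : Type*} [Group G] [Finite G] (z : G) (Q : Subgroup (Subgroup.centralizer ({z} : Set G))) [Q.Normal] (hF : Cfsg.IsOfLargeFischerTypeAt z Q) (t : G) (htQ : ∃ htc : t ∈ Subgroup.centralizer ({z} : Set G), (⟨t, htc⟩ : Subgroup.centralizer ({z} : Set G)) ∈ Q) (ht2 : orderOf t = 2) (ht : ¬ IsConj z t) (K : Subgroup ↥(Subgroup.centralizer ({t} : Set G))) (hK : K = Cfsg.generalizedFittingSubgroup ↥(Subgroup.centralizer ({t} : Set G))) [hn : ((Subgroup.zpowers t).subgroupOf (Subgroup.centralizer ({t} : Set G))).Normal] : Cfsg.IsQuasisimple ↥K ∧ K.index = 2 ∧ (∃ htc : t ∈ Subgroup.centralizer ({t} : Set G), (⟨t, htc⟩ : ↥(Subgroup.centralizer ({t} : Set G))) ∈ K) ∧ Nonempty (↥(Subgroup.centralizer ({t} : Set G)) ⧸ (Subgroup.zpowers t).subgroupOf (Subgroup.centralizer ({t} : Set G)) ≃* MulAut Cfsg.Spor.Fi22) := by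
  open Cfsg.Agent.Lib.FischerFi22Large20 in
  obtain ⟨L⟩ := Cfsg.Agent.Lib.FischerLarge45.exists_local hF
  obtain ⟨C⟩ := Cfsg.Agent.Lib.FischerLarge58.exists_ctx L hF
  obtain ⟨htc, htQ⟩ := htQ
  obtain ⟨g, hg⟩ := Cfsg.Agent.Lib.FischerFi22Large20.exists_conj_four C htQ
    (Subtype.ext (show t * t = 1 by rw [← pow_two, ← ht2, pow_orderOf_eq_one]))
    (fun h => by rw [show t = 1 from congrArg Subtype.val h, orderOf_one] at ht2; norm_num at ht2) ht
  obtain ⟨Kc, hKn, hq, hidx, h4, hcent, ⟨e⟩⟩ := Cfsg.Agent.Lib.FischerFi22Large20.cent_structure C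
  haveI := hKn
  have hgf := Cfsg.Agent.Lib.FischerMTypes.QuasiExtension.genFitting_eq hq hcent
  have hmap : (Subgroup.centralizer ({t} : Set G)).map (MulAut.conj g).toMonoidHom = (Cfsg.Agent.Lib.FischerFi22Large20.CT C) := by
    ext w
    rw [Subgroup.mem_centralizer_singleton_iff, Subgroup.mem_map]
    constructor
    · rintro ⟨x, hx, rfl⟩
      rw [Subgroup.mem_centralizer_singleton_iff] at hx
      rw [← hg]
      simpa [mul_assoc] using congrArg (fun y => g * y * g⁻¹) hx
    · intro hw
      refine ⟨g⁻¹ * w * g, Subgroup.mem_centralizer_singleton_iff.2 ?_, by simp [mul_assoc]⟩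
      rw [show t = g⁻¹ * C.g 4 * g by rw [← hg]; group]
      simpa [mul_assoc] using congrArg (fun y => g⁻¹ * y * g) hw
  let φ : ↥(Subgroup.centralizer ({t} : Set G)) ≃* ↥(Cfsg.Agent.Lib.FischerFi22Large20.CT C) :=
    (Subgroup.equivMapOfInjective _ _ (MulAut.conj g).injective).trans (MulEquiv.subgroupCongr hmap)
  have hφ : ∀ x, ((φ x : (Cfsg.Agent.Lib.FischerFi22Large20.CT C)) : G) = g * (x : G) * g⁻¹ := fun x => rfl
  have hφK : K.map φ.toMonoidHom = Kc := by
    rw [hK, Cfsg.Agent.Lib.Components.GenFitting.map_generalizedFitting φ, hgf]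
  let tC : ↥(Subgroup.centralizer ({t} : Set G)) := ⟨t, Subgroup.mem_centralizer_singleton_iff.2 rfl⟩
  have hφt : ((φ tC : (Cfsg.Agent.Lib.FischerFi22Large20.CT C)) : G) = C.g 4 := (hφ tC).trans hg
  refine ⟨?_, ?_, ⟨tC.2, ?_⟩, ⟨(QuotientGroup.congr _ _ φ ?_).trans e⟩⟩
  · exact Cfsg.Agent.Lib.Components.Quasisimple.of_mulEquiv hq
      ((MulEquiv.subgroupCongr hφK.symm).trans (Subgroup.equivMapOfInjective K φ.toMonoidHom φ.injective).symm)
  · rw [← hidx, ← hφK]
    exact (Subgroup.index_map_equiv K φ).symm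
  · have : φ tC ∈ K.map φ.toMonoidHom := by
      rw [hφK, show φ tC = ⟨C.g 4, _⟩ from Subtype.ext hφt]
      exact h4
    obtain ⟨x, hx, hxe⟩ := this
    rwa [φ.injective hxe] at hx
  · ext w
    constructor
    · rintro ⟨x, hx, rfl⟩
      rw [SetLike.mem_coe, Subgroup.mem_subgroupOf] at hx
      obtain ⟨k, hk⟩ := Subgroup.mem_zpowers_iff.1 hx
      rw [Subgroup.mem_subgroupOf]
      show ((φ x : (Cfsg.Agent.Lib.FischerFi22Large20.CT C)) : G) ∈ _
      rw [hφ, ← hk, ← conj_zpow, hg]
      exact Subgroup.zpow_mem_zpowers _ _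
    · intro hw
      rcases (Cfsg.Agent.Lib.FischerFi22Large20.mem_TT C).1 hw with h | h
      · exact ⟨1, one_mem _, by rw [map_one]; exact Subtype.ext h.symm⟩
      · exact ⟨tC, Subgroup.mem_subgroupOf.2 (Subgroup.mem_zpowers t), Subtype.ext (hφt.trans h.symm)⟩

end Cfsg.Agent.S5450
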