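import Cfsg.Statements.S1717
import Mathlib
-- import your own Cfsg.Agent.* helpers here

set_option autoImplicit false
open Cfsg

namespace Cfsg.Agent.S1717

/-- Position of an index in the basis order 0,2,3,4,1. -/
def rk : Fin 5 → ℕ := ![0, 4, 1, 2, 3]

/-- The unitriangular subgroup for the order `rk`, as a submonoid. -/
def uniTri : Submonoid (Matrix.SpecialLinearGroup (Fin 5) (ZMod 2)) where
  carrier := {M | ∀ i j, (M.1 - 1) i j ≠ 0 → rk i < rk j}
  one_mem' := by intro i j h; simp at h
  mul_mem' := by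
    intro A B hA hB i j h
    have e : (A * B).1 - 1 = (A.1 - 1) + (B.1 - 1) + (A.1 - 1) * (B.1 - 1) := by
      rw [Matrix.SpecialLinearGroup.coe_mul]; noncomm_ring
    rw [e] at h
    by_contra hc
    apply h
    have h1 : (A.1 - 1) i j = 0 := by by_contra h'; exact hc (hA i j h')
    have h2 : (B.1 - 1) i j = 0 := by by_contra h'; exact hc (hB i j h')
    rw [Matrix.add_apply, Matrix.add_apply, h1, h2, Matrix.mul_apply, zero_add, zero_add]
    refine Finset.sum_eq_zero fun k _ => ?_
    by_contra h'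
    obtain ⟨ha, hb⟩ := mul_ne_zero_iff.1 h'
    exact hc ((hA i k ha).trans (hB k j hb))

def uniTriGrp : Subgroup (Matrix.SpecialLinearGroup (Fin 5) (ZMod 2)) :=
  { uniTri with
    inv_mem' := by
      intro x hx
      show x⁻¹ ∈ uniTri
      have := isOfFinOrder_of_finite x
      replace hx : x ∈ uniTri := hx
      exact (Submonoid.powers_le.2 hx) (this.mem_powers_iff_mem_zpowers.2 (Subgroup.inv_mem _ (Subgroup.mem_zpowers x))) }

theorem mem_uniTriGrp {M : Matrix.SpecialLinearGroup (Fin 5) (ZMod 2)} :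
    M ∈ uniTriGrp ↔ ∀ i j, (M.1 - 1) i j ≠ 0 → rk i < rk j := Iff.rfl

theorem uniTri_isPGroup : IsPGroup 2 uniTriGrp := by
  intro x
  refine ⟨3, Subtype.ext (Subtype.ext ?_)⟩
  set N := x.1.1 - 1 with hN
  have key : ∀ k i j, (N ^ k) i j ≠ 0 → rk i + k ≤ rk j := by
    intro k
    induction k with
    | zero => intro i j h; by_cases e : i = j <;> simp_all
    | succ k ih =>
      intro i j h
      rw [pow_succ, Matrix.mul_apply] at h
      obtain ⟨l, -, hl⟩ := Finset.exists_ne_zero_of_sum_ne_zero h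
      obtain ⟨ha, hb⟩ := mul_ne_zero_iff.1 hl
      have := ih i l ha
      have := (mem_uniTriGrp.1 x.2) l j hb
      omega
  have hz : N ^ 2 ^ 3 = 0 := by
    ext i j
    by_contra h
    have := key _ i j h
    have h5 : ∀ j, rk j < 5 := by decide
    have := h5 j
    omega
  show (x.1 ^ 2 ^ 3).1 = (1 : Matrix _ _ (ZMod 2))
  rw [Matrix.SpecialLinearGroup.coe_pow, show x.1.1 = 1 + N by simp [hN],
    add_pow_char_pow_of_commute 2 3 (Commute.one_left N), one_pow, hz, add_zero]

variable (s : Matrix.SpecialLinearGroup (Fin 5) (ZMod 2))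

theorem uniTri_le_centralizer (hs : s.1 = Matrix.transvection 0 1 1) :
    uniTriGrp ≤ Subgroup.centralizer {s} := by
  intro M hM
  rw [Subgroup.mem_centralizer_singleton_iff]
  apply Subtype.ext
  have h0 : ∀ i, M.1 i 0 = (1 : Matrix (Fin 5) (Fin 5) (ZMod 2)) i 0 := by
    intro i
    rw [← sub_eq_zero]
    by_contra h
    have := hM i 0 h
    simp [rk] at this
  have h1 : ∀ j, M.1 1 j = (1 : Matrix (Fin 5) (Fin 5) (ZMod 2)) 1 j := by
    intro j
    rw [← sub_eq_zero]
    by_contra h
    have h' := hM 1 j h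
    have h5 : ∀ j, ¬ rk 1 < rk j := by decide
    exact h5 j h'
  simp only [Matrix.SpecialLinearGroup.coe_mul, hs, Matrix.transvection]
  ext i j
  fin_cases i <;> fin_cases j <;> simp [Matrix.mul_apply, Fin.sum_univ_five, Matrix.single, h0, h1, Matrix.one_apply, add_comm]

/-- elementary transvection as an element of the special linear group -/
def tv (a b : Fin 5) (h : a ≠ b) : Matrix.SpecialLinearGroup (Fin 5) (ZMod 2) :=
  ⟨Matrix.transvection a b 1, Matrix.det_transvection_of_ne a b h 1⟩

theorem tv_mem (a b : Fin 5) (h : a ≠ b) (hr : rk a < rk b) : tv a b h ∈ uniTriGrp := by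
  intro i j hij
  simp only [tv, Matrix.transvection, add_sub_cancel_left, Matrix.single, Matrix.of_apply] at hij
  by_cases e : a = i ∧ b = j
  · exact e.1 ▸ e.2 ▸ hr
  · simp [e] at hij

theorem centralizer_uniTri (hs : s.1 = Matrix.transvection 0 1 1)
    (M : Matrix.SpecialLinearGroup (Fin 5) (ZMod 2))
    (hM : ∀ u ∈ uniTriGrp, u * M = M * u) : M = 1 ∨ M = s := by
  have key : ∀ (a b : Fin 5) (h : a ≠ b), rk a < rk b →
      (∀ i, i ≠ a → M.1 i a = 0) ∧ (∀ j, j ≠ b → M.1 b j = 0) ∧ M.1 b b = M.1 a a := by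
    intro a b h hr
    have h1 := congrArg Subtype.val (hM _ (tv_mem a b h hr))
    rw [Matrix.SpecialLinearGroup.coe_mul, Matrix.SpecialLinearGroup.coe_mul] at h1
    simp only [tv, Matrix.transvection, add_mul, mul_add, one_mul, mul_one] at h1
    have h2 : ∀ i j, (Matrix.single a b (1 : ZMod 2) * M.1) i j = (M.1 * Matrix.single a b (1 : ZMod 2)) i j := by
      intro i j
      have := congrFun (congrFun h1 i) j
      simpa using this
    refine ⟨fun i hi => ?_, fun j hj => ?_, ?_⟩
    · have := h2 i b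
      rw [Matrix.single_mul_apply_of_ne (h := hi), Matrix.mul_single_apply_same] at this
      simpa using this.symm
    · have := h2 a j
      rw [Matrix.mul_single_apply_of_ne (hbj := hj), Matrix.single_mul_apply_same] at this
      simpa using this
    · have := h2 a b
      simpa using this
  obtain ⟨c0, r2, d1⟩ := key 0 2 (by decide) (by decide)
  obtain ⟨c2, r3, d2⟩ := key 2 3 (by decide) (by decide)
  obtain ⟨c3, r4, d3⟩ := key 3 4 (by decide) (by decide)
  obtain ⟨c4, r1, d4⟩ := key 4 1 (by decide) (by decide)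
  have hd : ∀ i j : Fin 5, i ≠ j → ¬ (i = 0 ∧ j = 1) → M.1 i j = 0 := by
    intro i j h1 h2
    fin_cases i <;> fin_cases j <;> first
      | (exact absurd rfl h1)
      | (exact absurd ⟨rfl, rfl⟩ h2)
      | (exact c0 _ (by decide))
      | (exact c2 _ (by decide))
      | (exact c3 _ (by decide))
      | (exact c4 _ (by decide))
      | (exact r2 _ (by decide))
      | (exact r3 _ (by decide))
      | (exact r4 _ (by decide))
      | (exact r1 _ (by decide))
  have hdiag : ∀ i : Fin 5, M.1 i i = M.1 0 0 := by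
    intro i
    fin_cases i
    · rfl
    · exact ((d4.trans d3).trans d2).trans d1
    · exact d1
    · exact d2.trans d1
    · exact (d3.trans d2).trans d1
  have h00 : M.1 0 0 = 1 := by
    by_contra h
    have h0 : M.1 0 0 = 0 := by
      have : ∀ c : ZMod 2, c ≠ 1 → c = 0 := by decide
      exact this _ h
    have : M.1.det = 0 := Matrix.det_eq_zero_of_column_eq_zero 0 fun i => by
      by_cases e : i = 0
      · rw [e, h0]
      · exact hd i 0 e (by simp [e])
    rw [M.2] at this
    exact one_ne_zero this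
  have : ∀ c : ZMod 2, c = 0 ∨ c = 1 := by decide
  rcases this (M.1 0 1) with h | h
  · left
    apply Subtype.ext
    ext i j
    by_cases e : i = j
    · subst e; simp [hdiag i, h00]
    · by_cases e' : i = 0 ∧ j = 1
      · obtain ⟨rfl, rfl⟩ := e'; simp [h]
      · simp [hd i j e e', e]
  · right
    apply Subtype.ext
    rw [hs]
    ext i j
    by_cases e : i = j
    · subst e
      simp [hdiag i, h00, Matrix.transvection, Matrix.single]
      rintro rfl h'
      exact absurd h' (by decide)
    · by_cases e' : i = 0 ∧ j = 1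
      · obtain ⟨rfl, rfl⟩ := e'; simp [h, Matrix.transvection, Matrix.single]
      · simp [hd i j e e', e, Matrix.transvection, Matrix.single]
        intro h1 h2
        exact e' ⟨h1.symm, h2.symm⟩

theorem normal_le_sylow {H : Type*} [Group H] [Finite H] {p : ℕ} [Fact p.Prime] {N : Subgroup H} [N.Normal]
    (hN : IsPGroup p N) (T : Sylow p H) : N ≤ T.1 := by
  obtain ⟨Q, hQ⟩ := hN.exists_le_sylow
  obtain ⟨g, rfl⟩ := MulAction.exists_smul_eq H Q T
  intro x hx
  rw [Sylow.smul_def]
  refine ⟨g⁻¹ * x * g, hQ ?_, by simp [mul_assoc]⟩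
  simpa using Subgroup.Normal.conj_mem inferInstance x hx g⁻¹

theorem center_sylow (hs : s.1 = Matrix.transvection 0 1 1)
    (T : Sylow 2 (Subgroup.centralizer ({s} : Set (Matrix.SpecialLinearGroup (Fin 5) (ZMod 2)))))
    (x : Subgroup.centralizer ({s} : Set (Matrix.SpecialLinearGroup (Fin 5) (ZMod 2)))) (hx : x ∈ T.1)
    (hc : ∀ t ∈ T.1, t * x = x * t) : x.1 = 1 ∨ x.1 = s := by
  haveI : Fact (Nat.Prime 2) := ⟨Nat.prime_two⟩
  let C := Subgroup.centralizer ({s} : Set (Matrix.SpecialLinearGroup (Fin 5) (ZMod 2)))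
  have hle := uniTri_le_centralizer s hs
  obtain ⟨P, hP⟩ := (uniTri_isPGroup.comap_subtype (K := C)).exists_le_sylow
  obtain ⟨g, hg⟩ := MulAction.exists_smul_eq C T P
  have hmem : ∀ t, t ∈ P.1 → g⁻¹ * t * g ∈ T.1 := by
    intro t ht
    rw [← hg, Sylow.smul_def] at ht
    obtain ⟨u, hu, rfl⟩ := ht
    replace hu : u ∈ T.1 := hu
    have : g⁻¹ * (g * u * g⁻¹) * g = u := by group
    show g⁻¹ * (g * u * g⁻¹) * g ∈ T.1
    rw [this]; exact hu

  have hcg : ∀ u ∈ uniTriGrp, u * (g * x * g⁻¹).1 = (g * x * g⁻¹).1 * u := by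
    intro u hu
    let v : C := ⟨u, hle hu⟩
    have h1 := hc _ (hmem v (hP (show v ∈ uniTriGrp.comap C.subtype from hu)))
    have e1 : v * (g * x * g⁻¹) = g * ((g⁻¹ * v * g) * x) * g⁻¹ := by group
    have e2 : (g * x * g⁻¹) * v = g * (x * (g⁻¹ * v * g)) * g⁻¹ := by group
    have h3 := congrArg Subtype.val (show v * (g * x * g⁻¹) = (g * x * g⁻¹) * v by rw [e1, e2, h1])
    simp only [Subgroup.coe_mul] at h3 ⊢
    exact h3
  have hgs : g.1 * s = s * g.1 := Subgroup.mem_centralizer_singleton_iff.1 g.2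
  rcases centralizer_uniTri s hs _ hcg with h | h
  · left
    have h' : g.1 * x.1 * g.1⁻¹ = 1 := by
      rwa [Subgroup.coe_mul, Subgroup.coe_mul, Subgroup.coe_inv] at h
    have e3 : x.1 = g.1⁻¹ * (g.1 * x.1 * g.1⁻¹) * g.1 := by group
    rw [e3, h', mul_one, inv_mul_cancel]
  · right
    simp only [Subgroup.coe_mul, Subgroup.coe_inv] at h
    rw [mul_inv_eq_iff_eq_mul, ← hgs] at h
    exact mul_left_cancel h

end Cfsg.Agent.S1717

namespace Cfsg.Agent.S1717

/-- Let G be a finite group with an involution z whose centraliser C is isomorphic to the centraliser of a transvection of SL(5, 2). Then a Sylow 2-subgroup of C, viewed in G, is a Sylow 2-subgroup of G (its index in G is odd). -/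
theorem result {G : Type*} [Group G] [Finite G] (s : Matrix.SpecialLinearGroup (Fin 5) (ZMod 2)) (hs : (s : Matrix (Fin 5) (Fin 5) (ZMod 2)) = Matrix.transvection 0 1 1) (z : G) (hz : orderOf z = 2) (e : (Subgroup.centralizer ({z} : Set G)) ≃* Subgroup.centralizer ({s} : Set (Matrix.SpecialLinearGroup (Fin 5) (ZMod 2)))) (T : Sylow 2 (Subgroup.centralizer ({z} : Set G))) : ¬ 2 ∣ ((T : Subgroup (Subgroup.centralizer ({z} : Set G))).map (Subgroup.subtype (Subgroup.centralizer ({z} : Set G)))).index := by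
  haveI : Fact (Nat.Prime 2) := ⟨Nat.prime_two⟩
  let C := Subgroup.centralizer ({z} : Set G)
  have hzC : z ∈ C := Subgroup.mem_centralizer_singleton_iff.2 rfl
  let z' : C := ⟨z, hzC⟩
  have hzc : ∀ x : C, x * z' = z' * x := fun x =>
    Subtype.ext (Subgroup.mem_centralizer_singleton_iff.1 x.2)
  -- z lies in T
  have hzT : z' ∈ T.1 := by
    have hn : (Subgroup.zpowers z').Normal := ⟨fun n hn g => by
      obtain ⟨k, rfl⟩ := Subgroup.mem_zpowers_iff.1 hn
      have : Commute g (z' ^ k) := (show Commute g z' from hzc g).zpow_right k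
      rw [this.eq, mul_inv_cancel_right]
      exact Subgroup.zpow_mem _ (Subgroup.mem_zpowers z') k⟩
    have hp : IsPGroup 2 (Subgroup.zpowers z') := IsPGroup.of_card (n := 1) (by
      rw [Nat.card_zpowers, pow_one, ← Subgroup.orderOf_coe]; exact hz)
    exact (normal_le_sylow hp T) (Subgroup.mem_zpowers z')
  let T' := T.mapSurjective (f := e.toMonoidHom) e.surjective
  have huniq : ∀ x ∈ T.1, x ≠ 1 → (∀ t ∈ T.1, t * x = x * t) → (e x).1 = s := by
    intro x hx hx1 hc
    rcases center_sylow s hs T' (e x) (Subgroup.mem_map_of_mem _ hx) (by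
      rintro _ ⟨t, ht, rfl⟩
      simpa using congrArg e (hc t ht)) with h | h
    · exact absurd (e.injective (by rw [map_one]; exact Subtype.ext h)) hx1
    · exact h
  have hz1 : z' ≠ 1 := by
    intro h
    have h' : z = 1 := congrArg Subtype.val h
    rw [h', orderOf_one] at hz
    exact absurd hz (by norm_num)
  let A := T.1.map C.subtype
  have hN : Subgroup.normalizer (A : Set G) ≤ C := by
    intro g hg
    have hzA : g * z * g⁻¹ ∈ A := (Subgroup.mem_normalizer_iff.1 hg z).1 ⟨z', hzT, rfl⟩
    obtain ⟨w, hw, hwe⟩ := hzA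
    simp only [Subgroup.coe_subtype] at hwe
    have hw1 : w ≠ 1 := by
      intro h
      rw [h] at hwe
      simp only [Subgroup.coe_one] at hwe
      have : z = 1 := by
        have h' : g * z = g * 1 := by rw [mul_one]; exact mul_inv_eq_one.1 hwe.symm
        exact mul_left_cancel h'
      exact hz1 (Subtype.ext this)
    have hwc : ∀ t ∈ T.1, t * w = w * t := by
      intro t ht
      apply Subtype.ext
      show t.1 * w.1 = w.1 * t.1
      obtain ⟨u, hu, hue⟩ : g⁻¹ * t.1 * g ∈ A := by
        refine (Subgroup.mem_normalizer_iff.1 hg _).2 ?_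
        have : g * (g⁻¹ * t.1 * g) * g⁻¹ = t.1 := by group
        rw [this]; exact ⟨t, ht, rfl⟩
      simp only [Subgroup.coe_subtype] at hue
      have h2 : u.1 * z = z * u.1 := congrArg Subtype.val (hzc u)
      rw [hue] at h2
      have h3 := congrArg (fun y => g * y * g⁻¹) h2
      rw [hwe]
      simpa [mul_assoc] using h3
    have : (e w).1 = (e z').1 := by
      rw [huniq w hw hw1 hwc, huniq z' hzT hz1 (fun t _ => hzc t)]
    have hwz : w = z' := e.injective (Subtype.ext this)
    rw [hwz] at hwe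
    exact Subgroup.mem_centralizer_singleton_iff.2 (mul_inv_eq_iff_eq_mul.1 hwe.symm)
  have hAp : IsPGroup 2 A := T.2.map _
  obtain ⟨S, hS⟩ := hAp.exists_le_sylow
  rcases eq_or_lt_of_le hS with heq | hlt
  · show ¬ 2 ∣ A.index
    rw [heq]; exact S.not_dvd_index
  · exfalso
    haveI : Group.IsNilpotent ↥(S : Subgroup G) := S.2.isNilpotent
    have h1 : A.subgroupOf (S : Subgroup G) < ⊤ := lt_top_iff_ne_top.2 fun h =>
      hlt.not_ge (Subgroup.subgroupOf_eq_top.1 h)
    obtain ⟨x, hx, hxA⟩ := SetLike.exists_of_lt (normalizerCondition_of_isNilpotent _ h1)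
    have hxN : x.1 ∈ Subgroup.normalizer (A : Set G) := by
      rw [Subgroup.mem_normalizer_iff]
      intro y
      by_cases hy : y ∈ (S : Subgroup G)
      · simpa [Subgroup.mem_subgroupOf] using Subgroup.mem_normalizer_iff.1 hx ⟨y, hy⟩
      · constructor
        · intro h; exact absurd (hS h) hy
        · intro h
          have := hS h
          exact absurd (by simpa [mul_assoc] using
            (S : Subgroup G).mul_mem ((S : Subgroup G).mul_mem ((S : Subgroup G).inv_mem x.2) this) x.2) hy
    have hxC : x.1 ∈ C := hN hxN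
    have hpg : IsPGroup 2 ((S : Subgroup G).comap C.subtype) := S.2.comap_subtype
    have hTle : T.1 ≤ (S : Subgroup G).comap C.subtype := fun t ht => hS ⟨t, ht, rfl⟩
    have := T.3 hpg hTle
    exact hxA (by
      rw [Subgroup.mem_subgroupOf]
      refine ⟨⟨x.1, hxC⟩, ?_, rfl⟩
      show (⟨x.1, hxC⟩ : C) ∈ T.1
      rw [← this]; exact x.2)

end Cfsg.Agent.S1717
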