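import Cfsg.Statements.S1725
import Cfsg.Agent.Lib.SuzType52.Setup
import Cfsg.Agent.Lib.SuzM11H6.Final

set_option autoImplicit false
open Cfsg

namespace Cfsg.Agent.S1725

/-- A 3-local step in the uniqueness proof for the sporadic Suzuki group: let G satisfy the large-extraspecial hypothesis with Q of order 2 ^ 7, quotient Ω⁻(6, 2) and z not weakly closed in Q, and let X be a subgroup of order 3 of the centraliser C of z with the commutator subgroup of Q and X of order 8 and non-abelian (a quaternion group). Then for any Sylow 3-subgroup P of the normaliser of X in G, P is a Sylow 3-subgroup of G (its index in G is prime to 3), and P contains an elementary abelian subgroup A of order 3 ^ 5 with C_G(A) = A and N_G(A) / A isomorphic to the Mathieu group M₁₁. -/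
theorem result {G : Type*} [Group G] [Finite G] (z : G) (hz : orderOf z = 2) (Q : Subgroup (Subgroup.centralizer ({z} : Set G))) [Q.Normal] (hF : Cfsg.generalizedFittingSubgroup (Subgroup.centralizer ({z} : Set G)) = Q) (hQ : Cfsg.IsExtraspecial 2 Q) (hcard : Nat.card Q = 2 ^ 7) (e : (Subgroup.centralizer ({z} : Set G)) ⧸ Q ≃* Cfsg.Omega (ZMod 2) (Cfsg.quadFormMinus 2 (ZMod 2) 1 1)) (hnwc : ∃ g : G, (∃ hq : g * z * g⁻¹ ∈ Subgroup.centralizer ({z} : Set G), (⟨g * z * g⁻¹, hq⟩ : Subgroup.centralizer ({z} : Set G)) ∈ Q) ∧ g * z * g⁻¹ ≠ z) (X : Subgroup (Subgroup.centralizer ({z} : Set G))) (hX : Nat.card X = 3) (hQX : Nat.card ↥⁅Q, X⁆ = 8) (hQXna : ¬ IsMulCommutative ↥⁅Q, X⁆) (P : Sylow 3 ↥(Subgroup.normalizer ((X.map (Subgroup.subtype (Subgroup.centralizer ({z} : Set G))) : Subgroup G) : Set G))) : ¬ 3 ∣ (((P : Subgroup ↥(Subgroup.normalizer ((X.map (Subgroup.subtype (Subgroup.centralizer ({z} : Set G))) : Subgroup G) : Set G))).map (Subgroup.subtype (Subgroup.normalizer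 ((X.map (Subgroup.subtype (Subgroup.centralizer ({z} : Set G))) : Subgroup G) : Set G)))).index) ∧ ∃ A : Subgroup G, A ≤ (P : Subgroup ↥(Subgroup.normalizer ((X.map (Subgroup.subtype (Subgroup.centralizer ({z} : Set G))) : Subgroup G) : Set G))).map (Subgroup.subtype (Subgroup.normalizer ((X.map (Subgroup.subtype (Subgroup.centralizer ({z} : Set G))) : Subgroup G) : Set G))) ∧ Cfsg.IsElementaryAbelian 3 A ∧ Nat.card A = 3 ^ 5 ∧ Subgroup.centralizer (A : Set G) = A ∧ ∃ _ : (A.subgroupOf (Subgroup.normalizer (A : Set G))).Normal, Cfsg.Spor.IsoM11 (↥(Subgroup.normalizer (A : Set G)) ⧸ A.subgroupOf (Subgroup.normalizer (A : Set G))) := by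
  classical
  obtain ⟨co, ac, h⟩ := Lib.SuzType52.exists_frame z hz _ rfl Q hF hQ hcard e
  obtain ⟨g, ⟨hq, hgQ⟩, hne⟩ := hnwc
  obtain ⟨x, n, d⟩ := h.exists_duo ⟨g, ⟨_, hgQ, rfl⟩, hne⟩
  obtain ⟨ε, s, b⟩ := Lib.SuzM11H6.exists_base d
  have hC : Nat.card (Subgroup.centralizer ({z} : Set G)) = 25920 * 128 := by
    rw [Subgroup.card_eq_card_quotient_mul_card_subgroup Q, hcard, Nat.card_congr e.toEquiv,
      ← Lib.Extraspecial.OutModel.qf_minus, Lib.SuzType52.card_omega6]
    norm_num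
  have : Fact (Nat.Prime 3) := ⟨Nat.prime_three⟩
  obtain ⟨y, hy3⟩ := exists_prime_orderOf_dvd_card' (G := X) 3 (by rw [hX])
  have hy3' : orderOf (y : Subgroup.centralizer ({z} : Set G)) = 3 := by rw [Subgroup.orderOf_coe, hy3]
  have hXy : Subgroup.zpowers (y : Subgroup.centralizer ({z} : Set G)) = X :=
    Subgroup.eq_of_le_of_card_ge (Subgroup.zpowers_le.2 y.2) (by rw [Nat.card_zpowers, hy3', hX])
  set y0 : (Subgroup.centralizer ({z} : Set G)) := (y : (Subgroup.centralizer ({z} : Set G))) with hy0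
  -- the centraliser of `y` in `Q`
  let CQ := {q : Q // Commute (q : (Subgroup.centralizer ({z} : Set G))) y0}
  have hrep : ∀ w : {w : ↥⁅Q, X⁆ // ∃ q : Q, (q : (Subgroup.centralizer ({z} : Set G))) * y0 * (q : (Subgroup.centralizer ({z} : Set G)))⁻¹ * y0⁻¹ = w},
      ∃ q : Q, (q : (Subgroup.centralizer ({z} : Set G))) * y0 * (q : (Subgroup.centralizer ({z} : Set G)))⁻¹ * y0⁻¹ = w.1 := fun w => w.2
  choose rep hrep using hrep
  let K : Q → {w : ↥⁅Q, X⁆ // ∃ q : Q, (q : (Subgroup.centralizer ({z} : Set G))) * y0 * (q : (Subgroup.centralizer ({z} : Set G)))⁻¹ * y0⁻¹ = w} := fun q =>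
    ⟨⟨_, Subgroup.commutator_mem_commutator q.2 y.2⟩, q, rfl⟩
  have hK : ∀ q : Q, Commute (((rep (K q))⁻¹ * q : Q) : (Subgroup.centralizer ({z} : Set G))) y0 := fun q => by
    have e := hrep (K q)
    change (rep (K q) : (Subgroup.centralizer ({z} : Set G))) * y0 * (rep (K q) : (Subgroup.centralizer ({z} : Set G)))⁻¹ * y0⁻¹ = (q : (Subgroup.centralizer ({z} : Set G))) * y0 * (q : (Subgroup.centralizer ({z} : Set G)))⁻¹ * y0⁻¹ at e
    have e' := mul_right_cancel e
    show (((rep (K q))⁻¹ * q : Q) : (Subgroup.centralizer ({z} : Set G))) * y0 = y0 * (((rep (K q))⁻¹ * q : Q) : (Subgroup.centralizer ({z} : Set G)))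
    push_cast
    calc (rep (K q) : (Subgroup.centralizer ({z} : Set G)))⁻¹ * q * y0 = (rep (K q) : (Subgroup.centralizer ({z} : Set G)))⁻¹ * ((q : (Subgroup.centralizer ({z} : Set G))) * y0 * (q : (Subgroup.centralizer ({z} : Set G)))⁻¹) * q := by group
      _ = y0 * ((rep (K q) : (Subgroup.centralizer ({z} : Set G)))⁻¹ * q) := by rw [← e']; group
  let F : Q → ↥⁅Q, X⁆ × CQ := fun q => ((K q).1, ⟨(rep (K q))⁻¹ * q, hK q⟩)
  have hF' : Function.Injective F := fun q q' he => by
    have e1 : K q = K q' := Subtype.ext (Prod.ext_iff.1 he).1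
    have e2 := congrArg Subtype.val (Prod.ext_iff.1 he).2
    simp only [F] at e2
    rw [e1] at e2
    exact mul_left_cancel e2
  have hle := Nat.card_le_card_of_injective F hF'
  rw [Nat.card_prod, hQX, hcard] at hle
  have hfix : 16 ≤ Nat.card {q : G // q ∈ Q.map (Subgroup.centralizer ({z} : Set G)).subtype ∧ Commute q (y0 : G)} := by
    refine le_trans ?_ (Nat.card_le_card_of_injective
      (fun q : CQ => (⟨((q.1 : (Subgroup.centralizer ({z} : Set G))) : G), ⟨⟨_, q.1.2, rfl⟩, q.2.map (Subgroup.centralizer ({z} : Set G)).subtype⟩⟩ :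
        {q : G // q ∈ Q.map (Subgroup.centralizer ({z} : Set G)).subtype ∧ Commute q (y0 : G)})) fun q q' he => ?_)
    · omega
    · exact Subtype.ext (Subtype.ext (Subtype.ext (congrArg (fun r => r.1) he :)))
  obtain ⟨c, hc⟩ := b.conj_to_f hC (y := (y0 : G)) (Subgroup.mem_centralizer_singleton_iff.1 y0.2)
    (by rw [Subgroup.orderOf_coe]; exact hy3') hfix
  refine b.loc.final _ c⁻¹ ?_ P
  rw [← hXy, MonoidHom.map_zpowers, MonoidHom.map_zpowers]
  show Subgroup.zpowers (y0 : G) = Subgroup.zpowers (c⁻¹ * ε Lib.SuzM11H6.af * c⁻¹⁻¹)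
  rcases hc with hc | hc
  · congr 1
    rw [← hc]
    group
  · rw [← Subgroup.zpowers_inv]
    congr 1
    rw [show ε Lib.SuzM11H6.af = (c * y0 * c⁻¹ : G)⁻¹ by rw [hc, inv_inv]]
    group

end Cfsg.Agent.S1725
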