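import Cfsg.Statements.S1753

set_option autoImplicit false
universe u
open Cfsg

namespace Cfsg.Agent.S1753

/-- Let K be any property of groups. (1) If G is a minimal counterexample relative to K — a finite non-abelian simple group not satisfying K such that every finite non-abelian simple group of smaller order satisfies K — then every proper subgroup of G is a K-group (all its non-abelian simple sections satisfy K), since such sections have smaller order than G. (2) Consequently (induction on the order), if every finite non-abelian simple group all of whose proper subgroups are K-groups satisfies K, then every finite non-abelian simple group satisfies K. -/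
theorem result (K : ∀ (X : Type u) [Group X], Prop) :
    (∀ (G : Type u) [Group G], Cfsg.IsMinCounterexampleWith K G → Cfsg.IsKProperWith K G) ∧
      ((∀ (X : Type u) [Group X] [Finite X], IsSimpleGroup X → ¬ IsMulCommutative X → Cfsg.IsKProperWith K X → K X) →
        ∀ (G : Type u) [Group G] [Finite G], IsSimpleGroup G → ¬ IsMulCommutative G → K G) := by
  refine ⟨fun G _ hmin => ?_, ?_⟩
  · obtain ⟨hfin, hs, hna, hK, hsmall⟩ := hmin
    haveI := hfin
    intro H hH L N _ hsimp hnab
    refine hsmall _ hsimp hnab ?_
    calc Nat.card (↥L ⧸ N) ≤ Nat.card ↥L := Nat.card_le_card_of_surjective _ (QuotientGroup.mk'_surjective N)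
      _ ≤ Nat.card ↥H := Nat.card_le_card_of_injective _ L.subtype_injective
      _ < Nat.card G := by
        by_contra hle
        exact hH (Subgroup.eq_top_of_le_card H (not_lt.mp hle))
  · intro hall G _ _ hs hna
    obtain ⟨n, hn⟩ : ∃ n, Nat.card G = n := ⟨_, rfl⟩
    induction n using Nat.strong_induction_on generalizing G with
    | _ n ih =>
      refine hall G hs hna ?_
      intro H hH L N _ hsimp hnab
      refine ih (Nat.card (↥L ⧸ N)) ?_ _ hsimp hnab rfl
      calc Nat.card (↥L ⧸ N) ≤ Nat.card ↥L := Nat.card_le_card_of_surjective _ (QuotientGroup.mk'_surjective N)
        _ ≤ Nat.card ↥H := Nat.card_le_card_of_injective _ L.subtype_injective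
        _ < Nat.card G := by
          by_contra hle
          exact hH (Subgroup.eq_top_of_le_card H (not_lt.mp hle))
        _ = n := hn

end Cfsg.Agent.S1753
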