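import Cfsg.Statements.S1755
import Cfsg.Agent.Lib.K41.Symplectic

set_option autoImplicit false
open Cfsg Cfsg.Agent.Lib.K41.Symplectic

namespace Cfsg.Agent.S1755

set_option quotPrecheck false
local notation:max "Cz" z:max => Subgroup.centralizer ({z} : Set _)
local notation:max "Fz" z:max => Cfsg.generalizedFittingSubgroup ↥(Subgroup.centralizer ({z} : Set _))
local notation:max "TIB" z:max B:max => Subgroup.map (Subgroup.centralizer ({z} : Set _)).subtype
  (Subgroup.map (Subgroup.subtype (Cfsg.generalizedFittingSubgroup ↥(Subgroup.centralizer ({z} : Set _)))) B)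

/-- Let G be a finite group and let z be an involution of G such that Q, the generalized Fitting subgroup of the centralizer C of z, is a 2-group of symplectic type (every characteristic abelian subgroup of Q is cyclic). Let B be a characteristic abelian subgroup of Q, viewed as a subgroup of G. Then for every g in G, the conjugate of B by g either equals B or meets B trivially. -/
theorem result {G : Type*} [Group G] [Finite G] (z : G) (hz : orderOf z = 2) (hQ : Cfsg.IsOfSymplecticType ↥(Cfsg.generalizedFittingSubgroup ↥(Subgroup.centralizer ({z} : Set G))))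
    (B : Subgroup ↥(Cfsg.generalizedFittingSubgroup ↥(Subgroup.centralizer ({z} : Set G)))) (hBc : B.Characteristic) (hBa : IsMulCommutative ↥B) (g : G) :
    ((B.map (Cfsg.generalizedFittingSubgroup ↥(Subgroup.centralizer ({z} : Set G))).subtype).map (Subgroup.centralizer ({z} : Set G)).subtype).map (MulAut.conj g).toMonoidHom =
        (B.map (Cfsg.generalizedFittingSubgroup ↥(Subgroup.centralizer ({z} : Set G))).subtype).map (Subgroup.centralizer ({z} : Set G)).subtype ∨
      ((B.map (Cfsg.generalizedFittingSubgroup ↥(Subgroup.centralizer ({z} : Set G))).subtype).map (Subgroup.centralizer ({z} : Set G)).subtype).map (MulAut.conj g).toMonoidHom ⊓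
        (B.map (Cfsg.generalizedFittingSubgroup ↥(Subgroup.centralizer ({z} : Set G))).subtype).map (Subgroup.centralizer ({z} : Set G)).subtype = ⊥ := by
  by_cases hbot : (TIB z B).map (MulAut.conj g).toMonoidHom ⊓ (TIB z B) = ⊥
  · exact Or.inr hbot
  left
  haveI : Fact (Nat.Prime 2) := ⟨Nat.prime_two⟩
  haveI := hQ.2 B hBc hBa
  -- every involution of `(TIB z B)` is `z`
  have hinv : ∀ u ∈ (TIB z B), orderOf u = 2 → u = z := by
    intro u hu hu2
    obtain ⟨_, ⟨b, hb, rfl⟩, rfl⟩ := hu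
    refine eq_of_central hz hQ ⟨_, b.2, rfl⟩ hu2 ?_
    rintro _ ⟨q, hq, rfl⟩
    haveI : B.Normal := inferInstance
    have hb2 : orderOf b = 2 := by
      rw [← Subgroup.orderOf_coe b, ← Subgroup.orderOf_coe (b : ↥(Cz z))]; exact hu2
    have := invol_unique (a := (⟨⟨q, hq⟩ * b * ⟨q, hq⟩⁻¹, Subgroup.Normal.conj_mem inferInstance b hb _⟩ : B))
      (b := ⟨b, hb⟩) (by rw [Subgroup.orderOf_mk]; exact (MulEquiv.orderOf_eq (MulAut.conj (⟨q, hq⟩ : (Fz z))) b).trans hb2)
      (by rw [Subgroup.orderOf_mk, hb2])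
    have h' : (⟨q, hq⟩ : (Fz z)) * b = b * ⟨q, hq⟩ := mul_inv_eq_iff_eq_mul.mp (congrArg Subtype.val this)
    exact congrArg (fun v : (Fz z) => ((v : ↥(Cz z)) : G)) h'
  haveI : Nontrivial ↥((TIB z B).map (MulAut.conj g).toMonoidHom ⊓ (TIB z B)) :=
    (Subgroup.nontrivial_iff_ne_bot _).mpr hbot
  have hp : IsPGroup 2 ↥(TIB z B) := (((hQ.1).to_subgroup B).map _).map _
  obtain ⟨n, hn, hc⟩ := (hp.to_le (inf_le_right :
    (TIB z B).map (MulAut.conj g).toMonoidHom ⊓ (TIB z B) ≤ (TIB z B))).nontrivial_iff_card.mp inferInstance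
  obtain ⟨⟨u, ⟨v, hv, hvu⟩, hu⟩, hu2⟩ := exists_prime_orderOf_dvd_card'
    (G := ↥((TIB z B).map (MulAut.conj g).toMonoidHom ⊓ (TIB z B))) 2 (hc ▸ dvd_pow_self 2 hn.ne')
  replace hu2 : orderOf u = 2 := (Subgroup.orderOf_coe _).trans hu2
  have huz : u = z := hinv u hu hu2
  have hvz : v = z := by
    refine hinv v hv ?_
    rw [← hu2, ← hvu]
    exact (MulEquiv.orderOf_eq (MulAut.conj g) v).symm
  rw [hvz, huz] at hvu
  have hgC : g ∈ (Cz z) := by
    rw [Subgroup.mem_centralizer_singleton_iff]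
    exact mul_inv_eq_iff_eq_mul.mp hvu
  haveI : (B.map (Fz z).subtype).Normal := by
    haveI : (Fz z).Normal := Cfsg.Agent.Lib.Components.GenFitting.generalizedFitting_normal
    exact ConjAct.normal_of_characteristic_of_normal
  apply le_antisymm
  · rintro _ ⟨_, ⟨b, hb, rfl⟩, rfl⟩
    exact ⟨⟨g, hgC⟩ * b * ⟨g, hgC⟩⁻¹, Subgroup.Normal.conj_mem inferInstance b hb _, rfl⟩
  · rintro _ ⟨b, hb, rfl⟩
    refine ⟨_, ⟨(⟨g, hgC⟩ : (Cz z))⁻¹ * b * ⟨g, hgC⟩, ?_, rfl⟩, ?_⟩
    · simpa using Subgroup.Normal.conj_mem (inferInstance : (B.map (Fz z).subtype).Normal) b hb (⟨g, hgC⟩ : (Cz z))⁻¹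
    · show g * (g⁻¹ * (b : G) * g) * g⁻¹ = (b : G)
      group

end Cfsg.Agent.S1755
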