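import Cfsg.Statements.S1756
import Cfsg.Agent.Lib.PGroups.Frattini
import Mathlib.GroupTheory.IndexNormal

set_option autoImplicit false
open Cfsg

namespace Cfsg.Agent.S1756

/-- Let Q be an extraspecial 2-subgroup of the finite group G (special with centre of order 2) and t an involution of G normalizing Q such that the centralizer of t in Q has index at most 2 in Q. Then t lies in the product of Q with the centralizer of Q. -/
theorem result {G : Type*} [Group G] [Finite G] (Q : Subgroup G)
    (hQ : Cfsg.IsExtraspecial 2 ↥Q) (t : G) (ht : orderOf t = 2) (htN : t ∈ Subgroup.normalizer (Q : Set G))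
    (hi : (Subgroup.centralizer ({t} : Set G) ⊓ Q).relIndex Q ≤ 2) :
    t ∈ Q ⊔ Subgroup.centralizer (Q : Set G) := by
  classical
  haveI : Fact (Nat.Prime 2) := ⟨Nat.prime_two⟩
  obtain ⟨⟨hQp, hΦ, hD⟩, hZ⟩ := hQ
  -- conjugation by `t` on `Q`
  let τ : MulAut ↥Q := Q.normalizerMonoidHom ⟨t, htN⟩
  have hττ : ∀ y, τ (τ y) = y := by
    intro y
    apply Subtype.ext
    show t * (t * (y : G) * t⁻¹) * t⁻¹ = (y : G)
    have h : t * t = 1 := by rw [← pow_two, ← ht, pow_orderOf_eq_one]
    calc t * (t * (y : G) * t⁻¹) * t⁻¹ = (t * t) * (y : G) * (t * t)⁻¹ := by group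
      _ = (y : G) := by rw [h]; group
  set H : Subgroup ↥Q := (Subgroup.centralizer ({t} : Set G) ⊓ Q).subgroupOf Q with hHdef
  have hH : ∀ h : ↥Q, h ∈ H ↔ τ h = h := by
    intro h
    rw [hHdef, Subgroup.mem_subgroupOf, Subgroup.mem_inf, Subgroup.mem_centralizer_singleton_iff]
    constructor
    · rintro ⟨h1, -⟩
      apply Subtype.ext
      show t * (h : G) * t⁻¹ = (h : G)
      rw [← h1, mul_inv_cancel_right]
    · intro h1
      refine ⟨?_, h.2⟩
      have h2 : t * (h : G) * t⁻¹ = (h : G) := congrArg Subtype.val h1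
      exact (mul_inv_eq_iff_eq_mul.mp h2).symm
  -- finish: an element of `Q` inducing the same automorphism as `t`
  have fin : ∀ x : ↥Q, (∀ y : ↥Q, τ y = x * y * x⁻¹) → t ∈ Q ⊔ Subgroup.centralizer (Q : Set G) := by
    intro x hx
    have hc : (x : G)⁻¹ * t ∈ Subgroup.centralizer (Q : Set G) := by
      rw [Subgroup.mem_centralizer_iff]
      intro y hy
      have h' : t * y * t⁻¹ = (x : G) * y * (x : G)⁻¹ := congrArg Subtype.val (hx ⟨y, hy⟩)
      calc y * ((x : G)⁻¹ * t) = (x : G)⁻¹ * ((x : G) * y * (x : G)⁻¹) * t := by group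
        _ = (x : G)⁻¹ * t * y := by rw [← h']; group
    have := mul_mem (Subgroup.mem_sup_left x.2 : (x : G) ∈ Q ⊔ Subgroup.centralizer (Q : Set G))
      (Subgroup.mem_sup_right hc)
    rwa [mul_inv_cancel_left] at this
  by_cases htop : H = ⊤
  · exact fin 1 fun y => by simpa using (hH y).mp (htop ▸ Subgroup.mem_top y)
  have hidx : H.index = 2 := by
    have h1 : H.index ≤ 2 := hi
    have h2 : H.index ≠ 0 := Subgroup.index_ne_zero_of_finite
    have h3 : H.index ≠ 1 := fun h => htop (Subgroup.index_eq_one.mp h)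
    omega
  haveI hHn : H.Normal := Subgroup.normal_of_index_eq_two hidx
  have hHco : IsCoatom H := by
    refine ⟨htop, fun K hK => ?_⟩
    have hd := Subgroup.relIndex_mul_index hK.le
    rw [hidx] at hd
    have hKd : K.index ∣ 2 := Dvd.intro_left _ hd
    rcases (Nat.dvd_prime Nat.prime_two).mp hKd with h | h
    · exact Subgroup.index_eq_one.mp h
    · exfalso
      rw [h] at hd
      have : H.relIndex K = 1 := by omega
      exact hK.not_ge (Subgroup.relIndex_eq_one.mp this)
  have hZH : Subgroup.center ↥Q ≤ H := hΦ ▸ frattini_le_coatom hHco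
  obtain ⟨y₀, hy₀⟩ : ∃ y, y ∉ H := by
    by_contra h; simp only [not_exists, not_not] at h; exact htop (eq_top_iff.mpr fun y _ => h y)
  have hgen : ∀ y, y ∈ H ∨ y₀⁻¹ * y ∈ H := by
    intro y
    by_cases hy : y ∈ H
    · exact Or.inl hy
    · refine Or.inr ((Subgroup.mul_mem_iff_of_index_two hidx).mpr ?_)
      simp [hy, hy₀]
  set w : ↥Q := y₀⁻¹ * τ y₀ with hw
  have hτy : τ y₀ = y₀ * w := by rw [hw, mul_inv_cancel_left]
  have hwH : ∀ h ∈ H, w * h = h * w := by
    intro h hh
    have hc : y₀ * h * y₀⁻¹ ∈ H := hHn.conj_mem h hh y₀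
    have e : τ y₀ * h * (τ y₀)⁻¹ = y₀ * h * y₀⁻¹ := by
      have := (hH _).mp hc
      rwa [map_mul, map_mul, map_inv, (hH h).mp hh] at this
    rw [hτy] at e
    calc w * h = y₀⁻¹ * (y₀ * w * h * (y₀ * w)⁻¹) * y₀ * w := by group
      _ = h * w := by rw [e]; group
  have hwne : w ≠ 1 := fun h => hy₀ ((hH y₀).mpr (by rw [hτy, h, mul_one]))
  have hwH' : w ∈ H := by
    by_contra hwn
    have hwc : w ∈ Subgroup.center ↥Q := by
      rw [Subgroup.mem_center_iff]
      intro y
      rcases hgen y with hy | hy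
      · exact (hwH y hy).symm
      rcases hgen w with hw' | hw'
      · exact absurd hw' hwn
      have h1 : w * (y₀⁻¹ * w) = (y₀⁻¹ * w) * w := hwH _ hw'
      have h2 : w * y₀⁻¹ = y₀⁻¹ * w := mul_right_cancel (b := w) (by rw [mul_assoc]; exact h1)
      have h4 : w * y₀ = y₀ * w := by
        calc w * y₀ = y₀ * (y₀⁻¹ * w) * y₀ := by group
          _ = y₀ * w := by rw [← h2]; group
      have h3 := hwH _ hy
      calc y * w = y₀ * ((y₀⁻¹ * y) * w) := by group
        _ = (y₀ * w) * (y₀⁻¹ * y) := by rw [← h3]; group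
        _ = w * y := by rw [← h4]; group
    exact hwn (hZH hwc)
  have hsq : ∀ y : ↥Q, y * y ∈ Subgroup.center ↥Q := by
    intro y
    rw [← hΦ, ← pow_two]
    exact Cfsg.Agent.Lib.PGroups.pow_mem_frattini hQp y
  have hww : w * w = 1 := by
    have := hττ y₀
    rw [hτy, map_mul, (hH w).mp hwH', hτy, mul_assoc] at this
    exact mul_left_cancel (this.trans (mul_one y₀).symm)
  have hwy : w * y₀ = y₀ * w := by
    have h1 : τ (y₀ * y₀) = y₀ * y₀ := (hH _).mp (hZH (hsq y₀))
    rw [map_mul, hτy, mul_assoc] at h1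
    have h2 : w * (y₀ * w) = y₀ := mul_left_cancel h1
    calc w * y₀ = w * (y₀ * w) * w := by simp only [mul_assoc, hww, mul_one]
      _ = y₀ * w := by rw [h2]
  have hwc : w ∈ Subgroup.center ↥Q := by
    rw [Subgroup.mem_center_iff]
    intro y
    rcases hgen y with hy | hy
    · exact (hwH y hy).symm
    · calc y * w = y₀ * ((y₀⁻¹ * y) * w) := by group
        _ = (y₀ * w) * (y₀⁻¹ * y) := by rw [← hwH _ hy]; group
        _ = w * y := by rw [← hwy]; group
  -- the centre has exactly two elements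
  have hZ2 : ∀ c ∈ Subgroup.center ↥Q, c = 1 ∨ c = w := by
    intro c hc
    by_contra hcon
    simp only [not_or] at hcon
    have h3 : ({(⟨1, one_mem _⟩ : Subgroup.center ↥Q), ⟨w, hwc⟩, ⟨c, hc⟩} : Finset (Subgroup.center ↥Q)).card
        = 3 := by
      rw [Finset.card_insert_of_notMem, Finset.card_pair]
      · intro h; exact hcon.2 (congrArg Subtype.val h).symm
      · simp only [Finset.mem_insert, Finset.mem_singleton, not_or]
        exact ⟨fun h => hwne (congrArg Subtype.val h).symm, fun h => hcon.1 (congrArg Subtype.val h).symm⟩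
    haveI := Fintype.ofFinite ↥(Subgroup.center ↥Q)
    have := Finset.card_le_univ ({(⟨1, one_mem _⟩ : Subgroup.center ↥Q), ⟨w, hwc⟩, ⟨c, hc⟩} : Finset (Subgroup.center ↥Q))
    rw [h3, ← Nat.card_eq_fintype_card, hZ] at this
    omega
  have hcomm : ∀ a b : ↥Q, a * b * a⁻¹ * b⁻¹ ∈ Subgroup.center ↥Q := fun a b =>
    hD ▸ Subgroup.commutator_mem_commutator (Subgroup.mem_top a) (Subgroup.mem_top b)
  have hCk : ∀ k : ↥Q, (Subgroup.centralizer ({k} : Set ↥Q)).index ≤ 2 := by
    intro k
    let f : ↥Q ⧸ Subgroup.centralizer ({k} : Set ↥Q) → ↥(Subgroup.center ↥Q) :=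
      Quotient.lift (fun a => ⟨a * k * a⁻¹ * k⁻¹, hcomm a k⟩) (by
        intro a b hab
        have hab' : a⁻¹ * b ∈ Subgroup.centralizer ({k} : Set ↥Q) := QuotientGroup.leftRel_apply.mp hab
        rw [Subgroup.mem_centralizer_singleton_iff] at hab'
        apply Subtype.ext
        show a * k * a⁻¹ * k⁻¹ = b * k * b⁻¹ * k⁻¹
        calc a * k * a⁻¹ * k⁻¹ = a * (k * (a⁻¹ * b)) * b⁻¹ * k⁻¹ := by group
          _ = b * k * b⁻¹ * k⁻¹ := by rw [← hab']; group)
    have hf : Function.Injective f := by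
      intro a b
      induction a using QuotientGroup.induction_on with | H a => ?_
      induction b using QuotientGroup.induction_on with | H b => ?_
      intro h
      apply QuotientGroup.eq.mpr
      rw [Subgroup.mem_centralizer_singleton_iff]
      have h' : a * k * a⁻¹ = b * k * b⁻¹ := mul_right_cancel (congrArg Subtype.val h)
      calc (a⁻¹ * b) * k = a⁻¹ * (b * k * b⁻¹) * b := by group
        _ = k * (a⁻¹ * b) := by rw [← h']; group
    calc _ = Nat.card (↥Q ⧸ Subgroup.centralizer ({k} : Set ↥Q)) := Subgroup.index_eq_card _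
      _ ≤ Nat.card ↥(Subgroup.center ↥Q) := Nat.card_le_card_of_injective f hf
      _ = 2 := hZ
  have hind : ∀ (n : ℕ) (K : Subgroup ↥Q), Nat.card ↥K ≤ n → Subgroup.center ↥Q ≤ K →
      (Subgroup.centralizer (K : Set ↥Q)).index * 2 ≤ Nat.card ↥K := by
    intro n
    induction n with
    | zero => intro K hK; have := Nat.card_pos (α := ↥K); omega
    | succ n ih =>
      intro K hKn hZK
      by_cases hKZ : K = Subgroup.center ↥Q
      · subst hKZ
        rw [Subgroup.centralizer_eq_top_iff_subset.mpr (fun a ha => ha), Subgroup.index_top, hZ]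
      obtain ⟨K', hK'⟩ := (Set.toFinite {L : Subgroup ↥Q | Subgroup.center ↥Q ≤ L ∧ L < K}).exists_maximal
        ⟨_, le_rfl, lt_of_le_of_ne hZK (Ne.symm hKZ)⟩
      obtain ⟨⟨hZK', hlt⟩, hmax⟩ := hK'
      obtain ⟨k, hkK, hkK'⟩ := SetLike.exists_of_lt hlt
      have hsup : K = K' ⊔ Subgroup.closure {k} := by
        refine le_antisymm ?_ (sup_le hlt.le ((Subgroup.closure_le _).mpr (by simpa using hkK)))
        by_contra hne
        refine hkK' (hmax ⟨hZK'.trans le_sup_left, lt_of_le_of_ne
          (sup_le hlt.le ((Subgroup.closure_le _).mpr (by simpa using hkK))) fun h => hne h.ge⟩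
          le_sup_left (Subgroup.mem_sup_right (Subgroup.mem_closure_singleton_self k)))
      have hle : Subgroup.centralizer (K' : Set ↥Q) ⊓ Subgroup.centralizer ({k} : Set ↥Q) ≤
          Subgroup.centralizer (K : Set ↥Q) := by
        rw [Subgroup.le_centralizer_iff, hsup, sup_le_iff]
        refine ⟨Subgroup.le_centralizer_iff.mp inf_le_left, (Subgroup.closure_le _).mpr ?_⟩
        intro a ha
        rw [Set.mem_singleton_iff] at ha
        subst ha
        rw [SetLike.mem_coe, Subgroup.mem_centralizer_iff]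
        intro c hc
        exact Subgroup.mem_centralizer_singleton_iff.mp hc.2
      have hcard : 2 * Nat.card ↥K' ≤ Nat.card ↥K := by
        obtain ⟨c, hc⟩ := Subgroup.card_dvd_of_le hlt.le
        rcases Nat.lt_or_ge c 2 with h | h
        · exfalso
          have : Nat.card ↥K ≤ Nat.card ↥K' := by
            rw [hc]
            calc Nat.card ↥K' * c ≤ Nat.card ↥K' * 1 := Nat.mul_le_mul_left _ (by omega)
              _ = _ := mul_one _
          exact hlt.ne (Subgroup.eq_of_le_of_card_ge hlt.le this)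
        · rw [hc, mul_comm 2]
          exact Nat.mul_le_mul_left _ h
      have hi1 := ih K' (by have := Nat.card_pos (α := ↥K'); omega) hZK'
      have hi2 := hCk k
      have hpos : (Subgroup.centralizer (K' : Set ↥Q) ⊓ Subgroup.centralizer ({k} : Set ↥Q)).index ≠ 0 :=
        Subgroup.index_ne_zero_of_finite
      have hi3 := Nat.le_of_dvd (Nat.pos_of_ne_zero hpos) (Subgroup.index_dvd_of_le hle)
      calc (Subgroup.centralizer (K : Set ↥Q)).index * 2
          ≤ ((Subgroup.centralizer (K' : Set ↥Q)).index * (Subgroup.centralizer ({k} : Set ↥Q)).index) * 2 :=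
            Nat.mul_le_mul_right _ (hi3.trans Subgroup.index_inf_le)
        _ ≤ ((Subgroup.centralizer (K' : Set ↥Q)).index * 2) * 2 :=
            Nat.mul_le_mul_right _ (Nat.mul_le_mul_left _ hi2)
        _ ≤ Nat.card ↥K' * 2 := Nat.mul_le_mul_right _ hi1
        _ ≤ Nat.card ↥K := by omega
  obtain ⟨x, hxH, hxZ⟩ : ∃ x ∈ Subgroup.centralizer (H : Set ↥Q), x ∉ Subgroup.center ↥Q := by
    by_contra hcon
    simp only [not_exists, not_and, not_not] at hcon
    have h1 := Subgroup.card_le_of_le (show Subgroup.centralizer (H : Set ↥Q) ≤ Subgroup.center ↥Q from hcon)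
    have h2 := hind _ H le_rfl hZH
    have h3 := Subgroup.card_mul_index (Subgroup.centralizer (H : Set ↥Q))
    have h4 := Subgroup.card_mul_index H
    rw [hidx] at h4
    rw [hZ] at h1
    have h5 := Nat.mul_le_mul_right (Subgroup.centralizer (H : Set ↥Q)).index h1
    have h6 := Nat.card_pos (α := ↥H)
    omega
  have hxy : x * y₀ * x⁻¹ = y₀ * w := by
    have hne : x * y₀ * x⁻¹ * y₀⁻¹ ≠ 1 := by
      intro h
      rw [mul_inv_eq_one, mul_inv_eq_iff_eq_mul] at h
      apply hxZ
      rw [Subgroup.mem_center_iff]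
      intro y
      rcases hgen y with hy | hy
      · exact (Subgroup.mem_centralizer_iff.mp hxH y hy)
      · calc y * x = y₀ * ((y₀⁻¹ * y) * x) := by group
          _ = y₀ * (x * (y₀⁻¹ * y)) := by rw [Subgroup.mem_centralizer_iff.mp hxH _ hy]
          _ = (y₀ * x) * (y₀⁻¹ * y) := by group
          _ = x * y := by rw [← h]; group
    rcases hZ2 _ (hcomm x y₀) with h | h
    · exact absurd h hne
    · rw [mul_inv_eq_iff_eq_mul.mp h, Subgroup.mem_center_iff.mp hwc]
  refine fin x fun y => ?_
  rcases hgen y with hy | hy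
  · rw [(hH y).mp hy, (Subgroup.mem_centralizer_iff.mp hxH y hy).symm, mul_inv_cancel_right]
  · calc τ y = τ (y₀ * (y₀⁻¹ * y)) := by rw [mul_inv_cancel_left]
      _ = y₀ * w * (y₀⁻¹ * y) := by rw [map_mul, hτy, (hH _).mp hy]
      _ = x * y₀ * x⁻¹ * (x * (y₀⁻¹ * y) * x⁻¹) := by
          rw [hxy, (Subgroup.mem_centralizer_iff.mp hxH _ hy).symm, mul_inv_cancel_right]
      _ = x * y * x⁻¹ := by group

end Cfsg.Agent.S1756
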