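import Cfsg.Statements.S1774
import Cfsg.Agent.Lib.K41.SymplecticExp4
import Cfsg.Agent.Lib.K41.TIWeak

set_option autoImplicit false
set_option maxHeartbeats 1000000
open Cfsg
open Cfsg.Agent.Lib.K41.Symplectic
open Cfsg.Agent.Lib.K41.TIWeak (cj mem_cj conj_mem_cj cj_mul card_cj)
open scoped commutatorElement

namespace Cfsg.Agent.S1774

/-- Let G be a finite group and let z be an involution of G such that Q, the generalized Fitting subgroup of the centralizer C of z, is a 2-group of symplectic type (every characteristic abelian subgroup of Q is cyclic); suppose every element of Q has order dividing 4. Let g ∈ G with z' = g z g⁻¹ ≠ z and z' ∈ Q. Then z lies in the conjugate g Q g⁻¹, and the subgroup X generated by Q and g Q g⁻¹ induces every automorphism of the four-group generated by z and z': for any two distinct non-identity elements u, v of that four-group there is x ∈ X with x z x⁻¹ = u and x z' x⁻¹ = v. -/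
theorem result {G : Type*} [Group G] [Finite G] (z : G) (hz : orderOf z = 2) (hQ : Cfsg.IsOfSymplecticType ↥(Cfsg.generalizedFittingSubgroup ↥(Subgroup.centralizer ({z} : Set G))))
    (h4 : ∀ q ∈ (Cfsg.generalizedFittingSubgroup ↥(Subgroup.centralizer ({z} : Set G))).map (Subgroup.centralizer ({z} : Set G)).subtype, q ^ 4 = 1) (g : G) (hne : g * z * g⁻¹ ≠ z) (hin : g * z * g⁻¹ ∈ (Cfsg.generalizedFittingSubgroup ↥(Subgroup.centralizer ({z} : Set G))).map (Subgroup.centralizer ({z} : Set G)).subtype) :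
    z ∈ ((Cfsg.generalizedFittingSubgroup ↥(Subgroup.centralizer ({z} : Set G))).map (Subgroup.centralizer ({z} : Set G)).subtype).map (MulAut.conj g).toMonoidHom ∧
      ∀ u ∈ Subgroup.closure ({z, g * z * g⁻¹} : Set G), ∀ v ∈ Subgroup.closure ({z, g * z * g⁻¹} : Set G),
        u ≠ 1 → v ≠ 1 → u ≠ v →
          ∃ x ∈ (Cfsg.generalizedFittingSubgroup ↥(Subgroup.centralizer ({z} : Set G))).map (Subgroup.centralizer ({z} : Set G)).subtype ⊔ ((Cfsg.generalizedFittingSubgroup ↥(Subgroup.centralizer ({z} : Set G))).map (Subgroup.centralizer ({z} : Set G)).subtype).map (MulAut.conj g).toMonoidHom, x * z * x⁻¹ = u ∧ x * (g * z * g⁻¹) * x⁻¹ = v := by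
  show z ∈ cj g (Qz z) ∧ ∀ u ∈ Subgroup.closure ({z, g * z * g⁻¹} : Set G),
    ∀ v ∈ Subgroup.closure ({z, g * z * g⁻¹} : Set G), u ≠ 1 → v ≠ 1 → u ≠ v →
      ∃ x ∈ Qz z ⊔ cj g (Qz z), x * z * x⁻¹ = u ∧ x * (g * z * g⁻¹) * x⁻¹ = v
  change g * z * g⁻¹ ∈ Qz z at hin
  have h4' : ∀ q ∈ Qz z, q ^ 4 = 1 := h4
  let C : Subgroup G := Subgroup.centralizer ({z} : Set G)
  have hC : C = Subgroup.centralizer ({z} : Set G) := rfl
  have hzz : z * z = 1 := by rw [← pow_two, ← hz]; exact pow_orderOf_eq_one z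
  have hzn : z ≠ 1 := fun h => by simp [h] at hz
  have hQC : ∀ x ∈ Qz z, x * z = z * x := fun x hx => commute_of_mem_Qz hx
  have hQn : ∀ c : G, c * z = z * c → ∀ x ∈ Qz z, c * x * c⁻¹ ∈ Qz z := by
    rintro c hc _ ⟨x, hx, rfl⟩
    exact ⟨_, (Cfsg.Agent.Lib.Components.GenFitting.generalizedFitting_normal).conj_mem x hx ⟨c, Subgroup.mem_centralizer_singleton_iff.mpr hc⟩,
      rfl⟩
  have hQp : IsPGroup 2 ↥(Qz z) := hQ.1.map _
  have hcentQ : ∀ c : G, c * z = z * c → (∀ x ∈ Qz z, c * x = x * c) → c ∈ Qz z := by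
    intro c hc hcx
    refine ⟨⟨c, Subgroup.mem_centralizer_singleton_iff.mpr hc⟩,
      Cfsg.Agent.Lib.Components.GenFitting.centralizer_le fun x hx => ?_, rfl⟩
    exact Subtype.ext (hcx x ⟨x, hx, rfl⟩).symm
  -- a non-central involution of `Q` is moved onto its product with `z`
  have hmove : ∀ t ∈ Qz z, t * t = 1 → t ≠ 1 → t ≠ z →
      ∃ q ∈ Qz z, q * t * q⁻¹ = z * t := by
    intro t ht ht2 ht1 htz
    by_contra hcon
    simp only [not_exists, not_and] at hcon
    refine htz (eq_of_central hz hQ ht (orderOf_eq_prime (by rwa [pow_two]) ht1) fun q hq => ?_)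
    rcases commElem_Qz hz hQ h4' hq ht with h | h
    · exact commutatorElement_eq_one_iff_mul_comm.mp h
    · exact absurd (by rw [← h]; simp [commutatorElement_def, mul_assoc]) (hcon q hq)
  set z' := g * z * g⁻¹ with hz'
  have hz'2 : z' * z' = 1 := by
    calc z' * z' = g * (z * z) * g⁻¹ := by simp [hz', mul_assoc]
      _ = 1 := by rw [hzz, mul_one, mul_inv_cancel]
  have hz'1 : z' ≠ 1 := by simpa [hz'] using hzn
  have hzz' : z * z' = z' * z := (hQC z' hin).symm
  obtain ⟨q, hq, hqz'⟩ := hmove z' hin hz'2 hz'1 hne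
  have hqz : q * z * q⁻¹ = z := by rw [hQC q hq, mul_inv_cancel_right]
  have hqzz' : q * (z * z') * q⁻¹ = z' := by
    calc q * (z * z') * q⁻¹ = (q * z * q⁻¹) * (q * z' * q⁻¹) := by simp [mul_assoc]
      _ = z * (z * z') := by rw [hqz, hqz']
      _ = z' := by rw [← mul_assoc, hzz, one_mul]
  have hcen : ∀ {c t : G}, c * t * c⁻¹ = t ↔ c * t = t * c := fun {c t} => mul_inv_eq_iff_eq_mul
  have hq2 : q * q * z' = z' * (q * q) := by
    apply hcen.mp
    calc q * q * z' * (q * q)⁻¹ = q * (q * z' * q⁻¹) * q⁻¹ := by simp [mul_assoc]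
      _ = z' := by rw [hqz', hqzz']
  let CC : Subgroup G := C ⊓ Subgroup.centralizer ({z'} : Set G)
  let R : Subgroup G := Qz z ⊓ Subgroup.centralizer ({z'} : Set G)
  have hmemCC : ∀ {c : G}, c ∈ CC ↔ c * z = z * c ∧ c * z' = z' * c := fun {c} => by
    simp only [CC, hC, Subgroup.mem_inf, Subgroup.mem_centralizer_singleton_iff]
  have hmemR : ∀ {c : G}, c ∈ R ↔ c ∈ Qz z ∧ c * z' = z' * c := fun {c} => by
    simp only [R, Subgroup.mem_inf, Subgroup.mem_centralizer_singleton_iff]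
  have hRCC : R ≤ CC := fun c hc =>
    hmemCC.mpr ⟨hQC c (hmemR.mp hc).1, (hmemR.mp hc).2⟩
  have hRnorm : ∀ c ∈ CC, ∀ x ∈ R, c * x * c⁻¹ ∈ R := fun c hc x hx => by
    refine hmemR.mpr ⟨hQn c (hmemCC.mp hc).1 x (hmemR.mp hx).1, Subgroup.mem_centralizer_singleton_iff.mp ?_⟩
    exact mul_mem (mul_mem hc.2 hx.2) (inv_mem hc.2)
  -- `q` normalises `CC`
  have hconjCC : ∀ a : G, a * z = z * a → a * z' * a⁻¹ ∈ ({z', z * z'} : Set G) →
      ∀ c ∈ CC, a * c * a⁻¹ ∈ CC := by
    intro a haz hmem c hc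
    obtain ⟨hcz, hcz'⟩ := hmemCC.mp hc
    have haz' : a⁻¹ * z * a = z := by rw [mul_assoc, ← haz, inv_mul_cancel_left]
    have hkey : ∀ t : G, c * (a⁻¹ * t * a) = (a⁻¹ * t * a) * c → (a * c * a⁻¹) * t = t * (a * c * a⁻¹) := by
      intro t ht
      have := congrArg (fun w => a * w * a⁻¹) ht
      simpa [mul_assoc] using this
    refine hmemCC.mpr ⟨hkey z (by rw [haz']; exact hcz), hkey z' ?_⟩
    rcases hmem with h | h
    · rw [show a⁻¹ * z' * a = z' by conv_lhs => rw [← h]; simp [mul_assoc]]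
      exact hcz'
    · have h' : a⁻¹ * z' * a = z * z' := by
        have e1 : a⁻¹ * (z * z') * a = z' := by
          rw [← Set.mem_singleton_iff.mp h]; simp [mul_assoc]
        have e2 : a⁻¹ * (z * z') * a = (a⁻¹ * z * a) * (a⁻¹ * z' * a) := by simp [mul_assoc]
        rw [e1, haz'] at e2
        calc a⁻¹ * z' * a = z * (z * (a⁻¹ * z' * a)) := by rw [← mul_assoc z z, hzz, one_mul]
          _ = z * z' := by rw [← e2]
      rw [h', ← mul_assoc, hcz, mul_assoc, hcz', ← mul_assoc]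
  -- the index of `CC` in `C` is even
  have hCCC : CC ≤ C := inf_le_left
  have heven : 2 ∣ CC.relIndex C := by
    let M : Subgroup G := C ⊓ Subgroup.normalizer (CC : Set G)
    have hqM : q ∈ M := by
      refine Subgroup.mem_inf.mpr ⟨Subgroup.mem_centralizer_singleton_iff.mpr (hQC q hq), ?_⟩
      rw [Subgroup.mem_normalizer_iff]
      intro c
      refine ⟨fun hc => hconjCC q (hQC q hq) (Or.inr hqz') c hc, fun hc => ?_⟩
      have h2 := hconjCC q⁻¹ (Commute.inv_left (hQC q hq)) (Or.inr (Set.mem_singleton_iff.mpr (by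
        have := congrArg (fun t => q⁻¹ * t * q) hqzz'
        simpa [mul_assoc] using this.symm))) _ hc
      simpa [mul_assoc] using h2
    have hCM : CC ≤ M := le_inf hCCC Subgroup.le_normalizer
    haveI : (CC.subgroupOf M).Normal :=
      (Subgroup.normal_subgroupOf_iff_le_normalizer hCM).mpr inf_le_right
    have ho : orderOf (QuotientGroup.mk' (CC.subgroupOf M) ⟨q, hqM⟩) = 2 := by
      refine orderOf_eq_prime ?_ ?_
      · rw [pow_two, ← map_mul, QuotientGroup.mk'_apply, QuotientGroup.eq_one_iff]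
        exact hmemCC.mpr ⟨hQC _ (mul_mem hq hq), hq2⟩
      · rw [Ne, QuotientGroup.mk'_apply, QuotientGroup.eq_one_iff]
        intro hmem
        have h1 := hcen.mpr (hmemCC.mp hmem).2
        change q * z' * q⁻¹ = z' at h1
        rw [hqz'] at h1
        exact hzn (mul_eq_right.mp h1)
    calc 2 ∣ Nat.card (↥M ⧸ CC.subgroupOf M) := ho ▸ orderOf_dvd_natCard _
      _ ∣ CC.relIndex C := ⟨M.relIndex C, (Subgroup.relIndex_mul_relIndex CC M C hCM inf_le_left).symm⟩
  -- an element of `C(z')` normalising a Sylow 2-subgroup of `CC`, not centralising `z`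
  obtain ⟨T⟩ := (inferInstance : Nonempty (Sylow 2 ↥CC))
  let C' : Subgroup G := Subgroup.centralizer ({z'} : Set G)
  have hCCC' : CC ≤ C' := inf_le_right
  have hcard : Nat.card ↥C' = Nat.card ↥C := by
    rw [← card_cj g C]
    congr 2
    ext x
    rw [mem_cj, hC, Subgroup.mem_centralizer_singleton_iff, Subgroup.mem_centralizer_singleton_iff, hz']
    constructor
    · intro h
      calc g⁻¹ * x * g * z = g⁻¹ * (x * (g * z * g⁻¹)) * g := by simp [mul_assoc]
        _ = g⁻¹ * ((g * z * g⁻¹) * x) * g := by rw [h]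
        _ = _ := by simp [mul_assoc]
    · intro h
      have := congrArg (fun t => g * t * g⁻¹) h
      simpa [mul_assoc] using this
  let T' : Subgroup G := (T : Subgroup ↥CC).map CC.subtype
  have hT'le : T' ≤ C' := (Subgroup.map_subtype_le _).trans hCCC'
  obtain ⟨P, hP⟩ := ((T.isPGroup'.map CC.subtype).comap_subtype (K := C')).exists_le_sylow
  have hPne : (P : Subgroup ↥C') ≠ T'.subgroupOf C' := by
    intro he
    have h1 := P.card_eq_multiplicity
    rw [he, Nat.card_congr (Subgroup.subgroupOfEquivOfLe hT'le).toEquiv,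
      Subgroup.card_map_of_injective CC.subtype_injective, T.card_eq_multiplicity, hcard,
      ← Subgroup.relIndex_mul_relIndex ⊥ CC C bot_le hCCC |>.trans (Subgroup.relIndex_bot_left C),
      Subgroup.relIndex_bot_left] at h1
    have h2 := Nat.pow_right_injective le_rfl h1
    have h0 : CC.relIndex C ≠ 0 := Nat.card_pos.ne' ∘ fun h => by
      have := Subgroup.relIndex_mul_relIndex ⊥ CC C bot_le hCCC
      rw [h, mul_zero, Subgroup.relIndex_bot_left] at this
      exact this.symm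
    rw [Nat.factorization_mul Nat.card_pos.ne' h0, Finsupp.add_apply] at h2
    have := Nat.Prime.factorization_pos_of_dvd Nat.prime_two h0 heven
    omega
  have hlt : T'.subgroupOf C' < (P : Subgroup ↥C') := lt_of_le_of_ne hP (Ne.symm hPne)
  obtain ⟨y₀, hy₀, hy₀T⟩ := SetLike.exists_of_lt (by
    haveI : Group.IsNilpotent ↥(P : Subgroup ↥C') := P.isPGroup'.isNilpotent
    exact Group.normalizerCondition_of_isNilpotent ((T'.subgroupOf C').subgroupOf P) (by
      rw [lt_top_iff_ne_top, Ne, Subgroup.subgroupOf_eq_top]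
      exact hlt.not_ge))
  set y : G := ((y₀ : ↥C') : G) with hy
  have hyT : y ∉ T' := hy₀T
  have hynorm : ∀ t ∈ T', y * t * y⁻¹ ∈ T' := fun t ht =>
    (Subgroup.mem_normalizer_iff.mp hy₀ ⟨⟨t, hT'le ht⟩, hP ht⟩).mp ht
  have hynorm' : ∀ t ∈ T', y⁻¹ * t * y ∈ T' := fun t ht =>
    (Subgroup.mem_normalizer_iff''.mp hy₀ ⟨⟨t, hT'le ht⟩, hP ht⟩).mp ht
  have hyz' : y * z' = z' * y := Subgroup.mem_centralizer_singleton_iff.mp (y₀ : ↥C').2
  have hyz : y * z ≠ z * y := by
    intro hc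
    have hyCC : y ∈ CC := hmemCC.mpr ⟨hc, hyz'⟩
    let P' : Subgroup ↥CC := ((P : Subgroup ↥C').map C'.subtype).subgroupOf CC
    have hTP : (T : Subgroup ↥CC) ≤ P' := fun t ht =>
      ⟨_, hP (show (⟨t, hCCC' t.2⟩ : ↥C') ∈ T'.subgroupOf C' from ⟨t, ht, rfl⟩), rfl⟩
    have := T.is_maximal' ((P.isPGroup'.map C'.subtype).comap_subtype) hTP
    refine hyT ⟨⟨y, hyCC⟩, ?_, rfl⟩
    rw [← this]
    exact ⟨_, (y₀).2, rfl⟩
  have hRT : R ≤ T' := by
    intro x hx
    haveI : (R.comap CC.subtype).Normal :=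
      ⟨fun n hn c => hRnorm c c.2 n hn⟩
    exact ⟨⟨x, hRCC hx⟩,
      ((hQp.to_le inf_le_left : IsPGroup 2 ↥R).comap_subtype (K := CC)).le_sylow_of_normal T hx, rfl⟩
  have hzR : z ∈ R := hmemR.mpr ⟨self_mem_Qz z, hzz'⟩
  have hz'R : z' ∈ R := hmemR.mpr ⟨hin, rfl⟩
  set r := y * z * y⁻¹ with hr
  have hrT : r ∈ T' := hynorm z (hRT hzR)
  have hrc : ∀ t ∈ T', r * t = t * r := by
    intro t ht
    have h1 := (hmemCC.mp (Subgroup.map_subtype_le _ (hynorm' t ht))).1
    have h2 := congrArg (fun w => y * w * y⁻¹) h1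
    simp only [hr]
    simpa [mul_assoc] using h2.symm
  have hrz : r * z = z * r := hrc z (hRT hzR)
  have hrfix : ∀ x ∈ R, r * x * r⁻¹ = x := fun x hx => hcen.mpr (hrc x (hRT hx))
  have hr2 : r * r = 1 := by
    calc r * r = y * (z * z) * y⁻¹ := by simp [hr, mul_assoc]
      _ = 1 := by rw [hzz, mul_one, mul_inv_cancel]
  -- the position of `r q r⁻¹`
  have hqR : ∀ x ∈ R, q * x * q⁻¹ ∈ R := fun x hx => by
    obtain ⟨hxQ, hxz⟩ := hmemR.mp hx
    exact hmemR.mpr ⟨hQn q (hQC q hq) x hxQ,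
      (hmemCC.mp (hconjCC q (hQC q hq) (Or.inr hqz') x (hRCC hx))).2⟩
  set s := q⁻¹ * (r * q * r⁻¹) with hs
  have hrqr : r * q * r⁻¹ = q * s := by rw [hs, mul_inv_cancel_left]
  have hsQ : s ∈ Qz z := mul_mem (inv_mem hq) (hQn r hrz q hq)
  have hsR : s ∈ R := by
    refine hmemR.mpr ⟨hsQ, hcen.mp ?_⟩
    calc s * z' * s⁻¹ = q⁻¹ * (r * (q * (r⁻¹ * z' * r) * q⁻¹) * r⁻¹) * q := by
          simp [hs, mul_assoc]
      _ = q⁻¹ * (r * (q * z' * q⁻¹) * r⁻¹) * q := by
          rw [show r⁻¹ * z' * r = z' by rw [mul_assoc, ← hrc z' (hRT hz'R), inv_mul_cancel_left]]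
      _ = q⁻¹ * (q * z' * q⁻¹) * q := by
          rw [hrfix _ (hqR z' hz'R)]
      _ = z' := by simp [mul_assoc]
  have hsc : ∀ x ∈ R, s * x = x * s := by
    intro x hx
    apply hcen.mp
    calc s * x * s⁻¹ = q⁻¹ * (r * (q * (r⁻¹ * x * r) * q⁻¹) * r⁻¹) * q := by
          simp [hs, mul_assoc]
      _ = q⁻¹ * (r * (q * x * q⁻¹) * r⁻¹) * q := by
          rw [show r⁻¹ * x * r = x by rw [mul_assoc, ← hrc x (hRT hx), inv_mul_cancel_left]]
      _ = q⁻¹ * (q * x * q⁻¹) * q := by rw [hrfix _ (hqR x hx)]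
      _ = x := by simp [mul_assoc]
  have hs2 : s * s = 1 := by
    have h1 : r * (r * q * r⁻¹) * r⁻¹ = q := by
      calc r * (r * q * r⁻¹) * r⁻¹ = (r * r) * q * (r * r)⁻¹ := by simp [mul_assoc]
        _ = q := by rw [hr2]; simp
    have h2 : r * (q * s) * r⁻¹ = (r * q * r⁻¹) * (r * s * r⁻¹) := by simp [mul_assoc]
    rw [← hrqr, h1, hrfix s hsR, hrqr, mul_assoc] at h2
    exact mul_eq_left.mp h2.symm
  have hQgen : ∀ x ∈ Qz z, x ∈ R ∨ q⁻¹ * x ∈ R := by
    intro x hx
    rcases commElem_Qz hz hQ h4' hx hin with h | h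
    · exact Or.inl (hmemR.mpr ⟨hx, commutatorElement_eq_one_iff_mul_comm.mp h⟩)
    · refine Or.inr (hmemR.mpr ⟨mul_mem (inv_mem hq) hx, hcen.mp ?_⟩)
      have hxz : x * z' * x⁻¹ = q * z' * q⁻¹ := by
        rw [hqz', ← h]; simp [commutatorElement_def, mul_assoc]
      calc q⁻¹ * x * z' * (q⁻¹ * x)⁻¹ = q⁻¹ * (x * z' * x⁻¹) * q := by simp [mul_assoc]
        _ = z' := by rw [hxz]; simp [mul_assoc]
  have hscen : s = 1 ∨ s = z := by
    by_cases hs1 : s = 1
    · exact Or.inl hs1
    right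
    rcases commElem_Qz hz hQ h4' hsQ hq with h | h
    · refine eq_of_central hz hQ hsQ (orderOf_eq_prime (by rwa [pow_two]) hs1) fun x hx => ?_
      rcases hQgen x hx with h' | h'
      · exact (hsc x h').symm
      · have := (show Commute s q from commutatorElement_eq_one_iff_mul_comm.mp h).mul_right
          (hsc _ h')
        rw [mul_inv_cancel_left] at this
        exact this.eq.symm
    · exfalso
      apply hzn
      have h1 : r * (q * q) * r⁻¹ = (r * q * r⁻¹) * (r * q * r⁻¹) := by simp [mul_assoc]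
      rw [hrfix _ (hmemR.mpr ⟨mul_mem hq hq, hq2⟩), hrqr] at h1
      have hsq : s * q = z * q * s := by
        rw [← h]; simp [commutatorElement_def, mul_assoc]
      rw [show q * s * (q * s) = q * (s * q) * s by simp only [mul_assoc], hsq,
        show q * (z * q * s) * s = (q * z) * q * (s * s) by simp only [mul_assoc], hs2, mul_one,
        hQC q hq, mul_assoc] at h1
      exact mul_eq_right.mp h1.symm
  have hfinish : ∀ k : G, k * z = z * k → (∀ x ∈ R, k * x = x * k) → k * q = q * k → k * k = 1 →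
      k = 1 ∨ k = z := by
    intro k hkz hkR hkq hk2
    have hkc : ∀ x ∈ Qz z, k * x = x * k := by
      intro x hx
      rcases hQgen x hx with h | h
      · exact hkR x h
      · have := (show Commute k q from hkq).mul_right (hkR _ h)
        rwa [mul_inv_cancel_left] at this
    by_cases hk1 : k = 1
    · exact Or.inl hk1
    exact Or.inr (eq_of_central hz hQ (hcentQ k hkz hkc) (orderOf_eq_prime (by rwa [pow_two]) hk1)
      fun x hx => (hkc x hx).symm)
  have hrz' : r * z' = z' * r := hrc z' (hRT hz'R)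
  have hrne : r ≠ z := fun h => hyz (hcen.mp h)
  have hyfix : y * z' * y⁻¹ = z' := hcen.mpr hyz'
  have hrne' : r ≠ z' := fun h => hne (by
    have : z = z' := mul_left_cancel (mul_right_cancel (h.trans hyfix.symm))
    exact this.symm)
  have hr1 : r ≠ 1 := by simpa [hr] using hzn
  have hreq : r = z * z' := by
    rcases hscen with h | h
    · rw [h, mul_one] at hrqr
      rcases hfinish r hrz (fun x hx => hrc x (hRT hx)) (hcen.mp hrqr) hr2 with h' | h'
      · exact absurd h' hr1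
      · exact absurd h' hrne
    · rw [h] at hrqr
      have hz'q : z' * q * z'⁻¹ = q * z := by
        calc z' * q * z'⁻¹ = q * ((q⁻¹ * z' * q) * z'⁻¹) := by simp [mul_assoc]
          _ = q * (z * z' * z'⁻¹) := by
              rw [show q⁻¹ * z' * q = z * z' by conv_lhs => rw [← hqzz']
                                                simp [mul_assoc]]
          _ = q * z := by simp [mul_assoc]
      have hk : r * z' * q * (r * z')⁻¹ = q := by
        calc r * z' * q * (r * z')⁻¹ = r * (z' * q * z'⁻¹) * r⁻¹ := by simp [mul_assoc]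
          _ = r * (q * z) * r⁻¹ := by rw [hz'q]
          _ = (r * q * r⁻¹) * (r * z * r⁻¹) := by simp [mul_assoc]
          _ = q * z * z := by rw [hrqr, hcen.mpr hrz]
          _ = q := by rw [mul_assoc, hzz, mul_one]
      have hk2 : r * z' * (r * z') = 1 := by
        rw [mul_assoc r, ← mul_assoc z', ← hrz', mul_assoc r z' z', hz'2, mul_one, hr2]
      rcases hfinish (r * z') ((show Commute r z from hrz).mul_left (hQC z' hin)).eq
        (fun x hx => ((show Commute r x from hrc x (hRT hx)).mul_left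
          ((hmemR.mp hx).2.symm)).eq) (hcen.mp hk) hk2 with h' | h'
      · exact absurd (by
          calc r = r * z' * z' := by rw [mul_assoc, hz'2, mul_one]
            _ = z' := by rw [h', one_mul]) hrne'
      · calc r = r * z' * z' := by rw [mul_assoc, hz'2, mul_one]
          _ = z * z' := by rw [h']
  have hyzz' : y * (z * z') * y⁻¹ = z := by
    calc y * (z * z') * y⁻¹ = (y * z * y⁻¹) * (y * z' * y⁻¹) := by simp [mul_assoc]
      _ = z * z' * z' := by rw [hyfix, ← hr, hreq]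
      _ = z := by rw [mul_assoc, hz'2, mul_one]
  have hyz1 : y * z * y⁻¹ = z * z' := hreq
  have hcomp : ∀ a b t : G, (a * b) * t * (a * b)⁻¹ = a * (b * t * b⁻¹) * a⁻¹ := fun a b t => by
    simp [mul_assoc]
  set k := y * q * y with hk
  have hkz : k * z * k⁻¹ = z' := by
    rw [hk, hcomp, hyz1, hcomp, hqzz', hyfix]
  have hkz' : k * z' * k⁻¹ = z := by
    rw [hk, hcomp, hyfix, hcomp, hqz', hyzz']
  have hfirst : z ∈ cj g (Qz z) := by
    rw [mem_cj]
    have hc : (g⁻¹ * k) * z = z * (g⁻¹ * k) := by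
      calc g⁻¹ * k * z = g⁻¹ * (k * z * k⁻¹) * k := by simp [mul_assoc]
        _ = z * (g⁻¹ * k) := by rw [hkz, hz']; simp [mul_assoc]
    have := hQn _ hc z' hin
    rw [show g⁻¹ * k * z' * (g⁻¹ * k)⁻¹ = g⁻¹ * (k * z' * k⁻¹) * g by simp [mul_assoc], hkz'] at this
    exact this
  refine ⟨hfirst, ?_⟩
  obtain ⟨q₁, hq₁, hq₁t⟩ := hmove (g⁻¹ * z * g) (mem_cj.mp hfirst)
    (by calc g⁻¹ * z * g * (g⁻¹ * z * g) = g⁻¹ * (z * z) * g := by simp [mul_assoc]
          _ = 1 := by rw [hzz, mul_one, inv_mul_cancel])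
    (by intro h; exact hzn (by simpa [mul_assoc] using congrArg (fun t => g * t * g⁻¹) h))
    (by intro h; exact hne (by
      have h2 := congrArg (fun t => g * t * g⁻¹) h
      simp [mul_assoc] at h2
      rw [hz', mul_assoc]
      exact h2.symm))
  set p := g * q₁ * g⁻¹ with hp
  have hpX : p ∈ Qz z ⊔ cj g (Qz z) := Subgroup.mem_sup_right (conj_mem_cj hq₁)
  have hqX : q ∈ Qz z ⊔ cj g (Qz z) := Subgroup.mem_sup_left hq
  have hpz : p * z * p⁻¹ = z * z' := by
    calc p * z * p⁻¹ = g * (q₁ * (g⁻¹ * z * g) * q₁⁻¹) * g⁻¹ := by simp [hp, mul_assoc]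
      _ = g * (z * (g⁻¹ * z * g)) * g⁻¹ := by rw [hq₁t]
      _ = z' * z := by simp [hz', mul_assoc]
      _ = z * z' := hzz'.symm
  have hpz' : p * z' * p⁻¹ = z' := by
    calc p * z' * p⁻¹ = g * (q₁ * z * q₁⁻¹) * g⁻¹ := by simp [hp, hz', mul_assoc]
      _ = z' := by rw [hQC q₁ hq₁, mul_inv_cancel_right]
  have hpzz' : p * (z * z') * p⁻¹ = z := by
    calc p * (z * z') * p⁻¹ = (p * z * p⁻¹) * (p * z' * p⁻¹) := by simp [mul_assoc]
      _ = z * z' * z' := by rw [hpz, hpz']
      _ = z := by rw [mul_assoc, hz'2, mul_one]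
  have hE : ∀ u ∈ Subgroup.closure ({z, z'} : Set G), u = 1 ∨ u = z ∨ u = z' ∨ u = z * z' := by
    intro u hu
    induction hu using Subgroup.closure_induction with
    | mem x hx => rcases hx with rfl | rfl <;> simp
    | one => simp
    | mul a b _ _ ha hb =>
      have e1 : ∀ t, z * (z * t) = t := fun t => by rw [← mul_assoc, hzz, one_mul]
      have e2 : ∀ t, z' * (z' * t) = t := fun t => by rw [← mul_assoc, hz'2, one_mul]
      have e3 : ∀ t, z' * (z * t) = z * (z' * t) := fun t => by rw [← mul_assoc, ← hzz', mul_assoc]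
      rcases ha with rfl | rfl | rfl | rfl <;> rcases hb with rfl | rfl | rfl | rfl <;>
        simp only [one_mul, mul_one, mul_assoc, e1, e2, e3, hzz, hz'2, ← hzz'] <;> tauto
    | inv a _ ha =>
      have i1 : z⁻¹ = z := inv_eq_of_mul_eq_one_left hzz
      have i2 : z'⁻¹ = z' := inv_eq_of_mul_eq_one_left hz'2
      rcases ha with rfl | rfl | rfl | rfl <;>
        simp only [inv_one, mul_inv_rev, i1, i2, ← hzz'] <;> tauto
  intro u hu v hv hu1 hv1 huv
  rcases hE u hu with rfl | rfl | rfl | rfl <;> rcases hE v hv with rfl | rfl | rfl | rfl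
  any_goals exact absurd rfl hu1
  any_goals exact absurd rfl hv1
  any_goals exact absurd rfl huv
  · exact ⟨1, one_mem _, by simp, by simp⟩
  · exact ⟨q, hqX, hqz, hqz'⟩
  · exact ⟨q * p * q, mul_mem (mul_mem hqX hpX) hqX, by rw [hcomp, hqz, hcomp, hpz, hqzz'],
        by rw [hcomp, hqz', hcomp, hpzz', hqz]⟩
  · exact ⟨q * p, mul_mem hqX hpX, by rw [hcomp, hpz, hqzz'], by rw [hcomp, hpz', hqz']⟩
  · exact ⟨p * q, mul_mem hpX hqX, by rw [hcomp, hqz, hpz], by rw [hcomp, hqz', hpzz']⟩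
  · exact ⟨p, hpX, hpz, hpz'⟩

end Cfsg.Agent.S1774
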