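import Cfsg.Statements.S1775
import Cfsg.Agent.Lib.Balance.Descend
import Cfsg.Agent.Lib.Signalizer.Basic
-- import your own Cfsg.Agent.* helpers here

set_option autoImplicit false
open Cfsg
open scoped commutatorElement

namespace Cfsg.Agent.S1775

/-- Let G be a finite group whose generalized Fitting subgroup is a non-abelian simple group and in which every proper section (every quotient H/N of a proper subgroup H, or of G by a nontrivial normal subgroup) has the B-property. Let x, y be commuting involutions, let D be the intersection of the 2-layer of C_G(x) with C_G(y), and let J be a 2-component of D. Write Q for the quotient of C_G(y) by its largest normal odd-order subgroup. Then (i) the image of J in Q is a component of the centralizer in Q of the image of x; and (ii) for every J-invariant subgroup E of odd order of C_G(x) ∩ C_G(y), the commutator subgroup [J, E] lies in the largest normal odd-order subgroup of C_G(y). -/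
theorem result {G : Type*} [Group G] [Finite G]
    (hF : IsSimpleGroup ↥(Cfsg.generalizedFittingSubgroup G)) (hF' : ¬ IsMulCommutative ↥(Cfsg.generalizedFittingSubgroup G))
    (hsec : ∀ (H : Subgroup G) (N : Subgroup ↥H) [N.Normal], (H ≠ ⊤ ∨ N ≠ ⊥) → Cfsg.HasBProperty (↥H ⧸ N))
    (x y : G) (hx : orderOf x = 2) (hy : orderOf y = 2) (hxy : x * y = y * x)
    (J : Subgroup ↥((Cfsg.pLayer 2 ↥(Subgroup.centralizer ({x} : Set G))).map (Subgroup.centralizer ({x} : Set G)).subtype ⊓ Subgroup.centralizer ({y} : Set G)))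
    (hJ : Cfsg.IsPComponent 2 J) :
    Cfsg.IsComponent
        ((((J.map (Subgroup.subtype _)).subgroupOf (Subgroup.centralizer ({y} : Set G))).map (QuotientGroup.mk' (Cfsg.oddCore ↥(Subgroup.centralizer ({y} : Set G))))).subgroupOf
          (Subgroup.centralizer ({(QuotientGroup.mk' (Cfsg.oddCore ↥(Subgroup.centralizer ({y} : Set G))) ⟨x, Subgroup.mem_centralizer_singleton_iff.mpr hxy⟩ : ↥(Subgroup.centralizer ({y} : Set G)) ⧸ Cfsg.oddCore ↥(Subgroup.centralizer ({y} : Set G)))} : Set _))) ∧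
      ∀ E : Subgroup G, E ≤ Subgroup.centralizer ({x} : Set G) ⊓ Subgroup.centralizer ({y} : Set G) → Odd (Nat.card ↥E) →
        (∀ j ∈ J.map (Subgroup.subtype _), ∀ e ∈ E, j * e * j⁻¹ ∈ E) →
          ⁅J.map (Subgroup.subtype _), E⁆ ≤ (Cfsg.oddCore ↥(Subgroup.centralizer ({y} : Set G))).map (Subgroup.centralizer ({y} : Set G)).subtype := by
  haveI : Fact (Nat.Prime 2) := ⟨Nat.prime_two⟩
  let Cx := Subgroup.centralizer ({x} : Set G)
  let Cy := Subgroup.centralizer ({y} : Set G)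
  let L := (pLayer 2 ↥Cx).map Cx.subtype
  let J' := J.map (L ⊓ Cy).subtype
  have hxCy : x ∈ Cy := Subgroup.mem_centralizer_singleton_iff.mpr hxy
  let D := Cx ⊓ Cy
  have hJD : IsPComponentOf 2 J' D := by
    have h0 : IsPComponentOf 2 J' (L ⊓ Cy) := by
      refine ⟨Subgroup.map_subtype_le _, ?_⟩
      rw [show J'.subgroupOf (L ⊓ Cy) = J from
        Subgroup.comap_map_eq_self_of_injective (L ⊓ Cy).subtype_injective J]
      exact hJ
    have hle : L ⊓ Cy ≤ D := inf_le_inf_right _ (Subgroup.map_subtype_le _)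
    refine Lib.Balance.PumpUp.isPComponentOf_of_subnormal h0 hle (Subgroup.Normal.isSubnormal ?_)
    rw [Subgroup.normal_subgroupOf_iff_le_normalizer hle]
    intro g hg
    refine Subgroup.inf_normalizer_le_normalizer_inf ⟨?_, Subgroup.le_normalizer hg.2⟩
    haveI : (pLayer 2 ↥Cx).Normal := inferInstance
    exact Subgroup.le_normalizer_map Cx.subtype
      ⟨⟨g, hg.1⟩, by rw [Subgroup.normalizer_eq_top]; trivial, rfl⟩
  let π := QuotientGroup.mk' (oddCore ↥Cy)
  have hker : (Nat.card ↥π.ker).Coprime 2 := by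
    rw [QuotientGroup.ker_mk']
    exact Lib.Cores.pPrimeCore_coprime 2
  let x' : ↥Cy := ⟨x, hxCy⟩
  have hx' : orderOf x' = 2 := by rw [← Subgroup.orderOf_coe]; exact hx
  have hπx : orderOf (π x') = 2 := by
    refine orderOf_eq_prime ((map_pow π x' 2).symm.trans ((congrArg π (hx' ▸ pow_orderOf_eq_one x' : x' ^ 2 = 1)).trans π.map_one)) fun h => ?_
    have h1 : x' ∈ π.ker := h
    have h2 := (orderOf_dvd_natCard (⟨x', h1⟩ : ↥π.ker))
    rw [← Subgroup.orderOf_coe, hx'] at h2
    exact absurd (Nat.eq_one_of_dvd_coprimes hker h2 dvd_rfl) (by norm_num)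
  let Cq := Subgroup.centralizer ({π x'} : Set (↥Cy ⧸ oddCore ↥Cy))
  let Dy := D.subgroupOf Cy
  have hDy : Dy = Subgroup.centralizer ({x'} : Set ↥Cy) := by
    ext z
    simp only [Dy, D, Cx, Subgroup.mem_subgroupOf, Subgroup.mem_inf, z.2, and_true,
      Subgroup.mem_centralizer_singleton_iff]
    exact ⟨fun h => Subtype.ext h, fun h => congrArg Subtype.val h⟩
  have hDmap : Dy.map π = Cq := by
    rw [hDy, ← Lib.Balance.Descend.normalizer_zpowers_eq_centralizer hx',
      Lib.Balance.map_normalizer_eq (QuotientGroup.mk'_surjective _)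
        (fun h => by exact absurd (Nat.eq_one_of_dvd_coprimes hker h dvd_rfl) (by norm_num))
        (IsPGroup.of_card (n := 1) (by rw [Nat.card_zpowers, hx', pow_one])),
      MonoidHom.map_zpowers, Lib.Balance.Descend.normalizer_zpowers_eq_centralizer hπx]
  let Jy := J'.subgroupOf Cy
  have hJy : IsPComponentOf 2 Jy Dy := Lib.Balance.PumpUp.isPComponentOf_subgroupOf hJD inf_le_right
  let f : ↥Dy →* ↥Cq := (π.comp Dy.subtype).codRestrict Cq fun z => hDmap ▸ ⟨z, z.2, rfl⟩
  have hf : Function.Surjective f := fun q => by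
    have hq : (q : ↥Cy ⧸ oddCore ↥Cy) ∈ Dy.map π := hDmap.symm ▸ q.2
    obtain ⟨z, hz, hzq⟩ := hq
    exact ⟨⟨z, hz⟩, Subtype.ext hzq⟩
  have hfk : (Nat.card ↥f.ker).Coprime 2 := by
    refine hker.coprime_dvd_left ?_
    rw [← Subgroup.card_map_of_injective (f := Dy.subtype) Dy.subtype_injective]
    refine Subgroup.card_dvd_of_le ?_
    rintro _ ⟨z, hz, rfl⟩
    exact congrArg Subtype.val hz
  let K := (Jy.map π).subgroupOf Cq
  have hKmap : (Jy.subgroupOf Dy).map f = K := by
    ext q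
    constructor
    · rintro ⟨z, hz, rfl⟩
      exact ⟨z, hz, rfl⟩
    · rintro ⟨z, hz, hzq⟩
      exact ⟨⟨z, hJy.1 hz⟩, hz, Subtype.ext hzq⟩
  have hKp : IsPComponent 2 K := hKmap ▸ Lib.Balance.Descend.isPComponent_map_surjective hf hfk hJy.2
  have hCy : Cy ≠ ⊤ := by
    intro htop
    have hyc : y ∈ Subgroup.center G := Subgroup.mem_center_iff.2 fun g => by
      exact Subgroup.mem_centralizer_singleton_iff.1 (show g ∈ Cy from htop ▸ Subgroup.mem_top g)
    have hyF : y ∈ generalizedFittingSubgroup G :=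
      Lib.Components.GenFitting.fitting_le_generalizedFitting (Lib.Cores.center_le_fittingSubgroup hyc)
    have hsimp := hF
    set F := generalizedFittingSubgroup G
    have hn : (Subgroup.zpowers (⟨y, hyF⟩ : ↥F)).Normal := by
      refine ⟨fun n hn g => ?_⟩
      have hc : Subgroup.zpowers (⟨y, hyF⟩ : ↥F) ≤ Subgroup.center ↥F :=
        Subgroup.zpowers_le.2 (Subgroup.mem_center_iff.2 fun g => Subtype.ext
          (Subgroup.mem_center_iff.1 hyc g))
      rw [Subgroup.mem_center_iff.1 (hc hn) g, mul_inv_cancel_right]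
      exact hn
    rcases hn.eq_bot_or_eq_top with h | h
    · rw [Subgroup.zpowers_eq_bot] at h
      rw [show y = 1 from congrArg Subtype.val h] at hy
      exact absurd hy (by simp)
    · refine hF' ⟨⟨fun a b => ?_⟩⟩
      obtain ⟨m, rfl⟩ := Subgroup.mem_zpowers_iff.1 (h ▸ Subgroup.mem_top a)
      obtain ⟨n, rfl⟩ := Subgroup.mem_zpowers_iff.1 (h ▸ Subgroup.mem_top b)
      exact ((Commute.refl _).zpow_zpow m n).eq
  have hB := hsec Cy (oddCore ↥Cy) (Or.inl hCy) (π x') hπx
  have hQ : oddCore (↥Cy ⧸ oddCore ↥Cy) = ⊥ := Lib.Cores.pPrimeCore_quotient_pPrimeCore 2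
  rw [hQ, le_bot_iff, Subgroup.map_eq_bot_iff_of_injective _ Cq.subtype_injective] at hB
  have hKc : IsComponent K := by
    refine ⟨hKp.1, (Lib.Balance.isQuasisimple_pComponent_iff hKp).2 ?_⟩
    refine le_bot_iff.1 ((Subgroup.commutator_mono (le_sSup hKp) ?_).trans hB.le)
    rw [Lib.Balance.coreIn_eq_inf_of_isSubnormal hKp.1]
    exact inf_le_right
  refine ⟨hKc, fun E hE hEodd hJE => ?_⟩
  let Ey := E.subgroupOf Cy
  let E' := (Ey.map π).subgroupOf Cq
  have hKE : K ≤ Subgroup.normalizer (E' : Set ↥Cq) := by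
    rw [Lib.Signalizer.le_normalizer_iff_conj_mem]
    rintro q ⟨j, hj, hjq⟩ r ⟨e, he, her⟩
    refine ⟨j * e * j⁻¹, hJE _ hj _ he, ?_⟩
    rw [map_mul, map_mul, map_inv, hjq, her]
    rfl
  have hE' : ¬ 2 ∣ Nat.card ↥E' := by
    intro h
    refine (Nat.not_even_iff_odd.2 hEodd) (even_iff_two_dvd.2 (h.trans ?_))
    rw [← Subgroup.card_map_of_injective (f := Cq.subtype) Cq.subtype_injective,
      Subgroup.subgroupOf_map_subtype]
    refine ((Subgroup.card_dvd_of_le inf_le_left).trans (Subgroup.card_map_dvd _ _)).trans ?_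
    rw [← Subgroup.card_map_of_injective (f := Cy.subtype) Cy.subtype_injective,
      Subgroup.subgroupOf_map_subtype]
    exact Subgroup.card_dvd_of_le inf_le_left
  have hKO : ¬ K ≤ pPrimeCore 2 ↥Cq := Lib.Components.PComponent.not_le_pPrimeCore hKp
  have h0 := Lib.Balance.Descend.commutator_eq_bot_of_component hKc hKO hKE hE'
  refine Subgroup.commutator_le.2 fun j hj e he => ?_
  have hjy : j ∈ Cy := (hJD.1 hj).2
  have hey : e ∈ Cy := (hE he).2
  refine ⟨⁅(⟨j, hjy⟩ : ↥Cy), ⟨e, hey⟩⁆, ?_, rfl⟩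
  rw [← QuotientGroup.ker_mk' (oddCore ↥Cy)]
  show π ⁅(⟨j, hjy⟩ : ↥Cy), ⟨e, hey⟩⁆ = 1
  rw [map_commutatorElement]
  have hjq : π ⟨j, hjy⟩ ∈ Cq := hDmap ▸ ⟨_, hJy.1 (show (⟨j, hjy⟩ : ↥Cy) ∈ Jy from hj), rfl⟩
  have heq' : π ⟨e, hey⟩ ∈ Cq := hDmap ▸ ⟨_, (show (⟨e, hey⟩ : ↥Cy) ∈ Dy from hE he), rfl⟩
  have h1 : (⁅(⟨_, hjq⟩ : ↥Cq), ⟨_, heq'⟩⁆ : ↥Cq) ∈ ⁅K, E'⁆ :=
    Subgroup.commutator_mem_commutator ⟨_, hj, rfl⟩ ⟨_, he, rfl⟩
  rw [Subgroup.commutator_comm, h0, Subgroup.mem_bot] at h1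
  exact congrArg Subtype.val h1

end Cfsg.Agent.S1775
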