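import Cfsg.Statements.S1780

set_option autoImplicit false
open Cfsg

namespace Cfsg.Agent.S1780

/-- Let A be a finite abelian 2-group and t an automorphism of A whose order is a power of 2. If every element of A fixed by t² is fixed by t, then t fixes every element of A. -/
theorem result {A : Type*} [CommGroup A] [Finite A]
    (hA : IsPGroup 2 A) (t : MulAut A) (ht : ∃ k : ℕ, orderOf t = 2 ^ k) (hC : ∀ a : A, t (t a) = a → t a = a) :
    ∀ a : A, t a = a := by
  have step : ∀ u : MulAut A, (∀ a, u (u a) = a → u a = a) →
      ∀ (m : ℕ) (x : A), x ^ (2 ^ m) = 1 → u (u (u (u x))) = x → u x = x := by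
    intro u hu m
    induction m with
    | zero => intro x hx _; simp at hx; simp [hx]
    | succ m ih =>
      intro x hx h4
      apply hu
      have hx2 : u (x * x) = x * x := by
        refine ih (x * x) ?_ (by simp [map_mul, h4])
        rw [← pow_two, ← pow_mul, ← pow_succ']; exact hx
      have hz : u (x * u (u x)) = x * u (u x) := by
        apply hu
        simp only [map_mul, h4]
        exact mul_comm _ _
      set w := u x / x with hw
      have hw2 : w * w = 1 := by
        rw [hw, div_mul_div_comm, ← map_mul, hx2, div_self']
      have h2w : u (u w) = w⁻¹ := by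
        rw [eq_inv_iff_mul_eq_one, hw, map_div, map_div, div_mul_div_comm, div_eq_one]
        rw [map_mul] at hz
        rw [mul_comm (u (u x)) x, mul_comm _ (u x)]
        exact hz
      have hww : u w = w := hu w (by rw [h2w]; exact inv_eq_of_mul_eq_one_left hw2)
      have : u (u x) / x = 1 := by
        calc u (u x) / x = u w * w := by rw [hw, map_div]; exact (div_mul_div_cancel _ _ _).symm
          _ = 1 := by rw [hww, hw2]
      exact div_eq_one.mp this
  have main : ∀ j : ℕ, ∀ a : A, (t ^ (2 ^ j)) a = a → t a = a := by
    intro j
    induction j using Nat.strong_induction_on with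
    | _ j ih =>
      match j with
      | 0 => intro a ha; simpa using ha
      | 1 => intro a ha; apply hC; simpa [pow_two] using ha
      | i + 2 =>
        intro a ha
        set u := t ^ (2 ^ i) with hu
        have hu2 : t ^ (2 ^ (i + 1)) = u * u := by rw [hu, ← pow_add, pow_succ]; ring_nf
        have hu4 : t ^ (2 ^ (i + 2)) = u * u * (u * u) := by
          rw [← hu2, ← pow_add, pow_succ]; ring_nf
        have hfix : ∀ b, t b = b → u b = b := by
          intro b hb
          rw [hu]
          generalize 2 ^ i = n
          induction n with
          | zero => simp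
          | succ n ihn => rw [pow_succ, MulAut.mul_apply, hb, ihn]
        have hu' : ∀ b, u (u b) = b → u b = b := fun b hb =>
          hfix b (ih (i + 1) (by omega) b (by rw [hu2]; simpa using hb))
        obtain ⟨m, hm⟩ := hA a
        exact ih i (by omega) a (step u hu' m a hm (by rw [hu4] at ha; simpa using ha))
  obtain ⟨k, hk⟩ := ht
  intro a
  exact main k a (by rw [← hk, pow_orderOf_eq_one]; rfl)

end Cfsg.Agent.S1780
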