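import Cfsg.Statements.S1781
import Cfsg.Agent.S1757
import Cfsg.Agent.S1780

set_option autoImplicit false
open Cfsg

namespace Cfsg.Agent.S1781

/-- Let A be an abelian 2-subgroup of the finite group G such that every conjugate of A equals A or meets A trivially, and let g ∈ G with g A g⁻¹ ≠ A. Then either the subgroup of those elements of A that normalize g A g⁻¹ is an elementary abelian 2-group, or A and g A g⁻¹ commute elementwise. -/
theorem result {G : Type*} [Group G] [Finite G] (A : Subgroup G)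
    (hA2 : IsPGroup 2 ↥A) (hAa : IsMulCommutative ↥A)
    (hti : ∀ h : G, A.map (MulAut.conj h).toMonoidHom = A ∨ A.map (MulAut.conj h).toMonoidHom ⊓ A = ⊥)
    (g : G) (hg : A.map (MulAut.conj g).toMonoidHom ≠ A) :
    Cfsg.IsElementaryAbelian 2 (A ⊓ Subgroup.normalizer ((A.map (MulAut.conj g).toMonoidHom : Subgroup G) : Set G)) ∨
      ⁅A, A.map (MulAut.conj g).toMonoidHom⁆ = ⊥ := by
  set B : Subgroup G := A.map (MulAut.conj g).toMonoidHom with hB
  haveI : Fact (Nat.Prime 2) := ⟨Nat.prime_two⟩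
  by_cases hel : ∀ a ∈ A ⊓ Subgroup.normalizer (B : Set G), a ^ 2 = 1
  · refine Or.inl ⟨IsMulCommutative.of_comm ?_, hel⟩
    rintro ⟨a, ha⟩ ⟨b, hb⟩
    exact Subtype.ext (show a * b = b * a from congrArg Subtype.val (hAa.is_comm.comm ⟨a, ha.1⟩ ⟨b, hb.1⟩))
  right
  simp only [not_forall] at hel
  obtain ⟨a, ⟨haA, haN⟩, ha2⟩ := hel
  have hAB : A ⊓ B = ⊥ := by
    rw [inf_comm]
    exact (hti g).resolve_left hg
  have hA2' : IsPGroup 2 ↥B := hA2.map _
  have hBti : ∀ h : G, B.map (MulAut.conj h).toMonoidHom = B ∨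
      B.map (MulAut.conj h).toMonoidHom ⊓ B = ⊥ := by
    intro h
    have e : B.map (MulAut.conj h).toMonoidHom =
        (A.map (MulAut.conj (g⁻¹ * h * g)).toMonoidHom).map (MulAut.conj g).toMonoidHom := by
      rw [hB, Subgroup.map_map, Subgroup.map_map]
      congr 1
      ext x
      simp [mul_assoc]
    rw [e, hB]
    rcases hti (g⁻¹ * h * g) with h1 | h1
    · exact Or.inl (by rw [h1])
    · refine Or.inr ?_
      rw [← Subgroup.map_inf _ _ _ (MulAut.conj g).injective, h1, Subgroup.map_bot]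
  have hcard : Nat.card ↥B = Nat.card ↥A :=
    Subgroup.card_map_of_injective (MulAut.conj g).injective
  -- an element of `B` centralizing a nontrivial element of `A` normalizes `A`
  have hCN : ∀ x ∈ A, x ≠ 1 → ∀ b : G, b * x = x * b → b ∈ Subgroup.normalizer (A : Set G) := by
    intro x hx hx1 b hbx
    rcases hti b with h | h
    · rw [Subgroup.mem_normalizer_iff]
      intro y
      constructor
      · intro hy; rw [← h]; exact ⟨y, hy, rfl⟩
      · intro hy
        rw [← h] at hy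
        obtain ⟨y', hy', he⟩ := hy
        have : y' = y := (MulAut.conj b).injective he
        exact this ▸ hy'
    · exfalso
      have : x ∈ A.map (MulAut.conj b).toMonoidHom ⊓ A :=
        ⟨⟨x, hx, by simp [hbx]⟩, hx⟩
      rw [h, Subgroup.mem_bot] at this
      exact hx1 this
  -- `N_B(A)` commutes with `N_A(B)`
  have hNC : ∀ b ∈ B, b ∈ Subgroup.normalizer (A : Set G) → b * a = a * b := by
    intro b hb hbN
    have h1 : b * a * b⁻¹ * a⁻¹ ∈ A :=
      mul_mem ((Subgroup.mem_normalizer_iff.mp hbN a).mp haA) (A.inv_mem haA)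
    have h2 : b * a * b⁻¹ * a⁻¹ ∈ B := by
      have := mul_mem hb ((Subgroup.mem_normalizer_iff.mp haN b⁻¹).mp (B.inv_mem hb))
      simpa [mul_assoc] using this
    have h3 : b * a * b⁻¹ * a⁻¹ ∈ A ⊓ B := ⟨h1, h2⟩
    rwa [hAB, Subgroup.mem_bot, mul_inv_eq_one, mul_inv_eq_iff_eq_mul] at h3
  haveI : IsMulCommutative ↥B := IsMulCommutative.of_comm (by
    rintro ⟨_, x, hx, rfl⟩ ⟨_, y, hy, rfl⟩
    apply Subtype.ext
    show (MulAut.conj g).toMonoidHom x * (MulAut.conj g).toMonoidHom y
      = (MulAut.conj g).toMonoidHom y * (MulAut.conj g).toMonoidHom x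
    rw [← map_mul, ← map_mul,
      show x * y = y * x from congrArg Subtype.val (hAa.is_comm.comm ⟨x, hx⟩ ⟨y, hy⟩)])
  letI : CommGroup ↥B := { (inferInstance : Group ↥B) with mul_comm := fun x y => mul_comm' x y }
  let φ : ↥(Subgroup.normalizer (B : Set G)) →* MulAut ↥B := B.normalizerMonoidHom
  have hk : ∃ k : ℕ, orderOf (φ ⟨a, haN⟩) = 2 ^ k := by
    obtain ⟨k, hk⟩ := hA2 ⟨a, haA⟩
    have hk' : (φ ⟨a, haN⟩) ^ (2 ^ k) = 1 := by
      rw [← map_pow]
      convert map_one φ
      exact Subtype.ext (show a ^ (2 ^ k) = 1 from congrArg Subtype.val hk)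
    obtain ⟨j, -, hj⟩ := (Nat.dvd_prime_pow Nat.prime_two).mp (orderOf_dvd_of_pow_eq_one hk')
    exact ⟨j, hj⟩
  have hfix := Cfsg.Agent.S1780.result hA2' (φ ⟨a, haN⟩) hk (by
    intro b hb
    have hb' : a * (a * (b : G) * a⁻¹) * a⁻¹ = (b : G) := congrArg Subtype.val hb
    have hcomm : (b : G) * (a * a) = (a * a) * (b : G) := by
      calc (b : G) * (a * a) = a * (a * (b : G) * a⁻¹) * a⁻¹ * (a * a) := by rw [hb']
        _ = (a * a) * (b : G) := by group
    have hbN := hCN (a * a) (mul_mem haA haA) (by rwa [← pow_two]) b hcomm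
    apply Subtype.ext
    show a * (b : G) * a⁻¹ = b
    rw [← hNC b b.2 hbN, mul_inv_cancel_right])
  have hBN : B ≤ Subgroup.normalizer (A : Set G) := by
    intro b hb
    refine hCN a haA (fun h => ha2 (by rw [h, one_pow])) b ?_
    have h := congrArg Subtype.val (hfix ⟨b, hb⟩)
    have h' : a * b * a⁻¹ = b := h
    rw [mul_inv_eq_iff_eq_mul] at h'
    exact h'.symm
  exact Cfsg.Agent.S1757.result 2 A B hA2 hA2' hti hBti hcard.ge hAB hBN

end Cfsg.Agent.S1781
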