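import Cfsg.Statements.S1783
import Cfsg.Agent.Lib.K41.TICommute
import Cfsg.Agent.Lib.Coprime.Commutator
import Cfsg.Agent.Lib.Components.GenFitting

set_option autoImplicit false
open Cfsg
open Cfsg.Agent.Lib.K41.TIWeak (cj mem_cj conj_mem_cj cj_mul cj_one card_cj cj_mono)
open Cfsg.Agent.Lib.K41.TICommute (commute_of_ti_family)

namespace Cfsg.Agent.S1783

/-- Let X be a finite group whose generalized Fitting subgroup equals its largest normal 2-subgroup Q, and let A be an abelian 2-subgroup of X such that every conjugate of A equals A or meets A trivially. Let B be the subgroup generated by the squares of the elements of A. Then B lies in Q, and if B is not an elementary abelian 2-group then the normal closure of B in X is commutative. -/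
theorem result {X : Type*} [Group X] [Finite X]
    (hX : Cfsg.generalizedFittingSubgroup X = Cfsg.pCore 2 X) (A : Subgroup X) (hA2 : IsPGroup 2 ↥A) (hAa : IsMulCommutative ↥A)
    (hti : ∀ h : X, A.map (MulAut.conj h).toMonoidHom = A ∨ A.map (MulAut.conj h).toMonoidHom ⊓ A = ⊥) :
    Subgroup.closure ((fun a : X => a ^ 2) '' (A : Set X)) ≤ Cfsg.pCore 2 X ∧
      (¬ Cfsg.IsElementaryAbelian 2 (Subgroup.closure ((fun a : X => a ^ 2) '' (A : Set X))) →
        IsMulCommutative ↥(Subgroup.normalClosure ((fun a : X => a ^ 2) '' (A : Set X)))) := by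
  classical
  haveI : Fact (Nat.Prime 2) := ⟨Nat.prime_two⟩
  haveI hQn : (pCore 2 X).Normal := by
    rw [← hX]
    exact Cfsg.Agent.Lib.Components.GenFitting.generalizedFitting_normal
  have hQp : IsPGroup 2 ↥(pCore 2 X) := Cfsg.Agent.Lib.Cores.pCore_isPGroup 2
  have hti' : ∀ x y w : X, w ∈ cj x A → w ∈ cj y A → w ≠ 1 → cj x A = cj y A := by
    intro x y w h1 h2 hw
    rcases hti (y⁻¹ * x) with h | h
    · rw [← congrArg (cj y) (show cj (y⁻¹ * x) A = A from h), cj_mul, mul_inv_cancel_left]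
    · exfalso
      have h3 : y⁻¹ * w * y ∈ cj (y⁻¹ * x) A ⊓ A := by
        refine Subgroup.mem_inf.mpr ⟨mem_cj.mpr ?_, mem_cj.mp h2⟩
        have := mem_cj.mp h1
        simpa [mul_assoc] using this
      rw [show cj (y⁻¹ * x) A ⊓ A = ⊥ from h, Subgroup.mem_bot] at h3
      exact hw (by simpa [mul_assoc, mul_eq_one_iff_eq_inv] using congrArg (fun t => y * t * y⁻¹) h3)
  have hAc : ∀ a ∈ A, ∀ b ∈ A, a * b = b * a := fun a ha b hb =>
    congrArg Subtype.val (hAa.is_comm.comm (⟨a, ha⟩ : ↥A) ⟨b, hb⟩)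
  -- squares lie in `O₂`
  have hsqQ : ∀ a ∈ A, a ^ 2 ∈ pCore 2 X := by
    intro a ha
    by_cases ha2 : a ^ 2 = 1
    · rw [ha2]; exact one_mem _
    let S : Subgroup X := A ⊔ pCore 2 X
    have hSp : IsPGroup 2 ↥S := hA2.to_sup_of_normal_right hQp
    let Δ : Set (Subgroup ↥S) := {R | ∃ x : X, cj x A ≤ S ∧ R = (cj x A).subgroupOf S}
    have hcomm := commute_of_ti_family hSp Δ
      (by
        rintro s _ ⟨x, hx, rfl⟩
        refine ⟨(s : X) * x, ?_, ?_⟩
        · rw [← cj_mul]
          rintro _ ⟨w, hw, rfl⟩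
          exact mul_mem (mul_mem s.2 (hx hw)) (inv_mem s.2)
        · ext w
          rw [mem_cj, Subgroup.mem_subgroupOf, Subgroup.mem_subgroupOf, mem_cj, mem_cj]
          simp [mul_assoc])
      (by
        rintro _ ⟨x, hx, rfl⟩ hb
        have hp : IsPGroup 2 ↥((cj x A).subgroupOf S) := (hA2.map _).comap_subtype
        have hy : x * a * x⁻¹ ∈ cj x A := conj_mem_cj ha
        have hm := Cfsg.Agent.Lib.PGroups.pow_mem_frattini hp
          (⟨⟨x * a * x⁻¹, hx hy⟩, hy⟩ : ↥((cj x A).subgroupOf S))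
        rw [hb, Subgroup.mem_bot] at hm
        have h1 : (x * a * x⁻¹) ^ 2 = 1 := congrArg (fun t : ↥((cj x A).subgroupOf S) => ((t : ↥S) : X)) hm
        rw [conj_pow] at h1
        exact ha2 (conj_eq_one_iff.mp h1))
      (by
        rintro _ ⟨x, hx, rfl⟩ _ ⟨y, hy, rfl⟩
        rw [Nat.card_congr (Subgroup.subgroupOfEquivOfLe hx).toEquiv,
          Nat.card_congr (Subgroup.subgroupOfEquivOfLe hy).toEquiv, card_cj, card_cj])
      (by
        rintro _ ⟨x, hx, rfl⟩ _ ⟨y, hy, rfl⟩
        by_cases h : cj x A = cj y A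
        · left; rw [h]
        · right
          rw [eq_bot_iff]
          intro w hw
          rw [Subgroup.mem_bot]
          by_contra hw1
          exact h (hti' x y w (Subgroup.mem_inf.mp hw).1 (Subgroup.mem_inf.mp hw).2
            fun h1 => hw1 (Subtype.ext h1)))
    let Φ : Subgroup X := (frattini ↥(pCore 2 X)).map (pCore 2 X).subtype
    haveI : Φ.Normal := Cfsg.Agent.Lib.Cores.normal_map_subtype _ _
    let K : Subgroup X := (Subgroup.centralizer
      (((pCore 2 X).map (QuotientGroup.mk' Φ) : Subgroup (X ⧸ Φ)) : Set (X ⧸ Φ))).comap (QuotientGroup.mk' Φ)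
    haveI : ((pCore 2 X).map (QuotientGroup.mk' Φ)).Normal :=
      hQn.map _ (QuotientGroup.mk'_surjective Φ)
    haveI : K.Normal := inferInstance
    have hKmem : ∀ k, k ∈ K ↔ ∀ q ∈ pCore 2 X, k * q * k⁻¹ * q⁻¹ ∈ Φ := by
      intro k
      simp only [K, Subgroup.mem_comap, Subgroup.mem_centralizer_iff, SetLike.mem_coe,
        Subgroup.mem_map, forall_exists_index, and_imp, forall_apply_eq_imp_iff₂] at *
      constructor
      · intro h q hq
        rw [← QuotientGroup.eq_one_iff, ← QuotientGroup.mk'_apply, map_mul, map_mul, map_mul,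
          ← h q hq, map_inv, map_inv, mul_inv_cancel_right, mul_inv_cancel]
      · intro h q hq
        have := h q hq
        rw [← QuotientGroup.eq_one_iff, ← QuotientGroup.mk'_apply, map_mul, map_mul, map_mul,
          map_inv, map_inv, mul_inv_eq_one, mul_inv_eq_iff_eq_mul] at this
        exact this.symm
    have hKp : IsPGroup 2 ↥K := by
      intro k
      obtain ⟨e, m, hm, he⟩ :=
        Nat.exists_eq_two_pow_mul_odd (n := orderOf k) (orderOf_pos k).ne'
      refine ⟨e, ?_⟩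
      set w : X := ((k ^ 2 ^ e : ↥K) : X) with hwdef
      have hwm : w ^ m = 1 := by
        have := congrArg Subtype.val (pow_orderOf_eq_one k)
        rw [he, pow_mul] at this
        exact this
      obtain ⟨j, hj⟩ := IsPGroup.iff_card.mp (hQp.to_subgroup (frattini ↥(pCore 2 X)))
      have hodd : Odd (orderOf w) := Odd.of_dvd_nat hm (orderOf_dvd_of_pow_eq_one hwm)
      have hc := Cfsg.Agent.Lib.Coprime.le_centralizer_of_frattini (A := Subgroup.zpowers w)
        (K := pCore 2 X) (by rw [Subgroup.normalizer_eq_top]; exact le_top)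
        (by rw [Nat.card_zpowers, hj]; exact (Nat.coprime_two_right.mpr hodd).pow_right _)
        (fun b hb q hq => (hKmem b).mp (Subgroup.zpowers_le.mpr (k ^ 2 ^ e : ↥K).2 hb) q hq)
      have hwQ : w ∈ pCore 2 X := by
        rw [← hX]
        refine Cfsg.Agent.Lib.Components.GenFitting.centralizer_le ?_
        rw [hX]
        exact hc (Subgroup.mem_zpowers w)
      obtain ⟨i, hi⟩ := hQp ⟨w, hwQ⟩
      have hi' : w ^ 2 ^ i = 1 := congrArg Subtype.val hi
      have hg : w ^ Nat.gcd m (2 ^ i) = 1 := pow_gcd_eq_one.mpr ⟨hwm, hi'⟩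
      have hco : Nat.Coprime m (2 ^ i) := Nat.Coprime.pow_right _ (Nat.coprime_two_right.mpr hm)
      rw [hco.gcd_eq_one, pow_one] at hg
      exact Subtype.ext hg
    refine Cfsg.Agent.Lib.Cores.le_pCore hKp ((hKmem _).mpr fun q hq => ?_)
    set c := a * q * a⁻¹ * q⁻¹ with hc
    have hcQ : c ∈ pCore 2 X := mul_mem (hQn.conj_mem q hq a) (inv_mem hq)
    have hac : a * c = c * a := by
      have hb : q * a⁻¹ * q⁻¹ ∈ cj q A := conj_mem_cj (inv_mem ha)
      have hcom : Commute a (q * a⁻¹ * q⁻¹) := by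
        by_cases he : cj q A = A
        · exact hAc a ha _ (he ▸ hb)
        · have h1 : cj q A ≤ S := by
            rintro _ ⟨w, hw, rfl⟩
            exact mul_mem (mul_mem (Subgroup.mem_sup_right hq) (Subgroup.mem_sup_left hw))
              (inv_mem (Subgroup.mem_sup_right hq))
          have h2 := hcomm ((cj 1 A).subgroupOf S) ⟨1, by rw [cj_one]; exact le_sup_left, rfl⟩
            ((cj q A).subgroupOf S) ⟨q, h1, rfl⟩ (by
              intro h
              apply he
              rw [Subgroup.subgroupOf_inj, cj_one, inf_eq_left.mpr (le_sup_left : A ≤ S),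
                inf_eq_left.mpr h1] at h
              exact h.symm)
            ⟨a, Subgroup.mem_sup_left ha⟩ (by rw [Subgroup.mem_subgroupOf, cj_one]; exact ha)
            ⟨_, h1 hb⟩ hb
          exact congrArg Subtype.val h2
      have e : c = a * (q * a⁻¹ * q⁻¹) := by simp [hc, mul_assoc]
      rw [e]
      exact ((Commute.refl a).mul_right hcom).eq
    have h2 : a ^ 2 * q * (a ^ 2)⁻¹ * q⁻¹ = c ^ 2 := by
      calc a ^ 2 * q * (a ^ 2)⁻¹ * q⁻¹ = (a * c) * a⁻¹ * c := by
            simp [hc, pow_two, mul_assoc]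
        _ = c ^ 2 := by rw [hac, mul_inv_cancel_right, pow_two]
    rw [h2]
    exact ⟨⟨c, hcQ⟩ ^ 2, Cfsg.Agent.Lib.PGroups.pow_mem_frattini hQp _, rfl⟩
  have hBle : Subgroup.closure ((fun a : X => a ^ 2) '' (A : Set X)) ≤ pCore 2 X := by
    rw [Subgroup.closure_le]
    rintro _ ⟨a, ha, rfl⟩
    exact hsqQ a ha
  refine ⟨hBle, fun hne => ?_⟩
  set B := Subgroup.closure ((fun a : X => a ^ 2) '' (A : Set X)) with hB
  have hBA : B ≤ A := by
    rw [hB, Subgroup.closure_le]
    rintro _ ⟨a, ha, rfl⟩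
    exact pow_mem ha 2
  obtain ⟨b, hb, hb2⟩ : ∃ b ∈ B, b ^ 2 ≠ 1 := by
    by_contra hcon
    simp only [not_exists, not_and, not_not] at hcon
    exact hne ⟨⟨⟨fun x y => Subtype.ext (hAc _ (hBA x.2) _ (hBA y.2))⟩⟩, hcon⟩
  have hcjQ : ∀ x, cj x B ≤ pCore 2 X := by
    rintro x _ ⟨w, hw, rfl⟩
    exact hQn.conj_mem w (hBle hw) x
  let Δ : Set (Subgroup ↥(pCore 2 X)) := {R | ∃ x : X, R = (cj x B).subgroupOf (pCore 2 X)}
  have hBeq : ∀ x y : X, cj x A = cj y A → cj x B = cj y B := by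
    intro x y h
    ext w
    have key : ∀ x y : X, cj x A = cj y A → ∀ w ∈ cj x B, w ∈ cj y B := by
      intro x y h w hw
      rw [mem_cj] at hw ⊢
      have hmap : B ≤ Subgroup.comap (MulAut.conj (y⁻¹ * x)).toMonoidHom B := by
        rw [hB, Subgroup.closure_le]
        rintro _ ⟨c, hc, rfl⟩
        rw [SetLike.mem_coe, Subgroup.mem_comap]
        simp only [MulEquiv.coe_toMonoidHom]
        rw [map_pow]
        refine Subgroup.subset_closure ⟨_, ?_, rfl⟩
        have h1 : x * c * x⁻¹ ∈ cj y A := h ▸ conj_mem_cj hc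
        rw [mem_cj] at h1
        simpa [mul_assoc] using h1
      have := hmap hw
      simpa [mul_assoc] using this
    exact ⟨key x y h w, key y x h.symm w⟩
  have hcomm := commute_of_ti_family hQp Δ
    (by
      rintro s _ ⟨x, rfl⟩
      refine ⟨(s : X) * x, ?_⟩
      ext w
      rw [mem_cj, Subgroup.mem_subgroupOf, Subgroup.mem_subgroupOf, mem_cj, mem_cj]
      simp [mul_assoc])
    (by
      rintro _ ⟨x, rfl⟩ hbot
      have hp : IsPGroup 2 ↥((cj x B).subgroupOf (pCore 2 X)) := hQp.to_subgroup _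
      have hy : x * b * x⁻¹ ∈ cj x B := conj_mem_cj hb
      have hm := Cfsg.Agent.Lib.PGroups.pow_mem_frattini hp
        (⟨⟨x * b * x⁻¹, hcjQ x hy⟩, hy⟩ : ↥((cj x B).subgroupOf (pCore 2 X)))
      rw [hbot, Subgroup.mem_bot] at hm
      have h1 : (x * b * x⁻¹) ^ 2 = 1 :=
        congrArg (fun t : ↥((cj x B).subgroupOf (pCore 2 X)) => ((t : ↥(pCore 2 X)) : X)) hm
      rw [conj_pow] at h1
      exact hb2 (conj_eq_one_iff.mp h1))
    (by
      rintro _ ⟨x, rfl⟩ _ ⟨y, rfl⟩
      rw [Nat.card_congr (Subgroup.subgroupOfEquivOfLe (hcjQ x)).toEquiv,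
        Nat.card_congr (Subgroup.subgroupOfEquivOfLe (hcjQ y)).toEquiv, card_cj, card_cj])
    (by
      rintro _ ⟨x, rfl⟩ _ ⟨y, rfl⟩
      by_cases h : cj x A = cj y A
      · left; rw [hBeq x y h]
      · right
        rw [eq_bot_iff]
        intro w hw
        rw [Subgroup.mem_bot]
        by_contra hw1
        exact h (hti' x y w (cj_mono x hBA (Subgroup.mem_inf.mp hw).1)
          (cj_mono y hBA (Subgroup.mem_inf.mp hw).2) fun h1 => hw1 (Subtype.ext h1)))
  rw [Subgroup.normalClosure]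
  refine Subgroup.isMulCommutative_closure ?_
  intro u hu v hv
  rw [Group.mem_conjugatesOfSet_iff] at hu hv
  obtain ⟨s, hs, hcs⟩ := hu
  obtain ⟨t, ht, hct⟩ := hv
  obtain ⟨x, rfl⟩ := isConj_iff.mp hcs
  obtain ⟨y, rfl⟩ := isConj_iff.mp hct
  have hu' : x * s * x⁻¹ ∈ cj x B := conj_mem_cj (Subgroup.subset_closure hs)
  have hv' : y * t * y⁻¹ ∈ cj y B := conj_mem_cj (Subgroup.subset_closure ht)
  by_cases h : cj x B = cj y B
  · obtain ⟨u', hu₁, hu₂⟩ := cj_mono y hBA (h ▸ hu')
    obtain ⟨v', hv₁, hv₂⟩ := cj_mono y hBA hv'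
    rw [← hu₂, ← hv₂, ← map_mul, ← map_mul, hAc u' hu₁ v' hv₁]
  · exact congrArg Subtype.val (hcomm _ ⟨x, rfl⟩ _ ⟨y, rfl⟩ (by
      intro he
      rw [Subgroup.subgroupOf_inj, inf_eq_left.mpr (hcjQ x), inf_eq_left.mpr (hcjQ y)] at he
      exact h he) ⟨_, hcjQ x hu'⟩ hu' ⟨_, hcjQ y hv'⟩ hv')

end Cfsg.Agent.S1783
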