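import Cfsg.Statements.S1784
import Cfsg.Agent.Lib.K41.ESCentralizer
import Cfsg.Agent.Lib.K41.Symplectic

set_option autoImplicit false
set_option linter.all false
open Cfsg
open scoped commutatorElement
open Cfsg.Agent.Lib.K41.Symplectic
open Cfsg.Agent.Lib.LargeExtraspecial.Basic (ES chi chi_eq_zero chi_conj)

namespace Cfsg.Agent.S1784

/-- Let G be a finite group and let z be an involution of G such that Q, the generalized Fitting subgroup of the centralizer C of z, is a 2-group of symplectic type (every characteristic abelian subgroup of Q is cyclic); suppose Q is extraspecial, and view Q inside G. Let α be an involution of C that is not in Q, and let Q₀ be the subgroup of those q ∈ Q whose commutator with α lies in the subgroup generated by z. Then (a) the subgroup generated by the commutators α q α⁻¹ q⁻¹, q ∈ Q, equals the centre of Q₀; and (b) if Q₀ is not contained in the product of the centralizer of α in Q with the subgroup generated by z, then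 some element of Q conjugates α to α z. -/
theorem result {G : Type*} [Group G] [Finite G] (z : G) (hz : orderOf z = 2) (hQ : Cfsg.IsOfSymplecticType ↥(Cfsg.generalizedFittingSubgroup ↥(Subgroup.centralizer ({z} : Set G)))) (hE : Cfsg.IsExtraspecial 2 ↥(Cfsg.generalizedFittingSubgroup ↥(Subgroup.centralizer ({z} : Set G))))
    (α : G) (hα : orderOf α = 2) (hαC : α ∈ Subgroup.centralizer ({z} : Set G)) (hαQ : α ∉ (Cfsg.generalizedFittingSubgroup ↥(Subgroup.centralizer ({z} : Set G))).map (Subgroup.centralizer ({z} : Set G)).subtype)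
    (Q₀ : Subgroup G) (hQ₀ : ∀ q : G, q ∈ Q₀ ↔ (q ∈ (Cfsg.generalizedFittingSubgroup ↥(Subgroup.centralizer ({z} : Set G))).map (Subgroup.centralizer ({z} : Set G)).subtype ∧ α * q * α⁻¹ * q⁻¹ ∈ Subgroup.zpowers z)) :
    Subgroup.closure ((fun q : G => α * q * α⁻¹ * q⁻¹) '' ((Cfsg.generalizedFittingSubgroup ↥(Subgroup.centralizer ({z} : Set G))).map (Subgroup.centralizer ({z} : Set G)).subtype : Set G)) = (Subgroup.center ↥Q₀).map Q₀.subtype ∧
      (¬ Q₀ ≤ ((Cfsg.generalizedFittingSubgroup ↥(Subgroup.centralizer ({z} : Set G))).map (Subgroup.centralizer ({z} : Set G)).subtype ⊓ Subgroup.centralizer ({α} : Set G)) ⊔ Subgroup.zpowers z →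
        ∃ q ∈ (Cfsg.generalizedFittingSubgroup ↥(Subgroup.centralizer ({z} : Set G))).map (Subgroup.centralizer ({z} : Set G)).subtype, q * α * q⁻¹ = α * z) := by
  classical
  change α ∉ Qz z at hαQ
  change ∀ q : G, q ∈ Q₀ ↔ (q ∈ Qz z ∧ α * q * α⁻¹ * q⁻¹ ∈ Subgroup.zpowers z) at hQ₀
  change Subgroup.closure ((fun q : G => α * q * α⁻¹ * q⁻¹) '' (Qz z : Set G)) = _ ∧
    (¬ Q₀ ≤ (Qz z ⊓ Subgroup.centralizer ({α} : Set G)) ⊔ Subgroup.zpowers z →
      ∃ q ∈ Qz z, q * α * q⁻¹ = α * z)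
  set Q := Qz z with hQdef
  set L := Subgroup.closure ((fun q : G => α * q * α⁻¹ * q⁻¹) '' (Q : Set G)) with hL
  have hzz : z * z = 1 := by rw [← pow_two, ← hz]; exact pow_orderOf_eq_one z
  have hαα : α * α = 1 := by rw [← pow_two, ← hα]; exact pow_orderOf_eq_one α
  have hαi : α⁻¹ = α := inv_eq_of_mul_eq_one_left hαα
  have hαz : α * z = z * α := Subgroup.mem_centralizer_singleton_iff.mp hαC
  -- `Q` is extraspecial inside `G`
  have h : ES Q z := by
    refine ⟨self_mem_Qz z, fun h => by simp [h] at hz, hzz, fun p hp => commute_of_mem_Qz hp, ?_, ?_⟩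
    · intro q hq hc
      obtain ⟨c, hcF, rfl⟩ := hq
      by_cases h1 : c = 1
      · left; rw [h1]; rfl
      right
      have hcen : (⟨c, hcF⟩ : ↥(generalizedFittingSubgroup ↥(Subgroup.centralizer ({z} : Set G)))) ∈
          Subgroup.center _ := Subgroup.mem_center_iff.mpr fun p =>
        Subtype.ext (Subtype.ext (hc _ ⟨p, p.2, rfl⟩))
      have hsq : (⟨c, hcF⟩ : ↥(generalizedFittingSubgroup ↥(Subgroup.centralizer ({z} : Set G)))) ^ 2 = 1 := by
        have := pow_card_eq_one' (G := ↥(Subgroup.center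
          ↥(generalizedFittingSubgroup ↥(Subgroup.centralizer ({z} : Set G))))) (x := ⟨_, hcen⟩)
        rw [hE.2] at this
        exact congrArg Subtype.val this
      have hne : (⟨c, hcF⟩ : ↥(generalizedFittingSubgroup ↥(Subgroup.centralizer ({z} : Set G)))) ≠ 1 :=
        fun he => h1 (congrArg Subtype.val he)
      refine eq_of_central hz hQ ⟨c, hcF, rfl⟩ ?_ hc
      rw [Subgroup.coe_subtype, Subgroup.orderOf_coe, ← Subgroup.orderOf_mk c hcF]
      exact orderOf_eq_prime hsq hne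
    · rintro _ ⟨a, ha, rfl⟩ _ ⟨b, hb, rfl⟩
      let F := generalizedFittingSubgroup ↥(Subgroup.centralizer ({z} : Set G))
      have hmem : (⁅(⟨a, ha⟩ : ↥F), ⟨b, hb⟩⁆ : ↥F) ∈ Subgroup.center ↥F := by
        rw [← hE.1.2.2]
        exact Subgroup.commutator_mem_commutator (Subgroup.mem_top _) (Subgroup.mem_top _)
      have hsq := pow_card_eq_one' (G := ↥(Subgroup.center ↥F)) (x := ⟨_, hmem⟩)
      rw [hE.2] at hsq
      have hsq' : (⁅(⟨a, ha⟩ : ↥F), ⟨b, hb⟩⁆ : ↥F) ^ 2 = 1 := congrArg Subtype.val hsq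
      by_cases h1 : (⁅(⟨a, ha⟩ : ↥F), ⟨b, hb⟩⁆ : ↥F) = 1
      · left
        exact mul_inv_eq_iff_eq_mul.mpr (congrArg (fun t : ↥F => ((t : ↥(Subgroup.centralizer ({z} : Set G))) : G))
          (commutatorElement_eq_one_iff_mul_comm.mp h1))
      · right
        have hu : ((⁅(⟨a, ha⟩ : ↥F), ⟨b, hb⟩⁆ : ↥F).1 : G) = z := by
          refine eq_of_central hz hQ ⟨_, (⁅(⟨a, ha⟩ : ↥F), ⟨b, hb⟩⁆ : ↥F).2, rfl⟩ ?_ ?_
          · rw [← orderOf_eq_prime hsq' h1, ← Subgroup.orderOf_coe, ← Subgroup.orderOf_coe]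
          · rintro q ⟨e, he, rfl⟩
            exact congrArg (fun t : ↥F => ((t : ↥(Subgroup.centralizer ({z} : Set G))) : G))
              (Subgroup.mem_center_iff.mp hmem ⟨e, he⟩)
        have hu' : (a : G) * (b : G) * (a : G)⁻¹ * (b : G)⁻¹ = z := hu
        calc (a : G) * (b : G) * (a : G)⁻¹ = z * (b : G) := mul_inv_eq_iff_eq_mul.mp hu'
          _ = (b : G) * z := (commute_of_mem_Qz ⟨b, hb, rfl⟩).symm
  have hQn : ∀ q ∈ Q, α * q * α⁻¹ ∈ Q := by
    rintro _ ⟨x, hx, rfl⟩
    exact ⟨_, (Cfsg.Agent.Lib.Components.GenFitting.generalizedFitting_normal).conj_mem x hx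
      ⟨α, hαC⟩, rfl⟩
  let c : G → G := fun q => α * q * α⁻¹ * q⁻¹
  have hcQ : ∀ q ∈ Q, c q ∈ Q := fun q hq => mul_mem (hQn q hq) (inv_mem hq)
  have hconj : ∀ q, α * q * α⁻¹ = c q * q := fun q => by simp [c, mul_assoc]
  have hzp : ∀ x ∈ Subgroup.zpowers z, x = 1 ∨ x = z := by
    rintro x ⟨k, rfl⟩
    obtain ⟨m, rfl | rfl⟩ := Int.even_or_odd' k
    · left; show z ^ (2 * m) = 1
      rw [zpow_mul, show z ^ (2 : ℤ) = 1 by rw [zpow_two, hzz], one_zpow]
    · right; show z ^ (2 * m + 1) = z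
      rw [zpow_add, zpow_mul, show z ^ (2 : ℤ) = 1 by rw [zpow_two, hzz], one_zpow, one_mul, zpow_one]
  have hchiz : ∀ q ∈ Q, ∀ e ∈ Subgroup.zpowers z, chi e q = 0 := by
    intro q hq e he
    rcases hzp e he with rfl | rfl
    · exact chi_eq_zero.mpr (Commute.one_left q)
    · exact chi_eq_zero.mpr (h.comm q hq).symm
  -- `c(q)` lies in `Q₀`
  have hcQ₀ : ∀ q ∈ Q, c q ∈ Q₀ := by
    intro q hq
    refine (hQ₀ _).mpr ⟨hcQ q hq, ?_⟩
    have e : α * c q * α⁻¹ = (c q)⁻¹ := by
      simp only [c, mul_inv_rev, inv_inv, hαi]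
      simp only [← mul_assoc, hαα, one_mul]
    rw [e, ← mul_inv_rev]
    rcases h.sq_cases (hcQ q hq) with h1 | h1 <;> rw [h1]
    · simp [one_mem]
    · exact inv_mem (Subgroup.mem_zpowers z)
  have horth : ∀ x ∈ Q₀, ∀ q ∈ Q, Commute x (c q) := by
    intro x hx q hq
    obtain ⟨hxQ, hxe⟩ := (hQ₀ x).mp hx
    apply chi_eq_zero.mp
    have h1 := chi_conj α x q
    rw [hconj x, hconj q] at h1
    change chi (c x * x) (c q * q) = chi x q at h1
    have hcx : c x ∈ Q := hcQ x hxQ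
    rw [h.chi_mul_left hcx hxQ (mul_mem (hcQ q hq) hq), hchiz _ (mul_mem (hcQ q hq) hq) _ hxe, zero_add,
      h.chi_mul_right hxQ (hcQ q hq) hq] at h1
    exact add_eq_right.mp h1
  -- `α` does not centralise `Q` modulo `z`
  have hout : ∃ q ∈ Q, q ∉ Q₀ := by
    by_contra hcon
    simp only [not_exists, not_and, not_not] at hcon
    have hall : ∀ q ∈ Q, c q = 1 ∨ c q = z := fun q hq => hzp _ ((hQ₀ q).mp (hcon q hq)).2
    have hkey : ∀ k : G, k * z = z * k → (∀ x ∈ Q, k * x = x * k) → k ∈ Q := by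
      intro k hk hkx
      refine ⟨⟨k, Subgroup.mem_centralizer_singleton_iff.mpr hk⟩,
        Cfsg.Agent.Lib.Components.GenFitting.centralizer_le fun x hx => ?_, rfl⟩
      exact Subtype.ext (hkx x ⟨x, hx, rfl⟩).symm
    set M := Q ⊓ Subgroup.centralizer ({α} : Set G)
    have hMα : ∀ x, x ∈ M ↔ x ∈ Q ∧ x * α = α * x := fun x => by
      simp only [M, Subgroup.mem_inf, Subgroup.mem_centralizer_singleton_iff]
    by_cases hQM : Q ≤ M
    · exact hαQ (hkey α hαz fun x hx => ((hMα x).mp (hQM hx)).2.symm)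
    obtain ⟨q, hq, hqM⟩ := SetLike.not_le_iff_exists.mp hQM
    have hcq : c q = z := (hall q hq).resolve_left fun he => hqM ((hMα q).mpr ⟨hq, by
      have := hconj q; rw [he, one_mul] at this; exact (mul_inv_eq_iff_eq_mul.mp this).symm⟩)
    have hzM : z ∈ M := (hMα z).mpr ⟨h.mem, hαz.symm⟩
    have hdec : ∀ x ∈ Q, x ∈ M ∨ q⁻¹ * x ∈ M := by
      intro x hx
      rcases hall x hx with h1 | h1
      · left
        refine (hMα x).mpr ⟨hx, ?_⟩
        have := hconj x; rw [h1, one_mul] at this; exact (mul_inv_eq_iff_eq_mul.mp this).symm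
      · right
        refine (hMα _).mpr ⟨mul_mem (inv_mem hq) hx, ?_⟩
        have e : α * (q⁻¹ * x) * α⁻¹ = q⁻¹ * x := by
          calc α * (q⁻¹ * x) * α⁻¹ = (α * q * α⁻¹)⁻¹ * (α * x * α⁻¹) := by simp [mul_assoc]
            _ = (c q * q)⁻¹ * (c x * x) := by rw [hconj, hconj]
            _ = q⁻¹ * x := by rw [hcq, h1]; simp [mul_assoc]
        exact (mul_inv_eq_iff_eq_mul.mp e).symm
    have hsup : M ⊔ Subgroup.zpowers q = Q := le_antisymm
      (sup_le inf_le_left (Subgroup.zpowers_le.mpr hq)) (fun x hx => by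
        rcases hdec x hx with h1 | h1
        · exact Subgroup.mem_sup_left h1
        · rw [← mul_inv_cancel_left q x]
          exact mul_mem (Subgroup.mem_sup_right (Subgroup.mem_zpowers q)) (Subgroup.mem_sup_left h1))
    have hcard := Cfsg.Agent.Lib.K41.ESCentralizer.card_centralizer h (inf_le_left : M ≤ Q) hzM
    have hcQM := Cfsg.Agent.Lib.K41.ESCentralizer.card_adjoin h (inf_le_left : M ≤ Q) hzM hq hqM
    rw [hsup] at hcQM
    rw [hcQM] at hcard
    have h4 : Nat.card ↥(Q ⊓ Subgroup.centralizer (M : Set G) : Subgroup G) = 4 := by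
      refine Nat.eq_of_mul_eq_mul_right (Nat.card_pos (α := ↥M)) ?_
      rw [hcard]; ring
    obtain ⟨x, hx, hxz⟩ := SetLike.not_le_iff_exists.mp (fun hle : (Q ⊓ Subgroup.centralizer (M : Set G)) ≤ Subgroup.zpowers z => by
      have := Subgroup.card_le_of_le hle
      rw [h4, Cfsg.Agent.Lib.K41.ESCentralizer.card_zpowers_z h] at this
      omega)
    obtain ⟨hxQ, hxM⟩ := Subgroup.mem_inf.mp hx
    have hxq : x * q * x⁻¹ = q * z := by
      refine (h.conj x hxQ q hq).resolve_left fun he => hxz ?_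
      have hcen : ∀ p ∈ Q, Commute p x := by
        intro p hp
        rcases hdec p hp with h1 | h1
        · exact hxM p h1
        · rw [← mul_inv_cancel_left q p]
          exact (show Commute x q from mul_inv_eq_iff_eq_mul.mp he).symm.mul_left (hxM _ h1)
      rcases h.center x hxQ hcen with h1 | h1 <;> rw [h1]
      exacts [one_mem _, Subgroup.mem_zpowers z]
    have hk : x * α ∈ Q := by
      refine hkey _ (((h.comm x hxQ).mul_left (show Commute α z from hαz)).eq) fun p hp => ?_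
      have hkM : ∀ m ∈ M, Commute (x * α) m := fun m hm =>
        (show Commute x m from (hxM m hm).symm).mul_left ((hMα m).mp hm).2.symm
      have hkq : Commute (x * α) q := by
        refine mul_inv_eq_iff_eq_mul.mp ?_
        calc x * α * q * (x * α)⁻¹ = x * (α * q * α⁻¹) * x⁻¹ := by simp [mul_assoc]
          _ = (x * z * x⁻¹) * (x * q * x⁻¹) := by rw [hconj, hcq]; simp [mul_assoc]
          _ = z * (q * z) := by
              rw [hxq, mul_inv_eq_iff_eq_mul.mpr (h.comm x hxQ).eq]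
          _ = q := by rw [← mul_assoc, ← (h.comm q hq).eq, mul_assoc, hzz, mul_one]
      rcases hdec p hp with h1 | h1
      · exact (hkM p h1).eq
      · rw [← mul_inv_cancel_left q p]
        exact (hkq.mul_right (hkM _ h1)).eq
    exact hαQ (by simpa using mul_mem (inv_mem hxQ) hk)
  have hLQ : L ≤ Q := by
    rw [hL, Subgroup.closure_le]
    rintro _ ⟨q, hq, rfl⟩
    exact hcQ q hq
  have hcL : ∀ q ∈ Q, c q ∈ L := fun q hq => Subgroup.subset_closure ⟨q, hq, rfl⟩
  have hzL : z ∈ L := by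
    obtain ⟨q', hq', hq'0⟩ := hout
    have hne : ∀ e ∈ Subgroup.zpowers z, c q' ≠ e := fun e he h1 =>
      hq'0 ((hQ₀ q').mpr ⟨hq', by
        show c q' ∈ _
        rw [h1]; exact he⟩)
    obtain ⟨p, hp, hpc⟩ := h.exists_conj_ne (hcQ q' hq') (hne 1 (one_mem _)) (hne z (Subgroup.mem_zpowers z))
    have e : c (p * q') = c p * (p * c q' * p⁻¹) := by simp [c, mul_assoc]
    rw [hpc] at e
    have h1 := mul_mem (inv_mem (mul_mem (hcL p hp) (hcL q' hq'))) (hcL (p * q') (mul_mem hp hq'))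
    rw [e] at h1
    simpa [mul_assoc] using h1
  have hQ₀Q : Q₀ ≤ Q := fun x hx => ((hQ₀ x).mp hx).1
  have hCL : Q ⊓ Subgroup.centralizer (L : Set G) = Q₀ := by
    refine le_antisymm ?_ ?_
    · intro y hy
      obtain ⟨hyQ, hyL⟩ := Subgroup.mem_inf.mp hy
      refine (hQ₀ y).mpr ⟨hyQ, ?_⟩
      show c y ∈ Subgroup.zpowers z
      have hcen : ∀ q ∈ Q, Commute q (c y) := by
        intro q hq
        refine (chi_eq_zero.mp ?_).symm
        have h1 := chi_conj α y q
        rw [hconj y, hconj q] at h1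
        change chi (c y * y) (c q * q) = chi y q at h1
        rw [h.chi_mul_left (hcQ y hyQ) hyQ (mul_mem (hcQ q hq) hq),
          h.chi_mul_right (hcQ y hyQ) (hcQ q hq) hq, h.chi_mul_right hyQ (hcQ q hq) hq,
          chi_eq_zero.mpr (horth _ (hcQ₀ y hyQ) q hq),
          chi_eq_zero.mpr (show Commute y (c q) from (hyL _ (hcL q hq)).symm),
          zero_add, zero_add] at h1
        exact add_eq_right.mp h1
      rcases h.center _ (hcQ y hyQ) hcen with h1 | h1 <;> rw [h1]
      exacts [one_mem _, Subgroup.mem_zpowers z]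
    · intro x hx
      refine Subgroup.mem_inf.mpr ⟨hQ₀Q hx, ?_⟩
      have : L ≤ Subgroup.centralizer ({x} : Set G) := by
        rw [hL, Subgroup.closure_le]
        rintro _ ⟨q, hq, rfl⟩
        exact Subgroup.mem_centralizer_singleton_iff.mpr (horth x hx q hq).eq.symm
      exact fun y hy => Subgroup.mem_centralizer_singleton_iff.mp (this hy)
  have hLQ₀ : L ≤ Q₀ := by
    rw [hL, Subgroup.closure_le]
    rintro _ ⟨q, hq, rfl⟩
    exact hcQ₀ q hq
  have hLc : L ≤ Q ⊓ Subgroup.centralizer (Q₀ : Set G) := fun l hl =>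
    Subgroup.mem_inf.mpr ⟨hLQ hl, fun x hx => ((hCL ▸ hx : x ∈ Q ⊓ Subgroup.centralizer (L : Set G)).2 l hl).symm⟩
  have h1 := Cfsg.Agent.Lib.K41.ESCentralizer.card_centralizer h hLQ hzL
  rw [hCL] at h1
  have h2 := Cfsg.Agent.Lib.K41.ESCentralizer.card_centralizer h hQ₀Q (hLQ₀ hzL)
  have hdouble : Q ⊓ Subgroup.centralizer (Q₀ : Set G) = L := (Subgroup.eq_of_le_of_card_ge hLc (le_of_eq
    (Nat.eq_of_mul_eq_mul_right (Nat.card_pos (α := ↥Q₀)) (by rw [h2, ← h1]; ring)))).symm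
  refine ⟨le_antisymm ?_ ?_, ?_⟩
  · intro l hl
    refine ⟨⟨l, hLQ₀ hl⟩, Subgroup.mem_center_iff.mpr fun x => Subtype.ext ?_, rfl⟩
    exact (hLc hl).2 x x.2
  · rintro _ ⟨x, hx, rfl⟩
    rw [← hdouble]
    exact Subgroup.mem_inf.mpr ⟨hQ₀Q x.2, fun y hy =>
      congrArg Subtype.val (Subgroup.mem_center_iff.mp hx ⟨y, hy⟩)⟩
  · intro hnot
    obtain ⟨q, hq, hqn⟩ := SetLike.not_le_iff_exists.mp hnot
    obtain ⟨hqQ, hqe⟩ := (hQ₀ q).mp hq
    change c q ∈ Subgroup.zpowers z at hqe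
    refine ⟨q, hqQ, ?_⟩
    rcases hzp _ hqe with h' | h'
    · exfalso
      refine hqn (Subgroup.mem_sup_left (Subgroup.mem_inf.mpr ⟨hqQ, ?_⟩))
      rw [Subgroup.mem_centralizer_singleton_iff]
      have := hconj q; rw [h', one_mul] at this
      exact (mul_inv_eq_iff_eq_mul.mp this).symm
    · calc q * α * q⁻¹ = α * (α * q * α⁻¹ * q⁻¹) := by
            simp only [hαi, ← mul_assoc, hαα, one_mul]
        _ = α * z := by rw [show α * q * α⁻¹ * q⁻¹ = z from h']

end Cfsg.Agent.S1784
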