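import Cfsg.Statements.S1785
import Cfsg.Agent.Lib.PGroups.ElemAb

set_option autoImplicit false
open scoped Pointwise
open Cfsg
open Cfsg.Agent.Lib.PGroups

namespace Cfsg.Agent.S1785

/-- Let X be a finite 2-group having a normal elementary abelian subgroup of order at least 32. Then (a) for any two elementary abelian subgroups A, B of X of order 8 there is a chain A = A₁, A₂, …, Aₙ = B of elementary abelian subgroups of order 8 in which consecutive members commute elementwise; and (b) every elementary abelian subgroup of X of order 4 is contained in an elementary abelian subgroup of order 8. -/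
theorem result {X : Type*} [Group X] [Finite X]
    (hX : IsPGroup 2 X) (E : Subgroup X) [E.Normal] (hE : Cfsg.IsElementaryAbelian 2 E) (hE32 : 32 ≤ Nat.card ↥E) :
    (∀ A B : Subgroup X, Cfsg.IsElementaryAbelian 2 A → Nat.card ↥A = 8 → Cfsg.IsElementaryAbelian 2 B → Nat.card ↥B = 8 →
        Relation.ReflTransGen
          (fun C D : Subgroup X => Cfsg.IsElementaryAbelian 2 C ∧ Nat.card ↥C = 8 ∧ Cfsg.IsElementaryAbelian 2 D ∧ Nat.card ↥D = 8 ∧ ⁅C, D⁆ = ⊥)
          A B) ∧
      (∀ V : Subgroup X, Cfsg.IsElementaryAbelian 2 V → Nat.card ↥V = 4 →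
        ∃ A : Subgroup X, V ≤ A ∧ Cfsg.IsElementaryAbelian 2 A ∧ Nat.card ↥A = 8) := by
  classical
  haveI : Fact (Nat.Prime 2) := ⟨Nat.prime_two⟩
  have hcomm : ∀ {C : Subgroup X}, IsElementaryAbelian 2 C → ∀ {a b : X}, a ∈ C → b ∈ C → a * b = b * a :=
    fun hC _ _ ha hb => elemAb_comm hC ha hb
  have hsq : ∀ {C : Subgroup X}, IsElementaryAbelian 2 C → ∀ {a : X}, a ∈ C → a * a = 1 :=
    fun hC _ ha => by rw [← pow_two]; exact elemAb_pow hC ha
  -- one involution loses at most a square root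
  have hroot : ∀ W : Subgroup X, W ≤ E → ∀ v : X, v * v = 1 → (∀ w ∈ W, v * w * v⁻¹ ∈ W) →
      Nat.card ↥W ≤ Nat.card ↥(W ⊓ Subgroup.centralizer ({v} : Set X) : Subgroup X) *
        Nat.card ↥(W ⊓ Subgroup.centralizer ({v} : Set X) : Subgroup X) := by
    intro W hW v hv hn
    have hvi : v⁻¹ = v := inv_eq_of_mul_eq_one_left hv
    have hWc : ∀ {a b : X}, a ∈ W → b ∈ W → a * b = b * a := fun ha hb => hcomm hE (hW ha) (hW hb)
    let φ : ↥W →* ↥W :=
      { toFun := fun w => ⟨w * (v * w * v⁻¹), mul_mem w.2 (hn w w.2)⟩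
        map_one' := Subtype.ext (by simp)
        map_mul' := fun a b => Subtype.ext (by
          show (a : X) * b * (v * (a * b) * v⁻¹) = (a : X) * (v * a * v⁻¹) * (b * (v * b * v⁻¹))
          calc (a : X) * b * (v * (a * b) * v⁻¹)
              = a * (b * (v * a * v⁻¹)) * (v * b * v⁻¹) := by simp [mul_assoc]
            _ = a * ((v * a * v⁻¹) * b) * (v * b * v⁻¹) := by rw [hWc b.2 (hn a a.2)]
            _ = _ := by simp [mul_assoc]) }
    have hfix : ∀ w ∈ W, v * w * v⁻¹ = w → w ∈ W ⊓ Subgroup.centralizer ({v} : Set X) := by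
      intro w hw he
      exact Subgroup.mem_inf.mpr ⟨hw, Subgroup.mem_centralizer_singleton_iff.mpr (mul_inv_eq_iff_eq_mul.mp he).symm⟩
    have hrange : φ.range.map W.subtype ≤ W ⊓ Subgroup.centralizer ({v} : Set X) := by
      rintro _ ⟨_, ⟨w, rfl⟩, rfl⟩
      refine hfix _ (φ w).2 ?_
      show v * ((w : X) * (v * w * v⁻¹)) * v⁻¹ = w * (v * w * v⁻¹)
      calc v * ((w : X) * (v * w * v⁻¹)) * v⁻¹ = (v * w * v⁻¹) * ((v * v) * w * (v * v)⁻¹) := by
            simp [mul_assoc]
        _ = (v * w * v⁻¹) * w := by rw [hv]; simp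
        _ = w * (v * w * v⁻¹) := hWc (hn w w.2) w.2
    have hker : φ.ker.map W.subtype ≤ W ⊓ Subgroup.centralizer ({v} : Set X) := by
      rintro _ ⟨w, hw, rfl⟩
      refine hfix _ w.2 ?_
      have h1 : (w : X) * (v * w * v⁻¹) = 1 := congrArg Subtype.val hw
      rw [mul_eq_one_iff_eq_inv] at h1
      calc v * (w : X) * v⁻¹ = (v * (w : X) * v⁻¹)⁻¹ :=
            (inv_eq_of_mul_eq_one_left (hsq hE (hW (hn w w.2)))).symm
        _ = (w : X) := h1.symm
    have h1 := Subgroup.card_eq_card_quotient_mul_card_subgroup φ.ker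
    rw [Nat.card_congr (QuotientGroup.quotientKerEquivRange φ).toEquiv] at h1
    rw [h1]
    exact Nat.mul_le_mul
      (Subgroup.card_map_of_injective (K := φ.range) W.subtype_injective ▸ Subgroup.card_le_of_le hrange)
      (Subgroup.card_map_of_injective (K := φ.ker) W.subtype_injective ▸ Subgroup.card_le_of_le hker)
  -- centralisers in `E` of one, two, three commuting involutions
  let C1 : X → Subgroup X := fun a => E ⊓ Subgroup.centralizer ({a} : Set X)
  have hstab : ∀ a b : X, a * b = b * a → ∀ W : Subgroup X,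
      (∀ w ∈ W, b * w * b⁻¹ ∈ W) → ∀ w ∈ W ⊓ Subgroup.centralizer ({a} : Set X),
        b * w * b⁻¹ ∈ W ⊓ Subgroup.centralizer ({a} : Set X) := by
    intro a b hab W hn w hw
    obtain ⟨h1, h2⟩ := Subgroup.mem_inf.mp hw
    refine Subgroup.mem_inf.mpr ⟨hn w h1, ?_⟩
    have hb : b ∈ Subgroup.centralizer ({a} : Set X) := Subgroup.mem_centralizer_singleton_iff.mpr hab.symm
    exact mul_mem (mul_mem hb h2) (inv_mem hb)
  have hEn : ∀ v : X, ∀ w ∈ E, v * w * v⁻¹ ∈ E := fun v w hw => ‹E.Normal›.conj_mem w hw v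
  have hc1 : ∀ a : X, a * a = 1 → 6 ≤ Nat.card ↥(E ⊓ Subgroup.centralizer ({a} : Set X) : Subgroup X) := by
    intro a ha
    have := hroot E le_rfl a ha (hEn a)
    by_contra hlt
    have h2 := Nat.mul_le_mul (Nat.lt_succ_iff.mp (not_le.mp hlt)) (Nat.lt_succ_iff.mp (not_le.mp hlt))
    omega
  have hc2 : ∀ a b : X, a * a = 1 → b * b = 1 → a * b = b * a →
      3 ≤ Nat.card ↥(E ⊓ Subgroup.centralizer ({a} : Set X) ⊓ Subgroup.centralizer ({b} : Set X) : Subgroup X) := by
    intro a b ha hb hab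
    have := hroot _ inf_le_left b hb (hstab a b hab E (hEn b))
    have h1 := hc1 a ha
    by_contra hlt
    have h2 := Nat.mul_le_mul (Nat.lt_succ_iff.mp (not_le.mp hlt)) (Nat.lt_succ_iff.mp (not_le.mp hlt))
    omega
  have hc3 : ∀ a b c : X, a * a = 1 → b * b = 1 → c * c = 1 → a * b = b * a → a * c = c * a → b * c = c * b →
      2 ≤ Nat.card ↥(E ⊓ Subgroup.centralizer ({a} : Set X) ⊓ Subgroup.centralizer ({b} : Set X) ⊓
        Subgroup.centralizer ({c} : Set X) : Subgroup X) := by
    intro a b c ha hb hc hab hac hbc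
    have := hroot _ (inf_le_left.trans inf_le_left) c hc (hstab b c hbc _ (hstab a c hac E (hEn c)))
    have h1 := hc2 a b ha hb hab
    by_contra hlt
    have h2 := Nat.mul_le_mul (Nat.lt_succ_iff.mp (not_le.mp hlt)) (Nat.lt_succ_iff.mp (not_le.mp hlt))
    omega
  -- adjoining an involution
  have hadd : ∀ {I : Subgroup X} {w : X}, IsElementaryAbelian 2 I → w * w = 1 →
      (∀ i ∈ I, i * w = w * i) → w ∉ I →
      IsElementaryAbelian 2 (I ⊔ Subgroup.zpowers w) ∧
        Nat.card ↥(I ⊔ Subgroup.zpowers w : Subgroup X) = Nat.card ↥I * 2 := by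
    intro I w hI hw hcw hwI
    have hE' : IsElementaryAbelian 2 (I ⊔ Subgroup.zpowers w) := by
      refine elemAb_sup hI (elemAb_zpowers (by rw [pow_two]; exact hw)) ?_
      rintro i hi _ ⟨k, rfl⟩
      exact (Commute.zpow_right (hcw i hi) k)
    refine ⟨hE', le_antisymm ?_ (card_mul_le_card_of_mem le_sup_left (elemAb_isPGroup hE')
      (Subgroup.mem_sup_right (Subgroup.mem_zpowers w)) hwI)⟩
    have h2 : Nat.card ↥(Subgroup.zpowers w) = 2 := by
      rw [Nat.card_zpowers]
      exact orderOf_eq_prime (by rw [pow_two]; exact hw) (fun h => hwI (h ▸ one_mem I))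
    rw [← h2, ← Nat.card_prod]
    refine Nat.card_le_card_of_surjective (fun q : ↥I × ↥(Subgroup.zpowers w) =>
      (⟨q.1 * q.2, mul_mem (Subgroup.mem_sup_left q.1.2) (Subgroup.mem_sup_right q.2.2)⟩ :
        ↥(I ⊔ Subgroup.zpowers w : Subgroup X))) ?_
    rintro ⟨x, hx⟩
    have hn : Subgroup.zpowers w ≤ Subgroup.normalizer (I : Set X) := by
      rw [Subgroup.zpowers_le, Subgroup.mem_normalizer_iff]
      intro i
      constructor
      · intro hi; rwa [← hcw i hi, mul_inv_cancel_right]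
      · intro hi
        have := hcw _ hi
        rw [inv_mul_cancel_right] at this
        have e : i = w * i * w⁻¹ := mul_left_cancel this
        rwa [e]
    have hx' : x ∈ (I : Set X) * (Subgroup.zpowers w : Set X) := by
      rw [← Subgroup.coe_mul_of_right_le_normalizer_left I _ hn]; exact hx
    obtain ⟨i, hi, j, hj, rfl⟩ := hx'
    exact ⟨(⟨i, hi⟩, ⟨j, hj⟩), rfl⟩
  have hEc : ∀ (I : Subgroup X), I ≤ E → ∀ i ∈ I, ∀ e ∈ E, i * e = e * i :=
    fun I hI i hi e he => hcomm hE (hI hi) he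
  have hcentmem : ∀ {a e : X}, e ∈ Subgroup.centralizer ({a} : Set X) → a * e = e * a :=
    fun h => (Subgroup.mem_centralizer_singleton_iff.mp h).symm
  refine ⟨?_, ?_⟩
  · let Rel := fun C D : Subgroup X => IsElementaryAbelian 2 C ∧ Nat.card ↥C = 8 ∧
      IsElementaryAbelian 2 D ∧ Nat.card ↥D = 8 ∧ ⁅C, D⁆ = ⊥
    have hsymm : Std.Symm Rel := ⟨fun C D h => ⟨h.2.2.1, h.2.2.2.1, h.1, h.2.1, by
      rw [Subgroup.commutator_comm]; exact h.2.2.2.2⟩⟩
    have hkey : ∀ m : ℕ, ∀ A : Subgroup X, IsElementaryAbelian 2 A → Nat.card ↥A = 8 →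
        8 - Nat.card ↥(A ⊓ E : Subgroup X) = m →
        ∃ D : Subgroup X, D ≤ E ∧ IsElementaryAbelian 2 D ∧ Nat.card ↥D = 8 ∧
          Relation.ReflTransGen Rel A D := by
      intro m
      induction m using Nat.strong_induction_on with
      | _ m ih =>
        intro A hA hA8 hm
        by_cases hAE : A ≤ E
        · exact ⟨A, hAE, hA, hA8, Relation.ReflTransGen.refl⟩
        have hI : IsElementaryAbelian 2 (A ⊓ E) := elemAb_mono hA inf_le_left
        obtain ⟨i, hki⟩ := elemAb_card_eq_pow hI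
        have hk8 : Nat.card ↥(A ⊓ E : Subgroup X) < 8 := by
          rw [← hA8]
          exact lt_of_le_of_ne (Subgroup.card_le_of_le inf_le_left) fun h =>
            hAE (inf_eq_left.mp (Subgroup.eq_of_le_of_card_ge inf_le_left h.ge))
        obtain ⟨a, ha, haE⟩ := SetLike.not_le_iff_exists.mp hAE
        have haI : a ∉ A ⊓ E := fun h => haE h.2
        obtain ⟨hJ, hJc⟩ := hadd hI (hsq hA ha) (fun j hj => hcomm hA hj.1 ha) haI
        have hJA : (A ⊓ E) ⊔ Subgroup.zpowers a ≤ A := sup_le inf_le_left (Subgroup.zpowers_le.mpr ha)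
        obtain ⟨w, hwE, hwA, hwI, J, hJle, hIJ, hJ4⟩ : ∃ w ∈ E, (∀ x ∈ A, x * w = w * x) ∧ w ∉ A ⊓ E ∧
            ∃ J : Subgroup X, J ≤ A ∧ A ⊓ E ≤ J ∧ Nat.card ↥J = 4 := by
          have hcentA : ∀ (K : Subgroup X) (w : X), w ∈ E → A ≤ K →
              K ≤ Subgroup.centralizer ({w} : Set X) → ∀ x ∈ A, x * w = w * x :=
            fun K w _ hAK hK x hx => Subgroup.mem_centralizer_singleton_iff.mp (hK (hAK hx))
          have hIc : ∀ w ∈ E, A ⊓ E ≤ Subgroup.centralizer ({w} : Set X) := fun w hw j hj =>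
            Subgroup.mem_centralizer_singleton_iff.mpr (hEc _ inf_le_right j hj w hw)
          have hzc : ∀ {a w : X}, w ∈ Subgroup.centralizer ({a} : Set X) →
              Subgroup.zpowers a ≤ Subgroup.centralizer ({w} : Set X) := fun h =>
            Subgroup.zpowers_le.mpr (Subgroup.mem_centralizer_singleton_iff.mpr (hcentmem h))
          have hpick : ∀ (C : Subgroup X), Nat.card ↥(A ⊓ E : Subgroup X) < Nat.card ↥C →
              ∃ w ∈ C, w ∉ A ⊓ E := fun C hC => by
            by_contra h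
            simp only [not_exists, not_and, not_not] at h
            exact absurd (Subgroup.card_le_of_le h) (not_le.mpr hC)
          rcases i with _ | _ | _ | i
          · -- trivial intersection
            rw [pow_zero] at hki
            rw [hki, one_mul] at hJc
            obtain ⟨b, hb, hbJ⟩ := SetLike.exists_of_lt (lt_of_le_of_ne hJA (fun h => by
              rw [h, hA8] at hJc; omega))
            obtain ⟨hJ2, hJ2c⟩ := hadd hJ (hsq hA hb) (fun j hj => hcomm hA (hJA hj) hb) hbJ
            have hJ2A := sup_le hJA (Subgroup.zpowers_le.mpr hb)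
            obtain ⟨c, hc, hcJ⟩ := SetLike.exists_of_lt (lt_of_le_of_ne hJ2A (fun h => by
              rw [h, hA8, hJc] at hJ2c; omega))
            obtain ⟨w, hw, hwI⟩ := hpick (E ⊓ Subgroup.centralizer ({a} : Set X) ⊓
                Subgroup.centralizer ({b} : Set X) ⊓ Subgroup.centralizer ({c} : Set X)) (by
              rw [hki]; exact hc3 a b c (hsq hA ha) (hsq hA hb) (hsq hA hc) (hcomm hA ha hb)
                (hcomm hA ha hc) (hcomm hA hb hc))
            obtain ⟨⟨⟨hwE, hwa⟩, hwb⟩, hwc⟩ := hw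
            have hA' := Subgroup.eq_of_le_of_card_ge (sup_le hJ2A (Subgroup.zpowers_le.mpr hc)) (by
              rw [(hadd hJ2 (hsq hA hc) (fun j hj => hcomm hA (hJ2A hj) hc) hcJ).2, hJ2c, hJc, hA8])
            exact ⟨w, hwE, hcentA _ w hwE hA'.ge (sup_le (sup_le (sup_le (hIc w hwE) (hzc hwa))
              (hzc hwb)) (hzc hwc)), hwI, _, hJ2A, le_sup_left.trans le_sup_left, by rw [hJ2c, hJc]⟩
          · rw [zero_add, pow_one] at hki
            rw [hki] at hJc
            obtain ⟨b, hb, hbJ⟩ := SetLike.exists_of_lt (lt_of_le_of_ne hJA (fun h => by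
              rw [h, hA8] at hJc; omega))
            obtain ⟨w, hw, hwI⟩ := hpick (E ⊓ Subgroup.centralizer ({a} : Set X) ⊓
                Subgroup.centralizer ({b} : Set X)) (by
              rw [hki]; exact hc2 a b (hsq hA ha) (hsq hA hb) (hcomm hA ha hb))
            obtain ⟨⟨hwE, hwa⟩, hwb⟩ := hw
            have hA' := Subgroup.eq_of_le_of_card_ge (sup_le hJA (Subgroup.zpowers_le.mpr hb)) (by
              rw [(hadd hJ (hsq hA hb) (fun j hj => hcomm hA (hJA hj) hb) hbJ).2, hJc, hA8])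
            exact ⟨w, hwE, hcentA _ w hwE hA'.ge (sup_le (sup_le (hIc w hwE) (hzc hwa)) (hzc hwb)),
              hwI, _, hJA, le_sup_left, by rw [hJc]⟩
          · replace hki : Nat.card ↥(A ⊓ E : Subgroup X) = 4 := by rw [hki]; norm_num
            rw [hki] at hJc
            obtain ⟨w, hw, hwI⟩ := hpick (E ⊓ Subgroup.centralizer ({a} : Set X)) (by
              rw [hki]; have := hc1 a (hsq hA ha); exact (show 4 < 6 by omega).trans_le this)
            obtain ⟨hwE, hwa⟩ := hw
            have hA' := Subgroup.eq_of_le_of_card_ge hJA (by rw [hJc, hA8])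
            exact ⟨w, hwE, hcentA _ w hwE hA'.ge (sup_le (hIc w hwE) (hzc hwa)),
              hwI, _, inf_le_left, le_rfl, hki⟩
          · exfalso
            have h1 : 2 ^ 3 ≤ 2 ^ (i + 1 + 1 + 1) := Nat.pow_le_pow_right two_pos (by omega)
            omega
        have hwnA : w ∉ A := fun h => hwI ⟨h, hwE⟩
        obtain ⟨hA', hA'c⟩ := hadd (elemAb_mono hA hJle) (hsq hE hwE) (fun j hj => hwA j (hJle hj))
          (fun h => hwnA (hJle h))
        rw [hJ4] at hA'c
        set A' := J ⊔ Subgroup.zpowers w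
        have hstep : Rel A A' := by
          refine ⟨hA, hA8, hA', hA'c, Subgroup.commutator_eq_bot_iff_le_centralizer.mpr fun x hx y hy => ?_⟩
          have hle : A' ≤ Subgroup.centralizer ({x} : Set X) := sup_le
            (fun j hj => Subgroup.mem_centralizer_singleton_iff.mpr (hcomm hA (hJle hj) hx))
            (Subgroup.zpowers_le.mpr (Subgroup.mem_centralizer_singleton_iff.mpr (hwA x hx).symm))
          exact Subgroup.mem_centralizer_singleton_iff.mp (hle hy)
        have hlt : 8 - Nat.card ↥(A' ⊓ E : Subgroup X) < m := by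
          have h1 : A ⊓ E < A' ⊓ E := SetLike.lt_iff_le_and_exists.mpr
            ⟨le_inf (hIJ.trans le_sup_left) inf_le_right, w,
              Subgroup.mem_inf.mpr ⟨Subgroup.mem_sup_right (Subgroup.mem_zpowers w), hwE⟩, hwI⟩
          have h2 : Nat.card ↥(A ⊓ E : Subgroup X) < Nat.card ↥(A' ⊓ E : Subgroup X) :=
            lt_of_le_of_ne (Subgroup.card_le_of_le h1.le) fun h =>
              h1.ne (Subgroup.eq_of_le_of_card_ge h1.le h.ge)
          omega
        obtain ⟨D, hD1, hD2, hD3, hD4⟩ := ih _ hlt A' hA' hA'c rfl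
        exact ⟨D, hD1, hD2, hD3, Relation.ReflTransGen.head hstep hD4⟩
    intro A B hA hA8 hB hB8
    obtain ⟨D, hDE, hD, hD8, hAD⟩ := hkey _ A hA hA8 rfl
    obtain ⟨D', hDE', hD', hD8', hBD⟩ := hkey _ B hB hB8 rfl
    have hmid : Rel D D' := ⟨hD, hD8, hD', hD8', Subgroup.commutator_eq_bot_iff_le_centralizer.mpr
      fun x hx y hy => hcomm hE (hDE' hy) (hDE hx)⟩
    have hrev : ∀ {P R : Subgroup X}, Relation.ReflTransGen Rel P R → Relation.ReflTransGen Rel R P := by
      intro P R h
      induction h with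
      | refl => exact Relation.ReflTransGen.refl
      | tail _ hab ih => exact Relation.ReflTransGen.head (hsymm.symm _ _ hab) ih
    exact (hAD.tail hmid).trans (hrev hBD)
  · intro V hV hV4
    obtain ⟨u, hu, hu1⟩ := SetLike.exists_of_lt (bot_lt_iff_ne_bot.mpr (fun h => by
      rw [h, Subgroup.card_bot] at hV4; omega) : ⊥ < V)
    rw [Subgroup.mem_bot] at hu1
    obtain ⟨hZ, hZc⟩ := hadd (I := (⊥ : Subgroup X)) elemAb_bot (hsq hV hu)
      (fun j hj => by rw [Subgroup.mem_bot.mp hj, one_mul, mul_one]) (by simpa using hu1)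
    rw [bot_sup_eq] at hZ hZc
    rw [Subgroup.card_bot, one_mul] at hZc
    obtain ⟨v, hv, hvZ⟩ := SetLike.exists_of_lt (lt_of_le_of_ne (Subgroup.zpowers_le.mpr hu) (fun h => by
      rw [h, hV4] at hZc; omega) : Subgroup.zpowers u < V)
    have hVeq := Subgroup.eq_of_le_of_card_ge (sup_le (Subgroup.zpowers_le.mpr hu) (Subgroup.zpowers_le.mpr hv))
      (by rw [(hadd hZ (hsq hV hv) (fun j hj => hcomm hV (Subgroup.zpowers_le.mpr hu hj) hv) hvZ).2, hZc, hV4])
    set D := E ⊓ Subgroup.centralizer ({u} : Set X) ⊓ Subgroup.centralizer ({v} : Set X) with hD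
    have h3 := hc2 u v (hsq hV hu) (hsq hV hv) (hcomm hV hu hv)
    rw [← hD] at h3
    obtain ⟨w, hwD, hwV⟩ : ∃ w ∈ D, w ∉ V := by
      by_contra h
      simp only [not_exists, not_and, not_not] at h
      have hdvd := Subgroup.card_dvd_of_le (show D ≤ V from h)
      rw [hV4] at hdvd
      have h4 : Nat.card ↥D = 4 := by
        rcases (Nat.dvd_prime_pow Nat.prime_two (m := 2)).mp (by simpa using hdvd) with ⟨j, hj, he⟩
        interval_cases j <;> simp [he] at h3 ⊢
      have hVE : V ≤ E :=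
        (Subgroup.eq_of_le_of_card_ge (show D ≤ V from h) (by rw [hV4, h4])).ge.trans
          (inf_le_left.trans inf_le_left)
      have hED : E ≤ D := fun e he => ⟨⟨he, Subgroup.mem_centralizer_singleton_iff.mpr (hcomm hE he (hVE hu))⟩,
        Subgroup.mem_centralizer_singleton_iff.mpr (hcomm hE he (hVE hv))⟩
      have := Subgroup.card_le_of_le (hED.trans (show D ≤ V from h))
      omega
    obtain ⟨⟨hwE, hwu⟩, hwv⟩ := hwD
    have hVc : V ≤ Subgroup.centralizer ({w} : Set X) := hVeq ▸ sup_le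
      (Subgroup.zpowers_le.mpr (Subgroup.mem_centralizer_singleton_iff.mpr (hcentmem hwu)))
      (Subgroup.zpowers_le.mpr (Subgroup.mem_centralizer_singleton_iff.mpr (hcentmem hwv)))
    obtain ⟨hA, hAc⟩ := hadd hV (hsq hE hwE)
      (fun j hj => Subgroup.mem_centralizer_singleton_iff.mp (hVc hj)) hwV
    exact ⟨_, le_sup_left, hA, by rw [hAc, hV4]⟩

end Cfsg.Agent.S1785
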