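import Cfsg.Statements.S1786
import Cfsg.Agent.Lib.K41.TIWeakSL2

set_option autoImplicit false
open Cfsg
open Cfsg.Agent.Lib.K41.TIWeak
open scoped commutatorElement

namespace Cfsg.Agent.S1786

/-- Let G be a finite group, V an elementary abelian 2-subgroup of G and M the normalizer of V; write Q for the largest normal 2-subgroup of M. Suppose (1) the generalized Fitting subgroup of M equals Q; (2) V is a maximal abelian normal subgroup of M; (3) every conjugate of V equals V or meets V trivially, and for some g ∈ G the conjugate V' = g V g⁻¹ is different from V and contained in Q. Let P be the centralizer of V in Q, W the subgroup generated by V and V', and H the subgroup generated by P and g P g⁻¹. Then: (a) V is contained in g Q g⁻¹; (b) every non-identity element of W lies in exactly one conjugate of V contained in W, H normalizes W, and H modulo the centralizer of W in H is isomorphic to the special linear group of dimension 2 over the field with |V| elements; (c) P = Q, and V equals the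 Frattini subgroup, the centre and the commutator subgroup of Q. -/
theorem result {G : Type*} [Group G] [Finite G] (V : Subgroup G)
    (hV : Cfsg.IsElementaryAbelian 2 V)
    (h1 : (Cfsg.generalizedFittingSubgroup ↥(Subgroup.normalizer (V : Set G))).map (Subgroup.normalizer (V : Set G)).subtype =
      (Cfsg.pCore 2 ↥(Subgroup.normalizer (V : Set G))).map (Subgroup.normalizer (V : Set G)).subtype)
    (h2 : ∀ A : Subgroup G, V ≤ A → A ≤ Subgroup.normalizer (V : Set G) → IsMulCommutative ↥A →
      (∀ m ∈ Subgroup.normalizer (V : Set G), ∀ a ∈ A, m * a * m⁻¹ ∈ A) → A = V)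
    (hti : ∀ x : G, V.map (MulAut.conj x).toMonoidHom = V ∨ V.map (MulAut.conj x).toMonoidHom ⊓ V = ⊥)
    (g : G) (hg : V.map (MulAut.conj g).toMonoidHom ≠ V)
    (hgQ : V.map (MulAut.conj g).toMonoidHom ≤ (Cfsg.pCore 2 ↥(Subgroup.normalizer (V : Set G))).map (Subgroup.normalizer (V : Set G)).subtype) :
    let Q : Subgroup G := (Cfsg.pCore 2 ↥(Subgroup.normalizer (V : Set G))).map (Subgroup.normalizer (V : Set G)).subtype
    let P : Subgroup G := Q ⊓ Subgroup.centralizer (V : Set G)
    let W : Subgroup G := V ⊔ V.map (MulAut.conj g).toMonoidHom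
    let H : Subgroup G := P ⊔ P.map (MulAut.conj g).toMonoidHom
    V ≤ Q.map (MulAut.conj g).toMonoidHom ∧
      (∀ w ∈ W, w ≠ 1 → ∃! U : Subgroup G, (∃ x : G, U = V.map (MulAut.conj x).toMonoidHom) ∧ U ≤ W ∧ w ∈ U) ∧
      H ≤ Subgroup.normalizer (W : Set G) ∧
      (∀ hN : ((Subgroup.centralizer (W : Set G)).subgroupOf H).Normal, ∃ (F : Type) (_ : Field F) (_ : Fintype F), Fintype.card F = Nat.card ↥V ∧
        Nonempty (↥H ⧸ (Subgroup.centralizer (W : Set G)).subgroupOf H ≃* Matrix.SpecialLinearGroup (Fin 2) F)) ∧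
      P = Q ∧ (frattini ↥Q).map Q.subtype = V ∧ (Subgroup.center ↥Q).map Q.subtype = V ∧ (commutator ↥Q).map Q.subtype = V := by
  intro Q P W H
  haveI : IsMulCommutative ↥V := hV.1
  have T : TIData V :=
    { comm := fun x hx y hy => congrArg Subtype.val
        (IsMulCommutative.is_comm.comm (⟨x, hx⟩ : ↥V) ⟨y, hy⟩)
      sq := fun x hx => by rw [← pow_two]; exact hV.2 x hx
      maxAb := h2
      cent := by
        intro x hx hq
        have hmem : (⟨x, hx⟩ : ↥(Nm V)) ∈ generalizedFittingSubgroup ↥(Nm V) := by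
          refine Cfsg.Agent.Lib.Components.GenFitting.centralizer_le fun y hy => ?_
          refine Subtype.ext (hq (y : G) ?_).symm
          show (y : G) ∈ (pCore 2 ↥(Subgroup.normalizer (V : Set G))).map _
          rw [← h1]
          exact Subgroup.mem_map_of_mem (Nm V).subtype hy
        show x ∈ (pCore 2 ↥(Subgroup.normalizer (V : Set G))).map _
        rw [← h1]
        exact Subgroup.mem_map_of_mem (Nm V).subtype hmem
      ti := hti }
  have hp : Pair V (cj g V) := ⟨T, ⟨g, rfl⟩, hg, hgQ⟩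
  obtain ⟨⟨F, hF, hFt, hcard, ρ, hρs, hρk⟩, hPQ⟩ := hp.main
  have hPeq : Pof (cj g V) = P.map (MulAut.conj g).toMonoidHom := (pof_cj g V).symm
  have hHeq : Pof V ⊔ Pof (cj g V) = H := by rw [hPeq]
  refine ⟨?_, fun w hw hw1 => hp.existsUnique_conj hw hw1, ?_, ?_, hPQ, ?_, ?_, ?_⟩
  · exact hp.le_symm.trans (qof_cj g V).ge
  · exact hHeq ▸ hp.le_normalizer_W
  · intro hN
    refine ⟨F, hF, hFt, hcard, ?_⟩
    have key : ∀ K : Subgroup G, Pof V ⊔ Pof (cj g V) = K →
        ∀ _ : ((Subgroup.centralizer (W : Set G)).subgroupOf K).Normal,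
          Nonempty (↥K ⧸ (Subgroup.centralizer (W : Set G)).subgroupOf K ≃*
            Matrix.SpecialLinearGroup (Fin 2) F) := by
      rintro K rfl hK
      exact ⟨(QuotientGroup.quotientMulEquivOfEq hρk.symm).trans
        (QuotientGroup.quotientKerEquivOfSurjective ρ hρs)⟩
    exact key H hHeq hN
  all_goals
    have hmemP : ∀ {x : G}, x ∈ Q → x ∈ Pof V := fun {x} hx => hPQ.symm ▸ hx
    have hcomm_ge : ∀ v ∈ V, ∃ a b : ↥Q, v = ⁅(a : G), (b : G)⁆ := by
      intro v hv
      obtain ⟨B, hB⟩ := hp.exists_opp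
      obtain ⟨u, hu, hu1⟩ := hp.exists_ne_one
      obtain ⟨b, hb, he⟩ := hp.surj_left hB hu hu1 hv
      exact ⟨⟨b, (hB.le hb).1⟩, ⟨u, hp.le hu⟩, he.symm⟩
    have hcomm_le : ∀ x ∈ commutator ↥Q, (x : G) ∈ V := by
      have : commutator ↥Q ≤ V.subgroupOf Q := by
        rw [commutator_def, Subgroup.commutator_le]
        intro a _ b _
        exact T.commElem_mem (hmemP a.2) (hmemP b.2)
      exact fun x hx => this hx
    have hcomm_sup : ∀ v (hv : v ∈ V), (⟨v, T.le_qof hv⟩ : ↥Q) ∈ commutator ↥Q := by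
      intro v hv
      obtain ⟨a, b, he⟩ := hcomm_ge v hv
      have : (⟨v, T.le_qof hv⟩ : ↥Q) = ⁅a, b⁆ := Subtype.ext he
      rw [this]
      exact Subgroup.commutator_mem_commutator trivial trivial
  · refine le_antisymm ?_ fun v hv =>
      ⟨_, Cfsg.Agent.Lib.PGroups.commutator_le_frattini T.isPGroup_qof (hcomm_sup v hv), rfl⟩
    rintro _ ⟨x, hx, rfl⟩
    haveI : (V.subgroupOf Q).Normal :=
      (Subgroup.normal_subgroupOf_iff_le_normalizer T.le_qof).mpr T.qof_le
    exact Cfsg.Agent.Lib.PGroups.frattini_le_of_pow_commutator (p := 2) (V.subgroupOf Q)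
      (fun y => by
        show ((y ^ 2 : ↥Q) : G) ∈ V
        rw [pow_two]
        exact T.sq_mem (hmemP y.2))
      (fun y hy => hcomm_le y hy) hx
  · refine le_antisymm ?_ fun v hv => ⟨⟨v, T.le_qof hv⟩, Subgroup.mem_center_iff.mpr fun y =>
      Subtype.ext (T.pof_comm (hmemP y.2) hv), rfl⟩
    rintro _ ⟨x, hx, rfl⟩
    exact T.center_pof (hmemP x.2) fun y hy =>
      (congrArg Subtype.val (Subgroup.mem_center_iff.mp hx (⟨y, hy.1⟩ : ↥Q))).symm
  · refine le_antisymm ?_ fun v hv => ⟨_, hcomm_sup v hv, rfl⟩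
    rintro _ ⟨x, hx, rfl⟩
    exact hcomm_le x hx

end Cfsg.Agent.S1786
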