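import Cfsg.Statements.S1850
import Cfsg.Agent.Lib.QTSetup.Char2

set_option autoImplicit false
open Cfsg

namespace Cfsg.Agent.S1850

/-- Let G be a non-abelian finite simple QTKE-group and T a Sylow 2-subgroup of G. If U is a nontrivial 2-subgroup of G with U ∩ Z(T) ≠ 1, then F*(N_G(U)) = O₂(N_G(U)). -/
theorem result {G : Type*} [Group G] [Finite G] [IsSimpleGroup G]
    (hG : ¬ IsMulCommutative G) (hQ : Cfsg.IsQTKE G) (T : Sylow 2 G) (U : Subgroup G)
    (hU : IsPGroup 2 ↥U) (hZ : U ⊓ ((T : Subgroup G) ⊓ Subgroup.centralizer ((T : Subgroup G) : Set G)) ≠ ⊥) :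
    Subgroup.normalizer (U : Set G) ∈ Cfsg.calHe G := by
  haveI : Fact (Nat.Prime 2) := ⟨Nat.prime_two⟩
  obtain ⟨⟨z₀, hz₀U, hz₀T, hz₀C⟩, hz₀1⟩ := (Subgroup.ne_bot_iff_exists_ne_one).1 hZ
  have hne : z₀ ≠ 1 := fun h => hz₀1 (Subtype.ext h)
  set Z₀ := Subgroup.zpowers z₀ with hZ₀
  have hZU : Z₀ ≤ U := Subgroup.zpowers_le.2 hz₀U
  have hZp : IsPGroup 2 ↥Z₀ := hU.to_le hZU
  have hTN : (T : Subgroup G) ≤ Subgroup.centralizer (Z₀ : Set G) := by
    rw [Subgroup.le_centralizer_iff, hZ₀, Subgroup.zpowers_le]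
    exact hz₀C
  -- `C(z₀)` is normal in the 2-local `N(⟨z₀⟩)`
  have hloc : Cfsg.IsTwoLocal (Subgroup.normalizer (Z₀ : Set G)) :=
    ⟨Z₀, hZp, by rw [hZ₀, Ne, Subgroup.zpowers_eq_bot]; exact hne, rfl⟩
  have hM := hQ.2.2 _ hloc ⟨T, hTN.trans (Subgroup.centralizer_le_normalizer _)⟩
  have hgood : Lib.QTSetup.Char2.Good 2 (Subgroup.centralizer (Z₀ : Set G)) := by
    refine Lib.QTSetup.Char2.good_of_normal (Subgroup.centralizer_le_normalizer _) ?_
      (Lib.QTSetup.Char2.good_iff.2 hM)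
    intro g hg
    have key : ∀ a ∈ Subgroup.normalizer (Z₀ : Set G), ∀ c ∈ Subgroup.centralizer (Z₀ : Set G),
        a * c * a⁻¹ ∈ Subgroup.centralizer (Z₀ : Set G) := by
      intro a ha c hc
      refine Subgroup.mem_centralizer_iff.2 fun u hu => ?_
      have h1 : a⁻¹ * u * a ∈ Z₀ := by
        have := (Subgroup.mem_normalizer_iff.1 (inv_mem ha) u).1 hu
        simpa using this
      have h2 := Subgroup.mem_centralizer_iff.1 hc _ h1
      calc u * (a * c * a⁻¹) = a * (a⁻¹ * u * a * c) * a⁻¹ := by group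
        _ = _ := by rw [h2]; group
    refine Subgroup.mem_normalizer_iff.2 fun c => ⟨key g hg c, fun hc => ?_⟩
    have := key _ (inv_mem hg) _ hc
    simpa [mul_assoc] using this
  exact Lib.Balance.centralizer_pCore_le_iff.1 (Lib.QTSetup.Char2.good_iff.1
    (Lib.QTSetup.Char2.good_normalizer hU (Lib.QTSetup.Char2.good_centralizer hU Z₀ hZU hgood)))

end Cfsg.Agent.S1850
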