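import Cfsg.Statements.S1851
import Cfsg.Agent.Lib.QTSetup.Char2

set_option autoImplicit false
open Cfsg

namespace Cfsg.Agent.S1851

/-- Let G be a non-abelian finite simple QTKE-group and T a Sylow 2-subgroup of G, and let L be a member of ℒ_f(G, T) (a member of ℒ(G, T) that lies in 𝒳 — L ≠ 1, L = O²(L), F*(L) = O₂(L) — and acts nontrivially on Ω₁(Z(O₂(L)))). Then (1) every member K of ℒ(G, T) containing L is again in ℒ_f(G, T) (a sharper form of (1) also compares the modules [Ω₁(Z(R)), L] and [Ω₁(Z(R')), K] for suitable 2-subgroups R, R'; that comparison is not included); and (2) if L is maximal under inclusion among the members of ℒ_f(G, T), then L is a maximal member of ℒ(G, T), hence a member of ℒ_f*(G, T). -/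
theorem result {G : Type*} [Group G] [Finite G] [IsSimpleGroup G]
    (hG : ¬ IsMulCommutative G) (hQ : Cfsg.IsQTKE G) (T : Sylow 2 G) (L : Subgroup G)
    (hL : L ∈ Cfsg.calLf (T : Subgroup G)) :
    (∀ K ∈ Cfsg.calL (T : Subgroup G), L ≤ K → K ∈ Cfsg.calLf (T : Subgroup G)) ∧
    ((∀ K ∈ Cfsg.calLf (T : Subgroup G), L ≤ K → K = L) → L ∈ Cfsg.calLfMax (T : Subgroup G)) := by
  haveI : Fact (Nat.Prime 2) := ⟨Nat.prime_two⟩
  have h1 : ∀ K ∈ Cfsg.calL (T : Subgroup G), L ≤ K → K ∈ Cfsg.calLf (T : Subgroup G) := by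
    intro K hK hLK
    obtain ⟨hLT, ⟨hLne, hLodd, hLhe⟩, hLV⟩ := hL
    set H := K ⊔ (T : Subgroup G) with hH
    obtain ⟨⟨-, hKperf', hKsn, -⟩, ⟨PH, hP⟩, hH2⟩ := id hK
    have hKH : K ≤ H := le_sup_left
    have hTH : (T : Subgroup G) ≤ H := le_sup_right
    -- `H` has characteristic 2
    set Q := Lib.QTSetup.Char2.coreP 2 H with hQdef
    have hQne : Q ≠ ⊥ := fun h => hH2 ((Subgroup.map_eq_bot_iff_of_injective _ H.subtype_injective).1 h)
    set M := Subgroup.normalizer (Q : Set G) with hMdef
    have hHM : H ≤ M := Lib.QTSetup.Char2.le_normalizer_coreP H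
    have hMgood : Lib.QTSetup.Char2.Good 2 M := Lib.QTSetup.Char2.good_iff.2
      (hQ.2.2 M ⟨Q, Lib.QTSetup.Char2.coreP_isPGroup H, hQne, rfl⟩ ⟨T, hTH.trans hHM⟩)
    have hOM : Lib.QTSetup.Char2.coreP 2 M ≤ (T : Subgroup G) := by
      rintro _ ⟨a, ha, rfl⟩
      exact Lib.Cores.pCore_le_sylow (T.subtype (hTH.trans hHM)) ha
    have hHgood : Lib.QTSetup.Char2.Good 2 H := by
      intro x hx hcop hc
      refine hMgood x (hHM hx) hcop (Subgroup.centralizer_le ?_ hc)
      exact Lib.QTSetup.Char2.le_coreP (hOM.trans hTH)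
        (hHM.trans (Lib.QTSetup.Char2.le_normalizer_coreP M)) (Lib.QTSetup.Char2.coreP_isPGroup M)
    have hKgood : Lib.QTSetup.Char2.Good 2 K := Lib.QTSetup.Char2.good_of_subnormal hKH hKsn hHgood
    -- `K = O²(K)`
    have hKperf : ⁅K, K⁆ = K := by
      have h := congrArg (Subgroup.map H.subtype) hKperf'
      rwa [Subgroup.map_commutator, Subgroup.map_subgroupOf_eq_of_le hKH] at h
    have hKodd : Cfsg.oddGenerated K = K := by
      refine le_antisymm ((Subgroup.closure_le _).2 fun g hg => hg.1) ?_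
      refine Lib.Balance.le_of_forall_coprime (p := 2) ?_ (fun x hx hcop =>
        Subgroup.subset_closure ⟨hx, Nat.coprime_two_right.1 hcop⟩) (by rw [hKperf]; exact le_sup_left)
      intro g hg
      have key : ∀ a ∈ K, (Cfsg.oddGenerated K).map (MulAut.conj a).toMonoidHom ≤ Cfsg.oddGenerated K := by
        intro a ha
        rw [Cfsg.oddGenerated, MonoidHom.map_closure, Subgroup.closure_le]
        rintro _ ⟨c, ⟨hcK, hco⟩, rfl⟩
        refine Subgroup.subset_closure ⟨K.mul_mem (K.mul_mem ha hcK) (K.inv_mem ha), ?_⟩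
        rw [orderOf_injective (MulAut.conj a).toMonoidHom (MulAut.conj a).injective c]
        exact hco
      exact Subgroup.mem_normalizer_iff_map_conj_eq.2 (Subgroup.eq_of_le_of_card_ge (key g hg)
        (le_of_eq (Subgroup.card_map_of_injective (MulAut.conj g).injective).symm))
    have hKne : K ≠ ⊥ := fun h => hLne (le_bot_iff.1 (h ▸ hLK))
    refine ⟨hK,
      ⟨hKne, hKodd, Lib.Balance.centralizer_pCore_le_iff.1 (Lib.QTSetup.Char2.good_iff.1 hKgood)⟩, ?_⟩
    -- the action on the internal module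
    intro hKV
    apply hLV
    set R : Subgroup G := Cfsg.pCoreTwoOf K with hRdef
    have hRT : R ≤ (T : Subgroup G) := by
      rintro _ ⟨a, ha, rfl⟩
      have hsn : (R.subgroupOf H).IsSubnormal := by
        have h2 : ((Cfsg.pCore 2 ↥(K.subgroupOf H)).map (K.subgroupOf H).subtype).IsSubnormal :=
          (Subgroup.Normal.isSubnormal inferInstance).trans' hKsn
        convert h2 using 1
        refine Subgroup.map_injective H.subtype_injective ?_
        have hRH' : R ≤ H := (Subgroup.map_subtype_le _).trans hKH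
        rw [Subgroup.map_subgroupOf_eq_of_le hRH', hRdef,
          Cfsg.pCoreTwoOf, ← Lib.Cores.map_pCore_equiv (Subgroup.subgroupOfEquivOfLe hKH),
          Subgroup.map_map, Subgroup.map_map]
        rfl
      have h3 : R.subgroupOf H ≤ Cfsg.pCore 2 ↥H := Lib.Cores.IsSubnormal.le_pCore hsn
        (((Lib.Cores.pCore_isPGroup (G := ↥K) 2).map _).comap_subtype)
      have h4 : (⟨(a : G), hKH a.2⟩ : ↥H) ∈ (T : Subgroup G).subgroupOf H :=
        hP ▸ Lib.Cores.pCore_le_sylow PH (h3 (show (a : G) ∈ R from ⟨a, ha, rfl⟩))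
      exact h4
    set O := Cfsg.pCoreTwoOf L with hOdef
    set W := Cfsg.omegaOne 2 (O ⊓ Subgroup.centralizer (O : Set G)) with hWdef
    have hWO : W ≤ O := (Lib.PGroups.omegaOne_le 2 _).trans inf_le_left
    have hWC : W ≤ Subgroup.centralizer (O : Set G) := (Lib.PGroups.omegaOne_le 2 _).trans inf_le_right
    haveI : IsMulCommutative W := Subgroup.le_centralizer_iff_isMulCommutative.1
      (hWC.trans (Subgroup.centralizer_le hWO))
    have hOp : IsPGroup 2 ↥O := Lib.QTSetup.Char2.coreP_isPGroup L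
    have hRp : IsPGroup 2 ↥R := Lib.QTSetup.Char2.coreP_isPGroup K
    -- `T` normalizes `L`
    have hLn : R ≤ Subgroup.normalizer (L : Set G) := by
      have hRH : R ≤ L ⊔ (T : Subgroup G) := hRT.trans le_sup_right
      set S := L ⊔ R with hSdef
      have hSH : S ≤ L ⊔ (T : Subgroup G) := sup_le le_sup_left hRH
      have hLsn : (L.subgroupOf S).IsSubnormal := by
        have h := hLT.1.2.2.1.comap (Subgroup.inclusion hSH)
        convert h using 1
        ext a
        rfl
      have hLR : L ≤ Subgroup.normalizer (R : Set G) :=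
        hLK.trans (Lib.QTSetup.Char2.le_normalizer_coreP K)
      have hidx : ∃ k, L.relIndex S = 2 ^ k := by
        obtain ⟨k, hk⟩ := IsPGroup.iff_card.1 hRp
        have h1 : L.relIndex S ∣ 2 ^ k := by
          haveI : (R.subgroupOf S).Normal :=
            Subgroup.normal_subgroupOf_of_le_normalizer (sup_le hLR Subgroup.le_normalizer)
          have h2 := Lib.Cores.card_sup_dvd_mul (L.subgroupOf S) (R.subgroupOf S)
          rw [← Subgroup.subgroupOf_sup le_sup_left le_sup_right, Subgroup.subgroupOf_self, Subgroup.card_top,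
            Nat.card_congr (Subgroup.subgroupOfEquivOfLe (le_sup_left : L ≤ S)).toEquiv,
            Nat.card_congr (Subgroup.subgroupOfEquivOfLe (le_sup_right : R ≤ S)).toEquiv,
            ← Subgroup.card_mul_index (L.subgroupOf S),
            Nat.card_congr (Subgroup.subgroupOfEquivOfLe (le_sup_left : L ≤ S)).toEquiv, hk] at h2
          exact Nat.dvd_of_mul_dvd_mul_left Nat.card_pos h2
        obtain ⟨j, -, hj⟩ := (Nat.dvd_prime_pow Nat.prime_two).1 h1
        exact ⟨j, hj⟩
      -- elements of odd order of `S` lie in `L`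
      have hoddmem : ∀ g ∈ S, Odd (orderOf g) → g ∈ L := by
        have key : ∀ B : Subgroup ↥S, B.IsSubnormal → (∃ k, B.index = 2 ^ k) →
            ∀ g : ↥S, Odd (orderOf g) → g ∈ B := by
          intro B hB
          induction hB with
          | top => exact fun _ _ _ => Subgroup.mem_top _
          | step N B hle _ hn ih =>
            rintro ⟨k, hk⟩ g hg
            have hrel := Subgroup.relIndex_mul_index hle
            have hgB : g ∈ B := ih (by
              obtain ⟨j, -, hj⟩ := (Nat.dvd_prime_pow Nat.prime_two).1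
                (show B.index ∣ 2 ^ k from hk ▸ Dvd.intro_left _ hrel)
              exact ⟨j, hj⟩) g hg
            have h1 : (QuotientGroup.mk' (N.subgroupOf B)) ⟨g, hgB⟩ = 1 := by
              rw [← orderOf_eq_one_iff]
              refine Nat.eq_one_of_dvd_coprimes (a := orderOf g) (b := 2 ^ k) ?_ ?_ ?_
              · exact (Nat.coprime_two_right.2 hg).pow_right k
              · have := orderOf_map_dvd (QuotientGroup.mk' (N.subgroupOf B)) (⟨g, hgB⟩ : ↥B)
                rwa [Subgroup.orderOf_mk] at this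
              · refine (orderOf_dvd_natCard _).trans ?_
                rw [← Subgroup.index_eq_card, ← hk, ← hrel]
                exact dvd_mul_right _ _
            exact (QuotientGroup.eq_one_iff (N := N.subgroupOf B) (⟨g, hgB⟩ : ↥B)).1 h1
        intro g hg hgo
        exact key (L.subgroupOf S) hLsn hidx ⟨g, hg⟩ (by rwa [Subgroup.orderOf_mk])
      intro r hr
      refine Subgroup.mem_normalizer_iff_map_conj_eq.2 (Subgroup.eq_of_le_of_card_ge ?_
        (le_of_eq (Subgroup.card_map_of_injective (MulAut.conj r).injective).symm))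
      conv_lhs => rw [← hLodd, Cfsg.oddGenerated, MonoidHom.map_closure]
      rw [Subgroup.closure_le]
      rintro _ ⟨c, ⟨hcL, hco⟩, rfl⟩
      refine hoddmem _ (S.mul_mem (S.mul_mem ((le_sup_right : R ≤ S) hr) ((le_sup_left : L ≤ S) hcL))
        (S.inv_mem ((le_sup_right : R ≤ S) hr))) ?_
      show Odd (orderOf (MulAut.conj r c))
      rw [MulEquiv.orderOf_eq]
      exact hco
    have hNO : Subgroup.normalizer (L : Set G) ≤ Subgroup.normalizer (O : Set G) :=
      Lib.QTSetup.Char2.normalizer_le_normalizer_coreP L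
    have hNW : Subgroup.normalizer (O : Set G) ≤ Subgroup.normalizer (W : Set G) := by
      intro g hg
      refine Subgroup.mem_normalizer_iff_map_conj_eq.2 (Subgroup.eq_of_le_of_card_ge ?_
        (le_of_eq (Subgroup.card_map_of_injective (MulAut.conj g).injective).symm))
      rw [hWdef, Cfsg.omegaOne, MonoidHom.map_closure, Subgroup.closure_le]
      rintro _ ⟨c, ⟨⟨hcO, hcC⟩, hc2⟩, rfl⟩
      refine Subgroup.subset_closure ⟨⟨(Subgroup.mem_normalizer_iff.1 hg c).1 hcO,
        Subgroup.mem_centralizer_iff.2 fun u hu => ?_⟩, ?_⟩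
      · show u * (g * c * g⁻¹) = g * c * g⁻¹ * u
        have h1 : g⁻¹ * u * g ∈ O := by
          have := (Subgroup.mem_normalizer_iff.1 (inv_mem hg) u).1 hu
          simpa using this
        have h2 := Subgroup.mem_centralizer_iff.1 hcC _ h1
        calc u * (g * c * g⁻¹) = g * (g⁻¹ * u * g * c) * g⁻¹ := by group
          _ = _ := by rw [h2]; group
      · show (g * c * g⁻¹) ^ 2 = 1
        rw [conj_pow, hc2, mul_one, mul_inv_cancel]
    have hWfix : W ⊓ Subgroup.centralizer (R : Set G) ≤ Subgroup.centralizer (L : Set G) := by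
      rintro w ⟨hwW, hwR⟩
      have hwK : w ∈ K := hLK ((Subgroup.map_subtype_le _) (hWO hwW))
      have hwRmem : w ∈ R := by
        refine ⟨⟨w, hwK⟩, Lib.QTSetup.Char2.good_iff.1 hKgood (Subgroup.mem_centralizer_iff.2 fun b hb => ?_), rfl⟩
        exact Subtype.ext (Subgroup.mem_centralizer_iff.1 hwR b ⟨b, hb, rfl⟩)
      have hw2 : w ^ 2 = 1 := ((Lib.PGroups.mem_omegaOne_iff_of_comm (by
        exact Subgroup.le_centralizer_iff_isMulCommutative.1
          (inf_le_right.trans (Subgroup.centralizer_le inf_le_left)))).1 hwW).2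
      have hwV : w ∈ Cfsg.omegaOne 2 (R ⊓ Subgroup.centralizer (R : Set G)) :=
        Lib.PGroups.mem_omegaOne_of_pow ⟨hwRmem, hwR⟩ hw2
      exact Subgroup.centralizer_le hLK (Subgroup.commutator_eq_bot_iff_le_centralizer.1 hKV hwV)
    have hmain : L ≤ Subgroup.centralizer (W : Set G) := by
      rw [← hLodd, Cfsg.oddGenerated, Subgroup.closure_le]
      rintro x ⟨hxL, hxo⟩
      refine Lib.QTSetup.Char2.centralizes_module (R := R) (hOp.to_le hWO) hRp
        (hLn.trans (hNO.trans hNW)) (hNW (hNO (Subgroup.le_normalizer hxL))) (Nat.coprime_two_right.2 hxo)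
        (fun r hr => ?_) (fun w hw => Subgroup.mem_centralizer_singleton_iff.2
          (Subgroup.mem_centralizer_iff.1 (hWfix hw) x hxL).symm)
      refine Subgroup.le_centralizer_iff.1 hWC ?_
      have hmem : r * x * r⁻¹ * x⁻¹ ∈ L ⊓ R := by
        refine ⟨L.mul_mem ((Subgroup.mem_normalizer_iff.1 (hLn hr) x).1 hxL) (L.inv_mem hxL), ?_⟩
        have h5 := (Subgroup.mem_normalizer_iff.1 (Lib.QTSetup.Char2.le_normalizer_coreP K (hLK hxL)) _).1 (R.inv_mem hr)
        have h6 := R.mul_mem hr h5
        simpa [mul_assoc] using h6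
      refine Lib.QTSetup.Char2.le_coreP inf_le_left ?_ (hRp.to_le inf_le_right) hmem
      have hKR : K ≤ Subgroup.normalizer (R : Set G) := Lib.QTSetup.Char2.le_normalizer_coreP K
      intro l hl
      refine Subgroup.mem_normalizer_iff.2 fun g => ?_
      rw [Subgroup.mem_inf, Subgroup.mem_inf, ← Subgroup.mem_normalizer_iff.1 (Subgroup.le_normalizer hl) g,
        ← Subgroup.mem_normalizer_iff.1 (hKR (hLK hl)) g]
    exact Subgroup.commutator_eq_bot_iff_le_centralizer.2 (Subgroup.le_centralizer_iff.1 hmain)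
  refine ⟨h1, fun hmax => ⟨⟨hL.1, fun K hK hle => hmax K (h1 K hK hle) hle⟩, hL.2⟩⟩

end Cfsg.Agent.S1851
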