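import Cfsg.Statements.S1892
import Cfsg.Agent.Lib.PSolvable.HallHigman
open Cfsg
open scoped commutatorElement
set_option autoImplicit false

set_option autoImplicit false
open Cfsg
open scoped commutatorElement

namespace Cfsg.Agent.S1892

/-- Let S be a finite p-solvable group with no nontrivial normal subgroup of order prime to p, A a p-subgroup of S, and Q a nontrivial A-invariant subgroup of order prime to p with [A, Q] = Q. Then the commutator [O_p(S), A, Q] is nontrivial. -/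
theorem result {S : Type*} [Group S] [Finite S] {p : ℕ} [Fact p.Prime]
    (hS : Cfsg.IsPSolvable p S) (hred : Cfsg.pPrimeCore p S = ⊥)
    (A Q : Subgroup S) (hA : IsPGroup p A) (hQ : ¬ p ∣ Nat.card Q) (hQ1 : Q ≠ ⊥)
    (hinv : ∀ a ∈ A, ∀ x ∈ Q, a * x * a⁻¹ ∈ Q) (hAQ : ⁅A, Q⁆ = Q) :
    ⁅⁅Cfsg.pCore p S, A⁆, Q⁆ ≠ ⊥ := by
  intro h0
  haveI hN' : (Cfsg.pCore p S).Normal := inferInstance
  set P := Cfsg.pCore p S with hPdef
  set N := ⁅P, A⁆ with hNdef
  have hNP : N ≤ P := Subgroup.commutator_le_left P A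
  have hcomm : ∀ n ∈ N, ∀ q ∈ Q, q * n = n * q := by
    intro n hn q hq
    have : ⁅n, q⁆ ∈ (⊥ : Subgroup S) := h0 ▸ Subgroup.commutator_mem_commutator hn hq
    exact (commutatorElement_eq_one_iff_mul_comm.mp (Subgroup.mem_bot.mp this)).symm
  have hNA : ∀ a ∈ A, ∀ x ∈ P, a * x * a⁻¹ * x⁻¹ ∈ N := by
    intro a ha x hx
    rw [hNdef, Subgroup.commutator_comm]
    exact Subgroup.commutator_mem_commutator ha hx
  have key : ∀ g ∈ ⁅A, Q⁆, g ∈ Q ∧ ∀ x ∈ P, g * x * g⁻¹ * x⁻¹ ∈ N := by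
    intro g hg
    induction hg using Subgroup.closure_induction with
    | mem g hg =>
      obtain ⟨a, ha, q, hq, rfl⟩ := hg
      refine ⟨hAQ ▸ Subgroup.commutator_mem_commutator ha hq, fun x hx => ?_⟩
      set y := q⁻¹ * x * q with hy
      have hyP : y ∈ P := by simpa [hy] using hN'.conj_mem x hx q⁻¹
      set n1 := a⁻¹ * y * a * y⁻¹ with hn1d
      have hn1 : n1 ∈ N := by simpa [hn1d] using hNA a⁻¹ (inv_mem ha) y hyP
      have hn1' : a * n1 * a⁻¹ ∈ N := by
        have := N.mul_mem (hNA a ha n1 (hNP hn1)) hn1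
        simpa using this
      have hq1 : q * n1 * q⁻¹ = n1 := by rw [hcomm n1 hn1 q hq]; simp
      have e : ⁅a, q⁆ * x * ⁅a, q⁆⁻¹ * x⁻¹
          = (a * n1 * a⁻¹) * (a * x * a⁻¹ * x⁻¹) := by
        have e1 : ⁅a, q⁆ * x * ⁅a, q⁆⁻¹ = a * (q * (n1 * y) * q⁻¹) * a⁻¹ := by
          simp only [hn1d, hy, commutatorElement_def]; group
        have e2 : q * (n1 * y) * q⁻¹ = n1 * x := by
          calc q * (n1 * y) * q⁻¹ = (q * n1 * q⁻¹) * (q * y * q⁻¹) := by group
            _ = n1 * x := by rw [hq1, hy]; group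
        rw [e1, e2]; group
      rw [e]
      exact N.mul_mem hn1' (hNA a ha x hx)
    | one => exact ⟨one_mem _, fun x _ => by simp⟩
    | mul g h _ _ ihg ihh =>
      refine ⟨mul_mem ihg.1 ihh.1, fun x hx => ?_⟩
      have hn := ihh.2 x hx
      have hgn : g * (h * x * h⁻¹ * x⁻¹) * g⁻¹ = h * x * h⁻¹ * x⁻¹ := by
        rw [hcomm _ hn g ihg.1]; simp
      have e : g * h * x * (g * h)⁻¹ * x⁻¹
          = (g * (h * x * h⁻¹ * x⁻¹) * g⁻¹) * (g * x * g⁻¹ * x⁻¹) := by group
      rw [e, hgn]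
      exact mul_mem hn (ihg.2 x hx)
    | inv g _ ihg =>
      refine ⟨inv_mem ihg.1, fun x hx => ?_⟩
      have hyP : g⁻¹ * x * g ∈ P := by simpa using hN'.conj_mem x hx g⁻¹
      have hn := ihg.2 _ hyP
      have e : g * (g⁻¹ * x * g) * g⁻¹ * (g⁻¹ * x * g)⁻¹ = x * (g⁻¹ * x⁻¹ * g) := by group
      rw [e] at hn
      have e2 : g⁻¹ * x * g⁻¹⁻¹ * x⁻¹ = (x * (g⁻¹ * x⁻¹ * g))⁻¹ := by group
      rw [e2]
      exact inv_mem hn
  have hQC : Q ≤ Subgroup.centralizer (P : Set S) := by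
    intro q hq
    rw [Subgroup.mem_centralizer_iff]
    intro x hx
    have hn : q * x * q⁻¹ * x⁻¹ ∈ N := (key q (hAQ.symm ▸ hq)).2 x hx
    set n := q * x * q⁻¹ * x⁻¹ with hnd
    have hk : ∀ k : ℕ, q ^ k * x * (q ^ k)⁻¹ = n ^ k * x := by
      intro k
      induction k with
      | zero => simp
      | succ k ih =>
        calc q ^ (k + 1) * x * (q ^ (k + 1))⁻¹ = q * (q ^ k * x * (q ^ k)⁻¹) * q⁻¹ := by
              rw [pow_succ']; group
          _ = (q * n ^ k * q⁻¹) * (q * x * q⁻¹) := by rw [ih]; group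
          _ = n ^ k * (n * x) := by
              rw [hcomm _ (pow_mem hn k) q hq, mul_inv_cancel_right,
                show n * x = q * x * q⁻¹ from inv_mul_cancel_right _ _]
          _ = n ^ (k + 1) * x := by rw [pow_succ]; exact (mul_assoc _ _ _).symm
    have h1 : n ^ orderOf q = 1 := by
      have := hk (orderOf q)
      rw [pow_orderOf_eq_one] at this
      simpa using this
    have hPp : IsPGroup p P := Lib.PSolvable.isPGroup_pCore
    obtain ⟨m, hm⟩ := hPp ⟨n, hNP hn⟩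
    have hm' : n ^ p ^ m = 1 := congrArg Subtype.val hm
    have hcop : Nat.gcd (orderOf q) (p ^ m) = 1 := by
      apply Nat.Coprime.pow_right
      rw [Nat.coprime_comm, (Fact.out : p.Prime).coprime_iff_not_dvd]
      exact fun hd => hQ (hd.trans (Q.orderOf_dvd_natCard hq))
    have hn1 : n = 1 := by
      have := (pow_gcd_eq_one (m := orderOf q) (n := p ^ m)).mpr ⟨h1, hm'⟩
      rwa [hcop, pow_one] at this
    have : q * x * q⁻¹ * x⁻¹ = 1 := hn1
    exact ((commutatorElement_eq_one_iff_mul_comm).mp (by rwa [commutatorElement_def])).symm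
  have hQp : IsPGroup p Q :=
    (Lib.PSolvable.isPGroup_pCore (p := p) (G := S)).to_le
      (hQC.trans (Lib.PSolvable.centralizer_pCore_le hS hred))
  obtain ⟨k, hk⟩ := IsPGroup.iff_card.mp hQp
  cases k with
  | zero => exact hQ1 (Subgroup.card_eq_one.mp (by simpa using hk))
  | succ k => exact hQ (hk ▸ dvd_pow_self p (Nat.succ_ne_zero k))

end Cfsg.Agent.S1892
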