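import Cfsg.Statements.S1893
import Cfsg.Agent.Lib.Tech42.SCNHall

set_option autoImplicit false
open Cfsg
open scoped commutatorElement

namespace Cfsg.Agent.S1893

/-- Let S be a finite solvable group, π a set of primes containing neither 2 nor 3, H a Hall π-subgroup of S, and A a self-centralizing normal subgroup of the Fitting subgroup F(H). Then C_S(A) = A × D for a normal subgroup D of C_S(A) whose order has no prime divisor in π. -/
theorem result {S : Type*} [Group S] [Finite S] [Group.IsSolvable S]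
    (π : Set ℕ) (h2 : 2 ∉ π) (h3 : 3 ∉ π) (H : Subgroup S) (hH : Cfsg.IsPiHall π H)
    (A : Subgroup S) (hA : Cfsg.IsSCN ((Cfsg.fittingSubgroup H).map H.subtype) A) :
    ∃ D : Subgroup S, D ≤ Subgroup.centralizer (A : Set S) ∧
      (∀ c ∈ Subgroup.centralizer (A : Set S), ∀ d ∈ D, c * d * c⁻¹ ∈ D) ∧
      A ⊓ D = ⊥ ∧ A ⊔ D = Subgroup.centralizer (A : Set S) ∧
      ∀ q : ℕ, q.Prime → q ∣ Nat.card D → q ∉ π := by
  classical
  obtain ⟨hAF, hFA, hFC⟩ := hA
  have hFH : (Cfsg.fittingSubgroup H).map H.subtype ≤ H := Subgroup.map_subtype_le _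
  have hAH : A ≤ H := hAF.trans hFH
  have hAc : ∀ a ∈ A, a ∈ Subgroup.centralizer (A : Set S) := fun a ha => (hFC.ge ha).2
  have hAC : A ≤ Subgroup.centralizer (A : Set S) := hAc
  set N := Cfsg.piCore πᶜ S with hN
  have hNp := Lib.Cores.piCore_isPiGroup (G := S) πᶜ
  set f := QuotientGroup.mk' N with hf
  haveI : Group.IsSolvable (S ⧸ N) := solvable_of_surjective (f := f) (QuotientGroup.mk'_surjective N)
  have hdis : ∀ u ∈ H, f u = 1 → u = 1 := by
    intro u hu h
    rw [← orderOf_eq_one_iff]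
    refine Nat.eq_one_of_dvd_coprimes
      (Lib.Hall.coprime_of_piGroup (π := π) (a := Nat.card ↥H) (b := Nat.card ↥N) hH.1
        fun r hr hmem hd => hNp r hr hd hmem) (Subgroup.orderOf_dvd_natCard _ hu) ?_
    exact Subgroup.orderOf_dvd_natCard _ ((QuotientGroup.eq_one_iff u).1 h)
  have h5 : ∀ r : ℕ, r.Prime → r ∈ π → 5 ≤ r := by
    intro r hr hmem
    have h2' : r ≠ 2 := fun h => h2 (h ▸ hmem)
    have h3' : r ≠ 3 := fun h => h3 (h ▸ hmem)
    have h4' : r ≠ 4 := fun h => by subst h; exact absurd hr (by norm_num)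
    have := hr.two_le
    omega
  -- `F(S/N)` is covered by `F(H)`
  have hcore : ∀ r : ℕ, r.Prime → Cfsg.pCore r (S ⧸ N) ≠ ⊥ → r ∈ π := by
    intro r hr hne
    by_contra hmem
    haveI := Fact.mk hr
    refine hne (le_bot_iff.1 ?_)
    have hle : (Cfsg.pCore r (S ⧸ N)).comap f ≤ N := by
      refine Lib.Cores.le_piCore (π := πᶜ) fun s hs hd => ?_
      by_contra hs'
      have hcard : Nat.card ↥((Cfsg.pCore r (S ⧸ N)).comap f) =
          Nat.card ↥(Cfsg.pCore r (S ⧸ N)) * Nat.card ↥N := by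
        have h1 := Subgroup.card_mul_index ((Cfsg.pCore r (S ⧸ N)).comap f)
        have h2 := Subgroup.card_mul_index (Cfsg.pCore r (S ⧸ N))
        have h3 := Subgroup.card_mul_index N
        rw [Subgroup.index_comap_of_surjective _ (QuotientGroup.mk'_surjective N)] at h1
        rw [← Subgroup.index_eq_card] at h2
        refine Nat.eq_of_mul_eq_mul_right (Nat.pos_of_ne_zero
          (Subgroup.index_ne_zero_of_finite (H := Cfsg.pCore r (S ⧸ N)))) ?_
        rw [h1, ← h3, ← h2]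
        ring
      rw [hcard] at hd
      rcases hs.dvd_mul.1 hd with h | h
      · exact hs' (((Lib.Hall.prime_dvd_pgroup hr hs (Lib.Cores.pCore_isPGroup r) h) : s = r) ▸ hmem)
      · exact hs' (hNp s hs h)
    intro u hu
    obtain ⟨v, rfl⟩ := QuotientGroup.mk'_surjective N u
    exact Subgroup.mem_bot.2 ((QuotientGroup.eq_one_iff v).2 (hle hu))
  have hlift : ∀ r : ℕ, ∀ u ∈ Cfsg.pCore r (S ⧸ N), ∀ [Fact r.Prime], ∃ e ∈ (Cfsg.fittingSubgroup H).map H.subtype, f e = u := by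
    intro r u hu hr
    rcases eq_or_ne (Cfsg.pCore r (S ⧸ N)) ⊥ with hb | hb
    · refine ⟨1, one_mem _, ?_⟩
      rw [hb, Subgroup.mem_bot] at hu
      rw [hu, map_one]
    have hmem := hcore r hr.out hb
    have hle : Cfsg.pCore r (S ⧸ N) ≤ H.map f := by
      have h1 := Lib.Hall.isPiHall_eq_of_le (Lib.Hall.isPiHall_map hH (f := f) (QuotientGroup.mk'_surjective N))
        (M := H.map f ⊔ Cfsg.pCore r (S ⧸ N)) (fun s hs hd => ?_) le_sup_left
      · rw [h1]; exact le_sup_right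
      · rcases hs.dvd_mul.1 (hd.trans (Lib.Hall.card_sup_dvd _ _)) with h | h
        · exact (Lib.Hall.isPiHall_map hH (f := f) (QuotientGroup.mk'_surjective N)).1 s hs h
        · exact (Lib.Hall.prime_dvd_pgroup hr.out hs (Lib.Cores.pCore_isPGroup (G := S ⧸ N) r) h : s = r) ▸ hmem
    obtain ⟨v, hv, hvu⟩ := hle hu
    refine ⟨v, ⟨⟨v, hv⟩, ?_, rfl⟩, hvu⟩
    have hinj : Function.Injective (f.comp H.subtype) :=
      (injective_iff_map_eq_one _).2 fun a ha => Subtype.ext (hdis a a.2 ha)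
    refine Lib.Cores.le_fittingSubgroup (N := (Cfsg.pCore r (S ⧸ N)).comap (f.comp H.subtype)) ?_
      (show f v ∈ Cfsg.pCore r (S ⧸ N) from hvu ▸ hu)
    exact ((Lib.Cores.pCore_isPGroup (G := S ⧸ N) r).comap_of_injective _ hinj).isNilpotent
  -- `π`-elements of `C(A)` lie in `A`
  have hkey : ∀ (q : ℕ) [Fact q.Prime], q ∈ π → ∀ (s : S) (k : ℕ),
      s ∈ Subgroup.centralizer (A : Set S) → orderOf s = q ^ k → s ∈ A := by
    intro q hq hqπ s k hs hsk
    obtain ⟨k', -, hk'⟩ : ∃ i ≤ k, orderOf (f s) = q ^ i :=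
      (Nat.dvd_prime_pow hq.out).1 (hsk ▸ orderOf_map_dvd f s)
    have hquad : ∀ r : ℕ, r.Prime → ⁅⁅Cfsg.pCore r (S ⧸ N), Subgroup.zpowers (f s)⁆, Subgroup.zpowers (f s)⁆ = ⊥ := by
      intro r hr
      haveI := Fact.mk hr
      have h1 : ⁅Cfsg.pCore r (S ⧸ N), Subgroup.zpowers (f s)⁆ ≤ A.map f := by
        rw [Subgroup.commutator_le]
        intro u hu v hv
        rw [← MonoidHom.map_zpowers] at hv
        obtain ⟨t, ht, rfl⟩ := hv
        have htA : ∀ a ∈ A, t * a = a * t := fun a ha =>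
          (Subgroup.mem_centralizer_iff.1 (Subgroup.zpowers_le.2 hs ht) a ha).symm
        obtain ⟨e, he, rfl⟩ := hlift r u hu
        obtain ⟨w, hw, hwe⟩ := hlift r ⁅f e, f t⁆ (by
          rw [commutatorElement_def]
          rw [mul_assoc (f e), mul_assoc (f e)]
          exact Subgroup.mul_mem _ hu (Subgroup.Normal.conj_mem inferInstance _ (Subgroup.inv_mem _ hu) _))
        refine ⟨w, hFC.le ⟨hw, Subgroup.mem_centralizer_iff.2 fun a ha => ?_⟩, hwe⟩
        have hb := (Subgroup.mem_normalizer_iff.1 (hFA he) a).1 ha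
        have hb' := (Subgroup.mem_normalizer_iff.1 (Subgroup.inv_mem _ (hFA he)) a).1 ha
        have h3 : ⁅e, t⁆ * a * ⁅e, t⁆⁻¹ = a := by
          rw [commutatorElement_def]
          calc e * t * e⁻¹ * t⁻¹ * a * (e * t * e⁻¹ * t⁻¹)⁻¹
              = e * (t * (e⁻¹ * (t⁻¹ * a * t) * e⁻¹⁻¹) * t⁻¹) * e⁻¹ := by group
            _ = e * (t * (e⁻¹ * a * e⁻¹⁻¹) * t⁻¹) * e⁻¹ := by
              rw [mul_assoc t⁻¹, ← htA a ha, inv_mul_cancel_left]
            _ = e * (e⁻¹ * a * e⁻¹⁻¹) * e⁻¹ := by rw [htA _ hb', mul_inv_cancel_right]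
            _ = a := by group
        have hmem : a * w * a⁻¹ * w⁻¹ ∈ H :=
          H.mul_mem (H.mul_mem (H.mul_mem (hAH ha) (hFH hw)) (H.inv_mem (hAH ha))) (H.inv_mem (hFH hw))
        refine mul_inv_eq_iff_eq_mul.1 (mul_inv_eq_one.1 (hdis _ hmem ?_))
        rw [map_mul, map_mul, map_mul, map_inv, map_inv, hwe, ← map_commutatorElement, ← map_inv, ← map_inv,
          ← map_mul, ← map_mul, ← map_mul]
        conv_lhs => rw [show a * ⁅e, t⁆ * a⁻¹ * ⁅e, t⁆⁻¹ = a * (⁅e, t⁆ * a * ⁅e, t⁆⁻¹)⁻¹ by group, h3,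
          mul_inv_cancel, map_one]
      rw [Subgroup.commutator_eq_bot_iff_le_centralizer]
      refine h1.trans ?_
      rintro _ ⟨a, ha, rfl⟩
      refine Subgroup.mem_centralizer_iff.2 fun v hv => ?_
      rw [SetLike.mem_coe, ← MonoidHom.map_zpowers] at hv
      obtain ⟨t, ht, rfl⟩ := hv
      rw [← map_mul, ← map_mul, Subgroup.mem_centralizer_iff.1 (Subgroup.zpowers_le.2 hs ht) a ha]
    have hmem : f s ∈ Cfsg.fittingOf (⊤ : Subgroup (S ⧸ N)) :=
      Lib.Tech42.SCNHall.mem_fitting_of_quad (h5 q hq.out hqπ) (fun r hr h => h5 r hr (hcore r hr h)) hk' hquad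
    have hmem' := Lib.OddOrder.Fitting.mem_pCoreOf_of_pow hmem hk'
    rw [Lib.CharP.pCoreOf_top] at hmem'
    obtain ⟨e, he, hes⟩ := hlift q (f s) hmem'
    have heA : e ∈ A := by
      refine hFC.le ⟨he, Subgroup.mem_centralizer_iff.2 fun a ha => ?_⟩
      have hmem2 : a * e * a⁻¹ * e⁻¹ ∈ H :=
        H.mul_mem (H.mul_mem (H.mul_mem (hAH ha) (hFH he)) (H.inv_mem (hAH ha))) (H.inv_mem (hFH he))
      refine mul_inv_eq_iff_eq_mul.1 (mul_inv_eq_one.1 (hdis _ hmem2 ?_))
      rw [map_mul, map_mul, map_mul, map_inv, map_inv, hes, ← map_inv, ← map_inv, ← map_mul, ← map_mul,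
        ← map_mul, Subgroup.mem_centralizer_iff.1 hs a ha]
      simp
    have hcomm : Commute e⁻¹ s := (show Commute e s from Subgroup.mem_centralizer_iff.1 hs e heA).inv_left
    have hn : e⁻¹ * s ∈ N := QuotientGroup.eq.1 hes
    have h1 : e⁻¹ * s = 1 := by
      rw [← orderOf_eq_one_iff]
      refine Nat.eq_one_of_dvd_coprimes (Lib.Hall.coprime_of_piGroup (π := π)
        (a := Nat.card ↥A * q ^ k) (b := Nat.card ↥N) ?_ fun r hr hmem hd => hNp r hr hd hmem)
        ?_ (Subgroup.orderOf_dvd_natCard _ hn)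
      · intro r hr hd
        rcases hr.dvd_mul.1 hd with h | h
        · exact hH.1 r hr (h.trans (Subgroup.card_dvd_of_le hAH))
        · rw [(Nat.prime_dvd_prime_iff_eq hr hq.out).1 (hr.dvd_of_dvd_pow h)]; exact hqπ
      · refine hcomm.orderOf_mul_dvd_lcm.trans (Nat.lcm_dvd ?_ (hsk ▸ dvd_mul_left _ _))
        rw [orderOf_inv]
        exact (Subgroup.orderOf_dvd_natCard _ heA).trans (dvd_mul_right _ _)
    exact (inv_mul_eq_one.1 h1) ▸ heA
  -- the complement
  set C := Subgroup.centralizer (A : Set S) with hC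
  obtain ⟨D, hDC, hDpi, hDi⟩ := Lib.Hall.exists_isPiHallOf πᶜ C
  have hAi : ∀ q : ℕ, q.Prime → q ∈ π → ¬ q ∣ A.relIndex C := by
    intro q hq hqπ hd
    haveI := Fact.mk hq
    obtain ⟨Q⟩ : Nonempty (Sylow q ↥C) := inferInstance
    refine Q.not_dvd_index (hd.trans (Subgroup.index_dvd_of_le fun u hu => ?_))
    obtain ⟨i, hi⟩ := IsPGroup.iff_orderOf.1 Q.isPGroup' ⟨u, hu⟩
    rw [Subgroup.orderOf_mk, ← Subgroup.orderOf_coe] at hi
    exact hkey q hqπ u i u.2 hi
  have hsup : A ⊔ D = C := by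
    refine le_antisymm (sup_le hAC hDC) (Subgroup.relIndex_eq_one.1 ?_)
    by_contra h
    obtain ⟨q, hq, hd⟩ := Nat.exists_prime_and_dvd h
    by_cases hqπ : q ∈ π
    · exact hAi q hq hqπ (hd.trans (Dvd.intro_left _
        (Subgroup.relIndex_mul_relIndex A (A ⊔ D) C le_sup_left (sup_le hAC hDC))))
    · exact hDi q hq hqπ (hd.trans (Dvd.intro_left _
        (Subgroup.relIndex_mul_relIndex D (A ⊔ D) C le_sup_right (sup_le hAC hDC))))
  refine ⟨D, hDC, fun c hc d hd => ?_, ?_, hsup, hDpi⟩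
  · rw [← hsup, sup_comm] at hc
    have hADn : A ≤ Subgroup.normalizer (D : Set S) := fun a ha => Subgroup.centralizer_le_normalizer _
      (Subgroup.mem_centralizer_iff.2 fun x hx => (Subgroup.mem_centralizer_iff.1 (hDC hx) a ha).symm)
    have hN' : D ⊔ A ≤ Subgroup.normalizer (D : Set S) := sup_le Subgroup.le_normalizer hADn
    exact (Subgroup.mem_normalizer_iff.1 (hN' hc) d).1 hd
  · exact Subgroup.inf_eq_bot_of_coprime (Lib.Hall.coprime_of_piGroup (π := π)
      (fun r hr hd => hH.1 r hr (hd.trans (Subgroup.card_dvd_of_le hAH))) fun r hr hmem hd => hDpi r hr hd hmem)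

end Cfsg.Agent.S1893
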