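import Cfsg.Statements.S1894
import Cfsg.Agent.Lib.PGroups.Omega
set_option autoImplicit false

set_option autoImplicit false
open Cfsg

namespace Cfsg.Agent.S1894

/-- Let P be a finite p-group, A a normal subgroup of P and B an abelian subgroup of A that is normal in P. Then some subgroup C of A containing B is normal in P and is self-centralizing and normal in A (C ∈ SCN(A)). -/
theorem result {P : Type*} [Group P] [Finite P] {p : ℕ} [Fact p.Prime] (hP : IsPGroup p P)
    (A : Subgroup P) [A.Normal] (B : Subgroup P) [B.Normal] (hBA : B ≤ A) (hB : IsMulCommutative B) :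
    ∃ C : Subgroup P, C.Normal ∧ B ≤ C ∧ Cfsg.IsSCN A C := by
  let S : Set (Subgroup P) := {C | C.Normal ∧ B ≤ C ∧ C ≤ A ∧ IsMulCommutative C}
  obtain ⟨C, hC⟩ := Set.Finite.exists_maximal (Set.toFinite S) ⟨B, ‹B.Normal›, le_rfl, hBA, hB⟩
  obtain ⟨hCn, hBC, hCA, hCab⟩ := hC.prop
  haveI := hCn
  refine ⟨C, hCn, hBC, hCA, ?_, ?_⟩
  · rw [Subgroup.normalizer_eq_top_iff.mpr hCn]; exact le_top
  haveI : (Subgroup.centralizer (C : Set P)).Normal := Subgroup.normal_centralizer
  refine le_antisymm ?_ (le_inf hCA ?_)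
  swap
  · intro x hx
    rw [Subgroup.mem_centralizer_iff]
    intro y hy
    exact congrArg Subtype.val (hCab.is_comm.comm ⟨y, hy⟩ ⟨x, hx⟩)
  by_contra hne
  set D := A ⊓ Subgroup.centralizer (C : Set P) with hD
  set π := QuotientGroup.mk' C
  haveI hDn : D.Normal := Subgroup.normal_inf_normal A _
  haveI : (D.map π).Normal := hDn.map π (QuotientGroup.mk'_surjective C)
  have hDne : D.map π ≠ ⊥ := by
    rw [Ne, Subgroup.map_eq_bot_iff, QuotientGroup.ker_mk']
    exact hne
  have hz := Cfsg.Agent.Lib.PGroups.normal_inf_center_ne_bot (hP.to_quotient C) (D.map π) hDne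
  obtain ⟨z, hz, hz1⟩ := (Subgroup.bot_or_exists_ne_one _).resolve_left hz
  obtain ⟨hzD, hzc⟩ := Subgroup.mem_inf.mp hz
  obtain ⟨x, hxD, rfl⟩ := Subgroup.mem_map.mp hzD
  have hxC : x ∉ C := fun h => hz1 ((QuotientGroup.eq_one_iff x).mpr h)
  set E := C ⊔ Subgroup.zpowers x with hE
  have hxE : x ∈ E := Subgroup.mem_sup_right (Subgroup.mem_zpowers x)
  have hcl : E = Subgroup.closure ((C : Set P) ∪ {x}) := by
    rw [Subgroup.closure_union, Subgroup.closure_eq, ← Subgroup.zpowers_eq_closure]
  have hEn : E.Normal := by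
    constructor
    intro e he g
    have hsub : E ≤ E.comap (MulAut.conj g).toMonoidHom := by
      rw [hE]
      refine sup_le (fun c hc => ?_) ((Subgroup.zpowers_le).mpr ?_)
      · exact Subgroup.mem_sup_left (hCn.conj_mem c hc g)
      · show g * x * g⁻¹ ∈ C ⊔ Subgroup.zpowers x
        have hcomm : π (g * x * g⁻¹) = π x := by
          rw [map_mul, map_mul, map_inv]
          rw [Subgroup.mem_center_iff.mp hzc (π g)]
          group
        have hmem : g * x * g⁻¹ * x⁻¹ ∈ C := by
          rw [← QuotientGroup.eq_one_iff (N := C)]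
          show π (g * x * g⁻¹ * x⁻¹) = 1
          rw [map_mul, hcomm, map_inv, mul_inv_cancel]
        have := (C ⊔ Subgroup.zpowers x).mul_mem (Subgroup.mem_sup_left hmem)
          (Subgroup.mem_sup_right (Subgroup.mem_zpowers x))
        simpa using this
    exact hsub he
  have hEab : IsMulCommutative E := by
    rw [hcl]
    refine Subgroup.isMulCommutative_closure ?_
    rintro a (ha | ha) b (hb | hb)
    · exact congrArg Subtype.val (hCab.is_comm.comm ⟨a, ha⟩ ⟨b, hb⟩)
    · rw [Set.mem_singleton_iff.mp hb]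
      exact Subgroup.mem_centralizer_iff.mp hxD.2 a ha
    · rw [Set.mem_singleton_iff.mp ha]
      exact (Subgroup.mem_centralizer_iff.mp hxD.2 b hb).symm
    · rw [Set.mem_singleton_iff.mp ha, Set.mem_singleton_iff.mp hb]
  have hES : E ∈ S := ⟨hEn, hBC.trans le_sup_left, sup_le hCA ((Subgroup.zpowers_le).mpr hxD.1), hEab⟩
  exact hxC (hC.le_of_ge hES le_sup_left hxE)

end Cfsg.Agent.S1894
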