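import Cfsg.Statements.S1898


set_option autoImplicit false
open Cfsg
open scoped commutatorElement

namespace Cfsg.Agent.S1898

/-- Let X be a finite 2-group whose derived subgroup is elementary abelian and central. Then the subgroup generated by the elements of order dividing 4 has exponent dividing 4, and every automorphism of X fixing each element of order dividing 4 has 2-power order. -/
theorem result {X : Type*} [Group X] [Finite X] (hX : IsPGroup 2 X)
    (hel : Cfsg.IsElementaryAbelian 2 (commutator X)) (hcen : commutator X ≤ Subgroup.center X) :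
    (∀ x ∈ Subgroup.closure {g : X | g ^ 4 = 1}, x ^ 4 = 1) ∧
      ∀ φ : MulAut X, (∀ g : X, g ^ 4 = 1 → φ g = g) → ∃ k : ℕ, φ ^ (2 ^ k) = 1 := by
  have hc : ∀ a b : X, ⁅a, b⁆ ∈ Subgroup.center X := fun a b => hcen (Subgroup.commutator_mem_commutator (Subgroup.mem_top _) (Subgroup.mem_top _))
  have hsq : ∀ a b : X, ⁅a, b⁆ ^ 2 = 1 := fun a b => hel.2 _ (Subgroup.commutator_mem_commutator (Subgroup.mem_top _) (Subgroup.mem_top _))
  have hcomm : ∀ a b : X, b * a = ⁅b, a⁆ * (a * b) := fun a b => by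
    rw [commutatorElement_def]; group
  have h4 : ∀ a b : X, (a * b) ^ 4 = a ^ 4 * b ^ 4 := by
    intro a b
    set z := ⁅b, a⁆ with hz
    have hzc : ∀ g, g * z = z * g := Subgroup.mem_center_iff.mp (hc b a)
    have h2 : (a * b) ^ 2 = a ^ 2 * b ^ 2 * z := by
      rw [pow_two, pow_two, pow_two, show a * b * (a * b) = a * (b * a) * b by group, hcomm a b, ← hz,
        show a * (z * (a * b)) * b = (a * z) * a * (b * b) by group, hzc a,
        show z * a * a * (b * b) = z * (a * a * (b * b)) by group, ← hzc]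
    have hzz : z ^ 2 = 1 := hsq b a
    have hcm : Commute z (a ^ 2 * b ^ 2) := (hzc _).symm
    have hab : Commute (a ^ 2) (b ^ 2) := by
      have hw := hzc
      show a ^ 2 * b ^ 2 = b ^ 2 * a ^ 2
      have h21 : ∀ c : X, (∀ g, g * ⁅c, a⁆ = ⁅c, a⁆ * g) → ⁅c, a⁆ ^ 2 = 1 → c * a ^ 2 = a ^ 2 * c := by
        intro c h1 h2'
        rw [pow_two, ← mul_assoc, hcomm a c, show ⁅c, a⁆ * (a * c) * a = ⁅c, a⁆ * (a * (c * a)) by group,
          hcomm a c, show ⁅c, a⁆ * (a * (⁅c, a⁆ * (a * c))) = ⁅c, a⁆ * ((a * ⁅c, a⁆) * (a * c)) by group, h1 a,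
          show ⁅c, a⁆ * (⁅c, a⁆ * a * (a * c)) = (⁅c, a⁆ * ⁅c, a⁆) * (a * a * c) by group,
          ← pow_two ⁅c, a⁆, h2', one_mul]
      exact (h21 (b ^ 2) (Subgroup.mem_center_iff.mp (hc _ _)) (hsq _ _)).symm
    rw [show (4 : ℕ) = 2 * 2 from rfl, pow_mul, pow_mul, pow_mul, h2, hcm.symm.mul_pow, hzz, mul_one,
      hab.mul_pow]
  refine ⟨fun x hx => ?_, fun φ hφ => ?_⟩
  · induction hx using Subgroup.closure_induction with
    | mem g hg => exact hg
    | one => simp
    | mul a b _ _ ha hb => rw [h4, ha, hb, one_mul]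
    | inv a _ ha => rw [inv_pow, ha, inv_one]
  · obtain ⟨k, m, hm, hord⟩ : ∃ k m : ℕ, ¬ 2 ∣ m ∧ orderOf φ = 2 ^ k * m := by
      obtain ⟨k, m, hm, h⟩ := Nat.exists_eq_pow_mul_and_not_dvd (orderOf_pos φ).ne' 2 (by norm_num)
      exact ⟨k, m, hm, h⟩
    refine ⟨k, ?_⟩
    set ψ := φ ^ (2 ^ k) with hψ
    have hψm : ψ ^ m = 1 := by rw [hψ, ← pow_mul, ← hord, pow_orderOf_eq_one]
    have hfix : ∀ (n : ℕ) (g : X), g ^ 4 = 1 → (φ ^ n) g = g := by
      intro n g hg
      induction n with
      | zero => rfl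
      | succ n ih => rw [pow_succ, MulAut.mul_apply, hφ g hg, ih]
    have key : ∀ (j : ℕ) (x : X), x ^ (2 ^ j) = 1 → ψ x = x := by
      intro j
      induction j with
      | zero => intro x hx; rw [pow_zero, pow_one] at hx; simp [hx]
      | succ j ih =>
        intro x hx
        have h2 : ψ (x ^ 2) = x ^ 2 := ih _ (by rw [← pow_mul, ← pow_succ']; exact hx)
        set d := x⁻¹ * ψ x with hd
        have hψx : ψ x = x * d := by rw [hd]; group
        have hd4 : d ^ 4 = 1 := by
          have h8 : (x * d) ^ 4 = x ^ 4 := by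
            rw [← hψx, show (4 : ℕ) = 2 * 2 from rfl, pow_mul, ← map_pow, h2, ← pow_mul]
          rw [h4] at h8
          exact mul_eq_left.mp h8
        have hit : ∀ i : ℕ, (ψ ^ i) x = x * d ^ i := by
          intro i
          induction i with
          | zero => simp
          | succ i ihi =>
            rw [pow_succ', MulAut.mul_apply, ihi, map_mul, hψx, map_pow, hψ, hfix _ d hd4,
              pow_succ', mul_assoc]
        have hdm : d ^ m = 1 := by
          have := hit m
          rw [hψm, MulAut.one_apply] at this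
          exact mul_eq_left.mp this.symm
        have hd1 : d = 1 := by
          have hco : Nat.Coprime m 4 := by
            rw [show (4 : ℕ) = 2 ^ 2 from rfl]
            exact ((Nat.Prime.coprime_iff_not_dvd Nat.prime_two).mpr hm).symm.pow_right 2
          have := pow_gcd_eq_one.mpr ⟨hdm, hd4⟩
          rwa [hco.gcd_eq_one, pow_one] at this
        rw [hψx, hd1, mul_one]
    ext x
    obtain ⟨j, hj⟩ := hX x
    simpa using key j x hj

end Cfsg.Agent.S1898
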