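import Cfsg.Statements.S1899


set_option autoImplicit false
open Cfsg

namespace Cfsg.Agent.S1899

/-- Let a dihedral group of order 2n, n odd and n > 1, act on a finite abelian 2-group A through automorphisms d and t with d^n = 1, t² = 1 and t d t⁻¹ = d⁻¹, and suppose that d fixes only the identity. Then A is the internal direct product of C_A(t) and its image under d. -/
theorem result {A : Type*} [CommGroup A] [Finite A] (hA : IsPGroup 2 A)
    {n : ℕ} (hn : Odd n) (hn1 : 1 < n) (d t : MulAut A) (hd : d ^ n = 1) (ht : t ^ 2 = 1) (hdt : t * d * t⁻¹ = d⁻¹)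
    (hfix : ∀ a : A, d a = a → a = 1) :
    (MulEquiv.toMonoidHom t).eqLocus (MonoidHom.id A) ⊓ ((MulEquiv.toMonoidHom t).eqLocus (MonoidHom.id A)).map d.toMonoidHom = ⊥ ∧
      (MulEquiv.toMonoidHom t).eqLocus (MonoidHom.id A) ⊔ ((MulEquiv.toMonoidHom t).eqLocus (MonoidHom.id A)).map d.toMonoidHom = ⊤ := by
  set C := (MulEquiv.toMonoidHom t).eqLocus (MonoidHom.id A) with hC
  have memC : ∀ a, a ∈ C ↔ t a = a := fun a => Iff.rfl
  have htd : ∀ a, t (d a) = d.symm (t a) := by
    intro a
    have h1 : t * d = d⁻¹ * t := by rw [← hdt]; group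
    exact congrArg (fun f : MulAut A => f a) h1
  have htt : ∀ a, t (t a) = a := fun a => by
    have := congrArg (fun f : MulAut A => f a) ht
    simpa [pow_two] using this
  have h2fix : ∀ a, d (d a) = a → a = 1 := by
    intro a h
    refine hfix a ?_
    obtain ⟨k, hk⟩ := hn
    have e1 : ∀ i : ℕ, (d ^ (2 * i)) a = a := by
      intro i
      induction i with
      | zero => rfl
      | succ i ih => rw [Nat.mul_succ, pow_add, MulAut.mul_apply, pow_two, MulAut.mul_apply, h, ih]
    have e2 : (d ^ n) a = a := by rw [hd]; rfl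
    rw [hk, pow_succ', MulAut.mul_apply, e1] at e2
    exact e2
  refine ⟨?_, ?_⟩
  · rw [eq_bot_iff]
    rintro a ⟨ha, b, hb, rfl⟩
    have ha' : t (d b) = d b := ha
    rw [htd, (memC b).1 hb] at ha'
    have : b = 1 := h2fix b (by rw [← ha']; exact d.apply_symm_apply b)
    simp [this]
  · rw [eq_top_iff]
    intro a _
    let f : A → A := fun e => d e * (d.symm e)⁻¹
    have hinj : Function.Injective f := by
      intro x y hxy
      have h3 : d (x * y⁻¹) = d.symm (x * y⁻¹) := by
        simp only [f] at hxy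
        simp only [map_mul, map_inv]
        calc d x * (d y)⁻¹ = d x * (d.symm x)⁻¹ * (d.symm x * (d y)⁻¹) := by group
          _ = d y * (d.symm y)⁻¹ * (d.symm x * (d y)⁻¹) := by rw [hxy]
          _ = d.symm x * (d.symm y)⁻¹ := by
            rw [mul_comm (d y) (d.symm y)⁻¹, mul_comm (d.symm x) (d y)⁻¹]
            group
            exact mul_comm _ _
      exact mul_inv_eq_one.mp (h2fix _ (by rw [h3]; exact d.apply_symm_apply _))
    obtain ⟨e, he⟩ := (Finite.injective_iff_surjective.mp hinj) (a * (t a)⁻¹)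
    have hte : t e = e := by
      apply hinj
      have h5 : t (a * (t a)⁻¹) = (a * (t a)⁻¹)⁻¹ := by
        rw [map_mul, map_inv, htt, mul_inv_rev, inv_inv]
      rw [← he] at h5
      simp only [f] at h5 ⊢
      have h6 : t (d.symm e) = d (t e) := by
        apply d.symm.injective
        rw [← htd, d.apply_symm_apply, d.symm_apply_apply]
      rw [map_mul, map_inv, htd, h6, mul_inv_rev, inv_inv] at h5
      have h7 := congrArg (·⁻¹) h5
      simpa [mul_inv_rev, mul_comm] using h7
    have hc : a * (d e)⁻¹ ∈ C := by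
      rw [memC, map_mul, map_inv, htd, hte]
      simp only [f] at he
      calc t a * (d.symm e)⁻¹ = t a * (d e * (d.symm e)⁻¹) * (d e)⁻¹ := by
            rw [mul_comm (d e), ← mul_assoc (t a), mul_assoc, mul_inv_cancel, mul_one]
        _ = t a * (a * (t a)⁻¹) * (d e)⁻¹ := by rw [he]
        _ = a * (d e)⁻¹ := by rw [mul_comm a (t a)⁻¹, ← mul_assoc, mul_inv_cancel, one_mul]
    exact Subgroup.mem_sup.mpr ⟨_, hc, d e, ⟨e, hte, rfl⟩, by group⟩

end Cfsg.Agent.S1899
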