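import Cfsg.Statements.S1900
import Cfsg.Agent.Lib.Coprime.Generation
import Cfsg.Agent.Lib.PGroups.ElemAb
open Cfsg
open scoped commutatorElement
set_option autoImplicit false
set_option linter.style.haveILetI false

set_option autoImplicit false
open Cfsg

namespace Cfsg.Agent.S1900

/-- Let S = PQ be a finite group with P a normal Sylow p-subgroup and Q elementary abelian of order q², q a prime different from p. If exactly two subgroups X₁, X₂ of order q in Q have a nontrivial centralizer in P, then P is the internal direct product of C_P(X₁) and C_P(X₂): they commute elementwise, meet trivially and generate P. -/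
theorem result {S : Type*} [Group S] [Finite S] {p q : ℕ} [Fact p.Prime] [Fact q.Prime] (hpq : p ≠ q)
    (P : Sylow p S) [(P : Subgroup S).Normal] (Q : Subgroup S) (hQ : Cfsg.IsElementaryAbelian q Q) (hQc : Nat.card Q = q ^ 2)
    (hS : (P : Subgroup S) ⊔ Q = ⊤)
    (X₁ X₂ : Subgroup S) (h₁ : X₁ ≤ Q) (h₂ : X₂ ≤ Q) (h₁₂ : X₁ ≠ X₂) (hc₁ : Nat.card X₁ = q) (hc₂ : Nat.card X₂ = q)
    (hf₁ : (P : Subgroup S) ⊓ Subgroup.centralizer (X₁ : Set S) ≠ ⊥)
    (hf₂ : (P : Subgroup S) ⊓ Subgroup.centralizer (X₂ : Set S) ≠ ⊥)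
    (honly : ∀ X : Subgroup S, X ≤ Q → Nat.card X = q →
      (P : Subgroup S) ⊓ Subgroup.centralizer (X : Set S) ≠ ⊥ → X = X₁ ∨ X = X₂) :
    ⁅(P : Subgroup S) ⊓ Subgroup.centralizer (X₁ : Set S), (P : Subgroup S) ⊓ Subgroup.centralizer (X₂ : Set S)⁆ = ⊥ ∧
      ((P : Subgroup S) ⊓ Subgroup.centralizer (X₁ : Set S)) ⊓ ((P : Subgroup S) ⊓ Subgroup.centralizer (X₂ : Set S)) = ⊥ ∧
      ((P : Subgroup S) ⊓ Subgroup.centralizer (X₁ : Set S)) ⊔ ((P : Subgroup S) ⊓ Subgroup.centralizer (X₂ : Set S)) = P := by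
  have hq : q.Prime := Fact.out
  set C1 := (P : Subgroup S) ⊓ Subgroup.centralizer (X₁ : Set S) with hC1
  set C2 := (P : Subgroup S) ⊓ Subgroup.centralizer (X₂ : Set S) with hC2
  haveI := hQ.1
  have hzp : ∀ x : S, x ∈ Q → x ≠ 1 → Nat.card (Subgroup.zpowers x) = q := fun x hx hx1 => by
    rw [Nat.card_zpowers]; exact orderOf_eq_prime (hQ.2 x hx) hx1
  have hgen : ∀ X : Subgroup S, Nat.card X = q → ∀ x ∈ X, x ≠ 1 → X ≤ Q → Subgroup.zpowers x = X :=
    fun X hX x hx hx1 hXQ => Subgroup.eq_of_le_of_card_ge (Subgroup.zpowers_le.mpr hx)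
      (by rw [hX, hzp x (hXQ hx) hx1])
  obtain ⟨x₁, hx₁, hx₁'⟩ := X₁.bot_or_exists_ne_one.resolve_left fun h => by
    rw [h, Subgroup.card_bot] at hc₁; exact hq.ne_one hc₁.symm
  obtain ⟨x₂, hx₂, hx₂'⟩ := X₂.bot_or_exists_ne_one.resolve_left fun h => by
    rw [h, Subgroup.card_bot] at hc₂; exact hq.ne_one hc₂.symm
  have he₁ := hgen X₁ hc₁ x₁ hx₁ hx₁' h₁
  have he₂ := hgen X₂ hc₂ x₂ hx₂ hx₂' h₂
  have hy : x₁ * x₂ ∈ Q := mul_mem (h₁ hx₁) (h₂ hx₂)
  have hy₁ : x₁ * x₂ ∉ X₁ := fun h => h₁₂ (by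
    have h' : x₂ ∈ X₁ := by simpa using mul_mem (inv_mem hx₁) h
    exact (hgen X₁ hc₁ x₂ h' hx₂' h₁).symm.trans he₂)
  have hy₂ : x₁ * x₂ ∉ X₂ := fun h => h₁₂ (by
    have h' : x₁ ∈ X₂ := by simpa using mul_mem h (inv_mem hx₂)
    exact he₁.symm.trans (hgen X₂ hc₂ x₁ h' hx₁' h₂))
  have hfix : ∀ c ∈ (P : Subgroup S), c ∈ Subgroup.centralizer (X₁ : Set S) →
      c ∈ Subgroup.centralizer (X₂ : Set S) → c = 1 := by
    intro c hcP hc1 hc2
    by_contra hne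
    have hcy : c ∈ Subgroup.centralizer ((Subgroup.zpowers (x₁ * x₂)) : Set S) := by
      rw [Subgroup.zpowers_eq_closure, Subgroup.centralizer_closure,
        Subgroup.mem_centralizer_singleton_iff]
      have a := Subgroup.mem_centralizer_iff.mp hc1 x₁ hx₁
      have b := Subgroup.mem_centralizer_iff.mp hc2 x₂ hx₂
      exact (mul_assoc _ _ _).symm.trans (a ▸ (by rw [mul_assoc, ← b, ← mul_assoc]))
    rcases honly _ (Subgroup.zpowers_le.mpr hy)
      (hzp _ hy fun h => hy₁ (h ▸ one_mem _))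
      (fun h => hne (by simpa [h] using Subgroup.mem_inf.mpr ⟨hcP, hcy⟩)) with h | h
    · exact hy₁ (h ▸ Subgroup.mem_zpowers _)
    · exact hy₂ (h ▸ Subgroup.mem_zpowers _)
  have hdisj : C1 ⊓ C2 = ⊥ := by
    rw [eq_bot_iff]
    rintro c ⟨⟨hcP, hc1⟩, _, hc2⟩
    exact Subgroup.mem_bot.mpr (hfix c hcP hc1 hc2)
  have hdec : ∀ K : Subgroup S, K.Normal → K ≤ P → K ≤ (K ⊓ C1) ⊔ (K ⊓ C2) := by
    intro K hK hKP
    have hcyc : ¬ IsCyclic Q :=
      Cfsg.Agent.Lib.PGroups.not_isCyclic_of_elemAb_card (le_refl 2) hQ hQc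
    have hcop : (Nat.card Q).Coprime (Nat.card K) := by
      obtain ⟨m, hm⟩ := IsPGroup.iff_card.mp (P.isPGroup'.to_le hKP)
      rw [hm, hQc]
      exact Nat.Coprime.pow _ _ ((Nat.coprime_primes hq Fact.out).mpr hpq.symm)
    have hnorm : Q ≤ Subgroup.normalizer (K : Set S) := by
      rw [Subgroup.normalizer_eq_top_iff.mpr hK]; exact le_top
    conv_lhs => rw [← Cfsg.Agent.Lib.Coprime.iSup_centralizer_eq hcyc hnorm hcop]
    refine iSup₂_le fun a ha => ?_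
    have hcen : Subgroup.centralizer ({a} : Set S) =
        Subgroup.centralizer ((Subgroup.zpowers a) : Set S) := by
      rw [Subgroup.zpowers_eq_closure, Subgroup.centralizer_closure]
    by_cases hb : (P : Subgroup S) ⊓ Subgroup.centralizer ((Subgroup.zpowers a) : Set S) = ⊥
    · refine le_trans ?_ bot_le
      rw [← hb, hcen]; exact inf_le_inf_right _ hKP
    · rcases honly _ (Subgroup.zpowers_le.mpr ha.1) (hzp a ha.1 ha.2) hb with h | h
      · refine le_trans ?_ le_sup_left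
        rw [hcen, h]; exact le_inf inf_le_left (inf_le_inf_right _ hKP)
      · refine le_trans ?_ le_sup_right
        rw [hcen, h]; exact le_inf inf_le_left (inf_le_inf_right _ hKP)
  have hPn : (P : Subgroup S).Normal := inferInstance
  let L : ℕ → Subgroup S := fun n => (P : Subgroup S).lowerCentralSeries n
  have hLn : ∀ n, (L n).Normal := by
    intro n
    induction n with
    | zero => exact hPn
    | succ k ih => haveI := ih; exact Subgroup.commutator_normal _ _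
  have hLle : ∀ n, L (n + 1) ≤ L n := fun n => by
    haveI := hLn n; exact Subgroup.commutator_le_left _ _
  have hLP : ∀ n, L n ≤ P := fun n => by
    induction n with
    | zero => exact le_rfl
    | succ k ih => exact (hLle k).trans ih
  have hinv : ∀ (A : Subgroup S), A ≤ Q → ∀ x ∈ Q, ∀ c ∈ (P : Subgroup S) ⊓ Subgroup.centralizer (A : Set S),
      x * c * x⁻¹ ∈ (P : Subgroup S) ⊓ Subgroup.centralizer (A : Set S) := by
    intro A hA x hx c hc
    refine Subgroup.mem_inf.mpr ⟨hPn.conj_mem c (Subgroup.mem_inf.mp hc).1 x, ?_⟩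
    rw [Subgroup.mem_centralizer_iff]
    intro a ha
    have hax : a * x = x * a := congrArg Subtype.val (hQ.1.is_comm.comm ⟨a, hA ha⟩ ⟨x, hx⟩)
    have hac := Subgroup.mem_centralizer_iff.mp (Subgroup.mem_inf.mp hc).2 a ha
    calc a * (x * c * x⁻¹) = x * (a * c) * x⁻¹ := by
          rw [← mul_assoc, ← mul_assoc, hax, mul_assoc x a c]
      _ = (x * c) * (a * x⁻¹) := by rw [hac]; group
      _ = x * c * x⁻¹ * a := by
          rw [(Commute.inv_right (hax : Commute a x)).eq]; group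
  have hinj : ∀ (A B : Subgroup S), (A = X₁ ∧ B = X₂ ∨ A = X₂ ∧ B = X₁) → ∀ x ∈ A, x ≠ 1 →
      ∀ c d : S, c ∈ (P : Subgroup S) ⊓ Subgroup.centralizer (B : Set S) →
      d ∈ (P : Subgroup S) ⊓ Subgroup.centralizer (B : Set S) →
      c⁻¹ * (x * c * x⁻¹) = d⁻¹ * (x * d * x⁻¹) → c = d := by
    intro A B hAB x hxA hx1 c d hc hd he
    have hz : d * c⁻¹ ∈ (P : Subgroup S) ⊓ Subgroup.centralizer (B : Set S) := mul_mem hd (inv_mem hc)
    have hxz : x * (d * c⁻¹) = d * c⁻¹ * x := by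
      have h2 := congrArg (fun t => d * t * (x * c⁻¹)) he
      calc x * (d * c⁻¹) = d * (d⁻¹ * (x * d * x⁻¹)) * (x * c⁻¹) := by group
        _ = d * (c⁻¹ * (x * c * x⁻¹)) * (x * c⁻¹) := h2.symm
        _ = d * c⁻¹ * x := by group
    have hcA : d * c⁻¹ ∈ Subgroup.centralizer (A : Set S) := by
      have hA : Subgroup.zpowers x = A := by
        rcases hAB with ⟨rfl, -⟩ | ⟨rfl, -⟩
        · exact hgen _ hc₁ x hxA hx1 h₁
        · exact hgen _ hc₂ x hxA hx1 h₂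
      rw [← hA, Subgroup.zpowers_eq_closure, Subgroup.centralizer_closure,
        Subgroup.mem_centralizer_singleton_iff]
      exact hxz.symm
    have h1 : d * c⁻¹ = 1 := by
      rcases hAB with ⟨rfl, rfl⟩ | ⟨rfl, rfl⟩
      · exact hfix _ (Subgroup.mem_inf.mp hz).1 hcA (Subgroup.mem_inf.mp hz).2
      · exact hfix _ (Subgroup.mem_inf.mp hz).1 (Subgroup.mem_inf.mp hz).2 hcA
    exact (mul_inv_eq_one.mp h1).symm
  have hsurj : ∀ (A B : Subgroup S), (A = X₁ ∧ B = X₂ ∨ A = X₂ ∧ B = X₁) → ∀ x ∈ A, x ≠ 1 →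
      ∀ K : Subgroup S, K.Normal → ∀ e ∈ K ⊓ ((P : Subgroup S) ⊓ Subgroup.centralizer (B : Set S)),
      ∃ c ∈ K ⊓ ((P : Subgroup S) ⊓ Subgroup.centralizer (B : Set S)),
        c⁻¹ * (x * c * x⁻¹) = e := by
    intro A B hAB x hxA hx1 K hK e he
    have hAQ : A ≤ Q ∧ B ≤ Q := by
      rcases hAB with ⟨rfl, rfl⟩ | ⟨rfl, rfl⟩
      · exact ⟨h₁, h₂⟩
      · exact ⟨h₂, h₁⟩
    set T := K ⊓ ((P : Subgroup S) ⊓ Subgroup.centralizer (B : Set S))
    let f : T → T := fun c => ⟨(c : S)⁻¹ * (x * c * x⁻¹), mul_mem (inv_mem c.2)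
      (Subgroup.mem_inf.mpr ⟨hK.conj_mem _ (Subgroup.mem_inf.mp c.2).1 x,
        hinv B hAQ.2 x (hAQ.1 hxA) _ (Subgroup.mem_inf.mp c.2).2⟩)⟩
    have hf : Function.Injective f := fun c d h => Subtype.ext
      (hinj A B hAB x hxA hx1 _ _ (Subgroup.mem_inf.mp c.2).2 (Subgroup.mem_inf.mp d.2).2
        (congrArg Subtype.val h))
    obtain ⟨c, hc⟩ := Finite.injective_iff_surjective.mp hf ⟨e, he⟩
    exact ⟨c, c.2, congrArg Subtype.val hc⟩
  have step : ∀ n, (∀ a ∈ C1, ∀ b ∈ C2, ⁅a, b⁆ ∈ L n) → ∀ a ∈ C1, ∀ b ∈ C2, ⁅a, b⁆ ∈ L (n + 1) := by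
    intro n ih
    set K := L n with hKd
    set M := L (n + 1) with hMd
    have hKn : K.Normal := hLn n
    haveI hMn : M.Normal := hLn (n + 1)
    have hU : ∀ U : Subgroup S, M ≤ U → U ≤ K → ∀ g ∈ (P : Subgroup S), ∀ u ∈ U, g * u * g⁻¹ ∈ U := by
      intro U hMU hUK g hg u hu
      have hm : ⁅u⁻¹, g⁆ ∈ M := Subgroup.commutator_mem_commutator (inv_mem (hUK hu)) hg
      have e : g * u * g⁻¹ = u * ⁅u⁻¹, g⁆ := by rw [commutatorElement_def]; group
      rw [e]; exact mul_mem hu (hMU hm)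
    have claim : ∀ (A B : Subgroup S), (A = X₁ ∧ B = X₂ ∨ A = X₂ ∧ B = X₁) →
        ∀ a ∈ (P : Subgroup S) ⊓ Subgroup.centralizer (A : Set S),
        ∀ b ∈ (P : Subgroup S) ⊓ Subgroup.centralizer (B : Set S),
          ⁅a, b⁆ ∈ (K ⊓ ((P : Subgroup S) ⊓ Subgroup.centralizer (B : Set S))) ⊔ M := by
      intro A B hAB a ha b hb
      obtain ⟨x, hxA, hx1, hAQ, hBQ⟩ : ∃ x ∈ A, x ≠ 1 ∧ A ≤ Q ∧ B ≤ Q := by
        rcases hAB with ⟨rfl, rfl⟩ | ⟨rfl, rfl⟩
        · exact ⟨x₁, hx₁, hx₁', h₁, h₂⟩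
        · exact ⟨x₂, hx₂, hx₂', h₂, h₁⟩
      set CA := (P : Subgroup S) ⊓ Subgroup.centralizer (A : Set S) with hCA
      set CB := (P : Subgroup S) ⊓ Subgroup.centralizer (B : Set S) with hCB
      set U := (K ⊓ CB) ⊔ M with hUd
      have hUK : U ≤ K := sup_le inf_le_left (hLle n)
      have hfx : ∀ t ∈ CA, x * t * x⁻¹ = t := fun t ht => by
        rw [Subgroup.mem_centralizer_iff.mp (Subgroup.mem_inf.mp ht).2 x hxA]; group
      have hcl : K ≤ Subgroup.closure (((K ⊓ CA : Subgroup S) : Set S) ∪ ((K ⊓ CB : Subgroup S) : Set S)) := by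
        rw [Subgroup.closure_union, Subgroup.closure_eq, Subgroup.closure_eq]
        rcases hAB with ⟨rfl, rfl⟩ | ⟨rfl, rfl⟩
        · exact hdec K hKn (hLP n)
        · exact (hdec K hKn (hLP n)).trans (le_of_eq (sup_comm _ _))
      have hz : ∀ z ∈ K, z⁻¹ * (x * z * x⁻¹) ∈ U := by
        intro z hz
        suffices h : z ∈ K ∧ z⁻¹ * (x * z * x⁻¹) ∈ U from h.2
        have hz' := hcl hz
        clear hz
        induction hz' using Subgroup.closure_induction with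
        | mem z hz =>
          rcases hz with hz | hz
          · refine ⟨(Subgroup.mem_inf.mp hz).1, ?_⟩
            rw [hfx z (Subgroup.mem_inf.mp hz).2, inv_mul_cancel]; exact one_mem _
          · refine ⟨(Subgroup.mem_inf.mp hz).1, Subgroup.mem_sup_left (mul_mem (inv_mem hz) ?_)⟩
            exact Subgroup.mem_inf.mpr ⟨hKn.conj_mem _ (Subgroup.mem_inf.mp hz).1 x,
              hinv B hBQ x (hAQ hxA) _ (Subgroup.mem_inf.mp hz).2⟩
        | one => simp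
        | mul z w _ _ ihz ihw =>
          refine ⟨mul_mem ihz.1 ihw.1, ?_⟩
          have h := mul_mem (hU U le_sup_right hUK w⁻¹ (inv_mem (hLP n ihw.1)) _ ihz.2) ihw.2
          have e : (z * w)⁻¹ * (x * (z * w) * x⁻¹) =
              w⁻¹ * (z⁻¹ * (x * z * x⁻¹)) * w⁻¹⁻¹ * (w⁻¹ * (x * w * x⁻¹)) := by group
          rw [e]; exact h
        | inv z _ ihz =>
          refine ⟨inv_mem ihz.1, ?_⟩
          have h := hU U le_sup_right hUK z (hLP n ihz.1) _ (inv_mem ihz.2)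
          have e : z⁻¹⁻¹ * (x * z⁻¹ * x⁻¹) = z * (z⁻¹ * (x * z * x⁻¹))⁻¹ * z⁻¹ := by group
          rw [e]; exact h
      obtain ⟨c, hc, rfl⟩ := hsurj A B hAB x hxA hx1 (P : Subgroup S) hPn b
        (Subgroup.mem_inf.mpr ⟨(Subgroup.mem_inf.mp hb).1, hb⟩)
      have hc' := (Subgroup.mem_inf.mp hc).2
      have hzK : ⁅a, c⁆ ∈ K := by
        rcases hAB with ⟨rfl, rfl⟩ | ⟨rfl, rfl⟩
        · exact ih a ha c hc'
        · rw [← commutatorElement_inv]; exact inv_mem (ih c hc' a ha)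
      have e1 : x * ⁅a, c⁆ * x⁻¹ = ⁅a, x * c * x⁻¹⁆ := by
        conv_rhs => rw [← hfx a ha]
        exact map_commutatorElement (MulAut.conj x).toMonoidHom a c
      have e2 : ⁅a, c⁻¹ * (x * c * x⁻¹)⁆ = c⁻¹ * (⁅a, c⁆⁻¹ * ⁅a, x * c * x⁻¹⁆) * c⁻¹⁻¹ := by
        simp only [commutatorElement_def]; group
      rw [e2, ← e1]
      exact hU U le_sup_right hUK c⁻¹ (inv_mem (Subgroup.mem_inf.mp hc').1) _ (hz _ hzK)
    intro a ha b hb
    have hA := claim X₁ X₂ (Or.inl ⟨rfl, rfl⟩) a ha b hb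
    have hB := claim X₂ X₁ (Or.inr ⟨rfl, rfl⟩) b hb a ha
    rw [← commutatorElement_inv b a] at hA ⊢
    have hB' := inv_mem hB
    obtain ⟨a2, ha2, m2, hm2, e2⟩ := Subgroup.mem_sup_of_normal_right.mp hA
    obtain ⟨a1, ha1, m1, hm1, e1⟩ := Subgroup.mem_sup_of_normal_right.mp hB'
    obtain ⟨ha2K, ha2'⟩ := Subgroup.mem_inf.mp ha2
    obtain ⟨-, ha1'⟩ := Subgroup.mem_inf.mp ha1
    set m := m1 * m2⁻¹
    have hm : m ∈ M := mul_mem hm1 (inv_mem hm2)
    have he : a2 = a1 * m := by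
      calc a2 = (a2 * m2) * m2⁻¹ := by group
        _ = (a1 * m1) * m2⁻¹ := by rw [e2, e1]
        _ = a1 * m := mul_assoc _ _ _
    have hx : x₁ * a1 * x₁⁻¹ = a1 := by
      rw [Subgroup.mem_centralizer_iff.mp (Subgroup.mem_inf.mp ha1').2 x₁ hx₁]; group
    have hd : a2⁻¹ * (x₁ * a2 * x₁⁻¹) ∈ M ⊓ C2 := by
      refine Subgroup.mem_inf.mpr ⟨?_, mul_mem (inv_mem ha2') (hinv X₂ h₂ x₁ (h₁ hx₁) _ ha2')⟩
      have e : a2⁻¹ * (x₁ * a2 * x₁⁻¹) = m⁻¹ * (x₁ * m * x₁⁻¹) := by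
        rw [he]
        calc (a1 * m)⁻¹ * (x₁ * (a1 * m) * x₁⁻¹)
            = m⁻¹ * a1⁻¹ * (x₁ * a1 * x₁⁻¹) * (x₁ * m * x₁⁻¹) := by group
          _ = m⁻¹ * (x₁ * m * x₁⁻¹) := by rw [hx]; group
      rw [e]; exact mul_mem (inv_mem hm) (hMn.conj_mem m hm x₁)
    obtain ⟨c, hc, hce⟩ := hsurj X₁ X₂ (Or.inl ⟨rfl, rfl⟩) x₁ hx₁ hx₁' M hMn _ hd
    have : c = a2 := hinj X₁ X₂ (Or.inl ⟨rfl, rfl⟩) x₁ hx₁ hx₁' c a2
      (Subgroup.mem_inf.mp hc).2 ha2' hce
    rw [← e2]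
    exact mul_mem (this ▸ (Subgroup.mem_inf.mp hc).1) hm2
  have hall : ∀ n, ∀ a ∈ C1, ∀ b ∈ C2, ⁅a, b⁆ ∈ L n := by
    intro n
    induction n with
    | zero =>
      intro a ha b hb
      have haP := (Subgroup.mem_inf.mp ha).1
      have hbP := (Subgroup.mem_inf.mp hb).1
      exact mul_mem (mul_mem (mul_mem haP hbP) (inv_mem haP)) (inv_mem hbP)
    | succ k ih => exact step k ih
  refine ⟨?_, hdisj, le_antisymm (sup_le inf_le_left inf_le_left) ?_⟩
  · haveI : Group.IsNilpotent (P : Subgroup S) := P.isPGroup'.isNilpotent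
    have hb := Subgroup.lowerCentralSeries_eq_bot_of_nilpotencyClass_le
      (S := (P : Subgroup S)) le_rfl
    rw [eq_bot_iff, Subgroup.commutator_le, ← hb]
    exact hall _
  · exact (hdec P hPn le_rfl).trans (sup_le (le_sup_of_le_left inf_le_right) (le_sup_of_le_right inf_le_right))

end Cfsg.Agent.S1900
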