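import Cfsg.Statements.S1901
import Cfsg.Agent.Lib.PSolvable.Basic
open Cfsg
set_option autoImplicit false
set_option linter.style.haveILetI false

set_option autoImplicit false
set_option linter.style.haveILetI false
open Cfsg

namespace Cfsg.Agent.S1901

universe u

/-- A `p`-element normalizing `Q` centralizes it, when `Q` normalizes a Sylow `p`-subgroup. -/
theorem key {p : ℕ} [Fact p.Prime] : ∀ (n : ℕ) (G : Type u) [Group G] [Finite G],
    Cfsg.IsPSolvable p G → Nat.card G = n → ∀ Q : Subgroup G, ¬ p ∣ Nat.card Q →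
    ∀ P : Sylow p G, Q ≤ Subgroup.normalizer ((P : Subgroup G) : Set G) →
    ∀ a : G, a ∈ Subgroup.normalizer (Q : Set G) → ∀ k : ℕ, a ^ p ^ k = 1 →
      a ∈ Subgroup.centralizer (Q : Set G) := by
  intro n
  induction n using Nat.strong_induction_on with
  | _ n ih =>
  intro G _ _ hG hn Q hQ P hQP a ha k hk
  rcases subsingleton_or_nontrivial G with hs | hnt
  · rw [Subgroup.mem_centralizer_iff]; intro q _; exact Subsingleton.elim _ _
  have hp : p.Prime := Fact.out
  have step : ∀ (N : Subgroup G), N.Normal → N ≠ ⊥ → ∀ q ∈ Q, a * q * a⁻¹ * q⁻¹ ∈ N := by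
    intro N hN hne q hq
    set π := QuotientGroup.mk' N
    have hlt : Nat.card (G ⧸ N) < n := by
      rw [← hn, Subgroup.card_eq_card_quotient_mul_card_subgroup N]
      exact lt_mul_of_one_lt_right Nat.card_pos (Subgroup.one_lt_card_iff_ne_bot N |>.mpr hne)
    have hQ' : ¬ p ∣ Nat.card (Q.map π) := fun h => hQ (h.trans (Q.card_map_dvd π))
    have hs := QuotientGroup.mk'_surjective N
    have hQP' : Q.map π ≤ Subgroup.normalizer
        (((P.mapSurjective hs : Sylow p (G ⧸ N)) : Subgroup (G ⧸ N)) : Set (G ⧸ N)) := by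
      rw [Sylow.coe_mapSurjective]
      exact (Subgroup.map_mono hQP).trans (Subgroup.le_normalizer_map π)
    have hc := ih _ hlt (G ⧸ N) (Lib.PSolvable.isPSolvable_quotient hG N) rfl (Q.map π) hQ'
      (P.mapSurjective hs) hQP' (π a)
      (Subgroup.le_normalizer_map π (Subgroup.mem_map_of_mem π ha)) k
      (by rw [← map_pow, hk, map_one])
    have h1 := Subgroup.mem_centralizer_iff.mp hc (π q) (Subgroup.mem_map_of_mem π hq)
    rw [← QuotientGroup.eq_one_iff (N := N)]
    show π (a * q * a⁻¹ * q⁻¹) = 1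
    rw [map_mul, map_mul, map_mul, map_inv, map_inv, ← h1]
    group
  have hQn : ∀ q ∈ Q, a * q * a⁻¹ ∈ Q := fun q hq =>
    (Subgroup.mem_normalizer_iff.mp ha q).mp hq
  suffices h : ∀ q ∈ Q, a * q * a⁻¹ * q⁻¹ = 1 by
    rw [Subgroup.mem_centralizer_iff]
    intro q hq
    exact (eq_mul_of_mul_inv_eq (mul_inv_eq_one.mp (h q hq))).symm
  by_cases hK : Cfsg.pPrimeCore p G = ⊥
  · intro q hq
    have hm := step _ inferInstance (Lib.PSolvable.pCore_ne_bot hG hK) q hq
    have hmQ : a * q * a⁻¹ * q⁻¹ ∈ Q := mul_mem (hQn q hq) (inv_mem hq)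
    obtain ⟨m, hm'⟩ := (Lib.PSolvable.isPGroup_pCore (p := p) (G := G)) ⟨_, hm⟩
    obtain ⟨j, -, hj⟩ := (Nat.dvd_prime_pow hp).mp (orderOf_dvd_of_pow_eq_one
      (congrArg Subtype.val hm'))
    cases j with
    | zero => exact orderOf_eq_one_iff.mp hj
    | succ j =>
      refine absurd ?_ hQ
      refine (dvd_pow_self p (Nat.succ_ne_zero j)).trans ?_
      rw [← hj]; exact Q.orderOf_dvd_natCard hmQ
  · set K := Cfsg.pPrimeCore p G with hKdef
    set Q1 := Q ⊓ K with hQ1
    have hKn : K.Normal := inferInstance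
    have hKP : ∀ x ∈ K, x ∈ (P : Subgroup G) → x = 1 := by
      intro x hxK hxP
      have h1 : orderOf x ∣ Nat.card K := K.orderOf_dvd_natCard hxK
      obtain ⟨j, hj⟩ := P.isPGroup' ⟨x, hxP⟩
      obtain ⟨i, -, hi⟩ := (Nat.dvd_prime_pow hp).mp (orderOf_dvd_of_pow_eq_one
        (congrArg Subtype.val hj))
      cases i with
      | zero => exact orderOf_eq_one_iff.mp hi
      | succ i =>
        have h2 : p ∣ Nat.card K := ((dvd_pow_self p (Nat.succ_ne_zero i)).trans (hi ▸ h1))
        exact absurd h2 (hp.coprime_iff_not_dvd.mp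
          (Lib.PSolvable.card_pPrimeCore_coprime (p := p) (G := G)).symm)
    have hPC : (P : Subgroup G) ≤ Subgroup.centralizer (Q1 : Set G) := by
      intro x hx
      rw [Subgroup.mem_centralizer_iff]
      intro c hc
      obtain ⟨hcQ, hcK⟩ := Subgroup.mem_inf.mp hc
      have hP1 : c * x * c⁻¹ * x⁻¹ ∈ (P : Subgroup G) :=
        mul_mem ((Subgroup.mem_normalizer_iff.mp (hQP hcQ) x).mp hx) (inv_mem hx)
      have hK1 : c * x * c⁻¹ * x⁻¹ ∈ K := by
        have := mul_mem hcK (hKn.conj_mem c⁻¹ (inv_mem hcK) x)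
        simpa [mul_assoc] using this
      exact eq_mul_of_mul_inv_eq (mul_inv_eq_one.mp (hKP _ hK1 hP1))
    have haQ1 : a ∈ Subgroup.normalizer (Q1 : Set G) := by
      rw [Subgroup.mem_normalizer_iff]
      intro c
      rw [Subgroup.mem_inf, Subgroup.mem_inf, ← Subgroup.mem_normalizer_iff.mp ha c]
      refine and_congr_right fun _ => ⟨fun h => hKn.conj_mem c h a, fun h => ?_⟩
      simpa [mul_assoc] using hKn.conj_mem _ h a⁻¹
    set N1 := Subgroup.normalizer (Q1 : Set G)
    set C1 := Subgroup.centralizer (Q1 : Set G)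
    have hidx : ¬ p ∣ (C1.subgroupOf N1).index := fun h =>
      P.not_dvd_index ((h.trans (by
        have := Subgroup.relIndex_dvd_index_of_le (Subgroup.centralizer_le_normalizer (Q1 : Set G))
        exact this)).trans (Subgroup.index_dvd_of_le hPC))
    haveI : (C1.subgroupOf N1).Normal := Subgroup.normal_subgroupOf_centralizer_normalizer _
    have hpow : a ^ (C1.subgroupOf N1).index ∈ C1 :=
      Subgroup.pow_index_mem (C1.subgroupOf N1) ⟨a, haQ1⟩
    have hgcd : Nat.gcd (C1.subgroupOf N1).index (p ^ k) = 1 :=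
      Nat.Coprime.pow_right k ((hp.coprime_iff_not_dvd.mpr hidx).symm)
    have haC : a ∈ C1 := by
      have hz := Nat.gcd_eq_gcd_ab (C1.subgroupOf N1).index (p ^ k)
      rw [hgcd] at hz
      have : a = (a ^ (C1.subgroupOf N1).index) ^ (Nat.gcdA (C1.subgroupOf N1).index (p ^ k)) *
          (a ^ (p ^ k)) ^ (Nat.gcdB (C1.subgroupOf N1).index (p ^ k)) := by
        rw [← zpow_natCast a, ← zpow_natCast a (p ^ k), ← zpow_mul, ← zpow_mul, ← zpow_add, ← hz,
          Nat.cast_one, zpow_one]
      rw [this, hk, one_zpow, mul_one]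
      exact zpow_mem hpow _
    intro q hq
    set c := a * q * a⁻¹ * q⁻¹ with hcdef
    have hc1 : c ∈ Q1 := Subgroup.mem_inf.mpr ⟨mul_mem (hQn q hq) (inv_mem hq), step K hKn hK q hq⟩
    have hac : a * c * a⁻¹ = c := by
      rw [← Subgroup.mem_centralizer_iff.mp haC c hc1]; simp
    have hj : ∀ j : ℕ, a ^ j * q * (a ^ j)⁻¹ = c ^ j * q := by
      intro j
      induction j with
      | zero => simp
      | succ j ih =>
        calc a ^ (j + 1) * q * (a ^ (j + 1))⁻¹ = a * (a ^ j * q * (a ^ j)⁻¹) * a⁻¹ := by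
              rw [pow_succ']; group
          _ = (a * c * a⁻¹) ^ j * (a * q * a⁻¹) := by rw [ih, conj_pow]; group
          _ = c ^ j * (c * q) := by rw [hac, hcdef]; group
          _ = c ^ (j + 1) * q := by rw [pow_succ]; exact (mul_assoc _ _ _).symm
    have h1 := hj (p ^ k)
    rw [hk] at h1
    have h2 : c ^ p ^ k = 1 := by simpa using h1
    obtain ⟨i, -, hi⟩ := (Nat.dvd_prime_pow hp).mp (orderOf_dvd_of_pow_eq_one h2)
    cases i with
    | zero => exact orderOf_eq_one_iff.mp hi
    | succ i =>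
      refine absurd ?_ hQ
      refine (dvd_pow_self p (Nat.succ_ne_zero i)).trans ?_
      rw [← hi]; exact Q.orderOf_dvd_natCard hc1.1

/-- Let G be a finite p-solvable group and Q a subgroup of order prime to p such that p divides the index of C_G(Q) in N_G(Q). Then Q normalizes no Sylow p-subgroup of G. -/
theorem result {G : Type*} [Group G] [Finite G] {p : ℕ} [Fact p.Prime]
    (hG : Cfsg.IsPSolvable p G) (Q : Subgroup G) (hQ : ¬ p ∣ Nat.card Q)
    (hA : p ∣ (Subgroup.centralizer (Q : Set G)).relIndex (Subgroup.normalizer (Q : Set G)))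
    (P : Sylow p G) : ¬ Q ≤ Subgroup.normalizer ((P : Subgroup G) : Set G) := by
  intro hQP
  set N := Subgroup.normalizer (Q : Set G) with hNdef
  set C := Subgroup.centralizer (Q : Set G) with hCdef
  obtain ⟨S⟩ := (inferInstance : Nonempty (Sylow p ↥N))
  have hSC : (S : Subgroup N) ≤ C.subgroupOf N := by
    intro a ha
    obtain ⟨k, hk⟩ := S.isPGroup' ⟨a, ha⟩
    have hk' : ((a : N) : G) ^ p ^ k = 1 := by
      have := congrArg (fun z : (S : Subgroup N) => ((z : N) : G)) hk
      simpa using this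
    exact key _ G hG rfl Q hQ P hQP _ a.2 k hk'
  exact S.not_dvd_index (hA.trans (Subgroup.index_dvd_of_le hSC))

end Cfsg.Agent.S1901
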