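import Cfsg.Statements.S1902
import Cfsg.Agent.Lib.Tech42.CyclicFixed
import Cfsg.Agent.Lib.PSolvable.HallHigman
import Cfsg.Agent.Lib.Classif.PTimesQ
import Cfsg.Agent.Lib.OddLocal.CoprimeFix
open Cfsg
open scoped Pointwise
set_option autoImplicit false
set_option linter.style.haveILetI false

set_option autoImplicit false
open Cfsg

namespace Cfsg.Agent.S1902

/-- The case `O_{p'}(G) = 1`. -/
theorem reduced {G : Type*} [Group G] [Finite G] {p : ℕ} [Fact p.Prime] (hp : p ≠ 2)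
    (hG : Cfsg.IsPSolvable p G) (hcore : Cfsg.pPrimeCore p G = ⊥) (B : Subgroup G)
    [IsMulCommutative B] (hBexp : ∀ x ∈ B, x ^ p = 1) (hBc : Nat.card B = p ^ 2)
    (b₀ : G) (hb₀ : b₀ ∈ B) (hb₁ : b₀ ≠ 1)
    (H : ∀ R : Subgroup G, IsPGroup p R → R ≤ Subgroup.centralizer ({b₀} : Set G) → B ≤ R →
      ∀ x ∈ R, x ^ p = 1 → x ∈ B)
    (Q : Subgroup G) (hQ : ¬ p ∣ Nat.card Q) (hinv : ∀ b ∈ B, ∀ x ∈ Q, b * x * b⁻¹ ∈ Q) :
    Q = ⊥ := by
  have hpp : p.Prime := Fact.out
  set M := Cfsg.pCore p G with hM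
  haveI hMn : M.Normal := inferInstance
  have hMp : IsPGroup p M := Lib.PSolvable.isPGroup_pCore
  have hHH := Lib.PSolvable.centralizer_pCore_le hG hcore
  have hBp : IsPGroup p B := IsPGroup.of_card hBc
  have hpQ : ∀ (P0 : Subgroup G), IsPGroup p P0 → ∀ x ∈ P0, x ∈ Q → x = 1 := by
    intro P0 hP0 x hx hxQ
    obtain ⟨k, hk⟩ := hP0 ⟨x, hx⟩
    exact orderOf_eq_one_iff.mp (Nat.eq_one_of_dvd_coprimes
      ((hpp.coprime_iff_not_dvd.mpr hQ).symm.pow_right k) (Q.orderOf_dvd_natCard hxQ)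
      (orderOf_dvd_of_pow_eq_one (congrArg Subtype.val hk)))
  have hBQn : ∀ b ∈ B, b ∈ Subgroup.normalizer (Q : Set G) := by
    intro b hb
    rw [Subgroup.mem_normalizer_iff]
    intro x
    refine ⟨hinv b hb x, fun h => ?_⟩
    simpa [mul_assoc] using hinv b⁻¹ (inv_mem hb) _ h
  have hBcomm : ∀ x ∈ B, ∀ y ∈ B, x * y = y * x := fun x hx y hy =>
    congrArg Subtype.val (IsMulCommutative.is_comm.comm (⟨x, hx⟩ : B) ⟨y, hy⟩)
  set M0 := M ⊓ Subgroup.centralizer ({b₀} : Set G) with hM0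
  have hBnorm : B ≤ Subgroup.normalizer (M0 : Set G) := by
    intro b hb
    rw [Subgroup.mem_normalizer_iff]
    intro x
    rw [Subgroup.mem_inf, Subgroup.mem_inf, Subgroup.mem_centralizer_singleton_iff,
      Subgroup.mem_centralizer_singleton_iff]
    refine and_congr ⟨fun h => hMn.conj_mem x h b, fun h => ?_⟩ ?_
    · simpa [mul_assoc] using hMn.conj_mem _ h b⁻¹
    · have hb0 : b * b₀ * b⁻¹ = b₀ := by rw [hBcomm b hb b₀ hb₀]; group
      conv_rhs => rw [← hb0]
      constructor <;> intro h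
      · calc b * x * b⁻¹ * (b * b₀ * b⁻¹) = b * (x * b₀) * b⁻¹ := by group
          _ = b * (b₀ * x) * b⁻¹ := by rw [h]
          _ = b * b₀ * b⁻¹ * (b * x * b⁻¹) := by group
      · calc x * b₀ = b⁻¹ * (b * x * b⁻¹ * (b * b₀ * b⁻¹)) * b := by group
          _ = b⁻¹ * (b * b₀ * b⁻¹ * (b * x * b⁻¹)) * b := by rw [h]
          _ = b₀ * x := by group
  have hR : IsPGroup p (M0 ⊔ B : Subgroup G) :=
    IsPGroup.to_sup_of_normal_left' (hMp.to_le inf_le_left) hBp hBnorm
  have hom : ∀ x ∈ M0, x ^ p = 1 → x ∈ B := fun x hx hxp =>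
    H _ hR (sup_le inf_le_right fun b hb =>
      Subgroup.mem_centralizer_singleton_iff.mpr (hBcomm b hb b₀ hb₀)) le_sup_right x
      (Subgroup.mem_sup_left hx) hxp
  have hfpf : ∀ q ∈ Q, b₀ * q = q * b₀ → q = 1 := by
    intro q hq hqb
    have hqN : q ∈ Subgroup.normalizer (M0 : Set G) := by
      rw [Subgroup.mem_normalizer_iff]
      intro x
      rw [Subgroup.mem_inf, Subgroup.mem_inf]
      refine and_congr ⟨fun h => hMn.conj_mem x h q, fun h => ?_⟩ ?_
      · simpa [mul_assoc] using hMn.conj_mem _ h q⁻¹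
      · have hqC : q ∈ Subgroup.centralizer ({b₀} : Set G) :=
          Subgroup.mem_centralizer_singleton_iff.mpr hqb.symm
        constructor <;> intro h
        · exact mul_mem (mul_mem hqC h) (inv_mem hqC)
        · simpa [mul_assoc] using mul_mem (mul_mem (inv_mem hqC) h) hqC
    have hcop : (orderOf q).Coprime p := Nat.Coprime.coprime_dvd_left (Q.orderOf_dvd_natCard hq)
      (hpp.coprime_iff_not_dvd.mpr hQ).symm
    have hM0q : ∀ x ∈ M0, q * x = x * q := by
      refine Lib.OddLocal.CoprimeFix.centralizes_of_omega hp hcop (hMp.to_le inf_le_left) hqN ?_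
      intro x hx ho
      have hxB := hom x hx (orderOf_dvd_iff_pow_eq_one.mp ho.dvd)
      have hxB' := hom _ ((Subgroup.mem_normalizer_iff.mp hqN x).mp hx)
        (by rw [conj_pow, orderOf_dvd_iff_pow_eq_one.mp ho.dvd]; simp)
      have hcQ : q * x * q⁻¹ * x⁻¹ ∈ Q := by
        simpa [mul_assoc] using mul_mem hq (hinv x hxB q⁻¹ (inv_mem hq))
      have h1 := hpQ B hBp _ (mul_mem hxB' (inv_mem hxB)) hcQ
      exact mul_inv_eq_iff_eq_mul.mp (mul_inv_eq_one.mp h1)
    have hqM : ∀ x ∈ M, q * x = x * q := by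
      refine Lib.Classif.pTimesQ M (Subgroup.zpowers b₀) q hMp
        (hBp.to_le (Subgroup.zpowers_le.mpr hb₀))
        (by rw [Subgroup.normalizer_eq_top_iff.mpr hMn]; exact le_top)
        (fun x hx => hMn.conj_mem x hx q) hcop ?_ ?_
      · intro t ht
        obtain ⟨k, rfl⟩ := Subgroup.mem_zpowers_iff.mp ht
        exact ((show Commute q b₀ from hqb.symm).zpow_right k).eq
      · intro x hx hxT
        exact hM0q x (Subgroup.mem_inf.mpr ⟨hx, Subgroup.mem_centralizer_singleton_iff.mpr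
          (hxT b₀ (Subgroup.mem_zpowers b₀)).symm⟩)
    exact hpQ M hMp q (hHH (Subgroup.mem_centralizer_iff.mpr fun x hx => (hqM x hx).symm)) hq
  rw [Subgroup.eq_bot_iff_forall]
  intro q hq
  by_cases hbM : b₀ ∈ M
  · refine hfpf q hq ?_
    have h1 : b₀ * q * b₀⁻¹ * q⁻¹ ∈ M := by
      simpa [mul_assoc] using mul_mem hbM (hMn.conj_mem b₀⁻¹ (inv_mem hbM) q)
    exact mul_inv_eq_iff_eq_mul.mp (mul_inv_eq_one.mp
      (hpQ M hMp _ h1 (mul_mem (hinv b₀ hb₀ q hq) (inv_mem hq))))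
  set Z := B ⊓ M with hZ
  have hZcyc : ∃ z ∈ Z, Z ≤ Subgroup.zpowers z := by
    obtain ⟨i, hi2, hi⟩ := (Nat.dvd_prime_pow hpp).mp
      (hBc ▸ Subgroup.card_dvd_of_le (inf_le_left : Z ≤ B))
    have hi1 : i ≤ 1 := by
      by_contra hi1
      obtain rfl : i = 2 := by omega
      have := Subgroup.eq_of_le_of_card_ge (inf_le_left : Z ≤ B) (by rw [hi, hBc])
      exact hbM (Subgroup.mem_inf.mp (this.ge hb₀)).2
    haveI : IsCyclic Z := by
      interval_cases i
      · haveI : Subsingleton Z := (Nat.card_eq_one_iff_unique.mp (hi.trans (pow_zero p))).1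
        infer_instance
      · exact isCyclic_of_prime_card (p := p) (hi.trans (pow_one p))
    obtain ⟨⟨z, hz⟩, hg⟩ := IsCyclic.exists_generator (α := Z)
    refine ⟨z, hz, fun x hx => ?_⟩
    obtain ⟨k, hk⟩ := hg ⟨x, hx⟩
    exact ⟨k, congrArg Subtype.val hk⟩
  obtain ⟨z, hz, hzle⟩ := hZcyc
  have hzQ : ∀ r ∈ Q, r * z = z * r := by
    intro r hr
    obtain ⟨hzB, hzM⟩ := Subgroup.mem_inf.mp hz
    have h1 : z * r * z⁻¹ * r⁻¹ ∈ M := by
      simpa [mul_assoc] using mul_mem hzM (hMn.conj_mem z⁻¹ (inv_mem hzM) r)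
    exact (mul_inv_eq_iff_eq_mul.mp (mul_inv_eq_one.mp
      (hpQ M hMp _ h1 (mul_mem (hinv z hzB r hr) (inv_mem hr))))).symm
  have hMQ := Lib.Tech42.CyclicFixed.centralizes hp Q b₀ z hQ (hBexp b₀ hb₀) (hBQn b₀ hb₀) hfpf
    (hBexp z (Subgroup.mem_inf.mp hz).1) hzQ M hMp
    (by rw [Subgroup.normalizer_eq_top_iff.mpr hMn]; exact Subgroup.mem_top _)
    (by rw [Subgroup.normalizer_eq_top_iff.mpr hMn]; exact le_top)
    (fun u hu hup hub => hzle (Subgroup.mem_inf.mpr
      ⟨hom u (Subgroup.mem_inf.mpr ⟨hu, Subgroup.mem_centralizer_singleton_iff.mpr hub.symm⟩) hup, hu⟩))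
  exact hpQ M hMp q (hHH (Subgroup.le_centralizer_iff.mp hMQ hq)) hq

/-- Let p be an odd prime, G a finite p-solvable group, and B an elementary abelian subgroup of order p² such that B is the subgroup generated by the elements of order p of some Sylow p-subgroup of C_G(b₀), for some nontrivial b₀ ∈ B. Then every B-invariant subgroup of G of order prime to p lies in O_{p'}(G). -/
theorem result {G : Type*} [Group G] [Finite G] {p : ℕ} [Fact p.Prime] (hp : p ≠ 2)
    (hG : Cfsg.IsPSolvable p G) (B : Subgroup G) (hB : Cfsg.IsElementaryAbelian p B) (hBc : Nat.card B = p ^ 2)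
    (b₀ : G) (hb₀ : b₀ ∈ B) (hb₁ : b₀ ≠ 1) (P : Sylow p ↥(Subgroup.centralizer ({b₀} : Set G)))
    (hBP : B = Subgroup.closure {x : G | x ∈ ((P : Subgroup ↥(Subgroup.centralizer ({b₀} : Set G))).map
      (Subgroup.centralizer ({b₀} : Set G)).subtype : Subgroup G) ∧ orderOf x = p})
    (Q : Subgroup G) (hQ : ¬ p ∣ Nat.card Q) (hinv : ∀ b ∈ B, ∀ x ∈ Q, b * x * b⁻¹ ∈ Q) :
    Q ≤ Cfsg.pPrimeCore p G := by
  have hpp : p.Prime := Fact.out
  haveI := hB.1
  let C := Subgroup.centralizer ({b₀} : Set G)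
  let Pm := (P : Subgroup C).map C.subtype
  have hcomm : ∀ x ∈ B, ∀ y ∈ B, x * y = y * x := fun x hx y hy =>
    congrArg Subtype.val (hB.1.is_comm.comm ⟨x, hx⟩ ⟨y, hy⟩)
  have hBC : B ≤ C := fun x hx => Subgroup.mem_centralizer_singleton_iff.mpr (hcomm x hx b₀ hb₀)
  have H : ∀ R : Subgroup G, IsPGroup p R → R ≤ C → B ≤ R → ∀ x ∈ R, x ^ p = 1 → x ∈ B := by
    intro R hR hRC hBR x hx hxp
    rcases eq_or_ne x 1 with rfl | hx1
    · exact one_mem B
    obtain ⟨T, hT⟩ := (hR.comap_subtype (K := C)).exists_le_sylow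
    obtain ⟨c, hc⟩ := MulAction.exists_smul_eq C T P
    set e := (MulAut.conj (c : G)).toMonoidHom with he
    have hmap : ∀ y ∈ R, e y ∈ Pm := by
      intro y hy
      have hy' : (⟨y, hRC hy⟩ : C) ∈ (T : Subgroup C) := hT (Subgroup.mem_subgroupOf.mpr hy)
      refine Subgroup.mem_map.mpr ⟨c * ⟨y, hRC hy⟩ * c⁻¹, ?_, rfl⟩
      rw [← hc]
      exact Subgroup.smul_mem_pointwise_smul _ (MulAut.conj c) _ hy'
    have hconj : ∀ y ∈ R, orderOf y = p → e y ∈ B := fun y hy ho => by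
      rw [hBP]
      exact Subgroup.subset_closure ⟨hmap y hy,
        (orderOf_injective e (MulAut.conj (c : G)).injective y).trans ho⟩
    have hle : B.map e ≤ B := by
      rintro _ ⟨y, hy, rfl⟩
      rcases eq_or_ne y 1 with rfl | hy1
      · rw [map_one]; exact one_mem B
      · exact hconj y (hBR hy) (orderOf_eq_prime (hB.2 y hy) hy1)
    have heq : B.map e = B := Subgroup.eq_of_le_of_card_ge hle
      (Subgroup.card_map_of_injective (MulAut.conj (c : G)).injective).ge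
    have h1 := hconj x hx (orderOf_eq_prime hxp hx1)
    rw [← heq] at h1
    obtain ⟨z, hz, hze⟩ := Subgroup.mem_map.mp h1
    exact (MulAut.conj (c : G)).injective hze ▸ hz
  set K := Cfsg.pPrimeCore p G with hK
  set π := QuotientGroup.mk' K with hπ
  haveI hKn : K.Normal := inferInstance
  have hKc : (Nat.card K).Coprime p := Lib.PSolvable.card_pPrimeCore_coprime
  have hKp : ∀ x ∈ K, ∀ k : ℕ, x ^ p ^ k = 1 → x = 1 := fun x hx k hk =>
    orderOf_eq_one_iff.mp (Nat.eq_one_of_dvd_coprimes (hKc.pow_right k)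
      (K.orderOf_dvd_natCard hx) (orderOf_dvd_of_pow_eq_one hk))
  have hπp : ∀ x : G, x ^ p = 1 → π x = 1 → x = 1 := fun x hx h1 =>
    hKp x ((QuotientGroup.eq_one_iff x).mp h1) 1 (by rwa [pow_one])
  have hBπ : Nat.card (B.map π) = p ^ 2 := by
    rw [← hBc]
    exact (Nat.card_congr (Equiv.ofBijective (fun x : B => (⟨π x, x, x.2, rfl⟩ : B.map π))
      ⟨fun x y h => Subtype.ext (inv_mul_eq_one.mp (hπp _ (hB.2 _ (mul_mem (inv_mem x.2) y.2))
          (by rw [map_mul, map_inv, show π x = π y from congrArg Subtype.val h, inv_mul_cancel]))),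
        fun ⟨_, x, hx, hxe⟩ => ⟨⟨x, hx⟩, Subtype.ext hxe⟩⟩)).symm
  have hcore : Cfsg.pPrimeCore p (G ⧸ K) = ⊥ := Lib.PSolvable.pPrimeCore_quotient_eq_bot K hK
  have H' : ∀ R : Subgroup (G ⧸ K), IsPGroup p R →
      R ≤ Subgroup.centralizer ({π b₀} : Set (G ⧸ K)) → B.map π ≤ R →
      ∀ x ∈ R, x ^ p = 1 → x ∈ B.map π := by
    intro R hR hRC hBR x hx hxp
    set M := R.comap π ⊓ C with hM
    have hMmap : M.map π = R := by
      refine le_antisymm ((Subgroup.map_mono inf_le_left).trans (Subgroup.map_comap_le _ _)) ?_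
      intro y hy
      have hcen : Subgroup.centralizer (((Subgroup.zpowers b₀).map π : Subgroup (G ⧸ K)) : Set (G ⧸ K))
          ≤ (Subgroup.centralizer ((Subgroup.zpowers b₀ : Subgroup G) : Set G)).map π :=
        Lib.PSolvable.centralizer_map_le_map_centralizer K _ hKc
          (IsPGroup.of_card (n := 1) (by
            rw [Nat.card_zpowers, orderOf_eq_prime (hB.2 b₀ hb₀) hb₁, pow_one]))
      have hy' : y ∈ Subgroup.centralizer
          (((Subgroup.zpowers b₀).map π : Subgroup (G ⧸ K)) : Set (G ⧸ K)) := by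
        rw [MonoidHom.map_zpowers, Subgroup.zpowers_eq_closure, Subgroup.centralizer_closure]
        exact hRC hy
      obtain ⟨w, hw, rfl⟩ := Subgroup.mem_map.mp (hcen hy')
      refine Subgroup.mem_map_of_mem π (Subgroup.mem_inf.mpr ⟨hy, ?_⟩)
      exact Subgroup.mem_centralizer_singleton_iff.mpr
        (Subgroup.mem_centralizer_iff.mp hw b₀ (Subgroup.mem_zpowers b₀)).symm
    have hBM : B ≤ M := le_inf (Subgroup.map_le_iff_le_comap.mp hBR) hBC
    have hBp : IsPGroup p B := IsPGroup.of_card hBc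
    obtain ⟨T, hT⟩ := (hBp.comap_subtype (K := M)).exists_le_sylow
    have hTmap : ((T : Subgroup M).map M.subtype).map π = R :=
      (Lib.PSolvable.map_sylow_eq_map_of_isPGroup π M (hMmap ▸ hR) T).trans hMmap
    rw [← hTmap] at hx
    obtain ⟨w, hw, rfl⟩ := Subgroup.mem_map.mp hx
    have hTp : IsPGroup p ((T : Subgroup M).map M.subtype) := T.isPGroup'.map _
    have hwp : w ^ p = 1 := by
      obtain ⟨k, hk⟩ := hTp ⟨_, pow_mem hw p⟩
      exact hKp (w ^ p) ((QuotientGroup.eq_one_iff _).mp (by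
        show π (w ^ p) = 1
        rw [map_pow, hxp])) k (congrArg Subtype.val hk)
    refine Subgroup.mem_map_of_mem π (H _ hTp
      ((Subgroup.map_subtype_le _).trans inf_le_right) ?_ w hw hwp)
    intro y hy
    exact ⟨⟨y, hBM hy⟩, hT (Subgroup.mem_subgroupOf.mpr hy), rfl⟩
  haveI : IsMulCommutative (B.map π) := Subgroup.map_isMulCommutative B π
  have hfin := reduced hp (Lib.PSolvable.isPSolvable_quotient hG K) hcore (B.map π)
    (fun x hx => by obtain ⟨y, hy, rfl⟩ := hx; rw [← map_pow, hB.2 y hy, map_one])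
    hBπ (π b₀) (Subgroup.mem_map_of_mem π hb₀) (fun h => hb₁ (hπp _ (hB.2 _ hb₀) h)) H' (Q.map π)
    (fun h => hQ (h.trans (Q.card_map_dvd π)))
    (by
      rintro _ ⟨b, hb, rfl⟩ _ ⟨x, hx, rfl⟩
      rw [← map_inv, ← map_mul, ← map_mul]
      exact Subgroup.mem_map_of_mem π (hinv b hb x hx))
  intro x hx
  have h1 : π x ∈ (⊥ : Subgroup (G ⧸ K)) := hfin ▸ Subgroup.mem_map_of_mem π hx
  exact (QuotientGroup.eq_one_iff x).mp (Subgroup.mem_bot.mp h1)

end Cfsg.Agent.S1902
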