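import Cfsg.Statements.S3663
import Cfsg.Agent.Lib.U34.Main
import Cfsg.Agent.Lib.Unitary.Transvection
import Cfsg.Agent.Lib.PrimeGraph.Unbounded

set_option autoImplicit false
open Cfsg

namespace Cfsg.Agent.S3663
open Cfsg.Agent.Lib

theorem exists_equiv (F : Type*) [Field F] [Fintype F] (hF : Fintype.card F = 16) :
    Nonempty (U34.G ≃* SU 3 F 4) := by
  let φ : U34.K16 ≃+* F := FiniteField.ringEquivOfCardEq (K := U34.K16) (K' := F)
    (by rw [U34.card_k16, hF]; norm_num)
  let Φ : Matrix.SpecialLinearGroup (Fin 3) U34.K16 ≃* Matrix.SpecialLinearGroup (Fin 3) F :=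
    MulEquiv.ofBijective (Matrix.SpecialLinearGroup.map (φ : U34.K16 →+* F)) ⟨fun a b h => by
      ext i j
      exact φ.injective (congrArg (fun m : Matrix.SpecialLinearGroup (Fin 3) F => (m : Matrix _ _ F) i j) h),
     fun m => ⟨Matrix.SpecialLinearGroup.map (φ.symm : F →+* U34.K16) m, by ext i j; simp⟩⟩
  have key : ∀ g, Φ g ∈ SU 3 F 4 ↔ g ∈ SU 3 U34.K16 4 := by
    intro g
    have hmul : ∀ u, (slToMat 3 F (Φ g)).mulVec (fun i => φ (u i)) =
        fun i => φ ((slToMat 3 U34.K16 g).mulVec u i) := by
      intro u; funext i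
      simp [Φ, Matrix.mulVec, dotProduct, map_sum]
      rfl
    have hf : ∀ u v : Fin 3 → U34.K16,
        hermForm 3 F 4 (fun i => φ (u i)) (fun i => φ (v i)) = φ (hermForm 3 U34.K16 4 u v) := by
      intro u v; simp [hermForm, map_sum]
    constructor
    · intro h u v
      apply φ.injective
      rw [← hf, ← hf, ← hmul, ← hmul]
      exact h _ _
    · intro h u v
      have hu : u = fun i => φ (φ.symm (u i)) := by simp
      have hv : v = fun i => φ (φ.symm (v i)) := by simp
      rw [hu, hv, hmul, hmul, hf, hf, h]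
  exact ⟨(Φ.subgroupMap (SU 3 U34.K16 4)).trans (MulEquiv.subgroupCongr (by
    ext x
    constructor
    · rintro ⟨g, hg, rfl⟩; exact (key g).2 hg
    · intro hx; exact ⟨Φ.symm x, (key _).1 (by simpa using hx), by simp⟩))⟩

/-- the module as a multiplicative group -/
abbrev M : Type := Multiplicative U34.E

noncomputable def shift (g : U34.G) : MulAut M :=
  AddEquiv.toMultiplicative
    { toFun := fun f => ⟨fun i => f.1 (U34.act g⁻¹ i), U34.E_invariant g⁻¹ f.1 f.2⟩
      invFun := fun f => ⟨fun i => f.1 (U34.act g i), U34.E_invariant g f.1 f.2⟩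
      left_inv := fun f => by
        apply Subtype.ext; funext i
        show f.1 (U34.act g⁻¹ (U34.act g i)) = f.1 i
        rw [← U34.act_mul, inv_mul_cancel, U34.act_one]
      right_inv := fun f => by
        apply Subtype.ext; funext i
        show f.1 (U34.act g (U34.act g⁻¹ i)) = f.1 i
        rw [← U34.act_mul, mul_inv_cancel, U34.act_one]
      map_add' := fun f g => rfl }

theorem shift_apply (g : U34.G) (m : M) (i : Fin 832) :
    (Multiplicative.toAdd (shift g m)).1 i = (Multiplicative.toAdd m).1 (U34.act g⁻¹ i) := rfl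

noncomputable def action : U34.G →* MulAut M where
  toFun := shift
  map_one' := by
    refine MulEquiv.ext fun m => Multiplicative.toAdd.injective (Subtype.ext (funext fun i => ?_))
    rw [shift_apply, inv_one, U34.act_one]; rfl
  map_mul' a b := by
    refine MulEquiv.ext fun m => Multiplicative.toAdd.injective (Subtype.ext (funext fun i => ?_))
    show _ = (Multiplicative.toAdd (shift a (shift b m))).1 i
    rw [shift_apply, shift_apply, shift_apply, ← U34.act_mul, mul_inv_rev]


/-- The prime graph of a finite group has the prime divisors of its order as vertices, two distinct primes p, q being joined when the group has an element of order pq; two groups have the same prime graph when they have the same prime divisors and the same joined pairs. Let F be the field with 16 elements and L = PSU(3,4) realised over F. There are finite groups of arbitrarily large order with the same prime graph as L. -/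
theorem result {F : Type*} [Field F] [Fintype F] (hF : Fintype.card F = 16) (N : ℕ) :
    ∃ (H : Type) (_ : Group H) (_ : Finite H), N < Nat.card H ∧
      ((∀ p : ℕ, p.Prime → (p ∣ Nat.card (Cfsg.PSU 3 F 4) ↔ p ∣ Nat.card H)) ∧
      (∀ p q : ℕ, p.Prime → q.Prime → p ≠ q → ((∃ g : (Cfsg.PSU 3 F 4), orderOf g = p * q) ↔ (∃ g : H, orderOf g = p * q)))) := by
  have hF' : Fintype.card F = 4 ^ 2 := by rw [hF]; norm_num
  obtain ⟨e⟩ := exists_equiv F hF
  have hbot : Subgroup.center (SU 3 F 4) = ⊥ := by
    apply Subgroup.eq_bot_of_card_eq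
    rw [Unitary.card_center_SU hF' (by norm_num)]
    norm_num
  let E2 : U34.G ≃* PSU 3 F 4 :=
    e.trans ((QuotientGroup.quotientMulEquivOfEq hbot).trans QuotientGroup.quotientBot).symm
  haveI : Finite M := inferInstance
  haveI : Nontrivial M := by
    obtain ⟨f, hf, hne⟩ := U34.E_ne
    exact ⟨Multiplicative.ofAdd ⟨f, hf⟩, 1, fun h => hne (congrArg Subtype.val h)⟩
  have hp : IsPGroup 5 M := fun m => ⟨1, by
    apply Multiplicative.toAdd.injective
    apply Subtype.ext; funext i
    rw [toAdd_pow, pow_one]
    show 5 • (Multiplicative.toAdd m).1 i = 0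
    rw [nsmul_eq_mul]
    exact mul_eq_zero_of_left (by decide) _⟩
  obtain ⟨H, iG, iF, hN, h1, h2⟩ := PrimeGraph.Unbounded.exists_large_same_graph
    (p := 5) (by norm_num) (by rw [U34.card_G]; norm_num) hp action (by
      intro q hq hq5 g hg m hfix hm
      have hd : q ∣ 62400 := by
        rw [← U34.card_G, ← hg]; exact orderOf_dvd_natCard g
      have hq' : q = 2 ∨ q = 3 ∨ q = 13 := by
        rw [show 62400 = 2 ^ 6 * 3 * 5 ^ 2 * 13 by norm_num] at hd
        rcases (Nat.Prime.dvd_mul hq).1 hd with hd | hd
        · rcases (Nat.Prime.dvd_mul hq).1 hd with hd | hd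
          · rcases (Nat.Prime.dvd_mul hq).1 hd with hd | hd
            · exact Or.inl ((Nat.prime_dvd_prime_iff_eq hq (by norm_num)).1 (hq.dvd_of_dvd_pow hd))
            · exact Or.inr (Or.inl ((Nat.prime_dvd_prime_iff_eq hq (by norm_num)).1 hd))
          · exact absurd ((Nat.prime_dvd_prime_iff_eq hq (by norm_num)).1 (hq.dvd_of_dvd_pow hd)) hq5
        · exact Or.inr (Or.inr ((Nat.prime_dvd_prime_iff_eq hq (by norm_num)).1 hd))
      rcases hq' with rfl | rfl | rfl
      · exact U34.exists_order_ten
      · exact U34.exists_order_fifteen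
      · exfalso
        apply hm
        apply Multiplicative.toAdd.injective
        apply Subtype.ext
        refine U34.fixed_thirteen (g := g⁻¹) (by rw [orderOf_inv, hg]) (Multiplicative.toAdd m).2 fun i => ?_
        exact (shift_apply g m i).symm.trans
          (congrArg (fun x : M => (Multiplicative.toAdd x).1 i) hfix)) N
  refine ⟨H, iG, Finite.of_fintype _, hN, fun p hp => ?_, fun p q hp hq hpq => ?_⟩
  · rw [← Nat.card_congr E2.toEquiv]; exact h1 p hp
  · refine Iff.trans ⟨?_, ?_⟩ (h2 p q hp hq hpq)
    · rintro ⟨x, hx⟩; exact ⟨E2.symm x, by rw [E2.symm.orderOf_eq, hx]⟩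
    · rintro ⟨x, hx⟩; exact ⟨E2 x, by rw [E2.orderOf_eq, hx]⟩

end Cfsg.Agent.S3663
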