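import Cfsg.Statements.S1903
import Cfsg.Agent.S3663
import Cfsg.Agent.Lib.Tech42.Order320.Extract
import Cfsg.Agent.Lib.Tech42.Order320.Target

set_option autoImplicit false
open Cfsg

namespace Cfsg.Agent.S1903

/-- A finite group of order 320 whose derived subgroup has order 64 and has centre a Klein four-group is isomorphic to the centralizer of an involution in PSU₃(4). -/
theorem result {G : Type*} [Group G] [Finite G] (hG : Nat.card G = 320) (hD : Nat.card (commutator G) = 64)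
    (hZ : IsKleinFour (Subgroup.center (commutator G)))
    {F : Type*} [Field F] [Fintype F] (hF : Fintype.card F = 16) :
    ∃ t : Cfsg.PSU 3 F 4, orderOf t = 2 ∧ Nonempty (G ≃* Subgroup.centralizer ({t} : Set (Cfsg.PSU 3 F 4))) := by
  classical
  obtain ⟨a, b, x0, x1, x2, x3, s, R, hgen, hker⟩ :=
    Cfsg.Agent.Lib.Tech42.Order320.exists_rel hG hD hZ
  have RT := Cfsg.Agent.Lib.Tech42.Order320.rel_target
  obtain ⟨ψ, hψa, hψb, hψx, hψs⟩ := R.exists_hom RT hgen hG
  obtain ⟨na, nb, nab⟩ := Cfsg.Agent.Lib.Tech42.Order320.target_ne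
  have hψ : Function.Injective ψ := by
    rw [← MonoidHom.ker_eq_bot_iff]
    by_contra hne
    rcases hker ψ.ker inferInstance hne with h | h | h <;> rw [MonoidHom.mem_ker] at h
    · exact na (hψa ▸ h)
    · exact nb (hψb ▸ h)
    · rw [map_mul, hψa, hψb] at h; exact nab h
  obtain ⟨E⟩ := Cfsg.Agent.S3663.exists_equiv F hF
  set t0 := Cfsg.Agent.Lib.U34.el Cfsg.Agent.Lib.Tech42.Order320.tN with ht0
  have hbot : Subgroup.center (SU 3 F 4) = ⊥ := by
    rw [← Subgroup.card_eq_one, Cfsg.Agent.Lib.Unitary.card_center_SU (by rw [hF]; norm_num) (by norm_num)]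
    rfl
  let π : SU 3 F 4 ≃* PSU 3 F 4 := MulEquiv.ofBijective (QuotientGroup.mk' _)
    ⟨by rw [← MonoidHom.ker_eq_bot_iff, QuotientGroup.ker_mk', hbot], QuotientGroup.mk'_surjective _⟩
  let Φ : Cfsg.Agent.Lib.U34.G ≃* PSU 3 F 4 := E.trans π
  refine ⟨Φ t0, ?_, ?_⟩
  · rw [← Cfsg.Agent.Lib.Tech42.Order320.order_t]
    exact orderOf_injective Φ.toMonoidHom Φ.injective t0
  have hle : ψ.range ≤ Subgroup.centralizer ({t0} : Set Cfsg.Agent.Lib.U34.G) := by
    rw [MonoidHom.range_eq_map, ← hgen, MonoidHom.map_closure, Subgroup.closure_le]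
    rintro _ ⟨g, hg | hg, rfl⟩
    · rw [hg, hψx]
      exact Subgroup.mem_centralizer_singleton_iff.2 Cfsg.Agent.Lib.Tech42.Order320.comm_t.1.eq
    · rw [hg, hψs]
      exact Subgroup.mem_centralizer_singleton_iff.2 Cfsg.Agent.Lib.Tech42.Order320.comm_t.2.eq
  have heq : ψ.range = Subgroup.centralizer ({t0} : Set Cfsg.Agent.Lib.U34.G) :=
    Subgroup.eq_of_le_of_card_ge hle (by
      rw [← Nat.card_congr (MonoidHom.ofInjective hψ).toEquiv, hG]
      exact Cfsg.Agent.Lib.Tech42.Order320.card_centralizer_le)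
  refine ⟨((MonoidHom.ofInjective hψ).trans (MulEquiv.subgroupCongr heq)).trans
    ((Φ.subgroupMap _).trans (MulEquiv.subgroupCongr ?_))⟩
  ext g
  rw [Subgroup.mem_centralizer_singleton_iff, Subgroup.mem_map]
  constructor
  · rintro ⟨u, hu, rfl⟩
    show Φ u * Φ t0 = Φ t0 * Φ u
    rw [← map_mul, ← map_mul, Subgroup.mem_centralizer_singleton_iff.1 hu]
  · intro h
    refine ⟨Φ.symm g, Subgroup.mem_centralizer_singleton_iff.2 (Φ.injective ?_), Φ.apply_symm_apply g⟩
    rw [map_mul, map_mul, Φ.apply_symm_apply, h]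

end Cfsg.Agent.S1903
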