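import Cfsg.Statements.S1905
import Cfsg.Agent.Lib.Tech42.TransitiveCore

set_option autoImplicit false
open Cfsg

namespace Cfsg.Agent.S1905

/-- Let M be a subgroup of even order of a finite group S such that M contains the centralizer in S of each of its involutions and the normal core of M in S has odd order. Then all involutions of S are conjugate. If moreover N_S(X) ≤ M for a Sylow 2-subgroup X of M and I is an involution in the centre of X, then all involutions of M are conjugate in M and M = M₀ C_M(I) for some subgroup M₀ of M of odd order. -/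
theorem result {S : Type*} [Group S] [Finite S] (M : Subgroup S) (hM : Even (Nat.card M))
    (hC : ∀ i ∈ M, orderOf i = 2 → Subgroup.centralizer ({i} : Set S) ≤ M) (hcore : Odd (Nat.card M.normalCore)) :
    (∀ x y : S, orderOf x = 2 → orderOf y = 2 → IsConj x y) ∧
      ∀ (X : Sylow 2 M) (I : M), I ∈ (Subgroup.center ↥(X : Subgroup ↥M)).map (X : Subgroup ↥M).subtype → orderOf I = 2 →
        Subgroup.normalizer (((X : Subgroup M).map M.subtype : Subgroup S) : Set S) ≤ M →
        (∀ x y : M, orderOf x = 2 → orderOf y = 2 → IsConj x y) ∧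
          ∃ M₀ : Subgroup M, Odd (Nat.card M₀) ∧
            ∀ m : M, ∃ a ∈ M₀, ∃ c ∈ Subgroup.centralizer ({I} : Set M), m = a * c := by
  classical
  have hMtop : M ≠ ⊤ := by
    rintro rfl
    rw [Subgroup.normalCore_eq_self] at hcore
    exact Nat.not_even_iff_odd.2 hcore hM
  obtain ⟨i0, hi0⟩ := Lib.Involutions.Basic.exists_invol (G := M) hM
  have hi0' : orderOf (i0 : S) = 2 := by rw [Subgroup.orderOf_coe]; exact hi0
  -- `M` contains a Sylow `2`-subgroup of `S`
  obtain ⟨P, hP⟩ : ∃ P : Sylow 2 S, (P : Subgroup S) ≤ M := by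
    obtain ⟨P, hP⟩ := (show IsPGroup 2 ↥(Subgroup.zpowers (i0 : S)) from
      IsPGroup.of_card (n := 1) (by rw [Nat.card_zpowers, hi0', pow_one])).exists_le_sylow
    refine ⟨P, ?_⟩
    have hiP : (i0 : S) ∈ (P : Subgroup S) := hP (Subgroup.mem_zpowers _)
    haveI : Nontrivial ↥(P : Subgroup S) := ⟨⟨⟨i0, hiP⟩, 1, fun h => by
      have : (i0 : S) = 1 := congrArg Subtype.val h
      rw [this, orderOf_one] at hi0'; omega⟩⟩
    haveI := P.isPGroup'.center_nontrivial
    obtain ⟨k, hk, hcard⟩ := ((P.isPGroup'.to_subgroup (Subgroup.center ↥(P : Subgroup S)))).nontrivial_iff_card.1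
      inferInstance
    obtain ⟨z, hz⟩ := exists_prime_orderOf_dvd_card' 2 (hcard ▸ dvd_pow_self 2 (by omega) :
      2 ∣ Nat.card ↥(Subgroup.center ↥(P : Subgroup S)))
    have hzo : orderOf ((z : ↥(P : Subgroup S)) : S) = 2 := by
      rw [Subgroup.orderOf_coe, Subgroup.orderOf_coe, hz]
    have hzc : ∀ u ∈ (P : Subgroup S), u * (z : ↥(P : Subgroup S)) = (z : ↥(P : Subgroup S)) * u :=
      fun u hu => congrArg Subtype.val (Subgroup.mem_center_iff.1 z.2 ⟨u, hu⟩)
    have hzM : ((z : ↥(P : Subgroup S)) : S) ∈ M :=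
      hC i0 i0.2 hi0' (Subgroup.mem_centralizer_singleton_iff.2 (hzc i0 hiP).symm)
    exact fun u hu => hC _ hzM hzo (Subgroup.mem_centralizer_singleton_iff.2 (hzc u hu))
  have hconjM : ∀ u : S, orderOf u = 2 → ∃ g : S, g * u * g⁻¹ ∈ M :=
    fun u hu => Lib.Involutions.StronglyEmbedded.exists_conj_mem_of_sylow hP hu
  -- an involution outside `M`
  obtain ⟨t0, ht0, ht0M⟩ : ∃ t : S, orderOf t = 2 ∧ t ∉ M := by
    by_contra! h
    have hle : Subgroup.normalClosure ({(i0 : S)} : Set S) ≤ M := by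
      rw [Subgroup.normalClosure, Subgroup.closure_le]
      intro w hw
      obtain ⟨a, rfl, ha⟩ := Group.mem_conjugatesOfSet_iff.1 hw
      obtain ⟨g, rfl⟩ := isConj_iff.1 ha
      exact h _ ((Lib.Involutions.Basic.orderOf_conj_eq g _).trans hi0')
    have hmem : (i0 : S) ∈ M.normalCore := Subgroup.normal_le_normalCore.2 hle
      (Subgroup.subset_normalClosure rfl)
    have := Subgroup.orderOf_dvd_natCard _ hmem
    rw [hi0'] at this
    exact Nat.not_even_iff_odd.2 hcore (even_iff_two_dvd.2 this)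
  have key : ∀ u v : S, orderOf u = 2 → orderOf v = 2 → u ∈ M → v ∉ M → IsConj u v := by
    intro u v hu hv huM hvM
    refine by_contra fun hnc => hvM ?_
    obtain ⟨hz, hzu, hzv⟩ := Lib.Involutions.Basic.central_invol hu hv
      (Lib.Involutions.Basic.even_of_not_isConj hu hv hnc)
    have hzM := hC u huM hu (Subgroup.mem_centralizer_singleton_iff.2 hzu.eq)
    exact hC _ hzM hz (Subgroup.mem_centralizer_singleton_iff.2 hzv.eq.symm)
  have hall : ∀ u : S, orderOf u = 2 → IsConj u t0 := fun u hu => by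
    obtain ⟨k, hk⟩ := hconjM u hu
    exact (isConj_iff.2 ⟨k, rfl⟩).trans
      (key _ _ ((Lib.Involutions.Basic.orderOf_conj_eq k u).trans hu) ht0 hk ht0M)
  have hconj : ∀ x y : S, orderOf x = 2 → orderOf y = 2 → IsConj x y :=
    fun x y hx hy => (hall x hx).trans (hall y hy).symm
  refine ⟨hconj, fun X I _ hI hN => ?_⟩
  have hIo : orderOf (I : S) = 2 := by rw [Subgroup.orderOf_coe]; exact hI
  have hSE : Cfsg.IsStronglyEmbedded M := by
    refine Lib.Involutions.StronglyEmbedded.of_forall_conj hMtop hM fun t htM ht g hg => ?_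
    -- a Sylow subgroup centralizing the image
    obtain ⟨z, hz⟩ : ∃ z : ↥(Subgroup.center ↥(P : Subgroup S)), orderOf z = 2 := by
      haveI : Nontrivial ↥(P : Subgroup S) := by
        by_contra hn
        rw [Subgroup.nontrivial_iff_ne_bot, not_not] at hn
        obtain ⟨a, ha⟩ := (show IsPGroup 2 ↥(Subgroup.zpowers t) from
          IsPGroup.of_card (n := 1) (by rw [Nat.card_zpowers, ht, pow_one])).exists_le_sylow
        obtain ⟨b, hb⟩ := MulAction.exists_smul_eq S P a
        have htmem : t ∈ (a : Subgroup S) := ha (Subgroup.mem_zpowers t)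
        rw [← hb, Sylow.coe_subgroup_smul, hn] at htmem
        obtain ⟨w, hw, hwt⟩ := (Subgroup.mem_smul_pointwise_iff_exists _ _ _).1 htmem
        rw [Subgroup.mem_bot.1 hw, smul_one] at hwt
        exact Lib.Involutions.Basic.invol_ne_one ht hwt.symm
      haveI := P.isPGroup'.center_nontrivial
      obtain ⟨k, hk, hcard⟩ := ((P.isPGroup'.to_subgroup (Subgroup.center ↥(P : Subgroup S)))).nontrivial_iff_card.1
        inferInstance
      exact exists_prime_orderOf_dvd_card' 2 (hcard ▸ dvd_pow_self 2 (by omega) :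
        2 ∣ Nat.card ↥(Subgroup.center ↥(P : Subgroup S)))
    have hzo : orderOf ((z : ↥(P : Subgroup S)) : S) = 2 := by
      rw [Subgroup.orderOf_coe, Subgroup.orderOf_coe, hz]
    have hgo := (Lib.Involutions.Basic.orderOf_conj_eq g t).trans ht
    obtain ⟨a, ha⟩ := isConj_iff.1 (hconj _ _ hzo hgo)
    set W := (P : Subgroup S).map (MulAut.conj a).toMonoidHom with hW
    have hWC : W ≤ Subgroup.centralizer ({g * t * g⁻¹} : Set S) := by
      rintro _ ⟨u, hu, rfl⟩
      refine Subgroup.mem_centralizer_singleton_iff.2 ?_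
      rw [← ha]
      exact (Commute.map (congrArg Subtype.val (Subgroup.mem_center_iff.1 z.2 ⟨u, hu⟩) :
        Commute u ((z : ↥(P : Subgroup S)) : S)) (MulAut.conj a)).eq
    have hW1 : W ≤ M := hWC.trans (hC _ hg hgo)
    have hW2 : W.map (MulAut.conj g⁻¹).toMonoidHom ≤ M := by
      rintro _ ⟨w, hw, rfl⟩
      refine hC t htM ht (Subgroup.mem_centralizer_singleton_iff.2 ?_)
      have h := Subgroup.mem_centralizer_singleton_iff.1 (hWC hw)
      show g⁻¹ * w * g⁻¹⁻¹ * t = t * (g⁻¹ * w * g⁻¹⁻¹)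
      calc g⁻¹ * w * g⁻¹⁻¹ * t = g⁻¹ * (w * (g * t * g⁻¹)) * g := by group
        _ = g⁻¹ * ((g * t * g⁻¹) * w) * g := by rw [h]
        _ = _ := by group
    have hWp : IsPGroup 2 W := P.isPGroup'.map _
    have hcard : ∀ b : S, Nat.card ↥((X : Subgroup M).map M.subtype) ≤
        Nat.card ↥(W.map (MulAut.conj b).toMonoidHom) := fun b => by
      rw [Subgroup.card_map_of_injective (f := (MulAut.conj b).toMonoidHom) (MulAut.conj b).injective, hW,
        Subgroup.card_map_of_injective (f := (MulAut.conj a).toMonoidHom) (MulAut.conj a).injective]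
      obtain ⟨Q, hQ⟩ := (X.isPGroup'.map M.subtype).exists_le_sylow
      exact (Subgroup.card_le_of_le hQ).trans (le_of_eq ((Nat.card_congr (Sylow.equiv Q P).toEquiv)))
    obtain ⟨m, hm, hle⟩ := Lib.Involutions.StronglyEmbedded.exists_conj_le_sylow X hWp hW1
    obtain ⟨m', hm', hle'⟩ :=
      Lib.Involutions.StronglyEmbedded.exists_conj_le_sylow X (hWp.map _) hW2
    rw [Subgroup.map_map, show (MulAut.conj m').toMonoidHom.comp (MulAut.conj g⁻¹).toMonoidHom =
      (MulAut.conj (m' * g⁻¹)).toMonoidHom by rw [map_mul]; rfl] at hle'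
    have e := Subgroup.eq_of_le_of_card_ge hle (hcard m)
    have e' := Subgroup.eq_of_le_of_card_ge hle' (hcard _)
    have hmem : m' * g⁻¹ * m⁻¹ ∈ M := hN (Subgroup.mem_normalizer_iff_map_conj_eq.2 (by
      conv_lhs => rw [← e]
      rw [Subgroup.map_map, ← e']
      congr 1
      refine MonoidHom.ext fun u => ?_
      show (m' * g⁻¹ * m⁻¹) * (m * u * m⁻¹) * (m' * g⁻¹ * m⁻¹)⁻¹ = (m' * g⁻¹) * u * (m' * g⁻¹)⁻¹
      group))
    have h4 := M.mul_mem (M.mul_mem (M.inv_mem hm') hmem) hm
    rw [show m'⁻¹ * (m' * g⁻¹ * m⁻¹) * m = g⁻¹ by group] at h4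
    exact (M.inv_mem_iff).1 h4
  refine ⟨fun x y hx hy => ?_, ?_⟩
  · rw [← Subgroup.orderOf_coe] at hx hy
    obtain ⟨g, hg⟩ := isConj_iff.1 (hconj _ _ hx hy)
    exact isConj_iff.2 ⟨⟨g, Lib.Involutions.StronglyEmbedded.mem_of_conj_mem hSE hx x.2 (hg ▸ y.2)⟩,
      Subtype.ext hg⟩
  · obtain ⟨D, hDM, hDodd, hD⟩ := Lib.Tech42.TransitiveCore.exists_odd_transitive hSE hIo I.2
    refine ⟨D.subgroupOf M, by rwa [Nat.card_congr (Subgroup.subgroupOfEquivOfLe hDM).toEquiv], fun m => ?_⟩
    obtain ⟨a, ha, hc⟩ := hD m m.2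
    refine ⟨⟨a, hDM ha⟩, ha, (⟨a, hDM ha⟩ : M)⁻¹ * m, ?_, (mul_inv_cancel_left _ m).symm⟩
    exact Subgroup.mem_centralizer_singleton_iff.2 (Subtype.ext hc.eq)

end Cfsg.Agent.S1905
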