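import Cfsg.Statements.S1907
import Cfsg.Agent.Lib.PLocal.Thompson
import Cfsg.Agent.Lib.PSolvable.HallHigman
open Cfsg
set_option autoImplicit false

set_option autoImplicit false
open Cfsg

namespace Cfsg.Agent.S1907

theorem eq_one_of_coprime {p : ℕ} [Fact p.Prime] {X : Type*} [Group X] {x : X} {n k : ℕ}
    (hn : n.Coprime p) (h1 : orderOf x ∣ n) (h2 : x ^ p ^ k = 1) : x = 1 :=
  orderOf_eq_one_iff.mp (Nat.eq_one_of_dvd_coprimes (hn.pow_right k) h1
    (orderOf_dvd_of_pow_eq_one h2))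

open scoped Pointwise in
/-- Two `p`-elements congruent modulo a normal `p'`-subgroup `K` are conjugate under `K`. -/
theorem exists_conj_of_coprime {p : ℕ} [hp : Fact p.Prime] {X : Type*} [Group X] [Finite X]
    (K : Subgroup X) [hKn : K.Normal] (hK : (Nat.card K).Coprime p) (y y' : X) (k : ℕ)
    (hy : y ^ p ^ k = 1) (hy' : y' ^ p ^ k = 1) (h : y⁻¹ * y' ∈ K) :
    ∃ c ∈ K, c * y * c⁻¹ = y' := by
  set M := Subgroup.zpowers y ⊔ K with hM
  have hyM : y ∈ M := Subgroup.mem_sup_left (Subgroup.mem_zpowers y)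
  have hy'M : y' ∈ M := by simpa using mul_mem hyM (Subgroup.mem_sup_right (S := Subgroup.zpowers y) h)
  set Y := (Subgroup.zpowers y).subgroupOf M
  have hYc : Nat.card Y = orderOf y := by
    rw [Nat.card_congr (Subgroup.subgroupOfEquivOfLe le_sup_left).toEquiv, Nat.card_zpowers]
  have hidx : ¬ p ∣ Y.index := by
    have h1 : Nat.card Y * Y.index ∣ orderOf y * Nat.card K := by
      rw [Subgroup.card_mul_index, ← Nat.card_zpowers]
      exact Lib.PSolvable.card_sup_dvd_mul (Subgroup.zpowers y) K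
    rw [hYc] at h1
    have h2 := Nat.dvd_of_mul_dvd_mul_left (orderOf_pos y) h1
    exact fun hd => hp.out.coprime_iff_not_dvd.mp hK.symm (hd.trans h2)
  obtain ⟨i, -, hi⟩ := (Nat.dvd_prime_pow hp.out).mp (orderOf_dvd_of_pow_eq_one hy)
  have hYp : IsPGroup p Y := IsPGroup.of_card (hYc.trans hi)
  set S := hYp.toSylow hidx
  obtain ⟨i', -, hi'⟩ := (Nat.dvd_prime_pow hp.out).mp (orderOf_dvd_of_pow_eq_one hy')
  have hY'p : IsPGroup p (Subgroup.zpowers (⟨y', hy'M⟩ : M)) :=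
    IsPGroup.of_card (by rw [Nat.card_zpowers, Subgroup.orderOf_mk, hi'])
  obtain ⟨T, hT⟩ := hY'p.exists_le_sylow
  obtain ⟨m, hm⟩ := MulAction.exists_smul_eq M S T
  have hmem : (⟨y', hy'M⟩ : M) ∈ (m • S : Sylow p M) := hm ▸ hT (Subgroup.mem_zpowers _)
  rw [Sylow.smul_def] at hmem
  obtain ⟨⟨z, hzM⟩, hz, hze⟩ := hmem
  obtain ⟨j, rfl⟩ := Subgroup.mem_zpowers_iff.mp hz
  obtain ⟨_, ⟨i2, rfl⟩, c, hc, hme⟩ := Subgroup.mem_sup_of_normal_right.mp m.2
  have he : y' = (m : X) * y ^ j * (m : X)⁻¹ := (congrArg Subtype.val hze).symm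
  refine ⟨y ^ i2 * c * (y ^ i2)⁻¹, hKn.conj_mem c hc _, ?_⟩
  have h3 : y' = (y ^ i2 * c * (y ^ i2)⁻¹) * y ^ j * (y ^ i2 * c * (y ^ i2)⁻¹)⁻¹ := by
    rw [he, ← hme]; group
  set e := y ^ i2 * c * (y ^ i2)⁻¹
  have he1 : e ∈ K := hKn.conj_mem c hc _
  have h4 : y⁻¹ * y ^ j ∈ K := by
    have h5 : y ^ j = e⁻¹ * (y * (y⁻¹ * y') * y⁻¹) * (y * e * y⁻¹) * y := by rw [h3]; group
    rw [h5]
    have h6 : e⁻¹ * (y * (y⁻¹ * y') * y⁻¹) * (y * e * y⁻¹) ∈ K :=
      mul_mem (mul_mem (inv_mem he1) (hKn.conj_mem _ h y)) (hKn.conj_mem _ he1 y)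
    simpa [mul_assoc] using hKn.conj_mem _ h6 y⁻¹
  have h7 : (y⁻¹ * y ^ j) ^ p ^ k = 1 := by
    rw [(Commute.self_zpow y j).inv_left.mul_pow, inv_pow, hy, inv_one, one_mul, ← zpow_natCast,
      ← zpow_mul, mul_comm, zpow_mul, zpow_natCast, hy, one_zpow]
  have h8 := eq_one_of_coprime hK (K.orderOf_dvd_natCard h4) h7
  have h9 : y ^ j = y := (inv_mul_eq_one.mp h8).symm
  rw [h9] at h3
  exact h3.symm

/-- Let P be a Sylow p-subgroup of a finite group G, H = P ∩ O_{p',p}(G), N = N_G(H) and D = O_{p'}(G). (a) If y is an element of p-power order of N and d ∈ D with d⁻¹ y d ∈ N, then d = d₁ d₂ with d₁ ∈ C_D(y) and d₂ ∈ C_D(H). (b) Two elements of P that are conjugate in G are conjugate in N. -/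
theorem result {G : Type*} [Group G] [Finite G] {p : ℕ} [Fact p.Prime] (P : Sylow p G) :
    (∀ y ∈ Subgroup.normalizer (((P : Subgroup G) ⊓ Cfsg.pPrimePCore p G : Subgroup G) : Set G), (∃ k : ℕ, orderOf y = p ^ k) →
      ∀ d ∈ Cfsg.pPrimeCore p G, d⁻¹ * y * d ∈ Subgroup.normalizer (((P : Subgroup G) ⊓ Cfsg.pPrimePCore p G : Subgroup G) : Set G) →
        ∃ d₁ ∈ Cfsg.pPrimeCore p G ⊓ Subgroup.centralizer ({y} : Set G),
          ∃ d₂ ∈ Cfsg.pPrimeCore p G ⊓ Subgroup.centralizer (((P : Subgroup G) ⊓ Cfsg.pPrimePCore p G : Subgroup G) : Set G), d = d₁ * d₂) ∧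
    ∀ x y : G, x ∈ (P : Subgroup G) → y ∈ (P : Subgroup G) → IsConj x y →
      ∃ n ∈ Subgroup.normalizer (((P : Subgroup G) ⊓ Cfsg.pPrimePCore p G : Subgroup G) : Set G), n * x * n⁻¹ = y := by
  set D := Cfsg.pPrimeCore p G with hD
  set H := (P : Subgroup G) ⊓ Cfsg.pPrimePCore p G with hH
  set N := Subgroup.normalizer (H : Set G) with hN
  have hp : p.Prime := Fact.out
  haveI hDn : D.Normal := inferInstance
  have hDcop : (Nat.card D).Coprime p := Lib.PSolvable.card_pPrimeCore_coprime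
  have hDP : ∀ x ∈ D, x ∈ (P : Subgroup G) → x = 1 := by
    intro x hxK hxP
    obtain ⟨j, hj⟩ := P.isPGroup' ⟨x, hxP⟩
    exact eq_one_of_coprime hDcop (D.orderOf_dvd_natCard hxK) (congrArg Subtype.val hj)
  have hDN : ∀ c ∈ D, c ∈ N → c ∈ Subgroup.centralizer (H : Set G) := by
    intro c hcD hcN
    rw [Subgroup.mem_centralizer_iff]
    intro h hh
    have h1 : c * h * c⁻¹ * h⁻¹ ∈ H :=
      mul_mem ((Subgroup.mem_normalizer_iff.mp hcN h).mp hh) (inv_mem hh)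
    have h2 : c * h * c⁻¹ * h⁻¹ ∈ D := by
      have := mul_mem hcD (hDn.conj_mem c⁻¹ (inv_mem hcD) h)
      simpa [mul_assoc] using this
    exact (eq_mul_of_mul_inv_eq (mul_inv_eq_one.mp (hDP _ h2 (Subgroup.mem_inf.mp h1).1))).symm
  have hCN : Subgroup.centralizer (H : Set G) ≤ N := Subgroup.centralizer_le_normalizer _
  have parta : ∀ y ∈ N, (∃ k : ℕ, orderOf y = p ^ k) → ∀ d ∈ D, d⁻¹ * y * d ∈ N →
        ∃ d₁ ∈ D ⊓ Subgroup.centralizer ({y} : Set G),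
          ∃ d₂ ∈ D ⊓ Subgroup.centralizer (H : Set G), d = d₁ * d₂ := by
    rintro y hy ⟨k, hk⟩ d hd hdy
    have hmem : y⁻¹ * (d⁻¹ * y * d) ∈ D := by
      have := mul_mem (hDn.conj_mem d⁻¹ (inv_mem hd) y⁻¹) hd
      simpa [mul_assoc] using this
    obtain ⟨c, hc, he⟩ := exists_conj_of_coprime (p := p) (X := ↥N) (D.subgroupOf N)
      (by
        rw [Nat.card_congr (Subgroup.inf_subgroupOf_right D N ▸
          (Subgroup.subgroupOfEquivOfLe (inf_le_right : D ⊓ N ≤ N)).toEquiv)]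
        exact Nat.Coprime.coprime_dvd_left (Subgroup.card_dvd_of_le inf_le_left) hDcop)
      ⟨y, hy⟩ ⟨d⁻¹ * y * d, hdy⟩ k
      (Subtype.ext (by simp [← hk, pow_orderOf_eq_one]))
      (Subtype.ext (by
        have : (d⁻¹ * y * d) ^ p ^ k = d⁻¹ * y ^ p ^ k * d := by
          simpa using conj_pow (a := d⁻¹) (b := y) (i := p ^ k)
        show (d⁻¹ * y * d) ^ p ^ k = 1
        rw [this, ← hk, pow_orderOf_eq_one]; simp))
      hmem
    have he' : (c : G) * y * (c : G)⁻¹ = d⁻¹ * y * d := congrArg Subtype.val he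
    refine ⟨d * c, Subgroup.mem_inf.mpr ⟨mul_mem hd hc, ?_⟩, (c : G)⁻¹,
      Subgroup.mem_inf.mpr ⟨inv_mem hc, inv_mem (hDN _ hc c.2)⟩, by group⟩
    rw [Subgroup.mem_centralizer_singleton_iff]
    calc d * c * y = d * ((c : G) * y * (c : G)⁻¹) * c := by group
      _ = y * (d * c) := by rw [he']; group
  refine ⟨parta, fun x y hx hy hxy => ?_⟩
  have hPN : (P : Subgroup G) ≤ N := by
    intro g hg
    rw [hN, Subgroup.mem_normalizer_iff]
    intro h
    have hgn := (Lib.PSolvable.pPrimePCore_normal' (p := p) (G := G)).conj_mem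
    rw [hH, Subgroup.mem_inf, Subgroup.mem_inf, Subgroup.mul_mem_cancel_right _ (inv_mem hg),
      Subgroup.mul_mem_cancel_left _ hg]
    refine and_congr_right fun _ => ⟨fun hh => hgn h hh g, fun hh => ?_⟩
    simpa [mul_assoc] using hgn _ hh g⁻¹
  have htop : D ⊔ N = ⊤ := by
    obtain ⟨j, hj⟩ := IsPGroup.iff_card.mp
      (Lib.PSolvable.isPGroup_pCore (p := p) (G := G ⧸ D))
    have hk : D.relIndex (Cfsg.pPrimePCore p G) = p ^ j := by
      have := Subgroup.relIndex_ker (K := Cfsg.pPrimePCore p G) (QuotientGroup.mk' D)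
      rw [QuotientGroup.ker_mk', Lib.PSolvable.map_pPrimePCore, hj] at this
      exact this
    rw [← top_le_iff, ← Lib.PLocal.normalizer_inf_sup_eq_top P (Cfsg.pPrimePCore p G)]
    exact sup_le le_sup_right ((Lib.PLocal.le_sup_inf_of_relIndex P
      Lib.PSolvable.pPrimeCore_le_pPrimePCore hk).trans
        (sup_le le_sup_left (le_sup_of_le_right Subgroup.le_normalizer)))
  obtain ⟨g, hg⟩ := isConj_iff.mp hxy
  obtain ⟨d, hd, n, hn, rfl⟩ := Subgroup.mem_sup_of_normal_left.mp (htop ▸ Subgroup.mem_top g)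
  have he : d⁻¹ * y * d = n * x * n⁻¹ := by rw [← hg]; group
  obtain ⟨j, hj⟩ := IsPGroup.iff_orderOf.mp P.isPGroup' ⟨y, hy⟩
  obtain ⟨d1, hd1, d2, hd2, rfl⟩ := parta y (hPN hy) ⟨j, by rw [← hj, Subgroup.orderOf_mk]⟩ d hd
    (he ▸ mul_mem (mul_mem hn (hPN hx)) (inv_mem hn))
  refine ⟨d2 * n, mul_mem (hCN (Subgroup.mem_inf.mp hd2).2) hn, ?_⟩
  calc d2 * n * x * (d2 * n)⁻¹ = d2 * (n * x * n⁻¹) * d2⁻¹ := by group
    _ = d1⁻¹ * (y * d1) := by rw [← he]; group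
    _ = y := by
      rw [← Subgroup.mem_centralizer_singleton_iff.mp (Subgroup.mem_inf.mp hd1).2]
      group

end Cfsg.Agent.S1907
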