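import Cfsg.Statements.S1910
import Cfsg.Agent.Lib.Tech42.TightPair

set_option autoImplicit false
open Cfsg

namespace Cfsg.Agent.S1910

/-- Let Q be a tightly embedded subgroup of a finite group G, g an element outside N_G(Q), T a nontrivial Sylow 2-subgroup of Q^g ∩ N_G(Q), and S a Sylow 2-subgroup of QT containing T. Then T ∩ Q = 1, and N_S(T) is the direct product of T and N_S(T) ∩ Q, with N_S(T) ∩ Q isomorphic to T. -/
theorem result {G : Type*} [Group G] [Finite G] (Q : Subgroup G) (hQ : Cfsg.IsTightlyEmbedded Q)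
    (g : G) (hg : g ∉ Subgroup.normalizer (Q : Set G))
    (T : Subgroup G) (hT1 : T ≠ ⊥) (hT : T ≤ Q.map (MulAut.conj g).toMonoidHom ⊓ Subgroup.normalizer (Q : Set G))
    (hTsyl : IsPGroup 2 T ∧ ¬ 2 ∣ T.relIndex (Q.map (MulAut.conj g).toMonoidHom ⊓ Subgroup.normalizer (Q : Set G)))
    (S : Subgroup G) (hTS : T ≤ S) (hS : S ≤ Q ⊔ T) (hSsyl : IsPGroup 2 S ∧ ¬ 2 ∣ S.relIndex (Q ⊔ T)) :
    T ⊓ Q = ⊥ ∧
      T ⊓ (S ⊓ Subgroup.normalizer (T : Set G) ⊓ Q) = ⊥ ∧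
      ⁅T, S ⊓ Subgroup.normalizer (T : Set G) ⊓ Q⁆ = ⊥ ∧
      T ⊔ (S ⊓ Subgroup.normalizer (T : Set G) ⊓ Q) = S ⊓ Subgroup.normalizer (T : Set G) ∧
      Nonempty (↥(S ⊓ Subgroup.normalizer (T : Set G) ⊓ Q) ≃* T) := by
  classical
  obtain ⟨-, hQodd⟩ := hQ
  set Q2 := Q.map (MulAut.conj g).toMonoidHom with hQ2
  have hTE1 : ∀ a : G, Q.map (MulAut.conj a).toMonoidHom ≠ Q →
      Odd (Nat.card ↥(Q ⊓ Q.map (MulAut.conj a).toMonoidHom)) :=
    fun a ha => hQodd a fun h => ha (Subgroup.mem_normalizer_iff_map_conj_eq.1 h)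
  have hTE2 : ∀ a : G, Q2.map (MulAut.conj a).toMonoidHom ≠ Q2 →
      Odd (Nat.card ↥(Q2 ⊓ Q2.map (MulAut.conj a).toMonoidHom)) := by
    intro a ha
    have e : Q2.map (MulAut.conj a).toMonoidHom =
        (Q.map (MulAut.conj (g⁻¹ * a * g)).toMonoidHom).map (MulAut.conj g).toMonoidHom := by
      rw [hQ2, Subgroup.map_map, Subgroup.map_map]
      congr 1
      refine MonoidHom.ext fun u => ?_
      show a * (g * u * g⁻¹) * a⁻¹ = g * ((g⁻¹ * a * g) * u * (g⁻¹ * a * g)⁻¹) * g⁻¹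
      group
    rw [e, hQ2, ← Subgroup.map_inf _ _ _ (MulAut.conj g).injective,
      Subgroup.card_map_of_injective (f := (MulAut.conj g).toMonoidHom) (MulAut.conj g).injective]
    exact hTE1 _ fun h => ha (e.trans (by rw [h]))
  have hodd : Odd (Nat.card ↥(Q ⊓ Q2)) := hQodd g hg
  have hodd' : Odd (Nat.card ↥(Q2 ⊓ Q)) := by rwa [inf_comm]
  obtain ⟨hTp, hTi⟩ := hTsyl
  have hTQ2 : T ≤ Q2 := hT.trans inf_le_left
  have hTN : T ≤ Subgroup.normalizer (Q : Set G) := hT.trans inf_le_right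
  have h1 : T ⊓ Q = ⊥ := Subgroup.eq_bot_iff_forall _ |>.2 fun u hu =>
    Lib.Tech42.TightPair.eq_one_of_odd hodd hTp ⟨hu.2, hTQ2 hu.1⟩ hu.1
  have h2 : T ⊓ (S ⊓ Subgroup.normalizer (T : Set G) ⊓ Q) = ⊥ :=
    le_bot_iff.1 ((inf_le_inf_left _ inf_le_right).trans h1.le)
  have hcomm : ∀ w ∈ S ⊓ Subgroup.normalizer (T : Set G) ⊓ Q, ∀ t ∈ T, t * w = w * t := by
    rintro w ⟨⟨hwS, hwN⟩, hwQ⟩ t ht
    have ha : t * w * t⁻¹ * w⁻¹ ∈ T := by
      rw [show t * w * t⁻¹ * w⁻¹ = t * (w * t⁻¹ * w⁻¹) by group]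
      exact T.mul_mem ht ((Subgroup.mem_normalizer_iff.1 hwN _).1 (T.inv_mem ht))
    have hb : t * w * t⁻¹ * w⁻¹ ∈ Q :=
      Q.mul_mem ((Subgroup.mem_normalizer_iff.1 (hTN ht) w).1 hwQ) (Q.inv_mem hwQ)
    have : t * w * t⁻¹ * w⁻¹ ∈ (⊥ : Subgroup G) := h1 ▸ ⟨ha, hb⟩
    exact mul_inv_eq_iff_eq_mul.1 (mul_inv_eq_one.1 (Subgroup.mem_bot.1 this))
  have h3 : ⁅T, S ⊓ Subgroup.normalizer (T : Set G) ⊓ Q⁆ = ⊥ :=
    Subgroup.commutator_eq_bot_iff_le_centralizer.2 fun t ht =>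
      Subgroup.mem_centralizer_iff.2 fun w hw => (hcomm w hw t ht).symm
  have h4 : T ⊔ (S ⊓ Subgroup.normalizer (T : Set G) ⊓ Q) = S ⊓ Subgroup.normalizer (T : Set G) := by
    refine le_antisymm (sup_le (le_inf hTS Subgroup.le_normalizer) inf_le_left) ?_
    rintro s ⟨hsS, hsN⟩
    obtain ⟨q, hq, t, ht, rfl⟩ := Lib.Tech42.TightPair.decomp hTN (hS hsS)
    refine Subgroup.mul_mem _ (Subgroup.mem_sup_right ⟨⟨?_, ?_⟩, hq⟩) (Subgroup.mem_sup_left ht)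
    · have := S.mul_mem hsS (S.inv_mem (hTS ht))
      rwa [mul_inv_cancel_right] at this
    · have := Subgroup.mul_mem _ hsN (Subgroup.inv_mem _ (Subgroup.le_normalizer ht))
      rwa [mul_inv_cancel_right] at this
  refine ⟨h1, h2, h3, h4, ?_⟩
  -- the Sylow subgroup `P = S ⊓ Q`
  obtain ⟨hSp, hSi⟩ := hSsyl
  have hQTN : Q ⊔ T ≤ Subgroup.normalizer (Q : Set G) := sup_le Subgroup.le_normalizer hTN
  have hPi : ¬ 2 ∣ (S ⊓ Q).relIndex Q :=
    Lib.Tech42.TightPair.sylow_inf hSp hS le_sup_left hQTN hSi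
  have hPp : IsPGroup 2 ↥(S ⊓ Q) := hSp.to_le inf_le_left
  have hTP : T ≤ Subgroup.normalizer ((S ⊓ Q : Subgroup G) : Set G) := fun t ht =>
    Subgroup.mem_normalizer_iff.2 fun u => and_congr
      (Subgroup.mem_normalizer_iff.1 (Subgroup.le_normalizer (hTS ht)) u)
      (Subgroup.mem_normalizer_iff.1 (hTN ht) u)
  have hWeq : S ⊓ Subgroup.normalizer (T : Set G) ⊓ Q = S ⊓ Q ⊓ Subgroup.centralizer (T : Set G) := by
    ext w
    exact ⟨fun h => ⟨⟨h.1.1, h.2⟩, Subgroup.mem_centralizer_iff.2 (hcomm w h)⟩,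
      fun h => ⟨⟨h.1.1, Subgroup.centralizer_le_normalizer _ h.2⟩, h.1.2⟩⟩
  have hemb : ∀ (a : G) (V P' : Subgroup G), IsPGroup 2 ↥V → IsPGroup 2 ↥P' →
      V ≤ Q.map (MulAut.conj a).toMonoidHom → P' ≤ Q → ¬ 2 ∣ P'.relIndex Q →
      ∃ f : ↥V →* ↥P', Function.Injective f := by
    intro a V P' hV hP' hVQ hP'Q hi
    set V' := (V.map (MulAut.conj a⁻¹).toMonoidHom).subgroupOf Q
    have hVQ' : V.map (MulAut.conj a⁻¹).toMonoidHom ≤ Q := by
      rintro _ ⟨v, hv, rfl⟩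
      obtain ⟨q, hq, rfl⟩ := hVQ hv
      show a⁻¹ * (a * q * a⁻¹) * a⁻¹⁻¹ ∈ Q
      rwa [show a⁻¹ * (a * q * a⁻¹) * a⁻¹⁻¹ = q by group]
    obtain ⟨P1, hP1⟩ := ((hV.map (MulAut.conj a⁻¹).toMonoidHom).comap_of_injective Q.subtype Q.subtype_injective).exists_le_sylow
    set e1 := (hP'.comap_of_injective Q.subtype Q.subtype_injective).toSylow hi
    obtain ⟨e⟩ : Nonempty (↥(P1 : Subgroup ↥Q) ≃* ↥(P'.subgroupOf Q)) := ⟨Sylow.equiv P1 e1⟩
    refine ⟨(Subgroup.subgroupOfEquivOfLe hP'Q).toMonoidHom.comp (e.toMonoidHom.comp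
      ((Subgroup.inclusion hP1).comp ((Subgroup.subgroupOfEquivOfLe hVQ').symm.toMonoidHom.comp
        (V.equivMapOfInjective _ (MulAut.conj a⁻¹).injective).toMonoidHom))), ?_⟩
    exact (Subgroup.subgroupOfEquivOfLe hP'Q).injective.comp (e.injective.comp
      ((Subgroup.inclusion_injective hP1).comp ((Subgroup.subgroupOfEquivOfLe hVQ').symm.injective.comp
        (V.equivMapOfInjective _ (MulAut.conj a⁻¹).injective).injective)))
  set W := S ⊓ Q ⊓ Subgroup.centralizer (T : Set G) with hW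
  obtain ⟨f, hf⟩ : ∃ f : ↥T →* ↥W, Function.Injective f := Lib.Tech42.TightPair.half hTE2 hodd hTp hTQ2 hPp inf_le_right hTP
    (hemb g T _ hTp hPp hTQ2 inf_le_right hPi)
  -- the other side
  obtain ⟨t0, ht0, ht01⟩ := (Subgroup.bot_or_exists_ne_one T).resolve_left hT1
  have hW1 : W ≠ ⊥ := by
    intro h
    refine ht01 ?_
    have h5 : f ⟨t0, ht0⟩ = 1 := Subtype.ext (Subgroup.mem_bot.1 (h ▸ (f ⟨t0, ht0⟩).2))
    exact congrArg Subtype.val ((injective_iff_map_eq_one f).1 hf _ h5)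
  have hCN : ∀ (V K : Subgroup G), IsPGroup 2 ↥V → V ≠ ⊥ → V ≤ K →
      (∀ a : G, K.map (MulAut.conj a).toMonoidHom ≠ K →
        Odd (Nat.card ↥(K ⊓ K.map (MulAut.conj a).toMonoidHom))) →
      Subgroup.centralizer (V : Set G) ≤ Subgroup.normalizer (K : Set G) := by
    intro V K hV hV1 hVK hTE c hc
    obtain ⟨v, hv, hv1⟩ := (Subgroup.bot_or_exists_ne_one V).resolve_left hV1
    refine Subgroup.mem_normalizer_iff_map_conj_eq.2 (by_contra fun hne => hv1 ?_)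
    refine Lib.Tech42.TightPair.eq_one_of_odd (hTE c hne) hV ⟨hVK hv, ⟨v, hVK hv, ?_⟩⟩ hv
    show c * v * c⁻¹ = v
    rw [← Subgroup.mem_centralizer_iff.1 hc v hv, mul_inv_cancel_right]
  set A := Q ⊓ Subgroup.normalizer (Q2 : Set G) with hA
  have hTA : T ≤ Subgroup.normalizer (A : Set G) := fun t ht =>
    Subgroup.mem_normalizer_iff.2 fun u => and_congr (Subgroup.mem_normalizer_iff.1 (hTN ht) u)
      (Subgroup.mem_normalizer_iff.1 (Subgroup.le_normalizer (Subgroup.le_normalizer (hTQ2 ht))) u)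
  have hWA : W ≤ A := le_inf (inf_le_left.trans inf_le_right)
    (inf_le_right.trans (hCN T Q2 hTp hT1 hTQ2 hTE2))
  have hWTp : IsPGroup 2 ↥(W ⊔ T) :=
    (hPp.to_le inf_le_left).to_sup_of_normal_left' hTp fun t ht => Subgroup.centralizer_le_normalizer _
      (Subgroup.mem_centralizer_iff.2 fun w hw => (Subgroup.mem_centralizer_iff.1 hw.2 t ht).symm)
  obtain ⟨R, hR⟩ := (hWTp.comap_of_injective (A ⊔ T).subtype (A ⊔ T).subtype_injective).exists_le_sylow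
  set R0 := (R : Subgroup ↥(A ⊔ T)).map (A ⊔ T).subtype with hR0
  set U := R0 ⊓ A with hU
  have hR0p : IsPGroup 2 ↥R0 := R.isPGroup'.map _
  have hmemR : ∀ u ∈ W ⊔ T, u ∈ R0 := fun u hu =>
    ⟨⟨u, sup_le_sup_right hWA T hu⟩, hR hu, rfl⟩
  have hUp : IsPGroup 2 ↥U := hR0p.to_le inf_le_left
  have hWU : W ≤ U := le_inf (fun u hu => hmemR u (Subgroup.mem_sup_left hu)) hWA
  have hUT : ∀ u ∈ U, ∀ t ∈ T, t * u = u * t := by
    intro u hu t ht
    have ha : t * u * t⁻¹ * u⁻¹ ∈ R0 :=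
      R0.mul_mem (R0.mul_mem (R0.mul_mem (hmemR t (Subgroup.mem_sup_right ht)) hu.1)
        (R0.inv_mem (hmemR t (Subgroup.mem_sup_right ht)))) (R0.inv_mem hu.1)
    have hb : t * u * t⁻¹ * u⁻¹ ∈ Q :=
      Q.mul_mem ((Subgroup.mem_normalizer_iff.1 (hTN ht) u).1 hu.2.1) (Q.inv_mem hu.2.1)
    have hc : t * u * t⁻¹ * u⁻¹ ∈ Q2 := by
      rw [show t * u * t⁻¹ * u⁻¹ = t * (u * t⁻¹ * u⁻¹) by group]
      exact Q2.mul_mem (hTQ2 ht) ((Subgroup.mem_normalizer_iff.1 hu.2.2 _).1 (Q2.inv_mem (hTQ2 ht)))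
    exact mul_inv_eq_iff_eq_mul.1 (mul_inv_eq_one.1
      (Lib.Tech42.TightPair.eq_one_of_odd hodd hR0p ⟨hb, hc⟩ ha))
  have hU1 : U ≠ ⊥ := fun h => hW1 (le_bot_iff.1 (hWU.trans h.le))
  have hUN2 : U ≤ Subgroup.normalizer (Q2 : Set G) := inf_le_right.trans inf_le_right
  obtain ⟨P2, hP2p, hP2Q, hP2i, hUP2⟩ := Lib.Tech42.TightPair.invariant_sylow hUp hUN2
  have hemb2 : ∃ f : ↥U →* ↥P2, Function.Injective f := by
    have hUQ : U ≤ Q.map (MulAut.conj (1 : G)).toMonoidHom := fun u hu => ⟨u, hu.2.1, by simp⟩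
    set P3 := P2.map (MulAut.conj g⁻¹).toMonoidHom
    have hback : Q2.map (MulAut.conj g⁻¹).toMonoidHom = Q := by
      ext u
      constructor
      · rintro ⟨_, ⟨q, hq, rfl⟩, rfl⟩
        show g⁻¹ * (g * q * g⁻¹) * g⁻¹⁻¹ ∈ Q
        rwa [show g⁻¹ * (g * q * g⁻¹) * g⁻¹⁻¹ = q by group]
      · intro hu
        refine ⟨g * u * g⁻¹, ⟨u, hu, rfl⟩, ?_⟩
        show g⁻¹ * (g * u * g⁻¹) * g⁻¹⁻¹ = u
        group
    obtain ⟨f0, hf0⟩ := hemb 1 U P3 hUp (hP2p.map _) hUQ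
      ((Subgroup.map_mono hP2Q).trans hback.le)
      (by rwa [← hback, Subgroup.relIndex_map_map_of_injective _ _ (MulAut.conj g⁻¹).injective])
    exact ⟨(P2.equivMapOfInjective _ (MulAut.conj g⁻¹).injective).symm.toMonoidHom.comp f0,
      (P2.equivMapOfInjective _ (MulAut.conj g⁻¹).injective).symm.injective.comp hf0⟩
  obtain ⟨f', hf'⟩ := Lib.Tech42.TightPair.half hTE1 hodd' hUp (inf_le_right.trans inf_le_left) hP2p hP2Q
    hUP2 hemb2
  have hle : Nat.card ↥(P2 ⊓ Subgroup.centralizer (U : Set G)) ≤ Nat.card ↥T := by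
    have hsub : P2 ⊓ Subgroup.centralizer (U : Set G) ≤ Q2 ⊓ Subgroup.normalizer (Q : Set G) :=
      inf_le_inf hP2Q (hCN U Q hUp hU1 (inf_le_right.trans inf_le_left) hTE1)
    obtain ⟨k, hk⟩ := IsPGroup.iff_card.1 (hP2p.to_le
      (inf_le_left : P2 ⊓ Subgroup.centralizer (U : Set G) ≤ P2))
    refine Nat.le_of_dvd Nat.card_pos ?_
    have hd := Subgroup.card_dvd_of_le hsub
    rw [← Subgroup.card_mul_index (T.subgroupOf (Q2 ⊓ Subgroup.normalizer (Q : Set G))),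
      Nat.card_congr (Subgroup.subgroupOfEquivOfLe hT).toEquiv, hk] at hd
    rw [hk]
    exact (((Nat.prime_two.coprime_iff_not_dvd).2 hTi).pow_left k).dvd_of_dvd_mul_right hd
  have hcard : Nat.card ↥W ≤ Nat.card ↥T :=
    (Subgroup.card_le_of_le hWU).trans ((Nat.card_le_card_of_injective f' hf').trans hle)
  have hbij : Function.Bijective f := by
    rw [Nat.bijective_iff_injective_and_card]
    exact ⟨hf, le_antisymm (Nat.card_le_card_of_injective f hf) hcard⟩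
  exact ⟨((MulEquiv.ofBijective f hbij).trans (MulEquiv.subgroupCongr hWeq.symm)).symm⟩

end Cfsg.Agent.S1910
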