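import Cfsg.Statements.S1914
import Cfsg.Agent.Lib.InvFourCyclic.Existence
import Cfsg.Agent.Lib.Components.Basic

set_option autoImplicit false
open Cfsg

namespace Cfsg.Agent.S1914

open Subgroup Cfsg.Agent.Lib

/-- Perfect groups have no cyclic Sylow 2-subgroup of order greater than one. -/
theorem not_cyclic_sylow {K : Type*} [Group K] [Finite K] (hK : commutator K = ⊤) (P : Sylow 2 K)
    (h2 : 2 ∣ Nat.card K) (hc : IsCyclic (P : Subgroup K)) : False := by
  haveI : Fact (Nat.Prime 2) := ⟨Nat.prime_two⟩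
  haveI := hc
  have hN := IsCyclic.normalizer_le_centralizer
    (by rw [Nat.minFac_eq_two_iff]; exact h2 : (Nat.card K).minFac = 2) hc
  have hcompl := MonoidHom.ker_transferSylow_isComplement' P hN
  have hP : 2 ∣ Nat.card (P : Subgroup K) := P.dvd_card_of_dvd_card h2
  have hcard := hcompl.card_mul
  letI : CommGroup (P : Subgroup K) := IsCyclic.commGroup
  have hker : (MonoidHom.transferSylow P hN).ker = ⊤ := by
    rw [eq_top_iff, ← hK]
    exact Abelianization.commutator_subset_ker _
  rw [hker, Subgroup.card_top] at hcard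
  have hpos : 0 < Nat.card K := Nat.card_pos
  have : Nat.card (P : Subgroup K) = 1 := Nat.eq_of_mul_eq_mul_left hpos (by rw [hcard, mul_one])
  omega

/-- Let A be a semisimple subgroup (a central product of quasisimple groups, A = E(A)) of a finite group and t an involution normalizing A such that the Sylow 2-subgroups of C_A(t) are cyclic of order 4. Then A has 2-rank exactly 1. -/
theorem result {G : Type*} [Group G] [Finite G] (A : Subgroup G) (hA : Cfsg.layer ↥A = ⊤)
    (t : G) (ht : orderOf t = 2) (htA : t ∈ Subgroup.normalizer (A : Set G))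
    (hC : ∀ R : Sylow 2 ↥(A ⊓ Subgroup.centralizer ({t} : Set G)), IsCyclic R ∧ Nat.card R = 4) :
    Cfsg.PRankLE 2 1 A ∧ ¬ Cfsg.PRankLE 2 0 A := by
  classical
  haveI : Fact (Nat.Prime 2) := ⟨Nat.prime_two⟩
  have hperf : commutator ↥A = ⊤ := by
    rw [_root_.commutator_def, ← hA]
    exact Components.Layer.commutator_layer_self
  have ht1 : t ≠ 1 := fun h => by rw [h, orderOf_one] at ht; norm_num at ht
  have htt : t * t = 1 := by rw [← pow_two, ← ht, pow_orderOf_eq_one]
  set C : Subgroup G := A ⊓ centralizer ({t} : Set G) with hCdef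
  obtain ⟨R⟩ : Nonempty (Sylow 2 ↥C) := inferInstance
  obtain ⟨hRc, hR4⟩ := hC R
  obtain ⟨s₀, hs₀⟩ := (R : Subgroup ↥C).isCyclic_iff_exists_zpowers_eq_top.1 hRc
  obtain ⟨s, hsC⟩ := s₀
  have hsA : s ∈ A := hsC.1
  have hst : s * t = t * s := mem_centralizer_singleton_iff.1 hsC.2
  have hs : orderOf s = 4 := by
    rw [← hR4, ← hs₀, Nat.card_zpowers, Subgroup.orderOf_mk]
  have hsmall : ∀ P : Subgroup G, IsPGroup 2 P → P ≤ C → IsCyclic P ∧ Nat.card P ≤ 4 := by
    intro P hP hPC
    obtain ⟨R', hR'⟩ := (hP.comap_subtype (K := C)).exists_le_sylow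
    obtain ⟨h1, h2⟩ := hC R'
    haveI := h1
    have e := Subgroup.subgroupOfEquivOfLe hPC
    refine ⟨?_, ?_⟩
    · haveI : IsCyclic (P.subgroupOf C) := isCyclic_of_injective (Subgroup.inclusion hR')
        (Subgroup.inclusion_injective hR')
      exact e.isCyclic.1 inferInstance
    · rw [← Nat.card_congr e.toEquiv, ← h2]
      exact Subgroup.card_le_of_le hR'
  have h2A : 2 ∣ Nat.card A := by
    have h1 : orderOf (⟨s, hsA⟩ : A) ∣ Nat.card A := orderOf_dvd_natCard _
    rw [Subgroup.orderOf_mk, hs] at h1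
    omega
  -- `t` does not lie in `A`
  have htnA : t ∉ A := by
    intro htA'
    have hsp : IsPGroup 2 (zpowers (⟨s, hsA⟩ : A)) :=
      IsPGroup.of_card (n := 2) (by rw [Nat.card_zpowers, Subgroup.orderOf_mk, hs]; norm_num)
    obtain ⟨P, hP⟩ := hsp.exists_le_sylow
    refine not_cyclic_sylow hperf P h2A ?_
    set t' : A := ⟨t, htA'⟩
    have hc : ∀ Q : Subgroup A, IsPGroup 2 Q → (∀ a ∈ Q, a * t' = t' * a) →
        IsCyclic Q ∧ Nat.card Q ≤ 4 := by
      intro Q hQ hQt
      have h := hsmall (Q.map A.subtype) (hQ.map _) (by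
        rintro _ ⟨a, ha, rfl⟩
        exact ⟨a.2, mem_centralizer_singleton_iff.2 (congrArg Subtype.val (hQt a ha))⟩)
      haveI := h.1
      refine ⟨(Q.equivMapOfInjective _ A.subtype_injective).isCyclic.2 h.1, ?_⟩
      have h2 := h.2
      rwa [Subgroup.card_map_of_injective A.subtype_injective] at h2
    have hcs : Commute (⟨s, hsA⟩ : A) t' := Subtype.ext hst
    set Z := zpowers (⟨s, hsA⟩ : A) with hZdef
    have hZc : Nat.card Z = 4 := by rw [Nat.card_zpowers, Subgroup.orderOf_mk, hs]
    have htZ : t' ∈ Z := by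
      have hto : orderOf t' = 2 := by rw [← ht]; exact Subgroup.orderOf_mk t htA'
      have hsup : IsPGroup 2 ↥(Z ⊔ zpowers t') := IsPGroup.to_sup_of_normal_right' hsp
        (IsPGroup.of_card (n := 1) (by rw [Nat.card_zpowers, hto]; norm_num)) (by
          refine zpowers_le.2 (centralizer_le_normalizer _ ?_)
          rw [Subgroup.mem_centralizer_iff]
          intro a ha
          obtain ⟨i, rfl⟩ := mem_zpowers_iff.1 ha
          exact (hcs.symm.zpow_left i).eq)
      have hct : ∀ a ∈ Z ⊔ zpowers t', a * t' = t' * a := by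
        have hle : Z ⊔ zpowers t' ≤ centralizer ({t'} : Set A) :=
          sup_le (zpowers_le.2 (mem_centralizer_singleton_iff.2 hcs.eq))
            (zpowers_le.2 (mem_centralizer_singleton_iff.2 rfl))
        exact fun a ha => mem_centralizer_singleton_iff.1 (hle ha)
      have := eq_of_le_of_card_ge (le_sup_left : Z ≤ Z ⊔ zpowers t')
        (by rw [hZc]; exact (hc _ hsup hct).2)
      rw [this]
      exact mem_sup_right (mem_zpowers t')
    have hPZ : Z = (P : Subgroup A) := by
      refine eq_of_le_of_not_lt hP fun hlt => ?_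
      obtain ⟨y, ⟨hyP, hyN⟩, hyZ⟩ :=
        SetLike.exists_of_lt (Fusion.Alperin.lt_inf_normalizer P.2 hlt)
      have hyt : y * t' * y⁻¹ = t' := by
        haveI : IsCyclic Z := inferInstanceAs (IsCyclic (zpowers (⟨s, hsA⟩ : A)))
        have h1 : y * t' * y⁻¹ ∈ Z := (mem_normalizer_iff.1 hyN t').1 htZ
        by_contra hne
        have := Fintype.ofFinite Z
        have hle := IsCyclic.card_pow_eq_one_le (α := Z) (n := 2) (by norm_num)
        have ht't' : t' * t' = 1 := Subtype.ext htt
        have ht'1 : t' ≠ 1 := fun h => ht1 (congrArg Subtype.val h)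
        have hy1 : y * t' * y⁻¹ ≠ 1 := fun h => ht'1 (conj_eq_one_iff.1 h)
        have hsub : ({1, ⟨_, h1⟩, ⟨t', htZ⟩} : Finset Z) ⊆
            Finset.univ.filter (fun w : Z => w ^ 2 = 1) := by
          intro w hw
          simp only [Finset.mem_insert, Finset.mem_singleton] at hw
          rw [Finset.mem_filter]
          refine ⟨Finset.mem_univ _, Subtype.ext ?_⟩
          rcases hw with rfl | rfl | rfl
          · simp
          · show (y * t' * y⁻¹) ^ 2 = 1
            rw [conj_pow, pow_two, ht't', mul_one, mul_inv_cancel]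
          · show t' ^ 2 = 1
            rw [pow_two, ht't']
        have h3 := (Finset.card_le_card hsub).trans hle
        rw [Finset.card_insert_of_notMem (by simp [Subtype.ext_iff, Ne.symm hy1, Ne.symm ht'1]),
          Finset.card_insert_of_notMem (by simp [Subtype.ext_iff, hne]), Finset.card_singleton] at h3
        omega
      apply hyZ
      have hct : ∀ a ∈ (P : Subgroup A) ⊓ centralizer ({t'} : Set A), a * t' = t' * a :=
        fun a ha => mem_centralizer_singleton_iff.1 ha.2
      have hle : Z ≤ (P : Subgroup A) ⊓ centralizer ({t'} : Set A) :=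
        le_inf hP (zpowers_le.2 (mem_centralizer_singleton_iff.2 hcs.eq))
      rw [eq_of_le_of_card_ge hle (by rw [hZc]; exact (hc _ (P.2.to_le inf_le_left) hct).2)]
      exact ⟨hyP, mem_centralizer_singleton_iff.2 (mul_inv_eq_iff_eq_mul.1 hyt)⟩
    rw [← hPZ]
    exact inferInstanceAs (IsCyclic (zpowers (⟨s, hsA⟩ : A)))
  -- the group `A⟨t⟩`
  set H : Subgroup G := A ⊔ zpowers t with hH
  have htN : zpowers t ≤ normalizer (A : Set G) := zpowers_le.2 htA
  have hAH : A ≤ H := le_sup_left
  have htH : t ∈ H := mem_sup_right (mem_zpowers t)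
  let AX : Subgroup ↥H := A.subgroupOf H
  have hAn : AX.Normal := (normal_subgroupOf_iff_le_normalizer le_sup_left).2
    (sup_le le_normalizer htN)
  have hmem : ∀ g ∈ H, g ∈ A ∨ t * g ∈ A := by
    intro g hg
    have hg' : g ∈ zpowers t ⊔ A := by rw [sup_comm]; exact hg
    rw [← SetLike.mem_coe, coe_mul_of_left_le_normalizer_right (zpowers t) A htN] at hg'
    obtain ⟨u, hu, a, ha, rfl⟩ := Set.mem_mul.1 hg'
    obtain ⟨i, rfl⟩ := mem_zpowers_iff.1 hu
    obtain ⟨l, rfl | rfl⟩ := Int.even_or_odd' i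
    · left; rw [zpow_mul, zpow_two, htt, one_zpow, one_mul]; exact ha
    · right
      rw [zpow_add, zpow_mul, zpow_two, htt, one_zpow, one_mul, zpow_one, ← mul_assoc, htt,
        one_mul]
      exact ha
  have hidx : AX.index = 2 := by
    rw [index_eq_two_iff']
    refine ⟨⟨t, htH⟩, fun ⟨g, hg⟩ => ?_⟩
    simp only [AX, mem_subgroupOf, Subgroup.coe_mul]
    rcases hmem g hg with h | h
    · refine Or.inr ⟨h, fun h' => htnA ?_⟩
      simpa using A.mul_mem h' (A.inv_mem h)
    · refine Or.inl ⟨h, fun h' => htnA ?_⟩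
      simpa using A.mul_mem h (A.inv_mem h')
  let e : ↥AX ≃* ↥A := subgroupOfEquivOfLe hAH
  have hperfX : commutator ↥AX = ⊤ := by
    rw [_root_.commutator_def, ← (MonoidHom.range_eq_top (f := e.symm.toMonoidHom)).2 e.symm.surjective,
      MonoidHom.range_eq_map, ← map_commutator, ← _root_.commutator_def, hperf]
  let t₁ : ↥H := ⟨t, htH⟩
  let s₁ : ↥H := ⟨s, hAH hsA⟩
  have hcomm : Commute s₁ t₁ := Subtype.ext hst
  have hQ : IsPGroup 2 ↥(zpowers t₁ ⊔ zpowers s₁) := IsPGroup.to_sup_of_normal_right'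
    (IsPGroup.of_card (n := 1) (by rw [Nat.card_zpowers, Subgroup.orderOf_mk, ht]; norm_num))
    (IsPGroup.of_card (n := 2) (by rw [Nat.card_zpowers, Subgroup.orderOf_mk, hs]; norm_num))
    (by
      refine zpowers_le.2 (centralizer_le_normalizer _ ?_)
      rw [Subgroup.mem_centralizer_iff]
      intro a ha
      obtain ⟨i, rfl⟩ := mem_zpowers_iff.1 ha
      exact (hcomm.zpow_left i).eq)
  obtain ⟨T, hT⟩ := hQ.exists_le_sylow
  have hTmax : ∀ P : Subgroup ↥H, IsPGroup 2 P → (T : Subgroup ↥H) ≤ P → P = T :=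
    fun P hP hle => T.is_maximal' hP hle
  have hconj : ∀ P : Subgroup ↥H, IsPGroup 2 P → P ≤ AX →
      ∃ g : ↥H, ∀ x ∈ P, g * x * g⁻¹ ∈ (T : Subgroup ↥H) ⊓ AX := by
    intro P hP hPA
    obtain ⟨g, -, hg⟩ := Fusion.Alperin.exists_conj_le_of_maximal T.2
      (le_top : (T : Subgroup ↥H) ≤ ⊤) (fun U hU _ hle => hTmax U hU hle) hP le_top
    refine ⟨g, fun x hx => ⟨hg (Fusion.Alperin.mem_conjS.2 ?_), hAn.conj_mem x (hPA hx) g⟩⟩
    rwa [show g⁻¹ * (g * x * g⁻¹) * g = x by group]
  let D : InvFourCyclic.Setup ↥H :=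
    { A := AX, T := T, t := t₁, s := s₁, An := hAn, hAX := hidx, perfect := hperfX
      tt := Subtype.ext htt, tA := fun h => htnA (mem_subgroupOf.1 h)
      tT := hT (mem_sup_left (mem_zpowers t₁)), Tp := T.2, Tmax := hTmax
      Tmax' := by
        intro P hP hPA hle
        obtain ⟨g, hg⟩ := hconj P hP hPA
        refine (eq_of_le_of_card_ge hle ?_).symm
        rw [← Fusion.Alperin.card_conjS g P]
        refine Subgroup.card_le_of_le fun x hx => ?_
        have := hg _ (Fusion.Alperin.mem_conjS.1 hx)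
        rwa [show g * (g⁻¹ * x * g) * g⁻¹ = x by group] at this
      sT := hT (mem_sup_right (mem_zpowers s₁))
      sA := mem_subgroupOf.2 hsA
      hs := by rw [Subgroup.orderOf_mk, hs]
      st := hcomm.eq.symm
      small := by
        intro P hP hPA hPt
        have h := hsmall (P.map H.subtype) (hP.map _) (by
          rintro _ ⟨a, ha, rfl⟩
          exact ⟨mem_subgroupOf.1 (hPA ha),
            mem_centralizer_singleton_iff.2 (congrArg Subtype.val (hPt a ha)).symm⟩)
        haveI := h.1
        refine ⟨(P.equivMapOfInjective _ H.subtype_injective).isCyclic.2 h.1, ?_⟩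
        have h2 := h.2
        rwa [Subgroup.card_map_of_injective H.subtype_injective] at h2 }
  refine ⟨fun B hB hB2 => ?_, fun h0 => ?_⟩
  · let f : ↥A →* ↥H := Subgroup.inclusion hAH
    have hBp : IsPGroup 2 (B.map f) := IsPGroup.map (fun b => ⟨1, Subtype.ext (by
      simpa using hB2 b b.2)⟩) f
    obtain ⟨g, hg⟩ := hconj (B.map f) hBp (by
      rintro _ ⟨b, _, rfl⟩
      exact mem_subgroupOf.2 b.2)
    have key : ∀ b ∈ B, b ≠ 1 → g * f b * g⁻¹ = D.z := by
      intro b hb hb1
      refine D.unique_invol (hg _ (mem_map_of_mem f hb)) ?_ fun h => hb1 ?_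
      · rw [show g * f b * g⁻¹ * (g * f b * g⁻¹) = g * (f b * f b) * g⁻¹ by group, ← map_mul,
          ← pow_two, hB2 b hb, map_one, mul_one, mul_inv_cancel]
      · exact Subgroup.inclusion_injective hAH ((conj_eq_one_iff.1 h).trans (map_one f).symm)
    rw [pow_one]
    by_cases h : ∃ b ∈ B, b ≠ 1
    · obtain ⟨b, hb, hb1⟩ := h
      have hsub : (B : Set ↥A) ⊆ {1, b} := fun c hc => by
        by_cases hc1 : c = 1
        · exact Or.inl hc1
        · exact Or.inr (Subgroup.inclusion_injective hAH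
            (mul_left_cancel (mul_right_cancel ((key c hc hc1).trans (key b hb hb1).symm))))
      refine (Nat.card_mono (Set.toFinite _) hsub).trans ?_
      rw [Nat.card_coe_set_eq]
      exact (Set.ncard_insert_le _ _).trans (by rw [Set.ncard_singleton])
    · push Not at h
      rw [(eq_bot_iff_forall B).2 h, Subgroup.card_bot]
      norm_num
  · let z₀ : ↥A := ⟨s * s, A.mul_mem hsA hsA⟩
    have hz2 : z₀ ^ 2 = 1 := Subtype.ext (by
      show (s * s) ^ 2 = 1
      rw [← pow_two, ← pow_mul, show 2 * 2 = orderOf s by rw [hs], pow_orderOf_eq_one])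
    have hc2 : IsMulCommutative (zpowers z₀) := inferInstance
    have h := h0 (zpowers z₀) hc2 (fun a ha => by
      obtain ⟨i, rfl⟩ := mem_zpowers_iff.1 ha
      rw [← zpow_natCast, ← zpow_mul, mul_comm, zpow_mul, zpow_natCast, hz2, one_zpow])
    rw [Nat.card_zpowers, pow_zero] at h
    have h1 : z₀ = 1 := orderOf_eq_one_iff.1 (le_antisymm h (orderOf_pos z₀))
    have h2 : orderOf s ∣ 2 := orderOf_dvd_of_pow_eq_one (by
      rw [pow_two]; exact congrArg Subtype.val h1)
    rw [hs] at h2
    norm_num at h2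

end Cfsg.Agent.S1914
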