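import Cfsg.Statements.S1915
import Cfsg.Agent.Lib.GammaRankOne.Select
import Cfsg.Agent.Lib.Components.Basic

set_option autoImplicit false
open Cfsg

namespace Cfsg.Agent.S1915

/-- Let A be a semisimple subgroup (A = E(A)) of a finite group and U a Klein four-group normalizing A. If the subgroup of A generated by the normalizers N_A(V) of the nontrivial subgroups V of U has 2-rank exactly 1, then A has 2-rank exactly 1. -/
theorem result {G : Type*} [Group G] [Finite G] (A : Subgroup G) (hA : Cfsg.layer ↥A = ⊤)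
    (U : Subgroup G) (hU : IsKleinFour U) (hUA : U ≤ Subgroup.normalizer (A : Set G))
    (hΓ : Cfsg.PRankLE 2 1 ↥(⨆ V : {V : Subgroup G // V ≤ U ∧ V ≠ ⊥}, A ⊓ Subgroup.normalizer ((V : Subgroup G) : Set G)) ∧
      ¬ Cfsg.PRankLE 2 0 ↥(⨆ V : {V : Subgroup G // V ≤ U ∧ V ≠ ⊥}, A ⊓ Subgroup.normalizer ((V : Subgroup G) : Set G))) :
    Cfsg.PRankLE 2 1 A ∧ ¬ Cfsg.PRankLE 2 0 A := by
  have hgen : ∀ u ∈ U, u * u = 1 := fun u hu => by
    have h := Monoid.pow_exponent_eq_one (⟨u, hu⟩ : U)
    rw [hU.exponent_two, sq] at h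
    exact congrArg Subtype.val h
  obtain ⟨a₁, ha₁, a₂, ha₂, ha₁1, ha₂1, ha12⟩ : ∃ a ∈ U, ∃ b ∈ U, a ≠ 1 ∧ b ≠ 1 ∧ a ≠ b := by
    by_contra hcon
    push Not at hcon
    obtain ⟨a, ha⟩ : ∃ a : G, ∀ b ∈ U, b = 1 ∨ b = a := by
      by_cases h : ∃ a ∈ U, a ≠ 1
      · obtain ⟨a, ha, ha1⟩ := h
        exact ⟨a, fun b hb => or_iff_not_imp_left.2 fun hb1 => (hcon a ha b hb ha1 hb1).symm⟩
      · push Not at h
        exact ⟨1, fun b hb => Or.inl (h b hb)⟩
    have h2 : Nat.card U ≤ ({1, a} : Set G).ncard := by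
      rw [← Nat.card_coe_set_eq]
      refine Nat.card_le_card_of_injective (fun b : U => ⟨(b : G), ?_⟩) ?_
      · simp only [Set.mem_insert_iff, Set.mem_singleton_iff]
        exact ha b b.2
      · intro u v huv
        exact Subtype.ext (congrArg Subtype.val huv :)
    have h3 := Set.ncard_insert_le (1 : G) {a}
    rw [Set.ncard_singleton] at h3
    have h4 := hU.card_four
    omega
  let Γ : Subgroup G :=
    ⨆ V : {V : Subgroup G // V ≤ U ∧ V ≠ ⊥}, A ⊓ Subgroup.normalizer ((V : Subgroup G) : Set G)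
  have hΓA : Γ ≤ A := iSup_le fun V => inf_le_left
  -- the non-triviality of the rank
  refine ⟨?_, fun h0 => hΓ.2 fun B hB hB2 => ?_⟩
  swap
  · have h := h0 (B.map (Subgroup.inclusion hΓA)) ⟨⟨?_⟩⟩ ?_
    · rwa [Subgroup.card_map_of_injective (Subgroup.inclusion_injective hΓA)] at h
    · rintro ⟨_, a, ha, rfl⟩ ⟨_, b, hb, rfl⟩
      refine Subtype.ext ?_
      show Subgroup.inclusion hΓA a * Subgroup.inclusion hΓA b =
        Subgroup.inclusion hΓA b * Subgroup.inclusion hΓA a
      rw [← map_mul, ← map_mul]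
      exact congrArg _ (congrArg Subtype.val (hB.is_comm.comm ⟨a, ha⟩ ⟨b, hb⟩))
    · rintro _ ⟨a, ha, rfl⟩
      rw [← map_pow, hB2 a ha, map_one]
  -- suppose that `A` has two commuting involutions
  intro B hB hB2
  by_contra hbig
  obtain ⟨p, hp, q, hq, hp1, hq1, hne⟩ : ∃ p ∈ B, ∃ q ∈ B, p ≠ 1 ∧ q ≠ 1 ∧ p ≠ q := by
    by_contra hcon
    push Not at hcon
    refine hbig ?_
    rw [pow_one]
    have key : ∃ a, ∀ b ∈ B, b = 1 ∨ b = a := by
      by_cases h : ∃ a ∈ B, a ≠ 1
      · obtain ⟨a, ha, ha1⟩ := h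
        exact ⟨a, fun b hb => or_iff_not_imp_left.2 fun hb1 => (hcon a ha b hb ha1 hb1).symm⟩
      · push Not at h
        exact ⟨1, fun b hb => Or.inl (h b hb)⟩
    obtain ⟨a, ha⟩ := key
    have h2 : Nat.card B ≤ ({1, a} : Set ↥A).ncard := by
      rw [← Nat.card_coe_set_eq]
      refine Nat.card_le_card_of_injective (fun b : B => ⟨(b : ↥A), ?_⟩) ?_
      · simp only [Set.mem_insert_iff, Set.mem_singleton_iff]
        exact ha b b.2
      · intro u v huv
        exact Subtype.ext (congrArg Subtype.val huv :)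
    have h3 := Set.ncard_insert_le (1 : ↥A) {a}
    rw [Set.ncard_singleton] at h3
    omega
  -- pass to `A U`
  set H : Subgroup G := A ⊔ U with hH
  have hAn : (A.subgroupOf H).Normal :=
    (Subgroup.normal_subgroupOf_iff_le_normalizer le_sup_left).2
      (sup_le Subgroup.le_normalizer hUA)
  have hex : ∀ g : ↥H, g * g ∈ A.subgroupOf H := by
    intro g
    have hg : (g : G) ∈ U ⊔ A := by rw [sup_comm]; exact g.2
    rw [← SetLike.mem_coe, Subgroup.coe_mul_of_left_le_normalizer_right U A hUA] at hg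
    obtain ⟨u, hu, a, ha, hua⟩ := Set.mem_mul.1 hg
    rw [Subgroup.mem_subgroupOf]
    have e : ((g * g : ↥H) : G) = (u * a * u⁻¹) * ((u * u) * a) := by
      rw [Subgroup.coe_mul, ← hua]; group
    rw [e, hgen u hu, one_mul]
    exact A.mul_mem ((Subgroup.mem_normalizer_iff.1 (hUA hu) a).1 ha) ha
  let e := Subgroup.subgroupOfEquivOfLe (le_sup_left : A ≤ H)
  have hA2 : ∀ K : Subgroup ↥(A.subgroupOf H), K.index ≠ 2 := by
    intro K hK
    have hperf : commutator ↥A = ⊤ := by
      rw [commutator_def, ← hA]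
      exact Cfsg.Agent.Lib.Components.Layer.commutator_layer_self
    have hK' : (K.map e.toMonoidHom).index = 2 := by
      rw [Subgroup.index_map_of_bijective e.bijective, hK]
    have hKn := Subgroup.normal_of_index_eq_two hK'
    have hcomm : commutator ↥A ≤ K.map e.toMonoidHom := by
      rw [commutator_def, Subgroup.commutator_le]
      intro a _ b _
      have hc : IsMulCommutative (↥A ⧸ K.map e.toMonoidHom) := by
        have := isCyclic_of_prime_card (p := 2) (α := ↥A ⧸ K.map e.toMonoidHom) hK'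
        exact IsCyclic.isMulCommutative
      rw [← QuotientGroup.eq_one_iff]
      show QuotientGroup.mk' (K.map e.toMonoidHom) _ = 1
      rw [map_commutatorElement, commutatorElement_eq_one_iff_mul_comm]
      exact hc.is_comm.comm _ _
    rw [hperf, top_le_iff] at hcomm
    rw [hcomm, Subgroup.index_top] at hK'
    exact absurd hK' (by norm_num)
  have hUle : U ≤ H := le_sup_right
  have hAle : A ≤ H := le_sup_left
  obtain ⟨⟨u, _⟩, huU, hu1, ⟨p', _⟩, hp', ⟨q', _⟩, hq', h1, h2, h3, h4, h5, h6, h7, h8⟩ :=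
    Cfsg.Agent.Lib.GammaRankOne.exists_four_centralized (A.subgroupOf H) hA2 hex (U.subgroupOf H)
      (fun u hu => Subtype.ext (hgen _ hu))
      ⟨⟨a₁, hUle ha₁⟩, ha₁, ⟨a₂, hUle ha₂⟩, ha₂, fun h => ha₁1 (congrArg Subtype.val h),
        fun h => ha₂1 (congrArg Subtype.val h), fun h => ha12 (congrArg Subtype.val h)⟩
      ⟨⟨p, hAle p.2⟩, p.2, ⟨q, hAle q.2⟩, q.2,
        Subtype.ext (congrArg Subtype.val ((sq p).symm.trans (hB2 p hp)) :),
        Subtype.ext (congrArg Subtype.val ((sq q).symm.trans (hB2 q hq)) :),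
        Subtype.ext (congrArg (fun w : B => ((w : ↥A) : G)) (hB.is_comm.comm ⟨p, hp⟩ ⟨q, hq⟩)),
        fun h => hp1 (Subtype.ext (congrArg Subtype.val h :)),
        fun h => hq1 (Subtype.ext (congrArg Subtype.val h :)),
        fun h => hne (Subtype.ext (congrArg Subtype.val h :))⟩
  replace h1 : p' * p' = 1 := congrArg Subtype.val h1
  replace h2 : q' * q' = 1 := congrArg Subtype.val h2
  replace h3 : p' * q' = q' * p' := congrArg Subtype.val h3
  replace h4 : p' ≠ 1 := fun h => h4 (Subtype.ext h)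
  replace h5 : q' ≠ 1 := fun h => h5 (Subtype.ext h)
  replace h6 : p' ≠ q' := fun h => h6 (Subtype.ext h)
  replace h7 : u * p' = p' * u := congrArg Subtype.val h7
  replace h8 : u * q' = q' * u := congrArg Subtype.val h8
  replace hu1 : u ≠ 1 := fun h => hu1 (Subtype.ext h)
  -- both lie in `Γ`
  have hmem : ∀ w : G, w ∈ A → u * w = w * u → w ∈ Γ := by
    intro w hwA hw
    refine Subgroup.mem_iSup_of_mem ⟨Subgroup.zpowers u, Subgroup.zpowers_le.2 huU,
      Subgroup.zpowers_ne_bot.2 hu1⟩ ⟨hwA, Subgroup.centralizer_le_normalizer _ ?_⟩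
    rw [Subgroup.mem_centralizer_iff]
    intro y hy
    obtain ⟨i, rfl⟩ := Subgroup.mem_zpowers_iff.1 hy
    exact ((show Commute u w from hw).zpow_left i).eq
  have hpΓ := hmem p' hp' h7
  have hqΓ := hmem q' hq' h8
  have hpq2 : p' * q' * (p' * q') = 1 := by
    calc p' * q' * (p' * q') = p' * (q' * p') * q' := by group
      _ = (p' * p') * (q' * q') := by rw [← h3]; group
      _ = 1 := by rw [h1, h2, one_mul]
  let E : Subgroup ↥Γ :=
    { carrier := {y | (y : G) = 1 ∨ (y : G) = p' ∨ (y : G) = q' ∨ (y : G) = p' * q'}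
      one_mem' := Or.inl rfl
      mul_mem' := by
        have e1 : p' * (p' * q') = q' := by rw [← mul_assoc, h1, one_mul]
        have e2 : q' * (p' * q') = p' := by rw [h3, ← mul_assoc, h2, one_mul]
        have e3 : p' * q' * p' = q' := by rw [h3, mul_assoc, h1, mul_one]
        have e4 : p' * q' * q' = p' := by rw [mul_assoc, h2, mul_one]
        rintro ⟨a, _⟩ ⟨b, _⟩ ha hb
        simp only [Set.mem_setOf_eq, Subgroup.coe_mul] at ha hb ⊢
        rcases ha with rfl | rfl | rfl | rfl <;> rcases hb with rfl | rfl | rfl | rfl <;>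
          simp only [one_mul, mul_one, h1, h2, h3.symm, e1, e2, e3, e4, hpq2, true_or, or_true]
      inv_mem' := by
        rintro ⟨a, _⟩ ha
        simp only [Set.mem_setOf_eq, Subgroup.coe_inv] at ha ⊢
        rcases ha with rfl | rfl | rfl | rfl <;>
          simp only [inv_one, inv_eq_of_mul_eq_one_right h1, inv_eq_of_mul_eq_one_right h2,
            inv_eq_of_mul_eq_one_right hpq2, true_or, or_true] }
  have hE2 : ∀ a ∈ E, a ^ 2 = 1 := by
    rintro ⟨a, _⟩ ha
    refine Subtype.ext ?_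
    simp only [SubmonoidClass.mk_pow, OneMemClass.coe_one, sq]
    rcases ha with h | h | h | h <;> simp only at h <;> subst h
    exacts [one_mul 1, h1, h2, hpq2]
  have hEc : IsMulCommutative E := ⟨⟨fun a b => Subtype.ext (by
    have ha := hE2 _ a.2
    have hb := hE2 _ b.2
    have hab := hE2 _ (E.mul_mem a.2 b.2)
    rw [sq] at ha hb hab
    show (a : ↥Γ) * b = b * a
    calc (a : ↥Γ) * b = ((a : ↥Γ) * a) * ((a : ↥Γ) * b) * ((b : ↥Γ) * b) := by
          rw [ha, hb, one_mul, mul_one]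
      _ = a * ((a : ↥Γ) * a * (b * b)) * b := by group
      _ = a * (1 : ↥Γ) * b := by rw [ha, hb, one_mul]
      _ = a * ((a * b) * (a * b)) * b := by rw [hab]
      _ = (a * a) * b * a * (b * b) := by group
      _ = b * a := by rw [ha, hb, one_mul, mul_one])⟩⟩
  have hle : Nat.card E ≤ 2 := (hΓ.1 E hEc hE2).trans_eq (pow_one 2)
  have hthree : 3 ≤ Nat.card E := by
    have hinj : Function.Injective
        (fun i : Fin 3 => (![⟨⟨1, Γ.one_mem⟩, Or.inl rfl⟩, ⟨⟨p', hpΓ⟩, Or.inr (Or.inl rfl)⟩,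
          ⟨⟨q', hqΓ⟩, Or.inr (Or.inr (Or.inl rfl))⟩] i : E)) := by
      intro i j hij
      have h' := congrArg (fun w : E => ((w : ↥Γ) : G)) hij
      fin_cases i <;> fin_cases j <;> simp at h' <;>
        first
          | rfl
          | exact absurd h' h4
          | exact absurd h'.symm h4
          | exact absurd h' h5
          | exact absurd h'.symm h5
          | exact absurd h' h6
          | exact absurd h'.symm h6
    simpa using Nat.card_le_card_of_injective _ hinj
  omega

end Cfsg.Agent.S1915
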