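import Cfsg.Statements.S1921
import Cfsg.Agent.Lib.ComponentPairs.Basic
-- import your own Cfsg.Agent.* helpers here

set_option autoImplicit false
open Cfsg

namespace Cfsg.Agent.S1921

open Cfsg.Agent.Lib Cfsg.Agent.Lib.Components

/-- Let a be an involution of a finite group H and L a component of H with a L a⁻¹ ≠ L; put M = ⟨L, aLa⁻¹⟩ and let J be the subgroup generated by the elements x · a x a⁻¹ with x ∈ L (the diagonal). Then every element of M outside J·Z(M) generates M together with J. -/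
theorem result {H : Type*} [Group H] [Finite H] (a : H) (ha : orderOf a = 2) (L : Subgroup H) (hL : Cfsg.IsComponent L)
    (hLa : L.map (MulAut.conj a).toMonoidHom ≠ L) (x : H) (hxM : x ∈ L ⊔ L.map (MulAut.conj a).toMonoidHom)
    (hxJ : x ∉ Subgroup.closure {y : H | ∃ l ∈ L, y = l * (a * l * a⁻¹)} ⊔
      ((L ⊔ L.map (MulAut.conj a).toMonoidHom) ⊓ Subgroup.centralizer ((L ⊔ L.map (MulAut.conj a).toMonoidHom : Subgroup H) : Set H))) :
    Subgroup.closure {y : H | ∃ l ∈ L, y = l * (a * l * a⁻¹)} ⊔ Subgroup.zpowers x = L ⊔ L.map (MulAut.conj a).toMonoidHom := by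
  set L' := L.map (MulAut.conj a).toMonoidHom with hL'
  have hL'c : IsComponent L' := Component.conj hL a
  have hcom : ∀ l ∈ L, ∀ m ∈ L, l * (a * m * a⁻¹) = (a * m * a⁻¹) * l := fun l hl m hm =>
    (ComponentPairs.pair_commute hL hLa hl hm).eq
  set J := Subgroup.closure {y : H | ∃ l ∈ L, y = l * (a * l * a⁻¹)} with hJ
  have hdiag : ∀ l ∈ L, l * (a * l * a⁻¹) ∈ J := fun l hl => Subgroup.subset_closure ⟨l, hl, rfl⟩
  set K := J ⊔ Subgroup.zpowers x with hK
  have hJM : J ≤ L ⊔ L' := by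
    rw [hJ, Subgroup.closure_le]
    rintro _ ⟨l, hl, rfl⟩
    exact Subgroup.mul_mem_sup hl ⟨l, hl, rfl⟩
  refine le_antisymm (sup_le hJM (Subgroup.zpowers_le.2 hxM)) ?_
  -- move `x` into `L`
  have hxM' := hxM
  rw [← SetLike.mem_coe, Subgroup.coe_mul_of_left_le_normalizer_right _ _
    ((Component.le_centralizer_of_ne hL hL'c (Ne.symm hLa)).trans
      (Subgroup.centralizer_le_normalizer _))] at hxM'
  obtain ⟨l, hl, _, ⟨m, hm, rfl⟩, hx⟩ := hxM'
  have hx' : l * (a * m * a⁻¹) = x := hx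
  set d := l * m⁻¹ with hd
  have hdL : d ∈ L := L.mul_mem hl (L.inv_mem hm)
  have hxd : x = d * (m * (a * m * a⁻¹)) := by rw [← hx', hd]; group
  have hdK : d ∈ K := by
    have : d = x * (m * (a * m * a⁻¹))⁻¹ := by rw [hxd]; group
    rw [this]
    exact K.mul_mem (Subgroup.mem_sup_right (Subgroup.mem_zpowers x))
      (K.inv_mem (Subgroup.mem_sup_left (hdiag m hm)))
  -- `K ∩ L` is normal in `L`
  haveI hn : (K.subgroupOf L).Normal := ⟨fun n hn g => by
    show (g : H) * n * (g : H)⁻¹ ∈ K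
    have h1 := hcom n n.2 g g.2
    have : (g : H) * n * (g : H)⁻¹ =
        ((g : H) * (a * g * a⁻¹)) * n * ((g : H) * (a * g * a⁻¹))⁻¹ := by
      calc (g : H) * n * (g : H)⁻¹
          = (g : H) * ((n : H) * (a * g * a⁻¹)) * (a * g * a⁻¹)⁻¹ * (g : H)⁻¹ := by group
        _ = (g : H) * ((a * g * a⁻¹) * n) * (a * g * a⁻¹)⁻¹ * (g : H)⁻¹ := by rw [h1]
        _ = _ := by group
    rw [this]
    exact K.mul_mem (K.mul_mem (Subgroup.mem_sup_left (hdiag g g.2)) hn)
      (K.inv_mem (Subgroup.mem_sup_left (hdiag g g.2)))⟩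
  rcases Quasisimple.normal_le_center_or_eq_top hL.2 hn with hc | ht
  · exfalso
    refine hxJ ?_
    rw [hxd]
    refine Subgroup.mul_mem _ (Subgroup.mem_sup_right ⟨Subgroup.mem_sup_left hdL, ?_⟩)
      (Subgroup.mem_sup_left (hdiag m hm))
    have hdc := Subgroup.mem_center_iff.1 (hc (show (⟨d, hdL⟩ : ↥L) ∈ K.subgroupOf L from hdK))
    have hle : L ⊔ L' ≤ Subgroup.centralizer ({d} : Set H) := by
      refine sup_le (fun y hy => Subgroup.mem_centralizer_singleton_iff.2
        (congrArg Subtype.val (hdc ⟨y, hy⟩) :)) ?_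
      rintro _ ⟨y, hy, rfl⟩
      exact Subgroup.mem_centralizer_singleton_iff.2 (hcom d hdL y hy).symm
    exact Subgroup.mem_centralizer_iff.2 fun y hy => Subgroup.mem_centralizer_singleton_iff.1 (hle hy)
  · have hLK : L ≤ K := Subgroup.subgroupOf_eq_top.1 ht
    refine sup_le hLK ?_
    rintro _ ⟨y, hy, rfl⟩
    show a * y * a⁻¹ ∈ K
    have := K.mul_mem (K.inv_mem (hLK hy)) (Subgroup.mem_sup_left (hdiag y hy) :
      y * (a * y * a⁻¹) ∈ K)
    simpa using this

end Cfsg.Agent.S1921
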