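import Cfsg.Statements.S1922
import Cfsg.Agent.Lib.UniquePointInvolution.Basic
-- import your own Cfsg.Agent.* helpers here

set_option autoImplicit false
open Cfsg

namespace Cfsg.Agent.S1922

open Cfsg.Agent.Lib.UniquePointInvolution

/-- Let z be an involution of a finite group G and H a proper subgroup such that z lies in gHg⁻¹ exactly when g ∈ H. Then the following are equivalent: (1) for every conjugate t ≠ z of z commuting with z, the product zt lies in gHg⁻¹ exactly when g ∈ H; (2) z lies in the centre of some Sylow 2-subgroup of G, and for every conjugate t ≠ z of z commuting with z, the centralizer of zt is contained in H. -/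
theorem result {G : Type*} [Group G] [Finite G] (z : G) (hz : orderOf z = 2) (H : Subgroup G) (hH : H ≠ ⊤)
    (h0 : ∀ g : G, z ∈ H.map (MulAut.conj g).toMonoidHom ↔ g ∈ H) :
    (∀ t : G, IsConj z t → t ≠ z → t * z = z * t → ∀ g : G, z * t ∈ H.map (MulAut.conj g).toMonoidHom ↔ g ∈ H) ↔
      ((∃ P : Sylow 2 G, z ∈ (Subgroup.center ↥(P : Subgroup G)).map (P : Subgroup G).subtype) ∧
        ∀ t : G, IsConj z t → t ≠ z → t * z = z * t → Subgroup.centralizer ({z * t} : Set G) ≤ H) := by
  have hz2 : z * z = 1 := by rw [← pow_two, ← hz, pow_orderOf_eq_one]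
  have hmem : ∀ (x g : G), x ∈ H.map (MulAut.conj g).toMonoidHom ↔ g⁻¹ * x * g ∈ H := by
    intro x g
    constructor
    · rintro ⟨h, hh, rfl⟩
      show g⁻¹ * (g * h * g⁻¹) * g ∈ H
      rwa [show g⁻¹ * (g * h * g⁻¹) * g = h by group]
    · intro h
      exact ⟨_, h, show g * (g⁻¹ * x * g) * g⁻¹ = x by group⟩
  have hq : ∀ (x g : G), x • ((g : G) : G ⧸ H) = (g : G ⧸ H) ↔ g⁻¹ * x * g ∈ H := by
    intro x g
    rw [MulAction.Quotient.smul_coe, smul_eq_mul, eq_comm, QuotientGroup.eq, mul_assoc]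
  have hone : ∀ g : G, (g : G ⧸ H) = ((1 : G) : G ⧸ H) ↔ g ∈ H := fun g => by
    rw [eq_comm, QuotientGroup.eq, inv_one, one_mul]
  constructor
  · intro h1
    haveI : Nontrivial (G ⧸ H) := by
      rw [← not_subsingleton_iff_nontrivial, QuotientGroup.subsingleton_iff]
      exact hH
    refine ⟨?_, fun t ht hne hc g hg => (h1 t ht hne hc g).1 ((hmem _ _).2 ?_)⟩
    · obtain ⟨a, P, ha, haP⟩ := exists_central_conj (G := G) (Ω := G ⧸ H) (z := z)
        (o := ((1 : G) : G ⧸ H)) hz2
        (fun q => by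
          obtain ⟨g, rfl⟩ := QuotientGroup.mk_surjective q
          exact ⟨g, by rw [MulAction.Quotient.smul_coe, smul_eq_mul, mul_one]⟩)
        (fun q => by
          obtain ⟨g, rfl⟩ := QuotientGroup.mk_surjective q
          rw [hq, ← hmem, h0, hone])
        (fun t ht hne hc q => by
          obtain ⟨g, rfl⟩ := QuotientGroup.mk_surjective q
          rw [hq, ← hmem, h1 t ht hne hc, hone]
          exact id)
      obtain ⟨c, hc⟩ := isConj_iff.1 ha
      have haS : a ∈ (P : Subgroup G) := by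
        have hp : IsPGroup 2 ↥((P : Subgroup G) ⊔ Subgroup.zpowers a) := by
          refine P.isPGroup'.to_sup_of_normal_left' (IsPGroup.of_card (n := 1) ?_) ?_
          · rw [Nat.card_zpowers, ← hc, pow_one]
            exact (MulEquiv.orderOf_eq (MulAut.conj c) z).trans hz
          · exact Subgroup.zpowers_le.2 (Subgroup.centralizer_le_normalizer _ haP)
        exact (P.is_maximal' hp le_sup_left).le (Subgroup.mem_sup_right (Subgroup.mem_zpowers a))
      refine ⟨c⁻¹ • P, ⟨⟨z, ⟨a, haS, ?_⟩⟩, Subgroup.mem_center_iff.2 ?_, rfl⟩⟩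
      · show c⁻¹ * a * c⁻¹⁻¹ = z
        rw [← hc]; group
      · rintro ⟨_, ⟨y, hy, rfl⟩⟩
        refine Subtype.ext ?_
        show (c⁻¹ * y * c⁻¹⁻¹) * z = z * (c⁻¹ * y * c⁻¹⁻¹)
        have := Subgroup.mem_centralizer_iff.1 haP y hy
        calc (c⁻¹ * y * c⁻¹⁻¹) * z = c⁻¹ * (y * a) * c := by rw [← hc]; group
          _ = c⁻¹ * (a * y) * c := by rw [this]
          _ = _ := by rw [← hc]; group
    · have h2 : z * t ∈ H := by
        have h3 := (h1 t ht hne hc 1).2 (one_mem H)
        rw [hmem] at h3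
        simpa using h3
      have h4 := Subgroup.mem_centralizer_singleton_iff.1 hg
      rwa [mul_assoc, ← h4, inv_mul_cancel_left]
  · rintro ⟨⟨P, w, hw, rfl⟩, hC⟩ t ht hne hc g
    have hcen : ∀ y ∈ (P : Subgroup G), y * (w : G) = w * y := fun y hy =>
      congrArg Subtype.val (Subgroup.mem_center_iff.1 hw ⟨y, hy⟩)
    simp only [Subgroup.coe_subtype] at *
    have hzC : ∀ y : G, y * (w : G) = w * y → y ∈ H := by
      intro y hy
      refine (h0 y).1 ((hmem _ _).2 ?_)
      have h1 := (h0 1).2 (one_mem H)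
      rw [hmem] at h1
      rw [mul_assoc, ← hy, inv_mul_cancel_left]
      simpa using h1
    have hwH : (w : G) ∈ H := hzC _ rfl
    have hst : (w : G) * t ∈ H := H.mul_mem hwH (hzC t hc)
    rw [hmem]
    refine ⟨fun hs => ?_, fun hg => H.mul_mem (H.mul_mem (H.inv_mem hg) hst) hg⟩
    set s := g⁻¹ * ((w : G) * t) * g with hsdef
    have hs2 : s * s = 1 := by
      obtain ⟨c, rfl⟩ := isConj_iff.1 ht
      calc s * s = g⁻¹ * ((w : G) * (c * w * c⁻¹ * w) * (c * w * c⁻¹)) * g := by rw [hsdef]; group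
        _ = g⁻¹ * (((w : G) * w) * (c * ((w : G) * w) * c⁻¹)) * g := by rw [hc]; group
        _ = 1 := by rw [hz2]; group
    have hsp : IsPGroup 2 ↥((Subgroup.zpowers s).subgroupOf H) := by
      have hd : Nat.card ↥(Subgroup.zpowers s) ∣ 2 ^ 1 := by
        rw [Nat.card_zpowers, pow_one]
        exact orderOf_dvd_of_pow_eq_one (by rw [pow_two, hs2])
      obtain ⟨k, -, hk⟩ := (Nat.dvd_prime_pow Nat.prime_two).1 hd
      exact (IsPGroup.of_card hk).comap_subtype
    obtain ⟨Q, hQ⟩ := hsp.exists_le_sylow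
    let PH : Sylow 2 ↥H := P.subtype (fun y hy => hzC y (hcen y hy))
    obtain ⟨k, hk⟩ := MulAction.exists_smul_eq ↥H PH Q
    have hsQ : (⟨s, hs⟩ : ↥H) ∈ ((k • PH : Sylow 2 ↥H) : Subgroup ↥H) := by
      rw [hk]; exact hQ (Subgroup.mem_zpowers s)
    obtain ⟨y, hy, hy'⟩ := hsQ
    have hys : (k : G) * (y : G) * (k : G)⁻¹ = s := congrArg Subtype.val hy'
    -- the conjugate of the central involution centralizes `s`
    have hku : g * ((k : G) * w * (k : G)⁻¹) * g⁻¹ ∈ Subgroup.centralizer ({(w : G) * t} : Set G) := by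
      rw [Subgroup.mem_centralizer_singleton_iff]
      have hwt : (w : G) * t = g * s * g⁻¹ := by rw [hsdef]; group
      rw [hwt, ← hys]
      calc g * ((k : G) * w * (k : G)⁻¹) * g⁻¹ * (g * ((k : G) * y * (k : G)⁻¹) * g⁻¹)
          = g * (k : G) * ((w : G) * y) * (k : G)⁻¹ * g⁻¹ := by group
        _ = g * (k : G) * ((y : G) * w) * (k : G)⁻¹ * g⁻¹ := by rw [hcen y hy]
        _ = _ := by group
    have hkH := hC t ht hne hc hku
    have h5 : (g * (k : G))⁻¹ ∈ H := (h0 _).1 ((hmem _ _).2 (by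
      rw [inv_inv, mul_inv_rev, show g * (k : G) * w * ((k : G)⁻¹ * g⁻¹) =
        g * ((k : G) * w * (k : G)⁻¹) * g⁻¹ by group]
      exact hkH))
    have := H.mul_mem (H.inv_mem h5) (H.inv_mem k.2)
    simpa [mul_assoc] using this

end Cfsg.Agent.S1922
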