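import Cfsg.Statements.S1924
import Cfsg.Agent.Lib.FusionSystem.Hyperfocal

set_option autoImplicit false
set_option linter.style.haveILetI false
set_option linter.unusedVariables false
open Cfsg

namespace Cfsg.Agent.S1924

/-- A permutation of 2-power order, free on `α`, with an odd number of orbits is odd. -/
theorem sign_free {α : Type*} [Fintype α] [DecidableEq α] (σ : Equiv.Perm α) {m o : ℕ} (ho : Odd o)
    (hcard : Fintype.card α = 2 ^ (m + 1) * o) (hpow : σ ^ 2 ^ (m + 1) = 1)
    (hfree : ∀ a, (σ ^ 2 ^ m) a ≠ a) : Equiv.Perm.sign σ = -1 := by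
  have hall : ∀ d ∈ σ.cycleType, d = 2 ^ (m + 1) := by
    intro d hd
    obtain ⟨i, hi, rfl⟩ := (Nat.dvd_prime_pow Nat.prime_two).1
      ((Equiv.Perm.dvd_of_mem_cycleType hd).trans (orderOf_dvd_of_pow_eq_one hpow))
    by_contra hne
    have hi' : i ≤ m := Nat.lt_succ_iff.1 (lt_of_le_of_ne hi fun h => hne (h ▸ rfl))
    obtain ⟨c, τ, rfl, hdisj, hc, hcs⟩ := Equiv.Perm.mem_cycleType_iff.1 hd
    obtain ⟨a, ha⟩ := Finset.card_pos.1 (hcs ▸ Nat.two_pow_pos i : 0 < c.support.card)
    have h1 : τ a = a := (hdisj a).resolve_left (Equiv.Perm.mem_support.1 ha)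
    refine hfree a ?_
    rw [hdisj.commute.mul_pow, Equiv.Perm.mul_apply, Equiv.Perm.pow_apply_eq_self_of_apply_eq_self h1]
    have : c ^ 2 ^ m = 1 := by
      rw [← orderOf_dvd_iff_pow_eq_one, hc.orderOf, hcs]
      exact pow_dvd_pow 2 hi'
    rw [this, Equiv.Perm.one_apply]
  have hrep := Multiset.eq_replicate_card.2 hall
  have hsupp : σ.support = Finset.univ := Finset.eq_univ_iff_forall.2 fun a =>
    Equiv.Perm.mem_support.2 fun h => hfree a (Equiv.Perm.pow_apply_eq_self_of_apply_eq_self h _)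
  have hsum : σ.cycleType.sum = 2 ^ (m + 1) * o := by
    rw [Equiv.Perm.sum_cycleType, hsupp, Finset.card_univ, hcard]
  have hc : σ.cycleType.card = o := by
    have h := hsum
    rw [hrep, Multiset.sum_replicate, smul_eq_mul, mul_comm] at h
    exact Nat.eq_of_mul_eq_mul_left (by positivity) h
  rw [Equiv.Perm.sign_of_cycleType, hsum, hc]
  refine Odd.neg_one_pow ?_
  exact (((Nat.even_pow.2 ⟨even_two, Nat.succ_ne_zero m⟩).mul_right o).add_odd ho)

variable {G : Type*} [Group G] [Finite G]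

/-- Transfer step: an odd permutation of the cosets gives a subgroup of index two. -/
theorem exists_index_two (Y T : Subgroup G) (hTY : T ≤ Y) (hT2 : IsPGroup 2 T) {g : G} (hg : g ∈ Y)
    {m o : ℕ} (ho : Odd o) (hi : T.relIndex Y = 2 ^ (m + 1) * o) (hord : g ^ 2 ^ (m + 1) = 1)
    (hfree : ∀ y : G, y * g ^ 2 ^ m * y⁻¹ ∉ T) :
    ∃ Y' : Subgroup G, Y' ≤ Y ∧ Y'.relIndex Y = 2 ∧ g ∉ Y' ∧
      (∀ r ∈ Y, (orderOf r).Coprime 2 → r ∈ Y') ∧ g ^ 2 ∈ Y' := by
  classical
  letI : Fintype (Y ⧸ T.subgroupOf Y) := Fintype.ofFinite _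
  let f : Y →* ℤˣ := Equiv.Perm.sign.comp (MulAction.toPermHom Y (Y ⧸ T.subgroupOf Y))
  have hσ : f ⟨g, hg⟩ = -1 := by
    refine sign_free (m := m) _ ho ?_ ?_ fun a => ?_
    · rw [← Nat.card_eq_fintype_card, ← Subgroup.index_eq_card]; exact hi
    · rw [← map_pow, show (⟨g, hg⟩ : Y) ^ 2 ^ (m + 1) = 1 from Subtype.ext hord, map_one]
    · obtain ⟨y, rfl⟩ := QuotientGroup.mk_surjective a
      rw [← map_pow]
      show ((⟨g, hg⟩ : Y) ^ 2 ^ m) • (QuotientGroup.mk y : Y ⧸ T.subgroupOf Y) ≠ QuotientGroup.mk y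
      rw [MulAction.Quotient.smul_mk, smul_eq_mul, Ne, QuotientGroup.eq, Subgroup.mem_subgroupOf]
      intro h
      refine hfree (y : G)⁻¹ ?_
      have := inv_mem h
      simpa [mul_assoc] using this
  refine ⟨f.ker.map Y.subtype, Subgroup.map_subtype_le _, ?_, ?_, fun r hr hco => ?_, ?_⟩
  · rw [Subgroup.relIndex, show (f.ker.map Y.subtype).subgroupOf Y = f.ker from
      Subgroup.comap_map_eq_self_of_injective Y.subtype_injective f.ker, Subgroup.index_ker]
    have : f.range = ⊤ := eq_top_iff.2 fun u _ => by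
      rcases Int.units_eq_one_or u with rfl | rfl
      · exact one_mem _
      · exact ⟨_, hσ⟩
    rw [this, Subgroup.card_top]
    simp
  · rintro ⟨z, hz, hze⟩
    rw [show z = ⟨g, hg⟩ from Subtype.ext hze] at hz
    rw [SetLike.mem_coe, MonoidHom.mem_ker, hσ] at hz
    exact absurd hz (by decide)
  · refine ⟨⟨r, hr⟩, ?_, rfl⟩
    rw [SetLike.mem_coe, MonoidHom.mem_ker, ← orderOf_eq_one_iff]
    refine Nat.eq_one_of_dvd_coprimes (a := orderOf r) hco ?_ (orderOf_dvd_of_pow_eq_one ?_)
    · rw [← Subgroup.orderOf_mk r hr]; exact orderOf_map_dvd f _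
    · rw [pow_two]; exact Int.units_mul_self _
  · exact ⟨⟨g, hg⟩ ^ 2, by rw [SetLike.mem_coe, MonoidHom.mem_ker, map_pow, hσ]; rfl, rfl⟩

theorem pResidual_le_of {Y : Subgroup G} (h : ∀ r : G, (orderOf r).Coprime 2 → r ∈ Y) :
    Cfsg.pResidual 2 G ≤ Y :=
  (Subgroup.closure_le _).2 h

/-- An involution of a cyclic 2-group, free on the cosets of `T`, is outside `O^2(G)`. -/
theorem not_mem_residual (T : Subgroup G) (hT2 : IsPGroup 2 T) (hTR : T ≤ Cfsg.pResidual 2 G) :
    ∀ (m : ℕ) (Y : Subgroup G) (g : G) (o : ℕ), Cfsg.pResidual 2 G ≤ Y → g ∈ Y → Odd o →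
      T.relIndex Y = 2 ^ (m + 1) * o → g ^ 2 ^ (m + 1) = 1 → (∀ y : G, y * g ^ 2 ^ m * y⁻¹ ∉ T) →
      g ^ 2 ^ m ∉ Cfsg.pResidual 2 G := by
  intro m
  induction m with
  | zero =>
    intro Y g o hRY hg ho hi hord hfree hmem
    obtain ⟨Y', -, -, hgY', hodd, -⟩ := exists_index_two Y T (hTR.trans hRY) hT2 hg ho hi hord hfree
    rw [pow_zero, pow_one] at hmem
    exact hgY' (pResidual_le_of (fun r hr => hodd r (hRY (Subgroup.subset_closure hr)) hr) hmem)
  | succ m ih =>
    intro Y g o hRY hg ho hi hord hfree hmem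
    obtain ⟨Y', hY'Y, hY'i, -, hodd, hg2⟩ :=
      exists_index_two Y T (hTR.trans hRY) hT2 hg ho hi hord hfree
    have hRY' : Cfsg.pResidual 2 G ≤ Y' :=
      pResidual_le_of fun r hr => hodd r (hRY (Subgroup.subset_closure hr)) hr
    have hi' : T.relIndex Y' = 2 ^ (m + 1) * o := by
      have h := Subgroup.relIndex_mul_relIndex T Y' Y (hTR.trans hRY') hY'Y
      rw [hY'i, hi, pow_succ 2 (m + 1)] at h
      exact Nat.eq_of_mul_eq_mul_right two_pos (by rw [h]; ring)
    have e : ∀ i : ℕ, (g ^ 2) ^ 2 ^ i = g ^ 2 ^ (i + 1) := fun i => by rw [← pow_mul, ← pow_succ']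
    refine ih Y' (g ^ 2) o hRY' hg2 ho hi' ?_ ?_ ?_
    · rw [e]; exact hord
    · intro y; rw [e]; exact hfree y
    · rw [e]; exact hmem

/-- Outside a cyclic subgroup of index two of a dihedral group there are only involutions. -/
theorem orderOf_outside {D : Type*} [Group D] {n : ℕ} (hn : 2 ≤ n) (e : D ≃* DihedralGroup n)
    (C : Subgroup D) (hC : IsCyclic C) (hCi : C.index = 2) {d : D} (hd : d ∉ C) : orderOf d = 2 := by
  classical
  haveI : NeZero n := ⟨by omega⟩
  haveI : Finite D := Finite.of_equiv _ e.symm.toEquiv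
  have hd1 : d ≠ 1 := fun h => hd (h ▸ one_mem C)
  refine orderOf_eq_prime ?_ hd1
  by_contra h2
  obtain ⟨c, hc⟩ := IsCyclic.exists_ofOrder_eq_natCard (α := C)
  have hcard : Nat.card C = n := by
    have := C.card_mul_index
    rw [hCi, Nat.card_congr e.toEquiv, DihedralGroup.nat_card] at this
    omega
  have hrot : ∀ x : D, x ^ 2 ≠ 1 → ∃ i, e x = DihedralGroup.r i := by
    intro x hx
    rcases hex : e x with i | i
    · exact ⟨i, rfl⟩
    · exact absurd (e.injective (by rw [map_pow, hex, map_one, pow_two, DihedralGroup.sr_mul_self])) hx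
  obtain ⟨i, hi⟩ := hrot d h2
  have hn3 : 3 ≤ n := by
    by_contra h
    obtain rfl : n = 2 := by omega
    refine h2 (e.injective ?_)
    rw [map_pow, map_one, hi, pow_two, DihedralGroup.r_mul_r]
    have : i + i = 0 := (by decide : ∀ k : ZMod 2, k + k = 0) i
    rw [this, DihedralGroup.r_zero]
  have hco : orderOf (c : D) = n := by rw [Subgroup.orderOf_coe, hc, hcard]
  obtain ⟨j, hj⟩ := hrot c fun h => by
    have := Nat.le_of_dvd two_pos (hco ▸ orderOf_dvd_of_pow_eq_one h)
    omega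
  let R := Subgroup.zpowers (DihedralGroup.r (1 : ZMod n))
  have hmem : ∀ k : ZMod n, DihedralGroup.r k ∈ R := fun k =>
    ⟨k.val, by simp⟩
  have heq : Subgroup.zpowers (e (c : D)) = R := by
    refine Subgroup.eq_of_le_of_card_ge (Subgroup.zpowers_le.2 (hj ▸ hmem j)) ?_
    rw [Nat.card_zpowers, Nat.card_zpowers, DihedralGroup.orderOf_r_one, e.orderOf_eq, hco]
  obtain ⟨k, hk⟩ := Subgroup.mem_zpowers_iff.1 (heq ▸ (hi ▸ hmem i) : e d ∈ Subgroup.zpowers (e (c : D)))
  rw [← map_zpow] at hk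
  exact hd (e.injective hk ▸ zpow_mem c.2 k)

/-- A consequence of Thompson's transfer lemma. Let G be a finite group, L a subgroup with O²(L) = L, T a Sylow 2-subgroup of L and S a Sylow 2-subgroup of G containing T. Suppose D ≤ S is a dihedral subgroup of order at least 4 (the four-group counts) with D ∩ T = 1 and S = TD as a set of products (so |S| = |T|·|D|), and C ≤ D is cyclic of index 2 in D. If no involution of D outside C is G-conjugate to an involution of the subgroup generated by T and C, and the involution of C is not G-conjugate to any involution of T, then G has a normal subgroup K, containing every Sylow 2-subgroup of L as a Sylow 2-subgroup, with G = KD. -/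
theorem result {G : Type*} [Group G] [Finite G] (L T S D C : Subgroup G) (hL : Cfsg.pResidual 2 ↥L = ⊤)
    (hTL : T ≤ L) (hT2 : IsPGroup 2 T) (hTsyl : ¬ 2 ∣ T.relIndex L)
    (hS2 : IsPGroup 2 S) (hSsyl : ¬ 2 ∣ S.index) (hTS : T ≤ S)
    (hDS : D ≤ S) (hDih : ∃ n : ℕ, 2 ≤ n ∧ Nonempty (↥D ≃* DihedralGroup n)) (hDT : D ⊓ T = ⊥) (hTD : T ⊔ D = S) (hTDc : Nat.card T * Nat.card D = Nat.card S)
    (hCD : C ≤ D) (hC : IsCyclic ↥C) (hCi : C.relIndex D = 2)
    (h1 : ∀ x ∈ D, x ∉ C → orderOf x = 2 → ∀ g : G, g * x * g⁻¹ ∈ T ⊔ C → False)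
    (h2 : ∀ c ∈ C, orderOf c = 2 → ∀ g : G, g * c * g⁻¹ ∈ T → False) :
    ∃ K : Subgroup G, K.Normal ∧ K ⊔ D = ⊤ ∧
      ∀ T' : Subgroup G, T' ≤ L → IsPGroup 2 T' → ¬ 2 ∣ T'.relIndex L → T' ≤ K ∧ ¬ 2 ∣ T'.relIndex K := by
  classical
  haveI : Fintype C := Fintype.ofFinite C
  obtain ⟨n, hn, ⟨e⟩⟩ := hDih
  set R := Cfsg.pResidual 2 G with hR
  haveI : R.Normal := Lib.Transfer.PResidual.pResidual_normal
  have hLR : L ≤ R := by
    have h := Lib.Transfer.PResidual.map_subtype_le (p := 2) L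
    rw [hL, ← MonoidHom.range_eq_map, L.range_subtype] at h
    exact h.trans inf_le_left
  have hTR : T ≤ R := hTL.trans hLR
  -- every element of `S` is a product
  have hprod : ∀ s ∈ S, ∃ t ∈ T, ∃ d ∈ D, s = t * d := by
    let f : T × D → S := fun v => ⟨v.1 * v.2, mul_mem (hTS v.1.2) (hDS v.2.2)⟩
    have hf : Function.Bijective f := by
      refine Function.Injective.bijective_of_nat_card_le (fun v w h => ?_)
        (by rw [Nat.card_prod, hTDc])
      have h' : (v.1 : G) * v.2 = w.1 * w.2 := congrArg Subtype.val h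
      have hm : (w.1 : G)⁻¹ * v.1 ∈ D ⊓ T := by
        refine Subgroup.mem_inf.2 ⟨?_, T.mul_mem (T.inv_mem w.1.2) v.1.2⟩
        rw [show (w.1 : G)⁻¹ * v.1 = (w.1 : G)⁻¹ * ((v.1 : G) * v.2) * (v.2 : G)⁻¹ by group, h',
          show (w.1 : G)⁻¹ * ((w.1 : G) * w.2) * (v.2 : G)⁻¹ = (w.2 : G) * (v.2 : G)⁻¹ by group]
        exact D.mul_mem w.2.2 (D.inv_mem v.2.2)
      rw [hDT, Subgroup.mem_bot, inv_mul_eq_one] at hm
      exact Prod.ext (Subtype.ext hm.symm) (Subtype.ext (mul_left_cancel (hm ▸ h')))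
    intro s hs
    obtain ⟨v, hv⟩ := hf.2 ⟨s, hs⟩
    exact ⟨v.1, v.1.2, v.2, v.2.2, (congrArg Subtype.val hv).symm⟩
  have hDfin : Nat.card D = 2 * n := by rw [Nat.card_congr e.toEquiv, DihedralGroup.nat_card]
  have hinvol : ∀ x ∈ D, x ∉ C → orderOf x = 2 := fun x hx hxC => by
    rw [← Subgroup.orderOf_mk x hx]
    exact orderOf_outside hn e (C.subgroupOf D)
      ((Subgroup.subgroupOfEquivOfLe hCD).isCyclic.2 hC) hCi (fun h => hxC h)
  -- indices
  obtain ⟨o, hSo⟩ : ∃ o, S.index = o := ⟨_, rfl⟩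
  have ho : Odd o := Nat.not_even_iff_odd.1 fun h => hSsyl (hSo ▸ even_iff_two_dvd.1 h)
  have hTi : T.index = Nat.card D * o := by
    have h1 := T.card_mul_index
    rw [← S.card_mul_index, ← hTDc, hSo, mul_assoc] at h1
    exact Nat.eq_of_mul_eq_mul_left Nat.card_pos h1
  set S₁ := T ⊔ C with hS₁
  have hS₁S : S₁ ≤ S := sup_le hTS (hCD.trans hDS)
  obtain ⟨x₀, hx₀D, hx₀C⟩ : ∃ x ∈ D, x ∉ C := by
    refine SetLike.not_le_iff_exists.1 fun h => ?_
    rw [Subgroup.relIndex_eq_one.2 h] at hCi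
    omega
  have hS₁i : S₁.index = 2 * o := by
    have hCc : Nat.card C * 2 = Nat.card D := by
      have h := (C.subgroupOf D).card_mul_index
      rwa [Nat.card_congr (Subgroup.subgroupOfEquivOfLe hCD).toEquiv,
        show (C.subgroupOf D).index = 2 from hCi] at h
    have hle : Nat.card T * Nat.card C ≤ Nat.card S₁ := by
      rw [← Nat.card_prod]
      refine Nat.card_le_card_of_injective
        (fun v : T × C => (⟨v.1 * v.2, mul_mem (Subgroup.mem_sup_left v.1.2)
          (Subgroup.mem_sup_right v.2.2)⟩ : S₁)) fun v w h => ?_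
      have h' : (v.1 : G) * v.2 = w.1 * w.2 := congrArg Subtype.val h
      have hm : (w.1 : G)⁻¹ * v.1 ∈ D ⊓ T := by
        refine Subgroup.mem_inf.2 ⟨?_, T.mul_mem (T.inv_mem w.1.2) v.1.2⟩
        rw [show (w.1 : G)⁻¹ * v.1 = (w.1 : G)⁻¹ * ((v.1 : G) * v.2) * (v.2 : G)⁻¹ by group, h',
          show (w.1 : G)⁻¹ * ((w.1 : G) * w.2) * (v.2 : G)⁻¹ = (w.2 : G) * (v.2 : G)⁻¹ by group]
        exact D.mul_mem (hCD w.2.2) (D.inv_mem (hCD v.2.2))
      rw [hDT, Subgroup.mem_bot, inv_mul_eq_one] at hm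
      exact Prod.ext (Subtype.ext hm.symm) (Subtype.ext (mul_left_cancel (hm ▸ h')))
    have hne : S₁ ≠ S := fun h => h1 x₀ hx₀D hx₀C (hinvol x₀ hx₀D hx₀C) 1
      (by rw [one_mul, inv_one, mul_one]; exact (h ▸ hDS hx₀D : x₀ ∈ S₁))
    have h2 := S₁.relIndex_mul_index hS₁S
    have h3 := (S₁.subgroupOf S).card_mul_index
    rw [Nat.card_congr (Subgroup.subgroupOfEquivOfLe hS₁S).toEquiv] at h3
    change Nat.card S₁ * S₁.relIndex S = Nat.card S at h3
    have hr1 : S₁.relIndex S ≠ 1 := fun h => hne (le_antisymm hS₁S (Subgroup.relIndex_eq_one.1 h))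
    have hr0 : 0 < S₁.relIndex S := Nat.pos_of_ne_zero fun h => by
      rw [h, mul_zero] at h3; exact Nat.card_pos.ne h3
    have hr2 : S₁.relIndex S ≤ 2 := by
      by_contra h
      have h4 : Nat.card S₁ * 3 ≤ Nat.card S₁ * S₁.relIndex S := Nat.mul_le_mul_left _ (by omega)
      have h5 : Nat.card S = Nat.card T * Nat.card C * 2 := by rw [← hTDc, ← hCc, mul_assoc]
      have := Nat.card_pos (α := S₁)
      omega
    rw [← h2, hSo, show S₁.relIndex S = 2 by omega]
  -- reflections are outside the residual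
  have hrefl : ∀ x ∈ D, x ∉ C → x ∉ R := by
    intro x hx hxC hxR
    have ho2 := hinvol x hx hxC
    obtain ⟨Y', -, -, hxY', hodd, -⟩ := exists_index_two (⊤ : Subgroup G) S₁ le_top
      ((hS2.to_le hS₁S)) (g := x) (Subgroup.mem_top x) (m := 0) ho
      (by rw [Subgroup.relIndex_top_right, hS₁i]; ring) (by rw [zero_add, pow_one, ← ho2]; exact pow_orderOf_eq_one x)
      (fun y h => h1 x hx hxC ho2 y (by simpa using h))
    exact hxY' (pResidual_le_of (fun r hr => hodd r (Subgroup.mem_top r) hr) hxR)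
  have hDR : ∀ d ∈ D, d ∈ R → d = 1 := by
    intro d hd hdR
    have hdC : d ∈ C := by
      by_contra h
      exact hrefl d hd h hdR
    by_contra hd1
    -- the involution of `C`
    obtain ⟨g₀, hg₀⟩ := IsCyclic.exists_ofOrder_eq_natCard (α := C)
    obtain ⟨k, hk⟩ := IsPGroup.iff_card.1 (hS2.to_le (hCD.trans hDS))
    obtain ⟨m, rfl⟩ : ∃ m, k = m + 1 := by
      refine ⟨k - 1, (Nat.sub_add_cancel ?_).symm⟩
      by_contra h
      obtain rfl : k = 0 := by omega
      haveI := (Nat.card_eq_one_iff_unique.1 (show Nat.card C = 1 by rw [hk]; rfl)).1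
      exact hd1 (congrArg Subtype.val (Subsingleton.elim (⟨d, hdC⟩ : C) 1))
    have hgo : orderOf (g₀ : G) = 2 ^ (m + 1) := by rw [Subgroup.orderOf_coe, hg₀, hk]
    set g : G := (g₀ : G)
    have hc : orderOf (g ^ 2 ^ m) = 2 := by
      rw [orderOf_pow' g (pow_ne_zero _ two_ne_zero), hgo,
        Nat.gcd_eq_right (pow_dvd_pow 2 (Nat.le_succ m)), pow_succ,
        Nat.mul_div_cancel_left _ (Nat.two_pow_pos m)]
    -- the involution is a power of `d`
    have hcd : g ^ 2 ^ m ∈ R := by
      obtain ⟨l, hl⟩ := IsPGroup.iff_orderOf.1 (hS2.to_le (hCD.trans hDS)) ⟨d, hdC⟩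
      rw [Subgroup.orderOf_mk] at hl
      have hl0 : l ≠ 0 := fun h => hd1 (orderOf_eq_one_iff.1 (by rw [hl, h, pow_zero]))
      set w := d ^ (orderOf d / 2)
      have hwo : orderOf w = 2 :=
        orderOf_pow_orderOf_div (orderOf_pos d).ne' (hl ▸ dvd_pow_self 2 hl0)
      have hwC : w ∈ C := pow_mem hdC _
      have h2' : IsCyclic C := hC
      let u : C := ⟨w, hwC⟩
      let v : C := ⟨g ^ 2 ^ m, pow_mem g₀.2 _⟩
      have huv : Subgroup.zpowers u = Subgroup.zpowers v :=
        (Subgroup.eq_of_le_of_card_ge (H := Subgroup.zpowers u) (K := Subgroup.zpowers v)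
          (by
            obtain ⟨i, hi⟩ := (IsCyclic.exists_generator (α := C))
            rw [Subgroup.zpowers_le]
            by_contra hne
            have h4 : ∀ z : C, z ^ 2 = 1 → z ∈ ({1, v} : Finset C) := fun z hz => by
              by_contra hzz
              have hsub : ({1, v, z} : Finset C) ⊆ Finset.univ.filter (fun a : C => a ^ 2 = 1) := by
                intro a ha
                simp only [Finset.mem_insert, Finset.mem_singleton] at ha
                rw [Finset.mem_filter]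
                refine ⟨Finset.mem_univ _, ?_⟩
                rcases ha with rfl | rfl | rfl
                · exact one_pow 2
                · refine Subtype.ext ?_
                  show (g ^ 2 ^ m) ^ 2 = 1
                  conv_lhs => arg 2; rw [← hc]
                  exact pow_orderOf_eq_one _
                · exact hz
              have := (Finset.card_le_card hsub).trans (IsCyclic.card_pow_eq_one_le two_pos)
              simp only [Finset.mem_insert, Finset.mem_singleton, not_or] at hzz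
              have hv1 : (1 : C) ≠ v := fun h => by
                have := congrArg (fun a : C => orderOf (a : G)) h
                simp only [Subgroup.coe_one, orderOf_one] at this
                rw [hc] at this; omega
              rw [Finset.card_insert_of_notMem (by simp [hv1, Ne.symm hzz.1]),
                Finset.card_insert_of_notMem (by simp [Ne.symm hzz.2]), Finset.card_singleton] at this
              omega
            have := h4 u (Subtype.ext (by show w ^ 2 = 1; rw [← hwo, pow_orderOf_eq_one]))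
            simp only [Finset.mem_insert, Finset.mem_singleton] at this
            rcases this with h | h
            · have := congrArg (fun a : C => orderOf (a : G)) h
              simp only [u, Subgroup.coe_one, orderOf_one, hwo] at this
              omega
            · exact hne (h ▸ Subgroup.mem_zpowers v))
          (by rw [Nat.card_zpowers, Nat.card_zpowers, Subgroup.orderOf_mk, Subgroup.orderOf_mk,
            hwo, hc]))
      obtain ⟨i, hi⟩ := Subgroup.mem_zpowers_iff.1 (huv ▸ Subgroup.mem_zpowers v : v ∈ Subgroup.zpowers u)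
      have hi' : w ^ i = g ^ 2 ^ m := congrArg Subtype.val hi
      rw [← hi']
      exact zpow_mem (pow_mem hdR _) i
    -- the subgroup generated by the residual and `C`
    set Y := R ⊔ C with hY
    have hYi : Y.index = 2 := by
      obtain ⟨j, hj⟩ := Lib.Transfer.PResidual.exists_index_eq_pow (G := G) (p := 2)
      have h1' : Y.index ∣ 2 ^ j := hj ▸ Subgroup.index_dvd_of_le le_sup_left
      have h2' : Y.index ∣ 2 * o := hS₁i ▸ Subgroup.index_dvd_of_le
        (sup_le (hTR.trans le_sup_left) le_sup_right)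
      have h3' : Y.index ∣ 2 := (Nat.Coprime.coprime_dvd_left h1'
        (Nat.Coprime.pow_left j ho.coprime_two_left)).dvd_of_dvd_mul_right h2'
      refine ((Nat.dvd_prime Nat.prime_two).1 h3').resolve_left fun h => ?_
      rw [Subgroup.index_eq_one] at h
      obtain ⟨r, hr, c, hcC, hrc⟩ := Subgroup.mem_sup_of_normal_left.1
        (h ▸ Subgroup.mem_top x₀ : x₀ ∈ Y)
      refine hrefl (x₀ * c⁻¹) (mul_mem hx₀D (inv_mem (hCD hcC))) (fun h' => hx₀C ?_) ?_
      · have := mul_mem h' hcC; rwa [inv_mul_cancel_right] at this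
      · rw [← hrc, mul_inv_cancel_right]; exact hr
    refine not_mem_residual T hT2 hTR m Y g o le_sup_left (Subgroup.mem_sup_right g₀.2) ho ?_
      (hgo ▸ pow_orderOf_eq_one g) (fun y => h2 _ (pow_mem g₀.2 _) hc y) hcd
    have h := T.relIndex_mul_index (hTR.trans (le_sup_left : R ≤ Y))
    rw [hYi, hTi] at h
    have hCc : Nat.card D = 2 ^ (m + 1) * 2 := by
      have h' := (C.subgroupOf D).card_mul_index
      rw [Nat.card_congr (Subgroup.subgroupOfEquivOfLe hCD).toEquiv,
        show (C.subgroupOf D).index = 2 from hCi, hk] at h'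
      exact h'.symm
    rw [hCc] at h
    exact Nat.eq_of_mul_eq_mul_right two_pos (by rw [h]; ring)
  have hSR : S ⊓ R = T := by
    refine le_antisymm ?_ (le_inf hTS hTR)
    rintro s ⟨hs, hsR⟩
    obtain ⟨t, ht, d, hd, rfl⟩ := hprod s hs
    have : d ∈ R := by
      have := mul_mem (inv_mem (hTR ht)) hsR
      rwa [inv_mul_cancel_left] at this
    rw [hDR d hd this, mul_one]
    exact ht
  haveI : Fact (Nat.Prime 2) := ⟨Nat.prime_two⟩
  let P : Sylow 2 G := hS2.toSylow hSsyl
  have hP : (P : Subgroup G) = S := rfl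
  refine ⟨R, inferInstance, ?_, fun T' hT'L hT'2 hT'odd => ⟨hT'L.trans hLR, ?_⟩⟩
  · refine eq_top_iff.2 ?_
    rw [← Lib.Transfer.PResidual.sup_sylow_eq_top P]
    refine sup_le le_sup_left ?_
    rw [hP, ← hTD]
    exact sup_le (hTR.trans le_sup_left) le_sup_right
  · obtain ⟨Q, hQ⟩ := Lib.FS.exists_sylow_inf_normal_hyp P R
    rw [hP, hSR] at hQ
    have hTodd : ¬ 2 ∣ T.relIndex R := by
      rw [Subgroup.relIndex, ← hQ]; exact Q.not_dvd_index
    have hQL : Nat.card T' = Nat.card T := by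
      let A : Sylow 2 L := (hT'2.of_equiv (Subgroup.subgroupOfEquivOfLe hT'L).symm).toSylow hT'odd
      let B : Sylow 2 L := (hT2.of_equiv (Subgroup.subgroupOfEquivOfLe hTL).symm).toSylow hTsyl
      rw [← Nat.card_congr (Subgroup.subgroupOfEquivOfLe hT'L).toEquiv,
        ← Nat.card_congr (Subgroup.subgroupOfEquivOfLe hTL).toEquiv]
      exact Nat.card_congr (Sylow.equiv A B).toEquiv
    have e1 := (T'.subgroupOf R).card_mul_index
    have e2 := (T.subgroupOf R).card_mul_index
    rw [Nat.card_congr (Subgroup.subgroupOfEquivOfLe (hT'L.trans hLR)).toEquiv, hQL] at e1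
    rw [Nat.card_congr (Subgroup.subgroupOfEquivOfLe hTR).toEquiv] at e2
    rw [Subgroup.relIndex, Nat.eq_of_mul_eq_mul_left Nat.card_pos (e1.trans e2.symm)]
    exact hTodd

end Cfsg.Agent.S1924
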