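import Cfsg.Statements.S1929
import Cfsg.Agent.Lib.HHS57.PrimeAction

set_option autoImplicit false
open Cfsg
open Cfsg.Agent.Lib Cfsg.Agent.Lib.HHS57

namespace Cfsg.Agent.S1929

/-- Inside a finite group let G be a subgroup and R a subgroup of prime order r normalizing G, with the order of G prime to r. Let K be a quasisimple subgroup of G that commutes elementwise with every conjugate of K, other than K itself, under the subgroup generated by R and C_G(R). Then K is a component of C_G(R), or K is a component of G, or K is contained in a component of G that is normalized by R. -/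
theorem result {X : Type*} [Group X] [Finite X] (G R : Subgroup X) (r : ℕ) [Fact r.Prime] (hR : Nat.card ↥R = r) (hcop : (Nat.card ↥G).Coprime r) (hnorm : R ≤ Subgroup.normalizer (G : Set X)) (K : Subgroup X) (hKG : K ≤ G) (hKq : Cfsg.IsQuasisimple ↥K) (hcomm : ∀ g ∈ R ⊔ (G ⊓ Subgroup.centralizer (R : Set X)), K.map (MulAut.conj g).toMonoidHom ≠ K → ⁅K, K.map (MulAut.conj g).toMonoidHom⁆ = ⊥) : (K ≤ G ⊓ Subgroup.centralizer (R : Set X) ∧ Cfsg.IsComponent (K.subgroupOf (G ⊓ Subgroup.centralizer (R : Set X)))) ∨ Cfsg.IsComponent (K.subgroupOf G) ∨ ∃ L : Subgroup X, L ≤ G ∧ Cfsg.IsComponent (L.subgroupOf G) ∧ (∀ a ∈ R, L.map (MulAut.conj a).toMonoidHom = L) ∧ K ≤ L := by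
  have hr : r.Prime := Fact.out
  obtain ⟨g, hg, hgR, hRg, hpow, hfix⟩ := exists_generator hr hR hnorm
  have hco : ¬ r ∣ Nat.card ↥G := (hr.coprime_iff_not_dvd).1 hcop.symm
  set β := resA (MulAut.conj g) G hg with hβ
  set T := R ⊔ (G ⊓ Subgroup.centralizer (R : Set X)) with hT
  have hmap : ∀ (A : Subgroup X) (x y : X), (A.map (MulAut.conj x).toMonoidHom).map
      (MulAut.conj y).toMonoidHom = A.map (MulAut.conj (y * x)).toMonoidHom := fun A x y => by
    rw [Subgroup.map_map, map_mul]
    rfl
  have hone : K.map (MulAut.conj (1 : X)).toMonoidHom = K := by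
    rw [map_one]
    exact K.map_id
  set S : Set (Subgroup G) := {M | ∃ t ∈ T, M.map G.subtype = K.map (MulAut.conj t).toMonoidHom}
    with hS'
  have hS : Fam β S :=
    { qs := by
        rintro M ⟨t, -, e⟩
        exact Components.Quasisimple.of_mulEquiv hKq (((K.equivMapOfInjective
          (MulAut.conj t).toMonoidHom (MulAut.conj t).injective).trans
          (MulEquiv.subgroupCongr e.symm)).trans
          (M.equivMapOfInjective _ G.subtype_injective).symm)
      comm := by
        rintro M ⟨t, ht, e⟩ M' ⟨t', ht', e'⟩ hne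
        rw [← Subgroup.map_eq_bot_iff_of_injective _ G.subtype_injective, Subgroup.map_commutator,
          e, e', show t' = t * (t⁻¹ * t') by group, ← hmap, ← Subgroup.map_commutator,
          hcomm _ (T.mul_mem (T.inv_mem ht) ht') (fun h => hne (Subgroup.map_injective
            G.subtype_injective ?_)), Subgroup.map_bot]
        rw [e, e', show t' = t * (t⁻¹ * t') by group, ← hmap, h]
      stb := by
        rintro M ⟨t, ht, e⟩
        refine ⟨g * t, T.mul_mem (Subgroup.mem_sup_left hgR) ht, ?_⟩
        rw [← hmap, ← e, Subgroup.map_map, Subgroup.map_map]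
        rfl
      fixed := by
        rintro M ⟨t, ht, e⟩ c hc
        refine ⟨c * t, T.mul_mem (Subgroup.mem_sup_right ⟨c.2, (hfix c).1 hc⟩) ht, ?_⟩
        rw [← hmap, ← e, Subgroup.map_map, Subgroup.map_map]
        rfl }
  set K' := K.subgroupOf G with hK'
  have hKm : K' ∈ S := ⟨1, T.one_mem, by rw [hone, Subgroup.map_subgroupOf_eq_of_le hKG]⟩
  by_cases hnf : K' ≤ fixG β
  · left
    have hKC : K ≤ G ⊓ Subgroup.centralizer (R : Set X) := fun k hk => ⟨hKG hk, (hfix ⟨k, hKG hk⟩).1
      (hnf (show (⟨k, hKG hk⟩ : G) ∈ K.subgroupOf G from hk))⟩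
    refine ⟨hKC, ?_, Components.Quasisimple.of_mulEquiv hKq (Subgroup.subgroupOfEquivOfLe hKC).symm⟩
    set C := G ⊓ Subgroup.centralizer (R : Set X)
    refine isSubnormal_of_conj le_top (Subgroup.Normal.isSubnormal inferInstance) fun c _ => ?_
    have e : ((K.subgroupOf C).map (MulAut.conj c).toMonoidHom).map C.subtype =
        K.map (MulAut.conj (c : X)).toMonoidHom := by
      rw [Subgroup.map_map, show C.subtype.comp (MulAut.conj c).toMonoidHom =
        (MulAut.conj (c : X)).toMonoidHom.comp C.subtype from rfl, ← Subgroup.map_map,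
        Subgroup.map_subgroupOf_eq_of_le hKC]
    by_cases h : K.map (MulAut.conj (c : X)).toMonoidHom = K
    · exact Or.inl (Subgroup.map_injective C.subtype_injective
        (by rw [e, h, Subgroup.map_subgroupOf_eq_of_le hKC]))
    · exact Or.inr (by
        rw [← Subgroup.map_eq_bot_iff_of_injective _ C.subtype_injective, Subgroup.map_commutator,
          e, Subgroup.map_subgroupOf_eq_of_le hKC]
        exact hcomm _ (Subgroup.mem_sup_right c.2) h)
  right
  rcases hS.component_or_le hr hpow hco hKm hnf with h | ⟨L, hL, hLβ, hKL⟩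
  · exact Or.inl h
  refine Or.inr ⟨L.map G.subtype, Subgroup.map_subtype_le L, ?_, fun a ha => ?_,
    fun k hk => ⟨⟨k, hKG hk⟩, hKL hk, rfl⟩⟩
  · rwa [show (L.map G.subtype).subgroupOf G = L from
      Subgroup.comap_map_eq_self_of_injective G.subtype_injective L]
  · obtain ⟨n, rfl⟩ : a ∈ Submonoid.powers g := mem_powers_iff_mem_zpowers.2 (hRg ▸ ha)
    refine Stb.map_eq ?_
    rintro _ ⟨y, hy, rfl⟩
    exact ⟨(β ^ n) y, hLβ.pow n y hy, resA_conj_pow hg n y⟩

end Cfsg.Agent.S1929
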