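import Cfsg.Statements.S1930
import Cfsg.Agent.Lib.Flavell42.Main
import Cfsg.Agent.Lib.Balance.Locals

set_option autoImplicit false
open Cfsg
open Cfsg.Agent.Lib Cfsg.Agent.Lib.Flavell42

namespace Cfsg.Agent.S1930

/-- Inside a finite group let G be a nontrivial subgroup and R an r-subgroup (r a prime) normalizing G, with the order of G prime to r. Let p > 3 be a prime with F*(G) = O_p(G), and let P be the intersection of all R-invariant Sylow p-subgroups of G. Then P has a nontrivial characteristic subgroup that is normalized by G. -/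
theorem result {X : Type*} [Group X] [Finite X] (G R : Subgroup X) (r : ℕ) [Fact r.Prime] (hR : IsPGroup r ↥R) (hcop : (Nat.card ↥G).Coprime r) (hnorm : R ≤ Subgroup.normalizer (G : Set X)) (hG : G ≠ ⊥) (p : ℕ) [Fact p.Prime] (hp : 3 < p) (hF : Cfsg.generalizedFittingSubgroup ↥G = Cfsg.pCore p ↥G) (P : Subgroup X) (hP : P = ⨅ S : {S : Sylow p ↥G // ∀ a ∈ R, ((S : Subgroup ↥G).map G.subtype).map (MulAut.conj a).toMonoidHom = (S : Subgroup ↥G).map G.subtype}, ((S : Sylow p ↥G) : Subgroup ↥G).map G.subtype) : ∃ C : Subgroup ↥P, C.Characteristic ∧ C ≠ ⊥ ∧ G ≤ Subgroup.normalizer ((C.map P.subtype : Subgroup X) : Set X) := by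
  have hp5 : 5 ≤ p := by
    have hp' : p.Prime := Fact.out
    by_contra h
    have h4 : p = 4 := by omega
    subst h4
    norm_num at hp'
  have hact : Act R G := ⟨hnorm, by
    obtain ⟨n, hn⟩ := IsPGroup.iff_card.mp hR
    rw [hn]
    exact (hcop.symm).pow_left n, Coprime.isSolvable_of_isPGroup hR⟩
  have hC : G ⊓ Subgroup.centralizer (pCoreOf p G : Set X) ≤ pCoreOf p G :=
    (CosetGraph.SylowIn.charP_iff p G).mp (Balance.centralizer_pCore_le_iff.mpr hF)
  have hconj : ∀ (S : Subgroup X) (a : X), a ∈ Subgroup.normalizer (S : Set X) ↔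
      S.map (MulAut.conj a).toMonoidHom = S := fun S a => Subgroup.mem_normalizer_iff_map_conj_eq
  have hPe : P = pInv p R G := by
    subst hP
    refine le_antisymm (fun x hx => ?_) (le_iInf fun S => ?_)
    · rw [Subgroup.mem_iInf] at hx
      refine mem_pInv.mpr ⟨?_, fun T hT hTR => ?_⟩
      · obtain ⟨T, hT, hTR⟩ := exists_invSylow (p := p) hact
        obtain ⟨S, rfl⟩ := hT.exists_sylow
        exact Subgroup.map_subtype_le _ (hx ⟨S, fun a ha => (hconj _ a).mp (hTR ha)⟩)
      · obtain ⟨S, rfl⟩ := hT.exists_sylow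
        exact hx ⟨S, fun a ha => (hconj _ a).mp (hTR ha)⟩
    · exact pInv_le_sylow (CosetGraph.SylowIn.isSylowIn_map_sylow S.1)
        fun a ha => (hconj _ a).mpr (S.2 a ha)
  subst hPe
  set P := pInv p R G with hPdef
  refine ⟨eFun (⊤ : Subgroup P), ?_, ?_, ?_⟩
  · refine Subgroup.characteristic_iff_map_eq.mpr fun e => ?_
    rw [map_eFun _ e.injective, Subgroup.map_top_of_surjective _ e.surjective]
  · intro hbot
    have hPbot : eFun P = ⊥ := by
      have := map_eFun P.subtype P.subtype_injective ⊤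
      rw [hbot, Subgroup.map_bot, ← MonoidHom.range_eq_map, Subgroup.range_subtype] at this
      exact this.symm
    have hP1 := centralizer_inf_le_eFun (isPGroup_pInv (p := p) hact)
    rw [← hPdef, hPbot] at hP1
    have hPb : P = ⊥ := le_bot_iff.mp fun x hx => hP1 (Subgroup.mem_inf.mpr ⟨hx, fun y hy => by
      rw [Subgroup.mem_bot.mp hy, one_mul, mul_one]⟩)
    have hQb : pCoreOf p G = ⊥ := le_bot_iff.mp ((pCoreOf_le_pInv hact).trans hPb.le)
    rw [hQb] at hC
    refine hG (le_bot_iff.mp fun x hx => hC (Subgroup.mem_inf.mpr ⟨hx, fun y hy => ?_⟩))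
    rw [Subgroup.mem_bot.mp hy, one_mul, mul_one]
  · rw [map_eFun _ P.subtype_injective, ← MonoidHom.range_eq_map, Subgroup.range_subtype]
    exact normalizer_eFun_pInv hp5 hact hC

end Cfsg.Agent.S1930
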