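import Cfsg.Statements.S1931
import Cfsg.Agent.Lib.Flavell57.Inst
import Cfsg.Agent.Lib.Flavell42.Main

set_option autoImplicit false
open Cfsg

namespace Cfsg.Agent.S1931

/-- Inside a finite group let G be a subgroup and R a noncyclic abelian r-subgroup (r a prime) normalizing G, with the order of G prime to r, and let p > 3 be a prime. Suppose that for every nonidentity a ∈ R, R centralizes the subgroup O^p(F*(C_G(a))) generated by the p'-elements of the generalized Fitting subgroup of C_G(a). Then R centralizes O^p(F*(G)). -/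
theorem result {X : Type*} [Group X] [Finite X] (G R : Subgroup X) (r : ℕ) [Fact r.Prime] (hR : IsPGroup r ↥R) (hcop : (Nat.card ↥G).Coprime r) (hnorm : R ≤ Subgroup.normalizer (G : Set X)) (hab : IsMulCommutative ↥R) (hnc : ¬ IsCyclic ↥R) (p : ℕ) [Fact p.Prime] (hp : 3 < p) (hloc : ∀ a ∈ R, a ≠ 1 → R ≤ Subgroup.centralizer ((((Cfsg.pResidual p ↥(Cfsg.generalizedFittingSubgroup ↥(G ⊓ Subgroup.centralizer ({a} : Set X)))).map (Cfsg.generalizedFittingSubgroup ↥(G ⊓ Subgroup.centralizer ({a} : Set X))).subtype).map (G ⊓ Subgroup.centralizer ({a} : Set X)).subtype : Subgroup X) : Set X)) : R ≤ Subgroup.centralizer ((((Cfsg.pResidual p ↥(Cfsg.generalizedFittingSubgroup ↥G)).map (Cfsg.generalizedFittingSubgroup ↥G).subtype).map G.subtype : Subgroup X) : Set X) := by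
  haveI := hab
  exact Lib.Flavell57.centralizes (p := p) (r := r) (G := G) (R := R) (by omega)
    (Lib.Flavell57.kFun_eFun fun X _ _ R G h hC => Lib.Flavell42.normalizer_eFun_pInv (by
      have : p ≠ 4 := fun h4 => by
        have hh := (Fact.out : p.Prime); rw [h4] at hh; norm_num at hh
      omega) h hC) hR
    ((Fact.out : r.Prime).coprime_iff_not_dvd.1 hcop.symm) hnorm hnc hloc

end Cfsg.Agent.S1931
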