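import Cfsg.Statements.S1933
import Cfsg.Agent.Lib.HHS57.PrimeAction

set_option autoImplicit false
open Cfsg
open Cfsg.Agent.Lib Cfsg.Agent.Lib.HHS57

namespace Cfsg.Agent.S1933

/-- Inside a finite group let G be a subgroup and R a subgroup of prime order r normalizing G, with the order of G prime to r. Let H be a subgroup of G normalized by R and by C_G(R) and such that H = [H, R]. Then the layer of H is contained in the layer of G. -/
theorem result {X : Type*} [Group X] [Finite X] (G R : Subgroup X) (r : ℕ) [Fact r.Prime] (hR : Nat.card ↥R = r) (hcop : (Nat.card ↥G).Coprime r) (hnorm : R ≤ Subgroup.normalizer (G : Set X)) (H : Subgroup X) (hHG : H ≤ G) (hHinv : R ⊔ (G ⊓ Subgroup.centralizer (R : Set X)) ≤ Subgroup.normalizer (H : Set X)) (hHR : ⁅H, R⁆ = H) : (Cfsg.layer ↥H).map H.subtype ≤ (Cfsg.layer ↥G).map G.subtype := by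
  have hr : r.Prime := Fact.out
  obtain ⟨g, hg, hgR, hRg, hpow, hfix⟩ := exists_generator hr hR hnorm
  have hco : ¬ r ∣ Nat.card ↥G := (hr.coprime_iff_not_dvd).1 hcop.symm
  set β := resA (MulAut.conj g) G hg with hβ
  set H' := H.subgroupOf G with hH'
  have hgH : g ∈ Subgroup.normalizer (H : Set X) := hHinv (Subgroup.mem_sup_left hgR)
  have hst : Stb β H' := fun x hx => (Subgroup.mem_normalizer_iff.1 hgH _).1 hx
  have hfixn : fixG β ≤ Subgroup.normalizer (H' : Set G) := fun c hc => by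
    refine Subgroup.mem_normalizer_iff.2 fun y => ?_
    exact Subgroup.mem_normalizer_iff.1
      (hHinv (Subgroup.mem_sup_right ⟨c.2, (hfix c).1 hc⟩)) (y : X)
  have hgen : H' ≤ cm β H' := by
    suffices h : H ≤ (cm β H').map G.subtype from fun x hx => by
      obtain ⟨y, hy, e⟩ := h hx
      rwa [← Subtype.ext e]
    refine hHR.ge.trans ?_
    rw [Subgroup.commutator_le]
    intro x hx t ht
    obtain ⟨n, rfl⟩ : t ∈ Submonoid.powers g := mem_powers_iff_mem_zpowers.2 (hRg ▸ ht)
    have hy : (⟨x⁻¹, inv_mem (hHG hx)⟩ : G) ∈ H' := Subgroup.mem_subgroupOf.2 (inv_mem hx)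
    refine ⟨_, inv_mul_pow_mem_cm hst hy n, ?_⟩
    rw [map_mul, map_inv, Subgroup.coe_subtype, resA_conj_pow, commutatorElement_def]
    show x⁻¹⁻¹ * (g ^ n * x⁻¹ * (g ^ n)⁻¹) = x * g ^ n * x⁻¹ * (g ^ n)⁻¹
    group
  have key := layer_map_le hr hpow hco hst hfixn hgen
  rw [← Components.Layer.map_layer (Subgroup.subgroupOfEquivOfLe hHG), Subgroup.map_map]
  refine le_trans (le_of_eq ?_) (Subgroup.map_mono (f := G.subtype) key)
  rw [Subgroup.map_map]
  rfl

end Cfsg.Agent.S1933
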