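import Cfsg.Statements.S1935
import Cfsg.Agent.Lib.TwoSubnormal.Main
import Cfsg.Agent.Lib.OffenderComp.Replacement

set_option autoImplicit false
open Cfsg

namespace Cfsg.Agent.S1935

open Lib.TwoSubnormal.Moving (ann)
open Lib.OffenderComp (fixS)

variable {p : ℕ} [Fact p.Prime] {Γ : Type*} [Group Γ] {W : Type*} [AddCommGroup W]
  [Module (ZMod p) W] [Finite W]

/-- The representation in the endomorphism ring. -/
def endHom (φ : Γ →* (W ≃ₗ[ZMod p] W)) : Γ →* Module.End (ZMod p) W where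
  toFun g := (φ g).toLinearMap
  map_one' := by rw [map_one]; rfl
  map_mul' a b := by rw [map_mul]; rfl

theorem endHom_apply (φ : Γ →* (W ≃ₗ[ZMod p] W)) (g : Γ) (v : W) : endHom φ g v = φ g v := rfl

/-- An additive action as a linear one. -/
def linHom (f : Γ → (W →+ W)) (h1 : ∀ v, f 1 v = v) (hmul : ∀ g h v, f (g * h) v = f g (f h v)) :
    Γ →* (W ≃ₗ[ZMod p] W) where
  toFun g :=
    { toFun := f g
      invFun := f g⁻¹
      map_add' := map_add _
      map_smul' := ZMod.map_smul (f g)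
      left_inv := fun v => by rw [← hmul, inv_mul_cancel, h1]
      right_inv := fun v => by rw [← hmul, mul_inv_cancel, h1] }
  map_one' := LinearEquiv.ext h1
  map_mul' g h := LinearEquiv.ext (hmul g h)

theorem linHom_apply (f : Γ → (W →+ W)) (h1 : ∀ v, f 1 v = v)
    (hmul : ∀ g h v, f (g * h) v = f g (f h v)) (g : Γ) (v : W) :
    linHom (p := p) f h1 hmul g v = f g v := rfl

theorem card_ann (φ : Γ →* (W ≃ₗ[ZMod p] W)) {A : Subgroup Γ}
    (hA : Lib.TwoSubnormal.Quad.Quad (endHom φ) A) :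
    Nat.card (ann (Lib.TwoSubnormal.Quad.logA (endHom φ) hA)) =
      Nat.card (fixS (A.map φ)) ^ Module.finrank (ZMod p) W := by
  have h : Nat.card (ann (Lib.TwoSubnormal.Quad.logA (endHom φ) hA)) =
      Nat.card (W →ₗ[ZMod p] fixS (A.map φ)) := by
    refine Nat.card_congr
      { toFun := fun T => LinearMap.codRestrict _ T.1 fun w => ?_
        invFun := fun f => ⟨(fixS (A.map φ)).subtype.comp f, ?_⟩
        left_inv := fun T => Subtype.ext (LinearMap.ext fun w => rfl)
        right_inv := fun f => LinearMap.ext fun w => rfl }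
    · rintro _ ⟨a, ha, rfl⟩
      have h0 := LinearMap.congr_fun (T.2 _ ⟨a, ha, rfl⟩) w
      rw [Module.End.mul_apply, LinearMap.sub_apply, Module.End.one_apply, endHom_apply,
        LinearMap.zero_apply] at h0
      exact sub_eq_zero.mp h0
    · rintro _ ⟨a, ha, rfl⟩
      refine LinearMap.ext fun w => ?_
      rw [Module.End.mul_apply, LinearMap.sub_apply, Module.End.one_apply, endHom_apply,
        LinearMap.zero_apply]
      exact sub_eq_zero.mpr ((f w).2 _ ⟨a, ha, rfl⟩)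
  haveI : Module.Finite (ZMod p) W := Module.Finite.of_finite
  rw [h, Module.natCard_eq_pow_finrank (K := ZMod p) (V := W →ₗ[ZMod p] fixS (A.map φ)),
    Module.finrank_linearMap, mul_comm, pow_mul, ← Module.natCard_eq_pow_finrank]

/-- A quadratic offender normal in its normal closure. -/
theorem exists_offender [Finite Γ] (hp2 : p ≠ 2) (hΓ : IsPGroup p Γ)
    (φ : Γ →* (W ≃ₗ[ZMod p] W)) (hφ : Function.Injective φ) (E : Subgroup Γ) (hne : E ≠ ⊥)
    (hcomm : ∀ a ∈ E, ∀ b ∈ E, a * b = b * a) (hexp : ∀ a ∈ E, a ^ p = 1)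
    (hoff : Nat.card W ≤ Nat.card E * Nat.card (fixS (E.map φ))) :
    ∃ A : Subgroup Γ, A ≠ ⊥ ∧ (∀ a ∈ A, ∀ b ∈ A, a * b = b * a) ∧ (∀ a ∈ A, a ^ p = 1) ∧
      (∀ a ∈ A, ∀ b ∈ A, ∀ v, φ b (φ a v - v) = φ a v - v) ∧
      Nat.card W ≤ Nat.card A * Nat.card (fixS (A.map φ)) ∧
      ∀ g, ∀ a ∈ A, g * a * g⁻¹ ∈ Subgroup.normalizer (A : Set Γ) := by
  classical
  haveI : Finite (W ≃ₗ[ZMod p] W) := Lib.OffenderComp.finite_equiv
  haveI : Finite (Subgroup Γ) := Finite.of_injective _ (SetLike.coe_injective (A := Subgroup Γ))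
  haveI : Finite (Module.End (ZMod p) W) :=
    Finite.of_injective (fun f => (f : W → W)) DFunLike.coe_injective
  have hι : Function.Injective (endHom φ) := fun a b e => hφ (LinearEquiv.toLinearMap_injective e)
  have hcard : ∀ B : Subgroup Γ, Nat.card (B.map φ) = Nat.card B := fun B =>
    Nat.card_congr (B.equivMapOfInjective φ hφ).symm.toEquiv
  obtain ⟨A, ⟨hAE, hA⟩, hmax⟩ := (Set.toFinite {B : Subgroup Γ | B ≤ E ∧ B ≠ ⊥}).exists_maximalFor
    (fun B : Subgroup Γ => Nat.card B * Nat.card (fixS (B.map φ))) _ ⟨E, le_rfl, hne⟩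
  have hbig : ∀ B, B ≤ E → B ≠ ⊥ →
      Nat.card B * Nat.card (fixS (B.map φ)) ≤ Nat.card A * Nat.card (fixS (A.map φ)) := fun B h1 h2 =>
    (le_total _ _).elim id fun h => hmax (j := B) ⟨h1, h2⟩ h
  have hIsMax : Lib.OffenderComp.IsMax (A.map φ) := by
    intro B hB
    have hBe : (B.comap φ).map φ = B := Subgroup.map_comap_eq_self (hB.trans (by
      rintro _ ⟨g, -, rfl⟩; exact ⟨g, rfl⟩))
    by_cases hB0 : B.comap φ = ⊥
    · rw [← hBe, hB0, Subgroup.map_bot, Subgroup.card_bot, one_mul, hcard]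
      exact (Nat.card_le_card_of_injective _ Subtype.val_injective).trans
        (hoff.trans (hbig E le_rfl hne))
    · have hle : B.comap φ ≤ E := fun g hg => by
        obtain ⟨g', hg', e⟩ := hB hg
        rw [← hφ e]; exact hAE hg'
      have := hbig _ hle hB0
      rwa [← hcard (B.comap φ), ← hcard A, hBe] at this
  have hne' : A.map φ ≠ ⊥ := fun h => hA ((Subgroup.map_eq_bot_iff_of_injective A hφ).1 h)
  obtain ⟨B, hBA, hB, hfix, hBcard⟩ := Lib.OffenderComp.exists_replacement hne'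
    (by rintro _ ⟨a, ha, rfl⟩ _ ⟨b, hb, rfl⟩; rw [← map_mul, hcomm a (hAE ha) b (hAE hb), map_mul])
    (by rintro _ ⟨a, ha, rfl⟩; rw [← map_pow, hexp a (hAE ha), map_one]) hIsMax
  have hBe : (B.comap φ).map φ = B := Subgroup.map_comap_eq_self (hBA.trans (by
    rintro _ ⟨g, -, rfl⟩; exact ⟨g, rfl⟩))
  have hquad : Lib.TwoSubnormal.Quad.Quad (endHom φ) (B.comap φ) := by
    intro a ha b hb
    refine LinearMap.ext fun v => ?_
    rw [Module.End.mul_apply, LinearMap.sub_apply, Module.End.one_apply, endHom_apply,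
      LinearMap.sub_apply, Module.End.one_apply, endHom_apply, LinearMap.zero_apply]
    exact sub_eq_zero.mpr (hfix _ (hBA hb) _ ha v)
  have hp0 : (p : Module.End (ZMod p) W) = 0 := LinearMap.ext fun v => by
    rw [Module.End.natCast_apply, LinearMap.zero_apply, ← Nat.cast_smul_eq_nsmul (ZMod p),
      ZMod.natCast_self, zero_smul]
  obtain ⟨A', hA', h1, h2, h3⟩ :=
    Lib.TwoSubnormal.Main.exists_normal_in_closure hp2 hΓ hp0 hι hquad
  refine ⟨A', fun h => hB ?_, ?_, ?_, ?_, ?_, fun g a ha => h3 g ⟨a, ha, rfl⟩⟩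
  · rw [h, Subgroup.card_bot] at h1
    rw [← hBe, Subgroup.card_eq_one.mp (le_antisymm h1 Nat.card_pos), Subgroup.map_bot]
  · intro a ha b hb
    refine hι (sub_left_injective (b := (1 : Module.End (ZMod p) W)) ?_)
    show _ - 1 = _ - 1
    rw [hA'.add ha hb, hA'.add hb ha, add_comm]
  · intro a ha
    refine hι (sub_left_injective (b := (1 : Module.End (ZMod p) W)) ?_)
    show _ - 1 = _ - 1
    rw [hA'.pow ha, hp0, zero_mul, map_one, sub_self]
  · intro a ha b hb v
    have h0 := LinearMap.congr_fun (hA' b hb a ha) v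
    rw [Module.End.mul_apply, LinearMap.sub_apply, Module.End.one_apply, endHom_apply,
      LinearMap.sub_apply, Module.End.one_apply, endHom_apply, LinearMap.zero_apply] at h0
    exact sub_eq_zero.mp h0
  · refine hBcard.trans (Nat.mul_le_mul ?_ ?_)
    · rw [← hBe, hcard]; exact h1
    · rw [card_ann, card_ann, hBe] at h2
      rcases Nat.eq_zero_or_pos (Module.finrank (ZMod p) W) with h0 | h0
      · haveI : Module.Finite (ZMod p) W := Module.Finite.of_finite
        have hW : Nat.card W = 1 := by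
          rw [Module.natCard_eq_pow_finrank (K := ZMod p) (V := W), h0, pow_zero]
        calc Nat.card (fixS B) ≤ Nat.card W := Nat.card_le_card_of_injective _ Subtype.val_injective
          _ = 1 := hW
          _ ≤ _ := Nat.card_pos
      · exact (Nat.pow_le_pow_iff_left (by omega)).mp h2

/-- `exists_offender` for an additive action. -/
theorem exists_offender_add [Finite Γ] (hp2 : p ≠ 2) (hΓ : IsPGroup p Γ) (f : Γ → (W →+ W))
    (h1 : ∀ v, f 1 v = v) (hmul : ∀ g h v, f (g * h) v = f g (f h v))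
    (hinj : ∀ g, (∀ v, f g v = v) → g = 1) (E : Subgroup Γ) (hne : E ≠ ⊥)
    (hcomm : ∀ a ∈ E, ∀ b ∈ E, a * b = b * a) (hexp : ∀ a ∈ E, a ^ p = 1)
    (hoff : Nat.card W ≤ Nat.card E * Nat.card {v : W // ∀ b ∈ E, f b v = v}) :
    ∃ A : Subgroup Γ, A ≠ ⊥ ∧ (∀ a ∈ A, ∀ b ∈ A, a * b = b * a) ∧ (∀ a ∈ A, a ^ p = 1) ∧
      (∀ a ∈ A, ∀ b ∈ A, ∀ v, f b (f a v - v) = f a v - v) ∧
      Nat.card W ≤ Nat.card A * Nat.card {v : W // ∀ b ∈ A, f b v = v} ∧
      ∀ g, ∀ a ∈ A, g * a * g⁻¹ ∈ Subgroup.normalizer (A : Set Γ) := by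
  have hφ : Function.Injective (linHom (p := p) f h1 hmul) :=
    (injective_iff_map_eq_one _).mpr fun g hg => hinj g fun v => by
      rw [← linHom_apply (p := p) f h1 hmul, hg]; rfl
  have hfix : ∀ B : Subgroup Γ, Nat.card (fixS (B.map (linHom (p := p) f h1 hmul))) =
      Nat.card {v : W // ∀ b ∈ B, f b v = v} := fun B =>
    Nat.card_congr
      { toFun := fun v => ⟨v.1, fun b hb => v.2 _ ⟨b, hb, rfl⟩⟩
        invFun := fun v => ⟨v.1, by rintro _ ⟨b, hb, rfl⟩; exact v.2 b hb⟩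
        left_inv := fun v => rfl
        right_inv := fun v => rfl }
  simp only [← hfix] at hoff ⊢
  exact exists_offender hp2 hΓ _ hφ E hne hcomm hexp hoff

/-- Let p ≥ 5 be a prime and, inside an ambient finite group, let G be a p-subgroup acting faithfully by conjugation on an elementary abelian p-subgroup V that it normalizes (only the identity of G centralizes V). Suppose V is an F-module for G: some nontrivial elementary abelian subgroup E of G satisfies #E · #C_V(E) ≥ #V. Then G contains such an offender A that moreover acts quadratically on V ([V, A, A] = 1) and is normal in its normal closure in G. -/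
theorem result {Ω : Type*} [Group Ω] [Finite Ω] (p : ℕ) [Fact p.Prime] (hp : 5 ≤ p) (V G : Subgroup Ω) (hV : Cfsg.IsElementaryAbelian p V) (hG : IsPGroup p ↥G) (hGV : G ≤ Subgroup.normalizer (V : Set Ω)) (hfaith : G ⊓ Subgroup.centralizer (V : Set Ω) = ⊥) (hF : ∃ E : Subgroup Ω, E ≤ G ∧ E ≠ ⊥ ∧ Cfsg.IsElementaryAbelian p E ∧ Nat.card ↥V ≤ Nat.card ↥E * Nat.card ↥(V ⊓ Subgroup.centralizer (E : Set Ω))) : ∃ A : Subgroup Ω, A ≤ G ∧ A ≠ ⊥ ∧ Cfsg.IsElementaryAbelian p A ∧ Nat.card ↥V ≤ Nat.card ↥A * Nat.card ↥(V ⊓ Subgroup.centralizer (A : Set Ω)) ∧ ⁅⁅V, A⁆, A⁆ = ⊥ ∧ ∀ g ∈ Subgroup.closure {x : Ω | ∃ h ∈ G, ∃ a ∈ A, x = h * a * h⁻¹}, ∀ a ∈ A, g * a * g⁻¹ ∈ A := by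
  classical
  haveI : IsMulCommutative V := hV.1
  letI : CommGroup V := { mul_comm := fun a b => hV.1.is_comm.comm a b }
  have hpV : ∀ x : Additive V, p • x = 0 := fun x => by
    apply Additive.toMul.injective
    exact Subtype.ext (by simpa using hV.2 _ x.toMul.2)
  letI iMod : Module (ZMod p) (Additive V) := AddCommGroup.zmodModule hpV
  have hmem : ∀ g ∈ G, ∀ v ∈ V, g * v * g⁻¹ ∈ V := fun g hg v hv =>
    (Subgroup.mem_normalizer_iff.mp (hGV hg) v).mp hv
  let cjAdd : G → (Additive V →+ Additive V) := fun g =>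
    { toFun := fun v => Additive.ofMul ⟨(g : Ω) * (v.toMul : Ω) * (g : Ω)⁻¹,
        hmem g g.2 _ v.toMul.2⟩
      map_zero' := Additive.toMul.injective (Subtype.ext (by simp))
      map_add' := fun u v => Additive.toMul.injective (Subtype.ext (by simp [mul_assoc])) }
  have hcj : ∀ g h v, cjAdd (g * h) v = cjAdd g (cjAdd h v) := fun g h v =>
    Additive.toMul.injective (Subtype.ext (by simp [cjAdd, mul_assoc]))
  have hcj1 : ∀ v, cjAdd 1 v = v := fun v =>
    Additive.toMul.injective (Subtype.ext (by simp [cjAdd]))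
  have hfix : ∀ (g : G) (v : Additive V),
      cjAdd g v = v ↔ (g : Ω) * (v.toMul : Ω) = (v.toMul : Ω) * (g : Ω) := by
    intro g v
    rw [← Additive.toMul.injective.eq_iff, Subtype.ext_iff]
    show (g : Ω) * (v.toMul : Ω) * (g : Ω)⁻¹ = _ ↔ _
    rw [mul_inv_eq_iff_eq_mul]
  have hinj : ∀ g, (∀ v, cjAdd g v = v) → g = 1 := fun g hg => Subtype.ext (by
    have : (g : Ω) ∈ G ⊓ Subgroup.centralizer (V : Set Ω) :=
      ⟨g.2, Subgroup.mem_centralizer_iff.mpr fun v hv =>
        ((hfix g (Additive.ofMul ⟨v, hv⟩)).mp (hg _)).symm⟩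
    rwa [hfaith, Subgroup.mem_bot] at this)
  have hfixcard : ∀ B : Subgroup G, Nat.card {v : Additive V // ∀ b ∈ B, cjAdd b v = v} =
      Nat.card ↥(V ⊓ Subgroup.centralizer ((B.map G.subtype : Subgroup Ω) : Set Ω)) := by
    intro B
    refine Nat.card_congr
      { toFun := fun v => ⟨(v.1.toMul : Ω), v.1.toMul.2, ?_⟩
        invFun := fun w => ⟨Additive.ofMul ⟨w.1, w.2.1⟩, ?_⟩
        left_inv := fun v => rfl
        right_inv := fun w => rfl }
    · refine Subgroup.mem_centralizer_iff.mpr ?_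
      rintro _ ⟨b, hb, rfl⟩
      exact (hfix b v.1).mp (v.2 b hb)
    · intro b hb
      exact (hfix b _).mpr (Subgroup.mem_centralizer_iff.mp w.2.2 _ ⟨b, hb, rfl⟩)
  obtain ⟨E, hEG, hEne, hEel, hoff⟩ := hF
  have hEmap : (E.subgroupOf G).map G.subtype = E := by
    rw [Subgroup.subgroupOf_map_subtype, inf_eq_left.mpr hEG]
  obtain ⟨A, hA, hAc, hAe, hAq, hAoff, hAn⟩ := exists_offender_add (p := p) (W := Additive V) (by omega) hG cjAdd hcj1 hcj hinj
    (E.subgroupOf G) (fun h => hEne (by rw [← hEmap, h, Subgroup.map_bot]))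
    (fun a ha b hb => Subtype.ext (by
      have h := congrArg Subtype.val (hEel.1.is_comm.comm ⟨_, ha⟩ ⟨_, hb⟩)
      exact h))
    (fun a ha => Subtype.ext (by simpa using hEel.2 _ ha))
    (by
      rw [hfixcard, hEmap, Nat.card_congr (Subgroup.subgroupOfEquivOfLe hEG).toEquiv,
        Nat.card_congr (Additive.toMul (α := V))]
      exact hoff)
  refine ⟨A.map G.subtype, Subgroup.map_subtype_le A,
    fun h => hA ((Subgroup.map_eq_bot_iff_of_injective A G.subtype_injective).1 h), ⟨⟨⟨?_⟩⟩, ?_⟩,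
    ?_, ?_, ?_⟩
  · rintro ⟨_, a, ha, rfl⟩ ⟨_, b, hb, rfl⟩
    exact Subtype.ext (by
      have h := congrArg Subtype.val (hAc a ha b hb)
      exact h)
  · rintro _ ⟨a, ha, rfl⟩
    rw [← map_pow, hAe a ha, map_one]
  · rw [← hfixcard, Nat.card_congr (A.equivMapOfInjective _ G.subtype_injective).toEquiv.symm,
      ← Nat.card_congr (Additive.toMul (α := V))]
    exact hAoff
  · rw [Subgroup.commutator_eq_bot_iff_le_centralizer, Subgroup.commutator_le]
    rintro v hv _ ⟨a, ha, rfl⟩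
    refine Subgroup.mem_centralizer_iff.mpr ?_
    rintro _ ⟨b, hb, rfl⟩
    set w : Additive V := Additive.ofMul ⟨v, hv⟩
    have h0 : cjAdd b (-(cjAdd a w - w)) = -(cjAdd a w - w) := by rw [map_neg, hAq a ha b hb w]
    have hval : ((-(cjAdd a w - w)).toMul : Ω) = v * (a : Ω) * v⁻¹ * (a : Ω)⁻¹ := by
      simp [cjAdd, w, div_eq_mul_inv, mul_assoc]
    have := (hfix b _).mp h0
    rw [hval] at this
    simpa [commutatorElement_def] using this
  · have hle : Subgroup.closure {x : Ω | ∃ h ∈ G, ∃ a ∈ A.map G.subtype, x = h * a * h⁻¹} ≤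
        (Subgroup.normalizer (A : Set G)).map G.subtype := by
      rw [Subgroup.closure_le]
      rintro _ ⟨h, hh, _, ⟨a, ha, rfl⟩, rfl⟩
      exact ⟨⟨h, hh⟩ * a * (⟨h, hh⟩ : G)⁻¹, hAn _ a ha, rfl⟩
    intro g hg
    obtain ⟨n, hn, rfl⟩ := hle hg
    rintro _ ⟨a, ha, rfl⟩
    exact ⟨n * a * n⁻¹, (Subgroup.mem_normalizer_iff.mp hn a).mp ha, rfl⟩

end Cfsg.Agent.S1935
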