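import Cfsg.Statements.S1939
-- import your own Cfsg.Agent.* helpers here

set_option autoImplicit false
open Cfsg

namespace Cfsg.Agent.S1939

/-- Let S be a Sylow p-subgroup of the finite group G and a an element of S that is the only G-conjugate of a lying in S. Then every power of a has the same property: for every n, the only G-conjugate of a^n lying in S is a^n. -/
theorem result {G : Type*} [Group G] [Finite G] {p : ℕ} [Fact p.Prime] (S : Sylow p G) (a : G)
    (haS : a ∈ (S : Subgroup G)) (hwc : ∀ g : G, g * a * g⁻¹ ∈ (S : Subgroup G) → g * a * g⁻¹ = a) (n : ℕ) :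
    ∀ g : G, g * a ^ n * g⁻¹ ∈ (S : Subgroup G) → g * a ^ n * g⁻¹ = a ^ n := by
  intro g hb
  set b := g * a ^ n * g⁻¹ with hbdef
  set c := g * a * g⁻¹ with hcdef
  obtain ⟨k, hk⟩ := S.isPGroup' ⟨a, haS⟩
  have hk' : a ^ p ^ k = 1 := by simpa using congrArg Subtype.val hk
  have hab : Commute a b := by
    have := hwc b (mul_mem (mul_mem hb haS) (inv_mem hb))
    exact (mul_inv_eq_iff_eq_mul.1 this).symm
  have hcb : Commute c b := by
    rw [hcdef, hbdef]
    show g * a * g⁻¹ * (g * a ^ n * g⁻¹) = g * a ^ n * g⁻¹ * (g * a * g⁻¹)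
    simp only [mul_assoc, inv_mul_cancel_left]
    rw [← mul_assoc a, ← pow_succ', pow_succ, mul_assoc]
  set C := Subgroup.centralizer ({b} : Set G) with hC
  let a' : C := ⟨a, Subgroup.mem_centralizer_singleton_iff.2 hab⟩
  let c' : C := ⟨c, Subgroup.mem_centralizer_singleton_iff.2 hcb⟩
  have hpg : ∀ y : C, (y : G) ^ p ^ k = 1 → IsPGroup p (Subgroup.zpowers y) := by
    intro y hy
    obtain ⟨i, -, hi⟩ := (Nat.dvd_prime_pow (Fact.out : p.Prime)).1
      (orderOf_dvd_of_pow_eq_one (show y ^ p ^ k = 1 from Subtype.ext (by simpa using hy)))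
    exact IsPGroup.of_card (n := i) (by rw [Nat.card_zpowers, hi])
  obtain ⟨T, hT⟩ := (hpg a' hk').exists_le_sylow
  obtain ⟨T', hT'⟩ := (hpg c' (by
    show (g * a * g⁻¹) ^ p ^ k = 1
    rw [conj_pow, hk']; group)).exists_le_sylow
  obtain ⟨d, hd⟩ := MulAction.exists_smul_eq C T' T
  obtain ⟨U, hU⟩ := (T.2.map C.subtype).exists_le_sylow
  obtain ⟨h, hh⟩ := MulAction.exists_smul_eq G S U
  have ha1 : a ∈ (U : Subgroup G) := hU ⟨a', hT (Subgroup.mem_zpowers _), rfl⟩
  have hc1 : (d : G) * c * (d : G)⁻¹ ∈ (U : Subgroup G) := by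
    refine hU ⟨d * c' * d⁻¹, ?_, by simp [c']⟩
    rw [← hd]
    exact Subgroup.smul_mem_pointwise_smul c' (MulAut.conj d) _ (hT' (Subgroup.mem_zpowers _))
  rw [← hh] at ha1 hc1
  have key : ∀ x : G, x ∈ ((h • S : Sylow p G) : Subgroup G) → h⁻¹ * x * h ∈ (S : Subgroup G) := by
    intro x hx
    rw [Sylow.coe_subgroup_smul, Subgroup.mem_pointwise_smul_iff_inv_smul_mem] at hx
    simpa [MulAut.smul_def, MulAut.inv_def] using hx
  have e1 : h⁻¹ * a * h = a := by
    simpa using hwc h⁻¹ (by simpa using key a ha1)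
  have e2 : h⁻¹ * ((d : G) * c * (d : G)⁻¹) * h = a := by
    have hh2 := key _ hc1
    have h3 : h⁻¹ * ((d : G) * c * (d : G)⁻¹) * h = (h⁻¹ * d * g) * a * (h⁻¹ * d * g)⁻¹ := by
      rw [hcdef]; group
    rw [h3] at hh2 ⊢
    exact hwc _ hh2
  have e3 : (d : G) * c * (d : G)⁻¹ = a :=
    mul_left_cancel (mul_right_cancel (e2.trans e1.symm))
  have e4 : (d : G) * b * (d : G)⁻¹ = b :=
    mul_inv_eq_iff_eq_mul.2 (Subgroup.mem_centralizer_singleton_iff.1 d.2)
  rw [← e3, conj_pow]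
  nth_rw 1 [← e4]
  rw [hbdef, hcdef, conj_pow]

end Cfsg.Agent.S1939
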