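import Cfsg.Statements.S1940
-- import your own Cfsg.Agent.* helpers here

set_option autoImplicit false
open Cfsg

namespace Cfsg.Agent.S1940

/-- Let the finite group L act by automorphisms on the finite abelian group M, and let N be an L-invariant subgroup of M such that M/N is a p-group on which L acts trivially (every l • m lies in the coset mN). If every element of M is a product of an element of N and an element fixed by a Sylow p-subgroup T of L, then every element of M is a product of an element of N and an element fixed by all of L. -/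
theorem result {L : Type*} [Group L] [Finite L] {M : Type*} [CommGroup M] [Finite M] [MulDistribMulAction L M]
    {p : ℕ} [Fact p.Prime] (N : Subgroup M) (hN : ∀ (l : L) (m : M), m ∈ N → l • m ∈ N)
    (hquot : IsPGroup p (M ⧸ N)) (htriv : ∀ (l : L) (m : M), (l • m) * m⁻¹ ∈ N) (T : Sylow p L)
    (hT : ∀ m : M, ∃ n ∈ N, ∃ c : M, (∀ t ∈ (T : Subgroup L), t • c = c) ∧ m = n * c) :
    ∀ m : M, ∃ n ∈ N, ∃ c : M, (∀ l : L, l • c = c) ∧ m = n * c := by
  haveI : N.Normal := inferInstance
  have hφ : ∀ m : M, (∀ t ∈ (T : Subgroup L), t • m = m) → ∃ φ : L ⧸ (T : Subgroup L) → M,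
      ∀ l : L, φ l = l • m := by
    intro m hm
    refine ⟨fun q => Quotient.liftOn' q (fun l => l • m) ?_, fun l => rfl⟩
    intro a b hab
    rw [QuotientGroup.leftRel_apply] at hab
    have := congrArg (fun t => a • t) (hm _ hab)
    simpa [← mul_smul] using this.symm
  intro m
  obtain ⟨n, hn, c, hc, rfl⟩ := hT m
  obtain ⟨φ, hφ⟩ := hφ c hc
  haveI : Fintype (L ⧸ (T : Subgroup L)) := Fintype.ofFinite _
  set c' : M := ∏ q, φ q with hc'
  have hfix : ∀ l : L, l • c' = c' := by
    intro l
    rw [hc', Finset.smul_prod']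
    refine Fintype.prod_equiv (MulAction.toPerm l) _ _ fun q => ?_
    induction q using QuotientGroup.induction_on with
    | _ a =>
      simp only [MulAction.toPerm_apply, MulAction.Quotient.smul_coe, hφ, smul_eq_mul, mul_smul]
  have hmk : (c' : M ⧸ N) = (c : M ⧸ N) ^ (T : Subgroup L).index := by
    rw [hc', ← QuotientGroup.mk'_apply, map_prod (QuotientGroup.mk' N), Subgroup.index_eq_card, Nat.card_eq_fintype_card]
    refine Finset.prod_eq_pow_card ?_
    intro q _
    induction q using QuotientGroup.induction_on with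
    | _ a =>
      rw [hφ, QuotientGroup.mk'_apply]
      exact QuotientGroup.eq_iff_div_mem.2 (by rw [div_eq_mul_inv]; exact htriv a c)
  obtain ⟨i, hi⟩ := IsPGroup.iff_orderOf.1 hquot (c : M ⧸ N)
  obtain ⟨j, hj⟩ := exists_pow_eq_self_of_coprime (x := (c : M ⧸ N)) (n := (T : Subgroup L).index)
    (hi ▸ Nat.Coprime.pow_right i ((Fact.out : p.Prime).coprime_iff_not_dvd.2 T.not_dvd_index).symm)
  refine ⟨n * (c * (c' ^ j)⁻¹), mul_mem hn ?_, c' ^ j, fun l => by rw [smul_pow', hfix], ?_⟩
  · rw [← QuotientGroup.eq_one_iff, QuotientGroup.mk_mul, QuotientGroup.mk_inv, QuotientGroup.mk_pow,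
      hmk, hj, mul_inv_cancel]
  · rw [mul_assoc n, inv_mul_cancel_right]

end Cfsg.Agent.S1940
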