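import Cfsg.Statements.S1941
import Cfsg.Agent.Lib.FStarTools.Basic
import Cfsg.Agent.Lib.Components.GenFitting
import Cfsg.Agent.Lib.Cores.Basic
-- import your own Cfsg.Agent.* helpers here

set_option autoImplicit false
open Cfsg

namespace Cfsg.Agent.S1941

/-- Let G be a finite group with no nontrivial normal subgroup of order prime to p, T a Sylow p-subgroup of G and E(G) the layer of G (the subgroup generated by its components). An automorphism of G of p-power order that fixes T and E(G) elementwise is inner. -/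
theorem result {G : Type*} [Group G] [Finite G] {p : ℕ} [Fact p.Prime] (hcore : Cfsg.pPrimeCore p G = ⊥)
    (T : Sylow p G) (α : MulAut G) (hα : ∃ j : ℕ, orderOf α = p ^ j) (hfixT : ∀ x ∈ (T : Subgroup G), α x = x)
    (hfixE : ∀ x ∈ Cfsg.layer G, α x = x) : ∃ g : G, ∀ x : G, α x = g * x * g⁻¹ := by
  set F := Cfsg.generalizedFittingSubgroup G with hF
  have hFT : Cfsg.fittingSubgroup G ≤ (T : Subgroup G) := by
    rw [Cfsg.Agent.Lib.FStarTools.fitting_eq_pCore hcore]
    exact Cfsg.Agent.Lib.Cores.pCore_le_sylow T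
  have hfixF : ∀ x ∈ F, α x = x := by
    intro x hx
    have : F ≤ α.toMonoidHom.eqLocus (MonoidHom.id G) :=
      sup_le (fun y hy => hfixE y hy) (fun y hy => hfixT y (hFT hy))
    exact this hx
  set C := Subgroup.centralizer (F : Set G) with hC
  haveI hFn : F.Normal := inferInstanceAs (Cfsg.generalizedFittingSubgroup G).Normal
  haveI hCn : C.Normal := by rw [hC]; infer_instance
  have hCF : C ≤ F := Cfsg.Agent.Lib.Components.GenFitting.centralizer_le
  have hCT : C ≤ (T : Subgroup G) :=
    (Cfsg.Agent.Lib.FStarTools.center_genFitting_le).trans hFT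
  have hεmem : ∀ g : G, α g * g⁻¹ ∈ C := by
    intro g
    rw [hC, Subgroup.mem_centralizer_iff]
    intro f hf
    have h1 : g⁻¹ * f * g ∈ F := by simpa using hFn.conj_mem f hf g⁻¹
    have h2 := hfixF _ h1
    rw [map_mul, map_mul, map_inv, hfixF f hf] at h2
    calc f * (α g * g⁻¹) = α g * ((α g)⁻¹ * f * α g) * g⁻¹ := by group
      _ = α g * (g⁻¹ * f * g) * g⁻¹ := by rw [h2]
      _ = α g * g⁻¹ * f := by group
  have hcomm : ∀ a ∈ C, ∀ b ∈ C, a * b = b * a := fun a ha b hb =>
    (Subgroup.mem_centralizer_iff.1 ha b (hCF hb)).symm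
  letI : CommGroup C :=
    { (inferInstance : Group C) with mul_comm := fun a b => Subtype.ext (hcomm a a.2 b b.2) }
  let ε : G → C := fun g => ⟨α g * g⁻¹, hεmem g⟩
  let cc : G → (C →* C) := fun g =>
    { toFun := fun a => ⟨g * a * g⁻¹, hCn.conj_mem a a.2 g⟩
      map_one' := Subtype.ext (by simp)
      map_mul' := fun a b => Subtype.ext (by simp [mul_assoc]) }
  have hmul : ∀ g h : G, ε (g * h) = ε g * cc g (ε h) := by
    intro g h
    refine Subtype.ext ?_
    show α (g * h) * (g * h)⁻¹ = α g * g⁻¹ * (g * (α h * h⁻¹) * g⁻¹)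
    rw [map_mul]; group
  have hright : ∀ g : G, ∀ t ∈ (T : Subgroup G), ε (g * t) = ε g := by
    intro g t ht
    have : ε t = 1 := Subtype.ext (by show α t * t⁻¹ = 1; rw [hfixT t ht, mul_inv_cancel])
    rw [hmul, this, map_one, mul_one]
  let φ : G ⧸ (T : Subgroup G) → C := fun q => Quotient.liftOn' q ε (fun a b hab => by
    rw [QuotientGroup.leftRel_apply] at hab
    have := hright a _ hab
    rw [mul_inv_cancel_left] at this
    exact this.symm)
  have hφ : ∀ g : G, φ g = ε g := fun g => rfl
  haveI : Fintype (G ⧸ (T : Subgroup G)) := Fintype.ofFinite _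
  set S : C := ∏ q, φ q with hS
  set k := (T : Subgroup G).index with hk
  have hkey : ∀ g : G, ε g ^ k * cc g S = S := by
    intro g
    have h1 : S = ∏ q, φ (g • q) := (Fintype.prod_equiv (MulAction.toPerm g) _ _ fun q => rfl).symm
    have h2 : ∀ q : G ⧸ (T : Subgroup G), φ (g • q) = ε g * cc g (φ q) := by
      intro q
      induction q using QuotientGroup.induction_on with
      | _ a => rw [MulAction.Quotient.smul_coe, smul_eq_mul, hφ, hφ, hmul]
    conv_rhs => rw [h1]
    simp only [h2, Finset.prod_mul_distrib, Finset.prod_const, Finset.card_univ, hS, map_prod]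
    rw [hk, Subgroup.index_eq_card, Nat.card_eq_fintype_card]
  have hCp : IsPGroup p C := T.2.to_le hCT
  obtain ⟨i, hi⟩ := IsPGroup.iff_card.1 hCp
  have hcop : (Nat.card C).Coprime k := by
    rw [hi]
    exact Nat.Coprime.pow_left i ((Fact.out : p.Prime).coprime_iff_not_dvd.2 T.not_dvd_index)
  obtain ⟨s, hs⟩ : ∃ s : C, s ^ k = S := (powCoprime hcop).surjective S
  refine ⟨s, fun g => ?_⟩
  have h3 : ε g * cc g s = s := (powCoprime hcop).injective (by
    show (ε g * cc g s) ^ k = s ^ k
    rw [mul_pow, ← map_pow, hs]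
    exact hkey g)
  have h4 : α g * g⁻¹ * (g * (s : G) * g⁻¹) = s := congrArg Subtype.val h3
  calc α g = (α g * g⁻¹ * (g * (s : G) * g⁻¹)) * g * (s : G)⁻¹ := by group
    _ = (s : G) * g * (s : G)⁻¹ := by rw [h4]

end Cfsg.Agent.S1941
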