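import Cfsg.Statements.S1944
import Cfsg.Agent.Lib.Transfer.Fusion
import Cfsg.Agent.Lib.Cores.Basic
-- import your own Cfsg.Agent.* helpers here

set_option autoImplicit false
open Cfsg

namespace Cfsg.Agent.S1944

open Cfsg.Agent.Lib Cfsg.Agent.Lib.Transfer

/-- Let S be a Sylow p-subgroup of the finite group G and suppose that the centre Z(S) lies in O_{p',p}(G). The elements of S each of which is its only G-conjugate in S form a subgroup W of Z(S); W is then a direct factor of Z(S): there is a subgroup K of Z(S) with W ∩ K = 1 and WK = Z(S). -/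
theorem result {G : Type*} [Group G] [Finite G] {p : ℕ} [Fact p.Prime] (S : Sylow p G)
    (hZ : ((S : Subgroup G) ⊓ Subgroup.centralizer ((S : Subgroup G) : Set G)) ≤ Cfsg.pPrimePCore p G) :
    ∃ W K : Subgroup G, (∀ x : G, x ∈ W ↔ (x ∈ (S : Subgroup G) ∧ ∀ g : G, g * x * g⁻¹ ∈ (S : Subgroup G) → g * x * g⁻¹ = x)) ∧
      K ≤ ((S : Subgroup G) ⊓ Subgroup.centralizer ((S : Subgroup G) : Set G)) ∧ W ⊓ K = ⊥ ∧ W ⊔ K = ((S : Subgroup G) ⊓ Subgroup.centralizer ((S : Subgroup G) : Set G)) := by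
  set O := Cfsg.pPrimeCore p G with hO
  set M := Cfsg.pPrimePCore p G with hM
  set f := QuotientGroup.mk' O with hf
  have hOco : ¬ p ∣ Nat.card O := Cores.not_dvd_card_pPrimeCore p
  haveI : M.Normal := by rw [hM, Cfsg.pPrimePCore]; infer_instance
  obtain ⟨P₀, hP₀⟩ := Fusion.exists_sylow_map_eq_inf M S
  set S₀ : Subgroup G := (P₀ : Subgroup M).map M.subtype with hS₀
  have hS₀S : S₀ ≤ (S : Subgroup G) := hP₀ ▸ inf_le_right
  set N := Subgroup.normalizer (S₀ : Set G) with hN
  have hSN : (S : Subgroup G) ≤ N := by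
    intro s hs
    have hs' := Subgroup.le_normalizer hs
    refine Subgroup.mem_normalizer_iff.2 fun x => ?_
    rw [hP₀, Subgroup.mem_inf, Subgroup.mem_inf]
    refine and_congr ?_ (Subgroup.mem_normalizer_iff.1 hs' x)
    constructor
    · exact fun h => (inferInstance : M.Normal).conj_mem x h s
    · intro h
      have := (inferInstance : M.Normal).conj_mem _ h s⁻¹
      simpa [mul_assoc] using this
  -- `G = N O`
  have htop : N ⊔ O = ⊤ := by
    rw [eq_top_iff, ← P₀.normalizer_sup_eq_top, sup_le_iff]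
    refine ⟨le_sup_left, fun m hm => ?_⟩
    obtain ⟨k, hk, z, hz, hkz⟩ := PResidual.exists_mul_sylow P₀ ⟨m, hm⟩
    have hk' : (k : G) ∈ O := by
      have h1 : Cfsg.pResidual p M ≤ ((f.comp M.subtype).codRestrict (Cfsg.pCore p (G ⧸ O))
          (fun x => x.2)).ker := PResidual.pResidual_le_ker _ (Cores.pCore_isPGroup p)
      exact (QuotientGroup.eq_one_iff _).1 (congrArg Subtype.val (MonoidHom.mem_ker.1 (h1 hk)))
    have h3 : (k : G) * (z : G) = m := congrArg Subtype.val hkz
    exact h3 ▸ mul_mem (Subgroup.mem_sup_right hk')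
      (Subgroup.mem_sup_left (Subgroup.le_normalizer (show (z : G) ∈ S₀ from ⟨z, hz, rfl⟩)))
  set Z := (S : Subgroup G) ⊓ Subgroup.centralizer ((S : Subgroup G) : Set G) with hZdef
  set A := S₀ ⊓ Subgroup.centralizer (S₀ : Set G) with hA
  have hZA : Z ≤ A := fun x hx =>
    ⟨hP₀ ▸ ⟨hZ hx, hx.1⟩, Subgroup.centralizer_le hS₀S hx.2⟩
  set W := (S : Subgroup G) ⊓ Subgroup.centralizer (N : Set G) with hW
  have hWZ : W ≤ Z := fun x hx => ⟨hx.1, Subgroup.centralizer_le hSN hx.2⟩
  have hWiff : ∀ x : G, x ∈ W ↔ (x ∈ (S : Subgroup G) ∧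
      ∀ g : G, g * x * g⁻¹ ∈ (S : Subgroup G) → g * x * g⁻¹ = x) := by
    intro x
    constructor
    · intro hx
      refine ⟨hx.1, fun g hg => ?_⟩
      have hg' : g ∈ ((N ⊔ O : Subgroup G) : Set G) :=
        (SetLike.ext_iff.1 htop g).2 (Subgroup.mem_top g)
      rw [Subgroup.mul_normal] at hg'
      obtain ⟨n, hn, k, hk, rfl⟩ := hg'
      have hfix : ∀ m ∈ N, m * x * m⁻¹ = x := fun m hm =>
        mul_inv_eq_iff_eq_mul.2 (Subgroup.mem_centralizer_iff.1 hx.2 m hm)
      have h1 : n * k * x * (n * k)⁻¹ * x⁻¹ ∈ O := by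
        have h2 := (inferInstance : O.Normal).conj_mem _
          (mul_mem hk ((inferInstance : O.Normal).conj_mem _ (inv_mem hk) x)) n
        have h3 : n * (k * (x * k⁻¹ * x⁻¹)) * n⁻¹ = n * k * x * (n * k)⁻¹ * (n * x * n⁻¹)⁻¹ := by
          group
        rwa [h3, hfix n hn] at h2
      exact mul_inv_eq_one.1 (Subgroup.disjoint_def.1 (PResidual.disjoint_of_not_dvd hOco S.2) h1
        (mul_mem hg (inv_mem hx.1)))
    · rintro ⟨hxS, hwc⟩
      have hxZ : x ∈ Z := ⟨hxS, Subgroup.mem_centralizer_iff.2 fun s hs => mul_inv_eq_iff_eq_mul.1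
        (hwc s (mul_mem (mul_mem hs hxS) (inv_mem hs)))⟩
      refine ⟨hxS, Subgroup.mem_centralizer_iff.2 fun n hn => mul_inv_eq_iff_eq_mul.1
        (hwc n (hS₀S ((Subgroup.mem_normalizer_iff.1 hn x).1 (hZA hxZ).1)))⟩
  have hAn : ∀ n ∈ N, ∀ a ∈ A, n * a * n⁻¹ ∈ A := by
    intro n hn a ha
    refine ⟨(Subgroup.mem_normalizer_iff.1 hn a).1 ha.1, Subgroup.mem_centralizer_iff.2 fun s hs => ?_⟩
    have h1 := Subgroup.mem_centralizer_iff.1 ha.2 _ ((Subgroup.mem_normalizer_iff''.1 hn s).1 hs)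
    calc s * (n * a * n⁻¹) = n * ((n⁻¹ * s * n) * a) * n⁻¹ := by group
      _ = n * (a * (n⁻¹ * s * n)) * n⁻¹ := by rw [h1]
      _ = n * a * n⁻¹ * s := by group
  letI : CommGroup A := { (inferInstance : Group A) with
    mul_comm := fun a b => Subtype.ext (Subgroup.mem_centralizer_iff.1 b.2.2 a a.2.1) }
  set SN := (S : Subgroup G).subgroupOf N with hSNdef
  haveI : Fintype (N ⧸ SN) := Fintype.ofFinite _
  let cj : Z → N ⧸ SN → A := fun z q => Quotient.liftOn' q
    (fun n => (⟨(n : G) * z * (n : G)⁻¹, hAn n n.2 z (hZA z.2)⟩ : A)) (fun a b hab => by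
      rw [QuotientGroup.leftRel_apply] at hab
      have h1 := Subgroup.mem_centralizer_iff.1 z.2.2 _ (Subgroup.mem_subgroupOf.1 hab)
      refine Subtype.ext ?_
      show (a : G) * z * (a : G)⁻¹ = (b : G) * z * (b : G)⁻¹
      push_cast at h1
      calc (a : G) * z * (a : G)⁻¹ = (a : G) * ((z : G) * ((a : G)⁻¹ * b)) * (b : G)⁻¹ := by group
        _ = (a : G) * (((a : G)⁻¹ * b) * z) * (b : G)⁻¹ := by rw [h1]
        _ = (b : G) * z * (b : G)⁻¹ := by group)
  let τ : Z →* A :=
    { toFun := fun z => ∏ q, cj z q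
      map_one' := Finset.prod_eq_one fun q _ => by
        induction q using QuotientGroup.induction_on with
        | _ a => exact Subtype.ext (by show (a : G) * 1 * (a : G)⁻¹ = 1; group)
      map_mul' := fun y z => by
        rw [← Finset.prod_mul_distrib]
        refine Finset.prod_congr rfl fun q _ => ?_
        induction q using QuotientGroup.induction_on with
        | _ a => exact Subtype.ext (by
            show (a : G) * ((y : G) * z) * (a : G)⁻¹ =
              (a : G) * y * (a : G)⁻¹ * ((a : G) * z * (a : G)⁻¹)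
            group) }
  have hτW : ∀ z : Z, ((τ z : A) : G) ∈ W := by
    intro z
    refine ⟨hS₀S (τ z).2.1, Subgroup.mem_centralizer_iff.2 fun m hm => mul_inv_eq_iff_eq_mul.1 ?_⟩
    let cm : A →* A :=
      { toFun := fun a => ⟨m * a * m⁻¹, hAn m hm a a.2⟩
        map_one' := Subtype.ext (by simp)
        map_mul' := fun a b => Subtype.ext (by simp [mul_assoc]) }
    have : cm (τ z) = τ z := by
      show cm (∏ q, cj z q) = ∏ q, cj z q
      rw [map_prod]
      refine Fintype.prod_equiv (MulAction.toPerm (⟨m, hm⟩ : N)) _ _ fun q => ?_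
      induction q using QuotientGroup.induction_on with
      | _ a => exact Subtype.ext (by
          show m * ((a : G) * z * (a : G)⁻¹) * m⁻¹ = m * (a : G) * z * (m * (a : G))⁻¹
          group)
    exact congrArg Subtype.val this
  have hτpow : ∀ z : Z, (z : G) ∈ W → ((τ z : A) : G) = (z : G) ^ SN.index := by
    intro z hz
    have : τ z = (⟨z, hZA z.2⟩ : A) ^ SN.index := by
      show ∏ q, cj z q = _
      rw [Subgroup.index_eq_card, Nat.card_eq_fintype_card]
      refine Finset.prod_eq_pow_card fun q _ => ?_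
      induction q using QuotientGroup.induction_on with
      | _ a => exact Subtype.ext (mul_inv_eq_iff_eq_mul.2 (Subgroup.mem_centralizer_iff.1 hz.2 a a.2))
    rw [this]; simp
  have hcop : ∀ x ∈ W, SN.index.Coprime (orderOf x) := by
    intro x hx
    obtain ⟨i, hi⟩ := IsPGroup.iff_orderOf.1 S.2 ⟨x, hx.1⟩
    rw [← Subgroup.orderOf_coe] at hi
    rw [show orderOf x = p ^ i from hi]
    refine Nat.Coprime.pow_right i ?_
    refine ((Fact.out : p.Prime).coprime_iff_not_dvd.2 fun hd => ?_).symm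
    exact S.not_dvd_index (hd.trans (Subgroup.relIndex_dvd_index_of_le hSN))
  refine ⟨W, τ.ker.map Z.subtype, hWiff, Subgroup.map_subtype_le _, ?_, ?_⟩
  · rw [Subgroup.eq_bot_iff_forall]
    rintro x ⟨hxW, z, hz, rfl⟩
    have h1 := hτpow z hxW
    rw [MonoidHom.mem_ker.1 hz] at h1
    exact orderOf_eq_one_iff.1 (Nat.eq_one_of_dvd_coprimes (hcop _ hxW).symm dvd_rfl
      (orderOf_dvd_of_pow_eq_one h1.symm))
  · refine le_antisymm (sup_le hWZ (Subgroup.map_subtype_le _)) fun x hx => ?_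
    set t : G := ((τ ⟨x, hx⟩ : A) : G) with ht
    obtain ⟨j, hj⟩ := exists_pow_eq_self_of_coprime (hcop t (hτW _))
    have hsW : t ^ j ∈ W := pow_mem (hτW _) j
    have hker : (⟨t ^ j, hWZ hsW⟩ : Z)⁻¹ * ⟨x, hx⟩ ∈ τ.ker := by
      rw [MonoidHom.mem_ker, map_mul, map_inv, inv_mul_eq_one]
      refine Subtype.ext ?_
      rw [hτpow ⟨t ^ j, hWZ hsW⟩ hsW]
      show (t ^ j) ^ SN.index = t
      rw [← pow_mul, mul_comm, pow_mul]
      exact hj
    have h2 : x = t ^ j * ((t ^ j)⁻¹ * x) := (mul_inv_cancel_left _ _).symm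
    exact h2 ▸ mul_mem (Subgroup.mem_sup_left hsW)
      (Subgroup.mem_sup_right ⟨_, hker, rfl⟩)

end Cfsg.Agent.S1944
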