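import Cfsg.Statements.S1945
import Cfsg.Agent.Lib.LAEven57.CentreSplit
import Cfsg.Agent.Lib.PSolvable.HallHigman
import Cfsg.Agent.Lib.Cores.Basic
-- import your own Cfsg.Agent.* helpers here

set_option autoImplicit false
open Cfsg

namespace Cfsg.Agent.S1945

open Cfsg.FusionSystem Cfsg.Agent.Lib Cfsg.Agent.Lib.FS Cfsg.Agent.Lib.LAEven57.CentreSplit

universe u

/-- `x` is the only conjugate of itself in `S`. -/
def Alone {G : Type u} [Group G] (S : Subgroup G) (x : G) : Prop :=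
  x ∈ S ∧ ∀ g : G, g * x * g⁻¹ ∈ S → g * x * g⁻¹ = x

theorem alone_center {G : Type u} [Group G] {S : Subgroup G} {x : G} (hx : Alone S x) :
    x ∈ S ⊓ Subgroup.centralizer (S : Set G) :=
  ⟨hx.1, Subgroup.mem_centralizer_iff.2 fun g hg =>
    mul_inv_eq_iff_eq_mul.1 (hx.2 g (S.mul_mem (S.mul_mem hg hx.1) (S.inv_mem hg)))⟩

/-- The data produced by either argument. -/
theorem of_pair {G : Type u} [Group G] [Finite G] {p : ℕ} [Fact p.Prime] (S : Sylow p G) (N M : Subgroup G)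
    (hSN : (S : Subgroup G) ≤ N) (hMS : M ≤ (S : Subgroup G)) (hMn : N ≤ Subgroup.normalizer (M : Set G))
    (hMc : ∀ a ∈ M, ∀ b ∈ M, a * b = b * a)
    (hZM : (S : Subgroup G) ⊓ Subgroup.centralizer ((S : Subgroup G) : Set G) ≤ M)
    (hfix : ∀ x ∈ M, x ∈ Subgroup.centralizer (N : Set G) → Alone (S : Subgroup G) x) :
    ∃ W K : Subgroup G, (∀ x : G, x ∈ W ↔ Alone (S : Subgroup G) x) ∧
      K ≤ ((S : Subgroup G) ⊓ Subgroup.centralizer ((S : Subgroup G) : Set G)) ∧ W ⊓ K = ⊥ ∧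
      W ⊔ K = ((S : Subgroup G) ⊓ Subgroup.centralizer ((S : Subgroup G) : Set G)) := by
  obtain ⟨K, h1, h2, h3⟩ := exists_split S hSN hMS hMn hMc
  have he : M ⊓ Subgroup.centralizer ((S : Subgroup G) : Set G) =
      (S : Subgroup G) ⊓ Subgroup.centralizer ((S : Subgroup G) : Set G) :=
    le_antisymm (inf_le_inf_right _ hMS) (le_inf hZM inf_le_right)
  refine ⟨M ⊓ Subgroup.centralizer (N : Set G), K, fun x => ⟨fun hx => hfix x hx.1 hx.2, fun hx => ⟨hZM (alone_center hx), ?_⟩⟩,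
    he ▸ h1, h2, he ▸ h3⟩
  exact Subgroup.mem_centralizer_iff.2 fun n hn => mul_inv_eq_iff_eq_mul.1 (hx.2 n (hMS
    ((Subgroup.mem_normalizer_iff.1 (hMn hn) x).1 (hZM (alone_center hx)))))

theorem case_odd {G : Type u} [Group G] [Finite G] {p : ℕ} [Fact p.Prime] (hp : p ≠ 2) (S : Sylow p G) :
    ∃ W K : Subgroup G, (∀ x : G, x ∈ W ↔ Alone (S : Subgroup G) x) ∧
      K ≤ ((S : Subgroup G) ⊓ Subgroup.centralizer ((S : Subgroup G) : Set G)) ∧ W ⊓ K = ⊥ ∧
      W ⊔ K = ((S : Subgroup G) ⊓ Subgroup.centralizer ((S : Subgroup G) : Set G)) := by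
  set Sg : Subgroup G := (S : Subgroup G) with hSg
  set J := thompsonSubgroupAOf Sg with hJ
  have hJS : J ≤ Sg := Transfer.AbelianJ.thompsonSubgroupAOf_le Sg
  have hSN : Sg ≤ Subgroup.normalizer (J : Set G) :=
    Subgroup.le_normalizer.trans (LAEven57.GlaubermanCenter.normalizer_le_normalizer_J Sg)
  refine of_pair S (Subgroup.normalizer (J : Set G)) (J ⊓ Subgroup.centralizer (J : Set G)) hSN
    (inf_le_left.trans hJS) (fun n hn => ConjFunctor.Basic.mem_normalizer_of_forall fun a ha => ?_)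
    (fun a ha b hb => Subgroup.mem_centralizer_iff.1 hb.2 a ha.1)
    (fun z hz => ⟨center_le_J hz, Subgroup.mem_centralizer_iff.2 fun j hj =>
      Subgroup.mem_centralizer_iff.1 hz.2 j (hJS hj)⟩) fun x hx hxN => ?_
  · refine ⟨(Subgroup.mem_normalizer_iff.1 hn a).1 ha.1, Subgroup.mem_centralizer_iff.2 fun j hj => ?_⟩
    have h1 := Subgroup.mem_centralizer_iff.1 ha.2 _ (conj_inv_mem_of_normalizer hn hj)
    calc j * (n * a * n⁻¹) = n * (n⁻¹ * j * n * a) * n⁻¹ := by group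
      _ = n * a * n⁻¹ * j := by rw [h1]; group
  · have hxS : x ∈ Sg ⊓ Subgroup.centralizer (Sg : Set G) := ⟨hJS hx.1,
      Subgroup.mem_centralizer_iff.2 fun g hg => Subgroup.mem_centralizer_iff.1 hxN g (hSN hg)⟩
    have hF := isSaturated_group S
    have hxF : x ∈ (groupFusionSystem Sg).center := by
      refine mem_center_of_fixed hp S.2 hF hxS fun α h => ?_
      haveI : Finite J := inferInstance
      obtain ⟨-, -, g, hg⟩ := (mem_autGroup hJS).1 α.2
      have hgN : g ∈ Subgroup.normalizer (J : Set G) := mem_normalizer_of_aut (α := (α : MulAut J)) hg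
      refine (hg ⟨x, h⟩).trans ?_
      rw [Subgroup.mem_centralizer_iff.1 hxN g hgN, mul_inv_cancel_right]
    refine ⟨hxS.1, fun g hg => ?_⟩
    have hc := ((isCentral_iff S.2 hF).1 (FusionAlperin.Join.isCentral_center _)).2 x hxF (g * x * g⁻¹)
    refine hc ⟨conjHom (Subgroup.zpowers x) g, ⟨Subgroup.zpowers_le.2 hxS.1, ?_, g, fun v => rfl⟩, rfl⟩
    rintro ⟨v, hv⟩
    obtain ⟨k, rfl⟩ := Subgroup.mem_zpowers_iff.1 hv
    show g * x ^ k * g⁻¹ ∈ Sg
    rw [← conj_zpow]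
    exact Sg.zpow_mem hg k

theorem case_solvable {G : Type u} [Group G] [Finite G] {p : ℕ} [Fact p.Prime] (hs : Group.IsSolvable G)
    (S : Sylow p G) :
    ∃ W K : Subgroup G, (∀ x : G, x ∈ W ↔ Alone (S : Subgroup G) x) ∧
      K ≤ ((S : Subgroup G) ⊓ Subgroup.centralizer ((S : Subgroup G) : Set G)) ∧ W ⊓ K = ⊥ ∧
      W ⊔ K = ((S : Subgroup G) ⊓ Subgroup.centralizer ((S : Subgroup G) : Set G)) := by
  set Sg : Subgroup G := (S : Subgroup G) with hSg
  set O := pPrimeCore p G with hO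
  set π := QuotientGroup.mk' O with hπ
  have hπs := QuotientGroup.mk'_surjective O
  set U := (pCore p (G ⧸ O)).comap π with hU
  haveI : U.Normal := inferInstanceAs (Subgroup.Normal (Subgroup.comap _ _))
  set T := Sg ⊓ U with hT
  have hSO : Sg ⊓ O = ⊥ := Subgroup.inf_eq_bot_of_coprime (by
    obtain ⟨k, hk⟩ := S.2.exists_card_eq
    rw [hk]
    exact (Cores.pPrimeCore_coprime p).symm.pow_left k)
  have hTmap : T.map π = pCore p (G ⧸ O) := by
    refine le_antisymm (Subgroup.map_le_iff_le_comap.2 inf_le_right) fun y hy => ?_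
    have hy' : y ∈ Sg.map π := Cores.pCore_le_sylow (S.mapSurjective hπs) hy
    obtain ⟨s, hs, rfl⟩ := hy'
    exact ⟨s, ⟨hs, hy⟩, rfl⟩
  have hTc : ∀ x ∈ Sg, x ∈ Subgroup.centralizer (T : Set G) → x ∈ T := fun x hx hxc =>
    ⟨hx, PSolvable.centralizer_pCore_le
      (PSolvable.isPSolvable_quotient (PSolvable.isPSolvable_of_isSolvable) O)
      (Cores.pPrimeCore_quotient_pPrimeCore p) (Subgroup.mem_centralizer_iff.2 fun y hy => by
        obtain ⟨t, ht, rfl⟩ := hTmap.ge hy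
        rw [← map_mul, ← map_mul, Subgroup.mem_centralizer_iff.1 hxc t ht])⟩
  have hSN : Sg ≤ Subgroup.normalizer (T : Set G) := fun s hs =>
    ConjFunctor.Basic.mem_normalizer_of_forall fun a ha =>
      ⟨Sg.mul_mem (Sg.mul_mem hs ha.1) (Sg.inv_mem hs), Subgroup.Normal.conj_mem inferInstance a ha.2 s⟩
  refine of_pair S (Subgroup.normalizer (T : Set G)) (T ⊓ Subgroup.centralizer (T : Set G)) hSN
    (inf_le_left.trans inf_le_left) (fun n hn => ConjFunctor.Basic.mem_normalizer_of_forall fun a ha => ?_)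
    (fun a ha b hb => Subgroup.mem_centralizer_iff.1 hb.2 a ha.1)
    (fun z hz => ?_) fun x hx hxN => ?_
  · refine ⟨(Subgroup.mem_normalizer_iff.1 hn a).1 ha.1, Subgroup.mem_centralizer_iff.2 fun j hj => ?_⟩
    have h1 := Subgroup.mem_centralizer_iff.1 ha.2 _ (conj_inv_mem_of_normalizer hn hj)
    calc j * (n * a * n⁻¹) = n * (n⁻¹ * j * n * a) * n⁻¹ := by group
      _ = n * a * n⁻¹ * j := by rw [h1]; group
  · have hzT : z ∈ Subgroup.centralizer (T : Set G) := Subgroup.mem_centralizer_iff.2 fun t ht =>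
      Subgroup.mem_centralizer_iff.1 hz.2 t ht.1
    exact ⟨hTc z hz.1 hzT, hzT⟩
  · refine ⟨hx.1.1, fun g hg => ?_⟩
    obtain ⟨c, hc, n, hn, rfl⟩ := (ConjFunctor.Basic.isSyl_top S).frattini (N := U) le_top
      Subgroup.le_normalizer_of_normal (Subgroup.mem_top g)
    have hn' : n * x * n⁻¹ = x := by
      rw [Subgroup.mem_centralizer_iff.1 hxN n hn.2, mul_inv_cancel_right]
    have hcx : c * n * x * (c * n)⁻¹ = c * x * c⁻¹ := by
      calc c * n * x * (c * n)⁻¹ = c * (n * x * n⁻¹) * c⁻¹ := by group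
        _ = c * x * c⁻¹ := by rw [hn']
    rw [hcx] at hg ⊢
    obtain ⟨t, ht, he⟩ := hTmap.ge (Subgroup.mem_comap.1 hc)
    -- `x⁻¹ c x c⁻¹` lies in `O`
    have h1 : x⁻¹ * (c * x * c⁻¹) ∈ O := by
      refine (QuotientGroup.eq_one_iff _).1 ?_
      show π (x⁻¹ * (c * x * c⁻¹)) = 1
      simp only [map_mul, map_inv, ← he]
      rw [← map_mul π t x, Subgroup.mem_centralizer_iff.1 hx.2 t ht]
      simp [map_mul, mul_assoc]
    have h2 : x⁻¹ * (c * x * c⁻¹) ∈ Sg ⊓ O := ⟨Sg.mul_mem (Sg.inv_mem hx.1.1) hg, h1⟩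
    rw [hSO, Subgroup.mem_bot, inv_mul_eq_one] at h2
    exact h2.symm

/-- Let S be a Sylow p-subgroup of the finite group G, and assume that p is odd or that G is solvable. The elements of S each of which is its only G-conjugate in S form a subgroup W of Z(S); W is then a direct factor of Z(S): there is a subgroup K of Z(S) with W ∩ K = 1 and WK = Z(S). (For p = 2 and G not solvable this can fail.) -/
theorem result {G : Type*} [Group G] [Finite G] {p : ℕ} [Fact p.Prime] (S : Sylow p G) (h : p ≠ 2 ∨ Group.IsSolvable G) :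
    ∃ W K : Subgroup G, (∀ x : G, x ∈ W ↔ (x ∈ (S : Subgroup G) ∧ ∀ g : G, g * x * g⁻¹ ∈ (S : Subgroup G) → g * x * g⁻¹ = x)) ∧
      K ≤ ((S : Subgroup G) ⊓ Subgroup.centralizer ((S : Subgroup G) : Set G)) ∧ W ⊓ K = ⊥ ∧ W ⊔ K = ((S : Subgroup G) ⊓ Subgroup.centralizer ((S : Subgroup G) : Set G)) := by
  rcases h with h | h
  · exact case_odd h S
  · exact case_solvable h S

end Cfsg.Agent.S1945
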