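import Cfsg.Statements.S1946
import Cfsg.Agent.Lib.Transfer.Frobenius
import Cfsg.Agent.Lib.FusionEssential.SmallOrder
import Cfsg.Agent.Lib.FusionEssential.PClosed

set_option autoImplicit false
open Cfsg
open scoped commutatorElement

namespace Cfsg.Agent.S1946

/-- Let P be a Sylow p-subgroup of the finite group G. Then G has a normal p-complement if and only if P controls the fusion of its elements of order dividing p (dividing 4 when p = 2): whenever such an element a of P has a G-conjugate g a g⁻¹ in P, that conjugate is already x a x⁻¹ for some x in P. -/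
theorem result {G : Type*} [Group G] [Finite G] {p : ℕ} [Fact p.Prime] (P : Sylow p G) :
    Cfsg.HasNormalPComplement p G ↔
      ∀ a ∈ (P : Subgroup G), (a ^ p = 1 ∨ (p = 2 ∧ a ^ 4 = 1)) → ∀ g : G, g * a * g⁻¹ ∈ (P : Subgroup G) →
        ∃ x ∈ (P : Subgroup G), g * a * g⁻¹ = x * a * x⁻¹ := by
  constructor
  · intro hK a ha _ g hg
    set K := Cfsg.pResidual p G with hKdef
    have hdis := Lib.Transfer.PResidual.disjoint_of_not_dvd
      (Lib.Transfer.PResidual.hasNormalPComplement_iff_not_dvd.1 hK) P.isPGroup'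
    haveI hn : K.Normal := Lib.Transfer.PResidual.pResidual_normal
    obtain ⟨x, hx, k, hk, rfl⟩ : ∃ x ∈ (P : Subgroup G), ∃ k ∈ K, x * k = g :=
      Subgroup.mem_sup_of_normal_right.1 (((sup_comm _ _).trans (Lib.Transfer.PResidual.sup_sylow_eq_top P)) ▸ Subgroup.mem_top g)
    refine ⟨x, hx, ?_⟩
    have hc : k * a * k⁻¹ ∈ (P : Subgroup G) := by
      have h1 := (P : Subgroup G).mul_mem ((P : Subgroup G).mul_mem ((P : Subgroup G).inv_mem hx) hg) hx
      simpa [mul_assoc] using h1
    have h2 : k * a * k⁻¹ * a⁻¹ ∈ K := by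
      have h3 := K.mul_mem hk (hn.conj_mem k⁻¹ (K.inv_mem hk) a)
      simpa [mul_assoc] using h3
    have h3 : k * a * k⁻¹ * a⁻¹ = 1 :=
      Subgroup.disjoint_def.1 hdis h2 ((P : Subgroup G).mul_mem hc ((P : Subgroup G).inv_mem ha))
    have h4 : k * a * k⁻¹ = a := mul_inv_eq_one.1 h3
    rw [show x * k * a * (x * k)⁻¹ = x * (k * a * k⁻¹) * x⁻¹ by group, h4]
  intro hfus
  refine Lib.Transfer.Frobenius.hasNormalPComplement_of_forall_centralizes fun Q hQ _ y hy hyc => ?_
  obtain ⟨R, hR⟩ := hQ.exists_le_sylow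
  obtain ⟨g, hg⟩ := MulAction.exists_smul_eq G R P
  -- move `Q` into `P`
  set X : Subgroup G := Q.map (MulAut.conj g).toMonoidHom with hXdef
  have hXP : X ≤ (P : Subgroup G) := by
    rintro _ ⟨q, hq, rfl⟩
    rw [← hg]
    exact ⟨q, hR hq, rfl⟩
  set z := g * y * g⁻¹ with hzdef
  have hzn : z ∈ Subgroup.normalizer (X : Set G) := by
    have e : Subgroup.normalizer (X : Set G) =
        (Subgroup.normalizer (Q : Set G)).map (MulAut.conj g).toMonoidHom :=
      (Subgroup.map_equiv_normalizer_eq Q (MulAut.conj g)).symm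
    rw [e]
    exact ⟨y, hy, rfl⟩
  have hX : IsPGroup p X := P.isPGroup'.to_le hXP
  let α : MulAut X := X.normalizerMonoidHom ⟨z, hzn⟩
  have hα : (orderOf α).Coprime p := by
    refine Nat.Coprime.coprime_dvd_left ?_ hyc
    refine dvd_trans (orderOf_map_dvd X.normalizerMonoidHom (⟨z, hzn⟩ : Subgroup.normalizer (X : Set G))) ?_
    rw [Subgroup.orderOf_mk]
    exact ((MulAut.conj g).orderOf_eq y).dvd
  obtain ⟨n, hn⟩ := Lib.FusionEssential.PClosed.exists_lowerCentralSeries_eq_bot (S := (P : Subgroup G)) P.isPGroup'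
  have hfix : ∀ x : X, α x = x := by
    intro x
    refine Lib.FusionEssential.SmallOrder.fixed_of_small hX (Subgroup.zpowers α) {b | b ∈ Subgroup.zpowers α}
      (fun b hb => hb) (fun γ hγ b hb => (Subgroup.zpowers α).mul_mem
        ((Subgroup.zpowers α).mul_mem hγ hb) ((Subgroup.zpowers α).inv_mem hγ))
      (fun b hb => Nat.Coprime.coprime_dvd_left (orderOf_dvd_of_mem_zpowers hb) hα) ⊤ (fun _ _ _ _ => trivial)
      (fun W _ hWi hWs b hb => ?_) α (Subgroup.mem_zpowers α) x trivial
    have hα' : ∀ w ∈ W, α w = w := by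
      refine fun w hw => Lib.FusionEssential.SmallOrder.fixed_of_series hX α hα
        (fun i => W ⊓ ((P : Subgroup G).lowerCentralSeries i).comap X.subtype) (n := n) ?_ (fun i u hu => ?_)
        w ⟨hw, ?_⟩
      · rw [hn, eq_bot_iff]
        rintro u ⟨-, hu⟩
        exact Subgroup.mem_bot.2 (Subtype.ext (Subgroup.mem_bot.1 hu))
      · obtain ⟨huW, hu⟩ := hu
        refine ⟨W.mul_mem (W.inv_mem huW) (hWi α (Subgroup.mem_zpowers α) u huW), ?_⟩
        obtain ⟨s, hs, hse⟩ := hfus (u : G) (hXP u.2)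
          ((Lib.FusionEssential.SmallOrder.small_coe_iff u).2 (hWs u huW)) z (hXP (α u).2)
        show (u : G)⁻¹ * (z * (u : G) * z⁻¹) ∈ (P : Subgroup G).lowerCentralSeries (i + 1)
        rw [hse, Subgroup.lowerCentralSeries_succ,
          show (u : G)⁻¹ * (s * (u : G) * s⁻¹) = ⁅(u : G)⁻¹, s⁆ by simp [commutatorElement_def, mul_assoc]]
        exact Subgroup.commutator_mem_commutator (((P : Subgroup G).lowerCentralSeries i).inv_mem hu) hs
      · rw [Subgroup.lowerCentralSeries_zero]
        exact hXP w.2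
    intro w hw
    have hst : α ∈ MulAction.stabilizer (MulAut X) w := hα' w hw
    exact (Subgroup.zpowers_le.2 hst) hb
  rw [Subgroup.mem_centralizer_iff]
  intro q hq
  have h1 := congrArg Subtype.val (hfix ⟨g * q * g⁻¹, q, hq, rfl⟩)
  rw [Subgroup.normalizerMonoidHom_apply_apply_coe] at h1
  have h2 : y * q * y⁻¹ = q := by
    have := congrArg (fun t => g⁻¹ * t * g) h1
    simpa [hzdef, mul_assoc] using this
  exact (mul_inv_eq_iff_eq_mul.1 h2).symm

end Cfsg.Agent.S1946
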