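import Cfsg.Statements.S1947
import Cfsg.Agent.Lib.OmegaFixed.Basic
import Cfsg.Agent.Lib.Transfer.Frobenius
-- import your own Cfsg.Agent.* helpers here

set_option autoImplicit false
open Cfsg

namespace Cfsg.Agent.S1947

open Cfsg.Agent.Lib

/-- Let G be a finite group and p a prime. If every element of G of order dividing p (dividing 4 when p = 2) lies in some fixed term Z_n(G) of the upper central series, then G has a normal p-complement. -/
theorem result {G : Type*} [Group G] [Finite G] {p : ℕ} [Fact p.Prime] (n : ℕ)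
    (h : ∀ a : G, (a ^ p = 1 ∨ (p = 2 ∧ a ^ 4 = 1)) → a ∈ Subgroup.upperCentralSeries G n) : Cfsg.HasNormalPComplement p G := by
  refine Transfer.Frobenius.hasNormalPComplement_of_forall_centralizes fun Q hQ _ g hg hcop => ?_
  set α : MulAut ↥Q := Q.normalizerMonoidHom ⟨g, hg⟩ with hα
  have hα' : ∀ x : ↥Q, ((α x : ↥Q) : G) = g * (x : G) * g⁻¹ := fun x => rfl
  have hαord : (orderOf α).Coprime p := by
    refine hcop.coprime_dvd_left ((orderOf_map_dvd _ _).trans ?_)
    rw [← Subgroup.orderOf_coe]
  have hser : ∀ (k : ℕ) (x : ↥Q), (x : G) ∈ Subgroup.upperCentralSeries G k → α x = x := by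
    intro k
    induction k with
    | zero =>
      intro x hx
      rw [Subgroup.upperCentralSeries_zero, Subgroup.mem_bot] at hx
      rw [show x = 1 from Subtype.ext hx, map_one]
    | succ k ih =>
      intro x hx
      refine PGroups.eq_of_fixed_diff hQ α hαord x (ih _ ?_)
      rw [Subgroup.mem_upperCentralSeries_succ_iff] at hx
      have h1 := hx g
      show (x : G)⁻¹ * ((α x : ↥Q) : G) ∈ Subgroup.upperCentralSeries G k
      rw [hα', show (x : G)⁻¹ * (g * (x : G) * g⁻¹) =
        (x : G)⁻¹ * ((x : G) * g * (x : G)⁻¹ * g⁻¹)⁻¹ * (x : G)⁻¹⁻¹ by group]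
      exact (inferInstance : (Subgroup.upperCentralSeries G k).Normal).conj_mem _
        (Subgroup.inv_mem _ h1) _
  have hall : ∀ x : ↥Q, α x = x := by
    intro x
    by_cases hp : p = 2
    · refine OmegaFixed.fixed_of_fixed_roots (p := p) 2 (by rw [hp]; norm_num) (by norm_num) hQ α
        hαord (fun y hy => hser n y (h _ (Or.inr ⟨hp, ?_⟩))) ⊤ (fun _ _ => trivial) x trivial
      have h4 : ((y : ↥Q) : G) ^ p ^ 2 = 1 := congrArg Subtype.val hy
      rw [hp] at h4
      norm_num at h4
      exact h4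
    · refine OmegaFixed.fixed_of_fixed_roots (p := p) 1 (by rwa [pow_one]) le_rfl hQ α
        hαord (fun y hy => hser n y (h _ (Or.inl ?_))) ⊤ (fun _ _ => trivial) x trivial
      have h4 : ((y : ↥Q) : G) ^ p ^ 1 = 1 := congrArg Subtype.val hy
      rwa [pow_one] at h4
  refine Subgroup.mem_centralizer_iff.2 fun x hx => ?_
  exact (mul_inv_eq_iff_eq_mul.1 ((hα' ⟨x, hx⟩).symm.trans (congrArg Subtype.val (hall ⟨x, hx⟩)))).symm

end Cfsg.Agent.S1947
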