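import Cfsg.Statements.S1948
import Cfsg.Agent.Lib.Transfer.Fusion
import Cfsg.Agent.Lib.Cores.Basic
-- import your own Cfsg.Agent.* helpers here

set_option autoImplicit false
open Cfsg

namespace Cfsg.Agent.S1948

open Cfsg.Agent.Lib Cfsg.Agent.Lib.Transfer

/-- Let S be a Sylow p-subgroup of the finite group G. Then G = N_G(S)·O_{p'}(G) if and only if G is p-constrained and N_G(S) controls fusion in S, in the sense that whenever a subgroup Q of S has a conjugate g Q g⁻¹ inside S, the element g is a product n c with n normalizing S and c centralizing Q. -/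
theorem result {G : Type*} [Group G] [Finite G] {p : ℕ} [Fact p.Prime] (S : Sylow p G) :
    Subgroup.normalizer ((S : Subgroup G) : Set G) ⊔ Cfsg.pPrimeCore p G = ⊤ ↔
      (Cfsg.IsPConstrained p G ∧
        ∀ Q : Subgroup G, Q ≤ (S : Subgroup G) → ∀ g : G, Q.map (MulAut.conj g).toMonoidHom ≤ (S : Subgroup G) →
          ∃ n ∈ Subgroup.normalizer ((S : Subgroup G) : Set G), ∃ c ∈ Subgroup.centralizer (Q : Set G), g = n * c) := by
  set K := Cfsg.pPrimeCore p G with hK
  set M := Cfsg.pPrimePCore p G with hM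
  set f := QuotientGroup.mk' K with hf
  have hfs : Function.Surjective f := QuotientGroup.mk'_surjective K
  have hKco : ¬ p ∣ Nat.card K := Cores.not_dvd_card_pPrimeCore p
  constructor
  · intro h
    set Sb : Sylow p (G ⧸ K) := S.mapSurjective hfs with hSb
    haveI hSbn : (Sb : Subgroup (G ⧸ K)).Normal := by
      rw [← Subgroup.normalizer_eq_top_iff, eq_top_iff]
      calc (⊤ : Subgroup (G ⧸ K)) =
          (Subgroup.normalizer ((S : Subgroup G) : Set G) ⊔ K).map f := by
            rw [h, Subgroup.map_top_of_surjective f hfs]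
        _ ≤ _ := by
          rw [Subgroup.map_sup, sup_le_iff]
          exact ⟨Subgroup.le_normalizer_map f, by rw [hf, QuotientGroup.map_mk'_self]; exact bot_le⟩
    have hMS : M = (Sb : Subgroup (G ⧸ K)).comap f := by
      rw [hM, Cfsg.pPrimePCore, Cores.pCore_eq_of_normal_sylow Sb]
    refine ⟨fun P c hc => ?_, fun Q hQ g hg => ?_⟩
    · change Sylow p M at P
      change c ∈ M
      rw [hMS, Subgroup.mem_comap]
      set C := Subgroup.centralizer ((Sb : Subgroup (G ⧸ K)) : Set (G ⧸ K)) with hC
      have hcC : f c ∈ C := by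
        have hSM : (S : Subgroup G) ≤ M := hMS ▸ fun s hs => ⟨s, hs, rfl⟩
        obtain ⟨m, hm⟩ := MulAction.exists_smul_eq M (S.subtype hSM) P
        rw [hC, Subgroup.mem_centralizer_iff]
        intro y hy
        obtain ⟨s, hs, hsy⟩ : (f (m : G))⁻¹ * y * f (m : G) ∈ (Sb : Subgroup (G ⧸ K)) := by
          have h0 := hSbn.conj_mem y hy (f (m : G))⁻¹
          rwa [inv_inv] at h0
        have h1 : (m : G) * s * (m : G)⁻¹ ∈
            ((P : Subgroup M).map M.subtype : Subgroup G) := by
          refine ⟨m * ⟨s, hSM hs⟩ * m⁻¹, ?_, rfl⟩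
          rw [← hm]
          exact Subgroup.smul_mem_pointwise_smul (⟨s, hSM hs⟩ : M) (MulAut.conj m) _ hs
        have h2 := congrArg f (Subgroup.mem_centralizer_iff.1 hc _ h1)
        simp only [map_mul, map_inv] at h2
        have h3 : f (m : G) * f s * (f (m : G))⁻¹ = y := by rw [hsy]; group
        rwa [h3] at h2
      haveI : C.Normal := by rw [hC]; infer_instance
      obtain ⟨SC, hSC⟩ := Fusion.exists_sylow_map_eq_inf C Sb
      have hnc : Cfsg.HasNormalPComplement p C := by
        refine Fusion.hasNormalPComplement_of_controls SC fun a ha b _ => ⟨1, one_mem _, ?_⟩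
        have h1 : (a : G ⧸ K) ∈ ((SC : Subgroup C).map C.subtype : Subgroup (G ⧸ K)) := ⟨a, ha, rfl⟩
        rw [hSC] at h1
        have h2 : (a : G ⧸ K) * b = b * a :=
          Subgroup.mem_centralizer_iff.1 b.2 a (Subgroup.mem_inf.1 h1).2
        refine Subtype.ext ?_
        push_cast
        rw [one_mul, inv_one, mul_one, ← h2, mul_inv_cancel_right]
      haveI := Cores.normal_map_subtype C (Cfsg.pResidual p C)
      have hres : Cfsg.pResidual p C = ⊥ := by
        apply Subgroup.map_injective C.subtype_injective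
        rw [Subgroup.map_bot, eq_bot_iff, ← Cores.pPrimeCore_quotient_pPrimeCore (G := G) p]
        refine Cores.le_pPrimeCore_of_not_dvd ?_
        rw [Subgroup.card_map_of_injective C.subtype_injective]
        exact PResidual.hasNormalPComplement_iff_not_dvd.1 hnc
      exact (PResidual.pResidual_eq_bot_iff.1 hres).le_sylow_of_normal Sb hcC
    · have hg' : g ∈ ((Subgroup.normalizer ((S : Subgroup G) : Set G) ⊔ K : Subgroup G) : Set G) := by
        exact (SetLike.ext_iff.1 h g).2 (Subgroup.mem_top g)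
      rw [Subgroup.mul_normal] at hg'
      obtain ⟨n, hn, k, hk, rfl⟩ := hg'
      refine ⟨n, hn, k, Subgroup.mem_centralizer_iff.2 fun q hq => ?_, rfl⟩
      have h1 : k * q * k⁻¹ ∈ (S : Subgroup G) := by
        refine (Subgroup.mem_normalizer_iff.1 hn _).2 ?_
        have h0 : (MulAut.conj (n * k)) q ∈ (S : Subgroup G) := hg ⟨q, hq, rfl⟩
        simpa [mul_assoc] using h0
      have h2 : k * q * k⁻¹ * q⁻¹ ∈ K := by
        have := mul_mem hk ((inferInstance : K.Normal).conj_mem _ (inv_mem hk) q)
        simpa [mul_assoc] using this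
      have h3 := Subgroup.disjoint_def.1 (PResidual.disjoint_of_not_dvd hKco S.2) h2
        (mul_mem h1 (inv_mem (hQ hq)))
      rw [mul_inv_eq_one, mul_inv_eq_iff_eq_mul] at h3
      exact h3.symm
  · rintro ⟨hcon, hctrl⟩
    haveI : M.Normal := by rw [hM, Cfsg.pPrimePCore]; infer_instance
    obtain ⟨P₀, hP₀⟩ := Fusion.exists_sylow_map_eq_inf M S
    have hKM : K ≤ M := by
      intro k hk
      show f k ∈ Cfsg.pCore p (G ⧸ K)
      rw [show f k = 1 from (QuotientGroup.eq_one_iff k).2 hk]
      exact one_mem _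
    have hMK : M ≤ (S : Subgroup G) ⊔ K := by
      intro m hm
      obtain ⟨k, hk, z, hz, hkz⟩ := PResidual.exists_mul_sylow P₀ ⟨m, hm⟩
      have hk' : (k : G) ∈ K := by
        have h1 : Cfsg.pResidual p M ≤ ((f.comp M.subtype).codRestrict (Cfsg.pCore p (G ⧸ K))
            (fun x => x.2)).ker := PResidual.pResidual_le_ker _ (Cores.pCore_isPGroup p)
        have h2 := congrArg Subtype.val (MonoidHom.mem_ker.1 (h1 hk))
        exact (QuotientGroup.eq_one_iff _).1 h2
      have hz' : (z : G) ∈ (S : Subgroup G) := by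
        have : (z : G) ∈ ((P₀ : Subgroup M).map M.subtype : Subgroup G) := ⟨z, hz, rfl⟩
        rw [hP₀] at this
        exact (Subgroup.mem_inf.1 this).2
      have h3 : (k : G) * (z : G) = m := congrArg Subtype.val hkz
      exact h3 ▸ mul_mem (Subgroup.mem_sup_right hk') (Subgroup.mem_sup_left hz')
    set L := Subgroup.normalizer ((S : Subgroup G) : Set G) ⊔ K
    have hML : M ≤ L := hMK.trans (sup_le_sup_right Subgroup.le_normalizer K)
    rw [eq_top_iff, ← P₀.normalizer_sup_eq_top, sup_le_iff]
    refine ⟨fun g hg => ?_, hML⟩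
    have hP₀S : (P₀ : Subgroup M).map M.subtype ≤ (S : Subgroup G) := by
      rw [hP₀]; exact inf_le_right
    obtain ⟨n, hn, c, hc, rfl⟩ := hctrl _ hP₀S g (by
      rw [← SetLike.coe_subset_coe]
      rintro _ ⟨x, hx, rfl⟩
      exact hP₀S ((Subgroup.mem_normalizer_iff.1 hg x).1 hx))
    exact mul_mem (Subgroup.mem_sup_left hn) (hML (hcon P₀ hc))

end Cfsg.Agent.S1948
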