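import Cfsg.Statements.S1949
import Cfsg.Agent.Lib.Transfer.Critical
import Cfsg.Agent.Lib.Transfer.PResidual
import Cfsg.Agent.Lib.OmegaFixed.Basic
import Cfsg.Agent.Lib.PGroups.Automorphism
import Cfsg.Agent.Lib.PGroups.MaxAbelian
-- import your own Cfsg.Agent.* helpers here

set_option autoImplicit false
open Cfsg

namespace Cfsg.Agent.S1949

open Cfsg.Agent.Lib.Transfer Cfsg.Agent.Lib.OmegaFixed Cfsg.Agent.Lib.PGroups
open scoped commutatorElement

/-- Let P be a finite p-group and G a group of automorphisms of P containing the inner automorphisms. Then there is a G-invariant subgroup D of P, contained in the subgroup generated by the elements x⁻¹α(x) with x in P and α in O^p(G), of exponent dividing p when p is odd and dividing 4 when p = 2, with [D, P] ≤ Z(D), such that every automorphism in G of order prime to p that fixes D elementwise is the identity; moreover every maximal abelian subgroup A of D is normal in P and every automorphism in G fixing A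 elementwise has p-power order. -/
theorem result {P : Type*} [Group P] [Finite P] {p : ℕ} [Fact p.Prime] (hP : IsPGroup p P)
    (G : Subgroup (MulAut P)) (hG : Cfsg.Inn P ≤ G) :
    ∃ D : Subgroup P,
      (∀ α ∈ G, D.map α.toMonoidHom = D) ∧
      D ≤ Subgroup.closure {y : P | ∃ α ∈ Cfsg.pResidual p ↥G, ∃ x : P, y = x⁻¹ * (α : MulAut P) x} ∧
      (∀ d ∈ D, d ^ p = 1 ∨ (p = 2 ∧ d ^ 4 = 1)) ∧
      ⁅D, (⊤ : Subgroup P)⁆ ≤ D ⊓ Subgroup.centralizer (D : Set P) ∧
      (∀ α ∈ G, (orderOf α).Coprime p → (∀ d ∈ D, α d = d) → α = 1) ∧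
      ∀ A : Subgroup P, A ≤ D → IsMulCommutative ↥A →
        (∀ B : Subgroup P, A ≤ B → B ≤ D → IsMulCommutative ↥B → B = A) →
        A.Normal ∧ ∀ α ∈ G, (∀ a ∈ A, α a = a) → ∃ k : ℕ, orderOf α = p ^ k := by
  obtain ⟨H, hHc, hHcen, hHpow, hHcomm⟩ := Cfsg.Agent.Lib.Transfer.Critical.exists_critical hP
  set R := Cfsg.pResidual p ↥G with hR
  set gen : Set P := {y : P | ∃ α ∈ R, ∃ x : P, y = x⁻¹ * (α : MulAut P) x} with hgen
  set K := Subgroup.closure gen with hK
  have hKinv : ∀ β ∈ G, ∀ x ∈ K, β x ∈ K := by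
    intro β hβ x hx
    induction hx using Subgroup.closure_induction with
    | mem y hy =>
      obtain ⟨α, hα, z, rfl⟩ := hy
      refine Subgroup.subset_closure ⟨⟨β, hβ⟩ * α * ⟨β, hβ⟩⁻¹,
        (PResidual.pResidual_normal (G := ↥G) (p := p)).conj_mem α hα ⟨β, hβ⟩, β z, ?_⟩
      push_cast
      rw [map_mul, map_inv, MulAut.mul_apply, MulAut.mul_apply, MulAut.inv_apply_self]
    | one => rw [map_one]; exact one_mem _
    | mul u v _ _ hu hv => rw [map_mul]; exact mul_mem hu hv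
    | inv u _ hu => rw [map_inv]; exact inv_mem hu
  have hKn : ∀ g : P, ∀ x ∈ K, g * x * g⁻¹ ∈ K := fun g x hx =>
    hKinv _ (hG ⟨g, rfl⟩) x hx
  set e : ℕ := if p = 2 then 2 else 1 with he
  have he2 : p ^ e ≠ 2 := by
    rw [he]; split_ifs with h2
    · subst h2; norm_num
    · simpa using h2
  have he1 : 1 ≤ e := by rw [he]; split_ifs <;> omega
  set H₁ := H ⊓ K with hH₁
  have hZ : ∀ c ∈ H ⊓ Subgroup.centralizer (H : Set P), ∀ x ∈ H, Commute x c := fun c hc x hx =>
    Subgroup.mem_centralizer_iff.1 hc.2 x hx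
  have hcp : ∀ x ∈ H, ∀ y ∈ H, ⁅x, y⁆ ^ p = 1 := fun x hx y hy => by
    rw [← commutatorElement_pow_left_of_central x y (hZ _ (hHcomm x hx y) x hx),
      commutatorElement_eq_one_iff_mul_comm]
    exact ((hZ _ (hHpow x hx) y hy).eq).symm
  have hmul : ∀ x ∈ H, ∀ y ∈ H, (x * y) ^ p ^ e = x ^ p ^ e * y ^ p ^ e := fun x hx y hy => by
    obtain ⟨t, ht⟩ : p ∣ (p ^ e).choose 2 := prime_dvd_choose_two he2 he1
    rw [mul_pow_of_central_commutator x y (hZ _ (hHcomm y hy x) x hx) (hZ _ (hHcomm y hy x) y hy),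
      ht, pow_mul, hcp y hy x hx, one_pow, mul_one]
  let D : Subgroup P :=
    { carrier := {x | x ∈ H₁ ∧ x ^ p ^ e = 1}
      one_mem' := ⟨one_mem _, one_pow _⟩
      mul_mem' := fun {x y} hx hy => ⟨mul_mem hx.1 hy.1, by
        rw [hmul x hx.1.1 y hy.1.1, hx.2, hy.2, one_mul]⟩
      inv_mem' := fun {x} hx => ⟨inv_mem hx.1, by rw [inv_pow, hx.2, inv_one]⟩ }
  have hHinv : ∀ β : MulAut P, ∀ x ∈ H, β x ∈ H := fun β x hx =>
    Subgroup.characteristic_iff_le_comap.1 hHc β hx
  have hDinv : ∀ β ∈ G, ∀ x ∈ D, β x ∈ D := fun β hβ x hx =>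
    ⟨⟨hHinv β x hx.1.1, hKinv β hβ x hx.1.2⟩, by rw [← map_pow, hx.2, map_one]⟩
  have hDn : ∀ g : P, ∀ x ∈ D, g * x * g⁻¹ ∈ D := fun g x hx => hDinv _ (hG ⟨g, rfl⟩) x hx
  have hcomm : ∀ d ∈ D, ∀ g : P, ⁅d, g⁆ ∈ D ⊓ Subgroup.centralizer (D : Set P) := by
    intro d hd g
    refine ⟨?_, Subgroup.centralizer_le (fun x (hx : x ∈ D) => hx.1.1) (hHcomm d hd.1.1 g).2⟩
    rw [commutatorElement_def, show d * g * d⁻¹ * g⁻¹ = d * (g * d⁻¹ * g⁻¹) by group]
    exact mul_mem hd (hDn g _ (inv_mem hd))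
  -- a `p'`-automorphism fixing `D` is trivial
  have hfaith : ∀ α ∈ G, (orderOf α).Coprime p → (∀ d ∈ D, α d = d) → α = 1 := by
    intro α hα hcop hfix
    have hinv : ∀ x ∈ H₁, α x ∈ H₁ := fun x hx => ⟨hHinv α x hx.1, hKinv α hα x hx.2⟩
    let φ : MulAut H₁ := MulEquiv.ofBijective
      ({ toFun := fun z => ⟨α z, hinv z z.2⟩
         map_one' := Subtype.ext (map_one α)
         map_mul' := fun u v => Subtype.ext (map_mul α (u : P) v) } : H₁ →* H₁)
      (Finite.injective_iff_bijective.mp fun u v huv =>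
        Subtype.ext (α.injective (congrArg Subtype.val huv)))
    have hφ : ∀ (k : ℕ) (z : H₁), (((φ ^ k) z : H₁) : P) = (α ^ k) z := by
      intro k
      induction k with
      | zero => intro z; simp
      | succ k ih =>
        intro z
        rw [pow_succ', pow_succ', MulAut.mul_apply, MulAut.mul_apply, ← ih z]
        rfl
    have hφc : (orderOf φ).Coprime p :=
      Nat.Coprime.coprime_dvd_left (orderOf_dvd_of_pow_eq_one (MulEquiv.ext fun z => Subtype.ext (by
        rw [hφ, pow_orderOf_eq_one]; simp))) hcop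
    have h1 : ∀ x ∈ H₁, α x = x := fun x hx => congrArg Subtype.val
      (fixed_of_fixed_roots e he2 he1 (hP.to_subgroup H₁) φ hφc
        (fun z hz => Subtype.ext (hfix z ⟨z.2, by simpa using congrArg Subtype.val hz⟩))
        ⊤ (fun _ _ => trivial) ⟨x, hx⟩ trivial)
    have hαR : (⟨α, hα⟩ : ↥G) ∈ R := PResidual.mem_pResidual (by rwa [Subgroup.orderOf_mk])
    have h2 : ∀ x ∈ H, α x = x := fun x hx => eq_of_fixed_diff hP α hcop x (h1 _
      (Subgroup.mem_inf.2 ⟨mul_mem (inv_mem hx) (hHinv α x hx), Subgroup.subset_closure ⟨_, hαR, x, rfl⟩⟩))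
    refine MulEquiv.ext fun x => eq_of_fixed_diff hP α hcop x (h2 _ (hHcen ?_))
    refine Subgroup.mem_centralizer_iff.2 fun h hh => ?_
    exact (commute_of_fixed α x h (h2 h hh)
      (h2 _ ((Subgroup.normal_of_characteristic H).conj_mem h hh x))).eq.symm
  refine ⟨D, fun α hα => ?_, fun x hx => hx.1.2, fun d hd => ?_,
    Subgroup.commutator_le.2 fun d hd g _ => hcomm d hd g, hfaith, fun A hA hAab hAmax => ?_⟩
  · refine Subgroup.eq_of_le_of_card_ge ?_ ?_
    · rintro _ ⟨x, hx, rfl⟩; exact hDinv α hα x hx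
    · exact (Nat.card_congr (D.equivMapOfInjective _ α.injective).toEquiv).le
  · have h := hd.2
    rw [he] at h; split_ifs at h with h2
    · subst h2; exact Or.inr ⟨rfl, by simpa using h⟩
    · exact Or.inl (by simpa using h)
  · have hAc : ∀ d ∈ D, (∀ a ∈ A, a * d = d * a) → d ∈ A := by
      intro d hd hda
      have hle : A ⊔ Subgroup.zpowers d ≤ Subgroup.centralizer ((A ⊔ Subgroup.zpowers d : Subgroup P) : Set P) := by
        have hd' : d ∈ Subgroup.centralizer (A : Set P) := Subgroup.mem_centralizer_iff.2 hda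
        have hA' : A ≤ Subgroup.centralizer (A : Set P) := Subgroup.le_centralizer_iff_isMulCommutative.2 hAab
        have hd'' : A ≤ Subgroup.centralizer (Subgroup.zpowers d : Set P) :=
          Subgroup.le_centralizer_iff.1 (Subgroup.zpowers_le.2 hd')
        have hz : Subgroup.zpowers d ≤ Subgroup.centralizer (Subgroup.zpowers d : Set P) :=
          Subgroup.le_centralizer_iff_isMulCommutative.2 inferInstance
        refine sup_le (Subgroup.le_centralizer_iff.1 (sup_le hA' (Subgroup.zpowers_le.2 hd')))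
          (Subgroup.le_centralizer_iff.1 (sup_le hd'' hz))
      have := hAmax _ le_sup_left (sup_le hA (Subgroup.zpowers_le.2 hd))
        (Subgroup.le_centralizer_iff_isMulCommutative.1 hle)
      exact this ▸ Subgroup.mem_sup_right (Subgroup.mem_zpowers d)
    have hAn : ∀ g : P, ∀ a ∈ A, g * a * g⁻¹ ∈ A := by
      intro g a ha
      have h1 := hcomm a (hA ha) g
      have h2 : ⁅a, g⁆ ∈ A := hAc _ h1.1 fun b hb => Subgroup.mem_centralizer_iff.1 h1.2 b (hA hb)
      have h3 : g * a * g⁻¹ = ⁅a, g⁆⁻¹ * a := by rw [commutatorElement_def]; group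
      rw [h3]; exact mul_mem (inv_mem h2) ha
    refine ⟨⟨fun a ha g => hAn g a ha⟩, fun α hα hfixA => ?_⟩
    obtain ⟨a, b, ha, hb, hab, -, ⟨k, hk⟩, hbc⟩ :=
      PResidual.exists_pPart_mul_pPrimePart (p := p) α (isOfFinOrder_of_finite α)
    have hbfix : ∀ x ∈ A, b x = x := by
      intro x hx
      obtain ⟨i, rfl⟩ := Subgroup.mem_zpowers_iff.1 hb
      have : α ∈ MulAction.stabilizer (MulAut P) x := hfixA x hx
      exact Subgroup.zpow_mem _ this i
    have hbG : b ∈ G := Subgroup.zpowers_le.2 hα hb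
    have hbD : ∀ d ∈ D, b d = d := by
      intro d hd
      refine eq_of_fixed_diff hP b hbc d (hbfix _ (hAc _ (mul_mem (inv_mem hd) (hDinv b hbG d hd)) ?_))
      intro a' ha'
      exact (commute_of_fixed b d a' (hbfix a' ha') (hbfix _ (hAn d a' ha'))).eq.symm
    rw [hfaith b hbG hbc hbD, mul_one] at hab
    obtain ⟨j, -, hj⟩ := (Nat.dvd_prime_pow (Fact.out : p.Prime)).1 (orderOf_dvd_of_pow_eq_one hk)
    exact ⟨j, hab ▸ hj⟩

end Cfsg.Agent.S1949
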