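import Cfsg.Statements.S1951
import Cfsg.Agent.Lib.PairPSolvable.OneClass
import Cfsg.Agent.Lib.Transfer.PResidual
-- import your own Cfsg.Agent.* helpers here

set_option autoImplicit false
open Cfsg

namespace Cfsg.Agent.S1951

/-- Let p be a prime and P a nontrivial elementary abelian Sylow p-subgroup of a finite nonabelian simple group G whose nonidentity elements are all conjugate in G. Suppose that two elements of P are conjugate in G only if they are conjugate in N_G(P), that the centralizer of every element of order p of P has a normal p-complement, and that every two elements of order p of G generate a p-solvable subgroup. Then p = 2. -/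
theorem result {G : Type*} [Group G] [Finite G] [IsSimpleGroup G] (hG : ¬ IsMulCommutative G) {p : ℕ} [Fact p.Prime] (P : Sylow p G)
    (hP1 : (P : Subgroup G) ≠ ⊥) (hPe : Cfsg.IsElementaryAbelian p (P : Subgroup G))
    (hconj : ∀ x ∈ (P : Subgroup G), ∀ y ∈ (P : Subgroup G), x ≠ 1 → y ≠ 1 → ∃ g : G, g * x * g⁻¹ = y)
    (ha : ∀ x ∈ (P : Subgroup G), ∀ y ∈ (P : Subgroup G), (∃ g : G, g * x * g⁻¹ = y) →
      ∃ n ∈ Subgroup.normalizer ((P : Subgroup G) : Set G), n * x * n⁻¹ = y)
    (hb : ∀ x ∈ (P : Subgroup G), orderOf x = p → Cfsg.HasNormalPComplement p ↥(Subgroup.centralizer ({x} : Set G)))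
    (hc : ∀ x y : G, orderOf x = p → orderOf y = p → Cfsg.IsPSolvable p ↥(Subgroup.closure ({x, y} : Set G))) :
    p = 2 := by
  by_contra hp2
  have hcomm : ∀ a ∈ (P : Subgroup G), ∀ b ∈ (P : Subgroup G), a * b = b * a := fun a ha b hb =>
    congrArg Subtype.val (hPe.1.is_comm.comm (⟨a, ha⟩ : (P : Subgroup G)) ⟨b, hb⟩)
  have key : ∀ u : G, orderOf u = p → ∃ a ∈ (P : Subgroup G), ∃ g : G, g * a * g⁻¹ = u := by
    intro u hu
    have hQ : IsPGroup p (Subgroup.zpowers u) :=
      IsPGroup.of_card (n := 1) (by rw [Nat.card_zpowers, hu, pow_one])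
    obtain ⟨T, hT⟩ := hQ.exists_le_sylow
    obtain ⟨g, rfl⟩ := MulAction.exists_smul_eq G P T
    have h := hT (Subgroup.mem_zpowers u)
    rw [Sylow.coe_subgroup_smul, Subgroup.mem_pointwise_smul_iff_inv_smul_mem] at h
    exact ⟨_, h, g, by simp [MulAut.inv_def, mul_assoc]⟩
  refine Cfsg.Agent.Lib.PairPSolvable.false_of_oneClass hp2 P hcomm hPe.2 hP1 ?_ ?_ hc
  · intro u v hu hv
    obtain ⟨a, ha, g, rfl⟩ := key u hu
    obtain ⟨b, hb', k, rfl⟩ := key v hv
    have hne : ∀ a g : G, orderOf (g * a * g⁻¹) = p → a ≠ 1 := by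
      intro a g h e
      rw [e, mul_one, mul_inv_cancel, orderOf_one] at h
      exact (Fact.out : p.Prime).ne_one h.symm
    obtain ⟨c, hcab⟩ := hconj a ha b hb' (hne a g hu) (hne b k hv)
    exact isConj_iff.2 ⟨k * c * g⁻¹, by rw [← hcab]; group⟩
  · intro u hu
    obtain ⟨a, ha, g, rfl⟩ := key u hu
    rw [show orderOf (g * a * g⁻¹) = orderOf a from (MulAut.conj g).orderOf_eq a] at hu
    refine (Cfsg.Agent.Lib.Transfer.PResidual.hasNormalPComplement_congr ?_).2 (hb a ha hu)
    refine
      { toFun := fun x => ⟨g⁻¹ * x * g, ?_⟩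
        invFun := fun x => ⟨g * x * g⁻¹, ?_⟩
        left_inv := fun x => Subtype.ext (by show g * (g⁻¹ * (x : G) * g) * g⁻¹ = x; group)
        right_inv := fun x => Subtype.ext (by show g⁻¹ * (g * (x : G) * g⁻¹) * g = x; group)
        map_mul' := fun x y => Subtype.ext (by
          show g⁻¹ * ((x : G) * y) * g = g⁻¹ * x * g * (g⁻¹ * y * g); group) }
    · have hx := Subgroup.mem_centralizer_singleton_iff.1 x.2
      rw [Subgroup.mem_centralizer_singleton_iff]
      calc g⁻¹ * (x : G) * g * a = g⁻¹ * ((x : G) * (g * a * g⁻¹)) * g := by group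
        _ = g⁻¹ * (g * a * g⁻¹ * x) * g := by rw [hx]
        _ = a * (g⁻¹ * x * g) := by group
    · have hx := Subgroup.mem_centralizer_singleton_iff.1 x.2
      rw [Subgroup.mem_centralizer_singleton_iff]
      calc g * (x : G) * g⁻¹ * (g * a * g⁻¹) = g * ((x : G) * a) * g⁻¹ := by group
        _ = g * (a * x) * g⁻¹ := by rw [hx]
        _ = g * a * g⁻¹ * (g * x * g⁻¹) := by group

end Cfsg.Agent.S1951
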