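import Cfsg.Statements.S1952
import Mathlib
-- import your own Cfsg.Agent.* helpers here

set_option autoImplicit false
open Cfsg

namespace Cfsg.Agent.S1952

open Polynomial in
/-- The coordinates along an orbit of an operator of order `p` are independent, when the functional
does not kill the norm. -/
theorem surj_orbit {p : ℕ} [Fact p.Prime] {M : Type*} [AddCommGroup M] [Module (ZMod p) M]
    (T : Module.End (ZMod p) M) (hT : T ^ p = 1) (χ : M →ₗ[ZMod p] ZMod p) (x : M)
    (hx : χ ((∑ k ∈ Finset.range p, T ^ k) x) ≠ 0) :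
    Function.Surjective (fun (a : M) (k : Fin p) => χ ((T ^ (k : ℕ)) a)) := by
  have hp : 0 < p := (Fact.out : p.Prime).pos
  let Φ : M →ₗ[ZMod p] (Fin p → ZMod p) := LinearMap.pi fun k => χ.comp (T ^ (k : ℕ))
  suffices h : LinearMap.range Φ = ⊤ from LinearMap.range_eq_top.1 h
  by_contra hne
  obtain ⟨φ, hφ0, hφ⟩ :=
    Submodule.exists_dual_map_eq_bot_of_lt_top (lt_top_iff_ne_top.2 hne) inferInstance
  let c : Fin p → ZMod p := fun i => φ fun j => if i = j then 1 else 0
  set f : (ZMod p)[X] := ∑ k : Fin p, C (c k) * X ^ (k : ℕ) with hfdef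
  have hkill : ∀ a : M, χ (aeval T f a) = 0 := by
    intro a
    have h1 : φ (Φ a) = 0 := by
      have : φ (Φ a) ∈ (LinearMap.range Φ).map φ :=
        Submodule.mem_map_of_mem (LinearMap.mem_range_self Φ a)
      simpa [hφ] using this
    rw [LinearMap.pi_apply_eq_sum_univ φ] at h1
    simp only [hfdef, map_sum, map_mul, aeval_C, map_pow, aeval_X, LinearMap.sum_apply,
      Module.End.mul_apply, Module.algebraMap_end_apply, LinearMap.map_smul]
    rw [← h1]
    exact Finset.sum_congr rfl fun i _ => by simp [Φ, c, mul_comm]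
  have hf0 : f ≠ 0 := by
    intro h0
    refine hφ0 (LinearMap.ext fun v => ?_)
    rw [LinearMap.pi_apply_eq_sum_univ φ v, LinearMap.zero_apply]
    refine Finset.sum_eq_zero fun i _ => ?_
    have : coeff f (i : ℕ) = c i := by
      rw [hfdef, finsetSum_coeff, Finset.sum_eq_single i]
      · simp
      · intro j _ hj
        simp [coeff_X_pow, Ne.symm (Fin.val_ne_of_ne hj)]
      · simp
    rw [h0, coeff_zero] at this
    simp only [c] at this
    rw [← this, smul_zero]
  set m := f.rootMultiplicity 1 with hm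
  set g := f /ₘ (X - C 1) ^ m with hg
  have hfg : (X - C 1) ^ m * g = f := pow_mul_divByMonic_rootMultiplicity_eq f 1
  have hg1 : g.eval 1 ≠ 0 := eval_divByMonic_pow_rootMultiplicity_ne_zero 1 hf0
  have hdeg : f.natDegree < p := by
    refine lt_of_le_of_lt (natDegree_sum_le_of_forall_le _ _ fun k _ =>
      (natDegree_C_mul_X_pow_le (c k) (k : ℕ)).trans (Nat.le_sub_one_of_lt k.2)) (by omega)
  have hmp : m < p := by
    refine lt_of_le_of_lt ?_ hdeg
    have h1 : ((X - C (1 : ZMod p)) ^ m).natDegree ≤ f.natDegree :=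
      natDegree_le_of_dvd (pow_rootMultiplicity_dvd f 1) hf0
    rwa [natDegree_pow, natDegree_X_sub_C, mul_one] at h1
  have hν : (∑ k ∈ Finset.range p, X ^ k : (ZMod p)[X]) = (X - C 1) ^ (p - 1) := by
    apply mul_right_cancel₀ (X_sub_C_ne_zero (1 : ZMod p))
    rw [← pow_succ, Nat.sub_add_cancel hp, map_one, geom_sum_mul, sub_pow_char, one_pow]
  have hid : f * ((X - C 1) ^ (p - 1 - m) * g ^ (p - 1)) =
      (∑ k ∈ Finset.range p, X ^ k) * g ^ p := by
    rw [hν, ← hfg, show g ^ p = g * g ^ (p - 1) by rw [← pow_succ', Nat.sub_add_cancel hp],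
      mul_mul_mul_comm, ← pow_add, Nat.add_sub_cancel' (Nat.le_sub_one_of_lt hmp)]
  have hgp : aeval T (g ^ p) = algebraMap (ZMod p) (Module.End (ZMod p) M) (g.eval 1) := by
    rw [← ZMod.expand_card, expand_aeval, hT, ← map_one (algebraMap (ZMod p) (Module.End (ZMod p) M)),
      aeval_algebraMap_apply, coe_aeval_eq_eval]
  have h := hkill (aeval T ((X - C 1) ^ (p - 1 - m) * g ^ (p - 1)) x)
  rw [← Module.End.mul_apply, ← map_mul, hid, map_mul, hgp, Module.End.mul_apply,
    Module.algebraMap_end_apply, map_smul, map_smul] at h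
  simp only [map_sum, map_pow, aeval_X] at h
  exact hx ((mul_eq_zero.1 h).resolve_left hg1)

/-- A functional whose translates are independent. -/
theorem exists_chi_add {p : ℕ} [Fact p.Prime] {M : Type*} [AddCommGroup M] [Module (ZMod p) M]
    (γ : M →+ M) (hγ : ∀ a, γ^[p] a = a) (x : M) (hx : ∑ k ∈ Finset.range p, γ^[k] x ≠ 0) :
    ∃ χ : M →+ ZMod p, Function.Surjective (fun (a : M) (k : Fin p) => χ (γ^[(k : ℕ)] a)) := by
  let T : Module.End (ZMod p) M := γ.toZModLinearMap p
  have hTk : ∀ (k : ℕ) (a : M), (T ^ k) a = γ^[k] a := fun k a => Module.End.pow_apply T k a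
  obtain ⟨χ, hχ⟩ : ∃ χ : Module.Dual (ZMod p) M, χ ((∑ k ∈ Finset.range p, T ^ k) x) ≠ 0 := by
    by_contra h
    push Not at h
    refine hx ?_
    rw [← (Module.forall_dual_apply_eq_zero_iff (ZMod p) _).1 h, LinearMap.sum_apply]
    exact Finset.sum_congr rfl fun k _ => (hTk k x).symm
  refine ⟨χ.toAddMonoidHom, ?_⟩
  have := surj_orbit T (LinearMap.ext fun a => (hTk p a).trans (hγ a)) χ x hχ
  simp only [hTk] at this
  exact this

/-- Let P be a finite p-group with a normal elementary abelian subgroup A of index p, and let x ∈ A and y ∈ P with y outside A. If the product of the p conjugates y^(-i) x y^i (i = 0, …, p−1) is not the identity, then the wreath product Z_p ≀ Z_p, realised as a Sylow p-subgroup of the symmetric group of degree p², is a homomorphic image of P. -/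
theorem result {P : Type*} [Group P] [Finite P] {p : ℕ} [Fact p.Prime] (hP : IsPGroup p P) (A : Subgroup P) [A.Normal]
    (hA : Cfsg.IsElementaryAbelian p A) (hidx : A.index = p) (x y : P) (hx : x ∈ A) (hy : y ∉ A)
    (hprod : ((List.range p).map (fun i => (y ^ i)⁻¹ * x * y ^ i)).prod ≠ 1) :
    ∃ (Q : Sylow p (Equiv.Perm (Fin (p ^ 2)))) (f : P →* ↥(Q : Subgroup (Equiv.Perm (Fin (p ^ 2))))), Function.Surjective f := by
  have hp0 : 0 < p := (Fact.out : p.Prime).pos
  letI : CommGroup A := { (inferInstance : Group A) with mul_comm := hA.1.is_comm.comm }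
  have hyA : ∀ a ∈ A, y⁻¹ * a * y ∈ A := fun a ha => by
    simpa using (inferInstance : A.Normal).conj_mem a ha y⁻¹
  let γ : A →* A :=
    { toFun := fun a => ⟨y⁻¹ * a * y, hyA a a.2⟩
      map_one' := Subtype.ext (by simp)
      map_mul' := fun a b => Subtype.ext (by simp [mul_assoc]) }
  have hTpow : ∀ (k : ℕ) (a : A), ((γ^[k] a : A) : P) = (y ^ k)⁻¹ * (a : P) * y ^ k := by
    intro k
    induction k with
    | zero => intro a; simp
    | succ k ih =>
      intro a
      rw [Function.iterate_succ_apply']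
      show y⁻¹ * ((γ^[k] a : A) : P) * y = _
      rw [ih, pow_succ y]
      group
  have hyp : y ^ p ∈ A := by
    have h1 : (y : P ⧸ A) ^ p = 1 := by
      rw [← hidx, Subgroup.index_eq_card]; exact pow_card_eq_one'
    exact (QuotientGroup.eq_one_iff _).1 (by simpa using h1)
  have hT : ∀ a : A, γ^[p] a = a := by
    intro a
    refine Subtype.ext ?_
    rw [hTpow]
    have h1 := congrArg Subtype.val (mul_comm (⟨y ^ p, hyp⟩ : A) a)
    push_cast at h1
    rw [mul_assoc, ← h1, inv_mul_cancel_left]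
  have hsum : ∀ n : ℕ, ((∏ k ∈ Finset.range n, γ^[k] (⟨x, hx⟩ : A) : A) : P) =
      ((List.range n).map (fun i => (y ^ i)⁻¹ * x * y ^ i)).prod := by
    intro n
    induction n with
    | zero => simp
    | succ n ih =>
      rw [Finset.prod_range_succ, List.range_succ, List.map_append, List.prod_append,
        Subgroup.coe_mul, ih, hTpow]
      simp
  obtain ⟨χ₀, hsurj⟩ := @exists_chi_add p _ (Additive A) _
    (AddCommGroup.zmodModule fun a => show Additive.ofMul (a.toMul ^ p) = Additive.ofMul 1 from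
      congrArg Additive.ofMul (Subtype.ext (hA.2 _ a.toMul.2)))
    (MonoidHom.toAdditive γ) (fun a => congrArg Additive.ofMul (hT a.toMul))
    (Additive.ofMul ⟨x, hx⟩) (fun h => hprod (by
      rw [← hsum p]
      exact congrArg Subtype.val (show (∏ k ∈ Finset.range p, γ^[k] (⟨x, hx⟩ : A)) = 1 from h)))
  -- the point stabilizer
  let χ' : A →* Multiplicative (ZMod p) := AddMonoidHom.toMultiplicativeRight χ₀
  let Φ : A →* (Fin p → Multiplicative (ZMod p)) :=
    { toFun := fun a k => χ' (γ^[(k : ℕ)] a)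
      map_one' := funext fun k => by simp
      map_mul' := fun a b => funext fun k => by simp }
  have hΦs : Function.Surjective Φ := fun v => by
    obtain ⟨a, ha⟩ := hsurj fun k => (v k).toAdd
    exact ⟨a.toMul, funext fun k => congrArg Multiplicative.ofAdd (congrFun ha k)⟩
  set H := χ'.ker.map A.subtype with hH
  have hHA : H ≤ A := Subgroup.map_subtype_le _
  have hχsurj : Function.Surjective χ' := by
    intro z
    obtain ⟨a, ha⟩ := hΦs fun _ => z
    exact ⟨γ^[((⟨0, hp0⟩ : Fin p) : ℕ)] a, congrFun ha ⟨0, hp0⟩⟩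
  have hHidx : H.index = p ^ 2 := by
    rw [← Subgroup.relIndex_mul_index hHA, hidx, pow_two]
    congr 1
    rw [hH, Subgroup.relIndex, Subgroup.subgroupOf,
      Subgroup.comap_map_eq_self_of_injective A.subtype_injective, Subgroup.index_ker,
      MonoidHom.range_eq_top.2 hχsurj, Subgroup.card_top]
    simp
  haveI : Fintype (P ⧸ H) := Fintype.ofFinite _
  let e : P ⧸ H ≃ Fin (p ^ 2) := Fintype.equivFinOfCardEq (by
    rw [← Nat.card_eq_fintype_card, ← Subgroup.index_eq_card, hHidx])
  let f₀ : P →* Equiv.Perm (Fin (p ^ 2)) :=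
    e.permCongrHom.toMonoidHom.comp (MulAction.toPermHom P (P ⧸ H))
  have hker : f₀.ker = H.normalCore := by
    rw [Subgroup.normalCore_eq_ker]
    exact MonoidHom.ker_comp_of_injective _ _ e.permCongrHom.injective
  have hkA : f₀.ker ≤ A := hker ▸ (Subgroup.normalCore_le H).trans hHA
  -- the kernel is small
  have hkΦ : f₀.ker.subgroupOf A ≤ Φ.ker := by
    intro a ha
    rw [MonoidHom.mem_ker]
    funext k
    have h1 : ((y ^ (k : ℕ))⁻¹ * (a : P) * y ^ (k : ℕ)) ∈ H := by
      have := H.normalCore_normal.conj_mem _ (hker ▸ Subgroup.mem_subgroupOf.1 ha) (y ^ (k : ℕ))⁻¹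
      simpa using H.normalCore_le this
    obtain ⟨b, hb, hbe⟩ := h1
    have h2 : b = γ^[(k : ℕ)] a := Subtype.ext (hbe.trans (hTpow k _).symm)
    rw [h2] at hb
    exact hb
  have hrange : p ^ (p + 1) ≤ Nat.card f₀.range := by
    rw [← Subgroup.index_ker, ← Subgroup.relIndex_mul_index hkA, hidx, pow_succ]
    refine Nat.mul_le_mul_right p ?_
    refine Nat.le_of_dvd (Nat.pos_of_ne_zero Subgroup.FiniteIndex.index_ne_zero) ?_
    have h1 := Subgroup.index_dvd_of_le hkΦ
    rw [Subgroup.index_ker Φ, MonoidHom.range_eq_top.2 hΦs, Subgroup.card_top] at h1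
    simpa [Subgroup.relIndex] using h1
  -- it is a Sylow subgroup
  have hfp : IsPGroup p f₀.range := hP.of_surjective f₀.rangeRestrict f₀.rangeRestrict_surjective
  obtain ⟨Q, hQ⟩ := hfp.exists_le_sylow
  have hQcard : Nat.card (Q : Subgroup (Equiv.Perm (Fin (p ^ 2)))) = p ^ (p + 1) := by
    rw [Sylow.card_eq_multiplicity, Nat.card_perm, Nat.card_fin,
      Nat.factorization_def _ Fact.out, pow_two, padicValNat_factorial_mul,
      show p.factorial = (p * 1).factorial by rw [mul_one], padicValNat_factorial_mul]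
    simp [Nat.add_comm]
  have heq : f₀.range = (Q : Subgroup (Equiv.Perm (Fin (p ^ 2)))) :=
    Subgroup.eq_of_le_of_card_ge hQ (hQcard ▸ hrange)
  refine ⟨Q, f₀.codRestrict (Q : Subgroup (Equiv.Perm (Fin (p ^ 2)))) (fun z => hQ ⟨z, rfl⟩),
    fun q => ?_⟩
  obtain ⟨z, hz⟩ : (q : Equiv.Perm (Fin (p ^ 2))) ∈ f₀.range := heq.symm ▸ q.2
  exact ⟨z, Subtype.ext hz⟩

end Cfsg.Agent.S1952
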