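import Cfsg.Statements.S1953
import Cfsg.Agent.Lib.Quadratic.LeastCentric
import Cfsg.Agent.Lib.Quadratic.Automizer
import Cfsg.Agent.Lib.ConjFunctor.KControl
import Cfsg.Agent.S2795
-- import your own Cfsg.Agent.* helpers here

set_option autoImplicit false
open Cfsg

namespace Cfsg.Agent.S1953

/-- Let p be an odd prime and P a Sylow p-subgroup of the finite group G, and suppose that for no p-subgroup Q of G does N_G(Q)/C_G(Q) have a section isomorphic to SL₂(p). Call a subgroup Q of P centric-radical when Z(Q) is a Sylow p-subgroup of C_G(Q) and the only normal subgroup X of N_G(Q) containing Q·C_G(Q) such that the index of Q·C_G(Q) in X is a power of p is Q·C_G(Q) itself (that is, N_G(Q)/Q·C_G(Q) has no nontrivial normal p-subgroup). Then there is a centric-radical subgroup Q of P contained in every centric-radical subgroup of P; it is normal in P, and N_G(Q) controls strong fusion in P: whenever a subgroup A of P has g A g⁻¹ ≤ P, the element g is a product h c with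 h in N_G(Q) and c centralizing A. -/
theorem result {G : Type*} [Group G] [Finite G] {p : ℕ} [Fact p.Prime] (hp : p ≠ 2) (P : Sylow p G)
    (hfree : ∀ Q : Subgroup G, IsPGroup p ↥Q → ¬ ∃ (H K : Subgroup G) (_ : (K.subgroupOf H).Normal),
      Subgroup.centralizer (Q : Set G) ≤ K ∧ K ≤ H ∧ H ≤ Subgroup.normalizer (Q : Set G) ∧
      Nonempty ((↥H ⧸ K.subgroupOf H) ≃* Matrix.SpecialLinearGroup (Fin 2) (ZMod p)))
    (cr : Subgroup G → Prop)
    (hcr : ∀ Q : Subgroup G, cr Q ↔ (Q ≤ (P : Subgroup G) ∧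
      (∃ R : Sylow p ↥(Subgroup.centralizer (Q : Set G)),
        (R : Subgroup ↥(Subgroup.centralizer (Q : Set G))).map (Subgroup.centralizer (Q : Set G)).subtype = Q ⊓ Subgroup.centralizer (Q : Set G)) ∧
      ∀ X : Subgroup G, X ≤ Subgroup.normalizer (Q : Set G) →
        (∀ n ∈ Subgroup.normalizer (Q : Set G), X.map (MulAut.conj n).toMonoidHom = X) →
        Q ⊔ Subgroup.centralizer (Q : Set G) ≤ X → (∃ k : ℕ, (Q ⊔ Subgroup.centralizer (Q : Set G)).relIndex X = p ^ k) →
        X = Q ⊔ Subgroup.centralizer (Q : Set G))) :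
    ∃ Q : Subgroup G, cr Q ∧ (∀ R : Subgroup G, cr R → Q ≤ R) ∧ (∀ x ∈ (P : Subgroup G), Q.map (MulAut.conj x).toMonoidHom = Q) ∧
      ∀ A : Subgroup G, A ≤ (P : Subgroup G) → ∀ g : G, A.map (MulAut.conj g).toMonoidHom ≤ (P : Subgroup G) →
        ∃ h ∈ Subgroup.normalizer (Q : Set G), ∃ c ∈ Subgroup.centralizer (A : Set G), g = h * c := by
  have hqd : ¬ Cfsg.Involves ↥(Cfsg.qd p) G := fun h => by
    obtain ⟨Q, hQ, hsec⟩ := Lib.Quadratic.exists_automizer_sl2 h
    exact hfree Q hQ hsec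
  have hst := (Cfsg.Agent.S2795.result (G := G) hp).1 hqd
  have hsf := Lib.ConjFunctor.KControl.sf_kInf (p := p) (W := @Cfsg.kInfLower) (Or.inl rfl) hst G
    (Lib.ConjFunctor.Section.IsSection.refl G)
  set Q := Cfsg.inducedFunctor Cfsg.kInfLower (P : Subgroup G) with hQ
  have hQP : Q ≤ (P : Subgroup G) := Subgroup.map_subtype_le _
  have hPQ : (P : Subgroup G) ≤ Subgroup.normalizer (Q : Set G) :=
    Lib.ConjFunctor.Basic.le_normalizer_w
      (Lib.ConjFunctor.Section.isConjugacyFunctor_induced Lib.ConjFunctor.KFunctor.isCharP_lower) P.2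
  haveI : Group.IsNilpotent ↥(P : Subgroup G) := P.2.isNilpotent
  have hcQ : (P : Subgroup G) ⊓ Subgroup.centralizer (Q : Set G) ≤ Q := by
    rintro x ⟨hxP, hxC⟩
    refine ⟨⟨x, hxP⟩, Lib.ConjFunctor.KInf.centralizer_kInf.1 ?_, rfl⟩
    rw [Subgroup.mem_centralizer_iff]
    intro y hy
    exact Subtype.ext (Subgroup.mem_centralizer_iff.1 hxC _ ⟨y, hy, rfl⟩)
  refine Lib.Quadratic.LeastCentric.exists_least P Q hQP hPQ hcQ (fun A g hA hgA => ?_) cr hcr
  exact (hsf P A g trivial hA hgA).collapse fun y hy => by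
    obtain ⟨V, hV, hy⟩ := Lib.ConjFunctor.Local.mem_stepSet_nFam.1 hy
    obtain ⟨_, rfl, rfl⟩ := hV
    exact hy.2

end Cfsg.Agent.S1953
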