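import Cfsg.Statements.S1954
import Cfsg.Agent.Lib.Fusion.Alperin
import Cfsg.Agent.Lib.Transfer.Fusion
-- import your own Cfsg.Agent.* helpers here

set_option autoImplicit false
open Cfsg

namespace Cfsg.Agent.S1954

open Subgroup Cfsg.Agent.Lib.Fusion.Alperin Cfsg.Agent.Lib.Transfer

/-- A `p'`-element normalizing `R` and centralizing `R0`, with all its commutators with `R` in `R0`,
centralizes `R`. -/
theorem commute_of_stable {G : Type*} [Group G] {p : ℕ} [Fact p.Prime] {y r : G} {R0 : Subgroup G}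
    (hR0 : IsPGroup p R0) (hy : (orderOf y).Coprime p) (hc : y ∈ centralizer (R0 : Set G))
    (ht : y * r * y⁻¹ * r⁻¹ ∈ R0) : y * r = r * y := by
  set t := y * r * y⁻¹ * r⁻¹ with htdef
  have hyt : Commute y t := (mem_centralizer_iff.1 hc t ht).symm
  have hpow : ∀ k : ℕ, y ^ k * r = t ^ k * r * y ^ k := by
    intro k
    induction k with
    | zero => simp
    | succ k ih =>
      calc y ^ (k + 1) * r = y * (y ^ k * r) := by rw [pow_succ', mul_assoc]
        _ = y * t ^ k * r * y ^ k := by rw [ih]; group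
        _ = t ^ k * (y * r) * y ^ k := by rw [(hyt.pow_right k).eq]; group
        _ = t ^ k * (t * r * y) * y ^ k := by rw [htdef]; group
        _ = t ^ (k + 1) * r * y ^ (k + 1) := by rw [pow_succ t, pow_succ' y]; group
  have h1 := hpow (orderOf y)
  rw [pow_orderOf_eq_one, one_mul, mul_one] at h1
  have h2 : t ^ orderOf y = 1 := mul_eq_right.1 h1.symm
  obtain ⟨i, hi⟩ := hR0 ⟨t, ht⟩
  have hi' : t ^ p ^ i = 1 := by simpa using congrArg Subtype.val hi
  have h3 : t = 1 := by
    have := pow_gcd_eq_one.2 ⟨h2, hi'⟩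
    rwa [show (orderOf y).gcd (p ^ i) = 1 from Nat.Coprime.pow_right i hy, pow_one] at this
  rw [htdef, mul_inv_eq_one, mul_inv_eq_iff_eq_mul] at h3
  exact h3

/-- `g` is a product of an element normalizing `W` and an element centralizing `A`. -/
def Ctrl {G : Type*} [Group G] (W A : Subgroup G) (g : G) : Prop :=
  ∃ h ∈ normalizer (W : Set G), ∃ c ∈ centralizer (A : Set G), g = h * c

theorem Ctrl.mono {G : Type*} [Group G] {W A B : Subgroup G} {g : G} (h : Ctrl W A g) (hBA : B ≤ A) :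
    Ctrl W B g := by
  obtain ⟨h, hh, c, hc, rfl⟩ := h
  exact ⟨h, hh, c, centralizer_le hBA hc, rfl⟩

theorem Ctrl.comp {G : Type*} [Group G] {W A : Subgroup G} {g h : G} (h1 : Ctrl W A g)
    (h2 : Ctrl W (conjS g A) h) : Ctrl W A (h * g) := by
  obtain ⟨a, ha, c, hc, rfl⟩ := h1
  obtain ⟨b, hb, d, hd, rfl⟩ := h2
  refine ⟨b * a, mul_mem hb ha, a⁻¹ * d * a * c, ?_, by group⟩
  refine mul_mem ?_ hc
  rw [mem_centralizer_iff] at hd ⊢
  intro x hx
  have h0 := hd _ (conj_mem_conjS (g := a * c) hx)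
  have h1 : a * c * x * (a * c)⁻¹ = a * x * a⁻¹ := by
    calc a * c * x * (a * c)⁻¹ = a * (c * x) * c⁻¹ * a⁻¹ := by group
      _ = a * (x * c) * c⁻¹ * a⁻¹ := by rw [(mem_centralizer_iff.1 hc x hx).symm]
      _ = a * x * a⁻¹ := by group
  rw [h1] at h0
  calc x * (a⁻¹ * d * a) = a⁻¹ * ((a * x * a⁻¹) * d) * a := by group
    _ = a⁻¹ * (d * (a * x * a⁻¹)) * a := by rw [h0]
    _ = a⁻¹ * d * a * x := by group

/-- The base step: `N(R)` is `(N(R) ∩ N(W)) C(R)` for a fully normalized `R`, given the same for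
larger subgroups and control inside `N`. -/
theorem step {G : Type*} [Group G] [Finite G] {p : ℕ} [Fact p.Prime] {N : Subgroup G} [N.Normal]
    {P : Sylow p G} {W : Subgroup G}
    (hPW : (P : Subgroup G) ≤ normalizer (W : Set G))
    (hTW : normalizer (((P : Subgroup G) ⊓ N : Subgroup G) : Set G) ≤ normalizer (W : Set G))
    (hG : ∀ g : G, ∃ x ∈ normalizer (((P : Subgroup G) ⊓ N : Subgroup G) : Set G), ∃ m ∈ N, g = x * m)
    (hctrlN : ∀ A : Subgroup G, A ≤ (P : Subgroup G) ⊓ N → ∀ m ∈ N,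
      conjS m A ≤ (P : Subgroup G) ⊓ N →
      ∃ h ∈ N ⊓ normalizer (W : Set G), ∃ c ∈ N ⊓ centralizer (A : Set G), m = h * c)
    (R : Subgroup G) (hR : R ≤ P) (hfn : IsFullyNormalized p (P : Subgroup G) R)
    (IH : ∀ B : Subgroup G, B ≤ P → Nat.card R < Nat.card B → ∀ n ∈ normalizer (B : Set G),
      Ctrl W B n)
    (n : G) (hn : n ∈ normalizer (R : Set G)) : Ctrl W R n := by
  set R0 := R ⊓ N with hR0
  set E := normalizer (R : Set G) ⊓ (N ⊓ centralizer (R0 : Set G)) with hE
  set PE := (P : Subgroup G) ⊓ E with hPE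
  have hNX : ∀ a ∈ normalizer (R : Set G), ∀ r ∈ R0, a * r * a⁻¹ ∈ R0 := fun a ha r hr =>
    ⟨(mem_normalizer_iff.1 ha r).1 hr.1, (inferInstance : N.Normal).conj_mem r hr.2 a⟩
  have hEn : ∀ a ∈ normalizer (R : Set G), ∀ e ∈ E, a * e * a⁻¹ ∈ E := by
    intro a ha e he
    refine Subgroup.mem_inf.2 ⟨mul_mem (mul_mem ha he.1) (inv_mem ha), Subgroup.mem_inf.2 ⟨(inferInstance : N.Normal).conj_mem e he.2.1 a,
      mem_centralizer_iff.2 fun r hr => ?_⟩⟩
    have h1 := mem_centralizer_iff.1 he.2.2 _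
      (by simpa using hNX a⁻¹ (inv_mem ha) r hr : a⁻¹ * r * a ∈ R0)
    calc r * (a * e * a⁻¹) = a * ((a⁻¹ * r * a) * e) * a⁻¹ := by group
      _ = a * (e * (a⁻¹ * r * a)) * a⁻¹ := by rw [h1]
      _ = a * e * a⁻¹ * r := by group
  -- `P ⊓ E` is a Sylow subgroup of `E`
  have hPEmax : ∀ Q : Subgroup G, IsPGroup p Q → Q ≤ E →
      ∃ y ∈ normalizer (R : Set G), conjS y Q ≤ PE := by
    intro Q hQ hQE
    obtain ⟨y, hy, hyQ⟩ := exists_conj_le_of_maximal (P.2.to_le inf_le_left)
      (inf_le_right (a := (P : Subgroup G))) hfn hQ (hQE.trans inf_le_left)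
    refine ⟨y, hy, le_inf (hyQ.trans inf_le_left) fun x hx => ?_⟩
    have := hEn y hy _ (hQE (mem_conjS.1 hx))
    simpa [mul_assoc] using this
  have hPEp : IsPGroup p PE := P.2.to_le inf_le_left
  obtain ⟨Q, hQ⟩ := (hPEp.comap_subtype (K := E)).exists_le_sylow
  have hQeq : (Q : Subgroup E).map E.subtype = PE := by
    obtain ⟨y, -, hy⟩ := hPEmax _ (Q.2.map E.subtype) (map_subtype_le _)
    refine (eq_of_le_of_card_ge ?_ ?_).symm
    · intro x hx; exact ⟨⟨x, hx.2⟩, hQ hx, rfl⟩
    · exact (card_conjS y _) ▸ card_le_of_le hy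
  -- splitting of `E`
  have hsplit : ∀ e ∈ E, ∃ z ∈ PE, ∃ c ∈ centralizer (R : Set G), e = z * c := by
    intro e he
    obtain ⟨k, hk, z, hz, hkz⟩ := PResidual.exists_mul_sylow Q ⟨e, he⟩
    have hz' : (z : G) ∈ PE := hQeq ▸ ⟨z, hz, rfl⟩
    have hk' : (k : G) ∈ centralizer (R : Set G) := by
      revert hk
      have : Cfsg.pResidual p E ≤ (centralizer (R : Set G)).comap E.subtype := by
        rw [PResidual.pResidual_le_iff]
        intro y hy
        refine mem_centralizer_iff.2 fun r hr => ?_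
        refine (commute_of_stable (P.2.to_le (inf_le_left.trans hR) : IsPGroup p R0)
          (by rwa [Subgroup.orderOf_coe]) y.2.2.2 (Subgroup.mem_inf.2 ⟨?_, ?_⟩)).symm
        · exact mul_mem ((mem_normalizer_iff.1 y.2.1 r).1 hr) (inv_mem hr)
        · have := mul_mem y.2.2.1 ((inferInstance : N.Normal).conj_mem _ (inv_mem y.2.2.1) r)
          simpa [mul_assoc] using this
      exact fun hk => this hk
    refine ⟨z, hz', (z : G)⁻¹ * k * z, ?_, ?_⟩
    · rw [mem_centralizer_iff] at hk' ⊢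
      intro r hr
      have h1 := hk' _ ((mem_normalizer_iff.1 z.2.1 r).1 hr)
      calc r * ((z : G)⁻¹ * k * z) = (z : G)⁻¹ * (((z : G) * r * (z : G)⁻¹) * k) * z := by group
        _ = (z : G)⁻¹ * (k * ((z : G) * r * (z : G)⁻¹)) * z := by rw [h1]
        _ = (z : G)⁻¹ * k * z * r := by group
    · have : (k : G) * (z : G) = e := congrArg Subtype.val hkz
      rw [← this]; group
  by_cases hcase : PE ≤ R
  · -- every `p`-element of `E` lies in `R0`
    have hpel : ∀ Q : Subgroup G, IsPGroup p Q → Q ≤ E → Q ≤ R0 := by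
      intro Q hQ hQE x hx
      obtain ⟨y, hy, hyQ⟩ := hPEmax Q hQ hQE
      have h1 : y * x * y⁻¹ ∈ PE := hyQ (conj_mem_conjS hx)
      have h2 : y * x * y⁻¹ ∈ R0 := ⟨hcase h1, h1.2.2.1⟩
      simpa [mul_assoc] using hNX y⁻¹ (inv_mem hy) _ h2
    set C := N ⊓ centralizer (R0 : Set G) with hC
    have hRC : R ≤ normalizer (C : Set G) := by
      intro r hr
      apply mem_normalizer_of_conjS_eq
      refine eq_of_le_of_card_ge ?_ (card_conjS _ _).ge
      rintro _ ⟨x, hx, rfl⟩
      refine ⟨(inferInstance : N.Normal).conj_mem x hx.1 r, mem_centralizer_iff.2 fun s hs => ?_⟩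
      have hr' := le_normalizer hr
      have h1 := mem_centralizer_iff.1 hx.2 _
        (by simpa using hNX r⁻¹ (inv_mem hr') s hs : r⁻¹ * s * r ∈ R0)
      show s * (r * x * r⁻¹) = r * x * r⁻¹ * s
      calc s * (r * x * r⁻¹) = r * ((r⁻¹ * s * r) * x) * r⁻¹ := by group
        _ = r * (x * (r⁻¹ * s * r)) * r⁻¹ := by rw [h1]
        _ = r * x * r⁻¹ * s := by group
    have hdec : ∀ z ∈ C ⊔ R, ∃ k ∈ C, ∃ r ∈ R, z = k * r := by
      intro z hz
      have hz' : z ∈ ((C ⊔ R : Subgroup G) : Set G) := hz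
      rw [coe_mul_of_right_le_normalizer_left C R hRC] at hz'
      obtain ⟨k, hk, r, hr, rfl⟩ := hz'
      exact ⟨k, hk, r, hr, rfl⟩
    -- `R` is a maximal `p`-subgroup of `C R`
    have hRmax : ∀ S : Subgroup G, IsPGroup p S → S ≤ C ⊔ R → R ≤ S → S = R := by
      intro S hS hSC hRS
      refine (hRS.eq_or_lt).elim Eq.symm fun hlt => absurd ?_ (lt_inf_normalizer hS hlt).not_ge
      rintro z ⟨hzS, hzN⟩
      obtain ⟨k, hk, r, hr, rfl⟩ := hdec z (hSC hzS)
      have hkS : k ∈ S := by simpa using Subgroup.mul_mem S hzS (Subgroup.inv_mem S (hRS hr))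
      have hkE : k ∈ E := Subgroup.mem_inf.2 ⟨by simpa using Subgroup.mul_mem (normalizer (R : Set G)) hzN (Subgroup.inv_mem _ (le_normalizer hr)), hk⟩
      exact mul_mem (hpel _ (hS.to_le (zpowers_le.2 hkS)) (zpowers_le.2 hkE) (mem_zpowers k)).1 hr
    obtain ⟨x, hx, m, hm, rfl⟩ := hG n
    have hR0T : R0 ≤ (P : Subgroup G) ⊓ N := inf_le_inf_right N hR
    have hmR : conjS m R0 ≤ (P : Subgroup G) ⊓ N := by
      intro z hz
      have h1 : x * z * x⁻¹ ∈ (P : Subgroup G) ⊓ N := by
        have := hNX _ hn _ (mem_conjS.1 hz)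
        have e : x * m * (m⁻¹ * z * m) * (x * m)⁻¹ = x * z * x⁻¹ := by group
        rw [e] at this
        exact hR0T this
      exact (mem_normalizer_iff.1 hx z).2 h1
    obtain ⟨h, hh, c, hc, rfl⟩ := hctrlN R0 hR0T m hm hmR
    set y := x * h with hy
    have hyW : y ∈ normalizer (W : Set G) := mul_mem (hTW hx) hh.2
    set R' := conjS c R with hR'
    have hR'W : R' ≤ normalizer (W : Set G) := by
      intro z hz
      have h1 : y * z * y⁻¹ ∈ R := by
        have := (mem_normalizer_iff.1 hn _).1 (mem_conjS.1 hz)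
        have e : x * (h * c) * (c⁻¹ * z * c) * (x * (h * c))⁻¹ = y * z * y⁻¹ := by rw [hy]; group
        rwa [e] at this
      have h2 := mul_mem (mul_mem (inv_mem hyW) (hPW (hR h1))) hyW
      simpa [mul_assoc] using h2
    set U := C ⊓ normalizer (W : Set G) with hU
    have hR'U : R' ≤ U ⊔ R := by
      intro z hz
      have h1 : z ∈ C ⊔ R := by
        have := mem_conjS.1 hz
        have h2 := mul_mem (mul_mem (mem_sup_left (T := R) hc) (mem_sup_right (S := C) this))
          (inv_mem (mem_sup_left (T := R) hc))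
        simpa [mul_assoc] using h2
      obtain ⟨k, hk, r, hr, rfl⟩ := hdec z h1
      refine mul_mem (mem_sup_left ⟨hk, ?_⟩) (mem_sup_right hr)
      simpa using mul_mem (hR'W hz) (inv_mem (hPW (hR hr)))
    obtain ⟨u, hu, huR⟩ := exists_conj_le_of_maximal (P.2.to_le hR) (le_sup_right (a := U))
      (fun S hS hSU hRS => hRmax S hS (hSU.trans (sup_le_sup_right inf_le_left R)) hRS)
      ((P.2.to_le hR).map _) hR'U
    obtain ⟨d, hd, huR'⟩ : ∃ d ∈ U, conjS d R' ≤ R := by
      have hnU : R ≤ normalizer (U : Set G) := by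
        intro r hr
        apply mem_normalizer_of_conjS_eq
        refine eq_of_le_of_card_ge ?_ (card_conjS _ _).ge
        rintro _ ⟨z, hz, rfl⟩
        exact ⟨(mem_normalizer_iff.1 (hRC hr) z).1 hz.1,
          Subgroup.mul_mem _ (Subgroup.mul_mem _ (hPW (hR hr)) hz.2) (Subgroup.inv_mem _ (hPW (hR hr)))⟩
      have hu' : u ∈ ((U ⊔ R : Subgroup G) : Set G) := hu
      rw [coe_mul_of_right_le_normalizer_left U R hnU] at hu'
      obtain ⟨k, hk, r, hr, rfl⟩ := hu'
      refine ⟨r⁻¹ * k * r, ?_, fun z hz => ?_⟩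
      · have := (mem_normalizer_iff.1 (hnU (inv_mem hr)) k).1 hk
        simpa using this
      · have h1 : k * r * (((r⁻¹ * k * r))⁻¹ * z * (r⁻¹ * k * r)) * (k * r)⁻¹ ∈ R :=
          huR (conj_mem_conjS (mem_conjS.1 hz))
        have e : k * r * (((r⁻¹ * k * r))⁻¹ * z * (r⁻¹ * k * r)) * (k * r)⁻¹ = r * z * r⁻¹ := by group
        rw [e] at h1
        have h2 := mul_mem (mul_mem (inv_mem hr) h1) hr
        simpa [mul_assoc] using h2
    have hdc : d * c ∈ E := by
      refine ⟨mem_normalizer_of_conjS_eq (eq_of_le_of_card_ge ?_ (card_conjS _ _).ge),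
        mul_mem hd.1 hc⟩
      rw [conjS_mul]; exact huR'
    obtain ⟨z, hz, c', hc', hzc⟩ := hsplit _ hdc
    refine ⟨y * d⁻¹ * z, mul_mem (mul_mem hyW (inv_mem hd.2)) (hPW hz.1), c', hc', ?_⟩
    rw [mul_assoc (y * d⁻¹), ← hzc, hy]
    group
  · -- pass to the larger subgroup `R ⊔ PE`
    have hRB : R ⊔ PE ≤ P := sup_le hR inf_le_left
    have hlt : Nat.card R < Nat.card ↥(R ⊔ PE) := by
      refine (card_le_of_le le_sup_left).lt_of_ne fun e => hcase ?_
      have := eq_of_le_of_card_ge (le_sup_left (a := R) (b := PE)) e.ge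
      exact le_sup_right.trans this.ge
    -- Frattini argument in `E`
    obtain ⟨e, he, hen⟩ : ∃ e ∈ E, conjS (e * n) PE = PE := by
      have hle : conjS n PE ≤ E := by
        intro z hz
        have := hEn n hn _ (mem_conjS.1 hz).2
        simpa [mul_assoc] using this
      obtain ⟨e, he, h1⟩ := exists_conj_le_of_maximal hPEp (inf_le_right (a := (P : Subgroup G)))
        (fun S hS hSE hPS => by
          obtain ⟨y, -, hy⟩ := hPEmax S hS hSE
          exact (eq_of_le_of_card_ge hPS ((card_conjS y S) ▸ card_le_of_le hy)).symm)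
        (hPEp.map _) hle
      exact ⟨e, he, eq_of_le_of_card_ge (by rw [conjS_mul]; exact h1) (card_conjS _ _).ge⟩
    have henR : e * n ∈ normalizer (R : Set G) := mul_mem he.1 hn
    have henB : e * n ∈ normalizer ((R ⊔ PE : Subgroup G) : Set G) := by
      apply mem_normalizer_of_conjS_eq
      rw [conjS, Subgroup.map_sup]
      exact congrArg₂ (· ⊔ ·) (conjS_eq_of_mem_normalizer henR) hen
    obtain ⟨h, hh, c, hc, henhc⟩ := IH _ hRB hlt _ henB
    have hcR : c ∈ centralizer (R : Set G) := centralizer_le (le_sup_left (b := PE)) hc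
    have hhR : h ∈ normalizer (R : Set G) := by
      have : h = e * n * c⁻¹ := by rw [henhc, mul_inv_cancel_right]
      rw [this]
      exact mul_mem henR (inv_mem (centralizer_le_normalizer (R : Set G) hcR))
    have he' : h⁻¹ * e⁻¹ * h ∈ E := by simpa using hEn h⁻¹ (inv_mem hhR) _ (inv_mem he)
    obtain ⟨z, hz, c', hc', hzc⟩ := hsplit _ he'
    refine ⟨h * z, mul_mem hh (hPW hz.1), c' * c, mul_mem hc' hcR, ?_⟩
    calc n = e⁻¹ * (e * n) := by group
      _ = h * (h⁻¹ * e⁻¹ * h) * c := by rw [henhc]; group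
      _ = h * z * (c' * c) := by rw [hzc]; group

/-- Let N be a normal subgroup of the finite group G, P a Sylow p-subgroup of G, and V a subgroup of P ∩ N normal in P ∩ N such that N_N(V) controls strong fusion in P ∩ N with respect to N (whenever a subgroup A of P ∩ N has n A n⁻¹ ≤ P ∩ N for some n in N, then n = h c with h in N_N(V) and c in C_N(A)). Let W be the subgroup generated by the conjugates of V under N_G(P ∩ N). Then N_G(W) controls strong fusion in P with respect to G. -/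
theorem result {G : Type*} [Group G] [Finite G] {p : ℕ} [Fact p.Prime] (N : Subgroup G) [N.Normal] (P : Sylow p G) (V : Subgroup G)
    (hV : V ≤ (P : Subgroup G) ⊓ N) (hVn : ∀ x ∈ (P : Subgroup G) ⊓ N, V.map (MulAut.conj x).toMonoidHom = V)
    (hctrl : ∀ A : Subgroup G, A ≤ (P : Subgroup G) ⊓ N → ∀ n ∈ N, A.map (MulAut.conj n).toMonoidHom ≤ (P : Subgroup G) ⊓ N →
      ∃ h ∈ N ⊓ Subgroup.normalizer (V : Set G), ∃ c ∈ N ⊓ Subgroup.centralizer (A : Set G), n = h * c)
    (W : Subgroup G) (hW : W = Subgroup.closure (⋃ x ∈ Subgroup.normalizer (((P : Subgroup G) ⊓ N : Subgroup G) : Set G),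
      ((V.map (MulAut.conj x).toMonoidHom : Subgroup G) : Set G))) :
    ∀ A : Subgroup G, A ≤ (P : Subgroup G) → ∀ g : G, A.map (MulAut.conj g).toMonoidHom ≤ (P : Subgroup G) →
        ∃ h ∈ Subgroup.normalizer (W : Set G), ∃ c ∈ Subgroup.centralizer (A : Set G), g = h * c := by
  classical
  set T := (P : Subgroup G) ⊓ N with hT
  set NT := normalizer (T : Set G) with hNT
  have hgen : ∀ x ∈ NT, conjS x V ≤ W := fun x hx z hz => by
    rw [hW]; exact subset_closure (Set.mem_iUnion₂.2 ⟨x, hx, hz⟩)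
  have hnorm : ∀ h : G, (∀ x ∈ NT, conjS h (conjS x V) ≤ W) → h ∈ normalizer (W : Set G) := by
    intro h hh
    refine mem_normalizer_of_conjS_eq (eq_of_le_of_card_ge ?_ (card_conjS _ _).ge)
    conv_lhs => rw [hW]
    rw [conjS, MonoidHom.map_closure, closure_le]
    rintro _ ⟨z, hz, rfl⟩
    obtain ⟨x, hx, hzx⟩ := Set.mem_iUnion₂.1 hz
    exact hh x hx (mem_map_of_mem _ hzx)
  have hTW : NT ≤ normalizer (W : Set G) := fun y hy => hnorm y fun x hx => by
    rw [← conjS_mul]; exact hgen _ (mul_mem hy hx)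
  have hPT : (P : Subgroup G) ≤ NT := by
    intro y hy
    apply mem_normalizer_of_conjS_eq
    refine eq_of_le_of_card_ge ?_ (card_conjS _ _).ge
    rintro _ ⟨z, hz, rfl⟩
    exact Subgroup.mem_inf.2 ⟨mul_mem (mul_mem hy hz.1) (inv_mem hy), (inferInstance : N.Normal).conj_mem z hz.2 y⟩
  have hPW : (P : Subgroup G) ≤ normalizer (W : Set G) := hPT.trans hTW
  -- every conjugate of `V` controls
  have hone : ∀ x ∈ NT, ∀ A : Subgroup G, A ≤ T → ∀ m ∈ N, conjS m A ≤ T →
      ∃ h ∈ N ⊓ normalizer (conjS x V : Set G), ∃ c ∈ N ⊓ centralizer (A : Set G), m = h * c := by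
    intro x hx A hA m hm hmA
    have hxT : ∀ z ∈ T, x⁻¹ * z * x ∈ T := fun z hz => (mem_normalizer_iff''.1 hx z).1 hz
    have h1 : conjS x⁻¹ A ≤ T := fun z hz => by
      have := hxT _ (hA (mem_conjS.1 hz))
      simpa [mul_assoc] using this
    have h2 : conjS (x⁻¹ * m * x) (conjS x⁻¹ A) ≤ T := by
      rw [← conjS_mul, show x⁻¹ * m * x * x⁻¹ = x⁻¹ * m by group, conjS_mul]
      intro z hz
      have := hxT _ (hmA (mem_conjS.1 hz))
      simpa [mul_assoc] using this
    obtain ⟨h, hh, c, hc, he⟩ := hctrl (conjS x⁻¹ A) h1 (x⁻¹ * m * x)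
      (by simpa using (inferInstance : N.Normal).conj_mem m hm x⁻¹) h2
    refine ⟨x * h * x⁻¹, ⟨(inferInstance : N.Normal).conj_mem h hh.1 x, mem_normalizer_conjS hh.2⟩,
      x * c * x⁻¹, ⟨(inferInstance : N.Normal).conj_mem c hc.1 x,
        mem_centralizer_iff.2 fun a ha => ?_⟩, ?_⟩
    · have h3 := mem_centralizer_iff.1 hc.2 _ (conj_mem_conjS (g := x⁻¹) ha)
      calc a * (x * c * x⁻¹) = x * ((x⁻¹ * a * x⁻¹⁻¹) * c) * x⁻¹ := by group
        _ = x * (c * (x⁻¹ * a * x⁻¹⁻¹)) * x⁻¹ := by rw [h3]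
        _ = x * c * x⁻¹ * a := by group
    · calc m = x * (x⁻¹ * m * x) * x⁻¹ := by group
        _ = x * h * x⁻¹ * (x * c * x⁻¹) := by rw [he]; group
  have hVT : ∀ x ∈ NT, conjS x V ≤ T := fun x hx z hz => by
    have := (mem_normalizer_iff.1 hx _).1 (hV (mem_conjS.1 hz))
    simpa [hT, mul_assoc] using this
  -- hence `N_N(W)` controls
  have hctrlN : ∀ A : Subgroup G, A ≤ T → ∀ m ∈ N, conjS m A ≤ T →
      ∃ h ∈ N ⊓ normalizer (W : Set G), ∃ c ∈ N ⊓ centralizer (A : Set G), m = h * c := by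
    have key : ∀ s : Finset NT, ∀ A : Subgroup G, A ≤ T → ∀ m ∈ N, conjS m A ≤ T →
        ∃ h, h ∈ N ∧ (∀ x ∈ s, h ∈ normalizer (conjS (x : G) V : Set G)) ∧
          ∃ c ∈ N ⊓ centralizer (A : Set G), m = h * c := by
      intro s
      induction s using Finset.induction_on with
      | empty => exact fun A _ m hm _ => ⟨m, hm, by simp, 1, one_mem _, (mul_one m).symm⟩
      | insert a s _ ih =>
        intro A hA m hm hmA
        obtain ⟨h, hhN, hhs, c, hc, rfl⟩ := ih A hA m hm hmA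
        set A' := A ⊔ ⨆ x ∈ s, conjS (x : G) V with hA'
        have h1 : conjS h A' ≤ T := by
          rw [hA', conjS, Subgroup.map_sup, sup_le_iff]
          simp only [Subgroup.map_iSup, iSup_le_iff]
          refine ⟨?_, fun x hx => ?_⟩
          · rintro _ ⟨z, hz, rfl⟩
            have h2 : h * c * z * (h * c)⁻¹ ∈ T := hmA (conj_mem_conjS hz)
            rwa [mul_assoc h c z, ← mem_centralizer_iff.1 hc.2 z hz,
              show h * (z * c) * (h * c)⁻¹ = h * z * h⁻¹ by group] at h2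
          · exact (conjS_eq_of_mem_normalizer (hhs x hx)).le.trans (hVT x x.2)
        obtain ⟨h', hh', c', hc', he⟩ := hone a a.2 A'
          (sup_le hA (iSup₂_le fun x _ => hVT x x.2)) h hhN h1
        refine ⟨h', hh'.1, fun x hx => ?_, c' * c,
          mul_mem ⟨hc'.1, centralizer_le (le_sup_left : A ≤ A') hc'.2⟩ hc, by rw [he, mul_assoc]⟩
        rcases Finset.mem_insert.1 hx with rfl | hx
        · exact hh'.2
        · have hc'' : c' ∈ normalizer (conjS (x : G) V : Set G) :=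
            centralizer_le_normalizer _ (centralizer_le
              ((le_iSup₂ (f := fun (y : NT) (_ : y ∈ s) => conjS (y : G) V) x hx).trans le_sup_right)
              hc'.2)
          have : h' = h * c'⁻¹ := by rw [he, mul_inv_cancel_right]
          rw [this]
          exact mul_mem (hhs x hx) (inv_mem hc'')
    intro A hA m hm hmA
    haveI : Fintype NT := Fintype.ofFinite _
    obtain ⟨h, hhN, hhs, c, hc, he⟩ := key Finset.univ A hA m hm hmA
    exact ⟨h, ⟨hhN, hnorm h fun x hx => by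
      rw [conjS_eq_of_mem_normalizer (hhs ⟨x, hx⟩ (Finset.mem_univ _))]
      exact hgen x hx⟩, c, hc, he⟩
  have hG : ∀ g : G, ∃ x ∈ NT, ∃ m ∈ N, g = x * m := by
    intro g
    obtain ⟨Q, hQ⟩ := Fusion.exists_sylow_map_eq_inf N P
    have h1 : NT ⊔ N = ⊤ := by
      rw [hNT, hT, inf_comm (P : Subgroup G) N, ← hQ]
      exact Q.normalizer_sup_eq_top
    have hg : g ∈ ((NT ⊔ N : Subgroup G) : Set G) := (SetLike.ext_iff.1 h1 g).2 (mem_top g)
    rw [mul_normal] at hg
    obtain ⟨x, hx, m, hm, rfl⟩ := hg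
    exact ⟨x, hx, m, hm, rfl⟩
  -- downward induction on the order
  have main : ∀ (d : ℕ) (A : Subgroup G) (g : G), Nat.card (P : Subgroup G) - Nat.card A ≤ d →
      A ≤ P → conjS g A ≤ P → Ctrl W A g := by
    intro d
    induction d using Nat.strong_induction_on with
    | _ d ih =>
      intro A g hd hA hgA
      have hch := alperin P A g hA hgA
      clear hgA
      induction hch with
      | @base A R n hR hAR hn =>
        refine (step hPW hTW hG hctrlN R hR.1 hR.2.1 (fun B hB hlt m hm => ?_) n hn).mono hAR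
        refine ih (Nat.card (P : Subgroup G) - Nat.card B) ?_ B m le_rfl hB
          ((conjS_eq_of_mem_normalizer hm).le.trans hB)
        have := card_le_of_le hAR
        have := card_le_of_le hB
        omega
      | @comp A g h h₁ h₂ ih₁ ih₂ =>
        exact (ih₁ hd hA).comp (ih₂ (by rw [card_conjS]; exact hd) h₁.le_and_conj_le.2)
  intro A hA g hg
  exact main _ A g le_rfl hA hg

end Cfsg.Agent.S1954
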