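import Cfsg.Statements.S1966
import Cfsg.Agent.Lib.Cores.Basic
-- import your own Cfsg.Agent.* helpers here

set_option autoImplicit false
open Cfsg

namespace Cfsg.Agent.S1966

/-- Let p be a prime, G a finite group with Sylow p-subgroup S and 𝓕 a conjugation family for S in G. Then the members of 𝓕 containing O_p(G) still form a conjugation family for S in G. -/
theorem result {G : Type*} [Group G] [Finite G] {p : ℕ} [Fact p.Prime] (S : Sylow p G) (𝓕 : Set (Subgroup G)) (h : Cfsg.IsConjugationFamily 𝓕 (S : Subgroup G)) : Cfsg.IsConjugationFamily {T : Subgroup G | T ∈ 𝓕 ∧ Cfsg.pCore p G ≤ T} (S : Subgroup G) := by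
  refine ⟨fun T hT => h.1 T hT.1, fun A g hne hA hgA => ?_⟩
  set P := Cfsg.pCore p G with hP
  have hPS : P ≤ (S : Subgroup G) := Cfsg.Agent.Lib.Cores.pCore_le_sylow S
  have hnorm : ∀ (x a : G), a ∈ P → x⁻¹ * a * x ∈ P := fun x a ha =>
    (pCore_normal p G).conj_mem' a ha x
  obtain ⟨n, T, x, hp', hT, hx, h0, hs⟩ := h.2 (A ∪ (P : Set G)) g (hne.mono Set.subset_union_left)
    (Set.union_subset hA hPS) (by
      rintro _ ⟨a, ha | ha, rfl⟩
      · exact hgA ⟨a, ha, rfl⟩
      · exact hPS (hnorm g a ha))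
  have hmem : ∀ i : Fin n, P ≤ T i := by
    intro i a ha
    obtain ⟨i, hi⟩ := i
    cases i with
    | zero => exact h0 hi (Or.inr ha)
    | succ k =>
      set q := ((List.ofFn x).take (k + 1)).prod with hq
      refine hs ⟨k, by omega⟩ hi ⟨q * a * q⁻¹, Or.inr ((pCore_normal p G).conj_mem a ha q), ?_⟩
      simp [← hq, mul_assoc]
  exact ⟨n, T, x, hp', fun i => ⟨hT i, hmem i⟩, hx, fun h' => Set.subset_union_left.trans (h0 h'),
    fun i hi => (Set.image_mono Set.subset_union_left).trans (hs i hi)⟩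

end Cfsg.Agent.S1966
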