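import Cfsg.Statements.S1967
import Cfsg.Agent.Lib.ConjFunctor.WellPlaced
-- import your own Cfsg.Agent.* helpers here

set_option autoImplicit false
open Cfsg

namespace Cfsg.Agent.S1967

/-- Let p be a prime, G a finite group with Sylow p-subgroup S and W a conjugacy functor for p on G. Then W controls strong fusion in G if and only if, whenever T ≤ S and g ∈ G satisfy gTg⁻¹ ≤ S, one can write g = n c with n ∈ N_G(W(S)) and c ∈ C_G(T). -/
theorem result {G : Type*} [Group G] [Finite G] {p : ℕ} [Fact p.Prime] (S : Sylow p G) (W : Subgroup G → Subgroup G) (hW : Cfsg.IsConjugacyFunctor p W) : Cfsg.ControlsStrongFusionIn p W ⊤ ↔ ∀ (T : Subgroup G) (g : G), T ≤ (S : Subgroup G) → T.map (MulAut.conj g).toMonoidHom ≤ (S : Subgroup G) → ∃ n ∈ Subgroup.normalizer ((W (S : Subgroup G) : Subgroup G) : Set G), ∃ c ∈ Subgroup.centralizer (T : Set G), g = n * c := by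
  open Cfsg.Agent.Lib.ConjFunctor Basic Reach Local in
  constructor
  · intro h T g hT hgT
    open Cfsg.Agent.Lib.ConjFunctor Basic Reach Local in
    obtain ⟨R, hR, hsf⟩ := Cfsg.Agent.Lib.ConjFunctor.WellPlaced.controlsSF_iff.1 h
    have hS := Cfsg.Agent.Lib.ConjFunctor.Basic.isSyl_top S
    have hsf' := hsf.of_isSyl (Cfsg.Agent.Lib.ConjFunctor.WellPlaced.equi_single hW) hR hS
    obtain ⟨x, hx, he⟩ := (hsf' (T : Set G) g trivial hT hgT).collapse
      (N := Subgroup.normalizer ((W (S : Subgroup G) : Subgroup G) : Set G)) (by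
        rintro y hy
        obtain ⟨W', hW', hy'⟩ := Cfsg.Agent.Lib.ConjFunctor.Local.mem_stepSet_nFam.1 hy
        rw [Set.mem_singleton_iff] at hW'; subst hW'; exact hy'.2)
    refine ⟨x, hx, x⁻¹ * g, Subgroup.mem_centralizer_iff.2 fun a ha => ?_, by group⟩
    calc a * (x⁻¹ * g) = x⁻¹ * (x * a * x⁻¹) * g := by group
      _ = x⁻¹ * (g * a * g⁻¹) * g := by rw [he a ha]
      _ = x⁻¹ * g * a := by group
  · intro h
    refine Cfsg.Agent.Lib.ConjFunctor.WellPlaced.controlsSF_iff.2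
      ⟨_, Cfsg.Agent.Lib.ConjFunctor.Basic.isSyl_top S, fun A g _ hA hgA => ?_⟩
    have hle : Subgroup.closure A ≤ S := (Subgroup.closure_le _).2 hA
    obtain ⟨n, hn, c, hc, rfl⟩ := h (Subgroup.closure A) g hle (by
      rw [MonoidHom.map_closure]; exact (Subgroup.closure_le _).2 hgA)
    have he : ∀ a ∈ A, n * a * n⁻¹ = n * c * a * (n * c)⁻¹ := fun a ha => by
      have h1 := Subgroup.mem_centralizer_iff.1 hc a (Subgroup.subset_closure ha)
      calc n * a * n⁻¹ = n * (a * c) * c⁻¹ * n⁻¹ := by group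
        _ = n * (c * a) * c⁻¹ * n⁻¹ := by rw [h1]
        _ = n * c * a * (n * c)⁻¹ := by group
    refine Cfsg.Agent.Lib.ConjFunctor.Reach.Chain.congr (g := n)
      (Cfsg.Agent.Lib.ConjFunctor.Reach.Chain.single
        (Cfsg.Agent.Lib.ConjFunctor.Local.mem_stepSet_nFam.2 ⟨W, rfl, trivial, hn⟩) hA ?_) he
    rw [Cfsg.Agent.Lib.ConjFunctor.Reach.cimg_congr he]; exact hgA

end Cfsg.Agent.S1967
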