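import Cfsg.Statements.S1969
import Cfsg.Agent.Lib.ConjFunctor.Main
-- import your own Cfsg.Agent.* helpers here

set_option autoImplicit false
universe u
open Cfsg

namespace Cfsg.Agent.S1969

/-- Let p be a prime, G a finite group and W an isomorphism-invariant p-group functor (W assigns to every group Q a subgroup W(Q), nontrivial whenever Q is a nontrivial finite p-group, and every isomorphism from a finite p-group Q onto a group R carries W(Q) onto W(R)). Suppose that W(S*) is normal in G* whenever G* = K/R is a section of G with C_{G*}(O_p(G*)) ≤ O_p(G*) and S* is a Sylow p-subgroup of G*. Then W controls strong fusion in every section of G: for every section K/R and every Sylow p-subgroup T of K/R, the subgroup W(T) controls strong fusion in K/R. -/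
theorem result {G : Type u} [Group G] [Finite G] {p : ℕ} [Fact p.Prime] (W : ∀ (Q : Type u) [Group Q], Subgroup Q) (hW : Cfsg.IsCharPFunctor.{u} p W) (hloc : ∀ (K R : Subgroup G) [hR : (R.subgroupOf K).Normal], Subgroup.centralizer ((Cfsg.pCore p (↥K ⧸ R.subgroupOf K) : Subgroup (↥K ⧸ R.subgroupOf K)) : Set (↥K ⧸ R.subgroupOf K)) ≤ Cfsg.pCore p (↥K ⧸ R.subgroupOf K) → ∀ T : Sylow p (↥K ⧸ R.subgroupOf K), (Cfsg.inducedFunctor (G := (↥K ⧸ R.subgroupOf K)) W ((T : Subgroup (↥K ⧸ R.subgroupOf K)))).Normal) : ∀ (K R : Subgroup G) [hR : (R.subgroupOf K).Normal], ∀ T : Sylow p (↥K ⧸ R.subgroupOf K), Cfsg.ControlsStrongFusion p (Cfsg.inducedFunctor (G := (↥K ⧸ R.subgroupOf K)) W ((T : Subgroup (↥K ⧸ R.subgroupOf K)))) := by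
  intro K R hR T
  open Cfsg.Agent.Lib.ConjFunctor in
  have h𝓦 : ∀ V ∈ ({W} : Set (∀ (Q : Type u) [Group Q], Subgroup Q)), IsCharPFunctor.{u} p V := by
    rintro V rfl; exact hW
  have hsf := Lib.ConjFunctor.Main.sf_of_loc h𝓦 (fun K R _ hc T A g _ hA hgA => by
    refine Lib.ConjFunctor.Reach.Chain.single
      (Lib.ConjFunctor.Local.mem_stepSet_nFam.2 ⟨_, ⟨W, rfl, rfl⟩, trivial, ?_⟩) hA hgA
    haveI := hloc K R hc T
    rw [Subgroup.normalizer_eq_top]
    trivial) (↥K ⧸ R.subgroupOf K) (Lib.ConjFunctor.Section.isSection_quot K R) T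
  have hc := Lib.ConjFunctor.Section.isConjugacyFunctor_induced hW (X := ↥K ⧸ R.subgroupOf K)
  refine ⟨T, Lib.ConjFunctor.Basic.w_le hc T.2, fun A hA => ⟨hA, fun g hgA => ?_⟩⟩
  obtain ⟨x, hx, hxe⟩ := (hsf A g trivial hA hgA).collapse
    (N := Subgroup.normalizer (Cfsg.inducedFunctor W (T : Subgroup (↥K ⧸ R.subgroupOf K)) :
      Set (↥K ⧸ R.subgroupOf K))) (fun y hy => by
    obtain ⟨V, hV, hy⟩ := Lib.ConjFunctor.Local.mem_stepSet_nFam.1 hy
    obtain ⟨_, rfl, rfl⟩ := hV
    exact hy.2)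
  exact ⟨x, hx, fun a ha => (hxe a ha).symm⟩

end Cfsg.Agent.S1969
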