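import Cfsg.Statements.S1970
import Cfsg.Agent.Lib.ConjFunctor.Failure
-- import your own Cfsg.Agent.* helpers here

set_option autoImplicit false
universe u
open Cfsg

namespace Cfsg.Agent.S1970

/-- Let p be a prime, G a finite group and W an isomorphism-invariant p-group functor (W assigns to every group Q a subgroup W(Q), nontrivial whenever Q is a nontrivial finite p-group, and every isomorphism from a finite p-group Q onto a group R carries W(Q) onto W(R)). Suppose that for every section G* = K/R of G with C_{G*}(O_p(G*)) ≤ O_p(G*) and every Sylow p-subgroup S* of G*, one has O_p(G*) ∩ (G*)' = O_p(G*) ∩ (N_{G*}(W(S*)))'. Then W controls transfer in every section G* of G: S* ∩ (G*)' = S* ∩ (N_{G*}(W(S*)))' for a Sylow p-subgroup S* of G*. -/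
theorem result {G : Type u} [Group G] [Finite G] {p : ℕ} [Fact p.Prime] (W : ∀ (Q : Type u) [Group Q], Subgroup Q) (hW : Cfsg.IsCharPFunctor.{u} p W) (hloc : ∀ (K R : Subgroup G) [hR : (R.subgroupOf K).Normal], Subgroup.centralizer ((Cfsg.pCore p (↥K ⧸ R.subgroupOf K) : Subgroup (↥K ⧸ R.subgroupOf K)) : Set (↥K ⧸ R.subgroupOf K)) ≤ Cfsg.pCore p (↥K ⧸ R.subgroupOf K) → ∀ T : Sylow p (↥K ⧸ R.subgroupOf K), Cfsg.pCore p (↥K ⧸ R.subgroupOf K) ⊓ commutator (↥K ⧸ R.subgroupOf K) = Cfsg.pCore p (↥K ⧸ R.subgroupOf K) ⊓ ⁅Subgroup.normalizer ((Cfsg.inducedFunctor (G := (↥K ⧸ R.subgroupOf K)) W ((T : Subgroup (↥K ⧸ R.subgroupOf K))) : Subgroup (↥K ⧸ R.subgroupOf K)) : Set (↥K ⧸ R.subgroupOf K)), Subgroup.normalizer ((Cfsg.inducedFunctor (G := (↥K ⧸ R.subgroupOf K)) W ((T : Subgroup (↥K ⧸ R.subgroupOf K))) : Subgroup (↥K ⧸ R.subgroupOf K)) : Set (↥K ⧸ R.subgroupOf K))⁆) : ∀ (K R : Subgroup G) [hR : (R.subgroupOf K).Normal], Cfsg.ControlsTransferIn p (Cfsg.inducedFunctor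 (G := (↥K ⧸ R.subgroupOf K)) W) ⊤ := by
  have h𝓦 : ∀ V ∈ ({W} : Set (∀ (Q : Type u) [Group Q], Subgroup Q)), IsCharPFunctor.{u} p V := by
    rintro V rfl; exact hW
  have htr : ∀ (X : Type u) [Group X] [Finite X], Lib.ConjFunctor.Section.IsSection X G →
      Lib.ConjFunctor.Section.Tr {W} p X :=
    Lib.ConjFunctor.Failure.tr_induction h𝓦 fun K R _ hsub hquot => by
      by_contra hfail
      obtain ⟨S⟩ := (inferInstance : Nonempty (Sylow p (↥K ⧸ R.subgroupOf K)))
      have hne := Set.singleton_nonempty W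
      refine Lib.ConjFunctor.Failure.not_trAt h𝓦 hfail S (Lib.ConjFunctor.Reach.trAt_of_le
        ((Lib.ConjFunctor.Failure.inf_commutator_le_sup h𝓦 hne hsub hquot hfail S).trans
          (sup_le le_rfl ?_)))
      have h := hloc K R (Lib.ConjFunctor.Failure.constrained h𝓦 hsub hquot hfail) S
      rw [commutator_def] at h
      rw [h]
      refine le_trans ?_ (Lib.ConjFunctor.Reach.le_trGen ⟨_, ⟨W, rfl, rfl⟩, rfl⟩)
      simp only [Lib.ConjFunctor.Local.nF, top_inf_eq]
      exact inf_le_inf_right _ (Lib.Cores.pCore_le_sylow S)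
  intro K R hR
  obtain ⟨S⟩ := (inferInstance : Nonempty (Sylow p (↥K ⧸ R.subgroupOf K)))
  refine Lib.ConjFunctor.WellPlaced.controlsTr_iff.2
    ⟨_, Lib.ConjFunctor.Basic.isSyl_top S, ?_⟩
  have h := htr _ (Lib.ConjFunctor.Section.isSection_quot K R) S
  rwa [Lib.ConjFunctor.Section.indSet, Set.image_singleton] at h

end Cfsg.Agent.S1970
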