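import Cfsg.Statements.S1972
import Cfsg.Agent.Lib.ConjFunctor.Failure
-- import your own Cfsg.Agent.* helpers here

set_option autoImplicit false
universe u
open Cfsg

namespace Cfsg.Agent.S1972

/-- Let p be a prime, G a finite group and W an isomorphism-invariant p-group functor (W assigns to every group Q a subgroup W(Q), nontrivial whenever Q is a nontrivial finite p-group, and every isomorphism from a finite p-group Q onto a group R carries W(Q) onto W(R)). Suppose that whenever G* = K/R is a section of G with C_{G*}(O_p(G*)) ≤ O_p(G*) and S* is a Sylow p-subgroup of G* with W(S*) not normal in G*, there is an element g of S* outside O_p(G*) such that [X, g, …, g] ≤ Y with p − 1 entries g, for every chief factor X/Y of G* with X ≤ O_p(G*). Then W controls transfer in every section of G. -/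
theorem result {G : Type u} [Group G] [Finite G] {p : ℕ} [Fact p.Prime] (W : ∀ (Q : Type u) [Group Q], Subgroup Q) (hW : Cfsg.IsCharPFunctor.{u} p W) (hloc : ∀ (K R : Subgroup G) [hR : (R.subgroupOf K).Normal], Subgroup.centralizer ((Cfsg.pCore p (↥K ⧸ R.subgroupOf K) : Subgroup (↥K ⧸ R.subgroupOf K)) : Set (↥K ⧸ R.subgroupOf K)) ≤ Cfsg.pCore p (↥K ⧸ R.subgroupOf K) → ∀ T : Sylow p (↥K ⧸ R.subgroupOf K), ¬ (Cfsg.inducedFunctor (G := (↥K ⧸ R.subgroupOf K)) W ((T : Subgroup (↥K ⧸ R.subgroupOf K)))).Normal → ∃ g : (↥K ⧸ R.subgroupOf K), g ∈ (T : Subgroup (↥K ⧸ R.subgroupOf K)) ∧ g ∉ Cfsg.pCore p (↥K ⧸ R.subgroupOf K) ∧ ∀ U V : Subgroup (↥K ⧸ R.subgroupOf K), Cfsg.IsChiefFactor U V → U ≤ Cfsg.pCore p (↥K ⧸ R.subgroupOf K) → Cfsg.iterCommutator U (Subgroup.zpowers g) (p - 1) ≤ V) : ∀ (K R : Subgroup G) [hR : (R.subgroupOf K).Normal], Cfsg.ControlsTransferIn p (Cfsg.inducedFunctor (G := (↥K ⧸ R.subgroupOf K)) W) ⊤ := by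
  have h𝓦 : ∀ V ∈ ({W} : Set (∀ (Q : Type u) [Group Q], Subgroup Q)), IsCharPFunctor.{u} p V := by
    rintro V rfl; exact hW
  have htr : ∀ (X : Type u) [Group X] [Finite X], Lib.ConjFunctor.Section.IsSection X G →
      Lib.ConjFunctor.Section.Tr {W} p X :=
    Lib.ConjFunctor.Failure.tr_induction h𝓦 fun K R _ hsub hquot => by
      by_contra hfail
      obtain ⟨S⟩ := (inferInstance : Nonempty (Sylow p (↥K ⧸ R.subgroupOf K)))
      have hne := Set.singleton_nonempty W
      have hn : ¬ (Cfsg.inducedFunctor (G := (↥K ⧸ R.subgroupOf K)) W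
          (S : Subgroup (↥K ⧸ R.subgroupOf K))).Normal := fun hn =>
        Lib.ConjFunctor.Failure.not_trAt h𝓦 hfail S
          (Lib.ConjFunctor.Failure.trAt_of_normalizer_eq_top S (W := W) rfl
            (Subgroup.normalizer_eq_top_iff.2 hn))
      obtain ⟨g, hg, hgP, hdeg⟩ :=
        hloc K R (Lib.ConjFunctor.Failure.constrained h𝓦 hsub hquot hfail) S hn
      exact Lib.ConjFunctor.Failure.not_smallDegree h𝓦 hne hsub hquot hfail S hg hgP hdeg
  intro K R hR
  obtain ⟨S⟩ := (inferInstance : Nonempty (Sylow p (↥K ⧸ R.subgroupOf K)))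
  refine Lib.ConjFunctor.WellPlaced.controlsTr_iff.2
    ⟨_, Lib.ConjFunctor.Basic.isSyl_top S, ?_⟩
  have h := htr _ (Lib.ConjFunctor.Section.isSection_quot K R) S
  rwa [Lib.ConjFunctor.Section.indSet, Set.image_singleton] at h

end Cfsg.Agent.S1972
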