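import Cfsg.Statements.S1985
import Cfsg.Agent.Lib.ConjFunctor.KControl
import Cfsg.Agent.S1973
-- import your own Cfsg.Agent.* helpers here

set_option autoImplicit false
universe u
open Cfsg

namespace Cfsg.Agent.S1985

/-- Let p be an odd prime and G a finite group. Then the lower K-infinity subgroup controls weak closure of elements in G: the lower K-infinity subgroup of every p-subgroup P of G contains Z(P), and for some (equivalently, every) Sylow p-subgroup S of G, with K the lower K-infinity subgroup of S, every element of S commuting with all of N_G(K) is weakly closed in S with respect to G (every G-conjugate of it lying in S equals it). -/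
theorem result {G : Type u} [Group G] [Finite G] {p : ℕ} [Fact p.Prime] (hp : p ≠ 2) : Cfsg.ControlsWeakClosureOfElementsIn p (Cfsg.inducedFunctor (G := G) Cfsg.kInfLower) ⊤ := by
  open Cfsg.Agent.Lib.ConjFunctor in
  have hW : Cfsg.IsCharPFunctor.{u} p @Cfsg.kInfLower := KFunctor.isCharP_lower
  refine Cfsg.Agent.S1973.result (Cfsg.inducedFunctor (G := G) Cfsg.kInfLower)
    (Lib.ConjFunctor.Section.isConjugacyFunctor_induced hW)
    (fun P _ => Lib.ConjFunctor.KFunctor.zc_le
      (fun Q _ => (Lib.ConjFunctor.KFunctor.center_le_kInf Q).1) P)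
    (fun H T h1 h2 h3 h4 => ?_) ⊤
  obtain ⟨g, hg, hgP, hq⟩ := Lib.ConjFunctor.KControl.exists_quadratic_local (p := p)
    (W := @Cfsg.kInfLower) (Or.inl rfl) (H := H) (T := T) ⟨h1, h2, h3⟩ h4
  refine ⟨g, hg, hgP, fun U V hUV hU => ?_⟩
  haveI := hUV.2.2.1
  have hgH : g ∈ H := h1 hg
  rw [show Subgroup.zpowers g = (Subgroup.zpowers (⟨g, hgH⟩ : H)).map H.subtype by
    rw [MonoidHom.map_zpowers]; rfl, ← Lib.ConjFunctor.Chief.map_iterCommutator]
  refine Subgroup.map_mono (Lib.ConjFunctor.KControl.iterCommutator_le_of_le (m := 2) ?_ ?_)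
  · refine (Subgroup.map_le_map_iff_of_injective H.subtype_injective).1 ?_
    rw [Lib.ConjFunctor.Chief.map_iterCommutator, MonoidHom.map_zpowers]
    refine le_trans ?_ (hq.le.trans bot_le)
    exact Subgroup.commutator_mono (Subgroup.commutator_mono hU le_rfl) le_rfl
  · have := (Fact.out : p.Prime).two_le
    omega

end Cfsg.Agent.S1985
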