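import Cfsg.Statements.S1989
import Cfsg.Agent.S2795
import Cfsg.Agent.Lib.ConjFunctor.KControl
import Cfsg.Agent.Lib.ConjFunctor.QdFusion
-- import your own Cfsg.Agent.* helpers here

set_option autoImplicit false
universe u
open Cfsg

namespace Cfsg.Agent.S1989

/-- Let p be an odd prime and G a finite group. Then Qd(p) (the natural semidirect product of an elementary abelian group of order p² by SL₂(p)) is not involved in G if and only if, in every section K/R of G and for every Sylow p-subgroup T of K/R, the lower K-infinity subgroup of T controls strong fusion in K/R. -/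
theorem result {G : Type u} [Group G] [Finite G] {p : ℕ} [Fact p.Prime] (hp : p ≠ 2) : ¬ Cfsg.Involves ↥(Cfsg.qd p) G ↔ ∀ (K R : Subgroup G) [hR : (R.subgroupOf K).Normal], ∀ T : Sylow p (↥K ⧸ R.subgroupOf K), Cfsg.ControlsStrongFusion p (Cfsg.inducedFunctor (G := (↥K ⧸ R.subgroupOf K)) Cfsg.kInfLower (T : Subgroup (↥K ⧸ R.subgroupOf K))) := by
  constructor
  · intro h K R hR T
    have hst : ∀ (K R : Subgroup G) [(R.subgroupOf K).Normal],
        Cfsg.IsNormalizerPStable p (↥K ⧸ R.subgroupOf K) := (Cfsg.Agent.S2795.result hp).1 h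
    exact Lib.ConjFunctor.KControl.controlsStrongFusion_of_sf
      Lib.ConjFunctor.KFunctor.isCharP_lower
      (Lib.ConjFunctor.KControl.sf_kInf (p := p) (W := @Cfsg.kInfLower) (Or.inl rfl) hst _
        (Lib.ConjFunctor.Section.isSection_quot K R)) T
  · rintro h ⟨K, R, hR, ⟨e⟩⟩
    obtain ⟨S, hS⟩ := Lib.ConjFunctor.QdFusion.not_controlsStrongFusion e
      (W := @Cfsg.kInfLower) Lib.ConjFunctor.KFunctor.isCharP_lower
    obtain ⟨T, -, hT⟩ := h K R S
    exact hS T hT

end Cfsg.Agent.S1989
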