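import Cfsg.Statements.S1992
import Cfsg.Agent.S1991
import Cfsg.Agent.Lib.Induced.Burnside
import Cfsg.Agent.Lib.ConjFunctor.Failure
-- import your own Cfsg.Agent.* helpers here

set_option autoImplicit false
open Cfsg

namespace Cfsg.Agent.S1992

/-- Let G be a finite group in which, for every prime q dividing the order of G, every Sylow q-subgroup is its own normalizer. Then the order of G is a power of a single prime (G is a q-group for some prime q; for G trivial any prime works). -/
theorem result {G : Type*} [Group G] [Finite G] (h : ∀ q : ℕ, q.Prime → q ∣ Nat.card G → ∀ Q : Sylow q G, Subgroup.normalizer ((Q : Subgroup G) : Set G) = Q) : ∃ q : ℕ, q.Prime ∧ IsPGroup q G := by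
  by_contra hcon
  push Not at hcon
  have hne : Nat.card G ≠ 1 := fun h1 => hcon 2 Nat.prime_two (IsPGroup.of_card (n := 0) (by simpa using h1))
  obtain ⟨N, p, hp, hNn, hNi⟩ : ∃ (N : Subgroup G) (p : ℕ), p.Prime ∧ N.Normal ∧ N.index = p := by
    by_cases h5 : ∃ p, p.Prime ∧ p ∣ Nat.card G ∧ 5 ≤ p
    · obtain ⟨p, hp, hpd, hp5⟩ := h5
      haveI := Fact.mk hp
      obtain ⟨S⟩ := (inferInstance : Nonempty (Sylow p G))
      refine (Cfsg.Agent.S1991.result hp5 S (S.ne_bot_of_dvd_card hpd) fun g hg hco => ?_).elim
        fun N hN => ⟨N, p, hp, hN⟩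
      rw [h p hp hpd S] at hg
      obtain ⟨k, hk⟩ := S.2 ⟨g, hg⟩
      have h1 : g ^ p ^ k = 1 := by simpa using congrArg Subtype.val hk
      have h2 : orderOf g = 1 := Nat.eq_one_of_dvd_coprimes (hco.pow_right k) dvd_rfl
        (orderOf_dvd_of_pow_eq_one h1)
      rw [orderOf_eq_one_iff.1 h2]
      exact one_mem _
    · push Not at h5
      have hfac : Nat.card G = 2 ^ (Nat.card G).factorization 2 * 3 ^ (Nat.card G).factorization 3 := by
        conv_lhs => rw [← Nat.prod_factorization_pow_eq_self (Nat.card_pos.ne' : Nat.card G ≠ 0)]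
        refine Finsupp.prod_of_support_subset _ (s := {2, 3}) ?_ _ (by simp) |>.trans (by simp)
        intro r hr
        rw [Nat.support_factorization] at hr
        have hr2 := Nat.prime_of_mem_primeFactors hr
        have := h5 r hr2 (Nat.dvd_of_mem_primeFactors hr)
        have := hr2.two_le
        simp only [Finset.mem_insert, Finset.mem_singleton]
        interval_cases r <;> simp_all (config := { decide := true })
      haveI : Group.IsSolvable G :=
        Lib.Induced.Burnside.isSolvable_of_card_eq 2 3 _ _ Nat.prime_two Nat.prime_three hfac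
      haveI : Nontrivial G := Finite.one_lt_card_iff_nontrivial.1 (by have := Nat.card_pos (α := G); omega)
      have hlt := Group.IsSolvable.commutator_lt_top_of_nontrivial G
      have hidx : (commutator G).index ≠ 1 := fun h1 => hlt.ne (Subgroup.index_eq_one.1 h1)
      obtain ⟨r, hr, hrd⟩ := Nat.exists_prime_and_dvd hidx
      haveI := Fact.mk hr
      obtain ⟨S⟩ := (inferInstance : Nonempty (Sylow r G))
      refine (Lib.ConjFunctor.Failure.exists_index_p S fun hle => ?_).elim fun N hN => ⟨N, r, hr, hN⟩
      rw [← commutator_def] at hle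
      exact S.not_dvd_index (hrd.trans (Subgroup.index_dvd_of_le hle))
  obtain ⟨q, hq, hqp, hqd⟩ : ∃ q, q.Prime ∧ q ≠ p ∧ q ∣ Nat.card G := by
    by_contra hall
    push Not at hall
    exact hcon p hp (IsPGroup.of_card (n := (Nat.card G).primeFactorsList.length)
      (Nat.eq_prime_pow_of_unique_prime_dvd Nat.card_pos.ne' fun {d} hd hdd => by
        by_contra hne
        exact hall d hd hne hdd))
  haveI := Fact.mk hq
  obtain ⟨Q⟩ := (inferInstance : Nonempty (Sylow q G))
  have hQN : (Q : Subgroup G) ≤ N := fun x hx => by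
    obtain ⟨k, hk⟩ := Q.2 ⟨x, hx⟩
    rw [← QuotientGroup.eq_one_iff, ← orderOf_eq_one_iff]
    refine Nat.eq_one_of_dvd_coprimes (a := q ^ k) (b := p)
      ((Nat.coprime_primes hq hp).2 hqp |>.pow_left k) ?_ ?_
    · refine orderOf_dvd_of_pow_eq_one ?_
      rw [← QuotientGroup.mk_pow, show x ^ q ^ k = 1 by simpa using congrArg Subtype.val hk,
        QuotientGroup.mk_one]
    · rw [← hNi, Subgroup.index_eq_card]
      exact orderOf_dvd_natCard _
  have htop := Sylow.normalizer_sup_eq_top' Q hQN
  rw [show Subgroup.normalizer (Q : Set G) = (Q : Subgroup G) from h q hq hqd Q,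
    sup_eq_right.2 hQN] at htop
  rw [htop, Subgroup.index_top] at hNi
  exact hp.one_lt.ne hNi

end Cfsg.Agent.S1992
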