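import Cfsg.Statements.S1996
import Cfsg.Agent.Lib.ConjFunctor.Main
-- import your own Cfsg.Agent.* helpers here

set_option autoImplicit false
universe u
open Cfsg

namespace Cfsg.Agent.S1996

/-- Let p be a prime, G a finite group and W₁, W₂ two isomorphism-invariant p-group functors (W assigns to every group Q a subgroup W(Q), nontrivial whenever Q is a nontrivial finite p-group, and every isomorphism from a finite p-group Q onto a group R carries W(Q) onto W(R)). Suppose that G* = N_{G*}(W₁(S*)) N_{G*}(W₂(S*)) whenever G* = K/R is a section of G with C_{G*}(O_p(G*)) ≤ O_p(G*) and S* is a Sylow p-subgroup of G*. Then the pair {W₁, W₂} controls strong fusion in G. -/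
theorem result {G : Type u} [Group G] [Finite G] {p : ℕ} [Fact p.Prime] (W₁ W₂ : ∀ (Q : Type u) [Group Q], Subgroup Q) (hW₁ : Cfsg.IsCharPFunctor.{u} p W₁) (hW₂ : Cfsg.IsCharPFunctor.{u} p W₂) (hfac : ∀ (K R : Subgroup G) [hR : (R.subgroupOf K).Normal], Subgroup.centralizer ((Cfsg.pCore p (↥K ⧸ R.subgroupOf K) : Subgroup (↥K ⧸ R.subgroupOf K)) : Set (↥K ⧸ R.subgroupOf K)) ≤ Cfsg.pCore p (↥K ⧸ R.subgroupOf K) → ∀ T : Sylow p (↥K ⧸ R.subgroupOf K), ∀ x : (↥K ⧸ R.subgroupOf K), ∃ a ∈ Subgroup.normalizer ((Cfsg.inducedFunctor (G := (↥K ⧸ R.subgroupOf K)) W₁ (T : Subgroup (↥K ⧸ R.subgroupOf K)) : Subgroup (↥K ⧸ R.subgroupOf K)) : Set (↥K ⧸ R.subgroupOf K)), ∃ b ∈ Subgroup.normalizer ((Cfsg.inducedFunctor (G := (↥K ⧸ R.subgroupOf K)) W₂ (T : Subgroup (↥K ⧸ R.subgroupOf K)) : Subgroup (↥K ⧸ R.subgroupOf K)) : Set (↥K ⧸ R.subgroupOf K)), x = a * b) : Cfsg.FamilyControlsStrongFusionIn p {Cfsg.inducedFunctor (G := G) W₁, Cfsg.inducedFunctor (G :=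 G) W₂} ⊤ := by
  open Cfsg.Agent.Lib.ConjFunctor in
  have h := (Section.sf_iff (𝓦 := ({W₁, W₂} : Set (∀ (Q : Type u) [Group Q], Subgroup Q)))
    (X := G) (p := p) (by rintro W (rfl | rfl) <;> assumption)).1 (Main.sf_of_loc
      (by rintro W (rfl | rfl) <;> assumption) (fun K R _ hc T => by
        have hc₁ := Section.isConjugacyFunctor_induced hW₁ (X := ↥K ⧸ R.subgroupOf K)
        have hc₂ := Section.isConjugacyFunctor_induced hW₂ (X := ↥K ⧸ R.subgroupOf K)
        refine Main.sfAt_of_mul T (Basic.le_normalizer_w hc₁ T.2) (Basic.le_normalizer_w hc₂ T.2)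
          (fun x hx => Local.mem_stepSet_nFam.2
            ⟨_, ⟨W₁, Set.mem_insert _ _, rfl⟩, trivial, hx⟩)
          (fun x hx => Local.mem_stepSet_nFam.2
            ⟨_, ⟨W₂, Set.mem_insert_of_mem _ rfl, rfl⟩, trivial, hx⟩) (hfac K R hc T))
      G (Section.IsSection.refl G))
  rwa [Lib.ConjFunctor.Section.indSet, Set.image_pair] at h

end Cfsg.Agent.S1996
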