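import Cfsg.Statements.S1997
import Cfsg.Agent.Lib.ConjFunctor.Main
import Cfsg.Agent.Lib.ConjFunctor.TripleFactor
-- import your own Cfsg.Agent.* helpers here

set_option autoImplicit false
universe u
open Cfsg

namespace Cfsg.Agent.S1997

/-- Let p be a prime, G a finite group with Sylow p-subgroup S, and W₁, W₂ two isomorphism-invariant p-group functors (W assigns to every group Q a subgroup W(Q), nontrivial whenever Q is a nontrivial finite p-group, and every isomorphism from a finite p-group Q onto a group R carries W(Q) onto W(R)). Suppose that G* = C_{G*}(Ω₁Z(S*)) N_{G*}(W₁(S*)) = C_{G*}(Ω₁Z(S*)) N_{G*}(W₂(S*)) = N_{G*}(W₁(S*)) N_{G*}(W₂(S*)) whenever G* = K/R is a section of G with C_{G*}(O_p(G*)) ≤ O_p(G*) and S* is a Sylow p-subgroup of G*, where Ω₁Z denotes the subgroup generated by the elements of order dividing p in the centre. Suppose also Ω₁Z(S) ≤ W₁(S) ∩ W₂(S), and let A be the normal closure of Ω₁Z(S) in N_G(W₁(S)).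 Then A is an elementary abelian subgroup of S, strongly closed in S with respect to G, and A controls strong fusion in G. -/
theorem result {G : Type u} [Group G] [Finite G] {p : ℕ} [Fact p.Prime] (S : Sylow p G) (W₁ W₂ : ∀ (Q : Type u) [Group Q], Subgroup Q) (hW₁ : Cfsg.IsCharPFunctor.{u} p W₁) (hW₂ : Cfsg.IsCharPFunctor.{u} p W₂) (hfac : ∀ (K R : Subgroup G) [hR : (R.subgroupOf K).Normal], Subgroup.centralizer ((Cfsg.pCore p (↥K ⧸ R.subgroupOf K) : Subgroup (↥K ⧸ R.subgroupOf K)) : Set (↥K ⧸ R.subgroupOf K)) ≤ Cfsg.pCore p (↥K ⧸ R.subgroupOf K) → ∀ T : Sylow p (↥K ⧸ R.subgroupOf K), (∀ x : (↥K ⧸ R.subgroupOf K), ∃ a ∈ Subgroup.centralizer ((Cfsg.omegaOne p ((T : Subgroup (↥K ⧸ R.subgroupOf K)) ⊓ Subgroup.centralizer (((T : Subgroup (↥K ⧸ R.subgroupOf K)) : Subgroup (↥K ⧸ R.subgroupOf K)) : Set (↥K ⧸ R.subgroupOf K))) : Subgroup (↥K ⧸ R.subgroupOf K)) : Set (↥K ⧸ R.subgroupOf K)), ∃ b ∈ Subgroup.normalizer ((Cfsg.inducedFunctor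 (G := (↥K ⧸ R.subgroupOf K)) W₁ (T : Subgroup (↥K ⧸ R.subgroupOf K)) : Subgroup (↥K ⧸ R.subgroupOf K)) : Set (↥K ⧸ R.subgroupOf K)), x = a * b) ∧ (∀ x : (↥K ⧸ R.subgroupOf K), ∃ a ∈ Subgroup.centralizer ((Cfsg.omegaOne p ((T : Subgroup (↥K ⧸ R.subgroupOf K)) ⊓ Subgroup.centralizer (((T : Subgroup (↥K ⧸ R.subgroupOf K)) : Subgroup (↥K ⧸ R.subgroupOf K)) : Set (↥K ⧸ R.subgroupOf K))) : Subgroup (↥K ⧸ R.subgroupOf K)) : Set (↥K ⧸ R.subgroupOf K)), ∃ b ∈ Subgroup.normalizer ((Cfsg.inducedFunctor (G := (↥K ⧸ R.subgroupOf K)) W₂ (T : Subgroup (↥K ⧸ R.subgroupOf K)) : Subgroup (↥K ⧸ R.subgroupOf K)) : Set (↥K ⧸ R.subgroupOf K)), x = a * b) ∧ (∀ x : (↥K ⧸ R.subgroupOf K), ∃ a ∈ Subgroup.normalizer ((Cfsg.inducedFunctor (G := (↥K ⧸ R.subgroupOf K)) W₁ (T : Subgroup (↥K ⧸ R.subgroupOf K)) : Subgroup (↥K ⧸ R.subgroupOf K)) : Set (↥K ⧸ R.subgroupOf K)), ∃ b ∈ Subgroup.normalizer ((Cfsg.inducedFunctor (G := (↥K ⧸ R.subgroupOf K)) W₂ (T :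 Subgroup (↥K ⧸ R.subgroupOf K)) : Subgroup (↥K ⧸ R.subgroupOf K)) : Set (↥K ⧸ R.subgroupOf K)), x = a * b)) (hZ : Cfsg.omegaOne p ((S : Subgroup G) ⊓ Subgroup.centralizer (((S : Subgroup G) : Subgroup G) : Set G)) ≤ Cfsg.inducedFunctor (G := G) W₁ (S : Subgroup G) ⊓ Cfsg.inducedFunctor (G := G) W₂ (S : Subgroup G)) (N₁ : Subgroup G) (hN₁ : N₁ = Subgroup.normalizer ((Cfsg.inducedFunctor (G := G) W₁ (S : Subgroup G) : Subgroup G) : Set G)) (A : Subgroup G) (hA : A = (Subgroup.normalClosure (((Cfsg.omegaOne p ((S : Subgroup G) ⊓ Subgroup.centralizer (((S : Subgroup G) : Subgroup G) : Set G))).subgroupOf N₁ : Subgroup ↥N₁) : Set ↥N₁)).map N₁.subtype) : A ≤ (S : Subgroup G) ∧ Cfsg.IsElementaryAbelian p A ∧ Cfsg.IsStronglyClosed A (S : Subgroup G) ∧ Cfsg.ControlsStrongFusion p A := by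
  open Cfsg.Agent.Lib.ConjFunctor Cfsg.Agent.Lib.ConjFunctor.TripleFactor Cfsg.Agent.Lib.Fusion.Alperin in
  have main : A ≤ (S : Subgroup G) ∧ IsElementaryAbelian p A ∧ IsStronglyClosed A (S : Subgroup G) ∧
      ControlsStrongFusion p A := by
    have hc₁ := Section.isConjugacyFunctor_induced hW₁ (X := G)
    have hc₂ := Section.isConjugacyFunctor_induced hW₂ (X := G)
    set Z := zO p (S : Subgroup G) with hZdef
    have hZ₁ : Z ≤ inducedFunctor W₁ (S : Subgroup G) := le_trans hZ inf_le_left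
    have hZ₂ : Z ≤ inducedFunctor W₂ (S : Subgroup G) := le_trans hZ inf_le_right
    have hAc : A = conjClosure Z N₁ := by
      rw [hA, Subgroup.normalClosure, MonoidHom.map_closure, conjClosure]
      congr 1
      ext y
      constructor
      · rintro ⟨x, hx, rfl⟩
        obtain ⟨a, ha, hax⟩ := Group.mem_conjugatesOfSet_iff.1 hx
        obtain ⟨c, rfl⟩ := isConj_iff.1 hax
        exact ⟨a, ha, c, c.2, by simp⟩
      · rintro ⟨z, hz, n, hn, rfl⟩
        have hzN : z ∈ N₁ := by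
          rw [hN₁]; exact Subgroup.le_normalizer (hZ₁ hz)
        exact ⟨⟨n, hn⟩ * ⟨z, hzN⟩ * ⟨n, hn⟩⁻¹, Group.mem_conjugatesOfSet_iff.2
          ⟨⟨z, hzN⟩, hz, isConj_iff.2 ⟨_, rfl⟩⟩, rfl⟩
    set N₂ := Subgroup.normalizer ((inducedFunctor W₂ (S : Subgroup G) : Subgroup G) : Set G)
      with hN₂
    have h12 : conjClosure Z N₁ ≤ conjClosure Z N₂ := by
      rw [conjClosure, Subgroup.closure_le]
      rintro _ ⟨z, hz, n, hn, rfl⟩
      rw [hN₁] at hn
      exact conj_mem hW₁ hW₂ (fun K R _ hc T x => (hfac K R hc T).2.1 x) G (Section.IsSection.refl G)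
        S hZ₁ hZ₂ n hn z hz
    have h21 : conjClosure Z N₂ ≤ conjClosure Z N₁ := by
      rw [conjClosure, Subgroup.closure_le]
      rintro _ ⟨z, hz, n, hn, rfl⟩
      rw [hN₁]
      exact conj_mem hW₂ hW₁ (fun K R _ hc T x => (hfac K R hc T).1 x) G (Section.IsSection.refl G)
        S hZ₂ hZ₁ n hn z hz
    have hAN₁ : N₁ ≤ Subgroup.normalizer (A : Set G) := by
      rw [hAc]; exact le_normalizer_conjClosure Z N₁
    have hAN₂ : N₂ ≤ Subgroup.normalizer (A : Set G) := by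
      rw [hAc, le_antisymm h12 h21]; exact le_normalizer_conjClosure Z N₂
    -- conjugates of `Z` under `N₁` lie in `S`
    have hgen : ∀ z ∈ Z, ∀ n ∈ N₁, n * z * n⁻¹ ∈ (S : Subgroup G) := by
      intro z hz n hn
      rw [hN₁] at hn
      exact Basic.w_le hc₁ S.2 ((Subgroup.mem_normalizer_iff.1 hn z).1 (hZ₁ hz))
    have hAS : A ≤ (S : Subgroup G) := by
      rw [hAc, conjClosure, Subgroup.closure_le]
      rintro _ ⟨z, hz, n, hn, rfl⟩
      exact hgen z hz n hn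
    have hcomm : A ≤ Subgroup.centralizer (A : Set G) := by
      rw [hAc, conjClosure, Subgroup.centralizer_closure, Subgroup.closure_le]
      rintro _ ⟨z, hz, n, hn, rfl⟩
      refine Subgroup.mem_centralizer_iff.2 ?_
      rintro _ ⟨w, hw, m, hm, rfl⟩
      have hc : z * (n⁻¹ * m * w * (n⁻¹ * m)⁻¹) = n⁻¹ * m * w * (n⁻¹ * m)⁻¹ * z :=
        (Subgroup.mem_centralizer_iff.1 (Subgroup.mem_inf.1 (zO_le _ hz)).2 _
          (hgen w hw _ (mul_mem (inv_mem hn) hm))).symm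
      calc m * w * m⁻¹ * (n * z * n⁻¹)
          = n * (n⁻¹ * m * w * (n⁻¹ * m)⁻¹ * z) * n⁻¹ := by group
        _ = n * (z * (n⁻¹ * m * w * (n⁻¹ * m)⁻¹)) * n⁻¹ := by rw [hc]
        _ = n * z * n⁻¹ * (m * w * m⁻¹) := by group
    have hcm : ∀ a ∈ A, ∀ b ∈ A, Commute a b := fun a ha b hb =>
      Subgroup.mem_centralizer_iff.1 (hcomm hb) a ha
    have hZp : ∀ z ∈ Z, z ^ p = 1 := by
      intro z hz
      have : z ∈ Subgroup.closure {x : G | x ∈ (S : Subgroup G) ⊓
          Subgroup.centralizer ((S : Subgroup G) : Set G) ∧ x ^ p = 1} := hz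
      induction this using Subgroup.closure_induction with
      | mem x hx => exact hx.2
      | one => exact one_pow p
      | mul a b ha hb iha ihb =>
        have hab : Commute a b := (Subgroup.mem_centralizer_iff.1
          (Subgroup.mem_inf.1 (zO_le (p := p) (S : Subgroup G) hb)).2 a
          (Subgroup.mem_inf.1 (zO_le (p := p) (S : Subgroup G) ha)).1)
        rw [hab.mul_pow, iha ha, ihb hb, one_mul]
      | inv a ha iha => rw [inv_pow, iha ha, inv_one]
    have hexp : ∀ a ∈ A, a ^ p = 1 := by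
      intro a ha
      have ha' : a ∈ Subgroup.closure {y | ∃ z ∈ Z, ∃ n ∈ N₁, n * z * n⁻¹ = y} := by
        rwa [hAc] at ha
      induction ha' using Subgroup.closure_induction with
      | mem x hx =>
        obtain ⟨z, hz, n, -, rfl⟩ := hx
        rw [conj_pow, hZp z hz, mul_one, mul_inv_cancel]
      | one => exact one_pow p
      | mul x y hx hy ihx ihy =>
        have hxA : x ∈ A := by rw [hAc]; exact hx
        have hyA : y ∈ A := by rw [hAc]; exact hy
        rw [(hcm x hxA y hyA).mul_pow, ihx hxA, ihy hyA, one_mul]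
      | inv x hx ihx =>
        have hxA : x ∈ A := by rw [hAc]; exact hx
        rw [inv_pow, ihx hxA, inv_one]
    have hsf : Section.SF ({W₁, W₂} : Set (∀ (Q : Type u) [Group Q], Subgroup Q)) p G :=
      Main.sf_of_loc (by rintro W (rfl | rfl) <;> assumption) (fun K R _ hc T => by
        have hc₁ := Section.isConjugacyFunctor_induced hW₁ (X := ↥K ⧸ R.subgroupOf K)
        have hc₂ := Section.isConjugacyFunctor_induced hW₂ (X := ↥K ⧸ R.subgroupOf K)
        refine Main.sfAt_of_mul T (Basic.le_normalizer_w hc₁ T.2) (Basic.le_normalizer_w hc₂ T.2)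
          (fun x hx => Local.mem_stepSet_nFam.2
            ⟨_, ⟨W₁, Set.mem_insert _ _, rfl⟩, trivial, hx⟩)
          (fun x hx => Local.mem_stepSet_nFam.2
            ⟨_, ⟨W₂, Set.mem_insert_of_mem _ rfl, rfl⟩, trivial, hx⟩) (hfac K R hc T).2.2)
        G (Section.IsSection.refl G)
    have hfus : ∀ (B : Set G) (g : G), B ⊆ (S : Subgroup G) → (fun a => g * a * g⁻¹) '' B ⊆ (S : Subgroup G) →
        ∃ x ∈ Subgroup.normalizer (A : Set G), ∀ b ∈ B, g * b * g⁻¹ = x * b * x⁻¹ := by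
      intro B g hB hgB
      obtain ⟨x, hx, hxe⟩ := (hsf S B g trivial hB hgB).collapse
        (N := Subgroup.normalizer (A : Set G)) (fun y hy => by
          obtain ⟨V, hV, hy'⟩ := Local.mem_stepSet_nFam.1 hy
          obtain ⟨W, hW, rfl⟩ := hV
          rcases hW with rfl | rfl
          · exact hAN₁ (hN₁ ▸ hy'.2)
          · exact hAN₂ hy'.2)
      exact ⟨x, hx, fun b hb => (hxe b hb).symm⟩
    refine ⟨hAS, ⟨⟨⟨fun a b => Subtype.ext (hcm a a.2 b b.2)⟩⟩, hexp⟩, ⟨hAS, fun x hx g hg => ?_⟩,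
      ⟨S, hAS, fun B hB => ⟨hB, fun g hg => hfus B g hB hg⟩⟩⟩
    obtain ⟨n, hn, hne⟩ := hfus {x} g (Set.singleton_subset_iff.2 (hAS hx)) (by
      rw [Set.image_singleton, Set.singleton_subset_iff]; exact hg)
    rw [hne x rfl]
    exact (Subgroup.mem_normalizer_iff.1 hn x).1 hx
  exact main

end Cfsg.Agent.S1997
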