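import Cfsg.Statements.S1998
import Cfsg.Agent.Lib.ConjFunctor.Failure
-- import your own Cfsg.Agent.* helpers here

set_option autoImplicit false
universe u
open Cfsg

namespace Cfsg.Agent.S1998

/-- Let p be a prime, G a finite group with Sylow p-subgroup S, and 𝓦 a nonempty set of isomorphism-invariant p-group functors (W assigns to every group Q a subgroup W(Q), nontrivial whenever Q is a nontrivial finite p-group, and every isomorphism from a finite p-group Q onto a group R carries W(Q) onto W(R)). Suppose the induced conjugacy functors control transfer in every section of G other than G itself, but not in G. Let T be the subgroup generated by the S ∩ (N_G(W(S)))', W ∈ 𝓦, and M = N_G(T ∩ O_p(G)). Then: C_G(O_p(G)) ≤ O_p(G); M is a proper subgroup of G containing every proper subgroup of G that contains S (the unique maximal subgroup over S); [O_p(G), M] ≤ O_p(G) ∩ M' ≤ O_p(G) ∩ T; and every element u of S outside O_p(G)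 satisfies [X, u, …, u] ≰ Y with p − 1 entries u, for some chief factor X/Y of G with X ≤ O_p(G). -/
theorem result {G : Type u} [Group G] [Finite G] {p : ℕ} [Fact p.Prime] (S : Sylow p G) (𝓦 : Set (∀ (Q : Type u) [Group Q], Subgroup Q)) (h𝓦 : ∀ W ∈ 𝓦, Cfsg.IsCharPFunctor.{u} p W) (hne : 𝓦.Nonempty) (hsec : ∀ (K R : Subgroup G) [hR : (R.subgroupOf K).Normal], (K = ⊤ → R ≠ ⊥) → Cfsg.FamilyControlsTransferIn p ((fun W => Cfsg.inducedFunctor (G := (↥K ⧸ R.subgroupOf K)) W) '' 𝓦) ⊤) (hG : ¬ Cfsg.FamilyControlsTransferIn p ((fun W => Cfsg.inducedFunctor (G := G) W) '' 𝓦) ⊤) (T M : Subgroup G) (hT : T = (⨆ W ∈ 𝓦, (S : Subgroup G) ⊓ ⁅Subgroup.normalizer ((Cfsg.inducedFunctor (G := G) W (S : Subgroup G) : Subgroup G) : Set G), Subgroup.normalizer ((Cfsg.inducedFunctor (G := G) W (S : Subgroup G) : Subgroup G) : Set G)⁆)) (hM : M = Subgroup.normalizer ((T ⊓ Cfsg.pCore p G : Subgroup G) : Set G)) : Subgroup.centralizer ((Cfsg.pCore p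 G : Subgroup G) : Set G) ≤ Cfsg.pCore p G ∧ (M ≠ ⊤ ∧ ∀ H : Subgroup G, (S : Subgroup G) ≤ H → H ≠ ⊤ → H ≤ M) ∧ (⁅Cfsg.pCore p G, M⁆ ≤ Cfsg.pCore p G ⊓ ⁅M, M⁆ ∧ Cfsg.pCore p G ⊓ ⁅M, M⁆ ≤ Cfsg.pCore p G ⊓ T) ∧ ∀ u : G, u ∈ (S : Subgroup G) → u ∉ Cfsg.pCore p G → ∃ U V : Subgroup G, Cfsg.IsChiefFactor U V ∧ U ≤ Cfsg.pCore p G ∧ ¬ Cfsg.iterCommutator U (Subgroup.zpowers u) (p - 1) ≤ V := by
  open Lib.ConjFunctor in
  have hsub : ∀ H : Subgroup G, H ≠ ⊤ → Section.Tr 𝓦 p H := fun H hH =>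
    Section.tr_congr h𝓦 (Failure.botQuotEquiv H)
      ((Section.tr_iff h𝓦).2 (hsec H ⊥ fun h => absurd h hH))
  open Lib.ConjFunctor in
  have hquot : ∀ (N : Subgroup G) [N.Normal], N ≠ ⊥ → Section.Tr 𝓦 p (G ⧸ N) := fun N _ hN =>
    Section.tr_congr h𝓦 (Failure.topQuotEquiv N) ((Section.tr_iff h𝓦).2 (hsec ⊤ N fun _ => hN))
  open Lib.ConjFunctor in
  have hfail : ¬ Section.Tr 𝓦 p G := fun h => hG ((Section.tr_iff h𝓦).1 h)
  have hTeq : T = Lib.ConjFunctor.Reach.trGen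
      (Lib.ConjFunctor.Local.nFam (Lib.ConjFunctor.Section.indSet 𝓦 G)) ⊤ (S : Subgroup G) := by
    rw [hT, Lib.ConjFunctor.Local.trGen_nFam, Lib.ConjFunctor.Section.indSet, iSup_image]
    simp only [top_inf_eq]
  subst hTeq
  open Lib.ConjFunctor in
  have hover : ∀ H : Subgroup G, (S : Subgroup G) ≤ H → H ≠ ⊤ → H ≤ M := fun H hSH hH =>
    hM ▸ Failure.le_normalizer_of_ne_top h𝓦 hne hsub hfail S hH hSH
  open Lib.ConjFunctor in
  have hMne : M ≠ ⊤ := hM ▸ Failure.normalizer_ne_top h𝓦 hne hsub hquot hfail S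
  open Lib.ConjFunctor in
  have hSM : (S : Subgroup G) ≤ M := hover _ le_rfl (Failure.sylow_ne_top h𝓦 hne hsub hfail S)
  refine ⟨Lib.ConjFunctor.Failure.constrained h𝓦 hsub hquot hfail, ⟨hMne, hover⟩, ⟨le_inf ?_ ?_, ?_⟩, ?_⟩
  · exact (Subgroup.commutator_mono le_rfl le_top).trans (Subgroup.commutator_le_left _ _)
  · exact Subgroup.commutator_mono ((Lib.Cores.pCore_le_sylow S).trans hSM) le_rfl
  · exact le_inf inf_le_left ((inf_le_inf_right _ (Lib.Cores.pCore_le_sylow S)).trans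
      (Lib.ConjFunctor.Failure.inf_commutator_le_of_ne_top h𝓦 hsub S hMne hSM))
  · intro u hu huP
    by_contra hcon
    refine Lib.ConjFunctor.Failure.not_smallDegree h𝓦 hne hsub hquot hfail S hu huP
      fun U V hUV hUP => ?_
    by_contra hle
    exact hcon ⟨U, V, hUV, hUP, hle⟩

end Cfsg.Agent.S1998
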