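import Cfsg.Statements.S2001
import Cfsg.Agent.Lib.ConjFunctor.LocalInst
-- import your own Cfsg.Agent.* helpers here

set_option autoImplicit false
open Cfsg

namespace Cfsg.Agent.S2001

/-- Let p be a prime dividing the order of the finite group G, P a Sylow p-subgroup, W a conjugacy functor for p on G with Z(H) ≤ W(H) for every nontrivial p-subgroup H, and V a central functor: a conjugacy functor with V(H) ≤ Z(H), and V(H) ≤ V(K) whenever Z(H) ≤ Z(K), for nontrivial p-subgroups H, K. Say that W with V controls transfer in a subgroup L when some Sylow p-subgroup Q of L satisfies Q ∩ L' = (Q ∩ (N_L(W(Q)))')·(Q ∩ (C_L(V(Q)))') as a product of two subgroups. If W with V controls transfer in N_G(H) for every subgroup H with Z(P) ≤ H ≤ P, then W with V controls transfer in G. -/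
theorem result {G : Type*} [Group G] [Finite G] {p : ℕ} [Fact p.Prime] (hdiv : p ∣ Nat.card G) (P : Sylow p G) (W V : Subgroup G → Subgroup G) (hW : Cfsg.IsConjugacyFunctor p W) (hV : Cfsg.IsConjugacyFunctor p V) (hWZ : ∀ H : Subgroup G, IsPGroup p ↥H → H ⊓ Subgroup.centralizer ((H : Subgroup G) : Set G) ≤ W H) (hVZ : ∀ H : Subgroup G, IsPGroup p ↥H → V H ≤ H ⊓ Subgroup.centralizer ((H : Subgroup G) : Set G)) (hVmono : ∀ H K : Subgroup G, IsPGroup p ↥H → IsPGroup p ↥K → H ≠ ⊥ → K ≠ ⊥ → H ⊓ Subgroup.centralizer ((H : Subgroup G) : Set G) ≤ K ⊓ Subgroup.centralizer ((K : Subgroup G) : Set G) → V H ≤ V K) (hloc : ∀ H : Subgroup G, (P : Subgroup G) ⊓ Subgroup.centralizer (((P : Subgroup G) : Subgroup G) : Set G) ≤ H → H ≤ (P : Subgroup G) → ∃ Q : Subgroup G, Q ≤ Subgroup.normalizer ((H : Subgroup G) : Set G) ∧ IsPGroup p ↥Q ∧ ¬ p ∣ (Q).relIndex (Subgroup.normalizer ((H : Subgroup G) : Set G)) ∧ ∀ x : G, x ∈ Q ⊓ ⁅Subgroup.normalizer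 ((H : Subgroup G) : Set G), Subgroup.normalizer ((H : Subgroup G) : Set G)⁆ ↔ ∃ a ∈ Q ⊓ ⁅Subgroup.normalizer ((H : Subgroup G) : Set G) ⊓ Subgroup.normalizer ((W Q : Subgroup G) : Set G), Subgroup.normalizer ((H : Subgroup G) : Set G) ⊓ Subgroup.normalizer ((W Q : Subgroup G) : Set G)⁆, ∃ b ∈ Q ⊓ ⁅Subgroup.normalizer ((H : Subgroup G) : Set G) ⊓ Subgroup.centralizer ((V Q : Subgroup G) : Set G), Subgroup.normalizer ((H : Subgroup G) : Set G) ⊓ Subgroup.centralizer ((V Q : Subgroup G) : Set G)⁆, x = a * b) : ∃ Q : Subgroup G, IsPGroup p ↥Q ∧ ¬ p ∣ Q.index ∧ ∀ x : G, x ∈ Q ⊓ commutator G ↔ ∃ a ∈ Q ⊓ ⁅Subgroup.normalizer ((W Q : Subgroup G) : Set G), Subgroup.normalizer ((W Q : Subgroup G) : Set G)⁆, ∃ b ∈ Q ⊓ ⁅Subgroup.centralizer ((V Q : Subgroup G) : Set G), Subgroup.centralizer ((V Q : Subgroup G) : Set G)⁆, x = a * b := by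
  open Cfsg.Agent.Lib.ConjFunctor Basic Reach Local LocalInst in
  have hS : (P : Subgroup G) ≠ ⊥ := P.ne_bot_of_dvd_card hdiv
  open Cfsg.Agent.Lib.ConjFunctor Basic Reach Local LocalInst in
  have key : TrAt (pairFam W V) ⊤ (P : Subgroup G) := by
    refine trAt_top P (ambient_pair P hS hW hV hWZ hVmono) fun T hT hA _ => ?_
    obtain ⟨Q, hQ, hQp, hQn, h⟩ := hloc T hA.le hT
    refine ⟨Q, ⟨hQ, hQp, hQn⟩, trAt_of_le fun x hx => ?_⟩
    obtain ⟨a, ha, b, hb, rfl⟩ := (h x).1 hx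
    have h1 : nF W ∈ pairFam W V := Set.mem_insert _ _
    have h2 : (fun R => Subgroup.centralizer (V R : Set G)) ∈ pairFam W V :=
      Set.mem_insert_of_mem _ rfl
    exact mul_mem (le_trGen h1 ha) (le_trGen h2 hb)
  refine ⟨P, P.2, P.not_dvd_index, fun x => ⟨fun hx => ?_, ?_⟩⟩
  · open Cfsg.Agent.Lib.ConjFunctor Basic Reach Local LocalInst in
    have hx' : x ∈ trGen (pairFam W V) ⊤ (P : Subgroup G) := by
      rw [← key, ← commutator_def]; exact hx
    rw [Cfsg.Agent.Lib.ConjFunctor.Reach.trGen, Cfsg.Agent.Lib.ConjFunctor.LocalInst.pairFam,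
      iSup_pair] at hx'
    simp only [Cfsg.Agent.Lib.ConjFunctor.Local.nF, top_inf_eq] at hx'
    rw [← SetLike.mem_coe, Subgroup.coe_mul_of_right_le_normalizer_left] at hx'
    · obtain ⟨a, ha, b, hb, rfl⟩ := hx'
      exact ⟨a, ha, b, hb, rfl⟩
    · intro z hz
      have hPW : (P : Subgroup G) ≤ Subgroup.normalizer (W P : Set G) :=
        Cfsg.Agent.Lib.ConjFunctor.Basic.le_normalizer_w hW P.2
      have hzP : z ∈ (P : Subgroup G) := hz.1
      apply Cfsg.Agent.Lib.Fusion.Alperin.mem_normalizer_of_conjS_eq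
      rw [Cfsg.Agent.Lib.ConjFunctor.Basic.conjS_inf,
        Cfsg.Agent.Lib.ConjFunctor.Basic.conjS_commutator,
        Cfsg.Agent.Lib.Fusion.Alperin.conjS_eq_of_mem_normalizer (Subgroup.le_normalizer hzP),
        Cfsg.Agent.Lib.Fusion.Alperin.conjS_eq_of_mem_normalizer
          (Subgroup.le_normalizer (hPW hzP))]
  · rintro ⟨a, ha, b, hb, rfl⟩
    refine Subgroup.mem_inf.2 ⟨mul_mem ha.1 hb.1, ?_⟩
    rw [commutator_def]
    exact mul_mem (Subgroup.commutator_mono le_top le_top ha.2)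
      (Subgroup.commutator_mono le_top le_top hb.2)

end Cfsg.Agent.S2001
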