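import Cfsg.Statements.S2002
import Cfsg.Agent.Lib.ConjFunctor.LocalInst
-- import your own Cfsg.Agent.* helpers here

set_option autoImplicit false
open Cfsg

namespace Cfsg.Agent.S2002

open Cfsg.Agent.Lib.ConjFunctor.Basic Cfsg.Agent.Lib.ConjFunctor.Reach
  Cfsg.Agent.Lib.ConjFunctor.Local Cfsg.Agent.Lib.ConjFunctor.LocalInst

section Helpers

variable {G : Type*} [Group G]

theorem take_prod_succ {n : ℕ} (b : Fin n → G) (i : Fin n) :
    ((List.ofFn b).take (i.val + 1)).prod = ((List.ofFn b).take i.val).prod * b i := by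
  rw [List.prod_take_succ _ _ (by simp)]
  simp

theorem chain_of_prod {Y : Set G} {Q : Subgroup G} {X : Set G} {n : ℕ} (b : Fin n → G)
    (hb : ∀ i, (b i)⁻¹ ∈ Y)
    (himg : ∀ k ≤ n, cimg (((List.ofFn b).take k).prod)⁻¹ X ⊆ Q) :
    Chain Y Q X ((List.ofFn b).prod)⁻¹ := by
  refine Chain.of_seq (fun k : Fin (n + 1) => (((List.ofFn b).take k.val).prod)⁻¹) (by simp)
    (fun i => ?_) (fun k => himg k (Nat.lt_succ_iff.1 k.2)) (fun a _ => ?_)
  · simp only [Fin.val_succ, Fin.val_castSucc, take_prod_succ, inv_inv, mul_inv_rev]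
    simpa using hb i
  · rw [Fin.val_last, List.take_of_length_le (by simp)]

theorem prod_of_seq {n : ℕ} (s : Fin (n + 1) → G) (h0 : s 0 = 1) :
    ∀ k (hk : k ≤ n), ((List.ofFn fun i : Fin n => s i.castSucc * (s i.succ)⁻¹).take k).prod =
      (s ⟨k, Nat.lt_succ_of_le hk⟩)⁻¹ := by
  intro k
  induction k with
  | zero => intro _; simp [h0]
  | succ k ih =>
    intro hk
    rw [take_prod_succ (fun i : Fin n => s i.castSucc * (s i.succ)⁻¹) ⟨k, hk⟩, ih (by omega),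
      show (Fin.castSucc (⟨k, hk⟩ : Fin n)) = ⟨k, Nat.lt_succ_of_le (by omega : k ≤ n)⟩ from rfl,
      inv_mul_cancel_left]
    rfl

variable [Finite G] {p : ℕ} [Fact p.Prime]

theorem main (hdiv : p ∣ Nat.card G) (P : Sylow p G) (W V : Subgroup G → Subgroup G)
    (hW : Cfsg.IsConjugacyFunctor p W) (hV : Cfsg.IsConjugacyFunctor p V)
    (hWZ : ∀ H : Subgroup G, IsPGroup p ↥H → zOf H ≤ W H)
    (hVmono : ∀ H K : Subgroup G, IsPGroup p ↥H → IsPGroup p ↥K → H ≠ ⊥ → K ≠ ⊥ →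
      zOf H ≤ zOf K → V H ≤ V K)
    (hloc : ∀ H : Subgroup G, zOf (P : Subgroup G) ≤ H → H ≤ (P : Subgroup G) → ∃ Q : Subgroup G,
      Q ≤ Subgroup.normalizer ((H : Subgroup G) : Set G) ∧ IsPGroup p ↥Q ∧
      ¬ p ∣ (Q).relIndex (Subgroup.normalizer ((H : Subgroup G) : Set G)) ∧
      ∀ (X : Set G) (a : G), X ⊆ Q → a ∈ Subgroup.normalizer ((H : Subgroup G) : Set G) →
        (fun x => a⁻¹ * x * a) '' X ⊆ Q →
        ∃ c ∈ Subgroup.normalizer ((H : Subgroup G) : Set G) ⊓ Subgroup.centralizer X,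
        ∃ (n : ℕ) (b : Fin n → G),
          (∀ i, b i ∈ Subgroup.normalizer ((H : Subgroup G) : Set G) ⊓
              Subgroup.normalizer ((W Q : Subgroup G) : Set G) ∨
            b i ∈ Subgroup.normalizer ((H : Subgroup G) : Set G) ⊓
              Subgroup.centralizer ((V Q : Subgroup G) : Set G)) ∧
          a = c * (List.ofFn b).prod ∧
          ∀ k : ℕ, k ≤ n → (fun x => (((List.ofFn b).take k).prod)⁻¹ * x *
            ((List.ofFn b).take k).prod) '' ((fun x => c⁻¹ * x * c) '' X) ⊆ Q) :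
    ∃ Q : Subgroup G, IsPGroup p ↥Q ∧ ¬ p ∣ Q.index ∧ ∀ (X : Set G) (a : G), X ⊆ Q →
      (fun x => a⁻¹ * x * a) '' X ⊆ Q → ∃ c ∈ Subgroup.centralizer X,
      ∃ (n : ℕ) (b : Fin n → G), (∀ i, b i ∈ ⊤ ⊓ Subgroup.normalizer ((W Q : Subgroup G) : Set G) ∨
          b i ∈ ⊤ ⊓ Subgroup.centralizer ((V Q : Subgroup G) : Set G)) ∧
        a = c * (List.ofFn b).prod ∧
        ∀ k : ℕ, k ≤ n → (fun x => (((List.ofFn b).take k).prod)⁻¹ * x *
          ((List.ofFn b).take k).prod) '' ((fun x => c⁻¹ * x * c) '' X) ⊆ Q := by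
  have hS : (P : Subgroup G) ≠ ⊥ := P.ne_bot_of_dvd_card hdiv
  have hfix : ∀ (X : Set G) (c : G), c ∈ Subgroup.centralizer X →
      (fun x => c⁻¹ * x * c) '' X = X := fun X c hc => by
    refine Eq.trans (Set.image_congr fun x hx => ?_) (Set.image_id X)
    rw [mul_assoc, Subgroup.mem_centralizer_iff.1 hc x hx, inv_mul_cancel_left]
    rfl
  have key : SFAt (pairFam W V) ⊤ (P : Subgroup G) := by
    refine sfAt_top P (ambient_pair P hS hW hV hWZ hVmono) fun T hT hA _ => ?_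
    obtain ⟨Q, hQ, hQp, hQn, h⟩ := hloc T hA.le hT
    refine ⟨Q, ⟨hQ, hQp, hQn⟩, fun X h' hh hX hXh => ?_⟩
    obtain ⟨c, hc, n, b, hb, he, hk⟩ := h X h'⁻¹ hX (inv_mem hh) (by
      simpa [inv_inv, cimg] using hXh)
    have hY : ∀ i, (b i)⁻¹ ∈ stepSet (pairFam W V) (Subgroup.normalizer (T : Set G)) Q := by
      intro i
      rcases hb i with hi | hi
      · exact ⟨inv_mem hi.1, _, Set.mem_insert _ _, inv_mem hi.2⟩
      · exact ⟨inv_mem hi.1, _, Set.mem_insert_of_mem _ rfl, inv_mem hi.2⟩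
    refine (chain_of_prod (X := X) b hY fun k hk' => ?_).congr fun x hx => ?_
    · have := hk k hk'
      rw [hfix X c hc.2] at this
      simpa [cimg, inv_inv] using this
    · have hcx := Subgroup.mem_centralizer_iff.1 (inv_mem hc.2) x hx
      have hh' : h' = ((List.ofFn b).prod)⁻¹ * c⁻¹ := by
        rw [← mul_inv_rev, ← he, inv_inv]
      rw [hh', mul_assoc (((List.ofFn b).prod)⁻¹) c⁻¹ x, ← hcx]
      group
  refine ⟨P, P.2, P.not_dvd_index, fun X a hX ha => ?_⟩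
  obtain ⟨n, s, h0, hs, himg, hlast⟩ :=
    (key X a⁻¹ trivial hX (by simpa [cimg, inv_inv] using ha)).exists_seq
  have hc : a * s (Fin.last n) ∈ Subgroup.centralizer X := by
    rw [Subgroup.mem_centralizer_iff]
    intro x hx
    have e := hlast x hx
    rw [inv_inv] at e
    calc x * (a * s (Fin.last n)) = a * (a⁻¹ * x * a) * s (Fin.last n) := by group
      _ = a * (s (Fin.last n) * x * (s (Fin.last n))⁻¹) * s (Fin.last n) := by rw [e]
      _ = a * s (Fin.last n) * x := by group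
  refine ⟨a * s (Fin.last n), hc, n, fun i => s i.castSucc * (s i.succ)⁻¹, fun i => ?_, ?_,
    fun k hk => ?_⟩
  · obtain ⟨-, F, hF, hx⟩ := hs i
    have hx' := inv_mem hx
    rw [mul_inv_rev, inv_inv] at hx'
    rcases hF with rfl | rfl
    · exact Or.inl ⟨trivial, hx'⟩
    · exact Or.inr ⟨trivial, hx'⟩
  · have := prod_of_seq s h0 n le_rfl
    rw [List.take_of_length_le (by simp)] at this
    rw [this]
    simp [Fin.last]
  · rw [hfix X _ hc, prod_of_seq s h0 k hk]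
    simpa [cimg] using himg ⟨k, Nat.lt_succ_of_le hk⟩

end Helpers

/-- Let p be a prime dividing the order of the finite group G, P a Sylow p-subgroup, W a conjugacy functor for p on G with Z(H) ≤ W(H) for every nontrivial p-subgroup H, and V a central functor (a conjugacy functor with V(H) ≤ Z(H), and V(H) ≤ V(K) whenever Z(H) ≤ Z(K)). Say that W with V controls strong fusion in a subgroup L when some Sylow p-subgroup Q of L has the property: whenever X ⊆ Q and a ∈ L with a⁻¹Xa ⊆ Q, then a = c b with c ∈ C_L(X) and b = b₁ ⋯ bₙ a product of elements each in N_L(W(Q)) or in C_L(V(Q)) such that every partial conjugate (b₁ ⋯ bₖ)⁻¹ X (b₁ ⋯ bₖ) lies in Q. If W with V controls strong fusion in N_G(H) for every subgroup H with Z(P) ≤ H ≤ P, then W with V controls strong fusion in G. -/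
theorem result {G : Type*} [Group G] [Finite G] {p : ℕ} [Fact p.Prime] (hdiv : p ∣ Nat.card G) (P : Sylow p G) (W V : Subgroup G → Subgroup G) (hW : Cfsg.IsConjugacyFunctor p W) (hV : Cfsg.IsConjugacyFunctor p V) (hWZ : ∀ H : Subgroup G, IsPGroup p ↥H → H ⊓ Subgroup.centralizer ((H : Subgroup G) : Set G) ≤ W H) (hVZ : ∀ H : Subgroup G, IsPGroup p ↥H → V H ≤ H ⊓ Subgroup.centralizer ((H : Subgroup G) : Set G)) (hVmono : ∀ H K : Subgroup G, IsPGroup p ↥H → IsPGroup p ↥K → H ≠ ⊥ → K ≠ ⊥ → H ⊓ Subgroup.centralizer ((H : Subgroup G) : Set G) ≤ K ⊓ Subgroup.centralizer ((K : Subgroup G) : Set G) → V H ≤ V K) (hloc : ∀ H : Subgroup G, (P : Subgroup G) ⊓ Subgroup.centralizer (((P : Subgroup G) : Subgroup G) : Set G) ≤ H → H ≤ (P : Subgroup G) → ∃ Q : Subgroup G, Q ≤ Subgroup.normalizer ((H : Subgroup G) : Set G) ∧ IsPGroup p ↥Q ∧ ¬ p ∣ (Q).relIndex (Subgroup.normalizer ((H : Subgroup G) : Set G)) ∧ ∀ (X : Set G) (a : G), X ⊆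 Q → a ∈ Subgroup.normalizer ((H : Subgroup G) : Set G) → (fun x => a⁻¹ * x * a) '' X ⊆ Q → ∃ c ∈ Subgroup.normalizer ((H : Subgroup G) : Set G) ⊓ Subgroup.centralizer X, ∃ (n : ℕ) (b : Fin n → G), (∀ i, b i ∈ Subgroup.normalizer ((H : Subgroup G) : Set G) ⊓ Subgroup.normalizer ((W Q : Subgroup G) : Set G) ∨ b i ∈ Subgroup.normalizer ((H : Subgroup G) : Set G) ⊓ Subgroup.centralizer ((V Q : Subgroup G) : Set G)) ∧ a = c * (List.ofFn b).prod ∧ ∀ k : ℕ, k ≤ n → (fun x => (((List.ofFn b).take k).prod)⁻¹ * x * ((List.ofFn b).take k).prod) '' ((fun x => c⁻¹ * x * c) '' X) ⊆ Q) : ∃ Q : Subgroup G, IsPGroup p ↥Q ∧ ¬ p ∣ Q.index ∧ ∀ (X : Set G) (a : G), X ⊆ Q → (fun x => a⁻¹ * x * a) '' X ⊆ Q → ∃ c ∈ Subgroup.centralizer X, ∃ (n : ℕ) (b : Fin n → G), (∀ i, b i ∈ ⊤ ⊓ Subgroup.normalizer ((W Q : Subgroup G) : Set G) ∨ b i ∈ ⊤ ⊓ Subgroup.centralizer ((V Q : Subgroup G) : Set G)) ∧ a = c * (List.ofFn b).prod ∧ ∀ k : ℕ, k ≤ n → (fun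 x => (((List.ofFn b).take k).prod)⁻¹ * x * ((List.ofFn b).take k).prod) '' ((fun x => c⁻¹ * x * c) '' X) ⊆ Q := by
  exact main hdiv P W V hW hV hWZ hVmono hloc

end Cfsg.Agent.S2002
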