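import Cfsg.Statements.S2007
import Cfsg.Agent.Lib.Transfer.Frobenius
-- import your own Cfsg.Agent.* helpers here

set_option autoImplicit false
open Cfsg

namespace Cfsg.Agent.S2007

/-- Let p be a prime, G a finite group with Sylow p-subgroup S, and T a normal subgroup of S containing C_S(T). If N_G(T)/C_G(T) is a p-group (every element of N_G(T) of order prime to p centralizes T), then N_G(T) has a normal p-complement. -/
theorem result {G : Type*} [Group G] [Finite G] {p : ℕ} [Fact p.Prime] (S : Sylow p G) (T : Subgroup G) (hTS : T ≤ (S : Subgroup G)) (hTn : (S : Subgroup G) ≤ Subgroup.normalizer ((T : Subgroup G) : Set G)) (hC : (S : Subgroup G) ⊓ Subgroup.centralizer ((T : Subgroup G) : Set G) ≤ T) (hN : ∀ g ∈ Subgroup.normalizer ((T : Subgroup G) : Set G), (orderOf g).Coprime p → g ∈ Subgroup.centralizer ((T : Subgroup G) : Set G)) : Cfsg.HasNormalPComplement p ↥(Subgroup.normalizer ((T : Subgroup G) : Set G)) := by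
  set N := Subgroup.normalizer ((T : Subgroup G) : Set G) with hNdef
  refine Cfsg.Agent.Lib.Transfer.Frobenius.hasNormalPComplement_of_forall_centralizes ?_
  intro Q hQ _ g hg hgp
  rw [Subgroup.mem_centralizer_iff]
  intro q hq
  have hgC : (g : G) ∈ Subgroup.centralizer (T : Set G) :=
    hN g g.2 (by rwa [Subgroup.orderOf_coe])
  set t : N := g * q * g⁻¹ * q⁻¹ with ht
  have htQ : t ∈ Q := mul_mem ((Subgroup.mem_normalizer_iff.1 hg q).1 hq) (inv_mem hq)
  have hnorm : ∀ n : N, ∀ y ∈ Subgroup.centralizer (T : Set G),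
      (n : G) * y * (n : G)⁻¹ ∈ Subgroup.centralizer (T : Set G) := by
    intro n y hy
    rw [Subgroup.mem_centralizer_iff] at hy ⊢
    intro s hs
    have h1 := hy _ ((Subgroup.mem_normalizer_iff''.1 n.2 s).1 hs)
    calc s * ((n : G) * y * (n : G)⁻¹) = (n : G) * ((n : G)⁻¹ * s * n * y) * (n : G)⁻¹ := by group
      _ = (n : G) * (y * ((n : G)⁻¹ * s * n)) * (n : G)⁻¹ := by rw [h1]
      _ = (n : G) * y * (n : G)⁻¹ * s := by group
  have htC : (t : G) ∈ Subgroup.centralizer (T : Set G) := by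
    have h1 := mul_mem hgC (hnorm q _ (inv_mem hgC))
    rw [ht]
    simpa [mul_assoc] using h1
  obtain ⟨U, hU⟩ := (hQ.to_le (Subgroup.zpowers_le.2 htQ)).exists_le_sylow
  obtain ⟨n, hn⟩ := MulAction.exists_smul_eq N U (S.subtype hTn)
  have htS : (n : G) * t * (n : G)⁻¹ ∈ (S : Subgroup G) := by
    have h2 := Subgroup.smul_mem_pointwise_smul _ (MulAut.conj n) _ (hU (Subgroup.mem_zpowers t))
    rw [← Sylow.coe_subgroup_smul, hn] at h2
    exact h2
  have htT : (t : G) ∈ T :=
    (Subgroup.mem_normalizer_iff.1 n.2 (t : G)).2 (hC ⟨htS, hnorm n t htC⟩)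
  have hgt : Commute g t := by
    refine Subtype.ext ?_
    exact (Subgroup.mem_centralizer_iff.1 hgC _ htT).symm
  have hpow : ∀ k : ℕ, g ^ k * q = t ^ k * q * g ^ k := by
    intro k
    induction k with
    | zero => simp
    | succ k ih =>
      calc g ^ (k + 1) * q = g * (g ^ k * q) := by rw [pow_succ', mul_assoc]
        _ = g * t ^ k * q * g ^ k := by rw [ih]; group
        _ = t ^ k * (g * q) * g ^ k := by rw [(hgt.pow_right k).eq]; group
        _ = t ^ k * (t * q * g) * g ^ k := by rw [ht]; group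
        _ = t ^ (k + 1) * q * g ^ (k + 1) := by rw [pow_succ t, pow_succ' g]; group
  have h1 := hpow (orderOf g)
  rw [pow_orderOf_eq_one, one_mul, mul_one] at h1
  have h2 : t ^ orderOf g = 1 := mul_eq_right.1 h1.symm
  obtain ⟨i, hi⟩ := hQ ⟨t, htQ⟩
  have hi' : t ^ p ^ i = 1 := by simpa using congrArg Subtype.val hi
  have h3 : t = 1 := by
    have := pow_gcd_eq_one.2 ⟨h2, hi'⟩
    rwa [show (orderOf g).gcd (p ^ i) = 1 from Nat.Coprime.pow_right i hgp, pow_one] at this
  rw [ht, mul_inv_eq_one, mul_inv_eq_iff_eq_mul] at h3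
  exact h3.symm

end Cfsg.Agent.S2007
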