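import Cfsg.Statements.S2009
-- import your own Cfsg.Agent.* helpers here

set_option autoImplicit false
open Cfsg

namespace Cfsg.Agent.S2009

theorem eq_bot_aux {H : Type*} [Group H] [Finite H] (z : H) (hz : orderOf z = 2)
    (hN : ∀ N : Subgroup H, N.Normal → N ≠ ⊤ → N ⊓ Subgroup.centralizer ({z} : Set H) = ⊥)
    (E : Subgroup H) (hE : IsKleinFour ↥E) (hzE : z ∈ E) (hc : ∀ e ∈ E, e ≠ 1 → IsConj z e)
    (N : Subgroup H) (hn : N.Normal) (hne : N ≠ ⊤) : N = ⊥ := by
  have hfix : ∀ e, IsConj z e → ∀ n ∈ N, e * n = n * e → n = 1 := by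
    intro e he n hnN hcomm
    obtain ⟨g, hg⟩ := isConj_iff.1 he
    have h1 : g⁻¹ * n * g ∈ N ⊓ Subgroup.centralizer ({z} : Set H) := by
      refine ⟨by simpa using hn.conj_mem n hnN g⁻¹, Subgroup.mem_centralizer_singleton_iff.2 ?_⟩
      subst hg
      have := congrArg (fun t => g⁻¹ * t * g) hcomm
      simpa [mul_assoc] using this.symm
    rw [hN N hn hne, Subgroup.mem_bot] at h1
    simpa [mul_assoc] using congrArg (fun t => g * t * g⁻¹) h1
  have hinv : ∀ e, IsConj z e → ∀ n ∈ N, e * n * e⁻¹ = n⁻¹ := by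
    intro e he n hnN
    have he2 : e * e = 1 := by
      obtain ⟨g, hg⟩ := isConj_iff.1 he
      have hz2 : z * z = 1 := by rw [← pow_two, ← hz, pow_orderOf_eq_one]
      subst hg
      simp [mul_assoc, ← mul_assoc z, hz2]
    let f : N → N := fun m => ⟨(m : H)⁻¹ * (e * m * e⁻¹),
      mul_mem (inv_mem m.2) (hn.conj_mem _ m.2 e)⟩
    have finj : Function.Injective f := by
      intro a b hab
      have h1 : (a : H)⁻¹ * (e * a * e⁻¹) = (b : H)⁻¹ * (e * b * e⁻¹) := congrArg Subtype.val hab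
      have h2 : e * ((b : H) * (a : H)⁻¹) = ((b : H) * (a : H)⁻¹) * e := by
        have h3 := congrArg (fun t => (b : H) * t * (e * (a : H)⁻¹)) h1
        simp only [mul_assoc, inv_mul_cancel_left, mul_inv_cancel_left, mul_inv_cancel, mul_one] at h3
        exact (by simpa [mul_assoc] using h3.symm)
      exact Subtype.ext (mul_inv_eq_one.1 (hfix e he _ (mul_mem b.2 (inv_mem a.2)) h2)).symm
    obtain ⟨m, hm⟩ := Finite.injective_iff_surjective.1 finj ⟨n, hnN⟩
    have hm' : (m : H)⁻¹ * (e * m * e⁻¹) = n := congrArg Subtype.val hm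
    have hei : e⁻¹ = e := inv_eq_of_mul_eq_one_right he2
    rw [← hm', hei]
    simp [mul_assoc, hei, he2]
  obtain ⟨e, heE, hez⟩ : ∃ e ∈ E, e ∉ Subgroup.zpowers z := by
    by_contra h
    push Not at h
    have := Subgroup.card_le_of_le (show E ≤ Subgroup.zpowers z from h)
    rw [hE.card_four, Nat.card_zpowers, hz] at this
    omega
  have he1 : e ≠ 1 := fun h => hez (h ▸ one_mem _)
  have hze : z * e ≠ 1 := fun h => hez (by
    have : e = z⁻¹ := eq_inv_of_mul_eq_one_right h
    exact this ▸ inv_mem (Subgroup.mem_zpowers z))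
  refine (Subgroup.eq_bot_iff_forall N).2 fun n hnN => hfix _ (hc _ (mul_mem hzE heE) hze) n hnN ?_
  have h1 := hinv z (IsConj.refl z) _ (inv_mem hnN)
  have h2 := hinv e (hc e heE he1) n hnN
  rw [inv_inv] at h1
  have : (z * e) * n * (z * e)⁻¹ = n := by
    calc (z * e) * n * (z * e)⁻¹ = z * (e * n * e⁻¹) * z⁻¹ := by group
      _ = n := by rw [h2, h1]
  exact mul_inv_eq_iff_eq_mul.1 this

/-- Let H be a finite group and z an involution such that every proper normal subgroup of H meets the centralizer of z trivially, and suppose z lies in a Klein four-subgroup E of H all three of whose involutions are conjugate to z in H. Then H is simple. -/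
theorem result {H : Type*} [Group H] [Finite H] (z : H) (hz : orderOf z = 2) (hN : ∀ N : Subgroup H, N.Normal → N ≠ ⊤ → N ⊓ Subgroup.centralizer ({z} : Set H) = ⊥) (E : Subgroup H) (hE : IsKleinFour ↥E) (hzE : z ∈ E) (hc : ∀ e ∈ E, e ≠ 1 → IsConj z e) : IsSimpleGroup H := by
  have key : ∀ N : Subgroup H, N.Normal → N ≠ ⊤ → N = ⊥ := fun N hN1 hN2 => eq_bot_aux z hz hN E hE hzE hc N hN1 hN2
  haveI : Nontrivial H := ⟨⟨z, 1, fun h => by simp [h] at hz⟩⟩
  exact ⟨fun N hN1 => or_iff_not_imp_right.2 fun h => key N hN1 h⟩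

end Cfsg.Agent.S2009
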