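import Cfsg.Statements.S2008
import Cfsg.Agent.S2009
-- import your own Cfsg.Agent.* helpers here

set_option autoImplicit false
open Cfsg

namespace Cfsg.Agent.S2008

/-- Let H be a finite group and z an involution such that every proper normal subgroup of H meets the centralizer of z trivially, and suppose z lies in a Klein four-subgroup E of H all three of whose involutions are conjugate to z in H. Then H has no non-trivial abelian normal subgroup. -/
theorem result {H : Type*} [Group H] [Finite H] (z : H) (hz : orderOf z = 2) (hN : ∀ N : Subgroup H, N.Normal → N ≠ ⊤ → N ⊓ Subgroup.centralizer ({z} : Set H) = ⊥) (E : Subgroup H) (hE : IsKleinFour ↥E) (hzE : z ∈ E) (hc : ∀ e ∈ E, e ≠ 1 → IsConj z e) (N : Subgroup H) [N.Normal] (hab : IsMulCommutative ↥N) : N = ⊥ := by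
  by_cases hne : N = ⊤
  · subst hne
    exfalso
    obtain ⟨e, heE, hez⟩ : ∃ e ∈ E, e ∉ Subgroup.zpowers z := by
      by_contra h
      push Not at h
      have := Subgroup.card_le_of_le (show E ≤ Subgroup.zpowers z from h)
      rw [hE.card_four, Nat.card_zpowers, hz] at this
      omega
    obtain ⟨g, hg⟩ := isConj_iff.1 (hc e heE fun h => hez (h ▸ one_mem _))
    have hcomm : g * z = z * g :=
      congrArg Subtype.val (hab.is_comm.comm (⟨g, Subgroup.mem_top _⟩ : (⊤ : Subgroup H)) ⟨z, Subgroup.mem_top _⟩)
    rw [hcomm, mul_inv_cancel_right] at hg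
    exact hez (hg ▸ Subgroup.mem_zpowers z)
  · exact Cfsg.Agent.S2009.eq_bot_aux z hz hN E hE hzE hc N inferInstance hne

end Cfsg.Agent.S2008
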