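import Cfsg.Statements.S2011
import Cfsg.Agent.Lib.Fgs9.LocalFusion
import Cfsg.Agent.Lib.Transfer.Fusion
import Cfsg.Agent.Lib.Cores.Basic
import Cfsg.Agent.Lib.Balance.Basic
-- import your own Cfsg.Agent.* helpers here

set_option autoImplicit false
open Cfsg

namespace Cfsg.Agent.S2011

open Cfsg.Agent.Lib.Fusion.Alperin Cfsg.Agent.Lib.Fgs9.LocalFusion Cfsg.Agent.Lib.Transfer

/-- Let G be a finite group with Sylow p-subgroup P and Q ≤ P. Then Q is centric in the fusion system of G on P (C_P(R) ≤ R for every G-conjugate R of Q lying in P) if and only if C_G(Q) is the internal direct product of Z(Q) = Q ∩ C_G(Q) and the largest normal subgroup of C_G(Q) of order prime to p. -/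
theorem result {G : Type*} [Group G] [Finite G] (p : ℕ) [Fact p.Prime] (P : Sylow p G) (Q : Subgroup G) (hQ : Q ≤ P) : (Cfsg.groupFusionSystem (P : Subgroup G)).IsCentric Q ↔ Cfsg.IsInternalDirectProduct (Q ⊓ Subgroup.centralizer (Q : Set G)) ((Cfsg.pPrimeCore p ↥(Subgroup.centralizer (Q : Set G))).map (Subgroup.centralizer (Q : Set G)).subtype) (Subgroup.centralizer (Q : Set G)) := by
  set C := Subgroup.centralizer (Q : Set G) with hCdef
  set Z := Q ⊓ C with hZdef
  have hZp : IsPGroup p Z := (P.2.to_le hQ).to_le inf_le_left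
  have hcomm : ∀ a ∈ Z, ∀ b ∈ C, a * b = b * a := fun a ha b hb =>
    (Subgroup.mem_centralizer_iff.1 hb a ha.1)
  have hcentral : ∀ R : Subgroup G, ∀ g : G, R = conjS g Q →
      conjS g C = Subgroup.centralizer (R : Set G) := by
    intro R g hR
    subst hR
    ext x
    rw [mem_conjS, hCdef, Subgroup.mem_centralizer_iff, Subgroup.mem_centralizer_iff]
    constructor
    · intro h y hy
      have h1 := h _ (mem_conjS.1 hy)
      calc y * x = g * ((g⁻¹ * y * g) * (g⁻¹ * x * g)) * g⁻¹ := by group
        _ = g * ((g⁻¹ * x * g) * (g⁻¹ * y * g)) * g⁻¹ := by rw [h1]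
        _ = x * y := by group
    · intro h y hy
      have h1 := h _ (conj_mem_conjS (g := g) hy)
      calc y * (g⁻¹ * x * g) = g⁻¹ * ((g * y * g⁻¹) * x) * g := by group
        _ = g⁻¹ * (x * (g * y * g⁻¹)) * g := by rw [h1]
        _ = g⁻¹ * x * g * y := by group
  -- the condition on the centre
  have hiff : (Cfsg.groupFusionSystem (P : Subgroup G)).IsCentric Q ↔ ¬ p ∣ Z.relIndex C := by
    constructor
    · rintro ⟨-, hc⟩
      obtain ⟨T, hTp, hTZ, hTC, hTi⟩ := exists_isSylowIn C Z hZp inf_le_right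
      have hTQ : T ≤ Subgroup.normalizer (Q : Set G) :=
        hTC.trans (Subgroup.centralizer_le_normalizer (s := (Q : Set G)))
      obtain ⟨U, hU⟩ := (hTp.to_sup_of_normal_right' (P.2.to_le hQ) hTQ).exists_le_sylow
      obtain ⟨g, hg⟩ := MulAction.exists_smul_eq G U P
      have hgU : conjS g U = P := by rw [← conjS_sylow, hg]
      have hR : conjS g Q ≤ P := hgU ▸ conjS_mono (le_sup_right.trans hU)
      have hconj : (Cfsg.groupFusionSystem (P : Subgroup G)).IsConj Q (conjS g Q) := by
        refine ⟨(MulAut.conj g).toMonoidHom.comp Q.subtype,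
          ⟨hQ, fun x => hR (conj_mem_conjS x.2), g, fun x => rfl⟩, ?_⟩
        rw [MonoidHom.range_eq_map, ← Subgroup.map_map, ← MonoidHom.range_eq_map,
          Subgroup.range_subtype]
        rfl
      have h1 : conjS g T ≤ conjS g Z := by
        intro x hx
        have h2 : x ∈ Cfsg.FusionSystem.centralizerIn (P : Subgroup G) (conjS g Q) :=
          ⟨hgU ▸ conjS_mono (le_sup_left.trans hU) hx, hcentral _ g rfl ▸ conjS_mono hTC hx⟩
        have h3 := hc _ hconj h2
        rw [mem_conjS] at h3 ⊢
        exact ⟨h3, hTC (mem_conjS.1 hx)⟩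
      have h4 : T ≤ Z := by simpa [conjS_inv_conjS] using conjS_mono (g := g⁻¹) h1
      exact fun h => hTi (h.trans (Subgroup.relIndex_dvd_of_le_left _ h4))
    · intro hi
      refine ⟨hQ, ?_⟩
      rintro R ⟨φ, ⟨-, -, g, hφ⟩, rfl⟩ x ⟨hxP, hxC⟩
      have hR : φ.range = conjS g Q := by
        ext y
        constructor
        · rintro ⟨a, rfl⟩
          exact hφ a ▸ conj_mem_conjS a.2
        · intro hy
          exact ⟨⟨_, mem_conjS.1 hy⟩, by rw [hφ]; simp [mul_assoc]⟩
      rw [← hcentral _ g hR] at hxC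
      rw [hR, mem_conjS]
      set w := g⁻¹ * x * g with hw
      have hwC : w ∈ C := mem_conjS.1 hxC
      haveI hZn : (Z.subgroupOf C).Normal :=
        ⟨fun a ha b => by
          have := hcomm _ (Subgroup.mem_subgroupOf.1 ha) b b.2
          rw [Subgroup.mem_subgroupOf] at ha ⊢
          have e : ((b * a * b⁻¹ : C) : G) = a := by
            push_cast
            rw [← this, mul_inv_cancel_right]
          rwa [e]⟩
      have hZ' : IsPGroup p (Z.subgroupOf C) := hZp.comap_subtype
      have hwp : IsPGroup p (Subgroup.zpowers (⟨w, hwC⟩ : C)) := by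
        obtain ⟨k, hk⟩ := P.2 ⟨x, hxP⟩
        have hk' : x ^ p ^ k = 1 := by simpa using congrArg Subtype.val hk
        obtain ⟨i, -, hi'⟩ := (Nat.dvd_prime_pow (Fact.out : p.Prime)).1
          (orderOf_dvd_of_pow_eq_one (show (⟨w, hwC⟩ : C) ^ p ^ k = 1 from Subtype.ext (by
            show (g⁻¹ * x * g) ^ p ^ k = 1
            rw [show g⁻¹ * x * g = g⁻¹ * x * g⁻¹⁻¹ by group, conj_pow, hk']
            group
            )))
        exact IsPGroup.of_card (n := i) (by rw [Nat.card_zpowers, hi'])
      obtain ⟨S, hS⟩ := hwp.exists_le_sylow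
      let S₀ : Sylow p C := hZ'.toSylow hi
      have hwZ : (⟨w, hwC⟩ : C) ∈ Z.subgroupOf C := by
        obtain ⟨c, hc⟩ := MulAction.exists_smul_eq C S S₀
        haveI : (S₀ : Subgroup C).Normal := hZn
        have hsub : S = S₀ := by
          have := congrArg (fun T : Sylow p C => c⁻¹ • T) hc
          simpa [Sylow.smul_eq_of_normal] using this
        have := hS (Subgroup.mem_zpowers _)
        rwa [hsub] at this
      exact hwZ.1
  rw [hiff]
  set O := Cfsg.pPrimeCore p C with hO
  have hOco : ¬ p ∣ Nat.card (O.map C.subtype) := by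
    rw [Nat.card_congr (O.equivMapOfInjective _ C.subtype_injective).toEquiv.symm]
    exact Cfsg.Agent.Lib.Cores.not_dvd_card_pPrimeCore p
  have hOC : O.map C.subtype ≤ C := Subgroup.map_subtype_le _
  constructor
  · intro hi
    refine ⟨inf_le_right, hOC, fun a ha b hb => hcomm a ha b (hOC hb),
      disjoint_iff.1 (PResidual.disjoint_of_not_dvd hOco hZp).symm, ?_⟩
    let S₀ : Sylow p C := (hZp.comap_subtype (K := C)).toSylow hi
    have hnc : Cfsg.HasNormalPComplement p C := by
      refine Fusion.hasNormalPComplement_of_controls S₀ fun a ha b _ => ⟨1, one_mem _, ?_⟩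
      have h1 : (a : G) * b = b * a := hcomm _ ha b b.2
      refine Subtype.ext ?_
      push_cast
      rw [one_mul, inv_one, mul_one, ← h1, mul_inv_cancel_right]
    have h2 : Cfsg.pResidual p C ≤ O := Cfsg.Agent.Lib.Cores.le_pPrimeCore
      ((Nat.Prime.coprime_iff_not_dvd (Fact.out : p.Prime)).2
        (PResidual.hasNormalPComplement_iff_not_dvd.1 hnc)).symm
    refine le_antisymm (sup_le inf_le_right hOC) fun c hc => ?_
    obtain ⟨k, hk, z, hz, hkz⟩ := PResidual.exists_mul_sylow S₀ ⟨c, hc⟩
    have h3 : (k : G) * (z : G) = c := congrArg Subtype.val hkz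
    exact h3 ▸ mul_mem (Subgroup.mem_sup_right (Subgroup.mem_map_of_mem _ (h2 hk)))
      (Subgroup.mem_sup_left (show (z : G) ∈ Z from hz))
  · rintro ⟨-, -, -, -, hsup⟩ hdvd
    apply hOco
    haveI hZn : (Z.subgroupOf C).Normal :=
      ⟨fun a ha b => by
        have := hcomm _ (Subgroup.mem_subgroupOf.1 ha) b b.2
        rw [Subgroup.mem_subgroupOf] at ha ⊢
        have e : ((b * a * b⁻¹ : C) : G) = a := by
          push_cast
          rw [← this, mul_inv_cancel_right]
        rwa [e]⟩
    have htop : O ⊔ Z.subgroupOf C = ⊤ := by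
      apply Subgroup.map_injective C.subtype_injective
      rw [Subgroup.map_sup, Subgroup.map_subgroupOf_eq_of_le inf_le_right, sup_comm, hsup,
        ← MonoidHom.range_eq_map, Subgroup.range_subtype]
    have h1 : Z.relIndex C ∣ Nat.card (O.map C.subtype) := by
      rw [Nat.card_congr (O.equivMapOfInjective _ C.subtype_injective).toEquiv.symm,
        ← Subgroup.relIndex_bot_left]
      show (Z.subgroupOf C).index ∣ _
      rw [← Subgroup.relIndex_top_right, ← htop, Subgroup.relIndex_sup_right]
      exact Subgroup.relIndex_dvd_of_le_left _ bot_le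
    exact hdvd.trans h1

end Cfsg.Agent.S2011
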