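import Cfsg.Statements.S2012
import Cfsg.Agent.Lib.Fgs9.LocalFusion
-- import your own Cfsg.Agent.* helpers here

set_option autoImplicit false
open Cfsg

namespace Cfsg.Agent.S2012

open Subgroup Cfsg.Agent.Lib.Fusion.Alperin Cfsg.Agent.Lib.Fgs9.LocalFusion

/-- `h` moves the set `D` inside `P` through normalizers of tame Sylow intersections. -/
inductive TameChain {G : Type*} [Group G] {p : ℕ} (P : Sylow p G) : Set G → G → Prop
  | one {D : Set G} (hD : D ⊆ (P : Set G)) : TameChain P D 1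
  | step {D : Set G} {h : G} (T : Sylow p G) (y : G)
      (hD : D ⊆ (((P : Subgroup G) ⊓ T : Subgroup G) : Set G))
      (hP : IsTame p (P : Subgroup G) ((P : Subgroup G) ⊓ T))
      (hT : IsTame p (T : Subgroup G) ((P : Subgroup G) ⊓ T))
      (hy : y ∈ normalizer (((P : Subgroup G) ⊓ T : Subgroup G) : Set G))
      (hyp : (T : Subgroup G) = (P : Subgroup G) ∨ ∃ k : ℕ, orderOf y = p ^ k)
      (hc : TameChain P ((fun a => y * a * y⁻¹) '' D) h) : TameChain P D (h * y)

theorem TameChain.comp {G : Type*} [Group G] {p : ℕ} {P : Sylow p G} {D : Set G} {h : G}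
    (c : TameChain P D h) : ∀ {D' : Set G} {h' : G}, TameChain P D' h' →
      (∀ a ∈ D, h * a * h⁻¹ ∈ D') → TameChain P D (h' * h) := by
  induction c with
  | @one D hD =>
    intro D' h' c' hDD'
    rw [mul_one]
    clear hD
    induction c' generalizing D with
    | one hD' => exact .one fun a ha => hD' (by simpa using hDD' a ha)
    | step T y hD' hP hT hy hyp hc ih =>
      refine .step T y (fun a ha => hD' (by simpa using hDD' a ha)) hP hT hy hyp (ih ?_)
      rintro _ ⟨a, ha, rfl⟩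
      exact ⟨a, by simpa using hDD' a ha, by simp⟩
  | step T y hD hP hT hy hyp hc ih =>
    intro D' h' c' hDD'
    rw [← mul_assoc]
    refine .step T y hD hP hT hy hyp (ih c' ?_)
    rintro _ ⟨a, ha, rfl⟩
    simpa [mul_assoc] using hDD' a ha

theorem TameChain.mono {G : Type*} [Group G] {p : ℕ} {P : Sylow p G} {D : Set G} {h : G}
    (c : TameChain P D h) {D₀ : Set G} (hD : D₀ ⊆ D) (hD₀ : D₀ ⊆ (P : Set G)) :
    TameChain P D₀ h := by
  simpa using (TameChain.one hD₀).comp c (fun a ha => by simpa using hD ha)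

/-- The subgroup generated by the `p`-elements of `N`. -/
def pPart {G : Type*} [Group G] (p : ℕ) (N : Subgroup G) : Subgroup G :=
  Subgroup.closure {x : G | x ∈ N ∧ ∃ k : ℕ, orderOf x = p ^ k}

theorem pPart_le {G : Type*} [Group G] {p : ℕ} (N : Subgroup G) : pPart p N ≤ N :=
  (Subgroup.closure_le _).2 fun _ h => h.1

theorem le_pPart {G : Type*} [Group G] {p : ℕ} [Fact p.Prime] {A N : Subgroup G}
    (hA : IsPGroup p A) (hAN : A ≤ N) : A ≤ pPart p N := fun x hx =>
  Subgroup.subset_closure ⟨hAN hx, (IsPGroup.iff_orderOf.1 hA ⟨x, hx⟩).imp fun _ h => by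
    rwa [← Subgroup.orderOf_coe] at h⟩

theorem TameChain.step_pPart {G : Type*} [Group G] {p : ℕ} {P : Sylow p G} (T : Sylow p G)
    (hP : IsTame p (P : Subgroup G) ((P : Subgroup G) ⊓ T))
    (hT : IsTame p (T : Subgroup G) ((P : Subgroup G) ⊓ T)) {y : G}
    (hy : y ∈ pPart p (normalizer (((P : Subgroup G) ⊓ T : Subgroup G) : Set G))) :
    ∀ {D : Set G} {h : G}, D ⊆ (((P : Subgroup G) ⊓ T : Subgroup G) : Set G) →
      TameChain P ((fun a => y * a * y⁻¹) '' D) h → TameChain P D (h * y) := by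
  induction hy using Subgroup.closure_induction_left with
  | one => intro D h _ hc; simpa using hc
  | mul_left x hx z hz ih =>
    intro D h hD hc
    have hzn := pPart_le _ hz
    have h1 : TameChain P ((fun a => z * a * z⁻¹) '' D) (h * x) := by
      refine .step T x ?_ hP hT hx.1 (Or.inr hx.2) ?_
      · rintro _ ⟨a, ha, rfl⟩
        exact (mem_normalizer_iff.1 hzn a).1 (hD ha)
      · simpa [Set.image_image, mul_assoc, mul_inv_rev] using hc
    rw [← mul_assoc]
    exact ih hD h1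
  | inv_mul_cancel x hx z hz ih =>
    intro D h hD hc
    have hzn := pPart_le _ hz
    have h1 : TameChain P ((fun a => z * a * z⁻¹) '' D) (h * x⁻¹) := by
      refine .step T x⁻¹ ?_ hP hT (inv_mem hx.1) (Or.inr (by simpa using hx.2)) ?_
      · rintro _ ⟨a, ha, rfl⟩
        exact (mem_normalizer_iff.1 hzn a).1 (hD ha)
      · simpa [Set.image_image, mul_assoc, mul_inv_rev] using hc
    rw [← mul_assoc]
    exact ih hD h1

/-- Every Sylow subgroup `Q` is moved to `P` by a tame chain on `P ⊓ Q`. -/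
theorem exists_chain {G : Type*} [Group G] [Finite G] {p : ℕ} [Fact p.Prime]
    (P Q : Sylow p G) :
    ∃ h : G, conjS h Q = P ∧
      TameChain P (((P : Subgroup G) ⊓ Q : Subgroup G) : Set G) h := by
  classical
  induction hm : Nat.card (P : Subgroup G) - Nat.card ((P : Subgroup G) ⊓ Q : Subgroup G) using
    Nat.strong_induction_on generalizing Q with
  | _ m ih =>
    subst hm
    set D : Subgroup G := (P : Subgroup G) ⊓ Q with hD
    have IH : ∀ T : Sylow p G, Nat.card D < Nat.card ((P : Subgroup G) ⊓ T : Subgroup G) →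
        ∃ h : G, conjS h T = P ∧
          TameChain P (((P : Subgroup G) ⊓ T : Subgroup G) : Set G) h := by
      intro T hT
      refine ih _ ?_ T rfl
      have : Nat.card ((P : Subgroup G) ⊓ T : Subgroup G) ≤ Nat.card (P : Subgroup G) :=
        card_le_of_le inf_le_left
      omega
    have card_lt : ∀ {A B : Subgroup G}, A < B → Nat.card A < Nat.card B := fun {A B} h =>
      (card_le_of_le h.le).lt_of_ne fun e => h.ne (eq_of_le_of_card_ge h.le e.ge)
    by_cases hPQ : D = P
    · refine ⟨1, ?_, .one fun a ha => inf_le_left (b := (Q : Subgroup G)) ha⟩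
      rw [conjS_one]
      exact P.3 Q.2 (hPQ ▸ inf_le_right)
    have hDP : D < P := lt_of_le_of_ne inf_le_left hPQ
    have hDQ : D < Q := lt_of_le_of_ne inf_le_right fun e => by
      have : (Q : Subgroup G) ≤ P := e ▸ inf_le_left
      exact hPQ (by rw [hD, inf_eq_left]; exact (Q.3 P.2 this).le)
    have tame : ∀ Q₁ : Sylow p G, Nat.card ((P : Subgroup G) ⊓ Q₁ : Subgroup G) = Nat.card D →
        ((P : Subgroup G) ⊓ Q₁ : Subgroup G) < Q₁ →
        IsTame p (P : Subgroup G) ((P : Subgroup G) ⊓ Q₁) →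
        ∃ h : G, conjS h Q₁ = P ∧
          TameChain P (((P : Subgroup G) ⊓ Q₁ : Subgroup G) : Set G) h := by
      intro Q₁ hc hlt hP
      set E : Subgroup G := (P : Subgroup G) ⊓ Q₁ with hE
      set N := normalizer (E : Set G)
      obtain ⟨S, hSp, hQS, hSN, hSi⟩ := exists_isSylowIn (p := p) N ((Q₁ : Subgroup G) ⊓ N)
        (Q₁.2.to_le inf_le_left) inf_le_right
      obtain ⟨T, hST⟩ := hSp.exists_le_sylow
      have hES : E < S := lt_of_lt_of_le (lt_inf_normalizer Q₁.2 hlt) hQS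
      have hEPT : E ≤ (P : Subgroup G) ⊓ T := le_inf inf_le_left (hES.le.trans hST)
      have hEP : (E : Set G) ⊆ (P : Set G) := fun a ha => (hEPT ha).1
      by_cases hbig : Nat.card D < Nat.card ((P : Subgroup G) ⊓ T : Subgroup G)
      · obtain ⟨h₃, h3T, h3K⟩ := IH T hbig
        set Q₂ : Sylow p G := h₃ • Q₁
        have hle : conjS h₃ ((Q₁ : Subgroup G) ⊓ N) ≤ (P : Subgroup G) ⊓ Q₂ :=
          le_inf (h3T ▸ conjS_mono (hQS.trans hST)) (conjS_sylow h₃ Q₁ ▸ conjS_mono inf_le_left)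
        obtain ⟨h₄, h4T, h4K⟩ := IH Q₂ (by
          rw [← hc]
          refine lt_of_lt_of_le ?_ (card_le_of_le hle)
          rw [card_conjS]
          exact card_lt (lt_inf_normalizer Q₁.2 hlt))
        refine ⟨h₄ * h₃, by rw [conjS_mul, ← h4T, conjS_sylow], ?_⟩
        refine (h3K.mono (fun a ha => hEPT ha) hEP).comp h4K fun d hd => ?_
        exact hle (conj_mem_conjS ⟨hd.2, le_normalizer hd⟩)
      · have hTE : (P : Subgroup G) ⊓ T = E :=
          (eq_of_le_of_card_ge hEPT (by rw [hc]; exact not_lt.1 hbig)).symm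
        have hTtame : IsTame p (T : Subgroup G) E := fun h =>
          hSi (h.trans (relIndex_dvd_of_le_left _ (le_inf hST hSN)))
        have hdvd : ∀ A : Subgroup G, A ≤ pPart p N → A.relIndex (pPart p N) ∣ A.relIndex N :=
          fun A hA => ⟨_, (relIndex_mul_relIndex A (pPart p N) N hA (pPart_le N)).symm⟩
        have hSK : S ≤ pPart p N := le_pPart hSp hSN
        have hPK : (P : Subgroup G) ⊓ N ≤ pPart p N :=
          le_pPart (P.2.to_le inf_le_left) inf_le_right
        obtain ⟨y, hyK, hy⟩ := exists_conj_eq hSK hPK hSp (P.2.to_le inf_le_left)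
          (fun h => hSi (h.trans (hdvd S hSK))) (fun h => hP (h.trans (hdvd _ hPK)))
        set Q₂ : Sylow p G := y • Q₁
        have hle : conjS y ((Q₁ : Subgroup G) ⊓ N) ≤ (P : Subgroup G) ⊓ Q₂ :=
          le_inf ((conjS_mono hQS).trans (hy ▸ inf_le_left)) (conjS_sylow y Q₁ ▸ conjS_mono inf_le_left)
        obtain ⟨h₄, h4T, h4K⟩ := IH Q₂ (by
          rw [← hc]
          refine lt_of_lt_of_le ?_ (card_le_of_le hle)
          rw [card_conjS]
          exact card_lt (lt_inf_normalizer Q₁.2 hlt))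
        refine ⟨h₄ * y, by rw [conjS_mul, ← h4T, conjS_sylow], ?_⟩
        refine TameChain.step_pPart T (hTE.symm ▸ hP) (hTE.symm ▸ hTtame) (hTE.symm ▸ hyK)
          (hTE.symm ▸ le_rfl) (h4K.mono ?_ ?_)
        · rintro _ ⟨d, hd, rfl⟩
          exact hle (conj_mem_conjS ⟨hd.2, le_normalizer hd⟩)
        · rintro _ ⟨d, hd, rfl⟩
          exact (hle (conj_mem_conjS ⟨hd.2, le_normalizer hd⟩)).1
    obtain ⟨S, hSp, hPS, hSN, hSi⟩ := exists_isSylowIn (p := p) (normalizer (D : Set G))
      ((P : Subgroup G) ⊓ normalizer (D : Set G)) (P.2.to_le inf_le_left) inf_le_right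
    obtain ⟨R, hSR⟩ := hSp.exists_le_sylow
    have hDP' := lt_inf_normalizer P.2 hDP
    obtain ⟨h₁, h1R, h1K⟩ := IH R ((card_lt hDP').trans_le
      (card_le_of_le (le_inf inf_le_left (hPS.trans hSR))))
    set Q₁ : Sylow p G := h₁ • Q
    have hDR : D ≤ (P : Subgroup G) ⊓ R := le_inf inf_le_left (hDP'.le.trans (hPS.trans hSR))
    have hle : conjS h₁ D ≤ (P : Subgroup G) ⊓ Q₁ :=
      le_inf (h1R ▸ conjS_mono (hDR.trans inf_le_right)) (conjS_sylow h₁ Q ▸ conjS_mono inf_le_right)
    suffices ∃ h : G, conjS h Q₁ = P ∧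
        TameChain P (((P : Subgroup G) ⊓ Q₁ : Subgroup G) : Set G) h by
      obtain ⟨h₂, h2T, h2K⟩ := this
      refine ⟨h₂ * h₁, by rw [conjS_mul, ← h2T, conjS_sylow], ?_⟩
      exact (h1K.mono (fun a ha => hDR ha) fun a ha => (hDR ha).1).comp h2K
        fun d hd => hle (conj_mem_conjS hd)
    by_cases hbig : Nat.card D < Nat.card ((P : Subgroup G) ⊓ Q₁ : Subgroup G)
    · exact IH Q₁ hbig
    have heq : conjS h₁ D = (P : Subgroup G) ⊓ Q₁ :=
      eq_of_le_of_card_ge hle (by rw [card_conjS]; exact not_lt.1 hbig)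
    refine tame Q₁ (by rw [← heq, card_conjS]) ?_ ?_
    · refine lt_of_le_of_ne inf_le_right fun e => ?_
      have := congrArg (fun A : Subgroup G => Nat.card A) e
      rw [← heq, conjS_sylow] at this
      simp only [card_conjS] at this
      exact (card_lt hDQ).ne this
    · intro hdvd
      rw [← heq, ← conjS_normalizer] at hdvd
      refine hSi ?_
      rw [← relIndex_conjS h₁]
      exact hdvd.trans (relIndex_dvd_of_le_left _ (le_inf (h1R ▸ conjS_mono hSR) (conjS_mono hSN)))

/-- Unfold a chain into sequences, the product being `h⁻¹`. -/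
theorem TameChain.exists_seq {G : Type*} [Group G] {p : ℕ} {P : Sylow p G} {D : Set G} {h : G}
    (c : TameChain P D h) :
    ∃ (n : ℕ) (Q : Fin n → Sylow p G) (x : Fin n → G), (List.ofFn x).prod = h⁻¹ ∧
      ∀ i : Fin n, (x i ∈ normalizer ((((P : Subgroup G) ⊓ (Q i : Subgroup G)) : Subgroup G) : Set G) ∧
        IsTame p (P : Subgroup G) ((P : Subgroup G) ⊓ Q i) ∧
        IsTame p (Q i : Subgroup G) ((P : Subgroup G) ⊓ Q i) ∧
        ((Q i : Subgroup G) = (P : Subgroup G) ∨ ∃ k : ℕ, orderOf (x i) = p ^ k)) ∧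
        ∀ a ∈ D, (((List.ofFn x).take i.val).prod)⁻¹ * a * ((List.ofFn x).take i.val).prod
          ∈ (P : Subgroup G) ⊓ Q i := by
  induction c with
  | one hD => exact ⟨0, Fin.elim0, Fin.elim0, by simp, fun i => i.elim0⟩
  | @step D h T y hD hP hT hy hyp hc ih =>
    obtain ⟨n, Q, x, hx, hi⟩ := ih
    refine ⟨n + 1, Fin.cons T Q, Fin.cons y⁻¹ x, ?_, ?_⟩
    · simp [List.ofFn_succ, hx, mul_inv_rev]
    · intro i
      induction i using Fin.cases with
      | zero =>
        refine ⟨⟨by simpa using hy, by simpa using hP, by simpa using hT, by simpa using hyp⟩, fun a ha => ?_⟩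
        simp only [Fin.val_zero, List.take_zero, List.prod_nil, inv_one, one_mul, mul_one,
          Fin.cons_zero]
        exact hD ha
      | succ j =>
        obtain ⟨h1, h2⟩ := hi j
        refine ⟨by simpa using h1, fun a ha => ?_⟩
        have := h2 _ ⟨a, ha, rfl⟩
        simpa [List.ofFn_succ, mul_assoc, mul_inv_rev] using this

/-- Alperin's fusion Theorem with the factors taken to be p-elements: let P be a Sylow p-subgroup of a finite group G, A a subset of P and g an element with g⁻¹Ag ⊆ P. Then g = x_1 ⋯ x_n where, for each i, Q_i is a Sylow p-subgroup with P ∩ Q_i a tame intersection (the normalizers in P and in Q_i of P ∩ Q_i are Sylow in N_G(P ∩ Q_i)), x_i normalizes P ∩ Q_i, x_i has p-power order unless Q_i = P, A ⊆ P ∩ Q_1, and (x_1 ⋯ x_i)⁻¹ A (x_1 ⋯ x_i) lies in P ∩ Q_{i+1} for i < n. -/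
theorem result {G : Type*} [Group G] [Finite G] {p : ℕ} [Fact p.Prime] (P : Sylow p G) (A : Set G) (g : G) (hA : A ⊆ (P : Set G)) (hAg : (fun a => g⁻¹ * a * g) '' A ⊆ (P : Set G)) : ∃ (n : ℕ) (Q : Fin n → Sylow p G) (x : Fin n → G), (List.ofFn x).prod = g ∧ (∀ i : Fin n, x i ∈ Subgroup.normalizer ((((P : Subgroup G) ⊓ (Q i : Subgroup G)) : Subgroup G) : Set G) ∧ ¬ p ∣ ((P : Subgroup G) ⊓ Subgroup.normalizer ((((P : Subgroup G) ⊓ (Q i : Subgroup G)) : Subgroup G) : Set G)).relIndex (Subgroup.normalizer ((((P : Subgroup G) ⊓ (Q i : Subgroup G)) : Subgroup G) : Set G)) ∧ ¬ p ∣ ((Q i : Subgroup G) ⊓ Subgroup.normalizer ((((P : Subgroup G) ⊓ (Q i : Subgroup G)) : Subgroup G) : Set G)).relIndex (Subgroup.normalizer ((((P : Subgroup G) ⊓ (Q i : Subgroup G)) : Subgroup G) : Set G)) ∧ ((Q i : Subgroup G) = (P : Subgroup G) ∨ ∃ k : ℕ, orderOf (x i) = p ^ k)) ∧ (∀ h : 0 < n, A ⊆ (((P : Subgroup G) ⊓ (Q ⟨0, h⟩ : Subgroup G) : Subgroup G) : Set G)) ∧ ∀ i : Fin n, ∀ h : i.val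 + 1 < n, (fun a => (((List.ofFn x).take (i.val + 1)).prod)⁻¹ * a * ((List.ofFn x).take (i.val + 1)).prod) '' A ⊆ (((P : Subgroup G) ⊓ (Q ⟨i.val + 1, h⟩ : Subgroup G) : Subgroup G) : Set G) := by
  let R : Sylow p G := g • P
  have hAR : A ⊆ (((P : Subgroup G) ⊓ R : Subgroup G) : Set G) := fun a ha =>
    ⟨hA ha, mem_conjS.2 (hAg ⟨a, ha, rfl⟩)⟩
  obtain ⟨h, hh, c⟩ := exists_chain P R
  have hgN : h * g ∈ normalizer ((P : Subgroup G) : Set G) := by
    apply mem_normalizer_of_conjS_eq
    rw [conjS_mul, ← conjS_sylow]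
    exact hh
  have hlast : TameChain P (P : Set G) (h * g)⁻¹ := by
    have hPP : (P : Subgroup G) ⊓ (P : Subgroup G) = P := inf_idem _
    have ht : IsTame p (P : Subgroup G) ((P : Subgroup G) ⊓ (P : Subgroup G)) := by
      rw [hPP, IsTame, inf_eq_left.2 le_normalizer]
      exact fun hd => P.not_dvd_index
        (hd.trans (relIndex_dvd_index_of_le le_normalizer))
    have hm : (h * g)⁻¹ ∈ normalizer ((P : Subgroup G) : Set G) := inv_mem hgN
    have h1 : TameChain P ((fun a => (h * g)⁻¹ * a * ((h * g)⁻¹)⁻¹) '' (P : Set G)) 1 :=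
      .one (by rintro _ ⟨a, ha, rfl⟩; exact (mem_normalizer_iff.1 hm a).1 ha)
    simpa using TameChain.step P ((h * g)⁻¹) (fun a ha => ⟨ha, ha⟩) ht ht (by rw [hPP]; exact hm) (Or.inl rfl) h1
  have hc : TameChain P A ((h * g)⁻¹ * h) :=
    (c.mono hAR hA).comp hlast fun a ha => by
      have := conj_mem_conjS (g := h) (hAR ha).2
      rw [hh] at this
      exact this
  obtain ⟨n, Q, x, hx, hi⟩ := hc.exists_seq
  refine ⟨n, Q, x, ?_, fun i => (hi i).1, fun h0 a ha => ?_, fun i hlt => ?_⟩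
  · rw [hx]; group
  · have := (hi ⟨0, h0⟩).2 a ha
    simp only [List.take_zero, List.prod_nil, inv_one, one_mul, mul_one] at this
    exact this
  · rintro _ ⟨a, ha, rfl⟩
    exact (hi ⟨i.val + 1, hlt⟩).2 a ha

end Cfsg.Agent.S2012
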