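import Cfsg.Statements.S2014
import Cfsg.Agent.Lib.Transfer.PResidual
-- import your own Cfsg.Agent.* helpers here

set_option autoImplicit false
open Cfsg

namespace Cfsg.Agent.S2014

/-- Let P be a Sylow p-subgroup of a finite group G and A, C ≤ P subgroups conjugate in G, with C extremal: N_P(C) is a Sylow p-subgroup of N_G(C). Then there is g with gAg⁻¹ = C and g N_P(A) g⁻¹ ≤ N_P(C); moreover, given any h with hAh⁻¹ = C, g can be chosen so that h g⁻¹ lies in O^p(N_G(C)), the subgroup of N_G(C) generated by its elements of order prime to p. -/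
theorem result {G : Type*} [Group G] [Finite G] (p : ℕ) [Fact p.Prime] (P : Sylow p G) (A C : Subgroup G) (hA : A ≤ P) (hC : C ≤ P) (hext : ¬ p ∣ ((P : Subgroup G) ⊓ Subgroup.normalizer ((C : Subgroup G) : Set G)).relIndex (Subgroup.normalizer ((C : Subgroup G) : Set G))) (h : G) (hh : A.map (MulAut.conj h).toMonoidHom = C) : ∃ g : G, A.map (MulAut.conj g).toMonoidHom = C ∧ ((P : Subgroup G) ⊓ Subgroup.normalizer ((A : Subgroup G) : Set G)).map (MulAut.conj g).toMonoidHom ≤ (P : Subgroup G) ⊓ Subgroup.normalizer ((C : Subgroup G) : Set G) ∧ h * g⁻¹ ∈ (Cfsg.pResidual p ↥(Subgroup.normalizer ((C : Subgroup G) : Set G))).map (Subgroup.normalizer ((C : Subgroup G) : Set G)).subtype := by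
  set N := Subgroup.normalizer ((C : Subgroup G) : Set G) with hN
  set NA := Subgroup.normalizer ((A : Subgroup G) : Set G) with hNA
  have hQp : IsPGroup p (((P : Subgroup G) ⊓ N).subgroupOf N : Subgroup N) :=
    (P.isPGroup'.to_le (inf_le_left : (P : Subgroup G) ⊓ N ≤ P)).of_equiv
      (Subgroup.subgroupOfEquivOfLe inf_le_right).symm
  let Q : Sylow p N := hQp.toSylow hext
  have hle : ((P : Subgroup G) ⊓ NA).map (MulAut.conj h).toMonoidHom ≤ N := by
    rintro _ ⟨x, hx, rfl⟩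
    rw [hN, ← hh]
    have h1 : (MulAut.conj h).toMonoidHom x ∈
        Subgroup.map (MulAut.conj h).toMonoidHom NA := Subgroup.mem_map_of_mem _ hx.2
    exact Subgroup.le_normalizer_map _ h1
  obtain ⟨Q₂, hQ₂⟩ := (((P.isPGroup'.to_le (inf_le_left : (P : Subgroup G) ⊓ NA ≤ P)).map
    (MulAut.conj h).toMonoidHom).of_equiv (Subgroup.subgroupOfEquivOfLe hle).symm).exists_le_sylow
  obtain ⟨x, hx⟩ := MulAction.exists_smul_eq N Q₂ Q
  obtain ⟨k, hk, z, hz, rfl⟩ := Cfsg.Agent.Lib.Transfer.PResidual.exists_mul_sylow Q₂ x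
  rw [mul_smul, Sylow.smul_eq_iff_mem_normalizer.2 (Subgroup.le_normalizer hz)] at hx
  refine ⟨(k : G) * h, ?_, ?_, ?_⟩
  · rw [show (MulAut.conj ((k : G) * h)).toMonoidHom =
      (MulAut.conj (k : G)).toMonoidHom.comp (MulAut.conj h).toMonoidHom by ext; simp [mul_assoc],
      ← Subgroup.map_map, hh]
    refine Subgroup.eq_of_le_of_card_ge ?_ (le_of_eq (Nat.card_congr
      (C.equivMapOfInjective _ (MulEquiv.injective _)).toEquiv))
    rintro _ ⟨c, hc, rfl⟩
    exact (Subgroup.mem_normalizer_iff.1 k.2 c).1 hc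
  · rintro _ ⟨y, hy, rfl⟩
    have h1 : (⟨h * y * h⁻¹, hle ⟨y, hy, rfl⟩⟩ : N) ∈ (Q₂ : Subgroup N) := hQ₂ ⟨y, hy, rfl⟩
    have h2 := Subgroup.smul_mem_pointwise_smul _ (MulAut.conj k) _ h1
    rw [← Sylow.coe_subgroup_smul, hx] at h2
    have h3 : (k : G) * (h * y * h⁻¹) * (k : G)⁻¹ ∈ (P : Subgroup G) ⊓ N := h2
    show (k : G) * h * y * ((k : G) * h)⁻¹ ∈ _
    rw [show (k : G) * h * y * ((k : G) * h)⁻¹ = (k : G) * (h * y * h⁻¹) * (k : G)⁻¹ by group]
    exact h3
  · refine ⟨k⁻¹, inv_mem hk, ?_⟩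
    simp [mul_assoc]

end Cfsg.Agent.S2014
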