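import Cfsg.Statements.S2015
import Cfsg.Agent.S1984
-- import your own Cfsg.Agent.* helpers here

set_option autoImplicit false
universe u
open Cfsg

namespace Cfsg.Agent.S2015

/-- For p ≥ 5, every finite p-group P has a characteristic subgroup K containing Z(P), depending only on P, whose normalizer controls transfer wherever P is a Sylow subgroup: for every finite group G and every embedding ι of P onto a Sylow p-subgroup of G, the intersection of ι(P) with the derived subgroup of G equals its intersection with the derived subgroup of N_G(ι(K)). -/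
theorem result (p : ℕ) [Fact p.Prime] (hp : 5 ≤ p) (P : Type u) [Group P] [Finite P] (hP : IsPGroup p P) : ∃ K : Subgroup P, K.Characteristic ∧ Subgroup.center P ≤ K ∧ ∀ (G : Type u) [Group G] [Finite G] (ι : P →* G), Function.Injective ι → (∃ T : Sylow p G, (T : Subgroup G) = ι.range) → ι.range ⊓ commutator G = ι.range ⊓ (commutator ↥(Subgroup.normalizer ((K.map ι : Subgroup G) : Set G))).map (Subgroup.normalizer ((K.map ι : Subgroup G) : Set G)).subtype := by
  have hW : Cfsg.IsCharPFunctor.{u} p @Cfsg.kInfLower := Lib.ConjFunctor.KFunctor.isCharP_lower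
  refine ⟨Cfsg.kInfLower P, Subgroup.characteristic_iff_map_eq.2 fun e => hW.2 P P hP e,
    (Lib.ConjFunctor.KFunctor.center_le_kInf P).1, fun G _ _ ι hι hT => ?_⟩
  obtain ⟨T, hT⟩ := hT
  have hK : Cfsg.inducedFunctor (G := G) Cfsg.kInfLower (T : Subgroup G) = (Cfsg.kInfLower P).map ι := by
    rw [hT, MonoidHom.range_eq_map, Lib.ConjFunctor.Section.map_inducedFunctor_of_injective hW ι hι ⊤
      (hP.to_subgroup ⊤)]
    show ((Cfsg.kInfLower ↥(⊤ : Subgroup P)).map (⊤ : Subgroup P).subtype).map ι = _
    congr 1
    exact hW.2 ↥(⊤ : Subgroup P) P (hP.to_subgroup ⊤) Subgroup.topEquiv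
  obtain ⟨S, hS, htr⟩ := Lib.ConjFunctor.WellPlaced.controlsTr_iff.1
    (Cfsg.Agent.S1984.result (G := G) hp)
  have h := htr.of_isSyl (Lib.ConjFunctor.WellPlaced.equi_single
    (Lib.ConjFunctor.Section.isConjugacyFunctor_induced hW)) hS (Lib.ConjFunctor.Basic.isSyl_top T)
  rw [Lib.ConjFunctor.Reach.TrAt, Lib.ConjFunctor.Local.trGen_nFam, iSup_singleton, top_inf_eq, hK,
    hT, ← commutator_def] at h
  rw [h, commutator_def, Subgroup.map_commutator, ← MonoidHom.range_eq_map, Subgroup.range_subtype]

end Cfsg.Agent.S2015
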