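import Cfsg.Statements.S2029
import Cfsg.Agent.Lib.TwoPType.Main
-- import your own Cfsg.Agent.* helpers here

set_option autoImplicit false
open Cfsg

namespace Cfsg.Agent.S2029

open Cfsg.Agent.Lib.TwoPType

theorem normalizer_zpowers_eq {G : Type*} [Group G] [Finite G] {z : G} (hz : z * z = 1) :
    Subgroup.normalizer ((Subgroup.zpowers z : Subgroup G) : Set G) =
      Subgroup.centralizer ({z} : Set G) := by
  ext g
  rw [mem_centralizer_singleton]
  constructor
  · intro hg
    obtain ⟨n, hn⟩ := conj_mem_of_mem_normalizer hg (Subgroup.mem_zpowers z)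
    change z ^ n = g * z * g⁻¹ at hn
    refine (commute_iff_conj.mpr ?_).symm
    rcases Int.even_or_odd n with ⟨m, rfl⟩ | ⟨m, rfl⟩
    · rw [zpow_add, ← (Commute.refl z).mul_zpow, hz, one_zpow] at hn
      have : z = 1 := by
        calc z = g⁻¹ * (g * z * g⁻¹) * g := by group
          _ = 1 := by rw [← hn]; group
      rw [this]; group
    · rw [zpow_add, two_mul, zpow_add, zpow_one, ← (Commute.refl z).mul_zpow, hz, one_zpow,
        one_mul] at hn
      exact hn.symm
  · intro hg
    refine mem_normalizer_of_forall fun x hx => ?_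
    obtain ⟨n, rfl⟩ := hx
    rw [commute_iff_conj.mp (hg.symm.zpow_right n)]
    exact zpow_mem (Subgroup.mem_zpowers z) n

theorem mem_pCoreOf_of_centralizes {G : Type*} [Group G] (q : ℕ) (N : Subgroup G)
    (h : Subgroup.centralizer (Cfsg.pCore q ↥N : Set ↥N) ≤ Cfsg.pCore q ↥N) {x : G} (hx : x ∈ N)
    (hc : ∀ r ∈ Cfsg.pCoreOf q N, Commute r x) : x ∈ Cfsg.pCoreOf q N :=
  ⟨⟨x, hx⟩, h (Subgroup.mem_centralizer_iff.mpr fun r hr =>
    Subtype.ext (hc r ⟨r, hr, rfl⟩).eq), rfl⟩

/-- Let p be an odd prime and G a finite group that is both of local characteristic p (p divides its order and every p-local subgroup N satisfies C_N(O_p(N)) ≤ O_p(N)) and of characteristic 2 type (even order and every 2-local subgroup M satisfies C_M(O_2(M)) ≤ O_2(M)). Then every 2-local subgroup of G has p-rank at most 2. -/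
theorem result {G : Type*} [Group G] [Finite G] (p : ℕ) [Fact p.Prime] (hp : p ≠ 2) (hGp : Cfsg.IsOfLocalCharacteristic p G) (hG2 : Cfsg.IsCharacteristicTwoType G) : Cfsg.TwoLocalPRankLE p 2 G := by
  intro L hL A hAc hAe
  obtain ⟨T, hT, hT1, rfl⟩ := hL
  by_contra hbig
  have H : Hyp G p :=
    { two := fun z hz hz1 x hzx hfix => by
        have h2 : IsPGroup 2 (Subgroup.zpowers z) := by
          rintro ⟨a, n, rfl⟩
          refine ⟨1, Subtype.ext ?_⟩
          simp only [pow_one, SubmonoidClass.coe_pow, OneMemClass.coe_one]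
          rw [← zpow_natCast, ← zpow_mul, mul_comm, zpow_mul, zpow_natCast, pow_two, hz, one_zpow]
        have h := hG2.2 (Subgroup.zpowers z) h2 (fun h => hz1 (Subgroup.zpowers_eq_bot.mp h))
        unfold Cfsg.IsOfCharacteristicTwo at h
        rw [normalizer_zpowers_eq hz] at h
        exact mem_pCoreOf_of_centralizes 2 _ h (mem_centralizer_singleton.mpr hzx) hfix
      loc := fun E hE hE1 x hx hfix => mem_pCoreOf_of_centralizes p _ (hGp.2 E hE hE1) hx hfix }
  set B := A.map (Subgroup.normalizer (T : Set G)).subtype with hB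
  have hBc : IsMulCommutative B := ⟨⟨by
    rintro ⟨_, a, ha, rfl⟩ ⟨_, b, hb, rfl⟩
    have := congrArg Subtype.val (hAc.is_comm.comm ⟨a, ha⟩ ⟨b, hb⟩)
    refine Subtype.ext ?_
    show ((a * b : Subgroup.normalizer (T : Set G)) : G) = ((b * a : Subgroup.normalizer (T : Set G)) : G)
    exact congrArg Subtype.val this⟩⟩
  have hBe : ∀ b ∈ B, b ^ p = 1 := by
    rintro _ ⟨a, ha, rfl⟩
    rw [← map_pow, hAe a ha, map_one]
  have hcard : Nat.card B = Nat.card A :=
    Nat.card_congr (A.equivMapOfInjective _ (Subgroup.subtype_injective _)).toEquiv.symm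
  have hpB : IsPGroup p B := fun a => ⟨1, Subtype.ext (by simpa using hBe a a.2)⟩
  obtain ⟨i, hi⟩ := IsPGroup.iff_card.mp hpB
  have h3 : p ^ 3 ≤ Nat.card B := by
    rw [← hcard, hi, not_le, Nat.pow_lt_pow_iff_right (Fact.out : p.Prime).one_lt] at hbig
    rw [hi]
    exact Nat.pow_le_pow_right (Fact.out : p.Prime).pos hbig
  exact H.no_local hp hT hT1 (Subgroup.map_subtype_le _) hBc hBe h3

end Cfsg.Agent.S2029
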