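import Cfsg.Statements.S2035
import Cfsg.Agent.Lib.Schur.M12Cover
import Cfsg.Agent.Lib.MathieuFusion.Model

set_option autoImplicit false
open Cfsg

namespace Cfsg.Agent.S2035

open Cfsg.Agent.Lib Cfsg.Agent.Lib.Schur
open Cfsg.Agent.Lib.Computation (permRep)
open scoped Pointwise commutatorElement

/-- The cover. -/
noncomputable abbrev R := permRep 48 6 (by decide)

/-- The cover as a group of permutations. -/
noncomputable abbrev K : Subgroup (Equiv.Perm (Fin 48)) := R.grp M12Cover.g_chain

theorem check : R.checkChain M12Cover.g_chain = true :=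
  R.checkChain_of_checkClosure M12Cover.g_check

theorem card_K : Nat.card K = 190080 := (R.card_grp check).trans M12Cover.g_order

theorem trivial_K : HasCyclicSchurMultiplier K 1 := by
  have : Finite K := Nat.finite_of_card_ne_zero (by rw [card_K]; norm_num)
  refine Fusion.hasTrivialMultiplier fun p hp hd => ?_
  rw [card_K] at hd
  have hp' : p ∣ 2 ^ 7 * 3 ^ 3 * 5 * 11 := by norm_num; exact hd
  simp only [Nat.Prime.dvd_mul hp] at hp'
  rcases hp' with ((h | h) | h) | h
  · obtain rfl := (Nat.prime_dvd_prime_iff_eq hp Nat.prime_two).1 (hp.dvd_of_dvd_pow h)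
    exact PermMult.exists_two check M12Cover.two_ok (by rw [card_K]; decide +kernel)
  · obtain rfl := (Nat.prime_dvd_prime_iff_eq hp Nat.prime_three).1 (hp.dvd_of_dvd_pow h)
    exact PermMult.exists_three_extraspecial check M12Cover.three_ok M12Cover.three_gens_eq
      M12Cover.three_check M12Cover.three_order (by rw [card_K]; decide +kernel)
  · obtain rfl := (Nat.prime_dvd_prime_iff_eq hp (by norm_num)).1 h
    exact PermMult.exists_cyclic check hp M12Cover.el5_ok (by rw [card_K]; decide +kernel)
  · obtain rfl := (Nat.prime_dvd_prime_iff_eq hp (by norm_num)).1 h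
    exact PermMult.exists_cyclic check hp M12Cover.el11_ok (by rw [card_K]; decide +kernel)

theorem img_gens_mem : (M12Cover.img_gens.all MathieuFusion.memDod) = true := by decide +kernel

theorem exists_proj : ∃ σ : K →* Spor.M12, Function.Surjective σ ∧
    ∀ (g : K) (c a b : ℕ), SplitPerm.blockOk c a b = true →
      (g : Equiv.Perm (Fin 48)) = Computation.decodeP 48 6 c →
        (σ g : Equiv.Perm GolayPt) = Golay.gperm b := by
  classical
  have hgens : ∀ c ∈ M12Cover.g_gens, ∃ a b, SplitPerm.blockOk c a b = true ∧ b ∈ M12Cover.img_gens := by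
    intro c hc
    rw [← M12Cover.blocks_gens.1] at hc
    obtain ⟨t, ht, rfl⟩ := List.mem_map.1 hc
    exact ⟨t.2.1, t.2.2, List.all_eq_true.1 M12Cover.blocks_ok t ht,
      M12Cover.blocks_gens.2 ▸ List.mem_map.2 ⟨t, ht, rfl⟩⟩
  have hK : K = Subgroup.closure (Computation.decodeP 48 6 '' {s | s ∈ M12Cover.g_gens}) :=
    (R.closure_eq_grp M12Cover.g_check).symm
  have hle : K ≤ SplitPerm.blockEmb.range := by
    rw [hK, Subgroup.closure_le]
    rintro _ ⟨c, hc, rfl⟩
    obtain ⟨a, b, hab, -⟩ := hgens c hc
    exact ⟨_, (SplitPerm.decodeP_block hab).symm⟩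
  let π : K →* Equiv.Perm GolayPt := SplitPerm.proj.comp (Subgroup.inclusion hle)
  have hM : Spor.M12 = Subgroup.closure (Golay.gperm '' {s | s ∈ M12Cover.img_gens}) :=
    Golay.closure_eq_of_cert M12Cover.img_check
      (fun s hs => MathieuFusion.memDod_spec (List.all_eq_true.1 img_gens_mem s hs))
      (Golay.card_spor_M12.trans M12Cover.img_order.symm)
  have hrange : π.range = Spor.M12 := by
    have htop : Subgroup.closure (K.subtype ⁻¹' (Computation.decodeP 48 6 '' {s | s ∈ M12Cover.g_gens})) =
        ⊤ := by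
      apply Subgroup.map_injective K.subtype_injective
      rw [MonoidHom.map_closure, ← MonoidHom.range_eq_map, Subgroup.range_subtype]
      conv_rhs => rw [hK]
      congr 1
      refine Set.image_preimage_eq_of_subset ?_
      rw [Subgroup.coe_subtype, Subtype.range_coe]
      intro x hx
      rw [hK]
      exact Subgroup.subset_closure hx
    rw [MonoidHom.range_eq_map, ← htop, MonoidHom.map_closure, hM]
    congr 1
    ext y
    constructor
    · rintro ⟨g, ⟨c, hc, hg⟩, rfl⟩
      obtain ⟨a, b, hab, hb⟩ := hgens c hc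
      exact ⟨b, hb, (SplitPerm.proj_of_block hab _ hg.symm).symm⟩
    · rintro ⟨b, hb, rfl⟩
      rw [Set.mem_ofPred_eq, ← M12Cover.blocks_gens.2] at hb
      obtain ⟨t, ht, rfl⟩ := List.mem_map.1 hb
      have hc : t.1 ∈ M12Cover.g_gens := M12Cover.blocks_gens.1 ▸ List.mem_map.2 ⟨t, ht, rfl⟩
      refine ⟨⟨Computation.decodeP 48 6 t.1, hK ▸ Subgroup.subset_closure ⟨_, hc, rfl⟩⟩, ⟨_, hc, rfl⟩, ?_⟩
      exact SplitPerm.proj_of_block (List.all_eq_true.1 M12Cover.blocks_ok t ht) _ rfl
  have hmem : ∀ g, π g ∈ Spor.M12 := fun g => hrange ▸ ⟨g, rfl⟩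
  refine ⟨π.codRestrict Spor.M12 hmem, ?_, fun g c a b h hg => SplitPerm.proj_of_block h _ hg⟩
  intro y
  obtain ⟨g, hg⟩ : (y : Equiv.Perm GolayPt) ∈ π.range := by rw [hrange]; exact y.2
  exact ⟨g, Subtype.ext hg⟩

/-- The Schur multiplier of the Mathieu group M₁₂ (the stabiliser of a dodecad in the automorphism group of the length-24 binary code) is cyclic of order 2; here the Schur multiplier is described through stem extensions, as in the definitions: surjective homomorphisms onto the group from a finite group, whose kernel is central in that finite group and contained in that finite group's commutator subgroup. -/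
theorem result : Cfsg.HasCyclicSchurMultiplier ↥Cfsg.Spor.M12 2 := by
  have : Finite K := Nat.finite_of_card_ne_zero (by rw [card_K]; norm_num)
  obtain ⟨σ, hσ, hσb⟩ := exists_proj
  have h := M12Cover.z_ok
  simp only [Bool.and_eq_true, List.all_eq_true] at h
  obtain ⟨⟨⟨⟨⟨⟨⟨hz, hx⟩, hy⟩, hz1⟩, hblock⟩, hcomm⟩, hxy⟩, hzz⟩ := h
  have iz := PermMult.el_has check hz
  have ix := PermMult.el_has check hx
  have iy := PermMult.el_has check hy
  set z := PermMult.el check hz with hzdef
  have hzσ : σ z = 1 := Subtype.ext ((hσb z _ _ _ hblock iz.2).trans Golay.gperm_oneCode)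
  have hcard : Nat.card σ.ker = 2 := by
    have h1 := σ.ker.card_mul_index
    rw [Subgroup.index_ker, MonoidHom.range_eq_top.2 hσ, Subgroup.card_top, Golay.card_spor_M12,
      card_K] at h1
    omega
  have hz2 : z ^ 2 = 1 := by rw [pow_two]; exact (iz.mul iz).eq PermMult.hasOne hzz
  have : Fact (Nat.Prime 2) := ⟨Nat.prime_two⟩
  have hker : σ.ker = Subgroup.zpowers z := (Subgroup.eq_of_le_of_card_ge
    (Subgroup.zpowers_le.2 hzσ) (by
      rw [hcard, Nat.card_zpowers, orderOf_eq_prime hz2 (iz.ne_one hz1)])).symm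
  have hcen : z ∈ Subgroup.center K := by
    rw [Subgroup.mem_center_iff]
    intro g
    have hle : K ≤ Subgroup.centralizer {(z : Equiv.Perm (Fin 48))} := by
      rw [show K = Subgroup.closure (Computation.decodeP 48 6 '' {s | s ∈ M12Cover.g_gens}) from
        (R.closure_eq_grp M12Cover.g_check).symm, Subgroup.closure_le]
      rintro _ ⟨c, hc, rfl⟩
      rw [SetLike.mem_coe, Subgroup.mem_centralizer_singleton_iff, iz.2]
      have hok : Computation.okPerm 48 6 c = true := by
        have h := M12Cover.g_check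
        simp only [Computation.Rep.checkClosure, Bool.and_eq_true, List.all_eq_true] at h
        exact (h.1.2 c hc).1
      rw [← Computation.decodeP_mulP hok iz.1, ← Computation.decodeP_mulP iz.1 hok,
        Nat.eq_of_beq_eq_true (hcomm c hc)]
    exact Subtype.ext (Subgroup.mem_centralizer_singleton_iff.1 (hle g.2))
  have hstem : IsStemExtension σ := by
    refine ⟨hσ, hker ▸ Subgroup.zpowers_le.2 hcen, hker ▸ Subgroup.zpowers_le.2 ?_⟩
    have he : ⁅PermMult.el check hx, PermMult.el check hy⁆ = z := by
      rw [commutatorElement_def, mul_inv_eq_iff_eq_mul, mul_inv_eq_iff_eq_mul]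
      exact (ix.mul iy).eq ((iz.mul iy).mul ix) hxy
    rw [← he]
    exact Subgroup.commutator_mem_commutator (Subgroup.mem_top _) (Subgroup.mem_top _)
  have : IsCyclic σ.ker := isCyclic_of_prime_card hcard
  exact PermMult.hasSchurMultiplier_of_cover σ hstem trivial_K
    (mulEquivOfCyclicCardEq (by rw [hcard, Nat.card_congr Multiplicative.toAdd, Nat.card_zmod]))

end Cfsg.Agent.S2035
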