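import Cfsg.Statements.S2037
import Cfsg.Agent.Lib.Schur.M23Mult

set_option autoImplicit false
open Cfsg

namespace Cfsg.Agent.S2037

open Cfsg.Agent.Lib Cfsg.Agent.Lib.Schur
open scoped Pointwise

/-- The Schur multiplier of the Mathieu group M₂₃ (the stabiliser of a point in the automorphism group of the length-24 binary code) is trivial; here the Schur multiplier is described through stem extensions, as in the definitions: surjective homomorphisms onto the group from a finite group, whose kernel is central in that finite group and contained in that finite group's commutator subgroup. -/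
theorem result : Cfsg.HasCyclicSchurMultiplier ↥Cfsg.Spor.M23 1 := by
  have hK : ∀ g, g ∈ Spor.M23 ↔ M23Mult.spec.Holds g := by
    intro g
    simp only [M23Mult.spec, OutTrivial.Spec.Holds, List.not_mem_nil, IsEmpty.forall_iff, implies_true,
      and_true, List.mem_singleton, forall_eq]
    have h0 : ∀ q : GolayPt, Golay.idx q = 23 ↔ q = none := by decide +kernel
    rw [h0, show Golay.pt 23 = none from rfl, Spor.M23, Subgroup.mem_inf,
      MulAction.mem_stabilizer_iff]
    rfl
  haveI : Finite ↥Spor.M23 := Nat.finite_of_card_ne_zero (by rw [Golay.card_spor_M23]; norm_num)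
  refine Fusion.hasTrivialMultiplier fun p hp hd => ?_
  rw [Golay.card_spor_M23] at hd
  have hp' : p ∣ 2 ^ 7 * 3 ^ 2 * 5 * 7 * 11 * 23 := by norm_num; exact hd
  simp only [Nat.Prime.dvd_mul hp] at hp'
  rcases hp' with ((((h | h) | h) | h) | h) | h
  · obtain rfl := (Nat.prime_dvd_prime_iff_eq hp Nat.prime_two).1 (hp.dvd_of_dvd_pow h)
    exact GolayMult.exists_two hK M23Mult.two_ok (by rw [Golay.card_spor_M23]; decide +kernel)
  · obtain rfl := (Nat.prime_dvd_prime_iff_eq hp Nat.prime_three).1 (hp.dvd_of_dvd_pow h)
    exact GolayMult.exists_three_abelian hK M23Mult.spec_ok M23Mult.three_ok M23Mult.three_gens_eq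
      M23Mult.three_check M23Mult.three_order (by rw [Golay.card_spor_M23]; decide +kernel)
  · obtain rfl := (Nat.prime_dvd_prime_iff_eq hp (by norm_num)).1 h
    exact GolayMult.exists_cyclic hK M23Mult.spec_ok hp M23Mult.el5_ok
      (by rw [Golay.card_spor_M23]; decide +kernel)
  · obtain rfl := (Nat.prime_dvd_prime_iff_eq hp (by norm_num)).1 h
    exact GolayMult.exists_cyclic hK M23Mult.spec_ok hp M23Mult.el7_ok
      (by rw [Golay.card_spor_M23]; decide +kernel)
  · obtain rfl := (Nat.prime_dvd_prime_iff_eq hp (by norm_num)).1 h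
    exact GolayMult.exists_cyclic hK M23Mult.spec_ok hp M23Mult.el11_ok
      (by rw [Golay.card_spor_M23]; decide +kernel)
  · obtain rfl := (Nat.prime_dvd_prime_iff_eq hp (by norm_num)).1 h
    exact GolayMult.exists_cyclic hK M23Mult.spec_ok hp M23Mult.el23_ok
      (by rw [Golay.card_spor_M23]; decide +kernel)

end Cfsg.Agent.S2037
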