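import Cfsg.Statements.S2039
import Cfsg.Agent.Lib.SporMatrix.J1
import Cfsg.Agent.Lib.Schur.Fusion

set_option autoImplicit false
open Cfsg

namespace Cfsg.Agent.S2039

open Cfsg.Agent.Lib.SporMatrix.J1 Cfsg.Agent.Lib.SporMatrix Cfsg.Agent.Lib.Schur.Fusion

/-- A word normalising the Sylow 2-subgroup and acting on it as a Singer cycle. -/
def singer : List ℕ := [1, 0, 1, 0, 1, 0, 1, 0, 1, 0, 1, 0, 0, 1]

theorem singer_spec (i j : Fin 8)
    (h : Code7.beq (codeW (singer ++ J1Words.sylowTwo.getD i.1 []))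
      (codeW (J1Words.sylowTwo.getD j.1 [] ++ singer)) = true) :
    evJ singer * two i * (evJ singer)⁻¹ = two j := by
  rw [mul_inv_eq_iff_eq_mul]
  have := evJ_eq h
  rwa [evJ_append, evJ_append] at this

theorem cyclic_case {q : ℕ} [Fact q.Prime] (hfac : ¬ q ^ 2 ∣ 175560) {a : List ℕ} (ha : orderOf (evJ a) = q) :
    ∃ P : Subgroup ↥Cfsg.Spor.J1, ¬ q ∣ P.index ∧ KillsPart q P := by
  refine ⟨Subgroup.zpowers (evJ a), fun hd => hfac ?_, killsPart_zpowers q _⟩
  have h := (Subgroup.zpowers (evJ a)).card_mul_index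
  rw [Nat.card_zpowers, ha, card_J1] at h
  rw [← h, pow_two]
  exact Nat.mul_dvd_mul_left q hd

theorem two_case : ∃ P : Subgroup ↥Cfsg.Spor.J1, ¬ 2 ∣ P.index ∧ KillsPart 2 P := by
  refine ⟨sylowTwoSubgroup, ?_, killsPart_of_singer 2 _ (two 1) (two 7) (two 4) (evJ singer) ?_ ?_ ?_ ?_ ?_ ?_
    ?_ ?_ ?_⟩
  · intro hd
    have h := sylowTwoSubgroup.card_mul_index
    rw [card_sylowTwoSubgroup, card_J1] at h
    omega
  · rintro _ ⟨i, rfl⟩
    have hm : ∀ k : Fin 8, k = 1 ∨ k = 7 ∨ k = 4 →
        two k ∈ Subgroup.closure ({two 1, two 7, two 4} : Set ↥Cfsg.Spor.J1) := by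
      rintro k (rfl | rfl | rfl) <;> exact Subgroup.subset_closure (by simp)
    have hx : ∀ a b : Fin 8, two a ∈ Subgroup.closure ({two 1, two 7, two 4} : Set ↥Cfsg.Spor.J1) →
        two b ∈ Subgroup.closure ({two 1, two 7, two 4} : Set ↥Cfsg.Spor.J1) →
        two ⟨Nat.xor a.1 b.1, Nat.xor_lt_two_pow (n := 3) a.2 b.2⟩ ∈
          Subgroup.closure ({two 1, two 7, two 4} : Set ↥Cfsg.Spor.J1) := fun a b ha hb => by
      rw [← two_mul_two]; exact mul_mem ha hb
    have h1 := hm 1 (by simp)
    have h7 := hm 7 (by simp)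
    have h4 := hm 4 (by simp)
    have h6 := hx 1 7 h1 h7
    have h5 := hx 1 4 h1 h4
    have h3 := hx 7 4 h7 h4
    have h2 := hx _ 4 h6 h4
    have h0 : two 0 ∈ Subgroup.closure ({two 1, two 7, two 4} : Set ↥Cfsg.Spor.J1) := by
      rw [two_zero]; exact one_mem _
    match i, i.2 with
    | ⟨0, _⟩, _ => exact h0
    | ⟨1, _⟩, _ => exact h1
    | ⟨2, _⟩, _ => exact h2
    | ⟨3, _⟩, _ => exact h3
    | ⟨4, _⟩, _ => exact h4
    | ⟨5, _⟩, _ => exact h5
    | ⟨6, _⟩, _ => exact h6
    | ⟨7, _⟩, _ => exact h7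
  · show _ * _ = _ * _
    rw [two_mul_two, two_mul_two]; rfl
  · show _ * _ = _ * _
    rw [two_mul_two, two_mul_two]; rfl
  · show _ * _ = _ * _
    rw [two_mul_two, two_mul_two]; rfl
  · rw [pow_two, two_mul_two]; exact two_zero
  · rw [pow_two, two_mul_two]; exact two_zero
  · exact singer_spec 1 7 (by decide +kernel)
  · exact singer_spec 7 4 (by decide +kernel)
  · rw [singer_spec 4 6 (by decide +kernel), two_mul_two]; rfl

/-- The Schur multiplier of the Janko group J₁ (the group generated by two explicit 7 × 7 matrices over the integers modulo 11) is trivial; here the Schur multiplier is described through stem extensions, as in the definitions: surjective homomorphisms onto the group from a finite group, whose kernel is central in that finite group and contained in that finite group's commutator subgroup. -/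
theorem result : Cfsg.HasCyclicSchurMultiplier ↥Cfsg.Spor.J1 1 := by
  haveI : Finite ↥Cfsg.Spor.J1 := Nat.finite_of_card_ne_zero (by rw [card_J1]; norm_num)
  refine hasTrivialMultiplier fun p hp hd => ?_
  rw [card_J1] at hd
  have hp' : p ∣ 2 ^ 3 * 3 * 5 * 7 * 11 * 19 := by norm_num; exact hd
  haveI := Fact.mk hp
  simp only [Nat.Prime.dvd_mul hp] at hp'
  rcases hp' with ((((h | h) | h) | h) | h) | h
  · obtain rfl := (Nat.prime_dvd_prime_iff_eq hp Nat.prime_two).1 (hp.dvd_of_dvd_pow h)
    exact two_case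
  · obtain rfl := (Nat.prime_dvd_prime_iff_eq hp (by norm_num)).1 h
    exact cyclic_case (by norm_num) (a := [1, 0, 1, 0, 1, 0, 0, 0]) (orderOf_evJ J1Data.lvA.base (by decide +kernel) (by decide +kernel))
  · obtain rfl := (Nat.prime_dvd_prime_iff_eq hp (by norm_num)).1 h
    exact cyclic_case (by norm_num) (a := [1]) (orderOf_evJ J1Data.lvA.base (by decide +kernel) (by decide +kernel))
  · obtain rfl := (Nat.prime_dvd_prime_iff_eq hp (by norm_num)).1 h
    exact cyclic_case (by norm_num) (a := [0]) (orderOf_evJ J1Data.lvA.base (by decide +kernel) (by decide +kernel))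
  · obtain rfl := (Nat.prime_dvd_prime_iff_eq hp (by norm_num)).1 h
    exact cyclic_case (by norm_num) (a := [1, 1, 0]) (orderOf_evJ J1Data.lvA.base (by decide +kernel) (by decide +kernel))
  · obtain rfl := (Nat.prime_dvd_prime_iff_eq hp (by norm_num)).1 h
    exact cyclic_case (by norm_num) (a := [1, 0, 0, 0]) (orderOf_evJ J1Data.lvA.base (by decide +kernel) (by decide +kernel))

end Cfsg.Agent.S2039
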