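import Cfsg.Statements.S2061
import Cfsg.Agent.Lib.OutTrivial.CertM12

set_option autoImplicit false
open Cfsg

namespace Cfsg.Agent.S2061

open Cfsg.Agent.Lib
open scoped Pointwise

/-- The outer automorphism group of the Mathieu group M₁₂ (the stabiliser of a dodecad in the automorphism group of the length-24 binary code) has order 2. -/
theorem result : Nat.card (Cfsg.Out ↥Cfsg.Spor.M12) = 2 := by
  have hK : ∀ g, g ∈ Spor.M12 ↔ OutTrivial.M12Cert.data.spec.Holds g := by
    intro g
    simp only [OutTrivial.M12Cert.data, OutTrivial.Spec.Holds, List.not_mem_nil, IsEmpty.forall_iff, implies_true,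
      true_and, List.mem_singleton, forall_eq]
    rw [Spor.M12, Subgroup.mem_inf, MulAction.mem_stabilizer_iff, Golay.squareDodecad_eq]
    rfl
  open OutTrivial.M12Cert in
  exact OutTrivial.card_out_two_of_cert hK ok (show data.p.Prime by decide +kernel) okExp okOuter
    (by rw [Golay.card_spor_M12]; decide +kernel) gens_eq g_check (Golay.card_spor_M12.trans order_eq.symm)

end Cfsg.Agent.S2061
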