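import Cfsg.Statements.S2063
import Cfsg.Agent.Lib.OutTrivial.CertM23

set_option autoImplicit false
open Cfsg

namespace Cfsg.Agent.S2063

open Cfsg.Agent.Lib
open scoped Pointwise

/-- The outer automorphism group of the Mathieu group M₂₃ (the stabiliser of a point in the automorphism group of the length-24 binary code) is trivial: every automorphism is inner. -/
theorem result : Nat.card (Cfsg.Out ↥Cfsg.Spor.M23) = 1 := by
  have hK : ∀ g, g ∈ Spor.M23 ↔ OutTrivial.M23Cert.data.spec.Holds g := by
    intro g
    simp only [OutTrivial.M23Cert.data, OutTrivial.Spec.Holds, List.not_mem_nil, IsEmpty.forall_iff, implies_true,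
      and_true, List.mem_singleton, forall_eq]
    have h0 : ∀ q : GolayPt, Golay.idx q = 23 ↔ q = none := by decide +kernel
    rw [h0, show Golay.pt 23 = none from rfl, Spor.M23, Subgroup.mem_inf,
      MulAction.mem_stabilizer_iff]
    rfl
  open OutTrivial.M23Cert in
  exact OutTrivial.card_out_one_of_cert hK ok (show data.p.Prime by decide +kernel) okExp 
    (by rw [Golay.card_spor_M23]; decide +kernel) gens_eq g_check (Golay.card_spor_M23.trans order_eq.symm)

end Cfsg.Agent.S2063
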