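import Cfsg.Statements.S2066
import Cfsg.Agent.Lib.OutTrivial.J2Out

set_option autoImplicit false
open Cfsg

namespace Cfsg.Agent.S2066

open Cfsg.Agent.Lib

/-- An isomorphism carries inner automorphisms onto inner automorphisms. -/
noncomputable def outTransport {E F : Type*} [Group E] [Group F] (e : E ≃* F) : Out E ≃* Out F :=
  QuotientGroup.congr _ _ (MulAut.congr e) (by
    ext φ
    constructor
    · rintro ⟨_, ⟨g, rfl⟩, rfl⟩
      exact ⟨e g, MulEquiv.ext fun x => by simp [MulAut.congr]⟩
    · rintro ⟨g, rfl⟩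
      exact ⟨MulAut.conj (e.symm g), ⟨_, rfl⟩, MulEquiv.ext fun x => by simp [MulAut.congr]⟩)

/-- The outer automorphism group of the Hall–Janko group J₂ (the icosian reflection group modulo its centre) has order 2. -/
theorem result : Nat.card (Cfsg.Out Cfsg.Spor.J2) = 2 := by
  obtain ⟨e⟩ := SporJ2.exists_equiv_J2
  rw [Nat.card_congr (outTransport e).toEquiv]
  exact OutTrivial.J2Out.card_out

end Cfsg.Agent.S2066
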