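import Cfsg.Statements.S2074
import Cfsg.Agent.S1694
import Cfsg.Agent.Lib.CosetEnum.Suz1782.Enum
import Cfsg.Agent.Lib.CosetEnum.SuzOut.Check

set_option autoImplicit false
open Cfsg

namespace Cfsg.Agent.S2074

open Cfsg.Agent.Lib.CosetEnum

/-- The outer automorphism group of the Suzuki sporadic group (the finitely presented group of the definitions) has order 2. -/
theorem result : Nat.card (Cfsg.Out Cfsg.Spor.Suz) = 2 := by
  obtain ⟨ρ, hρ, -, htr⟩ := Suz1782.enum.action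
  obtain ⟨hsimple, hord⟩ := Cfsg.Agent.S1694.result
  haveI : IsSimpleGroup (PresentedGroup (Cfsg.Spor.coxRelators Cfsg.Spor.Suz.edges ∪ {r | r ∈ Cfsg.Spor.Suz.extra})) := hsimple
  have hinj : Function.Injective ρ := by
    rw [← MonoidHom.ker_eq_bot_iff]
    rcases (MonoidHom.normal_ker ρ).eq_bot_or_eq_top with h | h
    · exact h
    · exfalso
      obtain ⟨x, hx⟩ := htr ⟨1, by omega⟩
      have h1 : ρ x = 1 := by rw [← MonoidHom.mem_ker, h]; trivial
      rw [h1] at hx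
      exact absurd (congrArg Fin.val hx) (by decide)
  exact card_out_two_pres Suz1782.letters _
    (sameRels_cox Suz1782.letters [Cfsg.Spor.Suz.Gen.a, Cfsg.Spor.Suz.Gen.b, Cfsg.Spor.Suz.Gen.c, Cfsg.Spor.Suz.Gen.d, Cfsg.Spor.Suz.Gen.e, Cfsg.Spor.Suz.Gen.f, Cfsg.Spor.Suz.Gen.g] _ _ rfl (by decide +kernel))
    Suz1782.letters_ok Suz1782.table_ok.col
    (by decide +kernel) ρ hρ hinj hord (by omega) SuzOut.cert SuzOut.slp_ok (by decide) SuzOut.slpI_ok
    SuzOut.img_ok SuzOut.lx_ok SuzOut.ls_ok SuzOut.bs_ok SuzOut.rels_ok SuzOut.img_ne (by decide)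
    SuzOut.trip_ok (by decide +kernel) SuzOut.cent_x SuzOut.cent_s SuzOut.slp3_ok SuzOut.table3_ok
    SuzOut.gen3_ok (by norm_num [SuzOut.cert, SuzOut.trip]) (by norm_num [SuzOut.cert, SuzOut.trip])

end Cfsg.Agent.S2074
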