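import Cfsg.Statements.S2075
import Cfsg.Agent.S1695
import Cfsg.Agent.Lib.CosetEnum.HeOut.Check

set_option autoImplicit false
open Cfsg

namespace Cfsg.Agent.S2075

open Cfsg.Agent.Lib.CosetEnum

/-- The outer automorphism group of the Held group (the finitely presented group of the definitions) has order 2. -/
theorem result : Nat.card (Cfsg.Out Cfsg.Spor.He) = 2 := by
  obtain ⟨ρ, hρ, -, htr⟩ := He2058.enum.action
  obtain ⟨hsimple, hord⟩ := Cfsg.Agent.S1695.result
  haveI : IsSimpleGroup (PresentedGroup (Cfsg.Spor.coxRelators Cfsg.Spor.He.edges ∪ {r | r ∈ Cfsg.Spor.He.extra})) := hsimple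
  have hinj : Function.Injective ρ := by
    rw [← MonoidHom.ker_eq_bot_iff]
    rcases (MonoidHom.normal_ker ρ).eq_bot_or_eq_top with h | h
    · exact h
    · exfalso
      obtain ⟨x, hx⟩ := htr ⟨1, by omega⟩
      have h1 : ρ x = 1 := by rw [← MonoidHom.mem_ker, h]; trivial
      rw [h1] at hx
      exact absurd (congrArg Fin.val hx) (by decide)
  exact card_out_two_pres He2058.letters _ (sameRels_cox He2058.letters [Cfsg.Spor.He.Gen.a, Cfsg.Spor.He.Gen.b, Cfsg.Spor.He.Gen.c, Cfsg.Spor.He.Gen.d,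
      Cfsg.Spor.He.Gen.e, Cfsg.Spor.He.Gen.f, Cfsg.Spor.He.Gen.g] _ _ rfl (by decide +kernel))
    He2058.letters_ok He2058.table_ok.col
    (by decide +kernel) ρ hρ hinj hord (by omega) HeOut.cert HeOut.slp_ok (by decide) HeOut.slpI_ok
    HeOut.img_ok HeOut.lx_ok HeOut.ls_ok HeOut.bs_ok HeOut.rels_ok HeOut.img_ne (by decide)
    HeOut.trip_ok (by decide +kernel) HeOut.cent_x HeOut.cent_s HeOut.slp3_ok HeOut.table3_ok
    HeOut.gen3_ok (by norm_num [HeOut.cert, HeOut.trip]) (by norm_num [HeOut.cert, HeOut.trip])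

end Cfsg.Agent.S2075
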