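import Cfsg.Statements.S2078
import Cfsg.Agent.S1699
import Cfsg.Agent.Lib.CosetEnum.ON122760.Enum
import Cfsg.Agent.Lib.CosetEnum.ONOut.Facts

set_option autoImplicit false
open Cfsg

namespace Cfsg.Agent.S2078

open Cfsg.Agent.Lib.CosetEnum

/-- The outer automorphism group of the O'Nan group (the finitely presented group of the definitions) has order 2. -/
theorem result : Nat.card (Cfsg.Out Cfsg.Spor.ON) = 2 := by
  obtain ⟨hsimple, -⟩ := Cfsg.Agent.S1699.result
  haveI : IsSimpleGroup ONOrbit.G := hsimple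
  exact ONOut.out_two (sameRels_cox ON122760.letters [Cfsg.Spor.ON.Gen.a, Cfsg.Spor.ON.Gen.b, Cfsg.Spor.ON.Gen.c,
    Cfsg.Spor.ON.Gen.d, Cfsg.Spor.ON.Gen.e, Cfsg.Spor.ON.Gen.f] _ _ rfl (by decide +kernel))

end Cfsg.Agent.S2078
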