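import Cfsg.Statements.S2087
import Cfsg.Agent.Lib.Schur.Fusion
import Cfsg.Agent.Lib.Schur.CoverSL32
import Cfsg.Agent.Lib.Multiplier.Basic

set_option autoImplicit false
open Cfsg

namespace Cfsg.Agent.S2087

open scoped MatrixGroups commutatorElement
open Cfsg.Agent.Lib.Schur.CoverSL32 (ofCode cover cover_surjective cover_ker)
open Cfsg.Agent.Lib.Schur.Fusion

/-- The upper unitriangular group. -/
def unitriangular : Subgroup SL(3, ZMod 2) where
  carrier := {g | g 1 0 = 0 ∧ g 2 0 = 0 ∧ g 2 1 = 0}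
  one_mem' := by simp
  mul_mem' {g h} hg hh := by
    simp only [Set.mem_setOf_eq] at *
    simp [Matrix.SpecialLinearGroup.coe_mul, Matrix.mul_apply, Fin.sum_univ_three, hg.1, hg.2.1, hg.2.2,
      hh.1, hh.2.1, hh.2.2]
  inv_mem' {g} hg := by
    simp only [Set.mem_setOf_eq] at *
    simp [Matrix.SpecialLinearGroup.coe_inv, Matrix.adjugate_fin_three, hg.1, hg.2.1, hg.2.2]

/-- An element of order four. -/
def elA : SL(3, ZMod 2) := ⟨ofCode 307, by decide +kernel⟩

/-- An involution inverting `elA`. -/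
def elB : SL(3, ZMod 2) := ⟨ofCode 305, by decide +kernel⟩

/-- An element of order three. -/
def el3 : SL(3, ZMod 2) := ⟨ofCode 340, by decide +kernel⟩

/-- An element of order seven. -/
def el7 : SL(3, ZMod 2) := ⟨ofCode 244, by decide +kernel⟩

theorem relations : elA ^ 4 = 1 ∧ elA ^ 2 ≠ 1 ∧ elB ^ 2 = 1 ∧ elB * elA * elB⁻¹ = elA⁻¹ ∧
    el3 ^ 3 = 1 ∧ el3 ≠ 1 ∧ el7 ^ 7 = 1 ∧ el7 ≠ 1 := by
  decide +kernel

theorem card_sl : Nat.card SL(3, ZMod 2) = 168 := by
  rw [Nat.card_eq_fintype_card]; decide +kernel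

theorem card_unitriangular : Nat.card unitriangular = 8 := by
  show Nat.card {g : SL(3, ZMod 2) // g 1 0 = 0 ∧ g 2 0 = 0 ∧ g 2 1 = 0} = 8
  rw [Nat.card_eq_fintype_card]; decide +kernel

theorem unitriangular_le : unitriangular ≤ Subgroup.closure {elA, elB} := by
  have h : ∀ g : SL(3, ZMod 2), (g 1 0 = 0 ∧ g 2 0 = 0 ∧ g 2 1 = 0) →
      ∃ i : Fin 4, ∃ j : Fin 2, g = elA ^ (i : ℕ) * elB ^ (j : ℕ) := by decide +kernel
  intro g hg
  obtain ⟨i, j, rfl⟩ := h g hg
  exact mul_mem (pow_mem (Subgroup.subset_closure (by simp)) _) (pow_mem (Subgroup.subset_closure (by simp)) _)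

/-- Exceptional Schur multiplier: over the field with 2 elements, PSL₃ has Schur multiplier cyclic of order 2 (here the Schur multiplier is described through stem extensions, as in the definitions). -/
theorem result {F : Type*} [Field F] [Fintype F] (hF : Fintype.card F = 2) : Cfsg.HasCyclicSchurMultiplier (Matrix.ProjectiveSpecialLinearGroup (Fin 3) F) 2 := by
  classical
  let f : ZMod 2 ≃+* F := ZMod.ringEquivOfPrime F Nat.prime_two hF
  let m : SL(3, ZMod 2) →* Matrix.ProjectiveSpecialLinearGroup (Fin 3) F :=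
    (QuotientGroup.mk' _).comp (Matrix.SpecialLinearGroup.map (f : ZMod 2 →+* F))
  have htwo : ∀ r : F, r ^ 3 = 1 → r = 1 := by
    intro r hr
    obtain ⟨x, rfl⟩ := f.surjective r
    have key : ∀ y : ZMod 2, y ^ 3 = 1 → y = 1 := by decide
    rw [key x (f.injective (by rw [map_pow, hr, map_one])), map_one]
  have hm : Function.Bijective m := by
    constructor
    · rw [← MonoidHom.ker_eq_bot_iff, eq_bot_iff]
      intro x hx
      have hc := (QuotientGroup.eq_one_iff _).1 (MonoidHom.mem_ker.1 hx)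
      obtain ⟨r, hr, hr'⟩ := Matrix.SpecialLinearGroup.mem_center_iff.1 hc
      rw [Fintype.card_fin] at hr
      rw [htwo r hr] at hr'
      refine Subgroup.mem_bot.2 (Matrix.SpecialLinearGroup.ext x 1 fun i j => f.injective ?_)
      have h := congrFun (congrFun hr' i) j
      simp only [Matrix.scalar_apply, Matrix.diagonal_apply] at h
      rw [Matrix.SpecialLinearGroup.coe_one, Matrix.one_apply, apply_ite f, map_one, map_zero, h]
      rfl
    · intro y
      obtain ⟨z, rfl⟩ := QuotientGroup.mk'_surjective _ y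
      refine ⟨Matrix.SpecialLinearGroup.map (f.symm : F →+* ZMod 2) z, congrArg (QuotientGroup.mk' _) ?_⟩
      ext i j
      exact f.apply_symm_apply _
  let e : SL(3, ZMod 2) ≃* Matrix.ProjectiveSpecialLinearGroup (Fin 3) F := MulEquiv.ofBijective m hm
  haveI : Finite (Matrix.ProjectiveSpecialLinearGroup (Fin 3) F) := Finite.of_equiv _ e.toEquiv
  have hcard : Nat.card (Matrix.ProjectiveSpecialLinearGroup (Fin 3) F) = 168 := by
    rw [← Nat.card_congr e.toEquiv, card_sl]
  obtain ⟨hA, hA2, hB, hBA, h3, h31, h7, h71⟩ := relations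
  let P := unitriangular.map e.toMonoidHom
  have hP : P ≤ Subgroup.closure {e elA, e elB} := by
    have h := Subgroup.map_mono (f := e.toMonoidHom) unitriangular_le
    rwa [MonoidHom.map_closure, Set.image_pair] at h
  have hidx : ¬ 2 ∣ P.index := by
    have h1 : Nat.card P = 8 := by
      rw [← Nat.card_congr (unitriangular.equivMapOfInjective e.toMonoidHom e.injective).toEquiv,
        card_unitriangular]
    have h2 := P.card_mul_index
    rw [h1, hcard] at h2
    omega
  have hodd : ∀ p : ℕ, p.Prime → p ≠ 2 → p ∣ Nat.card (Matrix.ProjectiveSpecialLinearGroup (Fin 3) F) →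
      ∃ Q : Subgroup (Matrix.ProjectiveSpecialLinearGroup (Fin 3) F), ¬ p ∣ Q.index ∧ KillsPart p Q := by
    intro p hp hp2 hpd
    rw [hcard] at hpd
    have mk : ∀ g : SL(3, ZMod 2), g ^ p = 1 → g ≠ 1 → ¬ p * p ∣ 168 →
        ∃ Q : Subgroup (Matrix.ProjectiveSpecialLinearGroup (Fin 3) F), ¬ p ∣ Q.index ∧ KillsPart p Q := by
      intro g hg hg1 hsq
      refine ⟨Subgroup.zpowers (e g), fun hd => hsq ?_, killsPart_zpowers p _⟩
      have hord : orderOf (e g) = p := by
        rw [MulEquiv.orderOf_eq]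
        haveI := Fact.mk hp
        exact orderOf_eq_prime hg hg1
      have h2 := (Subgroup.zpowers (e g)).card_mul_index
      rw [Nat.card_zpowers, hord, hcard] at h2
      rw [← h2]
      exact Nat.mul_dvd_mul_left p hd
    have hp' : p ∣ 2 ^ 3 * 3 * 7 := by norm_num; exact hpd
    rcases (Nat.Prime.dvd_mul hp).1 hp' with h | h
    · rcases (Nat.Prime.dvd_mul hp).1 h with h | h
      · exact absurd ((Nat.prime_dvd_prime_iff_eq hp Nat.prime_two).1 (hp.dvd_of_dvd_pow h)) hp2
      · rw [(Nat.prime_dvd_prime_iff_eq hp Nat.prime_three).1 h] at mk ⊢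
        exact mk el3 h3 h31 (by norm_num)
    · rw [(Nat.prime_dvd_prime_iff_eq hp (by norm_num)).1 h] at mk ⊢
      exact mk el7 h7 h71 (by norm_num)
  let σ : SL(2, ZMod 7) →* Matrix.ProjectiveSpecialLinearGroup (Fin 3) F := e.toMonoidHom.comp cover
  have hker : ∀ g, g ∈ σ.ker ↔ g = 1 ∨ g = -1 := fun g => by
    rw [← cover_ker, MonoidHom.mem_ker, MonoidHom.mem_ker]
    exact e.map_eq_one_iff
  have hstem : Cfsg.IsStemExtension σ := by
    refine ⟨e.surjective.comp cover_surjective, fun g hg => ?_, fun g hg => ?_⟩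
    · rw [Subgroup.mem_center_iff]
      intro x
      rcases (hker g).1 hg with rfl | rfl <;> simp
    · rcases (hker g).1 hg with rfl | rfl
      · exact one_mem _
      · let x : SL(2, ZMod 7) := ⟨!![0, -1; 1, 0], by decide +kernel⟩
        let y : SL(2, ZMod 7) := ⟨!![2, 3; 3, -2], by decide +kernel⟩
        have hc : (-1 : SL(2, ZMod 7)) = ⁅x, y⁆ := by decide +kernel
        rw [hc, commutator_def]
        exact Subgroup.commutator_mem_commutator trivial trivial
  have hk2 : Nat.card σ.ker = 2 := by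
    rw [show σ.ker = Subgroup.zpowers (-1 : SL(2, ZMod 7)) from le_antisymm
      (fun g hg => by rcases (hker g).1 hg with rfl | rfl; exacts [one_mem _, Subgroup.mem_zpowers _])
      (Subgroup.zpowers_le.2 ((hker _).2 (Or.inr rfl))), Nat.card_zpowers]
    exact orderOf_eq_prime (by decide +kernel) (by decide +kernel)
  haveI : Fact (Nat.Prime 2) := ⟨Nat.prime_two⟩
  haveI := isCyclic_of_prime_card hk2
  refine Cfsg.Agent.Lib.Multiplier.hasSchurMultiplier_of_cover σ hstem
    (mulEquivOfCyclicCardEq (by rw [hk2, Nat.card_congr Multiplicative.toAdd, Nat.card_zmod])) ?_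
  intro Δ _ _ τ hτ
  have hA' : e elA ^ 4 = 1 := by rw [← map_pow, hA, map_one]
  obtain ⟨w, hw, hwk⟩ := kernel_cyclic_of_dihedral hP hidx hA'
    (by rw [← map_pow, ne_eq, e.map_eq_one_iff]; exact hA2) (by rw [← map_pow, hB, map_one])
    (by rw [← map_inv, ← map_mul, ← map_mul, hBA, map_inv]) hodd hτ
  rw [hwk, Nat.card_zpowers, Nat.card_congr Multiplicative.toAdd, Nat.card_zmod]
  exact Nat.le_of_dvd two_pos (orderOf_dvd_of_pow_eq_one hw)

end Cfsg.Agent.S2087
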