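import Cfsg.Statements.S2091
import Cfsg.Agent.Lib.MultU62.Main
import Cfsg.Agent.Lib.Schur.Universe
import Mathlib.FieldTheory.Finite.GaloisField

set_option autoImplicit false
open Cfsg

namespace Cfsg.Agent.S2091

open Cfsg.Agent.Lib.G24

/-- The special unitary groups over isomorphic fields. -/
theorem mem_map {F : Type*} [Field F] {E : Type*} [Field E] (e : F ≃+* E) {A : Matrix.SpecialLinearGroup (Fin 6) F}
    (hA : A ∈ Cfsg.SU 6 F 2) :
    Matrix.SpecialLinearGroup.map e.toRingHom A ∈ Cfsg.SU 6 E 2 := by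
  intro u v
  have hh : ∀ x y : Fin 6 → F, Cfsg.hermForm 6 E 2 (e ∘ x) (e ∘ y) = e (Cfsg.hermForm 6 F 2 x y) :=
    fun x y => by simp [Cfsg.hermForm, map_sum, map_mul, map_pow]
  obtain ⟨x, rfl⟩ : ∃ x, ⇑e ∘ x = u := ⟨e.symm ∘ u, funext fun j => e.apply_symm_apply _⟩
  obtain ⟨y, rfl⟩ : ∃ y, ⇑e ∘ y = v := ⟨e.symm ∘ v, funext fun j => e.apply_symm_apply _⟩
  have hm : ∀ x : Fin 6 → F, (Matrix.SpecialLinearGroup.map e.toRingHom A :
      Matrix (Fin 6) (Fin 6) E).mulVec (e ∘ x) = e ∘ ((A : Matrix (Fin 6) (Fin 6) F).mulVec x) :=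
    fun x => funext fun k => (RingHom.map_mulVec e.toRingHom (A : Matrix (Fin 6) (Fin 6) F) x k).symm
  show Cfsg.hermForm 6 E 2 _ _ = _
  rw [show Cfsg.slToMat 6 E (Matrix.SpecialLinearGroup.map e.toRingHom A) =
    (Matrix.SpecialLinearGroup.map e.toRingHom A : Matrix (Fin 6) (Fin 6) E) from rfl, hm, hm, hh, hh]
  exact congrArg e (hA x y)

/-- The special unitary group transported along a field isomorphism. -/
def suEquiv {F : Type*} [Field F] {E : Type*} [Field E] (e : F ≃+* E) : Cfsg.SU 6 F 2 ≃* Cfsg.SU 6 E 2 where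
  toFun A := ⟨_, mem_map e A.2⟩
  invFun A := ⟨_, mem_map e.symm A.2⟩
  left_inv A := Subtype.ext (Subtype.ext (Matrix.ext fun i j => e.symm_apply_apply _))
  right_inv A := Subtype.ext (Subtype.ext (Matrix.ext fun i j => e.apply_symm_apply _))
  map_mul' A B := Subtype.ext (map_mul _ A.1 B.1)

/-- Exceptional Schur multiplier: PSU₆(2), realised over the field with 4 elements, has Schur multiplier isomorphic to the product of cyclic groups of orders 3, 2 and 2 (order 12, not cyclic; here the Schur multiplier is described through stem extensions, as in the definitions). -/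
theorem result {F : Type*} [Field F] [Fintype F] (hF : Fintype.card F = 4) : Cfsg.HasSchurMultiplier (Cfsg.PSU 6 F 2) (Multiplicative (ZMod 3 × ZMod 2 × ZMod 2)) := by
  let e : K4 ≃+* F := FiniteField.ringEquivOfCardEq (K4.card_eq.trans hF.symm)
  let E := suEquiv e
  have hmap : (Subgroup.center (Cfsg.SU 6 K4 2)).map E = Subgroup.center (Cfsg.SU 6 F 2) := by
    ext x
    obtain ⟨y, rfl⟩ := E.surjective x
    rw [show E y ∈ (Subgroup.center (Cfsg.SU 6 K4 2)).map E ↔ y ∈ Subgroup.center (Cfsg.SU 6 K4 2) from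
      ⟨fun ⟨z, hz, hzy⟩ => E.injective hzy ▸ hz, fun h => ⟨y, h, rfl⟩⟩, Subgroup.mem_center_iff,
      Subgroup.mem_center_iff]
    refine ⟨fun h g => ?_, fun h g => E.injective (by rw [map_mul, map_mul]; exact h (E g))⟩
    obtain ⟨g, rfl⟩ := E.surjective g
    rw [← map_mul, ← map_mul, h g]
  exact Lib.Schur.Universe.hasSchurMultiplier_lift (QuotientGroup.congr _ _ E hmap)
    Lib.MultU62.multiplier

end Cfsg.Agent.S2091
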