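import Cfsg.Statements.S2094
import Cfsg.Agent.Lib.OrthMult.Instances

set_option autoImplicit false
open Cfsg

namespace Cfsg.Agent.S2094

/-- Schur multipliers of the odd-dimensional orthogonal groups: for m ≥ 3 and a field F of odd order q with (m, q) ≠ (3, 3), the Schur multiplier of PΩ_(2m+1)(F) (for the form x₀² + Σ xᵢyᵢ) is cyclic of order 2 = gcd(2, q − 1); here the Schur multiplier is described through stem extensions, as in the definitions. -/
theorem result {F : Type*} [Field F] [Fintype F] {q : ℕ} (hF : Fintype.card F = q) (hq : Odd q) (m : ℕ) (hm : 3 ≤ m) (hexc : ¬ (m = 3 ∧ q = 3)) : Cfsg.HasCyclicSchurMultiplier (Cfsg.POmega F (Cfsg.quadFormOdd m F)) 2 := by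
  classical
  have h2 : (2 : F) ≠ 0 := Lib.OrthOmega.two_ne_zero_of_odd (hF ▸ hq)
  have hn := Lib.OrthOmega.qOddC_nondeg (F := F) m h2
  have hfr : Module.finrank F (Unit ⊕ (Fin m ⊕ Fin m) → F) = 2 * m + 1 := by
    rw [Lib.OrthOmega.finrank_fun]; simp; omega
  have G : Lib.OrthMult.Generic (Lib.OrthStd.qOddC m F) :=
    Lib.OrthMult.generic_of_card hn (by omega)
      (fun h => by
        have : m ≠ 3 := fun hm3 => hexc ⟨hm3, by omega⟩
        omega)
      (fun h => absurd hq (by rw [← hF, h]; decide))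
  exact Lib.OrthMult.multiplier_odd_two G h2
    (Lib.OrthMult.not_hasNeg_of_odd hn (by omega) (by rw [hfr]; exact odd_two_mul_add_one m) h2)
    (Lib.OrthOmega.pOmegaEquiv (Lib.OrthStd.qOddC m F) hn (by omega) (Lib.OrthStd.quadFormOdd_eq m))

end Cfsg.Agent.S2094
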