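import Cfsg.Statements.S2095
import Cfsg.Agent.Lib.MultO73.Main
import Cfsg.Agent.Lib.Schur.Universe
import Cfsg.Agent.Lib.OrthOmega.Simple
import Cfsg.Agent.Lib.Forms.Bridge

set_option autoImplicit false
open Cfsg

namespace Cfsg.Agent.S2095

open Cfsg.Agent.Lib

/-- Exceptional Schur multiplier: over the field with 3 elements, PΩ₇ (for the form x₀² + Σ xᵢyᵢ) has Schur multiplier cyclic of order 6 (the product of cyclic groups of orders 3 and 2; here the Schur multiplier is described through stem extensions, as in the definitions). -/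
theorem result {F : Type*} [Field F] [Fintype F] (hF : Fintype.card F = 3) : Cfsg.HasCyclicSchurMultiplier (Cfsg.POmega F (Cfsg.quadFormOdd 3 F)) 6 := by
  classical
  let e : ZMod 3 ≃+* F := ZMod.ringEquivOfPrime F Nat.prime_three hF
  let q₀ := Cfsg.quadFormOdd 3 (ZMod 3)
  let E : GL (Unit ⊕ (Fin 3 ⊕ Fin 3)) (ZMod 3) ≃* GL (Unit ⊕ (Fin 3 ⊕ Fin 3)) F :=
    Units.mapEquiv e.mapMatrix.toMulEquiv
  have hmv : ∀ (g : GL (Unit ⊕ (Fin 3 ⊕ Fin 3)) (ZMod 3)) (u : Unit ⊕ (Fin 3 ⊕ Fin 3) → ZMod 3),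
      ((E g : GL (Unit ⊕ (Fin 3 ⊕ Fin 3)) F) : Matrix (Unit ⊕ (Fin 3 ⊕ Fin 3)) (Unit ⊕ (Fin 3 ⊕ Fin 3)) F).mulVec (e ∘ u) =
        e ∘ ((g : Matrix (Unit ⊕ (Fin 3 ⊕ Fin 3)) (Unit ⊕ (Fin 3 ⊕ Fin 3)) (ZMod 3)).mulVec u) := fun g u =>
    funext fun k => (RingHom.map_mulVec e.toRingHom (g : Matrix (Unit ⊕ (Fin 3 ⊕ Fin 3)) (Unit ⊕ (Fin 3 ⊕ Fin 3)) (ZMod 3)) u k).symm
  have hq : ∀ u : Unit ⊕ (Fin 3 ⊕ Fin 3) → ZMod 3, Cfsg.quadFormOdd 3 F (e ∘ u) = e (q₀ u) :=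
    fun u => by simp [q₀, Cfsg.quadFormOdd]
  have hmap : Subgroup.map E.toMonoidHom (Cfsg.isometryGroup (ZMod 3) q₀) =
      Cfsg.isometryGroup F (Cfsg.quadFormOdd 3 F) := by
    ext g
    obtain ⟨g, rfl⟩ := E.surjective g
    rw [show E g = E.toMonoidHom g from rfl, Subgroup.mem_map_iff_mem (f := E.toMonoidHom) E.injective]
    constructor
    · intro h x y
      obtain ⟨u, rfl⟩ : ∃ u, ⇑e ∘ u = x := ⟨e.symm ∘ x, funext fun j => e.apply_symm_apply _⟩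
      show Cfsg.quadFormOdd 3 F (((E g : GL (Unit ⊕ (Fin 3 ⊕ Fin 3)) F) : Matrix (Unit ⊕ (Fin 3 ⊕ Fin 3)) (Unit ⊕ (Fin 3 ⊕ Fin 3)) F).mulVec (e ∘ u)) =
        Cfsg.quadFormOdd 3 F (e ∘ u)
      rw [hmv, hq, hq]
      exact congrArg e (h u u)
    · intro h u v
      have h1 : Cfsg.quadFormOdd 3 F (((E g : GL (Unit ⊕ (Fin 3 ⊕ Fin 3)) F) :
        Matrix (Unit ⊕ (Fin 3 ⊕ Fin 3)) (Unit ⊕ (Fin 3 ⊕ Fin 3)) F).mulVec (e ∘ u)) = Cfsg.quadFormOdd 3 F (e ∘ u) := h (e ∘ u) (e ∘ v)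
      rw [hmv, hq, hq] at h1
      exact e.injective h1
  let iso : Cfsg.isometryGroup (ZMod 3) q₀ ≃* Cfsg.isometryGroup F (Cfsg.quadFormOdd 3 F) :=
    (Subgroup.equivMapOfInjective _ E.toMonoidHom E.injective).trans (MulEquiv.subgroupCongr hmap)
  let om : Cfsg.Omega (ZMod 3) q₀ ≃* Cfsg.Omega F (Cfsg.quadFormOdd 3 F) :=
    ((commutator (Cfsg.isometryGroup (ZMod 3) q₀)).equivMapOfInjective _ iso.injective).trans
      (MulEquiv.subgroupCongr (Forms.map_commutator_equiv iso))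
  let po : Cfsg.POmega (ZMod 3) q₀ ≃* Cfsg.POmega F (Cfsg.quadFormOdd 3 F) :=
    QuotientGroup.congr _ _ om (OrthOmega.map_center_mulEquiv om)
  exact Schur.Universe.hasSchurMultiplier_lift po MultO73.multiplier

end Cfsg.Agent.S2095
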