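import Cfsg.Statements.S2096
import Cfsg.Agent.Lib.OrthMult.Instances

set_option autoImplicit false
open Cfsg

namespace Cfsg.Agent.S2096

/-- Schur multipliers of the even-dimensional orthogonal groups of plus type and odd rank: for odd l ≥ 5 and a field F with q elements, the Schur multiplier of PΩ⁺_2l(F) (for the form Σ xᵢyᵢ) is cyclic of order gcd(4, q^l − 1); here the Schur multiplier is described through stem extensions, as in the definitions. -/
theorem result {F : Type*} [Field F] [Fintype F] {q : ℕ} (hF : Fintype.card F = q) (l : ℕ) (hl : 5 ≤ l) (hodd : Odd l) : Cfsg.HasCyclicSchurMultiplier (Cfsg.POmega F (Cfsg.quadFormPlus l F)) (Nat.gcd 4 (q ^ l - 1)) := by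
  classical
  have hn := Lib.Forms.qPlus_nondeg (F := F) l
  have hfr : Module.finrank F (Fin l ⊕ Fin l → F) = 2 * l := by
    rw [Lib.OrthOmega.finrank_fun]; simp; omega
  have G : Lib.OrthMult.Generic (Lib.Forms.qPlus (F := F) l) :=
    Lib.OrthMult.generic_of_card hn (by omega) (fun _ => by omega)
      (fun _ => ⟨by omega, Or.inl (by omega)⟩)
  let e := Lib.OrthOmega.pOmegaEquiv (Lib.Forms.qPlus (F := F) l) hn (by omega)
    (Lib.OrthStd.quadFormPlus_eq l)
  have hq1 : 1 ≤ q := hF ▸ Fintype.card_pos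
  have hk := Lib.OrthOmega.even_pow_sub_one_iff (q := q) (m := l) hq1 (by omega)
  by_cases hq : Odd q
  · have h2 : (2 : F) ≠ 0 := Lib.OrthOmega.two_ne_zero_of_odd (hF ▸ hq)
    have hiff := Lib.OrthMult.hasNeg_iff_four hn h2 (m := l) (e := l - 1) (k := q ^ l - 1) (by omega)
      hfr (by rw [Lib.Forms.levelCard_qPlus l one_ne_zero, Nat.card_eq_fintype_card, hF])
      (hk.2 hq) (hF ▸ hq)
    rcases Lib.OrthOmega.gcd_four_cases (hk.2 hq) with ⟨h4, hg⟩ | ⟨h4, hg⟩ <;> rw [hg]
    · exact Lib.OrthMult.multiplier_odd_four G h2 (hiff.2 h4) hfr hodd e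
    · exact Lib.OrthMult.multiplier_odd_two G h2 (fun h => h4 (hiff.1 h)) e
  · have h2 : (2 : F) = 0 := Lib.OrthOmega.two_eq_zero_of_even (hF ▸ hq)
    rw [((Lib.OrthMult.gcd_two_or_one hk).2 hq).2]
    exact Lib.OrthMult.multiplier_even G h2 e

end Cfsg.Agent.S2096
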