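import Cfsg.Statements.S2098
import Cfsg.Agent.Lib.O8Mult.Main

set_option autoImplicit false
open Cfsg

namespace Cfsg.Agent.S2098

open Cfsg.Agent.Lib

/-- Exceptional Schur multiplier: over the field with 2 elements, PΩ⁺₈ (for the form Σ xᵢyᵢ) has Schur multiplier a four-group, the product of two cyclic groups of order 2 (here the Schur multiplier is described through stem extensions, as in the definitions). -/
theorem result {F : Type*} [Field F] [Fintype F] (hF : Fintype.card F = 2) : Cfsg.HasSchurMultiplier (Cfsg.POmega F (Cfsg.quadFormPlus 4 F)) (Multiplicative (ZMod 2 × ZMod 2)) := by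
  classical
  let e : ZMod 2 ≃+* F := ZMod.ringEquivOfPrime F Nat.prime_two hF
  let E : GL O8Mult.I (ZMod 2) ≃* GL O8Mult.I F := Units.mapEquiv e.mapMatrix.toMulEquiv
  have hmv : ∀ (g : GL O8Mult.I (ZMod 2)) (u : O8Mult.V),
      ((E g : GL O8Mult.I F) : Matrix O8Mult.I O8Mult.I F).mulVec (e ∘ u) =
        e ∘ ((g : Matrix O8Mult.I O8Mult.I (ZMod 2)).mulVec u) := fun g u =>
    funext fun k => (RingHom.map_mulVec e.toRingHom (g : Matrix O8Mult.I O8Mult.I (ZMod 2)) u k).symm
  have hq : ∀ u : O8Mult.V, Cfsg.quadFormPlus 4 F (e ∘ u) = e (O8Mult.qf u) := fun u => by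
    simp [Cfsg.quadFormPlus]
  have hmap : Subgroup.map E.toMonoidHom O8Mult.O8 = Cfsg.isometryGroup F (Cfsg.quadFormPlus 4 F) := by
    ext g
    obtain ⟨g, rfl⟩ := E.surjective g
    rw [show E g = E.toMonoidHom g from rfl, Subgroup.mem_map_iff_mem (f := E.toMonoidHom) E.injective]
    constructor
    · intro h x y
      obtain ⟨u, rfl⟩ : ∃ u, ⇑e ∘ u = x := ⟨e.symm ∘ x, funext fun j => e.apply_symm_apply _⟩
      show Cfsg.quadFormPlus 4 F (((E g : GL O8Mult.I F) : Matrix O8Mult.I O8Mult.I F).mulVec (e ∘ u)) =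
        Cfsg.quadFormPlus 4 F (e ∘ u)
      rw [hmv, hq, hq]
      exact congrArg e (h u u)
    · intro h u v
      have h1 : Cfsg.quadFormPlus 4 F (((E g : GL O8Mult.I F) :
        Matrix O8Mult.I O8Mult.I F).mulVec (e ∘ u)) = Cfsg.quadFormPlus 4 F (e ∘ u) := h (e ∘ u) (e ∘ v)
      rw [hmv, hq, hq] at h1
      exact e.injective h1
  let iso : O8Mult.O8 ≃* Cfsg.isometryGroup F (Cfsg.quadFormPlus 4 F) :=
    (Subgroup.equivMapOfInjective O8Mult.O8 E.toMonoidHom E.injective).trans (MulEquiv.subgroupCongr hmap)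
  let om : O8Mult.Om ≃* Cfsg.Omega F (Cfsg.quadFormPlus 4 F) :=
    ((commutator O8Mult.O8).equivMapOfInjective _ iso.injective).trans
      (MulEquiv.subgroupCongr (Forms.map_commutator_equiv iso))
  let po : Cfsg.POmega (ZMod 2) O8Mult.qf ≃* Cfsg.POmega F (Cfsg.quadFormPlus 4 F) :=
    QuotientGroup.congr _ _ om (OrthOmega.map_center_mulEquiv om)
  exact Schur.Universe.hasSchurMultiplier_lift po O8Mult.over_zmod

end Cfsg.Agent.S2098
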