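import Cfsg.Statements.S2099
import Cfsg.Agent.Lib.OrthMult.Instances

set_option autoImplicit false
open Cfsg

namespace Cfsg.Agent.S2099

/-- Schur multipliers of the even-dimensional orthogonal groups of minus type: for l ≥ 4 and a field F with q elements, the Schur multiplier of PΩ⁻_2l(F) (for the form Σ_{i<l−1} xᵢyᵢ + z₁² + a z₁z₂ + b z₂² with the binary part anisotropic) is cyclic of order gcd(4, q^l + 1); here the Schur multiplier is described through stem extensions, as in the definitions. -/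
theorem result {F : Type*} [Field F] [Fintype F] {q : ℕ} (hF : Fintype.card F = q) (l : ℕ) (hl : 4 ≤ l) (a b : F) (hab : ∀ z₁ z₂ : F, z₁ ^ 2 + a * z₁ * z₂ + b * z₂ ^ 2 = 0 → z₁ = 0 ∧ z₂ = 0) : Cfsg.HasCyclicSchurMultiplier (Cfsg.POmega F (Cfsg.quadFormMinus (l - 1) F a b)) (Nat.gcd 4 (q ^ l + 1)) := by
  classical
  have hn := Lib.Forms.qMinus_nondeg (F := F) (l - 1) hab
  have hfr : Module.finrank F ((Fin (l - 1) ⊕ Fin (l - 1)) ⊕ Fin 2 → F) = 2 * l := by
    rw [Lib.OrthOmega.finrank_fun]; simp; omega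
  have G : Lib.OrthMult.Generic (Lib.Forms.qMinus (l - 1) a b) :=
    Lib.OrthMult.generic_of_card hn (by omega) (fun _ => by omega)
      (fun _ => ⟨by omega, by
        rcases (show l = 4 ∨ 5 ≤ l by omega) with rfl | h5
        · exact Or.inr fun L t t' r r' h h' => Lib.OrthMult.no_four hab L t t' r r' h h'
        · exact Or.inl (by omega)⟩)
  let e := Lib.OrthOmega.pOmegaEquiv (Lib.Forms.qMinus (l - 1) a b) hn (by omega)
    (fun v => (Lib.Forms.qMinus_apply (l - 1) a b v).symm)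
  have hk := Lib.OrthOmega.even_pow_add_one_iff (q := q) (m := l) (by omega)
  by_cases hq : Odd q
  · have h2 : (2 : F) ≠ 0 := Lib.OrthOmega.two_ne_zero_of_odd (hF ▸ hq)
    have hiff := Lib.OrthMult.hasNeg_iff_four hn h2 (m := l) (e := l - 1) (k := q ^ l + 1) (by omega)
      hfr (by rw [Lib.Forms.levelCard_qMinus (l - 1) hab one_ne_zero, Nat.card_eq_fintype_card, hF,
        show l - 1 + 1 = l by omega])
      (hk.2 hq) (hF ▸ hq)
    rcases Lib.OrthOmega.gcd_four_cases (hk.2 hq) with ⟨h4, hg⟩ | ⟨h4, hg⟩ <;> rw [hg]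
    · refine Lib.OrthMult.multiplier_odd_four G h2 (hiff.2 h4) hfr ?_ e
      exact Nat.not_even_iff_odd.mp fun he => Lib.OrthMult.not_four_dvd_pow_add_one hq he h4
    · exact Lib.OrthMult.multiplier_odd_two G h2 (fun h => h4 (hiff.1 h)) e
  · have h2 : (2 : F) = 0 := Lib.OrthOmega.two_eq_zero_of_even (hF ▸ hq)
    rw [((Lib.OrthMult.gcd_two_or_one hk).2 hq).2]
    exact Lib.OrthMult.multiplier_even G h2 e

end Cfsg.Agent.S2099
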