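import Cfsg.Statements.S2105
import Cfsg.Agent.Lib.ChevLiftSmall.Mult
import Cfsg.Agent.Lib.ChevLiftSmall.CertE6
import Cfsg.Agent.Lib.CurtisTits.CenterE
import Cfsg.Agent.S2395

set_option autoImplicit false
set_option maxRecDepth 100000
open Cfsg

namespace Cfsg.Agent.S2105

/-- Schur multipliers of the (adjoint, simple) Chevalley groups of type E₆: over a field with q elements the Schur multiplier is cyclic of order gcd(3, q − 1) (here the Schur multiplier is described through stem extensions, as in the definitions). -/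
theorem result {F : Type*} [Field F] [Fintype F] {q : ℕ} (hF : Fintype.card F = q) : Cfsg.HasCyclicSchurMultiplier ↥(Cfsg.Lie.chevE6.group F) (Nat.gcd 3 (q - 1)) := by
  have hU : Agent.Lib.ChevLiftSmall.Lifting (K := F) Agent.Lib.CurtisTits.CertE6.cert
      Agent.Lib.CurtisTits.suppOne_E6 := by
    by_cases h4 : Fintype.card F ≤ 3
    · exact Agent.Lib.ChevLiftSmall.lifting_of_data _ _ Agent.Lib.ChevLiftSmall.data_E6
        (Agent.Lib.ChevLiftSmall.natCast_surjective h4)
    · exact Agent.Lib.ChevLiftSmall.lifting_of_cond _ _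
        (Agent.Lib.ChevLift.condB_sound _ Agent.Lib.ChevLift.condB_E6 le_rfl
          (fun n h1 h2 => Agent.Lib.ChevLift.exists_unit_pow_ne F h1 h2
            ⟨Finset.univ, by rw [Finset.card_univ]; omega⟩) (by simp))
  refine Agent.Lib.ChevLiftSmall.hasCyclic _ _ hU (Agent.S2395.result Lie.chevE6 (by simp) ?_)
    (((Nat.dvd_prime (by norm_num : Nat.Prime 3)).1 (Nat.gcd_dvd_left _ (q - 1))).imp id fun h => by
      rw [h]; norm_num) ?_
  · intro h
    simp only [List.mem_cons, List.not_mem_nil, or_false] at h
    rcases h with h | h <;> exact absurd (congrArg Lie.ChevalleyDatum.rank h) (by decide +kernel)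
  · rw [Agent.Lib.CurtisTits.card_center_E6, Nat.card_eq_fintype_card, hF]

end Cfsg.Agent.S2105
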