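import Cfsg.Statements.S2107
import Cfsg.Agent.Lib.ChevLiftSmall.Mult
import Cfsg.Agent.Lib.ChevLiftSmall.CertE8
import Cfsg.Agent.Lib.CurtisTits.CenterE
import Cfsg.Agent.S1078

set_option autoImplicit false
set_option maxRecDepth 100000
open Cfsg

namespace Cfsg.Agent.S2107

/-- Schur multipliers of the Chevalley groups of type E₈: over every finite field the Schur multiplier of E₈(q) is trivial (here the Schur multiplier is described through stem extensions, as in the definitions). -/
theorem result {F : Type*} [Field F] [Fintype F] : Cfsg.HasCyclicSchurMultiplier ↥(Cfsg.Lie.chevE8.group F) 1 := by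
  have hU : Agent.Lib.ChevLiftSmall.Lifting (K := F) Agent.Lib.CurtisTits.CertE8.cert
      Agent.Lib.CurtisTits.suppOne_E8 := by
    by_cases h4 : Fintype.card F ≤ 3
    · exact Agent.Lib.ChevLiftSmall.lifting_of_data _ _ Agent.Lib.ChevLiftSmall.data_E8
        (Agent.Lib.ChevLiftSmall.natCast_surjective h4)
    · exact Agent.Lib.ChevLiftSmall.lifting_of_cond _ _
        (Agent.Lib.ChevLift.condB_sound _ Agent.Lib.ChevLift.condB_E8 le_rfl
          (fun n h1 h2 => Agent.Lib.ChevLift.exists_unit_pow_ne F h1 h2
            ⟨Finset.univ, by rw [Finset.card_univ]; omega⟩) (by simp))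
  exact Agent.Lib.ChevLiftSmall.hasCyclic_one _ _ hU (Agent.S1078.result Lie.chevE8 (by simp))

end Cfsg.Agent.S2107
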