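import Cfsg.Statements.S2109
import Cfsg.Agent.Lib.E6Mult45.Bound
import Cfsg.Agent.Lib.E6Mult45.Cover
import Cfsg.Agent.Lib.E6Mult45.Fibre
import Cfsg.Agent.Lib.TwMult.E6Cover

set_option autoImplicit false
open Cfsg

namespace Cfsg.Agent.S2109

open Cfsg.Agent.Lib Cfsg.Agent.Lib.LieTwisted.Twist
open Cfsg.Agent.Lib.LieTwisted.Twist.E6 (orth exists_model)

universe u

theorem model {K : Type u} [Field K] [Fintype K] (hK : Fintype.card K = 2 ^ 2) :
    Cfsg.HasSchurMultiplier ↥(Cfsg.Lie.twistedE6 K 2) (Multiplicative (ZMod 3 × ZMod 2 × ZMod 2)) := by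
  obtain ⟨φ, F, e⟩ := exists_model Nat.prime_two.isPrimePow hK
  obtain ⟨ω, hω⟩ := E6Mult45.exists_omega hK
  obtain ⟨T, _, ⟨M⟩⟩ := E6Mult45.Pres.exists_model E6Mult45.cons38 38 0 rfl
  have := M.fin
  have h3 := TwMult.E6Cover.exists_stem Nat.prime_two.isPrimePow hK (by norm_num)
  rw [← e] at h3 ⊢
  refine ⟨?_, fun Γ _ _ σ hσ => E6Mult45.ker_bound F hK ω hω e hσ⟩
  obtain ⟨Γ₂, _, _, σ₂, h₂, ⟨j⟩⟩ := E6Mult45.exists_two_cover M F hK ω hω e
  obtain ⟨Γ₁, _, _, σ₁, h₁, ⟨i⟩⟩ := h3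
  have e₁ : ∀ x ∈ σ₁.ker, x ^ 3 = 1 := by
    intro x hx
    have ht : ∀ t : Multiplicative (ZMod 3), t ^ 3 = 1 := by decide
    have h : (⟨x, hx⟩ : σ₁.ker) ^ 3 = 1 := i.injective (by rw [map_pow, ht, map_one])
    exact congrArg Subtype.val h
  have e₂ : ∀ x ∈ σ₂.ker, x ^ 2 = 1 := by
    intro x hx
    have ht : ∀ t : Multiplicative (ZMod 2 × ZMod 2), t ^ 2 = 1 := by decide
    have h : (⟨x, hx⟩ : σ₂.ker) ^ 2 = 1 := j.injective (by rw [map_pow, ht, map_one])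
    exact congrArg Subtype.val h
  obtain ⟨Γ, hG, hfin, σ, hσ, ⟨k⟩⟩ := E6Mult45.exists_fibre h₁ h₂ e₁ e₂
  exact ⟨Γ, hG, hfin, σ, hσ, ⟨k.trans ((i.prodCongr j).trans (MulEquiv.prodMultiplicative _ _).symm)⟩⟩

/-- Exceptional Schur multiplier: ²E₆(2), realised over the field with 4 elements, has Schur multiplier isomorphic to the product of cyclic groups of orders 3, 2 and 2 (order 12, not cyclic; here the Schur multiplier is described through stem extensions, as in the definitions). -/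
theorem result {K : Type*} [Field K] [Fintype K] (hK : Fintype.card K = 4) : Cfsg.HasSchurMultiplier ↥(Cfsg.Lie.twistedE6 K 2) (Multiplicative (ZMod 3 × ZMod 2 × ZMod 2)) := by
  exact model (hK.trans (by norm_num))

end Cfsg.Agent.S2109
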