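import Cfsg.Statements.S2110
import Cfsg.Agent.Lib.TwMult.D4Sylow

set_option autoImplicit false
open Cfsg

namespace Cfsg.Agent.S2110

open Cfsg.Agent.Lib Cfsg.Agent.Lib.ChevStructure Cfsg.Agent.Lib.LieTwisted Cfsg.Agent.Lib.LieTwisted.Twist
open Cfsg.Agent.Lib.LieTwisted.Twist.D4 Cfsg.Agent.Lib.TwMult

universe u

theorem model {K : Type u} [Field K] [Fintype K] {q : ℕ} (hq : IsPrimePow q) (hK : Fintype.card K = q ^ 3) :
    Cfsg.HasCyclicSchurMultiplier ↥(Cfsg.Lie.twistedD4 K q) 1 := by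
  classical
  obtain ⟨φ, F, e⟩ := exists_model hq hK
  rw [← e]
  have hq1 := hq.one_lt
  obtain ⟨p₀, hp₀, hpc, -, n, hn, hqp⟩ := TwMult.D4.prime_data hK hq
  haveI := hpc
  refine Schur.Fusion.hasTrivialMultiplier fun p hp _ => ?_
  haveI := Fact.mk hp
  by_cases hpp : p = p₀
  · subst hpp
    refine ⟨uS (orth F hq1 hK).tw C.Pos, ?_, ?_⟩
    · intro hd
      have h1 := (uS (orth F hq1 hK).tw C.Pos).card_mul_index
      have hG : Nat.card ↥(orth F hq1 hK).tw.W = q ^ 12 * ((q ^ 2 - 1) * (q ^ 6 - 1) * (q ^ 8 + q ^ 4 + 1)) := by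
        rw [e, card_twisted hq hK]; ring
      rw [TwMult.D4.card_uSPos, hG] at h1
      have h2 := mul_left_cancel₀ (pow_ne_zero 12 (show q ≠ 0 by omega)) h1
      rw [h2] at hd
      have hpq : p ∣ q := hqp ▸ dvd_pow_self p (by omega)
      have key : ∀ j, 0 < j → p ∣ q ^ j - 1 → False := fun j hj h => by
        have hd2 := Nat.dvd_sub (dvd_pow hpq hj.ne') h
        rw [Nat.sub_sub_self (Nat.one_le_pow _ _ (by omega))] at hd2
        exact hp.not_dvd_one hd2
      rcases hp.dvd_mul.1 hd with h | h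
      · rcases hp.dvd_mul.1 h with h | h
        · exact key 2 two_pos h
        · exact key 6 (by norm_num) h
      · have hd8 : p ∣ q ^ 8 + q ^ 4 := dvd_add (dvd_pow hpq (by norm_num)) (dvd_pow hpq (by norm_num))
        exact hp.not_dvd_one ((Nat.dvd_add_right hd8).1 h)
    · intro Γ _ _ σ hσ z hz _ hzc
      obtain ⟨Y, hY, hYk⟩ := TwMult.D4.exists_complement_U F hq1 hK hq hσ.2.1 hσ.1
      have hle : ⁅(uS (orth F hq1 hK).tw C.Pos).comap σ, (uS (orth F hq1 hK).tw C.Pos).comap σ⁆ ≤ Y := by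
        rw [Subgroup.commutator_le]
        intro a ha b hb
        obtain ⟨a', ha', ea⟩ : σ a ∈ Y.map σ := hY ▸ Subgroup.mem_comap.1 ha
        obtain ⟨b', hb', eb⟩ : σ b ∈ Y.map σ := hY ▸ Subgroup.mem_comap.1 hb
        rw [Schur.Fusion.commutator_congr hσ.2.1 ea.symm eb.symm, commutatorElement_def]
        exact mul_mem (mul_mem (mul_mem ha' hb') (inv_mem ha')) (inv_mem hb')
      have : z ∈ Y ⊓ σ.ker := Subgroup.mem_inf.2 ⟨hle hzc, hz⟩
      rwa [hYk, Subgroup.mem_bot] at this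
  · refine ⟨⊤, by rw [Subgroup.index_top]; exact hp.not_dvd_one, ?_⟩
    intro Γ _ _ σ hσ z hz hzp _
    refine NoPart.of_comp hp ?_ Γ σ hσ z hz hzp
    intro E _ _ τ hk hτ hker
    refine (TwMult.frame (show 1 < (orth F hq1 hK).tw.q from hq1)
      (TwMult.D4.rankTwo F hq1 hK)).exists_complement hk hτ ?_ ?_
    · obtain ⟨j, hj⟩ := hker
      rw [hj]
      show Nat.Coprime (Nat.card ↥(uS (orth F hq1 hK).tw C.Pos)) (p ^ j)
      rw [TwMult.D4.card_uSPos, hqp]
      exact (((Nat.coprime_primes hp₀ hp).2 (Ne.symm hpp)).pow_left _).pow_left _ |>.pow_right _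
    · exact fun i => TwMult.D4.exists_comp_rankOne F hq1 hK hp₀ hp hpp hk hτ hker i

/-- Schur multipliers of the triality-twisted groups ³D₄: for every prime power q, with the group realised over the field with q³ elements, the Schur multiplier of ³D₄(q) is trivial (here the Schur multiplier is described through stem extensions, as in the definitions). -/
theorem result {K : Type*} [Field K] [Fintype K] {q : ℕ} (hq : IsPrimePow q) (hK : Fintype.card K = q ^ 3) : Cfsg.HasCyclicSchurMultiplier ↥(Cfsg.Lie.twistedD4 K q) 1 := by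
  exact model hq hK

end Cfsg.Agent.S2110
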