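import Cfsg.Statements.S2114
import Cfsg.Agent.Lib.TwMult.F4Rank
import Cfsg.Agent.Lib.TwMult.F4Layers
import Cfsg.Agent.Lib.LieTwisted.Twist.F4Thms

set_option autoImplicit false
open Cfsg

namespace Cfsg.Agent.S2114

open Cfsg.Agent.Lib Cfsg.Agent.Lib.ChevStructure Cfsg.Agent.Lib.LieTwisted.Twist
open Cfsg.Agent.Lib.LieTwisted.Twist.F4 Cfsg.Agent.Lib.TwMult

universe u

theorem model {K : Type u} [Field K] [Fintype K] {m : ℕ} (hm : 1 ≤ m) (hK : Fintype.card K = 2 ^ (2 * m + 1)) :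
    Cfsg.HasCyclicSchurMultiplier ↥(Cfsg.Lie.twistedF4 K (2 ^ m)) 1 := by
  classical
  obtain ⟨θ, F⟩ := exists_th hK
  have hsg : ∀ x : K, LieTwisted.Suzuki.sg m x = θ x ^ 2 := fun x => by
    rw [F.apply, ← pow_mul, ← pow_succ]; rfl
  have h8 : 8 ≤ Fintype.card K := by
    rw [hK]
    calc 8 = 2 ^ 3 := rfl
      _ ≤ _ := Nat.pow_le_pow_right (by norm_num) (by omega)
  have hq1 : 1 < (tw F).q := Fintype.one_lt_card
  have hUcard : Nat.card ↥(uS (tw F) C.Pos) = (2 ^ (2 * m + 1)) ^ 12 := by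
    rw [← F4.card_posU hK, C.posUnipotent_eq, uS, ← Subgroup.inf_subgroupOf_right]
    exact Nat.card_congr (Subgroup.subgroupOfEquivOfLe inf_le_right).toEquiv
  show Cfsg.HasCyclicSchurMultiplier ↥(tw F).W 1
  refine Schur.Fusion.hasTrivialMultiplier fun p hp _ => ?_
  haveI := Fact.mk hp
  by_cases hp2 : p = 2
  · subst hp2
    refine ⟨uS (tw F) C.Pos, ?_, ?_⟩
    · intro hd
      have h1 := (uS (tw F) C.Pos).card_mul_index
      rw [hUcard, show Nat.card ↥(tw F).W = _ from F4.card_twisted hK, mul_assoc, mul_assoc, mul_assoc] at h1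
      have h2 := mul_left_cancel₀ (pow_ne_zero 12 (pow_ne_zero _ two_ne_zero)) h1
      rw [h2] at hd
      set q := 2 ^ (2 * m + 1) with hq
      have hq2 : 2 ∣ q := dvd_pow_self 2 (by omega)
      have e3 : 2 ∣ q ^ 3 := dvd_pow hq2 (by omega)
      have e4 : 2 ∣ q ^ 4 := dvd_pow hq2 (by omega)
      have e6 : 2 ∣ q ^ 6 := dvd_pow hq2 (by omega)
      have p4 : 1 ≤ q ^ 4 := Nat.one_le_pow _ _ (by positivity)
      have p1 : 1 ≤ q := Nat.one_le_two_pow
      rcases Nat.prime_two.dvd_mul.1 hd with h | h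
      · omega
      · rcases Nat.prime_two.dvd_mul.1 h with h | h
        · omega
        · rcases Nat.prime_two.dvd_mul.1 h with h | h <;> omega
    · intro Γ _ _ σ hσ z hz _ hzc
      obtain ⟨Y, hY, hYk⟩ := TwMult.F4.exists_complement_U F h8 σ hσ.2.1 hσ.1
      have hle : ⁅(uS (tw F) C.Pos).comap σ, (uS (tw F) C.Pos).comap σ⁆ ≤ Y := by
        rw [Subgroup.commutator_le]
        intro a ha b hb
        obtain ⟨a', ha', ea⟩ : σ a ∈ Y.map σ := hY ▸ Subgroup.mem_comap.1 ha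
        obtain ⟨b', hb', eb⟩ : σ b ∈ Y.map σ := hY ▸ Subgroup.mem_comap.1 hb
        rw [Schur.Fusion.commutator_congr hσ.2.1 ea.symm eb.symm, commutatorElement_def]
        exact mul_mem (mul_mem (mul_mem ha' hb') (inv_mem ha')) (inv_mem hb')
      have : z ∈ Y ⊓ σ.ker := Subgroup.mem_inf.2 ⟨hle hzc, hz⟩
      rwa [hYk, Subgroup.mem_bot] at this
  · refine ⟨⊤, by rw [Subgroup.index_top]; exact hp.not_dvd_one, ?_⟩
    intro Γ _ _ σ hσ z hz hzp _
    refine NoPart.of_comp hp ?_ Γ σ hσ z hz hzp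
    intro E _ _ τ hk hτ hker
    refine (TwMult.frame hq1 (TwMult.F4.rankTwo F hm ⟨hK⟩ hsg)).exists_complement hk hτ ?_ ?_
    · obtain ⟨n, hn⟩ := hker
      rw [hn]
      show Nat.Coprime (Nat.card ↥(uS (tw F) C.Pos)) (p ^ n)
      rw [hUcard]
      exact (((Nat.coprime_primes Nat.prime_two hp).2 (Ne.symm hp2)).pow_left _).pow_left _ |>.pow_right _
    · exact TwMult.F4.exists_comp_rankOne F hm hK hsg hp hp2 hk hτ hker

/-- Schur multipliers of the large Ree groups: for q = 2^(2m+1) with m ≥ 1 the Schur multiplier of ²F₄(q) is trivial (here the Schur multiplier is described through stem extensions, as in the definitions). -/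
theorem result {K : Type*} [Field K] [Fintype K] {m : ℕ} (hm : 1 ≤ m) (hK : Fintype.card K = 2 ^ (2 * m + 1)) : Cfsg.HasCyclicSchurMultiplier ↥(Cfsg.Lie.twistedF4 K (2 ^ m)) 1 := by
  exact model hm hK

end Cfsg.Agent.S2114
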