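import Cfsg.Statements.S2118
import Cfsg.Agent.Lib.ExactCover.Alt6
import Cfsg.Agent.Lib.Linear.SmallIso.PSL9
import Cfsg.Agent.Lib.Linear.Order

set_option autoImplicit false
set_option linter.style.haveILetI false
open Cfsg

namespace Cfsg.Agent.S2118

open Cfsg.Agent.Lib Cfsg.Agent.Lib.ExactCover

universe u

/-- A double stem extension of `A₆` has multiplier of order three. -/
theorem of_double {S : Type u} [Group S] [Finite S] (hS : Nat.card S = 720)
    (τ₀ : S →* alternatingGroup (Fin 6)) (hτ₀ : Cfsg.IsStemExtension τ₀) :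
    Cfsg.HasCyclicSchurMultiplier S 3 := by
  have hA : Nat.card (alternatingGroup (Fin 6)) = 360 := by
    rw [nat_card_alternatingGroup, Nat.card_fin]; decide
  obtain ⟨φ, hφ⟩ := exists_map Alt6.gen Alt6.ord [] Cfsg.Agent.Lib.CosetEnum.A6x432.relWords
    Alt6.valid Alt6.gen_pow Alt6.gen_rels (by simp) τ₀ hτ₀ (Alt6.coprime_ord τ₀ hτ₀)
  have hφ' : ∀ p, τ₀ (φ p) = Alt6.σ p := DFunLike.congr_fun hφ
  have hsup : φ.range ⊔ τ₀.ker = ⊤ := by
    rw [eq_top_iff]
    rintro g -
    obtain ⟨p, hp⟩ := Alt6.σ_surjective (τ₀ g)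
    have hk : (φ p)⁻¹ * g ∈ τ₀.ker := by
      rw [MonoidHom.mem_ker, map_mul, map_inv, hφ', hp, inv_mul_cancel]
    rw [show g = φ p * ((φ p)⁻¹ * g) by group]
    exact Subgroup.mul_mem_sup ⟨p, rfl⟩ hk
  have hle : τ₀.ker ≤ φ.range := by
    refine le_trans hτ₀.2.2 (le_trans (Multiplier.commutator_le_of_sup_central _ _ hτ₀.2.1 hsup) ?_)
    rw [Subgroup.commutator_le]
    intro g hg g' hg'
    exact mul_mem (mul_mem (mul_mem hg hg') (inv_mem hg)) (inv_mem hg')
  have hsurj : Function.Surjective φ :=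
    MonoidHom.range_eq_top.1 (top_le_iff.1 (hsup ▸ sup_le le_rfl hle))
  have hkle : φ.ker ≤ Alt6.σ.ker := fun p hp => by
    rw [MonoidHom.mem_ker] at hp ⊢
    rw [← hφ', hp, map_one]
  have hstem : Cfsg.IsStemExtension φ :=
    ⟨hsurj, hkle.trans Alt6.σ_isStem.2.1, hkle.trans Alt6.σ_isStem.2.2⟩
  have hP : Nat.card Alt6.P = 2160 := by
    have h := Subgroup.card_mul_index Alt6.σ.ker
    rw [Subgroup.index_ker, MonoidHom.range_eq_top.2 Alt6.σ_surjective, Subgroup.card_top, hA,
      Nat.card_congr Alt6.ker_cyclic.1.some.toEquiv, Nat.card_eq_fintype_card, Fintype.card_multiplicative,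
      ZMod.card] at h
    exact h.symm
  have hker : Nat.card φ.ker = 3 := by
    have h := Subgroup.card_mul_index φ.ker
    rw [Subgroup.index_ker, MonoidHom.range_eq_top.2 hsurj, Subgroup.card_top, hS] at h
    have h' : Nat.card φ.ker * 720 = 3 * 720 := h.trans (hP.trans (by norm_num))
    exact Nat.eq_of_mul_eq_mul_right (by norm_num) h'
  haveI : Fact (Nat.Prime 3) := ⟨by norm_num⟩
  haveI : IsCyclic φ.ker := isCyclic_of_prime_card (p := 3) hker
  let k : φ.ker ≃* Multiplicative (ZMod 3) := mulEquivOfCyclicCardEq (by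
    rw [hker, Nat.card_eq_fintype_card, Fintype.card_multiplicative, ZMod.card])
  let gen : Fin 2 → S := fun i => φ (PresentedGroup.of i)
  have hlift : FreeGroup.lift gen = φ.comp (PresentedGroup.mk _) := by
    apply FreeGroup.ext_hom
    intro i
    simp [gen, PresentedGroup.of]
  have hR : ∀ r ∈ relSet 2 Cfsg.Agent.Lib.CosetEnum.A6x432.relWords, FreeGroup.lift gen r = 1 := by
    intro r hr
    rw [hlift, MonoidHom.comp_apply, PresentedGroup.one_of_mem hr, map_one]
  have hto : PresentedGroup.toGroup hR = φ := PresentedGroup.ext fun i => by simp [gen]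
  refine hasSchurMultiplier_of_universal φ hstem k (MulEquiv.refl S) fun Γ _ _ τ hτ => ?_
  have hcop : ∀ i, (Alt6.ord i).Coprime (Nat.card τ.ker) := fun i => by
    refine coprime_ker_of_sq_not_dvd τ hτ (by fin_cases i <;> norm_num [Alt6.ord]) ?_
    rw [hS]
    revert i; decide
  obtain ⟨π, hπ⟩ := map_ker_surjective gen Alt6.ord [] Cfsg.Agent.Lib.CosetEnum.A6x432.relWords
    Alt6.valid (fun i => by simp only [gen]; rw [← map_pow, Alt6.gen_pow_P, map_one]) hR (by simp)
    (by rw [hto]; exact hsurj) τ hτ hcop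
  have hk : φ.ker = (PresentedGroup.toGroup hR).ker := by rw [hto]
  exact ⟨π.comp (MulEquiv.subgroupCongr hk).toMonoidHom,
    hπ.comp (MulEquiv.subgroupCongr hk).surjective⟩

/-- For the field with 9 elements, the special linear group SL₂ has Schur multiplier cyclic of order 3 (here the Schur multiplier is described through stem extensions, as in the definitions). -/
theorem result {F : Type*} [Field F] [Fintype F] (hF : Fintype.card F = 9) : Cfsg.HasCyclicSchurMultiplier (Matrix.SpecialLinearGroup (Fin 2) F) 3 := by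
  classical
  obtain ⟨e⟩ := Linear.SmallIso.nonempty_psl_two_nine hF
  have hcard : Nat.card (Matrix.SpecialLinearGroup (Fin 2) F) = 720 := by
    rw [Linear.card_SL_two, hF]
  let τ₀ : Matrix.SpecialLinearGroup (Fin 2) F →* alternatingGroup (Fin 6) :=
    e.toMonoidHom.comp (QuotientGroup.mk' (Subgroup.center _))
  have hker : τ₀.ker ≤ Subgroup.center (Matrix.SpecialLinearGroup (Fin 2) F) := fun x hx => by
    rw [MonoidHom.mem_ker] at hx
    exact (QuotientGroup.eq_one_iff x).1 (e.injective (hx.trans (map_one e).symm))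
  refine of_double hcard τ₀ ⟨e.surjective.comp (QuotientGroup.mk'_surjective _), hker, ?_⟩
  rw [Linear.commutator_SL_eq_top le_rfl fun _ => by rw [Nat.card_eq_fintype_card, hF]; norm_num]
  exact le_top

end Cfsg.Agent.S2118
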