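import Cfsg.Statements.S2121
import Cfsg.Agent.Lib.ChevAut.IsogenyFamily
import Cfsg.Agent.Lib.ChevStructure.CommAll
import Cfsg.Agent.Lib.LieTwisted.IsogenyG2
-- import your own Cfsg.Agent.* helpers here

set_option autoImplicit false
open Cfsg
open Cfsg.Lie Cfsg.Agent.Lib.ChevStructure Cfsg.Agent.Lib.ChevAut

namespace Cfsg.Agent.S2121

/-- Outer automorphisms of the Chevalley groups of type G₂: over a field with q = p^f (p prime) ≥ 3 elements, the outer automorphism group of G₂(q) has order f when p ≠ 3 and 2f when p = 3 (field automorphisms, and in characteristic 3 also the exceptional graph automorphism). -/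
theorem result {F : Type*} [Field F] [Fintype F] (p f : ℕ) [Fact p.Prime] [CharP F p] (hF : Fintype.card F = p ^ f) (hq : 3 ≤ p ^ f) : Nat.card (Cfsg.Out ↥(Cfsg.Lie.chevG2.group F)) = (if p = 3 then 2 * f else f) := by
  have hD : chevG2 ∈ [chevG2, chevB2, chevD4, chevF4, chevE6, chevE7, chevE8] := by simp
  obtain ⟨S⟩ := Cfsg.Agent.Lib.ChevStructure.nonempty_sys chevG2 hD
  have H := S.commOK
  have hT := table_all chevG2 hD
  have hh := headsOK_all chevG2 hD
  generalize S.toCore = C at H
  have hchar : ringChar F = p := ringChar.eq F p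
  split_ifs with h3
  · subst h3
    haveI : CharP F Cfsg.Agent.Lib.LieTwisted.Isogeny.dataG2.p := ‹CharP F 3›
    haveI : ExpChar F Cfsg.Agent.Lib.LieTwisted.Isogeny.dataG2.p := ExpChar.prime (Fact.out : Nat.Prime 3)
    have hperf : ∀ x : F, ∃ y : F, y ^ Cfsg.Agent.Lib.LieTwisted.Isogeny.dataG2.p = x := fun x =>
      Finite.surjective_of_injective (frobenius_inj F 3) x
    have g := isogeny_graph C Cfsg.Agent.Lib.LieTwisted.Isogeny.dataG2_good
      Cfsg.Agent.Lib.LieTwisted.Isogeny.dataG2_disj hperf (Equiv.swap ⟨0, by decide⟩ ⟨1, by decide⟩)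
      (by decide +kernel) (by decide +kernel)
    let fam := famTwo C H hT _ _ (by decide +kernel) (by unfold AdjPerm; decide +kernel) g.1 g.2 enum_G2
    rw [card_out C H hT hh hD fam, cartMap_index C cokerG2 cokerG2_valid,
      Cfsg.Agent.Lib.AutPSL.card_fieldAuts hF, hF]
    simp [cokerG2]
  · let fam := famOne C (F := F) H (graph_trivial_of_two C H hT (Equiv.swap ⟨0, by decide⟩ ⟨1, by decide⟩)
      (i := ⟨1, by decide⟩) (j := ⟨0, by decide⟩) (m := 3) (by decide +kernel) (by unfold AdjPerm; decide +kernel)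
      enum_G2 (by decide +kernel) (by decide +kernel) (by decide +kernel) (by decide +kernel)
      (Or.inr ⟨rfl, hF ▸ hq⟩) (hchar ▸ h3))
    rw [card_out C H hT hh hD fam, cartMap_index C cokerG2 cokerG2_valid,
      Cfsg.Agent.Lib.AutPSL.card_fieldAuts hF, hF]
    simp [cokerG2]

end Cfsg.Agent.S2121
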