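import Cfsg.Statements.S2122
import Cfsg.Agent.Lib.ChevAut.IsogenyFamily
import Cfsg.Agent.Lib.ChevStructure.CommAll
import Cfsg.Agent.Lib.LieTwisted.IsogenyF4
-- import your own Cfsg.Agent.* helpers here

set_option autoImplicit false
open Cfsg
open Cfsg.Lie Cfsg.Agent.Lib.ChevStructure Cfsg.Agent.Lib.ChevAut

namespace Cfsg.Agent.S2122

/-- Outer automorphisms of the Chevalley groups of type F₄: over a field with q = p^f (p prime) elements, the outer automorphism group of F₄(q) has order gcd(2, p) · f (field automorphisms, and in characteristic 2 also the exceptional graph automorphism). -/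
theorem result {F : Type*} [Field F] [Fintype F] (p f : ℕ) [Fact p.Prime] [CharP F p] (hF : Fintype.card F = p ^ f) : Nat.card (Cfsg.Out ↥(Cfsg.Lie.chevF4.group F)) = Nat.gcd 2 p * f := by
  have hD : chevF4 ∈ [chevG2, chevB2, chevD4, chevF4, chevE6, chevE7, chevE8] := by simp
  obtain ⟨S⟩ := Cfsg.Agent.Lib.ChevStructure.nonempty_sys chevF4 hD
  have H := S.commOK
  have hT := table_all chevF4 hD
  have hh := headsOK_all chevF4 hD
  generalize S.toCore = C at H
  have hchar : ringChar F = p := ringChar.eq F p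
  have hp : p.Prime := Fact.out
  let π₀ : Equiv.Perm (Fin chevF4.rank) :=
    Equiv.swap ⟨0, by decide⟩ ⟨3, by decide⟩ * Equiv.swap ⟨1, by decide⟩ ⟨2, by decide⟩
  by_cases h2 : p = 2
  · subst h2
    haveI : CharP F Cfsg.Agent.Lib.LieTwisted.Isogeny.dataF4.p := ‹CharP F 2›
    haveI : ExpChar F Cfsg.Agent.Lib.LieTwisted.Isogeny.dataF4.p := ExpChar.prime (Fact.out : Nat.Prime 2)
    have hperf : ∀ x : F, ∃ y : F, y ^ Cfsg.Agent.Lib.LieTwisted.Isogeny.dataF4.p = x := fun x =>
      Finite.surjective_of_injective (frobenius_inj F 2) x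
    have g := isogeny_graph C Cfsg.Agent.Lib.LieTwisted.Isogeny.dataF4_good
      Cfsg.Agent.Lib.LieTwisted.Isogeny.dataF4_disj hperf π₀ (by decide +kernel) (by decide +kernel)
    let fam := famTwo C H hT π₀ _ (by decide +kernel) (by unfold AdjPerm; decide +kernel) g.1 g.2 enum_F4
    rw [card_out C H hT hh hD fam, cartMap_index C cokerF4 cokerF4_valid,
      Cfsg.Agent.Lib.AutPSL.card_fieldAuts hF, hF]
    simp [cokerF4]
  · let fam := famOne C (F := F) H (graph_trivial_of_two C H hT π₀
      (i := ⟨2, by decide⟩) (j := ⟨1, by decide⟩) (m := 2) (by decide +kernel) (by unfold AdjPerm; decide +kernel)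
      enum_F4 (by decide +kernel) (by decide +kernel) (by decide +kernel) (by decide +kernel)
      (Or.inl rfl) (hchar ▸ h2))
    rw [card_out C H hT hh hD fam, cartMap_index C cokerF4 cokerF4_valid,
      Cfsg.Agent.Lib.AutPSL.card_fieldAuts hF, hF]
    rw [(Nat.coprime_primes Nat.prime_two hp).2 (Ne.symm h2)]
    simp [cokerF4]

end Cfsg.Agent.S2122
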