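import Cfsg.Statements.S2123
import Cfsg.Agent.Lib.ChevAut.IsogenyFamily
import Cfsg.Agent.Lib.ChevStructure.CommAll
-- import your own Cfsg.Agent.* helpers here

set_option autoImplicit false
open Cfsg
open Cfsg.Lie Cfsg.Agent.Lib.ChevStructure Cfsg.Agent.Lib.ChevAut

namespace Cfsg.Agent.S2123

/-- Outer automorphisms of the (adjoint, simple) Chevalley groups of type E₆: over a field with q = p^f (p prime) elements, the outer automorphism group of E₆(q) has order 2 · gcd(3, q − 1) · f (diagonal, field and graph automorphisms). -/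
theorem result {F : Type*} [Field F] [Fintype F] (p f : ℕ) [Fact p.Prime] [CharP F p] (hF : Fintype.card F = p ^ f) : Nat.card (Cfsg.Out ↥(Cfsg.Lie.chevE6.group F)) = 2 * Nat.gcd 3 (p ^ f - 1) * f := by
  have hD : chevE6 ∈ [chevG2, chevB2, chevD4, chevF4, chevE6, chevE7, chevE8] := by simp
  obtain ⟨S⟩ := Cfsg.Agent.Lib.ChevStructure.nonempty_sys chevE6 hD
  have H := S.commOK
  have hT := table_all chevE6 hD
  have hh := headsOK_all chevE6 hD
  generalize S.toCore = C at H
  let fam := famE6 (F := F) C H
  rw [card_out C H hT hh hD fam, cartMap_index C cokerE6 cokerE6_valid,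
    Cfsg.Agent.Lib.AutPSL.card_fieldAuts hF, hF]
  simp [cokerE6, Nat.gcd_comm]

end Cfsg.Agent.S2123
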