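import Cfsg.Statements.S2125
import Cfsg.Agent.Lib.ChevAut.IsogenyFamily
import Cfsg.Agent.Lib.ChevStructure.CommAll
-- import your own Cfsg.Agent.* helpers here

set_option autoImplicit false
open Cfsg
open Cfsg.Lie Cfsg.Agent.Lib.ChevStructure Cfsg.Agent.Lib.ChevAut

namespace Cfsg.Agent.S2125

/-- Outer automorphisms of the Chevalley groups of type E₈: over a field with p^f elements, p prime, the outer automorphism group of E₈(p^f) has order f (field automorphisms only). -/
theorem result {F : Type*} [Field F] [Fintype F] (p f : ℕ) [Fact p.Prime] [CharP F p] (hF : Fintype.card F = p ^ f) : Nat.card (Cfsg.Out ↥(Cfsg.Lie.chevE8.group F)) = f := by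
  have hD : chevE8 ∈ [chevG2, chevB2, chevD4, chevF4, chevE6, chevE7, chevE8] := by simp
  obtain ⟨S⟩ := Cfsg.Agent.Lib.ChevStructure.nonempty_sys chevE8 hD
  have H := S.commOK
  have hT := table_all chevE8 hD
  have hh := headsOK_all chevE8 hD
  generalize S.toCore = C at H
  let fam := famOne C (F := F) H fun π _ hπ _ => sym_trivial_of_count C hT enum_E8 π hπ
  rw [card_out C H hT hh hD fam, cartMap_index C cokerE8 cokerE8_valid,
    Cfsg.Agent.Lib.AutPSL.card_fieldAuts hF, hF]
  simp [cokerE8]

end Cfsg.Agent.S2125
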