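import Cfsg.Statements.S2141
import Cfsg.Agent.Lib.MinIndexSp.Main
-- import your own Cfsg.Agent.* helpers here

set_option autoImplicit false
open Cfsg

namespace Cfsg.Agent.S2141

/-- Minimal index of a proper subgroup of the symplectic groups over fields with at least 3 elements: for m ≥ 2 and a field F with q ≥ 3 elements, (m, q) ≠ (2, 3), every proper subgroup of PSp_2m(F) has index at least (q^(2m) − 1)/(q − 1), and that index is attained. -/
theorem result {F : Type*} [Field F] [Fintype F] {q : ℕ} (hF : Fintype.card F = q) (m : ℕ) (hm : 2 ≤ m) (hq : 3 ≤ q) (hexc : ¬ (m = 2 ∧ q = 3)) : (∀ H : Subgroup (Cfsg.PSp m F), H ≠ ⊤ → (q ^ (2 * m) - 1) / (q - 1) ≤ H.index) ∧ (∃ H : Subgroup (Cfsg.PSp m F), H.index = (q ^ (2 * m) - 1) / (q - 1)) := by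
  open Cfsg.Agent.Lib.MinIndexSp Cfsg.Agent.Lib.Symplectic in
  have hc : Nat.card F = q := Nat.card_eq_fintype_card.trans hF
  refine min_index_psp hc (by omega) (fun H hH => ?_) ?_
  · have h := index_ge_of_ne_top (isSympForm_stdForm m F) (hc.symm ▸ hq) hm
      (fun h => hexc ⟨h.1, hc ▸ h.2⟩) (finrank_std m F) hH
    rwa [hc] at h
  · obtain ⟨H, h1, h2⟩ := exists_point_stab (isSympForm_stdForm m F) (by omega) (finrank_std m F)
    exact ⟨H, h1, by rwa [hc] at h2⟩

end Cfsg.Agent.S2141
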