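import Cfsg.Statements.S2142
import Cfsg.Agent.Lib.MinIndexSp.TwoMain
-- import your own Cfsg.Agent.* helpers here

set_option autoImplicit false
open Cfsg

namespace Cfsg.Agent.S2142

/-- Minimal index of a proper subgroup of the symplectic groups over the field with 2 elements: for m ≥ 3, every proper subgroup of Sp_2m(2) has index at least 2^(m−1)(2^m − 1), and that index is attained. -/
theorem result {F : Type*} [Field F] [Fintype F] (hF : Fintype.card F = 2) (m : ℕ) (hm : 3 ≤ m) : (∀ H : Subgroup (Cfsg.PSp m F), H ≠ ⊤ → 2 ^ (m - 1) * (2 ^ m - 1) ≤ H.index) ∧ (∃ H : Subgroup (Cfsg.PSp m F), H.index = 2 ^ (m - 1) * (2 ^ m - 1)) := by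
  open Cfsg.Agent.Lib.MinIndexSp Cfsg.Agent.Lib.Symplectic Cfsg.Agent.Lib.Symplectic.OddOrthChar2 in
  classical
  have hc : Nat.card F = 2 := Nat.card_eq_fintype_card.trans hF
  have : CharP F 2 := CharTwo.of_one_ne_zero_of_two_eq_zero one_ne_zero (two_eq_zero hc)
  refine min_index_psp hc (by omega)
    (fun H hH => index_ge_two (isSympForm_stdForm m F) hc hm (finrank_std m F) hH) ?_
  refine exists_two_stab (isSympForm_stdForm m F) hc (q0 := qp) qp_add ?_ (by omega)
    (finrank_std m F)
  refine ⟨Sum.elim (Pi.single ⟨0, by omega⟩ 1) (Pi.single ⟨0, by omega⟩ 1), ?_⟩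
  rw [qp, Finset.sum_eq_single ⟨0, by omega⟩] <;> simp +contextual

end Cfsg.Agent.S2142
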