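import Cfsg.Statements.S2143
import Cfsg.Agent.Lib.MinIndexOmega.Odd
-- import your own Cfsg.Agent.* helpers here

set_option autoImplicit false
open Cfsg

namespace Cfsg.Agent.S2143

/-- Minimal index of a proper subgroup of the odd-dimensional orthogonal groups: for m ≥ 3 and a field F with q elements, q odd and q ≥ 5, every proper subgroup of PΩ_(2m+1)(F) (for the form x₀² + Σ xᵢyᵢ) has index at least (q^(2m) − 1)/(q − 1), and that index is attained. -/
theorem result {F : Type*} [Field F] [Fintype F] {q : ℕ} (hF : Fintype.card F = q) (hodd : Odd q) (h5 : 5 ≤ q) (m : ℕ) (hm : 3 ≤ m) : (∀ H : Subgroup (Cfsg.POmega F (Cfsg.quadFormOdd m F)), H ≠ ⊤ → (q ^ (2 * m) - 1) / (q - 1) ≤ H.index) ∧ (∃ H : Subgroup (Cfsg.POmega F (Cfsg.quadFormOdd m F)), H.index = (q ^ (2 * m) - 1) / (q - 1)) := by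
  open Cfsg.Agent.Lib Cfsg.Agent.Lib.OrthOmega Cfsg.Agent.Lib.OrthStd Module in
  have hcard : Nat.card F = q := Nat.card_eq_fintype_card.trans hF
  have hd := MinIndexOmega.oddData_qOddC (F := F) (hF ▸ hodd) m
  have h5' : 5 ≤ Module.finrank F (Unit ⊕ (Fin m ⊕ Fin m) → F) := by rw [hd.rank]; omega
  refine MinIndexOmega.minIndex_pOmega hd.nd h5' (Cfsg.Agent.Lib.OrthStd.quadFormOdd_eq m)
    (fun K hK => ?_) ?_
  · rw [← hcard]
    exact MinIndexOmega.odd_bound hd hm (Cfsg.Agent.Lib.OrthOmega.two_ne_zero_of_odd (hF ▸ hodd))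
      (hcard.symm ▸ h5) hK
  · obtain ⟨K, hK, hKi⟩ := MinIndexOmega.exists_point_index hd.nd h5'
    refine ⟨K, hK, ?_⟩
    rw [hKi, MinIndexOmega.singCard_eq, hd.zero, hcard]

end Cfsg.Agent.S2143
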