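import Cfsg.Statements.S2144
import Cfsg.Agent.Lib.MinIndexOmega.OddThree
-- import your own Cfsg.Agent.* helpers here

set_option autoImplicit false
open Cfsg

namespace Cfsg.Agent.S2144

/-- Minimal index of a proper subgroup of the odd-dimensional orthogonal groups over the field with 3 elements: for m ≥ 3, every proper subgroup of PΩ_(2m+1)(3) (for the form x₀² + Σ xᵢyᵢ) has index at least 3^m(3^m − 1)/2, and that index is attained. -/
theorem result {F : Type*} [Field F] [Fintype F] (hF : Fintype.card F = 3) (m : ℕ) (hm : 3 ≤ m) : (∀ H : Subgroup (Cfsg.POmega F (Cfsg.quadFormOdd m F)), H ≠ ⊤ → 3 ^ m * (3 ^ m - 1) / 2 ≤ H.index) ∧ (∃ H : Subgroup (Cfsg.POmega F (Cfsg.quadFormOdd m F)), H.index = 3 ^ m * (3 ^ m - 1) / 2) := by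
  open Cfsg.Agent.Lib Cfsg.Agent.Lib.OrthOmega Cfsg.Agent.Lib.OrthStd Cfsg.Agent.Lib.Forms in
  have hcard : Nat.card F = 3 := Nat.card_eq_fintype_card.trans hF
  obtain ⟨_, h2, hsign⟩ := MinIndexOmega.three_facts hcard
  have hd := MinIndexOmega.oddData_qOddC (F := F) (hF ▸ (by decide : Odd 3)) m
  have h5' : 5 ≤ Module.finrank F (Unit ⊕ (Fin m ⊕ Fin m) → F) := by rw [hd.rank]; omega
  have hone : (-1 : F) ≠ 0 := neg_ne_zero.2 one_ne_zero
  refine MinIndexOmega.minIndex_pOmega hd.nd h5' (Cfsg.Agent.Lib.OrthStd.quadFormOdd_eq m)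
    (fun K hK => MinIndexOmega.odd_three_bound hd hm hcard hK) ?_
  obtain ⟨z, hz⟩ := exists_Q_eq hd.nd (by omega) (-1 : F)
  have hz0 : z ≠ 0 := fun h => hone (by rw [← hz, h, QuadraticMap.map_zero])
  refine ⟨MinIndexOmega.pStab (qOddC m F) z, MinIndexOmega.center_le_of_line hd.nd h5', ?_⟩
  have hidx := MinIndexOmega.lineStab_index hd.nd (by omega) hz0
  have hL : Nat.card {v // v ≠ 0 ∧ qOddC m F v = qOddC m F z} = 3 ^ m * (3 ^ m - 1) := by
    rw [hz, Nat.card_congr (Equiv.subtypeEquivRight (q := fun v => qOddC m F v = -1) fun v =>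
      ⟨fun h => h.2, fun h => ⟨fun h0 => hone (by rw [← h, h0, QuadraticMap.map_zero]), h⟩⟩),
      card_level_congr ⟨oddIso m F⟩]
    show levelCard ((qPlus (F := F) m).prod (qOne 1)) (-1) = _
    have h0 : levelCard (qOne (1 : F)) (-1) = 0 :=
      Nat.card_eq_zero.2 (Or.inl ⟨fun t => by
        have ht := (qOne_apply (1 : F) t.1).symm.trans t.2
        by_cases h : t.1 = 0
        · rw [h, mul_zero, mul_zero] at ht; exact hone ht.symm
        · rcases hsign t.1 h with h' | h' <;> rw [h'] at ht <;>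
            exact h2 (by linear_combination ht)⟩)
    rw [levelCard_plus_prod, h0, Module.finrank_self, hcard, Nat.add_sub_cancel]
    ring
  have hunits : Nat.card {t : F // t ≠ 0 ∧ t * t * qOddC m F z = qOddC m F z} = 2 := by
    rw [Nat.card_congr (Equiv.subtypeEquivRight (q := fun t : F => t ≠ 0) fun t =>
      ⟨fun h => h.1, fun h => ⟨h, by rcases hsign t h with rfl | rfl <;> ring⟩⟩),
      MinIndexOmega.card_units, hcard]
  rw [hL, hunits] at hidx
  omega

end Cfsg.Agent.S2144
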