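import Cfsg.Statements.S2145
import Cfsg.Agent.Lib.MinIndexOmega.PlusFour
-- import your own Cfsg.Agent.* helpers here

set_option autoImplicit false
open Cfsg

namespace Cfsg.Agent.S2145

/-- Minimal index of a proper subgroup of the even-dimensional orthogonal groups of plus type: for m ≥ 4 and a field F with q ≥ 4 elements, every proper subgroup of PΩ⁺_2m(F) (for the form Σ xᵢyᵢ) has index at least (q^m − 1)(q^(m−1) + 1)/(q − 1), and that index is attained (the singular points). -/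
theorem result {F : Type*} [Field F] [Fintype F] {q : ℕ} (hF : Fintype.card F = q) (hq : 4 ≤ q) (m : ℕ) (hm : 4 ≤ m) : (∀ H : Subgroup (Cfsg.POmega F (Cfsg.quadFormPlus m F)), H ≠ ⊤ → (q ^ m - 1) * (q ^ (m - 1) + 1) / (q - 1) ≤ H.index) ∧ (∃ H : Subgroup (Cfsg.POmega F (Cfsg.quadFormPlus m F)), H.index = (q ^ m - 1) * (q ^ (m - 1) + 1) / (q - 1)) := by
  open Cfsg.Agent.Lib Cfsg.Agent.Lib.OrthOmega Cfsg.Agent.Lib.OrthStd Cfsg.Agent.Lib.Forms in
  have hcard : Nat.card F = q := Nat.card_eq_fintype_card.trans hF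
  have hd := MinIndexOmega.plusData_qPlus (F := F) (m := m) (by omega)
  have h5' : 5 ≤ Module.finrank F (Fin m ⊕ Fin m → F) := by rw [hd.rank]; omega
  have hsc : MinIndexOmega.singCard (qPlus (F := F) m) = (q ^ m - 1) * (q ^ (m - 1) + 1) := by
    have hz := hd.zero
    rw [MinIndexOmega.singCard_eq, hcard] at *
    have h1 : q ^ (m - 1) ≤ q ^ m := Nat.pow_le_pow_right (by omega) (by omega)
    have h2 : 1 ≤ q ^ m := Nat.one_le_pow _ _ (by omega)
    have h3 : q ^ m * q ^ (m - 1) = q ^ (2 * m - 1) := by rw [← pow_add]; congr 1; omega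
    rw [Nat.sub_mul, one_mul, mul_add, mul_one, h3]
    omega
  refine MinIndexOmega.minIndex_pOmega hd.nd h5' (quadFormPlus_eq m) (fun K hK => ?_) ?_
  · refine MinIndexOmega.plus_bound hd hm (hcard.symm ▸ hq) ?_ hK
    rw [hsc, hcard]
    exact Nat.div_mul_le_self _ _
  · obtain ⟨K, hK, hKi⟩ := MinIndexOmega.exists_point_index hd.nd h5'
    exact ⟨K, hK, by rw [hKi, hsc, hcard]⟩

end Cfsg.Agent.S2145
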