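import Cfsg.Statements.S2146
import Cfsg.Agent.Lib.MinIndexOmega.PlusTwo
-- import your own Cfsg.Agent.* helpers here

set_option autoImplicit false
open Cfsg

namespace Cfsg.Agent.S2146

/-- Minimal index of a proper subgroup of the even-dimensional orthogonal groups of plus type over the field with 2 elements: for m ≥ 4, every proper subgroup of Ω⁺_2m(2) (for the form Σ xᵢyᵢ) has index at least 2^(m−1)(2^m − 1), and that index is attained. -/
theorem result {F : Type*} [Field F] [Fintype F] (hF : Fintype.card F = 2) (m : ℕ) (hm : 4 ≤ m) : (∀ H : Subgroup (Cfsg.POmega F (Cfsg.quadFormPlus m F)), H ≠ ⊤ → 2 ^ (m - 1) * (2 ^ m - 1) ≤ H.index) ∧ (∃ H : Subgroup (Cfsg.POmega F (Cfsg.quadFormPlus m F)), H.index = 2 ^ (m - 1) * (2 ^ m - 1)) := by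
  open Cfsg.Agent.Lib Cfsg.Agent.Lib.OrthOmega Cfsg.Agent.Lib.OrthStd Cfsg.Agent.Lib.Forms in
  have hcard : Nat.card F = 2 := Nat.card_eq_fintype_card.trans hF
  obtain ⟨_, _, hsign⟩ := MinIndexOmega.two_facts hcard
  have hd := MinIndexOmega.plusData_qPlus (F := F) (m := m) (by omega)
  have h5' : 5 ≤ Module.finrank F (Fin m ⊕ Fin m → F) := by rw [hd.rank]; omega
  refine MinIndexOmega.minIndex_pOmega hd.nd h5' (quadFormPlus_eq m)
    (fun K hK => MinIndexOmega.plus_two_bound hd hm hcard hK) ?_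
  obtain ⟨z, hz⟩ := exists_Q_eq hd.nd (by omega) (1 : F)
  have hz0 : z ≠ 0 := fun h => one_ne_zero (by rw [← hz, h, QuadraticMap.map_zero] : (1 : F) = 0)
  refine ⟨MinIndexOmega.pStab (qPlus m) z, MinIndexOmega.center_le_of_line hd.nd h5', ?_⟩
  have hidx := MinIndexOmega.lineStab_index hd.nd (by omega) hz0
  have hL : Nat.card {v // v ≠ 0 ∧ qPlus m v = qPlus (F := F) m z} = 2 ^ (m - 1) * (2 ^ m - 1) := by
    rw [hz, Nat.card_congr (Equiv.subtypeEquivRight (q := fun v => qPlus (F := F) m v = 1) fun v =>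
      ⟨fun h => h.2, fun h => ⟨fun h0 => one_ne_zero (α := F)
        (by rw [← h, h0, QuadraticMap.map_zero]), h⟩⟩)]
    show levelCard (qPlus (F := F) m) 1 = _
    rw [levelCard_qPlus m one_ne_zero, hcard, mul_comm]
  have hunits : Nat.card {t : F // t ≠ 0 ∧ t * t * qPlus m z = qPlus m z} = 1 := by
    rw [Nat.card_congr (Equiv.subtypeEquivRight (q := fun t : F => t ≠ 0) fun t =>
      ⟨fun h => h.1, fun h => ⟨h, by rw [hsign t h]; ring⟩⟩),
      MinIndexOmega.card_units, hcard]
  rw [hL, hunits, mul_one] at hidx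
  exact hidx

end Cfsg.Agent.S2146
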