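import Cfsg.Statements.S2147
import Cfsg.Agent.Lib.MinIndexOmega.Small
-- import your own Cfsg.Agent.* helpers here

set_option autoImplicit false
open Cfsg

namespace Cfsg.Agent.S2147

/-- Minimal index of a proper subgroup of the even-dimensional orthogonal groups of minus type: for m ≥ 4 and a field F with q elements, every proper subgroup of PΩ⁻_2m(F) (for the form Σ_{i<m−1} xᵢyᵢ + z₁² + a z₁z₂ + b z₂² with anisotropic binary part) has index at least (q^m + 1)(q^(m−1) − 1)/(q − 1), and that index is attained. -/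
theorem result {F : Type*} [Field F] [Fintype F] {q : ℕ} (hF : Fintype.card F = q) (m : ℕ) (hm : 4 ≤ m) (a b : F) (hab : ∀ z₁ z₂ : F, z₁ ^ 2 + a * z₁ * z₂ + b * z₂ ^ 2 = 0 → z₁ = 0 ∧ z₂ = 0) : (∀ H : Subgroup (Cfsg.POmega F (Cfsg.quadFormMinus (m - 1) F a b)), H ≠ ⊤ → (q ^ m + 1) * (q ^ (m - 1) - 1) / (q - 1) ≤ H.index) ∧ (∃ H : Subgroup (Cfsg.POmega F (Cfsg.quadFormMinus (m - 1) F a b)), H.index = (q ^ m + 1) * (q ^ (m - 1) - 1) / (q - 1)) := by
  open Cfsg.Agent.Lib Cfsg.Agent.Lib.OrthOmega Cfsg.Agent.Lib.OrthStd Cfsg.Agent.Lib.Forms in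
  have hcard : Nat.card F = q := Nat.card_eq_fintype_card.trans hF
  have hd := MinIndexOmega.minusData_qMinusC (F := F) (m := m) (by omega) hab
  have h5' : 5 ≤ Module.finrank F ((Fin (m - 1) ⊕ Fin (m - 1)) ⊕ Fin 2 → F) := by
    rw [hd.rank]; omega
  have hq : 2 ≤ q := hcard ▸ Finite.one_lt_card
  have hsc : MinIndexOmega.singCard (qMinusC (m - 1) a b) = (q ^ m + 1) * (q ^ (m - 1) - 1) := by
    have hz := hd.zero
    rw [MinIndexOmega.singCard_eq, hcard] at *
    have h1 : q ^ m ≤ q ^ (2 * m - 1) := Nat.pow_le_pow_right (by omega) (by omega)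
    have h2 : 1 ≤ q ^ (m - 1) := Nat.one_le_pow _ _ (by omega)
    have h3 : q ^ m * q ^ (m - 1) = q ^ (2 * m - 1) := by rw [← pow_add]; congr 1; omega
    rw [add_mul, one_mul, Nat.mul_sub, mul_one, h3]
    omega
  refine MinIndexOmega.minIndex_pOmega hd.nd h5' (quadFormMinus_eq (m - 1) a b)
    (fun K hK => ?_) ?_
  · have h := MinIndexOmega.minus_bound_all hd hm hK
    rwa [hsc, hcard] at h
  · obtain ⟨K, hK, hKi⟩ := MinIndexOmega.exists_point_index hd.nd h5'
    exact ⟨K, hK, by rw [hKi, hsc, hcard]⟩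

end Cfsg.Agent.S2147
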