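import Cfsg.Statements.S2148
import Cfsg.Agent.Lib.MinIndexPSU3.Main

set_option autoImplicit false
open Cfsg

namespace Cfsg.Agent.S2148

/-- Minimal index of a proper subgroup of the three-dimensional unitary groups: for a field F with q² elements, q ≥ 3 and q ≠ 5, every proper subgroup of PSU₃(q) has index at least q³ + 1, and that index is attained. -/
theorem result {F : Type*} [Field F] [Fintype F] (q : ℕ) (hF : Fintype.card F = q ^ 2) (hq : 3 ≤ q) (h5 : q ≠ 5) : (∀ H : Subgroup (Cfsg.PSU 3 F q), H ≠ ⊤ → q ^ 3 + 1 ≤ H.index) ∧ (∃ H : Subgroup (Cfsg.PSU 3 F q), H.index = q ^ 3 + 1) := by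
  open Cfsg.Agent.Lib.Unitary Cfsg.Agent.Lib.AutPSU Cfsg.Agent.Lib.MinIndexPSU
    Cfsg.Agent.Lib.MinIndexPSU3 in
  refine ⟨fun H hH => ?_, ?_⟩
  · set K : Subgroup (SU 3 F q) := H.comap (cls 3 F q) with hKdef
    have hidx : K.index = H.index := Subgroup.index_comap_of_surjective H cls_surjective
    have hK : K ≠ ⊤ := fun h0 => hH (by
      rw [← Subgroup.index_eq_one, ← hidx, h0, Subgroup.index_top])
    have hZ : Subgroup.center (SU 3 F q) ≤ K := fun z hz => by
      show cls 3 F q z ∈ H
      rw [show cls 3 F q z = 1 from (QuotientGroup.eq_one_iff z).2 hz]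
      exact H.one_mem
    rw [← hidx]
    by_contra hlt
    exact h5 (small_index hF hq K hK hZ (by omega)).1
  · obtain ⟨Φ⟩ := exists_frame3 (q := q) hF
    refine ⟨(NS Φ.e).map (cls 3 F q), ?_⟩
    rw [Subgroup.index_map_eq _ cls_surjective (by
      rw [QuotientGroup.ker_mk']; exact center_le_NS hF (by norm_num) Φ.e)]
    exact Φ.index_NS hF

end Cfsg.Agent.S2148
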