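import Cfsg.Statements.S2149
import Cfsg.Agent.Lib.MinIndexPSU3.Main
import Cfsg.Agent.Lib.MinIndexPSU3.Five

set_option autoImplicit false
open Cfsg

namespace Cfsg.Agent.S2149

/-- Minimal index of a proper subgroup of PSU₃(5), realised over the field with 25 elements: every proper subgroup has index at least 50, and that index is attained. -/
theorem result {F : Type*} [Field F] [Fintype F] (hF : Fintype.card F = 25) : (∀ H : Subgroup (Cfsg.PSU 3 F 5), H ≠ ⊤ → 50 ≤ H.index) ∧ (∃ H : Subgroup (Cfsg.PSU 3 F 5), H.index = 50) := by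
  open Cfsg.Agent.Lib.Unitary Cfsg.Agent.Lib.AutPSU Cfsg.Agent.Lib.MinIndexPSU3 in
  have hF' : Fintype.card F = 5 ^ 2 := by rw [hF]; norm_num
  open Cfsg.Agent.Lib.Unitary Cfsg.Agent.Lib.AutPSU Cfsg.Agent.Lib.MinIndexPSU3 in
  have key : ∀ K : Subgroup (SU 3 F 5), K ≠ ⊤ → Subgroup.center (SU 3 F 5) ≤ K → 50 ≤ K.index :=
    fun K hK hZ => by
      by_contra hlt
      push Not at hlt
      have := (small_index hF' (by norm_num) K hK hZ (by omega)).2
      omega
  open Cfsg.Agent.Lib.Unitary Cfsg.Agent.Lib.AutPSU Cfsg.Agent.Lib.MinIndexPSU3 in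
  refine ⟨fun H hH => ?_, ?_⟩
  · have hidx : (H.comap (cls 3 F 5)).index = H.index :=
      Subgroup.index_comap_of_surjective H cls_surjective
    rw [← hidx]
    refine key _ (fun h0 => hH ?_) fun z hz => ?_
    · rw [← Subgroup.index_eq_one, ← hidx, h0, Subgroup.index_top]
    · show cls 3 F 5 z ∈ H
      rw [show cls 3 F 5 z = 1 from (QuotientGroup.eq_one_iff z).2 hz]
      exact H.one_mem
  · obtain ⟨K, hK, hZ, hdvd⟩ := seven_five_sixty_dvd hF'
    obtain ⟨Φ⟩ := exists_frame3 (q := 5) hF'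
    refine ⟨K.map (cls 3 F 5), ?_⟩
    rw [Subgroup.index_map_eq _ cls_surjective (by rw [QuotientGroup.ker_mk']; exact hZ)]
    have h1 := Subgroup.index_mul_card K
    rw [Φ.card_SU3 hF'] at h1
    have h2 := key K hK hZ
    have hpos : 0 < Nat.card K := Nat.card_pos
    have h3 := Nat.mul_le_mul_left K.index (Nat.le_of_dvd hpos hdvd)
    norm_num at h1
    omega

end Cfsg.Agent.S2149
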