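import Cfsg.Statements.S2151
import Cfsg.Agent.Lib.MinIndexPSU.Odd

set_option autoImplicit false
open Cfsg

namespace Cfsg.Agent.S2151

/-- Minimal index of a proper subgroup of the unitary groups of odd dimension n ≥ 5: for a field F with q² elements, every proper subgroup of PSU_n(q) has index at least (q^n + 1)(q^(n−1) − 1)/(q² − 1), and that index is attained. -/
theorem result {F : Type*} [Field F] [Fintype F] (q : ℕ) (hF : Fintype.card F = q ^ 2) (hq : 2 ≤ q) (n : ℕ) (hn : 5 ≤ n) (hodd : Odd n) : (∀ H : Subgroup (Cfsg.PSU n F q), H ≠ ⊤ → (q ^ n + 1) * (q ^ (n - 1) - 1) / (q ^ 2 - 1) ≤ H.index) ∧ (∃ H : Subgroup (Cfsg.PSU n F q), H.index = (q ^ n + 1) * (q ^ (n - 1) - 1) / (q ^ 2 - 1)) := by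
  open Cfsg.Agent.Lib.Unitary Cfsg.Agent.Lib.AutPSU Cfsg.Agent.Lib.MinIndexPSU in
  refine ⟨fun H hH => ?_, ?_⟩
  · set K : Subgroup (SU n F q) := H.comap (cls n F q)
    have hidx : K.index = H.index := Subgroup.index_comap_of_surjective H cls_surjective
    have hK : K ≠ ⊤ := fun h0 => hH (by
      rw [← Subgroup.index_eq_one, ← hidx, h0, Subgroup.index_top])
    obtain ⟨A, hA, hAK⟩ : ∃ A : SU n F q, IsTv (suToGU n F q A) ∧ A ∉ K := by
      by_contra hcon
      push Not at hcon
      refine hK (eq_top_iff.2 ?_)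
      rw [← suTransvections_closure hF (by omega) (by omega : ¬ (n = 3 ∧ q = 2)), Subgroup.closure_le]
      exact hcon
    obtain ⟨v, c, hv, hc, hT⟩ := hA
    have hv0 : v ≠ 0 := fun h0 => hAK (by
      rw [show A = 1 from suToGU_injective (GU_ext fun x => by
        rw [hT x, h0, smul_zero, add_zero]; simp)]
      exact K.one_mem)
    obtain ⟨f, hf⟩ := exists_hyp hF hv0 hv
    have hRS : ¬ RS v ≤ K := fun hle => hAK (hle ((mem_RS_iff hF hf).2 ⟨c, hc, hT⟩))
    rw [← hidx]
    refine Nat.div_le_of_le_mul ?_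
    rw [mul_comm (q ^ 2 - 1)]
    rw [← countNull_odd hF hodd]
    exact index_bound_odd hF hq hn hodd hf hRS
  · obtain ⟨e, f, hef⟩ := exists_hyp_any hF (n := n) (by omega)
    refine ⟨(NS e).map (cls n F q), ?_⟩
    rw [Subgroup.index_map_eq _ cls_surjective (by
      rw [QuotientGroup.ker_mk']; exact center_le_NS hF (by omega) e)]
    have h := index_NS_mul hF (by omega) hef
    rw [countNull_odd hF hodd] at h
    rw [← h, Nat.mul_div_cancel]
    have : 2 ^ 2 ≤ q ^ 2 := Nat.pow_le_pow_left hq 2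
    omega

end Cfsg.Agent.S2151
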