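import Cfsg.Statements.S2153
import Cfsg.Agent.Lib.MinIndexPSU.Two

set_option autoImplicit false
open Cfsg

namespace Cfsg.Agent.S2153

/-- Minimal index of a proper subgroup of the unitary groups PSU_n(2) with n divisible by 6, realised over the field with 4 elements: every proper subgroup has index at least 2^(n−1)(2^n − 1)/3, and that index is attained. -/
theorem result {F : Type*} [Field F] [Fintype F] (hF : Fintype.card F = 4) (n : ℕ) (hn : 6 ∣ n) (hpos : 6 ≤ n) : (∀ H : Subgroup (Cfsg.PSU n F 2), H ≠ ⊤ → 2 ^ (n - 1) * (2 ^ n - 1) / 3 ≤ H.index) ∧ (∃ H : Subgroup (Cfsg.PSU n F 2), H.index = 2 ^ (n - 1) * (2 ^ n - 1) / 3) := by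
  open Cfsg.Agent.Lib.Unitary Cfsg.Agent.Lib.AutPSU Cfsg.Agent.Lib.MinIndexPSU in
  have hF' : Fintype.card F = 2 ^ 2 := by rw [hF]; norm_num
  have heven : Even n := even_iff_two_dvd.2 (dvd_trans (by norm_num) hn)
  refine ⟨fun H hH => ?_, ?_⟩
  · set K : Subgroup (SU n F 2) := H.comap (cls n F 2)
    have hidx : K.index = H.index := Subgroup.index_comap_of_surjective H cls_surjective
    have hK : K ≠ ⊤ := fun h0 => hH (by
      rw [← Subgroup.index_eq_one, ← hidx, h0, Subgroup.index_top])
    obtain ⟨A, hA, hAK⟩ : ∃ A : SU n F 2, IsTv (suToGU n F 2 A) ∧ A ∉ K := by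
      by_contra hcon
      push Not at hcon
      refine hK (eq_top_iff.2 ?_)
      rw [← suTransvections_closure hF' (by omega) (by omega : ¬ (n = 3 ∧ 2 = 2)), Subgroup.closure_le]
      exact hcon
    obtain ⟨v, c, hv, hc, hT⟩ := hA
    have hv0 : v ≠ 0 := fun h0 => hAK (by
      rw [show A = 1 from suToGU_injective (GU_ext fun x => by
        rw [hT x, h0, smul_zero, add_zero]; simp)]
      exact K.one_mem)
    obtain ⟨f, hf⟩ := exists_hyp hF' hv0 hv
    have hRS : ¬ RS v ≤ K := fun hle => hAK (hle ((mem_RS_iff hF' hf).2 ⟨c, hc, hT⟩))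
    rw [← hidx]
    refine Nat.div_le_of_le_mul ?_
    rw [mul_comm 3, ← countUnit_even hF' (by omega) heven]
    exact index_bound_two hF' hn hpos hf hRS
  · have hp : hermForm n F 2 (Pi.single ⟨0, by omega⟩ 1) (Pi.single ⟨0, by omega⟩ 1) = 1 := by
      rw [herm_std hF']; simp
    refine ⟨(NS (Pi.single ⟨0, by omega⟩ 1)).map (cls n F 2), ?_⟩
    rw [Subgroup.index_map_eq _ cls_surjective (by
      rw [QuotientGroup.ker_mk']; exact center_le_NS hF' (by omega) _)]
    have h := index_NS_unit_mul hF' (by omega) hp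
    rw [countUnit_even hF' (by omega) heven] at h
    rw [← h, Nat.mul_div_cancel _ (by norm_num)]

end Cfsg.Agent.S2153
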