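import Cfsg.Statements.S2158
import Cfsg.Agent.S2157
import Cfsg.Agent.Lib.ChevStructure.BN
import Cfsg.Agent.Lib.ChevStructure.CommAll

set_option autoImplicit false
open Cfsg

namespace Cfsg.Agent.S2158

open Cfsg.Lie Cfsg.Agent.Lib.ChevStructure Cfsg.Agent.Lib.ChevStructure.Core DoubleCoset
open scoped MatrixGroups Matrix

/-- A diagonal element of the group normalising every root subgroup lies in the diagonal subgroup. -/
theorem core_mem {F : Type*} [Field F] {D : ChevalleyDatum} (C : Core D) (H : CommOK C) (d : Rt D → Fˣ)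
    (hg : (diag F d : GL D.Idx F) ∈ D.group F)
    (hconj : ∀ r t, diag F d * C.X F r t * (diag F d)⁻¹ = C.X F r ((d r : F) * t)) :
    diag F d ∈ D.diagonalSubgroup F := by
  set g : GL D.Idx F := diag F d with hgdef
  -- g normalises U and H, hence B
  have hgU : g ∈ Subgroup.normalizer (C.US F C.Pos : Set (GL D.Idx F)) := by
    have hsurj : ∀ r (t : F), ∃ u, g * C.X F r u * g⁻¹ = C.X F r t := fun r t =>
      ⟨(((d r)⁻¹ : Fˣ) : F) * t, by rw [hconj, ← mul_assoc, Units.mul_inv, one_mul]⟩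
    have himg : (C.US F C.Pos).map (MulAut.conj g).toMonoidHom = C.US F C.Pos := by
      rw [Core.US, MonoidHom.map_closure]
      congr 1
      ext x
      constructor
      · rintro ⟨_, ⟨r, hr, t, rfl⟩, rfl⟩
        exact ⟨r, hr, _, hconj r t⟩
      · rintro ⟨r, hr, t, rfl⟩
        obtain ⟨u, hu⟩ := hsurj r t
        exact ⟨_, ⟨r, hr, u, rfl⟩, hu⟩
    rw [Subgroup.mem_normalizer_iff]
    intro h
    conv_rhs => rw [← himg]
    exact (Subgroup.mem_map_iff_mem (f := (MulAut.conj g).toMonoidHom) (MulAut.conj g).injective (x := h)).symm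
  obtain ⟨n, hn, hcell⟩ := H.exists_bruhat hg
  obtain ⟨a, ha, b, hb, e⟩ := mem_doubleCoset.1 hcell
  have hBN : D.borelSubgroup F ≤ Subgroup.normalizer (C.US F C.Pos : Set (GL D.Idx F)) := by
    rw [C.borel_eq]; exact sup_le Subgroup.le_normalizer (C.diag_le_normalizer _)
  have hnU : n ∈ Subgroup.normalizer (C.US F C.Pos : Set (GL D.Idx F)) := by
    rw [show n = a⁻¹ * g * b⁻¹ by rw [e]; group]
    exact mul_mem (mul_mem (inv_mem (hBN ha)) hgU) (inv_mem (hBN hb))
  obtain ⟨σ, hσ, hacts⟩ := C.exists_acts hn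
  obtain ⟨L, rfl⟩ := C.mem_WG_iff.1 hσ
  have hL : C.pprod L = 1 := by
    by_contra hne
    obtain ⟨i, hi⟩ := C.exists_descent hne
    obtain ⟨c, hc⟩ := hacts (C.p i)
    have h1 := (Subgroup.mem_normalizer_iff.1 hnU (C.X F (C.p i) 1)).1 (C.X_mem_US F (C.p_pos i) 1)
    have h1' : C.X F (C.pprod L (C.p i)) ((c : F) * 1) ∈ D.borelSubgroup F := by
      rw [← hc]; exact C.posUS_le_borel h1
    have := C.X_neg_mem_borel hi h1'
    simp at this
  rw [hL] at hacts
  have hnH := C.mem_diagonal_of_acts_one hn hacts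
  have hgB : g ∈ D.borelSubgroup F := by
    rw [e]; exact mul_mem (mul_mem ha (C.diagonal_le_borel hnH)) hb
  obtain ⟨u, hu, k, hk, e2⟩ := C.mem_borel_iff.1 hgB
  obtain ⟨c, rfl⟩ := C.mem_diagonal_iff.1 hk
  have e3 : u = diag F (d * (fun s => ∏ j, c j ^ A D j s)⁻¹) := by
    rw [← C.diag_mul, ← C.diag_inv, ← hgdef, e2]
    exact (mul_inv_cancel_right u _).symm
  have hu1 : u = 1 := by
    have h := C.posUS_le_upperU hu
    rw [e3] at h ⊢
    exact C.diag_upperU_eq_one F le_rfl _ h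
  rw [e2, hu1, one_mul]
  exact hk


/-- In a Chevalley group of type G₂, B₂, D₄, F₄, E₆, E₇ or E₈ over any field, an element of the group whose matrix is the diagonal matrix `ĥ(χ)` of a character `χ` of the root lattice already lies in the diagonal subgroup H (the non-trivial inclusion of the statement that the group meets the group of all such diagonal matrices in H). -/
theorem result {F : Type*} [Field F] (D : Cfsg.Lie.ChevalleyDatum) (hD : D ∈ [Cfsg.Lie.chevG2, Cfsg.Lie.chevB2, Cfsg.Lie.chevD4, Cfsg.Lie.chevF4, Cfsg.Lie.chevE6, Cfsg.Lie.chevE7, Cfsg.Lie.chevE8]) (χ : ℕ → Fˣ) (hχ : D.IsRootCharacter χ) (g : GL D.Idx F) (hg : g ∈ D.group F)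
    (hgχ : (g : Matrix D.Idx D.Idx F) = D.charDiag F χ) : g ∈ D.diagonalSubgroup F := by
  obtain ⟨S⟩ := Cfsg.Agent.Lib.ChevStructure.nonempty_sys D hD
  have H := S.commOK
  generalize S.toCore = C at H
  have e : g = diag F (fun s : Rt D => χ s.val) := Units.ext hgχ
  have hinv : ((g⁻¹ : GL D.Idx F) : Matrix D.Idx D.Idx F) = D.charDiag F (fun s => (χ s)⁻¹) := by
    rw [e, C.diag_inv]; rfl
  subst e
  refine core_mem C H _ hg fun r t => Units.ext ?_
  rw [Units.val_mul, Units.val_mul, hinv, hgχ, C.X_val, C.X_val, ← C.xI_eq_x, ← C.xI_eq_x]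
  exact Cfsg.Agent.S2157.result D hD χ hχ r.val r.isLt t

end Cfsg.Agent.S2158
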