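import Cfsg.Statements.S2159
import Cfsg.Agent.Lib.ChevAut.Instances
import Cfsg.Agent.Lib.ChevStructure.CommAll

set_option autoImplicit false
set_option linter.unusedSectionVars false
open Cfsg

namespace Cfsg.Agent.S2159

open Cfsg.Lie Cfsg.Agent.Lib.ChevStructure Cfsg.Agent.Lib.ChevAut Cfsg.Agent.Lib.ChevBorelTits

universe u

variable {F : Type u} [Field F] [Fintype F]

theorem mem_dfbar {D : ChevalleyDatum} (C : Core D) (H : CommOK C) (hT : DiagramTable D) (hh : headsOK D = true)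
    (hD : D ∈ [chevG2, chevB2, chevD4, chevF4, chevE6, chevE7, chevE8]) {q : Cfsg.Out ↥(D.group F)}
    (hq : q ∈ dbar C (F := F) ⊔ fbar C) :
    ∃ (χ : Fin D.rank → Fˣ) (σ : F ≃+* F), q = toOut C (diagHom C χ * 1 * fieldHom C σ) := by
  haveI hn := dbar_normal C (F := F) H hT hh hD
  rw [← SetLike.mem_coe, Subgroup.normal_mul] at hq
  obtain ⟨d, hd, f, hf, rfl⟩ := hq
  obtain ⟨_, ⟨χ, rfl⟩, rfl⟩ := hd
  obtain ⟨_, ⟨σ, rfl⟩, rfl⟩ := hf
  exact ⟨χ, σ, by rw [mul_one, map_mul]⟩

theorem graphWith_inv {D : ChevalleyDatum} (C : Core D)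
    (hl : ∀ (π : Equiv.Perm (Fin D.rank)) i, stol D π i = false) {π : Equiv.Perm (Fin D.rank)}
    {φ : MulAut ↥(D.group F)} (h : GraphWith C π φ) : GraphWith C π⁻¹ φ⁻¹ := by
  have he : ∀ π i, gexp C F π i = 1 := fun π i => by
    simp only [gexp, graphExp_eq C, hl π i, Bool.false_eq_true, if_false]
  intro i t
  rw [he, pow_one]
  have hi := h (π⁻¹ i) t
  rw [he, pow_one, show π (π⁻¹ i) = i from π.apply_symm_apply i] at hi
  exact ⟨φ.injective (by rw [hi.1, MulAut.apply_inv_self]), φ.injective (by rw [hi.2, MulAut.apply_inv_self])⟩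

theorem d4_part (C : Core chevD4) (H : CommOK C)
    (hD : chevD4 ∈ [chevG2, chevB2, chevD4, chevF4, chevE6, chevE7, chevE8]) :
    (dbar C (F := F) ⊔ fbar C).index = 6 ∧
      ¬ commutator (Cfsg.Out ↥(chevD4.group F)) ≤ dbar C (F := F) ⊔ fbar C := by
  have hT := table_of_simplyLaced sl_D4
  have hh := headsOK_all chevD4 hD
  haveI hN := dfbar_normal C (F := F) H hT hh hD
  set fam := famD4 (F := F) C H with hfam
  refine ⟨le_antisymm ?_ ?_, ?_⟩
  · refine (index_le C H hT hh hD).trans (card_adjPerm_le chevD4 enum_D4)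
  · let f : Fin 6 → Cfsg.Out ↥(chevD4.group F) ⧸ (dbar C (F := F) ⊔ fbar C) := fun γ =>
      QuotientGroup.mk (toOut C (fam.aut γ))
    have hf : Function.Injective f := by
      intro γ γ' h
      obtain ⟨χ, σ, e⟩ := mem_dfbar C H hT hh hD (QuotientGroup.eq.1 h)
      have e' : toOut C (diagHom C 1 * fam.aut γ' * fieldHom C 1) =
          toOut C (diagHom C (graphChar C (fam.perm γ) χ) * fam.aut γ * fieldHom C σ) := by
        rw [map_one, map_one, one_mul, mul_one, ← graph_diag C (fam.spec γ), map_mul, map_mul, mul_assoc,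
          ← map_mul (toOut C) (diagHom C χ)]
        rw [mul_one] at e
        rw [← e, mul_inv_cancel_left]
      obtain ⟨hπ, -, -⟩ := class_eq C H (fam.spec γ') (fam.spec γ) (fam.fix γ') (fam.fix γ) e'
      exact fam.inj hπ
    have := Nat.card_le_card_of_injective f hf
    rw [Nat.card_fin] at this
    exact this
  · intro hle
    have a := sym_graph C (F := F) symA symA_good permA permA_facts permA_pos
    have b := sym_graph C (F := F) symB symB_good permB permB_facts permB_pos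
    have m := @graphWith_mul chevD4 C F _ _
    set φA := Cfsg.Agent.Lib.LieTwisted.GraphAut.groupAut F symA_good
    set φB := Cfsg.Agent.Lib.LieTwisted.GraphAut.groupAut F symB_good
    have hc : GraphWith C (permA * permB * permA⁻¹ * permB⁻¹) (φA * φB * φA⁻¹ * φB⁻¹) :=
      m stol_D4 (m stol_D4 (m stol_D4 a.1 b.1) (graphWith_inv C stol_D4 a.1)) (graphWith_inv C stol_D4 b.1)
    have hfix : Fix (φA * φB * φA⁻¹ * φB⁻¹) (C.US F C.Pos) ∧ Fix (φA * φB * φA⁻¹ * φB⁻¹) (C.US F C.Neg) :=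
      ⟨(Fix.symm b.2.1).trans ((Fix.symm a.2.1).trans (b.2.1.trans a.2.1)),
        (Fix.symm b.2.2).trans ((Fix.symm a.2.2).trans (b.2.2.trans a.2.2))⟩
    have hmem : toOut C (φA * φB * φA⁻¹ * φB⁻¹) ∈ dbar C (F := F) ⊔ fbar C := by
      rw [map_mul, map_mul, map_mul, map_inv, map_inv, ← commutatorElement_def]
      exact hle (Subgroup.commutator_mem_commutator (Subgroup.mem_top _) (Subgroup.mem_top _))
    obtain ⟨χ, σ, e⟩ := mem_dfbar C H hT hh hD hmem
    have e' : toOut C (diagHom C 1 * (φA * φB * φA⁻¹ * φB⁻¹) * fieldHom C 1) =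
        toOut C (diagHom C χ * 1 * fieldHom C σ) := by
      rw [map_one, map_one, one_mul, mul_one, e]
    obtain ⟨hπ, -, -⟩ := class_eq C H hc (graphWith_one C) hfix ⟨fun _ => Iff.rfl, fun _ => Iff.rfl⟩ e'
    exact permsD4_noncomm hπ.symm

/-- Structure of the outer automorphism group of the Chevalley group `G` of type G₂, B₂, D₄, F₄, E₆, E₇ or E₈ over a finite field. Let `D̄` be the image in `Out(G)` of the subgroup generated by the diagonal automorphisms and `F̄` the image of the subgroup generated by the field automorphisms. Then `D̄` is a normal abelian subgroup of `Out(G)`, `F̄` is cyclic, `D̄F̄` is a normal subgroup, and the quotient of `Out(G)` by `D̄F̄` is trivial, of order 2, or non-abelian of order 6 (so isomorphic to the symmetric group on three letters): its index is 1 or 2, or it is 6 with the commutator subgroup of `Out(G)` not inside `D̄F̄`. -/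
theorem result {F : Type*} [Field F] [Finite F] (D : Cfsg.Lie.ChevalleyDatum) (hD : D ∈ [Cfsg.Lie.chevG2, Cfsg.Lie.chevB2, Cfsg.Lie.chevD4, Cfsg.Lie.chevF4, Cfsg.Lie.chevE6, Cfsg.Lie.chevE7, Cfsg.Lie.chevE8])
    (Dbar Fbar : Subgroup (Cfsg.Out ↥(D.group F)))
    (hDbar : Dbar = (Subgroup.closure {φ : MulAut ↥(D.group F) | D.IsDiagonalAut φ}).map (QuotientGroup.mk' (Cfsg.Inn ↥(D.group F))))
    (hFbar : Fbar = (Subgroup.closure {φ : MulAut ↥(D.group F) | D.IsFieldAut φ}).map (QuotientGroup.mk' (Cfsg.Inn ↥(D.group F)))) :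
    Dbar.Normal ∧ IsMulCommutative ↥Dbar ∧ IsCyclic ↥Fbar ∧ (Dbar ⊔ Fbar).Normal ∧
      ((Dbar ⊔ Fbar).index = 1 ∨ (Dbar ⊔ Fbar).index = 2 ∨
        ((Dbar ⊔ Fbar).index = 6 ∧ ¬ commutator (Cfsg.Out ↥(D.group F)) ≤ Dbar ⊔ Fbar)) := by
  haveI := Fintype.ofFinite F
  obtain ⟨S⟩ := Cfsg.Agent.Lib.ChevStructure.nonempty_sys D hD
  have H := S.commOK
  have hT := table_all D hD
  have hh := headsOK_all D hD
  generalize S.toCore = C at H
  have e1 : {φ : MulAut ↥(D.group F) | D.IsDiagonalAut φ} = ((diagHom C (F := F)).range : Set _) :=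
    Set.ext fun φ => isDiagonalAut_iff C hh hD φ
  have e2 : {φ : MulAut ↥(D.group F) | D.IsFieldAut φ} = ((fieldHom C (F := F)).range : Set _) :=
    Set.ext fun φ => isFieldAut_iff C φ
  rw [e1, Subgroup.closure_eq] at hDbar
  rw [e2, Subgroup.closure_eq] at hFbar
  have eD : Dbar = dbar C := hDbar
  have eF : Fbar = fbar C := hFbar
  subst eD eF
  refine ⟨dbar_normal C H hT hh hD, dbar_comm C, fbar_cyclic C, dfbar_normal C H hT hh hD, ?_⟩
  have hle := index_le C (F := F) H hT hh hD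
  have hpos : (dbar C (F := F) ⊔ fbar C).index ≠ 0 := Subgroup.index_ne_zero_of_finite
  have small : ∀ n, n ≤ 2 → Nat.card {π : Equiv.Perm (Fin D.rank) // AdjPerm D π} ≤ n →
      ((dbar C (F := F) ⊔ fbar C).index = 1 ∨ (dbar C (F := F) ⊔ fbar C).index = 2 ∨
        ((dbar C (F := F) ⊔ fbar C).index = 6 ∧ ¬ commutator (Cfsg.Out ↥(D.group F)) ≤ dbar C ⊔ fbar C)) := by
    intro n hn hc; omega
  simp only [List.mem_cons, List.mem_nil_iff, or_false] at hD
  rcases hD with rfl | rfl | rfl | rfl | rfl | rfl | rfl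
  · exact small 2 le_rfl (card_adjPerm_le _ enum_G2)
  · exact small 2 le_rfl (card_adjPerm_le _ enum_B2)
  · exact Or.inr (Or.inr (d4_part C H (by simp)))
  · exact small 2 le_rfl (card_adjPerm_le _ enum_F4)
  · exact small 2 le_rfl (card_adjPerm_le _ enum_E6)
  · exact small 1 (by norm_num) (card_adjPerm_le _ enum_E7)
  · exact small 1 (by norm_num) (card_adjPerm_le _ enum_E8)

end Cfsg.Agent.S2159
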