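import Cfsg.Statements.S2160
import Cfsg.Agent.Lib.ChevAut.Simple

set_option autoImplicit false
open Cfsg

namespace Cfsg.Agent.S2160

/-- In a Chevalley group of type G₂, B₂, D₄, F₄, E₆, E₇ or E₈ over a finite field, every field automorphism commutes with every graph automorphism. -/
theorem result {F : Type*} [Field F] [Finite F] (D : Cfsg.Lie.ChevalleyDatum) (hD : D ∈ [Cfsg.Lie.chevG2, Cfsg.Lie.chevB2, Cfsg.Lie.chevD4, Cfsg.Lie.chevF4, Cfsg.Lie.chevE6, Cfsg.Lie.chevE7, Cfsg.Lie.chevE8]) (f g : ↥(D.group F) ≃* ↥(D.group F))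
    (hf : D.IsFieldAut f) (hg : D.IsGraphAut g) (y : ↥(D.group F)) : f (g y) = g (f y) := by
  obtain ⟨C⟩ := Lib.ChevStructure.nonempty_core D hD
  obtain ⟨σ, hσ⟩ := hf
  obtain ⟨π, -, hπ⟩ := hg
  have fX : ∀ r t, f (Lib.ChevAut.GX C F r t) = Lib.ChevAut.GX C F r (σ t) := fun r t =>
    Lib.ChevAut.eq_GX C F (hσ _ r.val t r.isLt (Lib.ChevAut.GX_mat C F r t))
  have gp : ∀ i t, g (Lib.ChevAut.GX C F (C.p i) t) =
      Lib.ChevAut.GX C F (C.p (π i)) (t ^ D.graphExp (ringChar F) i (π i)) := fun i t => by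
    refine Lib.ChevAut.eq_GX C F ?_
    rw [← C.simple_eq]
    exact (hπ _ i t).1 (by rw [C.simple_eq]; exact Lib.ChevAut.GX_mat C F _ t)
  have gn : ∀ i t, g (Lib.ChevAut.GX C F (C.p i).rev t) =
      Lib.ChevAut.GX C F (C.p (π i)).rev (t ^ D.graphExp (ringChar F) i (π i)) := fun i t => by
    refine Lib.ChevAut.eq_GX C F ?_
    rw [← C.neg_val, ← C.simple_eq]
    exact (hπ _ i t).2 (by rw [C.simple_eq, C.neg_val]; exact Lib.ChevAut.GX_mat C F _ t)
  refine Lib.ChevAut.hom_ext C F (f := (g.trans f).toMonoidHom) (g := (f.trans g).toMonoidHom) ?_ ?_ y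
  · intro i t
    simp only [MulEquiv.coe_toMonoidHom, MulEquiv.trans_apply, gp, fX, map_pow]
  · intro i t
    simp only [MulEquiv.coe_toMonoidHom, MulEquiv.trans_apply, gn, fX, map_pow]

end Cfsg.Agent.S2160
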