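import Cfsg.Statements.S2161
import Cfsg.Agent.Lib.ChevAut.Simple

set_option autoImplicit false
open Cfsg

namespace Cfsg.Agent.S2161

open Lie Lib.ChevStructure Lib.ChevAut

private theorem facts (D : ChevalleyDatum) (hD : D ∈ [chevD4, chevE6]) :
    (∀ i j : Fin D.rank, i ≠ j → D.cartan i (D.simple j) = - D.bonds i j) ∧
    (∀ r s : Rt D, co D r = co D s → r = s) := by
  simp only [List.mem_cons, List.not_mem_nil, or_false] at hD
  rcases hD with rfl | rfl <;> exact ⟨by decide +kernel, by decide +kernel⟩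

/-- For the Chevalley groups of types D₄ and E₆ (one root length) over any field: if `π` is a symmetry of the Dynkin diagram and `φ` is an automorphism sending `x_{p_i}(t)` to `x_{p_{π i}}(t)` and `x_{-p_i}(t)` to `x_{-p_{π i}}(t)` for every fundamental root `p_i`, then for every root `r` there is a sign `ε = ±1` with `φ(x_r(t)) = x_{π·r}(ε t)` for all `t`, where `π·r` is the root whose coefficients are those of `r` permuted by `π`. -/
theorem result {F : Type*} [Field F] (D : Cfsg.Lie.ChevalleyDatum) (hD : D ∈ [Cfsg.Lie.chevD4, Cfsg.Lie.chevE6])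
    (π : Equiv.Perm (Fin D.rank)) (hπ : D.IsDiagramSymmetry π) (φ : ↥(D.group F) ≃* ↥(D.group F))
    (hφ : ∀ (g : ↥(D.group F)) (i : Fin D.rank) (t : F),
      (((g : GL D.Idx F) : Matrix D.Idx D.Idx F) = D.x F (D.simple i) t →
        ((φ g : GL D.Idx F) : Matrix D.Idx D.Idx F) = D.x F (D.simple (π i)) t) ∧
      (((g : GL D.Idx F) : Matrix D.Idx D.Idx F) = D.x F (D.neg (D.simple i)) t →
        ((φ g : GL D.Idx F) : Matrix D.Idx D.Idx F) = D.x F (D.neg (D.simple (π i))) t))
    (r : ℕ) (hr : r < D.nroots) :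
    ∃ ε : F, (ε = 1 ∨ ε = -1) ∧ ∀ (g : ↥(D.group F)) (t : F),
      ((g : GL D.Idx F) : Matrix D.Idx D.Idx F) = D.x F r t →
        ((φ g : GL D.Idx F) : Matrix D.Idx D.Idx F) = D.x F (D.permRoot π r) (ε * t) := by
  obtain ⟨C⟩ := Lib.ChevStructure.nonempty_core D (by
    simp only [List.mem_cons, List.not_mem_nil, or_false] at hD ⊢
    rcases hD with rfl | rfl <;> tauto)
  obtain ⟨hA, hco⟩ := facts D hD
  have hA' : ∀ i j, A D (π i) (C.p (π j)) = A D i (C.p j) := by
    intro i j
    by_cases hij : i = j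
    · subst hij; rw [C.A_p, C.A_p]
    · show D.cartan _ _ = D.cartan _ _
      rw [← C.simple_eq, ← C.simple_eq, hA _ _ hij, hA _ _ (π.injective.ne hij), hπ i j hij]
  have hprm : ∀ r s : Rt D, (∀ j, co D s (π j) = co D r j) → D.permRoot π r.val = s.val := by
    intro r s h
    unfold ChevalleyDatum.permRoot
    set P : ℕ → Bool := fun s => (List.finRange D.rank).all fun i =>
      (D.coroot.getD s #[]).getD (π i).val 0 == (D.coroot.getD r.val #[]).getD i.val 0 with hP
    have hs : P s.val = true := by simpa [hP, co] using h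
    cases hf : (List.range D.nroots).find? P with
    | none => exact absurd hs (List.find?_eq_none.1 hf s.val (List.mem_range.2 s.isLt))
    | some a =>
      have ha := List.find?_some hf
      have hlt := List.mem_range.1 (List.mem_of_find?_eq_some hf)
      have e : (⟨a, hlt⟩ : Rt D) = s := hco _ _ (funext fun k => by
        obtain ⟨j, rfl⟩ := π.surjective k
        rw [h j]
        simp [hP] at ha
        simpa [co] using ha j)
      exact congrArg Fin.val e
  have hp : ∀ i t, φ (GX C F (C.p i) t) = GX C F (C.p (π i)) t := fun i t => by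
    refine eq_GX C F ?_
    rw [← C.simple_eq]
    exact (hφ _ i t).1 (by rw [C.simple_eq]; exact GX_mat C F _ t)
  have hn : ∀ i t, φ (GX C F (C.p i).rev t) = GX C F (C.p (π i)).rev t := fun i t => by
    refine eq_GX C F ?_
    rw [← C.neg_val, ← C.simple_eq]
    exact (hφ _ i t).2 (by rw [C.simple_eq, C.neg_val]; exact GX_mat C F _ t)
  have hη : ∀ i r, (C.η i r : F) = 1 ∨ (C.η i r : F) = -1 := fun i r => by
    rcases C.η_one i r with e | e <;> simp [e]
  obtain ⟨s, hs, ε, hε, hX⟩ : ∃ s : Rt D, (∀ j, co D s (π j) = co D ⟨r, hr⟩ j) ∧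
      ∃ ε : F, (ε = 1 ∨ ε = -1) ∧ ∀ t, φ (GX C F ⟨r, hr⟩ t) = GX C F s (ε * t) := by
    refine C.ind (fun r => ∃ s : Rt D, (∀ j, co D s (π j) = co D r j) ∧
      ∃ ε : F, (ε = 1 ∨ ε = -1) ∧ ∀ t, φ (GX C F r t) = GX C F s (ε * t)) ?_ ?_ _
    · intro i
      exact ⟨C.p (π i), fun j => by simp [C.co_p, Pi.single_apply], 1, Or.inl rfl,
        fun t => by rw [one_mul, hp]⟩
    · rintro i r ⟨s, hs, ε, hε, hX⟩
      refine ⟨C.w (π i) s, fun j => ?_, (C.η (π i) s : F) * ε * (C.η i r : F), ?_, fun t => ?_⟩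
      · have hpr : pr D s (C.p (π i)) = pr D r (C.p i) := by
          unfold pr
          rw [← Equiv.sum_comp π]
          simp only [hs, hA']
        simp only [C.co_w, Pi.sub_apply, Pi.smul_apply, hs, hpr, Pi.single_apply,
          π.injective.eq_iff]
      · rcases hη (π i) s with a | a <;> rcases hε with b | b <;> rcases hη i r with c | c <;> simp [a, b, c]
      · have hP : φ (GP C F i) = GP C F (π i) := by simp [GP, hp, hn]
        have e : t = (C.η i r : F) * ((C.η i r : F) * t) := by
          rw [← mul_assoc, ← Int.cast_mul, C.η_mul_self, Int.cast_one, one_mul]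
        conv_lhs => rw [e, ← GP_GX, map_mul, map_mul, map_inv, hP, hX, GP_GX]
        congr 1
        ring
  refine ⟨ε, hε, fun g t hg => ?_⟩
  rw [eq_GX C F (r := ⟨r, hr⟩) hg, hX, GX_mat, hprm ⟨r, hr⟩ s hs]

end Cfsg.Agent.S2161
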