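import Cfsg.Statements.S2162
import Cfsg.Agent.Lib.Char2Inv.Linear

set_option autoImplicit false
open Cfsg

namespace Cfsg.Agent.S2162

theorem rank_sub_one_pos {F : Type*} [Field F] {n : ℕ} {a : Matrix (Fin n) (Fin n) F}
    (h : a ≠ 1) : 0 < (a - 1).rank := by
  refine Nat.pos_of_ne_zero fun h0 => h ?_
  have h1 : LinearMap.range (a - 1).mulVecLin = ⊥ := Submodule.finrank_eq_zero.1 h0
  refine sub_eq_zero.1 (Matrix.ext_iff_mulVec.2 fun v => ?_)
  rw [Matrix.zero_mulVec]
  exact (Submodule.mem_bot F).1 (h1 ▸ LinearMap.mem_range_self (a - 1).mulVecLin v)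

theorem rank_conj {F : Type*} [Field F] {n : ℕ} {A C C' : Matrix (Fin n) (Fin n) F}
    (h1 : C * C' = 1) : (C * A * C' - 1).rank = (A - 1).rank := by
  have hu : IsUnit C.det := Matrix.isUnit_det_of_right_inverse h1
  have hu' : IsUnit C'.det := Matrix.isUnit_det_of_left_inverse h1
  rw [show C * A * C' - 1 = C * ((A - 1) * C') by rw [sub_mul, one_mul, mul_sub, h1, mul_assoc],
    Matrix.rank_mul_eq_right_of_isUnit_det _ _ hu, Matrix.rank_mul_eq_left_of_isUnit_det _ _ hu']

theorem sq_sub_one_eq_zero {F : Type*} [Field F] [CharP F 2] {n : ℕ} {A : Matrix (Fin n) (Fin n) F}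
    (h2 : A * A = 1) : (A - 1) * (A - 1) = 0 := by
  rw [sub_mul, mul_sub, h2, mul_one, one_mul]
  ext i j
  simp only [Matrix.sub_apply, Matrix.zero_apply]
  linear_combination ((1 : Matrix (Fin n) (Fin n) F) i j - A i j) * (CharP.cast_eq_zero F 2)


/-- Conjugacy of involutions in the special linear group over a finite field of characteristic two, in dimension at least 3: two elements of order 2 of SL_n(F) are conjugate in SL_n(F) exactly when the matrices a − 1 and b − 1 have the same rank (the rank of a − 1 is the dimension of the commutator space [V, a]). -/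
theorem result {F : Type*} [Field F] [Fintype F] [CharP F 2] {n : ℕ} (hn : 3 ≤ n) (a b : Matrix.SpecialLinearGroup (Fin n) F) (ha : orderOf a = 2) (hb : orderOf b = 2) :
    IsConj a b ↔ ((a : Matrix (Fin n) (Fin n) F) - 1).rank = ((b : Matrix (Fin n) (Fin n) F) - 1).rank := by
  constructor
  · intro h
    obtain ⟨c, hc⟩ := isConj_iff.1 h
    rw [← hc, Matrix.SpecialLinearGroup.coe_mul, Matrix.SpecialLinearGroup.coe_mul,
      rank_conj (congrArg Subtype.val (mul_inv_cancel c))]
  · intro hr
    have sq : ∀ x : Matrix.SpecialLinearGroup (Fin n) F, orderOf x = 2 →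
        (x : Matrix (Fin n) (Fin n) F) * x = 1 := by
      intro x hx
      have h := congrArg Subtype.val (pow_orderOf_eq_one x)
      rwa [hx, pow_two] at h
    have hN : ∀ x : Matrix.SpecialLinearGroup (Fin n) F, orderOf x = 2 → ∀ v,
        ((x : Matrix (Fin n) (Fin n) F) - 1).mulVecLin
          (((x : Matrix (Fin n) (Fin n) F) - 1).mulVecLin v) = 0 := by
      intro x hx v
      rw [Matrix.mulVecLin_apply, Matrix.mulVecLin_apply, Matrix.mulVec_mulVec,
        sq_sub_one_eq_zero (sq x hx), Matrix.zero_mulVec]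
    have hpos : 0 < ((a : Matrix (Fin n) (Fin n) F) - 1).rank := by
      refine rank_sub_one_pos fun h => ?_
      rw [show a = 1 from Subtype.ext h, orderOf_one] at ha
      omega
    obtain ⟨g, hdet, hg⟩ := Cfsg.Agent.Lib.Char2Inv.Linear.exists_conj _ _ (hN a ha) (hN b hb)
      hr hpos
    let G : Matrix.SpecialLinearGroup (Fin n) F :=
      ⟨LinearMap.toMatrix' g.toLinearMap, by rw [LinearMap.det_toMatrix']; exact hdet⟩
    have hG : ∀ v, (G : Matrix (Fin n) (Fin n) F).mulVec v = g v :=
      fun v => LinearMap.toMatrix'_mulVec _ v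
    refine isConj_iff.2 ⟨G, mul_inv_eq_iff_eq_mul.2 (Subtype.ext ?_)⟩
    rw [Matrix.SpecialLinearGroup.coe_mul, Matrix.SpecialLinearGroup.coe_mul]
    apply Matrix.ext_iff_mulVec.2
    intro v
    rw [← Matrix.mulVec_mulVec, ← Matrix.mulVec_mulVec, hG, hG]
    have := hg v
    rw [Matrix.mulVecLin_apply, Matrix.mulVecLin_apply, Matrix.sub_mulVec, Matrix.sub_mulVec,
      Matrix.one_mulVec, Matrix.one_mulVec, map_sub] at this
    exact sub_left_inj.1 this

end Cfsg.Agent.S2162
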