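import Cfsg.Statements.S2163
-- import your own Cfsg.Agent.* helpers here

set_option autoImplicit false
open Cfsg

namespace Cfsg.Agent.S2163

theorem rank_eq_of_sandwich {F : Type*} [Field F] {n l : Type*} [Fintype n] [Fintype l] [DecidableEq l]
    (M : Matrix n n F) (P : Matrix n l F) (Q : Matrix l n F) (L : Matrix l n F) (R : Matrix n l F)
    (hM : M = P * Q) (hL : L * P = 1) (hR : Q * R = 1) : M.rank = Fintype.card l := by
  apply le_antisymm
  · rw [hM]
    exact (Matrix.rank_mul_le_left P Q).trans (Matrix.rank_le_card_width P)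
  · have h : L * M * R = 1 := by
      rw [hM, ← Matrix.mul_assoc L, hL, Matrix.one_mul, hR]
    calc Fintype.card l = (1 : Matrix l l F).rank := (Matrix.rank_one).symm
      _ = (L * M * R).rank := by rw [h]
      _ ≤ (L * M).rank := Matrix.rank_mul_le_left _ _
      _ ≤ M.rank := Matrix.rank_mul_le_right _ _

theorem det_eq_one_of_sq {F : Type*} [Field F] [CharP F 2] {n : Type*} [Fintype n] [DecidableEq n]
    (A : Matrix n n F) (h : A * A = 1) : A.det = 1 := by
  have h2 : A.det * A.det = 1 := by rw [← Matrix.det_mul, h, Matrix.det_one]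
  have h3 : (A.det - 1) * (A.det - 1) = 0 := by
    have : (2 : F) = 0 := CharP.cast_eq_zero F 2
    linear_combination h2 + (1 - A.det) * this
  exact sub_eq_zero.1 (mul_self_eq_zero.1 h3)

/-- Over a finite field of characteristic two and for n ≥ 3: for every ℓ with 1 ≤ ℓ and 2ℓ ≤ n, the matrix j_ℓ that is the identity plus the entries 1 in positions (n − ℓ + i, i) for i < ℓ (an identity block of size ℓ in the lower left corner) lies in SL_n(F), has order 2, and j_ℓ − 1 has rank ℓ. Together with the conjugacy criterion by rank, these matrices represent the conjugacy classes of involutions of SL_n(F). -/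
theorem result {F : Type*} [Field F] [Fintype F] [CharP F 2] {n : ℕ} (hn : 3 ≤ n) (ℓ : ℕ) (h1 : 1 ≤ ℓ) (h2 : 2 * ℓ ≤ n) :
    ∃ a : Matrix.SpecialLinearGroup (Fin n) F, (a : Matrix (Fin n) (Fin n) F) = 1 + Matrix.of (fun i j : Fin n => if j.val < ℓ ∧ i.val = j.val + (n - ℓ) then (1 : F) else 0) ∧ orderOf a = 2 ∧ ((a : Matrix (Fin n) (Fin n) F) - 1).rank = ℓ := by
  classical
  have two : (2 : F) = 0 := CharP.cast_eq_zero F 2
  set M : Matrix (Fin n) (Fin n) F :=
    Matrix.of (fun i j : Fin n => if j.val < ℓ ∧ i.val = j.val + (n - ℓ) then (1 : F) else 0) with hM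
  let P : Matrix (Fin n) (Fin ℓ) F := Matrix.of fun i k => if i.val = k.val + (n - ℓ) then 1 else 0
  let Q : Matrix (Fin ℓ) (Fin n) F := Matrix.of fun k j => if j.val = k.val then 1 else 0
  have hMPQ : M = P * Q := by
    ext i j
    simp only [hM, P, Q, Matrix.mul_apply, Matrix.of_apply]
    by_cases hj : j.val < ℓ
    · rw [Finset.sum_eq_single (⟨j.val, hj⟩ : Fin ℓ)]
      · simp [hj]
      · intro k _ hk
        have : j.val ≠ k.val := fun h => hk (Fin.ext h.symm)
        simp [this]
      · simp
    · rw [if_neg (fun h => hj h.1), Finset.sum_eq_zero]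
      intro k _
      have : j.val ≠ k.val := by omega
      simp [this]
  have hQP : Q * P = 0 := by
    ext k k'
    simp only [P, Q, Matrix.mul_apply, Matrix.of_apply, Matrix.zero_apply]
    apply Finset.sum_eq_zero
    intro i _
    by_cases h : i.val = k.val
    · have : i.val ≠ k'.val + (n - ℓ) := by omega
      simp [this]
    · simp [h]
  have hL : P.transpose * P = 1 := by
    ext k k'
    simp only [P, Matrix.mul_apply, Matrix.of_apply, Matrix.transpose_apply, Matrix.one_apply]
    rw [Finset.sum_eq_single (⟨k.val + (n - ℓ), by omega⟩ : Fin n)]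
    · by_cases h : k = k'
      · simp [h]
      · have : k.val ≠ k'.val := fun e => h (Fin.ext e)
        simp [h, this]
    · intro i _ hi
      have : i.val ≠ k.val + (n - ℓ) := fun e => hi (Fin.ext e)
      simp [this]
    · simp
  have hR : Q * Q.transpose = 1 := by
    ext k k'
    simp only [Q, Matrix.mul_apply, Matrix.of_apply, Matrix.transpose_apply, Matrix.one_apply]
    rw [Finset.sum_eq_single (⟨k.val, by omega⟩ : Fin n)]
    · by_cases h : k = k'
      · simp [h]
      · have : k.val ≠ k'.val := fun e => h (Fin.ext e)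
        simp [h, this]
    · intro i _ hi
      have : i.val ≠ k.val := fun e => hi (Fin.ext e)
      simp [this]
    · simp
  have hrank : M.rank = ℓ := by
    rw [rank_eq_of_sandwich M P Q _ _ hMPQ hL hR, Fintype.card_fin]
  have hMM : M * M = 0 := by
    rw [hMPQ, Matrix.mul_assoc, ← Matrix.mul_assoc Q P Q, hQP, Matrix.zero_mul, Matrix.mul_zero]
  have hsq : (1 + M) * (1 + M) = 1 := by
    have hMM2 : M + M = 0 := by
      ext i j
      simp only [Matrix.add_apply, Matrix.zero_apply]
      linear_combination (M i j) * two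
    rw [add_mul, one_mul, mul_add, mul_one, hMM, add_zero, add_assoc, hMM2, add_zero]
  let a : Matrix.SpecialLinearGroup (Fin n) F := ⟨1 + M, det_eq_one_of_sq _ hsq⟩
  refine ⟨a, rfl, ?_, ?_⟩
  · haveI : Fact (Nat.Prime 2) := ⟨Nat.prime_two⟩
    apply orderOf_eq_prime
    · rw [pow_two]
      exact Subtype.ext hsq
    · intro h
      have h0 : M = 0 := by
        have := congrArg Subtype.val h
        exact add_eq_left.1 this
      rw [h0, Matrix.rank_zero] at hrank
      omega
  · show (1 + M - 1).rank = ℓ
    rw [add_sub_cancel_left, hrank]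

end Cfsg.Agent.S2163
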