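import Cfsg.Statements.S2164
import Cfsg.Agent.S2162
import Cfsg.Agent.Lib.Char2Inv.Unitary

set_option autoImplicit false
open Cfsg Cfsg.Agent.Lib.Char2Inv

namespace Cfsg.Agent.S2164

theorem hermForm_isHerm {F : Type*} [Field F] {n q : ℕ} {σ : F →+* F} (hσ : ∀ x, σ x = x ^ q)
    (hinv : ∀ x, σ (σ x) = x) : Forms.IsHerm σ (Cfsg.hermForm n F q) where
  add_left u v w := by simp [Cfsg.hermForm, add_mul, Finset.sum_add_distrib]
  smul_left c u v := by simp [Cfsg.hermForm, Finset.mul_sum, mul_assoc]
  symm u v := by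
    simp only [Cfsg.hermForm, ← hσ, map_sum, map_mul, hinv]
    exact Finset.sum_congr rfl fun i _ => mul_comm _ _
  invol := hinv

theorem hermForm_nondeg {F : Type*} [Field F] {n q : ℕ} (hq : q ≠ 0) :
    Forms.NondegOn (Cfsg.hermForm n F q) (⊤ : Submodule F (Fin n → F)) := by
  intro x _ h
  funext i
  have := h (Pi.single i 1) trivial
  simpa [Cfsg.hermForm, Pi.single_apply, ite_pow, zero_pow hq] using this


/-- Conjugacy of involutions in the special unitary group SU_n(q), q even, n ≥ 3, realised over the field F with q² elements as the matrices of determinant 1 preserving the form Σ u_i v_i^q: for two elements of order 2 of SU_n(q) the following are equivalent — they are conjugate in SU_n(q); they are conjugate in SL_n(F); the matrices a − 1 and b − 1 have the same rank. -/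
theorem result {F : Type*} [Field F] [Fintype F] [CharP F 2] {n q : ℕ} (hF : Fintype.card F = q ^ 2) (hn : 3 ≤ n) (a b : ↥(Cfsg.SU n F q)) (ha : orderOf a = 2) (hb : orderOf b = 2) :
    (IsConj a b ↔ IsConj (a : Matrix.SpecialLinearGroup (Fin n) F) (b : Matrix.SpecialLinearGroup (Fin n) F)) ∧
    (IsConj a b ↔ (((a : Matrix.SpecialLinearGroup (Fin n) F) : Matrix (Fin n) (Fin n) F) - 1).rank = (((b : Matrix.SpecialLinearGroup (Fin n) F) : Matrix (Fin n) (Fin n) F) - 1).rank) := by
  classical
  have hq : q ≠ 0 := by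
    rintro rfl
    simp at hF
  obtain ⟨σ, hσ, hinv, hne⟩ := Unitary.exists_frobenius hF
  have hH := hermForm_isHerm (n := n) hσ hinv
  have sq : ∀ x : ↥(Cfsg.SU n F q), orderOf x = 2 →
      ((x : Matrix.SpecialLinearGroup (Fin n) F) : Matrix (Fin n) (Fin n) F) *
        ((x : Matrix.SpecialLinearGroup (Fin n) F) : Matrix (Fin n) (Fin n) F) = 1 := by
    intro x hx
    have h := congrArg (fun z : ↥(Cfsg.SU n F q) =>
      ((z : Matrix.SpecialLinearGroup (Fin n) F) : Matrix (Fin n) (Fin n) F)) (pow_orderOf_eq_one x)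
    simp only [hx, pow_two] at h
    exact h
  have hN : ∀ x : ↥(Cfsg.SU n F q), orderOf x = 2 → Normal.IsSqZero (Cfsg.hermForm n F q)
      (((x : Matrix.SpecialLinearGroup (Fin n) F) : Matrix (Fin n) (Fin n) F) - 1).mulVecLin := by
    intro x hx
    refine ⟨fun v => ?_, fun u v => ?_⟩
    · rw [Matrix.mulVecLin_apply, Matrix.mulVecLin_apply, Matrix.mulVec_mulVec,
        S2162.sq_sub_one_eq_zero (sq x hx), Matrix.zero_mulVec]
    · set A := ((x : Matrix.SpecialLinearGroup (Fin n) F) : Matrix (Fin n) (Fin n) F) with hA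
      have h : Cfsg.hermForm n F q (A.mulVec (A.mulVec u)) (A.mulVec v) =
          Cfsg.hermForm n F q (A.mulVec u) v := x.2 _ _
      rw [Matrix.mulVec_mulVec, sq x hx, Matrix.one_mulVec] at h
      simp only [Matrix.mulVecLin_apply, Matrix.sub_mulVec, Matrix.one_mulVec]
      simp only [sub_eq_add_neg, ← neg_one_smul F u, ← neg_one_smul F v, hH.add_left, hH.add_right,
        hH.smul_left, hH.smul_right, ← h, map_neg, map_one]
  have toSL : IsConj a b → IsConj (a : Matrix.SpecialLinearGroup (Fin n) F) (b : Matrix.SpecialLinearGroup (Fin n) F) :=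
    fun h => (Cfsg.SU n F q).subtype.map_isConj h
  have toRank : IsConj (a : Matrix.SpecialLinearGroup (Fin n) F) (b : Matrix.SpecialLinearGroup (Fin n) F) →
      (((a : Matrix.SpecialLinearGroup (Fin n) F) : Matrix (Fin n) (Fin n) F) - 1).rank =
        (((b : Matrix.SpecialLinearGroup (Fin n) F) : Matrix (Fin n) (Fin n) F) - 1).rank := by
    intro h
    obtain ⟨c, hc⟩ := isConj_iff.1 h
    rw [← hc, Matrix.SpecialLinearGroup.coe_mul, Matrix.SpecialLinearGroup.coe_mul,
      S2162.rank_conj (congrArg Subtype.val (mul_inv_cancel c))]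
  have fromRank : (((a : Matrix.SpecialLinearGroup (Fin n) F) : Matrix (Fin n) (Fin n) F) - 1).rank =
      (((b : Matrix.SpecialLinearGroup (Fin n) F) : Matrix (Fin n) (Fin n) F) - 1).rank →
      IsConj a b := by
    intro hr
    have hpos : 0 < (((a : Matrix.SpecialLinearGroup (Fin n) F) : Matrix (Fin n) (Fin n) F) - 1).rank := by
      refine S2162.rank_sub_one_pos fun h => ?_
      rw [show a = 1 from Subtype.ext (Subtype.ext h), orderOf_one] at ha
      omega
    obtain ⟨g, hdet, hiso, hg⟩ := Unitary.exists_conj hH hne (hermForm_nondeg hq) (hN a ha)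
      (hN b hb) hr hpos
    let G : Matrix.SpecialLinearGroup (Fin n) F :=
      ⟨LinearMap.toMatrix' g.toLinearMap, by rw [LinearMap.det_toMatrix']; exact hdet⟩
    have hG : ∀ v, (G : Matrix (Fin n) (Fin n) F).mulVec v = g v :=
      fun v => LinearMap.toMatrix'_mulVec _ v
    have hGm : G ∈ Cfsg.SU n F q := by
      intro u v
      show Cfsg.hermForm n F q ((G : Matrix (Fin n) (Fin n) F).mulVec u)
        ((G : Matrix (Fin n) (Fin n) F).mulVec v) = _
      rw [hG, hG]
      exact hiso u v
    refine isConj_iff.2 ⟨⟨G, hGm⟩, mul_inv_eq_iff_eq_mul.2 (Subtype.ext (Subtype.ext ?_))⟩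
    rw [Subgroup.coe_mul, Subgroup.coe_mul, Matrix.SpecialLinearGroup.coe_mul,
      Matrix.SpecialLinearGroup.coe_mul]
    apply Matrix.ext_iff_mulVec.2
    intro v
    rw [← Matrix.mulVec_mulVec, ← Matrix.mulVec_mulVec, hG, hG]
    have := hg v
    rw [Matrix.mulVecLin_apply, Matrix.mulVecLin_apply, Matrix.sub_mulVec, Matrix.sub_mulVec,
      Matrix.one_mulVec, Matrix.one_mulVec, map_sub] at this
    exact sub_left_inj.1 this
  exact ⟨⟨toSL, fun h => fromRank (toRank h)⟩, ⟨fun h => toRank (toSL h), fromRank⟩⟩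

end Cfsg.Agent.S2164
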