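import Cfsg.Statements.S2165
import Cfsg.Agent.S2163

set_option autoImplicit false
open Cfsg

namespace Cfsg.Agent.S2165

/-- In SU_n(q), q even, n ≥ 3 (matrices of determinant 1 over the field with q² elements preserving Σ u_i v_i^q): for every ℓ with 1 ≤ ℓ and 2ℓ ≤ n, the permutation matrix of the involution of {0, …, n−1} exchanging i and n − ℓ + i for each i < ℓ lies in SU_n(q), has order 2, and differs from the identity by a matrix of rank ℓ. So every rank between 1 and n/2 occurs for involutions of SU_n(q). -/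
theorem result {F : Type*} [Field F] [Fintype F] [CharP F 2] {n q : ℕ} (hF : Fintype.card F = q ^ 2) (hn : 3 ≤ n) (ℓ : ℕ) (h1 : 1 ≤ ℓ) (h2 : 2 * ℓ ≤ n) :
    ∃ a : ↥(Cfsg.SU n F q), (((a : Matrix.SpecialLinearGroup (Fin n) F) : Matrix (Fin n) (Fin n) F) = Matrix.of (fun i j : Fin n => if (j.val < ℓ ∧ i.val = j.val + (n - ℓ)) ∨ (i.val < ℓ ∧ j.val = i.val + (n - ℓ)) ∨ (i = j ∧ ℓ ≤ i.val ∧ i.val < n - ℓ) then (1 : F) else 0)) ∧ orderOf a = 2 ∧ ((((a : Matrix.SpecialLinearGroup (Fin n) F) : Matrix (Fin n) (Fin n) F)) - 1).rank = ℓ := by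
  classical
  have two : (2 : F) = 0 := CharP.cast_eq_zero F 2
  let f : Fin n → Fin n := fun i => ⟨if i.val < ℓ then i.val + (n - ℓ) else
    if n - ℓ ≤ i.val then i.val - (n - ℓ) else i.val, by split_ifs <;> omega⟩
  have hf : Function.Involutive f := by
    intro i
    apply Fin.ext
    simp only [f]
    split_ifs <;> omega
  set A : Matrix (Fin n) (Fin n) F := Matrix.of (fun i j : Fin n =>
    if (j.val < ℓ ∧ i.val = j.val + (n - ℓ)) ∨ (i.val < ℓ ∧ j.val = i.val + (n - ℓ)) ∨
      (i = j ∧ ℓ ≤ i.val ∧ i.val < n - ℓ) then (1 : F) else 0) with hA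
  have hAf : ∀ i j, A i j = if j = f i then 1 else 0 := by
    intro i j
    simp only [hA, Matrix.of_apply, f]
    apply if_congr _ rfl rfl
    split_ifs <;> simp only [Fin.ext_iff] <;> omega
  have hmul : ∀ (v : Fin n → F) (i : Fin n), A.mulVec v i = v (f i) := by
    intro v i
    simp [Matrix.mulVec, dotProduct, hAf]
  have hsq : A * A = 1 := by
    ext i j
    simp only [Matrix.mul_apply, hAf, Matrix.one_apply, ite_mul, one_mul, zero_mul,
      Finset.sum_ite_eq', Finset.mem_univ, if_true]
    rw [hf i]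
    by_cases h : i = j <;> simp [h, eq_comm]
  have hdet : A.det = 1 := S2163.det_eq_one_of_sq A hsq
  let a : Matrix.SpecialLinearGroup (Fin n) F := ⟨A, hdet⟩
  have ha : a ∈ Cfsg.SU n F q := by
    intro u v
    show Cfsg.hermForm n F q (A.mulVec u) (A.mulVec v) = Cfsg.hermForm n F q u v
    simp only [Cfsg.hermForm, hmul]
    exact Equiv.sum_comp hf.toPerm (fun i => u i * v i ^ q)
  let P : Matrix (Fin n) (Fin ℓ) F :=
    Matrix.of fun i k => if i.val = k.val ∨ i.val = k.val + (n - ℓ) then 1 else 0
  let L : Matrix (Fin ℓ) (Fin n) F := Matrix.of fun k j => if j.val = k.val then 1 else 0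
  have hneg : (-1 : F) = 1 := by linear_combination -two
  have hPQ : A - 1 = P * P.transpose := by
    ext i j
    simp only [Matrix.sub_apply, hAf, Matrix.one_apply, P, Matrix.mul_apply, Matrix.of_apply,
      Matrix.transpose_apply, f]
    by_cases hi : i.val < ℓ
    · rw [Finset.sum_eq_single (⟨i.val, hi⟩ : Fin ℓ)]
      · simp only [Fin.ext_iff, hi, if_true, true_or, one_mul]
        split_ifs <;> first | omega | simp [hneg]
      · intro k _ hk
        have : k.val ≠ i.val := fun h => hk (Fin.ext h)
        rw [if_neg (by omega), zero_mul]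
      · simp
    · by_cases hi' : n - ℓ ≤ i.val
      · rw [Finset.sum_eq_single (⟨i.val - (n - ℓ), by omega⟩ : Fin ℓ)]
        · simp only [Fin.ext_iff, hi, hi', if_true, if_false]
          split_ifs <;> first | omega | simp [hneg]
        · intro k _ hk
          have : k.val ≠ i.val - (n - ℓ) := fun h => hk (Fin.ext h)
          rw [if_neg (by omega), zero_mul]
        · simp
      · rw [Finset.sum_eq_zero]
        · simp [hi, hi', eq_comm]
        · intro k _
          rw [if_neg (by omega), zero_mul]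
  have hL : L * P = 1 := by
    ext k k'
    simp only [P, L, Matrix.mul_apply, Matrix.of_apply, Matrix.one_apply]
    rw [Finset.sum_eq_single (⟨k.val, by omega⟩ : Fin n)]
    · simp only [if_true, one_mul, Fin.ext_iff]
      apply if_congr _ rfl rfl
      omega
    · intro i _ hi
      have : i.val ≠ k.val := fun e => hi (Fin.ext e)
      simp [this]
    · simp
  have hrank : (A - 1).rank = ℓ := by
    rw [S2163.rank_eq_of_sandwich (A - 1) P P.transpose L L.transpose hPQ hL
      (by rw [← Matrix.transpose_mul, hL, Matrix.transpose_one]), Fintype.card_fin]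
  refine ⟨⟨a, ha⟩, rfl, ?_, hrank⟩
  haveI : Fact (Nat.Prime 2) := ⟨Nat.prime_two⟩
  apply orderOf_eq_prime
  · apply Subtype.ext
    apply Subtype.ext
    rw [pow_two]
    exact hsq
  · intro h
    have h0 : A = 1 := congrArg (fun x : ↥(Cfsg.SU n F q) =>
      ((x : Matrix.SpecialLinearGroup (Fin n) F) : Matrix (Fin n) (Fin n) F)) h
    rw [h0, sub_self, Matrix.rank_zero] at hrank
    omega

end Cfsg.Agent.S2165
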