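import Cfsg.Statements.S2166
import Cfsg.Agent.Lib.Char2Inv.Symplectic

set_option autoImplicit false
open Cfsg Cfsg.Agent.Lib.Char2Inv

namespace Cfsg.Agent.S2166

/-- Conjugacy of involutions in the symplectic group Sp_{2m}(F), F a finite field of characteristic two, m ≥ 2 (Sp taken as the matrices A with A J Aᵀ = J, acting on column vectors, with the alternating form f(u, v) = u ⬝ (J v)). For an involution t write V(t) for the set of vectors v with f(v, t v) = 0 (a subspace). Two involutions a, b are conjugate in Sp_{2m}(F) exactly when a − 1 and b − 1 have the same rank and, in case that rank is even, V(a) and V(b) have the same number of elements. -/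
theorem result {F : Type*} [Field F] [Fintype F] [CharP F 2] {m : ℕ} (hm : 2 ≤ m) (a b : ↥(Matrix.symplecticGroup (Fin m) F)) (ha : orderOf a = 2) (hb : orderOf b = 2) :
    IsConj a b ↔ ((((a : ↥(Matrix.symplecticGroup (Fin m) F)) : Matrix (Fin m ⊕ Fin m) (Fin m ⊕ Fin m) F) - 1).rank = (((b : ↥(Matrix.symplecticGroup (Fin m) F)) : Matrix (Fin m ⊕ Fin m) (Fin m ⊕ Fin m) F) - 1).rank ∧
      (Even (((a : ↥(Matrix.symplecticGroup (Fin m) F)) : Matrix (Fin m ⊕ Fin m) (Fin m ⊕ Fin m) F) - 1).rank → Nat.card {v : Fin m ⊕ Fin m → F // Cfsg.sympForm m F v (Matrix.mulVec ((a : ↥(Matrix.symplecticGroup (Fin m) F)) : Matrix (Fin m ⊕ Fin m) (Fin m ⊕ Fin m) F) v) = 0} = Nat.card {v : Fin m ⊕ Fin m → F // Cfsg.sympForm m F v (Matrix.mulVec ((b : ↥(Matrix.symplecticGroup (Fin m) F)) : Matrix (Fin m ⊕ Fin m) (Fin m ⊕ Fin m) F) v) = 0})) := by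
  classical
  have sq : ∀ x : ↥(Matrix.symplecticGroup (Fin m) F), orderOf x = 2 →
      (x : Matrix (Fin m ⊕ Fin m) (Fin m ⊕ Fin m) F) * x = 1 := by
    intro x hx
    have h := congrArg Subtype.val (pow_orderOf_eq_one x)
    rwa [hx, pow_two] at h
  constructor
  · intro h
    obtain ⟨c, hc⟩ := isConj_iff.1 h
    set A := (a : Matrix (Fin m ⊕ Fin m) (Fin m ⊕ Fin m) F) with hA
    set C := (c : Matrix (Fin m ⊕ Fin m) (Fin m ⊕ Fin m) F) with hC
    set C' := ((c⁻¹ : ↥(Matrix.symplecticGroup (Fin m) F)) :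
      Matrix (Fin m ⊕ Fin m) (Fin m ⊕ Fin m) F) with hC'
    have h1 : C * C' = 1 := congrArg Subtype.val (mul_inv_cancel c)
    have h1' : C' * C = 1 := congrArg Subtype.val (inv_mul_cancel c)
    have hb' : (b : Matrix (Fin m ⊕ Fin m) (Fin m ⊕ Fin m) F) = C * A * C' := by
      rw [← hc]; rfl
    have hu : IsUnit C.det := Matrix.isUnit_det_of_right_inverse h1
    have hu' : IsUnit C'.det := Matrix.isUnit_det_of_right_inverse h1'
    refine ⟨?_, fun _ => ?_⟩
    · rw [hb', show C * A * C' - 1 = C * ((A - 1) * C') by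
        rw [sub_mul, one_mul, mul_sub, h1, mul_assoc],
        Matrix.rank_mul_eq_right_of_isUnit_det _ _ hu,
        Matrix.rank_mul_eq_left_of_isUnit_det _ _ hu']
    · refine Nat.card_congr (Equiv.subtypeEquiv
        { toFun := fun v => C.mulVec v
          invFun := fun v => C'.mulVec v
          left_inv := fun v => by simp [Matrix.mulVec_mulVec, h1']
          right_inv := fun v => by simp [Matrix.mulVec_mulVec, h1] } fun v => ?_)
      have key : Matrix.mulVec (b : Matrix (Fin m ⊕ Fin m) (Fin m ⊕ Fin m) F) (C.mulVec v) =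
          C.mulVec (A.mulVec v) := by
        rw [hb', Matrix.mulVec_mulVec, Matrix.mulVec_mulVec, mul_assoc, h1', mul_one]
      show Cfsg.sympForm m F v (A.mulVec v) = 0 ↔
        Cfsg.sympForm m F (C.mulVec v) (Matrix.mulVec _ (C.mulVec v)) = 0
      rw [key, (Symplectic.preserves_iff C).2 c.2]
  · rintro ⟨hr, ht⟩
    set A := (a : Matrix (Fin m ⊕ Fin m) (Fin m ⊕ Fin m) F) with hA
    set B := (b : Matrix (Fin m ⊕ Fin m) (Fin m ⊕ Fin m) F) with hB
    have hNa := Symplectic.sqZero_of_involution a.2 (sq a ha)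
    have hNb := Symplectic.sqZero_of_involution b.2 (sq b hb)
    have hH := Symplectic.sympForm_isHerm (F := F) (m := m)
    have htype : (∀ v, Cfsg.sympForm m F v ((A - 1).mulVecLin v) = 0) ↔
        ∀ v, Cfsg.sympForm m F v ((B - 1).mulVecLin v) = 0 := by
      constructor
      · intro h
        have he := Symplectic.even_rank_of_alt hH Symplectic.sympForm_self hNa
          Symplectic.sympForm_nondeg h
        exact (Symplectic.card_eq_top_iff B).1 ((ht he).symm.trans ((Symplectic.card_eq_top_iff A).2 h))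
      · intro h
        have he : Even (B - 1).rank := Symplectic.even_rank_of_alt hH Symplectic.sympForm_self hNb
          Symplectic.sympForm_nondeg h
        exact (Symplectic.card_eq_top_iff A).1
          ((ht (hr ▸ he)).trans ((Symplectic.card_eq_top_iff B).2 h))
    obtain ⟨g, hiso, hg⟩ := Symplectic.exists_conj hH Symplectic.sympForm_self
      Symplectic.sympForm_nondeg hNa hNb hr htype
    let G : Matrix (Fin m ⊕ Fin m) (Fin m ⊕ Fin m) F := LinearMap.toMatrix' g.toLinearMap
    have hG : ∀ v, G.mulVec v = g v := fun v => LinearMap.toMatrix'_mulVec _ v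
    have hGmem : G ∈ Matrix.symplecticGroup (Fin m) F :=
      (Symplectic.preserves_iff G).1 fun u v => by rw [hG, hG]; exact hiso u v
    refine isConj_iff.2 ⟨⟨G, hGmem⟩, mul_inv_eq_iff_eq_mul.2 (Subtype.ext ?_)⟩
    show G * A = B * G
    apply Matrix.ext_iff_mulVec.2
    intro v
    rw [← Matrix.mulVec_mulVec, ← Matrix.mulVec_mulVec, hG, hG]
    have := hg v
    rw [Matrix.mulVecLin_apply, Matrix.mulVecLin_apply, Matrix.sub_mulVec, Matrix.sub_mulVec,
      Matrix.one_mulVec, Matrix.one_mulVec, map_sub] at this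
    exact sub_left_inj.1 this

end Cfsg.Agent.S2166
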