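import Cfsg.Statements.S2173
import Cfsg.Agent.Lib.Char2Inv.OrthMatrixOmega

set_option autoImplicit false
open Cfsg Cfsg.Agent.Lib.Char2Inv

namespace Cfsg.Agent.S2173

/-- For the quadratic form Σ x_i y_i + (z₁² + c z₁ z₂ + d z₂²) in dimension 2m with anisotropic binary part over a finite field F of characteristic two, m ≥ 4 (minus type): two involutions of the commutator subgroup Ω that are conjugate in the full isometry group O are conjugate by an element of Ω (no class of involutions of O inside Ω splits). -/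
theorem result {F : Type*} [Field F] [Fintype F] [CharP F 2] {m : ℕ} (hm : 4 ≤ m) (c d : F) (hcd : ∀ z₁ z₂ : F, z₁ ^ 2 + c * z₁ * z₂ + d * z₂ ^ 2 = 0 → z₁ = 0 ∧ z₂ = 0) (t s : ↥(Cfsg.isometryGroup F (Cfsg.quadFormMinus (m - 1) F c d))) (ht : orderOf t = 2) (hs : orderOf s = 2) (htO : t ∈ Cfsg.Omega F (Cfsg.quadFormMinus (m - 1) F c d)) (hsO : s ∈ Cfsg.Omega F (Cfsg.quadFormMinus (m - 1) F c d)) (hconj : IsConj t s) :
    ∃ g ∈ Cfsg.Omega F (Cfsg.quadFormMinus (m - 1) F c d), g * t * g⁻¹ = s := by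
  have hdim : Fintype.card ((Fin (m - 1) ⊕ Fin (m - 1)) ⊕ Fin 2) = 2 * m := by
    simp only [Fintype.card_sum, Fintype.card_fin]; omega
  refine OrthMatrixOmega.exists_Omega_conj_of_not_exceptional (OrthMatrix.qMinus (m - 1) c d) (OrthMatrix.qMinus_apply (m - 1) c d) (OrthMatrix.qMinus_nondeg (m - 1) hcd) hdim (by omega) ht hconj ?_
  rintro ⟨hr, hQ⟩
  have hle := OrthMatrixOmega.qMinus_singular_le hcd (LinearMap.range (OrthMatrix.nil t)) (by
    rintro _ ⟨x, rfl⟩
    rw [← OrthMatrix.qMinus_apply, ← hQ x]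
    congr 1
    funext i
    rw [OrthMatrix.nil_apply, Pi.add_apply, Pi.sub_apply, CharTwo.sub_eq_add, add_comm])
  have hr' : Module.finrank F (LinearMap.range (OrthMatrix.nil t)) = m := hr
  omega

end Cfsg.Agent.S2173
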