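import Cfsg.Statements.S2174
import Cfsg.Agent.Lib.EvenInvolutions.CertF4
import Cfsg.Agent.Lib.EvenInvolutions.Conclude
-- import your own Cfsg.Agent.* helpers here

set_option autoImplicit false
open Cfsg

namespace Cfsg.Agent.S2174

open Cfsg.Lie Cfsg.Agent.Lib.ChevStructure Cfsg.Agent.Lib.EvenInvolutions

/-- Conjugacy classes of involutions in the Chevalley group of type F₄ over a finite field F of characteristic two (the matrix group generated by the root elements x_r(t)). In this problem's root numbering for type F₄ (the Chevalley data module; fundamental roots p₁, p₂ short and p₃, p₄ long; roots indexed by their coefficient vectors in increasing order) let r = 47 be the highest root (2,4,3,2), s = 44 the highest short root (2,3,2,1), and α = 39 = (1,2,2,1), β = 45 = (2,4,2,1), an orthogonal short/long pair; consider the four elements x_r(1), x_s(1), x_r(1)x_s(1), x_α(1)x_β(1). Then: each invertible matrix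 equal to one of these four products lies in the group and has order 2; every element of order 2 of the group is conjugate in the group to one of them; and no two of them are conjugate in the group (so, the four matrices being distinct, the group has exactly four conjugacy classes of involutions). -/
theorem result {F : Type*} [Field F] [Fintype F] [CharP F 2] :
    (∀ y : GL Cfsg.Lie.chevF4.Idx F, ((y : GL Cfsg.Lie.chevF4.Idx F) : Matrix Cfsg.Lie.chevF4.Idx Cfsg.Lie.chevF4.Idx F) ∈ [Cfsg.Lie.chevF4.x F 47 1, Cfsg.Lie.chevF4.x F 44 1, Cfsg.Lie.chevF4.x F 47 1 * Cfsg.Lie.chevF4.x F 44 1, Cfsg.Lie.chevF4.x F 39 1 * Cfsg.Lie.chevF4.x F 45 1] → y ∈ Cfsg.Lie.chevF4.group F ∧ orderOf y = 2) ∧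
    (∀ g ∈ Cfsg.Lie.chevF4.group F, orderOf g = 2 → ∃ y ∈ Cfsg.Lie.chevF4.group F, ((y : GL Cfsg.Lie.chevF4.Idx F) : Matrix Cfsg.Lie.chevF4.Idx Cfsg.Lie.chevF4.Idx F) ∈ [Cfsg.Lie.chevF4.x F 47 1, Cfsg.Lie.chevF4.x F 44 1, Cfsg.Lie.chevF4.x F 47 1 * Cfsg.Lie.chevF4.x F 44 1, Cfsg.Lie.chevF4.x F 39 1 * Cfsg.Lie.chevF4.x F 45 1] ∧ ∃ h ∈ Cfsg.Lie.chevF4.group F, h * g * h⁻¹ = y) ∧
    (∀ y₁ ∈ Cfsg.Lie.chevF4.group F, ∀ y₂ ∈ Cfsg.Lie.chevF4.group F, ((y₁ : GL Cfsg.Lie.chevF4.Idx F) : Matrix Cfsg.Lie.chevF4.Idx Cfsg.Lie.chevF4.Idx F) ∈ [Cfsg.Lie.chevF4.x F 47 1, Cfsg.Lie.chevF4.x F 44 1, Cfsg.Lie.chevF4.x F 47 1 * Cfsg.Lie.chevF4.x F 44 1, Cfsg.Lie.chevF4.x F 39 1 * Cfsg.Lie.chevF4.x F 45 1] → ((y₂ : GL Cfsg.Lie.chevF4.Idx F) : Matrix Cfsg.Lie.chevF4.Idx Cfsg.Lie.chevF4.Idx F) ∈ [Cfsg.Lie.chevF4.x F 47 1, Cfsg.Lie.chevF4.x F 44 1, Cfsg.Lie.chevF4.x F 47 1 * Cfsg.Lie.chevF4.x F 44 1, Cfsg.Lie.chevF4.x F 39 1 * Cfsg.Lie.chevF4.x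 F 45 1] →
      (∃ h ∈ Cfsg.Lie.chevF4.group F, h * y₁ * h⁻¹ = y₂) → ((y₁ : GL Cfsg.Lie.chevF4.Idx F) : Matrix Cfsg.Lie.chevF4.Idx Cfsg.Lie.chevF4.Idx F) = ((y₂ : GL Cfsg.Lie.chevF4.Idx F) : Matrix Cfsg.Lie.chevF4.Idx Cfsg.Lie.chevF4.Idx F)) := by
  set H := Cfsg.Agent.Lib.ChevStructure.Cert.F4.certified
  have hc : CommOK H.core := Cfsg.Agent.Lib.ChevStructure.Cert.F4.core.commOK_mild Cfsg.Agent.Lib.ChevStructure.mildF4
  have hclass := fun g hg h2 h1 => classes (K := F) H hc Cfsg.Agent.Lib.EvenInvolutions.CertF4.sign Cfsg.Agent.Lib.EvenInvolutions.CertF4.cover Cfsg.Agent.Lib.EvenInvolutions.CertF4.fusion (g := g) hg h2 h1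
  have hr : ∀ i < Cfsg.Agent.Lib.EvenInvolutions.CertF4.ys.length,
      (((wordG H F (Cfsg.Agent.Lib.EvenInvolutions.CertF4.ys.getD i [])) : Matrix Cfsg.Lie.chevF4.Idx Cfsg.Lie.chevF4.Idx F) - 1).rank = [16, 16, 21, 24].getD i 0 := by
    intro i hi
    have hi' : i < 4 := hi
    interval_cases i
    · exact rank_of_cert H Cfsg.Agent.Lib.EvenInvolutions.CertF4.diag hi Cfsg.Agent.Lib.EvenInvolutions.CertF4.rank0
    · exact rank_of_cert H Cfsg.Agent.Lib.EvenInvolutions.CertF4.diag hi Cfsg.Agent.Lib.EvenInvolutions.CertF4.rank1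
    · exact rank_of_cert H Cfsg.Agent.Lib.EvenInvolutions.CertF4.diag hi Cfsg.Agent.Lib.EvenInvolutions.CertF4.rank2
    · exact rank_of_cert H Cfsg.Agent.Lib.EvenInvolutions.CertF4.diag hi Cfsg.Agent.Lib.EvenInvolutions.CertF4.rank3
  have hinj : ∀ y₁ ∈ Cfsg.Agent.Lib.EvenInvolutions.CertF4.ys, ∀ y₂ ∈ Cfsg.Agent.Lib.EvenInvolutions.CertF4.ys, ∀ h ∈ Cfsg.Lie.chevF4.group F,
      h * wordG H F y₁ * h⁻¹ = wordG H F y₂ → y₁ = y₂ := by
    intro y₁ h₁ y₂ h₂ h hh he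
    obtain ⟨i, hi, j, hj, rfl, rfl, e⟩ := inj_of_rank H (rs := [16, 16, 21, 24]) rfl hr h₁ h₂ he
    have hnot : ∀ {h : GL Cfsg.Lie.chevF4.Idx F}, h ∈ Cfsg.Lie.chevF4.group F →
        h * wordG H F [44] * h⁻¹ ≠ wordG H F [47] := fun hh =>
      not_conj_top H hc Cfsg.Agent.Lib.EvenInvolutions.CertF4.top (by decide) (by decide) (k := 2) (by decide +kernel) (by decide +kernel) hh
    have hi' : i < 4 := hi
    have hj' : j < 4 := hj
    have d0 : Cfsg.Agent.Lib.EvenInvolutions.CertF4.ys.getD 0 [] = [47] := rfl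
    have d1 : Cfsg.Agent.Lib.EvenInvolutions.CertF4.ys.getD 1 [] = [44] := rfl
    by_cases hij : i = j
    · rw [hij]
    exfalso
    have hpair : ∀ a b : Fin 4, ([16, 16, 21, 24] : List ℕ).getD a.val 0 = ([16, 16, 21, 24] : List ℕ).getD b.val 0 →
        a = b ∨ (a.val = 0 ∧ b.val = 1) ∨ (a.val = 1 ∧ b.val = 0) := by decide
    rcases hpair ⟨i, hi'⟩ ⟨j, hj'⟩ e with h3 | h3 | h3
    · exact hij (congrArg Fin.val h3)
    all_goals obtain ⟨rfl, rfl⟩ := h3
    · rw [d0, d1] at he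
      refine hnot (inv_mem hh) ?_
      rw [← he]; group
    · rw [d0, d1] at he
      exact hnot hh he
  have hne := ne_one_of_rank H hr (by decide)
  have hsq := sq_of_all (K := F) H Cfsg.Agent.Lib.EvenInvolutions.CertF4.diag Cfsg.Agent.Lib.EvenInvolutions.CertF4.square
  have := three_parts H hclass hsq hne hinj
  simp only [Cfsg.Agent.Lib.EvenInvolutions.CertF4.ys, List.map_cons, List.map_nil, wordM_singleton, wordM_two, wordM_three, wordM_four] at this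
  exact this

end Cfsg.Agent.S2174
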