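import Cfsg.Statements.S2175
import Cfsg.Agent.Lib.EvenInvolutions.CertE6
import Cfsg.Agent.Lib.EvenInvolutions.Conclude
-- import your own Cfsg.Agent.* helpers here

set_option autoImplicit false
open Cfsg

namespace Cfsg.Agent.S2175

open Cfsg.Lie Cfsg.Agent.Lib.ChevStructure Cfsg.Agent.Lib.EvenInvolutions

/-- Conjugacy classes of involutions in the Chevalley group of type E₆ over a finite field F of characteristic two (the matrix group generated by the root elements x_r(t)). In this problem's root numbering for type E₆ (the Chevalley data module; fundamental roots numbered so that p₁–p₃–p₄–p₅–p₆ is the long chain of the diagram and p₂ is joined to p₄; roots indexed by their coefficient vectors in increasing order) let r = 71 be the highest root (1,2,2,3,2,1), α = 68 = (1,1,2,2,1,1), β = 66 = (1,1,1,2,2,1), γ = 55 = (0,1,1,2,2,1), δ = 65 = (1,1,1,2,1,1), ε = 67 = (1,1,2,2,1,0) (α ⊥ β and γ,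 δ, ε pairwise orthogonal); consider x_r(1), x_α(1)x_β(1) and x_γ(1)x_δ(1)x_ε(1). Then: each invertible matrix equal to one of these three products lies in the group and has order 2; every element of order 2 of the group is conjugate in the group to one of them; and no two of them are conjugate in the group (so, the three matrices being distinct, the group has exactly three conjugacy classes of involutions). -/
theorem result {F : Type*} [Field F] [Fintype F] [CharP F 2] :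
    (∀ y : GL Cfsg.Lie.chevE6.Idx F, ((y : GL Cfsg.Lie.chevE6.Idx F) : Matrix Cfsg.Lie.chevE6.Idx Cfsg.Lie.chevE6.Idx F) ∈ [Cfsg.Lie.chevE6.x F 71 1, Cfsg.Lie.chevE6.x F 68 1 * Cfsg.Lie.chevE6.x F 66 1, Cfsg.Lie.chevE6.x F 55 1 * Cfsg.Lie.chevE6.x F 65 1 * Cfsg.Lie.chevE6.x F 67 1] → y ∈ Cfsg.Lie.chevE6.group F ∧ orderOf y = 2) ∧
    (∀ g ∈ Cfsg.Lie.chevE6.group F, orderOf g = 2 → ∃ y ∈ Cfsg.Lie.chevE6.group F, ((y : GL Cfsg.Lie.chevE6.Idx F) : Matrix Cfsg.Lie.chevE6.Idx Cfsg.Lie.chevE6.Idx F) ∈ [Cfsg.Lie.chevE6.x F 71 1, Cfsg.Lie.chevE6.x F 68 1 * Cfsg.Lie.chevE6.x F 66 1, Cfsg.Lie.chevE6.x F 55 1 * Cfsg.Lie.chevE6.x F 65 1 * Cfsg.Lie.chevE6.x F 67 1] ∧ ∃ h ∈ Cfsg.Lie.chevE6.group F, h * g * h⁻¹ = y) ∧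
    (∀ y₁ ∈ Cfsg.Lie.chevE6.group F, ∀ y₂ ∈ Cfsg.Lie.chevE6.group F, ((y₁ : GL Cfsg.Lie.chevE6.Idx F) : Matrix Cfsg.Lie.chevE6.Idx Cfsg.Lie.chevE6.Idx F) ∈ [Cfsg.Lie.chevE6.x F 71 1, Cfsg.Lie.chevE6.x F 68 1 * Cfsg.Lie.chevE6.x F 66 1, Cfsg.Lie.chevE6.x F 55 1 * Cfsg.Lie.chevE6.x F 65 1 * Cfsg.Lie.chevE6.x F 67 1] → ((y₂ : GL Cfsg.Lie.chevE6.Idx F) : Matrix Cfsg.Lie.chevE6.Idx Cfsg.Lie.chevE6.Idx F) ∈ [Cfsg.Lie.chevE6.x F 71 1, Cfsg.Lie.chevE6.x F 68 1 * Cfsg.Lie.chevE6.x F 66 1, Cfsg.Lie.chevE6.x F 55 1 * Cfsg.Lie.chevE6.x F 65 1 * Cfsg.Lie.chevE6.x F 67 1] →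
      (∃ h ∈ Cfsg.Lie.chevE6.group F, h * y₁ * h⁻¹ = y₂) → ((y₁ : GL Cfsg.Lie.chevE6.Idx F) : Matrix Cfsg.Lie.chevE6.Idx Cfsg.Lie.chevE6.Idx F) = ((y₂ : GL Cfsg.Lie.chevE6.Idx F) : Matrix Cfsg.Lie.chevE6.Idx Cfsg.Lie.chevE6.Idx F)) := by
  set H := Cfsg.Agent.Lib.ChevStructure.Cert.E6.certified
  have hc : CommOK H.core := Cfsg.Agent.Lib.ChevStructure.Cert.E6.core.commOK_mild Cfsg.Agent.Lib.ChevStructure.mildE6
  have hclass := fun g hg h2 h1 => classes (K := F) H hc Cfsg.Agent.Lib.EvenInvolutions.CertE6.sign Cfsg.Agent.Lib.EvenInvolutions.CertE6.cover Cfsg.Agent.Lib.EvenInvolutions.CertE6.fusion (g := g) hg h2 h1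
  have hr : ∀ i < Cfsg.Agent.Lib.EvenInvolutions.CertE6.ys.length,
      (((wordG H F (Cfsg.Agent.Lib.EvenInvolutions.CertE6.ys.getD i [])) : Matrix Cfsg.Lie.chevE6.Idx Cfsg.Lie.chevE6.Idx F) - 1).rank = [22, 32, 38].getD i 0 := by
    intro i hi
    have hi' : i < 3 := hi
    interval_cases i
    · exact rank_of_cert H Cfsg.Agent.Lib.EvenInvolutions.CertE6.diag hi Cfsg.Agent.Lib.EvenInvolutions.CertE6.rank0
    · exact rank_of_cert H Cfsg.Agent.Lib.EvenInvolutions.CertE6.diag hi Cfsg.Agent.Lib.EvenInvolutions.CertE6.rank1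
    · exact rank_of_cert H Cfsg.Agent.Lib.EvenInvolutions.CertE6.diag hi Cfsg.Agent.Lib.EvenInvolutions.CertE6.rank2
  have hinj : ∀ y₁ ∈ Cfsg.Agent.Lib.EvenInvolutions.CertE6.ys, ∀ y₂ ∈ Cfsg.Agent.Lib.EvenInvolutions.CertE6.ys, ∀ h ∈ Cfsg.Lie.chevE6.group F,
      h * wordG H F y₁ * h⁻¹ = wordG H F y₂ → y₁ = y₂ := by
    intro y₁ h₁ y₂ h₂ h hh he
    obtain ⟨i, hi, j, hj, rfl, rfl, e⟩ := inj_of_rank H (rs := [22, 32, 38]) rfl hr h₁ h₂ he
    have hnd : ∀ a b : Fin 3, ([22, 32, 38] : List ℕ).getD a.val 0 = ([22, 32, 38] : List ℕ).getD b.val 0 → a = b := by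
      decide
    rw [show i = j from congrArg Fin.val (hnd ⟨i, hi⟩ ⟨j, hj⟩ e)]
  have hne := ne_one_of_rank H hr (by decide)
  have hsq := sq_of_all (K := F) H Cfsg.Agent.Lib.EvenInvolutions.CertE6.diag Cfsg.Agent.Lib.EvenInvolutions.CertE6.square
  have := three_parts H hclass hsq hne hinj
  simp only [Cfsg.Agent.Lib.EvenInvolutions.CertE6.ys, List.map_cons, List.map_nil, wordM_singleton, wordM_two, wordM_three, wordM_four] at this
  exact this

end Cfsg.Agent.S2175
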