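import Cfsg.Statements.S2179
import Cfsg.Agent.Lib.RootCent.Form
-- import your own Cfsg.Agent.* helpers here

set_option autoImplicit false
set_option maxRecDepth 20000
set_option synthInstance.maxSize 4000
set_option synthInstance.maxHeartbeats 400000
open Cfsg

namespace Cfsg.Agent.S2179

theorem simples : ∀ i : Fin Cfsg.Lie.chevF4.rank, Cfsg.Lie.chevF4.simple i.val < Cfsg.Lie.chevF4.nroots := by decide +kernel

open Lib.RootCent.General Lib.RootCent.Basic Lib.RootCent.Form Lib.RootPairs.LongPair in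
theorem certW : Cert2 Cfsg.Lie.chevF4 (fun i => (⟨Cfsg.Lie.chevF4.simple i.val, simples i⟩ : Lib.ChevStructure.Rt Cfsg.Lie.chevF4))
    [⟨47, by decide⟩, ⟨44, by decide⟩] [] []
    [] [⟨24, by decide⟩, ⟨25, by decide⟩, ⟨26, by decide⟩, ⟨27, by decide⟩, ⟨28, by decide⟩, ⟨29, by decide⟩, ⟨30, by decide⟩, ⟨31, by decide⟩, ⟨32, by decide⟩, ⟨33, by decide⟩, ⟨34, by decide⟩, ⟨35, by decide⟩, ⟨36, by decide⟩, ⟨37, by decide⟩, ⟨38, by decide⟩, ⟨39, by decide⟩, ⟨40, by decide⟩, ⟨41, by decide⟩, ⟨42, by decide⟩, ⟨43, by decide⟩, ⟨44, by decide⟩, ⟨45, by decide⟩, ⟨46, by decide⟩, ⟨47, by decide⟩] [⟨20, by decide⟩, ⟨22, by decide⟩]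
    (fun i => if i.val = 0 then [0, 1] else if i.val = 3 then [1, 0] else []) where
  nodup := by decide +kernel
  pos := by decide +kernel
  descent := by decide +kernel
  torus := by decide +kernel
  comm := by decide +kernel
  orbit := by decide +kernel
  rigid := by decide +kernel
  lp := by decide +kernel
  ln := by decide +kernel
  fixed := by decide +kernel
  cover := by decide +kernel
  levi_norm := by decide +kernel
  chain := by decide +kernel
  moves := by decide +kernel
  targets := by decide +kernel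
  sources := by decide +kernel

open Lib.RootCent.General Lib.RootCent.Basic Lib.RootCent.Form Lib.RootPairs.LongPair in
theorem certV : Cert2 Cfsg.Lie.chevF4 (fun i => (⟨Cfsg.Lie.chevF4.simple i.val, simples i⟩ : Lib.ChevStructure.Rt Cfsg.Lie.chevF4))
    [⟨39, by decide⟩, ⟨45, by decide⟩] [⟨40, by decide⟩, ⟨44, by decide⟩, ⟨46, by decide⟩, ⟨47, by decide⟩] [(⟨27, by decide⟩, ⟨40, by decide⟩), (⟨34, by decide⟩, ⟨44, by decide⟩), (⟨25, by decide⟩, ⟨46, by decide⟩), (⟨26, by decide⟩, ⟨47, by decide⟩)]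
    [⟨28, by decide⟩, ⟨29, by decide⟩, ⟨30, by decide⟩, ⟨31, by decide⟩, ⟨32, by decide⟩, ⟨35, by decide⟩, ⟨36, by decide⟩, ⟨37, by decide⟩, ⟨38, by decide⟩, ⟨39, by decide⟩, ⟨40, by decide⟩, ⟨41, by decide⟩, ⟨42, by decide⟩, ⟨43, by decide⟩, ⟨44, by decide⟩, ⟨45, by decide⟩, ⟨46, by decide⟩, ⟨47, by decide⟩] [⟨33, by decide⟩, ⟨24, by decide⟩] [⟨14, by decide⟩, ⟨23, by decide⟩]
    (fun i => if i.val = 1 then [1, 1] else if i.val = 2 then [2, 1] else []) where
  nodup := by decide +kernel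
  pos := by decide +kernel
  descent := by decide +kernel
  torus := by decide +kernel
  comm := by decide +kernel
  orbit := by decide +kernel
  rigid := by decide +kernel
  lp := by decide +kernel
  ln := by decide +kernel
  fixed := by decide +kernel
  cover := by decide +kernel
  levi_norm := by decide +kernel
  chain := by decide +kernel
  moves := by decide +kernel
  targets := by decide +kernel
  sources := by decide +kernel

open Lib.ChevStructure in
theorem setW : ∀ x : Rt Cfsg.Lie.chevF4, x.val ∈ [24, 25, 26, 27, 28, 29, 30, 31, 32, 33, 34, 35, 36, 37, 38, 39, 40, 41, 42, 43, 44, 45, 46, 47, 20, 22] ↔ (24 ≤ x.val ∨ x.val = 20 ∨ x.val = 22) := by decide +kernel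

open Lib.ChevStructure in
theorem setV : ∀ x : Rt Cfsg.Lie.chevF4, x.val ∈ [33, 24, 14, 23, 28, 29, 30, 31, 32, 35, 36, 37, 38, 39, 40, 41, 42, 43, 44, 45, 46, 47] ↔
    (x.val = 33 ∨ x.val = 14 ∨ x.val = 24 ∨ x.val = 23 ∨ (Cfsg.Lie.chevF4.IsPosRoot x.val ∧ x.val ∉ [27, 25, 34, 26])) := by decide +kernel

/-- Centralizers of the two remaining classes of involutions in the Chevalley group G of type F₄ over a finite field F of characteristic two (this problem's root numbering for type F₄, from the Chevalley data module: p₁, p₂ short, p₃, p₄ long with indices 33, 27, 25, 24 and negatives 14, 20, 22, 23; U generated by the positive root subgroups). For an element of G with matrix x_47(1)x_44(1) (highest root times highest short root): its centralizer in G is generated by U, X_{−p₂} and X_{−p₃}. For an element of G with matrix x_39(1)x_45(1) (roots (1,2,2,1) and (2,4,2,1), an orthogonal short/long pair): its centralizer in G is generated by X_{p₁}, X_{−p₁}, X_{p₄},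 X_{−p₄} and the root subgroups of all positive roots other than p₂ (27), p₃ (25), p₁ + p₂ (34) and p₃ + p₄ (26). -/
theorem result {F : Type*} [Field F] [Fintype F] [CharP F 2] (w v : GL Cfsg.Lie.chevF4.Idx F) (hw : (w : Matrix Cfsg.Lie.chevF4.Idx Cfsg.Lie.chevF4.Idx F) = Cfsg.Lie.chevF4.x F 47 1 * Cfsg.Lie.chevF4.x F 44 1) (hv : (v : Matrix Cfsg.Lie.chevF4.Idx Cfsg.Lie.chevF4.Idx F) = Cfsg.Lie.chevF4.x F 39 1 * Cfsg.Lie.chevF4.x F 45 1) :
    Cfsg.Lie.chevF4.group F ⊓ Subgroup.centralizer {w} = Cfsg.Lie.chevF4.posUnipotent F ⊔ Cfsg.Lie.chevF4.rootSubgroup F 20 ⊔ Cfsg.Lie.chevF4.rootSubgroup F 22 ∧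
    Cfsg.Lie.chevF4.group F ⊓ Subgroup.centralizer {v} = Cfsg.Lie.chevF4.rootSubgroup F 33 ⊔ Cfsg.Lie.chevF4.rootSubgroup F 14 ⊔ Cfsg.Lie.chevF4.rootSubgroup F 24 ⊔ Cfsg.Lie.chevF4.rootSubgroup F 23 ⊔
      Subgroup.closure {g : GL Cfsg.Lie.chevF4.Idx F | ∃ (r : ℕ) (c : F), Cfsg.Lie.chevF4.IsPosRoot r ∧ r ∉ [27, 25, 34, 26] ∧ (g : Matrix Cfsg.Lie.chevF4.Idx Cfsg.Lie.chevF4.Idx F) = Cfsg.Lie.chevF4.x F r c} := by
  obtain ⟨C⟩ := Lib.ChevStructure.nonempty_sys Cfsg.Lie.chevF4 (by simp)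
  constructor
  · rw [Lib.RootCent.Form.centralizer_eq C.commOK simples certW (t := w) (by simpa using hw),
      C.toCore.posUnipotent_eq, Lib.RootCent.Form.sup_roots C.toCore ⟨20, by decide⟩,
      Lib.RootCent.Form.sup_roots C.toCore ⟨22, by decide⟩]
    congr 1
    ext x
    have h := setW x
    simp [Fin.ext_iff] at h
    simp [Lib.ChevStructure.Core.Pos, Fin.ext_iff, show Cfsg.Lie.chevF4.nroots = 48 from rfl]
    omega
  · rw [Lib.RootCent.Form.centralizer_eq C.commOK simples certV (t := v) (by simpa using hv),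
      C.toCore.rootSubgroup_eq ⟨33, by decide⟩, Lib.RootCent.Form.sup_roots C.toCore ⟨14, by decide⟩,
      Lib.RootCent.Form.sup_roots C.toCore ⟨24, by decide⟩, Lib.RootCent.Form.sup_roots C.toCore ⟨23, by decide⟩]
    have e := C.toCore.closure_eq_US (F := F)
      (fun r => Cfsg.Lie.chevF4.IsPosRoot r ∧ r ∉ [27, 25, 34, 26]) (fun r hr => hr.1.1)
    simp only [and_assoc] at e
    rw [e, Lib.RootCent.Basic.US_union]
    congr 1
    ext x
    have h := setV x
    simp [Fin.ext_iff] at h ⊢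
    rw [h]
    tauto


end Cfsg.Agent.S2179
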