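import Cfsg.Statements.S2180
import Cfsg.Agent.Lib.RootCent.Form
-- import your own Cfsg.Agent.* helpers here

set_option autoImplicit false
set_option synthInstance.maxSize 4000
set_option synthInstance.maxHeartbeats 400000
open Cfsg

namespace Cfsg.Agent.S2180

theorem simples : ∀ i : Fin Cfsg.Lie.chevG2.rank, Cfsg.Lie.chevG2.simple i.val < Cfsg.Lie.chevG2.nroots := by decide +kernel

open Lib.RootCent.General Lib.RootCent.Basic Lib.RootCent.Form Lib.RootPairs.LongPair in
theorem certZ : Cert2 Cfsg.Lie.chevG2 (fun i => (⟨Cfsg.Lie.chevG2.simple i.val, simples i⟩ : Lib.ChevStructure.Rt Cfsg.Lie.chevG2))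
    [⟨11, by decide⟩] [] []
    [⟨6, by decide⟩, ⟨8, by decide⟩, ⟨9, by decide⟩, ⟨10, by decide⟩, ⟨11, by decide⟩] [⟨7, by decide⟩] [⟨4, by decide⟩]
    (fun _ => [1]) where
  nodup := by decide +kernel
  pos := by decide +kernel
  descent := by decide +kernel
  torus := by decide +kernel
  comm := by decide +kernel
  orbit := by decide +kernel
  rigid := by decide +kernel
  lp := by decide +kernel
  ln := by decide +kernel
  fixed := by decide +kernel
  cover := by decide +kernel
  levi_norm := by decide +kernel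
  chain := by decide +kernel
  moves := by decide +kernel
  targets := by decide +kernel
  sources := by decide +kernel

open Lib.RootCent.General Lib.RootCent.Basic Lib.RootCent.Form Lib.RootPairs.LongPair in
theorem certT : Cert2 Cfsg.Lie.chevG2 (fun i => (⟨Cfsg.Lie.chevG2.simple i.val, simples i⟩ : Lib.ChevStructure.Rt Cfsg.Lie.chevG2))
    [⟨9, by decide⟩] [⟨10, by decide⟩, ⟨11, by decide⟩] [(⟨7, by decide⟩, ⟨10, by decide⟩), (⟨8, by decide⟩, ⟨11, by decide⟩)]
    [⟨9, by decide⟩, ⟨10, by decide⟩, ⟨11, by decide⟩] [⟨6, by decide⟩] [⟨5, by decide⟩]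
    (fun _ => [1]) where
  nodup := by decide +kernel
  pos := by decide +kernel
  descent := by decide +kernel
  torus := by decide +kernel
  comm := by decide +kernel
  orbit := by decide +kernel
  rigid := by decide +kernel
  lp := by decide +kernel
  ln := by decide +kernel
  fixed := by decide +kernel
  cover := by decide +kernel
  levi_norm := by decide +kernel
  chain := by decide +kernel
  moves := by decide +kernel
  targets := by decide +kernel
  sources := by decide +kernel

open Lib.ChevStructure in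
theorem setZ : ∀ x : Rt Cfsg.Lie.chevG2, x.val ∈ [7, 4, 6, 8, 9, 10, 11] ↔ (6 ≤ x.val ∨ x.val = 4) := by decide +kernel

open Lib.ChevStructure in
theorem setT : ∀ x : Rt Cfsg.Lie.chevG2, x.val ∈ [6, 5, 9, 10, 11] ↔ (x.val = 9 ∨ x.val = 10 ∨ x.val = 11 ∨ x.val = 6 ∨ x.val = 5) := by decide +kernel

/-- Centralizers of involutions in the Chevalley group G of type G₂ over a finite field F of characteristic two with at least four elements (this problem's root numbering for type G₂, from the Chevalley data module: a = p₁ short with index 7, b = p₂ long with index 6, −a = 4, −b = 5, 2a + b = 9, 3a + b = 10, 3a + 2b = 11; U generated by the positive root subgroups). For an element z of G with matrix x_{3a+2b}(1): the centralizer of z in G is generated by U and X_{−a}. For an element t of G with matrix x_{2a+b}(1): the centralizer of t in G is generated by X_{2a+b}, X_{3a+b}, X_{3a+2b}, X_b and X_{−b}. -/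
theorem result {F : Type*} [Field F] [Fintype F] [CharP F 2] (hF : 4 ≤ Fintype.card F) (z t : GL Cfsg.Lie.chevG2.Idx F) (hz : (z : Matrix Cfsg.Lie.chevG2.Idx Cfsg.Lie.chevG2.Idx F) = Cfsg.Lie.chevG2.x F 11 1) (ht : (t : Matrix Cfsg.Lie.chevG2.Idx Cfsg.Lie.chevG2.Idx F) = Cfsg.Lie.chevG2.x F 9 1) :
    Cfsg.Lie.chevG2.group F ⊓ Subgroup.centralizer {z} = Cfsg.Lie.chevG2.posUnipotent F ⊔ Cfsg.Lie.chevG2.rootSubgroup F 4 ∧
    Cfsg.Lie.chevG2.group F ⊓ Subgroup.centralizer {t} = Cfsg.Lie.chevG2.rootSubgroup F 9 ⊔ Cfsg.Lie.chevG2.rootSubgroup F 10 ⊔ Cfsg.Lie.chevG2.rootSubgroup F 11 ⊔ Cfsg.Lie.chevG2.rootSubgroup F 6 ⊔ Cfsg.Lie.chevG2.rootSubgroup F 5 := by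
  obtain ⟨C⟩ := Lib.ChevStructure.nonempty_sys Cfsg.Lie.chevG2 (by simp)
  constructor
  · rw [Lib.RootCent.Form.centralizer_eq C.commOK simples certZ (t := z) (by simpa using hz),
      C.toCore.posUnipotent_eq, Lib.RootCent.Form.sup_roots C.toCore ⟨4, by decide⟩]
    congr 1
    ext x
    have h := setZ x
    simp [Fin.ext_iff] at h
    simp [Lib.ChevStructure.Core.Pos, Fin.ext_iff, show Cfsg.Lie.chevG2.nroots = 12 from rfl]
    omega
  · rw [Lib.RootCent.Form.centralizer_eq C.commOK simples certT (t := t) (by simpa using ht),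
      C.toCore.rootSubgroup_eq ⟨9, by decide⟩, Lib.RootCent.Form.sup_roots C.toCore ⟨10, by decide⟩,
      Lib.RootCent.Form.sup_roots C.toCore ⟨11, by decide⟩, Lib.RootCent.Form.sup_roots C.toCore ⟨6, by decide⟩,
      Lib.RootCent.Form.sup_roots C.toCore ⟨5, by decide⟩]
    congr 1
    ext x
    have h := setT x
    simp [Fin.ext_iff] at h ⊢
    omega


end Cfsg.Agent.S2180
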