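import Cfsg.Statements.S2181
import Cfsg.Agent.Lib.EvenInvolutions.CertE7
import Cfsg.Agent.Lib.EvenInvolutions.Conclude
-- import your own Cfsg.Agent.* helpers here

set_option autoImplicit false
open Cfsg

namespace Cfsg.Agent.S2181

open Cfsg.Lie Cfsg.Agent.Lib.ChevStructure Cfsg.Agent.Lib.EvenInvolutions

/-- The Chevalley group of type E₇ over a finite field of characteristic two (the matrix group generated by the root elements) has exactly five conjugacy classes of elements of order 2. -/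
theorem result {F : Type*} [Field F] [Fintype F] [CharP F 2] :
    (ConjClasses.mk '' {g : ↥(Cfsg.Lie.chevE7.group F) | orderOf g = 2}).ncard = 5 := by
  set H := Cfsg.Agent.Lib.ChevStructure.Cert.E7.certified
  have hc : CommOK H.core := Cfsg.Agent.Lib.ChevStructure.Cert.E7.core.commOK_mild Cfsg.Agent.Lib.ChevStructure.mildE7
  have hclass := fun g hg h2 h1 => classes (K := F) H hc Cfsg.Agent.Lib.EvenInvolutions.CertE7.sign Cfsg.Agent.Lib.EvenInvolutions.CertE7.cover Cfsg.Agent.Lib.EvenInvolutions.CertE7.fusion (g := g) hg h2 h1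
  have hr : ∀ i < Cfsg.Agent.Lib.EvenInvolutions.CertE7.ys.length,
      (((wordG H F (Cfsg.Agent.Lib.EvenInvolutions.CertE7.ys.getD i [])) : Matrix Cfsg.Lie.chevE7.Idx Cfsg.Lie.chevE7.Idx F) - 1).rank = [34, 52, 53, 62, 63].getD i 0 := by
    intro i hi
    have hi' : i < 5 := hi
    interval_cases i
    · exact rank_of_cert H Cfsg.Agent.Lib.EvenInvolutions.CertE7.diag hi Cfsg.Agent.Lib.EvenInvolutions.CertE7.rank0
    · exact rank_of_cert H Cfsg.Agent.Lib.EvenInvolutions.CertE7.diag hi Cfsg.Agent.Lib.EvenInvolutions.CertE7.rank1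
    · exact rank_of_cert H Cfsg.Agent.Lib.EvenInvolutions.CertE7.diag hi Cfsg.Agent.Lib.EvenInvolutions.CertE7.rank2
    · exact rank_of_cert H Cfsg.Agent.Lib.EvenInvolutions.CertE7.diag hi Cfsg.Agent.Lib.EvenInvolutions.CertE7.rank3
    · exact rank_of_cert H Cfsg.Agent.Lib.EvenInvolutions.CertE7.diag hi Cfsg.Agent.Lib.EvenInvolutions.CertE7.rank4
  have hinj : ∀ y₁ ∈ Cfsg.Agent.Lib.EvenInvolutions.CertE7.ys, ∀ y₂ ∈ Cfsg.Agent.Lib.EvenInvolutions.CertE7.ys, ∀ h ∈ Cfsg.Lie.chevE7.group F,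
      h * wordG H F y₁ * h⁻¹ = wordG H F y₂ → y₁ = y₂ := by
    intro y₁ h₁ y₂ h₂ h hh he
    obtain ⟨i, hi, j, hj, rfl, rfl, e⟩ := inj_of_rank H (rs := [34, 52, 53, 62, 63]) rfl hr h₁ h₂ he
    have hnd : ∀ a b : Fin 5, ([34, 52, 53, 62, 63] : List ℕ).getD a.val 0 = ([34, 52, 53, 62, 63] : List ℕ).getD b.val 0 → a = b := by
      decide
    rw [show i = j from congrArg Fin.val (hnd ⟨i, hi⟩ ⟨j, hj⟩ e)]
  have hne := ne_one_of_rank H hr (by decide)
  have hsq := sq_of_all (K := F) H Cfsg.Agent.Lib.EvenInvolutions.CertE7.diag Cfsg.Agent.Lib.EvenInvolutions.CertE7.square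
  exact count_classes H (by decide) hclass hsq hne hinj

end Cfsg.Agent.S2181
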