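import Cfsg.Statements.S2183
import Cfsg.Agent.Lib.Twist3D4Inv.Main

set_option autoImplicit false
open Cfsg

namespace Cfsg.Agent.S2183

/-- The twisted group ³D₄(q), q even, realised inside the Chevalley group of type D₄ over the field K with q³ elements, has exactly two conjugacy classes of elements of order 2. -/
theorem result {K : Type*} [Field K] [Fintype K] [CharP K 2] (q : ℕ) (hK : Fintype.card K = q ^ 3) :
    (ConjClasses.mk '' {g : ↥(Cfsg.Lie.twistedD4 K q) | orderOf g = 2}).ncard = 2 := by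
  have hq0 : 1 < q := by
    by_contra h
    have h2 := Fintype.one_lt_card (α := K)
    rw [hK] at h2
    have : q ^ 3 ≤ 1 := pow_le_one₀ (Nat.zero_le q) (by omega)
    omega
  obtain ⟨n, -, hn⟩ := FiniteField.card K 2
  obtain ⟨f, -, hqf⟩ := (Nat.dvd_prime_pow Nat.prime_two).1
    (show q ∣ 2 ^ (n : ℕ) by rw [← hn, hK]; exact dvd_pow_self q (by norm_num))
  have hq : IsPrimePow q :=
    ⟨2, f, Nat.prime_two.prime, Nat.pos_of_ne_zero (by rintro rfl; simp at hqf; omega), hqf.symm⟩
  obtain ⟨φ, F, e⟩ := Cfsg.Agent.Lib.LieTwisted.Twist.D4.exists_model hq hK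
  rw [← e]
  exact Cfsg.Agent.Lib.Twist3D4Inv.classes_ncard F hq.one_lt hK hqf

end Cfsg.Agent.S2183
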