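import Cfsg.Statements.S2186
import Cfsg.Agent.Lib.RootPairs.Main
import Cfsg.Agent.Lib.RootPairs.Certs
-- import your own Cfsg.Agent.* helpers here

set_option autoImplicit false
open Cfsg

namespace Cfsg.Agent.S2186

/-- Let G be the Chevalley group of type G₂ (over a field with at least four elements), D₄, E₆, E₇ or E₈ over a finite field F of characteristic two, and let X be the root subgroup of the highest root (the last root index) — a long root subgroup, of order |F|. For every g in G, the subgroup generated by X and its conjugate g X g⁻¹ is either a 2-group or is conjugate by an element of G to the subgroup generated by X and the root subgroup of the lowest root (index 0, the negative of the highest root), which is a copy of SL₂(F). -/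
theorem result {F : Type*} [Field F] [Fintype F] [CharP F 2] (D : Cfsg.Lie.ChevalleyDatum) (hD : D ∈ [Cfsg.Lie.chevG2, Cfsg.Lie.chevD4, Cfsg.Lie.chevE6, Cfsg.Lie.chevE7, Cfsg.Lie.chevE8]) (hF : D = Cfsg.Lie.chevG2 → 4 ≤ Fintype.card F) (g : GL D.Idx F) (hg : g ∈ D.group F) :
    IsPGroup 2 ↥(D.rootSubgroup F (D.nroots - 1) ⊔ (D.rootSubgroup F (D.nroots - 1)).map (MulAut.conj g).toMonoidHom) ∨
    ∃ h ∈ D.group F, (D.rootSubgroup F (D.nroots - 1) ⊔ (D.rootSubgroup F (D.nroots - 1)).map (MulAut.conj g).toMonoidHom).map (MulAut.conj h).toMonoidHom = D.rootSubgroup F (D.nroots - 1) ⊔ D.rootSubgroup F 0 := by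
  simp only [List.mem_cons, List.not_mem_nil, or_false] at hD
  have key : ∀ (D' : Cfsg.Lie.ChevalleyDatum), D' ∈ [Cfsg.Lie.chevG2, Cfsg.Lie.chevB2, Cfsg.Lie.chevD4, Cfsg.Lie.chevF4, Cfsg.Lie.chevE6, Cfsg.Lie.chevE7, Cfsg.Lie.chevE8] →
      ∀ (h0 : 0 < D'.nroots), Lib.RootPairs.LongPair.GoodTop D' (Lib.RootPairs.Main.top D' h0) →
      Lib.RootPairs.LongPair.IsLong D' (Lib.RootPairs.Main.top D' h0) →
      ∀ (g : GL D'.Idx F), g ∈ D'.group F →
      IsPGroup 2 ↥(D'.rootSubgroup F (D'.nroots - 1) ⊔ (D'.rootSubgroup F (D'.nroots - 1)).map (MulAut.conj g).toMonoidHom) ∨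
      ∃ h ∈ D'.group F, (D'.rootSubgroup F (D'.nroots - 1) ⊔ (D'.rootSubgroup F (D'.nroots - 1)).map (MulAut.conj g).toMonoidHom).map (MulAut.conj h).toMonoidHom = D'.rootSubgroup F (D'.nroots - 1) ⊔ D'.rootSubgroup F 0 := by
    intro D' hD' h0 hgood hlong g hg
    obtain ⟨S⟩ := Lib.ChevStructure.nonempty_sys D' hD'
    rw [show D'.rootSubgroup F (D'.nroots - 1) = S.toCore.US F {Lib.RootPairs.Main.top D' h0} from
        S.toCore.rootSubgroup_eq (Lib.RootPairs.Main.top D' h0),
      show D'.rootSubgroup F 0 = S.toCore.US F {(Lib.RootPairs.Main.top D' h0).rev} by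
        rw [← S.toCore.rootSubgroup_eq]; congr 1; simp [Lib.RootPairs.Main.top, Fin.val_rev]; omega]
    exact Lib.RootPairs.Main.main S.commOK h0 hlong hgood g hg
  rcases hD with rfl | rfl | rfl | rfl | rfl
  · exact key _ (by simp) (by decide) Lib.RootPairs.Certs.good_g2.1 Lib.RootPairs.Certs.good_g2.2 g hg
  · exact key _ (by simp) (by decide) Lib.RootPairs.Certs.good_d4.1 Lib.RootPairs.Certs.good_d4.2 g hg
  · exact key _ (by simp) (by decide) Lib.RootPairs.Certs.good_e6.1 Lib.RootPairs.Certs.good_e6.2 g hg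
  · exact key _ (by simp) (by decide) Lib.RootPairs.Certs.good_e7.1 Lib.RootPairs.Certs.good_e7.2 g hg
  · exact key _ (by simp) (by decide) Lib.RootPairs.Certs.good_e8.1 Lib.RootPairs.Certs.good_e8.2 g hg


end Cfsg.Agent.S2186
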