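import Cfsg.Statements.S2189
import Cfsg.Agent.Lib.SubfieldChev49.Main

set_option autoImplicit false
open Cfsg

namespace Cfsg.Agent.S2189

/-- Finite subgroups of an adjoint Chevalley group over an algebraically closed field that contain the group over a finite subfield. Let k be an algebraically closed field of prime characteristic p, G the Chevalley group of type G₂, B₂, D₄, F₄, E₆, E₇ or E₈ over k (the matrix group generated by the root elements x_s(t), t ∈ k), and q = p^a with a ≥ 1. Let L be the subgroup generated by the root elements x_s(t) with t^q = t (the Chevalley group over the field of q elements inside G), and let M be a finite subgroup of G containing L. Then for some r ≥ 1, M contains every root element x_s(t) with t^(q^r) = t and every element of M is a matrix all of whose entries c satisfy c^(q^r) = c (so M lies between the Chevalley group over the field with q^r elements and the group of points of G fixed by the q^r-th power map). -/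
theorem result {k : Type*} [Field k] [IsAlgClosed k] (p : ℕ) [Fact p.Prime] [CharP k p] (D : Cfsg.Lie.ChevalleyDatum) (hD : D ∈ [Cfsg.Lie.chevG2, Cfsg.Lie.chevB2, Cfsg.Lie.chevD4, Cfsg.Lie.chevF4, Cfsg.Lie.chevE6, Cfsg.Lie.chevE7, Cfsg.Lie.chevE8]) (a : ℕ) (ha : 1 ≤ a) (M : Subgroup (GL D.Idx k)) (hMfin : Finite ↥M) (hMG : M ≤ D.group k)
    (hLM : Subgroup.closure {g : GL D.Idx k | ∃ (s : ℕ) (t : k), t ^ (p ^ a) = t ∧ (g : Matrix D.Idx D.Idx k) = D.x k s t} ≤ M) :
    ∃ r : ℕ, 1 ≤ r ∧ Subgroup.closure {g : GL D.Idx k | ∃ (s : ℕ) (t : k), t ^ ((p ^ a) ^ r) = t ∧ (g : Matrix D.Idx D.Idx k) = D.x k s t} ≤ M ∧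
      ∀ g ∈ M, ∀ i j : D.Idx, ((g : Matrix D.Idx D.Idx k) i j) ^ ((p ^ a) ^ r) = (g : Matrix D.Idx D.Idx k) i j := by
  classical
  letI : Algebra (ZMod p) k := ZMod.algebra k p
  have ha0 : a ≠ 0 := by omega
  obtain ⟨K0, hK0fin, hK0card, hK0⟩ := Cfsg.Agent.Lib.SubfieldChev49.exists_subfield p ha0
    (IsAlgClosed.lift (R := ZMod p) (S := GaloisField p a) (M := k)).toRingHom
  have hF : ∃ b : k, b ≠ 0 ∧ b ≠ 1 := by
    obtain ⟨b, hb⟩ := Infinite.exists_notMem_finset ({0, 1} : Finset k)
    exact ⟨b, by simp_all, by simp_all⟩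
  haveI := hMfin
  obtain ⟨A, hA, hroot, hent, hmax⟩ := Cfsg.Agent.Lib.SubfieldChev49.overgroup_field D hD p hF M hMG
    (fun r g hg => hLM (Subgroup.subset_closure ⟨r.val, 1, one_pow _, hg⟩))
  have hle : K0 ≤ A := fun t ht => hmax t fun r g hg =>
    hLM (Subgroup.subset_closure ⟨r.val, t, (hK0 t).2 ht, hg⟩)
  obtain ⟨j, hj, hcard⟩ := Cfsg.Agent.Lib.SubfieldChev49.card_pow_of_le hle
  rw [hK0card] at hcard
  refine ⟨j, hj, ?_, fun g hg i l => ?_⟩
  · refine (Subgroup.closure_le M).mpr ?_
    rintro g ⟨s, t, ht, hg⟩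
    by_cases hs : s < D.nroots
    · refine hroot ⟨s, hs⟩ t ?_ g hg
      rw [← Cfsg.Agent.Lib.SubfieldChev49.pow_card_eq_iff, hcard]
      exact ht
    · have : g = 1 := Units.ext (by rw [hg, Cfsg.Lie.ChevalleyDatum.x, dif_neg hs, Units.val_one])
      rw [this]
      exact one_mem M
  · rw [← hcard, Cfsg.Agent.Lib.SubfieldChev49.pow_card_eq_iff]
    exact hent g hg i l

end Cfsg.Agent.S2189
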