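import Cfsg.Statements.S2190
import Cfsg.Agent.Lib.SubfieldChev49.Main

set_option autoImplicit false
open Cfsg

namespace Cfsg.Agent.S2190

/-- Subfield subgroups of prime degree are maximal. Let K be a finite field with q^r elements, r a prime, q a power of the characteristic, and G the Chevalley group of type G₂, B₂, D₄, F₄, E₆, E₇ or E₈ over K (the matrix group generated by the root elements). Let M be the subgroup of G consisting of the matrices all of whose entries lie in the subfield with q elements (entries c with c^q = c). Then M is a proper subgroup of G and is maximal: every subgroup of G containing M is M or G. -/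
theorem result {K : Type*} [Field K] [Fintype K] (p : ℕ) [Fact p.Prime] [CharP K p] (D : Cfsg.Lie.ChevalleyDatum) (hD : D ∈ [Cfsg.Lie.chevG2, Cfsg.Lie.chevB2, Cfsg.Lie.chevD4, Cfsg.Lie.chevF4, Cfsg.Lie.chevE6, Cfsg.Lie.chevE7, Cfsg.Lie.chevE8]) (a r : ℕ) (ha : 1 ≤ a) (hr : r.Prime) (hK : Fintype.card K = (p ^ a) ^ r) (M : Subgroup (GL D.Idx K))
    (hM : ∀ g : GL D.Idx K, g ∈ M ↔ g ∈ D.group K ∧ ∀ i j : D.Idx, ((g : Matrix D.Idx D.Idx K) i j) ^ (p ^ a) = (g : Matrix D.Idx D.Idx K) i j) :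
    M ≠ D.group K ∧ ∀ H : Subgroup (GL D.Idx K), M ≤ H → H ≤ D.group K → H = M ∨ H = D.group K := by
  classical
  have ha0 : a ≠ 0 := by omega
  haveI : Fintype (GaloisField p a) := Fintype.ofFinite _
  obtain ⟨f⟩ := Cfsg.Agent.Lib.DicksonFull.exists_ringHom (p := p) (e := a) (r := r) (K := GaloisField p a) (F := K)
    (by rw [← Nat.card_eq_fintype_card, GaloisField.card p a ha0]) (by rw [hK, ← pow_mul])
  obtain ⟨K0, hK0fin, hK0card, hK0⟩ := Cfsg.Agent.Lib.SubfieldChev49.exists_subfield p ha0 f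
  have h2 : 2 ≤ p := (Fact.out : p.Prime).two_le
  have hq : 2 ≤ p ^ a := le_trans h2 (Nat.le_self_pow ha0 p)
  have hlt : Nat.card K0 < Nat.card K := by
    rw [hK0card, Nat.card_eq_fintype_card, hK]
    exact lt_self_pow₀ (by omega) hr.one_lt
  obtain ⟨b, hb⟩ : ∃ b : K, b ∉ K0 := by
    by_contra hall
    push_neg at hall
    exact absurd (Nat.card_le_card_of_injective (fun x : K => (⟨x, hall x⟩ : K0))
      (fun x y e => congrArg Subtype.val e)) (by omega)
  have hF : ∃ c : K, c ≠ 0 ∧ c ≠ 1 :=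
    ⟨b, fun h => hb (h ▸ K0.zero_mem), fun h => hb (h ▸ K0.one_mem)⟩
  have hn : 0 < D.nroots := by
    simp only [List.mem_cons, List.not_mem_nil, or_false] at hD
    rcases hD with rfl | rfl | rfl | rfl | rfl | rfl | rfl <;> decide
  have hmem : ∀ (s : Fin D.nroots) (t : K), t ∈ K0 → ∀ g : GL D.Idx K,
      (g : Matrix D.Idx D.Idx K) = D.x K s.val t → g ∈ M := by
    intro s t ht g hg
    obtain ⟨g', hg', hval, -⟩ := Cfsg.Agent.Lib.SubfieldChev49.exists_root_elt D hD s t
    obtain rfl : g = g' := Units.ext (hg.trans hval.symm)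
    refine (hM g).2 ⟨hg', fun i l => (hK0 _).2 ?_⟩
    rw [hg]
    exact Cfsg.Agent.Lib.SubfieldChev49.x_mem D K0 s ht i l
  refine ⟨fun heq => ?_, fun H hMH hHG => ?_⟩
  · obtain ⟨g, hg, hval, huniq⟩ := Cfsg.Agent.Lib.SubfieldChev49.exists_root_elt D hD (⟨0, hn⟩ : Fin D.nroots) b
    have hfix := ((hM g).1 (heq ▸ hg)).2
    haveI : CharP K0 p := (RingHom.charP_iff K0.subtype K0.subtype_injective p).mpr inferInstance
    obtain ⟨σ, hσ⟩ := Cfsg.Agent.Lib.SubfieldChev49.exists_sigma p K0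
    refine hb ((hσ b).1 (huniq (σ b) ?_))
    have hmap : ∀ t : K, D.x K 0 (σ t) = (D.x K 0 t).map σ := by
      intro t
      ext i l
      rw [Matrix.map_apply, Cfsg.Lie.ChevalleyDatum.x, Cfsg.Lie.ChevalleyDatum.x, dif_pos hn, dif_pos hn,
        Cfsg.Lie.ChevalleyDatum.xMat, Cfsg.Lie.ChevalleyDatum.xMat, Matrix.of_apply, Matrix.of_apply]
      rcases l with l | l <;> rcases i with i | i <;> dsimp only <;> split_ifs <;>
        simp [map_list_sum, Function.comp_def]
    show D.x K 0 (σ b) = _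
    rw [hmap b]
    ext i l
    rw [Matrix.map_apply]
    refine (hσ _).2 ?_
    rw [← hK0, ← show (g : Matrix D.Idx D.Idx K) = D.x K 0 b from hval]
    exact hfix i l
  · obtain ⟨A, hA, hroot, hent, hmax⟩ := Cfsg.Agent.Lib.SubfieldChev49.overgroup_field D hD p hF H hHG
      (fun s g hg => hMH (hmem s 1 K0.one_mem g hg))
    have hle : K0 ≤ A := fun t ht => hmax t fun s g hg => hMH (hmem s t ht g hg)
    obtain ⟨j, hj, hcard⟩ := Cfsg.Agent.Lib.SubfieldChev49.card_pow_of_le hle
    obtain ⟨m, -, hcard'⟩ := Cfsg.Agent.Lib.SubfieldChev49.card_pow_of_le (A := (⊤ : Subfield K)) (K0 := A) le_top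
    have htop : Nat.card (⊤ : Subfield K) = (p ^ a) ^ r := by
      rw [Nat.card_congr (Subfield.topEquiv (K := K)).toEquiv, Nat.card_eq_fintype_card, hK]
    rw [htop, hcard, hK0card, ← pow_mul (p ^ a)] at hcard'
    have hjm : r = j * m := Nat.pow_right_injective hq hcard'
    rcases hr.eq_one_or_self_of_dvd j ⟨m, hjm⟩ with rfl | rfl
    · left
      refine le_antisymm (fun g hg => (hM g).2 ⟨hHG hg, fun i l => ?_⟩) hMH
      have hsame : Nat.card A = p ^ a := by rw [hcard, hK0card, pow_one]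
      rw [← hsame, Cfsg.Agent.Lib.SubfieldChev49.pow_card_eq_iff]
      exact hent g hg i l
    · right
      refine le_antisymm hHG ((Subgroup.closure_le H).mpr ?_)
      rintro g ⟨s, t, hg⟩
      refine hroot s t ?_ g (by rw [hg, Cfsg.Lie.ChevalleyDatum.x, dif_pos s.isLt])
      rw [← Cfsg.Agent.Lib.SubfieldChev49.pow_card_eq_iff, hcard, hK0card, ← hK]
      exact FiniteField.pow_card t

end Cfsg.Agent.S2190
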