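import Cfsg.Statements.S2192
import Cfsg.Agent.Lib.SubfieldTwist29.GrowD4

set_option autoImplicit false
open Cfsg

namespace Cfsg.Agent.S2192

/-- In the twisted group ³D₄(q), realised inside the Chevalley group of type D₄ over the field K with q³ elements (q a power of the characteristic) as the subgroup generated by the root elements, and products of root elements, that the twisting map fixes, the subgroup of matrices all of whose entries lie in the subfield with q elements (it contains the subgroup of type G₂ over that subfield) is a proper maximal subgroup. -/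
theorem result {K : Type*} [Field K] [Fintype K] (p : ℕ) [Fact p.Prime] [CharP K p] (q : ℕ) (hq : ∃ a : ℕ, 1 ≤ a ∧ q = p ^ a) (hK : Fintype.card K = q ^ 3) (M : Subgroup (GL Cfsg.Lie.chevD4.Idx K))
    (hM : ∀ g : GL Cfsg.Lie.chevD4.Idx K, g ∈ M ↔ g ∈ Cfsg.Lie.twistedD4 K q ∧ ∀ i j : Cfsg.Lie.chevD4.Idx, ((g : Matrix Cfsg.Lie.chevD4.Idx Cfsg.Lie.chevD4.Idx K) i j) ^ q = (g : Matrix Cfsg.Lie.chevD4.Idx Cfsg.Lie.chevD4.Idx K) i j) :
    M ≠ Cfsg.Lie.twistedD4 K q ∧ ∀ H : Subgroup (GL Cfsg.Lie.chevD4.Idx K), M ≤ H → H ≤ Cfsg.Lie.twistedD4 K q → H = M ∨ H = Cfsg.Lie.twistedD4 K q := by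
  open Cfsg.Agent.Lib.LieTwisted.Twist Cfsg.Agent.Lib.SubfieldTwist29 in
  (
  have hqp : IsPrimePow q := by
    obtain ⟨a, ha, rfl⟩ := hq
    exact (Fact.out : p.Prime).isPrimePow.pow (by omega)
  obtain ⟨φ, F⟩ := Frob.exists_frob hqp hK (by norm_num)
  have hG := D4.G1_eq F hqp.one_lt hK
  have hMe : M = (CertD4.set F hqp.one_lt hK).M := by
    ext g
    rw [hM, Setting.mem_M, show (CertD4.set F hqp.one_lt hK).O.G1 = _ from hG]
    refine and_congr_right fun _ => ⟨fun h => Units.ext (Matrix.ext fun i j => ?_), fun h i j => ?_⟩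
    · exact (F.apply _).trans (h i j)
    · exact (F.apply _).symm.trans
        (congrFun (congrFun (congrArg (fun x : GL _ K => (x : Matrix _ _ K)) h) i) j)
  rw [hMe, ← hG]
  exact CertD4.maximal F hqp.one_lt hK)

end Cfsg.Agent.S2192
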