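import Cfsg.Statements.S2205
import Cfsg.Agent.Lib.DoublyPrim.Endgame

set_option autoImplicit false
open Cfsg MulAction Cfsg.Agent.Lib.DoublyPrim
open scoped Pointwise

namespace Cfsg.Agent.S2205

/-- A finite group acting faithfully and 2-transitively on a set with p² + 1 points, p a prime, is doubly primitive — a point stabilizer acts primitively on the remaining p² points — unless p = 2 and the group is the Frobenius group of order 20. -/
theorem result {G Ω : Type*} [Group G] [Finite G] [Fintype Ω] [MulAction G Ω] [FaithfulSMul G Ω] (p : ℕ) (hp : p.Prime) (hΩ : Fintype.card Ω = p ^ 2 + 1) (h2 : MulAction.IsMultiplyPretransitive G Ω 2) (a : Ω) :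
    MulAction.IsPreprimitive ↥(MulAction.stabilizer G a) ↥(SubMulAction.ofStabilizer G a) ∨ (p = 2 ∧ Nat.card G = 20) := by
  classical
  refine or_iff_not_imp_left.2 fun hnp => ?_
  have := hΩ ▸ (Nat.card_eq_fintype_card (α := Ω))
  have htr : IsPretransitive G Ω := isPretransitive_of_is_two_pretransitive
  have hta : IsPretransitive (stabilizer G a) (SubMulAction.ofStabilizer G a) := by
    refine ⟨fun u v => ?_⟩
    obtain ⟨g, hga, hgu⟩ := is_two_pretransitive_iff.mp h2
      (Ne.symm ((SubMulAction.mem_ofStabilizer_iff G a).1 u.2))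
      (Ne.symm ((SubMulAction.mem_ofStabilizer_iff G a).1 v.2))
    exact ⟨⟨g, hga⟩, Subtype.ext hgu⟩
  obtain ⟨B', hB', hnt⟩ : ∃ B' : Set (SubMulAction.ofStabilizer G a),
      IsBlock (stabilizer G a) B' ∧ ¬ IsTrivialBlock B' := by
    by_contra! hall
    exact hnp { toIsPretransitive := hta, isTrivialBlock_of_isBlock := fun {B} hB => hall B hB }
  simp only [IsTrivialBlock, not_or] at hnt
  obtain ⟨hns, hnu⟩ := hnt
  obtain ⟨b, hb⟩ : B'.Nonempty := (Set.not_subsingleton_iff.1 hns).nonempty
  have hcard : Nat.card (SubMulAction.ofStabilizer G a) = p ^ 2 := by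
    rw [SubMulAction.nat_card_ofStabilizer_eq, this, Nat.add_sub_cancel]
  have hdvd := hB'.ncard_dvd_card ⟨b, hb⟩
  rw [hcard] at hdvd
  obtain ⟨k, hk2, hk⟩ := (Nat.dvd_prime_pow hp).1 hdvd
  have hk1 : k = 1 := by
    have h1 : 1 < B'.ncard := (Set.one_lt_ncard_iff_nontrivial).2 (Set.not_subsingleton_iff.1 hns)
    have h3 : B'.ncard < p ^ 2 := by
      rw [← hcard, ← Set.ncard_univ]
      exact Set.ncard_lt_ncard ((Set.ssubset_univ_iff).2 hnu)
    rcases (show k = 0 ∨ k = 1 ∨ k = 2 by omega) with rfl | rfl | rfl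
    · rw [pow_zero] at hk; omega
    · rfl
    · rw [hk] at h3; omega
  rw [hk1, pow_one] at hk
  have hS : IsSetup G p a (b : Ω) (Subtype.val '' B') :=
    { prime := hp
      faithful := inferInstance
      card_eq := this
      two := h2
      b_mem := ⟨b, hb, rfl⟩
      a_notMem := by
        rintro ⟨v, -, hv⟩
        exact (SubMulAction.mem_ofStabilizer_iff G a).1 v.2 hv
      ncard_eq := by rw [Set.ncard_image_of_injective _ Subtype.val_injective, hk]
      block := by
        rintro g hga _ ⟨v, hv, rfl⟩ ⟨w, hw, hwv⟩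
        have h1 : (⟨g, hga⟩ : stabilizer G a) • B' = B' := by
          refine hB'.smul_eq_of_mem hv ?_
          rw [show (⟨g, hga⟩ : stabilizer G a) • v = w from Subtype.ext hwv.symm]
          exact hw
        conv_rhs => rw [← h1]
        ext x
        constructor
        · rintro ⟨_, ⟨y, hy, rfl⟩, rfl⟩
          exact ⟨_, Set.smul_mem_smul_set hy, rfl⟩
        · rintro ⟨_, ⟨y, hy, rfl⟩, rfl⟩
          exact ⟨_, ⟨y, hy, rfl⟩, rfl⟩ }
  rcases hp.eq_two_or_odd' with rfl | hodd
  · exact ⟨rfl, hS.card_of_two⟩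
  · exact (hS.false_of_odd hodd).elim

end Cfsg.Agent.S2205
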