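import Cfsg.Statements.S2214
import Cfsg.Agent.Lib.ChevFixed.Basic
-- import your own Cfsg.Agent.* helpers here

set_option autoImplicit false
open Cfsg

namespace Cfsg.Agent.S2214

/-- Let k be an algebraically closed field of prime characteristic p, G the adjoint Chevalley group of type G₂, B₂, D₄, F₄, E₆, E₇ or E₈ over k (the matrix group generated by the root elements x_s(t), t ∈ k, acting on the Lie algebra), q = p^a with a ≥ 1, and K a subgroup of G containing every root element x_s(t) with t^q = t and consisting of matrices all of whose entries c satisfy c^q = c. Then the centralizer of K in G is trivial, and the normalizer of K in G is exactly the set of elements of G all of whose entries c satisfy c^q = c. -/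
theorem result {k : Type*} [Field k] [IsAlgClosed k] (p : ℕ) [Fact p.Prime] [CharP k p] (D : Cfsg.Lie.ChevalleyDatum) (hD : D ∈ [Cfsg.Lie.chevG2, Cfsg.Lie.chevB2, Cfsg.Lie.chevD4, Cfsg.Lie.chevF4, Cfsg.Lie.chevE6, Cfsg.Lie.chevE7, Cfsg.Lie.chevE8]) (a : ℕ) (ha : 1 ≤ a) (K : Subgroup (GL D.Idx k)) (hKG : K ≤ D.group k)
    (hLK : Subgroup.closure {g : GL D.Idx k | ∃ (s : ℕ) (t : k), t ^ (p ^ a) = t ∧ (g : Matrix D.Idx D.Idx k) = D.x k s t} ≤ K)
    (hKfix : ∀ g ∈ K, ∀ i j : D.Idx, ((g : Matrix D.Idx D.Idx k) i j) ^ (p ^ a) = (g : Matrix D.Idx D.Idx k) i j) :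
    D.group k ⊓ Subgroup.centralizer (K : Set (GL D.Idx k)) = ⊥ ∧
    ∀ g : GL D.Idx k, g ∈ D.group k → (g ∈ Subgroup.normalizer (K : Set (GL D.Idx k)) ↔ ∀ i j : D.Idx, ((g : Matrix D.Idx D.Idx k) i j) ^ (p ^ a) = (g : Matrix D.Idx D.Idx k) i j) := by
  obtain ⟨C⟩ := Lib.ChevStructure.nonempty_sys D hD
  set f : k →+* k := iterateFrobenius k p a with hf_def
  have hf : ∀ t, f t = t ^ (p ^ a) := fun t => iterateFrobenius_def _ _ t
  have hfixK : ∀ g ∈ K, Matrix.GeneralLinearGroup.map f g = g := fun g hg =>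
    Units.ext (Matrix.ext fun i j => by rw [Matrix.GeneralLinearGroup.map_apply, hf]; exact hKfix g hg i j)
  have hL : Subgroup.closure {x | ∃ (r : Lib.ChevStructure.Rt D) (t : k), f t = t ∧ x = C.toCore.X k r t} ≤ K := by
    refine le_trans ((Subgroup.closure_le _).2 ?_) hLK
    rintro x ⟨r, t, ht, rfl⟩
    exact Subgroup.subset_closure ⟨r.val, t, by rw [← hf]; exact ht, C.toCore.X_val_x r t⟩
  have hcent : D.group k ⊓ Subgroup.centralizer (K : Set (GL D.Idx k)) = ⊥ := by
    rw [eq_bot_iff]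
    intro g hg
    obtain ⟨h1, h2⟩ := Subgroup.mem_inf.1 hg
    refine Subgroup.mem_bot.2 (Lib.ChevFixed.Basic.eq_one_of_commute C.commOK h1 fun r => ?_)
    exact (Subgroup.mem_centralizer_iff.1 h2 _
      (hL (Subgroup.subset_closure ⟨r, 1, map_one f, rfl⟩))).symm
  refine ⟨hcent, fun g hg => ⟨fun hn => ?_, fun hfix => ?_⟩⟩
  · have hσ : Matrix.GeneralLinearGroup.map f g ∈ D.group k := by
      have hle : D.group k ≤ (D.group k).comap (Matrix.GeneralLinearGroup.map f) := by
        refine (Subgroup.closure_le _).2 ?_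
        rintro x ⟨r, t, hx⟩
        have e : x = C.toCore.X k r t := C.toCore.eq_X (by rw [hx, Cfsg.Lie.ChevalleyDatum.x, dif_pos r.isLt])
        rw [SetLike.mem_coe, Subgroup.mem_comap, e, C.toCore.X_map]
        exact C.toCore.X_mem_group r (f t)
      exact hle hg
    have h1 : g⁻¹ * Matrix.GeneralLinearGroup.map f g ∈ D.group k ⊓ Subgroup.centralizer (K : Set (GL D.Idx k)) := by
      refine Subgroup.mem_inf.2 ⟨mul_mem (inv_mem hg) hσ, Subgroup.mem_centralizer_iff.2 fun x hx => ?_⟩
      have h2 := hfixK _ ((Subgroup.mem_normalizer_iff.1 hn x).1 hx)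
      rw [map_mul, map_mul, map_inv, hfixK x hx] at h2
      generalize Matrix.GeneralLinearGroup.map f g = g' at h2 ⊢
      calc x * (g⁻¹ * g') = g⁻¹ * (g * x * g⁻¹) * g' := by group
        _ = g⁻¹ * (g' * x * g'⁻¹) * g' := by rw [h2]
        _ = _ := by group
    rw [hcent, Subgroup.mem_bot, inv_mul_eq_one] at h1
    intro i j
    rw [← hf, ← Matrix.GeneralLinearGroup.map_apply, ← h1]
  · have hfg : Matrix.GeneralLinearGroup.map f g = g :=
      Units.ext (Matrix.ext fun i j => by rw [Matrix.GeneralLinearGroup.map_apply, hf]; exact hfix i j)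
    obtain ⟨x, hx, y, hy, c, hc, rfl⟩ := Lib.ChevFixed.Basic.fixed_group C.commOK f hg hfg
    have hT : C.toCore.HT k c ∈ Subgroup.normalizer (K : Set (GL D.Idx k)) := by
      have key : ∀ c : Fin D.rank → kˣ, Matrix.GeneralLinearGroup.map f (C.toCore.HT k c) = C.toCore.HT k c →
          ∀ z ∈ K, C.toCore.HT k c * z * (C.toCore.HT k c)⁻¹ ∈ K := by
        intro c hc z hz
        obtain ⟨u, hu, w, hw, d, hd, rfl⟩ :=
          Lib.ChevFixed.Basic.fixed_group C.commOK f (hKG hz) (hfixK z hz)
        have hdK : C.toCore.HT k d ∈ K := by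
          have := mul_mem (mul_mem (inv_mem (hL hu)) hz) (inv_mem (hL hw))
          simpa [mul_assoc] using this
        have e1 := hL (Lib.ChevFixed.Basic.fixed_torus_conj C.commOK f hc hu)
        have e2 := hL (Lib.ChevFixed.Basic.fixed_torus_conj C.commOK f hc hw)
        have e3 : C.toCore.HT k c * C.toCore.HT k d * (C.toCore.HT k c)⁻¹ = C.toCore.HT k d := by
          rw [C.toCore.HT_mul, mul_comm c, ← C.toCore.HT_mul, mul_inv_cancel_right]
        have := mul_mem (mul_mem e1 (e3.symm ▸ hdK)) e2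
        convert this using 1
        group
      rw [Subgroup.mem_normalizer_iff]
      intro z
      refine ⟨key c hc z, fun hz => ?_⟩
      have hc' : Matrix.GeneralLinearGroup.map f (C.toCore.HT k c⁻¹) = C.toCore.HT k c⁻¹ := by
        rw [← C.toCore.HT_inv, map_inv, hc]
      have := key c⁻¹ hc' _ hz
      rw [← C.toCore.HT_inv] at this
      simpa [mul_assoc] using this
    exact mul_mem (mul_mem (Subgroup.le_normalizer (hL hx)) hT) (Subgroup.le_normalizer (hL hy))


end Cfsg.Agent.S2214
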