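import Cfsg.Statements.S3341
import Cfsg.Agent.Lib.ThreeFree.Main
-- import your own Cfsg.Agent.* helpers here

set_option autoImplicit false
open Cfsg

namespace Cfsg.Agent.S3341

/-- Let G be a finite simple group whose Sylow 3-subgroup S is elementary abelian of order 9, such that G has more than one conjugacy class of elements of order 3 and C_G(s) = S for every non-identity s in S. Then G is isomorphic to the alternating group of degree 6. -/
theorem result {G : Type*} [Group G] [Finite G] [IsSimpleGroup G]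
    (P : Sylow 3 G) (S : Subgroup G) (hSP : S = P) (hcomm : IsMulCommutative S) (hexp : ∀ a ∈ S, a ^ 3 = 1)
    (hcard : Nat.card S = 9)
    (hclasses : ∃ a b : G, orderOf a = 3 ∧ orderOf b = 3 ∧ ∀ g : G, g * a * g⁻¹ ≠ b)
    (hcent : ∀ s ∈ S, s ≠ 1 → Subgroup.centralizer ({s} : Set G) = S) :
    Nonempty (G ≃* alternatingGroup (Fin 6)) := by
  haveI := Fintype.ofFinite G
  subst hSP
  have hexp' : ∀ m ∈ (P : Subgroup G), m ^ 3 = 1 := hexp
  have hcm : ∀ x ∈ (P : Subgroup G), ∀ y ∈ (P : Subgroup G), x * y = y * x :=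
    fun x hx y hy => congrArg Subtype.val (hcomm.is_comm.comm (⟨x, hx⟩ : (P : Subgroup G)) ⟨y, hy⟩)
  have hG : ¬ IsMulCommutative G := by
    refine Lib.SmallGroups.Sylow.not_comm_of_card fun hp => ?_
    have h9 : 9 ∣ Nat.card G := hcard ▸ Subgroup.card_subgroup_dvd_card (P : Subgroup G)
    have h3 := (Nat.prime_dvd_prime_iff_eq Nat.prime_three hp).mp (dvd_trans (by norm_num) h9)
    omega
  rcases Lib.ThreeFree.Setup.exists_model P hcard hexp' hcm hclasses hcent with ⟨e, L⟩ | ⟨e, L⟩
  · exact S0497.result (Lib.ThreeFree.Main.card_four L hcard hG)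
  · exact (Lib.ThreeFree.Main.false_two L hcard
      (lt_of_lt_of_le (by norm_num) (Lib.ThreeFree.Main.card_ge hcard hG))).elim

end Cfsg.Agent.S3341
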