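import Cfsg.Statements.S2220
import Cfsg.Agent.Lib.NineTwoQ78.OneClass.Main
import Cfsg.Agent.Lib.NineTwoQ78.Main
import Cfsg.Agent.S0497
import Cfsg.Agent.S1011
import Cfsg.Agent.S3341

set_option autoImplicit false
set_option linter.style.haveILetI false
open Cfsg

namespace Cfsg.Agent.S2220

open Cfsg.Agent.Lib Cfsg.Agent.Lib.NineTwoQ78

universe u

/-- A cyclic Sylow subgroup gives at least three classes. -/
theorem three_classes_of_cyclic {G : Type u} [Group G] [Finite G] (R : Sylow 3 G)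
    (hR9 : Nat.card (R : Subgroup G) = 9)
    (hR : ∀ k ∈ (R : Subgroup G), k ≠ 1 → Subgroup.centralizer ({k} : Set G) = R)
    {r : G} (hr : r ∈ (R : Subgroup G)) (hr3 : r ^ 3 ≠ 1) :
    3 ≤ Nat.card {C : ConjClasses G // ∃ g ∈ C.carrier, g ≠ 1 ∧ orderOf g ∣ 9} := by
  classical
  haveI : Fact (Nat.Prime 3) := ⟨Nat.prime_three⟩
  haveI := Fintype.ofFinite (ConjClasses G)
  have h9 : orderOf r = 9 := by
    have hd : orderOf r ∣ 9 := hR9 ▸ Subgroup.orderOf_dvd_natCard _ hr
    have hn : ¬ orderOf r ∣ 3 := fun h => hr3 (orderOf_dvd_iff_pow_eq_one.1 h)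
    obtain ⟨i, hi, e⟩ := (Nat.dvd_prime_pow Nat.prime_three).1 (show orderOf r ∣ 3 ^ 2 from hd)
    rw [e] at hn ⊢
    interval_cases i <;> simp_all
  have hr1 : r ≠ 1 := fun e => hr3 (by rw [e, one_pow])
  have hRz : (R : Subgroup G) = Subgroup.zpowers r :=
    (Subgroup.eq_of_le_of_card_ge (Subgroup.zpowers_le.2 hr)
      (by rw [Nat.card_zpowers, h9, hR9])).symm
  have hnc : ¬ IsConj r (r ^ 2) := by
    intro h
    obtain ⟨g, hg⟩ := isConj_iff.1 h
    set x := g ^ 2 with hx
    have e4 : x * r * x⁻¹ = r ^ 4 := by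
      rw [hx]
      calc g ^ 2 * r * (g ^ 2)⁻¹ = g * (g * r * g⁻¹) * g⁻¹ := by rw [pow_two]; group
        _ = g * r ^ 2 * g⁻¹ := by rw [hg]
        _ = r ^ 4 := by rw [← conj_pow, hg, ← pow_mul]
    have e64 : x ^ 3 * r * (x ^ 3)⁻¹ = r := by
      calc x ^ 3 * r * (x ^ 3)⁻¹ = x * (x * (x * r * x⁻¹) * x⁻¹) * x⁻¹ := by
            rw [pow_succ, pow_two]; group
        _ = ((r ^ 4) ^ 4) ^ 4 := by
            rw [e4, ← conj_pow, e4, ← conj_pow, ← conj_pow, e4]
        _ = r ^ (64 % orderOf r) := by rw [pow_mod_orderOf, ← pow_mul, ← pow_mul]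
        _ = r := by rw [h9]; norm_num
    have hx3 : x ^ 3 ∈ (R : Subgroup G) := by
      rw [← hR r hr hr1]
      exact Subgroup.mem_centralizer_singleton_iff.2 (mul_inv_eq_iff_eq_mul.1 e64)
    have hp : IsPGroup 3 (Subgroup.zpowers x) := by
      obtain ⟨i, hi⟩ := R.isPGroup' ⟨x ^ 3, hx3⟩
      have hi' : x ^ 3 ^ (i + 1) = 1 := by
        have := congrArg Subtype.val hi
        rw [pow_succ', pow_mul]
        simpa using this
      intro y
      obtain ⟨j, hj⟩ := Subgroup.mem_zpowers_iff.1 y.2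
      refine ⟨i + 1, Subtype.ext ?_⟩
      rw [SubmonoidClass.coe_pow, ← hj, ← zpow_natCast, ← zpow_mul, mul_comm, zpow_mul,
        zpow_natCast, hi', one_zpow, OneMemClass.coe_one]
    have hnorm : Subgroup.zpowers x ≤ Subgroup.normalizer ((R : Subgroup G) : Set G) := by
      rw [Subgroup.zpowers_le, hRz, Subgroup.mem_normalizer_iff_map_conj_eq, MonoidHom.map_zpowers]
      refine Subgroup.eq_of_le_of_card_ge (Subgroup.zpowers_le.2 ?_) ?_
      · rw [MonoidHom.coe_coe, MulAut.conj_apply, e4]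
        exact pow_mem (Subgroup.mem_zpowers r) 4
      · rw [Nat.card_zpowers, Nat.card_zpowers, MonoidHom.coe_coe, MulAut.conj_apply, e4,
          Nat.Coprime.orderOf_pow (by rw [h9]; norm_num)]
    obtain ⟨S, hS⟩ := (hp.to_sup_of_normal_right' R.isPGroup' hnorm).exists_le_sylow
    have hSR : S = R :=
      Sylow.ext (R.is_maximal' S.isPGroup' (le_sup_right.trans hS))
    have hxR : x ∈ (R : Subgroup G) := hSR ▸ hS (Subgroup.mem_sup_left (Subgroup.mem_zpowers x))
    rw [← hR r hr hr1, Subgroup.mem_centralizer_singleton_iff] at hxR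
    rw [hxR, mul_inv_cancel_right] at e4
    have h4 : r ^ 3 = 1 := by
      rw [pow_succ r 3] at e4
      exact mul_eq_right.1 e4.symm
    exact hr3 h4
  have ho2 : orderOf (r ^ 2) = 9 := by rw [Nat.Coprime.orderOf_pow (by rw [h9]; norm_num), h9]
  have ho3 : orderOf (r ^ 3) = 3 := by
    rw [orderOf_pow' r (by norm_num), h9]
    norm_num
  have hne : ∀ x y : G, IsConj x y → orderOf x = orderOf y := fun x y hxy => by
    obtain ⟨g, rfl⟩ := isConj_iff.1 hxy
    exact ((MulAut.conj g).orderOf_eq x).symm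
  rw [Nat.card_eq_fintype_card, Fintype.card_subtype]
  refine le_trans (le_of_eq ?_) (Finset.card_le_card (s := {ConjClasses.mk r,
    ConjClasses.mk (r ^ 2), ConjClasses.mk (r ^ 3)}) ?_)
  · rw [Finset.card_eq_three.2 ⟨_, _, _, ?_, ?_, ?_, rfl⟩] <;>
      rw [Ne, ConjClasses.mk_eq_mk_iff_isConj]
    · exact hnc
    · exact fun h => by have := hne _ _ h; omega
    · exact fun h => by have := hne _ _ h; omega
  · intro C hC
    simp only [Finset.mem_insert, Finset.mem_singleton] at hC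
    refine Finset.mem_filter.2 ⟨Finset.mem_univ _, ?_⟩
    rcases hC with rfl | rfl | rfl <;>
      refine ⟨_, ConjClasses.mem_carrier_mk, fun e => ?_, ?_⟩
    · exact hr1 e
    · exact dvd_of_eq h9
    · rw [e, orderOf_one] at ho2; norm_num at ho2
    · exact dvd_of_eq ho2
    · exact hr3 e
    · rw [ho3]; norm_num

/-- Let G be a non-abelian finite simple group of order 9·2ᵃ·qᵇ for a prime q other than 2 and 3, and suppose a Sylow 3-subgroup R of G is strongly self-centralizing: C_G(k) = R for every nonidentity k ∈ R. Then G is isomorphic to the alternating group of degree 6, to PSL(2,8) or to PSL(2,17). -/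
theorem result {G : Type*} [Group G] [Finite G] [IsSimpleGroup G] (hG : ¬ IsMulCommutative G)
    (q a b : ℕ) (hq : q.Prime) (hq2 : q ≠ 2) (hq3 : q ≠ 3) (hcard : Nat.card G = 9 * 2 ^ a * q ^ b)
    (R : Sylow 3 G) (hR : ∀ k ∈ (R : Subgroup G), k ≠ 1 → Subgroup.centralizer ({k} : Set G) = R) :
    Nonempty (G ≃* ↥(alternatingGroup (Fin 6))) ∨
      (∃ (F : Type) (_ : Field F) (_ : Fintype F), Fintype.card F = 8 ∧
        Nonempty (G ≃* Matrix.ProjectiveSpecialLinearGroup (Fin 2) F)) ∨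
      Nonempty (G ≃* Matrix.ProjectiveSpecialLinearGroup (Fin 2) (ZMod 17)) := by
  classical
  haveI : Fact (Nat.Prime 3) := ⟨Nat.prime_three⟩
  have h9 := Main.card_sylow hq hq3 hcard R
  by_cases hexp : ∀ r ∈ (R : Subgroup G), r ^ 3 = 1
  swap
  · push Not at hexp
    obtain ⟨r, hr, hr3⟩ := hexp
    exact Or.inr (Main.out hG hq hq2 hq3 hcard (three_classes_of_cyclic R h9 hR hr hr3))
  by_cases hone : ∀ x y : G, orderOf x = 3 → orderOf y = 3 → IsConj x y
  swap
  · push Not at hone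
    obtain ⟨x, y, hx, hy, hxy⟩ := hone
    exact Or.inl (Cfsg.Agent.S3341.result R R rfl
      (IsPGroup.isMulCommutative_of_card_eq_prime_sq (p := 3) (by rw [h9]; rfl)) hexp h9
      ⟨x, y, hx, hy, fun g hg => hxy (isConj_iff.2 ⟨g, hg⟩)⟩ hR)
  have H : OneClass.Hyp G q a b R :=
    ⟨inferInstance, hG, hq, hq2, hq3, hcard, hR, hexp, hone⟩
  rcases H.out with h | h | h
  · exact Or.inl (Cfsg.Agent.S0497.result h)
  · haveI : Fact (Nat.Prime 2) := ⟨Nat.prime_two⟩
    have := Fintype.ofFinite (GaloisField 2 3)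
    have h8 : Fintype.card (GaloisField 2 3) = 8 := by
      rw [← Nat.card_eq_fintype_card, GaloisField.card 2 3 (by norm_num)]; norm_num
    exact Or.inr (Or.inl ⟨GaloisField 2 3, inferInstance, inferInstance, h8,
      Cfsg.Agent.S1011.result h h8⟩)
  · exact Or.inr (Or.inr h)

end Cfsg.Agent.S2220
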