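import Cfsg.Statements.S2221
import Cfsg.Agent.Lib.SymSylow.Indecomposable

set_option autoImplicit false
open Cfsg

namespace Cfsg.Agent.S2221

open Cfsg.Agent.Lib.SymSylow

theorem sylow_dec_iff {n : ℕ} (hn : 6 ≤ n) (P : Sylow 2 (alternatingGroup (Fin n))) :
    Indecomposable.Dec (P : Subgroup (alternatingGroup (Fin n))) ↔
      Indecomposable.Dec (Indecomposable.evenPart n) := by
  obtain ⟨Q, hQ⟩ := Alternating.exists_sylow_eq (Alternating.isPGroup_dyadicAlt n)
    (Alternating.dyadicAlt_normalizer hn)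
  obtain ⟨g, rfl⟩ := MulAction.exists_smul_eq (alternatingGroup (Fin n)) Q P
  have h1 : ((g • Q : Sylow 2 (alternatingGroup (Fin n))) : Subgroup (alternatingGroup (Fin n))) =
      (Q : Subgroup (alternatingGroup (Fin n))).map (MulAut.conj g).toMonoidHom := rfl
  rw [h1, Indecomposable.dec_map_iff _ (MulAut.conj g).injective, hQ,
    ← Indecomposable.dec_map_iff (alternatingGroup (Fin n)).subtype Subtype.val_injective,
    ← Indecomposable.dec_map_iff (Basic.dyadic n).subtype Subtype.val_injective]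
  have e : (Alternating.dyadicAlt n).map (alternatingGroup (Fin n)).subtype =
      (Indecomposable.evenPart n).map (Basic.dyadic n).subtype := by
    ext σ
    simp only [Subgroup.mem_map, Subgroup.coe_subtype]
    constructor
    · rintro ⟨⟨x, hx⟩, hx', rfl⟩
      exact ⟨⟨x, hx'⟩, Equiv.Perm.mem_alternatingGroup.mp hx, rfl⟩
    · rintro ⟨⟨x, hx⟩, hx', rfl⟩
      exact ⟨⟨x, Equiv.Perm.mem_alternatingGroup.mpr hx'⟩, hx, rfl⟩
  rw [e]

/-- A group of order four without elements of order four decomposes. -/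
theorem dec_four {G : Type*} [Group G] [Finite G] (S : Subgroup G) (hcard : Nat.card S = 4)
    (hsq : ∀ x ∈ S, x ^ 2 = 1) : Indecomposable.Dec S := by
  have : Nontrivial ↥S := Finite.one_lt_card_iff_nontrivial.mp (by omega)
  obtain ⟨⟨a, ha⟩, ha1'⟩ := exists_ne (1 : ↥S)
  have ha1 : a ≠ 1 := fun e => ha1' (Subtype.ext e)
  have hza : Nat.card ↥(Subgroup.zpowers a) = 2 := by
    rw [Nat.card_zpowers, orderOf_eq_prime (hsq a ha) ha1]
  obtain ⟨b, hb, hba⟩ : ∃ b ∈ S, b ∉ Subgroup.zpowers a := by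
    by_contra hcon
    push Not at hcon
    have := Nat.le_of_dvd Nat.card_pos (Subgroup.card_dvd_of_le (fun x hx => hcon x hx))
    omega
  have hb1 : b ≠ 1 := fun e => hba (e ▸ one_mem _)
  have hcomm : ∀ x ∈ S, ∀ y ∈ S, x * y = y * x := by
    intro x hx y hy
    have h := hsq _ (S.mul_mem hx hy)
    have hx' := hsq x hx
    have hy' := hsq y hy
    rw [pow_two] at h hx' hy'
    calc x * y = x * (x * y * (x * y)) * y := by rw [h, mul_one]
      _ = (x * x) * (y * x) * (y * y) := by group
      _ = y * x := by rw [hx', hy', one_mul, mul_one]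
  have hla : Subgroup.zpowers a ≤ S := Subgroup.zpowers_le.mpr ha
  have hlb : Subgroup.zpowers b ≤ S := Subgroup.zpowers_le.mpr hb
  refine ⟨_, _, by simpa using ha1, by simpa using hb1, hla, hlb,
    fun x hx y hy => hcomm x (hla hx) y (hlb hy), ?_, ?_⟩
  · rw [eq_bot_iff]
    rintro x ⟨hxa, hxb⟩
    rw [Subgroup.mem_bot]
    by_contra hx1
    have e1 := Subgroup.eq_of_le_of_card_ge (Subgroup.zpowers_le.mpr hxa)
      (by rw [hza, Nat.card_zpowers, orderOf_eq_prime (hsq x (hla hxa)) hx1])
    apply hba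
    rw [← e1]
    have e2 := Subgroup.eq_of_le_of_card_ge (Subgroup.zpowers_le.mpr hxb)
      (by rw [Nat.card_zpowers, Nat.card_zpowers, orderOf_eq_prime (hsq x (hla hxa)) hx1,
        orderOf_eq_prime (hsq b hb) hb1])
    rw [e2]
    exact Subgroup.mem_zpowers b
  · refine Subgroup.eq_of_le_of_card_ge (sup_le hla hlb) ?_
    have hlt : Subgroup.zpowers a < Subgroup.zpowers a ⊔ Subgroup.zpowers b :=
      lt_of_le_of_ne le_sup_left fun e => hba (e ▸ Subgroup.mem_sup_right (Subgroup.mem_zpowers b))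
    have h2 := Subgroup.card_dvd_of_le (sup_le hla hlb)
    rw [hcard] at h2
    have h3 : 2 < Nat.card ↥(Subgroup.zpowers a ⊔ Subgroup.zpowers b) := by
      rw [← hza]
      by_contra hle
      exact hlt.ne (Subgroup.eq_of_le_of_card_ge hlt.le (Nat.le_of_not_lt hle))
    have h4 := Nat.le_of_dvd (by norm_num) h2
    have h5 : Nat.card ↥(Subgroup.zpowers a ⊔ Subgroup.zpowers b) ≠ 3 := fun e => by
      rw [e] at h2; norm_num at h2
    omega

/-- Direct decomposability of the Sylow 2-subgroups of the alternating groups. Let n ≥ 4 and let P be a Sylow 2-subgroup of the alternating group of degree n. Then P is the internal direct product of two nontrivial subgroups if and only if n = 4, n = 5, or n ≡ 2, 3 (mod 4) with 4⌊n/4⌋ not a power of 2. In the remaining cases (n ≡ 0, 1 (mod 4) with n ≥ 8, or n ≡ 2, 3 (mod 4) with 4⌊n/4⌋ a power of 2) P is directly indecomposable. -/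
theorem result (n : ℕ) (hn : 4 ≤ n)
    (P : Sylow 2 (alternatingGroup (Fin n))) :
    (∃ S₁ S₂ : Subgroup (alternatingGroup (Fin n)), S₁ ≠ ⊥ ∧ S₂ ≠ ⊥ ∧
        Cfsg.IsInternalDirectProduct S₁ S₂ (P : Subgroup (alternatingGroup (Fin n)))) ↔
      (n = 4 ∨ n = 5 ∨ ((n % 4 = 2 ∨ n % 4 = 3) ∧ ∀ r : ℕ, 4 * (n / 4) ≠ 2 ^ r)) := by
  show Indecomposable.Dec _ ↔ _
  by_cases h6 : 6 ≤ n
  · rw [sylow_dec_iff h6 P]
    by_cases hsingle : ∃ r : ℕ, 4 * (n / 4) = 2 ^ r
    · obtain ⟨r, hr⟩ := hsingle
      exact iff_of_false (Indecomposable.not_dec_single h6 hr)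
        (by rintro (h | h | ⟨-, h⟩) <;> first | omega | exact h r hr)
    · push Not at hsingle
      by_cases h23 : 2 ≤ n % 4
      · exact iff_of_true (Indecomposable.dec_of_pair h23 hn hsingle)
          (Or.inr (Or.inr ⟨by omega, hsingle⟩))
      · exact iff_of_false (Indecomposable.not_dec_multi h6 (by omega) hsingle) (by omega)
  · refine iff_of_true ?_ (by omega)
    have h45 : n = 4 ∨ n = 5 := by omega
    have key : (Nat.card (alternatingGroup (Fin n)) = 12 ∨ Nat.card (alternatingGroup (Fin n)) = 60) ∧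
        ∀ σ : Equiv.Perm (Fin n), Equiv.Perm.sign σ = 1 → σ ^ 4 = 1 → σ ^ 2 = 1 := by
      rcases h45 with rfl | rfl <;> refine ⟨?_, by decide +kernel⟩ <;> rw [Nat.card_eq_fintype_card] <;>
        decide +kernel
    have h4 : 2 ^ 2 ∣ Nat.card (alternatingGroup (Fin n)) := by
      rcases key.1 with h | h <;> rw [h] <;> norm_num
    have hd := P.pow_dvd_card_of_pow_dvd_card h4
    have hd' := (P : Subgroup (alternatingGroup (Fin n))).card_subgroup_dvd_card
    obtain ⟨m, hm⟩ := IsPGroup.iff_card.mp P.isPGroup'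
    have hcard : Nat.card (P : Subgroup (alternatingGroup (Fin n))) = 4 := by
      rw [hm] at hd hd' ⊢
      have h2m : 2 ≤ m := (Nat.pow_dvd_pow_iff_le_right (by norm_num)).mp hd
      have hm3 : ¬ 3 ≤ m := fun hc => by
        have := (pow_dvd_pow 2 hc).trans hd'
        rcases key.1 with h | h <;> rw [h] at this <;> norm_num at this
      obtain rfl : m = 2 := by omega
      norm_num
    refine dec_four _ hcard fun x hx => ?_
    have h4x : x ^ 4 = 1 := by
      have := pow_card_eq_one' (x := (⟨x, hx⟩ : ↥(P : Subgroup (alternatingGroup (Fin n)))))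
      rw [hcard] at this
      exact congrArg Subtype.val this
    exact Subtype.ext (key.2 _ (Equiv.Perm.mem_alternatingGroup.mp x.2) (congrArg Subtype.val h4x))

end Cfsg.Agent.S2221
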