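import Cfsg.Statements.S2222
import Cfsg.Agent.Lib.SymSylow.Alternating
import Cfsg.Agent.Lib.SymSylow.Pronormal

set_option autoImplicit false
open Cfsg

namespace Cfsg.Agent.S2222

/-- In the alternating group of degree n ≥ 5 every subgroup H of odd index is pronormal: for every element g, the subgroups H and gHg⁻¹ are conjugate by an element of the subgroup they generate. -/
theorem result (n : ℕ) (hn : 5 ≤ n)
    (H : Subgroup (alternatingGroup (Fin n))) (hH : Odd H.index) : Cfsg.IsPronormal H := by
  have h2 : ¬ 2 ∣ H.index := fun h => (Nat.not_even_iff_odd.mpr hH) (even_iff_two_dvd.mpr h)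
  obtain ⟨P, hP⟩ := Lib.SymSylow.Alternating.exists_sylow_le (p := 2) h2
  by_cases h6 : 6 ≤ n
  · refine Lib.SymSylow.Pronormal.isPronormal_of_normalizer_le P hP ?_
    rw [Lib.SymSylow.Alternating.alternating_sylow_normalizer h6 P]
    exact hP.trans Subgroup.le_normalizer
  · obtain rfl : n = 5 := by omega
    have hcard : Nat.card ↥(alternatingGroup (Fin 5)) = 60 := by
      rw [Nat.card_eq_fintype_card]
      decide +kernel
    have hmem : H.index ∈ Nat.divisors 60 :=
      Nat.mem_divisors.mpr ⟨hcard ▸ H.index_dvd_card, by norm_num⟩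
    have hcases : H.index = 1 ∨ H.index = 3 ∨ H.index = 5 ∨ H.index = 15 := by
      have key : ∀ d ∈ Nat.divisors 60, d % 2 = 1 → d = 1 ∨ d = 3 ∨ d = 5 ∨ d = 15 := by decide
      exact key _ hmem (Nat.odd_iff.mp hH)
    have coatom : (H.index).Prime → Cfsg.IsPronormal H := by
      intro hpr
      refine Lib.SymSylow.Pronormal.isPronormal_of_isCoatom ⟨?_, ?_⟩
      · intro e
        rw [e, Subgroup.index_top] at hpr
        exact Nat.not_prime_one hpr
      · intro K hK
        have hd := Subgroup.index_dvd_of_le hK.le
        rcases hpr.eq_one_or_self_of_dvd _ hd with h | h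
        · exact Subgroup.index_eq_one.mp h
        · exact absurd h (Subgroup.index_strictAnti hK).ne
    rcases hcases with h | h | h | h
    · obtain rfl : H = ⊤ := Subgroup.index_eq_one.mp h
      intro g
      exact ⟨g, Subgroup.mem_sup_left (Subgroup.mem_top g), rfl⟩
    · exact coatom (by rw [h]; norm_num)
    · exact coatom (by rw [h]; norm_num)
    · have hH4 : Nat.card ↥H = 4 := by
        have := H.card_mul_index
        rw [hcard, h] at this
        omega
      have hP4 : 2 ^ 2 ∣ Nat.card ↥(P : Subgroup ↥(alternatingGroup (Fin 5))) :=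
        P.pow_dvd_card_of_pow_dvd_card (by rw [hcard]; norm_num)
      have heq : (P : Subgroup ↥(alternatingGroup (Fin 5))) = H :=
        Subgroup.eq_of_le_of_card_ge hP (by rw [hH4]; exact Nat.le_of_dvd Nat.card_pos hP4)
      refine Lib.SymSylow.Pronormal.isPronormal_of_normalizer_le P hP ?_
      rw [heq]

end Cfsg.Agent.S2222
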