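import Cfsg.Statements.S2225
import Cfsg.Agent.Lib.SLOddIndex.Main

set_option autoImplicit false
open Cfsg

namespace Cfsg.Agent.S2225

/-- Let F be a finite field and d = 2^w ≥ 2 a power of 2 such that PSL_d(F) is simple. Then every subgroup H of PSL_d(F) of odd index is pronormal: for every g, H and gHg⁻¹ are conjugate by an element of the subgroup they generate. -/
theorem result {F : Type*} [Field F] [Fintype F]
    (w : ℕ) (hw : 1 ≤ w) (hs : IsSimpleGroup (Matrix.ProjectiveSpecialLinearGroup (Fin (2 ^ w)) F))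
    (H : Subgroup (Matrix.ProjectiveSpecialLinearGroup (Fin (2 ^ w)) F)) (hH : Odd H.index) : Cfsg.IsPronormal H := by
  classical
  by_cases h2 : ringChar F = 2
  · haveI : CharP F 2 := by rw [← h2]; exact ringChar.charP F
    exact Cfsg.Agent.Lib.SLOddIndex.isPronormal_of_odd_index H hH
  · have hodd : Fintype.card F % 2 = 1 := FiniteField.odd_card_of_char_ne_two h2
    obtain ⟨k, rfl⟩ : ∃ k, w = k + 1 := ⟨w - 1, by omega⟩
    rcases Nat.eq_zero_or_pos k with rfl | hk
    · exact Cfsg.Agent.Lib.SLOddIndex.isPronormal_two hodd H hH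
    · exact Cfsg.Agent.Lib.SLOddIndex.isPronormal_big hodd hk H hH

end Cfsg.Agent.S2225
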