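import Cfsg.Statements.S2228
import Cfsg.Agent.Lib.J3Order.Main
import Cfsg.Agent.Lib.J3Order.SylowLocal
import Cfsg.Agent.Lib.J3Order.NoThree

set_option autoImplicit false
open Cfsg

namespace Cfsg.Agent.S2228

open Cfsg.Agent.Lib.J3Order in
theorem finish {G : Type*} [Group G] [Finite G] {p e : ℕ} (X : Subgroup G)
    (hI : SylowLocal.Inv X p 1 e) (hp : p.Prime) :
    Subgroup.centralizer (X : Set G) = X ∧
      ∃ h : (X.subgroupOf (Subgroup.normalizer (X : Set G))).Normal,
        IsCyclic (↥(Subgroup.normalizer (X : Set G)) ⧸ X.subgroupOf _) ∧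
        Nat.card (↥(Subgroup.normalizer (X : Set G)) ⧸ X.subgroupOf _) = e := by
  haveI := Fact.mk hp
  haveI : IsCyclic X := isCyclic_of_prime_card hI.card
  have hle : X ≤ Subgroup.centralizer (X : Set G) := fun x hx =>
    Subgroup.mem_centralizer_iff.2 fun y hy =>
      congrArg Subtype.val (IsCyclic.commGroup.mul_comm (⟨y, hy⟩ : X) ⟨x, hx⟩)
  have hC : Subgroup.centralizer (X : Set G) = X :=
    (Subgroup.eq_of_le_of_card_ge hle (by rw [hI.cent, hI.card, mul_one])).symm
  refine ⟨hC, Subgroup.normal_in_normalizer, ?_⟩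
  have hk : X.subgroupOf (Subgroup.normalizer (X : Set G)) = X.normalizerMonoidHom.ker := by
    rw [Subgroup.normalizerMonoidHom_ker, hC]
  let E' : ↥(Subgroup.normalizer (X : Set G)) ⧸ X.subgroupOf (Subgroup.normalizer (X : Set G)) ≃*
      X.normalizerMonoidHom.range :=
    (QuotientGroup.quotientMulEquivOfEq hk).trans (QuotientGroup.quotientKerEquivRange _)
  haveI := hI.cyc
  exact ⟨isCyclic_of_surjective E'.symm.toMonoidHom E'.symm.surjective,
    (Nat.card_congr E'.toEquiv).trans hI.range⟩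

/-- Let G be a finite simple group in which all involutions are conjugate and the centralizer of an involution has a normal extraspecial subgroup of order 32 complemented by a subgroup isomorphic to the alternating group of degree 5 (a group of J₃-type). Then a Sylow 19-subgroup of G is self-centralizing with normalizer-quotient cyclic of order 9, and a Sylow 17-subgroup is self-centralizing with normalizer-quotient cyclic of order 8. -/
theorem result {G : Type*} [Group G] [Finite G] [IsSimpleGroup G]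
    (hone : ∀ x y : G, orderOf x = 2 → orderOf y = 2 → IsConj x y)
    (t : G) (ht : orderOf t = 2) (E A : Subgroup ↥(Subgroup.centralizer ({t} : Set G))) [E.Normal]
    (hE : Cfsg.IsExtraspecial 2 ↥E) (hE32 : Nat.card ↥E = 32) (hEA : E.IsComplement' A)
    (eA : ↥A ≃* ↥(alternatingGroup (Fin 5))) :
    (∀ X : Sylow 19 G, Subgroup.centralizer ((X : Subgroup G) : Set G) = X ∧
        ∃ h : ((X : Subgroup G).subgroupOf (Subgroup.normalizer ((X : Subgroup G) : Set G))).Normal,
          IsCyclic (↥(Subgroup.normalizer ((X : Subgroup G) : Set G)) ⧸ (X : Subgroup G).subgroupOf _) ∧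
          Nat.card (↥(Subgroup.normalizer ((X : Subgroup G) : Set G)) ⧸ (X : Subgroup G).subgroupOf _) = 9) ∧
    (∀ Y : Sylow 17 G, Subgroup.centralizer ((Y : Subgroup G) : Set G) = Y ∧
        ∃ h : ((Y : Subgroup G).subgroupOf (Subgroup.normalizer ((Y : Subgroup G) : Set G))).Normal,
          IsCyclic (↥(Subgroup.normalizer ((Y : Subgroup G) : Set G)) ⧸ (Y : Subgroup G).subgroupOf _) ∧
          Nat.card (↥(Subgroup.normalizer ((Y : Subgroup G) : Set G)) ⧸ (Y : Subgroup G).subgroupOf _) = 8) := by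
  haveI : Fact (Nat.Prime 17) := ⟨by norm_num⟩
  haveI : Fact (Nat.Prime 19) := ⟨by norm_num⟩
  have e := hEA.symm.QuotientMulEquiv.trans eA
  have hn := Cfsg.Agent.Lib.J3Order.card_of_one_class hone t ht E hE32 hE e
  obtain ⟨Q, -, h⟩ := Cfsg.Agent.Lib.J3Order.Prelim.exists_hyp t ht E hE hE32 e
  obtain ⟨v, hv⟩ := h.exists_five hone
  obtain ⟨a, s, q, hc⟩ := Cfsg.Agent.Lib.J3Order.Outside.exists_chart hv hone
  have hctx : Cfsg.Agent.Lib.J3Order.Local.Ctx t a s q := ⟨hc, ht, hone⟩
  obtain ⟨h19, h17⟩ := Cfsg.Agent.Lib.J3Order.SylowLocal.leaves hctx hn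
  refine ⟨fun X => finish _ ((h19 X).resolve_left fun hI => ?_) (by norm_num),
    fun Y => finish _ (h17 Y) (by norm_num)⟩
  obtain ⟨g, hg⟩ := Cfsg.Agent.Lib.J3Order.Cyclic57.exists_cyc X hI
  exact Cfsg.Agent.Lib.J3Order.NoThree.no_cyc hctx hn hg

end Cfsg.Agent.S2228
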