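import Cfsg.Statements.S2231
import Cfsg.Agent.Lib.QdFree.Basic

set_option autoImplicit false
open Cfsg

namespace Cfsg.Agent.S2231

/-- The upper unitriangular subgroup of `SL₂`. -/
def uni2 (K : Type*) [Field K] : Subgroup (Matrix.SpecialLinearGroup (Fin 2) K) where
  carrier := {M | (M : Matrix (Fin 2) (Fin 2) K) 1 0 = 0 ∧ (M : Matrix (Fin 2) (Fin 2) K) 0 0 = 1 ∧
    (M : Matrix (Fin 2) (Fin 2) K) 1 1 = 1}
  one_mem' := by simp [Matrix.SpecialLinearGroup.coe_one]
  mul_mem' := by
    rintro a b ⟨a1, a2, a3⟩ ⟨b1, b2, b3⟩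
    simp [Matrix.mul_apply, Fin.sum_univ_two, a1, a2, a3, b1, b2, b3]
  inv_mem' := by
    rintro a ⟨a1, a2, a3⟩
    simp [Matrix.SpecialLinearGroup.coe_inv, Matrix.adjugate_fin_two, a1, a2, a3]

/-- Let p be an odd prime and K a finite field of characteristic p. Then Qd(p) (the natural semidirect product of an elementary abelian group of order p² by SL₂(p)) is not involved in the projective special linear group PSL₂(K). -/
theorem result {p : ℕ} [Fact p.Prime] (hp : p ≠ 2) {K : Type*} [Field K] [Fintype K] [CharP K p] : ¬ Cfsg.Involves ↥(Cfsg.qd p) (Matrix.ProjectiveSpecialLinearGroup (Fin 2) K) := by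
  intro hinv
  let G := Matrix.SpecialLinearGroup (Fin 2) K
  have hpU : IsPGroup p ↥(uni2 K) := by
    rintro ⟨M, a1, a2, a3⟩
    refine ⟨1, Subtype.ext (Subtype.ext ?_)⟩
    have h2 : ((M : Matrix (Fin 2) (Fin 2) K) - 1) ^ 2 = 0 := by
      ext i j
      fin_cases i <;> fin_cases j <;>
        simp [pow_succ, Matrix.mul_apply, Fin.sum_univ_two, a1, a2, a3]
    have h4 := sub_pow_char_of_commute (R := Matrix (Fin 2) (Fin 2) K) p
      (Commute.one_right (M : Matrix (Fin 2) (Fin 2) K))
    rw [pow_eq_zero_of_le (Fact.out : p.Prime).two_le h2, one_pow] at h4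
    rw [pow_one]
    simpa [Matrix.SpecialLinearGroup.coe_pow] using sub_eq_zero.mp h4.symm
  obtain ⟨P, hUP⟩ := hpU.exists_le_sylow
  have htr : ∀ g ∈ (P : Subgroup G), Matrix.trace (g : Matrix (Fin 2) (Fin 2) K) = 2 := by
    intro g hg
    obtain ⟨k, hk⟩ := P.isPGroup' ⟨g, hg⟩
    have hk' : (g : Matrix (Fin 2) (Fin 2) K) ^ p ^ k = 1 := by
      have := congrArg (fun x : ↥(P : Subgroup G) => ((x : G) : Matrix (Fin 2) (Fin 2) K)) hk
      simpa [Matrix.SpecialLinearGroup.coe_pow] using this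
    have hnil : IsNilpotent ((g : Matrix (Fin 2) (Fin 2) K) - 1) :=
      ⟨p ^ k, by rw [sub_pow_char_pow_of_commute p k (Commute.one_right _), hk', one_pow, sub_self]⟩
    have := (Matrix.isNilpotent_trace_of_isNilpotent hnil).eq_zero
    rwa [Matrix.trace_sub, Matrix.trace_one, Fintype.card_fin, Nat.cast_ofNat, sub_eq_zero] at this
  let u : G := ⟨Matrix.transvection 0 1 1, Matrix.det_transvection_of_ne 0 1 (by decide) 1⟩
  have hu : u ∈ (P : Subgroup G) := hUP ⟨by simp [u, Matrix.transvection, Matrix.single], by simp [u, Matrix.transvection, Matrix.single], by simp [u, Matrix.transvection, Matrix.single]⟩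
  have hlow : ∀ g ∈ (P : Subgroup G), (g : Matrix (Fin 2) (Fin 2) K) 1 0 = 0 := by
    intro g hg
    have h1 := htr g hg
    have h2 := htr _ (mul_mem hg hu)
    rw [Matrix.SpecialLinearGroup.coe_mul, show (u : Matrix (Fin 2) (Fin 2) K) =
      Matrix.transvection 0 1 1 from rfl] at h2
    simp [Matrix.trace_fin_two, Matrix.mul_apply, Fin.sum_univ_two, Matrix.transvection,
      Matrix.single, Matrix.add_apply] at h1 h2
    linear_combination h2 - h1
  -- the Sylow subgroup of `SL₂` is abelian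
  have hcomm : ∀ x ∈ (P : Subgroup G), ∀ y ∈ (P : Subgroup G), x * y = y * x := by
    have hdiag : ∀ g ∈ (P : Subgroup G), (g : Matrix (Fin 2) (Fin 2) K) 0 0 = 1 ∧
        (g : Matrix (Fin 2) (Fin 2) K) 1 1 = 1 := by
      intro g hg
      have h1 := htr g hg
      have h3 := hlow g hg
      have h4 : Matrix.det (g : Matrix (Fin 2) (Fin 2) K) = 1 := g.prop
      rw [Matrix.trace_fin_two] at h1
      rw [Matrix.det_fin_two, h3, mul_zero, sub_zero] at h4
      have e : (g : Matrix (Fin 2) (Fin 2) K) 0 0 = 1 := by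
        have : ((g : Matrix (Fin 2) (Fin 2) K) 0 0 - 1) ^ 2 = 0 := by
          linear_combination (g : Matrix (Fin 2) (Fin 2) K) 0 0 * h1 - h4
        exact sub_eq_zero.mp (eq_zero_of_pow_eq_zero this)
      exact ⟨e, by linear_combination h1 - e⟩
    intro x hx y hy
    obtain ⟨x0, x1⟩ := hdiag x hx
    obtain ⟨y0, y1⟩ := hdiag y hy
    have x2 := hlow x hx
    have y2 := hlow y hy
    apply Subtype.ext
    rw [Matrix.SpecialLinearGroup.coe_mul, Matrix.SpecialLinearGroup.coe_mul]
    ext i j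
    fin_cases i <;> fin_cases j <;>
      simp [Matrix.mul_apply, Fin.sum_univ_two, x0, x1, x2, y0, y1, y2] <;> ring
  let π : G →* Matrix.ProjectiveSpecialLinearGroup (Fin 2) K := QuotientGroup.mk' _
  have hπ : Function.Surjective π := QuotientGroup.mk'_surjective _
  obtain ⟨Q, hQ, x, hx, y, hy, hne⟩ := Lib.QdFree.Basic.qd_exists_noncomm (p := p) hp
  refine hne (Lib.QdFree.Basic.commute_of_involves (P.mapSurjective hπ) ?_ hinv Q hQ x hx y hy)
  rintro _ ⟨a, ha, rfl⟩ _ ⟨b, hb, rfl⟩
  rw [← map_mul, ← map_mul, hcomm a ha b hb]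

end Cfsg.Agent.S2231
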