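import Cfsg.Statements.S2232
import Cfsg.Agent.Lib.QdFree.Unitary
import Cfsg.Agent.Lib.QdFree.Basic
-- import your own Cfsg.Agent.* helpers here

set_option autoImplicit false
open Cfsg

namespace Cfsg.Agent.S2232

open Cfsg.Agent.Lib.QdFree.Basic in
/-- The upper left block of an element of `qd p`. -/
theorem qd_le_blk {p : ℕ} {M : Matrix.SpecialLinearGroup (Fin 3) (ZMod p)} (hM : M ∈ Cfsg.qd p) :
    (M : Matrix (Fin 3) (Fin 3) (ZMod p)) 2 0 = 0 ∧ (M : Matrix (Fin 3) (Fin 3) (ZMod p)) 2 1 = 0 ∧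
      (M : Matrix (Fin 3) (Fin 3) (ZMod p)) 2 2 = 1 := by
  induction hM using Subgroup.closure_induction with
  | mem x hx => exact hx
  | one => simp [Matrix.SpecialLinearGroup.coe_one]
  | mul a b _ _ ha hb =>
      obtain ⟨a1, a2, a3⟩ := ha
      obtain ⟨b1, b2, b3⟩ := hb
      simp [Matrix.mul_apply, Fin.sum_univ_three, a1, a2, a3, b1, b2, b3]
  | inv a _ ha =>
      obtain ⟨a1, a2, a3⟩ := ha
      have hd : Matrix.det (a : Matrix (Fin 3) (Fin 3) (ZMod p)) = 1 := a.prop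
      rw [Matrix.det_fin_three, a1, a2, a3] at hd
      simp [Matrix.SpecialLinearGroup.coe_inv, Matrix.adjugate_fin_three, a1, a2, a3]
      linear_combination hd

/-- The action of `qd p` on its natural module, as a map to `2 × 2` matrices. -/
def blk (p : ℕ) : ↥(Cfsg.qd p) →* Matrix (Fin 2) (Fin 2) (ZMod p) where
  toFun M := !![(M.1 : Matrix (Fin 3) (Fin 3) (ZMod p)) 0 0, (M.1 : Matrix (Fin 3) (Fin 3) (ZMod p)) 0 1;
    (M.1 : Matrix (Fin 3) (Fin 3) (ZMod p)) 1 0, (M.1 : Matrix (Fin 3) (Fin 3) (ZMod p)) 1 1]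
  map_one' := by simp [Matrix.one_fin_two]
  map_mul' M N := by
    obtain ⟨b1, b2, b3⟩ := qd_le_blk N.2
    ext i j
    fin_cases i <;> fin_cases j <;>
      simp [Matrix.mul_apply, Fin.sum_univ_three, Fin.sum_univ_two, b1, b2]

/-- An element above a `p`-element can be replaced by a `p`-element. -/
theorem exists_pPart {G M : Type*} [Group G] [Finite G] [Monoid M] {p : ℕ} [Fact p.Prime] (f : G →* M)
    (g : G) (hg : f g ^ p = 1) : ∃ e a : ℕ, (g ^ e) ^ p ^ a = 1 ∧ f (g ^ e) = f g := by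
  obtain ⟨a, m, hm, ho⟩ := Nat.exists_eq_pow_mul_and_not_dvd (orderOf_pos g).ne' p (Fact.out : p.Prime).ne_one
  have hco : (p ^ (a + 1)).Coprime m :=
    (Nat.Coprime.pow_left _ ((Fact.out : p.Prime).coprime_iff_not_dvd.mpr hm))
  obtain ⟨e, he1, he0⟩ := Nat.chineseRemainder hco 1 0
  refine ⟨e, a, ?_, ?_⟩
  · rw [← pow_mul]
    refine orderOf_dvd_iff_pow_eq_one.mp ?_
    rw [ho, mul_comm e]
    exact Nat.mul_dvd_mul_left _ (Nat.modEq_zero_iff_dvd.mp he0)
  · rw [map_pow]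
    have : e ≡ 1 [MOD p] := he1.of_dvd (dvd_pow_self p (Nat.succ_ne_zero a))
    rw [pow_eq_pow_mod e hg, this, ← pow_eq_pow_mod 1 hg, pow_one]

/-- Let p be an odd prime, q a power of p and K a finite field with q² elements. Then Qd(p) (the natural semidirect product of an elementary abelian group of order p² by SL₂(p)) is not involved in the projective special unitary group PSU₃(q) realised over K. -/
theorem result {p : ℕ} [Fact p.Prime] (hp : p ≠ 2) {K : Type*} [Field K] [Fintype K] [CharP K p] (n : ℕ) (hn : 1 ≤ n) (hK : Fintype.card K = (p ^ n) ^ 2) : ¬ Cfsg.Involves ↥(Cfsg.qd p) (Cfsg.PSU 3 K (p ^ n)) := by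
  classical
  intro ⟨K', R', hn, ⟨iso⟩⟩
  have : CharP K p := inferInstance
  let π : SU 3 K (p ^ n) →* PSU 3 K (p ^ n) := QuotientGroup.mk' _
  let H : Subgroup (SU 3 K (p ^ n)) := K'.comap π
  let πH : ↥H →* ↥K' := (π.comp H.subtype).codRestrict K' (fun x => x.2)
  have hπH : Function.Surjective πH := by
    rintro ⟨k, hk⟩
    obtain ⟨g, rfl⟩ := QuotientGroup.mk'_surjective _ k
    exact ⟨⟨g, hk⟩, rfl⟩
  let f : ↥H →* ↥(Cfsg.qd p) := (iso.toMonoidHom.comp (QuotientGroup.mk' (R'.subgroupOf K'))).comp πH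
  have hf : Function.Surjective f :=
    (iso.surjective.comp (QuotientGroup.mk'_surjective _)).comp hπH
  let V : Subgroup ↥(Cfsg.qd p) := (blk p).ker
  have hV : IsPGroup p ↥V := by
    rintro ⟨⟨M, hM⟩, hv⟩
    obtain ⟨b1, b2, b3⟩ := qd_le_blk hM
    have e := fun i j => congrFun (congrFun (show blk p ⟨M, hM⟩ = 1 from hv) i) j
    have e00 := e 0 0
    have e10 := e 1 0
    have e11 := e 1 1
    simp [blk] at e00 e10 e11
    refine ⟨1, Subtype.ext (Subtype.ext ?_)⟩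
    rw [pow_one]
    exact Lib.QdFree.Basic.pow_p_eq_one hp ⟨e10, b1, b2, e00, e11, b3⟩
  let N : Subgroup ↥H := V.comap f
  let fN : ↥N →* ↥V := f.subgroupComap V
  have hfN : Function.Surjective fN := f.subgroupComap_surjective_of_surjective V hf
  obtain ⟨S⟩ : Nonempty (Sylow p ↥N) := inferInstance
  have hSV : ((S : Subgroup ↥N).map fN) = ⊤ := by
    obtain ⟨T, hT⟩ : ∃ T : Sylow p ↥V, (T : Subgroup ↥V) = (S : Subgroup ↥N).map fN :=
      ⟨S.mapSurjective hfN, rfl⟩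
    rw [← hT]
    exact T.3 (Q := ⊤) (hV.of_equiv Subgroup.topEquiv.symm) le_top |>.symm
  have ht : ∀ (i j : Fin 3) (h : i ≠ j), i ≠ 2 → Lib.QdFree.Basic.tr3 (p := p) i j h ∈ Cfsg.qd p := by
    intro i j h hi
    refine Subgroup.subset_closure ⟨?_, ?_, ?_⟩ <;>
      simp [Lib.QdFree.Basic.tr3, Matrix.transvection, hi]
  let t02 : ↥(Cfsg.qd p) := ⟨_, ht 0 2 (by decide) (by decide)⟩
  let t01 : ↥(Cfsg.qd p) := ⟨_, ht 0 1 (by decide) (by decide)⟩
  let t10 : ↥(Cfsg.qd p) := ⟨_, ht 1 0 (by decide) (by decide)⟩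
  let S' : Subgroup (SU 3 K (p ^ n)) := (((S : Subgroup ↥N).map N.subtype).map H.subtype)
  have hS' : IsPGroup p ↥S' := (S.isPGroup'.map _).map _
  have hS'ne : S' ≠ ⊥ := by
    intro h
    have h02 : t02 ∈ V := by
      show blk p t02 = 1
      ext i j
      fin_cases i <;> fin_cases j <;>
        simp [blk, t02, Lib.QdFree.Basic.tr3, Matrix.transvection, Matrix.single, Matrix.one_fin_two]
    obtain ⟨s, hs, hst⟩ : (⟨t02, h02⟩ : ↥V) ∈ (S : Subgroup ↥N).map fN := by rw [hSV]; trivial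
    have hs1 : (((s : ↥N) : ↥H) : SU 3 K (p ^ n)) ∈ S' := ⟨_, ⟨s, hs, rfl⟩, rfl⟩
    rw [h, Subgroup.mem_bot] at hs1
    have : s = 1 := Subtype.ext (Subtype.ext hs1)
    rw [this, map_one] at hst
    have := congrArg (fun x : ↥V => ((x.1.1 : Matrix.SpecialLinearGroup (Fin 3) (ZMod p)) : Matrix (Fin 3) (Fin 3) (ZMod p)) 0 2) hst
    simp [t02, Lib.QdFree.Basic.tr3, Matrix.transvection, Matrix.single] at this
  have lift : ∀ t : ↥(Cfsg.qd p), blk p t ^ p = 1 → ∃ (g : ↥H) (a : ℕ), (g : SU 3 K (p ^ n)) ^ p ^ a = 1 ∧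
      (g : SU 3 K (p ^ n)) ∈ Subgroup.normalizer (S' : Set (SU 3 K (p ^ n))) ∧ blk p (f g) = blk p t := by
    intro t htp
    obtain ⟨h0, rfl⟩ := hf t
    have htop := Sylow.normalizer_sup_eq_top (N := N) S
    obtain ⟨g, hg, v, hv, rfl⟩ :
        ∃ g ∈ Subgroup.normalizer (((S : Subgroup ↥N).map N.subtype : Subgroup ↥H) : Set ↥H), ∃ v ∈ N, g * v = h0 := by
      have : h0 ∈ ((Subgroup.normalizer (((S : Subgroup ↥N).map N.subtype : Subgroup ↥H) : Set ↥H) ⊔ N : Subgroup ↥H) : Set ↥H) := by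
        rw [htop]; trivial
      rw [Subgroup.mul_normal] at this
      exact Set.mem_mul.mp this
    have hbg : blk p (f (g * v)) = ((blk p).comp f) g := by
      rw [map_mul, map_mul, show blk p (f v) = 1 from hv, mul_one]; rfl
    rw [hbg] at htp
    obtain ⟨e, a, h1, h2⟩ := exists_pPart ((blk p).comp f) g htp
    refine ⟨g ^ e, a, ?_, ?_, h2.trans hbg.symm⟩
    · rw [← Subgroup.coe_pow, h1, Subgroup.coe_one]
    · exact Subgroup.le_normalizer_map H.subtype ⟨g ^ e, pow_mem hg e, rfl⟩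
  have hb : ∀ t : ↥(Cfsg.qd p), t = t01 ∨ t = t10 → blk p t ^ p = 1 := by
    intro t ht'
    rw [← sub_eq_zero]
    have h4 := sub_pow_char_of_commute (R := Matrix (Fin 2) (Fin 2) (ZMod p)) p (Commute.one_right (blk p t))
    rw [one_pow] at h4
    rw [← h4]
    refine pow_eq_zero_of_le (Fact.out : p.Prime).two_le ?_
    rcases ht' with rfl | rfl <;> ext i j <;> fin_cases i <;> fin_cases j <;>
      simp [blk, t01, t10, Lib.QdFree.Basic.tr3, Matrix.transvection, Matrix.single, pow_two,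
        Matrix.mul_apply, Fin.sum_univ_two]
  obtain ⟨x, a, hxa, hx, hxb⟩ := lift t01 (hb _ (Or.inl rfl))
  obtain ⟨y, b, hyb, hy, hyb'⟩ := lift t10 (hb _ (Or.inr rfl))
  obtain ⟨k, hk⟩ := Lib.QdFree.Unitary.isPElement_mul hK S' hS' hS'ne hx hy hxa hyb
  have hk' : (x * y) ^ p ^ k = 1 := Subtype.ext hk
  have h5 := congrArg (fun z => blk p (f z)) hk'
  simp only [map_pow, map_mul, map_one, hxb, hyb'] at h5
  have hnil : IsNilpotent (blk p t01 * blk p t10 - 1) :=
    ⟨p ^ k, by rw [sub_pow_char_pow_of_commute p k (Commute.one_right _), h5, one_pow, sub_self]⟩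
  have := (Matrix.isNilpotent_trace_of_isNilpotent hnil).eq_zero
  simp [blk, t01, t10, Lib.QdFree.Basic.tr3, Matrix.transvection, Matrix.single,
    Matrix.trace_fin_two] at this
  exact one_ne_zero (by linear_combination this : (1 : ZMod p) = 0)


end Cfsg.Agent.S2232
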