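import Cfsg.Statements.S2238
import Cfsg.Agent.Lib.SzTori.Count

set_option autoImplicit false
open Cfsg Cfsg.Agent.Lib.SzTori Cfsg.Agent.Lib.LieTwisted.Suzuki

namespace Cfsg.Agent.S2238

theorem eq_of_dvd {F : Type*} [Field F] [Fintype F] {m : ℕ} (h : IsSzField F m) (hm : 1 ≤ m) {k k' : ℕ}
    (hk : k ∈ ({2 ^ (2 * m + 1) - 1, 2 ^ (2 * m + 1) + 2 ^ (m + 1) + 1,
      2 ^ (2 * m + 1) - 2 ^ (m + 1) + 1} : Set ℕ))
    (hk' : k' ∈ ({2 ^ (2 * m + 1) - 1, 2 ^ (2 * m + 1) + 2 ^ (m + 1) + 1,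
      2 ^ (2 * m + 1) - 2 ^ (m + 1) + 1} : Set ℕ)) (hd : k ∣ k') : k = k' := by
  obtain ⟨-, hex⟩ := torus_orders h hm
  set q := 2 ^ (2 * m + 1) with hq
  set r := 2 ^ (m + 1) with hr
  have hrq : r ≤ q := Nat.pow_le_pow_right (by norm_num) (by omega)
  obtain ⟨gA, hgA, hA⟩ := hex (q + r + 1) (Or.inl rfl)
  obtain ⟨gB, hgB, hB⟩ := hex (q - r + 1) (Or.inr rfl)
  have dA : q + r + 1 ∣ q ^ 2 + 1 := by rw [← hA, hq, ← h.card]; exact torus_card_dvd h hm hgA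
  have dB : q - r + 1 ∣ q ^ 2 + 1 := by rw [← hB, hq, ← h.card]; exact torus_card_dvd h hm hgB
  have A5 : 5 ≤ q + r + 1 := hA ▸ five_le h hm hgA
  have B5 : 5 ≤ q - r + 1 := hB ▸ five_le h hm hgB
  have hq1 : (q ^ 2 + 1).Coprime (q - 1) := by
    have := (coprime_card h hm).coprime_mul_left_right
    rwa [h.card, ← hq] at this
  have hq7 : 2 < q - 1 := by
    have : 2 ^ 3 ≤ q := Nat.pow_le_pow_right (by norm_num) (by omega)
    omega
  have hcross : ∀ x, x ∣ q ^ 2 + 1 → 2 ≤ x → ¬ x ∣ q - 1 ∧ ¬ q - 1 ∣ x := by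
    intro x hx h2
    refine ⟨fun hd' => ?_, fun hd' => ?_⟩
    · have := Nat.eq_one_of_dvd_coprimes hq1 hx hd'; omega
    · have := Nat.eq_one_of_dvd_coprimes hq1 (hd'.trans hx) dvd_rfl; omega
  simp only [Set.mem_insert_iff, Set.mem_singleton_iff] at hk hk'
  rcases hk with rfl | rfl | rfl <;> rcases hk' with rfl | rfl | rfl
  · rfl
  · exact absurd hd (hcross _ dA (by omega)).2
  · exact absurd hd (hcross _ dB (by omega)).2
  · exact absurd hd (hcross _ dA (by omega)).1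
  · rfl
  · have := Nat.le_of_dvd (by omega) hd
    have hr0 : 0 < r := pow_pos (by norm_num) _
    omega
  · exact absurd hd (hcross _ dB (by omega)).1
  · exfalso
    have h2r : q - r + 1 ∣ 2 ^ (m + 2) := by
      have := Nat.dvd_sub hd (dvd_refl (q - r + 1))
      rwa [show q + r + 1 - (q - r + 1) = 2 * r by omega, hr, ← pow_succ'] at this
    obtain ⟨i, -, hi⟩ := (Nat.dvd_prime_pow Nat.prime_two).1 h2r
    have e1 : q = 2 * 2 ^ (2 * m) := by rw [hq, pow_succ']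
    have e2 : r = 2 * 2 ^ m := by rw [hr, pow_succ']
    rcases Nat.eq_zero_or_pos i with rfl | hi0
    · rw [pow_zero] at hi; omega
    · obtain ⟨j, rfl⟩ : ∃ j, i = j + 1 := ⟨i - 1, by omega⟩
      rw [pow_succ] at hi; omega
  · rfl

/-- The partition of the Suzuki group: with q = 2^(2m+1), m ≥ 1, r = 2^m and the Suzuki group realised as the stabiliser in SL₄ of the Suzuki–Tits ovoid, every non-identity element lies in exactly one subgroup that is either a Sylow 2-subgroup or a cyclic subgroup of order q − 1, q + 2r + 1 or q − 2r + 1. -/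
theorem result {F : Type*} [Field F] [Fintype F] {m : ℕ} (hm : 1 ≤ m) (hF : Fintype.card F = 2 ^ (2 * m + 1)) (g : ↥(Cfsg.Sz F m)) (hg : g ≠ 1) :
    ∃! U : Subgroup ↥(Cfsg.Sz F m), ((∃ P : Sylow 2 ↥(Cfsg.Sz F m), U = (P : Subgroup ↥(Cfsg.Sz F m))) ∨
      (IsCyclic ↥U ∧ Nat.card ↥U ∈ ({2 ^ (2 * m + 1) - 1, 2 ^ (2 * m + 1) + 2 ^ (m + 1) + 1, 2 ^ (2 * m + 1) - 2 ^ (m + 1) + 1} : Set ℕ))) ∧ g ∈ U := by
  have h : IsSzField F m := ⟨hF⟩
  haveI : Fact (Nat.Prime 2) := ⟨Nat.prime_two⟩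
  obtain ⟨hord, -⟩ := torus_orders h hm
  -- elements of the cyclic candidates are not 2-elements
  have hodd : ∀ U : Subgroup (Cfsg.Sz F m), Nat.card U ∈ ({2 ^ (2 * m + 1) - 1,
      2 ^ (2 * m + 1) + 2 ^ (m + 1) + 1, 2 ^ (2 * m + 1) - 2 ^ (m + 1) + 1} : Set ℕ) →
      g ∈ U → g ^ 4 ≠ 1 := by
    intro U hU hgU h4
    have hk : g ^ Nat.card U = 1 := congrArg Subtype.val (pow_card_eq_one' (x := (⟨g, hgU⟩ : U)))
    have ho : Nat.card U % 2 = 1 := by
      have e1 : 2 ^ (2 * m + 1) = 2 * 2 ^ (2 * m) := by rw [pow_succ']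
      have e2 : 2 ^ (m + 1) = 2 * 2 ^ m := by rw [pow_succ']
      have e3 : 2 ^ (m + 1) ≤ 2 ^ (2 * m + 1) := Nat.pow_le_pow_right (by norm_num) (by omega)
      have e4 : 0 < 2 ^ (2 * m) := pow_pos (by norm_num) _
      simp only [Set.mem_insert_iff, Set.mem_singleton_iff] at hU
      omega
    have h2 : g ^ Nat.gcd (Nat.card U) 4 = 1 := pow_gcd_eq_one.2 ⟨hk, h4⟩
    have hco : Nat.gcd (Nat.card U) (2 ^ 2) = 1 :=
      Nat.Coprime.pow_right 2 ((Nat.prime_two.coprime_iff_not_dvd.2 (by omega)).symm)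
    rw [show Nat.gcd (Nat.card U) 4 = 1 from hco, pow_one] at h2
    exact hg h2
  by_cases h4 : g ^ 4 = 1
  · have hp : IsPGroup 2 (Subgroup.zpowers g) := by
      rintro ⟨y, hy⟩
      obtain ⟨i, rfl⟩ := Subgroup.mem_zpowers_iff.1 hy
      refine ⟨2, Subtype.ext ?_⟩
      show (g ^ i) ^ (2 ^ 2) = 1
      rw [← zpow_natCast (g ^ i), ← zpow_mul, mul_comm, zpow_mul, zpow_natCast]
      norm_num [h4]
    obtain ⟨P, hP⟩ := hp.exists_le_sylow
    have hgP : g ∈ (P : Subgroup (Cfsg.Sz F m)) := hP (Subgroup.mem_zpowers g)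
    refine ⟨P, ⟨Or.inl ⟨P, rfl⟩, hgP⟩, ?_⟩
    rintro U ⟨⟨Q, rfl⟩ | ⟨-, hU⟩, hgU⟩
    · obtain ⟨x, hx⟩ := h.conj_sylow hm P
      obtain ⟨y, hy⟩ := h.conj_sylow hm Q
      rw [hx] at hgP ⊢
      rw [hy] at hgU ⊢
      obtain ⟨u, hu, rfl⟩ := hgP
      obtain ⟨v, hv, hvu⟩ := hgU
      have hu1 : u ≠ 1 := fun z => hg (by rw [z]; exact map_one (MulAut.conj x).toMonoidHom)
      simp only [MulEquiv.coe_toMonoidHom, MulAut.conj_apply] at hvu
      have hmem : y⁻¹ * x * u * (y⁻¹ * x)⁻¹ ∈ unip h := by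
        rw [show y⁻¹ * x * u * (y⁻¹ * x)⁻¹ = y⁻¹ * (x * u * x⁻¹) * y by group, ← hvu]
        simpa [mul_assoc] using hv
      have hN := ti_unip h hm _ u hu hu1 hmem
      ext w
      simp only [Subgroup.mem_map_equiv, MulAut.conj_symm_apply]
      have := Subgroup.mem_normalizer_iff.1 hN (x⁻¹ * w * x)
      rw [this, show y⁻¹ * x * (x⁻¹ * w * x) * (y⁻¹ * x)⁻¹ = y⁻¹ * w * y by group]
    · exact absurd h4 (hodd U hU hgU)
  · have hC : Nat.card (cen g) ∈ ({2 ^ (2 * m + 1) - 1,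
        2 ^ (2 * m + 1) + 2 ^ (m + 1) + 1, 2 ^ (2 * m + 1) - 2 ^ (m + 1) + 1} : Set ℕ) := by
      by_cases hf : HasFix g
      · obtain ⟨x, hx⟩ := fix_cases h hm hf
        rcases hx with hx | ⟨e, he, hx⟩
        · refine absurd ?_ h4
          have := congrArg (fun w => x * w * x⁻¹) (pow_four_of_mem h hm hx)
          rw [← conj_pow] at this
          simpa [mul_assoc] using this
        · refine Or.inl ?_
          have hg' : g = x * dS h e * x⁻¹ := by rw [← hx]; group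
          rw [cen, hg', centralizer_conj, centralizer_dS h hm he,
            Subgroup.card_map_of_injective (MulAut.conj x).injective, card_range_dS h hm, hF]
      · exact Or.inr (hord g (inE_of_not_fix h hm hf))
    have hgC : g ∈ cen g := mem_centralizer_iff'.2 rfl
    refine ⟨cen g, ⟨Or.inr ⟨centralizer_cyclic h hm h4, hC⟩, hgC⟩, ?_⟩
    rintro U ⟨⟨Q, rfl⟩ | ⟨hcyc, hU⟩, hgU⟩
    · exfalso
      obtain ⟨y, hy⟩ := h.conj_sylow hm Q
      rw [hy] at hgU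
      obtain ⟨v, hv, rfl⟩ := hgU
      exact h4 (by rw [← map_pow, pow_four_of_mem h hm hv, map_one])
    · have hle : U ≤ cen g := fun w hw => mem_centralizer_iff'.2 (comm_of_cyclic hcyc hgU hw)
      have hdvd := Subgroup.card_dvd_of_le hle
      refine Subgroup.eq_of_le_of_card_ge hle (le_of_eq ?_)
      exact (eq_of_dvd h hm hU hC hdvd).symm

end Cfsg.Agent.S2238
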