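import Cfsg.Statements.S2239
import Cfsg.Agent.Lib.SzSubfield.Basic

set_option autoImplicit false
open Cfsg

namespace Cfsg.Agent.S2239

/-- Subfield subgroups of the Suzuki group: let q = 2^(2m+1) and s = 2^(2k+1) with m, k ≥ 1 and 2k+1 dividing 2m+1 (so q is a power of s), both groups realised as stabilisers in SL₄ of the Suzuki–Tits ovoid. Then Sz(q) has a subgroup isomorphic to Sz(s), and any two subgroups of Sz(q) isomorphic to Sz(s) are conjugate. -/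
theorem result {F : Type*} [Field F] [Fintype F] {m : ℕ} (hm : 1 ≤ m) (hF : Fintype.card F = 2 ^ (2 * m + 1)) {K : Type*} [Field K] [Fintype K] {k : ℕ} (hk : 1 ≤ k) (hK : Fintype.card K = 2 ^ (2 * k + 1)) (hdiv : 2 * k + 1 ∣ 2 * m + 1) :
    (∃ S : Subgroup ↥(Cfsg.Sz F m), Nonempty (↥S ≃* ↥(Cfsg.Sz K k))) ∧
    ∀ S₁ S₂ : Subgroup ↥(Cfsg.Sz F m), Nonempty (↥S₁ ≃* ↥(Cfsg.Sz K k)) → Nonempty (↥S₂ ≃* ↥(Cfsg.Sz K k)) →
      ∃ g : ↥(Cfsg.Sz F m), S₂ = S₁.map (MulAut.conj g).toMonoidHom := by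
  have hF' : Cfsg.Agent.Lib.LieTwisted.Suzuki.IsSzField F m := ⟨hF⟩
  have hK' : Cfsg.Agent.Lib.LieTwisted.Suzuki.IsSzField K k := ⟨hK⟩
  haveI : CharP F 2 := hF'.charTwo
  haveI : CharP K 2 := hK'.charTwo
  letI : Algebra (ZMod 2) F := ZMod.algebra F 2
  letI : Algebra (ZMod 2) K := ZMod.algebra K 2
  haveI : Fact (Nat.Prime 2) := ⟨Nat.prime_two⟩
  have dK : Module.finrank (ZMod 2) K = 2 * k + 1 :=
    Nat.pow_right_injective le_rfl ((FiniteField.pow_finrank_eq_card 2 K).trans hK)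
  have dF : Module.finrank (ZMod 2) F = 2 * m + 1 :=
    Nat.pow_right_injective le_rfl ((FiniteField.pow_finrank_eq_card 2 F).trans hF)
  obtain ⟨σ⟩ := FiniteField.nonempty_algHom_of_finrank_dvd (F := ZMod 2) (K := K) (L := F)
    (by rw [dK, dF]; exact hdiv)
  have hsg : ∀ x : K, σ.toRingHom (Cfsg.Agent.Lib.LieTwisted.Suzuki.sg k x) =
      Cfsg.Agent.Lib.LieTwisted.Suzuki.sg m (σ.toRingHom x) := by
    intro x
    obtain ⟨d, hd⟩ := hdiv
    have hodd : Odd d := Nat.Odd.of_mul_right (hd ▸ odd_two_mul_add_one m)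
    obtain ⟨j, rfl⟩ := hodd
    have hm' : m + 1 = (2 * k + 1) * j + (k + 1) := by nlinarith
    show σ.toRingHom (x ^ 2 ^ (k + 1)) = σ.toRingHom x ^ 2 ^ (m + 1)
    rw [← map_pow, hm', pow_add 2 ((2 * k + 1) * j), pow_mul x, pow_mul 2 (2 * k + 1) j, ← hK, FiniteField.pow_card_pow]
  let ψ := Cfsg.Agent.Lib.SzSubfield.Basic.emb hF' hK' hm hk σ.toRingHom hsg
  have hψ : Function.Injective ψ :=
    Cfsg.Agent.Lib.SzSubfield.Basic.emb_injective hF' hK' hm hk σ.toRingHom hsg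
  refine ⟨⟨ψ.range, ⟨(MonoidHom.ofInjective hψ).symm⟩⟩, ?_⟩
  intro S₁ S₂ ⟨e₁⟩ ⟨e₂⟩
  have h1 := Cfsg.Agent.Lib.SzSubfield.Basic.exists_conj hF' hK' hm hk σ.toRingHom hsg
    (φ := S₁.subtype.comp e₁.symm.toMonoidHom) (S₁.subtype_injective.comp e₁.symm.injective)
  have h2 := Cfsg.Agent.Lib.SzSubfield.Basic.exists_conj hF' hK' hm hk σ.toRingHom hsg
    (φ := S₂.subtype.comp e₂.symm.toMonoidHom) (S₂.subtype_injective.comp e₂.symm.injective)
  have r1 : (S₁.subtype.comp e₁.symm.toMonoidHom).range = S₁ := by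
    rw [MonoidHom.range_comp, MonoidHom.range_eq_top.2 e₁.symm.surjective, ← MonoidHom.range_eq_map,
      Subgroup.range_subtype]
  have r2 : (S₂.subtype.comp e₂.symm.toMonoidHom).range = S₂ := by
    rw [MonoidHom.range_comp, MonoidHom.range_eq_top.2 e₂.symm.surjective, ← MonoidHom.range_eq_map,
      Subgroup.range_subtype]
  rw [r1] at h1
  rw [r2] at h2
  obtain ⟨g1, hg1⟩ := h1
  obtain ⟨g2, hg2⟩ := h2
  refine ⟨g2⁻¹ * g1, ?_⟩
  have key : S₂ = (S₂.map (MulAut.conj g2).toMonoidHom).map (MulAut.conj g2⁻¹).toMonoidHom := by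
    rw [Subgroup.map_map]
    have hid : (MulAut.conj g2⁻¹).toMonoidHom.comp (MulAut.conj g2).toMonoidHom =
        MonoidHom.id ↥(Cfsg.Sz F m) := by
      refine MonoidHom.ext fun x => ?_
      simp [mul_assoc]
    rw [hid, Subgroup.map_id]
  rw [key, hg2, ← hg1, Subgroup.map_map]
  congr 1
  refine MonoidHom.ext fun x => ?_
  simp [mul_assoc]

end Cfsg.Agent.S2239
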