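import Cfsg.Statements.S2240
import Cfsg.Agent.Lib.SzElements.Basic

set_option autoImplicit false
open Cfsg

namespace Cfsg.Agent.S2240

open Cfsg.Agent.Lib.LieTwisted.Suzuki Cfsg.Agent.Lib.SzElements.Basic

/-- The roots of `x ^ 2 ^ n = x` form a set of size `2 ^ n` when `n` divides the degree. -/
theorem card_roots {F : Type*} [Field F] [Fintype F] {m n : ℕ}
    (hF : Fintype.card F = 2 ^ (2 * m + 1)) (hn : n ∣ 2 * m + 1) :
    Nat.card {b : F // b ^ 2 ^ n = b} = 2 ^ n := by
  classical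
  have h1 : 1 ≤ 2 ^ n := Nat.one_le_two_pow
  have hd : 2 ^ n - 1 ∣ Nat.card Fˣ := by
    rw [Nat.card_units, Nat.card_eq_fintype_card, hF]
    exact Nat.pow_sub_one_dvd_pow_sub_one 2 hn
  have hk : Nat.card (powMonoidHom (2 ^ n - 1) : Fˣ →* Fˣ).ker = 2 ^ n - 1 := by
    rw [IsCyclic.card_powMonoidHom_ker, Nat.gcd_eq_right hd]
  have hmem : ∀ x : Fˣ, x ∈ (powMonoidHom (2 ^ n - 1) : Fˣ →* Fˣ).ker ↔ (x : F) ^ 2 ^ n = x := by
    intro x
    rw [MonoidHom.mem_ker, powMonoidHom_apply, Units.ext_iff, Units.val_pow_eq_pow_val, Units.val_one]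
    constructor
    · intro e
      rw [← Nat.sub_add_cancel h1, pow_succ, e, one_mul]
    · intro e
      rw [← Nat.sub_add_cancel h1, pow_succ] at e
      exact mul_right_cancel₀ x.ne_zero (by rw [e, one_mul])
  let f : Option ↥(powMonoidHom (2 ^ n - 1) : Fˣ →* Fˣ).ker → {b : F // b ^ 2 ^ n = b} := fun o =>
    o.elim ⟨0, zero_pow (by positivity)⟩ fun x => ⟨(x.1 : F), (hmem x.1).mp x.2⟩
  have hf : Function.Bijective f := by
    constructor
    · rintro (_ | x) (_ | y) e
      · rfl
      · exact absurd (congrArg Subtype.val e).symm (y.1.ne_zero)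
      · exact absurd (congrArg Subtype.val e) (x.1.ne_zero)
      · exact congrArg some (Subtype.ext (Units.ext (congrArg Subtype.val e)))
    · rintro ⟨b, hb⟩
      by_cases hb0 : b = 0
      · exact ⟨none, Subtype.ext hb0.symm⟩
      · exact ⟨some ⟨Units.mk0 b hb0, (hmem _).mpr hb⟩, rfl⟩
  rw [← Nat.card_eq_of_bijective f hf, Finite.card_option, hk]
  omega

/-- Elementary abelian TI-subgroups of the Suzuki group: let q = 2^(2m+1) with m ≥ 1, the group realised as the stabiliser in SL₄ of the Suzuki–Tits ovoid, and n ≥ 2. There is an elementary abelian 2-subgroup E of order 2^n that is a TI-subgroup (every conjugate of E meeting E nontrivially is E itself) if and only if n divides 2m + 1. -/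
theorem result {F : Type*} [Field F] [Fintype F] {m : ℕ} (hm : 1 ≤ m) (hF : Fintype.card F = 2 ^ (2 * m + 1)) (n : ℕ) (hn : 2 ≤ n) :
    (∃ E : Subgroup ↥(Cfsg.Sz F m), Cfsg.IsElementaryAbelian 2 E ∧ Nat.card ↥E = 2 ^ n ∧
      ∀ x : ↥(Cfsg.Sz F m), E ⊓ E.map (MulAut.conj x).toMonoidHom ≠ ⊥ → x ∈ Subgroup.normalizer (E : Set ↥(Cfsg.Sz F m))) ↔ n ∣ 2 * m + 1 := by
  have h : IsSzField F m := ⟨hF⟩
  have : CharP F 2 := h.charTwo
  constructor
  · rintro ⟨E, ⟨hcomm, hexp⟩, hcard, hTI⟩
    haveI : Fact (Nat.Prime 2) := ⟨Nat.prime_two⟩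
    obtain ⟨P, hP⟩ := (IsPGroup.of_card hcard).exists_le_sylow
    obtain ⟨x, hx⟩ := h.conj_sylow hm P
    -- the set of centre coordinates of the conjugate of `E` inside `unip`
    let A : AddSubgroup F :=
      { carrier := {b | x * uS h 0 b * x⁻¹ ∈ E}
        zero_mem' := by simp [h.uS_zero, E.one_mem]
        add_mem' := fun {b c} hb hc => by
          have := E.mul_mem hb hc
          rw [show x * uS h 0 b * x⁻¹ * (x * uS h 0 c * x⁻¹) = x * (uS h 0 b * uS h 0 c) * x⁻¹ by group,
            h.uS_mul] at this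
          simpa [sg_zero] using this
        neg_mem' := fun {b} hb => by rwa [h.neg_eq] }
    have hE : ∀ g ∈ E, ∃ b, g = x * uS h 0 b * x⁻¹ := by
      intro g hg
      have hg' := hP hg
      rw [hx] at hg'
      obtain ⟨u, ⟨a, b, rfl⟩, rfl⟩ := hg'
      simp only [MulEquiv.coe_toMonoidHom, MulAut.conj_apply] at hg ⊢
      refine ⟨b, ?_⟩
      have hs := hexp _ hg
      rw [conj_pow] at hs
      rw [eq_zero_of_sq h (a := a) (b := b) (by simpa using hs)]
    have hA : Nat.card A = 2 ^ n := by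
      rw [← hcard]
      refine Nat.card_eq_of_bijective (fun b => (⟨x * uS h 0 b.1 * x⁻¹, b.2⟩ : ↥E)) ⟨?_, ?_⟩
      · intro b c e
        exact Subtype.ext (h.uS_coords_inj (mul_left_cancel (mul_right_cancel (congrArg Subtype.val e)))).2
      · rintro ⟨g, hg⟩
        obtain ⟨b, rfl⟩ := hE g hg
        exact ⟨⟨b, hg⟩, rfl⟩
    -- scaling by a ratio of two elements preserves `A`
    have hscale : ∀ b ∈ A, b ≠ 0 → ∀ c ∈ A, c ≠ 0 → ∀ d ∈ A, c / b * d ∈ A := by
      intro b hb hb0 c hc hc0 d hd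
      obtain ⟨e, he⟩ := scalar_surjective h (div_ne_zero hc0 hb0)
      set k := x * dS h e * x⁻¹ with hk
      have hconj : ∀ t, k * (x * uS h 0 t * x⁻¹) * k⁻¹ = x * uS h 0 (c / b * t) * x⁻¹ := by
        intro t
        have := conj_center h 0 0 e t
        rw [h.uS_zero, one_mul, he] at this
        rw [← this, hk]
        group
      have hkN : k ∈ Subgroup.normalizer (E : Set ↥(Cfsg.Sz F m)) := by
        refine hTI k ?_
        intro hbot
        have hmem : x * uS h 0 c * x⁻¹ ∈ E ⊓ E.map (MulAut.conj k).toMonoidHom := by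
          refine ⟨hc, ⟨_, hb, ?_⟩⟩
          rw [MulEquiv.coe_toMonoidHom, MulAut.conj_apply, hconj, div_mul_cancel₀ c hb0]
        rw [hbot, Subgroup.mem_bot, mul_inv_eq_one, mul_eq_left, ← h.uS_zero] at hmem
        exact hc0 (h.uS_coords_inj hmem).2
      show x * uS h 0 (c / b * d) * x⁻¹ ∈ E
      rw [← hconj]
      exact (Subgroup.mem_normalizer_iff.mp hkN _).mp hd
    obtain ⟨b, hb, hb0⟩ : ∃ b ∈ A, b ≠ 0 := by
      by_contra hcon
      push Not at hcon
      have : A = ⊥ := AddSubgroup.eq_bot_iff_forall _ |>.mpr hcon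
      rw [this, AddSubgroup.card_bot] at hA
      have : 2 ^ 2 ≤ 2 ^ n := Nat.pow_le_pow_right (by norm_num) hn
      omega
    have hmul : ∀ y z, b * y ∈ A → b * z ∈ A → b * (y * z) ∈ A := by
      intro y z hy hz
      by_cases hy0 : y = 0
      · simp [hy0, A.zero_mem]
      · have := hscale b hb hb0 _ hy (mul_ne_zero hb0 hy0) _ hz
        rwa [show b * y / b * (b * z) = b * (y * z) by field_simp] at this
    let R : Subring F :=
      { carrier := {y | b * y ∈ A}
        zero_mem' := by simp [A.zero_mem]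
        one_mem' := by simpa using hb
        add_mem' := fun {y z} hy hz => by
          show b * (y + z) ∈ A
          rw [mul_add]; exact A.add_mem hy hz
        neg_mem' := fun {y} hy => by
          show b * (-y) ∈ A
          rw [mul_neg]; exact A.neg_mem hy
        mul_mem' := fun {y z} hy hz => hmul y z hy hz }
    have hR : Nat.card R = 2 ^ n := by
      rw [← hA]
      refine Nat.card_eq_of_bijective (fun y => (⟨b * y.1, y.2⟩ : A)) ⟨?_, ?_⟩
      · intro y z e
        exact Subtype.ext (mul_left_cancel₀ hb0 (congrArg Subtype.val e))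
      · rintro ⟨a, ha⟩
        refine ⟨⟨a / b, ?_⟩, Subtype.ext (mul_div_cancel₀ a hb0)⟩
        show b * (a / b) ∈ A
        rw [mul_div_cancel₀ a hb0]; exact ha
    let K : Subfield F :=
      { R with
        inv_mem' := fun y hy => by
          by_cases hy0 : y = 0
          · rw [hy0, inv_zero]; exact R.zero_mem
          · have h1 : y ^ (Fintype.card F - 1) = 1 := FiniteField.pow_card_sub_one_eq_one y hy0
            have h2 : y⁻¹ = y ^ (Fintype.card F - 1 - 1) := by
              refine inv_eq_of_mul_eq_one_right ?_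
              rw [← pow_succ', Nat.sub_add_cancel ?_, h1]
              have := h.two_lt_card hm
              omega
            rw [h2]
            exact pow_mem (show y ∈ R from hy) _ }
    have hK : Nat.card K = 2 ^ n := hR
    letI : Fintype K := Fintype.ofFinite K
    have hmod := Module.card_eq_pow_finrank (K := K) (V := F)
    rw [hF, ← Nat.card_eq_fintype_card, hK, ← pow_mul] at hmod
    exact Dvd.intro _ (Nat.pow_right_injective le_rfl hmod).symm
  · intro hdiv
    let E : Subgroup ↥(Cfsg.Sz F m) :=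
      { carrier := {g | ∃ b : F, b ^ 2 ^ n = b ∧ g = uS h 0 b}
        one_mem' := ⟨0, zero_pow (by positivity), h.uS_zero.symm⟩
        mul_mem' := by
          rintro _ _ ⟨b, hb, rfl⟩ ⟨c, hc, rfl⟩
          exact ⟨b + c, by rw [add_pow_char_pow, hb, hc], by rw [h.uS_mul]; simp [sg_zero]⟩
        inv_mem' := by
          rintro _ ⟨b, hb, rfl⟩
          exact ⟨b, hb, by rw [h.uS_inv]; simp [sg_zero]⟩ }
    refine ⟨E, ⟨?_, ?_⟩, ?_, ?_⟩
    · refine ⟨⟨?_⟩⟩
      rintro ⟨_, b, hb, rfl⟩ ⟨_, c, hc, rfl⟩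
      exact Subtype.ext (h.uS_center_comm b 0 c)
    · rintro _ ⟨b, hb, rfl⟩
      rw [h.uS_sq]; simp [sg_zero, h.uS_zero]
    · rw [← card_roots hF hdiv]
      symm
      refine Nat.card_eq_of_bijective (fun b => (⟨uS h 0 b.1, b.1, b.2, rfl⟩ : ↥E)) ⟨?_, ?_⟩
      · intro b c e
        exact Subtype.ext (h.uS_coords_inj (congrArg Subtype.val e)).2
      · rintro ⟨_, b, hb, rfl⟩
        exact ⟨⟨b, hb⟩, rfl⟩
    · intro x hx
      obtain ⟨⟨g, ⟨c, hc, rfl⟩, _, ⟨b, hb, rfl⟩, hg⟩, hne⟩ :=
        Subgroup.ne_bot_iff_exists_ne_one.mp hx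
      simp only [MulEquiv.coe_toMonoidHom, MulAut.conj_apply] at hg
      have hc0 : c ≠ 0 := fun e => hne (Subtype.ext (by
        show uS h 0 c = 1
        rw [e, h.uS_zero]))
      have hb0 : b ≠ 0 := fun e => hc0 (by
        rw [e, h.uS_zero, mul_one, mul_inv_cancel, ← h.uS_zero] at hg
        exact (h.uS_coords_inj hg).2.symm)
      obtain ⟨r, s, e, rfl⟩ := borel_of_conj h hm (fun z => hb0 z.2) (fun z => hc0 z.2) hg
      rw [conj_center] at hg
      have hl : sg m (e : F) * (e : F) ^ 2 * b = c := (h.uS_coords_inj hg).2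
      have hl0 : sg m (e : F) * (e : F) ^ 2 ≠ 0 := fun z => hc0 (by rw [← hl, z, zero_mul])
      have hlK : (sg m (e : F) * (e : F) ^ 2) ^ 2 ^ n = sg m (e : F) * (e : F) ^ 2 := by
        refine mul_right_cancel₀ hb0 ?_
        conv_lhs => rw [← hb]
        rw [← mul_pow, hl, hc]
      have hfin : ∀ g ∈ E, uS h r s * dS h e * g * (uS h r s * dS h e)⁻¹ ∈ E := by
        rintro _ ⟨d, hd, rfl⟩
        exact ⟨_, by rw [mul_pow, hlK, hd], conj_center h r s e d⟩
      rw [Subgroup.mem_normalizer_iff]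
      refine fun g => ⟨hfin g, fun hg' => ?_⟩
      obtain ⟨d, hd, hgd⟩ := hg'
      refine ⟨(sg m (e : F) * (e : F) ^ 2)⁻¹ * d, by rw [mul_pow, inv_pow, hlK, hd], ?_⟩
      refine mul_left_cancel (a := uS h r s * dS h e) (mul_right_cancel (b := (uS h r s * dS h e)⁻¹) ?_)
      rw [hgd, conj_center, ← mul_assoc, mul_inv_cancel₀ hl0, one_mul]

end Cfsg.Agent.S2240
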