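import Cfsg.Statements.S2241
import Cfsg.Agent.Lib.LieTwisted.SuzukiSylow

set_option autoImplicit false
open Cfsg

namespace Cfsg.Agent.S2241

open Cfsg.Agent Cfsg.Agent.Lib.LieTwisted.Suzuki
open scoped Matrix

/-- Real 2-elements of the Suzuki group: with q = 2^(2m+1), m ≥ 1, and the group realised as the stabiliser in SL₄ of the Suzuki–Tits ovoid, a non-identity element of a Sylow 2-subgroup is conjugate to its inverse if and only if it is an involution; in particular no element of order 4 is conjugate to its inverse. -/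
theorem result {F : Type*} [Field F] [Fintype F] {m : ℕ} (hm : 1 ≤ m) (hF : Fintype.card F = 2 ^ (2 * m + 1)) (P : Sylow 2 ↥(Cfsg.Sz F m)) (g : ↥(Cfsg.Sz F m)) (hg : g ∈ (P : Subgroup ↥(Cfsg.Sz F m))) (h1 : g ≠ 1) :
    IsConj g g⁻¹ ↔ orderOf g = 2 := by
  have h : Lib.LieTwisted.Suzuki.IsSzField F m := ⟨hF⟩
  obtain ⟨x, hx⟩ := h.conj_sylow hm P
  rw [hx] at hg
  obtain ⟨u, ⟨a, b, rfl⟩, rfl⟩ := hg
  rw [MulEquiv.toMonoidHom_eq_coe, MonoidHom.coe_coe] at *
  rw [MulEquiv.orderOf_eq, ← map_inv]
  have hu1 : uS h a b ≠ 1 := fun he => h1 (by rw [he, map_one])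
  constructor
  · intro hc
    have hc' : IsConj (uS h a b) (uS h a b)⁻¹ := by
      have h3 := (MulAut.conj x).symm.toMonoidHom.map_isConj hc
      simpa only [MulEquiv.toMonoidHom_eq_coe, MonoidHom.coe_coe, MulEquiv.symm_apply_apply] using h3
    obtain ⟨y, hy⟩ := isConj_iff.1 hc'
    have ha : a = 0 := by
      by_contra ha
      obtain ⟨p, hp⟩ := h.exists_opt_eq_smul hm y
      have hfix : (uS h a b)⁻¹ • opt m p = opt m p := by
        rw [← hy, ← hp, ← mul_smul, inv_mul_cancel_right, mul_smul, h.uS_smul_none]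
      rw [h.uS_inv] at hfix
      rcases p with _ | ⟨p, q⟩
      · obtain ⟨c, d, e, rfl⟩ := h.eq_of_fix_none hm hp
        rw [mul_assoc (uS h c d), h.dS_mul_uS, mul_inv_eq_iff_eq_mul, ← mul_assoc, h.uS_inv, ← mul_assoc] at hy
        simp only [h.uS_mul] at hy
        obtain ⟨e1, e2, -⟩ := h.borel_coords_inj hy
        have he : sg m (e : F) = 1 := by
          apply mul_right_cancel₀ ha
          linear_combination e1
        have he1 : (e : F) = 1 := h.sg_injective (he.trans sg_one.symm)
        rw [he, he1] at e2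
        simp only [one_mul, one_pow, mul_one] at e2
        set t := c / a
        have hc : c = a * t := (mul_div_cancel₀ c ha).symm
        rw [hc, sg_mul] at e2
        have ht : t + sg m t = 1 := by
          apply mul_left_cancel₀ (mul_ne_zero (mt sg_eq_zero.1 ha) ha : sg m a * a ≠ 0)
          linear_combination e2 + (sg m a * a * t) * h.two0
        have ht2 := congrArg (sg m) ht
        rw [h.sg_add, h.sg_sg, sg_one] at ht2
        have ht3 : t * (t - 1) = 0 := by linear_combination ht2 - ht
        rcases mul_eq_zero.1 ht3 with ht4 | ht4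
        · rw [ht4] at ht; simp [sg_zero] at ht
        · rw [sub_eq_zero.1 ht4, sg_one, h.add_self] at ht
          exact zero_ne_one ht
      · rw [h.uS_smul_some] at hfix
        obtain ⟨e1, -⟩ := Prod.ext_iff.1 (Option.some.inj (opt_injective hfix))
        exact ha (by linear_combination e1)
    subst ha
    haveI : Fact (Nat.Prime 2) := ⟨Nat.prime_two⟩
    refine orderOf_eq_prime ?_ hu1
    rw [h.uS_sq]
    simp [h.uS_zero]
  · intro ho
    have hinv : (uS h a b)⁻¹ = uS h a b := inv_eq_of_mul_eq_one_right (by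
      rw [← pow_two, ← ho, pow_orderOf_eq_one])
    rw [hinv]

end Cfsg.Agent.S2241
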