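import Cfsg.Statements.S2244
import Cfsg.Agent.Lib.WeaklyClosed.Main
import Cfsg.Agent.Lib.WeaklyClosed.Certs
import Cfsg.Agent.Lib.ChevStructure.Instances

set_option autoImplicit false
open Cfsg Cfsg.Lie Cfsg.Agent.Lib.ChevStructure Cfsg.Agent.Lib.WeaklyClosed

namespace Cfsg.Agent.S2244

/-- Weakly closed unipotent subgroups of Chevalley groups: let G be the Chevalley group of type G₂, B₂, D₄, F₄, E₆, E₇ or E₈ over a finite field F (the matrix group generated by the root elements), with |F| ≠ 2, and |F| ≠ 3 as well for the types G₂, B₂, D₄, F₄. Let U be the subgroup generated by the positive root subgroups. If X ≤ U is weakly closed in U with respect to G (every G-conjugate of X lying in U equals X), then X is the unipotent radical U_J of a standard parabolic subgroup for some set J of fundamental roots. -/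
theorem result {F : Type*} [Field F] [Fintype F] (D : Cfsg.Lie.ChevalleyDatum) (hD : D ∈ [Cfsg.Lie.chevG2, Cfsg.Lie.chevB2, Cfsg.Lie.chevD4, Cfsg.Lie.chevF4, Cfsg.Lie.chevE6, Cfsg.Lie.chevE7, Cfsg.Lie.chevE8])
    (h2 : Fintype.card F ≠ 2) (h3 : D ∈ [Cfsg.Lie.chevG2, Cfsg.Lie.chevB2, Cfsg.Lie.chevD4, Cfsg.Lie.chevF4] → Fintype.card F ≠ 3)
    (X : Subgroup (GL D.Idx F)) (hXU : X ≤ D.posUnipotent F)
    (hwc : ∀ g ∈ D.group F, X.map (MulAut.conj g).toMonoidHom ≤ D.posUnipotent F → X.map (MulAut.conj g).toMonoidHom = X) :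
    ∃ J : Set ℕ, (∀ j ∈ J, j < D.rank) ∧ X = D.unipotentRadical F J := by
  classical
  obtain ⟨S⟩ := nonempty_sys D hD
  obtain ⟨C, hC⟩ : ∃ C : Core D, CommOK C := ⟨S.toCore, S.commOK⟩
  rw [C.posUnipotent_eq] at hXU hwc
  have hcard : 3 ≤ Fintype.card F := by
    have := Fintype.one_lt_card (α := F)
    omega
  have houtside : ∀ A : Finset F, A.card < Fintype.card F → ∃ t, t ∉ A := fun A hA => by
    by_contra hc
    push Not at hc
    exact absurd hA (Nat.not_lt.2 (by rw [Finset.eq_univ_iff_forall.2 hc, Finset.card_univ]))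
  obtain ⟨t, ht⟩ := houtside {0, 1} (lt_of_le_of_lt Finset.card_le_two (by omega))
  simp only [Finset.mem_insert, Finset.mem_singleton, not_or] at ht
  have hq2 : ∃ t : F, t ≠ 0 ∧ t ≠ 1 := ⟨t, ht⟩
  have hz1 : ∃ z : Fˣ, z ≠ 1 ∧ (false = true → z ^ (2 : ℤ) ≠ 1) :=
    ⟨Units.mk0 t ht.1, fun h => ht.2 (by simpa using congrArg Units.val h), fun h => absurd h (by decide)⟩
  have four : D ∈ [chevG2, chevB2, chevD4, chevF4] →
      (∃ t s : F, t ≠ 0 ∧ t ≠ 1 ∧ s ≠ 0 ∧ s ≠ 1 ∧ t ≠ s) ∧
      ∃ z : Fˣ, z ≠ 1 ∧ (true = true → z ^ (2 : ℤ) ≠ 1) := by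
    intro hm
    have h4 : 4 ≤ Fintype.card F := by have := h3 hm; omega
    obtain ⟨s, hs⟩ := houtside {0, 1, t} (lt_of_le_of_lt Finset.card_le_three (by omega))
    obtain ⟨z, hz⟩ := houtside {0, 1, -1} (lt_of_le_of_lt Finset.card_le_three (by omega))
    simp only [Finset.mem_insert, Finset.mem_singleton, not_or] at hs hz
    refine ⟨⟨t, s, ht.1, ht.2, hs.1, hs.2.1, Ne.symm hs.2.2⟩, Units.mk0 z hz.1,
      fun h => hz.2.1 (by simpa using congrArg Units.val h), fun _ h => ?_⟩
    have h' : z ^ 2 = 1 := by simpa [zpow_ofNat] using congrArg Units.val h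
    exact ((sq_eq_one_iff.1 h').elim hz.2.1 hz.2.2)
  have hX : Base.WC C X := ⟨hXU, hwc⟩
  refine ⟨Base.JX C X, fun j hj => hj.1, ?_⟩
  rw [C.unipotentRadical_eq]
  simp only [List.mem_cons, List.not_mem_nil, or_false] at hD
  rcases hD with rfl | rfl | rfl | rfl | rfl | rfl | rfl
  · exact Main.eq_radical hC hX _ Certs.rootG2 Certs.sepG2 le_rfl hq2
      (fun _ => (four (by simp)).1) (four (by simp)).2
  · exact Main.eq_radical hC hX _ Certs.rootB2 Certs.sepB2 (by decide) hq2
      (fun h => absurd h (by decide)) (four (by simp)).2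
  · exact Main.eq_radical hC hX _ Certs.rootD4 Certs.sepD4 (by decide) hq2
      (fun h => absurd h (by decide)) (four (by simp)).2
  · exact Main.eq_radical hC hX _ Certs.rootF4 Certs.sepF4 (by decide) hq2
      (fun h => absurd h (by decide)) (four (by simp)).2
  · exact Main.eq_radical hC hX _ Certs.rootE6 Certs.sepE6 (by decide) hq2
      (fun h => absurd h (by decide)) hz1
  · exact Main.eq_radical hC hX _ Certs.rootE7 Certs.sepE7 (by decide) hq2
      (fun h => absurd h (by decide)) hz1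
  · exact Main.eq_radical hC hX _ Certs.rootE8 Certs.sepE8 (by decide) hq2
      (fun h => absurd h (by decide)) hz1

end Cfsg.Agent.S2244
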