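import Cfsg.Statements.S2245
import Cfsg.Agent.Lib.AltSylowMax.PointStab

set_option autoImplicit false
open Cfsg

namespace Cfsg.Agent.S2245

open Equiv Equiv.Perm
open Cfsg.Agent.Lib.SymSylow.Basic Cfsg.Agent.Lib.SymSylow.Alternating Cfsg.Agent.Lib.AltSylowMax

theorem perm_part (n : ℕ) (hn : 5 ≤ n) (h6 : n ≠ 6) (R : Sylow 2 (Perm (Fin n))) :
    (∃! M : Subgroup (Perm (Fin n)), IsCoatom M ∧ (R : Subgroup (Perm (Fin n))) ≤ M) ↔
      ∃ k : ℕ, 2 ≤ k ∧ n = 2 ^ k + 1 := by
  constructor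
  · intro h
    by_contra hno
    have h7 : 7 ≤ n := by
      by_contra h
      exact hno ⟨2, le_rfl, by omega⟩
    have hN : Subgroup.normalizer ((dyadic n : Subgroup _) : Set (Perm (Fin n))) = dyadic n :=
      le_antisymm (fun x hx => mem_dyadic_of_normalizes n x fun σ hσ => by
        have := (Subgroup.mem_normalizer_iff.mp (inv_mem hx) σ).mp hσ
        simpa using this) Subgroup.le_normalizer
    obtain ⟨Q, hQ⟩ := exists_sylow_eq (isPGroup_dyadic n) hN
    rw [unique_sylow_iff R Q, hQ] at h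
    obtain ⟨f, g, hf, hg, ⟨a, b, c, hab, h1, h2⟩, ⟨a', b', c', hab', h1', h2'⟩, hgen, s, t, hst, hs⟩ :=
      exists_generating h7 hno
    refine not_unique_of_sup (H := pres f) (K := pres g)
      (fun e => pres_proper hab h1 h2 (e ▸ Subgroup.mem_top _))
      (fun e => pres_proper hab' h1' h2' (e ▸ Subgroup.mem_top _)) hf hg ?_ h
    refine eq_top_of_alt_le (hgen _ (fun σ hσ _ => Subgroup.mem_sup_left hσ)
      (fun σ hσ _ => Subgroup.mem_sup_right hσ)) hst (Subgroup.mem_sup_left hs)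
  · rintro ⟨k, hk, hn'⟩
    obtain ⟨Q, hQ⟩ := (isPGroup_dyadic n).exists_le_sylow
    rw [unique_sylow_iff R Q]
    let l : Fin n := ⟨2 ^ k, by omega⟩
    let p0 : Fin n := ⟨0, by omega⟩
    let p1 : Fin n := ⟨1, by omega⟩
    let p2 : Fin n := ⟨2, by omega⟩
    have hl0 : p0 ≠ l := by simp [p0, l, Fin.ext_iff]; omega
    refine unique_of_forall (H := MulAction.stabilizer (Perm (Fin n)) l) ?_ ?_ ?_
    · intro e
      obtain ⟨j, hj⟩ := IsPGroup.iff_orderOf.1 Q.2
        (⟨Lib.Alternating.tri p0 p1 p2, e ▸ Subgroup.mem_top _⟩ : (Q : Subgroup (Perm (Fin n))))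
      rw [← Subgroup.orderOf_coe, IsThreeCycle.orderOf (Lib.Alternating.tri_isThreeCycle
        (by simp [p0, p1]) (by simp [p0, p2]) (by simp [p1, p2]))] at hj
      rcases j with _ | j
      · simp at hj
      · rw [pow_succ] at hj; omega
    · intro e
      have : swap p0 l ∈ MulAction.stabilizer (Perm (Fin n)) l := e ▸ Subgroup.mem_top _
      rw [MulAction.mem_stabilizer_iff, Perm.smul_def, swap_apply_right] at this
      exact hl0 this
    · intro M hM hle g hg
      rcases fix_or_alt_le hk hn' M (fun σ hσ _ => hle (hQ hσ)) l rfl with h | h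
      · exact h g hg
      · exact absurd (eq_top_of_alt_le h (a := p0) (b := p1) (by simp [p0, p1])
          (hle (hQ (swap_mem (by simp [p0, p1]))))) hM.1

theorem alt_part (n : ℕ) (hn : 5 ≤ n) (h6 : n ≠ 6) (R : Sylow 2 ↥(alternatingGroup (Fin n))) :
    (∃! M : Subgroup ↥(alternatingGroup (Fin n)), IsCoatom M ∧ (R : Subgroup ↥(alternatingGroup (Fin n))) ≤ M) ↔
      ∃ k : ℕ, 2 ≤ k ∧ n = 2 ^ k + 1 := by
  constructor
  · intro h
    by_contra hno
    have h7 : 7 ≤ n := by
      by_contra h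
      exact hno ⟨2, le_rfl, by omega⟩
    obtain ⟨Q, hQ⟩ := exists_sylow_eq (isPGroup_dyadicAlt n) (dyadicAlt_normalizer (by omega))
    rw [unique_sylow_iff R Q, hQ] at h
    obtain ⟨f, g, hf, hg, ⟨a, b, c, hab, h1, h2⟩, ⟨a', b', c', hab', h1', h2'⟩, hgen, -⟩ :=
      exists_generating h7 hno
    have hproper : ∀ (f : Fin n → ℕ) (a b c : Fin n), a ≠ b → f a = f b → f a ≠ f c →
        (pres f).subgroupOf (alternatingGroup (Fin n)) ≠ ⊤ := by
      intro f a b c hab h1 h2 e
      have hbc : b ≠ c := fun e => h2 (by rw [← e, h1])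
      have hac : a ≠ c := fun e => h2 (by rw [e])
      have : (⟨Lib.Alternating.tri a b c, Lib.Alternating.tri_mem_alt hab hac hbc⟩ : alternatingGroup (Fin n)) ∈
          (pres f).subgroupOf (alternatingGroup (Fin n)) := e ▸ Subgroup.mem_top _
      exact pres_proper hab h1 h2 this
    refine not_unique_of_sup (hproper f a b c hab h1 h2) (hproper g a' b' c' hab' h1' h2')
      (Subgroup.comap_mono hf) (Subgroup.comap_mono hg) ?_ h
    set J := (pres f).subgroupOf (alternatingGroup (Fin n)) ⊔ (pres g).subgroupOf (alternatingGroup (Fin n))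
    have hle := hgen (J.map (alternatingGroup (Fin n)).subtype)
      (fun σ hσ hs => ⟨⟨σ, mem_alternatingGroup.2 hs⟩, Subgroup.mem_sup_left hσ, rfl⟩)
      (fun σ hσ hs => ⟨⟨σ, mem_alternatingGroup.2 hs⟩, Subgroup.mem_sup_right hσ, rfl⟩)
    refine eq_top_iff.2 fun x _ => ?_
    obtain ⟨y, hy, he⟩ := hle x.2
    rwa [Subtype.ext he] at hy
  · rintro ⟨k, hk, hn'⟩
    obtain ⟨Q, hQ⟩ := (isPGroup_dyadicAlt n).exists_le_sylow
    rw [unique_sylow_iff R Q]
    let l : Fin n := ⟨2 ^ k, by omega⟩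
    let p0 : Fin n := ⟨0, by omega⟩
    let p1 : Fin n := ⟨1, by omega⟩
    let p2 : Fin n := ⟨2, by omega⟩
    have hl0 : p0 ≠ l := by simp [p0, l, Fin.ext_iff]; omega
    have hl1 : p1 ≠ l := by simp [p1, l, Fin.ext_iff]; omega
    let c3 : alternatingGroup (Fin n) := ⟨Lib.Alternating.tri p0 p1 p2,
      Lib.Alternating.tri_mem_alt (by simp [p0, p1]) (by simp [p0, p2]) (by simp [p1, p2])⟩
    refine unique_of_forall (H := MulAction.stabilizer (alternatingGroup (Fin n)) l) ?_ ?_ ?_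
    · intro e
      obtain ⟨j, hj⟩ := IsPGroup.iff_orderOf.1 Q.2
        (⟨c3, e ▸ Subgroup.mem_top _⟩ : (Q : Subgroup (alternatingGroup (Fin n))))
      rw [← Subgroup.orderOf_coe, ← Subgroup.orderOf_coe] at hj
      rw [IsThreeCycle.orderOf (Lib.Alternating.tri_isThreeCycle
        (by simp [p0, p1]) (by simp [p0, p2]) (by simp [p1, p2]))] at hj
      rcases j with _ | j
      · simp at hj
      · rw [pow_succ] at hj; omega
    · intro e
      let d : alternatingGroup (Fin n) := ⟨Lib.Alternating.tri l p0 p1,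
        Lib.Alternating.tri_mem_alt hl0.symm hl1.symm (by simp [p0, p1])⟩
      have : d ∈ MulAction.stabilizer (alternatingGroup (Fin n)) l := e ▸ Subgroup.mem_top _
      rw [MulAction.mem_stabilizer_iff] at this
      change Lib.Alternating.tri l p0 p1 l = l at this
      rw [Lib.Alternating.tri_apply_left hl0.symm (by simp [p0, p1])] at this
      exact hl0 this
    · intro M hM hle g hg
      rcases fix_or_alt_le hk hn' (M.map (alternatingGroup (Fin n)).subtype)
        (fun σ hσ hs => ⟨⟨σ, mem_alternatingGroup.2 hs⟩, hle (hQ hσ), rfl⟩) l rfl with h | h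
      · exact h _ ⟨g, hg, rfl⟩
      · refine absurd (eq_top_iff.2 fun x _ => ?_) hM.1
        obtain ⟨y, hy, he⟩ := h x.2
        rwa [Subtype.ext he] at hy


/-- For n ≥ 5 with n ≠ 6, a Sylow 2-subgroup of the alternating group A_n lies in exactly one maximal subgroup of A_n if and only if n = 2^k + 1 for some k ≥ 2; the same holds for the symmetric group S_n. -/
theorem result (n : ℕ) (hn : 5 ≤ n) (h6 : n ≠ 6) :
    ((∀ R : Sylow 2 ↥(alternatingGroup (Fin n)), (∃! M : Subgroup ↥(alternatingGroup (Fin n)), IsCoatom M ∧ (R : Subgroup ↥(alternatingGroup (Fin n))) ≤ M) ↔ ∃ k : ℕ, 2 ≤ k ∧ n = 2 ^ k + 1) ∧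
    (∀ R : Sylow 2 (Equiv.Perm (Fin n)), (∃! M : Subgroup (Equiv.Perm (Fin n)), IsCoatom M ∧ (R : Subgroup (Equiv.Perm (Fin n))) ≤ M) ↔ ∃ k : ℕ, 2 ≤ k ∧ n = 2 ^ k + 1)) := by
  exact ⟨alt_part n hn h6, perm_part n hn h6⟩

end Cfsg.Agent.S2245
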