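import Cfsg.Statements.S2250
import Cfsg.Agent.S2234
import Cfsg.Agent.Lib.SylowOrth52.SympLinear

set_option autoImplicit false
open Cfsg

namespace Cfsg.Agent.S2250

open Cfsg.Agent.Lib.SylowOrth52
open scoped Matrix

/-- The normal 2-rank of the symplectic group over a finite field of odd order: for n ≥ 1 and S a Sylow 2-subgroup of Sp_{2n}(F), the largest rank of an elementary abelian subgroup of S that is normal in S equals n. -/
theorem result {F : Type*} [Field F] [Fintype F] (hF : Odd (Fintype.card F)) (n : ℕ) (hn : 1 ≤ n) (S : Sylow 2 ↥(Matrix.symplecticGroup (Fin n) F)) :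
    ((∃ E : Subgroup ↥(S : Subgroup ↥(Matrix.symplecticGroup (Fin n) F)), E.Normal ∧ Cfsg.IsElementaryAbelian 2 E ∧ 2 ^ (n) ≤ Nat.card ↥E) ∧
      ∀ E : Subgroup ↥(S : Subgroup ↥(Matrix.symplecticGroup (Fin n) F)), E.Normal → Cfsg.IsElementaryAbelian 2 E → Nat.card ↥E ≤ 2 ^ (n)) := by
  classical
  haveI : Fact (Nat.Prime 2) := ⟨Nat.prime_two⟩
  refine ⟨?_, fun E _ hE => ?_⟩
  swap
  · -- upper bound: the 2-rank of the symplectic group
    have hle := (S2234.result hF n hn).2
      (E.map (S : Subgroup (Matrix.symplecticGroup (Fin n) F)).subtype)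
    rw [Subgroup.card_map_of_injective (Subgroup.subtype_injective _)] at hle
    refine hle ?_ ?_
    · refine ⟨⟨fun a b => ?_⟩⟩
      obtain ⟨_, x, hx, rfl⟩ := a
      obtain ⟨_, y, hy, rfl⟩ := b
      have h : (⟨x, hx⟩ : E) * ⟨y, hy⟩ = ⟨y, hy⟩ * ⟨x, hx⟩ := hE.1.is_comm.comm _ _
      refine Subtype.ext ?_
      show x.1 * y.1 = y.1 * x.1
      exact congrArg (fun w : E => w.1.1) h
    · rintro _ ⟨x, hx, rfl⟩
      rw [← map_pow, hE.2 x hx, map_one]
  -- lower bound: the sign changes of the planes, inside a wreath product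
  have hq := Nat.odd_iff.1 hF
  have h1 : 1 < Fintype.card F := Fintype.one_lt_card
  have h2 : (2 : F) ≠ 0 := Lib.SignDiag.Basic.two_ne_zero_of_odd hF
  let Q : Sylow 2 (Matrix.SpecialLinearGroup (Fin 2) F) := default
  let z₀ : Matrix.SpecialLinearGroup (Fin 2) F := ⟨-1, by simp [Matrix.det_neg]⟩
  have hz₀2 : z₀ * z₀ = 1 :=
    Subtype.ext (show (-1 : Matrix (Fin 2) (Fin 2) F) * -1 = 1 by simp)
  have hz₀c : ∀ g : Matrix.SpecialLinearGroup (Fin 2) F, g * z₀ = z₀ * g := fun g =>
    Subtype.ext (show g.1 * -1 = -1 * g.1 by simp)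
  have hz₀Q : z₀ ∈ (Q : Subgroup (Matrix.SpecialLinearGroup (Fin 2) F)) := by
    haveI : (Subgroup.zpowers z₀).Normal := ⟨fun x hx g => by
      obtain ⟨k, rfl⟩ := Subgroup.mem_zpowers_iff.1 hx
      rw [(Commute.zpow_right (hz₀c g) k).eq, mul_inv_cancel_right]
      exact hx⟩
    have hp : IsPGroup 2 (Subgroup.zpowers z₀) := by
      rintro ⟨x, hx⟩
      obtain ⟨k, rfl⟩ := Subgroup.mem_zpowers_iff.1 hx
      refine ⟨1, Subtype.ext ?_⟩
      show (z₀ ^ k) ^ (2 ^ 1) = 1
      rw [pow_one, pow_two, ← (Commute.refl z₀).mul_zpow, hz₀2, one_zpow]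
    have hmax := Q.3 (Q.2.to_sup_of_normal_right hp) le_sup_left
    exact hmax ▸ Subgroup.mem_sup_right (Subgroup.mem_zpowers z₀)
  let z : (Q : Subgroup (Matrix.SpecialLinearGroup (Fin 2) F)) := ⟨z₀, hz₀Q⟩
  have hz2 : z * z = 1 := Subtype.ext hz₀2
  have hz1 : z ≠ 1 := fun h => by
    have := congrArg (fun g : (Q : Subgroup (Matrix.SpecialLinearGroup (Fin 2) F)) => g.1.1 0 0) h
    simp [z, z₀] at this
    exact h2 (by linear_combination -this)
  obtain ⟨T, hTc, hTg⟩ := exists_goodSylow n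
  let f : (Q : Subgroup (Matrix.SpecialLinearGroup (Fin 2) F)) →* Matrix (Fin 2) (Fin 2) F :=
    { toFun := fun g => g.1.1
      map_one' := rfl
      map_mul' := fun _ _ => rfl }
  have hmem : ∀ w, blk f T w ∈ Matrix.symplecticGroup (Fin n) F := by
    intro w
    rw [SymplecticGroup.mem_iff, blk_apply, Matrix.transpose_mul, J_eq_dblock]
    have hP : pblock F w.right.1 * dblock (fun _ => jPl F) * (pblock F w.right.1)ᵀ =
        dblock (fun _ => jPl F) := by
      rw [pblock_dblock, mul_assoc]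
      have ht : (pblock F w.right.1)ᵀ = pblock F (w.right.1)⁻¹ := by
        show (Equiv.Perm.permMatrix F (Equiv.Perm.sumCongr w.right.1 w.right.1)⁻¹)ᵀ = _
        rw [Matrix.transpose_permMatrix, inv_inv]
        show _ = Equiv.Perm.permMatrix F (Equiv.Perm.sumCongr w.right.1⁻¹ w.right.1⁻¹)⁻¹
        rw [Equiv.Perm.sumCongr_inv, inv_inv]
      rw [ht, ← map_mul, mul_inv_cancel, map_one, mul_one]
    rw [show dblock (fun i => f (w.left i)) * pblock F w.right.1 * dblock (fun _ => jPl F) *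
        ((pblock F w.right.1)ᵀ * (dblock fun i => f (w.left i))ᵀ) =
      dblock (fun i => f (w.left i)) * (pblock F w.right.1 * dblock (fun _ => jPl F) *
        (pblock F w.right.1)ᵀ) * (dblock fun i => f (w.left i))ᵀ by simp only [mul_assoc],
      hP, dblock_transpose, dblock_mul, dblock_mul]
    congr 1
    funext i
    exact sl2_jPl _ (w.left i).1.2
  let φ : (Fin n → (Q : Subgroup (Matrix.SpecialLinearGroup (Fin 2) F))) ⋊[mulAutArrow] T →*
      Matrix.symplecticGroup (Fin n) F :=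
    { toFun := fun w => ⟨blk f T w, hmem w⟩
      map_one' := Subtype.ext (map_one (blk f T))
      map_mul' := fun a b => Subtype.ext (map_mul (blk f T) a b) }
  have hφ : Function.Injective φ := fun a b h => blk_injective f T
    (fun g g' e => Subtype.ext (Subtype.ext e)) (congrArg Subtype.val h)
  have hcard : Nat.card ((Fin n → (Q : Subgroup (Matrix.SpecialLinearGroup (Fin 2) F))) ⋊[mulAutArrow] T)
      = 2 ^ (Nat.card (Matrix.symplecticGroup (Fin n) F)).factorization 2 := by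
    rw [SemidirectProduct.card, Nat.card_fun, Nat.card_fin, Q.card_eq_multiplicity, hTc, ← pow_mul,
      ← pow_add, Cfsg.Agent.Lib.Symplectic.card_sp Nat.card_eq_fintype_card n,
      v2_mul (pow_ne_zero _ (by omega)) (prod_pow_ne_zero h1 n), v2_pow_odd hq, zero_add, v2_prod h1 hq,
      v2_card_SL_two hq, mul_comm (tq _)]
  let W : Sylow 2 (Matrix.symplecticGroup (Fin n) F) := Sylow.ofCard φ.range
    (by rw [← hcard, ← Nat.card_congr (MonoidHom.ofInjective hφ).toEquiv])
  let e : (Fin n → (Q : Subgroup (Matrix.SpecialLinearGroup (Fin 2) F))) ⋊[mulAutArrow] T ≃*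
      (S : Subgroup (Matrix.symplecticGroup (Fin n) F)) :=
    (MonoidHom.ofInjective hφ).trans (W.equiv S)
  let Z : Subgroup (Q : Subgroup (Matrix.SpecialLinearGroup (Fin 2) F)) := Subgroup.zpowers z
  let P : Subgroup (Fin n → (Q : Subgroup (Matrix.SpecialLinearGroup (Fin 2) F))) :=
    Subgroup.pi Set.univ fun _ => Z
  have hZc : ∀ x ∈ Z, ∀ g, g * x = x * g := by
    intro x hx g
    obtain ⟨k, rfl⟩ := Subgroup.mem_zpowers_iff.1 hx
    exact ((show Commute g z from Subtype.ext (hz₀c g.1)).zpow_right k).eq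
  have hZ2 : ∀ x ∈ Z, x * x = 1 := by
    intro x hx
    obtain ⟨k, rfl⟩ := Subgroup.mem_zpowers_iff.1 hx
    rw [← (Commute.refl z).mul_zpow, hz2, one_zpow]
  let E₀ := P.map (SemidirectProduct.inl : _ →*
    (Fin n → (Q : Subgroup (Matrix.SpecialLinearGroup (Fin 2) F))) ⋊[mulAutArrow] T)
  have hmemP : ∀ {a : Fin n → (Q : Subgroup (Matrix.SpecialLinearGroup (Fin 2) F))},
      a ∈ P ↔ ∀ i, a i ∈ Z := fun {a} => by simp [P, Subgroup.mem_pi]
  have hnorm : E₀.Normal := by
    refine ⟨?_⟩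
    rintro _ ⟨a, ha, rfl⟩ w
    refine ⟨fun i => a (w.right.1⁻¹ i), hmemP.2 fun i => hmemP.1 ha _, ?_⟩
    rw [eq_mul_inv_iff_mul_eq]
    refine SemidirectProduct.ext ?_ (by simp)
    funext i
    simp only [SemidirectProduct.mul_left, SemidirectProduct.left_inl, SemidirectProduct.right_inl,
      map_one, MulAut.one_apply, Pi.mul_apply]
    show a (w.right.1⁻¹ i) * w.left i = w.left i * a (w.right.1⁻¹ i)
    exact (hZc _ (hmemP.1 ha _) _).symm
  refine ⟨E₀.map e.toMonoidHom, hnorm.map _ e.surjective, ⟨⟨⟨fun a b => ?_⟩⟩, ?_⟩, ?_⟩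
  · obtain ⟨_, _, ⟨a, ha, rfl⟩, rfl⟩ := a
    obtain ⟨_, _, ⟨b, hb, rfl⟩, rfl⟩ := b
    apply Subtype.ext
    show e (SemidirectProduct.inl a) * e (SemidirectProduct.inl b) =
      e (SemidirectProduct.inl b) * e (SemidirectProduct.inl a)
    rw [← map_mul, ← map_mul, ← map_mul, ← map_mul]
    congr 2
    funext i
    exact hZc _ (hmemP.1 hb i) _
  · rintro _ ⟨_, ⟨a, ha, rfl⟩, rfl⟩
    rw [← map_pow, ← map_pow, show a ^ 2 = 1 from funext fun i => by
      rw [Pi.pow_apply, pow_two]; exact hZ2 _ (hmemP.1 ha i), map_one, map_one]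
  · rw [Subgroup.card_map_of_injective e.injective,
      Subgroup.card_map_of_injective SemidirectProduct.inl_injective]
    have hZcard : Nat.card Z = 2 := by
      rw [Nat.card_zpowers]
      exact orderOf_eq_prime (by rw [pow_two]; exact hz2) hz1
    refine le_of_eq_of_le ?_ (Nat.card_le_card_of_injective
      (fun (c : Fin n → Z) => (⟨fun i => (c i).1, hmemP.2 fun i => (c i).2⟩ : P))
      fun c d h => funext fun i => Subtype.ext (congrFun (congrArg Subtype.val h) i))
    rw [Nat.card_fun, hZcard, Nat.card_fin]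

end Cfsg.Agent.S2250
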