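import Cfsg.Statements.S2254
import Cfsg.Agent.Lib.PermNilp.Extremal

set_option autoImplicit false
open Cfsg

namespace Cfsg.Agent.S2254

/-- Let n ≡ 3 (mod 4). Then every nilpotent subgroup of the symmetric group on n letters has order at most 3 times the order of a Sylow 2-subgroup of the symmetric group on n − 3 letters; the bound is attained by a nilpotent subgroup isomorphic to the direct product of such a Sylow 2-subgroup with a cyclic group of order 3; and any two nilpotent subgroups attaining the bound are conjugate. -/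
theorem result  (n : ℕ) (hn : n % 4 = 3)
    (P : Sylow 2 (Equiv.Perm (Fin (n - 3)))) :
    (∀ N : Subgroup (Equiv.Perm (Fin n)), Group.IsNilpotent N → Nat.card N ≤ 3 * Nat.card P) ∧
    (∃ M : Subgroup (Equiv.Perm (Fin n)), Group.IsNilpotent M ∧ Nat.card M = 3 * Nat.card P ∧
      Nonempty (M ≃* (↥(P : Subgroup (Equiv.Perm (Fin (n - 3)))) × Multiplicative (ZMod 3)))) ∧
    (∀ N₁ N₂ : Subgroup (Equiv.Perm (Fin n)), Group.IsNilpotent N₁ → Group.IsNilpotent N₂ →
      Nat.card N₁ = 3 * Nat.card P → Nat.card N₂ = 3 * Nat.card P →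
      ∃ g : Equiv.Perm (Fin n), N₂ = N₁.map (MulAut.conj g).toMonoidHom) := by
  have hP := Agent.Lib.PermNilp.perm_sylow_card P
  rw [Nat.card_fin] at hP
  refine ⟨fun N hN => ?_, ?_, fun N₁ N₂ h₁ h₂ k₁ k₂ => ?_⟩
  · have h := Agent.Lib.PermNilp.card_le_nilpBound N hN
    rw [Nat.card_fin, Agent.Lib.PermNilp.nilpBound, if_pos hn] at h
    rwa [hP]
  · let e : Fin (n - 3) ⊕ Fin 3 ≃ Fin n := finSumFinEquiv.trans (finCongr (by omega))
    refine Agent.Lib.PermNilp.exists_prod_map
      (e.permCongrHom.toMonoidHom.comp ((Equiv.Perm.sumCongrHom _ _).comp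
        ((MonoidHom.id _).prodMap (alternatingGroup (Fin 3)).subtype)))
      (e.permCongrHom.injective.comp (Equiv.Perm.sumCongrHom_injective.comp
        (Function.Injective.prodMap Function.injective_id Subtype.val_injective))) P ?_
    rw [nat_card_alternatingGroup, Nat.card_fin]
    rfl
  · rw [hP] at k₁ k₂
    exact Agent.Lib.PermNilp.extremal_perm (by simpa using hn) N₁ N₂ h₁ h₂
      (by simpa using k₁) (by simpa using k₂)

end Cfsg.Agent.S2254
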