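import Cfsg.Statements.S2255
import Cfsg.Agent.Lib.PermNilp.Extremal

set_option autoImplicit false
open Cfsg

namespace Cfsg.Agent.S2255

/-- Let n be a natural number not congruent to 3 modulo 4, with n ∉ {5, 6, 9}. Then every nilpotent subgroup of the alternating group on n letters has order at most the order of a Sylow 2-subgroup of the alternating group (so the nilpotent subgroups of largest order are exactly the Sylow 2-subgroups). -/
theorem result  (n : ℕ) (hn : n % 4 ≠ 3)
    (h5 : n ≠ 5) (h6 : n ≠ 6) (h9 : n ≠ 9)
    (N : Subgroup (alternatingGroup (Fin n))) (hN : Group.IsNilpotent N)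
    (P : Sylow 2 (alternatingGroup (Fin n))) :
    Nat.card N ≤ Nat.card P := by
  by_cases h2 : 2 ≤ n
  · have h := Agent.Lib.PermNilp.alt_two_mul_card_le N hN (by simpa using h2) (by simp; omega)
      (by simpa using h5) (by simpa using h6) (by simpa using h9)
    have hP := Agent.Lib.PermNilp.alt_sylow_card (by simpa using h2) P
    rw [Nat.card_fin, Agent.Lib.PermNilp.nilpBound, if_neg hn] at h
    rw [Nat.card_fin] at hP
    omega
  · have h := Agent.Lib.PermNilp.card_eq_one_of_small (N.map (alternatingGroup (Fin n)).subtype)
      (by simp; omega)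
    rw [Agent.Lib.PermNilp.alt_card_eq] at h
    rw [h]
    exact Nat.card_pos

end Cfsg.Agent.S2255
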