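import Cfsg.Statements.S2256
import Cfsg.Agent.Lib.PermNilp.Extremal

set_option autoImplicit false
open Cfsg

namespace Cfsg.Agent.S2256

/-- Let n ≡ 3 (mod 4) with n ≥ 7. Then every nilpotent subgroup of the alternating group on n letters has order at most 3 times the order of a Sylow 2-subgroup of the alternating group on n − 3 letters; the bound is attained by a nilpotent subgroup isomorphic to the direct product of such a Sylow 2-subgroup with a cyclic group of order 3; and any two nilpotent subgroups of the alternating group attaining the bound are conjugate in it. -/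
theorem result  (n : ℕ) (hn : n % 4 = 3) (h7 : 7 ≤ n)
    (P : Sylow 2 (alternatingGroup (Fin (n - 3)))) :
    (∀ N : Subgroup (alternatingGroup (Fin n)), Group.IsNilpotent N → Nat.card N ≤ 3 * Nat.card P) ∧
    (∃ M : Subgroup (alternatingGroup (Fin n)), Group.IsNilpotent M ∧ Nat.card M = 3 * Nat.card P ∧
      Nonempty (M ≃* (↥(P : Subgroup (alternatingGroup (Fin (n - 3)))) × Multiplicative (ZMod 3)))) ∧
    (∀ N₁ N₂ : Subgroup (alternatingGroup (Fin n)), Group.IsNilpotent N₁ → Group.IsNilpotent N₂ →
      Nat.card N₁ = 3 * Nat.card P → Nat.card N₂ = 3 * Nat.card P →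
      ∃ g : alternatingGroup (Fin n), N₂ = N₁.map (MulAut.conj g).toMonoidHom) := by
  have hP := Agent.Lib.PermNilp.alt_sylow_card (by simp; omega) P
  rw [Nat.card_fin] at hP
  refine ⟨fun N hN => ?_, ?_, fun N₁ N₂ h₁ h₂ k₁ k₂ => ?_⟩
  · have h := Agent.Lib.PermNilp.alt_two_mul_card_le N hN (by simp; omega) (by simp; omega)
      (by simp; omega) (by simp; omega) (by simp; omega)
    rw [Nat.card_fin, Agent.Lib.PermNilp.nilpBound, if_pos hn] at h
    omega
  · let e : Fin (n - 3) ⊕ Fin 3 ≃ Fin n := finSumFinEquiv.trans (finCongr (by omega))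
    let f := e.permCongrHom.toMonoidHom.comp ((Equiv.Perm.sumCongrHom _ _).comp
        ((alternatingGroup (Fin (n - 3))).subtype.prodMap (alternatingGroup (Fin 3)).subtype))
    have hf : ∀ x, f x ∈ alternatingGroup (Fin n) := fun x => by
      rw [Equiv.Perm.mem_alternatingGroup]
      change Equiv.Perm.sign (e.permCongr (Equiv.Perm.sumCongr x.1.1 x.2.1)) = 1
      rw [Equiv.Perm.sign_permCongr, Equiv.Perm.sign_sumCongr,
        Equiv.Perm.mem_alternatingGroup.mp x.1.2, Equiv.Perm.mem_alternatingGroup.mp x.2.2, one_mul]
    refine Agent.Lib.PermNilp.exists_prod_map (f.codRestrict _ hf)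
      (fun x y h => ?_) P ?_
    · exact (e.permCongrHom.injective.comp (Equiv.Perm.sumCongrHom_injective.comp
        (Function.Injective.prodMap Subtype.val_injective Subtype.val_injective)))
          (congrArg Subtype.val h)
    · rw [nat_card_alternatingGroup, Nat.card_fin]
      rfl
  · exact Agent.Lib.PermNilp.extremal_alt (by simpa using hn) (by simpa using h7) N₁ N₂ h₁ h₂
      (by rw [k₁, Nat.card_fin]; omega) (by rw [k₂, Nat.card_fin]; omega)

end Cfsg.Agent.S2256
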