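import Cfsg.Statements.S2257
import Cfsg.Agent.Lib.PslSolubilizer.Psl
-- import your own Cfsg.Agent.* helpers here

set_option autoImplicit false
open Cfsg Cfsg.Agent.Lib.PslSolubilizer

namespace Cfsg.Agent.S2257

/-- Let G = PSL_2(F) with F a field of order q = 2^p, p prime, and for x ∈ G call the solubilizer of x the set of y ∈ G such that x and y generate a solvable subgroup. Then the solubilizer of an involution has 3q(q − 1) elements; that of a non-identity element of order dividing q − 1 has 2q(q − 1) elements; and that of a non-identity element of order dividing q + 1 has 2(q + 1) elements. -/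
theorem result (p : ℕ) (hp : p.Prime) {F : Type*} [Field F] [Fintype F]
    (hF : Fintype.card F = 2 ^ p) (x : Matrix.ProjectiveSpecialLinearGroup (Fin 2) F) :
    (orderOf x = 2 → Nat.card {y : Matrix.ProjectiveSpecialLinearGroup (Fin 2) F // Group.IsSolvable ↥(Subgroup.closure ({x, y} : Set (Matrix.ProjectiveSpecialLinearGroup (Fin 2) F)))} = 3 * 2 ^ p * (2 ^ p - 1)) ∧
    (x ≠ 1 → orderOf x ∣ 2 ^ p - 1 → Nat.card {y : Matrix.ProjectiveSpecialLinearGroup (Fin 2) F // Group.IsSolvable ↥(Subgroup.closure ({x, y} : Set (Matrix.ProjectiveSpecialLinearGroup (Fin 2) F)))} = 2 * 2 ^ p * (2 ^ p - 1)) ∧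
    (x ≠ 1 → orderOf x ∣ 2 ^ p + 1 → Nat.card {y : Matrix.ProjectiveSpecialLinearGroup (Fin 2) F // Group.IsSolvable ↥(Subgroup.closure ({x, y} : Set (Matrix.ProjectiveSpecialLinearGroup (Fin 2) F)))} = 2 * (2 ^ p + 1)) := by
  classical
  obtain ⟨x, rfl⟩ := QuotientGroup.mk'_surjective (Subgroup.center (Matrix.SpecialLinearGroup (Fin 2) F)) x
  set q := 2 ^ p with hq
  have hqe : Even q := Nat.even_pow.2 ⟨even_two, hp.pos.ne'⟩
  have hq4 : 4 ≤ q := hq ▸ (le_of_eq (by norm_num)).trans (Nat.pow_le_pow_right two_pos hp.two_le)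
  have h2 : (2 : F) = 0 := by
    have h0 : ((Fintype.card F : ℕ) : F) = 0 := FiniteField.cast_card_eq_zero F
    rw [hF, hq, Nat.cast_pow] at h0
    push_cast at h0
    exact (pow_eq_zero_iff hp.pos.ne').1 h0
  set a := tr2 x with ha
  have hsol : Nat.card {y : Matrix.ProjectiveSpecialLinearGroup (Fin 2) F // Group.IsSolvable
      ↥(Subgroup.closure ({QuotientGroup.mk' _ x, y} :
        Set (Matrix.ProjectiveSpecialLinearGroup (Fin 2) F)))} =
      Nat.card {y : Matrix.SpecialLinearGroup (Fin 2) F // Basic2 a (tr2 y) (tr2 (x * y))} := by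
    have h := card_pi_preimage (F := F) (fun y => Group.IsSolvable
      ↥(Subgroup.closure ({QuotientGroup.mk' _ x, y} :
        Set (Matrix.ProjectiveSpecialLinearGroup (Fin 2) F))))
    rw [card_center_two h2, one_mul] at h
    rw [← h]
    exact Nat.card_congr (Equiv.subtypeEquivRight fun y =>
      (isSolvable_pi_iff x y).trans (isSolvable_iff_two h2 x y))
  rw [hsol]
  have hnm : QuotientGroup.mk' (Subgroup.center (Matrix.SpecialLinearGroup (Fin 2) F)) x ≠ 1 →
      x ≠ 1 ∧ x ≠ -1 := fun h => ⟨fun e => h (pi_eq_one.2 (Or.inl e)),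
        fun e => h (pi_eq_one.2 (Or.inr e))⟩
  have hpow : ∀ {n : ℕ}, x ^ n = 1 →
      orderOf (QuotientGroup.mk' (Subgroup.center (Matrix.SpecialLinearGroup (Fin 2) F)) x) ∣ n :=
    fun {n} h => orderOf_dvd_of_pow_eq_one (by rw [← map_pow, h, map_one])
  have hcard : ∀ {L L0 : ℕ}, x ≠ 1 → x ≠ -1 → 4 - a ^ 2 ≠ 0 →
      (∀ d : F, d ≠ 0 → reps a d = L) → reps a 0 = L0 →
      Nat.card {y : Matrix.SpecialLinearGroup (Fin 2) F // Basic2 a (tr2 y) (tr2 (x * y))} =
        L * (1 + L0) := by
    intro L L0 h1 h1' h4 hL hL0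
    have hs := card_semisimple h4 (fun b c => Basic2 a b c) (fun b c => ?_) hL hL0
    · exact (card_trace_set_eq_comp2 h1 h1' Basic2).trans hs
    · have ha0 : a ≠ 0 := fun e => h4 (by rw [e]; linear_combination 2 * h2)
      simp only [Basic2, ha0, false_and, or_false]
  have hzero : QuotientGroup.mk' (Subgroup.center (Matrix.SpecialLinearGroup (Fin 2) F)) x ≠ 1 →
      4 - a ^ 2 = 0 →
      orderOf (QuotientGroup.mk' (Subgroup.center (Matrix.SpecialLinearGroup (Fin 2) F)) x) = 2 := by
    intro hx h4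
    have ha0 : a = 0 := (pow_eq_zero_iff (two_ne_zero : (2 : ℕ) ≠ 0)).1
      (show a ^ 2 = 0 by linear_combination 2 * h2 - h4)
    exact orderOf_eq_prime (by rw [← map_pow, pow_two, sq_eq_neg_one ha0]; exact pi_eq_one.2 (Or.inr rfl)) hx
  refine ⟨fun h => ?_, fun hx hd => ?_, fun hx hd => ?_⟩
  · have hx : QuotientGroup.mk' (Subgroup.center (Matrix.SpecialLinearGroup (Fin 2) F)) x ≠ 1 :=
      fun e => by rw [e, orderOf_one] at h; omega
    obtain ⟨h1, h1'⟩ := hnm hx
    have ha0 : a = 0 := tr_of_sq h1 h1' (by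
      have h' := pow_orderOf_eq_one (QuotientGroup.mk' (Subgroup.center (Matrix.SpecialLinearGroup (Fin 2) F)) x)
      rw [h, ← map_pow, pow_two, pi_eq_one] at h'
      exact h')
    have ha2 : a = 2 := by rw [ha0, h2]
    rw [card_trace_set_eq_comp2 h1 h1' Basic2, ← ha]
    conv_lhs => rw [ha2]
    rw [card_two (fun b c => Basic2 2 b c), hF]
    have e1 : Nat.card {bc : F × F // Basic2 2 bc.1 bc.2 ∧ bc.1 ≠ bc.2} = 2 * (q - 1) := by
      have e : {bc : F × F // Basic2 2 bc.1 bc.2 ∧ bc.1 ≠ bc.2} ≃ {u : F // u ≠ 0} ⊕ {u : F // u ≠ 0} :=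
        { toFun := fun w => if h : w.1.1 = 0 then Sum.inl ⟨w.1.2, fun e => w.2.2 (h.trans e.symm)⟩
            else Sum.inr ⟨w.1.1, h⟩
          invFun := fun s => match s with
            | Sum.inl u => ⟨(0, u.1), Or.inr (Or.inr (Or.inl ⟨h2, rfl⟩)), Ne.symm u.2⟩
            | Sum.inr u => ⟨(u.1, 0), Or.inr (Or.inr (Or.inr ⟨h2, rfl⟩)), u.2⟩
          left_inv := fun ⟨⟨b, c⟩, hP, hne⟩ => by
            by_cases hb : b = 0
            · simp [hb]
            · have hc : c = 0 := by
                rcases hP with hD | ⟨hb', -⟩ | ⟨-, hb'⟩ | ⟨-, hc⟩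
                · exfalso
                  apply hne
                  have : (b - c) ^ 2 = 0 := by
                    unfold disc at hD
                    linear_combination hD
                  exact sub_eq_zero.1 ((pow_eq_zero_iff (two_ne_zero : (2 : ℕ) ≠ 0)).1 this)
                · exact absurd hb' hb
                · exact absurd hb' hb
                · exact hc
              simp [hb, hc]
          right_inv := fun s => by
            rcases s with u | u
            · simp
            · simp [u.2] }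
      rw [Nat.card_congr e, Nat.card_sum, Nat.card_eq_fintype_card, Fintype.card_subtype_compl]
      simp [hF]; omega
    have e2 : Nat.card {u : F // u ≠ 0 ∧ Basic2 2 (u + u⁻¹) (u + u⁻¹)} = q - 1 := by
      refine (Nat.card_congr (Equiv.subtypeEquivRight fun u : F => (?_ : _ ↔ u ≠ 0))).trans ?_
      · exact and_iff_left (Or.inl (by unfold disc; ring))
      rw [Nat.card_eq_fintype_card, Fintype.card_subtype_compl]
      simp [hF]
    rw [e1, e2]; ring
  · obtain ⟨h1, h1'⟩ := hnm hx
    have h4 : 4 - a ^ 2 ≠ 0 := fun e => by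
      rw [hzero hx e] at hd
      obtain ⟨k, hk⟩ := hqe
      omega
    rcases split_or_not a with ⟨t, ht⟩ | hns
    · obtain ⟨hL, hL0⟩ := reps_split ht h4
      rw [hF] at hL hL0
      rw [hcard h1 h1' h4 hL hL0, Nat.add_sub_cancel' (by omega : 1 ≤ 2 * q)]
      ring
    · obtain ⟨hL, -⟩ := reps_nonsplit hns h4
      have h' := hpow (hF ▸ hL 1 one_ne_zero ▸ pow_reps_eq_one h1 h1')
      have hg := Nat.dvd_sub h' hd
      have : q + 1 - (q - 1) = 2 := by omega
      rw [this] at hg
      rcases (Nat.dvd_prime Nat.prime_two).1 hg with e | e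
      · exact absurd (orderOf_eq_one_iff.1 e) hx
      · rw [e] at hd
        obtain ⟨k, hk⟩ := hqe
        omega
  · obtain ⟨h1, h1'⟩ := hnm hx
    have h4 : 4 - a ^ 2 ≠ 0 := fun e => by
      rw [hzero hx e] at hd
      obtain ⟨k, hk⟩ := hqe
      omega
    rcases split_or_not a with ⟨t, ht⟩ | hns
    · obtain ⟨hL, -⟩ := reps_split ht h4
      have h' := hpow (hF ▸ hL 1 one_ne_zero ▸ pow_reps_eq_one h1 h1')
      have hg := Nat.dvd_sub hd h'
      have : q + 1 - (q - 1) = 2 := by omega
      rw [this] at hg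
      rcases (Nat.dvd_prime Nat.prime_two).1 hg with e | e
      · exact absurd (orderOf_eq_one_iff.1 e) hx
      · rw [e] at hd
        obtain ⟨k, hk⟩ := hqe
        omega
    · obtain ⟨hL, hL0⟩ := reps_nonsplit hns h4
      rw [hF] at hL
      rw [hcard h1 h1' h4 hL hL0]
      ring

end Cfsg.Agent.S2257
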