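import Cfsg.Statements.S2258
import Cfsg.Agent.Lib.PslSolubilizer.Psl
-- import your own Cfsg.Agent.* helpers here

set_option autoImplicit false
open Cfsg Cfsg.Agent.Lib.PslSolubilizer

namespace Cfsg.Agent.S2258

set_option maxHeartbeats 1000000 in
/-- Let G = PSL_2(F) with F a field of order q = 3^p, p an odd prime, and for x ∈ G call the solubilizer of x the set of y ∈ G such that x and y generate a solvable subgroup. Then the solubilizer of an involution has q(q + 1) elements; that of an element of order 3 has q(q + 5)/2 elements; that of an element of order neither 1 nor 2 dividing q − 1 has q(q − 1) elements; and that of an element of order neither 1 nor 2 dividing q + 1 has q + 1 elements. -/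
theorem result (p : ℕ) (hp : p.Prime) (hodd : Odd p) {F : Type*} [Field F] [Fintype F]
    (hF : Fintype.card F = 3 ^ p) (x : Matrix.ProjectiveSpecialLinearGroup (Fin 2) F) :
    (orderOf x = 2 → Nat.card {y : Matrix.ProjectiveSpecialLinearGroup (Fin 2) F // Group.IsSolvable ↥(Subgroup.closure ({x, y} : Set (Matrix.ProjectiveSpecialLinearGroup (Fin 2) F)))} = 3 ^ p * (3 ^ p + 1)) ∧
    (orderOf x = 3 → 2 * Nat.card {y : Matrix.ProjectiveSpecialLinearGroup (Fin 2) F // Group.IsSolvable ↥(Subgroup.closure ({x, y} : Set (Matrix.ProjectiveSpecialLinearGroup (Fin 2) F)))} = 3 ^ p * (3 ^ p + 5)) ∧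
    (x ≠ 1 → orderOf x ≠ 2 → orderOf x ∣ 3 ^ p - 1 → Nat.card {y : Matrix.ProjectiveSpecialLinearGroup (Fin 2) F // Group.IsSolvable ↥(Subgroup.closure ({x, y} : Set (Matrix.ProjectiveSpecialLinearGroup (Fin 2) F)))} = 3 ^ p * (3 ^ p - 1)) ∧
    (x ≠ 1 → orderOf x ≠ 2 → orderOf x ∣ 3 ^ p + 1 → Nat.card {y : Matrix.ProjectiveSpecialLinearGroup (Fin 2) F // Group.IsSolvable ↥(Subgroup.closure ({x, y} : Set (Matrix.ProjectiveSpecialLinearGroup (Fin 2) F)))} = 3 ^ p + 1) := by
  classical
  obtain ⟨x, rfl⟩ := QuotientGroup.mk'_surjective (Subgroup.center (Matrix.SpecialLinearGroup (Fin 2) F)) x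
  have h3 : (3 : F) = 0 := by
    have h0 : ((Fintype.card F : ℕ) : F) = 0 := FiniteField.cast_card_eq_zero F
    rw [hF, Nat.cast_pow] at h0
    exact_mod_cast (pow_eq_zero_iff hp.pos.ne').1 h0
  have h2 : (2 : F) ≠ 0 := fun e => one_ne_zero (show (1 : F) = 0 by linear_combination h3 - e)
  have hq8 : 3 ^ p % 8 = 3 := by
    obtain ⟨k, rfl⟩ := hodd
    rw [pow_succ, pow_mul, Nat.mul_mod, Nat.pow_mod]
    norm_num
  set q := 3 ^ p with hq
  have hq27 : 27 ≤ q := by
    have : 3 ≤ p := by rcases hodd with ⟨k, rfl⟩; have := hp.two_le; omega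
    exact hq ▸ (le_of_eq (by norm_num)).trans (Nat.pow_le_pow_right (by norm_num) this)
  have hq3 : 3 ∣ q := hq ▸ dvd_pow_self 3 hp.pos.ne'
  have hns : ¬ IsSquare (2 : F) := by
    rw [FiniteField.isSquare_two_iff, hF]
    omega
  have hm1 : ¬ IsSquare (-1 : F) := by
    rw [FiniteField.isSquare_neg_one_iff, hF]
    omega
  set P3 : F → F → F → Prop := fun a b c => Basic2 a b c ∨ (InK a ∧ InK b ∧ InK c) with hP3
  have hsol : 2 * Nat.card {y : Matrix.ProjectiveSpecialLinearGroup (Fin 2) F // Group.IsSolvable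
      ↥(Subgroup.closure ({QuotientGroup.mk' _ x, y} :
        Set (Matrix.ProjectiveSpecialLinearGroup (Fin 2) F)))} =
      Nat.card {y : Matrix.SpecialLinearGroup (Fin 2) F // P3 (tr2 x) (tr2 y) (tr2 (x * y))} := by
    have h := card_pi_preimage (F := F) (fun y => Group.IsSolvable
      ↥(Subgroup.closure ({QuotientGroup.mk' _ x, y} :
        Set (Matrix.ProjectiveSpecialLinearGroup (Fin 2) F))))
    rw [card_center_odd h2] at h
    rw [← h]
    exact Nat.card_congr (Equiv.subtypeEquivRight fun y =>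
      (isSolvable_pi_iff x y).trans (isSolvable_iff_three h3 hns x y))
  have hnm : QuotientGroup.mk' (Subgroup.center (Matrix.SpecialLinearGroup (Fin 2) F)) x ≠ 1 →
      x ≠ 1 ∧ x ≠ -1 := fun h => ⟨fun e => h (pi_eq_one.2 (Or.inl e)),
        fun e => h (pi_eq_one.2 (Or.inr e))⟩
  have hpow : ∀ {n : ℕ}, x ^ n = 1 →
      orderOf (QuotientGroup.mk' (Subgroup.center (Matrix.SpecialLinearGroup (Fin 2) F)) x) ∣ n :=
    fun {n} h => orderOf_dvd_of_pow_eq_one (by rw [← map_pow, h, map_one])
  have hord : QuotientGroup.mk' (Subgroup.center (Matrix.SpecialLinearGroup (Fin 2) F)) x ≠ 1 →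
      InK (tr2 x) →
      orderOf (QuotientGroup.mk' (Subgroup.center (Matrix.SpecialLinearGroup (Fin 2) F)) x) = 2 ∨
      orderOf (QuotientGroup.mk' (Subgroup.center (Matrix.SpecialLinearGroup (Fin 2) F)) x) = 3 := by
    intro hx hk
    by_cases ha0 : tr2 x = 0
    · left
      exact orderOf_eq_prime (by
        rw [← map_pow, pow_two, sq_eq_neg_one ha0]; exact pi_eq_one.2 (Or.inr rfl)) hx
    · right
      have ha1 : tr2 x ^ 2 = 1 := by
        rcases hk with h | h | h
        · exact absurd h ha0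
        · rw [h, one_pow]
        · rw [h, neg_one_sq]
      refine orderOf_eq_prime ?_ hx
      rw [← map_pow, pi_eq_one]
      have e : ((x ^ 3 : Matrix.SpecialLinearGroup (Fin 2) F) : Matrix (Fin 2) (Fin 2) F) =
          (tr2 x ^ 2 - 1) • (x : Matrix (Fin 2) (Fin 2) F) - tr2 x • 1 := by
        rw [pow_three, Matrix.SpecialLinearGroup.coe_mul, Matrix.SpecialLinearGroup.coe_mul,
          cayley x, mul_sub, mul_smul_comm, cayley x, mul_one]
        module
      rw [ha1, sub_self, zero_smul, zero_sub] at e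
      rcases hk with h | h | h
      · exact absurd h ha0
      · exact Or.inr (Subtype.ext (by rw [e, h, one_smul]; simp))
      · exact Or.inl (Subtype.ext (by rw [e, h]; simp))
  have hgen : QuotientGroup.mk' (Subgroup.center (Matrix.SpecialLinearGroup (Fin 2) F)) x ≠ 1 →
      ¬ InK (tr2 x) → ∀ {L L0 : ℕ},
      (∀ d : F, d ≠ 0 → reps (tr2 x) d = L) → reps (tr2 x) 0 = L0 →
      Nat.card {y : Matrix.SpecialLinearGroup (Fin 2) F // P3 (tr2 x) (tr2 y) (tr2 (x * y))} =
        L * (1 + L0) := by
    intro hx hk L L0 hL hL0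
    obtain ⟨h1, h1'⟩ := hnm hx
    have h4 : 4 - tr2 x ^ 2 ≠ 0 := by
      intro e
      have h : (tr2 x - 1) * (tr2 x + 1) = 0 := by linear_combination h3 - e
      rcases mul_eq_zero.1 h with h | h
      · exact hk (Or.inr (Or.inl (sub_eq_zero.1 h)))
      · exact hk (Or.inr (Or.inr (eq_neg_of_add_eq_zero_left h)))
    have hs := card_semisimple h4 (fun b c => P3 (tr2 x) b c) (fun b c => ?_) hL hL0
    · exact (card_trace_set_eq_comp2 h1 h1' P3).trans hs
    · have ha0 : tr2 x ≠ 0 := fun e => hk (Or.inl e)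
      simp only [hP3, Basic2, ha0, hk, false_and, or_false]
  refine ⟨fun h => ?_, fun h => ?_, fun hx hx2 hd => ?_, fun hx hx2 hd => ?_⟩
  · have hx : QuotientGroup.mk' (Subgroup.center (Matrix.SpecialLinearGroup (Fin 2) F)) x ≠ 1 :=
      fun e => by rw [e, orderOf_one] at h; omega
    obtain ⟨h1, h1'⟩ := hnm hx
    have ha0 : tr2 x = 0 := tr_of_sq h1 h1' (by
      have h' := pow_orderOf_eq_one (QuotientGroup.mk' (Subgroup.center (Matrix.SpecialLinearGroup (Fin 2) F)) x)
      rw [h, ← map_pow, pow_two, pi_eq_one] at h'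
      exact h')
    have h4 : (4 : F) - (0 : F) ^ 2 ≠ 0 := by
      intro e
      exact h2 ((mul_self_eq_zero).1 (show (2 : F) * 2 = 0 by linear_combination e))
    obtain ⟨hL, hL0⟩ := reps_nonsplit (a := (0 : F)) (fun t e => hm1 ⟨t, by linear_combination -e⟩) h4
    rw [hF] at hL
    have hc := card_of_levels h4 (fun b c => P3 0 b c) (q + 1) 1 hL hL0
    have hD : (Finset.univ.filter fun bc : F × F => disc 0 bc.1 bc.2 = 0).card = q + 1 := by
      rw [← Fintype.card_subtype, ← Nat.card_eq_fintype_card, card_disc_zero, hL _ h4]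
    have hbc : ∀ b c : F, P3 0 b c ↔ (disc 0 b c = 0 ∨ b = 0 ∨ c = 0 ∨
        ((b = 1 ∨ b = -1) ∧ (c = 1 ∨ c = -1))) := by
      intro b c
      simp only [hP3, Basic2, InK, true_and, true_or]
      tauto
    have hdisc : ∀ b c : F, disc 0 b c = b ^ 2 + c ^ 2 - 1 := fun b c => by
      unfold disc; linear_combination -h3
    have hne : (1 : F) ≠ -1 := fun e => h2 (by linear_combination e)
    set X : Finset (F × F) := ({0} : Finset F) ×ˢ (Finset.univ \ {1, -1}) ∪
      (Finset.univ \ {1, -1, 0}) ×ˢ ({0} : Finset F) with hX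
    set B : Finset (F × F) := ({1, -1} : Finset F) ×ˢ ({1, -1} : Finset F) with hB
    have hrest : (Finset.univ.filter fun bc : F × F => P3 0 bc.1 bc.2 ∧ ¬ disc 0 bc.1 bc.2 = 0) =
        X ∪ B := by
      ext ⟨b, c⟩
      simp only [Finset.mem_filter, Finset.mem_univ, true_and, hX, hB, Finset.mem_union,
        Finset.mem_product, Finset.mem_singleton, Finset.mem_sdiff, Finset.mem_insert, not_or, hbc,
        hdisc]
      constructor
      · rintro ⟨h | rfl | rfl | h, hn⟩
        · exact absurd h hn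
        · exact Or.inl (Or.inl ⟨rfl, fun e => hn (by rw [e]; ring), fun e => hn (by rw [e]; ring)⟩)
        · by_cases hb : b = 0
          · subst hb; exact Or.inl (Or.inl ⟨rfl, Ne.symm one_ne_zero, Ne.symm (neg_ne_zero.2 one_ne_zero)⟩)
          · exact Or.inl (Or.inr ⟨⟨fun e => hn (by rw [e]; ring), fun e => hn (by rw [e]; ring), hb⟩, rfl⟩)
        · exact Or.inr h
      · rintro ((⟨rfl, h, h'⟩ | ⟨⟨h, h', -⟩, rfl⟩) | ⟨h, h'⟩)
        · refine ⟨Or.inr (Or.inl rfl), fun e => ?_⟩
          rcases mul_eq_zero.1 (show (c - 1) * (c + 1) = 0 by linear_combination e) with e' | e'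
          · exact h (sub_eq_zero.1 e')
          · exact h' (eq_neg_of_add_eq_zero_left e')
        · refine ⟨Or.inr (Or.inr (Or.inl rfl)), fun e => ?_⟩
          rcases mul_eq_zero.1 (show (b - 1) * (b + 1) = 0 by linear_combination e) with e' | e'
          · exact h (sub_eq_zero.1 e')
          · exact h' (eq_neg_of_add_eq_zero_left e')
        · refine ⟨Or.inr (Or.inr (Or.inr ⟨h, h'⟩)), fun e => one_ne_zero (?_ : (1 : F) = 0)⟩
          rcases h with rfl | rfl <;> rcases h' with rfl | rfl <;> linear_combination e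
    have hXB : Disjoint X B := by
      rw [Finset.disjoint_left]
      rintro ⟨b, c⟩ hm hm'
      simp only [hX, Finset.mem_union, Finset.mem_product, Finset.mem_singleton] at hm
      simp only [hB, Finset.mem_product, Finset.mem_insert, Finset.mem_singleton] at hm'
      rcases hm with ⟨h, -⟩ | ⟨-, h⟩
      · rcases hm'.1 with e | e <;> rw [h] at e <;> simp at e
      · rcases hm'.2 with e | e <;> rw [h] at e <;> simp at e
    have hdis : Disjoint (({0} : Finset F) ×ˢ (Finset.univ \ {1, -1}))
        ((Finset.univ \ {1, -1, 0}) ×ˢ ({0} : Finset F)) := by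
      rw [Finset.disjoint_left]
      rintro ⟨b, c⟩ hm hm'
      simp only [Finset.mem_product, Finset.mem_singleton, Finset.mem_sdiff, Finset.mem_univ,
        true_and, Finset.mem_insert, not_or] at hm hm'
      exact hm'.1.2.2 hm.1
    have hr : (X ∪ B).card = (q - 2) + (q - 3) + 4 := by
      rw [Finset.card_union_of_disjoint hXB, hX, Finset.card_union_of_disjoint hdis, hB]
      simp only [Finset.card_product, Finset.card_singleton, Finset.card_univ_diff, hF,
        Finset.card_pair hne, one_mul, mul_one]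
      rw [Finset.card_insert_of_notMem (by simp [hne]),
        Finset.card_pair (neg_ne_zero.2 (one_ne_zero : (1 : F) ≠ 0))]
    have hP : Nat.card {bc : F × F // P3 0 bc.1 bc.2} = 3 * q := by
      rw [Nat.card_eq_fintype_card, Fintype.card_subtype,
        ← Finset.card_filter_add_card_filter_not (fun bc : F × F => disc 0 bc.1 bc.2 = 0),
        Finset.filter_filter, Finset.filter_filter, hrest, hr]
      have e : (Finset.univ.filter fun bc : F × F => P3 0 bc.1 bc.2 ∧ disc 0 bc.1 bc.2 = 0) =
          Finset.univ.filter fun bc : F × F => disc 0 bc.1 bc.2 = 0 := by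
        ext bc
        simp only [Finset.mem_filter, Finset.mem_univ, true_and]
        exact ⟨fun h => h.2, fun h => ⟨(hbc _ _).2 (Or.inl h), h⟩⟩
      rw [e, hD]
      omega
    have hPD : Nat.card {bc : F × F // P3 0 bc.1 bc.2 ∧ disc 0 bc.1 bc.2 = 0} = q + 1 := by
      rw [← hL _ h4, ← card_disc_zero]
      exact Nat.card_congr (Equiv.subtypeEquivRight fun bc =>
        ⟨fun h => h.2, fun h => ⟨(hbc _ _).2 (Or.inl h), h⟩⟩)
    rw [hP, hPD] at hc
    have hN : Nat.card {y : Matrix.SpecialLinearGroup (Fin 2) F // P3 0 (tr2 y) (tr2 (comp2 0 * y))} =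
        2 * (q * (q + 1)) := by
      push_cast at hc
      have : (Nat.card {y : Matrix.SpecialLinearGroup (Fin 2) F //
          P3 0 (tr2 y) (tr2 (comp2 0 * y))} : ℤ) = ((2 * (q * (q + 1)) : ℕ) : ℤ) := by
        rw [hc]; push_cast; ring
      exact_mod_cast this
    rw [card_trace_set_eq_comp2 h1 h1' P3, ha0, hN] at hsol
    omega
  · have hx : QuotientGroup.mk' (Subgroup.center (Matrix.SpecialLinearGroup (Fin 2) F)) x ≠ 1 :=
      fun e => by rw [e, orderOf_one] at h; omega
    obtain ⟨h1, h1'⟩ := hnm hx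
    have ha1 : tr2 x ^ 2 - 1 = 0 := tr_of_cube h1 h1' (by
      have h' := pow_orderOf_eq_one (QuotientGroup.mk' (Subgroup.center (Matrix.SpecialLinearGroup (Fin 2) F)) x)
      rw [h, ← map_pow, pi_eq_one] at h'
      exact h')
    obtain ⟨z, hz1, hz1', hza, hzπ⟩ : ∃ z : Matrix.SpecialLinearGroup (Fin 2) F, z ≠ 1 ∧ z ≠ -1 ∧
        tr2 z = 2 ∧ QuotientGroup.mk' (Subgroup.center (Matrix.SpecialLinearGroup (Fin 2) F)) z =
          QuotientGroup.mk' (Subgroup.center (Matrix.SpecialLinearGroup (Fin 2) F)) x := by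
      rcases mul_eq_zero.1 (show (tr2 x - 1) * (tr2 x + 1) = 0 by linear_combination ha1) with e | e
      · refine ⟨-x, fun e' => h1' (by rw [← e', neg_neg]), fun e' => h1 (neg_injective e'), ?_, pi_neg x⟩
        rw [tr2_neg]; linear_combination -e - h3
      · exact ⟨x, h1, h1', by linear_combination e - h3, rfl⟩
    rw [← hzπ]
    have hz : 2 * Nat.card {y : Matrix.ProjectiveSpecialLinearGroup (Fin 2) F // Group.IsSolvable
        ↥(Subgroup.closure ({QuotientGroup.mk' _ z, y} :
          Set (Matrix.ProjectiveSpecialLinearGroup (Fin 2) F)))} =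
        Nat.card {y : Matrix.SpecialLinearGroup (Fin 2) F // P3 (tr2 z) (tr2 y) (tr2 (z * y))} := by
      have h := card_pi_preimage (F := F) (fun y => Group.IsSolvable
        ↥(Subgroup.closure ({QuotientGroup.mk' _ z, y} :
          Set (Matrix.ProjectiveSpecialLinearGroup (Fin 2) F))))
      rw [card_center_odd h2] at h
      rw [← h]
      exact Nat.card_congr (Equiv.subtypeEquivRight fun y =>
        (isSolvable_pi_iff z y).trans (isSolvable_iff_three h3 hns z y))
    rw [card_trace_set_eq_comp2 hz1 hz1' P3, hza, card_two (fun b c => P3 2 b c), hF] at hz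
    have e1 : Nat.card {bc : F × F // P3 2 bc.1 bc.2 ∧ bc.1 ≠ bc.2} = 6 := by
      have hT : ({0, 1, -1} : Finset F).offDiag.card = 6 := by
        rw [Finset.offDiag_card, Finset.card_insert_of_notMem (by simp),
          Finset.card_pair (fun e : (1 : F) = -1 => h2 (by linear_combination e))]
      rw [Nat.card_eq_fintype_card, Fintype.card_subtype, ← hT]
      congr 1
      ext ⟨b, c⟩
      simp only [Finset.mem_filter, Finset.mem_univ, true_and, Finset.mem_offDiag,
        Finset.mem_insert, Finset.mem_singleton, hP3]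
      constructor
      · rintro ⟨(hD | ⟨rfl, rfl⟩ | ⟨h', -⟩ | ⟨h', -⟩) | ⟨-, hb, hc⟩, hne⟩
        · exfalso
          apply hne
          have : (b - c) ^ 2 = 0 := by
            unfold disc at hD
            linear_combination hD
          exact sub_eq_zero.1 ((pow_eq_zero_iff (two_ne_zero : (2 : ℕ) ≠ 0)).1 this)
        · exact absurd rfl hne
        · exact absurd h' h2
        · exact absurd h' h2
        · exact ⟨hb, hc, hne⟩
      · rintro ⟨hb, hc, hne⟩
        exact ⟨Or.inr ⟨Or.inr (Or.inr (by linear_combination h3)), hb, hc⟩, hne⟩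
    have e2 : Nat.card {u : F // u ≠ 0 ∧ P3 2 (u + u⁻¹) (u + u⁻¹)} = q - 1 := by
      refine (Nat.card_congr (Equiv.subtypeEquivRight fun u : F => (?_ : _ ↔ u ≠ 0))).trans ?_
      · exact and_iff_left (Or.inl (Or.inl (by unfold disc; ring)))
      rw [Nat.card_eq_fintype_card, Fintype.card_subtype_compl]
      simp [hF]
    rw [e1, e2] at hz
    obtain ⟨k, hk⟩ : ∃ k, q = k + 1 := ⟨q - 1, by omega⟩
    rw [hk] at hz ⊢
    rw [hz, Nat.add_sub_cancel]
    ring
  all_goals
    obtain ⟨h1, h1'⟩ := hnm hx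
    have hk : ¬ InK (tr2 x) := fun hk => by
      rcases hord hx hk with e | e
      · exact hx2 e
      · rw [e] at hd; omega
    have h4 : 4 - tr2 x ^ 2 ≠ 0 := fun e => by
      rcases mul_eq_zero.1 (show (tr2 x - 1) * (tr2 x + 1) = 0 by linear_combination h3 - e) with h | h
      · exact hk (Or.inr (Or.inl (sub_eq_zero.1 h)))
      · exact hk (Or.inr (Or.inr (eq_neg_of_add_eq_zero_left h)))
  · rcases split_or_not (tr2 x) with ⟨t, ht⟩ | hn
    · obtain ⟨hL, hL0⟩ := reps_split ht h4
      rw [hF] at hL hL0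
      rw [hgen hx hk hL hL0, Nat.add_sub_cancel' (by omega : 1 ≤ 2 * q)] at hsol
      have : (q - 1) * (2 * q) = 2 * (q * (q - 1)) := by ring
      omega
    · obtain ⟨hL, -⟩ := reps_nonsplit hn h4
      have h' := hpow (hF ▸ hL 1 one_ne_zero ▸ pow_reps_eq_one h1 h1')
      have hg := Nat.dvd_sub h' hd
      have : q + 1 - (q - 1) = 2 := by omega
      rw [this] at hg
      rcases (Nat.dvd_prime Nat.prime_two).1 hg with e | e
      · exact absurd (orderOf_eq_one_iff.1 e) hx
      · exact absurd e hx2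
  · rcases split_or_not (tr2 x) with ⟨t, ht⟩ | hn
    · obtain ⟨hL, -⟩ := reps_split ht h4
      have h' := hpow (hF ▸ hL 1 one_ne_zero ▸ pow_reps_eq_one h1 h1')
      have hg := Nat.dvd_sub hd h'
      have : q + 1 - (q - 1) = 2 := by omega
      rw [this] at hg
      rcases (Nat.dvd_prime Nat.prime_two).1 hg with e | e
      · exact absurd (orderOf_eq_one_iff.1 e) hx
      · exact absurd e hx2
    · obtain ⟨hL, hL0⟩ := reps_nonsplit hn h4
      rw [hF] at hL
      rw [hgen hx hk hL hL0] at hsol
      omega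

end Cfsg.Agent.S2258
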