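import Cfsg.Statements.S2260
import Cfsg.Agent.Lib.LinearOrders.Unipotent

set_option autoImplicit false
open Cfsg

namespace Cfsg.Agent.S2260

/-- Let F be a finite field of prime characteristic p and u an invertible d × d matrix over F with u − 1 nilpotent (a unipotent element). Then the order of u is at most p^⌈log_p d⌉; and if moreover (u − 1)^(d−1) ≠ 0 (u is a single Jordan block) then the order of u is exactly p^⌈log_p d⌉. -/
theorem result {F : Type*} [Field F] [Finite F] (p : ℕ) [Fact p.Prime] [CharP F p] (d : ℕ)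
    (u : GL (Fin d) F) (hu : IsNilpotent ((u : Matrix (Fin d) (Fin d) F) - 1)) :
    orderOf u ≤ p ^ Nat.clog p d ∧
    (((u : Matrix (Fin d) (Fin d) F) - 1) ^ (d - 1) ≠ 0 → orderOf u = p ^ Nat.clog p d) := by
  have hp : p.Prime := Fact.out
  rcases Nat.eq_zero_or_pos d with rfl | hd
  · have hu1 : u = 1 := Subsingleton.elim _ _
    simp [hu1]
  have : Nonempty (Fin d) := ⟨⟨0, hd⟩⟩
  set N := (u : Matrix (Fin d) (Fin d) F) - 1 with hN
  have hpow : ∀ i : ℕ, (u ^ p ^ i = 1 ↔ N ^ p ^ i = 0) := fun i => by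
    rw [hN, sub_pow_char_pow_of_commute p (n := i) (Commute.one_right _), one_pow, sub_eq_zero,
      ← Units.val_pow_eq_pow_val, Units.val_eq_one]
  have h0 : N ^ d = 0 := Lib.LinearOrders.pow_card_eq_zero_of_isNilpotent hu
  have h1 : u ^ p ^ Nat.clog p d = 1 :=
    (hpow _).2 (pow_eq_zero_of_le (Nat.le_pow_clog hp.one_lt d) h0)
  have hdvd := orderOf_dvd_of_pow_eq_one h1
  refine ⟨Nat.le_of_dvd (pow_pos hp.pos _) hdvd, fun hne => ?_⟩
  obtain ⟨j, hj, hjo⟩ := (Nat.dvd_prime_pow hp).1 hdvd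
  rw [hjo]
  rcases hj.lt_or_eq with hlt | rfl
  · exfalso
    apply hne
    have h2 : p ^ j < d := (Nat.lt_clog_iff_pow_lt hp.one_lt).1 hlt
    exact pow_eq_zero_of_le (by omega) ((hpow j).1 (hjo ▸ pow_orderOf_eq_one u))
  · rfl

end Cfsg.Agent.S2260
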