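import Cfsg.Statements.S2263
import Cfsg.Agent.Lib.MaxOrderGU.Upper
import Cfsg.Agent.Lib.MaxOrderGU.Lower

set_option autoImplicit false
open Cfsg

namespace Cfsg.Agent.S2263

/-- Let q = p^f with p prime and f ≥ 1, F a field with q² elements, d ≥ 3 with (d, q) ≠ (3, 2), and PGU_d(q) the general unitary group of the standard Hermitian form modulo its centre. Then the largest order of an element of PGU_d(q) is: q^(d−1) − 1 if d is odd and f ≥ 2; (p^(d−2) + 1)p if d is odd and f = 1; q^(d−1) + 1 if d is even and q > 2; 4(2^(d−3) + 1) if d is even and q = 2. -/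
theorem result {F : Type*} [Field F] [Fintype F] (p f d : ℕ) (hp : p.Prime) (hf : 1 ≤ f) (q : ℕ) (hq : q = p ^ f)
    (hF : Fintype.card F = q ^ 2) (hd : 3 ≤ d) (h32 : ¬ (d = 3 ∧ q = 2)) :
    (Odd d → 2 ≤ f → (∀ g : (↥(Cfsg.GU d F q) ⧸ Subgroup.center ↥(Cfsg.GU d F q)), orderOf g ≤ q ^ (d - 1) - 1) ∧ ∃ g : (↥(Cfsg.GU d F q) ⧸ Subgroup.center ↥(Cfsg.GU d F q)), orderOf g = q ^ (d - 1) - 1) ∧
    (Odd d → f = 1 → (∀ g : (↥(Cfsg.GU d F q) ⧸ Subgroup.center ↥(Cfsg.GU d F q)), orderOf g ≤ (p ^ (d - 2) + 1) * p) ∧ ∃ g : (↥(Cfsg.GU d F q) ⧸ Subgroup.center ↥(Cfsg.GU d F q)), orderOf g = (p ^ (d - 2) + 1) * p) ∧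
    (Even d → 2 < q → (∀ g : (↥(Cfsg.GU d F q) ⧸ Subgroup.center ↥(Cfsg.GU d F q)), orderOf g ≤ q ^ (d - 1) + 1) ∧ ∃ g : (↥(Cfsg.GU d F q) ⧸ Subgroup.center ↥(Cfsg.GU d F q)), orderOf g = q ^ (d - 1) + 1) ∧
    (Even d → q = 2 → (∀ g : (↥(Cfsg.GU d F q) ⧸ Subgroup.center ↥(Cfsg.GU d F q)), orderOf g ≤ 4 * (2 ^ (d - 3) + 1)) ∧ ∃ g : (↥(Cfsg.GU d F q) ⧸ Subgroup.center ↥(Cfsg.GU d F q)), orderOf g = 4 * (2 ^ (d - 3) + 1)) := by
  classical
  have : Fact p.Prime := ⟨hp⟩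
  have hcharF : CharP F p := by
    obtain ⟨r, hr⟩ := CharP.exists F
    have hr' := CharP.char_is_prime F r
    obtain ⟨n, -, hn⟩ := FiniteField.card F r
    have : r = p := by
      have h1 : r ∣ p ^ (f * 2) := by
        rw [pow_mul, ← hq, ← hF, hn]; exact dvd_pow_self _ n.ne_zero
      exact (Nat.prime_dvd_prime_iff_eq hr' hp).1 (hr'.dvd_of_dvd_pow h1)
    exact this ▸ hr
  have hle := fun g => Cfsg.Agent.Lib.MaxOrderGU.orderOf_le hp hf hq hF hd h32 g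
  have hq2 : 2 ≤ q := by rw [hq]; exact le_trans hp.two_le (Nat.le_self_pow (by omega) p)
  have hu1 : Cfsg.Agent.Lib.LinearOrders.unipExp p 1 = 1 := by
    simp [Cfsg.Agent.Lib.LinearOrders.unipExp]
  have hpdvd : ∀ h : ℕ, 1 ≤ h → p.Coprime (q ^ h + 1) := by
    intro h hh
    rw [hp.coprime_iff_not_dvd]
    intro hdvd
    have h1 : p ∣ q ^ h := by
      rw [hq, ← pow_mul]; exact dvd_pow_self _ (Nat.mul_pos hf hh).ne'
    exact hp.one_lt.ne' (Nat.dvd_one.1 ((Nat.dvd_add_right h1).1 hdvd))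
  refine ⟨fun hdo hf2 => ?_, fun hdo hf1 => ?_, fun hde hq3 => ?_, fun hde hqt => ?_⟩
  · have hne : q ≠ p := by
      rw [hq]
      exact (lt_self_pow₀ hp.one_lt (by omega)).ne'
    refine ⟨fun g => (hle g).trans (by rw [Cfsg.Agent.Lib.MaxOrderGU.target, if_pos hdo, if_neg hne]), ?_⟩
    obtain ⟨i, rfl⟩ := hdo
    obtain ⟨A', _, _, _, σ', ℓ', w, hA', hfin, hw, hwS, hS⟩ :=
      Cfsg.Agent.Lib.MaxOrderGU.exists_evenTorus hF p (h := i) (by omega)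
    have : Nontrivial A' := Module.nontrivial_of_finrank_pos (R := F) (by omega)
    obtain ⟨g, hg⟩ := Cfsg.Agent.Lib.MaxOrderGU.exists_pgu_sum hF p hA' (d₀ := 1) (n := 2 * i + 1)
      le_rfl (by omega) (by omega) w hw hwS hS (by rw [hu1]; exact Nat.coprime_one_left _)
    exact ⟨g, by rw [hg, hu1, one_mul, show 2 * i + 1 - 1 = 2 * i by omega]⟩
  · have hqp : q = p := by rw [hq, hf1, pow_one]
    refine ⟨fun g => (hle g).trans (by rw [Cfsg.Agent.Lib.MaxOrderGU.target, if_pos hdo, if_pos hqp]), ?_⟩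
    have hodd : Odd (d - 2) := by obtain ⟨i, rfl⟩ := hdo; exact ⟨i - 1, by omega⟩
    obtain ⟨A', _, _, _, σ', ℓ', w, hA', hfin, hw, hwS, hS⟩ :=
      Cfsg.Agent.Lib.MaxOrderGU.exists_oddTorus hF p hodd
    have : Nontrivial A' := Module.nontrivial_of_finrank_pos (R := F) (by omega)
    have hu2 : Cfsg.Agent.Lib.LinearOrders.unipExp p 2 = p := by
      rw [Cfsg.Agent.Lib.LinearOrders.unipExp, Nat.clog_eq_one le_rfl hp.two_le, pow_one]
    obtain ⟨g, hg⟩ := Cfsg.Agent.Lib.MaxOrderGU.exists_pgu_sum hF p hA' (d₀ := 2) (n := d)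
      (by omega) (by omega) (by omega) w hw hwS hS (by rw [hu2]; exact hpdvd _ (by omega))
    exact ⟨g, by rw [hg, hu2, hqp, mul_comm]⟩
  · refine ⟨fun g => (hle g).trans (by
      rw [Cfsg.Agent.Lib.MaxOrderGU.target, if_neg (Nat.not_odd_iff_even.2 hde), if_neg (by omega)]), ?_⟩
    have hodd : Odd (d - 1) := by obtain ⟨i, rfl⟩ := hde; exact ⟨i - 1, by omega⟩
    obtain ⟨A', _, _, _, σ', ℓ', w, hA', hfin, hw, hwS, hS⟩ :=
      Cfsg.Agent.Lib.MaxOrderGU.exists_oddTorus hF p hodd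
    have : Nontrivial A' := Module.nontrivial_of_finrank_pos (R := F) (by omega)
    obtain ⟨g, hg⟩ := Cfsg.Agent.Lib.MaxOrderGU.exists_pgu_sum hF p hA' (d₀ := 1) (n := d)
      le_rfl (by omega) (by omega) w hw hwS hS (by rw [hu1]; exact Nat.coprime_one_left _)
    exact ⟨g, by rw [hg, hu1, one_mul]⟩
  · refine ⟨fun g => (hle g).trans (by
      rw [Cfsg.Agent.Lib.MaxOrderGU.target, if_neg (Nat.not_odd_iff_even.2 hde), if_pos hqt]), ?_⟩
    subst hqt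
    obtain rfl : p = 2 := ((Nat.prime_dvd_prime_iff_eq Nat.prime_two hp).1
      (Nat.prime_two.dvd_of_dvd_pow (hq ▸ dvd_rfl : 2 ∣ p ^ f))).symm
    have hodd : Odd (d - 3) := by obtain ⟨i, rfl⟩ := hde; exact ⟨i - 2, by omega⟩
    obtain ⟨A', _, _, _, σ', ℓ', w, hA', hfin, hw, hwS, hS⟩ :=
      Cfsg.Agent.Lib.MaxOrderGU.exists_oddTorus hF 2 hodd
    have : Nontrivial A' := Module.nontrivial_of_finrank_pos (R := F) (by have := hodd.pos; omega)
    have hu3 : Cfsg.Agent.Lib.LinearOrders.unipExp 2 3 = 4 := by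
      norm_num [Cfsg.Agent.Lib.LinearOrders.unipExp, Nat.clog_of_two_le, Nat.clog_of_right_le_one]
    obtain ⟨g, hg⟩ := Cfsg.Agent.Lib.MaxOrderGU.exists_pgu_sum hF 2 hA' (d₀ := 3) (n := d)
      (by omega) (by omega) (by omega) w hw hwS hS
      (by rw [hu3, show (4 : ℕ) = 2 ^ 2 by rfl]; exact Nat.Coprime.pow_left _ (hpdvd _ hodd.pos))
    exact ⟨g, by rw [hg, hu3]⟩

end Cfsg.Agent.S2263
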