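import Cfsg.Statements.S2264
import Cfsg.Agent.Lib.ClassicalOrder.Apply

set_option autoImplicit false
open Cfsg

namespace Cfsg.Agent.S2264

/-- Let F be a finite field with q elements and m ≥ 2. Then every element g of PSp_2m(F) satisfies (q − 1)·|g| ≤ q^(m+1), i.e. has order at most q^(m+1)/(q − 1). -/
theorem result {F : Type*} [Field F] [Fintype F] (m : ℕ) (hm : 2 ≤ m) (g : Cfsg.PSp m F) :
    (Fintype.card F - 1) * orderOf g ≤ Fintype.card F ^ (m + 1) := by
  let f : Matrix.symplecticGroup (Fin m) F →* Matrix (Fin m ⊕ Fin m) (Fin m ⊕ Fin m) F :=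
    (Matrix.symplecticGroup (Fin m) F).subtype
  refine Lib.ClassicalOrder.orderOf_quotient_le f Subtype.val_injective m (fun h => ?_) g
  refine Lib.ClassicalOrder.exists_scalar_pow_of_form (f h) (Matrix.J (Fin m) F) ?_
    (SymplecticGroup.mem_iff'.mp h.2) m (Or.inl ⟨?_, hm⟩)
  · exact (Matrix.isUnit_iff_isUnit_det _).mpr (Matrix.isUnit_det_J (Fin m) F)
  · simp [Fintype.card_sum, two_mul]

end Cfsg.Agent.S2264
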