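import Cfsg.Statements.S2265
import Cfsg.Agent.Lib.ClassicalOrder.Apply

set_option autoImplicit false
open Cfsg Cfsg.Agent.Lib

namespace Cfsg.Agent.S2265

/-- Let F be a finite field with q elements. Every element g of PΩ_(2m+1)(F) (m ≥ 3, q odd), of PΩ⁺_2m(F) (m ≥ 4), or of PΩ⁻_2m(F) (m ≥ 4, the form having an anisotropic binary part) satisfies (q − 1)·|g| ≤ q^(m+1), i.e. has order at most q^(m+1)/(q − 1). -/
theorem result {F : Type*} [Field F] [Fintype F] (m : ℕ) :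
    (3 ≤ m → Odd (Fintype.card F) → ∀ g : Cfsg.POmega F (Cfsg.quadFormOdd m F),
      (Fintype.card F - 1) * orderOf g ≤ Fintype.card F ^ (m + 1)) ∧
    (4 ≤ m → ∀ g : Cfsg.POmega F (Cfsg.quadFormPlus m F),
      (Fintype.card F - 1) * orderOf g ≤ Fintype.card F ^ (m + 1)) ∧
    (4 ≤ m → ∀ a b : F, (∀ z₁ z₂ : F, z₁ ^ 2 + a * z₁ * z₂ + b * z₂ ^ 2 = 0 → z₁ = 0 ∧ z₂ = 0) →
      ∀ g : Cfsg.POmega F (Cfsg.quadFormMinus (m - 1) F a b),
      (Fintype.card F - 1) * orderOf g ≤ Fintype.card F ^ (m + 1)) := by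
  refine ⟨fun hm hodd g => ?_, fun hm g => ?_, fun hm a b hab g => ?_⟩
  · exact ClassicalOrder.exists_scalar_pow_omega (OrthStd.qOddC m F) (OrthStd.quadFormOdd_eq m)
      (ClassicalOrder.qOddC_nondeg m hodd) m
      (Or.inr ⟨by simp [Fintype.card_sum]; ring, hm, hodd⟩) g
  · exact ClassicalOrder.exists_scalar_pow_omega (Forms.qPlus m) (OrthStd.quadFormPlus_eq m)
      (Forms.qPlus_nondeg m) m (Or.inl ⟨by simp [Fintype.card_sum, two_mul], by omega⟩) g
  · exact ClassicalOrder.exists_scalar_pow_omega (OrthStd.qMinusC (m - 1) a b)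
      (OrthStd.quadFormMinus_eq (m - 1) a b) (ClassicalOrder.qMinusC_nondeg (m - 1) hab) m
      (Or.inl ⟨by simp [Fintype.card_sum]; omega, by omega⟩) g

end Cfsg.Agent.S2265
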