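import Cfsg.Statements.S2268


set_option autoImplicit false
open Cfsg

namespace Cfsg.Agent.S2268

/-- Let G be a finite group with an abelian Sylow p-subgroup P and let Q ≤ P. Then N_G(Q) = (N_G(Q) ∩ N_G(P))·C_G(Q), so that N_G(Q)/C_G(Q) is a homomorphic image of the subgroup (N_G(Q) ∩ N_G(P))/C_G(P) of N_G(P)/C_G(P); in particular the order of N_G(Q)/C_G(Q) divides the order of N_G(P)/C_G(P). -/
theorem result {G : Type*} [Group G] [Finite G] {p : ℕ} [Fact p.Prime]
    (P : Sylow p G) (hP : IsMulCommutative (P : Subgroup G)) (Q : Subgroup G) (hQ : Q ≤ (P : Subgroup G)) :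
    Subgroup.normalizer (Q : Set G) =
      (Subgroup.normalizer (Q : Set G) ⊓ Subgroup.normalizer ((P : Subgroup G) : Set G)) ⊔ Subgroup.centralizer (Q : Set G) ∧
    ((Subgroup.centralizer (Q : Set G)).subgroupOf (Subgroup.normalizer (Q : Set G))).index ∣ ((Subgroup.centralizer ((P : Subgroup G) : Set G)).subgroupOf (Subgroup.normalizer ((P : Subgroup G) : Set G))).index := by
  haveI : IsMulCommutative (P : Subgroup G) := hP
  set C := Subgroup.centralizer (Q : Set G) with hC
  set M := Subgroup.normalizer (Q : Set G) ⊓ Subgroup.normalizer ((P : Subgroup G) : Set G) with hM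
  have hPC : (P : Subgroup G) ≤ C := (P.toSubgroup.le_centralizer).trans (Subgroup.centralizer_le hQ)
  have hCN : C ≤ Subgroup.normalizer (Q : Set G) := Subgroup.centralizer_le_normalizer _
  have heq : Subgroup.normalizer (Q : Set G) = M ⊔ C := by
    refine le_antisymm (fun g hg => ?_) (sup_le inf_le_left hCN)
    have hgP : ((g • P : Sylow p G) : Subgroup G) ≤ C := by
      intro y hy
      rw [Sylow.coe_subgroup_smul, Subgroup.mem_pointwise_smul_iff_inv_smul_mem] at hy
      have h1 := Subgroup.mem_centralizer_iff.1 (hPC hy)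
      refine Subgroup.mem_centralizer_iff.2 fun z hz => ?_
      have h2 := h1 (g⁻¹ * z * g) ((Subgroup.mem_normalizer_iff''.1 hg z).1 hz)
      simp only [MulAut.smul_def, MulAut.conj_apply, map_inv, MulAut.conj_inv_apply] at h2
      calc z * y = g * ((g⁻¹ * z * g) * (g⁻¹ * y * g)) * g⁻¹ := by group
        _ = g * ((g⁻¹ * y * g) * (g⁻¹ * z * g)) * g⁻¹ := by rw [h2]
        _ = y * z := by group
    obtain ⟨c, hc⟩ := MulAction.exists_smul_eq C ((g • P).subtype hgP) (P.subtype hPC)
    have h3 : ((c : G) * g) • P = P := by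
      rw [Sylow.smul_subtype] at hc
      have := Sylow.subtype_injective hc
      rw [mul_smul]
      exact this
    have hN : (c : G) * g ∈ Subgroup.normalizer ((P : Subgroup G) : Set G) :=
      Sylow.smul_eq_iff_mem_normalizer.1 h3
    have : g = (c : G)⁻¹ * ((c : G) * g) := by group
    rw [this]
    exact mul_mem (inv_mem (Subgroup.mem_sup_right c.2))
      (Subgroup.mem_sup_left ⟨mul_mem (hCN c.2) hg, hN⟩)
  refine ⟨heq, ?_⟩
  have hn : (C.subgroupOf (Subgroup.normalizer (Q : Set G))).Normal := inferInstance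
  have h1 : (C.subgroupOf (Subgroup.normalizer (Q : Set G))).relIndex
      (M.subgroupOf (Subgroup.normalizer (Q : Set G))) =
      (C.subgroupOf (Subgroup.normalizer (Q : Set G))).index := by
    rw [← Subgroup.relIndex_sup_right (H := M.subgroupOf (Subgroup.normalizer (Q : Set G)))
      (K := C.subgroupOf (Subgroup.normalizer (Q : Set G))),
      ← Subgroup.subgroupOf_sup inf_le_left hCN, ← heq, Subgroup.subgroupOf_self,
      Subgroup.relIndex_top_right]
  rw [Subgroup.relIndex_subgroupOf inf_le_left] at h1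
  rw [← h1]
  have hCP : Subgroup.centralizer ((P : Subgroup G) : Set G) ≤ M :=
    le_inf ((Subgroup.centralizer_le hQ).trans hCN) (Subgroup.centralizer_le_normalizer _)
  refine (Subgroup.relIndex_dvd_of_le_left _ (Subgroup.centralizer_le hQ)).trans ?_
  exact ⟨_, (Subgroup.relIndex_mul_relIndex _ M _ hCP inf_le_right).symm⟩

end Cfsg.Agent.S2268
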