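import Cfsg.Statements.S2269
import Cfsg.Agent.Lib.AbelianSylow.Automizer
import Cfsg.Agent.Lib.Alternating.Basic

set_option autoImplicit false
open Cfsg

namespace Cfsg.Agent.S2269

open Equiv

/-- For `n ≥ 6` there is a nonabelian `2`-subgroup in `A_n`. -/
theorem exists_noncomm (n : ℕ) (hn : 6 ≤ n) :
    ∃ a b : alternatingGroup (Fin n), a * b ≠ b * a ∧ IsPGroup 2 (Subgroup.closure ({a, b} : Set (alternatingGroup (Fin n)))) := by
  let u0 : alternatingGroup (Fin 6) := ⟨swap 0 1 * swap 1 2 * swap 2 3 * swap 4 5, Perm.mem_alternatingGroup.2 (by decide +kernel)⟩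
  let b0 : alternatingGroup (Fin 6) := ⟨swap 0 2 * swap 4 5, Perm.mem_alternatingGroup.2 (by decide +kernel)⟩
  let φ : alternatingGroup (Fin 6) →* alternatingGroup (Fin n) :=
    ((Perm.viaEmbeddingHom (Fin.castLEEmb hn)).comp (alternatingGroup (Fin 6)).subtype).codRestrict _
      (fun g => by
        refine Perm.mem_alternatingGroup.2 ?_
        have : Perm.viaEmbeddingHom (Fin.castLEEmb hn) (g : Perm (Fin 6)) =
            (g : Perm (Fin 6)).viaFintypeEmbedding (Fin.castLEEmb hn) := by
          ext i
          by_cases h : i ∈ Set.range (Fin.castLEEmb hn)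
          · obtain ⟨j, rfl⟩ := h
            rw [Perm.viaEmbeddingHom_apply, Perm.viaEmbedding_apply,
              Perm.viaFintypeEmbedding_apply_image]
          · rw [Perm.viaEmbeddingHom_apply, Perm.viaEmbedding_apply_of_notMem _ _ _ h,
              Perm.viaFintypeEmbedding_apply_notMem_range _ _ h]
        show Perm.sign (Perm.viaEmbeddingHom (Fin.castLEEmb hn) (g : Perm (Fin 6))) = 1
        rw [this, Perm.viaFintypeEmbedding_sign]
        exact Perm.mem_alternatingGroup.1 g.2)
  have hφ : Function.Injective φ := fun x y h => Subtype.ext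
    (Perm.viaEmbeddingHom_injective _ (congrArg Subtype.val h))
  refine ⟨φ u0, φ b0, fun h => ?_, ?_⟩
  · rw [← map_mul, ← map_mul] at h
    have := hφ h
    revert this; decide +kernel
  · rw [show ({φ u0, φ b0} : Set (alternatingGroup (Fin n))) = φ '' {u0, b0} by simp [Set.image_pair],
      ← MonoidHom.map_closure]
    refine IsPGroup.map ?_ φ
    have hle : Subgroup.closure ({u0, b0} : Set (alternatingGroup (Fin 6))) ≤
        Subgroup.zpowers u0 ⊔ Subgroup.zpowers b0 := by
      rw [Subgroup.closure_le]
      rintro x (rfl | rfl)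
      · exact Subgroup.mem_sup_left (Subgroup.mem_zpowers _)
      · exact Subgroup.mem_sup_right (Subgroup.mem_zpowers _)
    refine IsPGroup.to_le (IsPGroup.to_sup_of_normal_left'
      (IsPGroup.of_card (p := 2) (n := 2) ?_) (IsPGroup.of_card (p := 2) (n := 1) ?_) ?_) hle
    · rw [Nat.card_zpowers]
      exact orderOf_eq_prime_pow (by decide +kernel) (by decide +kernel)
    · rw [Nat.card_zpowers, pow_one]
      exact orderOf_eq_prime (by decide +kernel) (by decide +kernel)
    · rw [Subgroup.zpowers_le]
      refine Subgroup.mem_normalizer_iff.2 fun x => ?_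
      have hb : b0 * u0 * b0⁻¹ = u0⁻¹ := by decide +kernel
      have hbb : b0⁻¹ = b0 := by decide +kernel
      constructor
      · rintro ⟨k, rfl⟩
        exact ⟨-k, by simp only; rw [← conj_zpow, hb, inv_zpow, zpow_neg]⟩
      · rintro ⟨k, hk⟩
        refine ⟨-k, ?_⟩
        simp only at hk ⊢
        have hx : x = b0 * u0 ^ k * b0⁻¹ := by rw [hk, hbb]; group; simp [show b0 * b0 = 1 by decide +kernel, mul_assoc]
        rw [hx, ← conj_zpow, hb, inv_zpow, zpow_neg]

theorem not_comm (n : ℕ) (hn : 6 ≤ n) (P : Sylow 2 (alternatingGroup (Fin n)))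
    (hP : IsMulCommutative (P : Subgroup (alternatingGroup (Fin n)))) : False := by
  obtain ⟨a, b, hne, hG⟩ := exists_noncomm n hn
  obtain ⟨Q, hQ⟩ := hG.exists_le_sylow
  obtain ⟨g, hg⟩ := MulAction.exists_smul_eq (alternatingGroup (Fin n)) Q P
  have ha : g * a * g⁻¹ ∈ P := by
    rw [← hg]; exact Subgroup.smul_mem_pointwise_smul a _ _ (hQ (Subgroup.subset_closure (by simp)))
  have hb : g * b * g⁻¹ ∈ P := by
    rw [← hg]; exact Subgroup.smul_mem_pointwise_smul b _ _ (hQ (Subgroup.subset_closure (by simp)))
  have h := congrArg Subtype.val (hP.is_comm.comm (⟨_, ha⟩ : (P : Subgroup (alternatingGroup (Fin n)))) (⟨_, hb⟩ : (P : Subgroup (alternatingGroup (Fin n)))))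
  apply hne
  have h' : g * (a * b) * g⁻¹ = g * (b * a) * g⁻¹ := by
    calc g * (a * b) * g⁻¹ = (g * a * g⁻¹) * (g * b * g⁻¹) := by group
      _ = (g * b * g⁻¹) * (g * a * g⁻¹) := h
      _ = g * (b * a) * g⁻¹ := by group
  simpa using h'

theorem five (P : Sylow 2 (alternatingGroup (Fin 5))) :
    ((Subgroup.centralizer ((P : Subgroup (alternatingGroup (Fin 5))) : Set (alternatingGroup (Fin 5)))).subgroupOf (Subgroup.normalizer ((P : Subgroup (alternatingGroup (Fin 5))) : Set (alternatingGroup (Fin 5))))).index = 3 ∧ IsKleinFour (P : Subgroup (alternatingGroup (Fin 5))) := by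
  have hG : Nat.card (alternatingGroup (Fin 5)) = 60 := by
    rw [Nat.card_eq_fintype_card]; decide +kernel
  have hcard : Nat.card (P : Subgroup (alternatingGroup (Fin 5))) = 4 := by
    have h := P.card_eq_multiplicity
    rw [hG] at h
    have h2 : Nat.factorization 60 2 = 2 := by
      rw [show (60 : ℕ) = 2 ^ 2 * 15 by norm_num, Nat.factorization_mul (by norm_num) (by norm_num),
        Nat.Prime.factorization_pow Nat.prime_two]
      simp [Nat.factorization_eq_zero_of_not_dvd (show ¬ 2 ∣ 15 by norm_num)]
    rw [h2] at h; simpa using h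
  have key : ∀ x : alternatingGroup (Fin 5), x ^ 4 = 1 → x ^ 2 = 1 := by decide +kernel
  have hsq : ∀ x : (P : Subgroup (alternatingGroup (Fin 5))), x ^ 2 = 1 := fun x => by
    have h4 : x ^ 4 = 1 := by rw [← hcard]; exact pow_card_eq_one'
    exact Subtype.ext (key x (congrArg Subtype.val h4))
  haveI : Nontrivial (P : Subgroup (alternatingGroup (Fin 5))) :=
    Finite.one_lt_card_iff_nontrivial.1 (by rw [hcard]; norm_num)
  have hklein : IsKleinFour (P : Subgroup (alternatingGroup (Fin 5))) :=
    ⟨hcard, Monoid.exponent_eq_prime_iff Nat.prime_two |>.2 fun g hg =>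
      orderOf_eq_prime (hsq g) hg⟩
  have hPC : (P : Subgroup (alternatingGroup (Fin 5))) ≤
      Subgroup.centralizer ((P : Subgroup (alternatingGroup (Fin 5))) : Set _) := by
    haveI : IsMulCommutative (P : Subgroup (alternatingGroup (Fin 5))) := ⟨⟨fun a b => by
      have h1 : ∀ c : (P : Subgroup (alternatingGroup (Fin 5))), c⁻¹ = c := fun c =>
        inv_eq_of_mul_eq_one_right (by rw [← pow_two]; exact hsq c)
      rw [← h1 (a * b), mul_inv_rev, h1, h1]⟩⟩
    exact P.toSubgroup.le_centralizer
  refine ⟨?_, hklein⟩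
  set C := Subgroup.centralizer ((P : Subgroup (alternatingGroup (Fin 5))) : Set (alternatingGroup (Fin 5)))
  set N := Subgroup.normalizer ((P : Subgroup (alternatingGroup (Fin 5))) : Set (alternatingGroup (Fin 5)))
  have hodd : ¬ 2 ∣ C.relIndex N := fun h => P.not_dvd_index
    (h.trans ((dvd_of_mul_right_eq _ (Subgroup.relIndex_mul_index (Subgroup.centralizer_le_normalizer _))).trans
      (Subgroup.index_dvd_of_le hPC)))
  have h24 : C.relIndex N ∣ 24 := by
    have h1 : (C.subgroupOf N).index ∣ Nat.card (MulAut (P : Subgroup (alternatingGroup (Fin 5)))) := by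
      rw [show C.subgroupOf N = (P : Subgroup (alternatingGroup (Fin 5))).normalizerMonoidHom.ker from
        (Subgroup.normalizerMonoidHom_ker (H := (P : Subgroup (alternatingGroup (Fin 5))))).symm]
      exact Subgroup.card_dvd_of_injective _ (QuotientGroup.kerLift_injective _)
    let ψ : MulAut (P : Subgroup (alternatingGroup (Fin 5))) →* Perm (P : Subgroup (alternatingGroup (Fin 5))) :=
      MonoidHom.mk' (fun e => e.toEquiv) (fun _ _ => rfl)
    have h2 := Subgroup.card_dvd_of_injective ψ (fun e f h =>
      MulEquiv.ext fun x => Equiv.congr_fun h x)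
    rw [Nat.card_perm, hcard] at h2
    exact h1.trans h2
  have hne : C.relIndex N ≠ 1 := by
    intro h
    have hle : N ≤ C := Subgroup.relIndex_eq_one.1 h
    have hc := MonoidHom.ker_transferSylow_isComplement' P hle
    have hk := hc.card_mul
    rw [hcard, hG] at hk
    rcases (MonoidHom.normal_ker (MonoidHom.transferSylow P hle)).eq_bot_or_eq_top with hb | ht
    · rw [hb, Subgroup.card_bot] at hk; omega
    · rw [ht, Subgroup.card_top, hG] at hk; omega
  have h8 : C.relIndex N ∣ 3 := by
    have hcop : Nat.Coprime (C.relIndex N) 8 := by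
      rw [show (8 : ℕ) = 2 ^ 3 by norm_num]
      exact Nat.Coprime.pow_right _ ((Nat.prime_two.coprime_iff_not_dvd.2 hodd).symm)
    exact hcop.dvd_of_dvd_mul_left (show _ ∣ 8 * 3 from h24)
  exact (Nat.dvd_prime Nat.prime_three).1 h8 |>.resolve_left hne


/-- Let n ≥ 5 and let P be an abelian Sylow p-subgroup of the alternating group A_n. Then N(P)/C(P) (taken in A_n) has even order, or P is cyclic, except when n = 5 and p = 2, where P is a four-group and N(P)/C(P) has order 3. -/
theorem result (n : ℕ) (hn : 5 ≤ n) {p : ℕ} [Fact p.Prime]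
    (P : Sylow p (alternatingGroup (Fin n))) (hP : IsMulCommutative (P : Subgroup (alternatingGroup (Fin n)))) :
    (¬ (n = 5 ∧ p = 2) → 2 ∣ ((Subgroup.centralizer ((P : Subgroup (alternatingGroup (Fin n))) : Set (alternatingGroup (Fin n)))).subgroupOf (Subgroup.normalizer ((P : Subgroup (alternatingGroup (Fin n))) : Set (alternatingGroup (Fin n))))).index ∨ IsCyclic (P : Subgroup (alternatingGroup (Fin n)))) ∧
    ((n = 5 ∧ p = 2) → ((Subgroup.centralizer ((P : Subgroup (alternatingGroup (Fin n))) : Set (alternatingGroup (Fin n)))).subgroupOf (Subgroup.normalizer ((P : Subgroup (alternatingGroup (Fin n))) : Set (alternatingGroup (Fin n))))).index = 3 ∧ IsKleinFour (P : Subgroup (alternatingGroup (Fin n)))) := by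
  refine ⟨fun hne => ?_, ?_⟩
  · rcases (Fact.out : p.Prime).eq_two_or_odd' with rfl | hodd
    · have h6 : 6 ≤ n := by
        by_contra h
        exact hne ⟨by omega, rfl⟩
      exact (not_comm n h6 P hP).elim
    · have hp3 : 3 ≤ p := by
        have := (Fact.out : p.Prime).two_le
        obtain ⟨k, hk⟩ := hodd; omega
      by_cases hle : p + 2 ≤ n
      · left
        obtain ⟨σ, hσ⟩ := Equiv.Perm.exists_with_cycleType_iff (α := Fin n) (m := {p}) |>.2
          ⟨by simp; omega, by simp; omega⟩
        have hsign : σ ∈ alternatingGroup (Fin n) := by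
          rw [Equiv.Perm.mem_alternatingGroup, Equiv.Perm.sign_of_cycleType, hσ]
          simp [(hodd.add_one).neg_one_pow, pow_succ']
        set x : alternatingGroup (Fin n) := ⟨σ, hsign⟩
        have hx : orderOf x = p := by
          rw [← orderOf_injective (alternatingGroup (Fin n)).subtype (Subgroup.subtype_injective _) x]
          change orderOf σ = p
          rw [← Equiv.Perm.lcm_cycleType, hσ]; simp
        obtain ⟨Q, hQ⟩ := IsPGroup.exists_le_sylow (IsPGroup.of_card (p := p) (n := 1)
          (G := Subgroup.zpowers x) (by rw [Nat.card_zpowers, hx, pow_one]))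
        obtain ⟨g, hg⟩ := MulAction.exists_smul_eq (alternatingGroup (Fin n)) Q P
        have hmem : g * x * g⁻¹ ∈ P := by
          rw [← hg]
          exact Subgroup.smul_mem_pointwise_smul x _ _ (hQ (Subgroup.mem_zpowers x))
        refine Cfsg.Agent.Lib.AbelianSylow.Automizer.two_dvd_index_of_real P hP (g * x * g⁻¹) hmem ?_ ?_
        · intro h
          have ho : orderOf (g * x * g⁻¹) = p := by
            rw [← hx]; exact orderOf_injective (MulAut.conj g).toMonoidHom (MulEquiv.injective _) x
          have h2 : (g * x * g⁻¹) ^ 2 = 1 := by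
            rw [pow_two]; nth_rewrite 1 [← h]; exact inv_mul_cancel _
          have := Nat.le_of_dvd two_pos (orderOf_dvd_of_pow_eq_one h2)
          omega
        · refine Cfsg.Agent.Lib.Alternating.isConj_alt_of_two_fixed ?_ ?_
          · simp only [InvMemClass.coe_inv, Subgroup.coe_mul]; rw [Equiv.Perm.cycleType_inv]
          · simp [Equiv.Perm.cycleType_conj, x, hσ]; omega
      · right
        obtain ⟨k, hk⟩ := P.2.exists_card_eq
        have hdvd : p ^ k ∣ n.factorial := by
          rw [← hk]
          refine (Subgroup.card_subgroup_dvd_card _).trans ?_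
          have := Subgroup.card_subgroup_dvd_card (alternatingGroup (Fin n))
          rwa [Nat.card_perm, Nat.card_fin] at this
        have hk1 : k ≤ 1 := by
          by_contra h
          have h2 : p ^ 2 ∣ n.factorial := (pow_dvd_pow p (by omega)).trans hdvd
          rw [padicValNat_dvd_iff_le (Nat.factorial_ne_zero n)] at h2
          have hn2 : n < p ^ 2 := by
            have : p * 3 ≤ p ^ 2 := by rw [pow_two]; exact Nat.mul_le_mul_left p hp3
            omega
          rw [padicValNat_factorial (b := 2) (Nat.log_lt_of_lt_pow (by omega) hn2),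
            show Finset.Ico 1 2 = {1} from rfl, Finset.sum_singleton, pow_one] at h2
          have : n / p < 2 := Nat.div_lt_of_lt_mul (by omega)
          omega
        rcases Nat.le_one_iff_eq_zero_or_eq_one.1 hk1 with rfl | rfl
        · haveI := (Nat.card_eq_one_iff_unique.1 (hk.trans (pow_zero p))).1
          exact isCyclic_of_subsingleton
        · exact isCyclic_of_prime_card (p := p) (hk.trans (pow_one p))
  · rintro ⟨rfl, rfl⟩
    exact five P

end Cfsg.Agent.S2269
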