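import Cfsg.Statements.S2270
import Cfsg.Agent.Lib.AbelianSylow.Automizer

set_option autoImplicit false
open Cfsg

namespace Cfsg.Agent.S2270

/-- Let n ≥ 3, p an odd prime, and P an abelian Sylow p-subgroup of the symmetric group S_n (with p dividing n!, so that P ≠ 1). Then N(P)/C(P) has even order. -/
theorem result (n : ℕ) (hn : 3 ≤ n) {p : ℕ} [Fact p.Prime] (hp : p ≠ 2) (hpn : p ≤ n)
    (P : Sylow p (Equiv.Perm (Fin n))) (hP : IsMulCommutative (P : Subgroup (Equiv.Perm (Fin n)))) :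
    2 ∣ ((Subgroup.centralizer ((P : Subgroup (Equiv.Perm (Fin n))) : Set (Equiv.Perm (Fin n)))).subgroupOf (Subgroup.normalizer ((P : Subgroup (Equiv.Perm (Fin n))) : Set (Equiv.Perm (Fin n))))).index := by
  obtain ⟨x, hx⟩ := exists_prime_orderOf_dvd_card' (G := Equiv.Perm (Fin n)) p
    (by rw [Nat.card_perm, Nat.card_fin]; exact Nat.dvd_factorial (Fact.out : p.Prime).pos hpn)
  obtain ⟨Q, hQ⟩ := IsPGroup.exists_le_sylow (IsPGroup.of_card (p := p) (n := 1)
    (G := Subgroup.zpowers x) (by rw [Nat.card_zpowers, hx, pow_one]))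
  obtain ⟨g, hg⟩ := MulAction.exists_smul_eq (Equiv.Perm (Fin n)) Q P
  have hmem : g * x * g⁻¹ ∈ P := by
    rw [← hg]
    exact Subgroup.smul_mem_pointwise_smul x _ _ (hQ (Subgroup.mem_zpowers x))
  refine Cfsg.Agent.Lib.AbelianSylow.Automizer.two_dvd_index_of_real P hP (g * x * g⁻¹) hmem ?_
    (Equiv.Perm.isConj_iff_cycleType_eq.2 (by rw [Equiv.Perm.cycleType_inv]))
  intro h
  have ho : orderOf (g * x * g⁻¹) = p := by
    rw [← hx]; exact orderOf_injective (MulAut.conj g).toMonoidHom (MulEquiv.injective _) x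
  have h2 : (g * x * g⁻¹) ^ 2 = 1 := by
    rw [pow_two]; nth_rewrite 1 [← h]; exact inv_mul_cancel _
  have := Nat.le_of_dvd two_pos (orderOf_dvd_of_pow_eq_one h2)
  have := (Fact.out : p.Prime).two_le
  omega

end Cfsg.Agent.S2270
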