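import Cfsg.Statements.S2271
-- import your own Cfsg.Agent.* helpers here

set_option autoImplicit false
open Cfsg

namespace Cfsg.Agent.S2271

open Equiv Finset

variable {α : Type*} [Fintype α] [DecidableEq α]

theorem exists_perm_extend {ι : Type*} [Fintype ι] (s t : ι → α) (hs : Function.Injective s)
    (ht : Function.Injective t) : ∃ g : Perm α, ∀ i, g (s i) = t i := by
  classical
  let e : {x // x ∈ Set.range s} ≃ {x // x ∈ Set.range t} :=
    (Equiv.ofInjective s hs).symm.trans (Equiv.ofInjective t ht)
  refine ⟨e.extendSubtype, fun i => ?_⟩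
  rw [Equiv.extendSubtype_apply_of_mem e _ ⟨i, rfl⟩]
  simp [e]

theorem exists_even_extend {ι : Type*} [Fintype ι] (s t : ι → α) (hs : Function.Injective s)
    (ht : Function.Injective t) (hcard : Fintype.card ι + 2 ≤ Fintype.card α) :
    ∃ g : Perm α, g ∈ alternatingGroup α ∧ ∀ i, g (s i) = t i := by
  classical
  obtain ⟨g, hg⟩ := exists_perm_extend s t hs ht
  rcases Int.units_eq_one_or (Perm.sign g) with h | h
  · exact ⟨g, Perm.mem_alternatingGroup.mpr h, hg⟩
  · have : 1 < ((univ.image t)ᶜ : Finset α).card := by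
      rw [card_compl, card_image_of_injective _ ht, card_univ]
      omega
    obtain ⟨u, v, hu, hv, huv⟩ := one_lt_card_iff.mp this
    refine ⟨swap u v * g, Perm.mem_alternatingGroup.mpr ?_, fun i => ?_⟩
    · rw [map_mul, Perm.sign_swap huv, h]; rfl
    · rw [Perm.mul_apply, hg, swap_apply_of_ne_of_ne]
      · rintro rfl; exact (mem_compl.mp hu) (mem_image_of_mem _ (mem_univ i))
      · rintro rfl; exact (mem_compl.mp hv) (mem_image_of_mem _ (mem_univ i))

/-- The points where `b` agrees with `g c g⁻¹`. -/
def agree (b c g : Perm α) : Finset α := univ.filter fun x => b x = g (c (g⁻¹ x))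

/-- The fixed points. -/
def fixes (c : Perm α) : Finset α := univ.filter fun x => c x = x

theorem agree_map_iff (b c g : Perm α) (y : α) : g y ∈ agree b c g ↔ b (g y) = g (c y) := by
  simp [agree]

theorem average_identity (b c : Perm α) (hα : 4 ≤ Fintype.card α) (m : ℕ)
    (hm : ∀ g ∈ alternatingGroup α, (agree b c g).card = m) :
    m * (Fintype.card α * (Fintype.card α - 1)) =
      (fixes c).card * (fixes b).card * (Fintype.card α - 1) +
        (Fintype.card α - (fixes c).card) * (Fintype.card α - (fixes b).card) := by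
  classical
  set n := Fintype.card α with hn
  haveI : Nonempty α := Fintype.card_pos_iff.mp (by omega)
  haveI : Nontrivial α := Fintype.one_lt_card_iff_nontrivial.mp (by omega)
  obtain ⟨x0, y0, h0⟩ := exists_pair_ne α
  let G := ↥(alternatingGroup α)
  let K : α → α → α → α → ℕ := fun u v x y =>
    (univ.filter fun g : G => (g : Perm α) u = x ∧ (g : Perm α) v = y).card
  set k := K x0 y0 x0 y0 with hk
  have hK : ∀ u v x y, u ≠ v → x ≠ y → K u v x y = k := by
    intro u v x y huv hxy
    have hinj : ∀ {a b : α}, a ≠ b → Function.Injective ![a, b] := by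
      intro a b hab i j h
      fin_cases i <;> fin_cases j <;> simp_all
    obtain ⟨g1, hg1, h1⟩ := exists_even_extend ![x0, y0] ![u, v] (hinj h0) (hinj huv)
      (by simpa using hα)
    obtain ⟨g2, hg2, h2⟩ := exists_even_extend ![x, y] ![x0, y0] (hinj hxy) (hinj h0)
      (by simpa using hα)
    have h10 : g1 x0 = u := h1 0
    have h11 : g1 y0 = v := h1 1
    have h20 : g2 x = x0 := h2 0
    have h21 : g2 y = y0 := h2 1
    refine Finset.card_equiv ((Equiv.mulLeft (⟨g2, hg2⟩ : G)).trans (Equiv.mulRight (⟨g1, hg1⟩ : G)))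
      fun g => ?_
    simp only [mem_filter, mem_univ, true_and]
    show _ ↔ g2 ((g : Perm α) (g1 x0)) = x0 ∧ g2 ((g : Perm α) (g1 y0)) = y0
    rw [h10, h11]
    constructor
    · rintro ⟨e1, e2⟩; rw [e1, e2]; exact ⟨h20, h21⟩
    · rintro ⟨e1, e2⟩
      exact ⟨g2.injective (e1.trans h20.symm), g2.injective (e2.trans h21.symm)⟩
  have hK1 : ∀ u x, (univ.filter fun g : G => (g : Perm α) u = x).card = (n - 1) * k := by
    intro u x
    obtain ⟨v, hv⟩ := exists_ne u
    rw [Finset.card_eq_sum_card_fiberwise (f := fun g : G => (g : Perm α) v) (t := univ.erase x)]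
    · rw [Finset.sum_congr rfl (fun y hy => ?_), Finset.sum_const,
        card_erase_of_mem (mem_univ x), card_univ, smul_eq_mul]
      rw [Finset.filter_filter]
      exact hK u v x y hv.symm (ne_of_mem_erase hy).symm
    · intro g hg
      simp only [coe_filter, mem_univ, true_and, Set.mem_setOf_eq] at hg
      exact mem_coe.mpr (mem_erase.mpr ⟨fun h => hv ((g : Perm α).injective (h.trans hg.symm)), mem_univ _⟩)
  have hG : (univ : Finset G).card = n * ((n - 1) * k) := by
    rw [Finset.card_eq_sum_card_fiberwise (f := fun g : G => (g : Perm α) x0) (t := univ)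
      (fun g _ => mem_coe.mpr (mem_univ _)), Finset.sum_congr rfl (fun y _ => hK1 x0 y),
      Finset.sum_const, card_univ, smul_eq_mul]
  have hkpos : 0 < k := card_pos.mpr ⟨1, by simp⟩
  have hsum : ∑ g : G, (agree b c g).card =
      ∑ y : α, (univ.filter fun g : G => b ((g : Perm α) y) = (g : Perm α) (c y)).card := by
    simp only [card_filter]
    rw [Finset.sum_comm]
    refine Finset.sum_congr rfl fun g _ => ?_
    rw [agree, card_filter]
    exact Fintype.sum_equiv (g : Perm α).symm _ _ (fun x => by simp)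
  rw [Finset.sum_congr rfl (fun (g : G) _ => hm g.1 g.2), Finset.sum_const, hG, smul_eq_mul,
    ← Finset.sum_filter_add_sum_filter_not univ (fun y => c y = y)] at hsum
  have hA : ∀ y ∈ (univ.filter fun y => c y = y),
      (univ.filter fun g : G => b ((g : Perm α) y) = (g : Perm α) (c y)).card =
        (fixes b).card * ((n - 1) * k) := by
    intro y hy
    rw [(mem_filter.mp hy).2,
      Finset.card_eq_sum_card_fiberwise (f := fun g : G => (g : Perm α) y) (t := fixes b)]
    · rw [Finset.sum_congr rfl (fun x hx => ?_), Finset.sum_const, smul_eq_mul]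
      rw [Finset.filter_filter, ← hK1 y x]
      congr 1
      refine Finset.filter_congr fun g _ => ⟨fun h => h.2, fun h => ⟨?_, h⟩⟩
      rw [h]; exact (mem_filter.mp hx).2
    · intro g hg
      simp only [coe_filter, mem_univ, true_and, Set.mem_setOf_eq] at hg
      simp [fixes, hg]
  have hB : ∀ y ∈ (univ.filter fun y => ¬ c y = y),
      (univ.filter fun g : G => b ((g : Perm α) y) = (g : Perm α) (c y)).card =
        (n - (fixes b).card) * k := by
    intro y hy
    have hy' := (mem_filter.mp hy).2
    rw [Finset.card_eq_sum_card_fiberwise (f := fun g : G => (g : Perm α) y) (t := (fixes b)ᶜ)]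
    · rw [Finset.sum_congr rfl (fun x hx => ?_), Finset.sum_const, card_compl, smul_eq_mul]
      have hx' : b x ≠ x := by simpa [fixes] using hx
      rw [Finset.filter_filter, ← hK y (c y) x (b x) (Ne.symm hy') (Ne.symm hx')]
      refine congrArg Finset.card (Finset.filter_congr fun g _ => ?_)
      constructor
      · rintro ⟨h1, h2⟩; exact ⟨h2, by rw [← h1, h2]⟩
      · rintro ⟨h1, h2⟩; exact ⟨by rw [h1, h2], h1⟩
    · intro g hg
      simp only [coe_filter, mem_univ, true_and, Set.mem_setOf_eq] at hg
      simp only [coe_compl, Set.mem_compl_iff, mem_coe, fixes, mem_filter, mem_univ, true_and, hg]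
      exact fun h => hy' ((g : Perm α).injective h)
  rw [Finset.sum_congr rfl hA, Finset.sum_congr rfl hB, Finset.sum_const, Finset.sum_const,
    ← compl_filter, card_compl, smul_eq_mul, smul_eq_mul] at hsum
  have e : (m * (n * (n - 1))) * k =
      ((fixes c).card * (fixes b).card * (n - 1) + (n - (fixes c).card) * (n - (fixes b).card)) * k := by
    have hsum' : n * ((n - 1) * k) * m = (fixes c).card * ((fixes b).card * ((n - 1) * k)) +
        (n - (fixes c).card) * ((n - (fixes b).card) * k) := hsum
    linarith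
  exact Nat.eq_of_mul_eq_mul_right hkpos e

theorem exists_big_agree (b c : Perm α) (hc : c ≠ 1) (hb : b ≠ 1) (hα : 5 ≤ Fintype.card α)
    (hle : (fixes c).card ≤ (fixes b).card) :
    ∃ g ∈ alternatingGroup α, (fixes c).card + 1 ≤ (agree b c g).card := by
  classical
  obtain ⟨y, hy⟩ : ∃ y, c y ≠ y := by by_contra h; push Not at h; exact hc (Equiv.ext h)
  obtain ⟨x, hx⟩ : ∃ x, b x ≠ x := by by_contra h; push Not at h; exact hb (Equiv.ext h)
  obtain ⟨em⟩ : Nonempty (↥(fixes c) ↪ ↥(fixes b)) :=
    Function.Embedding.nonempty_of_card_le (by simpa using hle)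
  let s : ↥(fixes c) ⊕ Fin 2 → α := Sum.elim Subtype.val ![y, c y]
  let t : ↥(fixes c) ⊕ Fin 2 → α := Sum.elim (fun z => (em z : α)) ![x, b x]
  have hs : Function.Injective s := by
    refine Subtype.val_injective.sumElim ?_ ?_
    · intro i j h
      fin_cases i <;> fin_cases j <;> first | rfl | exact absurd h hy | exact absurd h.symm hy
    · intro z i h
      have hz : c z.1 = z.1 := (mem_filter.mp z.2).2
      fin_cases i <;> simp only [Matrix.cons_val_zero, Matrix.cons_val_one,
        Fin.zero_eta, Fin.mk_one] at h <;> rw [h] at hz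
      · exact hy hz
      · exact hy (c.injective hz)
  have ht : Function.Injective t := by
    refine Function.Injective.sumElim (Subtype.val_injective.comp em.injective) ?_ ?_
    · intro i j h
      fin_cases i <;> fin_cases j <;> first | rfl | exact absurd h hx | exact absurd h.symm hx
    · intro z i h
      have hz : b (em z : α) = em z := (mem_filter.mp (em z).2).2
      fin_cases i <;> simp only [Matrix.cons_val_zero, Matrix.cons_val_one,
        Fin.zero_eta, Fin.mk_one] at h <;> rw [h] at hz
      · exact hx hz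
      · exact hx (b.injective hz)
  have fin : ∀ g : Perm α, (∀ i, g (s i) = t i) → (fixes c).card + 1 ≤ (agree b c g).card := by
    intro g hg
    have hnot : y ∉ fixes c := by simp [fixes, hy]
    have : (insert y (fixes c)).image g ⊆ agree b c g := by
      intro z hz
      obtain ⟨w, hw, rfl⟩ := mem_image.mp hz
      rw [agree_map_iff]
      rcases mem_insert.mp hw with rfl | hw
      · have h0 := hg (Sum.inr 0)
        have h1 := hg (Sum.inr 1)
        simp only [s, t, Sum.elim_inr, Matrix.cons_val_zero, Matrix.cons_val_one] at h0 h1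
        rw [h1, h0]
      · have h0 := hg (Sum.inl ⟨w, hw⟩)
        simp only [s, t, Sum.elim_inl] at h0
        have hcw : c w = w := (mem_filter.mp hw).2
        rw [hcw, h0]
        exact (mem_filter.mp (em ⟨w, hw⟩).2).2
    have := card_le_card this
    rw [card_image_of_injective _ g.injective, card_insert_of_notMem hnot] at this
    exact this
  by_cases hsmall : (fixes c).card + 4 ≤ Fintype.card α
  · obtain ⟨g, hg, hgs⟩ := exists_even_extend s t hs ht (by simp; omega)
    exact ⟨g, hg, fin g hgs⟩
  · obtain ⟨g, hgs⟩ := exists_perm_extend s t hs ht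
    rcases Int.units_eq_one_or (Perm.sign g) with h | h
    · exact ⟨g, Perm.mem_alternatingGroup.mpr h, fin g hgs⟩
    obtain ⟨u, v, hu, hv, huv⟩ := one_lt_card_iff.mp (show 1 < (fixes c).card by omega)
    have hu' : c u = u := by simpa [fixes] using hu
    have hv' : c v = v := by simpa [fixes] using hv
    refine ⟨g * swap u v, Perm.mem_alternatingGroup.mpr (by rw [map_mul, Perm.sign_swap huv, h]; rfl),
      ?_⟩
    have hcomm : ∀ z, swap u v (c z) = c (swap u v z) := by
      intro z
      have h1 := congrArg (fun e : Perm α => e z) (Equiv.mul_swap_eq_swap_mul c u v)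
      simp only [Perm.mul_apply, hu', hv'] at h1
      exact h1.symm
    have : agree b c (g * swap u v) = agree b c g := by
      refine Finset.filter_congr fun z _ => ?_
      rw [mul_inv_rev, swap_inv, Perm.mul_apply, Perm.mul_apply, hcomm, swap_apply_self]
    rw [this]
    exact fin g hgs

theorem exists_two_agree (b c : Perm α) (hc : fixes c = ∅) (hb : (fixes b).card = 1)
    (hα : 5 ≤ Fintype.card α) :
    ∃ g ∈ alternatingGroup α, 2 ≤ (agree b c g).card := by
  classical
  obtain ⟨x0, hx0⟩ := card_eq_one.mp hb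
  have hfb : ∀ z, b z = z ↔ z = x0 := fun z => by
    have := Finset.ext_iff.mp hx0 z
    simpa [fixes] using this
  have hfc : ∀ z, c z ≠ z := fun z h => by
    have : z ∈ fixes c := by simp [fixes, h]
    rw [hc] at this
    simp at this
  haveI : Nonempty α := ⟨x0⟩
  obtain ⟨x, -, hx⟩ := exists_mem_notMem_of_card_lt_card
    (show ({x0} : Finset α).card < (univ : Finset α).card by rw [card_singleton, card_univ]; omega)
  have h4 : ∀ a b c d : α, ({a, b, c, d} : Finset α).card < (univ : Finset α).card := by
    intro a b c d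
    rw [card_univ]
    exact lt_of_le_of_lt card_le_four hα
  obtain ⟨y, -, hy⟩ := exists_mem_notMem_of_card_lt_card (h4 x0 x (b x) (b⁻¹ x))
  obtain ⟨u, -, -⟩ := exists_mem_notMem_of_card_lt_card (h4 x0 x (b x) (b⁻¹ x))
  obtain ⟨v, -, hv⟩ := exists_mem_notMem_of_card_lt_card (h4 u u (c u) (c⁻¹ u))
  simp only [mem_insert, mem_singleton, not_or] at hx hy hv
  obtain ⟨hy0, hyx, hybx, hybx'⟩ := hy
  obtain ⟨hvu, -, hvcu, hvcu'⟩ := hv
  have hbx : b x ≠ x := fun h => hx ((hfb x).mp h)
  have hby : b y ≠ y := fun h => hy0 ((hfb y).mp h)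
  have hbyx : b y ≠ x := fun h => hybx' (by rw [← h]; simp)
  have hcvu : c v ≠ u := fun h => hvcu' (by rw [← h]; simp)
  let s : Fin 4 → α := ![u, c u, v, c v]
  let t : Fin 4 → α := ![x, b x, y, b y]
  have inj4 : ∀ p q r w : α, p ≠ q → p ≠ r → p ≠ w → q ≠ r → q ≠ w → r ≠ w →
      Function.Injective ![p, q, r, w] := by
    intro p q r w h1 h2 h3 h4 h5 h6 i j h
    fin_cases i <;> fin_cases j <;>
      simp [Ne.symm h1, Ne.symm h2, Ne.symm h3, Ne.symm h4, Ne.symm h5, Ne.symm h6,
        h1, h2, h3, h4, h5, h6] at h ⊢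
  have hs : Function.Injective s := inj4 _ _ _ _ (Ne.symm (hfc u)) (Ne.symm hvu) (Ne.symm hcvu)
    (Ne.symm hvcu) (fun h => hvu (c.injective h).symm) (Ne.symm (hfc v))
  have ht : Function.Injective t := inj4 _ _ _ _ (Ne.symm hbx) (Ne.symm hyx) (Ne.symm hbyx)
    (Ne.symm hybx) (fun h => hyx (b.injective h).symm) (Ne.symm hby)
  have fin : ∀ g : Perm α, (∀ i, g (s i) = t i) → 2 ≤ (agree b c g).card := by
    intro g hg
    have h0 : g u = x := hg 0
    have h1 : g (c u) = b x := hg 1
    have h2 : g v = y := hg 2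
    have h3 : g (c v) = b y := hg 3
    have : ({x, y} : Finset α) ⊆ agree b c g := by
      intro z hz
      simp only [mem_insert, mem_singleton] at hz
      rcases hz with rfl | rfl
      · rw [← h0, agree_map_iff, h1, h0]
      · rw [← h2, agree_map_iff, h3, h2]
    exact (card_pair (Ne.symm hyx)).symm.trans_le (card_le_card this)
  by_cases h6 : 6 ≤ Fintype.card α
  · obtain ⟨g, hg, hgs⟩ := exists_even_extend s t hs ht (by simp; omega)
    exact ⟨g, hg, fin g hgs⟩
  obtain ⟨g, hgs⟩ := exists_perm_extend s t hs ht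
  rcases Int.units_eq_one_or (Perm.sign g) with h | h
  · exact ⟨g, Perm.mem_alternatingGroup.mpr h, fin g hgs⟩
  -- an odd permutation commuting with b
  have : ∃ z : Perm α, Perm.sign z = -1 ∧ ∀ w, z (b w) = b (z w) := by
    rcases Int.units_eq_one_or (Perm.sign b) with hsb | hsb
    · have hsupp : b.support = {x0}ᶜ := by
        ext w; simp [hfb w]
      have hcard : b.support.card = 4 := by
        rw [hsupp, card_compl, card_singleton]; omega
      have hsum := Perm.sum_cycleType b
      have h2 : ∀ i ∈ b.cycleType, 2 ≤ i := fun i hi => Perm.two_le_of_mem_cycleType hi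
      have hsign : Perm.sign b = (-1) ^ (b.cycleType.sum + b.cycleType.card) :=
        Perm.sign_of_cycleType b
      rw [hsum, hcard] at hsign
      have hcT : ∀ i ∈ b.cycleType, i = 2 := by
        intro i hi
        obtain ⟨M, hM⟩ := Multiset.exists_cons_of_mem hi
        rw [hM, Multiset.sum_cons, hcard] at hsum
        have hi2 := h2 i hi
        by_contra hne
        rcases M.empty_or_exists_mem with rfl | ⟨j, hj⟩
        · rw [hM, hsb] at hsign
          simp only [Multiset.card_cons, Multiset.card_zero, zero_add] at hsign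
          exact absurd hsign (by decide)
        · obtain ⟨M', rfl⟩ := Multiset.exists_cons_of_mem hj
          rw [Multiset.sum_cons] at hsum
          have := h2 j (by rw [hM]; simp)
          omega
      have hinv : b ^ 2 = 1 := by
        rw [← orderOf_dvd_iff_pow_eq_one, ← Perm.lcm_cycleType, Multiset.lcm_dvd]
        exact fun i hi => dvd_of_eq (hcT i hi)
      have hbb : ∀ w, b (b w) = w := fun w => by
        have := congrArg (fun e : Perm α => e w) hinv
        simpa [pow_two] using this
      refine ⟨swap x (b x), Perm.sign_swap (Ne.symm hbx), fun w => ?_⟩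
      rw [swap_apply_def, swap_apply_def]
      by_cases h1 : w = x
      · subst h1; simp [hbx, hbb]
      by_cases h2 : w = b x
      · subst h2; simp [hbb, hbx]
      · have e1 : b w ≠ x := fun e => h2 (by rw [← e, hbb])
        have e2 : b w ≠ b x := fun e => h1 (b.injective e)
        simp [h1, h2, e1, e2]
    · exact ⟨b, hsb, fun w => rfl⟩
  obtain ⟨z, hz, hzc⟩ := this
  refine ⟨z * g, Perm.mem_alternatingGroup.mpr (by rw [map_mul, hz, h]; rfl), ?_⟩
  have : agree b c (z * g) = (agree b c g).image z := by
    ext w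
    simp only [agree, mem_filter, mem_univ, true_and, mem_image, mul_inv_rev, Perm.mul_apply]
    constructor
    · intro hw
      refine ⟨z⁻¹ w, ?_, by simp⟩
      apply z.injective
      rw [hzc, Perm.coe_inv, Equiv.apply_symm_apply]
      exact hw
    · rintro ⟨w', hw', rfl⟩
      rw [← hzc, hw', Perm.inv_def z, Equiv.symm_apply_apply]
  rw [this, card_image_of_injective _ z.injective]
  exact fin g hgs

theorem arith {n f h m : ℕ} (hn : 5 ≤ n) (hfh : f ≤ h) (hh : h ≤ n)
    (he : m * (n * (n - 1)) = f * h * (n - 1) + (n - f) * (n - h)) (hm : f + 1 ≤ m)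
    (h1 : f = 0 → h = 1 → 2 ≤ m) : False := by
  obtain ⟨d, rfl⟩ : ∃ d, n = h + d := ⟨n - h, by omega⟩
  obtain ⟨e, rfl⟩ : ∃ e, h = f + e := ⟨h - f, by omega⟩
  rw [show f + e + d - (f + e) = d by omega, show f + e + d - f = e + d by omega] at he
  obtain ⟨k, hk⟩ : ∃ k, f + e + d = k + 1 := ⟨f + e + d - 1, by omega⟩
  rw [show f + e + d - 1 = k by omega, hk] at he
  rcases Nat.eq_zero_or_pos f with rfl | hf
  · simp only [zero_add, zero_mul] at he hk
    rw [hk] at he
    -- m * ((k+1) * k) = (k+1) * d
    have hd : m * k = d := by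
      have : (k + 1) * (m * k) = (k + 1) * d := by linarith
      exact Nat.eq_of_mul_eq_mul_left (Nat.succ_pos k) this
    rcases Nat.lt_or_ge m 2 with hm2 | hm2
    · have : m = 1 := by omega
      subst this
      exact absurd (h1 rfl (by omega)) (by omega)
    · have : 2 * k ≤ m * k := Nat.mul_le_mul_right k hm2
      omega
  · obtain ⟨r, rfl⟩ : ∃ r, m = f + 1 + r := ⟨m - (f + 1), by omega⟩
    have h2 : f * (f + e) * k ≤ f * (k + 1) * k :=
      Nat.mul_le_mul_right k (Nat.mul_le_mul_left f (by omega))
    have h3 : (e + d) * d ≤ k * k := Nat.mul_le_mul (by omega) (by omega)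
    have h4 : (f + 1) * ((k + 1) * k) ≤ (f + 1 + r) * ((k + 1) * k) :=
      Nat.mul_le_mul_right _ (by omega)
    have h5 : k * k < (k + 1) * k := Nat.mul_lt_mul_of_pos_right (Nat.lt_succ_self k) (by omega)
    have h6 : f * (k + 1) * k + (k + 1) * k = (f + 1) * ((k + 1) * k) := by ring
    omega

theorem key (n : ℕ) (hn : 5 ≤ n) (a b : Perm (Fin n)) (ha : a ≠ 1) (hb : b ≠ 1)
    (hle : (fixes a).card ≤ (fixes b).card) :
    ¬ ∃ m, ∀ g ∈ alternatingGroup (Fin n),
      Nat.card (Function.fixedPoints ⇑(g * a * g⁻¹ * b)) = m := by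
  rintro ⟨m, hm⟩
  have hfix : fixes a⁻¹ = fixes a := Finset.filter_congr fun x _ => by
    constructor <;> intro h
    · conv_lhs => rw [← h]
      simp
    · conv_lhs => rw [← h]
      simp
  have hm' : ∀ g ∈ alternatingGroup (Fin n), (agree b a⁻¹ g).card = m := by
    intro g hg
    rw [← hm g hg, Nat.card_eq_fintype_card, ← Fintype.card_coe]
    apply Fintype.card_congr
    refine Equiv.subtypeEquivRight fun x => ?_
    simp only [agree, mem_filter, mem_univ, true_and, Function.mem_fixedPoints,
      Function.IsFixedPt, Perm.mul_apply, Perm.inv_def]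
    rw [← Equiv.eq_symm_apply g, ← Equiv.eq_symm_apply a, Equiv.symm_apply_eq g]
  have hav := average_identity b a⁻¹ (by simp; omega) m hm'
  rw [hfix, Fintype.card_fin] at hav
  obtain ⟨g, hg, hbig⟩ := exists_big_agree b a⁻¹ (by simpa using ha) hb (by simp; omega)
    (by rw [hfix]; exact hle)
  rw [hm' g hg, hfix] at hbig
  refine arith hn hle ((card_le_univ _).trans_eq (Fintype.card_fin n)) hav hbig fun h0 h1 => ?_
  obtain ⟨g, hg, h2⟩ := exists_two_agree b a⁻¹ (by rw [hfix]; exact card_eq_zero.mp h0) h1
    (by simp; omega)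
  rwa [hm' g hg] at h2

/-- Let n ≥ 5 and let a, b be non-identity permutations in the symmetric group S_n. Then the number of fixed points is not constant on the set of products a′b′ with a′ conjugate to a and b′ conjugate to b under the alternating group: there are even permutations g₁, h₁, g₂, h₂ such that (g₁ a g₁⁻¹)(h₁ b h₁⁻¹) and (g₂ a g₂⁻¹)(h₂ b h₂⁻¹) have different numbers of fixed points. -/
theorem result (n : ℕ) (hn : 5 ≤ n) (a b : Equiv.Perm (Fin n)) (ha : a ≠ 1) (hb : b ≠ 1) :
    ∃ g₁ h₁ g₂ h₂ : Equiv.Perm (Fin n), g₁ ∈ alternatingGroup (Fin n) ∧ h₁ ∈ alternatingGroup (Fin n) ∧ g₂ ∈ alternatingGroup (Fin n) ∧ h₂ ∈ alternatingGroup (Fin n) ∧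
      Nat.card (Function.fixedPoints ⇑(g₁ * a * g₁⁻¹ * (h₁ * b * h₁⁻¹))) ≠
        Nat.card (Function.fixedPoints ⇑(g₂ * a * g₂⁻¹ * (h₂ * b * h₂⁻¹))) := by
  classical
  by_contra hcon
  push Not at hcon
  have hone : (1 : Perm (Fin n)) ∈ alternatingGroup (Fin n) := one_mem _
  rcases le_total (fixes a).card (fixes b).card with hle | hle
  · refine key n hn a b ha hb hle
      ⟨Nat.card (Function.fixedPoints ⇑(a * b)), fun g hg => ?_⟩
    simpa using hcon g 1 1 1 hg hone hone hone
  · refine key n hn b a hb ha hle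
      ⟨Nat.card (Function.fixedPoints ⇑(a * b)), fun g hg => ?_⟩
    have h1 := hcon 1 g 1 1 hone hg hone hone
    simp only [one_mul, inv_one, mul_one] at h1
    rw [← h1]
    refine Nat.card_congr (Equiv.subtypeEquiv (a : Perm (Fin n)) fun x => ?_)
    simp only [Function.mem_fixedPoints, Function.IsFixedPt, Perm.mul_apply]
    exact (Equiv.apply_eq_iff_eq a).symm

end Cfsg.Agent.S2271
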