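import Cfsg.Statements.S2272
import Mathlib

set_option autoImplicit false
set_option linter.style.haveILetI false
open Cfsg Matrix Module

namespace Cfsg.Agent.S2272

variable {F : Type*} [Field F] {d : ℕ}

theorem exists_separating_vec (P : Submodule F (Fin d → F)) (z : Fin d → F) (hz : z ∉ P) :
    ∃ w : Fin d → F, w ⬝ᵥ z = 1 ∧ ∀ p ∈ P, w ⬝ᵥ p = 0 := by
  obtain ⟨f, hf, hP⟩ := Submodule.exists_le_ker_of_notMem hz
  refine ⟨(f z)⁻¹ • fun j => f (Pi.single j 1), ?_⟩
  have h : ∀ q : Fin d → F, (fun j => f (Pi.single j 1)) ⬝ᵥ q = f q := by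
    intro q
    conv_rhs => rw [pi_eq_sum_univ q]
    rw [map_sum, dotProduct]
    refine Finset.sum_congr rfl fun i _ => ?_
    rw [map_smul, smul_eq_mul, mul_comm]
    congr 2
    funext j
    simp [Pi.single_apply, eq_comm]
  constructor
  · rw [smul_dotProduct, h, smul_eq_mul, inv_mul_cancel₀ hf]
  · intro p hp
    rw [smul_dotProduct, h, LinearMap.mem_ker.mp (hP hp), smul_zero]

theorem exists_indep_image (_hd : 3 ≤ d) (A : Matrix.SpecialLinearGroup (Fin d) F)
    (hA : A ∉ Subgroup.center (Matrix.SpecialLinearGroup (Fin d) F)) :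
    ∃ x : Fin d → F, LinearIndependent F ![x, (A : Matrix (Fin d) (Fin d) F) *ᵥ x] := by
  by_contra! hc
  obtain ⟨r, hr⟩ := (Matrix.toLin' (A : Matrix (Fin d) (Fin d) F)).exists_eq_smul_id_of_forall_notLinearIndependent
    (fun x => by simpa [Matrix.toLin'_apply] using hc x)
  have hrA : Matrix.scalar (Fin d) r = (A : Matrix (Fin d) (Fin d) F) := by
    apply Matrix.toLin'.injective
    rw [hr]
    apply LinearMap.ext
    intro x
    simp [Matrix.toLin'_apply, ← smul_one_eq_diagonal, Matrix.smul_mulVec]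
  apply hA
  rw [Matrix.SpecialLinearGroup.mem_center_iff]
  refine ⟨r, ?_, hrA⟩
  have := A.2
  rw [← hrA] at this
  simpa using this

theorem li_three {a b c : Fin d → F} (h : LinearIndependent F ![a, b])
    (hc : c ∉ Submodule.span F ({a, b} : Set (Fin d → F))) :
    LinearIndependent F ![a, b, c] := by
  have h3 : LinearIndependent F (Fin.snoc ![a, b] c : Fin 3 → (Fin d → F)) := by
    rw [linearIndependent_finSnoc]
    refine ⟨h, ?_⟩
    simpa [Matrix.range_cons, Matrix.range_empty, Set.insert_comm, Set.pair_comm] using hc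
  have he : (Fin.snoc ![a, b] c : Fin 3 → (Fin d → F)) = ![a, b, c] := by
    funext i
    fin_cases i <;> rfl
  rwa [he] at h3

theorem exists_notMem_span_pair (hd : 3 ≤ d) (a b : Fin d → F) :
    ∃ c, c ∉ Submodule.span F ({a, b} : Set (Fin d → F)) := by
  by_contra! hc
  have htop : Submodule.span F ({a, b} : Set (Fin d → F)) = ⊤ := by
    rw [Submodule.eq_top_iff']; exact hc
  classical
  have hfr := finrank_span_finset_le_card (R := F) ({a, b} : Finset (Fin d → F))
  have hco : ((({a, b} : Finset (Fin d → F)) : Set (Fin d → F))) = {a, b} := by simp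
  rw [Set.finrank, hco, htop, finrank_top, finrank_fin_fun] at hfr
  have := Finset.card_le_two (a := a) (b := b)
  omega

theorem exists_gl_map {a b : Fin 3 → (Fin d → F)} (ha : LinearIndependent F a)
    (hb : LinearIndependent F b) :
    ∃ M : Matrix (Fin d) (Fin d) F, M.det ≠ 0 ∧ ∀ i, M *ᵥ a i = b i := by
  classical
  let Ba := Basis.sumExtend ha
  let Bb := Basis.sumExtend hb
  haveI := Module.Finite.finite_basis Ba
  haveI := Module.Finite.finite_basis Bb
  haveI : Finite (Basis.sumExtendIndex ha) := Finite.sum_right (Fin 3)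
  haveI : Finite (Basis.sumExtendIndex hb) := Finite.sum_right (Fin 3)
  have h1 : Nat.card (Basis.sumExtendIndex ha) = Nat.card (Basis.sumExtendIndex hb) := by
    have := finrank_eq_nat_card_basis Ba
    have := finrank_eq_nat_card_basis Bb
    rw [Nat.card_sum] at *
    omega
  let e : Fin 3 ⊕ Basis.sumExtendIndex ha ≃ Fin 3 ⊕ Basis.sumExtendIndex hb :=
    Equiv.sumCongr (Equiv.refl _) (Finite.card_eq.mp h1).some
  let g := Ba.equiv Bb e
  refine ⟨LinearMap.toMatrix' (g : (Fin d → F) →ₗ[F] (Fin d → F)), ?_, ?_⟩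
  · rw [LinearMap.det_toMatrix']
    exact g.isUnit_det'.ne_zero
  · intro i
    rw [← Matrix.toLin'_apply, Matrix.toLin'_toMatrix']
    have ea : Ba (Sum.inl i) = a i := by simp [Ba, Basis.sumExtend]; rfl
    have eb : Bb (Sum.inl i) = b i := by simp [Bb, Basis.sumExtend]; rfl
    show g (a i) = b i
    rw [← ea, Basis.equiv_apply]
    simpa [e] using eb

theorem det_one_add_vecMulVec' (u v : Fin d → F) :
    (1 + vecMulVec u v).det = 1 + v ⬝ᵥ u := by
  rw [vecMulVec_eq Unit, det_one_add_replicateCol_mul_replicateRow]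

theorem one_add_vecMulVec_mulVec (u v z : Fin d → F) :
    (1 + vecMulVec u v) *ᵥ z = z + (v ⬝ᵥ z) • u := by
  rw [add_mulVec, one_mulVec, vecMulVec_mulVec]
  simp

theorem trace_mul_vecMulVec' (M : Matrix (Fin d) (Fin d) F) (u v : Fin d → F) :
    (M * vecMulVec u v).trace = v ⬝ᵥ (M *ᵥ u) := by
  rw [mul_vecMulVec, trace_vecMulVec, dotProduct_comm]

/-- A conjugate of `A` whose commutator with `B` moves `v` out of the plane `⟨v, Bv⟩`. -/
theorem exists_conj_move (hd : 3 ≤ d) (A : Matrix.SpecialLinearGroup (Fin d) F)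
    (hA : A ∉ Subgroup.center (Matrix.SpecialLinearGroup (Fin d) F)) (v w : Fin d → F)
    (hvw : LinearIndependent F ![v, w]) (B : Matrix (Fin d) (Fin d) F) :
    ∃ g : Matrix.SpecialLinearGroup (Fin d) F,
      B *ᵥ (((g * A * g⁻¹ : Matrix.SpecialLinearGroup (Fin d) F) : Matrix (Fin d) (Fin d) F) *ᵥ v)
        - ((g * A * g⁻¹ : Matrix.SpecialLinearGroup (Fin d) F) : Matrix (Fin d) (Fin d) F) *ᵥ w
        ∉ Submodule.span F ({v, w} : Set (Fin d → F)) := by
  classical
  obtain ⟨x, hx⟩ := exists_indep_image hd A hA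
  set x' := (A : Matrix (Fin d) (Fin d) F) *ᵥ x with hx'
  obtain ⟨y, hy⟩ := exists_notMem_span_pair hd x x'
  obtain ⟨u, hu⟩ := exists_notMem_span_pair hd v w
  have la := (li_three hx hy).comp ![0, 2, 1] (by decide)
  have lb := li_three hvw hu
  obtain ⟨M, hM, hMap⟩ := exists_gl_map la lb
  have m0 : M *ᵥ x = v := by simpa using hMap 0
  have m1 : M *ᵥ y = w := by simpa using hMap 1
  have m2 : M *ᵥ x' = u := by simpa using hMap 2
  have hx'n : x' ∉ Submodule.span F ({x, y} : Set (Fin d → F)) := by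
    have h := la.notMem_span_image (s := {0, 1}) (x := 2) (by decide)
    simpa [Set.image_insert_eq] using h
  obtain ⟨ψ, hψ1, hψ0⟩ := exists_separating_vec _ x' hx'n
  let M' := M * (1 + vecMulVec x' ((M.det⁻¹ - 1) • ψ))
  have hdet : M'.det = 1 := by
    rw [det_mul, det_one_add_vecMulVec', smul_dotProduct, hψ1, smul_eq_mul, mul_one,
      add_sub_cancel, mul_inv_cancel₀ hM]
  let g : Matrix.SpecialLinearGroup (Fin d) F := ⟨M', hdet⟩
  set u' := M.det⁻¹ • u with hu'
  have g0 : M' *ᵥ x = v := by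
    rw [← mulVec_mulVec, one_add_vecMulVec_mulVec, smul_dotProduct,
      hψ0 x (Submodule.subset_span (by simp))]
    simp [m0]
  have g2 : M' *ᵥ x' = u' := by
    rw [← mulVec_mulVec, one_add_vecMulVec_mulVec, smul_dotProduct, hψ1]
    simp [mulVec_add, mulVec_smul, m2, hu', sub_smul]
  have hu'P : u' ∉ Submodule.span F ({v, w} : Set (Fin d → F)) := fun h => by
    apply hu
    have := Submodule.smul_mem _ M.det h
    rwa [hu', smul_smul, mul_inv_cancel₀ hM, one_smul] at this
  have inv_act : ∀ (h : Matrix.SpecialLinearGroup (Fin d) F) (p q : Fin d → F),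
      (h : Matrix (Fin d) (Fin d) F) *ᵥ p = q →
      ((h⁻¹ : Matrix.SpecialLinearGroup (Fin d) F) : Matrix (Fin d) (Fin d) F) *ᵥ q = p := by
    intro h p q hpq
    rw [← hpq, mulVec_mulVec, ← Matrix.SpecialLinearGroup.coe_mul, inv_mul_cancel,
      Matrix.SpecialLinearGroup.coe_one, one_mulVec]
  have hA1 : ((g * A * g⁻¹ : Matrix.SpecialLinearGroup (Fin d) F) : Matrix (Fin d) (Fin d) F) *ᵥ v = u' := by
    rw [Matrix.SpecialLinearGroup.coe_mul, Matrix.SpecialLinearGroup.coe_mul, ← mulVec_mulVec, ← mulVec_mulVec,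
      inv_act g x v g0]
    exact g2
  by_cases hgood : B *ᵥ (((g * A * g⁻¹ : Matrix.SpecialLinearGroup (Fin d) F) : Matrix (Fin d) (Fin d) F) *ᵥ v)
        - ((g * A * g⁻¹ : Matrix.SpecialLinearGroup (Fin d) F) : Matrix (Fin d) (Fin d) F) *ᵥ w
        ∈ Submodule.span F ({v, w} : Set (Fin d → F))
  swap
  · exact ⟨g, hgood⟩
  -- second conjugate
  have hw_n : w ∉ Submodule.span F ({v, u'} : Set (Fin d → F)) := by
    intro hw
    rw [Submodule.mem_span_pair] at hw
    obtain ⟨a, b, hab⟩ := hw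
    by_cases hb : b = 0
    · rw [hb, zero_smul, add_zero] at hab
      have := LinearIndependent.pair_iff.mp hvw a (-1) (by rw [hab]; simp)
      simp at this
    · apply hu'P
      have : u' = b⁻¹ • (w - a • v) := by
        rw [← hab, add_sub_cancel_left, smul_smul, inv_mul_cancel₀ hb, one_smul]
      rw [this]
      exact Submodule.smul_mem _ _ (Submodule.sub_mem _ (Submodule.subset_span (by simp))
        (Submodule.smul_mem _ _ (Submodule.subset_span (by simp))))
  obtain ⟨χ, hχ1, hχ0⟩ := exists_separating_vec _ w hw_n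
  have hχv : χ ⬝ᵥ v = 0 := hχ0 v (Submodule.subset_span (by simp))
  have hχu : χ ⬝ᵥ u' = 0 := hχ0 u' (Submodule.subset_span (by simp))
  have hT : (1 + vecMulVec v (-χ)).det = 1 := by
    rw [det_one_add_vecMulVec', neg_dotProduct, hχv, neg_zero, add_zero]
  let T : Matrix.SpecialLinearGroup (Fin d) F := ⟨1 + vecMulVec v (-χ), hT⟩
  refine ⟨T * g, fun hbad => hu'P ?_⟩
  have hTz : ∀ z : Fin d → F, (T : Matrix (Fin d) (Fin d) F) *ᵥ z = z - (χ ⬝ᵥ z) • v := by
    intro z
    show (1 + vecMulVec v (-χ)) *ᵥ z = _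
    rw [one_add_vecMulVec_mulVec, neg_dotProduct, neg_smul, sub_eq_add_neg]
  set A1 : Matrix.SpecialLinearGroup (Fin d) F := g * A * g⁻¹ with hA1def
  have e2 : T * g * A * (T * g)⁻¹ = T * A1 * T⁻¹ := by rw [hA1def]; group
  rw [e2] at hbad
  have iv : ((T⁻¹ : Matrix.SpecialLinearGroup (Fin d) F) : Matrix (Fin d) (Fin d) F) *ᵥ v = v := by
    apply inv_act; rw [hTz, hχv, zero_smul, sub_zero]
  have iw : ((T⁻¹ : Matrix.SpecialLinearGroup (Fin d) F) : Matrix (Fin d) (Fin d) F) *ᵥ w = w + v := by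
    apply inv_act; rw [hTz, dotProduct_add, hχ1, hχv]; simp
  have av : ((T * A1 * T⁻¹ : Matrix.SpecialLinearGroup (Fin d) F) : Matrix (Fin d) (Fin d) F) *ᵥ v = u' := by
    rw [Matrix.SpecialLinearGroup.coe_mul, Matrix.SpecialLinearGroup.coe_mul, ← mulVec_mulVec, ← mulVec_mulVec,
      iv, hA1, hTz, hχu, zero_smul, sub_zero]
  set z0 := (A1 : Matrix (Fin d) (Fin d) F) *ᵥ w with hz0
  have aw : ((T * A1 * T⁻¹ : Matrix.SpecialLinearGroup (Fin d) F) : Matrix (Fin d) (Fin d) F) *ᵥ w
      = z0 - (χ ⬝ᵥ z0) • v + u' := by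
    rw [Matrix.SpecialLinearGroup.coe_mul, Matrix.SpecialLinearGroup.coe_mul, ← mulVec_mulVec, ← mulVec_mulVec,
      iw, mulVec_add, hA1, hTz, dotProduct_add, hχu, add_zero, ← hz0]
    abel
  rw [av, aw] at hbad
  rw [hA1] at hgood
  have key : u' = (B *ᵥ u' - z0) - (B *ᵥ u' - (z0 - (χ ⬝ᵥ z0) • v + u')) + (χ ⬝ᵥ z0) • v := by
    abel
  rw [key]
  exact Submodule.add_mem _ (Submodule.sub_mem _ hgood hbad)
    (Submodule.smul_mem _ _ (Submodule.subset_span (by simp)))

/-- Let F be a finite field and d ≥ 3, and let a, b be non-identity elements of PSL_d(F). Then the product of the conjugacy classes of a and b is not a single conjugacy class: there are conjugates a′ of a and b′ of b such that a′b′ is not conjugate to ab. -/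
theorem result {F : Type*} [Field F] [Fintype F] (d : ℕ) (hd : 3 ≤ d)
    (a b : Matrix.ProjectiveSpecialLinearGroup (Fin d) F) (ha : a ≠ 1) (hb : b ≠ 1) :
    ∃ g h : Matrix.ProjectiveSpecialLinearGroup (Fin d) F, ¬ IsConj (a * b) (g * a * g⁻¹ * (h * b * h⁻¹)) := by
  classical
  obtain ⟨A, rfl⟩ := QuotientGroup.mk_surjective a
  obtain ⟨B, rfl⟩ := QuotientGroup.mk_surjective b
  have hA : A ∉ Subgroup.center (Matrix.SpecialLinearGroup (Fin d) F) :=
    fun h => ha ((QuotientGroup.eq_one_iff A).mpr h)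
  have hB : B ∉ Subgroup.center (Matrix.SpecialLinearGroup (Fin d) F) :=
    fun h => hb ((QuotientGroup.eq_one_iff B).mpr h)
  by_contra! hall
  obtain ⟨v, hv⟩ := exists_indep_image hd B hB
  set Bm : Matrix (Fin d) (Fin d) F := (B : Matrix (Fin d) (Fin d) F) with hBm
  obtain ⟨g, hg⟩ := exists_conj_move hd A hA v (Bm *ᵥ v) hv Bm
  obtain ⟨φ, hφ1, hφ0⟩ := exists_separating_vec _ _ hg
  have hφv : φ ⬝ᵥ v = 0 := hφ0 v (Submodule.subset_span (by simp))
  have hφw : φ ⬝ᵥ (Bm *ᵥ v) = 0 := hφ0 _ (Submodule.subset_span (by simp))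
  set A' : Matrix (Fin d) (Fin d) F :=
    ((g * A * g⁻¹ : Matrix.SpecialLinearGroup (Fin d) F) : Matrix (Fin d) (Fin d) F) with hA'
  set N := vecMulVec v φ with hN
  have hdet : ∀ t : F, (1 + vecMulVec v (t • φ)).det = 1 := fun t => by
    rw [det_one_add_vecMulVec', smul_dotProduct, hφv, smul_zero, add_zero]
  let X : F → Matrix.SpecialLinearGroup (Fin d) F := fun t => ⟨1 + vecMulVec v (t • φ), hdet t⟩
  have hX : ∀ t, (X t : Matrix (Fin d) (Fin d) F) = 1 + t • N := fun t => by
    show 1 + vecMulVec v (t • φ) = _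
    rw [vecMulVec_smul]
  have hN2 : N * N = 0 := by
    rw [hN, vecMulVec_mul_vecMulVec, hφv, zero_smul, vecMulVec_zero]
  have hXinv : ∀ t, ((X t)⁻¹ : Matrix.SpecialLinearGroup (Fin d) F) = X (-t) := fun t => by
    symm
    apply eq_inv_of_mul_eq_one_right
    apply Subtype.ext
    rw [Matrix.SpecialLinearGroup.coe_mul, Matrix.SpecialLinearGroup.coe_one, hX, hX]
    simp [Matrix.mul_add, Matrix.add_mul, hN2]
  have hNBN : N * Bm * N = 0 := by
    rw [Matrix.mul_assoc, hN, mul_vecMulVec, vecMulVec_mul_vecMulVec, hφw, zero_smul, vecMulVec_zero]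
  let f : F → F := fun t =>
    (((g * A * g⁻¹) * (X t * B * (X t)⁻¹) : Matrix.SpecialLinearGroup (Fin d) F) :
      Matrix (Fin d) (Fin d) F).trace
  have hf : ∀ t, f t = (A' * Bm).trace + t := by
    intro t
    show (((g * A * g⁻¹) * (X t * B * (X t)⁻¹) : Matrix.SpecialLinearGroup (Fin d) F) :
      Matrix (Fin d) (Fin d) F).trace = _
    rw [Matrix.SpecialLinearGroup.coe_mul, Matrix.SpecialLinearGroup.coe_mul (X t * B),
      Matrix.SpecialLinearGroup.coe_mul (X t) B, hXinv, hX, hX, ← hA', ← hBm]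
    have hexp : A' * ((1 + t • N) * Bm * (1 + (-t) • N)) =
        A' * Bm + t • (A' * N * Bm) - t • (A' * Bm * N) := by
      have hz : (t • N) * Bm * ((-t) • N) = 0 := by
        simp [hNBN]
      rw [Matrix.add_mul, Matrix.one_mul, Matrix.mul_add, Matrix.mul_one, Matrix.add_mul, hz,
        add_zero, Matrix.mul_add, Matrix.mul_add]
      simp [Matrix.mul_assoc]
      abel
    rw [hexp, trace_sub, trace_add, trace_smul, trace_smul]
    have t1 : (A' * N * Bm).trace = φ ⬝ᵥ (Bm *ᵥ (A' *ᵥ v)) := by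
      rw [trace_mul_cycle, hN, trace_mul_vecMulVec', ← mulVec_mulVec]
    have t2 : (A' * Bm * N).trace = φ ⬝ᵥ (A' *ᵥ (Bm *ᵥ v)) := by
      rw [hN, trace_mul_vecMulVec', ← mulVec_mulVec]
    rw [t1, t2]
    rw [dotProduct_sub] at hφ1
    simp only [smul_eq_mul]
    linear_combination t * hφ1
  -- every product in this family has trace a unit multiple of `tr (A B)`
  have hmul : ∀ t, ∃ r : F, r ≠ 0 ∧ f t = r * (((A * B : Matrix.SpecialLinearGroup (Fin d) F)) :
      Matrix (Fin d) (Fin d) F).trace := by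
    intro t
    have hc := hall (QuotientGroup.mk g) (QuotientGroup.mk (X t))
    obtain ⟨c, hc⟩ := isConj_iff.mp hc
    obtain ⟨K, rfl⟩ := QuotientGroup.mk_surjective c
    have hc' : QuotientGroup.mk (s := Subgroup.center (Matrix.SpecialLinearGroup (Fin d) F))
        (K * (A * B) * K⁻¹) = QuotientGroup.mk ((g * A * g⁻¹) * (X t * B * (X t)⁻¹)) := by
      simpa using hc
    rw [QuotientGroup.eq] at hc'
    obtain ⟨r, hr, hz⟩ := Matrix.SpecialLinearGroup.mem_center_iff.mp hc'
    have hd0 : d ≠ 0 := by omega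
    refine ⟨r, ?_, ?_⟩
    · rintro rfl
      simp [hd0] at hr
    have heq : (g * A * g⁻¹) * (X t * B * (X t)⁻¹) =
        (K * (A * B) * K⁻¹) * ((K * (A * B) * K⁻¹)⁻¹ * ((g * A * g⁻¹) * (X t * B * (X t)⁻¹))) :=
      (mul_inv_cancel_left _ _).symm
    show (((g * A * g⁻¹) * (X t * B * (X t)⁻¹) : Matrix.SpecialLinearGroup (Fin d) F) :
      Matrix (Fin d) (Fin d) F).trace = _
    rw [heq, Matrix.SpecialLinearGroup.coe_mul, ← hz, scalar_apply, ← smul_one_eq_diagonal, Matrix.mul_smul,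
      Matrix.mul_one, trace_smul, smul_eq_mul, Matrix.SpecialLinearGroup.coe_mul, trace_mul_comm,
      ← Matrix.SpecialLinearGroup.coe_mul, inv_mul_cancel_left]
  obtain ⟨r0, hr0, e0⟩ := hmul (-(A' * Bm).trace)
  obtain ⟨r1, hr1, e1⟩ := hmul (1 - (A' * Bm).trace)
  rw [hf, add_neg_cancel] at e0
  rw [hf, add_sub_cancel] at e1
  rcases mul_eq_zero.mp e0.symm with h | h
  · exact hr0 h
  · rw [h, mul_zero] at e1
    exact one_ne_zero e1

end Cfsg.Agent.S2272
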