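import Cfsg.Statements.S2276
import Cfsg.Agent.Lib.AltPPair.Main
-- import your own Cfsg.Agent.* helpers here

set_option autoImplicit false
open Cfsg

namespace Cfsg.Agent.S2276

/-- Let n ≥ 5, p ≥ 3 a prime, and u, w non-identity elements of p-power order in the alternating group A_n. Then there is g ∈ A_n such that u·(g w g⁻¹) does not have p-power order and ⟨u, g w g⁻¹⟩ is not solvable. -/
theorem result (n : ℕ) (hn : 5 ≤ n) (p : ℕ) (hp : p.Prime) (hp3 : 3 ≤ p) (u w : alternatingGroup (Fin n)) (hu : u ≠ 1) (hw : w ≠ 1)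
    (hu' : ∃ k : ℕ, orderOf u = p ^ k) (hw' : ∃ k : ℕ, orderOf w = p ^ k) :
    ∃ g : alternatingGroup (Fin n), (¬ ∃ k : ℕ, orderOf (u * (g * w * g⁻¹)) = p ^ k) ∧
      ¬ Group.IsSolvable ↥(Subgroup.closure ({u, g * w * g⁻¹} : Set (alternatingGroup (Fin n)))) := by
  have hf := (alternatingGroup (Fin n)).subtype_injective
  have hu0 : (u : Equiv.Perm (Fin n)) ≠ 1 := fun e => hu (Subtype.ext e)
  have hw0 : (w : Equiv.Perm (Fin n)) ≠ 1 := fun e => hw (Subtype.ext e)
  obtain ⟨g, hg, h1, h2⟩ := Cfsg.Agent.Lib.AltPPair.main hn hp hp3 hu0 hw0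
    (hu'.imp fun k hk => by rw [Subgroup.orderOf_coe]; exact hk)
    (hw'.imp fun k hk => by rw [Subgroup.orderOf_coe]; exact hk)
  refine ⟨⟨g, Equiv.Perm.mem_alternatingGroup.2 hg⟩, ?_, fun hs => h2 ?_⟩
  · rintro ⟨k, hk⟩
    refine h1 ⟨k, ?_⟩
    rw [← Subgroup.orderOf_coe] at hk
    exact hk
  · set a : alternatingGroup (Fin n) := u
    set b : alternatingGroup (Fin n) := ⟨g, Equiv.Perm.mem_alternatingGroup.2 hg⟩ * w *
      (⟨g, Equiv.Perm.mem_alternatingGroup.2 hg⟩ : alternatingGroup (Fin n))⁻¹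
    haveI := hs
    have e : (Subgroup.closure ({a, b} : Set (alternatingGroup (Fin n)))).map (alternatingGroup (Fin n)).subtype =
        Subgroup.closure ({(a : Equiv.Perm (Fin n)), (b : Equiv.Perm (Fin n))} : Set (Equiv.Perm (Fin n))) := by
      rw [MonoidHom.map_closure, Set.image_pair]
      rfl
    have h := solvable_of_surjective ((alternatingGroup (Fin n)).subtype.subgroupMap_surjective
      (Subgroup.closure ({a, b} : Set (alternatingGroup (Fin n)))))
    rw [e] at h
    exact h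

end Cfsg.Agent.S2276
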