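import Cfsg.Statements.S2277
import Cfsg.Agent.Lib.Coprime.Generation
import Cfsg.Agent.Lib.Coprime.Glauberman

set_option autoImplicit false
open Cfsg

namespace Cfsg.Agent.S2277

open Subgroup
open scoped commutatorElement Pointwise

set_option linter.style.haveILetI false

section Core

variable {V : Type*} [CommGroup V] [Finite V]

/-- The subgroup of fixed points of a set of automorphisms. -/
def fixedSub (s : Set (MulAut V)) : Subgroup V where
  carrier := {v | ∀ r ∈ s, r v = v}
  one_mem' _ _ := map_one _
  mul_mem' {a b} ha hb r hr := by rw [map_mul, ha r hr, hb r hr]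
  inv_mem' {a} ha r hr := by rw [map_inv, ha r hr]

theorem abelian_core (p : ℕ) [Fact p.Prime] (hp3 : 3 ≤ p) (R : Subgroup (MulAut V))
    (hR : IsPGroup p R) (hcop : (Nat.card V).Coprime p)
    (hirr : ∀ W : Subgroup V, (∀ r ∈ R, ∀ w ∈ W, r w ∈ W) → W ≠ ⊤ →
      ∀ r ∈ R, ∀ w ∈ W, r w = w)
    (C D : Set (MulAut V)) (hC : closure C = R) (hD : closure D = R)
    (hdec : ∀ v, ∀ c ∈ C, ∀ d ∈ D, ∃ y z, v = y * z ∧ d y = y ∧ c z = z) : R = ⊥ := by
  classical
  by_contra hne
  have : Nontrivial R := (Subgroup.nontrivial_iff_ne_bot R).mpr hne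
  -- fixed points of R are trivial
  have hF : ∀ v : V, (∀ r ∈ R, r v = v) → v = 1 := by
    haveI : Fintype R := Fintype.ofFinite R
    let T : V →* V :=
      { toFun := fun v => ∏ r : R, (r : MulAut V) v
        map_one' := by simp
        map_mul' := fun a b => by simp [map_mul, Finset.prod_mul_distrib] }
    have hTfix : ∀ v, ∀ r ∈ R, r (T v) = T v := by
      intro v r hr
      show r (∏ s : R, (s : MulAut V) v) = ∏ s : R, (s : MulAut V) v
      rw [map_prod]
      exact Fintype.prod_equiv (Equiv.mulLeft ⟨r, hr⟩) _ _ (fun s => rfl)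
    have hTinv : ∀ v, ∀ r ∈ R, T (r v) = T v := by
      intro v r hr
      show ∏ s : R, (s : MulAut V) (r v) = ∏ s : R, (s : MulAut V) v
      exact Fintype.prod_equiv (Equiv.mulRight ⟨r, hr⟩) _ _ (fun s => rfl)
    have hpow : ∀ v : V, (∀ r ∈ R, r v = v) → T v = v ^ Nat.card R := by
      intro v hv
      show ∏ s : R, (s : MulAut V) v = _
      rw [Finset.prod_congr rfl (fun (s : R) _ => hv _ s.2), Finset.prod_const, Finset.card_univ,
        Nat.card_eq_fintype_card]
    have hcop' : (Nat.card V).Coprime (Nat.card R) := by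
      obtain ⟨k, hk⟩ := IsPGroup.iff_card.mp hR
      rw [hk]; exact hcop.pow_right k
    have hinj : ∀ v : V, (∀ r ∈ R, r v = v) → T v = 1 → v = 1 := by
      intro v hv h1
      rw [hpow v hv] at h1
      apply (powCoprime hcop').injective
      simpa [powCoprime] using h1
    by_cases hK : T.ker = ⊤
    · intro v hv
      exact hinj v hv (MonoidHom.mem_ker.mp (hK ▸ mem_top v))
    · exfalso
      have hfix := hirr T.ker (fun r hr w hw => by
        rw [MonoidHom.mem_ker, hTinv w r hr]; exact MonoidHom.mem_ker.mp hw) hK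
      have hTinj : Function.Injective T := by
        rw [← MonoidHom.ker_eq_bot_iff, eq_bot_iff]
        intro w hw
        exact hinj w (fun r hr => hfix r hr w hw) (MonoidHom.mem_ker.mp hw)
      have hsurj := Finite.injective_iff_surjective.mp hTinj
      refine hne (eq_bot_iff.mpr fun r hr => ?_)
      refine Subgroup.mem_bot.mpr (MulEquiv.ext fun v => ?_)
      obtain ⟨u, rfl⟩ := hsurj v
      exact hTfix u r hr
  -- a central element of R is fixed point free
  have hfpf : ∀ z ∈ R, z ≠ 1 → (∀ r ∈ R, r * z = z * r) → ∀ v : V, z v = v → v = 1 := by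
    intro z hz hz1 hzc v hv
    have hW : fixedSub {z} ≠ ⊤ := by
      intro htop
      refine hz1 (MulEquiv.ext fun w => ?_)
      have : w ∈ fixedSub {z} := htop ▸ mem_top w
      exact this z rfl
    refine hF v fun r hr => hirr (fixedSub {z}) ?_ hW r hr v ?_
    · intro r hr w hw s hs
      rcases hs with rfl
      have := DFunLike.congr_fun (hzc r hr) w
      simp only [MulAut.mul_apply] at this
      rw [← this, hw s rfl]
    · intro s hs
      rcases hs with rfl
      exact hv
  -- a generator from any generating set has few fixed points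
  have hex : ∀ E : Set (MulAut V), closure E = R → ∃ c ∈ E,
      Nat.card (fixedSub {c}) ^ 3 ≤ Nat.card V := by
    intro E hE
    have hER : E ⊆ R := hE ▸ subset_closure
    by_cases hab : ∀ r ∈ R, ∀ s ∈ R, r * s = s * r
    · have : ∃ c ∈ E, c ≠ 1 := by
        by_contra hall
        push Not at hall
        exact hne (hE ▸ (closure_eq_bot_iff).mpr (fun e he => hall e he))
      obtain ⟨c, hc, hc1⟩ := this
      refine ⟨c, hc, ?_⟩
      have : fixedSub {c} = ⊥ := by
        rw [eq_bot_iff]
        intro v hv
        exact hfpf c (hER hc) hc1 (fun r hr => hab r hr c (hER hc)) v (hv c rfl)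
      rw [this, Subgroup.card_bot, one_pow]
      exact Nat.card_pos
    · -- second centre
      have hnab : center R ≠ ⊤ := by
        intro htop
        apply hab
        intro r hr s hs
        have := (Subgroup.mem_center_iff.mp (htop ▸ mem_top (⟨s, hs⟩ : R))) ⟨r, hr⟩
        exact congrArg Subtype.val this
      haveI : Nontrivial (R ⧸ center R) := QuotientGroup.nontrivial_iff.mpr hnab
      have hZne := (hR.to_quotient (center R)).bot_lt_center
      obtain ⟨abar, habar, hne1⟩ := SetLike.exists_of_lt hZne
      obtain ⟨a, rfl⟩ := QuotientGroup.mk_surjective abar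
      have hanc : a ∉ center R := fun h => hne1 (by
        rw [(QuotientGroup.eq_one_iff a).mpr h]; exact one_mem _)
      have hcomm : ∀ r : R, a⁻¹ * r * a * r⁻¹ ∈ center R := by
        intro r
        rw [← QuotientGroup.eq_one_iff]
        have := Subgroup.mem_center_iff.mp habar (r : R ⧸ center R)
        simp only [QuotientGroup.mk_mul, QuotientGroup.mk_inv, mul_assoc]
        rw [← mul_assoc (r : R ⧸ center R), this]
        group
      have : ∃ c ∈ E, ¬ c * (a : MulAut V) = (a : MulAut V) * c := by
        by_contra hall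
        push Not at hall
        apply hanc
        rw [Subgroup.mem_center_iff]
        intro r
        apply Subtype.ext
        have hle : closure E ≤ centralizer {(a : MulAut V)} :=
          (closure_le _).mpr fun e he => mem_centralizer_singleton_iff.mpr (hall e he)
        rw [hE] at hle
        exact mem_centralizer_singleton_iff.mp (hle r.2)
      obtain ⟨c, hc, hca⟩ := this
      refine ⟨c, hc, ?_⟩
      set cR : R := ⟨c, hER hc⟩ with hcR
      set zR : R := a⁻¹ * cR * a * cR⁻¹ with hzR
      have hzc : ∀ r ∈ R, r * (zR : MulAut V) = zR * r := fun r hr =>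
        congrArg Subtype.val (Subgroup.mem_center_iff.mp (hcomm cR) ⟨r, hr⟩)
      have hz1 : zR ≠ 1 := by
        intro h
        apply hca
        have h2 : cR * a = a * cR := by
          have h3 := congrArg (fun t => a * t * cR) h
          simpa [hzR, mul_assoc] using h3
        exact congrArg Subtype.val h2
      have hz2 : zR ^ 2 ≠ 1 := by
        intro h
        obtain ⟨k, hk⟩ := IsPGroup.iff_orderOf.mp hR zR
        have hd := orderOf_dvd_of_pow_eq_one h
        rw [hk] at hd
        rcases k with _ | k
        · exact hz1 (orderOf_eq_one_iff.mp (by rw [hk, pow_zero]))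
        · have := Nat.le_of_dvd (by omega) ((dvd_pow_self p (Nat.succ_ne_zero k)).trans hd)
          omega
      set z : MulAut V := (zR : MulAut V) with hz
      have hzF : ∀ v : V, z v = v → v = 1 :=
        hfpf z zR.2 (fun h => hz1 (Subtype.ext h)) hzc
      have hz2F : ∀ v : V, z (z v) = v → v = 1 := by
        intro v hv
        refine hfpf (z * z) (mul_mem zR.2 zR.2) (fun h => hz2 (Subtype.ext ?_))
          (fun r hr => ?_) v hv
        · simpa [pow_two, hz] using h
        · rw [← mul_assoc, hzc r hr, mul_assoc, hzc r hr, ← mul_assoc]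
      set A : MulAut V := (a : MulAut V) with hA
      have hcA : ∀ v, c (A v) = A (z (c v)) := by
        have h2 : cR * a = a * (zR * cR) := by rw [hzR]; group
        intro v
        exact DFunLike.congr_fun (congrArg Subtype.val h2) v
      have hzA : ∀ v, z (A v) = A (z v) := fun v => (DFunLike.congr_fun (hzc A a.2) v).symm
      have hzcv : ∀ v, c (z v) = z (c v) := fun v => DFunLike.congr_fun (hzc c (hER hc)) v
      set U := fixedSub ({c} : Set (MulAut V))
      let f : U × U × U → V := fun t => (t.1 : V) * A t.2.1 * A (A t.2.2)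
      have hf : Function.Injective f := by
        suffices h0 : ∀ u v w : V, c u = u → c v = v → c w = w →
            u * A v * A (A w) = 1 → u = 1 ∧ v = 1 ∧ w = 1 by
          rintro ⟨⟨u, hu⟩, ⟨v, hv⟩, ⟨w, hw⟩⟩ ⟨⟨u', hu'⟩, ⟨v', hv'⟩, ⟨w', hw'⟩⟩ h
          have hmem : ∀ {x y : V}, x ∈ U → y ∈ U → c (x / y) = x / y := fun hx hy =>
            (div_mem hx hy : _ ∈ U) c rfl
          obtain ⟨h1, h2, h3⟩ := h0 (u / u') (v / v') (w / w') (hmem hu hu') (hmem hv hv')
            (hmem hw hw') (by
              have e : u * A v * A (A w) = u' * A v' * A (A w') := h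
              rw [map_div, map_div, map_div, div_mul_div_comm, div_mul_div_comm, e, div_self'])
          simp only [div_eq_one] at h1 h2 h3
          subst h1; subst h2; subst h3; rfl
        intro u v w hu hv hw h
        have hcv : c (A v) = z (A v) := by rw [hcA, hv, hzA]
        have hcw : c (A (A w)) = z (z (A (A w))) := by
          rw [hcA, hcA, hw]
          simp only [hzA]
        have h' : u * z (A v) * z (z (A (A w))) = 1 := by
          rw [← hcv, ← hcw]
          nth_rw 1 [← hu]
          rw [← map_mul, ← map_mul, h, map_one]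
        set v1 := A v with hv1
        set w2 := A (A w) with hw2
        set s := z v1 / v1 with hs
        set t := z (z w2) / w2 with ht
        have hst : s * t = 1 := by
          rw [hs, ht, div_mul_div_comm, div_eq_one]
          have h'' := h'.trans h.symm
          rw [mul_assoc, mul_assoc] at h''
          exact mul_left_cancel h''
        have hcs : c s = z s := by
          rw [hs, map_div, hzcv, hcv, ← map_div]
        have hct : c t = z (z t) := by
          rw [ht, map_div, hzcv, hzcv, hcw, ← map_div, ← map_div]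
        have hts : t = s⁻¹ := eq_inv_of_mul_eq_one_right hst
        have hs1 : s = 1 := by
          rw [hts, map_inv, hcs, map_inv, map_inv, inv_inj] at hct
          have := hzF (z s) hct.symm
          exact z.injective (this.trans (map_one z).symm)
        have hv' : v1 = 1 := hzF v1 (div_eq_one.mp hs1)
        have ht1 : t = 1 := by rw [hts, hs1, inv_one]
        have hw' : w2 = 1 := hz2F w2 (div_eq_one.mp ht1)
        have hv0 : v = 1 := A.injective (hv'.trans (map_one A).symm)
        have hw0 : w = 1 := A.injective (A.injective (by rw [← hw2, hw', map_one, map_one]))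
        refine ⟨?_, hv0, hw0⟩
        rw [hv', hw', mul_one, mul_one] at h
        exact h
      have := Nat.card_le_card_of_injective f hf
      rw [Nat.card_prod, Nat.card_prod] at this
      rw [pow_three]
      exact this
  obtain ⟨c, hc, hcc⟩ := hex C hC
  obtain ⟨d, hd, hdd⟩ := hex D hD
  have hsurj : Function.Surjective
      (fun t : fixedSub ({d} : Set (MulAut V)) × fixedSub ({c} : Set (MulAut V)) =>
        (t.1 : V) * t.2) := by
    intro v
    obtain ⟨y, z, rfl, hy, hz⟩ := hdec v c hc d hd
    exact ⟨⟨⟨y, fun r hr => by rcases hr with rfl; exact hy⟩,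
      ⟨z, fun r hr => by rcases hr with rfl; exact hz⟩⟩, rfl⟩
  have hle := Nat.card_le_card_of_surjective _ hsurj
  rw [Nat.card_prod] at hle
  set n := Nat.card V
  set x := Nat.card (fixedSub ({d} : Set (MulAut V)))
  set y := Nat.card (fixedSub ({c} : Set (MulAut V)))
  have h3 : n ^ 3 ≤ n ^ 2 := calc
    n ^ 3 ≤ (x * y) ^ 3 := Nat.pow_le_pow_left hle 3
    _ = x ^ 3 * y ^ 3 := mul_pow _ _ _
    _ ≤ n * n := Nat.mul_le_mul hdd hcc
    _ = n ^ 2 := (pow_two n).symm
  have hn1 : n = 1 := by
    by_contra h
    have : 1 < n := lt_of_le_of_ne Nat.card_pos (Ne.symm h)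
    exact absurd h3 (not_le.mpr (Nat.pow_lt_pow_right this (by norm_num)))
  haveI := (Nat.card_eq_one_iff_unique.mp hn1).1
  exact hne (eq_bot_iff.mpr fun r _ => Subgroup.mem_bot.mpr (MulEquiv.ext fun v => Subsingleton.elim _ _))

end Core

theorem qgroup_case {G : Type*} [Group G] [Finite G] (p : ℕ) [Fact p.Prime] (hp3 : 3 ≤ p)
    (P N : Subgroup G) (hP : IsPGroup p P) (hN : (Nat.card N).Coprime p)
    (C D : Set G) (hC : closure C = P) (hD : closure D = P)
    (hdec : ∀ U : Subgroup G, U ≤ N → P ≤ normalizer (U : Set G) → ∀ x ∈ U, ∀ c ∈ C, ∀ d ∈ D,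
      ∃ y ∈ U, Commute y d ∧ Commute (y⁻¹ * x) c)
    (q : ℕ) [Fact q.Prime] :
    ∀ (n : ℕ) (U : Subgroup G), Nat.card U = n → U ≤ N → P ≤ normalizer (U : Set G) →
      IsPGroup q U → P ≤ centralizer (U : Set G) := by
  intro n
  induction n using Nat.strong_induction_on with
  | _ n IH =>
    intro U hn hUN hPU hUq
    by_cases hU : U = ⊥
    · subst hU
      intro g _
      rw [mem_centralizer_iff]
      intro x hx
      rw [Subgroup.mem_bot.mp hx]; simp
    haveI : Nontrivial U := (Subgroup.nontrivial_iff_ne_bot U).mpr hU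
    haveI : Group.IsNilpotent U := hUq.isNilpotent
    let V := Abelianization U
    let φ : P →* MulAut V := MonoidHom.mk'
      (fun g => (U.normalizerMonoidHom ⟨g, hPU g.2⟩).abelianizationCongr) (fun g h => by
        apply MulEquiv.ext
        intro v
        induction v using QuotientGroup.induction_on with
        | H u =>
          exact congrArg Abelianization.of (DFunLike.congr_fun
            (map_mul U.normalizerMonoidHom ⟨g, hPU g.2⟩ ⟨h, hPU h.2⟩) u))
    have hφ : ∀ (g : P) (u : U), φ g (Abelianization.of u) =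
        Abelianization.of (U.normalizerMonoidHom ⟨g, hPU g.2⟩ u) := fun g u => rfl
    have hφval : ∀ (g : P) (u : U),
        ((U.normalizerMonoidHom ⟨g, hPU g.2⟩ u : U) : G) = (g : G) * u * (g : G)⁻¹ :=
      fun g u => rfl
    have hgen : ∀ E : Set G, closure E = P → closure (φ '' (P.subtype ⁻¹' E)) = φ.range := by
      intro E hE
      have : closure (P.subtype ⁻¹' E) = ⊤ := by
        apply map_injective P.subtype_injective
        rw [MonoidHom.map_closure, ← MonoidHom.range_eq_map, range_subtype,
          Set.image_preimage_eq_of_subset (by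
            intro e he
            exact ⟨⟨e, hE ▸ subset_closure he⟩, rfl⟩), hE]
      rw [← MonoidHom.map_closure, this, MonoidHom.range_eq_map]
    have hcard : (Nat.card V).Coprime p :=
      hN.coprime_dvd_left ((card_dvd_of_surjective (Abelianization.of (G := U))
        QuotientGroup.mk_surjective).trans (card_dvd_of_le hUN))
    have hbot : φ.range = ⊥ := by
      refine abelian_core p hp3 φ.range ?_ hcard ?_ _ _ (hgen C hC) (hgen D hD) ?_
      · exact hP.of_surjective φ.rangeRestrict φ.rangeRestrict_surjective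
      · intro W hW hWtop r hr w hw
        obtain ⟨g, rfl⟩ := hr
        obtain ⟨u, rfl⟩ := QuotientGroup.mk_surjective w
        set W' := (W.comap Abelianization.of).map U.subtype with hW'
        have hWle : W' ≤ U := map_subtype_le _
        have hlt : Nat.card W' < n := by
          rw [← hn]
          refine lt_of_le_of_ne (card_le_of_le hWle) fun h => hWtop ?_
          have heq : W' = U := eq_of_le_of_card_ge hWle h.ge
          rw [eq_top_iff]
          intro v _
          obtain ⟨x, rfl⟩ := QuotientGroup.mk_surjective v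
          have hx : (x : G) ∈ W' := heq.symm ▸ x.2
          obtain ⟨x', hx', hxx⟩ := hx
          have : x' = x := Subtype.ext hxx
          exact this ▸ hx'
        have hWn : P ≤ normalizer (W' : Set G) := by
          rw [le_normalizer_iff]
          rintro b hb _ ⟨y, hy, rfl⟩
          exact ⟨U.normalizerMonoidHom ⟨b, hPU hb⟩ y, hW _ ⟨⟨b, hb⟩, rfl⟩ _ hy, rfl⟩
        have hcent := IH _ hlt W' rfl (hWle.trans hUN) hWn (hUq.to_le hWle)
        have hu : (u : G) ∈ W' := ⟨u, hw, rfl⟩
        have := mem_centralizer_iff.mp (hcent g.2) _ hu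
        show φ g (Abelianization.of u) = Abelianization.of u
        rw [hφ]
        congr 1
        apply Subtype.ext
        rw [hφval, ← this, mul_inv_cancel_right]
      · rintro v _ ⟨c, hc, rfl⟩ _ ⟨d, hd, rfl⟩
        obtain ⟨u, rfl⟩ := QuotientGroup.mk_surjective v
        obtain ⟨y, hy, hyd, hyc⟩ := hdec U hUN hPU u u.2 _ hc _ hd
        refine ⟨Abelianization.of ⟨y, hy⟩, Abelianization.of (⟨y, hy⟩⁻¹ * u), ?_, ?_, ?_⟩
        · rw [← map_mul, mul_inv_cancel_left]; rfl
        · rw [hφ]
          congr 1
          apply Subtype.ext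
          rw [hφval]
          show (d : G) * y * (d : G)⁻¹ = y
          rw [← show y * (d : G) = d * y from hyd, mul_inv_cancel_right]
        · rw [hφ]
          congr 1
          apply Subtype.ext
          rw [hφval]
          show (c : G) * (y⁻¹ * u) * (c : G)⁻¹ = y⁻¹ * u
          rw [← show y⁻¹ * (u : G) * (c : G) = c * (y⁻¹ * u) from hyc, mul_inv_cancel_right]
    have hUU : ⁅U, P⁆ ≤ ⁅U, U⁆ := by
      rw [commutator_le]
      intro u hu g hg
      have h1 : φ ⟨g, hg⟩ = 1 := by
        have : φ ⟨g, hg⟩ ∈ φ.range := ⟨_, rfl⟩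
        rwa [hbot, Subgroup.mem_bot] at this
      have h2 := DFunLike.congr_fun h1 (Abelianization.of ⟨u, hu⟩)
      rw [hφ, MulAut.one_apply] at h2
      have h3 : ⟨u, hu⟩ * (U.normalizerMonoidHom ⟨g, hPU hg⟩ ⟨u, hu⟩)⁻¹ ∈ commutator U := by
        rw [← Abelianization.ker_of, MonoidHom.mem_ker, map_mul, map_inv, h2, mul_inv_cancel]
      rw [← map_subtype_commutator]
      refine ⟨_, h3, ?_⟩
      show u * (g * u * g⁻¹)⁻¹ = ⁅u, g⁆
      rw [commutatorElement_def]; group
    have hDle : ⁅U, U⁆ ≤ U := commutator_le_self U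
    have hDlt : Nat.card (⁅U, U⁆ : Subgroup G) < n := by
      rw [← hn, ← map_subtype_commutator,
        Nat.card_congr ((commutator U).equivMapOfInjective _ U.subtype_injective).toEquiv.symm,
        ← Nat.card_congr (topEquiv (G := U)).toEquiv]
      refine lt_of_le_of_ne (card_le_of_le le_top) fun h => ?_
      exact (Group.IsSolvable.commutator_lt_top_of_nontrivial (G := U)).ne
        (eq_of_le_of_card_ge le_top h.ge)
    have hPD : P ≤ normalizer ((⁅U, U⁆ : Subgroup G) : Set G) := by
      rw [le_normalizer_iff, ← map_subtype_commutator]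
      rintro b hb _ ⟨y, hy, rfl⟩
      exact ⟨U.normalizerMonoidHom ⟨b, hPU hb⟩ y,
        Subgroup.characteristic_iff_map_le.mp inferInstance
          (U.normalizerMonoidHom ⟨b, hPU hb⟩) ⟨y, hy, rfl⟩, rfl⟩
    have hDc := IH _ hDlt _ rfl (hDle.trans hUN) hPD (hUq.to_le hDle)
    refine Lib.Coprime.le_centralizer_of_series ?_ hUU ?_
    · obtain ⟨k, hk⟩ := IsPGroup.iff_card.mp hP
      rw [hk]
      exact ((hN.coprime_dvd_left (card_dvd_of_le (hDle.trans hUN))).pow_right k).symm
    · rw [commutator_comm, commutator_eq_bot_iff_le_centralizer]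
      exact hDc

/-- Let p ≥ 3 be prime and G a finite group with a Sylow p-subgroup P and a normal p-complement N (N normal, of order prime to p, with NP = G). Suppose P is generated by a subset C and also by a subset D, and that ⟨x c x⁻¹, d⟩ is a p-group for all x ∈ N, c ∈ C, d ∈ D. Then P centralizes N, so that G = N × P. -/
theorem result {G : Type*} [Group G] [Finite G] (p : ℕ) [Fact p.Prime] (hp3 : 3 ≤ p) (P : Sylow p G)
    (N : Subgroup G) [N.Normal] (hN : (Nat.card N).Coprime p) (hNP : N ⊔ (P : Subgroup G) = ⊤)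
    (C D : Set G) (hC : Subgroup.closure C = (P : Subgroup G)) (hD : Subgroup.closure D = (P : Subgroup G))
    (h : ∀ x ∈ N, ∀ c ∈ C, ∀ d ∈ D, IsPGroup p ↥(Subgroup.closure ({x * c * x⁻¹, d} : Set G))) :
    ⁅(P : Subgroup G), N⁆ = ⊥ := by
  have hPN : ∀ g : G, g ∈ (P : Subgroup G) → g ∈ N → g = 1 := by
    intro g h1 h2
    obtain ⟨k, hk⟩ := IsPGroup.iff_orderOf.mp P.2 ⟨g, h1⟩
    rw [Subgroup.orderOf_mk] at hk
    have hd := Subgroup.orderOf_dvd_natCard N h2
    have := Nat.eq_one_of_dvd_coprimes (hN.pow_right k) hd (dvd_of_eq hk)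
    exact orderOf_eq_one_iff.mp this
  have hdec : ∀ U : Subgroup G, U ≤ N → (P : Subgroup G) ≤ normalizer (U : Set G) →
      ∀ x ∈ U, ∀ c ∈ C, ∀ d ∈ D, ∃ y ∈ U, Commute y d ∧ Commute (y⁻¹ * x) c := by
    intro U hUN hPU x hx c hc d hd
    have hcP : c ∈ (P : Subgroup G) := hC ▸ subset_closure hc
    have hdP : d ∈ (P : Subgroup G) := hD ▸ subset_closure hd
    set H := U ⊔ (P : Subgroup G) with hH
    set K := closure ({x * c * x⁻¹, d} : Set G) with hK
    have hKH : K ≤ H := by
      rw [hK, closure_le]
      rintro t (rfl | rfl)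
      · exact mul_mem (mul_mem (mem_sup_left hx) (mem_sup_right hcP)) (inv_mem (mem_sup_left hx))
      · exact mem_sup_right hdP
    have hKp : IsPGroup p (K.subgroupOf H) :=
      (h x (hUN hx) c hc d hd).of_equiv (subgroupOfEquivOfLe hKH).symm
    obtain ⟨Q, hQ⟩ := hKp.exists_le_sylow
    obtain ⟨⟨g, hg⟩, hgQ⟩ := MulAction.exists_smul_eq H (P.subtype le_sup_right : Sylow p H) Q
    have hconj : ∀ t ∈ K, g⁻¹ * t * g ∈ (P : Subgroup G) := by
      intro t ht
      have hmem : (⟨t, hKH ht⟩ : H) ∈ (Q : Subgroup H) := hQ (mem_subgroupOf.mpr ht)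
      rw [← hgQ, Sylow.coe_subgroup_smul, Subgroup.mem_pointwise_smul_iff_inv_smul_mem] at hmem
      rw [Sylow.coe_subtype, mem_subgroupOf] at hmem
      simpa using hmem
    have hgUP : g ∈ ((U : Set G) * ((P : Subgroup G) : Set G)) := by
      rw [← coe_mul_of_right_le_normalizer_left _ _ hPU]
      exact hg
    obtain ⟨y, hy, e, he, rfl⟩ := hgUP
    have hconj' : ∀ t ∈ K, y⁻¹ * t * y ∈ (P : Subgroup G) := by
      intro t ht
      have := mul_mem (mul_mem he (hconj t ht)) (inv_mem he)
      simpa [mul_assoc] using this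
    have key : ∀ (s w : G), s ∈ (P : Subgroup G) → w ∈ N → w * s * w⁻¹ ∈ (P : Subgroup G) →
        Commute w s := by
      intro s w hs hw hws
      have h1 : w * s * w⁻¹ * s⁻¹ ∈ N := by
        have := ‹N.Normal›.conj_mem _ (inv_mem hw) s
        simpa [mul_assoc] using mul_mem hw this
      have h2 := hPN _ (mul_mem hws (inv_mem hs)) h1
      rw [mul_inv_eq_one, mul_inv_eq_iff_eq_mul] at h2
      exact h2
    refine ⟨y, hy, ?_, ?_⟩
    · have := key d y⁻¹ hdP (inv_mem (hUN hy)) (by
        simpa using hconj' d (subset_closure (Or.inr rfl)))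
      simpa using this.inv_left
    · refine key c _ hcP (mul_mem (inv_mem (hUN hy)) (hUN hx)) ?_
      have := hconj' _ (subset_closure (Or.inl rfl))
      simpa [mul_assoc] using this
  rw [commutator_eq_bot_iff_le_centralizer, le_centralizer_iff]
  have hcop : (Nat.card (P : Subgroup G)).Coprime (Nat.card N) := by
    obtain ⟨k, hk⟩ := IsPGroup.iff_card.mp P.2
    rw [hk]
    exact (hN.pow_right k).symm
  have hPnorm : (P : Subgroup G) ≤ normalizer (N : Set G) := by
    rw [normalizer_eq_top]; exact le_top
  haveI : Group.IsNilpotent (P : Subgroup G) := P.2.isNilpotent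
  refine Lib.Coprime.le_of_forall_sylow fun q hq => ?_
  haveI := Fact.mk hq
  obtain ⟨Q, hQ⟩ := Lib.Coprime.exists_invariant_sylow hPnorm hcop (Or.inl inferInstance) q
  refine ⟨Q, le_centralizer_iff.mp (qgroup_case p hp3 _ N P.2 hN C D hC hD hdec q _ _ rfl
    (map_subtype_le _) hQ (Q.2.map _))⟩

end Cfsg.Agent.S2277
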