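import Cfsg.Statements.S2281
import Cfsg.Agent.Lib.GenSp.Four

set_option autoImplicit false
open Cfsg

namespace Cfsg.Agent.S2281

/-- Let F be a finite field and n ≥ 2, excluding the case n = 2 with F of two elements (where the group is not quasisimple). Then the symplectic group Sp_2n(F) is generated by three conjugate regular unipotent elements: there are u ∈ Sp_2n(F) with u − 1 nilpotent and (u − 1)^(2n−1) ≠ 0, and g, h ∈ Sp_2n(F), such that u, g u g⁻¹ and h u h⁻¹ generate Sp_2n(F). -/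
theorem result {F : Type*} [Field F] [Fintype F] (n : ℕ) (hn : 2 ≤ n) (h22 : ¬ (n = 2 ∧ Fintype.card F = 2)) :
    ∃ u g h : Matrix.symplecticGroup (Fin n) F,
      IsNilpotent ((u : Matrix (Fin n ⊕ Fin n) (Fin n ⊕ Fin n) F) - 1) ∧
      ((u : Matrix (Fin n ⊕ Fin n) (Fin n ⊕ Fin n) F) - 1) ^ (2 * n - 1) ≠ 0 ∧
      Subgroup.closure ({u, g * u * g⁻¹, h * u * h⁻¹} : Set (Matrix.symplecticGroup (Fin n) F)) = ⊤ := by
  classical
  haveI : Finite F := Finite.of_fintype F
  suffices h : Cfsg.Agent.Lib.GenSp.SpGen n F by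
    obtain ⟨g, h, hK⟩ := h
    obtain ⟨h1, h2⟩ := Cfsg.Agent.Lib.GenSp.uSp_regular (n := n) (F := F) (by omega)
    exact ⟨_, g, h, h1, h2, hK⟩
  by_cases h2 : (2 : F) = 0
  swap
  · exact Cfsg.Agent.Lib.GenSp.spGen_odd hn h2
  by_cases hq : ∃ t : F, t ≠ 0 ∧ t ≠ 1
  · rcases eq_or_ne n 2 with rfl | h3
    · exact Cfsg.Agent.Lib.GenSp.spGen_four h2 hq
    · exact Cfsg.Agent.Lib.GenSp.spGen_even (by omega) h2 hq
  · have hF : ∀ t : F, t = 0 ∨ t = 1 := fun t => by
      by_contra h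
      exact hq ⟨t, fun e => h (Or.inl e), fun e => h (Or.inr e)⟩
    refine Cfsg.Agent.Lib.GenSp.spGen_two ?_ hF
    by_contra h
    refine h22 ⟨by omega, ?_⟩
    have hu : (Finset.univ : Finset F) = {0, 1} := by
      ext t; simpa using hF t
    rw [← Finset.card_univ, hu, Finset.card_pair zero_ne_one]

end Cfsg.Agent.S2281
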