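import Cfsg.Statements.S2284
import Cfsg.Agent.Lib.ShortPresSym.Subst

set_option autoImplicit false
open Cfsg

namespace Cfsg.Agent.S2284

theorem trivial_pres (H : Type) [Group H] [Subsingleton H] :
    ∃ rels : Finset (FreeGroup (Fin 2)), rels.card ≤ 8 ∧
      Nonempty (PresentedGroup (↑rels : Set (FreeGroup (Fin 2))) ≃* H) := by
  classical
  set R : Finset (FreeGroup (Fin 2)) := Finset.univ.image FreeGroup.of
  have htop : ∀ x : PresentedGroup (↑R : Set (FreeGroup (Fin 2))), x = 1 := by
    have h : (⊤ : Subgroup (PresentedGroup (↑R : Set (FreeGroup (Fin 2))))) ≤ ⊥ := by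
      rw [← PresentedGroup.closure_range_of, Subgroup.closure_le]
      rintro _ ⟨i, rfl⟩
      rw [SetLike.mem_coe, Subgroup.mem_bot]
      exact PresentedGroup.one_of_mem (Finset.mem_coe.2 (Finset.mem_image_of_mem _ (Finset.mem_univ i)))
    exact fun x => Subgroup.mem_bot.1 (h (Subgroup.mem_top x))
  haveI : Subsingleton (PresentedGroup (↑R : Set (FreeGroup (Fin 2)))) :=
    ⟨fun x y => by rw [htop x, htop y]⟩
  refine ⟨R, Finset.card_image_le.trans (by simp), ⟨?_⟩⟩
  exact
    { toFun := fun _ => 1
      invFun := fun _ => 1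
      left_inv := fun _ => Subsingleton.elim _ _
      right_inv := fun _ => Subsingleton.elim _ _
      map_mul' := fun _ _ => Subsingleton.elim _ _ }

theorem perm_two :
    ∃ rels : Finset (FreeGroup (Fin 2)), rels.card ≤ 8 ∧
      Nonempty (PresentedGroup (↑rels : Set (FreeGroup (Fin 2))) ≃* Equiv.Perm (Fin 2)) := by
  classical
  set R : Finset (FreeGroup (Fin 2)) := {FreeGroup.of 0 ^ 2, FreeGroup.of 1}
  let f : Fin 2 → Equiv.Perm (Fin 2) := ![Equiv.swap 0 1, 1]
  have hf : ∀ r ∈ (↑R : Set (FreeGroup (Fin 2))), FreeGroup.lift f r = 1 := by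
    intro r hr
    simp only [R, Finset.coe_insert, Finset.coe_singleton, Set.mem_insert_iff,
      Set.mem_singleton_iff] at hr
    rcases hr with rfl | rfl <;> simp [f, pow_two]
  let F := PresentedGroup.toGroup hf
  have hsurj : Function.Surjective F := by
    intro x
    have : x = 1 ∨ x = Equiv.swap 0 1 := by revert x; decide
    rcases this with rfl | rfl
    · exact ⟨1, map_one F⟩
    · exact ⟨PresentedGroup.of 0, PresentedGroup.toGroup.of hf⟩
  set a : PresentedGroup (↑R : Set (FreeGroup (Fin 2))) := PresentedGroup.of 0 with ha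
  have ha2 : a * a = 1 := by
    rw [ha, ← pow_two]
    exact PresentedGroup.one_of_mem (x := FreeGroup.of 0 ^ 2) (by simp [R])
  have h1 : (PresentedGroup.of 1 : PresentedGroup (↑R : Set (FreeGroup (Fin 2)))) = 1 :=
    PresentedGroup.one_of_mem (x := FreeGroup.of 1) (by simp [R])
  let U : Subgroup (PresentedGroup (↑R : Set (FreeGroup (Fin 2)))) :=
    { carrier := {x | x = 1 ∨ x = a}
      one_mem' := Or.inl rfl
      mul_mem' := by
        rintro x y (rfl | rfl) (rfl | rfl) <;> simp [ha2]
      inv_mem' := by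
        rintro x (rfl | rfl)
        · simp
        · exact Or.inr (inv_eq_of_mul_eq_one_right ha2) }
  have htop : ∀ x, x = 1 ∨ x = a := fun x => by
    refine PresentedGroup.generated_by (↑R : Set (FreeGroup (Fin 2))) U (fun j => ?_) x
    fin_cases j
    · exact Or.inr rfl
    · exact Or.inl h1
  let G2 : Bool → PresentedGroup (↑R : Set (FreeGroup (Fin 2))) := fun b => if b then a else 1
  have hG2 : Function.Surjective G2 := fun x => by
    rcases htop x with rfl | rfl
    · exact ⟨false, rfl⟩
    · exact ⟨true, rfl⟩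
  haveI : Finite (PresentedGroup (↑R : Set (FreeGroup (Fin 2)))) := Finite.of_surjective G2 hG2
  refine ⟨R, Finset.card_le_two.trans (by omega), ⟨MulEquiv.ofBijective F
    (hsurj.bijective_of_nat_card_le ((Nat.card_le_card_of_surjective G2 hG2).trans ?_))⟩⟩
  simp [Nat.card_eq_fintype_card, Fintype.card_perm]

/-- For every n, the symmetric group S_n and the alternating group A_n each have a presentation with 2 generators and at most 8 relations. -/
theorem result (n : ℕ) : (∃ rels : Finset (FreeGroup (Fin 2)), rels.card ≤ 8 ∧ Nonempty (PresentedGroup (↑rels : Set (FreeGroup (Fin 2))) ≃* Equiv.Perm (Fin n))) ∧ (∃ rels : Finset (FreeGroup (Fin 2)), rels.card ≤ 8 ∧ Nonempty (PresentedGroup (↑rels : Set (FreeGroup (Fin 2))) ≃* ↥(alternatingGroup (Fin n)))) := by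
  rcases Nat.lt_or_ge n 5 with h | h
  · interval_cases n
    · exact ⟨trivial_pres _, trivial_pres _⟩
    · exact ⟨trivial_pres _, trivial_pres _⟩
    · haveI : Subsingleton (alternatingGroup (Fin 2)) := ⟨by decide⟩
      exact ⟨perm_two, trivial_pres _⟩
    · exact ⟨Lib.ShortPresSym.hasPres_three.1.two_eight, Lib.ShortPresSym.hasPres_three.2.two_eight⟩
    · exact ⟨Lib.ShortPresSym.hasPres_four.1.two_eight, Lib.ShortPresSym.hasPres_four.2.two_eight⟩
  · obtain ⟨h1, h2⟩ := Lib.ShortPresSym.hasPres_all n h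
    exact ⟨h1.two_eight, h2.two_eight⟩

end Cfsg.Agent.S2284
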