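import Cfsg.Statements.S2290
import Cfsg.Agent.Lib.ShortPresSLn.Final
import Cfsg.Agent.Lib.ShortPresSLn.TwoGenSL2
import Cfsg.Agent.S2278
import Cfsg.Agent.Lib.ShortPresSL3.Main
import Cfsg.Agent.S2279
import Cfsg.Agent.S2286

set_option autoImplicit false
open Cfsg

namespace Cfsg.Agent.S2290

/-- For every finite field F with q elements and n ≥ 2, with q ≥ 4 when n = 2, the simple group PSL_n(F) has a presentation with 2 generators and at most 80 relations. -/
theorem result {F : Type*} [Field F] [Fintype F] (n : ℕ) (hn : 2 ≤ n) (h2 : n = 2 → 4 ≤ Fintype.card F) :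
    ∃ rels : Finset (FreeGroup (Fin 2)), rels.card ≤ 80 ∧ Nonempty (PresentedGroup (↑rels : Set (FreeGroup (Fin 2))) ≃* Matrix.ProjectiveSpecialLinearGroup (Fin n) F) := by
  classical
  have key : ∀ a r, r ≤ 78 → Lib.ShortPresSLn.HasPres a r (Matrix.ProjectiveSpecialLinearGroup (Fin n) F) →
      (∃ u v : Matrix.SpecialLinearGroup (Fin n) F, Subgroup.closure ({u, v} : Set _) = ⊤) →
      Lib.ShortPresSLn.HasPres 2 80 (Matrix.ProjectiveSpecialLinearGroup (Fin n) F) := by
    rintro a r hr hp ⟨u, v, huv⟩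
    refine (hp.change ![QuotientGroup.mk' _ u, QuotientGroup.mk' _ v] ?_).mono (by omega)
    have h := congrArg (Subgroup.map (QuotientGroup.mk' (Subgroup.center (Matrix.SpecialLinearGroup (Fin n) F)))) huv
    rw [MonoidHom.map_closure, Subgroup.map_top_of_surjective _ (QuotientGroup.mk'_surjective _), Set.image_pair] at h
    rw [Matrix.range_cons, Matrix.range_cons, Matrix.range_empty, Set.union_empty, Set.singleton_union]
    exact h
  rcases Nat.lt_or_ge n 4 with h4 | h4
  · interval_cases n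
    · exact key 3 9 (by norm_num) (S2286.result (F := F)).2.1 (Lib.ShortPresSLn.exists_two_gen_sl2 (h2 rfl))
    · obtain ⟨u, g, -, -, hg⟩ := S2278.result (F := F)
      obtain ⟨p, hchar⟩ := CharP.exists F
      haveI : Fact p.Prime := ⟨CharP.char_is_prime F p⟩
      letI : Algebra (ZMod p) F := ZMod.algebra F p
      have hp : Lib.ShortPresSLn.HasPres 4 14 (Matrix.SpecialLinearGroup (Fin 3) F) :=
        Lib.ShortPresSL3.exists_fourteen p
      exact key 4 15 (by norm_num) hp.psl ⟨u, g * u * g⁻¹, hg⟩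
  · obtain ⟨u, v, -, -, huv⟩ := (S2279.result (F := F) n h4).1
    exact key 7 26 (by norm_num) (Lib.ShortPresSLn.hasPres_sl n h4).psl ⟨u, v, huv⟩

end Cfsg.Agent.S2290
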