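import Cfsg.Statements.S2291
import Cfsg.Agent.Lib.ShortPresSU.Final
import Cfsg.Agent.Lib.PSUTwoGen49.Gens
import Cfsg.Agent.Lib.PSpTwoGen49.Main

set_option autoImplicit false
open Cfsg

namespace Cfsg.Agent.S2291

/-- Let F be a field with q² elements and n ≥ 3 with (n, q) ≠ (3, 2). Then the simple group PSU_n(q) (for the standard Hermitian form) has a presentation with 2 generators and at most 80 relations. -/
theorem result {F : Type*} [Field F] [Fintype F] (q n : ℕ) (hF : Fintype.card F = q ^ 2) (hn : 3 ≤ n) (h32 : ¬ (n = 3 ∧ q = 2)) :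
    ∃ rels : Finset (FreeGroup (Fin 2)), rels.card ≤ 80 ∧ Nonempty (PresentedGroup (↑rels : Set (FreeGroup (Fin 2))) ≃* Cfsg.PSU n F q) := by
  obtain ⟨k, r, hr, h⟩ : ∃ k r, r ≤ 39 ∧ Lib.ShortPresSLn.HasPres k r (Cfsg.SU n F q) := by
    rcases Nat.lt_or_ge n 4 with h3 | h4
    · obtain rfl : n = 3 := by omega
      exact ⟨3, 23, by omega, Lib.ShortPresSU.hasPres_three hF fun h => h32 ⟨rfl, h⟩⟩
    · exact ⟨6, _, by split_ifs <;> omega, Lib.ShortPresSU.hasPres_SU hF h4⟩
  obtain ⟨a, b, hab⟩ := Lib.PSpTwoGen49.quotient_two_generated (Subgroup.center (Cfsg.SU n F q))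
    (Lib.PSUTwoGen49.su_two_generated hF hn h32)
  have hP := (Lib.ShortPresSU3.hasPres_PSU hF (show 2 ≤ n by omega) h).change ![a, b] (by
    rw [Matrix.range_cons, Matrix.range_cons, Matrix.range_empty, Set.union_empty, Set.singleton_union]
    exact hab)
  exact hP.mono (by omega)

end Cfsg.Agent.S2291
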