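import Cfsg.Statements.S2292
import Cfsg.Agent.Lib.ShortPresSp.Main

set_option autoImplicit false
open Cfsg

namespace Cfsg.Agent.S2292

/-- Let F be a finite field with q elements and m ≥ 2 with (m, q) ≠ (2, 2). Then the simple group PSp_2m(F) has a presentation with 2 generators and at most 80 relations. -/
theorem result {F : Type*} [Field F] [Fintype F] (m : ℕ) (hm : 2 ≤ m) (h22 : ¬ (m = 2 ∧ Fintype.card F = 2)) :
    ∃ rels : Finset (FreeGroup (Fin 2)), rels.card ≤ 80 ∧ Nonempty (PresentedGroup (↑rels : Set (FreeGroup (Fin 2))) ≃* Cfsg.PSp m F) := by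
  obtain ⟨z, hz⟩ := Lib.ShortPresSp.exists_center_gen (F := F) (m := m) (by omega)
  obtain ⟨k, hk⟩ := Lib.ShortPresSp.exists_pres_all (F := F) hm
  obtain ⟨a, b, hab⟩ := Lib.PSpTwoGen49.quotient_two_generated
    (Subgroup.center (Matrix.symplecticGroup (Fin m) F))
    (Lib.PSpTwoGen49.sp_two_generated (F := F) hm fun h => by
      have h1 : 1 < Fintype.card F := Fintype.one_lt_card
      have h2 : Fintype.card F ≠ 2 := fun e => h22 ⟨h, e⟩
      omega)
  exact ((hk.quotient _ z hz).two a b hab).mono (by norm_num)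

end Cfsg.Agent.S2292
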