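import Cfsg.Statements.S2298
import Cfsg.Agent.Lib.GL2Chars37.Chars
-- import your own Cfsg.Agent.* helpers here

set_option autoImplicit false
open Cfsg

namespace Cfsg.Agent.S2298

/-- Over a finite field F with q elements, every irreducible complex character of GL₂ has degree 1, q − 1, q or q + 1; and when q ≥ 3 (so that these four numbers are distinct) there are exactly q − 1 irreducible characters of degree 1, exactly q − 1 of degree q, exactly (q − 1)(q − 2)/2 of degree q + 1 and exactly q(q − 1)/2 of degree q − 1. -/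
theorem result {F : Type*} [Field F] [Fintype F] :
    (∀ χ : Matrix.GeneralLinearGroup (Fin 2) F → ℂ, Cfsg.IsIrrCharacter (Matrix.GeneralLinearGroup (Fin 2) F) χ →
      χ 1 = 1 ∨ χ 1 = (Fintype.card F : ℂ) - 1 ∨ χ 1 = (Fintype.card F : ℂ) ∨ χ 1 = (Fintype.card F : ℂ) + 1) ∧
    (3 ≤ Fintype.card F →
      Nat.card {χ : Cfsg.IrrCharacter (Matrix.GeneralLinearGroup (Fin 2) F) // (χ : Matrix.GeneralLinearGroup (Fin 2) F → ℂ) 1 = 1} = Fintype.card F - 1 ∧
      Nat.card {χ : Cfsg.IrrCharacter (Matrix.GeneralLinearGroup (Fin 2) F) // (χ : Matrix.GeneralLinearGroup (Fin 2) F → ℂ) 1 = (Fintype.card F : ℂ)} = Fintype.card F - 1 ∧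
      Nat.card {χ : Cfsg.IrrCharacter (Matrix.GeneralLinearGroup (Fin 2) F) // (χ : Matrix.GeneralLinearGroup (Fin 2) F → ℂ) 1 = (Fintype.card F : ℂ) + 1} = (Fintype.card F - 1) * (Fintype.card F - 2) / 2 ∧
      Nat.card {χ : Cfsg.IrrCharacter (Matrix.GeneralLinearGroup (Fin 2) F) // (χ : Matrix.GeneralLinearGroup (Fin 2) F → ℂ) 1 = (Fintype.card F : ℂ) - 1} = Fintype.card F * (Fintype.card F - 1) / 2) := by
  classical
  open Cfsg.Agent.Lib.GL2Chars37 in
  have hq : (2 : ℕ) ≤ Fintype.card F := two_le_q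
  have hcast : ((Fintype.card F - 1 : ℕ) : ℂ) = (Fintype.card F : ℂ) - 1 := by
    rw [Nat.cast_sub (by omega), Nat.cast_one]
  open Cfsg.Agent.Lib.GL2Chars37 in
  refine ⟨fun χ hχ => ?_, fun h3 => ?_⟩
  · rcases cases hχ with ⟨α, rfl⟩ | ⟨α, rfl⟩ | ⟨α, β, -, rfl⟩ | ⟨-, he⟩
    · exact Or.inl (dc_one α)
    · exact Or.inr (Or.inr (Or.inl (stFun_one α)))
    · exact Or.inr (Or.inr (Or.inr (ps_one α β)))
    · exact Or.inr (Or.inl (he.trans hcast))
  · have := Fintype.ofFinite (MulChar F ℂ)
    have key : ∀ χ : Cfsg.IrrCharacter (Matrix.GeneralLinearGroup (Fin 2) F),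
        (∃ i, known i = χ) ∨ (IsCusp χ ∧ χ.1 1 = ((Fintype.card F - 1 : ℕ) : ℂ)) := fun χ =>
      (known_or_cusp χ).imp_right fun h => ⟨h, cusp_degree h⟩
    have count : ∀ (d : ℕ), d ≠ Fintype.card F - 1 →
        Nat.card {χ : Cfsg.IrrCharacter (Matrix.GeneralLinearGroup (Fin 2) F) // χ.1 1 = (d : ℂ)} =
          Nat.card {i : MulChar F ℂ ⊕ MulChar F ℂ ⊕ Pairs F // knownDeg i = d} := by
      intro d hd
      symm
      refine Nat.card_congr (Equiv.ofBijective
        (fun i => ⟨known i.1, by rw [known_one, i.2]⟩) ⟨fun i j e => ?_, fun χ => ?_⟩)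
      · exact Subtype.ext (known_injective (congrArg Subtype.val e))
      · rcases key χ.1 with ⟨i, hi⟩ | ⟨-, he⟩
        · refine ⟨⟨i, ?_⟩, Subtype.ext hi⟩
          have h := χ.2
          rw [← hi, known_one] at h
          exact_mod_cast h
        · exact absurd (Nat.cast_injective (R := ℂ) (χ.2.symm.trans he)) hd
    have hone : Nat.card {i : MulChar F ℂ ⊕ MulChar F ℂ ⊕ Pairs F // knownDeg i = 1} = Fintype.card F - 1 := by
      rw [← card_mulChar (F := F)]
      refine (Nat.card_congr (Equiv.ofBijective (fun α => ⟨Sum.inl α, rfl⟩) ⟨fun a b e => ?_, ?_⟩)).symm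
      · simpa [Subtype.ext_iff] using e
      · rintro ⟨α | α | z, hi⟩
        · exact ⟨α, rfl⟩
        all_goals exact absurd hi (by simp [knownDeg]; try omega)
    have hst : Nat.card {i : MulChar F ℂ ⊕ MulChar F ℂ ⊕ Pairs F // knownDeg i = Fintype.card F} =
        Fintype.card F - 1 := by
      rw [← card_mulChar (F := F)]
      refine (Nat.card_congr (Equiv.ofBijective (fun α => ⟨Sum.inr (Sum.inl α), rfl⟩) ⟨fun a b e => ?_, ?_⟩)).symm
      · simpa [Subtype.ext_iff] using e
      · rintro ⟨α | α | z, hi⟩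
        · exact absurd hi (by simp [knownDeg]; try omega)
        · exact ⟨α, rfl⟩
        · exact absurd hi (by simp [knownDeg])
    have hps : Nat.card {i : MulChar F ℂ ⊕ MulChar F ℂ ⊕ Pairs F // knownDeg i = Fintype.card F + 1} =
        (Fintype.card F - 1) * (Fintype.card F - 2) / 2 := by
      rw [show Fintype.card F - 2 = Fintype.card F - 1 - 1 by omega, ← Nat.choose_two_right,
        ← card_mulChar (F := F), ← Sym2.natCard_subtype_not_diag]
      refine (Nat.card_congr (Equiv.ofBijective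
        (fun z => (⟨Sum.inr (Sum.inr z), rfl⟩ :
          {i : MulChar F ℂ ⊕ MulChar F ℂ ⊕ Pairs F // knownDeg i = Fintype.card F + 1}))
        ⟨fun a b e => ?_, ?_⟩)).symm
      · simpa [Subtype.ext_iff] using e
      · rintro ⟨α | α | z, hi⟩
        · exact absurd hi (by simp [knownDeg]; try omega)
        · exact absurd hi (by simp [knownDeg])
        · exact ⟨z, rfl⟩
    refine ⟨?_, ?_, ?_, ?_⟩
    · rw [← hone, ← count 1 (by omega), Nat.cast_one]
    · rw [count (Fintype.card F) (by omega), hst]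
    · rw [show (Fintype.card F : ℂ) + 1 = ((Fintype.card F + 1 : ℕ) : ℂ) by push_cast; rfl,
        count (Fintype.card F + 1) (by omega), hps]
    · have e : ∀ χ : Cfsg.IrrCharacter (Matrix.GeneralLinearGroup (Fin 2) F),
          χ.1 1 = (Fintype.card F : ℂ) - 1 ↔ IsCusp χ := by
        intro χ
        rw [← hcast]
        refine ⟨fun h => ?_, fun h => cusp_degree h⟩
        rcases key χ with ⟨i, rfl⟩ | ⟨hc, -⟩
        · rw [known_one] at h
          have h' := Nat.cast_injective h
          rcases i with α | α | z <;> simp [knownDeg] at h' <;> omega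
        · exact hc
      rw [Nat.card_congr (Equiv.subtypeEquivRight e)]
      have := card_cusp_mul_two (F := F)
      omega


end Cfsg.Agent.S2298
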