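import Cfsg.Statements.S2301
import Cfsg.Agent.Lib.LinTwo.Classes

set_option autoImplicit false
open Cfsg

namespace Cfsg.Agent.S2301

/-- Over a finite field with q elements of odd characteristic p, the elements of order p of SL₂ (the non-identity unipotent elements) fall into exactly two conjugacy classes, each of size (q² − 1)/2; two upper unitriangular matrices with non-zero off-diagonal entries b and b′ are conjugate exactly when bb′ is a square. -/
theorem result {F : Type*} [Field F] [Fintype F] (p : ℕ) [Fact p.Prime] [CharP F p] (hp : p ≠ 2) :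
    Nat.card {C : ConjClasses (Matrix.SpecialLinearGroup (Fin 2) F) // ∃ g : Matrix.SpecialLinearGroup (Fin 2) F, orderOf g = p ∧ ConjClasses.mk g = C} = 2 ∧
    (∀ g : Matrix.SpecialLinearGroup (Fin 2) F, orderOf g = p → Nat.card (ConjClasses.mk g).carrier = (Fintype.card F ^ 2 - 1) / 2) ∧
    ∀ g h : Matrix.SpecialLinearGroup (Fin 2) F, (g : Matrix (Fin 2) (Fin 2) F) 0 0 = 1 → (g : Matrix (Fin 2) (Fin 2) F) 1 1 = 1 → (g : Matrix (Fin 2) (Fin 2) F) 1 0 = 0 → (g : Matrix (Fin 2) (Fin 2) F) 0 1 ≠ 0 →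
      (h : Matrix (Fin 2) (Fin 2) F) 0 0 = 1 → (h : Matrix (Fin 2) (Fin 2) F) 1 1 = 1 → (h : Matrix (Fin 2) (Fin 2) F) 1 0 = 0 → (h : Matrix (Fin 2) (Fin 2) F) 0 1 ≠ 0 →
      (IsConj g h ↔ IsSquare ((g : Matrix (Fin 2) (Fin 2) F) 0 1 * (h : Matrix (Fin 2) (Fin 2) F) 0 1)) := by
  classical
  have hF : ringChar F ≠ 2 := by rw [ringChar.eq F p]; exact hp
  have h2 : (2 : F) ≠ 0 := Ring.two_ne_zero hF
  have hq1 : 1 < Fintype.card F := Fintype.one_lt_card
  have hroots : Nat.card {a : F // a * a = 1} = 2 := by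
    rw [← Set.coe_setOf, Nat.card_coe_set_eq]
    have : {a : F | a * a = 1} = {1, -1} := by
      ext a; simp [mul_self_eq_one_iff]
    rw [this, Set.ncard_pair]
    intro h
    exact h2 (by linear_combination h)
  have hcard : ∀ g : Matrix.SpecialLinearGroup (Fin 2) F, orderOf g = p →
      Nat.card (ConjClasses.mk g).carrier = (Fintype.card F ^ 2 - 1) / 2 := by
    intro g hg
    obtain ⟨b, hb, hc⟩ := (Lib.LinTwo.orderOf_eq_char_iff p g).1 hg
    rw [← ConjClasses.mk_eq_mk_iff_isConj.2 hc]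
    have h := Lib.LinTwo.card_class_mul b hb
    rw [hroots] at h
    obtain ⟨m, hm⟩ : ∃ m, Fintype.card F = m + 1 := ⟨_, (Nat.sub_add_cancel hq1.le).symm⟩
    rw [hm] at h ⊢
    have e : (m + 1) ^ 2 - 1 = Nat.card (ConjClasses.mk (Lib.LinTwo.unip b)).carrier * 2 := by
      have h' : (m + 1) * (m * (m + 2)) =
          (m + 1) * (Nat.card (ConjClasses.mk (Lib.LinTwo.unip b)).carrier * 2) := by
        rw [Nat.add_sub_cancel] at h; linarith
      rw [← Nat.eq_of_mul_eq_mul_left (by omega) h', show (m + 1) ^ 2 = m * (m + 2) + 1 by ring]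
      simp
    rw [e, Nat.mul_div_cancel _ two_pos]
  refine ⟨?_, hcard, ?_⟩
  · obtain ⟨ε, hε⟩ := FiniteField.exists_nonsquare hF
    have hε0 : ε ≠ 0 := fun h => hε (h ▸ IsSquare.zero)
    rw [← Set.coe_setOf, Nat.card_coe_set_eq]
    have : {C : ConjClasses (Matrix.SpecialLinearGroup (Fin 2) F) | ∃ g, orderOf g = p ∧ ConjClasses.mk g = C} =
        {ConjClasses.mk (Lib.LinTwo.unip 1), ConjClasses.mk (Lib.LinTwo.unip ε)} := by
      ext C
      simp only [Set.mem_ofPred_eq, Set.mem_insert_iff, Set.mem_singleton_iff]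
      constructor
      · rintro ⟨g, hg, rfl⟩
        obtain ⟨b, hb, hc⟩ := (Lib.LinTwo.orderOf_eq_char_iff p g).1 hg
        rw [← ConjClasses.mk_eq_mk_iff_isConj.2 hc]
        by_cases hs : IsSquare b
        · left
          exact ConjClasses.mk_eq_mk_iff_isConj.2
            ((Lib.LinTwo.unip_conj_iff hb one_ne_zero).2 (by rwa [mul_one]))
        · right
          refine ConjClasses.mk_eq_mk_iff_isConj.2 ((Lib.LinTwo.unip_conj_iff hb hε0).2 ?_)
          rw [← quadraticChar_one_iff_isSquare (mul_ne_zero hb hε0), map_mul,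
            quadraticChar_neg_one_iff_not_isSquare.2 hs, quadraticChar_neg_one_iff_not_isSquare.2 hε]
          norm_num
      · rintro (rfl | rfl)
        · exact ⟨_, (Lib.LinTwo.orderOf_eq_char_iff p _).2 ⟨1, one_ne_zero, IsConj.refl _⟩, rfl⟩
        · exact ⟨_, (Lib.LinTwo.orderOf_eq_char_iff p _).2 ⟨ε, hε0, IsConj.refl _⟩, rfl⟩
    rw [this, Set.ncard_pair]
    intro h
    apply hε
    simpa using (Lib.LinTwo.unip_conj_iff one_ne_zero hε0).1 (ConjClasses.mk_eq_mk_iff_isConj.1 h)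
  · intro g h g0 g1 g2 g3 h0 h1 h2' h3
    rw [(Lib.LinTwo.eq_unip_iff g _).2 ⟨g0, rfl, g2, g1⟩, (Lib.LinTwo.eq_unip_iff h _).2 ⟨h0, rfl, h2', h1⟩]
    exact Lib.LinTwo.unip_conj_iff g3 h3

end Cfsg.Agent.S2301
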