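import Cfsg.Statements.S2302
import Cfsg.Agent.Lib.LinTwo.Classes

set_option autoImplicit false
open Cfsg

namespace Cfsg.Agent.S2302

/-- Over a finite field with q elements of characteristic 2, the involutions of SL₂ (the non-identity unipotent elements) form a single conjugacy class, of size q² − 1. -/
theorem result {F : Type*} [Field F] [Fintype F] [CharP F 2] (g h : Matrix.SpecialLinearGroup (Fin 2) F) (hg : orderOf g = 2) (hh : orderOf h = 2) :
    IsConj g h ∧ Nat.card (ConjClasses.mk g).carrier = Fintype.card F ^ 2 - 1 := by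
  classical
  have hF : ringChar F = 2 := ringChar.eq F 2
  obtain ⟨a, ha, hga⟩ := (Lib.LinTwo.orderOf_eq_char_iff 2 g).1 hg
  obtain ⟨b, hb, hhb⟩ := (Lib.LinTwo.orderOf_eq_char_iff 2 h).1 hh
  refine ⟨(hga.symm.trans ((Lib.LinTwo.unip_conj_iff ha hb).2
    (FiniteField.isSquare_of_char_two hF _))).trans hhb, ?_⟩
  rw [← ConjClasses.mk_eq_mk_iff_isConj.2 hga]
  have h1 := Lib.LinTwo.card_class_mul a ha
  have hroots : Nat.card {x : F // x * x = 1} = 1 := by
    rw [Nat.card_eq_one_iff_exists]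
    refine ⟨⟨1, one_mul 1⟩, fun y => Subtype.ext ?_⟩
    have : (y.1 - 1) * (y.1 - 1) = 0 := by
      have h2 : (2 : F) = 0 := CharP.cast_eq_zero F 2
      linear_combination y.2 + (1 - y.1) * h2
    exact sub_eq_zero.1 (mul_self_eq_zero.1 this)
  rw [hroots, one_mul] at h1
  have hq1 : 1 < Fintype.card F := Fintype.one_lt_card
  obtain ⟨m, hm⟩ : ∃ m, Fintype.card F = m + 1 := ⟨_, (Nat.sub_add_cancel hq1.le).symm⟩
  rw [hm] at h1 ⊢
  rw [Nat.add_sub_cancel] at h1
  have h' : (m + 1) * (m * (m + 2)) =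
      (m + 1) * Nat.card (ConjClasses.mk (Lib.LinTwo.unip a)).carrier := by linarith
  rw [← Nat.eq_of_mul_eq_mul_left (by omega) h', show (m + 1) ^ 2 = m * (m + 2) + 1 by ring]
  simp

end Cfsg.Agent.S2302
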