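import Cfsg.Statements.S2303
import Mathlib

set_option autoImplicit false
open Cfsg

namespace Cfsg.Agent.S2303

/-- Over a finite field with q elements: a diagonal element of GL₂ with two distinct diagonal entries has centralizer of order (q − 1)² (so q(q + 1) conjugates), and an element of GL₂ with no eigenvector in F² has centralizer of order q² − 1 (so q(q − 1) conjugates). -/
theorem result {F : Type*} [Field F] [Fintype F] (g : Matrix.GeneralLinearGroup (Fin 2) F) :
    ((g : Matrix (Fin 2) (Fin 2) F) 0 1 = 0 → (g : Matrix (Fin 2) (Fin 2) F) 1 0 = 0 → (g : Matrix (Fin 2) (Fin 2) F) 0 0 ≠ (g : Matrix (Fin 2) (Fin 2) F) 1 1 →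
      Nat.card (Subgroup.centralizer ({g} : Set (Matrix.GeneralLinearGroup (Fin 2) F))) = (Fintype.card F - 1) ^ 2) ∧
    ((∀ (c : F) (v : Fin 2 → F), v ≠ 0 → (g : Matrix (Fin 2) (Fin 2) F).mulVec v ≠ c • v) →
      Nat.card (Subgroup.centralizer ({g} : Set (Matrix.GeneralLinearGroup (Fin 2) F))) = Fintype.card F ^ 2 - 1) := by
  classical
  have hmul : ∀ (A B : Matrix (Fin 2) (Fin 2) F) (i j : Fin 2), (A * B) i j = A i 0 * B 0 j + A i 1 * B 1 j :=
    fun A B i j => by simp [Matrix.mul_apply, Fin.sum_univ_two]
  set A := (g : Matrix (Fin 2) (Fin 2) F) with hA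
  constructor
  · intro h01 h10 hne
    have hd := Matrix.det_fin_two A
    let e : Subgroup.centralizer ({g} : Set (Matrix.GeneralLinearGroup (Fin 2) F)) ≃ Fˣ × Fˣ :=
      Equiv.ofBijective (fun h =>
        (Units.mk0 (((h : Matrix.GeneralLinearGroup (Fin 2) F) : Matrix (Fin 2) (Fin 2) F) 0 0) (by
          have e := congrArg Units.val (Subgroup.mem_centralizer_singleton_iff.1 h.2)
          simp only [Units.val_mul] at e
          have e1 := congrFun (congrFun e 0) 1
          rw [hmul, hmul, ← hA, h01] at e1
          intro h0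
          have hu := (Matrix.isUnit_iff_isUnit_det _).1 (h : Matrix.GeneralLinearGroup (Fin 2) F).isUnit
          rw [isUnit_iff_ne_zero, Matrix.det_fin_two, h0] at hu
          have : ((h : Matrix.GeneralLinearGroup (Fin 2) F) : Matrix (Fin 2) (Fin 2) F) 0 1 = 0 := by
            apply mul_left_cancel₀ (sub_ne_zero.2 hne); linear_combination -e1
          simp [this] at hu),
        Units.mk0 (((h : Matrix.GeneralLinearGroup (Fin 2) F) : Matrix (Fin 2) (Fin 2) F) 1 1) (by
          have e := congrArg Units.val (Subgroup.mem_centralizer_singleton_iff.1 h.2)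
          simp only [Units.val_mul] at e
          have e1 := congrFun (congrFun e 0) 1
          rw [hmul, hmul, ← hA, h01] at e1
          intro h0
          have hu := (Matrix.isUnit_iff_isUnit_det _).1 (h : Matrix.GeneralLinearGroup (Fin 2) F).isUnit
          rw [isUnit_iff_ne_zero, Matrix.det_fin_two, h0] at hu
          have : ((h : Matrix.GeneralLinearGroup (Fin 2) F) : Matrix (Fin 2) (Fin 2) F) 0 1 = 0 := by
            apply mul_left_cancel₀ (sub_ne_zero.2 hne); linear_combination -e1
          simp [this] at hu))) (by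
      have hdiag : ∀ h : Subgroup.centralizer ({g} : Set (Matrix.GeneralLinearGroup (Fin 2) F)),
          ((h : Matrix.GeneralLinearGroup (Fin 2) F) : Matrix (Fin 2) (Fin 2) F) 0 1 = 0 ∧
          ((h : Matrix.GeneralLinearGroup (Fin 2) F) : Matrix (Fin 2) (Fin 2) F) 1 0 = 0 := by
        intro h
        have e := congrArg Units.val (Subgroup.mem_centralizer_singleton_iff.1 h.2)
        simp only [Units.val_mul] at e
        have e1 := congrFun (congrFun e 0) 1
        have e2 := congrFun (congrFun e 1) 0
        rw [hmul, hmul, ← hA, h01] at e1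
        rw [hmul, hmul, ← hA, h10] at e2
        exact ⟨mul_left_cancel₀ (sub_ne_zero.2 hne) (by linear_combination -e1),
          mul_left_cancel₀ (sub_ne_zero.2 hne) (by linear_combination e2)⟩
      constructor
      · intro h k hk
        simp only [Prod.mk.injEq, Units.mk0_inj] at hk
        apply Subtype.ext; apply Units.ext; ext i j
        fin_cases i <;> fin_cases j <;> simp [hk.1, hk.2, (hdiag h).1, (hdiag h).2, (hdiag k).1, (hdiag k).2]
      · rintro ⟨a, b⟩
        refine ⟨⟨Matrix.GeneralLinearGroup.mkOfDetNeZero !![(a : F), 0; 0, (b : F)]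
          (by simp [Matrix.det_fin_two]), ?_⟩, by simp⟩
        refine Subgroup.mem_centralizer_singleton_iff.2 ?_
        apply Units.ext
        ext i j
        fin_cases i <;> fin_cases j <;> simp [Matrix.mul_apply, Fin.sum_univ_two, ← hA, h01, h10] <;> ring)
    rw [Nat.card_congr e, Nat.card_prod, Nat.card_units, Nat.card_eq_fintype_card, pow_two]
  · intro hne
    have hc : A 1 0 ≠ 0 := by
      intro h
      refine hne (A 0 0) ![1, 0] (fun h0 => by simpa using congrFun h0 0) ?_
      ext i; fin_cases i <;> simp [Matrix.mulVec, dotProduct, Fin.sum_univ_two, ← hA, h]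
    have hdet : ∀ x y : F, (x, y) ≠ (0, 0) → (x • (1 : Matrix (Fin 2) (Fin 2) F) + y • A).det ≠ 0 := by
      intro x y hxy hd
      rcases eq_or_ne y 0 with rfl | hy
      · simp [Matrix.det_fin_two] at hd
        exact hxy (by simp [hd])
      · obtain ⟨v, hv, hv2⟩ := Matrix.exists_mulVec_eq_zero_iff.2 hd
        apply hne (-x / y) v hv
        rw [Matrix.add_mulVec, Matrix.smul_mulVec, Matrix.smul_mulVec, Matrix.one_mulVec] at hv2
        ext i
        have h4 := congrFun hv2 i
        simp only [Pi.add_apply, Pi.smul_apply, smul_eq_mul, Pi.zero_apply] at h4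
        show A.mulVec v i = (-x / y) * v i
        field_simp
        linear_combination h4
    let e : {z : F × F // z ≠ (0, 0)} ≃ Subgroup.centralizer ({g} : Set (Matrix.GeneralLinearGroup (Fin 2) F)) :=
      Equiv.ofBijective (fun z => ⟨Matrix.GeneralLinearGroup.mkOfDetNeZero _ (hdet z.1.1 z.1.2 z.2), by
        refine Subgroup.mem_centralizer_singleton_iff.2 ?_
        apply Units.ext
        change (z.1.1 • (1 : Matrix (Fin 2) (Fin 2) F) + z.1.2 • A) * A = A * (z.1.1 • (1 : Matrix (Fin 2) (Fin 2) F) + z.1.2 • A)
        simp [add_mul, mul_add]⟩) (by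
      constructor
      · rintro ⟨⟨x, y⟩, hz⟩ ⟨⟨x', y'⟩, hz'⟩ h
        have h2 := congrArg (fun u : Subgroup.centralizer ({g} : Set (Matrix.GeneralLinearGroup (Fin 2) F)) =>
          ((u : Matrix.GeneralLinearGroup (Fin 2) F) : Matrix (Fin 2) (Fin 2) F)) h
        have hy : y = y' := by
          have := congrFun (congrFun h2 1) 0
          simpa [hc] using this
        subst hy
        have := congrFun (congrFun h2 0) 0
        simp at this
        exact Subtype.ext (Prod.ext this rfl)
      · intro h
        have e := congrArg Units.val (Subgroup.mem_centralizer_singleton_iff.1 h.2)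
        simp only [Units.val_mul] at e
        set H := ((h : Matrix.GeneralLinearGroup (Fin 2) F) : Matrix (Fin 2) (Fin 2) F) with hH
        have e0 := congrFun (congrFun e 0) 0
        have e1 := congrFun (congrFun e 1) 0
        rw [hmul, hmul, ← hA] at e0 e1
        have key : H = (H 0 0 - H 1 0 / A 1 0 * A 0 0) • (1 : Matrix (Fin 2) (Fin 2) F) + (H 1 0 / A 1 0) • A := by
          ext i j
          fin_cases i <;> fin_cases j <;> simp <;> field_simp <;>
            first | ring1 | linear_combination e0 | linear_combination -e0 | linear_combination e1 | linear_combination -e1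
        refine ⟨⟨(H 0 0 - H 1 0 / A 1 0 * A 0 0, H 1 0 / A 1 0), ?_⟩, Subtype.ext (Units.ext key.symm)⟩
        intro h0
        simp only [Prod.mk.injEq] at h0
        rw [h0.1, h0.2] at key
        simp at key
        exact (h : Matrix.GeneralLinearGroup (Fin 2) F).ne_zero key)
    rw [← Nat.card_congr e, Nat.card_eq_fintype_card, Fintype.card_subtype_compl, Fintype.card_prod,
      Fintype.card_subtype_eq, pow_two]

end Cfsg.Agent.S2303
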