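import Cfsg.Statements.S2307
import Cfsg.Agent.Lib.SL2Chars49.Counts
-- import your own Cfsg.Agent.* helpers here

set_option autoImplicit false
open Cfsg

namespace Cfsg.Agent.S2307

open Cfsg.Agent.Lib.SL2Chars49

/-- Over a finite field F with q elements, q odd, let α be the multiplicative character of F of order 2. The character of SL₂ induced from the linear character b ↦ α(b₁₁) of the upper triangular subgroup is the sum of two distinct irreducible characters, each of degree (q + 1)/2, which are conjugate under GL₂: some fixed element of GL₂ conjugates the one into the other. -/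
theorem result {F : Type*} [Field F] [Fintype F] [DecidableEq F] (hodd : Odd (Fintype.card F)) (α : MulChar F ℂ)
    (hα : α ^ 2 = 1) (hα1 : α ≠ 1) :
    ∃ χ₁ χ₂ : Matrix.SpecialLinearGroup (Fin 2) F → ℂ, Cfsg.IsIrrCharacter (Matrix.SpecialLinearGroup (Fin 2) F) χ₁ ∧ Cfsg.IsIrrCharacter (Matrix.SpecialLinearGroup (Fin 2) F) χ₂ ∧ χ₁ ≠ χ₂ ∧
      Cfsg.indFun ((Cfsg.upperTriangularGL 2 F).comap Matrix.SpecialLinearGroup.toGL) (fun b => α (((b : Matrix.SpecialLinearGroup (Fin 2) F) : Matrix (Fin 2) (Fin 2) F) 0 0)) = χ₁ + χ₂ ∧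
      χ₁ 1 = (((Fintype.card F + 1) / 2 : ℕ) : ℂ) ∧ χ₂ 1 = (((Fintype.card F + 1) / 2 : ℕ) : ℂ) ∧
      ∃ x : Matrix.GeneralLinearGroup (Fin 2) F, ∀ g h : Matrix.SpecialLinearGroup (Fin 2) F,
        Matrix.SpecialLinearGroup.toGL h = x * Matrix.SpecialLinearGroup.toGL g * x⁻¹ → χ₂ h = χ₁ g := by
  obtain ⟨C, hC, hcard⟩ := exists_C (F := F)
  obtain ⟨θ, hθ, hθ1⟩ := exists_theta0 hC hcard hodd
  obtain ⟨H⟩ := exists_halves hC hcard hodd hα hα1 hθ hθ1
  obtain ⟨d, -, hD⟩ := H.diff_p hα hα1 hodd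
  have hcast := halfP_cast hodd
  refine ⟨_, _, H.p1.2, H.p2.2, fun e => H.ne_p (Subtype.ext e), H.eq_p,
    by linear_combination (H.deg_p1 - hcast) / 2, by linear_combination (H.deg_p2 - hcast) / 2, ?_⟩
  obtain ⟨ν, hν⟩ := FiniteField.exists_nonsquare (F := F) (fun h => two_ne_zero' hodd (by
    have : CharP F 2 := ringChar.of_eq h
    exact CharTwo.two_eq_zero))
  have hν0 : ν ≠ 0 := fun h => hν (h ▸ IsSquare.zero)
  have hεν : α ν = -1 := (eps_apply hα hα1 hodd hν0).2 hν
  have hsq : α ν * α ν = 1 := by rw [hεν]; ring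
  have hενi : α ν⁻¹ = -1 := by
    have : α ν⁻¹ * α ν = 1 := by rw [← map_mul, inv_mul_cancel₀ hν0, map_one]
    rw [hεν] at this
    linear_combination -this
  refine ⟨Matrix.GeneralLinearGroup.mkOfDetNeZero !![ν, 0; 0, 1]
    (by simp [Matrix.det_fin_two, hν0]), fun g h hgh => ?_⟩
  have hm : (h : Matrix (Fin 2) (Fin 2) F) * !![ν, 0; 0, 1] =
      !![ν, 0; 0, 1] * (g : Matrix (Fin 2) (Fin 2) F) := by
    have := congrArg (fun A : Matrix.GeneralLinearGroup (Fin 2) F => (A : Matrix (Fin 2) (Fin 2) F))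
      (eq_mul_inv_iff_mul_eq.mp hgh)
    simpa using this
  have m00 := congrFun (congrFun hm 0) 0
  have m01 := congrFun (congrFun hm 0) 1
  have m10 := congrFun (congrFun hm 1) 0
  have m11 := congrFun (congrFun hm 1) 1
  simp [Matrix.mul_apply, Fin.sum_univ_two] at m00 m01 m10 m11
  have h00 : (h : Matrix (Fin 2) (Fin 2) F) 0 0 = (g : Matrix (Fin 2) (Fin 2) F) 0 0 :=
    mul_left_cancel₀ hν0 (by linear_combination m00)
  have h10 : (h : Matrix (Fin 2) (Fin 2) F) 1 0 = ν⁻¹ * (g : Matrix (Fin 2) (Fin 2) F) 1 0 := by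
    rw [← m10, mul_comm, mul_inv_cancel_right₀ hν0]
  have hpi : pi α h = pi α g := by
    simp only [pi, Cfsg.Agent.Lib.SL2Tori.Borel.ind_eq, h00, h10, m01, m11]
    congr 1
    · simp [hν0]
    · refine Fintype.sum_equiv (Equiv.mulLeft₀ ν hν0) _ _ fun c => ?_
      rw [show (Equiv.mulLeft₀ ν hν0) c = ν * c from rfl]
      refine if_congr ?_ (by ring_nf) rfl
      constructor <;> intro e
      · have e' := congrArg (ν * ·) e
        simp only [mul_zero] at e'
        field_simp at e'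
        linear_combination e'
      · field_simp
        linear_combination e
  have hF : halfFun α 1 h = -halfFun α 1 g := by
    have ht : Cfsg.Agent.Lib.PSLTwo.Sylow.slTr h = Cfsg.Agent.Lib.PSLTwo.Sylow.slTr g := by
      simp only [Cfsg.Agent.Lib.PSLTwo.Sylow.slTr, h00, m11]
    simp only [halfFun, ht, m01, h10, ne_eq, mul_eq_zero, hν0, false_or, map_mul, hεν, ite_self]
    rw [show -(ν⁻¹ * (g : Matrix (Fin 2) (Fin 2) F) 1 0) = ν⁻¹ * -(g : Matrix (Fin 2) (Fin 2) F) 1 0 by ring,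
      map_mul, hενi]
    split_ifs <;> ring
  have eg := congrFun H.eq_p g
  have eh := congrFun H.eq_p h
  have dg' := congrFun hD g
  have dh' := congrFun hD h
  simp only [Pi.add_apply, Pi.sub_apply, Pi.smul_apply, smul_eq_mul] at eg eh dg' dh'
  rw [hF] at dh'
  rw [hpi] at eh
  linear_combination (eg - eh) / 2 * 1 - (dh' + dg') / 2

end Cfsg.Agent.S2307
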