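import Cfsg.Statements.S2308
import Cfsg.Agent.Lib.GL2Chars37.Chars
-- import your own Cfsg.Agent.* helpers here

set_option autoImplicit false
open Cfsg

namespace Cfsg.Agent.S2308

/-- Values of the permutation character of GL₂ over a finite field F with q elements on the cosets of its upper triangular subgroup (equivalently, the number of lines of F² that an element maps to themselves): q + 1 at a scalar matrix, 2 at a diagonal matrix with two different diagonal entries, 0 at an element with no eigenvector in F², and 1 at an upper triangular matrix with equal diagonal entries and non-zero upper right entry. -/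
theorem result {F : Type*} [Field F] [Fintype F] (g : Matrix.GeneralLinearGroup (Fin 2) F) :
    ((∃ a : F, (g : Matrix (Fin 2) (Fin 2) F) = a • (1 : Matrix (Fin 2) (Fin 2) F)) → Cfsg.fixedPointCharacter (Cfsg.upperTriangularGL 2 F) g = Fintype.card F + 1) ∧
    ((g : Matrix (Fin 2) (Fin 2) F) 0 1 = 0 → (g : Matrix (Fin 2) (Fin 2) F) 1 0 = 0 → (g : Matrix (Fin 2) (Fin 2) F) 0 0 ≠ (g : Matrix (Fin 2) (Fin 2) F) 1 1 →
      Cfsg.fixedPointCharacter (Cfsg.upperTriangularGL 2 F) g = 2) ∧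
    ((∀ (c : F) (v : Fin 2 → F), v ≠ 0 → (g : Matrix (Fin 2) (Fin 2) F).mulVec v ≠ c • v) → Cfsg.fixedPointCharacter (Cfsg.upperTriangularGL 2 F) g = 0) ∧
    ((g : Matrix (Fin 2) (Fin 2) F) 1 0 = 0 → (g : Matrix (Fin 2) (Fin 2) F) 0 0 = (g : Matrix (Fin 2) (Fin 2) F) 1 1 → (g : Matrix (Fin 2) (Fin 2) F) 0 1 ≠ 0 →
      Cfsg.fixedPointCharacter (Cfsg.upperTriangularGL 2 F) g = 1) := by
  classical
  open Cfsg.Agent.Lib.GL2Chars37 in
  have h : Cfsg.fixedPointCharacter (Cfsg.upperTriangularGL 2 F) = ps (1 : MulChar F ℂ) 1 := by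
    have hl : lin (1 : MulChar F ℂ) 1 = fun _ => 1 := by
      funext b
      have hb := diag_ne_zero (mem_B.mp b.2)
      simp only [lin, MulChar.one_apply (isUnit_iff_ne_zero.mpr hb.1),
        MulChar.one_apply (isUnit_iff_ne_zero.mpr hb.2), mul_one]
    funext g
    rw [ps, hl, Cfsg.Agent.Lib.Brauer.PermChar.indFun_one_eq_card]
    rfl
  rw [h]
  refine ⟨?_, ?_, ?_, ?_⟩
  · rintro ⟨a, ha⟩
    have e : ∀ i j, g.val i j = if i = j then a else 0 := fun i j => by
      rw [ha]; simp [Matrix.one_apply]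
    have ha0 : g.val 0 0 ≠ 0 := (Cfsg.Agent.Lib.GL2Chars37.diag_ne_zero (g := g) (by simp [e])).1
    rw [Cfsg.Agent.Lib.GL2Chars37.ps_upper _ _ g (by simp [e])]
    simp [e] at ha0 ⊢
    simp [MulChar.one_apply (isUnit_iff_ne_zero.mpr ha0)]
  · intro h01 h10 hne
    obtain ⟨ha, hd⟩ := Cfsg.Agent.Lib.GL2Chars37.diag_ne_zero h10
    rw [Cfsg.Agent.Lib.GL2Chars37.ps_upper _ _ g h10, if_neg hne,
      MulChar.one_apply (isUnit_iff_ne_zero.mpr ha), MulChar.one_apply (isUnit_iff_ne_zero.mpr hd)]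
    norm_num
  · intro hg
    exact Cfsg.Agent.Lib.GL2Chars37.ps_elliptic _ _ hg
  · intro h10 heq h01
    obtain ⟨ha, -⟩ := Cfsg.Agent.Lib.GL2Chars37.diag_ne_zero h10
    rw [Cfsg.Agent.Lib.GL2Chars37.ps_upper _ _ g h10, if_pos heq, if_neg h01,
      MulChar.one_apply (isUnit_iff_ne_zero.mpr ha), mul_one]


end Cfsg.Agent.S2308
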