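import Cfsg.Statements.S2309
import Cfsg.Agent.Lib.GL2Chars37.Chars
-- import your own Cfsg.Agent.* helpers here

set_option autoImplicit false
open Cfsg

namespace Cfsg.Agent.S2309

/-- Over a finite field F with q elements: every irreducible complex character of GL₂ of degree q − 1 vanishes at every diagonal matrix with two distinct entries, and every irreducible complex character of degree q + 1 vanishes at every element with no eigenvector in F². -/
theorem result {F : Type*} [Field F] [Fintype F] (χ : Matrix.GeneralLinearGroup (Fin 2) F → ℂ) (hχ : Cfsg.IsIrrCharacter (Matrix.GeneralLinearGroup (Fin 2) F) χ) (g : Matrix.GeneralLinearGroup (Fin 2) F) :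
    (χ 1 = (Fintype.card F : ℂ) - 1 → (g : Matrix (Fin 2) (Fin 2) F) 0 1 = 0 → (g : Matrix (Fin 2) (Fin 2) F) 1 0 = 0 → (g : Matrix (Fin 2) (Fin 2) F) 0 0 ≠ (g : Matrix (Fin 2) (Fin 2) F) 1 1 → χ g = 0) ∧
    (χ 1 = (Fintype.card F : ℂ) + 1 → (∀ (c : F) (v : Fin 2 → F), v ≠ 0 → (g : Matrix (Fin 2) (Fin 2) F).mulVec v ≠ c • v) → χ g = 0) := by
  classical
  open Cfsg.Agent.Lib.GL2Chars37 in
  have hq : (2 : ℕ) ≤ Fintype.card F := two_le_q
  open Cfsg.Agent.Lib.GL2Chars37 in
  refine ⟨fun hd h01 h10 hne => ?_, fun hd hg => ?_⟩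
  · have h3 : 3 ≤ Fintype.card F := by
      obtain ⟨ha, hb⟩ := diag_ne_zero h10
      have : ({0, g.val 0 0, g.val 1 1} : Finset F).card = 3 := by
        rw [Finset.card_eq_three]
        exact ⟨_, _, _, Ne.symm ha, Ne.symm hb, hne, rfl⟩
      rw [← this]
      exact Finset.card_le_univ _
    have hd' : χ 1 = ((Fintype.card F - 1 : ℕ) : ℂ) := by
      rw [hd, Nat.cast_sub (by omega), Nat.cast_one]
    rcases cases hχ with ⟨α, rfl⟩ | ⟨α, rfl⟩ | ⟨α, β, -, rfl⟩ | ⟨hc, -⟩
    · rw [dc_one] at hd'; norm_cast at hd'; omega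
    · rw [stFun_one] at hd'; norm_cast at hd'; omega
    · rw [ps_one] at hd'; norm_cast at hd'; omega
    · exact cusp_vanish hc h01 h10 hne
  · have hd' : χ 1 = ((Fintype.card F + 1 : ℕ) : ℂ) := by push_cast; exact hd
    rcases cases hχ with ⟨α, rfl⟩ | ⟨α, rfl⟩ | ⟨α, β, -, rfl⟩ | ⟨-, he⟩
    · rw [dc_one] at hd'; norm_cast at hd'; omega
    · rw [stFun_one] at hd'; norm_cast at hd'; omega
    · exact ps_elliptic α β hg
    · rw [he] at hd'; norm_cast at hd'; omega


end Cfsg.Agent.S2309
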