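import Cfsg.Statements.S2310
import Cfsg.Agent.Lib.GL2Chars37.Chars
-- import your own Cfsg.Agent.* helpers here

set_option autoImplicit false
open Cfsg

namespace Cfsg.Agent.S2310

/-- Over a finite field F with q ≥ 3 elements, let u be the upper unitriangular matrix of GL₂ with off-diagonal entry 1. An irreducible complex character χ of GL₂ takes at u the value 1 if χ has degree 1 or q + 1, the value −1 if χ has degree q − 1, and the value 0 if χ has degree q. -/
theorem result {F : Type*} [Field F] [Fintype F] (hq : 3 ≤ Fintype.card F) (χ : Matrix.GeneralLinearGroup (Fin 2) F → ℂ) (hχ : Cfsg.IsIrrCharacter (Matrix.GeneralLinearGroup (Fin 2) F) χ)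
    (u : Matrix.GeneralLinearGroup (Fin 2) F) (hu : (u : Matrix (Fin 2) (Fin 2) F) = !![1, 1; 0, 1]) :
    (χ 1 = 1 → χ u = 1) ∧ (χ 1 = (Fintype.card F : ℂ) + 1 → χ u = 1) ∧
    (χ 1 = (Fintype.card F : ℂ) - 1 → χ u = -1) ∧ (χ 1 = (Fintype.card F : ℂ) → χ u = 0) := by
  classical
  open Cfsg.Agent.Lib.GL2Chars37 in
  have key : χ u = if χ 1 = 1 ∨ χ 1 = (Fintype.card F : ℂ) + 1 then 1 else
      if χ 1 = (Fintype.card F : ℂ) - 1 then -1 else 0 := by
    have hu' : u = transv := by
      apply gl_ext <;> simp [hu, transv, mB]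
    have hps : ∀ α β : MulChar F ℂ, ps α β u = 1 := fun α β => by
      rw [ps_upper α β u (by simp [hu])]; simp [hu]
    have hdc : ∀ α : MulChar F ℂ, (dc α).1 u = 1 := fun α => by simp [dc_apply, hu]
    have hc : (3 : ℂ) ≠ 0 := by norm_num
    rcases cases hχ with ⟨α, rfl⟩ | ⟨α, rfl⟩ | ⟨α, β, -, rfl⟩ | ⟨hc, he⟩
    · rw [if_pos (Or.inl (dc_one α)), hdc]
    · have e : stFun α u = 0 := by rw [stFun, Pi.sub_apply, hps, hdc, sub_self]
      rw [e, stFun_one, if_neg, if_neg]
      · exact fun h => one_ne_zero (α := ℂ) (by linear_combination h)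
      · rintro (h | h)
        · norm_cast at h; omega
        · exact one_ne_zero (α := ℂ) (by linear_combination -h)
    · rw [if_pos (Or.inr (ps_one α β)), hps]
    · have hcast : ((Fintype.card F - 1 : ℕ) : ℂ) = (Fintype.card F : ℂ) - 1 := by
        rw [Nat.cast_sub (by omega), Nat.cast_one]
      rw [if_neg, if_pos (by rw [he, hcast])]
      · have h := cusp_transv hc
        simp only [he, hcast] at h
        rw [hu']
        exact mul_left_cancel₀ (card_sub_one_ne_zero (F := F)) (by linear_combination h)
      · rw [he]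
        rintro (h | h)
        · norm_cast at h; omega
        · rw [hcast] at h; exact (two_ne_zero (α := ℂ)) (by linear_combination -h)
  have h3 : (Fintype.card F : ℂ) ≠ 1 := by norm_cast; omega
  have h4 : (Fintype.card F : ℂ) ≠ 2 := by norm_cast; omega
  refine ⟨fun h => ?_, fun h => ?_, fun h => ?_, fun h => ?_⟩
  · rw [key, if_pos (Or.inl h)]
  · rw [key, if_pos (Or.inr h)]
  · rw [key, if_neg, if_pos h]
    rw [h]
    rintro (e | e)
    · exact h4 (by linear_combination e)
    · exact two_ne_zero (α := ℂ) (by linear_combination -e)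
  · rw [key, if_neg, if_neg]
    · rw [h]; exact fun e => one_ne_zero (α := ℂ) (by linear_combination e)
    · rw [h]
      rintro (e | e)
      · exact h3 e
      · exact one_ne_zero (α := ℂ) (by linear_combination -e)


end Cfsg.Agent.S2310
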