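import Cfsg.Statements.S2313
import Cfsg.Agent.Lib.Steinberg.Values
import Cfsg.Agent.Lib.ChevStructure.CommGL

set_option autoImplicit false
open Cfsg

namespace Cfsg.Agent.S2313

/-- In a Chevalley group of type G₂, B₂, D₄, F₄, E₆, E₇ or E₈ over a finite field, the restriction of the Steinberg character to the subgroup B = UH is the permutation character of B on the cosets of the diagonal subgroup H: at b ∈ B its value is the number of cosets xH, x ∈ B, with bxH = xH. -/
theorem result {F : Type*} [Field F] [Fintype F] (D : Cfsg.Lie.ChevalleyDatum) (hD : D ∈ [Cfsg.Lie.chevG2, Cfsg.Lie.chevB2, Cfsg.Lie.chevD4, Cfsg.Lie.chevF4, Cfsg.Lie.chevE6, Cfsg.Lie.chevE7, Cfsg.Lie.chevE8]) (b : ↥((D.borelSubgroup F).subgroupOf (D.group F))) :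
    D.steinbergCharacter F ((((D.borelSubgroup F).subgroupOf (D.group F)).subtype) b) =
      Cfsg.fixedPointCharacter (((D.diagonalSubgroup F).subgroupOf (D.group F)).subgroupOf ((D.borelSubgroup F).subgroupOf (D.group F))) b := by
  classical
  obtain ⟨⟨C, H⟩⟩ := Lib.ChevStructure.nonempty_sys D hD
  set T := ((D.diagonalSubgroup F).subgroupOf (D.group F)).subgroupOf ((D.borelSubgroup F).subgroupOf (D.group F)) with hT
  have hb : ((D.borelSubgroup F).subgroupOf (D.group F)).subtype b ∈ Lib.Steinberg.borG F C := b.2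
  rw [Lib.Steinberg.steinbergCharacter_eq C,
    Lib.Steinberg.master H ∅ (Lib.Steinberg.elliptic_empty hb)]
  set K0 : Set (Fin D.rank) := ((∅ : Finset (Fin D.rank)) : Set (Fin D.rank)) with hK0
  set p0 := Lib.Steinberg.pt C F (Lib.Steinberg.mTop C K0) (Lib.Steinberg.dTop C K0) with hp0
  have hpar : Lib.Steinberg.parG F C K0 = ((D.borelSubgroup F).subgroupOf (D.group F)) := by
    rw [hK0, Finset.coe_empty]; exact Lib.Steinberg.parG_empty
  have hTfix : ∀ t : ↥((D.borelSubgroup F).subgroupOf (D.group F)), t ∈ T → (t : ↥(D.group F)) • p0 = p0 := fun t ht =>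
    Lib.Steinberg.levi_fix Lib.Steinberg.dTop_red (Lib.Steinberg.top_full H)
      (show ((t : ↥(D.group F)) : GL D.Idx F) ∈ D.leviSubgroup F _ from Subgroup.mem_sup_left ht)
  have hstab : ∀ x : ↥((D.borelSubgroup F).subgroupOf (D.group F)), (x : ↥(D.group F)) • p0 = p0 → x ∈ T := by
    intro x hx
    obtain ⟨v, hv, k, hk, e⟩ := C.mem_borel_iff.1 (show ((x : ↥(D.group F)) : GL D.Idx F) ∈
      D.borelSubgroup F from x.2)
    let v' : ↥(D.group F) := ⟨v, C.US_le_group _ hv⟩
    let k' : ↥(D.group F) := ⟨k, C.diagonal_le_group hk⟩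
    have e' : (x : ↥(D.group F)) = v' * k' := Subtype.ext e
    have hk' : k' • p0 = p0 := Lib.Steinberg.levi_fix Lib.Steinberg.dTop_red
      (Lib.Steinberg.top_full H) (show (k' : GL D.Idx F) ∈ D.leviSubgroup F _ from
        Subgroup.mem_sup_left hk)
    rw [e', mul_smul, hk'] at hx
    have hv' : v' ∈ Lib.Steinberg.uG C F (Lib.Steinberg.radK C K0) := by
      show v ∈ C.US F _
      rw [hK0, Finset.coe_empty, Lib.Steinberg.radK_empty]
      exact hv
    have h1 := Lib.Steinberg.rad_free H hv' hx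
    show ((x : ↥(D.group F)) : GL D.Idx F) ∈ D.diagonalSubgroup F
    rw [e', h1, one_mul]
    exact hk
  let φ : ↥((D.borelSubgroup F).subgroupOf (D.group F)) ⧸ T → ↥(D.group F) ⧸ Lib.Steinberg.parG F C (Lib.Steinberg.mTop C K0) :=
    Quotient.lift (fun x : ↥((D.borelSubgroup F).subgroupOf (D.group F)) => (x : ↥(D.group F)) • p0) (fun x y h => by
      have h' : x⁻¹ * y ∈ T := QuotientGroup.leftRel_apply.1 h
      have := hTfix _ h'
      rw [Subgroup.coe_mul, Subgroup.coe_inv, mul_smul, inv_smul_eq_iff] at this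
      exact this.symm)
  have hφ : ∀ x : ↥((D.borelSubgroup F).subgroupOf (D.group F)), φ (QuotientGroup.mk x) = (x : ↥(D.group F)) • p0 := fun x => rfl
  have hinj : Function.Injective φ := by
    intro a c h
    obtain ⟨x, rfl⟩ := QuotientGroup.mk_surjective a
    obtain ⟨y, rfl⟩ := QuotientGroup.mk_surjective c
    rw [hφ, hφ] at h
    refine QuotientGroup.eq.2 (hstab _ ?_)
    rw [Subgroup.coe_mul, Subgroup.coe_inv, mul_smul, ← h, inv_smul_smul]
  have himage : φ '' (MulAction.fixedBy (↥((D.borelSubgroup F).subgroupOf (D.group F)) ⧸ T) b) =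
      Lib.Steinberg.OrbFix C F K0 (Lib.Steinberg.mTop C K0) (Lib.Steinberg.dTop C K0)
        (((D.borelSubgroup F).subgroupOf (D.group F)).subtype b) := by
    ext z
    constructor
    · rintro ⟨a, ha, rfl⟩
      obtain ⟨x, rfl⟩ := QuotientGroup.mk_surjective a
      refine ⟨⟨x, hpar.symm ▸ x.2, rfl⟩, ?_⟩
      rw [MulAction.mem_fixedBy, MulAction.Quotient.smul_mk] at ha
      have h2 := congrArg φ ha
      rw [hφ, hφ, smul_eq_mul, Subgroup.coe_mul, mul_smul] at h2
      exact h2
    · rintro ⟨⟨p, hp, rfl⟩, hz⟩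
      refine ⟨QuotientGroup.mk ⟨p, hpar ▸ hp⟩, ?_, rfl⟩
      rw [MulAction.mem_fixedBy]
      apply hinj
      rw [MulAction.Quotient.smul_mk, hφ, hφ, smul_eq_mul, Subgroup.coe_mul, mul_smul]
      exact hz
  rw [Cfsg.fixedPointCharacter, Nat.card_coe_set_eq, ← Set.ncard_image_of_injective _ hinj, himage]
  simp [hK0]

end Cfsg.Agent.S2313
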