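import Cfsg.Statements.S2315
import Cfsg.Agent.Lib.NilpotentCount.Basic

set_option autoImplicit false
open Cfsg

namespace Cfsg.Agent.S2315

/-- Steinberg's count of unipotent elements for the general linear group: over a finite field with q elements of characteristic p, the number of elements of GL_n of p-power order (the unipotent matrices) is q^(n(n−1)). -/
theorem result {F : Type*} [Field F] [Fintype F] (p : ℕ) [Fact p.Prime] [CharP F p] (n : ℕ) :
    Nat.card {g : Matrix.GeneralLinearGroup (Fin n) F // ∃ k : ℕ, orderOf g = p ^ k} = Fintype.card F ^ (n * (n - 1)) := by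
  classical
  rcases Nat.eq_zero_or_pos n with rfl | hn
  · haveI : Unique {g : Matrix.GeneralLinearGroup (Fin 0) F // ∃ k : ℕ, orderOf g = p ^ k} :=
      ⟨⟨⟨1, 0, by simp⟩⟩, fun _ => Subtype.ext (Subsingleton.elim _ _)⟩
    simp
  haveI : Nonempty (Fin n) := ⟨⟨0, hn⟩⟩
  let e : Matrix (Fin n) (Fin n) F ≃ₐ[F] Module.End F (Fin n → F) := Matrix.toLinAlgEquiv'
  have hiff : ∀ g : Matrix.GeneralLinearGroup (Fin n) F, (∃ k : ℕ, orderOf g = p ^ k) ↔
      IsNilpotent (e ((g : Matrix (Fin n) (Fin n) F) - 1)) := by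
    intro g
    rw [IsNilpotent.map_iff e.injective]
    have hp : ∀ k, ((g : Matrix (Fin n) (Fin n) F) - 1) ^ p ^ k =
        ((g ^ p ^ k : Matrix.GeneralLinearGroup (Fin n) F) : Matrix (Fin n) (Fin n) F) - 1 := by
      intro k
      rw [sub_pow_char_pow_of_commute (p := p) (h := Commute.one_right _), one_pow, Units.val_pow_eq_pow_val]
    constructor
    · rintro ⟨k, hk⟩
      exact ⟨p ^ k, by rw [hp, ← hk, pow_orderOf_eq_one, Units.val_one, sub_self]⟩
    · rintro ⟨m, hm⟩
      obtain ⟨k, hk⟩ : ∃ k, m ≤ p ^ k := ⟨m, (Nat.lt_pow_self (Fact.out (p := p.Prime)).one_lt).le⟩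
      have h1 : g ^ p ^ k = 1 := by
        apply Units.ext
        rw [Units.val_one, ← sub_eq_zero, ← hp, pow_eq_zero_of_le hk hm]
      obtain ⟨j, _, hj⟩ := (Nat.dvd_prime_pow Fact.out).mp (orderOf_dvd_of_pow_eq_one h1)
      exact ⟨j, hj⟩
  rw [← Lib.NilpotentCount.card_nilpotent (F := F) n
    (V := Fin n → F) (Module.finrank_fin_fun F)]
  refine Nat.card_eq_of_bijective (fun g => ⟨e ((g.1 : Matrix (Fin n) (Fin n) F) - 1), (hiff g.1).mp g.2⟩)
    ⟨fun a b h => ?_, fun f => ?_⟩
  · have := congrArg Subtype.val h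
    simpa [Subtype.ext_iff, Units.ext_iff] using this
  · obtain ⟨N, hN⟩ := e.surjective f.1
    have hNn : IsNilpotent N := by
      rw [← IsNilpotent.map_iff e.injective, hN]; exact f.2
    refine ⟨⟨(hNn.isUnit_one_add).unit, (hiff _).mpr ?_⟩, Subtype.ext ?_⟩
    · simpa [hN] using f.2
    · simp [hN]

end Cfsg.Agent.S2315
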