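import Cfsg.Statements.S2317
import Cfsg.Agent.Lib.JordanType.Conj

set_option autoImplicit false
open Cfsg

namespace Cfsg.Agent.S2317

open Agent.Lib.JordanType in
/-- Unipotence as a condition on the order. -/
theorem orderOf_ppow_iff {F : Type*} [Field F] (p : ℕ) [Fact p.Prime] [CharP F p] {n : ℕ}
    (g : Matrix.GeneralLinearGroup (Fin n) F) :
    (∃ k : ℕ, orderOf g = p ^ k) ↔ IsNilpotent ((g : Matrix (Fin n) (Fin n) F) - 1) := by
  rcases isEmpty_or_nonempty (Fin n) with h | h
  · exact ⟨fun _ => ⟨1, Subsingleton.elim _ _⟩,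
      fun _ => ⟨0, by rw [pow_zero, orderOf_eq_one_iff]; exact Subsingleton.elim _ _⟩⟩
  have hp := Fact.out (p := p.Prime)
  constructor
  · rintro ⟨k, hk⟩
    refine ⟨p ^ k, ?_⟩
    rw [sub_pow_char_pow_of_commute _ _ (Commute.one_right _), one_pow, ← Units.val_pow_eq_pow_val,
      ← hk, pow_orderOf_eq_one, Units.val_one, sub_self]
  · rintro ⟨m, hm⟩
    have hg : g ^ p ^ m = 1 := by
      refine Units.ext ?_
      rw [Units.val_pow_eq_pow_val, Units.val_one, ← sub_eq_zero]
      have h0 := pow_eq_zero_of_le (Nat.lt_pow_self hp.one_lt).le hm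
      rwa [sub_pow_char_pow_of_commute _ _ (Commute.one_right _), one_pow] at h0
    obtain ⟨k, -, hk⟩ := (Nat.dvd_prime_pow hp).1 (orderOf_dvd_of_pow_eq_one hg)
    exact ⟨k, hk⟩

open Agent.Lib.JordanType in
/-- A unipotent element with blocks given by a partition. -/
theorem exists_elt {F : Type*} [Field F] {n : ℕ} (π : Nat.Partition n) :
    ∃ (g : Matrix.GeneralLinearGroup (Fin n) F) (t : ℕ) (d : Fin t → ℕ),
      (Finset.univ.val.map d) = π.parts ∧
      Nonempty (Coords (Matrix.toLin' ((g : Matrix (Fin n) (Fin n) F) - 1)) d) := by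
  classical
  set l := π.parts.toList with hl
  let d : Fin l.length → ℕ := fun i => l.get i
  have hd : (Finset.univ.val.map d) = π.parts := by
    rw [Fin.univ_val_map, List.ofFn_get, hl, Multiset.coe_toList]
  have hsum : ∑ k, d k = n := by
    rw [Finset.sum_eq_multiset_sum, hd, π.parts_sum]
  let e : ((k : Fin l.length) × Fin (d k)) ≃ Fin n := Fintype.equivFinOfCardEq (by simp [hsum])
  have hu := (isNilpotent_reindex_sub_one (F := F) d e).isUnit_add_one
  rw [sub_add_cancel] at hu
  exact ⟨hu.unit, l.length, d, hd, ⟨reindexCoords d e⟩⟩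

/-- Over a finite field of characteristic p, the conjugacy classes of GL_n consisting of elements of p-power order (the unipotent classes) are as many as the partitions of n. -/
theorem result {F : Type*} [Field F] [Fintype F] (p : ℕ) [Fact p.Prime] [CharP F p] (n : ℕ) :
    Nat.card {C : ConjClasses (Matrix.GeneralLinearGroup (Fin n) F) //
      ∃ g : Matrix.GeneralLinearGroup (Fin n) F, (∃ k : ℕ, orderOf g = p ^ k) ∧ ConjClasses.mk g = C} =
      Fintype.card (Nat.Partition n) := by
  classical
  choose g t d hd hC using fun π : Nat.Partition n => exists_elt (F := F) π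
  have hpos : ∀ π k, 1 ≤ d π k := fun π k => π.parts_pos (by
    rw [← hd π]; exact Multiset.mem_map.2 ⟨k, Finset.mem_univ k, rfl⟩)
  have hcount : ∀ π j, Multiset.count j π.parts = (Finset.univ.filter fun k => d π k = j).card := by
    intro π j
    rw [← hd π, Multiset.count_map, ← Finset.filter_val, Finset.card_val]
    exact congrArg _ (Finset.filter_congr fun k _ => eq_comm)
  let ψ : Nat.Partition n → {C : ConjClasses (Matrix.GeneralLinearGroup (Fin n) F) //
      ∃ g : Matrix.GeneralLinearGroup (Fin n) F, (∃ k : ℕ, orderOf g = p ^ k) ∧ ConjClasses.mk g = C} :=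
    fun π => ⟨ConjClasses.mk (g π), g π, (orderOf_ppow_iff p _).2 (by
      obtain ⟨C⟩ := hC π
      refine ⟨n, Matrix.toLin'.injective ?_⟩
      rw [Matrix.toLin'_pow, map_zero, C.pow_eq_zero_iff]
      intro k
      have h1 := Finset.single_le_sum (fun i _ => Nat.zero_le (d π i)) (Finset.mem_univ k)
      rwa [C.sum_eq_finrank, Module.finrank_fin_fun] at h1), rfl⟩
  rw [← Nat.card_eq_fintype_card]
  refine (Nat.card_eq_of_bijective ψ ⟨fun π π' h => ?_, ?_⟩).symm
  · have h1 := ConjClasses.mk_eq_mk_iff_isConj.1 (congrArg Subtype.val h)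
    obtain ⟨e, he⟩ := Agent.Lib.JordanType.intertwine_of_isConj
      ((Units.coeHom (Matrix (Fin n) (Fin n) F)).map_isConj h1)
    obtain ⟨C⟩ := hC π
    obtain ⟨C'⟩ := hC π'
    refine Nat.Partition.ext (Multiset.ext.2 fun j => ?_)
    rcases Nat.eq_zero_or_pos j with rfl | hj
    · rw [Multiset.count_eq_zero.2 fun h0 => absurd (π.parts_pos h0) (lt_irrefl 0),
        Multiset.count_eq_zero.2 fun h0 => absurd (π'.parts_pos h0) (lt_irrefl 0)]
    · rw [hcount, hcount]
      exact Agent.Lib.JordanType.count_eq_of_coords (C.map e he) C' hj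
  · rintro ⟨_, x, hx, rfl⟩
    obtain ⟨s, c, e, hc, ⟨C⟩, -⟩ := Agent.Lib.JordanType.exists_jordanType _ ((orderOf_ppow_iff p x).1 hx)
    let π : Nat.Partition n := ⟨Finset.univ.val.map c,
      fun {i} hi => by obtain ⟨k, -, rfl⟩ := Multiset.mem_map.1 hi; exact hc k,
      by rw [← Finset.sum_eq_multiset_sum, C.sum_eq_finrank, Module.finrank_fin_fun]⟩
    refine ⟨π, Subtype.ext (ConjClasses.mk_eq_mk_iff_isConj.2 ?_)⟩
    obtain ⟨C'⟩ := hC π
    obtain ⟨f, hf⟩ := Agent.Lib.JordanType.exists_conj_of_count C' C (hpos π) hc fun j _ => by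
      rw [← hcount π j]
      show Multiset.count j (Finset.univ.val.map c) = _
      rw [Multiset.count_map, ← Finset.filter_val, Finset.card_val]
      exact congrArg _ (Finset.filter_congr fun k _ => eq_comm)
    obtain ⟨u, hu⟩ := Agent.Lib.JordanType.isConj_of_intertwine f hf
    exact ⟨toUnits u, Units.ext hu⟩

end Cfsg.Agent.S2317
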