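import Cfsg.Statements.S2319
import Cfsg.Agent.Lib.HeckeDeform.Chevalley


set_option autoImplicit false
open Cfsg

namespace Cfsg.Agent.S2319

/-- In a Chevalley group of type G₂, B₂, D₄, F₄, E₆, E₇ or E₈ over a finite field, the number of distinct irreducible constituents of the permutation character on the cosets of B = UH equals the number of conjugacy classes (equivalently, of irreducible characters) of the Weyl group, the Coxeter group of the type with nodes numbered as the fundamental roots. -/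
theorem result {F : Type*} [Field F] [Fintype F]
    (dw : Cfsg.Lie.ChevalleyDatum × (Σ n : ℕ, CoxeterMatrix (Fin n)))
    (hdw : dw ∈ [(Cfsg.Lie.chevG2, ⟨2, CoxeterMatrix.G₂⟩), (Cfsg.Lie.chevB2, ⟨2, CoxeterMatrix.B 2⟩), (Cfsg.Lie.chevD4, ⟨4, Cfsg.Lie.coxeterD4⟩), (Cfsg.Lie.chevF4, ⟨4, CoxeterMatrix.F₄⟩),
      (Cfsg.Lie.chevE6, ⟨6, CoxeterMatrix.E₆⟩), (Cfsg.Lie.chevE7, ⟨7, CoxeterMatrix.E₇⟩), (Cfsg.Lie.chevE8, ⟨8, CoxeterMatrix.E₈⟩)]) :
    Nat.card {χ : Cfsg.IrrCharacter ↥(dw.1.group F) //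
      ∃ φ : ↥(dw.1.group F) → ℂ, Cfsg.IsCharacter ↥(dw.1.group F) φ ∧
        Cfsg.fixedPointCharacter ((dw.1.borelSubgroup F).subgroupOf (dw.1.group F)) = (χ : ↥(dw.1.group F) → ℂ) + φ} =
      Nat.card (ConjClasses dw.2.2.Group) := by
  simp only [List.mem_cons, List.not_mem_nil, or_false] at hdw
  rcases hdw with rfl | rfl | rfl | rfl | rfl | rfl | rfl
  · exact Lib.HeckeDeform.Chevalley.card_constituents_eq Lib.ChevStructure.commOK_G2 F
      fun i j => (Lib.ChevStructure.Cert.G2.certified.orderOf_sref Lib.ChevStructure.coxG2 i j).trans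
        (dif_pos ⟨i.2, j.2⟩)
  · exact Lib.HeckeDeform.Chevalley.card_constituents_eq (Lib.ChevStructure.Core.commOK_mild Lib.ChevStructure.Cert.B2.core Lib.ChevStructure.mildB2) F
      fun i j => (Lib.ChevStructure.Cert.B2.certified.orderOf_sref Lib.ChevStructure.coxB2 i j).trans
        (dif_pos ⟨i.2, j.2⟩)
  · exact Lib.HeckeDeform.Chevalley.card_constituents_eq (Lib.ChevStructure.Core.commOK_mild Lib.ChevStructure.Cert.D4.core Lib.ChevStructure.mildD4) F
      fun i j => (Lib.ChevStructure.Cert.D4.certified.orderOf_sref Lib.ChevStructure.coxD4 i j).trans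
        (dif_pos ⟨i.2, j.2⟩)
  · exact Lib.HeckeDeform.Chevalley.card_constituents_eq (Lib.ChevStructure.Core.commOK_mild Lib.ChevStructure.Cert.F4.core Lib.ChevStructure.mildF4) F
      fun i j => (Lib.ChevStructure.Cert.F4.certified.orderOf_sref Lib.ChevStructure.coxF4 i j).trans
        (dif_pos ⟨i.2, j.2⟩)
  · exact Lib.HeckeDeform.Chevalley.card_constituents_eq (Lib.ChevStructure.Core.commOK_mild Lib.ChevStructure.Cert.E6.core Lib.ChevStructure.mildE6) F
      fun i j => (Lib.ChevStructure.Cert.E6.certified.orderOf_sref Lib.ChevStructure.coxE6 i j).trans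
        (dif_pos ⟨i.2, j.2⟩)
  · exact Lib.HeckeDeform.Chevalley.card_constituents_eq (Lib.ChevStructure.Core.commOK_mild Lib.ChevStructure.Cert.E7.core Lib.ChevStructure.mildE7) F
      fun i j => (Lib.ChevStructure.Cert.E7.certified.orderOf_sref Lib.ChevStructure.coxE7 i j).trans
        (dif_pos ⟨i.2, j.2⟩)
  · exact Lib.HeckeDeform.Chevalley.card_constituents_eq (Lib.ChevStructure.Core.commOK_mild Lib.ChevStructure.Cert.E8.core Lib.ChevStructure.mildE8) F
      fun i j => (Lib.ChevStructure.Cert.E8.certified.orderOf_sref Lib.ChevStructure.coxE8 i j).trans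
        (dif_pos ⟨i.2, j.2⟩)

end Cfsg.Agent.S2319
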