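import Cfsg.Statements.S2320
import Cfsg.Agent.Lib.GL2Chars37.Chars
-- import your own Cfsg.Agent.* helpers here

set_option autoImplicit false
open Cfsg

namespace Cfsg.Agent.S2320

/-- Over a finite field F with q elements, every irreducible complex character of GL₂ of degree q takes a value of absolute value 1 at every diagonal matrix with two different diagonal entries and at every element with no eigenvector in F². -/
theorem result {F : Type*} [Field F] [Fintype F] (χ : Matrix.GeneralLinearGroup (Fin 2) F → ℂ) (hχ : Cfsg.IsIrrCharacter (Matrix.GeneralLinearGroup (Fin 2) F) χ) (hdeg : χ 1 = (Fintype.card F : ℂ)) (g : Matrix.GeneralLinearGroup (Fin 2) F) :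
    ((g : Matrix (Fin 2) (Fin 2) F) 0 1 = 0 → (g : Matrix (Fin 2) (Fin 2) F) 1 0 = 0 → (g : Matrix (Fin 2) (Fin 2) F) 0 0 ≠ (g : Matrix (Fin 2) (Fin 2) F) 1 1 → ‖χ g‖ = 1) ∧
    ((∀ (c : F) (v : Fin 2 → F), v ≠ 0 → (g : Matrix (Fin 2) (Fin 2) F).mulVec v ≠ c • v) → ‖χ g‖ = 1) := by
  classical
  open Cfsg.Agent.Lib.GL2Chars37 in
  rcases cases hχ with ⟨α, rfl⟩ | ⟨α, rfl⟩ | ⟨α, β, -, rfl⟩ | ⟨-, he⟩
  · rw [Cfsg.Agent.Lib.GL2Chars37.dc_one] at hdeg
    have := Fintype.one_lt_card (α := F)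
    norm_cast at hdeg
    omega
  · refine ⟨fun h01 h10 hne => ?_, fun hg => ?_⟩
    · open Cfsg.Agent.Lib.GL2Chars37 in
      rw [stFun, Pi.sub_apply, ps_upper _ _ g h10, if_neg hne, dc_apply, h10, mul_zero, sub_zero,
        map_mul]
      obtain ⟨ha, hd⟩ := Cfsg.Agent.Lib.GL2Chars37.diag_ne_zero h10
      rw [mul_comm (α (g.val 1 1)), add_sub_cancel_right, norm_mul,
        Cfsg.Agent.Lib.GL2Chars37.norm_mulChar α ha, Cfsg.Agent.Lib.GL2Chars37.norm_mulChar α hd, mul_one]
    · open Cfsg.Agent.Lib.GL2Chars37 in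
      rw [stFun, Pi.sub_apply, ps_elliptic _ _ hg, zero_sub, norm_neg, dc_apply,
        norm_mulChar α (det_ne g)]
  · rw [Cfsg.Agent.Lib.GL2Chars37.ps_one] at hdeg
    exact absurd (show (1 : ℂ) = 0 by linear_combination hdeg) one_ne_zero
  · rw [he] at hdeg
    have := Fintype.one_lt_card (α := F)
    norm_cast at hdeg
    omega


end Cfsg.Agent.S2320
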