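import Cfsg.Statements.S2322
import Cfsg.Agent.Lib.SL2Chars49.Counts
-- import your own Cfsg.Agent.* helpers here

set_option autoImplicit false
open Cfsg

namespace Cfsg.Agent.S2322

open Cfsg.Agent.Lib.SL2Chars49

/-- Over a finite field F with q elements, q odd: every irreducible complex character of SL₂ of degree q − 1 or (q − 1)/2 vanishes at every diagonal matrix whose diagonal entry a has a² ≠ 1, and every irreducible complex character of degree q + 1 or (q + 1)/2 vanishes at every element with no eigenvector in F². -/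
theorem result {F : Type*} [Field F] [Fintype F] (hodd : Odd (Fintype.card F)) (χ : Matrix.SpecialLinearGroup (Fin 2) F → ℂ) (hχ : Cfsg.IsIrrCharacter (Matrix.SpecialLinearGroup (Fin 2) F) χ) (g : Matrix.SpecialLinearGroup (Fin 2) F) :
    ((χ 1 = (Fintype.card F : ℂ) - 1 ∨ χ 1 = (((Fintype.card F - 1) / 2 : ℕ) : ℂ)) →
      (g : Matrix (Fin 2) (Fin 2) F) 0 1 = 0 → (g : Matrix (Fin 2) (Fin 2) F) 1 0 = 0 → (g : Matrix (Fin 2) (Fin 2) F) 0 0 ^ 2 ≠ 1 → χ g = 0) ∧
    ((χ 1 = (Fintype.card F : ℂ) + 1 ∨ χ 1 = (((Fintype.card F + 1) / 2 : ℕ) : ℂ)) →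
      (∀ (c : F) (v : Fin 2 → F), v ≠ 0 → (g : Matrix (Fin 2) (Fin 2) F).mulVec v ≠ c • v) → χ g = 0) := by
  classical
  obtain ⟨C, hC, hcard⟩ := exists_C (F := F)
  have hq3 : Fintype.card F = 3 ∨ 4 ≤ Fintype.card F := by
    obtain ⟨k, hk⟩ := hodd
    have := two_le_q (F := F)
    omega
  have hcl : Cfsg.IsClassFunction (Matrix.SpecialLinearGroup (Fin 2) F) χ :=
    Cfsg.Agent.Lib.Characters.Basic.isClassFunction_irr
      (⟨χ, hχ⟩ : Cfsg.IrrCharacter (Matrix.SpecialLinearGroup (Fin 2) F))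
  constructor
  · intro h h01 h10 hsq
    obtain ⟨a, rfl, ha⟩ := exists_eq_dg h01 h10
    have ha' := mul_self_ne_one_of_sq hsq
    rcases hq3 with h3 | h4
    · exact absurd (sq_ne_one_three h3 a) ha'
    rcases h with h | h
    · obtain ⟨θ, -, rfl⟩ := exists_dX_of_deg hC hcard hχ h4 h
      exact dX_dg hC hcard θ ha'
    · obtain ⟨ε, θ, d, -, -, -, -, -, hv, -, -⟩ :=
        (isHalfM_of_deg hC hcard hχ hodd h4 h).values hodd
      exact hv a ha'
  · intro h hn
    obtain ⟨c, P, hc, rfl⟩ := exists_conj_of_noEigen hC hcard hn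
    rw [hcl]
    have hns := (C_regular hC hcard c.2 hc).2.1
    rcases h with h | h
    · obtain ⟨α, -, rfl⟩ := exists_pi_of_deg hC hcard hχ h
      exact pi_nonsplit α hns
    rcases hq3 with h3 | h4
    · rw [h3] at h
      norm_num at h
      rcases classify hC hcard hχ with hb | ⟨-, hb | hb⟩
      · rcases hb.degree with ⟨e, -⟩ | ⟨e, -⟩ | ⟨e, -⟩ | ⟨-, θ, hθ, rfl⟩
        · rw [h] at e; norm_num at e
        · rw [h, h3] at e; norm_num at e
        · rw [h, h3] at e; norm_num at e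
        · rw [dX_C hC hcard θ c hc, theta_sum_zero_of_three hC hcard h3 hθ c hc, neg_zero]
      · obtain ⟨ε, d, -, -, -, -, hv, -⟩ := hb.values hC hcard hodd
        exact hv c hc
      · have e := hb.degree
        rw [h, h3] at e; norm_num at e
    · obtain ⟨ε, d, -, -, -, -, hv, -⟩ :=
        (isHalfP_of_deg hC hcard hχ hodd h4 h).values hC hcard hodd
      exact hv c hc

end Cfsg.Agent.S2322
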