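import Cfsg.Statements.S2324
import Cfsg.Agent.Lib.SL2Chars49.Counts
-- import your own Cfsg.Agent.* helpers here

set_option autoImplicit false
open Cfsg

namespace Cfsg.Agent.S2324

open Cfsg.Agent.Lib.SL2Chars49

/-- Over a finite field F with q elements, q odd and q ≥ 5, let u be the upper unitriangular matrix of SL₂ with off-diagonal entry 1 and let δ = (−1)^((q−1)/2). Every irreducible complex character χ of SL₂ of degree (q + 1)/2 satisfies (2χ(u) − 1)² = δq, and every irreducible complex character χ of degree (q − 1)/2 satisfies (2χ(u) + 1)² = δq; that is, χ(u) = (1 ± √(δq))/2 in the first case and χ(u) = (−1 ± √(δq))/2 in the second. Moreover two different irreducible characters of degree (q + 1)/2 take the two different values (their values at u add up to 1), and likewise for degree (q − 1)/2 (values adding up to −1). -/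
theorem result {F : Type*} [Field F] [Fintype F] (hodd : Odd (Fintype.card F)) (hq : 5 ≤ Fintype.card F)
    (u : Matrix.SpecialLinearGroup (Fin 2) F) (hu : (u : Matrix (Fin 2) (Fin 2) F) = !![1, 1; 0, 1]) :
    (∀ χ : Matrix.SpecialLinearGroup (Fin 2) F → ℂ, Cfsg.IsIrrCharacter (Matrix.SpecialLinearGroup (Fin 2) F) χ → χ 1 = (((Fintype.card F + 1) / 2 : ℕ) : ℂ) → (2 * χ u - 1) ^ 2 = (-1 : ℂ) ^ ((Fintype.card F - 1) / 2) * (Fintype.card F : ℂ)) ∧
    (∀ χ : Matrix.SpecialLinearGroup (Fin 2) F → ℂ, Cfsg.IsIrrCharacter (Matrix.SpecialLinearGroup (Fin 2) F) χ → χ 1 = (((Fintype.card F - 1) / 2 : ℕ) : ℂ) → (2 * χ u + 1) ^ 2 = (-1 : ℂ) ^ ((Fintype.card F - 1) / 2) * (Fintype.card F : ℂ)) ∧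
    (∀ χ₁ χ₂ : Matrix.SpecialLinearGroup (Fin 2) F → ℂ, Cfsg.IsIrrCharacter (Matrix.SpecialLinearGroup (Fin 2) F) χ₁ → Cfsg.IsIrrCharacter (Matrix.SpecialLinearGroup (Fin 2) F) χ₂ → χ₁ ≠ χ₂ →
      χ₁ 1 = (((Fintype.card F + 1) / 2 : ℕ) : ℂ) → χ₂ 1 = (((Fintype.card F + 1) / 2 : ℕ) : ℂ) → χ₁ u + χ₂ u = 1) ∧
    (∀ χ₁ χ₂ : Matrix.SpecialLinearGroup (Fin 2) F → ℂ, Cfsg.IsIrrCharacter (Matrix.SpecialLinearGroup (Fin 2) F) χ₁ → Cfsg.IsIrrCharacter (Matrix.SpecialLinearGroup (Fin 2) F) χ₂ → χ₁ ≠ χ₂ →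
      χ₁ 1 = (((Fintype.card F - 1) / 2 : ℕ) : ℂ) → χ₂ 1 = (((Fintype.card F - 1) / 2 : ℕ) : ℂ) → χ₁ u + χ₂ u = -1) := by
  classical
  obtain ⟨C, hC, hcard⟩ := exists_C (F := F)
  obtain rfl := eq_nu_of_coe hu
  obtain ⟨ε, θ, hε, hε1, hθ, hθ1, ⟨H⟩⟩ := exists_data hC hcard hodd
  refine ⟨fun χ hχ h => ?_, fun χ hχ h => ?_, fun χ₁ χ₂ h1 h2 hne d1 d2 => ?_,
    fun χ₁ χ₂ h1 h2 hne d1 d2 => ?_⟩
  · obtain ⟨ε', d, hε', hε1', hd, -, -, hv⟩ :=
      (isHalfP_of_deg hC hcard hχ hodd (by omega) h).values hC hcard hodd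
    rw [hv 1 one_ne_zero, map_one, ← eps_neg_one hε' hε1' hodd]
    linear_combination hd
  · obtain ⟨ε', θ', d, hε', hε1', -, -, hd, -, -, hv⟩ :=
      (isHalfM_of_deg hC hcard hχ hodd (by omega) h).values hodd
    rw [hv 1 one_ne_zero, map_one, ← eps_neg_one hε' hε1' hodd]
    linear_combination hd
  · have e := congrFun H.eq_p (nu 1 rt_one 1)
    rw [pi_nu ε ⟨1, rt_one⟩ one_ne_zero, map_one, Pi.add_apply] at e
    rcases H.mem_p hodd (by omega) h1 d1 with rfl | rfl <;>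
      rcases H.mem_p hodd (by omega) h2 d2 with rfl | rfl
    · exact absurd rfl hne
    · exact e.symm
    · rw [e]; ring
    · exact absurd rfl hne
  · have e := congrFun H.eq_m (nu 1 rt_one 1)
    have hz : scC hC hcard ⟨1, rt_one⟩ = 1 := Subtype.ext nu_one_zero
    rw [dX_nu hC hcard θ ⟨1, rt_one⟩ one_ne_zero, hz, map_one, Units.val_one, Pi.add_apply] at e
    rcases H.mem_m hodd (by omega) h1 d1 with rfl | rfl <;>
      rcases H.mem_m hodd (by omega) h2 d2 with rfl | rfl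
    · exact absurd rfl hne
    · exact e.symm
    · rw [e]; ring
    · exact absurd rfl hne

end Cfsg.Agent.S2324
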