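import Cfsg.Statements.S2325
import Cfsg.Agent.Lib.ClassCount48.Basic
import Cfsg.Agent.Lib.Linear.SL2

set_option autoImplicit false
open Cfsg

namespace Cfsg.Agent.S2325

open Cfsg.Agent.Lib.ClassCount48 Cfsg.Agent.Lib.LinTwo Matrix

variable {F : Type*} [Field F]

/-- The central element with sign `s`. -/
def cen (s : Bool) : Matrix.SpecialLinearGroup (Fin 2) F :=
  mk2 (if s then 1 else -1) 0 0 (if s then 1 else -1) (by cases s <;> simp)

/-- Representatives of the classes. -/
def rep (ε : F) : Bool ⊕ ({t : F // t ^ 2 ≠ 4} ⊕ Bool × Bool) → Matrix.SpecialLinearGroup (Fin 2) F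
  | Sum.inl s => cen s
  | Sum.inr (Sum.inl t) => mk2 0 (-1) 1 t.1 (by ring)
  | Sum.inr (Sum.inr se) => cen se.1 * unip (if se.2 then 1 else ε)

theorem cen_comm (s : Bool) (g : Matrix.SpecialLinearGroup (Fin 2) F) : g * cen s = cen s * g := by
  apply Subtype.ext
  ext i j
  fin_cases i <;> fin_cases j <;> simp [cen, Matrix.mul_apply, Fin.sum_univ_two] <;> ring

theorem cen_mul_self (s : Bool) : (cen s : Matrix.SpecialLinearGroup (Fin 2) F) * cen s = 1 := by
  apply Subtype.ext
  ext i j
  fin_cases i <;> fin_cases j <;> cases s <;> simp [cen, Matrix.mul_apply, Fin.sum_univ_two]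

theorem isConj_cen_mul {s : Bool} {a b : Matrix.SpecialLinearGroup (Fin 2) F} (h : IsConj a b) :
    IsConj (cen s * a) (cen s * b) := by
  obtain ⟨g, hg⟩ := isConj_iff.1 h
  refine isConj_iff.2 ⟨g, ?_⟩
  rw [← hg, ← mul_assoc g, cen_comm, mul_assoc, mul_assoc, mul_assoc]

theorem not_isConj_cen {s : Bool} {b : Matrix.SpecialLinearGroup (Fin 2) F}
    (h : IsConj (cen s) b) : b = cen s := by
  obtain ⟨g, hg⟩ := isConj_iff.1 h
  rw [← hg, cen_comm, mul_inv_cancel_right]

theorem trace_cen_mul_unip (s : Bool) (b : F) :
    ((cen s * unip b : Matrix.SpecialLinearGroup (Fin 2) F) : Matrix (Fin 2) (Fin 2) F).trace =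
      if s then 2 else -2 := by
  cases s <;> simp [cen, coe_unip, trace_fin_two, Matrix.mul_apply, Fin.sum_univ_two] <;> norm_num

theorem entry_cen_mul_unip (s : Bool) (b : F) :
    ((cen s * unip b : Matrix.SpecialLinearGroup (Fin 2) F) : Matrix (Fin 2) (Fin 2) F) 0 1 =
      if s then b else -b := by
  cases s <;> simp [cen, coe_unip, Matrix.mul_apply, Fin.sum_univ_two]

theorem rep_bijective [Fintype F] (h2 : (2 : F) ≠ 0) {ε : F} (hε : ¬ IsSquare ε) :
    Function.Bijective (fun r => ConjClasses.mk (rep ε r)) := by
  have hε0 : ε ≠ 0 := fun h => hε (h ▸ IsSquare.zero)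
  have htwo : (2 : F) ≠ -2 := fun h => by
    have : (2 : F) * 2 = 0 := by linear_combination h
    exact h2 (by simpa using this)
  have hb : ∀ e : Bool, (if e then (1 : F) else ε) ≠ 0 := fun e => by cases e <;> simp [hε0]
  constructor
  · intro r r' h
    have hc : IsConj (rep ε r) (rep ε r') := ConjClasses.mk_eq_mk_iff_isConj.1 h
    have key : ∀ (s : Bool) r', IsConj (rep ε (Sum.inl s)) (rep ε r') → Sum.inl s = r' := by
      intro s r' hc
      have he := congrArg (fun x : Matrix.SpecialLinearGroup (Fin 2) F =>
        (x : Matrix (Fin 2) (Fin 2) F)) (not_isConj_cen hc)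
      rcases r' with s' | t' | ⟨s', e'⟩
      · have := congrFun (congrFun he 0) 0
        cases s <;> cases s' <;> simp [rep, cen] at this ⊢
        · exact h2 (by linear_combination this)
        · exact h2 (by linear_combination -this)
      · have := congrFun (congrFun he 1) 0
        simp [rep, cen] at this
      · have := congrFun (congrFun he 0) 1
        cases s <;> cases s' <;> cases e' <;>
          simp [rep, cen, coe_unip, Matrix.mul_apply, Fin.sum_univ_two, hε0] at this
    rcases r with s | t | ⟨s, e⟩
    · exact key s r' hc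
    all_goals rcases r' with s' | t' | ⟨s', e'⟩
    · exact (key s' _ hc.symm).symm
    · have e := trace_of_conj hc
      simp [rep, trace_fin_two] at e
      rw [Subtype.ext e]
    · have e := trace_of_conj hc
      rw [show ((rep ε (Sum.inr (Sum.inr (s', e')))) : Matrix.SpecialLinearGroup (Fin 2) F) =
        cen s' * unip (if e' then 1 else ε) from rfl, trace_cen_mul_unip] at e
      exfalso
      apply t.2
      simp [rep, trace_fin_two] at e
      rw [← e]
      cases s' <;> norm_num
    · exact (key s' _ hc.symm).symm
    · have e1 := trace_of_conj hc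
      rw [show ((rep ε (Sum.inr (Sum.inr (s, e)))) : Matrix.SpecialLinearGroup (Fin 2) F) =
        cen s * unip (if e then 1 else ε) from rfl, trace_cen_mul_unip] at e1
      exfalso
      apply t'.2
      simp [rep, trace_fin_two] at e1
      rw [e1]
      cases s <;> norm_num
    · have e1 := trace_of_conj hc
      simp only [rep, trace_cen_mul_unip] at e1
      have hs : s = s' := by
        cases s <;> cases s' <;> first | rfl | (simp at e1; exact absurd e1 htwo) |
          (simp at e1; exact absurd e1.symm htwo)
      subst hs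
      have h' := isConj_cen_mul (s := s) hc
      simp only [rep, ← mul_assoc, cen_mul_self, one_mul] at h'
      have h'' := (unip_conj_iff (hb e) (hb e')).1 h'
      cases e <;> cases e' <;> simp at h'' ⊢ <;> exact hε h''
  · intro C
    obtain ⟨g, rfl⟩ := C.exists_rep
    set M := (g : Matrix (Fin 2) (Fin 2) F) with hM
    have hd : M 0 0 * M 1 1 - M 0 1 * M 1 0 = 1 := by rw [← Matrix.det_fin_two]; exact g.2
    by_cases ht : M.trace ^ 2 = 4
    · obtain ⟨s, hs⟩ : ∃ s : Bool, M.trace = if s then 2 else -2 := by
        have : (M.trace - 2) * (M.trace + 2) = 0 := by linear_combination ht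
        rcases mul_eq_zero.1 this with h | h
        · exact ⟨true, by simpa using sub_eq_zero.1 h⟩
        · exact ⟨false, by simpa using eq_neg_of_add_eq_zero_left h⟩
      have hu : ((cen s * g : Matrix.SpecialLinearGroup (Fin 2) F) : Matrix (Fin 2) (Fin 2) F) 0 0 +
          ((cen s * g : Matrix.SpecialLinearGroup (Fin 2) F) : Matrix (Fin 2) (Fin 2) F) 1 1 = 2 := by
        cases s <;> simp [cen, Matrix.mul_apply, Fin.sum_univ_two, trace_fin_two, ← hM] at hs ⊢
        · linear_combination -hs
        · linear_combination hs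
      by_cases h1 : cen s * g = 1
      · refine ⟨Sum.inl s, congrArg ConjClasses.mk ?_⟩
        show cen s = g
        calc cen s = cen s * (cen s * g) := by rw [h1, mul_one]
          _ = g := by rw [← mul_assoc, cen_mul_self, one_mul]
      · obtain ⟨b, hb0, hbc⟩ := exists_conj_unip _ h1 hu
        obtain ⟨e, he⟩ : ∃ e : Bool, IsSquare ((if e then 1 else ε) * b) := by
          by_cases hsq : IsSquare b
          · exact ⟨true, by simpa using hsq⟩
          · refine ⟨false, ?_⟩
            simp only [Bool.false_eq_true, if_false]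
            classical
            have h1 := quadraticChar_neg_one_iff_not_isSquare.2 hsq
            have h2' := quadraticChar_neg_one_iff_not_isSquare.2 hε
            rw [← quadraticChar_one_iff_isSquare (mul_ne_zero hε0 hb0), map_mul, h1, h2']
            norm_num
        refine ⟨Sum.inr (Sum.inr (s, e)), ConjClasses.mk_eq_mk_iff_isConj.2 ?_⟩
        have := isConj_cen_mul (s := s) (((unip_conj_iff (hb e) hb0).2 he).trans hbc)
        rwa [← mul_assoc, cen_mul_self, one_mul] at this
    · obtain ⟨x, y, hxy⟩ : ∃ x y, qform M x y = 1 := by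
        by_cases hc0 : M 1 0 = 0
        · have he : M 1 1 - M 0 0 ≠ 0 := fun he => ht (by
            rw [trace_fin_two]; linear_combination (M 1 1 - M 0 0) * he + 4 * hd + 4 * M 0 1 * hc0)
          refine ⟨(1 + M 0 1) / (M 1 1 - M 0 0), 1, ?_⟩
          simp only [qform, hc0]
          field_simp
          ring
        · have hD : (M.trace ^ 2 - 4) ≠ 0 := sub_ne_zero.2 ht
          have h4 : (4 : F) ≠ 0 := by
            rw [show (4 : F) = 2 * 2 by norm_num]; exact mul_ne_zero h2 h2
          set k := -(M.trace ^ 2 - 4) / (4 * M 1 0) with hk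
          have hk0 : k ≠ 0 := div_ne_zero (neg_ne_zero.2 hD) (mul_ne_zero h4 hc0)
          have hodd : Fintype.card F % 2 = 1 := FiniteField.odd_card_of_char_ne_two fun hc => h2 (by
            have := ringChar.Nat.cast_ringChar (R := F)
            rw [hc] at this
            simpa using this)
          obtain ⟨u, w, huw⟩ := FiniteField.exists_root_sum_quadratic
            (f := Polynomial.C (M 1 0) * Polynomial.X ^ 2 - Polynomial.C 1)
            (g := Polynomial.C k * Polynomial.X ^ 2)
            (by compute_degree!)
            (by compute_degree!) hodd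
          simp at huw
          refine ⟨u - (M 1 1 - M 0 0) / (2 * M 1 0) * w, w, ?_⟩
          simp only [qform]
          rw [hk, trace_fin_two] at huw
          field_simp at huw ⊢
          linear_combination huw + 4 * w ^ 2 * hd
      obtain ⟨k, hk⟩ := exists_conj_sl (M := compan M.trace 1) (N := M) (x := 1) (y := 0)
        (x' := x) (y' := y) (trace_comp _ _) (by rw [det_comp, hM, g.2])
        (by rw [qform_comp_one]; exact one_ne_zero) (by rw [hxy, qform_comp_one])
      exact ⟨Sum.inr (Sum.inl ⟨M.trace, ht⟩), ConjClasses.mk_eq_mk_iff_isConj.2 (isConj_iff.2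
        ⟨k, mul_inv_eq_iff_eq_mul.2 (Subtype.ext hk)⟩)⟩

/-- Over a finite field with q elements, q odd, the special linear group SL₂ has exactly q + 4 conjugacy classes. -/
theorem result {F : Type*} [Field F] [Fintype F] (hodd : Odd (Fintype.card F)) :
    Nat.card (ConjClasses (Matrix.SpecialLinearGroup (Fin 2) F)) = Fintype.card F + 4 := by
  classical
  have h2 : (2 : F) ≠ 0 := Cfsg.Agent.Lib.Linear.two_ne_zero_of_odd_card hodd
  obtain ⟨ε, hε⟩ : ∃ ε : F, ¬ IsSquare ε := FiniteField.exists_nonsquare fun h => h2 (by
    have := ringChar.Nat.cast_ringChar (R := F)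
    rw [h] at this
    simpa using this)
  rw [← Nat.card_congr (Equiv.ofBijective _ (rep_bijective h2 hε)), Nat.card_sum, Nat.card_sum,
    Nat.card_prod]
  have hc : Nat.card {t : F // t ^ 2 ≠ 4} = Fintype.card F - 2 := by
    rw [Nat.card_eq_fintype_card, Fintype.card_subtype_compl]
    congr 1
    rw [Fintype.card_subtype]
    have : ({t : F | t ^ 2 = 4} : Finset F) = {2, -2} := by
      ext t
      simp only [Finset.mem_filter, Finset.mem_univ, true_and, Finset.mem_insert, Finset.mem_singleton]
      rw [show (4 : F) = 2 ^ 2 by norm_num, sq_eq_sq_iff_eq_or_eq_neg]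
    rw [this]
    refine Finset.card_pair fun h => ?_
    have h' : (2 : F) * 2 = 0 := by linear_combination h
    exact h2 (by simpa using h')
  have : 1 < Fintype.card F := Fintype.one_lt_card
  rw [hc]
  simp only [Nat.card_eq_fintype_card, Fintype.card_bool]
  omega

end Cfsg.Agent.S2325
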