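import Cfsg.Statements.S2329


set_option autoImplicit false
open Cfsg

namespace Cfsg.Agent.S2329

/-- Over a finite field of characteristic p, any two elements of order p of GL₂ are conjugate: there is a single conjugacy class of non-identity unipotent elements. -/
theorem result {F : Type*} [Field F] [Fintype F] (p : ℕ) [Fact p.Prime] [CharP F p] (g h : Matrix.GeneralLinearGroup (Fin 2) F)
    (hg : orderOf g = p) (hh : orderOf h = p) : IsConj g h := by
  have key : ∀ g : Matrix.GeneralLinearGroup (Fin 2) F, orderOf g = p →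
      ∃ T : Matrix (Fin 2) (Fin 2) F, IsUnit T ∧
        (g : Matrix (Fin 2) (Fin 2) F) * T = T * !![1, 1; 0, 1] := by
    intro g hg
    have hp : p.Prime := Fact.out
    set N : Matrix (Fin 2) (Fin 2) F := (g : Matrix (Fin 2) (Fin 2) F) - 1 with hN
    have hNp : N ^ (p ^ 1) = 0 := by
      rw [hN, sub_pow_char_pow_of_commute p (n := 1) (Commute.one_right _), one_pow, pow_one, ← hg,
        ← Units.val_pow_eq_pow_val, pow_orderOf_eq_one, Units.val_one, sub_self]
    have hN2 : N * N = 0 := by
      have h := Matrix.aeval_self_charpoly N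
      have h2 : N.charpoly = Polynomial.X ^ 2 := by
        simpa [sub_eq_zero] using
          (Matrix.isNilpotent_charpoly_sub_pow_of_isNilpotent ⟨_, hNp⟩).eq_zero
      simpa [h2, pow_two] using h
    have hN0 : N ≠ 0 := by
      intro h
      have : g = 1 := Units.ext (sub_eq_zero.1 h)
      rw [this, orderOf_one] at hg
      exact hp.one_lt.ne hg
    obtain ⟨v, hv⟩ : ∃ v, N.mulVec v ≠ 0 := by
      by_contra h
      push Not at h
      exact hN0 (Matrix.ext_of_mulVec_single fun i => by rw [h, Matrix.zero_mulVec])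
    set T : Matrix (Fin 2) (Fin 2) F := Matrix.of fun i j => ![N.mulVec v, v] j i with hT
    refine ⟨T, ?_, ?_⟩
    · rw [← Matrix.linearIndependent_cols_iff_isUnit]
      have : T.col = ![N.mulVec v, v] := by
        funext j i
        rfl
      rw [this, LinearIndependent.pair_iff]
      intro s t hst
      have h1 := congrArg N.mulVec hst
      rw [Matrix.mulVec_add, Matrix.mulVec_smul, Matrix.mulVec_smul, Matrix.mulVec_mulVec, hN2,
        Matrix.zero_mulVec, smul_zero, zero_add, Matrix.mulVec_zero] at h1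
      have ht : t = 0 := (smul_eq_zero.1 h1).resolve_right hv
      rw [ht, zero_smul, add_zero] at hst
      exact ⟨(smul_eq_zero.1 hst).resolve_right hv, ht⟩
    · have h1 : N * T = T * !![0, 1; 0, 0] := by
        ext i j
        have e := congrFun (congrArg (fun M : Matrix (Fin 2) (Fin 2) F => M.mulVec v) hN2) i
        fin_cases j
        · rw [← Matrix.mulVec_mulVec, Matrix.zero_mulVec] at e
          simpa [hT, Matrix.mul_apply, Matrix.mulVec, dotProduct, Fin.sum_univ_two] using e
        · fin_cases i <;> simp [hT, Matrix.mul_apply, Matrix.mulVec, dotProduct, Fin.sum_univ_two]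
      have h2 : (!![1, 1; 0, 1] : Matrix (Fin 2) (Fin 2) F) = !![0, 1; 0, 0] + 1 := by
        ext i j
        fin_cases i <;> fin_cases j <;> simp
      rw [h2, mul_add, ← h1, mul_one, hN, sub_mul, one_mul, sub_add_cancel]
  obtain ⟨T₁, hT₁, e₁⟩ := key g hg
  obtain ⟨T₂, hT₂, e₂⟩ := key h hh
  obtain ⟨u, rfl⟩ := hT₁
  obtain ⟨v, rfl⟩ := hT₂
  let j : (Matrix (Fin 2) (Fin 2) F)ˣ := u⁻¹ * g * u
  have hj : h * v = v * j := by
    apply Units.ext
    simp only [Units.val_mul, j, e₂]
    rw [mul_assoc (↑u⁻¹ : Matrix (Fin 2) (Fin 2) F), e₁, Units.inv_mul_cancel_left]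
  refine isConj_iff.2 ⟨v * u⁻¹, ?_⟩
  calc v * u⁻¹ * g * (v * u⁻¹)⁻¹ = v * j * v⁻¹ := by simp only [j]; group
    _ = h := by rw [← hj]; group

end Cfsg.Agent.S2329
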