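import Cfsg.Statements.S2330
import Cfsg.Agent.Lib.ClassCount48.Basic

set_option autoImplicit false
open Cfsg

namespace Cfsg.Agent.S2330

open Cfsg.Agent.Lib.ClassCount48 Matrix

variable {F : Type*} [Field F]

/-- Representatives of the classes. -/
noncomputable def rep : Fˣ ⊕ (F × Fˣ) → GL (Fin 2) F
  | Sum.inl a => Units.map (Matrix.scalar (Fin 2)).toMonoidHom a
  | Sum.inr td => Matrix.GeneralLinearGroup.mkOfDetNeZero (compan td.1 (td.2 : F))
      (by rw [det_comp]; exact td.2.ne_zero)

theorem coe_inl (a : Fˣ) :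
    ((rep (Sum.inl a) : GL (Fin 2) F) : Matrix (Fin 2) (Fin 2) F) = Matrix.scalar (Fin 2) (a : F) := rfl

theorem coe_inr (t : F) (d : Fˣ) :
    ((rep (Sum.inr (t, d)) : GL (Fin 2) F) : Matrix (Fin 2) (Fin 2) F) = compan t (d : F) := rfl

theorem inl_central (a : Fˣ) (g : GL (Fin 2) F) : g * rep (Sum.inl a) = rep (Sum.inl a) * g := by
  apply Units.ext
  rw [Units.val_mul, Units.val_mul, coe_inl]
  exact (Matrix.scalar_commute (a : F) (fun r => Commute.all _ _) _).symm.eq

theorem rep_bijective :
    Function.Bijective (fun r : Fˣ ⊕ (F × Fˣ) => ConjClasses.mk (rep r)) := by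
  constructor
  · intro r r' h
    have hc : IsConj (rep r) (rep r') := ConjClasses.mk_eq_mk_iff_isConj.1 h
    have scal : ∀ (a : Fˣ) (b : GL (Fin 2) F), IsConj (rep (Sum.inl a)) b → b = rep (Sum.inl a) := by
      intro a b hb
      obtain ⟨g, hg⟩ := isConj_iff.1 hb
      rw [← hg, inl_central, mul_inv_cancel_right]
    rcases r with a | ⟨t, d⟩ <;> rcases r' with a' | ⟨t', d'⟩
    · have := congrArg (fun x : GL (Fin 2) F => (x : Matrix (Fin 2) (Fin 2) F) 0 0) (scal a _ hc)
      simp [coe_inl] at this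
      exact congrArg Sum.inl (Units.ext this.symm)
    · have := congrArg (fun x : GL (Fin 2) F => (x : Matrix (Fin 2) (Fin 2) F) 1 0) (scal a _ hc)
      simp [coe_inl, coe_inr, compan] at this
    · have := congrArg (fun x : GL (Fin 2) F => (x : Matrix (Fin 2) (Fin 2) F) 1 0) (scal a' _ hc.symm)
      simp [coe_inl, coe_inr, compan] at this
    · obtain ⟨g, hg⟩ := isConj_iff.1 hc
      have e := congrArg (fun x : GL (Fin 2) F => (x : Matrix (Fin 2) (Fin 2) F)) hg
      simp only [Units.val_mul, coe_inr] at e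
      have e1 := congrArg Matrix.trace e
      have e2 := congrArg Matrix.det e
      rw [Matrix.trace_units_conj, trace_comp, trace_comp] at e1
      rw [Matrix.det_units_conj, det_comp, det_comp] at e2
      rw [e1, Units.ext e2]
  · intro C
    obtain ⟨g, rfl⟩ := C.exists_rep
    by_cases hs : NonScal (g : Matrix (Fin 2) (Fin 2) F)
    · obtain ⟨x, y, hxy⟩ := exists_qform_ne_zero hs
      have hd : (g : Matrix (Fin 2) (Fin 2) F).det ≠ 0 := Matrix.GeneralLinearGroup.det_ne_zero g
      refine ⟨Sum.inr ((g : Matrix (Fin 2) (Fin 2) F).trace, Units.mk0 _ hd),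
        ConjClasses.mk_eq_mk_iff_isConj.2 (isConj_iff.2
          ⟨Matrix.GeneralLinearGroup.mkOfDetNeZero (cyc _ x y) (by rw [det_cyc]; exact hxy),
          mul_inv_eq_iff_eq_mul.2 (Units.ext ?_)⟩)⟩
      rw [Units.val_mul, Units.val_mul, coe_inr]
      exact (mul_cyc _ x y).symm
    · unfold NonScal at hs
      push Not at hs
      have h00 : (g : Matrix (Fin 2) (Fin 2) F) 0 0 ≠ 0 := fun h => by
        have := Matrix.GeneralLinearGroup.det_ne_zero g
        rw [Matrix.det_fin_two, h, hs.1] at this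
        simp at this
      refine ⟨Sum.inl (Units.mk0 _ h00), congrArg ConjClasses.mk (Units.ext ?_)⟩
      rw [coe_inl]
      ext i j
      fin_cases i <;> fin_cases j <;> simp [hs.1, hs.2.1, ← hs.2.2]

/-- Over a finite field with q elements, the general linear group GL₂ has exactly q² − 1 conjugacy classes. -/
theorem result {F : Type*} [Field F] [Fintype F] :
    Nat.card (ConjClasses (Matrix.GeneralLinearGroup (Fin 2) F)) = Fintype.card F ^ 2 - 1 := by
  classical
  rw [← Nat.card_congr (Equiv.ofBijective _ (rep_bijective (F := F))), Nat.card_sum, Nat.card_prod,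
    Nat.card_units, Nat.card_eq_fintype_card]
  have : 1 ≤ Fintype.card F := Fintype.card_pos
  obtain ⟨m, hm⟩ : ∃ m, Fintype.card F = m + 1 := ⟨Fintype.card F - 1, by omega⟩
  rw [hm, Nat.add_sub_cancel]
  have : (m + 1) ^ 2 = m + (m + 1) * m + 1 := by ring
  omega

end Cfsg.Agent.S2330
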