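import Cfsg.Statements.S2331
import Cfsg.Agent.Lib.ClassCount48.Basic

set_option autoImplicit false
open Cfsg

namespace Cfsg.Agent.S2331

open Cfsg.Agent.Lib.ClassCount48 Cfsg.Agent.Lib.LinTwo Matrix

variable {F : Type*} [Field F]

/-- Representatives of the classes. -/
def rep : Unit ⊕ F → Matrix.SpecialLinearGroup (Fin 2) F
  | Sum.inl _ => 1
  | Sum.inr t => mk2 0 (-1) 1 t (by ring)

theorem coe_inr (t : F) : ((rep (Sum.inr t) : Matrix.SpecialLinearGroup (Fin 2) F) :
    Matrix (Fin 2) (Fin 2) F) = compan t 1 := rfl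

theorem rep_bijective [Finite F] [CharP F 2] :
    Function.Bijective (fun r : Unit ⊕ F => ConjClasses.mk (rep r)) := by
  constructor
  · intro r r' h
    have hc : IsConj (rep r) (rep r') := ConjClasses.mk_eq_mk_iff_isConj.1 h
    rcases r with _ | t <;> rcases r' with _ | t'
    · rfl
    · have := congrArg (fun x : Matrix.SpecialLinearGroup (Fin 2) F => (x : Matrix (Fin 2) (Fin 2) F) 1 0)
        (isConj_one_right.1 hc)
      simp [coe_inr, compan, rep] at this
    · have := congrArg (fun x : Matrix.SpecialLinearGroup (Fin 2) F => (x : Matrix (Fin 2) (Fin 2) F) 1 0)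
        (isConj_one_left.1 hc)
      simp [coe_inr, compan, rep] at this
    · have e := trace_of_conj hc
      rw [coe_inr, coe_inr, trace_comp, trace_comp] at e
      rw [e]
  · intro C
    obtain ⟨g, rfl⟩ := C.exists_rep
    have hd := Matrix.det_fin_two (g : Matrix (Fin 2) (Fin 2) F)
    rw [g.2] at hd
    have hsq : ∀ a : F, IsSquare a := fun a =>
      FiniteField.isSquare_of_char_two (ringChar.eq_iff.2 (inferInstance : CharP F 2)) a
    by_cases hs : NonScal (g : Matrix (Fin 2) (Fin 2) F)
    · obtain ⟨x, y, hxy⟩ : ∃ x y, qform (g : Matrix (Fin 2) (Fin 2) F) x y = 1 := by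
        set M := (g : Matrix (Fin 2) (Fin 2) F)
        by_cases hc0 : M 1 0 = 0
        · by_cases hb0 : M 0 1 = 0
          · have he : M 1 1 - M 0 0 ≠ 0 := sub_ne_zero.2 fun he => by
              rcases hs with h | h | h
              exacts [h hb0, h hc0, h he.symm]
            exact ⟨1, (M 1 1 - M 0 0)⁻¹, by simp [qform, hc0, hb0, mul_inv_cancel₀ he]⟩
          · obtain ⟨r, hr⟩ := hsq (-(M 0 1))⁻¹
            refine ⟨0, r, ?_⟩
            simp only [qform]
            rw [sq r, ← hr]
            field_simp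
            ring
        · obtain ⟨r, hr⟩ := hsq (M 1 0)⁻¹
          refine ⟨r, 0, ?_⟩
          simp only [qform]
          rw [sq r, ← hr]
          field_simp
          ring
      obtain ⟨k, hk⟩ := exists_conj_sl
        (M := compan (g : Matrix (Fin 2) (Fin 2) F).trace 1) (N := (g : Matrix (Fin 2) (Fin 2) F))
        (x := 1) (y := 0) (x' := x) (y' := y) (trace_comp _ _) (by rw [det_comp, g.2])
        (by rw [qform_comp_one]; exact one_ne_zero) (by rw [hxy, qform_comp_one])
      exact ⟨Sum.inr _, ConjClasses.mk_eq_mk_iff_isConj.2 (isConj_iff.2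
        ⟨k, mul_inv_eq_iff_eq_mul.2 (Subtype.ext hk)⟩)⟩
    · unfold NonScal at hs
      push Not at hs
      have h1 : (g : Matrix (Fin 2) (Fin 2) F) 0 0 = 1 := by
        rw [hs.1, hs.2.1, ← hs.2.2] at hd
        have h2 : (2 : F) = 0 := CharTwo.two_eq_zero
        have : ((g : Matrix (Fin 2) (Fin 2) F) 0 0 - 1) ^ 2 = 0 := by
          linear_combination -hd + ((g : Matrix (Fin 2) (Fin 2) F) 0 0 * (-1) + 1) * h2
        exact sub_eq_zero.1 (pow_eq_zero_iff two_ne_zero |>.1 this)
      refine ⟨Sum.inl (), congrArg ConjClasses.mk (Subtype.ext ?_)⟩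
      ext i j
      fin_cases i <;> fin_cases j <;> simp [rep, hs.1, hs.2.1, ← hs.2.2, h1]

/-- Over a finite field with q elements, q even, the special linear group SL₂ has exactly q + 1 conjugacy classes. -/
theorem result {F : Type*} [Field F] [Fintype F] [CharP F 2] :
    Nat.card (ConjClasses (Matrix.SpecialLinearGroup (Fin 2) F)) = Fintype.card F + 1 := by
  rw [← Nat.card_congr (Equiv.ofBijective _ (rep_bijective (F := F))), Nat.card_sum,
    Nat.card_eq_fintype_card, Nat.card_eq_fintype_card, Fintype.card_unit, add_comm]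

end Cfsg.Agent.S2331
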