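import Cfsg.Statements.S2337
import Cfsg.Agent.Lib.MinDegree.Suzuki

set_option autoImplicit false
open Cfsg

namespace Cfsg.Agent.S2337

/-- For the Suzuki group Sz(q), q = 2^(2m+1) with m ≥ 1 (realised inside Sp₄ over the field with q elements), every irreducible complex representation of degree at least 2 has degree at least 2^m·(q − 1). -/
theorem result {F : Type*} [Field F] [Fintype F] (m : ℕ) (hm : 1 ≤ m) (hF : Fintype.card F = 2 ^ (2 * m + 1)) :
    (∀ (k : ℕ) (ρ : Representation ℂ (Cfsg.Lie.Sz F (2 ^ (m + 1))) (Fin k → ℂ)), ρ.IsIrreducible → 2 ≤ k → 2 ^ m * (2 ^ (2 * m + 1) - 1) ≤ k) := by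
  intro k ρ hρ hk
  have h : Cfsg.Agent.Lib.LieTwisted.Suzuki.IsSzField F m := ⟨hF⟩
  let e := Cfsg.Agent.Lib.LieTwisted.Suzuki.szEquiv h hm
  have hnt : ∃ g, (ρ.comp e.toMonoidHom) g ≠ 1 := by
    by_contra hc
    push Not at hc
    have h1 : ∀ g, ρ g = 1 := fun g => by simpa using hc (e.symm g)
    have := Cfsg.Agent.Lib.MinDegree.finrank_le_one_of_trivial hρ h1
    rw [Module.finrank_fintype_fun_eq_card, Fintype.card_fin] at this
    omega
  have := Cfsg.Agent.Lib.MinDegree.Suzuki.degree_bound h hm (ρ.comp e.toMonoidHom) hnt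
  rwa [Module.finrank_fintype_fun_eq_card, Fintype.card_fin] at this

end Cfsg.Agent.S2337
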