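import Cfsg.Statements.S2342
import Cfsg.Agent.Lib.ExcDeg48.D4Final
-- import your own Cfsg.Agent.* helpers here

set_option autoImplicit false
open Cfsg

namespace Cfsg.Agent.S2342

/-- For the twisted group ³D₄(q), realised over the field with q³ elements (q a prime power), every irreducible complex representation of degree at least 2 has degree at least q(q⁴ − q² + 1). -/
theorem result {K : Type*} [Field K] [Fintype K] (q : ℕ) (hq : IsPrimePow q) (hK : Fintype.card K = q ^ 3) :
    (∀ (k : ℕ) (ρ : Representation ℂ (Cfsg.Lie.twistedD4 K q) (Fin k → ℂ)), ρ.IsIrreducible → 2 ≤ k → q * (q ^ 4 - q ^ 2 + 1) ≤ k) := by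
  intro k ρ hρ hk
  haveI : ρ.IsIrreducible := hρ
  have hfix : ∀ z : Fin k → ℂ, (∀ g, ρ g z = z) → z = 0 := by
    intro z hz
    by_contra hz0
    let T : Subrepresentation ρ :=
      ⟨ℂ ∙ z, fun g w hw => by
        obtain ⟨c, rfl⟩ := Submodule.mem_span_singleton.1 hw
        rw [map_smul, hz]
        exact Submodule.smul_mem _ _ (Submodule.mem_span_singleton_self z)⟩
    rcases hρ.eq_bot_or_eq_top T with hS | hS
    · have h1 : z ∈ T.toSubmodule := Submodule.mem_span_singleton_self z
      rw [hS] at h1
      exact hz0 ((Submodule.mem_bot ℂ).1 h1)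
    · have h2 : (ℂ ∙ z) = (⊤ : Submodule ℂ (Fin k → ℂ)) :=
        congrArg Subrepresentation.toSubmodule hS
      have h3 := finrank_span_singleton (K := ℂ) hz0
      rw [h2, finrank_top, Module.finrank_fin_fun] at h3
      omega
  have h := Cfsg.Agent.Lib.ExcDeg48.D4Model.d4_final hq hK ρ (by
    by_contra hcon
    push Not at hcon
    have h1 := hfix (Pi.single ⟨0, by omega⟩ 1) fun g => by rw [hcon g, Module.End.one_apply]
    simpa using congrFun h1 ⟨0, by omega⟩)
  rwa [Module.finrank_fin_fun] at h

end Cfsg.Agent.S2342
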