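import Cfsg.Statements.S2344
import Cfsg.Agent.Lib.OrthDeg48.Odd
import Cfsg.Agent.Lib.OrthDeg48.Transfer
-- import your own Cfsg.Agent.* helpers here

set_option autoImplicit false
open Cfsg Cfsg.Agent.Lib

namespace Cfsg.Agent.S2344

/-- For a finite field F of odd order q > 3 and n ≥ 3, every irreducible complex representation of degree at least 2 of Ω_{2n+1}(F) (the commutator subgroup of the isometry group of the quadratic form x₀² + x₁y₁ + ⋯ + x_ny_n) has degree at least (q^{2n} − 1)/(q² − 1). -/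
theorem result {F : Type*} [Field F] [Fintype F] (n : ℕ) (hn : 3 ≤ n) (hodd : Odd (Fintype.card F)) (h3 : 3 < Fintype.card F) :
    (∀ (k : ℕ) (ρ : Representation ℂ (Cfsg.Omega F (Cfsg.quadFormOdd n F)) (Fin k → ℂ)), ρ.IsIrreducible → 2 ≤ k → (Fintype.card F ^ (2 * n) - 1) / (Fintype.card F ^ 2 - 1) ≤ k) := by
  intro k ρ hρ hk
  have h2 : (2 : F) ≠ 0 := by
    refine Ring.two_ne_zero fun h => ?_
    have := FiniteField.even_card_iff_char_two.1 h
    rcases hodd with ⟨m, hm⟩
    omega
  rw [OrthDeg48.odd_bound_eq _ _ Fintype.one_lt_card (by omega)]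
  let e := OrthDeg48.omegaModel (OrthStd.qOddC n F) (OrthStd.quadFormOdd_eq n)
    (OrthDeg48.oddModel n) (OrthDeg48.qU_nondeg h2) hn
  haveI : ρ.IsIrreducible := hρ
  have hfix : ∀ z : Fin k → ℂ, (∀ g, ρ g z = z) → z = 0 := by
    intro z hz
    by_contra hz0
    let T : Subrepresentation ρ :=
      ⟨ℂ ∙ z, fun g w hw => by
        obtain ⟨c, rfl⟩ := Submodule.mem_span_singleton.1 hw
        rw [map_smul, hz]
        exact Submodule.smul_mem _ _ (Submodule.mem_span_singleton_self z)⟩
    rcases hρ.eq_bot_or_eq_top T with hS | hS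
    · have h1 : z ∈ T.toSubmodule := Submodule.mem_span_singleton_self z
      rw [hS] at h1
      exact hz0 ((Submodule.mem_bot ℂ).1 h1)
    · have h2 : (ℂ ∙ z) = (⊤ : Submodule ℂ (Fin k → ℂ)) :=
        congrArg Subrepresentation.toSubmodule hS
      have h3 := finrank_span_singleton (K := ℂ) hz0
      rw [h2, finrank_top, Module.finrank_fin_fun] at h3
      omega
  have h := OrthDeg48.odd_bound n hn hodd h3 h2 (ρ.comp e.symm.toMonoidHom) ?_
  · rwa [Module.finrank_fin_fun] at h
  · by_contra hcon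
    push Not at hcon
    have h1 := hfix (Pi.single ⟨0, by omega⟩ 1) fun g => by
      have := LinearMap.congr_fun (hcon (e g)) (Pi.single ⟨0, by omega⟩ 1)
      simpa using this
    simpa using congrFun h1 ⟨0, by omega⟩

end Cfsg.Agent.S2344
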