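import Cfsg.Statements.S2346
import Cfsg.Agent.Lib.OrthDeg48.Minus
-- import your own Cfsg.Agent.* helpers here

set_option autoImplicit false
open Cfsg Cfsg.Agent.Lib

namespace Cfsg.Agent.S2346

/-- For a finite field F with q elements, n ≥ 4, and a, b ∈ F with z₁² + a z₁z₂ + b z₂² anisotropic, every irreducible complex representation of degree at least 2 of Ω⁻_{2n}(F) (the commutator subgroup of the isometry group of x₁y₁ + ⋯ + x_{n−1}y_{n−1} + z₁² + a z₁z₂ + b z₂²) has degree at least (q^n + 1)(q^{n−1} − q)/(q² − 1). -/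
theorem result {F : Type*} [Field F] [Fintype F] (n : ℕ) (hn : 4 ≤ n) (a b : F) (hab : ∀ z₁ z₂ : F, z₁ ^ 2 + a * z₁ * z₂ + b * z₂ ^ 2 = 0 → z₁ = 0 ∧ z₂ = 0) :
    (∀ (k : ℕ) (ρ : Representation ℂ (Cfsg.Omega F (Cfsg.quadFormMinus (n - 1) F a b)) (Fin k → ℂ)), ρ.IsIrreducible → 2 ≤ k → (Fintype.card F ^ n + 1) * (Fintype.card F ^ (n - 1) - Fintype.card F) / (Fintype.card F ^ 2 - 1) ≤ k) := by
  intro k ρ hρ hk
  obtain ⟨r, rfl⟩ : ∃ r, n = r + 1 := ⟨n - 1, by omega⟩
  rw [OrthDeg48.minus_bound_eq _ _ Fintype.one_lt_card hn, Nat.add_sub_cancel]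
  let e := OrthDeg48.omegaModel (Lib.OrthStd.qMinusC r a b) (OrthStd.quadFormMinus_eq r a b)
    (OrthDeg48.minusModel r a b) (Forms.qBin_nondeg hab) (show 3 ≤ r by omega)
  haveI : ρ.IsIrreducible := hρ
  have hfix : ∀ z : Fin k → ℂ, (∀ g, ρ g z = z) → z = 0 := by
    intro z hz
    by_contra hz0
    let T : Subrepresentation ρ :=
      ⟨ℂ ∙ z, fun g w hw => by
        obtain ⟨c, rfl⟩ := Submodule.mem_span_singleton.1 hw
        rw [map_smul, hz]
        exact Submodule.smul_mem _ _ (Submodule.mem_span_singleton_self z)⟩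
    rcases hρ.eq_bot_or_eq_top T with hS | hS
    · have h1 : z ∈ T.toSubmodule := Submodule.mem_span_singleton_self z
      rw [hS] at h1
      exact hz0 ((Submodule.mem_bot ℂ).1 h1)
    · have h2 : (ℂ ∙ z) = (⊤ : Submodule ℂ (Fin k → ℂ)) :=
        congrArg Subrepresentation.toSubmodule hS
      have h3 := finrank_span_singleton (K := ℂ) hz0
      rw [h2, finrank_top, Module.finrank_fin_fun] at h3
      omega
  have h := OrthDeg48.minus_bound hab r (by omega) (ρ.comp e.symm.toMonoidHom) ?_ ?_ ?_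
  · rwa [Module.finrank_fin_fun] at h
  · by_contra hcon
    push Not at hcon
    have h1 := hfix (Pi.single ⟨0, by omega⟩ 1) fun g => by
      have := LinearMap.congr_fun (hcon (e g)) (Pi.single ⟨0, by omega⟩ 1)
      simpa using this
    simpa using congrFun h1 ⟨0, by omega⟩
  · intro z hz
    exact hfix z fun g => by simpa using hz (e g)
  · rw [Module.finrank_fin_fun]
    have hd := (Induced.DegreeIndex.finrank_dvd_center_index ρ).trans
      ((Subgroup.index_dvd_card _).trans (Subgroup.card_subgroup_dvd_card _))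
    rw [Module.finrank_fin_fun] at hd
    have hc := OrthStd.card_orth_minus (q := Fintype.card F) rfl (r + 1) (by omega) hab
    rw [Nat.add_sub_cancel] at hc
    rw [← hc]
    exact hd

end Cfsg.Agent.S2346
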