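import Cfsg.Statements.S2347
import Cfsg.Agent.Lib.MinDegree.Symplectic
import Cfsg.Agent.Lib.MinDegree.Irreducible
import Cfsg.Agent.Lib.Weil.Halves

set_option autoImplicit false
open Cfsg Matrix

namespace Cfsg.Agent.S2347

/-- Smallest degree of a non-linear irreducible complex representation of the symplectic group Sp_{2n} over a finite field of odd order q, n ≥ 2: every irreducible complex representation of degree at least 2 has degree at least (q^n − 1)/2, and there is an irreducible complex representation of exactly that degree (a Weil representation). -/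
theorem result {F : Type*} [Field F] [Fintype F] [DecidableEq F] (n : ℕ) (hn : 2 ≤ n) (hodd : Odd (Fintype.card F)) :
    (∀ (k : ℕ) (ρ : Representation ℂ (Matrix.symplecticGroup (Fin n) F) (Fin k → ℂ)), ρ.IsIrreducible → 2 ≤ k → (Fintype.card F ^ n - 1) / 2 ≤ k) ∧
    (∃ ρ : Representation ℂ (Matrix.symplecticGroup (Fin n) F) (Fin ((Fintype.card F ^ n - 1) / 2) → ℂ), ρ.IsIrreducible) := by
  open Cfsg.Agent.Lib.MinDegree in
  refine ⟨fun k ρ hρ hk => ?_, ?_⟩
  · have hnt : ∃ g, ρ g ≠ 1 := by
      by_contra h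
      push Not at h
      have := finrank_le_one_of_trivial hρ h
      rw [Module.finrank_fintype_fun_eq_card, Fintype.card_fin] at this
      omega
    have := degree_bound_sp hn hodd ρ hnt
    rwa [Module.finrank_fintype_fun_eq_card, Fintype.card_fin] at this
  · open Cfsg.Agent.Lib.MinDegree in
    have h2 := two_ne_zero_of_odd hodd
    obtain ⟨ψ, hψ⟩ := (AddChar.exists_apply_ne_zero (a := (1 : F))).2 one_ne_zero
    obtain ⟨W, hW, hWc⟩ := Cfsg.Agent.Lib.Weil.exists_weil (n := n) ψ h2 hψ
    let σ := Cfsg.Agent.Lib.Weil.halfRep W hWc (-1)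
    set d := (Fintype.card F ^ n - 1) / 2 with hd
    let e : (Cfsg.Agent.Lib.Weil.half n F (-1)) ≃ₗ[ℂ] (Fin d → ℂ) :=
      LinearEquiv.ofFinrankEq _ _ (by
        rw [Cfsg.Agent.Lib.Weil.finrank_half_neg h2, Module.finrank_fintype_fun_eq_card,
          Fintype.card_fin])
    let ρ : Representation ℂ (Matrix.symplecticGroup (Fin n) F) (Fin d → ℂ) :=
      { toFun := fun g => e.conj (σ g)
        map_one' := by
          rw [map_one]
          exact LinearMap.ext fun v => e.apply_symm_apply v
        map_mul' := fun g h => by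
          rw [map_mul]
          refine LinearMap.ext fun v => ?_
          simp [LinearEquiv.conj_apply] }
    refine ⟨ρ, Cfsg.Agent.Lib.MinDegree.irreducible_of_bound ρ ?_ ?_ ?_⟩
    · by_contra hcon
      push Not at hcon
      let B : Cfsg.Agent.Lib.MinDegree.symMats n F :=
        ⟨Matrix.diagonal (Pi.single ⟨0, by omega⟩ (-2)), Matrix.isSymm_diagonal _⟩
      set A := Cfsg.Agent.Lib.MinDegree.lowerUni n F (Multiplicative.ofAdd B)
      have hu : IsUnit (W A) :=
        (Group.isUnit A).map W
      obtain ⟨k, hk⟩ := Cfsg.Agent.Lib.Weil.int_unique ψ hψ hu (hW A)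
        (Cfsg.Agent.Lib.Weil.isInt_quadMul ψ h2 B.2
          (Cfsg.Agent.Lib.MinDegree.lowerUni_coe B))
      have hσ : ∀ f ∈ Cfsg.Agent.Lib.Weil.half n F (-1), W A f = f := by
        intro f hf
        have h1 : e (σ A ⟨f, hf⟩) = e ⟨f, hf⟩ := by
          have := LinearMap.congr_fun (hcon A) (e ⟨f, hf⟩)
          simpa [ρ, LinearEquiv.conj_apply] using this
        exact congrArg Subtype.val (e.injective h1)
      have hval : ∀ x : Fin n → F, -x ≠ x →
          ψ (-((2 : F)⁻¹ * (x ⬝ᵥ (B.1 *ᵥ x)))) = k := by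
        intro x hx
        classical
        let f : (Fin n → F) → ℂ := Pi.single x 1 - Pi.single (-x) 1
        have hf : f ∈ Cfsg.Agent.Lib.Weil.half n F (-1) := by
          rw [Cfsg.Agent.Lib.Weil.mem_half]
          funext y
          rw [Cfsg.Agent.Lib.Weil.parity_apply, neg_one_smul, Pi.neg_apply]
          simp only [f, Pi.sub_apply, Pi.single_apply, neg_eq_iff_eq_neg, neg_neg, neg_inj]
          ring
        have h1 := congrFun (LinearMap.congr_fun hk f) x
        rw [LinearMap.smul_apply, hσ f hf, Pi.smul_apply, smul_eq_mul] at h1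
        have hfx : f x = 1 := by
          simp [f, Pi.single_eq_of_ne (Ne.symm hx)]
        have h1' : ψ (-((2 : F)⁻¹ * (x ⬝ᵥ (B.1 *ᵥ x)))) * f x = k * f x := h1
        rwa [hfx, mul_one, mul_one] at h1'
      have hne : ∀ i : Fin n, -(Pi.single i (1 : F) : Fin n → F) ≠ Pi.single i 1 := fun i h => by
        have := congrFun (Cfsg.Agent.Lib.Weil.two_ne_zero_neg h2 h) i
        simp at this
      have e0 := hval _ (hne ⟨0, by omega⟩)
      have e1 := hval _ (hne ⟨1, by omega⟩)
      simp [B, Matrix.mulVec_diagonal, h2] at e0 e1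
      exact hψ (e0.trans e1.symm)
    · intro U τ hτ
      have := Cfsg.Agent.Lib.MinDegree.degree_bound_sp hn hodd τ hτ
      rwa [Module.finrank_fintype_fun_eq_card, Fintype.card_fin]
    · intro U τ hτ
      have := Cfsg.Agent.Lib.MinDegree.degree_bound_sp hn hodd τ hτ
      rwa [Module.finrank_fintype_fun_eq_card, Fintype.card_fin]

end Cfsg.Agent.S2347
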