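import Cfsg.Statements.S2355
import Cfsg.Agent.Lib.WordLaw.Classical

set_option autoImplicit false
open Cfsg

namespace Cfsg.Agent.S2355

open Cfsg.Agent.Lib.WordLaw Cfsg.Agent.Lib.WordLaw.Classical Matrix

variable {w : FreeGroup ℕ} {N₁ N₂ : ℕ}

/-- If the word is a law in a group containing SL_m(F) then m and the field are bounded. -/
theorem bound_of_embedding (hA : ∀ n, N₁ ≤ n → ∃ f : ℕ → alternatingGroup (Fin n), FreeGroup.lift f w ≠ 1)
    {F : Type} [Field F] [Fintype F]
    (hS : N₂ ≤ Fintype.card F → ∃ f : ℕ → SpecialLinearGroup (Fin 2) F, FreeGroup.lift f w ≠ 1)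
    {X : Type*} [Group X] (hlaw : ∀ f : ℕ → X, FreeGroup.lift f w = 1) {m : ℕ} (hm : 2 ≤ m)
    (φ : SpecialLinearGroup (Fin m) F →* X) (hφ : Function.Injective φ) :
    m < max N₁ 5 ∧ Fintype.card F < max N₂ 4 := by
  constructor
  · by_contra h
    push Not at h
    obtain ⟨f, hf⟩ := not_law_of_injective (φ.comp (permSL m F))
      (hφ.comp (permSL_injective m)) (hA m ((le_max_left _ _).trans h))
    exact hf (hlaw f)
  · by_contra h
    push Not at h
    obtain ⟨f, hf⟩ := not_law_of_injective (φ.comp (slExt hm))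
      (hφ.comp (slExt_injective hm)) (hS ((le_max_left _ _).trans h))
    exact hf (hlaw f)

/-- The same, when the word is only assumed to be a law in the derived group. -/
theorem bound_of_embedding_commutator
    (hA : ∀ n, N₁ ≤ n → ∃ f : ℕ → alternatingGroup (Fin n), FreeGroup.lift f w ≠ 1)
    {F : Type} [Field F] [Fintype F]
    (hS : N₂ ≤ Fintype.card F → ∃ f : ℕ → SpecialLinearGroup (Fin 2) F, FreeGroup.lift f w ≠ 1)
    {X : Type*} [Group X] (hlaw : ∀ f : ℕ → commutator X, FreeGroup.lift f w = 1) {m : ℕ}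
    (hm : 2 ≤ m) (φ : SpecialLinearGroup (Fin m) F →* X) (hφ : Function.Injective φ) :
    m < max N₁ 5 ∧ Fintype.card F < max N₂ 4 := by
  constructor
  · by_contra h
    push Not at h
    have hp : commutator (alternatingGroup (Fin m)) = ⊤ :=
      commutator_alternatingGroup_eq_top (by simp; omega)
    obtain ⟨f, hf⟩ := not_law_of_injective (toCommutator (φ.comp (permSL m F)) hp)
      (toCommutator_injective _ hp (hφ.comp (permSL_injective m)))
      (hA m ((le_max_left _ _).trans h))
    exact hf (hlaw f)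
  · by_contra h
    push Not at h
    have hp := sl2_perfect F ((le_max_right _ _).trans h)
    obtain ⟨f, hf⟩ := not_law_of_injective (toCommutator (φ.comp (slExt hm)) hp)
      (toCommutator_injective _ hp (hφ.comp (slExt_injective hm)))
      (hS ((le_max_left _ _).trans h))
    exact hf (hlaw f)

theorem law_of_equiv {G : Type*} [Group G] {X : Type*} [Group X] (e : G ≃* X)
    (h : ∀ f : ℕ → G, FreeGroup.lift f w = 1) (f : ℕ → X) : FreeGroup.lift f w = 1 := by
  have := lift_hom e.toMonoidHom (e.symm ∘ f) w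
  rw [h, map_one] at this
  rw [← this]
  congr 2
  funext i
  simp

/-- Bound on a group isomorphic to a quotient of a set of matrices. -/
theorem card_le_matrix {G : Type*} [Group G] {X : Type*} [Group X] (Z : Subgroup X) (e : G ≃ X ⧸ Z)
    {F : Type} [Field F] [Fintype F] {ι : Type} [Fintype ι] (i : X → Matrix ι ι F)
    (hi : Function.Injective i) {B D : ℕ} (hB : Fintype.card F ≤ B) (hD : Fintype.card ι ≤ D) :
    Nat.card G ≤ B ^ (D * D) := by
  classical
  have : Finite X := Finite.of_injective i hi
  rw [Nat.card_congr e]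
  refine (Nat.card_le_card_of_surjective _ (QuotientGroup.mk_surjective)).trans
    ((Nat.card_le_card_of_injective i hi).trans ?_)
  rw [Nat.card_eq_fintype_card]
  have : Fintype.card (Matrix ι ι F) = Fintype.card F ^ (Fintype.card ι * Fintype.card ι) := by
    show Fintype.card (ι → ι → F) = _
    rw [Fintype.card_fun, Fintype.card_fun, ← pow_mul]
  rw [this]
  have hF0 : 1 ≤ Fintype.card F := Fintype.card_pos
  exact (Nat.pow_le_pow_left hB _).trans
    (Nat.pow_le_pow_right (by omega) (Nat.mul_le_mul hD hD))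

/-- A non-trivial law is satisfied by only finitely many finite simple groups that are alternating or classical, up to isomorphism: for every non-trivial element w of the free group on countably many generators there is a bound N such that every alternating group of degree ≥ 5 and every simple classical group (linear, symplectic, unitary or orthogonal, in this problem's sense) in which w is a law has order at most N. -/
theorem result (w : FreeGroup ℕ) (hw : w ≠ 1) :
    ∃ N : ℕ, ∀ (G : Type*) [Group G] [Finite G],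
      (Cfsg.IsAlternating G ∨ Cfsg.IsPSL G ∨ Cfsg.IsPSp G ∨ Cfsg.IsPSU G ∨ Cfsg.IsPOmegaOdd G ∨
          Cfsg.IsPOmegaPlus G ∨ Cfsg.IsPOmegaMinus G) →
      (∀ f : ℕ → G, FreeGroup.lift f w = 1) → Nat.card G ≤ N := by
  obtain ⟨N₀, hN₀⟩ := SL2.exists_alternating_ne_one w hw
  obtain ⟨w', hw', hlw⟩ := exists_central_word w hw
  obtain ⟨N₁, hN₁⟩ := SL2.exists_alternating_ne_one w' hw'
  obtain ⟨N₂, hN₂⟩ := SL2.exists_entry_ne_zero.{0} w' hw'
  have hS : ∀ (F : Type) [Field F] [Fintype F], N₂ ≤ Fintype.card F →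
      ∃ f : ℕ → SpecialLinearGroup (Fin 2) F, FreeGroup.lift f w' ≠ 1 := fun F _ _ h => by
    obtain ⟨f, hf⟩ := hN₂ F h
    exact ⟨f, fun e => hf (by rw [e]; simp)⟩
  set K₁ := max N₁ 5
  set B := max N₂ 4 ^ 2
  set D := 2 * K₁ + 2
  have hB : max N₂ 4 ≤ B := Nat.le_self_pow two_ne_zero _
  refine ⟨max N₀.factorial (B ^ (D * D)), fun G _ _ hG hlaw => ?_⟩
  rcases hG with ⟨n, hn, ⟨e⟩⟩ | ⟨F, iF, iFF, n, hn, -, ⟨e⟩⟩ | ⟨F, iF, iFF, m, hm, -, ⟨e⟩⟩ |
    ⟨F, iF, iFF, n, q, hq, hn, -, ⟨e⟩⟩ | ⟨F, iF, iFF, m, hm, -, ⟨e⟩⟩ | ⟨F, iF, iFF, m, hm, ⟨e⟩⟩ |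
    ⟨F, iF, iFF, m, a, b, hm, -, ⟨e⟩⟩
  · refine le_trans ?_ (le_max_left _ _)
    have hnN : n < N₀ := by
      by_contra h
      obtain ⟨f, hf⟩ := hN₀ n (by omega)
      exact hf (law_of_equiv e hlaw f)
    rw [Nat.card_congr e.toEquiv]
    refine (Nat.card_le_card_of_injective _ Subtype.val_injective).trans ?_
    rw [Nat.card_eq_fintype_card, Fintype.card_perm, Fintype.card_fin]
    exact Nat.factorial_le hnN.le
  all_goals refine le_trans ?_ (le_max_right _ _)
  · have := bound_of_embedding hN₁ (hS F) (hlw _ (law_of_equiv e hlaw)) hn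
      (MonoidHom.id _) Function.injective_id
    exact card_le_matrix _ e.toEquiv _ Subtype.val_injective (this.2.le.trans hB)
      (by simp [D]; omega)
  · have := bound_of_embedding hN₁ (hS F) (hlw _ (law_of_equiv e hlaw)) hm
      (toSp m F) (toSp_injective m)
    exact card_le_matrix _ e.toEquiv _ Subtype.val_injective (this.2.le.trans hB)
      (by simp [D]; omega)
  · have hlX := hlw _ (law_of_equiv e hlaw)
    have hnK : n < K₁ := by
      by_contra h
      obtain ⟨φ, hφ⟩ := exists_alt_toSU (F := F) (n := n) (q := q)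
      obtain ⟨f, hf⟩ := not_law_of_injective φ hφ (hN₁ n (by omega))
      exact hf (hlX f)
    have hqB : q < max N₂ 4 := by
      by_contra h
      obtain ⟨K, φ, hφ, hK⟩ := exists_sl2_toSU (F := F) (n := n) (by omega) hq
      classical
      have hc : N₂ ≤ Fintype.card K := by
        rw [← Nat.card_eq_fintype_card, hK]; omega
      obtain ⟨f, hf⟩ := not_law_of_injective φ hφ (hS K hc)
      exact hf (hlX f)
    refine card_le_matrix _ e.toEquiv (fun A => A.1.1)
      (Subtype.val_injective.comp Subtype.val_injective) ?_ (by simp [D]; omega)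
    rw [hq]
    exact Nat.pow_le_pow_left hqB.le 2
  · obtain ⟨φ, hφ⟩ := exists_toOdd (F := F) m
    have := bound_of_embedding_commutator hN₁ (hS F) (hlw _ (law_of_equiv e hlaw))
      (by omega) φ hφ
    exact card_le_matrix _ e.toEquiv (fun A => A.1.1.1)
      (Units.val_injective.comp (Subtype.val_injective.comp Subtype.val_injective))
      (this.2.le.trans hB) (by simp [D]; omega)
  · obtain ⟨φ, hφ⟩ := exists_toPlus (F := F) m
    have := bound_of_embedding_commutator hN₁ (hS F) (hlw _ (law_of_equiv e hlaw))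
      (by omega) φ hφ
    exact card_le_matrix _ e.toEquiv (fun A => A.1.1.1)
      (Units.val_injective.comp (Subtype.val_injective.comp Subtype.val_injective))
      (this.2.le.trans hB) (by simp [D]; omega)
  · obtain ⟨φ, hφ⟩ := exists_toMinus (m - 1) a b
    have := bound_of_embedding_commutator hN₁ (hS F) (hlw _ (law_of_equiv e hlaw))
      (by omega) φ hφ
    exact card_le_matrix _ e.toEquiv (fun A => A.1.1.1)
      (Units.val_injective.comp (Subtype.val_injective.comp Subtype.val_injective))
      (this.2.le.trans hB) (by simp [D]; omega)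

end Cfsg.Agent.S2355
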