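import Cfsg.Statements.S2357
import Cfsg.Agent.Lib.ReeTori.Unip
import Cfsg.Agent.Lib.ReeTori.Phi

set_option autoImplicit false
open Cfsg

namespace Cfsg.Agent.S2357

/-- Let R be the small Ree group over the field with q = 3^(2m+1) ≥ 27 elements and write φ for Euler's totient function. Then R has exactly q²(q²−q+1) involutions, (q²−1)(q³+1) elements of order 3, and q²(q−1)(q³+1) elements of order 6 and as many of order 9; for i > 2 dividing q−1 it has φ(i)q³(q³+1)/2 elements of order i; for i > 1 dividing (q+1)/4 it has φ(i)q³(q−1)(q²−q+1)/6 elements of order i and φ(i)q³(q−1)(q²−q+1)/2 elements of order 2i; and for i > 1 dividing q − 3^(m+1) + 1 (respectively q + 3^(m+1) + 1) it has φ(i)q³(q²−1)(q + 3^(m+1) + 1)/6 (respectively φ(i)q³(q²−1)(q − 3^(m+1) + 1)/6) elements of order i. -/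
theorem result {K : Type*} [Field K] [Fintype K] {m : ℕ} (hm : 1 ≤ m)
    (hK : Fintype.card K = 3 ^ (2 * m + 1)) :
    Nat.card {g : ↥(Cfsg.Lie.twistedG2 K (3 ^ m)) // orderOf g = 2} = (3 ^ (2 * m + 1)) ^ 2 * ((3 ^ (2 * m + 1)) ^ 2 - 3 ^ (2 * m + 1) + 1) ∧
    Nat.card {g : ↥(Cfsg.Lie.twistedG2 K (3 ^ m)) // orderOf g = 3} = ((3 ^ (2 * m + 1)) ^ 2 - 1) * ((3 ^ (2 * m + 1)) ^ 3 + 1) ∧
    Nat.card {g : ↥(Cfsg.Lie.twistedG2 K (3 ^ m)) // orderOf g = 6} = (3 ^ (2 * m + 1)) ^ 2 * (3 ^ (2 * m + 1) - 1) * ((3 ^ (2 * m + 1)) ^ 3 + 1) ∧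
    Nat.card {g : ↥(Cfsg.Lie.twistedG2 K (3 ^ m)) // orderOf g = 9} = (3 ^ (2 * m + 1)) ^ 2 * (3 ^ (2 * m + 1) - 1) * ((3 ^ (2 * m + 1)) ^ 3 + 1) ∧
    (∀ i : ℕ, 2 < i → i ∣ 3 ^ (2 * m + 1) - 1 →
      2 * Nat.card {g : ↥(Cfsg.Lie.twistedG2 K (3 ^ m)) // orderOf g = i} = Nat.totient i * (3 ^ (2 * m + 1)) ^ 3 * ((3 ^ (2 * m + 1)) ^ 3 + 1)) ∧
    (∀ i : ℕ, 1 < i → i ∣ (3 ^ (2 * m + 1) + 1) / 4 →
      6 * Nat.card {g : ↥(Cfsg.Lie.twistedG2 K (3 ^ m)) // orderOf g = i} =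
          Nat.totient i * (3 ^ (2 * m + 1)) ^ 3 * (3 ^ (2 * m + 1) - 1) * ((3 ^ (2 * m + 1)) ^ 2 - 3 ^ (2 * m + 1) + 1) ∧
        2 * Nat.card {g : ↥(Cfsg.Lie.twistedG2 K (3 ^ m)) // orderOf g = 2 * i} =
          Nat.totient i * (3 ^ (2 * m + 1)) ^ 3 * (3 ^ (2 * m + 1) - 1) * ((3 ^ (2 * m + 1)) ^ 2 - 3 ^ (2 * m + 1) + 1)) ∧
    (∀ i : ℕ, 1 < i → i ∣ 3 ^ (2 * m + 1) - 3 ^ (m + 1) + 1 →
      6 * Nat.card {g : ↥(Cfsg.Lie.twistedG2 K (3 ^ m)) // orderOf g = i} =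
        Nat.totient i * (3 ^ (2 * m + 1)) ^ 3 * ((3 ^ (2 * m + 1)) ^ 2 - 1) * (3 ^ (2 * m + 1) + 3 ^ (m + 1) + 1)) ∧
    (∀ i : ℕ, 1 < i → i ∣ 3 ^ (2 * m + 1) + 3 ^ (m + 1) + 1 →
      6 * Nat.card {g : ↥(Cfsg.Lie.twistedG2 K (3 ^ m)) // orderOf g = i} =
        Nat.totient i * (3 ^ (2 * m + 1)) ^ 3 * ((3 ^ (2 * m + 1)) ^ 2 - 1) * (3 ^ (2 * m + 1) - 3 ^ (m + 1) + 1)) := by
  haveI := Cfsg.Agent.Lib.LieTwisted.Ree.charP_of_card hK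
  haveI : Fact (Fintype.card K = 3 ^ (2 * m + 1)) := ⟨hK⟩
  have hT : (3 ^ (2 * m + 1)) ^ 2 - 3 ^ (2 * m + 1) + 1 = Cfsg.Agent.Lib.Ree.tT m := by
    have h := Cfsg.Agent.Lib.Ree.tT_add m
    have h' := Cfsg.Agent.Lib.Ree.qq_le_sq m
    simp only [Cfsg.Agent.Lib.Ree.qq] at h h'
    rw [pow_two]
    omega
  rw [hT]
  obtain ⟨h3, h9, h6⟩ := Cfsg.Agent.Lib.ReeTori.card_three_nine_six (K := K) (m := m)
  obtain ⟨e, -⟩ := Cfsg.Agent.Lib.ReeTori.tT_split m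
  refine ⟨Cfsg.Agent.Lib.ReeTori.card_order_two hm, h3, h6, h9,
    fun i h2 hi => Cfsg.Agent.Lib.ReeTori.card_order_torH hm h2 hi,
    fun i h1 hi => Cfsg.Agent.Lib.ReeTori.card_order_torD hm h1 hi, fun i h1 hi => ?_, fun i h1 hi => ?_⟩
  · have h := Cfsg.Agent.Lib.ReeTori.card_order_torT (K := K) hm (Or.inl rfl) h1 hi
    rw [Cfsg.Agent.Lib.Ree.card_G', ← e] at h
    refine Nat.eq_of_mul_eq_mul_left (show 0 < Cfsg.Agent.Lib.Ree.qq m - 3 ^ (m + 1) + 1 from Nat.succ_pos _)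
      (Eq.trans ?_ (h.trans ?_))
    · rw [← Nat.card_coe_set_eq]; ring_nf; rfl
    · rw [show (3 ^ (2 * m + 1)) ^ 2 - 1 = (3 ^ (2 * m + 1) + 1) * (3 ^ (2 * m + 1) - 1) from Nat.sq_sub_sq _ 1]
      ring
  · have h := Cfsg.Agent.Lib.ReeTori.card_order_torT (K := K) hm (Or.inr rfl) h1 hi
    rw [Cfsg.Agent.Lib.Ree.card_G', ← e] at h
    refine Nat.eq_of_mul_eq_mul_left (show 0 < Cfsg.Agent.Lib.Ree.qq m + 3 ^ (m + 1) + 1 from Nat.succ_pos _)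
      (Eq.trans ?_ (h.trans ?_))
    · rw [← Nat.card_coe_set_eq]; ring_nf; rfl
    · rw [show (3 ^ (2 * m + 1)) ^ 2 - 1 = (3 ^ (2 * m + 1) + 1) * (3 ^ (2 * m + 1) - 1) from Nat.sq_sub_sq _ 1]
      ring

end Cfsg.Agent.S2357
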