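import Cfsg.Statements.S2362
import Cfsg.Agent.Lib.Spec48.OddOrthogonal
import Cfsg.Agent.Lib.Spec48.SympTorus
import Cfsg.Agent.Lib.OrthStd.Models

set_option autoImplicit false
open Cfsg

namespace Cfsg.Agent.S2362

open Cfsg.Agent.Lib Module QuadraticMap
open scoped Matrix

variable {F : Type*} [Field F] [Fintype F]

/-- The matrix of an isometry. -/
abbrev mat {ι : Type} [Fintype ι] [DecidableEq ι] {Q : (ι → F) → F} (g : isometryGroup F Q) :
    Matrix ι ι F := ((g : Matrix.GeneralLinearGroup ι F) : Matrix ι ι F)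

/-- No element of `POmega` of dimension `2k+3` has order `p (q ^ k + 1)`. -/
theorem orderOf_ne (p : ℕ) [Fact p.Prime] [CharP F p] (hodd : Odd (Fintype.card F)) {k : ℕ}
    (hk : 2 ≤ k) {ι : Type} [Fintype ι] [DecidableEq ι] (hι : Fintype.card ι = 2 * k + 3)
    (f : (ι → F) → F) (Q : QuadraticForm F (ι → F)) (hf : ∀ v, f v = Q v) (hnd : Forms.Nondeg Q)
    (x : Cfsg.POmega F f) : orderOf x ≠ p * (Fintype.card F ^ k + 1) := by
  classical
  intro hx
  obtain ⟨y, rfl⟩ := QuotientGroup.mk_surjective x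
  set m := p * (Fintype.card F ^ k + 1) with hm
  have hdvd : m ∣ orderOf y := hx ▸ orderOf_map_dvd (QuotientGroup.mk' _) y
  set z := y ^ (orderOf y / m) with hzdef
  have hz : orderOf z = m := orderOf_pow_orderOf_div (orderOf_pos y).ne' hdvd
  have h2 : (2 : F) ≠ 0 := Spec48.two_ne_zero' hodd
  have hzdet : (mat (z : isometryGroup F f)).det = 1 := by
    have h : Matrix.GeneralLinearGroup.det
        ((z : isometryGroup F f) : Matrix.GeneralLinearGroup ι F) = 1 :=
      Abelianization.commutator_subset_ker ((Matrix.GeneralLinearGroup.det (n := ι) (R := F)).comp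
        (isometryGroup F f).subtype) z.2
    exact congrArg Units.val h
  let B : (ι → F) →ₗ[F] (ι → F) →ₗ[F] F := QuadraticMap.polarBilin Q
  have hQ : ∀ (g : isometryGroup F f) (v : ι → F), Q (mat g *ᵥ v) = Q v := fun g v => by
    rw [← hf, ← hf]
    exact g.2 v v
  have hBiso : ∀ (g : isometryGroup F f) (u v : ι → F),
      B (mat g *ᵥ u) (mat g *ᵥ v) = B u v := fun g u v =>
    Forms.polar_map (Matrix.mulVecLin (mat g)) (hQ g) u v
  let X := {v : ι → F // B v v = 2}
  let inst : MulAction (isometryGroup F f) X :=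
    { smul := fun g v => ⟨mat g *ᵥ v.1, (hBiso g v.1 v.1).trans v.2⟩
      one_smul := fun v => Subtype.ext (Matrix.one_mulVec v.1)
      mul_smul := fun g h v => Subtype.ext (Matrix.mulVec_mulVec v.1 _ _).symm }
  let σhom := MulAction.toPermHom (isometryGroup F f) X
  have hsign : Equiv.Perm.sign (σhom z) = 1 :=
    Abelianization.commutator_subset_ker (Equiv.Perm.sign.comp σhom) z.2
  have hG : orderOf (Matrix.toLinAlgEquiv' (mat (z : isometryGroup F f))) = m := by
    rw [← hz, ← Subgroup.orderOf_coe, ← Subgroup.orderOf_coe, ← orderOf_units]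
    exact orderOf_injective (Matrix.toLinAlgEquiv' (R := F)).toAlgHom.toMonoidHom
      (Matrix.toLinAlgEquiv' (R := F)).injective _
  have hdet : LinearMap.det (Matrix.toLinAlgEquiv' (mat (z : isometryGroup F f))) = 1 := by
    rw [show Matrix.toLinAlgEquiv' (mat (z : isometryGroup F f)) =
      Matrix.toLin' (mat (z : isometryGroup F f)) from rfl, LinearMap.det_toLin', hzdet]
  have := Spec48.sign_eq_neg_one p hodd hk
    (by rw [Module.finrank_pi, hι]) B (fun u v => QuadraticMap.polar_comm _ u v) hnd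
    _ (fun u v => hBiso z u v) hdet hG h2 (σhom z) (fun v => rfl)
  rw [hsign] at this
  exact absurd this (by decide)

/-- Let F be a finite field of odd order and n ≥ 3. The simple orthogonal group PΩ(2n+1, F) (type B_n) and the projective symplectic group PSp(2n, F) (type C_n), which have the same order, do not have the same set of element orders. -/
theorem result {F : Type*} [Field F] [Fintype F] (hodd : Odd (Fintype.card F)) (n : ℕ) (hn : 3 ≤ n) :
    Set.range (orderOf : Cfsg.POmega F (Cfsg.quadFormOdd n F) → ℕ) ≠ Set.range (orderOf : Cfsg.PSp n F → ℕ) := by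
  obtain ⟨k, rfl⟩ : ∃ k, n = k + 1 := ⟨n - 1, by omega⟩
  obtain ⟨p, hp⟩ := CharP.exists F
  have : Fact p.Prime := ⟨CharP.char_is_prime F p⟩
  intro h
  obtain ⟨g, hg⟩ := Spec48.exists_orderOf_psp p (Spec48.two_ne_zero' hodd) (k := k) (by omega)
  obtain ⟨x, hx⟩ : orderOf g ∈ Set.range (orderOf : Cfsg.POmega F (Cfsg.quadFormOdd (k + 1) F) → ℕ) := by
    rw [h]; exact ⟨g, rfl⟩
  exact orderOf_ne p hodd (by omega) (by simp; omega) _ (OrthStd.qOddC (k + 1) F)
    (OrthStd.quadFormOdd_eq (k + 1))
    ((Forms.prod_nondeg (Forms.qPlus_nondeg (k + 1)) (Forms.qOne_nondeg one_ne_zero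
      (Spec48.two_ne_zero' hodd))).of_equiv (OrthStd.oddIso (k + 1) F).symm)
    x (hx.trans hg)

end Cfsg.Agent.S2362
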