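import Cfsg.Statements.S2364
import Cfsg.Agent.Lib.Elem70.Lift
import Cfsg.Agent.Lib.LinearOrders.Projective
import Cfsg.Agent.Lib.NumberTheory.Cyclotomic
import Cfsg.Agent.Lib.Linear.Order

set_option autoImplicit false
open Cfsg
open scoped commutatorElement

namespace Cfsg.Agent.S2364

open Matrix in
/-- An element of order `r` moving a subspace: the order of `q` modulo `r` is at most the codimension of the
fixed vectors in it. -/
theorem orderOf_dvd_sub {F : Type*} [Field F] [Fintype F] {n r : ℕ} [Fact r.Prime]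
    (hrq : ¬ r ∣ Fintype.card F) (B : Matrix (Fin n) (Fin n) F) (hB : B ^ r = 1)
    (U : Submodule F (Fin n → F)) (hU : ∀ v ∈ U, B *ᵥ v ∈ U) :
    orderOf (Fintype.card F : ZMod r) ∣
      Module.finrank F U - Module.finrank F ↥(U ⊓ LinearMap.eqLocus (Matrix.mulVecLin B) LinearMap.id) := by
  classical
  set W := U ⊓ LinearMap.eqLocus (Matrix.mulVecLin B) LinearMap.id with hW
  have hr := (Fact.out : r.Prime)
  have hBr : B * B ^ (r - 1) = 1 := by rw [← pow_succ', Nat.sub_add_cancel hr.one_le, hB]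
  have hBr' : B ^ (r - 1) * B = 1 := by rw [← pow_succ, Nat.sub_add_cancel hr.one_le, hB]
  have hUk : ∀ k : ℕ, ∀ v ∈ U, (B ^ k) *ᵥ v ∈ U := by
    intro k
    induction k with
    | zero => intro v hv; simpa
    | succ k ih => intro v hv; rw [pow_succ, ← Matrix.mulVec_mulVec]; exact ih _ (hU v hv)
  let e : Equiv.Perm U :=
    { toFun := fun v => ⟨B *ᵥ v, hU v v.2⟩
      invFun := fun v => ⟨(B ^ (r - 1)) *ᵥ v, hUk _ v v.2⟩
      left_inv := fun v => Subtype.ext (by simp [Matrix.mulVec_mulVec, hBr'])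
      right_inv := fun v => Subtype.ext (by simp [Matrix.mulVec_mulVec, hBr]) }
  have hep : ∀ k : ℕ, ∀ v : U, (((e ^ k) v : U) : Fin n → F) = (B ^ k) *ᵥ (v : Fin n → F) := by
    intro k
    induction k with
    | zero => simp
    | succ k ih =>
      intro v
      rw [pow_succ', Equiv.Perm.mul_apply, pow_succ', ← Matrix.mulVec_mulVec, ← ih]
      rfl
  have he : e ^ r = 1 := Equiv.ext fun v => Subtype.ext (by rw [hep, hB]; simp)
  have hp : IsPGroup r (Subgroup.zpowers e) := by
    obtain h | h := (Nat.dvd_prime hr).1 (orderOf_dvd_of_pow_eq_one he)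
    · exact IsPGroup.of_card (n := 0) (by rw [Nat.card_zpowers, h, pow_zero])
    · exact IsPGroup.of_card (n := 1) (by rw [Nat.card_zpowers, h, pow_one])
  have hmod := hp.card_modEq_card_fixedPoints U
  have hfix : Nat.card (MulAction.fixedPoints (Subgroup.zpowers e) U) = Nat.card W := by
    refine Nat.card_congr
      { toFun := fun v => ⟨v.1.1, v.1.2, congrArg Subtype.val (v.2 ⟨e, Subgroup.mem_zpowers e⟩ : e v.1 = v.1)⟩
        invFun := fun v => ⟨⟨v.1, v.2.1⟩, fun g => by
          have h0 : e ∈ MulAction.stabilizer (Equiv.Perm U) (⟨v.1, v.2.1⟩ : U) := Subtype.ext v.2.2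
          exact Subgroup.zpowers_le.2 h0 g.2⟩
        left_inv := fun v => rfl
        right_inv := fun v => rfl }
  rw [hfix, Module.natCard_eq_pow_finrank (K := F) (V := U), Module.natCard_eq_pow_finrank (K := F) (V := W),
    Nat.card_eq_fintype_card, ← ZMod.natCast_eq_natCast_iff, Nat.cast_pow, Nat.cast_pow] at hmod
  have hle : Module.finrank F W ≤ Module.finrank F U := Submodule.finrank_mono inf_le_left
  rw [← Nat.sub_add_cancel hle, pow_add] at hmod
  exact orderOf_dvd_of_pow_eq_one ((mul_eq_right₀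
    (pow_ne_zero _ (fun h => hrq ((ZMod.natCast_eq_zero_iff _ _).1 h)))).1 hmod)

open Matrix in
/-- The order of `q` modulo `r` when an element of order `r` centralises a nontrivial unipotent. -/
theorem orderOf_le {F : Type*} [Field F] [Fintype F] {n r : ℕ} [Fact r.Prime] (p : ℕ) [Fact p.Prime]
    [CharP F p] (hn : 3 ≤ n) (hrp : r ≠ p) (A B : Matrix (Fin n) (Fin n) F) (hA : A ^ p = 1) (hA1 : A ≠ 1)
    (hB : B ^ r = 1) (hB1 : B ≠ 1) (hAB : Commute A B) :
    orderOf (Fintype.card F : ZMod r) ≤ n - 2 := by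
  classical
  have hr := (Fact.out : r.Prime)
  have hr0 : (r : F) ≠ 0 := fun h => hrp
    ((Nat.prime_dvd_prime_iff_eq (Fact.out : p.Prime) hr).1 ((CharP.cast_eq_zero_iff F p r).1 h)).symm
  have hrq : ¬ r ∣ Fintype.card F := by
    obtain ⟨k, -, hk⟩ := FiniteField.card F p
    rw [hk]
    exact fun h => hrp ((Nat.prime_dvd_prime_iff_eq hr Fact.out).1 (hr.dvd_of_dvd_pow h))
  haveI : Nonempty (Fin n) := ⟨⟨0, by omega⟩⟩
  set N := A - 1 with hN
  have hNB : Commute N B := hAB.sub_left (Commute.one_left B)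
  have hNp : N ^ p = 0 := by
    rw [hN, sub_pow_char_of_commute p (Commute.one_right _), hA, one_pow, sub_self]
  set K := LinearMap.ker (Matrix.mulVecLin N) with hK
  have hKm : ∀ v, v ∈ K ↔ N *ᵥ v = 0 := fun v => LinearMap.mem_ker
  have hKB : ∀ v ∈ K, B *ᵥ v ∈ K := fun v hv => by
    rw [hKm] at hv ⊢
    rw [Matrix.mulVec_mulVec, hNB.eq, ← Matrix.mulVec_mulVec, hv, Matrix.mulVec_zero]
  set WK := K ⊓ LinearMap.eqLocus (Matrix.mulVecLin B) LinearMap.id with hWK
  have hlt : WK < K := by
    refine lt_of_le_of_ne inf_le_left fun he => hB1 ?_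
    have hfix : ∀ v, N *ᵥ v = 0 → B *ᵥ v = v := fun v hv => (he.ge ((hKm v).2 hv)).2
    have hall : ∀ i : ℕ, ∀ v, (N ^ i) *ᵥ v = 0 → B *ᵥ v = v := by
      intro i
      induction i with
      | zero => intro v hv; rw [pow_zero, Matrix.one_mulVec] at hv; rw [hv, Matrix.mulVec_zero]
      | succ i ih =>
        intro v hv
        rw [pow_succ, ← Matrix.mulVec_mulVec] at hv
        have h1 := ih _ hv
        set u := B *ᵥ v - v with hu
        have hu0 : N *ᵥ u = 0 := by
          rw [hu, Matrix.mulVec_sub, Matrix.mulVec_mulVec, hNB.eq, ← Matrix.mulVec_mulVec, h1, sub_self]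
        have hBu : B *ᵥ u = u := hfix u hu0
        have hk : ∀ j : ℕ, (B ^ j) *ᵥ v = v + (j : F) • u := by
          intro j
          induction j with
          | zero => simp
          | succ j ihj =>
            rw [pow_succ', ← Matrix.mulVec_mulVec, ihj, Matrix.mulVec_add, Matrix.mulVec_smul, hBu, hu,
              Nat.cast_succ, add_smul, one_smul]
            abel
        have := hk r
        rw [hB, Matrix.one_mulVec, left_eq_add, smul_eq_zero] at this
        exact sub_eq_zero.1 (this.resolve_left hr0)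
    exact Matrix.ext_iff_mulVec.2 fun v => by
      rw [Matrix.one_mulVec]; exact hall p v (by rw [hNp, Matrix.zero_mulVec])
  have hd := orderOf_dvd_sub hrq B hB K hKB
  have hltr := Submodule.finrank_lt_finrank_of_lt hlt
  have hdle : orderOf (Fintype.card F : ZMod r) ≤ Module.finrank F K - Module.finrank F WK :=
    Nat.le_of_dvd (by omega) hd
  have hKne : K ≠ ⊤ := fun h => hA1 (sub_eq_zero.1 (Matrix.ext_iff_mulVec.2 fun v => by
    rw [Matrix.zero_mulVec]; exact (hKm v).1 (h.ge trivial)))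
  have hKn : Module.finrank F K < n := by
    simpa using Submodule.finrank_lt hKne
  by_cases hk : Module.finrank F K ≤ n - 2
  · omega
  set W := LinearMap.range (Matrix.mulVecLin N) with hW
  have hW1 : Module.finrank F W = 1 := by
    have := LinearMap.finrank_range_add_finrank_ker (Matrix.mulVecLin N)
    rw [Module.finrank_fin_fun] at this
    rw [hW]
    change _ + Module.finrank F K = n at this
    omega
  obtain ⟨w, hw⟩ : ∃ w : W, w ≠ 0 := by
    haveI : Nontrivial W := Module.nontrivial_of_finrank_pos (R := F) (by omega)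
    exact exists_ne 0
  have hwK : (w : Fin n → F) ∈ K := by
    obtain ⟨c, hc⟩ := (finrank_eq_one_iff_of_nonzero' w hw).1 hW1 ⟨N *ᵥ (w : Fin n → F), ⟨_, rfl⟩⟩
    have hc' : N *ᵥ (w : Fin n → F) = c • (w : Fin n → F) := (congrArg Subtype.val hc).symm
    have hpow : ∀ j : ℕ, (N ^ j) *ᵥ (w : Fin n → F) = c ^ j • (w : Fin n → F) := by
      intro j
      induction j with
      | zero => simp
      | succ j ih => rw [pow_succ', ← Matrix.mulVec_mulVec, ih, Matrix.mulVec_smul, hc', smul_smul, pow_succ]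
    have := hpow p
    rw [hNp, Matrix.zero_mulVec, eq_comm, smul_eq_zero] at this
    have hc0 : c = 0 := eq_zero_of_pow_eq_zero (this.resolve_right fun h => hw (Subtype.ext h))
    rw [hKm, hc', hc0, zero_smul]
  by_cases hBw : B *ᵥ (w : Fin n → F) = w
  · have hwm : (w : Fin n → F) ∈ WK := ⟨hwK, hBw⟩
    have : 0 < Module.finrank F WK := Module.finrank_pos_iff_exists_ne_zero.2
      ⟨⟨w, hwm⟩, fun h => hw (Subtype.ext (congrArg (fun z : WK => (z : Fin n → F)) h))⟩
    omega
  · have hWB : ∀ v ∈ W, B *ᵥ v ∈ W := by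
      rintro _ ⟨v, rfl⟩
      exact ⟨B *ᵥ v, by simp [Matrix.mulVec_mulVec, hNB.eq]⟩
    have h1 := orderOf_dvd_sub hrq B hB W hWB
    have hbot : Module.finrank F ↥(W ⊓ LinearMap.eqLocus (Matrix.mulVecLin B) LinearMap.id) = 0 := by
      have hlt' : W ⊓ LinearMap.eqLocus (Matrix.mulVecLin B) LinearMap.id < W :=
        lt_of_le_of_ne inf_le_left fun he => hBw (he.ge w.2).2
      have := Submodule.finrank_lt_finrank_of_lt hlt'
      omega
    rw [hbot, hW1, Nat.sub_zero] at h1
    have := Nat.le_of_dvd one_pos h1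
    omega

/-- Let F be a finite field of characteristic p, n ≥ 4, and let a, b be commuting elements of PSL(n, F) with a of order p. Then every prime divisor of the order of b divides the order of SL(n − 2, F). -/
theorem result {F : Type*} [Field F] [Fintype F] (p : ℕ) [Fact p.Prime] [CharP F p] (n : ℕ) (hn : 4 ≤ n)
    (a b : Matrix.ProjectiveSpecialLinearGroup (Fin n) F) (ha : orderOf a = p) (hab : Commute a b) :
    (orderOf b).primeFactors ⊆ (Nat.card (Matrix.SpecialLinearGroup (Fin (n - 2)) F)).primeFactors := by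
  classical
  open Cfsg.Agent.Lib in
  intro r hrmem
  rw [Nat.mem_primeFactors] at hrmem ⊢
  obtain ⟨hr, hrb, -⟩ := hrmem
  refine ⟨hr, ?_, Nat.card_pos.ne'⟩
  haveI : Fact r.Prime := ⟨hr⟩
  set q := Fintype.card F with hq
  have hq2 : 2 ≤ q := Fintype.one_lt_card
  obtain ⟨e, -, hqe⟩ := FiniteField.card F p
  -- two factors of the order formula
  have hkey : (q - 1) * r ∣ ∏ i : Fin (n - 2), (q ^ (n - 2) - q ^ (i : ℕ)) := by
    have hlast : q ^ (n - 2) - q ^ (n - 3) = q ^ (n - 3) * (q - 1) := by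
      rw [Nat.mul_sub, mul_one, ← pow_succ, show n - 3 + 1 = n - 2 by omega]
    rcases eq_or_ne r p with rfl | hrp
    · refine dvd_trans ?_ (Finset.dvd_prod_of_mem _ (Finset.mem_univ ⟨n - 3, by omega⟩))
      rw [hlast, mul_comm]
      exact mul_dvd_mul_right (dvd_pow ((dvd_pow_self r e.ne_zero).trans hqe.symm.dvd) (by omega)) _
    -- the element of order `r` and the unipotent one
    have hrq : ¬ r ∣ q := fun h => hrp
      ((Nat.prime_dvd_prime_iff_eq hr Fact.out).1 (hr.dvd_of_dvd_pow (show r ∣ p ^ (e : ℕ) by rw [← hqe]; exact h)))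
    have hd : orderOf (q : ZMod r) ≤ n - 2 := by
      set Z := Subgroup.center (Matrix.SpecialLinearGroup (Fin n) F)
      have hZp : p.Coprime (Nat.card Z) := by
        refine (Fact.out : p.Prime).coprime_iff_not_dvd.2 fun hpZ => ?_
        obtain ⟨z, hz⟩ := exists_prime_orderOf_dvd_card' p hpZ
        obtain ⟨c, hc, hcz⟩ := Matrix.SpecialLinearGroup.mem_center_iff.1 z.2
        have h1 : (Matrix.scalar (Fin n) c) ^ p = 1 := by
          rw [hcz, ← Matrix.SpecialLinearGroup.coe_pow, ← Subgroup.coe_pow, ← hz, pow_orderOf_eq_one]; rfl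
        rw [← map_pow] at h1
        haveI : Nonempty (Fin n) := ⟨⟨0, by omega⟩⟩
        have hcp : c ^ p = 1 := Matrix.scalar_inj.1 (h1.trans (map_one _).symm)
        have hc1 : c = 1 := by
          have h0 : (c - 1) ^ p = 0 := by rw [sub_pow_char, hcp, one_pow, sub_self]
          exact sub_eq_zero.1 (eq_zero_of_pow_eq_zero h0)
        have hz1 : z = 1 := Subtype.ext (Subtype.ext (by rw [← hcz, hc1, map_one]; rfl))
        rw [hz1, orderOf_one] at hz
        exact (Fact.out : p.Prime).ne_one hz.symm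
      obtain ⟨A, hA, hAo⟩ := Elem70.exists_lift_coprime Z a (by rw [ha]; exact hZp)
      obtain ⟨k, hk⟩ := hrb
      obtain ⟨B0, hB0⟩ := QuotientGroup.mk'_surjective Z (b ^ k)
      have hbk : orderOf (b ^ k) = r := by
        have hk0 : k ≠ 0 := fun h => by
          rw [h, mul_zero] at hk; exact (orderOf_pos b).ne' hk
        rw [orderOf_pow_of_dvd hk0 (hk ▸ dvd_mul_left k r), hk,
          Nat.mul_div_cancel _ (Nat.pos_of_ne_zero hk0)]
      obtain ⟨j, m, hm, hjm⟩ := Nat.exists_eq_pow_mul_and_not_dvd (orderOf_pos B0).ne' r hr.ne_one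
      have hB1 : QuotientGroup.mk' Z (B0 ^ m) ≠ 1 := fun h => hm (by
        rw [map_pow, hB0, ← orderOf_dvd_iff_pow_eq_one, hbk] at h; exact h)
      have hm0 : m ≠ 0 := fun h => hm (h ▸ dvd_zero r)
      have hB1o : orderOf (B0 ^ m) = r ^ j := by
        rw [orderOf_pow_of_dvd hm0 (hjm ▸ dvd_mul_left m _), hjm, Nat.mul_div_cancel _ (Nat.pos_of_ne_zero hm0)]
      have hj : j ≠ 0 := fun h => hB1 (by
        rw [h, pow_zero, orderOf_eq_one_iff] at hB1o; rw [hB1o, map_one])
      -- they commute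
      have hcomm : Commute A (B0 ^ m) := by
        have hz : ⁅B0 ^ m, A⁆ ∈ Z := by
          rw [← QuotientGroup.eq_one_iff]
          show QuotientGroup.mk' Z ⁅B0 ^ m, A⁆ = 1
          rw [map_commutatorElement, map_pow, hB0, hA]
          exact commutatorElement_eq_one_iff_commute.2 ((hab.symm.pow_left k).pow_left m)
        have hc : ∀ g, ⁅B0 ^ m, A⁆ * g = g * ⁅B0 ^ m, A⁆ := fun g => (Subgroup.mem_center_iff.1 hz g).symm
        have h1 : ⁅B0 ^ m, A⁆ ^ p = 1 := by
          have he : ⁅B0 ^ m, A⁆ * A = B0 ^ m * A * (B0 ^ m)⁻¹ := by rw [commutatorElement_def]; group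
          have h2 := congrArg (· ^ p) he
          simp only [Commute.mul_pow (hc A), conj_pow] at h2
          rw [← hAo.trans ha, pow_orderOf_eq_one, mul_one, mul_one, mul_inv_cancel, hAo.trans ha] at h2
          exact h2
        have h3 : ⁅B0 ^ m, A⁆ ^ Nat.card Z = 1 :=
          congrArg Subtype.val (pow_card_eq_one' (G := Z) (x := ⟨_, hz⟩))
        exact (commutatorElement_eq_one_iff_commute.1 (orderOf_eq_one_iff.1
          (Nat.eq_one_of_dvd_coprimes hZp (orderOf_dvd_of_pow_eq_one h1) (orderOf_dvd_of_pow_eq_one h3)))).symm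
      set B := (B0 ^ m) ^ (r ^ (j - 1)) with hBdef
      have hBo : orderOf B = r := by
        rw [hBdef, orderOf_pow_of_dvd (pow_ne_zero _ hr.ne_zero) (hB1o ▸ pow_dvd_pow r (Nat.sub_le j 1)),
          hB1o, Nat.pow_div (Nat.sub_le j 1) hr.pos, show j - (j - 1) = 1 by omega, pow_one]
      refine orderOf_le p (by omega) hrp (A : Matrix (Fin n) (Fin n) F) (B : Matrix (Fin n) (Fin n) F) ?_ ?_ ?_ ?_ ?_
      · rw [← Matrix.SpecialLinearGroup.coe_pow, ← hAo.trans ha, pow_orderOf_eq_one,
          Matrix.SpecialLinearGroup.coe_one]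
      · intro h
        have h' : A = 1 := Subtype.ext h
        rw [h', orderOf_one, ha] at hAo
        exact (Fact.out : p.Prime).ne_one hAo.symm
      · rw [← Matrix.SpecialLinearGroup.coe_pow, ← hBo, pow_orderOf_eq_one, Matrix.SpecialLinearGroup.coe_one]
      · intro h
        have h' : B = 1 := Subtype.ext h
        rw [h', orderOf_one] at hBo
        exact hr.ne_one hBo.symm
      · exact congrArg (fun z : Matrix.SpecialLinearGroup (Fin n) F => (z : Matrix (Fin n) (Fin n) F))
          (hcomm.pow_right (r ^ (j - 1))).eq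
    have hd0 : 0 < orderOf (q : ZMod r) := NumberTheory.orderOf_pos_of_not_dvd hr hrq
    obtain ⟨d', hd'2, hd'n, hd'⟩ : ∃ d', 2 ≤ d' ∧ d' ≤ n - 2 ∧ orderOf (q : ZMod r) ∣ d' := by
      rcases Nat.lt_or_ge (orderOf (q : ZMod r)) 2 with h | h
      · exact ⟨2, le_rfl, by omega, (show orderOf (q : ZMod r) = 1 by omega) ▸ one_dvd 2⟩
      · exact ⟨_, h, hd, dvd_rfl⟩
    have hne : (⟨n - 3, by omega⟩ : Fin (n - 2)) ≠ ⟨n - 2 - d', by omega⟩ := by simp; omega
    refine dvd_trans ?_ (Finset.prod_dvd_prod_of_subset {(⟨n - 3, by omega⟩ : Fin (n - 2)), ⟨n - 2 - d', by omega⟩}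
      Finset.univ _ (Finset.subset_univ _))
    rw [Finset.prod_pair hne, hlast]
    refine mul_dvd_mul (dvd_mul_left _ _) ?_
    show r ∣ q ^ (n - 2) - q ^ (n - 2 - d')
    rw [show q ^ (n - 2) - q ^ (n - 2 - d') = q ^ (n - 2 - d') * (q ^ d' - 1) by
      rw [Nat.mul_sub, mul_one, ← pow_add, Nat.sub_add_cancel hd'n]]
    exact ((NumberTheory.dvd_pow_sub_one_iff_orderOf_dvd d' (by omega)).2 hd').mul_left _
  rw [← Linear.sub_one_mul_card_SL (F := F) (n - 2) (by omega)] at hkey
  exact (Nat.mul_dvd_mul_iff_left (show 0 < q - 1 by omega)).1 hkey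

end Cfsg.Agent.S2364
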