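import Cfsg.Statements.S2365
import Cfsg.Agent.Lib.Unitary.Transvection
import Cfsg.Agent.Lib.Elem70.Lift
import Cfsg.Agent.S2364

set_option autoImplicit false
open Cfsg
open scoped commutatorElement

namespace Cfsg.Agent.S2365

open Matrix
open Cfsg.Agent.Lib

/-- The matrix equation of the unitary group. -/
theorem transpose_mul_map {F : Type*} [Field F] [Fintype F] {q m : ℕ} (hF : Fintype.card F = q ^ 2)
    {B : Matrix (Fin m) (Fin m) F}
    (hB : ∀ u v, hermForm m F q (B *ᵥ u) (B *ᵥ v) = hermForm m F q u v) :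
    Bᵀ * B.map (· ^ q) = 1 := by
  ext i j
  have h := hB (Pi.single i 1) (Pi.single j 1)
  rw [Unitary.herm_std hF] at h
  rw [Matrix.one_apply, ← h, Matrix.mul_apply, hermForm]
  simp [Matrix.mulVec_single]

/-- The order of `-q` modulo `r` when a unitary element of order `r` centralises a nontrivial unipotent. -/
theorem orderOf_le {F : Type*} [Field F] [Fintype F] {m r : ℕ} [Fact r.Prime] (p q : ℕ) [Fact p.Prime]
    [CharP F p] (hF : Fintype.card F = q ^ 2) (hm : 4 ≤ m) (hrp : r ≠ p)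
    (A B : Matrix (Fin m) (Fin m) F) (hA : A ^ p = 1) (hA1 : A ≠ 1) (hB : B ^ r = 1) (hB1 : B ≠ 1)
    (hAB : Commute A B) (hU : Bᵀ * B.map (· ^ q) = 1) :
    0 < orderOf (-(q : ZMod r)) ∧ orderOf (-(q : ZMod r)) ≤ m - 2 := by
  classical
  have hr := (Fact.out : r.Prime)
  have hp := (Fact.out : p.Prime)
  obtain ⟨k, hqk⟩ : ∃ k : ℕ, q = p ^ k := by
    obtain ⟨j, -, hj⟩ := FiniteField.card F p
    obtain ⟨k, -, hk⟩ := (Nat.dvd_prime_pow hp).1 (⟨q, by rw [← hj, hF]; ring⟩ : q ∣ p ^ (j : ℕ))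
    exact ⟨k, hk⟩
  have hrq : ¬ r ∣ q := fun h => hrp ((Nat.prime_dvd_prime_iff_eq hr hp).1 (hr.dvd_of_dvd_pow (hqk ▸ h)))
  have hq0 : (-(q : ZMod r)) ≠ 0 := by
    rw [neg_ne_zero]
    exact fun h => hrq ((ZMod.natCast_eq_zero_iff _ _).1 h)
  set e := orderOf (-(q : ZMod r)) with he
  have hepos : 0 < e := by
    rw [he, orderOf_pos_iff, isOfFinOrder_iff_pow_eq_one]
    exact ⟨r - 1, by have := hr.two_le; omega, ZMod.pow_card_sub_one_eq_one hq0⟩
  refine ⟨hepos, ?_⟩
  set K := AlgebraicClosure F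
  haveI : CharP K p := charP_of_injective_algebraMap (algebraMap F K).injective p
  haveI : Nonempty (Fin m) := ⟨⟨0, by omega⟩⟩
  set ι := (algebraMap F K).mapMatrix (m := Fin m) with hι
  have hιinj : Function.Injective ι := Matrix.map_injective (algebraMap F K).injective
  set N := ι (A - 1) with hN
  have hNB : Commute N (ι B) := (hAB.sub_left (Commute.one_left B)).map ι
  have hNp : N ^ p = 0 := by
    rw [hN, ← map_pow, sub_pow_char_of_commute p (Commute.one_right _), hA, one_pow, sub_self, map_zero]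
  have hN0 : N ≠ 0 := fun h => hA1 (sub_eq_zero.1 (hιinj (h.trans (map_zero ι).symm)))
  have hBK : (ι B) ^ r = 1 := by rw [← map_pow, hB, map_one]
  let P : K → Prop := fun μ => ∃ v, v ≠ 0 ∧ ι B *ᵥ v = μ • v
  have hPr : ∀ μ, P μ → μ ^ r = 1 := by
    rintro μ ⟨v, hv, hμ⟩
    have hpow : ∀ i : ℕ, (ι B ^ i) *ᵥ v = μ ^ i • v := by
      intro i
      induction i with
      | zero => simp
      | succ i ih => rw [pow_succ', ← Matrix.mulVec_mulVec, ih, Matrix.mulVec_smul, hμ, smul_smul, pow_succ]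
    have := hpow r
    rw [hBK, Matrix.one_mulVec] at this
    exact smul_left_injective K hv (by simpa using this.symm)
  have hdetP : ∀ μ, (Matrix.scalar (Fin m) μ - ι B).det = 0 → P μ := by
    intro μ h
    obtain ⟨v, hv, hv'⟩ := Matrix.exists_mulVec_eq_zero_iff.2 h
    rw [Matrix.sub_mulVec, sub_eq_zero, Matrix.scalar_apply] at hv'
    exact ⟨v, hv, hv'.symm.trans (funext fun i => by simp [Matrix.mulVec_diagonal])⟩
  -- the set of eigenvalues is closed under `μ ↦ μ ^ (-q)`
  set t := (r - 1) * q with ht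
  have ht' : (t : ZMod r) = -(q : ZMod r) := by
    rw [ht, Nat.cast_mul, Nat.cast_sub hr.one_le, ZMod.natCast_self]; ring
  have hPt : ∀ μ, P μ → P (μ ^ t) := by
    intro μ hP
    have hμr := hPr μ hP
    obtain ⟨v, hv, hμ⟩ := hP
    set φ := iterateFrobenius K p k with hφ
    have hφv : (φ ∘ v) ≠ 0 := fun h => hv (funext fun i => φ.injective (by
      rw [Pi.zero_apply, map_zero]; exact congrFun h i))
    have hφB : (ι B).map φ = ι (B.map (· ^ q)) := by
      ext i j
      simp [hι, hφ, iterateFrobenius_def, hqk]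
    have h1 : ι (B.map (· ^ q)) *ᵥ (φ ∘ v) = μ ^ q • (φ ∘ v) := by
      funext i
      rw [← hφB, ← RingHom.map_mulVec, hμ]
      simp [hφ, iterateFrobenius_def, hqk, mul_pow]
    have h2 : (ι B)ᵀ * ι (B.map (· ^ q)) = 1 := by
      rw [show (ι B)ᵀ = ι Bᵀ from (Matrix.transpose_map (f := algebraMap F K) (M := B)).symm, ← map_mul, hU, map_one]
    have h3 : μ ^ t * μ ^ q = 1 := by
      rw [ht, ← pow_add, ← Nat.succ_mul, show (r - 1).succ = r by have := hr.one_le; omega, pow_mul, hμr, one_pow]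
    have h4 : (ι B)ᵀ *ᵥ (φ ∘ v) = μ ^ t • (φ ∘ v) := by
      have h := congrArg ((ι B)ᵀ *ᵥ ·) h1
      rw [Matrix.mulVec_mulVec, h2, Matrix.one_mulVec, Matrix.mulVec_smul] at h
      conv_rhs => rw [h, smul_smul, h3, one_smul]
    refine hdetP _ ?_
    rw [← Matrix.det_transpose]
    refine Matrix.exists_mulVec_eq_zero_iff.1 ⟨φ ∘ v, hφv, ?_⟩
    rw [Matrix.transpose_sub, Matrix.sub_mulVec, h4, sub_eq_zero]
    funext i
    simp [Matrix.scalar_apply, Matrix.mulVec_diagonal]
  -- a nontrivial eigenvalue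
  obtain ⟨μ₀, hμ₀, hμ₀1⟩ : ∃ μ, P μ ∧ μ ≠ 1 := by
    by_contra hno
    push Not at hno
    have hroots : ∀ μ ∈ (ι B).charpoly.roots, μ = 1 := fun μ hμ => hno μ (hdetP μ (by
      rw [← Matrix.eval_charpoly]; exact Polynomial.isRoot_of_mem_roots hμ))
    have hsp := (IsAlgClosed.splits (ι B).charpoly)
    have hprod := hsp.eq_prod_roots_of_monic (Matrix.charpoly_monic (ι B))
    have hcard : (ι B).charpoly.roots.card = m := by
      rw [← hsp.natDegree_eq_card_roots, Matrix.charpoly_natDegree_eq_dim, Fintype.card_fin]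
    rw [Multiset.eq_replicate.2 ⟨hcard, hroots⟩, Multiset.map_replicate, Multiset.prod_replicate] at hprod
    have hch := Matrix.aeval_self_charpoly (ι B)
    rw [hprod] at hch
    simp only [map_pow, map_sub, Polynomial.aeval_X, Polynomial.aeval_C, map_one] at hch
    have hm' : m ≤ p ^ m := (Nat.lt_pow_self hp.one_lt).le
    have h0 : (ι B - 1) ^ (p ^ m) = 0 := pow_eq_zero_of_le hm' hch
    rw [sub_pow_char_pow_of_commute p m (Commute.one_right _), one_pow, sub_eq_zero] at h0
    have hco : Nat.gcd (p ^ m) r = 1 :=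
      Nat.Coprime.pow_left m ((Nat.coprime_primes hp hr).2 (Ne.symm hrp))
    have h1 := pow_gcd_eq_one.2 ⟨h0, hBK⟩
    rw [hco, pow_one] at h1
    exact hB1 (hιinj (h1.trans (map_one ι).symm))
  have hord : orderOf μ₀ = r := orderOf_eq_prime (hPr _ hμ₀) hμ₀1
  have hfin : IsOfFinOrder μ₀ := orderOf_pos_iff.1 (hord.symm ▸ hr.pos)
  let f : Fin e → K := fun j => μ₀ ^ t ^ (j : ℕ)
  have hfP : ∀ j, P (f j) := by
    suffices h : ∀ j : ℕ, P (μ₀ ^ t ^ j) from fun j => h j
    intro j
    induction j with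
    | zero => simpa using hμ₀
    | succ j ih => rw [pow_succ, pow_mul]; exact hPt _ ih
  have hfinj : Function.Injective f := by
    intro i j h
    have h' := hfin.pow_eq_pow_iff_modEq.1 h
    rw [hord, ← ZMod.natCast_eq_natCast_iff, Nat.cast_pow, Nat.cast_pow, ht'] at h'
    exact Fin.ext (pow_injOn_Iio_orderOf (Set.mem_Iio.2 i.2) (Set.mem_Iio.2 j.2) h')
  have hf1 : ∀ j, f j ≠ 1 := by
    intro j h
    have h' := orderOf_dvd_of_pow_eq_one h
    rw [hord, ← ZMod.natCast_eq_zero_iff, Nat.cast_pow, ht'] at h'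
    exact pow_ne_zero _ hq0 h'
  -- `m` distinct eigenvalues are impossible
  have hfew : ∀ {J : Type} [Fintype J] (g : J → K), Function.Injective g → (∀ j, P (g j)) →
      Fintype.card J < m := by
    intro J _ g hg hgP
    have hw : ∀ j, ∃ v, v ≠ 0 ∧ ι B *ᵥ v = g j • v ∧ N *ᵥ v = 0 := by
      intro j
      obtain ⟨v, hv, hv'⟩ := hgP j
      have hex : ∃ i, (N ^ i) *ᵥ v = 0 := ⟨p, by rw [hNp, Matrix.zero_mulVec]⟩
      have hi0 : Nat.find hex ≠ 0 := fun h => hv (by
        have := Nat.find_spec hex; rwa [h, pow_zero, Matrix.one_mulVec] at this)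
      refine ⟨(N ^ (Nat.find hex - 1)) *ᵥ v, Nat.find_min hex (by omega), ?_, ?_⟩
      · rw [Matrix.mulVec_mulVec, ← (hNB.pow_left _).eq, ← Matrix.mulVec_mulVec, hv', Matrix.mulVec_smul]
      · rw [Matrix.mulVec_mulVec, ← pow_succ', Nat.sub_add_cancel (Nat.pos_of_ne_zero hi0)]
        exact Nat.find_spec hex
    choose w hw0 hwB hwN using hw
    have hli : LinearIndependent K w := Module.End.eigenvectors_linearIndependent' (Matrix.mulVecLin (ι B)) g hg w
      fun j => ⟨Module.End.mem_eigenspace_iff.2 (hwB j), hw0 j⟩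
    have hle := hli.fintype_card_le_finrank
    rw [Module.finrank_fin_fun] at hle
    refine lt_of_le_of_ne hle fun heq => hN0 (Matrix.ext_iff_mulVec.2 fun v => ?_)
    have hspan := hli.span_eq_top_of_card_eq_finrank' (by rw [Module.finrank_fin_fun, heq])
    have hker : Submodule.span K (Set.range w) ≤ LinearMap.ker (Matrix.mulVecLin N) :=
      Submodule.span_le.2 (by rintro _ ⟨j, rfl⟩; exact hwN j)
    rw [Matrix.zero_mulVec]
    exact hker (hspan.ge (Submodule.mem_top (x := v)))
  have hem : e < m := by simpa using hfew f hfinj hfP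
  by_contra hcon
  have hem1 : e = m - 1 := by omega
  by_cases h1 : P 1
  · have := hfew (fun o : Option (Fin e) => o.elim 1 f) (Option.injective_iff.2 ⟨hfinj, ?_⟩)
      (fun o => by cases o with | none => exact h1 | some j => exact hfP j)
    · simp at this; omega
    · rintro ⟨j, hj⟩; exact hf1 j hj
  · have hrF : ¬ r ∣ Fintype.card F := fun h => hrq (hr.dvd_of_dvd_pow (hF ▸ h))
    have hd := S2364.orderOf_dvd_sub hrF B hB ⊤ (fun v _ => Submodule.mem_top)
    have hbot : (⊤ : Submodule F (Fin m → F)) ⊓ LinearMap.eqLocus (Matrix.mulVecLin B) LinearMap.id = ⊥ := by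
      rw [top_inf_eq, Submodule.eq_bot_iff]
      intro v hv
      by_contra hv0
      refine h1 ⟨algebraMap F K ∘ v, fun h => hv0 (funext fun i => (algebraMap F K).injective (by
        rw [Pi.zero_apply, map_zero]; exact congrFun h i)), ?_⟩
      funext i
      rw [one_smul, hι, RingHom.mapMatrix_apply, ← RingHom.map_mulVec]
      exact congrArg (algebraMap F K) (congrFun hv i)
    rw [hbot, finrank_bot, finrank_top, Module.finrank_fin_fun, Nat.sub_zero, hF, Nat.cast_pow,
      ← neg_sq] at hd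
    have hd' : orderOf ((-(q : ZMod r)) ^ 2) ∣ e := orderOf_dvd_of_pow_eq_one (by
      rw [← pow_mul, mul_comm, pow_mul, pow_orderOf_eq_one, one_pow])
    have hone : orderOf ((-(q : ZMod r)) ^ 2) = 1 :=
      Nat.eq_one_of_dvd_coprimes ((Nat.coprime_self_sub_right (show 1 ≤ m by omega)).2 (Nat.coprime_one_right m))
        hd (hem1 ▸ hd')
    have := Nat.le_of_dvd two_pos (orderOf_dvd_of_pow_eq_one (orderOf_eq_one_iff.1 hone))
    omega

/-- Let q be a power of the prime p, F the field with q² elements, m ≥ 4, and let a, b be commuting elements of PSU(m, q) with a of order p. Then every prime divisor of the order of b divides the order of SU(m − 2, q). -/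
theorem result {F : Type*} [Field F] [Fintype F] (p : ℕ) [Fact p.Prime] [CharP F p] (m q : ℕ) (hm : 4 ≤ m) (hF : Fintype.card F = q ^ 2)
    (a b : Cfsg.PSU m F q) (ha : orderOf a = p) (hab : Commute a b) :
    (orderOf b).primeFactors ⊆ (Nat.card ↥(Cfsg.SU (m - 2) F q)).primeFactors := by
  classical
  intro r hrmem
  rw [Nat.mem_primeFactors] at hrmem ⊢
  obtain ⟨hr, hrb, -⟩ := hrmem
  refine ⟨hr, ?_, Nat.card_pos.ne'⟩
  haveI : Fact r.Prime := ⟨hr⟩
  have hp := (Fact.out : p.Prime)
  have hq2 : 1 < q := Unitary.one_lt_q hF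
  have hpq : p ∣ q := by
    obtain ⟨j, -, hj⟩ := FiniteField.card F p
    exact hp.dvd_of_dvd_pow (show p ∣ q ^ 2 by rw [← hF, hj]; exact dvd_pow_self p j.ne_zero)
  -- two factors of the order formula
  have hkey : (q + 1) * r ∣ Nat.card (Cfsg.GU (m - 2) F q) := by
    rw [Unitary.card_GU hF]
    have hfac0 : q + 1 ∣ ∏ i ∈ Finset.range (m - 2), (if Even i then q ^ (i + 1) + 1 else q ^ (i + 1) - 1) := by
      refine dvd_trans ?_ (Finset.dvd_prod_of_mem _ (Finset.mem_range.2 (show 0 < m - 2 by omega)))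
      simp
    rcases eq_or_ne r p with rfl | hrp
    · rw [mul_comm (q + 1)]
      refine mul_dvd_mul (hpq.trans (dvd_pow_self q ?_)) hfac0
      have : 1 ≤ (m - 2) * (m - 2 - 1) / 2 := by
        rw [Nat.le_div_iff_mul_le two_pos, one_mul]
        exact le_trans (by omega) (Nat.mul_le_mul (show 2 ≤ m - 2 by omega) (show 1 ≤ m - 2 - 1 by omega))
      omega
    -- the element of order `r` and the unipotent one
    set Z := Subgroup.center (Cfsg.SU m F q)
    have hZp : p.Coprime (Nat.card Z) := by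
      rw [Unitary.card_center_SU hF (by omega)]
      refine Nat.Coprime.coprime_dvd_right (Nat.gcd_dvd_right _ _) (hp.coprime_iff_not_dvd.2 fun h => ?_)
      exact hp.ne_one (Nat.dvd_one.1 ((Nat.dvd_add_right hpq).1 h))
    obtain ⟨A, hA, hAo⟩ := Elem70.exists_lift_coprime Z a (by rw [ha]; exact hZp)
    obtain ⟨k, hk⟩ := hrb
    obtain ⟨B0, hB0⟩ := QuotientGroup.mk'_surjective Z (b ^ k)
    have hbk : orderOf (b ^ k) = r := by
      have hk0 : k ≠ 0 := fun h => by
        rw [h, mul_zero] at hk; exact (orderOf_pos b).ne' hk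
      rw [orderOf_pow_of_dvd hk0 (hk ▸ dvd_mul_left k r), hk,
        Nat.mul_div_cancel _ (Nat.pos_of_ne_zero hk0)]
    obtain ⟨j, l, hl, hjl⟩ := Nat.exists_eq_pow_mul_and_not_dvd (orderOf_pos B0).ne' r hr.ne_one
    have hB1 : QuotientGroup.mk' Z (B0 ^ l) ≠ 1 := fun h => hl (by
      rw [map_pow, hB0, ← orderOf_dvd_iff_pow_eq_one, hbk] at h; exact h)
    have hl0 : l ≠ 0 := fun h => hl (h ▸ dvd_zero r)
    have hB1o : orderOf (B0 ^ l) = r ^ j := by
      rw [orderOf_pow_of_dvd hl0 (hjl ▸ dvd_mul_left l _), hjl, Nat.mul_div_cancel _ (Nat.pos_of_ne_zero hl0)]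
    have hj : j ≠ 0 := fun h => hB1 (by
      rw [h, pow_zero, orderOf_eq_one_iff] at hB1o; rw [hB1o, map_one])
    -- they commute
    have hcomm : Commute A (B0 ^ l) := by
      have hz : ⁅B0 ^ l, A⁆ ∈ Z := by
        rw [← QuotientGroup.eq_one_iff]
        show QuotientGroup.mk' Z ⁅B0 ^ l, A⁆ = 1
        rw [map_commutatorElement, map_pow, hB0, hA]
        exact commutatorElement_eq_one_iff_commute.2 ((hab.symm.pow_left k).pow_left l)
      have hc : ∀ g, ⁅B0 ^ l, A⁆ * g = g * ⁅B0 ^ l, A⁆ := fun g => (Subgroup.mem_center_iff.1 hz g).symm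
      have h1 : ⁅B0 ^ l, A⁆ ^ p = 1 := by
        have he : ⁅B0 ^ l, A⁆ * A = B0 ^ l * A * (B0 ^ l)⁻¹ := by rw [commutatorElement_def]; group
        have h2 := congrArg (· ^ p) he
        simp only [Commute.mul_pow (hc A), conj_pow] at h2
        rw [← hAo.trans ha, pow_orderOf_eq_one, mul_one, mul_one, mul_inv_cancel, hAo.trans ha] at h2
        exact h2
      have h3 : ⁅B0 ^ l, A⁆ ^ Nat.card Z = 1 :=
        congrArg Subtype.val (pow_card_eq_one' (G := Z) (x := ⟨_, hz⟩))
      exact (commutatorElement_eq_one_iff_commute.1 (orderOf_eq_one_iff.1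
        (Nat.eq_one_of_dvd_coprimes hZp (orderOf_dvd_of_pow_eq_one h1) (orderOf_dvd_of_pow_eq_one h3)))).symm
    set B := (B0 ^ l) ^ (r ^ (j - 1)) with hBdef
    have hBo : orderOf B = r := by
      rw [hBdef, orderOf_pow_of_dvd (pow_ne_zero _ hr.ne_zero) (hB1o ▸ pow_dvd_pow r (Nat.sub_le j 1)),
        hB1o, Nat.pow_div (Nat.sub_le j 1) hr.pos, show j - (j - 1) = 1 by omega, pow_one]
    let toM : Cfsg.SU m F q →* Matrix (Fin m) (Fin m) F := (slToMat m F).comp (Cfsg.SU m F q).subtype
    have hinj : Function.Injective toM := fun x y h => Subtype.ext (Subtype.ext h)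
    obtain ⟨he0, he⟩ := orderOf_le (r := r) p q hF hm hrp (toM A) (toM B)
      (by rw [← map_pow, ← hAo.trans ha, pow_orderOf_eq_one, map_one])
      (fun h => hp.ne_one (by
        have h' : A = 1 := hinj (h.trans (map_one toM).symm)
        rw [h', orderOf_one, ha] at hAo; exact hAo.symm))
      (by rw [← map_pow, ← hBo, pow_orderOf_eq_one, map_one])
      (fun h => hr.ne_one (by
        have h' : B = 1 := hinj (h.trans (map_one toM).symm)
        rw [h', orderOf_one] at hBo; exact hBo.symm))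
      ((hcomm.pow_right _).map toM) (transpose_mul_map hF B.2)
    obtain ⟨i, hi2, him, hi⟩ : ∃ i, 2 ≤ i ∧ i ≤ m - 2 ∧ (-(q : ZMod r)) ^ i = 1 := by
      rcases Nat.lt_or_ge (orderOf (-(q : ZMod r))) 2 with h | h
      · refine ⟨2, le_rfl, by omega, ?_⟩
        rw [orderOf_eq_one_iff.1 (show orderOf (-(q : ZMod r)) = 1 by omega), one_pow]
      · exact ⟨_, h, he, pow_orderOf_eq_one _⟩
    have hri : r ∣ if Even (i - 1) then q ^ (i - 1 + 1) + 1 else q ^ (i - 1 + 1) - 1 := by
      rw [show i - 1 + 1 = i by omega]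
      split_ifs with hev
      · have hodd : Odd i := by rw [show i = i - 1 + 1 by omega]; exact hev.add_one
        rw [← ZMod.natCast_eq_zero_iff, Nat.cast_add, Nat.cast_pow, Nat.cast_one]
        rw [hodd.neg_pow] at hi
        linear_combination -hi
      · have heven : Even i := by
          rw [show i = i - 1 + 1 by omega, Nat.even_add_one]; exact hev
        rw [← ZMod.natCast_eq_zero_iff, Nat.cast_sub (Nat.one_le_pow _ _ (by omega)), Nat.cast_pow, Nat.cast_one]
        rw [heven.neg_pow] at hi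
        linear_combination hi
    refine dvd_mul_of_dvd_right (dvd_trans ?_ (Finset.prod_dvd_prod_of_subset {0, i - 1}
      (Finset.range (m - 2)) _ (by intro x; simp; omega))) _
    rw [Finset.prod_pair (show 0 ≠ i - 1 by omega)]
    exact mul_dvd_mul (by simp) hri
  rw [← Unitary.card_SU hF (by omega)] at hkey
  exact (Nat.mul_dvd_mul_iff_left (show 0 < q + 1 by omega)).1 hkey

end Cfsg.Agent.S2365
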