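import Cfsg.Statements.S2367
import Mathlib

set_option autoImplicit false
open Cfsg

namespace Cfsg.Agent.S2367

theorem pow_lt (p : ℕ) (hp : 5 ≤ p) : p ^ 3 < 2 ^ (2 * p - 1) := by
  induction p, hp using Nat.le_induction with
  | base => norm_num
  | succ k hk ih =>
    rw [show 2 * (k + 1) - 1 = 2 * k - 1 + 2 by omega, pow_add]
    have h3 : (k + 1) ^ 3 ≤ 2 ^ 2 * k ^ 3 := by
      have h1 : 5 * k ^ 2 ≤ k ^ 3 := by
        calc 5 * k ^ 2 ≤ k * k ^ 2 := Nat.mul_le_mul_right _ hk
          _ = k ^ 3 := by ring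
      have h2 : 5 * k ≤ k ^ 2 := by
        calc 5 * k ≤ k * k := Nat.mul_le_mul_right _ hk
          _ = k ^ 2 := by ring
      have h4 : (k + 1) ^ 3 = k ^ 3 + 3 * k ^ 2 + 3 * k + 1 := by ring
      omega
    omega

/-- The arithmetic condition checked for each sporadic order. -/
theorem of_check {N : ℕ} (h : N ∣ Nat.factorial 71 ^ 60 ∧ N ≠ 0 ∧
      ∀ q < 72, q % 2 = 1 → q.Prime → q ^ 3 ∣ N → ¬ q ^ 4 ∣ N → q ^ 3 < Nat.gcd N (2 ^ 64))
    (p : ℕ) (hp : p.Prime) (hodd : p ≠ 2) (h3 : N.factorization p = 3) :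
    p ^ 3 < 2 ^ N.factorization 2 := by
  obtain ⟨h71, hN, hq⟩ := h
  have h3' : p ^ 3 ∣ N := h3 ▸ Nat.ordProj_dvd N p
  have h4 : ¬ p ^ 4 ∣ N := fun hd => by
    have := (hp.pow_dvd_iff_le_factorization hN).1 hd
    omega
  have hle : p ≤ 71 := hp.dvd_factorial.1
    (hp.dvd_of_dvd_pow ((dvd_pow_self p three_ne_zero).trans (h3'.trans h71)))
  have := hp.two_le
  refine (hq p (by omega) (hp.eq_two_or_odd.resolve_left hodd) hp h3' h4).trans_le ?_
  obtain ⟨k, -, hk⟩ := (Nat.dvd_prime_pow Nat.prime_two).1 (Nat.gcd_dvd_right N (2 ^ 64))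
  rw [hk]
  refine Nat.pow_le_pow_right two_pos ?_
  exact (Nat.prime_two.pow_dvd_iff_le_factorization hN).1 (hk ▸ Nat.gcd_dvd_left N (2 ^ 64))

/-- The alternating case. -/
theorem of_alternating (n : ℕ) (hn : 5 ≤ n) {N : ℕ} (hN : 2 * N = n.factorial)
    (p : ℕ) (hp : p.Prime) (hodd : p ≠ 2) (h3 : N.factorization p = 3) :
    p ^ 3 < 2 ^ N.factorization 2 := by
  have hN0 : N ≠ 0 := by
    intro h
    exact (Nat.factorial_pos n).ne' (by rw [← hN, h])
  have h2 : ∀ q, n.factorial.factorization q = (Nat.factorization 2) q + N.factorization q := by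
    intro q
    rw [← hN, Nat.factorization_mul two_ne_zero hN0, Finsupp.add_apply]
  have hp2 := h2 p
  have h22 := h2 2
  rw [Nat.Prime.factorization Nat.prime_two, Finsupp.single_eq_of_ne hodd, zero_add, h3,
    Nat.factorization_factorial hp (Nat.lt_add_one _)] at hp2
  rw [Nat.Prime.factorization Nat.prime_two, Finsupp.single_eq_same,
    Nat.factorization_factorial Nat.prime_two (Nat.lt_add_one _)] at h22
  have l2 : n / 2 + n / 4 ≤ 1 + N.factorization 2 := by
    rw [← h22]
    have hlog : 2 ≤ Nat.log 2 n := Nat.le_log_of_pow_le one_lt_two (by omega)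
    refine le_trans (le_of_eq ?_) (Finset.sum_le_sum_of_subset
      (show Finset.Ico 1 3 ⊆ Finset.Ico 1 (Nat.log 2 n + 1) from
        Finset.Ico_subset_Ico le_rfl (by omega)))
    rw [show Finset.Ico 1 3 = {1, 2} from rfl]
    simp
  have hsum : ∀ b, b ∈ Finset.Ico 1 (Nat.log p n + 1) → n / p ^ b ≤ 3 := fun b hb => by
    rw [← hp2]
    exact Finset.single_le_sum (f := fun i => n / p ^ i) (fun _ _ => Nat.zero_le _) hb
  have hp3 : 3 ≤ p := by have := hp.two_le; omega
  by_cases hsq : p * p ≤ n
  · exfalso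
    have hlog : 2 ≤ Nat.log p n := Nat.le_log_of_pow_le hp.one_lt (by rw [pow_two]; exact hsq)
    have hge : n / p + n / (p * p) ≤ 3 := by
      rw [← hp2]
      refine le_trans (le_of_eq ?_) (Finset.sum_le_sum_of_subset
        (show Finset.Ico 1 3 ⊆ Finset.Ico 1 (Nat.log p n + 1) from
          Finset.Ico_subset_Ico le_rfl (by omega)))
      rw [show Finset.Ico 1 3 = {1, 2} from rfl]
      simp [pow_two]
    have : p ≤ n / p := (Nat.le_div_iff_mul_le hp.pos).2 hsq
    have : 1 ≤ n / (p * p) := (Nat.one_le_div_iff (Nat.mul_pos hp.pos hp.pos)).2 hsq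
    omega
  · push Not at hsq
    have hlog : Nat.log p n ≤ 1 := by
      have := Nat.log_lt_of_lt_pow (b := p) (x := 2) (by omega) (show n < p ^ 2 by rw [pow_two]; exact hsq)
      omega
    have hdiv : n / p = 3 := by
      rcases Nat.le_one_iff_eq_zero_or_eq_one.1 hlog with h | h
      · rw [h] at hp2; simp at hp2
      · rw [h] at hp2
        simp at hp2; omega
    have h3n : 3 * p ≤ n := by
      rw [← hdiv]
      exact Nat.div_mul_le_self n p
    have hp5 : 5 ≤ p := by
      rcases hp.eq_two_or_odd with h | h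
      · omega
      · by_contra h5
        obtain rfl : p = 3 := by omega
        omega
    refine (pow_lt p hp5).trans_le (Nat.pow_le_pow_right two_pos ?_)
    omega

/-- Let G be an alternating group of degree at least 5 or a simple group with the order of one of the 26 sporadic groups, and let p be an odd prime such that p³ is the exact power of p dividing the order of G. Then p³ is less than the 2-part of the order of G. -/
theorem result {G : Type*} [Group G] [Finite G] (hG : Cfsg.IsAlternating G ∨ Cfsg.IsSporadic G)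
    (p : ℕ) (hp : p.Prime) (hodd : p ≠ 2) (h3 : (Nat.card G).factorization p = 3) :
    p ^ 3 < 2 ^ (Nat.card G).factorization 2 := by
  rcases hG with ⟨n, hn, ⟨e⟩⟩ | hG
  · have : Nontrivial (Fin n) := Fin.nontrivial_iff_two_le.2 (by omega)
    have hcard : 2 * Nat.card G = n.factorial := by
      rw [Nat.card_congr e.toEquiv, two_mul_nat_card_alternatingGroup, Nat.card_eq_fintype_card,
        Fintype.card_perm, Fintype.card_fin]
    exact of_alternating n hn hcard p hp hodd h3
  · unfold Cfsg.IsSporadic at hG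
    rcases hG with h | h | h | h | h | h | h | h | h | h | h | h | h | h | h | h | h | h | h | h | h | h | h | h | h | h <;>
      (rw [h.2] at h3 ⊢; exact of_check (by decide +kernel) p hp hodd h3)

end Cfsg.Agent.S2367
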