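import Cfsg.Statements.S2368
import Mathlib


set_option autoImplicit false
open Cfsg

namespace Cfsg.Agent.S2368

/-- Let F be a finite field of characteristic p and m ≥ 1. Every element of GL(m, F) of p-power order has order less than p·m, and GL(m, F) has an element of p-power order at least m; so the largest order of a p-element of GL(m, F) is the least power of p that is at least m. -/
theorem result {F : Type*} [Field F] [Fintype F] (p : ℕ) [Fact p.Prime] [CharP F p] (m : ℕ) (hm : 1 ≤ m) :
    (∀ g : Matrix.GeneralLinearGroup (Fin m) F, (∃ j : ℕ, orderOf g = p ^ j) → orderOf g < p * m) ∧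
      ∃ g : Matrix.GeneralLinearGroup (Fin m) F, (∃ j : ℕ, orderOf g = p ^ j) ∧ m ≤ orderOf g := by
  have hp : p.Prime := Fact.out
  have hnil : ∀ (g : Matrix (Fin m) (Fin m) F) (k : ℕ), g ^ (p ^ k) = 1 ↔ (g - 1) ^ (p ^ k) = 0 := by
    intro g k
    have : Nonempty (Fin m) := ⟨⟨0, hm⟩⟩
    haveI : CharP (Matrix (Fin m) (Fin m) F) p := Matrix.charP p
    rw [sub_pow_char_pow_of_commute p (n := k) (Commute.one_right g), one_pow, sub_eq_zero]
  constructor
  · rintro g ⟨j, hj⟩
    set N : Matrix (Fin m) (Fin m) F := (g : Matrix (Fin m) (Fin m) F) - 1 with hN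
    have hgj : (g : Matrix (Fin m) (Fin m) F) ^ (p ^ j) = 1 := by
      rw [← Units.val_pow_eq_pow_val, ← hj, pow_orderOf_eq_one, Units.val_one]
    have hNn : IsNilpotent N := ⟨p ^ j, (hnil _ j).1 hgj⟩
    have hNm : N ^ m = 0 := by
      have h := Matrix.aeval_self_charpoly N
      have h2 : N.charpoly = Polynomial.X ^ m := by
        simpa [sub_eq_zero] using (Matrix.isNilpotent_charpoly_sub_pow_of_isNilpotent hNn).eq_zero
      simpa [h2] using h
    rcases lt_or_ge 1 m with h1 | h1
    · have hclog := Nat.le_pow_clog hp.one_lt m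
      have hlt := Nat.pow_pred_clog_lt_self hp.one_lt h1
      have hpos := Nat.clog_pos hp.one_lt h1
      have : g ^ (p ^ Nat.clog p m) = 1 := by
        apply Units.ext
        rw [Units.val_pow_eq_pow_val, Units.val_one]
        exact (hnil _ _).2 (pow_eq_zero_of_le hclog hNm)
      refine lt_of_le_of_lt (Nat.le_of_dvd (pow_pos hp.pos _) (orderOf_dvd_of_pow_eq_one this)) ?_
      calc p ^ Nat.clog p m = p * p ^ (Nat.clog p m).pred := by
            rw [← pow_succ', Nat.pred_eq_sub_one]; congr 1; omega
        _ < p * m := Nat.mul_lt_mul_of_pos_left hlt hp.pos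
    · have hm1 : m = 1 := by omega
      have : g = 1 := Units.ext (sub_eq_zero.1 (by
        have h' : N ^ 1 = 0 := pow_eq_zero_of_le hm1.le hNm
        rwa [pow_one] at h'))
      rw [this, orderOf_one]
      have := hp.two_le
      have := Nat.mul_le_mul this hm
      omega
  · let N : Matrix (Fin m) (Fin m) F := Matrix.of fun i j => if (j : ℕ) = i + 1 then 1 else 0
    have hpow : ∀ (k : ℕ) (i j : Fin m), (N ^ k) i j = if (j : ℕ) = i + k then 1 else 0 := by
      intro k
      induction k with
      | zero =>
        intro i j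
        simp [Matrix.one_apply, Fin.ext_iff, eq_comm]
      | succ k ih =>
        intro i j
        rw [pow_succ, Matrix.mul_apply]
        simp only [ih, N, Matrix.of_apply, ite_mul, one_mul, zero_mul]
        by_cases h : (i : ℕ) + k < m
        · rw [Finset.sum_eq_single (⟨i + k, h⟩ : Fin m)]
          · simp [add_assoc]
          · intro b _ hb
            rw [if_neg]
            exact fun e => hb (Fin.ext e)
          · simp
        · rw [Finset.sum_eq_zero, if_neg]
          · omega
          · intro b _
            rw [if_neg]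
            omega
    obtain ⟨J, hJ⟩ : IsUnit (N + 1) := by
      refine IsNilpotent.isUnit_add_one ⟨m, ?_⟩
      ext i j
      rw [hpow, if_neg (by omega)]
      rfl
    have hJm : J ^ (p ^ m) = 1 := by
      apply Units.ext
      rw [Units.val_pow_eq_pow_val, Units.val_one, hnil, hJ, add_sub_cancel_right]
      ext i j
      rw [hpow, if_neg]
      · rfl
      · have := Nat.lt_pow_self hp.one_lt (n := m)
        omega
    obtain ⟨j, -, hj⟩ := (Nat.dvd_prime_pow hp).1 (orderOf_dvd_of_pow_eq_one hJm)
    refine ⟨J, ⟨j, hj⟩, ?_⟩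
    by_contra hlt
    push Not at hlt
    have h0 : (N ^ orderOf J) ⟨0, by omega⟩ ⟨orderOf J, hlt⟩ = 0 := by
      have : ((J : Matrix (Fin m) (Fin m) F) - 1) ^ (p ^ j) = 0 := by
        rw [← hnil, ← Units.val_pow_eq_pow_val, ← hj, pow_orderOf_eq_one, Units.val_one]
      rw [hJ, add_sub_cancel_right] at this
      have hz : N ^ orderOf J = 0 := by rw [hj]; exact this
      exact congrFun (congrFun hz _) _
    rw [hpow] at h0
    simp at h0

end Cfsg.Agent.S2368
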