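import Cfsg.Statements.S2369
import Cfsg.Agent.Lib.LieTwisted.Twist.RankTwoCent
import Cfsg.Agent.Lib.LieTwisted.Twist.F4Thms

set_option autoImplicit false
open Cfsg
open Cfsg.Agent.Lib.LieTwisted.Twist

namespace Cfsg.Agent.S2369

/-- Let q = 2^(2m+1) with m ≥ 1 and let a, b be commuting elements of the large Ree group ²F₄(q) with a an involution. Then every prime divisor of the order of b divides q(q⁴ − 1). -/
theorem result {K : Type*} [Field K] [Fintype K] (m : ℕ) (hm : 1 ≤ m) (hK : Fintype.card K = 2 ^ (2 * m + 1))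
    (a b : ↥(Cfsg.Lie.twistedF4 K (2 ^ m))) (ha : orderOf a = 2) (hab : Commute a b) :
    (orderOf b).primeFactors ⊆ (2 ^ (2 * m + 1) * ((2 ^ (2 * m + 1)) ^ 4 - 1)).primeFactors := by
  obtain ⟨θ, F⟩ := F4.exists_th hK
  have := F.two
  have : Fact (Nat.Prime 2) := ⟨Nat.prime_two⟩
  set T := F4.tw F with hTdef
  have hqe : T.q = 2 ^ (2 * m + 1) := hK
  set q := 2 ^ (2 * m + 1) with hq
  have h1q : 1 < T.q := by rw [hqe, hq]; exact Nat.one_lt_two_pow (by omega)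
  intro r hr
  rw [Nat.mem_primeFactors] at hr
  obtain ⟨hrp, hrd, hb0⟩ := hr
  have hq1 : 1 < q := hqe ▸ h1q
  have hq4 : 0 < q ^ 4 - 1 := Nat.sub_pos_of_lt (Nat.one_lt_pow (by norm_num) hq1)
  rw [Nat.mem_primeFactors]
  refine ⟨hrp, ?_, Nat.mul_ne_zero (by omega) hq4.ne'⟩
  have hc : orderOf (b ^ (orderOf b / r)) = r := orderOf_pow_orderOf_div hb0 hrd
  have hdvd := T.dvd_of_commute_unipotent h1q hqe (m0 := (0 : Fin 2)) (m1 := (1 : Fin 2))
    (fun h => absurd (congrArg Fin.val h) Nat.zero_ne_one)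
    (fun k => by revert k; exact Fin.forall_fin_two.2 ⟨Or.inl rfl, Or.inr rfl⟩)
    (a := a) (b := b ^ (orderOf b / r)) ha (hab.pow_right _) hrp hc
  have hB : Nat.card ↥T.B1 = q ^ 12 * (q - 1) ^ 2 := by
    rw [Tw.B1, Nat.card_congr (Subgroup.subgroupOfEquivOfLe inf_le_right).toEquiv, T.card_borel, hqe]
    refine congrArg₂ (· * ·) (show q ^ (48 / 2 / 2) = q ^ 12 from rfl) ?_
    exact (F4.card_diag F).trans (by rw [Nat.card_units, Nat.card_eq_fintype_card, hK])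
  have e0 : Cfsg.Agent.Lib.ChevStructure.Core.len F4.C (T.wO (0 : Fin 2)) / T.d = 1 :=
    (congrArg (· / 2) (F4.len_Jw 0)).trans (by decide)
  have e1 : Cfsg.Agent.Lib.ChevStructure.Core.len F4.C (T.wO (1 : Fin 2)) / T.d = 2 :=
    (congrArg (· / 2) (F4.len_Jw 1)).trans (by decide)
  have c0 := T.card_Qm h1q (0 : Fin 2)
  have c1 := T.card_Qm h1q (1 : Fin 2)
  rw [e0, hB, hqe, pow_one] at c0
  rw [e1, hB, hqe] at c1
  replace hdvd := hdvd.imp (fun h => c0 ▸ h) (fun h => c1 ▸ h)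
  have hf : q ^ 4 - 1 = (q - 1) * ((1 + q) * (1 + q ^ 2)) := by
    obtain ⟨z, hz⟩ := Nat.exists_eq_add_of_le (show 1 ≤ q by omega)
    rw [hz, Nat.add_sub_cancel_left]
    exact Nat.sub_eq_of_eq_add (by ring)
  have key : ∀ k, r ∣ q ^ 12 * (q - 1) ^ 2 * k → k ∣ q ^ 4 - 1 → r ∣ q * (q ^ 4 - 1) := by
    intro k h hk
    rcases hrp.dvd_mul.1 h with h | h
    · rcases hrp.dvd_mul.1 h with h | h
      · exact (hrp.dvd_of_dvd_pow h).mul_right _
      · exact ((hrp.dvd_of_dvd_pow h).trans (hf ▸ Dvd.intro _ rfl)).mul_left _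
    · exact (h.trans hk).mul_left _
  rcases hdvd with h | h
  · exact key _ h (hf ▸ Dvd.intro ((q - 1) * (1 + q ^ 2)) (by ring))
  · exact key _ h (hf ▸ Dvd.intro ((q - 1) * (1 + q)) (by ring))

end Cfsg.Agent.S2369
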