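import Cfsg.Statements.S2370
import Cfsg.Agent.Lib.ChevStructure.CommGL
import Cfsg.Agent.Lib.ChevStructure.Height
import Cfsg.Agent.Lib.ChevBorelTits.Final

set_option autoImplicit false
open Cfsg

namespace Cfsg.Agent.S2370

theorem hgtF4 : ∀ r : Lib.ChevStructure.Rt Cfsg.Lie.chevF4,
    |∑ k, Lib.ChevStructure.Cert.F4.core.v r k| ≤ ((15 : ℕ) : ℤ) := by
  unfold Lib.ChevStructure.Rt
  decide +kernel

/-- Let q = 2^(2m+1) with m ≥ 1. Every element of 2-power order of the large Ree group ²F₄(q) has order at most 32. -/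
theorem result {K : Type*} [Field K] [Fintype K] (m : ℕ) (hm : 1 ≤ m) (hK : Fintype.card K = 2 ^ (2 * m + 1))
    (x : ↥(Cfsg.Lie.twistedF4 K (2 ^ m))) (hx : ∃ j : ℕ, orderOf x = 2 ^ j) : orderOf x ≤ 32 := by
  classical
  haveI : Fact (Nat.Prime 2) := ⟨Nat.prime_two⟩
  haveI : CharP K 2 := by
    obtain ⟨n, hp, hn⟩ := FiniteField.card K (ringChar K)
    have h2 : ringChar K = 2 := by
      have h : ringChar K ∣ 2 ^ (2 * m + 1) := by rw [← hK, hn]; exact dvd_pow_self _ n.ne_zero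
      exact ((Nat.prime_dvd_prime_iff_eq hp Nat.prime_two).1 (hp.dvd_of_dvd_pow h))
    exact ringChar.of_eq h2
  obtain ⟨j, hj⟩ := hx
  set C := Lib.ChevStructure.Cert.F4.core with hC
  have H : Lib.ChevStructure.CommOK C := Lib.ChevStructure.Cert.F4.core.commOK_mild Lib.ChevStructure.mildF4
  have hle : Cfsg.Lie.twistedF4 K (2 ^ m) ≤ Cfsg.Lie.chevF4.group K :=
    Lib.ChevStructure.Height.genSubgroup_le C _
  have hord : orderOf (x : GL Cfsg.Lie.chevF4.Idx K) = 2 ^ j := by rw [Subgroup.orderOf_coe, hj]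
  have hp : IsPGroup 2 ↥(Subgroup.zpowers (x : GL Cfsg.Lie.chevF4.Idx K)) :=
    IsPGroup.of_card (n := j) (by rw [Nat.card_zpowers, hord])
  obtain ⟨g, -, hg⟩ := Lib.ChevBorelTits.exists_conj_le_US C K 2 H (Lib.ChevBorelTits.parHyp H K)
    (Subgroup.zpowers (x : GL Cfsg.Lie.chevF4.Idx K)) (Subgroup.zpowers_le.2 (hle x.2)) hp
  obtain ⟨u, hu, hux⟩ := hg (Subgroup.mem_zpowers _)
  have hB : ∀ r : Lib.ChevStructure.Rt Cfsg.Lie.chevF4, |∑ k, C.v r k| ≤ ((15 : ℕ) : ℤ) := hgtF4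
  have h31 := Lib.ChevStructure.Height.unipotent_pow C hB hu
  have hu32 : u ^ 32 = 1 := by
    apply Units.ext
    rw [Units.val_pow_eq_pow_val, Units.val_one, ← sub_eq_zero]
    haveI : Nonempty Cfsg.Lie.chevF4.Idx := ⟨Sum.inr ⟨0, by decide +kernel⟩⟩
    haveI : CharP (Matrix Cfsg.Lie.chevF4.Idx Cfsg.Lie.chevF4.Idx K) 2 := inferInstance
    have e := sub_pow_char_pow_of_commute (p := 2) (n := 5)
      (Commute.one_right (u : Matrix Cfsg.Lie.chevF4.Idx Cfsg.Lie.chevF4.Idx K))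
    rw [one_pow] at e
    rw [show (32 : ℕ) = 2 ^ 5 from rfl, ← e]
    exact pow_eq_zero_of_le (by norm_num) h31
  have hx32 : (x : GL Cfsg.Lie.chevF4.Idx K) ^ 32 = 1 := by
    rw [← hux, ← map_pow, hu32, map_one]
  rw [← Subgroup.orderOf_coe]
  exact orderOf_le_of_pow_eq_one (by norm_num) hx32

end Cfsg.Agent.S2370
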