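import Cfsg.Statements.S2379
import Cfsg.Agent.Lib.SylowLarge.Basic
import Cfsg.Agent.Lib.Linear.Order

set_option autoImplicit false
open Cfsg

namespace Cfsg.Agent.S2379

/-- Sylow subgroups of `SL_n(q)` for large primes. Let `F` be a field with `q` elements and `r` a prime with `r > n` and `r ∤ q` (so `r` does not divide the order `n!` of the Weyl group). Let `d` be the multiplicative order of `q` modulo `r`, `a` the number of integers `i` with `2 ≤ i ≤ n` divisible by `d` (the degrees of the Weyl group are `2, …, n`), and `m` the `r`-part of the value at `q` of the `d`-th cyclotomic polynomial. Then every Sylow `r`-subgroup of `SL_n(q)` is a direct product of `a` cyclic groups of order `m`. -/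
theorem result {F : Type*} [Field F] [Fintype F] {q : ℕ} (hq : Fintype.card F = q) (n : ℕ)
    (r : ℕ) [Fact r.Prime] (hrn : n < r) (hrq : ¬ r ∣ q) (P : Sylow r (Matrix.SpecialLinearGroup (Fin n) F)) :
    Nonempty (↥(P : Subgroup (Matrix.SpecialLinearGroup (Fin n) F)) ≃*
      (Fin ((Finset.Icc 2 n).filter (fun i => orderOf (q : ZMod r) ∣ i)).card →
        Multiplicative (ZMod (r ^ padicValNat r ((Polynomial.cyclotomic (orderOf (q : ZMod r)) ℤ).eval (q : ℤ)).natAbs)))) := by
  classical
  open Cfsg.Agent.Lib.SylowLarge in
  set d := orderOf (q : ZMod r) with hd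
  have hq2 : 2 ≤ q := two_le hq
  have hrp : Nat.Prime r := Fact.out
  have hd0 : 0 < d := Cfsg.Agent.Lib.NumberTheory.orderOf_pos_of_not_dvd hrp hrq
  rw [filter_two_card]
  have hgl := factorization_card_GL hq hrq n (fun i hi hdi hr => by
    rw [Finset.mem_Icc] at hi
    obtain ⟨k, rfl⟩ := hdi
    rw [Nat.mul_div_cancel_left _ hd0] at hr
    have := Nat.le_of_dvd (Nat.pos_of_ne_zero fun h => by rw [h, mul_zero] at hi; omega) hr
    have := Nat.le_mul_of_pos_left k (show 0 < orderOf (q : ZMod r) from hd0)
    omega)
  rcases Nat.eq_zero_or_pos n with rfl | hn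
  · have : Subsingleton (Matrix.SpecialLinearGroup (Fin 0) F) :=
      ⟨fun a b => Subtype.ext (Matrix.ext fun i => i.elim0)⟩
    refine sylow_equiv_of_hom (1 : model q r _ →* _) ?_ ?_ P
    · have : Subsingleton (model q r (if d = 1 then 0 - 1 else 0 / d)) := by
        rw [Nat.zero_div, Nat.zero_sub, ite_self]; infer_instance
      exact fun x y _ => Subsingleton.elim x y
    · rw [card_model, Nat.zero_div, Nat.zero_sub, ite_self, mul_zero, Nat.card_unique,
        Nat.factorization_one]
      rfl
  have hsl : (Nat.card (Matrix.SpecialLinearGroup (Fin n) F)).factorization r =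
      expo q r * (n / d) - (if d = 1 then expo q r else 0) := by
    have e := Cfsg.Agent.Lib.Linear.sub_one_mul_card_SL (F := F) n hn
    rw [← Matrix.card_GL_field, hq] at e
    have e2 := congrArg (fun x => x.factorization r) e
    have hq1 : (q - 1).factorization r = if d = 1 then expo q r else 0 := by
      have h1 := factorization_pow_sub_one hq2 hrq (i := 1) one_pos (fun h => by
        rw [Nat.dvd_one] at h
        rw [h, Nat.div_one]; exact hrp.not_dvd_one)
      rw [pow_one] at h1
      rw [h1]
      exact if_congr Nat.dvd_one rfl rfl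
    rw [Nat.factorization_mul (by omega) Nat.card_pos.ne', Finsupp.add_apply, hgl, hq1, ← hd] at e2
    generalize (if d = 1 then expo q r else 0) = z at e2 ⊢
    omega
  by_cases h1 : d = 1
  · rw [if_pos h1]
    obtain ⟨m, rfl⟩ : ∃ m, n = m + 1 := ⟨n - 1, by omega⟩
    haveI : NeZero (r ^ expo q r) := ⟨pow_ne_zero _ hrp.ne_zero⟩
    obtain ⟨c, hc⟩ := exists_cyclic_hom (K := F) (m := r ^ expo q r) (by
      have h := Nat.ordProj_dvd (q ^ d - 1) r
      rw [factorization_pow_order hq2 hrq, h1, pow_one] at h
      rwa [Nat.card_eq_fintype_card, hq])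
    let v : model q r m → Fin (m + 1) → F := fun x => Fin.cons ((∏ i, c (x i))⁻¹ : Fˣ) fun i => (c (x i) : F)
    have hv : ∀ x y, v (x * y) = v x * v y := fun x y => by
      funext i
      refine Fin.cases ?_ (fun j => ?_) i
      · simp [v, Finset.prod_mul_distrib, mul_comm]
      · simp [v]
    have hdet : ∀ x, (Matrix.diagonal (v x)).det = 1 := fun x => by
      rw [Matrix.det_diagonal, Fin.prod_univ_succ]
      simp only [v, Fin.cons_zero, Fin.cons_succ, ← Units.coe_prod, ← Units.val_mul, inv_mul_cancel,
        Units.val_one]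
    let φ : model q r m →* Matrix.SpecialLinearGroup (Fin (m + 1)) F :=
      { toFun := fun x => ⟨Matrix.diagonal (v x), hdet x⟩
        map_one' := Subtype.ext (by
          show Matrix.diagonal (v 1) = 1
          rw [← Matrix.diagonal_one]
          congr 1
          funext i
          refine Fin.cases ?_ (fun j => ?_) i <;> simp [v])
        map_mul' := fun x y => Subtype.ext (by
          show Matrix.diagonal (v (x * y)) = Matrix.diagonal (v x) * Matrix.diagonal (v y)
          rw [hv, Matrix.diagonal_mul_diagonal]
          rfl) }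
    rw [Nat.add_sub_cancel]
    refine sylow_equiv_of_hom φ (fun x y h => ?_) ?_ P
    · have e := Matrix.diagonal_injective (congrArg Subtype.val h)
      funext i
      exact hc (Units.ext (by simpa [v] using congrFun e i.succ))
    · rw [card_model, hsl, if_pos h1, h1, Nat.div_one, Nat.mul_succ, Nat.add_sub_cancel]
  · rw [if_neg h1]
    obtain ⟨φ, hφ⟩ := exists_GL_hom hq hrq (a := n / d) (Nat.div_mul_le_self n _)
    have hdet : ∀ x, ((φ x : GL (Fin n) F) : Matrix (Fin n) (Fin n) F).det = 1 := by
      intro x
      set u := Matrix.GeneralLinearGroup.det (φ x)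
      show (u : F) = 1
      have e1 : u ^ r ^ (expo q r * (n / d)) = 1 := by
        rw [← map_pow, ← map_pow, ← card_model, pow_card_eq_one', map_one, map_one]
      have e2 : u ^ (q - 1) = 1 := by
        rw [← hq, ← Nat.card_eq_fintype_card, ← Nat.card_units, pow_card_eq_one']
      have hco : (r ^ (expo q r * (n / d))).Coprime (q - 1) := by
        refine Nat.Coprime.pow_left _ (hrp.coprime_iff_not_dvd.2 fun h => h1 ?_)
        have h' := (Cfsg.Agent.Lib.NumberTheory.dvd_pow_sub_one_iff_orderOf_dvd (p := r) (q := q) 1 (by omega)).1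
          (by rwa [pow_one])
        exact Nat.dvd_one.1 h'
      rw [orderOf_eq_one_iff.1 (Nat.eq_one_of_dvd_coprimes hco (orderOf_dvd_of_pow_eq_one e1)
        (orderOf_dvd_of_pow_eq_one e2)), Units.val_one]
    let ψ : model q r (n / d) →* Matrix.SpecialLinearGroup (Fin n) F :=
      { toFun := fun x => ⟨(φ x : Matrix (Fin n) (Fin n) F), hdet x⟩
        map_one' := Subtype.ext (by simp)
        map_mul' := fun x y => Subtype.ext (by
          show (φ (x * y) : Matrix (Fin n) (Fin n) F) = (φ x : Matrix (Fin n) (Fin n) F) * (φ y : Matrix (Fin n) (Fin n) F)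
          rw [map_mul, Units.val_mul]) }
    refine sylow_equiv_of_hom ψ (fun x y h => hφ (Units.ext (congrArg Subtype.val h))) ?_ P
    rw [card_model, hsl, if_neg h1, Nat.sub_zero]

end Cfsg.Agent.S2379
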