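import Cfsg.Statements.S2381
import Cfsg.Agent.Lib.SylowLarge.Basic
import Cfsg.Agent.Lib.MinDegree.Symplectic
import Cfsg.Agent.S0245

set_option autoImplicit false
open Cfsg

namespace Cfsg.Agent.S2381

/-- Sylow subgroups of `Sp_{2n}(q)` for large primes. Let `F` be a field with `q` elements and `r` an odd prime with `r > n` and `r ∤ q` (so `r` does not divide the order `2^n n!` of the Weyl group). Let `d` be the multiplicative order of `q` modulo `r`, `a` the number of `i` with `1 ≤ i ≤ n` and `d ∣ 2i` (the degrees being `2, 4, …, 2n`), and `m` the `r`-part of the value at `q` of the `d`-th cyclotomic polynomial. Then every Sylow `r`-subgroup of the symplectic group `Sp_{2n}(q)` is a direct product of `a` cyclic groups of order `m`. -/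
theorem result {F : Type*} [Field F] [Fintype F] {q : ℕ} (hq : Fintype.card F = q) (n : ℕ)
    (r : ℕ) [Fact r.Prime] (hr2 : r ≠ 2) (hrn : n < r) (hrq : ¬ r ∣ q) (P : Sylow r ↥(Matrix.symplecticGroup (Fin n) F)) :
    Nonempty (↥(P : Subgroup ↥(Matrix.symplecticGroup (Fin n) F)) ≃*
      (Fin ((Finset.Icc 1 n).filter (fun i => orderOf (q : ZMod r) ∣ 2 * i)).card →
        Multiplicative (ZMod (r ^ padicValNat r ((Polynomial.cyclotomic (orderOf (q : ZMod r)) ℤ).eval (q : ℤ)).natAbs)))) := by
  classical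
  open Cfsg.Agent.Lib.SylowLarge in
  set d := orderOf (q : ZMod r) with hd
  have hq2 : 2 ≤ q := two_le hq
  have hrp : Nat.Prime r := Fact.out
  have hd0 : 0 < d := Cfsg.Agent.Lib.NumberTheory.orderOf_pos_of_not_dvd hrp hrq
  have hr : ∀ j, 0 < j → j ≤ 2 * n → d ∣ j → (j < r ∨ 2 ∣ j) → ¬ r ∣ j / d := by
    intro j hj0 hj hdj h2 h
    have hjr : r ∣ j := h.trans (Nat.div_dvd_of_dvd hdj)
    rcases h2 with h2 | h2
    · exact absurd (Nat.le_of_dvd hj0 hjr) (not_le.2 h2)
    · have h3 : 2 * r ∣ j :=
        ((Nat.coprime_primes Nat.prime_two hrp).2 hr2.symm).mul_dvd_of_dvd_of_dvd h2 hjr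
      have := Nat.le_of_dvd hj0 h3
      omega
  have hsp : (Nat.card (Matrix.symplecticGroup (Fin n) F)).factorization r =
      expo q r * ((Finset.Icc 1 n).filter (fun i => d ∣ 2 * i)).card := by
    have hpos : ∀ i ∈ Finset.range n, q ^ (2 * (i + 1)) - 1 ≠ 0 := fun i _ => by
      have := Nat.one_lt_pow (show 2 * (i + 1) ≠ 0 by omega) (show 1 < q by omega)
      omega
    rw [Cfsg.Agent.S0245.result hq n, Nat.factorization_mul (pow_ne_zero _ (by omega))
      (Finset.prod_ne_zero_iff.2 hpos), Finsupp.add_apply,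
      Nat.factorization_eq_zero_of_not_dvd (fun h => hrq (hrp.dvd_of_dvd_pow h)), zero_add,
      Nat.factorization_prod hpos, Finsupp.finsetSum_apply]
    exact sum_expo (q := q) (r := r) (fun i => (q ^ (2 * i) - 1).factorization r) _ n fun i hi => by
      rw [Finset.mem_Icc] at hi
      exact factorization_pow_sub_one hq2 hrq (by omega)
        (fun h => hr _ (by omega) (by omega) h (Or.inr (dvd_mul_right 2 i)))
  rcases Nat.even_or_odd d with hev | hodd
  · obtain ⟨e, he⟩ := hev
    have hc : ((Finset.Icc 1 n).filter (fun i => d ∣ 2 * i)).card = 2 * n / d := by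
      rw [show 2 * n / d = n / e by rw [he, ← two_mul, Nat.mul_div_mul_left _ _ two_pos], ← filter_dvd_card]
      congr 1
      refine Finset.filter_congr fun i _ => ?_
      rw [he, ← two_mul]
      exact Nat.mul_dvd_mul_iff_left two_pos
    rw [hc] at hsp ⊢
    -- the Sylow subgroup is one of `GL_{2n}`
    let ρ : ↥(Matrix.symplecticGroup (Fin n) F) →* GL (Fin (2 * n)) F :=
      ((Matrix.reindexAlgEquiv F F (finSumFinEquiv.trans (finCongr (two_mul n).symm))).toMonoidHom.comp
        (Matrix.symplecticGroup (Fin n) F).subtype).toHomUnits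
    have hρ : Function.Injective ρ := fun x y h => Subtype.ext
      ((Matrix.reindexAlgEquiv F F (finSumFinEquiv.trans (finCongr (two_mul n).symm))).injective
        (congrArg Units.val h))
    have hgl := factorization_card_GL hq hrq (2 * n) (fun i hi h => by
      rw [Finset.mem_Icc] at hi
      refine hr i (by omega) hi.2 h (Or.inr ?_)
      exact (show 2 ∣ d from ⟨e, by rw [he, two_mul]⟩).trans h)
    obtain ⟨φ, hφ⟩ := exists_GL_hom hq hrq (a := 2 * n / d) (Nat.div_mul_le_self _ _)
    have hP : Nat.card ((P : Subgroup _).map ρ) = r ^ (Nat.card (GL (Fin (2 * n)) F)).factorization r := by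
      rw [Nat.card_congr ((P : Subgroup _).equivMapOfInjective ρ hρ).symm.toEquiv, P.card_eq_multiplicity,
        hsp, hgl]
    obtain ⟨eQ⟩ := sylow_equiv_of_hom φ hφ (by rw [card_model, hgl])
      (Sylow.ofCard _ hP)
    exact ⟨((P : Subgroup ↥(Matrix.symplecticGroup (Fin n) F)).equivMapOfInjective ρ hρ).trans
      ((MulEquiv.subgroupCongr (Sylow.coe_ofCard _ hP)).symm.trans eQ)⟩
  · have hc : ((Finset.Icc 1 n).filter (fun i => d ∣ 2 * i)).card = n / d := by
      rw [← filter_dvd_card]
      congr 1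
      exact Finset.filter_congr fun i _ =>
        ⟨(Nat.coprime_two_right.2 hodd).dvd_of_dvd_mul_left, fun h => h.mul_left 2⟩
    rw [hc] at hsp ⊢
    obtain ⟨φ, hφ⟩ := exists_GL_hom hq hrq (a := n / d) (Nat.div_mul_le_self n _)
    refine sylow_equiv_of_hom ((Cfsg.Agent.Lib.MinDegree.leviSp n F).comp φ) ?_ (by rw [card_model, hsp]) P
    intro x y h
    refine hφ (Units.ext ?_)
    have h' := congrArg (fun z : ↥(Matrix.symplecticGroup (Fin n) F) =>
      Matrix.toBlocks₁₁ (z : Matrix (Fin n ⊕ Fin n) (Fin n ⊕ Fin n) F)) h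
    simpa [Cfsg.Agent.Lib.MinDegree.leviSp] using h'

end Cfsg.Agent.S2381
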