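import Cfsg.Statements.S2388
import Cfsg.Agent.Lib.GLFlags.SemisimpleClasses
import Cfsg.Agent.S2569
-- import your own Cfsg.Agent.* helpers here

set_option autoImplicit false
open Cfsg

namespace Cfsg.Agent.S2388

open Cfsg.Agent.Lib.GLFlags.SemisimpleClasses

/-- In `SL_n(q)`, `q` a power of the prime `p`, two elements of order prime to `p` with the same characteristic polynomial are conjugate in `SL_n(q)` (not merely in `GL_n`). -/
theorem result {F : Type*} [Field F] [Fintype F] (p : ℕ) [Fact p.Prime] [CharP F p] (n : ℕ)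
    (g h : Matrix.SpecialLinearGroup (Fin n) F) (hg : (orderOf g).Coprime p) (hh : (orderOf h).Coprime p)
    (hc : (g : Matrix (Fin n) (Fin n) F).charpoly = (h : Matrix (Fin n) (Fin n) F).charpoly) : IsConj g h := by
  classical
  let ι : Matrix.SpecialLinearGroup (Fin n) F →* GL (Fin n) F := Matrix.SpecialLinearGroup.toGL
  have hinj : Function.Injective ι := Matrix.SpecialLinearGroup.toGL_injective
  have hg' : (orderOf (ι g)).Coprime p := by rwa [orderOf_injective ι hinj]
  have hh' : (orderOf (ι h)).Coprime p := by rwa [orderOf_injective ι hinj]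
  obtain ⟨c, hc'⟩ := isConj_iff.mp (isConj_of_charpoly (ι g) (ι h) hg' hh' hc)
  obtain ⟨d, hd, hd'⟩ := Cfsg.Agent.S2569.result (ι g) c hg'
  obtain ⟨d', rfl⟩ : ∃ d' : Matrix.SpecialLinearGroup (Fin n) F, ι d' = d :=
    ⟨⟨(d : Matrix (Fin n) (Fin n) F), hd⟩, Units.ext rfl⟩
  refine isConj_iff.mpr ⟨d', hinj ?_⟩
  rw [map_mul, map_mul, map_inv, hd', hc']

end Cfsg.Agent.S2388
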