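import Cfsg.Statements.S2384
import Cfsg.Agent.S2388
import Cfsg.Agent.Lib.GLFlags.CharpolyCount
-- import your own Cfsg.Agent.* helpers here

set_option autoImplicit false
open Cfsg

namespace Cfsg.Agent.S2384

open Cfsg.Agent.Lib.GLFlags.SemisimpleClasses Cfsg.Agent.Lib.GLFlags.CharpolyCount

/-- In `SL_n(q)`, `q` a power of the prime `p`, the number of conjugacy classes of elements of order prime to `p` (the semisimple classes) is `q^(n-1)`. -/
theorem result {F : Type*} [Field F] [Fintype F] {q : ℕ} (hq : Fintype.card F = q) (p : ℕ) [Fact p.Prime] [CharP F p] (n : ℕ) (hn : 1 ≤ n) :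
    Nat.card {c : ConjClasses (Matrix.SpecialLinearGroup (Fin n) F) //
      ∃ g : Matrix.SpecialLinearGroup (Fin n) F, ConjClasses.mk g = c ∧ (orderOf g).Coprime p} = q ^ (n - 1) := by
  classical
  let f : {c : ConjClasses (Matrix.SpecialLinearGroup (Fin n) F) //
      ∃ g : Matrix.SpecialLinearGroup (Fin n) F, ConjClasses.mk g = c ∧ (orderOf g).Coprime p} →
      {f : Polynomial F // (f.Monic ∧ f.natDegree = n) ∧ f.coeff 0 = (-1) ^ n} := fun c =>
    ⟨(c.2.choose : Matrix (Fin n) (Fin n) F).charpoly,
      ⟨Matrix.charpoly_monic _, by rw [Matrix.charpoly_natDegree_eq_dim, Fintype.card_fin]⟩, by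
        have h := Matrix.det_eq_sign_charpoly_coeff (c.2.choose : Matrix (Fin n) (Fin n) F)
        rw [c.2.choose.2, Fintype.card_fin] at h
        calc _ = (-1 : F) ^ n * ((-1) ^ n * (c.2.choose : Matrix (Fin n) (Fin n) F).charpoly.coeff 0) := by
              rw [← mul_assoc, ← pow_add, ← two_mul, pow_mul, neg_one_sq, one_pow, one_mul]
          _ = _ := by rw [← h, mul_one]⟩
  have hf : Function.Bijective f := by
    constructor
    · intro c d h
      refine Subtype.ext ?_
      rw [← c.2.choose_spec.1, ← d.2.choose_spec.1, ConjClasses.mk_eq_mk_iff_isConj]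
      exact Cfsg.Agent.S2388.result p n _ _ c.2.choose_spec.2 d.2.choose_spec.2 (congrArg Subtype.val h)
    · rintro ⟨P, ⟨hm, hd⟩, h0⟩
      have h0' : P.coeff 0 ≠ 0 := by rw [h0]; exact pow_ne_zero _ (neg_ne_zero.mpr one_ne_zero)
      obtain ⟨g, hg, hgP⟩ := exists_of_charpoly (p := p) hm hd h0'
      have hdet : (g : Matrix (Fin n) (Fin n) F).det = 1 := by
        rw [Matrix.det_eq_sign_charpoly_coeff, hgP, h0, Fintype.card_fin, ← mul_pow]
        simp
      let g' : Matrix.SpecialLinearGroup (Fin n) F := ⟨(g : Matrix (Fin n) (Fin n) F), hdet⟩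
      have hg' : (orderOf g').Coprime p := by
        rw [← orderOf_injective _ Matrix.SpecialLinearGroup.toGL_injective g',
          show Matrix.SpecialLinearGroup.toGL g' = g from Units.ext rfl]
        exact hg
      refine ⟨⟨ConjClasses.mk g', g', rfl, hg'⟩, Subtype.ext ?_⟩
      have key : ∀ x : Matrix.SpecialLinearGroup (Fin n) F, ConjClasses.mk x = ConjClasses.mk g' →
          (x : Matrix (Fin n) (Fin n) F).charpoly = P := by
        intro x hx
        obtain ⟨e, he⟩ := isConj_iff.mp (Matrix.SpecialLinearGroup.toGL.map_isConj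
          (ConjClasses.mk_eq_mk_iff_isConj.mp hx.symm))
        show ((Matrix.SpecialLinearGroup.toGL x : GL (Fin n) F) : Matrix (Fin n) (Fin n) F).charpoly = P
        rw [← he, show Matrix.SpecialLinearGroup.toGL g' = g from Units.ext rfl, ← hgP, Units.val_mul,
          Units.val_mul, Matrix.coe_units_inv, Matrix.charpoly_units_conj]
      exact key _ (Exists.choose_spec (p := fun x : Matrix.SpecialLinearGroup (Fin n) F =>
        ConjClasses.mk x = ConjClasses.mk g' ∧ (orderOf x).Coprime p) ⟨g', rfl, hg'⟩).1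
  rw [Nat.card_eq_of_bijective f hf, card_monic_coeff (fun c => c = (-1) ^ n) hn, Nat.card_eq_fintype_card,
    Nat.card_eq_fintype_card, Fintype.card_subtype_eq, one_mul, hq]

end Cfsg.Agent.S2384
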