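import Cfsg.Statements.S2390
import Cfsg.Agent.Lib.GLFlags.UnitaryDet
import Cfsg.Agent.Lib.GLFlags.SemisimpleClasses
import Cfsg.Agent.S2587
-- import your own Cfsg.Agent.* helpers here

set_option autoImplicit false
open Cfsg

namespace Cfsg.Agent.S2390

/-- In the special unitary group `SU_n(q)` (inside `SL_n` over the field with `q²` elements), `q` a power of the prime `p`, two elements of order prime to `p` with the same characteristic polynomial are conjugate in `SU_n(q)`. -/
theorem result {F : Type*} [Field F] [Fintype F] {q : ℕ} (hF : Fintype.card F = q ^ 2) (p : ℕ) [Fact p.Prime] [CharP F p] (n : ℕ)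
    (g h : ↥(Cfsg.SU n F q)) (hg : (orderOf g).Coprime p) (hh : (orderOf h).Coprime p)
    (hc : ((g : Matrix.SpecialLinearGroup (Fin n) F) : Matrix (Fin n) (Fin n) F).charpoly =
      ((h : Matrix.SpecialLinearGroup (Fin n) F) : Matrix (Fin n) (Fin n) F).charpoly) : IsConj g h := by
  classical
  rcases Nat.eq_zero_or_pos n with rfl | hn
  · have : g = h := Subtype.ext (Subtype.ext (Subsingleton.elim _ _))
    rw [this]
  let ι := Cfsg.Agent.Lib.Unitary.suToGU n F q
  have hg' : (orderOf (ι g).1).Coprime p := by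
    rwa [← Subgroup.subtype_apply, orderOf_injective _ Subtype.val_injective,
      orderOf_injective ι Cfsg.Agent.Lib.Unitary.suToGU_injective]
  have hh' : (orderOf (ι h).1).Coprime p := by
    rwa [← Subgroup.subtype_apply, orderOf_injective _ Subtype.val_injective,
      orderOf_injective ι Cfsg.Agent.Lib.Unitary.suToGU_injective]
  have hconj := Cfsg.Agent.Lib.GLFlags.SemisimpleClasses.isConj_of_charpoly (ι g).1 (ι h).1 hg' hh' hc
  obtain ⟨c, hc'⟩ := isConj_iff.mp ((Cfsg.Agent.S2587.result hF (ι g) (ι h)).mpr hconj)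
  have hdd : ∀ c : ↥(Cfsg.GU n F q), c.1.1.det * c.1.1.det ^ q = 1 := fun c => by
    have hm : (Matrix.GeneralLinearGroup.det c.1).1 = c.1.1.det := rfl
    have hdet := Cfsg.Agent.Lib.GLFlags.UnitaryDet.det_adjoint hF
      (Cfsg.Agent.Lib.Unitary.nondeg_top fun u hu => Cfsg.Agent.Lib.Unitary.herm_nondeg_left hF hu)
      ((Matrix.toLin' c.1.1).restrict (p := ⊤) (q := ⊤) fun _ _ => trivial)
      ((Matrix.toLin' (c⁻¹).1.1).restrict (p := ⊤) (q := ⊤) fun _ _ => trivial)
      (fun u v => by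
        show Cfsg.hermForm n F q (c.1.1.mulVec u.1) v.1 = Cfsg.hermForm n F q u.1 ((c⁻¹).1.1.mulVec v.1)
        conv_lhs => rw [← Cfsg.Agent.Lib.Unitary.GU_mulVec_inv v.1 c]
        exact c.2 _ _)
    have e : ∀ d : Matrix (Fin n) (Fin n) F,
        LinearMap.det ((Matrix.toLin' d).restrict (p := ⊤) (q := ⊤) fun _ _ => trivial) = d.det := fun d => by
      rw [← LinearMap.det_toLin' d, ← LinearMap.det_conj (Matrix.toLin' d) (Submodule.topEquiv (R := F)).symm]
      congr 1
    rw [e, e] at hdet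
    rw [← hdet, ← Matrix.det_mul, ← Units.val_mul, ← Subgroup.coe_mul, mul_inv_cancel]
    simp
  obtain ⟨z, hz, hzd⟩ := Cfsg.Agent.Lib.GLFlags.UnitaryDet.exists_unitary_centralising_det hF hn (ι g)
    (N := orderOf (ι g).1) (Cfsg.Agent.Lib.GLFlags.SemisimpleClasses.natCast_ne_zero_of_coprime hg')
    (Subtype.ext (by rw [SubmonoidClass.coe_pow, pow_orderOf_eq_one]; rfl)) (hdd c⁻¹)
  have hd : (c * z).1.1.det = 1 := by
    rw [Subgroup.coe_mul, Units.val_mul, Matrix.det_mul, hzd, ← Matrix.det_mul, ← Units.val_mul,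
      ← Subgroup.coe_mul, mul_inv_cancel]
    simp
  obtain ⟨d, hd'⟩ : ∃ d, ι d = c * z := ⟨⟨⟨(c * z).1.1, hd⟩, (c * z).2⟩, Subtype.ext (Units.ext rfl)⟩
  refine isConj_iff.mpr ⟨d, Cfsg.Agent.Lib.Unitary.suToGU_injective ?_⟩
  show ι (d * g * d⁻¹) = ι h
  rw [map_mul, map_mul, map_inv, hd', mul_inv_rev, mul_assoc c z, hz, ← hc']
  group

end Cfsg.Agent.S2390
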