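import Cfsg.Statements.S2386
import Cfsg.Agent.S2390
import Cfsg.Agent.Lib.GLFlags.CyclicForm
-- import your own Cfsg.Agent.* helpers here

set_option autoImplicit false
open Cfsg

namespace Cfsg.Agent.S2386

open Polynomial Matrix Cfsg.Agent.Lib.GLFlags Cfsg.Agent.Lib.Unitary

variable {F : Type*} [Field F] [Fintype F] {q : ℕ}

theorem mem_GU_of_st {n : ℕ} (hF : Fintype.card F = q ^ 2) (X : GL (Fin n) F)
    (h : ((X : Matrix (Fin n) (Fin n) F).map (conj hF))ᵀ * X = 1) : X ∈ Cfsg.GU n F q := by
  intro u v
  show Cfsg.hermForm n F q (X.1 *ᵥ u) (X.1 *ᵥ v) = Cfsg.hermForm n F q u v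
  have e1 : ∀ a b : Fin n → F, Cfsg.hermForm n F q a b = a ⬝ᵥ (conj hF ∘ b) := fun a b => rfl
  have e3 : (X : Matrix (Fin n) (Fin n) F)ᵀ * (X : Matrix (Fin n) (Fin n) F).map (conj hF) = 1 := by
    have h2 := congrArg Matrix.transpose h
    rwa [Matrix.transpose_mul, Matrix.transpose_one, Matrix.transpose_transpose] at h2
  rw [e1, e1, show conj hF ∘ (X.1 *ᵥ v) = (X.1.map (conj hF)) *ᵥ (conj hF ∘ v) from
    funext fun k => RingHom.map_mulVec (conj hF) _ _ k, ← Matrix.vecMul_transpose, ← Matrix.dotProduct_mulVec,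
    Matrix.mulVec_mulVec, e3, Matrix.one_mulVec]

theorem st_of_mem_GU {n : ℕ} (hF : Fintype.card F = q ^ 2) (A : ↥(Cfsg.GU n F q)) :
    ((A.1.1).map (conj hF))ᵀ * A.1.1 = 1 := by
  ext i j
  have h := GU_herm (Pi.single j 1) (Pi.single i 1) A
  rw [herm_std hF] at h
  rw [Matrix.mul_apply, Matrix.one_apply]
  simp only [Cfsg.hermForm, Matrix.mulVec_single_one, Matrix.col_apply] at h
  simp only [Matrix.transpose_apply, Matrix.map_apply, conj_apply]
  rw [show (∑ k, A.1.1 k i ^ q * A.1.1 k j) = ∑ k, A.1.1 k j * A.1.1 k i ^ q from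
    Finset.sum_congr rfl fun k _ => mul_comm _ _, h]
  exact if_congr eq_comm rfl rfl

/-- The fixed points of a twisted reversal. -/
theorem card_fixed_rev (hF : Fintype.card F = q ^ 2) (m : ℕ) {ε : F} (hε : ε * ε = 1) (hεq : ε ^ q = ε) :
    Nat.card {w : Fin m → F // ∀ j, w j ^ q = ε * w (Fin.rev j)} = q ^ m := by
  classical
  obtain ⟨θ, hθ⟩ : ∃ θ : F, θ ^ q ≠ θ := by
    by_contra hall
    push Not at hall
    have h := card_fixed hF
    rw [Nat.card_congr (Equiv.subtypeUnivEquiv hall), Nat.card_eq_fintype_card, hF] at h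
    have := one_lt_q hF
    nlinarith
  let τ : (Fin m → F) → (Fin m → F) := fun v j => ε * v (Fin.rev j) ^ q
  have hfix : ∀ w, (∀ j, w j ^ q = ε * w (Fin.rev j)) ↔ τ w = w := by
    intro w
    constructor
    · intro h
      funext j
      simp only [τ]
      rw [h, Fin.rev_rev, ← mul_assoc, hε, one_mul]
    · intro h j
      conv_rhs => rw [← h]
      simp only [τ, Fin.rev_rev]
      rw [← mul_assoc, hε, one_mul]
  have hττ : ∀ v, τ (τ v) = v := fun v => funext fun j => by
    simp only [τ, Fin.rev_rev, mul_pow, hεq, pow_q_q hF]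
    rw [← mul_assoc, hε, one_mul]
  let S := {w : Fin m → F // ∀ j, w j ^ q = ε * w (Fin.rev j)}
  have hd : θ - θ ^ q ≠ 0 := sub_ne_zero.2 (Ne.symm hθ)
  have hτlin : ∀ (a b : Fin m → F) (c : F), τ (fun j => a j + c * b j) = fun j => τ a j + c ^ q * τ b j := by
    intro a b c
    funext j
    simp only [τ, add_pow_q hF, mul_pow]
    ring
  let E : S × S → (Fin m → F) := fun ab j => ab.1.1 j + θ * ab.2.1 j
  have hE : Function.Bijective E := by
    constructor
    · rintro ⟨a, b⟩ ⟨a', b'⟩ h
      have h' := congrArg τ h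
      simp only [E, hτlin, (hfix _).1 a.2, (hfix _).1 b.2, (hfix _).1 a'.2, (hfix _).1 b'.2] at h'
      have hb : b.1 = b'.1 := funext fun j => by
        have e1 := congrFun h j
        have e2 := congrFun h' j
        simp only [E] at e1 e2
        refine mul_left_cancel₀ hd ?_
        linear_combination e1 - e2
      refine Prod.ext (Subtype.ext (funext fun j => ?_)) (Subtype.ext hb)
      have e1 := congrFun h j
      simp only [E, hb] at e1
      exact add_right_cancel e1
    · intro v
      let b : Fin m → F := fun j => (v j - τ v j) / (θ - θ ^ q)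
      have hb : τ b = b := by
        funext j
        have hj := congrFun (hττ v) j
        simp only [τ, b] at hj ⊢
        rw [div_pow, sub_pow_q hF, sub_pow_q hF, pow_q_q hF, ← mul_div_assoc, mul_sub,
          hj, ← neg_sub θ (θ ^ q), div_neg, ← neg_div, neg_sub]
      let a : Fin m → F := fun j => v j - θ * b j
      have ha : τ a = a := by
        have e : τ a = fun j => τ v j + (-θ) ^ q * τ b j := by
          rw [← hτlin]; congr 1; funext j; simp only [a]; ring
        rw [e, hb]
        funext j
        simp only [a, neg_pow_q hF]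
        have := div_mul_cancel₀ (v j - τ v j) hd
        simp only [b]
        linear_combination this
      exact ⟨(⟨a, (hfix _).2 ha⟩, ⟨b, (hfix _).2 hb⟩), funext fun j => by simp only [E, a]; ring⟩
  have h := Nat.card_eq_of_bijective E hE
  rw [Nat.card_prod, Nat.card_fun, Nat.card_fin, Nat.card_eq_fintype_card (α := F), hF, ← pow_mul,
    mul_comm 2, pow_mul, ← sq] at h
  exact Nat.pow_left_injective (by norm_num) h

/-- Self-dual monic polynomials of degree n with norm-one root product. -/
def SelfDual (F : Type*) [Field F] (q n : ℕ) : Type _ :=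
  {f : F[X] // (f.Monic ∧ f.natDegree = n) ∧ ∀ i ≤ n, f.coeff i ^ q = (-1) ^ n * f.coeff (n - i)}

theorem neg_one_pow_q (hF : Fintype.card F = q ^ 2) (n : ℕ) : ((-1 : F) ^ n) ^ q = (-1) ^ n := by
  rw [← pow_mul, mul_comm, pow_mul, neg_pow_q hF, one_pow]

theorem card_selfDual (hF : Fintype.card F = q ^ 2) {n : ℕ} (hn : 1 ≤ n) :
    Nat.card (SelfDual F q n) = q ^ (n - 1) := by
  classical
  obtain ⟨m, rfl⟩ : ∃ m, n = m + 1 := ⟨n - 1, by omega⟩
  let e : {f : F[X] // f.Monic ∧ f.natDegree = m + 1} ≃ F × (Fin m → F) :=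
    ((monicEquivDegreeLT (m + 1)).trans (degreeLTEquiv F (m + 1)).toEquiv).trans
      (Fin.consEquiv (fun _ => F)).symm
  have he : ∀ f, (e f).1 = f.1.coeff 0 := fun f => by
    show f.1.eraseLead.coeff ((0 : Fin (m + 1)) : ℕ) = _
    rw [Fin.val_zero, eraseLead_coeff_of_ne]
    rw [f.2.2]; omega
  have he' : ∀ f (j : Fin m), (e f).2 j = f.1.coeff ((j : ℕ) + 1) := fun f j => by
    show f.1.eraseLead.coeff ((j.succ : Fin (m + 1)) : ℕ) = _
    rw [Fin.val_succ, eraseLead_coeff_of_ne]
    rw [f.2.2]; omega
  set ε : F := (-1) ^ (m + 1) with hεd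
  have hε : ε * ε = 1 := by rw [← mul_pow, neg_one_mul, neg_neg, one_pow]
  let e' : SelfDual F q (m + 1) ≃
      {x : F × (Fin m → F) // x.1 = ε ∧ ∀ j, x.2 j ^ q = ε * x.2 (Fin.rev j)} :=
    (Equiv.subtypeSubtypeEquivSubtypeInter _
      (fun f : F[X] => ∀ i ≤ m + 1, f.coeff i ^ q = (-1) ^ (m + 1) * f.coeff (m + 1 - i))).symm.trans
      (e.subtypeEquiv fun f => by
        have hlead : f.1.coeff (m + 1) = 1 := by
          have := f.2.1.coeff_natDegree
          rwa [f.2.2] at this
        constructor
        · intro h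
          refine ⟨?_, fun j => ?_⟩
          · have h1 := h (m + 1) le_rfl
            rw [hlead, one_pow, Nat.sub_self] at h1
            calc (e f).1 = ε * (ε * f.1.coeff 0) := by rw [← mul_assoc, hε, one_mul, he]
              _ = ε := by rw [← h1, mul_one]
          · rw [he', he', h _ (by omega), Fin.val_rev]
            congr 2
            have := j.isLt
            omega
        · rintro ⟨h0, h⟩ i hi
          rw [he] at h0
          rcases eq_or_ne i 0 with rfl | hi0
          · rw [h0, Nat.sub_zero, hlead, mul_one]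
            exact neg_one_pow_q hF _
          rcases eq_or_ne i (m + 1) with rfl | him
          · rw [hlead, one_pow, Nat.sub_self, h0]
            exact hε.symm
          · have h1 := h ⟨i - 1, by omega⟩
            rw [he', he', Fin.val_rev] at h1
            simp only at h1
            rw [show i - 1 + 1 = i by omega, show m - i + 1 = m + 1 - i by omega] at h1
            exact h1)
  rw [Nat.card_congr e', Nat.add_sub_cancel, ← card_fixed_rev hF m hε (neg_one_pow_q hF _)]
  exact Nat.card_congr
    { toFun := fun x => ⟨x.1.2, x.2.2⟩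
      invFun := fun w => ⟨(ε, w.1), rfl, w.2⟩
      left_inv := fun x => Subtype.ext (Prod.ext x.2.1.symm rfl)
      right_inv := fun w => rfl }


/-- In the special unitary group `SU_n(q)` (matrices of determinant one over the field with `q²` elements preserving the standard Hermitian form), `q` a power of the prime `p`, the number of conjugacy classes of elements of order prime to `p` is `q^(n-1)`. -/
theorem result {F : Type*} [Field F] [Fintype F] {q : ℕ} (hF : Fintype.card F = q ^ 2) (p : ℕ) [Fact p.Prime] [CharP F p] (n : ℕ) (hn : 1 ≤ n) :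
    Nat.card {c : ConjClasses ↥(Cfsg.SU n F q) // ∃ g : ↥(Cfsg.SU n F q), ConjClasses.mk g = c ∧ (orderOf g).Coprime p} = q ^ (n - 1) := by
  classical
  have hσ : ∀ x, conj hF (conj hF x) = x := fun x => pow_q_q hF x
  obtain ⟨θ, hθ⟩ : ∃ θ : F, conj hF θ - θ ≠ 0 := by
    obtain ⟨c, hc, hc'⟩ := exists_trace_zero_ne_zero hF
    by_contra hall
    push Not at hall
    have h := card_fixed hF
    rw [Nat.card_congr (Equiv.subtypeUnivEquiv fun x : F => (sub_eq_zero.1 (hall x) : x ^ q = x)),
      Nat.card_eq_fintype_card, hF] at h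
    have := one_lt_q hF
    nlinarith
  let ι := suToGU n F q
  have hdual : ∀ g : ↥(Cfsg.SU n F q), ∀ i ≤ n, g.1.1.charpoly.coeff i ^ q =
      (-1) ^ n * g.1.1.charpoly.coeff (n - i) := by
    intro g i hi
    have hst := st_of_mem_GU hF (ι g)
    change (g.1.1.map (conj hF))ᵀ * g.1.1 = 1 at hst
    have h1 : g.1.1⁻¹ = (g.1.1.map (conj hF))ᵀ := Matrix.inv_eq_left_inv hst
    have h2 := Matrix.charpoly_inv g.1.1 ((Matrix.isUnit_iff_isUnit_det _).2 (by rw [g.1.2]; exact isUnit_one))
    rw [h1, Matrix.charpoly_transpose, Matrix.charpoly_map, g.1.2, Ring.inverse_one,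
      ← Matrix.reverse_charpoly, Fintype.card_fin, map_one, mul_one] at h2
    have hd : g.1.1.charpoly.natDegree = n := by rw [Matrix.charpoly_natDegree_eq_dim, Fintype.card_fin]
    have h3 := congrArg (fun P : F[X] => P.coeff i) h2
    simp only [Polynomial.coeff_map, conj_apply] at h3
    rw [h3, show ((-1 : F[X]) ^ n) = Polynomial.C ((-1 : F) ^ n) by simp, Polynomial.coeff_C_mul,
      Polynomial.coeff_reverse, hd, Polynomial.revAt_le hi]
  let X' := {c : ConjClasses ↥(Cfsg.SU n F q) // ∃ g : ↥(Cfsg.SU n F q), ConjClasses.mk g = c ∧ (orderOf g).Coprime p}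
  let Φ : X' → SelfDual F q n := fun c => ⟨c.2.choose.1.1.charpoly,
    ⟨Matrix.charpoly_monic _, by rw [Matrix.charpoly_natDegree_eq_dim, Fintype.card_fin]⟩, hdual _⟩
  have hΦ : Function.Bijective Φ := by
    constructor
    · intro c d h
      refine Subtype.ext ?_
      rw [← c.2.choose_spec.1, ← d.2.choose_spec.1, ConjClasses.mk_eq_mk_iff_isConj]
      exact Cfsg.Agent.S2390.result hF p n _ _ c.2.choose_spec.2 d.2.choose_spec.2 (congrArg Subtype.val h)
    · rintro ⟨f, ⟨hm, hd⟩, hsd⟩
      have hc0 : f.coeff 0 = (-1) ^ n := by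
        have h1 := hsd n le_rfl
        have hlead : f.coeff n = 1 := by rw [← hd]; exact hm.coeff_natDegree
        rw [hlead, one_pow, Nat.sub_self] at h1
        calc f.coeff 0 = (-1) ^ n * ((-1) ^ n * f.coeff 0) := by
              rw [← mul_assoc, ← mul_pow, neg_one_mul, neg_neg, one_pow, one_mul]
          _ = (-1) ^ n := by rw [← h1, mul_one]
      obtain ⟨H, C, hH, hHu, hHC, hC⟩ := CyclicForm.exists_hermitian_pair (conj hF) hσ hθ hm hd
        (by rw [hc0]; exact pow_ne_zero _ (neg_ne_zero.2 one_ne_zero)) hsd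
      -- factor the Hermitian matrix as `st b * b`
      let st : Matrix (Fin n) (Fin n) F → Matrix (Fin n) (Fin n) F := fun M => (M.map (conj hF))ᵀ
      have hst_mul : ∀ M M', st (M * M') = st M' * st M := fun M M' => by
        simp only [st]; rw [Matrix.map_mul, Matrix.transpose_mul]
      have hst_st : ∀ M, st (st M) = M := fun M => by
        ext i j; exact hσ (M i j)
      have hst_add : ∀ M M', st (M + M') = st M + st M' := fun M M' => by
        ext i j; exact map_add (conj hF) _ _
      have hst_one : st 1 = 1 := by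
        simp only [st]; rw [Matrix.map_one _ (map_zero _) (map_one _), Matrix.transpose_one]
      have hst_zero : st 0 = 0 := by ext i j; exact map_zero (conj hF)
      have hst_alg : ∀ c : F, st (algebraMap F _ c) = algebraMap F _ (conj hF c) := fun c => by
        ext i j
        by_cases hij : i = j
        · subst hij; simp [st, Matrix.algebraMap_eq_diagonal]
        · simp [st, Matrix.algebraMap_eq_diagonal, Matrix.diagonal_apply_ne _ hij,
            Matrix.diagonal_apply_ne _ (Ne.symm hij), zero_pow_q hF]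
      let L := Algebra.adjoin F ({H} : Set (Matrix (Fin n) (Fin n) F))
      letI : CommRing L := Algebra.adjoinCommRingOfComm F fun a ha b hb => by
        rw [Set.mem_singleton_iff.1 ha, Set.mem_singleton_iff.1 hb]
      have hstL : ∀ x : Matrix (Fin n) (Fin n) F, x ∈ L → st x ∈ L := by
        intro x hx
        induction hx using Algebra.adjoin_induction with
        | mem y hy => rw [Set.mem_singleton_iff.1 hy, show st H = H from hH]; exact Algebra.subset_adjoin rfl
        | algebraMap c => rw [hst_alg]; exact L.algebraMap_mem _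
        | add a b _ _ ha hb => rw [hst_add]; exact L.add_mem ha hb
        | mul a b _ _ ha hb => rw [hst_mul]; exact L.mul_mem hb ha
      let τ : L →+* L :=
        { toFun := fun x => ⟨st x.1, hstL x.1 x.2⟩
          map_one' := Subtype.ext hst_one
          map_mul' := fun x y => Subtype.ext (by
            show st (x.1 * y.1) = st x.1 * st y.1
            have h1 := congrArg Subtype.val (mul_comm x y)
            rw [show x.1 * y.1 = y.1 * x.1 from h1, hst_mul])
          map_zero' := Subtype.ext hst_zero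
          map_add' := fun x y => Subtype.ext (hst_add x.1 y.1) }
      haveI : Finite L := Subtype.finite
      obtain ⟨v, hv⟩ := hHu
      obtain ⟨b, hb, hbe⟩ := Cfsg.Agent.Lib.InvolutionNorm.exists_mul_eq τ (fun x => Subtype.ext (hst_st x.1))
        (θ := algebraMap F L θ) (h := ⟨H, Algebra.subset_adjoin rfl⟩) (by
          have e : τ (algebraMap F L θ) - algebraMap F L θ = algebraMap F L (conj hF θ - θ) := by
            rw [map_sub]
            congr 1
            exact Subtype.ext (hst_alg θ)
          rw [e]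
          exact (IsUnit.mk0 _ hθ).map (algebraMap F L)) (by
          have hL : ∀ k : ℕ, H ^ k ∈ L := fun k => L.pow_mem (Algebra.subset_adjoin rfl) k
          refine IsUnit.of_mul_eq_one (⟨H ^ (orderOf v - 1), hL _⟩ : L) (Subtype.ext ?_)
          show H * H ^ (orderOf v - 1) = 1
          rw [← pow_succ', Nat.sub_add_cancel (orderOf_pos v), ← hv, ← Units.val_pow_eq_pow_val,
            pow_orderOf_eq_one, Units.val_one]) (Subtype.ext hH)
      have hbe' : st b.1 * b.1 = H := by
        rw [mul_comm b (τ b)] at hbe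
        exact congrArg Subtype.val hbe
      obtain ⟨c, hc⟩ : ∃ c : GL (Fin n) F, (c : Matrix (Fin n) (Fin n) F) = b.1 := by
        obtain ⟨w, hw⟩ := hb.map L.val
        exact ⟨w, hw⟩
      have hCdet : C.det = 1 := by
        rw [Matrix.det_eq_sign_charpoly_coeff, hC, hc0, Fintype.card_fin, ← mul_pow, neg_one_mul, neg_neg, one_pow]
      let C' : GL (Fin n) F := Matrix.GeneralLinearGroup.mk'' C (by rw [hCdet]; exact isUnit_one)
      let a := c * C' * c⁻¹
      have haC : (a : Matrix (Fin n) (Fin n) F) = c.1 * C * (c⁻¹ : GL (Fin n) F).1 := rfl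
      have haU : a ∈ Cfsg.GU n F q := by
        refine mem_GU_of_st hF a ?_
        show st a.1 * a.1 = 1
        rw [haC, hst_mul, hst_mul]
        have e1 : st C * (st c.1 * c.1) * C = st c.1 * c.1 := by rw [hc, hbe']; exact hHC
        calc st (c⁻¹ : GL (Fin n) F).1 * (st C * st c.1) * (c.1 * C * (c⁻¹ : GL (Fin n) F).1)
            = st (c⁻¹ : GL (Fin n) F).1 * (st C * (st c.1 * c.1) * C) * (c⁻¹ : GL (Fin n) F).1 := by
              simp only [mul_assoc]
          _ = st (c.1 * (c⁻¹ : GL (Fin n) F).1) * (c.1 * (c⁻¹ : GL (Fin n) F).1) := by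
              rw [e1, hst_mul]; simp only [mul_assoc]
          _ = 1 := by rw [Units.mul_inv, hst_one, one_mul]
      have hadet : (a : Matrix (Fin n) (Fin n) F).det = 1 := by
        rw [haC, Matrix.coe_units_inv, Matrix.det_conj c.isUnit, hCdet]
      obtain ⟨m, hm', hmc⟩ := SemisimpleClasses.exists_pow_charpoly (p := p) a
      let g0 : ↥(Cfsg.SU n F q) := ⟨⟨a.1, hadet⟩, haU⟩
      have hg0 : (ι g0).1 = a := Units.ext rfl
      have hgm : (ι (g0 ^ m)).1 = a ^ m := by rw [map_pow, SubmonoidClass.coe_pow, hg0]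
      have hord : (orderOf (g0 ^ m)).Coprime p := by
        rwa [← orderOf_injective ι suToGU_injective, ← orderOf_injective (Cfsg.GU n F q).subtype
          Subtype.val_injective, Subgroup.subtype_apply, hgm]
      have hcp : (g0 ^ m).1.1.charpoly = f := by
        show ((ι (g0 ^ m)).1 : Matrix (Fin n) (Fin n) F).charpoly = f
        rw [hgm, hmc, haC, Matrix.coe_units_inv, Matrix.charpoly_units_conj, hC]
      refine ⟨⟨ConjClasses.mk (g0 ^ m), g0 ^ m, rfl, hord⟩, Subtype.ext ?_⟩
      have key : ∀ x : ↥(Cfsg.SU n F q), ConjClasses.mk x = ConjClasses.mk (g0 ^ m) → x.1.1.charpoly = f := by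
        intro x hx
        obtain ⟨d, hd'⟩ := isConj_iff.1 (ι.map_isConj (ConjClasses.mk_eq_mk_iff_isConj.1 hx.symm))
        show ((ι x).1 : Matrix (Fin n) (Fin n) F).charpoly = f
        rw [← hd', Subgroup.coe_mul, Subgroup.coe_mul, Units.val_mul, Units.val_mul, InvMemClass.coe_inv,
          Matrix.coe_units_inv, Matrix.charpoly_units_conj]
        exact hcp
      exact key _ (Exists.choose_spec (p := fun x : ↥(Cfsg.SU n F q) =>
        ConjClasses.mk x = ConjClasses.mk (g0 ^ m) ∧ (orderOf x).Coprime p) ⟨g0 ^ m, rfl, hord⟩).1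
  rw [Nat.card_eq_of_bijective Φ hΦ, card_selfDual hF hn]

end Cfsg.Agent.S2386
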