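import Cfsg.Statements.S2387
import Cfsg.Agent.Lib.GLFlags.SemisimpleClasses
import Cfsg.Agent.Lib.GLFlags.CharpolyCount
-- import your own Cfsg.Agent.* helpers here

set_option autoImplicit false
open scoped MatrixGroups
open Cfsg

namespace Cfsg.Agent.S2387

open Cfsg.Agent.Lib.GLFlags.SemisimpleClasses Cfsg.Agent.Lib.GLFlags.CharpolyCount

/-- In `GL_n(q)` with `n ≥ 1`, `q` a power of the prime `p`, the number of conjugacy classes of elements of order prime to `p` (diagonalisable over the algebraic closure; determined by the characteristic polynomial) is `(q - 1) q^(n-1)`. -/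
theorem result {F : Type*} [Field F] [Fintype F] {q : ℕ} (hq : Fintype.card F = q) (p : ℕ) [Fact p.Prime] [CharP F p] (n : ℕ) (hn : 1 ≤ n) :
    Nat.card {c : ConjClasses (GL (Fin n) F) // ∃ g : GL (Fin n) F, ConjClasses.mk g = c ∧ (orderOf g).Coprime p} = (q - 1) * q ^ (n - 1) := by
  classical
  let f : {c : ConjClasses (GL (Fin n) F) // ∃ g : GL (Fin n) F, ConjClasses.mk g = c ∧ (orderOf g).Coprime p} →
      {f : Polynomial F // (f.Monic ∧ f.natDegree = n) ∧ f.coeff 0 ≠ 0} := fun c =>
    ⟨(c.2.choose : Matrix (Fin n) (Fin n) F).charpoly,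
      ⟨Matrix.charpoly_monic _, by rw [Matrix.charpoly_natDegree_eq_dim, Fintype.card_fin]⟩, fun h0 => by
        have hu := (c.2.choose.isUnit.map (Matrix.detMonoidHom (n := Fin n) (R := F))).ne_zero
        apply hu
        show (c.2.choose : Matrix (Fin n) (Fin n) F).det = 0
        rw [Matrix.det_eq_sign_charpoly_coeff, h0, mul_zero]⟩
  have hf : Function.Bijective f := by
    constructor
    · intro c d h
      refine Subtype.ext ?_
      rw [← c.2.choose_spec.1, ← d.2.choose_spec.1, ConjClasses.mk_eq_mk_iff_isConj]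
      exact isConj_of_charpoly _ _ c.2.choose_spec.2 d.2.choose_spec.2 (congrArg Subtype.val h)
    · rintro ⟨P, ⟨hm, hd⟩, h0⟩
      obtain ⟨g, hg, hgP⟩ := exists_of_charpoly (p := p) hm hd h0
      refine ⟨⟨ConjClasses.mk g, g, rfl, hg⟩, Subtype.ext ?_⟩
      have key : ∀ x : GL (Fin n) F, ConjClasses.mk x = ConjClasses.mk g →
          (x : Matrix (Fin n) (Fin n) F).charpoly = P := by
        intro x hx
        obtain ⟨e, he⟩ := isConj_iff.mp (ConjClasses.mk_eq_mk_iff_isConj.mp hx.symm)
        rw [← he, ← hgP, Units.val_mul, Units.val_mul, Matrix.coe_units_inv, Matrix.charpoly_units_conj]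
      exact key _ (Exists.choose_spec (p := fun x : GL (Fin n) F =>
        ConjClasses.mk x = ConjClasses.mk g ∧ (orderOf x).Coprime p) ⟨g, rfl, hg⟩).1
  rw [Nat.card_eq_of_bijective f hf, card_monic_coeff (fun c => c ≠ 0) hn, Nat.card_eq_fintype_card,
    Nat.card_eq_fintype_card, Fintype.card_subtype_compl, Fintype.card_subtype_eq, hq]

end Cfsg.Agent.S2387
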