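import Cfsg.Statements.S2391
-- import your own Cfsg.Agent.* helpers here

set_option autoImplicit false
open Cfsg

namespace Cfsg.Agent.S2391

/-- The next term of the fixed-point series of a group of linear maps. -/
def nextFix {R V G : Type*} [Ring R] [AddCommGroup V] [Module R V] (U : Set G) (L : G → Module.End R V)
    (W : Submodule R V) : Submodule R V where
  carrier := {v | ∀ u ∈ U, L u v - v ∈ W}
  add_mem' {a b} ha hb u hu := by
    rw [map_add, add_sub_add_comm]
    exact W.add_mem (ha u hu) (hb u hu)
  zero_mem' u _ := by simp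
  smul_mem' c a ha u hu := by
    rw [map_smul, ← smul_sub]
    exact W.smul_mem c (ha u hu)

/-- The Borel–Tits property of `SL_n(q)` in flag form: for a field `F` of characteristic `p` with finitely many elements and a non-trivial `p`-subgroup `U` of `SL_n(F)`, there is a flag `0 = V₀ < V₁ < ⋯ < V_{k+1} = F^n` with at least one proper non-zero member such that every element of the normaliser of `U` maps each `V_i` onto itself and every element of `U` acts trivially on each quotient `V_{i+1}/V_i` (so the normaliser lies in the parabolic subgroup of the flag and `U` in its unipotent radical). -/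
theorem result {F : Type*} [Field F] [Fintype F] (p : ℕ) [Fact p.Prime] [CharP F p] (n : ℕ)
    (U : Subgroup (Matrix.SpecialLinearGroup (Fin n) F)) (hU : IsPGroup p ↥U) (hne : U ≠ ⊥) :
    ∃ (k : ℕ) (V : Fin (k + 2) → Submodule F (Fin n → F)), 1 ≤ k ∧ StrictMono V ∧ V 0 = ⊥ ∧ V (Fin.last (k + 1)) = ⊤ ∧
      (∀ g ∈ Subgroup.normalizer (U : Set (Matrix.SpecialLinearGroup (Fin n) F)), ∀ i, (V i).map (Matrix.mulVecLin (g : Matrix (Fin n) (Fin n) F)) = V i) ∧
      (∀ u ∈ U, ∀ i : Fin (k + 1), ∀ v ∈ V i.succ, (u : Matrix (Fin n) (Fin n) F).mulVec v - v ∈ V (Fin.castSucc i)) := by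
  classical
  let L : Matrix.SpecialLinearGroup (Fin n) F → Module.End F (Fin n → F) :=
    fun g => Matrix.mulVecLin (g : Matrix (Fin n) (Fin n) F)
  have hL : ∀ a b v, L (a * b) v = L a (L b v) := by
    intro a b v
    simp [L, Matrix.mulVec_mulVec]
  have hL1 : ∀ v, L 1 v = v := by intro v; simp [L]
  let Us : Set (Matrix.SpecialLinearGroup (Fin n) F) := U
  let W : ℕ → Submodule F (Fin n → F) := fun m => (nextFix Us L)^[m] ⊥
  have hW : ∀ m, W (m + 1) = nextFix Us L (W m) := fun m => Function.iterate_succ_apply' _ m _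
  have hmono : ∀ m, W m ≤ W (m + 1) := by
    intro m
    induction m with
    | zero => exact bot_le
    | succ m ih =>
      intro v hv
      rw [hW] at hv
      rw [hW (m + 1)]
      exact fun u hu => ih (hv u hu)
  have hmono' : Monotone W := monotone_nat_of_le_succ hmono
  have hinv : ∀ m, ∀ u ∈ U, ∀ v ∈ W m, L u v ∈ W m := by
    intro m u hu v hv
    have h := hmono m hv
    rw [hW] at h
    have := (W m).add_mem (h u hu) hv
    rwa [sub_add_cancel] at this
  have hgrow : ∀ m, W m ≠ ⊤ → W m < W (m + 1) := by
    intro m hm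
    refine lt_of_le_of_ne (hmono m) fun heq => ?_
    let act : MulAction U ((Fin n → F) ⧸ W m) :=
      { smul := fun u x => (W m).mapQ (W m) (L u.1) (fun v hv => hinv m u.1 u.2 v hv) x
        one_smul := fun x => by
          induction x using Submodule.Quotient.induction_on with | _ v => ?_
          change Submodule.Quotient.mk (L 1 v) = _
          rw [hL1]
        mul_smul := fun a b x => by
          induction x using Submodule.Quotient.induction_on with | _ v => ?_
          change Submodule.Quotient.mk (L (a.1 * b.1) v) = Submodule.Quotient.mk (L a.1 (L b.1 v))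
          rw [hL] }
    have hdvd : p ∣ Nat.card ((Fin n → F) ⧸ W m) := by
      have : Nontrivial ((Fin n → F) ⧸ W m) := Submodule.Quotient.nontrivial_iff.mpr hm
      rw [Module.natCard_eq_pow_finrank (K := F)]
      refine Dvd.dvd.trans ?_ (dvd_pow_self _ Module.finrank_pos.ne')
      obtain ⟨k, -, hk⟩ := FiniteField.card F p
      rw [Nat.card_eq_fintype_card, hk]
      exact dvd_pow_self p k.ne_zero
    obtain ⟨x, hx, hx0⟩ := hU.exists_fixed_point_of_prime_dvd_card_of_fixed_point _ hdvd
      (a := 0) (fun u => map_zero ((W m).mapQ (W m) (L u.1) (fun v hv => hinv m u.1 u.2 v hv)))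
    obtain ⟨v, rfl⟩ := Submodule.Quotient.mk_surjective _ x
    refine hx0 ((Submodule.Quotient.mk_eq_zero _).mpr ?_).symm
    rw [heq, hW]
    intro u hu
    exact (Submodule.Quotient.eq _).mp (hx ⟨u, hu⟩)
  have hex : ∃ N, W N = ⊤ := by
    by_contra h
    push Not at h
    have hs : StrictMono W := strictMono_nat_of_lt_succ fun m => hgrow m (h m)
    exact not_injective_infinite_finite W hs.injective
  have hN : W (Nat.find hex) = ⊤ := Nat.find_spec hex
  have hN0 : 2 ≤ Nat.find hex := by
    obtain ⟨⟨u, hu⟩, hu1⟩ := Subgroup.ne_bot_iff_exists_ne_one.mp hne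
    by_contra hlt
    have h1 : W 1 = ⊤ := top_le_iff.mp (hN ▸ hmono' (by omega))
    apply hu1
    apply Subtype.ext
    apply Subtype.ext
    refine Matrix.ext_of_mulVec_single fun j => ?_
    have h2 : Pi.single j 1 ∈ W 1 := h1 ▸ Submodule.mem_top
    rw [hW] at h2
    have h3 := h2 u hu
    simp only [L, W, Function.iterate_zero, id_eq, Submodule.mem_bot, sub_eq_zero,
      Matrix.mulVecLin_apply] at h3
    rw [Matrix.mulVec_single_one] at h3
    rw [Matrix.mulVec_single_one, Matrix.mulVec_single_one, h3]
    funext a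
    simp [Matrix.col, Matrix.one_apply, Pi.single_apply]
  obtain ⟨k, hk⟩ : ∃ k, Nat.find hex = k + 1 := ⟨Nat.find hex - 1, by omega⟩
  have hnorm : ∀ g ∈ Subgroup.normalizer (U : Set (Matrix.SpecialLinearGroup (Fin n) F)),
      ∀ m, ∀ v ∈ W m, L g v ∈ W m := by
    intro g hg m
    induction m with
    | zero => intro v hv; simp only [W, Function.iterate_zero, id_eq, Submodule.mem_bot] at hv ⊢; simp [hv]
    | succ m ih =>
      intro v hv
      rw [hW] at hv ⊢
      intro u hu
      have hc : g⁻¹ * u * g ∈ U := by
        have := (Subgroup.mem_normalizer_iff'.mp hg (g⁻¹ * u)).mpr (by rwa [mul_inv_cancel_left])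
        exact this
      have := ih _ (hv _ hc)
      rw [map_sub, ← hL] at this
      rw [← hL]
      rwa [show g * (g⁻¹ * u * g) = u * g by group] at this
  refine ⟨k, fun i => W i.val, by omega, ?_, rfl, ?_, ?_, ?_⟩
  · refine Fin.strictMono_iff_lt_succ.mpr fun i => ?_
    exact hgrow i.val (Nat.find_min hex (by omega))
  · change W (k + 1) = ⊤
    rw [← hk, hN]
  · intro g hg i
    refine le_antisymm (Submodule.map_le_iff_le_comap.mpr fun v hv => hnorm g hg i.val v hv) ?_
    intro v hv
    exact ⟨L g⁻¹ v, hnorm g⁻¹ (inv_mem hg) i.val v hv, by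
      change L g (L g⁻¹ v) = v; rw [← hL, mul_inv_cancel, hL1]⟩
  · intro u hu i v hv
    have h : v ∈ nextFix Us L (W i.val) := hW i.val ▸ hv
    exact h u hu

end Cfsg.Agent.S2391
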