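import Cfsg.Statements.S2392
import Cfsg.Agent.Lib.RepBounds.Orbit

set_option autoImplicit false
open scoped MatrixGroups
open Cfsg

namespace Cfsg.Agent.S2392

open Matrix in
/-- The first-row unipotent element. -/
def rowMat {F : Type*} [Field F] {m : ℕ} (v : Fin m → F) : Matrix (Fin (m + 1)) (Fin (m + 1)) F :=
  Matrix.of fun a b => (if a = b then 1 else 0) + (if a = 0 then (Fin.cons (0 : F) v : Fin (m + 1) → F) b else 0)

theorem rowMat_det {F : Type*} [Field F] {m : ℕ} (v : Fin m → F) : (rowMat v).det = 1 := by
  have h : (rowMat v).BlockTriangular id := by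
    intro a b hab
    simp only [id] at hab
    simp [rowMat, hab.ne', (lt_of_le_of_lt (Fin.zero_le b) hab).ne']
  rw [Matrix.det_of_isUpperTriangular h]
  refine Finset.prod_eq_one fun a _ => ?_
  rcases Fin.eq_zero_or_eq_succ a with rfl | ⟨b, rfl⟩ <;> simp [rowMat, Fin.succ_ne_zero]

theorem rowMat_mul {F : Type*} [Field F] {m : ℕ} (v w : Fin m → F) :
    rowMat v * rowMat w = rowMat (v + w) := by
  ext a b
  rcases Fin.eq_zero_or_eq_succ b with rfl | ⟨b', rfl⟩ <;>
    rcases Fin.eq_zero_or_eq_succ a with rfl | ⟨a', rfl⟩ <;>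
      simp [rowMat, Matrix.mul_apply, Fin.sum_univ_succ, Fin.succ_ne_zero, (Fin.succ_ne_zero _).symm,
        Finset.sum_add_distrib, add_comm]

/-- The homomorphism onto the first-row unipotent subgroup. -/
def rowHom (F : Type*) [Field F] (m : ℕ) :
    Multiplicative (Fin m → F) →* Matrix.SpecialLinearGroup (Fin (m + 1)) F :=
  MonoidHom.mk' (fun v => ⟨rowMat (Multiplicative.toAdd v), rowMat_det _⟩)
    (fun v w => Subtype.ext (rowMat_mul _ _).symm)

/-- A lower bound for representations in cross characteristic: for `n ≥ 3` and a field `F` with `q` elements, every homomorphism from `SL_n(F)` to `GL_d(K)`, `K` a field of characteristic different from that of `F`, whose kernel is central has `d ≥ q^(n-1) - 1`. -/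
theorem result {F : Type*} [Field F] [Fintype F] {q : ℕ} (hq : Fintype.card F = q) (n : ℕ) (hn : 3 ≤ n)
    {K : Type*} [Field K] (hK : ringChar K ≠ ringChar F) {d : ℕ}
    (ρ : Matrix.SpecialLinearGroup (Fin n) F →* GL (Fin d) K) (hker : ρ.ker ≤ Subgroup.center (Matrix.SpecialLinearGroup (Fin n) F)) :
    q ^ (n - 1) - 1 ≤ d := by
  classical
  obtain ⟨m, rfl⟩ : ∃ m, n = m + 1 := ⟨n - 1, by omega⟩
  simp only [Nat.add_sub_cancel]
  have hm : 2 ≤ m := by omega
  let j0 : Fin m := ⟨0, by omega⟩
  let A := rowHom F m
  have hA : ∀ v, (A (Multiplicative.ofAdd v) : Matrix (Fin (m + 1)) (Fin (m + 1)) F) = rowMat v :=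
    fun v => rfl
  have hne : ρ (A (Multiplicative.ofAdd (Pi.single j0 1))) ≠ 1 := by
    intro h
    have hc := Subgroup.mem_center_iff.mp (hker (MonoidHom.mem_ker.mpr h))
    have hd : (Matrix.transvection j0.succ (0 : Fin (m + 1)) (1 : F)).det = 1 :=
      Matrix.det_transvection_of_ne _ _ (Fin.succ_ne_zero _) _
    let T : Matrix.SpecialLinearGroup (Fin (m + 1)) F := ⟨_, hd⟩
    let N1 : Matrix (Fin (m + 1)) (Fin (m + 1)) F := Matrix.transvection j0.succ 0 1
    let N2 : Matrix (Fin (m + 1)) (Fin (m + 1)) F := rowMat (Pi.single j0 1)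
    have h1 : (N1 * N2) 0 0 = (N2 * N1) 0 0 := by
      simp only [N1, N2]
      rw [← hA]
      exact congrArg (fun g : Matrix.SpecialLinearGroup (Fin (m + 1)) F => g.1 0 0) (hc T)
    simp only [N1, N2] at h1
    rw [Matrix.mul_transvection_apply_same, Matrix.transvection_mul_apply_of_ne _ _ _ _
      (Fin.succ_ne_zero _).symm] at h1
    simp [rowMat, Fin.succ_ne_zero, (Fin.succ_ne_zero _).symm] at h1
  obtain ⟨S, hSd, ⟨a, ha, haj⟩, hS⟩ :=
    Cfsg.Agent.Lib.RepBounds.exists_forms hK ρ A j0 ⟨1, hne⟩
  have hmove : ∀ a ∈ S, ∀ (i k : Fin m) (c : F), i ≠ k →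
      Function.update a i (a i + c * a k) ∈ S := by
    intro a ha i k c hik
    have hik' : (i.succ : Fin (m + 1)) ≠ k.succ := fun h => hik (Fin.succ_injective _ h)
    let T : Matrix.SpecialLinearGroup (Fin (m + 1)) F :=
      ⟨Matrix.transvection i.succ k.succ (-c), Matrix.det_transvection_of_ne _ _ hik' _⟩
    refine hS T
      (fun v => Function.update v k (v k + c * v i)) ?_ a ha _ ?_
    · intro v
      refine mul_inv_eq_iff_eq_mul.mpr (Subtype.ext ?_)
      rw [Matrix.SpecialLinearGroup.coe_mul, Matrix.SpecialLinearGroup.coe_mul]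
      rw [hA, hA, show T.1 = Matrix.transvection i.succ k.succ (-c) from rfl]
      ext r s
      by_cases hr : r = i.succ <;> by_cases hs : s = k.succ
      · subst hr hs
        simp [rowMat, Fin.succ_ne_zero, hik', hik]
      · subst hr
        rw [Matrix.transvection_mul_apply_same, Matrix.mul_transvection_apply_of_ne _ _ _ _ hs]
        simp [rowMat, Fin.succ_ne_zero, Ne.symm hs]
      · subst hs
        rw [Matrix.transvection_mul_apply_of_ne _ _ _ _ hr, Matrix.mul_transvection_apply_same]
        rcases Fin.eq_zero_or_eq_succ r with rfl | ⟨r', rfl⟩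
        · simp [rowMat, (Fin.succ_ne_zero _).symm, hik]
        · simp [rowMat, Fin.succ_ne_zero, hr, hik']
      · rw [Matrix.transvection_mul_apply_of_ne _ _ _ _ hr,
          Matrix.mul_transvection_apply_of_ne _ _ _ _ hs]
        rcases Fin.eq_zero_or_eq_succ r with rfl | ⟨r', rfl⟩
        · rcases Fin.eq_zero_or_eq_succ s with rfl | ⟨s', rfl⟩
          · simp [rowMat, hs]
          · have : s' ≠ k := fun h => hs (h ▸ rfl)
            simp [rowMat, this]
        · simp [rowMat, Fin.succ_ne_zero]
    · intro v
      have h1 : ∀ x, Function.update a i (a i + c * a k) x * v x =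
          a x * v x + if x = i then c * a k * v i else 0 := by
        intro x; by_cases hx : x = i
        · subst hx; simp; ring
        · simp [hx]
      have h2 : ∀ x, a x * Function.update v k (v k + c * v i) x =
          a x * v x + if x = k then c * a k * v i else 0 := by
        intro x; by_cases hx : x = k
        · subst hx; simp; ring
        · simp [hx]
      simp [h1, h2, Finset.sum_add_distrib]
  have hset : ∀ a ∈ S, ∀ (i k : Fin m), i ≠ k → a k ≠ 0 → ∀ y, Function.update a i y ∈ S := by
    intro a ha i k hik hk y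
    have := hmove a ha i k ((y - a i) / a k) hik
    rwa [div_mul_cancel₀ _ hk, add_sub_cancel] at this
  have hclear : ∀ (s : Finset (Fin m)) (a b : Fin m → F) (k : Fin m), a ∈ S → a k ≠ 0 → k ∉ s →
      (fun x => if x ∈ s then b x else a x) ∈ S := by
    intro s
    induction s using Finset.induction_on with
    | empty => intro a b k ha _ _; simpa using ha
    | insert e s he ih =>
      intro a b k ha hk hks
      simp only [Finset.mem_insert, not_or] at hks
      have h1 := hset _ (ih a b k ha hk hks.2) e k (Ne.symm hks.1) (by simp [hks.2, hk]) (b e)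
      convert h1 using 1
      funext x
      by_cases hx : x = e
      · subst hx; simp
      · simp [hx]
  have hall : ∀ b : Fin m → F, b ≠ 0 → b ∈ S := by
    intro b hb
    obtain ⟨k, hk⟩ := Function.ne_iff.mp hb
    have hk' : b k ≠ 0 := hk
    by_cases hkj : k = j0
    · subst hkj
      have h1 : Function.update a ⟨1, by omega⟩ 1 ∈ S := hset a ha _ _ (by simp [j0]) haj _
      have h2 : Function.update (Function.update a ⟨1, by omega⟩ 1) j0 (b j0) ∈ S :=
        hset _ h1 j0 ⟨1, by omega⟩ (by simp [j0]) (by simp) _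
      have h3 := hclear (Finset.univ.erase j0) _ b j0 h2 (by simpa using hk') (by simp)
      convert h3 using 1
      funext x
      by_cases hx : x = j0
      · subst hx; simp
      · simp [hx]
    · have h1 : Function.update a k (b k) ∈ S := hset a ha k j0 hkj haj _
      have h3 := hclear (Finset.univ.erase k) _ b k h1 (by simpa using hk') (by simp)
      convert h3 using 1
      funext x
      by_cases hx : x = k
      · subst hx; simp
      · simp [hx]
  calc q ^ m - 1 = ((Finset.univ : Finset (Fin m → F)).erase 0).card := by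
        rw [Finset.card_erase_of_mem (Finset.mem_univ _), Finset.card_univ]
        simp [hq]
    _ ≤ S.card := Finset.card_le_card fun b hb => hall b (Finset.ne_of_mem_erase hb)
    _ ≤ d := hSd

end Cfsg.Agent.S2392
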