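import Cfsg.Statements.S2393
import Cfsg.Agent.Lib.RepBounds.Orbit

set_option autoImplicit false
open scoped MatrixGroups
open Cfsg

namespace Cfsg.Agent.S2393

/-- A symmetric matrix supported in the first row and column. -/
def crossMat {F : Type*} [Field F] {n : ℕ} [NeZero n] (v : Fin n → F) : Matrix (Fin n) (Fin n) F :=
  Matrix.of fun a b => if a = 0 then v b else if b = 0 then v a else 0

theorem cross_mem {F : Type*} [Field F] {n : ℕ} [NeZero n] (v : Fin n → F) :
    Matrix.fromBlocks 1 (crossMat v) 0 1 ∈ Matrix.symplecticGroup (Fin n) F := by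
  have ht : (crossMat v).transpose = crossMat v := by
    ext a b
    by_cases ha : a = 0 <;> by_cases hb : b = 0 <;> simp [crossMat, ha, hb]
  rw [SymplecticGroup.mem_iff, Matrix.J, Matrix.fromBlocks_transpose, Matrix.fromBlocks_multiply,
    Matrix.fromBlocks_multiply]
  simp [ht]

/-- The abelian subgroup of long and short root elements at the first coordinate. -/
def crossHom (F : Type*) [Field F] (n : ℕ) [NeZero n] :
    Multiplicative (Fin n → F) →* ↥(Matrix.symplecticGroup (Fin n) F) :=
  MonoidHom.mk' (fun v => ⟨_, cross_mem (Multiplicative.toAdd v)⟩) (fun v w => by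
    apply Subtype.ext
    change Matrix.fromBlocks _ _ _ _ = Matrix.fromBlocks _ _ _ _ * Matrix.fromBlocks _ _ _ _
    rw [Matrix.fromBlocks_multiply]
    simp only [Matrix.one_mul, Matrix.mul_one, Matrix.mul_zero, Matrix.zero_mul, add_zero, zero_add]
    congr 1
    ext a b
    simp only [crossMat, Matrix.of_apply, Matrix.add_apply, toAdd_mul, Pi.add_apply]
    split_ifs <;> simp [add_comm])

theorem levi_mem {F : Type*} [Field F] {n : ℕ} (g g' : Matrix (Fin n) (Fin n) F) (h : g * g' = 1) :
    Matrix.fromBlocks g 0 0 g'.transpose ∈ Matrix.symplecticGroup (Fin n) F := by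
  rw [SymplecticGroup.mem_iff, Matrix.J, Matrix.fromBlocks_transpose, Matrix.fromBlocks_multiply,
    Matrix.fromBlocks_multiply]
  simp only [Matrix.transpose_transpose, Matrix.transpose_zero, Matrix.mul_zero, Matrix.zero_mul,
    add_zero, zero_add, Matrix.mul_one, Matrix.mul_neg, Matrix.neg_mul, Matrix.fromBlocks_inj,
    neg_zero]
  refine ⟨trivial, ?_, ?_, trivial⟩
  · rw [h]
  · rw [← Matrix.transpose_mul, h, Matrix.transpose_one]

theorem levi_conj {F : Type*} [Field F] {n : ℕ} (g g' S S' : Matrix (Fin n) (Fin n) F)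
    (h : g * S = S' * g'.transpose) :
    Matrix.fromBlocks g 0 0 g'.transpose * Matrix.fromBlocks 1 S 0 1 =
      Matrix.fromBlocks 1 S' 0 1 * Matrix.fromBlocks g 0 0 g'.transpose := by
  simp [Matrix.fromBlocks_multiply, h]

/-- A lower bound for representations in cross characteristic: for `n ≥ 2` and a field `F` with `q` elements, `q` odd, every homomorphism from the symplectic group `Sp_{2n}(F)` to `GL_d(K)`, `K` a field of characteristic different from that of `F`, whose kernel is central has `d ≥ q^(n-1)(q-1)/2`. -/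
theorem result {F : Type*} [Field F] [Fintype F] {q : ℕ} (hq : Fintype.card F = q) (hodd : Odd q) (n : ℕ) (hn : 2 ≤ n)
    {K : Type*} [Field K] (hK : ringChar K ≠ ringChar F) {d : ℕ}
    (ρ : ↥(Matrix.symplecticGroup (Fin n) F) →* GL (Fin d) K) (hker : ρ.ker ≤ Subgroup.center ↥(Matrix.symplecticGroup (Fin n) F)) :
    q ^ (n - 1) * (q - 1) / 2 ≤ d := by
  classical
  obtain ⟨m, rfl⟩ : ∃ m, n = m + 1 := ⟨n - 1, by omega⟩
  simp only [Nat.add_sub_cancel]
  have h2 : (2 : F) ≠ 0 := Ring.two_ne_zero (by
    intro h
    rw [← hq, ← Nat.not_even_iff_odd] at hodd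
    exact hodd (by
      rw [Nat.even_iff]
      exact FiniteField.even_card_iff_char_two.mp h))
  let A := crossHom F (m + 1)
  have hA : ∀ v, (A (Multiplicative.ofAdd v) : Matrix (Fin (m + 1) ⊕ Fin (m + 1)) (Fin (m + 1) ⊕ Fin (m + 1)) F) =
      Matrix.fromBlocks 1 (crossMat v) 0 1 :=
    fun v => rfl
  have hne : ρ (A (Multiplicative.ofAdd (Pi.single 0 1))) ≠ 1 := by
    intro h
    have hc := Subgroup.mem_center_iff.mp (hker (MonoidHom.mem_ker.mpr h))
    have hJ : Matrix.J (Fin (m + 1)) F ∈ Matrix.symplecticGroup (Fin (m + 1)) F :=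
      SymplecticGroup.J_mem _ _
    have h1 := congrArg Subtype.val (hc ⟨_, hJ⟩)
    simp only [Submonoid.coe_mul] at h1
    rw [hA, Matrix.J, Matrix.fromBlocks_multiply, Matrix.fromBlocks_multiply,
      Matrix.fromBlocks_inj] at h1
    have h11 := congrFun (congrFun h1.1 0) 0
    simp [crossMat] at h11
  obtain ⟨S, hSd, ⟨a, ha, haj⟩, hS⟩ :=
    Cfsg.Agent.Lib.RepBounds.exists_forms hK ρ A (0 : Fin (m + 1)) ⟨1, hne⟩
  have hscale : ∀ a ∈ S, ∀ l : F, l ≠ 0 → (fun x => if x = 0 then l ^ 2 * a 0 else l * a x) ∈ S := by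
    intro a ha l hl
    let g : Matrix (Fin (m + 1)) (Fin (m + 1)) F := Matrix.diagonal fun x => if x = 0 then l else 1
    let g' : Matrix (Fin (m + 1)) (Fin (m + 1)) F := Matrix.diagonal fun x => if x = 0 then l⁻¹ else 1
    have hgg : g * g' = 1 := by
      rw [Matrix.diagonal_mul_diagonal, ← Matrix.diagonal_one]
      refine congrArg Matrix.diagonal (funext fun x => ?_)
      by_cases hx : x = 0 <;> simp [hx, hl]
    refine hS ⟨_, levi_mem g g' hgg⟩ (fun v x => if x = 0 then l ^ 2 * v 0 else l * v x) ?_ a ha _ ?_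
    · intro v
      rw [mul_inv_eq_iff_eq_mul]
      apply Subtype.ext
      simp only [Submonoid.coe_mul]
      rw [hA, hA]
      refine levi_conj _ _ _ _ ?_
      ext r s
      simp only [g, g', Matrix.diagonal_transpose, Matrix.diagonal_mul, Matrix.mul_diagonal,
        crossMat, Matrix.of_apply]
      by_cases hr : r = 0 <;> by_cases hs : s = 0 <;> simp [hr, hs] <;> field_simp
    · intro v
      refine Finset.sum_congr rfl fun x _ => ?_
      by_cases hx : x = 0
      · subst hx; simp; ring
      · simp [hx]; ring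
  have hmove : ∀ a ∈ S, ∀ i : Fin (m + 1), i ≠ 0 → ∀ c : F,
      Function.update a i (a i + 2 * c * a 0) ∈ S := by
    intro a ha i hi c
    let g : Matrix (Fin (m + 1)) (Fin (m + 1)) F := Matrix.transvection 0 i c
    let g' : Matrix (Fin (m + 1)) (Fin (m + 1)) F := Matrix.transvection 0 i (-c)
    have hgg : g * g' = 1 := by
      rw [Matrix.transvection_mul_transvection_same _ _ (Ne.symm hi), add_neg_cancel,
        Matrix.transvection_zero]
    have ht : g'.transpose = Matrix.transvection i 0 (-c) := by
      simp [g', Matrix.transvection, Matrix.transpose_add, Matrix.transpose_single]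
    refine hS ⟨_, levi_mem g g' hgg⟩ (fun v => Function.update v 0 (v 0 + 2 * c * v i)) ?_ a ha _ ?_
    · intro v
      rw [mul_inv_eq_iff_eq_mul]
      apply Subtype.ext
      simp only [Submonoid.coe_mul]
      rw [hA, hA]
      refine levi_conj _ _ _ _ ?_
      rw [ht]
      ext r s
      by_cases hr : r = 0 <;> by_cases hs : s = 0
      · subst hr hs
        simp [g, crossMat, hi]
        ring
      · subst hr
        rw [Matrix.transvection_mul_apply_same, Matrix.mul_transvection_apply_of_ne _ _ _ _ hs]
        simp [crossMat, hi, hs]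
      · subst hs
        rw [Matrix.transvection_mul_apply_of_ne _ _ _ _ hr, Matrix.mul_transvection_apply_same]
        simp [crossMat, hr, hi]
      · rw [Matrix.transvection_mul_apply_of_ne _ _ _ _ hr,
          Matrix.mul_transvection_apply_of_ne _ _ _ _ hs]
        simp [crossMat, hr, hs]
    · intro v
      have h1 : ∀ x, Function.update a i (a i + 2 * c * a 0) x * v x =
          a x * v x + if x = i then 2 * c * a 0 * v i else 0 := by
        intro x; by_cases hx : x = i
        · subst hx; simp; ring
        · simp [hx]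
      have h3 : ∀ x, a x * Function.update v 0 (v 0 + 2 * c * v i) x =
          a x * v x + if x = 0 then 2 * c * a 0 * v i else 0 := by
        intro x; by_cases hx : x = 0
        · subst hx; simp; ring
        · simp [hx]
      simp [h1, h3, Finset.sum_add_distrib]
  have hall : ∀ b : Fin (m + 1) → F, IsSquare (b 0 / a 0) → b 0 ≠ 0 → b ∈ S := by
    intro b hsq hb0
    obtain ⟨l, hl⟩ := hsq
    have hl0 : l ≠ 0 := by
      rintro rfl
      exact hb0 (by simpa [haj] using hl)
    have h0 := hscale a ha l hl0
    suffices H : ∀ s : Finset (Fin (m + 1)), 0 ∉ s →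
        (fun x => if x ∈ s then b x else if x = 0 then l ^ 2 * a 0 else l * a x) ∈ S by
      have h := H (Finset.univ.erase 0) (by simp)
      convert h using 1
      funext x
      by_cases hx : x = 0
      · subst hx; simp [sq, ← hl, haj]
      · simp [hx]
    intro s
    induction s using Finset.induction_on with
    | empty => intro _; simpa using h0
    | insert e s he ih =>
      intro h
      simp only [Finset.mem_insert, not_or] at h
      have h1 := hmove _ (ih h.2) e (Ne.symm h.1) ((b e - l * a e) / (2 * (l ^ 2 * a 0)))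
      convert h1 using 1
      funext x
      by_cases hx : x = e
      · subst hx
        simp [he, h.2, Ne.symm h.1]
        field_simp
        ring
      · simp [hx]
  have hinj : Function.Injective (fun p : {y : F // IsSquare (y / a 0) ∧ y ≠ 0} × (Fin m → F) =>
      (Fin.cons p.1.1 p.2 : Fin (m + 1) → F)) := by
    rintro ⟨⟨y, hy⟩, f⟩ ⟨⟨y', hy'⟩, f'⟩ h
    obtain ⟨h1, h2⟩ := Fin.cons_inj.mp h
    subst h1 h2
    rfl
  have hcard : (q - 1) / 2 ≤ Fintype.card {y : F // IsSquare (y / a 0) ∧ y ≠ 0} := by
    let f : {x : F // x ≠ 0} → {y : F // IsSquare (y / a 0) ∧ y ≠ 0} := fun x =>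
      ⟨x.1 ^ 2 * a 0, ⟨x.1, by field_simp⟩, mul_ne_zero (pow_ne_zero _ x.2) haj⟩
    have hle : (Finset.univ : Finset {x : F // x ≠ 0}).card ≤
        2 * (Finset.univ : Finset {y : F // IsSquare (y / a 0) ∧ y ≠ 0}).card := by
      refine Finset.card_le_mul_card_image_of_maps_to (f := f) (fun _ _ => Finset.mem_univ _) 2 ?_
      intro y _
      by_cases hex : ∃ x, f x = y
      · obtain ⟨x, rfl⟩ := hex
        refine le_trans (Finset.card_le_card (t := {x, ⟨-x.1, neg_ne_zero.mpr x.2⟩}) ?_)
          Finset.card_le_two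
        intro z hz
        simp only [Finset.mem_filter, Finset.mem_univ, true_and, f, Subtype.mk.injEq,
          mul_left_inj' haj] at hz
        rcases sq_eq_sq_iff_eq_or_eq_neg.mp hz with h | h
        · exact Finset.mem_insert.mpr (Or.inl (Subtype.ext h))
        · exact Finset.mem_insert.mpr (Or.inr (Finset.mem_singleton.mpr (Subtype.ext h)))
      · rw [Finset.filter_false_of_mem (fun x _ hx => hex ⟨x, hx⟩)]; simp
    rw [Finset.card_univ, Finset.card_univ, Fintype.card_subtype_compl, Fintype.card_subtype_eq,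
      hq] at hle
    omega
  obtain ⟨k, hk⟩ : ∃ k, q - 1 = 2 * k := ⟨(q - 1) / 2, by obtain ⟨t, ht⟩ := hodd; omega⟩
  calc q ^ m * (q - 1) / 2 = q ^ m * ((q - 1) / 2) := by
        rw [hk, Nat.mul_div_cancel_left _ (by norm_num), mul_left_comm, Nat.mul_div_cancel_left _ (by norm_num)]
    _ ≤ Fintype.card ({y : F // IsSquare (y / a 0) ∧ y ≠ 0} × (Fin m → F)) := by
        rw [Fintype.card_prod, Fintype.card_fun, Fintype.card_fin, hq, mul_comm]
        exact Nat.mul_le_mul_right _ hcard
    _ = (Finset.univ.image fun p : {y : F // IsSquare (y / a 0) ∧ y ≠ 0} × (Fin m → F) =>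
          (Fin.cons p.1.1 p.2 : Fin (m + 1) → F)).card := by
        rw [Finset.card_image_of_injective _ hinj, Finset.card_univ]
    _ ≤ S.card := Finset.card_le_card fun b hb => by
        obtain ⟨p, -, rfl⟩ := Finset.mem_image.mp hb
        exact hall _ (by simpa using p.1.2.1) (by simpa using p.1.2.2)
    _ ≤ d := hSd

end Cfsg.Agent.S2393
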