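import Cfsg.Statements.S2394
import Cfsg.Agent.Lib.RepBounds.Flip

set_option autoImplicit false
open scoped MatrixGroups
open Cfsg

namespace Cfsg.Agent.S2394

theorem diag_mem {F : Type*} [Field F] {n : ℕ} (g : Fin n → Matrix.SpecialLinearGroup (Fin 2) F) :
    Matrix.fromBlocks (Matrix.diagonal fun i => g i 0 0) (Matrix.diagonal fun i => g i 0 1)
      (Matrix.diagonal fun i => g i 1 0) (Matrix.diagonal fun i => g i 1 1) ∈
      Matrix.symplecticGroup (Fin n) F := by
  have h : ∀ i, g i 0 0 * g i 1 1 - g i 0 1 * g i 1 0 = 1 := fun i => by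
    rw [← Matrix.det_fin_two]; exact (g i).2
  rw [SymplecticGroup.mem_iff, Matrix.J, Matrix.fromBlocks_transpose, Matrix.fromBlocks_multiply,
    Matrix.fromBlocks_multiply]
  simp only [Matrix.mul_zero, Matrix.mul_one, Matrix.mul_neg, Matrix.diagonal_transpose, zero_add,
    add_zero, Matrix.neg_mul, Matrix.diagonal_mul_diagonal, Matrix.diagonal_add,
    Matrix.diagonal_neg]
  rw [← Matrix.diagonal_zero, ← Matrix.diagonal_one, Matrix.diagonal_neg]
  simp only [Matrix.fromBlocks_inj, Matrix.diagonal_eq_diagonal_iff]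
  refine ⟨fun i => ?_, fun i => ?_, fun i => ?_, fun i => ?_⟩
  · ring
  · linear_combination -(h i)
  · linear_combination h i
  · ring

/-- The diagonal embedding of `n` copies of SL₂ into Sp_{2n}. -/
def diagEmb (F : Type*) [Field F] (n : ℕ) :
    (Fin n → Matrix.SpecialLinearGroup (Fin 2) F) →* ↥(Matrix.symplecticGroup (Fin n) F) where
  toFun g := ⟨_, diag_mem g⟩
  map_one' := by
    apply Subtype.ext
    change Matrix.fromBlocks _ _ _ _ = 1
    simp [← Matrix.fromBlocks_one]
  map_mul' g h := by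
    apply Subtype.ext
    change Matrix.fromBlocks _ _ _ _ = Matrix.fromBlocks _ _ _ _ * Matrix.fromBlocks _ _ _ _
    simp [Matrix.fromBlocks_multiply, Matrix.mul_apply, Fin.sum_univ_two]

theorem diagEmb_injective (F : Type*) [Field F] (n : ℕ) : Function.Injective (diagEmb F n) := by
  intro g h e
  have e' := congrArg Subtype.val e
  change Matrix.fromBlocks _ _ _ _ = Matrix.fromBlocks _ _ _ _ at e'
  simp only [Matrix.fromBlocks_inj, Matrix.diagonal_eq_diagonal_iff] at e'
  refine funext fun i => Subtype.ext (Matrix.ext fun a b => ?_)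
  fin_cases a <;> fin_cases b
  · exact e'.1 i
  · exact e'.2.1 i
  · exact e'.2.2.1 i
  · exact e'.2.2.2 i

/-- An element of SL₂ from a matrix of determinant one. -/
def mkSL {F : Type*} [Field F] (M : Matrix (Fin 2) (Fin 2) F) (h : M.det = 1) :
    Matrix.SpecialLinearGroup (Fin 2) F := ⟨M, h⟩

@[simp] theorem coe_mkSL {F : Type*} [Field F] (M : Matrix (Fin 2) (Fin 2) F) (h : M.det = 1) :
    (mkSL M h : Matrix (Fin 2) (Fin 2) F) = M := rfl

theorem exists_inverted {F : Type*} [Field F] [Fintype F] :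
    ∃ (s w : Matrix.SpecialLinearGroup (Fin 2) F) (N m : ℕ), (N : F) ≠ 0 ∧ s ^ N = 1 ∧
      s ^ m ≠ 1 ∧ w * s * w⁻¹ = s⁻¹ ∧
      ∀ (K : Type _) [Field K], ∀ c : K, c ^ N = 1 → c ^ m ≠ 1 → c ≠ c⁻¹ := by
  obtain ⟨p, hp⟩ := CharP.exists F
  have hpp : Fact p.Prime := ⟨CharP.char_is_prime F p⟩
  by_cases hp2 : p = 2
  · subst hp2
    have h2 : (2 : F) = 0 := CharTwo.two_eq_zero
    refine ⟨mkSL !![0, 1; 1, 1] (by simp [Matrix.det_fin_two_of, CharTwo.neg_eq]),
      mkSL !![0, 1; 1, 0] (by simp [Matrix.det_fin_two_of, CharTwo.neg_eq]), 3, 1, ?_, ?_, ?_, ?_, ?_⟩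
    · rw [Ne, show ((3 : ℕ) : F) = 2 + 1 by norm_num, h2, zero_add]; exact one_ne_zero
    · apply Subtype.ext
      rw [Matrix.SpecialLinearGroup.coe_pow]
      ext a b
      fin_cases a <;> fin_cases b <;>
        simp [pow_succ, Matrix.mul_apply, Fin.sum_univ_two, CharTwo.add_self_eq_zero]
    · intro h
      have := congrArg (fun g : Matrix.SpecialLinearGroup (Fin 2) F => g.1 0 1) h
      simp [pow_one] at this
    · refine mul_inv_eq_iff_eq_mul.mpr (eq_inv_mul_iff_mul_eq.mpr ?_)
      apply Subtype.ext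
      rw [Matrix.SpecialLinearGroup.coe_mul, Matrix.SpecialLinearGroup.coe_mul]
      simp [Matrix.one_fin_two, one_add_one_eq_two, h2]
    · intro K _ c h3 hne h
      by_cases hc : c = 0
      · simp [hc] at h3
      · have : c ^ 2 = 1 := by rw [sq]; nth_rewrite 2 [h]; rw [mul_inv_cancel₀ hc]
        rw [pow_succ, this, one_mul] at h3
        exact hne (by rw [pow_one, h3])
  · obtain ⟨a, b, hab⟩ := CharP.sq_add_sq F p (-1)
    push_cast at hab
    have h2 : (2 : F) ≠ 0 := Ring.two_ne_zero (by rwa [ringChar.eq F p])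
    have hdet : (Matrix.det !![(a : F), (b : F); (b : F), -(a : F)]) = 1 := by
      rw [Matrix.det_fin_two_of]; linear_combination -hab
    refine ⟨mkSL !![0, 1; -1, 0] (by simp [Matrix.det_fin_two_of]),
      mkSL !![(a : F), (b : F); (b : F), -(a : F)] hdet, 4, 2, ?_, ?_, ?_, ?_, ?_⟩
    · rw [show ((4 : ℕ) : F) = 2 * 2 by norm_num]; exact mul_ne_zero h2 h2
    · apply Subtype.ext
      rw [Matrix.SpecialLinearGroup.coe_pow]
      simp [pow_succ, Matrix.one_fin_two]
    · intro h
      have h' := congrArg (fun g : Matrix.SpecialLinearGroup (Fin 2) F => g.1 0 0) h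
      simp only [Matrix.SpecialLinearGroup.coe_pow] at h'
      simp [pow_succ] at h'
      exact h2 (by linear_combination -h')
    · refine mul_inv_eq_iff_eq_mul.mpr (eq_inv_mul_iff_mul_eq.mpr ?_)
      apply Subtype.ext
      rw [Matrix.SpecialLinearGroup.coe_mul, Matrix.SpecialLinearGroup.coe_mul]
      simp [Matrix.one_fin_two]
    · intro K _ c h4 hne h
      by_cases hc : c = 0
      · simp [hc] at h4
      · exact hne (by rw [sq]; nth_rewrite 2 [h]; rw [mul_inv_cancel₀ hc])

/-- The smallest degree of a faithful representation of the symplectic group `Sp_{2n}(q)` over its own field `F_q` is `2n`: every injective homomorphism from `Sp_{2n}(F)` to `GL_d(F)`, `F` the field with `q` elements, has `d ≥ 2n`. -/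
theorem result {F : Type*} [Field F] [Fintype F] (n : ℕ) {d : ℕ}
    (ρ : ↥(Matrix.symplecticGroup (Fin n) F) →* GL (Fin d) F) (hρ : Function.Injective ρ) : 2 * n ≤ d := by
  classical
  obtain ⟨s, w, N, m, hN, hs, hm, hw, hflip⟩ := exists_inverted (F := F)
  let φ : GL (Fin d) F →* Module.End (AlgebraicClosure F) (Fin d → AlgebraicClosure F) :=
    ((Matrix.toLinAlgEquiv' (R := AlgebraicClosure F) (n := Fin d)).toMulEquiv.toMonoidHom).comp
      (((algebraMap F (AlgebraicClosure F)).mapMatrix (m := Fin d)).toMonoidHom.comp (Units.coeHom _))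
  have hφ : Function.Injective φ := by
    intro x y h
    have h1 := (Matrix.toLinAlgEquiv' (R := AlgebraicClosure F) (n := Fin d)).injective h
    exact Units.ext (Matrix.map_injective (algebraMap F (AlgebraicClosure F)).injective h1)
  have h := Cfsg.Agent.Lib.RepBounds.two_mul_le_finrank ((φ.comp ρ).comp (diagEmb F n)) s w hw
    (N := N) (m := m) (by rwa [← map_natCast (algebraMap F (AlgebraicClosure F)), _root_.map_ne_zero])
    hs (fun i h => hm ?_) (fun c => hflip _ c)
  · rwa [Module.finrank_fin_fun] at h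
  · refine Pi.mulSingle_injective i ((hφ.comp hρ).comp (diagEmb_injective F n) ?_)
    simpa using h

end Cfsg.Agent.S2394
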