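import Cfsg.Statements.S2399
import Cfsg.Agent.Lib.ProjLift.Chev
import Cfsg.Agent.S2398
import Cfsg.Agent.S2395

set_option autoImplicit false
open scoped MatrixGroups
open Cfsg

namespace Cfsg.Agent.S2399

/-- Projective representations in the natural characteristic lift: for each of the types G₂, B₂, D₄, F₄, E₆, E₇, E₈ over any field `K` (for types B₂ and G₂ the field must have more than two elements — the cases where the Chevalley group is not simple are set aside), every homomorphism from the Chevalley group to `PGL_n(L) = GL_n(L)/Z`, `L` a field of the same characteristic as `K`, lifts uniquely to a homomorphism from the group Δ presented by (R1), (R2) to `GL_n(L)`, compatibly with the projection Δ → Chevalley group sending x̄_r(t) to x_r(t). -/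
theorem result {K : Type*} [Field K] (D : Cfsg.Lie.ChevalleyDatum) (hD : D ∈ [Cfsg.Lie.chevG2, Cfsg.Lie.chevB2, Cfsg.Lie.chevD4, Cfsg.Lie.chevF4, Cfsg.Lie.chevE6, Cfsg.Lie.chevE7, Cfsg.Lie.chevE8]) (hK : D ∈ [Cfsg.Lie.chevB2, Cfsg.Lie.chevG2] → ∃ x : K, x ≠ 0 ∧ x ≠ 1)
    (θ : D.SteinbergCover K →* ↥(D.group K))
    (hθ : ∀ (r : ℕ) (t : K), r < D.nroots → ((θ (D.scGen K r t) : GL D.Idx K) : Matrix D.Idx D.Idx K) = D.x K r t)
    {L : Type*} [Field L] (hL : ringChar L = ringChar K) {n : ℕ}
    (φ : ↥(D.group K) →* GL (Fin n) L ⧸ Subgroup.center (GL (Fin n) L)) :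
    ∃! ψ : D.SteinbergCover K →* GL (Fin n) L, (QuotientGroup.mk' (Subgroup.center (GL (Fin n) L))).comp ψ = φ.comp θ := by
  classical
  by_cases h5 : ∃ s : Finset K, 4 < s.card
  · exact S2398.result h5 D hD (QuotientGroup.mk' (Subgroup.center (GL (Fin n) L)))
      (QuotientGroup.mk'_surjective _) (QuotientGroup.ker_mk' _).le (φ.comp θ)
  push Not at h5
  have : Finite K := by
    by_contra hinf
    rw [not_finite_iff_infinite] at hinf
    obtain ⟨s, hs⟩ := Infinite.exists_subset_card_eq K 5
    have := h5 s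
    omega
  have := Fintype.ofFinite K
  obtain ⟨p, hp⟩ := CharP.exists K
  have := Fact.mk (CharP.char_is_prime K p)
  obtain ⟨e, -, he⟩ := FiniteField.card K p
  have hLp : CharP L p := by
    rw [← ringChar.eq K p, ← hL]
    exact ringChar.charP L
  obtain ⟨C, T, hs, cert⟩ := Lib.CurtisTits.cert_all D hD
  have hP := S2395.result (K := K) D hD hK
  have hθ' : θ = Lib.CurtisTits.coverMap cert hs := by
    refine PresentedGroup.ext fun ⟨r, t⟩ => ?_
    rw [← Lib.CurtisTits.scGen_of]
    refine Subtype.ext (Units.ext ?_)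
    rw [hθ r.val t r.isLt, Lib.CurtisTits.coverMap_gen cert hs r t, Lib.ChevStructure.Core.X_val_x]
  obtain ⟨ψ, hψ⟩ := Lib.ProjLift.exists_lift C (p := p) (e := (e : ℕ))
    (by rw [Nat.card_eq_fintype_card]; exact he) cert hs hP φ
  rw [← hθ'] at hψ
  refine ⟨ψ, hψ, fun g hg => Lib.ChevLift.hom_ext_of_perfect hP fun x => ?_⟩
  exact QuotientGroup.eq.1 (DFunLike.congr_fun (hg.trans hψ.symm) x)

end Cfsg.Agent.S2399
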