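import Cfsg.Statements.S2400
import Cfsg.Agent.Lib.ChevLift.B2Three
import Cfsg.Agent.Lib.ChevLiftSmall.Mult
import Cfsg.Agent.Lib.ChevLiftSmall.CertE6
import Cfsg.Agent.Lib.ChevLiftSmall.CertE7
import Cfsg.Agent.S2395

set_option autoImplicit false
set_option maxRecDepth 100000
open Cfsg

namespace Cfsg.Agent.S2400

/-- Over a finite field `K`, the group presented by Steinberg's relators (R1)–(R3) (the universal Chevalley group) of type E₆ or E₇, or of type B₂ or D₄ with `K` of more than two elements, has trivial Schur multiplier: every finite stem extension of it is an isomorphism (Schur multiplier described through stem extensions as in the definitions). Types G₂, F₄ and E₈ are not covered here. -/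
theorem result {K : Type*} [Field K] [Fintype K] (e : Cfsg.Lie.ChevalleyDatum × ℕ)
    (he : e ∈ [(Cfsg.Lie.chevE6, 0), (Cfsg.Lie.chevE7, 0), (Cfsg.Lie.chevB2, 2), (Cfsg.Lie.chevD4, 2)]) (hK : Fintype.card K ≠ e.2) :
    Cfsg.HasCyclicSchurMultiplier (e.1.SteinbergGroup K) 1 := by
  have h2 : 2 ≤ Fintype.card K := Fintype.one_lt_card
  have hN : Nat.card K = Fintype.card K := Nat.card_eq_fintype_card
  have hx : 3 ≤ Fintype.card K → ∃ x : K, x ≠ 0 ∧ x ≠ 1 := fun h3 => by
    classical
    by_contra! h
    have hs : (Finset.univ : Finset K) ⊆ {0, 1} := fun x _ => by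
      by_cases hx : x = 0
      · simp [hx]
      · simp [h x hx]
    have := (Finset.card_le_card hs).trans Finset.card_le_two
    rw [Finset.card_univ] at this
    omega
  simp only [List.mem_cons, List.not_mem_nil, or_false] at he
  rcases he with rfl | rfl | rfl | rfl
  · refine Lib.ChevLift.hasCyclic_steinberg_one_of Lib.CurtisTits.CertE6.cert Lib.CurtisTits.suppOne_E6
      (fun E _ θ a b => ?_) (S2395.result Cfsg.Lie.chevE6 (by simp) fun h => ?_)
    · by_cases h4 : Fintype.card K ≤ 3
      · exact Lib.ChevLiftSmall.lifting_of_data _ _ Lib.ChevLiftSmall.data_E6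
          (Lib.ChevLiftSmall.natCast_surjective h4) E θ a b
      · exact Lib.ChevLift.exists_lift_group _ (Lib.ChevLift.condB_sound _ Lib.ChevLift.condB_E6 le_rfl
          (fun n h1 h2 => Lib.ChevLift.exists_unit_pow_ne K h1 h2
            ⟨Finset.univ, by rw [Finset.card_univ]; omega⟩) (by simp)) _ θ a b
    · simp only [List.mem_cons, List.not_mem_nil, or_false] at h
      rcases h with h | h <;> exact absurd (congrArg (·.rank) h) (by decide)
  · refine Lib.ChevLift.hasCyclic_steinberg_one_of Lib.CurtisTits.CertE7.cert Lib.CurtisTits.suppOne_E7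
      (fun E _ θ a b => ?_) (S2395.result Cfsg.Lie.chevE7 (by simp) fun h => ?_)
    · by_cases h4 : Fintype.card K ≤ 3
      · exact Lib.ChevLiftSmall.lifting_of_data _ _ Lib.ChevLiftSmall.data_E7
          (Lib.ChevLiftSmall.natCast_surjective h4) E θ a b
      · exact Lib.ChevLift.exists_lift_group _ (Lib.ChevLift.condB_sound _ Lib.ChevLift.condB_E7 le_rfl
          (fun n h1 h2 => Lib.ChevLift.exists_unit_pow_ne K h1 h2
            ⟨Finset.univ, by rw [Finset.card_univ]; omega⟩) (by simp)) _ θ a b
    · simp only [List.mem_cons, List.not_mem_nil, or_false] at h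
      rcases h with h | h <;> exact absurd (congrArg (·.rank) h) (by decide)
  · exact Lib.ChevLift.hasCyclic_steinberg_one_of Lib.CurtisTits.CertB2.cert Lib.CurtisTits.suppOne_B2
      (fun E _ θ a b => Lib.ChevLift.lift_b2 K (by simp only at hK; omega) θ a b)
      (S2395.result Cfsg.Lie.chevB2 (by simp) fun _ => hx (by simp only at hK; omega))
  · obtain ⟨C, T, hs, cert, hl⟩ := Lib.ChevLift.lift_three K Cfsg.Lie.chevD4 (by simp)
      (by simp only at hK; omega)
    exact Lib.ChevLift.hasCyclic_steinberg_one_of cert hs (fun _ _ θ a b => hl θ a b)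
      (S2395.result Cfsg.Lie.chevD4 (by simp) fun _ => hx (by simp only at hK; omega))

end Cfsg.Agent.S2400
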