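import Cfsg.Statements.S2402
import Cfsg.Agent.Lib.GLFlags.CycleGen
-- import your own Cfsg.Agent.* helpers here

set_option autoImplicit false
open Cfsg

namespace Cfsg.Agent.S2402

open Cfsg.Agent.Lib.GLFlags.CycleGen Matrix

/-- Explicit two-element generation of `PSL_{n+1}(K)` for a finite field `K` with more than three elements: let `k` generate the multiplicative group of `K`, `h = diag(k, k⁻¹, 1, …, 1)`, `x = 1 + E₁₂` (the elementary transvection) and `w` the monomial matrix with entries `1` in positions `(i, i+1)` and `(−1)^n` in position `(n+1, 1)`. Then `h` and `x·w` generate `SL_{n+1}(K)` modulo its centre: the subgroup they generate together with the centre is everything. -/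
theorem result {K : Type*} [Field K] [Fintype K] (hK : 3 < Fintype.card K) (n : ℕ) (hn : 1 ≤ n)
    (k : Kˣ) (hk : ∀ u : Kˣ, u ∈ Subgroup.zpowers k)
    (h x w : Matrix.SpecialLinearGroup (Fin (n + 1)) K)
    (hh : (h : Matrix (Fin (n + 1)) (Fin (n + 1)) K) =
      Matrix.diagonal (fun i => if i.val = 0 then (k : K) else if i.val = 1 then ((k⁻¹ : Kˣ) : K) else 1))
    (hx : (x : Matrix (Fin (n + 1)) (Fin (n + 1)) K) = Matrix.transvection (0 : Fin (n + 1)) (1 : Fin (n + 1)) 1)
    (hw : (w : Matrix (Fin (n + 1)) (Fin (n + 1)) K) =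
      Matrix.of (fun i j => if j.val = i.val + 1 then 1 else if i.val = n ∧ j.val = 0 then (-1) ^ n else 0)) :
    Subgroup.closure ({h, x * w} : Set (Matrix.SpecialLinearGroup (Fin (n + 1)) K)) ⊔
      Subgroup.center (Matrix.SpecialLinearGroup (Fin (n + 1)) K) = ⊤ := by
  classical
  set H := Subgroup.closure ({h, x * w} : Set (Matrix.SpecialLinearGroup (Fin (n + 1)) K)) ⊔
    Subgroup.center (Matrix.SpecialLinearGroup (Fin (n + 1)) K) with hH
  have h01 : (0 : Fin (n + 1)) ≠ 1 := by
    intro e
    have := congrArg Fin.val e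
    rw [Fin.val_zero, Fin.coe_ofNat_eq_mod, Nat.mod_eq_of_lt (by omega)] at this
    omega
  have hxT : x = Matrix.SpecialLinearGroup.transvection h01 1 := Subtype.ext (by
    rw [hx, Matrix.SpecialLinearGroup.transvection_coe]; rfl)
  have hhH : h ∈ H := Subgroup.mem_sup_left (Subgroup.subset_closure (Set.mem_insert _ _))
  have hzH : x * w ∈ H := Subgroup.mem_sup_left (Subgroup.subset_closure (Set.mem_insert_of_mem _ rfl))
  have hk2 : ((k : K)) ^ 2 ≠ 1 := by
    intro e
    have : k ^ 2 = 1 := Units.ext (by simpa using e)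
    have h2 := Nat.le_of_dvd (by norm_num) (orderOf_dvd_of_pow_eq_one this)
    rw [orderOf_eq_card_of_forall_mem_zpowers hk, Nat.card_units, Nat.card_eq_fintype_card] at h2
    omega
  -- conjugation by a diagonal matrix
  have hdiag : ∀ (D : Matrix.SpecialLinearGroup (Fin (n + 1)) K) (d : Fin (n + 1) → K),
      D.1 = Matrix.diagonal d → ∀ c e : K, e * d 1 = d 0 * c →
      D * Matrix.SpecialLinearGroup.transvection h01 c * D⁻¹ = Matrix.SpecialLinearGroup.transvection h01 e := by
    intro D d hD c e hce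
    refine conj_transvection D h01 h01 (γ := d 0) (δ := d 1) ?_ ?_ hce
    · intro a; rw [hD, Matrix.diagonal_apply]; split_ifs with e' <;> simp_all
    · intro b; rw [hD, Matrix.diagonal_apply]; by_cases e' : b = 1
      · simp [e']
      · simp [e', Ne.symm e']
  have h1v : (1 : Fin (n + 1)).val = 1 := by
    rw [Fin.coe_ofNat_eq_mod, Nat.mod_eq_of_lt (by omega)]
  -- the shifted diagonal matrix
  let d : Fin (n + 1) → K := fun i =>
    if i.val = 0 then (k : K) else if i.val = 1 then ((k⁻¹ : Kˣ) : K) else 1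
  have hwhw : (w * h * w⁻¹).1 = Matrix.diagonal fun i => d (i + 1) := by
    have e : (w * h).1 = Matrix.diagonal (fun i => d (i + 1)) * w.1 := by
      ext a b
      rw [Matrix.SpecialLinearGroup.coe_mul, hh, Matrix.mul_diagonal, Matrix.diagonal_mul, cycle_entry hw]
      by_cases hb : b = a + 1
      · subst hb; rw [mul_comm]
      · simp [hb]
    rw [Matrix.SpecialLinearGroup.coe_mul, e, Matrix.mul_assoc, ← Matrix.SpecialLinearGroup.coe_mul,
      mul_inv_cancel, Matrix.SpecialLinearGroup.coe_one, Matrix.mul_one]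
  have hd0 : d 0 = (k : K) := by simp [d]
  have hd1 : d 1 = (k : K)⁻¹ := by simp [d, h1v, show ¬ n = 0 by omega]
  -- the ratio of the first two entries of the shifted matrix
  obtain ⟨r, hr, hr1⟩ : ∃ r : K, d ((1 : Fin (n + 1)) + 1) = r * d ((0 : Fin (n + 1)) + 1) ∧ r ≠ 1 := by
    rw [zero_add, hd1]
    by_cases h1n : n = 1
    · refine ⟨(k : K) ^ 2, ?_, hk2⟩
      subst h1n
      have : ((1 : Fin 2) + 1) = 0 := rfl
      rw [this, hd0]
      field_simp
    · refine ⟨(k : K), ?_, fun e => hk2 (by rw [e, one_pow])⟩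
      have : ((1 : Fin (n + 1)) + 1).val = 2 := by
        rw [Fin.val_add_one_of_lt (by rw [Fin.lt_def, h1v, Fin.val_last]; omega), h1v]
      simp [d, this]
      intro e
      rw [e, Fin.val_zero] at this
      omega
  have hh'H : (x * w) * h * (x * w)⁻¹ ∈ H := H.mul_mem (H.mul_mem hzH hhH) (H.inv_mem hzH)
  set h'' := w * h * w⁻¹ with hh''
  have hd10 : d ((0 : Fin (n + 1)) + 1) ≠ 0 := by rw [zero_add, hd1]; exact inv_ne_zero k.ne_zero
  have hh' : (x * w) * h * (x * w)⁻¹ = h'' * Matrix.SpecialLinearGroup.transvection h01 (r - 1) := by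
    have e := hdiag h'' _ hwhw r 1 (by rw [hr]; ring)
    rw [mul_inv_eq_iff_eq_mul, ← hxT] at e
    calc (x * w) * h * (x * w)⁻¹ = x * h'' * x⁻¹ := by rw [hh'']; group
      _ = h'' * Matrix.SpecialLinearGroup.transvection h01 r * x⁻¹ := by rw [e]
      _ = _ := by
        rw [mul_assoc, hxT, Matrix.SpecialLinearGroup.transvection_inv,
          ← Matrix.SpecialLinearGroup.transvection_add, ← sub_eq_add_neg]
  have hcomm : h * h'' = h'' * h := by
    apply Subtype.ext
    change h.1 * h''.1 = h''.1 * h.1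
    rw [hwhw, hh, Matrix.diagonal_mul_diagonal, Matrix.diagonal_mul_diagonal]
    simp only [mul_comm]
  obtain ⟨T, hT⟩ : ∃ T, T = Matrix.SpecialLinearGroup.transvection h01 (r - 1) := ⟨_, rfl⟩
  -- h⁻¹-commutator lands in the root group
  have hk0 : (k : K) ≠ 0 := k.ne_zero
  have hconjh : ∀ c : K, h * Matrix.SpecialLinearGroup.transvection h01 c * h⁻¹ =
      Matrix.SpecialLinearGroup.transvection h01 ((k : K) ^ 2 * c) := by
    intro c
    refine hdiag h d hh c _ ?_
    rw [hd0, hd1]; field_simp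
  obtain ⟨c0, hc0, hc0H⟩ : ∃ c0 : K, c0 ≠ 0 ∧ Matrix.SpecialLinearGroup.transvection h01 c0 ∈ H := by
    refine ⟨((k : K) ^ 2 - 1) * (r - 1), mul_ne_zero (sub_ne_zero.mpr hk2) (sub_ne_zero.mpr hr1), ?_⟩
    have e : (h'' * T)⁻¹ * (h * (h'' * T) * h⁻¹) =
        Matrix.SpecialLinearGroup.transvection h01 (((k : K) ^ 2 - 1) * (r - 1)) := by
      calc (h'' * T)⁻¹ * (h * (h'' * T) * h⁻¹)
          = T⁻¹ * (h''⁻¹ * (h * h'')) * T * h⁻¹ := by group
        _ = T⁻¹ * (h * T * h⁻¹) := by rw [hcomm]; group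
        _ = _ := by
          rw [hT, hconjh, Matrix.SpecialLinearGroup.transvection_inv,
            ← Matrix.SpecialLinearGroup.transvection_add]
          congr 1
          ring
    rw [← e, hT, ← hh']
    exact H.mul_mem (H.inv_mem hh'H) (H.mul_mem (H.mul_mem hhH hh'H) (H.inv_mem hhH))
  have hsq : ∀ a : K, Matrix.SpecialLinearGroup.transvection h01 (a ^ 2 * c0) ∈ H := by
    intro a
    by_cases ha : a = 0
    · simp [ha, H.one_mem]
    · obtain ⟨u, rfl⟩ : ∃ u : Kˣ, (u : K) = a := ⟨Units.mk0 a ha, rfl⟩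
      obtain ⟨m, rfl⟩ := (mem_powers_iff_mem_zpowers).mpr (hk u)
      clear ha
      induction m with
      | zero => simpa using hc0H
      | succ m ih =>
        have := H.mul_mem (H.mul_mem hhH ih) (H.inv_mem hhH)
        rw [hconjh] at this
        convert this using 2
        push_cast
        ring
  have hall : ∀ c : K, Matrix.SpecialLinearGroup.transvection h01 c ∈ H := by
    intro c
    obtain ⟨a, b, hab⟩ : ∃ a b : K, a ^ 2 + b ^ 2 = c / c0 := by
      by_cases h2 : ringChar K = 2
      · obtain ⟨a, ha⟩ := FiniteField.isSquare_of_char_two h2 (c / c0)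
        exact ⟨a, 0, by rw [ha]; ring⟩
      · obtain ⟨a, b, e⟩ := FiniteField.exists_root_sum_quadratic
          (f := (Polynomial.X ^ 2 : Polynomial K)) (g := Polynomial.X ^ 2 - Polynomial.C (c / c0))
          (Polynomial.degree_X_pow 2) (Polynomial.degree_X_pow_sub_C (by norm_num) _)
          (FiniteField.odd_card_of_char_ne_two h2)
        exact ⟨a, b, by simp at e; linear_combination e⟩
    have := H.mul_mem (hsq a) (hsq b)
    rw [← Matrix.SpecialLinearGroup.transvection_add, ← add_mul, hab, div_mul_cancel₀ _ hc0] at this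
    exact this
  refine eq_top_of_cycle hn H hw ?_ h01 hall
  have := H.mul_mem (H.inv_mem (hxT ▸ hall 1 : x ∈ H)) hzH
  rwa [inv_mul_cancel_left] at this

end Cfsg.Agent.S2402
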