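import Cfsg.Statements.S2403
import Cfsg.Agent.Lib.GLFlags.CycleGen
-- import your own Cfsg.Agent.* helpers here

set_option autoImplicit false
open Cfsg

namespace Cfsg.Agent.S2403

open Cfsg.Agent.Lib.GLFlags.CycleGen Matrix

/-- Explicit two-element generation of `PSL_{n+1}(K)` over the fields with two or three elements: with `x = 1 + E₁₂` and `w` the monomial matrix with entries `1` in positions `(i, i+1)` and `(−1)^n` in position `(n+1, 1)`, the elements `x` and `w` generate `SL_{n+1}(K)` modulo its centre. -/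
theorem result {K : Type*} [Field K] [Fintype K] (hK : Fintype.card K ≤ 3) (n : ℕ) (hn : 1 ≤ n)
    (x w : Matrix.SpecialLinearGroup (Fin (n + 1)) K)
    (hx : (x : Matrix (Fin (n + 1)) (Fin (n + 1)) K) = Matrix.transvection (0 : Fin (n + 1)) (1 : Fin (n + 1)) 1)
    (hw : (w : Matrix (Fin (n + 1)) (Fin (n + 1)) K) =
      Matrix.of (fun i j => if j.val = i.val + 1 then 1 else if i.val = n ∧ j.val = 0 then (-1) ^ n else 0)) :
    Subgroup.closure ({x, w} : Set (Matrix.SpecialLinearGroup (Fin (n + 1)) K)) ⊔
      Subgroup.center (Matrix.SpecialLinearGroup (Fin (n + 1)) K) = ⊤ := by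
  classical
  set H := Subgroup.closure ({x, w} : Set (Matrix.SpecialLinearGroup (Fin (n + 1)) K)) ⊔
    Subgroup.center (Matrix.SpecialLinearGroup (Fin (n + 1)) K) with hH
  have h01 : (0 : Fin (n + 1)) ≠ 1 := by
    intro e
    have := congrArg Fin.val e
    rw [Fin.val_zero, Fin.coe_ofNat_eq_mod, Nat.mod_eq_of_lt (by omega)] at this
    omega
  have hxT : x = Matrix.SpecialLinearGroup.transvection h01 1 := Subtype.ext (by
    rw [hx, Matrix.SpecialLinearGroup.transvection_coe]; rfl)
  have hxH : x ∈ H := Subgroup.mem_sup_left (Subgroup.subset_closure (Set.mem_insert _ _))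
  have hwH : w ∈ H := Subgroup.mem_sup_left (Subgroup.subset_closure (Set.mem_insert_of_mem _ rfl))
  refine eq_top_of_cycle hn H hw hwH h01 fun c => ?_
  have hc : c = 0 ∨ c = 1 ∨ c = -1 := by
    by_cases hc0 : c = 0
    · exact Or.inl hc0
    · refine Or.inr ?_
      have h1 := FiniteField.pow_card_sub_one_eq_one c hc0
      have hlt : 1 < Fintype.card K := Fintype.one_lt_card
      rcases (show Fintype.card K - 1 = 1 ∨ Fintype.card K - 1 = 2 by omega) with e | e <;> rw [e] at h1
      · exact Or.inl (by simpa using h1)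
      · exact sq_eq_one_iff.mp h1
  rcases hc with rfl | rfl | rfl
  · simp [H.one_mem]
  · rw [← hxT]; exact hxH
  · rw [← Matrix.SpecialLinearGroup.transvection_inv, ← hxT]; exact H.inv_mem hxH

end Cfsg.Agent.S2403
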