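import Cfsg.Statements.S2405
import Cfsg.Agent.Lib.ChevTwoGen49.Gen
import Cfsg.Agent.Lib.ChevTwoGen49.Certs
import Cfsg.Agent.Lib.ChevBlocks49.Main
-- import your own Cfsg.Agent.* helpers here

set_option autoImplicit false
open Cfsg

namespace Cfsg.Agent.S2405

/-- Each Chevalley group of type G₂, B₂, D₄, F₄, E₆, E₇ or E₈ over a finite field is generated by two of its elements (types B₂ and G₂ over the field with two elements, where the group is not simple, excepted). -/
theorem result {F : Type*} [Field F] [Finite F] (D : Cfsg.Lie.ChevalleyDatum) (hD : D ∈ [Cfsg.Lie.chevG2, Cfsg.Lie.chevB2, Cfsg.Lie.chevD4, Cfsg.Lie.chevF4, Cfsg.Lie.chevE6, Cfsg.Lie.chevE7, Cfsg.Lie.chevE8])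
    (hF : D ∈ [Cfsg.Lie.chevB2, Cfsg.Lie.chevG2] → ∃ x : F, x ≠ 0 ∧ x ≠ 1) :
    ∃ a b : ↥(D.group F), Subgroup.closure ({a, b} : Set ↥(D.group F)) = ⊤ := by
  obtain ⟨C, H⟩ := Lib.ChevBlocks49.Main.exists_commOK D hD
  rcases Nat.lt_or_ge (Nat.card F) 3 with h | h
  · have h2 : Nat.card F = 2 := by
      have := Finite.one_lt_card (α := F)
      omega
    have hno : ¬ ∃ x : F, x ≠ 0 ∧ x ≠ 1 := by
      rintro ⟨x, h0, h1⟩
      haveI := Fintype.ofFinite F
      have := FiniteField.pow_card_sub_one_eq_one x h0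
      rw [← Nat.card_eq_fintype_card, h2, show 2 - 1 = 1 from rfl, pow_one] at this
      exact h1 this
    simp only [List.mem_cons, List.not_mem_nil, or_false] at hD
    rcases hD with rfl | rfl | rfl | rfl | rfl | rfl | rfl
    · exact absurd (hF (by simp)) hno
    · exact absurd (hF (by simp)) hno
    · exact Lib.ChevTwoGen49.two_generated_C H Lib.ChevTwoGen49.paramC_D4 h2
    · exact Lib.ChevTwoGen49.two_generated_C H Lib.ChevTwoGen49.paramC_F4 h2
    · exact Lib.ChevTwoGen49.two_generated_C H Lib.ChevTwoGen49.paramC_E6 h2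
    · exact Lib.ChevTwoGen49.two_generated_C H Lib.ChevTwoGen49.paramC_E7 h2
    · exact Lib.ChevTwoGen49.two_generated_C H Lib.ChevTwoGen49.paramC_E8 h2
  · simp only [List.mem_cons, List.not_mem_nil, or_false] at hD
    rcases hD with rfl | rfl | rfl | rfl | rfl | rfl | rfl
    · exact Lib.ChevTwoGen49.two_generated_B H Lib.ChevTwoGen49.paramB_G2 h
    · exact Lib.ChevTwoGen49.two_generated_B H Lib.ChevTwoGen49.paramB_B2 h
    · exact Lib.ChevTwoGen49.two_generated_B H Lib.ChevTwoGen49.paramB_D4 h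
    · exact Lib.ChevTwoGen49.two_generated_B H Lib.ChevTwoGen49.paramB_F4 h
    · exact Lib.ChevTwoGen49.two_generated_B H Lib.ChevTwoGen49.paramB_E6 h
    · exact Lib.ChevTwoGen49.two_generated_B H Lib.ChevTwoGen49.paramB_E7 h
    · exact Lib.ChevTwoGen49.two_generated_B H Lib.ChevTwoGen49.paramB_E8 h

end Cfsg.Agent.S2405
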