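import Cfsg.Statements.S2416
import Cfsg.Agent.Lib.GLFlags.ChevGenN
-- import your own Cfsg.Agent.* helpers here

set_option autoImplicit false
open scoped MatrixGroups
open Cfsg

namespace Cfsg.Agent.S2416

open Cfsg.Lie Cfsg.Agent.Lib.ChevStructure Cfsg.Agent.Lib.GLFlags.ChevGenN

set_option maxRecDepth 100000

/-- Every short fundamental root gives all. -/
def ok (D : ChevalleyDatum) (e : ℕ) : Bool :=
  (List.range D.rank).all fun i => D.isLong (D.simple i) || covers D e [i]

theorem okG2 : ok chevG2 3 = true := by decide +kernel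
theorem okB2 : ok chevB2 2 = true := by decide +kernel
theorem okD4 : ok chevD4 1 = true := by decide +kernel
theorem okF4 : ok chevF4 2 = true := by decide +kernel
theorem okE6 : ok chevE6 1 = true := by decide +kernel
theorem okE7 : ok chevE7 1 = true := by decide +kernel
theorem okE8 : ok chevE8 1 = true := by decide +kernel

/-- A Chevalley group of type G₂, B₂, D₄, F₄, E₆, E₇ or E₈ over a finite field lies in (indeed equals) the subgroup generated by its monomial subgroup `N` and a single fundamental root subgroup `X_p`, where `p` is a short fundamental root if there are two root lengths (any fundamental root otherwise), provided the characteristic is not 2 for types B₂, F₄ and not 3 for type G₂ (and the field has more than two elements for B₂, G₂). -/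
theorem result {K : Type*} [Field K] [Finite K] (D : Cfsg.Lie.ChevalleyDatum) (hD : D ∈ [Cfsg.Lie.chevG2, Cfsg.Lie.chevB2, Cfsg.Lie.chevD4, Cfsg.Lie.chevF4, Cfsg.Lie.chevE6, Cfsg.Lie.chevE7, Cfsg.Lie.chevE8])
    (hK : D ∈ [Cfsg.Lie.chevB2, Cfsg.Lie.chevG2] → ∃ x : K, x ≠ 0 ∧ x ≠ 1)
    (h2 : D ∈ [Cfsg.Lie.chevB2, Cfsg.Lie.chevF4] → ringChar K ≠ 2) (h3 : D = Cfsg.Lie.chevG2 → ringChar K ≠ 3)
    (i : ℕ) (hi : i < D.rank) (hshort : D.isLong (D.simple i) = false) :
    D.group K ≤ D.monomialSubgroup K ⊔ D.rootSubgroup K (D.simple i) := by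
  classical
  obtain ⟨S⟩ := nonempty_sys D hD
  suffices key : ∀ e : ℕ, ok D e = true → (e : K) ≠ 0 → D.group K ≤ D.monomialSubgroup K ⊔ D.rootSubgroup K (D.simple i) by
    have hnz : ∀ p : ℕ, p.Prime → ringChar K ≠ p → ((p : ℕ) : K) ≠ 0 := fun p hp hne h0 => by
      have hd := (ringChar.spec K p).1 h0
      rcases (Nat.dvd_prime hp).1 hd with h1 | h1
      · exact CharP.ringChar_ne_one h1
      · exact hne h1
    simp only [List.mem_cons, List.not_mem_nil, or_false] at hD
    rcases hD with rfl | rfl | rfl | rfl | rfl | rfl | rfl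
    · exact key 3 okG2 (hnz 3 Nat.prime_three (h3 rfl))
    · exact key 2 okB2 (hnz 2 Nat.prime_two (h2 (by simp)))
    · exact key 1 okD4 (by simp)
    · exact key 2 okF4 (hnz 2 Nat.prime_two (h2 (by simp)))
    · exact key 1 okE6 (by simp)
    · exact key 1 okE7 (by simp)
    · exact key 1 okE8 (by simp)
  intro e hok he
  simp only [ok, List.all_eq_true, List.mem_range, Bool.or_eq_true] at hok
  have hcov := (hok i hi).resolve_left (by rw [hshort]; simp)
  refine group_le S.commOK (fun j => Subgroup.mem_sup_left (P_mem_monomial S.toCore j)) he hcov ?_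
  intro j hj t g hg
  rw [List.mem_singleton] at hj
  subst hj
  exact Subgroup.mem_sup_right (Subgroup.subset_closure ⟨t, hg⟩)

end Cfsg.Agent.S2416
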