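import Cfsg.Statements.S2417
import Cfsg.Agent.Lib.GLFlags.ChevGenN
-- import your own Cfsg.Agent.* helpers here

set_option autoImplicit false
open scoped MatrixGroups
open Cfsg

namespace Cfsg.Agent.S2417

open Cfsg.Lie Cfsg.Agent.Lib.ChevStructure Cfsg.Agent.Lib.GLFlags.ChevGenN

set_option maxRecDepth 100000

/-- A short and a long fundamental root at a bond give all. -/
def ok (D : ChevalleyDatum) : Bool :=
  (List.range D.rank).all fun i => (List.range D.rank).all fun j =>
    D.isLong (D.simple i) || !D.isLong (D.simple j) || D.bonds i j == 0 || covers D 1 [i, j]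

theorem okB2 : ok chevB2 = true := by decide +kernel
theorem okF4 : ok chevF4 = true := by decide +kernel
theorem okG2 : ok chevG2 = true := by decide +kernel

/-- In the characteristics with an exceptional graph symmetry — type B₂ or F₄ in characteristic 2 (field of more than two elements for B₂) and type G₂ in characteristic 3 — the Chevalley group lies in the subgroup generated by its monomial subgroup `N` and the two fundamental root subgroups `X_a`, `X_b` of a short root `a` and a long root `b` joined in the Dynkin diagram. -/
theorem result {K : Type*} [Field K] [Finite K] (e : Cfsg.Lie.ChevalleyDatum × ℕ)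
    (he : e ∈ [(Cfsg.Lie.chevB2, 2), (Cfsg.Lie.chevF4, 2), (Cfsg.Lie.chevG2, 3)]) [CharP K e.2]
    (hK : e.1 = Cfsg.Lie.chevB2 → ∃ x : K, x ≠ 0 ∧ x ≠ 1)
    (i j : ℕ) (hi : i < e.1.rank) (hj : j < e.1.rank) (hshort : e.1.isLong (e.1.simple i) = false)
    (hlong : e.1.isLong (e.1.simple j) = true) (hbond : e.1.bonds i j ≠ 0) :
    e.1.group K ≤ e.1.monomialSubgroup K ⊔ e.1.rootSubgroup K (e.1.simple i) ⊔ e.1.rootSubgroup K (e.1.simple j) := by
  classical
  suffices key : ∀ D : Cfsg.Lie.ChevalleyDatum, Nonempty (Sys D) → ok D = true → i < D.rank → j < D.rank →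
      D.isLong (D.simple i) = false → D.isLong (D.simple j) = true → D.bonds i j ≠ 0 →
      D.group K ≤ D.monomialSubgroup K ⊔ D.rootSubgroup K (D.simple i) ⊔ D.rootSubgroup K (D.simple j) by
    simp only [List.mem_cons, List.not_mem_nil, or_false] at he
    rcases he with rfl | rfl | rfl
    · exact key _ (nonempty_sys _ (by simp)) okB2 hi hj hshort hlong hbond
    · exact key _ (nonempty_sys _ (by simp)) okF4 hi hj hshort hlong hbond
    · exact key _ (nonempty_sys _ (by simp)) okG2 hi hj hshort hlong hbond
  rintro D ⟨S⟩ hok hi hj hshort hlong hbond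
  simp only [ok, List.all_eq_true, List.mem_range, Bool.or_eq_true, beq_iff_eq] at hok
  have hcov : covers D 1 [i, j] = true := by
    rcases hok i hi j hj with ((h | h) | h) | h
    · rw [hshort] at h; simp at h
    · rw [hlong] at h; simp at h
    · exact absurd h hbond
    · exact h
  refine group_le S.commOK (fun k => Subgroup.mem_sup_left (Subgroup.mem_sup_left (P_mem_monomial S.toCore k)))
    (by simp) hcov ?_
  intro k hk t g hg
  simp only [List.mem_cons, List.not_mem_nil, or_false] at hk
  rcases hk with rfl | rfl
  · exact Subgroup.mem_sup_left (Subgroup.mem_sup_right (Subgroup.subset_closure ⟨t, hg⟩))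
  · exact Subgroup.mem_sup_right (Subgroup.subset_closure ⟨t, hg⟩)

end Cfsg.Agent.S2417
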