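import Cfsg.Statements.S2419
import Cfsg.Agent.Lib.WeylSmall.Basic

set_option autoImplicit false
open Cfsg

namespace Cfsg.Agent.S2419

/-- The Coxeter groups of types B₂, G₂, E₆, E₇, E₈ are generated by the Coxeter element `s₁ s₂ ⋯ s_l` together with one suitable reflection (a conjugate of a simple reflection); for types D₄ and F₄ the Coxeter element together with two suitable reflections suffices. -/
theorem result (c : (Σ n : ℕ, CoxeterMatrix (Fin n)) × ℕ)
    (hc : c ∈ [(⟨2, CoxeterMatrix.B 2⟩, 1), (⟨2, CoxeterMatrix.G₂⟩, 1), (⟨4, Cfsg.Lie.coxeterD4⟩, 2), (⟨4, CoxeterMatrix.F₄⟩, 2),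
      (⟨6, CoxeterMatrix.E₆⟩, 1), (⟨7, CoxeterMatrix.E₇⟩, 1), (⟨8, CoxeterMatrix.E₈⟩, 1)]) :
    ∃ T : Finset c.1.2.Group, T.card = c.2 ∧ (∀ t ∈ T, ∃ (g : c.1.2.Group) (i : Fin c.1.1), t = g * c.1.2.simple i * g⁻¹) ∧
      Subgroup.closure (({((List.finRange c.1.1).map c.1.2.simple).prod} : Set c.1.2.Group) ∪ ↑T) = ⊤ := by
  classical
  simp only [List.mem_cons, List.not_mem_nil, or_false] at hc
  rcases hc with rfl | rfl | rfl | rfl | rfl | rfl | rfl
  · refine ⟨{(CoxeterMatrix.B 2).simple (0 : Fin 2)}, rfl, ?_, ?_⟩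
    · intro x hx; rw [Finset.mem_singleton] at hx; subst hx; exact ⟨1, 0, by simp⟩
    · refine Cfsg.Agent.Lib.WeylSmall.closure_eq_top Cfsg.Agent.Lib.Coxeter.Certs.checkB2 [0]
        [[0], [0, -1]]
        (by decide) (by decide +kernel) _ ?_ (Or.inl rfl)
      intro j hj; simp only [List.mem_singleton] at hj; subst hj; simp
  · refine ⟨{CoxeterMatrix.G₂.simple (0 : Fin 2)}, rfl, ?_, ?_⟩
    · intro x hx; rw [Finset.mem_singleton] at hx; subst hx; exact ⟨1, 0, by simp⟩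
    · refine Cfsg.Agent.Lib.WeylSmall.closure_eq_top Cfsg.Agent.Lib.Coxeter.Certs.checkG2 [0]
        [[0], [0, -1]]
        (by decide) (by decide +kernel) _ ?_ (Or.inl rfl)
      intro j hj; simp only [List.mem_singleton] at hj; subst hj; simp
  · refine ⟨{Cfsg.Lie.coxeterD4.simple (1 : Fin 4), Cfsg.Lie.coxeterD4.simple (2 : Fin 4)}, ?_, ?_, ?_⟩
    · refine Finset.card_pair fun h => ?_
      refine Cfsg.Agent.Lib.WeylSmall.ne_of_wordsEq Cfsg.Agent.Lib.Coxeter.Certs.checkD4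
        (w := [1]) (w' := [2]) (by decide) (by decide +kernel) ?_
      simpa [Cfsg.Agent.Lib.Coxeter.WeylOrder.genProd, Cfsg.Agent.Lib.Coxeter.WeylOrder.gen] using h
    · intro x hx
      simp only [Finset.mem_insert, Finset.mem_singleton] at hx
      rcases hx with rfl | rfl
      · exact ⟨1, 1, by simp⟩
      · exact ⟨1, 2, by simp⟩
    · refine Cfsg.Agent.Lib.WeylSmall.closure_eq_top Cfsg.Agent.Lib.Coxeter.Certs.checkD4 [1, 2]
        [[-2, 1, -1], [1], [2], [1, -2, 2, -1, 1]]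
        (by decide) (by decide +kernel) _ ?_ (Or.inl rfl)
      intro j hj
      simp only [List.mem_cons, List.not_mem_nil, or_false] at hj
      rcases hj with rfl | rfl <;> simp
  · refine ⟨{CoxeterMatrix.F₄.simple (0 : Fin 4), CoxeterMatrix.F₄.simple (2 : Fin 4)}, ?_, ?_, ?_⟩
    · refine Finset.card_pair fun h => ?_
      refine Cfsg.Agent.Lib.WeylSmall.ne_of_wordsEq Cfsg.Agent.Lib.Coxeter.Certs.checkF4
        (w := [0]) (w' := [2]) (by decide) (by decide +kernel) ?_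
      simpa [Cfsg.Agent.Lib.Coxeter.WeylOrder.genProd, Cfsg.Agent.Lib.Coxeter.WeylOrder.gen] using h
    · intro x hx
      simp only [Finset.mem_insert, Finset.mem_singleton] at hx
      rcases hx with rfl | rfl
      · exact ⟨1, 0, by simp⟩
      · exact ⟨1, 2, by simp⟩
    · refine Cfsg.Agent.Lib.WeylSmall.closure_eq_top Cfsg.Agent.Lib.Coxeter.Certs.checkF4 [0, 2]
        [[0], [-1, 0, -2], [2], [-1, 2, -2]]
        (by decide) (by decide +kernel) _ ?_ (Or.inl rfl)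
      intro j hj
      simp only [List.mem_cons, List.not_mem_nil, or_false] at hj
      rcases hj with rfl | rfl <;> simp
  · refine ⟨{CoxeterMatrix.E₆.simple (3 : Fin 6)}, rfl, ?_, ?_⟩
    · intro x hx; rw [Finset.mem_singleton] at hx; subst hx; exact ⟨1, 3, by simp⟩
    · refine Cfsg.Agent.Lib.WeylSmall.closure_eq_top Cfsg.Agent.Lib.Coxeter.Certs.checkE6 [3]
        [[-2, -2, -2, -2, -2, 3, -1, -1, -1, -1, -1], [3, -2, -2, -2, 3, -1, -1, -1, 3], [-2, -2, -2, -2, 3, -1, -1, -1, -1], [3], [-1, 3, -2], [-1, -1, 3, -2, -2]]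
        (by decide) (by decide +kernel) _ ?_ (Or.inl rfl)
      intro j hj; simp only [List.mem_singleton] at hj; subst hj; simp
  · refine ⟨{CoxeterMatrix.E₇.simple (3 : Fin 7)}, rfl, ?_, ?_⟩
    · intro x hx; rw [Finset.mem_singleton] at hx; subst hx; exact ⟨1, 3, by simp⟩
    · refine Cfsg.Agent.Lib.WeylSmall.closure_eq_top Cfsg.Agent.Lib.Coxeter.Certs.checkE7 [3]
        [[-2, 3, -1, -1, -1, -1, -1, 3, -2, -2, -2, -2, -2, 3, -1], [3, -1, 3, -2, -2, -2, -2, 3, -1, -1, -1, -1, 3, -2, 3], [3, -2, -2, -2, -2, 3, -1, -1, -1, -1, 3], [3], [-1, 3, -2], [-1, -1, 3, -2, -2], [-1, -1, -1, 3, -2, -2, -2]]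
        (by decide) (by decide +kernel) _ ?_ (Or.inl rfl)
      intro j hj; simp only [List.mem_singleton] at hj; subst hj; simp
  · refine ⟨{CoxeterMatrix.E₈.simple (4 : Fin 8)}, rfl, ?_, ?_⟩
    · intro x hx; rw [Finset.mem_singleton] at hx; subst hx; exact ⟨1, 4, by simp⟩
    · refine Cfsg.Agent.Lib.WeylSmall.closure_eq_top Cfsg.Agent.Lib.Coxeter.Certs.checkE8 [4]
        [[-2, -2, 4, -1, -1, -1, -1, -1, -1, 4, -2, -2, -2, -2, -2, -2, 4, -1, -1], [-2, 4, -1, 4, -1, -1, -1, -1, -1, -1, 4, -2, -2, -2, -2, -2, -2, 4, -2, 4, -1], [-2, 4, -1, -1, -1, -1, -1, -1, 4, -2, -2, -2, -2, -2, -2, 4, -1], [-2, 4, -1], [4], [-1, 4, -2], [-1, -1, 4, -2, -2], [-1, -1, -1, 4, -2, -2, -2]]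
        (by decide) (by decide +kernel) _ ?_ (Or.inl rfl)
      intro j hj; simp only [List.mem_singleton] at hj; subst hj; simp

end Cfsg.Agent.S2419
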