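import Cfsg.Statements.S2425
import Cfsg.Agent.Lib.StVal12.Sum

set_option autoImplicit false
open Cfsg
open scoped MatrixGroups

namespace Cfsg.Agent.S2425

open Cfsg.Agent.Lib.StVal12

theorem restrict_top_charpoly {F V : Type*} [Field F] [AddCommGroup V] [Module F V] [FiniteDimensional F V]
    (T : V →ₗ[F] V) : (T.restrict (inv_top T)).charpoly = T.charpoly := by
  rw [← LinearEquiv.charpoly_conj Submodule.topEquiv (T.restrict (inv_top T))]
  rfl

theorem result {F : Type*} [Field F] [Fintype F] [DecidableEq F] {q : ℕ} (hq : Fintype.card F = q) (p : ℕ) [Fact p.Prime] [CharP F p]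
    {n : ℕ} (x : GL (Fin n) F) (hx : (orderOf x).Coprime p) :
    Cfsg.unipotentCharacterGL n F (fun _ => 1) x =
      ∏ f ∈ (UniqueFactorizationMonoid.normalizedFactors (x : Matrix (Fin n) (Fin n) F).charpoly).toFinset,
        (-1 : ℂ) ^ ((f.natDegree - 1) * (UniqueFactorizationMonoid.normalizedFactors (x : Matrix (Fin n) (Fin n) F).charpoly).count f) *
          (q : ℂ) ^ (f.natDegree * (UniqueFactorizationMonoid.normalizedFactors (x : Matrix (Fin n) (Fin n) F).charpoly).count f *
            ((UniqueFactorizationMonoid.normalizedFactors (x : Matrix (Fin n) (Fin n) F).charpoly).count f - 1) / 2) := by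
  classical
  subst hq
  set T : (Fin n → F) →ₗ[F] (Fin n → F) := Matrix.toLin' (x : Matrix (Fin n) (Fin n) F) with hT
  have hN : ((orderOf x : ℕ) : F) ≠ 0 := fun h =>
    (Fact.out : p.Prime).coprime_iff_not_dvd.1 hx.symm ((CharP.cast_eq_zero_iff F p _).1 h)
  have hpow : ∀ k : ℕ, T ^ k = Matrix.toLin' ((x : Matrix (Fin n) (Fin n) F) ^ k) := fun k =>
    (map_pow Matrix.toLinAlgEquiv' (x : Matrix (Fin n) (Fin n) F) k).symm
  have hss : Module.End.IsSemisimple T := by
    refine isSemisimple_of_pow_eq_one hN ?_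
    rw [hpow, ← Units.val_pow_eq_pow_val, pow_orderOf_eq_one, Units.val_one, Matrix.toLin'_one]
    rfl
  -- the character is the alternating sum
  have hch : Cfsg.unipotentCharacterGL n F (fun _ => 1) x = ((altSum T n ⊤ : ℤ) : ℂ) := by
    rw [altSum, Int.cast_sum]
    unfold Cfsg.unipotentCharacterGL
    refine Finset.sum_congr rfl fun κ _ => ?_
    by_cases h : Good κ
    · rw [if_pos h, if_pos (show ∀ i : Fin n, (κ i).val ≤ 1 + i.val from h), Int.cast_mul, Int.cast_natCast]
      congr 1
      rw [show (fun i : Fin n => 1 + i.val - (κ i).val) = muK κ from rfl,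
        fixedPointCharacter_eq _ (sum_muK κ h), Nat.cast_inj]
      exact Nat.card_congr (Equiv.subtypeEquivRight fun c =>
        ⟨fun hc => ⟨hc.1, fun _ => le_top, hc.2⟩, fun hc => ⟨hc.1, hc.2.2⟩⟩)
    · rw [if_neg h, if_neg (show ¬ ∀ i : Fin n, (κ i).val ≤ 1 + i.val from h), Int.cast_zero]
  have hfr : Module.finrank F ↥(⊤ : Submodule F (Fin n → F)) = n := by simp
  have hmu := altSum_eq hss (inv_top T)
  rw [hfr] at hmu
  have hfacs : facs T ⊤ (inv_top T) =
      UniqueFactorizationMonoid.normalizedFactors (x : Matrix (Fin n) (Fin n) F).charpoly := by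
    rw [facs, restrict_top_charpoly, hT, Matrix.charpoly_toLin']
  rw [hfacs] at hmu
  set s := UniqueFactorizationMonoid.normalizedFactors (x : Matrix (Fin n) (Fin n) F).charpoly with hs
  have hmonic := Matrix.charpoly_monic (x : Matrix (Fin n) (Fin n) F)
  have hsm : ∀ f ∈ s, f.Monic := fun f hf => by
    have h := UniqueFactorizationMonoid.normalize_normalized_factor f hf
    have hne : f ≠ 0 := (UniqueFactorizationMonoid.prime_of_normalized_factor f hf).ne_zero
    rw [← h]
    exact Polynomial.monic_normalize hne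
  have hdeg : ∑ f ∈ s.toFinset, s.count f * f.natDegree = n := by
    have h1 : s.prod = (x : Matrix (Fin n) (Fin n) F).charpoly := by
      rw [hs, UniqueFactorizationMonoid.prod_normalizedFactors_eq hmonic.ne_zero, hmonic.normalize_eq_self]
    have h2 := Polynomial.natDegree_multiset_prod_of_monic s hsm
    rw [h1, Matrix.charpoly_natDegree_eq_dim, Fintype.card_fin, Finset.sum_multiset_map_count] at h2
    simpa [smul_eq_mul] using h2.symm
  have halt : altSum T n ⊤ = (-1) ^ n * phi F s := by
    rw [← hmu, ← mul_assoc, ← pow_add, ← two_mul, pow_mul]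
    simp
  rw [hch, halt, phi]
  conv_lhs => rw [← hdeg]
  rw [← Finset.prod_pow_eq_pow_sum, ← Finset.prod_mul_distrib, Int.cast_prod]
  refine Finset.prod_congr rfl fun f hf => ?_
  have hd : 1 ≤ f.natDegree := by
    have hf' := Multiset.mem_toFinset.1 hf
    exact Nat.one_le_iff_ne_zero.2 fun h0 =>
      (UniqueFactorizationMonoid.prime_of_normalized_factor f hf').not_isUnit
        (by rw [(hsm f hf').natDegree_eq_zero.1 h0]; exact isUnit_one)
  set m := s.count f
  set d := f.natDegree
  push_cast
  have he : 2 ∣ m * (m - 1) := (Nat.even_mul_pred_self m).two_dvd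
  rw [← mul_assoc, ← pow_add, ← pow_mul, mul_assoc d m (m - 1), Nat.mul_div_assoc d he]
  congr 1
  rw [show m * d + m = (d - 1) * m + 2 * m by
    obtain ⟨e, he'⟩ : ∃ e, d = e + 1 := ⟨d - 1, by omega⟩
    rw [he', Nat.add_sub_cancel]; ring, pow_add, pow_mul _ 2 m]
  simp

end Cfsg.Agent.S2425
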