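import Cfsg.Statements.S2427
import Mathlib

set_option autoImplicit false
open Cfsg

namespace Cfsg.Agent.S2427

set_option maxRecDepth 100000

/-- The elements of order dividing four. -/
def qset : Subgroup (Matrix.SpecialLinearGroup (Fin 2) (ZMod 3)) where
  carrier := {g | g ^ 4 = 1}
  one_mem' := one_pow 4
  mul_mem' {a b} ha hb := by
    change (a * b) ^ 4 = 1
    revert a b
    decide +kernel
  inv_mem' {a} ha := by
    change a⁻¹ ^ 4 = 1
    rw [inv_pow, ha, inv_one]

theorem mem_qset {g : Matrix.SpecialLinearGroup (Fin 2) (ZMod 3)} : g ∈ qset ↔ g ^ 4 = 1 := Iff.rfl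

theorem commutator_eq_qset : commutator (Matrix.SpecialLinearGroup (Fin 2) (ZMod 3)) = qset := by
  refine le_antisymm ?_ ?_
  · have h : ∀ a b : Matrix.SpecialLinearGroup (Fin 2) (ZMod 3), (a * b * a⁻¹ * b⁻¹) ^ 4 = 1 := by
      decide +kernel
    rw [commutator_def, Subgroup.commutator_le]
    intro a _ b _
    rw [mem_qset, commutatorElement_def]
    exact h a b
  · intro g hg
    have h : ∀ g : Matrix.SpecialLinearGroup (Fin 2) (ZMod 3), g ^ 4 = 1 →
        ∃ a b : Matrix.SpecialLinearGroup (Fin 2) (ZMod 3), a * b * a⁻¹ * b⁻¹ = g := by decide +kernel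
    obtain ⟨a, b, rfl⟩ := h g hg
    exact Subgroup.commutator_mem_commutator (Subgroup.mem_top a) (Subgroup.mem_top b)

theorem card_qset : Nat.card qset = 8 := by
  rw [Nat.card_congr (Equiv.subtypeEquivRight fun g => mem_qset), Nat.card_eq_fintype_card]
  decide +kernel

/-- A quaternion generator. -/
def qI : Matrix.SpecialLinearGroup (Fin 2) (ZMod 3) := ⟨!![0, 1; 2, 0], by decide⟩

/-- A quaternion generator. -/
def qJ : Matrix.SpecialLinearGroup (Fin 2) (ZMod 3) := ⟨!![1, 1; 1, 2], by decide⟩

/-- Quaternion elements as matrices. -/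
def quat : QuaternionGroup 2 → Matrix.SpecialLinearGroup (Fin 2) (ZMod 3)
  | QuaternionGroup.a i => qI ^ i.val
  | QuaternionGroup.xa i => qJ * qI ^ i.val

theorem quat_mul (x y : QuaternionGroup 2) : quat (x * y) = quat x * quat y := by
  have h : ∀ i j : ZMod (2 * 2),
      quat (QuaternionGroup.a i * QuaternionGroup.a j) = quat (QuaternionGroup.a i) * quat (QuaternionGroup.a j) ∧
      quat (QuaternionGroup.a i * QuaternionGroup.xa j) = quat (QuaternionGroup.a i) * quat (QuaternionGroup.xa j) ∧
      quat (QuaternionGroup.xa i * QuaternionGroup.a j) = quat (QuaternionGroup.xa i) * quat (QuaternionGroup.a j) ∧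
      quat (QuaternionGroup.xa i * QuaternionGroup.xa j) = quat (QuaternionGroup.xa i) * quat (QuaternionGroup.xa j) := by
    decide +kernel
  rcases x with i | i <;> rcases y with j | j
  · exact (h i j).1
  · exact (h i j).2.1
  · exact (h i j).2.2.1
  · exact (h i j).2.2.2

theorem quat_pow (x : QuaternionGroup 2) : quat x ^ 4 = 1 := by
  have h : ∀ i : ZMod (2 * 2), quat (QuaternionGroup.a i) ^ 4 = 1 ∧ quat (QuaternionGroup.xa i) ^ 4 = 1 := by
    decide +kernel
  rcases x with i | i
  · exact (h i).1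
  · exact (h i).2

theorem quat_injective : Function.Injective quat := by
  have h : ∀ i j : ZMod (2 * 2),
      (quat (QuaternionGroup.a i) = quat (QuaternionGroup.a j) → i = j) ∧
      (quat (QuaternionGroup.xa i) = quat (QuaternionGroup.xa j) → i = j) ∧
      quat (QuaternionGroup.a i) ≠ quat (QuaternionGroup.xa j) := by
    decide +kernel
  rintro (i | i) (j | j) e
  · rw [(h i j).1 e]
  · exact absurd e (h i j).2.2
  · exact absurd e.symm (h j i).2.2
  · rw [(h i j).2.1 e]

/-- The group SL₂ over the field with 3 elements has order 24 and centre of order 2; its commutator subgroup has order 8, is isomorphic to the quaternion group of order 8 and is complemented by every Sylow 3-subgroup (so the group is a semidirect product of a quaternion group of order 8 by a cyclic group of order 3); and its only normal subgroups besides the trivial subgroup and the whole group are the centre and the commutator subgroup. -/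
theorem result :
    Nat.card (Matrix.SpecialLinearGroup (Fin 2) (ZMod 3)) = 24 ∧
    Nat.card (Subgroup.center (Matrix.SpecialLinearGroup (Fin 2) (ZMod 3))) = 2 ∧
    Nat.card (commutator (Matrix.SpecialLinearGroup (Fin 2) (ZMod 3))) = 8 ∧
    Nonempty (commutator (Matrix.SpecialLinearGroup (Fin 2) (ZMod 3)) ≃* QuaternionGroup 2) ∧
    (∀ P : Sylow 3 (Matrix.SpecialLinearGroup (Fin 2) (ZMod 3)),
      Subgroup.IsComplement' (commutator (Matrix.SpecialLinearGroup (Fin 2) (ZMod 3)))
        (P : Subgroup (Matrix.SpecialLinearGroup (Fin 2) (ZMod 3)))) ∧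
    ∀ N : Subgroup (Matrix.SpecialLinearGroup (Fin 2) (ZMod 3)), N.Normal →
      N = ⊥ ∨ N = ⊤ ∨ N = Subgroup.center (Matrix.SpecialLinearGroup (Fin 2) (ZMod 3)) ∨
        N = commutator (Matrix.SpecialLinearGroup (Fin 2) (ZMod 3)) := by
  have hcard : Nat.card (Matrix.SpecialLinearGroup (Fin 2) (ZMod 3)) = 24 := by
    rw [Nat.card_eq_fintype_card]; decide +kernel
  have hZ : Nat.card (Subgroup.center (Matrix.SpecialLinearGroup (Fin 2) (ZMod 3))) = 2 := by
    rw [Nat.card_congr (Equiv.subtypeEquivRight fun g => Subgroup.mem_center_iff), Nat.card_eq_fintype_card]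
    decide +kernel
  rw [commutator_eq_qset]
  refine ⟨hcard, hZ, card_qset, ?_, ?_, ?_⟩
  · let f : QuaternionGroup 2 →* qset :=
      MonoidHom.mk' (fun x => ⟨quat x, quat_pow x⟩) (fun x y => Subtype.ext (quat_mul x y))
    have hf : Function.Bijective f := by
      refine (Nat.bijective_iff_injective_and_card f).mpr ⟨fun x y h => quat_injective (congrArg Subtype.val h), ?_⟩
      rw [card_qset, Nat.card_eq_fintype_card, QuaternionGroup.card]
    exact ⟨(MulEquiv.ofBijective f hf).symm⟩
  · intro P
    have h3 : Nat.card P = 3 := by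
      rw [P.card_eq_multiplicity, hcard]
      have : Nat.factorization 24 3 = 1 := by
        rw [show (24 : ℕ) = 3 ^ 1 * 8 by norm_num, Nat.factorization_mul (by norm_num) (by norm_num),
          Nat.Prime.factorization_pow Nat.prime_three]
        simp [Nat.factorization_eq_zero_of_not_dvd (show ¬ 3 ∣ 8 by norm_num)]
      rw [this]; rfl
    exact Subgroup.isComplement'_of_coprime (by rw [card_qset, h3, hcard]) (by rw [card_qset, h3]; norm_num)
  · intro N hN
    by_cases hle : N ≤ Subgroup.center (Matrix.SpecialLinearGroup (Fin 2) (ZMod 3))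
    · have hd := Subgroup.card_dvd_of_le hle
      rw [hZ] at hd
      rcases (Nat.dvd_prime Nat.prime_two).mp hd with h | h
      · exact Or.inl (Subgroup.eq_bot_of_card_eq N h)
      · exact Or.inr (Or.inr (Or.inl (Subgroup.eq_of_le_of_card_ge hle (by rw [hZ, h]))))
    · obtain ⟨g, hgN, hgZ⟩ := SetLike.not_le_iff_exists.mp hle
      have hA : ∀ g : Matrix.SpecialLinearGroup (Fin 2) (ZMod 3),
          (∀ a : Matrix.SpecialLinearGroup (Fin 2) (ZMod 3), a * g = g * a) ∨
          ∃ a : Matrix.SpecialLinearGroup (Fin 2) (ZMod 3),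
            (a * g * a⁻¹ * g⁻¹) ^ 4 = 1 ∧ (a * g * a⁻¹ * g⁻¹) ^ 2 ≠ 1 := by decide +kernel
      have hB : ∀ c : Matrix.SpecialLinearGroup (Fin 2) (ZMod 3), c ^ 4 = 1 → c ^ 2 ≠ 1 →
          ∀ x : Matrix.SpecialLinearGroup (Fin 2) (ZMod 3), x ^ 4 = 1 →
            ∃ a b : Matrix.SpecialLinearGroup (Fin 2) (ZMod 3), x = (a * c * a⁻¹) * (b * c * b⁻¹) ∨ x = a * c * a⁻¹ := by
        decide +kernel
      obtain h | ⟨a, ha4, ha2⟩ := hA g
      · exact absurd (Subgroup.mem_center_iff.mpr h) hgZ
      have hc : a * g * a⁻¹ * g⁻¹ ∈ N := mul_mem (hN.conj_mem g hgN a) (inv_mem hgN)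
      have hQ : qset ≤ N := by
        intro x hx
        obtain ⟨u, v, h | h⟩ := hB _ ha4 ha2 x hx
        · rw [h]; exact mul_mem (hN.conj_mem _ hc u) (hN.conj_mem _ hc v)
        · rw [h]; exact hN.conj_mem _ hc u
      obtain ⟨r, hr⟩ := Subgroup.card_dvd_of_le hQ
      have hdvd := Subgroup.card_subgroup_dvd_card N
      rw [hr, card_qset, hcard, show (24 : ℕ) = 8 * 3 by norm_num] at hdvd
      rcases (Nat.dvd_prime Nat.prime_three).mp (Nat.dvd_of_mul_dvd_mul_left (by norm_num) hdvd) with h | h
      · exact Or.inr (Or.inr (Or.inr (Subgroup.eq_of_le_of_card_ge hQ (by rw [hr, h, mul_one])).symm))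
      · refine Or.inr (Or.inl (Subgroup.eq_top_of_card_eq N ?_))
        rw [hr, h, card_qset, hcard]

end Cfsg.Agent.S2427
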