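import Cfsg.Statements.S2428
import Cfsg.Agent.Lib.SL2Tori.Basic

set_option autoImplicit false
open Cfsg

namespace Cfsg.Agent.S2428

/-- Let F be a finite field with q elements, q odd, and let d be a diagonal element of SL₂ over F whose diagonal entry a has a² ≠ 1 (such d exist exactly when q > 3). Then the centraliser of d is precisely the diagonal subgroup T; the normaliser of T has order 2(q − 1) and exactly (q + 5)/2 conjugacy classes; and every element of that normaliser outside T has square equal to −1. -/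
theorem result {F : Type*} [Field F] [Fintype F] (hodd : Odd (Fintype.card F))
    (d : Matrix.SpecialLinearGroup (Fin 2) F) (hd01 : (d : Matrix (Fin 2) (Fin 2) F) 0 1 = 0) (hd10 : (d : Matrix (Fin 2) (Fin 2) F) 1 0 = 0) (hda : (d : Matrix (Fin 2) (Fin 2) F) 0 0 ^ 2 ≠ 1) :
    (∀ g : Matrix.SpecialLinearGroup (Fin 2) F, g ∈ Subgroup.centralizer ({d} : Set (Matrix.SpecialLinearGroup (Fin 2) F)) ↔ ((g : Matrix (Fin 2) (Fin 2) F) 0 1 = 0 ∧ (g : Matrix (Fin 2) (Fin 2) F) 1 0 = 0)) ∧
    Nat.card (Subgroup.normalizer ((Subgroup.centralizer ({d} : Set (Matrix.SpecialLinearGroup (Fin 2) F))) : Set (Matrix.SpecialLinearGroup (Fin 2) F))) = 2 * (Fintype.card F - 1) ∧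
    Nat.card (ConjClasses (Subgroup.normalizer ((Subgroup.centralizer ({d} : Set (Matrix.SpecialLinearGroup (Fin 2) F))) : Set (Matrix.SpecialLinearGroup (Fin 2) F)))) = (Fintype.card F + 5) / 2 ∧
    ∀ g : Matrix.SpecialLinearGroup (Fin 2) F, g ∈ Subgroup.normalizer ((Subgroup.centralizer ({d} : Set (Matrix.SpecialLinearGroup (Fin 2) F))) : Set (Matrix.SpecialLinearGroup (Fin 2) F)) →
      g ∉ Subgroup.centralizer ({d} : Set (Matrix.SpecialLinearGroup (Fin 2) F)) → ((g * g) : Matrix (Fin 2) (Fin 2) F) = -1 := by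
  classical
  open Cfsg.Agent.Lib.SL2Tori Cfsg.Agent.Lib.PSLTwo.Sylow in
  have h2 := Cfsg.Agent.Lib.Linear.two_ne_zero_of_odd_card hodd
  have ha : d.1 0 0 ≠ d.1 1 1 := by
    intro h
    apply hda
    have := Cfsg.Agent.Lib.PSLTwo.Sylow.det_eq d
    rw [hd01, ← h] at this
    linear_combination this
  have hreg : Cfsg.Agent.Lib.SL2Tori.Regular d := by
    rw [Cfsg.Agent.Lib.SL2Tori.regular_iff_disc, hd01]
    intro h
    exact ha (sub_eq_zero.mp (pow_eq_zero_iff two_ne_zero |>.mp (by linear_combination h)))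
  have hcard := Cfsg.Agent.Lib.SL2Tori.card_torus_diag hd01 hd10 ha
  refine ⟨fun g => Cfsg.Agent.Lib.SL2Tori.torus_diag_iff hd01 hd10 ha g, ?_, ?_, ?_⟩
  · exact (Cfsg.Agent.Lib.SL2Tori.card_normalizer_torus hodd hreg).trans (by rw [hcard])
  · have h := Cfsg.Agent.Lib.SL2Tori.card_conjClasses_normalizer_torus hodd hreg
    rw [hcard] at h
    obtain ⟨k, hk⟩ := hodd
    unfold Cfsg.Agent.Lib.SL2Tori.torus at h
    omega
  · intro g hg hgT
    have h := congrArg Subtype.val (Cfsg.Agent.Lib.SL2Tori.sq_eq_negOne_of_not_mem h2 hreg hg hgT)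
    refine h.trans ?_
    ext i j
    fin_cases i <;> fin_cases j <;> simp [Cfsg.Agent.Lib.PSLTwo.Sylow.negOne]

end Cfsg.Agent.S2428
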