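import Cfsg.Statements.S2429
import Cfsg.Agent.Lib.SL2Tori.Basic

set_option autoImplicit false
open Cfsg

namespace Cfsg.Agent.S2429

/-- Let F be a finite field with q elements, q odd. Then SL₂ over F contains a cyclic subgroup T′ of order q + 1 (a non-split torus) with the following properties: T′ is its own centraliser, and indeed the centraliser of each element of T′ other than 1 and −1 is exactly T′; every element of SL₂ having no eigenvector in F² is conjugate to an element of T′; the normaliser of T′ has order 2(q + 1) and exactly (q + 7)/2 conjugacy classes; and every element of that normaliser outside T′ has square −1. -/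
theorem result {F : Type*} [Field F] [Fintype F] (hodd : Odd (Fintype.card F)) :
    ∃ T' : Subgroup (Matrix.SpecialLinearGroup (Fin 2) F), IsCyclic T' ∧ Nat.card T' = Fintype.card F + 1 ∧
      Subgroup.centralizer ((T' : Set (Matrix.SpecialLinearGroup (Fin 2) F))) = T' ∧
      (∀ g : Matrix.SpecialLinearGroup (Fin 2) F, g ∈ T' → (g : Matrix (Fin 2) (Fin 2) F) ≠ 1 → (g : Matrix (Fin 2) (Fin 2) F) ≠ -1 → Subgroup.centralizer ({g} : Set (Matrix.SpecialLinearGroup (Fin 2) F)) = T') ∧
      (∀ g : Matrix.SpecialLinearGroup (Fin 2) F, (∀ (c : F) (v : Fin 2 → F), v ≠ 0 → (g : Matrix (Fin 2) (Fin 2) F).mulVec v ≠ c • v) → ∃ h : Matrix.SpecialLinearGroup (Fin 2) F, h * g * h⁻¹ ∈ T') ∧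
      Nat.card (Subgroup.normalizer (T' : Set (Matrix.SpecialLinearGroup (Fin 2) F))) = 2 * (Fintype.card F + 1) ∧
      Nat.card (ConjClasses (Subgroup.normalizer (T' : Set (Matrix.SpecialLinearGroup (Fin 2) F)))) = (Fintype.card F + 7) / 2 ∧
      ∀ g : Matrix.SpecialLinearGroup (Fin 2) F, g ∈ Subgroup.normalizer (T' : Set (Matrix.SpecialLinearGroup (Fin 2) F)) → g ∉ T' → ((g * g) : Matrix (Fin 2) (Fin 2) F) = -1 := by
  classical
  open Cfsg.Agent.Lib.SL2Tori Cfsg.Agent.Lib.PSLTwo.Sylow in
  (have h2 := Cfsg.Agent.Lib.Linear.two_ne_zero_of_odd_card hodd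
   obtain ⟨ε, x, hε, hx, hmem⟩ := exists_nonsplit (F := F) hodd
   have hreg : Regular x := fun h => hx ⟨0, by rw [h]; ring⟩
   have hcard := card_torus_nonsplit hodd hx
   refine ⟨torus x, isCyclic_torus hodd hreg, hcard, ?_, ?_, ?_, ?_, ?_, ?_⟩
   · ext g
     rw [Subgroup.mem_centralizer_iff]
     exact ⟨fun h => mem_torus.mpr (h x (self_mem_torus x)).symm, fun h a ha => (torus_comm hreg h ha).symm⟩
   · intro g hg h1 h1'
     refine torus_eq_of_mem hreg hg ((nonScalar_iff h2).mpr ⟨fun h => h1 (by rw [h]; simp), fun h => h1' ?_⟩)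
     rw [h]
     ext i j
     fin_cases i <;> fin_cases j <;> simp [negOne]
   · intro g hg
     have hsq := (noEigen_iff h2 g).mp hg
     have hgreg : Regular g := fun h => hsq ⟨0, by rw [h]; ring⟩
     have h4 : (4 : F) ≠ 0 := by rw [show (4 : F) = 2 * 2 by norm_num]; exact mul_ne_zero h2 h2
     have hchar : ringChar F ≠ 2 := fun h => h2 (by
       have := CharP.cast_eq_zero_iff F (ringChar F) 2 |>.mpr (by rw [h])
       exact_mod_cast this)
     obtain ⟨s, hs⟩ : IsSquare ((slTr g ^ 2 - 4) / (4 * ε)) := by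
       have hε0 : ε ≠ 0 := fun h => hε ⟨0, by simp [h]⟩
       by_cases h0 : slTr g ^ 2 - 4 = 0
       · exact ⟨0, by simp [h0]⟩
       · have hq1 := (FiniteField.isSquare_iff hchar h0).not.mp hsq
         have hq2 := (FiniteField.isSquare_iff hchar hε0).not.mp hε
         have e1 := (FiniteField.pow_dichotomy hchar h0).resolve_left hq1
         have e2 := (FiniteField.pow_dichotomy hchar hε0).resolve_left hq2
         have e4 : (4 : F) ^ (Fintype.card F / 2) = 1 :=
           (FiniteField.isSquare_iff hchar h4).mp ⟨2, by norm_num⟩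
         refine (FiniteField.isSquare_iff hchar (div_ne_zero h0 (mul_ne_zero h4 hε0))).mpr ?_
         rw [div_pow, mul_pow, e1, e2, e4]
         norm_num
     have hε0 : ε ≠ 0 := fun h => hε ⟨0, by simp [h]⟩
     rw [div_eq_iff (mul_ne_zero h4 hε0)] at hs
     let y : Matrix.SpecialLinearGroup (Fin 2) F := mk2 (slTr g / 2) (ε * s) s (slTr g / 2)
       (by field_simp; linear_combination hs)
     obtain ⟨h, hh⟩ := exists_conj (b := y) (Nat.odd_iff.mp hodd) h2 hgreg
       (by simp [slTr, y]; field_simp; ring)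
     exact ⟨h, hh ▸ (hmem y).mpr ⟨rfl, rfl⟩⟩
   · rw [card_normalizer_torus hodd hreg, hcard]
   · have h := card_conjClasses_normalizer_torus hodd hreg
     rw [hcard] at h
     obtain ⟨k, hk⟩ := hodd
     omega
   · intro g hg hgT
     have h := congrArg Subtype.val (sq_eq_negOne_of_not_mem h2 hreg hg hgT)
     refine h.trans ?_
     ext i j
     fin_cases i <;> fin_cases j <;> simp [negOne])

end Cfsg.Agent.S2429
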