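import Cfsg.Statements.S2430
import Cfsg.Agent.Lib.SL2Tori.Basic

set_option autoImplicit false
open Cfsg

namespace Cfsg.Agent.S2430

open Cfsg.Agent.Lib.SL2Tori Cfsg.Agent.Lib.PSLTwo.Sylow

/-- Let F be a finite field with q elements, q odd, ℓ an odd prime, and P a Sylow ℓ-subgroup of SL₂ over F. If ℓ divides q − 1, the centraliser of P is cyclic of order q − 1 (a split torus) and the normaliser of P has order 2(q − 1); if ℓ divides q + 1, the centraliser of P is cyclic of order q + 1 (a non-split torus) and the normaliser of P has order 2(q + 1). -/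
theorem result {F : Type*} [Field F] [Fintype F] (hodd : Odd (Fintype.card F)) (ℓ : ℕ) [Fact ℓ.Prime] (hℓ : ℓ ≠ 2)
    (P : Sylow ℓ (Matrix.SpecialLinearGroup (Fin 2) F)) :
    (ℓ ∣ Fintype.card F - 1 →
      Nat.card (Subgroup.centralizer ((P : Subgroup (Matrix.SpecialLinearGroup (Fin 2) F)) : Set (Matrix.SpecialLinearGroup (Fin 2) F))) = Fintype.card F - 1 ∧
      IsCyclic (Subgroup.centralizer ((P : Subgroup (Matrix.SpecialLinearGroup (Fin 2) F)) : Set (Matrix.SpecialLinearGroup (Fin 2) F))) ∧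
      Nat.card (Subgroup.normalizer ((P : Subgroup (Matrix.SpecialLinearGroup (Fin 2) F)) : Set (Matrix.SpecialLinearGroup (Fin 2) F))) = 2 * (Fintype.card F - 1)) ∧
    (ℓ ∣ Fintype.card F + 1 →
      Nat.card (Subgroup.centralizer ((P : Subgroup (Matrix.SpecialLinearGroup (Fin 2) F)) : Set (Matrix.SpecialLinearGroup (Fin 2) F))) = Fintype.card F + 1 ∧
      IsCyclic (Subgroup.centralizer ((P : Subgroup (Matrix.SpecialLinearGroup (Fin 2) F)) : Set (Matrix.SpecialLinearGroup (Fin 2) F))) ∧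
      Nat.card (Subgroup.normalizer ((P : Subgroup (Matrix.SpecialLinearGroup (Fin 2) F)) : Set (Matrix.SpecialLinearGroup (Fin 2) F))) = 2 * (Fintype.card F + 1)) := by
  classical
  obtain ⟨p, hp⟩ := CharP.exists F
  have hpp : Fact p.Prime := ⟨CharP.char_is_prime F p⟩
  have h2 := Cfsg.Agent.Lib.Linear.two_ne_zero_of_odd_card hodd
  obtain ⟨k, -, hk⟩ := FiniteField.card F p
  have hq1 : 1 < Fintype.card F := Fintype.one_lt_card
  have hG : Nat.card (Matrix.SpecialLinearGroup (Fin 2) F) =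
      Fintype.card F * ((Fintype.card F - 1) * (Fintype.card F + 1)) := by
    refine Nat.eq_of_mul_eq_mul_right (show 0 < Fintype.card F - 1 by omega) ?_
    rw [card_SL]
    obtain ⟨r, hr⟩ : ∃ r, Fintype.card F = r + 1 := ⟨Fintype.card F - 1, by omega⟩
    rw [hr]
    simp only [Nat.add_sub_cancel]
    rw [show (r + 1) ^ 2 - 1 = r * (r + 1 + 1) by ring_nf; omega,
      show (r + 1) ^ 2 - (r + 1) = r * (r + 1) by ring_nf; omega]
    ring
  have key : (ℓ ∣ Fintype.card F - 1 ∨ ℓ ∣ Fintype.card F + 1) →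
      ∃ x : Matrix.SpecialLinearGroup (Fin 2) F, Regular x ∧ ℓ ∣ Nat.card (torus x) ∧
        Subgroup.centralizer ((P : Subgroup (Matrix.SpecialLinearGroup (Fin 2) F)) :
          Set (Matrix.SpecialLinearGroup (Fin 2) F)) = torus x ∧
        Subgroup.normalizer ((P : Subgroup (Matrix.SpecialLinearGroup (Fin 2) F)) :
          Set (Matrix.SpecialLinearGroup (Fin 2) F)) = Subgroup.normalizer (torus x : Set _) := by
    intro hdiv
    have hne : ℓ ≠ p := by
      rintro rfl
      have hq : ℓ ∣ Fintype.card F := hk ▸ dvd_pow_self ℓ k.ne_zero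
      rcases hdiv with h | h
      · have := Nat.dvd_sub hq h
        rw [Nat.sub_sub_self (by omega)] at this
        exact (Fact.out : ℓ.Prime).one_lt.ne' (Nat.dvd_one.mp this)
      · exact (Fact.out : ℓ.Prime).one_lt.ne' (Nat.dvd_one.mp ((Nat.dvd_add_right hq).mp h))
    have hdG : ℓ ∣ Nat.card (Matrix.SpecialLinearGroup (Fin 2) F) := by
      rw [hG]
      rcases hdiv with h | h
      · exact (h.mul_right _).mul_left _
      · exact (h.mul_left _).mul_left _
    have hPbot := P.ne_bot_of_dvd_card hdG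
    obtain ⟨⟨x, hxP⟩, hx1⟩ := Subgroup.ne_bot_iff_exists_ne_one.mp hPbot
    have hx1' : x ≠ 1 := fun h => hx1 (Subtype.ext h)
    obtain ⟨j, hj⟩ := (IsPGroup.iff_orderOf.mp P.2) ⟨x, hxP⟩
    rw [Subgroup.orderOf_mk] at hj
    have hreg : Regular x := by
      intro ht
      obtain ⟨μ, hμ⟩ := Cfsg.Agent.Lib.Linear.exists_isEigen x
      have hμ2 : μ ^ 2 = 1 := by
        have htr := hμ.trace_eq
        have h4 := congrArg (algebraMap F (AlgebraicClosure F)) ht
        rw [map_pow, map_ofNat, slTr, ← Matrix.trace_fin_two, htr] at h4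
        have hμ0 := hμ.ne_zero
        field_simp at h4
        have h5 : (μ ^ 2 - 1) ^ 2 = 0 := by linear_combination h4
        exact sub_eq_zero.mp (pow_eq_zero_iff two_ne_zero |>.mp h5)
      have hd := orderOf_dvd_of_pow_eq_one (Cfsg.Agent.Lib.Linear.pow_two_mul_char_eq_one p hμ hμ2)
      rw [hj] at hd
      have hj0 : j ≠ 0 := by rintro rfl; exact hx1' (orderOf_eq_one_iff.mp (by simpa using hj))
      have hℓd : ℓ ∣ 2 * p := (dvd_pow_self ℓ hj0).trans hd
      rcases (Fact.out : ℓ.Prime).dvd_mul.mp hℓd with h | h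
      · exact hℓ ((Nat.prime_dvd_prime_iff_eq Fact.out Nat.prime_two).mp h)
      · exact hne ((Nat.prime_dvd_prime_iff_eq Fact.out hpp.out).mp h)
    have hcyc := Cfsg.Agent.Lib.Linear.isCyclic_of_isPGroup p ℓ hℓ hne _ P.2
    have hPT : ∀ a ∈ (P : Subgroup (Matrix.SpecialLinearGroup (Fin 2) F)), a ∈ torus x := by
      intro a ha
      letI := hcyc.commGroup
      exact mem_torus.mpr (congrArg Subtype.val (mul_comm (⟨a, ha⟩ : (P : Subgroup _)) ⟨x, hxP⟩))
    refine ⟨x, hreg, ?_, ?_, ?_⟩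
    · calc ℓ ∣ orderOf x := hj ▸ dvd_pow_self ℓ (by rintro rfl; exact hx1' (orderOf_eq_one_iff.mp (by simpa using hj)))
        _ ∣ Nat.card (torus x) := Subgroup.orderOf_dvd_natCard _ (self_mem_torus x)
    · ext g
      rw [Subgroup.mem_centralizer_iff]
      exact ⟨fun h => mem_torus.mpr (h x hxP).symm, fun h a ha => (torus_comm hreg h (hPT a ha)).symm⟩
    · refine le_antisymm ?_ ?_
      · intro g hg
        have h1 : g * x * g⁻¹ ∈ torus x := hPT _ ((Subgroup.mem_normalizer_iff.mp hg x).mp hxP)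
        refine Cfsg.Agent.Lib.PSLTwo.Sylow.mem_normalizer_of_conj_mem fun a ha => ?_
        rw [← torus_eq_of_mem hreg h1 (hreg.conj g).nonScalar, torus_conj]
        exact ⟨a, ha, rfl⟩
      · intro g hg
        refine Cfsg.Agent.Lib.PSLTwo.Sylow.mem_normalizer_of_conj_mem fun a ha => ?_
        by_cases hgT : g ∈ torus x
        · rwa [torus_comm hreg hgT (hPT a ha), mul_inv_cancel_right]
        · rw [conj_eq_inv_of_mem_normalizer h2 hreg hg hgT (hPT a ha)]
          exact inv_mem ha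
  have hexcl : ¬ (ℓ ∣ Fintype.card F - 1 ∧ ℓ ∣ Fintype.card F + 1) := by
    rintro ⟨h1, h1'⟩
    have := Nat.dvd_sub h1' h1
    rw [show Fintype.card F + 1 - (Fintype.card F - 1) = 2 by omega] at this
    exact hℓ ((Nat.prime_dvd_prime_iff_eq Fact.out Nat.prime_two).mp this)
  constructor <;> intro hd
  · obtain ⟨x, hreg, hdT, hC, hN⟩ := key (Or.inl hd)
    have hcard : Nat.card (torus x) = Fintype.card F - 1 := by
      by_cases hsq : IsSquare (slTr x ^ 2 - 4)
      · exact card_torus_split hodd hreg hsq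
      · exact absurd ⟨hd, card_torus_nonsplit hodd hsq ▸ hdT⟩ hexcl
    rw [hC, hN, card_normalizer_torus hodd hreg, hcard]
    exact ⟨rfl, isCyclic_torus hodd hreg, rfl⟩
  · obtain ⟨x, hreg, hdT, hC, hN⟩ := key (Or.inr hd)
    have hcard : Nat.card (torus x) = Fintype.card F + 1 := by
      by_cases hsq : IsSquare (slTr x ^ 2 - 4)
      · exact absurd ⟨card_torus_split hodd hreg hsq ▸ hdT, hd⟩ hexcl
      · exact card_torus_nonsplit hodd hsq
    rw [hC, hN, card_normalizer_torus hodd hreg, hcard]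
    exact ⟨rfl, isCyclic_torus hodd hreg, rfl⟩

end Cfsg.Agent.S2430
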