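import Cfsg.Statements.S2431
import Cfsg.Agent.Lib.SL2Tori.Basic

set_option autoImplicit false
open Cfsg

namespace Cfsg.Agent.S2431

open Cfsg.Agent.Lib.SL2Tori Cfsg.Agent.Lib.PSLTwo.Sylow

/-- The subgroup `Y ∪ Y w`. -/
def twoSub {G : Type*} [Group G] (Y : Subgroup G) (w : G) (hinv : ∀ a ∈ Y, w * a * w⁻¹ = a⁻¹)
    (hw : w * w ∈ Y) : Subgroup G where
  carrier := {g | g ∈ Y ∨ g * w⁻¹ ∈ Y}
  one_mem' := Or.inl (one_mem Y)
  mul_mem' {a b} ha hb := by
    rcases ha with ha | ha <;> rcases hb with hb | hb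
    · exact Or.inl (mul_mem ha hb)
    · exact Or.inr (by rw [mul_assoc]; exact mul_mem ha hb)
    · refine Or.inr ?_
      rw [show a * b * w⁻¹ = (a * w⁻¹) * (w * b * w⁻¹) by group, hinv b hb]
      exact mul_mem ha (inv_mem hb)
    · refine Or.inl ?_
      rw [show a * b = (a * w⁻¹) * (w * (b * w⁻¹) * w⁻¹) * (w * w) by group, hinv _ hb]
      exact mul_mem (mul_mem ha (inv_mem hb)) hw
  inv_mem' {a} ha := by
    rcases ha with ha | ha
    · exact Or.inl (inv_mem ha)
    · refine Or.inr ?_
      rw [show a⁻¹ * w⁻¹ = (w * w)⁻¹ * (w * (a * w⁻¹)⁻¹ * w⁻¹) by group, hinv _ (inv_mem ha)]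
      exact mul_mem (inv_mem hw) (inv_mem (inv_mem ha))

theorem card_twoSub {G : Type*} [Group G] [Finite G] (Y : Subgroup G) (w : G)
    (hinv : ∀ a ∈ Y, w * a * w⁻¹ = a⁻¹) (hw : w * w ∈ Y) (hwY : w ∉ Y) :
    Nat.card (twoSub Y w hinv hw) = 2 * Nat.card Y := by
  let f : Y ⊕ Y → twoSub Y w hinv hw :=
    Sum.elim (fun a => ⟨a.1, Or.inl a.2⟩) (fun a => ⟨a.1 * w, Or.inr (by simp)⟩)
  have hf : Function.Bijective f := by
    constructor
    · rintro (a | a) (b | b) h <;> have h' := congrArg Subtype.val h <;>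
        simp only [f, Sum.elim_inl, Sum.elim_inr] at h'
      · rw [Subtype.ext h']
      · exact absurd ((Subgroup.mul_mem_cancel_left _ b.2).mp (h' ▸ a.2)) hwY
      · exact absurd ((Subgroup.mul_mem_cancel_left _ a.2).mp (h' ▸ b.2)) hwY
      · rw [Subtype.ext (mul_right_cancel h')]
    · rintro ⟨g, hg | hg⟩
      · exact ⟨Sum.inl ⟨g, hg⟩, rfl⟩
      · exact ⟨Sum.inr ⟨_, hg⟩, Subtype.ext (inv_mul_cancel_right g w)⟩
  rw [← Nat.card_eq_of_bijective f hf, Nat.card_sum, two_mul]

variable {F : Type*} [Field F]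

theorem slTr_eq_zero_of_sq {w : Matrix.SpecialLinearGroup (Fin 2) F} (h : w * w = negOne) :
    slTr w = 0 := by
  have hd := det_eq w
  have h00 := congrArg (fun g : Matrix.SpecialLinearGroup (Fin 2) F => g.1 0 0) h
  have h01 := congrArg (fun g : Matrix.SpecialLinearGroup (Fin 2) F => g.1 0 1) h
  simp only [mul_apply', negOne_00, negOne_01] at h00 h01
  rw [slTr]
  have e1 : w.1 0 0 * (w.1 0 0 + w.1 1 1) = 0 := by linear_combination h00 + hd
  have e2 : w.1 0 1 * (w.1 0 0 + w.1 1 1) = 0 := by linear_combination h01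
  by_contra hne
  rw [(mul_eq_zero.mp e1).resolve_right hne, (mul_eq_zero.mp e2).resolve_right hne] at hd
  simp at hd

set_option maxHeartbeats 800000 in
/-- Let F be a finite field with q elements, q odd, and S a Sylow 2-subgroup of SL₂ over F. The centraliser of S is the centre of SL₂ (of order 2); S is its own normaliser when q ≡ ±1 mod 8, and has index 3 in its normaliser when q ≡ ±3 mod 8. -/
theorem result {F : Type*} [Field F] [Fintype F] (hodd : Odd (Fintype.card F)) (S : Sylow 2 (Matrix.SpecialLinearGroup (Fin 2) F)) :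
    Subgroup.centralizer ((S : Subgroup (Matrix.SpecialLinearGroup (Fin 2) F)) : Set (Matrix.SpecialLinearGroup (Fin 2) F)) = Subgroup.center (Matrix.SpecialLinearGroup (Fin 2) F) ∧
    ((Fintype.card F % 8 = 1 ∨ Fintype.card F % 8 = 7) →
      Subgroup.normalizer ((S : Subgroup (Matrix.SpecialLinearGroup (Fin 2) F)) : Set (Matrix.SpecialLinearGroup (Fin 2) F)) = (S : Subgroup (Matrix.SpecialLinearGroup (Fin 2) F))) ∧
    ((Fintype.card F % 8 = 3 ∨ Fintype.card F % 8 = 5) →
      Nat.card (Subgroup.normalizer ((S : Subgroup (Matrix.SpecialLinearGroup (Fin 2) F)) : Set (Matrix.SpecialLinearGroup (Fin 2) F))) = 3 * Nat.card S) := by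
  classical
  have h2 := Cfsg.Agent.Lib.Linear.two_ne_zero_of_odd_card hodd
  have h4 : (4 : F) ≠ 0 := by rw [show (4 : F) = 2 * 2 by norm_num]; exact mul_ne_zero h2 h2
  let x : Matrix.SpecialLinearGroup (Fin 2) F := mk2 0 1 (-1) 0 (by ring)
  have hx0 : slTr x = 0 := by simp [slTr, x]
  have hreg : Regular x := by rw [Regular, hx0]; simpa using h4.symm
  have hxx : x * x = negOne := by apply slExt <;> simp [mul_apply', x]
  have hx4 : orderOf x = 2 ^ 2 := by
    refine orderOf_eq_prime_pow (p := 2) (n := 1) ?_ ?_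
    · rw [pow_one, sq, hxx]; exact negOne_ne_one h2
    · rw [show (2 : ℕ) ^ (1 + 1) = 2 + 2 by norm_num, pow_add, sq, hxx, negOne_sq]
  -- the order of the torus
  have hq1 : 1 < Fintype.card F := Fintype.one_lt_card
  obtain ⟨kq, hkq⟩ := hodd
  have hodd : Odd (Fintype.card F) := ⟨kq, hkq⟩
  have hsq : IsSquare (slTr x ^ 2 - 4) ↔ Fintype.card F % 4 ≠ 3 := by
    rw [hx0, ← FiniteField.isSquare_neg_one_iff]
    constructor
    · rintro ⟨r, hr⟩
      refine ⟨r / 2, ?_⟩
      field_simp
      linear_combination hr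
    · rintro ⟨r, hr⟩
      exact ⟨2 * r, by linear_combination (4 : F) * hr⟩
  have hT : (Fintype.card F % 4 = 1 → Nat.card (torus x) = Fintype.card F - 1) ∧
      (Fintype.card F % 4 = 3 → Nat.card (torus x) = Fintype.card F + 1) := by
    refine ⟨fun h => card_torus_split hodd hreg (hsq.mpr (by omega)), fun h => card_torus_nonsplit hodd ?_⟩
    rw [hsq]; omega
  have hG : Nat.card (Matrix.SpecialLinearGroup (Fin 2) F) =
      Fintype.card F * ((Fintype.card F - 1) * (Fintype.card F + 1)) := by
    refine Nat.eq_of_mul_eq_mul_right (show 0 < Fintype.card F - 1 by omega) ?_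
    rw [card_SL]
    obtain ⟨r, hr⟩ : ∃ r, Fintype.card F = r + 1 := ⟨Fintype.card F - 1, by omega⟩
    rw [hr]
    simp only [Nat.add_sub_cancel]
    rw [show (r + 1) ^ 2 - 1 = r * (r + 1 + 1) by ring_nf; omega,
      show (r + 1) ^ 2 - (r + 1) = r * (r + 1) by ring_nf; omega]
    ring
  -- the two-part
  obtain ⟨a, m, hm, hTam⟩ := Nat.exists_eq_two_pow_mul_odd (n := Nat.card (torus x)) Nat.card_pos.ne'
  have ha2 : 2 ≤ a := by
    have h4T : 4 ∣ Nat.card (torus x) := by
      rcases (show Fintype.card F % 4 = 1 ∨ Fintype.card F % 4 = 3 by omega) with h | h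
      · rw [hT.1 h]; omega
      · rw [hT.2 h]; omega
    by_contra hlt
    rw [hTam] at h4T
    obtain ⟨t, rfl⟩ := hm
    rcases (show a = 0 ∨ a = 1 by omega) with rfl | rfl
    · omega
    · omega
  obtain ⟨b, hb, hGfac⟩ : ∃ b, Odd b ∧ Nat.card (Matrix.SpecialLinearGroup (Fin 2) F) = 2 ^ (a + 1) * b := by
    rcases (show Fintype.card F % 4 = 1 ∨ Fintype.card F % 4 = 3 by omega) with h | h
    · obtain ⟨c, hc⟩ : ∃ c, Fintype.card F + 1 = 2 * (2 * c + 1) := ⟨Fintype.card F / 4, by omega⟩
      refine ⟨Fintype.card F * m * (2 * c + 1), (hodd.mul hm).mul ⟨c, rfl⟩, ?_⟩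
      rw [hG, hc, ← hT.1 h, hTam]; ring
    · obtain ⟨c, hc⟩ : ∃ c, Fintype.card F - 1 = 2 * (2 * c + 1) := ⟨Fintype.card F / 4, by omega⟩
      refine ⟨Fintype.card F * m * (2 * c + 1), (hodd.mul hm).mul ⟨c, rfl⟩, ?_⟩
      rw [hG, hc, ← hT.2 h, hTam]; ring
  have hfac : (Nat.card (Matrix.SpecialLinearGroup (Fin 2) F)).factorization 2 = a + 1 := by
    have hb0 : ¬ 2 ∣ b := by obtain ⟨t, rfl⟩ := hb; omega
    rw [hGfac, Nat.factorization_mul (by positivity) (by obtain ⟨t, rfl⟩ := hb; omega),
      Nat.Prime.factorization_pow Nat.prime_two, Finsupp.add_apply, Finsupp.single_eq_same,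
      Nat.factorization_eq_zero_of_not_dvd hb0, add_zero]
  have hSa : (a + 1 = 3 ↔ (Fintype.card F % 8 = 3 ∨ Fintype.card F % 8 = 5)) := by
    have hTq : Nat.card (torus x) = Fintype.card F - 1 ∧ Fintype.card F % 4 = 1 ∨
        Nat.card (torus x) = Fintype.card F + 1 ∧ Fintype.card F % 4 = 3 := by
      rcases (show Fintype.card F % 4 = 1 ∨ Fintype.card F % 4 = 3 by omega) with h | h
      · exact Or.inl ⟨hT.1 h, h⟩
      · exact Or.inr ⟨hT.2 h, h⟩
    obtain ⟨t, rfl⟩ := hm
    constructor
    · intro h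
      obtain rfl : a = 2 := by omega
      have h4 : Nat.card (torus x) = 8 * t + 4 := by rw [hTam]; ring
      rcases hTq with ⟨e, -⟩ | ⟨e, -⟩ <;> rw [h4] at e <;> omega
    · intro h
      by_contra ha
      obtain ⟨c, hc⟩ : 8 ∣ Nat.card (torus x) := by
        rw [hTam]; exact (Nat.pow_dvd_pow 2 (show 3 ≤ a by omega)).mul_right _
      rcases hTq with ⟨e, e'⟩ | ⟨e, e'⟩ <;> rw [hc] at e <;> omega
  -- the cyclic part
  have hcycT := isCyclic_torus hodd hreg
  obtain ⟨g0, hg0⟩ := hcycT.exists_ofOrder_eq_natCard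
  let y : Matrix.SpecialLinearGroup (Fin 2) F := ((g0 ^ m : torus x) : Matrix.SpecialLinearGroup (Fin 2) F)
  have hyT : y ∈ torus x := (g0 ^ m).2
  have hy : orderOf y = 2 ^ a := by
    simp only [y, Subgroup.orderOf_coe]
    rw [orderOf_pow' g0 (by obtain ⟨t, rfl⟩ := hm; omega), hg0, hTam,
      Nat.gcd_eq_right (Dvd.intro_left _ rfl), Nat.mul_div_cancel _ (by obtain ⟨t, rfl⟩ := hm; omega)]
  let Y := Subgroup.zpowers y
  have hYT : Y ≤ torus x := Subgroup.zpowers_le.mpr hyT
  have hYmem : ∀ t ∈ torus x, t ^ (2 ^ a) = 1 → t ∈ Y := by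
    intro t ht htp
    have hle := IsCyclic.card_pow_eq_one_le (α := torus x) (n := 2 ^ a) (by positivity)
    have hsub : (Finset.univ.filter fun z : torus x => (z : Matrix.SpecialLinearGroup (Fin 2) F) ∈ Y) ⊆
        Finset.univ.filter fun z : torus x => z ^ (2 ^ a) = 1 := by
      intro z hz
      simp only [Finset.mem_filter, Finset.mem_univ, true_and] at hz ⊢
      obtain ⟨i, hi⟩ := Subgroup.mem_zpowers_iff.mp hz
      refine Subtype.ext ?_
      rw [SubmonoidClass.coe_pow, ← hi, ← zpow_natCast, ← zpow_mul, mul_comm, zpow_mul, zpow_natCast,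
        ← hy, pow_orderOf_eq_one, one_zpow]
      rfl
    have hcardY : (Finset.univ.filter fun z : torus x => (z : Matrix.SpecialLinearGroup (Fin 2) F) ∈ Y).card = 2 ^ a := by
      rw [← hy, ← Nat.card_zpowers, ← Fintype.card_subtype, ← Nat.card_eq_fintype_card]
      exact Nat.card_congr
        { toFun := fun z => ⟨z.1.1, z.2⟩
          invFun := fun z => ⟨⟨z.1, hYT z.2⟩, z.2⟩
          left_inv := fun z => rfl
          right_inv := fun z => rfl }
    have heq := Finset.eq_of_subset_of_card_le hsub (by rw [hcardY]; convert hle using 4)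
    have : (⟨t, ht⟩ : torus x) ∈ Finset.univ.filter fun z : torus x => z ^ (2 ^ a) = 1 := by
      simp only [Finset.mem_filter, Finset.mem_univ, true_and]
      exact Subtype.ext (by rw [SubmonoidClass.coe_pow]; exact htp)
    rw [← heq] at this
    exact (Finset.mem_filter.mp this).2
  have hneg : (negOne : Matrix.SpecialLinearGroup (Fin 2) F) ∈ Y := by
    refine hYmem _ (negOne_mem_torus x) ?_
    obtain ⟨a', rfl⟩ : ∃ a', a = a' + 1 := ⟨a - 1, by omega⟩
    rw [pow_succ', pow_mul, sq, negOne_sq, one_pow]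
  obtain ⟨w, hw, hwT⟩ := exists_inverting hodd hreg
  have hww : w * w = negOne := sq_eq_negOne_of_not_mem h2 hreg hw hwT
  have hinv : ∀ t ∈ Y, w * t * w⁻¹ = t⁻¹ := fun t ht =>
    conj_eq_inv_of_mem_normalizer h2 hreg hw hwT (hYT ht)
  have hwY : w ∉ Y := fun h => hwT (hYT h)
  let S0 := twoSub Y w hinv (hww ▸ hneg)
  have hS0card : Nat.card S0 = 2 ^ (a + 1) := by
    rw [card_twoSub Y w hinv _ hwY, Nat.card_zpowers, hy, pow_succ, mul_comm]
  let S0' : Sylow 2 (Matrix.SpecialLinearGroup (Fin 2) F) := Sylow.ofCard S0 (by rw [hfac, hS0card])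
  have hyS : y ∈ S0 := Or.inl (Subgroup.mem_zpowers y)
  have hwS : w ∈ S0 := Or.inr (by simp)
  have hyns : NonScalar y := by
    refine nonScalar_of_sq_ne_one fun h => ?_
    have : orderOf y ∣ 2 := orderOf_dvd_of_pow_eq_one (by rw [sq]; exact h)
    rw [hy] at this
    have := Nat.le_of_dvd (by norm_num) this
    have : 2 ^ 2 ≤ 2 ^ a := Nat.pow_le_pow_right (by norm_num) ha2
    omega
  have hCy : ∀ g, g * y = y * g → g ∈ torus x := fun g hg => by
    rw [← torus_eq_of_mem hreg hyT hyns]; exact mem_torus.mpr hg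
  -- centraliser
  have hC0 : ∀ g, (∀ s ∈ S0, s * g = g * s) → g ∈ Subgroup.center (Matrix.SpecialLinearGroup (Fin 2) F) := by
    intro g hg
    have hgT := hCy g (hg y hyS).symm
    have h1 := conj_eq_inv_of_mem_normalizer h2 hreg hw hwT hgT
    rw [hg w hwS, mul_inv_cancel_right] at h1
    rw [mem_center_iff' h2]
    exact sq_eq_one h2 (by nth_rewrite 2 [h1]; exact mul_inv_cancel g)
  -- normaliser inside the torus
  have hNT : ∀ g ∈ Subgroup.normalizer (S0 : Set (Matrix.SpecialLinearGroup (Fin 2) F)),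
      g ∈ torus x → g ∈ Y := by
    intro g hg hgT
    have h1 : g * w * g⁻¹ = g ^ 2 * w := by
      have := conj_eq_inv_of_mem_normalizer h2 hreg hw hwT (inv_mem hgT)
      rw [inv_inv, mul_inv_eq_iff_eq_mul] at this
      rw [mul_assoc, this, sq]; group
    have h2' := (Subgroup.mem_normalizer_iff.mp hg w).mp hwS
    rw [h1] at h2'
    rcases h2' with h | h
    · exact absurd ((Subgroup.mul_mem_cancel_left _ (pow_mem hgT 2)).mp (hYT h)) hwT
    · rw [mul_inv_cancel_right] at h
      obtain ⟨i, hi⟩ := Subgroup.mem_zpowers_iff.mp h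
      have hg2 : g ^ (2 ^ (a + 1)) = 1 := by
        rw [pow_succ', pow_mul, ← hi, ← zpow_natCast, ← zpow_mul, mul_comm, zpow_mul, zpow_natCast,
          ← hy, pow_orderOf_eq_one, one_zpow]
      have hd1 := orderOf_dvd_of_pow_eq_one hg2
      have hd2 := Subgroup.orderOf_dvd_natCard _ hgT
      rw [hTam] at hd2
      refine hYmem g hgT (orderOf_dvd_iff_pow_eq_one.mp ?_)
      obtain ⟨e, -, he⟩ := (Nat.dvd_prime_pow Nat.prime_two).mp hd1
      rw [he] at hd2 ⊢
      refine (Nat.Coprime.dvd_of_dvd_mul_right ?_ hd2)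
      exact (Nat.prime_two.coprime_iff_not_dvd.mpr (by obtain ⟨t, rfl⟩ := hm; omega)).pow_left e
  obtain ⟨h, hh⟩ := MulAction.exists_smul_eq (Matrix.SpecialLinearGroup (Fin 2) F) S0' S
  subst hh
  have hcoe : ((h • S0' : Sylow 2 _) : Subgroup (Matrix.SpecialLinearGroup (Fin 2) F)) =
      S0.map (MulAut.conj h).toMonoidHom := rfl
  refine ⟨?_, ?_, ?_⟩
  · refine le_antisymm (fun g hg => ?_) (Subgroup.center_le_centralizer _)
    have : h⁻¹ * g * h ∈ Subgroup.center (Matrix.SpecialLinearGroup (Fin 2) F) := by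
      refine hC0 _ fun s hs => ?_
      have := Subgroup.mem_centralizer_iff.mp hg (h * s * h⁻¹) (hcoe ▸ ⟨s, hs, rfl⟩)
      calc s * (h⁻¹ * g * h) = h⁻¹ * (h * s * h⁻¹ * g) * h := by group
        _ = _ := by rw [this]; group
    rw [Subgroup.mem_center_iff] at this ⊢
    intro z
    have := this (h⁻¹ * z * h)
    calc z * g = h * (h⁻¹ * z * h * (h⁻¹ * g * h)) * h⁻¹ := by group
      _ = _ := by rw [this]; group
  · intro hq
    have ha3 : 3 ≤ a := by
      by_contra hlt
      have := hSa.mp (by omega)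
      omega
    refine le_antisymm ?_ Subgroup.le_normalizer
    rw [hcoe, ← Subgroup.map_equiv_normalizer_eq]
    refine Subgroup.map_mono fun g hg => ?_
    have hgy := (Subgroup.mem_normalizer_iff.mp hg y).mp hyS
    have hgyT : g * y * g⁻¹ ∈ torus x := by
      rcases hgy with h' | h'
      · exact hYT h'
      · exfalso
        have hnT : g * y * g⁻¹ ∉ torus x := fun hc =>
          hwT ((Subgroup.mul_mem_cancel_left _ (hYT h')).mp (by rwa [inv_mul_cancel_right]))
        have hN : g * y * g⁻¹ ∈ Subgroup.normalizer (torus x : Set (Matrix.SpecialLinearGroup (Fin 2) F)) := by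
          have := mul_mem (Subgroup.le_normalizer (hYT h')) hw
          rwa [inv_mul_cancel_right] at this
        have hsq' := sq_eq_negOne_of_not_mem h2 hreg hN hnT
        have : y ^ 4 = 1 := by
          have h5 : (g * y * g⁻¹) ^ 4 = 1 := by
            rw [show (4 : ℕ) = 2 + 2 by norm_num, pow_add, sq, hsq', negOne_sq]
          rw [conj_pow, mul_inv_eq_one] at h5
          exact mul_eq_left.mp h5
        have := orderOf_dvd_of_pow_eq_one this
        rw [hy] at this
        have := Nat.le_of_dvd (by norm_num) this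
        have : 2 ^ 3 ≤ 2 ^ a := Nat.pow_le_pow_right (by norm_num) ha3
        omega
    have hgN : g ∈ Subgroup.normalizer (torus x : Set (Matrix.SpecialLinearGroup (Fin 2) F)) := by
      refine Cfsg.Agent.Lib.PSLTwo.Sylow.mem_normalizer_of_conj_mem fun t ht => ?_
      have hns : NonScalar (g * y * g⁻¹) :=
        ((regular_of_mem_torus hreg hyT hyns).conj g).nonScalar
      rw [← torus_eq_of_mem hreg hgyT hns, torus_conj, torus_eq_of_mem hreg hyT hyns]
      exact ⟨t, ht, rfl⟩
    by_cases hgT : g ∈ torus x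
    · exact Or.inl (hNT g hg hgT)
    · refine Or.inr (hNT _ (mul_mem hg (inv_mem (Subgroup.le_normalizer hwS))) ?_)
      rw [mem_torus]
      have h1 := conj_eq_inv_of_mem_normalizer h2 hreg hgN hgT (self_mem_torus x)
      have h3 := conj_eq_inv_of_mem_normalizer h2 hreg (inv_mem hw) (fun hc => hwT (inv_inv w ▸ inv_mem hc)) (self_mem_torus x)
      rw [inv_inv] at h3
      calc g * w⁻¹ * x = g * (w⁻¹ * x * w) * g⁻¹ * (g * w⁻¹) := by group
        _ = g * x⁻¹ * g⁻¹ * (g * w⁻¹) := by rw [h3]
        _ = _ := by rw [show g * x⁻¹ * g⁻¹ = (g * x * g⁻¹)⁻¹ by group, h1, inv_inv]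
  · intro hq
    have ha : a = 2 := by have := hSa.mpr hq; omega
    rw [hcoe, ← Subgroup.map_equiv_normalizer_eq,
      ← Nat.card_congr (S0.equivMapOfInjective _ (MulAut.conj h).injective).toEquiv,
      ← Nat.card_congr (Subgroup.equivMapOfInjective _ _ (MulAut.conj h).injective).toEquiv]
    let N := Subgroup.normalizer (S0 : Set (Matrix.SpecialLinearGroup (Fin 2) F))
    change Nat.card N = 3 * Nat.card S0
    have hle : S0 ≤ N := Subgroup.le_normalizer
    -- at most six possible images of y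
    have hub : Nat.card N ≤ 24 := by
      have := Fintype.ofFinite N
      let f : N → Matrix.SpecialLinearGroup (Fin 2) F := fun g => g.1 * y * g.1⁻¹
      let I := (Finset.univ.filter fun z : Matrix.SpecialLinearGroup (Fin 2) F => z ∈ S0 ∧ NonScalar z)
      have hI : I.card ≤ 6 := by
        have hsub : I ⊆ ((Finset.univ.filter fun z => z ∈ S0).erase 1).erase negOne := by
          intro z hz
          simp only [I, Finset.mem_filter, Finset.mem_univ, true_and] at hz
          simp only [Finset.mem_erase, Finset.mem_filter, Finset.mem_univ, true_and]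
          exact ⟨((nonScalar_iff h2).mp hz.2).2, ((nonScalar_iff h2).mp hz.2).1, hz.1⟩
        refine le_trans (Finset.card_le_card hsub) ?_
        rw [Finset.card_erase_of_mem, Finset.card_erase_of_mem]
        · rw [← Fintype.card_subtype, ← Nat.card_eq_fintype_card, hS0card, ha]
          norm_num
        · simp [one_mem]
        · simp only [Finset.mem_erase, Finset.mem_filter, Finset.mem_univ, true_and]
          exact ⟨negOne_ne_one h2, Or.inl hneg⟩
      have hfib : ∀ z ∈ I, (Finset.univ.filter fun g : N => f g = z).card ≤ 4 := by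
        intro z _
        by_cases hne : (Finset.univ.filter fun g : N => f g = z).Nonempty
        · obtain ⟨g₁, hg₁⟩ := hne
          simp only [Finset.mem_filter, Finset.mem_univ, true_and, f] at hg₁
          have h4Y : (Finset.univ.filter fun t : Matrix.SpecialLinearGroup (Fin 2) F => t ∈ Y).card = 4 := by
            rw [← Fintype.card_subtype, ← Nat.card_eq_fintype_card]
            change Nat.card Y = 4
            rw [Nat.card_zpowers, hy, ha]; norm_num
          refine h4Y ▸ Finset.card_le_card_of_injOn (fun g : N => g₁.1⁻¹ * g.1) ?_ ?_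
          · intro g hg
            simp only [Finset.mem_coe, Finset.mem_filter, Finset.mem_univ, true_and, f] at hg ⊢
            refine hNT _ (mul_mem (inv_mem g₁.2) g.2) (hCy _ ?_)
            calc g₁.1⁻¹ * g.1 * y = g₁.1⁻¹ * (g.1 * y * g.1⁻¹) * g.1 := by group
              _ = _ := by rw [hg, ← hg₁]; group
          · intro g _ g' _ e
            exact Subtype.ext (mul_left_cancel e)
        · rw [Finset.not_nonempty_iff_eq_empty] at hne
          simp [hne]
      have := Finset.card_le_mul_card_image_of_maps_to (s := (Finset.univ : Finset N)) (f := f)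
        (fun g _ => by
          simp only [I, Finset.mem_filter, Finset.mem_univ, true_and]
          exact ⟨(Subgroup.mem_normalizer_iff.mp g.2 y).mp hyS,
            ((regular_of_mem_torus hreg hyT hyns).conj g.1).nonScalar⟩) 4 hfib
      rw [Finset.card_univ, ← Nat.card_eq_fintype_card] at this
      omega
    -- an element moving y
    obtain ⟨g, hgN, hgS⟩ : ∃ g ∈ N, g ∉ S0 := by
      have hregy := regular_of_mem_torus hreg hyT hyns
      have hy2 : y * y = negOne := by
        have h1 : (y * y) * (y * y) = 1 := by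
          rw [← sq, ← sq, ← pow_mul, show 2 * 2 = 2 ^ a by rw [ha]; norm_num, ← hy, pow_orderOf_eq_one]
        refine (sq_eq_one h2 h1).resolve_left fun h1' => ?_
        exact ((nonScalar_iff h2).mp hyns).2 ((sq_eq_one h2 h1').resolve_left ((nonScalar_iff h2).mp hyns).1)
      obtain ⟨k, hk⟩ := exists_conj (b := w) (Nat.odd_iff.mp hodd) h2 hregy
        (by rw [slTr_eq_zero_of_sq hww, slTr_eq_zero_of_sq hy2])
      have hregw : Regular w := hk ▸ hregy.conj k
      have hwns := hregw.nonScalar
      have hTw : Nat.card (torus w) = 2 ^ a * m := by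
        rw [← hk, card_torus_conj, torus_eq_of_mem hreg hyT hyns, hTam]
      -- all three of k w k⁻¹, y, y w invert w
      have hwy : y * w * y⁻¹ = w⁻¹ := by
        have h1 := hinv y (Subgroup.mem_zpowers y)
        rw [mul_inv_eq_iff_eq_mul] at h1
        have hw' : w⁻¹ = negOne * w :=
          inv_eq_of_mul_eq_one_right (by rw [← mul_assoc, ← negOne_central, mul_assoc, hww, negOne_sq])
        have hy' : y⁻¹ = negOne * y :=
          inv_eq_of_mul_eq_one_right (by rw [← mul_assoc, ← negOne_central, mul_assoc, hy2, negOne_sq])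
        rw [mul_inv_eq_iff_eq_mul, hw', mul_assoc, h1, hy', ← mul_assoc negOne, ← mul_assoc negOne, negOne_sq, one_mul]
      have hkw : (k * w * k⁻¹) * w * (k * w * k⁻¹)⁻¹ = w⁻¹ := by
        have h1 := hinv y (Subgroup.mem_zpowers y)
        calc (k * w * k⁻¹) * w * (k * w * k⁻¹)⁻¹ = k * (w * (k⁻¹ * w * k) * w⁻¹) * k⁻¹ := by group
          _ = k * (w * y * w⁻¹) * k⁻¹ := by
            rw [show k⁻¹ * w * k = y by rw [← hk]; group]
          _ = _ := by rw [h1, ← hk]; group
      set w' := k * w * k⁻¹ with hw'def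
      have hu1 : y * w'⁻¹ ∈ torus w := by
        rw [mem_torus]
        calc y * w'⁻¹ * w = y * (w'⁻¹ * w * w') * w'⁻¹ := by group
          _ = y * w⁻¹ * w'⁻¹ := by
            have h5 : w'⁻¹ * w * w' = w⁻¹ := by
              have h6 := congrArg (fun z => w'⁻¹ * z⁻¹ * w') hkw
              rw [show w'⁻¹ * (w' * w * w'⁻¹)⁻¹ * w' = w⁻¹ by group, inv_inv] at h6
              exact h6.symm
            rw [h5]
          _ = (y * w * y⁻¹)⁻¹ * (y * w'⁻¹) := by group
          _ = _ := by rw [hwy, inv_inv]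
      have hcw := isCyclic_torus hodd hregw
      obtain ⟨g1, hg1⟩ := hcw.exists_generator
      obtain ⟨i, hi⟩ := Subgroup.mem_zpowers_iff.mp (hg1 ⟨_, hu1⟩)
      obtain ⟨j, hj⟩ := Subgroup.mem_zpowers_iff.mp (hg1 ⟨w, self_mem_torus w⟩)
      have hordg1 : orderOf g1 = 2 ^ a * m := by
        rw [orderOf_eq_card_of_forall_mem_zpowers hg1, hTw]
      have hjodd : Odd j := by
        rw [← Int.not_even_iff_odd]
        rintro ⟨j', rfl⟩
        have h4' : (g1 ^ (j' + j')) ^ ((2 * m : ℕ) : ℤ) = 1 := by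
          have : (g1 ^ (orderOf g1 : ℤ)) ^ j' = 1 := by rw [zpow_natCast, pow_orderOf_eq_one, one_zpow]
          rw [hordg1, ha, ← zpow_mul] at this
          rw [← zpow_mul]
          convert this using 2
          push_cast
          ring
        rw [hj, zpow_natCast, pow_mul] at h4'
        have h5 := congrArg Subtype.val h4'
        simp only [SubmonoidClass.coe_pow, OneMemClass.coe_one] at h5
        rw [sq, hww] at h5
        obtain ⟨t, rfl⟩ := hm
        rw [pow_add, pow_mul, sq, negOne_sq, one_pow, one_mul, pow_one] at h5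
        exact negOne_ne_one h2 h5
      obtain ⟨t, htT, ht⟩ : ∃ t ∈ torus w, t * t * w' ∈ S0 := by
        rcases Int.even_or_odd i with ⟨i', hi'⟩ | hio
        · refine ⟨(g1 ^ i' : torus w).1, (g1 ^ i').2, ?_⟩
          rw [← Subgroup.coe_mul, ← zpow_add, ← hi', hi, inv_mul_cancel_right]
          exact hyS
        · obtain ⟨i', hi'⟩ : Even (i + j) := hio.add_odd hjodd
          refine ⟨(g1 ^ i' : torus w).1, (g1 ^ i').2, ?_⟩
          rw [← Subgroup.coe_mul, ← zpow_add, ← hi', zpow_add, hi, hj, Subgroup.coe_mul]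
          have hc : y * w'⁻¹ * w = w * (y * w'⁻¹) := mem_torus.mp hu1
          simp only
          rw [hc, mul_assoc, inv_mul_cancel_right]
          exact mul_mem hwS hyS
      refine ⟨t * k, ?_, ?_⟩
      · refine Cfsg.Agent.Lib.PSLTwo.Sylow.mem_normalizer_of_conj_mem fun s hs => ?_
        have hgy : t * k * y * (t * k)⁻¹ ∈ S0 := by
          rw [show t * k * y * (t * k)⁻¹ = t * (k * y * k⁻¹) * t⁻¹ by group, hk, mem_torus.mp htT,
            mul_inv_cancel_right]
          exact hwS
        have hgw : t * k * w * (t * k)⁻¹ ∈ S0 := by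
          rw [show t * k * w * (t * k)⁻¹ = t * w' * t⁻¹ by rw [hw'def]; group]
          have h7 : w' * t⁻¹ = t * w' := by
            have hw'N : w' ∈ Subgroup.normalizer (torus w : Set (Matrix.SpecialLinearGroup (Fin 2) F)) := by
              refine Cfsg.Agent.Lib.PSLTwo.Sylow.mem_normalizer_of_conj_mem fun z hz => ?_
              rw [← torus_eq_of_mem hregw (inv_mem (self_mem_torus w)) hregw.inv.nonScalar, ← hkw, torus_conj]
              exact ⟨z, hz, rfl⟩
            have hw'T : w' ∉ torus w := by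
              intro hc
              rw [mem_torus.mp hc, mul_inv_cancel_right] at hkw
              have h8 : w * w = 1 := by nth_rewrite 2 [hkw]; exact mul_inv_cancel w
              rw [hww] at h8
              exact negOne_ne_one h2 h8
            have h8 := conj_eq_inv_of_mem_normalizer h2 hregw hw'N hw'T (inv_mem htT)
            rwa [inv_inv, mul_inv_eq_iff_eq_mul] at h8
          rw [mul_assoc, h7, ← mul_assoc]
          exact ht
        rcases hs with hs | hs
        · obtain ⟨e, rfl⟩ := Subgroup.mem_zpowers_iff.mp hs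
          rw [← conj_zpow]; exact zpow_mem hgy e
        · obtain ⟨e, he⟩ := Subgroup.mem_zpowers_iff.mp hs
          rw [show t * k * s * (t * k)⁻¹ = t * k * (s * w⁻¹) * (t * k)⁻¹ * (t * k * w * (t * k)⁻¹) by group]
          refine mul_mem ?_ hgw
          rw [← he, ← conj_zpow]; exact zpow_mem hgy e
      · intro hS
        have e1 : t * k * y * (t * k)⁻¹ = w := by
          rw [show t * k * y * (t * k)⁻¹ = t * (k * y * k⁻¹) * t⁻¹ by group, hk, mem_torus.mp htT,
            mul_inv_cancel_right]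
        apply hwT
        rw [← e1]
        rcases hS with hS | hS
        · exact mul_mem (mul_mem (hYT hS) hyT) (inv_mem (hYT hS))
        · have hzN : t * k ∈ Subgroup.normalizer (torus x : Set (Matrix.SpecialLinearGroup (Fin 2) F)) := by
            have := mul_mem (Subgroup.le_normalizer (hYT hS)) hw
            rwa [inv_mul_cancel_right] at this
          exact (Subgroup.mem_normalizer_iff.mp hzN y).mp hyT
    -- conclude
    obtain ⟨r, hr⟩ := Subgroup.card_dvd_of_le hle
    have hS8 : Nat.card S0 = 8 := by rw [hS0card, ha]; norm_num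
    have hr2 : ¬ 2 ∣ r := by
      rintro ⟨s, rfl⟩
      have hd : 2 ^ 4 ∣ Nat.card (Matrix.SpecialLinearGroup (Fin 2) F) :=
        Dvd.dvd.trans ⟨s, by rw [hr, hS8]; ring⟩ (Subgroup.card_subgroup_dvd_card N)
      have := (Nat.Prime.pow_dvd_iff_le_factorization Nat.prime_two Nat.card_pos.ne').mp hd
      omega
    have hr1 : r ≠ 1 := by
      intro h1
      rw [h1, mul_one] at hr
      exact hgS (Subgroup.eq_of_le_of_card_ge hle (le_of_eq hr) ▸ hgN)
    rw [hS8] at hr
    omega

end Cfsg.Agent.S2431
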