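import Cfsg.Statements.S2432
import Cfsg.Agent.Lib.SL2Tori.Borel

set_option autoImplicit false
open Cfsg

namespace Cfsg.Agent.S2432

open Cfsg.Agent.Lib.SL2Tori.Borel Cfsg.Agent.Lib.PSLTwo.Sylow Cfsg.Agent.Lib.Induced.Basic

open scoped ComplexConjugate

variable {F : Type*} [Field F] [Fintype F] [DecidableEq F]

theorem sum_ind_borel (β : MulChar F ℂ) (a : Fˣ) :
    ∑ u : F, Cfsg.indFun borel (lin β) (mkB a u).1 =
      (Fintype.card F : ℂ) * (β (a : F) + β ((a⁻¹ : Fˣ) : F)) := by
  have e : ∀ u : F, Cfsg.indFun borel (lin β) (mkB a u).1 =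
      (if u = 0 then β ((a⁻¹ : Fˣ) : F) else 0) + ∑ c : F,
        if 0 + c * (((a⁻¹ : Fˣ) : F) - a) - c ^ 2 * u = 0 then β ((a : F) + u * c) else 0 :=
    fun u => ind_eq β (mkB a u).1
  simp only [e, Finset.sum_add_distrib]
  rw [Finset.sum_eq_single (0 : F) (fun x _ hx => if_neg hx) (by simp), if_pos rfl, Finset.sum_comm,
    ← Finset.add_sum_erase _ _ (Finset.mem_univ (0 : F))]
  have h0 : ∑ x : F, (if 0 + 0 * (((a⁻¹ : Fˣ) : F) - a) - 0 ^ 2 * x = 0 then β ((a : F) + x * 0) else 0) =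
      (Fintype.card F : ℂ) * β (a : F) := by
    simp
  rw [h0]
  have hc : ∀ c ∈ (Finset.univ : Finset F).erase 0,
      ∑ x : F, (if 0 + c * (((a⁻¹ : Fˣ) : F) - a) - c ^ 2 * x = 0 then β ((a : F) + x * c) else 0) =
        β ((a⁻¹ : Fˣ) : F) := by
    intro c hc
    have hc0 : c ≠ 0 := Finset.ne_of_mem_erase hc
    rw [Finset.sum_eq_single ((((a⁻¹ : Fˣ) : F) - a) / c)]
    · rw [if_pos]
      · congr 1
        field_simp
        ring
      · field_simp
        ring
    · intro x _ hx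
      rw [if_neg]
      intro h
      apply hx
      rw [eq_div_iff hc0]
      refine mul_left_cancel₀ hc0 ?_
      linear_combination -h
    · simp
  rw [Finset.sum_congr rfl hc, Finset.sum_const, Finset.card_erase_of_mem (Finset.mem_univ _),
    Finset.card_univ, nsmul_eq_mul, Nat.cast_sub Fintype.card_pos]
  push_cast
  ring

theorem sum_units (χ : MulChar F ℂ) [Decidable (χ = 1)] :
    ∑ a : Fˣ, χ (a : F) = if χ = 1 then ((Fintype.card F - 1 : ℕ) : ℂ) else 0 := by
  have h : ∑ a : Fˣ, χ (a : F) = ∑ x : F, χ x := by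
    refine Finset.sum_of_injOn (fun a : Fˣ => (a : F)) (fun a _ b _ e => Units.ext e)
      (by simp) ?_ (fun a _ => rfl)
    intro x _ hx
    refine MulChar.map_nonunit χ fun hu => hx ⟨hu.unit, Finset.mem_coe.mpr (Finset.mem_univ _), rfl⟩
  split_ifs with h1
  · subst h1
    rw [h, MulChar.sum_one_eq_card_units, Fintype.card_units]
  · rw [h, MulChar.sum_eq_zero_of_ne_one h1]

/-- SL₂(q), q odd: for multiplicative characters α, β of F_q, the inner product of the characters induced from b ↦ α(b₁₁) and b ↦ β(b₁₁) on the Borel subgroup is [α = β] + [α = β⁻¹] (Mackey formula). -/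
theorem result {F : Type*} [Field F] [Fintype F] [DecidableEq F] (hodd : Odd (Fintype.card F))
    (α β : MulChar F ℂ) [Decidable (α = β)] [Decidable (α = β⁻¹)] :
    Cfsg.classInner (Cfsg.indFun ((Cfsg.upperTriangularGL 2 F).comap Matrix.SpecialLinearGroup.toGL) (fun b => α (((b : Matrix.SpecialLinearGroup (Fin 2) F) : Matrix (Fin 2) (Fin 2) F) 0 0))) (Cfsg.indFun ((Cfsg.upperTriangularGL 2 F).comap Matrix.SpecialLinearGroup.toGL) (fun b => β (((b : Matrix.SpecialLinearGroup (Fin 2) F) : Matrix (Fin 2) (Fin 2) F) 0 0))) =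
      (if α = β then 1 else 0) + (if α = β⁻¹ then 1 else 0) := by
  classical
  change Cfsg.classInner (Cfsg.indFun borel (lin α)) (Cfsg.indFun borel (lin β)) = _
  have := Fintype.ofFinite (borel : Subgroup (Matrix.SpecialLinearGroup (Fin 2) F))
  rw [frobenius_reciprocity _ _ (isClassFunction_indFun _ _), Cfsg.classInner, card_borel,
    ← borelEquiv.sum_comp, Fintype.sum_prod_type]
  have hin : ∀ a : Fˣ, ∑ u : F, lin α (borelEquiv (a, u)) *
      conj (Cfsg.indFun borel (lin β) (borelEquiv (a, u)).1) =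
      (Fintype.card F : ℂ) * ((α * β⁻¹) (a : F) + (α * β) (a : F)) := by
    intro a
    have h : ∀ u : F, lin α (borelEquiv (a, u)) = α (a : F) := fun u => by simp [lin, borelEquiv_apply, mkB]
    simp only [h, ← Finset.mul_sum]
    rw [← map_sum]
    simp only [borelEquiv_apply]
    rw [sum_ind_borel, map_mul, map_add, map_natCast]
    rw [starRingEnd_apply, starRingEnd_apply, MulChar.star_apply', MulChar.star_apply']
    have hinv : β⁻¹ ((a⁻¹ : Fˣ) : F) = β (a : F) := by
      rw [MulChar.inv_apply, Ring.inverse_unit, inv_inv]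
    rw [hinv, MulChar.mul_apply, MulChar.mul_apply]
    ring
  rw [Finset.sum_congr rfl (fun a _ => hin a), ← Finset.mul_sum, Finset.sum_add_distrib,
    sum_units, sum_units]
  have e1 : α * β⁻¹ = 1 ↔ α = β := mul_inv_eq_one
  have e2 : α * β = 1 ↔ α = β⁻¹ := mul_eq_one_iff_eq_inv
  have hq : (1 : ℕ) < Fintype.card F := Fintype.one_lt_card
  have hq0 : (Fintype.card F : ℂ) ≠ 0 := by exact_mod_cast Fintype.card_ne_zero
  have hq1 : ((Fintype.card F - 1 : ℕ) : ℂ) ≠ 0 := by exact_mod_cast (by omega : Fintype.card F - 1 ≠ 0)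
  rw [Nat.cast_mul]
  simp only [e1, e2]
  split_ifs <;> field_simp <;> ring

end Cfsg.Agent.S2432
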