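import Cfsg.Statements.S2433
import Cfsg.Agent.Lib.SL2Tori.Borel

set_option autoImplicit false
open Cfsg

namespace Cfsg.Agent.S2433

open Cfsg.Agent.Lib.SL2Tori.Borel Cfsg.Agent.Lib.PSLTwo.Sylow

/-- SL₂(q), q odd: the character induced from b ↦ α(b₁₁) on the Borel subgroup takes the values α(a) + α(a⁻¹) at diag(a, a⁻¹) (a² ≠ 1), 0 at elements without eigenvector, α(ε) at ε times a non-identity unipotent, (q + 1)α(ε) at ε = ±1. -/
theorem result {F : Type*} [Field F] [Fintype F] [DecidableEq F] (hodd : Odd (Fintype.card F)) (α : MulChar F ℂ) (g : Matrix.SpecialLinearGroup (Fin 2) F) :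
    ((g : Matrix (Fin 2) (Fin 2) F) 0 1 = 0 → (g : Matrix (Fin 2) (Fin 2) F) 1 0 = 0 → (g : Matrix (Fin 2) (Fin 2) F) 0 0 ^ 2 ≠ 1 →
      (Cfsg.indFun ((Cfsg.upperTriangularGL 2 F).comap Matrix.SpecialLinearGroup.toGL) (fun b => α (((b : Matrix.SpecialLinearGroup (Fin 2) F) : Matrix (Fin 2) (Fin 2) F) 0 0))) g = α ((g : Matrix (Fin 2) (Fin 2) F) 0 0) + α ((g : Matrix (Fin 2) (Fin 2) F) 1 1)) ∧
    ((∀ (c : F) (v : Fin 2 → F), v ≠ 0 → (g : Matrix (Fin 2) (Fin 2) F).mulVec v ≠ c • v) → (Cfsg.indFun ((Cfsg.upperTriangularGL 2 F).comap Matrix.SpecialLinearGroup.toGL) (fun b => α (((b : Matrix.SpecialLinearGroup (Fin 2) F) : Matrix (Fin 2) (Fin 2) F) 0 0))) g = 0) ∧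
    ((g : Matrix (Fin 2) (Fin 2) F) 1 0 = 0 → (g : Matrix (Fin 2) (Fin 2) F) 0 0 = (g : Matrix (Fin 2) (Fin 2) F) 1 1 → (g : Matrix (Fin 2) (Fin 2) F) 0 1 ≠ 0 →
      (Cfsg.indFun ((Cfsg.upperTriangularGL 2 F).comap Matrix.SpecialLinearGroup.toGL) (fun b => α (((b : Matrix.SpecialLinearGroup (Fin 2) F) : Matrix (Fin 2) (Fin 2) F) 0 0))) g = α ((g : Matrix (Fin 2) (Fin 2) F) 0 0)) ∧
    ((g : Matrix (Fin 2) (Fin 2) F) 0 1 = 0 → (g : Matrix (Fin 2) (Fin 2) F) 1 0 = 0 → (g : Matrix (Fin 2) (Fin 2) F) 0 0 = (g : Matrix (Fin 2) (Fin 2) F) 1 1 →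
      (Cfsg.indFun ((Cfsg.upperTriangularGL 2 F).comap Matrix.SpecialLinearGroup.toGL) (fun b => α (((b : Matrix.SpecialLinearGroup (Fin 2) F) : Matrix (Fin 2) (Fin 2) F) 0 0))) g = ((Fintype.card F : ℂ) + 1) * α ((g : Matrix (Fin 2) (Fin 2) F) 0 0)) := by
  change ((_ → _ → _ → Cfsg.indFun borel (lin α) g = _) ∧ (_ → Cfsg.indFun borel (lin α) g = _) ∧
    (_ → _ → _ → Cfsg.indFun borel (lin α) g = _) ∧ (_ → _ → _ → Cfsg.indFun borel (lin α) g = _))
  refine ⟨?_, ?_, ?_, ?_⟩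
  · intro h01 h10 hne
    rw [ind_eq, if_pos h01, add_comm]
    congr 1
    have hd : g.1 1 1 - g.1 0 0 ≠ 0 := by
      intro h
      have := det_eq g
      rw [h01, zero_mul, sub_zero, sub_eq_zero.mp h, ← sq] at this
      exact hne this
    rw [Finset.sum_eq_single (0 : F)]
    · simp [h10]
    · intro c _ hc
      rw [if_neg]
      simp [h10, h01, hc, hd]
    · simp
  · intro hno
    rw [ind_eq, if_neg, zero_add]
    · refine Finset.sum_eq_zero fun c _ => if_neg fun h => ?_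
      refine hno (g.1 0 0 + g.1 0 1 * c) ![1, c] (fun hv => by simpa using congrFun hv 0) ?_
      funext i
      fin_cases i
      · simp [Matrix.mulVec, dotProduct, Fin.sum_univ_two]
      · simp [Matrix.mulVec, dotProduct, Fin.sum_univ_two]
        linear_combination h
    · intro h
      refine hno (g.1 1 1) ![0, 1] (fun hv => by simpa using congrFun hv 1) ?_
      funext i
      fin_cases i <;> simp [Matrix.mulVec, dotProduct, Fin.sum_univ_two, h]
  · intro h10 he h01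
    rw [ind_eq, if_neg h01, zero_add, Finset.sum_eq_single (0 : F)]
    · simp [h10]
    · intro c _ hc
      rw [if_neg]
      simp [h10, he, hc, h01]
    · simp
  · intro h01 h10 he
    rw [ind_eq, if_pos h01]
    simp only [h01, h10, ← he, sub_self, mul_zero, zero_add, zero_mul, sub_zero, add_zero, if_true]
    rw [Finset.sum_const, Finset.card_univ, nsmul_eq_mul]
    ring

end Cfsg.Agent.S2433
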