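import Cfsg.Statements.S2434
import Cfsg.Agent.Lib.SL2Chars49.Counts
-- import your own Cfsg.Agent.* helpers here

set_option autoImplicit false
open Cfsg

namespace Cfsg.Agent.S2434

open Cfsg.Agent.Lib.SL2Chars49

/-- Let F be a finite field with q elements, q odd, and C a cyclic subgroup of order q + 1 of SL₂ over F (a non-split torus; it contains the centre). For every homomorphism θ from C to the non-zero complex numbers with θ² ≠ 1 there is an irreducible complex character χ of degree q − 1 such that χ(c) = −θ(c) − θ(c)⁻¹ for every non-central c in C, χ(zg) = θ(z)χ(g) for central z in C, χ vanishes at diagonal elements with entry a, a² ≠ 1, and χ takes the value −1 at every upper unitriangular element other than 1. Conversely every irreducible character of degree q − 1 has, for some such θ, the values −θ(c) − θ(c)⁻¹ at the non-central elements c of C (for q ≥ 5 these are exactly the cuspidal characters of degree q − 1). -/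
theorem result {F : Type*} [Field F] [Fintype F] (hodd : Odd (Fintype.card F))
    (C : Subgroup (Matrix.SpecialLinearGroup (Fin 2) F)) (hC : IsCyclic C) (hcard : Nat.card C = Fintype.card F + 1) :
    (∀ θ : C →* ℂˣ, (∃ c : C, θ c ^ 2 ≠ 1) →
      ∃ χ : Matrix.SpecialLinearGroup (Fin 2) F → ℂ, Cfsg.IsIrrCharacter (Matrix.SpecialLinearGroup (Fin 2) F) χ ∧ χ 1 = (Fintype.card F : ℂ) - 1 ∧
        (∀ c : C, (c : Matrix.SpecialLinearGroup (Fin 2) F) ∉ Subgroup.center (Matrix.SpecialLinearGroup (Fin 2) F) → χ c = -((θ c).val + (θ c)⁻¹.val)) ∧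
        (∀ c : C, (c : Matrix.SpecialLinearGroup (Fin 2) F) ∈ Subgroup.center (Matrix.SpecialLinearGroup (Fin 2) F) → ∀ g : Matrix.SpecialLinearGroup (Fin 2) F, χ ((c : Matrix.SpecialLinearGroup (Fin 2) F) * g) = (θ c).val * χ g) ∧
        (∀ g : Matrix.SpecialLinearGroup (Fin 2) F, (g : Matrix (Fin 2) (Fin 2) F) 0 1 = 0 → (g : Matrix (Fin 2) (Fin 2) F) 1 0 = 0 → (g : Matrix (Fin 2) (Fin 2) F) 0 0 ^ 2 ≠ 1 → χ g = 0) ∧
        (∀ g : Matrix.SpecialLinearGroup (Fin 2) F, (g : Matrix (Fin 2) (Fin 2) F) 1 0 = 0 → (g : Matrix (Fin 2) (Fin 2) F) 0 0 = 1 → (g : Matrix (Fin 2) (Fin 2) F) 1 1 = 1 → (g : Matrix (Fin 2) (Fin 2) F) 0 1 ≠ 0 → χ g = -1)) ∧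
    (∀ χ : Matrix.SpecialLinearGroup (Fin 2) F → ℂ, Cfsg.IsIrrCharacter (Matrix.SpecialLinearGroup (Fin 2) F) χ → χ 1 = (Fintype.card F : ℂ) - 1 →
      ∃ θ : C →* ℂˣ, (∃ c : C, θ c ^ 2 ≠ 1) ∧
        ∀ c : C, (c : Matrix.SpecialLinearGroup (Fin 2) F) ∉ Subgroup.center (Matrix.SpecialLinearGroup (Fin 2) F) → χ c = -((θ c).val + (θ c)⁻¹.val)) := by
  classical
  constructor
  · intro θ hθ
    have hθ2 : θ ^ 2 ≠ 1 := by
      obtain ⟨c, hc⟩ := hθ
      intro e
      exact hc (DFunLike.congr_fun e c)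
    refine ⟨dX hC hcard θ, isIrr_dX hC hcard hθ2, dX_one hC hcard θ, fun c hc => ?_,
      fun c hc g => ?_, fun g h01 h10 hsq => ?_, fun g h10 h00 h11 h01 => ?_⟩
    · have hn : Cfsg.Agent.Lib.PSLTwo.Sylow.NonScalar (c : Matrix.SpecialLinearGroup (Fin 2) F) := by
        by_contra h
        obtain ⟨z, hz, e⟩ := scalar_eq_nu h
        exact hc (Subgroup.mem_center_iff.mpr fun g => by rw [e]; exact nu_zero_central z hz g)
      rw [dX_C hC hcard θ c hn, map_inv]
    · obtain ⟨k, hk⟩ := central_apply (isIrr_dX hC hcard hθ2)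
        (fun x => Subgroup.mem_center_iff.mp hc x)
      obtain ⟨z, hz⟩ : ∃ z : RtT F, (c : Matrix.SpecialLinearGroup (Fin 2) F) = sc z := by
        rcases Cfsg.Agent.Lib.SL2Tori.Products.mem_center_cases hc with e | e
        · exact ⟨⟨1, rt_one⟩, e.trans nu_one_zero.symm⟩
        · exact ⟨⟨-1, rt_neg_one⟩, e.trans nu_neg_one_zero.symm⟩
      have hc' : scC hC hcard z = c := Subtype.ext hz.symm
      have h1 := hk 1
      rw [mul_one, dX_one, hz, dX_sc, hc'] at h1
      have hne : ((Fintype.card F : ℂ) - 1) ≠ 0 := by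
        rw [sub_ne_zero]
        exact_mod_cast (by have := two_le_q (F := F); omega : Fintype.card F ≠ 1)
      rw [hk g, mul_right_cancel₀ hne (by linear_combination -h1 :
        k * ((Fintype.card F : ℂ) - 1) = (θ c).val * ((Fintype.card F : ℂ) - 1))]
    · obtain ⟨a, rfl, -⟩ := exists_eq_dg h01 h10
      exact dX_dg hC hcard θ (mul_self_ne_one_of_sq hsq)
    · obtain ⟨z, e, hz⟩ := exists_eq_nu h10 (h00.trans h11.symm)
      have hz1 : scC hC hcard z = 1 := by
        obtain rfl : z = ⟨1, rt_one⟩ := Subtype.ext (hz.trans h00)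
        exact Subtype.ext nu_one_zero
      rw [e, dX_nu hC hcard θ z h01, hz1, map_one, Units.val_one]
  · intro χ hχ h
    have hq3 : Fintype.card F = 3 ∨ 4 ≤ Fintype.card F := by
      obtain ⟨k, hk⟩ := hodd
      have := two_le_q (F := F)
      omega
    have hns : ∀ c : C, (c : Matrix.SpecialLinearGroup (Fin 2) F) ∉
        Subgroup.center (Matrix.SpecialLinearGroup (Fin 2) F) →
        Cfsg.Agent.Lib.PSLTwo.Sylow.NonScalar (c : Matrix.SpecialLinearGroup (Fin 2) F) := by
      intro c hc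
      by_contra h
      obtain ⟨z, hz, e⟩ := scalar_eq_nu h
      exact hc (Subgroup.mem_center_iff.mpr fun g => by rw [e]; exact nu_zero_central z hz g)
    have key : ∀ θ : C →* ℂˣ, θ ^ 2 ≠ 1 → ∃ c : C, θ c ^ 2 ≠ 1 := fun θ hθ => by
      by_contra hall
      push Not at hall
      exact hθ (MonoidHom.ext fun c => hall c)
    rcases hq3 with h3 | h4
    · rcases classify hC hcard hχ with hb | ⟨-, hb | hb⟩
      · rcases hb.degree with ⟨e, -⟩ | ⟨e, -⟩ | ⟨e, -⟩ | ⟨-, θ, hθ, rfl⟩
        · rw [h, h3] at e; norm_num at e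
        · rw [h] at e; exact absurd (by linear_combination -e : (1 : ℂ) = 0) one_ne_zero
        · rw [h] at e; exact absurd (by linear_combination -e / 2 : (1 : ℂ) = 0) one_ne_zero
        · exact ⟨θ, key θ hθ, fun c hc => by rw [dX_C hC hcard θ c (hns c hc), map_inv]⟩
      · obtain ⟨θ, hθ⟩ : ∃ θ, θ ∈ xSet C := by
          refine Finset.card_pos.mp ?_
          have := card_xSet hC hcard
          have := card_rtT_of_odd hodd
          omega
        obtain ⟨ε, d, -, -, -, -, hv, -⟩ := hb.values hC hcard hodd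
        refine ⟨θ, key θ (mem_xSet.mp hθ), fun c hc => ?_⟩
        rw [hv c (hns c hc), ← map_inv θ c, theta_sum_zero_of_three hC hcard h3 (mem_xSet.mp hθ) c
          (hns c hc), neg_zero]
      · have e := hb.degree
        rw [h, h3] at e; norm_num at e
    · obtain ⟨θ, hθ, rfl⟩ := exists_dX_of_deg hC hcard hχ h4 h
      exact ⟨θ, key θ hθ, fun c hc => by rw [dX_C hC hcard θ c (hns c hc), map_inv]⟩

end Cfsg.Agent.S2434
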