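import Cfsg.Statements.S2435
import Cfsg.Agent.Lib.SL2Chars49.Values
-- import your own Cfsg.Agent.* helpers here

set_option autoImplicit false
open Cfsg

namespace Cfsg.Agent.S2435

open Cfsg.Agent.Lib.SL2Chars49

/-- Let F be a finite field with q elements, q odd and q ≥ 5, and χ an irreducible complex character of SL₂ over F. If χ has degree (q + 1)/2, then at a diagonal element with entry a, a² ≠ 1, χ takes the value 1 when a is a square in F and −1 otherwise. If χ has degree (q − 1)/2, then at an element g with no eigenvector in F² (so g has order dividing q + 1), χ takes the value −1 when g raised to the power (q + 1)/2 is the identity and the value 1 otherwise. -/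
theorem result {F : Type*} [Field F] [Fintype F] (hodd : Odd (Fintype.card F)) (hq : 5 ≤ Fintype.card F)
    (χ : Matrix.SpecialLinearGroup (Fin 2) F → ℂ) (hχ : Cfsg.IsIrrCharacter (Matrix.SpecialLinearGroup (Fin 2) F) χ) (g : Matrix.SpecialLinearGroup (Fin 2) F) :
    (χ 1 = (((Fintype.card F + 1) / 2 : ℕ) : ℂ) → (g : Matrix (Fin 2) (Fin 2) F) 0 1 = 0 → (g : Matrix (Fin 2) (Fin 2) F) 1 0 = 0 → (g : Matrix (Fin 2) (Fin 2) F) 0 0 ^ 2 ≠ 1 →
      (IsSquare ((g : Matrix (Fin 2) (Fin 2) F) 0 0) → χ g = 1) ∧ (¬ IsSquare ((g : Matrix (Fin 2) (Fin 2) F) 0 0) → χ g = -1)) ∧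
    (χ 1 = (((Fintype.card F - 1) / 2 : ℕ) : ℂ) → (∀ (c : F) (v : Fin 2 → F), v ≠ 0 → (g : Matrix (Fin 2) (Fin 2) F).mulVec v ≠ c • v) →
      (((g ^ ((Fintype.card F + 1) / 2)) : Matrix (Fin 2) (Fin 2) F) = 1 → χ g = -1) ∧ (((g ^ ((Fintype.card F + 1) / 2)) : Matrix (Fin 2) (Fin 2) F) ≠ 1 → χ g = 1)) := by
  classical
  obtain ⟨C, hC, hcard⟩ := exists_C (F := F)
  have hcl : Cfsg.IsClassFunction (Matrix.SpecialLinearGroup (Fin 2) F) χ := Cfsg.Agent.Lib.Characters.Basic.isClassFunction_irr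
    (⟨χ, hχ⟩ : Cfsg.IrrCharacter (Matrix.SpecialLinearGroup (Fin 2) F))
  constructor
  · intro h h01 h10 hsq
    obtain ⟨ε, d, hε, hε1, -, hv, -, -⟩ :=
      (isHalfP_of_deg hC hcard hχ hodd (by omega) h).values hC hcard hodd
    obtain ⟨a, rfl, ha⟩ := exists_eq_dg h01 h10
    obtain ⟨e1, e2⟩ := eps_apply hε hε1 hodd (a := (a : F)) a.ne_zero
    rw [hv a (mul_self_ne_one_of_sq hsq), ← ha]
    exact ⟨e1, e2⟩
  · intro h hn
    obtain ⟨ε, θ, d, -, -, hθ, hθ1, -, -, hv, -⟩ :=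
      (isHalfM_of_deg hC hcard hχ hodd (by omega) h).values hodd
    obtain ⟨c, P, hc, rfl⟩ := exists_conj_of_noEigen hC hcard hn
    rw [hcl, hv c hc, homC_sq_one_apply hC hcard hθ hθ1]
    have hiff : (((P * (c : Matrix.SpecialLinearGroup (Fin 2) F) * P⁻¹) ^ ((Fintype.card F + 1) / 2) :
        Matrix.SpecialLinearGroup (Fin 2) F) : Matrix (Fin 2) (Fin 2) F) = 1 ↔
        (c : Matrix.SpecialLinearGroup (Fin 2) F) ^ ((Fintype.card F + 1) / 2) = 1 := by
      rw [conj_pow, ← Matrix.SpecialLinearGroup.coe_one,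
        ← conj_eq_one_iff (a := P)]
      exact ⟨fun e => Subtype.ext e, fun e => congrArg Subtype.val e⟩
    simp only [Matrix.SpecialLinearGroup.coe_pow] at hiff
    constructor
    · intro e; rw [if_pos (hiff.mp e)]
    · intro e; rw [if_neg fun e' => e (hiff.mpr e')]; ring

end Cfsg.Agent.S2435
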