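import Cfsg.Statements.S2436
import Cfsg.Agent.Lib.SL2Chars49.McKayCount
import Cfsg.Agent.Lib.SL2Chars49.McKayLocal
-- import your own Cfsg.Agent.* helpers here

set_option autoImplicit false
open Cfsg

namespace Cfsg.Agent.S2436

open Cfsg.Agent.Lib.SL2Chars49

/-- Let F be a finite field with q elements, q odd, ℓ any prime and S a Sylow ℓ-subgroup of SL₂ over F with normaliser N. Then SL₂ and N have the same number of irreducible complex characters of degree not divisible by ℓ (the McKay equality holds for SL₂ over F at every prime). -/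
theorem result {F : Type*} [Field F] [Fintype F] (hodd : Odd (Fintype.card F)) (ℓ : ℕ) [Fact ℓ.Prime] (S : Sylow ℓ (Matrix.SpecialLinearGroup (Fin 2) F)) :
    Nat.card {χ : Cfsg.IrrCharacter (Matrix.SpecialLinearGroup (Fin 2) F) // ¬ ℓ ∣ Cfsg.charDegree (χ : Matrix.SpecialLinearGroup (Fin 2) F → ℂ)} =
      Nat.card {ψ : Cfsg.IrrCharacter (Subgroup.normalizer ((S : Subgroup (Matrix.SpecialLinearGroup (Fin 2) F)) : Set (Matrix.SpecialLinearGroup (Fin 2) F))) //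
        ¬ ℓ ∣ Cfsg.charDegree (ψ : Subgroup.normalizer ((S : Subgroup (Matrix.SpecialLinearGroup (Fin 2) F)) : Set (Matrix.SpecialLinearGroup (Fin 2) F)) → ℂ)} := by
  classical
  set q := Fintype.card F with hq
  have hq2 : 2 ≤ q := Fintype.one_lt_card
  obtain ⟨k, hk⟩ := id hodd
  by_cases hdvd : ℓ ∣ Nat.card (Matrix.SpecialLinearGroup (Fin 2) F)
  swap
  · have hS : (S : Subgroup (Matrix.SpecialLinearGroup (Fin 2) F)) = ⊥ := by
      obtain ⟨n, hn⟩ := IsPGroup.iff_card.mp S.isPGroup'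
      refine Subgroup.card_eq_one.mp ?_
      by_contra h
      rcases Nat.eq_zero_or_pos n with rfl | hn0
      · exact h (by rw [hn, pow_zero])
      · exact hdvd ((hn ▸ dvd_pow_self ℓ hn0.ne').trans (Subgroup.card_subgroup_dvd_card _))
    have hN : Subgroup.normalizer ((S : Subgroup (Matrix.SpecialLinearGroup (Fin 2) F)) :
        Set (Matrix.SpecialLinearGroup (Fin 2) F)) = ⊤ := by
      rw [hS, Subgroup.normalizer_eq_top_iff]; infer_instance
    exact McKay.card_congr_degree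
      ((MulEquiv.subgroupCongr hN).trans Subgroup.topEquiv).symm (fun d => ¬ ℓ ∣ d)
  rw [McKay.card_by_degree hodd (fun d => ¬ ℓ ∣ d), ← hq]
  have hℓ : ℓ.Prime := Fact.out
  have hdiv2 : ∀ a : ℕ, ℓ ≠ 2 → (ℓ ∣ 2 * a ↔ ℓ ∣ a) := fun a h =>
    ((Nat.coprime_primes hℓ Nat.prime_two).mpr h).dvd_mul_left
  obtain ⟨p, hchar⟩ := CharP.exists F
  obtain ⟨n, hp, hqp⟩ := FiniteField.card F p
  replace hqp : q = p ^ (n : ℕ) := hqp
  haveI := Fact.mk hp
  rcases eq_or_ne ℓ 2 with rfl | h2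
  · rw [McKay.card_local_two hodd S, hk]
    rw [show 2 * k + 1 + 1 = 2 * (k + 1) by ring, show 2 * k + 1 - 1 = 2 * k by omega,
      Nat.mul_div_cancel_left _ two_pos, Nat.mul_div_cancel_left _ two_pos,
      if_pos (by omega : ¬ 2 ∣ 1), if_pos (by omega : ¬ 2 ∣ 2 * k + 1),
      if_neg (by omega : ¬ ¬ 2 ∣ 2 * (k + 1)), if_neg (by omega : ¬ ¬ 2 ∣ 2 * k)]
    rcases Nat.even_or_odd k with ⟨j, rfl⟩ | ⟨j, rfl⟩
    · rw [if_pos (by omega : ¬ 2 ∣ j + j + 1), if_neg (by omega : ¬ ¬ 2 ∣ j + j)]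
    · rw [if_neg (by omega : ¬ ¬ 2 ∣ 2 * j + 1 + 1), if_pos (by omega : ¬ 2 ∣ 2 * j + 1)]
  have hne1 : ¬ ℓ ∣ 1 := fun h => hℓ.one_lt.ne' (Nat.dvd_one.mp h)
  have hne2 : ¬ ℓ ∣ 2 := fun h => h2 ((Nat.prime_dvd_prime_iff_eq hℓ Nat.prime_two).mp h)
  have hdp : ℓ ∣ (q + 1) / 2 ↔ ℓ ∣ q + 1 := by
    rw [show (q + 1) = 2 * (k + 1) by omega, Nat.mul_div_cancel_left _ two_pos, hdiv2 _ h2]
  have hdm : ℓ ∣ (q - 1) / 2 ↔ ℓ ∣ q - 1 := by
    rw [show (q - 1) = 2 * k by omega, Nat.mul_div_cancel_left _ two_pos, hdiv2 _ h2]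
  simp only [hdp, hdm]
  rcases eq_or_ne ℓ p with rfl | hlp
  · have hdq : ℓ ∣ q := hqp ▸ dvd_pow_self ℓ n.2.ne'
    have h1 : ¬ ℓ ∣ q + 1 := fun h => hne1 ((Nat.dvd_add_right hdq).mp h)
    have h3 : ¬ ℓ ∣ q - 1 := fun h => hne1 (by
      have := Nat.dvd_sub hdq h
      rwa [show q - (q - 1) = 1 by omega] at this)
    rw [McKay.card_local_p hodd S, if_pos hne1, if_neg (not_not.mpr hdq), if_pos h1, if_pos h3,
      if_pos h1, if_pos h3]
    omega
  obtain ⟨t, ht, htd, hcount⟩ := McKay.card_local_odd hodd h2 hlp hdvd S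
  have hnq : ¬ ℓ ∣ q := fun h =>
    hlp ((Nat.prime_dvd_prime_iff_eq hℓ hp).mp (hℓ.dvd_of_dvd_pow (hqp ▸ h)))
  rw [if_pos hne1, if_pos hnq]
  rcases ht with rfl | rfl <;> rw [← hq] at htd hcount
  · have h1 : ¬ ℓ ∣ q + 1 := fun h => hne2 (by
      have := Nat.dvd_sub h htd
      rwa [show q + 1 - (q - 1) = 2 by omega] at this)
    rw [if_pos h1, if_neg (not_not.mpr htd), if_pos h1, if_neg (not_not.mpr htd)]
    omega
  · have h1 : ¬ ℓ ∣ q - 1 := fun h => hne2 (by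
      have := Nat.dvd_sub htd h
      rwa [show q + 1 - (q - 1) = 2 by omega] at this)
    rw [if_neg (not_not.mpr htd), if_pos h1, if_neg (not_not.mpr htd), if_pos h1]
    omega

end Cfsg.Agent.S2436
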