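import Cfsg.Statements.S2437
import Cfsg.Agent.Lib.SL2Tori.Borel

set_option autoImplicit false
open Cfsg

namespace Cfsg.Agent.S2437

open Cfsg.Agent.Lib.SL2Tori.Borel Cfsg.Agent.Lib.PSLTwo.Sylow

variable {F : Type*} [Field F]

theorem commute_mkB_iff (a c : Fˣ) (b d : F) :
    Commute (mkB a b) (mkB c d) ↔
      (a : F) * d + b * (c : F)⁻¹ = (c : F) * b + d * (a : F)⁻¹ := by
  rw [commute_iff_eq, Subtype.ext_iff, Subgroup.coe_mul, Subgroup.coe_mul]
  constructor
  · intro h
    have := congrArg (fun g : Matrix.SpecialLinearGroup (Fin 2) F => g.1 0 1) h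
    simpa [mkB, mul_apply'] using this
  · intro h
    apply slExt <;> simp [mkB, mul_apply'] <;> first | exact mul_comm _ _ | exact h

/-- The Borel subgroup (upper triangular matrices) of SL₂(q), q odd, has exactly q + 3 conjugacy classes. -/
theorem result {F : Type*} [Field F] [Fintype F] (hodd : Odd (Fintype.card F)) :
    Nat.card (ConjClasses ((Cfsg.upperTriangularGL 2 F).comap Matrix.SpecialLinearGroup.toGL)) = Fintype.card F + 3 := by
  classical
  change Nat.card (ConjClasses (borel : Subgroup (Matrix.SpecialLinearGroup (Fin 2) F))) = _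
  have h2 : (2 : F) ≠ 0 := two_ne_zero_of_odd (Nat.odd_iff.mp hodd)
  have hq : 1 < Fintype.card F := Fintype.one_lt_card
  have hq3 : 3 ≤ Fintype.card F := by obtain ⟨k, hk⟩ := hodd; omega
  let R : Fˣ × F → Fˣ × F → Prop := fun p r =>
    (p.1 : F) * r.2 + p.2 * (r.1 : F)⁻¹ = (r.1 : F) * p.2 + r.2 * (p.1 : F)⁻¹
  have hcount := card_comm_eq_card_conjClasses_mul_card
    (borel : Subgroup (Matrix.SpecialLinearGroup (Fin 2) F))
  have hpairs : Nat.card { p : ↥(borel : Subgroup (Matrix.SpecialLinearGroup (Fin 2) F)) ×
      ↥(borel : Subgroup (Matrix.SpecialLinearGroup (Fin 2) F)) // Commute p.1 p.2 } =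
      ∑ p : Fˣ × F, (Finset.univ.filter (R p)).card := by
    rw [← Nat.card_congr (Equiv.subtypeEquiv (borelEquiv.prodCongr borelEquiv)
      (p := fun q : (Fˣ × F) × (Fˣ × F) => R q.1 q.2) (fun q => (commute_mkB_iff _ _ _ _).symm)),
      Nat.card_congr (Equiv.subtypeProdEquivSigmaSubtype R), Nat.card_sigma]
    refine Finset.sum_congr rfl fun p _ => ?_
    rw [Nat.card_eq_fintype_card, Fintype.card_subtype]
  have hunit : ∀ u : Fˣ, ((u : F) - (u : F)⁻¹ = 0 ↔ u = 1 ∨ u = -1) := by
    intro u
    rw [sub_eq_zero]
    constructor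
    · intro h
      have : ((u : F) - 1) * ((u : F) + 1) = 0 := by
        have h' := congrArg (fun t => t * (u : F)) h
        simp only [inv_mul_cancel₀ u.ne_zero] at h'
        linear_combination h'
      rcases mul_eq_zero.mp this with h1 | h1
      · exact Or.inl (Units.ext (sub_eq_zero.mp h1))
      · exact Or.inr (Units.ext (by simpa using eq_neg_of_add_eq_zero_left h1))
    · rintro (rfl | rfl) <;> simp
  have hR : ∀ (a c : Fˣ) (b d : F), R (a, b) (c, d) ↔
      d * ((a : F) - (a : F)⁻¹) = b * ((c : F) - (c : F)⁻¹) := by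
    intro a c b d
    simp only [R]
    constructor <;> intro h <;> linear_combination h
  have hne : (1 : Fˣ) ≠ -1 := by
    intro h
    have := congrArg Units.val h
    simp only [Units.val_one, Units.val_neg] at this
    exact h2 (by linear_combination this)
  have hfib : ∀ (a : Fˣ) (b : F), (Finset.univ.filter (R (a, b))).card =
      if a = 1 ∨ a = -1 then (if b = 0 then (Fintype.card F - 1) * Fintype.card F
        else 2 * Fintype.card F) else Fintype.card F - 1 := by
    intro a b
    split_ifs with ha hb
    · rw [Finset.filter_true_of_mem, Finset.card_univ, Fintype.card_prod, Fintype.card_units]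
      rintro ⟨c, d⟩ -
      rw [hR, hb, (hunit a).mpr ha]; ring
    · have : Finset.univ.filter (R (a, b)) =
          ({1, -1} : Finset Fˣ) ×ˢ (Finset.univ : Finset F) := by
        ext ⟨c, d⟩
        simp only [Finset.mem_filter, Finset.mem_univ, true_and, Finset.mem_product, Finset.mem_insert,
          Finset.mem_singleton, and_true]
        rw [hR, (hunit a).mpr ha, mul_zero, eq_comm, mul_eq_zero, or_iff_right hb, hunit]
      rw [this, Finset.card_product, Finset.card_univ, Finset.card_pair hne]
    · have hne' : ((a : F) - (a : F)⁻¹) ≠ 0 := fun h => ha ((hunit a).mp h)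
      have : Finset.univ.filter (R (a, b)) = (Finset.univ : Finset Fˣ).image
          (fun c : Fˣ => (c, b * ((c : F) - (c : F)⁻¹) / ((a : F) - (a : F)⁻¹))) := by
        ext ⟨c, d⟩
        simp only [Finset.mem_filter, Finset.mem_univ, true_and, Finset.mem_image, Prod.mk.injEq]
        rw [hR]
        constructor
        · intro h
          exact ⟨c, rfl, by rw [← h, mul_div_cancel_right₀ _ hne']⟩
        · rintro ⟨c', rfl, rfl⟩
          rw [div_mul_cancel₀ _ hne']
      rw [this, Finset.card_image_of_injective _ (fun c c' h => (Prod.mk.injEq _ _ _ _ ▸ h).1),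
        Finset.card_univ, Fintype.card_units]
  have hinner : ∀ a : Fˣ, ∑ b : F, (Finset.univ.filter (R (a, b))).card =
      if a = 1 ∨ a = -1 then (Fintype.card F - 1) * Fintype.card F + (Fintype.card F - 1) * (2 * Fintype.card F)
        else Fintype.card F * (Fintype.card F - 1) := by
    intro a
    simp only [hfib]
    by_cases ha : a = 1 ∨ a = -1
    · simp only [if_pos ha]
      rw [← Finset.add_sum_erase _ _ (Finset.mem_univ (0 : F)), if_pos rfl,
        Finset.sum_congr rfl (fun b hb => if_neg (Finset.ne_of_mem_erase hb)), Finset.sum_const,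
        smul_eq_mul, Finset.card_erase_of_mem (Finset.mem_univ _), Finset.card_univ]
    · simp only [if_neg ha]
      rw [Finset.sum_const, Finset.card_univ, smul_eq_mul]
  rw [hpairs, Fintype.sum_prod_type, Finset.sum_congr rfl (fun a _ => hinner a), Finset.sum_ite,
    Finset.sum_const, Finset.sum_const, smul_eq_mul, smul_eq_mul] at hcount
  have hcards : (Finset.univ.filter fun a : Fˣ => a = 1 ∨ a = -1) = ({1, -1} : Finset Fˣ) := by
    ext a; simp
  have hcard2 : (Finset.univ.filter fun a : Fˣ => ¬ (a = 1 ∨ a = -1)).card = Fintype.card F - 3 := by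
    have := Finset.card_filter_add_card_filter_not (s := (Finset.univ : Finset Fˣ))
      (fun a : Fˣ => a = 1 ∨ a = -1)
    rw [hcards, Finset.card_pair hne, Finset.card_univ, Fintype.card_units] at this
    omega
  rw [hcard2, hcards, Finset.card_pair hne, card_borel] at hcount
  obtain ⟨r, hr⟩ : ∃ r, Fintype.card F = r + 3 := ⟨Fintype.card F - 3, by omega⟩
  rw [hr] at hcount ⊢
  simp only [show r + 3 - 3 = r by omega, show r + 3 - 1 = r + 2 by omega] at hcount
  refine Nat.eq_of_mul_eq_mul_right (show 0 < (r + 2) * (r + 3) by positivity) ?_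
  rw [← hcount]
  ring

end Cfsg.Agent.S2437
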