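import Cfsg.Statements.S2438
import Cfsg.Agent.Lib.SL2Chars49.Values
-- import your own Cfsg.Agent.* helpers here

set_option autoImplicit false
open Cfsg

namespace Cfsg.Agent.S2438

open Cfsg.Agent.Lib.SL2Chars49

/-- Let F be a finite field with q elements, q odd, q ≥ 5, U the upper unitriangular subgroup of SL₂ over F, and χ an irreducible complex character. The sum of the values of χ over U equals 2q, q, 0, q, 0 according as the degree of χ is q + 1, q, q − 1, (q + 1)/2, (q − 1)/2; so among these five degrees the sum vanishes exactly for the degrees q − 1 and (q − 1)/2, i.e. the irreducible characters of those two degrees are the ones whose restriction to U does not contain the trivial character (the cuspidal characters), while those of degree q + 1, q and (q + 1)/2 are not cuspidal. -/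
theorem result {F : Type*} [Field F] [Fintype F] [DecidableEq F] (hodd : Odd (Fintype.card F)) (hq : 5 ≤ Fintype.card F)
    (χ : Matrix.SpecialLinearGroup (Fin 2) F → ℂ) (hχ : Cfsg.IsIrrCharacter (Matrix.SpecialLinearGroup (Fin 2) F) χ) :
    (χ 1 = (Fintype.card F : ℂ) + 1 →
      (∑ g : Matrix.SpecialLinearGroup (Fin 2) F, if (g : Matrix (Fin 2) (Fin 2) F) 1 0 = 0 ∧ (g : Matrix (Fin 2) (Fin 2) F) 0 0 = 1 ∧ (g : Matrix (Fin 2) (Fin 2) F) 1 1 = 1 then χ g else 0) = 2 * (Fintype.card F : ℂ)) ∧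
    (χ 1 = (Fintype.card F : ℂ) →
      (∑ g : Matrix.SpecialLinearGroup (Fin 2) F, if (g : Matrix (Fin 2) (Fin 2) F) 1 0 = 0 ∧ (g : Matrix (Fin 2) (Fin 2) F) 0 0 = 1 ∧ (g : Matrix (Fin 2) (Fin 2) F) 1 1 = 1 then χ g else 0) = (Fintype.card F : ℂ)) ∧
    (χ 1 = (Fintype.card F : ℂ) - 1 →
      (∑ g : Matrix.SpecialLinearGroup (Fin 2) F, if (g : Matrix (Fin 2) (Fin 2) F) 1 0 = 0 ∧ (g : Matrix (Fin 2) (Fin 2) F) 0 0 = 1 ∧ (g : Matrix (Fin 2) (Fin 2) F) 1 1 = 1 then χ g else 0) = 0) ∧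
    (χ 1 = (((Fintype.card F + 1) / 2 : ℕ) : ℂ) →
      (∑ g : Matrix.SpecialLinearGroup (Fin 2) F, if (g : Matrix (Fin 2) (Fin 2) F) 1 0 = 0 ∧ (g : Matrix (Fin 2) (Fin 2) F) 0 0 = 1 ∧ (g : Matrix (Fin 2) (Fin 2) F) 1 1 = 1 then χ g else 0) = (Fintype.card F : ℂ)) ∧
    (χ 1 = (((Fintype.card F - 1) / 2 : ℕ) : ℂ) →
      (∑ g : Matrix.SpecialLinearGroup (Fin 2) F, if (g : Matrix (Fin 2) (Fin 2) F) 1 0 = 0 ∧ (g : Matrix (Fin 2) (Fin 2) F) 0 0 = 1 ∧ (g : Matrix (Fin 2) (Fin 2) F) 1 1 = 1 then χ g else 0) = 0) := by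
  obtain ⟨C, hC, hcard⟩ := exists_C (F := F)
  have h1 : scC hC hcard ⟨1, rt_one⟩ = 1 := Subtype.ext nu_one_zero
  refine ⟨fun h => ?_, fun h => ?_, fun h => ?_, fun h => ?_, fun h => ?_⟩
  · obtain ⟨α, -, rfl⟩ := exists_pi_of_deg hC hcard hχ h
    rw [sum_unip, h, Finset.sum_congr rfl fun x hx =>
      (pi_nu α ⟨1, rt_one⟩ (Finset.mem_erase.mp hx).1).trans (map_one α)]
    simp only [Finset.sum_const, nsmul_eq_mul, card_erase_zero]; ring
  · obtain rfl := eq_st_of_deg hC hcard hχ h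
    rw [sum_unip, h, Finset.sum_eq_zero fun x hx => st_nu ⟨1, rt_one⟩ (Finset.mem_erase.mp hx).1,
      add_zero]
  · obtain ⟨θ, -, rfl⟩ := exists_dX_of_deg hC hcard hχ (by omega) h
    rw [sum_unip, h, Finset.sum_congr rfl fun x hx =>
      dX_nu hC hcard θ ⟨1, rt_one⟩ (Finset.mem_erase.mp hx).1, h1, map_one, Units.val_one]
    simp only [Finset.sum_const, nsmul_eq_mul, card_erase_zero]; ring
  · have hP := isHalfP_of_deg hC hcard hχ hodd (by omega) h
    obtain ⟨ε, d, -, hε1, -, -, -, hv⟩ := hP.values hC hcard hodd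
    rw [sum_unip, Finset.sum_congr rfl (g := fun x => (1 + d * ε x) / 2) fun x hx => by
      linear_combination hv x (Finset.mem_erase.mp hx).1 / 2, ← Finset.sum_div,
      Finset.sum_add_distrib, ← Finset.mul_sum, sum_erase_eps hε1]
    simp only [Finset.sum_const, nsmul_eq_mul, card_erase_zero]
    linear_combination hP.degree / 2
  · have hM := isHalfM_of_deg hC hcard hχ hodd (by omega) h
    obtain ⟨ε, θ, d, -, hε1, -, -, -, -, -, hv⟩ := hM.values hodd
    rw [sum_unip, Finset.sum_congr rfl (g := fun x => (-1 + d * ε x) / 2) fun x hx => by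
      linear_combination hv x (Finset.mem_erase.mp hx).1 / 2, ← Finset.sum_div,
      Finset.sum_add_distrib, ← Finset.mul_sum, sum_erase_eps hε1]
    simp only [Finset.sum_const, nsmul_eq_mul, card_erase_zero]
    linear_combination hM.degree / 2

end Cfsg.Agent.S2438
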