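import Cfsg.Statements.S2444
import Cfsg.Agent.Lib.Sourour.Comm
import Cfsg.Agent.Lib.Sourour.Small.Three
import Cfsg.Agent.Lib.Sourour.Small.Two

set_option autoImplicit false
open Cfsg

namespace Cfsg.Agent.S2444

open Cfsg.Agent.Lib.Sourour in
theorem isComm_of_prime {p : ℕ} [Fact p.Prime] {F : Type*} [Field F] {n : ℕ} (φ : ZMod p ≃+* F)
    (H : ∀ T : Module.End (ZMod p) (Fin n → ZMod p), LinearMap.det T = 1 → Small.CommE T)
    {A : Matrix (Fin n) (Fin n) F} (hA : A.det = 1) : IsComm A := by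
  obtain ⟨a, b, ha, hb, hab⟩ := H (Matrix.toLin' (φ.symm.mapMatrix A))
    (by rw [LinearMap.det_toLin', ← RingEquiv.map_det, hA, map_one])
  refine ⟨φ.mapMatrix (LinearMap.toMatrix' a), φ.mapMatrix (LinearMap.toMatrix' b), ?_, ?_, ?_⟩
  · rw [← RingEquiv.map_det, LinearMap.det_toMatrix', ha, map_one]
  · rw [← RingEquiv.map_det, LinearMap.det_toMatrix', hb, map_one]
  · have h := congrArg (fun T => φ.mapMatrix (LinearMap.toMatrix' T)) hab
    simp only [LinearMap.toMatrix'_mul, LinearMap.toMatrix'_toLin', map_mul] at h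
    rwa [show φ.mapMatrix (φ.symm.mapMatrix A) = A by
      ext i j
      simp] at h

/-- In the special linear group SL(n,F) over a finite field F, with n ≥ 2 and (n, |F|) not (2,2) or (2,3), every element is a commutator a·b·a⁻¹·b⁻¹ of two elements of SL(n,F). -/
theorem result {F : Type*} [Field F] [Fintype F] (n : ℕ) (hn : 2 ≤ n) (hex : n = 2 → 4 ≤ Fintype.card F) :
    ∀ g : Matrix.SpecialLinearGroup (Fin n) F, ∃ a b : Matrix.SpecialLinearGroup (Fin n) F, g = a * b * a⁻¹ * b⁻¹ := by
  intro g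
  refine Cfsg.Agent.Lib.Sourour.exists_sl_commutator g ?_
  by_cases h4 : 4 ≤ Fintype.card F
  · exact Cfsg.Agent.Lib.Sourour.isComm_of_four (Cfsg.Agent.Lib.Sourour.four_of_fintype h4) hn g.det_coe
  · have h3 : 3 ≤ n := by
      by_contra hlt
      exact h4 (hex (by omega))
    have h1 : 1 < Fintype.card F := Fintype.one_lt_card
    rcases (show Fintype.card F = 2 ∨ Fintype.card F = 3 by omega) with hc | hc
    · exact isComm_of_prime (ZMod.ringEquivOfPrime F Nat.prime_two hc)
        (fun T hT => Cfsg.Agent.Lib.Sourour.Small.Two.commE h3 hT) g.det_coe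
    · exact isComm_of_prime (ZMod.ringEquivOfPrime F Nat.prime_three hc)
        (fun T hT => Cfsg.Agent.Lib.Sourour.Small.Three.commE h3 hT) g.det_coe

end Cfsg.Agent.S2444
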