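import Cfsg.Statements.S2450
import Cfsg.Agent.Lib.SL2Tori.Products
-- import your own Cfsg.Agent.* helpers here

set_option autoImplicit false
open Cfsg

namespace Cfsg.Agent.S2450

open Cfsg.Agent.Lib.SL2Tori.Products Cfsg.Agent.Lib.PSLTwo.Sylow


/-- The Arad–Herzog conjecture for PSL(2,q): let F be a finite field with q ≥ 4 elements. For any two non-identity elements a, b of PSL(2,F), the set of products of a conjugate of a with a conjugate of b is not a single conjugacy class. -/
theorem result {F : Type*} [Field F] [Fintype F] (h4 : 4 ≤ Fintype.card F)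
    (a b : Matrix.ProjectiveSpecialLinearGroup (Fin 2) F) (ha : a ≠ 1) (hb : b ≠ 1) (c : Matrix.ProjectiveSpecialLinearGroup (Fin 2) F) :
    {g : Matrix.ProjectiveSpecialLinearGroup (Fin 2) F | ∃ u v : Matrix.ProjectiveSpecialLinearGroup (Fin 2) F, g = (u * a * u⁻¹) * (v * b * v⁻¹)} ≠ {g | IsConj c g} := by
  classical
  obtain ⟨A, rfl⟩ := proj_surjective a
  obtain ⟨B, rfl⟩ := proj_surjective b
  intro hset
  obtain ⟨u, v, v', hn⟩ := exists_two_products h4 (nonScalar_of_proj_ne_one ha) (nonScalar_of_proj_ne_one hb)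
  have hmem : ∀ v₀, IsConj c (proj (u * A * u⁻¹ * (v₀ * B * v₀⁻¹))) := fun v₀ => by
    have : proj (u * A * u⁻¹ * (v₀ * B * v₀⁻¹)) ∈ {g : Matrix.ProjectiveSpecialLinearGroup (Fin 2) F |
        ∃ u' v' : Matrix.ProjectiveSpecialLinearGroup (Fin 2) F,
          g = (u' * proj A * u'⁻¹) * (v' * proj B * v'⁻¹)} :=
      ⟨proj u, proj v₀, by simp only [map_mul, map_inv]⟩
    rw [hset] at this
    exact this
  exact hn ((hmem v).symm.trans (hmem v'))

end Cfsg.Agent.S2450
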