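import Cfsg.Statements.S2455
import Cfsg.Agent.Lib.SL2Tori.Products
-- import your own Cfsg.Agent.* helpers here

set_option autoImplicit false
open Cfsg

namespace Cfsg.Agent.S2455

open Cfsg.Agent.Lib.SL2Tori.Products Cfsg.Agent.Lib.PSLTwo.Sylow

theorem sq_of_trace_zero {F : Type*} [Field F] {X : Matrix.SpecialLinearGroup (Fin 2) F}
    (h : slTr X = 0) : X * X = negOne := by
  have hd := det_eq X
  rw [slTr] at h
  apply slExt <;> simp [mul_apply']
  · linear_combination X.1 0 0 * h - hd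
  · linear_combination X.1 0 1 * h
  · linear_combination X.1 1 0 * h
  · linear_combination X.1 1 1 * h - hd


/-- A strong covering result in the direction of Thompson's conjecture (non-identity elements) for PSL(2,q), q odd: let F be a finite field of odd characteristic p with at least 5 elements and let x ∈ PSL(2,F) have order greater than 2 and not divisible by p (so x is not unipotent). Then every non-identity element of PSL(2,F) is a product of two conjugates of x. -/
theorem result {F : Type*} [Field F] [Fintype F] (p : ℕ) [Fact p.Prime] [CharP F p] (hp : p ≠ 2) (h5 : 5 ≤ Fintype.card F)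
    (x : Matrix.ProjectiveSpecialLinearGroup (Fin 2) F) (hx2 : 2 < orderOf x) (hxp : ¬ p ∣ orderOf x) : ∀ g : Matrix.ProjectiveSpecialLinearGroup (Fin 2) F, g ≠ 1 → ∃ u v : Matrix.ProjectiveSpecialLinearGroup (Fin 2) F, g = (u * x * u⁻¹) * (v * x * v⁻¹) := by
  classical
  intro g hg
  have h2 : (2 : F) ≠ 0 := Ring.two_ne_zero (by rw [ringChar.eq F p]; exact hp)
  have hodd : Fintype.card F % 2 = 1 := FiniteField.odd_card_of_char_ne_two (by rw [ringChar.eq F p]; exact hp)
  obtain ⟨X, rfl⟩ := proj_surjective x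
  obtain ⟨G, rfl⟩ := proj_surjective g
  have hG := nonScalar_of_proj_ne_one hg
  set t := slTr X with ht
  have ht0 : t ≠ 0 := by
    intro h
    have : proj X ^ 2 = 1 := by
      rw [← map_pow, proj_eq_one_iff, sq, sq_of_trace_zero h]
      exact Or.inr rfl
    have := Nat.le_of_dvd (by norm_num) (orderOf_dvd_of_pow_eq_one this)
    omega
  have ht4 : t ^ 2 ≠ 4 := by
    intro h
    obtain ⟨μ, hμ⟩ := Cfsg.Agent.Lib.Linear.exists_isEigen X
    have hm : μ ^ 2 = 1 := by
      have e := hμ.trace_eq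
      have htr : Matrix.trace (X : Matrix (Fin 2) (Fin 2) F) = t := by rw [Matrix.trace_fin_two]; rfl
      rw [htr] at e
      have e4 : (μ + μ⁻¹) ^ 2 = 4 := by rw [← e, ← map_pow, h]; exact map_ofNat _ 4
      have : (μ - μ⁻¹) ^ 2 = 0 := by linear_combination e4 - 4 * mul_inv_cancel₀ hμ.ne_zero
      have := pow_eq_zero_iff (n := 2) (by norm_num) |>.mp this
      rw [sub_eq_zero] at this
      nth_rewrite 1 [sq, this]
      exact inv_mul_cancel₀ hμ.ne_zero
    have hd : orderOf (proj X) ∣ 2 * p := orderOf_dvd_of_pow_eq_one (by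
      rw [← map_pow, Cfsg.Agent.Lib.Linear.pow_two_mul_char_eq_one p hμ hm, map_one])
    have := Nat.le_of_dvd (by norm_num)
      ((Nat.Coprime.dvd_of_dvd_mul_right
        ((Fact.out : p.Prime).coprime_iff_not_dvd.mpr hxp).symm hd))
    omega
  obtain ⟨a, b, s, hs, heq⟩ : ∃ a b s : F, (s = t ∨ s = -t) ∧
      a ^ 2 - slTr G * a * b + b ^ 2 - t * a + s * b + 1 = 0 := by
    by_cases hτ : slTr G ^ 2 = 4
    · have : (slTr G - 2) * (slTr G + 2) = 0 := by linear_combination hτ
      rcases mul_eq_zero.mp this with h | h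
      · refine ⟨(2 * t)⁻¹, (2 * t)⁻¹, -t, Or.inr rfl, ?_⟩
        rw [sub_eq_zero.mp h]
        field_simp
        ring
      · refine ⟨(2 * t)⁻¹, -(2 * t)⁻¹, t, Or.inl rfl, ?_⟩
        rw [eq_neg_of_add_eq_zero_left h]
        field_simp
        ring
    · have h4 : (4 : F) ≠ 0 := by
        rw [show (4 : F) = 2 * 2 by norm_num]; exact mul_ne_zero h2 h2
      have hne : (4 : F) - slTr G ^ 2 ≠ 0 := fun h => hτ (sub_eq_zero.mp h).symm
      obtain ⟨D, hD⟩ : ∃ D : F, D = (4 - slTr G ^ 2) / 4 := ⟨_, rfl⟩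
      have hD0 : D ≠ 0 := hD ▸ div_ne_zero hne h4
      obtain ⟨L, hL⟩ : ∃ L : F, L = t * (1 - slTr G / 2) := ⟨_, rfl⟩
      obtain ⟨u, w, huw⟩ := exists_conic hodd (D := -D) (c := L ^ 2 / (4 * D) - 1 + t ^ 2 / 4)
        (neg_ne_zero.mpr hD0)
      refine ⟨u + (slTr G * (w - L / (2 * D)) + t) / 2, w - L / (2 * D), t, Or.inl rfl, ?_⟩
      subst hL
      field_simp at huw hD ⊢
      grind
  obtain ⟨A, hA, hB⟩ := exists_factor hG heq
  obtain ⟨P, hP⟩ := exists_conj hodd h2 ht4 hA
  obtain ⟨X', hX', hprojX⟩ : ∃ X', slTr X' = s ∧ proj X' = proj X := by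
    rcases hs with rfl | rfl
    · exact ⟨X, rfl, rfl⟩
    · exact ⟨X * negOne, slTr_mul_negOne X, proj_eq_iff.mpr (Or.inr (by rw [mul_assoc, negOne_sq, mul_one]))⟩
  obtain ⟨Q, hQ⟩ := exists_conj (a := X') (b := A⁻¹ * G) hodd h2
    (by rw [hX']; rcases hs with rfl | rfl <;> simpa using ht4) (by rw [hB, hX'])
  refine ⟨proj P, proj Q, ?_⟩
  rw [← hprojX]
  nth_rewrite 1 [← mul_inv_cancel_left A G]
  rw [← hQ, ← hP]
  simp only [map_mul, map_inv]
  rw [hprojX]

end Cfsg.Agent.S2455
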