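import Cfsg.Statements.S2456
import Cfsg.Agent.Lib.SL2Tori.Products
-- import your own Cfsg.Agent.* helpers here

set_option autoImplicit false
open Cfsg

namespace Cfsg.Agent.S2456

open Cfsg.Agent.Lib.SL2Tori.Products Cfsg.Agent.Lib.PSLTwo.Sylow


/-- A strong covering result in the direction of Thompson's conjecture (non-identity elements) for PSL(2,q), q even: let F be a finite field of characteristic 2 with q ≥ 4 elements and let x ∈ PSL(2,F) have order greater than 2 and not dividing q + 1. Then every non-identity element of PSL(2,F) is a product of two conjugates of x. -/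
theorem result {F : Type*} [Field F] [Fintype F] [CharP F 2] (h4 : 4 ≤ Fintype.card F)
    (x : Matrix.ProjectiveSpecialLinearGroup (Fin 2) F) (hx2 : 2 < orderOf x) (hxq : ¬ orderOf x ∣ Fintype.card F + 1) : ∀ g : Matrix.ProjectiveSpecialLinearGroup (Fin 2) F, g ≠ 1 → ∃ u v : Matrix.ProjectiveSpecialLinearGroup (Fin 2) F, g = (u * x * u⁻¹) * (v * x * v⁻¹) := by
  classical
  intro g hg
  obtain ⟨X, rfl⟩ := proj_surjective x
  obtain ⟨G, rfl⟩ := proj_surjective g
  have hG := nonScalar_of_proj_ne_one hg
  have hinj : Function.Injective (proj (F := F)) := by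
    intro u v h
    have hn : (negOne : Matrix.SpecialLinearGroup (Fin 2) F) = 1 := by
      apply slExt <;> simp [CharTwo.neg_eq]
    rcases proj_eq_iff.mp h with e | e
    · exact e.symm
    · rw [hn, mul_one] at e; exact e.symm
  rw [orderOf_injective proj hinj] at hx2 hxq
  set t := slTr X with ht
  have htr : Matrix.trace (X : Matrix (Fin 2) (Fin 2) F) = t := by rw [Matrix.trace_fin_two]; rfl
  have ht0 : t ≠ 0 := by
    intro h
    have : X ^ 2 = 1 := by
      rw [sq]
      apply Subtype.ext
      change (X : Matrix (Fin 2) (Fin 2) F) * X = 1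
      rw [Cfsg.Agent.Lib.Linear.sl2_mul_self, htr, h, zero_smul, zero_sub]
      ext i j
      exact CharTwo.neg_eq _
    have := Nat.le_of_dvd (by norm_num) (orderOf_dvd_of_pow_eq_one this)
    omega
  obtain ⟨μ, hμ⟩ := Cfsg.Agent.Lib.Linear.exists_isEigen X
  have : CharP (AlgebraicClosure F) 2 :=
    charP_of_injective_algebraMap (algebraMap F (AlgebraicClosure F)).injective 2
  have hm : μ ^ 2 ≠ 1 := by
    intro h
    have h1 : μ = 1 := by
      rcases sq_eq_one_iff.mp h with e | e
      · exact e
      · rw [e, CharTwo.neg_eq]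
    have e := hμ.trace_eq
    rw [htr, h1, inv_one, CharTwo.add_self_eq_zero] at e
    exact ht0 ((map_eq_zero _).mp e)
  rw [Cfsg.Agent.Lib.Linear.orderOf_eq_orderOf_eigen hμ hm] at hxq
  have hfix : μ ^ Fintype.card F = μ := by
    refine hμ.pow_card.resolve_right fun e => hxq (orderOf_dvd_of_pow_eq_one ?_)
    rw [pow_succ, e, inv_mul_cancel₀ hμ.ne_zero]
  obtain ⟨r, rfl⟩ : ∃ r : F, algebraMap F (AlgebraicClosure F) r = μ := by
    by_contra hn
    push Not at hn
    let f : Polynomial (AlgebraicClosure F) := Polynomial.X ^ Fintype.card F - Polynomial.X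
    have hf := FiniteField.X_pow_card_sub_X_natDegree_eq (AlgebraicClosure F) (p := Fintype.card F)
      Fintype.one_lt_card
    have hf0 := FiniteField.X_pow_card_sub_X_ne_zero (AlgebraicClosure F) (p := Fintype.card F)
      Fintype.one_lt_card
    let S := insert μ (Finset.univ.image (algebraMap F (AlgebraicClosure F)))
    have hS : S ⊆ f.roots.toFinset := by
      intro z hz
      rw [Multiset.mem_toFinset, Polynomial.mem_roots hf0]
      rcases Finset.mem_insert.mp hz with rfl | hz
      · simp [hfix]
      · obtain ⟨y, -, rfl⟩ := Finset.mem_image.mp hz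
        simp [← map_pow, FiniteField.pow_card]
    have hc : S.card = Fintype.card F + 1 := by
      rw [Finset.card_insert_of_notMem, Finset.card_image_of_injective _ (algebraMap F _).injective,
        Finset.card_univ]
      simpa using hn
    have := (Finset.card_le_card hS).trans ((Multiset.toFinset_card_le _).trans (Polynomial.card_roots' f))
    rw [hc, hf] at this
    omega
  have hr : r ^ 2 - t * r + 1 = 0 := by
    refine (algebraMap F (AlgebraicClosure F)).injective ?_
    have h := hμ
    rw [Cfsg.Agent.Lib.Linear.IsEigen, htr] at h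
    simpa using h
  obtain ⟨A, hA, hB⟩ := exists_factor hG (a := r) (b := 0) (t := t) (s := t) (by linear_combination hr)
  have hns : ∀ Y : Matrix.SpecialLinearGroup (Fin 2) F, slTr Y = t → NonScalar Y := by
    intro Y hY
    by_contra hn
    rcases scalar_cases hn with rfl | rfl <;> apply ht0 <;> rw [← hY] <;>
      simp [slTr, one_apply', CharTwo.add_self_eq_zero]
  obtain ⟨P, hP⟩ := exists_conj_of_slTr_eq (Or.inr ⟨‹CharP F 2›, hns X rfl, hns A hA⟩) hA
  obtain ⟨Q, hQ⟩ := exists_conj_of_slTr_eq (Or.inr ⟨‹CharP F 2›, hns X rfl, hns _ hB⟩) hB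
  refine ⟨proj P, proj Q, ?_⟩
  nth_rewrite 1 [← mul_inv_cancel_left A G]
  rw [← hQ, ← hP]
  simp only [map_mul, map_inv]

end Cfsg.Agent.S2456
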