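import Cfsg.Statements.S2457
import Cfsg.Agent.Lib.SzChars.Cover
import Cfsg.Agent.Lib.LieTwisted.SuzukiBruhat

set_option autoImplicit false
open Cfsg

namespace Cfsg.Agent.S2457

/-- A strong covering result in the direction of Thompson's conjecture (non-identity elements) for the Suzuki groups: let q = 2^(2m+1) ≥ 8, F the field with q elements and Sz(q) the Suzuki group over F. For every element x of Sz(q) of order greater than 2, every non-identity element of Sz(q) is a product of two conjugates of x. -/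
theorem result {F : Type*} [Field F] [Fintype F] (m : ℕ) (hm : 1 ≤ m) (hF : Fintype.card F = 2 ^ (2 * m + 1))
    (x : Cfsg.Lie.Sz F (2 ^ (m + 1))) (hx2 : 2 < orderOf x) : ∀ g : Cfsg.Lie.Sz F (2 ^ (m + 1)), g ≠ 1 → ∃ u v : Cfsg.Lie.Sz F (2 ^ (m + 1)), g = (u * x * u⁻¹) * (v * x * v⁻¹) := by
  intro g hg
  have h : Cfsg.Agent.Lib.LieTwisted.Suzuki.IsSzField F m := ⟨hF⟩
  let φ := Cfsg.Agent.Lib.LieTwisted.Suzuki.szEquiv h hm
  have hx' : 2 < orderOf (φ.symm x) := by rwa [MulEquiv.orderOf_eq]
  obtain ⟨u, v, he⟩ := Cfsg.Agent.Lib.SzChars.Cover.product_of_two h hm hx' (g := φ.symm g)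
    (fun e => hg (φ.symm.injective (by rw [e, map_one])))
  refine ⟨φ u, φ v, φ.symm.injective ?_⟩
  simpa only [map_mul, map_inv, MulEquiv.symm_apply_apply] using he

end Cfsg.Agent.S2457
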