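import Cfsg.Statements.S2459
import Cfsg.Agent.Lib.LinearOrders.Projective

set_option autoImplicit false
open Cfsg Cfsg.Agent.Lib.LinearOrders

namespace Cfsg.Agent.S2459


open Matrix

variable {F : Type*} [Field F]

/-- A column form: the first column is `(a,1,0)`. -/
theorem exists_column_form (g : Matrix (Fin 3) (Fin 3) F) (hg : ¬ ∃ c : F, g = Matrix.scalar (Fin 3) c)
    (a : F) :
    ∃ Q M : Matrix (Fin 3) (Fin 3) F, Q.det ≠ 0 ∧ g * Q = Q * M ∧ M 0 0 = a ∧ M 1 0 = 1 ∧ M 2 0 = 0 := by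
  classical
  suffices h : ∃ Q : Matrix (Fin 3) (Fin 3) F, Q.det ≠ 0 ∧ ∀ i, (g * Q) i 0 = a * Q i 0 + Q i 1 by
    obtain ⟨Q, hQ, hcol⟩ := h
    have hu : IsUnit Q.det := isUnit_iff_ne_zero.2 hQ
    refine ⟨Q, Q⁻¹ * (g * Q), hQ, (Matrix.mul_nonsing_inv_cancel_left _ _ hu).symm, ?_⟩
    have hc : ∀ i, (Q⁻¹ * (g * Q)) i 0 = a * (1 : Matrix (Fin 3) (Fin 3) F) i 0 +
        (1 : Matrix (Fin 3) (Fin 3) F) i 1 := by
      intro i
      rw [← Matrix.nonsing_inv_mul Q hu]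
      simp only [Matrix.mul_apply (M := Q⁻¹), hcol, mul_add, Finset.sum_add_distrib, Finset.mul_sum]
      congr 1
      exact Finset.sum_congr rfl fun k _ => by ring
    simp [hc]
  by_cases h10 : g 1 0 ≠ 0
  · exact ⟨!![1, g 0 0 - a, 0; 0, g 1 0, 0; 0, g 2 0, 1], by simp [det_fin_three, h10],
      fun i => by fin_cases i <;> simp [Matrix.mul_apply, Fin.sum_univ_three]⟩
  by_cases h20 : g 2 0 ≠ 0
  · exact ⟨!![1, g 0 0 - a, 0; 0, g 1 0, 1; 0, g 2 0, 0], by simp [det_fin_three, h20],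
      fun i => by fin_cases i <;> simp [Matrix.mul_apply, Fin.sum_univ_three]⟩
  by_cases h01 : g 0 1 ≠ 0
  · exact ⟨!![0, g 0 1, 0; 1, g 1 1 - a, 0; 0, g 2 1, 1], by simp [det_fin_three, h01],
      fun i => by fin_cases i <;> simp [Matrix.mul_apply, Fin.sum_univ_three]⟩
  by_cases h21 : g 2 1 ≠ 0
  · exact ⟨!![0, g 0 1, 1; 1, g 1 1 - a, 0; 0, g 2 1, 0], by simp [det_fin_three, h21],
      fun i => by fin_cases i <;> simp [Matrix.mul_apply, Fin.sum_univ_three]⟩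
  by_cases h02 : g 0 2 ≠ 0
  · exact ⟨!![0, g 0 2, 0; 0, g 1 2, 1; 1, g 2 2 - a, 0], by simp [det_fin_three, h02],
      fun i => by fin_cases i <;> simp [Matrix.mul_apply, Fin.sum_univ_three]⟩
  by_cases h12 : g 1 2 ≠ 0
  · exact ⟨!![0, g 0 2, 1; 0, g 1 2, 0; 1, g 2 2 - a, 0], by simp [det_fin_three, h12],
      fun i => by fin_cases i <;> simp [Matrix.mul_apply, Fin.sum_univ_three]⟩
  push Not at h10 h20 h01 h21 h02 h12
  by_cases hd : g 0 0 = g 1 1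
  · have hd2 : g 1 1 - g 2 2 ≠ 0 := by
      intro h0
      apply hg
      refine ⟨g 0 0, ?_⟩
      ext i j
      fin_cases i <;> fin_cases j <;>
        simp [Matrix.scalar_apply, h10, h20, h01, h21, h02, h12, hd, ← sub_eq_zero.1 h0]
    exact ⟨!![0, 0, 1; 1, g 1 1 - a, 0; 1, g 2 2 - a, 0], by
        simp [det_fin_three]
        intro h0
        exact hd2 (by linear_combination -h0),
      fun i => by fin_cases i <;> simp [Matrix.mul_apply, Fin.sum_univ_three, h01, h21, h02, h12]⟩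
  · exact ⟨!![1, g 0 0 - a, 0; 1, g 1 1 - a, 0; 0, 0, 1], by
        simp [det_fin_three]
        intro h0
        exact hd (by linear_combination -h0),
      fun i => by fin_cases i <;> simp [Matrix.mul_apply, Fin.sum_univ_three, h10, h20, h01, h21]⟩

theorem two_by_two (N : Matrix (Fin 2) (Fin 2) F) (hN : N 1 0 ≠ 0 ∨ N 0 1 ≠ 0 ∨ N 0 0 ≠ N 1 1) (α : F) :
    ∃ P : Matrix (Fin 2) (Fin 2) F, P.det ≠ 0 ∧ ∃ N' : Matrix (Fin 2) (Fin 2) F, N * P = P * N' ∧ N' 0 0 = α := by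
  suffices h : ∃ P : Matrix (Fin 2) (Fin 2) F, P.det ≠ 0 ∧ ∀ i, (N * P) i 0 = α * P i 0 + P i 1 by
    obtain ⟨P, hP, hcol⟩ := h
    have hu : IsUnit P.det := isUnit_iff_ne_zero.2 hP
    refine ⟨P, hP, P⁻¹ * (N * P), (Matrix.mul_nonsing_inv_cancel_left _ _ hu).symm, ?_⟩
    have e1 := congrFun (congrFun (Matrix.nonsing_inv_mul P hu) 0) 0
    have e2 := congrFun (congrFun (Matrix.nonsing_inv_mul P hu) 0) 1
    simp only [Matrix.mul_apply, Fin.sum_univ_two] at e1 e2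
    simp only [Matrix.mul_apply (M := P⁻¹), hcol, Fin.sum_univ_two]
    simp at e1 e2
    linear_combination α * e1 + e2
  by_cases h10 : N 1 0 ≠ 0
  · exact ⟨!![1, N 0 0 - α; 0, N 1 0], by simp [det_fin_two, h10],
      fun i => by fin_cases i <;> simp [Matrix.mul_apply, Fin.sum_univ_two]⟩
  by_cases h01 : N 0 1 ≠ 0
  · exact ⟨!![0, N 0 1; 1, N 1 1 - α], by simp [det_fin_two, h01],
      fun i => by fin_cases i <;> simp [Matrix.mul_apply, Fin.sum_univ_two]⟩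
  push Not at h10 h01
  have hd : N 0 0 ≠ N 1 1 := by tauto
  exact ⟨!![1, N 0 0 - α; 1, N 1 1 - α], by
      simp [det_fin_two]
      intro h0
      exact hd (by linear_combination -h0),
    fun i => by fin_cases i <;> simp [Matrix.mul_apply, Fin.sum_univ_two, h10, h01]⟩

/-- The Schur complement of the top left entry `1`. -/
def schur (M : Matrix (Fin 3) (Fin 3) F) : Matrix (Fin 2) (Fin 2) F :=
  !![M 1 1 - M 1 0 * M 0 1, M 1 2 - M 1 0 * M 0 2; M 2 1 - M 2 0 * M 0 1, M 2 2 - M 2 0 * M 0 2]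

theorem exists_schur_form (g : Matrix (Fin 3) (Fin 3) F) (hg : ¬ ∃ c : F, g = Matrix.scalar (Fin 3) c)
    (hdet : g.det = 1) (α : F) :
    ∃ Q M : Matrix (Fin 3) (Fin 3) F, Q.det ≠ 0 ∧ g * Q = Q * M ∧ M 0 0 = 1 ∧ schur M 0 0 = α := by
  obtain ⟨Q, M, hQ, hM, h00, h10, h20⟩ := exists_column_form g hg 1
  have hMdet : M.det = 1 := by
    have := congrArg Matrix.det hM
    rw [det_mul, det_mul, hdet, one_mul] at this
    exact mul_left_cancel₀ hQ (by rw [← this, mul_one])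
  obtain ⟨Q, M, hQ, hM, h00, hns⟩ : ∃ Q M : Matrix (Fin 3) (Fin 3) F, Q.det ≠ 0 ∧ g * Q = Q * M ∧
      M 0 0 = 1 ∧ (schur M 1 0 ≠ 0 ∨ schur M 0 1 ≠ 0 ∨ schur M 0 0 ≠ schur M 1 1) := by
    by_cases hns : schur M 1 0 ≠ 0 ∨ schur M 0 1 ≠ 0 ∨ schur M 0 0 ≠ schur M 1 1
    · exact ⟨Q, M, hQ, hM, h00, hns⟩
    · push Not at hns
      simp [schur, h10, h20] at hns
      obtain ⟨h21, h12, h11⟩ := hns
      let P : Matrix (Fin 3) (Fin 3) F := !![1, 0, 1; 0, 1, 0; 0, 0, 1]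
      let P' : Matrix (Fin 3) (Fin 3) F := !![1, 0, -1; 0, 1, 0; 0, 0, 1]
      have hPP : P * P' = 1 := by
        ext i j; fin_cases i <;> fin_cases j <;> simp [P, P', Matrix.mul_apply, Fin.sum_univ_three]
      refine ⟨Q * P, P' * M * P, ?_, ?_, ?_, Or.inr (Or.inl ?_)⟩
      · rw [det_mul, show P.det = 1 by simp [P, det_fin_three], mul_one]; exact hQ
      · rw [← mul_assoc g, hM]
        simp only [mul_assoc]
        rw [← mul_assoc P, hPP, one_mul]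
      · simp only [Matrix.mul_apply, Fin.sum_univ_three]
        simp [P, P', h00, h20]
      · intro h0
        have hw : M 2 2 ≠ 0 := by
          intro hw
          simp [det_fin_three, h00, h10, h20, h21, hw] at hMdet
        apply hw
        simp only [schur, Matrix.mul_apply, Fin.sum_univ_three] at h0
        simp [P, P', h00, h10, h20, h21] at h0
        linear_combination h0 - h12
  obtain ⟨P, hP, N', hN', hN0⟩ := two_by_two (schur M) hns α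
  let P3 : Matrix (Fin 3) (Fin 3) F := !![1, 0, 0; 0, P 0 0, P 0 1; 0, P 1 0, P 1 1]
  have hP3 : P3.det ≠ 0 := by
    rw [det_fin_two] at hP
    simpa [P3, det_fin_three] using hP
  have hu : IsUnit P3.det := isUnit_iff_ne_zero.2 hP3
  refine ⟨Q * P3, P3⁻¹ * (M * P3), by rw [det_mul]; exact mul_ne_zero hQ hP3, ?_, ?_⟩
  · rw [← mul_assoc, hM, mul_assoc, mul_assoc, Matrix.mul_nonsing_inv_cancel_left _ _ hu]
  set X := P3⁻¹ * (M * P3) with hX
  have hX' : P3 * X = M * P3 := Matrix.mul_nonsing_inv_cancel_left _ _ hu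
  have e00 := congrFun (congrFun hX' 0) 0
  have e01 := congrFun (congrFun hX' 0) 1
  have e10 := congrFun (congrFun hX' 1) 0
  have e11 := congrFun (congrFun hX' 1) 1
  have e20 := congrFun (congrFun hX' 2) 0
  have e21 := congrFun (congrFun hX' 2) 1
  have f00 := congrFun (congrFun hN' 0) 0
  have f10 := congrFun (congrFun hN' 1) 0
  simp [P3, schur, Matrix.mul_apply, Fin.sum_univ_three, Fin.sum_univ_two] at e00 e01 e10 e11 e20 e21 f00 f10
  have hx00 : X 0 0 = 1 := e00.trans h00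
  refine ⟨hx00, ?_⟩
  rw [det_fin_two] at hP
  have key : (P 0 0 * P 1 1 - P 0 1 * P 1 0) * (schur X 0 0 - N' 0 0) = 0 := by
    simp [schur, -mul_eq_zero]
    linear_combination P 1 1 * e11 - P 0 1 * e21 - X 0 1 * (P 1 1 * e10 - P 0 1 * e20) +
      P 1 1 * f00 - P 0 1 * f10 + (P 0 1 * M 2 0 - P 1 1 * M 1 0) * e01
  rw [← hN0]
  exact sub_eq_zero.1 ((mul_eq_zero.1 key).resolve_left hP)

theorem exists_conj {D Y P : Matrix (Fin 3) (Fin 3) F} (hD : D.det = 1) (hP : P.det ≠ 0)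
    (hYP : Y * P = P * D) (hC : ∀ δ : F, δ ≠ 0 → ∃ C : Matrix (Fin 3) (Fin 3) F, C.det = δ ∧ C * D = D * C) :
    ∃ u : Matrix.SpecialLinearGroup (Fin 3) F,
      ((u * ⟨D, hD⟩ * u⁻¹ : Matrix.SpecialLinearGroup (Fin 3) F) : Matrix (Fin 3) (Fin 3) F) = Y := by
  obtain ⟨C, hC1, hC2⟩ := hC _ (inv_ne_zero hP)
  have hu : (P * C).det = 1 := by rw [det_mul, hC1, mul_inv_cancel₀ hP]
  refine ⟨⟨P * C, hu⟩, ?_⟩
  set u : Matrix.SpecialLinearGroup (Fin 3) F := ⟨P * C, hu⟩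
  have h1 : ((u * ⟨D, hD⟩ : Matrix.SpecialLinearGroup (Fin 3) F) : Matrix (Fin 3) (Fin 3) F) = Y * u.1 := by
    change P * C * D = Y * (P * C)
    rw [← mul_assoc, hYP, mul_assoc, mul_assoc, hC2]
  rw [Matrix.SpecialLinearGroup.coe_mul, h1, mul_assoc, ← Matrix.SpecialLinearGroup.coe_mul,
    mul_inv_cancel, Matrix.SpecialLinearGroup.coe_one, mul_one]

theorem conj_diag (b c : F) (hb : b ≠ 1) (hc : c ≠ 1) (hbc : b ≠ c)
    (L : Matrix (Fin 3) (Fin 3) F) (hL : L 0 0 = 1 ∧ L 1 1 = b ∧ L 2 2 = c)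
    (htri : (L 0 1 = 0 ∧ L 0 2 = 0 ∧ L 1 2 = 0) ∨ (L 1 0 = 0 ∧ L 2 0 = 0 ∧ L 2 1 = 0)) :
    ∃ P : Matrix (Fin 3) (Fin 3) F, P.det ≠ 0 ∧ L * P = P * !![1, 0, 0; 0, b, 0; 0, 0, c] := by
  obtain ⟨h0, h1, h2⟩ := hL
  have n1 : (1 : F) - b ≠ 0 := sub_ne_zero.2 (Ne.symm hb)
  have n2 : (1 : F) - c ≠ 0 := sub_ne_zero.2 (Ne.symm hc)
  have n3 : b - c ≠ 0 := sub_ne_zero.2 hbc
  have n1' : b - 1 ≠ 0 := sub_ne_zero.2 hb
  have n2' : c - 1 ≠ 0 := sub_ne_zero.2 hc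
  have n3' : c - b ≠ 0 := sub_ne_zero.2 (Ne.symm hbc)
  rcases htri with ⟨a1, a2, a3⟩ | ⟨a1, a2, a3⟩
  · refine ⟨!![1, 0, 0; L 1 0 / (1 - b), 1, 0;
      (L 2 0 + L 2 1 * (L 1 0 / (1 - b))) / (1 - c), L 2 1 / (b - c), 1], by simp [det_fin_three], ?_⟩
    ext i j
    fin_cases i <;> fin_cases j <;>
      simp [Matrix.mul_apply, Fin.sum_univ_three, h0, h1, h2, a1, a2, a3] <;>
      field_simp <;> ring
  · refine ⟨!![1, L 0 1 / (b - 1), (L 0 2 + L 0 1 * (L 1 2 / (c - b))) / (c - 1);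
      0, 1, L 1 2 / (c - b); 0, 0, 1], by simp [det_fin_three], ?_⟩
    ext i j
    fin_cases i <;> fin_cases j <;>
      simp [Matrix.mul_apply, Fin.sum_univ_three, h0, h1, h2, a1, a2, a3] <;>
      field_simp <;> ring

theorem cover_large {b c : F} (hbc1 : b * c = 1) (hb : b ≠ 1) (hc : c ≠ 1) (hbc : b ≠ c)
    (hD : (!![1, 0, 0; 0, b, 0; 0, 0, c] : Matrix (Fin 3) (Fin 3) F).det = 1)
    (g : Matrix.SpecialLinearGroup (Fin 3) F)
    (hg : ¬ ∃ d : F, (g : Matrix (Fin 3) (Fin 3) F) = Matrix.scalar (Fin 3) d) :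
    ∃ u v : Matrix.SpecialLinearGroup (Fin 3) F, g = (u * ⟨_, hD⟩ * u⁻¹) * (v * ⟨_, hD⟩ * v⁻¹) := by
  have hb0 : b ≠ 0 := left_ne_zero_of_mul_eq_one hbc1
  obtain ⟨Q, M, hQ, hM, h00, hs⟩ := exists_schur_form _ hg g.2 (b * b)
  have hMdet : M.det = 1 := by
    have := congrArg Matrix.det hM
    rw [det_mul, det_mul, g.2, one_mul] at this
    exact mul_left_cancel₀ hQ (by rw [← this, mul_one])
  simp [schur] at hs
  let L : Matrix (Fin 3) (Fin 3) F :=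
    !![1, 0, 0; M 1 0, b, 0; M 2 0, (M 2 1 - M 2 0 * M 0 1) / b, c]
  let U : Matrix (Fin 3) (Fin 3) F :=
    !![1, M 0 1, M 0 2; 0, b, (M 1 2 - M 1 0 * M 0 2) / b; 0, 0, c]
  have hLU : L * U = M := by
    have hc' : c = 1 / b := by rw [eq_div_iff hb0]; linear_combination hbc1
    have h22 : c * c + M 2 0 * M 0 2 +
        (M 2 1 - M 2 0 * M 0 1) / b * ((M 1 2 - M 1 0 * M 0 2) / b) = M 2 2 := by
      rw [det_fin_three] at hMdet
      subst hc'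
      field_simp
      linear_combination -hMdet + (M 1 1 * M 2 2 - M 1 2 * M 2 1) * h00 + (M 2 2 - M 2 0 * M 0 2) * hs
    ext i j
    fin_cases i <;> fin_cases j <;> simp [L, U, Matrix.mul_apply, Fin.sum_univ_three, h00]
    · linear_combination -hs
    · field_simp; ring
    · field_simp; ring
    · linear_combination h22
  obtain ⟨A, hA, hLA⟩ := conj_diag b c hb hc hbc L ⟨rfl, rfl, rfl⟩ (Or.inl ⟨rfl, rfl, rfl⟩)
  obtain ⟨B, hB, hUB⟩ := conj_diag b c hb hc hbc U ⟨rfl, rfl, rfl⟩ (Or.inr ⟨rfl, rfl, rfl⟩)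
  have hu : IsUnit Q.det := isUnit_iff_ne_zero.2 hQ
  have hC : ∀ δ : F, δ ≠ 0 → ∃ C : Matrix (Fin 3) (Fin 3) F, C.det = δ ∧
      C * !![1, 0, 0; 0, b, 0; 0, 0, c] = !![1, 0, 0; 0, b, 0; 0, 0, c] * C := fun δ _ =>
    ⟨!![δ, 0, 0; 0, 1, 0; 0, 0, 1], by simp [det_fin_three], by
      ext i j; fin_cases i <;> fin_cases j <;> simp [Matrix.mul_apply, Fin.sum_univ_three]⟩
  obtain ⟨u, hu'⟩ := exists_conj (Y := Q * L * Q⁻¹) (P := Q * A) hD
    (by rw [det_mul]; exact mul_ne_zero hQ hA)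
    (by simp only [mul_assoc]; rw [Matrix.nonsing_inv_mul_cancel_left _ _ hu, hLA]) hC
  obtain ⟨v, hv'⟩ := exists_conj (Y := Q * U * Q⁻¹) (P := Q * B) hD
    (by rw [det_mul]; exact mul_ne_zero hQ hB)
    (by simp only [mul_assoc]; rw [Matrix.nonsing_inv_mul_cancel_left _ _ hu, hUB]) hC
  refine ⟨u, v, Subtype.ext ?_⟩
  change (g : Matrix (Fin 3) (Fin 3) F) = _ * _
  rw [hu', hv']
  simp only [mul_assoc]
  rw [Matrix.nonsing_inv_mul_cancel_left _ _ hu, ← mul_assoc L, hLU, ← mul_assoc, ← hM, mul_assoc,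
    Matrix.mul_nonsing_inv _ hu, mul_one]

/-- Companion matrix of `X^3 - X - 1` over three elements. -/
def comp3 : Matrix (Fin 3) (Fin 3) (ZMod 3) := !![0, 0, 1; 1, 0, 1; 0, 1, 0]

/-- Certificates: class elements with their inverses. -/
def cover3 : List (Matrix (Fin 3) (Fin 3) (ZMod 3) × Matrix (Fin 3) (Fin 3) (ZMod 3)) :=
  [(!![0, 0, 1; 0, 1, 1; 2, 1, 2], !![1, 1, 2; 2, 1, 0; 1, 0, 0]),
   (!![0, 0, 2; 0, 1, 1; 1, 1, 2], !![1, 2, 1; 1, 1, 0; 2, 0, 0]),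
   (!![0, 1, 0; 2, 1, 2; 1, 2, 2], !![1, 1, 2; 1, 0, 0; 0, 1, 1]),
   (!![1, 2, 0; 2, 0, 1; 1, 2, 2], !![1, 2, 2; 0, 2, 2; 1, 0, 2]),
   (!![0, 1, 1; 2, 2, 2; 1, 0, 1], !![2, 2, 0; 0, 2, 2; 1, 1, 1]),
   (!![1, 0, 1; 1, 0, 2; 2, 2, 2], !![2, 2, 0; 2, 0, 2; 2, 1, 0]),
   (!![0, 1, 0; 0, 1, 2; 2, 0, 2], !![2, 1, 2; 1, 0, 0; 1, 2, 0]),
   (!![1, 0, 1; 2, 1, 2; 0, 2, 1], !![0, 2, 2; 1, 1, 0; 1, 1, 1]),
   (!![0, 2, 1; 1, 1, 0; 1, 0, 2], !![2, 2, 2; 1, 2, 1; 2, 2, 1]),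
   (!![1, 2, 2; 0, 0, 1; 1, 1, 2], !![2, 1, 2; 1, 0, 2; 0, 1, 0]),
   (!![0, 2, 0; 1, 1, 2; 2, 2, 2], !![1, 2, 1; 2, 0, 0; 0, 1, 1]),
   (!![0, 2, 2; 0, 0, 1; 2, 0, 0], !![0, 0, 2; 2, 2, 0; 0, 1, 0]),
   (!![1, 0, 2; 2, 2, 0; 0, 1, 0], !![0, 2, 2; 0, 0, 1; 2, 2, 2]),
   (!![0, 1, 0; 0, 2, 1; 1, 0, 1], !![2, 2, 1; 1, 0, 0; 1, 1, 0]),
   (!![1, 0, 1; 2, 1, 1; 2, 2, 1], !![2, 2, 2; 0, 2, 1; 2, 1, 1]),
   (!![0, 2, 0; 2, 0, 1; 2, 0, 0], !![0, 0, 2; 2, 0, 0; 0, 1, 2]),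
   (!![2, 0, 1; 1, 2, 2; 2, 1, 2], !![2, 1, 1; 2, 2, 0; 0, 1, 1]),
   (!![1, 0, 2; 1, 0, 1; 1, 1, 2], !![2, 2, 0; 2, 0, 1; 1, 2, 0]),
   (!![1, 2, 2; 1, 0, 2; 2, 0, 2], !![0, 2, 1; 2, 1, 0; 0, 1, 1]),
   (!![2, 0, 1; 1, 1, 2; 2, 2, 0], !![2, 2, 2; 1, 1, 0; 0, 2, 2]),
   (!![0, 1, 1; 1, 1, 1; 2, 0, 2], !![2, 1, 0; 0, 1, 1; 1, 2, 2]),
   (!![0, 1, 2; 2, 0, 1; 1, 0, 0], !![0, 0, 1; 1, 1, 1; 0, 1, 1]),
   (!![0, 1, 2; 1, 1, 2; 1, 0, 2], !![2, 1, 0; 0, 1, 2; 2, 1, 2])]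

/-- The basis `e, y e, y² e`. -/
def frame (y : Matrix (Fin 3) (Fin 3) (ZMod 3)) : Matrix (Fin 3) (Fin 3) (ZMod 3) :=
  Matrix.of fun i j => if j = 0 then (if i = 0 then 1 else 0) else if j = 1 then y i 0 else (y * y) i 0

/-- Conjugacy to `comp3`. -/
def inClass (y : Matrix (Fin 3) (Fin 3) (ZMod 3)) : Bool :=
  decide ((frame y).det ≠ 0) && decide (y * frame y = frame y * comp3)

theorem cover3_spec : ∀ x y s t u w : ZMod 3,
    (!![0, x, y; 1, s, t; 0, u, w] : Matrix (Fin 3) (Fin 3) (ZMod 3)).det = 1 →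
    ∃ e ∈ cover3, e.1 * e.2 = 1 ∧ inClass e.1 = true ∧
      inClass (e.2 * !![0, x, y; 1, s, t; 0, u, w]) = true := by
  decide +kernel

theorem comp3_det : comp3.det = 1 := by decide +kernel

theorem comp3_pow : comp3 ^ 13 = 1 := by decide +kernel

theorem cover_small (f : ZMod 3 ≃+* F) (hD : (comp3.map f).det = 1)
    (g : Matrix.SpecialLinearGroup (Fin 3) F)
    (hg : ¬ ∃ d : F, (g : Matrix (Fin 3) (Fin 3) F) = Matrix.scalar (Fin 3) d) :
    ∃ u v : Matrix.SpecialLinearGroup (Fin 3) F, g = (u * ⟨_, hD⟩ * u⁻¹) * (v * ⟨_, hD⟩ * v⁻¹) := by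
  obtain ⟨Q, M, hQ, hM, h00, h10, h20⟩ := exists_column_form (g : Matrix (Fin 3) (Fin 3) F) hg 0
  have hMdet : M.det = 1 := by
    have := congrArg Matrix.det hM
    rw [det_mul, det_mul, g.2, one_mul] at this
    exact mul_left_cancel₀ hQ (by rw [← this, mul_one])
  set M₀ : Matrix (Fin 3) (Fin 3) (ZMod 3) := !![0, f.symm (M 0 1), f.symm (M 0 2);
    1, f.symm (M 1 1), f.symm (M 1 2); 0, f.symm (M 2 1), f.symm (M 2 2)] with hM₀
  have hMM : M₀.map f = M := by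
    ext i j
    fin_cases i <;> fin_cases j <;> simp [M₀, h00, h10, h20]
  have hdet₀ : M₀.det = 1 := by
    apply f.injective
    rw [map_one, ← hMdet, ← hMM]
    exact f.toRingHom.map_det M₀
  obtain ⟨⟨y, yi⟩, -, hyy, hy1, hy2⟩ := cover3_spec _ _ _ _ _ _ hdet₀
  rw [← hM₀] at hy2
  simp only [inClass, Bool.and_eq_true, decide_eq_true_eq] at hy1 hy2
  have hu : IsUnit Q.det := isUnit_iff_ne_zero.2 hQ
  let φ : Matrix (Fin 3) (Fin 3) (ZMod 3) →+* Matrix (Fin 3) (Fin 3) F := f.toRingHom.mapMatrix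
  have hφ : ∀ A, φ A = A.map f := fun A => rfl
  have hC : ∀ δ : F, δ ≠ 0 → ∃ C : Matrix (Fin 3) (Fin 3) F, C.det = δ ∧
      C * comp3.map f = comp3.map f * C := by
    intro δ hδ
    refine ⟨δ • 1, ?_, by rw [smul_mul_assoc, mul_smul_comm, one_mul, mul_one]⟩
    have h3 : ∀ z : ZMod 3, z ≠ 0 → z ^ 3 = z := by decide
    rw [det_smul, det_one, mul_one, Fintype.card_fin]
    apply f.symm.injective
    rw [map_pow]
    exact h3 _ (by simpa using hδ)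
  have hne : ∀ A : Matrix (Fin 3) (Fin 3) (ZMod 3), A.det ≠ 0 → (φ A).det ≠ 0 := by
    intro A hA
    have : (φ A).det = f A.det := (f.toRingHom.map_det A).symm
    rw [this]
    simpa using hA
  obtain ⟨u, hu'⟩ := exists_conj (Y := Q * φ y * Q⁻¹) (P := Q * φ (frame y)) hD
    (by rw [det_mul]; exact mul_ne_zero hQ (hne _ hy1.1))
    (by simp only [mul_assoc]; rw [Matrix.nonsing_inv_mul_cancel_left _ _ hu, ← map_mul, hy1.2, map_mul, hφ comp3]) hC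
  obtain ⟨v, hv'⟩ := exists_conj (Y := Q * φ (yi * M₀) * Q⁻¹) (P := Q * φ (frame (yi * M₀))) hD
    (by rw [det_mul]; exact mul_ne_zero hQ (hne _ hy2.1))
    (by simp only [mul_assoc]; rw [Matrix.nonsing_inv_mul_cancel_left _ _ hu, ← map_mul, ← mul_assoc, hy2.2, map_mul, hφ comp3, mul_assoc]) hC
  refine ⟨u, v, Subtype.ext ?_⟩
  change (g : Matrix (Fin 3) (Fin 3) F) = _ * _
  rw [hu', hv']
  simp only [mul_assoc]
  rw [Matrix.nonsing_inv_mul_cancel_left _ _ hu, ← mul_assoc (φ y), ← map_mul, ← mul_assoc y, hyy,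
    one_mul, hφ, hMM, ← mul_assoc, ← hM, mul_assoc, Matrix.mul_nonsing_inv _ hu, mul_one]

/-- A form of Thompson's conjecture for PSL(3,q), q > 2 (covering the non-identity elements), with a semisimple class: for F a finite field of characteristic p with more than 2 elements there is an element x of PSL(3,F) of order prime to p such that every non-identity element of PSL(3,F) is a product of two conjugates of x. -/
theorem result {F : Type*} [Field F] [Fintype F] (p : ℕ) [Fact p.Prime] [CharP F p] (h3 : 3 ≤ Fintype.card F) :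
    ∃ x : Matrix.ProjectiveSpecialLinearGroup (Fin 3) F, ¬ p ∣ orderOf x ∧ ∀ g : Matrix.ProjectiveSpecialLinearGroup (Fin 3) F, g ≠ 1 → ∃ u v : Matrix.ProjectiveSpecialLinearGroup (Fin 3) F, g = (u * x * u⁻¹) * (v * x * v⁻¹) := by
  classical
  suffices key : ∃ D : Matrix.SpecialLinearGroup (Fin 3) F, (∃ m : ℕ, ¬ p ∣ m ∧ D ^ m = 1) ∧
      ∀ g : Matrix.SpecialLinearGroup (Fin 3) F,
        (¬ ∃ d : F, (g : Matrix (Fin 3) (Fin 3) F) = Matrix.scalar (Fin 3) d) →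
        ∃ u v : Matrix.SpecialLinearGroup (Fin 3) F, g = (u * D * u⁻¹) * (v * D * v⁻¹) by
    obtain ⟨D, ⟨m, hm, hDm⟩, hcov⟩ := key
    refine ⟨toPSL D, fun hd => hm (hd.trans (orderOf_dvd_of_pow_eq_one (by rw [← map_pow, hDm, map_one]))), ?_⟩
    intro g hg
    obtain ⟨g, rfl⟩ := QuotientGroup.mk'_surjective _ g
    obtain ⟨u, v, huv⟩ := hcov g (fun h => hg ((toPSL_eq_one_iff g).2 h))
    refine ⟨toPSL u, toPSL v, ?_⟩
    simp only [← map_inv, ← map_mul, ← huv]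
  rcases eq_or_lt_of_le h3 with h3' | h4
  · let f : ZMod 3 ≃+* F := ZMod.ringEquivOfPrime F Nat.prime_three h3'.symm
    have hp3 : p = 3 := by
      have h0 : ((3 : ℕ) : F) = 0 := by rw [h3']; exact FiniteField.cast_card_eq_zero F
      exact (Nat.prime_dvd_prime_iff_eq Fact.out Nat.prime_three).1 ((CharP.cast_eq_zero_iff F p 3).1 h0)
    have hD : (comp3.map f).det = 1 := by
      have : (comp3.map f).det = f comp3.det := (f.toRingHom.map_det comp3).symm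
      rw [this, comp3_det, map_one]
    refine ⟨⟨_, hD⟩, ⟨13, by rw [hp3]; norm_num, Subtype.ext ?_⟩, fun g hg => cover_small f hD g hg⟩
    change (f.toRingHom.mapMatrix comp3) ^ 13 = 1
    rw [← map_pow, comp3_pow, map_one]
  · have hcard : 3 ≤ Fintype.card Fˣ := by rw [Fintype.card_units]; omega
    obtain ⟨u, hu⟩ := IsCyclic.exists_ofOrder_eq_natCard (α := Fˣ)
    rw [Nat.card_eq_fintype_card] at hu
    have hb : (u : F) ≠ 1 := fun h => by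
      rw [show u = 1 from Units.ext h, orderOf_one] at hu; omega
    have hc : ((u⁻¹ : Fˣ) : F) ≠ 1 := fun h => by
      rw [show u = 1 from inv_eq_one.1 (Units.ext h), orderOf_one] at hu; omega
    have hbc : (u : F) ≠ ((u⁻¹ : Fˣ) : F) := fun h => by
      have h2 : u ^ 2 = 1 := by rw [sq]; nth_rewrite 2 [show u = u⁻¹ from Units.ext h]; exact mul_inv_cancel u
      have := Nat.le_of_dvd (by norm_num) (orderOf_dvd_of_pow_eq_one h2)
      omega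
    have hD : (!![1, 0, 0; 0, (u : F), 0; 0, 0, ((u⁻¹ : Fˣ) : F)] : Matrix (Fin 3) (Fin 3) F).det = 1 := by
      simp [Matrix.det_fin_three]
    refine ⟨⟨_, hD⟩, ⟨Fintype.card F - 1, ?_, Subtype.ext ?_⟩,
      fun g hg => cover_large (Units.mul_inv u) hb hc hbc hD g hg⟩
    · intro hdvd
      have h0 : ((Fintype.card F - 1 : ℕ) : F) = 0 := (CharP.cast_eq_zero_iff F p _).2 hdvd
      rw [Nat.cast_sub Fintype.card_pos, FiniteField.cast_card_eq_zero] at h0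
      simp at h0
    · change (!![1, 0, 0; 0, (u : F), 0; 0, 0, ((u⁻¹ : Fˣ) : F)] : Matrix (Fin 3) (Fin 3) F) ^ _ = 1
      have hdg : (!![1, 0, 0; 0, (u : F), 0; 0, 0, ((u⁻¹ : Fˣ) : F)] : Matrix (Fin 3) (Fin 3) F) =
          Matrix.diagonal ![1, (u : F), ((u⁻¹ : Fˣ) : F)] := by
        ext i j; fin_cases i <;> fin_cases j <;> simp
      rw [hdg, Matrix.diagonal_pow, ← Matrix.diagonal_one]
      congr 1
      funext i
      fin_cases i <;> simp [FiniteField.pow_card_sub_one_eq_one]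

end Cfsg.Agent.S2459
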