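import Cfsg.Statements.S2460
import Cfsg.Agent.Lib.PSp4Class.Compress
-- import your own Cfsg.Agent.* helpers here

set_option autoImplicit false
open Cfsg

namespace Cfsg.Agent.S2460

open Matrix Cfsg.Agent.Lib.PSp4Class

variable {F : Type*} [Field F]

theorem exists_coeffs [Fintype F] (h3 : 3 ≤ Fintype.card F) :
    ∃ a ν : F, a ≠ 0 ∧ ν ≠ 1 ∧ ∀ r : F, r * r - a * r + ν ≠ 0 := by
  classical
  by_cases h2 : (2 : F) = 0
  · -- the map `r ↦ r² - r` is not onto
    obtain ⟨c, hc⟩ : ∃ c : F, ∀ r : F, r * r - r ≠ c := by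
      by_contra h
      simp only [not_exists, not_forall, not_not] at h
      have hinj := Finite.injective_iff_surjective.2 (fun c => h c : Function.Surjective fun r : F => r * r - r)
      exact zero_ne_one (hinj (show (0 : F) * 0 - 0 = 1 * 1 - 1 by ring))
    have hc0 : c ≠ 0 := fun e => hc 0 (by rw [e]; ring)
    obtain ⟨a, ha0, ha⟩ : ∃ a : F, a ≠ 0 ∧ -(a * a * c) ≠ 1 := by
      obtain ⟨b, hb⟩ : ∃ b : F, b ∉ ({0, 1} : Finset F) := by
        by_contra h
        simp only [not_exists, not_not] at h
        have := Finset.card_le_card (fun b _ => h b : (Finset.univ : Finset F) ⊆ {0, 1})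
        rw [Finset.card_univ] at this
        exact absurd (this.trans Finset.card_le_two) (by omega)
      simp only [Finset.mem_insert, Finset.mem_singleton, not_or] at hb
      by_cases h1 : -c = 1
      · refine ⟨b, hb.1, fun e => hb.2 (sub_eq_zero.1 (mul_self_eq_zero.1 ?_))⟩
        linear_combination e - b * b * h1 + (1 - b) * h2
      · exact ⟨1, one_ne_zero, by simpa using h1⟩
    refine ⟨a, -(a * a * c), ha0, ha, fun r e => hc (r / a) ?_⟩
    field_simp
    linear_combination e
  · have hodd : ringChar F ≠ 2 := fun h => h2 (by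
      have := ringChar.Nat.cast_ringChar (R := F)
      rw [h] at this; exact_mod_cast this)
    have h4 : (4 : F) ≠ 0 := fun e => h2 (mul_self_eq_zero.1 (by linear_combination e))
    obtain ⟨n, hn, hne⟩ : ∃ n : F, ¬ IsSquare n ∧ n ≠ -3 := by
      obtain ⟨n, hn⟩ := FiniteField.exists_nonsquare hodd
      by_cases he : n = -3
      · by_cases h5 : ∃ u : F, u ≠ 0 ∧ u * u ≠ 1
        · obtain ⟨u, hu0, hu1⟩ := h5
          refine ⟨u * u * n, fun ⟨z, hz⟩ => hn ⟨z / u, ?_⟩, fun e => hu1 ?_⟩
          · field_simp; linear_combination hz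
          · subst he
            have h30 : (-3 : F) ≠ 0 := fun e0 => hn (e0 ▸ IsSquare.zero)
            exact mul_right_cancel₀ h30 (by linear_combination e)
        · exfalso
          simp only [not_exists, not_and, not_not] at h5
          have h22 := h5 2 h2
          refine hn ?_
          rw [he, show (-3 : F) = 0 from by linear_combination -h22]
          exact IsSquare.zero
      · exact ⟨n, hn, he⟩
    refine ⟨1, (1 - n) / 4, one_ne_zero, fun e => hne ?_, fun r e => hn ⟨2 * r - 1, ?_⟩⟩
    · field_simp at e; linear_combination -e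
    · field_simp at e; linear_combination -e

theorem companion_ne {a ν : F} (hν : ν ≠ 1) (hirr : ∀ r : F, r * r - a * r + ν ≠ 0) {x y z : F}
    (h2 : ν = -1 → (2 : F) * a ≠ 0)
    (e1 : x = ν * ν * z) (e2 : y * (1 + ν) = -(a * ν * z)) (e3 : z = ν * ν * z + 2 * a * y + a * a * z) :
    x = 0 ∧ y = 0 ∧ z = 0 := by
  have hν0 : ν ≠ 0 := fun e => hirr 0 (by rw [e]; ring)
  by_cases h : ν = -1
  · have ha : a ≠ 0 := right_ne_zero_of_mul (h2 h)
    have hz : z = 0 := by
      have : a * ν * z = 0 := by linear_combination e2 - y * h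
      exact (mul_eq_zero.1 this).resolve_left (mul_ne_zero ha hν0)
    have hy : 2 * a * y = 0 := by rw [hz] at e3; linear_combination -e3
    exact ⟨by rw [e1, hz, mul_zero], (mul_eq_zero.1 hy).resolve_left (h2 h), hz⟩
  · have h1 : 1 + ν ≠ 0 := fun e => h (by linear_combination e)
    have hz : z = 0 := by
      have hp : z * ((1 - ν) * ((a - (1 + ν)) * (a + (1 + ν)))) = 0 := by
        linear_combination -(1 + ν) * e3 - 2 * a * e2
      rcases mul_eq_zero.1 hp with hz | hz
      · exact hz
      rcases mul_eq_zero.1 hz with h' | h'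
      · exact absurd (sub_eq_zero.1 h').symm hν
      rcases mul_eq_zero.1 h' with h'' | h''
      · exact absurd (show (1 : F) * 1 - a * 1 + ν = 0 by linear_combination -h'') (hirr 1)
      · exact absurd (show (-1 : F) * -1 - a * -1 + ν = 0 by linear_combination h'') (hirr (-1))
    refine ⟨by rw [e1, hz, mul_zero], (mul_eq_zero.1 ?_).resolve_right h1, hz⟩
    rw [e2, hz]; ring

/-- A form of Thompson's conjecture for the simple groups PSp(4,q), q ≥ 3 (covering the non-identity elements), with a semisimple class: for F a finite field of characteristic p with at least 3 elements there is an element x of PSp(4,F) of order prime to p such that every non-identity element of PSp(4,F) is a product of two conjugates of x. -/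
theorem result {F : Type*} [Field F] [Fintype F] (p : ℕ) [Fact p.Prime] [CharP F p] (h3 : 3 ≤ Fintype.card F) :
    ∃ x : Cfsg.PSp 2 F, ¬ p ∣ orderOf x ∧ ∀ g : Cfsg.PSp 2 F, g ≠ 1 → ∃ u v : Cfsg.PSp 2 F, g = (u * x * u⁻¹) * (v * x * v⁻¹) := by
  classical
  obtain ⟨a, ν, ha, hν, hirr⟩ := exists_coeffs h3
  have hν0 : ν ≠ 0 := fun e => hirr 0 (by rw [e]; ring)
  obtain ⟨A, hA⟩ := exists_GL (show (cmp a ν).det ≠ 0 by rw [Cfsg.Agent.Lib.PSp4Class.cmp, det_fin_two_of]; simpa)
  have htr : A.1.trace = a := by rw [hA, Cfsg.Agent.Lib.PSp4Class.cmp, trace_fin_two_of, zero_add]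
  have hdet : A.1.det = ν := by rw [hA, Cfsg.Agent.Lib.PSp4Class.cmp, det_fin_two_of]; ring
  have hm1 : ν = -1 → (2 : F) * a ≠ 0 := fun h => mul_ne_zero (fun h2 => hν (by linear_combination h - h2)) ha
  have hgood : Good A := by
    refine ⟨fun X hX e => ?_, fun Y hY e => ?_, by rw [htr, hdet]; exact hirr, by rw [htr]; exact ha⟩
    · have hs : X 1 0 = X 0 1 := congrFun (congrFun hX 0) 1
      rw [hA] at e
      have c00 := congrFun (congrFun e 0) 0
      have c01 := congrFun (congrFun e 0) 1
      have c11 := congrFun (congrFun e 1) 1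
      simp [Cfsg.Agent.Lib.PSp4Class.cmp, Matrix.mul_apply, Matrix.vecMul, dotProduct, Fin.sum_univ_two, hs] at c00 c01 c11
      obtain ⟨x0, y0, z0⟩ := companion_ne hν hirr hm1 (x := X 0 0) (y := X 0 1) (z := X 1 1)
        (by linear_combination -c00) (by linear_combination -c01) (by linear_combination -c11 - c00)
      ext i j
      fin_cases i <;> fin_cases j <;> simp [hs, x0, y0, z0]
    · have hs : Y 1 0 = Y 0 1 := congrFun (congrFun hY 0) 1
      rw [hA] at e
      have c00 := congrFun (congrFun e 0) 0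
      have c01 := congrFun (congrFun e 0) 1
      have c11 := congrFun (congrFun e 1) 1
      simp [Cfsg.Agent.Lib.PSp4Class.cmp, Matrix.mul_apply, Matrix.vecMul, dotProduct, Fin.sum_univ_two, hs] at c00 c01 c11
      obtain ⟨x0, y0, z0⟩ := companion_ne hν hirr hm1 (x := ν * ν * Y 0 0) (y := -ν * Y 0 1) (z := Y 0 0)
        rfl (by linear_combination ν * c01 - a * ν * c00)
        (by linear_combination -c11 - (1 - a * a) * c00)
      have y1 : Y 0 1 = 0 := (mul_eq_zero.1 y0).resolve_left (neg_ne_zero.2 hν0)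
      have w1 : Y 1 1 = 0 := c00.trans z0
      ext i j
      fin_cases i <;> fin_cases j <;> simp [hs, w1, y1, z0]
  let π := QuotientGroup.mk' (Subgroup.center (Sp4 F))
  have hfin : Finite (Matrix (Fin 2) (Fin 2) F) := inferInstanceAs (Finite (Fin 2 → Fin 2 → F))
  haveI : Finite (GL (Fin 2) F) := Finite.of_injective (fun g : GL (Fin 2) F => g.1) (fun g h e => Units.ext e)
  refine ⟨π (Dm A), fun hp => ?_, fun g hg => ?_⟩
  · have hpA : p ∣ orderOf A := hp.trans ((orderOf_map_dvd π _).trans (orderOf_map_dvd Dm A))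
    set k := orderOf A / p with hk
    have hkp : k * p = orderOf A := Nat.div_mul_cancel hpA
    set N := (A ^ k).1 - 1 with hN
    have hNp : N ^ p = 0 := by
      haveI : CharP (Matrix (Fin 2) (Fin 2) F) p :=
        charP_of_injective_algebraMap (algebraMap F (Matrix (Fin 2) (Fin 2) F)).injective p
      rw [hN, sub_pow_char_of_commute p (Commute.one_right _), one_pow, sub_eq_zero,
        ← Units.val_pow_eq_pow_val, ← pow_mul, hkp, pow_orderOf_eq_one, Units.val_one]
    have hdet0 : N.det = 0 := eq_zero_of_pow_eq_zero (n := p) (by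
      rw [← det_pow, hNp, Matrix.det_zero])
    have hcomm : N * A.1 = A.1 * N := by
      rw [hN, sub_mul, mul_sub, one_mul, mul_one, ← Units.val_mul, ← Units.val_mul, ← pow_succ, ← pow_succ']
    rw [hA] at hcomm
    have c00 := congrFun (congrFun hcomm 0) 0
    have c10 := congrFun (congrFun hcomm 1) 0
    simp [Cfsg.Agent.Lib.PSp4Class.cmp, Matrix.mul_apply, Matrix.vecMul, dotProduct, Fin.sum_univ_two] at c00 c10
    rw [det_fin_two] at hdet0
    have h10 : N 1 0 = 0 := by
      by_contra h
      refine hirr (-N 0 0 / N 1 0) ?_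
      field_simp
      linear_combination hdet0 + N 0 1 * 0 + N 1 0 * c00 - N 0 0 * c10
    have h01 : N 0 1 = 0 := by rw [c00, h10]; ring
    have h11 : N 1 1 = N 0 0 := by rw [c10, h10]; ring
    have h00 : N 0 0 = 0 := by
      rw [h10, h01, h11] at hdet0
      exact mul_self_eq_zero.1 (by linear_combination hdet0)
    have hN0 : N = 0 := by
      ext i j
      fin_cases i <;> fin_cases j <;> simp [h00, h01, h10, h11]
    have hAk : A ^ k = 1 := Units.ext (sub_eq_zero.1 (hN ▸ hN0))
    have hpos : 0 < orderOf A := orderOf_pos A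
    have hle : orderOf A ≤ k := by
      refine orderOf_le_of_pow_eq_one ?_ hAk
      rcases Nat.eq_zero_or_pos k with h0 | h0
      · rw [h0, zero_mul] at hkp; omega
      · exact h0
    have hp2 : 2 ≤ p := (Fact.out : p.Prime).two_le
    have : k < k * p := lt_mul_of_one_lt_right (by omega) (by omega)
    omega
  · obtain ⟨G, rfl⟩ := QuotientGroup.mk'_surjective (Subgroup.center (Sp4 F)) g
    have hG : G ∉ Subgroup.center (Sp4 F) := fun h => hg ((QuotientGroup.eq_one_iff G).2 h)
    -- a representative with a good compression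
    have key : ∃ G' K : Sp4 F, π G' = π G ∧ (bP (K⁻¹ * G' * K)).det = 1 ∧
        (bP (K⁻¹ * G' * K) = 1 ∨ (Lib.PSp4Class.NonScalar (bP (K⁻¹ * G' * K)) ∧ (bP (K⁻¹ * G' * K)).trace ≠ 2)) := by
      obtain ⟨K, hd, hor⟩ := tgt h3 hG
      obtain ⟨P, hP⟩ : ∃ P, P = bP (K⁻¹ * G * K) := ⟨_, rfl⟩
      rw [← hP] at hd hor
      by_cases hgoodP : P = 1 ∨ (Lib.PSp4Class.NonScalar P ∧ P.trace ≠ 2)
      · exact ⟨G, K, rfl, hP ▸ hd, hP ▸ hgoodP⟩
      simp only [not_or, not_and, not_not] at hgoodP
      have hscal : ¬ Lib.PSp4Class.NonScalar P → P = -1 := by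
        intro hs
        simp only [Lib.PSp4Class.NonScalar, not_or, not_not] at hs
        have e : P 0 0 * P 0 0 = 1 := by
          rw [det_fin_two, hs.1, hs.2.1, ← hs.2.2] at hd
          linear_combination hd
        rcases mul_self_eq_one_iff.1 e with h | h
        · exact absurd (by ext i j; fin_cases i <;> fin_cases j <;> simp [hs.1, hs.2.1, ← hs.2.2, h]) hgoodP.1
        · ext i j; fin_cases i <;> fin_cases j <;> simp [hs.1, hs.2.1, ← hs.2.2, h]
      have h2 : (2 : F) ≠ 0 := by
        intro h2
        by_cases hs : Lib.PSp4Class.NonScalar P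
        · have ht := hgoodP.2 hs
          rcases hor with h | h | h
          · exact h h2
          · exact h (ht.trans h2)
          · exact hgoodP.1 h
        · refine hgoodP.1 ?_
          rw [hscal hs]
          ext i j
          have : (-1 : F) = 1 := by linear_combination -h2
          fin_cases i <;> fin_cases j <;> simp [this]
      let c : Sp4 F := ⟨-1, SymplecticGroup.neg_mem (Matrix.symplecticGroup (Fin 2) F).one_mem⟩
      have hc : c ∈ Subgroup.center (Sp4 F) := Cfsg.Agent.Lib.Symplectic.mem_center_sp_iff.2 (Or.inr rfl)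
      refine ⟨c * G, K, ?_, ?_⟩
      · rw [map_mul, show π c = 1 from (QuotientGroup.eq_one_iff c).2 hc, one_mul]
      have e : bP (K⁻¹ * (c * G) * K) = -P := by
        rw [← mul_assoc, Subgroup.mem_center_iff.1 hc K⁻¹, mul_assoc c, mul_assoc c, hP, bP, bP, Submonoid.coe_mul,
          show c.1 = -1 from rfl, neg_one_mul]
        rfl
      rw [e]
      refine ⟨by rw [det_neg, hd]; simp, ?_⟩
      by_cases hs : Lib.PSp4Class.NonScalar P
      · refine Or.inr ⟨?_, ?_⟩
        · rcases hs with h | h | h
          · exact Or.inl (by simpa using h)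
          · exact Or.inr (Or.inl (by simpa using h))
          · exact Or.inr (Or.inr (by simpa using h))
        · rw [trace_neg, hgoodP.2 hs]
          intro e2
          exact h2 (mul_self_eq_zero.1 (by linear_combination -e2))
      · exact Or.inl (by rw [hscal hs, neg_neg])
    obtain ⟨G', K, hπ, hd, hor⟩ := key
    obtain ⟨h, hh⟩ := exists_GL (show (bP (K⁻¹ * G' * K)).det ≠ 0 by rw [hd]; exact one_ne_zero)
    obtain ⟨Y, hY, X, hX, hdec⟩ := decomp (K⁻¹ * G' * K) h hh.symm
    obtain ⟨P, Q, hPQ, hP, hQ⟩ := exists_factor hgood hY hX (h := h) (hh ▸ hd) (hh ▸ hor)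
    obtain ⟨u, hu⟩ := isConj_iff.1 hP
    obtain ⟨v, hv⟩ := isConj_iff.1 hQ
    refine ⟨π (K * u), π (K * v), ?_⟩
    rw [← hπ, ← map_inv, ← map_inv, ← map_mul, ← map_mul, ← map_mul, ← map_mul, ← map_mul]
    congr 1
    have : G' = K * (P * Q) * K⁻¹ := by rw [← hPQ, ← hdec]; group
    rw [this, ← hu, ← hv]
    group

end Cfsg.Agent.S2460
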