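import Cfsg.Statements.S2463
import Cfsg.Agent.Lib.ReeGauss50.Tits

set_option autoImplicit false
open Cfsg

namespace Cfsg.Agent.S2463

/-- A form of Thompson's conjecture for the simple groups of type ²F₄ (covering the non-identity elements) with a semisimple class: if M is a large Ree group ²F₄(2^(2m+1)) with m ≥ 1, or the Tits group, then there is an element x of M of odd order such that every non-identity element of M is a product of two conjugates of x. -/
theorem result {M : Type*} [Group M] [Finite M] (hM : Cfsg.Lie.Iso2F4 M ∨ Cfsg.Lie.IsoTits M) :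
    ∃ x : M, Odd (orderOf x) ∧ ∀ g : M, g ≠ 1 → ∃ u v : M, g = (u * x * u⁻¹) * (v * x * v⁻¹) := by
  suffices key : ∀ {G : Type} [Group G],
      (∃ x : G, Odd (orderOf x) ∧ ∀ g : G, g ≠ 1 → ∃ u v : G, g = (u * x * u⁻¹) * (v * x * v⁻¹)) →
      (M ≃* G) → ∃ x : M, Odd (orderOf x) ∧ ∀ g : M, g ≠ 1 → ∃ u v : M, g = (u * x * u⁻¹) * (v * x * v⁻¹) by
    rcases hM with ⟨K, _, _, m, hm, hK, ⟨e⟩⟩ | hT
    · obtain ⟨θ, F⟩ := Cfsg.Agent.Lib.LieTwisted.Twist.F4.exists_th hK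
      have hsg : ∀ x : K, Cfsg.Agent.Lib.LieTwisted.Suzuki.sg m x = θ x ^ 2 := fun x => by
        rw [F.apply, ← pow_mul, ← pow_succ]; rfl
      obtain ⟨x, hx, h⟩ := Cfsg.Agent.Lib.ReeGauss50.Concrete.two_conj F hm ⟨hK⟩ hsg
      exact key (G := ↥(Cfsg.Lie.twistedF4 K (2 ^ m))) ⟨x, hx, fun g _ => h g⟩ e
    · obtain ⟨e⟩ := hT
      exact key Cfsg.Agent.Lib.ReeGauss50.Tits.two_conj e
  intro G _ ⟨x, hx, h⟩ e
  refine ⟨e.symm x, by rw [MulEquiv.orderOf_eq]; exact hx, fun g hg => ?_⟩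
  obtain ⟨u, v, huv⟩ := h (e g) (by simpa using hg)
  exact ⟨e.symm u, e.symm v, e.injective (by simpa using huv)⟩

end Cfsg.Agent.S2463
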