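import Cfsg.Statements.S2466
import Cfsg.Agent.Lib.AltOrders.Basic

set_option autoImplicit false
open Cfsg Cfsg.Agent.Lib.AltOrders

namespace Cfsg.Agent.S2466


/-- Adjacency of odd primes in the prime graph of the alternating groups: let r ≠ s be odd primes at most n. The alternating group of degree n has an element of order r·s if and only if r + s ≤ n. -/
theorem result (n r s : ℕ) (hr : r.Prime) (hs : s.Prime) (hr2 : r ≠ 2) (hs2 : s ≠ 2) (hrs : r ≠ s) (hrn : r ≤ n) (hsn : s ≤ n) :
    (r * s ∈ Set.range (orderOf : alternatingGroup (Fin n) → ℕ)) ↔ r + s ≤ n := by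
  have hr3 : 3 ≤ r := by have := hr.two_le; omega
  have hs3 : 3 ≤ s := by have := hs.two_le; omega
  rw [mem_range_orderOf_alt_iff]
  constructor
  · rintro ⟨m, h2, hsum, -, hlcm⟩
    rw [Fintype.card_fin] at hsum
    obtain ⟨a, ha, hra⟩ := exists_mem_dvd_of_prime_dvd_lcm hr (hlcm ▸ dvd_mul_right r s)
    obtain ⟨t, rfl⟩ := Multiset.exists_cons_of_mem ha
    obtain ⟨b, hb, hsb⟩ := exists_mem_dvd_of_prime_dvd_lcm hs (hlcm ▸ dvd_mul_left s r)
    rw [Multiset.sum_cons] at hsum
    have ha0 := h2 a ha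
    rcases Multiset.mem_cons.1 hb with rfl | hb
    · have h := Nat.le_of_dvd (by omega) (((Nat.coprime_primes hr hs).2 hrs).mul_dvd_of_dvd_of_dvd hra hsb)
      have : 3 * s ≤ r * s := Nat.mul_le_mul_right s hr3
      have : r * 3 ≤ r * s := Nat.mul_le_mul_left r hs3
      omega
    · have h1 := Nat.le_of_dvd (by omega) hra
      have h3 := Nat.le_of_dvd (by have := h2 b (Multiset.mem_cons_of_mem hb); omega) hsb
      have := Multiset.le_sum_of_mem hb
      omega
  · intro h
    refine ⟨{r, s}, ?_, by simpa using h, ?_, ?_⟩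
    · simp; omega
    · have h1 := hr.odd_of_ne_two hr2
      have h2 := hs.odd_of_ne_two hs2
      simp [Nat.even_add, Nat.not_even_iff_odd.2 h1, Nat.not_even_iff_odd.2 h2]
    · simp [lcm_eq_nat_lcm, Nat.Coprime.lcm_eq_mul ((Nat.coprime_primes hr hs).2 hrs)]

end Cfsg.Agent.S2466
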