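import Cfsg.Statements.S2467
import Cfsg.Agent.Lib.AltOrders.Basic

set_option autoImplicit false
open Cfsg Cfsg.Agent.Lib.AltOrders

namespace Cfsg.Agent.S2467


/-- Adjacency of 2 and an odd prime in the prime graph of the alternating groups: let r be an odd prime at most n, with n ≥ 4. The alternating group of degree n has an element of order 2r if and only if r + 4 ≤ n. -/
theorem result (n r : ℕ) (hn : 4 ≤ n) (hr : r.Prime) (hr2 : r ≠ 2) (hrn : r ≤ n) :
    (2 * r ∈ Set.range (orderOf : alternatingGroup (Fin n) → ℕ)) ↔ r + 4 ≤ n := by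
  have hr3 : 3 ≤ r := by have := hr.two_le; omega
  have hrodd := hr.odd_of_ne_two hr2
  rw [mem_range_orderOf_alt_iff]
  constructor
  · rintro ⟨m, h2, hsum, hev, hlcm⟩
    rw [Fintype.card_fin] at hsum
    obtain ⟨a, ha, hra⟩ := exists_mem_dvd_of_prime_dvd_lcm hr (hlcm ▸ dvd_mul_left r 2)
    obtain ⟨t, rfl⟩ := Multiset.exists_cons_of_mem ha
    have ha2r : a ∣ 2 * r := hlcm ▸ Multiset.dvd_lcm ha
    obtain ⟨c, rfl⟩ := hra
    have hc : c ∣ 2 := Nat.dvd_of_mul_dvd_mul_left hr.pos (by rwa [mul_comm r 2])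
    rw [Multiset.sum_cons] at hsum hev
    rw [Multiset.card_cons] at hev
    obtain ⟨b, hb, h2b⟩ := exists_mem_dvd_of_prime_dvd_lcm Nat.prime_two
      (hlcm ▸ dvd_mul_right 2 r)
    rcases (Nat.dvd_prime Nat.prime_two).1 hc with rfl | rfl
    · rw [mul_one] at *
      rcases Multiset.mem_cons.1 hb with rfl | hb
      · exact absurd (even_iff_two_dvd.2 h2b) (Nat.not_even_iff_odd.2 hrodd)
      · obtain ⟨u, rfl⟩ := Multiset.exists_cons_of_mem hb
        have hb2 := h2 b (by simp)
        rw [Multiset.sum_cons] at hsum hev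
        rw [Multiset.card_cons] at hev
        rcases u.empty_or_exists_mem with rfl | ⟨d, hd⟩
        · obtain ⟨j, hj⟩ := hrodd
          obtain ⟨i, hi⟩ := h2b
          obtain ⟨e, he⟩ := hev
          simp at he
          omega
        · have := h2 d (by simp [hd])
          have := Multiset.le_sum_of_mem hd
          omega
    · rcases t.empty_or_exists_mem with rfl | ⟨d, hd⟩
      · obtain ⟨e, he⟩ := hev
        simp at he
        omega
      · have := h2 d (by simp [hd])
        have := Multiset.le_sum_of_mem hd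
        omega
  · intro h
    refine ⟨{r, 2, 2}, ?_, ?_, ?_, ?_⟩
    · simp; omega
    · simpa using h
    · obtain ⟨j, hj⟩ := hrodd
      exact ⟨j + 4, by simp; omega⟩
    · have hco : Nat.Coprime r 2 := (Nat.coprime_two_right).2 hrodd
      simp [lcm_eq_nat_lcm, Nat.Coprime.lcm_eq_mul hco, mul_comm]

end Cfsg.Agent.S2467
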