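import Cfsg.Statements.S2471
import Cfsg.Agent.Lib.RecogThree.PSL2Orders

set_option autoImplicit false
open Cfsg

namespace Cfsg.Agent.S2471


/-- In PSL(2,q) with q odd, the characteristic p is isolated from 2 in the prime graph: for F a finite field of odd characteristic p with at least 5 elements, PSL(2,F) has no element of order 2p. -/
theorem result {F : Type*} [Field F] [Fintype F] (p : ℕ) [Fact p.Prime] [CharP F p] (hp : p ≠ 2) (h5 : 5 ≤ Fintype.card F) (g : Matrix.ProjectiveSpecialLinearGroup (Fin 2) F) :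
    orderOf g ≠ 2 * p := by
  intro h
  have hp0 : p.Prime := Fact.out
  have hpq : p ∣ Fintype.card F := (CharP.cast_eq_zero_iff F p _).1 (FiniteField.cast_card_eq_zero F)
  rcases Cfsg.Agent.Lib.RecogThree.PSL2Orders.orderOf_cases p g with h' | h' | h' <;> rw [h] at h'
  · have := Nat.le_of_dvd hp0.pos h'
    have := hp0.pos
    omega
  · have h1 : p ∣ Fintype.card F - 1 := ((dvd_mul_left p 2).trans h').trans (Nat.div_dvd_of_dvd (by
      unfold Cfsg.Agent.Lib.RecogThree.PSL2Orders.dd
      split_ifs with h2
      · exact one_dvd _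
      · omega))
    have h3 := Nat.dvd_sub hpq h1
    rw [Nat.sub_sub_self (by omega : 1 ≤ Fintype.card F)] at h3
    exact hp0.one_lt.ne' (Nat.dvd_one.1 h3)
  · have h1 : p ∣ Fintype.card F + 1 := ((dvd_mul_left p 2).trans h').trans (Nat.div_dvd_of_dvd (by
      unfold Cfsg.Agent.Lib.RecogThree.PSL2Orders.dd
      split_ifs with h2
      · exact one_dvd _
      · omega))
    exact hp0.one_lt.ne' (Nat.dvd_one.1 ((Nat.dvd_add_right hpq).1 h1))

end Cfsg.Agent.S2471
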