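import Cfsg.Statements.S2475
import Cfsg.Agent.Lib.RecogThree.PSL2Orders

set_option autoImplicit false
open Cfsg

namespace Cfsg.Agent.S2475

/-- The set of element orders of PSL(2,q): let F be a finite field of characteristic p with q ≥ 4 elements and d = gcd(2, q − 1). The orders of elements of PSL(2,F) are exactly the divisors of p, of (q − 1)/d and of (q + 1)/d. -/
theorem result {F : Type*} [Field F] [Fintype F] (p : ℕ) [Fact p.Prime] [CharP F p] (h4 : 4 ≤ Fintype.card F) :
    Set.range (orderOf : Matrix.ProjectiveSpecialLinearGroup (Fin 2) F → ℕ) =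
      {m : ℕ | m ∣ p ∨ m ∣ (Fintype.card F - 1) / Nat.gcd 2 (Fintype.card F - 1) ∨ m ∣ (Fintype.card F + 1) / Nat.gcd 2 (Fintype.card F - 1)} := by
  rw [Lib.RecogThree.PSL2Orders.range_orderOf p]
  have hd : Lib.RecogThree.PSL2Orders.dd (Fintype.card F) = Nat.gcd 2 (Fintype.card F - 1) := by
    unfold Lib.RecogThree.PSL2Orders.dd
    split_ifs with h
    · exact (Nat.Coprime.gcd_eq_one ((Nat.Prime.coprime_iff_not_dvd Nat.prime_two).2 (by omega))).symm
    · exact (Nat.gcd_eq_left (by omega)).symm
  rw [hd]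

end Cfsg.Agent.S2475
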