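import Cfsg.Statements.S2477
import Cfsg.Agent.Lib.AltOrders.Basic

set_option autoImplicit false
open Cfsg Cfsg.Agent.Lib.AltOrders

namespace Cfsg.Agent.S2477


/-- The set of element orders of the alternating group of degree 10 is {1, 2, 3, 4, 5, 6, 7, 8, 9, 10, 12, 15, 21}. -/
theorem result : Set.range (orderOf : alternatingGroup (Fin 10) → ℕ) = {1, 2, 3, 4, 5, 6, 7, 8, 9, 10, 12, 15, 21} := by
  have key : (((reach 10 10).filter fun p => p.2 = false).image Prod.fst) ⊆
      ({1, 2, 3, 4, 5, 6, 7, 8, 9, 10, 12, 15, 21} : Finset ℕ) := by decide +kernel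
  ext m
  rw [mem_range_orderOf_alt_iff, Fintype.card_fin]
  constructor
  · rintro ⟨s, h2, hsum, hev, rfl⟩
    have hm := mem_reach 10 10 s h2 hsum le_rfl
    have hd : decide ((s.sum + Multiset.card s) % 2 = 1) = false := by
      rw [decide_eq_false_iff_not, Nat.even_iff.1 hev]; decide
    rw [hd] at hm
    have := key (Finset.mem_image.2 ⟨_, Finset.mem_filter.2 ⟨hm, rfl⟩, rfl⟩)
    simpa using this
  · simp only [Set.mem_insert_iff, Set.mem_singleton_iff]
    rintro (rfl | rfl | rfl | rfl | rfl | rfl | rfl | rfl | rfl | rfl | rfl | rfl | rfl)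
    · exact ⟨0, by decide⟩
    · exact ⟨{2, 2}, by decide⟩
    · exact ⟨{3}, by decide⟩
    · exact ⟨{4, 2}, by decide⟩
    · exact ⟨{5}, by decide⟩
    · exact ⟨{3, 2, 2}, by decide⟩
    · exact ⟨{7}, by decide⟩
    · exact ⟨{8, 2}, by decide⟩
    · exact ⟨{9}, by decide⟩
    · exact ⟨{5, 2, 2}, by decide⟩
    · exact ⟨{4, 3, 2}, by decide⟩
    · exact ⟨{5, 3}, by decide⟩
    · exact ⟨{7, 3}, by decide⟩

end Cfsg.Agent.S2477
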