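import Cfsg.Statements.S2479
import Cfsg.Agent.Lib.ClassesSL.Arith

set_option autoImplicit false
open Cfsg

namespace Cfsg.Agent.S2479

/-- The number of conjugacy classes of SL(n,q): for F a finite field with q elements, the number k of conjugacy classes of SL(n,F) satisfies q^(n−1) < k and k ≤ (5/2)·q^(n−1) for n ≥ 2, and k ≤ q^(n−1) + 3q^(n−2) for n ≥ 3. -/
theorem result {F : Type*} [Field F] [Fintype F] (n : ℕ) (hn : 2 ≤ n) :
    Fintype.card F ^ (n - 1) < Nat.card (ConjClasses (Matrix.SpecialLinearGroup (Fin n) F)) ∧ 2 * Nat.card (ConjClasses (Matrix.SpecialLinearGroup (Fin n) F)) ≤ 5 * Fintype.card F ^ (n - 1) ∧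
      (3 ≤ n → Nat.card (ConjClasses (Matrix.SpecialLinearGroup (Fin n) F)) ≤ Fintype.card F ^ (n - 1) + 3 * Fintype.card F ^ (n - 2)) := by
  classical
  have hq : 2 ≤ Fintype.card F := Fintype.one_lt_card
  refine ⟨Lib.ClassesSL.pow_lt_card_conjClasses (F := F) hn, ?_,
    fun h3 => Lib.ClassesSL.card_conjClasses_le F h3⟩
  rcases Nat.lt_or_ge n 3 with h | h
  · obtain rfl : n = 2 := by omega
    have h2 := Lib.ClassesSL.card_conjClasses_two F
    have hg := Nat.le_of_dvd (by omega) (Nat.gcd_dvd_left 2 (Fintype.card F - 1))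
    have hg' := Nat.le_of_dvd (by omega) (Nat.gcd_dvd_right 2 (Fintype.card F - 1))
    simp only [Nat.add_one_sub_one, pow_one]
    omega
  · have h3 := Lib.ClassesSL.card_conjClasses_le F h
    rw [show n - 1 = n - 2 + 1 by omega, pow_succ] at h3 ⊢
    have := Nat.mul_le_mul_left (Fintype.card F ^ (n - 2)) hq
    omega

end Cfsg.Agent.S2479
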