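import Cfsg.Statements.S2482
import Cfsg.Agent.S2385
import Cfsg.Agent.Lib.ClassesSp.Main
-- import your own Cfsg.Agent.* helpers here

set_option autoImplicit false
open Cfsg

namespace Cfsg.Agent.S2482

/-- The number of conjugacy classes of Sp(2n,q), q odd: for F a finite field of odd order q and n ≥ 1, the number k of conjugacy classes of Sp(2n,F) satisfies q^n ≤ k ≤ 10.8·q^n. -/
theorem result {F : Type*} [Field F] [Fintype F] (hodd : Odd (Fintype.card F)) (n : ℕ) (hn : 1 ≤ n) :
    Fintype.card F ^ n ≤ Nat.card (ConjClasses (Matrix.symplecticGroup (Fin n) F)) ∧ 5 * Nat.card (ConjClasses (Matrix.symplecticGroup (Fin n) F)) ≤ 54 * Fintype.card F ^ n := by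
  classical
  obtain ⟨p, hp⟩ := CharP.exists F
  haveI : Fact p.Prime := ⟨CharP.char_is_prime F p⟩
  obtain ⟨k, -, hq⟩ := FiniteField.card F p
  have hp2 : p ≠ 2 := by
    rintro rfl
    rw [hq] at hodd
    exact Nat.not_odd_iff_even.2 (Nat.even_pow.2 ⟨even_two, k.pos.ne'⟩) hodd
  have h2 : (2 : F) ≠ 0 := Ring.two_ne_zero (by rwa [ringChar.eq F p])
  have hq3 : 3 ≤ Fintype.card F := by
    have := Fintype.one_lt_card (α := F)
    obtain ⟨c, hc⟩ := hodd
    omega
  haveI : Finite (Matrix.symplecticGroup (Fin n) F) :=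
    Finite.of_injective (fun z => (z : Matrix (Fin n ⊕ Fin n) (Fin n ⊕ Fin n) F)) Subtype.val_injective
  refine ⟨?_, ?_⟩
  · rw [← Cfsg.Agent.S2385.result (F := F) rfl p n]
    exact Nat.card_le_card_of_injective _ Subtype.val_injective
  · refine (Nat.mul_le_mul_left 5 (Cfsg.Agent.Lib.ClassesSp.card_conjClasses_le h2)).trans ?_
    exact Cfsg.Agent.Lib.ClassesSp.kA_bound hq3 hn

end Cfsg.Agent.S2482
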