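import Cfsg.Statements.S2483
import Cfsg.Agent.Lib.LevCover.Lower

set_option autoImplicit false
open Cfsg

namespace Cfsg.Agent.S2483

open Matrix Cfsg.Agent.Lib.LevCover

theorem central_of_scalar {F : Type*} [Field F] {n : ℕ} {G : Matrix.SpecialLinearGroup (Fin n) F} {c : F}
    (h : G.1 = c • 1) : G ∈ Subgroup.center (Matrix.SpecialLinearGroup (Fin n) F) := by
  refine Matrix.SpecialLinearGroup.mem_center_iff.2 ⟨c, ?_, ?_⟩
  · have h1 := G.2
    rwa [h, det_smul, det_one, mul_one] at h1
  · rw [h, Matrix.scalar_apply, Matrix.smul_one_eq_diagonal]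

theorem upper {F : Type*} [Field F] [Fintype F] (h4 : 4 ≤ Fintype.card F) (n : ℕ) (hn : 3 ≤ n)
    (X G : Matrix.SpecialLinearGroup (Fin n) F) (hX : X ∉ Subgroup.center _) :
    ∃ (S : Fin n → Matrix.SpecialLinearGroup (Fin n) F) (G' : Matrix.SpecialLinearGroup (Fin n) F),
      (List.ofFn fun i => S i * X * (S i)⁻¹).prod = G' ∧
      G⁻¹ * G' ∈ Subgroup.center (Matrix.SpecialLinearGroup (Fin n) F) := by
  set A := Matrix.SpecialLinearGroup.toGL X with hA
  set g := Matrix.SpecialLinearGroup.toGL G with hg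
  have hdA : GeneralLinearGroup.det A = 1 := Units.ext (by rw [det_val, Units.val_one]; exact X.2)
  have hdg : GeneralLinearGroup.det g = 1 := Units.ext (by rw [det_val, Units.val_one]; exact G.2)
  have hAs : ∀ c : F, A.1 ≠ c • 1 := fun c e => hX (central_of_scalar e)
  by_cases hgs : ∀ c : F, g.1 ≠ c • 1
  · obtain ⟨z, g', hz, hone⟩ := exact_nonscalar h4 hn A hAs hdA g hdg hgs
    obtain ⟨S, hS⟩ := hone.to_sl
    refine ⟨S, _, rfl, central_of_scalar (c := z) ?_⟩
    rw [Matrix.SpecialLinearGroup.coe_mul]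
    have h1 : (List.ofFn fun i => S i * X * (S i)⁻¹).prod.1 = z • G.1 := (congrArg Units.val hS).trans hz
    rw [h1, Matrix.mul_smul, ← Matrix.SpecialLinearGroup.coe_mul, inv_mul_cancel,
      Matrix.SpecialLinearGroup.coe_one]
  · push Not at hgs
    obtain ⟨c, hc⟩ := hgs
    obtain ⟨S, hS⟩ := (exact_scalar h4 hn A hAs hdA).to_sl
    refine ⟨S, _, rfl, ?_⟩
    have h1 : (List.ofFn fun i => S i * X * (S i)⁻¹).prod = 1 :=
      Matrix.SpecialLinearGroup.toGL_injective (by rw [hS, map_one])
    rw [h1, mul_one]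
    exact Subgroup.inv_mem _ (central_of_scalar hc)

/-- The covering number of PSL(n,q) is n: let F be a finite field with q ≥ 4 elements and n ≥ 3. For every non-identity element x of PSL(n,F), every element of PSL(n,F) is a product of n conjugates of x; and for some non-identity x, some element is not a product of n − 1 conjugates of x. -/
theorem result {F : Type*} [Field F] [Fintype F] (h4 : 4 ≤ Fintype.card F) (n : ℕ) (hn : 3 ≤ n) :
    (∀ x : Matrix.ProjectiveSpecialLinearGroup (Fin n) F, x ≠ 1 → ∀ g : Matrix.ProjectiveSpecialLinearGroup (Fin n) F, ∃ f : Fin n → Matrix.ProjectiveSpecialLinearGroup (Fin n) F, g = (List.ofFn fun i => f i * x * (f i)⁻¹).prod) ∧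
    (∃ x : Matrix.ProjectiveSpecialLinearGroup (Fin n) F, x ≠ 1 ∧ ∃ g : Matrix.ProjectiveSpecialLinearGroup (Fin n) F, ∀ f : Fin (n - 1) → Matrix.ProjectiveSpecialLinearGroup (Fin n) F, g ≠ (List.ofFn fun i => f i * x * (f i)⁻¹).prod) := by
  classical
  set π := QuotientGroup.mk' (Subgroup.center (Matrix.SpecialLinearGroup (Fin n) F)) with hπ
  have hπp : ∀ (k : ℕ) (S : Fin k → Matrix.SpecialLinearGroup (Fin n) F) (X : Matrix.SpecialLinearGroup (Fin n) F),
      π (List.ofFn fun i => S i * X * (S i)⁻¹).prod = (List.ofFn fun i => π (S i) * π X * (π (S i))⁻¹).prod := by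
    intro k S X
    rw [map_list_prod, List.map_ofFn]
    congr 1
  refine ⟨fun x hx g => ?_, ?_⟩
  · obtain ⟨X, rfl⟩ := QuotientGroup.mk'_surjective (Subgroup.center (Matrix.SpecialLinearGroup (Fin n) F)) x
    obtain ⟨G, rfl⟩ := QuotientGroup.mk'_surjective (Subgroup.center (Matrix.SpecialLinearGroup (Fin n) F)) g
    have hX : X ∉ Subgroup.center (Matrix.SpecialLinearGroup (Fin n) F) := fun h =>
      hx ((QuotientGroup.eq_one_iff X).2 h)
    obtain ⟨S, G', hS, hG⟩ := upper h4 n hn X G hX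
    refine ⟨fun i => π (S i), ?_⟩
    rw [← hπp, hS]
    exact QuotientGroup.eq.2 hG
  · set u : Fin n → F := Pi.single ⟨0, by omega⟩ 1 with hu
    set v : Fin n → F := Pi.single ⟨1, by omega⟩ 1 with hv
    have hdX : (1 + vecMulVec u v).det = 1 := by
      rw [Cfsg.Agent.Lib.Sourour.det_one_add_vecMulVec']
      simp [hu, hv, Fin.ext_iff]
    set X : Matrix.SpecialLinearGroup (Fin n) F := ⟨1 + vecMulVec u v, hdX⟩ with hXdef
    obtain ⟨G, hG⟩ := exists_noEig_sl (F := F) (n := n) (by omega)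
    refine ⟨π X, fun h => ?_, π G, fun f hf => ?_⟩
    · obtain ⟨r, -, hr⟩ := Matrix.SpecialLinearGroup.mem_center_iff.1 ((QuotientGroup.eq_one_iff X).1 h)
      have h1 := congrFun (congrFun hr ⟨0, by omega⟩) ⟨1, by omega⟩
      simp [hXdef, hu, hv, vecMulVec_apply, Fin.ext_iff] at h1
    · have hsurj : ∀ i, ∃ S, π S = f i := fun i =>
        QuotientGroup.mk'_surjective (Subgroup.center (Matrix.SpecialLinearGroup (Fin n) F)) (f i)
      choose S hS using hsurj
      have hf' : π G = π (List.ofFn fun i => S i * X * (S i)⁻¹).prod := by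
        rw [hπp, hf]
        simp only [hS]
      obtain ⟨r, hrn, hr⟩ := Matrix.SpecialLinearGroup.mem_center_iff.1 (QuotientGroup.eq.1 hf')
      obtain ⟨w, hw0, hw⟩ := exists_fixed (show n - 1 < n by omega) (X := X) (u := u) (v := v) rfl S
      set Pp := (List.ofFn fun i => S i * X * (S i)⁻¹).prod with hPp
      have h1 : Pp.1 = r • G.1 := by
        have h2 : Pp = G * (G⁻¹ * Pp) := by rw [mul_inv_cancel_left]
        rw [h2, Matrix.SpecialLinearGroup.coe_mul, ← hr, Matrix.scalar_apply, ← Matrix.smul_one_eq_diagonal,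
          Matrix.mul_smul, mul_one]
      rw [h1, smul_mulVec] at hw
      have hr0 : r ≠ 0 := fun e => by
        rw [e, zero_pow (by rw [Fintype.card_fin]; omega)] at hrn
        exact zero_ne_one hrn
      refine hw0 (hG r⁻¹ w ?_)
      conv_rhs => rw [← hw]
      rw [smul_smul, inv_mul_cancel₀ hr0, one_smul]

end Cfsg.Agent.S2483
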