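import Cfsg.Statements.S2485
import Mathlib

set_option autoImplicit false
open scoped Pointwise
open Cfsg

namespace Cfsg.Agent.S2485


open Matrix

variable {q : ℕ} [Fact q.Prime]

/-- The trace-zero matrix whose square is `-1`. -/
def rot (q : ℕ) : Matrix (Fin 2) (Fin 2) (ZMod q) := !![0, -1; 1, 0]

/-- Elements commuting or anticommuting with `(rot q)`. -/
def nrm : Subgroup (GL (Fin 2) (ZMod q)) where
  carrier := {g | (g : Matrix (Fin 2) (Fin 2) (ZMod q)) * (rot q) = (rot q) * g ∨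
    (g : Matrix (Fin 2) (Fin 2) (ZMod q)) * (rot q) = -((rot q) * g)}
  one_mem' := Or.inl (by simp)
  mul_mem' := by
    rintro g h (hg | hg) (hh | hh)
    · exact Or.inl (by rw [Units.val_mul, mul_assoc, hh, ← mul_assoc, hg, mul_assoc])
    · exact Or.inr (by rw [Units.val_mul, mul_assoc, hh, mul_neg, ← mul_assoc, hg, mul_assoc])
    · exact Or.inr (by rw [Units.val_mul, mul_assoc, hh, ← mul_assoc, hg, neg_mul, mul_assoc])
    · exact Or.inl (by
        rw [Units.val_mul, mul_assoc, hh, mul_neg, ← mul_assoc, hg, neg_mul, neg_neg, mul_assoc])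
  inv_mem' := by
    rintro g (hg | hg)
    · left
      calc ((g⁻¹ : GL (Fin 2) (ZMod q)) : Matrix (Fin 2) (Fin 2) (ZMod q)) * (rot q)
          = (g⁻¹ : GL (Fin 2) (ZMod q)).val * ((rot q) * g.val) * (g⁻¹ : GL (Fin 2) (ZMod q)).val := by
            simp [mul_assoc]
        _ = (g⁻¹ : GL (Fin 2) (ZMod q)).val * (g.val * (rot q)) * (g⁻¹ : GL (Fin 2) (ZMod q)).val := by
            rw [hg]
        _ = (rot q) * (g⁻¹ : GL (Fin 2) (ZMod q)).val := by simp [← mul_assoc]
    · right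
      have hg' : (rot q) * g.val = -(g.val * (rot q)) := by rw [hg, neg_neg]
      calc ((g⁻¹ : GL (Fin 2) (ZMod q)) : Matrix (Fin 2) (Fin 2) (ZMod q)) * (rot q)
          = (g⁻¹ : GL (Fin 2) (ZMod q)).val * ((rot q) * g.val) * (g⁻¹ : GL (Fin 2) (ZMod q)).val := by
            simp [mul_assoc]
        _ = -((rot q) * (g⁻¹ : GL (Fin 2) (ZMod q)).val) := by
            rw [hg']; simp [← mul_assoc]

theorem mem_nrm_iff (g : GL (Fin 2) (ZMod q)) :
    g ∈ nrm ↔ (g : Matrix (Fin 2) (Fin 2) (ZMod q)) * (rot q) = (rot q) * g ∨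
      (g : Matrix (Fin 2) (Fin 2) (ZMod q)) * (rot q) = -((rot q) * g) := Iff.rfl

/-- Rotations and reflections. -/
def rr (e : Bool) (v : ZMod q × ZMod q) : Matrix (Fin 2) (Fin 2) (ZMod q) :=
  bif e then !![v.1, -v.2; v.2, v.1] else !![v.1, v.2; v.2, -v.1]

theorem sq_add_sq_ne (h3 : q % 4 = 3) {a b : ZMod q} (h : (a, b) ≠ (0 : ZMod q × ZMod q)) :
    a * a + b * b ≠ 0 := by
  intro h0
  have hn : ¬ IsSquare (-1 : ZMod q) := fun hs => (ZMod.exists_sq_eq_neg_one_iff.1 hs) h3
  by_cases hb : b = 0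
  · subst hb
    simp at h0
    exact h (by simp [h0])
  · refine hn ⟨a / b, ?_⟩
    field_simp
    linear_combination -h0

theorem det_rr (h3 : q % 4 = 3) (e : Bool) {v : ZMod q × ZMod q} (h : v ≠ 0) :
    (rr e v).det ≠ 0 := by
  have := sq_add_sq_ne h3 (a := v.1) (b := v.2) h
  cases e
  · intro h0
    apply this
    simp [rr, Matrix.det_fin_two] at h0
    linear_combination -h0
  · intro h0
    apply this
    simp [rr, Matrix.det_fin_two] at h0
    linear_combination h0

/-- The element of `GL` of a rotation or reflection. -/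
noncomputable def rrGL (h3 : q % 4 = 3) (p : Bool × {v : ZMod q × ZMod q // v ≠ 0}) :
    GL (Fin 2) (ZMod q) :=
  Matrix.GeneralLinearGroup.mkOfDetNeZero (rr p.1 p.2.1) (det_rr h3 p.1 p.2.2)

theorem rrGL_val (h3 : q % 4 = 3) (p : Bool × {v : ZMod q × ZMod q // v ≠ 0}) :
    (rrGL h3 p : Matrix (Fin 2) (Fin 2) (ZMod q)) = rr p.1 p.2.1 := rfl

theorem rr_rot (e : Bool) (v : ZMod q × ZMod q) :
    rr e v * (rot q) = bif e then (rot q) * rr e v else -((rot q) * rr e v) := by
  cases e <;> ext i j <;> fin_cases i <;> fin_cases j <;> simp [rr, rot]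

theorem rrGL_mem (h3 : q % 4 = 3) (p : Bool × {v : ZMod q × ZMod q // v ≠ 0}) :
    rrGL h3 p ∈ nrm := by
  rw [mem_nrm_iff, rrGL_val]
  have := rr_rot p.1 p.2.1
  rcases hp : p.1 with _ | _ <;> rw [hp] at this
  · exact Or.inr this
  · exact Or.inl this

theorem two_ne (h3 : q % 4 = 3) : (2 : ZMod q) ≠ 0 := by
  intro h
  have h' : ((2 : ℕ) : ZMod q) = 0 := by exact_mod_cast h
  rw [ZMod.natCast_eq_zero_iff] at h'
  have := Nat.le_of_dvd (by norm_num) h'
  omega

theorem rrGL_bijective (h3 : q % 4 = 3) :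
    Function.Bijective (fun p => (⟨rrGL h3 p, rrGL_mem h3 p⟩ : ↥(nrm (q := q)))) := by
  refine ⟨fun p p' h => ?_, fun g => ?_⟩
  · obtain ⟨e, ⟨⟨a, b⟩, hv⟩⟩ := p
    obtain ⟨e', ⟨⟨a', b'⟩, hv'⟩⟩ := p'
    have h' : rr e (a, b) = rr e' (a', b') := by
      have h2 := congrArg (fun g : ↥(nrm (q := q)) => (g.1 : Matrix (Fin 2) (Fin 2) (ZMod q))) h
      exact h2
    have h00 := congrFun (congrFun h' 0) 0
    have h01 := congrFun (congrFun h' 0) 1
    have h10 := congrFun (congrFun h' 1) 0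
    have h11 := congrFun (congrFun h' 1) 1
    cases e <;> cases e' <;> simp [rr] at h00 h01 h10 h11 <;>
      first
        | (subst h00 h10; rfl)
        | (exfalso; apply hv
           have ha : a = 0 := mul_left_cancel₀ (two_ne h3) (by rw [mul_zero]; first | linear_combination h00 + h11 | linear_combination h00 - h11)
           have hb : b = 0 := mul_left_cancel₀ (two_ne h3) (by rw [mul_zero]; first | linear_combination h10 + h01 | linear_combination h10 - h01)
           simp [ha, hb])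
  · obtain ⟨g, hg⟩ := g
    have hne : ((g : Matrix (Fin 2) (Fin 2) (ZMod q)) 0 0, (g : Matrix (Fin 2) (Fin 2) (ZMod q)) 1 0)
        ≠ (0 : ZMod q × ZMod q) := by
      intro h
      simp [Prod.ext_iff] at h
      apply (Matrix.GeneralLinearGroup.det g).ne_zero
      simp [Matrix.det_fin_two, h.1, h.2]
    rcases (mem_nrm_iff g).1 hg with h | h
    · have h00 := congrFun (congrFun h 0) 0
      have h01 := congrFun (congrFun h 0) 1
      simp only [Matrix.neg_apply, Matrix.mul_apply, Fin.sum_univ_two] at h00 h01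
      simp [rot] at h00 h01
      refine ⟨(true, ⟨_, hne⟩), Subtype.ext (Units.ext ?_)⟩
      rw [rrGL_val]
      ext i j
      fin_cases i <;> fin_cases j <;> simp [rr]
      · linear_combination -h00
      · linear_combination h01
    · have h00 := congrFun (congrFun h 0) 0
      have h01 := congrFun (congrFun h 0) 1
      simp only [Matrix.neg_apply, Matrix.mul_apply, Fin.sum_univ_two] at h00 h01
      simp [rot] at h00 h01
      refine ⟨(false, ⟨_, hne⟩), Subtype.ext (Units.ext ?_)⟩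
      rw [rrGL_val]
      ext i j
      fin_cases i <;> fin_cases j <;> simp [rr]
      · linear_combination -h00
      · linear_combination h01

theorem center_le_nrm : Subgroup.center (GL (Fin 2) (ZMod q)) ≤ nrm := by
  intro g hg
  rw [Matrix.GeneralLinearGroup.center_eq_range_scalar] at hg
  obtain ⟨u, rfl⟩ := hg
  exact Or.inl ((Matrix.scalar_commute (u : ZMod q) (Commute.all _) (rot q)).eq)

theorem card_nrm (h3 : q % 4 = 3) : Nat.card ↥(nrm (q := q)) = 2 * (q ^ 2 - 1) := by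
  classical
  rw [← Nat.card_eq_of_bijective _ (rrGL_bijective h3), Nat.card_prod, Nat.card_eq_fintype_card,
    Nat.card_eq_fintype_card, Fintype.card_bool]
  simp [Fintype.card_subtype_compl, sq]

theorem isPGroup_image (h3 : q % 4 = 3) {k : ℕ} (hk : q + 1 = 2 ^ k) :
    IsPGroup 2 ↥((nrm (q := q)).map (QuotientGroup.mk' (Subgroup.center (GL (Fin 2) (ZMod q))))) := by
  rintro ⟨x, hx⟩
  obtain ⟨g, hg, rfl⟩ := Subgroup.mem_map.1 hx
  refine ⟨k + 1, Subtype.ext ?_⟩
  change (QuotientGroup.mk' _ g) ^ 2 ^ (k + 1) = 1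
  rw [← map_pow, QuotientGroup.mk'_apply, QuotientGroup.eq_one_iff]
  obtain ⟨⟨e, ⟨⟨a, b⟩, hv⟩⟩, hp⟩ := (rrGL_bijective h3).2 ⟨g, hg⟩
  have hp' : (g : Matrix (Fin 2) (Fin 2) (ZMod q)) = rr e (a, b) :=
    congrArg (fun g : ↥(nrm (q := q)) => (g.1 : Matrix (Fin 2) (Fin 2) (ZMod q))) hp.symm
  have key : ∀ n, n ∣ 2 ^ (k + 1) →
      (∃ c : ZMod q, (g : Matrix (Fin 2) (Fin 2) (ZMod q)) ^ n = Matrix.scalar (Fin 2) c) →
      g ^ 2 ^ (k + 1) ∈ Subgroup.center (GL (Fin 2) (ZMod q)) := by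
    rintro n ⟨m, hm⟩ ⟨c, hc⟩
    rw [hm, pow_mul]
    refine Subgroup.pow_mem _ (Subgroup.mem_center_iff.2 fun y => Units.ext ?_) _
    simp only [Units.val_mul, Units.val_pow_eq_pow_val, hc]
    exact ((Matrix.scalar_commute c (Commute.all c) y.val).eq).symm
  cases e
  · refine key 2 (dvd_pow_self 2 (by omega)) ⟨a * a + b * b, ?_⟩
    rw [hp', sq]
    ext i j
    fin_cases i <;> fin_cases j <;> simp [rr] <;> ring
  · refine key (q + 1) (hk ▸ pow_dvd_pow 2 (Nat.le_succ k)) ⟨a * a + b * b, ?_⟩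
    have hrot : ((rot q) : Matrix (Fin 2) (Fin 2) (ZMod q)) * (rot q) = -1 := by
      ext i j; fin_cases i <;> fin_cases j <;> simp [rot]
    have hd : rr true (a, b) = a • (1 : Matrix (Fin 2) (Fin 2) (ZMod q)) + b • (rot q) := by
      ext i j; fin_cases i <;> fin_cases j <;> simp [rr, rot]
    have hqo : Odd (q / 2) := Nat.odd_iff.2 (by omega)
    have hq : ((rot q) : Matrix (Fin 2) (Fin 2) (ZMod q)) ^ q = -(rot q) := by
      have h : (rot q) ^ (2 * (q / 2) + 1) = -(rot q) := by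
        rw [pow_succ, pow_mul, sq, hrot, hqo.neg_one_pow, neg_one_mul]
      rwa [show 2 * (q / 2) + 1 = q by omega] at h
    rw [hp', hd, pow_succ, add_pow_char_of_commute q (((Commute.one_left (rot q)).smul_left a).smul_right b),
      smul_pow, smul_pow, one_pow, hq, ZMod.pow_card, ZMod.pow_card]
    ext i j
    fin_cases i <;> fin_cases j <;>
      simp [rot, Matrix.mul_apply, Fin.sum_univ_two, Matrix.add_apply, Matrix.one_apply] <;> ring

theorem index_odd (h3 : q % 4 = 3) :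
    ¬ 2 ∣ ((nrm (q := q)).map (QuotientGroup.mk' (Subgroup.center (GL (Fin 2) (ZMod q))))).index := by
  rw [Subgroup.index_map_eq _ (QuotientGroup.mk'_surjective _) (by
    rw [QuotientGroup.ker_mk']; exact center_le_nrm)]
  intro hdvd
  have h1 := Subgroup.card_mul_index (nrm (q := q))
  rw [card_nrm h3, Matrix.card_GL_field, Fin.prod_univ_two, ZMod.card] at h1
  simp at h1
  have hq2 : 2 ≤ q := (Fact.out : q.Prime).two_le
  have hpos : 0 < q ^ 2 - 1 := by
    have : 2 ^ 2 ≤ q ^ 2 := Nat.pow_le_pow_left hq2 2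
    omega
  obtain ⟨m, hm⟩ := hdvd
  rw [hm] at h1
  have h2 : (q ^ 2 - 1) * (4 * m) = (q ^ 2 - 1) * (q ^ 2 - q) := by rw [← h1]; ring
  have h3' : 4 * m = q * (q - 1) := by
    rw [Nat.mul_left_cancel hpos h2, Nat.mul_sub, sq, mul_one]
  have : (q * (q - 1)) % 4 = 0 := by omega
  rw [Nat.mul_mod, h3, show (q - 1) % 4 = 2 by omega] at this
  norm_num at this

theorem exists_common (h3 : q % 4 = 3) (g : GL (Fin 2) (ZMod q)) :
    ∃ y : GL (Fin 2) (ZMod q), y ∈ nrm ∧ g⁻¹ * y * g ∈ nrm ∧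
      y ∉ Subgroup.center (GL (Fin 2) (ZMod q)) := by
  set B : Matrix (Fin 2) (Fin 2) (ZMod q) := g.val * (rot q) * (g⁻¹ : GL (Fin 2) (ZMod q)).val with hB
  have htr : B 1 1 = -B 0 0 := by
    have h : Matrix.trace B = 0 := by
      rw [hB, Matrix.trace_mul_cycle]; simp [rot, Matrix.trace_fin_two]
    rw [Matrix.trace_fin_two] at h
    linear_combination h
  have hBg : B * g.val = g.val * (rot q) := by simp [hB, mul_assoc]
  by_cases hv : ((-(B 0 1 + B 1 0), 2 * B 0 0) : ZMod q × ZMod q) = 0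
  · simp [Prod.ext_iff] at hv
    have h00 : B 0 0 = 0 := by
      rcases hv.2 with h | h
      · exact absurd h (two_ne h3)
      · exact h
    have hBr : B = B 1 0 • ((rot q) : Matrix (Fin 2) (Fin 2) (ZMod q)) := by
      ext i j
      fin_cases i <;> fin_cases j <;> simp [rot, h00, htr]
      linear_combination -hv.1
    refine ⟨rrGL h3 (true, ⟨(0, 1), by simp⟩), rrGL_mem _ _, ?_, ?_⟩
    · left
      have hr : rr true ((0 : ZMod q), 1) = (rot q) := by
        ext i j; fin_cases i <;> fin_cases j <;> simp [rr, rot]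
      have hcomm : (rot q) * B = B * (rot q) := by
        conv_lhs => rw [hBr]
        conv_rhs => rw [hBr]
        simp
      simp only [Units.val_mul, rrGL_val, hr]
      calc (g⁻¹ : GL (Fin 2) (ZMod q)).val * (rot q) * g.val * (rot q)
          = (g⁻¹ : GL (Fin 2) (ZMod q)).val * (rot q) * (B * g.val) := by simp [hBg, mul_assoc]
        _ = (g⁻¹ : GL (Fin 2) (ZMod q)).val * (B * (rot q)) * g.val := by
          rw [← hcomm]; simp [mul_assoc]
        _ = (rot q) * ((g⁻¹ : GL (Fin 2) (ZMod q)).val * (rot q) * g.val) := by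
          simp [hB, mul_assoc]
    · intro hc
      rw [Matrix.GeneralLinearGroup.center_eq_range_scalar] at hc
      obtain ⟨u, hu⟩ := hc
      have := congrArg (fun z : GL (Fin 2) (ZMod q) => (z : Matrix (Fin 2) (Fin 2) (ZMod q)) 1 0) hu
      simp [rrGL_val, rr] at this
  · refine ⟨rrGL h3 (false, ⟨_, hv⟩), rrGL_mem _ _, ?_, ?_⟩
    · right
      set C := rr false (-(B 0 1 + B 1 0), 2 * B 0 0) with hC
      have hanti : C * B = -(B * C) := by
        ext i j
        fin_cases i <;> fin_cases j <;> simp [hC, rr, htr, Matrix.mul_apply] <;> ring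
      simp only [Units.val_mul, rrGL_val, ← hC]
      calc (g⁻¹ : GL (Fin 2) (ZMod q)).val * C * g.val * (rot q)
          = (g⁻¹ : GL (Fin 2) (ZMod q)).val * (C * B) * g.val := by simp [hBg, mul_assoc]
        _ = -((rot q) * ((g⁻¹ : GL (Fin 2) (ZMod q)).val * C * g.val)) := by
          rw [hanti]; simp [hB, mul_assoc]
    · intro hc
      rw [Matrix.GeneralLinearGroup.center_eq_range_scalar] at hc
      obtain ⟨u, hu⟩ := hc
      have e00 := congrArg (fun z : GL (Fin 2) (ZMod q) => (z : Matrix (Fin 2) (Fin 2) (ZMod q)) 0 0) hu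
      have e11 := congrArg (fun z : GL (Fin 2) (ZMod q) => (z : Matrix (Fin 2) (Fin 2) (ZMod q)) 1 1) hu
      have e10 := congrArg (fun z : GL (Fin 2) (ZMod q) => (z : Matrix (Fin 2) (Fin 2) (ZMod q)) 1 0) hu
      simp [rrGL_val, rr] at e00 e11 e10
      apply hv
      have ha : -(B 0 1 + B 1 0) = 0 := mul_left_cancel₀ (two_ne h3) (by rw [mul_zero]; linear_combination e11 - e00)
      rw [Prod.mk_eq_zero]
      refine ⟨ha, ?_⟩
      first | linear_combination e10 | linear_combination -e10 | simp [e10]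

/-- Let q = 2^k − 1 ≥ 7 be a prime and let G = PGL(2,q), the general linear group of degree 2 over the field with q elements modulo its centre. Then any two Sylow 2-subgroups of G have a non-trivial intersection: for a Sylow 2-subgroup H and every x ∈ G, H ∩ H^x ≠ 1. -/
theorem result {q k : ℕ} [Fact q.Prime] (hk : q + 1 = 2 ^ k) (hq : 7 ≤ q)
    (H : Sylow 2 (GL (Fin 2) (ZMod q) ⧸ Subgroup.center (GL (Fin 2) (ZMod q))))
    (x : GL (Fin 2) (ZMod q) ⧸ Subgroup.center (GL (Fin 2) (ZMod q))) :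
    (H : Subgroup (GL (Fin 2) (ZMod q) ⧸ Subgroup.center (GL (Fin 2) (ZMod q)))) ⊓ MulAut.conj x • (H : Subgroup _) ≠ ⊥ := by
  obtain ⟨k', rfl⟩ : ∃ k', k = k' + 2 := ⟨k - 2, by
    rcases k with _ | _ | k
    · simp at hk; omega
    · simp at hk; omega
    · omega⟩
  have h3 : q % 4 = 3 := by
    have : q + 1 = 4 * 2 ^ k' := by rw [hk, pow_add]; ring
    omega
  let P := (isPGroup_image h3 hk).toSylow (index_odd h3)
  obtain ⟨h, hh⟩ := MulAction.exists_smul_eq (GL (Fin 2) (ZMod q) ⧸ Subgroup.center _) P H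
  obtain ⟨g₁, rfl⟩ := QuotientGroup.mk'_surjective _ h
  obtain ⟨g₂, rfl⟩ := QuotientGroup.mk'_surjective _ x
  obtain ⟨y, hy, hy', hyc⟩ := exists_common h3 (g₁⁻¹ * g₂ * g₁)
  have hH : ∀ z ∈ nrm, QuotientGroup.mk' (Subgroup.center (GL (Fin 2) (ZMod q))) (g₁ * z * g₁⁻¹) ∈
      (H : Subgroup (GL (Fin 2) (ZMod q) ⧸ Subgroup.center (GL (Fin 2) (ZMod q)))) := by
    intro z hz
    rw [← hh, Sylow.coe_subgroup_smul, Subgroup.mem_smul_pointwise_iff_exists]
    exact ⟨_, Subgroup.mem_map_of_mem _ hz, by simp⟩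
  intro hbot
  apply hyc
  have hmem : QuotientGroup.mk' (Subgroup.center (GL (Fin 2) (ZMod q))) (g₁ * y * g₁⁻¹) ∈
      (H : Subgroup (GL (Fin 2) (ZMod q) ⧸ Subgroup.center (GL (Fin 2) (ZMod q)))) ⊓
        MulAut.conj (QuotientGroup.mk' (Subgroup.center (GL (Fin 2) (ZMod q))) g₂) •
          (H : Subgroup (GL (Fin 2) (ZMod q) ⧸ Subgroup.center (GL (Fin 2) (ZMod q)))) := by
    refine Subgroup.mem_inf.2 ⟨hH y hy, ?_⟩
    rw [Subgroup.mem_smul_pointwise_iff_exists]
    refine ⟨_, hH _ hy', ?_⟩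
    simp only [MulAut.smul_def, MulAut.conj_apply, ← map_inv, ← map_mul]
    congr 1
    group
  rw [hbot, Subgroup.mem_bot, QuotientGroup.mk'_apply, QuotientGroup.eq_one_iff] at hmem
  have := Subgroup.Normal.conj_mem inferInstance _ hmem g₁⁻¹
  simpa [mul_assoc] using this

end Cfsg.Agent.S2485
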