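import Cfsg.Statements.S2486
import Cfsg.Agent.Lib.AutPSL.Sylow
import Cfsg.Agent.Lib.GLFlags.Bruhat

set_option autoImplicit false
open scoped Pointwise
open Cfsg

namespace Cfsg.Agent.S2486

open Matrix Cfsg.Agent.Lib.AutPSL Cfsg.Agent.Lib.GLFlags

variable {n : ℕ}

local notation "SLn" => Matrix.SpecialLinearGroup (Fin n) (ZMod 2)
local notation "Mat" => Matrix (Fin n) (Fin n) (ZMod 2)

theorem eq_one_of_ne_zero : ∀ x : ZMod 2, x ≠ 0 → x = 1 := by decide

theorem mem_uni_of_upper {s : SLn} (h : (s : Mat).BlockTriangular id) : s ∈ uni n (ZMod 2) := by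
  refine mem_uni_iff.2 ⟨fun i => eq_one_of_ne_zero _ fun h0 => ?_, h⟩
  have hd : (s : Mat).det = 1 := s.2
  rw [Matrix.det_of_upperTriangular h] at hd
  exact zero_ne_one ((Finset.prod_eq_zero (f := fun k => (s : Mat) k k) (Finset.mem_univ i) h0).symm.trans hd)

/-- Bruhat decomposition inside `SL_n(2)`. -/
theorem exists_decomp (g : SLn) : ∃ (a b p : SLn) (σ : Equiv.Perm (Fin n)),
    a ∈ uni n (ZMod 2) ∧ b ∈ uni n (ZMod 2) ∧ (p : Mat) = pm σ ∧ a * g * b = p := by
  obtain ⟨A, B, σ, hA, hB, h⟩ :=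
    exists_upper_mul_perm_mul_upper n (g : Mat) (by rw [g.2]; exact one_ne_zero)
  have hd : (pm σ : Mat).det ≠ 0 := by
    rw [← coe_pmGL]
    exact (Matrix.GeneralLinearGroup.det (pmGL σ : GL (Fin n) (ZMod 2))).ne_zero
  have hd' := hd
  rw [← h, Matrix.det_mul, Matrix.det_mul, g.2, mul_one] at hd'
  refine ⟨⟨A, eq_one_of_ne_zero _ (left_ne_zero_of_mul hd')⟩,
    ⟨B, eq_one_of_ne_zero _ (right_ne_zero_of_mul hd')⟩, ⟨pm σ, eq_one_of_ne_zero _ hd⟩, σ,
    mem_uni_of_upper hA, mem_uni_of_upper hB, rfl, Subtype.ext ?_⟩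
  exact h

theorem exists_transvection {i j : Fin n} (hij : i < j) :
    ∃ t : SLn, t ∈ uni n (ZMod 2) ∧ t ≠ 1 ∧ (t : Mat) = 1 + Matrix.single i j 1 := by
  refine ⟨⟨Matrix.transvection i j 1, Matrix.det_transvection_of_ne i j hij.ne 1⟩,
    mem_uni_of_upper ?_, ?_, rfl⟩
  · exact Matrix.blockTriangular_transvection hij.le 1
  · intro h
    have := congrFun (congrFun (congrArg Subtype.val h) i) j
    simp [Matrix.transvection, hij.ne] at this

/-- A double coset of `uni` whose conjugates meet `uni` trivially is the longest one. -/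
theorem strictAnti_of_trivial {g a b p : SLn} {σ : Equiv.Perm (Fin n)} (ha : a ∈ uni n (ZMod 2))
    (hb : b ∈ uni n (ZMod 2)) (hp : (p : Mat) = pm σ) (h : a * g * b = p)
    (hg : ∀ t ∈ uni n (ZMod 2), g⁻¹ * t * g ∈ uni n (ZMod 2) → t = 1) : StrictAnti σ := by
  intro i j hij
  by_contra hle
  have hlt : σ i < σ j := lt_of_le_of_ne (not_lt.1 hle) fun he => hij.ne (σ.injective he)
  obtain ⟨t, ht, ht1, htc⟩ := exists_transvection hlt
  obtain ⟨s, hs, -, hsc⟩ := exists_transvection hij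
  have hts : t * p = p * s := by
    apply Subtype.ext
    rw [Matrix.SpecialLinearGroup.coe_mul, Matrix.SpecialLinearGroup.coe_mul, htc, hsc, hp,
      Matrix.add_mul, Matrix.mul_add, Matrix.one_mul, Matrix.mul_one]
    congr 1
    ext x y
    simp only [Matrix.mul_apply, pm, Matrix.single_apply, Matrix.of_apply, ite_mul, mul_ite,
      one_mul, mul_one, zero_mul, mul_zero]
    by_cases hx : σ i = x <;> by_cases hy : j = y <;> simp [hx, hy, eq_comm, Ne.symm]
  have key : g⁻¹ * (a⁻¹ * t * a) * g = b * s * b⁻¹ := by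
    have e1 : g⁻¹ * (a⁻¹ * t * a) * g = b * (p⁻¹ * t * p) * b⁻¹ := by rw [← h]; group
    rw [e1, mul_assoc p⁻¹, hts, inv_mul_cancel_left]
  have h1 := hg _ (mul_mem (mul_mem (inv_mem ha) ht) ha)
    (by rw [key]; exact mul_mem (mul_mem hb hs) (inv_mem hb))
  rw [mul_assoc, inv_mul_eq_one] at h1
  exact ht1 (mul_eq_right.1 h1.symm)

theorem double_coset_unique {g g' : SLn}
    (hg : ∀ t ∈ uni n (ZMod 2), g⁻¹ * t * g ∈ uni n (ZMod 2) → t = 1)
    (hg' : ∀ t ∈ uni n (ZMod 2), g'⁻¹ * t * g' ∈ uni n (ZMod 2) → t = 1) :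
    ∃ u ∈ uni n (ZMod 2), ∃ v ∈ uni n (ZMod 2), g' = u * g * v := by
  obtain ⟨a, b, p, σ, ha, hb, hp, h⟩ := exists_decomp g
  obtain ⟨a', b', p', σ', ha', hb', hp', h'⟩ := exists_decomp g'
  have h1 := strictAnti_of_trivial ha hb hp h hg
  have h2 := strictAnti_of_trivial ha' hb' hp' h' hg'
  have heq : σ = σ' := by
    apply Equiv.ext
    exact congrFun ((StrictAnti.range_inj h1 h2).1 (by simp [σ.surjective.range_eq, σ'.surjective.range_eq]))
  have hpp : p' = p := Subtype.ext (by rw [hp, hp', heq])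
  refine ⟨a'⁻¹ * a, mul_mem (inv_mem ha') ha, b * b'⁻¹, mul_mem hb (inv_mem hb'), ?_⟩
  rw [show a'⁻¹ * a * g * (b * b'⁻¹) = a'⁻¹ * (a * g * b) * b'⁻¹ by group, h, ← hpp, ← h']
  group

theorem exists_sylow_uni : ∃ P : Sylow 2 SLn, (P : Subgroup SLn) = uni n (ZMod 2) := by
  haveI : Fact (Nat.Prime 2) := ⟨Nat.prime_two⟩
  refine ⟨Sylow.ofCard (uni n (ZMod 2)) ?_, rfl⟩
  have hGL := Cfsg.Agent.Lib.Linear.factorization_card_GL (F := ZMod 2) 2 n
  rw [card_uni]
  have hdvd : Nat.card (uni n (ZMod 2)) ∣ Nat.card SLn := Subgroup.card_subgroup_dvd_card _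
  rw [card_uni] at hdvd
  simp only [ZMod.card] at hGL hdvd ⊢
  have h1 := (Nat.prime_two.pow_dvd_iff_le_factorization Nat.card_pos.ne').1 hdvd
  have h2 : (Nat.card SLn).factorization 2 ≤ (Nat.card (GL (Fin n) (ZMod 2))).factorization 2 :=
    (Nat.factorization_le_iff_dvd Nat.card_pos.ne' Nat.card_pos.ne').2
      (Subgroup.card_dvd_of_injective _ Matrix.SpecialLinearGroup.toGL_injective) 2
  rw [Nat.pow_right_injective le_rfl hGL] at h2
  rw [le_antisymm h1 h2]

theorem exists_sylow_subgroupOf {G : Type*} [Group G] [Finite G] (N : Subgroup G) [N.Normal]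
    (hidx : N.index = 2) (H : Sylow 2 G) {h : G} (hH : h ∈ (H : Subgroup G)) (hN : h ∉ N) :
    ∃ Q : Sylow 2 N, (Q : Subgroup N) = (H : Subgroup G).subgroupOf N := by
  haveI : Fact (Nat.Prime 2) := ⟨Nat.prime_two⟩
  have h2 : N.relIndex (H : Subgroup G) = 2 := by
    have hd : N.relIndex (H : Subgroup G) ∣ N.index := Subgroup.relIndex_dvd_index_of_normal N _
    rw [hidx] at hd
    exact ((Nat.dvd_prime Nat.prime_two).1 hd).resolve_left fun h1 =>
      hN (Subgroup.relIndex_eq_one.1 h1 hH)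
  have e1 := Subgroup.relIndex_mul_index (inf_le_right : (H : Subgroup G) ⊓ N ≤ N)
  have e2 := Subgroup.relIndex_mul_index (inf_le_left : (H : Subgroup G) ⊓ N ≤ H)
  rw [Subgroup.inf_relIndex_left, h2] at e2
  rw [Subgroup.inf_relIndex_right, hidx, ← e2, mul_comm] at e1
  refine ⟨IsPGroup.toSylow (P := (H : Subgroup G).subgroupOf N)
    (H.isPGroup'.comap_of_injective N.subtype Subtype.coe_injective) ?_, rfl⟩
  have : ((H : Subgroup G).subgroupOf N).index = (H : Subgroup G).index :=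
    mul_left_cancel₀ two_ne_zero e1
  rw [this]
  exact H.not_dvd_index

theorem meet {G : Type*} [Group G] [Finite G] (N : Subgroup G) [N.Normal]
    (e : N ≃* SLn) (hidx : N.index = 2) (H : Sylow 2 G) (x : G) :
    (H : Subgroup G) ⊓ MulAut.conj x • (H : Subgroup G) ≠ ⊥ := by
  haveI : Fact (Nat.Prime 2) := ⟨Nat.prime_two⟩
  obtain ⟨h, hH, hN⟩ : ∃ h ∈ (H : Subgroup G), h ∉ N := by
    by_contra hc
    push Not at hc
    have h2 := Subgroup.index_dvd_of_le hc
    rw [hidx] at h2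
    exact H.not_dvd_index h2
  obtain ⟨g, hgN, hgx⟩ : ∃ g ∈ N,
      MulAut.conj g • (H : Subgroup G) = MulAut.conj x • (H : Subgroup G) := by
    by_cases hx : x ∈ N
    · exact ⟨x, hx, rfl⟩
    · refine ⟨x * h, (Subgroup.mul_mem_iff_of_index_two hidx).2 (by simp [hx, hN]), ?_⟩
      rw [map_mul, mul_smul, Subgroup.conj_smul_eq_self_of_mem hH]
  rw [← hgx]
  -- normalise `e` so that `H ∩ N` becomes the unitriangular group
  have hP : ∃ e' : N ≃* SLn, ∀ m : N, (m : G) ∈ (H : Subgroup G) ↔ e' m ∈ uni n (ZMod 2) := by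
    obtain ⟨P, hP⟩ := exists_sylow_uni (n := n)
    obtain ⟨Q, hQ⟩ : ∃ Q : Sylow 2 N, (Q : Subgroup N) = (H : Subgroup G).subgroupOf N :=
      exists_sylow_subgroupOf N hidx H hH hN
    let Q' : Sylow 2 SLn := Q.mapSurjective (f := e.toMonoidHom) e.surjective
    obtain ⟨k, hk⟩ := MulAction.exists_smul_eq SLn Q' P
    refine ⟨e.trans (MulAut.conj k), fun m => ?_⟩
    rw [← hP, ← hk, Sylow.coe_subgroup_smul]
    rw [← Subgroup.mem_subgroupOf (K := N), ← hQ]
    change m ∈ (Q : Subgroup N) ↔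
      (MulAut.conj k) • (e m) ∈ MulAut.conj k • (Q' : Subgroup SLn)
    rw [Subgroup.smul_mem_pointwise_smul_iff]
    change _ ↔ e m ∈ (Q : Subgroup N).map e.toMonoidHom
    exact (Subgroup.mem_map_iff_mem e.injective).symm
  obtain ⟨f, hf⟩ := hP
  intro hbot
  have mem_conj : ∀ y : G, y ∈ MulAut.conj g • (H : Subgroup G) ↔ g⁻¹ * y * g ∈ (H : Subgroup G) := by
    intro y
    rw [Subgroup.mem_pointwise_smul_iff_inv_smul_mem, MulAut.smul_def, MulAut.conj_inv_apply]
  have triv : ∀ y ∈ (H : Subgroup G), g⁻¹ * y * g ∈ (H : Subgroup G) → y = 1 := fun y h1 h2 =>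
    Subgroup.mem_bot.1 (hbot ▸ (⟨h1, (mem_conj y).2 h2⟩ :
      y ∈ (H : Subgroup G) ⊓ MulAut.conj g • (H : Subgroup G)))
  let g₁ : N := ⟨g, hgN⟩
  let g₂ : N := ⟨h * g * h⁻¹, ‹N.Normal›.conj_mem g hgN h⟩
  have hg₁ : ∀ t ∈ uni n (ZMod 2), (f g₁)⁻¹ * t * f g₁ ∈ uni n (ZMod 2) → t = 1 := by
    intro t ht ht'
    obtain ⟨m, rfl⟩ := f.surjective t
    rw [← map_inv, ← map_mul, ← map_mul, ← hf] at ht'
    have := triv m ((hf m).2 ht) (by simpa [g₁] using ht')
    rw [show m = 1 from Subtype.ext this, map_one]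
  have hg₂ : ∀ t ∈ uni n (ZMod 2), (f g₂)⁻¹ * t * f g₂ ∈ uni n (ZMod 2) → t = 1 := by
    intro t ht ht'
    obtain ⟨m, rfl⟩ := f.surjective t
    rw [← map_inv, ← map_mul, ← map_mul, ← hf] at ht'
    have e1 : g⁻¹ * (h⁻¹ * m * h) * g = h⁻¹ * ((g₂⁻¹ * m * g₂ : N) : G) * h := by
      simp only [g₂, Subgroup.coe_mul, Subgroup.coe_inv]; group
    have := triv (h⁻¹ * m * h) (mul_mem (mul_mem (inv_mem hH) ((hf m).2 ht)) hH)
      (by rw [e1]; exact mul_mem (mul_mem (inv_mem hH) ht') hH)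
    have hm : (m : G) = 1 := by
      rw [mul_assoc, inv_mul_eq_one] at this
      exact mul_eq_right.1 this.symm
    rw [show m = 1 from Subtype.ext hm, map_one]
  obtain ⟨u, hu, v, hv, huv⟩ := double_coset_unique hg₁ hg₂
  obtain ⟨u', rfl⟩ := f.surjective u
  obtain ⟨v', rfl⟩ := f.surjective v
  rw [← map_mul, ← map_mul] at huv
  have hG : h * g * h⁻¹ = u' * g * v' := by simpa [g₁, g₂] using congrArg Subtype.val (f.injective huv)
  have hy : (u' : G)⁻¹ * h ∈ (H : Subgroup G) := mul_mem (inv_mem ((hf u').2 hu)) hH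
  have hy2 : g⁻¹ * ((u' : G)⁻¹ * h) * g = v' * h := by
    have : h * g = u' * g * v' * h := by rw [← hG]; group
    rw [mul_assoc g⁻¹, mul_assoc (u' : G)⁻¹, this]; group
  have := triv _ hy (by rw [hy2]; exact mul_mem ((hf v').2 hv) hH)
  apply hN
  rw [inv_mul_eq_one] at this
  rw [← this]
  exact u'.2


/-- Let n ≥ 4 and let G be a finite group with a normal subgroup N of index 2 isomorphic to SL(n,2) and with trivial centralizer in G (so G is the extension of the simple group L_n(2) by its inverse-transpose automorphism, its full automorphism group). Then any two Sylow 2-subgroups of G have a non-trivial intersection: for a Sylow 2-subgroup H and every x ∈ G, H ∩ H^x ≠ 1. -/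
theorem result {G : Type*} [Group G] [Finite G] {n : ℕ} (hn : 4 ≤ n) (N : Subgroup G) [N.Normal]
    (e : N ≃* Matrix.SpecialLinearGroup (Fin n) (ZMod 2)) (hidx : N.index = 2)
    (hC : Subgroup.centralizer (N : Set G) = ⊥)
    (H : Sylow 2 G) (x : G) :
    (H : Subgroup G) ⊓ MulAut.conj x • (H : Subgroup G) ≠ ⊥ := by
  exact meet N e hidx H x

end Cfsg.Agent.S2486
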