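import Cfsg.Statements.S2488
import Cfsg.Agent.Lib.PGroups.Omega

set_option autoImplicit false
set_option linter.style.haveILetI false
open scoped Pointwise
open Cfsg

namespace Cfsg.Agent.S2488

set_option maxHeartbeats 800000

/-- The involution `(0 1)(2 3)` of `A₆`. -/
def z0 : alternatingGroup (Fin 6) :=
  ⟨Equiv.swap 0 1 * Equiv.swap 2 3, by simp [Equiv.Perm.mem_alternatingGroup]⟩

theorem card_commute :
    (Finset.univ.filter fun w : alternatingGroup (Fin 6) => w * z0 = z0 * w).card = 8 := by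
  decide +kernel

theorem card_three :
    (Finset.univ.filter fun w : alternatingGroup (Fin 6) => w * w = 1 ∧ (z0 * w) ^ 3 = 1).card < 32 := by
  decide +kernel

theorem card_four :
    (Finset.univ.filter fun w : alternatingGroup (Fin 6) => w * w = 1 ∧ (z0 * w) ^ 4 = 1).card < 32 := by
  decide +kernel

theorem card_five :
    (Finset.univ.filter fun w : alternatingGroup (Fin 6) => w * w = 1 ∧ (z0 * w) ^ 5 = 1).card < 32 := by
  decide +kernel

theorem pow_cases : ∀ w : alternatingGroup (Fin 6),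
    (z0 * w) ^ 3 = 1 ∨ (z0 * w) ^ 4 = 1 ∨ (z0 * w) ^ 5 = 1 := by
  decide +kernel

/-- An involution of `A₆` is mapped to `(0 1)(2 3)` by some automorphism. -/
theorem exists_aut {v : alternatingGroup (Fin 6)} (hv : orderOf v = 2) :
    ∃ α : alternatingGroup (Fin 6) ≃* alternatingGroup (Fin 6), α v = z0 := by
  haveI : Fact (Nat.Prime 2) := ⟨Nat.prime_two⟩
  have hv' : orderOf (v : Equiv.Perm (Fin 6)) = 2 := by rw [Subgroup.orderOf_coe, hv]
  obtain ⟨n, hn⟩ := Equiv.Perm.cycleType_prime_order (σ := (v : Equiv.Perm (Fin 6))) (by rw [hv']; exact Nat.prime_two)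
  rw [hv'] at hn
  have hs : (v : Equiv.Perm (Fin 6)).support.card ≤ 6 := (Finset.card_le_univ _).trans (by simp)
  rw [← Equiv.Perm.sum_cycleType, hn, Multiset.sum_replicate, smul_eq_mul] at hs
  have hsg : Equiv.Perm.sign (v : Equiv.Perm (Fin 6)) = 1 := Equiv.Perm.mem_alternatingGroup.1 v.2
  rw [Equiv.Perm.sign_of_cycleType, hn, Multiset.sum_replicate, smul_eq_mul,
    Multiset.card_replicate, neg_one_pow_eq_one_iff_even (by decide)] at hsg
  obtain rfl : n = 1 := by
    obtain ⟨c, hc⟩ := hsg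
    omega
  have hz : (z0 : Equiv.Perm (Fin 6)).cycleType = Multiset.replicate 2 2 := by decide +kernel
  obtain ⟨σ, hσ⟩ := isConj_iff.1 (Equiv.Perm.isConj_iff_cycleType_eq.2 (hn.trans hz.symm))
  refine ⟨MulAut.conjNormal σ, Subtype.ext ?_⟩
  rw [MulAut.conjNormal_apply]
  exact hσ

/-- Let G be a finite group with a normal subgroup N of index 4 isomorphic to the alternating group of degree 6 and with trivial centralizer in G (so G is the full automorphism group of A₆). Then any two Sylow 2-subgroups of G have a non-trivial intersection: for a Sylow 2-subgroup H and every x ∈ G, H ∩ H^x ≠ 1. -/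
theorem result {G : Type*} [Group G] [Finite G] (N : Subgroup G) [N.Normal]
    (e : N ≃* alternatingGroup (Fin 6)) (hidx : N.index = 4)
    (hC : Subgroup.centralizer (N : Set G) = ⊥)
    (H : Sylow 2 G) (x : G) :
    (H : Subgroup G) ⊓ MulAut.conj x • (H : Subgroup G) ≠ ⊥ := by
  classical
  haveI : Fact (Nat.Prime 2) := ⟨Nat.prime_two⟩
  intro hbot
  have hN : Nat.card N = 360 := by
    rw [Nat.card_congr e.toEquiv, nat_card_alternatingGroup, Nat.card_eq_fintype_card, Fintype.card_fin]
    rfl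
  have hG : Nat.card G = 1440 := by rw [← N.card_mul_index, hN, hidx]
  have hH : Nat.card H = 32 := by
    rw [H.card_eq_multiplicity, hG, show (1440 : ℕ) = 2 ^ 5 * 45 from rfl,
      Nat.factorization_mul (by norm_num) (by norm_num), Finsupp.add_apply,
      Nat.Prime.factorization_pow Nat.prime_two, Finsupp.single_eq_same,
      Nat.factorization_eq_zero_of_not_dvd (by norm_num), add_zero]
    norm_num
  -- an involution of `N` central in `H`
  let D : Subgroup (H : Subgroup G) := N.subgroupOf H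
  haveI : D.Normal := inferInstanceAs (N.subgroupOf (H : Subgroup G)).Normal
  have hD : D ≠ ⊥ := by
    intro h
    have h1 := D.card_mul_index
    rw [h, Subgroup.card_bot, one_mul, Subgroup.index_bot] at h1
    have h2 : D.index ≤ N.index :=
      Nat.le_of_dvd (by rw [hidx]; norm_num) (Subgroup.relIndex_dvd_index_of_normal N (H : Subgroup G))
    rw [h, Subgroup.index_bot, hH, hidx] at h2
    omega
  have hDZ := Lib.PGroups.normal_inf_center_ne_bot H.2 D hD
  obtain ⟨d, hdo⟩ := exists_prime_orderOf_dvd_card' (G := ↥(D ⊓ Subgroup.center (H : Subgroup G))) 2 (by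
    obtain ⟨k, hk⟩ := IsPGroup.iff_card.1 (H.2.to_subgroup (D ⊓ Subgroup.center (H : Subgroup G)))
    have : k ≠ 0 := fun h0 => hDZ (Subgroup.card_eq_one.1 (by rw [hk, h0, pow_zero]))
    exact hk ▸ dvd_pow_self 2 this)
  set z : G := ((d : (H : Subgroup G)) : G) with hzdef
  have hzN : z ∈ N := d.2.1
  have hzH : ∀ h ∈ (H : Subgroup G), h * z = z * h := fun h hh =>
    congrArg Subtype.val (Subgroup.mem_center_iff.1 d.2.2 ⟨h, hh⟩)
  have hzo : orderOf (⟨z, hzN⟩ : N) = 2 := by
    rw [Subgroup.orderOf_mk, hzdef, Subgroup.orderOf_coe, Subgroup.orderOf_coe, hdo]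
  obtain ⟨α, hα⟩ := exists_aut (v := e ⟨z, hzN⟩) (by rw [e.orderOf_eq, hzo])
  let f : N ≃* alternatingGroup (Fin 6) := e.trans α
  have hf : f ⟨z, hzN⟩ = z0 := hα
  -- the centralizer of `z` is `H`
  set C := Subgroup.centralizer ({z} : Set G) with hCdef
  have hHC : (H : Subgroup G) ≤ C := fun h hh => Subgroup.mem_centralizer_singleton_iff.2 (hzH h hh)
  have hCN : Nat.card (N.subgroupOf C) ≤ 8 := by
    rw [← card_commute, ← Nat.card_eq_finsetCard]
    refine Nat.card_le_card_of_injective
      (fun c => ⟨f ⟨_, c.2⟩, Finset.mem_filter.2 ⟨Finset.mem_univ _, ?_⟩⟩) fun a b h => ?_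
    · rw [← hf, ← map_mul, ← map_mul]
      exact congrArg f (Subtype.ext (Subgroup.mem_centralizer_singleton_iff.1 c.1.2))
    · have h' : ((a.1 : C) : G) = ((b.1 : C) : G) :=
        congrArg (fun u : N => (u : G)) (f.injective (congrArg Subtype.val h))
      exact Subtype.ext (Subtype.ext h')
  have hCH : C = (H : Subgroup G) := by
    refine (Subgroup.eq_of_le_of_card_ge hHC ?_).symm
    have h1 := (N.subgroupOf C).card_mul_index
    have h2 : (N.subgroupOf C).index ≤ 4 :=
      hidx ▸ Nat.le_of_dvd (by rw [hidx]; norm_num) (Subgroup.relIndex_dvd_index_of_normal N C)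
    rw [hH, ← h1]
    exact (Nat.mul_le_mul hCN h2).trans (by norm_num)
  -- the conjugate involution has a regular orbit under `H`
  set w : G := x * z * x⁻¹ with hwdef
  have hwN : w ∈ N := Subgroup.Normal.conj_mem ‹_› z hzN x
  have hww : w * w = 1 := by
    have hzz : z * z = 1 := by
      have := pow_orderOf_eq_one (⟨z, hzN⟩ : N)
      rw [hzo, pow_two] at this
      exact congrArg Subtype.val this
    rw [hwdef, show x * z * x⁻¹ * (x * z * x⁻¹) = x * (z * z) * x⁻¹ by group, hzz, mul_one,
      mul_inv_cancel]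
  have key : ∀ k : ℕ, (z0 * f ⟨w, hwN⟩) ^ k = 1 →
      32 ≤ (Finset.univ.filter fun v : alternatingGroup (Fin 6) => v * v = 1 ∧ (z0 * v) ^ k = 1).card := by
    intro k hk
    rw [← hH, ← Nat.card_eq_finsetCard]
    refine Nat.card_le_card_of_injective (fun h => ⟨f ⟨(h : G) * w * (h : G)⁻¹,
      Subgroup.Normal.conj_mem ‹_› w hwN h⟩, Finset.mem_filter.2 ⟨Finset.mem_univ _, ?_, ?_⟩⟩) ?_
    · rw [← map_mul, ← map_one f]
      refine congrArg f (Subtype.ext ?_)
      show (h : G) * w * (h : G)⁻¹ * ((h : G) * w * (h : G)⁻¹) = 1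
      rw [show (h : G) * w * (h : G)⁻¹ * ((h : G) * w * (h : G)⁻¹) = (h : G) * (w * w) * (h : G)⁻¹
        by group, hww, mul_one, mul_inv_cancel]
    · rw [← hf, ← map_mul, ← map_pow] at hk ⊢
      rw [MulEquiv.map_eq_one_iff] at hk ⊢
      refine Subtype.ext ?_
      have hk' : (z * w) ^ k = 1 := congrArg Subtype.val hk
      show (z * ((h : G) * w * (h : G)⁻¹)) ^ k = 1
      rw [show z * ((h : G) * w * (h : G)⁻¹) = (h : G) * (z * w) * (h : G)⁻¹ by
        rw [← mul_assoc z, ← mul_assoc z, ← hzH h h.2]; group, conj_pow, hk', mul_one, mul_inv_cancel]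
    · intro a b hab
      have h1 : (a : G) * w * (a : G)⁻¹ = (b : G) * w * (b : G)⁻¹ :=
        congrArg Subtype.val (f.injective (congrArg Subtype.val hab))
      have h2 : x⁻¹ * ((b : G)⁻¹ * (a : G)) * x ∈ C := by
        rw [hCdef, Subgroup.mem_centralizer_singleton_iff]
        calc x⁻¹ * ((b : G)⁻¹ * (a : G)) * x * z
            = x⁻¹ * (b : G)⁻¹ * ((a : G) * w * (a : G)⁻¹) * ((a : G) * x) := by rw [hwdef]; group
          _ = z * (x⁻¹ * ((b : G)⁻¹ * (a : G)) * x) := by rw [h1, hwdef]; group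
      have h3 : (b : G)⁻¹ * (a : G) ∈ (H : Subgroup G) ⊓ MulAut.conj x • (H : Subgroup G) := by
        refine Subgroup.mem_inf.2 ⟨mul_mem (inv_mem b.2) a.2, ?_⟩
        rw [Subgroup.mem_pointwise_smul_iff_inv_smul_mem]
        exact hCH.le (by simpa [mul_assoc] using h2)
      rw [hbot, Subgroup.mem_bot, inv_mul_eq_one] at h3
      exact (Subtype.ext h3).symm
  rcases pow_cases (f ⟨w, hwN⟩) with h | h | h
  · exact absurd (key 3 h) (not_le.2 card_three)
  · exact absurd (key 4 h) (not_le.2 card_four)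
  · exact absurd (key 5 h) (not_le.2 card_five)

end Cfsg.Agent.S2488
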