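import Cfsg.Statements.S2490
import Cfsg.Agent.Lib.RecogThree.M11.Order7920

set_option autoImplicit false
open Cfsg

namespace Cfsg.Agent.S2490

/-- Let G be a finite group of order 7920 = 2⁴·3²·5·11 (the order of the smallest Mathieu group) and suppose its prime graph (vertices the prime divisors of the order, distinct p, q joined when there is an element of order pq) is disconnected: the prime divisors split into two non-empty parts with no element of order pq for p in one part and q in the other. Then G is simple. -/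
theorem result {G : Type*} [Group G] [Finite G] (hord : Nat.card G = 7920)
    (hdisc : (∃ A : Set ℕ, (∃ a ∈ A, a.Prime ∧ a ∣ Nat.card G) ∧ (∃ b ∉ A, b.Prime ∧ b ∣ Nat.card G) ∧
      ∀ a ∈ A, ∀ b ∉ A, a.Prime → b.Prime → a ∣ Nat.card G → b ∣ Nat.card G → ¬ ∃ g : G, orderOf g = a * b)) :
    IsSimpleGroup G := by
  haveI : Fact (Nat.Prime 11) := ⟨by norm_num⟩
  obtain ⟨A, ⟨a, haA, hap, had⟩, ⟨b, hbA, hbp, hbd⟩, hno⟩ := hdisc
  by_cases h144 : Nat.card (Sylow 11 G) = 144
  · exact Cfsg.Agent.Lib.RecogThree.M11.Order7920.isSimpleGroup_of_144 hord h144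
  exfalso
  obtain ⟨h2, h3, h5⟩ := Cfsg.Agent.Lib.RecogThree.M11.Order7920.connected hord h144
  have hpr : ∀ p : ℕ, p.Prime → p ∣ Nat.card G → p = 2 ∨ p = 3 ∨ p = 5 ∨ p = 11 := by
    intro p hp hd
    have hm : p ∈ (7920 : ℕ).primeFactors := Nat.mem_primeFactors.mpr ⟨hp, hord ▸ hd, by norm_num⟩
    have key : ∀ q ∈ (7920 : ℕ).primeFactors, q = 2 ∨ q = 3 ∨ q = 5 ∨ q = 11 := by decide +kernel
    exact key p hm
  have hd : ∀ p, p = 2 ∨ p = 3 ∨ p = 5 ∨ p = 11 → p.Prime ∧ p ∣ Nat.card G := by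
    intro p hp
    rw [hord]
    rcases hp with rfl | rfl | rfl | rfl <;> norm_num
  have hside : ∀ p q, p.Prime ∧ p ∣ Nat.card G → q.Prime ∧ q ∣ Nat.card G →
      Cfsg.Agent.Lib.RecogThree.M11.Order7920.Adj G p q → (p ∈ A ↔ q ∈ A) := by
    intro p q hp hq he
    constructor
    · intro hpA
      by_contra hqA
      exact hno p hpA q hqA hp.1 hq.1 hp.2 hq.2 he
    · intro hqA
      by_contra hpA
      obtain ⟨g, hg⟩ := he
      exact hno q hqA p hpA hq.1 hp.1 hq.2 hp.2 ⟨g, by rw [hg, mul_comm]⟩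
  have e2 := hside 2 11 (hd 2 (by simp)) (hd 11 (by simp)) h2
  have e3 := hside 3 11 (hd 3 (by simp)) (hd 11 (by simp)) h3
  have e5 : 5 ∈ A ↔ 11 ∈ A := by
    rcases h5 with e | e | e
    · exact hside 5 11 (hd 5 (by simp)) (hd 11 (by simp)) e
    · exact (hside 2 5 (hd 2 (by simp)) (hd 5 (by simp)) e).symm.trans e2
    · exact (hside 3 5 (hd 3 (by simp)) (hd 5 (by simp)) e).symm.trans e3
  rcases hpr a hap had with rfl | rfl | rfl | rfl <;>
    rcases hpr b hbp hbd with rfl | rfl | rfl | rfl <;> tauto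

end Cfsg.Agent.S2490
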