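import Cfsg.Statements.S2493
import Cfsg.Agent.Lib.CommCover12.Lift

set_option autoImplicit false
open Cfsg

namespace Cfsg.Agent.S2493

theorem result {G : Type*} [Group G] [Finite G] (hperf : commutator G = ⊤) {n : ℕ} (hn : 5 ≤ n)
    (hZ : Nat.card (Subgroup.center G) = 2) (e : G ⧸ Subgroup.center G ≃* alternatingGroup (Fin n))
    (g : G) :
    ∃ a b : G, a * b * a⁻¹ * b⁻¹ = g := by
  let π : G →* Equiv.Perm (Fin n) := (alternatingGroup (Fin n)).subtype.comp
    (e.toMonoidHom.comp (QuotientGroup.mk' (Subgroup.center G)))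
  have hπ : ∀ x : G, π x = 1 ↔ x ∈ Subgroup.center G := by
    intro x
    simp [π]
  obtain ⟨u, v, huv, huniv⟩ := Nat.card_eq_two_iff.1 hZ
  obtain ⟨z, hz, hz1, hall⟩ : ∃ z : G, z ∈ Subgroup.center G ∧ z ≠ 1 ∧
      ∀ x ∈ Subgroup.center G, x = 1 ∨ x = z := by
    have hcases : ∀ w : ↥(Subgroup.center G), w = u ∨ w = v := fun w => by
      have hw := Set.mem_univ w
      rw [← huniv] at hw
      simpa using hw
    rcases hcases 1 with h | h
    · refine ⟨v, v.2, fun e => huv (h.symm.trans (Subtype.ext e.symm)), fun x hx => ?_⟩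
      rcases hcases ⟨x, hx⟩ with e | e
      · exact Or.inl (congrArg Subtype.val (e.trans h.symm))
      · exact Or.inr (congrArg Subtype.val e)
    · refine ⟨u, u.2, fun e => huv ((show u = 1 from Subtype.ext e).trans h), fun x hx => ?_⟩
      rcases hcases ⟨x, hx⟩ with e | e
      · exact Or.inr (congrArg Subtype.val e)
      · exact Or.inl (congrArg Subtype.val (e.trans h.symm))
  have hcov : Lib.CommCover12.IsCoverMap π z := by
    refine ⟨?_, hperf, fun x hx => hall x ((hπ x).1 hx), fun x => Subgroup.mem_center_iff.1 hz x,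
      ?_, hz1, (hπ z).2 hz⟩
    · ext p
      constructor
      · rintro ⟨x, rfl⟩; exact (e (QuotientGroup.mk x)).2
      · intro hp
        obtain ⟨x, hx⟩ := QuotientGroup.mk'_surjective (Subgroup.center G) (e.symm ⟨p, hp⟩)
        refine ⟨x, ?_⟩
        show ((e (QuotientGroup.mk' (Subgroup.center G) x) : alternatingGroup (Fin n)) : Equiv.Perm (Fin n)) = p
        rw [hx, MulEquiv.apply_symm_apply]
    · rcases hall _ ((Subgroup.center G).mul_mem hz hz) with h | h
      · exact h
      · exact absurd (mul_eq_left.1 h) hz1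
  exact hcov.exists_commutator hn g

end Cfsg.Agent.S2493
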