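import Cfsg.Statements.S2495
import Cfsg.Agent.Lib.BCGraph.PSLAdj
import Cfsg.Agent.Lib.Singer.Primitive
import Cfsg.Agent.Lib.NumberTheory.Zsigmondy
-- import your own Cfsg.Agent.* helpers here

set_option autoImplicit false
open Cfsg

namespace Cfsg.Agent.S2495

open Module Cfsg.Agent.Lib.BCGraph

theorem dvd_half_iff {h a : ℕ} (hh : 0 < h) (ha : 0 < a) :
    Nat.gcd (2 * h) a ∣ h ↔ padicValNat 2 a < padicValNat 2 (2 * h) := by
  haveI : Fact (Nat.Prime 2) := ⟨Nat.prime_two⟩
  have hv : padicValNat 2 (2 * h) = padicValNat 2 h + 1 := by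
    rw [padicValNat.mul (by norm_num) hh.ne', padicValNat_self, add_comm]
  constructor
  · intro hd
    by_contra hlt
    rw [not_lt] at hlt
    have h1 : 2 ^ padicValNat 2 (2 * h) ∣ Nat.gcd (2 * h) a :=
      Nat.dvd_gcd pow_padicValNat_dvd ((pow_dvd_pow 2 hlt).trans pow_padicValNat_dvd)
    have h2 := (padicValNat_dvd_iff_le hh.ne').1 (h1.trans hd)
    omega
  · intro hlt
    rw [hv] at hlt
    obtain ⟨u, w, hu, hw, huw⟩ := Nat.dvd_mul.1 (Nat.gcd_dvd_left (2 * h) a)
    rcases (Nat.dvd_prime Nat.prime_two).1 hu with rfl | rfl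
    · rw [← huw, one_mul]; exact hw
    · -- the quotient gains a factor two
      obtain ⟨c, hc⟩ := hw
      have hw0 : 0 < w := Nat.pos_of_ne_zero fun e => by subst e; simp at hc; omega
      have hwh : padicValNat 2 w + 1 ≤ padicValNat 2 a := by
        have h1 : (2 * w) ∣ a := huw ▸ Nat.gcd_dvd_right (2 * h) a
        have h2 : 2 ^ (padicValNat 2 w + 1) ∣ a := by
          rw [pow_succ']
          exact (Nat.mul_dvd_mul_left 2 pow_padicValNat_dvd).trans h1
        exact (padicValNat_dvd_iff_le ha.ne').1 h2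
      have hceven : 2 ∣ c := by
        by_contra hodd
        have hc0 : c ≠ 0 := fun e => hodd (e ▸ dvd_zero 2)
        rw [hc, padicValNat.mul hw0.ne' hc0, padicValNat.eq_zero_of_not_dvd hodd] at hlt
        omega
      obtain ⟨c', rfl⟩ := hceven
      exact ⟨c', by rw [← huw, hc]; ring⟩

theorem gcd_arith {q h : ℕ} (hq : 2 ≤ q) (hh : 0 < h) :
    ∃ M : ℕ, M * (q - 1) = q ^ (2 * h) - 1 ∧ Nat.gcd M (q - 1) = Nat.gcd (2 * h) (q - 1) ∧
      (q ^ h + 1 ∣ M / Nat.gcd (2 * h) (q - 1) ↔ Nat.gcd (2 * h) (q - 1) ∣ h) ∧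
      q ^ h + 1 ∣ M := by
  obtain ⟨S, hS⟩ : ∃ S, S = ∑ i ∈ Finset.range h, q ^ i := ⟨_, rfl⟩
  have hSq : S * (q - 1) = q ^ h - 1 := by
    subst hS; exact Nat.geomSum_eq hq h ▸ Nat.div_mul_cancel (Nat.sub_one_dvd_pow_sub_one q h)
  have hM : (q ^ h + 1) * S * (q - 1) = q ^ (2 * h) - 1 := by
    rw [mul_assoc, hSq]
    have h2 : 1 ≤ q ^ h := Nat.one_le_pow _ _ (by omega)
    zify [h2, Nat.one_le_pow (2 * h) q (by omega)]
    ring
  have key : ∀ d, d ∣ q - 1 → (d ∣ S ↔ d ∣ h) := by
    intro d hd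
    rw [← ZMod.natCast_eq_zero_iff, ← ZMod.natCast_eq_zero_iff h d, hS, Nat.cast_sum]
    have h1 : ((q : ℕ) : ZMod d) = 1 := by
      have := (ZMod.natCast_eq_zero_iff (q - 1) d).2 hd
      rw [Nat.cast_sub (by omega), Nat.cast_one, sub_eq_zero] at this
      exact this
    simp [h1]
  have hgcd : Nat.gcd ((q ^ h + 1) * S) (q - 1) = Nat.gcd (2 * h) (q - 1) := by
    have hmod : ∀ d, d ∣ q - 1 → (d ∣ (q ^ h + 1) * S ↔ d ∣ 2 * h) := by
      intro d hd
      rw [← ZMod.natCast_eq_zero_iff, ← ZMod.natCast_eq_zero_iff (2 * h) d, hS]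
      have h1 : ((q : ℕ) : ZMod d) = 1 := by
        have := (ZMod.natCast_eq_zero_iff (q - 1) d).2 hd
        rw [Nat.cast_sub (by omega), Nat.cast_one, sub_eq_zero] at this
        exact this
      push_cast
      simp [h1]
      norm_num
    refine Nat.dvd_antisymm ?_ ?_
    · exact Nat.dvd_gcd ((hmod _ (Nat.gcd_dvd_right _ _)).1 (Nat.gcd_dvd_left _ _)) (Nat.gcd_dvd_right _ _)
    · exact Nat.dvd_gcd ((hmod _ (Nat.gcd_dvd_right _ _)).2 (Nat.gcd_dvd_left _ _)) (Nat.gcd_dvd_right _ _)
  refine ⟨(q ^ h + 1) * S, hM, hgcd, ?_, dvd_mul_right _ _⟩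
  rw [← hgcd, Nat.dvd_div_iff_mul_dvd (Nat.gcd_dvd_left _ _), mul_comm (Nat.gcd _ _),
    Nat.mul_dvd_mul_iff_left (Nat.succ_pos _)]
  exact key _ (Nat.gcd_dvd_right _ _)

variable {F : Type*} [Field F] [Fintype F] {n : ℕ}

theorem eq_algebraMap_of_pow {K : Type*} [Field K] [Algebra F K] {a : K}
    (h : a ^ (Fintype.card F - 1) = 1) : ∃ c : F, algebraMap F K c = a := by
  classical
  have hq := Fintype.one_lt_card (α := F)
  have hpos : 0 < Fintype.card F - 1 := by omega
  by_contra hcon
  simp only [not_exists] at hcon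
  let S : Finset K := insert a ((Finset.univ.erase (0 : F)).image (algebraMap F K))
  have hS : ∀ b ∈ S, b ∈ (Polynomial.nthRoots (Fintype.card F - 1) (1 : K)).toFinset := by
    intro b hb
    rw [Multiset.mem_toFinset, Polynomial.mem_nthRoots hpos]
    rcases Finset.mem_insert.1 hb with rfl | hb
    · exact h
    · obtain ⟨c, hc, rfl⟩ := Finset.mem_image.1 hb
      rw [← map_pow, FiniteField.pow_card_sub_one_eq_one c (Finset.ne_of_mem_erase hc), map_one]
  have h1 := (Finset.card_le_card hS).trans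
    ((Multiset.toFinset_card_le _).trans (Polynomial.card_nthRoots _ _))
  rw [Finset.card_insert_of_notMem (by
      rintro hmem
      obtain ⟨c, -, hc⟩ := Finset.mem_image.1 hmem
      exact hcon c hc),
    Finset.card_image_of_injective _ (algebraMap F K).injective,
    Finset.card_erase_of_mem (Finset.mem_univ _), Finset.card_univ] at h1
  omega

theorem exists_elt [NeZero n] {p : ℕ} [Fact p.Prime] [CharP F p] {M m : ℕ}
    (hM : M * (Fintype.card F - 1) = Fintype.card F ^ n - 1)
    (hm : m ∣ M / Nat.gcd M (Fintype.card F - 1)) :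
    ∃ g : Matrix.ProjectiveSpecialLinearGroup (Fin n) F, orderOf g = m := by
  classical
  have hq := Fintype.one_lt_card (α := F)
  let K := FiniteField.Extension F p n
  haveI : Fintype K := Fintype.ofFinite K
  have hK : Fintype.card K = Fintype.card F ^ n := by
    rw [← Nat.card_eq_fintype_card, ← Nat.card_eq_fintype_card, FiniteField.natCard_extension]
  obtain ⟨u, hu⟩ := IsCyclic.exists_ofOrder_eq_natCard (α := Kˣ)
  rw [Nat.card_units, Nat.card_eq_fintype_card, hK, ← hM] at hu
  have hMpos : 0 < M * (Fintype.card F - 1) := hu ▸ orderOf_pos u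
  have hM0 : 0 < M := Nat.pos_of_ne_zero fun e => by rw [e, zero_mul] at hMpos; omega
  let b : Basis (Fin n) F K := Module.finBasisOfFinrankEq F K (FiniteField.finrank_extension F p n)
  set a : K := ((u ^ (Fintype.card F - 1) : Kˣ) : K) with ha
  have haM : a ^ M = 1 := by
    rw [ha, ← Units.val_pow_eq_pow_val, ← pow_mul, mul_comm, ← hu, pow_orderOf_eq_one, Units.val_one]
  have hnorm : Algebra.norm F a = 1 := by
    apply (algebraMap F K).injective
    rw [FiniteField.algebraMap_norm_eq_pow, map_one, Nat.card_eq_fintype_card,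
      Nat.card_eq_fintype_card, hK, ← hM, Nat.mul_div_cancel _ (by omega), haM]
  let x : Matrix.SpecialLinearGroup (Fin n) F :=
    ⟨Algebra.leftMulMatrix b a, by rw [← Algebra.norm_eq_matrix_det, hnorm]⟩
  have hx : ∀ j : ℕ, (QuotientGroup.mk x : Matrix.ProjectiveSpecialLinearGroup (Fin n) F) ^ j = 1 ↔
      M ∣ j * (Fintype.card F - 1) := by
    intro j
    have hiff : M ∣ j * (Fintype.card F - 1) ↔ (a ^ j) ^ (Fintype.card F - 1) = 1 := by
      rw [ha, ← Units.val_pow_eq_pow_val, ← Units.val_pow_eq_pow_val, Units.val_eq_one,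
        ← pow_mul, ← pow_mul, ← orderOf_dvd_iff_pow_eq_one, hu,
        mul_comm (Fintype.card F - 1) (j * (Fintype.card F - 1)),
        Nat.mul_dvd_mul_iff_right (by omega : 0 < Fintype.card F - 1)]
    rw [hiff, ← QuotientGroup.mk_pow, QuotientGroup.eq_one_iff, Matrix.SpecialLinearGroup.mem_center_iff]
    constructor
    · rintro ⟨c, -, hc⟩
      have e : Algebra.leftMulMatrix b (a ^ j) = Algebra.leftMulMatrix b (algebraMap F K c) := by
        rw [map_pow, AlgHom.commutes, Matrix.algebraMap_eq_diagonal]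
        exact (Matrix.SpecialLinearGroup.coe_pow x j).symm.trans hc.symm
      have hac := Algebra.leftMulMatrix_injective b e
      rw [hac, ← map_pow, FiniteField.pow_card_sub_one_eq_one c ?_, map_one]
      rintro rfl
      rw [map_zero] at hac
      exact Units.ne_zero (u ^ (Fintype.card F - 1)) (eq_zero_of_pow_eq_zero hac)
    · intro h
      obtain ⟨c, hc⟩ := eq_algebraMap_of_pow (F := F) h
      have hcx : Matrix.scalar (Fin n) c = ((x ^ j : Matrix.SpecialLinearGroup (Fin n) F) :
          Matrix (Fin n) (Fin n) F) := by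
        rw [Matrix.SpecialLinearGroup.coe_pow]
        show _ = Algebra.leftMulMatrix b a ^ j
        rw [← map_pow, ← hc, AlgHom.commutes, Matrix.algebraMap_eq_diagonal]
        rfl
      refine ⟨c, ?_, hcx⟩
      have := congrArg Matrix.det hcx
      rw [(x ^ j).2, Matrix.scalar_apply, Matrix.det_diagonal, Finset.prod_const, Finset.card_univ] at this
      exact this
  set d := Nat.gcd M (Fintype.card F - 1)
  have hd0 : 0 < d := Nat.gcd_pos_of_pos_left _ hM0
  have hord : orderOf (QuotientGroup.mk x : Matrix.ProjectiveSpecialLinearGroup (Fin n) F) = M / d := by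
    refine Nat.dvd_antisymm ?_ ?_
    · rw [orderOf_dvd_iff_pow_eq_one, hx]
      obtain ⟨w, hw⟩ := Nat.gcd_dvd_right M (Fintype.card F - 1)
      refine ⟨w, ?_⟩
      conv_lhs => rw [hw]
      rw [← mul_assoc, Nat.div_mul_cancel (Nat.gcd_dvd_left M _)]
    · have h1 := (hx _).1 (pow_orderOf_eq_one _)
      exact Nat.Coprime.dvd_of_dvd_mul_right (Nat.coprime_div_gcd_div_gcd hd0)
        ((Nat.mul_dvd_mul_iff_left hd0).1 (by
          rw [Nat.mul_div_cancel' (Nat.gcd_dvd_left M _), mul_left_comm,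
            Nat.mul_div_cancel' (Nat.gcd_dvd_right M _)]
          exact h1))
  obtain ⟨w, hw⟩ := hm
  have hw0 : w ≠ 0 := by
    rintro rfl
    rw [mul_zero] at hw
    rw [hw] at hord
    exact (orderOf_pos _).ne' hord
  exact ⟨_, by rw [orderOf_pow_of_dvd hw0 (hord ▸ hw ▸ dvd_mul_left _ _), hord, hw,
    Nat.mul_div_cancel _ (Nat.pos_of_ne_zero hw0)]⟩

theorem dvd_of_elt [NeZero n] {r : ℕ} (hr : r.Prime) (hn2 : 2 ≤ n)
    (hord : orderOf ((Fintype.card F : ℕ) : ZMod r) = n) {M m : ℕ}
    (hM : M * (Fintype.card F - 1) = Fintype.card F ^ n - 1) (hrm : r ∣ m)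
    {g : Matrix.ProjectiveSpecialLinearGroup (Fin n) F} (hg : orderOf g = m) :
    m ∣ M / Nat.gcd M (Fintype.card F - 1) := by
  classical
  have hq := Fintype.one_lt_card (α := F)
  haveI := Fact.mk hr
  have hcop : r.Coprime (Fintype.card F - 1) :=
    coprime_of_not_dvd hr (not_dvd_sub_one (hord ▸ hn2))
  have hm0 : 0 < m := hg ▸ orderOf_pos g
  obtain ⟨x, rfl⟩ := QuotientGroup.mk_surjective g
  obtain ⟨t, rfl⟩ := hrm
  have hyr : ((QuotientGroup.mk x : Matrix.ProjectiveSpecialLinearGroup (Fin n) F) ^ t) ^ r = 1 := by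
    rw [← pow_mul, mul_comm t r, ← hg, pow_orderOf_eq_one]
  obtain ⟨y, hy, hyx⟩ := exists_lift_coprime (center_pow_card_sub_one (F := F) (n := n)) hcop
    (by omega) hyr
  have hy1 : y ≠ 1 := by
    rintro rfl
    have h5 := orderOf_dvd_of_pow_eq_one hyx.symm
    rw [hg] at h5
    have ht0 : 0 < t := Nat.pos_of_ne_zero fun e => by rw [e, mul_zero] at hm0; omega
    have := Nat.le_of_dvd ht0 h5
    have := hr.two_le
    nlinarith
  have hc : Commute x y := by
    refine commute_of_mk_coprime (center_pow_card_sub_one (F := F) (n := n)) hcop hy ?_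
    rw [hyx]
    exact Commute.self_pow _ t
  let φ := slToGL n F
  let u : Module.End F (Fin n → F) := ((φ y).toLinearMap)
  let xe : Module.End F (Fin n → F) := ((φ x).toLinearMap)
  have hur : u ^ r = 1 := LinearMap.ext fun v => by
    rw [pow_apply_toLinearMap, ← map_pow, hy, map_one]; rfl
  have hu1 : u ≠ 1 := fun e => hy1 (slToGL_injective (by
    rw [map_one]; exact LinearEquiv.ext fun v => LinearMap.congr_fun e v))
  have hfin : finrank F (Fin n → F) = n := finrank_fin_fun F
  obtain ⟨hfield, hcard⟩ := Lib.Singer.exists_field_centralizer hr (by omega) (hord.trans hfin.symm)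
    u hur hu1
  set C := Subalgebra.centralizer F ({u} : Set (Module.End F (Fin n → F))) with hC
  letI : Field C := hfield.toField
  have hxC : xe ∈ C := by
    rw [hC, Subalgebra.mem_centralizer_iff]
    rintro _ rfl
    exact LinearMap.ext fun v => commute_apply ((hc.map φ).eq.symm) v
  have huC : u ∈ C := by
    rw [hC, Subalgebra.mem_centralizer_iff]
    rintro _ rfl
    rfl
  haveI : Finite (Fin n → F) := inferInstance
  haveI : Finite (Module.End F (Fin n → F)) :=
    Finite.of_injective (fun g : Module.End F (Fin n → F) => (g : (Fin n → F) → (Fin n → F)))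
      DFunLike.coe_injective
  haveI : Finite C := Finite.of_injective Subtype.val Subtype.val_injective
  haveI : Fintype C := Fintype.ofFinite C
  -- the field has full degree
  obtain ⟨v0, hv0⟩ := exists_ne (0 : Fin n → F)
  let ev : C →ₗ[F] (Fin n → F) :=
    { toFun := fun c => (c : Module.End F (Fin n → F)) v0
      map_add' := fun _ _ => rfl
      map_smul' := fun _ _ => rfl }
  have hev : Function.Injective ev := by
    rw [injective_iff_map_eq_zero]
    intro c hc0
    by_contra hcne
    obtain ⟨c', hc'⟩ := hfield.mul_inv_cancel hcne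
    rw [hfield.mul_comm] at hc'
    have := LinearMap.congr_fun (congrArg Subtype.val hc') v0
    exact hv0 (by
      rw [show ((1 : C) : Module.End F (Fin n → F)) v0 = v0 from rfl] at this
      rw [← this]
      show (c' : Module.End F (Fin n → F)) ((c : Module.End F (Fin n → F)) v0) = 0
      rw [show (c : Module.End F (Fin n → F)) v0 = 0 from hc0, map_zero])
  have hCn : finrank F C = n := by
    have hle : finrank F C ≤ n :=
      (LinearMap.finrank_le_finrank_of_injective (f := ev) hev).trans hfin.le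
    have hpos : 0 < finrank F C := finrank_pos
    let uC : C := ⟨u, huC⟩
    have huC0 : uC ≠ 0 := fun e => by
      have h0 : u = 0 := congrArg Subtype.val e
      rw [h0, zero_pow hr.ne_zero] at hur
      exact hv0 (by rw [← Module.End.one_apply (R := F) v0, ← hur]; rfl)
    have ho : orderOf uC = r := orderOf_eq_prime (Subtype.ext hur)
      fun e => hu1 (congrArg Subtype.val e)
    have h5 : r ∣ Fintype.card F ^ finrank F C - 1 := by
      rw [← Module.card_eq_pow_finrank (K := F) (V := C), ← ho]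
      exact orderOf_dvd_of_pow_eq_one (FiniteField.pow_card_sub_one_eq_one uC huC0)
    have := Nat.le_of_dvd hpos (dvd_pow_sub_one_iff.1 h5)
    omega
  let evE : C ≃ₗ[F] (Fin n → F) := LinearEquiv.ofInjectiveOfFinrankEq ev hev (hCn.trans hfin.symm)
  let xC : C := ⟨xe, hxC⟩
  have hnorm : Algebra.norm F xC = 1 := by
    have e : xe = (evE : C →ₗ[F] (Fin n → F)) ∘ₗ (Algebra.lmul F C xC) ∘ₗ
        (evE.symm : (Fin n → F) →ₗ[F] C) := by
      refine LinearMap.ext fun v => ?_
      obtain ⟨c, rfl⟩ := evE.surjective v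
      simp only [LinearMap.comp_apply, LinearEquiv.coe_coe, LinearEquiv.symm_apply_apply]
      rfl
    have h1 : LinearMap.det xe = 1 := by
      have : xe = Matrix.toLin' (x : Matrix (Fin n) (Fin n) F) := LinearMap.ext fun v => rfl
      rw [this, LinearMap.det_toLin']; exact x.2
    rw [Algebra.norm_apply, ← LinearMap.det_conj _ evE, ← h1, e]
  have hxM : xC ^ M = 1 := by
    have h1 := FiniteField.algebraMap_norm_eq_pow (K := F) (K' := C) (x := xC)
    rw [hnorm, map_one, Nat.card_eq_fintype_card, Nat.card_eq_fintype_card,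
      Module.card_eq_pow_finrank (K := F) (V := C), hCn, ← hM,
      Nat.mul_div_cancel _ (by omega)] at h1
    exact h1.symm
  set d := Nat.gcd M (Fintype.card F - 1) with hd
  rw [← hg, orderOf_dvd_iff_pow_eq_one, ← QuotientGroup.mk_pow, QuotientGroup.eq_one_iff,
    Subgroup.mem_center_iff]
  have hz : (xC ^ (M / d)) ^ (Fintype.card F - 1) = 1 := by
    obtain ⟨w, hw⟩ := Nat.gcd_dvd_right M (Fintype.card F - 1)
    rw [← hd] at hw
    rw [← pow_mul, hw, ← mul_assoc, Nat.div_mul_cancel (Nat.gcd_dvd_left M _), pow_mul, hxM, one_pow]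
  obtain ⟨c, hcx⟩ := eq_algebraMap_of_pow (F := F) hz
  have hsc : ∀ v, φ (x ^ (M / d)) v = c • v := fun v => by
    have h1 : (((xC ^ (M / d) : C) : Module.End F (Fin n → F))) v = c • v := by rw [← hcx]; rfl
    rw [map_pow, ← pow_apply_toLinearMap, ← h1]
    rfl
  intro g
  refine slToGL_injective ?_
  rw [map_mul, map_mul]
  refine LinearEquiv.ext fun v => ?_
  rw [LinearEquiv.mul_apply, LinearEquiv.mul_apply, hsc, hsc, map_smul]


/-- Let q be an odd prime power, n ≥ 4 even, and L = PSL(n,q). Then L has an element of order q^(n/2) + 1 if and only if the 2-part of n exceeds the 2-part of q − 1. -/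
theorem result {F : Type*} [Field F] [Fintype F] {q : ℕ} (hF : Fintype.card F = q) (hodd : Odd q)
    {n : ℕ} (hn : 4 ≤ n) (heven : Even n) :
    (∃ g : Matrix.ProjectiveSpecialLinearGroup (Fin n) F, orderOf g = q ^ (n / 2) + 1) ↔
      padicValNat 2 (q - 1) < padicValNat 2 n := by
  haveI : NeZero n := ⟨by omega⟩
  obtain ⟨p, hp⟩ := CharP.exists F
  haveI : Fact p.Prime := ⟨CharP.char_is_prime F p⟩
  obtain ⟨h, rfl⟩ := heven.two_dvd
  subst hF
  have hq := Fintype.one_lt_card (α := F)
  rw [Nat.mul_div_cancel_left h (by norm_num)]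
  obtain ⟨M, hM, hgcd, hiff, -⟩ := gcd_arith (q := Fintype.card F) (h := h) hq (by omega)
  rw [← dvd_half_iff (by omega) (by omega), ← hiff, ← hgcd]
  constructor
  · rintro ⟨g, hg⟩
    obtain ⟨r, hr, hro⟩ := Lib.NumberTheory.exists_primitive_prime (q := Fintype.card F) (n := 2 * h)
      hq (by omega) (fun e => by rw [e.1] at hodd; exact absurd hodd (by decide)) (fun e => by omega)
    haveI := Fact.mk hr
    refine dvd_of_elt hr (by omega) hro hM ?_ hg
    rw [← ZMod.natCast_eq_zero_iff, Nat.cast_add, Nat.cast_pow, Nat.cast_one]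
    have h2 : (((Fintype.card F : ℕ) : ZMod r) ^ h) ^ 2 = 1 := by
      rw [← pow_mul, mul_comm, ← hro, pow_orderOf_eq_one]
    rw [(sq_eq_one_iff.1 h2).resolve_left fun h1 => by
      have := Nat.le_of_dvd (by omega) (orderOf_dvd_of_pow_eq_one h1)
      omega, neg_add_cancel]
  · exact exists_elt (p := p) hM

end Cfsg.Agent.S2495
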