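import Cfsg.Statements.S2496
import Cfsg.Agent.Lib.LinearOrders.UnitHalfTorus83
import Cfsg.Agent.Lib.NumberTheory.Zsigmondy
import Cfsg.Agent.S2495

set_option autoImplicit false
open Cfsg

namespace Cfsg.Agent.S2496

open Cfsg.Agent.Lib.LinearOrders

theorem arith {q h : ℕ} (hq : 2 ≤ q) (hh : 1 ≤ h) :
    ∃ M : ℕ, M * (q + 1) = q ^ (2 * h) - 1 ∧
      ((if Even h then q ^ h + 1 else q ^ h - 1) ∣ M / Nat.gcd M (q + 1) ↔
        Nat.gcd (2 * h) (q + 1) ∣ h) := by
  obtain ⟨k, hk⟩ := Nat.even_or_odd' h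
  obtain ⟨A, hA⟩ : ∃ A, A = ∑ i ∈ Finset.range k, (q ^ 2) ^ i := ⟨_, rfl⟩
  obtain ⟨a, rfl⟩ : ∃ a, q = a + 1 := ⟨q - 1, by omega⟩
  have hAq : A * ((a + 1) ^ 2 - 1) + 1 = ((a + 1) ^ 2) ^ k := by
    rw [hA, geom_sum_mul_of_one_le (Nat.one_le_pow 2 _ (by omega)) k]
    exact Nat.sub_add_cancel (Nat.one_le_pow _ _ (Nat.pos_of_ne_zero (by simp)))
  have h2 : 1 ≤ (a + 1) ^ 2 := Nat.one_le_pow 2 _ (by omega)
  zify [h2] at hAq
  have hcast : ∀ d, d ∣ a + 1 + 1 → (((a : ℕ) : ZMod d) + 1 = -1) ∧ ((A : ℕ) : ZMod d) = k := by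
    intro d hd
    have hm : ((a : ℕ) : ZMod d) + 1 = -1 := by
      have := (ZMod.natCast_eq_zero_iff (a + 1 + 1) d).2 hd
      push_cast at this
      linear_combination this
    refine ⟨hm, ?_⟩
    rw [hA]
    push_cast
    simp [hm]
  -- the two factors
  obtain ⟨S, t, ht, hSe, hS⟩ : ∃ S t : ℕ, t = (if Even h then (a + 1) ^ h + 1 else (a + 1) ^ h - 1) ∧
      t * (S * (a + 1 + 1)) + 1 = (a + 1) ^ (2 * h) ∧
      ∀ d, d ∣ a + 1 + 1 → ((S : ZMod d) = h ∧ (t : ZMod d) = -2 ∨ (S : ZMod d) = -h ∧ (t : ZMod d) = 2) := by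
    rcases hk with rfl | rfl
    · refine ⟨a * A, _, rfl, ?_, fun d hd => Or.inr ?_⟩
      · rw [if_pos (even_two_mul k)]
        zify
        rw [show ((a : ℤ) + 1) ^ (2 * k) = (((a : ℤ) + 1) ^ 2) ^ k from pow_mul _ _ _,
          show ((a : ℤ) + 1) ^ (2 * (2 * k)) = ((((a : ℤ) + 1) ^ 2) ^ k) ^ 2 by
            rw [← pow_mul, ← pow_mul]; ring_nf, ← hAq]
        ring
      · obtain ⟨hm, hA'⟩ := hcast d hd
        have ha : (a : ZMod d) = -2 := by linear_combination hm
        rw [if_pos (even_two_mul k)]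
        refine ⟨?_, ?_⟩
        · push_cast
          rw [hA', ha]
          ring
        · push_cast
          rw [hm, (even_two_mul k).neg_one_pow]
          norm_num
    · refine ⟨1 + (a + 1) * a * A, _, rfl, ?_, fun d hd => Or.inl ?_⟩
      · rw [if_neg (Nat.not_even_iff_odd.2 (odd_two_mul_add_one k))]
        zify [Nat.one_le_pow (2 * k + 1) (a + 1) (by omega)]
        rw [show ((a : ℤ) + 1) ^ (2 * k + 1) = (((a : ℤ) + 1) ^ 2) ^ k * ((a : ℤ) + 1) by
            rw [← pow_mul, pow_succ],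
          show ((a : ℤ) + 1) ^ (2 * (2 * k + 1)) = ((((a : ℤ) + 1) ^ 2) ^ k) ^ 2 * ((a : ℤ) + 1) ^ 2 by
            rw [← pow_mul, ← pow_mul, ← pow_add]; ring_nf, ← hAq]
        ring
      · obtain ⟨hm, hA'⟩ := hcast d hd
        have ha : (a : ZMod d) = -2 := by linear_combination hm
        rw [if_neg (Nat.not_even_iff_odd.2 (odd_two_mul_add_one k))]
        refine ⟨?_, ?_⟩
        · push_cast
          rw [hA', ha]
          ring
        · rw [Nat.cast_sub (Nat.one_le_pow _ _ (by omega))]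
          push_cast
          rw [hm, (odd_two_mul_add_one k).neg_one_pow]
          norm_num
  have keyS : ∀ d, d ∣ a + 1 + 1 → (d ∣ S ↔ d ∣ h) := by
    intro d hd
    rw [← ZMod.natCast_eq_zero_iff, ← ZMod.natCast_eq_zero_iff h d]
    rcases hS d hd with ⟨e, -⟩ | ⟨e, -⟩ <;> simp [e]
  have keyM : ∀ d, d ∣ a + 1 + 1 → (d ∣ t * S ↔ d ∣ 2 * h) := by
    intro d hd
    rw [← ZMod.natCast_eq_zero_iff, ← ZMod.natCast_eq_zero_iff (2 * h) d]
    rcases hS d hd with ⟨e, e'⟩ | ⟨e, e'⟩ <;> simp [e, e']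
  refine ⟨t * S, by rw [mul_assoc]; omega, ?_⟩
  have hg : Nat.gcd (t * S) (a + 1 + 1) = Nat.gcd (2 * h) (a + 1 + 1) :=
    Nat.dvd_antisymm
      (Nat.dvd_gcd ((keyM _ (Nat.gcd_dvd_right _ _)).1 (Nat.gcd_dvd_left _ _)) (Nat.gcd_dvd_right _ _))
      (Nat.dvd_gcd ((keyM _ (Nat.gcd_dvd_right _ _)).2 (Nat.gcd_dvd_left _ _)) (Nat.gcd_dvd_right _ _))
  have ht0 : 0 < t := by
    rcases Nat.eq_zero_or_pos t with h0 | h0
    · have : 1 < (a + 1) ^ (2 * h) := Nat.one_lt_pow (by omega) (by omega)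
      rw [h0, zero_mul] at hSe
      omega
    · exact h0
  rw [← ht, Nat.dvd_div_iff_mul_dvd (Nat.gcd_dvd_left _ _), mul_comm (Nat.gcd _ _),
    Nat.mul_dvd_mul_iff_left ht0, hg]
  exact keyS _ (Nat.gcd_dvd_right _ _)

theorem exists_prime {q h : ℕ} (hq : 3 ≤ q) (hh : 2 ≤ h) :
    ∃ r : ℕ, r.Prime ∧ orderOf (-(q : ZMod r)) = 2 * h ∧ r ∣ (if Even h then q ^ h + 1 else q ^ h - 1) := by
  rcases Nat.even_or_odd h with he | ho
  · obtain ⟨r, hr, hro⟩ := Lib.NumberTheory.exists_primitive_prime (q := q) (n := 2 * h) (by omega) (by omega)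
      (fun e => by omega) (fun e => by omega)
    haveI := Fact.mk hr
    have hh1 : (q : ZMod r) ^ h = -1 := by
      have h2 : ((q : ZMod r) ^ h) ^ 2 = 1 := by rw [← pow_mul, mul_comm, ← hro, pow_orderOf_eq_one]
      refine (sq_eq_one_iff.1 h2).resolve_left fun h1 => ?_
      have := Nat.le_of_dvd (by omega) (orderOf_dvd_of_pow_eq_one h1)
      omega
    refine ⟨r, hr, ?_, ?_⟩
    · refine Nat.dvd_antisymm (orderOf_dvd_of_pow_eq_one ?_) ?_
      · rw [(even_two_mul h).neg_pow, ← hro, pow_orderOf_eq_one]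
      · set k := orderOf (-(q : ZMod r)) with hk
        have h1 : (-(q : ZMod r)) ^ k = 1 := pow_orderOf_eq_one _
        have h2 : 2 * h ∣ 2 * k := by
          rw [← hro]
          apply orderOf_dvd_of_pow_eq_one
          rw [← (even_two_mul k).neg_pow, mul_comm, pow_mul, h1, one_pow]
        obtain ⟨j, hj⟩ := (Nat.mul_dvd_mul_iff_left two_pos).1 h2
        rw [hj, pow_mul, he.neg_pow, hh1] at h1
        rcases Nat.even_or_odd j with ⟨i, rfl⟩ | hjo
        · exact ⟨i, by rw [hj]; ring⟩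
        · rw [hjo.neg_one_pow] at h1
          exfalso
          have h3 : (2 : ZMod r) = 0 := by linear_combination -h1
          have h4 : r ∣ 2 := (ZMod.natCast_eq_zero_iff 2 r).1 h3
          obtain rfl : r = 2 := (Nat.prime_dvd_prime_iff_eq hr Nat.prime_two).1 h4
          have := orderOf_le_card_univ (x := (q : ZMod 2))
          rw [hro, ZMod.card] at this
          omega
    · rw [if_pos he, ← ZMod.natCast_eq_zero_iff]
      push_cast
      rw [hh1]; ring
  · obtain ⟨r, hr, hro⟩ := Lib.NumberTheory.exists_primitive_prime (q := q) (n := h) (by omega) hh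
      (fun e => by omega) (fun e => by rcases e with ⟨rfl, -⟩; exact absurd ho (by decide))
    haveI := Fact.mk hr
    have hh1 : (q : ZMod r) ^ h = 1 := by rw [← hro, pow_orderOf_eq_one]
    refine ⟨r, hr, ?_, ?_⟩
    · refine Nat.dvd_antisymm (orderOf_dvd_of_pow_eq_one ?_) ?_
      · rw [(even_two_mul h).neg_pow, mul_comm, pow_mul, hh1, one_pow]
      · set k := orderOf (-(q : ZMod r)) with hk
        have h1 : (-(q : ZMod r)) ^ k = 1 := pow_orderOf_eq_one _
        have h2 : h ∣ 2 * k := by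
          rw [← hro]
          apply orderOf_dvd_of_pow_eq_one
          rw [← (even_two_mul k).neg_pow, mul_comm, pow_mul, h1, one_pow]
        have h3 : h ∣ k := (Nat.Coprime.dvd_of_dvd_mul_left (ho.coprime_two_right) h2)
        obtain ⟨j, hj⟩ := h3
        rw [hj, pow_mul, ho.neg_pow, hh1] at h1
        rcases Nat.even_or_odd j with ⟨i, rfl⟩ | hjo
        · exact ⟨i, by rw [hj]; ring⟩
        · rw [hjo.neg_one_pow] at h1
          exfalso
          have h3 : (2 : ZMod r) = 0 := by linear_combination -h1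
          have h4 : r ∣ 2 := (ZMod.natCast_eq_zero_iff 2 r).1 h3
          obtain rfl : r = 2 := (Nat.prime_dvd_prime_iff_eq hr Nat.prime_two).1 h4
          have := orderOf_le_card_univ (x := (q : ZMod 2))
          rw [hro, ZMod.card] at this
          rcases ho with ⟨i, rfl⟩; omega
    · rw [if_neg (Nat.not_even_iff_odd.2 ho), ← ZMod.natCast_eq_zero_iff,
        Nat.cast_sub (Nat.one_le_pow _ _ (by omega))]
      push_cast
      rw [hh1]; ring

/-- Let q be an odd prime power, n ≥ 4 even, and U = PSU(n,q) (realised over the field with q² elements). Then U has an element of order q^(n/2) + (−1)^(n/2) — that is, q^(n/2) + 1 when n/2 is even and q^(n/2) − 1 when n/2 is odd — if and only if the 2-part of n exceeds the 2-part of q + 1. -/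
theorem result {F : Type*} [Field F] [Fintype F] {q : ℕ} (hF : Fintype.card F = q ^ 2) (hodd : Odd q)
    {n : ℕ} (hn : 4 ≤ n) (heven : Even n) :
    (∃ g : Cfsg.PSU n F q, orderOf g = if Even (n / 2) then q ^ (n / 2) + 1 else q ^ (n / 2) - 1) ↔
      padicValNat 2 (q + 1) < padicValNat 2 n := by
  obtain ⟨h, rfl⟩ := heven.two_dvd
  have hq : 2 ≤ q := Cfsg.Agent.Lib.Unitary.one_lt_q hF
  have hq3 : 3 ≤ q := by
    rcases hodd with ⟨j, rfl⟩; omega
  rw [Nat.mul_div_cancel_left h (by norm_num)]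
  obtain ⟨M, hM, hiff⟩ := arith (q := q) (h := h) hq (by omega)
  rw [← S2495.dvd_half_iff (by omega) (by omega), ← hiff]
  constructor
  · rintro ⟨g, hg⟩
    obtain ⟨r, hr, hord, hrt⟩ := exists_prime (q := q) (h := h) hq3 (by omega)
    haveI := Fact.mk hr
    rw [← hg]
    refine orderOf_dvd_of_pow_eq_one (HalfTorus83.pow_eq_one_of_dvd hF (by omega) (even_two_mul h) hord hM ?_ g
      (hg ▸ hrt))
    obtain ⟨w, hw⟩ := Nat.gcd_dvd_right M (q + 1)
    refine ⟨w, ?_⟩
    calc (q + 1) * (M / M.gcd (q + 1)) = (M.gcd (q + 1) * w) * (M / M.gcd (q + 1)) := by rw [← hw]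
      _ = (M.gcd (q + 1) * (M / M.gcd (q + 1))) * w := by ring
      _ = M * w := by rw [Nat.mul_div_cancel' (Nat.gcd_dvd_left M _)]
  · intro hd
    exact Lib.OrderSets.omega_of_dvd (HalfTorus83.exists_half_torus hF (by omega) rfl hM) hd

end Cfsg.Agent.S2496
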