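import Cfsg.Statements.S2505
import Mathlib

set_option autoImplicit false
open Cfsg

namespace Cfsg.Agent.S2505

open Equiv

/-- The largest order of an abelian permutation group of degree `n`. -/
def bd : ℕ → ℕ
  | 0 => 1
  | 1 => 1
  | 2 => 2
  | 3 => 3
  | 4 => 4
  | n + 5 => 3 * bd (n + 2)

theorem bd_add (n : ℕ) (hn : 2 ≤ n) : bd (n + 3) = 3 * bd n := by
  rcases n with _ | _ | n
  · omega
  · omega
  · rfl

theorem mul_bd_le : ∀ N a m : ℕ, a + m = N → 1 ≤ a → a * bd m ≤ bd N := by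
  intro N
  induction N using Nat.strong_induction_on with
  | _ N ih =>
  intro a m hN ha
  by_cases h5 : 5 ≤ a
  · obtain ⟨c, rfl⟩ : ∃ c, a = c + 3 := ⟨a - 3, by omega⟩
    have h1 := ih (c + m) (by omega) c m rfl (by omega)
    rw [← hN, show c + 3 + m = (c + m) + 3 by omega, bd_add _ (by omega)]
    nlinarith [Nat.mul_le_mul_right (bd m) (show c + 3 ≤ 3 * c by omega)]
  by_cases h5' : 5 ≤ m
  · obtain ⟨c, rfl⟩ : ∃ c, m = c + 3 := ⟨m - 3, by omega⟩
    have h1 := ih (a + c) (by omega) a c rfl ha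
    rw [← hN, show a + (c + 3) = (a + c) + 3 by omega, bd_add _ (by omega), bd_add _ (by omega)]
    nlinarith
  subst hN
  interval_cases a <;> interval_cases m <;> decide

theorem bd_formulas (j : ℕ) :
    bd (3 * (j + 1)) = 3 ^ (j + 1) ∧ bd (3 * (j + 1) + 1) = 4 * 3 ^ j ∧
      bd (3 * (j + 1) + 2) = 2 * 3 ^ (j + 1) := by
  induction j with
  | zero => decide
  | succ j ih =>
    obtain ⟨h1, h2, h3⟩ := ih
    refine ⟨?_, ?_, ?_⟩
    · rw [show 3 * (j + 1 + 1) = 3 * (j + 1) + 3 by omega, bd_add _ (by omega), h1]; ring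
    · rw [show 3 * (j + 1 + 1) + 1 = 3 * (j + 1) + 1 + 3 by omega, bd_add _ (by omega), h2]; ring
    · rw [show 3 * (j + 1 + 1) + 2 = 3 * (j + 1) + 2 + 3 by omega, bd_add _ (by omega), h3]; ring

theorem card_le_bd {α : Type*} [Fintype α] [DecidableEq α] :
    ∀ (n : ℕ) (s : Finset α) (A : Subgroup (Perm α)), s.card = n → IsMulCommutative A →
      (∀ σ ∈ A, ∀ x ∉ s, σ x = x) → Nat.card A ≤ bd n := by
  intro n
  induction n using Nat.strong_induction_on with
  | _ n ih =>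
  intro s A hn hA hfix
  classical
  by_cases hs : s = ∅
  · subst hs
    have : A = ⊥ := (Subgroup.eq_bot_iff_forall A).mpr fun σ hσ =>
      Equiv.ext fun x => hfix σ hσ x (Finset.notMem_empty x)
    rw [this, Subgroup.card_bot, ← hn, Finset.card_empty]
    decide
  obtain ⟨a, ha⟩ := Finset.nonempty_iff_ne_empty.mpr hs
  set O : Finset α := Finset.univ.filter fun x => ∃ σ ∈ A, σ a = x with hO
  have hmemO : ∀ x, x ∈ O ↔ ∃ σ ∈ A, σ a = x := fun x => by simp [hO]
  have haO : a ∈ O := (hmemO a).mpr ⟨1, one_mem A, rfl⟩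
  have hOs : O ⊆ s := by
    intro x hx
    obtain ⟨σ, hσ, rfl⟩ := (hmemO _).mp hx
    by_contra hns
    have h1 : σ (σ a) = σ a := hfix σ hσ _ hns
    exact hns (by rwa [σ.injective h1])
  have hinv : ∀ σ ∈ A, ∀ x, σ x ∈ O ↔ x ∈ O := by
    intro σ hσ x
    constructor
    · intro h
      obtain ⟨τ, hτ, h⟩ := (hmemO _).mp h
      exact (hmemO _).mpr ⟨σ⁻¹ * τ, mul_mem (inv_mem hσ) hτ, by
        rw [Perm.mul_apply, h]; exact σ.symm_apply_apply x⟩
    · intro h
      obtain ⟨τ, hτ, rfl⟩ := (hmemO _).mp h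
      exact (hmemO _).mpr ⟨σ * τ, mul_mem hσ hτ, rfl⟩
  have hinvs : ∀ σ : A, ∀ x, (σ : Perm α) x ∉ O ↔ x ∉ O := fun σ x => not_congr (hinv σ σ.2 x)
  let res : A →* Perm α :=
    { toFun := fun σ => Perm.ofSubtype ((σ : Perm α).subtypePerm (p := fun x => x ∉ O) (hinvs σ))
      map_one' := by
        refine Equiv.ext fun x => ?_
        by_cases hx : x ∉ O
        · rw [Perm.ofSubtype_apply_of_mem (p := fun x => x ∉ O) _ hx]; rfl
        · rw [Perm.ofSubtype_apply_of_not_mem (p := fun x => x ∉ O) _ hx]; rfl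
      map_mul' := fun σ τ => by
        rw [← map_mul]
        congr 1 }
  have hres : ∀ (σ : A) x, x ∉ O → res σ x = (σ : Perm α) x := fun σ x hx =>
    Perm.ofSubtype_apply_of_mem (p := fun x => x ∉ O) _ hx
  have hres' : ∀ (σ : A) x, x ∈ O → res σ x = x := fun σ x hx =>
    Perm.ofSubtype_apply_of_not_mem (p := fun x => x ∉ O) _ (not_not.mpr hx)
  have hOpos : 0 < O.card := Finset.card_pos.mpr ⟨a, haO⟩
  have hrc : IsMulCommutative res.range := ⟨⟨fun x y => by
    obtain ⟨_, σ, rfl⟩ := x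
    obtain ⟨_, τ, rfl⟩ := y
    exact Subtype.ext (by
      show res σ * res τ = res τ * res σ
      rw [← map_mul, ← map_mul, mul_comm']) ⟩⟩
  have hOn : O.card ≤ n := hn ▸ Finset.card_le_card hOs
  have hrange := ih (n - O.card) (by omega) (s \ O) res.range
    (by rw [Finset.card_sdiff_of_subset hOs, hn]) hrc (by
      rintro _ ⟨σ, rfl⟩ x hx
      by_cases hxO : x ∈ O
      · exact hres' σ x hxO
      · rw [hres σ x hxO]
        exact hfix σ σ.2 x fun hxs => hx (Finset.mem_sdiff.mpr ⟨hxs, hxO⟩))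
  have hker : Nat.card res.ker ≤ O.card := by
    rw [← Fintype.card_coe O, ← Nat.card_eq_fintype_card]
    refine Nat.card_le_card_of_injective
      (fun σ => (⟨((σ : A) : Perm α) a, (hmemO _).mpr ⟨_, (σ : A).2, rfl⟩⟩ : O)) fun σ τ h => ?_
    refine Subtype.ext (Subtype.ext (Equiv.ext fun x => ?_))
    have hval : ((σ : A) : Perm α) a = ((τ : A) : Perm α) a := congrArg Subtype.val h
    by_cases hx : x ∈ O
    · obtain ⟨ρ, hρ, rfl⟩ := (hmemO _).mp hx
      have hc : ∀ θ : A, (θ : Perm α) (ρ a) = ρ ((θ : Perm α) a) := fun θ =>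
        Equiv.ext_iff.mp (congrArg Subtype.val (mul_comm' θ ⟨ρ, hρ⟩)) a
      rw [hc, hc, hval]
    · have h1 := Equiv.ext_iff.mp (MonoidHom.mem_ker.mp σ.2) x
      have h2 := Equiv.ext_iff.mp (MonoidHom.mem_ker.mp τ.2) x
      rw [hres _ _ hx] at h1 h2
      rw [h1, h2]
  rw [Subgroup.card_eq_card_quotient_mul_card_subgroup res.ker,
    Nat.card_congr (QuotientGroup.quotientKerEquivRange res).toEquiv, mul_comm]
  exact (Nat.mul_le_mul hker hrange).trans (mul_bd_le n _ _ (by omega) hOpos)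

theorem exists_card_eq_bd : ∀ n : ℕ,
    ∃ A : Subgroup (Perm (Fin n)), IsMulCommutative A ∧ Nat.card A = bd n := by
  intro n
  induction n using Nat.strong_induction_on with
  | _ n ih =>
  by_cases h5 : n ≤ 4
  · by_cases h2 : 2 ≤ n
    · refine ⟨Subgroup.zpowers (finRotate n), inferInstance, ?_⟩
      rw [Nat.card_zpowers, (isCycle_finRotate_of_le h2).orderOf, support_finRotate_of_le h2,
        Finset.card_univ, Fintype.card_fin]
      interval_cases n <;> rfl
    · refine ⟨⊥, inferInstance, ?_⟩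
      rw [Subgroup.card_bot]
      interval_cases n <;> rfl
  · obtain ⟨m, rfl⟩ : ∃ m, n = m + 5 := ⟨n - 5, by omega⟩
    obtain ⟨A, hA, hAc⟩ := ih (m + 2) (by omega)
    let C : Subgroup (Perm (Fin 3)) := Subgroup.zpowers (finRotate 3)
    have hC : Nat.card C = 3 := by
      rw [Nat.card_zpowers, (isCycle_finRotate_of_le (by norm_num)).orderOf,
        support_finRotate_of_le (by norm_num), Finset.card_univ, Fintype.card_fin]
    let e : Fin 3 ⊕ Fin (m + 2) ≃ Fin (m + 5) := finSumFinEquiv.trans (finCongr (by omega))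
    let f : Perm (Fin 3) × Perm (Fin (m + 2)) →* Perm (Fin (m + 5)) :=
      e.permCongrHom.toMonoidHom.comp (Perm.sumCongrHom (Fin 3) (Fin (m + 2)))
    have hf : Function.Injective f :=
      e.permCongrHom.injective.comp Perm.sumCongrHom_injective
    refine ⟨(C.prod A).map f, ?_, ?_⟩
    · refine ⟨⟨fun x y => ?_⟩⟩
      obtain ⟨_, u, hu, rfl⟩ := x
      obtain ⟨_, w, hw, rfl⟩ := y
      refine Subtype.ext ?_
      show f u * f w = f w * f u
      rw [← map_mul, ← map_mul]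
      congr 1
      exact Prod.ext (congrArg Subtype.val (mul_comm' (⟨u.1, hu.1⟩ : C) ⟨w.1, hw.1⟩))
        (congrArg Subtype.val (mul_comm' (⟨u.2, hu.2⟩ : A) ⟨w.2, hw.2⟩))
    · rw [Subgroup.card_map_of_injective hf,
        Nat.card_congr (Subgroup.prodEquiv C A).toEquiv, Nat.card_prod, hC, hAc]
      rfl

theorem isGreatest_bd (n : ℕ) :
    IsGreatest {c : ℕ | ∃ A : Subgroup (Perm (Fin n)), IsMulCommutative A ∧ Nat.card A = c}
      (bd n) :=
  ⟨exists_card_eq_bd n, by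
    rintro _ ⟨A, hA, rfl⟩
    exact card_le_bd n Finset.univ A (by simp) hA fun _ _ x hx => absurd (Finset.mem_univ x) hx⟩

/-- The largest order of an abelian subgroup of the symmetric group of degree n is 3^k when n = 3k, 4·3^(k−1) when n = 3k + 1, and 2·3^k when n = 3k + 2, for every k ≥ 1. -/
theorem result (k : ℕ) (hk : 1 ≤ k) :
    IsGreatest {c : ℕ | ∃ A : Subgroup (Equiv.Perm (Fin (3 * k))), IsMulCommutative A ∧ Nat.card A = c} (3 ^ k) ∧
    IsGreatest {c : ℕ | ∃ A : Subgroup (Equiv.Perm (Fin (3 * k + 1))), IsMulCommutative A ∧ Nat.card A = c}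
      (4 * 3 ^ (k - 1)) ∧
    IsGreatest {c : ℕ | ∃ A : Subgroup (Equiv.Perm (Fin (3 * k + 2))), IsMulCommutative A ∧ Nat.card A = c}
      (2 * 3 ^ k) := by
  obtain ⟨j, rfl⟩ : ∃ j, k = j + 1 := ⟨k - 1, by omega⟩
  obtain ⟨h1, h2, h3⟩ := bd_formulas j
  rw [Nat.add_sub_cancel]
  exact ⟨h1 ▸ isGreatest_bd _, h2 ▸ isGreatest_bd _, h3 ▸ isGreatest_bd _⟩

end Cfsg.Agent.S2505
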