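import Cfsg.Statements.S2504
import Cfsg.Agent.S2505
-- import your own Cfsg.Agent.* helpers here

set_option autoImplicit false
open Cfsg

namespace Cfsg.Agent.S2504

open Equiv
open Cfsg.Agent.S2505 (bd bd_add card_le_bd bd_formulas mul_bd_le)

/-- The bound in degree `3 k + 2`. -/
def bAlt (n : ℕ) : ℕ := 16 * 3 ^ ((n - 8) / 3)

theorem bAlt_add (n : ℕ) (hn : 8 ≤ n) : bAlt (n + 3) = 3 * bAlt n := by
  rw [bAlt, bAlt, show n + 3 - 8 = n - 8 + 3 by omega, Nat.add_div_right _ (by norm_num), pow_succ]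
  ring

theorem mul_bd_le_bAlt : ∀ N a m : ℕ, a + m = N → N % 3 = 2 → 8 ≤ N → 1 ≤ a → a ≠ 2 → a ≠ 3 →
    a * bd m ≤ bAlt N := by
  intro N
  induction N using Nat.strong_induction_on with
  | _ N ih =>
  intro a m hN h3 h8 ha ha2 ha3
  by_cases hN11 : 11 ≤ N
  · by_cases hm : 5 ≤ m
    · obtain ⟨c, rfl⟩ : ∃ c, m = c + 3 := ⟨m - 3, by omega⟩
      have h1 := ih (a + c) (by omega) a c rfl (by omega) (by omega) ha ha2 ha3
      rw [← hN, show a + (c + 3) = (a + c) + 3 by omega, bd_add _ (by omega),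
        bAlt_add _ (by omega)]
      nlinarith
    · obtain ⟨c, rfl⟩ : ∃ c, a = c + 3 := ⟨a - 3, by omega⟩
      have h1 := ih (c + m) (by omega) c m rfl (by omega) (by omega) (by omega) (by omega) (by omega)
      rw [← hN, show c + 3 + m = (c + m) + 3 by omega, bAlt_add _ (by omega)]
      nlinarith [Nat.mul_le_mul_right (bd m) (show c + 3 ≤ 3 * c by omega)]
  · obtain rfl : N = 8 := by omega
    obtain rfl : m = 8 - a := by omega
    have : a ≤ 8 := by omega
    interval_cases a <;> first | omega | decide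

section Bound

variable {α : Type*} [Fintype α] [DecidableEq α]

theorem card_le_mul_bd (A : Subgroup (Perm α)) (hA : IsMulCommutative A) (O : Finset α)
    (hinv : ∀ σ ∈ A, ∀ x, σ x ∈ O ↔ x ∈ O) {c : ℕ}
    (hker : Nat.card {σ : A // ∀ x ∉ O, (σ : Perm α) x = x} ≤ c) :
    Nat.card A ≤ c * bd (Fintype.card α - O.card) := by
  classical
  have hinvs : ∀ σ : A, ∀ x, (σ : Perm α) x ∉ O ↔ x ∉ O := fun σ x => not_congr (hinv σ σ.2 x)
  let res : A →* Perm α :=
    { toFun := fun σ => Perm.ofSubtype ((σ : Perm α).subtypePerm (p := fun x => x ∉ O) (hinvs σ))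
      map_one' := by
        refine Equiv.ext fun x => ?_
        by_cases hx : x ∉ O
        · rw [Perm.ofSubtype_apply_of_mem (p := fun x => x ∉ O) _ hx]; rfl
        · rw [Perm.ofSubtype_apply_of_not_mem (p := fun x => x ∉ O) _ hx]; rfl
      map_mul' := fun σ τ => by
        rw [← map_mul]
        congr 1 }
  have hres : ∀ (σ : A) x, x ∉ O → res σ x = (σ : Perm α) x := fun σ x hx =>
    Perm.ofSubtype_apply_of_mem (p := fun x => x ∉ O) _ hx
  have hres' : ∀ (σ : A) x, x ∈ O → res σ x = x := fun σ x hx =>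
    Perm.ofSubtype_apply_of_not_mem (p := fun x => x ∉ O) _ (not_not.mpr hx)
  have hrc : IsMulCommutative res.range := ⟨⟨fun x y => by
    obtain ⟨_, σ, rfl⟩ := x
    obtain ⟨_, τ, rfl⟩ := y
    exact Subtype.ext (by
      show res σ * res τ = res τ * res σ
      rw [← map_mul, ← map_mul, mul_comm']) ⟩⟩
  have hrange := card_le_bd (Fintype.card α - O.card) (Finset.univ \ O) res.range
    (by rw [Finset.card_sdiff_of_subset (Finset.subset_univ O), Finset.card_univ]) hrc (by
      rintro _ ⟨σ, rfl⟩ x hx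
      exact hres' σ x (by simpa using hx))
  have hk : Nat.card res.ker ≤ c := by
    refine le_trans ?_ hker
    refine Nat.card_le_card_of_injective
      (fun σ => (⟨σ.1, fun x hx => ?_⟩ : {σ : A // ∀ x ∉ O, (σ : Perm α) x = x})) fun σ τ h => ?_
    · rw [← hres σ.1 x hx, MonoidHom.mem_ker.mp σ.2]; rfl
    · exact Subtype.ext (congrArg (fun z : {σ : A // ∀ x ∉ O, (σ : Perm α) x = x} => z.1) h)
  rw [Subgroup.card_eq_card_quotient_mul_card_subgroup res.ker,
    Nat.card_congr (QuotientGroup.quotientKerEquivRange res).toEquiv, mul_comm]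
  exact Nat.mul_le_mul hk hrange

/-- The orbit of `a` under `A`. -/
noncomputable def orb (A : Subgroup (Perm α)) (a : α) : Finset α :=
  letI := Classical.decPred fun x => ∃ σ ∈ A, σ a = x
  Finset.univ.filter fun x => ∃ σ ∈ A, σ a = x

theorem mem_orb {A : Subgroup (Perm α)} {a x : α} : x ∈ orb A a ↔ ∃ σ ∈ A, σ a = x := by
  simp [orb]

theorem mem_orb_self (A : Subgroup (Perm α)) (a : α) : a ∈ orb A a :=
  mem_orb.2 ⟨1, one_mem A, rfl⟩

theorem orb_invariant {A : Subgroup (Perm α)} {a : α} {σ : Perm α} (hσ : σ ∈ A) (x : α) :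
    σ x ∈ orb A a ↔ x ∈ orb A a := by
  simp only [mem_orb]
  constructor
  · rintro ⟨τ, hτ, h⟩
    exact ⟨σ⁻¹ * τ, mul_mem (inv_mem hσ) hτ, by rw [Perm.mul_apply, h]; exact σ.symm_apply_apply x⟩
  · rintro ⟨τ, hτ, rfl⟩
    exact ⟨σ * τ, mul_mem hσ hτ, rfl⟩

theorem orb_eq_of_mem {A : Subgroup (Perm α)} {a x : α} (h : x ∈ orb A a) : orb A x = orb A a := by
  obtain ⟨τ, hτ, rfl⟩ := mem_orb.1 h
  ext y
  simp only [mem_orb]
  constructor
  · rintro ⟨σ, hσ, rfl⟩
    exact ⟨σ * τ, mul_mem hσ hτ, rfl⟩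
  · rintro ⟨σ, hσ, rfl⟩
    exact ⟨σ * τ⁻¹, mul_mem hσ (inv_mem hτ), by rw [Perm.mul_apply]; exact congrArg σ (τ.symm_apply_apply a)⟩

theorem determined {A : Subgroup (Perm α)} (hA : IsMulCommutative A) {a : α} (σ τ : A)
    (h : (σ : Perm α) a = (τ : Perm α) a) {x : α} (hx : x ∈ orb A a) :
    (σ : Perm α) x = (τ : Perm α) x := by
  obtain ⟨ρ, hρ, rfl⟩ := mem_orb.1 hx
  have hc : ∀ θ : A, (θ : Perm α) (ρ a) = ρ ((θ : Perm α) a) := fun θ =>
    Equiv.ext_iff.mp (congrArg Subtype.val (mul_comm' θ ⟨ρ, hρ⟩)) a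
  rw [hc, hc, h]

theorem pow_three_fix {A : Subgroup (Perm α)} (hA : IsMulCommutative A) {x : α}
    (h : (orb A x).card = 3) {σ : Perm α} (hσ : σ ∈ A) : (σ ^ 3) x = x := by
  letI : CommGroup A := { (inferInstance : Group A) with mul_comm := fun u v => mul_comm' u v }
  have horb : Nat.card (MulAction.orbit A x) = 3 := by
    rw [← h, ← Fintype.card_coe, ← Nat.card_eq_fintype_card]
    refine Nat.card_congr (Equiv.subtypeEquivRight fun y => ?_)
    rw [mem_orb, MulAction.mem_orbit_iff]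
    exact ⟨fun ⟨g, hg⟩ => ⟨g.1, g.2, hg⟩, fun ⟨g, hg, e⟩ => ⟨⟨g, hg⟩, e⟩⟩
  have hi : (MulAction.stabilizer A x).index = 3 := by
    rw [Subgroup.index, ← horb]
    exact (Nat.card_congr (MulAction.orbitEquivQuotientStabilizer A x)).symm
  have := Subgroup.pow_index_mem (MulAction.stabilizer A x) (⟨σ, hσ⟩ : A)
  rw [hi, MulAction.mem_stabilizer_iff] at this
  exact this

theorem card_le_bAlt (A : Subgroup (Perm α)) (hA : IsMulCommutative A)
    (hev : ∀ σ ∈ A, Perm.sign σ = 1) (h3 : Fintype.card α % 3 = 2) (h8 : 8 ≤ Fintype.card α) :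
    Nat.card A ≤ bAlt (Fintype.card α) := by
  classical
  by_cases hall : ∀ a, (orb A a).card = 2 ∨ (orb A a).card = 3
  swap
  · simp only [not_forall, not_or] at hall
    obtain ⟨a, ha2, ha3⟩ := hall
    have hpos : 0 < (orb A a).card := Finset.card_pos.2 ⟨a, mem_orb_self A a⟩
    have hle : (orb A a).card ≤ Fintype.card α := Finset.card_le_univ _
    refine (card_le_mul_bd A hA (orb A a) (fun σ hσ => orb_invariant hσ) (c := (orb A a).card) ?_).trans
      (mul_bd_le_bAlt _ _ _ (by omega) h3 h8 hpos ha2 ha3)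
    rw [← Fintype.card_coe (orb A a), ← Nat.card_eq_fintype_card]
    refine Nat.card_le_card_of_injective
      (fun σ => (⟨((σ.1 : A) : Perm α) a, mem_orb.2 ⟨_, σ.1.2, rfl⟩⟩ : orb A a)) fun σ τ h => ?_
    refine Subtype.ext (Subtype.ext (Equiv.ext fun x => ?_))
    by_cases hx : x ∈ orb A a
    · exact determined hA _ _ (congrArg Subtype.val h) hx
    · rw [σ.2 x hx, τ.2 x hx]
  by_cases htwo : ∃ a b, (orb A a).card = 2 ∧ (orb A b).card = 2 ∧ b ∉ orb A a
  · obtain ⟨a, b, ha, hb, hab⟩ := htwo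
    have hdisj : Disjoint (orb A a) (orb A b) := by
      rw [Finset.disjoint_left]
      intro x hxa hxb
      exact hab (by rw [← orb_eq_of_mem hxa, orb_eq_of_mem hxb]; exact mem_orb_self A b)
    have hcard : (orb A a ∪ orb A b).card = 4 := by
      rw [Finset.card_union_of_disjoint hdisj, ha, hb]
    refine (card_le_mul_bd A hA (orb A a ∪ orb A b) (fun σ hσ x => by
      simp only [Finset.mem_union, orb_invariant hσ]) (c := 2 * 2) ?_).trans ?_
    · refine le_of_le_of_eq (b := (orb A a).card * (orb A b).card) ?_ (by rw [ha, hb])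
      rw [← Fintype.card_coe (orb A a), ← Fintype.card_coe (orb A b), ← Fintype.card_prod,
        ← Nat.card_eq_fintype_card]
      refine Nat.card_le_card_of_injective
        (fun σ => ((⟨((σ.1 : A) : Perm α) a, mem_orb.2 ⟨_, σ.1.2, rfl⟩⟩,
          ⟨((σ.1 : A) : Perm α) b, mem_orb.2 ⟨_, σ.1.2, rfl⟩⟩) : orb A a × orb A b)) fun σ τ h => ?_
      refine Subtype.ext (Subtype.ext (Equiv.ext fun x => ?_))
      by_cases hx : x ∈ orb A a ∪ orb A b
      · rcases Finset.mem_union.1 hx with hx | hx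
        · exact determined hA _ _ (congrArg Subtype.val (congrArg Prod.fst h)) hx
        · exact determined hA _ _ (congrArg Subtype.val (congrArg Prod.snd h)) hx
      · rw [σ.2 x hx, τ.2 x hx]
    · obtain ⟨j, hj⟩ : ∃ j, Fintype.card α = 3 * (j + 2) + 2 :=
        ⟨(Fintype.card α - 8) / 3, by omega⟩
      rw [hcard, show Fintype.card α - 4 = 3 * (j + 1) + 1 by omega, (bd_formulas j).2.1,
        bAlt, show (Fintype.card α - 8) / 3 = j by omega]
      exact le_of_eq (by ring)
  exfalso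
  simp only [not_exists, not_and, not_not] at htwo
  by_cases hone : ∃ a, (orb A a).card = 2
  · obtain ⟨a, ha⟩ := hone
    obtain ⟨b, hb, hba⟩ := Finset.exists_mem_ne (by omega : 1 < (orb A a).card) a
    obtain ⟨σ, hσ, hσa⟩ := mem_orb.1 hb
    have hab : orb A a = {a, b} := by
      refine (Finset.eq_of_subset_of_card_le ?_ (by rw [ha, Finset.card_pair hba.symm])).symm
      intro x hx
      rcases Finset.mem_insert.1 hx with rfl | hx
      · exact mem_orb_self A _
      · rw [Finset.mem_singleton.1 hx]; exact hb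
    have hσb : σ b = a := by
      have : σ b ∈ orb A a := (orb_invariant hσ b).2 hb
      rw [hab, Finset.mem_insert, Finset.mem_singleton] at this
      refine this.resolve_right fun e => hba (σ.injective (by rw [e, hσa]))
    have hsw : σ ^ 3 = Equiv.swap a b := by
      refine Equiv.ext fun x => ?_
      by_cases hx : x ∈ orb A a
      · rw [hab, Finset.mem_insert, Finset.mem_singleton] at hx
        rcases hx with rfl | rfl <;>
          simp [pow_succ, hσa, hσb]
      · rw [Equiv.swap_apply_of_ne_of_ne (fun e : x = a => hx (e ▸ mem_orb_self A a))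
          (fun e : x = b => hx (e ▸ hb))]
        refine pow_three_fix hA ((hall x).resolve_left fun h2 => hx (htwo a x ha h2)) hσ
    have h1 := hev _ (pow_mem hσ 3)
    rw [hsw, Perm.sign_swap hba.symm] at h1
    exact absurd h1 (by decide)
  · simp only [not_exists] at hone
    have h33 : ∀ a, (orb A a).card = 3 := fun a => (hall a).resolve_left (hone a)
    have hsum := Finset.card_eq_sum_card_fiberwise (f := orb A) (s := (Finset.univ : Finset α))
      (t := Finset.univ.image (orb A)) (fun x _ => Finset.mem_image_of_mem _ (Finset.mem_univ x))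
    rw [Finset.sum_congr rfl (g := fun _ => 3), Finset.sum_const, smul_eq_mul, Finset.card_univ]
      at hsum
    · omega
    · intro o ho
      obtain ⟨a, -, rfl⟩ := Finset.mem_image.1 ho
      rw [← h33 a]
      congr 1
      ext x
      simp only [Finset.mem_filter, Finset.mem_univ, true_and]
      exact ⟨fun e => e ▸ mem_orb_self A x, orb_eq_of_mem⟩

end Bound

/-- An abelian group of even permutations of degree `n` and order `c`. -/
def EvenAbelian (n c : ℕ) : Prop :=
  ∃ A : Subgroup (Perm (Fin n)), IsMulCommutative A ∧ (∀ σ ∈ A, Perm.sign σ = 1) ∧ Nat.card A = c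

theorem EvenAbelian.add {m l c d : ℕ} (h : EvenAbelian m c) (h' : EvenAbelian l d) :
    EvenAbelian (m + l) (c * d) := by
  obtain ⟨A, hA, hAe, hAc⟩ := h
  obtain ⟨B, hB, hBe, hBc⟩ := h'
  let f : Perm (Fin m) × Perm (Fin l) →* Perm (Fin (m + l)) :=
    finSumFinEquiv.permCongrHom.toMonoidHom.comp (Perm.sumCongrHom (Fin m) (Fin l))
  have hf : Function.Injective f :=
    finSumFinEquiv.permCongrHom.injective.comp Perm.sumCongrHom_injective
  refine ⟨(A.prod B).map f, ⟨⟨?_⟩⟩, ?_, ?_⟩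
  · intro x y
    obtain ⟨_, u, hu, rfl⟩ := x
    obtain ⟨_, w, hw, rfl⟩ := y
    refine Subtype.ext ?_
    show f u * f w = f w * f u
    rw [← map_mul, ← map_mul]
    congr 1
    exact Prod.ext (congrArg Subtype.val (mul_comm' (⟨u.1, hu.1⟩ : A) ⟨w.1, hw.1⟩))
      (congrArg Subtype.val (mul_comm' (⟨u.2, hu.2⟩ : B) ⟨w.2, hw.2⟩))
  · rintro _ ⟨u, hu, rfl⟩
    show Perm.sign (finSumFinEquiv.permCongr (Perm.sumCongr u.1 u.2)) = 1
    rw [Perm.sign_permCongr, Perm.sign_sumCongr, hAe _ hu.1, hBe _ hu.2, one_mul]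
  · rw [Subgroup.card_map_of_injective hf, Nat.card_congr (Subgroup.prodEquiv A B).toEquiv,
      Nat.card_prod, hAc, hBc]

theorem evenAbelian_three : EvenAbelian 3 3 := by
  refine ⟨Subgroup.zpowers (finRotate 3), inferInstance, ?_, ?_⟩
  · rintro σ ⟨i, rfl⟩
    show Perm.sign (finRotate 3 ^ i) = 1
    rw [map_zpow, show Perm.sign (finRotate 3) = 1 by decide, one_zpow]
  · rw [Nat.card_zpowers, (isCycle_finRotate_of_le (by norm_num)).orderOf,
      support_finRotate_of_le (by norm_num), Finset.card_univ, Fintype.card_fin]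

/-- The four-group in degree four. -/
def four : Finset (Perm (Fin 4)) :=
  {1, swap 0 1 * swap 2 3, swap 0 2 * swap 1 3, swap 0 3 * swap 1 2}

theorem evenAbelian_four : EvenAbelian 4 4 := by
  have hmul : ∀ a ∈ four, ∀ b ∈ four, a * b ∈ four := by decide
  have hinv : ∀ a ∈ four, a⁻¹ ∈ four := by decide
  have hcomm : ∀ a ∈ four, ∀ b ∈ four, a * b = b * a := by decide
  have hsign : ∀ a ∈ four, Perm.sign a = 1 := by decide
  have hone : (1 : Perm (Fin 4)) ∈ four := by decide
  refine ⟨⟨⟨⟨(four : Set (Perm (Fin 4))), fun {a b} ha hb => hmul a ha b hb⟩, hone⟩,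
    fun {a} ha => hinv a ha⟩, ⟨⟨fun x y => Subtype.ext (hcomm _ x.2 _ y.2)⟩⟩, fun σ hσ => hsign σ hσ,
    ?_⟩
  show Nat.card (four : Set (Perm (Fin 4))) = 4
  rw [Nat.card_coe_set_eq, Set.ncard_coe_finset]
  decide

theorem EvenAbelian.threes {n c : ℕ} (h : EvenAbelian n c) :
    ∀ j, EvenAbelian (n + 3 * j) (c * 3 ^ j) := by
  intro j
  induction j with
  | zero => simpa using h
  | succ j ih =>
    have := ih.add evenAbelian_three
    rw [show n + 3 * (j + 1) = n + 3 * j + 3 by ring, pow_succ, ← mul_assoc]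
    exact this

theorem isGreatest_alt {n b : ℕ} (hex : EvenAbelian n b)
    (hle : ∀ A : Subgroup (Perm (Fin n)), IsMulCommutative A → (∀ σ ∈ A, Perm.sign σ = 1) →
      Nat.card A ≤ b) :
    IsGreatest {c : ℕ | ∃ A : Subgroup (alternatingGroup (Fin n)), IsMulCommutative A ∧
      Nat.card A = c} b := by
  constructor
  · obtain ⟨A, hA, hAe, hAc⟩ := hex
    have hle' : A ≤ alternatingGroup (Fin n) := fun σ hσ => Perm.mem_alternatingGroup.2 (hAe σ hσ)
    refine ⟨A.subgroupOf (alternatingGroup (Fin n)), ⟨⟨fun x y => ?_⟩⟩, ?_⟩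
    · refine Subtype.ext (Subtype.ext ?_)
      exact (congrArg Subtype.val (mul_comm' (⟨x.1.1, x.2⟩ : A) ⟨y.1.1, y.2⟩) :)
    · rw [Nat.card_congr (Subgroup.subgroupOfEquivOfLe hle').toEquiv, hAc]
  · rintro _ ⟨A, hA, rfl⟩
    rw [Nat.card_congr (Subgroup.equivMapOfInjective A (alternatingGroup (Fin n)).subtype
      (Subgroup.subtype_injective _)).toEquiv]
    refine hle _ ⟨⟨fun x y => ?_⟩⟩ ?_
    · obtain ⟨_, u, hu, rfl⟩ := x
      obtain ⟨_, w, hw, rfl⟩ := y
      exact Subtype.ext (congrArg (fun z : A => ((z : alternatingGroup (Fin n)) : Perm (Fin n)))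
        (mul_comm' (⟨u, hu⟩ : A) ⟨w, hw⟩))
    · rintro _ ⟨u, hu, rfl⟩
      exact Perm.mem_alternatingGroup.1 u.2


/-- The largest order of an abelian subgroup of the alternating group of degree n is 3^k when n = 3k, 4·3^(k−1) when n = 3k + 1, and 16·3^(k−2) when n = 3k + 2, for every k ≥ 2 (so for all degrees n ≥ 6). -/
theorem result (k : ℕ) (hk : 2 ≤ k) :
    IsGreatest {c : ℕ | ∃ A : Subgroup (alternatingGroup (Fin (3 * k))), IsMulCommutative A ∧ Nat.card A = c} (3 ^ k) ∧
    IsGreatest {c : ℕ | ∃ A : Subgroup (alternatingGroup (Fin (3 * k + 1))), IsMulCommutative A ∧ Nat.card A = c}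
      (4 * 3 ^ (k - 1)) ∧
    IsGreatest {c : ℕ | ∃ A : Subgroup (alternatingGroup (Fin (3 * k + 2))), IsMulCommutative A ∧ Nat.card A = c}
      (16 * 3 ^ (k - 2)) := by
  have hle : ∀ n, ∀ A : Subgroup (Equiv.Perm (Fin n)), IsMulCommutative A → Nat.card A ≤ bd n :=
    fun n A hA => card_le_bd n Finset.univ A (by simp) hA fun _ _ x hx =>
      absurd (Finset.mem_univ x) hx
  obtain ⟨j, rfl⟩ : ∃ j, k = j + 2 := ⟨k - 2, by omega⟩
  obtain ⟨h1, h2, -⟩ := bd_formulas (j + 1)
  refine ⟨isGreatest_alt ?_ (fun A hA _ => h1 ▸ hle _ A hA),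
    isGreatest_alt ?_ (fun A hA _ => (h2 ▸ hle _ A hA :)), isGreatest_alt ?_ fun A hA hev => ?_⟩
  · have := evenAbelian_three.threes (j + 1)
    rwa [show 3 + 3 * (j + 1) = 3 * (j + 2) by ring, ← pow_succ'] at this
  · have := evenAbelian_four.threes (j + 1)
    rwa [show 4 + 3 * (j + 1) = 3 * (j + 2) + 1 by ring] at this
  · have := (evenAbelian_four.add evenAbelian_four).threes j
    rw [show 4 + 4 + 3 * j = 3 * (j + 2) + 2 by ring, show 4 * 4 = 16 by norm_num] at this
    simpa using this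
  · have := card_le_bAlt A hA hev (by simp) (by simp; omega)
    rw [Fintype.card_fin, bAlt, show (3 * (j + 2) + 2 - 8) / 3 = j by omega] at this
    simpa using this

end Cfsg.Agent.S2504
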