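import Cfsg.Statements.S2506
import Cfsg.Agent.Lib.MaxAbelianAlt.Conjugate
-- import your own Cfsg.Agent.* helpers here

set_option autoImplicit false
open scoped Pointwise
open Cfsg

namespace Cfsg.Agent.S2506

open Equiv

theorem small_comm : ∀ n ≤ 3, ∀ x y : alternatingGroup (Fin n), x * y = y * x := by
  intro n hn
  interval_cases n <;> decide +kernel

theorem five_orders : ∀ σ : Perm (Fin 5), Perm.sign σ = 1 → σ ^ 6 = 1 → σ ^ 2 = 1 ∨ σ ^ 3 = 1 := by
  decide +kernel

theorem card_five (A : Subgroup (alternatingGroup (Fin 5))) (hA : IsMulCommutative A)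
    (hmax : ∀ C : Subgroup (alternatingGroup (Fin 5)), IsMulCommutative C →
      Nat.card C ≤ Nat.card A) : Nat.card A = 5 := by
  have h60 : Nat.card (alternatingGroup (Fin 5)) = 60 := by
    rw [Nat.card_eq_fintype_card]
    decide +kernel
  haveI : Fact (Nat.Prime 5) := ⟨by norm_num⟩
  obtain ⟨g, hg⟩ := exists_prime_orderOf_dvd_card' (G := alternatingGroup (Fin 5)) 5
    (by rw [h60]; norm_num)
  have h5 := hmax (Subgroup.zpowers g) inferInstance
  rw [Nat.card_zpowers, hg] at h5
  have hmc : IsMulCommutative (A.map (alternatingGroup (Fin 5)).subtype) := ⟨⟨fun x y => by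
    obtain ⟨_, u, hu, rfl⟩ := x
    obtain ⟨_, w, hw, rfl⟩ := y
    exact Subtype.ext (congrArg (fun z : A => ((z : alternatingGroup (Fin 5)) : Perm (Fin 5)))
      (mul_comm' (⟨u, hu⟩ : A) ⟨w, hw⟩))⟩⟩
  have h6 := S2505.card_le_bd 5 Finset.univ (A.map (alternatingGroup (Fin 5)).subtype) (by simp) hmc
    fun _ _ x hx => absurd (Finset.mem_univ x) hx
  rw [← Nat.card_congr (Subgroup.equivMapOfInjective A (alternatingGroup (Fin 5)).subtype
    (Subgroup.subtype_injective _)).toEquiv, show S2505.bd 5 = 6 from rfl] at h6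
  by_contra h
  have h66 : Nat.card A = 6 := by omega
  haveI : Fact (Nat.Prime 2) := ⟨Nat.prime_two⟩
  haveI : Fact (Nat.Prime 3) := ⟨Nat.prime_three⟩
  obtain ⟨a, ha⟩ := exists_prime_orderOf_dvd_card' (G := A) 2 (by rw [h66]; norm_num)
  obtain ⟨b, hb⟩ := exists_prime_orderOf_dvd_card' (G := A) 3 (by rw [h66]; norm_num)
  have hab : orderOf (a * b) = 6 := by
    rw [Commute.orderOf_mul_eq_mul_orderOf_of_coprime (show Commute a b from mul_comm' a b)
      (by rw [ha, hb]; decide), ha, hb]
  have horder : orderOf (((a * b : A) : alternatingGroup (Fin 5)) : Perm (Fin 5)) = 6 := by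
    rw [Subgroup.orderOf_coe, Subgroup.orderOf_coe, hab]
  rcases five_orders _ (Perm.mem_alternatingGroup.1 (Subtype.coe_prop _))
      (horder ▸ pow_orderOf_eq_one _) with e | e <;>
    have := orderOf_dvd_of_pow_eq_one e <;> rw [horder] at this <;> norm_num at this

theorem conj_five (A B : Subgroup (alternatingGroup (Fin 5))) (hA : Nat.card A = 5)
    (hB : Nat.card B = 5) : ∃ g : alternatingGroup (Fin 5), B = MulAut.conj g • A := by
  haveI : Fact (Nat.Prime 5) := ⟨by norm_num⟩
  have h60 : Nat.card (alternatingGroup (Fin 5)) = 60 := by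
    rw [Nat.card_eq_fintype_card]
    decide +kernel
  have hfac : (Nat.card (alternatingGroup (Fin 5))).factorization 5 = 1 := by
    rw [h60, show (60 : ℕ) = 5 * 12 by norm_num, Nat.factorization_mul (by norm_num) (by norm_num),
      Finsupp.add_apply, Nat.Prime.factorization_self (by norm_num),
      Nat.factorization_eq_zero_of_not_dvd (by norm_num)]
  obtain ⟨g, hg⟩ := MulAction.exists_smul_eq (alternatingGroup (Fin 5))
    (Sylow.ofCard A (p := 5) (by rw [hfac, pow_one, hA]))
    (Sylow.ofCard B (p := 5) (by rw [hfac, pow_one, hB]))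
  exact ⟨g, (congrArg (fun P : Sylow 5 _ => (P : Subgroup (alternatingGroup (Fin 5)))) hg).symm⟩


/-- In the alternating group of any degree, any two abelian subgroups of the largest possible order (among abelian subgroups) are conjugate. -/
theorem result (n : ℕ)
    (A B : Subgroup (alternatingGroup (Fin n))) (hA : IsMulCommutative A) (hB : IsMulCommutative B)
    (hAmax : ∀ C : Subgroup (alternatingGroup (Fin n)), IsMulCommutative C → Nat.card C ≤ Nat.card A)
    (hBmax : ∀ C : Subgroup (alternatingGroup (Fin n)), IsMulCommutative C → Nat.card C ≤ Nat.card B) :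
    ∃ g : alternatingGroup (Fin n), B = MulAut.conj g • A := by
  by_cases h3 : n ≤ 3
  · have hall : IsMulCommutative (⊤ : Subgroup (alternatingGroup (Fin n))) :=
      ⟨⟨fun x y => Subtype.ext (small_comm n h3 _ _)⟩⟩
    refine ⟨1, ?_⟩
    rw [map_one, one_smul, Subgroup.eq_top_of_le_card A (by simpa using hAmax ⊤ hall),
      Subgroup.eq_top_of_le_card B (by simpa using hBmax ⊤ hall)]
  by_cases h5 : n = 5
  · subst h5
    exact conj_five A B (card_five A hA hAmax) (card_five B hB hBmax)
  let ι := (alternatingGroup (Fin n)).subtype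
  have hι : Function.Injective ι := Subgroup.subtype_injective _
  have hcomm : ∀ X : Subgroup (alternatingGroup (Fin n)), IsMulCommutative X →
      IsMulCommutative (X.map ι) := fun X hX => ⟨⟨fun x y => by
    obtain ⟨_, u, hu, rfl⟩ := x
    obtain ⟨_, w, hw, rfl⟩ := y
    exact Subtype.ext (congrArg (fun z : X => ((z : alternatingGroup (Fin n)) : Equiv.Perm (Fin n)))
      (mul_comm' (⟨u, hu⟩ : X) ⟨w, hw⟩))⟩⟩
  have heven : ∀ (X : Subgroup (alternatingGroup (Fin n))), ∀ σ ∈ X.map ι, Equiv.Perm.sign σ = 1 := by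
    rintro X _ ⟨u, -, rfl⟩
    exact Equiv.Perm.mem_alternatingGroup.1 u.2
  have hmax : ∀ (X : Subgroup (alternatingGroup (Fin n))),
      (∀ C : Subgroup (alternatingGroup (Fin n)), IsMulCommutative C → Nat.card C ≤ Nat.card X) →
      ∀ C : Subgroup (Equiv.Perm (Fin n)), IsMulCommutative C → (∀ σ ∈ C, Equiv.Perm.sign σ = 1) →
        Nat.card C ≤ Nat.card (X.map ι) := by
    intro X hX C hC hCe
    have hle : C ≤ alternatingGroup (Fin n) := fun σ hσ => Equiv.Perm.mem_alternatingGroup.2 (hCe σ hσ)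
    rw [← Nat.card_congr (Subgroup.subgroupOfEquivOfLe hle).toEquiv,
      ← Nat.card_congr (Subgroup.equivMapOfInjective X ι hι).toEquiv]
    refine hX _ ⟨⟨fun x y => Subtype.ext (Subtype.ext ?_)⟩⟩
    exact (congrArg Subtype.val (mul_comm' (⟨x.1.1, x.2⟩ : C) ⟨y.1.1, y.2⟩) :)
  obtain ⟨g, hg, hiff⟩ := Lib.MaxAbelianAlt.exists_even_conj (show n = 4 ∨ 6 ≤ n by omega)
    (hcomm A hA) (hcomm B hB) (heven A) (heven B) (hmax A hAmax) (hmax B hBmax)
  refine ⟨⟨g, Equiv.Perm.mem_alternatingGroup.2 hg⟩, ?_⟩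
  ext x
  rw [Subgroup.mem_pointwise_smul_iff_inv_smul_mem, ← map_inv, MulAut.smul_def,
    MulAut.conj_apply, inv_inv, ← Subgroup.mem_map_iff_mem hι (K := B), hiff,
    ← Subgroup.mem_map_iff_mem hι (K := A)]
  rfl

end Cfsg.Agent.S2506
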