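import Cfsg.Statements.S2510
import Cfsg.Agent.Lib.LinearOrders.Projective

set_option autoImplicit false
open Cfsg Cfsg.Agent.Lib.LinearOrders Cfsg.Agent.Lib.OrderSets

namespace Cfsg.Agent.S2510


open Matrix

theorem corner {K : Type*} [Field K] {n : ℕ} (hn : 1 ≤ n) (A : Matrix (Fin (n - 1)) (Fin (n - 1)) K) :
    ∃ i : Fin n, blockMatHom (Nat.sub_le n 1) A i i = 1 :=
  ⟨(finSumFinEquiv.trans (finCongr (Nat.add_sub_cancel' (Nat.sub_le n 1))))
    (Sum.inr ⟨0, by omega⟩), by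
      simp only [blockMatHom, MonoidHom.coe_mk, OneHom.coe_mk, submatrix_apply, Equiv.symm_apply_apply]
      simp⟩

theorem orderOf_toPSL_unipotent {K : Type*} [Field K] {n : ℕ} (p : ℕ) [Fact p.Prime] [CharP K p]
    (A : Matrix (Fin n) (Fin n) K) {t : ℕ} (hA : A ^ p ^ t = 1)
    (hns : ∀ j, j < t → ¬ ∃ c : K, A ^ p ^ j = Matrix.scalar (Fin n) c) :
    orderOf (toPSL (⟨A, det_eq_one_of_pow_eq_one p A hA⟩ : Matrix.SpecialLinearGroup (Fin n) K)) = p ^ t := by
  set x : Matrix.SpecialLinearGroup (Fin n) K := ⟨A, det_eq_one_of_pow_eq_one p A hA⟩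
  have h1 : (toPSL x) ^ p ^ t = 1 := by
    rw [← map_pow, show x ^ p ^ t = 1 from Subtype.ext hA, map_one]
  obtain ⟨j, hj, hord⟩ := (Nat.dvd_prime_pow Fact.out).1 (orderOf_dvd_of_pow_eq_one h1)
  rcases eq_or_lt_of_le hj with rfl | hlt
  · exact hord
  · exfalso
    apply hns j hlt
    have : (toPSL x) ^ p ^ j = 1 := by rw [← hord, pow_orderOf_eq_one]
    rw [← map_pow, toPSL_eq_one_iff] at this
    exact this

theorem orders_zmod {r m b : ℕ} (hb : b ∈ omega (Multiplicative (Fin m → ZMod r))) : b ∣ r := by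
  obtain ⟨x, rfl⟩ := hb
  apply orderOf_dvd_of_pow_eq_one
  apply Multiplicative.toAdd.injective
  funext i
  simp

theorem lcm_dvd_lcm' {a b c d : ℕ} (h1 : a ∣ c) (h2 : b ∣ d) : Nat.lcm a b ∣ Nat.lcm c d :=
  Nat.lcm_dvd (h1.trans (Nat.dvd_lcm_left _ _)) (h2.trans (Nat.dvd_lcm_right _ _))

theorem mul_mem_omega {G : Type*} [Group G] {g z : G} (h : Commute g z)
    (hco : (orderOf z).Coprime (orderOf g)) : orderOf z * orderOf g ∈ omega G :=
  ⟨z * g, h.symm.orderOf_mul_eq_mul_orderOf_of_coprime hco⟩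

/-- Let F be a finite field with q = p^a elements, n ≥ 2 (with q ≥ 4 when n = 2), L = PSL(n, F), and let r be a prime dividing q − 1 and not dividing n. Then for every m the direct product L × L × L × (ℤ/r)^m has the same set of element orders as L × L × L; and if n − 1 ≠ p^j for every j ≥ 0 (so never when n = 2, since 1 = p^0), then already L × L × (ℤ/r)^m has the same set of element orders as L × L. -/
theorem result {F : Type*} [Field F] [Fintype F] (p a n r m : ℕ) (hp : p.Prime) (ha : 1 ≤ a) (hF : Fintype.card F = p ^ a)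
    (hn : 2 ≤ n) (hn2 : n = 2 → 4 ≤ Fintype.card F) (hr : r.Prime) (hrq : r ∣ Fintype.card F - 1) (hrn : ¬ r ∣ n) :
    Set.range (orderOf : Matrix.ProjectiveSpecialLinearGroup (Fin n) F × Matrix.ProjectiveSpecialLinearGroup (Fin n) F × Matrix.ProjectiveSpecialLinearGroup (Fin n) F × Multiplicative (Fin m → ZMod r) → ℕ) =
      Set.range (orderOf : Matrix.ProjectiveSpecialLinearGroup (Fin n) F × Matrix.ProjectiveSpecialLinearGroup (Fin n) F × Matrix.ProjectiveSpecialLinearGroup (Fin n) F → ℕ) ∧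
    ((¬ ∃ j : ℕ, n - 1 = p ^ j) →
      Set.range (orderOf : Matrix.ProjectiveSpecialLinearGroup (Fin n) F × Matrix.ProjectiveSpecialLinearGroup (Fin n) F × Multiplicative (Fin m → ZMod r) → ℕ) =
        Set.range (orderOf : Matrix.ProjectiveSpecialLinearGroup (Fin n) F × Matrix.ProjectiveSpecialLinearGroup (Fin n) F → ℕ)) := by
  classical
  have : Fact p.Prime := ⟨hp⟩
  have hp0 : (p : F) = 0 := by
    apply eq_zero_of_pow_eq_zero (n := a)
    rw [← Nat.cast_pow, ← hF, FiniteField.cast_card_eq_zero]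
  have : CharP F p := (CharP.charP_iff_prime_eq_zero hp).2 hp0
  have hn1 : 1 ≤ n := by omega
  have hrp : r ≠ p := by
    rintro rfl
    have h2 : r ∣ Fintype.card F := hF ▸ dvd_pow_self r (by omega)
    have h3 := Nat.dvd_sub h2 hrq
    rw [Nat.sub_sub_self (Fintype.card_pos : 0 < Fintype.card F)] at h3
    exact hr.one_lt.ne' (Nat.dvd_one.1 h3)
  set L := Matrix.ProjectiveSpecialLinearGroup (Fin n) F
  obtain ⟨σ, hσp, hσ⟩ := exists_singer (F := F) hn1 p
  set S := orderOf (toPSL σ) with hSdef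
  set P := unipExp p n with hPdef
  have hS : S ∈ omega L := ⟨_, rfl⟩
  have hPL : P ∈ omega L := by
    obtain ⟨A, hA, hA'⟩ := exists_regular_unipotent (F := F) hn1 p
    refine ⟨toPSL ⟨A, det_eq_one_of_pow_eq_one p A hA⟩,
      orderOf_toPSL_unipotent p A hA fun j hj => hA' j ?_⟩
    by_contra hcon
    exact absurd ((Nat.clog_le_iff_le_pow hp.one_lt).2 (not_lt.1 hcon)) (not_le.2 hj)
  have he : ∀ g : Matrix.SpecialLinearGroup (Fin n) F, ∀ e : Matrix (Fin n) (Fin n) F, e * e = e →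
      e ≠ 0 → e ≠ 1 → Commute (g : Matrix (Fin n) (Fin n) F) e → ¬ r ∣ orderOf (toPSL g) →
      r * orderOf (toPSL g) ∈ omega L := by
    intro g e h1 h2 h3 h4 h5
    obtain ⟨z, hz, hzr⟩ := exists_commuting_of_idempotent hn1 hr hrq hrn g e h1 h2 h3 h4
    have := mul_mem_omega hz (by rw [hzr]; exact hr.coprime_iff_not_dvd.2 h5)
    rwa [hzr] at this
  set e₀ : Matrix (Fin n) (Fin n) F := blockMatHom (Nat.sub_le n 1) 0 with he₀
  have he₀e : e₀ * e₀ = e₀ := by rw [he₀, ← map_mul, mul_zero]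
  have he₀0 : e₀ ≠ 0 := by
    intro h
    obtain ⟨i, hi⟩ := corner (K := F) hn1 0
    rw [← he₀, h] at hi
    exact zero_ne_one hi
  have : Nonempty (Fin (n - 1)) := ⟨⟨0, by omega⟩⟩
  have he₀1 : e₀ ≠ 1 := by
    intro h
    rw [he₀, ← map_one (blockMatHom (F := F) (Nat.sub_le n 1))] at h
    exact zero_ne_one (blockMatHom_injective _ h)
  have hrL : r ∈ omega L := by
    have := he 1 e₀ he₀e he₀0 he₀1 (Commute.one_left _)
      (by rw [map_one, orderOf_one, Nat.dvd_one]; exact hr.ne_one)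
    rwa [map_one, orderOf_one, mul_one] at this
  have hrP : (¬ ∃ j : ℕ, n - 1 = p ^ j) → r * P ∈ omega L := by
    intro hnj
    have hclog : Nat.clog p (n - 1) = Nat.clog p n := by
      apply le_antisymm (Nat.clog_mono_right p (Nat.sub_le n 1))
      rw [Nat.clog_le_iff_le_pow hp.one_lt]
      have h1 := Nat.le_pow_clog hp.one_lt (n - 1)
      rcases eq_or_lt_of_le h1 with h | h
      · exact absurd ⟨_, h⟩ hnj
      · omega
    obtain ⟨A, hA, hA'⟩ := exists_regular_unipotent (F := F) (d := n - 1) (by omega) p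
    rw [unipExp, hclog, ← unipExp, ← hPdef] at hA
    set B := blockMatHom (Nat.sub_le n 1) A with hB
    have hB1 : B ^ P = 1 := by rw [hB, ← map_pow, hA, map_one]
    have hBord := orderOf_toPSL_unipotent p B (t := Nat.clog p n) hB1 (fun j hj => by
      rintro ⟨c, hc⟩
      have hjd : p ^ j < n - 1 := by
        by_contra hcon
        rw [← hclog] at hj
        exact absurd ((Nat.clog_le_iff_le_pow hp.one_lt).2 (not_lt.1 hcon)) (not_le.2 hj)
      apply hA' j hjd
      rw [hB, ← map_pow] at hc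
      obtain ⟨i, hi⟩ := corner (K := F) hn1 (A ^ p ^ j)
      rw [hc] at hi
      have hc1 : c = 1 := by simpa using hi
      refine ⟨1, ?_⟩
      rw [map_one]
      apply blockMatHom_injective (Nat.sub_le n 1)
      rw [hc, hc1, map_one, map_one])
    have h := he ⟨B, det_eq_one_of_pow_eq_one p B (i := Nat.clog p n) hB1⟩ e₀ he₀e he₀0 he₀1
      (show Commute B e₀ from ((Commute.zero_right A).map (blockMatHom (Nat.sub_le n 1))))
      (by rw [hBord]; intro hd
          exact hrp ((Nat.prime_dvd_prime_iff_eq hr hp).1 (hr.dvd_of_dvd_pow hd)))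
    rwa [hBord] at h
  have hSP : S.Coprime P := Nat.Coprime.pow_right _ ((hp.coprime_iff_not_dvd.2 hσp).symm)
  have key : ∀ x ∈ omega L, ¬ r ∣ x → r * x ∈ omega L ∨ x ∣ Nat.lcm S P := by
    rintro x ⟨y, rfl⟩ hx
    obtain ⟨g, rfl⟩ := QuotientGroup.mk'_surjective _ y
    rcases exists_idempotent_or_irreducible_minpoly hn1 p
        ((Matrix.SpecialLinearGroup.toGL g) ^ P)
        (not_dvd_orderOf_pow_unipExp hn1 p _) with ⟨e, h1, h2, h3, h4⟩ | hirr
    · exact Or.inl (he g e h1 h2 h3 (h4 _ (by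
        rw [Units.val_pow_eq_pow_val]; exact (Commute.refl _).pow_right P)) hx)
    · right
      have hirr' : Irreducible (minpoly F ((g ^ P : Matrix.SpecialLinearGroup (Fin n) F) : Matrix (Fin n) (Fin n) F)) := by
        simpa [Units.val_pow_eq_pow_val] using hirr
      have h := hσ (g ^ P) hirr'
      rw [map_pow, ← pow_mul, mul_comm] at h
      rw [hSP.lcm_eq_mul]
      exact orderOf_dvd_of_pow_eq_one h
  have fin3 : ∀ x ∈ omega L, ∀ y ∈ omega L, ∀ z ∈ omega L,
      Nat.lcm x (Nat.lcm y z) ∈ omega (L × L × L) :=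
    fun x hx y hy z hz => mem_omega_prod.2 ⟨x, hx, _, mem_omega_prod.2 ⟨y, hy, z, hz, rfl⟩, rfl⟩
  have fin2 : ∀ x ∈ omega L, ∀ y ∈ omega L, Nat.lcm x y ∈ omega (L × L) :=
    fun x hx y hy => mem_omega_prod.2 ⟨x, hx, y, hy, rfl⟩
  have rlcm : ∀ M N : ℕ, ¬ r ∣ N → N ∣ M → r ∣ M → r * N ∣ M := fun M N h h1 h2 =>
    (hr.coprime_iff_not_dvd.2 h).mul_dvd_of_dvd_of_dvd h2 h1
  have lcmb : ∀ N b : ℕ, b ∣ r → Nat.lcm N b = N ∨ (¬ r ∣ N ∧ Nat.lcm N b = r * N) := by
    intro N b hb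
    rcases (Nat.dvd_prime hr).1 hb with rfl | rfl
    · exact Or.inl (Nat.lcm_one_right N)
    · by_cases h : b ∣ N
      · exact Or.inl (Nat.lcm_eq_left_iff_dvd.2 h)
      · exact Or.inr ⟨h, by rw [Nat.lcm_comm, (hr.coprime_iff_not_dvd.2 h).lcm_eq_mul]⟩
  constructor
  · apply Set.Subset.antisymm
    · intro N hN
      obtain ⟨x, hx, N₁, hN₁, rfl⟩ := mem_omega_prod.1 hN
      obtain ⟨y, hy, N₂, hN₂, rfl⟩ := mem_omega_prod.1 hN₁
      obtain ⟨z, hz, b, hb, rfl⟩ := mem_omega_prod.1 hN₂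
      rw [← Nat.lcm_assoc y z b, ← Nat.lcm_assoc x (Nat.lcm y z) b]
      rcases lcmb (Nat.lcm x (Nat.lcm y z)) b (orders_zmod hb) with h | ⟨hrN, h⟩
      · rw [h]; exact fin3 x hx y hy z hz
      · rw [h]
        have hx' : ¬ r ∣ x := fun h => hrN (h.trans (Nat.dvd_lcm_left _ _))
        have hy' : ¬ r ∣ y := fun h => hrN (h.trans ((Nat.dvd_lcm_left _ _).trans (Nat.dvd_lcm_right _ _)))
        have hz' : ¬ r ∣ z := fun h => hrN (h.trans ((Nat.dvd_lcm_right _ _).trans (Nat.dvd_lcm_right _ _)))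
        rcases key x hx hx' with h1 | h1
        · exact omega_of_dvd (fin3 _ h1 y hy z hz) (rlcm _ _ hrN
            (lcm_dvd_lcm' (dvd_mul_left x r) dvd_rfl) ((dvd_mul_right r x).trans (Nat.dvd_lcm_left _ _)))
        rcases key y hy hy' with h2 | h2
        · exact omega_of_dvd (fin3 x hx _ h2 z hz) (rlcm _ _ hrN
            (lcm_dvd_lcm' dvd_rfl (lcm_dvd_lcm' (dvd_mul_left y r) dvd_rfl))
            (((dvd_mul_right r y).trans (Nat.dvd_lcm_left _ _)).trans (Nat.dvd_lcm_right _ _)))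
        rcases key z hz hz' with h3 | h3
        · exact omega_of_dvd (fin3 x hx y hy _ h3) (rlcm _ _ hrN
            (lcm_dvd_lcm' dvd_rfl (lcm_dvd_lcm' dvd_rfl (dvd_mul_left z r)))
            (((dvd_mul_right r z).trans (Nat.dvd_lcm_right _ _)).trans (Nat.dvd_lcm_right _ _)))
        exact omega_of_dvd (fin3 S hS P hPL r hrL) (rlcm _ _ hrN
          ((Nat.lcm_dvd h1 (Nat.lcm_dvd h2 h3)).trans (Nat.lcm_dvd (Nat.dvd_lcm_left _ _)
            ((Nat.dvd_lcm_left _ _).trans (Nat.dvd_lcm_right _ _))))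
          ((Nat.dvd_lcm_right P r).trans (Nat.dvd_lcm_right _ _)))
    · intro N hN
      obtain ⟨x, hx, N', hN', rfl⟩ := mem_omega_prod.1 hN
      obtain ⟨y, hy, z, hz, rfl⟩ := mem_omega_prod.1 hN'
      exact mem_omega_prod.2 ⟨x, hx, _, mem_omega_prod.2 ⟨y, hy, _, mem_omega_prod.2
        ⟨z, hz, 1, one_mem_omega, rfl⟩, rfl⟩, by rw [Nat.lcm_one_right]⟩
  · intro hnj
    apply Set.Subset.antisymm
    · intro N hN
      obtain ⟨x, hx, N', hN', rfl⟩ := mem_omega_prod.1 hN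
      obtain ⟨y, hy, b, hb, rfl⟩ := mem_omega_prod.1 hN'
      rw [← Nat.lcm_assoc x y b]
      rcases lcmb (Nat.lcm x y) b (orders_zmod hb) with h | ⟨hrN, h⟩
      · rw [h]; exact fin2 x hx y hy
      · rw [h]
        have hx' : ¬ r ∣ x := fun h => hrN (h.trans (Nat.dvd_lcm_left _ _))
        have hy' : ¬ r ∣ y := fun h => hrN (h.trans (Nat.dvd_lcm_right _ _))
        rcases key x hx hx' with h1 | h1
        · exact omega_of_dvd (fin2 _ h1 y hy) (rlcm _ _ hrN
            (lcm_dvd_lcm' (dvd_mul_left x r) dvd_rfl) ((dvd_mul_right r x).trans (Nat.dvd_lcm_left _ _)))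
        rcases key y hy hy' with h2 | h2
        · exact omega_of_dvd (fin2 x hx _ h2) (rlcm _ _ hrN
            (lcm_dvd_lcm' dvd_rfl (dvd_mul_left y r)) ((dvd_mul_right r y).trans (Nat.dvd_lcm_right _ _)))
        exact omega_of_dvd (fin2 S hS _ (hrP hnj)) (rlcm _ _ hrN
          ((Nat.lcm_dvd h1 h2).trans (lcm_dvd_lcm' dvd_rfl (dvd_mul_left P r)))
          ((dvd_mul_right r P).trans (Nat.dvd_lcm_right _ _)))
    · intro N hN
      obtain ⟨x, hx, y, hy, rfl⟩ := mem_omega_prod.1 hN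
      exact mem_omega_prod.2 ⟨x, hx, _, mem_omega_prod.2
        ⟨y, hy, 1, one_mem_omega, rfl⟩, by rw [Nat.lcm_one_right]⟩

end Cfsg.Agent.S2510
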