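import Cfsg.Statements.S2511
import Cfsg.Agent.Lib.LinearOrders.UnitClassify

set_option autoImplicit false
open Cfsg

namespace Cfsg.Agent.S2511

open Cfsg.Agent.Lib.LinearOrders Cfsg.Agent.Lib.OrderSets
open Cfsg.Agent.Lib.Unitary (conj)

theorem orders_zmod {r m b : ℕ} (hb : b ∈ omega (Multiplicative (Fin m → ZMod r))) : b ∣ r := by
  obtain ⟨x, rfl⟩ := hb
  apply orderOf_dvd_of_pow_eq_one
  apply Multiplicative.toAdd.injective
  funext i
  simp

theorem lcm_dvd_lcm' {a b c d : ℕ} (h1 : a ∣ c) (h2 : b ∣ d) : Nat.lcm a b ∣ Nat.lcm c d :=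
  Nat.lcm_dvd (h1.trans (Nat.dvd_lcm_left _ _)) (h2.trans (Nat.dvd_lcm_right _ _))

theorem mul_mem_omega {G : Type*} [Group G] {g z : G} (h : Commute g z)
    (hco : (orderOf z).Coprime (orderOf g)) : orderOf z * orderOf g ∈ omega G :=
  ⟨z * g, h.symm.orderOf_mul_eq_mul_orderOf_of_coprime hco⟩

theorem mul_unipExp_mem {F : Type*} [Field F] [Fintype F] {p n q r : ℕ} [Fact p.Prime] [CharP F p]
    (hF : Fintype.card F = q ^ 2) (hn : 2 ≤ n) (hr : r.Prime) (hrq : r ∣ q + 1) (hrn : ¬ r ∣ n)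
    (hrp : r ≠ p) :
    r * unipExp p (n - 1) ∈ omega (Cfsg.PSU n F q) := by
  have hp : p.Prime := Fact.out
  have : Fact r.Prime := ⟨hr⟩
  have hrq2 : r ∣ Fintype.card F - 1 := by
    rw [hF, show q ^ 2 - 1 = (q + 1) * (q - 1) by rw [← Nat.sq_sub_sq, one_pow]]
    exact hrq.mul_right _
  obtain ⟨ζ, hζ, hζ1⟩ := exists_primitive_root hr hrq2
  obtain ⟨t, ht⟩ := hrq
  have hμ : ∀ c : F, c ^ r = 1 → c * c ^ q = 1 := fun c hc => by
    rw [← pow_succ', ht, pow_mul, hc, one_pow]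
  obtain ⟨j, -, hj⟩ := Nat.exists_mul_mod_eq_one_of_coprime
    ((hr.coprime_iff_not_dvd.2 hrn).symm) hr.one_lt
  set c : F := ζ ^ ((r - 1) * j) with hc
  have hcr : c ^ r = 1 := by rw [hc, ← pow_mul, mul_comm, pow_mul, hζ, one_pow]
  have hcn : c ^ n * ζ = 1 := by
    rw [hc, ← pow_mul, show (r - 1) * j * n = (n * j) * (r - 1) by ring, pow_mul]
    have h1 : ζ ^ (n * j) = ζ := by
      rw [← Nat.mod_add_div (n * j) r, hj, pow_add, pow_one, pow_mul, hζ, one_pow, mul_one]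
    rw [h1, ← pow_succ, Nat.sub_add_cancel hr.pos, hζ]
  obtain ⟨A, _, _, _, σ, ℓ, u, hA, hdim, hu, huP, hnu, hud⟩ :=
    exists_unipotent_unitAlg hF p (d := n - 1) (by omega)
  refine exists_psu_order hF (isUnitAlg_prod hF hA (isUnitAlg_self hF)) hn
    (by rw [Module.finrank_prod, hdim, Module.finrank_self]; omega) (algebraMap F A c * u, c * ζ)
    (Prod.ext ?_ ?_) ?_ ?_
  · change algebraMap F A c * u * σ (algebraMap F A c * u) = 1
    rw [map_mul, hA.semilin, mul_mul_mul_comm, hu, mul_one, ← map_mul, hμ c hcr, map_one]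
  · change c * ζ * (c * ζ) ^ q = 1
    exact hμ _ (by rw [mul_pow, hcr, hζ, one_mul])
  · rw [norm_prod_mk, map_mul, Algebra.norm_algebraMap, hdim, hnu, mul_one, Algebra.norm_self,
      MonoidHom.id_apply, ← mul_assoc, ← pow_succ, Nat.sub_add_cancel (by omega : 1 ≤ n), hcn]
  · intro k l hkl
    have e1 : (algebraMap F A c * u) ^ k = algebraMap F A l := congrArg Prod.fst hkl
    have e2 : (c * ζ) ^ k = l := congrArg Prod.snd hkl
    have hc0 : c ≠ 0 := by
      intro h0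
      rw [h0, zero_pow hr.pos.ne'] at hcr
      exact zero_ne_one hcr
    have e3 : u ^ k = algebraMap F A (ζ ^ k) := by
      rw [← e2, mul_pow, mul_pow, ← map_pow, map_mul] at e1
      have h := congrArg (algebraMap F A ((c ^ k)⁻¹) * ·) e1
      simpa only [← mul_assoc, ← map_mul, inv_mul_cancel₀ (pow_ne_zero k hc0), map_one, one_mul] using h
    have hPk := hud k _ e3
    have hP1 : ζ ^ k = 1 := by
      obtain ⟨m, rfl⟩ := hPk
      rw [pow_mul u, huP, one_pow] at e3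
      have : Nontrivial A := Module.nontrivial_of_finrank_pos (R := F) (by rw [hdim]; omega)
      exact (algebraMap F A).injective (by rw [← e3, map_one])
    have hrk : r ∣ k := by
      rw [← orderOf_eq_prime hζ hζ1]
      exact orderOf_dvd_of_pow_eq_one hP1
    exact ((hr.coprime_iff_not_dvd.2 fun h => hrp
      ((Nat.prime_dvd_prime_iff_eq hr hp).1 (hr.dvd_of_dvd_pow h)))).mul_dvd_of_dvd_of_dvd hrk hPk

/-- Let F be a finite field with q² elements, q = p^a, n ≥ 3 with (n, q) ≠ (3, 2), L = PSU(n, q) realised over F, and let r be a prime dividing q + 1 and not dividing n. Then for every m the direct product L × L × L × (ℤ/r)^m has the same set of element orders as L × L × L; and if n − 1 is not a power of p, then already L × L × (ℤ/r)^m has the same set of element orders as L × L. -/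
theorem result {F : Type*} [Field F] [Fintype F] (p a n q r m : ℕ) (hp : p.Prime) (ha : 1 ≤ a) (hq : q = p ^ a) (hF : Fintype.card F = q ^ 2)
    (hn : 3 ≤ n) (hn3 : ¬ (n = 3 ∧ q = 2)) (hr : r.Prime) (hrq : r ∣ q + 1) (hrn : ¬ r ∣ n) :
    Set.range (orderOf : Cfsg.PSU n F q × Cfsg.PSU n F q × Cfsg.PSU n F q × Multiplicative (Fin m → ZMod r) → ℕ) = Set.range (orderOf : Cfsg.PSU n F q × Cfsg.PSU n F q × Cfsg.PSU n F q → ℕ) ∧
    ((¬ ∃ j : ℕ, n - 1 = p ^ j) →
      Set.range (orderOf : Cfsg.PSU n F q × Cfsg.PSU n F q × Multiplicative (Fin m → ZMod r) → ℕ) = Set.range (orderOf : Cfsg.PSU n F q × Cfsg.PSU n F q → ℕ)) := by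
  classical
  have : Fact p.Prime := ⟨hp⟩
  have hp0 : (p : F) = 0 := by
    apply eq_zero_of_pow_eq_zero (n := a * 2)
    rw [← Nat.cast_pow, pow_mul, ← hq, ← hF, FiniteField.cast_card_eq_zero]
  have : CharP F p := (CharP.charP_iff_prime_eq_zero hp).2 hp0
  have hn2 : 2 ≤ n := by omega
  have hrp : r ≠ p := by
    rintro rfl
    have h2 : r ∣ q := hq ▸ dvd_pow_self r (by omega)
    exact hr.one_lt.ne' (Nat.dvd_one.1 ((Nat.dvd_add_right h2).1 hrq))
  set L := Cfsg.PSU n F q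
  obtain ⟨S, hS, hpS, hclass⟩ := psu_classify (n := n) hF p hn2 hr hrq hrn
  set P := unipExp p n with hPdef
  have hPL : P ∈ omega L := by
    obtain ⟨A, _, _, _, σ, ℓ, u, hA, hdim, hu, -, hnu, hud⟩ :=
      exists_unipotent_unitAlg hF p (d := n) (by omega)
    exact exists_psu_order hF hA hn2 hdim u hu hnu hud
  have hrP' := mul_unipExp_mem hF hn2 hr hrq hrn hrp
  have hrL : r ∈ omega L := omega_of_dvd hrP' (dvd_mul_right r _)
  have hrP : (¬ ∃ j : ℕ, n - 1 = p ^ j) → r * P ∈ omega L := by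
    intro hnj
    have hclog : Nat.clog p (n - 1) = Nat.clog p n := by
      apply le_antisymm (Nat.clog_mono_right p (Nat.sub_le n 1))
      rw [Nat.clog_le_iff_le_pow hp.one_lt]
      have h1 := Nat.le_pow_clog hp.one_lt (n - 1)
      rcases eq_or_lt_of_le h1 with h | h
      · exact absurd ⟨_, h⟩ hnj
      · omega
    rwa [unipExp, hclog] at hrP'
  have hSP : S.Coprime P := Nat.Coprime.pow_right _ ((hp.coprime_iff_not_dvd.2 hpS).symm)
  have key : ∀ x ∈ omega L, ¬ r ∣ x → r * x ∈ omega L ∨ x ∣ Nat.lcm S P := by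
    rintro x ⟨y, rfl⟩ hx
    obtain ⟨g, rfl⟩ := QuotientGroup.mk_surjective y
    rcases hclass g with ⟨z, hz, hzr⟩ | h
    · left
      have := mul_mem_omega hz (by rw [hzr]; exact hr.coprime_iff_not_dvd.2 hx)
      rwa [hzr] at this
    · right
      rw [hSP.lcm_eq_mul, mul_comm]
      exact orderOf_dvd_of_pow_eq_one h
  have fin3 : ∀ x ∈ omega L, ∀ y ∈ omega L, ∀ z ∈ omega L,
      Nat.lcm x (Nat.lcm y z) ∈ omega (L × L × L) :=
    fun x hx y hy z hz => mem_omega_prod.2 ⟨x, hx, _, mem_omega_prod.2 ⟨y, hy, z, hz, rfl⟩, rfl⟩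
  have fin2 : ∀ x ∈ omega L, ∀ y ∈ omega L, Nat.lcm x y ∈ omega (L × L) :=
    fun x hx y hy => mem_omega_prod.2 ⟨x, hx, y, hy, rfl⟩
  have rlcm : ∀ M N : ℕ, ¬ r ∣ N → N ∣ M → r ∣ M → r * N ∣ M := fun M N h h1 h2 =>
    (hr.coprime_iff_not_dvd.2 h).mul_dvd_of_dvd_of_dvd h2 h1
  have lcmb : ∀ N b : ℕ, b ∣ r → Nat.lcm N b = N ∨ (¬ r ∣ N ∧ Nat.lcm N b = r * N) := by
    intro N b hb
    rcases (Nat.dvd_prime hr).1 hb with rfl | rfl
    · exact Or.inl (Nat.lcm_one_right N)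
    · by_cases h : b ∣ N
      · exact Or.inl (Nat.lcm_eq_left_iff_dvd.2 h)
      · exact Or.inr ⟨h, by rw [Nat.lcm_comm, (hr.coprime_iff_not_dvd.2 h).lcm_eq_mul]⟩
  constructor
  · apply Set.Subset.antisymm
    · intro N hN
      obtain ⟨x, hx, N₁, hN₁, rfl⟩ := mem_omega_prod.1 hN
      obtain ⟨y, hy, N₂, hN₂, rfl⟩ := mem_omega_prod.1 hN₁
      obtain ⟨z, hz, b, hb, rfl⟩ := mem_omega_prod.1 hN₂
      rw [← Nat.lcm_assoc y z b, ← Nat.lcm_assoc x (Nat.lcm y z) b]
      rcases lcmb (Nat.lcm x (Nat.lcm y z)) b (orders_zmod hb) with h | ⟨hrN, h⟩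
      · rw [h]; exact fin3 x hx y hy z hz
      · rw [h]
        have hx' : ¬ r ∣ x := fun h => hrN (h.trans (Nat.dvd_lcm_left _ _))
        have hy' : ¬ r ∣ y := fun h => hrN (h.trans ((Nat.dvd_lcm_left _ _).trans (Nat.dvd_lcm_right _ _)))
        have hz' : ¬ r ∣ z := fun h => hrN (h.trans ((Nat.dvd_lcm_right _ _).trans (Nat.dvd_lcm_right _ _)))
        rcases key x hx hx' with h1 | h1
        · exact omega_of_dvd (fin3 _ h1 y hy z hz) (rlcm _ _ hrN
            (lcm_dvd_lcm' (dvd_mul_left x r) dvd_rfl) ((dvd_mul_right r x).trans (Nat.dvd_lcm_left _ _)))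
        rcases key y hy hy' with h2 | h2
        · exact omega_of_dvd (fin3 x hx _ h2 z hz) (rlcm _ _ hrN
            (lcm_dvd_lcm' dvd_rfl (lcm_dvd_lcm' (dvd_mul_left y r) dvd_rfl))
            (((dvd_mul_right r y).trans (Nat.dvd_lcm_left _ _)).trans (Nat.dvd_lcm_right _ _)))
        rcases key z hz hz' with h3 | h3
        · exact omega_of_dvd (fin3 x hx y hy _ h3) (rlcm _ _ hrN
            (lcm_dvd_lcm' dvd_rfl (lcm_dvd_lcm' dvd_rfl (dvd_mul_left z r)))
            (((dvd_mul_right r z).trans (Nat.dvd_lcm_right _ _)).trans (Nat.dvd_lcm_right _ _)))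
        exact omega_of_dvd (fin3 S hS P hPL r hrL) (rlcm _ _ hrN
          ((Nat.lcm_dvd h1 (Nat.lcm_dvd h2 h3)).trans (Nat.lcm_dvd (Nat.dvd_lcm_left _ _)
            ((Nat.dvd_lcm_left _ _).trans (Nat.dvd_lcm_right _ _))))
          ((Nat.dvd_lcm_right P r).trans (Nat.dvd_lcm_right _ _)))
    · intro N hN
      obtain ⟨x, hx, N', hN', rfl⟩ := mem_omega_prod.1 hN
      obtain ⟨y, hy, z, hz, rfl⟩ := mem_omega_prod.1 hN'
      exact mem_omega_prod.2 ⟨x, hx, _, mem_omega_prod.2 ⟨y, hy, _, mem_omega_prod.2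
        ⟨z, hz, 1, one_mem_omega, rfl⟩, rfl⟩, by rw [Nat.lcm_one_right]⟩
  · intro hnj
    apply Set.Subset.antisymm
    · intro N hN
      obtain ⟨x, hx, N', hN', rfl⟩ := mem_omega_prod.1 hN
      obtain ⟨y, hy, b, hb, rfl⟩ := mem_omega_prod.1 hN'
      rw [← Nat.lcm_assoc x y b]
      rcases lcmb (Nat.lcm x y) b (orders_zmod hb) with h | ⟨hrN, h⟩
      · rw [h]; exact fin2 x hx y hy
      · rw [h]
        have hx' : ¬ r ∣ x := fun h => hrN (h.trans (Nat.dvd_lcm_left _ _))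
        have hy' : ¬ r ∣ y := fun h => hrN (h.trans (Nat.dvd_lcm_right _ _))
        rcases key x hx hx' with h1 | h1
        · exact omega_of_dvd (fin2 _ h1 y hy) (rlcm _ _ hrN
            (lcm_dvd_lcm' (dvd_mul_left x r) dvd_rfl) ((dvd_mul_right r x).trans (Nat.dvd_lcm_left _ _)))
        rcases key y hy hy' with h2 | h2
        · exact omega_of_dvd (fin2 x hx _ h2) (rlcm _ _ hrN
            (lcm_dvd_lcm' dvd_rfl (dvd_mul_left y r)) ((dvd_mul_right r y).trans (Nat.dvd_lcm_right _ _)))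
        exact omega_of_dvd (fin2 S hS _ (hrP hnj)) (rlcm _ _ hrN
          ((Nat.lcm_dvd h1 h2).trans (lcm_dvd_lcm' dvd_rfl (dvd_mul_left P r)))
          ((dvd_mul_right r P).trans (Nat.dvd_lcm_right _ _)))
    · intro N hN
      obtain ⟨x, hx, y, hy, rfl⟩ := mem_omega_prod.1 hN
      exact mem_omega_prod.2 ⟨x, hx, _, mem_omega_prod.2
        ⟨y, hy, 1, one_mem_omega, rfl⟩, by rw [Nat.lcm_one_right]⟩

end Cfsg.Agent.S2511
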