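import Cfsg.Statements.S2512
import Cfsg.Agent.Lib.LinearOrders.SympClassify

set_option autoImplicit false
open Cfsg Cfsg.Agent.Lib.LinearOrders Cfsg.Agent.Lib.OrderSets Cfsg.Agent.Lib.Symplectic

namespace Cfsg.Agent.S2512


theorem orders_zmod {r m b : ℕ} (hb : b ∈ omega (Multiplicative (Fin m → ZMod r))) : b ∣ r := by
  obtain ⟨x, rfl⟩ := hb
  apply orderOf_dvd_of_pow_eq_one
  apply Multiplicative.toAdd.injective
  funext i
  simp

theorem lcm_dvd_lcm' {a b c d : ℕ} (h1 : a ∣ c) (h2 : b ∣ d) : Nat.lcm a b ∣ Nat.lcm c d :=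
  Nat.lcm_dvd (h1.trans (Nat.dvd_lcm_left _ _)) (h2.trans (Nat.dvd_lcm_right _ _))

theorem mul_mem_omega {G : Type*} [Group G] {g z : G} (h : Commute g z)
    (hco : (orderOf z).Coprime (orderOf g)) : orderOf z * orderOf g ∈ omega G :=
  ⟨z * g, h.symm.orderOf_mul_eq_mul_orderOf_of_coprime hco⟩

/-- Let F be a finite field of odd order q = p^a, n ≥ 2 (with q ≥ 3 automatic), and L = PSp(2n, F). Then for every m the direct product L × L × L × (ℤ/2)^m has the same set of element orders as L × L × L; and if 2n − 1 is not a power of p, then already L × L × (ℤ/2)^m has the same set of element orders as L × L. -/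
theorem result {F : Type*} [Field F] [Fintype F] (p a n m : ℕ) (hp : p.Prime) (ha : 1 ≤ a) (hF : Fintype.card F = p ^ a) (hodd : Odd (Fintype.card F))
    (hn : 2 ≤ n) :
    Set.range (orderOf : Cfsg.PSp n F × Cfsg.PSp n F × Cfsg.PSp n F × Multiplicative (Fin m → ZMod 2) → ℕ) = Set.range (orderOf : Cfsg.PSp n F × Cfsg.PSp n F × Cfsg.PSp n F → ℕ) ∧
    ((¬ ∃ j : ℕ, 2 * n - 1 = p ^ j) →
      Set.range (orderOf : Cfsg.PSp n F × Cfsg.PSp n F × Multiplicative (Fin m → ZMod 2) → ℕ) = Set.range (orderOf : Cfsg.PSp n F × Cfsg.PSp n F → ℕ)) := by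
  classical
  have : Fact p.Prime := ⟨hp⟩
  have hp0 : (p : F) = 0 := by
    apply eq_zero_of_pow_eq_zero (n := a)
    rw [← Nat.cast_pow, ← hF, FiniteField.cast_card_eq_zero]
  have : CharP F p := (CharP.charP_iff_prime_eq_zero hp).2 hp0
  have hpodd : Odd p := (Nat.odd_pow_iff (by omega)).1 (hF ▸ hodd)
  have h2 : (2 : F) ≠ 0 := by
    intro h
    have h' : ((2 : ℕ) : F) = 0 := by exact_mod_cast h
    rw [CharP.cast_eq_zero_iff F p] at h'
    have h3 := (Nat.prime_dvd_prime_iff_eq hp Nat.prime_two).1 h'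
    subst h3
    exact absurd hpodd (by decide)
  have hn1 : 1 ≤ n := by omega
  set L := Cfsg.PSp n F
  set P := unipExp p (2 * n) with hPdef
  set Sp := (Fintype.card F ^ n + 1) / 2 with hSp
  set Sm := (Fintype.card F ^ n - 1) / 2 with hSm
  have hSpL : Sp ∈ omega L := splus_mem h2 hodd p hn1
  have hSmL : Sm ∈ omega L := sminus_mem h2 hodd p hn1
  have hPL : P ∈ omega L := unip_mem h2 p hn1
  have heven : 2 ∣ Sp ∨ 2 ∣ Sm := by
    obtain ⟨c, hc⟩ := (hodd.pow : Odd (Fintype.card F ^ n))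
    rw [hSp, hSm, hc]
    omega
  have hPodd : Odd P := hpodd.pow
  have key : ∀ x ∈ omega L, ¬ 2 ∣ x → 2 * x ∈ omega L ∨ x ∣ Sp ∨ x ∣ Sm ∨ x ∣ P := by
    rintro x ⟨y, rfl⟩ hx
    obtain ⟨g, hg⟩ := QuotientGroup.mk'_surjective _ (pspEquiv n F y)
    have : Finite (Isom (stdForm n F)) := Finite.of_equiv _ (spEquiv n F).toEquiv
    rw [← (pspEquiv n F).orderOf_eq y, ← hg] at hx ⊢
    rcases symp_classify p h2 hodd (isSympForm_stdForm n F) hn1 (finrank_std n F) g with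
      ⟨z, hz, hz2⟩ | h | h | h | ⟨d, hd1, hdn, h⟩
    · left
      have := mul_mem_omega hz (by rw [hz2]; exact (Nat.prime_two.coprime_iff_not_dvd).2 hx)
      rw [hz2] at this
      exact (omega_congr (pspEquiv n F)).symm ▸ this
    · exact Or.inr (Or.inl h)
    · exact Or.inr (Or.inr (Or.inl h))
    · exact Or.inr (Or.inr (Or.inr h))
    · left
      rcases h with h | h
      · exact omega_of_dvd (mixed_mem h2 p hd1 hdn).1 h
      · exact omega_of_dvd (mixed_mem h2 p hd1 hdn).2 h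
  have fin3 : ∀ x ∈ omega L, ∀ y ∈ omega L, ∀ z ∈ omega L,
      Nat.lcm x (Nat.lcm y z) ∈ omega (L × L × L) :=
    fun x hx y hy z hz => mem_omega_prod.2 ⟨x, hx, _, mem_omega_prod.2 ⟨y, hy, z, hz, rfl⟩, rfl⟩
  have fin2 : ∀ x ∈ omega L, ∀ y ∈ omega L, Nat.lcm x y ∈ omega (L × L) :=
    fun x hx y hy => mem_omega_prod.2 ⟨x, hx, y, hy, rfl⟩
  have rlcm : ∀ M N : ℕ, ¬ 2 ∣ N → N ∣ M → 2 ∣ M → 2 * N ∣ M := fun M N h h1 h2 =>
    (Nat.prime_two.coprime_iff_not_dvd.2 h).mul_dvd_of_dvd_of_dvd h2 h1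
  have lcmb : ∀ N b : ℕ, b ∣ 2 → Nat.lcm N b = N ∨ (¬ 2 ∣ N ∧ Nat.lcm N b = 2 * N) := by
    intro N b hb
    rcases (Nat.dvd_prime Nat.prime_two).1 hb with rfl | rfl
    · exact Or.inl (Nat.lcm_one_right N)
    · by_cases h : 2 ∣ N
      · exact Or.inl (Nat.lcm_eq_left_iff_dvd.2 h)
      · exact Or.inr ⟨h, by rw [Nat.lcm_comm, (Nat.prime_two.coprime_iff_not_dvd.2 h).lcm_eq_mul]⟩
  constructor
  · apply Set.Subset.antisymm
    · intro N hN
      obtain ⟨x, hx, N₁, hN₁, rfl⟩ := mem_omega_prod.1 hN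
      obtain ⟨y, hy, N₂, hN₂, rfl⟩ := mem_omega_prod.1 hN₁
      obtain ⟨z, hz, b, hb, rfl⟩ := mem_omega_prod.1 hN₂
      rw [← Nat.lcm_assoc y z b, ← Nat.lcm_assoc x (Nat.lcm y z) b]
      rcases lcmb (Nat.lcm x (Nat.lcm y z)) b (orders_zmod hb) with h | ⟨hrN, h⟩
      · rw [h]; exact fin3 x hx y hy z hz
      · rw [h]
        have hx' : ¬ 2 ∣ x := fun h => hrN (h.trans (Nat.dvd_lcm_left _ _))
        have hy' : ¬ 2 ∣ y := fun h => hrN (h.trans ((Nat.dvd_lcm_left _ _).trans (Nat.dvd_lcm_right _ _)))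
        have hz' : ¬ 2 ∣ z := fun h => hrN (h.trans ((Nat.dvd_lcm_right _ _).trans (Nat.dvd_lcm_right _ _)))
        rcases key x hx hx' with h1 | h1
        · exact omega_of_dvd (fin3 _ h1 y hy z hz) (rlcm _ _ hrN
            (lcm_dvd_lcm' (dvd_mul_left x 2) dvd_rfl) ((dvd_mul_right 2 x).trans (Nat.dvd_lcm_left _ _)))
        rcases key y hy hy' with h2 | h2
        · exact omega_of_dvd (fin3 x hx _ h2 z hz) (rlcm _ _ hrN
            (lcm_dvd_lcm' dvd_rfl (lcm_dvd_lcm' (dvd_mul_left y 2) dvd_rfl))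
            (((dvd_mul_right 2 y).trans (Nat.dvd_lcm_left _ _)).trans (Nat.dvd_lcm_right _ _)))
        rcases key z hz hz' with h3 | h3
        · exact omega_of_dvd (fin3 x hx y hy _ h3) (rlcm _ _ hrN
            (lcm_dvd_lcm' dvd_rfl (lcm_dvd_lcm' dvd_rfl (dvd_mul_left z 2)))
            (((dvd_mul_right 2 z).trans (Nat.dvd_lcm_right _ _)).trans (Nat.dvd_lcm_right _ _)))
        have hl : ∀ w, (w ∣ Sp ∨ w ∣ Sm ∨ w ∣ P) → w ∣ Nat.lcm Sp (Nat.lcm Sm P) := by
          rintro w (h | h | h)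
          · exact h.trans (Nat.dvd_lcm_left _ _)
          · exact (h.trans (Nat.dvd_lcm_left _ _)).trans (Nat.dvd_lcm_right _ _)
          · exact (h.trans (Nat.dvd_lcm_right _ _)).trans (Nat.dvd_lcm_right _ _)
        exact omega_of_dvd (fin3 Sp hSpL Sm hSmL P hPL) (rlcm _ _ hrN
          (Nat.lcm_dvd (hl x h1) (Nat.lcm_dvd (hl y h2) (hl z h3)))
          (heven.elim (fun h => h.trans (Nat.dvd_lcm_left _ _))
            (fun h => (h.trans (Nat.dvd_lcm_left _ _)).trans (Nat.dvd_lcm_right _ _))))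
    · intro N hN
      obtain ⟨x, hx, N', hN', rfl⟩ := mem_omega_prod.1 hN
      obtain ⟨y, hy, z, hz, rfl⟩ := mem_omega_prod.1 hN'
      exact mem_omega_prod.2 ⟨x, hx, _, mem_omega_prod.2 ⟨y, hy, _, mem_omega_prod.2
        ⟨z, hz, 1, one_mem_omega, rfl⟩, rfl⟩, by rw [Nat.lcm_one_right]⟩
  · intro hnj
    have h2P : 2 * P ∈ omega L := by
      have hm := (mixed_mem (F := F) h2 p (n := n) (d := 1) le_rfl (by omega)).2
      refine omega_of_dvd hm ?_
      have hle : P ∣ unipExp p (2 * (n - 1)) := by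
        refine pow_dvd_pow p ((Nat.clog_le_iff_le_pow hp.one_lt).2 ?_)
        set c := Nat.clog p (2 * (n - 1))
        have h1 : 2 * (n - 1) ≤ p ^ c := Nat.le_pow_clog hp.one_lt _
        have h3 : p ^ c ≠ 2 * n - 1 := fun h => hnj ⟨c, h.symm⟩
        obtain ⟨b, hb⟩ := (hpodd.pow : Odd (p ^ c))
        omega
      have he : 2 ∣ Fintype.card F ^ 1 - 1 := even_iff_two_dvd.1 (Nat.Odd.sub_odd hodd.pow odd_one)
      exact (Nat.prime_two.coprime_iff_not_dvd.2 (fun h => (Nat.not_even_iff_odd.2 hPodd)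
        (even_iff_two_dvd.2 h))).mul_dvd_of_dvd_of_dvd (he.trans (Nat.dvd_lcm_left _ _))
          (hle.trans (Nat.dvd_lcm_right _ _))
    apply Set.Subset.antisymm
    · intro N hN
      obtain ⟨x, hx, N', hN', rfl⟩ := mem_omega_prod.1 hN
      obtain ⟨y, hy, b, hb, rfl⟩ := mem_omega_prod.1 hN'
      rw [← Nat.lcm_assoc x y b]
      rcases lcmb (Nat.lcm x y) b (orders_zmod hb) with h | ⟨hrN, h⟩
      · rw [h]; exact fin2 x hx y hy
      · rw [h]
        have hx' : ¬ 2 ∣ x := fun h => hrN (h.trans (Nat.dvd_lcm_left _ _))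
        have hy' : ¬ 2 ∣ y := fun h => hrN (h.trans (Nat.dvd_lcm_right _ _))
        rcases key x hx hx' with h1 | h1
        · exact omega_of_dvd (fin2 _ h1 y hy) (rlcm _ _ hrN
            (lcm_dvd_lcm' (dvd_mul_left x 2) dvd_rfl) ((dvd_mul_right 2 x).trans (Nat.dvd_lcm_left _ _)))
        rcases key y hy hy' with h2 | h2
        · exact omega_of_dvd (fin2 x hx _ h2) (rlcm _ _ hrN
            (lcm_dvd_lcm' dvd_rfl (dvd_mul_left y 2)) ((dvd_mul_right 2 y).trans (Nat.dvd_lcm_right _ _)))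
        have case2 : ∀ u, u ∈ omega L → (x ∣ u ∨ x ∣ P) → (y ∣ u ∨ y ∣ P) →
            2 * Nat.lcm x y ∈ omega (L × L) := by
          intro u hu ha hb
          have hP2 : P ∣ Nat.lcm u (2 * P) := (dvd_mul_left P 2).trans (Nat.dvd_lcm_right _ _)
          refine omega_of_dvd (fin2 u hu _ h2P) (rlcm _ _ hrN (Nat.lcm_dvd ?_ ?_)
            ((dvd_mul_right 2 P).trans (Nat.dvd_lcm_right _ _)))
          · exact ha.elim (fun h => h.trans (Nat.dvd_lcm_left _ _)) (fun h => h.trans hP2)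
          · exact hb.elim (fun h => h.trans (Nat.dvd_lcm_left _ _)) (fun h => h.trans hP2)
        have case0 : (x ∣ Sp ∨ x ∣ Sm) → (y ∣ Sp ∨ y ∣ Sm) → 2 * Nat.lcm x y ∈ omega (L × L) := by
          intro ha hb
          refine omega_of_dvd (fin2 Sp hSpL Sm hSmL) (rlcm _ _ hrN (Nat.lcm_dvd ?_ ?_)
            (heven.elim (fun h => h.trans (Nat.dvd_lcm_left _ _)) (fun h => h.trans (Nat.dvd_lcm_right _ _))))
          · exact ha.elim (fun h => h.trans (Nat.dvd_lcm_left _ _)) (fun h => h.trans (Nat.dvd_lcm_right _ _))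
          · exact hb.elim (fun h => h.trans (Nat.dvd_lcm_left _ _)) (fun h => h.trans (Nat.dvd_lcm_right _ _))
        rcases h1 with h1 | h1 | h1
        · rcases h2 with h2 | h2 | h2
          · exact case0 (Or.inl h1) (Or.inl h2)
          · exact case0 (Or.inl h1) (Or.inr h2)
          · exact case2 Sp hSpL (Or.inl h1) (Or.inr h2)
        · rcases h2 with h2 | h2 | h2
          · exact case0 (Or.inr h1) (Or.inl h2)
          · exact case0 (Or.inr h1) (Or.inr h2)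
          · exact case2 Sm hSmL (Or.inl h1) (Or.inr h2)
        · rcases h2 with h2 | h2 | h2
          · exact case2 Sp hSpL (Or.inr h1) (Or.inl h2)
          · exact case2 Sm hSmL (Or.inr h1) (Or.inl h2)
          · exact case2 P hPL (Or.inr h1) (Or.inl h2)
    · intro N hN
      obtain ⟨x, hx, y, hy, rfl⟩ := mem_omega_prod.1 hN
      exact mem_omega_prod.2 ⟨x, hx, _, mem_omega_prod.2
        ⟨y, hy, 1, one_mem_omega, rfl⟩, by rw [Nat.lcm_one_right]⟩

end Cfsg.Agent.S2512
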