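import Cfsg.Statements.S2513
import Cfsg.Agent.Lib.LinearOrders.Basic
import Cfsg.Agent.Lib.OrderSets.Basic

set_option autoImplicit false
open Cfsg Cfsg.Agent.Lib.LinearOrders Cfsg.Agent.Lib.OrderSets

namespace Cfsg.Agent.S2513


theorem prime_pow_dvd_lcm {ι : Type*} {p e : ℕ} (hp : p.Prime) (s : Finset ι) (a : ι → ℕ)
    (ha : ∀ i ∈ s, a i ≠ 0) (he : 1 ≤ e) (h : p ^ e ∣ s.lcm a) : ∃ i ∈ s, p ^ e ∣ a i := by
  classical
  induction s using Finset.induction_on with
  | empty =>
    rw [Finset.lcm_empty] at h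
    have := Nat.eq_one_of_dvd_one h
    exact absurd this (Nat.one_lt_pow (by omega) hp.one_lt).ne'
  | insert i s hi ih =>
    have hai := ha i (Finset.mem_insert_self i s)
    have has : s.lcm a ≠ 0 := Finset.lcm_ne_zero_iff.2 fun j hj => ha j (Finset.mem_insert_of_mem hj)
    rw [Finset.lcm_insert, lcm_eq_nat_lcm, hp.pow_dvd_iff_le_factorization (Nat.lcm_ne_zero hai has),
      Nat.factorization_lcm hai has, Finsupp.sup_apply] at h
    rcases le_sup_iff.1 h with h | h
    · exact ⟨i, Finset.mem_insert_self i s, (hp.pow_dvd_iff_le_factorization hai).2 h⟩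
    · obtain ⟨j, hj, hjd⟩ := ih (fun j hj => ha j (Finset.mem_insert_of_mem hj))
        ((hp.pow_dvd_iff_le_factorization has).2 h)
      exact ⟨j, Finset.mem_insert_of_mem hj, hjd⟩

/-- Let F be the field with two elements, n ≥ 2, L = PSL(n, F) and k₀ = ⌊(n + 3)/2⌋. Then for every k ≥ k₀ the direct product of k copies of L has the same set of element orders as the direct product of k₀ copies of L. -/
theorem result {F : Type*} [Field F] [Fintype F] (hF : Fintype.card F = 2) (n k : ℕ) (hn : 2 ≤ n) (hk : (n + 3) / 2 ≤ k) :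
    Set.range (orderOf : (Fin k → Matrix.ProjectiveSpecialLinearGroup (Fin n) F) → ℕ) = Set.range (orderOf : (Fin ((n + 3) / 2) → Matrix.ProjectiveSpecialLinearGroup (Fin n) F) → ℕ) := by
  classical
  change omega _ = omega _
  have hk0 : (n + 3) / 2 = (n + 1) / 2 + 1 := by omega
  set L := Matrix.ProjectiveSpecialLinearGroup (Fin n) F
  have hL : omega L = omega (GL (Fin n) F) := omega_congr (pslEquivGL hF n)
  obtain ⟨p, hchar⟩ := CharP.exists F
  have hp : p = 2 := by
    have h2 : ((2 : ℕ) : F) = 0 := hF ▸ FiniteField.cast_card_eq_zero F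
    exact ((Nat.prime_dvd_prime_iff_eq (CharP.char_is_prime F p) Nat.prime_two).1
      ((CharP.cast_eq_zero_iff F p 2).1 h2))
  subst hp
  apply Set.Subset.antisymm
  · intro N hN
    obtain ⟨a, ha, rfl⟩ := mem_omega_pi.1 hN
    set N := Finset.univ.lcm a with hNdef
    have ha0 : ∀ i, a i ≠ 0 := fun i => (omega_pos (ha i)).ne'
    set t := 2 ^ N.factorization 2 with ht
    have htL : t ∈ omega L := by
      rcases Nat.eq_zero_or_pos (N.factorization 2) with h0 | h0
      · rw [ht, h0, pow_zero]; exact one_mem_omega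
      · obtain ⟨i, -, hi⟩ := prime_pow_dvd_lcm Nat.prime_two Finset.univ a (fun i _ => ha0 i) h0
          (Nat.ordProj_dvd N 2)
        exact omega_of_dvd (ha i) hi
    have key : ∀ r e : ℕ, r.Prime → r ^ e ∣ N → r ^ e ∣ t ∨
        ∃ d, n / 2 < d ∧ d ≤ n ∧ r ^ e ∣ 2 ^ d - 1 := by
      intro r e hr hdvd
      have hN0 : N ≠ 0 := Finset.lcm_ne_zero_iff.2 fun j _ => ha0 j
      rcases Nat.eq_zero_or_pos e with rfl | he
      · left; simp
      by_cases hr2 : r = 2
      · subst hr2
        left
        exact Nat.pow_dvd_pow 2 ((hr.pow_dvd_iff_le_factorization hN0).1 hdvd)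
      · obtain ⟨i, -, hi⟩ := prime_pow_dvd_lcm hr Finset.univ a (fun i _ => ha0 i) he hdvd
        obtain ⟨g, hg⟩ := hL ▸ ha i
        obtain ⟨d, hd1, hdn, hd⟩ := prime_pow_dvd_pow_sub_one 2 (by omega) g hr hr2 (hg ▸ hi)
        rw [hF] at hd
        refine Or.inr ⟨d * (n / d), ?_, ?_, hd.trans (Nat.pow_sub_one_dvd_pow_sub_one 2 (dvd_mul_right d _))⟩
        · have h1 := Nat.div_add_mod n d
          have h2 := Nat.mod_lt n (show d > 0 by omega)
          have h3 : d ≤ d * (n / d) := Nat.le_mul_of_pos_right d (Nat.div_pos hdn (by omega))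
          omega
        · exact (Nat.mul_div_le n d)
    let b : Fin ((n + 3) / 2) → ℕ := fun j => if (j : ℕ) = 0 then t else 2 ^ (n / 2 + j) - 1
    have hb : ∀ j, b j ∈ omega L := by
      intro j
      by_cases hj : (j : ℕ) = 0
      · simp only [b, hj, if_true]; exact htL
      · simp only [b, hj, if_false]
        have hj2 := j.2
        rw [hL]
        refine mem_range_orderOf_GL (F := F) (d := n / 2 + j) (by omega) (by omega) ?_
        rw [hF]
    refine omega_of_dvd (mem_omega_pi.2 ⟨b, hb, rfl⟩) ?_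
    rw [Nat.dvd_iff_prime_pow_dvd_dvd]
    intro r e hr hdvd
    rcases key r e hr hdvd with h | ⟨d, hd1, hd2, h⟩
    · refine h.trans ?_
      have := Finset.dvd_lcm (f := b) (Finset.mem_univ (⟨0, by omega⟩ : Fin ((n + 3) / 2)))
      simpa [b] using this
    · refine h.trans ?_
      have hjne : d - n / 2 ≠ 0 := by omega
      have := Finset.dvd_lcm (f := b) (Finset.mem_univ (⟨d - n / 2, by omega⟩ : Fin ((n + 3) / 2)))
      simp only [b, hjne, if_false] at this
      rwa [show n / 2 + (d - n / 2) = d by omega] at this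
  · intro N hN
    obtain ⟨a, ha, rfl⟩ := mem_omega_pi.1 hN
    refine mem_omega_pi.2 ⟨fun i => if h : (i : ℕ) < (n + 3) / 2 then a ⟨i, h⟩ else 1, fun i => ?_, ?_⟩
    · dsimp only
      split
      · exact ha _
      · exact one_mem_omega
    · apply Nat.dvd_antisymm
      · refine Finset.lcm_dvd fun j _ => ?_
        have := Finset.dvd_lcm (f := fun i : Fin k => if h : (i : ℕ) < (n + 3) / 2 then a ⟨i, h⟩ else 1)
          (Finset.mem_univ (⟨j, lt_of_lt_of_le j.2 hk⟩ : Fin k))
        simpa using this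
      · refine Finset.lcm_dvd fun i _ => ?_
        split
        · exact Finset.dvd_lcm (Finset.mem_univ _)
        · exact one_dvd _

end Cfsg.Agent.S2513
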