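import Cfsg.Statements.S2514
import Cfsg.Agent.Lib.OrderSets.Basic

set_option autoImplicit false
open Cfsg Cfsg.Agent.Lib.OrderSets

namespace Cfsg.Agent.S2514

/-- For a finite group X write μ(X) for the set of element orders of X that are maximal under divisibility. Let G and H be finite groups and k ≥ 1 such that μ(H) ⊆ μ(G) and μ(G) has fewer than k elements outside μ(H). Then the direct product of k copies of G has the same set of element orders as the direct product of k − 1 copies of G with H. -/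
theorem result {G H : Type*} [Group G] [Finite G] [Group H] [Finite H] (k : ℕ) (hk : 1 ≤ k)
    (hsub : {n : ℕ | n ∈ Set.range (orderOf : H → ℕ) ∧ ∀ m ∈ Set.range (orderOf : H → ℕ), n ∣ m → m = n} ⊆ {n : ℕ | n ∈ Set.range (orderOf : G → ℕ) ∧ ∀ m ∈ Set.range (orderOf : G → ℕ), n ∣ m → m = n})
    (hfew : ({n : ℕ | n ∈ Set.range (orderOf : G → ℕ) ∧ ∀ m ∈ Set.range (orderOf : G → ℕ), n ∣ m → m = n} \ {n : ℕ | n ∈ Set.range (orderOf : H → ℕ) ∧ ∀ m ∈ Set.range (orderOf : H → ℕ), n ∣ m → m = n}).ncard < k) :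
    Set.range (orderOf : (Fin k → G) → ℕ) = Set.range (orderOf : (Fin (k - 1) → G) × H → ℕ) := by
  classical
  obtain ⟨j, rfl⟩ : ∃ j, k = j + 1 := ⟨k - 1, (Nat.sub_add_cancel hk).symm⟩
  rw [Nat.add_sub_cancel]
  change omega (Fin (j + 1) → G) = omega ((Fin j → G) × H)
  ext N
  constructor
  · intro hN
    obtain ⟨a, ha, rfl⟩ := mem_omega_pi.1 hN
    choose μ hμ hdvd using fun i => exists_maximal (ha i)
    suffices h : ∃ (i₀ : Fin (j + 1)) (h₀ : ℕ), h₀ ∈ omega H ∧
        (μ i₀ ∣ h₀ ∨ ∃ i, μ i₀ ∣ μ (i₀.succAbove i)) by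
      obtain ⟨i₀, h₀, hh₀, hor⟩ := h
      refine omega_of_dvd (mem_omega_prod.2 ⟨_, mem_omega_pi.2 ⟨fun i => μ (i₀.succAbove i),
        fun i => (hμ _).1, rfl⟩, h₀, hh₀, rfl⟩) (Finset.lcm_dvd fun i _ => ?_)
      refine (hdvd i).trans ?_
      rcases Fin.eq_self_or_eq_succAbove i₀ i with rfl | ⟨i', rfl⟩
      · rcases hor with h | ⟨i', h⟩
        · exact h.trans (Nat.dvd_lcm_right _ _)
        · exact h.trans ((Finset.dvd_lcm (f := fun i => μ (Fin.succAbove _ i))
            (Finset.mem_univ i')).trans (Nat.dvd_lcm_left _ _))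
      · exact (Finset.dvd_lcm (f := fun i => μ (Fin.succAbove i₀ i))
            (Finset.mem_univ i')).trans (Nat.dvd_lcm_left _ _)
    by_cases hex : ∃ i, μ i ∈ omega H ∧ ∀ m ∈ omega H, μ i ∣ m → m = μ i
    · obtain ⟨i, hi, _⟩ := hex
      exact ⟨i, _, hi, Or.inl dvd_rfl⟩
    · have hnot : ∃ i i', i ≠ i' ∧ μ i = μ i' := by
        by_contra hno
        push Not at hno
        have hinj : Function.Injective μ := fun x y h => by_contra fun hne => hno x y hne h
        have hle := Set.ncard_le_ncard (s := Set.range μ) (t :=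
          {n : ℕ | n ∈ omega G ∧ ∀ m ∈ omega G, n ∣ m → m = n} \
            {n : ℕ | n ∈ omega H ∧ ∀ m ∈ omega H, n ∣ m → m = n}) (by
          rintro _ ⟨i, rfl⟩
          exact ⟨hμ i, fun hh => hex ⟨i, hh⟩⟩) ((Set.finite_range _).subset fun x hx => hx.1.1)
        rw [Set.ncard_range_of_injective hinj, Nat.card_fin] at hle
        exact absurd hfew (not_lt.2 hle)
      obtain ⟨i, i', hne, heq⟩ := hnot
      obtain ⟨i'', hi''⟩ := Fin.exists_succAbove_eq hne.symm
      exact ⟨i, 1, one_mem_omega, Or.inr ⟨i'', by rw [hi'', heq]⟩⟩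
  · intro hN
    obtain ⟨a, ha, b, hb, rfl⟩ := mem_omega_prod.1 hN
    obtain ⟨a, ha', rfl⟩ := mem_omega_pi.1 ha
    obtain ⟨μ, hμ, hbμ⟩ := exists_maximal hb
    have hμG : μ ∈ omega G := (hsub hμ).1
    have hbG : b ∈ omega G := omega_of_dvd hμG hbμ
    refine mem_omega_pi.2 ⟨Fin.cons b a, fun i => Fin.cases hbG ha' i, ?_⟩
    apply Nat.dvd_antisymm
    · refine Nat.lcm_dvd (Finset.lcm_dvd fun i _ => ?_) ?_
      · simpa using Finset.dvd_lcm (f := Fin.cons (α := fun _ => ℕ) b a) (Finset.mem_univ i.succ)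
      · simpa using Finset.dvd_lcm (f := Fin.cons (α := fun _ => ℕ) b a) (Finset.mem_univ 0)
    · refine Finset.lcm_dvd fun i _ => ?_
      refine Fin.cases ?_ ?_ i
      · simpa using Nat.dvd_lcm_right _ _
      · intro i
        simpa using (Finset.dvd_lcm (f := a) (Finset.mem_univ i)).trans (Nat.dvd_lcm_left _ _)

end Cfsg.Agent.S2514
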