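import Cfsg.Statements.S2515
import Cfsg.Agent.Lib.Linear.SL2

set_option autoImplicit false
set_option linter.style.haveILetI false
set_option linter.unusedSectionVars false
open Cfsg

namespace Cfsg.Agent.S2515

open Matrix

variable {F : Type} [Field F] [CharP F 3]

local notation "SL2" => Matrix.SpecialLinearGroup (Fin 2) F
local notation "M2" => Matrix (Fin 2) (Fin 2) F

/-- The field automorphism `x ↦ x ^ 3` applied to a matrix group element. -/
def tw (F : Type) [Field F] [CharP F 3] :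
    Matrix.SpecialLinearGroup (Fin 2) F →* Matrix.SpecialLinearGroup (Fin 2) F :=
  haveI : Fact (Nat.Prime 3) := ⟨Nat.prime_three⟩
  Matrix.SpecialLinearGroup.map (frobenius F 3)

theorem coe_tw (g : SL2) (i j : Fin 2) : (tw F g : M2) i j = (g : M2) i j ^ 3 := rfl

/-- The tensor product of the natural module and its twist, with a sign. -/
def act (x : SL2 × ℤˣ) (X : M2) : M2 :=
  (x.2 : ℤ) • ((x.1 : M2) * X * (tw F x.1 : M2)ᵀ)

theorem act_add (x : SL2 × ℤˣ) (X Y : M2) : act x (X + Y) = act x X + act x Y := by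
  simp [act, Matrix.mul_add, Matrix.add_mul]

theorem act_one (X : M2) : act (1 : SL2 × ℤˣ) X = X := by simp [act]

theorem act_mul (x y : SL2 × ℤˣ) (X : M2) : act (x * y) X = act x (act y X) := by
  simp only [act, Prod.fst_mul, Prod.snd_mul, Units.val_mul, map_mul,
    Matrix.SpecialLinearGroup.coe_mul, Matrix.transpose_mul, mul_smul_comm, smul_mul_assoc, smul_smul]
  simp only [mul_assoc]

/-- The action as automorphisms. -/
def rho (F : Type) [Field F] [CharP F 3] :
    Matrix.SpecialLinearGroup (Fin 2) F × ℤˣ →* MulAut (Multiplicative (Matrix (Fin 2) (Fin 2) F)) where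
  toFun x :=
    { toFun := fun X => Multiplicative.ofAdd (act x X.toAdd)
      invFun := fun X => Multiplicative.ofAdd (act x⁻¹ X.toAdd)
      left_inv := fun X => by simp [← act_mul, act_one]
      right_inv := fun X => by simp [← act_mul, act_one]
      map_mul' := fun X Y => by simp [act_add] }
  map_one' := by ext X : 1; simp [act_one]
  map_mul' x y := by ext X : 1; simp [act_mul]

theorem rho_apply (x : SL2 × ℤˣ) (X : M2) :
    rho F x (Multiplicative.ofAdd X) = Multiplicative.ofAdd (act x X) := rfl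

theorem rho_eq_one_iff {x : SL2 × ℤˣ} : rho F x = 1 ↔ ∀ X : M2, act x X = X := by
  refine ⟨fun h X => ?_, fun h => MulEquiv.ext fun X => ?_⟩
  · have := DFunLike.congr_fun h (Multiplicative.ofAdd X)
    rw [rho_apply] at this
    simpa using this
  · show Multiplicative.ofAdd (act x X.toAdd) = X
    rw [h]; rfl

/-- The group: the module extended by the image of `SL(2, q) × {±1}`. -/
abbrev Grp (F : Type) [Field F] [CharP F 3] : Type :=
  Multiplicative (Matrix (Fin 2) (Fin 2) F) ⋊[(rho F).range.subtype] (rho F).range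

/-- The element with module part `X` and acting part `x`. -/
def el (X : M2) (x : SL2 × ℤˣ) : Grp F := ⟨Multiplicative.ofAdd X, ⟨rho F x, x, rfl⟩⟩

theorem exists_el (z : Grp F) : ∃ X x, el X x = z := by
  obtain ⟨v, ⟨h, x, rfl⟩⟩ := z
  exact ⟨v.toAdd, x, rfl⟩

theorem el_mul (X Y : M2) (x y : SL2 × ℤˣ) : el X x * el Y y = el (X + act x Y) (x * y) := by
  refine SemidirectProduct.ext ?_ (Subtype.ext (map_mul (rho F) x y).symm)
  rfl

theorem el_eq_one_iff {X : M2} {x : SL2 × ℤˣ} : el X x = 1 ↔ X = 0 ∧ rho F x = 1 := by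
  constructor
  · intro h
    exact ⟨Multiplicative.ofAdd.injective (congrArg SemidirectProduct.left h),
      congrArg Subtype.val (congrArg SemidirectProduct.right h)⟩
  · rintro ⟨rfl, h⟩
    exact SemidirectProduct.ext rfl (Subtype.ext h)

theorem el_pow (X : M2) (x : SL2 × ℤˣ) (n : ℕ) : ∃ Y, el X x ^ n = el Y (x ^ n) := by
  induction n with
  | zero => exact ⟨0, by rw [pow_zero, pow_zero, eq_comm, el_eq_one_iff]; exact ⟨rfl, map_one _⟩⟩
  | succ n ih =>
    obtain ⟨Y, hY⟩ := ih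
    exact ⟨Y + act (x ^ n) X, by rw [pow_succ, hY, el_mul, ← pow_succ]⟩

theorem three_nsmul_eq_zero (X : M2) : X + X + X = 0 := by
  ext i j
  have h3 : (3 : F) = 0 := CharP.cast_eq_zero F 3
  simp only [Matrix.add_apply, Matrix.zero_apply]
  linear_combination (X i j) * h3

theorem el_pow_three_mul {X : M2} {x : SL2 × ℤˣ} {n : ℕ} (h : rho F (x ^ n) = 1) :
    el X x ^ (3 * n) = 1 := by
  obtain ⟨Y, hY⟩ := el_pow X x n
  rw [mul_comm, pow_mul, hY, pow_succ, pow_succ, pow_one, el_mul, el_mul, el_eq_one_iff,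
    map_mul, map_mul, h, rho_eq_one_iff.1 h,
    rho_eq_one_iff.1 (show rho F (x ^ n * x ^ n) = 1 by rw [map_mul, h, one_mul])]
  exact ⟨three_nsmul_eq_zero Y, by simp⟩

/-- A fixed point free element lifts without change of order. -/
theorem el_pow_eq_one {X : M2} {x : SL2 × ℤˣ} {n : ℕ} (h : rho F (x ^ n) = 1)
    (hfix : ∀ Y : M2, act x Y = Y → Y = 0) : el X x ^ n = 1 := by
  obtain ⟨Y, hY⟩ := el_pow X x n
  have hc := congrArg SemidirectProduct.left ((Commute.self_pow (el X x) n).eq)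
  rw [hY, el_mul, el_mul] at hc
  have hc' : X + act x Y = Y + act (x ^ n) X := Multiplicative.ofAdd.injective hc
  rw [rho_eq_one_iff.1 h X, add_comm Y X] at hc'
  rw [hY, el_eq_one_iff]
  exact ⟨hfix Y (add_left_cancel hc'), h⟩

theorem sl_add_inv (g : SL2) :
    (g : M2) + ((g⁻¹ : SL2) : M2) = Matrix.trace (g : M2) • (1 : M2) := by
  rw [Matrix.SpecialLinearGroup.coe_inv, Matrix.adjugate_fin_two, Matrix.trace_fin_two]
  ext i j
  fin_cases i <;> fin_cases j <;> simp [add_comm]

theorem trace_tw (g : SL2) : Matrix.trace (tw F g : M2) = Matrix.trace (g : M2) ^ 3 := by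
  haveI : Fact (Nat.Prime 3) := ⟨Nat.prime_three⟩
  simp only [Matrix.trace_fin_two, coe_tw, add_pow_char]

/-- An element with a fixed point has trace `t` with `t ^ 3 = ± t`. -/
theorem trace_of_fixed {g : SL2} {u : ℤˣ} {X : M2} (hX : X ≠ 0) (h : act (g, u) X = X) :
    Matrix.trace (g : M2) ^ 3 = (u : ℤ) • Matrix.trace (g : M2) := by
  have h' : (u : ℤ) • ((g : M2) * X * (tw F g : M2)ᵀ) = X := h
  have hu : (u : ℤ) * (u : ℤ) = 1 := by rw [← Units.val_mul, Int.units_mul_self]; rfl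
  have hgi : ((g⁻¹ : SL2) : M2) * (g : M2) = 1 := by
    rw [← Matrix.SpecialLinearGroup.coe_mul, inv_mul_cancel, Matrix.SpecialLinearGroup.coe_one]
  have hti : (tw F g : M2) * ((tw F g⁻¹ : SL2) : M2) = 1 := by
    rw [← Matrix.SpecialLinearGroup.coe_mul, ← map_mul, mul_inv_cancel, map_one,
      Matrix.SpecialLinearGroup.coe_one]
  have hti' : ((tw F g⁻¹ : SL2) : M2) * (tw F g : M2) = 1 := by
    rw [← Matrix.SpecialLinearGroup.coe_mul, ← map_mul, inv_mul_cancel, map_one,
      Matrix.SpecialLinearGroup.coe_one]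
  have e1 : (u : ℤ) • ((g : M2) * X) = X * ((tw F g⁻¹ : SL2) : M2)ᵀ := by
    conv_rhs => rw [← h']
    rw [smul_mul_assoc, mul_assoc, ← Matrix.transpose_mul, hti', Matrix.transpose_one, mul_one]
  have e2 : (u : ℤ) • (((g⁻¹ : SL2) : M2) * X) = X * (tw F g : M2)ᵀ := by
    conv_lhs => rw [← h']
    rw [mul_smul_comm, smul_smul, hu, one_smul, ← mul_assoc, ← mul_assoc, hgi, one_mul]
  have key : ((u : ℤ) • Matrix.trace (g : M2)) • X = Matrix.trace (g : M2) ^ 3 • X := by
    have := congrArg₂ (· + ·) e1 e2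
    rw [← smul_add, ← Matrix.add_mul, sl_add_inv, smul_mul_assoc, one_mul, ← Matrix.mul_add,
      ← Matrix.transpose_add, map_inv, add_comm ((((tw F g)⁻¹ : SL2) : M2)), sl_add_inv,
      Matrix.transpose_smul, Matrix.transpose_one, mul_smul_comm, mul_one, trace_tw] at this
    rwa [smul_assoc]
  exact (smul_left_injective F hX key).symm

/-- The kernel of the action. -/
theorem of_rho_eq_one {g : SL2} {u : ℤˣ} (h : rho F (g, u) = 1) : g ^ 2 = 1 ∧ u = 1 := by
  haveI : Fact (Nat.Prime 3) := ⟨Nat.prime_three⟩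
  have hA : ∀ X : M2, (u : ℤ) • ((g : M2) * X * (tw F g : M2)ᵀ) = X := rho_eq_one_iff.1 h
  have h1 := hA 1
  rw [mul_one] at h1
  have hcomm : ∀ X : M2, (g : M2) * X = X * (g : M2) := by
    intro X
    have h2 := hA X
    calc (g : M2) * X = (g : M2) * X * ((u : ℤ) • ((tw F g : M2)ᵀ * (g : M2))) := by
          have : (u : ℤ) • ((tw F g : M2)ᵀ * (g : M2)) = 1 := by
            rw [← smul_mul_assoc]
            refine mul_eq_one_comm.1 ?_
            rw [mul_smul_comm]; exact h1
          rw [this, mul_one]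
      _ = X * (g : M2) := by
          rw [mul_smul_comm, ← mul_assoc, ← smul_mul_assoc, h2]
  have a := congrFun (congrFun (hcomm !![0, 1; 0, 0]) 0) 1
  have b := congrFun (congrFun (hcomm !![0, 1; 0, 0]) 1) 1
  have c := congrFun (congrFun (hcomm !![0, 0; 1, 0]) 0) 0
  simp [Matrix.mul_apply, Fin.sum_univ_two] at a b c
  have hd := Lib.Linear.sl2_det g
  rw [c, zero_mul, sub_zero, ← a] at hd
  have hg2 : g ^ 2 = 1 := by
    refine Subtype.ext ?_
    rw [Matrix.SpecialLinearGroup.coe_pow, sq, Matrix.SpecialLinearGroup.coe_one]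
    ext i j
    fin_cases i <;> fin_cases j <;> simp [Matrix.mul_apply, Fin.sum_univ_two, b, c, ← a, hd]
  refine ⟨hg2, (Int.units_eq_one_or u).resolve_right fun hu => ?_⟩
  have h00 := congrFun (congrFun h1 0) 0
  simp only [hu, Units.val_neg, Units.val_one, neg_smul, one_smul, Matrix.neg_apply, Matrix.mul_apply,
    Fin.sum_univ_two, Matrix.transpose_apply, coe_tw, c, zero_mul, add_zero, Matrix.one_apply_eq] at h00
  -- `-(a ^ 4) = 1` with `a ^ 2 = 1` is impossible
  have h2 : (2 : F) = 0 := by linear_combination -h00 - ((g : M2) 0 0 * (g : M2) 0 0 + 1) * hd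
  have h3 : (3 : F) = 0 := CharP.cast_eq_zero F 3
  exact one_ne_zero (show (1 : F) = 0 by linear_combination h3 - h2)

theorem rho_neg_one [Fintype F] (g : SL2) (hg : g * g = 1) : rho F (g, 1) = 1 := by
  haveI : Fact (Nat.Prime 3) := ⟨Nat.prime_three⟩
  rw [rho_eq_one_iff]
  intro X
  by_cases h1 : g = 1
  · subst h1; simp [act]
  · have h2 : (2 : F) ≠ 0 := fun h2 => one_ne_zero (show (1 : F) = 0 by
      linear_combination (CharP.cast_eq_zero F 3 : ((3 : ℕ) : F) = 0) - h2)
    have hn := Lib.Linear.eq_neg_one_of_mul_self h2 h1 hg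
    have htw : (tw F g : M2) = -1 := by
      ext i j
      rw [coe_tw, hn]
      fin_cases i <;> fin_cases j <;> simp [(by decide : Odd 3).neg_one_pow]
    simp [act, hn, htw]

theorem rho_sq_pair (u : ℤˣ) (g : SL2) {n : ℕ} (hn : Even n) :
    rho F ((g, u) ^ n) = rho F (g ^ n, 1) := by
  rw [Prod.pow_mk, Int.units_pow_eq_pow_mod_two u n, Nat.even_iff.1 hn, pow_zero]

/-- The unipotent element used for the orders `6` and `9`. -/
def uni (F : Type) [Field F] : Matrix.SpecialLinearGroup (Fin 2) F :=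
  ⟨!![1, 1; 0, 1], by simp [Matrix.det_fin_two]⟩

section
variable [Fintype F]

theorem pow_three_of_trace {g : SL2} (h : Matrix.trace (g : M2) ^ 2 = 1) : g ^ 3 * g ^ 3 = 1 := by
  haveI : Fact (Nat.Prime 3) := ⟨Nat.prime_three⟩
  have h3 : (3 : F) = 0 := CharP.cast_eq_zero F 3
  refine Subtype.ext ?_
  rw [← pow_add, Matrix.SpecialLinearGroup.coe_pow, Matrix.SpecialLinearGroup.coe_one]
  set t := Matrix.trace (g : M2) with ht
  have hgg : (g : M2) * (g : M2) = t • (g : M2) - 1 := Lib.Linear.sl2_mul_self g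
  have e3 : (g : M2) ^ 3 = (-t) • (1 : M2) := by
    rw [pow_succ, sq, hgg, Matrix.sub_mul, smul_mul_assoc, hgg, one_mul]
    ext i j
    simp only [Matrix.sub_apply, Matrix.smul_apply, smul_eq_mul]
    linear_combination ((g : M2) i j) * h
  show (g : M2) ^ (3 + 3) = 1
  rw [pow_add, e3, smul_mul_assoc, one_mul, smul_smul, neg_mul_neg, ← sq, h, one_smul]

theorem order_cases (α : ℕ) (hodd : Odd α) (hF : Fintype.card F = 3 ^ α) (z : Grp F) :
    orderOf z ∣ 6 ∨ orderOf z ∣ 9 ∨ orderOf z ∣ 3 ^ α - 1 ∨ orderOf z ∣ (3 ^ α + 1) / 2 := by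
  haveI : Fact (Nat.Prime 3) := ⟨Nat.prime_three⟩
  obtain ⟨X, ⟨g, u⟩, rfl⟩ := exists_el z
  have hq4 : 3 ^ α % 4 = 3 := by
    obtain ⟨k, rfl⟩ := hodd
    rw [pow_succ, pow_mul, Nat.mul_mod, Nat.pow_mod]; norm_num
  set t := Matrix.trace (g : M2) with ht
  have hgg : (g : M2) * (g : M2) = t • (g : M2) - 1 := Lib.Linear.sl2_mul_self g
  by_cases h0 : t = 0
  · left
    refine orderOf_dvd_of_pow_eq_one (el_pow_three_mul (n := 2) ?_)
    have hg4 : g ^ 2 * g ^ 2 = 1 := by
      refine Subtype.ext ?_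
      rw [Matrix.SpecialLinearGroup.coe_mul, Matrix.SpecialLinearGroup.coe_pow, sq, hgg, h0]
      simp
    rw [rho_sq_pair u g (by decide)]
    exact rho_neg_one _ hg4
  by_cases h1 : t ^ 2 = 1
  · rcases Int.units_eq_one_or u with rfl | rfl
    · right; left
      refine orderOf_dvd_of_pow_eq_one (el_pow_three_mul (n := 3) ?_)
      rw [Prod.pow_mk, one_pow]
      exact rho_neg_one _ (pow_three_of_trace h1)
    · left
      refine orderOf_dvd_of_pow_eq_one ?_
      obtain ⟨Y, hY⟩ := el_pow X (g, -1) 3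
      rw [show (6 : ℕ) = 3 * 2 from rfl, pow_mul, hY, sq, el_mul, el_eq_one_iff]
      have hk : rho F (g ^ 3, 1) = 1 := rho_neg_one _ (pow_three_of_trace h1)
      refine ⟨?_, ?_⟩
      · have hneg : ((g, (-1 : ℤˣ)) ^ 3 : SL2 × ℤˣ) = (g ^ 3, 1) * ((1 : SL2), -1) := by
          simp [pow_succ]
        rw [hneg, act_mul, rho_eq_one_iff.1 hk]
        simp [act]
      · rw [Prod.pow_mk, Prod.mk_mul_mk, Int.units_mul_self]
        exact rho_neg_one _ (by simp [pow_three_of_trace h1])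
  -- the remaining elements act without fixed points
  have hfix : ∀ Y : M2, act (g, u) Y = Y → Y = 0 := by
    intro Y hY
    by_contra hY0
    have := trace_of_fixed hY0 hY
    rw [← ht] at this
    rcases Int.units_eq_one_or u with rfl | rfl
    · simp only [Units.val_one, one_smul] at this
      exact h1 (mul_left_cancel₀ h0 (by linear_combination this))
    · simp only [Units.val_neg, Units.val_one, neg_smul, one_smul] at this
      have hsq : IsSquare (-1 : F) := ⟨t, mul_left_cancel₀ h0 (by linear_combination -this)⟩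
      exact (FiniteField.isSquare_neg_one_iff.1 hsq) (by rw [hF, hq4])
  rcases Lib.Linear.orderOf_dvd_cases 3 g with h | h | h <;> (try rw [hF] at h)
  · right; right; left
    refine orderOf_dvd_of_pow_eq_one (el_pow_eq_one ?_ hfix)
    rw [rho_sq_pair u g (by rw [Nat.even_iff]; omega), orderOf_dvd_iff_pow_eq_one.1 h]
    exact map_one _
  · right; right; right
    refine orderOf_dvd_of_pow_eq_one (el_pow_eq_one ?_ hfix)
    rw [rho_sq_pair u g (by rw [Nat.even_iff]; omega)]
    refine rho_neg_one _ ?_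
    rw [← pow_add, show (3 ^ α + 1) / 2 + (3 ^ α + 1) / 2 = 3 ^ α + 1 by omega]
    exact orderOf_dvd_iff_pow_eq_one.1 h
  · left
    refine orderOf_dvd_of_pow_eq_one (el_pow_eq_one ?_ hfix)
    rw [rho_sq_pair u g (by decide), orderOf_dvd_iff_pow_eq_one.1 h]
    exact map_one _

theorem exists_six : ∃ z : Grp F, orderOf z = 6 := by
  haveI : Fact (Nat.Prime 3) := ⟨Nat.prime_three⟩
  have h3 : (3 : F) = 0 := CharP.cast_eq_zero F 3
  have hu3 : (uni F) ^ 3 = 1 := by
    refine Subtype.ext ?_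
    rw [Matrix.SpecialLinearGroup.coe_pow]
    ext i j
    fin_cases i <;> fin_cases j <;>
      simp [uni, pow_succ, Matrix.mul_apply, Fin.sum_univ_two]
    linear_combination h3
  refine ⟨el 0 (uni F, -1), ?_⟩
  have hpow : ∀ n, el (0 : M2) (uni F, (-1 : ℤˣ)) ^ n = el 0 ((uni F, -1) ^ n) := by
    intro n
    induction n with
    | zero => rw [pow_zero, pow_zero, eq_comm, el_eq_one_iff]; exact ⟨rfl, map_one _⟩
    | succ n ih => rw [pow_succ, ih, el_mul, ← pow_succ]; simp [act]
  have hd : orderOf (el (0 : M2) (uni F, (-1 : ℤˣ))) ∣ 6 := by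
    refine orderOf_dvd_of_pow_eq_one ?_
    rw [hpow, el_eq_one_iff]
    refine ⟨rfl, ?_⟩
    rw [rho_sq_pair (-1) (uni F) (by decide), show (6 : ℕ) = 3 * 2 from rfl, pow_mul, hu3, one_pow]
    exact map_one _
  have h2 : ¬ orderOf (el (0 : M2) (uni F, (-1 : ℤˣ))) ∣ 2 := by
    rw [orderOf_dvd_iff_pow_eq_one, hpow, el_eq_one_iff, rho_sq_pair (-1) (uni F) (by decide)]
    rintro ⟨-, h⟩
    have h4 := congrArg (fun z : SL2 => (z : M2)) (of_rho_eq_one h).1
    simp only [Matrix.SpecialLinearGroup.coe_pow, Matrix.SpecialLinearGroup.coe_one] at h4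
    have := congrFun (congrFun h4 0) 1
    simp [uni, pow_succ, Matrix.mul_apply, Fin.sum_univ_two] at this
    exact one_ne_zero (show (1 : F) = 0 by linear_combination this - h3)
  have h3' : ¬ orderOf (el (0 : M2) (uni F, (-1 : ℤˣ))) ∣ 3 := by
    rw [orderOf_dvd_iff_pow_eq_one, hpow, el_eq_one_iff, Prod.pow_mk, hu3]
    rintro ⟨-, h⟩
    exact absurd (of_rho_eq_one h).2 (by decide)
  have := Nat.le_of_dvd (by norm_num) hd
  interval_cases orderOf (el (0 : M2) (uni F, (-1 : ℤˣ))) <;> simp_all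

theorem exists_nine : ∃ z : Grp F, orderOf z = 9 := by
  haveI : Fact (Nat.Prime 3) := ⟨Nat.prime_three⟩
  have h3 : (3 : F) = 0 := CharP.cast_eq_zero F 3
  refine ⟨el !![0, 0; 0, 1] (uni F, 1), ?_⟩
  refine orderOf_eq_prime_pow (p := 3) (n := 1) ?_ ?_
  · rw [pow_one, pow_succ, sq, el_mul, el_mul, el_eq_one_iff]
    rintro ⟨h, -⟩
    have := congrFun (congrFun h 0) 0
    simp only [act, Prod.fst_mul, Prod.snd_mul, Units.val_one, mul_one, one_smul, Matrix.add_apply,
      Matrix.SpecialLinearGroup.coe_mul, Matrix.mul_apply, Matrix.transpose_apply, coe_tw,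
      Fin.sum_univ_two] at this
    simp [uni] at this
    exact one_ne_zero (show (1 : F) = 0 by linear_combination 6 * h3 - this)
  · refine el_pow_three_mul (n := 3) ?_
    rw [Prod.pow_mk, one_pow]
    refine rho_neg_one _ (pow_three_of_trace ?_)
    simp [uni, Matrix.trace_fin_two]
    linear_combination h3

/-- An element of the complement of given order. -/
theorem exists_of_order {g : SL2} {u : ℤˣ} {n : ℕ} (h1 : rho F ((g, u) ^ n) = 1)
    (h2 : ∀ m, g ^ (2 * m) = 1 → u ^ m = 1 → n ∣ m) :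
    ∃ z : Grp F, orderOf z = n := by
  refine ⟨SemidirectProduct.inr ⟨rho F (g, u), _, rfl⟩, ?_⟩
  rw [orderOf_injective _ SemidirectProduct.inr_injective, ← Subgroup.orderOf_coe]
  refine Nat.dvd_antisymm (orderOf_dvd_of_pow_eq_one (by rw [← map_pow]; exact h1)) ?_
  have h : rho F ((g, u) ^ orderOf (rho F (g, u))) = 1 := by rw [map_pow, pow_orderOf_eq_one]
  rw [Prod.pow_mk] at h
  obtain ⟨ha, hb⟩ := of_rho_eq_one h
  exact h2 _ (by rw [mul_comm, pow_mul]; exact ha) hb

theorem exists_sub_one (α : ℕ) (hodd : Odd α) (hF : Fintype.card F = 3 ^ α) :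
    ∃ z : Grp F, orderOf z = 3 ^ α - 1 := by
  obtain ⟨g, hg⟩ := Lib.Linear.exists_orderOf_eq_card_sub_one (F := F)
  rw [hF] at hg
  have hq4 : 3 ^ α % 4 = 3 := by
    obtain ⟨k, rfl⟩ := hodd
    rw [pow_succ, pow_mul, Nat.mul_mod, Nat.pow_mod]; norm_num
  refine exists_of_order (g := g) (u := -1) ?_ fun m hm hu => ?_
  · rw [rho_sq_pair (-1) g (by rw [Nat.even_iff]; omega), ← hg, pow_orderOf_eq_one]
    exact map_one _
  · have h2 : 2 ∣ m := by
      rcases Nat.even_or_odd m with he | ho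
      · exact he.two_dvd
      · rw [ho.neg_one_pow] at hu; exact absurd hu (by decide)
    obtain ⟨s, hs⟩ : ∃ s, 3 ^ α - 1 = 2 * s ∧ ¬ 2 ∣ s := ⟨(3 ^ α - 1) / 2, by omega, by omega⟩
    have := orderOf_dvd_of_pow_eq_one hm
    rw [hg, hs.1] at this
    rw [hs.1]
    exact Nat.Coprime.mul_dvd_of_dvd_of_dvd ((Nat.Prime.coprime_iff_not_dvd Nat.prime_two).2 hs.2)
      h2 (Nat.dvd_of_mul_dvd_mul_left (by norm_num) this)

theorem exists_add_one (α : ℕ) (hodd : Odd α) (hF : Fintype.card F = 3 ^ α) :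
    ∃ z : Grp F, orderOf z = (3 ^ α + 1) / 2 := by
  obtain ⟨g, hg⟩ := Lib.Linear.exists_orderOf_eq_card_add_one (F := F)
  rw [hF] at hg
  have hq4 : 3 ^ α % 4 = 3 := by
    obtain ⟨k, rfl⟩ := hodd
    rw [pow_succ, pow_mul, Nat.mul_mod, Nat.pow_mod]; norm_num
  refine exists_of_order (g := g) (u := 1) ?_ fun m hm _ => ?_
  · rw [Prod.pow_mk, one_pow]
    refine rho_neg_one _ ?_
    rw [← pow_add, show (3 ^ α + 1) / 2 + (3 ^ α + 1) / 2 = orderOf g by omega, pow_orderOf_eq_one]
  · have := orderOf_dvd_of_pow_eq_one hm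
    rw [hg, show 3 ^ α + 1 = 2 * ((3 ^ α + 1) / 2) by omega] at this
    exact Nat.dvd_of_mul_dvd_mul_left (by norm_num) this

end

/-- Let q = 3^α with α ≥ 3 odd. There is a finite group H having a non-trivial normal 3-subgroup and whose element orders maximal under divisibility are exactly 6, 9, q − 1 and (q + 1)/2. -/
theorem result (α : ℕ) (hα : 3 ≤ α) (hodd : Odd α) :
    ∃ (H : Type) (_ : Group H) (_ : Fintype H), (∃ P : Subgroup H, P.Normal ∧ P ≠ ⊥ ∧ IsPGroup 3 ↥P) ∧
      {n : ℕ | n ∈ Set.range (orderOf : H → ℕ) ∧ ∀ m ∈ Set.range (orderOf : H → ℕ), n ∣ m → m = n} = ({6, 9, 3 ^ α - 1, (3 ^ α + 1) / 2} : Set ℕ) := by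
  haveI : Fact (Nat.Prime 3) := ⟨Nat.prime_three⟩
  let F := GaloisField 3 α
  haveI : CharP F 3 := inferInstance
  letI : Fintype F := Fintype.ofFinite F
  have hF : Fintype.card F = 3 ^ α := by
    rw [← Nat.card_eq_fintype_card, GaloisField.card 3 α (by omega)]
  haveI : Finite (rho F).range := inferInstance
  haveI : Finite (Grp F) := Finite.of_injective (fun z => (z.left, z.right))
    fun a b h => SemidirectProduct.ext (congrArg Prod.fst h) (congrArg Prod.snd h)
  refine ⟨Grp F, inferInstance, Fintype.ofFinite _, ⟨(SemidirectProduct.inl :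
      Multiplicative (Matrix (Fin 2) (Fin 2) F) →* Grp F).range, ?_, ?_, ?_⟩, ?_⟩
  · rw [SemidirectProduct.range_inl_eq_ker_rightHom]; infer_instance
  · intro h
    have : SemidirectProduct.inl (Multiplicative.ofAdd (1 : Matrix (Fin 2) (Fin 2) F)) ∈
        (⊥ : Subgroup (Grp F)) := h ▸ ⟨_, rfl⟩
    rw [Subgroup.mem_bot, ← map_one (SemidirectProduct.inl : Multiplicative (Matrix (Fin 2) (Fin 2) F) →* Grp F)] at this
    exact one_ne_zero (Multiplicative.ofAdd.injective (SemidirectProduct.inl_injective this))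
  · rintro ⟨_, v, rfl⟩
    refine ⟨1, Subtype.ext ?_⟩
    show SemidirectProduct.inl v ^ (3 ^ 1) = 1
    rw [← map_pow, show v ^ (3 ^ 1) = 1 from ?_, map_one]
    rw [pow_one, pow_succ, sq]
    exact three_nsmul_eq_zero v.toAdd
  have h27 : 27 ≤ 3 ^ α := le_trans (by norm_num) (Nat.pow_le_pow_right (by norm_num) hα)
  have h3 : 3 ∣ 3 ^ α := dvd_pow_self 3 (by omega)
  have hq4 : 3 ^ α % 4 = 3 := by
    obtain ⟨k, rfl⟩ := hodd
    rw [pow_succ, pow_mul, Nat.mul_mod, Nat.pow_mod]; norm_num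
  -- the four numbers are pairwise incomparable
  have hanti : ∀ a ∈ ({6, 9, 3 ^ α - 1, (3 ^ α + 1) / 2} : Set ℕ),
      ∀ b ∈ ({6, 9, 3 ^ α - 1, (3 ^ α + 1) / 2} : Set ℕ), a ∣ b → a = b := by
    simp only [Set.mem_insert_iff, Set.mem_singleton_iff]
    rintro a (rfl | rfl | rfl | rfl) b (rfl | rfl | rfl | rfl) hab <;> try rfl
    all_goals
      first
        | omega
        | exact absurd (Nat.le_of_dvd (by omega) hab) (by omega)
        | (obtain ⟨c, hc⟩ := hab
           rcases Nat.lt_or_ge c 2 with hc2 | hc2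
           · interval_cases c <;> omega
           · have := Nat.mul_le_mul_left ((3 ^ α + 1) / 2) hc2; omega)
  have hmem : ∀ a ∈ ({6, 9, 3 ^ α - 1, (3 ^ α + 1) / 2} : Set ℕ), a ∈ Set.range (orderOf : Grp F → ℕ) := by
    simp only [Set.mem_insert_iff, Set.mem_singleton_iff]
    rintro a (rfl | rfl | rfl | rfl)
    exacts [exists_six, exists_nine, exists_sub_one α hodd hF, exists_add_one α hodd hF]
  have hcov : ∀ z : Grp F, ∃ a ∈ ({6, 9, 3 ^ α - 1, (3 ^ α + 1) / 2} : Set ℕ), orderOf z ∣ a := by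
    intro z
    rcases order_cases α hodd hF z with h | h | h | h
    exacts [⟨6, by simp, h⟩, ⟨9, by simp, h⟩, ⟨3 ^ α - 1, by simp, h⟩, ⟨(3 ^ α + 1) / 2, by simp, h⟩]
  ext n
  refine ⟨fun ⟨⟨z, hz⟩, hmax⟩ => ?_, fun hn => ⟨hmem n hn, ?_⟩⟩
  · obtain ⟨a, ha, hza⟩ := hcov z
    rw [← hmax a (hmem a ha) (hz ▸ hza)]
    exact ha
  · rintro m ⟨z, rfl⟩ hnm
    obtain ⟨a, ha, hza⟩ := hcov z
    obtain rfl := hanti n hn a ha (hnm.trans hza)
    exact Nat.dvd_antisymm hza hnm

end Cfsg.Agent.S2515
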