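import Cfsg.Statements.S2516
import Mathlib

set_option autoImplicit false
open Cfsg

namespace Cfsg.Agent.S2516

theorem pow_left_sum {V : Type*} [AddCommGroup V] {G : Type*} [Group G] (φ : G →* MulAut (Multiplicative V))
    (g : G) (v : V) (k : ℕ) :
    (⟨Multiplicative.ofAdd v, g⟩ : Multiplicative V ⋊[φ] G) ^ k =
      ⟨Multiplicative.ofAdd (∑ i ∈ Finset.range k, Multiplicative.toAdd (φ (g ^ i) (Multiplicative.ofAdd v))), g ^ k⟩ := by
  induction k with
  | zero => simp
  | succ k ih =>
    rw [pow_succ, ih]
    apply SemidirectProduct.ext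
    · rw [SemidirectProduct.mul_left, Finset.sum_range_succ, ofAdd_add]
      rfl
    · rw [SemidirectProduct.mul_right, pow_succ]

/-- Let F be a field of characteristic p > 0, V a non-zero finite-dimensional F-vector space, G a finite group and ρ a representation of G on V; form the semidirect product V ⋊ G. For g ∈ G of order k, the coset Vg contains an element of order pk if and only if the minimal polynomial of ρ(g) does not divide 1 + X + ⋯ + X^(k−1). -/
theorem result {F : Type*} [Field F] (p : ℕ) [Fact p.Prime] [CharP F p] {V : Type*} [AddCommGroup V] [Module F V] [FiniteDimensional F V] [Nontrivial V]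
    {G : Type*} [Group G] [Finite G] (ρ : Representation F G V) (g : G) :
    (∃ x : Multiplicative V ⋊[(MulAutMultiplicative V).symm.toMonoidHom.comp
        ((DistribMulAction.toAddAut ((V →ₗ[F] V)ˣ) V).comp ρ.asGroupHom)] G,
        x.right = g ∧ orderOf x = p * orderOf g) ↔
      ¬ (minpoly F (ρ g) ∣ ∑ i ∈ Finset.range (orderOf g), (Polynomial.X : Polynomial F) ^ i) := by
  have hp : p.Prime := Fact.out
  have hk : 0 < orderOf g := orderOf_pos g
  set φ := (MulAutMultiplicative V).symm.toMonoidHom.comp
    ((DistribMulAction.toAddAut ((V →ₗ[F] V)ˣ) V).comp ρ.asGroupHom) with hφ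
  have happ : ∀ (h : G) (v : V), Multiplicative.toAdd (φ h (Multiplicative.ofAdd v)) = ρ h v := fun _ _ => rfl
  have hS : ∀ v : V, ∑ i ∈ Finset.range (orderOf g), Multiplicative.toAdd (φ (g ^ i) (Multiplicative.ofAdd v)) =
      (Polynomial.aeval (ρ g) (∑ i ∈ Finset.range (orderOf g), (Polynomial.X : Polynomial F) ^ i)) v := by
    intro v
    rw [map_sum, LinearMap.sum_apply]
    refine Finset.sum_congr rfl fun i _ => ?_
    rw [happ, map_pow ρ, map_pow, Polynomial.aeval_X]
  rw [minpoly.dvd_iff]
  constructor
  · rintro ⟨⟨v, h⟩, rfl, hx⟩ h0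
    have h1 := pow_left_sum φ h (Multiplicative.toAdd v) (orderOf h)
    rw [hS, h0, LinearMap.zero_apply, pow_orderOf_eq_one] at h1
    have h2 := orderOf_dvd_of_pow_eq_one h1
    have h3 := Nat.le_of_dvd hk (hx ▸ h2)
    exact absurd h3 (not_le.2 (lt_mul_of_one_lt_left hk hp.one_lt))
  · intro h0
    obtain ⟨v, hv⟩ : ∃ v : V, (Polynomial.aeval (ρ g)
        (∑ i ∈ Finset.range (orderOf g), (Polynomial.X : Polynomial F) ^ i)) v ≠ 0 := by
      by_contra hcon
      push Not at hcon
      exact h0 (LinearMap.ext hcon)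
    set x : Multiplicative V ⋊[φ] G := ⟨Multiplicative.ofAdd v, g⟩ with hx
    refine ⟨x, rfl, ?_⟩
    have h1 := pow_left_sum φ g v (orderOf g)
    rw [hS, pow_orderOf_eq_one, ← hx] at h1
    have h2 : orderOf (x ^ orderOf g) = p := by
      refine orderOf_eq_prime ?_ ?_
      · rw [h1, pow_left_sum]
        simp only [one_pow, map_one, MulAut.one_apply, toAdd_ofAdd, Finset.sum_const, Finset.card_range]
        rw [← Nat.cast_smul_eq_nsmul F, CharP.cast_eq_zero, zero_smul]
        rfl
      · rw [h1]
        intro h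
        exact hv (congrArg (fun y => Multiplicative.toAdd y.left) h)
    have hfin : 0 < orderOf x := by
      rw [orderOf_pos_iff]
      have hf : IsOfFinOrder (x ^ orderOf g) := orderOf_pos_iff.1 (by rw [h2]; exact hp.pos)
      exact hf.of_pow (by omega)
    have hdvd : orderOf g ∣ orderOf x := orderOf_map_dvd (SemidirectProduct.rightHom) x
    have h3 := orderOf_pow_of_dvd (by omega : orderOf g ≠ 0) hdvd
    rw [h2] at h3
    rw [h3, Nat.div_mul_cancel hdvd]

end Cfsg.Agent.S2516
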