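import Cfsg.Statements.S2517
import Cfsg.Agent.Lib.SpecNine64.Main
import Cfsg.Agent.Lib.OrthOmega.Simple

set_option autoImplicit false
open Cfsg

namespace Cfsg.Agent.S2517

open Module QuadraticMap
open Cfsg.Agent.Lib.Forms Cfsg.Agent.Lib.OrthStd Cfsg.Agent.Lib.OrthOmega
open Cfsg.Agent.Lib.Orth52
open Cfsg.Agent.Lib.SpecNine64

theorem center_trivial {F : Type*} [Field F] [Fintype F] (h2 : (2 : F) ≠ 0) :
    Subgroup.center (Cfsg.Omega F (Cfsg.quadFormOdd 4 F)) = ⊥ := by
  have hQ : Nondeg (qOddC 4 F) := qOddC_nondeg 4 h2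
  have hd : finrank F (Unit ⊕ (Fin 4 ⊕ Fin 4) → F) = 9 := by
    rw [Module.finrank_fintype_fun_eq_card]; rfl
  have hc := center_eq_bot_of_not_neg (qOddC 4 F) hQ (by omega) (by
    rintro ⟨g, hg, hneg⟩
    have h := ((mem_commutator_iff_spin hQ h2 (by omega) g).1 hg).1
    have hfix : fixSpace g.1 = ⊥ := by
      rw [Submodule.eq_bot_iff]
      intro x hx
      rw [mem_fixSpace, hneg] at hx
      have : (2 : F) • x = 0 := by
        rw [two_smul]; nth_rw 1 [← hx]; exact neg_add_cancel x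
      exact (smul_eq_zero.1 this).resolve_left h2
    have hr := finrank_range_dev g.1
    rw [hfix, finrank_bot, add_zero, hd] at hr
    rw [dickson, hr] at h
    exact absurd h (by decide))
  rw [Subgroup.card_eq_one] at hc
  let e : Cfsg.Omega F (Cfsg.quadFormOdd 4 F) ≃* EG (qOddC 4 F) :=
    (omegaEquiv (qOddC 4 F) (quadFormOdd_eq 4)).trans
      (MulEquiv.subgroupCongr (commutator_eq_EG hQ (by omega)))
  rw [Subgroup.eq_bot_iff_forall]
  intro x hx
  have : e x ∈ Subgroup.center (EG (qOddC 4 F)) := by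
    rw [← map_center_mulEquiv e]; exact Subgroup.mem_map_of_mem _ hx
  rw [hc, Subgroup.mem_bot] at this
  exact e.injective (this.trans (map_one e).symm)

/-- Let F be a finite field of odd order q, let Ω₉ be the simple orthogonal group PΩ(9, F), and let Ω₈⁻ be the commutator subgroup of the isometry group of a minus-type non-singular quadratic form on V = F⁸ (the simple group PΩ⁻(8, F), acting on its natural module V). Then Ω₉ and the semidirect product V ⋊ Ω₈⁻ have exactly the same set of element orders. -/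
theorem result {F : Type*} [Field F] [Fintype F] (hF : Odd (Fintype.card F)) (a b : F)
    (hab : ∀ z₁ z₂ : F, z₁ ^ 2 + a * z₁ * z₂ + b * z₂ ^ 2 = 0 → z₁ = 0 ∧ z₂ = 0) :
    Set.range (orderOf : Cfsg.POmega F (Cfsg.quadFormOdd 4 F) → ℕ) =
      Set.range (orderOf :
        (Multiplicative (((Fin 3 ⊕ Fin 3) ⊕ Fin 2) → F)) ⋊[
          (MulAutMultiplicative (((Fin 3 ⊕ Fin 3) ⊕ Fin 2) → F)).symm.toMonoidHom.comp
           ((DistribMulAction.toAddAut (LinearMap.GeneralLinearGroup F (((Fin 3 ⊕ Fin 3) ⊕ Fin 2) → F))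
              (((Fin 3 ⊕ Fin 3) ⊕ Fin 2) → F)).comp
            (Matrix.GeneralLinearGroup.toLin.toMonoidHom.comp
              ((Cfsg.isometryGroup F (Cfsg.quadFormMinus 3 F a b)).subtype.comp
                (Cfsg.Omega F (Cfsg.quadFormMinus 3 F a b)).subtype)))]
          ↥(Cfsg.Omega F (Cfsg.quadFormMinus 3 F a b)) → ℕ) := by
  classical
  obtain ⟨p, hpc⟩ := CharP.exists F
  have hp : Fact p.Prime := ⟨CharP.char_is_prime F p⟩
  have h2 := two_ne_zero_of_odd hF
  set Q' := qOddC 4 F with hQ'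
  set Q := qMinusC 3 a b with hQdef
  have hnd' : Nondeg Q' := qOddC_nondeg 4 h2
  have hd' : finrank F (Unit ⊕ (Fin 4 ⊕ Fin 4) → F) = 9 := by
    rw [Module.finrank_fintype_fun_eq_card]; rfl
  have hM : MinusEight Q :=
    { nd := (prod_nondeg (qPlus_nondeg 3) (qBin_nondeg hab)).of_equiv (minusIso 3 a b).symm
      dim := by rw [Module.finrank_fintype_fun_eq_card]; rfl
      lvl := by
        rw [levelCard, card_level_congr ⟨minusIso 3 a b⟩]
        show levelCard _ 1 ≠ _
        rw [levelCard_plus_prod, levelCard_qBin hab one_ne_zero, Module.finrank_fintype_fun_eq_card,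
          Fintype.card_fin, show 3 + 2 - 1 = 4 by norm_num]
        intro h
        have hq : 2 ≤ Nat.card F := Finite.one_lt_card
        have h3 : 1 ≤ Nat.card F ^ 3 := Nat.one_le_pow _ _ (by omega)
        have h4 : 1 ≤ Nat.card F ^ 4 := Nat.one_le_pow _ _ (by omega)
        zify [h3, h4] at h
        have h5 : (0 : ℤ) < (Nat.card F : ℤ) ^ 3 := by positivity
        nlinarith }
  let eM := omegaEquiv Q (quadFormMinus_eq 3 a b)
  let eX : _ ≃* Cfsg.Agent.Lib.SpectrumExt.Semidirect.Ext (rho Q) :=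
    SemidirectProduct.congr (φ₁ := (MulAutMultiplicative (((Fin 3 ⊕ Fin 3) ⊕ Fin 2) → F)).symm.toMonoidHom.comp
           ((DistribMulAction.toAddAut (LinearMap.GeneralLinearGroup F (((Fin 3 ⊕ Fin 3) ⊕ Fin 2) → F))
              (((Fin 3 ⊕ Fin 3) ⊕ Fin 2) → F)).comp
            (Matrix.GeneralLinearGroup.toLin.toMonoidHom.comp
              ((Cfsg.isometryGroup F (Cfsg.quadFormMinus 3 F a b)).subtype.comp
                (Cfsg.Omega F (Cfsg.quadFormMinus 3 F a b)).subtype))))
      (MulEquiv.refl _) eM (fun g => MulEquiv.ext fun v => rfl)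
  have hker := center_trivial (F := F) h2
  let eP := omegaEquiv Q' (quadFormOdd_eq 4)
  have hP : ∀ z : Cfsg.Omega F (Cfsg.quadFormOdd 4 F),
      orderOf (z : Cfsg.POmega F (Cfsg.quadFormOdd 4 F)) = orderOf (eP z : orth Q') := fun z => by
    rw [Subgroup.orderOf_coe, MulEquiv.orderOf_eq]
    refine orderOf_injective (QuotientGroup.mk' _) ?_ z
    rw [← MonoidHom.ker_eq_bot_iff, QuotientGroup.ker_mk', hker]
  ext N
  constructor
  · rintro ⟨x, rfl⟩
    obtain ⟨z, rfl⟩ := QuotientGroup.mk_surjective x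
    obtain ⟨y, hy⟩ := good_of_nine p hnd' hd' hM h2 (eP z).2
    rw [← hP] at hy
    obtain ⟨y', rfl⟩ := eX.surjective y
    rw [MulEquiv.orderOf_eq] at hy
    have : Finite _ := Finite.of_equiv _ eX.symm.toEquiv
    exact mem_range_of_dvd_order hy
  · rintro ⟨x, rfl⟩
    obtain ⟨y, hy, hdvd⟩ := nine_of_ext p hnd' hd' hM h2 (eX x)
    rw [MulEquiv.orderOf_eq] at hdvd
    obtain ⟨z, hz⟩ := eP.surjective ⟨y, hy⟩
    refine mem_range_of_dvd_order (x := (z : Cfsg.POmega F (Cfsg.quadFormOdd 4 F))) ?_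
    rw [hP, hz]
    exact hdvd

end Cfsg.Agent.S2517
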