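import Cfsg.Statements.S2518
import Cfsg.Agent.Lib.GTwoThree.Basic
import Cfsg.Agent.Lib.RecogThree.PSL2Orders

set_option autoImplicit false
open Cfsg

namespace Cfsg.Agent.S2518

open Cfsg.Lie Cfsg.Agent.Lib.GTwoThree

lemma xMat_map {F E : Type*} [Field F] [Field E] (D : ChevalleyDatum) (f : F ≃+* E) (r : Fin D.nroots) (t : F) :
    (D.xMat F r t).map f = D.xMat E r (f t) := by
  ext row col
  simp only [Matrix.map_apply, ChevalleyDatum.xMat, Matrix.of_apply]
  rcases col with i | s
  · rcases row with i' | u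
    · dsimp only; split_ifs <;> simp
    · dsimp only; split_ifs <;> simp
  · dsimp only
    split_ifs with h1 h2
    · rcases row with i' | u
      · simp
      · dsimp only; split_ifs <;> simp
    · rcases row with i' | u
      · simp
      · dsimp only; split_ifs <;> simp
    · rcases row with i' | u
      · simp
      · simp [map_list_sum, List.map_map, Function.comp_def, apply_ite (f : F → E)]

lemma map_mem {F E : Type*} [Field F] [Field E] (D : ChevalleyDatum) (f : F ≃+* E) {g : GL D.Idx F}
    (hg : g ∈ D.group F) : Matrix.GeneralLinearGroup.map (f : F →+* E) g ∈ D.group E := by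
  induction hg using Subgroup.closure_induction with
  | mem x hx =>
    obtain ⟨r, t, hx⟩ := hx
    refine Subgroup.subset_closure ⟨r, f t, ?_⟩
    show (x : Matrix D.Idx D.Idx F).map f = _
    rw [hx, xMat_map]
  | one => simp
  | mul x y _ _ hx hy => simpa [map_mul] using mul_mem hx hy
  | inv x _ hx => simpa [map_inv] using inv_mem hx

lemma exists_iso {F : Type*} [Field F] [Fintype F] (hF : Fintype.card F = 3) :
    Nonempty (↥(chevG2.group F) ≃* G3) := by
  let f : F ≃+* ZMod 3 := (ZMod.ringEquivOfPrime F Nat.prime_three hF).symm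
  exact ⟨{ toFun := fun g => ⟨_, map_mem chevG2 f g.2⟩
           invFun := fun g => ⟨_, map_mem chevG2 f.symm g.2⟩
           left_inv := fun g => Subtype.ext (Units.ext (Matrix.ext fun i j => f.symm_apply_apply _))
           right_inv := fun g => Subtype.ext (Units.ext (Matrix.ext fun i j => f.apply_symm_apply _))
           map_mul' := fun a b => Subtype.ext (map_mul _ _ _) }⟩

lemma dvd_card_iff {G : Type*} [Group G] [Finite G] {r : ℕ} (hr : r.Prime) :
    r ∣ Nat.card G ↔ ∃ x : G, orderOf x = r := by
  haveI : Fact r.Prime := ⟨hr⟩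
  exact ⟨fun h => exists_prime_orderOf_dvd_card' r h, fun ⟨x, hx⟩ => hx ▸ orderOf_dvd_natCard x⟩

/-- Let F₃ be the field with 3 elements and F₁₃ the field with 13 elements. The Chevalley group G₂(F₃) and PSL(2, F₁₃) have the same prime graph: the same prime divisors of their orders, and for distinct primes r, s an element of order rs in one iff in the other. -/
theorem result {F : Type*} [Field F] [Fintype F] (hF : Fintype.card F = 3) {E : Type*} [Field E] [Fintype E] (hE : Fintype.card E = 13) :
    ((∀ r : ℕ, r.Prime → (r ∣ Nat.card ↥(Cfsg.Lie.chevG2.group F) ↔ r ∣ Nat.card (Matrix.ProjectiveSpecialLinearGroup (Fin 2) E))) ∧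
      (∀ r s : ℕ, r.Prime → s.Prime → r ≠ s → ((∃ x : ↥(Cfsg.Lie.chevG2.group F), orderOf x = r * s) ↔ (∃ y : (Matrix.ProjectiveSpecialLinearGroup (Fin 2) E), orderOf y = r * s)))) := by
  classical
  obtain ⟨e⟩ := exists_iso hF
  have horder : ∀ n : ℕ, (∃ x : ↥(Cfsg.Lie.chevG2.group F), orderOf x = n) ↔ ∃ x : G3, orderOf x = n := fun n =>
    ⟨fun ⟨x, hx⟩ => ⟨e x, by rw [MulEquiv.orderOf_eq, hx]⟩, fun ⟨x, hx⟩ => ⟨e.symm x, by rw [MulEquiv.orderOf_eq, hx]⟩⟩
  haveI : Fact (Nat.Prime 13) := ⟨by norm_num⟩
  have h13 : ((13 : ℕ) : E) = 0 := by rw [← hE]; exact FiniteField.cast_card_eq_zero E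
  haveI : CharP E 13 := (CharP.charP_iff_prime_eq_zero (by norm_num)).2 h13
  have hω : ∀ n : ℕ, (∃ y : Matrix.ProjectiveSpecialLinearGroup (Fin 2) E, orderOf y = n) ↔
      (n ∣ 13 ∨ n ∣ 6 ∨ n ∣ 7) := by
    intro n
    have h := Cfsg.Agent.Lib.RecogThree.PSL2Orders.range_orderOf (F := E) 13
    have hd : Cfsg.Agent.Lib.RecogThree.PSL2Orders.dd 13 = 2 := rfl
    rw [hE, hd] at h
    exact Set.ext_iff.1 h n
  constructor
  · intro r hr
    rw [dvd_card_iff hr, dvd_card_iff hr, horder, hω]
    constructor
    · rintro ⟨x, hx⟩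
      rcases prime_order_cases hr hx with rfl | rfl | rfl | rfl <;> norm_num
    · intro h
      obtain ⟨g6, h6⟩ := exists_six
      have hrs : r = 13 ∨ r = 2 ∨ r = 3 ∨ r = 7 := by
        rcases h with h | h | h
        · exact Or.inl ((Nat.prime_dvd_prime_iff_eq hr (by norm_num)).1 h)
        · rcases (Nat.Prime.dvd_mul hr).1 (show r ∣ 2 * 3 by exact h) with h | h
          · exact Or.inr (Or.inl ((Nat.prime_dvd_prime_iff_eq hr Nat.prime_two).1 h))
          · exact Or.inr (Or.inr (Or.inl ((Nat.prime_dvd_prime_iff_eq hr Nat.prime_three).1 h)))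
        · exact Or.inr (Or.inr (Or.inr ((Nat.prime_dvd_prime_iff_eq hr (by norm_num)).1 h)))
      rcases hrs with rfl | rfl | rfl | rfl
      · exact exists_thirteen
      · exact ⟨g6 ^ 3, by rw [orderOf_pow_of_dvd (by norm_num) (by rw [h6]; norm_num), h6]⟩
      · exact ⟨g6 ^ 2, by rw [orderOf_pow_of_dvd (by norm_num) (by rw [h6]; norm_num), h6]⟩
      · exact exists_seven
  · intro r s hr hs hrs
    rw [horder, hω]
    constructor
    · rintro ⟨x, hx⟩
      rw [product_order hr hs hrs hx]
      norm_num
    · intro h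
      have h6 : r * s = 6 := by
        have key : ∀ n : ℕ, n.Prime → r * s ∣ n → False := by
          intro n hn h
          rcases (Nat.dvd_prime hn).1 h with h | h
          · exact hr.one_lt.ne' (Nat.eq_one_of_mul_eq_one_right h)
          · exact Nat.not_prime_mul hr.one_lt.ne' hs.one_lt.ne' (h ▸ hn)
        rcases h with h | h | h
        · exact (key 13 (by norm_num) h).elim
        · have hle := Nat.le_of_dvd (by norm_num) h
          have h4 : 4 ≤ r * s := Nat.mul_le_mul hr.two_le hs.two_le
          interval_cases hn : r * s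
          · norm_num at h
          · norm_num at h
          · rfl
        · exact (key 7 (by norm_num) h).elim
      rw [h6]
      exact exists_six

end Cfsg.Agent.S2518
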