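import Cfsg.Statements.S2521
-- import your own Cfsg.Agent.* helpers here

set_option autoImplicit false
open Cfsg

namespace Cfsg.Agent.S2521

/-- Let B be a finite group that is the semidirect product of a nilpotent normal subgroup U by an abelian subgroup T (U ∩ T = 1, UT = B), and let t ∈ T have centralizer exactly T. Then every element of the coset tU is conjugate to t in B: for each u ∈ U there is b ∈ B with b t b⁻¹ = t u. -/
theorem result {B : Type*} [Group B] [Finite B] (U T : Subgroup B) [U.Normal] (hU : Group.IsNilpotent ↥U) (hT : IsMulCommutative ↥T)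
    (hcompl : Subgroup.IsComplement' U T) (t : B) (ht : t ∈ T) (hreg : Subgroup.centralizer ({t} : Set B) = T) (u : B) (hu : u ∈ U) :
    ∃ b : B, b * t * b⁻¹ = t * u := by
  classical
  have hmem : ∀ b : U, t⁻¹ * ((b : B) * t * (b : B)⁻¹) ∈ U := by
    intro b
    have h1 : t⁻¹ * (b : B) * t⁻¹⁻¹ ∈ U := Subgroup.Normal.conj_mem inferInstance _ b.2 _
    have : t⁻¹ * ((b : B) * t * (b : B)⁻¹) = (t⁻¹ * (b : B) * t⁻¹⁻¹) * (b : B)⁻¹ := by group
    rw [this]
    exact U.mul_mem h1 (U.inv_mem b.2)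
  let φ : U → U := fun b => ⟨_, hmem b⟩
  have hinj : Function.Injective φ := by
    intro b c h
    have h' : (b : B) * t * (b : B)⁻¹ = (c : B) * t * (c : B)⁻¹ :=
      mul_left_cancel (congrArg Subtype.val h)
    have hc : t * ((c : B)⁻¹ * b) = ((c : B)⁻¹ * b) * t := by
      calc t * ((c : B)⁻¹ * b) = (c : B)⁻¹ * ((c : B) * t * (c : B)⁻¹) * b := by group
        _ = (c : B)⁻¹ * ((b : B) * t * (b : B)⁻¹) * b := by rw [h']
        _ = ((c : B)⁻¹ * b) * t := by group
    have hT' : (c : B)⁻¹ * b ∈ T := by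
      rw [← hreg, Subgroup.mem_centralizer_iff]
      intro y hy
      rw [Set.mem_singleton_iff] at hy
      subst hy
      exact hc
    have hU' : (c : B)⁻¹ * b ∈ U := U.mul_mem (U.inv_mem c.2) b.2
    have h1 : (c : B)⁻¹ * b = 1 := Subgroup.mem_bot.1 (hcompl.disjoint.le_bot ⟨hU', hT'⟩)
    exact Subtype.ext (inv_mul_eq_one.1 h1).symm
  obtain ⟨b, hb⟩ := (Finite.injective_iff_surjective.1 hinj) ⟨u, hu⟩
  refine ⟨b, ?_⟩
  have hb' : t⁻¹ * ((b : B) * t * (b : B)⁻¹) = u := congrArg Subtype.val hb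
  rw [← hb']
  group

end Cfsg.Agent.S2521
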