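import Cfsg.Statements.S2522
import Cfsg.Agent.Lib.Sourour.Product

set_option autoImplicit false
open Cfsg

namespace Cfsg.Agent.S2522

open Matrix Cfsg.Agent.Lib.Sourour

variable {K : Type*} [Field K] {k : ℕ}

theorem conj_of_sim {M M' N : Matrix (Fin k) (Fin k) K} (h : Sim M N) (h' : Sim M' N) :
    ∃ Z : GL (Fin k) K, M * Z = Z * M' := by
  obtain ⟨A, hA, hMA⟩ := h
  obtain ⟨B, hB, hMB⟩ := h'
  let uA : GL (Fin k) K := ((Matrix.isUnit_iff_isUnit_det A).2 hA).unit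
  let uB : GL (Fin k) K := ((Matrix.isUnit_iff_isUnit_det B).2 hB).unit
  have h1 : N * (↑uB⁻¹ : Matrix (Fin k) (Fin k) K) = (↑uB⁻¹ : Matrix (Fin k) (Fin k) K) * M' := by
    rw [← Units.mul_right_inj uB, ← mul_assoc, show (uB : Matrix (Fin k) (Fin k) K) * N = M' * uB from hMB.symm,
      mul_assoc, Units.mul_inv, mul_one, ← mul_assoc, Units.mul_inv, one_mul]
  refine ⟨uA * uB⁻¹, ?_⟩
  show M * ((uA : Matrix (Fin k) (Fin k) K) * (↑uB⁻¹ : Matrix (Fin k) (Fin k) K)) =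
    (uA : Matrix (Fin k) (Fin k) K) * (↑uB⁻¹ : Matrix (Fin k) (Fin k) K) * M'
  rw [← mul_assoc, show M * (uA : Matrix (Fin k) (Fin k) K) = uA * N from hMA, mul_assoc, h1, ← mul_assoc]

/-- Let K be a field with at least four elements (finite or infinite), n ≥ 3, and J ∈ GL(n, K) the regular unipotent matrix (ones on the diagonal and the superdiagonal, zeros elsewhere). Then every non-scalar g ∈ GL(n, K) with det g = 1 is a product of two GL(n, K)-conjugates of J. -/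
theorem result {K : Type*} [Field K] (hK : 4 ≤ Cardinal.mk K) (n : ℕ) (hn : 3 ≤ n) (J g : GL (Fin n) K)
    (hJ : ∀ i j : Fin n, (J : Matrix (Fin n) (Fin n) K) i j = if i = j then 1 else if j.val = i.val + 1 then 1 else 0)
    (hg : ¬ ∃ c : K, (g : Matrix (Fin n) (Fin n) K) = c • (1 : Matrix (Fin n) (Fin n) K))
    (hdet : (g : Matrix (Fin n) (Fin n) K).det = 1) :
    ∃ x y : GL (Fin n) K, g = (x * J * x⁻¹) * (y * J * y⁻¹) := by
  classical
  obtain ⟨k, rfl⟩ : ∃ k, n = k + 2 := ⟨n - 2, by omega⟩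
  set β : Fin (k + 2) → K := fun _ => 1 with hβ
  have hr : Runs β 0 1 := ⟨fun i hi => absurd hi (Nat.not_lt_zero _), fun i _ => rfl⟩
  have hnv : ∀ i j : Fin (k + 2), i.val + 1 = j.val → i ≠ j := fun i j h he => by rw [he] at h; omega
  have hJz : ∀ i j : Fin (k + 2), j < i → (J : Matrix (Fin (k + 2)) (Fin (k + 2)) K) i j = 0 := by
    intro i j h
    have h' : j.val < i.val := h
    rw [hJ, if_neg h.ne', if_neg (by omega)]
  have hJd : ∀ i, (J : Matrix (Fin (k + 2)) (Fin (k + 2)) K) i i = β i := fun i => by rw [hJ, if_pos rfl]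
  have hJn : ∀ i j : Fin (k + 2), i.val + 1 = j.val → (J : Matrix (Fin (k + 2)) (Fin (k + 2)) K) i j = 1 :=
    fun i j h => by rw [hJ, if_neg (hnv i j h), if_pos (by omega)]
  have hsJ : Sim (J : Matrix (Fin (k + 2)) (Fin (k + 2)) K) (nf β 0) :=
    up_similar hr hJz hJd fun i j h _ => by rw [hJn i j h]; exact one_ne_zero
  obtain ⟨Ji, hJJi, hJiJ, hJiz, hJid, hJin⟩ := up_inv (γ := β) (fun _ => one_ne_zero) hJz hJd
  have hsJi : Sim Ji (nf β 0) :=
    up_similar hr hJiz (fun i => by rw [hJid]; simp [hβ]) fun i j h _ => by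
      rw [hJin i j h, hJn i j h]; simp [hβ]
  obtain ⟨P, P', X, Y, Y', hPP, hPAP, hYY, -, hX, hY'⟩ := split_of_not_scalar (four_of_card hK) hdet
    (fun c hc => hg ⟨c, hc⟩) (β := β) (fun _ => one_ne_zero) hr (Or.inr (by omega))
  obtain ⟨Z₁, hZ₁⟩ := conj_of_sim hX hsJ
  obtain ⟨Z₂, hZ₂⟩ := conj_of_sim hY' hsJi
  let uP : GL (Fin (k + 2)) K := ⟨P, P', mul_eq_one_comm.1 hPP, hPP⟩
  refine ⟨uP * Z₁, uP * Z₂, Units.ext ?_⟩
  have hJi : (↑J⁻¹ : Matrix (Fin (k + 2)) (Fin (k + 2)) K) = Ji :=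
    left_inv_eq_right_inv (Units.inv_mul J) hJJi
  have hX' : X = (Z₁ : Matrix (Fin (k + 2)) (Fin (k + 2)) K) * J * (↑Z₁⁻¹ : Matrix (Fin (k + 2)) (Fin (k + 2)) K) := by
    rw [← hZ₁, mul_assoc, Units.mul_inv, mul_one]
  have hY : Y = (Z₂ : Matrix (Fin (k + 2)) (Fin (k + 2)) K) * J * (↑Z₂⁻¹ : Matrix (Fin (k + 2)) (Fin (k + 2)) K) := by
    refine left_inv_eq_right_inv hYY ?_
    rw [← mul_assoc, ← mul_assoc, hZ₂, mul_assoc (Z₂ : Matrix (Fin (k + 2)) (Fin (k + 2)) K), hJiJ, mul_one,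
      Units.mul_inv]
  have hg' : (g : Matrix (Fin (k + 2)) (Fin (k + 2)) K) = P * (X * Y) * P' := by
    rw [← hPAP, ← mul_assoc, ← mul_assoc, mul_eq_one_comm.1 hPP, one_mul, mul_assoc, mul_eq_one_comm.1 hPP, mul_one]
  rw [hg', hX', hY]
  simp only [_root_.mul_inv_rev, Units.val_mul]
  show _ = P * (Z₁ : Matrix (Fin (k + 2)) (Fin (k + 2)) K) * J * ((↑Z₁⁻¹ : Matrix (Fin (k + 2)) (Fin (k + 2)) K) * P') *
    (P * (Z₂ : Matrix (Fin (k + 2)) (Fin (k + 2)) K) * J * ((↑Z₂⁻¹ : Matrix (Fin (k + 2)) (Fin (k + 2)) K) * P'))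
  have h2 : ∀ M : Matrix (Fin (k + 2)) (Fin (k + 2)) K, P' * (P * M) = M := fun M => by rw [← mul_assoc, hPP, one_mul]
  simp only [mul_assoc, h2]


end Cfsg.Agent.S2522
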