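import Cfsg.Statements.S2524
import Cfsg.Agent.Lib.SpOddDeg63.Classify

set_option autoImplicit false
open Cfsg

namespace Cfsg.Agent.S2524

/-- Let F be a finite field of odd order q and G = Sp(2n, F) with n ≥ 2. Then G has exactly four irreducible complex characters of degree (q^n + 1)/2 or (q^n − 1)/2 (two of each), and every other non-principal irreducible character has degree at least (q^n − 1)(q^n − q)/(2(q + 1)). -/
theorem result {F : Type*} [Field F] [Fintype F] (hodd : Odd (Fintype.card F)) (n : ℕ) (hn : 2 ≤ n) :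
    Nat.card {χ : Cfsg.IrrCharacter ↥(Matrix.symplecticGroup (Fin n) F) // (χ : ↥(Matrix.symplecticGroup (Fin n) F) → ℂ) 1 = (((Fintype.card F) ^ n + 1 : ℕ) : ℂ) / 2} = 2 ∧
    Nat.card {χ : Cfsg.IrrCharacter ↥(Matrix.symplecticGroup (Fin n) F) // (χ : ↥(Matrix.symplecticGroup (Fin n) F) → ℂ) 1 = (((Fintype.card F) ^ n - 1 : ℕ) : ℂ) / 2} = 2 ∧
    ∀ χ : Cfsg.IrrCharacter ↥(Matrix.symplecticGroup (Fin n) F),
      (χ : ↥(Matrix.symplecticGroup (Fin n) F) → ℂ) 1 ≠ 1 →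
      (χ : ↥(Matrix.symplecticGroup (Fin n) F) → ℂ) 1 ≠ (((Fintype.card F) ^ n + 1 : ℕ) : ℂ) / 2 →
      (χ : ↥(Matrix.symplecticGroup (Fin n) F) → ℂ) 1 ≠ (((Fintype.card F) ^ n - 1 : ℕ) : ℂ) / 2 →
      (((Fintype.card F) ^ n - 1 : ℕ) : ℝ) * (((Fintype.card F) ^ n - Fintype.card F : ℕ) : ℝ) / (2 * ((Fintype.card F : ℕ) + 1 : ℝ)) ≤ ‖(χ : ↥(Matrix.symplecticGroup (Fin n) F) → ℂ) 1‖ := by
  classical
  have h2 : (2 : F) ≠ 0 := Cfsg.Agent.Lib.MinDegree.two_ne_zero_of_odd hodd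
  obtain ⟨ψ, hψ⟩ := (AddChar.exists_apply_ne_zero (a := (1 : F))).2 one_ne_zero
  obtain ⟨hp, hm, hgap⟩ := Cfsg.Agent.Lib.SpOddDeg63.main h2 hψ hodd hn
  refine ⟨hp, hm, fun χ h1 h2' h3 => ?_⟩
  obtain ⟨k, ρ, -, hρ⟩ := Cfsg.Agent.Lib.Characters.Basic.exists_rep χ
  have hd : (χ : ↥(Matrix.symplecticGroup (Fin n) F) → ℂ) 1 = (k : ℂ) := by
    rw [← hρ, Representation.char_one, Module.finrank_fin_fun]
  have h := hgap χ h1 h2' h3 k hd
  rw [hd, Complex.norm_natCast, div_le_iff₀ (by positivity)]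
  calc (((Fintype.card F) ^ n - 1 : ℕ) : ℝ) * (((Fintype.card F) ^ n - Fintype.card F : ℕ) : ℝ)
      ≤ ((2 * (Fintype.card F + 1) * k : ℕ) : ℝ) := by exact_mod_cast h
    _ = _ := by push_cast; ring

end Cfsg.Agent.S2524
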