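import Cfsg.Statements.S2525
import Cfsg.Agent.Lib.F4Graph46.Semisimple
import Cfsg.Agent.Lib.F4Graph46.Small

set_option autoImplicit false
open Cfsg

namespace Cfsg.Agent.S2525

open Cfsg.Lie Cfsg.Agent.Lib.F4Graph46 Cfsg.Agent.Lib.ChevStructure

theorem cyclotomic_twelve : Polynomial.cyclotomic 12 ℤ =
    Polynomial.X ^ 4 + Polynomial.C (-1 : ℤ) * Polynomial.X ^ 2 + 1 := by
  have h := Polynomial.cyclotomic_expand_eq_cyclotomic Nat.prime_two (show 2 ∣ 6 by norm_num) ℤ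
  rw [Polynomial.cyclotomic_six] at h
  rw [show (12 : ℕ) = 6 * 2 from rfl, ← h]
  simp [Polynomial.expand_X]
  ring

theorem cyclotomic_eight' : Polynomial.cyclotomic 8 ℤ =
    Polynomial.X ^ 4 + Polynomial.C (0 : ℤ) * Polynomial.X ^ 2 + 1 := by
  rw [RegTorus.cyclotomic_eight]
  simp

theorem sq_ne_two : ∀ y : ZMod 3, y ^ 2 ≠ 2 := by decide

section Arith

variable {p : ℕ} [Fact p.Prime] {x : ZMod p}

theorem two_ne_zero' (hp : p ≠ 2) : (2 : ZMod p) ≠ 0 := by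
  intro h
  rw [show (2 : ZMod p) = ((2 : ℕ) : ZMod p) by norm_num, ZMod.natCast_eq_zero_iff] at h
  exact hp ((Nat.prime_dvd_prime_iff_eq Fact.out Nat.prime_two).1 h)

theorem order_eight (hp : p ≠ 2) (h : x ^ 4 + 1 = 0) : orderOf x = 8 := by
  have h4 : x ^ 4 ≠ 1 := fun h1 => two_ne_zero' hp (by linear_combination h - h1)
  have h8 : x ^ 8 = 1 := by linear_combination (x ^ 4 - 1) * h
  exact orderOf_eq_prime_pow (p := 2) (n := 2) (by norm_num [h4]) (by norm_num [h8])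

theorem order_twelve (hp : p ≠ 2) (h : x ^ 4 + (-1) * x ^ 2 + 1 = 0) : orderOf x = 12 := by
  have h6 : x ^ 6 ≠ 1 := fun h1 => two_ne_zero' hp (by linear_combination (x ^ 2 + 1) * h - h1)
  have h12 : x ^ 12 = 1 := by linear_combination (x ^ 2 + 1) * (x ^ 6 - 1) * h
  have h4 : x ^ 4 ≠ 1 := by
    intro h1
    have hx2 : x ^ 2 = 2 := by linear_combination h1 - h
    have hp3 : p = 3 := by
      have h3 : ((3 : ℕ) : ZMod p) = 0 := by
        push_cast
        linear_combination h1 - (x ^ 2 + 2) * hx2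
      rw [ZMod.natCast_eq_zero_iff] at h3
      exact (Nat.prime_dvd_prime_iff_eq Fact.out Nat.prime_three).1 h3
    subst hp3
    exact absurd hx2 (sq_ne_two x)
  have hd := orderOf_dvd_of_pow_eq_one h12
  have hle := Nat.le_of_dvd (by norm_num) hd
  have n4 : ¬ orderOf x ∣ 4 := fun hd => h4 (orderOf_dvd_iff_pow_eq_one.1 hd)
  have n6 : ¬ orderOf x ∣ 6 := fun hd => h6 (orderOf_dvd_iff_pow_eq_one.1 hd)
  generalize orderOf x = d at hd hle n4 n6 ⊢
  interval_cases d <;> omega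

theorem pow_ne (x : ZMod p) {e k : ℕ} (he : orderOf x = e) (hk : 0 < k) (hlt : k < e) : x ^ k ≠ 1 :=
  pow_ne_one_of_lt_orderOf hk.ne' (he ▸ hlt)

theorem one_pow' {e : ℕ} (he : orderOf x = e) : x ^ e = 1 := he ▸ pow_orderOf_eq_one x

theorem quad_three (h : orderOf x = 3) : x ^ 2 + x + 1 = 0 := by
  have h1 : x - 1 ≠ 0 := sub_ne_zero.2 (by simpa using pow_ne x h one_pos (by norm_num))
  exact (mul_eq_zero.1 (show (x - 1) * (x ^ 2 + x + 1) = 0 by
    linear_combination one_pow' h)).resolve_left h1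

theorem quad_four (h : orderOf x = 4) : x ^ 2 + 1 = 0 := by
  have h1 : x ^ 2 - 1 ≠ 0 := sub_ne_zero.2 (pow_ne x h two_pos (by norm_num))
  exact (mul_eq_zero.1 (show (x ^ 2 - 1) * (x ^ 2 + 1) = 0 by
    linear_combination one_pow' h)).resolve_left h1

theorem quad_six (h : orderOf x = 6) : x ^ 2 - x + 1 = 0 := by
  have h1 : x ^ 3 - 1 ≠ 0 := sub_ne_zero.2 (pow_ne x h (by norm_num) (by norm_num))
  have h2 : x + 1 ≠ 0 := fun hx => pow_ne x h two_pos (by norm_num) (by linear_combination (x - 1) * hx)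
  exact (mul_eq_zero.1 ((mul_eq_zero.1 (show (x ^ 3 - 1) * ((x + 1) * (x ^ 2 - x + 1)) = 0 by
    linear_combination one_pow' h)).resolve_left h1)).resolve_left h2

theorem quart_eight (h : orderOf x = 8) : x ^ 4 + 1 = 0 := by
  have h1 : x ^ 4 - 1 ≠ 0 := sub_ne_zero.2 (pow_ne x h (by norm_num) (by norm_num))
  exact (mul_eq_zero.1 (show (x ^ 4 - 1) * (x ^ 4 + 1) = 0 by
    linear_combination one_pow' h)).resolve_left h1

theorem quart_twelve (h : orderOf x = 12) : x ^ 4 + (-1) * x ^ 2 + 1 = 0 := by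
  have h1 : x ^ 6 - 1 ≠ 0 := sub_ne_zero.2 (pow_ne x h (by norm_num) (by norm_num))
  have h2 : x ^ 2 + 1 ≠ 0 := fun hx => pow_ne x h (show 0 < 4 by norm_num) (by norm_num)
    (by linear_combination (x ^ 2 - 1) * hx)
  exact (mul_eq_zero.1 ((mul_eq_zero.1 (show (x ^ 6 - 1) * ((x ^ 2 + 1) * (x ^ 4 + (-1) * x ^ 2 + 1)) = 0 by
    linear_combination one_pow' h)).resolve_left h1)).resolve_left h2

theorem order_le (hx : x ≠ 0) : orderOf x < p :=
  (Nat.le_of_dvd (Nat.sub_pos_of_lt (Fact.out : p.Prime).one_lt)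
    (orderOf_dvd_of_pow_eq_one (ZMod.pow_card_sub_one_eq_one hx))).trans_lt
      (Nat.sub_lt (Fact.out : p.Prime).pos one_pos)

end Arith

/-- no commuting elements of orders r and s -/
def Bad (k l : ℕ) : Prop :=
  ((k = 3 ∨ k = 4 ∨ k = 6) ∧ (l = 3 ∨ l = 4 ∨ l = 6) ∧ k ≠ l) ∨
    ((k = 8 ∨ k = 12 ∨ l = 8 ∨ l = 12) ∧ k ≠ l)

variable {F : Type*} [Field F] [Fintype F] {q : ℕ}

/-- the order of q modulo a prime dividing the group order -/
theorem classify (hq : Fintype.card F = q) (h2q : 2 ∣ q) {p : ℕ} [hp : Fact p.Prime]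
    (hG : p ∣ Nat.card ↥(chevF4.group F)) (hq2 : ∀ p' : ℕ, p'.Prime → p' ∣ q → p' = 2) :
    (p = 2 ∧ orderOf (q : ZMod p) = 0) ∨
      (p ≠ 2 ∧ (q : ZMod p) ≠ 0 ∧ orderOf (q : ZMod p) ∈ ({1, 2, 3, 4, 6, 8, 12} : Finset ℕ)) := by
  by_cases hp2 : p = 2
  · refine Or.inl ⟨hp2, ?_⟩
    subst hp2
    rw [(ZMod.natCast_eq_zero_iff q 2).2 h2q, orderOf_zero]
  refine Or.inr ⟨hp2, ?_⟩
  have hq0 : (q : ZMod p) ≠ 0 := fun h => hp2 (hq2 p hp.out ((ZMod.natCast_eq_zero_iff q p).1 h))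
  refine ⟨hq0, ?_⟩
  have h1 : 1 ≤ q := hq ▸ Fintype.card_pos
  rw [card_group, hq, ← ZMod.natCast_eq_zero_iff] at hG
  simp only [List.map_cons, List.map_nil, List.prod_cons, List.prod_nil, mul_one, Nat.cast_mul, Nat.cast_pow,
    Nat.cast_sub (Nat.one_le_pow _ _ h1), Nat.cast_one, mul_eq_zero, sub_eq_zero] at hG
  have hd : orderOf (q : ZMod p) ∣ 8 ∨ orderOf (q : ZMod p) ∣ 12 := by
    simp only [orderOf_dvd_iff_pow_eq_one]
    rcases hG with h | h | h | h | h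
    · exact absurd (pow_eq_zero_iff'.1 h).1 hq0
    · exact Or.inl (by rw [show (8 : ℕ) = 2 * 4 from rfl, pow_mul, h, one_pow])
    · exact Or.inr (by rw [show (12 : ℕ) = 6 * 2 from rfl, pow_mul, h, one_pow])
    · exact Or.inl h
    · exact Or.inr h
  generalize orderOf (q : ZMod p) = e at hd
  have he : e ≤ 12 := by
    rcases hd with h | h <;> have := Nat.le_of_dvd (by norm_num) h <;> omega
  interval_cases e <;> simp_all (config := { decide := true })

theorem criterion [CharP F 2] (hq : Fintype.card F = q) (h2q : 2 ∣ q)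
    (hq2 : ∀ p' : ℕ, p'.Prime → p' ∣ q → p' = 2) {r s : ℕ} [hr : Fact r.Prime] [hs : Fact s.Prime]
    (hrs : r ≠ s) (hrG : r ∣ Nat.card ↥(chevF4.group F)) (hsG : s ∣ Nat.card ↥(chevF4.group F)) :
    (¬ ∃ z : ↥(chevF4.group F), orderOf z = r * s) ↔
      Bad (orderOf (q : ZMod r)) (orderOf (q : ZMod s)) := by
  obtain ⟨K, _, _, ⟨Φ⟩⟩ := exists_frob (F := F) hq
  have h1 : 1 ≤ q := hq ▸ Fintype.card_pos
  have mk : ∀ {a b : ℕ}, a.Prime → b.Prime → a ≠ b →
      (∃ x y : ↥(chevF4.group F), orderOf x = a ∧ orderOf y = b ∧ x * y = y * x) →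
      ∃ z : ↥(chevF4.group F), orderOf z = a * b := by
    rintro a b ha hb hab ⟨x, y, hx, hy, hxy⟩
    exact exists_order_of_comm ha hb hab hx hy hxy
  have small : ∀ {a b : ℕ}, a.Prime → b.Prime → a ≠ b → b ∣ Nat.card ↥(chevF4.group F) →
      orderOf (q : ZMod a) ∈ ({0, 1, 2} : Finset ℕ) → a ∣ Nat.card ↥(chevF4.group F) →
      orderOf (q : ZMod b) ≠ 8 → orderOf (q : ZMod b) ≠ 12 →
      ∃ z : ↥(chevF4.group F), orderOf z = a * b := by
    intro a b ha hb hab hbG hk haG h8 h12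
    haveI := Fact.mk ha
    haveI := Fact.mk hb
    refine mk ha hb hab (small_exists hq ?_ ?_)
    · rcases classify hq h2q haG hq2 with ⟨ha2, -⟩ | ⟨-, -, he⟩
      · exact Or.inl ha2
      · refine Or.inr (orderOf_dvd_iff_pow_eq_one.1 ?_)
        simp only [Finset.mem_insert, Finset.mem_singleton] at hk he
        rcases hk with h | h | h <;> rw [h] at he ⊢ <;> first | omega | norm_num
    · rcases classify hq h2q hbG hq2 with ⟨hb2, -⟩ | ⟨-, -, he⟩
      · exact Or.inl hb2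
      · simp only [Finset.mem_insert, Finset.mem_singleton] at he
        simp only [← orderOf_dvd_iff_pow_eq_one]
        rcases he with h | h | h | h | h | h | h <;> simp_all (config := { decide := true })
  have qd : ∀ {a : ℕ}, a.Prime → a ∣ Nat.card ↥(chevF4.group F) →
      (orderOf (q : ZMod a) = 3 ∨ orderOf (q : ZMod a) = 4 ∨ orderOf (q : ZMod a) = 6) →
      5 ≤ a ∧ ∃ c₁ : ℤ, Quad c₁ 1 ∧ (q : ZMod a) ^ 2 + c₁ * (q : ZMod a) + ((1 : ℤ) : ZMod a) = 0 ∧
        (orderOf (q : ZMod a) = 3 ∧ c₁ = 1 ∨ orderOf (q : ZMod a) = 4 ∧ c₁ = 0 ∨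
          orderOf (q : ZMod a) = 6 ∧ c₁ = -1) := by
    intro a ha haG hk
    haveI := Fact.mk ha
    rcases classify hq h2q haG hq2 with ⟨-, h0⟩ | ⟨hne, hq0, -⟩
    · omega
    refine ⟨?_, ?_⟩
    · have h3 := order_le hq0
      by_contra hlt
      push Not at hlt
      have : a = 4 := by omega
      exact absurd ha (this ▸ by norm_num)
    rcases hk with h | h | h
    · exact ⟨1, ⟨Or.inl rfl, rfl⟩, by push_cast; linear_combination quad_three h, Or.inl ⟨h, rfl⟩⟩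
    · exact ⟨0, ⟨Or.inr (Or.inl rfl), rfl⟩, by push_cast; linear_combination quad_four h,
        Or.inr (Or.inl ⟨h, rfl⟩)⟩
    · exact ⟨-1, ⟨Or.inr (Or.inr rfl), rfl⟩, by push_cast; linear_combination quad_six h,
        Or.inr (Or.inr ⟨h, rfl⟩)⟩
  have qt : ∀ {a : ℕ}, a.Prime → a ∣ Nat.card ↥(chevF4.group F) →
      (orderOf (q : ZMod a) = 8 ∨ orderOf (q : ZMod a) = 12) →
      7 ≤ a ∧ ∃ (c : ℤ) (d : ℕ), Quart c ∧ d.totient = 4 ∧ (d = 8 ∧ c = 0 ∨ d = 12 ∧ c = -1) ∧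
        Polynomial.cyclotomic d ℤ = Polynomial.X ^ 4 + Polynomial.C c * Polynomial.X ^ 2 + 1 ∧
        orderOf (q : ZMod a) = d ∧ (q : ZMod a) ^ 4 + c * (q : ZMod a) ^ 2 + 1 = 0 ∧
        ∀ b : ℕ, [Fact b.Prime] → (q : ZMod b) ^ 4 + c * (q : ZMod b) ^ 2 + 1 = 0 →
          orderOf (q : ZMod b) = d := by
    intro a ha haG hk
    haveI := Fact.mk ha
    rcases classify hq h2q haG hq2 with ⟨-, h0⟩ | ⟨hne, hq0, -⟩
    · omega
    refine ⟨by have := order_le hq0; omega, ?_⟩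
    have hb2 : ∀ b : ℕ, ∀ c : ℤ, [Fact b.Prime] → (q : ZMod b) ^ 4 + c * (q : ZMod b) ^ 2 + 1 = 0 → b ≠ 2 := by
      intro b c _ h hb
      subst hb
      rw [(ZMod.natCast_eq_zero_iff q 2).2 h2q] at h
      simp at h
    rcases hk with h | h
    · refine ⟨0, 8, Or.inl rfl, by decide, Or.inl ⟨rfl, rfl⟩, cyclotomic_eight', h, by
        push_cast; linear_combination quart_eight h, fun b _ hb => order_eight (hb2 b 0 hb) ?_⟩
      simpa using hb
    · refine ⟨-1, 12, Or.inr rfl, by decide, Or.inr ⟨rfl, rfl⟩, cyclotomic_twelve, h, by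
        push_cast; linear_combination quart_twelve h, fun b _ hb => order_twelve (hb2 b (-1) hb) ?_⟩
      simpa using hb
  have none4 : ∀ {a b : ℕ}, a.Prime → b.Prime → a ≠ b → a ∣ Nat.card ↥(chevF4.group F) →
      (orderOf (q : ZMod a) = 8 ∨ orderOf (q : ZMod a) = 12) → orderOf (q : ZMod a) ≠ orderOf (q : ZMod b) →
      ¬ ∃ z : ↥(chevF4.group F), orderOf z = a * b := by
    intro a b ha hb hab haG hk hne hz
    haveI := Fact.mk ha
    haveI := Fact.mk hb
    obtain ⟨h7, c, d, hc, hd, -, hcyc, hord, hqa, huniq⟩ := qt ha haG hk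
    obtain ⟨x, y, hx, hy, hxy⟩ := exists_comm_of_order ha hb hab hz
    exact quart_none Φ h7 hc hd hcyc hord hqa hx hxy hy fun h0 => hne (hord.trans (huniq b h0).symm)
  constructor
  · intro hz
    by_contra hB
    apply hz
    have hk : orderOf (q : ZMod r) ∈ ({0, 1, 2, 3, 4, 6, 8, 12} : Finset ℕ) := by
      rcases classify hq h2q hrG hq2 with ⟨-, h⟩ | ⟨-, -, h⟩ <;>
        simp only [Finset.mem_insert, Finset.mem_singleton] at h ⊢ <;> omega
    have hl : orderOf (q : ZMod s) ∈ ({0, 1, 2, 3, 4, 6, 8, 12} : Finset ℕ) := by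
      rcases classify hq h2q hsG hq2 with ⟨-, h⟩ | ⟨-, -, h⟩ <;>
        simp only [Finset.mem_insert, Finset.mem_singleton] at h ⊢ <;> omega
    unfold Bad at hB
    by_cases hks : orderOf (q : ZMod r) ∈ ({0, 1, 2} : Finset ℕ)
    · refine small hr.out hs.out hrs hsG hks hrG ?_ ?_ <;> intro h <;>
        simp only [Finset.mem_insert, Finset.mem_singleton] at hks <;> omega
    by_cases hls : orderOf (q : ZMod s) ∈ ({0, 1, 2} : Finset ℕ)
    · obtain ⟨z, hz'⟩ : ∃ z : ↥(chevF4.group F), orderOf z = s * r := by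
        refine small hs.out hr.out hrs.symm hrG hls hsG ?_ ?_ <;> intro h <;>
          simp only [Finset.mem_insert, Finset.mem_singleton] at hls <;> omega
      exact ⟨z, hz'.trans (mul_comm s r)⟩
    simp only [Finset.mem_insert, Finset.mem_singleton] at hk hl hks hls
    have heq : orderOf (q : ZMod r) = orderOf (q : ZMod s) := by omega
    refine mk hr.out hs.out hrs ?_
    by_cases hk4 : orderOf (q : ZMod r) = 3 ∨ orderOf (q : ZMod r) = 4 ∨ orderOf (q : ZMod r) = 6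
    · obtain ⟨h5, c, hc, hqr, hkc⟩ := qd hr.out hrG hk4
      obtain ⟨-, c', -, hqs, hlc⟩ := qd hs.out hsG (heq ▸ hk4)
      obtain rfl : c' = c := by omega
      have hW1 : ∀ k : ℕ, 1 ≤ q ^ k := fun k => Nat.one_le_pow _ _ h1
      have hWG : ∀ k : ℕ, k ∣ 12 → (k ∣ 6 ∨ k ∣ 8) →
          (q ^ k - 1) ^ 2 ∣ Nat.card ↥(chevF4.group F) := by
        intro k h12 h68
        rw [card_group, hq]
        simp only [List.map_cons, List.map_nil, List.prod_cons, List.prod_nil, mul_one]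
        refine dvd_mul_of_dvd_right (dvd_mul_of_dvd_right ?_ _) _
        rw [pow_two]
        have hb : ∀ j, k ∣ j → q ^ k - 1 ∣ q ^ j - 1 := by
          rintro j ⟨m, rfl⟩
          rw [pow_mul]
          simpa using Nat.sub_dvd_pow_sub_pow (q ^ k) 1 m
        rcases h68 with h | h
        · exact mul_dvd_mul (hb 6 h) (dvd_mul_of_dvd_right (hb 12 h12) _)
        · exact dvd_mul_of_dvd_right (mul_dvd_mul (hb 8 h) (hb 12 h12)) _
      have hq1 : q ≠ 1 := fun h => by rw [h] at h2q; norm_num at h2q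
      have key : ∀ k : ℕ, orderOf (q : ZMod r) = k → k ∣ 12 → (k ∣ 6 ∨ k ∣ 8) → 0 < k →
          ((q : ℤ) ^ 2 + c' * (q : ℤ) + 1) ∣ ((q : ℤ) ^ k - 1) →
          ∃ x y : ↥(chevF4.group F), orderOf x = r ∧ orderOf y = s ∧ x * y = y * x := by
        intro k he h12 h68 hk0 hdvd
        refine quad_exists Φ h5 hc hqr (W := q ^ k - 1) ?_ ?_ ?_ (hWG k h12 h68) hqs
        · have := Nat.one_lt_pow hk0.ne' (show 1 < q by omega)
          omega
        · rw [← ZMod.natCast_eq_zero_iff, Nat.cast_sub (hW1 k), Nat.cast_pow, Nat.cast_one, ← he,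
            pow_orderOf_eq_one, sub_self]
        · rw [Nat.cast_sub (hW1 k)]
          push_cast
          exact hdvd
      rcases hkc with ⟨he, rfl⟩ | ⟨he, rfl⟩ | ⟨he, rfl⟩
      · exact key 3 he (by norm_num) (by norm_num) (by norm_num) ⟨(q : ℤ) - 1, by ring⟩
      · exact key 4 he (by norm_num) (by norm_num) (by norm_num) ⟨(q : ℤ) ^ 2 - 1, by ring⟩
      · exact key 6 he (by norm_num) (by norm_num) (by norm_num)
          ⟨((q : ℤ) + 1) * ((q : ℤ) ^ 3 - 1), by ring⟩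
    · have hk8 : orderOf (q : ZMod r) = 8 ∨ orderOf (q : ZMod r) = 12 := by omega
      obtain ⟨h7, c, d, hc, hd, hdc, hcyc, hord, hqr, -⟩ := qt hr.out hrG hk8
      obtain ⟨-, c', d', -, -, hdc', -, hord', hqs, -⟩ := qt hs.out hsG (heq ▸ hk8)
      have hcc : c' = c := by omega
      subst hcc
      exact quart_exists Φ h7 hc hd hcyc hord hqr hrG hqs
  · rintro (⟨hk, hl, hne⟩ | ⟨hkl, hne⟩) hz
    · obtain ⟨h5, c, hc, hqr, hkc⟩ := qd hr.out hrG hk
      obtain ⟨h5', c', hc', hqs, hlc⟩ := qd hs.out hsG hl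
      obtain ⟨x, y, hx, hy, hxy⟩ := exists_comm_of_order hr.out hs.out hrs hz
      exact no_quads Φ h5 h5' hc hc' (by omega) hqr hqs hx hy hxy
    · by_cases hk : orderOf (q : ZMod r) = 8 ∨ orderOf (q : ZMod r) = 12
      · exact none4 hr.out hs.out hrs hrG hk hne hz
      · refine none4 hs.out hr.out hrs.symm hsG (by omega) (Ne.symm hne) ?_
        obtain ⟨z, h⟩ := hz
        exact ⟨z, h.trans (mul_comm r s)⟩


/-- Let F be a finite field with q = 2^n elements and G = F₄(F). For an odd prime r let e(r, q) be the multiplicative order of q modulo r. Two distinct primes r, s dividing the order of G are non-adjacent in the prime graph of G (no element of order rs) if and only if, up to swapping r and s, either r = 2 and e(s, q) ∈ {8, 12}, or r, s are both odd with k = e(r, q) < l = e(s, q) and one of: l ∈ {8, 12}; l = 6 and k ∈ {3, 4}; l = 4 and k = 3. -/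
theorem result {F : Type*} [Field F] [Fintype F] (n : ℕ) (hn : 1 ≤ n) (hF : Fintype.card F = 2 ^ n)
    (r s : ℕ) (hr : r.Prime) (hs : s.Prime) (hrs : r ≠ s) (hrG : r ∣ Nat.card ↥(Cfsg.Lie.chevF4.group F)) (hsG : s ∣ Nat.card ↥(Cfsg.Lie.chevF4.group F)) :
    (¬ ∃ x : ↥(Cfsg.Lie.chevF4.group F), orderOf x = r * s) ↔
      ((r = 2 ∧ orderOf ((Fintype.card F : ℕ) : ZMod s) ∈ ({8, 12} : Finset ℕ)) ∨ (s = 2 ∧ orderOf ((Fintype.card F : ℕ) : ZMod r) ∈ ({8, 12} : Finset ℕ)) ∨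
       (r ≠ 2 ∧ s ≠ 2 ∧
         ((orderOf ((Fintype.card F : ℕ) : ZMod r) < orderOf ((Fintype.card F : ℕ) : ZMod s) ∧ (orderOf ((Fintype.card F : ℕ) : ZMod s) ∈ ({8, 12} : Finset ℕ) ∨ (orderOf ((Fintype.card F : ℕ) : ZMod s) = 6 ∧ orderOf ((Fintype.card F : ℕ) : ZMod r) ∈ ({3, 4} : Finset ℕ)) ∨ (orderOf ((Fintype.card F : ℕ) : ZMod s) = 4 ∧ orderOf ((Fintype.card F : ℕ) : ZMod r) = 3))) ∨
          (orderOf ((Fintype.card F : ℕ) : ZMod s) < orderOf ((Fintype.card F : ℕ) : ZMod r) ∧ (orderOf ((Fintype.card F : ℕ) : ZMod r) ∈ ({8, 12} : Finset ℕ) ∨ (orderOf ((Fintype.card F : ℕ) : ZMod r) = 6 ∧ orderOf ((Fintype.card F : ℕ) : ZMod s) ∈ ({3, 4} : Finset ℕ)) ∨ (orderOf ((Fintype.card F : ℕ) : ZMod r) = 4 ∧ orderOf ((Fintype.card F : ℕ) : ZMod s) = 3)))))) := by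
  haveI : Fact r.Prime := ⟨hr⟩
  haveI : Fact s.Prime := ⟨hs⟩
  have h2q : 2 ∣ 2 ^ n := dvd_pow_self 2 (by omega)
  have hq2 : ∀ p : ℕ, p.Prime → p ∣ 2 ^ n → p = 2 := fun p hp h =>
    (Nat.prime_dvd_prime_iff_eq hp Nat.prime_two).1 (hp.dvd_of_dvd_pow h)
  obtain ⟨p, hp⟩ := CharP.exists F
  have hpp : p.Prime := CharP.char_is_prime F p
  haveI := Fact.mk hpp
  obtain ⟨m, -, hm⟩ := FiniteField.card F p
  obtain rfl : p = 2 := hq2 p hpp (by rw [← hF, hm]; exact dvd_pow_self p m.pos.ne')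
  rw [hF, criterion hF h2q hq2 hrs hrG hsG]
  have cr := classify hF h2q hrG hq2
  have cs := classify hF h2q hsG hq2
  generalize orderOf ((2 ^ n : ℕ) : ZMod r) = k at cr ⊢
  generalize orderOf ((2 ^ n : ℕ) : ZMod s) = l at cs ⊢
  simp only [Finset.mem_insert, Finset.mem_singleton] at cr cs ⊢
  unfold Bad
  rcases cr with ⟨hr2, hk⟩ | ⟨hr2, -, hk⟩ <;> rcases cs with ⟨hs2, hl⟩ | ⟨hs2, -, hl⟩ <;>
    simp [hr2, hs2] <;> omega

end Cfsg.Agent.S2525
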