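import Cfsg.Statements.S2530
import Cfsg.Agent.Lib.Spectrum.CoxeterSym

set_option autoImplicit false
open Cfsg

namespace Cfsg.Agent.S2530
open Cfsg.Agent.Lib.Spectrum

/-- The Coxeter presentation of the symmetric group: for every n, the symmetric group on n+1 letters is the Coxeter group of type A_n with the adjacent transpositions (i, i+1) as simple reflections; that is, it is presented by generators r_1, …, r_n subject to r_i² = 1, (r_i r_j)² = 1 for |i − j| > 1 and (r_i r_{i+1})³ = 1, with r_i mapping to (i, i+1). -/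
theorem result (n : ℕ) :
    ∃ cs : CoxeterSystem (CoxeterMatrix.A n) (Equiv.Perm (Fin (n + 1))), ∀ i : Fin n, cs.simple i = Equiv.swap i.castSucc i.succ := by
  classical
  have h2' : ∀ i : Fin n, ∀ g : Fin n → PresentedGroup (CoxeterSym.rels n),
      g = (fun j => PresentedGroup.of j) → g i * g i = 1 := by
    rintro i g rfl
    simp only [PresentedGroup.of, ← map_mul, ← pow_two]
    exact PresentedGroup.one_of_mem (.inl (.inl ⟨i, rfl⟩))
  have hswap : ∀ {a b : PresentedGroup (CoxeterSym.rels n)} {k : ℕ}, a * a = 1 → b * b = 1 → (a * b) ^ k = 1 →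
      (b * a) ^ k = 1 := by
    intro a b k ha hb h
    have e : b * a = (a * b)⁻¹ := by
      rw [mul_inv_rev, inv_eq_of_mul_eq_one_left hb, inv_eq_of_mul_eq_one_left ha]
    rw [e, inv_pow, h, inv_one]
  have hfwd : ∀ r ∈ (CoxeterMatrix.A n).relationsSet,
      FreeGroup.lift (fun j : Fin n => (PresentedGroup.of j : PresentedGroup (CoxeterSym.rels n))) r = 1 := by
    rintro _ ⟨⟨i, j⟩, rfl⟩
    simp only [Function.uncurry_apply_pair, CoxeterMatrix.relation, map_pow, map_mul, FreeGroup.lift_apply_of]
    show _ ^ (if i = j then 1 else if (j : ℕ) + 1 = i ∨ (i : ℕ) + 1 = j then 3 else 2) = 1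
    have hi := h2' i _ rfl
    have hj := h2' j _ rfl
    split_ifs with hij hadj
    · subst hij; rw [pow_one]; exact hi
    · rcases hadj with h | h
      · refine hswap hj hi ?_
        simp only [PresentedGroup.of, ← map_mul, ← map_pow]
        exact PresentedGroup.one_of_mem (.inl (.inr ⟨j, i, h.symm, rfl⟩))
      · simp only [PresentedGroup.of, ← map_mul, ← map_pow]
        exact PresentedGroup.one_of_mem (.inl (.inr ⟨i, j, h.symm, rfl⟩))
    · push Not at hadj
      rcases lt_or_gt_of_ne (fun h => hij (Fin.ext h)) with h | h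
      · simp only [PresentedGroup.of, ← map_mul, ← map_pow]
        exact PresentedGroup.one_of_mem (.inr ⟨i, j, by omega, rfl⟩)
      · refine hswap hj hi ?_
        simp only [PresentedGroup.of, ← map_mul, ← map_pow]
        exact PresentedGroup.one_of_mem (.inr ⟨j, i, by omega, rfl⟩)
  have hrel : ∀ i j : Fin n,
      ((PresentedGroup.of i : (CoxeterMatrix.A n).Group) * PresentedGroup.of j) ^ (CoxeterMatrix.A n i j) = 1 := by
    intro i j
    show ((PresentedGroup.of i : PresentedGroup (CoxeterMatrix.A n).relationsSet) * PresentedGroup.of j) ^ _ = 1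
    simp only [PresentedGroup.of, ← map_mul, ← map_pow]
    exact PresentedGroup.one_of_mem ⟨(i, j), rfl⟩
  have hA : ∀ i j : Fin n, (CoxeterMatrix.A n i j)
      = (if i = j then 1 else if (j : ℕ) + 1 = i ∨ (i : ℕ) + 1 = j then 3 else 2) := fun i j => rfl
  have hbwd : ∀ r ∈ CoxeterSym.rels n,
      FreeGroup.lift (fun j : Fin n => (PresentedGroup.of j : (CoxeterMatrix.A n).Group)) r = 1 := by
    rintro r ((⟨i, rfl⟩ | ⟨i, j, h, rfl⟩) | ⟨i, j, h, rfl⟩)
    · simp only [map_pow, FreeGroup.lift_apply_of]
      have := hrel i i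
      rw [hA, if_pos rfl, pow_one, ← pow_two] at this
      exact this
    · simp only [map_pow, map_mul, FreeGroup.lift_apply_of]
      have := hrel i j
      rw [hA, if_neg (fun e => by have := congrArg Fin.val e; omega), if_pos (Or.inr h.symm)] at this
      exact this
    · simp only [map_pow, map_mul, FreeGroup.lift_apply_of]
      have := hrel i j
      rw [hA, if_neg (fun e => by have := congrArg Fin.val e; omega), if_neg (by omega)] at this
      exact this
  let φ : (CoxeterMatrix.A n).Group →* PresentedGroup (CoxeterSym.rels n) := PresentedGroup.toGroup hfwd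
  let ψ : PresentedGroup (CoxeterSym.rels n) →* (CoxeterMatrix.A n).Group := PresentedGroup.toGroup hbwd
  let e : (CoxeterMatrix.A n).Group ≃* PresentedGroup (CoxeterSym.rels n) :=
    MonoidHom.toMulEquiv φ ψ (PresentedGroup.ext fun x => by
        show ψ (φ (PresentedGroup.of x)) = PresentedGroup.of x
        simp only [φ, ψ]
        erw [PresentedGroup.toGroup.of])
      (PresentedGroup.ext fun x => by
        show φ (ψ (PresentedGroup.of x)) = PresentedGroup.of x
        simp only [φ, ψ]
        erw [PresentedGroup.toGroup.of])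
  refine ⟨⟨(e.trans (CoxeterSym.presentedEquiv n)).symm⟩, fun i => ?_⟩
  show CoxeterSym.toPerm n (φ (PresentedGroup.of i)) = CoxeterSym.adj i
  have h1 : φ (PresentedGroup.of i) = PresentedGroup.of i := PresentedGroup.toGroup.of _
  rw [h1]
  exact PresentedGroup.toGroup.of _

end Cfsg.Agent.S2530
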