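import Cfsg.Statements.S2531
-- import your own Cfsg.Agent.* helpers here

set_option autoImplicit false
open Cfsg

namespace Cfsg.Agent.S2531
open scoped LinearAlgebra.Projectivization

variable {F : Type*} [Field F] [Finite F] {V : Type*} [AddCommGroup V] [Module F V] [Finite V]

/-- Counting points through vectors. -/
theorem card_points (P : V → Prop) (hP : ∀ (c : F) (v : V), c ≠ 0 → v ≠ 0 → (P (c • v) ↔ P v)) :
    Nat.card {v : V // v ≠ 0 ∧ P v} = Nat.card {x : ℙ F V // P x.rep} * Nat.card Fˣ := by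
  rw [← Nat.card_prod]
  refine (Nat.card_eq_of_bijective (fun p : {x : ℙ F V // P x.rep} × Fˣ =>
    (⟨(p.2 : F) • p.1.1.rep, smul_ne_zero p.2.ne_zero p.1.1.rep_nonzero,
      (hP _ _ p.2.ne_zero p.1.1.rep_nonzero).2 p.1.2⟩ : {v : V // v ≠ 0 ∧ P v})) ⟨?_, ?_⟩).symm
  · rintro ⟨⟨x, hx⟩, c⟩ ⟨⟨y, hy⟩, d⟩ h
    have h' : (c : F) • x.rep = (d : F) • y.rep := congrArg Subtype.val h
    have hxy : x = y := by
      rw [← x.mk_rep, ← y.mk_rep, Projectivization.mk_eq_mk_iff']
      exact ⟨(c : F)⁻¹ * d, by rw [mul_smul, ← h', smul_smul, inv_mul_cancel₀ c.ne_zero, one_smul]⟩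
    subst hxy
    exact Prod.ext rfl (Units.ext (smul_left_injective F x.rep_nonzero h'))
  · rintro ⟨v, hv, hPv⟩
    obtain ⟨a, ha⟩ := Projectivization.exists_smul_eq_mk_rep F v hv
    have ha' : (Projectivization.mk F v hv).rep = (a : F) • v := ha.symm
    refine ⟨(⟨Projectivization.mk F v hv, ?_⟩, a⁻¹), Subtype.ext ?_⟩
    · rw [ha', hP _ _ a.ne_zero hv]; exact hPv
    · show ((a⁻¹ : Fˣ) : F) • (Projectivization.mk F v hv).rep = v
      rw [ha', smul_smul, ← Units.val_mul, inv_mul_cancel, Units.val_one, one_smul]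

/-- Let `F` be a finite field and `n ≥ 3`. No set of permutations of the points of the projective space of `Fⁿ`, each induced by an invertible semilinear transformation of `Fⁿ` (so a subset of the full projective semilinear group), is sharply 2-transitive on the points: it is impossible that for all pairs of distinct points `(a, b)` and `(c, d)` exactly one member of the set sends `a` to `c` and `b` to `d`. -/
theorem result {F : Type*} [Field F] [Finite F]
    (n : ℕ) (hn : 3 ≤ n) (S : Set (Equiv.Perm (Projectivization F (Fin n → F))))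
    (hS : ∀ s ∈ S, ∃ (σ : F ≃+* F) (f : (Fin n → F) →ₛₗ[(σ : F →+* F)] (Fin n → F)) (hf : Function.Injective f),
      ∀ x, s x = Projectivization.map f hf x) :
    ¬ (∀ a b c d : Projectivization F (Fin n → F), a ≠ b → c ≠ d →
        ∃! s, s ∈ S ∧ s a = c ∧ s b = d) := by
  classical
  intro hS2
  haveI := Fintype.ofFinite F
  let V := Fin n → F
  let p := ringChar F
  haveI : Fact p.Prime := ⟨CharP.char_is_prime F p⟩
  have hunit : ((Nat.card Fˣ : ℕ) : ZMod p) = -1 := by
    obtain ⟨k, hp, hk⟩ := FiniteField.card F p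
    rw [Nat.card_units, Nat.card_eq_fintype_card, hk, Nat.cast_sub (Nat.one_le_pow _ _ hp.pos), Nat.cast_pow,
      ZMod.natCast_self, zero_pow k.ne_zero, Nat.cast_one, zero_sub]
  have hsub : ∀ W : Submodule F V, W ≠ ⊥ → ((Nat.card W : ℕ) : ZMod p) = 0 := by
    intro W hW
    obtain ⟨k, hp, hk⟩ := FiniteField.card F p
    rw [Module.natCard_eq_pow_finrank (K := F), Nat.card_eq_fintype_card, hk, Nat.cast_pow, Nat.cast_pow,
      ZMod.natCast_self, zero_pow k.ne_zero, zero_pow (mt Submodule.finrank_eq_zero.1 hW)]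
  have hfn : Module.finrank F V = n := Module.finrank_fin_fun F
  have hker : ∀ φ : V →ₗ[F] F, n ≤ Module.finrank F (LinearMap.ker φ) + 1 := by
    intro φ
    have h1 := φ.finrank_range_add_finrank_ker
    have h2 := (LinearMap.range φ).finrank_le
    rw [Module.finrank_self] at h2
    rw [hfn] at h1
    omega
  have hker2 : ∀ φ ψ : V →ₗ[F] F, LinearMap.ker φ ⊓ LinearMap.ker ψ ≠ ⊥ := by
    intro φ ψ h
    have h1 := Submodule.finrank_sup_add_finrank_inf_eq (LinearMap.ker φ) (LinearMap.ker ψ)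
    have h2 := (LinearMap.ker φ ⊔ LinearMap.ker ψ).finrank_le
    have h3 := hker φ
    have h4 := hker ψ
    rw [h, finrank_bot] at h1
    rw [hfn] at h2
    omega
  have hker1 : ∀ φ : V →ₗ[F] F, LinearMap.ker φ ≠ ⊥ := fun φ h => hker2 φ φ (by rw [inf_idem, h])
  have hinv : ∀ (φ : V →ₗ[F] F) (c : F) (v : V), c ≠ 0 → (φ (c • v) = 0 ↔ φ v = 0) := fun φ c v hc => by
    rw [map_smul, smul_eq_zero_iff_right hc]
  -- |hyperplane|
  have hC : ∀ φ : V →ₗ[F] F, ((Nat.card {x : ℙ F V // φ x.rep = 0} : ℕ) : ZMod p) = 1 := by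
    intro φ
    have h := card_points (fun v => φ v = 0) (fun c v hc _ => hinv φ c v hc)
    have h0 : Nat.card {v : V // v ≠ 0 ∧ φ v = 0} + 1 = Nat.card (LinearMap.ker φ) := by
      have h1 : (1 : ℕ) ≤ Nat.card (LinearMap.ker φ) := Nat.card_pos
      have e : Nat.card {v : V // v ≠ 0 ∧ φ v = 0} = Nat.card {w : LinearMap.ker φ // w ≠ 0} :=
        Nat.card_congr
          { toFun := fun v => ⟨⟨v.1, v.2.2⟩, fun h => v.2.1 (congrArg Subtype.val h)⟩
            invFun := fun w => ⟨w.1.1, fun h => w.2 (Subtype.ext h), w.1.2⟩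
            left_inv := fun v => rfl
            right_inv := fun w => rfl }
      haveI : Fintype (LinearMap.ker φ) := Fintype.ofFinite _
      rw [e, Nat.card_eq_fintype_card, Fintype.card_subtype_compl, Fintype.card_subtype_eq,
        ← Nat.card_eq_fintype_card]
      omega
    have h2 := congrArg (fun x : ℕ => (x : ZMod p)) h0
    simp only [Nat.cast_add, Nat.cast_one, h, Nat.cast_mul, hunit,
      hsub _ (hker1 φ)] at h2
    linear_combination -h2
  -- |hyperplane minus hyperplane|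
  have hD : ∀ φ ψ : V →ₗ[F] F, ((Nat.card {x : ℙ F V // φ x.rep = 0 ∧ ψ x.rep ≠ 0} : ℕ) : ZMod p) = 0 := by
    intro φ ψ
    have h := card_points (fun v => φ v = 0 ∧ ψ v ≠ 0)
      (fun c v hc _ => and_congr (hinv φ c v hc) (not_congr (hinv ψ c v hc)))
    have h0 : Nat.card {v : V // v ≠ 0 ∧ φ v = 0 ∧ ψ v ≠ 0} + Nat.card ↥(LinearMap.ker φ ⊓ LinearMap.ker ψ) =
        Nat.card (LinearMap.ker φ) := by
      rw [← Nat.card_congr (Equiv.sumCompl (fun w : LinearMap.ker φ => ψ w.1 ≠ 0)), Nat.card_sum]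
      congr 1
      · exact Nat.card_congr
          { toFun := fun v => ⟨⟨v.1, v.2.2.1⟩, v.2.2.2⟩
            invFun := fun w => ⟨w.1.1, fun h => w.2 (by rw [h, map_zero]), w.1.2, w.2⟩
            left_inv := fun v => rfl
            right_inv := fun w => rfl }
      · exact Nat.card_congr
          { toFun := fun v => ⟨⟨v.1, v.2.1⟩, fun h => h v.2.2⟩
            invFun := fun w => ⟨w.1.1, w.1.2, not_not.1 w.2⟩
            left_inv := fun v => rfl
            right_inv := fun w => rfl }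
    have h2 := congrArg (fun x : ℕ => (x : ZMod p)) h0
    simp only [Nat.cast_add, h, Nat.cast_mul, hunit, hsub _ (hker2 φ ψ),
      hsub _ (hker1 φ)] at h2
    linear_combination -h2
  haveI : Nonempty (Fin n) := ⟨⟨0, by omega⟩⟩
  haveI : Nontrivial (Fin n → F) := inferInstance
  obtain ⟨v, hv⟩ := exists_ne (0 : V)
  set a : ℙ F V := Projectivization.mk F v hv
  obtain ⟨i, hi⟩ := Function.ne_iff.1 a.rep_nonzero
  let φ : V →ₗ[F] F := LinearMap.proj i
  have haφ : φ a.rep ≠ 0 := hi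
  let C := {x : ℙ F V // φ x.rep = 0}
  let B := {y : ℙ F V // φ y.rep ≠ 0 ∧ y ≠ a}
  let T := {s : Equiv.Perm (ℙ F V) // s ∈ S ∧ s a = a}
  have hxa : ∀ x : C, x.1 ≠ a := fun x h => haφ (h ▸ x.2)
  have hbij : ∀ x : C, Nat.card {s : T // φ (s.1 x.1).rep ≠ 0} = Nat.card B := by
    intro x
    refine Nat.card_eq_of_bijective (fun s => (⟨s.1.1 x.1, s.2, fun h => hxa x (s.1.1.injective (h.trans s.1.2.2.symm))⟩ : B))
      ⟨fun s t h => ?_, fun y => ?_⟩
    · have h' : s.1.1 x.1 = t.1.1 x.1 := congrArg Subtype.val h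
      obtain ⟨r, -, hr⟩ := hS2 a x.1 a (t.1.1 x.1) (hxa x).symm
        (fun h => hxa x (t.1.1.injective (h.symm.trans t.1.2.2.symm)))
      apply Subtype.ext; apply Subtype.ext
      rw [hr s.1.1 ⟨s.1.2.1, s.1.2.2, h'⟩, hr t.1.1 ⟨t.1.2.1, t.1.2.2, rfl⟩]
    · obtain ⟨r, ⟨hr1, hr2, hr3⟩, -⟩ := hS2 a x.1 a y.1 (hxa x).symm y.2.2.symm
      exact ⟨⟨⟨r, hr1, hr2⟩, by rw [hr3]; exact y.2.1⟩, Subtype.ext hr3⟩
  have hlocal : ∀ s : T, ((Nat.card {x : C // φ (s.1 x.1).rep ≠ 0} : ℕ) : ZMod p) = 0 := by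
    intro s
    obtain ⟨σ, f, hf, hfs⟩ := hS s.1 s.2.1
    let ψ : V →ₗ[F] F :=
      { toFun := fun w => σ.symm (φ (f w))
        map_add' := fun u w => by simp
        map_smul' := fun c w => by simp [LinearMap.map_smulₛₗ] }
    have hval : ∀ x : ℙ F V, φ (s.1 x).rep = 0 ↔ ψ x.rep = 0 := by
      intro x
      rw [hfs x]
      conv_lhs => rw [← x.mk_rep, Projectivization.map_mk]
      have hne : f x.rep ≠ 0 := fun h => x.rep_nonzero (hf (h.trans (map_zero f).symm))
      obtain ⟨c, hc⟩ := Projectivization.exists_smul_eq_mk_rep F (f x.rep) hne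
      rw [← hc, Units.smul_def, hinv φ _ _ c.ne_zero]
      exact (EmbeddingLike.map_eq_zero_iff (f := σ.symm)).symm
    rw [← hD φ ψ]
    congr 1
    refine Nat.card_congr ((Equiv.subtypeSubtypeEquivSubtypeInter (fun x : ℙ F V => φ x.rep = 0)
      (fun x => φ (s.1 x).rep ≠ 0)).trans (Equiv.subtypeEquivRight fun x => and_congr_right fun _ => not_congr (hval x)))
  -- double counting
  haveI : Finite (ℙ F V) := inferInstance
  haveI : Fintype C := Fintype.ofFinite _
  haveI : Fintype T := Fintype.ofFinite _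
  have hdc : ∑ s : T, Nat.card {x : C // φ (s.1 x.1).rep ≠ 0} = Nat.card C * Nat.card B := by
    rw [← Nat.card_sigma, Nat.card_congr (Equiv.trans (Equiv.trans
      (Equiv.subtypeProdEquivSigmaSubtype (fun (s : T) (x : C) => φ (s.1 x.1).rep ≠ 0)).symm
      ((Equiv.prodComm T C).subtypeEquiv (q := fun y : C × T => φ (y.2.1 y.1.1).rep ≠ 0) fun y => Iff.rfl))
      (Equiv.subtypeProdEquivSigmaSubtype (fun (x : C) (s : T) => φ (s.1 x.1).rep ≠ 0))), Nat.card_sigma]
    simp only [hbij, Finset.sum_const, Finset.card_univ, smul_eq_mul, Nat.card_eq_fintype_card (α := C)]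
  have hB : ((Nat.card B : ℕ) : ZMod p) = -1 := by
    have h := card_points (fun w => φ w ≠ 0) (fun c w hc _ => not_congr (hinv φ c w hc))
    have h0 : Nat.card {w : V // w ≠ 0 ∧ φ w ≠ 0} + Nat.card (LinearMap.ker φ) = Nat.card (⊤ : Submodule F V) := by
      rw [Nat.card_congr (Submodule.topEquiv (R := F) (M := V)).toEquiv,
        ← Nat.card_congr (Equiv.sumCompl (fun w : V => φ w ≠ 0)), Nat.card_sum]
      congr 1
      · exact Nat.card_congr (Equiv.subtypeEquivRight fun w => ⟨fun h => h.2, fun h => ⟨fun h0 => h (by rw [h0, map_zero]), h⟩⟩)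
      · exact Nat.card_congr (Equiv.subtypeEquivRight fun w => by simp)
    have h2 := congrArg (fun x : ℕ => (x : ZMod p)) h0
    simp only [Nat.cast_add, h, Nat.cast_mul, hunit, hsub _ (hker1 φ),
      hsub ⊤ (fun hb => hker2 φ φ (eq_bot_iff.2 (le_top.trans hb.le)))] at h2
    have h3 : Nat.card B + 1 = Nat.card {x : ℙ F V // φ x.rep ≠ 0} := by
      haveI : Fintype {x : ℙ F V // φ x.rep ≠ 0} := Fintype.ofFinite _
      rw [show Nat.card B = Nat.card {x : {x : ℙ F V // φ x.rep ≠ 0} // x ≠ ⟨a, haφ⟩} from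
        Nat.card_congr ((Equiv.subtypeSubtypeEquivSubtypeInter (fun x : ℙ F V => φ x.rep ≠ 0) (fun x => x ≠ a)).symm.trans
          (Equiv.subtypeEquivRight fun x => by simp [Subtype.ext_iff])),
        Nat.card_eq_fintype_card, Fintype.card_subtype_compl, Fintype.card_subtype_eq, ← Nat.card_eq_fintype_card]
      have : 0 < Nat.card {x : ℙ F V // φ x.rep ≠ 0} := Nat.card_pos_iff.2 ⟨⟨⟨a, haφ⟩⟩, inferInstance⟩
      omega
    have h4 := congrArg (fun x : ℕ => (x : ZMod p)) h3
    simp only [Nat.cast_add, Nat.cast_one] at h4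
    linear_combination h4 - h2
  have h := congrArg (fun x : ℕ => (x : ZMod p)) hdc
  simp only [Nat.cast_sum, Nat.cast_mul, hlocal, Finset.sum_const_zero, hB] at h
  rw [hC φ] at h
  simp at h

end Cfsg.Agent.S2531
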