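import Cfsg.Statements.S2532
-- import your own Cfsg.Agent.* helpers here

set_option autoImplicit false
open Cfsg

namespace Cfsg.Agent.S2532

/-- There is a function `f` of two natural-number arguments such that, whenever `m ≥ f(n, r)`, every subgroup of order `n` of the alternating group of degree `m` centralizes some subgroup of that alternating group isomorphic to the alternating group of degree `r`. -/
theorem result :
    ∃ f : ℕ → ℕ → ℕ, ∀ (m r : ℕ) (H : Subgroup ↥(alternatingGroup (Fin m))), f (Nat.card H) r ≤ m →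
      ∃ K : Subgroup ↥(alternatingGroup (Fin m)), Nonempty (↥K ≃* ↥(alternatingGroup (Fin r))) ∧
        K ≤ Subgroup.centralizer (H : Set ↥(alternatingGroup (Fin m))) := by
  classical
  refine ⟨fun n r => n * (2 ^ n * r) + 1, fun m r H hm => ?_⟩
  -- `H` acts on the points
  let act : H →* Equiv.Perm (Fin m) := (alternatingGroup (Fin m)).subtype.comp H.subtype
  letI : MulAction H (Fin m) := MulAction.compHom (Fin m) act
  have hsmul : ∀ (h : H) (x : Fin m), h • x = act h x := fun h x => rfl
  have hcard : ∀ ω : MulAction.orbitRel.Quotient H (Fin m),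
      Nat.card (MulAction.orbit H ω.out) ≤ Nat.card H := fun ω =>
    Nat.card_le_card_of_surjective (fun h : H => (⟨h • ω.out, ⟨h, rfl⟩⟩ : MulAction.orbit H ω.out))
      (fun ⟨_, h, hh⟩ => ⟨h, Subtype.ext hh⟩)
  have hm' : m ≤ Nat.card (MulAction.orbitRel.Quotient H (Fin m)) * Nat.card H := by
    calc m = Nat.card (Fin m) := (Nat.card_fin m).symm
      _ = ∑ ω : MulAction.orbitRel.Quotient H (Fin m), Nat.card (MulAction.orbit H ω.out) := by
          rw [Nat.card_congr (MulAction.selfEquivSigmaOrbits H (Fin m)), Nat.card_sigma]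
      _ ≤ ∑ _ω : MulAction.orbitRel.Quotient H (Fin m), Nat.card H := Finset.sum_le_sum fun ω _ => hcard ω
      _ = _ := by rw [Finset.sum_const, smul_eq_mul, Finset.card_univ, ← Nat.card_eq_fintype_card]
  have hsub : Fintype.card (Subgroup H) ≤ 2 ^ Nat.card H := by
    refine (Fintype.card_le_of_injective (fun L : Subgroup H => (L : Set H)) SetLike.coe_injective).trans ?_
    rw [Fintype.card_set, Nat.card_eq_fintype_card]
  -- many orbits share a stabiliser
  obtain ⟨L, hL⟩ : ∃ L : Subgroup H, r ≤ (Finset.univ.filter fun ω : MulAction.orbitRel.Quotient H (Fin m) =>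
      MulAction.stabilizer H ω.out = L).card := by
    rcases Nat.eq_zero_or_pos r with rfl | hr
    · exact ⟨⊥, Nat.zero_le _⟩
    obtain ⟨L, -, hL⟩ := Finset.exists_le_card_fiber_of_mul_le_card_of_maps_to
      (s := (Finset.univ : Finset (MulAction.orbitRel.Quotient H (Fin m)))) (t := (Finset.univ : Finset (Subgroup H)))
      (f := fun ω => MulAction.stabilizer H ω.out) (n := r) (fun _ _ => Finset.mem_univ _) Finset.univ_nonempty (by
        rw [Finset.card_univ, Finset.card_univ]
        have h2 : 2 ^ Nat.card H * r ≤ Nat.card (MulAction.orbitRel.Quotient H (Fin m)) := by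
          by_contra hlt
          push Not at hlt
          have h3 := Nat.mul_le_mul_right (Nat.card H) hlt.le
          have h4 : Nat.card H * (2 ^ Nat.card H * r) + 1 ≤ m := hm
          have h5 : 2 ^ Nat.card H * r * Nat.card H = Nat.card H * (2 ^ Nat.card H * r) := by ring
          omega
        rw [← Nat.card_eq_fintype_card (α := MulAction.orbitRel.Quotient H (Fin m))]
        exact (Nat.mul_le_mul_right r hsub).trans h2)
    exact ⟨L, hL⟩
  obtain ⟨x⟩ := Function.Embedding.nonempty_of_card_le
    (α := Fin r) (β := ↥(Finset.univ.filter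
      fun ω : MulAction.orbitRel.Quotient H (Fin m) => MulAction.stabilizer H ω.out = L)) (by
      rw [Fintype.card_fin, Fintype.card_coe]; exact hL)
  have hst : ∀ i, MulAction.stabilizer H (x i).1.out = L := fun i => (Finset.mem_filter.1 (x i).2).2
  have hwd : ∀ (i : Fin r) (a b : H), a • (x i).1.out = b • (x i).1.out ↔ a⁻¹ * b ∈ L := fun i a b => by
    refine Iff.trans ?_ (SetLike.ext_iff.1 (hst i) (a⁻¹ * b))
    rw [MulAction.mem_stabilizer_iff, mul_smul, inv_smul_eq_iff, eq_comm]
  let ι₀ : (H ⧸ L) × Fin r → Fin m := fun z => Quotient.liftOn' z.1 (fun a => a • (x z.2).1.out)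
    (fun a b hab => (hwd z.2 a b).2 (QuotientGroup.leftRel_apply.1 hab))
  have hι : Function.Injective ι₀ := by
    rintro ⟨a, i⟩ ⟨b, j⟩ hab
    induction a using QuotientGroup.induction_on with | H a => ?_
    induction b using QuotientGroup.induction_on with | H b => ?_
    change a • (x i).1.out = b • (x j).1.out at hab
    have hij : i = j := x.injective (Subtype.ext (by
      rw [← Quotient.out_eq' (x i).1, ← Quotient.out_eq' (x j).1]
      exact Quotient.sound' (MulAction.orbitRel_apply.2 ⟨a⁻¹ * b, by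
        show (a⁻¹ * b) • (x j).1.out = (x i).1.out
        rw [mul_smul, ← hab, inv_smul_smul]⟩)))
    subst hij
    exact Prod.ext (QuotientGroup.eq.2 ((hwd i a b).1 hab)) rfl
  let ι : (H ⧸ L) × Fin r ↪ Fin m := ⟨ι₀, hι⟩
  let P : Equiv.Perm (Fin r) →* Equiv.Perm ((H ⧸ L) × Fin r) :=
    { toFun := fun σ => (Equiv.refl _).prodCongr σ
      map_one' := Equiv.ext fun z => rfl
      map_mul' := fun σ τ => Equiv.ext fun z => rfl }
  let φ : Equiv.Perm (Fin r) →* Equiv.Perm (Fin m) := (Equiv.Perm.viaEmbeddingHom ι).comp P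
  have hφ : ∀ σ, σ ∈ alternatingGroup (Fin r) → φ σ ∈ alternatingGroup (Fin m) := by
    intro σ hσ
    have hle : alternatingGroup (Fin r) ≤ (Equiv.Perm.sign.comp φ).ker := by
      rw [← Equiv.Perm.closure_three_cycles_eq_alternating, Subgroup.closure_le]
      intro τ hτ
      have h1 : (Equiv.Perm.sign.comp φ) τ ^ 3 = 1 := by
        rw [← map_pow, ← Equiv.Perm.IsThreeCycle.orderOf hτ, pow_orderOf_eq_one, map_one]
      rw [SetLike.mem_coe, MonoidHom.mem_ker]
      rcases Int.units_eq_one_or ((Equiv.Perm.sign.comp φ) τ) with h | h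
      · exact h
      · rw [h] at h1
        exact absurd h1 (by decide)
    exact hle hσ
  let ψ : alternatingGroup (Fin r) →* alternatingGroup (Fin m) :=
    (φ.comp (alternatingGroup (Fin r)).subtype).codRestrict _ fun σ => hφ σ.1 σ.2
  have hψ : Function.Injective ψ := by
    intro a b hab
    have h1 : P (a : Equiv.Perm (Fin r)) = P (b : Equiv.Perm (Fin r)) :=
      Equiv.Perm.viaEmbeddingHom_injective ι (congrArg Subtype.val hab)
    refine Subtype.ext (Equiv.ext fun i => ?_)
    exact congrArg Prod.snd (Equiv.congr_fun h1 ((QuotientGroup.mk 1 : H ⧸ L), i))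
  refine ⟨ψ.range, ⟨(MonoidHom.ofInjective hψ).symm⟩, ?_⟩
  rintro _ ⟨σ, rfl⟩
  rw [Subgroup.mem_centralizer_iff]
  intro h hh
  apply Subtype.ext
  refine Equiv.ext fun y => ?_
  show act ⟨h, hh⟩ (φ (σ : Equiv.Perm (Fin r)) y) = φ (σ : Equiv.Perm (Fin r)) (act ⟨h, hh⟩ y)
  rw [← hsmul, ← hsmul]
  have key : ∀ (g : H) (z : (H ⧸ L) × Fin r), g • ι z = ι (g • z.1, z.2) := by
    rintro g ⟨a, i⟩
    induction a using QuotientGroup.induction_on with | H a => exact (mul_smul g a _).symm
  by_cases hy : y ∈ Set.range ι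
  · obtain ⟨z, rfl⟩ := hy
    simp only [φ, MonoidHom.comp_apply, Equiv.Perm.viaEmbeddingHom_apply]
    rw [Equiv.Perm.viaEmbedding_apply, key, key, Equiv.Perm.viaEmbedding_apply]
    rfl
  · have hy' : (⟨h, hh⟩ : H) • y ∉ Set.range ι := by
      rintro ⟨z, hz⟩
      refine hy ⟨((⟨h, hh⟩ : H)⁻¹ • z.1, z.2), ?_⟩
      rw [← key, hz, inv_smul_smul]
    simp only [φ, MonoidHom.comp_apply, Equiv.Perm.viaEmbeddingHom_apply]
    rw [Equiv.Perm.viaEmbedding_apply_of_notMem _ _ _ hy, Equiv.Perm.viaEmbedding_apply_of_notMem _ _ _ hy']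

end Cfsg.Agent.S2532
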