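import Cfsg.Statements.S2533
-- import your own Cfsg.Agent.* helpers here

set_option autoImplicit false
open Cfsg

namespace Cfsg.Agent.S2533
open Matrix

/-- The vectors `Fin 3 → ZMod p`, written multiplicatively. -/
abbrev V (p : ℕ) := Multiplicative (Fin 3 → ZMod p)

/-- Signs act by scaling. -/
def signAct (p : ℕ) : ℤˣ →* MulAut (V p) where
  toFun u :=
    { toFun := fun v => Multiplicative.ofAdd ((((u : ℤ) : ZMod p)) • Multiplicative.toAdd v)
      invFun := fun v => Multiplicative.ofAdd ((((u : ℤ) : ZMod p)) • Multiplicative.toAdd v)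
      left_inv := fun v => by
        simp only [toAdd_ofAdd, smul_smul, ← Int.cast_mul, Int.units_coe_mul_self, Int.cast_one, one_smul,
          ofAdd_toAdd]
      right_inv := fun v => by
        simp only [toAdd_ofAdd, smul_smul, ← Int.cast_mul, Int.units_coe_mul_self, Int.cast_one, one_smul,
          ofAdd_toAdd]
      map_mul' := fun v w => by
        apply Multiplicative.toAdd.injective
        simp [smul_add] }
  map_one' := MulEquiv.ext fun v => by simp
  map_mul' u w := MulEquiv.ext fun v => by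
    apply Multiplicative.toAdd.injective
    simp [smul_smul]

/-- The group of order `2p³`. -/
abbrev H (p : ℕ) := V p ⋊[signAct p] ℤˣ

instance finiteH (p : ℕ) [NeZero p] : Finite (H p) :=
  Finite.of_equiv _ SemidirectProduct.equivProd.symm

/-- The three off-diagonal blocks. -/
def blk (p k : ℕ) (v : Fin 3 → ZMod p) : Matrix (Fin (k + 1)) (Fin k) (ZMod p) :=
  Matrix.of fun i j => (if (i : ℕ) = j then v 0 else 0) + (if (i : ℕ) = (j : ℕ) + 1 then v 1 else 0)
    + (if (i : ℕ) = 2 ∧ (j : ℕ) = 0 then v 2 else 0)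

theorem blk_add (p k : ℕ) (v w : Fin 3 → ZMod p) : blk p k (v + w) = blk p k v + blk p k w := by
  ext i j
  simp only [blk, Matrix.of_apply, Matrix.add_apply, Pi.add_apply]
  split_ifs <;> ring

theorem blk_smul (p k : ℕ) (c : ZMod p) (v : Fin 3 → ZMod p) : blk p k (c • v) = c • blk p k v := by
  ext i j
  simp only [blk, Matrix.of_apply, Matrix.smul_apply, Pi.smul_apply, smul_eq_mul]
  split_ifs <;> ring

/-- The block matrix of an element. -/
def blockMat (p k : ℕ) (h : H p) : Matrix (Fin k ⊕ Fin (k + 1)) (Fin k ⊕ Fin (k + 1)) (ZMod p) :=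
  Matrix.fromBlocks 1 0 (blk p k (Multiplicative.toAdd h.left)) ((((h.right : ℤ) : ZMod p)) • 1)

theorem blockMat_mul (p k : ℕ) (g h : H p) : blockMat p k (g * h) = blockMat p k g * blockMat p k h := by
  have hl : Multiplicative.toAdd ((g * h).left)
      = Multiplicative.toAdd g.left + ((((g.right : ℤ) : ZMod p))) • Multiplicative.toAdd h.left := rfl
  rw [blockMat, blockMat, blockMat, Matrix.fromBlocks_multiply, hl, blk_add, blk_smul, SemidirectProduct.mul_right]
  simp [smul_smul, mul_comm]

theorem det_blockMat (p k : ℕ) (hk : Odd k) (h : H p) : (blockMat p k h).det = 1 := by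
  rw [blockMat, Matrix.det_fromBlocks_zero₁₂, Matrix.det_one, Matrix.det_smul, Fintype.card_fin, Matrix.det_one,
    one_mul, mul_one, ← Int.cast_pow, ← Units.val_pow_eq_pow_val, Int.units_pow_eq_pow_mod_two,
    Nat.even_iff.1 hk.add_one, pow_zero, Units.val_one, Int.cast_one]

/-- The block matrices inside the special linear group. -/
noncomputable def toSL (p k : ℕ) (hk : Odd k) : H p →* Matrix.SpecialLinearGroup (Fin (k + (k + 1))) (ZMod p) where
  toFun h := ⟨Matrix.reindex finSumFinEquiv finSumFinEquiv (blockMat p k h), by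
    rw [Matrix.det_reindex_self]
    exact det_blockMat p k hk h⟩
  map_one' := by
    apply Subtype.ext
    show Matrix.reindex finSumFinEquiv finSumFinEquiv (blockMat p k 1) = 1
    have h1 : blockMat p k 1 = 1 := by
      rw [blockMat, ← Matrix.fromBlocks_one, show Multiplicative.toAdd (1 : H p).left = 0 from rfl]
      congr 1
      · ext i j; simp [blk]
      · simp
    rw [h1, Matrix.reindex_apply, Matrix.submatrix_one_equiv]
  map_mul' g h := by
    apply Subtype.ext
    show Matrix.reindex finSumFinEquiv finSumFinEquiv (blockMat p k (g * h)) = _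
    rw [blockMat_mul, Matrix.reindex_apply, ← Matrix.submatrix_mul_equiv _ _ _ finSumFinEquiv.symm]
    rfl

/-- The map into the projective special linear group. -/
noncomputable def toPSL (p k : ℕ) (hk : Odd k) :
    H p →* Matrix.ProjectiveSpecialLinearGroup (Fin (k + (k + 1))) (ZMod p) :=
  (QuotientGroup.mk' (Subgroup.center (Matrix.SpecialLinearGroup (Fin (k + (k + 1))) (ZMod p)))).comp (toSL p k hk)

theorem toSL_val (p k : ℕ) (hk : Odd k) (h : H p) :
    (toSL p k hk h).1 = Matrix.reindex finSumFinEquiv finSumFinEquiv (blockMat p k h) := rfl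

theorem toPSL_injective (p k : ℕ) [Fact p.Prime] (hk : Odd k) (hp : p ≠ 2) (h3 : 3 ≤ k) :
    Function.Injective (toPSL p k hk) := by
  rw [injective_iff_map_eq_one]
  intro h hh
  rw [toPSL, MonoidHom.comp_apply, QuotientGroup.mk'_apply, QuotientGroup.eq_one_iff,
    Matrix.SpecialLinearGroup.mem_center_iff] at hh
  obtain ⟨c, -, hc⟩ := hh
  have hb : blockMat p k h = Matrix.scalar _ c := by
    have h2 := congrArg (Matrix.reindex finSumFinEquiv.symm finSumFinEquiv.symm) hc.symm
    simp [toSL_val, Matrix.scalar_apply, Matrix.submatrix_diagonal_equiv, Function.comp_def] at h2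
    exact (Matrix.ext fun _ _ => rfl).trans h2
  have e : ∀ i j, blockMat p k h i j = (Matrix.scalar _ c : Matrix (Fin k ⊕ Fin (k + 1)) _ (ZMod p)) i j :=
    fun i j => by rw [hb]
  have e1 := e (Sum.inl ⟨0, by omega⟩) (Sum.inl ⟨0, by omega⟩)
  have e2 := e (Sum.inr ⟨0, by omega⟩) (Sum.inr ⟨0, by omega⟩)
  have f0 := e (Sum.inr ⟨0, by omega⟩) (Sum.inl ⟨0, by omega⟩)
  have f1 := e (Sum.inr ⟨1, by omega⟩) (Sum.inl ⟨0, by omega⟩)
  have f2 := e (Sum.inr ⟨2, by omega⟩) (Sum.inl ⟨0, by omega⟩)
  simp [blockMat, blk] at e1 e2 f0 f1 f2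
  rw [← e1] at e2
  refine SemidirectProduct.ext ?_ ?_
  · apply Multiplicative.toAdd.injective
    funext i
    fin_cases i
    · exact f0
    · exact f1
    · exact f2
  · rcases Int.units_eq_one_or h.right with h' | h'
    · exact h'
    · exfalso
      rw [h'] at e2
      push_cast at e2
      have h2 : ((2 : ℕ) : ZMod p) = 0 := by push_cast; linear_combination -e2
      have hdvd := (ZMod.natCast_eq_zero_iff 2 p).1 h2
      exact hp ((Nat.prime_dvd_prime_iff_eq (Fact.out : p.Prime) Nat.prime_two).1 hdvd)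

theorem centralizer_toPSL (p k : ℕ) [Fact p.Prime] (hk : Odd k) (hp : p ≠ 2) (h3 : 3 ≤ k) :
    Subgroup.centralizer ((toPSL p k hk).range : Set (Matrix.ProjectiveSpecialLinearGroup (Fin (k + (k + 1))) (ZMod p)))
      = ⊥ := by
  rw [eq_bot_iff]
  intro x hx
  obtain ⟨g, rfl⟩ := QuotientGroup.mk_surjective x
  rw [Subgroup.mem_bot, QuotientGroup.eq_one_iff, Matrix.SpecialLinearGroup.mem_center_iff]
  set G : Matrix (Fin k ⊕ Fin (k + 1)) (Fin k ⊕ Fin (k + 1)) (ZMod p) :=
    Matrix.reindex finSumFinEquiv.symm finSumFinEquiv.symm (g : Matrix _ _ (ZMod p)) with hG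
  have hcomm : ∀ h : H p, ∃ c : ZMod p, G * blockMat p k h = c • (blockMat p k h * G) := by
    intro h
    have h1 := Subgroup.mem_centralizer_iff.1 hx (toPSL p k hk h) ⟨h, rfl⟩
    rw [toPSL, MonoidHom.comp_apply, QuotientGroup.mk'_apply, ← QuotientGroup.mk_mul, ← QuotientGroup.mk_mul,
      QuotientGroup.eq] at h1
    obtain ⟨c, -, hc⟩ := Matrix.SpecialLinearGroup.mem_center_iff.1 h1
    refine ⟨c, ?_⟩
    have h2 : (toSL p k hk h * g).1 * Matrix.scalar (Fin (k + (k + 1))) c = (g * toSL p k hk h).1 := by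
      rw [hc, ← Matrix.SpecialLinearGroup.coe_mul, mul_inv_cancel_left]
    rw [Matrix.SpecialLinearGroup.coe_mul, Matrix.SpecialLinearGroup.coe_mul] at h2
    have h3 := congrArg (Matrix.reindex finSumFinEquiv.symm finSumFinEquiv.symm) h2
    have hd : Matrix.reindex finSumFinEquiv.symm finSumFinEquiv.symm
        ((toSL p k hk h : Matrix.SpecialLinearGroup _ (ZMod p)) : Matrix _ _ (ZMod p)) = blockMat p k h := by
      ext i j; simp [toSL_val]
    rw [Matrix.reindex_apply, Matrix.reindex_apply, ← Matrix.submatrix_mul_equiv _ _ _ finSumFinEquiv,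
      ← Matrix.submatrix_mul_equiv _ _ _ finSumFinEquiv] at h3
    simp only [Matrix.reindex_apply, Equiv.symm_symm] at hd hG h3
    rw [← Matrix.submatrix_mul_equiv _ _ _ finSumFinEquiv, hd, ← hG, Matrix.scalar_apply,
      Matrix.submatrix_diagonal_equiv] at h3
    rw [← h3]
    show _ = c • _
    rw [show Matrix.diagonal ((fun _ => c) ∘ finSumFinEquiv) = c • (1 : Matrix (Fin k ⊕ Fin (k + 1)) _ (ZMod p))
      from (Matrix.smul_one_eq_diagonal c).symm, Matrix.mul_smul, mul_one]
  have hGdet : G.det = 1 := by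
    rw [hG, Matrix.det_reindex_self]
    exact g.2
  obtain ⟨P, Q, R, S, hPQRS⟩ : ∃ P Q R S, G = Matrix.fromBlocks P Q R S :=
    ⟨_, _, _, _, G.fromBlocks_toBlocks.symm⟩
  rw [hPQRS] at hcomm hGdet
  have h2 : (2 : ZMod p) ≠ 0 := fun h => hp ((Nat.prime_dvd_prime_iff_eq (Fact.out : p.Prime) Nat.prime_two).1
    ((ZMod.natCast_eq_zero_iff 2 p).1 (by exact_mod_cast h)))
  -- the reflection
  obtain ⟨c, hc⟩ := hcomm ⟨1, -1⟩
  simp only [blockMat, toAdd_one, show blk p k 0 = 0 by ext i j; simp [blk], Units.val_neg, Units.val_one,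
    Int.cast_neg, Int.cast_one, Matrix.fromBlocks_multiply, Matrix.fromBlocks_smul, Matrix.mul_one,
    Matrix.one_mul, Matrix.mul_zero, Matrix.zero_mul, add_zero, zero_add, neg_smul, one_smul,
    Matrix.mul_neg, Matrix.neg_mul, smul_neg, Matrix.fromBlocks_inj] at hc
  obtain ⟨cP, cQ, cR, cS⟩ := hc
  have hc1 : c = 1 := by
    by_contra hne
    have zP : P = 0 := (smul_eq_zero.1 (show (1 - c) • P = 0 by rw [sub_smul, one_smul, ← cP, sub_self])).resolve_left
      (sub_ne_zero.2 (Ne.symm hne))
    have zS : S = 0 := by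
      refine (smul_eq_zero.1 (show (1 - c) • S = 0 by
        rw [sub_smul, one_smul, sub_eq_zero]; exact neg_injective cS)).resolve_left (sub_ne_zero.2 (Ne.symm hne))
    obtain ⟨x, hx, hx0⟩ : ∃ x, Q *ᵥ x = 0 ∧ x ≠ 0 := by
      have hlt : Module.finrank (ZMod p) (Fin k → ZMod p) < Module.finrank (ZMod p) (Fin (k + 1) → ZMod p) := by
        simp
      obtain ⟨x, hx, hx0⟩ := Submodule.ne_bot_iff _ |>.1
        (LinearMap.ker_ne_bot_of_finrank_lt (f := Q.mulVecLin) hlt)
      exact ⟨x, hx, hx0⟩
    have hz := Matrix.eq_zero_of_mulVec_eq_zero (M := Matrix.fromBlocks P Q R S)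
      (by rw [hGdet]; exact one_ne_zero) (v := Sum.elim 0 x) (by
        rw [Matrix.fromBlocks_mulVec]; funext i; rcases i with i | i <;> simp [zS, hx])
    exact hx0 (funext fun i => congrFun hz (Sum.inr i))
  subst hc1
  rw [one_smul] at cQ cR
  have zQ : Q = 0 := by
    ext i j
    have := congrFun (congrFun cQ i) j
    rw [Matrix.neg_apply] at this
    exact (mul_eq_zero.1 (show (2 : ZMod p) * Q i j = 0 by linear_combination -this)).resolve_left h2
  have zR : R = 0 := by
    ext i j
    have := congrFun (congrFun cR i) j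
    rw [Matrix.neg_apply] at this
    exact (mul_eq_zero.1 (show (2 : ZMod p) * R i j = 0 by linear_combination this)).resolve_left h2
  subst zQ zR
  rw [Matrix.det_fromBlocks_zero₁₂] at hGdet
  -- the abelian part
  have hv : ∀ v : Fin 3 → ZMod p, S * blk p k v = blk p k v * P := by
    intro v
    obtain ⟨d, hd⟩ := hcomm ⟨Multiplicative.ofAdd v, 1⟩
    simp only [blockMat, toAdd_ofAdd, Units.val_one, Int.cast_one, one_smul, Matrix.fromBlocks_multiply,
      Matrix.fromBlocks_smul, Matrix.mul_one, Matrix.one_mul, Matrix.mul_zero, Matrix.zero_mul, add_zero,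
      zero_add, Matrix.fromBlocks_inj] at hd
    have hP : P ≠ 0 := by
      rintro rfl
      haveI : Nonempty (Fin k) := ⟨⟨0, by omega⟩⟩
      rw [Matrix.det_zero, zero_mul] at hGdet
      exact zero_ne_one hGdet
    have hd1 : d = 1 := by
      by_contra hne
      exact hP ((smul_eq_zero.1 (show (1 - d) • P = 0 by rw [sub_smul, one_smul, ← hd.1, sub_self])).resolve_left
        (sub_ne_zero.2 (Ne.symm hne)))
    rw [hd.2.2.1, hd1, one_smul]
  have hA : ∀ (i : Fin (k + 1)) (j : Fin k), S i j.castSucc = if h : (i : ℕ) < k then P ⟨i, h⟩ j else 0 := by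
    intro i j
    have h := congrFun (congrFun (hv ![1, 0, 0]) i) j
    rw [Matrix.mul_apply, Matrix.mul_apply, Finset.sum_eq_single j.castSucc] at h
    · simp [blk] at h
      rw [h]
      split_ifs with hi
      · rw [Finset.sum_eq_single (⟨i, hi⟩ : Fin k)]
        · simp
        · intro b _ hb
          rw [if_neg (fun hh => hb (Fin.ext hh.symm))]
        · simp
      · refine Finset.sum_eq_zero fun b _ => ?_
        rw [if_neg (by omega)]
    · intro b _ hb
      simp [blk, show (b : ℕ) ≠ (j : ℕ) from fun hh => hb (Fin.ext hh)]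
    · simp
  have hB : ∀ (i : Fin (k + 1)) (j : Fin k),
      S i j.succ = if h : 1 ≤ (i : ℕ) then P ⟨(i : ℕ) - 1, by omega⟩ j else 0 := by
    intro i j
    have h := congrFun (congrFun (hv ![0, 1, 0]) i) j
    rw [Matrix.mul_apply, Matrix.mul_apply, Finset.sum_eq_single j.succ] at h
    · simp [blk] at h
      rw [h]
      split_ifs with hi
      · rw [Finset.sum_eq_single (⟨(i : ℕ) - 1, by omega⟩ : Fin k)]
        · rw [if_pos (show (i : ℕ) = (i : ℕ) - 1 + 1 by omega)]
        · intro b _ hb
          rw [if_neg (fun hh => hb (Fin.ext (show (b : ℕ) = (i : ℕ) - 1 by omega)))]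
        · simp
      · refine Finset.sum_eq_zero fun b _ => ?_
        rw [if_neg (by omega)]
    · intro b _ hb
      simp [blk, show (b : ℕ) ≠ (j : ℕ) + 1 from fun hh => hb (Fin.ext hh)]
    · simp
  let S' : ℕ → ℕ → ZMod p := fun i j => if h : i ≤ k ∧ j ≤ k then S ⟨i, by omega⟩ ⟨j, by omega⟩ else 0
  have hstep : ∀ i j, i < k → j < k → S' (i + 1) (j + 1) = S' i j := by
    intro i j hi hj
    simp only [S', dif_pos (show i + 1 ≤ k ∧ j + 1 ≤ k by omega), dif_pos (show i ≤ k ∧ j ≤ k by omega)]
    have h1 := hB ⟨i + 1, by omega⟩ ⟨j, hj⟩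
    rw [dif_pos (by simp)] at h1
    have h2 := hA ⟨i, by omega⟩ ⟨j, hj⟩
    rw [dif_pos (by exact hi)] at h2
    exact h1.trans h2.symm
  have htop : ∀ j, 1 ≤ j → j ≤ k → S' 0 j = 0 := by
    intro j h1 h2
    simp only [S', dif_pos (show 0 ≤ k ∧ j ≤ k by omega)]
    have h := hB ⟨0, by omega⟩ ⟨j - 1, by omega⟩
    rw [dif_neg (by simp)] at h
    rwa [show Fin.succ (⟨j - 1, by omega⟩ : Fin k) = ⟨j, by omega⟩ from Fin.ext (by simp; omega)] at h
  have hbot : ∀ j, j < k → S' k j = 0 := by
    intro j hj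
    simp only [S', dif_pos (show k ≤ k ∧ j ≤ k by omega)]
    have h := hA ⟨k, by omega⟩ ⟨j, hj⟩
    rw [dif_neg (by simp)] at h
    exact h
  have hshift : ∀ d i j, i + d ≤ k → j + d ≤ k → S' (i + d) (j + d) = S' i j := by
    intro d
    induction d with
    | zero => intro i j _ _; rfl
    | succ d ih => intro i j hi hj; rw [← add_assoc, ← add_assoc, hstep _ _ (by omega) (by omega), ih i j (by omega) (by omega)]
  have hS : ∀ i j : Fin (k + 1), S i j = if i = j then S 0 0 else 0 := by
    intro i j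
    have hi : S i j = S' i j := by simp only [S', dif_pos (show (i : ℕ) ≤ k ∧ (j : ℕ) ≤ k by omega)]
    rw [hi]
    rcases lt_trichotomy (i : ℕ) (j : ℕ) with h | h | h
    · rw [if_neg (fun hh => h.ne (congrArg Fin.val hh))]
      have := hshift i 0 ((j : ℕ) - i) (by omega) (by omega)
      rw [zero_add, show (j : ℕ) - i + i = j by omega] at this
      rw [this, htop _ (by omega) (by omega)]
    · rw [if_pos (Fin.ext h), ← h]
      have := hshift i 0 0 (by omega) (by omega)
      rw [zero_add] at this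
      rw [this]
      simp only [S', dif_pos (show 0 ≤ k ∧ 0 ≤ k by omega)]
      rfl
    · rw [if_neg (fun hh => h.ne' (congrArg Fin.val hh))]
      have := hshift (k - i) i j (by omega) (by omega)
      rw [show (i : ℕ) + (k - i) = k by omega] at this
      rw [← this, hbot _ (by omega)]
  have hP : ∀ i j : Fin k, P i j = if i = j then S 0 0 else 0 := by
    intro i j
    have h := hA i.castSucc j
    rw [dif_pos (by simp)] at h
    rw [show P i j = S i.castSucc j.castSucc from h.symm, hS]
    simp [Fin.ext_iff]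
  have hGs : G = Matrix.scalar _ (S 0 0) := by
    rw [hPQRS]
    ext i j
    rcases i with i | i <;> rcases j with j | j <;> simp [hP, Matrix.scalar_apply, Matrix.diagonal_apply]
    exact hS i j
  refine ⟨S 0 0, ?_, ?_⟩
  · have hd : G.det = 1 := by rw [hG, Matrix.det_reindex_self]; exact g.2
    rw [hGs] at hd
    simpa [Matrix.scalar_apply, Matrix.det_diagonal] using hd
  · have h := congrArg (Matrix.reindex finSumFinEquiv finSumFinEquiv) hGs
    rw [hG] at h
    simp [Matrix.scalar_apply, Matrix.submatrix_diagonal_equiv, Function.comp_def] at h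
    exact h.symm.trans (Matrix.ext fun _ _ => rfl)


/-- For every odd prime `p` there is a finite group `H` of order `2p³` which, for infinitely many `n`, embeds in the projective special linear group `PSL(n, p)` as a subgroup with trivial centralizer. -/
theorem result
    (p : ℕ) [Fact p.Prime] (hp : p ≠ 2) :
    ∃ (H : Type) (_ : Group H) (_ : Finite H), Nat.card H = 2 * p ^ 3 ∧
      ∀ N : ℕ, ∃ n, N ≤ n ∧ ∃ φ : H →* Matrix.ProjectiveSpecialLinearGroup (Fin n) (ZMod p),
        Function.Injective φ ∧ Subgroup.centralizer (φ.range : Set (Matrix.ProjectiveSpecialLinearGroup (Fin n) (ZMod p))) = ⊥ := by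
  haveI : NeZero p := ⟨(Fact.out : p.Prime).ne_zero⟩
  refine ⟨H p, inferInstance, inferInstance, ?_, fun N => ?_⟩
  · rw [SemidirectProduct.card, Nat.card_congr Multiplicative.toAdd, Nat.card_fun, Nat.card_fin, Nat.card_zmod,
      Nat.card_eq_fintype_card, Fintype.card_units_int, mul_comm]
  obtain ⟨k, hk, hk3, hko⟩ : ∃ k, N ≤ k ∧ 3 ≤ k ∧ Odd k := ⟨2 * N + 3, by omega, by omega, ⟨N + 1, by ring⟩⟩
  exact ⟨k + (k + 1), by omega, toPSL p k hko, toPSL_injective p k hko hp (by omega),
    centralizer_toPSL p k hko hp (by omega)⟩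

end Cfsg.Agent.S2533
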