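import Cfsg.Statements.S2534
import Cfsg.Agent.Lib.HallSym.Counter


set_option autoImplicit false
open Cfsg

namespace Cfsg.Agent.S2534
open Cfsg.Agent.Lib.HallSym

/-- For `n ≥ 5` and a set of primes `π`, the alternating group of degree `n` satisfies the full Sylow analogue for `π` (its maximal `π`-subgroups are pairwise conjugate; for a finite group this says Hall `π`-subgroups exist, are all conjugate, and contain every `π`-subgroup up to conjugacy) if and only if either at most one prime of `π` divides its order or every prime dividing its order lies in `π`. -/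
theorem result (n : ℕ) (hn : 5 ≤ n) (π : Set ℕ) :
    Cfsg.IsDPiGroup π ↥(alternatingGroup (Fin n)) ↔
      ((∀ r s : ℕ, r.Prime → s.Prime → r ∈ π → s ∈ π → r ∣ Nat.card ↥(alternatingGroup (Fin n)) → s ∣ Nat.card ↥(alternatingGroup (Fin n)) → r = s) ∨
        ∀ r : ℕ, r.Prime → r ∣ Nat.card ↥(alternatingGroup (Fin n)) → r ∈ π) := by
  haveI : Nontrivial (Fin n) := Fin.nontrivial_iff_two_le.2 (by omega)
  have hdvd : ∀ r : ℕ, r.Prime → r ≤ n → r ∣ Nat.card ↥(alternatingGroup (Fin n)) := by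
    intro r hr hrn
    have h1 : 2 * Nat.card ↥(alternatingGroup (Fin n)) = n.factorial := by
      rw [two_mul_nat_card_alternatingGroup, Nat.card_perm, Nat.card_fin]
    rcases eq_or_ne r 2 with rfl | hr2
    · have h4 : 4 ∣ n.factorial :=
        (show 4 ∣ Nat.factorial 4 from ⟨6, by decide⟩).trans (Nat.factorial_dvd_factorial (by omega))
      omega
    · rcases hr.dvd_mul.1 (h1 ▸ hr.dvd_factorial.2 hrn : r ∣ 2 * _) with h | h
      · exact absurd ((Nat.prime_dvd_prime_iff_eq hr Nat.prime_two).1 h) hr2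
      · exact h
  constructor
  swap
  · rintro (h | h)
    · exact (dPi_cPi_of_degenerate (Or.inr h)).1
    · exact (dPi_cPi_of_degenerate (Or.inl h)).1
  intro hD
  by_contra hcon
  rw [not_or] at hcon
  push_neg at hcon
  obtain ⟨⟨r, s, hr, hs, hrπ, hsπ, hrd, hsd, hrs⟩, ⟨t, ht, htd, htπ⟩⟩ := hcon
  have h : Proper π (Fintype.card (Fin n)) := by
    rw [Fintype.card_fin]
    exact ⟨⟨r, s, hr, hs, hrs, hrπ, hsπ, prime_le_of_dvd_alt hr hrd, prime_le_of_dvd_alt hs hsd⟩,
      ⟨t, ht, prime_le_of_dvd_alt ht htd, htπ⟩⟩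
  obtain ⟨H, -, hH⟩ := dPi_exists_hall_ge hD (K := ⊥) (fun q hq hd =>
    absurd (Nat.dvd_one.1 (by rwa [Subgroup.card_bot] at hd)) hq.ne_one)
  obtain ⟨M₀, hM₀, -⟩ := exists_perm_of_alt hH
  have hshape := h.shape_of_perm hM₀
  rw [Fintype.card_fin] at hshape
  rcases hshape with ⟨hn', hπ⟩ | ⟨h78, hπ⟩
  · exact not_dPi_prime hn' hn hπ (isPiHall_splitOne hn' (by omega) hπ) hD
  · have hsmall : ∀ N : ℕ, N ∣ 6 ^ 8 → ∀ q : ℕ, q.Prime → q ∣ N → q ∈ π := fun N hN q hq hd => by
      have h6 := hq.dvd_of_dvd_pow (hd.trans hN)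
      rw [show (6 : ℕ) = 2 * 3 by norm_num] at h6
      rcases hq.dvd_mul.1 h6 with h | h
      · obtain rfl := (Nat.prime_dvd_prime_iff_eq hq Nat.prime_two).1 h
        exact (hπ 2 hq (by omega)).2 (Or.inl rfl)
      · obtain rfl := (Nat.prime_dvd_prime_iff_eq hq Nat.prime_three).1 h
        exact (hπ 3 hq (by omega)).2 (Or.inr rfl)
    rcases h78 with rfl | rfl
    · exact not_dPi_seven hπ (hsmall _) hD
    · exact not_dPi_eight hπ (hsmall _) hD

end Cfsg.Agent.S2534
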