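import Cfsg.Statements.S2540
import Cfsg.Agent.Lib.Linear.Simple
import Cfsg.Agent.Lib.Linear.Order

set_option autoImplicit false
open Cfsg

namespace Cfsg.Agent.S2540
open Cfsg.Agent.Lib
open scoped commutatorElement

/-- Let F be a finite field and n ≥ 1, excluding the case n = 2 with #F ≤ 3. A subgroup of GL_n(F) that is normalized by every element of SL_n(F) either consists of scalar matrices or contains SL_n(F). -/
theorem result {F : Type*} [Field F] [Fintype F] (n : ℕ) (hn : 1 ≤ n) (hex : ¬ (n = 2 ∧ Fintype.card F ≤ 3)) (G : Subgroup (Matrix.GeneralLinearGroup (Fin n) F)) (hG : ∀ s : Matrix.SpecialLinearGroup (Fin n) F, ∀ g ∈ G, (Matrix.SpecialLinearGroup.toGL s) * g * (Matrix.SpecialLinearGroup.toGL s)⁻¹ ∈ G) : (∀ g ∈ G, ∃ c : F, (g : Matrix (Fin n) (Fin n) F) = c • (1 : Matrix (Fin n) (Fin n) F)) ∨ (Matrix.SpecialLinearGroup.toGL : Matrix.SpecialLinearGroup (Fin n) F →* _).range ≤ G := by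
  classical
  rcases Nat.lt_or_ge n 2 with hn1 | hn2
  · left
    intro g _
    obtain rfl : n = 1 := by omega
    refine ⟨(g : Matrix (Fin 1) (Fin 1) F) 0 0, ?_⟩
    ext i j
    fin_cases i; fin_cases j; simp
  have h4 : n = 2 → 4 ≤ Nat.card F := fun h => by
    rw [Nat.card_eq_fintype_card]
    by_contra h'
    exact hex ⟨h, by omega⟩
  haveI hsimp : IsSimpleGroup (Matrix.ProjectiveSpecialLinearGroup (Fin n) F) := Linear.isSimpleGroup_PSL hn2 h4
  have hperf : commutator (Matrix.SpecialLinearGroup (Fin n) F) = ⊤ := Linear.commutator_SL_eq_top hn2 h4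
  let S := Matrix.SpecialLinearGroup (Fin n) F
  let N : Subgroup S := G.comap Matrix.SpecialLinearGroup.toGL
  haveI hN : N.Normal := ⟨fun x hx s => by
    show Matrix.SpecialLinearGroup.toGL (s * x * s⁻¹) ∈ G
    rw [map_mul, map_mul, map_inv]
    exact hG s _ hx⟩
  rcases (Subgroup.Normal.map hN (QuotientGroup.mk' (Subgroup.center S)) (QuotientGroup.mk'_surjective _)).eq_bot_or_eq_top
    with h | h
  · left
    have hNZ : N ≤ Subgroup.center S := by
      rwa [Subgroup.map_eq_bot_iff, QuotientGroup.ker_mk'] at h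
    intro g hg
    have hφ : ∀ s : S, ∃ z : S, z ∈ Subgroup.center S ∧ Matrix.SpecialLinearGroup.toGL z =
        Matrix.SpecialLinearGroup.toGL s * g * (Matrix.SpecialLinearGroup.toGL s)⁻¹ * g⁻¹ := by
      intro s
      have hd : Matrix.SpecialLinearGroup.toGL s * g * (Matrix.SpecialLinearGroup.toGL s)⁻¹ * g⁻¹ ∈
          (Matrix.SpecialLinearGroup.toGL : S →* GL (Fin n) F).range := by
        rw [Linear.range_toGL_eq_ker_det, MonoidHom.mem_ker, map_mul, map_mul, map_mul, map_inv, map_inv,
          mul_comm (Matrix.GeneralLinearGroup.det (Matrix.SpecialLinearGroup.toGL s)), mul_inv_cancel_right,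
          mul_inv_cancel]
      obtain ⟨z, hz⟩ := hd
      refine ⟨z, hNZ ?_, hz⟩
      show Matrix.SpecialLinearGroup.toGL z ∈ G
      rw [hz]
      exact mul_mem (hG s g hg) (inv_mem hg)
    choose z hzc hz using hφ
    let φ : S →* Subgroup.center S := MonoidHom.mk' (fun s => ⟨z s, hzc s⟩) fun s t => by
      apply Subtype.ext
      show z (s * t) = z s * z t
      have hc : s * z t = z t * s := Subgroup.mem_center_iff.1 (hzc t) s
      rw [← Subgroup.mem_center_iff.1 (hzc s) (z t)]
      apply Matrix.SpecialLinearGroup.toGL_injective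
      have hc' := congrArg Matrix.SpecialLinearGroup.toGL hc
      rw [map_mul, map_mul] at hc'
      rw [map_mul, hz (s * t), map_mul]
      calc Matrix.SpecialLinearGroup.toGL s * Matrix.SpecialLinearGroup.toGL t * g *
            (Matrix.SpecialLinearGroup.toGL s * Matrix.SpecialLinearGroup.toGL t)⁻¹ * g⁻¹
          = Matrix.SpecialLinearGroup.toGL s *
            (Matrix.SpecialLinearGroup.toGL t * g * (Matrix.SpecialLinearGroup.toGL t)⁻¹ * g⁻¹) * g *
            (Matrix.SpecialLinearGroup.toGL s)⁻¹ * g⁻¹ := by group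
        _ = Matrix.SpecialLinearGroup.toGL s * Matrix.SpecialLinearGroup.toGL (z t) * g *
            (Matrix.SpecialLinearGroup.toGL s)⁻¹ * g⁻¹ := by rw [hz t]
        _ = _ := by rw [hc', hz s]; group
    have hker : φ.ker = ⊤ := by
      rw [eq_top_iff, ← hperf, commutator_def, Subgroup.commutator_le]
      intro a _ b _
      rw [MonoidHom.mem_ker, map_commutatorElement, commutatorElement_eq_one_iff_mul_comm]
      exact Subtype.ext (Subgroup.mem_center_iff.1 (φ b).2 (φ a : S))
    have hcomm : ∀ s : S, Matrix.SpecialLinearGroup.toGL s * g = g * Matrix.SpecialLinearGroup.toGL s := by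
      intro s
      have h1 : z s = 1 := congrArg Subtype.val (MonoidHom.mem_ker.1 (hker ▸ Subgroup.mem_top s) : φ s = 1)
      have h2 := hz s
      rw [h1, map_one, eq_comm, mul_inv_eq_one, mul_inv_eq_iff_eq_mul] at h2
      exact h2
    obtain ⟨c, hc⟩ := Matrix.mem_range_scalar_of_commute_single (M := (g : Matrix (Fin n) (Fin n) F)) fun i j hij => by
      have h1 := congrArg Units.val (hcomm (Matrix.SpecialLinearGroup.transvection hij 1))
      have hT : ((Matrix.SpecialLinearGroup.toGL (Matrix.SpecialLinearGroup.transvection hij (1 : F)) : GL (Fin n) F) :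
          Matrix (Fin n) (Fin n) F) = 1 + Matrix.single i j 1 := Matrix.SpecialLinearGroup.transvection_coe hij 1
      rw [Units.val_mul, Units.val_mul, hT] at h1
      exact add_left_cancel (a := (g : Matrix (Fin n) (Fin n) F)) (by simpa [add_mul, mul_add] using h1)
    exact ⟨c, by rw [← hc, Matrix.smul_one_eq_diagonal]; rfl⟩
  · right
    have hsup : N ⊔ Subgroup.center S = ⊤ := by
      rw [← QuotientGroup.ker_mk' (Subgroup.center S), ← Subgroup.comap_map_eq, h, Subgroup.comap_top]
    have hle : commutator S ≤ N := by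
      rw [commutator_def, Subgroup.commutator_le]
      intro a _ b _
      obtain ⟨x, hx, c, hc, rfl⟩ := Subgroup.mem_sup_of_normal_left.1 (hsup ▸ Subgroup.mem_top a)
      obtain ⟨y, hy, d, hd, rfl⟩ := Subgroup.mem_sup_of_normal_left.1 (hsup ▸ Subgroup.mem_top b)
      have e : ⁅x * c, y * d⁆ = ⁅x, y⁆ := by
        have hc' : ∀ w, c * w * c⁻¹ = w := fun w => by
          rw [← Subgroup.mem_center_iff.1 hc w, mul_inv_cancel_right]
        have hd' : ∀ w, d * w * d⁻¹ = w := fun w => by
          rw [← Subgroup.mem_center_iff.1 hd w, mul_inv_cancel_right]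
        calc ⁅x * c, y * d⁆ = x * (c * (y * d) * c⁻¹) * x⁻¹ * d⁻¹ * y⁻¹ := by
              simp only [commutatorElement_def, mul_inv_rev, mul_assoc]
          _ = x * y * (d * x⁻¹ * d⁻¹) * y⁻¹ := by rw [hc']; simp only [mul_assoc]
          _ = ⁅x, y⁆ := by rw [hd', commutatorElement_def]
      rw [e, commutatorElement_def]
      exact mul_mem (mul_mem (mul_mem hx hy) (inv_mem hx)) (inv_mem hy)
    rintro _ ⟨s, rfl⟩
    exact hle (hperf ▸ Subgroup.mem_top s)

end Cfsg.Agent.S2540
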