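import Cfsg.Statements.S2541
-- import your own Cfsg.Agent.* helpers here

set_option autoImplicit false
open Cfsg

namespace Cfsg.Agent.S2541

/-- Let F be a field with 9 elements. The symmetric group S_6 is not isomorphic to PGL_2(F) (although both have index-2 subgroups isomorphic to A_6). -/
theorem result {F : Type*} [Field F] [Fintype F] (hF : Fintype.card F = 9) : ¬ Nonempty (Equiv.Perm (Fin 6) ≃* Matrix.ProjGenLinGroup (Fin 2) F) := by
  rintro ⟨e⟩
  classical
  obtain ⟨u, hu⟩ := IsCyclic.exists_generator (α := Fˣ)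
  have hu8 : orderOf u = 8 := by
    rw [orderOf_eq_card_of_forall_mem_zpowers hu, Nat.card_eq_fintype_card, Fintype.card_units, hF]
  let d : Matrix (Fin 2) (Fin 2) F := Matrix.diagonal ![(u : F), 1]
  have hd : d.det ≠ 0 := by simp [d, Matrix.det_diagonal, Fin.prod_univ_two]
  let g : GL (Fin 2) F := Matrix.GeneralLinearGroup.mkOfDetNeZero d hd
  have key : ∀ k : ℕ, (Matrix.ProjGenLinGroup.mk g) ^ k = 1 ↔ u ^ k = 1 := by
    intro k
    rw [← map_pow, Matrix.ProjGenLinGroup.mk_eq_one,
      Matrix.GeneralLinearGroup.mem_center_iff_val_mem_range_scalar, Units.val_pow_eq_pow_val]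
    show _ ∈ _ ↔ _
    have hg : (g : Matrix (Fin 2) (Fin 2) F) = d := rfl
    rw [hg, Matrix.diagonal_pow]
    constructor
    · rintro ⟨c, hc⟩
      have h0 := congrFun (congrFun hc 0) 0
      have h1 := congrFun (congrFun hc 1) 1
      simp [Matrix.scalar_apply] at h0 h1
      exact Units.ext (by simp [← h0, h1])
    · intro h
      refine ⟨1, ?_⟩
      have hF' : (u : F) ^ k = 1 := by rw [← Units.val_pow_eq_pow_val, h, Units.val_one]
      ext i j
      fin_cases i <;> fin_cases j <;> simp [hF']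
  have ho : orderOf (Matrix.ProjGenLinGroup.mk g) = 8 := by
    have h1 : (Matrix.ProjGenLinGroup.mk g) ^ 8 = 1 := (key 8).2 (hu8 ▸ pow_orderOf_eq_one u)
    have h2 : ¬ (Matrix.ProjGenLinGroup.mk g) ^ 4 = 1 := fun h => by
      have := orderOf_dvd_of_pow_eq_one ((key 4).1 h)
      rw [hu8] at this
      norm_num at this
    exact orderOf_eq_prime_pow (p := 2) (n := 2) h2 h1
  have hσ : orderOf (e.symm (Matrix.ProjGenLinGroup.mk g)) = 8 := by
    rw [MulEquiv.orderOf_eq, ho]
  generalize e.symm (Matrix.ProjGenLinGroup.mk g) = σ at hσ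
  have hl : σ.cycleType.lcm ∣ 4 := by
    rw [Multiset.lcm_dvd]
    intro c hc
    have h8 : c ∣ 8 := hσ ▸ Equiv.Perm.dvd_of_mem_cycleType hc
    have h6 : c ≤ 6 := by
      calc c ≤ σ.cycleType.sum := Multiset.le_sum_of_mem hc
        _ = σ.support.card := Equiv.Perm.sum_cycleType σ
        _ ≤ 6 := σ.support.card_le_univ.trans (by simp)
    interval_cases c <;> omega
  rw [Equiv.Perm.lcm_cycleType, hσ] at hl
  omega

end Cfsg.Agent.S2541
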