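import Cfsg.Statements.S2548
import Cfsg.Agent.Lib.SteinbergChar.Orthogonal
import Cfsg.Agent.Lib.SteinbergChar.PlusFourTwo


set_option autoImplicit false
open Cfsg

namespace Cfsg.Agent.S2548

/-- Let F be a finite field of characteristic p and consider the group PΩ⁺_{2m}(F) of the hyperbolic quadratic form Σ x_i y_i with m ≥ 1, where Ω denotes the commutator subgroup of the full isometry group. This group has an irreducible complex character χ whose degree equals the order of a Sylow p-subgroup (equal to q^(m(m−1)) when #F = q, except in the degenerate case m = 2, q = 2, where this commutator subgroup has order 18 and its Sylow 2-subgroups have order 2) and whose restriction to any Sylow p-subgroup P is the regular character of P: χ vanishes on the non-identity elements of P. (This is the Steinberg character.) -/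
theorem result {F : Type*} [Field F] [Fintype F] (p : ℕ) [Fact p.Prime] [CharP F p] (m : ℕ) (hm : 1 ≤ m) : ∃ χ : Cfsg.POmega F (Cfsg.quadFormPlus m F) → ℂ, Cfsg.IsIrrCharacter (Cfsg.POmega F (Cfsg.quadFormPlus m F)) χ ∧ ∀ P : Sylow p (Cfsg.POmega F (Cfsg.quadFormPlus m F)), χ 1 = Nat.card P ∧ ∀ x : Cfsg.POmega F (Cfsg.quadFormPlus m F), x ∈ P → x ≠ 1 → χ x = 0 := by
  classical
  by_cases h : m = 2 ∧ Fintype.card F = 2
  · obtain ⟨rfl, hq⟩ := h
    obtain ⟨n, hp, hn⟩ := FiniteField.card F p
    have hp2 : p = 2 := (Nat.prime_dvd_prime_iff_eq hp Nat.prime_two).1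
      (hq ▸ hn ▸ dvd_pow_self p n.pos.ne')
    subst hp2
    exact Cfsg.Agent.Lib.SteinbergChar.PlusFourTwo.hasSteinberg_card_two hq
  · refine Cfsg.Agent.Lib.SteinbergChar.Orth.hasSteinberg_plus p hm ?_
    by_cases hm2 : m = 2
    · left
      have h2 : 2 < Fintype.card F :=
        lt_of_le_of_ne Fintype.one_lt_card fun e => h ⟨hm2, e.symm⟩
      obtain ⟨a, -, ha⟩ : ∃ a ∈ (Finset.univ : Finset F), a ∉ ({0, 1} : Finset F) :=
        Finset.exists_mem_notMem_of_card_lt_card (by
          rw [Finset.card_univ]; exact lt_of_le_of_lt Finset.card_le_two h2)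
      simp only [Finset.mem_insert, Finset.mem_singleton, not_or] at ha
      exact ⟨a, ha⟩
    · right
      rw [Module.finrank_fintype_fun_eq_card]
      simp only [Fintype.card_sum, Fintype.card_fin]
      omega

end Cfsg.Agent.S2548
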