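import Cfsg.Statements.S2550
import Cfsg.Agent.Lib.Linear.Order
import Cfsg.Agent.Lib.TransvectionClass

set_option autoImplicit false
open Cfsg

namespace Cfsg.Agent.S2550
open Cfsg.Agent.Lib

/-- An element of order six in `SL₄(2)`. -/
def w4 : Matrix (Fin 4) (Fin 4) (ZMod 2) := !![1,1,0,0; 0,1,0,0; 0,0,0,1; 0,0,1,1]

theorem w4_facts : w4 ^ 6 = 1 ∧ (w4 ^ 2) 2 3 = 1 ∧ (w4 ^ 3) 0 1 = 1 ∧ w4.det = 1 := by
  refine ⟨by decide, by decide, by decide, ?_⟩
  simp [w4, Matrix.det_succ_row_zero, Fin.sum_univ_succ]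

variable {F K : Type*} [Field F] [Fintype F] [Field K] [Fintype K]

theorem card_psl4 (hF : Fintype.card F = 2) :
    Nat.card (Matrix.ProjectiveSpecialLinearGroup (Fin 4) F) = 20160 := by
  have h1 := Linear.sub_one_mul_card_SL (F := F) 4 (by norm_num)
  rw [Linear.card_SL_eq_gcd_mul_card_PSL, hF, Nat.card_eq_fintype_card (α := F), hF, Fintype.card_fin,
    Fin.prod_univ_four] at h1
  simpa using h1

theorem card_psl3 (hK : Fintype.card K = 4) :
    Nat.card (Matrix.ProjectiveSpecialLinearGroup (Fin 3) K) = 20160 := by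
  have h1 := Linear.sub_one_mul_card_SL (F := K) 3 (by norm_num)
  rw [Linear.card_SL_eq_gcd_mul_card_PSL, hK, Nat.card_eq_fintype_card (α := K), hK, Fintype.card_fin,
    Fin.prod_univ_three] at h1
  simp at h1
  omega

/-- The centre of `SL₃(4)` has exponent three. -/
theorem center_cube {z : Matrix.SpecialLinearGroup (Fin 3) K}
    (hz : z ∈ Subgroup.center (Matrix.SpecialLinearGroup (Fin 3) K)) : z ^ 3 = 1 := by
  obtain ⟨r, hr, hr'⟩ := Matrix.SpecialLinearGroup.mem_center_iff.1 hz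
  apply Subtype.ext
  rw [Matrix.SpecialLinearGroup.coe_pow, ← hr', ← map_pow, ← Fintype.card_fin 3, hr, map_one]
  rfl

/-- An element commuting with a transvection of `SL₃(4)` has scalar fourth power. -/
theorem pow_four_scalar (hK : Fintype.card K = 4) (r x : Matrix.SpecialLinearGroup (Fin 3) K)
    (hr : r ^ 2 = 1) (hr1 : r ≠ 1) (hx : x * r = r * x) :
    x ^ 4 ∈ Subgroup.center (Matrix.SpecialLinearGroup (Fin 3) K) := by
  haveI : CharP K 2 := charP_of_card_eq_prime_pow (p := 2) (f := 2) (by rw [hK]; norm_num)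
  set R : Matrix (Fin 3) (Fin 3) K := (r : Matrix (Fin 3) (Fin 3) K) with hR
  have hR2 : R * R = 1 := by
    have := congrArg Subtype.val hr
    rwa [Matrix.SpecialLinearGroup.coe_pow, pow_two] at this
  have hN : (R - 1) * (R - 1) = 0 := by
    have h2 : (2 : K) = 0 := CharTwo.two_eq_zero
    have : (R - 1) * (R - 1) = (2 : K) • (1 - R) := by
      rw [two_smul, sub_mul, mul_sub, hR2, mul_one, one_mul]; abel
    rw [this, h2, zero_smul]
  have hrank : (R - 1).rank = 1 := by
    have hle : LinearMap.range (R - 1).mulVecLin ≤ LinearMap.ker (R - 1).mulVecLin := by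
      rintro _ ⟨y, rfl⟩
      rw [LinearMap.mem_ker, Matrix.mulVecLin_apply, Matrix.mulVecLin_apply, Matrix.mulVec_mulVec, hN,
        Matrix.zero_mulVec]
    have h1 := Submodule.finrank_mono hle
    have h2 := (R - 1).mulVecLin.finrank_range_add_finrank_ker
    rw [Module.finrank_fin_fun] at h2
    have h3 : Module.finrank K (LinearMap.range (R - 1).mulVecLin) ≠ 0 := by
      intro h
      rw [Submodule.finrank_eq_zero, LinearMap.range_eq_bot] at h
      refine hr1 (Subtype.ext (sub_eq_zero.1 ?_))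
      exact Matrix.toLin'.injective (h.trans (map_zero _).symm)
    show Module.finrank K (LinearMap.range (R - 1).mulVecLin) = 1
    omega
  obtain ⟨v, φ, hp, hv⟩ := TransvectionClass.exists_pair (t := R) ⟨hrank, hN⟩
  obtain ⟨g, hg1, hg2⟩ := TransvectionClass.exists_map_pair (v' := Pi.single (0 : Fin 3) (1 : K))
    (φ' := Pi.single (2 : Fin 3) 1) hp ⟨by simp, by simp, by simp [Pi.single_apply]⟩
  set E : Matrix (Fin 3) (Fin 3) K := Matrix.vecMulVec (Pi.single 0 1) (Pi.single 2 1)
  have hgR : (g : Matrix (Fin 3) (Fin 3) K) * R * (g⁻¹ : GL (Fin 3) K).1 = 1 + E := by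
    rw [hv, TransvectionClass.mul_tvMat hg1 hg2, mul_assoc, Units.mul_inv, mul_one]; rfl
  set Y : Matrix (Fin 3) (Fin 3) K := (g : Matrix (Fin 3) (Fin 3) K) * x.1 * (g⁻¹ : GL (Fin 3) K).1 with hY
  have hcomm : Y * E = E * Y := by
    have h1 : x.1 * R = R * x.1 := congrArg Subtype.val hx
    have h2 : Y * (1 + E) = (1 + E) * Y := by
      rw [← hgR, hY]
      simp only [mul_assoc, Units.inv_mul_cancel_left]
      simp only [← mul_assoc x.1, h1, mul_assoc]
    rwa [mul_add, add_mul, mul_one, one_mul, add_right_inj] at h2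
  have hent : ∀ i j, (Y * E) i j = (E * Y) i j := fun i j => by rw [hcomm]
  have e10 := hent 1 2
  have e20 := hent 2 2
  have e21 := hent 0 1
  have e02 := hent 0 2
  simp [E, Matrix.mul_apply, Fin.sum_univ_three, Matrix.vecMulVec_apply] at e10 e20 e21 e02
  have hdet : Y.det = 1 := by
    rw [hY, Matrix.det_mul, Matrix.det_mul, x.2, mul_one, ← Matrix.det_mul, Units.mul_inv, Matrix.det_one]
  rw [Matrix.det_fin_three, e10, e20, ← e21, ← e02] at hdet
  set a := Y 0 0
  set b := Y 1 1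
  have ha0 : a ≠ 0 := fun h => by simp [h] at hdet
  have hab : b = a := by
    have ha3 : a ^ 3 = 1 := by
      have := FiniteField.pow_card_sub_one_eq_one a ha0
      rwa [hK] at this
    ring_nf at hdet
    apply mul_left_cancel₀ (pow_ne_zero 2 ha0)
    linear_combination hdet - ha3
  set M := Y - a • (1 : Matrix (Fin 3) (Fin 3) K) with hM
  have hM3 : M * M * M = 0 := by
    have h10 : M 1 0 = 0 := by simp [hM, e10]
    have h20 : M 2 0 = 0 := by simp [hM, e20]
    have h21 : M 2 1 = 0 := by simp [hM, ← e21]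
    have h00 : M 0 0 = 0 := by simp [hM, a]
    have h11 : M 1 1 = 0 := by simp [hM, ← hab, b]
    have h22 : M 2 2 = 0 := by simp [hM, ← e02, a]
    ext i j
    fin_cases i <;> fin_cases j <;>
      simp [Matrix.mul_apply, Fin.sum_univ_three, h10, h20, h21, h00, h11, h22]
  have hY4 : Y ^ 4 = a ^ 4 • (1 : Matrix (Fin 3) (Fin 3) K) := by
    haveI : CharP (Matrix (Fin 3) (Fin 3) K) 2 := inferInstance
    have hsplit : Y = M + a • 1 := by rw [hM, sub_add_cancel]
    have hcm : Commute M (a • (1 : Matrix (Fin 3) (Fin 3) K)) := (Commute.one_right M).smul_right a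
    rw [hsplit, show (4 : ℕ) = 2 ^ 2 by norm_num, add_pow_char_pow_of_commute (p := 2) (n := 2) hcm,
      smul_pow, one_pow, show 2 ^ 2 = 3 + 1 by norm_num, pow_succ, pow_three', hM3, zero_mul, zero_add]
  have hY' : Y ^ 4 = (g : Matrix (Fin 3) (Fin 3) K) * x.1 ^ 4 * (g⁻¹ : GL (Fin 3) K).1 := by
    rw [hY]; exact Units.conj_pow g x.1 4
  have hx4 : x.1 ^ 4 = a ^ 4 • (1 : Matrix (Fin 3) (Fin 3) K) := by
    calc x.1 ^ 4 = (g⁻¹ : GL (Fin 3) K).1 * Y ^ 4 * g.1 := by
          rw [hY']; simp only [mul_assoc, Units.inv_mul_cancel_left, Units.inv_mul, mul_one]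
      _ = _ := by rw [hY4, Matrix.mul_smul, mul_one, Matrix.smul_mul, Units.inv_mul]
  rw [Subgroup.mem_center_iff]
  intro y
  apply Subtype.ext
  show y.1 * (x ^ 4).1 = (x ^ 4).1 * y.1
  rw [Matrix.SpecialLinearGroup.coe_pow, hx4, Matrix.mul_smul, Matrix.smul_mul, mul_one, one_mul]

/-- `PSL₃(4)` has no element of order six. -/
theorem no_order_six (hK : Fintype.card K = 4) (u : Matrix.ProjectiveSpecialLinearGroup (Fin 3) K) :
    orderOf u ≠ 6 := by
  intro hu
  have hu6 : u ^ 6 = 1 := hu ▸ pow_orderOf_eq_one u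
  have hu2 : u ^ 2 ≠ 1 := fun h => by have := orderOf_dvd_of_pow_eq_one h; rw [hu] at this; norm_num at this
  have hu3 : u ^ 3 ≠ 1 := fun h => by have := orderOf_dvd_of_pow_eq_one h; rw [hu] at this; norm_num at this
  obtain ⟨x, rfl⟩ := QuotientGroup.mk_surjective u
  have mem : ∀ k : ℕ, (x : Matrix.ProjectiveSpecialLinearGroup (Fin 3) K) ^ k = 1 →
      x ^ k ∈ Subgroup.center (Matrix.SpecialLinearGroup (Fin 3) K) := fun k h => by
    rw [← QuotientGroup.mk_pow] at h
    exact (QuotientGroup.eq_one_iff _).1 h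
  have hr2 : (x ^ 9) ^ 2 = 1 := by
    have := center_cube (mem 6 hu6)
    rw [← pow_mul] at this ⊢
    exact this
  have hr1 : x ^ 9 ≠ 1 := fun h => hu3 (by
    have h9 : (x : Matrix.ProjectiveSpecialLinearGroup (Fin 3) K) ^ 9 = 1 := by
      rw [← QuotientGroup.mk_pow, h]; rfl
    rwa [show 9 = 6 + 3 from rfl, pow_add, hu6, one_mul] at h9)
  have h4 := pow_four_scalar hK (x ^ 9) x hr2 hr1 (by rw [← pow_succ', ← pow_succ])
  apply hu2
  have h4' : (x : Matrix.ProjectiveSpecialLinearGroup (Fin 3) K) ^ 4 = 1 := by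
    rw [← QuotientGroup.mk_pow]; exact (QuotientGroup.eq_one_iff _).2 h4
  rw [show (6 : ℕ) = 4 + 2 from rfl, pow_add, h4', one_mul] at hu6
  exact hu6

/-- `PSL₄(2)` has an element of order six. -/
theorem exists_order_six (hF : Fintype.card F = 2) :
    ∃ u : Matrix.ProjectiveSpecialLinearGroup (Fin 4) F, orderOf u = 6 := by
  haveI : Fact (Nat.Prime 2) := ⟨Nat.prime_two⟩
  haveI : CharP F 2 := charP_of_card_eq_prime_pow (p := 2) (f := 1) (by rw [hF]; norm_num)
  let ι : ZMod 2 →+* F := ZMod.castHom dvd_rfl F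
  let x : Matrix.SpecialLinearGroup (Fin 4) F := Matrix.SpecialLinearGroup.map ι ⟨w4, w4_facts.2.2.2⟩
  have hxk : ∀ k i j, (x ^ k : Matrix.SpecialLinearGroup (Fin 4) F).1 i j = ι ((w4 ^ k) i j) := fun k i j => by
    rw [show x ^ k = Matrix.SpecialLinearGroup.map ι (⟨w4, w4_facts.2.2.2⟩ ^ k) from (map_pow _ _ k).symm]
    rfl
  have hne : ∀ k (i j : Fin 4), i ≠ j → (w4 ^ k) i j = 1 →
      (x : Matrix.ProjectiveSpecialLinearGroup (Fin 4) F) ^ k ≠ 1 := by
    intro k i j hij hk h
    rw [← QuotientGroup.mk_pow] at h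
    obtain ⟨c, -, hc⟩ := Matrix.SpecialLinearGroup.mem_center_iff.1 ((QuotientGroup.eq_one_iff _).1 h)
    have := congrFun (congrFun hc i) j
    rw [hxk, hk, map_one, Matrix.scalar_apply, Matrix.diagonal_apply_ne _ hij] at this
    exact zero_ne_one this
  refine ⟨(x : Matrix.ProjectiveSpecialLinearGroup (Fin 4) F), ?_⟩
  have h6 : (x : Matrix.ProjectiveSpecialLinearGroup (Fin 4) F) ^ 6 = 1 := by
    rw [← QuotientGroup.mk_pow, show x ^ 6 = 1 from Subtype.ext (Matrix.ext fun i j => by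
      rw [hxk, w4_facts.1]
      by_cases h : i = j <;> simp [Matrix.one_apply, h])]
    rfl
  have h2 := hne 2 2 3 (by decide) w4_facts.2.1
  have h3 := hne 3 0 1 (by decide) w4_facts.2.2.1
  have hd := orderOf_dvd_of_pow_eq_one h6
  have hle := Nat.le_of_dvd (by norm_num) hd
  have hp := pow_orderOf_eq_one (x : Matrix.ProjectiveSpecialLinearGroup (Fin 4) F)
  generalize orderOf (x : Matrix.ProjectiveSpecialLinearGroup (Fin 4) F) = n at hd hle hp ⊢
  interval_cases n
  · simp at hd
  · exact absurd (by rw [pow_one] at hp; rw [hp, one_pow]) h2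
  · exact absurd hp h2
  · exact absurd hp h3
  · norm_num at hd
  · norm_num at hd
  · rfl

/-- Let F be a field with 2 elements and K a field with 4 elements. PSL_4(F) and PSL_3(K) have the same order (20160) but are not isomorphic. -/
theorem result {F K : Type*} [Field F] [Fintype F] [Field K] [Fintype K] (hF : Fintype.card F = 2) (hK : Fintype.card K = 4) : Nat.card (Matrix.ProjectiveSpecialLinearGroup (Fin 4) F) = Nat.card (Matrix.ProjectiveSpecialLinearGroup (Fin 3) K) ∧ ¬ Nonempty (Matrix.ProjectiveSpecialLinearGroup (Fin 4) F ≃* Matrix.ProjectiveSpecialLinearGroup (Fin 3) K) := by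
  refine ⟨(card_psl4 hF).trans (card_psl3 hK).symm, fun ⟨e⟩ => ?_⟩
  obtain ⟨u, hu⟩ := exists_order_six (F := F) hF
  exact no_order_six hK (e u) (by rw [e.orderOf_eq, hu])

end Cfsg.Agent.S2550
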