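import Cfsg.Statements.S2551
import Cfsg.Agent.Lib.GL4Two

set_option autoImplicit false
open Cfsg

namespace Cfsg.Agent.S2551

set_option linter.style.haveILetI false

/-- Ordered pairs of distinct nonzero vectors of `F₂⁴`. -/
abbrev Pr : Type :=
  {x : (Fin 4 → ZMod 2) × (Fin 4 → ZMod 2) // x.1 ≠ 0 ∧ x.2 ≠ 0 ∧ x.1 ≠ x.2}

theorem mulVec_ne {g : GL (Fin 4) (ZMod 2)} {x y : Fin 4 → ZMod 2} (h : x ≠ y) :
    (g : Matrix (Fin 4) (Fin 4) (ZMod 2)).mulVec x ≠ (g : Matrix _ _ (ZMod 2)).mulVec y :=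
  fun e => h (Matrix.mulVec_injective_of_isUnit g.isUnit e)

theorem mulVec_ne_zero {g : GL (Fin 4) (ZMod 2)} {x : Fin 4 → ZMod 2} (h : x ≠ 0) :
    (g : Matrix (Fin 4) (Fin 4) (ZMod 2)).mulVec x ≠ 0 := by
  simpa using mulVec_ne (g := g) h

/-- Componentwise action on pairs. -/
def pairMap (g : GL (Fin 4) (ZMod 2)) (x : Pr) : Pr :=
  ⟨((g : Matrix (Fin 4) (Fin 4) (ZMod 2)).mulVec x.1.1,
    (g : Matrix (Fin 4) (Fin 4) (ZMod 2)).mulVec x.1.2),
    mulVec_ne_zero x.2.1, mulVec_ne_zero x.2.2.1, mulVec_ne x.2.2.2⟩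

theorem pairMap_one (x : Pr) : pairMap 1 x = x := by
  refine Subtype.ext (Prod.ext ?_ ?_) <;> simp [pairMap]

theorem pairMap_mul (g h : GL (Fin 4) (ZMod 2)) (x : Pr) :
    pairMap (g * h) x = pairMap g (pairMap h x) := by
  refine Subtype.ext (Prod.ext ?_ ?_) <;> simp [pairMap, Matrix.mulVec_mulVec]

instance pairAction : MulAction (GL (Fin 4) (ZMod 2)) Pr where
  smul := pairMap
  one_smul := pairMap_one
  mul_smul := pairMap_mul

theorem card_Pr : Nat.card Pr = 210 := by
  rw [Nat.card_eq_fintype_card]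
  decide +kernel

theorem indep (x : Pr) : LinearIndependent (ZMod 2) ![x.1.1, x.1.2] := by
  obtain ⟨⟨v, w⟩, hv, hw, hvw⟩ := x
  rw [LinearIndependent.pair_iff]
  intro a b h
  have : ∀ c : ZMod 2, c = 0 ∨ c = 1 := by decide
  rcases this a with rfl | rfl <;> rcases this b with rfl | rfl
  · exact ⟨rfl, rfl⟩
  · simp [hw] at h
  · simp [hv] at h
  · exfalso
    apply hvw
    have h2 : v + w = 0 := by simpa using h
    rw [eq_neg_of_add_eq_zero_left h2]
    funext i
    exact ZMod.neg_eq_self_mod_two _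

theorem gl_transitive (x y : Pr) : ∃ g : GL (Fin 4) (ZMod 2), g • x = y := by
  classical
  haveI : Fact (Nat.Prime 2) := ⟨Nat.prime_two⟩
  let bx := Module.Basis.sumExtend (indep x)
  let by' := Module.Basis.sumExtend (indep y)
  haveI := Module.Finite.finite_basis bx
  haveI := Module.Finite.finite_basis by'
  haveI : Finite ↑(Module.Basis.sumExtendIndex (indep x)) :=
    Finite.of_injective (Sum.inr (α := Fin 2)) Sum.inr_injective
  haveI : Finite ↑(Module.Basis.sumExtendIndex (indep y)) :=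
    Finite.of_injective (Sum.inr (α := Fin 2)) Sum.inr_injective
  have hc : Nat.card ↑(Module.Basis.sumExtendIndex (indep x)) =
      Nat.card ↑(Module.Basis.sumExtendIndex (indep y)) := by
    have h1 := Module.finrank_eq_nat_card_basis bx
    have h2 := Module.finrank_eq_nat_card_basis by'
    rw [Nat.card_sum] at h1 h2
    omega
  obtain ⟨e⟩ := Finite.card_eq.mp hc
  let L := bx.equiv by' (Equiv.sumCongr (Equiv.refl (Fin 2)) e)
  have hv : ∀ (i : Fin 2), L (![x.1.1, x.1.2] i) = ![y.1.1, y.1.2] i := by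
    intro i
    have h1 : bx (Sum.inl i) = ![x.1.1, x.1.2] i := by
      simp [bx, Module.Basis.sumExtend]
      rfl
    have h2 : by' (Sum.inl i) = ![y.1.1, y.1.2] i := by
      simp [by', Module.Basis.sumExtend]
      rfl
    rw [← h1, Module.Basis.equiv_apply, Equiv.sumCongr_apply, Sum.map_inl, Equiv.refl_apply, h2]
  let M := LinearMap.toMatrix' L.toLinearMap
  let Mi := LinearMap.toMatrix' L.symm.toLinearMap
  let g : GL (Fin 4) (ZMod 2) :=
    ⟨M, Mi, by simp [M, Mi, ← LinearMap.toMatrix'_comp], by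
      simp [M, Mi, ← LinearMap.toMatrix'_comp]⟩
  refine ⟨g, Subtype.ext (Prod.ext ?_ ?_)⟩
  · show M.mulVec x.1.1 = y.1.1
    rw [LinearMap.toMatrix'_mulVec]
    exact hv 0
  · show M.mulVec x.1.2 = y.1.2
    rw [LinearMap.toMatrix'_mulVec]
    exact hv 1

theorem core (H : Subgroup (GL (Fin 4) (ZMod 2))) (hH : Nat.card H = 2520) (x y : Pr) :
    ∃ g ∈ H, g • x = y := by
  classical
  have hG : ∀ z : Pr, Nat.card (MulAction.stabilizer (GL (Fin 4) (ZMod 2)) z) = 96 := by
    intro z
    have h1 : (MulAction.stabilizer (GL (Fin 4) (ZMod 2)) z).index = 210 := by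
      rw [MulAction.index_stabilizer, ← card_Pr, ← Nat.card_coe_set_eq]
      have : MulAction.orbit (GL (Fin 4) (ZMod 2)) z = Set.univ :=
        Set.eq_univ_of_forall fun w => gl_transitive z w
      rw [this, Nat.card_univ]
    have h2 := (MulAction.stabilizer (GL (Fin 4) (ZMod 2)) z).card_mul_index
    rw [h1, Cfsg.Agent.Lib.GL4Two.card_GL] at h2
    omega
  -- orbit sizes are multiples of 105
  have horb : ∀ z : Pr, 105 ∣ Nat.card (MulAction.orbit H z) := by
    intro z
    have h1 : Nat.card (MulAction.stabilizer H z) ∣ 24 := by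
      have hd1 : Nat.card (MulAction.stabilizer H z) ∣ 2520 := hH ▸ Subgroup.card_subgroup_dvd_card _
      have hd2 : Nat.card (MulAction.stabilizer H z) ∣ 96 := by
        rw [← hG z, ← Subgroup.card_map_of_injective H.subtype_injective
          (K := MulAction.stabilizer H z)]
        refine Subgroup.card_dvd_of_le ?_
        rintro _ ⟨a, ha, rfl⟩
        exact ha
      exact (Nat.dvd_gcd hd1 hd2).trans (by norm_num)
    have h2 := (MulAction.stabilizer H z).card_mul_index
    rw [hH, MulAction.index_stabilizer, ← Nat.card_coe_set_eq] at h2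
    obtain ⟨c, hc⟩ := h1
    refine ⟨c, ?_⟩
    have h3 : Nat.card (MulAction.stabilizer H z) * Nat.card (MulAction.orbit H z) =
        Nat.card (MulAction.stabilizer H z) * (105 * c) := by
      rw [h2]
      calc 2520 = 24 * 105 := by norm_num
        _ = _ := by rw [hc]; ring
    exact mul_left_cancel₀ Nat.card_pos.ne' h3
  -- an involution swaps some pair
  haveI : Fact (Nat.Prime 2) := ⟨Nat.prime_two⟩
  obtain ⟨t, ht⟩ := exists_prime_orderOf_dvd_card' (G := H) 2 (by rw [hH]; norm_num)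
  obtain ⟨u, hu⟩ : ∃ u, ((t : GL (Fin 4) (ZMod 2)) : Matrix (Fin 4) (Fin 4) (ZMod 2)).mulVec u ≠ u := by
    by_contra hc
    push Not at hc
    have : t = 1 := Subtype.ext (Units.ext (Matrix.ext_of_mulVec_single fun i => by
      rw [hc, Subgroup.coe_one, Units.val_one, Matrix.one_mulVec]))
    rw [this, orderOf_one] at ht
    norm_num at ht
  have hu0 : u ≠ 0 := fun h => hu (by rw [h, Matrix.mulVec_zero])
  let z : Pr := ⟨(u, ((t : GL (Fin 4) (ZMod 2)) : Matrix (Fin 4) (Fin 4) (ZMod 2)).mulVec u),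
    hu0, mulVec_ne_zero hu0, fun h => hu h.symm⟩
  let sw : Pr → Pr := fun w => ⟨(w.1.2, w.1.1), w.2.2.1, w.2.1, w.2.2.2.symm⟩
  have htz : t • z = sw z := by
    have htt : t * t = 1 := by
      have h := pow_orderOf_eq_one t
      rwa [ht, pow_two] at h
    refine Subtype.ext (Prod.ext rfl ?_)
    show ((t : GL (Fin 4) (ZMod 2)) : Matrix (Fin 4) (Fin 4) (ZMod 2)).mulVec
      (((t : GL (Fin 4) (ZMod 2)) : Matrix (Fin 4) (Fin 4) (ZMod 2)).mulVec u) = u
    rw [Matrix.mulVec_mulVec, ← Units.val_mul, ← Subgroup.coe_mul, htt, Subgroup.coe_one,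
      Units.val_one, Matrix.one_mulVec]
  have hsw : ∀ w ∈ MulAction.orbit H z, sw w ∈ MulAction.orbit H z := by
    rintro _ ⟨h, rfl⟩
    refine ⟨h * t, ?_⟩
    show (h * t) • z = sw (h • z)
    rw [mul_smul, htz]
    rfl
  have heven : Even (Nat.card (MulAction.orbit H z)) := by
    let S : Equiv.Perm (MulAction.orbit H z) :=
      Function.Involutive.toPerm (fun w => ⟨sw w, hsw w w.2⟩) (fun w => rfl)
    have hS : S ^ 2 = 1 := by
      refine Equiv.ext fun w => ?_
      rw [pow_two]
      rfl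
    by_contra hodd
    obtain ⟨w, hw⟩ := Equiv.Perm.exists_fixed_point_of_prime (p := 2) (n := 1)
      (by rw [← Nat.card_eq_fintype_card]; exact fun h => hodd (even_iff_two_dvd.mpr h))
      (by rwa [pow_one] : S ^ 2 ^ 1 = 1)
    exact (w : Pr).2.2.2 (congrArg (fun a : MulAction.orbit H z => (a : Pr).1.1) hw).symm
  have hfull : MulAction.orbit H z = Set.univ := by
    refine Set.eq_univ_of_forall ?_
    have h1 : Nat.card (MulAction.orbit H z) ≤ 210 := card_Pr ▸ Finite.card_subtype_le _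
    obtain ⟨c, hc⟩ := horb z
    haveI : Nonempty (MulAction.orbit H z) := ⟨⟨z, MulAction.mem_orbit_self z⟩⟩
    have hpos : 0 < Nat.card (MulAction.orbit H z) := Nat.card_pos
    have hc2 : c = 2 := by
      rcases heven with ⟨d, hd⟩
      omega
    intro w
    have h4 : (MulAction.orbit H z).ncard = (Set.univ : Set Pr).ncard := by
      rw [Set.ncard_univ, card_Pr, ← Nat.card_coe_set_eq, hc, hc2]
    rw [Set.eq_of_subset_of_ncard_le (Set.subset_univ _) h4.ge]
    trivial
  obtain ⟨a, ha⟩ : x ∈ MulAction.orbit H z := hfull ▸ Set.mem_univ x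
  obtain ⟨b, hb⟩ : y ∈ MulAction.orbit H z := hfull ▸ Set.mem_univ y
  refine ⟨((b * a⁻¹ : H) : GL (Fin 4) (ZMod 2)), (b * a⁻¹).2, ?_⟩
  show (b * a⁻¹) • x = y
  rw [← ha, mul_smul, inv_smul_smul]
  exact hb


/-- Let F be the field with 2 elements. GL_4(F) (≅ A_8) has a subgroup isomorphic to the alternating group A_7, and every such subgroup acts 2-transitively on the 15 non-zero vectors of F⁴: any ordered pair of distinct non-zero vectors is carried to any other by some element of the subgroup. -/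
theorem result {F : Type*} [Field F] [Fintype F] (hF : Fintype.card F = 2) : (∃ H : Subgroup (Matrix.GeneralLinearGroup (Fin 4) F), Nonempty (H ≃* alternatingGroup (Fin 7))) ∧ ∀ H : Subgroup (Matrix.GeneralLinearGroup (Fin 4) F), Nonempty (H ≃* alternatingGroup (Fin 7)) → ∀ v w v' w' : Fin 4 → F, v ≠ 0 → w ≠ 0 → v ≠ w → v' ≠ 0 → w' ≠ 0 → v' ≠ w' → ∃ g ∈ H, (g : Matrix (Fin 4) (Fin 4) F).mulVec v = v' ∧ (g : Matrix (Fin 4) (Fin 4) F).mulVec w = w' := by
  classical
  let e : ZMod 2 ≃+* F := ZMod.ringEquivOfPrime F Nat.prime_two hF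
  let E : GL (Fin 4) (ZMod 2) ≃* GL (Fin 4) F := Units.mapEquiv e.mapMatrix.toMulEquiv
  refine ⟨?_, ?_⟩
  · let f : alternatingGroup (Fin 7) →* alternatingGroup (Fin 8) :=
      { toFun := fun s => ⟨(s : Equiv.Perm (Fin 7)).extendDomain
            (Fin.castSuccEmb (n := 7)).toEquivRange, by
          rw [Equiv.Perm.mem_alternatingGroup, Equiv.Perm.sign_extendDomain]
          exact s.2⟩
        map_one' := Subtype.ext (Equiv.Perm.extendDomain_one _)
        map_mul' := fun a b => Subtype.ext (Equiv.Perm.extendDomain_mul _ _ _).symm }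
    have hf : Function.Injective f := fun a b h =>
      Subtype.ext (Equiv.Perm.extendDomainHom_injective _ (congrArg Subtype.val h))
    let φ : alternatingGroup (Fin 7) →* GL (Fin 4) F :=
      (E.toMonoidHom.comp Cfsg.Agent.Lib.GL4Two.equiv.symm.toMonoidHom).comp f
    have hφ : Function.Injective φ :=
      (E.injective.comp Cfsg.Agent.Lib.GL4Two.equiv.symm.injective).comp hf
    exact ⟨φ.range, ⟨(MonoidHom.ofInjective hφ).symm⟩⟩
  · intro H hH v w v' w' hv hw hvw hv' hw' hvw'
    obtain ⟨i⟩ := hH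
    let H' : Subgroup (GL (Fin 4) (ZMod 2)) := H.comap E.toMonoidHom
    have hc : Nat.card H' = 2520 := by
      have h2 : Nat.card H' = Nat.card H := by
        rw [← Subgroup.card_map_of_injective (f := E.toMonoidHom) E.injective,
          Subgroup.map_comap_eq_self_of_surjective (f := E.toMonoidHom) E.surjective H]
      rw [h2, Nat.card_congr i.toEquiv, nat_card_alternatingGroup, Nat.card_fin]
      rfl
    let d : (Fin 4 → F) → (Fin 4 → ZMod 2) := fun x => e.symm ∘ x
    have hd : Function.Injective d := fun a b h => funext fun k => e.symm.injective (congrFun h k)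
    have hd0 : ∀ x, x ≠ 0 → d x ≠ 0 := fun x hx h => hx (hd (h.trans (by funext k; simp [d])))
    obtain ⟨g, hg, hgx⟩ := core H' hc ⟨(d v, d w), hd0 v hv, hd0 w hw, hd.ne hvw⟩
      ⟨(d v', d w'), hd0 v' hv', hd0 w' hw', hd.ne hvw'⟩
    have hm : ∀ x y : Fin 4 → F,
        (g : Matrix (Fin 4) (Fin 4) (ZMod 2)).mulVec (d x) = d y →
        ((E g : GL (Fin 4) F) : Matrix (Fin 4) (Fin 4) F).mulVec x = y := by
      intro x y h
      funext k
      have h1 := congrArg e (congrFun h k)
      have h2 := RingHom.map_mulVec e.toRingHom (g : Matrix (Fin 4) (Fin 4) (ZMod 2)) (d x) k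
      have h3 : (e.toRingHom ∘ d x) = x := funext fun j => e.apply_symm_apply (x j)
      rw [h3] at h2
      rw [show e (d y k) = y k from e.apply_symm_apply (y k)] at h1
      rw [← h1]
      exact h2.symm
    have h4 := congrArg Subtype.val hgx
    exact ⟨E g, hg, hm v v' (congrArg Prod.fst h4), hm w w' (congrArg Prod.snd h4)⟩

end Cfsg.Agent.S2551
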