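import Cfsg.Statements.S2552
-- import your own Cfsg.Agent.* helpers here

set_option autoImplicit false
open Cfsg

namespace Cfsg.Agent.S2552

/-- Let F be a finite field and n ≥ 1. For every k, the special linear group SL_n(F) acts transitively on the set of k-dimensional subspaces of F^n: any two subspaces of the same dimension are carried onto each other by some matrix of determinant 1. -/
theorem result {F : Type*} [Field F] [Fintype F] (n : ℕ) (hn : 1 ≤ n) (U₁ U₂ : Submodule F (Fin n → F)) (h : Module.finrank F U₁ = Module.finrank F U₂) : ∃ g : Matrix.SpecialLinearGroup (Fin n) F, U₁.map ((Matrix.SpecialLinearGroup.toLin' g : (Fin n → F) ≃ₗ[F] (Fin n → F)) : (Fin n → F) →ₗ[F] (Fin n → F)) = U₂ := by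
  classical
  obtain ⟨C₁, hC₁⟩ := U₁.exists_isCompl
  obtain ⟨C₂, hC₂⟩ := U₂.exists_isCompl
  have hC : Module.finrank F C₁ = Module.finrank F C₂ := by
    have h1 := Submodule.finrank_add_eq_of_isCompl hC₁
    have h2 := Submodule.finrank_add_eq_of_isCompl hC₂
    omega
  let eU : U₁ ≃ₗ[F] U₂ := LinearEquiv.ofFinrankEq _ _ h
  let eC : C₁ ≃ₗ[F] C₂ := LinearEquiv.ofFinrankEq _ _ hC
  let f : (Fin n → F) ≃ₗ[F] (Fin n → F) :=
    ((Submodule.prodEquivOfIsCompl U₁ C₁ hC₁).symm.trans (eU.prodCongr eC)).trans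
      (Submodule.prodEquivOfIsCompl U₂ C₂ hC₂)
  have hf : U₁.map (f : (Fin n → F) →ₗ[F] (Fin n → F)) = U₂ := by
    refine Submodule.eq_of_le_of_finrank_eq ?_ ?_
    · rintro _ ⟨x, hx, rfl⟩
      show f x ∈ U₂
      have hs : (Submodule.prodEquivOfIsCompl U₁ C₁ hC₁).symm x = (⟨x, hx⟩, 0) :=
        Submodule.prodEquivOfIsCompl_symm_apply_left U₁ C₁ hC₁ ⟨x, hx⟩
      simp only [f, LinearEquiv.trans_apply, hs, LinearEquiv.prodCongr_apply, map_zero,
        Submodule.coe_prodEquivOfIsCompl', ZeroMemClass.coe_zero, add_zero]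
      exact (eU ⟨x, hx⟩).2
    · rw [LinearEquiv.finrank_map_eq, h]
  -- a diagonal correction in a basis adapted to `U₂`
  let b := ((Module.finBasis F U₂).prod (Module.finBasis F C₂)).map (Submodule.prodEquivOfIsCompl U₂ C₂ hC₂)
  have hne : Nonempty (Fin (Module.finrank F U₂) ⊕ Fin (Module.finrank F C₂)) := by
    rw [← not_isEmpty_iff]
    intro hemp
    have h1 := Module.finrank_eq_card_basis b
    rw [Fintype.card_eq_zero, Module.finrank_pi, Fintype.card_fin] at h1
    omega
  obtain ⟨i₀⟩ := hne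
  let w : Fin (Module.finrank F U₂) ⊕ Fin (Module.finrank F C₂) → Fˣ :=
    Function.update 1 i₀ (LinearEquiv.det f)⁻¹
  let s : (Fin n → F) ≃ₗ[F] (Fin n → F) := b.equiv (b.unitsSMul w) (Equiv.refl _)
  have hs : U₂.map (s : (Fin n → F) →ₗ[F] (Fin n → F)) = U₂ := by
    refine Submodule.eq_of_le_of_finrank_eq ?_ (LinearEquiv.finrank_map_eq s U₂)
    rintro _ ⟨x, hx, rfl⟩
    have hx' : x ∈ Submodule.span F (Set.range fun i => b (Sum.inl i)) := by
      have : (fun i => b (Sum.inl i)) = fun i => ((Module.finBasis F U₂ i : U₂) : Fin n → F) := by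
        funext i
        simp [b]
      rw [this]
      have h2 := (Module.finBasis F U₂).span_eq
      have h3 := congrArg (Submodule.map U₂.subtype) h2
      rw [Submodule.map_top, Submodule.range_subtype, Submodule.map_span, ← Set.range_comp] at h3
      rw [show (fun i => ((Module.finBasis F U₂ i : U₂) : Fin n → F))
          = U₂.subtype ∘ Module.finBasis F U₂ from rfl, h3]
      exact hx
    have hle : Submodule.span F (Set.range fun i => b (Sum.inl i)) ≤
        U₂.comap (s : (Fin n → F) →ₗ[F] (Fin n → F)) := by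
      rw [Submodule.span_le]
      rintro _ ⟨i, rfl⟩
      show s (b (Sum.inl i)) ∈ U₂
      simp only [s, Module.Basis.equiv_apply, Equiv.refl_apply, Module.Basis.unitsSMul_apply]
      refine U₂.smul_mem _ ?_
      simp [b]
    exact hle hx'
  have hdet : LinearMap.det (s : (Fin n → F) →ₗ[F] (Fin n → F)) = ((LinearEquiv.det f)⁻¹ : Fˣ) := by
    rw [← LinearMap.det_toMatrix b]
    have : LinearMap.toMatrix b b (s : (Fin n → F) →ₗ[F] (Fin n → F))
        = Matrix.diagonal fun i => (w i : F) := by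
      ext i j
      rw [LinearMap.toMatrix_apply, LinearEquiv.coe_coe]
      simp only [s, Module.Basis.equiv_apply, Equiv.refl_apply, Module.Basis.unitsSMul_apply,
        Units.smul_def, map_smul, Module.Basis.repr_self, Finsupp.smul_single, smul_eq_mul, mul_one]
      rcases eq_or_ne i j with rfl | hij
      · simp
      · simp [Matrix.diagonal_apply_ne _ hij, Finsupp.single_eq_of_ne hij]
    rw [this, Matrix.det_diagonal, Fintype.prod_eq_single i₀]
    · simp [w]
    · intro j hj
      simp [w, Function.update_of_ne hj]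
  let t : (Fin n → F) →ₗ[F] (Fin n → F) := (f.trans s : (Fin n → F) ≃ₗ[F] (Fin n → F))
  have hdt : (LinearMap.toMatrix' t).det = 1 := by
    rw [LinearMap.det_toMatrix', show t = (s : (Fin n → F) →ₗ[F] (Fin n → F)) ∘ₗ
      (f : (Fin n → F) →ₗ[F] (Fin n → F)) from rfl, LinearMap.det_comp, hdet,
      ← LinearEquiv.coe_det, ← Units.val_mul, inv_mul_cancel, Units.val_one]
  refine ⟨⟨LinearMap.toMatrix' t, hdt⟩, ?_⟩
  have ht : ((Matrix.SpecialLinearGroup.toLin' ⟨LinearMap.toMatrix' t, hdt⟩ :
      (Fin n → F) ≃ₗ[F] (Fin n → F)) : (Fin n → F) →ₗ[F] (Fin n → F)) = t :=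
    Matrix.toLin'_toMatrix' t
  rw [ht, show t = (s : (Fin n → F) →ₗ[F] (Fin n → F)) ∘ₗ
      (f : (Fin n → F) →ₗ[F] (Fin n → F)) from rfl, Submodule.map_comp, hf, hs]

end Cfsg.Agent.S2552
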