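import Cfsg.Statements.S2556
import Cfsg.Agent.Lib.SuzukiAutSylow.Main
import Cfsg.Agent.Lib.LieTwisted.SuzukiSylow
import Cfsg.Agent.Lib.LieTwisted.SuzukiBruhat


set_option autoImplicit false
open Cfsg

namespace Cfsg.Agent.S2556
open Cfsg.Agent.Lib.SuzukiAutSylow Cfsg.Agent.Lib.LieTwisted.Suzuki

/-- Let S be a Sylow 2-subgroup of the Suzuki group Sz(q), q = 2ⁿ with n = 2m + 1 ≥ 3 (realised as 4 × 4 matrices over the field with q elements). Then the largest normal 2-subgroup of the automorphism group of S is elementary abelian of order 2^(n²), and the automorphism group of S has order 2^(n²) · n · (q − 1). -/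
theorem result {S : Type*} [Group S] [Finite S] (m : ℕ) (hm : 1 ≤ m)
    {F : Type*} [Field F] [Fintype F] (hF : Fintype.card F = 2 ^ (2 * m + 1))
    (P : Sylow 2 ↥(Cfsg.Lie.Sz F (2 ^ (m + 1)))) (hS : Nonempty (S ≃* ↥(P : Subgroup ↥(Cfsg.Lie.Sz F (2 ^ (m + 1)))))) :
    Cfsg.IsElementaryAbelian 2 (Cfsg.pCore 2 (MulAut S)) ∧ Nat.card ↥(Cfsg.pCore 2 (MulAut S)) = 2 ^ ((2 * m + 1) ^ 2) ∧
      Nat.card (MulAut S) = 2 ^ ((2 * m + 1) ^ 2) * ((2 * m + 1) * (2 ^ (2 * m + 1) - 1)) := by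
  haveI : Fact (Nat.Prime 2) := ⟨Nat.prime_two⟩
  have h : IsSzField F m := ⟨hF⟩
  haveI := h.charTwo
  haveI : NeZero (2 * m + 1) := ⟨by omega⟩
  obtain ⟨eS⟩ := hS
  let E := szEquiv h hm
  let P' : Sylow 2 (Cfsg.Sz F m) := P.comapOfInjective E.toMonoidHom E.injective (fun x _ => E.surjective x)
  obtain ⟨eP⟩ := h.sylow_equiv hm P'
  have eU : ↥(unip h) ≃* S := eP.symm.trans ((E.subgroupMap (P' : Subgroup (Cfsg.Sz F m))).trans
    ((MulEquiv.subgroupCongr (Subgroup.map_comap_eq_self_of_surjective E.surjective _)).trans eS.symm))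
  let e : ZMod (2 * m + 1) := ((m + 1 : ℕ) : ZMod (2 * m + 1))
  have hPe : ∀ x : F, sg m x = Cfsg.Agent.Lib.SuzukiAutSylow.P e x := fun x => pow_eq_P h.card (m + 1) x
  have he : e + e = 1 := by
    have h1 : ((2 * m + 1 : ℕ) : ZMod (2 * m + 1)) = 0 := ZMod.natCast_self _
    simp only [e]
    push_cast at h1 ⊢
    linear_combination h1
  let M : Model S F e :=
    { u := fun a b => eU ⟨uS h a b, h.uS_mem a b⟩
      bij := eU.bijective.comp ⟨fun p q hpq => by
          obtain ⟨h1, h2⟩ := h.uS_coords_inj (congrArg Subtype.val hpq)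
          exact Prod.ext h1 h2, fun x => by
          obtain ⟨g, a, b, rfl⟩ := x
          exact ⟨(a, b), rfl⟩⟩
      mul := fun a b c d => by
        rw [← map_mul, ← hPe]
        exact congrArg eU (Subtype.ext (h.uS_mul a b c d)) }
  have hs : ∀ c : F, ∃ a, Cfsg.Agent.Lib.SuzukiAutSylow.P e a * a = c := fun c => by
    obtain ⟨a, ha⟩ := h.sg_mul_self_surj c
    exact ⟨a, by rw [← hPe]; exact ha⟩
  exact Model.structure_aut M h.card (by omega) he hs ⟨m, rfl⟩

end Cfsg.Agent.S2556
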