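import Cfsg.Statements.S2558
import Cfsg.Agent.Lib.Elem70.ClassesO.Upper
import Cfsg.Agent.Lib.Elem70.ClassesO.Lower
-- import your own Cfsg.Agent.* helpers here

set_option autoImplicit false
open Cfsg

namespace Cfsg.Agent.S2558

open Matrix Cfsg.Agent.Lib.Elem70.ClassesO

theorem two_ne_zero_of_odd {F : Type*} [Field F] [Fintype F] (hodd : Odd (Fintype.card F)) : (2 : F) ≠ 0 := by
  obtain ⟨p, hp⟩ := CharP.exists F
  have : Fact p.Prime := ⟨CharP.char_is_prime F p⟩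
  obtain ⟨k, -, hq⟩ := FiniteField.card F p
  have hp2 : p ≠ 2 := by
    rintro rfl
    rw [hq] at hodd
    exact Nat.not_odd_iff_even.2 (Nat.even_pow.2 ⟨even_two, k.pos.ne'⟩) hodd
  exact Ring.two_ne_zero (by rwa [ringChar.eq F p])

/-- The bounds for any symmetric matrix of size `2n`. -/
theorem bounds_aux {F : Type*} [Field F] [Fintype F] (hodd : Odd (Fintype.card F)) {n : ℕ} (hn : 2 ≤ n)
    {ι : Type} [Fintype ι] [DecidableEq ι] (hι : Fintype.card ι = n + n) (Q : (ι → F) → F)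
    (S : Matrix ι ι F) (hS : S.IsSymm) (hd : S.det ≠ 0) (hQ : ∀ v, v ⬝ᵥ S *ᵥ v = 2 * Q v) :
    Fintype.card F ^ n ≤ 2 * Nat.card (ConjClasses (Cfsg.isometryGroup F Q)) ∧
      2 * Nat.card (ConjClasses (Cfsg.isometryGroup F Q)) ≤ 19 * Fintype.card F ^ n := by
  classical
  have h2 : (2 : F) ≠ 0 := two_ne_zero_of_odd hodd
  have hq3 : 3 ≤ Fintype.card F := by
    have := Fintype.one_lt_card (α := F)
    obtain ⟨c, hc⟩ := hodd
    omega
  let e : ι ≃ Fin (n + n) := Fintype.equivFinOfCardEq hι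
  have hS' : (Matrix.reindex e e S).IsSymm := hS.submatrix _
  have hd' : (Matrix.reindex e e S).det ≠ 0 := by rwa [Matrix.det_reindex_self]
  let φ : Cfsg.isometryGroup F Q ≃* OS (Matrix.reindex e e S) :=
    (MulEquiv.subgroupCongr (isometry_eq_OS h2 hS hQ)).trans (osReindex S e)
  have : Finite (ConjClasses (OS (Matrix.reindex e e S))) :=
    Finite.of_surjective _ ConjClasses.mk_surjective
  have : Finite (ConjClasses (Cfsg.isometryGroup F Q)) := Finite.of_surjective _ ConjClasses.mk_surjective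
  have hcard : Nat.card (ConjClasses (Cfsg.isometryGroup F Q)) =
      Nat.card (ConjClasses (OS (Matrix.reindex e e S))) :=
    le_antisymm
      (Nat.card_le_card_of_surjective _ (ConjClasses.map_surjective (f := φ.symm.toMonoidHom) φ.symm.surjective))
      (Nat.card_le_card_of_surjective _ (ConjClasses.map_surjective (f := φ.toMonoidHom) φ.surjective))
  rw [hcard]
  refine ⟨(pow_le_two_mul_target h2 hn hd').trans (Nat.mul_le_mul_left 2 (card_target_le h2 hS' hd')),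
    (two_mul_card_le h2 (by omega) hS' hd').trans (K_bound hq3 (by omega))⟩

/-- The number of conjugacy classes of the full orthogonal groups O⁺(2n,q) and O⁻(2n,q), q odd, 2n ≥ 4: for F a finite field of odd order q and n ≥ 2, the number k of conjugacy classes of the isometry group of the hyperbolic quadratic form Σ xᵢyᵢ on F^{2n}, and likewise of the elliptic form Σ xᵢyᵢ + (z₁² + a z₁z₂ + b z₂²) with anisotropic binary part, satisfies q^n/2 ≤ k ≤ 9.5·q^n. -/
theorem result {F : Type*} [Field F] [Fintype F] (hodd : Odd (Fintype.card F)) (n : ℕ) (hn : 2 ≤ n) (a b : F) (hab : ∀ z₁ z₂ : F, z₁ ^ 2 + a * z₁ * z₂ + b * z₂ ^ 2 = 0 → z₁ = 0 ∧ z₂ = 0) :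
    (Fintype.card F ^ n ≤ 2 * Nat.card (ConjClasses ↥(Cfsg.isometryGroup F (Cfsg.quadFormPlus n F))) ∧
      2 * Nat.card (ConjClasses ↥(Cfsg.isometryGroup F (Cfsg.quadFormPlus n F))) ≤ 19 * Fintype.card F ^ n) ∧
    (Fintype.card F ^ n ≤ 2 * Nat.card (ConjClasses ↥(Cfsg.isometryGroup F (Cfsg.quadFormMinus (n - 1) F a b))) ∧
      2 * Nat.card (ConjClasses ↥(Cfsg.isometryGroup F (Cfsg.quadFormMinus (n - 1) F a b))) ≤ 19 * Fintype.card F ^ n) := by
  classical
  have hsum : ∀ (m : ℕ) (v : Fin m ⊕ Fin m → F),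
      v ⬝ᵥ (fromBlocks 0 1 1 0 : Matrix (Fin m ⊕ Fin m) (Fin m ⊕ Fin m) F) *ᵥ v = 2 * Cfsg.quadFormPlus m F v := by
    intro m v
    simp [fromBlocks_mulVec, dotProduct, Cfsg.quadFormPlus, Fintype.sum_sum_type, Finset.mul_sum,
      ← Finset.sum_add_distrib]
    exact Finset.sum_congr rfl fun i _ => by ring
  have hdet : ∀ m : ℕ, (fromBlocks 0 1 1 0 : Matrix (Fin m ⊕ Fin m) (Fin m ⊕ Fin m) F).det ≠ 0 := by
    intro m
    refine left_ne_zero_of_mul_eq_one (b := (fromBlocks 0 1 1 0 : Matrix (Fin m ⊕ Fin m) (Fin m ⊕ Fin m) F).det) ?_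
    rw [← det_mul, fromBlocks_multiply]
    simp
  have hsymm : ∀ m : ℕ, (fromBlocks 0 1 1 0 : Matrix (Fin m ⊕ Fin m) (Fin m ⊕ Fin m) F).IsSymm := fun m =>
    Matrix.IsSymm.fromBlocks (by simp) (by simp) (by simp)
  refine ⟨bounds_aux hodd hn (by simp) _ _ (hsymm n) (hdet n) (hsum n), ?_⟩
  refine bounds_aux hodd hn (by simp; omega) _
    (fromBlocks (fromBlocks 0 1 1 0) 0 0 !![2, a; a, 2 * b] :
      Matrix ((Fin (n - 1) ⊕ Fin (n - 1)) ⊕ Fin 2) ((Fin (n - 1) ⊕ Fin (n - 1)) ⊕ Fin 2) F)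
    (Matrix.IsSymm.fromBlocks (hsymm _) (by simp) (by ext i j; fin_cases i <;> fin_cases j <;> rfl)) ?_ fun v => ?_
  · rw [det_fromBlocks_zero₁₂, det_fin_two_of]
    refine mul_ne_zero (hdet _) fun h0 => ?_
    have := hab a (-2) (by linear_combination h0)
    exact two_ne_zero_of_odd hodd (neg_eq_zero.1 this.2)
  · obtain ⟨u, z, rfl⟩ : ∃ u z, v = Sum.elim u z := ⟨v ∘ Sum.inl, v ∘ Sum.inr, (Sum.elim_comp_inl_inr v).symm⟩
    rw [fromBlocks_mulVec]
    simp only [sumElim_dotProduct_sumElim, Sum.elim_comp_inl, Sum.elim_comp_inr, zero_mulVec, add_zero, zero_add]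
    rw [hsum]
    simp [Cfsg.quadFormMinus, Cfsg.quadFormPlus, dotProduct, mulVec, Fin.sum_univ_two]
    ring

end Cfsg.Agent.S2558
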