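import Cfsg.Statements.S2559
import Cfsg.Agent.Lib.ClassesSpTwo46.OLower
-- import your own Cfsg.Agent.* helpers here

set_option autoImplicit false
open Cfsg

namespace Cfsg.Agent.S2559

open Cfsg.Agent.Lib.ClassesSpTwo46
open Cfsg.Agent.Lib.Symplectic (stdForm)

theorem bounds {F : Type*} [Field F] [Fintype F] [CharP F 2] {n : ℕ} (hn : 2 ≤ n) {ι : Type} [Fintype ι] [DecidableEq ι]
    {Q : (ι → F) → F} {q : (Fin n ⊕ Fin n → F) → F} (hq : IsPolar q) (L : (ι → F) ≃ₗ[F] (Fin n ⊕ Fin n → F))
    (hQ : ∀ v, Q v = q (L v)) :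
    Fintype.card F ^ n ≤ 2 * Nat.card (ConjClasses ↥(Cfsg.isometryGroup F Q)) ∧
      Nat.card (ConjClasses ↥(Cfsg.isometryGroup F Q)) ≤ 15 * Fintype.card F ^ n := by
  let e := isomOG L hq hQ
  have hc : Nat.card (ConjClasses ↥(Cfsg.isometryGroup F Q)) = Nat.card (ConjClasses ↥(OG q)) := by
    refine Nat.card_congr (Equiv.ofBijective (ConjClasses.map e.toMonoidHom) ⟨fun x y h => ?_,
      ConjClasses.map_surjective e.surjective⟩)
    induction x using Quotient.inductionOn with | _ x => ?_
    induction y using Quotient.inductionOn with | _ y => ?_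
    have h' := e.symm.toMonoidHom.map_isConj (ConjClasses.mk_eq_mk_iff_isConj.1 h)
    rw [MulEquiv.toMonoidHom_eq_coe, MulEquiv.toMonoidHom_eq_coe, MonoidHom.coe_coe, MonoidHom.coe_coe,
      e.symm_apply_apply, e.symm_apply_apply] at h'
    exact Quotient.sound h'
  rw [hc]
  exact ⟨le_card_OG_classes hn hq, card_OG_classes_le (by omega) hq⟩

/-- The number of conjugacy classes of the full orthogonal groups O⁺(2n,q) and O⁻(2n,q), q even, 2n ≥ 4: for F a finite field of even order q and n ≥ 2, the number k of conjugacy classes of the isometry group of the hyperbolic quadratic form Σ xᵢyᵢ on F^{2n}, and likewise of the elliptic form Σ xᵢyᵢ + (z₁² + a z₁z₂ + b z₂²) with anisotropic binary part, satisfies q^n/2 ≤ k ≤ 15·q^n. -/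
theorem result {F : Type*} [Field F] [Fintype F] (heven : Even (Fintype.card F)) (n : ℕ) (hn : 2 ≤ n) (a b : F) (hab : ∀ z₁ z₂ : F, z₁ ^ 2 + a * z₁ * z₂ + b * z₂ ^ 2 = 0 → z₁ = 0 ∧ z₂ = 0) :
    (Fintype.card F ^ n ≤ 2 * Nat.card (ConjClasses ↥(Cfsg.isometryGroup F (Cfsg.quadFormPlus n F))) ∧
      Nat.card (ConjClasses ↥(Cfsg.isometryGroup F (Cfsg.quadFormPlus n F))) ≤ 15 * Fintype.card F ^ n) ∧
    (Fintype.card F ^ n ≤ 2 * Nat.card (ConjClasses ↥(Cfsg.isometryGroup F (Cfsg.quadFormMinus (n - 1) F a b))) ∧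
      Nat.card (ConjClasses ↥(Cfsg.isometryGroup F (Cfsg.quadFormMinus (n - 1) F a b))) ≤ 15 * Fintype.card F ^ n) := by
  haveI : CharP F 2 := by
    have h := FiniteField.even_card_iff_char_two.2 (Nat.even_iff.1 heven)
    exact h ▸ ringChar.charP F
  have h2 : (2 : F) = 0 := CharTwo.two_eq_zero
  constructor
  · have hq : IsPolar (Cfsg.quadFormPlus n F) := by
      refine ⟨fun c v => ?_, fun u v => ?_⟩
      · simp only [Cfsg.quadFormPlus, Pi.smul_apply, smul_eq_mul, Finset.mul_sum]
        exact Finset.sum_congr rfl fun i _ => by ring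
      · simp only [Cfsg.quadFormPlus, Pi.add_apply, Lib.Symplectic.stdForm_apply, ← Finset.sum_add_distrib]
        exact Finset.sum_congr rfl fun i _ => by linear_combination (u (.inl i) * v (.inr i)) * h2
    exact bounds hn hq (LinearEquiv.refl F _) fun v => rfl
  · obtain ⟨m, rfl⟩ : ∃ m, n = m + 1 := ⟨n - 1, by omega⟩
    rw [Nat.add_sub_cancel]
    have ha : a ≠ 0 := by
      intro h0
      obtain ⟨c, hc⟩ := UData.exists_sqrt F b
      exact one_ne_zero (hab c 1 (by rw [h0, ← hc]; linear_combination (c * c) * h2)).2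
    let L : ((Fin m ⊕ Fin m) ⊕ Fin 2 → F) ≃ₗ[F] (Fin (m + 1) ⊕ Fin (m + 1) → F) :=
      { toFun := fun v => Sum.elim (Fin.snoc (fun i => v (.inl (.inl i))) (v (.inr 0)))
          (Fin.snoc (fun i => v (.inl (.inr i))) (a * v (.inr 1)))
        map_add' := fun u v => by
          funext j; rcases j with j | j <;> refine Fin.lastCases ?_ (fun i => ?_) j <;> simp [mul_add]
        map_smul' := fun c v => by
          funext j; rcases j with j | j <;> refine Fin.lastCases ?_ (fun i => ?_) j <;> simp <;> ring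
        invFun := fun w => Sum.elim (Sum.elim (fun i => w (.inl i.castSucc)) fun i => w (.inr i.castSucc))
          ![w (.inl (Fin.last m)), a⁻¹ * w (.inr (Fin.last m))]
        left_inv := fun v => by
          funext j; rcases j with (j | j) | j
          · simp
          · simp
          · fin_cases j <;> simp [ha]
        right_inv := fun w => by
          funext j; rcases j with j | j <;> refine Fin.lastCases ?_ (fun i => ?_) j <;> simp [ha] }
    have hq : IsPolar (fun w : Fin (m + 1) ⊕ Fin (m + 1) → F => (∑ i : Fin m, w (.inl i.castSucc) * w (.inr i.castSucc))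
        + (w (.inl (Fin.last m)) ^ 2 + w (.inl (Fin.last m)) * w (.inr (Fin.last m))
          + b / (a * a) * w (.inr (Fin.last m)) ^ 2)) := by
      refine ⟨fun c v => ?_, fun u v => ?_⟩
      · simp only [Pi.smul_apply, smul_eq_mul, mul_add, Finset.mul_sum]
        congr 1
        · exact Finset.sum_congr rfl fun i _ => by ring
        · ring
      · have e : ∑ i : Fin m, (u (.inl i.castSucc) + v (.inl i.castSucc)) * (u (.inr i.castSucc) + v (.inr i.castSucc)) =
            (∑ i : Fin m, u (.inl i.castSucc) * u (.inr i.castSucc)) + (∑ i : Fin m, v (.inl i.castSucc) * v (.inr i.castSucc))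
            + ∑ i : Fin m, (u (.inr i.castSucc) * v (.inl i.castSucc) - u (.inl i.castSucc) * v (.inr i.castSucc)) := by
          simp only [← Finset.sum_add_distrib]
          exact Finset.sum_congr rfl fun i _ => by linear_combination (u (.inl i.castSucc) * v (.inr i.castSucc)) * h2
        simp only [Pi.add_apply, Lib.Symplectic.stdForm_apply, Fin.sum_univ_castSucc, e]
        linear_combination (u (.inl (Fin.last m)) * v (.inl (Fin.last m)) + u (.inl (Fin.last m)) * v (.inr (Fin.last m))
          + b / (a * a) * (u (.inr (Fin.last m)) * v (.inr (Fin.last m)))) * h2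
    refine bounds hn hq L fun v => ?_
    simp only [Cfsg.quadFormMinus, L, LinearEquiv.coe_mk, LinearMap.coe_mk, AddHom.coe_mk, Sum.elim_inl, Sum.elim_inr,
      Fin.snoc_castSucc, Fin.snoc_last]
    field_simp

end Cfsg.Agent.S2559
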