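import Cfsg.Statements.S2560
import Cfsg.Agent.Lib.Elem70.ClassesO.OmegaOdd
-- import your own Cfsg.Agent.* helpers here

set_option autoImplicit false
open Cfsg

namespace Cfsg.Agent.S2560

open Matrix Cfsg.Agent.Lib.Elem70.ClassesO

theorem two_ne_zero_of_odd {F : Type*} [Field F] [Fintype F] (hodd : Odd (Fintype.card F)) : (2 : F) ≠ 0 := by
  obtain ⟨p, hp⟩ := CharP.exists F
  have : Fact p.Prime := ⟨CharP.char_is_prime F p⟩
  obtain ⟨k, -, hq⟩ := FiniteField.card F p
  have hp2 : p ≠ 2 := by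
    rintro rfl
    rw [hq] at hodd
    exact Nat.not_odd_iff_even.2 (Nat.even_pow.2 ⟨even_two, k.pos.ne'⟩) hodd
  exact Ring.two_ne_zero (by rwa [ringChar.eq F p])

/-- The number of conjugacy classes of Ω(2n+1,q), q odd, n ≥ 2: for F a finite field of odd order q, the number k of conjugacy classes of the commutator subgroup of the isometry group of the quadratic form x₀² + Σ xᵢyᵢ on F^{2n+1} satisfies q^n/2 ≤ k ≤ 7.3·q^n. -/
theorem result {F : Type*} [Field F] [Fintype F] (hodd : Odd (Fintype.card F)) (n : ℕ) (hn : 2 ≤ n) :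
    Fintype.card F ^ n ≤ 2 * Nat.card (ConjClasses ↥(Cfsg.Omega F (Cfsg.quadFormOdd n F))) ∧
      10 * Nat.card (ConjClasses ↥(Cfsg.Omega F (Cfsg.quadFormOdd n F))) ≤ 73 * Fintype.card F ^ n := by
  classical
  have h2 : (2 : F) ≠ 0 := two_ne_zero_of_odd hodd
  have hq3 : 3 ≤ Fintype.card F := by
    have := Fintype.one_lt_card (α := F)
    obtain ⟨c, hc⟩ := hodd
    omega
  let P : Matrix (Fin n ⊕ Fin n) (Fin n ⊕ Fin n) F := fromBlocks 0 1 1 0
  let S : Matrix (Unit ⊕ (Fin n ⊕ Fin n)) (Unit ⊕ (Fin n ⊕ Fin n)) F :=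
    fromBlocks (diagonal fun _ => 2) 0 0 P
  have hP : P.det ≠ 0 := by
    refine left_ne_zero_of_mul_eq_one (b := P.det) ?_
    rw [← det_mul, fromBlocks_multiply]
    simp
  have hS : S.IsSymm := Matrix.IsSymm.fromBlocks (isSymm_diagonal _) (by simp)
    (Matrix.IsSymm.fromBlocks (by simp) (by simp) (by simp))
  have hd : S.det ≠ 0 := by
    simp only [S, det_fromBlocks_zero₁₂, det_diagonal, Finset.univ_unique, Finset.prod_singleton]
    exact mul_ne_zero h2 hP
  have hQ : ∀ v, v ⬝ᵥ S *ᵥ v = 2 * Cfsg.quadFormOdd n F v := by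
    intro v
    simp [S, P, fromBlocks_mulVec, dotProduct, mulVec_diagonal, Cfsg.quadFormOdd, Fintype.sum_sum_type,
      Finset.mul_sum, ← Finset.sum_add_distrib, mul_add]
    refine congrArg₂ (· + ·) (by ring) (Finset.sum_congr rfl fun i _ => by ring)
  let e : Unit ⊕ (Fin n ⊕ Fin n) ≃ Fin (n + n + 1) := Fintype.equivFinOfCardEq (by simp; omega)
  let φ : Cfsg.isometryGroup F (Cfsg.quadFormOdd n F) ≃* OS (Matrix.reindex e e S) :=
    (MulEquiv.subgroupCongr (isometry_eq_OS h2 hS hQ)).trans (osReindex S e)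
  have h := omega_bounds h2 hq3 (n := n) (by omega) (S := Matrix.reindex e e S) (hS.submatrix _)
    (by rwa [Matrix.det_reindex_self])
  have e1 : (Cfsg.Omega F (Cfsg.quadFormOdd n F)).map φ.toMonoidHom = commutator (OS (Matrix.reindex e e S)) := by
    show (commutator (Cfsg.isometryGroup F (Cfsg.quadFormOdd n F))).map φ.toMonoidHom = _
    rw [commutator_def, commutator_def, Subgroup.map_commutator, Subgroup.map_top_of_surjective φ.toMonoidHom φ.surjective]
  have e2 : (commutator (OS (Matrix.reindex e e S))).map (OS (Matrix.reindex e e S)).subtype =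
      OmS (Matrix.reindex e e S) := Subgroup.map_subtype_commutator _
  have hcard := card_classes_congr
    ((((Cfsg.Omega F (Cfsg.quadFormOdd n F)).equivMapOfInjective φ.toMonoidHom φ.injective).trans
      (MulEquiv.subgroupCongr e1)).trans
        (((commutator (OS (Matrix.reindex e e S))).equivMapOfInjective _ (OS (Matrix.reindex e e S)).subtype_injective).trans
          (MulEquiv.subgroupCongr e2)))
  rw [hcard]
  exact h

end Cfsg.Agent.S2560
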