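import Cfsg.Statements.S2562
import Cfsg.Agent.Lib.ArfTwo
import Cfsg.Agent.Lib.Forms.Basis

set_option autoImplicit false
open Cfsg

namespace Cfsg.Agent.S2562
open Cfsg.Agent.Lib

/-- Witt indices over the field of two elements, m ≥ 1: for the plus-type form Σ xᵢyᵢ in dimension 2m some m-dimensional subspace is totally singular and no totally singular subspace has larger dimension; for the minus-type form Σ xᵢyᵢ + (z₁² + z₁z₂ + z₂²) in dimension 2m the maximal dimension of a totally singular subspace is m − 1. -/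
theorem result (m : ℕ) (hm : 1 ≤ m) :
    (∃ U : Submodule (ZMod 2) (Fin m ⊕ Fin m → ZMod 2), (∀ u ∈ U, Cfsg.quadFormPlus m (ZMod 2) u = 0) ∧ Module.finrank (ZMod 2) ↥U = m) ∧
    (∀ U : Submodule (ZMod 2) (Fin m ⊕ Fin m → ZMod 2), (∀ u ∈ U, Cfsg.quadFormPlus m (ZMod 2) u = 0) → Module.finrank (ZMod 2) ↥U ≤ m) ∧
    (∃ U : Submodule (ZMod 2) ((Fin (m - 1) ⊕ Fin (m - 1)) ⊕ Fin 2 → ZMod 2), (∀ u ∈ U, Cfsg.quadFormMinus (m - 1) (ZMod 2) 1 1 u = 0) ∧ Module.finrank (ZMod 2) ↥U = m - 1) ∧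
    (∀ U : Submodule (ZMod 2) ((Fin (m - 1) ⊕ Fin (m - 1)) ⊕ Fin 2 → ZMod 2), (∀ u ∈ U, Cfsg.quadFormMinus (m - 1) (ZMod 2) 1 1 u = 0) → Module.finrank (ZMod 2) ↥U ≤ m - 1) := by
  classical
  haveI : Fact (Nat.Prime 2) := ⟨Nat.prime_two⟩
  refine ⟨?_, ?_, ?_, ?_⟩
  · let e : (Fin m → ZMod 2) →ₗ[ZMod 2] (Fin m ⊕ Fin m → ZMod 2) :=
      { toFun := fun z => Sum.elim z 0
        map_add' := fun a b => by funext j; rcases j with j | j <;> simp
        map_smul' := fun c a => by funext j; rcases j with j | j <;> simp }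
    refine ⟨LinearMap.range e, ?_, ?_⟩
    · rintro _ ⟨z, rfl⟩; simp [Cfsg.quadFormPlus, e]
    · rw [LinearMap.finrank_range_of_inj (fun a b h => funext fun i => congrFun h (Sum.inl i)),
        Module.finrank_fin_fun]
  · intro U hU
    have := Forms.two_mul_finrank_le (Forms.qPlus_nondeg (F := ZMod 2) m) U
      (fun w hw => by rw [← OrthStd.quadFormPlus_eq]; exact hU w hw)
    rw [Module.finrank_pi, Fintype.card_sum, Fintype.card_fin] at this
    omega
  · let e : (Fin (m - 1) → ZMod 2) →ₗ[ZMod 2] ((Fin (m - 1) ⊕ Fin (m - 1)) ⊕ Fin 2 → ZMod 2) :=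
      { toFun := fun z => Sum.elim (Sum.elim z 0) 0
        map_add' := fun a b => by funext j; rcases j with (j | j) | j <;> simp
        map_smul' := fun c a => by funext j; rcases j with (j | j) | j <;> simp }
    refine ⟨LinearMap.range e, ?_, ?_⟩
    · rintro _ ⟨z, rfl⟩; simp [Cfsg.quadFormMinus, e]
    · rw [LinearMap.finrank_range_of_inj (fun a b h => funext fun i => congrFun h (Sum.inl (Sum.inl i))),
        Module.finrank_fin_fun]
  · intro U hU
    have hab := ArfTwo.bin_aniso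
    rw [← (OrthStd.minusSplit (m - 1) (ZMod 2)).finrank_map_eq U]
    refine Forms.witt_index_le (Forms.qBin_nondeg hab) (Forms.qBin_anisotropic hab) (m - 1) _ ?_
    rintro _ ⟨u, hu, rfl⟩
    exact (OrthStd.quadFormMinus_eq (m - 1) (1 : ZMod 2) 1 u).symm.trans (hU u hu)

end Cfsg.Agent.S2562
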