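import Cfsg.Statements.S2563
import Cfsg.Agent.Lib.ArfTwo

set_option autoImplicit false
open Cfsg

namespace Cfsg.Agent.S2563
open Cfsg.Agent.Lib

variable (k : ℕ)

local notation "W" => (Fin (4 * k + 4) → ZMod 2)
local notation "U" => (Fin (2 * k + 1) ⊕ Fin (2 * k + 1) → ZMod 2)

/-- Half the weight modulo two. -/
def half (f : W) : ZMod 2 := (((∑ p, (f p).val) / 2 : ℕ) : ZMod 2)

/-- The dot product. -/
def dot (f g : W) : ZMod 2 := ∑ p, f p * g p

theorem val_sum_cast (f : W) : (((∑ p, (f p).val) : ℕ) : ZMod 2) = ∑ p, f p := by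
  rw [Nat.cast_sum]
  exact Finset.sum_congr rfl fun p _ => ZMod.natCast_rightInverse (f p)

theorem half_add (f g : W) (hf : ∑ p, f p = 0) (hg : ∑ p, g p = 0) :
    half k (f + g) = half k f + half k g + dot k f g := by
  have key : ∀ a b : ZMod 2, (a + b).val + 2 * (a * b).val = a.val + b.val := by decide
  have h : (∑ p, ((f + g) p).val) + 2 * (∑ p, (f p * g p).val) = (∑ p, (f p).val) + ∑ p, (g p).val := by
    rw [Finset.mul_sum, ← Finset.sum_add_distrib, ← Finset.sum_add_distrib]
    exact Finset.sum_congr rfl fun p _ => key _ _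
  obtain ⟨a, ha⟩ := (ZMod.natCast_eq_zero_iff_even.1 ((val_sum_cast k f).trans hf))
  obtain ⟨b, hb⟩ := (ZMod.natCast_eq_zero_iff_even.1 ((val_sum_cast k g).trans hg))
  have hd : dot k f g = (((∑ p, (f p * g p).val) : ℕ) : ZMod 2) := (val_sum_cast k (fun p => f p * g p)).symm
  rw [half, half, half, hd]
  have h2 : (∑ p, ((f + g) p).val) / 2 + (∑ p, (f p * g p).val) = (∑ p, (f p).val) / 2 + (∑ p, (g p).val) / 2 := by
    omega
  have h3 := congrArg (fun x : ℕ => (x : ZMod 2)) h2
  simp only [Nat.cast_add] at h3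
  rw [← h3, add_assoc, CharTwo.add_self_eq_zero, add_zero]

/-- Indicator of `[a, b)`. -/
def iv (a b : ℕ) : W := fun p => if a ≤ p.val ∧ p.val < b then 1 else 0

theorem iv_weight (a b : ℕ) (hb : b ≤ 4 * k + 4) : (∑ p, (iv k a b p).val) = b - a := by
  have : ∀ p, (iv k a b p).val = if a ≤ p.val ∧ p.val < b then 1 else 0 := fun p => by
    unfold iv; split <;> rfl
  simp only [this]
  rw [Fin.sum_univ_eq_sum_range (fun p => if a ≤ p ∧ p < b then 1 else 0) (4 * k + 4), Finset.sum_boole,
    show (Finset.range (4 * k + 4)).filter (fun p => a ≤ p ∧ p < b) = Finset.Ico a b by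
      ext x; simp only [Finset.mem_filter, Finset.mem_range, Finset.mem_Ico]; omega,
    Nat.card_Ico, Nat.cast_id]

theorem sum_iv (a b : ℕ) (hb : b ≤ 4 * k + 4) : ∑ p, iv k a b p = ((b - a : ℕ) : ZMod 2) := by
  rw [← val_sum_cast, iv_weight k a b hb]

theorem half_iv (a b : ℕ) (hb : b ≤ 4 * k + 4) : half k (iv k a b) = (((b - a) / 2 : ℕ) : ZMod 2) := by
  rw [half, iv_weight k a b hb]

theorem dot_iv (a b c d : ℕ) (hb : b ≤ 4 * k + 4) :
    dot k (iv k a b) (iv k c d) = ((min b d - max a c : ℕ) : ZMod 2) := by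
  rw [← sum_iv k (max a c) (min b d) (by omega)]
  refine Finset.sum_congr rfl fun p _ => ?_
  simp only [iv]
  split_ifs <;> first | rfl | (exfalso; omega) | simp

/-- The images of the standard basis. -/
def bvec : Fin (2 * k + 1) ⊕ Fin (2 * k + 1) → W
  | .inl i => iv k (2 * i.val) (2 * i.val + 2)
  | .inr i => iv k (2 * i.val + 1) (4 * k + 3)

/-- The coordinate map into even functions. -/
def phi : U →ₗ[ZMod 2] W := Fintype.linearCombination (ZMod 2) (bvec k)

theorem phi_single (j : Fin (2 * k + 1) ⊕ Fin (2 * k + 1)) : phi k (Pi.single j 1) = bvec k j := by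
  rw [phi, Fintype.linearCombination_apply_single, one_smul]

theorem sum_bvec (j : Fin (2 * k + 1) ⊕ Fin (2 * k + 1)) : ∑ p, bvec k j p = 0 := by
  rcases j with i | i <;>
  · have := i.isLt
    rw [bvec, sum_iv k _ _ (by omega), ZMod.natCast_eq_zero_iff_even, Nat.even_iff]
    omega

theorem sum_phi (v : U) : ∑ p, phi k v p = 0 := by
  simp only [phi, Fintype.linearCombination_apply, Finset.sum_apply, Pi.smul_apply]
  rw [Finset.sum_comm]
  exact Finset.sum_eq_zero fun j _ => by rw [← Finset.smul_sum, sum_bvec, smul_zero]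

theorem dot_phi (u v : U) : dot k (phi k u) (phi k v) = ArfTwo.bil (2 * k + 1) u v := by
  classical
  have hb : ∀ i j, dot k (bvec k i) (bvec k j) = ArfTwo.bil (2 * k + 1) (Pi.single i 1) (Pi.single j 1) := by
    intro i j
    have hsum : ∀ a : Fin (2 * k + 1), ∀ b : Fin (2 * k + 1),
        (∑ x : Fin (2 * k + 1), (if x = a then (1 : ZMod 2) else 0) * (if x = b then 1 else 0)) =
          if a.val = b.val then 1 else 0 := fun a b => by
      rw [Finset.sum_eq_single a (fun x _ hx => by simp [hx]) (fun h => absurd (Finset.mem_univ a) h)]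
      simp [Fin.val_inj]
    rcases i with i | i <;> rcases j with j | j
    all_goals
      have hi := i.isLt
      have hj := j.isLt
      rw [bvec, bvec, dot_iv k _ _ _ _ (by omega), ArfTwo.bil_eq, Finset.sum_add_distrib]
      simp only [Pi.single_apply, Sum.inl.injEq, Sum.inr.injEq, reduceCtorEq, if_false, zero_mul, mul_zero,
        Finset.sum_const_zero, add_zero, zero_add]
    · rw [ZMod.natCast_eq_zero_iff_even, Nat.even_iff]; omega
    · rw [hsum]
      split_ifs with h
      · rw [ZMod.natCast_eq_one_iff_odd, Nat.odd_iff]; omega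
      · rw [ZMod.natCast_eq_zero_iff_even, Nat.even_iff]; omega
    · rw [hsum]
      split_ifs with h
      · rw [ZMod.natCast_eq_one_iff_odd, Nat.odd_iff]; omega
      · rw [ZMod.natCast_eq_zero_iff_even, Nat.even_iff]; omega
    · rw [ZMod.natCast_eq_zero_iff_even, Nat.even_iff]; omega
  let D : U →ₗ[ZMod 2] U →ₗ[ZMod 2] ZMod 2 := LinearMap.mk₂ (ZMod 2) (fun u v => dot k (phi k u) (phi k v))
    (fun a b c => by simp [dot, add_mul, Finset.sum_add_distrib])
    (fun a b c => by simp [dot, mul_assoc, Finset.mul_sum])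
    (fun a b c => by simp [dot, mul_add, Finset.sum_add_distrib])
    (fun a b c => by simp [dot, mul_left_comm, Finset.mul_sum])
  let B : U →ₗ[ZMod 2] U →ₗ[ZMod 2] ZMod 2 := LinearMap.mk₂ (ZMod 2) (ArfTwo.bil (2 * k + 1))
    (fun a b c => ArfTwo.bil_add_left _ a b c) (fun a b c => ArfTwo.bil_smul_left _ a b c)
    (fun a b c => ArfTwo.bil_add_right _ a b c)
    (fun a b c => by rw [ArfTwo.bil_comm, ArfTwo.bil_smul_left, ArfTwo.bil_comm]; rfl)
  have hDB : D = B := by
    refine LinearMap.ext_basis (Pi.basisFun (ZMod 2) _) (Pi.basisFun (ZMod 2) _) fun i j => ?_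
    simp only [Pi.basisFun_apply]
    show dot k (phi k (Pi.single i 1)) (phi k (Pi.single j 1)) = ArfTwo.bil (2 * k + 1) (Pi.single i 1) (Pi.single j 1)
    rw [phi_single, phi_single, hb]
  exact LinearMap.congr_fun (LinearMap.congr_fun hDB u) v

/-- The form on the coordinate space. -/
def qq (v : U) : ZMod 2 := half k (phi k v)

theorem qq_polar : ArfTwo.Polar (2 * k + 1) (qq k) := fun u v => by
  simp only [qq, map_add, half_add k _ _ (sum_phi k u) (sum_phi k v), dot_phi]

/-- The vector giving the form. -/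
def wv : U := Sum.elim (fun i => ((i.val + 1 : ℕ) : ZMod 2)) (fun _ => 1)

theorem qq_eq : qq k = ArfTwo.shift (2 * k + 1) (wv k) := by
  obtain ⟨w, hw⟩ := ArfTwo.exists_shift (qq_polar k)
  suffices w = wv k by rw [hw, this]
  funext j
  rcases j with i | i
  · have h := congrFun hw (Pi.single (Sum.inr i) 1)
    simp [qq, phi_single, bvec, ArfTwo.shift, ArfTwo.bil_eq, Cfsg.quadFormPlus, Pi.single_apply,
      Finset.sum_add_distrib] at h
    rw [half_iv k _ _ (by omega)] at h
    rw [← h, wv, Sum.elim_inl, ZMod.natCast_eq_natCast_iff']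
    omega
  · have h := congrFun hw (Pi.single (Sum.inl i) 1)
    have := i.isLt
    simp [qq, phi_single, bvec, ArfTwo.shift, ArfTwo.bil_eq, Cfsg.quadFormPlus, Pi.single_apply,
      Finset.sum_add_distrib] at h
    rw [half_iv k _ _ (by omega), show (2 * i.val + 2 - 2 * i.val) / 2 = 1 by omega, Nat.cast_one] at h
    rw [← h]; rfl

theorem q_wv : Cfsg.quadFormPlus (2 * k + 1) (ZMod 2) (wv k) = ((k + 1 : ℕ) : ZMod 2) := by
  have h : ∀ n : ℕ, (∑ i : Fin (2 * n + 1), (((i.val + 1 : ℕ)) : ZMod 2)) = ((n + 1 : ℕ) : ZMod 2) := by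
    intro n
    induction n with
    | zero => simp
    | succ n ih =>
      show ∑ i : Fin (2 * n + 1 + 1 + 1), (((i.val + 1 : ℕ)) : ZMod 2) = _
      rw [Fin.sum_univ_castSucc, Fin.sum_univ_castSucc]
      simp only [Fin.val_castSucc, Fin.val_last]
      rw [ih, ← Nat.cast_add, ← Nat.cast_add, ZMod.natCast_eq_natCast_iff']
      omega
  simpa [Cfsg.quadFormPlus, wv] using h k

/-- The all-one function. -/
def one1 : W := fun _ => 1

theorem existsUnique_rep (f : W) (hf : ∑ p, f p = 0) : ∃! v : U, ∃ c : ZMod 2, f = phi k v + c • one1 k := by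
  haveI : Fact (Nat.Prime 2) := ⟨Nat.prime_two⟩
  have hinj : ∀ (v : U) (c : ZMod 2), phi k v + c • one1 k = 0 → v = 0 ∧ c = 0 := by
    intro v c h
    have hv : v = 0 := by
      funext j
      have h1 : ∀ u, ArfTwo.bil (2 * k + 1) v u = 0 := fun u => by
        rw [← dot_phi, show phi k v = -(c • one1 k) from eq_neg_of_add_eq_zero_left h]
        simp [dot, one1, ← Finset.mul_sum, sum_phi]
      rcases j with i | i
      · simpa [ArfTwo.bil_eq, Pi.single_apply, Finset.sum_add_distrib] using h1 (Pi.single (Sum.inr i) 1)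
      · simpa [ArfTwo.bil_eq, Pi.single_apply, Finset.sum_add_distrib] using h1 (Pi.single (Sum.inl i) 1)
    rw [hv, map_zero, zero_add] at h
    exact ⟨hv, by simpa [one1] using congrFun h 0⟩
  let Ψ : U × ZMod 2 →ₗ[ZMod 2] W := (phi k).coprod (LinearMap.toSpanSingleton (ZMod 2) _ (one1 k))
  let S : W →ₗ[ZMod 2] ZMod 2 :=
    { toFun := fun g => ∑ p, g p
      map_add' := fun a b => by simp [Finset.sum_add_distrib]
      map_smul' := fun a b => by simp [Finset.mul_sum] }
  have hΨ : Function.Injective Ψ := by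
    rw [injective_iff_map_eq_zero]
    rintro ⟨v, c⟩ h
    obtain ⟨h1, h2⟩ := hinj v c (by simpa [Ψ] using h)
    rw [h1, h2]; rfl
  have hS : Function.Surjective S := fun c => ⟨Pi.single 0 c, by simp [S]⟩
  have hle : LinearMap.range Ψ ≤ LinearMap.ker S := by
    rintro _ ⟨⟨v, c⟩, rfl⟩
    rw [LinearMap.mem_ker]
    show ∑ p, (phi k v + c • one1 k) p = 0
    simp only [Pi.add_apply, Pi.smul_apply, one1, smul_eq_mul, mul_one, Finset.sum_add_distrib, sum_phi,
      zero_add, Finset.sum_const, Finset.card_univ, Fintype.card_fin, nsmul_eq_mul]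
    rw [ZMod.natCast_eq_zero_iff_even.2 ⟨2 * k + 2, by ring⟩, zero_mul]
  have heq : LinearMap.range Ψ = LinearMap.ker S := by
    refine Submodule.eq_of_le_of_finrank_eq hle ?_
    have h1 := S.finrank_range_add_finrank_ker
    rw [LinearMap.range_eq_top.2 hS, finrank_top, Module.finrank_self, Module.finrank_fin_fun] at h1
    rw [LinearMap.finrank_range_of_inj hΨ, Module.finrank_prod, Module.finrank_pi, Fintype.card_sum,
      Fintype.card_fin, Module.finrank_self]
    omega
  obtain ⟨⟨v, c⟩, hvc⟩ : f ∈ LinearMap.range Ψ := heq ▸ (LinearMap.mem_ker.2 hf : f ∈ LinearMap.ker S)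
  have hvc' : phi k v + c • one1 k = f := by simpa [Ψ] using hvc
  refine ⟨v, ⟨c, hvc'.symm⟩, ?_⟩
  rintro v' ⟨c', hc'⟩
  have := hinj (v' - v) (c' - c) (by
    rw [map_sub, sub_smul]
    linear_combination (norm := module) (hc'.symm.trans hvc'.symm))
  exact sub_eq_zero.1 this.1

/-- The permuted function. -/
def perm (g : Equiv.Perm (Fin (4 * k + 4))) (f : W) : W := fun p => f (g⁻¹ p)

theorem sum_perm (g : Equiv.Perm (Fin (4 * k + 4))) (f : W) : ∑ p, perm k g f p = ∑ p, f p :=
  Equiv.sum_comp g⁻¹ f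

/-- The action on the coordinate space. -/
noncomputable def act (g : Equiv.Perm (Fin (4 * k + 4))) (v : U) : U :=
  Classical.choose (existsUnique_rep k (perm k g (phi k v)) ((sum_perm k g _).trans (sum_phi k v)))

theorem act_spec (g : Equiv.Perm (Fin (4 * k + 4))) (v : U) :
    ∃ c : ZMod 2, perm k g (phi k v) = phi k (act k g v) + c • one1 k :=
  (Classical.choose_spec (existsUnique_rep k (perm k g (phi k v)) ((sum_perm k g _).trans (sum_phi k v)))).1

theorem act_unique {g : Equiv.Perm (Fin (4 * k + 4))} {v u : U} {c : ZMod 2}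
    (h : perm k g (phi k v) = phi k u + c • one1 k) : act k g v = u :=
  ((existsUnique_rep k _ ((sum_perm k g _).trans (sum_phi k v))).unique (act_spec k g v) ⟨c, h⟩)

theorem act_mul (g h : Equiv.Perm (Fin (4 * k + 4))) (v : U) : act k (g * h) v = act k g (act k h v) := by
  obtain ⟨c, hc⟩ := act_spec k h v
  obtain ⟨d, hd⟩ := act_spec k g (act k h v)
  refine act_unique k (c := d + c) ?_
  funext p
  have h1 := congrFun hc (g⁻¹ p)
  have h2 := congrFun hd p
  simp only [perm, Pi.add_apply, Pi.smul_apply, one1, smul_eq_mul, mul_one] at h1 h2 ⊢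
  rw [mul_inv_rev, Equiv.Perm.mul_apply, h1, h2]
  ring

theorem act_one (v : U) : act k 1 v = v := act_unique k (c := 0) (by funext p; simp [perm])

theorem act_add (g : Equiv.Perm (Fin (4 * k + 4))) (u v : U) : act k g (u + v) = act k g u + act k g v := by
  obtain ⟨c, hc⟩ := act_spec k g u
  obtain ⟨d, hd⟩ := act_spec k g v
  refine act_unique k (c := c + d) ?_
  rw [map_add, map_add, show perm k g (phi k u + phi k v) = perm k g (phi k u) + perm k g (phi k v) from rfl,
    hc, hd, add_smul]
  abel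

theorem act_smul (g : Equiv.Perm (Fin (4 * k + 4))) (a : ZMod 2) (u : U) : act k g (a • u) = a • act k g u := by
  obtain ⟨c, hc⟩ := act_spec k g u
  refine act_unique k (c := a * c) ?_
  rw [map_smul, map_smul, show perm k g (a • phi k u) = a • perm k g (phi k u) from rfl, hc, smul_add, mul_smul]

/-- The linear action. -/
noncomputable def actL (g : Equiv.Perm (Fin (4 * k + 4))) : U ≃ₗ[ZMod 2] U where
  toFun := act k g
  invFun := act k g⁻¹
  map_add' := act_add k g
  map_smul' a u := act_smul k g a u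
  left_inv v := by rw [← act_mul, inv_mul_cancel, act_one]
  right_inv v := by rw [← act_mul, mul_inv_cancel, act_one]

theorem qq_act (g : Equiv.Perm (Fin (4 * k + 4))) (v : U) : qq k (act k g v) = qq k v := by
  obtain ⟨c, hc⟩ := act_spec k g v
  have h1 : half k (perm k g (phi k v)) = qq k v := by
    simp only [half, qq, perm]
    rw [Equiv.sum_comp g⁻¹ (fun p => (phi k v p).val)]
  rw [← h1, hc]
  rcases ArfTwo.two_cases c with rfl | rfl
  · rw [zero_smul, add_zero]; rfl
  · have hsum : ∑ p, (one1 k) p = 0 := by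
      simp only [one1, Finset.sum_const, Finset.card_univ, Fintype.card_fin, nsmul_eq_mul, mul_one]
      exact ZMod.natCast_eq_zero_iff_even.2 ⟨2 * k + 2, by ring⟩
    rw [one_smul, half_add k _ _ (sum_phi k _) hsum]
    have h2 : half k (one1 k) = 0 := by
      rw [half]
      simp only [one1, ZMod.val_one, Finset.sum_const, Finset.card_univ, Fintype.card_fin, smul_eq_mul, mul_one]
      rw [ZMod.natCast_eq_zero_iff_even, Nat.even_iff]
      omega
    have h3 : dot k (phi k (act k g v)) (one1 k) = 0 := by simp [dot, one1, sum_phi]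
    rw [h2, h3, add_zero, add_zero]; rfl

theorem act_faithful (hk : 1 ≤ k) (g : Equiv.Perm (Fin (4 * k + 4))) (h : ∀ v, act k g v = v) : g = 1 := by
  have hpair : ∀ p r, p ≠ r → g p = p ∨ g p = r := by
    intro p r hpr
    let f : W := Pi.single p 1 + Pi.single r 1
    have hf : ∑ x, f x = 0 := by simp [f, Finset.sum_add_distrib, CharTwo.add_self_eq_zero]
    obtain ⟨v, ⟨c, hc⟩, -⟩ := existsUnique_rep k f hf
    obtain ⟨d, hd⟩ := act_spec k g v
    rw [h v] at hd
    have hfp : ∀ x, f (g⁻¹ x) = f x + d := fun x => by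
      have h1 := congrFun hd x
      have h2 := congrFun hc x
      have h3 := congrFun hc (g⁻¹ x)
      simp only [perm, Pi.add_apply, Pi.smul_apply, one1, smul_eq_mul, mul_one] at h1 h2 h3
      rw [h3, h1, h2]; ring
    have hd0 : d = 0 := by
      rcases ArfTwo.two_cases d with h0 | h0
      · exact h0
      exfalso
      subst h0
      obtain ⟨x, -, hx⟩ := Finset.exists_mem_notMem_of_card_lt_card
        (show ({p, r, g p, g r} : Finset _).card < (Finset.univ : Finset (Fin (4 * k + 4))).card by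
          rw [Finset.card_univ, Fintype.card_fin]
          exact lt_of_le_of_lt Finset.card_le_four (by omega))
      simp only [Finset.mem_insert, Finset.mem_singleton, not_or] at hx
      have h1 := hfp x
      have e1 : g⁻¹ x ≠ p := fun e => hx.2.2.1 (by rw [← e, Equiv.Perm.coe_inv, Equiv.apply_symm_apply])
      have e2 : g⁻¹ x ≠ r := fun e => hx.2.2.2 (by rw [← e, Equiv.Perm.coe_inv, Equiv.apply_symm_apply])
      simp only [f, Pi.add_apply, Pi.single_apply, hx.1, hx.2.1, e1, e2, if_false, add_zero, zero_add] at h1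
      exact zero_ne_one h1
    have h1 := hfp (g p)
    rw [hd0, add_zero, Equiv.Perm.coe_inv, Equiv.symm_apply_apply] at h1
    by_contra hcon
    push Not at hcon
    simp only [f, Pi.add_apply, Pi.single_apply, hcon.1, hcon.2, hpr, if_false, if_true, add_zero] at h1
    exact one_ne_zero h1
  refine Equiv.ext fun p => ?_
  rw [Equiv.Perm.one_apply]
  obtain ⟨r, -, hr⟩ := Finset.exists_mem_notMem_of_card_lt_card
    (show ({p, g p} : Finset _).card < (Finset.univ : Finset (Fin (4 * k + 4))).card by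
      rw [Finset.card_univ, Fintype.card_fin]
      exact lt_of_le_of_lt Finset.card_le_two (by omega))
  simp only [Finset.mem_insert, Finset.mem_singleton, not_or] at hr
  exact (hpair p r (Ne.symm hr.1)).resolve_right (Ne.symm hr.2)

theorem embed (hk : 1 ≤ k) {ι : Type} [Fintype ι] [DecidableEq ι] (Q : (ι → ZMod 2) → ZMod 2)
    (e : U ≃ₗ[ZMod 2] (ι → ZMod 2)) (he : ∀ v, qq k v = Q (e v)) :
    haveI : Fact (Nat.Prime 2) := ⟨Nat.prime_two⟩
    ∃ φ : Equiv.Perm (Fin (4 * k + 4)) →* ↥(Cfsg.isometryGroup (ZMod 2) Q), Function.Injective φ := by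
  haveI : Fact (Nat.Prime 2) := ⟨Nat.prime_two⟩
  let L : Equiv.Perm (Fin (4 * k + 4)) → ((ι → ZMod 2) ≃ₗ[ZMod 2] (ι → ZMod 2)) := fun g =>
    e.symm.trans ((actL k g).trans e)
  have hL : ∀ g x, L g x = e (act k g (e.symm x)) := fun g x => rfl
  have hmul : ∀ g h x, L (g * h) x = L g (L h x) := fun g h x => by
    rw [hL, hL, hL, act_mul, e.symm_apply_apply]
  let M : Equiv.Perm (Fin (4 * k + 4)) → Matrix ι ι (ZMod 2) := fun g => LinearMap.toMatrix' (L g).toLinearMap
  have hM : ∀ g x, (M g).mulVec x = L g x := fun g x => LinearMap.toMatrix'_mulVec _ _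
  have hMmul : ∀ g h, M (g * h) = M g * M h := fun g h => Matrix.mulVec_injective (funext fun x => by
    show (M (g * h)).mulVec x = (M g * M h).mulVec x
    rw [hM, ← Matrix.mulVec_mulVec, hM, hM, hmul])
  have hM1 : M 1 = 1 := Matrix.mulVec_injective (funext fun x => by
    show (M 1).mulVec x = (1 : Matrix ι ι (ZMod 2)).mulVec x
    rw [hM, hL, act_one, e.apply_symm_apply, Matrix.one_mulVec])
  refine ⟨MonoidHom.mk' (fun g => ⟨⟨M g, M g⁻¹, by rw [← hMmul, mul_inv_cancel, hM1],
    by rw [← hMmul, inv_mul_cancel, hM1]⟩, fun x _ => ?_⟩) fun g h => Subtype.ext (Units.ext (hMmul g h)), ?_⟩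
  · show Q ((M g).mulVec x) = Q x
    rw [hM, hL, ← he, qq_act, he, e.apply_symm_apply]
  · rw [injective_iff_map_eq_one]
    intro g hg
    refine act_faithful k hk g fun v => e.injective ?_
    have h1 : M g = 1 := congrArg (fun x : ↥(Cfsg.isometryGroup (ZMod 2) Q) => ((x : GL ι (ZMod 2)) : Matrix ι ι (ZMod 2))) hg
    have := hM g (e v)
    rw [h1, Matrix.one_mulVec, hL, e.symm_apply_apply] at this
    exact this.symm

/-- For k ≥ 1 the symmetric group of degree 4k + 4 embeds in a full orthogonal group in dimension 4k + 2 over the field of two elements: in the isometry group of the plus-type form Σ xᵢyᵢ when k is odd, and in that of the minus-type form Σ xᵢyᵢ + (z₁² + z₁z₂ + z₂²) when k is even (through its action on even partitions of a (4k+4)-set, with the form 'half the size of a part, modulo 2'). -/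
theorem result (k : ℕ) (hk : 1 ≤ k) :
    (Odd k → ∃ φ : Equiv.Perm (Fin (4 * k + 4)) →* ↥(Cfsg.isometryGroup (ZMod 2) (Cfsg.quadFormPlus (2 * k + 1) (ZMod 2))), Function.Injective φ) ∧
    (Even k → ∃ φ : Equiv.Perm (Fin (4 * k + 4)) →* ↥(Cfsg.isometryGroup (ZMod 2) (Cfsg.quadFormMinus (2 * k) (ZMod 2) 1 1)), Function.Injective φ) := by
  have hq := q_wv k
  constructor
  · intro hodd
    have h0 : Cfsg.quadFormPlus (2 * k + 1) (ZMod 2) (wv k) = 0 := by
      rw [hq, ZMod.natCast_eq_zero_iff_even]; exact hodd.add_odd odd_one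
    obtain ⟨e, he⟩ := (ArfTwo.shift_plus_iff (2 * k + 1) (by omega) (wv k)).2 h0
    exact embed k hk _ e fun v => by rw [qq_eq]; exact he v
  · intro heven
    have h1 : Cfsg.quadFormPlus (2 * k + 1) (ZMod 2) (wv k) = 1 := by
      rw [hq, ZMod.natCast_eq_one_iff_odd]; exact heven.add_odd odd_one
    obtain ⟨e, he⟩ := ArfTwo.shift_minus (2 * k + 1) (by omega) (wv k) h1
    exact embed k hk _ e fun v => by rw [qq_eq]; exact he v

end Cfsg.Agent.S2563
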