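import Cfsg.Statements.S2564
import Cfsg.Agent.Lib.ArfTwo

set_option autoImplicit false
open Cfsg

namespace Cfsg.Agent.S2564
open Cfsg.Agent.Lib

/-- On the 2m-dimensional space over the field of two elements (m ≥ 1) let f be the alternating form obtained by polarizing the plus-type form Σ xᵢyᵢ, and let q be any quadratic form polarizing to f. For a vector w, the function q + f(·, w) again polarizes to f, and it is equivalent to q under an invertible linear map (that is, has the same type) if and only if q(w) = 0. -/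
theorem result (m : ℕ) (hm : 1 ≤ m) (q : (Fin m ⊕ Fin m → ZMod 2) → ZMod 2) (hq : (∀ u v : (Fin m ⊕ Fin m → ZMod 2), q (u + v) = q u + q v + (Cfsg.quadFormPlus m (ZMod 2) (u + v) - Cfsg.quadFormPlus m (ZMod 2) u - Cfsg.quadFormPlus m (ZMod 2) v))) (w : (Fin m ⊕ Fin m → ZMod 2)) :
    (∀ u v : (Fin m ⊕ Fin m → ZMod 2), (q (u + v) + (Cfsg.quadFormPlus m (ZMod 2) (u + v + w) - Cfsg.quadFormPlus m (ZMod 2) (u + v) - Cfsg.quadFormPlus m (ZMod 2) w)) =
        (q u + (Cfsg.quadFormPlus m (ZMod 2) (u + w) - Cfsg.quadFormPlus m (ZMod 2) u - Cfsg.quadFormPlus m (ZMod 2) w)) + (q v + (Cfsg.quadFormPlus m (ZMod 2) (v + w) - Cfsg.quadFormPlus m (ZMod 2) v - Cfsg.quadFormPlus m (ZMod 2) w)) +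
        (Cfsg.quadFormPlus m (ZMod 2) (u + v) - Cfsg.quadFormPlus m (ZMod 2) u - Cfsg.quadFormPlus m (ZMod 2) v)) ∧
    ((∃ g : (Fin m ⊕ Fin m → ZMod 2) ≃ₗ[ZMod 2] (Fin m ⊕ Fin m → ZMod 2), ∀ v, q v + (Cfsg.quadFormPlus m (ZMod 2) (v + w) - Cfsg.quadFormPlus m (ZMod 2) v - Cfsg.quadFormPlus m (ZMod 2) w) = q (g v)) ↔ q w = 0) := by
  classical
  refine ⟨ArfTwo.polar_add_bil (q := q) hq w, fun ⟨g, hg⟩ => ?_, fun h => ⟨ArfTwo.transv m w, fun v => (ArfTwo.transv_apply hq h v).symm⟩⟩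
  obtain ⟨a, rfl⟩ := ArfTwo.exists_shift hq
  have heq : ∀ v, ArfTwo.shift m (a + w) v = ArfTwo.shift m a (g v) := fun v => by
    rw [← hg v]
    show _ = ArfTwo.shift m a v + ArfTwo.bil m v w
    rw [ArfTwo.shift, ArfTwo.shift, ArfTwo.bil_add_right, add_assoc]
  have hc := ArfTwo.card_zeros_congr g heq
  rw [ArfTwo.card_zeros_shift m hm, ArfTwo.card_zeros_shift m hm] at hc
  have hne := ArfTwo.zeros_ne m
  have key : ∀ x y z : ZMod 2, (x + y + z = 0 ↔ x = 0) → y + z = 0 := by decide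
  show Cfsg.quadFormPlus m (ZMod 2) w + ArfTwo.bil m w a = 0
  refine key (Cfsg.quadFormPlus m (ZMod 2) a) _ _ ?_
  rw [ArfTwo.bil_comm m w a, ← ArfTwo.plus_add]
  by_cases h1 : Cfsg.quadFormPlus m (ZMod 2) (a + w) = 0 <;> by_cases h2 : Cfsg.quadFormPlus m (ZMod 2) a = 0 <;>
    simp_all [eq_comm]

end Cfsg.Agent.S2564
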