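import Cfsg.Statements.S2565
import Cfsg.Agent.S0302
import Cfsg.Agent.Lib.AutPOmega.Models
import Cfsg.Agent.Lib.Forms.Bridge
import Cfsg.Agent.Lib.Linear.SmallIso.PSL42


set_option autoImplicit false
open Cfsg

namespace Cfsg.Agent.S2565
open Cfsg.Agent.Lib.Forms Cfsg.Agent.Lib.OrthOmega Cfsg.Agent.Lib.OrthStd

/-- The commutator subgroup of the full orthogonal group of the plus-type form Σ xᵢyᵢ in dimension 6 over the field of two elements (the group Ω⁺₆(2), of index 2) is isomorphic to the alternating group of degree 8. -/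
theorem result :
    (Cfsg.Omega (ZMod 2) (Cfsg.quadFormPlus 3 (ZMod 2))).index = 2 ∧
    Nonempty (↥(Cfsg.Omega (ZMod 2) (Cfsg.quadFormPlus 3 (ZMod 2))) ≃* alternatingGroup (Fin 8)) := by
  have hidx : (Cfsg.Omega (ZMod 2) (Cfsg.quadFormPlus 3 (ZMod 2))).index = 2 := by
    rw [show Cfsg.quadFormPlus 3 (ZMod 2) = ⇑(qPlus (F := ZMod 2) 3) from funext (quadFormPlus_eq 3)]
    exact index_Omega_two (qPlus_nondeg 3) (by decide) (by simp)
      (Or.inr (by simp))
  refine ⟨hidx, ?_⟩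
  have h1 := Cfsg.Agent.Lib.AutPOmega.card_isometry_plus (F := ZMod 2) (q := 2) (ZMod.card 2) 3 le_rfl
  have h2 := Cfsg.Agent.Lib.OrthOmega.card_pOmega_plus (F := ZMod 2) (q := 2) (ZMod.card 2) 3 le_rfl
  have h3 := (Cfsg.Omega (ZMod 2) (Cfsg.quadFormPlus 3 (ZMod 2))).card_mul_index
  rw [hidx, h1] at h3
  have hg : Nat.gcd 4 (2 ^ 3 - 1) = 1 := by decide
  rw [hg] at h2 h3
  have hbij : Function.Bijective (QuotientGroup.mk' (Subgroup.center (Cfsg.Omega (ZMod 2) (Cfsg.quadFormPlus 3 (ZMod 2))))) := by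
    refine (Nat.bijective_iff_surjective_and_card _).2 ⟨QuotientGroup.mk'_surjective _, ?_⟩
    show _ = Nat.card (Cfsg.POmega (ZMod 2) (Cfsg.quadFormPlus 3 (ZMod 2)))
    omega
  obtain ⟨e1⟩ := Cfsg.Agent.S0302.result (F := ZMod 2)
  obtain ⟨e2⟩ := Cfsg.Agent.Lib.Linear.SmallIso.nonempty_psl_four_two (F := ZMod 2) (ZMod.card 2)
  exact ⟨((MulEquiv.ofBijective _ hbij).trans e1).trans e2⟩

end Cfsg.Agent.S2565
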