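import Cfsg.Statements.S2567
-- import your own Cfsg.Agent.* helpers here

set_option autoImplicit false
open Cfsg

namespace Cfsg.Agent.S2567

/-- Lifting elements of prime order from PGL to GL: let F be a finite field with q elements, r a prime not dividing q − 1, and x an element of order r in GL_n(F) modulo its centre (the scalar matrices). Then x has exactly one preimage in GL_n(F) of order r. -/
theorem result {F : Type*} [Field F] [Fintype F] {q n r : ℕ} (hF : Fintype.card F = q) (hr : r.Prime) (hdiv : ¬ r ∣ q - 1) (x : GL (Fin n) F ⧸ Subgroup.center (GL (Fin n) F)) (hx : orderOf x = r) : ∃! g : GL (Fin n) F, (QuotientGroup.mk g : GL (Fin n) F ⧸ Subgroup.center (GL (Fin n) F)) = x ∧ orderOf g = r := by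
  classical
  have hcop : (Nat.card (Subgroup.center (GL (Fin n) F))).Coprime r := by
    have h1 : Nat.card (Subgroup.center (GL (Fin n) F)) ∣ q - 1 := by
      rw [Matrix.GeneralLinearGroup.center_eq_range_scalar]
      refine (Subgroup.card_range_dvd _).trans ?_
      rw [Nat.card_eq_fintype_card, Fintype.card_units, hF]
    exact ((Nat.Prime.coprime_iff_not_dvd hr).2 fun h => hdiv (h.trans h1)).symm
  induction x using QuotientGroup.induction_on with | H g₀ => ?_
  have hc : g₀ ^ r ∈ (Subgroup.center (GL (Fin n) F)) := by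
    rw [← QuotientGroup.eq_one_iff, QuotientGroup.mk_pow, ← hx]
    exact pow_orderOf_eq_one _
  obtain ⟨⟨z, hz⟩, hzr⟩ := (powCoprime hcop).surjective ⟨g₀ ^ r, hc⟩
  have hzr' : z ^ r = g₀ ^ r := congrArg Subtype.val hzr
  have hcomm : Commute g₀ z⁻¹ := (Commute.inv_right (Subgroup.mem_center_iff.1 hz g₀))
  refine ⟨g₀ * z⁻¹, ⟨?_, ?_⟩, ?_⟩
  · exact QuotientGroup.mk_mul_of_mem g₀ ((Subgroup.center (GL (Fin n) F)).inv_mem hz)
  · have hmk : (QuotientGroup.mk (g₀ * z⁻¹) : GL (Fin n) F ⧸ (Subgroup.center (GL (Fin n) F))) = QuotientGroup.mk g₀ :=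
      QuotientGroup.mk_mul_of_mem g₀ ((Subgroup.center (GL (Fin n) F)).inv_mem hz)
    haveI : Fact r.Prime := ⟨hr⟩
    refine orderOf_eq_prime ?_ fun h => ?_
    · rw [hcomm.mul_pow, inv_pow, hzr', mul_inv_cancel]
    · rw [h, QuotientGroup.mk_one] at hmk
      rw [← hmk, orderOf_one] at hx
      exact hr.one_lt.ne hx
  · rintro g ⟨hg, hgo⟩
    obtain ⟨w, hw, rfl⟩ : ∃ w ∈ (Subgroup.center (GL (Fin n) F)), g₀ * w = g := by
      refine ⟨g₀⁻¹ * g, QuotientGroup.eq.1 hg.symm, by group⟩
    have hwc : Commute g₀ w := Subgroup.mem_center_iff.1 hw g₀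
    have h1 : g₀ ^ r * w ^ r = 1 := by rw [← hwc.mul_pow, ← hgo, pow_orderOf_eq_one]
    have h2 : (⟨w, hw⟩ : (Subgroup.center (GL (Fin n) F))) = ⟨z⁻¹, (Subgroup.center (GL (Fin n) F)).inv_mem hz⟩ := by
      apply (powCoprime hcop).injective
      apply Subtype.ext
      show w ^ r = z⁻¹ ^ r
      rw [inv_pow, hzr']
      exact eq_inv_of_mul_eq_one_right h1
    exact congrArg (fun y : (Subgroup.center (GL (Fin n) F)) => g₀ * (y : GL (Fin n) F)) h2

end Cfsg.Agent.S2567
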