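import Cfsg.Statements.S2568
import Cfsg.Agent.Lib.GLFlags.SemisimpleClasses


set_option autoImplicit false
set_option maxHeartbeats 1000000
open Cfsg

namespace Cfsg.Agent.S2568
open Cfsg.Agent.Lib.GLFlags.SemisimpleClasses Polynomial UniqueFactorizationMonoid

/-- Number of conjugacy classes of elements of a given prime order r, coprime to the characteristic, in GL_n(q): if i is the multiplicative order of q modulo r and t = (r − 1)/i, the classes correspond to the non-zero t-tuples of natural numbers (a_1, …, a_t) with i(a_1 + ⋯ + a_t) ≤ n (a_j is the multiplicity of the j-th Frobenius orbit of nontrivial r-th roots of unity among the eigenvalues), so there are exactly C(⌊n/i⌋ + t, t) − 1 of them. -/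
theorem result {F : Type*} [Field F] [Fintype F] {p q : ℕ} [Fact p.Prime] [CharP F p] (hF : Fintype.card F = q) (n r i t : ℕ) (hr : r.Prime) (hrp : r ≠ p) (hi : i = orderOf (q : ZMod r)) (ht : t * i = r - 1) : Nat.card {C : ConjClasses (GL (Fin n) F) // ∃ g : GL (Fin n) F, ConjClasses.mk g = C ∧ orderOf g = r} = Nat.choose (n / i + t) t - 1 := by
  classical
  have hp := (Fact.out : p.Prime)
  haveI := Fact.mk hr
  obtain ⟨f, -, hqf⟩ := FiniteField.card F p
  have hcop : p.Coprime r := (Nat.coprime_primes hp hr).2 (Ne.symm hrp)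
  have hrF : (r : F) ≠ 0 := by
    rw [Ne, CharP.cast_eq_zero_iff F p, Nat.prime_dvd_prime_iff_eq hp hr]; exact fun h => hrp h.symm
  haveI : NeZero (r : F) := ⟨hrF⟩
  have hcard : Fintype.card F = p ^ (f : ℕ) := hqf
  set o := orderOf (ZMod.unitOfCoprime (p ^ (f : ℕ)) (hcop.pow_left f)) with ho
  have hio : i = o := by
    rw [hi, ho, ← orderOf_units, ZMod.coe_unitOfCoprime, ← hqf, hF]
  have hipos : 0 < i := hio ▸ orderOf_pos _
  set S := (normalizedFactors (cyclotomic r F)).toFinset with hS
  have hSc : S.card = t := by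
    rw [hS, normalizedFactors_cyclotomic_card hcard hcop, ← ho, ← hio, Nat.totient_prime hr, ← ht,
      Nat.mul_div_cancel _ hipos]
  have hSi : ∀ g ∈ S, Irreducible g ∧ g.Monic ∧ g.natDegree = i ∧ g ∣ cyclotomic r F := by
    intro g hg
    rw [hS, Multiset.mem_toFinset] at hg
    have h0 := irreducible_of_normalized_factor g hg
    refine ⟨h0, ?_, (natDegree_of_mem_normalizedFactors_cyclotomic hcard hcop hg).trans hio.symm,
      dvd_of_mem_normalizedFactors hg⟩
    rw [← normalize_normalized_factor g hg]
    exact monic_normalize h0.ne_zero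
  set X1 : F[X] := X - C 1 with hX1
  have hX1i : Irreducible X1 := irreducible_X_sub_C 1
  have hX1m : X1.Monic := monic_X_sub_C 1
  have hX1S : X1 ∉ S := fun h => by
    have h1 := eval_eq_zero_of_dvd_of_eval_eq_zero (hSi _ h).2.2.2 (show X1.eval 1 = 0 by simp [X1])
    rw [eval_one_cyclotomic_prime] at h1
    exact hrF h1
  have hfac : cyclotomic r F * X1 = X ^ r - 1 := by rw [hX1, map_one]; exact cyclotomic_prime_mul_X_sub_one F r
  let G : {g // g ∈ S} → Multiset F[X] := fun g => {g.1}
  let tg : Option {g // g ∈ S} → Multiset F[X] := fun o => o.elim (Multiset.replicate i X1) G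
  set k := n / i with hk
  let mset : Sym (Option {g // g ∈ S}) k → Multiset F[X] := fun s =>
    Multiset.replicate (n - i * k) X1 + (s : Multiset (Option {g // g ∈ S})).bind tg
  have htg : ∀ o x, x ∈ tg o → x = X1 ∨ x ∈ S := by
    rintro (_ | g) x hx
    · exact Or.inl (Multiset.eq_of_mem_replicate hx)
    · exact Or.inr (Multiset.mem_singleton.1 hx ▸ g.2)
  have hmem : ∀ s x, x ∈ mset s → x = X1 ∨ x ∈ S := by
    intro s x hx
    rcases Multiset.mem_add.1 hx with h | h
    · exact Or.inl (Multiset.eq_of_mem_replicate h)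
    · obtain ⟨o, -, h⟩ := Multiset.mem_bind.1 h
      exact htg o x h
  have hmon : ∀ x, x = X1 ∨ x ∈ S → Irreducible x ∧ x.Monic ∧ x ∣ X ^ r - 1 := by
    rintro x (rfl | h)
    · exact ⟨hX1i, hX1m, Dvd.intro_left _ hfac⟩
    · exact ⟨(hSi x h).1, (hSi x h).2.1, (hSi x h).2.2.2.trans (Dvd.intro _ hfac)⟩
  let poly : Sym (Option {g // g ∈ S}) k → F[X] := fun s => (mset s).prod
  have hpnf : ∀ s, normalizedFactors (poly s) = mset s := fun s => by
    rw [normalizedFactors_prod_eq _ fun x hx => (hmon x (hmem s x hx)).1]
    conv_rhs => rw [← Multiset.map_id' (mset s)]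
    exact Multiset.map_congr rfl fun x hx => (hmon x (hmem s x hx)).2.1.normalize_eq_self
  have hpm : ∀ s, (poly s).Monic := fun s => by
    have := monic_multiset_prod_of_monic (mset s) id fun x hx => (hmon x (hmem s x hx)).2.1
    rwa [Multiset.map_id] at this
  have hdegX1 : X1.natDegree = 1 := natDegree_X_sub_C 1
  have hbind : ∀ m : Multiset (Option {g // g ∈ S}), ((m.bind tg).map natDegree).sum = i * Multiset.card m := by
    intro m
    induction m using Multiset.induction with
    | empty => simp
    | cons a m ih =>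
      rw [Multiset.cons_bind, Multiset.map_add, Multiset.sum_add, ih, Multiset.card_cons, mul_add, mul_one, add_comm]
      congr 1
      rcases a with _ | g
      · simp [tg, hdegX1]
      · simp [tg, G, (hSi _ g.2).2.2.1]
  have hik : i * k ≤ n := Nat.mul_div_le n i
  have hdeg : ∀ s, (poly s).natDegree = n := fun s => by
    rw [natDegree_multiset_prod_of_monic _ fun x hx => (hmon x (hmem s x hx)).2.1]
    simp only [mset, Multiset.map_add, Multiset.sum_add, hbind, Multiset.map_replicate, Multiset.sum_replicate,
      hdegX1, smul_eq_mul, mul_one, Sym.card_coe]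
    omega
  have h0 : ∀ s, (poly s).coeff 0 ≠ 0 := fun s hc => by
    have hX : X ∣ poly s := X_dvd_iff.2 hc
    obtain ⟨x, hx, hxd⟩ := prime_X.exists_mem_multiset_dvd hX
    have := hxd.trans (hmon x (hmem s x hx)).2.2
    rw [X_dvd_iff] at this
    simp [hr.ne_zero, coeff_X_pow] at this
    exact absurd this (by simp [hr.ne_zero.symm])
  -- elements of order dividing r are those whose charpoly has all factors dividing X ^ r - 1
  have hfac1 : ∀ g : GL (Fin n) F, g ^ r = 1 → ∀ x ∈ normalizedFactors (g : Matrix (Fin n) (Fin n) F).charpoly,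
      x = X1 ∨ x ∈ S := by
    intro g hg x hx
    have hxi := irreducible_of_normalized_factor x hx
    have hd := det_aeval_eq_zero (g : Matrix (Fin n) (Fin n) F) hxi (dvd_of_mem_normalizedFactors hx)
    have hdvd : x ∣ X ^ r - 1 := by
      by_contra hnd
      obtain ⟨a, b, hab⟩ := hxi.coprime_iff_not_dvd.2 hnd
      have h1 := congrArg (fun z : F[X] => (aeval (g : Matrix (Fin n) (Fin n) F) z)) hab
      simp only [map_add, map_mul, map_sub, map_pow, aeval_X, map_one, ← Units.val_pow_eq_pow_val, hg,
        Units.val_one, sub_self, mul_zero, add_zero] at h1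
      have h2 := congrArg Matrix.det h1
      rw [Matrix.det_mul, hd, mul_zero, Matrix.det_one] at h2
      exact zero_ne_one h2
    rw [← hfac] at hdvd
    have hnorm := normalize_normalized_factor x hx
    rcases hxi.prime.dvd_or_dvd hdvd with h | h
    · obtain ⟨y, hy, hxy⟩ := exists_mem_normalizedFactors_of_dvd (cyclotomic_ne_zero r F) hxi h
      refine Or.inr ?_
      have h3 := normalize_eq_normalize hxy.dvd hxy.symm.dvd
      rw [hnorm, normalize_normalized_factor y hy] at h3
      rw [hS, Multiset.mem_toFinset, h3]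
      exact hy
    · refine Or.inl ?_
      have h3 := hxi.associated_of_dvd hX1i h
      have h4 := normalize_eq_normalize h3.dvd h3.symm.dvd
      rwa [hnorm, hX1m.normalize_eq_self] at h4
  have hpow : ∀ s (g : GL (Fin n) F), (orderOf g).Coprime p → (g : Matrix (Fin n) (Fin n) F).charpoly = poly s → g ^ r = 1 := by
    intro s g hg hgc
    set m := minpoly F (g : Matrix (Fin n) (Fin n) F) with hm
    have hm0 : m ≠ 0 := minpoly.ne_zero (Matrix.isIntegral _)
    have hN : (orderOf g : F) ≠ 0 := natCast_ne_zero_of_coprime hg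
    have hmN : m ∣ X ^ orderOf g - C (1 : F) := minpoly.dvd _ _ (by
      rw [map_sub, map_pow, aeval_X, map_one, map_one, ← Units.val_pow_eq_pow_val, pow_orderOf_eq_one,
        Units.val_one, sub_self])
    have hsq : Squarefree m := (separable_X_pow_sub_C 1 hN one_ne_zero).squarefree.squarefree_of_dvd hmN
    have hmc : m ∣ poly s := hgc ▸ Matrix.minpoly_dvd_charpoly _
    have hr0 : (X ^ r - 1 : F[X]) ≠ 0 := by rw [← map_one C]; exact X_pow_sub_C_ne_zero hr.pos 1
    have hmr : m ∣ X ^ r - 1 := by
      rw [dvd_iff_normalizedFactors_le_normalizedFactors hm0 hr0,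
        Multiset.le_iff_subset ((squarefree_iff_nodup_normalizedFactors hm0).1 hsq)]
      intro x hx
      have hle := (dvd_iff_normalizedFactors_le_normalizedFactors hm0 (hpm s).ne_zero).1 hmc
      have hx' : x ∈ mset s := hpnf s ▸ Multiset.mem_of_le hle hx
      obtain ⟨hxi, hxm, hxd⟩ := hmon x (hmem s x hx')
      obtain ⟨y, hy, hxy⟩ := exists_mem_normalizedFactors_of_dvd hr0 hxi hxd
      have h3 := normalize_eq_normalize hxy.dvd hxy.symm.dvd
      rw [hxm.normalize_eq_self, normalize_normalized_factor y hy] at h3
      exact h3 ▸ hy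
    obtain ⟨c, hc⟩ := hmr
    have h1 := congrArg (aeval (g : Matrix (Fin n) (Fin n) F)) hc
    rw [map_mul, minpoly.aeval, zero_mul, map_sub, map_pow, aeval_X, map_one, sub_eq_zero,
      ← Units.val_pow_eq_pow_val] at h1
    exact Units.ext h1
  have hcopr : ∀ g : GL (Fin n) F, g ^ r = 1 → (orderOf g).Coprime p := fun g hg =>
    Nat.Coprime.coprime_dvd_left (orderOf_dvd_of_pow_eq_one hg) hcop.symm
  have hex : ∀ s, ∃ g : GL (Fin n) F, (orderOf g).Coprime p ∧ (g : Matrix (Fin n) (Fin n) F).charpoly = poly s :=
    fun s => exists_of_charpoly (hpm s) (hdeg s) (h0 s)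
  choose rep hrep1 hrep2 using hex
  let Φ : Sym (Option {g // g ∈ S}) k → {C : ConjClasses (GL (Fin n) F) // ∃ g, ConjClasses.mk g = C ∧ g ^ r = 1} :=
    fun s => ⟨ConjClasses.mk (rep s), rep s, rfl, hpow s _ (hrep1 s) (hrep2 s)⟩
  have hinj : Function.Injective Φ := by
    intro s s' h
    obtain ⟨c, hc⟩ := isConj_iff.1 (ConjClasses.mk_eq_mk_iff_isConj.1 (congrArg Subtype.val h))
    have h1 : poly s' = poly s := by
      rw [← hrep2, ← hrep2, ← hc, Units.val_mul, Units.val_mul]
      rw [Matrix.coe_units_inv]
      exact Matrix.charpoly_units_conj c _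
    have h2 := congrArg normalizedFactors h1
    rw [hpnf, hpnf] at h2
    have hcnt : ∀ (u : Sym (Option {g // g ∈ S}) k) (g : {g // g ∈ S}),
        (mset u).count g.1 = (u : Multiset (Option {g // g ∈ S})).count (some g) := by
      intro u g
      have hne : X1 ≠ g.1 := fun h => hX1S (h ▸ g.2)
      simp only [mset, Multiset.count_add, Multiset.count_replicate, if_neg hne, zero_add]
      induction (u : Multiset (Option {g // g ∈ S})) using Multiset.induction with
      | empty => simp
      | cons a m ih =>
        rw [Multiset.cons_bind, Multiset.count_add, ih, Multiset.count_cons, add_comm]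
        congr 1
        rcases a with _ | g'
        · simp [tg, Multiset.count_replicate, hne]
        · simp only [tg, G, Option.elim, Multiset.count_singleton, Option.some.injEq]
          by_cases hgg : g = g'
          · rw [if_pos hgg, if_pos (congrArg Subtype.val hgg)]
          · rw [if_neg hgg, if_neg fun h => hgg (Subtype.ext h)]
    apply Sym.coe_injective
    have hsome : ∀ g, (s : Multiset (Option {g // g ∈ S})).count (some g) = (s' : Multiset (Option {g // g ∈ S})).count (some g) :=
      fun g => by rw [← hcnt, ← hcnt, h2]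
    refine Multiset.ext' fun o => ?_
    rcases o with _ | g
    · have hsum : ∀ u : Sym (Option {g // g ∈ S}) k, (u : Multiset (Option {g // g ∈ S})).count none
          + ∑ g, (u : Multiset (Option {g // g ∈ S})).count (some g) = k := fun u => by
        rw [← Fintype.sum_option (f := fun o => (u : Multiset (Option {g // g ∈ S})).count o),
          Multiset.sum_count_eq_card (fun a _ => Finset.mem_univ a), Sym.card_coe]
      have a := hsum s
      have b := hsum s'
      rw [Finset.sum_congr rfl fun g _ => hsome g] at a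
      omega
    · exact hsome g
  have hsurj : Function.Surjective Φ := by
    rintro ⟨C, g, rfl, hg⟩
    set P := (g : Matrix (Fin n) (Fin n) F).charpoly with hP
    have hPm : P.Monic := Matrix.charpoly_monic _
    set M := normalizedFactors P with hM
    have hMmem : ∀ x ∈ M, x = X1 ∨ x ∈ S := hfac1 g hg
    have hMprod : M.prod = P := by rw [hM, prod_normalizedFactors_eq hPm.ne_zero, hPm.normalize_eq_self]
    set A := M.filter (fun x => x ≠ X1) with hA
    have hAS : ∀ x ∈ A, x ∈ S := fun x hx => (hMmem x (Multiset.mem_filter.1 hx).1).resolve_left (Multiset.mem_filter.1 hx).2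
    have hsplit : M = Multiset.replicate (M.count X1) X1 + A := by
      conv_lhs => rw [← Multiset.filter_add_not (fun x => x = X1) M, Multiset.filter_eq']
    have hn : n = M.count X1 + i * Multiset.card A := by
      have h1 : P.natDegree = n := by rw [hP, Matrix.charpoly_natDegree_eq_dim, Fintype.card_fin]
      rw [← hMprod, natDegree_multiset_prod_of_monic _ fun x hx => (hmon x (hMmem x hx)).2.1] at h1
      conv_lhs => rw [← h1, hsplit]
      rw [Multiset.map_add, Multiset.sum_add, Multiset.map_replicate, Multiset.sum_replicate, hdegX1,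
        smul_eq_mul, mul_one, Multiset.map_congr rfl (fun x hx => (hSi x (hAS x hx)).2.2.1), Multiset.map_const',
        Multiset.sum_replicate, smul_eq_mul, mul_comm]
    have hAk : Multiset.card A ≤ k := (Nat.le_div_iff_mul_le hipos).2 (by rw [mul_comm]; omega)
    let A' : Multiset (Option {g // g ∈ S}) := A.attach.map (fun x => some ⟨x.1, hAS x.1 x.2⟩)
    let s : Sym (Option {g // g ∈ S}) k := ⟨A' + Multiset.replicate (k - Multiset.card A) none, by
      simp [A']; omega⟩
    refine ⟨s, Subtype.ext (ConjClasses.mk_eq_mk_iff_isConj.2 (isConj_of_charpoly _ _ (hrep1 s) (hcopr g hg) ?_))⟩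
    rw [hrep2]
    show (mset s).prod = P
    rw [← hMprod, hsplit]
    congr 1
    have hb : A'.bind tg = A := by
      simp only [A', Multiset.bind_map, tg, G, Option.elim]
      rw [Multiset.bind_singleton, Multiset.attach_map_val]
    have hb2 : ∀ j, (Multiset.replicate j (none : Option {g // g ∈ S})).bind tg = Multiset.replicate (i * j) X1 := by
      intro j
      induction j with
      | zero => simp
      | succ j ih => rw [Multiset.replicate_succ, Multiset.cons_bind, ih, mul_add, mul_one, add_comm (i * j), Multiset.replicate_add]; rfl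
    show Multiset.replicate (n - i * k) X1 + (A' + Multiset.replicate (k - Multiset.card A) none).bind tg = _
    rw [Multiset.add_bind, hb, hb2, add_comm A, ← add_assoc, ← Multiset.replicate_add]
    congr 2
    have := Nat.mul_le_mul_left i hAk
    rw [Nat.mul_sub]
    omega
  have hcardT : Nat.card {C : ConjClasses (GL (Fin n) F) // ∃ g, ConjClasses.mk g = C ∧ g ^ r = 1} = Nat.choose (k + t) t := by
    rw [← Nat.card_eq_of_bijective Φ ⟨hinj, hsurj⟩, Nat.card_eq_fintype_card, Sym.card_sym_eq_choose,
      Fintype.card_option, Fintype.card_coe, hSc, show t + 1 + k - 1 = k + t by rw [Nat.add_right_comm, Nat.add_sub_cancel, add_comm]]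
    exact Nat.choose_symm_add
  have h1mem : ∃ g : GL (Fin n) F, ConjClasses.mk g = ConjClasses.mk 1 ∧ g ^ r = 1 := ⟨1, rfl, one_pow r⟩
  haveI : Finite (ConjClasses (GL (Fin n) F)) := Finite.of_surjective ConjClasses.mk ConjClasses.mk_surjective
  rw [← hcardT]
  let e : {C : ConjClasses (GL (Fin n) F) // ∃ g : GL (Fin n) F, ConjClasses.mk g = C ∧ orderOf g = r} ≃
      {x : {C : ConjClasses (GL (Fin n) F) // ∃ g, ConjClasses.mk g = C ∧ g ^ r = 1} // x ≠ ⟨_, h1mem⟩} :=
    { toFun := fun C => ⟨⟨C.1, C.2.choose, C.2.choose_spec.1, by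
          exact orderOf_dvd_iff_pow_eq_one.1 C.2.choose_spec.2.dvd⟩, fun h => by
        have h1 := ConjClasses.mk_eq_mk_iff_isConj.1 (C.2.choose_spec.1.trans (congrArg Subtype.val h))
        have h2 := isConj_one_left.1 h1
        have h3 := C.2.choose_spec.2
        rw [h2, orderOf_one] at h3
        exact hr.one_lt.ne h3⟩
      invFun := fun x => ⟨x.1.1, x.1.2.choose, x.1.2.choose_spec.1, orderOf_eq_prime x.1.2.choose_spec.2 fun h =>
        x.2 (Subtype.ext (x.1.2.choose_spec.1.symm.trans (by rw [h])))⟩
      left_inv := fun _ => rfl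
      right_inv := fun _ => rfl }
  rw [Nat.card_congr e]
  haveI := Fintype.ofFinite {C : ConjClasses (GL (Fin n) F) // ∃ g, ConjClasses.mk g = C ∧ g ^ r = 1}
  rw [Nat.card_eq_fintype_card, Nat.card_eq_fintype_card, Fintype.card_subtype_compl, Fintype.card_subtype_eq]

end Cfsg.Agent.S2568
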