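import Cfsg.Statements.S2570
import Cfsg.Agent.Lib.JordanType.Conj


set_option autoImplicit false
open Cfsg

namespace Cfsg.Agent.S2570
open Cfsg.Agent.Lib.JordanType

/-- Number of conjugacy classes of elements of order p in GL_n over a finite field of characteristic p: they correspond to the Jordan types, that is, to the partitions of n with all parts at most p other than the partition into ones, so there are (number of partitions of n with parts ≤ p) − 1 of them. -/
theorem result {F : Type*} [Field F] [Fintype F] {p : ℕ} [Fact p.Prime] [CharP F p] (n : ℕ) : Nat.card {C : ConjClasses (GL (Fin n) F) // ∃ g : GL (Fin n) F, ConjClasses.mk g = C ∧ orderOf g = p} = (Finset.univ.filter (fun μ : Nat.Partition n => ∀ a ∈ μ.parts, a ≤ p)).card - 1 := by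
  classical
  have hp := (Fact.out : p.Prime)
  let Good := {μ : Nat.Partition n // ∀ a ∈ μ.parts, a ≤ p}
  let T := {C : ConjClasses (GL (Fin n) F) // ∃ g, ConjClasses.mk g = C ∧ g ^ p = 1}
  haveI : Finite (ConjClasses (GL (Fin n) F)) := Finite.of_surjective ConjClasses.mk ConjClasses.mk_surjective
  have hpow : ∀ g : GL (Fin n) F, g ^ p = 1 ↔ ((g : Matrix (Fin n) (Fin n) F) - 1) ^ p = 0 := fun g => by
    rcases Nat.eq_zero_or_pos n with rfl | hn
    · exact iff_of_true (Subsingleton.elim _ _) (Subsingleton.elim _ _)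
    haveI : Nonempty (Fin n) := ⟨⟨0, hn⟩⟩
    rw [sub_pow_char_of_commute (p := p) (Commute.one_right (g : Matrix (Fin n) (Fin n) F)), one_pow,
      sub_eq_zero, ← Units.val_pow_eq_pow_val, Units.val_eq_one]
  -- a matrix for every partition
  have hmodel : ∀ μ : Good, ∃ g : GL (Fin n) F, g ^ p = 1 ∧ ∃ (t : ℕ) (d : Fin t → ℕ),
      Finset.univ.val.map d = μ.1.parts ∧ Nonempty (Coords (Matrix.toLin' ((g : Matrix (Fin n) (Fin n) F) - 1)) d) := by
    intro μ
    let l := μ.1.parts.toList
    have hl : (Finset.univ.val.map l.get) = μ.1.parts := by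
      rw [Fin.univ_def, Multiset.map_coe, List.map_get_finRange, Multiset.coe_toList]
    have hcard : Fintype.card ((k : Fin l.length) × Fin (l.get k)) = n := by
      rw [Fintype.card_sigma, Finset.sum_congr rfl (fun k _ => Fintype.card_fin (l.get k)),
        show ∑ k, l.get k = (Finset.univ.val.map l.get).sum from rfl, hl, μ.1.parts_sum]
    let e := Fintype.equivFinOfCardEq hcard
    let A : Matrix (Fin n) (Fin n) F := Matrix.reindex e e (Cfsg.jordanTypeMatrix l.get F)
    let C : Coords (Matrix.toLin' (A - 1)) l.get := reindexCoords l.get e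
    obtain ⟨g, hg⟩ : IsUnit A := by
      rw [show A = 1 + (A - 1) by abel]
      exact (isNilpotent_reindex_sub_one l.get e).isUnit_one_add
    refine ⟨g, (hpow g).2 (Matrix.toLin'.injective ?_), _, _, hl, ⟨hg ▸ C⟩⟩
    rw [hg, Matrix.toLin'_pow, map_zero]
    refine C.pow_eq_zero_iff.2 fun k => μ.2 _ ?_
    rw [← hl]
    exact Multiset.mem_map.2 ⟨k, Finset.mem_univ k, rfl⟩
  choose rep hrep rt rd hrd hrC using hmodel
  have hcount : ∀ (μ : Good) j, (Finset.univ.filter fun k => rd μ k = j).card = μ.1.parts.count j := fun μ j => by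
    conv_rhs => rw [← hrd, Multiset.count_map]
    rw [Finset.card_def, Finset.filter_val]
    exact congrArg Multiset.card (Multiset.filter_congr fun k _ => eq_comm)
  have hrpos : ∀ (μ : Good) k, 1 ≤ rd μ k := fun μ k =>
    μ.1.parts_pos (by rw [← hrd]; exact Multiset.mem_map.2 ⟨k, Finset.mem_univ k, rfl⟩)
  let Φ : Good → T := fun μ => ⟨ConjClasses.mk (rep μ), rep μ, rfl, hrep μ⟩
  have hbij : Function.Bijective Φ := by
    constructor
    · intro μ ν h
      have h1 := (Units.coeHom (Matrix (Fin n) (Fin n) F)).map_isConj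
        (ConjClasses.mk_eq_mk_iff_isConj.1 (congrArg Subtype.val h))
      obtain ⟨e, he⟩ := intertwine_of_isConj h1
      refine Subtype.ext (Nat.Partition.ext (Multiset.ext' fun j => ?_))
      rcases Nat.eq_zero_or_pos j with rfl | hj
      · rw [Multiset.count_eq_zero.2 fun h0 => lt_irrefl _ (μ.1.parts_pos h0),
          Multiset.count_eq_zero.2 fun h0 => lt_irrefl _ (ν.1.parts_pos h0)]
      rw [← hcount, ← hcount]
      exact count_eq_of_coords ((hrC μ).some.map e he) (hrC ν).some hj
    · rintro ⟨K, g, rfl, hg⟩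
      have hnil := (hpow g).1 hg
      obtain ⟨t, d, _, hd, ⟨C⟩, -⟩ := exists_jordanType (g : Matrix (Fin n) (Fin n) F) ⟨p, hnil⟩
      have hsum : (Finset.univ.val.map d).sum = n := by
        have h1 := C.sum_eq_finrank
        rw [Module.finrank_fintype_fun_eq_card, Fintype.card_fin] at h1
        exact h1
      have hle : ∀ k, d k ≤ p := C.pow_eq_zero_iff.1 (by rw [← Matrix.toLin'_pow, hnil, map_zero])
      let μ : Good := ⟨⟨Finset.univ.val.map d, by
        intro i hi
        obtain ⟨k, -, rfl⟩ := Multiset.mem_map.1 hi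
        exact hd k, hsum⟩, fun a ha => by
        obtain ⟨k, -, rfl⟩ := Multiset.mem_map.1 (show a ∈ Finset.univ.val.map d from ha)
        exact hle k⟩
      obtain ⟨e, he⟩ := exists_conj_of_count (hrC μ).some C (hrpos μ) hd fun j _ => by
        rw [hcount, show μ.1.parts = Finset.univ.val.map d from rfl, Multiset.count_map, Finset.card_def, Finset.filter_val]
        exact congrArg Multiset.card (Multiset.filter_congr fun k _ => eq_comm)
      obtain ⟨c, hc⟩ := isConj_of_intertwine e he
      exact ⟨μ, Subtype.ext (ConjClasses.mk_eq_mk_iff_isConj.2 (isConj_iff.2 ⟨c, mul_inv_eq_iff_eq_mul.2 (Units.ext hc.eq)⟩))⟩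
  have hcardT : Nat.card T = (Finset.univ.filter fun μ : Nat.Partition n => ∀ a ∈ μ.parts, a ≤ p).card := by
    rw [← Nat.card_eq_of_bijective Φ hbij, Nat.card_eq_fintype_card, Fintype.card_subtype]
  have h1mem : ∃ g : GL (Fin n) F, ConjClasses.mk g = ConjClasses.mk 1 ∧ g ^ p = 1 := ⟨1, rfl, one_pow p⟩
  rw [← hcardT]
  let e : {C : ConjClasses (GL (Fin n) F) // ∃ g : GL (Fin n) F, ConjClasses.mk g = C ∧ orderOf g = p} ≃
      {x : T // x ≠ ⟨_, h1mem⟩} :=
    { toFun := fun C => ⟨⟨C.1, C.2.choose, C.2.choose_spec.1,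
          orderOf_dvd_iff_pow_eq_one.1 C.2.choose_spec.2.dvd⟩, fun h => by
        have h1 := ConjClasses.mk_eq_mk_iff_isConj.1 (C.2.choose_spec.1.trans (congrArg Subtype.val h))
        have h2 := isConj_one_left.1 h1
        have h3 := C.2.choose_spec.2
        rw [h2, orderOf_one] at h3
        exact hp.one_lt.ne h3⟩
      invFun := fun x => ⟨x.1.1, x.1.2.choose, x.1.2.choose_spec.1, orderOf_eq_prime x.1.2.choose_spec.2 fun h =>
        x.2 (Subtype.ext (x.1.2.choose_spec.1.symm.trans (by rw [h])))⟩
      left_inv := fun _ => rfl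
      right_inv := fun _ => rfl }
  rw [Nat.card_congr e]
  haveI := Fintype.ofFinite T
  rw [Nat.card_eq_fintype_card, Nat.card_eq_fintype_card, Fintype.card_subtype_compl, Fintype.card_subtype_eq]

end Cfsg.Agent.S2570
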