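import Cfsg.Statements.S2571
import Cfsg.Agent.Lib.RegularUnipotentMatrix

set_option autoImplicit false
open Cfsg

namespace Cfsg.Agent.S2571
open Cfsg.Agent.Lib Cfsg.Agent.Lib.RegularUnipotentMatrix

/-- Centraliser of a regular unipotent element in GL_n(q): if u is an invertible n × n matrix over the field with q elements, n ≥ 1, with (u − 1)^n = 0 and rank(u − 1) = n − 1 (a single unipotent Jordan block), then its centraliser in GL_n(q) has order (q − 1) q^(n−1). -/
theorem result {F : Type*} [Field F] [Fintype F] {q n : ℕ} (hF : Fintype.card F = q) (hn : 1 ≤ n) (u : GL (Fin n) F) (hnil : ((u : Matrix (Fin n) (Fin n) F) - 1) ^ n = 0) (hreg : ((u : Matrix (Fin n) (Fin n) F) - 1).rank = n - 1) : Nat.card ↥(Subgroup.centralizer ({u} : Set (GL (Fin n) F))) = (q - 1) * q ^ (n - 1) := by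
  classical
  have hu : IsRegUnip (u : Matrix (Fin n) (Fin n) F) := ⟨hnil, hreg⟩
  obtain ⟨v, hv⟩ := exists_cyclicVec hu hn
  let K : Submodule F (Fin n → F) :=
    LinearMap.ker (Matrix.toLin' (((u : Matrix (Fin n) (Fin n) F) - 1) ^ (n - 1)))
  have hmem : ∀ x, x ∈ K ↔ (((u : Matrix (Fin n) (Fin n) F) - 1) ^ (n - 1)).mulVec x = 0 := fun x => by
    rw [LinearMap.mem_ker, Matrix.toLin'_apply]
  have hcomm : ∀ g : ↥(Subgroup.centralizer ({u} : Set (GL (Fin n) F))),
      Commute ((g : GL (Fin n) F) : Matrix (Fin n) (Fin n) F) (u : Matrix (Fin n) (Fin n) F) := fun g =>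
    (congrArg Units.val (Subgroup.mem_centralizer_singleton_iff.1 g.2))
  have hmap : ∀ g : ↥(Subgroup.centralizer ({u} : Set (GL (Fin n) F))),
      ((g : GL (Fin n) F) : Matrix (Fin n) (Fin n) F).mulVec v ∉ K := by
    intro g h
    rw [hmem, Matrix.mulVec_mulVec, ← (((hcomm g).sub_right (Commute.one_right _)).pow_right _).eq,
      ← Matrix.mulVec_mulVec] at h
    apply hv
    have h2 := congrArg (((g : GL (Fin n) F)⁻¹ : GL (Fin n) F) : Matrix (Fin n) (Fin n) F).mulVec h
    rwa [Matrix.mulVec_mulVec, ← Units.val_mul, inv_mul_cancel, Units.val_one, Matrix.one_mulVec,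
      Matrix.mulVec_zero] at h2
  let f : ↥(Subgroup.centralizer ({u} : Set (GL (Fin n) F))) → {w : Fin n → F // w ∉ K} :=
    fun g => ⟨_, hmap g⟩
  have hf : Function.Bijective f := by
    constructor
    · intro g h hgh
      exact Subtype.ext (Units.ext (centralizer_ext hu hv (hcomm g) (hcomm h) (congrArg Subtype.val hgh)))
    · rintro ⟨w, hw⟩
      obtain ⟨g, hg, hgu⟩ := exists_conj hu hu hv (fun h => hw ((hmem w).2 h))
      exact ⟨⟨g, Subgroup.mem_centralizer_singleton_iff.2 (Units.ext hgu)⟩, Subtype.ext hg⟩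
  rw [Nat.card_eq_of_bijective f hf, Nat.card_eq_fintype_card, Fintype.card_subtype_compl]
  have hK : Module.finrank F K = n - 1 := by
    have h := RegularUnipotent.finrank_ker_pow hu.isRegNilp (k := n - 1)
      (by rw [Module.finrank_pi, Fintype.card_fin]; omega)
    rw [← Matrix.toLin'_pow] at h
    exact h
  have h2 : Fintype.card {x // x ∈ K} = q ^ (n - 1) := by
    rw [← Nat.card_eq_fintype_card, Module.natCard_eq_pow_finrank (K := F), Nat.card_eq_fintype_card,
      hF, hK]
  rw [h2, Fintype.card_fun, Fintype.card_fin, hF, Nat.sub_mul, one_mul,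
    ← pow_succ', Nat.sub_add_cancel hn]

end Cfsg.Agent.S2571
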