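import Cfsg.Statements.S2572
import Cfsg.Agent.Lib.TransvectionClass

set_option autoImplicit false
open Cfsg

namespace Cfsg.Agent.S2572
open Cfsg.Agent.Lib.TransvectionClass

/-- Centraliser of a transvection in GL_n(q), n ≥ 2: if t − 1 has rank one and square zero, the centraliser of t in GL_n(q) has order q^(2n−3) (q − 1) |GL_(n−2)(q)| (a group of order q^(2n−3) extended by GL_1(q) × GL_(n−2)(q)). -/
theorem result {F : Type*} [Field F] [Fintype F] {q n : ℕ} (hF : Fintype.card F = q) (hn : 2 ≤ n) (t : GL (Fin n) F) (ht : Cfsg.IsTransvection (t : Matrix (Fin n) (Fin n) F)) : Nat.card ↥(Subgroup.centralizer ({t} : Set (GL (Fin n) F))) = q ^ (2 * n - 3) * (q - 1) * ∏ i : Fin (n - 2), (q ^ (n - 2) - q ^ (i : ℕ)) := by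
  classical
  obtain ⟨v, φ, hp, ht'⟩ := exists_pair ht
  -- the conjugates of `t` are exactly the transvections
  let T := {s : GL (Fin n) F // Cfsg.IsTransvection (s : Matrix (Fin n) (Fin n) F)}
  have horb : ∀ s : GL (Fin n) F, IsConj t s ↔ Cfsg.IsTransvection (s : Matrix (Fin n) (Fin n) F) := by
    intro s
    constructor
    · intro hc
      obtain ⟨g, rfl⟩ := isConj_iff.1 hc
      have e1 : ((g * t * g⁻¹ : GL (Fin n) F) : Matrix (Fin n) (Fin n) F) - 1 =
          (g : Matrix (Fin n) (Fin n) F) * ((t : Matrix (Fin n) (Fin n) F) - 1)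
            * ((g⁻¹ : GL (Fin n) F) : Matrix (Fin n) (Fin n) F) := by
        rw [mul_sub, sub_mul, mul_one, ← Units.val_mul, ← Units.val_mul, ← Units.val_mul, mul_inv_cancel,
          Units.val_one]
      unfold Cfsg.IsTransvection
      rw [e1, ← pow_two, Units.conj_pow, pow_two, ht.2, mul_zero, zero_mul]
      refine ⟨?_, rfl⟩
      rw [Matrix.rank_mul_eq_left_of_isUnit_det _ _ (g⁻¹).det.isUnit,
        Matrix.rank_mul_eq_right_of_isUnit_det _ _ g.det.isUnit, ht.1]
    · intro hs
      obtain ⟨v', φ', hp', hs'⟩ := exists_pair hs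
      obtain ⟨g, hg1, hg2⟩ := exists_map_pair hp hp'
      refine isConj_iff.2 ⟨g, mul_inv_eq_iff_eq_mul.2 (Units.ext ?_)⟩
      rw [Units.val_mul, Units.val_mul, ht', hs', mul_tvMat hg1 hg2]
  have hcentral : Nat.card ↥(Subgroup.centralizer ({t} : Set (GL (Fin n) F))) * Nat.card T
      = Nat.card (GL (Fin n) F) := by
    have h1 : Nat.card T = (MulAction.stabilizer (ConjAct (GL (Fin n) F)) t).index := by
      rw [MulAction.index_stabilizer, ← Nat.card_coe_set_eq]
      refine Nat.card_congr (Equiv.subtypeEquivRight fun s => ?_)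
      rw [← horb, ConjAct.mem_orbit_conjAct, isConj_comm]
    rw [Subgroup.nat_card_centralizer_nat_card_stabilizer, h1, Subgroup.card_mul_index]
    rfl
  -- count the pairs
  let P := {p : (Fin n → F) × (Fin n → F) // IsPair p.1 p.2}
  have hcard0 : ∀ W : Submodule F (Fin n → F), Nat.card {x : W // x ≠ 0} = q ^ Module.finrank F W - 1 := by
    intro W
    rw [Nat.card_eq_fintype_card, Fintype.card_subtype_compl, Fintype.card_subtype_eq,
      ← Nat.card_eq_fintype_card, Module.natCard_eq_pow_finrank (K := F), Nat.card_eq_fintype_card, hF]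
  have hP : Nat.card P = (q ^ n - 1) * (q ^ (n - 1) - 1) := by
    let e : P ≃ (Σ a : {a : Fin n → F // a ≠ 0}, {b : LinearMap.ker (dotForm a.1) // b ≠ 0}) :=
      { toFun := fun p => ⟨⟨p.1.1, p.2.1⟩, ⟨⟨p.1.2, by
          rw [LinearMap.mem_ker]
          exact (dotProduct_comm _ _).trans p.2.2.2⟩, fun h => p.2.2.1 (congrArg Subtype.val h)⟩⟩
        invFun := fun s => ⟨(s.1.1, s.2.1.1), s.1.2, fun h => s.2.2 (Subtype.ext h),
          (dotProduct_comm _ _).trans s.2.1.2⟩
        left_inv := fun p => rfl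
        right_inv := fun s => rfl }
    rw [Nat.card_congr e, Nat.card_sigma]
    simp only [hcard0]
    rw [Finset.sum_congr rfl (fun a _ => by rw [finrank_ker_dotForm a.2]), Finset.sum_const, smul_eq_mul,
      Finset.card_univ, ← Nat.card_eq_fintype_card]
    congr 1
    rw [Nat.card_eq_fintype_card, Fintype.card_subtype_compl, Fintype.card_subtype_eq, Fintype.card_fun,
      Fintype.card_fin, hF]
  have hPT : Nat.card P = Nat.card T * (q - 1) := by
    have hrep : ∀ s : T, ∃ p : P, (s.1 : Matrix (Fin n) (Fin n) F) = tvMat p.1.1 p.1.2 := fun s => by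
      obtain ⟨a, b, hab, hs⟩ := exists_pair s.2
      exact ⟨⟨(a, b), hab⟩, hs⟩
    choose rep hrep using hrep
    let f : T × Fˣ → P := fun x => ⟨((x.2 : F) • (rep x.1).1.1, (x.2⁻¹ : Fˣ) • (rep x.1).1.2), by
      refine ⟨smul_ne_zero x.2.ne_zero (rep x.1).2.1, ?_, ?_⟩
      · exact smul_ne_zero (x.2⁻¹).ne_zero (rep x.1).2.2.1
      · rw [Units.smul_def, smul_dotProduct, dotProduct_smul, (rep x.1).2.2.2, smul_zero, smul_zero]⟩
    have hft : ∀ x, tvMat (f x).1.1 (f x).1.2 = (x.1.1 : Matrix (Fin n) (Fin n) F) := by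
      intro x
      rw [hrep x.1]
      simp only [f, tvMat]
      congr 1
      ext i j
      simp only [Matrix.vecMulVec_apply, Pi.smul_apply, Units.smul_def, smul_eq_mul, Units.val_inv_eq_inv_val]
      have h0 := x.2.ne_zero
      field_simp
    have hf : Function.Bijective f := by
      constructor
      · intro x y hxy
        have h1 : x.1 = y.1 := Subtype.ext (Units.ext (by rw [← hft x, ← hft y, hxy]))
        have h2 := congrArg (fun p : P => p.1.1) hxy
        simp only [f, h1] at h2
        exact Prod.ext h1 (Units.ext (smul_left_injective F (rep y.1).2.1 h2))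
      · rintro ⟨⟨a, b⟩, hab⟩
        set tv : GL (Fin n) F := ⟨tvMat a b, 1 - Matrix.vecMulVec a b, by
          rw [tvMat, add_mul, mul_sub, mul_sub, vecMulVec_self_mul hab.2.2]; simp, by
          rw [tvMat, sub_mul, mul_add, mul_add, vecMulVec_self_mul hab.2.2]; simp⟩ with htv
        let s : T := ⟨tv, isTransvection_tvMat hab⟩
        have hab' : Matrix.vecMulVec a b = Matrix.vecMulVec (rep s).1.1 (rep s).1.2 := add_left_cancel (hrep s)
        obtain ⟨j, hj⟩ := Function.ne_iff.1 hab.2.1
        have ha : a = ((rep s).1.2 j / b j) • (rep s).1.1 := by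
          funext i
          have h := congrFun (congrFun hab' i) j
          simp only [Matrix.vecMulVec_apply] at h
          rw [Pi.smul_apply, smul_eq_mul]
          rw [div_mul_eq_mul_div, eq_div_iff hj]
          linear_combination h
        have hc : (rep s).1.2 j / b j ≠ 0 := fun h => hab.1 (by rw [ha, h, zero_smul])
        have hb : b = ((rep s).1.2 j / b j)⁻¹ • (rep s).1.2 := by
          obtain ⟨i, hi⟩ := Function.ne_iff.1 (rep s).2.1
          funext k
          have h := congrFun (congrFun hab' i) k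
          simp only [Matrix.vecMulVec_apply] at h
          rw [ha, Pi.smul_apply, smul_eq_mul, mul_assoc] at h
          rw [Pi.smul_apply, smul_eq_mul]
          rw [eq_inv_mul_iff_mul_eq₀ hc]
          exact mul_left_cancel₀ hi (by rw [mul_left_comm]; exact h)
        refine ⟨(s, Units.mk0 _ hc), Subtype.ext (Prod.ext ha.symm ?_)⟩
        simp only [f, Units.smul_def, Units.val_inv_eq_inv_val, Units.val_mk0]
        exact hb.symm
    rw [← Nat.card_eq_of_bijective f hf, Nat.card_prod]
    congr 1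
    rw [Nat.card_eq_fintype_card, Fintype.card_units, hF]
  -- arithmetic
  have hq : 2 ≤ q := hF ▸ Fintype.one_lt_card
  obtain ⟨k, rfl⟩ : ∃ k, n = k + 2 := ⟨n - 2, by omega⟩
  have hA : 0 < q ^ (k + 2) - 1 := Nat.sub_pos_of_lt (Nat.one_lt_pow (by omega) (by omega))
  have hB : 0 < q ^ (k + 1) - 1 := Nat.sub_pos_of_lt (Nat.one_lt_pow (by omega) (by omega))
  have hGL : Nat.card (GL (Fin (k + 2)) F)
      = (q ^ (k + 2) - 1) * (q ^ (k + 1) - 1) * (q ^ (2 * k + 1) * ∏ i : Fin k, (q ^ k - q ^ (i : ℕ))) := by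
    rw [Matrix.card_GL_field, hF, Fin.prod_univ_succ, Fin.prod_univ_succ]
    have h1 : q ^ (k + 2) - q = q * (q ^ (k + 1) - 1) := by
      rw [Nat.mul_sub, mul_one, ← pow_succ']
    have h2 : ∀ i : Fin k, q ^ (k + 2) - q ^ ((i : ℕ) + 1 + 1) = q ^ 2 * (q ^ k - q ^ (i : ℕ)) := fun i => by
      rw [Nat.mul_sub, ← pow_add, ← pow_add, add_comm k 2, show (i : ℕ) + 1 + 1 = 2 + i by ring]
    simp only [Fin.val_zero, pow_zero, Fin.val_succ, zero_add, pow_one, h2]
    rw [Finset.prod_mul_distrib, Finset.prod_const, Finset.card_univ, Fintype.card_fin, h1, ← pow_mul,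
      pow_succ' q (2 * k)]
    ring
  rw [show (k + 2) - 1 = k + 1 by omega] at hP
  rw [show 2 * (k + 2) - 3 = 2 * k + 1 by omega, show k + 2 - 2 = k by omega]
  apply Nat.eq_of_mul_eq_mul_right (Nat.mul_pos hA hB)
  calc Nat.card ↥(Subgroup.centralizer ({t} : Set (GL (Fin (k + 2)) F))) * ((q ^ (k + 2) - 1) * (q ^ (k + 1) - 1))
      = Nat.card ↥(Subgroup.centralizer ({t} : Set (GL (Fin (k + 2)) F))) * Nat.card T * (q - 1) := by
        rw [← hP, hPT, mul_assoc]
    _ = _ := by rw [hcentral, hGL]; ring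

end Cfsg.Agent.S2572
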