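import Cfsg.Statements.S2574
import Cfsg.Agent.Lib.RegularUnipotent

set_option autoImplicit false
open Cfsg

namespace Cfsg.Agent.S2574
open Cfsg.Agent.Lib

/-- A regular unipotent element of the symplectic group has totally isotropic small invariant subspaces: over a finite field, if u ∈ Sp_2m(F) satisfies (u − 1)^(2m) = 0 and rank(u − 1) = 2m − 1, and W is a u-invariant subspace with 2 dim W ≤ 2m, then the alternating form vanishes identically on W. -/
theorem result {F : Type*} [Field F] [Finite F] {m : ℕ} (u : Matrix.symplecticGroup (Fin m) F) (hnil : ((u : Matrix (Fin m ⊕ Fin m) (Fin m ⊕ Fin m) F) - 1) ^ (2 * m) = 0) (hreg : ((u : Matrix (Fin m ⊕ Fin m) (Fin m ⊕ Fin m) F) - 1).rank = 2 * m - 1) (W : Submodule F (Fin m ⊕ Fin m → F)) (hW : ∀ v ∈ W, (u : Matrix (Fin m ⊕ Fin m) (Fin m ⊕ Fin m) F).mulVec v ∈ W) (hdim : 2 * Module.finrank F W ≤ 2 * m) : ∀ v ∈ W, ∀ w ∈ W, Cfsg.sympForm m F v w = 0 := by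
  obtain ⟨A, hA⟩ := u
  set M := A - 1 with hM
  have hcard : Fintype.card (Fin m ⊕ Fin m) = 2 * m := by simp; omega
  have hN := RegularUnipotent.isRegNilp_toLin'' M (by rw [hcard]; exact hnil) (by rw [hcard]; exact hreg)
  set N := Matrix.toLin' M with hNdef
  have hfr : Module.finrank F (Fin m ⊕ Fin m → F) = 2 * m := by rw [Module.finrank_pi, hcard]
  have hW' : ∀ v ∈ W, N v ∈ W := by
    intro v hv
    rw [hNdef, hM, Matrix.toLin'_apply, Matrix.sub_mulVec, Matrix.one_mulVec]
    exact W.sub_mem (hW v hv) hv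
  have hWk := RegularUnipotent.eq_ker_pow hN W hW'
  have hiso : ∀ x y, sympForm m F (A.mulVec x) (A.mulVec y) = sympForm m F x y := by
    intro x y
    unfold sympForm
    rw [← Matrix.vecMul_transpose, Matrix.mulVec_mulVec, ← Matrix.dotProduct_mulVec, Matrix.mulVec_mulVec,
      ← Matrix.mul_assoc, SymplecticGroup.mem_iff'.1 hA]
  have hadd₁ : ∀ x y z, sympForm m F (x + y) z = sympForm m F x z + sympForm m F y z := by
    intro x y z
    exact add_dotProduct x y _
  have hadd₂ : ∀ x y z, sympForm m F x (y + z) = sympForm m F x y + sympForm m F x z := by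
    intro x y z
    unfold sympForm
    rw [Matrix.mulVec_add, dotProduct_add]
  have hAx : ∀ x, A.mulVec x = x + N x := by
    intro x
    rw [hNdef, hM, Matrix.toLin'_apply, Matrix.sub_mulVec, Matrix.one_mulVec, add_sub_cancel]
  have key : ∀ i : ℕ, ∀ v y, (N ^ i) v = 0 → sympForm m F v ((N ^ i) y) = 0 := by
    intro i
    induction i with
    | zero =>
      intro v y h
      simp only [pow_zero, Module.End.one_apply] at h
      simp [h, sympForm]
    | succ i ih =>
      intro v y h
      have hdet : IsUnit A.det := SymplecticGroup.symplectic_det hA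
      obtain ⟨v', rfl⟩ : ∃ v', A.mulVec v' = v := ⟨A⁻¹.mulVec v, by
        rw [Matrix.mulVec_mulVec, Matrix.mul_nonsing_inv _ hdet, Matrix.one_mulVec]⟩
      have h' : (N ^ (i + 1)) v' = 0 := by
        have e1 : (N ^ (i + 1)) (A.mulVec v') = A.mulVec ((N ^ (i + 1)) v') := by
          rw [hAx, hAx, map_add, ← Module.End.mul_apply, ← Module.End.mul_apply,
            ← pow_succ, ← pow_succ']
        rw [e1] at h
        have h2 := congrArg (A⁻¹.mulVec ·) h
        simpa [Matrix.mulVec_mulVec, Matrix.nonsing_inv_mul _ hdet] using h2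
      have h'' : (N ^ i) (N v') = 0 := by rw [← Module.End.mul_apply, ← pow_succ]; exact h'
      have e2 := hiso v' ((N ^ i) y)
      rw [hAx ((N ^ i) y), hadd₂, ← Module.End.mul_apply, ← pow_succ'] at e2
      have e3 : sympForm m F (A.mulVec v') ((N ^ i) y) = sympForm m F v' ((N ^ i) y) := by
        rw [hAx, hadd₁, ih (N v') y h'', add_zero]
      rw [e3] at e2
      exact add_eq_left.1 e2
  intro v hv w hw
  set k := Module.finrank F W with hk
  have hkn : k ≤ Module.finrank F (Fin m ⊕ Fin m → F) := Submodule.finrank_le W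
  rw [hWk] at hv hw
  rw [← RegularUnipotent.range_pow_sub hN hkn] at hw
  obtain ⟨y, rfl⟩ := hw
  refine key _ v y ?_
  rw [LinearMap.mem_ker] at hv
  rw [show Module.finrank F (Fin m ⊕ Fin m → F) - k
      = (Module.finrank F (Fin m ⊕ Fin m → F) - k - k) + k by rw [hfr]; omega,
    pow_add, Module.End.mul_apply, hv, map_zero]

end Cfsg.Agent.S2574
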