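import Cfsg.Statements.S2575
-- import your own Cfsg.Agent.* helpers here

set_option autoImplicit false
open Cfsg

namespace Cfsg.Agent.S2575

/-- Which diagonal involutions of PGL_n(q) lie in PSL_n(q), q odd: for the diagonal matrix t with i entries −1 and n − i entries 1, some non-zero scalar multiple of t has determinant one if and only if i is even or the 2-part of q − 1 exceeds the 2-part of n (that is, −1 is an n-th power in the field exactly in the latter case). -/
theorem result {F : Type*} [Field F] [Fintype F] {q : ℕ} (hF : Fintype.card F = q) (hq : Odd q) {n : ℕ} (hn : 1 ≤ n) (i : ℕ) (hi : i ≤ n) : (∃ c : F, c ≠ 0 ∧ (c • Matrix.diagonal (fun j : Fin n => if (j : ℕ) < i then (-1 : F) else 1)).det = 1) ↔ (Even i ∨ padicValNat 2 n < padicValNat 2 (q - 1)) := by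
  classical
  have hdet : ∀ c : F, (c • Matrix.diagonal (fun j : Fin n => if (j : ℕ) < i then (-1 : F) else 1)).det
      = c ^ n * (-1) ^ i := by
    intro c
    rw [Matrix.det_smul, Matrix.det_diagonal, Fintype.card_fin, Finset.prod_ite]
    congr 1
    rw [Finset.prod_const, Finset.prod_const_one, mul_one, Fin.card_filter_val_lt, min_eq_right hi]
  simp only [hdet]
  have hF2 : (-1 : F) ≠ 1 := by
    apply Ring.neg_one_ne_one_of_char_ne_two
    intro h
    have h' := (FiniteField.even_card_iff_char_two (F := F)).1 h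
    rw [hF] at h'
    exact Nat.not_even_iff_odd.2 hq (Nat.even_iff.2 h')
  rcases Nat.even_or_odd i with he | ho
  · exact ⟨fun _ => Or.inl he, fun _ => ⟨1, one_ne_zero, by rw [one_pow, he.neg_one_pow, one_mul]⟩⟩
  simp only [ho.neg_one_pow, Nat.not_even_iff_odd.2 ho, false_or, mul_neg, mul_one]
  have hq1 : q - 1 ≠ 0 := by
    have := Fintype.one_lt_card (α := F)
    omega
  obtain ⟨k, n', hn', hnk⟩ := Nat.exists_eq_pow_mul_and_not_dvd (show n ≠ 0 by omega) 2 (by norm_num)
  obtain ⟨v, o, ho', hqv⟩ := Nat.exists_eq_pow_mul_and_not_dvd hq1 2 (by norm_num)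
  have hval : ∀ a b : ℕ, ¬ 2 ∣ b → padicValNat 2 (2 ^ a * b) = a := by
    intro a b hb
    rw [padicValNat.mul (by positivity) (by omega), padicValNat.prime_pow,
      padicValNat.eq_zero_of_not_dvd hb, add_zero]
  rw [hnk, hqv, hval k n' hn', hval v o ho']
  constructor
  · rintro ⟨c, hc0, hc⟩
    by_contra hle
    push Not at hle
    have h1 : c ^ ((2 ^ k * n') * o) = 1 := by
      have hd : q - 1 ∣ (2 ^ k * n') * o := by
        rw [hqv, mul_assoc]
        exact mul_dvd_mul (pow_dvd_pow 2 hle) (dvd_mul_left o n')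
      obtain ⟨e, he⟩ := hd
      rw [he, pow_mul, ← hF, FiniteField.pow_card_sub_one_eq_one c hc0, one_pow]
    rw [pow_mul, neg_eq_iff_eq_neg.1 hc, (Nat.odd_iff.2 (by omega)).neg_one_pow] at h1
    exact hF2 h1
  · intro hlt
    obtain ⟨u, hu⟩ := IsCyclic.exists_generator (α := Fˣ)
    have hu' : orderOf u = 2 ^ v * o := by
      rw [orderOf_eq_card_of_forall_mem_zpowers hu, Nat.card_eq_fintype_card, Fintype.card_units, hF, hqv]
    obtain ⟨w, rfl⟩ : ∃ w, v = k + 1 + w := ⟨v - (k + 1), by omega⟩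
    let d : Fˣ := u ^ (2 ^ w * o)
    have hsplit : 2 ^ (k + 1 + w) * o = 2 ^ w * o * 2 ^ k * 2 := by ring
    have hd2 : ((d ^ (2 ^ k) : Fˣ) : F) ^ 2 = 1 := by
      rw [← Units.val_pow_eq_pow_val, ← pow_mul, ← pow_mul, ← mul_assoc, ← hsplit, ← hu', pow_orderOf_eq_one,
        Units.val_one]
    have hd1 : ((d ^ (2 ^ k) : Fˣ) : F) ≠ 1 := by
      rw [Ne, Units.val_eq_one, ← pow_mul]
      refine pow_ne_one_of_lt_orderOf ?_ ?_
      · have : 0 < o := by omega
        positivity
      · rw [hu', hsplit]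
        have : 0 < 2 ^ w * o * 2 ^ k := by
          have : 0 < o := by omega
          positivity
        omega
    have hd : ((d ^ (2 ^ k) : Fˣ) : F) = -1 := (sq_eq_one_iff.1 hd2).resolve_left hd1
    refine ⟨(d : F), d.ne_zero, ?_⟩
    rw [pow_mul, ← Units.val_pow_eq_pow_val, hd, (Nat.odd_iff.2 (by omega)).neg_one_pow, neg_neg]

end Cfsg.Agent.S2575
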