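import Cfsg.Statements.S2576
-- import your own Cfsg.Agent.* helpers here

set_option autoImplicit false
open Cfsg

namespace Cfsg.Agent.S2576

/-- Which involutions of PGL_2m(q) coming from a scalar of the quadratic extension field lie in PSL_2m(q), q odd: let μ generate the Sylow 2-subgroup of the multiplicative group of the field with q elements (μ has order the 2-part of q − 1) and let t be the block-diagonal matrix with m diagonal blocks [[0, 1], [μ, 0]] (so t² is the scalar μ and t is an involution modulo scalars). Then some non-zero scalar multiple of t has determinant one if and only if q ≡ 3 (mod 4) or the 2-part of q − 1 is less than the 2-part of 2m. -/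
theorem result {F : Type*} [Field F] [Fintype F] {q : ℕ} (hF : Fintype.card F = q) (hq : Odd q) {m : ℕ} (hm : 1 ≤ m) (μ : F) (hμ : orderOf μ = 2 ^ padicValNat 2 (q - 1)) : (∃ c : F, c ≠ 0 ∧ (c • Matrix.blockDiagonal (fun _ : Fin m => !![(0 : F), 1; μ, 0])).det = 1) ↔ (q % 4 = 3 ∨ padicValNat 2 (q - 1) < padicValNat 2 (2 * m)) := by
  classical
  have hdet : ∀ c : F, (c • Matrix.blockDiagonal (fun _ : Fin m => !![(0 : F), 1; μ, 0])).det
      = (c ^ 2 * (-μ)) ^ m := by
    intro c
    rw [Matrix.det_smul, Matrix.det_blockDiagonal, Finset.prod_const, Finset.card_univ]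
    simp only [Matrix.det_fin_two_of, Fintype.card_prod, Fintype.card_fin]
    rw [mul_pow, pow_mul, zero_mul, zero_sub, one_mul]
  simp only [hdet]
  have hF2 : (-1 : F) ≠ 1 := by
    apply Ring.neg_one_ne_one_of_char_ne_two
    intro h
    have h' := (FiniteField.even_card_iff_char_two (F := F)).1 h
    rw [hF] at h'
    exact Nat.not_even_iff_odd.2 hq (Nat.even_iff.2 h')
  have hq3 : 3 ≤ q := by
    obtain ⟨j, hj⟩ := hq
    have := Fintype.one_lt_card (α := F)
    omega
  obtain ⟨k, m', hm', hmk⟩ := Nat.exists_eq_pow_mul_and_not_dvd (show m ≠ 0 by omega) 2 (by norm_num)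
  obtain ⟨v, o, ho', hqv⟩ := Nat.exists_eq_pow_mul_and_not_dvd (show q - 1 ≠ 0 by omega) 2 (by norm_num)
  have hval : ∀ a b : ℕ, ¬ 2 ∣ b → padicValNat 2 (2 ^ a * b) = a := by
    intro a b hb
    rw [padicValNat.mul (by positivity) (by omega), padicValNat.prime_pow,
      padicValNat.eq_zero_of_not_dvd hb, add_zero]
  rw [hqv, hval v o ho'] at hμ
  have h2m : padicValNat 2 (2 * m) = k + 1 := by
    rw [hmk, ← mul_assoc, ← pow_succ', hval (k + 1) m' hm']
  rw [h2m, hqv, hval v o ho']
  obtain ⟨v, rfl⟩ : ∃ w, v = w + 1 := by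
    refine ⟨v - 1, ?_⟩
    rcases v with _ | v
    · rw [pow_zero, one_mul] at hqv
      obtain ⟨j, hj⟩ := hq
      omega
    · omega
  have hμh : μ ^ (2 ^ v) = -1 := by
    have h1 : (μ ^ (2 ^ v)) ^ 2 = 1 := by rw [← pow_mul, ← pow_succ, ← hμ, pow_orderOf_eq_one]
    refine (sq_eq_one_iff.1 h1).resolve_left fun h => ?_
    have := orderOf_dvd_of_pow_eq_one h
    rw [hμ, Nat.pow_dvd_pow_iff_le_right (by norm_num)] at this
    omega
  constructor
  · rintro ⟨c, hc0, hc⟩
    by_contra hcon
    push Not at hcon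
    obtain ⟨hq4, hle⟩ := hcon
    have hv : v ≠ 0 := by
      rintro rfl
      norm_num at hqv
      omega
    obtain ⟨w, rfl⟩ : ∃ w, v = k + w := ⟨v - k, by omega⟩
    have hev : Even (2 ^ (k + w)) := Nat.even_pow.2 ⟨even_two, hv⟩
    have h1 : ((c ^ 2 * -μ) ^ m) ^ (2 ^ w * o) = -1 := by
      rw [hmk, ← pow_mul]
      have e1 : 2 ^ k * m' * (2 ^ w * o) = 2 ^ (k + w) * o * m' := by ring
      rw [e1, pow_mul, mul_pow]
      have e2 : (c ^ 2) ^ (2 ^ (k + w) * o) = 1 := by
        rw [← pow_mul, show 2 * (2 ^ (k + w) * o) = q - 1 by rw [hqv]; ring, ← hF,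
          FiniteField.pow_card_sub_one_eq_one c hc0]
      have e3 : (-μ) ^ (2 ^ (k + w) * o) = -1 := by
        rw [pow_mul, hev.neg_pow, hμh, (Nat.odd_iff.2 (by omega)).neg_one_pow]
      rw [e2, e3, one_mul, (Nat.odd_iff.2 (by omega)).neg_one_pow]
    rw [hc, one_pow] at h1
    exact hF2 h1.symm
  · intro h
    refine ⟨1, one_ne_zero, ?_⟩
    rw [one_pow, one_mul]
    by_cases hv : v = 0
    · subst hv
      rw [show μ = -1 by simpa using hμh, neg_neg, one_pow]
    have hle : v + 1 ≤ k := by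
      rcases h with h | h
      · exfalso
        obtain ⟨w, rfl⟩ : ∃ w, v = w + 1 := ⟨v - 1, by omega⟩
        rw [show 2 ^ (w + 1 + 1) * o = 4 * (2 ^ w * o) by ring] at hqv
        omega
      · omega
    obtain ⟨w, rfl⟩ : ∃ w, k = v + 1 + w := ⟨k - (v + 1), by omega⟩
    have hev : Even (2 ^ (v + 1 + w)) := Nat.even_pow.2 ⟨even_two, by omega⟩
    rw [hmk, pow_mul, hev.neg_pow, pow_add, pow_mul, ← hμ, pow_orderOf_eq_one, one_pow, one_pow]

end Cfsg.Agent.S2576
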