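import Cfsg.Statements.S2577
import Cfsg.Agent.Lib.GLFlags.SemisimpleClasses
import Cfsg.Agent.Lib.Forms.Basis


set_option autoImplicit false
open Cfsg

namespace Cfsg.Agent.S2577
open Cfsg.Agent.Lib Cfsg.Agent.Lib.GLFlags.SemisimpleClasses Polynomial UniqueFactorizationMonoid
section
open scoped Classical
variable {F : Type*} [Field F] {n : ℕ}

theorem factor_dvd (g : Matrix (Fin n) (Fin n) F) {f x : F[X]} (hf : aeval g f = 0)
    (hx : x ∈ normalizedFactors g.charpoly) : x ∣ f := by
  have hxi := irreducible_of_normalized_factor x hx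
  have hd := det_aeval_eq_zero g hxi (dvd_of_mem_normalizedFactors hx)
  rcases Nat.eq_zero_or_pos n with rfl | hn
  · simp [Matrix.charpoly, Matrix.det_isEmpty] at hx
  by_contra hnd
  obtain ⟨a, b, hab⟩ := hxi.coprime_iff_not_dvd.2 hnd
  have h1 := congrArg (aeval g) hab
  rw [map_add, map_mul, map_mul, hf, mul_zero, add_zero, map_one] at h1
  have h2 := congrArg Matrix.det h1
  rw [Matrix.det_mul, hd, mul_zero, Matrix.det_one] at h2
  exact zero_ne_one h2

theorem aeval_eq_zero_of_factors {p : ℕ} [Fact p.Prime] [CharP F p] {g : GL (Fin n) F} (hg : (orderOf g).Coprime p)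
    {f : F[X]} (hf0 : f ≠ 0) (h : ∀ x ∈ normalizedFactors (g : Matrix (Fin n) (Fin n) F).charpoly, x ∣ f) :
    aeval (g : Matrix (Fin n) (Fin n) F) f = 0 := by
  classical
  set m := minpoly F (g : Matrix (Fin n) (Fin n) F) with hm
  have hm0 : m ≠ 0 := minpoly.ne_zero (Matrix.isIntegral _)
  have hmN : m ∣ X ^ orderOf g - C (1 : F) := minpoly.dvd _ _ (by
    rw [map_sub, map_pow, aeval_X, map_one, map_one, ← Units.val_pow_eq_pow_val, pow_orderOf_eq_one,
      Units.val_one, sub_self])
  have hsq : Squarefree m :=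
    (separable_X_pow_sub_C 1 (natCast_ne_zero_of_coprime hg) one_ne_zero).squarefree.squarefree_of_dvd hmN
  have hc0 : (g : Matrix (Fin n) (Fin n) F).charpoly ≠ 0 := (Matrix.charpoly_monic _).ne_zero
  have hmf : m ∣ f := by
    rw [dvd_iff_normalizedFactors_le_normalizedFactors hm0 hf0,
      Multiset.le_iff_subset ((squarefree_iff_nodup_normalizedFactors hm0).1 hsq)]
    intro x hx
    have hx' := Multiset.mem_of_le
      ((dvd_iff_normalizedFactors_le_normalizedFactors hm0 hc0).1 (Matrix.minpoly_dvd_charpoly _)) hx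
    obtain ⟨y, hy, hxy⟩ := exists_mem_normalizedFactors_of_dvd hf0 (irreducible_of_normalized_factor x hx') (h x hx')
    have h3 := normalize_eq_normalize hxy.dvd hxy.symm.dvd
    rw [normalize_normalized_factor x hx', normalize_normalized_factor y hy] at h3
    exact h3 ▸ hy
  obtain ⟨c, hc⟩ := hmf
  rw [hc, map_mul, minpoly.aeval, zero_mul]

/-- Conjugate classes of the quotient by scalars. -/
theorem mk_eq_iff (g h : GL (Fin n) F) :
    ConjClasses.mk (QuotientGroup.mk g : GL (Fin n) F ⧸ Subgroup.center (GL (Fin n) F)) = ConjClasses.mk (QuotientGroup.mk h) ↔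
      ∃ a : Fˣ, IsConj g (h * Units.map (Matrix.scalar (Fin n) : F →+* _).toMonoidHom a) := by
  rw [ConjClasses.mk_eq_mk_iff_isConj, isConj_iff]
  constructor
  · rintro ⟨c, hc⟩
    obtain ⟨c, rfl⟩ := QuotientGroup.mk_surjective c
    rw [← QuotientGroup.mk_inv, ← QuotientGroup.mk_mul, ← QuotientGroup.mk_mul, eq_comm, QuotientGroup.eq] at hc
    rcases Nat.eq_zero_or_pos n with rfl | hn
    · exact ⟨1, by rw [Subsingleton.elim g (h * _)]⟩
    obtain ⟨a, ha⟩ := Matrix.GeneralLinearGroup.mem_center_iff_val_eq_scalar.1 hc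
    have ha0 : a ≠ 0 := fun h0 => by
      haveI : Nonempty (Fin n) := ⟨⟨0, hn⟩⟩
      have := congrArg Matrix.det ha
      rw [h0, map_zero, Matrix.det_zero] at this
      exact (Matrix.GeneralLinearGroup.det (h⁻¹ * (c * g * c⁻¹))).ne_zero this.symm
    refine ⟨Units.mk0 a ha0, isConj_iff.2 ⟨c, ?_⟩⟩
    rw [← mul_inv_cancel_left h (c * g * c⁻¹)]
    exact congrArg (h * ·) (Units.ext ha.symm)
  · rintro ⟨a, ha⟩
    obtain ⟨c, hc⟩ := isConj_iff.1 ha
    refine ⟨QuotientGroup.mk c, ?_⟩
    rw [← QuotientGroup.mk_inv, ← QuotientGroup.mk_mul, ← QuotientGroup.mk_mul, hc, eq_comm, QuotientGroup.eq,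
      inv_mul_cancel_left]
    exact Matrix.GeneralLinearGroup.mem_center_iff_val_eq_scalar.2 ⟨a, rfl⟩
end


/-- Number of conjugacy classes of involutions in PGL_n(q) for q odd and n ≥ 2: there are ⌊n/2⌋ classes represented by diagonal matrices with i entries −1 (1 ≤ i ≤ n/2) and, when n is even, one more class represented by a block-diagonal matrix of 2 × 2 blocks [[0, 1], [μ, 0]] with μ a non-square (a matrix squaring to a scalar but having no eigenvalue in the field); in all ⌊n/2⌋ + 1 classes if n is even and ⌊n/2⌋ if n is odd. -/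
theorem result {F : Type*} [Field F] [Fintype F] {q : ℕ} (hF : Fintype.card F = q) (hq : Odd q) {n : ℕ} (hn : 2 ≤ n) : Nat.card {C : ConjClasses (GL (Fin n) F ⧸ Subgroup.center (GL (Fin n) F)) // ∃ g : GL (Fin n) F ⧸ Subgroup.center (GL (Fin n) F), ConjClasses.mk g = C ∧ orderOf g = 2} = n / 2 + (if Even n then 1 else 0) := by
  classical
  obtain ⟨p, hchar⟩ := CharP.exists F
  haveI : Fact p.Prime := ⟨CharP.char_is_prime F p⟩
  have hchar2 : ringChar F ≠ 2 := by
    intro h
    have h' := (FiniteField.even_card_iff_char_two (F := F)).1 h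
    rw [hF] at h'
    exact Nat.not_even_iff_odd.2 hq (Nat.even_iff.2 h')
  have hp2 : p ≠ 2 := fun h => hchar2 (by rw [ringChar.eq F p, h])
  have h2 : (2 : F) ≠ 0 := Ring.two_ne_zero hchar2
  have hneg : (-1 : F) ≠ 1 := Ring.neg_one_ne_one_of_char_ne_two hchar2
  obtain ⟨μ, hμ⟩ := FiniteField.exists_nonsquare hchar2
  have hμ0 : μ ≠ 0 := fun h => hμ (h ▸ IsSquare.zero)
  let sc : Fˣ →* GL (Fin n) F := Units.map (Matrix.scalar (Fin n) : F →+* _).toMonoidHom
  have hsc : ∀ a : Fˣ, (sc a : Matrix (Fin n) (Fin n) F) = (a : F) • 1 := fun a => by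
    show Matrix.scalar (Fin n) (a : F) = _
    rw [Matrix.smul_one_eq_diagonal]
    rfl
  have hscc : ∀ a g, sc a * g = g * sc a := fun a g => Units.ext (by
    rw [Units.val_mul, Units.val_mul, hsc, Matrix.smul_mul, Matrix.mul_smul, one_mul, mul_one])
  let e : ℕ → Fin n → F := fun k i => if (i : ℕ) < k then -1 else 1
  have hee : ∀ k i, e k i * e k i = 1 := fun k i => by simp only [e]; split <;> simp
  let D : ℕ → GL (Fin n) F := fun k => ⟨Matrix.diagonal (e k), Matrix.diagonal (e k),
    by rw [Matrix.diagonal_mul_diagonal, funext (hee k), Matrix.diagonal_one],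
    by rw [Matrix.diagonal_mul_diagonal, funext (hee k), Matrix.diagonal_one]⟩
  have hD2 : ∀ k, D k ^ 2 = 1 := fun k => Units.ext (by
    rw [pow_two, Units.val_mul, Units.val_one]
    exact (Matrix.diagonal_mul_diagonal _ _).trans (by rw [funext (hee k), Matrix.diagonal_one]))
  have hcop2 : ∀ g : GL (Fin n) F, g ^ 2 = 1 → (orderOf g).Coprime p := fun g hg =>
    Nat.Coprime.coprime_dvd_left (orderOf_dvd_of_pow_eq_one hg)
      ((Nat.coprime_primes Nat.prime_two (Fact.out : p.Prime)).2 (Ne.symm hp2))
  have hXp : (X + C (1 : F)) ≠ X - C 1 := fun h => by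
    have := congrArg (Polynomial.eval 0) h
    simp at this
    exact hneg this.symm
  have hX1 : X - C (-1 : F) = X + C 1 := by rw [map_neg, sub_neg_eq_add]
  -- involutions are conjugate to some `D k`
  have hinvol : ∀ g : GL (Fin n) F, g ^ 2 = 1 → ∃ k, k ≤ n ∧ IsConj g (D k) := by
    intro g hg
    set P := (g : Matrix (Fin n) (Fin n) F).charpoly with hP
    have hPm : P.Monic := Matrix.charpoly_monic _
    set M := normalizedFactors P with hM
    have hf : aeval (g : Matrix (Fin n) (Fin n) F) ((X + C (1 : F)) * (X - C 1)) = 0 := by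
      rw [← sq_sub_sq, map_sub, map_pow, map_pow, aeval_X, aeval_C, map_one, one_pow, ← Units.val_pow_eq_pow_val, hg,
        Units.val_one, sub_self]
    have hmem : ∀ x ∈ M, x = X + C 1 ∨ x = X - C 1 := by
      intro x hx
      have hxi := irreducible_of_normalized_factor x hx
      have hnorm := normalize_normalized_factor x hx
      rcases hxi.prime.dvd_or_dvd (factor_dvd _ hf hx) with h | h
      · have h3 := hxi.associated_of_dvd (by rw [← hX1]; exact irreducible_X_sub_C _) h
        have h4 := normalize_eq_normalize h3.dvd h3.symm.dvd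
        rw [hnorm, (monic_X_add_C 1).normalize_eq_self] at h4
        exact Or.inl h4
      · have h3 := hxi.associated_of_dvd (irreducible_X_sub_C _) h
        have h4 := normalize_eq_normalize h3.dvd h3.symm.dvd
        rw [hnorm, (monic_X_sub_C 1).normalize_eq_self] at h4
        exact Or.inr h4
    set k := M.count (X + C 1) with hk
    have hsplit : M = Multiset.replicate k (X + C 1) + Multiset.replicate (Multiset.card M - k) (X - C 1) := by
      conv_lhs => rw [← Multiset.filter_add_not (fun x => x = X + C 1) M, Multiset.filter_eq']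
      congr 1
      rw [Multiset.eq_replicate]
      refine ⟨?_, fun x hx => (hmem x (Multiset.mem_filter.1 hx).1).resolve_left (Multiset.mem_filter.1 hx).2⟩
      have := congrArg Multiset.card (Multiset.filter_add_not (fun x => x = X + C 1) M)
      rw [Multiset.card_add, Multiset.filter_eq', Multiset.card_replicate] at this
      omega
    have hprod : M.prod = P := by rw [hM, prod_normalizedFactors_eq hPm.ne_zero, hPm.normalize_eq_self]
    have hkn : k ≤ Multiset.card M := Multiset.count_le_card _ _
    have hcard : Multiset.card M = n := by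
      have h1 : P.natDegree = n := by rw [hP, Matrix.charpoly_natDegree_eq_dim, Fintype.card_fin]
      rw [← hprod, hsplit, Multiset.prod_add, Multiset.prod_replicate, Multiset.prod_replicate,
        natDegree_mul (pow_ne_zero _ (monic_X_add_C 1).ne_zero) (pow_ne_zero _ (monic_X_sub_C 1).ne_zero),
        natDegree_pow, natDegree_pow, natDegree_X_add_C, natDegree_X_sub_C] at h1
      omega
    rw [hcard] at hsplit hkn
    refine ⟨k, hkn, isConj_of_charpoly g _ (hcop2 g hg) (hcop2 _ (hD2 k)) ?_⟩
    show P = (Matrix.diagonal (e k)).charpoly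
    rw [Matrix.charpoly_diagonal, ← Finset.prod_filter_mul_prod_filter_not Finset.univ (fun i : Fin n => (i : ℕ) < k),
      Finset.prod_congr rfl (s₁ := Finset.univ.filter fun i : Fin n => (i : ℕ) < k) (f := fun i => X - C (e k i)) (g := fun _ => X + C (1 : F)) (fun i hi => by
        simp only [e, if_pos (Finset.mem_filter.1 hi).2, hX1]),
      Finset.prod_congr rfl (s₁ := Finset.univ.filter fun i : Fin n => ¬ (i : ℕ) < k) (f := fun i => X - C (e k i)) (g := fun _ => X - C (1 : F)) (fun i hi => by
        simp only [e, if_neg (Finset.mem_filter.1 hi).2]),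
      Finset.prod_const, Finset.prod_const, Fin.card_filter_val_lt, min_eq_right hkn, ← hprod]
    conv_lhs => rw [hsplit, Multiset.prod_add, Multiset.prod_replicate, Multiset.prod_replicate]
    congr 2
    have := Finset.card_filter_add_card_filter_not (s := (Finset.univ : Finset (Fin n))) (fun i : Fin n => (i : ℕ) < k)
    rw [Fin.card_filter_val_lt, min_eq_right hkn, Finset.card_univ, Fintype.card_fin] at this
    omega
  -- the class without eigenvalue
  have hirr : Irreducible (X ^ 2 - C μ) :=
    X_pow_sub_C_irreducible_of_prime Nat.prime_two fun b hb => hμ ⟨b, by rw [← hb, pow_two]⟩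
  have hmon : (X ^ 2 - C μ : F[X]).Monic := monic_X_pow_sub_C μ two_ne_zero
  have hsqfac : ∀ g : GL (Fin n) F, aeval (g : Matrix (Fin n) (Fin n) F) (X ^ 2 - C μ) = 0 →
      Even n ∧ (g : Matrix (Fin n) (Fin n) F).charpoly = (X ^ 2 - C μ) ^ (n / 2) := by
    intro g hg
    set P := (g : Matrix (Fin n) (Fin n) F).charpoly with hP
    have hPm : P.Monic := Matrix.charpoly_monic _
    have hall : ∀ x ∈ normalizedFactors P, x = X ^ 2 - C μ := by
      intro x hx
      have hxi := irreducible_of_normalized_factor x hx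
      have h3 := hxi.associated_of_dvd hirr (factor_dvd _ hg hx)
      have h4 := normalize_eq_normalize h3.dvd h3.symm.dvd
      rwa [normalize_normalized_factor x hx, hmon.normalize_eq_self] at h4
    have hprod : (normalizedFactors P).prod = P := by
      rw [prod_normalizedFactors_eq hPm.ne_zero, hPm.normalize_eq_self]
    rw [Multiset.eq_replicate_card.2 hall, Multiset.prod_replicate] at hprod
    have h1 : P.natDegree = n := by rw [hP, Matrix.charpoly_natDegree_eq_dim, Fintype.card_fin]
    rw [← hprod, natDegree_pow, natDegree_X_pow_sub_C] at h1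
    refine ⟨⟨Multiset.card (normalizedFactors P), by omega⟩, ?_⟩
    rw [← hprod]
    congr 1
    omega
  have hcopμ : ∀ g : GL (Fin n) F, g ^ 2 = sc (Units.mk0 μ hμ0) → (orderOf g).Coprime p := by
    intro g hg
    have hd : orderOf g ∣ 2 * (q - 1) := orderOf_dvd_of_pow_eq_one (by
      rw [pow_mul, hg, ← map_pow, show (Units.mk0 μ hμ0) ^ (q - 1) = 1 from Units.ext (by
        rw [Units.val_pow_eq_pow_val, Units.val_mk0, ← hF, FiniteField.pow_card_sub_one_eq_one μ hμ0, Units.val_one]),
        map_one])
    refine Nat.Coprime.coprime_dvd_left hd (Nat.Coprime.mul_left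
      ((Nat.coprime_primes Nat.prime_two (Fact.out : p.Prime)).2 (Ne.symm hp2)) ?_)
    obtain ⟨a, -, ha⟩ := FiniteField.card F p
    have h1 : p ∣ q := by rw [← hF, ha]; exact dvd_pow_self p a.ne_zero
    refine (((Fact.out : p.Prime).coprime_iff_not_dvd).2 fun h3 => (Fact.out : p.Prime).one_lt.ne' ?_).symm
    have hq1 : 1 ≤ q := by rw [← hF]; exact Fintype.card_pos
    have h4 := Nat.dvd_sub h1 h3
    rw [Nat.sub_sub_self hq1] at h4
    exact Nat.dvd_one.1 h4
  have hrepE : Even n → ∃ g : GL (Fin n) F, g ^ 2 = sc (Units.mk0 μ hμ0) := by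
    rintro ⟨r, hr⟩
    obtain ⟨g, hgc, hgp⟩ := exists_of_charpoly (p := p) (n := n) (f := (X ^ 2 - C μ) ^ r) (hmon.pow r)
      (by rw [natDegree_pow, natDegree_X_pow_sub_C]; omega)
      (by rw [coeff_zero_eq_eval_zero, eval_pow]; refine pow_ne_zero _ ?_; simp [hμ0])
    have h := aeval_eq_zero_of_factors hgc (hmon.ne_zero) fun x hx => by
      rw [hgp, normalizedFactors_pow, normalizedFactors_irreducible hirr, Multiset.nsmul_singleton] at hx
      rw [Multiset.eq_of_mem_replicate hx, hmon.normalize_eq_self]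
    refine ⟨g, Units.ext ?_⟩
    rw [map_sub, map_pow, aeval_X, aeval_C, sub_eq_zero, Algebra.algebraMap_eq_smul_one] at h
    rw [Units.val_pow_eq_pow_val, h, hsc, Units.val_mk0]
  choose repE hrepE using hrepE
  -- squares of products
  have hsq : ∀ g a, (g * sc a) ^ 2 = g ^ 2 * sc (a ^ 2) := fun g a => by
    rw [(show Commute g (sc a) from (hscc a g).symm).mul_pow, map_pow]
  have hscinj : Function.Injective sc := fun a b h => by
    have := congrArg (fun M : GL (Fin n) F => (M : Matrix (Fin n) (Fin n) F) ⟨0, by omega⟩ ⟨0, by omega⟩) h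
    rw [hsc, hsc] at this
    simpa using! Units.ext (by simpa using this)
  have hconj2 : ∀ {g h : GL (Fin n) F} (b : Fˣ), IsConj g h → g ^ 2 = sc b → h ^ 2 = sc b := by
    intro g h b hgh hg
    obtain ⟨c, hc⟩ := isConj_iff.1 hgh
    rw [← hc, conj_pow, hg, ← hscc, mul_assoc, mul_inv_cancel, mul_one]
  let PGL := GL (Fin n) F ⧸ Subgroup.center (GL (Fin n) F)
  have hone : ∀ g : GL (Fin n) F, (QuotientGroup.mk g : PGL) = 1 ↔ ∃ a, g = sc a := by
    intro g
    rw [QuotientGroup.eq_one_iff]
    constructor
    · intro hg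
      obtain ⟨a, ha⟩ := Matrix.GeneralLinearGroup.mem_center_iff_val_eq_scalar.1 hg
      have ha0 : a ≠ 0 := fun h0 => by
        haveI : Nonempty (Fin n) := ⟨⟨0, by omega⟩⟩
        have := congrArg Matrix.det ha
        rw [h0, map_zero, Matrix.det_zero] at this
        exact (Matrix.GeneralLinearGroup.det g).ne_zero this.symm
      exact ⟨Units.mk0 a ha0, Units.ext ha.symm⟩
    · rintro ⟨a, rfl⟩
      exact Matrix.GeneralLinearGroup.mem_center_iff_val_eq_scalar.2 ⟨a, rfl⟩
  have hord : ∀ (g : GL (Fin n) F) b, g ^ 2 = sc b → (∀ a, g ≠ sc a) → orderOf (QuotientGroup.mk g : PGL) = 2 := by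
    intro g b hg hns
    refine orderOf_eq_prime ?_ fun h => ?_
    · rw [← QuotientGroup.mk_pow, hone]; exact ⟨b, hg⟩
    · obtain ⟨a, ha⟩ := (hone g).1 h
      exact hns a ha
  have hDns : ∀ k, 1 ≤ k → k < n → ∀ a, D k ≠ sc a := by
    intro k hk1 hk2 a h
    have h0 := congrArg (fun M : GL (Fin n) F => (M : Matrix (Fin n) (Fin n) F) ⟨0, by omega⟩ ⟨0, by omega⟩) h
    have h1 := congrArg (fun M : GL (Fin n) F => (M : Matrix (Fin n) (Fin n) F) ⟨k, hk2⟩ ⟨k, hk2⟩) h
    rw [hsc] at h0 h1
    simp [D, e, show 0 < k by omega] at h0 h1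
    exact hneg (h0.trans h1.symm)
  have hEns : ∀ h a, repE h ≠ sc a := by
    intro h a he
    have h1 := hrepE h
    rw [he, ← map_pow] at h1
    exact hμ ⟨a, by rw [← pow_two]; exact (congrArg Units.val (hscinj h1)).symm⟩
  let T := {C : ConjClasses PGL // ∃ g : PGL, ConjClasses.mk g = C ∧ orderOf g = 2}
  let Φ : Fin (n / 2) ⊕ PLift (Even n) → T := Sum.elim
    (fun j => ⟨ConjClasses.mk (QuotientGroup.mk (D (j + 1))), _, rfl,
      hord _ 1 (by rw [hD2, map_one]) (hDns _ (by omega) (by have := j.2; omega))⟩)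
    (fun h => ⟨ConjClasses.mk (QuotientGroup.mk (repE h.down)), _, rfl, hord _ _ (hrepE h.down) (hEns h.down)⟩)
  have hkey : ∀ i j, i ≤ n → j ≤ n → ∀ a, IsConj (D i) (D j * sc a) → ((a : F) = 1 ∧ i = j) ∨ ((a : F) = -1 ∧ i + j = n) := by
    intro i j hi hj a h
    have ha : ((a : F)) * a = 1 := by
      have h1 := hconj2 1 h (by rw [hD2, map_one])
      rw [hsq, hD2, one_mul] at h1
      have := congrArg Units.val (hscinj h1)
      rwa [Units.val_pow_eq_pow_val, Units.val_one, pow_two] at this
    obtain ⟨c, hc⟩ := isConj_iff.1 h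
    have hpoly : ((D j * sc a : GL (Fin n) F) : Matrix (Fin n) (Fin n) F).charpoly = (Matrix.diagonal (e i)).charpoly := by
      rw [← hc, Units.val_mul, Units.val_mul, Matrix.coe_units_inv]
      exact Matrix.charpoly_units_conj c _
    rw [Units.val_mul, hsc, Matrix.mul_smul, mul_one,
      show (a : F) • (D j : Matrix (Fin n) (Fin n) F) = Matrix.diagonal (fun x => (a : F) * e j x) from
        (Matrix.diagonal_smul (a : F) (e j)).symm, Matrix.charpoly_diagonal, Matrix.charpoly_diagonal] at hpoly
    have hroots := congrArg Polynomial.roots hpoly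
    rw [roots_prod _ _ (Finset.prod_ne_zero_iff.2 fun x _ => X_sub_C_ne_zero _),
      roots_prod _ _ (Finset.prod_ne_zero_iff.2 fun x _ => X_sub_C_ne_zero _)] at hroots
    simp only [roots_X_sub_C, Multiset.bind_singleton] at hroots
    have hcnt := congrArg (Multiset.count (-1)) hroots
    rw [Multiset.count_map, Multiset.count_map] at hcnt
    have hci : ∀ k, k ≤ n → Multiset.card ((Finset.univ : Finset (Fin n)).val.filter fun x => -1 = e k x) = k := by
      intro k hk
      rw [← Finset.filter_val, ← Finset.card_def,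
        Finset.filter_congr (q := fun x : Fin n => (x : ℕ) < k) (fun x _ => by
          simp only [e]; split <;> simp_all), Fin.card_filter_val_lt, min_eq_right hk]
    rw [hci i hi] at hcnt
    rcases mul_self_eq_one_iff.1 ha with ha1 | ha1
    · left
      refine ⟨ha1, ?_⟩
      simp only [ha1, one_mul] at hcnt
      rw [hci j hj] at hcnt
      exact hcnt.symm
    · right
      refine ⟨ha1, ?_⟩
      simp only [ha1, neg_mul, one_mul, neg_inj] at hcnt
      have hcj : Multiset.card ((Finset.univ : Finset (Fin n)).val.filter fun x => 1 = e j x) = n - j := by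
        have h0 := Finset.card_filter_add_card_filter_not (s := (Finset.univ : Finset (Fin n))) (fun x : Fin n => (x : ℕ) < j)
        rw [Fin.card_filter_val_lt, min_eq_right hj, Finset.card_univ, Fintype.card_fin] at h0
        rw [← Finset.filter_val, ← Finset.card_def,
          Finset.filter_congr (q := fun x : Fin n => ¬ (x : ℕ) < j) (fun x _ => by
            simp only [e]; split <;> simp_all [hneg.symm])]
        omega
      rw [hcj] at hcnt
      omega
  have hbij : Function.Bijective Φ := by
    constructor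
    · rintro (i | h) (j | h') heq
      · obtain ⟨a, ha⟩ := (mk_eq_iff _ _).1 (congrArg Subtype.val heq)
        have := i.2
        have := j.2
        have h3 := (hkey (i + 1) (j + 1) (by omega) (by omega) a ha).imp And.right And.right
        exact congrArg Sum.inl (Fin.ext (by omega))
      · obtain ⟨a, ha⟩ := (mk_eq_iff _ _).1 (congrArg Subtype.val heq.symm)
        exfalso
        have h1 := hconj2 _ ha (hrepE h'.down)
        rw [hsq, hD2, one_mul] at h1
        exact hμ ⟨a, by rw [← pow_two, ← Units.val_pow_eq_pow_val, hscinj h1]; rfl⟩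
      · obtain ⟨a, ha⟩ := (mk_eq_iff _ _).1 (congrArg Subtype.val heq)
        exfalso
        have h1 := hconj2 _ ha (hrepE h.down)
        rw [hsq, hD2, one_mul] at h1
        exact hμ ⟨a, by rw [← pow_two, ← Units.val_pow_eq_pow_val, hscinj h1]; rfl⟩
      · obtain ⟨h⟩ := h
        obtain ⟨h'⟩ := h'
        rfl
    · rintro ⟨K, g, rfl, hg⟩
      obtain ⟨g, rfl⟩ := QuotientGroup.mk_surjective g
      have hg2 : (QuotientGroup.mk (g ^ 2) : PGL) = 1 := by
        rw [QuotientGroup.mk_pow]; exact orderOf_dvd_iff_pow_eq_one.1 hg.dvd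
      obtain ⟨c, hc⟩ := (hone _).1 hg2
      have hgns : ∀ a, g ≠ sc a := fun a h => by
        rw [(hone g).2 ⟨a, h⟩, orderOf_one] at hg
        omega
      have hcls : ∀ b, ConjClasses.mk (QuotientGroup.mk (g * sc b) : PGL) = ConjClasses.mk (QuotientGroup.mk g) := fun b =>
        (mk_eq_iff _ _).2 ⟨b, IsConj.refl _⟩
      by_cases hsqc : IsSquare (c : F)
      · obtain ⟨s, hs⟩ := hsqc
        have hs0 : s ≠ 0 := fun h => c.ne_zero (by rw [hs, h, mul_zero])
        let b : Fˣ := (Units.mk0 s hs0)⁻¹
        have hgb : (g * sc b) ^ 2 = 1 := by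
          rw [hsq, hc, ← map_mul, show c * b ^ 2 = 1 from Units.ext (by
            simp only [b, Units.val_mul, Units.val_pow_eq_pow_val, Units.val_inv_eq_inv_val, Units.val_mk0, Units.val_one, hs]
            field_simp), map_one]
        obtain ⟨k, hk, hconj⟩ := hinvol _ hgb
        have hk0 : k ≠ 0 := by
          rintro rfl
          have h1 : D 0 = 1 := Units.ext (by
            show Matrix.diagonal (e 0) = 1
            rw [show e 0 = fun _ => (1 : F) from funext fun i => if_neg (Nat.not_lt_zero _), Matrix.diagonal_one])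
          rw [h1] at hconj
          have := isConj_one_left.1 hconj
          exact hgns b⁻¹ (by rw [map_inv, eq_inv_iff_mul_eq_one]; exact this)
        have hkn : k ≠ n := by
          intro hkn
          have h1 : D k = sc (-1) := Units.ext (by
            rw [hsc]
            show Matrix.diagonal (e k) = _
            rw [show e k = fun _ => (-1 : F) from funext fun i => if_pos (by omega), ← Matrix.smul_one_eq_diagonal]
            rfl)
          rw [h1] at hconj
          obtain ⟨d, hd⟩ := isConj_iff.1 hconj.symm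
          rw [← hscc, mul_assoc, mul_inv_cancel, mul_one] at hd
          exact hgns (-1 * b⁻¹) (by rw [map_mul, map_inv, eq_mul_inv_iff_mul_eq]; exact hd.symm)
        rcases le_or_gt k (n / 2) with hle | hgt
        · refine ⟨Sum.inl ⟨k - 1, by omega⟩, Subtype.ext ?_⟩
          show ConjClasses.mk (QuotientGroup.mk (D (k - 1 + 1)) : PGL) = ConjClasses.mk (QuotientGroup.mk g : PGL)
          rw [Nat.sub_add_cancel (Nat.pos_of_ne_zero hk0), ← hcls b]
          exact ((mk_eq_iff _ _).2 ⟨1, by rw [map_one, mul_one]; exact hconj⟩).symm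
        · -- replace by the negative
          have hgb' : (g * sc (-b)) ^ 2 = 1 := by rw [hsq, neg_sq, ← hsq, hgb]
          obtain ⟨l, hl, hconj'⟩ := hinvol _ hgb'
          have hll : ((-1 : Fˣ) : F) = 1 ∧ k = l ∨ ((-1 : Fˣ) : F) = -1 ∧ k + l = n := by
            refine hkey k l hk hl (-1) ?_
            obtain ⟨d, hd⟩ := isConj_iff.1 hconj'
            refine hconj.symm.trans (isConj_iff.2 ⟨d, ?_⟩)
            rw [← hd, show g * sc (-b) = (g * sc b) * sc (-1) by rw [mul_assoc, ← map_mul, mul_neg_one]]
            simp only [mul_assoc, hscc (-1) d⁻¹]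
            rw [← map_mul, show (-1 : Fˣ) * -1 = 1 by simp, map_one, mul_one]
          have hkl : k + l = n := by
            rcases hll with h | h
            · exact absurd h.1 (by simpa using hneg)
            · exact h.2
          refine ⟨Sum.inl ⟨l - 1, by omega⟩, Subtype.ext ?_⟩
          show ConjClasses.mk (QuotientGroup.mk (D (l - 1 + 1)) : PGL) = ConjClasses.mk (QuotientGroup.mk g : PGL)
          rw [Nat.sub_add_cancel (show 1 ≤ l by omega), ← hcls (-b)]
          exact ((mk_eq_iff _ _).2 ⟨1, by rw [map_one, mul_one]; exact hconj'⟩).symm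
      · obtain ⟨s, hs⟩ := Forms.isSquare_div_of_nonsquares h2 hμ hsqc
        have hs0 : s ≠ 0 := fun h => by
          rw [h, mul_zero, div_eq_zero_iff] at hs
          exact hs.elim hμ0 c.ne_zero
        let b : Fˣ := Units.mk0 s hs0
        have hgb : (g * sc b) ^ 2 = sc (Units.mk0 μ hμ0) := by
          rw [hsq, hc, ← map_mul]
          refine congrArg sc (Units.ext ?_)
          simp only [b, Units.val_mul, Units.val_pow_eq_pow_val, Units.val_mk0, pow_two]
          rw [← hs, mul_div_cancel₀ _ c.ne_zero]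
        have hae : ∀ x : GL (Fin n) F, x ^ 2 = sc (Units.mk0 μ hμ0) →
            aeval (x : Matrix (Fin n) (Fin n) F) (X ^ 2 - C μ) = 0 := fun x hx => by
          rw [map_sub, map_pow, aeval_X, aeval_C, sub_eq_zero, Algebra.algebraMap_eq_smul_one,
            ← Units.val_pow_eq_pow_val, hx, hsc, Units.val_mk0]
        obtain ⟨hev, hch⟩ := hsqfac _ (hae _ hgb)
        refine ⟨Sum.inr ⟨hev⟩, Subtype.ext ?_⟩
        show ConjClasses.mk (QuotientGroup.mk (repE hev) : PGL) = ConjClasses.mk (QuotientGroup.mk g : PGL)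
        rw [← hcls b]
        refine (mk_eq_iff _ _).2 ⟨1, ?_⟩
        rw [map_one, mul_one]
        exact isConj_of_charpoly _ _ (hcopμ _ (hrepE hev)) (hcopμ _ hgb)
          ((hsqfac _ (hae _ (hrepE hev))).2.trans hch.symm)
  rw [← Nat.card_eq_of_bijective Φ hbij, Nat.card_sum, Nat.card_fin]
  congr 1
  split
  · rename_i h
    haveI : Unique (PLift (Even n)) := ⟨⟨⟨h⟩⟩, fun _ => rfl⟩
    exact Nat.card_unique
  · rename_i h
    haveI : IsEmpty (PLift (Even n)) := ⟨fun x => h x.down⟩
    exact Nat.card_of_isEmpty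

end Cfsg.Agent.S2577
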