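import Cfsg.Statements.S2578
import Cfsg.Agent.Lib.RegularUnipotentMatrix

set_option autoImplicit false
open Cfsg

namespace Cfsg.Agent.S2578
open Cfsg.Agent.Lib Cfsg.Agent.Lib.RegularUnipotentMatrix

/-- Regular unipotent classes of SL_n(q): for n ≥ 2 over the field with q elements, the matrices u of determinant one with (u − 1)^n = 0 and rank(u − 1) = n − 1 form a single GL_n(q)-class which splits into exactly gcd(n, q − 1) conjugacy classes of SL_n(q). -/
theorem result {F : Type*} [Field F] [Fintype F] {q : ℕ} (hF : Fintype.card F = q) {n : ℕ} (hn : 2 ≤ n) : Nat.card {C : ConjClasses (Matrix.SpecialLinearGroup (Fin n) F) // ∃ u : Matrix.SpecialLinearGroup (Fin n) F, ConjClasses.mk u = C ∧ ((u : Matrix (Fin n) (Fin n) F) - 1) ^ n = 0 ∧ ((u : Matrix (Fin n) (Fin n) F) - 1).rank = n - 1} = Nat.gcd n (q - 1) := by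
  classical
  let M₀ : Matrix.SpecialLinearGroup (Fin n) F := ⟨1 + shift F n, det_one_add_shift⟩
  have hM₀ : IsRegUnip (M₀ : Matrix (Fin n) (Fin n) F) := isRegUnip_one_add_shift (by omega)
  -- conjugation of `M₀` by an invertible matrix, as a special linear element
  let cj : GL (Fin n) F → Matrix.SpecialLinearGroup (Fin n) F := fun g =>
    ⟨(g : Matrix (Fin n) (Fin n) F) * (M₀ : Matrix (Fin n) (Fin n) F) *
      ((g⁻¹ : GL (Fin n) F) : Matrix (Fin n) (Fin n) F), by
      rw [Matrix.det_units_conj]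
      exact M₀.2⟩
  have hcj : ∀ g, Matrix.SpecialLinearGroup.toGL (cj g) = g * Matrix.SpecialLinearGroup.toGL M₀ * g⁻¹ :=
    fun g => Units.ext rfl
  have hreg : ∀ g : GL (Fin n) F, IsRegUnip (cj g : Matrix (Fin n) (Fin n) F) := by
    intro g
    have e1 : (cj g : Matrix (Fin n) (Fin n) F) - 1 = (g : Matrix (Fin n) (Fin n) F)
        * ((M₀ : Matrix (Fin n) (Fin n) F) - 1) * ((g⁻¹ : GL (Fin n) F) : Matrix (Fin n) (Fin n) F) := by
      rw [mul_sub, sub_mul, mul_one, ← Units.val_mul, mul_inv_cancel, Units.val_one]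
    unfold IsRegUnip
    rw [e1, Units.conj_pow, hM₀.1, mul_zero, zero_mul]
    refine ⟨rfl, ?_⟩
    rw [Matrix.rank_mul_eq_left_of_isUnit_det _ _ (g⁻¹).det.isUnit,
      Matrix.rank_mul_eq_right_of_isUnit_det _ _ g.det.isUnit, hM₀.2]
  have hclass : ∀ g h : GL (Fin n) F, IsConj (cj g) (cj h) ↔
      h.det / g.det ∈ (powMonoidHom n : Fˣ →* Fˣ).range := by
    intro g h
    constructor
    · intro hc
      obtain ⟨s, hs⟩ := isConj_iff.1 hc
      have hs' := congrArg Matrix.SpecialLinearGroup.toGL hs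
      rw [map_mul, map_mul, map_inv, hcj, hcj] at hs'
      set S := Matrix.SpecialLinearGroup.toGL s with hS
      set m := Matrix.SpecialLinearGroup.toGL M₀ with hm
      have hcomm : Commute (h⁻¹ * S * g) m := by
        show h⁻¹ * S * g * m = m * (h⁻¹ * S * g)
        calc h⁻¹ * S * g * m = h⁻¹ * (S * (g * m * g⁻¹) * S⁻¹) * (S * g) := by group
          _ = h⁻¹ * (h * m * h⁻¹) * (S * g) := by rw [hs']
          _ = m * (h⁻¹ * S * g) := by group
      obtain ⟨a, ha⟩ := exists_det_eq_pow hM₀ (by omega) (A := ((h⁻¹ * S * g : GL (Fin n) F) :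
        Matrix (Fin n) (Fin n) F)) (congrArg Units.val hcomm)
      have hdet : (h⁻¹ * S * g).det = g.det / h.det := by
        rw [map_mul, map_mul, map_inv, show S.det = 1 from Units.ext s.2, mul_one, div_eq_mul_inv, mul_comm]
      rw [← Matrix.GeneralLinearGroup.val_det_apply, hdet] at ha
      have ha0 : a ≠ 0 := by
        rintro rfl
        rw [zero_pow (by omega)] at ha
        exact (g.det / h.det).ne_zero ha
      refine ⟨(Units.mk0 a ha0)⁻¹, ?_⟩
      rw [powMonoidHom_apply, inv_pow, show Units.mk0 a ha0 ^ n = g.det / h.det from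
        Units.ext (by rw [Units.val_pow_eq_pow_val, Units.val_mk0, ha]), inv_div]
    · rintro ⟨a, ha⟩
      rw [powMonoidHom_apply] at ha
      set c : GL (Fin n) F := h * (Matrix.GeneralLinearGroup.scalar (Fin n) a)⁻¹ * g⁻¹ with hc
      have hdc : c.det = 1 := by
        have hsc : (Matrix.GeneralLinearGroup.scalar (Fin n) a).det = a ^ n := Units.ext (by simp)
        rw [hc, map_mul, map_mul, map_inv, map_inv, hsc, ha, inv_div, mul_div_cancel, mul_inv_cancel]
      have hdc' : (c : Matrix (Fin n) (Fin n) F).det = 1 := congrArg Units.val hdc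
      obtain ⟨cS, hcS⟩ : ∃ cS : Matrix.SpecialLinearGroup (Fin n) F, Matrix.SpecialLinearGroup.toGL cS = c :=
        ⟨⟨_, hdc'⟩, Units.ext rfl⟩
      refine isConj_iff.2 ⟨cS, ?_⟩
      apply Matrix.SpecialLinearGroup.toGL_injective
      simp only [map_mul, map_inv, hcj]
      rw [hcS]
      have hz : ∀ x : GL (Fin n) F, Commute (Matrix.GeneralLinearGroup.scalar (Fin n) a)⁻¹ x := fun x =>
        (Subgroup.mem_center_iff.1 (by
          rw [Matrix.GeneralLinearGroup.center_eq_range_scalar]
          exact ⟨a⁻¹, map_inv _ _⟩) x).symm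
      set z := (Matrix.GeneralLinearGroup.scalar (Fin n) a)⁻¹ with hzdef
      set m := Matrix.SpecialLinearGroup.toGL M₀ with hm
      calc c * (g * m * g⁻¹) * c⁻¹ = h * (z * m) * z⁻¹ * h⁻¹ := by rw [hc]; group
        _ = h * m * h⁻¹ := by rw [(hz m).eq]; group
  haveI : Nonempty (Fin n) := ⟨⟨0, by omega⟩⟩
  let D : Fˣ → GL (Fin n) F := fun a => (Matrix.GeneralLinearGroup.det_surjective (n := Fin n) a).choose
  have hD : ∀ a, (D a).det = a := fun a => (Matrix.GeneralLinearGroup.det_surjective (n := Fin n) a).choose_spec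
  let Φ : (Fˣ ⧸ (powMonoidHom n : Fˣ →* Fˣ).range) →
      {C : ConjClasses (Matrix.SpecialLinearGroup (Fin n) F) // ∃ u : Matrix.SpecialLinearGroup (Fin n) F,
        ConjClasses.mk u = C ∧ ((u : Matrix (Fin n) (Fin n) F) - 1) ^ n = 0 ∧
          ((u : Matrix (Fin n) (Fin n) F) - 1).rank = n - 1} :=
    fun x => Quotient.liftOn' x (fun a => ⟨ConjClasses.mk (cj (D a)), cj (D a), rfl, hreg (D a)⟩)
      (fun a b hab => Subtype.ext (ConjClasses.mk_eq_mk_iff_isConj.2 ((hclass _ _).2 (by
        rw [hD, hD, div_eq_mul_inv, mul_comm]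
        exact QuotientGroup.leftRel_apply.1 hab))))
  have hΦ : Function.Bijective Φ := by
    constructor
    · intro x y
      induction x using QuotientGroup.induction_on with | H a => ?_
      induction y using QuotientGroup.induction_on with | H b => ?_
      intro hab
      have h1 := (hclass _ _).1 (ConjClasses.mk_eq_mk_iff_isConj.1 (congrArg Subtype.val hab))
      rw [hD, hD, div_eq_mul_inv, mul_comm] at h1
      exact QuotientGroup.eq.2 h1
    · rintro ⟨C, u, rfl, hu⟩
      obtain ⟨g, hg⟩ := isConj_iff.1 (RegularUnipotentMatrix.isConj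
        (u := Matrix.SpecialLinearGroup.toGL M₀) (u' := Matrix.SpecialLinearGroup.toGL u) hM₀ hu)
      refine ⟨QuotientGroup.mk g.det, Subtype.ext ?_⟩
      show ConjClasses.mk (cj (D g.det)) = ConjClasses.mk u
      have hgu : cj g = u := Matrix.SpecialLinearGroup.toGL_injective (by rw [hcj, hg])
      rw [ConjClasses.mk_eq_mk_iff_isConj]
      conv_rhs => rw [← hgu]
      exact (hclass _ _).2 (by rw [hD, div_self']; exact one_mem _)
  rw [← Nat.card_eq_of_bijective Φ hΦ, ← Subgroup.index_eq_card, IsCyclic.index_powMonoidHom_range,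
    Nat.card_eq_fintype_card, Fintype.card_units, hF, Nat.gcd_comm]

end Cfsg.Agent.S2578
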