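import Cfsg.Statements.S2579
import Cfsg.Agent.Lib.TransvectionClass

set_option autoImplicit false
open Cfsg

namespace Cfsg.Agent.S2579
open Cfsg.Agent.Lib.TransvectionClass

/-- In SL_n(F) with n ≥ 3, over a finite field F, any two transvections (matrices t with t − 1 of rank one and square zero) are conjugate by an element of SL_n(F). -/
theorem result {F : Type*} [Field F] [Finite F] {n : ℕ} (hn : 3 ≤ n) (s t : Matrix.SpecialLinearGroup (Fin n) F) (hs : Cfsg.IsTransvection (s : Matrix (Fin n) (Fin n) F)) (ht : Cfsg.IsTransvection (t : Matrix (Fin n) (Fin n) F)) : IsConj s t := by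
  obtain ⟨v, φ, hp, hs'⟩ := exists_pair hs
  obtain ⟨v', φ', hp', ht'⟩ := exists_pair ht
  obtain ⟨g, hg1, hg2⟩ := exists_map_pair hp hp'
  obtain ⟨D, hD, hD1, hD2⟩ := exists_det_fix hp' hn ((g⁻¹ : GL (Fin n) F) : Matrix (Fin n) (Fin n) F).det
  have hdet : (D * (g : Matrix (Fin n) (Fin n) F)).det = 1 := by
    rw [Matrix.det_mul, hD, ← Matrix.det_mul, ← Units.val_mul, inv_mul_cancel, Units.val_one, Matrix.det_one]
  refine isConj_iff.2 ⟨⟨_, hdet⟩, mul_inv_eq_iff_eq_mul.2 (Subtype.ext ?_)⟩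
  show D * (g : Matrix (Fin n) (Fin n) F) * (s : Matrix (Fin n) (Fin n) F)
    = (t : Matrix (Fin n) (Fin n) F) * (D * (g : Matrix (Fin n) (Fin n) F))
  rw [hs', ht', mul_assoc, mul_tvMat hg1 hg2, ← mul_assoc, mul_tvMat hD1 hD2, mul_assoc]

end Cfsg.Agent.S2579
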