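import Cfsg.Statements.S2583
import Cfsg.Agent.Lib.JordanType.Glue
import Cfsg.Agent.Lib.JordanType.Parity


set_option autoImplicit false
open Cfsg

namespace Cfsg.Agent.S2583
open Cfsg.Agent.Lib Cfsg.Agent.Lib.JordanType

/-- Which unipotent Jordan types occur in a finite orthogonal group in odd characteristic: over a finite field of odd order, a unipotent matrix with Jordan block sizes d_1, …, d_t (sum n, all at least 1) is similar to an isometry of some quadratic form on F^n with non-degenerate polar form if and only if every even block size occurs an even number of times. -/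
theorem result {F : Type*} [Field F] [Fintype F] (h2 : (2 : F) ≠ 0) {n t : ℕ} (d : Fin t → ℕ) (hd : ∀ k, 1 ≤ d k) (hsum : ∑ k, d k = n) : (∃ Q : QuadraticForm F (Fin n → F), (QuadraticMap.polarBilin Q).Nondegenerate ∧ ∃ e : ((k : Fin t) × Fin (d k)) ≃ Fin n, ∃ A : ↥(Cfsg.isometryGroup F ⇑Q), IsConj (Matrix.reindex e e (Cfsg.jordanTypeMatrix d F)) ((A : Matrix.GeneralLinearGroup (Fin n) F) : Matrix (Fin n) (Fin n) F)) ↔ ∀ j : ℕ, Even j → 0 < j → Even (Finset.univ.filter (fun k : Fin t => d k = j)).card := by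
  classical
  constructor
  · rintro ⟨Q, hQ, e, A, hA⟩ j hj hj0
    obtain ⟨f, hf⟩ := intertwine_of_isConj hA
    refine even_count_of_symm hQ (fun x y => QuadraticMap.polar_comm _ _ _) h2 (fun x y => ?_)
      ((reindexCoords d e).map f hf) hj hj0
    rw [Matrix.toLin'_apply, Matrix.toLin'_apply, Matrix.sub_mulVec, Matrix.sub_mulVec, Matrix.one_mulVec,
      Matrix.one_mulVec, add_sub_cancel, add_sub_cancel]
    simp only [QuadraticMap.polarBilin_apply_apply, QuadraticMap.polar, ← Matrix.mulVec_add]
    exact congrArg₂ (· - ·) (congrArg₂ (· - ·) (A.2 (x + y) (x + y)) (A.2 x x)) (A.2 y y)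
  · intro h
    have hS : ∀ n : ℕ, ∃ S : LinearMap.BilinForm F (Fin n → F), Odd n → (∀ x y, S x y = S y x) ∧
        (∀ x, (∀ y, S x y = 0) → x = 0) ∧ (∀ x y, S (x + sh F n x) (y + sh F n y) = S x y) := by
      intro n
      by_cases hn : Odd n
      · obtain ⟨m, rfl⟩ := hn
        obtain ⟨b, hb⟩ := exists_symm_single (F := F) h2 m
        exact ⟨b, fun _ => hb⟩
      · exact ⟨0, fun h => absurd h hn⟩
    choose S hS using hS
    obtain ⟨B, hnd, hflip, hinv, -⟩ := exists_glue d (ε := (1 : F)) (one_mul 1) (fun n => Odd n)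
      (fun j hj => by
        rcases Nat.eq_zero_or_pos j with rfl | hj0
        · rw [Finset.filter_eq_empty_iff.2 fun k _ => Nat.one_le_iff_ne_zero.1 (hd k)]
          exact ⟨0, rfl⟩
        · exact h j (Nat.not_odd_iff_even.1 hj) hj0) S
      (fun n hn x y => by rw [one_mul]; exact (hS n hn).1 y x) (fun n hn => (hS n hn).2.1) (fun n hn => (hS n hn).2.2)
    have hcard : Fintype.card ((k : Fin t) × Fin (d k)) = Fintype.card (Fin n) := by
      rw [Fintype.card_sigma, Fintype.card_fin, Finset.sum_congr rfl (fun k _ => Fintype.card_fin (d k)), hsum]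
    let e := Fintype.equivOfCardEq hcard
    let φ : (Fin n → F) ≃ₗ[F] (((k : Fin t) × Fin (d k)) → F) := (LinearEquiv.funCongrLeft F F e.symm).symm
    let B' : LinearMap.BilinForm F (Fin n → F) := B.compl₁₂ φ.toLinearMap φ.toLinearMap
    let Q : QuadraticForm F (Fin n → F) := LinearMap.BilinMap.toQuadraticMap B'
    have hQ : ∀ x, Q x = B (φ x) (φ x) := fun x => rfl
    have hpol : ∀ x y, QuadraticMap.polarBilin Q x y = 2 * B (φ x) (φ y) := fun x y => by
      have hsw := hflip (φ x) (φ y)
      rw [one_mul] at hsw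
      simp only [QuadraticMap.polarBilin_apply_apply, QuadraticMap.polar, hQ, map_add, LinearMap.add_apply, hsw]
      ring
    have hsym : ∀ x y, QuadraticMap.polarBilin Q x y = QuadraticMap.polarBilin Q y x := fun x y =>
      QuadraticMap.polar_comm _ _ _
    have hl : ∀ x, (∀ y, QuadraticMap.polarBilin Q x y = 0) → x = 0 := fun x hx => φ.map_eq_zero_iff.1 (hnd _ fun z => by
      have h1 := hx (φ.symm z)
      rw [hpol, φ.apply_symm_apply, mul_eq_zero] at h1
      exact h1.resolve_left h2)
    obtain ⟨g, hg⟩ : IsUnit (Matrix.reindex e e (Cfsg.jordanTypeMatrix d F)) := by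
      rw [show Matrix.reindex e e (Cfsg.jordanTypeMatrix d F) = 1 + (Matrix.reindex e e (Cfsg.jordanTypeMatrix d F) - 1) by abel]
      exact (isNilpotent_reindex_sub_one d e).isUnit_one_add
    have hmul : ∀ v, φ ((g : Matrix (Fin n) (Fin n) F).mulVec v) = φ v + Matrix.toLin' (Cfsg.jordanTypeMatrix d F - 1) (φ v) := fun v => by
      have h1 := reindex_intertwine e (Cfsg.jordanTypeMatrix d F) (φ v)
      rw [show LinearEquiv.funCongrLeft F F e.symm (φ v) = v from (LinearEquiv.funCongrLeft F F e.symm).apply_symm_apply v,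
        Matrix.toLin'_apply (Matrix.reindex e e _)] at h1
      rw [hg, ← h1, map_sub, Matrix.toLin'_one, LinearMap.sub_apply, LinearMap.id_apply, add_sub_cancel]
      exact (LinearEquiv.funCongrLeft F F e.symm).symm_apply_apply _
    have hmem : g ∈ Cfsg.isometryGroup F ⇑Q := fun u v => by
      show Q ((g : Matrix (Fin n) (Fin n) F).mulVec u) = Q u
      rw [hQ, hQ, hmul, hinv]
    refine ⟨Q, ⟨hl, fun y hy => hl y fun x => (hsym y x).trans (hy x)⟩, e, ⟨g, hmem⟩, ?_⟩
    show IsConj _ (g : Matrix (Fin n) (Fin n) F)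
    rw [hg]

end Cfsg.Agent.S2583
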