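import Cfsg.Statements.S2585
-- import your own Cfsg.Agent.* helpers here

set_option autoImplicit false
open Cfsg

namespace Cfsg.Agent.S2585

/-- Over a finite field of characteristic two every element of the symplectic group is orthogonal for a suitable quadratic form: for each A in Sp_2m(F) there is a quadratic form Q on F^(2m) whose polar form is the alternating form defining Sp_2m(F) (so Q is non-degenerate) and which A preserves. Equivalently, for m ≥ 1, Sp_2m(F) is the union of the conjugates of its two orthogonal subgroups O⁺_2m(F) and O⁻_2m(F). -/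
theorem result {F : Type*} [Field F] [Fintype F] [CharP F 2] {m : ℕ} (A : Matrix.symplecticGroup (Fin m) F) : ∃ Q : QuadraticForm F (Fin m ⊕ Fin m → F), (∀ u v : Fin m ⊕ Fin m → F, QuadraticMap.polar ⇑Q u v = Cfsg.sympForm m F u v) ∧ ∀ v : Fin m ⊕ Fin m → F, Q ((A : Matrix (Fin m ⊕ Fin m) (Fin m ⊕ Fin m) F).mulVec v) = Q v := by
  classical
  let B : (Fin m ⊕ Fin m → F) →ₗ[F] (Fin m ⊕ Fin m → F) →ₗ[F] F :=
    LinearMap.mk₂ F (fun u v => ∑ i, u (.inl i) * v (.inr i))
      (fun x y z => by simp [add_mul, Finset.sum_add_distrib])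
      (fun c x y => by simp [Finset.mul_sum, mul_assoc])
      (fun x y z => by simp [mul_add, Finset.sum_add_distrib])
      (fun c x y => by simp [Finset.mul_sum, mul_left_comm])
  let Q₀ : QuadraticForm F (Fin m ⊕ Fin m → F) := LinearMap.BilinMap.toQuadraticMap B
  have hpol : ∀ u v, QuadraticMap.polar ⇑Q₀ u v = sympForm m F u v := by
    intro u v
    simp only [Q₀, B, LinearMap.BilinMap.polar_toQuadraticMap, LinearMap.mk₂_apply, sympForm,
      Matrix.J, Matrix.fromBlocks_mulVec, dotProduct, Fintype.sum_sum_type, Matrix.zero_mulVec,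
      Matrix.one_mulVec, Matrix.neg_mulVec, CharTwo.neg_eq, zero_add, add_zero, Function.comp_def,
      Sum.elim_inl, Sum.elim_inr]
    congr 1
    all_goals refine Finset.sum_congr rfl fun i _ => ?_
    all_goals simp [CharTwo.neg_eq, mul_comm]
  obtain ⟨M, hM⟩ := A
  set L := Matrix.toLin' M with hL
  have hiso : ∀ x y, sympForm m F (L x) (L y) = sympForm m F x y := by
    intro x y
    rw [hL, Matrix.toLin'_apply, Matrix.toLin'_apply]
    unfold sympForm
    rw [← Matrix.vecMul_transpose, Matrix.mulVec_mulVec, ← Matrix.dotProduct_mulVec, Matrix.mulVec_mulVec,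
      ← Matrix.mul_assoc, SymplecticGroup.mem_iff'.1 hM]
  haveI : ExpChar F 2 := ExpChar.prime Nat.prime_two
  haveI : PerfectRing F 2 := PerfectRing.ofFiniteOfIsReduced 2 F
  let a : (Fin m ⊕ Fin m → F) →ₗ[F] F :=
    { toFun := fun v => (frobeniusEquiv F 2).symm (Q₀ (L v) + Q₀ v)
      map_add' := fun u v => by
        rw [← map_add (frobeniusEquiv F 2).symm]
        congr 1
        rw [map_add, QuadraticMap.map_add Q₀, QuadraticMap.map_add Q₀ u v, hpol, hpol, hiso]
        have h2 : sympForm m F u v + sympForm m F u v = 0 := CharTwo.add_self_eq_zero _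
        linear_combination h2
      map_smul' := fun c v => by
        apply (frobeniusEquiv F 2).injective
        simp only [RingEquiv.apply_symm_apply, RingHom.id_apply, smul_eq_mul, map_mul,
          frobeniusEquiv_apply, frobenius_def]
        rw [map_smul, QuadraticMap.map_smul, QuadraticMap.map_smul, smul_eq_mul, smul_eq_mul]
        ring }
  have hker : LinearMap.ker (L - 1) ≤ LinearMap.ker a := by
    intro v hv
    rw [LinearMap.mem_ker, LinearMap.sub_apply, Module.End.one_apply, sub_eq_zero] at hv
    rw [LinearMap.mem_ker]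
    show (frobeniusEquiv F 2).symm (Q₀ (L v) + Q₀ v) = 0
    rw [hv, CharTwo.add_self_eq_zero, map_zero]
  obtain ⟨l, hl⟩ : ∃ l : (Fin m ⊕ Fin m → F) →ₗ[F] F, l.comp (L - 1) = a := by
    have : a ∈ LinearMap.range (L - 1).dualMap := by
      rw [LinearMap.range_dualMap_eq_dualAnnihilator_ker, Submodule.mem_dualAnnihilator]
      exact fun w hw => LinearMap.mem_ker.1 (hker hw)
    obtain ⟨l, hl⟩ := this
    exact ⟨l, hl⟩
  refine ⟨Q₀ + QuadraticMap.linMulLin l l, fun u v => ?_, fun v => ?_⟩
  · simp only [QuadraticMap.polar, QuadraticMap.coeFn_add, Pi.add_apply]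
    have h1 := hpol u v
    rw [QuadraticMap.polar] at h1
    simp only [QuadraticMap.linMulLin_apply, map_add]
    have h2 : l u * l v + l v * l u = 0 := by rw [mul_comm (l u), CharTwo.add_self_eq_zero]
    linear_combination h1 + h2
  · show Q₀ (M.mulVec v) + _ = Q₀ v + _
    simp only [QuadraticMap.linMulLin_apply]
    rw [← Matrix.toLin'_apply, ← hL]
    have h1 : l (L v) = l v + a v := by
      rw [← hl]
      simp
    have h2 : a v * a v = Q₀ (L v) + Q₀ v := by
      rw [← sq]
      exact frobeniusEquiv_symm_pow_p F 2 _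
    have h3 : l v * a v + a v * l v = 0 := by rw [mul_comm (l v), CharTwo.add_self_eq_zero]
    have h4 : Q₀ (L v) + Q₀ (L v) = 0 := CharTwo.add_self_eq_zero _
    rw [h1]
    linear_combination h2 + h3 + h4

end Cfsg.Agent.S2585
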