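import Cfsg.Statements.S2584
import Cfsg.Agent.Lib.JordanType.Symp
import Cfsg.Agent.S2585


set_option autoImplicit false
open Cfsg

namespace Cfsg.Agent.S2584
open Cfsg.Agent.Lib Cfsg.Agent.Lib.JordanType

/-- Which unipotent Jordan types occur in a finite orthogonal group in characteristic two: over a finite field of characteristic 2 and in even dimension 2m, a unipotent matrix with Jordan block sizes d_1, …, d_t (sum 2m, all at least 1) is similar to an isometry of some quadratic form on F^(2m) with non-degenerate polar form if and only if every odd block size occurs an even number of times (the same condition as for the symplectic group, which contains these orthogonal groups). -/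
theorem result {F : Type*} [Field F] [Fintype F] [CharP F 2] {m t : ℕ} (d : Fin t → ℕ) (hd : ∀ k, 1 ≤ d k) (hsum : ∑ k, d k = 2 * m) : (∃ Q : QuadraticForm F (Fin (2 * m) → F), (QuadraticMap.polarBilin Q).Nondegenerate ∧ ∃ e : ((k : Fin t) × Fin (d k)) ≃ Fin (2 * m), ∃ A : ↥(Cfsg.isometryGroup F ⇑Q), IsConj (Matrix.reindex e e (Cfsg.jordanTypeMatrix d F)) ((A : Matrix.GeneralLinearGroup (Fin (2 * m)) F) : Matrix (Fin (2 * m)) (Fin (2 * m)) F)) ↔ ∀ j : ℕ, Odd j → Even (Finset.univ.filter (fun k : Fin t => d k = j)).card := by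
  classical
  constructor
  · rintro ⟨Q, hQ, e, A, hA⟩ j hj
    obtain ⟨f, hf⟩ := intertwine_of_isConj hA
    refine even_count_of_alt hQ (fun x => ?_) (fun x y => ?_) ((reindexCoords d e).map f hf) hj
    · rw [QuadraticMap.polarBilin_apply_apply, QuadraticMap.polar_self, two_smul, CharTwo.add_self_eq_zero]
    rw [Matrix.toLin'_apply, Matrix.toLin'_apply, Matrix.sub_mulVec, Matrix.sub_mulVec, Matrix.one_mulVec,
      Matrix.one_mulVec, add_sub_cancel, add_sub_cancel]
    simp only [QuadraticMap.polarBilin_apply_apply, QuadraticMap.polar, ← Matrix.mulVec_add]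
    exact congrArg₂ (· - ·) (congrArg₂ (· - ·) (A.2 (x + y) (x + y)) (A.2 x x)) (A.2 y y)
  · intro h
    obtain ⟨e, A, hA⟩ := (exists_sp_iff (F := F) d hsum).2 h
    obtain ⟨Q, hpol, hQA⟩ := Cfsg.Agent.S2585.result A
    let σ : Fin m ⊕ Fin m ≃ Fin (2 * m) := finSumFinEquiv.trans (finCongr (two_mul m).symm)
    let φ : (Fin (2 * m) → F) ≃ₗ[F] (Fin m ⊕ Fin m → F) := LinearEquiv.funCongrLeft F F σ
    let Q' : QuadraticForm F (Fin (2 * m) → F) := Q.comp φ.toLinearMap
    have hQ' : ∀ x, Q' x = Q (φ x) := fun x => rfl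
    have hpolB : ∀ x y, QuadraticMap.polarBilin Q' x y = Symplectic.stdForm m F (φ x) (φ y) := fun x y => by
      simp only [QuadraticMap.polarBilin_apply_apply, QuadraticMap.polar, hQ', map_add, Symplectic.stdForm_eq_sympForm, ← hpol]
    have hsf : Symplectic.IsSympForm (Symplectic.stdForm m F) := Symplectic.isSympForm_stdForm m F
    have hl : ∀ x, (∀ y, QuadraticMap.polarBilin Q' x y = 0) → x = 0 := fun x hx =>
      φ.map_eq_zero_iff.1 (hsf.nondeg _ fun z => by rw [← φ.apply_symm_apply z, ← hpolB]; exact hx _)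
    let M := Matrix.reindex σ σ (A : Matrix (Fin m ⊕ Fin m) (Fin m ⊕ Fin m) F)
    have hIC : IsConj (Matrix.reindex (e.trans σ) (e.trans σ) (Cfsg.jordanTypeMatrix d F)) M := by
      have h1 := (Matrix.reindexAlgEquiv F F σ).toMonoidHom.map_isConj hA
      exact h1
    obtain ⟨g, hg⟩ : IsUnit M :=
      (IsUnit.of_mul_eq_one ((A⁻¹ : Matrix.symplecticGroup (Fin m) F) : Matrix (Fin m ⊕ Fin m) (Fin m ⊕ Fin m) F)
        (congrArg Subtype.val (mul_inv_cancel A))).map (Matrix.reindexAlgEquiv F F σ)
    have hmem : g ∈ Cfsg.isometryGroup F ⇑Q' := fun u v => by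
      show Q' ((g : Matrix (Fin (2 * m)) (Fin (2 * m)) F).mulVec u) = Q' u
      rw [hQ', hQ', ← hQA (φ u), hg]
      congr 1
      funext i
      show (M.mulVec u) (σ i) = _
      simp only [M, Matrix.reindex_apply, Matrix.submatrix_mulVec_equiv, Function.comp_apply, Equiv.symm_apply_apply]
      rfl
    refine ⟨Q', ⟨hl, fun y hy => hl y fun x => (QuadraticMap.polar_comm _ _ _).trans (hy x)⟩, e.trans σ, ⟨g, hmem⟩, ?_⟩
    show IsConj _ (g : Matrix (Fin (2 * m)) (Fin (2 * m)) F)
    rw [hg]
    exact hIC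

end Cfsg.Agent.S2584
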