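import Cfsg.Statements.S2589
import Cfsg.Agent.Lib.SemisimpleConj
import Cfsg.Agent.Lib.Symplectic.Std
import Cfsg.Agent.Lib.Forms.Quad

set_option autoImplicit false
open Cfsg

namespace Cfsg.Agent.S2589
open Cfsg.Agent.Lib

/-- Two semisimple elements of the finite symplectic group Sp_2m(F) (elements of order prime to the characteristic) are conjugate in Sp_2m(F) if and only if they are conjugate in GL_2m(F). -/
theorem result {F : Type*} [Field F] [Fintype F] {p : ℕ} [Fact p.Prime] [CharP F p] {m : ℕ} (A B : Matrix.symplecticGroup (Fin m) F) (hA : (orderOf A).Coprime p) : IsConj A B ↔ IsConj (A : Matrix (Fin m ⊕ Fin m) (Fin m ⊕ Fin m) F) (B : Matrix (Fin m ⊕ Fin m) (Fin m ⊕ Fin m) F) := by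
  classical
  refine ⟨fun h => ?_, fun h => ?_⟩
  · obtain ⟨c, hc⟩ := isConj_iff.1 h
    exact ⟨⟨(c : Matrix (Fin m ⊕ Fin m) (Fin m ⊕ Fin m) F), ((c⁻¹ : Matrix.symplecticGroup (Fin m) F) : Matrix (Fin m ⊕ Fin m) (Fin m ⊕ Fin m) F),
      congrArg Subtype.val (mul_inv_cancel c), congrArg Subtype.val (inv_mul_cancel c)⟩,
      congrArg Subtype.val (mul_inv_eq_iff_eq_mul.1 hc)⟩
  obtain ⟨g, hg⟩ := h
  let V := Fin m ⊕ Fin m → F
  let Bs := Symplectic.stdForm m F
  have hB : Symplectic.IsSympForm Bs := Symplectic.isSympForm_stdForm m F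
  let e : V ≃ₗ[F] V := Forms.glEquiv g
  have he : ∀ x, e x = (g : Matrix (Fin m ⊕ Fin m) (Fin m ⊕ Fin m) F).mulVec x := fun x => Forms.glEquiv_apply g x
  let a : Module.End F V := Matrix.toLinAlgEquiv' (A : Matrix (Fin m ⊕ Fin m) (Fin m ⊕ Fin m) F)
  let a' : Module.End F V := Matrix.toLinAlgEquiv' (B : Matrix (Fin m ⊕ Fin m) (Fin m ⊕ Fin m) F)
  have ha : ∀ x, a x = (A : Matrix (Fin m ⊕ Fin m) (Fin m ⊕ Fin m) F).mulVec x := fun x => Matrix.toLinAlgEquiv'_apply _ x
  have ha' : ∀ x, a' x = (B : Matrix (Fin m ⊕ Fin m) (Fin m ⊕ Fin m) F).mulVec x := fun x => Matrix.toLinAlgEquiv'_apply _ x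
  have hiso : ∀ (C : Matrix.symplecticGroup (Fin m) F) (x y : V),
      Bs ((C : Matrix (Fin m ⊕ Fin m) (Fin m ⊕ Fin m) F).mulVec x) ((C : Matrix (Fin m ⊕ Fin m) (Fin m ⊕ Fin m) F).mulVec y) = Bs x y :=
    fun C x y => Symplectic.mem_sp_iff.1 C.2 x y
  have hN : (orderOf A : F) ≠ 0 := by
    rw [Ne, CharP.cast_eq_zero_iff F p]
    exact ((Fact.out : p.Prime).coprime_iff_not_dvd).1 hA.symm
  have hpow : a ^ orderOf A = 1 := by
    rw [← map_pow, ← SubmonoidClass.coe_pow, pow_orderOf_eq_one]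
    exact map_one _
  obtain ⟨H, hS, hH⟩ := SemisimpleConj.exists_setup (B := Bs) (A := a) (A' := a') (ε := -1)
    (fun y hy => hB.nondeg y fun x => by rw [hB.swap, hy x, neg_zero])
    (fun x y => by rw [hB.swap y x, neg_one_mul])
    (fun x y => by rw [ha, ha]; exact hiso A x y) (fun x y => by rw [ha', ha']; exact hiso B x y) hpow hN e
    (fun x => by
      rw [ha, ha', he, he, Matrix.mulVec_mulVec, Matrix.mulVec_mulVec]
      exact congrArg (fun M => Matrix.mulVec M x) hg.eq)
  -- symplectic solution on a piece where `A` is scalar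
  have hscalar : ∀ {W : Type _} [AddCommGroup W] [Module F W] [FiniteDimensional F W]
      (B1 : W →ₗ[F] W →ₗ[F] F) (A1 H1 : Module.End F W) (N : ℕ) (c : F),
      SemisimpleConj.Setup B1 A1 H1 N → (∀ x, B1 x x = 0) → (∀ x, B1 x (H1 x) = 0) → (∀ x, A1 x = c • x) →
      ∃ b : Module.End F W, Commute b A1 ∧ ∀ x y, B1 (b x) (b y) = B1 x (H1 y) := by
    intro W _ _ _ B1 A1 H1 N c hs h0 h1 hc
    have hf1 : Symplectic.IsSympForm B1 := ⟨h0, fun x hx => hs.nondeg x fun y => hs.refl _ _ (hx y)⟩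
    have hf2 : Symplectic.IsSympForm (B1.compl₂ H1) :=
      ⟨h1, fun x hx => hs.inj ((hs.nondeg _ fun y => hs.refl _ _ (by rw [hs.selfAdj]; exact hx y)).trans (map_zero H1).symm)⟩
    obtain ⟨b, hb⟩ := Symplectic.exists_isometry hf2 hf1 rfl
    exact ⟨b.toLinearMap, LinearMap.ext fun x => by simp [hc], hb⟩
  have hH0 : ∀ x, Bs x (H x) = 0 := fun x => by rw [hH]; exact hB.self _
  have hC : ∀ x y, Bs ((a * a) x) ((a * a) y) = Bs x y := fun x y => by
    rw [Module.End.mul_apply, Module.End.mul_apply, hS.iso, hS.iso]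
  have hCN : (a * a) ^ orderOf A = 1 := by rw [(Commute.refl a).mul_pow, hpow, one_mul]
  have hAC : Commute a (a * a) := (Commute.refl a).mul_right (Commute.refl a)
  have hHC : Commute H (a * a) := hS.comm.mul_right hS.comm
  have hcpl := SemisimpleConj.isCompl_fixed hCN hN
  obtain ⟨b, hba, hb⟩ := SemisimpleConj.glue hS hC hCN hAC hHC (by
      -- the part where `A ^ 2 = 1`
      set W := LinearMap.ker (a * a - 1)
      have hS0 := hS.restrict (W := W) hcpl (fun w hw r hr => SemisimpleConj.perp_fixed_image hC hw hr)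
        (SemisimpleConj.invariant_ker hAC) (SemisimpleConj.invariant_ker hHC)
      obtain ⟨b, h1, h2⟩ := SemisimpleConj.glue hS0 (C := a.restrict (SemisimpleConj.invariant_ker hAC))
        hS0.iso hS0.pow (Commute.refl _) hS0.comm
        (by
          obtain ⟨b, h1, h2⟩ := hscalar _ _ _ _ (1 : F) (hS0.restrict (SemisimpleConj.isCompl_fixed hS0.pow hN)
            (fun w hw r hr => SemisimpleConj.perp_fixed_image hS0.iso hw hr)
            (SemisimpleConj.invariant_ker (Commute.refl _)) (SemisimpleConj.invariant_ker hS0.comm))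
            (fun x => hB.self _) (fun x => hH0 _) (fun x => by
              rw [one_smul]; exact Subtype.ext (sub_eq_zero.1 (LinearMap.mem_ker.1 x.2)))
          exact ⟨b, h1, fun x y => h2 x y⟩)
        (by
          obtain ⟨b, h1, h2⟩ := hscalar _ _ _ _ (-1 : F) (hS0.restrict (SemisimpleConj.isCompl_fixed hS0.pow hN).symm
            (fun r hr w hw => hS0.refl _ _ (SemisimpleConj.perp_fixed_image hS0.iso hw hr))
            (SemisimpleConj.invariant_range (Commute.refl _)) (SemisimpleConj.invariant_range hS0.comm))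
            (fun x => hB.self _) (fun x => hH0 _) (fun x => by
              obtain ⟨z, hz⟩ := x.2
              refine Subtype.ext (Subtype.ext ?_)
              have h2 : a (a z.1) = z.1 := sub_eq_zero.1 (LinearMap.mem_ker.1 z.2)
              have hx : x.1.1 = a z.1 - z.1 := by rw [← hz]; rfl
              show a x.1.1 = (-1 : F) • x.1.1
              rw [hx, map_sub, h2, neg_one_smul, neg_sub])
          exact ⟨b, h1, fun x y => h2 x y⟩)
      exact ⟨b, h1, h2⟩)
    (by
      have hS1 := hS.restrict (W := LinearMap.range (a * a - 1)) hcpl.symm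
        (fun r hr w hw => hS.refl _ _ (SemisimpleConj.perp_fixed_image hC hw hr))
        (SemisimpleConj.invariant_range hAC) (SemisimpleConj.invariant_range hHC)
      obtain ⟨b, h1, h2⟩ := SemisimpleConj.exists_of_no_fixed hS1 (fun x hx => Subtype.ext
        (Submodule.disjoint_def.1 hcpl.disjoint x.1 (LinearMap.mem_ker.2 (sub_eq_zero.2 (congrArg Subtype.val hx))) x.2))
      exact ⟨b, h1, h2⟩)
  have hbinj : Function.Injective b := by
    rw [injective_iff_map_eq_zero]
    intro y hy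
    exact hS.inj ((hS.nondeg _ fun x => by rw [← hb, hy, map_zero]).trans (map_zero H).symm)
  let be : V ≃ₗ[F] V := LinearEquiv.ofInjectiveEndo b hbinj
  have hk : be.symm.trans e ∈ Symplectic.Isom Bs := fun x y => by
    obtain ⟨x, rfl⟩ := be.surjective x
    obtain ⟨y, rfl⟩ := be.surjective y
    rw [LinearEquiv.trans_apply, LinearEquiv.trans_apply, be.symm_apply_apply, be.symm_apply_apply, ← hH, ← hb]
    rfl
  refine isConj_iff.2 ⟨(Symplectic.spEquiv m F).symm ⟨_, hk⟩, mul_inv_eq_iff_eq_mul.2 (Subtype.ext (Matrix.ext_iff_mulVec.2 fun x => ?_))⟩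
  obtain ⟨x, rfl⟩ := be.surjective x
  have hab : (A : Matrix (Fin m ⊕ Fin m) (Fin m ⊕ Fin m) F).mulVec (be x) = be (a x) := by
    rw [← ha]; exact (LinearMap.congr_fun hba.eq x).symm
  simp only [Submonoid.coe_mul, ← Matrix.mulVec_mulVec, Symplectic.spEquiv_symm_mulVec]
  rw [hab]
  show e (be.symm (be (a x))) = (B : Matrix (Fin m ⊕ Fin m) (Fin m ⊕ Fin m) F).mulVec (e (be.symm (be x)))
  rw [be.symm_apply_apply, be.symm_apply_apply, ← ha', ha, ha', he, he, Matrix.mulVec_mulVec, Matrix.mulVec_mulVec]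
  exact congrArg (fun M => Matrix.mulVec M x) hg.eq

end Cfsg.Agent.S2589
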