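import Cfsg.Statements.S2591
import Cfsg.Agent.Lib.RegularUnipotentSympMatrix

set_option autoImplicit false
open Cfsg

namespace Cfsg.Agent.S2591
open Cfsg.Agent.Lib Cfsg.Agent.Lib.RegularUnipotentSymp Cfsg.Agent.Lib.Symplectic

/-- Over a finite field of odd order and for m ≥ 1, the regular unipotent elements of Sp_2m(F) (u − 1 nilpotent of rank 2m − 1, a single Jordan block) form exactly two conjugacy classes of Sp_2m(F) (one class under the similarity group, which splits in two). -/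
theorem result {F : Type*} [Field F] [Fintype F] {q : ℕ} (hF : Fintype.card F = q) (hq : Odd q) {m : ℕ} (hm : 1 ≤ m) : Nat.card {C : ConjClasses ↥(Matrix.symplecticGroup (Fin m) F) // ∃ u : Matrix.symplecticGroup (Fin m) F, ConjClasses.mk u = C ∧ ((u : Matrix (Fin m ⊕ Fin m) (Fin m ⊕ Fin m) F) - 1) ^ (2 * m) = 0 ∧ ((u : Matrix (Fin m ⊕ Fin m) (Fin m ⊕ Fin m) F) - 1).rank = 2 * m - 1} = 2 := by
  classical
  refine Eq.trans ?_ (card_classes (isSympForm_stdForm m F) (two_ne_zero_of_odd (hF ▸ hq))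
    (by rw [Nat.card_eq_fintype_card, hF]; exact hq) hm (finrank_std m F))
  let φ := spEquiv m F
  refine Nat.card_eq_of_bijective (fun C =>
    (⟨ConjClasses.map φ.toMonoidHom C.1, ?_⟩ :
      {C : ConjClasses ↥(Isom (stdForm m F)) // ∃ u : Isom (stdForm m F), ConjClasses.mk u = C ∧ IsReg u})) ⟨?_, ?_⟩
  · obtain ⟨u, hu, h1, h2⟩ := C.2
    exact ⟨φ u, by rw [← hu]; rfl, (isReg_spEquiv hm u).2 ⟨h1, h2⟩⟩
  · rintro ⟨C, u, rfl, hu⟩ ⟨D, w, rfl, hw⟩ h
    have h' := ConjClasses.mk_eq_mk_iff_isConj.1 (congrArg Subtype.val h)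
    have := φ.symm.toMonoidHom.map_isConj h'
    simp only [MulEquiv.coe_toMonoidHom, MulEquiv.symm_apply_apply] at this
    exact Subtype.ext (ConjClasses.mk_eq_mk_iff_isConj.2 this)
  · rintro ⟨C, u, rfl, hu⟩
    refine ⟨⟨ConjClasses.mk (φ.symm u), φ.symm u, rfl, (isReg_spEquiv hm _).1 (by rwa [MulEquiv.apply_symm_apply])⟩, Subtype.ext ?_⟩
    show ConjClasses.mk (φ (φ.symm u)) = _
    rw [MulEquiv.apply_symm_apply]

end Cfsg.Agent.S2591
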