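import Cfsg.Statements.S2592
import Cfsg.Agent.Lib.RegularUnipotentSympMatrix

set_option autoImplicit false
open Cfsg

namespace Cfsg.Agent.S2592
open Cfsg.Agent.Lib Cfsg.Agent.Lib.RegularUnipotentSymp Cfsg.Agent.Lib.Symplectic

/-- Over a finite field with q elements, q odd, the centraliser in Sp_2m(F) (m ≥ 1) of a regular unipotent element (u − 1 nilpotent of rank 2m − 1) has order 2 q^m. -/
theorem result {F : Type*} [Field F] [Fintype F] {q : ℕ} (hF : Fintype.card F = q) (hq : Odd q) {m : ℕ} (hm : 1 ≤ m) (u : Matrix.symplecticGroup (Fin m) F) (hnil : ((u : Matrix (Fin m ⊕ Fin m) (Fin m ⊕ Fin m) F) - 1) ^ (2 * m) = 0) (hreg : ((u : Matrix (Fin m ⊕ Fin m) (Fin m ⊕ Fin m) F) - 1).rank = 2 * m - 1) : Nat.card ↥(Subgroup.centralizer ({u} : Set ↥(Matrix.symplecticGroup (Fin m) F))) = 2 * q ^ m := by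
  classical
  obtain ⟨d, hd⟩ := exists_data (isSympForm_stdForm m F) (two_ne_zero_of_odd (hF ▸ hq)) hm (finrank_std m F)
    ((isReg_spEquiv hm u).2 ⟨hnil, hreg⟩)
  have h := d.card_centralizer hd (by rw [Nat.card_eq_fintype_card, hF]; exact hq)
  rw [Nat.card_eq_fintype_card (α := F), hF] at h
  rw [← h]
  refine Nat.card_congr ((spEquiv m F).toEquiv.subtypeEquiv fun g => ?_)
  rw [Subgroup.mem_centralizer_singleton_iff, Subgroup.mem_centralizer_singleton_iff]
  show g * u = u * g ↔ spEquiv m F g * spEquiv m F u = spEquiv m F u * spEquiv m F g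
  rw [← map_mul, ← map_mul, (spEquiv m F).injective.eq_iff]

end Cfsg.Agent.S2592
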