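import Cfsg.Statements.S2593
import Cfsg.Agent.Lib.InvolutionCount
import Cfsg.Agent.Lib.Symplectic.Std

set_option autoImplicit false
open Cfsg

namespace Cfsg.Agent.S2593
open Cfsg.Agent.Lib Cfsg.Agent.Lib.Char2Inv Cfsg.Agent.Lib.Char2Inv.Normal QuadraticMap

/-- Number of conjugacy classes of involutions in the symplectic group Sp_2m(F) over a finite field of characteristic two (m ≥ 1): for each s with 1 ≤ s ≤ m there is one class with rank(t − 1) = s if s is odd and two if s is even (according as v ↦ f(v, tv), f the symplectic form, vanishes identically or not), so m + ⌊m/2⌋ classes in all. -/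
theorem result {F : Type*} [Field F] [Fintype F] [CharP F 2] {m : ℕ} (hm : 1 ≤ m) : Nat.card {C : ConjClasses ↥(Matrix.symplecticGroup (Fin m) F) // ∃ g : Matrix.symplecticGroup (Fin m) F, ConjClasses.mk g = C ∧ orderOf g = 2} = m + m / 2 := by
  classical
  have hH := Symplectic.sympForm_isHerm (F := F) (m := m)
  have sq : ∀ x : ↥(Matrix.symplecticGroup (Fin m) F), orderOf x = 2 →
      (x : Matrix (Fin m ⊕ Fin m) (Fin m ⊕ Fin m) F) * x = 1 := by
    intro x hx
    have h := congrArg Subtype.val (pow_orderOf_eq_one x)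
    rwa [hx, pow_two] at h
  let N : ↥(Matrix.symplecticGroup (Fin m) F) → ((Fin m ⊕ Fin m → F) →ₗ[F] (Fin m ⊕ Fin m → F)) := fun A =>
    ((A : Matrix (Fin m ⊕ Fin m) (Fin m ⊕ Fin m) F) - 1).mulVecLin
  have hNA : ∀ (A : ↥(Matrix.symplecticGroup (Fin m) F)) v, (A : Matrix (Fin m ⊕ Fin m) (Fin m ⊕ Fin m) F).mulVec v = v + N A v := fun A v => by
    simp only [N, Matrix.mulVecLin_apply, Matrix.sub_mulVec, Matrix.one_mulVec]; abel
  have hsqz : ∀ A, orderOf A = 2 → IsSqZero (Cfsg.sympForm m F) (N A) := fun A h =>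
    Symplectic.sqZero_of_involution A.2 (sq A h)
  let typ : ↥(Matrix.symplecticGroup (Fin m) F) → Prop := fun A => ∀ v, Cfsg.sympForm m F v (N A v) = 0
  rw [InvolutionCount.card_classes (fun A => (Module.finrank F (LinearMap.range (N A)), decide (typ A)))
    (InvolutionCount.shapes m m) ?_ ?_ ?_, InvolutionCount.card_shapes]
  · intro A B hA hB
    constructor
    · intro h
      obtain ⟨c, hc⟩ := isConj_iff.1 h
      let G : (Fin m ⊕ Fin m → F) ≃ₗ[F] (Fin m ⊕ Fin m → F) := Cfsg.Agent.Lib.Symplectic.spLE c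
      have hG : ∀ v, G v = (c : Matrix (Fin m ⊕ Fin m) (Fin m ⊕ Fin m) F).mulVec v :=
        fun v => Cfsg.Agent.Lib.Symplectic.spLE_apply c v
      have hcomm : ∀ v, G (N A v) = N B (G v) := by
        intro v
        have h1 := congrArg (fun z : ↥(Matrix.symplecticGroup (Fin m) F) =>
          (z : Matrix (Fin m ⊕ Fin m) (Fin m ⊕ Fin m) F).mulVec v) (mul_inv_eq_iff_eq_mul.1 hc)
        simp only [Submonoid.coe_mul, ← Matrix.mulVec_mulVec] at h1
        rw [← hG, ← hG, hNA A v, hNA B (G v), map_add] at h1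
        exact add_left_cancel h1
      have hpol : ∀ u v, Cfsg.sympForm m F (G u) (G v) = Cfsg.sympForm m F u v := fun u v => by
        rw [hG, hG]; exact (Symplectic.preserves_iff _).2 c.2 u v
      refine Prod.ext ?_ (decide_eq_decide.2 ⟨fun h v => ?_, fun h v => ?_⟩)
      · show Module.finrank F _ = Module.finrank F _
        rw [← LinearEquiv.finrank_map_eq G (LinearMap.range (N A)), ← LinearMap.range_comp,
          show G.toLinearMap.comp (N A) = (N B).comp G.toLinearMap from LinearMap.ext hcomm,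
          LinearMap.range_comp_of_range_eq_top _ G.range]
      · obtain ⟨x, rfl⟩ := G.surjective v
        rw [← hcomm, hpol]; exact h x
      · rw [← hpol, hcomm]; exact h _
    · intro h
      obtain ⟨g, hiso, hg⟩ := Symplectic.exists_conj hH Symplectic.sympForm_self Symplectic.sympForm_nondeg
        (hsqz A hA) (hsqz B hB) (congrArg Prod.fst h) (decide_eq_decide.1 (congrArg Prod.snd h))
      let G : Matrix (Fin m ⊕ Fin m) (Fin m ⊕ Fin m) F := LinearMap.toMatrix' g.toLinearMap
      have hG : ∀ v, G.mulVec v = g v := fun v => LinearMap.toMatrix'_mulVec _ v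
      have hGmem : G ∈ Matrix.symplecticGroup (Fin m) F :=
        (Symplectic.preserves_iff G).1 fun u v => by rw [hG, hG]; exact hiso u v
      refine isConj_iff.2 ⟨⟨G, hGmem⟩, mul_inv_eq_iff_eq_mul.2 (Subtype.ext ?_)⟩
      show G * (A : Matrix (Fin m ⊕ Fin m) (Fin m ⊕ Fin m) F) = (B : Matrix (Fin m ⊕ Fin m) (Fin m ⊕ Fin m) F) * G
      refine Matrix.ext_iff_mulVec.2 fun v => ?_
      rw [← Matrix.mulVec_mulVec, ← Matrix.mulVec_mulVec, hG, hG, hNA, hNA, map_add, hg]
  · intro A hA
    have h2 : Module.finrank F (LinearMap.range (N A)) ≤ m := by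
      have hle : LinearMap.range (N A) ≤ LinearMap.ker (N A) := by
        rintro _ ⟨x, rfl⟩; exact (hsqz A hA).sq x
      have h1 := Submodule.finrank_mono hle
      have h2 := LinearMap.finrank_range_add_finrank_ker (N A)
      rw [Module.finrank_fintype_fun_eq_card, Fintype.card_sum, Fintype.card_fin] at h2
      omega
    have h1 : 1 ≤ Module.finrank F (LinearMap.range (N A)) := by
      rw [Nat.one_le_iff_ne_zero]
      intro h0
      rw [Submodule.finrank_eq_zero, LinearMap.range_eq_bot] at h0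
      have : A = 1 := Subtype.ext (Matrix.ext_iff_mulVec.2 fun x => by
        rw [hNA, h0, LinearMap.zero_apply, add_zero]
        exact (Matrix.one_mulVec x).symm)
      rw [this, orderOf_one] at hA
      exact absurd hA (by norm_num)
    rw [InvolutionCount.mem_shapes]
    by_cases h : typ A
    · exact Or.inr ⟨decide_eq_true h, Symplectic.even_rank_of_alt hH Symplectic.sympForm_self (hsqz A hA)
        Symplectic.sympForm_nondeg h, h1, h2⟩
    · exact Or.inl ⟨decide_eq_false h, h1, h2⟩
  · rintro ⟨s, b⟩ hsb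
    obtain ⟨M, hsq, hI, hr, hty⟩ := InvolutionCount.exists_model (F := F) hsb
    have hs1 : 1 ≤ s := by rcases InvolutionCount.mem_shapes.1 hsb with h | h <;> omega
    have hpol : ∀ u v, polar (Forms.qPlus m) u v = Cfsg.sympForm m F u v := fun u v => by
      rw [← Cfsg.Agent.Lib.Symplectic.stdForm_eq_sympForm, Cfsg.Agent.Lib.Symplectic.stdForm_apply,
        Forms.qPlus_polar]
      exact Finset.sum_congr rfl fun i _ => by
        rw [CharTwo.sub_eq_add]; ring
    obtain ⟨t, ht2, htN⟩ := InvolutionCount.exists_involution (Forms.qPlus m) (OrthMatrix.quadFormPlus_eq m) hsq hI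
      (fun h0 => by rw [h0, LinearMap.range_zero, finrank_bot] at hr; omega)
    set T : Matrix (Fin m ⊕ Fin m) (Fin m ⊕ Fin m) F := ((t : GL (Fin m ⊕ Fin m) F) : Matrix (Fin m ⊕ Fin m) (Fin m ⊕ Fin m) F) with hT
    have hTmem : T ∈ Matrix.symplecticGroup (Fin m) F := (Symplectic.preserves_iff T).1 fun u v => by
      rw [← hpol, ← hpol]
      exact Forms.polar_map T.mulVecLin (fun x => by
        rw [Matrix.mulVecLin_apply, ← OrthMatrix.quadFormPlus_eq, ← OrthMatrix.quadFormPlus_eq]; exact t.2 x x) u v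
    have hN : N ⟨T, hTmem⟩ = M := htN
    refine ⟨⟨T, hTmem⟩, orderOf_eq_prime (Subtype.ext ?_) (fun h => ?_), ?_⟩
    · have := congrArg (fun z : ↥(Cfsg.isometryGroup F (Cfsg.quadFormPlus m F)) =>
        ((z : GL (Fin m ⊕ Fin m) F) : Matrix (Fin m ⊕ Fin m) (Fin m ⊕ Fin m) F)) (ht2 ▸ pow_orderOf_eq_one t)
      exact this
    · have h0 : M = 0 := by
        rw [← hN, h]; simp [N]
      rw [h0, LinearMap.range_zero, finrank_bot] at hr
      omega
    · refine Prod.ext ((congrArg (fun L => Module.finrank F (LinearMap.range L)) hN).trans hr) (Bool.eq_iff_iff.2 ?_)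
      simp only [typ, hN, decide_eq_true_iff, ← hpol]
      exact hty

end Cfsg.Agent.S2593
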