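import Cfsg.Statements.S2594
import Cfsg.Agent.Lib.Symplectic.Std

set_option autoImplicit false
open Cfsg

namespace Cfsg.Agent.S2594
open Cfsg.Agent.Lib.Symplectic

/-- Over a finite field with q elements, q even, an element t of Sp_2m(F) with rank(t − 1) = 1 (a symplectic transvection) has centraliser in Sp_2m(F) of order q^(2m−1) · |Sp_(2m−2)(q)| = q^(2m−1) · q^((m−1)²) · Π_(i=1)^(m−1) (q^(2i) − 1). -/
theorem result {F : Type*} [Field F] [Fintype F] [CharP F 2] {q : ℕ} (hF : Fintype.card F = q) {m : ℕ} (hm : 1 ≤ m) (t : Matrix.symplecticGroup (Fin m) F) (ht : ((t : Matrix (Fin m ⊕ Fin m) (Fin m ⊕ Fin m) F) - 1).rank = 1) : Nat.card ↥(Subgroup.centralizer ({t} : Set ↥(Matrix.symplecticGroup (Fin m) F))) = q ^ (2 * m - 1) * (q ^ ((m - 1) ^ 2) * ∏ i : Fin (m - 1), (q ^ (2 * ((i : ℕ) + 1)) - 1)) := by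
  classical
  have hB : IsSympForm (stdForm m F) := isSympForm_stdForm m F
  have hq : 2 ≤ q := hF ▸ Fintype.one_lt_card
  have h2 : ∀ x : F, -x = x := CharTwo.neg_eq
  -- the transvection as an isometry
  set T : Isom (stdForm m F) := spEquiv m F t with hT
  set M : Matrix (Fin m ⊕ Fin m) (Fin m ⊕ Fin m) F := (t : Matrix (Fin m ⊕ Fin m) (Fin m ⊕ Fin m) F) - 1 with hM
  obtain ⟨⟨a, ha⟩, ha0, hspan⟩ := (finrank_eq_one_iff' (K := F) (V := LinearMap.range M.mulVecLin)).1 ht
  have ha0' : a ≠ 0 := fun h => ha0 (Subtype.ext h)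
  have hTx : ∀ x, ∃ c : F, T • x = x + c • a := by
    intro x
    obtain ⟨c, hc⟩ := hspan ⟨M.mulVecLin x, LinearMap.mem_range_self _ x⟩
    refine ⟨c, ?_⟩
    have := congrArg Subtype.val hc
    simp only [Submodule.coe_smul, Matrix.mulVecLin_apply, hM, Matrix.sub_mulVec, Matrix.one_mulVec] at this
    rw [this, hT, spEquiv_smul, add_sub_cancel]
  choose f hf using hTx
  obtain ⟨y0, hy0⟩ := hB.exists_eq_one ha0'
  have hfl : ∀ x, f x = f (-y0) * stdForm m F x a := by
    intro x
    have h := isom_apply_smul T (-y0) x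
    rw [hf, hf] at h
    simp only [map_add, map_smul, map_neg, LinearMap.add_apply, LinearMap.smul_apply, LinearMap.neg_apply,
      smul_eq_mul, hB.self, hB.swap y0 a, hy0, hB.swap a x] at h
    linear_combination h
  obtain ⟨s, hs⟩ := FiniteField.isSquare_of_char_two (ringChar.eq F 2) (f (-y0))
  have hTs : T = transv hB (s • a) 1 := by
    apply isom_ext; intro x
    rw [hf, hfl, transv_vec_smul, transv_smul, hs]
    ring_nf
  have hsa : s • a ≠ 0 := by
    refine smul_ne_zero (fun h0 => ?_) ha0'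
    obtain ⟨x, hx⟩ : ∃ x, M.mulVecLin x ≠ 0 := by
      obtain ⟨x, hx⟩ := ha
      exact ⟨x, hx ▸ ha0'⟩
    apply hx
    have h1 := hf x
    rw [hfl, hs, h0, mul_zero, zero_mul, zero_smul, add_zero, hT, spEquiv_smul] at h1
    rw [Matrix.mulVecLin_apply, hM, Matrix.sub_mulVec, Matrix.one_mulVec, h1, sub_self]
  have hinj : ∀ b c : Fin m ⊕ Fin m → F, b ≠ 0 → transv hB b 1 = transv hB c 1 → c = b := by
    intro b c hb h
    obtain ⟨y, hy⟩ := hB.exists_eq_one hb
    have h1 := congrArg (fun g : Isom (stdForm m F) => g • y) h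
    simp only [transv_smul, one_mul, hB.swap y b, hy, neg_smul, one_smul] at h1
    have hb' : b = (-(stdForm m F y c)) • c := by
      have := add_left_cancel h1
      rw [neg_smul, ← this, neg_neg]
    set r := -(stdForm m F y c)
    obtain ⟨z, hz⟩ := hB.exists_eq_one (show c ≠ 0 by rintro rfl; rw [smul_zero] at hb'; exact hb hb')
    have h2' := congrArg (fun g : Isom (stdForm m F) => g • z) h
    rw [hb', transv_vec_smul] at h2'
    simp only [transv_smul, one_mul, mul_one, hB.swap z c, hz] at h2'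
    have h3 : r ^ 2 * -1 = (-1 : F) :=
      smul_left_injective F (show c ≠ 0 by rintro rfl; rw [smul_zero] at hb'; exact hb hb') (add_left_cancel h2')
    have h4 : r ^ 2 = 1 := by linear_combination -h3
    have hr : r = 1 := by
      rcases sq_eq_one_iff.1 h4 with h5 | h5
      · exact h5
      · rw [h5, h2]
    rw [hb', hr, one_smul]
  have hcen : Subgroup.centralizer ({t} : Set ↥(Matrix.symplecticGroup (Fin m) F)) =
      (MulAction.stabilizer (Isom (stdForm m F)) (s • a)).comap (spEquiv m F).toMonoidHom := by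
    ext g
    rw [Subgroup.mem_centralizer_singleton_iff, Subgroup.mem_comap, MulAction.mem_stabilizer_iff]
    show g * t = t * g ↔ spEquiv m F g • (s • a) = s • a
    rw [← (spEquiv m F).injective.eq_iff, map_mul, map_mul, ← hT, hTs, ← mul_inv_eq_iff_eq_mul, transv_conj]
    exact ⟨fun h => hinj _ _ hsa h.symm, fun h => by rw [h]⟩
  have horb : MulAction.orbit (Isom (stdForm m F)) (s • a) = {x | x ≠ 0} := by
    ext x
    constructor
    · rintro ⟨g, rfl⟩; exact isom_smul_ne_zero g hsa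
    · intro hx
      exact exists_smul_eq_of_ne_zero hB hsa hx
  have hstab : Nat.card ↥(Subgroup.centralizer ({t} : Set ↥(Matrix.symplecticGroup (Fin m) F))) =
      Nat.card ↥(MulAction.stabilizer (Isom (stdForm m F)) (s • a)) := by
    rw [hcen]
    exact Nat.card_congr (Equiv.subtypeEquiv (spEquiv m F).toEquiv fun g => Iff.rfl)
  rw [hstab]
  have hidx := (MulAction.stabilizer (Isom (stdForm m F)) (s • a)).card_mul_index
  rw [MulAction.index_stabilizer, horb, card_isom hB (Nat.card_eq_fintype_card.trans hF) (finrank_std m F)] at hidx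
  have hv : Set.ncard {x : Fin m ⊕ Fin m → F | x ≠ 0} = q ^ (2 * m) - 1 := by
    rw [show {x : Fin m ⊕ Fin m → F | x ≠ 0} = ({0} : Set (Fin m ⊕ Fin m → F))ᶜ from rfl, Set.ncard_compl,
      Set.ncard_singleton, Nat.card_fun, Nat.card_eq_fintype_card, hF, Nat.card_eq_fintype_card, Fintype.card_sum,
      Fintype.card_fin, two_mul]
  rw [hv] at hidx
  obtain ⟨k, rfl⟩ : ∃ k, m = k + 1 := ⟨m - 1, by omega⟩
  rw [Finset.prod_range_succ] at hidx
  rw [Nat.add_sub_cancel, Fin.prod_univ_eq_prod_range (fun i => q ^ (2 * (i + 1)) - 1) k, ← mul_assoc, ← pow_add,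
    show 2 * (k + 1) - 1 = 2 * k + 1 by omega, show 2 * k + 1 + k ^ 2 = (k + 1) ^ 2 by ring]
  refine Nat.eq_of_mul_eq_mul_right (Nat.sub_pos_of_lt (Nat.one_lt_pow (by omega) (by omega)) : 0 < q ^ (2 * (k + 1)) - 1) ?_
  rw [hidx, mul_assoc]

end Cfsg.Agent.S2594
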