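import Cfsg.Statements.S2595
import Cfsg.Agent.Lib.InvolutionCount

set_option autoImplicit false
open Cfsg

namespace Cfsg.Agent.S2595
open Cfsg.Agent.Lib Cfsg.Agent.Lib.Char2Inv QuadraticMap

/-- Number of conjugacy classes of involutions in the full orthogonal group O⁺_2m(F) of the hyperbolic quadratic form Σ x_i y_i over a finite field of characteristic two (m ≥ 1): one class for each odd s ≤ m and two for each even s with 2 ≤ s ≤ m, where s = rank(t − 1); in all m + ⌊m/2⌋. -/
theorem result {F : Type*} [Field F] [Fintype F] [CharP F 2] {m : ℕ} (hm : 1 ≤ m) : Nat.card {C : ConjClasses ↥(Cfsg.isometryGroup F (Cfsg.quadFormPlus m F)) // ∃ g : ↥(Cfsg.isometryGroup F (Cfsg.quadFormPlus m F)), ConjClasses.mk g = C ∧ orderOf g = 2} = m + m / 2 := by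
  classical
  have hf : ∀ v, Cfsg.quadFormPlus m F v = Forms.qPlus m v := OrthMatrix.quadFormPlus_eq m
  have hdim : Fintype.card (Fin m ⊕ Fin m) = 2 * m := by simp [two_mul]
  rw [InvolutionCount.card_classes (InvolutionCount.inv (Forms.qPlus m)) (InvolutionCount.shapes m m)
    (fun t s ht hs => InvolutionCount.isConj_iff_inv _ hf (Forms.qPlus_nondeg m) ht hs)
    (fun t ht => InvolutionCount.inv_mem _ hf (Forms.qPlus_nondeg m) hdim ht) ?_, InvolutionCount.card_shapes]
  rintro ⟨s, b⟩ hsb
  obtain ⟨N, hsq, hI, hr, ht⟩ := InvolutionCount.exists_model (F := F) hsb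
  have hs1 : 1 ≤ s := by rcases InvolutionCount.mem_shapes.1 hsb with h | h <;> omega
  obtain ⟨t, ht2, htN⟩ := InvolutionCount.exists_involution _ hf hsq hI
    (fun h0 => by rw [h0, LinearMap.range_zero, finrank_bot] at hr; omega)
  refine ⟨t, ht2, ?_⟩
  rw [InvolutionCount.inv, htN, hr]
  exact Prod.ext rfl (Bool.eq_iff_iff.2 (by simpa using ht))

end Cfsg.Agent.S2595
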