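import Cfsg.Statements.S2596
import Cfsg.Agent.Lib.InvolutionCount

set_option autoImplicit false
open Cfsg

namespace Cfsg.Agent.S2596
open Cfsg.Agent.Lib Cfsg.Agent.Lib.Char2Inv QuadraticMap

/-- Number of conjugacy classes of involutions in the full orthogonal group O⁻_2m(F) of an elliptic quadratic form (Σ_(i<m−1) x_i y_i plus an anisotropic binary form) over a finite field of characteristic two (m ≥ 1): one class for each odd s ≤ m, two for each even s with 2 ≤ s < m and one for s = m when m is even, where s = rank(t − 1); in all m + ⌊(m − 1)/2⌋. -/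
theorem result {F : Type*} [Field F] [Fintype F] [CharP F 2] {m : ℕ} (hm : 1 ≤ m) (a b : F) (hab : ∀ z₁ z₂ : F, z₁ ^ 2 + a * z₁ * z₂ + b * z₂ ^ 2 = 0 → z₁ = 0 ∧ z₂ = 0) : Nat.card {C : ConjClasses ↥(Cfsg.isometryGroup F (Cfsg.quadFormMinus (m - 1) F a b)) // ∃ g : ↥(Cfsg.isometryGroup F (Cfsg.quadFormMinus (m - 1) F a b)), ConjClasses.mk g = C ∧ orderOf g = 2} = m + (m - 1) / 2 := by
  classical
  obtain ⟨k, rfl⟩ : ∃ k, m = k + 1 := ⟨m - 1, by omega⟩
  show Nat.card {C : ConjClasses ↥(Cfsg.isometryGroup F (Cfsg.quadFormMinus k F a b)) // ∃ g : ↥(Cfsg.isometryGroup F (Cfsg.quadFormMinus k F a b)), ConjClasses.mk g = C ∧ orderOf g = 2} = k + 1 + k / 2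
  set Q := OrthMatrix.qMinus k a b with hQdef
  have hf : ∀ v, Cfsg.quadFormMinus k F a b v = Q v := OrthMatrix.qMinus_apply k a b
  have hQ : Forms.Nondeg Q := OrthMatrix.qMinus_nondeg k hab
  have hdim : Fintype.card ((Fin k ⊕ Fin k) ⊕ Fin 2) = 2 * (k + 1) := by simp; ring
  rw [InvolutionCount.card_classes (InvolutionCount.inv Q) (InvolutionCount.shapes (k + 1) k)
    (fun t s ht hs => InvolutionCount.isConj_iff_inv _ hf hQ ht hs) ?_ ?_, InvolutionCount.card_shapes]
  · intro t ht
    have h := InvolutionCount.inv_mem Q hf hQ hdim ht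
    rw [InvolutionCount.inv] at h ⊢
    rw [InvolutionCount.mem_shapes] at h ⊢
    rcases h with h | ⟨hb, he, h1, h2⟩
    · exact Or.inl h
    · refine Or.inr ⟨hb, he, h1, OrthMatrixOmega.qMinus_singular_le hab _ ?_⟩
      rintro _ ⟨x, rfl⟩
      rw [← hQdef, Orth.Q_N (OrthMatrix.nil_isometry Q hf t)]
      simp only [decide_eq_true_iff] at hb
      exact hb x
  · rintro ⟨s, β⟩ hsb
    rw [InvolutionCount.mem_shapes] at hsb
    -- coordinates
    let π : ((Fin k ⊕ Fin k) ⊕ Fin 2 → F) →ₗ[F] (Fin k ⊕ Fin k → F) := LinearMap.funLeft F F Sum.inl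
    have hπ : Function.Surjective π := LinearMap.funLeft_surjective_of_injective F F _ Sum.inl_injective
    let ι₀ : (Fin k ⊕ Fin k → F) →ₗ[F] ((Fin k ⊕ Fin k) ⊕ Fin 2 → F) :=
      { toFun := fun w => Sum.elim w 0
        map_add' := fun u w => by funext i; rcases i with i | i <;> simp
        map_smul' := fun c w => by funext i; rcases i with i | i <;> simp }
    have hQsplit : ∀ v, Q v = Forms.qPlus k (π v) +
        (v (.inr 0) ^ 2 + a * v (.inr 0) * v (.inr 1) + b * v (.inr 1) ^ 2) := fun v => by
      rw [← hf, Forms.qPlus_apply]; rfl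
    have hpol0 : ∀ v w, polar Q v (ι₀ w) = polar (Forms.qPlus k) (π v) w := fun v w => by
      simp only [polar, hQsplit, map_add, show π (ι₀ w) = w from rfl,
        show ι₀ w (.inr 0) = 0 from rfl, show ι₀ w (.inr 1) = 0 from rfl, Pi.add_apply, add_zero]
      ring
    by_cases hsk : s ≤ k
    · have hsb' : (s, β) ∈ InvolutionCount.shapes k k := by
        rw [InvolutionCount.mem_shapes]
        rcases hsb with ⟨h, h1, -⟩ | h
        · exact Or.inl ⟨h, h1, hsk⟩
        · exact Or.inr h
      obtain ⟨N, hsq, hI, hr, hty⟩ := InvolutionCount.exists_model (F := F) hsb'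
      have hs1 : 1 ≤ s := by rcases hsb with h | h <;> omega
      have hrank : Module.finrank F (LinearMap.range (ι₀.comp (N.comp π))) = s := by
        rw [LinearMap.range_comp, LinearMap.range_comp_of_range_eq_top _ (LinearMap.range_eq_top.2 hπ), ← hr]
        exact (Submodule.equivMapOfInjective ι₀ (fun u w h => funext fun i => congrFun h (.inl i)) _).symm.finrank_eq
      obtain ⟨t, ht2, htN⟩ := InvolutionCount.exists_involution Q hf (N := ι₀.comp (N.comp π))
        (fun x => by
          show ι₀ (N (π (ι₀ (N (π x))))) = 0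
          rw [show π (ι₀ (N (π x))) = N (π x) from rfl, hsq, map_zero])
        (fun x => by
          rw [hQsplit, hQsplit]
          show Forms.qPlus k (π x + N (π x)) + _ = _
          rw [hI]
          congr 1
          simp [ι₀])
        (fun h0 => by rw [h0, LinearMap.range_zero, finrank_bot] at hrank; omega)
      refine ⟨t, ht2, ?_⟩
      rw [InvolutionCount.inv, htN, hrank]
      refine Prod.ext rfl (Bool.eq_iff_iff.2 ?_)
      simp only [decide_eq_true_iff]
      refine Iff.trans ?_ hty
      constructor
      · intro h w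
        obtain ⟨v, rfl⟩ := hπ w
        rw [← hpol0]; exact h v
      · intro h v
        exact (hpol0 v _).trans (h (π v))
    · obtain ⟨rfl, hs⟩ : β = false ∧ s = k + 1 := by
        rcases hsb with ⟨h, h1, h2⟩ | ⟨-, -, -, h2⟩
        · exact ⟨h, by omega⟩
        · omega
      subst hs
      let φ : ((Fin k ⊕ Fin k) ⊕ Fin 2 → F) →ₗ[F] (Fin k → F) × F :=
        ((InvolutionCount.planeSum le_rfl).comp π).prod (a • LinearMap.proj (Sum.inr 1))
      let ψ : (Fin k → F) × F →ₗ[F] ((Fin k ⊕ Fin k) ⊕ Fin 2 → F) :=
        { toFun := fun p => Sum.elim (InvolutionCount.diagExt le_rfl p.1) ![p.2, 0]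
          map_add' := fun u w => by
            funext i; rcases i with i | i
            · simp
            · fin_cases i <;> simp
          map_smul' := fun c w => by
            funext i; rcases i with i | i
            · simp
            · fin_cases i <;> simp }
      have ha : a ≠ 0 := OrthMatrix.anisotropic_coeff_ne_zero hab
      have hφ : Function.Surjective φ := fun p => by
        obtain ⟨u, hu⟩ := InvolutionCount.planeSum_surjective (F := F) (le_refl k) p.1
        refine ⟨Sum.elim u ![0, p.2 / a], Prod.ext hu ?_⟩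
        show a * (p.2 / a) = p.2
        field_simp
      have hψ : Function.Injective ψ := fun u w h => by
        refine Prod.ext (InvolutionCount.ext0_injective le_rfl (funext fun i => congrFun h (.inl (.inl i)))) ?_
        exact congrFun h (.inr 0)
      have hrank : Module.finrank F (LinearMap.range (ψ.comp φ)) = k + 1 := by
        rw [LinearMap.range_comp_of_range_eq_top _ (LinearMap.range_eq_top.2 hφ), LinearMap.finrank_range_of_inj hψ,
          Module.finrank_prod, Module.finrank_fin_fun, Module.finrank_self]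
      have hπψ : ∀ x, π (ψ (φ x)) = InvolutionCount.oddN le_rfl (π x) := fun x => rfl
      obtain ⟨t, ht2, htN⟩ := InvolutionCount.exists_involution Q hf (N := ψ.comp φ)
        (fun x => by
          have h0 : φ (ψ (φ x)) = 0 := by
            refine Prod.ext ?_ ?_
            · funext j
              show InvolutionCount.ext0 le_rfl (φ x).1 (Fin.castLE le_rfl j) + InvolutionCount.ext0 le_rfl (φ x).1 (Fin.castLE le_rfl j) = 0
              exact CharTwo.add_self_eq_zero _
            · show a * (![(φ x).2, 0] 1) = 0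
              simp
          show ψ (φ (ψ (φ x))) = 0
          rw [h0, map_zero])
        (fun x => by
          rw [hQsplit, hQsplit, LinearMap.comp_apply, map_add, hπψ, InvolutionCount.oddN_isometry]
          congr 1
          show (x (.inr 0) + a * x (.inr 1)) ^ 2 + a * (x (.inr 0) + a * x (.inr 1)) * (x (.inr 1) + 0) +
            b * (x (.inr 1) + 0) ^ 2 = _
          linear_combination (a * x (.inr 0) * x (.inr 1) + a * a * x (.inr 1) * x (.inr 1)) * (CharTwo.two_eq_zero (R := F)))
        (fun h0 => by rw [h0, LinearMap.range_zero, finrank_bot] at hrank; omega)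
      refine ⟨t, ht2, ?_⟩
      rw [InvolutionCount.inv, htN, hrank]
      refine Prod.ext rfl ?_
      simp only [decide_eq_false_iff_not]
      intro h
      set v : (Fin k ⊕ Fin k) ⊕ Fin 2 → F := Pi.single (.inr 1) 1 with hv
      have h1 := h v
      have hI := OrthMatrix.nil_isometry Q hf t
      rw [htN] at hI
      rw [← Orth.Q_N hI, hQsplit, LinearMap.comp_apply, hπψ,
        show π v = 0 by funext i; simp [π, hv, LinearMap.funLeft_apply], map_zero, QuadraticMap.map_zero] at h1
      change (0 : F) + ((a * v (.inr 1)) ^ 2 + a * (a * v (.inr 1)) * 0 + b * 0 ^ 2) = 0 at h1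
      simp [hv, ha] at h1

end Cfsg.Agent.S2596
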