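import Cfsg.Statements.S2597
import Cfsg.Agent.Lib.InvolutionCount

set_option autoImplicit false
open Cfsg

namespace Cfsg.Agent.S2597
open Cfsg.Agent.Lib Cfsg.Agent.Lib.Char2Inv QuadraticMap Module
open Cfsg.Agent.Lib.Char2Inv.OrthMatrix (nil nil_apply nil_isometry nil_isSqZero mulVec_eq)
open Cfsg.Agent.Lib.Forms (Nondeg orth orefl refl refl_apply isoOrth isoOrth_apply dickson dicksonHom
  dickson_orefl)

section

variable {F : Type*} [Field F] [CharP F 2] [Finite F] {ι : Type} [Fintype ι] [DecidableEq ι]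
  (Q : QuadraticForm F (ι → F)) {f : (ι → F) → F} (hf : ∀ v, f v = Q v)
include hf

omit [Finite F] in
theorem dev_eq (t : ↥(Cfsg.isometryGroup F f)) : Forms.dev (isoOrth Q hf t).1 = nil t := by
  refine LinearMap.ext fun x => ?_
  rw [Forms.dev_apply, nil_apply, isoOrth_apply]

theorem mem_Omega_iff (hQ : Nondeg Q) (hn : 2 ≤ finrank F (ι → F))
    (h : (∃ a : F, a ≠ 0 ∧ a ≠ 1) ∨ finrank F (ι → F) ≠ 4) {v : ι → F} (hv : Q v ≠ 0)
    (t : ↥(Cfsg.isometryGroup F f)) : t ∈ Cfsg.Omega F f ↔ dickson Q (isoOrth Q hf t) = 0 := by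
  set D := dicksonHom hQ h
  have hD : commutator (orth Q) = D.ker := by
    have hle : commutator (orth Q) ≤ D.ker := Abelianization.commutator_subset_ker D
    have h2 := Forms.index_commutator_two hQ CharTwo.two_eq_zero hn h
    have hdvd : D.ker.index ∣ 2 := by
      have h1 := Subgroup.index_dvd_of_le hle
      rwa [h2] at h1
    have hne : D.ker.index ≠ 1 := by
      rw [Ne, Subgroup.index_eq_one]
      intro htop
      have h1 : D (orefl Q v) = 1 := MonoidHom.mem_ker.1 (htop ▸ Subgroup.mem_top _)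
      rw [Forms.dicksonHom_orefl hQ h hv] at h1
      exact absurd (Multiplicative.ofAdd.injective (h1.trans ofAdd_zero.symm)) (by decide)
    have hk : D.ker.index = 2 := ((Nat.dvd_prime Nat.prime_two).1 hdvd).resolve_left hne
    refine Subgroup.eq_of_le_of_card_ge hle ?_
    have e1 := D.ker.card_mul_index
    have e2 := (commutator (orth Q)).card_mul_index
    rw [hk] at e1
    rw [h2] at e2
    omega
  have hmap : (commutator ↥(Cfsg.isometryGroup F f)).map (isoOrth Q hf).toMonoidHom = D.ker := by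
    rw [← hD, commutator_def, Subgroup.map_commutator, Subgroup.map_top_of_surjective _
      (isoOrth Q hf).surjective, ← commutator_def]
  rw [show t ∈ Cfsg.Omega F f ↔ isoOrth Q hf t ∈ D.ker by
    rw [← hmap]
    exact (Subgroup.mem_map_iff_mem (f := (isoOrth Q hf).toMonoidHom) (isoOrth Q hf).injective).symm,
    MonoidHom.mem_ker]
  exact Multiplicative.ofAdd.injective.eq_iff' rfl

theorem exists_centralising (hQ : Nondeg Q) (hn : 2 ≤ finrank F (ι → F))
    (h : (∃ a : F, a ≠ 0 ∧ a ≠ 1) ∨ finrank F (ι → F) ≠ 4) {t : ↥(Cfsg.isometryGroup F f)}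
    (ht : orderOf t = 2) {v : ι → F} (hv : nil t v = 0) (hQv : Q v ≠ 0) :
    ∃ c : ↥(Cfsg.isometryGroup F f), c * t = t * c ∧ c ∉ Cfsg.Omega F f := by
  refine ⟨(isoOrth Q hf).symm (orefl Q v), ?_, ?_⟩
  · apply (isoOrth Q hf).injective
    rw [map_mul, map_mul, MulEquiv.apply_symm_apply]
    refine Subtype.ext (LinearEquiv.ext fun x => ?_)
    show refl Q v ((isoOrth Q hf t).1 x) = (isoOrth Q hf t).1 (refl Q v x)
    have hN := nil_isSqZero Q hf ht
    have hvN : polar Q v (nil t x) = 0 := by rw [← hN.adj, hv, polar_zero_left]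
    rw [isoOrth_apply, isoOrth_apply, refl_apply, refl_apply, mulVec_eq t x, mulVec_eq t,
      polar_add_right, hvN, add_zero, map_sub, map_smul, hv, smul_zero, sub_zero]
    abel
  · rw [mem_Omega_iff Q hf hQ hn h hQv, MulEquiv.apply_symm_apply, dickson_orefl hQ hQv]
    exact one_ne_zero

theorem centralizer_dickson {m : ℕ} (hQ : Nondeg Q) (hdim : finrank F (ι → F) = 2 * m)
    {t g : ↥(Cfsg.isometryGroup F f)} (hinv : InvolutionCount.inv Q t = (m, true))
    (hg : g * t = t * g) : dickson Q (isoOrth Q hf g) = 0 := by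
  classical
  have hr : finrank F (LinearMap.range (nil t)) = m := congrArg Prod.fst hinv
  have hty : ∀ v, polar Q v (nil t v) = 0 := by simpa [InvolutionCount.inv] using congrArg Prod.snd hinv
  refine OrthOmega.dickson_stabiliser hQ hdim (U := LinearMap.range (nil t)) ?_ hr _ ?_
  · rintro _ ⟨x, rfl⟩
    rw [Orth.Q_N (nil_isometry Q hf t)]
    exact hty x
  · set G := ((isoOrth Q hf g : orth Q) : (ι → F) ≃ₗ[F] (ι → F)) with hG
    have hcomm : ∀ x, G (nil t x) = nil t (G x) := by
      intro x
      have e := congrArg (fun z : ↥(Cfsg.isometryGroup F f) => ((z : GL ι F) : Matrix ι ι F).mulVec x) hg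
      simp only [Subgroup.coe_mul, Units.val_mul, ← Matrix.mulVec_mulVec] at e
      rw [hG, isoOrth_apply, isoOrth_apply, nil_apply, nil_apply, Matrix.mulVec_sub, e]
    rw [← LinearMap.range_comp, show G.toLinearMap.comp (nil t) = (nil t).comp G.toLinearMap from LinearMap.ext hcomm,
      LinearMap.range_comp_of_range_eq_top _ G.range]

end

/-- Number of conjugacy classes of involutions in Ω⁺_2m(F) (the commutator subgroup of the orthogonal group of Σ x_i y_i) over a finite field F of characteristic two, m ≥ 1, excluding the case m = 2 over the field of two elements: the involutions of Ω are those with s = rank(t − 1) even, giving two O-classes for each even s with 2 ≤ s ≤ m, each of which is a single Ω-class except that for m even the class with s = m and v ↦ f(v, tv) identically zero splits in two; in all 2⌊m/2⌋ + 1 classes if m is even and 2⌊m/2⌋ if m is odd. -/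
theorem result {F : Type*} [Field F] [Fintype F] [CharP F 2] {m : ℕ} (hm : 1 ≤ m) (h : Fintype.card F ≠ 2 ∨ m ≠ 2) : Nat.card {C : ConjClasses ↥(Cfsg.Omega F (Cfsg.quadFormPlus m F)) // ∃ g : ↥(Cfsg.Omega F (Cfsg.quadFormPlus m F)), ConjClasses.mk g = C ∧ orderOf g = 2} = 2 * (m / 2) + (if Even m then 1 else 0) := by
  classical
  set Q := Forms.qPlus (F := F) m with hQdef
  set f := Cfsg.quadFormPlus m F
  have hf : ∀ v, f v = Q v := OrthMatrix.quadFormPlus_eq m
  have hQ : Nondeg Q := Forms.qPlus_nondeg m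
  have hdim : Fintype.card (Fin m ⊕ Fin m) = 2 * m := by simp [two_mul]
  have hfd : finrank F (Fin m ⊕ Fin m → F) = 2 * m := by rw [finrank_fintype_fun_eq_card, hdim]
  have hn : 2 ≤ finrank F (Fin m ⊕ Fin m → F) := by omega
  have hh : (∃ a : F, a ≠ 0 ∧ a ≠ 1) ∨ finrank F (Fin m ⊕ Fin m → F) ≠ 4 := by
    rcases h with h | h
    · left
      by_contra hcon
      push Not at hcon
      refine h (le_antisymm ?_ Fintype.one_lt_card)
      calc Fintype.card F = (Finset.univ : Finset F).card := rfl
        _ ≤ ({0, 1} : Finset F).card := Finset.card_le_card fun a _ => by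
          by_cases ha : a = 0 <;> simp [ha, hcon a]
        _ ≤ 2 := Finset.card_le_two
    · right; omega
  obtain ⟨w, hw⟩ : ∃ w, Q w ≠ 0 := ⟨Sum.elim (Pi.single ⟨0, by omega⟩ 1) (Pi.single ⟨0, by omega⟩ 1), by
    rw [← hf]; simp [f, Cfsg.quadFormPlus, Pi.single_apply]⟩
  set O := Cfsg.Omega F f with hOdef
  let D : ↥(Cfsg.isometryGroup F f) →* Multiplicative (ZMod 2) := (dicksonHom hQ hh).comp (isoOrth Q hf).toMonoidHom
  have hmem : ∀ t : ↥(Cfsg.isometryGroup F f), t ∈ O ↔ D t = 1 := fun t =>
    (mem_Omega_iff Q hf hQ hn hh hw t).trans (Multiplicative.ofAdd.injective.eq_iff' rfl).symm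
  have hmul : ∀ a b : ↥(Cfsg.isometryGroup F f), a ∉ O → b ∉ O → a * b ∈ O := fun a b ha hb => by
    rw [hmem] at ha hb ⊢
    rw [map_mul]
    revert ha hb
    generalize D a = x
    generalize D b = y
    revert x y
    decide
  have hrank : ∀ t : ↥(Cfsg.isometryGroup F f), t ∈ O ↔ Even (InvolutionCount.inv Q t).1 := fun t => by
    rw [mem_Omega_iff Q hf hQ hn hh hw t, dickson, dev_eq Q hf t]
    exact ZMod.natCast_eq_zero_iff_even
  have hex : ∀ a ∈ InvolutionCount.shapes m m, ∃ t : ↥(Cfsg.isometryGroup F f), orderOf t = 2 ∧ InvolutionCount.inv Q t = a := by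
    rintro ⟨s, b⟩ hsb
    obtain ⟨N, hsq, hI, hr, ht⟩ := InvolutionCount.exists_model (F := F) hsb
    have hs1 : 1 ≤ s := by rcases InvolutionCount.mem_shapes.1 hsb with h | h <;> omega
    obtain ⟨t, ht2, htN⟩ := InvolutionCount.exists_involution Q hf hsq hI
      (fun h0 => by rw [h0, LinearMap.range_zero, finrank_bot] at hr; omega)
    refine ⟨t, ht2, ?_⟩
    rw [InvolutionCount.inv, htN, hr]
    exact Prod.ext rfl (Bool.eq_iff_iff.2 (by simpa using ht))
  obtain ⟨t0, ht0⟩ : ∃ t0 : ↥(Cfsg.isometryGroup F f),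
      Even m → orderOf t0 = 2 ∧ InvolutionCount.inv Q t0 = (m, true) := by
    by_cases he : Even m
    · obtain ⟨t0, h1, h2⟩ := hex (m, true) (InvolutionCount.mem_shapes.2 (Or.inr ⟨rfl, he, hm, le_rfl⟩))
      exact ⟨t0, fun _ => ⟨h1, h2⟩⟩
    · exact ⟨1, fun h' => absurd h' he⟩
  let P : ↥(Cfsg.isometryGroup F f) → Prop := fun g => ∃ c ∈ O, c * t0 * c⁻¹ = g
  let inv' : ↥O → (ℕ × Bool) × Bool := fun g =>
    (InvolutionCount.inv Q g.1, decide (InvolutionCount.inv Q g.1 = (m, true) ∧ P g.1))
  let S : Finset ((ℕ × Bool) × Bool) :=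
    ((InvolutionCount.shapes m m).filter fun a => Even a.1).image (fun a => (a, false)) ∪
      (if Even m then {((m, true), true)} else ∅)
  have hS : S.card = 2 * (m / 2) + (if Even m then 1 else 0) := by
    have h1 : (InvolutionCount.shapes m m).filter (fun a => Even a.1) =
        ((Finset.Icc 1 m).filter Even).image (fun s => (s, false)) ∪
          ((Finset.Icc 1 m).filter Even).image (fun s => (s, true)) := by
      ext ⟨s, b⟩
      cases b <;> simp [InvolutionCount.mem_shapes] <;> tauto
    rw [Finset.card_union_of_disjoint, Finset.card_image_of_injective _ fun a b h => (Prod.ext_iff.1 h).1, h1,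
      Finset.card_union_of_disjoint, Finset.card_image_of_injective _ fun a b h => (Prod.ext_iff.1 h).1,
      Finset.card_image_of_injective _ fun a b h => (Prod.ext_iff.1 h).1, InvolutionCount.card_evens]
    · split_ifs <;> simp <;> ring
    · rw [Finset.disjoint_left]; simp
    · rw [Finset.disjoint_left]
      intro a ha
      obtain ⟨b, -, rfl⟩ := Finset.mem_image.1 ha
      split_ifs <;> simp
  rw [InvolutionCount.card_classes inv' S ?_ ?_ ?_, hS]
  · intro a b ha hb
    have ha' : orderOf a.1 = 2 := by rwa [Subgroup.orderOf_coe]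
    have hb' : orderOf b.1 = 2 := by rwa [Subgroup.orderOf_coe]
    constructor
    · intro hab
      obtain ⟨c, hc⟩ := isConj_iff.1 hab
      have hc' : c.1 * a.1 * c.1⁻¹ = b.1 := congrArg Subtype.val hc
      have hi := (InvolutionCount.isConj_iff_inv Q hf hQ ha' hb').1 (isConj_iff.2 ⟨c.1, hc'⟩)
      refine Prod.ext hi (decide_eq_decide.2 ?_)
      rw [hi]
      refine and_congr_right fun _ => ⟨?_, ?_⟩
      · rintro ⟨d, hd, hd'⟩
        exact ⟨c.1 * d, mul_mem c.2 hd, by rw [← hc', ← hd']; group⟩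
      · rintro ⟨d, hd, hd'⟩
        exact ⟨c.1⁻¹ * d, mul_mem (inv_mem c.2) hd, by
          rw [show a.1 = c.1⁻¹ * b.1 * c.1 by rw [← hc']; group, ← hd']; group⟩
    · intro hab
      have hi : InvolutionCount.inv Q a.1 = InvolutionCount.inv Q b.1 := congrArg Prod.fst hab
      have hconj := (InvolutionCount.isConj_iff_inv Q hf hQ ha' hb').2 hi
      suffices ∃ g ∈ O, g * a.1 * g⁻¹ = b.1 by
        obtain ⟨g, hg, hgab⟩ := this
        exact isConj_iff.2 ⟨⟨g, hg⟩, Subtype.ext hgab⟩
      obtain ⟨g, hg⟩ := isConj_iff.1 hconj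
      by_cases hgO : g ∈ O
      · exact ⟨g, hgO, hg⟩
      by_cases hexc : InvolutionCount.inv Q a.1 = (m, true)
      · have he : Even m := by
          have h1 := (hrank a.1).1 a.2
          rwa [hexc] at h1
        obtain ⟨c, hc⟩ := isConj_iff.1 ((InvolutionCount.isConj_iff_inv Q hf hQ (ht0 he).1 ha').2 ((ht0 he).2.trans hexc.symm))
        have hbit : P a.1 ↔ P b.1 := by
          have h1 := congrArg Prod.snd hab
          simp only [inv', decide_eq_decide, ← hi, hexc, true_and] at h1
          exact h1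
        exfalso
        have huniq : ∀ (x : ↥(Cfsg.isometryGroup F f)) (d : ↥(Cfsg.isometryGroup F f)), d * t0 * d⁻¹ = x → (P x ↔ d ∈ O) := by
          intro x d hd
          refine ⟨fun ⟨e, he', hee⟩ => ?_, fun hd' => ⟨d, hd', hd⟩⟩
          have hz : e⁻¹ * d ∈ O := (mem_Omega_iff Q hf hQ hn hh hw _).2
            (centralizer_dickson Q hf hQ hfd (ht0 he).2 (by
              calc e⁻¹ * d * t0 = e⁻¹ * (d * t0 * d⁻¹) * d := by group
                _ = e⁻¹ * (e * t0 * e⁻¹) * d := by rw [hd, hee]
                _ = t0 * (e⁻¹ * d) := by group))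
          have := mul_mem he' hz
          rwa [mul_inv_cancel_left] at this
        have h1 := huniq a.1 c hc
        have h2 := huniq b.1 (g * c) (by rw [← hg, ← hc]; group)
        by_cases hcO : c ∈ O
        · have h3 : g * c * c⁻¹ ∈ O := mul_mem (h2.1 (hbit.1 (h1.2 hcO))) (inv_mem hcO)
          rw [mul_inv_cancel_right] at h3
          exact hgO h3
        · exact hcO (h1.1 (hbit.2 (h2.2 (hmul g c hgO hcO))))
      · obtain ⟨v, hv, hQv⟩ := OrthMatrixOmega.exists_nonsingular_fixed Q hQ hdim (N := nil a.1)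
          (nil_isSqZero Q hf ha').sq (by
            rintro ⟨hr, hU⟩
            refine hexc (Prod.ext hr ?_)
            simp only [InvolutionCount.inv, decide_eq_true_iff]
            intro x
            rw [← Orth.Q_N (nil_isometry Q hf a.1)]
            exact hU x)
        obtain ⟨c, hct, hcO⟩ := exists_centralising Q hf hQ hn hh ha' hv hQv
        refine ⟨g * c, hmul g c hgO hcO, ?_⟩
        rw [mul_inv_rev, mul_assoc g c a.1, hct, ← hg]
        group
  · intro a ha
    have ha' : orderOf a.1 = 2 := by rwa [Subgroup.orderOf_coe]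
    have h1 := InvolutionCount.inv_mem Q hf hQ hdim ha'
    have h2 := (hrank a.1).1 a.2
    simp only [S, inv', Finset.mem_union, Finset.mem_image, Finset.mem_filter]
    by_cases hP : InvolutionCount.inv Q a.1 = (m, true) ∧ P a.1
    · right
      rw [hP.1] at h2
      rw [decide_eq_true hP, hP.1, if_pos h2]
      exact Finset.mem_singleton_self _
    · left
      exact ⟨_, ⟨h1, h2⟩, by rw [decide_eq_false hP]⟩
  · intro a ha
    simp only [S, Finset.mem_union, Finset.mem_image, Finset.mem_filter] at ha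
    rcases ha with ⟨x, ⟨hx, hxe⟩, rfl⟩ | ha
    · obtain ⟨t, ht2, hti⟩ := hex x hx
      by_cases hP : x = (m, true) ∧ P t
      · have he : Even m := by rw [hP.1] at hxe; exact hxe
        let r : ↥(Cfsg.isometryGroup F f) := (isoOrth Q hf).symm (orefl Q w)
        have hr : r ∉ O := by
          rw [hOdef, mem_Omega_iff Q hf hQ hn hh hw, MulEquiv.apply_symm_apply, dickson_orefl hQ hw]
          exact one_ne_zero
        have hord : orderOf (r * t0 * r⁻¹) = 2 := by
          rw [← (ht0 he).1]; exact orderOf_injective (MulAut.conj r).toMonoidHom (MulAut.conj r).injective t0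
        have hinv : InvolutionCount.inv Q (r * t0 * r⁻¹) = (m, true) :=
          ((InvolutionCount.isConj_iff_inv Q hf hQ (ht0 he).1 hord).1 (isConj_iff.2 ⟨r, rfl⟩)).symm.trans (ht0 he).2
        refine ⟨⟨r * t0 * r⁻¹, (hrank _).2 (by rw [hinv]; exact he)⟩, by rw [← Subgroup.orderOf_coe]; exact hord, ?_⟩
        refine Prod.ext (hinv.trans hP.1.symm) (decide_eq_false ?_)
        rintro ⟨-, e, he', hee⟩
        apply hr
        have hz : e⁻¹ * r ∈ O := (mem_Omega_iff Q hf hQ hn hh hw _).2
          (centralizer_dickson Q hf hQ hfd (ht0 he).2 (by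
            calc e⁻¹ * r * t0 = e⁻¹ * (r * t0 * r⁻¹) * r := by group
              _ = e⁻¹ * (e * t0 * e⁻¹) * r := by rw [hee]
              _ = t0 * (e⁻¹ * r) := by group))
        have := mul_mem he' hz
        rwa [mul_inv_cancel_left] at this
      · refine ⟨⟨t, (hrank t).2 (by rw [hti]; exact hxe)⟩, by rw [← Subgroup.orderOf_coe]; exact ht2, ?_⟩
        exact Prod.ext hti (decide_eq_false fun h => hP ⟨hti.symm.trans h.1, h.2⟩)
    · split_ifs at ha with he
      · rw [Finset.mem_singleton] at ha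
        subst ha
        refine ⟨⟨t0, (hrank t0).2 (by rw [(ht0 he).2]; exact he)⟩, by rw [← Subgroup.orderOf_coe]; exact (ht0 he).1, ?_⟩
        exact Prod.ext (ht0 he).2 (decide_eq_true ⟨(ht0 he).2, 1, one_mem _, by simp⟩)
      · simp at ha

end Cfsg.Agent.S2597
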