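import Cfsg.Statements.S2598
import Cfsg.Agent.Lib.MinusInvCount52.Dickson
import Cfsg.Agent.Lib.MinusInvCount52.Exists
-- import your own Cfsg.Agent.* helpers here

set_option autoImplicit false
open Cfsg
open Cfsg.Agent.Lib

namespace Cfsg.Agent.S2598

/-- Number of conjugacy classes of involutions in Ω⁻_2m(F) (the commutator subgroup of the orthogonal group of an elliptic quadratic form, Σ_(i<m−1) x_i y_i plus an anisotropic binary form) over a finite field F of characteristic two, m ≥ 1: the involutions of Ω are those with s = rank(t − 1) even, one O-class for each even s with 2 ≤ s ≤ m on which v ↦ f(v, tv) is not identically zero and one for each even s with 2 ≤ s < m on which it is zero (f the polar form; in characteristic 2, f(v, tv) = Q(v + tv)), none of which splits in Ω; in all ⌊m/2⌋ + ⌊(m − 1)/2⌋. -/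
theorem result {F : Type*} [Field F] [Fintype F] [CharP F 2] {m : ℕ} (hm : 1 ≤ m) (a b : F) (hab : ∀ z₁ z₂ : F, z₁ ^ 2 + a * z₁ * z₂ + b * z₂ ^ 2 = 0 → z₁ = 0 ∧ z₂ = 0) : Nat.card {C : ConjClasses ↥(Cfsg.Omega F (Cfsg.quadFormMinus (m - 1) F a b)) // ∃ g : ↥(Cfsg.Omega F (Cfsg.quadFormMinus (m - 1) F a b)), ConjClasses.mk g = C ∧ orderOf g = 2} = m / 2 + (m - 1) / 2 := by
  classical
  obtain ⟨k, rfl⟩ : ∃ k, m = k + 1 := ⟨m - 1, by omega⟩
  rw [Nat.add_sub_cancel]
  set Q := Char2Inv.OrthMatrix.qMinus k a b with hQdef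
  set f := Cfsg.quadFormMinus k F a b with hfdef
  have hf : ∀ v, f v = Q v := Char2Inv.OrthMatrix.qMinus_apply k a b
  have hQ : Forms.Nondeg Q := Char2Inv.OrthMatrix.qMinus_nondeg k hab
  have hdim : Fintype.card ((Fin k ⊕ Fin k) ⊕ Fin 2) = 2 * (k + 1) := by simp; ring
  have hfd : Module.finrank F ((Fin k ⊕ Fin k) ⊕ Fin 2 → F) = 2 * (k + 1) := by
    rw [Module.finrank_fintype_fun_eq_card, hdim]
  have hsing : ∀ U : Submodule F ((Fin k ⊕ Fin k) ⊕ Fin 2 → F), (∀ w ∈ U, Q w = 0) →
      Module.finrank F U ≤ k := fun U hU => Char2Inv.OrthMatrixOmega.qMinus_singular_le hab U hU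
  have hgen : Subgroup.closure (Forms.reflSet Q) = ⊤ := by
    by_cases hk : k = 1
    · exact MinusInvCount52.closure_reflSet_of_index_one hQ fun U hU => hk ▸ hsing U hU
    · exact Forms.closure_reflSet hQ (Or.inr (by omega))
  have hmem : ∀ t : ↥(Cfsg.isometryGroup F f),
      t ∈ Cfsg.Omega F f ↔ Forms.dickson Q (Forms.isoOrth Q hf t) = 0 := fun t => by
    rw [← MinusInvCount52.mem_commutator_iff_dickson hQ hgen CharTwo.two_eq_zero (by omega)]
    have hmap : (commutator ↥(Cfsg.isometryGroup F f)).map (Forms.isoOrth Q hf).toMonoidHom =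
        commutator (Forms.orth Q) := by
      rw [commutator_def, Subgroup.map_commutator, Subgroup.map_top_of_surjective _
        (Forms.isoOrth Q hf).surjective, ← commutator_def]
    rw [← hmap]
    exact (Subgroup.mem_map_iff_mem (f := (Forms.isoOrth Q hf).toMonoidHom)
      (Forms.isoOrth Q hf).injective).symm
  have hrank : ∀ t : ↥(Cfsg.isometryGroup F f),
      t ∈ Cfsg.Omega F f ↔ Even (InvolutionCount.inv Q t).1 := fun t => by
    rw [hmem t, Forms.dickson, Char2Inv.OrthMatrixOmega.dev_iso Q hf t]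
    exact ZMod.natCast_eq_zero_iff_even
  -- the invariant of an involution and the realised shapes
  have hinv : ∀ t : ↥(Cfsg.isometryGroup F f), orderOf t = 2 →
      InvolutionCount.inv Q t ∈ InvolutionCount.shapes (k + 1) k := fun t ht => by
    have h := InvolutionCount.inv_mem Q hf hQ hdim ht
    rw [InvolutionCount.inv] at h ⊢
    rw [InvolutionCount.mem_shapes] at h ⊢
    rcases h with h | ⟨hb, he, h1, h2⟩
    · exact Or.inl h
    · refine Or.inr ⟨hb, he, h1, hsing _ ?_⟩
      rintro _ ⟨x, rfl⟩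
      rw [Char2Inv.Orth.Q_N (Char2Inv.OrthMatrix.nil_isometry Q hf t)]
      simp only [decide_eq_true_iff] at hb
      exact hb x
  have hcent : ∀ t : ↥(Cfsg.isometryGroup F f), orderOf t = 2 →
      ∃ c, c * t = t * c ∧ c ∉ Cfsg.Omega F f := fun t ht => by
    obtain ⟨v, hv, hQv⟩ := Char2Inv.OrthMatrixOmega.exists_nonsingular_fixed Q hQ hdim
      (Char2Inv.OrthMatrix.nil_isSqZero Q hf ht).sq (N := Char2Inv.OrthMatrix.nil t) fun h => by
        have := hsing (LinearMap.range (Char2Inv.OrthMatrix.nil t)) (by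
          rintro _ ⟨x, rfl⟩; exact h.2 x)
        omega
    refine ⟨(Forms.isoOrth Q hf).symm (Forms.orefl Q v), ?_, fun h => ?_⟩
    · apply (Forms.isoOrth Q hf).injective
      rw [map_mul, map_mul, MulEquiv.apply_symm_apply]
      refine Subtype.ext (LinearEquiv.ext fun x => ?_)
      show Forms.refl Q v ((Forms.isoOrth Q hf t).1 x) = (Forms.isoOrth Q hf t).1 (Forms.refl Q v x)
      have hN := Char2Inv.OrthMatrix.nil_isSqZero Q hf ht
      have hvN : QuadraticMap.polar Q v (Char2Inv.OrthMatrix.nil t x) = 0 := by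
        rw [← hN.adj, hv, QuadraticMap.polar_zero_left]
      rw [Forms.isoOrth_apply, Forms.isoOrth_apply, Forms.refl_apply, Forms.refl_apply,
        Char2Inv.OrthMatrix.mulVec_eq t x, Char2Inv.OrthMatrix.mulVec_eq t,
        QuadraticMap.polar_add_right, hvN, add_zero, map_sub, map_smul, hv, smul_zero, sub_zero]
      abel
    · rw [hmem, MulEquiv.apply_symm_apply, Forms.dickson_orefl hQ hQv] at h
      exact one_ne_zero h
  let S := (InvolutionCount.shapes (k + 1) k).filter fun x => Even x.1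
  rw [InvolutionCount.card_classes (fun t : ↥(Cfsg.Omega F f) => InvolutionCount.inv Q t.1) S
    (fun t s ht hs => ?_) (fun t ht => ?_) (fun x hx => ?_)]
  · have hS : S = ((Finset.Icc 1 (k + 1)).filter Even).image (fun s => (s, false)) ∪
        ((Finset.Icc 1 k).filter Even).image (fun s => (s, true)) := by
      ext ⟨s, c⟩
      simp [S, InvolutionCount.shapes]
      grind
    rw [hS, Finset.card_union_of_disjoint (by rw [Finset.disjoint_left]; simp),
      Finset.card_image_of_injective _ fun a b h => (Prod.ext_iff.1 h).1,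
      Finset.card_image_of_injective _ fun a b h => (Prod.ext_iff.1 h).1,
      InvolutionCount.card_evens, InvolutionCount.card_evens]
  · have ht' : orderOf t.1 = 2 := by rwa [Subgroup.orderOf_coe]
    have hs' : orderOf s.1 = 2 := by rwa [Subgroup.orderOf_coe]
    rw [← InvolutionCount.isConj_iff_inv Q hf hQ ht' hs']
    constructor
    · intro h
      exact (Cfsg.Omega F f).subtype.map_isConj h
    · intro h
      obtain ⟨g, hg⟩ := isConj_iff.1 h
      by_cases hgO : g ∈ Cfsg.Omega F f
      · exact isConj_iff.2 ⟨⟨g, hgO⟩, Subtype.ext hg⟩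
      obtain ⟨c, hct, hc⟩ := hcent t.1 ht'
      refine isConj_iff.2 ⟨⟨g * c, ?_⟩, Subtype.ext ?_⟩
      · rw [hmem] at hgO hc ⊢
        rw [map_mul, MinusInvCount52.dickson_mul hQ hgen]
        have key : ∀ x y : ZMod 2, x ≠ 0 → y ≠ 0 → x + y = 0 := by decide
        exact key _ _ hgO hc
      · show g * c * t.1 * (g * c)⁻¹ = s.1
        rw [mul_inv_rev, mul_assoc g c t.1, hct, ← hg]
        group
  · have ht' : orderOf t.1 = 2 := by rwa [Subgroup.orderOf_coe]
    exact Finset.mem_filter.2 ⟨hinv _ ht', (hrank t.1).1 t.2⟩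
  · obtain ⟨hx1, hx2⟩ := Finset.mem_filter.1 hx
    obtain ⟨t, ht2, htx⟩ := MinusInvCount52.exists_minus_involution hab hx1
    exact ⟨⟨t, (hrank t).2 (htx ▸ hx2)⟩, by rw [← Subgroup.orderOf_coe]; exact ht2, htx⟩

end Cfsg.Agent.S2598
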