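import Cfsg.Statements.S2599
import Cfsg.Agent.Lib.Forms.Quad
-- import your own Cfsg.Agent.* helpers here

set_option autoImplicit false
open Cfsg

namespace Cfsg.Agent.S2599

/-- An irreducible invariant subspace of a semisimple isometry is non-degenerate or totally singular: let Q be a quadratic form on F^n (F finite of characteristic p) with non-degenerate polar form f, x an isometry of Q of order prime to p, and U a non-zero x-invariant subspace containing no x-invariant subspace other than 0 and U. Then U meets its f-orthogonal trivially, or Q vanishes on U, or p = 2, U is a line spanned by a non-singular vector and x fixes U pointwise. -/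
theorem result {F : Type*} [Field F] [Fintype F] {p : ℕ} [Fact p.Prime] [CharP F p] {n : ℕ} (Q : QuadraticForm F (Fin n → F)) (hQ : (QuadraticMap.polarBilin Q).Nondegenerate) (x : ↥(Cfsg.isometryGroup F ⇑Q)) (hx : (orderOf x).Coprime p) (U : Submodule F (Fin n → F)) (hU0 : U ≠ ⊥) (hUx : ∀ u ∈ U, ((x : Matrix.GeneralLinearGroup (Fin n) F) : Matrix (Fin n) (Fin n) F).mulVec u ∈ U) (hirr : ∀ W : Submodule F (Fin n → F), W ≤ U → (∀ w ∈ W, ((x : Matrix.GeneralLinearGroup (Fin n) F) : Matrix (Fin n) (Fin n) F).mulVec w ∈ W) → W = ⊥ ∨ W = U) : U ⊓ LinearMap.BilinForm.orthogonal (QuadraticMap.polarBilin Q) U = ⊥ ∨ (∀ u ∈ U, Q u = 0) ∨ (p = 2 ∧ Module.finrank F U = 1 ∧ (∃ u ∈ U, Q u ≠ 0) ∧ ∀ u ∈ U, ((x : Matrix.GeneralLinearGroup (Fin n) F) : Matrix (Fin n) (Fin n) F).mulVec u = u) := by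
  classical
  let M : Matrix (Fin n) (Fin n) F := ((x : Matrix.GeneralLinearGroup (Fin n) F) : Matrix (Fin n) (Fin n) F)
  have hMQ : ∀ v, Q (M.mulVec v) = Q v := fun v => x.2 v 0
  have hpol : ∀ u v, QuadraticMap.polar Q (M.mulVec u) (M.mulVec v) = QuadraticMap.polar Q u v :=
    Lib.Forms.polar_map (Q := Q) (Q' := Q) (Matrix.mulVecLin M) hMQ
  have hinj : Function.Injective M.mulVec :=
    Matrix.mulVec_injective_iff_isUnit.2 (Units.isUnit _)
  have hsurjU : ∀ u ∈ U, ∃ w ∈ U, M.mulVec w = u := by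
    intro u hu
    let f : U →ₗ[F] U := (Matrix.mulVecLin M).restrict hUx
    have hf : Function.Injective f := fun a b hab => Subtype.ext (hinj (congrArg Subtype.val hab))
    obtain ⟨w, hw⟩ := (LinearMap.injective_iff_surjective.1 hf) ⟨u, hu⟩
    exact ⟨w, w.2, congrArg Subtype.val hw⟩
  rcases hirr (U ⊓ LinearMap.BilinForm.orthogonal (QuadraticMap.polarBilin Q) U) inf_le_left
    (by
      rintro w ⟨hw, hw'⟩
      refine ⟨hUx w hw, fun u hu => ?_⟩
      obtain ⟨z, hz, rfl⟩ := hsurjU u hu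
      show QuadraticMap.polar Q (M.mulVec z) (M.mulVec w) = 0
      rw [hpol]
      exact hw' z hz) with h | h
  · exact Or.inl h
  have horth : ∀ u ∈ U, ∀ w ∈ U, QuadraticMap.polar Q u w = 0 :=
    fun u hu w hw => (h.ge hw).2 u hu
  by_cases hp : p = 2
  swap
  · refine Or.inr (Or.inl fun u hu => ?_)
    have h0 := horth u hu u hu
    rw [Lib.Forms.polar_self'] at h0
    refine (mul_eq_zero.1 h0).resolve_left ?_
    intro h2
    have : ((2 : ℕ) : F) = 0 := by exact_mod_cast h2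
    rw [CharP.cast_eq_zero_iff F p 2] at this
    exact hp ((Nat.prime_dvd_prime_iff_eq Fact.out Nat.prime_two).1 this)
  subst hp
  have hadd : ∀ u ∈ U, ∀ w ∈ U, Q (u + w) = Q u + Q w := fun u hu w hw => by
    rw [Lib.Forms.Q_add, horth u hu w hw, add_zero]
  let U₀ : Submodule F (Fin n → F) :=
    { carrier := {u | u ∈ U ∧ Q u = 0}
      zero_mem' := ⟨U.zero_mem, QuadraticMap.map_zero Q⟩
      add_mem' := fun {a b} ha hb => ⟨U.add_mem ha.1 hb.1, by rw [hadd a ha.1 b hb.1, ha.2, hb.2, add_zero]⟩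
      smul_mem' := fun c {a} ha => ⟨U.smul_mem c ha.1, by rw [Lib.Forms.Q_smul, ha.2, mul_zero]⟩ }
  rcases hirr U₀ (fun u hu => hu.1) (fun w hw => ⟨hUx w hw.1, (hMQ w).trans hw.2⟩) with h0 | h0
  swap
  · exact Or.inr (Or.inl fun u hu => (h0.ge hu).2)
  obtain ⟨u, hu, hu0⟩ := Submodule.exists_mem_ne_zero_of_ne_bot hU0
  have hQu : Q u ≠ 0 := fun hq => hu0 ((Submodule.eq_bot_iff U₀).1 h0 u ⟨hu, hq⟩)
  have hmult : ∀ w ∈ U, ∃ c : F, w = c • u ∧ Q w = c * c * Q u := by
    intro w hw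
    obtain ⟨c, hc⟩ := FiniteField.isSquare_of_char_two (ringChar.eq F 2) (Q w / Q u)
    have hQw : Q w = c * c * Q u := by rw [← hc]; field_simp
    refine ⟨c, ?_, hQw⟩
    have : w + c • u = 0 := by
      refine (Submodule.eq_bot_iff U₀).1 h0 _ ⟨U.add_mem hw (U.smul_mem c hu), ?_⟩
      rw [hadd w hw _ (U.smul_mem c hu), Lib.Forms.Q_smul, hQw, CharTwo.add_self_eq_zero]
    rw [eq_neg_of_add_eq_zero_left this, ← neg_smul, CharTwo.neg_eq]
  refine Or.inr (Or.inr ⟨rfl, ?_, ⟨u, hu, hQu⟩, fun w hw => ?_⟩)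
  · have : U = F ∙ u := by
      refine le_antisymm (fun w hw => ?_) (by simpa using hu)
      obtain ⟨c, hc, -⟩ := hmult w hw
      exact Submodule.mem_span_singleton.2 ⟨c, hc.symm⟩
    rw [this]
    exact finrank_span_singleton hu0
  · show M.mulVec w = w
    have hsub : M.mulVec w + w = 0 := by
      refine (Submodule.eq_bot_iff U₀).1 h0 _ ⟨U.add_mem (hUx w hw) hw, ?_⟩
      rw [hadd _ (hUx w hw) w hw, hMQ, CharTwo.add_self_eq_zero]
    rw [eq_neg_of_add_eq_zero_left hsub]
    funext i; simp [CharTwo.neg_eq]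

end Cfsg.Agent.S2599
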