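import Cfsg.Statements.S2600
import Cfsg.Agent.Lib.AutPSp.GraphMain

set_option autoImplicit false
open Cfsg

namespace Cfsg.Agent.S2600

open Cfsg.Agent.Lib.AutPSp

/-- Outer automorphism group of PSp_4(q) for q = 2^f even: it is cyclic of order 2f, generated by the class of the exceptional (graph-field) automorphism whose square is the Frobenius field automorphism. -/
theorem result {F : Type*} [Field F] [Fintype F] {f : ℕ} (hf : 1 ≤ f) (hF : Fintype.card F = 2 ^ f) : IsCyclic (Cfsg.Out (Cfsg.PSp 2 F)) ∧ Nat.card (Cfsg.Out (Cfsg.PSp 2 F)) = 2 * f := by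
  classical
  haveI : Fact (Nat.Prime 2) := ⟨Nat.prime_two⟩
  haveI : CharP F 2 := charP_of_card_eq_prime_pow hF
  have hinn : Cfsg.inndiagPSp 2 F = Cfsg.Inn (Cfsg.PSp 2 F) := inndiagPSp_eq_inn (by omega)
  -- the Frobenius generates the field automorphisms
  have hpow : ∀ (k : ℕ) (x : F), (sqEquiv ^ k : F ≃+* F) x = x ^ 2 ^ k := by
    intro k
    induction k with
    | zero => intro x; simp
    | succ k ih =>
      intro x
      rw [pow_succ' sqEquiv k]
      show sqEquiv ((sqEquiv ^ k : F ≃+* F) x) = _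
      rw [ih, sqEquiv_apply, ← pow_mul, ← pow_succ]
  have hgen : ∀ σ : F ≃+* F, ∃ k : ℕ, sqEquiv ^ k = σ := by
    have hinj : Function.Injective (fun k : Fin f => (sqEquiv : F ≃+* F) ^ (k : ℕ)) := by
      obtain ⟨g, hg⟩ := IsCyclic.exists_ofOrder_eq_natCard (α := Fˣ)
      rw [Nat.card_units, Nat.card_eq_fintype_card, hF] at hg
      intro a b hab
      have h1 : (g : F) ^ 2 ^ (a : ℕ) = (g : F) ^ 2 ^ (b : ℕ) := by
        rw [← hpow, ← hpow]; exact RingEquiv.congr_fun hab _
      have h2 : g ^ 2 ^ (a : ℕ) = g ^ 2 ^ (b : ℕ) := Units.ext (by simpa using h1)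
      rw [pow_eq_pow_iff_modEq, hg] at h2
      have hlt : ∀ k : Fin f, 2 ^ (k : ℕ) < 2 ^ f := fun k => Nat.pow_lt_pow_right (by norm_num) k.isLt
      have hle : ∀ k : Fin f, 2 * 2 ^ (k : ℕ) ≤ 2 ^ f := fun k => by
        rw [← pow_succ']; exact Nat.pow_le_pow_right (by norm_num) k.isLt
      rcases Nat.eq_or_lt_of_le hf with hf1 | hf1
      · exact Fin.ext (by have := a.isLt; have := b.isLt; omega)
      · have h4 : 4 ≤ 2 ^ f := Nat.pow_le_pow_right (by norm_num) hf1 (n := 2)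
        have hlt' : ∀ k : Fin f, 2 ^ (k : ℕ) < 2 ^ f - 1 := fun k => by have := hle k; omega
        exact Fin.ext (Nat.pow_right_injective (le_refl 2) (h2.eq_of_lt_of_lt (hlt' a) (hlt' b)))
    haveI : Finite (F ≃+* F) := Finite.of_injective (fun τ : F ≃+* F => (τ : F → F)) DFunLike.coe_injective
    haveI := Fintype.ofFinite (F ≃+* F)
    have hb := (Fintype.bijective_iff_injective_and_card _).2 ⟨hinj, by
      rw [← Nat.card_eq_fintype_card (α := F ≃+* F), Cfsg.Agent.Lib.AutPSL.card_fieldAuts hF, Fintype.card_fin]⟩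
    intro σ
    obtain ⟨k, hk⟩ := hb.2 σ
    exact ⟨k, hk⟩
  constructor
  · refine ⟨⟨QuotientGroup.mk grAut, fun x => ?_⟩⟩
    induction x using QuotientGroup.induction_on with | H α => ?_
    obtain ⟨g, σ, e, he, rfl⟩ := exists_decomp_four α
    obtain ⟨k, rfl⟩ := hgen σ
    have hg : (QuotientGroup.mk (conjAut g) : Cfsg.Out (Cfsg.PSp 2 F)) = 1 :=
      (QuotientGroup.eq_one_iff _).2 (hinn ▸ conjAut_mem_inndiag g)
    have hsq : (QuotientGroup.mk (fieldAut (sqEquiv ^ k)) : Cfsg.Out (Cfsg.PSp 2 F)) =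
        (QuotientGroup.mk grAut) ^ (2 * k) := by
      rw [map_pow, ← grAut_mul_self, ← pow_two, ← pow_mul, QuotientGroup.mk_pow]
    rw [QuotientGroup.mk_mul, QuotientGroup.mk_mul, hg, one_mul, hsq]
    rcases he with rfl | rfl
    · rw [QuotientGroup.mk_one, one_mul]; exact Subgroup.npow_mem_zpowers _ _
    · exact mul_mem (Subgroup.mem_zpowers _) (Subgroup.npow_mem_zpowers _ _)
  · have h1 := (Cfsg.Inn (Cfsg.PSp 2 F)).card_mul_index
    rw [card_mulAut_PSp_four hF, Subgroup.index_eq_card, ← hinn, card_inndiagPSp (le_refl 2),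
      Cfsg.Agent.Lib.Symplectic.card_sp rfl, ← Cfsg.Agent.Lib.Symplectic.card_psp rfl (show 1 ≤ 2 by omega)] at h1
    have hc2 : Nat.gcd 2 (Nat.card F - 1) = 1 := by
      rw [Nat.card_eq_fintype_card, hF, ← Nat.Coprime, Nat.Prime.coprime_iff_not_dvd Nat.prime_two]
      intro hd
      have h2 : 2 ∣ 2 ^ f := dvd_pow_self 2 (by omega)
      have := Nat.one_le_two_pow (n := f)
      omega
    rw [hc2, one_mul, mul_comm (2 * f)] at h1
    rw [hinn] at h1
    exact Nat.eq_of_mul_eq_mul_left Nat.card_pos h1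

end Cfsg.Agent.S2600
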