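import Cfsg.Statements.S2601
import Cfsg.Agent.Lib.AutPSL.Out

set_option autoImplicit false
open Cfsg

namespace Cfsg.Agent.S2601

open Cfsg.Agent.Lib.AutPSL

/-- Structure of the outer automorphism group of PSL_n(q), n ≥ 3, q = p^f: it has a normal cyclic subgroup of order gcd(n, q − 1) (the diagonal automorphisms) whose quotient is the direct product of a cyclic group of order f (field automorphisms) and a group of order 2 (the inverse-transpose graph automorphism). -/
theorem result {F : Type*} [Field F] [Fintype F] {p f n : ℕ} [Fact p.Prime] (hf : 1 ≤ f) (hF : Fintype.card F = p ^ f) (hn : 3 ≤ n) : ∃ φ : Cfsg.Out (Matrix.ProjectiveSpecialLinearGroup (Fin n) F) →* Multiplicative (ZMod f × ZMod 2), Function.Surjective φ ∧ IsCyclic φ.ker ∧ Nat.card φ.ker = Nat.gcd n (p ^ f - 1) := by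
  classical
  have hn2 : 2 ≤ n := by omega
  have := isCyclic_fieldAuts (F := F)
  haveI : NeZero f := ⟨by omega⟩
  let e₁ : (F ≃+* F) ≃* Multiplicative (ZMod f) := mulEquivOfCyclicCardEq (by
    rw [card_fieldAuts hF, Nat.card_eq_fintype_card, Fintype.card_multiplicative, ZMod.card])
  obtain ⟨φ, hs, hc, hk⟩ := exists_out_hom (F := F) hn2 invTHom
    (fun σ c => by
      show Commute _ (if c = 1 then 1 else invT)
      split_ifs
      · exact Commute.one_right _
      · exact fieldAut_mul_invT σ)
    (fun g σ c h => by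
      by_contra hc
      exact conj_field_ne_invT hn g σ (h.trans (if_neg hc)))
    (fun α => by
      obtain ⟨g, σ, γ, hγ, rfl⟩ := exists_decomp hn2 α
      rcases hγ with rfl | ⟨-, rfl⟩
      · exact ⟨g, σ, 1, by rw [map_one]⟩
      · exact ⟨g, σ, Multiplicative.ofAdd 1, by
          show _ = _ * (if (Multiplicative.ofAdd (1 : ZMod 2)) = 1 then 1 else invT)
          rw [if_neg (by decide)]⟩)
  let e : (F ≃+* F) × Multiplicative (ZMod 2) ≃* Multiplicative (ZMod f × ZMod 2) :=
    (e₁.prodCongr (MulEquiv.refl _)).trans (MulEquiv.prodMultiplicative _ _).symm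
  have hker : (e.toMonoidHom.comp φ).ker = φ.ker := by
    ext x; simp
  exact ⟨e.toMonoidHom.comp φ, e.surjective.comp hs, hker ▸ hc, by rw [hker, hk, hF]⟩

end Cfsg.Agent.S2601
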