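import Cfsg.Statements.S2604
import Cfsg.Agent.Lib.AutPOmega.OutPlus

set_option autoImplicit false
open Cfsg

namespace Cfsg.Agent.S2604

open Module QuadraticMap Cfsg.Agent.Lib.Forms Cfsg.Agent.Lib.OrthOmega Cfsg.Agent.Lib.OrthStd
  Cfsg.Agent.Lib.AutPOmega Cfsg.Agent.Lib.AutPOmega.Semisim


/-- Outer automorphism group of the simple orthogonal group Ω_(2m+1)(q), m ≥ 3, q = p^f odd: it is the direct product of a group of order 2 (diagonal automorphisms, from SO) and a cyclic group of order f (field automorphisms). -/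
theorem result {F : Type*} [Field F] [Fintype F] {p f m : ℕ} [Fact p.Prime] (hf : 1 ≤ f) (hF : Fintype.card F = p ^ f) (hp : p ≠ 2) (hm : 3 ≤ m) : Nonempty (Cfsg.Out (Cfsg.POmega F (Cfsg.quadFormOdd m F)) ≃* Multiplicative (ZMod 2 × ZMod f)) := by
  have := charP_of_card_eq_prime_pow hF
  have h2 : (2 : F) ≠ 0 := fun h => hp (two_eq_iff.1 h)
  have hodd : Odd (p ^ f) := ((Fact.out : p.Prime).odd_of_ne_two hp).pow
  have h7 : 7 ≤ finrank F (Unit ⊕ (Fin m ⊕ Fin m) → F) := by rw [finrank_fun]; simp; omega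
  have h5 : 5 ≤ finrank F (Unit ⊕ (Fin m ⊕ Fin m) → F) := by omega
  have hQ := qOddC_nondeg (F := F) m h2
  have h8 := noTriality_odd (F := F) m
  have hf' := quadFormOdd_eq (F := F) m
  have hsurj : ∀ σ : F ≃+* F, ∃ S : Semisim (qOddC m F), S.τ = σ :=
    fun σ => ⟨ofField (qOddC m F) σ (odd_field m σ), rfl⟩
  have hP : 0 < Nat.card (Cfsg.POmega F (Cfsg.quadFormOdd m F)) := Nat.card_pos
  have hU : 0 < Nat.card Fˣ := Nat.card_pos
  have hcard : Nat.card (Cfsg.Out (Cfsg.POmega F (Cfsg.quadFormOdd m F))) = 2 * f := by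
    have h := card_out_mul hQ h5 hf' h7 h8 hsurj
    rw [Lib.AutPSL.card_fieldAuts hF, mult_range_odd m h2, card_isometry_odd hF hodd m (by omega)] at h
    refine Nat.eq_of_mul_eq_mul_right (Nat.mul_pos hU hP) ?_
    rw [← mul_assoc, h, ← two_mul_card_sq h2]
    ring
  have hL := card_similitudes_out hQ h5 hf' h7 h8 hsurj
  rw [hcard, Lib.AutPSL.card_fieldAuts hF, mul_comm 2 f] at hL
  replace hL := Nat.eq_of_mul_eq_mul_left (by omega) hL
  let sec : (F ≃+* F) →* Cfsg.Out (Cfsg.POmega F (Cfsg.quadFormOdd m F)) :=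
    (outHom hQ h5 hf').comp (MonoidHom.mk' (fun σ => ofField (qOddC m F) σ (odd_field m σ))
      fun σ τ => ext' (AddEquiv.ext fun v => rfl) rfl (by
        show (1 : F) = 1 * σ 1
        rw [map_one, one_mul]))
  have hsec : ∀ σ, tauOut hQ h5 hf' h7 h8 (sec σ) = σ := fun σ =>
    tauOut_apply hQ h5 hf' h7 h8 _
  set N := (tauOut hQ h5 hf' h7 h8).ker with hNdef
  have hN : Nat.card N = 2 := by rw [hNdef, ker_tauOut]; exact hL
  have : IsCyclic N := isCyclic_of_prime_card hN
  have : IsCyclic (F ≃+* F) := Lib.AutPSL.isCyclic_fieldAuts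
  let e₁ : N ≃* Multiplicative (ZMod 2) := mulEquivOfCyclicCardEq (by
    rw [Nat.card_congr Multiplicative.toAdd, Nat.card_zmod]; exact hN)
  let e₂ : (F ≃+* F) ≃* Multiplicative (ZMod f) := mulEquivOfCyclicCardEq (by
    rw [Nat.card_congr Multiplicative.toAdd, Nat.card_zmod]; exact Lib.AutPSL.card_fieldAuts hF)
  obtain ⟨E⟩ := nonempty_equiv_prod (N.subtype.comp e₁.symm.toMonoidHom)
    (sec.comp e₂.symm.toMonoidHom)
    (fun d n => comm_of_normal_card_two N hN (e₁.symm d).2 _)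
    (Subtype.coe_injective.comp e₁.symm.injective)
    ((Function.LeftInverse.injective (g := tauOut hQ h5 hf' h7 h8) hsec).comp e₂.symm.injective)
    (fun d n h => by
      have h1 : ((e₁.symm d : N) : _) = sec (e₂.symm n) := h
      show ((e₁.symm d : N) : Cfsg.Out (Cfsg.POmega F (Cfsg.quadFormOdd m F))) = 1
      have h3 : tauOut hQ h5 hf' h7 h8 (sec (e₂.symm n)) = 1 :=
        (congrArg (tauOut hQ h5 hf' h7 h8) h1).symm.trans (MonoidHom.mem_ker.1 (e₁.symm d).2)
      rw [hsec] at h3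
      rw [h1, h3, map_one])
    (by
      rw [hcard, Nat.card_congr Multiplicative.toAdd, Nat.card_congr Multiplicative.toAdd,
        Nat.card_zmod, Nat.card_zmod])
  exact ⟨E.trans (MulEquiv.prodMultiplicative _ _).symm⟩

end Cfsg.Agent.S2604
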