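import Cfsg.Statements.S2605
import Cfsg.Agent.Lib.AutPOmega.OutMinusStructure

set_option autoImplicit false
open Cfsg

namespace Cfsg.Agent.S2605

open Module QuadraticMap Cfsg.Agent.Lib.Forms Cfsg.Agent.Lib.OrthOmega Cfsg.Agent.Lib.OrthStd
  Cfsg.Agent.Lib.AutPOmega Cfsg.Agent.Lib.AutPOmega.Semisim


/-- Outer automorphism group of PΩ⁻_2m(q), m ≥ 4, q = 2^f: cyclic of order 2f, generated by a semilinear map inducing the Frobenius automorphism of the field (its f-th power is a graph automorphism, an orthogonal transvection). -/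
theorem result {F : Type*} [Field F] [Fintype F] {f m : ℕ} (hf : 1 ≤ f) (hF : Fintype.card F = 2 ^ f) (hm : 4 ≤ m) (a b : F) (hab : ∀ z₁ z₂ : F, z₁ ^ 2 + a * z₁ * z₂ + b * z₂ ^ 2 = 0 → z₁ = 0 ∧ z₂ = 0) : IsCyclic (Cfsg.Out (Cfsg.POmega F (Cfsg.quadFormMinus (m - 1) F a b))) ∧ Nat.card (Cfsg.Out (Cfsg.POmega F (Cfsg.quadFormMinus (m - 1) F a b))) = 2 * f := by
  obtain ⟨k, rfl⟩ : ∃ k, m = k + 1 := ⟨m - 1, by omega⟩
  rw [Nat.add_sub_cancel]
  have : Fact (Nat.Prime 2) := ⟨Nat.prime_two⟩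
  have hk : 3 ≤ k := by omega
  have hcard : Nat.card (Cfsg.Out (Cfsg.POmega F (Cfsg.quadFormMinus k F a b))) = 2 * f := by
    have hg : Nat.gcd 4 ((2 ^ f) ^ (k + 1) + 1) = 1 :=
      Nat.Coprime.pow_left 2 ((Nat.Prime.coprime_iff_not_dvd Nat.prime_two).2 (by
        rw [← even_iff_two_dvd, Nat.even_add_one, not_not, ← pow_mul, Nat.even_pow]
        exact ⟨even_two, by positivity⟩))
    rw [card_out_minus hab hk hF, hg]
    ring
  obtain ⟨S, -, -, ho, -, -⟩ := exists_frobenius_out hab hk hF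
  exact ⟨isCyclic_of_orderOf_eq_card (outMinus hab hk S) (ho.trans hcard.symm), hcard⟩

end Cfsg.Agent.S2605
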