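import Cfsg.Statements.S2606
import Cfsg.Agent.Lib.AutPOmega.OutMinusStructure

set_option autoImplicit false
open Cfsg

namespace Cfsg.Agent.S2606

open Module QuadraticMap Cfsg.Agent.Lib.Forms Cfsg.Agent.Lib.OrthOmega Cfsg.Agent.Lib.OrthStd
  Cfsg.Agent.Lib.AutPOmega Cfsg.Agent.Lib.AutPOmega.Semisim

/-- The generic case: the proper diagonal element and the Frobenius element. -/
theorem out_eq_generic {F : Type*} [Field F] [Fintype F] {p f k : ℕ} [Fact p.Prime]
    (hF : Fintype.card F = p ^ f) (h2 : (2 : F) ≠ 0) {a b : F}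
    (hab : ∀ z₁ z₂ : F, z₁ ^ 2 + a * z₁ * z₂ + b * z₂ ^ 2 = 0 → z₁ = 0 ∧ z₂ = 0) (hk : 3 ≤ k)
    (hg : Nat.gcd 4 ((p ^ f) ^ (k + 1) + 1) = 2) :
    Nonempty (Cfsg.Out (Cfsg.POmega F (Cfsg.quadFormMinus k F a b)) ≃*
      Multiplicative (ZMod 2 × ZMod (2 * f))) := by
  obtain ⟨S, -, -, ho, hdvd, hpow⟩ := exists_frobenius_out hab hk hF
  set G := Cfsg.Out (Cfsg.POmega F (Cfsg.quadFormMinus k F a b))
  set x : G := outMinus hab hk S
  set P : Subgroup G := (propDet (qMinusC k a b) (k + 1)).map (outMinus hab hk)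
  have hP : Nat.card P = 2 := by rw [card_proper_minus hab hk hF h2, hg]
  have : P.Normal := (propDet_normal _).map _ (outMinus_surjective hab hk)
  obtain ⟨e⟩ : Nonempty (P ≃* Multiplicative (ZMod 2)) := by
    have : IsCyclic P := isCyclic_of_prime_card hP
    exact ⟨mulEquivOfCyclicCardEq (by rw [hP]; simp)⟩
  obtain ⟨e'⟩ := nonempty_zpowers_equiv x ho
  obtain ⟨E⟩ := nonempty_equiv_prod (P.subtype.comp e.symm.toMonoidHom)
    ((Subgroup.zpowers x).subtype.comp e'.symm.toMonoidHom)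
    (fun d n => comm_of_normal_card_two P hP (e.symm d).2 _)
    (Subtype.coe_injective.comp e.symm.injective) (Subtype.coe_injective.comp e'.symm.injective)
    (fun d n h => by
      show ((e.symm d : P) : G) = 1
      have h1 : ((e.symm d : P) : G) = ((e'.symm n : Subgroup.zpowers x) : G) := h
      obtain ⟨i, hi⟩ := (isOfFinOrder_of_finite x).mem_powers_iff_mem_zpowers.2 (e'.symm n).2
      have hxi : x ^ i = ((e.symm d : P) : G) := hi.trans h1.symm
      have hmem : x ^ i ∈ P := hxi ▸ (e.symm d).2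
      obtain ⟨j, rfl⟩ := hdvd i (Subgroup.map_mono (fun T hT => (mem_propDet.1 hT).1) hmem)
      rw [← hxi, pow_mul]
      rcases Nat.even_or_odd j with ⟨i, rfl⟩ | ⟨i, rfl⟩
      · rw [← two_mul, ← pow_mul, show f * (2 * i) = 2 * f * i by ring, ← ho, pow_mul,
          pow_orderOf_eq_one, one_pow]
      · exfalso
        rw [pow_mul, pow_succ, ← pow_mul, show f * (2 * i) = 2 * f * i by ring, ← ho,
          pow_mul x (orderOf x), pow_orderOf_eq_one, one_pow, one_mul, hpow] at hmem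
        have h3 := (outHom_mem_map_iff _ _ _ (ker_outMinus_le hab hk h2) _).1 hmem
        exact orefl_notMem_propDet (qMinusC_nondeg k hab) h2 (k + 1) (qMinusC_frobVec_ne hab) h3)
    (by
      rw [card_out_minus hab hk hF, hg, Nat.card_congr Multiplicative.toAdd,
        Nat.card_congr Multiplicative.toAdd, Nat.card_zmod, Nat.card_zmod]
      ring)
  exact ⟨E.trans (MulEquiv.prodMultiplicative _ _).symm⟩

/-- The case `q ≡ 3 (mod 4)`, odd `m`. -/
theorem out_eq_dihedral {F : Type*} [Field F] [Fintype F] {p f k : ℕ} [Fact p.Prime]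
    (hF : Fintype.card F = p ^ f) (h2 : (2 : F) ≠ 0) {a b : F}
    (hab : ∀ z₁ z₂ : F, z₁ ^ 2 + a * z₁ * z₂ + b * z₂ ^ 2 = 0 → z₁ = 0 ∧ z₂ = 0) (hk : 3 ≤ k)
    (hkeven : Even k) (hq : p ^ f % 4 = 3) :
    Nonempty (Cfsg.Out (Cfsg.POmega F (Cfsg.quadFormMinus k F a b)) ≃*
      DihedralGroup 4 × Multiplicative (ZMod f)) := by
  obtain ⟨S, hc, hfix, ho, hdvd, -⟩ := exists_frobenius_out hab hk hF
  obtain ⟨D, hDc, hDo, hDP, hneg⟩ := exists_diag_out hab hk hF h2 hkeven hq
  have hfodd : Odd f := by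
    rcases Nat.even_or_odd f with ⟨i, hi⟩ | ho
    · exfalso
      have h4 : ∀ n : ℕ, n ^ 2 % 4 ≠ 3 := fun n => by
        rw [Nat.pow_mod]
        have := Nat.mod_lt n (show 4 > 0 by norm_num)
        interval_cases n % 4 <;> simp
      rw [hi, ← two_mul, mul_comm, pow_mul] at hq
      exact h4 _ hq
    · exact ho
  set G := Cfsg.Out (Cfsg.POmega F (Cfsg.quadFormMinus k F a b))
  set Φ := outMinus hab hk
  set x : G := Φ S
  set v : (Fin k ⊕ Fin k) ⊕ Fin 2 → F := Sum.elim 0 ![1, 0]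
  have hv : qMinusC k a b v ≠ 0 := by
    rw [qMinusC_elim, QuadraticMap.map_zero, qBin_apply]; simp
  set r : G := Φ (orthHom (orefl (qMinusC k a b) v))
  set P : Subgroup G := (propDet (qMinusC k a b) (k + 1)).map Φ
  have : P.Normal := (propDet_normal _).map _ (outMinus_surjective hab hk)
  have hrr : r * r = 1 := by
    rw [← map_mul, ← map_mul, show orefl (qMinusC k a b) v * orefl (qMinusC k a b) v = 1 from
      Subtype.ext (refl_mul_self _ _), map_one, map_one]
  have hrP : r ∉ P := fun h => orefl_notMem_propDet (qMinusC_nondeg k hab) h2 (k + 1) hv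
    ((outHom_mem_map_iff _ _ _ (ker_outMinus_le hab hk h2) _).1 h)
  have hrD : r * Φ D * r⁻¹ = (Φ D)⁻¹ := by
    refine (conj_eq_or_inv P hDP hDo r).resolve_left fun h => ?_
    have hcom : Φ D * r * (Φ D)⁻¹ = r := by
      rw [mul_inv_eq_iff_eq_mul] at h ⊢
      exact h.symm
    rw [← map_mul, ← map_inv, ← map_mul, conj_orthHom, conjO_orefl] at hcom
    have hker : orthHom (orefl (qMinusC k a b) (D.toAdd v) * orefl (qMinusC k a b) v) ∈ Φ.ker := by
      rw [MonoidHom.mem_ker, map_mul, map_mul, hcom, hrr]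
    have hEG := orth_mem_ker_outHom _ _ _ (seven_le_minus F hk) hneg hker
    have hDs : D ∈ similitudes (qMinusC k a b) := by
      have := (outHom_mem_map_iff _ _ _ (ker_outMinus_le hab hk h2) _).1
        (hDP ▸ Subgroup.mem_zpowers (Φ D) : Φ D ∈ P)
      exact this.1
    rw [← cls_eq_one_iff (qMinusC_nondeg k hab) (five_le_minus F hk), map_mul] at hEG
    have hw : qMinusC k a b (D.toAdd v) = D.c * qMinusC k a b v := by
      rw [D.map_Q', tau_apply_of_mem hDs]
    refine cls_pair_ne_one (qMinusC_nondeg k hab) h2 (by rw [finrank_minus_space]; omega)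
      (by rw [hw]; exact mul_ne_zero D.c_ne hv) hv ?_ hEG
    rw [hw, div_mul_cancel_right₀ hv, isSquare_inv]
    exact hDc
  obtain ⟨δ, hδ, hδmem⟩ := exists_dihedral_hom hDo hrr hrD (by rw [hDP]; exact hrP)
  have hxr : Commute x r := by
    show x * r = r * x
    rw [← mul_inv_eq_iff_eq_mul, ← map_mul, ← map_inv, ← map_mul, conj_orthHom, conjO_orefl, hfix]
  have hy : orderOf (x ^ 2) = f := by
    rw [orderOf_pow, ho, Nat.gcd_eq_right (Dvd.intro f rfl)]
    omega
  have hxD : Commute (x ^ 2) (Φ D) := by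
    show x ^ 2 * Φ D = Φ D * x ^ 2
    rw [← mul_inv_eq_iff_eq_mul]
    have hsplit : x ^ 2 * Φ D * (x ^ 2)⁻¹ = x * (x * Φ D * x⁻¹) * x⁻¹ := by rw [_root_.sq]; group
    rcases conj_eq_or_inv P hDP hDo x with h | h
    · rw [hsplit, h, h]
    · rw [hsplit, h, show x * (Φ D)⁻¹ * x⁻¹ = (x * Φ D * x⁻¹)⁻¹ by group, h, inv_inv]
  obtain ⟨e'⟩ := nonempty_zpowers_equiv (x ^ 2) hy
  have hL : Subgroup.closure {Φ D, r} ≤ (similitudes (qMinusC k a b)).map Φ := by
    rw [Subgroup.closure_le]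
    rintro z (rfl | rfl)
    · exact Subgroup.map_mono (fun T hT => (mem_propDet.1 hT).1) (hDP ▸ Subgroup.mem_zpowers (Φ D) : Φ D ∈ P)
    · exact Subgroup.mem_map_of_mem _ (orthHom_mem _)
  obtain ⟨E⟩ := nonempty_equiv_prod δ ((Subgroup.zpowers (x ^ 2)).subtype.comp e'.symm.toMonoidHom)
    (fun d n => by
      obtain ⟨i, hi⟩ := (e'.symm n).2
      show Commute (δ d) ((e'.symm n : Subgroup.zpowers (x ^ 2)) : G)
      rw [← hi]
      refine Commute.zpow_right ?_ i
      have hle : Subgroup.closure {Φ D, r} ≤ Subgroup.centralizer {x ^ 2} := by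
        rw [Subgroup.closure_le]
        rintro z (rfl | rfl) <;> rw [SetLike.mem_coe, Subgroup.mem_centralizer_singleton_iff]
        · exact hxD.symm
        · exact (hxr.pow_left 2).symm
      exact Subgroup.mem_centralizer_singleton_iff.1 (hle (hδmem d)))
    hδ (Subtype.coe_injective.comp e'.symm.injective)
    (fun d n h => by
      have h1 : δ d = ((e'.symm n : Subgroup.zpowers (x ^ 2)) : G) := h
      obtain ⟨i, hi⟩ :=
        (isOfFinOrder_of_finite (x ^ 2)).mem_powers_iff_mem_zpowers.2 (e'.symm n).2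
      have hxi : (x ^ 2) ^ i = δ d := hi.trans h1.symm
      have hmem : (x ^ 2) ^ i ∈ (similitudes (qMinusC k a b)).map Φ := hxi ▸ hL (hδmem d)
      rw [← pow_mul] at hmem
      obtain ⟨j, hj⟩ := (Nat.coprime_two_right.2 hfodd).dvd_of_dvd_mul_left (hdvd _ hmem)
      rw [← hxi, hj, pow_mul, ← hy, pow_orderOf_eq_one, one_pow])
    (by
      rw [card_out_minus hab hk hF, gcd_four_pow_add_one (Nat.odd_iff.2 (by omega)) (by omega),
        if_pos ⟨hq, Even.add_one hkeven⟩, DihedralGroup.nat_card,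
        Nat.card_congr Multiplicative.toAdd, Nat.card_zmod]
      ring)
  exact ⟨E⟩


/-- Outer automorphism group of PΩ⁻_2m(q), m ≥ 4, q = p^f odd: it is dihedral of order 8 times cyclic of order f when q ≡ 3 (mod 4) and m is odd, and otherwise the direct product of a group of order 2 with a cyclic group of order 2f. -/
theorem result {F : Type*} [Field F] [Fintype F] {p f m : ℕ} [Fact p.Prime] (hf : 1 ≤ f) (hF : Fintype.card F = p ^ f) (hp : p ≠ 2) (hm : 4 ≤ m) (a b : F) (hab : ∀ z₁ z₂ : F, z₁ ^ 2 + a * z₁ * z₂ + b * z₂ ^ 2 = 0 → z₁ = 0 ∧ z₂ = 0) : if p ^ f % 4 = 3 ∧ Odd m then Nonempty (Cfsg.Out (Cfsg.POmega F (Cfsg.quadFormMinus (m - 1) F a b)) ≃* DihedralGroup 4 × Multiplicative (ZMod f)) else Nonempty (Cfsg.Out (Cfsg.POmega F (Cfsg.quadFormMinus (m - 1) F a b)) ≃* Multiplicative (ZMod 2 × ZMod (2 * f))) := by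
  obtain ⟨k, rfl⟩ : ∃ k, m = k + 1 := ⟨m - 1, by omega⟩
  rw [Nat.add_sub_cancel]
  have := charP_of_card_eq_prime_pow hF
  have h2 : (2 : F) ≠ 0 := fun h => hp (two_eq_iff.1 h)
  have hodd : Odd (p ^ f) := ((Fact.out : p.Prime).odd_of_ne_two hp).pow
  have hg := gcd_four_pow_add_one (n := k + 1) hodd (by omega)
  split_ifs with h
  · refine out_eq_dihedral hF h2 hab (by omega) ?_ h.1
    simpa [Nat.odd_add_one] using h.2
  · rw [if_neg h] at hg
    exact out_eq_generic hF h2 hab (by omega) hg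

end Cfsg.Agent.S2606
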