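import Cfsg.Statements.S2610
import Cfsg.Agent.Lib.Orth52.Spinor
import Cfsg.Agent.Lib.Orth52.Discriminant
-- import your own Cfsg.Agent.* helpers here

set_option autoImplicit false
open Cfsg

namespace Cfsg.Agent.S2610

/-- For a quadratic form Q on F^n with non-degenerate polar form, F finite of odd order and n ≥ 2 even, the isometry −1 lies in Ω (the commutator subgroup of the orthogonal group) if and only if the discriminant of Q (the determinant of the Gram matrix of its polar form) is a square. -/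
theorem result {F : Type*} [Field F] [Fintype F] (h2 : (2 : F) ≠ 0) {n : ℕ} (hn : 2 ≤ n) (he : Even n) (Q : QuadraticForm F (Fin n → F)) (hQ : (QuadraticMap.polarBilin Q).Nondegenerate) : (∃ g : ↥(Cfsg.isometryGroup F ⇑Q), g ∈ Cfsg.Omega F ⇑Q ∧ ((g : Matrix.GeneralLinearGroup (Fin n) F) : Matrix (Fin n) (Fin n) F) = -1) ↔ IsSquare (Matrix.of (fun i j : Fin n => QuadraticMap.polar ⇑Q (Pi.single i 1) (Pi.single j 1))).det := by
  classical
  have hN := (Lib.Forms.nondeg_iff Q).1 hQ
  have hdim : 2 ≤ Module.finrank F (Fin n → F) := by simpa using hn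
  haveI : Invertible (2 : F) := invertibleOfNonzero h2
  have hs : LinearMap.IsSymm (QuadraticMap.polarBilin Q) :=
    ⟨fun x y => QuadraticMap.polar_comm (⇑Q) x y⟩
  obtain ⟨b₀, hb₀⟩ := LinearMap.BilinForm.exists_orthogonal_basis hs
  let b := b₀.reindex (finCongr (by simp : Module.finrank F (Fin n → F) = n))
  have hb : ∀ i j, i ≠ j → QuadraticMap.polar (⇑Q) (b i) (b j) = 0 := fun i j h => by
    simp only [b, Module.Basis.reindex_apply]
    exact hb₀ fun e => h ((finCongr _).symm.injective e)
  have hb0 : ∀ i, Q (b i) ≠ 0 := by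
    intro i h0
    refine b.ne_zero i (hN (b i) fun y => ?_)
    have : QuadraticMap.polarBilin Q (b i) = 0 := b.ext fun j => by
      by_cases h : i = j
      · subst h
        show QuadraticMap.polar (⇑Q) (b i) (b i) = 0
        rw [Lib.Forms.polar_self', h0, mul_zero]
      · exact hb i j h
    exact LinearMap.congr_fun this y
  have hvs : ∀ v ∈ List.ofFn (⇑b), Q v ≠ 0 := by
    intro v hv
    obtain ⟨i, rfl⟩ := List.mem_ofFn.1 hv
    exact hb0 i
  have horth : (List.ofFn (⇑b)).Pairwise fun v w => QuadraticMap.polar (⇑Q) v w = 0 :=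
    List.pairwise_ofFn.2 fun i j h => hb i j h.ne
  have happly : ∀ v, (Lib.Orth52.oreflProd Q (List.ofFn (⇑b))).1 v = (-1 : Matrix (Fin n) (Fin n) F).mulVec v := by
    have : (Lib.Orth52.oreflProd Q (List.ofFn (⇑b))).1.toLinearMap = -LinearMap.id := by
      refine b.ext fun i => ?_
      rw [LinearEquiv.coe_coe, Lib.Orth52.oreflProd_neg _ hvs horth (List.mem_ofFn.2 ⟨i, rfl⟩)]
      rfl
    intro v
    rw [Matrix.neg_mulVec, Matrix.one_mulVec]
    exact congrFun (congrArg DFunLike.coe this) v
  rw [Lib.Orth52.exists_Omega_iff Q (fun _ => rfl) _ _ happly,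
    Lib.Orth52.oreflProd_mem_commutator_iff hN h2 hdim _ hvs,
    and_iff_right (by simpa using he)]
  rw [List.map_ofFn, List.prod_ofFn]
  have hd := Lib.Orth52.isSquare_det_basis Q (Pi.basisFun F (Fin n)) b
  simp only [Pi.basisFun_apply] at hd
  rw [hd]
  have hG : (Matrix.of fun i j => QuadraticMap.polar (⇑Q) (b i) (b j)) =
      Matrix.diagonal fun i => 2 * Q (b i) := by
    ext i j
    by_cases h : i = j
    · subst h
      rw [Matrix.of_apply, Matrix.diagonal_apply_eq, Lib.Forms.polar_self']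
    · rw [Matrix.of_apply, Matrix.diagonal_apply_ne _ h, hb i j h]
  rw [hG, Matrix.det_diagonal, Finset.prod_mul_distrib, Finset.prod_const, Finset.card_univ,
    Fintype.card_fin]
  obtain ⟨k, hk⟩ := he
  have h2k : (2 : F) ^ n = 2 ^ k * 2 ^ k := by rw [hk, pow_add]
  rw [h2k]
  have hne : (2 : F) ^ k ≠ 0 := pow_ne_zero _ h2
  simp only [Function.comp_def]
  constructor
  · rintro ⟨r, hr⟩
    exact ⟨2 ^ k * r, by rw [hr]; ring⟩
  · rintro ⟨r, hr⟩
    refine ⟨r / 2 ^ k, ?_⟩
    field_simp
    linear_combination hr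

end Cfsg.Agent.S2610
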