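import Cfsg.Statements.S2612
import Cfsg.Agent.Lib.Orth52.PlusClasses
-- import your own Cfsg.Agent.* helpers here

set_option autoImplicit false
open Cfsg

namespace Cfsg.Agent.S2612

/-- For the hyperbolic quadratic form Σ x_i y_i on F^(2m) (F finite, m ≥ 1, excluding m = 2 over the field of two elements), Ω⁺_2m(F) (the commutator subgroup of the orthogonal group) contains an element interchanging the two complementary maximal totally singular subspaces {y = 0} and {x = 0} if and only if m is even (dimension divisible by 4). -/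
theorem result {F : Type*} [Field F] [Fintype F] {m : ℕ} (hm : 1 ≤ m) (h : Fintype.card F ≠ 2 ∨ m ≠ 2) : (∃ g : ↥(Cfsg.isometryGroup F (Cfsg.quadFormPlus m F)), g ∈ Cfsg.Omega F (Cfsg.quadFormPlus m F) ∧ (∀ v : Fin m ⊕ Fin m → F, (∀ i, v (Sum.inr i) = 0) → ∀ i, (((g : Matrix.GeneralLinearGroup (Fin m ⊕ Fin m) F) : Matrix (Fin m ⊕ Fin m) (Fin m ⊕ Fin m) F).mulVec v) (Sum.inl i) = 0) ∧ (∀ v : Fin m ⊕ Fin m → F, (∀ i, v (Sum.inl i) = 0) → ∀ i, (((g : Matrix.GeneralLinearGroup (Fin m ⊕ Fin m) F) : Matrix (Fin m ⊕ Fin m) (Fin m ⊕ Fin m) F).mulVec v) (Sum.inr i) = 0)) ↔ Even m := by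
  classical
  have hf : ∀ v, Cfsg.quadFormPlus m F v = Lib.Forms.qPlus m v := fun v => (Lib.Forms.qPlus_apply m v).symm
  constructor
  · rintro ⟨g, hg, hx, -⟩
    have hg' := (Lib.Orth52.mem_Omega_iff_orth (Lib.Forms.qPlus m) hf g).1 hg
    set o := Lib.Forms.isoOrth (Lib.Forms.qPlus m) hf g with ho
    have hd : Lib.Forms.dickson (Lib.Forms.qPlus (F := F) m) o = 0 := by
      by_cases h2 : (2 : F) = 0
      · exact (Lib.Orth52.mem_commutator_iff_two (Lib.Forms.qPlus_nondeg m) h2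
          (by rw [Lib.Orth52.finrank_plusSpace]; omega)
          (Lib.Orth52.exception_of_card (Lib.Orth52.finrank_plusSpace m) (h.imp id fun h => by omega)) o).1 hg'
      · exact ((Lib.Orth52.mem_commutator_iff_spin (Lib.Forms.qPlus_nondeg m) h2
          (by rw [Lib.Orth52.finrank_plusSpace]; omega) o).1 hg').1
    rw [Lib.Orth52.dickson_plus_parity h, Lib.Orth52.inf_map_eq_bot o
      (fun v hv i => by rw [ho, Lib.Forms.isoOrth_apply]; exact hx v hv i),
      finrank_bot, Nat.sub_zero] at hd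
    exact ZMod.natCast_eq_zero_iff_even.1 hd
  · intro he
    have hmem := Lib.Orth52.swapOrth_mem hm h he
    obtain ⟨g, hg⟩ := (Lib.Forms.isoOrth (Lib.Forms.qPlus m) hf).surjective (Lib.Orth52.swapOrth m)
    refine ⟨g, (Lib.Orth52.mem_Omega_iff_orth _ hf g).2 (hg ▸ hmem), fun v hv i => ?_, fun v hv i => ?_⟩ <;>
      rw [← Lib.Forms.isoOrth_apply (Lib.Forms.qPlus m) hf g, hg, Lib.Orth52.swapOrth_apply] <;>
      exact hv i

end Cfsg.Agent.S2612
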