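import Cfsg.Statements.S2613
import Cfsg.Agent.Lib.Orth52.NegPairs
-- import your own Cfsg.Agent.* helpers here

set_option autoImplicit false
open Cfsg

namespace Cfsg.Agent.S2613

/-- For the hyperbolic form Σ x_j y_j on F^(2m), F finite with q elements, q odd, and 1 ≤ i ≤ m: the involution negating the first i hyperbolic pairs (x_j, y_j ↦ −x_j, −y_j for j < i) and fixing the rest lies in Ω⁺_2m(q) (commutator subgroup of the orthogonal group) if and only if q^i ≡ 1 (mod 4); its (−1)-eigenspace is a hyperbolic 2i-space. -/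
theorem result {F : Type*} [Field F] [Fintype F] {q : ℕ} (hF : Fintype.card F = q) (hq : Odd q) {m : ℕ} (i : ℕ) (hi : 1 ≤ i) (him : i ≤ m) : (∃ g : ↥(Cfsg.isometryGroup F (Cfsg.quadFormPlus m F)), g ∈ Cfsg.Omega F (Cfsg.quadFormPlus m F) ∧ ((g : Matrix.GeneralLinearGroup (Fin m ⊕ Fin m) F) : Matrix (Fin m ⊕ Fin m) (Fin m ⊕ Fin m) F) = Matrix.diagonal (fun k : Fin m ⊕ Fin m => if (Sum.elim (fun j : Fin m => (j : ℕ)) (fun j : Fin m => (j : ℕ)) k) < i then (-1 : F) else 1)) ↔ q ^ i % 4 = 1 := by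
  classical
  have h2 : (2 : F) ≠ 0 := Ring.two_ne_zero (Lib.Orth52.ringChar_ne_two hF hq)
  rw [← Lib.Orth52.isSquare_neg_one_pow_iff hF hq i]
  refine Lib.Orth52.negPairs_mem_Omega_iff (q := Lib.Forms.qPlus m)
    (fun v => (Lib.Forms.qPlus_apply m v).symm) (Lib.Forms.qPlus_nondeg m) h2 hi
    (fun j => Sum.inl (Fin.castLE him j)) (fun j => Sum.inr (Fin.castLE him j)) _ ?_ ?_ ?_ ?_ ?_ ?_ ?_ ?_ ?_
  · intro j t
    simp [Lib.Forms.qPlus_apply, Pi.single_apply]
  · intro j k
    rcases k with k | k <;> simp [Lib.Forms.qPlus_polar, Pi.single_apply, eq_comm]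
  · intro j k
    rcases k with k | k <;> simp [Lib.Forms.qPlus_polar, Pi.single_apply, eq_comm]
  · exact Sum.inl_injective.comp (Fin.castLE_injective him)
  · exact Sum.inr_injective.comp (Fin.castLE_injective him)
  · intro j j'; simp
  · intro j; simp
  · intro j; simp
  · intro k hk
    rcases k with k | k <;> refine if_neg fun h => ?_
    · exact (hk ⟨k, h⟩).1 rfl
    · exact (hk ⟨k, h⟩).2 rfl

end Cfsg.Agent.S2613
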