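import Cfsg.Statements.S2616
import Cfsg.Agent.Lib.Orth52.Classify
-- import your own Cfsg.Agent.* helpers here

set_option autoImplicit false
open Cfsg

namespace Cfsg.Agent.S2616

/-- Standard bases of a non-degenerate quadratic space of even dimension 2m over a finite field: either there is a hyperbolic basis e_i, f_i (Q(e_i) = Q(f_i) = 0, B(e_i, f_j) = δ_ij, the e's pairwise orthogonal and the f's pairwise orthogonal, B the polar form), or there is an elliptic basis: hyperbolic pairs e_i, f_i for i < m − 1 together with x, y orthogonal to them with Q(x) = 1, B(x, y) = 1, Q(y) = ζ where t² + t + ζ has no root in the field. -/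
theorem result {F V : Type*} [Field F] [Finite F] [AddCommGroup V] [Module F V] [FiniteDimensional F V] {m : ℕ} (hm : 1 ≤ m) (hV : Module.finrank F V = 2 * m) (Q : QuadraticForm F V) (hQ : (QuadraticMap.polarBilin Q).Nondegenerate) : (∃ b : Module.Basis (Fin m ⊕ Fin m) F V, (∀ i, Q (b (Sum.inl i)) = 0 ∧ Q (b (Sum.inr i)) = 0) ∧ (∀ i j, QuadraticMap.polar ⇑Q (b (Sum.inl i)) (b (Sum.inr j)) = if i = j then 1 else 0) ∧ (∀ i j, QuadraticMap.polar ⇑Q (b (Sum.inl i)) (b (Sum.inl j)) = 0 ∧ QuadraticMap.polar ⇑Q (b (Sum.inr i)) (b (Sum.inr j)) = 0)) ∨ (∃ (b : Module.Basis ((Fin (m - 1) ⊕ Fin (m - 1)) ⊕ Fin 2) F V) (ζ : F), (∀ t : F, t ^ 2 + t + ζ ≠ 0) ∧ (∀ i, Q (b (Sum.inl (Sum.inl i))) = 0 ∧ Q (b (Sum.inl (Sum.inr i))) = 0) ∧ (∀ i j, QuadraticMap.polar ⇑Q (b (Sum.inl (Sum.inl i))) (b (Sum.inl (Sum.inr j))) = if i = j then 1 else 0) ∧ (∀ i j, QuadraticMap.polar ⇑Q (b (Sum.inl (Sum.inl i))) (b (Sum.inl (Sum.inl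 j))) = 0 ∧ QuadraticMap.polar ⇑Q (b (Sum.inl (Sum.inr i))) (b (Sum.inl (Sum.inr j))) = 0) ∧ (∀ i (k : Fin 2), QuadraticMap.polar ⇑Q (b (Sum.inl (Sum.inl i))) (b (Sum.inr k)) = 0 ∧ QuadraticMap.polar ⇑Q (b (Sum.inl (Sum.inr i))) (b (Sum.inr k)) = 0) ∧ Q (b (Sum.inr 0)) = 1 ∧ QuadraticMap.polar ⇑Q (b (Sum.inr 0)) (b (Sum.inr 1)) = 1 ∧ Q (b (Sum.inr 1)) = ζ) := by
  classical
  have hN := (Lib.Forms.nondeg_iff Q).1 hQ
  rcases Lib.Forms.classify Q hN with ⟨k, hk, ⟨e⟩⟩ | ⟨k, c, -, -, hk, -⟩ | ⟨k, a, b, hab, hk, ⟨e⟩⟩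
  · obtain rfl : k = m := by omega
    left
    refine ⟨(Pi.basisFun F _).map e.toLinearEquiv.symm, fun i => ?_, fun i j => ?_, fun i j => ?_⟩ <;>
      simp only [Module.Basis.map_apply, Pi.basisFun_apply, Lib.Orth52.equiv_apply, Lib.Orth52.equiv_polar]
    · exact ⟨Lib.Orth52.qPlus_single_inl k i, Lib.Orth52.qPlus_single_inr k i⟩
    · exact Lib.Orth52.qPlus_polar_lr k i j
    · exact ⟨Lib.Orth52.qPlus_polar_ll k i j, Lib.Orth52.qPlus_polar_rr k i j⟩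
  · omega
  · obtain rfl : k = m - 1 := by omega
    right
    have h2a : a ≠ 0 ∨ (2 : F) ≠ 0 := by
      by_contra hc
      push Not at hc
      obtain ⟨r, hr⟩ := Lib.Forms.exists_sqrt hc.2 b
      exact one_ne_zero (hab r 1 (by rw [hc.1]; linear_combination hr + b * hc.2)).2
    obtain ⟨B, ζ, hζ, hB0, hB01, hB1⟩ := Lib.Orth52.exists_plane_basis hab h2a
    refine ⟨((Pi.basisFun F _).prod B).map e.toLinearEquiv.symm, ζ, hζ, fun i => ?_, fun i j => ?_,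
      fun i j => ?_, fun i j => ?_, ?_, ?_, ?_⟩ <;>
      simp only [Module.Basis.map_apply, Lib.Orth52.equiv_apply, Lib.Orth52.equiv_polar,
        Lib.Orth52.prod_polar, QuadraticMap.prod_apply]
    all_goals simp [Lib.Orth52.qPlus_single_inl, Lib.Orth52.qPlus_single_inr, Lib.Orth52.qPlus_polar_lr,
      Lib.Orth52.qPlus_polar_ll, Lib.Orth52.qPlus_polar_rr, hB0, hB01, hB1]

end Cfsg.Agent.S2616
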