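import Cfsg.Statements.S2617
import Cfsg.Agent.Lib.Forms.Bridge
-- import your own Cfsg.Agent.* helpers here

set_option autoImplicit false
open Cfsg

namespace Cfsg.Agent.S2617

/-- The two standard quadratic forms of even dimension 2m over a finite field are not isometric: there is no linear isomorphism carrying the elliptic form Σ_(i<m−1) x_i y_i + z₁² + z₁z₂ + ζ z₂² (t² + t + ζ without roots) to the hyperbolic form Σ_(i<m) x_i y_i (they have different Witt index). -/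
theorem result {F : Type*} [Field F] [Finite F] {m : ℕ} (hm : 1 ≤ m) (ζ : F) (hζ : ∀ t : F, t ^ 2 + t + ζ ≠ 0) (g : (Fin m ⊕ Fin m → F) ≃ₗ[F] ((Fin (m - 1) ⊕ Fin (m - 1)) ⊕ Fin 2 → F)) : ¬ (∀ v : Fin m ⊕ Fin m → F, Cfsg.quadFormMinus (m - 1) F 1 ζ (g v) = Cfsg.quadFormPlus m F v) := by
  classical
  intro hg
  have := Fintype.ofFinite F
  have hab : ∀ z₁ z₂ : F, z₁ ^ 2 + 1 * z₁ * z₂ + ζ * z₂ ^ 2 = 0 → z₁ = 0 ∧ z₂ = 0 := by
    intro z₁ z₂ hz
    rcases eq_or_ne z₂ 0 with h0 | h0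
    · subst h0
      exact ⟨by simpa using hz, rfl⟩
    · refine absurd ?_ (hζ (z₁ / z₂))
      field_simp
      linear_combination hz
  obtain ⟨k, rfl⟩ : ∃ k, m = k + 1 := ⟨m - 1, by omega⟩
  have h1 := Lib.Forms.levelCard_qPlus (F := F) (k + 1) (c := 1) one_ne_zero
  have h2 := Lib.Forms.levelCard_qMinus k hab (c := (1 : F)) one_ne_zero
  have heq : Lib.Forms.levelCard (Lib.Forms.qPlus (F := F) (k + 1)) 1 =
      Lib.Forms.levelCard (Lib.Forms.qMinus k 1 ζ) 1 := by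
    refine Nat.card_congr (g.toEquiv.subtypeEquiv fun v => ?_)
    rw [Lib.Forms.qMinus_apply, ← Lib.Forms.qPlus_eq, ← hg v]
    rfl
  rw [h1, h2, show k + 1 - 1 = k from rfl] at heq
  have hp : 0 < Nat.card F ^ k := pow_pos Nat.card_pos k
  have := Nat.eq_of_mul_eq_mul_right hp heq
  omega

end Cfsg.Agent.S2617
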