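import Cfsg.Statements.S2618
import Cfsg.Agent.Lib.Orth52.Classify
-- import your own Cfsg.Agent.* helpers here

set_option autoImplicit false
open Cfsg

namespace Cfsg.Agent.S2618

/-- Standard (parabolic) basis of a non-degenerate quadratic space of odd dimension 2m + 1 over a finite field (the non-degeneracy of the polar form forces the characteristic to be odd): there is a basis e_i, f_i (i < m), x with Q(e_i) = Q(f_i) = 0, B(e_i, f_j) = δ_ij (B the polar form), the e's pairwise orthogonal and the f's pairwise orthogonal, x orthogonal to all of them and Q(x) ≠ 0. -/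
theorem result {F V : Type*} [Field F] [Finite F] [AddCommGroup V] [Module F V] [FiniteDimensional F V] {m : ℕ} (hV : Module.finrank F V = 2 * m + 1) (Q : QuadraticForm F V) (hQ : (QuadraticMap.polarBilin Q).Nondegenerate) : ∃ b : Module.Basis (Unit ⊕ (Fin m ⊕ Fin m)) F V, Q (b (Sum.inl ())) ≠ 0 ∧ (∀ i, QuadraticMap.polar ⇑Q (b (Sum.inl ())) (b (Sum.inr (Sum.inl i))) = 0 ∧ QuadraticMap.polar ⇑Q (b (Sum.inl ())) (b (Sum.inr (Sum.inr i))) = 0) ∧ (∀ i, Q (b (Sum.inr (Sum.inl i))) = 0 ∧ Q (b (Sum.inr (Sum.inr i))) = 0) ∧ (∀ i j, QuadraticMap.polar ⇑Q (b (Sum.inr (Sum.inl i))) (b (Sum.inr (Sum.inr j))) = if i = j then 1 else 0) ∧ (∀ i j, QuadraticMap.polar ⇑Q (b (Sum.inr (Sum.inl i))) (b (Sum.inr (Sum.inl j))) = 0 ∧ QuadraticMap.polar ⇑Q (b (Sum.inr (Sum.inr i))) (b (Sum.inr (Sum.inr j))) = 0) := by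
  classical
  have hN := (Lib.Forms.nondeg_iff Q).1 hQ
  rcases Lib.Forms.classify Q hN with ⟨k, hk, -⟩ | ⟨k, c, hc, -, hk, ⟨e⟩⟩ | ⟨k, a, b, -, hk, -⟩
  · omega
  · obtain rfl : k = m := by omega
    refine ⟨((Module.Basis.singleton Unit F).prod (Pi.basisFun F _)).map
      ((LinearEquiv.prodComm F F _).trans e.toLinearEquiv.symm), ?_, fun i => ?_, fun i => ?_,
      fun i j => ?_, fun i j => ?_⟩ <;>
      simp only [Module.Basis.map_apply, LinearEquiv.trans_apply, LinearEquiv.prodComm_apply,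
        Lib.Orth52.equiv_apply, Lib.Orth52.equiv_polar, Lib.Orth52.prod_polar, QuadraticMap.prod_apply]
    all_goals simp [Lib.Orth52.qPlus_single_inl, Lib.Orth52.qPlus_single_inr, Lib.Orth52.qPlus_polar_lr,
      Lib.Orth52.qPlus_polar_ll, Lib.Orth52.qPlus_polar_rr, Lib.Forms.qOne_apply, hc]
  · omega

end Cfsg.Agent.S2618
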