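import Cfsg.Statements.S2619
-- import your own Cfsg.Agent.* helpers here

set_option autoImplicit false
open Cfsg

namespace Cfsg.Agent.S2619

/-- Over a finite field of characteristic two, given an alternating bilinear form B on a finite-dimensional space, a basis (v_i) and scalars (λ_i), there is exactly one quadratic form whose polar form is B and whose value at each v_i is λ_i. -/
theorem result {F V ι : Type*} [Field F] [Finite F] [CharP F 2] [AddCommGroup V] [Module F V] [Fintype ι] (b : Module.Basis ι F V) (B : LinearMap.BilinForm F V) (hB : B.IsAlt) (c : ι → F) : ∃! Q : QuadraticForm F V, QuadraticMap.polarBilin Q = B ∧ ∀ i, Q (b i) = c i := by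
  classical
  let _ : LinearOrder ι := LinearOrder.lift' (Fintype.equivFin ι) (Fintype.equivFin ι).injective
  have h2 : (2 : F) = 0 := CharTwo.two_eq_zero
  have hsymm : ∀ x y, B x y = B y x := fun x y => by
    have h := hB (x + y)
    simp only [map_add, LinearMap.add_apply, hB x, hB y, zero_add, add_zero] at h
    exact (CharTwo.add_eq_zero.1 h).symm
  let M : Matrix ι ι F := Matrix.of fun i j => if i < j then B (b i) (b j) else if i = j then c i else 0
  let A : LinearMap.BilinForm F V := Matrix.toBilin b M
  have hA : ∀ i j, A (b i) (b j) = M i j := fun i j => by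
    rw [← LinearMap.BilinForm.toMatrix_apply b A, LinearMap.BilinForm.toMatrix_toBilin]
  have hpA : QuadraticMap.polarBilin (LinearMap.BilinMap.toQuadraticMap A) = B := by
    refine LinearMap.BilinForm.ext_basis b fun i j => ?_
    rw [QuadraticMap.polarBilin_apply_apply, LinearMap.BilinMap.polar_toQuadraticMap, hA, hA]
    simp only [M, Matrix.of_apply]
    rcases lt_trichotomy i j with h | h | h
    · simp [h, h.not_gt, h.ne']
    · subst h
      simp [CharTwo.add_self_eq_zero, hB (b i)]
    · simp [h, h.not_gt, h.ne', hsymm (b j)]
  refine ⟨LinearMap.BilinMap.toQuadraticMap A, ⟨hpA, fun i => ?_⟩, ?_⟩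
  · show A (b i) (b i) = c i
    simp [hA, M]
  · rintro Q ⟨hQ, hQc⟩
    refine QuadraticMap.ext fun x => ?_
    have hx : x ∈ Submodule.span F (Set.range b) := b.mem_span x
    induction hx using Submodule.span_induction with
    | mem y hy =>
      obtain ⟨i, rfl⟩ := hy
      rw [hQc]
      show _ = A (b i) (b i)
      simp [hA, M]
    | zero => simp
    | add u v _ _ hu hv =>
      rw [QuadraticMap.map_add ⇑Q, QuadraticMap.map_add ⇑(LinearMap.BilinMap.toQuadraticMap A), hu, hv,
        ← QuadraticMap.polarBilin_apply_apply, ← QuadraticMap.polarBilin_apply_apply, hQ, hpA]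
    | smul t u _ hu => rw [QuadraticMap.map_smul, QuadraticMap.map_smul, hu]

end Cfsg.Agent.S2619
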