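import Cfsg.Statements.S2621
import Cfsg.Agent.Lib.Orth52.Discriminant
-- import your own Cfsg.Agent.* helpers here

set_option autoImplicit false
open Cfsg

namespace Cfsg.Agent.S2621

/-- Discriminant of an elliptic quadratic form Σ_(i<m−1) x_i y_i + z₁² + a z₁z₂ + c z₂² (binary part anisotropic) in dimension 2m over a field with q elements, q odd, m ≥ 1: the determinant of the Gram matrix of its polar form in any basis is a square if and only if m(q − 1)/2 is odd (equivalently q^m ≡ 3 (mod 4)). -/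
theorem result {F : Type*} [Field F] [Fintype F] {q : ℕ} (hF : Fintype.card F = q) (hq : Odd q) {m : ℕ} (hm : 1 ≤ m) (a c : F) (hac : ∀ z₁ z₂ : F, z₁ ^ 2 + a * z₁ * z₂ + c * z₂ ^ 2 = 0 → z₁ = 0 ∧ z₂ = 0) {ι : Type*} [Fintype ι] [DecidableEq ι] (b : Module.Basis ι F ((Fin (m - 1) ⊕ Fin (m - 1)) ⊕ Fin 2 → F)) : IsSquare (Matrix.of (fun i j : ι => QuadraticMap.polar (Cfsg.quadFormMinus (m - 1) F a c) (b i) (b j))).det ↔ ¬ Even (m * (q - 1) / 2) := by
  classical
  obtain ⟨k, rfl⟩ : ∃ k, m = k + 1 := ⟨m - 1, by omega⟩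
  revert b; rw [show k + 1 - 1 = k from rfl]; intro b
  have h2 := Lib.Orth52.ringChar_ne_two hF hq
  have h2' : (2 : F) ≠ 0 := Ring.two_ne_zero h2
  let l : (Fin k ⊕ Fin k) ⊕ Fin 2 → ((Fin k ⊕ Fin k) ⊕ Fin 2 → F) →ₗ[F] F := fun i => LinearMap.proj i
  let Q : QuadraticForm F ((Fin k ⊕ Fin k) ⊕ Fin 2 → F) :=
    (∑ i : Fin k, QuadraticMap.linMulLin (l (Sum.inl (Sum.inl i))) (l (Sum.inl (Sum.inr i)))) +
      (QuadraticMap.linMulLin (l (Sum.inr 0)) (l (Sum.inr 0)) +
        a • QuadraticMap.linMulLin (l (Sum.inr 0)) (l (Sum.inr 1)) +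
        c • QuadraticMap.linMulLin (l (Sum.inr 1)) (l (Sum.inr 1)))
  have hQ : Cfsg.quadFormMinus k F a c = ⇑Q := by
    funext v
    simp only [Q, l, Cfsg.quadFormMinus, QuadraticMap.add_apply, QuadraticMap.sum_apply,
      QuadraticMap.smul_apply, QuadraticMap.linMulLin_apply, LinearMap.proj_apply, smul_eq_mul]
    ring
  rw [hQ, Lib.Orth52.isSquare_det_basis Q b (Pi.basisFun F _)]
  simp only [Pi.basisFun_apply]
  have hG : (Matrix.of fun i j : (Fin k ⊕ Fin k) ⊕ Fin 2 =>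
      QuadraticMap.polar (⇑Q) (Pi.single i 1) (Pi.single j 1)) =
      Matrix.fromBlocks (Matrix.fromBlocks 0 1 1 0) 0 0 !![2, a; a, 2 * c] := by
    ext i j
    rw [Matrix.of_apply, ← hQ]
    simp only [QuadraticMap.polar, Cfsg.quadFormMinus, Pi.add_apply, Pi.single_apply]
    rcases i with (i | i) | i <;> rcases j with (j | j) | j <;>
      first
        | (fin_cases i <;> fin_cases j <;> simp <;> ring)
        | (fin_cases j <;> simp [Matrix.one_apply, eq_comm, add_mul, mul_add, Finset.sum_add_distrib])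
        | (fin_cases i <;> simp [Matrix.one_apply, eq_comm, add_mul, mul_add, Finset.sum_add_distrib])
        | simp [Matrix.one_apply, eq_comm, add_mul, mul_add, Finset.sum_add_distrib]
  rw [hG, Matrix.det_fromBlocks_zero₂₁, Lib.Orth52.det_swap_blocks, Matrix.det_fin_two_of]
  have hns := Lib.Orth52.binary_disc_not_square h2' hac
  have hne : a ^ 2 - 4 * c ≠ 0 := fun h => hns (h ▸ IsSquare.zero)
  rw [show (-1 : F) ^ k * (2 * (2 * c) - a * a) = (-1) ^ (k + 1) * (a ^ 2 - 4 * c) by ring,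
    Lib.Orth52.isSquare_mul_nonsquare h2 (pow_ne_zero _ (neg_ne_zero.2 one_ne_zero)) hne hns,
    Lib.Orth52.isSquare_neg_one_pow hF hq]

end Cfsg.Agent.S2621
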