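import Cfsg.Statements.S2622
import Cfsg.Agent.Lib.Char2Inv.Forms
-- import your own Cfsg.Agent.* helpers here

set_option autoImplicit false
open Cfsg

namespace Cfsg.Agent.S2622

/-- Over a finite field of characteristic two, a non-degenerate symmetric bilinear form that is not alternating (some vector v has B(v, v) ≠ 0) admits an orthonormal basis. -/
theorem result {F V : Type*} [Field F] [Finite F] [CharP F 2] [AddCommGroup V] [Module F V] [FiniteDimensional F V] {n : ℕ} (hV : Module.finrank F V = n) (B : LinearMap.BilinForm F V) (hS : B.IsSymm) (hB : B.Nondegenerate) (hna : ∃ v : V, B v v ≠ 0) : ∃ b : Module.Basis (Fin n) F V, ∀ i j, B (b i) (b j) = if i = j then 1 else 0 := by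
  let β : V → V → F := fun u v => B u v
  have hβ : Lib.Char2Inv.Forms.IsHerm (RingHom.id F) β :=
    ⟨fun u v w => by simp [β], fun c u v => by simp [β], fun u v => by simp [β, hS.eq v u], fun x => rfl⟩
  have hnorm : ∀ c : F, (RingHom.id F) c = c → ∃ d, d * (RingHom.id F) d = c := fun c _ => by
    obtain ⟨d, hd⟩ := FiniteField.isSquare_of_char_two (ringChar.eq F 2) c
    exact ⟨d, hd.symm⟩
  obtain ⟨k, e, he⟩ := Lib.Char2Inv.Forms.exists_orthonormal_frame hβ hnorm ⊤
    (fun x _ hx => hB.1 x fun y => hx y trivial) (fun _ => hna.imp fun v hv => ⟨trivial, hv⟩)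
  have hk : n = k := by
    have := he.finrank_eq hβ
    rw [finrank_top, Fintype.card_fin] at this
    omega
  subst hk
  refine ⟨he.basis hβ, fun i j => ?_⟩
  rw [he.basis_apply hβ, he.basis_apply hβ]
  simpa [β, eq_comm] using he.gram i j

end Cfsg.Agent.S2622
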