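import Cfsg.Statements.S2624
import Cfsg.Agent.Lib.Orth52.Classify
-- import your own Cfsg.Agent.* helpers here

set_option autoImplicit false
open Cfsg

namespace Cfsg.Agent.S2624

/-- For a quadratic form Q on F^n with non-degenerate polar form, F finite and n ≥ 2 even, every non-zero scalar c is the multiplier of some similarity: there is an invertible linear map g with Q(g v) = c·Q(v) for all v. -/
theorem result {F : Type*} [Field F] [Fintype F] {n : ℕ} (hn : 2 ≤ n) (he : Even n) (Q : QuadraticForm F (Fin n → F)) (hQ : (QuadraticMap.polarBilin Q).Nondegenerate) (c : F) (hc : c ≠ 0) : ∃ g : (Fin n → F) ≃ₗ[F] (Fin n → F), ∀ v, Q (g v) = c * Q v := by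
  classical
  have hN := (Lib.Forms.nondeg_iff Q).1 hQ
  have hd : Module.finrank F (Fin n → F) = n := by simp
  obtain ⟨r, hr⟩ := he
  rcases Lib.Forms.classify Q hN with ⟨k, -, ⟨e⟩⟩ | ⟨k, d, -, -, hk, -⟩ | ⟨k, a, b, hab, -, ⟨e⟩⟩
  · obtain ⟨g, hg⟩ := Lib.Orth52.exists_similar_qPlus (F := F) k hc
    refine ⟨(e.toLinearEquiv.trans g).trans e.toLinearEquiv.symm, fun v => ?_⟩
    rw [LinearEquiv.trans_apply, LinearEquiv.trans_apply, Lib.Orth52.equiv_apply, hg, ← e.map_app v]
    rfl
  · omega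
  · obtain ⟨g, hg⟩ := Lib.Orth52.exists_similar_qPlus (F := F) k hc
    obtain ⟨g', hg'⟩ := Lib.Orth52.exists_similar_qBin hab hc
    refine ⟨(e.toLinearEquiv.trans (g.prodCongr g')).trans e.toLinearEquiv.symm, fun v => ?_⟩
    rw [LinearEquiv.trans_apply, LinearEquiv.trans_apply, Lib.Orth52.equiv_apply, ← e.map_app v,
      LinearEquiv.prodCongr_apply, QuadraticMap.prod_apply, QuadraticMap.prod_apply, hg, hg', mul_add]
    rfl

end Cfsg.Agent.S2624
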