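import Cfsg.Statements.S2625
import Cfsg.Agent.Lib.Forms.Det
-- import your own Cfsg.Agent.* helpers here

set_option autoImplicit false
open Cfsg

namespace Cfsg.Agent.S2625

/-- For a quadratic form Q on F^n with non-degenerate polar form, F finite and n odd (so |F| is odd), the multiplier of any similarity is a square: if g is an invertible linear map with Q(g v) = c·Q(v) for all v then c is a square. -/
theorem result {F : Type*} [Field F] [Fintype F] {n : ℕ} (hn : Odd n) (Q : QuadraticForm F (Fin n → F)) (hQ : (QuadraticMap.polarBilin Q).Nondegenerate) (g : (Fin n → F) ≃ₗ[F] (Fin n → F)) (c : F) (hg : ∀ v, Q (g v) = c * Q v) : IsSquare c := by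
  rcases eq_or_ne (ringChar F) 2 with hc2 | hc2
  · exact FiniteField.isSquare_of_char_two hc2 c
  have hN := (Lib.Forms.nondeg_iff Q).1 hQ
  let G : Matrix (Fin n) (Fin n) F := LinearMap.toMatrix' g.toLinearMap
  have hG : ∀ v, Q (G.mulVec v) = c * Q v := fun v => by
    rw [← hg v]; congr 1
    exact LinearMap.toMatrix'_mulVec g.toLinearMap v
  have hM : G.transpose * Lib.Forms.gram Q * G = c • Lib.Forms.gram Q := by
    have hpol : ∀ u v, QuadraticMap.polar Q (G.mulVec u) (G.mulVec v) = c * QuadraticMap.polar Q u v := by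
      intro u v
      simp only [QuadraticMap.polar, ← Matrix.mulVec_add, hG]
      ring
    ext i j
    have h := hpol (Pi.single i 1) (Pi.single j 1)
    rw [Lib.Forms.polar_eq_gram, Lib.Forms.polar_eq_gram, Matrix.mulVec_mulVec,
      Matrix.dotProduct_mulVec, ← Matrix.vecMul_transpose, Matrix.vecMul_vecMul,
      ← Matrix.dotProduct_mulVec] at h
    simpa [Matrix.mul_assoc, Matrix.mulVec_single, single_dotProduct, mul_comm c] using h
  have hd := congrArg Matrix.det hM
  rw [Matrix.det_mul, Matrix.det_mul, Matrix.det_transpose, Matrix.det_smul, Fintype.card_fin] at hd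
  have hd' : c ^ n = G.det * G.det := by
    refine mul_right_cancel₀ (Lib.Forms.gram_det_ne_zero hN) ?_
    rw [← hd]; ring
  obtain ⟨k, rfl⟩ := hn
  rcases eq_or_ne c 0 with rfl | h0
  · exact IsSquare.zero
  · refine ⟨G.det / c ^ k, ?_⟩
    field_simp
    rw [pow_succ] at hd'
    linear_combination hd'

end Cfsg.Agent.S2625
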