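import Cfsg.Statements.S2627
import Cfsg.Agent.Lib.Orth52.SumOrth
import Cfsg.Agent.Lib.Orth52.LeviHom
-- import your own Cfsg.Agent.* helpers here

set_option autoImplicit false
open Cfsg

namespace Cfsg.Agent.S2627

/-- For an orthogonal direct sum Q = Q₁ ⊕ Q₂ of quadratic forms with non-degenerate polar forms over a finite field, an isometry g₁ of Q₁ extended by the identity on the second summand lies in Ω(Q) (the commutator subgroup of the orthogonal group of Q) if and only if g₁ lies in Ω(Q₁). (Excluded: the field of two elements when the first summand or the whole space has dimension 4, where the commutator subgroup of O⁺₄(2) is smaller than the group usually called Ω.) -/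
theorem result {F : Type*} [Field F] [Fintype F] {k l : ℕ} (h : Fintype.card F ≠ 2 ∨ (k ≠ 4 ∧ k + l ≠ 4)) (Q₁ : QuadraticForm F (Fin k → F)) (Q₂ : QuadraticForm F (Fin l → F)) (h₁ : (QuadraticMap.polarBilin Q₁).Nondegenerate) (h₂ : (QuadraticMap.polarBilin Q₂).Nondegenerate) (g₁ : ↥(Cfsg.isometryGroup F ⇑Q₁)) : (∃ g : ↥(Cfsg.isometryGroup F (fun v : Fin k ⊕ Fin l → F => Q₁ (v ∘ Sum.inl) + Q₂ (v ∘ Sum.inr))), g ∈ Cfsg.Omega F (fun v : Fin k ⊕ Fin l → F => Q₁ (v ∘ Sum.inl) + Q₂ (v ∘ Sum.inr)) ∧ ((g : Matrix.GeneralLinearGroup (Fin k ⊕ Fin l) F) : Matrix (Fin k ⊕ Fin l) (Fin k ⊕ Fin l) F) = Matrix.fromBlocks ((g₁ : Matrix.GeneralLinearGroup (Fin k) F) : Matrix (Fin k) (Fin k) F) 0 0 1) ↔ g₁ ∈ Cfsg.Omega F ⇑Q₁ := by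
  classical
  have hN₁ := (Lib.Forms.nondeg_iff Q₁).1 h₁
  have hN₂ := (Lib.Forms.nondeg_iff Q₂).1 h₂
  constructor
  swap
  · intro hg
    exact ⟨Lib.Orth52.sumHom (⇑Q₁) (⇑Q₂) (g₁, 1),
      Lib.Orth52.sumHom_mem_Omega _ _ hg (one_mem _), rfl⟩
  rintro ⟨g, hg, hM⟩
  obtain rfl : g = Lib.Orth52.sumHom (⇑Q₁) (⇑Q₂) (g₁, 1) := by
    apply Subtype.ext; apply Units.ext; exact hM
  rcases Nat.lt_or_ge k 2 with hk | hk
  · -- determinant
    have hdet : Matrix.GeneralLinearGroup.det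
        ((Lib.Orth52.sumHom (⇑Q₁) (⇑Q₂) (g₁, 1)).1) = 1 :=
      MonoidHom.mem_ker.1 (Abelianization.commutator_subset_ker
        (Matrix.GeneralLinearGroup.det.comp (Cfsg.isometryGroup F _).subtype) hg)
    have hdet' : ((g₁ : Matrix.GeneralLinearGroup (Fin k) F) : Matrix (Fin k) (Fin k) F).det = 1 := by
      have := congrArg Units.val hdet
      rw [Matrix.GeneralLinearGroup.val_det_apply, Lib.Orth52.coe_sumHom,
        Matrix.det_fromBlocks_zero₂₁] at this
      simpa using this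
    have : g₁ = 1 := by
      apply Subtype.ext; apply Units.ext
      show ((g₁ : Matrix.GeneralLinearGroup (Fin k) F) : Matrix (Fin k) (Fin k) F) = 1
      interval_cases k
      · exact Subsingleton.elim _ _
      · ext i j
        rw [Matrix.det_fin_one] at hdet'
        rw [Subsingleton.elim i 0, Subsingleton.elim j 0, hdet']
        simp
    rw [this]
    exact one_mem _
  have hd₁ : Module.finrank F (Fin k → F) = k := by simp
  have hd : Module.finrank F (Fin k ⊕ Fin l → F) = k + l := by simp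
  have hN := Lib.Orth52.sumQuad_nondeg hN₁ hN₂
  rw [Lib.Orth52.mem_Omega_iff_orth Q₁ (fun _ => rfl)]
  replace hg := (Lib.Orth52.mem_Omega_iff_orth (Lib.Orth52.sumQuad Q₁ Q₂)
    (Lib.Orth52.sumForm_eq Q₁ Q₂) (Lib.Orth52.sumHom (⇑Q₁) (⇑Q₂) (g₁, 1))).1 hg
  rw [Lib.Orth52.isoOrth_sumHom, map_one] at hg
  have hex₁ := Lib.Orth52.exception_of_card hd₁ (h.imp id And.left)
  have hex := Lib.Orth52.exception_of_card hd (h.imp id And.right)
  by_cases h2 : (2 : F) = 0
  · rw [Lib.Orth52.mem_commutator_iff_two hN₁ h2 (by omega) hex₁]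
    rw [Lib.Orth52.mem_commutator_iff_two hN h2 (by omega) hex, Lib.Orth52.dickson_sumOrth,
      Lib.Forms.dickson_one, add_zero] at hg
    exact hg
  · rw [Lib.Orth52.mem_commutator_iff_spin hN₁ h2 (by omega)]
    rw [Lib.Orth52.mem_commutator_iff_spin hN h2 (by omega), Lib.Orth52.dickson_sumOrth,
      Lib.Forms.dickson_one, add_zero, Lib.Orth52.spinHom_sumOrth_left hN₁ hN₂ h2 (by omega)] at hg
    exact hg

end Cfsg.Agent.S2627
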