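import Cfsg.Statements.S2628
import Cfsg.Agent.Lib.Orth52.SumOrth
import Cfsg.Agent.Lib.Orth52.LeviHom
-- import your own Cfsg.Agent.* helpers here

set_option autoImplicit false
open Cfsg

namespace Cfsg.Agent.S2628

/-- For the orthogonal direct sum Q ⊕ Q of two copies of a quadratic form Q with non-degenerate polar form on F^k (F finite), every isometry g of Q acting diagonally, diag(g, g), lies in Ω(Q ⊕ Q), the commutator subgroup of the orthogonal group of Q ⊕ Q. (Excluded: k = 2 over the field of two elements, where Q ⊕ Q is the hyperbolic 4-space whose orthogonal group's commutator subgroup is smaller than the group usually called Ω.) -/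
theorem result {F : Type*} [Field F] [Fintype F] {k : ℕ} (h : Fintype.card F ≠ 2 ∨ k ≠ 2) (Q : QuadraticForm F (Fin k → F)) (hQ : (QuadraticMap.polarBilin Q).Nondegenerate) (g : ↥(Cfsg.isometryGroup F ⇑Q)) : ∃ x : ↥(Cfsg.isometryGroup F (fun v : Fin k ⊕ Fin k → F => Q (v ∘ Sum.inl) + Q (v ∘ Sum.inr))), x ∈ Cfsg.Omega F (fun v : Fin k ⊕ Fin k → F => Q (v ∘ Sum.inl) + Q (v ∘ Sum.inr)) ∧ ((x : Matrix.GeneralLinearGroup (Fin k ⊕ Fin k) F) : Matrix (Fin k ⊕ Fin k) (Fin k ⊕ Fin k) F) = Matrix.fromBlocks ((g : Matrix.GeneralLinearGroup (Fin k) F) : Matrix (Fin k) (Fin k) F) 0 0 ((g : Matrix.GeneralLinearGroup (Fin k) F) : Matrix (Fin k) (Fin k) F) := by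
  classical
  have hN := (Lib.Forms.nondeg_iff Q).1 hQ
  have hd : Module.finrank F (Fin k ⊕ Fin k → F) = 2 * k := by simp; omega
  refine ⟨Lib.Orth52.sumHom (⇑Q) (⇑Q) (g, g), ?_, rfl⟩
  rcases Nat.eq_zero_or_pos k with rfl | hk
  · have : Lib.Orth52.sumHom (⇑Q) (⇑Q) (g, g) = 1 := by
      apply Subtype.ext; apply Units.ext; exact Subsingleton.elim _ _
    rw [this]
    exact one_mem _
  refine (Lib.Orth52.mem_Omega_iff_orth (Lib.Orth52.sumQuad Q Q)
    (Lib.Orth52.sumForm_eq Q Q) _).2 ?_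
  rw [Lib.Orth52.isoOrth_sumHom]
  have hNs := Lib.Orth52.sumQuad_nondeg hN hN
  have hex := Lib.Orth52.exception_of_card hd (h.imp id fun h => by omega)
  have hdk : Lib.Forms.dickson (Lib.Orth52.sumQuad Q Q) (Lib.Orth52.sumOrth Q Q
      (Lib.Forms.isoOrth Q (fun _ => rfl) g, Lib.Forms.isoOrth Q (fun _ => rfl) g)) = 0 := by
    rw [Lib.Orth52.dickson_sumOrth]; exact CharTwo.add_self_eq_zero _
  by_cases h2 : (2 : F) = 0
  · exact (Lib.Orth52.mem_commutator_iff_two hNs h2 (by omega) hex _).2 hdk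
  · exact (Lib.Orth52.mem_commutator_iff_spin hNs h2 (by omega) _).2
      ⟨hdk, Lib.Orth52.spinHom_sumOrth_diag hN h2 (by omega) _⟩

end Cfsg.Agent.S2628
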