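import Cfsg.Statements.S2629
import Cfsg.Agent.Lib.Orth52.PlusClasses
-- import your own Cfsg.Agent.* helpers here

set_option autoImplicit false
open Cfsg

namespace Cfsg.Agent.S2629

/-- For the hyperbolic form Σ x_i y_i on F^(2m) over a finite field of odd order (m ≥ 1), an isometry g preserves the class of the maximal totally singular subspace U₀ = {y = 0} (that is, m − dim(U₀ ∩ gU₀) is even) if and only if det g = 1: the stabiliser of each of the two classes of maximal totally singular subspaces is SO. -/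
theorem result {F : Type*} [Field F] [Fintype F] (h2 : (2 : F) ≠ 0) {m : ℕ} (hm : 1 ≤ m) (g : ↥(Cfsg.isometryGroup F (Cfsg.quadFormPlus m F))) : Even (m - Module.finrank F ↥(LinearMap.ker (LinearMap.funLeft F F (Sum.inr : Fin m → Fin m ⊕ Fin m)) ⊓ (LinearMap.ker (LinearMap.funLeft F F (Sum.inr : Fin m → Fin m ⊕ Fin m))).map (Matrix.mulVecLin ((g : Matrix.GeneralLinearGroup (Fin m ⊕ Fin m) F) : Matrix (Fin m ⊕ Fin m) (Fin m ⊕ Fin m) F)))) ↔ ((g : Matrix.GeneralLinearGroup (Fin m ⊕ Fin m) F) : Matrix (Fin m ⊕ Fin m) (Fin m ⊕ Fin m) F).det = 1 := by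
  classical
  have hf : ∀ v, Cfsg.quadFormPlus m F v = Lib.Forms.qPlus m v := fun v => (Lib.Forms.qPlus_apply m v).symm
  have hn : 2 ≤ Module.finrank F (Fin m ⊕ Fin m → F) := by rw [Lib.Orth52.finrank_plusSpace]; omega
  have hmap : (Lib.Forms.isoOrth (Lib.Forms.qPlus m) hf g).1.toLinearMap =
      Matrix.mulVecLin ((g : Matrix.GeneralLinearGroup (Fin m ⊕ Fin m) F) : Matrix (Fin m ⊕ Fin m) (Fin m ⊕ Fin m) F) :=
    LinearMap.ext fun v => Lib.Forms.isoOrth_apply _ hf g v
  rw [← ZMod.natCast_eq_zero_iff_even, ← hmap]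
  rw [← Lib.Orth52.dickson_plus_parity (Or.inl (fun h4 => by
    exact h2 (by
      have : ((Fintype.card F : ℕ) : F) = 0 := FiniteField.cast_card_eq_zero F
      rw [h4] at this; exact_mod_cast this))) (Lib.Forms.isoOrth (Lib.Forms.qPlus m) hf g)]
  obtain ⟨g', hg'⟩ : ∃ g' : ↥(Cfsg.isometryGroup F ⇑(Lib.Forms.qPlus (F := F) m)),
      (g' : Matrix.GeneralLinearGroup (Fin m ⊕ Fin m) F) = (g : Matrix.GeneralLinearGroup (Fin m ⊕ Fin m) F) :=
    ⟨⟨g, fun u v => by
      have := g.2 u v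
      simp only [hf] at this
      exact this⟩, rfl⟩
  rw [← hg', Lib.Orth52.det_orth_eq (Lib.Forms.qPlus m) (Lib.Forms.qPlus_nondeg m) h2 g']
  have : Lib.Forms.isoOrth (Lib.Forms.qPlus m) (fun _ => rfl) g' = Lib.Forms.isoOrth (Lib.Forms.qPlus m) hf g := by
    apply Subtype.ext
    ext v : 1
    rw [Lib.Forms.isoOrth_apply, Lib.Forms.isoOrth_apply, hg']
  rw [this]

end Cfsg.Agent.S2629
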