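import Cfsg.Statements.S2630
import Cfsg.Agent.Lib.Orth52.PlusClasses
-- import your own Cfsg.Agent.* helpers here

set_option autoImplicit false
open Cfsg

namespace Cfsg.Agent.S2630

/-- For the hyperbolic form Σ x_i y_i on F^(2m) over a finite field of characteristic two (m ≥ 1, excluding m = 2 over the field of two elements), an isometry g preserves the class of the maximal totally singular subspace U₀ = {y = 0} (m − dim(U₀ ∩ gU₀) even) if and only if g lies in Ω (the commutator subgroup of the orthogonal group): the stabiliser of each class is Ω. -/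
theorem result {F : Type*} [Field F] [Fintype F] [CharP F 2] {m : ℕ} (hm : 1 ≤ m) (h : Fintype.card F ≠ 2 ∨ m ≠ 2) (g : ↥(Cfsg.isometryGroup F (Cfsg.quadFormPlus m F))) : Even (m - Module.finrank F ↥(LinearMap.ker (LinearMap.funLeft F F (Sum.inr : Fin m → Fin m ⊕ Fin m)) ⊓ (LinearMap.ker (LinearMap.funLeft F F (Sum.inr : Fin m → Fin m ⊕ Fin m))).map (Matrix.mulVecLin ((g : Matrix.GeneralLinearGroup (Fin m ⊕ Fin m) F) : Matrix (Fin m ⊕ Fin m) (Fin m ⊕ Fin m) F)))) ↔ g ∈ Cfsg.Omega F (Cfsg.quadFormPlus m F) := by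
  classical
  have hf : ∀ v, Cfsg.quadFormPlus m F v = Lib.Forms.qPlus m v := fun v => (Lib.Forms.qPlus_apply m v).symm
  have hn : 2 ≤ Module.finrank F (Fin m ⊕ Fin m → F) := by rw [Lib.Orth52.finrank_plusSpace]; omega
  have hmap : (Lib.Forms.isoOrth (Lib.Forms.qPlus m) hf g).1.toLinearMap =
      Matrix.mulVecLin ((g : Matrix.GeneralLinearGroup (Fin m ⊕ Fin m) F) : Matrix (Fin m ⊕ Fin m) (Fin m ⊕ Fin m) F) :=
    LinearMap.ext fun v => Lib.Forms.isoOrth_apply _ hf g v
  rw [← ZMod.natCast_eq_zero_iff_even, ← hmap]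
  rw [← Lib.Orth52.dickson_plus_parity h (Lib.Forms.isoOrth (Lib.Forms.qPlus m) hf g),
    Lib.Orth52.mem_Omega_iff_orth (Lib.Forms.qPlus m) hf g,
    Lib.Orth52.mem_commutator_iff_two (Lib.Forms.qPlus_nondeg m) CharTwo.two_eq_zero hn
      (Lib.Orth52.exception_of_card (Lib.Orth52.finrank_plusSpace m) (h.imp id fun h => by omega))]

end Cfsg.Agent.S2630
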