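import Cfsg.Statements.S2634
import Cfsg.Agent.Lib.Orth52.Transitive
import Cfsg.Agent.Lib.Orth52.LeviHom
-- import your own Cfsg.Agent.* helpers here

set_option autoImplicit false
open Cfsg

namespace Cfsg.Agent.S2634

/-- Over a finite field of characteristic two, Ω (the commutator subgroup of the orthogonal group of a quadratic form Q on F^n with non-degenerate polar form; excluding dimension 4 over the field of two elements) acts transitively on the non-singular 1-spaces: for u, v with Q(u) ≠ 0 and Q(v) ≠ 0 some element of Ω carries the line through u to the line through v. -/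
theorem result {F : Type*} [Field F] [Fintype F] [CharP F 2] {n : ℕ} (h : Fintype.card F ≠ 2 ∨ n ≠ 4) (Q : QuadraticForm F (Fin n → F)) (hQ : (QuadraticMap.polarBilin Q).Nondegenerate) (u v : Fin n → F) (hu : Q u ≠ 0) (hv : Q v ≠ 0) : ∃ g : ↥(Cfsg.isometryGroup F ⇑Q), g ∈ Cfsg.Omega F ⇑Q ∧ (F ∙ ((g : Matrix.GeneralLinearGroup (Fin n) F) : Matrix (Fin n) (Fin n) F).mulVec u) = F ∙ v := by
  have hN := (Lib.Forms.nondeg_iff Q).1 hQ
  have hd : Module.finrank F (Fin n → F) = n := by simp
  have h2 : (2 : F) = 0 := CharTwo.two_eq_zero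
  have hn : 2 ≤ n := by
    by_contra hc
    apply hu
    have hu0 : u = 0 := hN u fun y => by
      rcases Nat.lt_or_ge n 1 with h1 | h1
      · have : u = 0 := funext fun i => absurd i.2 (by omega)
        rw [this, QuadraticMap.polar_zero_left]
      · obtain rfl : n = 1 := by omega
        rcases eq_or_ne u 0 with h0 | h0
        · rw [h0, QuadraticMap.polar_zero_left]
        · obtain ⟨c, rfl⟩ := Submodule.mem_span_singleton.1
            (show y ∈ F ∙ u by rw [(Submodule.eq_top_of_finrank_eq (by rw [finrank_span_singleton h0, hd]) : (F ∙ u) = ⊤)]; trivial)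
          rw [QuadraticMap.polar_smul_right, Lib.Forms.polar_self', h2, zero_mul, smul_zero]
    rw [hu0, QuadraticMap.map_zero]
  obtain ⟨o, ho, hmap⟩ := Lib.Orth52.exists_commutator_point hN h2 (by omega)
    (Lib.Orth52.exception_of_card hd h) hu hv
  obtain ⟨g, rfl⟩ := (Lib.Forms.isoOrth Q (fun _ => rfl)).surjective o
  exact ⟨g, (Lib.Orth52.mem_Omega_iff_orth Q (fun _ => rfl) g).2 ho, hmap⟩

end Cfsg.Agent.S2634
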