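import Cfsg.Statements.S2635
import Cfsg.Agent.Lib.Orth52.Transitive
import Cfsg.Agent.Lib.Orth52.LeviHom
-- import your own Cfsg.Agent.* helpers here

set_option autoImplicit false
open Cfsg

namespace Cfsg.Agent.S2635

/-- Over a finite field of characteristic two, for a quadratic form Q on F^n with non-degenerate polar form, n ≥ 2, other than dimension 4 over the field of two elements, Ω (the commutator subgroup of the orthogonal group) is exactly the subgroup generated by the products of two reflections (orthogonal transvections) x ↦ x − Q(v)⁻¹ f(x, v) v, Q(v) ≠ 0: the products of an even number of reflections. -/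
theorem result {F : Type*} [Field F] [Fintype F] [CharP F 2] {n : ℕ} (hn : 2 ≤ n) (h : Fintype.card F ≠ 2 ∨ n ≠ 4) (Q : QuadraticForm F (Fin n → F)) (hQ : (QuadraticMap.polarBilin Q).Nondegenerate) : Cfsg.Omega F ⇑Q = Subgroup.closure {g : ↥(Cfsg.isometryGroup F ⇑Q) | ∃ u v : Fin n → F, Q u ≠ 0 ∧ Q v ≠ 0 ∧ ((g : Matrix.GeneralLinearGroup (Fin n) F) : Matrix (Fin n) (Fin n) F) = Cfsg.reflectionMatrix ⇑Q u * Cfsg.reflectionMatrix ⇑Q v} := by
  have hN := (Lib.Forms.nondeg_iff Q).1 hQ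
  have hd : Module.finrank F (Fin n → F) = n := by simp
  ext g
  rw [Lib.Orth52.mem_Omega_iff_orth Q (fun _ => rfl) g, Lib.Orth52.commutator_eq_closure_pairs hN
    CharTwo.two_eq_zero (by omega) (Lib.Orth52.exception_of_card hd h)]
  refine Iff.trans (b := g ∈ (Subgroup.closure {o : ↥(Lib.Forms.orth Q) | ∃ u v, Q u ≠ 0 ∧ Q v ≠ 0 ∧ o = Lib.Forms.orefl Q u * Lib.Forms.orefl Q v}).map
    (Lib.Forms.isoOrth Q (fun _ => rfl)).symm.toMonoidHom) ?_ ?_
  · exact ⟨fun ho => ⟨_, ho, (Lib.Forms.isoOrth Q (fun _ => rfl)).symm_apply_apply g⟩,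
      fun ⟨o, ho, e⟩ => by rw [← e]; simpa using ho⟩
  rw [MonoidHom.map_closure]
  refine Iff.of_eq (congrArg (fun S => g ∈ Subgroup.closure S) (Set.ext fun x => ?_))
  constructor
  · rintro ⟨o, ⟨u, v, hu, hv, rfl⟩, rfl⟩
    refine ⟨u, v, hu, hv, Matrix.ext_of_mulVec_single fun j => ?_⟩
    rw [← Lib.Forms.isoOrth_apply Q (fun _ => rfl), ← Matrix.mulVec_mulVec, Lib.Forms.reflectionMatrix_mulVec,
      Lib.Forms.reflectionMatrix_mulVec]
    simp [Lib.Forms.orefl]
  · rintro ⟨u, v, hu, hv, hx⟩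
    refine ⟨_, ⟨u, v, hu, hv, rfl⟩, ?_⟩
    show (Lib.Forms.isoOrth Q (fun _ => rfl)).symm _ = x
    rw [MulEquiv.symm_apply_eq]
    apply Subtype.ext
    ext w : 1
    rw [Lib.Forms.isoOrth_apply, hx, ← Matrix.mulVec_mulVec, Lib.Forms.reflectionMatrix_mulVec,
      Lib.Forms.reflectionMatrix_mulVec]
    rfl

end Cfsg.Agent.S2635
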