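import Cfsg.Statements.S2636
import Cfsg.Agent.Lib.AutPSL.FixField
-- import your own Cfsg.Agent.* helpers here

set_option autoImplicit false
open Cfsg

namespace Cfsg.Agent.S2636

/-- Centraliser of a field automorphism in PGL_n: let F be the field with q = q₀^r elements, σ a field automorphism of F of prime order r (so its fixed field has q₀ elements) and n ≥ 1. The invertible matrices g whose entrywise image under σ is a scalar multiple of g — those whose coset modulo scalars is fixed by σ — number (q − 1)/(q₀ − 1) · |GL_n(q₀)|; equivalently the centraliser in PGL_n(q) of the induced automorphism has the order of PGL_n(q₀). -/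
theorem result {F : Type*} [Field F] [Fintype F] {q₀ r n : ℕ} (hr : r.Prime) (hn : 1 ≤ n) (hF : Fintype.card F = q₀ ^ r) (σ : F ≃+* F) (hσ : orderOf σ = r) : Nat.card {g : GL (Fin n) F // ∃ c : F, c ≠ 0 ∧ (g : Matrix (Fin n) (Fin n) F).map σ = c • (g : Matrix (Fin n) (Fin n) F)} = (q₀ ^ r - 1) / (q₀ - 1) * ∏ i : Fin n, (q₀ ^ n - q₀ ^ (i : ℕ)) := by
  classical
  obtain ⟨p, hp⟩ := CharP.exists F
  haveI : Fact p.Prime := ⟨(CharP.char_is_prime_or_zero F p).resolve_right fun h => by
    subst h; exact (CharP.char_ne_zero_of_finite F 0) rfl⟩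
  obtain ⟨f, -, hf⟩ := FiniteField.card F p
  obtain ⟨hrf, hcard⟩ := Lib.AutPSL.card_fixField (p := p) (f := (f : ℕ)) hf hσ
  set F₀ := Lib.AutPSL.fixField σ with hF₀
  haveI : Fintype F₀ := Fintype.ofFinite F₀
  have hq0 : q₀ = Fintype.card F₀ := by
    rw [← Nat.card_eq_fintype_card, hcard]
    refine Nat.pow_left_injective hr.pos.ne' ?_
    show q₀ ^ r = (p ^ ((f : ℕ) / r)) ^ r
    rw [← pow_mul, Nat.div_mul_cancel hrf, ← hF, hf]
  -- the parametrisation by scalars and matrices over the fixed field
  let ψ : Fˣ × GL (Fin n) F₀ →* GL (Fin n) F :=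
    MonoidHom.noncommCoprod (Matrix.GeneralLinearGroup.scalar (Fin n))
      (Matrix.GeneralLinearGroup.map F₀.subtype) (fun a b => by
        have hc : Matrix.GeneralLinearGroup.scalar (Fin n) a ∈ Subgroup.center (GL (Fin n) F) := by
          rw [Matrix.GeneralLinearGroup.center_eq_range_scalar]; exact ⟨a, rfl⟩
        exact (Subgroup.mem_center_iff.1 hc _).symm)
  have hψ : ∀ d h, ((ψ (d, h) : GL (Fin n) F) : Matrix (Fin n) (Fin n) F) =
      (d : F) • (h : Matrix (Fin n) (Fin n) F₀).map F₀.subtype := fun d h => by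
    show (Matrix.scalar (Fin n) (d : F)) * (h : Matrix (Fin n) (Fin n) F₀).map F₀.subtype = _
    rw [Matrix.scalar_apply, ← Matrix.smul_one_eq_diagonal, Matrix.smul_mul, Matrix.one_mul]
  have hrange : ∀ g : GL (Fin n) F,
      (∃ c : F, c ≠ 0 ∧ (g : Matrix (Fin n) (Fin n) F).map σ = c • (g : Matrix (Fin n) (Fin n) F)) ↔
        g ∈ ψ.range := by
    intro g
    constructor
    · rintro ⟨c, hc0, hc⟩
      have hent : ∀ i j, σ ((g : Matrix (Fin n) (Fin n) F) i j) = c * (g : Matrix (Fin n) (Fin n) F) i j :=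
        fun i j => congrFun (congrFun hc i) j
      obtain ⟨i₀, j₀, hne⟩ : ∃ i j, (g : Matrix (Fin n) (Fin n) F) i j ≠ 0 := by
        by_contra hcon
        push Not at hcon
        have hdet := (Matrix.GeneralLinearGroup.det g).ne_zero
        apply hdet
        show (g : Matrix (Fin n) (Fin n) F).det = 0
        exact Matrix.det_eq_zero_of_row_eq_zero ⟨0, hn⟩ (hcon _)
      set d := (g : Matrix (Fin n) (Fin n) F) i₀ j₀ with hd
      have hmem : ∀ i j, d⁻¹ * (g : Matrix (Fin n) (Fin n) F) i j ∈ F₀ := fun i j => by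
        show σ _ = _
        rw [map_mul, map_inv₀, hent, hent]
        field_simp
        rfl
      let h : Matrix (Fin n) (Fin n) F₀ := Matrix.of fun i j => ⟨_, hmem i j⟩
      have hh : h.map F₀.subtype = d⁻¹ • (g : Matrix (Fin n) (Fin n) F) := rfl
      have hdet : h.det ≠ 0 := by
        intro h0
        have := RingHom.map_det F₀.subtype h
        rw [RingHom.mapMatrix_apply, hh, h0, map_zero, Matrix.det_smul] at this
        exact mul_ne_zero (pow_ne_zero _ (inv_ne_zero hne)) (Matrix.GeneralLinearGroup.det g).ne_zero this.symm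
      refine ⟨(Units.mk0 d hne, Matrix.GeneralLinearGroup.mkOfDetNeZero h hdet), Units.ext ?_⟩
      rw [hψ]
      show d • h.map F₀.subtype = _
      rw [hh, smul_smul, mul_inv_cancel₀ hne, one_smul]
    · rintro ⟨⟨d, h⟩, rfl⟩
      refine ⟨σ d / d, div_ne_zero (by simp) d.ne_zero, ?_⟩
      rw [hψ]
      ext i j
      have hh : σ ((h : Matrix (Fin n) (Fin n) F₀) i j : F) = ((h : Matrix (Fin n) (Fin n) F₀) i j : F) :=
        ((h : Matrix (Fin n) (Fin n) F₀) i j).2
      simp [Matrix.map_apply, map_mul, hh]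
      field_simp
  rw [Nat.card_congr (Equiv.subtypeEquivRight hrange)]
  have hker : Nat.card ψ.ker = q₀ - 1 := by
    let ι : F₀ˣ →* Fˣ × GL (Fin n) F₀ :=
      ((Units.map F₀.subtype.toMonoidHom).comp (invMonoidHom)).prod (Matrix.GeneralLinearGroup.scalar (Fin n))
    have hι : Function.Injective ι := fun a b h => by
      have := congrArg Prod.fst h
      exact inv_injective (Units.map_injective F₀.subtype.injective this)
    have heq : ψ.ker = ι.range := by
      ext ⟨d, h⟩
      constructor
      · intro hk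
        have hk' : (d : F) • (h : Matrix (Fin n) (Fin n) F₀).map F₀.subtype = 1 := by
          rw [← hψ, MonoidHom.mem_ker.1 hk]; rfl
        have h00 := congrFun (congrFun hk' ⟨0, hn⟩) ⟨0, hn⟩
        simp at h00
        have hd0 : ((h : Matrix (Fin n) (Fin n) F₀) ⟨0, hn⟩ ⟨0, hn⟩) ≠ 0 := fun e => by simp [e] at h00
        refine ⟨Units.mk0 _ hd0, Prod.ext (Units.ext ?_) (Units.ext ?_)⟩
        · simp [ι]
          exact inv_eq_of_mul_eq_one_left h00
        · ext i j
          have hij := congrFun (congrFun hk' i) j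
          simp [ι, Matrix.GeneralLinearGroup.coe_scalar] at hij ⊢
          by_cases e : i = j
          · subst e
            simp at hij ⊢
            exact Subtype.ext (mul_left_cancel₀ d.ne_zero (h00.trans hij.symm))
          · simp [e, d.ne_zero] at hij ⊢
            rw [hij]
      · rintro ⟨u, hu⟩
        rw [← hu, MonoidHom.mem_ker]
        apply Units.ext
        show ((ψ (ι u) : GL (Fin n) F) : Matrix (Fin n) (Fin n) F) = 1
        have := hψ (ι u).1 (ι u).2
        rw [this]
        ext i j
        by_cases e : i = j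
        · subst e; simp [ι, Matrix.GeneralLinearGroup.coe_scalar]
        · simp [ι, Matrix.GeneralLinearGroup.coe_scalar, e]
    rw [heq, ← Nat.card_congr (MonoidHom.ofInjective hι).toEquiv, Nat.card_units,
      Nat.card_eq_fintype_card, hq0]
  have htot : Nat.card ψ.range * Nat.card ψ.ker = Nat.card (Fˣ × GL (Fin n) F₀) := by
    rw [← Subgroup.card_eq_card_quotient_mul_card_subgroup ψ.ker |>.symm,
      Nat.card_congr (QuotientGroup.quotientKerEquivRange ψ).toEquiv]
  rw [Nat.card_prod, Matrix.card_GL_field, Nat.card_units, Nat.card_eq_fintype_card (α := F), hker,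
    hF, ← hq0] at htot
  obtain ⟨m, hm⟩ : q₀ - 1 ∣ q₀ ^ r - 1 := by simpa using Nat.sub_dvd_pow_sub_pow q₀ 1 r
  have h2 : 2 ≤ q₀ := by rw [hq0]; exact Fintype.one_lt_card
  rw [hm] at htot ⊢
  rw [Nat.mul_div_cancel_left m (by omega)]
  exact Nat.eq_of_mul_eq_mul_left (show 0 < q₀ - 1 by omega) (by linarith [htot])

end Cfsg.Agent.S2636
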