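import Cfsg.Statements.S2637
import Cfsg.Agent.Lib.UnitaryRed52
import Cfsg.Agent.Lib.Unitary.Order
import Cfsg.Agent.Lib.Forms.Basis
-- import your own Cfsg.Agent.* helpers here

set_option autoImplicit false
open Cfsg

namespace Cfsg.Agent.S2637

open Matrix Module Polynomial in
theorem no_root {F : Type*} [Field F] [Fintype F] {q : ℕ} (hF : Fintype.card F = q) (hq : q % 3 = 2)
    (z : F) : z ^ 2 + z + 1 ≠ 0 := by
  intro h
  have h3 : z ^ 3 = 1 := by linear_combination (z - 1) * h
  have hz0 : z ≠ 0 := by rintro rfl; simp at h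
  have h1 : z ^ (q - 1) = 1 := by rw [← hF]; exact FiniteField.pow_card_sub_one_eq_one z hz0
  have hzone : z = 1 := by
    have hgcd : Nat.gcd 3 (q - 1) = 1 := by
      rw [Nat.gcd_rec, show (q - 1) % 3 = 1 by omega]; rfl
    simpa [hgcd] using (pow_gcd_eq_one (a := z) (m := 3) (n := q - 1)).2 ⟨h3, h1⟩
  subst hzone
  have h30 : (3 : F) = 0 := by linear_combination h
  obtain ⟨p, hp⟩ := CharP.exists F
  obtain ⟨f, hpr, hcard⟩ := FiniteField.card F p
  have hdvd : p ∣ 3 := (CharP.cast_eq_zero_iff F p 3).1 (by exact_mod_cast h30)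
  have : p = 3 := (Nat.prime_dvd_prime_iff_eq hpr Nat.prime_three).1 hdvd
  rw [this, hF] at hcard
  have hmod : q % 3 = 0 := by rw [hcard]; exact Nat.mod_eq_zero_of_dvd (dvd_pow_self 3 f.ne_zero)
  omega

open Matrix Module Cfsg.Agent.Lib.Symplectic Cfsg.Agent.Lib.Unitary in
theorem card_centralizer {F K : Type*} [Field F] [Fintype F] [Field K] [Fintype K] [Algebra F K]
    {q m : ℕ} (hF : Fintype.card F = q) (hK : Fintype.card K = q ^ 2)
    (A : Matrix.symplecticGroup (Fin m) F) (w : K) (hw : w ^ 2 + w + 1 = 0)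
    (hwq : w ^ q = -1 - w) (hne : w ≠ w ^ q) [Module K (Fin m ⊕ Fin m → F)]
    [IsScalarTower F K (Fin m ⊕ Fin m → F)]
    (hact : ∀ v : Fin m ⊕ Fin m → F, w • v = A.1 *ᵥ v)
    (hAA : ∀ v : Fin m ⊕ Fin m → F, A.1 *ᵥ (A.1 *ᵥ v) + A.1 *ᵥ v + v = 0) :
    Nat.card ↥(Subgroup.centralizer ({A} : Set ↥(Matrix.symplecticGroup (Fin m) F))) =
      Nat.card ↥(Cfsg.GU m K q) := by
  classical
  set B := stdForm m F with hBdef
  have hB := isSympForm_stdForm m F
  have hS : ∀ u v, B (A.1 *ᵥ u) (A.1 *ᵥ v) = B u v := mem_sp_iff.1 A.2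
  have hfix : ∀ a : F, (algebraMap F K a) ^ q = algebraMap F K a := fun a => by
    rw [← map_pow, ← hF, FiniteField.pow_card]
  -- every element of K is a + b w
  have hspan : ∀ z : K, ∃ a b : F, z = algebraMap F K a + algebraMap F K b * w := by
    intro z
    have hfixed : ∀ x : K, x ^ q = x → ∃ a : F, algebraMap F K a = x := fun x hx =>
      Cfsg.Agent.Lib.UnitaryRed52.exists_of_fixed hK hF hx
    have hd : w - w ^ q ≠ 0 := sub_ne_zero.2 hne
    obtain ⟨b, hb⟩ := hfixed ((z - z ^ q) / (w - w ^ q)) (by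
      rw [div_pow, sub_pow_q hK, sub_pow_q hK, pow_q_q hK, pow_q_q hK, ← neg_sub z, ← neg_sub w,
        neg_div_neg_eq])
    obtain ⟨a, ha⟩ := hfixed (z - algebraMap F K b * w) (by
      rw [sub_pow_q hK, mul_pow, hfix, hb]
      field_simp
      ring)
    exact ⟨a, b, by rw [ha]; ring⟩
  let h : (Fin m ⊕ Fin m → F) → (Fin m ⊕ Fin m → F) → K := fun u v =>
    algebraMap F K (B (A.1 *ᵥ u) v) - w ^ q * algebraMap F K (B u v)
  have hadd : ∀ u u' v, h (u + u') v = h u v + h u' v := fun u u' v => by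
    simp only [h, Matrix.mulVec_add, map_add, LinearMap.add_apply]; ring
  have hswap : ∀ u v, h v u = (h u v) ^ q := by
    intro u v
    have e : B u (A.1 *ᵥ v) = B (A.1 *ᵥ (A.1 *ᵥ u)) v := by
      have hA3 : A.1 *ᵥ (A.1 *ᵥ (A.1 *ᵥ v)) = v := by
        have e1 := hAA (A.1 *ᵥ v)
        have e2 := hAA v
        have : A.1 *ᵥ (A.1 *ᵥ (A.1 *ᵥ v)) - v =
            (A.1 *ᵥ (A.1 *ᵥ (A.1 *ᵥ v)) + A.1 *ᵥ (A.1 *ᵥ v) + A.1 *ᵥ v) -
              (A.1 *ᵥ (A.1 *ᵥ v) + A.1 *ᵥ v + v) := by abel
        rw [e1, e2, sub_zero, sub_eq_zero] at this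
        exact this
      conv_rhs => rw [← hA3]
      rw [hS, hS]
    have e2 : B u (A.1 *ᵥ v) = -B (A.1 *ᵥ u) v - B u v := by
      rw [e, eq_neg_of_add_eq_zero_left (by rw [← add_assoc]; exact hAA u : A.1 *ᵥ (A.1 *ᵥ u) +
        (A.1 *ᵥ u + u) = 0), map_neg, map_add, LinearMap.neg_apply, LinearMap.add_apply]
      ring
    simp only [h, sub_pow_q hK, mul_pow, pow_q_q hK, hfix]
    rw [hB.swap (A.1 *ᵥ v) u, hB.swap v u, e2]
    simp only [map_neg, map_sub, hwq]
    ring
  have hsmul : ∀ (z : K) u v, h (z • u) v = z * h u v := by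
    intro z u v
    obtain ⟨a, b, rfl⟩ := hspan z
    rw [add_smul, algebraMap_smul, mul_smul, algebraMap_smul, hact, hadd]
    have hl : ∀ (c : F) x, h (c • x) v = algebraMap F K c * h x v := fun c x => by
      simp only [h, Matrix.mulVec_smul, map_smul, LinearMap.smul_apply, smul_eq_mul, map_mul]; ring
    rw [hl, hl]
    have hmw : h (A.1 *ᵥ u) v = w * h u v := by
      simp only [h]
      rw [show A.1 *ᵥ (A.1 *ᵥ u) = -(A.1 *ᵥ u + u) from eq_neg_of_add_eq_zero_left
        (by rw [← add_assoc]; exact hAA u), map_neg, map_add, LinearMap.neg_apply,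
        LinearMap.add_apply, map_neg, map_add, hwq]
      linear_combination -(algebraMap F K (B u v)) * hw
    rw [hmw]; ring
  have hnd : ∀ v, (∀ u, h u v = 0) → v = 0 := by
    intro v hv
    refine hB.nondeg v fun u => ?_
    have h1 : h u v - h v u = 0 := by rw [hv, hswap, hv, zero_pow_q hK, sub_zero]
    have h2 : h u v = 0 := hv u
    have h3 : (h u v) ^ q = 0 := by rw [h2, zero_pow_q hK]
    simp only [h, sub_pow_q hK, mul_pow, pow_q_q hK, hfix] at h2 h3
    have : (w - w ^ q) * algebraMap F K (B u v) = 0 := by linear_combination h2 - h3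
    rw [hB.swap, (map_eq_zero _).1 ((mul_eq_zero.1 this).resolve_left (sub_ne_zero.2 hne)),
      neg_zero]
  let σ : K →+* K := conj hK
  let H : (Fin m ⊕ Fin m → F) →ₛₗ[σ] (Fin m ⊕ Fin m → F) →ₗ[K] K :=
    LinearMap.mk₂'ₛₗ σ (RingHom.id K) (fun x y => h y x)
      (fun x x' y => by rw [hswap, hadd, add_pow_q hK, ← hswap, ← hswap])
      (fun c x y => by rw [hswap, hsmul, mul_pow, ← hswap]; rfl)
      (fun x y y' => hadd y y' x) (fun c x y => hsmul c y x)
  haveI : Module.Finite K (Fin m ⊕ Fin m → F) := Module.Finite.of_restrictScalars_finite F K _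
  have hd : finrank F K = 2 := Cfsg.Agent.Lib.FieldRed.finrank_eq (by rw [hK, hF])
  have hr : finrank K (Fin m ⊕ Fin m → F) = m := by
    have h1 := Module.finrank_mul_finrank F K (Fin m ⊕ Fin m → F)
    rw [hd, finrank_std] at h1
    omega
  obtain ⟨b, hb⟩ := Cfsg.Agent.Lib.Forms.exists_orthonormal_herm σ
    (fun hid => hne (RingHom.congr_fun hid w).symm) (fun a => pow_q_q hK a) m H
    ⟨fun x y => (hswap y x).symm⟩
    ⟨fun x hx => hnd x hx,
      fun y hy => hnd y fun u => by rw [hswap, show h y u = 0 from hy u, zero_pow_q hK]⟩ hr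
  have hL : ∀ u v, h u v = Cfsg.hermForm m K q (b.equivFun u) (b.equivFun v) := by
    intro u v
    show H v u = _
    conv_lhs => rw [← b.sum_repr u, ← b.sum_repr v]
    simp only [map_sum, LinearMap.sum_apply, LinearMap.map_smulₛₗ, LinearMap.smul_apply, map_smul,
      smul_eq_mul, hb, Cfsg.hermForm, Module.Basis.equivFun_apply, σ, conj_apply, RingHom.id_apply]
    refine Finset.sum_congr rfl fun i _ => ?_
    rw [Finset.sum_eq_single i (fun j _ hj => by simp [hj]) (by simp)]
    simp [mul_comm]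
  let L := b.equivFun
  have hcK : ∀ g ∈ Subgroup.centralizer ({A} : Set ↥(Matrix.symplecticGroup (Fin m) F)),
      ∀ (z : K) v, g.1 *ᵥ (z • v) = z • (g.1 *ᵥ v) := by
    intro g hg z v
    have hc : g.1 * A.1 = A.1 * g.1 :=
      congrArg Subtype.val (Subgroup.mem_centralizer_singleton_iff.1 hg)
    obtain ⟨a, c, rfl⟩ := hspan z
    simp only [add_smul, algebraMap_smul, mul_smul, hact, Matrix.mulVec_add, Matrix.mulVec_smul,
      Matrix.mulVec_mulVec, hc]
  let T : ↥(Subgroup.centralizer ({A} : Set ↥(Matrix.symplecticGroup (Fin m) F))) →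
      ((Fin m → K) →ₗ[K] (Fin m → K)) := fun g =>
    { toFun := fun x => L (g.1.1 *ᵥ L.symm x)
      map_add' := fun x y => by simp [Matrix.mulVec_add]
      map_smul' := fun z x => by simp [hcK g.1 g.2] }
  have hTp : ∀ g x y, Cfsg.hermForm m K q (T g x) (T g y) = Cfsg.hermForm m K q x y := by
    intro g x y
    show Cfsg.hermForm m K q (L _) (L _) = _
    rw [← hL]
    have hc : g.1.1 * A.1 = A.1 * g.1.1 :=
      congrArg Subtype.val (Subgroup.mem_centralizer_singleton_iff.1 g.2)
    simp only [h]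
    rw [Matrix.mulVec_mulVec, ← hc, ← Matrix.mulVec_mulVec, mem_sp_iff.1 g.1.2, mem_sp_iff.1 g.1.2]
    show h (L.symm x) (L.symm y) = _
    rw [hL, LinearEquiv.apply_symm_apply, LinearEquiv.apply_symm_apply]
  let S : ↥(Cfsg.GU m K q) → ((Fin m ⊕ Fin m → F) →ₗ[F] (Fin m ⊕ Fin m → F)) := fun U =>
    (L.symm.toLinearMap.comp ((Matrix.mulVecLin U.1.1).comp L.toLinearMap)).restrictScalars F
  have hSh : ∀ U u v, h (S U u) (S U v) = h u v := by
    intro U u v
    rw [hL, hL]
    simp only [S, LinearMap.restrictScalars_apply, LinearMap.comp_apply, LinearEquiv.coe_coe,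
      Matrix.mulVecLin_apply, L, LinearEquiv.apply_symm_apply, GU_herm]
  have hSB : ∀ U, LinearMap.toMatrix' (S U) ∈ Matrix.symplecticGroup (Fin m) F := by
    intro U
    rw [mem_sp_iff]
    intro u v
    rw [LinearMap.toMatrix'_mulVec, LinearMap.toMatrix'_mulVec]
    have e1 := hSh U u v
    have e2 := congrArg (· ^ q) e1
    simp only [h, sub_pow_q hK, mul_pow, pow_q_q hK, hfix] at e1 e2
    have : (w - w ^ q) * (algebraMap F K (B (S U u) (S U v)) - algebraMap F K (B u v)) = 0 := by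
      linear_combination e1 - e2
    exact (algebraMap F K).injective (sub_eq_zero.1
      ((mul_eq_zero.1 this).resolve_left (sub_ne_zero.2 hne)))
  have hSc : ∀ U, (⟨LinearMap.toMatrix' (S U), hSB U⟩ : Matrix.symplecticGroup (Fin m) F) ∈
      Subgroup.centralizer ({A} : Set ↥(Matrix.symplecticGroup (Fin m) F)) := by
    intro U
    rw [Subgroup.mem_centralizer_singleton_iff]
    refine Subtype.ext (Matrix.ext_of_mulVec_single fun i => ?_)
    show (LinearMap.toMatrix' (S U) * A.1) *ᵥ _ = (A.1 * LinearMap.toMatrix' (S U)) *ᵥ _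
    rw [← Matrix.mulVec_mulVec, ← Matrix.mulVec_mulVec, LinearMap.toMatrix'_mulVec,
      LinearMap.toMatrix'_mulVec, ← hact, ← hact]
    simp [S]
  refine Nat.card_congr
    { toFun := fun g => mkGU hK (LinearMap.toMatrix' (T g)) (fun x y => by
        rw [LinearMap.toMatrix'_mulVec, LinearMap.toMatrix'_mulVec, hTp])
      invFun := fun U => ⟨⟨LinearMap.toMatrix' (S U), hSB U⟩, hSc U⟩
      left_inv := fun g => by
        refine Subtype.ext (Subtype.ext (Matrix.ext_of_mulVec_single fun i => ?_))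
        show LinearMap.toMatrix' (S _) *ᵥ _ = _
        rw [LinearMap.toMatrix'_mulVec]
        simp [S, T, LinearMap.toMatrix'_mulVec]
      right_inv := fun U => GU_ext fun x => by
        rw [mkGU_val, LinearMap.toMatrix'_mulVec]
        simp [T, S, LinearMap.toMatrix'_mulVec] }


/-- Centraliser of a fixed-point-free element of order three in Sp_2m(q) when q ≡ 2 (mod 3): if x ∈ Sp_2m(F) (|F| = q, m ≥ 1) satisfies x³ = 1 and x − 1 is invertible, then its centraliser in Sp_2m(F) has the order of the unitary group GU_m(q), namely q^(m(m−1)/2) Π_(i=1)^m (q^i − (−1)^i) (x lies in the centre of a subgroup GU_m(q) of Sp_2m(q)). -/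
theorem result {F : Type*} [Field F] [Fintype F] {q : ℕ} (hF : Fintype.card F = q) (hq : q % 3 = 2) {m : ℕ} (hm : 1 ≤ m) (x : Matrix.symplecticGroup (Fin m) F) (hx3 : x ^ 3 = 1) (hfpf : IsUnit ((x : Matrix (Fin m ⊕ Fin m) (Fin m ⊕ Fin m) F) - 1)) : (Nat.card ↥(Subgroup.centralizer ({x} : Set ↥(Matrix.symplecticGroup (Fin m) F))) : ℤ) = (q : ℤ) ^ (m * (m - 1) / 2) * ∏ i : Fin m, ((q : ℤ) ^ ((i : ℕ) + 1) - (-1) ^ ((i : ℕ) + 1)) := by
  classical
  set A : Matrix (Fin m ⊕ Fin m) (Fin m ⊕ Fin m) F := (x : Matrix (Fin m ⊕ Fin m) (Fin m ⊕ Fin m) F)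
  have hA : A ^ 2 + A + 1 = 0 := by
    have h3 : A ^ 3 = 1 := by
      have := congrArg Subtype.val hx3
      simpa using this
    have h0 : (A - 1) * (A ^ 2 + A + 1) = 0 := by
      have : (A - 1) * (A ^ 2 + A + 1) = A ^ 3 - 1 := by noncomm_ring
      rw [this, h3, sub_self]
    exact hfpf.mul_right_eq_zero.1 h0
  let P : Polynomial F := Polynomial.X ^ 2 + Polynomial.X + 1
  have hP2 : P.natDegree = 2 := by simp only [P]; compute_degree!
  have hPm : P.Monic := by simp only [P]; monicity!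
  have hirr : Irreducible P := by
    rw [Polynomial.irreducible_iff_roots_eq_zero_of_degree_le_three (by omega) (by omega),
      Multiset.eq_zero_iff_forall_notMem]
    intro z hz
    rw [Polynomial.mem_roots hPm.ne_zero] at hz
    exact no_root hF hq z (by simpa [P] using hz)
  haveI := Fact.mk hirr
  haveI : Module.Finite F (AdjoinRoot P) := hPm.finite_adjoinRoot
  haveI : Finite (AdjoinRoot P) := Module.finite_of_finite F
  letI := Fintype.ofFinite (AdjoinRoot P)
  have hd : Module.finrank F (AdjoinRoot P) = 2 := by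
    rw [(AdjoinRoot.powerBasis hPm.ne_zero).finrank, AdjoinRoot.powerBasis_dim, hP2]
  have hK : Fintype.card (AdjoinRoot P) = q ^ 2 := by
    rw [Module.card_eq_pow_finrank (K := F), hd, hF]
  let f : Module.End F (Fin m ⊕ Fin m → F) := Matrix.mulVecLin A
  have hAA : ∀ v : Fin m ⊕ Fin m → F,
      Matrix.mulVec A (Matrix.mulVec A v) + Matrix.mulVec A v + v = 0 := fun v => by
    have := congrArg (fun M => Matrix.mulVec M v) hA
    simpa [pow_two, Matrix.add_mulVec, ← Matrix.mulVec_mulVec] using this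
  have hf : Polynomial.aeval f P = 0 := by
    refine LinearMap.ext fun v => ?_
    simpa [P, f, pow_two] using hAA v
  let φ : AdjoinRoot P →ₐ[F] Module.End F (Fin m ⊕ Fin m → F) :=
    Ideal.Quotient.liftₐ _ (Polynomial.aeval f) (fun a ha => by
      obtain ⟨c, rfl⟩ := Ideal.mem_span_singleton.1 ha
      rw [map_mul, hf, zero_mul])
  letI : Module (AdjoinRoot P) (Fin m ⊕ Fin m → F) := Module.compHom _ φ.toRingHom
  haveI : IsScalarTower F (AdjoinRoot P) (Fin m ⊕ Fin m → F) := ⟨fun a z v => by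
    show φ (a • z) v = a • φ z v
    rw [map_smul, LinearMap.smul_apply]⟩
  have hw : (AdjoinRoot.root P) ^ 2 + AdjoinRoot.root P + 1 = 0 := by
    have h : Polynomial.aeval (AdjoinRoot.root P) P = 0 := by
      rw [AdjoinRoot.aeval_eq, AdjoinRoot.mk_self]
    generalize AdjoinRoot.root P = r at h ⊢
    simpa [P] using h
  generalize hwdef : AdjoinRoot.root P = w at hw
  have h3 : w ^ 3 = 1 := by linear_combination (w - 1) * hw
  have hwq : w ^ q = -1 - w := by
    have : q = 3 * (q / 3) + 2 := by omega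
    rw [this, pow_add, pow_mul, h3, one_pow, one_mul]
    linear_combination hw
  have hne : w ≠ w ^ q := by
    intro h
    obtain ⟨a, ha⟩ := Cfsg.Agent.Lib.UnitaryRed52.exists_of_fixed hK hF h.symm
    refine no_root hF hq a ((algebraMap F (AdjoinRoot P)).injective ?_)
    rw [map_add, map_add, map_pow, map_one, map_zero, ha, hw]
  have hact : ∀ v : Fin m ⊕ Fin m → F, w • v = Matrix.mulVec A v := fun v => by
    show φ w v = _
    rw [← hwdef, show φ (AdjoinRoot.root P) = f from Polynomial.aeval_X f]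
    rfl
  rw [card_centralizer hF hK x w hw hwq hne hact hAA, Cfsg.Agent.Lib.Unitary.card_GU hK,
    ← Fin.prod_univ_eq_prod_range, Nat.cast_mul, Nat.cast_pow, Nat.cast_prod]
  congr 1
  refine Finset.prod_congr rfl fun i _ => ?_
  split
  · next h => rw [(Even.add_one h).neg_one_pow]; push_cast; ring
  · next h =>
    rw [(Nat.not_even_iff_odd.1 h).add_one.neg_one_pow,
      Nat.cast_sub (Nat.one_le_pow _ _ (by rw [← hF]; exact Fintype.card_pos))]
    push_cast; ring

end Cfsg.Agent.S2637
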