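import Cfsg.Statements.S2638
-- import your own Cfsg.Agent.* helpers here

set_option autoImplicit false
open Cfsg

namespace Cfsg.Agent.S2638

/-- If an element x of GL_n(q), n ≥ 1, has prime order r and the multiplicative order of q modulo r is n (r is a primitive prime divisor of q^n − 1, so x acts irreducibly), then the centraliser of x in GL_n(q) is cyclic of order q^n − 1 (the multiplicative group of the field with q^n elements, a Singer cycle). -/
theorem result {F : Type*} [Field F] [Fintype F] {p q : ℕ} [Fact p.Prime] [CharP F p] (hF : Fintype.card F = q) {n r : ℕ} (hn : 1 ≤ n) (hr : r.Prime) (hrp : r ≠ p) (hi : orderOf (q : ZMod r) = n) (x : GL (Fin n) F) (hx : orderOf x = r) : IsCyclic ↥(Subgroup.centralizer ({x} : Set (GL (Fin n) F))) ∧ Nat.card ↥(Subgroup.centralizer ({x} : Set (GL (Fin n) F))) = q ^ n - 1 := by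
  classical
  have : NeZero n := ⟨by omega⟩
  let M : Matrix (Fin n) (Fin n) F := (x : Matrix (Fin n) (Fin n) F)
  have hxr : M ^ r = 1 := by
    show (x : Matrix (Fin n) (Fin n) F) ^ r = 1
    rw [← Units.val_pow_eq_pow_val, ← hx, pow_orderOf_eq_one, Units.val_one]
  let f := minpoly F M
  have hdvd : f ∣ Polynomial.X ^ r - 1 := minpoly.dvd F M (by simp [hxr])
  have hr0 : (r : F) ≠ 0 := by
    rw [Ne, CharP.cast_eq_zero_iff F p r]
    exact fun h => hrp ((Nat.prime_dvd_prime_iff_eq Fact.out hr).1 h).symm
  have hsep : (Polynomial.X ^ r - 1 : Polynomial F).Separable :=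
    Polynomial.X_pow_sub_one_separable_iff.2 hr0
  have hf0 : f ≠ 0 := minpoly.ne_zero (Matrix.isIntegral M)
  have hfsq : Squarefree f := (hsep.of_dvd hdvd).squarefree
  -- an irreducible factor other than `X - 1`
  obtain ⟨g, hg, hgf, hg1⟩ : ∃ g : Polynomial F, Irreducible g ∧ g ∣ f ∧ ¬ g ∣ (Polynomial.X - 1) := by
    by_contra hc
    push Not at hc
    obtain ⟨h, hfac⟩ : f ∣ Polynomial.X - 1 := by
      refine (UniqueFactorizationMonoid.squarefree_iff_nodup_normalizedFactors hf0).1 hfsq |> fun hnd => ?_
      have h1 : (Polynomial.X - 1 : Polynomial F) ≠ 0 := by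
        simpa using Polynomial.X_sub_C_ne_zero (1 : F)
      rw [UniqueFactorizationMonoid.dvd_iff_normalizedFactors_le_normalizedFactors hf0 h1,
        Multiset.le_iff_subset hnd]
      intro g hg
      have hirr := UniqueFactorizationMonoid.irreducible_of_normalized_factor g hg
      have hd := hc g hirr (UniqueFactorizationMonoid.dvd_of_mem_normalizedFactors hg)
      obtain ⟨g', hg', hassoc⟩ :=
        UniqueFactorizationMonoid.exists_mem_normalizedFactors_of_dvd h1 hirr hd
      rwa [← UniqueFactorizationMonoid.normalize_normalized_factor g hg,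
        normalize_eq_normalize_iff_associated.2 hassoc,
        UniqueFactorizationMonoid.normalize_normalized_factor g' hg']
    have hz := congrArg (Polynomial.aeval M) hfac
    rw [map_sub, Polynomial.aeval_X, map_one, map_mul, minpoly.aeval, zero_mul, sub_eq_zero] at hz
    have : x = 1 := Units.ext hz
    rw [this, orderOf_one] at hx
    exact hr.one_lt.ne hx
  haveI : Fact (Irreducible g) := ⟨hg⟩
  have hgn : g.natDegree ≤ n := by
    have h := (Polynomial.natDegree_le_of_dvd (hgf.trans (Matrix.minpoly_dvd_charpoly M))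
      (Matrix.charpoly_monic M).ne_zero)
    rwa [Matrix.charpoly_natDegree_eq_dim, Fintype.card_fin] at h
  -- the degree of `g`
  have hnd : n ≤ g.natDegree := by
    let pb := AdjoinRoot.powerBasis hg.ne_zero
    haveI : FiniteDimensional F (AdjoinRoot g) := pb.finite
    haveI : Finite (AdjoinRoot g) := Module.finite_of_finite F
    haveI := Fintype.ofFinite (AdjoinRoot g)
    have hc : Fintype.card (AdjoinRoot g) = q ^ g.natDegree := by
      rw [Module.card_eq_pow_finrank (K := F), pb.finrank, hF]
      rfl
    set α := AdjoinRoot.root g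
    have hroot : Polynomial.aeval α (Polynomial.X ^ r - 1 : Polynomial F) = 0 := by
      rw [AdjoinRoot.aeval_eq, AdjoinRoot.mk_eq_zero]; exact hgf.trans hdvd
    have hαr : α ^ r = 1 := by simpa [sub_eq_zero] using hroot
    have hα1 : α ≠ 1 := fun h => hg1 (by
      rw [← AdjoinRoot.mk_eq_zero, map_sub, AdjoinRoot.mk_X, map_one]
      exact sub_eq_zero.2 h)
    have hα0 : α ≠ 0 := fun h => by rw [h, zero_pow hr.ne_zero] at hαr; exact zero_ne_one hαr
    have hord : orderOf α = r := by
      haveI := Fact.mk hr
      exact orderOf_eq_prime hαr hα1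
    have hdiv : r ∣ q ^ g.natDegree - 1 := by
      rw [← hord, ← hc]
      exact orderOf_dvd_of_pow_eq_one (FiniteField.pow_card_sub_one_eq_one α hα0)
    have hq1 : (q : ZMod r) ^ g.natDegree = 1 := by
      have h1 : 1 ≤ q ^ g.natDegree := Nat.one_le_pow _ _ (by rw [← hF]; exact Fintype.card_pos)
      have := (ZMod.natCast_eq_zero_iff _ _).2 hdiv
      rwa [Nat.cast_sub h1, Nat.cast_pow, Nat.cast_one, sub_eq_zero] at this
    have := orderOf_dvd_of_pow_eq_one hq1
    rw [hi] at this
    exact Nat.le_of_dvd hg.natDegree_pos this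
  have hfdeg : f.natDegree = n := by
    refine le_antisymm ?_ ((hnd.trans (Polynomial.natDegree_le_of_dvd hgf hf0)))
    have h := (Polynomial.natDegree_le_of_dvd (Matrix.minpoly_dvd_charpoly M)
      (Matrix.charpoly_monic M).ne_zero)
    rwa [Matrix.charpoly_natDegree_eq_dim, Fintype.card_fin] at h
  have hfirr : Irreducible f := by
    obtain ⟨h, hh⟩ := hgf
    have hh0 : h ≠ 0 := fun e => hf0 (by rw [hh, e, mul_zero])
    have : h.natDegree = 0 := by
      have := congrArg Polynomial.natDegree hh
      rw [Polynomial.natDegree_mul hg.ne_zero hh0, hfdeg] at this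
      omega
    have hu : IsUnit h := Polynomial.isUnit_iff_degree_eq_zero.2 (by
      rw [Polynomial.degree_eq_natDegree hh0, this]; rfl)
    rw [hh]
    exact (irreducible_mul_isUnit hu).2 hg
  haveI : Fact (Irreducible f) := ⟨hfirr⟩
  let φ : AdjoinRoot f →ₐ[F] Matrix (Fin n) (Fin n) F :=
    Ideal.Quotient.liftₐ (Ideal.span {f}) (Polynomial.aeval M) (fun a ha => by
      obtain ⟨c, rfl⟩ := Ideal.mem_span_singleton.1 ha
      rw [map_mul, minpoly.aeval, zero_mul])
  have hφ : ∀ a : Polynomial F, φ (AdjoinRoot.mk f a) = Polynomial.aeval M a := fun a => rfl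
  have hφinj : Function.Injective φ := RingHom.injective φ.toRingHom
  have hker : ∀ (h : Polynomial F) (v : Fin n → F), v ≠ 0 →
      (Polynomial.aeval M h).mulVec v = 0 → f ∣ h := by
    intro h v hv hhv
    by_contra hnd'
    obtain ⟨a, b, hab⟩ := (hfirr.coprime_iff_not_dvd).2 hnd'
    apply hv
    have h1 := congrArg (fun P => (Polynomial.aeval M P).mulVec v) hab
    simp only [map_add, map_mul, map_one, f, minpoly.aeval, mul_zero, zero_add, Matrix.one_mulVec,
      ← Matrix.mulVec_mulVec, hhv, Matrix.mulVec_zero] at h1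
    exact h1.symm
  have hcomm : ∀ Y : Matrix (Fin n) (Fin n) F, Y * M = M * Y → ∃ a, φ a = Y := by
    intro Y hY
    obtain ⟨v, hv⟩ := exists_ne (0 : Fin n → F)
    let pb := AdjoinRoot.powerBasis hfirr.ne_zero
    haveI : FiniteDimensional F (AdjoinRoot f) := pb.finite
    let L : AdjoinRoot f →ₗ[F] (Fin n → F) :=
      { toFun := fun a => (φ a).mulVec v
        map_add' := fun a b => by rw [map_add, Matrix.add_mulVec]
        map_smul' := fun c a => by rw [map_smul, Matrix.smul_mulVec, RingHom.id_apply] }
    have hLinj : Function.Injective L := by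
      rw [injective_iff_map_eq_zero]
      intro a ha
      obtain ⟨a, rfl⟩ := AdjoinRoot.mk_surjective a
      exact AdjoinRoot.mk_eq_zero.2 (hker a v hv ha)
    have hfr : Module.finrank F (AdjoinRoot f) = Module.finrank F (Fin n → F) := by
      rw [pb.finrank, Module.finrank_fintype_fun_eq_card, Fintype.card_fin]
      exact hfdeg
    have hLsurj : Function.Surjective L :=
      (LinearMap.injective_iff_surjective_of_finrank_eq_finrank hfr).1 hLinj
    obtain ⟨a, ha⟩ := hLsurj (Y.mulVec v)
    refine ⟨a, Matrix.ext_of_mulVec_single fun j => ?_⟩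
    obtain ⟨b, hb⟩ := hLsurj (Pi.single j 1)
    rw [← hb]
    obtain ⟨b, rfl⟩ := AdjoinRoot.mk_surjective b
    show (φ a).mulVec ((φ (AdjoinRoot.mk f b)).mulVec v) = Y.mulVec ((φ (AdjoinRoot.mk f b)).mulVec v)
    have hc : Commute Y M := hY
    have hcb : Commute Y (Polynomial.aeval M b) := by
      clear hb
      induction b using Polynomial.induction_on' with
      | add u w hu hw => rw [map_add]; exact hu.add_right hw
      | monomial k c =>
        rw [Polynomial.aeval_monomial]
        exact (Algebra.commute_algebraMap_right c Y).mul_right (hc.pow_right k)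
    rw [hφ, Matrix.mulVec_mulVec, Matrix.mulVec_mulVec, hcb.eq, ← hφ, ← map_mul, mul_comm a,
      map_mul, ← Matrix.mulVec_mulVec, ← Matrix.mulVec_mulVec]
    exact congrArg _ ha
  let pb := AdjoinRoot.powerBasis hfirr.ne_zero
  haveI : FiniteDimensional F (AdjoinRoot f) := pb.finite
  haveI : Finite (AdjoinRoot f) := Module.finite_of_finite F
  let U : (AdjoinRoot f)ˣ →* GL (Fin n) F := Units.map φ.toRingHom.toMonoidHom
  have hU : Function.Injective U := Units.map_injective hφinj
  have hrange : U.range = Subgroup.centralizer ({x} : Set (GL (Fin n) F)) := by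
    ext y
    rw [Subgroup.mem_centralizer_singleton_iff]
    constructor
    · rintro ⟨u, rfl⟩
      apply Units.ext
      show φ (u : AdjoinRoot f) * M = M * φ (u : AdjoinRoot f)
      have hM : φ (AdjoinRoot.root f) = M := (hφ Polynomial.X).trans (Polynomial.aeval_X M)
      rw [← hM, ← map_mul, ← map_mul, mul_comm]
    · intro hy
      obtain ⟨a, ha⟩ := hcomm (y : Matrix (Fin n) (Fin n) F) (congrArg Units.val hy)
      have ha0 : a ≠ 0 := fun e => by
        rw [e, map_zero] at ha
        exact (Units.ne_zero y) ha.symm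
      exact ⟨Units.mk0 a ha0, Units.ext ha⟩
  rw [← hrange]
  refine ⟨?_, ?_⟩
  · exact isCyclic_of_surjective _ U.rangeRestrict_surjective
  · rw [← Nat.card_congr (MonoidHom.ofInjective hU).toEquiv, Nat.card_units,
      Module.natCard_eq_pow_finrank (K := F), pb.finrank, Nat.card_eq_fintype_card, hF]
    congr 2

end Cfsg.Agent.S2638
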