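import Cfsg.Statements.S2642
import Cfsg.Agent.Lib.UnitaryUnipotent52
import Cfsg.Agent.S2570
import Cfsg.Agent.S2587
-- import your own Cfsg.Agent.* helpers here

set_option autoImplicit false
open Cfsg

namespace Cfsg.Agent.S2642

/-- Number of conjugacy classes of elements of order p in the general unitary group GU_n(q), q a power of p: every unipotent Jordan type occurs and the classes correspond to the partitions of n with all parts at most p other than the all-ones partition, exactly as in GL_n; so there are (number of partitions of n with parts ≤ p) − 1 classes. -/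
theorem result {K : Type*} [Field K] [Fintype K] {p q n : ℕ} [Fact p.Prime] [CharP K p] (hK : Fintype.card K = q ^ 2) : Nat.card {C : ConjClasses ↥(Cfsg.GU n K q) // ∃ g : ↥(Cfsg.GU n K q), ConjClasses.mk g = C ∧ orderOf g = p} = (Finset.univ.filter (fun μ : Nat.Partition n => ∀ a ∈ μ.parts, a ≤ p)).card - 1 := by
  classical
  have hp := (Fact.out : p.Prime)
  rw [← Cfsg.Agent.S2570.result (F := K) (p := p) n]
  refine Nat.card_congr (Equiv.ofBijective (fun C => ⟨ConjClasses.map (Cfsg.GU n K q).subtype C.1, by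
    obtain ⟨g, hg, ho⟩ := C.2
    exact ⟨g.1, by rw [← hg]; rfl, by rw [Subgroup.orderOf_coe]; exact ho⟩⟩) ⟨?_, ?_⟩)
  · rintro ⟨C, g, rfl, hg⟩ ⟨C', g', rfl, hg'⟩ h
    refine Subtype.ext (ConjClasses.mk_eq_mk_iff_isConj.2 ((Cfsg.Agent.S2587.result hK g g').2 ?_))
    exact ConjClasses.mk_eq_mk_iff_isConj.1 (congrArg Subtype.val h)
  · rintro ⟨C, g, rfl, hg⟩
    have hgp : g ^ p = 1 := hg ▸ pow_orderOf_eq_one g
    have hnil : IsNilpotent ((g : Matrix (Fin n) (Fin n) K) - 1) := by
      rcases Nat.eq_zero_or_pos n with rfl | hn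
      · exact ⟨1, Subsingleton.elim _ _⟩
      haveI : Nonempty (Fin n) := ⟨⟨0, hn⟩⟩
      exact ⟨p, by
        rw [sub_pow_char_of_commute (p := p) (Commute.one_right (g : Matrix (Fin n) (Fin n) K)), one_pow,
          ← Units.val_pow_eq_pow_val, hgp, Units.val_one, sub_self]⟩
    obtain ⟨B, hB⟩ := Cfsg.Agent.Lib.UnitaryUnipotent52.exists_GU_isConj hK g hnil
    obtain ⟨c, hc⟩ := isConj_iff.1 hB
    refine ⟨⟨ConjClasses.mk B, B, rfl, ?_⟩, Subtype.ext (ConjClasses.mk_eq_mk_iff_isConj.2 hB.symm)⟩
    refine orderOf_eq_prime (Subtype.ext ?_) fun h => ?_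
    · show (B : GL (Fin n) K) ^ p = 1
      rw [← hc, conj_pow, hgp, mul_one, mul_inv_cancel]
    · have h1 : (B : GL (Fin n) K) = 1 := congrArg Subtype.val h
      rw [h1] at hB
      rw [isConj_one_left.1 hB, orderOf_one] at hg
      exact hp.one_lt.ne hg

end Cfsg.Agent.S2642
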