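import Cfsg.Statements.S2644
import Cfsg.Agent.Lib.Unitary.Transvection
import Cfsg.Agent.Lib.TransvectionClass
-- import your own Cfsg.Agent.* helpers here

set_option autoImplicit false
open Cfsg

namespace Cfsg.Agent.S2644

open Matrix Cfsg.Agent.Lib.Unitary in
theorem exists_tvAt {K : Type*} [Field K] [Fintype K] {q n : ℕ} (hK : Fintype.card K = q ^ 2) {c₀ : K}
    (hc₀ : c₀ + c₀ ^ q = 0) (hc₀0 : c₀ ≠ 0) (A : Cfsg.GU n K q) (hA : Cfsg.IsTransvection A.1.1) :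
    ∃ v, v ≠ 0 ∧ Cfsg.hermForm n K q v v = 0 ∧ IsTvAt v c₀ A := by
  obtain ⟨v, φ, ⟨hv0, hφ0, hφv⟩, hAm⟩ := Cfsg.Agent.Lib.TransvectionClass.exists_pair hA
  obtain ⟨x₀, hx₀⟩ := Cfsg.Agent.Lib.TransvectionClass.exists_dot_eq_one hφ0
  have hmv : ∀ x, A.1.1 *ᵥ x = x + (φ ⬝ᵥ x) • v := fun x => by
    rw [hAm, Cfsg.Agent.Lib.TransvectionClass.trans_mulVec]
  have hpres : ∀ x y, (φ ⬝ᵥ y) ^ q * Cfsg.hermForm n K q x v + (φ ⬝ᵥ x) * Cfsg.hermForm n K q v y +
      (φ ⬝ᵥ x) * ((φ ⬝ᵥ y) ^ q * Cfsg.hermForm n K q v v) = 0 := fun x y => by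
    have h := GU_herm x y A
    simp only [hmv, herm_add_left, fun a b c => herm_add_right a b c hK, herm_smul_left, herm_smul_right] at h
    linear_combination h
  have hker : ∀ x, φ ⬝ᵥ x = 0 → Cfsg.hermForm n K q x v = 0 := fun x hx => by
    have h := hpres x x₀
    simpa [hx, hx₀] using h
  have hvv : Cfsg.hermForm n K q v v = 0 := hker v hφv
  set e := Cfsg.hermForm n K q x₀ v with he
  have hall : ∀ x, Cfsg.hermForm n K q x v = (φ ⬝ᵥ x) * e := fun x => by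
    have h := hker (x - (φ ⬝ᵥ x) • x₀) (by rw [dotProduct_sub, dotProduct_smul, hx₀]; simp)
    rw [herm_sub_left, herm_smul_left, sub_eq_zero] at h
    exact h
  have he0 : e ≠ 0 := fun h => hv0 (herm_nondeg_right hK fun x => by rw [hall, h, mul_zero])
  have hAt : IsTvAt v e⁻¹ A := fun x => by
    rw [hmv, hall x]
    congr 2
    field_simp
  have hc : e⁻¹ + e⁻¹ ^ q = 0 := by
    refine (preserving_transvection_iff hK hv0 hvv e⁻¹).1 fun x y => ?_
    rw [rk1_mulVec, rk1_mulVec, ← hAt x, ← hAt y, GU_herm]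
  have hfix : (e⁻¹ / c₀) ^ q = e⁻¹ / c₀ := by
    rw [div_pow, show e⁻¹ ^ q = -e⁻¹ from (neg_eq_of_add_eq_zero_right hc).symm,
      show c₀ ^ q = -c₀ from (neg_eq_of_add_eq_zero_right hc₀).symm, neg_div_neg_eq]
  obtain ⟨l, hl⟩ := norm_surj hK hfix
  have hl0 : l ≠ 0 := by
    rintro rfl
    rw [zero_mul, eq_comm, div_eq_zero_iff] at hl
    exact hl.elim (fun h => he0 (inv_eq_zero.1 h)) hc₀0
  refine ⟨l • v, smul_ne_zero hl0 hv0, by rw [herm_smul_left, herm_smul_right, hvv]; simp, fun x => ?_⟩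
  rw [hAt x, herm_smul_right, smul_smul]
  congr 2
  have : l * l ^ q * c₀ = e⁻¹ := by rw [hl, div_mul_cancel₀ _ hc₀0]
  linear_combination -(Cfsg.hermForm n K q x v) * this


/-- In the special unitary group SU_n(q) with n ≥ 3 (isometries of Σ u_i v_i^q of determinant one over the field with q² elements), any two transvections (elements t with t − 1 of rank one and square zero) are conjugate. -/
theorem result {K : Type*} [Field K] [Fintype K] {q n : ℕ} (hK : Fintype.card K = q ^ 2) (hn : 3 ≤ n) (s t : ↥(Cfsg.SU n K q)) (hs : Cfsg.IsTransvection (((s : GL (Fin n) K) : Matrix (Fin n) (Fin n) K))) (ht : Cfsg.IsTransvection (((t : GL (Fin n) K) : Matrix (Fin n) (Fin n) K))) : IsConj s t := by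
  obtain ⟨c₀, hc₀, hc₀0⟩ : ∃ c : K, c + c ^ q = 0 ∧ c ≠ 0 := by
    obtain ⟨c, h1, h2⟩ := Cfsg.Agent.Lib.Unitary.exists_trace_zero_ne_zero hK
    exact ⟨c, h2, h1⟩
  have hs' : Cfsg.IsTransvection (Cfsg.Agent.Lib.Unitary.suToGU n K q s).1.1 := by simpa using hs
  have ht' : Cfsg.IsTransvection (Cfsg.Agent.Lib.Unitary.suToGU n K q t).1.1 := by simpa using ht
  obtain ⟨v, hv0, hvv, hs1⟩ := exists_tvAt hK hc₀ hc₀0 _ hs'
  obtain ⟨w, hw0, hww, ht1⟩ := exists_tvAt hK hc₀ hc₀0 _ ht'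
  obtain ⟨g, hg, hgv⟩ := Cfsg.Agent.Lib.Unitary.exists_SU_isotropic hK hn hv0 hvv hw0 hww
  obtain ⟨g', hg'⟩ : ∃ g' : Cfsg.SU n K q, Cfsg.Agent.Lib.Unitary.suToGU n K q g' = g := by
    rw [← MonoidHom.mem_range, Cfsg.Agent.Lib.Unitary.suToGU_range]
    exact MonoidHom.mem_ker.2 (Units.ext hg)
  have h := hs1.conj g
  rw [hgv] at h
  refine isConj_iff.2 ⟨g', Cfsg.Agent.Lib.Unitary.suToGU_injective ?_⟩
  rw [map_mul, map_mul, map_inv, hg']
  exact h.unique ht1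

end Cfsg.Agent.S2644
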