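import Cfsg.Statements.S2645
import Cfsg.Agent.Lib.Elem70.ClassCount.Polys
import Cfsg.Agent.Lib.Elem70.ClassCount.SpClasses
-- import your own Cfsg.Agent.* helpers here

set_option autoImplicit false
open Cfsg

namespace Cfsg.Agent.S2645

open Polynomial Cfsg.Agent.Lib.Elem70.ClassCount

/-- Number of conjugacy classes of elements of odd prime order r, r different from the characteristic, in the symplectic group Sp_2m(q): let i be the multiplicative order of q modulo r and t = (r − 1)/i. If i is odd the eigenvalue orbits pair off (Λ ≠ Λ⁻¹) and the classes correspond to the non-zero (t/2)-tuples (a_j) with 2i Σ a_j ≤ 2m, giving C(⌊m/i⌋ + t/2, t/2) − 1 classes; if i is even (Λ = Λ⁻¹) they correspond to the non-zero t-tuples with i Σ a_j ≤ 2m, giving C(⌊2m/i⌋ + t, t) − 1 classes. -/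
theorem result {F : Type*} [Field F] [Fintype F] {p q : ℕ} [Fact p.Prime] [CharP F p] (hF : Fintype.card F = q) (m r i t : ℕ) (hr : r.Prime) (hr2 : r ≠ 2) (hrp : r ≠ p) (hi : i = orderOf (q : ZMod r)) (ht : t * i = r - 1) : Nat.card {C : ConjClasses ↥(Matrix.symplecticGroup (Fin m) F) // ∃ g : Matrix.symplecticGroup (Fin m) F, ConjClasses.mk g = C ∧ orderOf g = r} = if Odd i then Nat.choose (m / i + t / 2) (t / 2) - 1 else Nat.choose (2 * m / i + t) t - 1 := by
  classical
  have hp := (Fact.out : p.Prime)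
  obtain ⟨g, hg, he, hinj, hsurj⟩ := exists_sp_reps (F := F) p m
  have hcard : Nat.card F = q := by rw [Nat.card_eq_fintype_card, hF]
  have hconj : ∀ {a b : ↥(Matrix.symplecticGroup (Fin m) F)}, IsConj a b → (a ^ r = 1 ↔ b ^ r = 1) := by
    intro a b hab
    obtain ⟨c, rfl⟩ := isConj_iff.1 hab
    rw [conj_pow, conj_eq_one_iff]
  obtain ⟨h0, hh0⟩ := hsurj 1 (by rw [orderOf_one]; exact Nat.coprime_one_left p)
  have hP : ∀ h, (g h) ^ r = 1 ↔ ∀ a : AlgebraicClosure F, aeval a h.1 = 0 →
      a ∈ realRoots F r ∨ a = algebraMap F (AlgebraicClosure F) 2 :=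
    fun h => pow_eq_one_iff hr.pos (g h) (hg h) h.1 (he h)
  have hg0 : ∀ h, g h = 1 ↔ h = h0 := fun h => by
    refine ⟨fun e => hinj h h0 ?_, ?_⟩
    · rw [e]; exact hh0.symm
    · rintro rfl; exact isConj_one_left.1 hh0
  set A : Set {h : F[X] // h.Monic ∧ h.natDegree = m} := {h | (g h) ^ r = 1} with hA
  have e1 : Nat.card {C : ConjClasses ↥(Matrix.symplecticGroup (Fin m) F) //
      ∃ x : Matrix.symplecticGroup (Fin m) F, ConjClasses.mk x = C ∧ orderOf x = r} =
      (A \ {h0}).ncard := by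
    haveI := Fact.mk hr
    rw [← Nat.card_coe_set_eq]
    refine (Nat.card_eq_of_bijective (fun h : ↥(A \ {h0}) => ⟨ConjClasses.mk (g h.1), g h.1, rfl,
      orderOf_eq_prime h.2.1 fun e => h.2.2 ((hg0 _).1 e)⟩) ⟨?_, ?_⟩).symm
    · intro a b hab
      exact Subtype.ext (hinj _ _ (ConjClasses.mk_eq_mk_iff_isConj.1 (congrArg Subtype.val hab)))
    · rintro ⟨C, x, rfl, hx⟩
      obtain ⟨h, hh⟩ := hsurj x (by rw [hx]; exact (Nat.coprime_primes hr hp).2 hrp)
      refine ⟨⟨h, (hconj hh).2 (hx ▸ pow_orderOf_eq_one x), fun e => ?_⟩, Subtype.ext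
        (ConjClasses.mk_eq_mk_iff_isConj.2 hh)⟩
      rw [(hg0 h).2 e] at hh
      rw [isConj_one_right.1 hh, orderOf_one] at hx
      exact hr.one_lt.ne hx
  have h0A : h0 ∈ A := by
    show (g h0) ^ r = 1
    rw [(hg0 h0).2 rfl, one_pow]
  rw [e1, Set.ncard_diff_singleton_of_mem h0A, ← Nat.card_coe_set_eq]
  have e2 : Nat.card ↥A = Nat.card {h : F[X] // h.Monic ∧ h.natDegree = m ∧ ∀ a : AlgebraicClosure F,
      aeval a h = 0 → a ∈ realRoots F r ∨ a = algebraMap F (AlgebraicClosure F) 2} :=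
    Nat.card_congr (((Equiv.subtypeEquivRight hP)).trans ((Equiv.subtypeSubtypeEquivSubtypeInter
      (fun h : F[X] => h.Monic ∧ h.natDegree = m) (fun h : F[X] => ∀ a : AlgebraicClosure F,
      aeval a h = 0 → a ∈ realRoots F r ∨ a = algebraMap F (AlgebraicClosure F) 2)).trans
      (Equiv.subtypeEquivRight fun h => and_assoc)))
  rw [e2]
  set d := if Odd i then i else i / 2 with hd
  have hi0 : 0 < i := by
    rcases Nat.eq_zero_or_pos i with h | h
    · rw [h, mul_zero] at ht; have := hr.two_le; omega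
    · exact h
  have hd0 : 0 < d := by
    rw [hd]; split_ifs with ho
    · exact hi0
    · obtain ⟨j, hj⟩ := Nat.not_odd_iff_even.1 ho; omega
  have hR : 2 * (realRoots F r).card = r - 1 :=
    card_realRoots (p := p) hr hr2 (fun h => hrp ((Nat.prime_dvd_prime_iff_eq hp hr).1 h).symm)
  have hc : algebraMap F (AlgebraicClosure F) 2 ∉ realRoots F r := by
    intro h
    obtain ⟨x, hxr, hx1, hx⟩ := (mem_realRoots hr.pos).1 h
    have hx0 : x ≠ 0 := fun h => by rw [h, zero_pow hr.pos.ne'] at hxr; exact zero_ne_one hxr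
    have h2 : x + x⁻¹ = (1 : AlgebraicClosure F) + 1⁻¹ := by rw [hx, map_ofNat, inv_one]; norm_num
    rcases (add_inv_eq_iff hx0 one_ne_zero).1 h2 with h | h
    · exact hx1 h
    · exact hx1 (by rw [h, inv_one])
  rw [card_monic_roots (realRoots F r) 2 hc hd0 (fun σ a ha => realRoots_closed hr.pos σ ha)
    (fun a ha => natDegree_minpoly (p := p) hr hr2 hrp (by rw [hcard]; exact hi) hd ha)
    (fun a _ => PerfectField.separable_of_irreducible
      (minpoly.irreducible (Algebra.IsIntegral.isIntegral a)))]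
  split_ifs with ho
  · have hdi : d = i := if_pos ho
    have hte : Even (t * i) := ht ▸ ⟨(realRoots F r).card, by omega⟩
    obtain ⟨s, hs⟩ := (Nat.even_mul.1 hte).resolve_right (Nat.not_even_iff_odd.2 ho)
    have h3 : (realRoots F r).card = s * i := by
      have : 2 * (realRoots F r).card = 2 * (s * i) := by rw [hR, ← ht, hs]; ring
      omega
    rw [hdi, h3, Nat.mul_div_cancel _ hi0, show t / 2 = s by omega]
  · obtain ⟨j, hj⟩ := Nat.not_odd_iff_even.1 ho
    have hdj : d = j := by rw [hd, if_neg ho]; omega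
    have h3 : (realRoots F r).card = t * j := by
      have : 2 * (realRoots F r).card = 2 * (t * j) := by rw [hR, ← ht, hj]; ring
      omega
    rw [hdj, h3, Nat.mul_div_cancel _ (by omega), show i = 2 * j by omega,
      Nat.mul_div_mul_left _ _ (by norm_num : 0 < 2)]

end Cfsg.Agent.S2645
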