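import Cfsg.Statements.S2647
import Cfsg.Agent.Lib.FusionB3.Frame
import Cfsg.Agent.Lib.Orth52.NegPairs
import Cfsg.Agent.Lib.OrthStd.Models
-- import your own Cfsg.Agent.* helpers here

set_option autoImplicit false
open Cfsg

namespace Cfsg.Agent.S2647

open Cfsg.Agent.Lib.Forms Cfsg.Agent.Lib.Orth52 Cfsg.Agent.Lib.FusionB3 Module in
theorem exists_frame {F : Type*} [Field F] [Finite F] (h2 : ¬ IsSquare (2 : F)) :
    Nonempty (Frame (qOddFn (F := F) 3)) := by
  have h20 : (2 : F) ≠ 0 := fun h => h2 (h ▸ IsSquare.zero)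
  obtain ⟨α, β, hab⟩ := exists_sq_add_sq h20 (one_ne_zero (α := F)) one_ne_zero (-1)
  let f : Fin 7 → (Unit ⊕ (Fin 3 ⊕ Fin 3) → F) :=
    ![Sum.elim (fun _ => α) (Sum.elim ![β, 0, 0] ![β, 0, 0]),
      Sum.elim (fun _ => -β) (Sum.elim ![α, 0, 0] ![α, 0, 0]),
      Sum.elim (fun _ => 0) (Sum.elim ![0, α, β] ![0, α, β]),
      Sum.elim (fun _ => 0) (Sum.elim ![0, -β, α] ![0, -β, α]),
      Sum.elim (fun _ => 0) (Sum.elim ![1, 0, 0] ![-1, 0, 0]),
      Sum.elim (fun _ => 0) (Sum.elim ![0, 1, 0] ![0, -1, 0]),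
      Sum.elim (fun _ => 0) (Sum.elim ![0, 0, 1] ![0, 0, -1])]
  have hp : ∀ x y : Unit ⊕ (Fin 3 ⊕ Fin 3) → F, QuadraticMap.polar (⇑(qOddFn (F := F) 3)) x y =
      2 * (x (.inl ()) * y (.inl ())) + ∑ i : Fin 3,
        (x (.inr (.inl i)) * y (.inr (.inr i)) + x (.inr (.inr i)) * y (.inr (.inl i))) := by
    intro x y
    simp only [QuadraticMap.polar, ← qOddFn_apply, Cfsg.quadFormOdd, Pi.add_apply, Fin.sum_univ_three]
    ring
  have hg : ∀ i j, QuadraticMap.polar (⇑(qOddFn (F := F) 3)) (f i) (f j) =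
      if i = j then 2 * (-1 : F) else 0 := by
    intro i j
    rw [hp, Fin.sum_univ_three]
    fin_cases i <;> fin_cases j <;> simp [f] <;>
      first
      | ring1
      | linear_combination (2 : F) * hab
  have hli : LinearIndependent F f := by
    rw [Fintype.linearIndependent_iff]
    intro r hr i
    have h := congrArg (QuadraticMap.polarBilin (qOddFn (F := F) 3) (f i)) hr
    simp only [map_sum, map_smul, QuadraticMap.polarBilin_apply_apply, hg, smul_eq_mul, mul_ite,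
      mul_zero, Finset.sum_ite_eq, Finset.mem_univ, if_true, map_zero] at h
    exact (mul_eq_zero.1 h).resolve_right (mul_ne_zero h20 (neg_ne_zero.2 one_ne_zero))
  refine ⟨⟨basisOfLinearIndependentOfCardEqFinrank hli (by simp), -1, neg_ne_zero.2 one_ne_zero,
    h2, fun i j => ?_⟩⟩
  simp only [coe_basisOfLinearIndependentOfCardEqFinrank, hg]

/-- The 2-part of the order. -/
theorem factorization_eq {G c q : ℕ} (hq : q % 8 = 3 ∨ q % 8 = 5) (hG : 0 < G)
    (h : G * 4 = 2 * q ^ c * ∏ i ∈ Finset.range 3, (q ^ (2 * (i + 1)) - 1)) :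
    G.factorization 2 = 9 := by
  obtain ⟨u, hu, hu2⟩ : ∃ u, q ^ 2 = 8 * u + 1 ∧ u % 2 = 1 := by
    have hk : q = 8 * (q / 8) + q % 8 := by omega
    rcases hq with h | h <;> rw [h] at hk
    · exact ⟨8 * (q / 8) ^ 2 + 6 * (q / 8) + 1, by (conv_lhs => rw [hk]); ring, by omega⟩
    · exact ⟨8 * (q / 8) ^ 2 + 10 * (q / 8) + 3, by (conv_lhs => rw [hk]); ring, by omega⟩
  set m := q ^ c * (u ^ 3 * ((4 * u + 1) * (64 * u ^ 2 + 24 * u + 3))) with hm
  have hG' : G = 2 ^ 9 * m := by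
    rw [Finset.prod_range_succ, Finset.prod_range_succ, Finset.prod_range_succ,
      Finset.prod_range_zero, one_mul, pow_mul, pow_mul, pow_mul, hu] at h
    have e1 : (8 * u + 1) ^ 2 - 1 = 16 * u * (4 * u + 1) := by
      rw [show (8 * u + 1) ^ 2 = 16 * u * (4 * u + 1) + 1 by ring]; omega
    have e2 : (8 * u + 1) ^ 3 - 1 = 8 * u * (64 * u ^ 2 + 24 * u + 3) := by
      rw [show (8 * u + 1) ^ 3 = 8 * u * (64 * u ^ 2 + 24 * u + 3) + 1 by ring]; omega
    simp only [zero_add, pow_one, Nat.reduceAdd] at h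
    rw [e1, e2, Nat.add_sub_cancel] at h
    refine Nat.eq_of_mul_eq_mul_right (show 0 < 4 by norm_num) ?_
    rw [h, hm]; ring
  have hodd : ¬ 2 ∣ m := by
    rw [hm, Nat.prime_two.dvd_mul, Nat.prime_two.dvd_mul, Nat.prime_two.dvd_mul]
    rintro (h | h | h | h)
    · have := Nat.prime_two.dvd_of_dvd_pow h; omega
    · have := Nat.prime_two.dvd_of_dvd_pow h; omega
    · omega
    · have h' : (64 * u ^ 2 + 24 * u + 3) % 2 = 0 := Nat.mod_eq_zero_of_dvd h
      omega
  have hm0 : m ≠ 0 := fun e => hodd (e ▸ dvd_zero 2)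
  rw [hG', Nat.factorization_mul (by norm_num) hm0, Finsupp.add_apply,
    Nat.Prime.factorization_pow Nat.prime_two, Finsupp.single_eq_same,
    Nat.factorization_eq_zero_of_not_dvd hodd]


/-- Let q be an odd prime power with q ≡ ±3 (mod 8), F a field with q elements and S a Sylow 2-subgroup of the commutator subgroup Ω₇(q) of the orthogonal group of the form x₀² + x₁y₁ + x₂y₂ + x₃y₃ over F. Then every automorphism of S induced by N(S) is inner, S has no strongly closed subgroup other than 1 and S with respect to this group, and the 2-fusion system of Ω₇(q) on S is simple. -/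
theorem result {F : Type*} [Field F] [Fintype F] [DecidableEq F] (q : ℕ) (hF : Fintype.card F = q) (hq : q % 8 = 3 ∨ q % 8 = 5) (S : Sylow 2 ↥(Cfsg.Omega F (Cfsg.quadFormOdd 3 F))) : (Cfsg.groupFusionSystem (S : Subgroup ↥(Cfsg.Omega F (Cfsg.quadFormOdd 3 F)))).autGroup (S : Subgroup ↥(Cfsg.Omega F (Cfsg.quadFormOdd 3 F))) = Cfsg.Inn ↥(S : Subgroup ↥(Cfsg.Omega F (Cfsg.quadFormOdd 3 F))) ∧ (∀ T : Subgroup ↥(Cfsg.Omega F (Cfsg.quadFormOdd 3 F)), (Cfsg.groupFusionSystem (S : Subgroup ↥(Cfsg.Omega F (Cfsg.quadFormOdd 3 F)))).StronglyClosed T → T = ⊥ ∨ T = (S : Subgroup ↥(Cfsg.Omega F (Cfsg.quadFormOdd 3 F)))) ∧ (Cfsg.groupFusionSystem (S : Subgroup ↥(Cfsg.Omega F (Cfsg.quadFormOdd 3 F)))).IsSimple 2 := by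
  classical
  have hodd : Odd q := Nat.odd_iff.2 (by omega)
  have h2 : ¬ IsSquare (2 : F) := by
    rw [FiniteField.isSquare_two_iff, hF]
    omega
  have h20 : (2 : F) ≠ 0 := fun h => h2 (h ▸ IsSquare.zero)
  obtain ⟨fr⟩ := exists_frame h2
  have hQ := Cfsg.Agent.Lib.Orth52.qOddFn_nondeg (F := F) 3 h20
  let iso := Cfsg.Agent.Lib.Forms.isoOrth (Cfsg.Agent.Lib.Orth52.qOddFn (F := F) 3)
    (f := Cfsg.quadFormOdd 3 F) (Cfsg.Agent.Lib.Orth52.qOddFn_apply 3)
  have hmap : (Cfsg.Omega F (Cfsg.quadFormOdd 3 F)).map iso.toMonoidHom = commutator _ := by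
    rw [Cfsg.Omega, commutator_def, Subgroup.map_commutator,
      Subgroup.map_top_of_surjective iso.toMonoidHom iso.surjective, commutator_def]
  let e := (iso.subgroupMap (Cfsg.Omega F (Cfsg.quadFormOdd 3 F))).trans
    (MulEquiv.subgroupCongr hmap)
  have : Finite ↥(Cfsg.Omega F (Cfsg.quadFormOdd 3 F)) := inferInstance
  haveI : Fact (Nat.Prime 2) := ⟨Nat.prime_two⟩
  refine Cfsg.Agent.Lib.FusionB3.fusion_frame fr hQ e S ?_
  rw [Sylow.card_eq_multiplicity]
  suffices h : (Nat.card ↥(Cfsg.Omega F (Cfsg.quadFormOdd 3 F))).factorization 2 = 9 by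
    rw [h]; norm_num
  refine factorization_eq (c := 3 ^ 2) hq Nat.card_pos ?_
  have hidx := Cfsg.Agent.Lib.Forms.index_commutator_odd hQ h20 (by simp)
  rw [← Cfsg.Agent.Lib.OrthStd.card_orth_odd hF hodd 3, Nat.card_congr e.toEquiv,
    Cfsg.Agent.Lib.OrthStd.card_isometry (Cfsg.Agent.Lib.Orth52.qOddFn_apply 3)]
  conv_rhs => rw [← (commutator _).card_mul_index, hidx]

end Cfsg.Agent.S2647
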