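import Cfsg.Statements.S2652
import Cfsg.Agent.Lib.Fi23Frame52.Main
-- import your own Cfsg.Agent.* helpers here

set_option autoImplicit false
open Cfsg

namespace Cfsg.Agent.S2652

/-- Let T be a Sylow 2-subgroup of the Fischer group Fi₂₃ (the finitely presented group `Spor.Fi23`; T has order 2¹⁸). Then every elementary abelian subgroup of Fi₂₃ contained in T and normal in T has order at most 2¹¹, and there is exactly one such subgroup of order 2¹¹. -/
theorem result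
    (T : Sylow 2 Cfsg.Spor.Fi23) :
    (∀ A : Subgroup Cfsg.Spor.Fi23, A ≤ T → (A.subgroupOf T).Normal → Cfsg.IsElementaryAbelian 2 A →
        Nat.card A ≤ 2 ^ 11) ∧
    ∃! A : Subgroup Cfsg.Spor.Fi23, A ≤ T ∧ (A.subgroupOf T).Normal ∧ Cfsg.IsElementaryAbelian 2 A ∧
        Nat.card A = 2 ^ 11 := by
  obtain ⟨ρ, hρ, hzz, hzc, hG⟩ := Cfsg.Agent.Lib.Fi23Frame52.z_facts
  haveI : Finite Cfsg.Spor.Fi23 := Nat.finite_of_card_ne_zero (by
    intro h
    have h' := hG.symm.trans h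
    omega)
  haveI : Fact (Nat.Prime 2) := ⟨Nat.prime_two⟩
  obtain ⟨T0, E₀, hE0T, hE0c, hE0comm, hE0sq, hE0n, hE0max⟩ :=
    Cfsg.Agent.Lib.Fi23Frame52.exists_T0 hρ hzz hzc hG
  replace hE0max : ∀ A : Subgroup Cfsg.Spor.Fi23, A ≤ (T0 : Subgroup Cfsg.Spor.Fi23) →
      (∀ a ∈ A, ∀ b ∈ A, a * b = b * a) → (∀ a ∈ A, a * a = 1) →
      Nat.card A < 2 ^ 11 ∨ A ≤ E₀ := hE0max
  obtain ⟨g, hg⟩ := MulAction.exists_smul_eq Cfsg.Spor.Fi23 T0 T
  have hT : (T : Subgroup Cfsg.Spor.Fi23) =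
      (T0 : Subgroup Cfsg.Spor.Fi23).map (MulAut.conj g).toMonoidHom := by
    rw [← hg]; rfl
  set c := (MulAut.conj g).toMonoidHom with hc
  have hinj : Function.Injective c := (MulAut.conj g).injective
  set E := E₀.map c with hE
  have hEcard : Nat.card E = 2 ^ 11 := (Subgroup.card_map_of_injective hinj).trans hE0c
  have hkey : ∀ A : Subgroup Cfsg.Spor.Fi23, A ≤ (T : Subgroup Cfsg.Spor.Fi23) →
      Cfsg.IsElementaryAbelian 2 A → Nat.card A < 2 ^ 11 ∨ A ≤ E := by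
    intro A hA hAe
    have hAm : A = (A.comap c).map c :=
      (Subgroup.map_comap_eq_self (fun a _ => ⟨g⁻¹ * a * g, by simp [hc, mul_assoc]⟩)).symm
    have hcard : Nat.card (A.comap c) = Nat.card A := by
      conv_rhs => rw [hAm]
      exact (Subgroup.card_map_of_injective hinj).symm
    have p1 : A.comap c ≤ (T0 : Subgroup Cfsg.Spor.Fi23) := by
      intro a ha
      have hm : c a ∈ (T : Subgroup Cfsg.Spor.Fi23) := hA ha
      rw [hT] at hm
      obtain ⟨b, hb, hbe⟩ := Subgroup.mem_map.1 hm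
      exact hinj hbe ▸ hb
    have p2 : ∀ a ∈ A.comap c, ∀ b ∈ A.comap c, a * b = b * a := by
      intro a ha b hb
      have h2 := congrArg Subtype.val (hAe.1.is_comm.comm (⟨c a, ha⟩ : A) ⟨c b, hb⟩)
      exact hinj (by simpa using h2)
    have p3 : ∀ a ∈ A.comap c, a * a = 1 := by
      intro a ha
      exact hinj (by rw [map_mul, map_one, ← pow_two]; exact hAe.2 _ ha)
    rcases hE0max (A.comap c) p1 p2 p3 with h | h
    · exact Or.inl (hcard ▸ h)
    · exact Or.inr (by rw [hAm]; exact Subgroup.map_mono h)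
  have hET : E ≤ (T : Subgroup Cfsg.Spor.Fi23) := hT ▸ Subgroup.map_mono hE0T
  have hEe : Cfsg.IsElementaryAbelian 2 E := by
    refine ⟨⟨⟨?_⟩⟩, ?_⟩
    · rintro ⟨_, a, ha, rfl⟩ ⟨_, b, hb, rfl⟩
      exact Subtype.ext (by
        show c a * c b = c b * c a
        rw [← map_mul, ← map_mul, hE0comm a ha b hb])
    · rintro _ ⟨a, ha, rfl⟩
      rw [← map_pow, pow_two, hE0sq a ha, map_one]
  have hEn : (E.subgroupOf (T : Subgroup Cfsg.Spor.Fi23)).Normal := ⟨fun a ha x => by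
    rw [Subgroup.mem_subgroupOf] at ha ⊢
    obtain ⟨b, hb, hbe⟩ := Subgroup.mem_map.1 ha
    have hm : (x : Cfsg.Spor.Fi23) ∈ (T0 : Subgroup Cfsg.Spor.Fi23).map c := hT.le x.2
    obtain ⟨y, hy, hye⟩ := Subgroup.mem_map.1 hm
    refine Subgroup.mem_map.2 ⟨y * b * y⁻¹, hE0n y hy b hb, ?_⟩
    simp [map_mul, map_inv, hbe, hye]⟩
  refine ⟨fun A hA _ hAe => ?_, E, ⟨hET, hEn, hEe, hEcard⟩, ?_⟩
  · rcases hkey A hA hAe with h | h
    · exact h.le
    · exact (Nat.card_le_card_of_injective _ (Subgroup.inclusion_injective h)).trans hEcard.le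
  · rintro A ⟨hA, -, hAe, hAc⟩
    rcases hkey A hA hAe with h | h
    · exact absurd hAc h.ne
    · exact Subgroup.eq_of_le_of_card_ge h (by rw [hEcard, hAc])

end Cfsg.Agent.S2652
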