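import Cfsg.Statements.S2653
import Cfsg.Agent.Lib.AltDegree52.Reduce

set_option autoImplicit false
open scoped MatrixGroups
open Cfsg

namespace Cfsg.Agent.S2653

/-- Alternating sections of finite linear groups. Let `F` be a finite field of characteristic `p` and `n` a natural number, and suppose some subgroup `H` of GL_n(F) has a normal subgroup `K` with `H ⧸ K` isomorphic to the alternating group of degree `r ≥ 9`. Then `n ≥ r - 2` when `p` divides `r`, and `n ≥ r - 1` otherwise (the smallest degree of a nontrivial projective representation of that alternating group in characteristic `p`). The same bound follows for every classical group with natural module of dimension `n` over `F`, since each is a section of a subgroup of GL_n(F). -/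
theorem result {F : Type*} [Field F] [Fintype F] (p : ℕ) [Fact p.Prime] [CharP F p]
    (n : ℕ) (r : ℕ) (H : Subgroup (GL (Fin n) F)) (K : Subgroup ↥H) [K.Normal]
    (h : Nonempty (↥H ⧸ K ≃* ↥(alternatingGroup (Fin r)))) (hr : 9 ≤ r) :
    r - 1 - (if p ∣ r then 1 else 0) ≤ n := by
  classical
  obtain ⟨e⟩ := h
  have hsurj : Function.Surjective (e.toMonoidHom.comp (QuotientGroup.mk' K)) :=
    e.surjective.comp (QuotientGroup.mk'_surjective K)
  let L := AlgebraicClosure F
  let ρ : ↥H →* Module.End L (Fin n → L) :=
    (Matrix.toLinAlgEquiv' : Matrix (Fin n) (Fin n) L ≃ₐ[L] _).toMonoidHom.comp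
      ((RingHom.mapMatrix (algebraMap F L)).toMonoidHom.comp ((Units.coeHom _).comp H.subtype))
  have hρ : Function.Injective ρ := by
    intro a b hab
    refine Subtype.ext (Units.ext ?_)
    exact Matrix.map_injective (algebraMap F L).injective
      ((Matrix.toLinAlgEquiv' : Matrix (Fin n) (Fin n) L ≃ₐ[L] _).injective hab)
  obtain ⟨h1, h2⟩ := Cfsg.Agent.Lib.AltDegree52.big_of_section hr
    (e.toMonoidHom.comp (QuotientGroup.mk' K)) hsurj ρ hρ
  rw [Module.finrank_fin_fun] at h1 h2
  haveI : CharP L p := charP_of_injective_algebraMap (algebraMap F L).injective p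
  split_ifs with hp
  · omega
  · have := h2 fun h0 => hp ((CharP.cast_eq_zero_iff L p r).1 h0)
    omega

end Cfsg.Agent.S2653
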