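import Cfsg.Statements.S2657
import Cfsg.Agent.Lib.AltSectExc.Lift
import Cfsg.Agent.Lib.AltSectExc.WeylF4
import Cfsg.Agent.Lib.LieTwisted.Twist.TorusChar
import Cfsg.Agent.Lib.LieTwisted.Twist.Split

set_option autoImplicit false
open scoped MatrixGroups
open Cfsg
open Cfsg.Agent.Lib.AltSectExc Cfsg.Agent.Lib.LieTwisted.Twist

namespace Cfsg.Agent.S2657

open Cfsg.Agent

/-- A permutation group element from a smaller degree. -/
theorem alt_embed {n r : ℕ} (hr : n ≤ r) :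
    ∃ ι : ↥(alternatingGroup (Fin n)) →* ↥(alternatingGroup (Fin r)), Function.Injective ι := by
  let e := Equiv.Perm.viaEmbeddingHom (Fin.castLEEmb hr)
  have hs : ∀ σ : ↥(alternatingGroup (Fin n)), e σ ∈ alternatingGroup (Fin r) := fun σ => by
    rw [Equiv.Perm.mem_alternatingGroup]
    show Equiv.Perm.sign (Equiv.Perm.viaEmbedding (σ : Equiv.Perm (Fin n)) (Fin.castLEEmb hr)) = 1
    rw [Equiv.Perm.viaEmbedding, Equiv.Perm.sign_extendDomain]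
    exact Equiv.Perm.mem_alternatingGroup.1 σ.2
  refine ⟨(e.comp (alternatingGroup (Fin n)).subtype).codRestrict _ hs, fun a b h => Subtype.ext ?_⟩
  exact Equiv.Perm.viaEmbeddingHom_injective _ (congrArg Subtype.val h)

def a11 : Equiv.Perm (Fin 11) := finRotate 11

def c11 : Equiv.Perm (Fin 11) where
  toFun i := 3 * i
  invFun i := 4 * i
  left_inv := by decide
  right_inv := by decide

/-- An element of order eleven and one cubing it. -/
theorem exists_eleven {r : ℕ} (hr : 11 ≤ r) :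
    ∃ a c : ↥(alternatingGroup (Fin r)), orderOf a = 11 ∧ c * a * c⁻¹ = a ^ 3 := by
  obtain ⟨ι, hι⟩ := alt_embed hr
  have h1 : Equiv.Perm.sign a11 = 1 := by decide
  have h2 : Equiv.Perm.sign c11 = 1 := by decide
  let a : ↥(alternatingGroup (Fin 11)) := ⟨a11, Equiv.Perm.mem_alternatingGroup.2 h1⟩
  let c : ↥(alternatingGroup (Fin 11)) := ⟨c11, Equiv.Perm.mem_alternatingGroup.2 h2⟩
  have h3 : c * a * c⁻¹ = a ^ 3 := Subtype.ext (show c11 * a11 * c11⁻¹ = a11 ^ 3 by decide)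
  have h4 : a ^ 11 = 1 := Subtype.ext (show a11 ^ 11 = 1 by decide)
  have h5 : a ≠ 1 := fun h => absurd (congrArg Subtype.val h) (show a11 ≠ 1 by decide)
  have : Fact (Nat.Prime 11) := ⟨by norm_num⟩
  refine ⟨ι a, ι c, ?_, by rw [← map_inv, ← map_mul, ← map_mul, h3, map_pow]⟩
  rw [orderOf_injective ι hι]
  exact orderOf_eq_prime h4 h5

def a5 : Equiv.Perm (Fin 12) where
  toFun := ![1, 2, 3, 4, 0, 5, 6, 7, 8, 9, 10, 11]
  invFun := ![4, 0, 1, 2, 3, 5, 6, 7, 8, 9, 10, 11]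
  left_inv := by decide
  right_inv := by decide

def a7 : Equiv.Perm (Fin 12) where
  toFun := ![0, 1, 2, 3, 4, 6, 7, 8, 9, 10, 11, 5]
  invFun := ![0, 1, 2, 3, 4, 11, 5, 6, 7, 8, 9, 10]
  left_inv := by decide
  right_inv := by decide

def c57 : Equiv.Perm (Fin 12) where
  toFun := ![0, 2, 4, 1, 3, 5, 8, 11, 7, 10, 6, 9]
  invFun := ![0, 3, 1, 4, 2, 5, 10, 8, 6, 11, 9, 7]
  left_inv := by decide
  right_inv := by decide

/-- Commuting elements of orders five and seven, with an element squaring one and cubing the other. -/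
theorem exists_five_seven {r : ℕ} (hr : 12 ≤ r) :
    ∃ a b c : ↥(alternatingGroup (Fin r)), orderOf a = 5 ∧ orderOf b = 7 ∧ Commute b a ∧
      c * a * c⁻¹ = a ^ 2 ∧ c * b * c⁻¹ = b ^ 3 := by
  obtain ⟨ι, hι⟩ := alt_embed hr
  have h1 : Equiv.Perm.sign a5 = 1 := by decide
  have h2 : Equiv.Perm.sign a7 = 1 := by decide
  have h3 : Equiv.Perm.sign c57 = 1 := by decide
  let a : ↥(alternatingGroup (Fin 12)) := ⟨a5, Equiv.Perm.mem_alternatingGroup.2 h1⟩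
  let b : ↥(alternatingGroup (Fin 12)) := ⟨a7, Equiv.Perm.mem_alternatingGroup.2 h2⟩
  let c : ↥(alternatingGroup (Fin 12)) := ⟨c57, Equiv.Perm.mem_alternatingGroup.2 h3⟩
  have e1 : b * a = a * b := Subtype.ext (show a7 * a5 = a5 * a7 by decide)
  have e2 : c * a * c⁻¹ = a ^ 2 := Subtype.ext (show c57 * a5 * c57⁻¹ = a5 ^ 2 by decide)
  have e3 : c * b * c⁻¹ = b ^ 3 := Subtype.ext (show c57 * a7 * c57⁻¹ = a7 ^ 3 by decide)
  have p5 : a ^ 5 = 1 := Subtype.ext (show a5 ^ 5 = 1 by decide)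
  have p7 : b ^ 7 = 1 := Subtype.ext (show a7 ^ 7 = 1 by decide)
  have n5 : a ≠ 1 := fun h => absurd (congrArg Subtype.val h) (show a5 ≠ 1 by decide)
  have n7 : b ≠ 1 := fun h => absurd (congrArg Subtype.val h) (show a7 ≠ 1 by decide)
  have : Fact (Nat.Prime 5) := ⟨by norm_num⟩
  have : Fact (Nat.Prime 7) := ⟨by norm_num⟩
  refine ⟨ι a, ι b, ι c, ?_, ?_, ?_, by rw [← map_inv, ← map_mul, ← map_mul, e2, map_pow],
    by rw [← map_inv, ← map_mul, ← map_mul, e3, map_pow]⟩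
  · rw [orderOf_injective ι hι]; exact orderOf_eq_prime p5 n5
  · rw [orderOf_injective ι hι]; exact orderOf_eq_prime p7 n7
  · show ι b * ι a = ι a * ι b
    rw [← map_mul, ← map_mul, e1]

section

variable {D : Cfsg.Lie.ChevalleyDatum} {C : Lib.ChevStructure.Core D} {K : Type*} [Field K] [Finite K] (T : Tw C K)
  {A : Type*} [Group A] {H : Subgroup ↥T.W} (π : ↥H →* A) (hπ : Function.Surjective π)
include hπ

theorem no_eleven (hW : Nat.card ↥T.WT = 1152)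
    (hp : (Nat.card ↥T.W).factorization 11 = (Nat.card ↥T.H1).factorization 11) {a c : A} (ha : orderOf a = 11)
    (hc : c * a * c⁻¹ = a ^ 3) : False := by
  have : Fact (Nat.Prime 11) := ⟨by norm_num⟩
  obtain ⟨P, hP, hP11, ⟨x, hx, hxa⟩, hlift⟩ := exists_lift H π ha (hπ a)
  obtain ⟨y, hy, hyP, j, hj⟩ := hlift c (hπ c) (hc ▸ pow_mem (Subgroup.mem_zpowers a) 3)
  have h1 := T.pow_card_WT_fix hp hP11 hyP hx
  rw [hW] at h1
  generalize hn : 1152 = N at h1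
  have h2 : (⟨y, hy⟩ : ↥H) ^ N * ⟨x, hP hx⟩ * ((⟨y, hy⟩ : ↥H) ^ N)⁻¹ = ⟨x, hP hx⟩ := Subtype.ext (by simpa using h1)
  have h3 := congrArg π h2
  rw [map_mul, map_mul, map_inv, map_pow, hxa, hj] at h3
  have hd : a ^ j * c * a * (a ^ j * c)⁻¹ = a ^ 3 := by
    rw [show a ^ j * c * a * (a ^ j * c)⁻¹ = a ^ j * (c * a * c⁻¹) * (a ^ j)⁻¹ by group, hc]
    exact mul_inv_eq_iff_eq_mul.2 (((Commute.refl a).zpow_left j).pow_right 3).eq
  rw [pow_conj hd N] at h3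
  conv_rhs at h3 => rw [← pow_one a]
  have h4 := pow_eq_pow_iff_modEq.1 h3
  rw [ha, Nat.ModEq, ← hn, show 1152 = 5 * 230 + 2 from rfl, pow_add, pow_mul, Nat.mul_mod, Nat.pow_mod] at h4
  norm_num at h4

theorem no_five_seven (hW : Nat.card ↥T.WT = 1152)
    (hcases : ∀ σ ∈ T.WT, σ ^ 8 = 1 ∨ σ ^ 6 = 1 ∨
      ∀ r m, C.v r m + C.v ((σ ^ 4) r) m + C.v ((σ ^ 4) ((σ ^ 4) r)) m = 0)
    (hp5 : (Nat.card ↥T.W).factorization 5 = (Nat.card ↥T.H1).factorization 5)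
    (hp7 : (Nat.card ↥T.W).factorization 7 = (Nat.card ↥T.H1).factorization 7)
    {a b c : A} (ha : orderOf a = 5) (hb : orderOf b = 7) (hba : Commute b a)
    (hca : c * a * c⁻¹ = a ^ 2) (hcb : c * b * c⁻¹ = b ^ 3) : False := by
  have : Fact (Nat.Prime 5) := ⟨by norm_num⟩
  have : Fact (Nat.Prime 7) := ⟨by norm_num⟩
  obtain ⟨P, hP, hP5, ⟨x, hx, hxa⟩, hliftP⟩ := exists_lift H π ha (hπ a)
  obtain ⟨z, hz, hzP, i, hi⟩ := hliftP b (hπ b)
    (by rw [hba.eq, mul_inv_cancel_right]; exact Subgroup.mem_zpowers a)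
  obtain ⟨y₁, hy₁, hy₁P, j, hj⟩ := hliftP c (hπ c) (hca ▸ pow_mem (Subgroup.mem_zpowers a) 2)
  let M : Subgroup ↥T.W :=
    { carrier := {g | g ∈ H ∧ ∀ w, g * w * g⁻¹ ∈ P ↔ w ∈ P}
      one_mem' := ⟨one_mem H, fun w => by simp⟩
      mul_mem' := fun {g h} hg hh => ⟨mul_mem hg.1 hh.1, fun w => by
        rw [show g * h * w * (g * h)⁻¹ = g * (h * w * h⁻¹) * g⁻¹ by group, hg.2, hh.2]⟩
      inv_mem' := fun {g} hg => ⟨inv_mem hg.1, fun w => by
        rw [← hg.2 (g⁻¹ * w * g⁻¹⁻¹), show g * (g⁻¹ * w * g⁻¹⁻¹) * g⁻¹ = w by group]⟩ }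
  have hmemM : ∀ g ∈ H, (∀ w ∈ P, g * w * g⁻¹ ∈ P) → g ∈ M := fun g hg h => by
    refine ⟨hg, fun w => ⟨fun hw => ?_, h w⟩⟩
    obtain ⟨k, hk⟩ : ∃ k, g⁻¹ = g ^ k := by
      obtain ⟨k, hk⟩ := mem_powers_iff_mem_zpowers.2 (inv_mem (Subgroup.mem_zpowers g))
      exact ⟨k, hk.symm⟩
    have := pow_conj_mem h hw k
    rwa [← hk, show g⁻¹ * (g * w * g⁻¹) * g⁻¹⁻¹ = w by group] at this
  have hMH : M ≤ H := fun g hg => hg.1
  let πM : ↥M →* A := π.comp (Subgroup.inclusion hMH)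
  have hbM : b ∈ πM.range := by
    refine ⟨⟨z, hmemM z hz hzP⟩ ^ 15, ?_⟩
    rw [map_pow]
    show (π ⟨z, hz⟩) ^ 15 = b
    rw [hi, ((hba.symm.zpow_left i)).mul_pow, ← zpow_natCast (a ^ i), ← zpow_mul, mul_comm i, zpow_mul,
      zpow_natCast, show a ^ 15 = 1 from orderOf_dvd_iff_pow_eq_one.1 (by rw [ha]; norm_num), one_zpow, one_mul,
      show b ^ 15 = b ^ 7 * b ^ 7 * b by rw [← pow_add, ← pow_succ],
      show b ^ 7 = 1 from hb ▸ pow_orderOf_eq_one b, one_mul, one_mul]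
  set d := a ^ j * c with hd
  have hdM : d ∈ πM.range := ⟨⟨y₁, hmemM y₁ hy₁ hy₁P⟩, hj⟩
  have hdb : d * b * d⁻¹ = b ^ 3 := by
    rw [hd, show a ^ j * c * b * (a ^ j * c)⁻¹ = a ^ j * (c * b * c⁻¹) * (a ^ j)⁻¹ by group, hcb]
    exact mul_inv_eq_iff_eq_mul.2 ((hba.symm.zpow_left j).pow_right 3).eq
  have hda : d * a * d⁻¹ = a ^ 2 := by
    rw [hd, show a ^ j * c * a * (a ^ j * c)⁻¹ = a ^ j * (c * a * c⁻¹) * (a ^ j)⁻¹ by group, hca]
    exact mul_inv_eq_iff_eq_mul.2 (((Commute.refl a).zpow_left j).pow_right 2).eq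
  obtain ⟨R, hR, hR7, ⟨u, hu, hub⟩, hliftR⟩ := exists_lift M πM hb hbM
  obtain ⟨y, hy, hyR, l, hl⟩ := hliftR d hdM (hdb ▸ pow_mem (Subgroup.mem_zpowers b) 3)
  set f := b ^ l * d with hf
  have hfb : f * b * f⁻¹ = b ^ 3 := by
    rw [hf, show b ^ l * d * b * (b ^ l * d)⁻¹ = b ^ l * (d * b * d⁻¹) * (b ^ l)⁻¹ by group, hdb]
    exact mul_inv_eq_iff_eq_mul.2 (((Commute.refl b).zpow_left l).pow_right 3).eq
  have hfa : f * a * f⁻¹ = a ^ 2 := by
    rw [hf, show b ^ l * d * a * (b ^ l * d)⁻¹ = b ^ l * (d * a * d⁻¹) * (b ^ l)⁻¹ by group, hda]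
    exact mul_inv_eq_iff_eq_mul.2 ((hba.zpow_left l).pow_right 2).eq
  have hyP : ∀ w ∈ P, y * w * y⁻¹ ∈ P := fun w hw => (hy.2 w).2 hw
  have hyS : ∀ s ∈ P ⊔ R, y * s * y⁻¹ ∈ P ⊔ R := fun s hs => by
    have hle : P ⊔ R ≤ (P ⊔ R).comap (MulAut.conj y).toMonoidHom := sup_le
      (fun w hw => Subgroup.mem_sup_left (hyP w hw)) (fun w hw => Subgroup.mem_sup_right (hyR w hw))
    exact hle hs
  have hc57 : ∀ w ∈ R, ∀ s ∈ P, Commute w s := fun w hw s hs =>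
    commute_of_normalizes T hp5 (by rw [hW]; norm_num) hP5 hR7 hw (fun s hs => ((hR hw).2 s).2 hs) hs
  obtain ⟨φ, hφ⟩ := exists_conj_le_H1 T hp5 hp7 hP5 hR7 hc57
  obtain ⟨n, σ, hσ, hn, hacts, hfix⟩ := exists_monomial_pow T hφ (y := φ y) (by
    rintro _ ⟨s, hs, rfl⟩
    exact ⟨_, hyS s hs, by simp [map_mul]⟩)
  have hS : ∀ s ∈ P ⊔ R, φ s ∈ (P ⊔ R).map φ.toMonoidHom := fun s hs => ⟨s, hs, rfl⟩
  have hxS : x ∈ P ⊔ R := Subgroup.mem_sup_left hx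
  have huS : u ∈ P ⊔ R := Subgroup.mem_sup_right hu
  have hconj : ∀ k : ℕ, σ ^ k = 1 → ∀ s ∈ P ⊔ R, y ^ k * s * (y ^ k)⁻¹ = s := fun k hk s hs => φ.injective (by
    have h := hn k _ (hS s hs)
    rw [(hfix k hk _ (hS s hs)).eq, mul_inv_cancel_right] at h
    simpa [map_mul, map_pow] using h)
  rcases hcases σ hσ with h | h | h
  · have e : (⟨y, hy.1⟩ : ↥H) ^ 8 * ⟨u, hMH (hR hu)⟩ * ((⟨y, hy.1⟩ : ↥H) ^ 8)⁻¹ = ⟨u, hMH (hR hu)⟩ :=
      Subtype.ext (by simpa using hconj 8 h u huS)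
    have e2 := congrArg π e
    rw [map_mul, map_mul, map_inv, map_pow, show π ⟨y, hy.1⟩ = f from hl,
      show π ⟨u, hMH (hR hu)⟩ = b from hub, pow_conj hfb 8] at e2
    conv_rhs at e2 => rw [← pow_one b]
    have e3 := pow_eq_pow_iff_modEq.1 e2
    rw [hb] at e3
    exact absurd e3 (by decide)
  · have e : (⟨y, hy.1⟩ : ↥H) ^ 6 * ⟨x, hP hx⟩ * ((⟨y, hy.1⟩ : ↥H) ^ 6)⁻¹ = ⟨x, hP hx⟩ :=
      Subtype.ext (by simpa using hconj 6 h x hxS)
    have e2 := congrArg π e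
    rw [map_mul, map_mul, map_inv, map_pow, show π ⟨y, hy.1⟩ = f from hl, hxa, pow_conj hfa 6] at e2
    conv_rhs at e2 => rw [← pow_one a]
    have e3 := pow_eq_pow_iff_modEq.1 e2
    rw [ha] at e3
    exact absurd e3 (by decide)
  · have e4 := hn 4 _ (hS x hxS)
    have e8 := hn 8 _ (hS x hxS)
    have hmem : ∀ k : ℕ, n ^ k * φ x * (n ^ k)⁻¹ ∈ T.H1 := fun k => by
      rw [← hn k _ (hS x hxS)]
      exact hφ ⟨_, pow_conj_mem hyS hxS k, by simp [map_mul, map_pow]⟩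
    have e8' : n ^ 4 * (n ^ 4 * φ x * (n ^ 4)⁻¹) * (n ^ 4)⁻¹ = n ^ 8 * φ x * (n ^ 8)⁻¹ := by group
    have hprod : φ x * (n ^ 4 * φ x * (n ^ 4)⁻¹) * (n ^ 8 * φ x * (n ^ 8)⁻¹) = 1 := by
      rw [← e8']
      refine Subtype.ext ?_
      have h1 := T.mem_H1.1 (hφ (hS x hxS))
      have h2 := T.mem_H1.1 (hmem 4)
      have h3 : ((n ^ 4 * (n ^ 4 * φ x * (n ^ 4)⁻¹) * (n ^ 4)⁻¹ : ↥T.W) : GL D.Idx K) ∈ D.diagonalSubgroup K := by
        rw [e8']; exact T.mem_H1.1 (hmem 8)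
      simp only [Subgroup.coe_mul, Subgroup.coe_inv, Subgroup.coe_one] at h2 h3 ⊢
      exact orbit_prod_eq_one C (hacts 4) h h1 h2 h3
    rw [← e4, ← e8, ← map_pow φ, ← map_pow φ, ← map_inv φ, ← map_inv φ, ← map_mul φ, ← map_mul φ, ← map_mul φ,
      ← map_mul φ, ← map_mul φ, ← map_mul φ] at hprod
    have h0 := φ.injective (hprod.trans (map_one φ).symm)
    have e : (⟨x, hP hx⟩ : ↥H) * ((⟨y, hy.1⟩ : ↥H) ^ 4 * ⟨x, hP hx⟩ * ((⟨y, hy.1⟩ : ↥H) ^ 4)⁻¹) *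
        ((⟨y, hy.1⟩ : ↥H) ^ 8 * ⟨x, hP hx⟩ * ((⟨y, hy.1⟩ : ↥H) ^ 8)⁻¹) = 1 :=
      Subtype.ext (by simpa using h0)
    have e2 := congrArg π e
    simp only [map_mul, map_inv, map_pow, map_one] at e2
    rw [show π ⟨y, hy.1⟩ = f from hl, hxa, pow_conj hfa 4, pow_conj hfa 8, ← pow_succ', ← pow_add,
      ← orderOf_dvd_iff_pow_eq_one, ha] at e2
    norm_num at e2

end

/-- Alternating sections of the groups of type F₄. Let `F` be a finite field of characteristic `p` and let `G` be the Chevalley group of type F₄ over `F`. If some subgroup of `G` has a quotient isomorphic to the alternating group of degree `r`, then `r` is at most 10, or 11 in characteristic 11. (Only an upper bound is asserted.) -/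
theorem result {F : Type*} [Field F] [Fintype F] (p : ℕ) [Fact p.Prime] [CharP F p]
    (r : ℕ) (H : Subgroup ↥(Cfsg.Lie.chevF4.group F)) (K : Subgroup ↥H) [K.Normal]
    (h : Nonempty (↥H ⧸ K ≃* ↥(alternatingGroup (Fin r)))) :
    r ≤ 10 + (if p = 11 then 1 else 0) := by
  classical
  by_contra hr
  rw [not_le] at hr
  obtain ⟨e⟩ := h
  let π : ↥H →* ↥(alternatingGroup (Fin r)) := e.toMonoidHom.comp (QuotientGroup.mk' K)
  have hπ : Function.Surjective π := e.surjective.comp (QuotientGroup.mk'_surjective K)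
  let C : Lib.ChevStructure.Core Cfsg.Lie.chevF4 := WeylF4.C
  have hcom : Lib.ChevStructure.CommOK C :=
    Lib.ChevStructure.Cert.F4.core.commOK_mild Lib.ChevStructure.mildF4
  obtain ⟨q0, hq0⟩ : ∃ n : ℕ, n = if p = 11 then 12 else 10 := ⟨_, rfl⟩
  obtain ⟨F', _, _, φ, hφ, hcard⟩ := exists_groupMap C F p (n := q0) (by rw [hq0]; split_ifs <;> norm_num)
  let T := Tw.split C hcom F'
  let H' : Subgroup ↥T.W := H.map φ
  let ψ : ↥H' →* ↥(alternatingGroup (Fin r)) := π.comp (H.equivMapOfInjective φ hφ).symm.toMonoidHom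
  have hψ : Function.Surjective ψ := hπ.comp (MulEquiv.surjective _)
  have hW : Nat.card ↥T.WT = 1152 := by
    rw [Tw.split_WT]; exact WeylF4.card_WG
  obtain ⟨k, -, hk⟩ := FiniteField.card F p
  have hq : ∀ ℓ : ℕ, ℓ.Prime → ℓ ≠ p → ℓ - 1 ∣ q0 → Nat.card F' ≡ 1 [MOD ℓ] := by
    intro ℓ hℓ hne hdvd
    have hco : Nat.Coprime (Fintype.card F) ℓ := by
      rw [hk]
      exact Nat.Coprime.pow_left _ ((Nat.coprime_primes Fact.out hℓ).2 hne.symm)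
    obtain ⟨t, ht⟩ := hdvd
    rw [hcard, Nat.card_eq_fintype_card, ht, pow_mul]
    have h1 := Nat.ModEq.pow_totient hco
    rw [Nat.totient_prime hℓ] at h1
    simpa using h1.pow t
  have hfac : ∀ ℓ : ℕ, ℓ.Prime → ℓ ≠ p → ℓ - 1 ∣ q0 → ¬ ℓ ∣ 1152 →
      (Nat.card ↥T.W).factorization ℓ = (Nat.card ↥T.H1).factorization ℓ := fun ℓ h1 h2 h3 h4 =>
    Tw.split_factorization C hcom F' h1 (by rw [WeylF4.card_WG]; exact h4) (hq ℓ h1 h2 h3)
  by_cases hp : p = 11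
  · rw [if_pos hp] at hr hq0
    obtain ⟨a, b, c, ha, hb, hba, hca, hcb⟩ := exists_five_seven (r := r) (by omega)
    exact no_five_seven T ψ hψ hW (fun σ hσ => WeylF4.weyl_cases (by rwa [Tw.split_WT] at hσ))
      (hfac 5 (by norm_num) (by omega) (by rw [hq0]; norm_num) (by norm_num))
      (hfac 7 (by norm_num) (by omega) (by rw [hq0]; norm_num) (by norm_num)) ha hb hba hca hcb
  · rw [if_neg hp] at hr hq0
    obtain ⟨a, c, ha, hc⟩ := exists_eleven (r := r) (by omega)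
    exact no_eleven T ψ hψ hW (hfac 11 (by norm_num) (by omega) (by rw [hq0]) (by norm_num)) ha hc

end Cfsg.Agent.S2657
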