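import Cfsg.Statements.S2658
import Cfsg.Agent.Lib.AltSectExc52.G2
-- import your own Cfsg.Agent.* helpers here

set_option autoImplicit false
open scoped MatrixGroups
open Cfsg

namespace Cfsg.Agent.S2658

/-- Alternating sections of the groups of type G₂. Let `F` be a finite field of characteristic `p` and let `G` be the Chevalley group of type G₂ over `F`. If some subgroup of `G` has a quotient isomorphic to the alternating group of degree `r`, then `r` is at most 6, or 7 in characteristic 5. (Only an upper bound is asserted.) -/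
theorem result {F : Type*} [Field F] [Fintype F] (p : ℕ) [Fact p.Prime] [CharP F p]
    (r : ℕ) (H : Subgroup ↥(Cfsg.Lie.chevG2.group F)) (K : Subgroup ↥H) [K.Normal]
    (h : Nonempty (↥H ⧸ K ≃* ↥(alternatingGroup (Fin r)))) :
    r ≤ 6 + (if p = 5 then 1 else 0) := by
  classical
  obtain ⟨e⟩ := h
  let π : ↥H →* ↥(alternatingGroup (Fin r)) := e.toMonoidHom.comp (QuotientGroup.mk' K)
  have hπ : Function.Surjective π := e.surjective.comp (QuotientGroup.mk'_surjective K)
  obtain ⟨F', _, _, φ, hφ, hcard⟩ :=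
    Cfsg.Agent.Lib.LieTwisted.Twist.exists_groupMap Cfsg.Agent.Lib.ChevStructure.Cert.G2.core F p (n := 4) (by norm_num)
  obtain ⟨k, -, hk⟩ := FiniteField.card F p
  obtain ⟨h5, h8⟩ := Cfsg.Agent.Lib.AltSectExc52.four_power (q := Fintype.card F) (Fact.out : p.Prime) hk
  rw [← Nat.card_eq_fintype_card, ← hcard] at h5 h8
  let ψ : ↥(H.map φ) →* ↥(alternatingGroup (Fin r)) :=
    π.comp (H.equivMapOfInjective φ hφ).symm.toMonoidHom
  exact Cfsg.Agent.Lib.AltSectExc52.g2_bound F' h5 h8 r (H.map φ) ψ (hπ.comp (MulEquiv.surjective _))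

end Cfsg.Agent.S2658
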