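import Cfsg.Statements.S2660
import Cfsg.Agent.Lib.AltSectExc52.D4
import Cfsg.Agent.Lib.LieTwisted.Twist.D4Thms
import Mathlib.FieldTheory.Finite.Extension
-- import your own Cfsg.Agent.* helpers here

set_option autoImplicit false
open scoped MatrixGroups
open Cfsg

namespace Cfsg.Agent.S2660

/-- Alternating sections of the triality-twisted groups ³D₄. Let `q = p^a` be a prime power and `K` a field with `q³` elements, and let `G` be the twisted group ³D₄(q) realised over `K`. If some subgroup of `G` has a quotient isomorphic to the alternating group of degree `r`, then `r` is at most 6, or 7 in characteristic 5. (Only an upper bound is asserted.) -/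
theorem result {K : Type*} [Field K] [Fintype K] (p a : ℕ) [Fact p.Prime] [CharP K p]
    (ha : 1 ≤ a) (hK : Fintype.card K = (p ^ a) ^ 3) (r : ℕ) (H : Subgroup ↥(Cfsg.Lie.twistedD4 K (p ^ a))) (N : Subgroup ↥H) [N.Normal]
    (h : Nonempty (↥H ⧸ N ≃* ↥(alternatingGroup (Fin r)))) :
    r ≤ 6 + (if p = 5 then 1 else 0) := by
  classical
  obtain ⟨e⟩ := h
  let π : ↥H →* ↥(alternatingGroup (Fin r)) := e.toMonoidHom.comp (QuotientGroup.mk' N)
  have hπ : Function.Surjective π := e.surjective.comp (QuotientGroup.mk'_surjective N)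
  have hp : p.Prime := Fact.out
  let q := p ^ a
  have hq : q = p ^ a := rfl
  have hq1 : 1 < q := Nat.one_lt_pow (by omega) hp.one_lt
  haveI : NeZero 4 := ⟨by norm_num⟩
  let K' := FiniteField.Extension K p 4
  haveI : Fintype K' := Fintype.ofFinite K'
  have hK' : Fintype.card K' = (q ^ 4) ^ 3 := by
    show _ = ((p ^ a) ^ 4) ^ 3
    rw [← Nat.card_eq_fintype_card, FiniteField.natCard_extension K p 4, Nat.card_eq_fintype_card, hK,
      ← pow_mul, ← pow_mul, ← pow_mul, ← pow_mul]
  let f : K →+* K' := algebraMap K K'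
  have hfix : ∀ t : K, t ^ q ^ 3 = t := fun t => by
    show t ^ (p ^ a) ^ 3 = t
    rw [← hK, FiniteField.pow_card]
  have h4 : ∀ t : K, t ^ q ^ 4 = t ^ q := fun t => by
    rw [show q ^ 4 = q ^ 3 * q by ring, pow_mul, hfix]
  obtain ⟨φ, hφ⟩ := Cfsg.Agent.Lib.AltSectExc52.exists_d4Map f (q := q) (q' := q ^ 4)
    (fun t ht => by rw [← map_pow, h4, ht]) (fun t => by rw [← map_pow, h4])
  have hq4 : 1 < q ^ 4 := Nat.one_lt_pow (by norm_num) hq1
  obtain ⟨ψ, F, hF⟩ := Cfsg.Agent.Lib.LieTwisted.Twist.D4.exists_model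
    (q := q ^ 4) (by rw [hq, ← pow_mul]; exact hp.isPrimePow.pow (by omega)) hK'
  obtain ⟨h5, h8⟩ := Cfsg.Agent.Lib.AltSectExc52.four_power (q := q) hp hq
  let j : ↥(Cfsg.Lie.twistedD4 K' (q ^ 4)) ≃* ↥(Cfsg.Agent.Lib.LieTwisted.Twist.D4.orth F
      (IsPrimePow.one_lt (by rw [hq, ← pow_mul]; exact hp.isPrimePow.pow (by omega))) hK').tw.W :=
    MulEquiv.subgroupCongr hF.symm
  let χ := j.toMonoidHom.comp φ
  have hχ : Function.Injective χ := j.injective.comp hφ
  let ω : ↥(H.map χ) →* ↥(alternatingGroup (Fin r)) :=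
    π.comp (H.equivMapOfInjective χ hχ).symm.toMonoidHom
  exact Cfsg.Agent.Lib.AltSectExc52.d4_bound F _ hK' h5 h8 r (H.map χ) ω (hπ.comp (MulEquiv.surjective _))

end Cfsg.Agent.S2660
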