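import Cfsg.Statements.S2661
import Cfsg.Agent.Lib.LieTwisted.Twist.TorusNorm
import Cfsg.Agent.Lib.LieTwisted.Twist.F4Thms
import Mathlib.GroupTheory.Perm.ViaEmbedding
import Mathlib.GroupTheory.SpecificGroups.Alternating

set_option autoImplicit false
open Cfsg
open Cfsg.Agent.Lib.LieTwisted.Twist

namespace Cfsg.Agent.S2661

/-- A cyclic group of order seven and a permutation squaring it. -/
theorem exists_seven (r : ℕ) (hr : 7 ≤ r) :
    ∃ a c : ↥(alternatingGroup (Fin r)), orderOf a = 7 ∧ c * a * c⁻¹ = a ^ 2 := by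
  let ι := Equiv.Perm.viaEmbeddingHom (Fin.castLEEmb hr)
  have hs : ∀ σ : Equiv.Perm (Fin 7), Equiv.Perm.sign σ = 1 → ι σ ∈ alternatingGroup (Fin r) := fun σ h => by
    rw [Equiv.Perm.mem_alternatingGroup]
    show Equiv.Perm.sign (Equiv.Perm.viaEmbedding σ (Fin.castLEEmb hr)) = 1
    rw [Equiv.Perm.viaEmbedding, Equiv.Perm.sign_extendDomain, h]
  let a0 : Equiv.Perm (Fin 7) := finRotate 7
  let c0 : Equiv.Perm (Fin 7) :=
    { toFun := fun i => 2 * i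
      invFun := fun i => 4 * i
      left_inv := by decide
      right_inv := by decide }
  have h1 : Equiv.Perm.sign a0 = 1 := by decide
  have h2 : Equiv.Perm.sign c0 = 1 := by decide
  have h3 : c0 * a0 * c0⁻¹ = a0 ^ 2 := by decide
  have h4 : a0 ^ 7 = 1 := by decide
  have h5 : a0 ≠ 1 := by decide
  have : Fact (Nat.Prime 7) := ⟨by norm_num⟩
  refine ⟨⟨ι a0, hs a0 h1⟩, ⟨ι c0, hs c0 h2⟩, orderOf_eq_prime (Subtype.ext ?_) (fun h => h5 ?_), Subtype.ext ?_⟩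
  · show (ι a0) ^ 7 = 1
    rw [← map_pow, h4, map_one]
  · exact Equiv.Perm.viaEmbeddingHom_injective _ ((congrArg Subtype.val h).trans (map_one ι).symm)
  · show ι c0 * ι a0 * (ι c0)⁻¹ = (ι a0) ^ 2
    rw [← map_inv, ← map_mul, ← map_mul, h3, map_pow]

/-- A section `C₇ ⋊ C₃` yields a seven-element and an element normalising its group. -/
theorem exists_pair {G : Type*} [Group G] [Finite G] {A : Type*} [Group A] (H : Subgroup G) (π : ↥H →* A)
    (hπ : Function.Surjective π) {a c : A} (ha : orderOf a = 7) (hc : c * a * c⁻¹ = a ^ 2) :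
    ∃ (P : Subgroup G) (y x : G) (hP : P ≤ H) (hy : y ∈ H) (hx : x ∈ P), IsPGroup 7 ↥P ∧
      (∀ z ∈ P, y * z * y⁻¹ ∈ P) ∧ orderOf (π ⟨x, hP hx⟩) = 7 ∧
      π ⟨y, hy⟩ * π ⟨x, hP hx⟩ * (π ⟨y, hy⟩)⁻¹ = π ⟨x, hP hx⟩ ^ 2 := by
  classical
  have : Fact (Nat.Prime 7) := ⟨by norm_num⟩
  set L := (Subgroup.zpowers a).comap π
  obtain ⟨c', hc'⟩ := hπ c
  let P0 : Sylow 7 ↥L := Classical.choice inferInstance
  have hnorm : ∀ l ∈ L, c' * l * c'⁻¹ ∈ L := fun l hl => by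
    obtain ⟨i, hi⟩ := hl
    refine ⟨2 * i, ?_⟩
    show a ^ (2 * i) = π (c' * l * c'⁻¹)
    have hsq : a ^ (2 : ℤ) = c * a * c⁻¹ := by rw [hc]; exact zpow_natCast a 2
    rw [map_mul, map_mul, map_inv, hc', ← show a ^ i = π l from hi, zpow_mul, hsq, conj_zpow]
  let γ : ↥L →* ↥L :=
    { toFun := fun l => ⟨c' * l.1 * c'⁻¹, hnorm l.1 l.2⟩
      map_one' := Subtype.ext (by simp)
      map_mul' := fun l m => Subtype.ext (by simp [mul_assoc]) }
  have hγ : Function.Injective γ := fun l m h => Subtype.ext (by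
    simpa [γ] using congrArg Subtype.val h)
  let P1 : Sylow 7 ↥L := Sylow.ofCard ((P0 : Subgroup ↥L).map γ)
    (by rw [Subgroup.card_map_of_injective hγ]; exact P0.card_eq_multiplicity)
  obtain ⟨l, hl⟩ := MulAction.exists_smul_eq ↥L P1 P0
  -- the normalising element
  set y := (l : ↥H) * c' with hydef
  have hyP : ∀ z ∈ (P0 : Subgroup ↥L), ∃ w ∈ (P0 : Subgroup ↥L), y * (z : ↥H) * y⁻¹ = (w : ↥H) := by
    intro z hz
    refine ⟨l * γ z * l⁻¹, ?_, ?_⟩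
    · rw [← hl]
      exact ⟨γ z, ⟨z, hz, rfl⟩, rfl⟩
    · simp [hydef, γ, mul_assoc]
  -- a non-trivial image
  obtain ⟨x, hx, hx1⟩ : ∃ x ∈ (P0 : Subgroup ↥L), π (x : ↥H) ≠ 1 := by
    by_contra hcon
    push Not at hcon
    let π' : ↥L →* ↥(Subgroup.zpowers a) := π.subgroupComap (Subgroup.zpowers a)
    have hle : (P0 : Subgroup ↥L) ≤ π'.ker := fun z hz => Subtype.ext (hcon z hz)
    have hsur : Function.Surjective π' := fun ⟨b, hb⟩ => by
      obtain ⟨h, rfl⟩ := hπ b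
      exact ⟨⟨h, hb⟩, rfl⟩
    have hidx : π'.ker.index = 7 := by
      rw [Subgroup.index_ker, MonoidHom.range_eq_top.2 hsur, Subgroup.card_top, Nat.card_zpowers, ha]
    have h7 : 7 ∣ (P0 : Subgroup ↥L).index := by
      have := Subgroup.index_dvd_of_le hle
      rwa [hidx] at this
    exact P0.not_dvd_index h7
  have hxa : π (x : ↥H) ∈ Subgroup.zpowers a := x.2
  obtain ⟨i, hi⟩ := hxa
  have hla : π (l : ↥H) ∈ Subgroup.zpowers a := l.2
  obtain ⟨j, hj⟩ := hla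
  refine ⟨((P0 : Subgroup ↥L).map L.subtype).map H.subtype, (y : G), ((x : ↥H) : G), ?_, y.2, ⟨_, ⟨x, hx, rfl⟩, rfl⟩,
    (P0.isPGroup'.map _).map _, ?_, ?_, ?_⟩
  · rintro _ ⟨z, -, rfl⟩; exact z.2
  · rintro _ ⟨_, ⟨z, hz, rfl⟩, rfl⟩
    obtain ⟨w, hw, e⟩ := hyP z hz
    exact ⟨_, ⟨w, hw, rfl⟩, by simpa using congrArg Subtype.val e.symm⟩
  · show orderOf (π (x : ↥H)) = 7
    have hd : orderOf (π (x : ↥H)) ∣ 7 := by
      rw [← ha]; exact orderOf_dvd_of_mem_zpowers ⟨i, hi⟩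
    rcases (Nat.dvd_prime (by norm_num)).1 hd with h | h
    · exact absurd (orderOf_eq_one_iff.1 h) hx1
    · exact h
  · show π y * π (x : ↥H) * (π y)⁻¹ = π (x : ↥H) ^ 2
    rw [hydef, map_mul, hc', ← show a ^ i = π (x : ↥H) from hi, ← show a ^ j = π (l : ↥H) from hj,
      show a ^ j * c * a ^ i * (a ^ j * c)⁻¹ = a ^ j * (c * a ^ i * c⁻¹) * (a ^ j)⁻¹ by group, ← conj_zpow, hc,
      ← zpow_natCast, ← zpow_natCast, ← zpow_mul, ← zpow_mul, ← zpow_add, ← zpow_neg, ← zpow_add]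
    congr 1
    ring

/-- Alternating sections of the large Ree groups ²F₄. Let `m ≥ 1`, let `K` be a field with `2^(2m+1)` elements and let `G` be the large Ree group ²F₄(2^(2m+1)) realised over `K`. If some subgroup of `G` has a quotient isomorphic to the alternating group of degree `r`, then `r ≤ 6`. (Only an upper bound is asserted.) -/
theorem result {K : Type*} [Field K] [Fintype K] {m : ℕ} (hm : 1 ≤ m)
    (hK : Fintype.card K = 2 ^ (2 * m + 1)) (r : ℕ) (H : Subgroup ↥(Cfsg.Lie.twistedF4 K (2 ^ m))) (N : Subgroup ↥H) [N.Normal]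
    (h : Nonempty (↥H ⧸ N ≃* ↥(alternatingGroup (Fin r)))) :
    r ≤ 6 := by
  classical
  by_contra hr
  obtain ⟨e⟩ := h
  obtain ⟨a, c, ha, hc⟩ := exists_seven r (by omega)
  let π : ↥H →* ↥(alternatingGroup (Fin r)) := e.toMonoidHom.comp (QuotientGroup.mk' N)
  have hπ : Function.Surjective π := e.surjective.comp (QuotientGroup.mk'_surjective N)
  have : Fact (Nat.Prime 7) := ⟨by norm_num⟩
  obtain ⟨P, y, x, hP, hy, hx, hP7, hyP, hxo, hconj⟩ := exists_pair H π hπ ha hc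
  have hcard := F4.card_twisted hK
  have hH := F4.card_H hK
  set q := 2 ^ (2 * m + 1) with hq
  have h7G : 7 ∣ Nat.card ↥(Cfsg.Lie.twistedF4 K (2 ^ m)) := by
    rw [← hxo]
    exact ((orderOf_map_dvd π _).trans (orderOf_dvd_natCard _)).trans H.card_subgroup_dvd_card
  have hq7 : q % 7 = 1 ∨ q % 7 = 2 ∨ q % 7 = 4 := by
    have key : ∀ k, 2 ^ k % 7 = 1 ∨ 2 ^ k % 7 = 2 ∨ 2 ^ k % 7 = 4 := by
      intro k
      induction k with
      | zero => exact Or.inl rfl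
      | succ k ih => rw [pow_succ, Nat.mul_mod]; rcases ih with h | h | h <;> simp [h]
    exact key _
  have hq1 : 8 ≤ q := le_trans (by norm_num) (Nat.pow_le_pow_right (by norm_num : 0 < 2) (show 3 ≤ 2 * m + 1 by omega))
  obtain ⟨z, hz⟩ : ∃ z, q = z + 1 := ⟨q - 1, by omega⟩
  have hfac : q ^ 12 * (q - 1) * (q ^ 3 + 1) * (q ^ 4 - 1) * (q ^ 6 + 1) =
      (q - 1) ^ 2 * (q ^ 12 * (q ^ 3 + 1) * ((q + 1) * (q ^ 2 + 1)) * (q ^ 6 + 1)) := by
    have : q ^ 4 - 1 = (q - 1) * ((q + 1) * (q ^ 2 + 1)) := by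
      rw [hz, Nat.add_sub_cancel]
      exact Nat.sub_eq_of_eq_add (by ring)
    rw [this]; ring
  have hco : ¬ 7 ∣ q ^ 12 * (q ^ 3 + 1) * ((q + 1) * (q ^ 2 + 1)) * (q ^ 6 + 1) := by
    rw [Nat.dvd_iff_mod_eq_zero]
    rcases hq7 with h | h | h <;> simp [Nat.mul_mod, Nat.add_mod, Nat.pow_mod, h]
  rw [hfac] at hcard
  obtain ⟨θ, F⟩ := F4.exists_th hK
  let T := F4.tw F
  have hH1 : Nat.card ↥T.H1 = (q - 1) ^ 2 := by
    rw [← hH, Tw.H1, ← Subgroup.inf_subgroupOf_right]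
    exact Nat.card_congr (Subgroup.subgroupOfEquivOfLe inf_le_right).toEquiv
  have hq0 : (q - 1) ^ 2 ≠ 0 := pow_ne_zero _ (by omega)
  have hp : (Nat.card ↥T.W).factorization 7 = (Nat.card ↥T.H1).factorization 7 := by
    refine (congrArg (fun n => Nat.factorization n 7) hcard).trans ?_
    rw [hH1, Nat.factorization_mul hq0 (fun h => hco (by rw [h]; exact dvd_zero 7)), Finsupp.add_apply,
      Nat.factorization_eq_zero_of_not_dvd hco, add_zero]
  have h16 : y ^ Nat.card ↥T.WT * x * (y ^ Nat.card ↥T.WT)⁻¹ = x := T.pow_card_WT_fix hp hP7 hyP hx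
  rw [F4.card_WT F] at h16
  set xb := π ⟨x, hP hx⟩
  set yb := π ⟨y, hy⟩
  have hiter : ∀ k : ℕ, yb ^ k * xb * (yb ^ k)⁻¹ = xb ^ 2 ^ k := by
    intro k
    induction k with
    | zero => simp
    | succ k ih =>
      rw [pow_succ', show yb * yb ^ k * xb * (yb * yb ^ k)⁻¹ = yb * (yb ^ k * xb * (yb ^ k)⁻¹) * yb⁻¹ by group, ih,
        ← conj_pow, hconj, ← pow_mul, ← pow_succ']
  have he : yb ^ 16 * xb * (yb ^ 16)⁻¹ = xb := by
    have e1 : (⟨y, hy⟩ : ↥H) ^ 16 * ⟨x, hP hx⟩ * ((⟨y, hy⟩ : ↥H) ^ 16)⁻¹ = ⟨x, hP hx⟩ :=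
      Subtype.ext (by simpa using h16)
    have := congrArg π e1
    rwa [map_mul, map_mul, map_inv, map_pow] at this
  rw [hiter 16, ← pow_one xb, ← pow_mul, one_mul] at he
  have := pow_eq_pow_iff_modEq.1 he
  rw [hxo] at this
  exact absurd this (by decide)

end Cfsg.Agent.S2661
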