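import Cfsg.Statements.S2665
import Cfsg.Agent.Lib.Lang52.Semilinear
-- import your own Cfsg.Agent.* helpers here

set_option autoImplicit false
open scoped MatrixGroups
open Cfsg

namespace Cfsg.Agent.S2665

/-- The Lang–Steinberg Theorem for the general linear group. Let `K` be an algebraically closed field of prime characteristic `p`, let `q = p^f` with `f ≥ 1`, and let `σ` be the endomorphism of GL_n(K) raising every matrix entry to the `q`-th power. Then every element `g` of GL_n(K) can be written `g = x · σ(x)⁻¹` for some `x` in GL_n(K): the map `x ↦ x σ(x)⁻¹` is surjective. -/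
theorem result {K : Type*} [Field K] [IsAlgClosed K] (p : ℕ) [Fact p.Prime] [CharP K p]
    (f : ℕ) (hf : 1 ≤ f) (n : ℕ) (g : GL (Fin n) K) :
    ∃ x : GL (Fin n) K, g = x * (Matrix.GeneralLinearGroup.map (iterateFrobenius K p f) x)⁻¹ := by
  classical
  let σ : K →+* K := iterateFrobenius K p f
  let Φ : (Fin n → K) →ₛₗ[σ] (Fin n → K) :=
    { toFun := fun v => (g : Matrix (Fin n) (Fin n) K).mulVec (σ ∘ v)
      map_add' := fun u v => by
        rw [← Matrix.mulVec_add]; congr 1; funext i; simp
      map_smul' := fun c v => by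
        rw [← Matrix.mulVec_smul]; congr 1; funext i; simp }
  have hq : 2 ≤ p ^ f := le_trans (Nat.Prime.two_le Fact.out) (Nat.le_self_pow (by omega) p)
  have hq0 : ((p ^ f : ℕ) : K) = 0 := by
    rw [Nat.cast_pow, CharP.cast_eq_zero, zero_pow (by omega)]
  have hσ : ∀ x, σ x = x ^ (p ^ f) := fun x => iterateFrobenius_def p f x
  have hΦ : Function.Injective Φ := by
    intro u v h
    have h' : σ ∘ u = σ ∘ v :=
      Matrix.mulVec_injective_iff_isUnit.2 (Units.isUnit g) h
    exact funext fun i => σ.injective (congrFun h' i)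
  have hspan := Lib.Lang52.span_fixed hq hq0 hσ Φ hΦ
  let b := Module.Basis.ofSpan hspan.ge
  let b' : Module.Basis (Fin n) K (Fin n → K) := b.reindex (b.indexEquiv (Pi.basisFun K (Fin n)))
  have hb : ∀ i, Φ (b' i) = b' i := fun i => by
    simp only [b', Module.Basis.reindex_apply]
    exact Module.Basis.ofSpan_subset hspan.ge ⟨_, rfl⟩
  let M : Matrix (Fin n) (Fin n) K := (Pi.basisFun K (Fin n)).toMatrix b'
  haveI : Invertible M := (Pi.basisFun K (Fin n)).invertibleToMatrix b'
  let x : GL (Fin n) K := unitOfInvertible M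
  refine ⟨x, eq_mul_inv_of_mul_eq (Units.ext ?_)⟩
  rw [Units.val_mul]
  show (g : Matrix (Fin n) (Fin n) K) * M.map σ = M
  ext i j
  have h := congrFun (hb j) i
  have e1 : (σ ∘ b' j : Fin n → K) = fun k => M.map σ k j := by
    funext k; simp [M, Module.Basis.toMatrix_apply]
  change (g : Matrix (Fin n) (Fin n) K).mulVec (σ ∘ b' j) i = b' j i at h
  rw [e1] at h
  rw [Matrix.mul_apply]
  refine h.trans ?_
  simp [M, Module.Basis.toMatrix_apply]

end Cfsg.Agent.S2665
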