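import Cfsg.Statements.S2669
-- import your own Cfsg.Agent.* helpers here

set_option autoImplicit false
open Cfsg

namespace Cfsg.Agent.S2669

theorem fix_pow {X : Type*} [Group X] (σ : MulAut X) (h : X) (hh : σ h = h) : ∀ e : ℕ, (σ ^ e) h = h
  | 0 => by simp
  | n + 1 => by rw [pow_succ, MulAut.mul_apply, hh, fix_pow σ h hh n]

/-- Shintani descent preserves numbers of fixed points on coset spaces (abstract form). Let `σ` be an automorphism of a group `X` and `e ≥ 1`; write `G` for the fixed points of `σᵉ` and `H` for the fixed points of `σ`, and assume `G` is finite. Let `Y` be a `σ`-stable subgroup of `X` on which the maps `a ↦ a σ(a)⁻¹` and `a ↦ a σᵉ(a)⁻¹` are surjective (as for a closed connected `σ`-stable subgroup of an algebraic group). Let `g ∈ G`, let `a ∈ X` satisfy `g = a σ(a)⁻¹` and put `x = σᵉ(a)⁻¹ a` (the Shintani image, an element of `H`). The element `g σ` of the semidirect product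 acts on the cosets of `Y ∩ G` in `G` by `k (Y ∩ G) ↦ g σ(k) (Y ∩ G)`, fixing that coset exactly when `k⁻¹ g σ(k) ∈ Y`; and `x` fixes the coset `h (Y ∩ H)` of `H` exactly when `h⁻¹ x h ∈ Y`. Then the two numbers of fixed cosets agree; in cross-multiplied form, `#{k ∈ G : k⁻¹ g σ(k) ∈ Y} · |Y ∩ H| = #{h ∈ H : h⁻¹ x h ∈ Y} · |Y ∩ G|`. -/
theorem result {X : Type*} [Group X] (σ : MulAut X) (e : ℕ) (he : 1 ≤ e)
    [Finite ↥((MulEquiv.toMonoidHom (σ ^ e)).eqLocus (MonoidHom.id X))]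
    (Y : Subgroup X) (hY : ∀ y : X, y ∈ Y ↔ σ y ∈ Y)
    (hYL : ∀ y ∈ Y, ∃ a ∈ Y, y = a * (σ a)⁻¹) (hYLe : ∀ y ∈ Y, ∃ a ∈ Y, y = a * ((σ ^ e) a)⁻¹)
    (g : X) (hg : g ∈ (MulEquiv.toMonoidHom (σ ^ e)).eqLocus (MonoidHom.id X)) (a : X) (ha : g = a * (σ a)⁻¹) :
    Nat.card {k : ↥((MulEquiv.toMonoidHom (σ ^ e)).eqLocus (MonoidHom.id X)) // (k : X)⁻¹ * g * σ k ∈ Y} *
        Nat.card ↥(Y ⊓ (MulEquiv.toMonoidHom σ).eqLocus (MonoidHom.id X)) =
      Nat.card {h : ↥((MulEquiv.toMonoidHom σ).eqLocus (MonoidHom.id X)) // (h : X)⁻¹ * (((σ ^ e) a)⁻¹ * a) * h ∈ Y} *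
        Nat.card ↥(Y ⊓ (MulEquiv.toMonoidHom (σ ^ e)).eqLocus (MonoidHom.id X)) := by
  classical
  set G : Subgroup X := (MulEquiv.toMonoidHom (σ ^ e)).eqLocus (MonoidHom.id X) with hG
  set H : Subgroup X := (MulEquiv.toMonoidHom σ).eqLocus (MonoidHom.id X) with hH
  have mG : ∀ u : X, u ∈ G ↔ (σ ^ e) u = u := fun u => Iff.rfl
  have mH : ∀ u : X, u ∈ H ↔ σ u = u := fun u => Iff.rfl
  set x : X := ((σ ^ e) a)⁻¹ * a with hx
  let P := {p : X × X // p.1 ∈ G ∧ p.2 ∈ Y ∧ a⁻¹ * p.1 * p.2 ∈ H}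
  -- a pair (k, b) belongs to P iff b solves the Lang equation of k
  have key : ∀ k b : X, a⁻¹ * k * b ∈ H ↔ k⁻¹ * g * σ k = b * (σ b)⁻¹ := by
    intro k b
    rw [mH, map_mul, map_mul, map_inv, ha]
    constructor
    · intro h
      have : σ k * σ b = σ a * (a⁻¹ * k * b) := by rw [← h]; group
      have h2 : σ k = σ a * (a⁻¹ * k * b) * (σ b)⁻¹ := by rw [← this]; group
      rw [h2]; group
    · intro h
      have h2 : σ k = σ a * a⁻¹ * k * b * (σ b)⁻¹ := by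
        calc σ k = σ a * a⁻¹ * k * (k⁻¹ * (a * (σ a)⁻¹) * σ k) := by group
          _ = σ a * a⁻¹ * k * (b * (σ b)⁻¹) := by rw [h]
          _ = _ := by group
      rw [h2]; group
  have e1 : Nat.card P =
      Nat.card {k : ↥G // (k : X)⁻¹ * g * σ k ∈ Y} * Nat.card ↥(Y ⊓ H) := by
    rw [← Nat.card_prod]
    have hb : ∀ k : {k : ↥G // (k : X)⁻¹ * g * σ k ∈ Y}, ∃ b ∈ Y, (k.1 : X)⁻¹ * g * σ k.1 = b * (σ b)⁻¹ :=
      fun k => hYL _ k.2
    choose b0 hb0 hb0e using hb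
    symm
    refine Nat.card_congr (Equiv.ofBijective
      (fun kc => ⟨((kc.1.1 : X), b0 kc.1 * (kc.2 : X)), kc.1.1.2, Y.mul_mem (hb0 _) kc.2.2.1, ?_⟩) ⟨?_, ?_⟩)
    · have := (key _ _).2 (hb0e kc.1)
      have := H.mul_mem this kc.2.2.2
      simpa [mul_assoc] using this
    · intro p p' hpp
      have hpair : ((p.1.1 : X), b0 p.1 * (p.2 : X)) = ((p'.1.1 : X), b0 p'.1 * (p'.2 : X)) :=
        congrArg Subtype.val hpp
      simp only [Prod.mk.injEq] at hpair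
      have h1 : p.1 = p'.1 := Subtype.ext (Subtype.ext hpair.1)
      have h2 : p.2 = p'.2 := by
        apply Subtype.ext
        have := hpair.2
        rw [h1] at this
        exact mul_left_cancel this
      exact Prod.ext h1 h2
    · rintro ⟨⟨k, b⟩, hk, hb', hkb⟩
      have he' : k⁻¹ * g * σ k = b * (σ b)⁻¹ := (key k b).1 hkb
      have hkY : k⁻¹ * g * σ k ∈ Y := by
        rw [he']; exact Y.mul_mem hb' (Y.inv_mem ((hY b).1 hb'))
      let k' : {k : ↥G // (k : X)⁻¹ * g * σ k ∈ Y} := ⟨⟨k, hk⟩, hkY⟩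
      refine ⟨(k', ⟨(b0 k')⁻¹ * b, Y.mul_mem (Y.inv_mem (hb0 k')) hb', ?_⟩), ?_⟩
      · have h1 := (key _ _).2 (hb0e k')
        have := H.mul_mem (H.inv_mem h1) hkb
        simpa [k', mul_assoc] using this
      · apply Subtype.ext
        simp [k']
  have e2 : Nat.card P =
      Nat.card {h : ↥H // (h : X)⁻¹ * x * h ∈ Y} * Nat.card ↥(Y ⊓ G) := by
    rw [← Nat.card_prod]
    have hb : ∀ h : {h : ↥H // (h : X)⁻¹ * x * h ∈ Y}, ∃ b ∈ Y,
        (h.1 : X)⁻¹ * x * h.1 = ((σ ^ e) b)⁻¹ * b := by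
      intro h
      obtain ⟨c, hc, hce⟩ := hYLe _ (Y.inv_mem h.2)
      refine ⟨c⁻¹, Y.inv_mem hc, ?_⟩
      rw [map_inv, inv_inv]
      exact inv_injective (by rw [hce]; group)
    choose b0 hb0 hb0e using hb
    symm
    refine Nat.card_congr (Equiv.ofBijective
      (fun hd => ⟨(a * (hd.1.1 : X) * ((hd.2 : X) * b0 hd.1)⁻¹, (hd.2 : X) * b0 hd.1), ?_,
        Y.mul_mem hd.2.2.1 (hb0 _), ?_⟩) ⟨?_, ?_⟩)
    · show (σ ^ e) _ = _
      have h1 : (σ ^ e) (hd.1.1 : X) = hd.1.1 := fix_pow σ _ hd.1.1.2 e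
      have h2 : (σ ^ e) (hd.2 : X) = hd.2 := hd.2.2.2
      rw [map_mul, map_mul, map_inv, map_mul, h1, h2]
      set h0 : X := (hd.1.1 : X) with hh0
      have h3 : ((σ ^ e) (b0 hd.1))⁻¹ = h0⁻¹ * x * h0 * (b0 hd.1)⁻¹ := by
        rw [hh0, hb0e hd.1]; group
      rw [mul_inv_rev, h3]
      have gen : ∀ A h b d : X, A * h * (h⁻¹ * (A⁻¹ * a) * h * b⁻¹ * d⁻¹) = a * h * (b⁻¹ * d⁻¹) := by
        intro A h b d; group
      simpa using gen ((σ ^ e) a) h0 (b0 hd.1) (hd.2 : X)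
    · have : a⁻¹ * (a * (hd.1.1 : X) * ((hd.2 : X) * b0 hd.1)⁻¹) * ((hd.2 : X) * b0 hd.1) = hd.1.1 := by group
      show a⁻¹ * _ * _ ∈ H
      rw [this]; exact hd.1.1.2
    · intro p p' hpp
      have hpair : (a * (p.1.1 : X) * ((p.2 : X) * b0 p.1)⁻¹, (p.2 : X) * b0 p.1) =
          (a * (p'.1.1 : X) * ((p'.2 : X) * b0 p'.1)⁻¹, (p'.2 : X) * b0 p'.1) :=
        congrArg Subtype.val hpp
      simp only [Prod.mk.injEq] at hpair
      have h0 := hpair.1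
      rw [hpair.2] at h0
      have h1 : p.1 = p'.1 := Subtype.ext (Subtype.ext (mul_left_cancel (mul_right_cancel h0)))
      have h2 : p.2 = p'.2 := by
        apply Subtype.ext
        have := hpair.2
        rw [h1] at this
        exact mul_right_cancel this
      exact Prod.ext h1 h2
    · rintro ⟨⟨k, b⟩, hk, hb', hkb⟩
      have hke : (σ ^ e) k = k := hk
      have hhe : (σ ^ e) (a⁻¹ * k * b) = a⁻¹ * k * b := fix_pow σ _ hkb e
      have hval : (a⁻¹ * k * b)⁻¹ * x * (a⁻¹ * k * b) = ((σ ^ e) b)⁻¹ * b := by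
        have h0 : ((σ ^ e) a)⁻¹ * k * (σ ^ e) b = a⁻¹ * k * b := by
          rw [← hhe, map_mul, map_mul, map_inv, hke]
        have h4 : (σ ^ e) b = k⁻¹ * (σ ^ e) a * (a⁻¹ * k * b) := by rw [← h0]; group
        rw [h4, hx]; group
      have hσeY : ∀ (n : ℕ), ∀ y ∈ Y, (σ ^ n) y ∈ Y := by
        intro n
        induction n with
        | zero => intro y hy; simpa using hy
        | succ n ih => intro y hy; rw [pow_succ, MulAut.mul_apply]; exact ih _ ((hY y).1 hy)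
      have hhY : (a⁻¹ * k * b)⁻¹ * x * (a⁻¹ * k * b) ∈ Y := by
        rw [hval]; exact Y.mul_mem (Y.inv_mem (hσeY e b hb')) hb'
      let h' : {h : ↥H // (h : X)⁻¹ * x * h ∈ Y} := ⟨⟨a⁻¹ * k * b, hkb⟩, hhY⟩
      refine ⟨(h', ⟨b * (b0 h')⁻¹, Y.mul_mem hb' (Y.inv_mem (hb0 h')), ?_⟩), ?_⟩
      · show (σ ^ e) _ = _
        have h5 : ((σ ^ e) (b0 h'))⁻¹ * b0 h' = ((σ ^ e) b)⁻¹ * b := (hb0e h').symm.trans hval
        have h6 : ((σ ^ e) (b0 h'))⁻¹ = ((σ ^ e) b)⁻¹ * b * (b0 h')⁻¹ := by rw [← h5]; group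
        simp only [MonoidHom.id_apply]
        rw [map_mul, map_inv, h6]; group
      · apply Subtype.ext
        simp [h', mul_assoc]
  rw [← e1, ← e2]

end Cfsg.Agent.S2669
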