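import Cfsg.Statements.S2670
import Cfsg.Agent.Lib.GLFlags.SemisimpleClasses
import Mathlib.FieldTheory.KummerPolynomial

set_option autoImplicit false
open Cfsg

namespace Cfsg.Agent.S2670


open Matrix Polynomial Cfsg.Agent.Lib.GLFlags.SemisimpleClasses

variable {F : Type*} [Field F] [Fintype F] {n r : ℕ}

/-- Scalar matrices. -/
noncomputable def sc (c : Fˣ) : GL (Fin n) F := GeneralLinearGroup.scalar (Fin n) c

theorem coe_sc (c : Fˣ) : ((sc c : GL (Fin n) F) : Matrix (Fin n) (Fin n) F) = diagonal fun _ => (c : F) := rfl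

theorem sc_mul_comm (c : Fˣ) (g : GL (Fin n) F) : Commute (sc c) g :=
  GeneralLinearGroup.scalar_commute c g

theorem sc_mul (c c' : Fˣ) : (sc (c * c') : GL (Fin n) F) = sc c * sc c' := map_mul _ _ _

theorem sc_pow (c : Fˣ) (k : ℕ) : (sc (c ^ k) : GL (Fin n) F) = sc c ^ k := map_pow _ _ _

theorem sc_injective (hn : 0 < n) : Function.Injective (sc : Fˣ → GL (Fin n) F) := fun a b h => by
  have := (Matrix.ext_iff.2 (congrArg Units.val h : ((sc a : GL (Fin n) F) : Matrix (Fin n) (Fin n) F) = _)) ⟨0, hn⟩ ⟨0, hn⟩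
  rw [coe_sc, coe_sc, diagonal_apply_eq, diagonal_apply_eq] at this
  exact Units.ext this

theorem center_iff {g : GL (Fin n) F} : g ∈ Subgroup.center (GL (Fin n) F) ↔ ∃ c, sc c = g := by
  rw [GeneralLinearGroup.center_eq_range_scalar]; rfl

/-- Every irreducible factor of the characteristic polynomial divides an annihilating polynomial. -/
theorem dvd_of_dvd_charpoly {A : Matrix (Fin n) (Fin n) F} {f h : F[X]} (hf : Irreducible f)
    (hfd : f ∣ A.charpoly) (hh : aeval A h = 0) : f ∣ h := by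
  by_contra hnd
  obtain ⟨a, b, hab⟩ := (hf.coprime_iff_not_dvd.2 hnd : IsCoprime f h)
  have h1 := congrArg (fun p : F[X] => (aeval A p).det) hab
  simp only [map_add, map_mul, hh, mul_zero, add_zero, map_one, Matrix.det_mul, Matrix.det_one,
    det_aeval_eq_zero A hf hfd, mul_zero] at h1
  exact zero_ne_one h1

open UniqueFactorizationMonoid in
theorem charpoly_factors {A : Matrix (Fin n) (Fin n) F} {h : F[X]} (hh : aeval A h = 0) :
    ∃ s : Multiset F[X], s.prod = A.charpoly ∧ ∀ f ∈ s, f.Monic ∧ Irreducible f ∧ f ∣ h := by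
  classical
  refine ⟨normalizedFactors A.charpoly, ?_, fun f hf => ?_⟩
  · rw [prod_normalizedFactors_eq (Matrix.charpoly_monic A).ne_zero]
    exact (Matrix.charpoly_monic A).normalize_eq_self
  · refine ⟨?_, irreducible_of_normalized_factor f hf,
      dvd_of_dvd_charpoly (irreducible_of_normalized_factor f hf) (dvd_of_mem_normalizedFactors hf) hh⟩
    rw [← normalize_normalized_factor f hf]
    exact Polynomial.monic_normalize (irreducible_of_normalized_factor f hf).ne_zero

theorem aeval_pow_sub (g : GL (Fin n) F) (lam : Fˣ) (hg : g ^ r = sc lam) :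
    aeval (g : Matrix (Fin n) (Fin n) F) (X ^ r - C (lam : F)) = 0 := by
  rw [map_sub, map_pow, aeval_X, aeval_C, ← Units.val_pow_eq_pow_val, hg, coe_sc, sub_eq_zero]
  rfl

section Setup

variable {q : ℕ} (hF : Fintype.card F = q) (hr : r.Prime) (hrq : r ∣ q - 1)

include hF hr hrq in
theorem isConj_of_eq {lam : Fˣ} {g h : GL (Fin n) F} (hg : g ^ r = sc lam) (hh : h ^ r = sc lam)
    (hc : (g : Matrix (Fin n) (Fin n) F).charpoly = (h : Matrix (Fin n) (Fin n) F).charpoly) :
    IsConj g h := by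
  classical
  obtain ⟨p, hp⟩ := CharP.exists F
  obtain ⟨f, hpp, hcard⟩ := FiniteField.card F p
  haveI : Fact p.Prime := ⟨hpp⟩
  have hN : (r * (q - 1)).Coprime p := by
    have hq1 : (q - 1).Coprime p := by
      refine (hpp.coprime_iff_not_dvd.2 fun h => ?_).symm
      have h2 : p ∣ q := by rw [← hF, hcard]; exact dvd_pow_self p f.pos.ne'
      have h1 : 1 ≤ q := by rw [← hF]; exact Fintype.card_pos
      have h3 := Nat.dvd_sub h2 h
      rw [Nat.sub_sub_self h1] at h3
      exact hpp.one_lt.ne' (Nat.dvd_one.1 h3)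
    exact Nat.Coprime.mul_left (Nat.Coprime.coprime_dvd_left hrq hq1) hq1
  have key : ∀ x : GL (Fin n) F, x ^ r = sc lam → (orderOf x).Coprime p := fun x hx => by
    refine Nat.Coprime.coprime_dvd_left (orderOf_dvd_of_pow_eq_one ?_) hN
    rw [pow_mul, hx, ← sc_pow, show lam ^ (q - 1) = 1 by
      refine Units.ext ?_
      rw [Units.val_pow_eq_pow_val, Units.val_one, ← hF]
      exact FiniteField.pow_card_sub_one_eq_one _ lam.ne_zero]
    exact map_one _
  exact isConj_of_charpoly g h (key g hg) (key h hh) hc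

variable [Fact r.Prime] {ζ : Fˣ} (hζ : IsPrimitiveRoot ζ r)

/-- The powers of the chosen root. -/
def zp (ζ : Fˣ) (j : ZMod r) : Fˣ := ζ ^ j.val

include hζ in
theorem zp_add (i j : ZMod r) : zp ζ (i + j) = zp ζ i * zp ζ j := by
  rw [zp, zp, zp, ← pow_add, ZMod.val_add]
  exact (pow_eq_pow_mod _ hζ.pow_eq_one).symm

include hζ in
theorem zp_injective : Function.Injective (zp ζ : ZMod r → Fˣ) := fun i j h =>
  ZMod.val_injective r (hζ.pow_inj (ZMod.val_lt i) (ZMod.val_lt j) h)

include hζ in
theorem zp_pow (j : ZMod r) : zp ζ j ^ r = 1 := by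
  rw [zp, ← pow_mul, mul_comm, pow_mul, hζ.pow_eq_one, one_pow]

include hζ in
theorem exists_zp {c : Fˣ} (hc : c ^ r = 1) : ∃ j : ZMod r, zp ζ j = c := by
  haveI : NeZero r := ⟨(Fact.out : r.Prime).ne_zero⟩
  obtain ⟨i, hi, hic⟩ := (hζ.map_of_injective (f := Units.coeHom F) Units.val_injective).eq_pow_of_pow_eq_one
    (show ((c : Fˣ) : F) ^ r = 1 by rw [← Units.val_pow_eq_pow_val, hc, Units.val_one])
  exact ⟨i, Units.ext (by rw [zp, ZMod.val_natCast, Nat.mod_eq_of_lt hi, Units.val_pow_eq_pow_val]; exact hic)⟩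

/-- A diagonal matrix with eigenvalues powers of the root. -/
noncomputable def gd (ζ : Fˣ) (d : Fin n → ZMod r) : GL (Fin n) F :=
  ⟨diagonal fun i => ((zp ζ (d i) : Fˣ) : F), diagonal fun i => (((zp ζ (d i))⁻¹ : Fˣ) : F),
    by rw [diagonal_mul_diagonal]; simp, by rw [diagonal_mul_diagonal]; simp⟩

include hζ in
theorem gd_pow (d : Fin n → ZMod r) : gd ζ d ^ r = sc 1 := by
  refine Units.ext ?_
  rw [Units.val_pow_eq_pow_val, show (gd ζ d).1 = diagonal fun i => ((zp ζ (d i) : Fˣ) : F) from rfl,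
    diagonal_pow, coe_sc]
  congr 1
  funext i
  rw [Pi.pow_apply, ← Units.val_pow_eq_pow_val, zp_pow hζ]

include hζ in
theorem sc_mul_gd (k : ZMod r) (d : Fin n → ZMod r) :
    sc (zp ζ k) * gd ζ d = gd ζ (fun i => k + d i) := by
  refine Units.ext ?_
  rw [Units.val_mul, coe_sc]
  show _ * diagonal _ = diagonal _
  rw [diagonal_mul_diagonal]
  congr 1
  funext i
  rw [zp_add hζ, Units.val_mul]

/-- Multiplicities. -/
noncomputable def cnt (d : Fin n → ZMod r) (j : ZMod r) : ℕ := Nat.card {i // d i = j}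

theorem gd_charpoly (d : Fin n → ZMod r) :
    (gd ζ d : Matrix (Fin n) (Fin n) F).charpoly = ∏ j, (X - C ((zp ζ j : Fˣ) : F)) ^ cnt d j := by
  classical
  show (diagonal _).charpoly = _
  rw [Matrix.charpoly_diagonal,
    ← Finset.prod_fiberwise' Finset.univ d (fun j => X - C ((zp ζ j : Fˣ) : F))]
  refine Finset.prod_congr rfl fun j _ => ?_
  rw [Finset.prod_const, cnt, Nat.card_eq_fintype_card, Fintype.card_subtype]

include hζ in
theorem cnt_eq_rootMultiplicity (d : Fin n → ZMod r) (j : ZMod r) :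
    (gd ζ d : Matrix (Fin n) (Fin n) F).charpoly.rootMultiplicity ((zp ζ j : Fˣ) : F) = cnt d j := by
  classical
  rw [gd_charpoly, ← count_roots, roots_prod _ _ (Finset.prod_ne_zero_iff.2 fun i _ =>
    pow_ne_zero _ (X_sub_C_ne_zero _)), Multiset.count_bind]
  simp only [roots_pow, roots_X_sub_C, Multiset.count_nsmul, Multiset.count_singleton]
  rw [show (Multiset.map (fun b => cnt d b * if ((zp ζ j : Fˣ) : F) = ((zp ζ b : Fˣ) : F) then 1 else 0)
      Finset.univ.val).sum = ∑ b, cnt d b * if ((zp ζ j : Fˣ) : F) = ((zp ζ b : Fˣ) : F) then 1 else 0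
      from rfl, Finset.sum_eq_single j]
  · simp
  · intro b _ hb
    rw [if_neg fun h => hb ((zp_injective hζ) (Units.ext h)).symm, mul_zero]
  · exact fun h => absurd (Finset.mem_univ j) h

/-- Multiplicity functions of the non-scalar diagonal elements. -/
abbrev Mult (r n : ℕ) [NeZero r] : Type := {a : ZMod r → ℕ // ∑ j, a j = n ∧ ∀ j, a j < n}

theorem exists_cnt [NeZero r] {a : ZMod r → ℕ} (h : ∑ j, a j = n) :
    ∃ d : Fin n → ZMod r, cnt d = a := by
  classical
  let e : Fin n ≃ Σ j : ZMod r, Fin (a j) := Fintype.equivOfCardEq (by simp [h])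
  refine ⟨fun i => (e i).1, funext fun j => ?_⟩
  rw [cnt, Nat.card_congr (Equiv.subtypeEquiv e (q := fun x => x.1 = j) fun i => Iff.rfl),
    Nat.card_congr (Equiv.sigmaSubtype j), Nat.card_eq_fintype_card, Fintype.card_fin]

end Setup

/-- The shift action on multiplicity functions. -/
@[reducible] def shift (r n : ℕ) [NeZero r] : MulAction (Multiplicative (ZMod r)) (Mult r n) where
  smul k a := ⟨fun j => a.1 (j - k.toAdd), by
    exact (Fintype.sum_equiv (Equiv.subRight k.toAdd) _ a.1 fun j => rfl).trans a.2.1,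
    fun j => a.2.2 _⟩
  one_smul a := Subtype.ext (funext fun j => by show a.1 (j - 0) = _; rw [sub_zero])
  mul_smul k k' a := Subtype.ext (funext fun j => by
    show a.1 (j - (k.toAdd + k'.toAdd)) = a.1 (j - k.toAdd - k'.toAdd); rw [sub_sub])

theorem card_mult [Fact r.Prime] (hn : 2 ≤ n) :
    Nat.card (Mult r n) + r = Nat.choose (n + r - 1) (r - 1) := by
  classical
  haveI : NeZero r := ⟨(Fact.out : r.Prime).ne_zero⟩
  let T := {a : ZMod r → ℕ // ∑ j, a j = n}
  haveI : Fintype T := Fintype.ofEquiv _ (Sym.equivNatSumOfFintype (ZMod r) n)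
  have hT : Fintype.card T = Nat.choose (n + r - 1) (r - 1) := by
    rw [← Fintype.card_congr (Sym.equivNatSumOfFintype (ZMod r) n), Sym.card_sym_eq_choose, ZMod.card,
      show r + n - 1 = n + r - 1 by omega,
      ← Nat.choose_symm (show n ≤ n + r - 1 by have := (Fact.out : r.Prime).two_le; omega),
      show n + r - 1 - n = r - 1 by omega]
  rw [← hT, ← Nat.card_eq_fintype_card]
  have hsplit : Nat.card T = Nat.card {a : T // ∀ j, a.1 j < n} + Nat.card {a : T // ¬ ∀ j, a.1 j < n} := by
    rw [← Nat.card_sum]; exact (Nat.card_congr (Equiv.sumCompl _)).symm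
  rw [hsplit]
  congr 1
  · exact Nat.card_congr
      { toFun := fun a => ⟨⟨a.1, a.2.1⟩, a.2.2⟩
        invFun := fun a => ⟨a.1.1, a.1.2, a.2⟩
        left_inv := fun a => rfl
        right_inv := fun a => rfl }
  · let single : ZMod r → {a : T // ¬ ∀ j, a.1 j < n} := fun j =>
      ⟨⟨Pi.single j n, by rw [Finset.sum_pi_single' j n]; simp⟩, fun h => by
        have := h j; simp at this⟩
    rw [← Nat.card_eq_of_bijective single ⟨?_, ?_⟩, Nat.card_zmod]
    · intro i j h
      have h1 := congrArg (fun a : {a : T // ¬ ∀ j, a.1 j < n} => a.1.1 i) h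
      simp only [single, Pi.single_eq_same] at h1
      by_contra hij
      rw [Pi.single_eq_of_ne hij] at h1
      omega
    · rintro ⟨⟨a, ha⟩, hna⟩
      push Not at hna
      obtain ⟨j, hj⟩ := hna
      refine ⟨j, Subtype.ext (Subtype.ext (funext fun i => ?_))⟩
      have hsum := Finset.add_sum_erase Finset.univ a (Finset.mem_univ j)
      rw [show ∑ x, a x = n from ha] at hsum; change n ≤ a j at hj
      by_cases hij : i = j
      · subst hij; simp only [single, Pi.single_eq_same]; omega
      · have h0 : ∑ x ∈ Finset.univ.erase j, a x = 0 := by omega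
        simp only [single, Pi.single_eq_of_ne hij]
        exact ((Finset.sum_eq_zero_iff.1 h0) i (Finset.mem_erase.2 ⟨hij, Finset.mem_univ _⟩)).symm

theorem finite_mult [NeZero r] : Finite (Mult r n) :=
  haveI : Finite {a : ZMod r → ℕ // ∑ j, a j = n} := Finite.of_equiv _ (Sym.equivNatSumOfFintype (ZMod r) n)
  Finite.of_injective (fun a => (⟨a.1, a.2.1⟩ : {a : ZMod r → ℕ // ∑ j, a j = n}))
    fun a b h => Subtype.ext (congrArg Subtype.val h :)

theorem card_orbits [Fact r.Prime] (hn : 2 ≤ n) :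
    Nat.card (Quotient (@MulAction.orbitRel (Multiplicative (ZMod r)) (Mult r n) _ (shift r n))) =
      (Nat.choose (n + r - 1) (r - 1) - r - (if r ∣ n then 1 else 0)) / r + (if r ∣ n then 1 else 0) := by
  classical
  have hr : r.Prime := Fact.out
  letI := shift r n
  haveI : Finite (Mult r n) := finite_mult
  letI := Fintype.ofFinite (Mult r n)
  set e := if r ∣ n then 1 else 0 with he
  have hfix : ∀ k : Multiplicative (ZMod r), k ≠ 1 → Fintype.card (MulAction.fixedBy (Mult r n) k) = e := by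
    intro k hk
    have hconst : ∀ a : MulAction.fixedBy (Mult r n) k, ∀ j, a.1.1 j = a.1.1 0 := by
      intro a j
      have h : ∀ i : ℕ, ∀ j, a.1.1 (j - (i : ZMod r) * k.toAdd) = a.1.1 j := by
        intro i
        induction i with
        | zero => intro j; simp
        | succ i ih =>
          intro j
          have h1 := congrArg (fun b : Mult r n => b.1 (j - (i : ZMod r) * k.toAdd)) a.2
          rw [show j - ((i + 1 : ℕ) : ZMod r) * k.toAdd = j - (i : ZMod r) * k.toAdd - k.toAdd by
            push_cast; ring]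
          exact h1.trans (ih j)
      have hk0 : k.toAdd ≠ 0 := hk
      have := h (j / k.toAdd).val j
      rw [ZMod.natCast_zmod_val, div_mul_cancel₀ _ hk0, sub_self] at this
      exact this.symm
    rw [← Nat.card_eq_fintype_card]
    by_cases hd : r ∣ n
    · rw [he, if_pos hd]
      refine Nat.card_eq_one_iff_unique.2 ⟨⟨fun a b => Subtype.ext (Subtype.ext (funext fun j => ?_))⟩,
        ⟨⟨fun _ => n / r, by simp [Nat.mul_div_cancel' hd],
          fun _ => Nat.div_lt_self (by omega) hr.one_lt⟩, rfl⟩⟩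
      have ha := a.1.2.1
      have hb := b.1.2.1
      rw [Finset.sum_congr rfl fun i _ => hconst a i, Finset.sum_const, Finset.card_univ, ZMod.card,
        smul_eq_mul] at ha
      rw [Finset.sum_congr rfl fun i _ => hconst b i, Finset.sum_const, Finset.card_univ, ZMod.card,
        smul_eq_mul] at hb
      rw [hconst a, hconst b]
      exact Nat.eq_of_mul_eq_mul_left hr.pos (ha.trans hb.symm)
    · rw [he, if_neg hd]
      have : IsEmpty (MulAction.fixedBy (Mult r n) k) := ⟨fun a => hd ⟨a.1.1 0, by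
        conv_lhs => rw [← a.1.2.1]
        rw [Finset.sum_congr rfl fun i _ => hconst a i, Finset.sum_const, Finset.card_univ, ZMod.card,
          smul_eq_mul]⟩⟩
      exact Nat.card_of_isEmpty
  have hburn := MulAction.sum_card_fixedBy_eq_card_orbits_mul_card_group (Multiplicative (ZMod r)) (Mult r n)
  rw [← Finset.add_sum_erase _ _ (Finset.mem_univ (1 : Multiplicative (ZMod r))),
    Finset.sum_congr rfl fun k hk => hfix k (Finset.ne_of_mem_erase hk), Finset.sum_const,
    Finset.card_erase_of_mem (Finset.mem_univ _), Finset.card_univ, Fintype.card_multiplicative,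
    ZMod.card, smul_eq_mul,
    show Fintype.card (MulAction.fixedBy (Mult r n) (1 : Multiplicative (ZMod r))) = Nat.card (Mult r n) by
      rw [← Nat.card_eq_fintype_card]
      exact Nat.card_congr (Equiv.subtypeUnivEquiv fun a => one_smul _ a)] at hburn
  rw [Nat.card_eq_fintype_card]
  have hm := card_mult (r := r) hn
  set O := Fintype.card (Quotient (MulAction.orbitRel (Multiplicative (ZMod r)) (Mult r n)))
  have he1 : e ≤ 1 := by rw [he]; split_ifs <;> omega
  have hr1 : (r - 1) * e = r * e - e := by rw [Nat.sub_mul, one_mul]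
  have hre : e ≤ r * e := Nat.le_mul_of_pos_left _ hr.pos
  rcases Nat.le_one_iff_eq_zero_or_eq_one.1 he1 with h0 | h1
  · rw [h0] at hburn ⊢
    rw [show Nat.choose (n + r - 1) (r - 1) - r - 0 = O * r by omega, Nat.mul_div_cancel _ hr.pos, add_zero]
  · rw [h1] at hburn hr1 hre ⊢
    rw [mul_one] at hburn hr1 hre
    obtain ⟨O', hO⟩ : ∃ O', O = O' + 1 := ⟨O - 1, by
      rcases Nat.eq_zero_or_pos O with h | h
      · rw [h, zero_mul] at hburn; have := hr.two_le; omega
      · omega⟩
    rw [hO, Nat.succ_mul] at hburn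
    rw [show Nat.choose (n + r - 1) (r - 1) - r - 1 = O' * r by omega, Nat.mul_div_cancel _ hr.pos, hO]

theorem exists_block [Fact r.Prime] (lam : Fˣ) (hd : r ∣ n) :
    ∃ h : GL (Fin n) F, h ^ r = sc lam := by
  classical
  have hr : r.Prime := Fact.out
  obtain ⟨m, rfl⟩ := hd
  have hf : (X ^ r - C (lam : F)).Monic := monic_X_pow_sub_C _ hr.ne_zero
  let pb := AdjoinRoot.powerBasis hf.ne_zero
  let C' := Algebra.leftMulMatrix pb.basis pb.gen
  have hC : C' ^ r = algebraMap F _ (lam : F) := by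
    rw [← map_pow, show pb.gen = AdjoinRoot.root _ from AdjoinRoot.powerBasis_gen hf.ne_zero,
      show AdjoinRoot.root (X ^ r - C (lam : F)) ^ r = algebraMap F _ (lam : F) from ?_,
      AlgHom.commutes]
    have h := AdjoinRoot.eval₂_root (X ^ r - C (lam : F))
    rw [eval₂_sub, eval₂_pow, eval₂_X, eval₂_C, sub_eq_zero] at h
    exact h
  have hdim : pb.dim = r := by
    rw [AdjoinRoot.powerBasis_dim, natDegree_X_pow_sub_C]
  let B : Matrix (Fin pb.dim × Fin m) (Fin pb.dim × Fin m) F := blockDiagonal fun _ => C'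
  let e : Fin pb.dim × Fin m ≃ Fin (r * m) := ((finCongr hdim).prodCongr (Equiv.refl _)).trans finProdFinEquiv
  let M := Matrix.reindexAlgEquiv F F e B
  have hM : M ^ r = algebraMap F _ (lam : F) := by
    show (Matrix.reindexAlgEquiv F F e B) ^ r = _
    rw [← map_pow, ← blockDiagonal_pow]
    have : (fun _ : Fin m => C') ^ r = fun _ => algebraMap F _ (lam : F) := funext fun _ => hC
    rw [this, show blockDiagonal (fun _ : Fin m => algebraMap F (Matrix (Fin pb.dim) (Fin pb.dim) F) (lam : F)) =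
      algebraMap F (Matrix (Fin pb.dim × Fin m) (Fin pb.dim × Fin m) F) (lam : F) from ?_, AlgEquiv.commutes]
    rw [Matrix.algebraMap_eq_diagonal, Matrix.algebraMap_eq_diagonal]
    exact blockDiagonal_diagonal _
  have hu : IsUnit M := (isUnit_pow_iff hr.ne_zero).1 (by rw [hM]; exact lam.isUnit.map _)
  exact ⟨hu.unit, Units.ext (by rw [Units.val_pow_eq_pow_val, IsUnit.unit_spec, hM, coe_sc]; rfl)⟩

/-- Number of conjugacy classes of elements of prime order r in PGL_n(q) = GL_n(q)/scalars when r divides q − 1 (n ≥ 2): the classes of elements with a diagonalisable lift correspond to the orbits of the cyclic rotation on the r-tuples of eigenvalue multiplicities (a_0, …, a_(r−1)) summing to n with every a_j < n, and when r divides n there are r − 1 further classes (lifts acting irreducibly on blocks of size r); in all (C(n+r−1, r−1) − r − [r ∣ n])/r + r·[r ∣ n] classes. -/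
theorem result {F : Type*} [Field F] [Fintype F] {q : ℕ} (hF : Fintype.card F = q) {n r : ℕ} (hn : 2 ≤ n) (hr : r.Prime) (hrq : r ∣ q - 1) : Nat.card {C : ConjClasses (GL (Fin n) F ⧸ Subgroup.center (GL (Fin n) F)) // ∃ g : GL (Fin n) F ⧸ Subgroup.center (GL (Fin n) F), ConjClasses.mk g = C ∧ orderOf g = r} = (Nat.choose (n + r - 1) (r - 1) - r - (if r ∣ n then 1 else 0)) / r + r * (if r ∣ n then 1 else 0) := by
  classical
  haveI : Fact r.Prime := ⟨hr⟩
  haveI : NeZero r := ⟨hr.ne_zero⟩
  obtain ⟨ζ, hζ⟩ : ∃ ζ : Fˣ, IsPrimitiveRoot ζ r := by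
    obtain ⟨g, hg⟩ := IsCyclic.exists_generator (α := Fˣ)
    have ho : orderOf g = q - 1 := by
      rw [orderOf_eq_card_of_forall_mem_zpowers hg, Nat.card_eq_fintype_card, Fintype.card_units, hF]
    obtain ⟨d, hd⟩ := hrq
    have hq1 : 0 < q - 1 := by rw [← hF]; exact Nat.sub_pos_of_lt Fintype.one_lt_card
    refine ⟨g ^ d, IsPrimitiveRoot.iff_orderOf.2 ?_⟩
    rw [orderOf_pow' g (fun h => by rw [h, mul_zero] at hd; omega), ho, hd, Nat.gcd_mul_left_left,
      Nat.mul_div_cancel _ (Nat.pos_of_ne_zero fun h => by rw [h, mul_zero] at hd; omega)]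
  let Z := Subgroup.center (GL (Fin n) F)
  let N : Subgroup Fˣ := (powMonoidHom r : Fˣ →* Fˣ).range
  letI := shift r n
  haveI : Finite (Mult r n) := finite_mult
  let I := Quotient (MulAction.orbitRel (Multiplicative (ZMod r)) (Mult r n)) ⊕
    {u : Fˣ ⧸ N // u ≠ 1 ∧ r ∣ n}
  let S := {C : ConjClasses (GL (Fin n) F ⧸ Z) // ∃ g, ConjClasses.mk g = C ∧ orderOf g = r}
  have hn0 : 0 < n := by omega
  -- equality of classes
  have hcls : ∀ g h : GL (Fin n) F, ConjClasses.mk (g : GL (Fin n) F ⧸ Z) = ConjClasses.mk (h : _ ⧸ Z) ↔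
      ∃ c, IsConj (sc c * g) h := by
    intro g h
    rw [ConjClasses.mk_eq_mk_iff_isConj, isConj_iff]
    constructor
    · rintro ⟨x, hx⟩
      obtain ⟨x, rfl⟩ := QuotientGroup.mk_surjective x
      rw [← QuotientGroup.mk_inv, ← QuotientGroup.mk_mul, ← QuotientGroup.mk_mul, QuotientGroup.eq] at hx
      obtain ⟨c, hc⟩ := center_iff.1 hx
      refine ⟨c, isConj_iff.2 ⟨x, ?_⟩⟩
      rw [← mul_assoc, ← (sc_mul_comm c x).eq, mul_assoc (sc c) x g, mul_assoc (sc c), (sc_mul_comm c _).eq,
        hc, mul_inv_cancel_left]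
    · rintro ⟨c, hc⟩
      obtain ⟨x, hx⟩ := isConj_iff.1 hc
      refine ⟨x, ?_⟩
      rw [← QuotientGroup.mk_inv, ← QuotientGroup.mk_mul, ← QuotientGroup.mk_mul, QuotientGroup.eq]
      refine center_iff.2 ⟨c, ?_⟩
      rw [← hx, ← mul_assoc x, ← (sc_mul_comm c x).eq, mul_assoc (sc c) x g, mul_assoc (sc c),
        (sc_mul_comm c _).eq, inv_mul_cancel_left]
  have hpow : ∀ {g h : GL (Fin n) F} {c l l' : Fˣ}, IsConj (sc c * g) h → g ^ r = sc l → h ^ r = sc l' →
      c ^ r * l = l' := by
    intro g h c l l' hc hg hh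
    obtain ⟨x, hx⟩ := isConj_iff.1 hc
    refine sc_injective hn0 ?_
    rw [← hh, ← hx, conj_pow, (sc_mul_comm c g).mul_pow, hg, ← sc_pow, ← sc_mul, ← (sc_mul_comm _ x).eq,
      mul_inv_cancel_right]
  have hord : ∀ {g : GL (Fin n) F} {l : Fˣ}, g ^ r = sc l → g ∉ Z → orderOf (g : GL (Fin n) F ⧸ Z) = r := by
    intro g l hg hgz
    refine orderOf_eq_prime ?_ fun h => hgz ((QuotientGroup.eq_one_iff g).1 h)
    rw [← QuotientGroup.mk_pow, QuotientGroup.eq_one_iff, hg]
    exact center_iff.2 ⟨l, rfl⟩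
  choose dOf hdOf using fun a : Mult r n => exists_cnt a.2.1
  have hgd : ∀ a : Mult r n, gd ζ (dOf a) ∉ Z := by
    intro a hz
    obtain ⟨c, hc⟩ := center_iff.1 hz
    have hall : ∀ i, dOf a i = dOf a ⟨0, hn0⟩ := fun i => zp_injective hζ (Units.ext (by
      have h1 := (Matrix.ext_iff.2 (congrArg Units.val hc : ((sc c : GL (Fin n) F) : Matrix (Fin n) (Fin n) F) = _)) i i
      have h2 := (Matrix.ext_iff.2 (congrArg Units.val hc : ((sc c : GL (Fin n) F) : Matrix (Fin n) (Fin n) F) = _)) ⟨0, hn0⟩ ⟨0, hn0⟩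
      rw [coe_sc, diagonal_apply_eq] at h1 h2
      rw [show (gd ζ (dOf a)).1 = diagonal _ from rfl, diagonal_apply_eq] at h1 h2
      exact h1.symm.trans h2))
    have h3 := a.2.2 (dOf a ⟨0, hn0⟩)
    rw [← hdOf a, cnt, Nat.card_congr (Equiv.subtypeUnivEquiv hall), Nat.card_eq_fintype_card,
      Fintype.card_fin] at h3
    exact lt_irrefl _ h3
  have hshift : ∀ (k : ZMod r) (a : Mult r n) (d : Fin n → ZMod r),
      cnt d = (Multiplicative.ofAdd k • a : Mult r n).1 → IsConj (sc (zp ζ k) * gd ζ (dOf a)) (gd ζ d) := by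
    intro k a d hd
    rw [sc_mul_gd hζ]
    refine isConj_of_eq hF hr hrq (gd_pow hζ _) (gd_pow hζ _) ?_
    rw [gd_charpoly, gd_charpoly, hd]
    refine Finset.prod_congr rfl fun j _ => ?_
    congr 1
    show _ = a.1 (j - k)
    rw [← hdOf a]
    exact Nat.card_congr (Equiv.subtypeEquivRight fun i => eq_sub_iff_add_eq'.symm)
  have hblock : ∀ u : {u : Fˣ ⧸ N // u ≠ 1 ∧ r ∣ n}, ∃ h : GL (Fin n) F, h ^ r = sc u.1.out :=
    fun u => exists_block _ u.2.2
  choose hB hhB using hblock
  have hN : ∀ u : Fˣ ⧸ N, ∀ c : Fˣ, u ≠ 1 → c ^ r ≠ u.out := fun u c hu h => hu (by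
    rw [← QuotientGroup.out_eq' u, QuotientGroup.eq_one_iff, ← h]; exact ⟨c, rfl⟩)
  have hBz : ∀ u, hB u ∉ Z := by
    intro u hz
    obtain ⟨c, hc⟩ := center_iff.1 hz
    exact hN u.1 c u.2.1 (sc_injective hn0 (by rw [sc_pow, hc, hhB]))
  let Φ : I → S := Sum.elim
    (Quotient.lift (fun a => ⟨ConjClasses.mk (gd ζ (dOf a) : GL (Fin n) F ⧸ Z), _, rfl,
        hord (gd_pow hζ _) (hgd a)⟩) fun a b hab => Subtype.ext (by
      obtain ⟨k, hk⟩ := MulAction.orbitRel_apply.1 hab
      refine ((hcls _ _).2 ⟨zp ζ k.toAdd, hshift k.toAdd b (dOf a) ?_⟩).symm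
      rw [hdOf, ← hk]; rfl))
    fun u => ⟨ConjClasses.mk (hB u : GL (Fin n) F ⧸ Z), _, rfl, hord (hhB u) (hBz u)⟩
  have hΦ : Function.Bijective Φ := by
    constructor
    · rintro (a | u) (b | v) h
      · induction a using Quotient.ind with | _ a => ?_
        induction b using Quotient.ind with | _ b => ?_
        obtain ⟨c, hc⟩ := (hcls _ _).1 (congrArg Subtype.val h)
        have hcr : c ^ r = 1 := by
          have := hpow hc (gd_pow hζ _) (gd_pow hζ _); rwa [mul_one] at this
        obtain ⟨k, rfl⟩ := exists_zp hζ hcr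
        congr 1
        refine (Quotient.sound ?_).symm
        refine MulAction.orbitRel_apply.2 ⟨Multiplicative.ofAdd k, Subtype.ext (funext fun j => ?_)⟩
        rw [sc_mul_gd hζ] at hc
        obtain ⟨x, hx⟩ := isConj_iff.1 hc
        show a.1 (j - k) = b.1 j
        rw [← hdOf a, ← hdOf b, ← cnt_eq_rootMultiplicity hζ (dOf b) j, ← hx, Units.val_mul, Units.val_mul,
          show ((x⁻¹ : GL (Fin n) F) : Matrix (Fin n) (Fin n) F) = (x : Matrix (Fin n) (Fin n) F)⁻¹ from
            Matrix.coe_units_inv x, Matrix.charpoly_units_conj, cnt_eq_rootMultiplicity hζ]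
        exact Nat.card_congr (Equiv.subtypeEquivRight fun i => eq_sub_iff_add_eq')
      · induction a using Quotient.ind with | _ a => ?_
        obtain ⟨c, hc⟩ := (hcls _ _).1 (congrArg Subtype.val h)
        exact absurd (by have := hpow hc (gd_pow hζ _) (hhB v); rwa [mul_one] at this) (hN v.1 c v.2.1)
      · induction b using Quotient.ind with | _ b => ?_
        obtain ⟨c, hc⟩ := (hcls _ _).1 (congrArg Subtype.val h).symm
        exact absurd (by have := hpow hc (gd_pow hζ _) (hhB u); rwa [mul_one] at this) (hN u.1 c u.2.1)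
      · obtain ⟨c, hc⟩ := (hcls _ _).1 (congrArg Subtype.val h)
        refine congrArg Sum.inr (Subtype.ext ?_)
        rw [← QuotientGroup.out_eq' u.1, ← QuotientGroup.out_eq' v.1, QuotientGroup.eq]
        exact ⟨c, by rw [powMonoidHom_apply, ← hpow hc (hhB u) (hhB v), mul_comm (c ^ r), inv_mul_cancel_left]⟩
    · rintro ⟨C, g, rfl, hg⟩
      obtain ⟨g, rfl⟩ := QuotientGroup.mk_surjective g
      have hgr := pow_orderOf_eq_one (g : GL (Fin n) F ⧸ Z)
      rw [hg, ← QuotientGroup.mk_pow, QuotientGroup.eq_one_iff] at hgr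
      obtain ⟨l, hl⟩ := center_iff.1 hgr
      have hgZ : g ∉ Z := fun h => hr.ne_one (by rw [← hg, (QuotientGroup.eq_one_iff g).2 h, orderOf_one])
      by_cases hu : (l : Fˣ ⧸ N) = 1
      · obtain ⟨c, hc⟩ := (QuotientGroup.eq_one_iff l).1 hu
        rw [powMonoidHom_apply] at hc
        set g' := sc c⁻¹ * g with hg'
        have hg'r : g' ^ r = sc 1 := by
          rw [hg', (sc_mul_comm _ g).mul_pow, ← hl, ← sc_pow, ← sc_mul, inv_pow, hc, inv_mul_cancel]
        obtain ⟨s, hs, hsf⟩ := charpoly_factors (aeval_pow_sub g' 1 hg'r)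
        let L : ZMod r → F[X] := fun j => X - Polynomial.C ((zp ζ j : Fˣ) : F)
        have hL : Function.Injective L := fun i j h => zp_injective hζ (Units.ext (by
          simpa [L, sub_right_inj] using h))
        have hmem : ∀ f ∈ s, ∃ j, L j = f := by
          intro f hf
          obtain ⟨hmon, hirr, hdvd⟩ := hsf f hf
          rw [Units.val_one, X_pow_sub_C_eq_prod (α := (1 : F))
            (show IsPrimitiveRoot ((ζ : Fˣ) : F) r from hζ.map_of_injective (f := Units.coeHom F) Units.val_injective)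
            hr.pos (one_pow r)] at hdvd
          obtain ⟨i, -, hi⟩ := (hirr.prime.dvd_finset_prod_iff _).1 hdvd
          refine ⟨(i : ZMod r), (Polynomial.eq_of_monic_of_associated hmon (monic_X_sub_C _)
            (hirr.associated_of_dvd (irreducible_X_sub_C _) hi)).trans ?_ |>.symm⟩
          congr 2
          rw [mul_one, zp, ZMod.val_natCast, ← Units.val_pow_eq_pow_val,
            ← pow_eq_pow_mod _ hζ.pow_eq_one]
        let a : ZMod r → ℕ := fun j => s.count (L j)
        have hprod : (g' : Matrix (Fin n) (Fin n) F).charpoly = ∏ j, L j ^ a j := by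
          rw [← hs, Finset.prod_multiset_count_of_subset s (Finset.univ.image L) fun f hf => by
            obtain ⟨j, hj⟩ := hmem f (Multiset.mem_toFinset.1 hf)
            exact Finset.mem_image.2 ⟨j, Finset.mem_univ j, hj⟩,
            Finset.prod_image fun i _ j _ h => hL h]
        have hsum : ∑ j, a j = n := by
          have h := congrArg natDegree hprod
          rw [Matrix.charpoly_natDegree_eq_dim, Fintype.card_fin, natDegree_prod _ _ fun j _ =>
            pow_ne_zero _ (X_sub_C_ne_zero _)] at h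
          refine (h.trans (Finset.sum_congr rfl fun j _ => ?_)).symm
          rw [natDegree_pow, natDegree_X_sub_C, mul_one]
        have hlt : ∀ j, a j < n := by
          intro j
          by_contra hj
          obtain ⟨d, hd⟩ := exists_cnt hsum
          have hall : ∀ i, d i = j := by
            intro i
            by_contra hne
            have h1 : cnt d j < n := by
              rw [cnt, Nat.card_eq_fintype_card]
              exact (Fintype.card_subtype_lt (p := fun i => d i = j) hne).trans_eq (Fintype.card_fin n)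
            rw [hd] at h1
            exact hj h1
          have hc' : IsConj g' (gd ζ d) := isConj_of_eq hF hr hrq hg'r (gd_pow hζ _)
            (by rw [hprod, gd_charpoly, hd])
          have hsc : gd ζ d = sc (zp ζ j) := Units.ext (by
            rw [coe_sc]; show diagonal _ = _; simp [hall])
          obtain ⟨x, hx⟩ := isConj_iff.1 hc'.symm
          refine hgZ (center_iff.2 ⟨c * zp ζ j, ?_⟩)
          rw [hsc, ← (sc_mul_comm _ x).eq, mul_inv_cancel_right] at hx
          rw [sc_mul, hx, hg', ← mul_assoc, ← sc_mul, mul_inv_cancel, show sc (n := n) (1 : Fˣ) = 1 from map_one _,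
            one_mul]
        refine ⟨Sum.inl ⟦⟨a, hsum, hlt⟩⟧, Subtype.ext ?_⟩
        refine ((hcls _ _).2 ⟨c⁻¹, ?_⟩).symm
        exact isConj_of_eq hF hr hrq hg'r (gd_pow hζ _) (by rw [hprod, gd_charpoly, hdOf])
      · have hno : ∀ b : F, b ^ r ≠ (l : F) := fun b hb => hu ((QuotientGroup.eq_one_iff l).2 ⟨Units.mk0 b
          (fun h => l.ne_zero (by rw [← hb, h, zero_pow hr.ne_zero])), Units.ext (by simpa using hb)⟩)
        have hirr := X_pow_sub_C_irreducible_of_prime hr hno
        have hcp : ∀ h : GL (Fin n) F, h ^ r = sc l →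
            ∃ k, r * k = n ∧ (h : Matrix (Fin n) (Fin n) F).charpoly = (X ^ r - Polynomial.C (l : F)) ^ k := by
          intro h hh
          obtain ⟨s, hs, hsf⟩ := charpoly_factors (aeval_pow_sub h l hh)
          have hall : ∀ f ∈ s, f = X ^ r - Polynomial.C (l : F) := fun f hf =>
            Polynomial.eq_of_monic_of_associated (hsf f hf).1 (monic_X_pow_sub_C _ hr.ne_zero)
              ((hsf f hf).2.1.associated_of_dvd hirr (hsf f hf).2.2)
          rw [Multiset.eq_replicate_of_mem hall, Multiset.prod_replicate] at hs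
          refine ⟨_, ?_, hs.symm⟩
          have hd := congrArg natDegree hs
          rw [natDegree_pow, natDegree_X_pow_sub_C, Matrix.charpoly_natDegree_eq_dim, Fintype.card_fin] at hd
          rw [mul_comm, hd]
        obtain ⟨k, hk, hgc⟩ := hcp g hl.symm
        let u : {u : Fˣ ⧸ N // u ≠ 1 ∧ r ∣ n} := ⟨(l : Fˣ ⧸ N), hu, k, hk.symm⟩
        obtain ⟨c, hc⟩ : ∃ c : Fˣ, c ^ r * u.1.out = l := by
          obtain ⟨c, hc⟩ := QuotientGroup.eq.1 (QuotientGroup.out_eq' u.1)
          exact ⟨c, by rw [show c ^ r = u.1.out⁻¹ * l from hc, mul_comm, mul_inv_cancel_left]⟩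
        refine ⟨Sum.inr u, Subtype.ext ((hcls _ _).2 ⟨c, ?_⟩)⟩
        have hh : (sc c * hB u) ^ r = sc l := by
          rw [(sc_mul_comm c _).mul_pow, hhB, ← sc_pow, ← sc_mul, hc]
        obtain ⟨k', hk', hhc⟩ := hcp _ hh
        obtain rfl : k' = k := Nat.eq_of_mul_eq_mul_left hr.pos (hk'.trans hk.symm)
        exact isConj_of_eq hF hr hrq hh hl.symm (hhc.trans hgc.symm)
  rw [show Nat.card _ = Nat.card I from (Nat.card_eq_of_bijective Φ hΦ).symm, Nat.card_sum, card_orbits hn]
  have hNindex : N.index = r := by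
    rw [IsCyclic.index_powMonoidHom_range, Nat.card_eq_fintype_card, Fintype.card_units, hF, Nat.gcd_eq_right hrq]
  have hU : Nat.card {u : Fˣ ⧸ N // u ≠ 1 ∧ r ∣ n} = (r - 1) * (if r ∣ n then 1 else 0) := by
    split_ifs with hd
    · rw [mul_one, Nat.card_congr (Equiv.subtypeEquivRight (q := fun u : Fˣ ⧸ N => u ≠ 1) fun u =>
        and_iff_left hd), Nat.card_eq_fintype_card, Fintype.card_subtype_compl, Fintype.card_subtype_eq,
        ← Nat.card_eq_fintype_card, ← Subgroup.index, hNindex]
    · rw [mul_zero]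
      have : IsEmpty {u : Fˣ ⧸ N // u ≠ 1 ∧ r ∣ n} := ⟨fun u => hd u.2.2⟩
      exact Nat.card_of_isEmpty
  rw [hU]
  have := hr.two_le
  split_ifs <;> omega

end Cfsg.Agent.S2670
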