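import Cfsg.Statements.S2671
import Cfsg.Agent.Lib.Elem70.ClassCount.GUClasses
-- import your own Cfsg.Agent.* helpers here

set_option autoImplicit false
open Cfsg

namespace Cfsg.Agent.S2671

open Polynomial Cfsg.Agent.Lib.Elem70.ClassCount

/-- Number of conjugacy classes of elements of odd prime order r in the general unitary group GU_n(q), for r not dividing q(q + 1): let i be the multiplicative order of q modulo r, b = i if i is odd and b = i/2 if i is even, and s = (r − 1)/b. If i ≢ 2 (mod 4) the eigenvalue orbits pair off into dual pairs of totally isotropic blocks and there are C(⌊n/(2b)⌋ + s/2, s/2) − 1 classes; if i ≡ 2 (mod 4) each orbit gives a non-degenerate block of dimension i/2 and there are C(⌊2n/i⌋ + s, s) − 1 classes. -/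
theorem result {K : Type*} [Field K] [Fintype K] {p q n r i b s : ℕ} [Fact p.Prime] [CharP K p] (hK : Fintype.card K = q ^ 2) (hr : r.Prime) (hr2 : r ≠ 2) (hrp : r ≠ p) (hi : i = orderOf (q : ZMod r)) (hi2 : i ≠ 2) (hb : b = if Odd i then i else i / 2) (hs : s * b = r - 1) : Nat.card {C : ConjClasses ↥(Cfsg.GU n K q) // ∃ g : ↥(Cfsg.GU n K q), ConjClasses.mk g = C ∧ orderOf g = r} = if i % 4 = 2 then Nat.choose (2 * n / i + s) s - 1 else Nat.choose (n / (2 * b) + s / 2) (s / 2) - 1 := by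
  classical
  haveI := Fact.mk hr
  have hp := (Fact.out : p.Prime)
  obtain ⟨p', f, hp', hcp', hqf⟩ := exists_charP_pow hK
  obtain rfl : p' = p := by
    haveI := hcp'
    exact CharP.eq (AlgebraicClosure K) hcp'
      (charP_of_injective_algebraMap (algebraMap K (AlgebraicClosure K)).injective p)
  obtain ⟨φ, hφ⟩ := pow_q_ringHom hK
  have hq0 : (q : ZMod r) ≠ 0 := fun h => by
    rw [ZMod.natCast_eq_zero_iff, hqf] at h
    exact hrp ((Nat.prime_dvd_prime_iff_eq hr hp').1 (hr.dvd_of_dvd_pow h))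
  have hi0 : 0 < i := by
    rw [hi]
    refine Nat.pos_of_ne_zero fun h => ?_
    rw [orderOf_eq_zero_iff'] at h
    exact h (r - 1) (Nat.sub_pos_of_lt hr.one_lt) (ZMod.pow_card_sub_one_eq_one hq0)
  have h2r : (2 : ZMod r) ≠ 0 := fun h => hr2 ((Nat.prime_dvd_prime_iff_eq hr Nat.prime_two).1
    ((ZMod.natCast_eq_zero_iff 2 r).1 (by exact_mod_cast h)))
  have hdvd : ∀ k, (q : ZMod r) ^ k = 1 ↔ i ∣ k := fun k => by rw [hi, orderOf_dvd_iff_pow_eq_one]
  have hne : (-1 : ZMod r) ≠ 1 := fun h => h2r (by linear_combination -h)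
  have hcop : r.Coprime (q + 1) := by
    rw [hr.coprime_iff_not_dvd, ← ZMod.natCast_eq_zero_iff]
    intro h
    push_cast at h
    have h1 : (q : ZMod r) = -1 := by linear_combination h
    have h2 : i ∣ 2 := (hdvd 2).1 (by rw [h1, neg_one_sq])
    rcases (Nat.dvd_prime Nat.prime_two).1 h2 with h3 | h3
    · exact hne (h1 ▸ (by simpa using (hdvd 1).2 (h3 ▸ dvd_rfl)))
    · exact hi2 h3
  -- the map `x ↦ x^(-q)` on the roots of unity
  let L := AlgebraicClosure K
  haveI : NeZero ((r : ℕ) : L) := ⟨by rw [Ne, CharP.cast_eq_zero_iff L p',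
    Nat.prime_dvd_prime_iff_eq hp' hr]; exact fun h => hrp h.symm⟩
  haveI : NeZero r := ⟨hr.pos.ne'⟩
  let R : Finset L := (nthRootsFinset r (1 : L)).erase 1
  have hmem : ∀ {x : L}, x ∈ R ↔ x ≠ 1 ∧ x ^ r = 1 := fun {x} => by
    rw [Finset.mem_erase, mem_nthRootsFinset hr.pos]
  let τ : L → L := fun x => (x⁻¹) ^ q
  have hτ : Function.Injective τ := fun a b h => inv_injective (φ.injective (by rw [hφ, hφ]; exact h))
  have hτc : τ 1 = 1 := by simp [τ]
  have hτR : ∀ a ∈ R, τ a ∈ R := fun a ha => by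
    obtain ⟨h1, h2⟩ := hmem.1 ha
    refine hmem.2 ⟨fun h => h1 (hτ (h.trans hτc.symm)), ?_⟩
    show ((a⁻¹) ^ q) ^ r = 1
    rw [← pow_mul, mul_comm, pow_mul, inv_pow a r, h2, inv_one, one_pow]
  have hiter : ∀ a ∈ R, ∀ k, τ^[k] a = a ^ ((r - 1) * q) ^ k := by
    intro a ha k
    have ha0 : a ≠ 0 := fun h => by
      have := (hmem.1 ha).2; rw [h, zero_pow hr.pos.ne'] at this; exact zero_ne_one this
    have key : ∀ e : ℕ, ((a ^ e)⁻¹) = a ^ (e * (r - 1)) := fun e => by
      refine inv_eq_of_mul_eq_one_right ?_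
      rw [← pow_add, show e + e * (r - 1) = r * e by
        obtain ⟨r', rfl⟩ : ∃ r', r = r' + 1 := ⟨r - 1, by have := hr.pos; omega⟩
        simp; ring, pow_mul, (hmem.1 ha).2, one_pow]
    induction k with
    | zero => simp
    | succ k ih =>
      rw [Function.iterate_succ_apply', ih]
      show ((a ^ ((r - 1) * q) ^ k)⁻¹) ^ q = _
      rw [key, ← pow_mul, pow_succ, mul_assoc]
  set o := orderOf (-(q : ZMod r)) with ho
  have ho0 : 0 < o := by
    refine Nat.pos_of_ne_zero fun h => ?_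
    rw [ho, orderOf_eq_zero_iff'] at h
    exact h (r - 1) (Nat.sub_pos_of_lt hr.one_lt) (ZMod.pow_card_sub_one_eq_one (neg_ne_zero.2 hq0))
  have horb : ∀ a ∈ R, ∀ k, τ^[k] a = a ↔ o ∣ k := fun a ha k => by
    obtain ⟨h1, h2⟩ := hmem.1 ha
    have hoa : orderOf a = r := orderOf_eq_prime h2 h1
    rw [hiter a ha, ho, orderOf_dvd_iff_pow_eq_one]
    conv_lhs => rhs; rw [← pow_one a]
    rw [(orderOf_pos_iff.1 (hoa.symm ▸ hr.pos)).pow_eq_pow_iff_modEq, hoa, ← ZMod.natCast_eq_natCast_iff]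
    push_cast [Nat.cast_sub hr.one_lt.le]
    rw [ZMod.natCast_self, zero_sub, neg_one_mul]
  obtain ⟨hoR, hcnt⟩ := card_invariant_multisets hτ R 1 (fun h => (hmem.1 h).1 rfl) hτc hτR ho0 horb n
  have hRc : R.card = r - 1 := by
    obtain ⟨ζ, hζ⟩ := HasEnoughRootsOfUnity.exists_primitiveRoot L r
    rw [Finset.card_erase_of_mem (by rw [mem_nthRootsFinset hr.pos]; exact one_pow r), hζ.card_nthRootsFinset]
  -- the classes
  set A := {M : Multiset L | Multiset.card M = n ∧ (∀ x ∈ M, x ∈ R ∨ x = 1) ∧ M.map τ = M} with hA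
  have hAeq : ∀ M : Multiset L, Multiset.card M = n → (M ∈ A ↔ (∀ x ∈ M, x ^ r = 1) ∧
      M.map (fun x => x ^ q) = M.map fun x => x⁻¹) := by
    intro M hM
    refine ⟨fun ⟨_, h1, h2⟩ => ⟨fun x hx => ?_, ?_⟩, fun ⟨h1, h2⟩ => ⟨hM, fun x hx => ?_, ?_⟩⟩
    · rcases h1 x hx with h | h
      · exact (hmem.1 h).2
      · rw [h, one_pow]
    · conv_rhs => rw [← h2, Multiset.map_map]
      exact Multiset.map_congr rfl fun x _ => by
        show x ^ q = ((x⁻¹) ^ q)⁻¹
        rw [inv_pow, inv_inv]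
    · rcases eq_or_ne x 1 with h | h
      · exact Or.inr h
      · exact Or.inl (hmem.2 ⟨h, h1 x hx⟩)
    · conv_rhs => rw [← Multiset.map_id' M]
      rw [show M.map τ = (M.map fun x => x ^ q).map (fun x => x⁻¹) by
        rw [Multiset.map_map]; exact Multiset.map_congr rfl fun x _ => inv_pow x q, h2, Multiset.map_map]
      exact Multiset.map_congr rfl fun x _ => inv_inv x
  have hco : ∀ g : ↥(Cfsg.GU n K q), g ^ r = 1 → (orderOf g).Coprime p' := fun g hg =>
    Nat.Coprime.coprime_dvd_left (orderOf_dvd_of_pow_eq_one hg) ((Nat.coprime_primes hr hp').2 hrp)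
  have hrep : ∀ M ∈ A, ∃ g : ↥(Cfsg.GU n K q), g ^ r = 1 ∧ eigen g = M := fun M hM => by
    obtain ⟨h1, h2⟩ := (hAeq M hM.1).1 hM
    obtain ⟨g, hg, rfl⟩ := exists_gu_eigen hK p' hr.pos hcop hM.1 h1 h2
    exact ⟨g, (gu_pow_eq_one_iff g hg).2 h1, rfl⟩
  have himg : ∀ g : ↥(Cfsg.GU n K q), g ^ r = 1 → eigen g ∈ A := fun g hg =>
    (hAeq _ (eigen_card g)).2 ⟨(gu_pow_eq_one_iff g (hco g hg)).1 hg, eigen_inv hK g⟩
  have e1 : Nat.card {C : ConjClasses ↥(Cfsg.GU n K q) // ∃ g : ↥(Cfsg.GU n K q),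
      ConjClasses.mk g = C ∧ orderOf g = r} = (A \ {eigen (1 : ↥(Cfsg.GU n K q))}).ncard := by
    choose gm hgr hge using hrep
    rw [← Nat.card_coe_set_eq]
    refine (Nat.card_eq_of_bijective (fun M : ↥(A \ {eigen (1 : ↥(Cfsg.GU n K q))}) =>
      ⟨ConjClasses.mk (gm M.1 M.2.1), gm M.1 M.2.1, rfl, orderOf_eq_prime (hgr _ _) fun e => M.2.2 (by
        rw [Set.mem_singleton_iff, ← hge M.1 M.2.1, e])⟩) ⟨?_, ?_⟩).symm
    · intro a b hab
      have h1 := (gu_isConj_iff hK _ _ (hco _ (hgr _ _)) (hco _ (hgr _ _))).1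
        (ConjClasses.mk_eq_mk_iff_isConj.1 (congrArg Subtype.val hab))
      rw [hge, hge] at h1
      exact Subtype.ext h1
    · rintro ⟨C, g, rfl, hg⟩
      have hgr' : g ^ r = 1 := hg ▸ pow_orderOf_eq_one g
      have hne : eigen g ≠ eigen (1 : ↥(Cfsg.GU n K q)) := fun e => by
        rw [isConj_one_left.1 ((gu_isConj_iff hK g 1 (hco g hgr') (by simp)).2 e), orderOf_one] at hg
        exact hr.one_lt.ne hg
      exact ⟨⟨eigen g, himg g hgr', hne⟩, Subtype.ext (ConjClasses.mk_eq_mk_iff_isConj.2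
        ((gu_isConj_iff hK _ g (hco _ (hgr _ _)) (hco g hgr')).2 (hge _ _)))⟩
  rw [e1, Set.ncard_sdiff_singleton_of_mem (himg 1 (one_pow r)), ← Nat.card_coe_set_eq]
  rw [show Nat.card ↥A = Nat.choose (n / o + R.card / o) (R.card / o) from hcnt, hRc, ← hs]
  have hb0 : 0 < b := by
    rcases Nat.eq_zero_or_pos b with h | h
    · rw [h, mul_zero] at hs; have := hr.two_le; omega
    · exact h
  have h2b : ∀ k, (-(q : ZMod r)) ^ k = 1 → b ∣ k := fun k hk => by
    have h1 : i ∣ 2 * k := (hdvd _).1 (by rw [pow_mul, ← neg_sq, ← pow_mul, mul_comm, pow_mul, hk, one_pow])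
    rw [hb]
    split_ifs with hodd
    · exact (Nat.coprime_two_right.2 hodd).dvd_of_dvd_mul_left h1
    · obtain ⟨j, hj⟩ := Nat.not_odd_iff_even.1 hodd
      rw [show i / 2 = j by omega]
      rw [show i = 2 * j by omega] at h1
      exact Nat.dvd_of_mul_dvd_mul_left (by norm_num) h1
  have hhalf : ∀ j, i = 2 * j → (q : ZMod r) ^ j = -1 := fun j hj => by
    have h1 : ((q : ZMod r) ^ j) ^ 2 = 1 := by rw [← pow_mul, hdvd]; exact ⟨1, by omega⟩
    rcases sq_eq_one_iff.1 h1 with h | h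
    · have := Nat.le_of_dvd (by omega) ((hdvd j).1 h); omega
    · exact h
  split_ifs with h4
  · have hob : o = b := by
      refine Nat.dvd_antisymm ?_ (h2b o (pow_orderOf_eq_one _))
      rw [ho, orderOf_dvd_iff_pow_eq_one, hb, if_neg (by rw [Nat.odd_iff]; omega), neg_pow,
        hhalf (i / 2) (by omega), Odd.neg_one_pow (by rw [Nat.odd_iff]; omega), neg_one_mul, neg_neg]
    have hbi : b = i / 2 := by rw [hb, if_neg (by rw [Nat.odd_iff]; omega)]
    rw [hob, Nat.mul_div_cancel _ hb0, hbi]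
    congr 3
    rw [show i = 2 * (i / 2) by omega, Nat.mul_div_mul_left _ _ (by norm_num : 0 < 2), ← show i = 2 * (i / 2) by omega]
  · have hbneg : (-(q : ZMod r)) ^ b = -1 := by
      rw [hb, neg_pow]
      split_ifs with hodd
      · rw [hodd.neg_one_pow, (hdvd i).2 dvd_rfl, mul_one]
      · rw [Nat.not_odd_iff_even] at hodd
        obtain ⟨j, hj⟩ := hodd
        rw [show i / 2 = j by omega, hhalf j (by omega), Even.neg_one_pow (by rw [Nat.even_iff]; omega), one_mul]
    have hob : o = 2 * b := by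
      refine Nat.dvd_antisymm ?_ ?_
      · rw [ho, orderOf_dvd_iff_pow_eq_one, mul_comm, pow_mul, hbneg, neg_one_sq]
      · obtain ⟨c, hc⟩ := h2b o (pow_orderOf_eq_one _)
        have h1 : (-1 : ZMod r) ^ c = 1 := by rw [← hbneg, ← pow_mul, ← hc]; exact pow_orderOf_eq_one _
        rcases Nat.even_or_odd c with ⟨c', hc'⟩ | hodd
        · exact ⟨c', by rw [hc, hc']; ring⟩
        · rw [hodd.neg_one_pow] at h1; exact absurd h1 hne
    rw [hob, show s * b / (2 * b) = s / 2 from Nat.mul_div_mul_right s 2 hb0]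

end Cfsg.Agent.S2671
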