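import Cfsg.Statements.S2672
import Cfsg.Agent.Lib.Elem70.ClassCount.PGUClasses
-- import your own Cfsg.Agent.* helpers here

set_option autoImplicit false
open Cfsg

namespace Cfsg.Agent.S2672

open Polynomial Cfsg.Agent.Lib.Elem70.ClassCount Cfsg.Agent.Lib.Unitary

/-- Number of conjugacy classes of elements of odd prime order r in PGU_n(q) = GU_n(q)/scalars (n ≥ 3) when r divides q + 1: as in the linear case with q − 1 replaced by q + 1, the classes correspond to the rotation orbits on r-tuples of eigenvalue multiplicities summing to n with every entry < n, plus r − 1 further classes when r divides n; in all (C(n+r−1, r−1) − r − [r ∣ n])/r + r·[r ∣ n]. -/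
theorem result {K : Type*} [Field K] [Fintype K] {q n r : ℕ} (hK : Fintype.card K = q ^ 2) (hn : 3 ≤ n) (hr : r.Prime) (hr2 : r ≠ 2) (hrq : r ∣ q + 1) : Nat.card {C : ConjClasses (↥(Cfsg.GU n K q) ⧸ Subgroup.center ↥(Cfsg.GU n K q)) // ∃ g : ↥(Cfsg.GU n K q) ⧸ Subgroup.center ↥(Cfsg.GU n K q), ConjClasses.mk g = C ∧ orderOf g = r} = (Nat.choose (n + r - 1) (r - 1) - r - (if r ∣ n then 1 else 0)) / r + r * (if r ∣ n then 1 else 0) := by
  classical
  obtain ⟨p, f, hp, hcp, hqf⟩ := exists_charP_pow hK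
  haveI := Fact.mk hp
  haveI := Fact.mk hr
  haveI : CharP K p := (algebraMap K (AlgebraicClosure K)).charP (algebraMap K (AlgebraicClosure K)).injective p
  set G := ↥(Cfsg.GU n K q)
  let L := AlgebraicClosure K
  let j := algebraMap K L
  -- roots of unity in `K`
  obtain ⟨η, hη⟩ : ∃ η : K, IsPrimitiveRoot η (q + 1) := exists_primitiveRoot hK
  set m := (q + 1) / r with hm
  have hmr : (q + 1) = m * r := (Nat.div_mul_cancel hrq).symm
  have hζ : IsPrimitiveRoot (η ^ m) r := hη.pow (Nat.succ_pos q) hmr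
  set ζ := η ^ m
  haveI : NeZero r := ⟨hr.pos.ne'⟩
  let μ : Finset K := nthRootsFinset r (1 : K)
  have hμc : μ.card = r := hζ.card_nthRootsFinset
  have hμ : ∀ {x}, x ∈ μ ↔ x ^ r = 1 := fun {x} => mem_nthRootsFinset hr.pos 1
  have hμq : ∀ {x}, x ∈ μ → x ^ (q + 1) = 1 := fun {x} hx => by rw [hmr, mul_comm, pow_mul, hμ.1 hx, one_pow]
  have hμ0 : ∀ {x}, x ∈ μ → x ≠ 0 := fun {x} hx h => by
    have := hμ.1 hx; rw [h, zero_pow hr.pos.ne'] at this; exact zero_ne_one this
  have hμmul : ∀ {x y}, x ∈ μ → y ∈ μ → x * y ∈ μ := fun {x y} hx hy => by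
    rw [hμ, mul_pow, hμ.1 hx, hμ.1 hy, one_mul]
  have hζμ : ζ ∈ μ := hμ.2 hζ.pow_eq_one
  -- coprimality
  have hpq : ¬ p ∣ q + 1 := by
    intro h
    rcases Nat.eq_zero_or_pos f with hf | hf
    · have := one_lt_q hK; rw [hqf, hf] at this; simp at this
    · have h1 : p ∣ q := hqf ▸ dvd_pow_self p hf.ne'
      exact hp.one_lt.ne' (Nat.dvd_one.1 ((Nat.dvd_add_right h1).1 h))
  have hco : ∀ g : G, g ^ r ∈ Subgroup.center G → (orderOf g).Coprime p := by
    intro g hg
    obtain ⟨a, ha⟩ := (center_GU_scalar hK hη (by omega) _).1 hg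
    have h1 : g ^ (r * (q + 1)) = 1 := by
      rw [pow_mul]
      refine Subtype.ext (Units.ext ?_)
      rw [SubmonoidClass.coe_pow, Units.val_pow_eq_pow_val, ha, _root_.smul_pow, one_pow, ← pow_mul, mul_comm a,
        pow_mul, hη.pow_eq_one, one_pow, one_smul]
      rfl
    refine Nat.Coprime.coprime_dvd_left (orderOf_dvd_of_pow_eq_one h1) (Nat.Coprime.mul_left ?_ ?_)
    · exact (Nat.coprime_primes hr hp).2 fun e => hpq (e ▸ hrq)
    · exact Nat.coprime_comm.1 (hp.coprime_iff_not_dvd.2 hpq)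
  -- central elements
  obtain ⟨Z, hZ⟩ : ∃ Z : ℕ → G, ∀ a, (Z a).1.1 = η ^ a • (1 : Matrix (Fin n) (Fin n) K) := by
    choose D hD using fun a : ℕ => exists_diag_GU (n := n) hK (fun _ => η ^ a)
      (fun _ => by rw [← pow_mul, mul_comm, pow_mul, hη.pow_eq_one, one_pow])
    exact ⟨D, fun a => by rw [hD, ← Matrix.smul_one_eq_diagonal]⟩
  have hZc : ∀ a, Z a ∈ Subgroup.center G := fun a => (center_GU_scalar hK hη (by omega) _).2 ⟨a, hZ a⟩
  have hη0 : η ≠ 0 := hη.ne_zero (Nat.succ_ne_zero q)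
  have hmulZ : ∀ (g : G) (a : ℕ), (g * Z a).1.1 = η ^ a • g.1.1 := fun g a => by
    rw [Subgroup.coe_mul, Units.val_mul, hZ, Matrix.mul_smul, Matrix.mul_one]
  have heZ : ∀ (g : G) (a : ℕ), eigen (g * Z a) = (eigen g).map fun x => j (η ^ a) * x := fun g a =>
    eigen_smul g _ (pow_ne_zero _ hη0) (hmulZ g a)
  -- diagonal elements
  have hdiag : ∀ s ∈ μ.sym n, ∃ g : G, g ^ r = 1 ∧ eigen g = (s : Multiset K).map j := by
    intro s hs
    have hsμ : ∀ x ∈ (s : Multiset K), x ∈ μ := fun x hx => Finset.mem_sym_iff.1 hs x hx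
    set l := (s : Multiset K).toList with hl
    have hln : l.length = n := by rw [hl, Multiset.length_toList, Sym.card_coe]
    let d : Fin n → K := fun i => l[i.1]'(hln.symm ▸ i.2)
    have hd : Finset.univ.val.map d = (s : Multiset K) := by
      rw [Fin.univ_val_map, ← Multiset.coe_toList (s : Multiset K), ← hl]
      exact congrArg _ (List.ext_getElem (by simp [hln]) fun i h1 h2 => by simp [d])
    have hdμ : ∀ i, d i ∈ μ := fun i => hsμ _ (Multiset.mem_toList.1 (List.getElem_mem _))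
    obtain ⟨g, hg⟩ := exists_diag_GU hK d fun i => hμq (hdμ i)
    refine ⟨g, Subtype.ext (Units.ext ?_), ?_⟩
    · rw [SubmonoidClass.coe_pow, Units.val_pow_eq_pow_val, hg, Matrix.diagonal_pow]
      exact (congrArg Matrix.diagonal (funext fun i => hμ.1 (hdμ i))).trans Matrix.diagonal_one
    · rw [eigen, hg, Matrix.charpoly_diagonal, aroots_def, Polynomial.map_prod,
        Finset.prod_eq_multiset_prod]
      simp only [Polynomial.map_sub, Polynomial.map_X, Polynomial.map_C]
      rw [show Finset.univ.val.map (fun i => X - C (j (d i))) =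
          ((s : Multiset K).map j).map (fun x => X - C x) by
        rw [← hd, Multiset.map_map, Multiset.map_map]; rfl, roots_multiset_prod_X_sub_C]
  choose gs hgs1 hgs2 using hdiag
  let Ψ : Sym K n → ConjClasses (G ⧸ Subgroup.center G) := fun s =>
    if h : s ∈ μ.sym n then ConjClasses.mk (gs s h : G ⧸ Subgroup.center G) else ConjClasses.mk 1
  have hΨ : ∀ s (h : s ∈ μ.sym n), Ψ s = ConjClasses.mk (gs s h : G ⧸ Subgroup.center G) := fun s h => dif_pos h
  let tr : K → Sym K n → Sym K n := fun c s => s.map (· * c)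
  have htrμ : ∀ c ∈ μ, ∀ s ∈ μ.sym n, tr c s ∈ μ.sym n := fun c hc s hs => by
    refine Finset.mem_sym_iff.2 fun x hx => ?_
    obtain ⟨y, hy, rfl⟩ := Sym.mem_map.1 hx
    exact hμmul (Finset.mem_sym_iff.1 hs y hy) hc
  have hcoS : ∀ s h, (orderOf (gs s h)).Coprime p := fun s h => hco _ (by rw [hgs1 s h]; exact one_mem _)
  have hΨeq : ∀ s ∈ μ.sym n, ∀ t ∈ μ.sym n, Ψ s = Ψ t ↔ ∃ c ∈ μ, tr c s = t := by
    intro s hs t ht
    rw [hΨ s hs, hΨ t ht, mk_quot_center_eq_iff]
    constructor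
    · rintro ⟨z, hz, hconj⟩
      obtain ⟨a, ha⟩ := (center_GU_scalar hK hη (by omega) z).1 hz
      obtain rfl : z = Z a := Subtype.ext (Units.ext (ha.trans (hZ a).symm))
      have hr1 : (gs s hs * Z a) ^ r = 1 := by
        obtain ⟨c, hc⟩ := isConj_iff.1 hconj
        have h1 := hgs1 t ht
        rw [← hc, conj_pow, conj_eq_one_iff] at h1
        exact h1
      have hz1 : (Z a) ^ r = 1 := by
        rwa [Commute.mul_pow (Subgroup.mem_center_iff.1 (hZc a) _), hgs1 s hs, one_mul] at hr1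
      have hcμ : η ^ a ∈ μ := by
        have h0 : (Z a ^ r).1.1 = (η ^ a) ^ r • (1 : Matrix (Fin n) (Fin n) K) := by
          rw [SubmonoidClass.coe_pow, Units.val_pow_eq_pow_val, hZ, _root_.smul_pow, one_pow]
        rw [hz1] at h0
        have h1 := congrFun (congrFun h0 ⟨0, by omega⟩) ⟨0, by omega⟩
        rw [Matrix.smul_apply, Matrix.one_apply_eq, smul_eq_mul, mul_one] at h1
        exact hμ.2 (h1.symm.trans (Matrix.one_apply_eq _))
      refine ⟨_, hcμ, ?_⟩
      have he := (gu_isConj_iff (p := p) hK _ _ (hco _ (by rw [hr1]; exact one_mem _)) (hcoS t ht)).1 hconj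
      rw [heZ, hgs2 s hs, hgs2 t ht, Multiset.map_map] at he
      refine Sym.coe_injective (Multiset.map_injective j.injective ?_)
      rw [← he, Sym.coe_map, Multiset.map_map]
      exact Multiset.map_congr rfl fun x _ => by simp [mul_comm]
    · rintro ⟨c, hc, rfl⟩
      obtain ⟨a, -, rfl⟩ := hη.eq_pow_of_pow_eq_one (hμq hc)
      refine ⟨Z a, hZc a, (gu_isConj_iff (p := p) hK _ _ (hco _ ?_) (hcoS _ ht)).2 ?_⟩
      · rw [Commute.mul_pow (Subgroup.mem_center_iff.1 (hZc a) _), hgs1 s hs, one_mul]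
        exact Subgroup.pow_mem _ (hZc a) r
      · rw [heZ, hgs2 s hs, hgs2 _ ht, Sym.coe_map, Multiset.map_map, Multiset.map_map]
        exact Multiset.map_congr rfl fun x _ => by simp [mul_comm]
  have hclass1 : ∀ g : G, ConjClasses.mk (g : G ⧸ Subgroup.center G) = ConjClasses.mk 1 ↔ g ∈ Subgroup.center G := by
    intro g
    rw [ConjClasses.mk_eq_mk_iff_isConj, isConj_one_left, QuotientGroup.eq_one_iff]
  -- elements with `g ^ r = 1`
  have hone : ∀ g : G, g ^ r = 1 → ∃ s ∈ μ.sym n, Ψ s = ConjClasses.mk (g : G ⧸ Subgroup.center G) := by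
    intro g hg
    have hgc := hco g (by rw [hg]; exact one_mem _)
    have hroots := (gu_pow_eq_one_iff g hgc).1 hg
    obtain ⟨M, hM, hMμ⟩ : ∃ M : Multiset K, M.map j = eigen g ∧ ∀ x ∈ M, x ∈ μ := by
      have hk : ∀ x ∈ eigen g, ∃ y ∈ μ, j y = x := fun x hx => by
        obtain ⟨k, -, hk⟩ := (hζ.map_of_injective j.injective).eq_pow_of_pow_eq_one (hroots x hx)
        exact ⟨ζ ^ k, hμ.2 (by rw [← pow_mul, mul_comm, pow_mul, hζ.pow_eq_one, one_pow]), by rw [map_pow, hk]⟩
      choose y hy1 hy2 using hk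
      refine ⟨(eigen g).attach.map fun x => y x.1 x.2, ?_, fun x hx => ?_⟩
      · rw [Multiset.map_map]
        conv_rhs => rw [← Multiset.attach_map_val (eigen g)]
        exact Multiset.map_congr rfl fun x _ => hy2 x.1 x.2
      · obtain ⟨z, -, rfl⟩ := Multiset.mem_map.1 hx
        exact hy1 _ _
    have hMc : Multiset.card M = n := by rw [← Multiset.card_map j, hM, eigen_card]
    have hs : (⟨M, hMc⟩ : Sym K n) ∈ μ.sym n := Finset.mem_sym_iff.2 fun x hx => hMμ x hx
    refine ⟨_, hs, ?_⟩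
    rw [hΨ _ hs, ConjClasses.mk_eq_mk_iff_isConj]
    exact (QuotientGroup.mk' (Subgroup.center G)).map_isConj
      ((gu_isConj_iff (p := p) hK _ _ (hcoS _ hs) hgc).2 ((hgs2 _ hs).trans hM))
  -- constants, fixed multisets, the others
  let Sc : Finset (Sym K n) := μ.image (fun c => Sym.replicate n c)
  have hScT : Sc ⊆ μ.sym n := fun s hs => by
    obtain ⟨c, hc, rfl⟩ := Finset.mem_image.1 hs
    exact Finset.mem_sym_iff.2 fun x hx => (Sym.mem_replicate.1 hx).2 ▸ hc
  have hone' : Sym.replicate n (1 : K) ∈ μ.sym n := hScT (Finset.mem_image_of_mem _ (hμ.2 (one_pow r)))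
  have hconst : ∀ s ∈ μ.sym n, Ψ s = ConjClasses.mk 1 ↔ s ∈ Sc := by
    intro s hs
    have h1 : Ψ (Sym.replicate n (1 : K)) = ConjClasses.mk 1 := by
      rw [hΨ _ hone', hclass1]
      have : gs _ hone' = 1 := isConj_one_left.1 ((gu_isConj_iff (p := p) hK _ 1 (hcoS _ hone') (by simp)).2 (by
        rw [hgs2, eigen, show (1 : G).1.1 = 1 from rfl, Matrix.charpoly_one, Fintype.card_fin,
          Sym.coe_replicate, Multiset.map_replicate, map_one, aroots_def, Polynomial.map_pow,
          Polynomial.map_sub, Polynomial.map_X, Polynomial.map_one, roots_pow, ← C_1, roots_X_sub_C,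
          Multiset.nsmul_singleton]))
      rw [this]; exact one_mem _
    rw [← h1, eq_comm, hΨeq _ hone' s hs]
    refine ⟨fun ⟨c, hc, e⟩ => Finset.mem_image.2 ⟨c, hc, ?_⟩, fun h => ?_⟩
    · rw [← e]; exact Sym.coe_injective (by simp [tr, Sym.coe_map, Sym.coe_replicate, Multiset.map_replicate])
    · obtain ⟨c, hc, rfl⟩ := Finset.mem_image.1 h
      exact ⟨c, hc, Sym.coe_injective (by simp [tr, Sym.coe_map, Sym.coe_replicate, Multiset.map_replicate])⟩
  let Fx : Finset (Sym K n) := (μ.sym n).filter fun s => tr ζ s = s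
  let Sn : Finset (Sym K n) := (μ.sym n \ Sc) \ Fx
  have hcount : ∀ s ∈ Fx, ∀ x ∈ μ, (s : Multiset K).count x = (s : Multiset K).count 1 := by
    intro s hs x hx
    obtain ⟨k, -, rfl⟩ := hζ.eq_pow_of_pow_eq_one (hμ.1 hx)
    have h := count_eq_of_rot (hμ0 hζμ) (congrArg (fun t : Sym K n => (t : Multiset K)) (Finset.mem_filter.1 hs).2) 1 k
    rwa [one_mul] at h
  have hFxn : ∀ s ∈ Fx, (s : Multiset K).count 1 * r = n := by
    intro s hs
    calc (s : Multiset K).count 1 * r = ∑ x ∈ μ, (s : Multiset K).count x := by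
          rw [Finset.sum_const_nat (fun x hx => hcount s hs x hx), hμc, mul_comm]
      _ = n := by
          rw [Multiset.sum_count_eq_card (show ∀ x ∈ (s : Multiset K), x ∈ μ from fun x hx =>
            Finset.mem_sym_iff.1 (Finset.mem_filter.1 hs).1 x hx), Sym.card_coe]
  have hFxcard : Fx.card = if r ∣ n then 1 else 0 := by
    split_ifs with hrn
    · refine Finset.card_eq_one.2 ?_
      have hUc : Multiset.card ((n / r) • μ.val) = n := by
        rw [Multiset.card_nsmul, ← Finset.card_def, hμc, Nat.div_mul_cancel hrn]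
      refine ⟨⟨_, hUc⟩, Finset.eq_singleton_iff_unique_mem.2 ⟨Finset.mem_filter.2 ⟨Finset.mem_sym_iff.2 fun x hx =>
        (Multiset.mem_of_mem_nsmul hx), Sym.coe_injective ?_⟩, fun s hs => Sym.coe_injective (Multiset.ext.2 fun x => ?_)⟩⟩
      · show ((n / r) • μ.val).map (· * ζ) = (n / r) • μ.val
        rw [Multiset.map_nsmul, ← Finset.image_val_of_injOn (mul_left_injective₀ (hμ0 hζμ)).injOn]
        congr 2
        exact Finset.eq_of_subset_of_card_le
          (fun y hy => by obtain ⟨z, hz, rfl⟩ := Finset.mem_image.1 hy; exact hμmul hz hζμ)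
          (by rw [Finset.card_image_of_injective _ (mul_left_injective₀ (hμ0 hζμ))])
      · show (s : Multiset K).count x = ((n / r) • μ.val).count x
        rw [Multiset.count_nsmul]
        by_cases hx : x ∈ μ
        · rw [hcount s hs x hx, Multiset.count_eq_one_of_mem μ.nodup hx, mul_one]
          exact ((Nat.div_eq_of_eq_mul_left hr.pos (hFxn s hs).symm)).symm
        · rw [Multiset.count_eq_zero_of_notMem (show x ∉ μ.val from hx), mul_zero,
            Multiset.count_eq_zero_of_notMem (show x ∉ (s : Multiset K) from fun h =>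
              hx (Finset.mem_sym_iff.1 (Finset.mem_filter.1 hs).1 x h))]
    · exact Finset.card_eq_zero.2 (Finset.eq_empty_of_forall_notMem fun s hs =>
        hrn (Dvd.intro_left _ (hFxn s hs)))
  have hFxSc : Fx ⊆ μ.sym n \ Sc := fun s hs => Finset.mem_sdiff.2 ⟨(Finset.mem_filter.1 hs).1, fun h => by
    obtain ⟨c, hc, rfl⟩ := Finset.mem_image.1 h
    have h1 := (Finset.mem_filter.1 hs).2
    have h2 : c * ζ ∈ (Sym.replicate n c : Sym K n) := by
      rw [← h1]; exact Sym.mem_map.2 ⟨c, Sym.mem_replicate.2 ⟨by omega, rfl⟩, rfl⟩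
    exact hζ.ne_one hr.one_lt (mul_left_cancel₀ (hμ0 hc) ((Sym.mem_replicate.1 h2).2.trans (mul_one c).symm))⟩
  have hTc : (μ.sym n).card = Nat.choose (n + r - 1) (r - 1) := by
    rw [show μ.sym n = (Finset.univ : Finset (Sym {x // x ∈ μ} n)).image (Sym.map Subtype.val) by
        ext t
        rw [Finset.mem_sym_iff, Finset.mem_image]
        constructor
        · intro ht
          refine ⟨t.attach.map (fun x => ⟨x.1, ht x.1 x.2⟩), Finset.mem_univ _, ?_⟩
          rw [Sym.map_map]
          exact Sym.attach_map_coe t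
        · rintro ⟨u, -, rfl⟩ x hx
          obtain ⟨y, -, rfl⟩ := Sym.mem_map.1 hx
          exact y.2,
      Finset.card_image_of_injective _ (Sym.map_injective Subtype.val_injective n), Finset.card_univ,
      Sym.card_sym_eq_multichoose, Fintype.card_coe, hμc, Nat.multichoose_eq, show r + n - 1 = n + r - 1 by omega,
      ← Nat.choose_symm (show n ≤ n + r - 1 by have := hr.pos; omega), show n + r - 1 - n = r - 1 by omega]
  have hScc : Sc.card = r := by
    rw [Finset.card_image_of_injective _ (Sym.replicate_right_injective (by omega)), hμc]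
  have hSnc : Sn.card = Nat.choose (n + r - 1) (r - 1) - r - (if r ∣ n then 1 else 0) := by
    rw [Finset.card_sdiff_of_subset hFxSc, Finset.card_sdiff_of_subset hScT, hTc, hScc, hFxcard]
  -- each free orbit has r members
  have horbit : ∀ s ∈ Sn, Sn.filter (fun t => Ψ t = Ψ s) = μ.image (fun c => tr c s) ∧
      (μ.image (fun c => tr c s)).card = r := by
    intro s hs
    obtain ⟨hs1, hsF⟩ := Finset.mem_sdiff.1 hs
    obtain ⟨hsT, hsc⟩ := Finset.mem_sdiff.1 hs1
    have hnf : tr ζ s ≠ s := fun e => hsF (Finset.mem_filter.2 ⟨hsT, e⟩)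
    have htt : ∀ c d : K, tr d (tr c s) = tr (c * d) s := fun c d =>
      Sym.coe_injective (by simp [tr, mul_assoc])
    constructor
    · ext t
      rw [Finset.mem_filter, Finset.mem_image]
      constructor
      · rintro ⟨ht, he⟩
        exact (hΨeq s hsT t (Finset.mem_sdiff.1 (Finset.mem_sdiff.1 ht).1).1).1 he.symm
      · rintro ⟨c, hc, rfl⟩
        have htT := htrμ c hc s hsT
        have he := (hΨeq s hsT _ htT).2 ⟨c, hc, rfl⟩
        refine ⟨Finset.mem_sdiff.2 ⟨Finset.mem_sdiff.2 ⟨htT, fun h => hsc ((hconst s hsT).1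
          (he.trans ((hconst _ htT).2 h)))⟩, fun h => hnf ?_⟩, he.symm⟩
        have h1 := (Finset.mem_filter.1 h).2
        rw [htt, mul_comm, ← htt] at h1
        have h2 := congrArg (tr c⁻¹) h1
        rwa [show tr c⁻¹ (tr c (tr ζ s)) = tr ζ s from Sym.coe_injective (by
            simp [tr, mul_assoc, mul_inv_cancel₀ (hμ0 hc)]),
          show tr c⁻¹ (tr c s) = s from Sym.coe_injective (by simp [tr, mul_assoc, mul_inv_cancel₀ (hμ0 hc)])] at h2
    · rw [Finset.card_image_of_injOn, hμc]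
      intro c hc d hd e
      by_contra hne
      have hw : c * d⁻¹ ∈ μ := by
        rw [hμ, mul_pow, inv_pow, hμ.1 hc, hμ.1 hd]; simp
      have hw1 : c * d⁻¹ ≠ 1 := fun h => hne (by
        have := congrArg (· * d) h; simpa [mul_assoc, inv_mul_cancel₀ (hμ0 hd)] using this)
      have hwfix : tr (c * d⁻¹) s = s := by
        rw [← htt]; show tr d⁻¹ (tr c s) = s
        rw [show tr c s = tr d s from e, htt, mul_inv_cancel₀ (hμ0 hd)]
        exact Sym.coe_injective (by simp [tr])
      obtain ⟨k, -, hk⟩ := (IsPrimitiveRoot.iff_orderOf.2 (orderOf_eq_prime (hμ.1 hw) hw1)).eq_pow_of_pow_eq_one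
        hζ.pow_eq_one
      refine hnf ?_
      rw [← hk]
      clear hk
      induction k with
      | zero => exact Sym.coe_injective (by simp [tr])
      | succ k ih => rw [pow_succ, ← htt, ih, hwfix]
  have himgSn : Sn.card = (Sn.image Ψ).card * r := by
    rw [Finset.card_eq_sum_card_image Ψ Sn]
    refine Finset.sum_const_nat fun C hC => ?_
    obtain ⟨s, hs, rfl⟩ := Finset.mem_image.1 hC
    rw [(horbit s hs).1, (horbit s hs).2]
  -- elements with `g ^ r` a non-power
  let A : Finset ℕ := if r ∣ n then Finset.Icc 1 (r - 1) else ∅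
  have hA : ∀ a ∈ A, r ∣ n ∧ 1 ≤ a ∧ a < r := fun a ha => by
    simp only [A] at ha
    split_ifs at ha with hrn
    · rw [Finset.mem_Icc] at ha; have := hr.pos; exact ⟨hrn, ha.1, by omega⟩
    · simp at ha
  have hns : ∀ a ∈ A, ∃ g : G, g ^ r = Z a := fun a ha => by
    obtain ⟨k, rfl⟩ := (hA a ha).1
    obtain ⟨g, hg⟩ := exists_pow_eq_scalar (k := k) hK (η ^ a)
      (by rw [← pow_mul, mul_comm, pow_mul, hη.pow_eq_one, one_pow]) hr.pos
    exact ⟨g, Subtype.ext (Units.ext (by rw [SubmonoidClass.coe_pow, Units.val_pow_eq_pow_val, hg, hZ]))⟩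
  choose hn' hhn' using hns
  let ψ : ℕ → ConjClasses (G ⧸ Subgroup.center G) := fun a =>
    if h : a ∈ A then ConjClasses.mk (hn' a h : G ⧸ Subgroup.center G) else ConjClasses.mk 1
  have hψ : ∀ a (h : a ∈ A), ψ a = ConjClasses.mk (hn' a h : G ⧸ Subgroup.center G) := fun a h => dif_pos h
  have hZr : ∀ a b, Z a = Z b → a % r = b % r := fun a b e => by
    have h1 : η ^ a = η ^ b := by simpa [hZ] using congrArg (fun x : G => x.1.1 ⟨0, by omega⟩ ⟨0, by omega⟩) e
    rw [(hη.isOfFinOrder (Nat.succ_ne_zero q)).pow_eq_pow_iff_modEq, ← hη.eq_orderOf] at h1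
    exact h1.of_dvd hrq
  have hZmul : ∀ a b, Z a * Z b = Z (a + b) := fun a b => Subtype.ext (Units.ext (by
    rw [hmulZ, hZ, hZ, smul_smul, pow_add, mul_comm]))
  have hZpow : ∀ a k, Z a ^ k = Z (a * k) := fun a k => Subtype.ext (Units.ext (by
    rw [SubmonoidClass.coe_pow, Units.val_pow_eq_pow_val, hZ, hZ, _root_.smul_pow, one_pow, pow_mul]))
  -- the invariant `g ^ r` modulo r-th powers
  have hinv : ∀ g h : G, ∀ a b, g ^ r = Z a → h ^ r = Z b →
      ConjClasses.mk (g : G ⧸ Subgroup.center G) = ConjClasses.mk (h : G ⧸ Subgroup.center G) → a % r = b % r := by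
    intro g h a b hg hh e
    obtain ⟨z, hz, hconj⟩ := (mk_quot_center_eq_iff g h).1 e
    obtain ⟨k, hk⟩ := (center_GU_scalar hK hη (by omega) z).1 hz
    obtain rfl : z = Z k := Subtype.ext (Units.ext (hk.trans (hZ k).symm))
    obtain ⟨c, hc⟩ := isConj_iff.1 hconj
    have h1 : h ^ r = Z (a + k * r) := by
      rw [← hc, conj_pow, Commute.mul_pow (Subgroup.mem_center_iff.1 (hZc k) g), hg, hZpow, hZmul,
        Subgroup.mem_center_iff.1 (hZc _) c, mul_inv_cancel_right]
    have h2 := hZr _ _ (hh.symm.trans h1)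
    rw [h2, Nat.add_mul_mod_self_right]
  have hψinj : Set.InjOn ψ ↑A := fun a ha b hb e => by
    rw [hψ a ha, hψ b hb] at e
    have h1 := hinv _ _ a b (hhn' a ha) (hhn' b hb) e
    rwa [Nat.mod_eq_of_lt (hA a ha).2.2, Nat.mod_eq_of_lt (hA b hb).2.2] at h1
  have hordr : ∀ g : G, g ^ r ∈ Subgroup.center G → g ∉ Subgroup.center G →
      orderOf (g : G ⧸ Subgroup.center G) = r := fun g h1 h2 =>
    orderOf_eq_prime (by rw [← QuotientGroup.mk_pow, QuotientGroup.eq_one_iff]; exact h1)
      (by rwa [Ne, QuotientGroup.eq_one_iff])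
  let Cl : Finset (ConjClasses (G ⧸ Subgroup.center G)) := (Sn.image Ψ ∪ Fx.image Ψ) ∪ A.image ψ
  have hall : ∀ C, (∃ g : G ⧸ Subgroup.center G, ConjClasses.mk g = C ∧ orderOf g = r) ↔ C ∈ Cl := by
    intro C
    constructor
    · rintro ⟨g, rfl, hg⟩
      obtain ⟨g, rfl⟩ := QuotientGroup.mk_surjective g
      have hgz : g ^ r ∈ Subgroup.center G := by
        rw [← QuotientGroup.eq_one_iff, QuotientGroup.mk_pow, ← hg]; exact pow_orderOf_eq_one _
      have hgnz : g ∉ Subgroup.center G := fun h => by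
        rw [(QuotientGroup.eq_one_iff g).2 h, orderOf_one] at hg; exact hr.one_lt.ne hg
      obtain ⟨b, hb⟩ := (center_GU_scalar hK hη (by omega) _).1 hgz
      have hgb : g ^ r = Z b := Subtype.ext (Units.ext (hb.trans (hZ b).symm))
      set g' := g * Z (b / r * q) with hg'
      have hg'r : g' ^ r = Z (b % r) := by
        rw [hg', Commute.mul_pow (Subgroup.mem_center_iff.1 (hZc _) g), hgb, hZpow, hZmul]
        refine Subtype.ext (Units.ext ?_)
        rw [hZ, hZ]
        congr 1
        rw [show b + b / r * q * r = b % r + (q + 1) * (r * (b / r)) by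
          nth_rewrite 1 [← Nat.mod_add_div b r]; ring, pow_add, pow_mul, hη.pow_eq_one, one_pow, mul_one]
      have hmk : ConjClasses.mk (g' : G ⧸ Subgroup.center G) = ConjClasses.mk (g : G ⧸ Subgroup.center G) := by
        congr 1
        rw [hg', QuotientGroup.mk_mul, (QuotientGroup.eq_one_iff _).2 (hZc _), mul_one]
      rcases Nat.eq_zero_or_pos (b % r) with hb0 | hb0
      · have hg'1 : g' ^ r = 1 := by
          rw [hg'r, hb0]
          exact Subtype.ext (Units.ext (by rw [hZ, pow_zero, one_smul]; rfl))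
        obtain ⟨s, hs, hsC⟩ := hone g' hg'1
        have hsc : s ∉ Sc := fun h => hgnz (by
          rw [← hclass1, ← hmk, ← hsC]; exact (hconst s hs).2 h)
        refine Finset.mem_union_left _ ?_
        by_cases hf : s ∈ Fx
        · exact Finset.mem_union_right _ (Finset.mem_image.2 ⟨s, hf, hsC.trans hmk⟩)
        · exact Finset.mem_union_left _ (Finset.mem_image.2
            ⟨s, Finset.mem_sdiff.2 ⟨Finset.mem_sdiff.2 ⟨hs, hsc⟩, hf⟩, hsC.trans hmk⟩)
      · have hbr : b % r < r := Nat.mod_lt _ hr.pos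
        have hc1 : (η ^ (b % r)) ^ (q + 1) = 1 := by rw [← pow_mul, mul_comm, pow_mul, hη.pow_eq_one, one_pow]
        have hcnp : ∀ y : K, y ^ (q + 1) = 1 → y ^ r ≠ η ^ (b % r) := fun y hy e => by
          obtain ⟨k, -, rfl⟩ := hη.eq_pow_of_pow_eq_one hy
          rw [← pow_mul, (hη.isOfFinOrder (Nat.succ_ne_zero q)).pow_eq_pow_iff_modEq, ← hη.eq_orderOf] at e
          have h1 : k * r % r = b % r % r := e.of_dvd hrq
          rw [Nat.mul_mod_left, Nat.mod_mod] at h1
          omega
        have hmat : ∀ x : G, x ^ r = Z (b % r) → x.1.1 ^ r = η ^ (b % r) • (1 : Matrix (Fin n) (Fin n) K) :=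
          fun x hx => by rw [← Units.val_pow_eq_pow_val, ← SubmonoidClass.coe_pow, hx, hZ]
        obtain ⟨hrn, he⟩ := eigen_nonsplit hK hη (by omega) hr hrq hc1 hcnp g' (hmat _ hg'r)
        have haA : b % r ∈ A := by
          simp only [A, if_pos hrn, Finset.mem_Icc]
          omega
        refine Finset.mem_union_right _ (Finset.mem_image.2 ⟨_, haA, ?_⟩)
        rw [hψ _ haA, ← hmk, ConjClasses.mk_eq_mk_iff_isConj]
        exact (QuotientGroup.mk' (Subgroup.center G)).map_isConj ((gu_isConj_iff (p := p) hK _ _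
          (hco _ (by rw [hhn' _ haA]; exact hZc _)) (hco _ (by rw [hg'r]; exact hZc _))).2
          ((eigen_nonsplit hK hη (by omega) hr hrq hc1 hcnp _ (hmat _ (hhn' _ haA))).2.trans he.symm))
    · intro hC
      rcases Finset.mem_union.1 hC with hC | hC
      · obtain ⟨s, hs, rfl⟩ : ∃ s ∈ μ.sym n \ Sc, Ψ s = C := by
          rcases Finset.mem_union.1 hC with hC | hC <;> obtain ⟨s, hs, rfl⟩ := Finset.mem_image.1 hC
          · exact ⟨s, (Finset.mem_sdiff.1 hs).1, rfl⟩
          · exact ⟨s, hFxSc hs, rfl⟩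
        obtain ⟨hsT, hsc⟩ := Finset.mem_sdiff.1 hs
        refine ⟨(gs s hsT : G ⧸ Subgroup.center G), (hΨ s hsT).symm, hordr _ (by rw [hgs1 s hsT]; exact one_mem _)
          fun h => hsc ((hconst s hsT).1 (by rw [hΨ s hsT]; exact (hclass1 _).2 h))⟩
      · obtain ⟨a, ha, rfl⟩ := Finset.mem_image.1 hC
        refine ⟨(hn' a ha : G ⧸ Subgroup.center G), (hψ a ha).symm, hordr _ (by rw [hhn']; exact hZc a) fun h => ?_⟩
        obtain ⟨k, hk⟩ := (center_GU_scalar hK hη (by omega) _).1 h
        have h1 : hn' a ha = Z k := Subtype.ext (Units.ext (hk.trans (hZ k).symm))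
        have h2 := hhn' a ha
        rw [h1, hZpow] at h2
        have h3 := hZr _ _ h2
        rw [Nat.mul_mod_left, Nat.mod_eq_of_lt (hA a ha).2.2] at h3
        have := (hA a ha).2.1
        omega
  rw [Nat.card_congr (Equiv.subtypeEquivRight hall), Nat.card_eq_finsetCard]
  have hd1 : Disjoint (Sn.image Ψ ∪ Fx.image Ψ) (A.image ψ) := by
    refine Finset.disjoint_left.2 fun C h1 h2 => ?_
    obtain ⟨a, ha, rfl⟩ := Finset.mem_image.1 h2
    obtain ⟨s, hs, hse⟩ : ∃ s ∈ μ.sym n, Ψ s = ψ a := by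
      rcases Finset.mem_union.1 h1 with h | h <;> obtain ⟨s, hs, hse⟩ := Finset.mem_image.1 h
      · exact ⟨s, (Finset.mem_sdiff.1 (Finset.mem_sdiff.1 hs).1).1, hse⟩
      · exact ⟨s, (Finset.mem_filter.1 hs).1, hse⟩
    rw [hΨ s hs, hψ a ha] at hse
    have h3 := hinv _ _ 0 a ((hgs1 s hs).trans (Subtype.ext (Units.ext (by rw [hZ, pow_zero, one_smul]; rfl))))
      (hhn' a ha) hse
    rw [Nat.zero_mod, Nat.mod_eq_of_lt (hA a ha).2.2] at h3
    have := (hA a ha).2.1
    omega
  have hd2 : Disjoint (Sn.image Ψ) (Fx.image Ψ) := by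
    refine Finset.disjoint_left.2 fun C h1 h2 => ?_
    obtain ⟨s, hs, rfl⟩ := Finset.mem_image.1 h1
    obtain ⟨t, ht, hte⟩ := Finset.mem_image.1 h2
    have hsT := (Finset.mem_sdiff.1 (Finset.mem_sdiff.1 hs).1).1
    obtain ⟨c, hc, hct⟩ := (hΨeq s hsT t (Finset.mem_filter.1 ht).1).1 hte.symm
    have hmem : t ∈ Sn := by
      rw [← hct]
      exact (Finset.mem_filter.1 ((horbit s hs).1.symm ▸ Finset.mem_image_of_mem (fun c => tr c s) hc)).1
    exact (Finset.mem_sdiff.1 hmem).2 ht
  rw [Finset.card_union_of_disjoint hd1, Finset.card_union_of_disjoint hd2, Finset.card_image_of_injOn hψinj,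
    Finset.card_image_of_injOn (fun s hs t ht _ => Finset.card_le_one.1 (hFxcard.trans_le (by split_ifs <;> simp)) s hs t ht),
    hFxcard, ← hSnc, himgSn, Nat.mul_div_cancel _ hr.pos]
  simp only [A]
  have := hr.pos
  split_ifs <;> simp <;> omega

end Cfsg.Agent.S2672
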