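import Cfsg.Statements.S2673
import Cfsg.Agent.Lib.Elem70.ClassCount.OrthArith
import Cfsg.Agent.Lib.OrthStd.Models
-- import your own Cfsg.Agent.* helpers here

set_option autoImplicit false
open Cfsg

namespace Cfsg.Agent.S2673

open Polynomial Cfsg.Agent.Lib.Forms Cfsg.Agent.Lib.Elem70.ClassCount

/-- Number of conjugacy classes of elements of odd prime order r ≠ p in the orthogonal group O_(2m+1)(q) of x_0² + Σ x_j y_j, q odd: with i the multiplicative order of q mod r and t = (r − 1)/i, there are C(⌊m/i⌋ + t/2, t/2) − 1 classes if i is odd (dual pairs of totally singular i-blocks) and C(⌊(2m+1)/i⌋ + t, t) − 1 if i is even (elliptic i-blocks). -/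
theorem result {F : Type*} [Field F] [Fintype F] {p q : ℕ} [Fact p.Prime] [CharP F p] (hF : Fintype.card F = q) (hq : Odd q) (m r i t : ℕ) (hr : r.Prime) (hr2 : r ≠ 2) (hrp : r ≠ p) (hi : i = orderOf (q : ZMod r)) (ht : t * i = r - 1) : Nat.card {C : ConjClasses ↥(Cfsg.isometryGroup F (Cfsg.quadFormOdd m F)) // ∃ g : ↥(Cfsg.isometryGroup F (Cfsg.quadFormOdd m F)), ConjClasses.mk g = C ∧ orderOf g = r} = if Odd i then Nat.choose (m / i + t / 2) (t / 2) - 1 else Nat.choose ((2 * m + 1) / i + t) t - 1 := by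
  classical
  haveI := Fact.mk hr
  have hcard : Nat.card F = q := by rw [Nat.card_eq_fintype_card, hF]
  have h2 : (2 : F) ≠ 0 := by
    intro h
    haveI : CharP F 2 := CharTwo.of_one_ne_zero_of_two_eq_zero one_ne_zero h
    obtain ⟨k, -, hk⟩ := FiniteField.card F 2
    rw [hF] at hk
    rw [hk, Nat.odd_pow_iff k.ne_zero] at hq
    exact absurd hq (by decide)
  let Q := Lib.OrthStd.qOddC m F
  have hQ : Nondeg Q :=
    (prod_nondeg (qPlus_nondeg m) (qOne_nondeg one_ne_zero h2)).of_equiv (Lib.OrthStd.oddIso m F).symm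
  obtain ⟨d, s, hd, hs, hds, hadm⟩ := exists_ds (F := F) (p := p) hcard hr hr2 hrp hi ht
  rw [card_classes_congr (isoOrth Q (Lib.OrthStd.quadFormOdd_eq m)) r,
    card_orth_classes (p := p) (m := m) (e := 1) hQ hr hr2 hrp (by simp; omega) le_rfl (fun _ => h2) True
      (fun _ h => absurd h one_ne_zero) (fun h => absurd trivial h)]
  have hall : {h ∈ Adm F r m | True ∨ h.eval 2 = 0} = Adm F r m :=
    Set.ext fun h => ⟨fun hh => hh.1, fun hh => ⟨hh, Or.inl trivial⟩⟩
  rw [hall, hadm]
  split_ifs at hds ⊢ with ho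
  · rw [hds.1, hds.2]
  · rw [hds.1, hds.2, ← Nat.div_div_eq_div_mul, show (2 * m + 1) / 2 = m by omega]

end Cfsg.Agent.S2673
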