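import Cfsg.Statements.S2675
import Cfsg.Agent.Lib.Elem70.ClassCount.OrthArith
import Cfsg.Agent.Lib.OrthStd.Models
-- import your own Cfsg.Agent.* helpers here

set_option autoImplicit false
open Cfsg

namespace Cfsg.Agent.S2675

open Polynomial Cfsg.Agent.Lib.Forms Cfsg.Agent.Lib.Elem70.ClassCount

/-- Number of conjugacy classes of elements of odd prime order r ≠ p in the orthogonal group O⁻_2m(q) of an elliptic form Σ_(j<m−1) x_j y_j + z₁² + a z₁z₂ + c z₂² (binary part anisotropic, m ≥ 1): with i the multiplicative order of q mod r and t = (r − 1)/i — if i is odd, C(⌊m/i⌋ + t/2, t/2) − 1 minus, when i divides m, the C(m/i + t/2 − 1, t/2 − 1) tuples filling the whole space (dual pairs of totally singular blocks fill a hyperbolic space); if i is even, C(⌊2m/i⌋ + t, t) − 1 minus, when i divides 2m with even quotient, the C(2m/i + t − 1, t − 1) tuples filling the whole space with an even number of elliptic blocks. -/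
theorem result {F : Type*} [Field F] [Fintype F] {p q : ℕ} [Fact p.Prime] [CharP F p] (hF : Fintype.card F = q) (m r i t : ℕ) (hm : 1 ≤ m) (a c : F) (hac : ∀ z₁ z₂ : F, z₁ ^ 2 + a * z₁ * z₂ + c * z₂ ^ 2 = 0 → z₁ = 0 ∧ z₂ = 0) (hr : r.Prime) (hr2 : r ≠ 2) (hrp : r ≠ p) (hi : i = orderOf (q : ZMod r)) (ht : t * i = r - 1) : Nat.card {C : ConjClasses ↥(Cfsg.isometryGroup F (Cfsg.quadFormMinus (m - 1) F a c)) // ∃ g : ↥(Cfsg.isometryGroup F (Cfsg.quadFormMinus (m - 1) F a c)), ConjClasses.mk g = C ∧ orderOf g = r} = if Odd i then Nat.choose (m / i + t / 2) (t / 2) - 1 - (if i ∣ m then Nat.choose (m / i + t / 2 - 1) (t / 2 - 1) else 0) else Nat.choose (2 * m / i + t) t - 1 - (if i ∣ 2 * m ∧ Even (2 * m / i) then Nat.choose (2 * m / i + t - 1) (t - 1) else 0) := by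
  classical
  haveI := Fact.mk hr
  have hcard : Nat.card F = q := by rw [Nat.card_eq_fintype_card, hF]
  obtain ⟨d, s, hd, hs, hds, hadm⟩ := exists_ds (F := F) (p := p) hcard hr hr2 hrp hi ht
  obtain ⟨k, rfl⟩ : ∃ k, m = k + 1 := ⟨m - 1, by omega⟩
  have hsg := hasSign_minus (F := F) k hac
  rw [Nat.add_sub_cancel,
    card_classes_congr (isoOrth (qMinus k a c) (fun v => (qMinus_apply k a c v).symm)) r,
    card_orth_classes (p := p) (m := k + 1) (e := 0) (qMinus_nondeg k hac) hr hr2 hrp (by simp; omega) zero_le_one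
      (fun h => absurd h zero_ne_one) (((q : ZMod r)) ^ (k + 1) = -1)
      (fun h _ ε hε => by rw [hcard, h, hε.eq hsg, Int.cast_neg, Int.cast_one])
      (fun h => ⟨rfl, -1, hsg, by rw [hcard, Int.cast_neg, Int.cast_one]; exact h⟩),
    card_good hd hs hm hadm]
  split_ifs at hds with ho
  · have hc : (¬ ((q : ZMod r)) ^ (k + 1) = -1 ∧ d ∣ k + 1) ↔ i ∣ k + 1 := by
      rw [hds.1]; exact and_iff_right (pow_cases_odd hr2 hi ho).2
    rw [if_pos ho, if_congr hc rfl rfl, ← hds.1, hds.2, Nat.sub_right_comm]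
  · obtain ⟨hid, hts⟩ := hds
    rw [if_neg ho, hts, hid, Nat.mul_div_mul_left _ _ (by norm_num : 0 < 2)]
    have hc : (¬ ((q : ZMod r)) ^ (k + 1) = -1 ∧ d ∣ k + 1) ↔ (2 * d ∣ 2 * (k + 1) ∧ Even ((k + 1) / d)) := by
      rw [Nat.mul_dvd_mul_iff_left (by norm_num : 0 < 2), (pow_cases_even hr2 hi hid hd).2, ← Nat.not_even_iff_odd]
      tauto
    rw [if_congr hc rfl rfl, Nat.sub_right_comm]

end Cfsg.Agent.S2675
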