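import Cfsg.Statements.S2676
import Cfsg.Agent.Lib.ClassesSpUni12.Unipotent

set_option autoImplicit false
open Classical
open Cfsg

namespace Cfsg.Agent.S2676

open Cfsg.Agent.Lib.ClassesSp

theorem card_idx (r : ℕ → ℕ) (N : ℕ) :
    Fintype.card (Idx r N) = ∑ e ∈ Finset.range (N + 1), r e * e := by
  simp only [Idx, Blk, Fintype.card_sigma, Fintype.card_fin]
  rw [Fintype.sum_sigma, ← Fin.sum_univ_eq_sum_range (fun e => r e * e)]
  exact Finset.sum_congr rfl fun j _ => by simp

theorem result {F : Type*} [Field F] [Fintype F] {p : ℕ} [Fact p.Prime] [CharP F p] (hp : p ≠ 2) (m : ℕ) : Nat.card {C : ConjClasses ↥(Matrix.symplecticGroup (Fin m) F) // ∃ g : Matrix.symplecticGroup (Fin m) F, ConjClasses.mk g = C ∧ orderOf g = p} = (∑ μ ∈ Finset.univ.filter (fun μ : Nat.Partition (2 * m) => (∀ a ∈ μ.parts, a ≤ p) ∧ ∀ j : ℕ, Odd j → Even (μ.parts.count j)), 2 ^ ((μ.parts.toFinset.filter (fun j : ℕ => Even j)).card)) - 1 := by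
  classical
  have hpp := (Fact.out : p.Prime)
  have h2 : (2 : F) ≠ 0 := Ring.two_ne_zero (by rwa [ringChar.eq F p])
  obtain ⟨α, hα⟩ := FiniteField.exists_nonsquare (F := F) fun h => h2 (by
    have := ringChar.Nat.cast_ringChar (R := F)
    rw [h] at this; exact_mod_cast this)
  have hα0 : α ≠ 0 := fun h => hα (h ▸ IsSquare.zero)
  let evens : Nat.Partition (2 * m) → Finset ℕ := fun μ => μ.parts.toFinset.filter (fun j : ℕ => Even j)
  let good : Finset (Nat.Partition (2 * m)) := Finset.univ.filter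
    (fun μ : Nat.Partition (2 * m) => (∀ a ∈ μ.parts, a ≤ p) ∧ ∀ j : ℕ, Odd j → Even (μ.parts.count j))
  let Cd : Finset ((_ : Nat.Partition (2 * m)) × Finset ℕ) := good.sigma fun μ => (evens μ).powerset
  have hCd : Cd.card = ∑ μ ∈ good, 2 ^ (evens μ).card := by
    rw [Finset.card_sigma]
    exact Finset.sum_congr rfl fun μ _ => Finset.card_powerset _
  let G := Matrix.symplecticGroup (Fin m) F
  haveI : Finite G :=
    Finite.of_injective (fun z => (z : Matrix (Fin m ⊕ Fin m) (Fin m ⊕ Fin m) F)) Subtype.val_injective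
  haveI : Finite (ConjClasses G) := Finite.of_surjective ConjClasses.mk ConjClasses.mk_surjective
  let rr : Nat.Partition (2 * m) → ℕ → ℕ := fun μ e => μ.parts.count e
  let ss : Finset ℕ → ℕ → Bool := fun S e => decide (e ∈ S)
  have hexists : ∀ c : Cd, ∃ x : G, x ^ p = 1 ∧ UHasCode α p x (rr c.1.1) (ss c.1.2) := by
    rintro ⟨⟨μ, S⟩, hc⟩
    obtain ⟨hμ, hS⟩ := Finset.mem_sigma.1 hc
    obtain ⟨hle, hpar⟩ := (Finset.mem_filter.1 hμ).2
    rw [Finset.mem_powerset] at hS
    refine exists_uElement h2 hα0 (fun e he => ?_) hpar (fun e he => ?_) ?_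
    · have hmem : e ∈ μ.parts := Multiset.count_ne_zero.1 he
      exact ⟨μ.parts_pos hmem, hle e hmem⟩
    · obtain ⟨h1, h3⟩ := Finset.mem_filter.1 (hS (of_decide_eq_true he))
      exact ⟨h3, Multiset.count_pos.2 (Multiset.mem_toFinset.1 h1)⟩
    · rw [card_idx]
      have h := Finset.sum_multiset_count μ.parts
      rw [μ.parts_sum, Finset.sum_subset (s₂ := Finset.range (p + 1))
        (fun e he => Finset.mem_range.2 (Nat.lt_succ_of_le (hle e (Multiset.mem_toFinset.1 he))))
        (fun e _ he => by rw [Multiset.count_eq_zero.2 fun h => he (Multiset.mem_toFinset.2 h), zero_smul])] at h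
      simp only [smul_eq_mul] at h
      exact h.symm.trans (two_mul m)
  choose rep hrep1 hrep2 using hexists
  let T := {C : ConjClasses G // ∃ g, ConjClasses.mk g = C ∧ g ^ p = 1}
  let Φ : Cd → T := fun c => ⟨ConjClasses.mk (rep c), rep c, rfl, hrep1 c⟩
  have hbij : Function.Bijective Φ := by
    constructor
    · rintro c d h
      obtain ⟨z, hz⟩ := isConj_iff.1 (ConjClasses.mk_eq_mk_iff_isConj.1 (congrArg Subtype.val h))
      obtain ⟨hr, hs⟩ := uCode_unique h2 hα (hrep1 d) (hz ▸ (hrep2 c).conj) (hrep2 d)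
      obtain ⟨⟨μ, S⟩, hc⟩ := c
      obtain ⟨⟨ν, S'⟩, hd⟩ := d
      refine Subtype.ext ?_
      obtain rfl : μ = ν := Nat.Partition.ext (Multiset.ext' fun e => congrFun hr e)
      obtain rfl : S = S' := Finset.ext fun e => by simpa [ss] using congrFun hs e
      rfl
    · rintro ⟨C, g, rfl, hg⟩
      obtain ⟨r, s, hcode⟩ := exists_uCode h2 hα hg
      obtain ⟨D, hD, hskew, P, hPr, hPs⟩ := hcode
      let parts : Multiset ℕ := ∑ e ∈ Finset.range (p + 1), Multiset.replicate (r e) e
      have hcount : ∀ e, parts.count e = r e := by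
        intro e
        rw [Multiset.count_sum']
        simp only [Multiset.count_replicate]
        rw [Finset.sum_ite_eq']
        split_ifs with he
        · rfl
        · by_contra hne
          exact he (Finset.mem_range.2 (Nat.lt_succ_of_le ((P.bound e (by rw [hPr]; exact Ne.symm hne)).2)))
      have hmem : ∀ e, e ∈ parts ↔ r e ≠ 0 := fun e => by
        rw [← Multiset.count_ne_zero, hcount]
      have hsum : parts.sum = 2 * m := by
        have h1 := (LinearEquiv.ofBijective P.comb (P.comb_bijective hα0 hskew)).finrank_eq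
        rw [Module.finrank_fintype_fun_eq_card, card_idx, finrank_space, hPr] at h1
        rw [two_mul, ← h1, show parts.sum = ∑ e ∈ Finset.range (p + 1), (Multiset.replicate (r e) e).sum from
          map_sum Multiset.sumAddMonoidHom _ _]
        exact Finset.sum_congr rfl fun e _ => by simp
      let μ : Nat.Partition (2 * m) := ⟨parts, fun {i} hi => by
        have := (P.bound i (by rw [hPr]; exact (hmem i).1 hi)).1
        omega, hsum⟩
      let S : Finset ℕ := (Finset.range (p + 1)).filter fun e => s e = true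
      have hS : ∀ e, e ∈ S ↔ s e = true := fun e => by
        refine ⟨fun h => (Finset.mem_filter.1 h).2, fun h => Finset.mem_filter.2 ⟨?_, h⟩⟩
        have h' := P.supp e (by rw [hPs]; exact h)
        exact Finset.mem_range.2 (Nat.lt_succ_of_le (P.bound e h'.2.ne').2)
      have hμ : (⟨μ, S⟩ : (_ : Nat.Partition (2 * m)) × Finset ℕ) ∈ Cd := by
        refine Finset.mem_sigma.2 ⟨Finset.mem_filter.2 ⟨Finset.mem_univ _, fun a ha => ?_, fun j hj => ?_⟩,
          Finset.mem_powerset.2 fun e he => ?_⟩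
        · exact (P.bound a (by rw [hPr]; exact (hmem a).1 ha)).2
        · show Even (parts.count j)
          rw [hcount, ← hPr]; exact P.par j hj
        · obtain ⟨he1, he2⟩ := P.supp e (by rw [hPs]; exact (hS e).1 he)
          rw [hPr] at he2
          exact Finset.mem_filter.2 ⟨Multiset.mem_toFinset.2 ((hmem e).2 he2.ne'), he1⟩
      refine ⟨⟨⟨μ, S⟩, hμ⟩, Subtype.ext (ConjClasses.mk_eq_mk_iff_isConj.2 ?_)⟩
      refine isConj_of_uCode h2 hα0 (hrep1 _) hg (hrep2 ⟨⟨μ, S⟩, hμ⟩) ?_
      refine ⟨D, hD, hskew, P, hPr.trans (funext fun e => (hcount e).symm), hPs.trans (funext fun e => ?_)⟩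
      show s e = decide (e ∈ S)
      by_cases h : s e = true
      · rw [h, decide_eq_true ((hS e).2 h)]
      · rw [Bool.eq_false_iff.2 h, decide_eq_false fun h' => h ((hS e).1 h')]
  have hcardT : Nat.card T = ∑ μ ∈ good, 2 ^ (evens μ).card := by
    rw [← Nat.card_eq_of_bijective Φ hbij, Nat.card_eq_finsetCard, hCd]
  have h1mem : ∃ g : G, ConjClasses.mk g = ConjClasses.mk 1 ∧ g ^ p = 1 := ⟨1, rfl, one_pow p⟩
  rw [show (∑ μ ∈ Finset.univ.filter (fun μ : Nat.Partition (2 * m) => (∀ a ∈ μ.parts, a ≤ p) ∧ ∀ j : ℕ, Odd j → Even (μ.parts.count j)), 2 ^ ((μ.parts.toFinset.filter (fun j : ℕ => Even j)).card)) = Nat.card T from hcardT.symm]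
  let e : {C : ConjClasses G // ∃ g : G, ConjClasses.mk g = C ∧ orderOf g = p} ≃ {x : T // x ≠ ⟨_, h1mem⟩} :=
    { toFun := fun C => ⟨⟨C.1, C.2.choose, C.2.choose_spec.1,
          orderOf_dvd_iff_pow_eq_one.1 C.2.choose_spec.2.dvd⟩, fun h => by
        have h1 := ConjClasses.mk_eq_mk_iff_isConj.1 (C.2.choose_spec.1.trans (congrArg Subtype.val h))
        have h2 := isConj_one_left.1 h1
        have h3 := C.2.choose_spec.2
        rw [h2, orderOf_one] at h3
        exact hpp.one_lt.ne h3⟩
      invFun := fun x => ⟨x.1.1, x.1.2.choose, x.1.2.choose_spec.1, orderOf_eq_prime x.1.2.choose_spec.2 fun h =>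
        x.2 (Subtype.ext (x.1.2.choose_spec.1.symm.trans (by rw [h])))⟩
      left_inv := fun _ => rfl
      right_inv := fun _ => rfl }
  rw [Nat.card_congr e]
  haveI := Fintype.ofFinite T
  rw [Nat.card_eq_fintype_card, Nat.card_eq_fintype_card, Fintype.card_subtype_compl, Fintype.card_subtype_eq]

end Cfsg.Agent.S2676
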