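import Cfsg.Statements.S2677
import Cfsg.Agent.Lib.AutPSU.FieldCentralizer

set_option autoImplicit false
open Cfsg

namespace Cfsg.Agent.S2677


open Matrix Cfsg.Agent.Lib.AutPSU Cfsg.Agent.Lib.Unitary

section
variable {F : Type*} [Field F] [Fintype F] {q : ℕ} {n : ℕ}
variable {F₀ : Type*} [Field F₀] [Fintype F₀] {q0 : ℕ} (ι : F₀ →+* F)
  (hF : Fintype.card F = q ^ 2) (hF₀ : Fintype.card F₀ = q0 ^ 2)
  (hι : ∀ y : F₀, ι y ^ q = ι (y ^ q0)) {σ : F ≃+* F} (hfix : ∀ x, σ x = x ↔ x ∈ Set.range ι)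

include hfix in
/-- Elements fixed by `σ` up to a scalar are scalars times elements over the fixed field. -/
theorem exists_scalar_of_eq (hn : 0 < n) {r : ℕ} (hr : orderOf σ = r) (hr0 : 0 < r) {g : GU n F q}
    {c : U1 F q} (hc : fieldGU σ g = scalarGU c * g) :
    ∃ (z : U1 F q) (h : GU n F₀ q0), g = scalarGU z * incGU ι hF hF₀ hι h := by
  have hiter : ∀ k, (fieldGU σ ^ k) g =
      scalarGU (Cfsg.Agent.Lib.AutPSL.tnorm (fieldU1E σ) c k) * g := by
    intro k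
    induction k with
    | zero => simp
    | succ k ih =>
      rw [pow_succ', MulAut.mul_apply, ih, map_mul, hc, fieldGU_scalar,
        Cfsg.Agent.Lib.AutPSL.tnorm_succ, mul_comm c, map_mul, mul_assoc]
      rfl
  have hNc : Cfsg.Agent.Lib.AutPSL.tnorm (fieldU1E σ) c r = 1 := by
    refine scalarGU_injective (n := n) hn (mul_right_cancel (b := g) ?_)
    rw [← hiter, ← map_pow, ← hr, pow_orderOf_eq_one, map_one, map_one, one_mul]
    rfl
  have hNc' : Cfsg.Agent.Lib.AutPSL.tnorm (Cfsg.Agent.Lib.AutPSL.mapUnits σ) c.1 r = 1 := by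
    have := Cfsg.Agent.Lib.AutPSL.map_tnorm (fieldU1E σ) (Cfsg.Agent.Lib.AutPSL.mapUnits σ)
      (U1 F q).subtype (fun x => rfl) c r
    rw [hNc, map_one] at this
    exact this.symm
  obtain ⟨w, hw⟩ := Cfsg.Agent.Lib.AutPSL.exists_div_of_tnorm_eq_one hr hr0 hNc'
  set z0 : F := ((w⁻¹ : Fˣ) : F)
  have hz0 : z0 ≠ 0 := (w⁻¹).ne_zero
  have hσz0 : σ z0 = (c.1 : F) * z0 := by
    rw [← Cfsg.Agent.Lib.AutPSL.coe_mapUnits, ← Units.val_mul, hw, map_inv, mul_comm w,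
      mul_inv_cancel_right]
  have he : σ (z0 * z0 ^ q) = z0 * z0 ^ q := by
    rw [map_mul, map_pow, hσz0, mul_pow, mul_mul_mul_comm, U1_val_pow, one_mul]
  obtain ⟨e0, he0⟩ := (hfix _).1 he
  have he00 : e0 ^ q0 = e0 := ι.injective (by
    rw [← hι, he0, mul_pow, pow_q_q hF, mul_comm])
  obtain ⟨w1, hw1⟩ := norm_surj hF₀ he00
  have hw10 : ι w1 ≠ 0 := fun h0 => by
    have : ι e0 = 0 := by rw [← hw1, map_mul, h0, zero_mul]
    rw [he0] at this
    exact mul_ne_zero hz0 (pow_ne_zero _ hz0) this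
  have hzn : Units.mk0 (z0 / ι w1) (div_ne_zero hz0 hw10) ∈ U1 F q := by
    rw [mem_U1_iff]
    refine Units.ext ?_
    rw [Units.val_pow_eq_pow_val, Units.val_mk0, Units.val_one, pow_succ', div_pow, div_mul_div_comm,
      hι, ← map_mul, hw1, he0, div_self (mul_ne_zero hz0 (pow_ne_zero _ hz0))]
  set z : U1 F q := ⟨_, hzn⟩
  have hσz : fieldU1 σ z = c * z := by
    refine Subtype.ext (Units.ext ?_)
    show σ (z0 / ι w1) = (c.1 : F) * (z0 / ι w1)
    rw [map_div₀, hσz0, (hfix (ι w1)).2 ⟨w1, rfl⟩, mul_div_assoc]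
  obtain ⟨h, hh⟩ := exists_incGU ι hF hF₀ hι hfix (g := scalarGU z⁻¹ * g) (by
    rw [map_mul, hc, fieldGU_scalar, map_inv, hσz, ← mul_assoc, ← map_mul, _root_.mul_inv_rev,
      inv_mul_cancel_right])
  exact ⟨z, h, by rw [hh, ← mul_assoc, ← map_mul, mul_inv_cancel, map_one, one_mul]⟩

include hfix hι hF hF₀ in
theorem card_fixed_cosets (hn : 0 < n) {r : ℕ} (hr : orderOf σ = r) (hr0 : 0 < r) :
    Nat.card {g : GU n F q // ∃ c : F, c ≠ 0 ∧ g.1.1.map σ = c • g.1.1} =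
      (q + 1) / (q0 + 1) * Nat.card (GU n F₀ q0) := by
  classical
  let ψ : U1 F q × GU n F₀ q0 →* GU n F q :=
    MonoidHom.noncommCoprod scalarGU (incGU ι hF hF₀ hι) (fun z h => scalarGU_comm z _)
  have hψ : ∀ z h, ψ (z, h) = scalarGU z * incGU ι hF hF₀ hι h := fun z h => rfl
  have hrange : ∀ g : GU n F q,
      (∃ c : F, c ≠ 0 ∧ g.1.1.map σ = c • g.1.1) ↔ g ∈ ψ.range := by
    intro g
    constructor
    · rintro ⟨c, hc0, hc⟩
      have hu : c ^ (q + 1) = 1 := by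
        have h1 := GU_ct_mul hF g
        have h2 := GU_ct_mul hF (fieldGU σ g)
        rw [coe_fieldGU, hc, show ct hF (c • g.1.1) = c ^ q • ct hF g.1.1 by
          ext i j; simp [ct, conj_apply, mul_pow], Matrix.smul_mul, Matrix.mul_smul, smul_smul,
          h1] at h2
        have h3 := congrFun (congrFun h2 ⟨0, hn⟩) ⟨0, hn⟩
        rw [pow_succ]
        simpa using h3
      have hmem : Units.mk0 c hc0 ∈ U1 F q := by
        rw [mem_U1_iff]; exact Units.ext (by simpa using hu)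
      obtain ⟨z, h, hh⟩ := exists_scalar_of_eq ι hF hF₀ hι hfix hn hr hr0 (c := ⟨_, hmem⟩) (g := g)
        (Subtype.ext (Units.ext (by
          show (fieldGU σ g).1.1 = (scalarGU ⟨_, hmem⟩ : GU n F q).1.1 * g.1.1
          rw [coe_fieldGU, hc, coe_scalarGU, Matrix.smul_mul, one_mul]; rfl)))
      exact ⟨(z, h), hh.symm⟩
    · rintro ⟨⟨z, h⟩, rfl⟩
      refine ⟨σ (z.1 : F) * (z.1 : F)⁻¹, mul_ne_zero ((map_ne_zero σ).2 z.1.ne_zero)
        (inv_ne_zero z.1.ne_zero), ?_⟩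
      rw [← coe_fieldGU, hψ, map_mul, fieldGU_scalar, fieldGU_incGU ι hF hF₀ hι hfix]
      show (scalarGU _ : GU n F q).1.1 * _ = _ • ((scalarGU z : GU n F q).1.1 * _)
      rw [coe_scalarGU, coe_scalarGU, Matrix.smul_mul, Matrix.smul_mul, one_mul, smul_smul,
        inv_mul_cancel_right₀ z.1.ne_zero]
      rfl
  rw [Nat.card_congr (Equiv.subtypeEquivRight hrange)]
  have hk : Nat.card ψ.ker = q0 + 1 := by
    rw [← card_fixU1 ι hF hF₀ hι hfix]
    refine Nat.card_eq_of_bijective (fun x => ⟨x.1.1, ?_⟩) ⟨?_, ?_⟩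
    · have hx : scalarGU x.1.1 * incGU ι hF hF₀ hι x.1.2 = 1 := x.2
      have h1 := congrArg (fieldGU σ) hx
      rw [map_mul, fieldGU_scalar, fieldGU_incGU ι hF hF₀ hι hfix, map_one, ← hx,
        mul_left_inj] at h1
      exact scalarGU_injective hn h1
    · rintro ⟨⟨z, h⟩, hx⟩ ⟨⟨z', h'⟩, hx'⟩ he
      obtain rfl : z = z' := congrArg Subtype.val he
      have e1 : scalarGU z * incGU ι hF hF₀ hι h = scalarGU z * incGU ι hF hF₀ hι h' := hx.trans hx'.symm
      obtain rfl : h = h' := Subtype.ext (Units.ext (Matrix.map_injective ι.injective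
        (congrArg (fun g : GU n F q => g.1.1) (mul_left_cancel e1))))
      rfl
    · rintro ⟨z, hz⟩
      obtain ⟨h, hh⟩ := exists_incGU ι hF hF₀ hι hfix (g := (scalarGU z : GU n F q)⁻¹) (by
        rw [map_inv, fieldGU_scalar, show fieldU1 σ z = z from hz])
      exact ⟨⟨(z, h), by
        show scalarGU z * incGU ι hF hF₀ hι h = 1
        rw [hh, mul_inv_cancel]⟩, rfl⟩
  have h1 : Nat.card ψ.range * (q0 + 1) = (q + 1) * Nat.card (GU n F₀ q0) := by
    rw [← hk, ← Nat.card_congr (QuotientGroup.quotientKerEquivRange ψ).toEquiv,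
      ← Subgroup.card_eq_card_quotient_mul_card_subgroup, Nat.card_prod, (card_normHom hF).1]
  have hd : q0 + 1 ∣ q + 1 := by
    rw [← card_fixU1 ι hF hF₀ hι hfix, ← (card_normHom hF).1]
    exact Subgroup.card_subgroup_dvd_card _
  rw [Nat.div_mul_right_comm hd, ← h1, Nat.mul_div_cancel _ (Nat.succ_pos _)]

end

theorem prod_cast {q0 n : ℕ} (h : 1 ≤ q0) :
    ((∏ i ∈ Finset.range n, (if Even i then q0 ^ (i + 1) + 1 else q0 ^ (i + 1) - 1) : ℕ) : ℤ) =
      ∏ i : Fin n, ((q0 : ℤ) ^ ((i : ℕ) + 1) - (-1) ^ ((i : ℕ) + 1)) := by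
  rw [Fin.prod_univ_eq_prod_range (fun i => (q0 : ℤ) ^ (i + 1) - (-1) ^ (i + 1)), Nat.cast_prod]
  refine Finset.prod_congr rfl fun i _ => ?_
  split_ifs with he
  · rw [he.add_one.neg_one_pow]; push_cast; ring
  · rw [(Nat.not_even_iff_odd.1 he).add_one.neg_one_pow, Nat.cast_sub (Nat.one_le_pow _ _ h)]
    push_cast; ring

/-- Centraliser of a field automorphism of odd prime order in PGU_n(q): let q = q₀^r with r an odd prime, K the field with q² elements and σ a field automorphism of K of order r (fixed field of order q₀²). The elements g of GU_n(q) whose entrywise image under σ is a scalar multiple of g — those whose coset modulo the q + 1 unitary scalars is fixed by σ — number (q + 1)/(q₀ + 1) · |GU_n(q₀)|; equivalently the centraliser in PGU_n(q) of the induced automorphism has the order of PGU_n(q₀). -/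
theorem result {K : Type*} [Field K] [Fintype K] {q₀ q r n : ℕ} (hr : r.Prime) (hr2 : r ≠ 2) (hn : 1 ≤ n) (hq : q = q₀ ^ r) (hK : Fintype.card K = q ^ 2) (σ : K ≃+* K) (hσ : orderOf σ = r) : (Nat.card {g : ↥(Cfsg.GU n K q) // ∃ c : K, c ≠ 0 ∧ ((g : GL (Fin n) K) : Matrix (Fin n) (Fin n) K).map σ = c • ((g : GL (Fin n) K) : Matrix (Fin n) (Fin n) K)} : ℤ) = ((q + 1) / (q₀ + 1) : ℕ) * ((q₀ : ℤ) ^ (n * (n - 1) / 2) * ∏ i : Fin n, ((q₀ : ℤ) ^ ((i : ℕ) + 1) - (-1) ^ ((i : ℕ) + 1))) := by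
  classical
  obtain ⟨p, hp⟩ := CharP.exists K
  obtain ⟨k, hpp, hcard⟩ := FiniteField.card K p
  have : Fact p.Prime := ⟨hpp⟩
  have hdvd : q₀ ∣ p ^ (k : ℕ) := by
    rw [← hcard, hK, hq]
    exact (dvd_pow_self _ hr.ne_zero).trans (dvd_pow_self _ two_ne_zero)
  obtain ⟨e, -, rfl⟩ := (Nat.dvd_prime_pow hpp).1 hdvd
  have hq' : q = p ^ (e * r) := by rw [hq, ← pow_mul]
  obtain ⟨-, hc, -, hpow⟩ := fixField_data hq' hK hσ (hr.odd_of_ne_two hr2)
  rw [Nat.mul_div_cancel _ hr.pos] at hc hpow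
  set K₀ := Cfsg.Agent.Lib.AutPSL.fixField σ
  letI : Fintype K₀ := Fintype.ofFinite _
  rw [Nat.card_eq_fintype_card] at hc
  have hfix : ∀ x, σ x = x ↔ x ∈ Set.range K₀.subtype := fun x =>
    ⟨fun h => ⟨⟨x, h⟩, rfl⟩, fun ⟨y, hy⟩ => hy ▸ y.2⟩
  have hι : ∀ y : K₀, K₀.subtype y ^ q = K₀.subtype (y ^ p ^ e) := fun y => by
    rw [map_pow, hpow _ ((hfix _).2 ⟨y, rfl⟩)]
  rw [card_fixed_cosets K₀.subtype hK hc hι hfix hn hσ hr.pos, card_GU hc n, Nat.cast_mul,
    Nat.cast_mul, prod_cast (Nat.one_le_pow _ _ hpp.pos)]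
  push_cast
  rfl

end Cfsg.Agent.S2677
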