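import Cfsg.Statements.S2679
import Cfsg.Agent.Lib.FieldRed.Quad

set_option autoImplicit false
open Cfsg

namespace Cfsg.Agent.S2679

/-- An elliptic orthogonal group embeds in the hyperbolic orthogonal group of the same dimension over the quadratic extension: for a field F with q elements and a field K with q² elements there is an injective homomorphism from O⁻_2m(F) (isometries of Σ_(j<m−1) x_j y_j + z₁² + a z₁z₂ + c z₂², binary part anisotropic) to O⁺_2m(K) (isometries of Σ_(j<m) x_j y_j over K). -/
theorem result {F K : Type*} [Field F] [Fintype F] [Field K] [Fintype K] {q : ℕ} (hF : Fintype.card F = q) (hK : Fintype.card K = q ^ 2) {m : ℕ} (hm : 1 ≤ m) (a c : F) (hac : ∀ z₁ z₂ : F, z₁ ^ 2 + a * z₁ * z₂ + c * z₂ ^ 2 = 0 → z₁ = 0 ∧ z₂ = 0) : ∃ φ : ↥(Cfsg.isometryGroup F (Cfsg.quadFormMinus (m - 1) F a c)) →* ↥(Cfsg.isometryGroup K (Cfsg.quadFormPlus m K)), Function.Injective φ := by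
  classical
  obtain ⟨k, rfl⟩ : ∃ k, m = k + 1 := ⟨m - 1, by omega⟩
  show ∃ φ : ↥(Cfsg.isometryGroup F (Cfsg.quadFormMinus k F a c)) →* ↥(Cfsg.isometryGroup K (Cfsg.quadFormPlus (k + 1) K)), Function.Injective φ
  have h : Fintype.card K = Fintype.card F ^ 2 := by rw [hK, hF]
  obtain ⟨f⟩ := Cfsg.Agent.Lib.FieldRed.exists_ringHom h
  letI := f.toAlgebra
  have hd : Module.finrank F K = 2 := Cfsg.Agent.Lib.FieldRed.finrank_eq h
  have hno : ∀ z : F, z ^ 2 + a * z + c ≠ 0 := fun z hz =>
    one_ne_zero (hac z 1 (by linear_combination hz)).2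
  obtain ⟨r, hr⟩ := Cfsg.Agent.Lib.FieldRed.exists_root_quadratic hd a c hno
  replace hr : r ^ 2 + f a * r + f c = 0 := hr
  set r' : K := -f a - r with hr'
  have hne : r ≠ r' := by
    intro he
    have h2r : f a = -(2 * r) := by rw [hr'] at he; linear_combination he
    have hc : f c = r ^ 2 := by linear_combination hr - r * h2r
    by_cases h2 : (2 : F) = 0
    · have ha : a = 0 := by
        apply f.injective
        have : (2 : K) = 0 := by rw [← map_ofNat f 2, h2, map_zero]
        rw [h2r, this, map_zero]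
        ring
      obtain ⟨p, hp⟩ := CharP.exists F
      haveI := hp
      have hp2 : p = 2 := (Nat.prime_dvd_prime_iff_eq (CharP.char_is_prime F p) Nat.prime_two).1
        ((CharP.cast_eq_zero_iff F p 2).1 (by simpa using h2))
      subst hp2
      obtain ⟨s, hs⟩ := FiniteField.isSquare_of_char_two (ringChar.eq F 2) c
      exact hno s (by rw [ha, hs]; linear_combination (s * s) * h2)
    · apply hno (-a / 2)
      apply f.injective
      have h2K : (2 : K) ≠ 0 := by
        rw [← map_ofNat f 2]; exact (map_ne_zero f).2 h2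
      simp only [map_add, map_pow, map_mul, map_div₀, map_neg, map_ofNat, map_zero]
      field_simp
      linear_combination 4 * hc - (f a - 2 * r) * h2r
  let A : Matrix ((Fin k ⊕ Fin k) ⊕ Fin 2) ((Fin k ⊕ Fin k) ⊕ Fin 2) F :=
    Matrix.fromBlocks (Matrix.fromBlocks 0 1 0 0) 0 0 !![1, a; 0, c]
  obtain ⟨φ, hφ⟩ := Cfsg.Agent.Lib.FieldRed.exists_baseChange_hom f A
    (Cfsg.quadFormMinus k F a c) (Cfsg.quadFormMinus k K (f a) (f c))
    (fun v => by
      simp [A, Cfsg.quadFormMinus, dotProduct, Matrix.mulVec, Fintype.sum_sum_type, Fin.sum_univ_two,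
        Matrix.one_apply]
      ring)
    (fun v => by
      simp [A, Cfsg.quadFormMinus, dotProduct, Matrix.mulVec, Fintype.sum_sum_type, Fin.sum_univ_two,
        Matrix.one_apply, apply_ite f]
      ring)
  let L : ((Fin k ⊕ Fin k) ⊕ Fin 2 → K) →ₗ[K] (Fin (k + 1) ⊕ Fin (k + 1) → K) :=
    { toFun := fun v => Sum.elim
        (Fin.snoc (fun i => v (.inl (.inl i))) (v (.inr 0) - r * v (.inr 1)) : Fin (k + 1) → K)
        (Fin.snoc (fun i => v (.inl (.inr i))) (v (.inr 0) - r' * v (.inr 1)) : Fin (k + 1) → K)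
      map_add' := fun u v => by
        funext x
        rcases x with i | i <;> refine Fin.lastCases ?_ (fun j => ?_) i <;> simp <;> ring
      map_smul' := fun t v => by
        funext x
        rcases x with i | i <;> refine Fin.lastCases ?_ (fun j => ?_) i <;> simp <;> ring }
  have hinj : Function.Injective L := by
    rw [injective_iff_map_eq_zero]
    intro v hv
    have h0 := congrFun hv (.inl (Fin.last k))
    have h1 := congrFun hv (.inr (Fin.last k))
    simp [L] at h0 h1
    have hz1 : v (.inr 1) = 0 := by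
      by_contra hne1
      exact hne (mul_right_cancel₀ hne1 (by linear_combination h1 - h0))
    have hz0 : v (.inr 0) = 0 := by rw [hz1, mul_zero, sub_zero] at h0; exact h0
    funext x
    rcases x with (i | i) | i
    · simpa [L] using congrFun hv (.inl i.castSucc)
    · simpa [L] using congrFun hv (.inr i.castSucc)
    · fin_cases i
      · exact hz0
      · exact hz1
  have hrank : Module.finrank K ((Fin k ⊕ Fin k) ⊕ Fin 2 → K) =
      Module.finrank K (Fin (k + 1) ⊕ Fin (k + 1) → K) := by
    simp [Fintype.card_sum]; omega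
  obtain ⟨ψ, hψ⟩ := Cfsg.Agent.Lib.FieldRed.exists_congr_hom (Cfsg.quadFormMinus k K (f a) (f c))
    (Cfsg.quadFormPlus (k + 1) K) (L.linearEquivOfInjective hinj hrank) (fun v => by
      rw [LinearMap.linearEquivOfInjective_apply]
      simp [L, Cfsg.quadFormPlus, Cfsg.quadFormMinus, Fin.sum_univ_castSucc]
      linear_combination (-(v (.inr 1)) ^ 2) * hr - (v (.inr 0) * v (.inr 1) - r * v (.inr 1) ^ 2) * hr')
  exact ⟨ψ.comp φ, hψ.comp hφ⟩

end Cfsg.Agent.S2679
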