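import Cfsg.Statements.S2682
import Cfsg.Agent.Lib.SpUnipotent.InvCentMain

set_option autoImplicit false
open Cfsg

namespace Cfsg.Agent.S2682

/-- Centraliser order of an involution t of Sp_2m(q), q even, with s = rank(t − 1) even and f(v, tv) ≠ 0 for some v, f the symplectic form (type c_s): |C(t)| = q^(2ms − (3s² − 3s)/2 − 1) · |Sp_(s−2)(q)| · |Sp_(2m−2s)(q)|. -/
theorem result {F : Type*} [Field F] [Fintype F] [CharP F 2] {q : ℕ} (hF : Fintype.card F = q) {m s : ℕ} (t : Matrix.symplecticGroup (Fin m) F) (ht : t ^ 2 = 1) (hs : ((t : Matrix (Fin m ⊕ Fin m) (Fin m ⊕ Fin m) F) - 1).rank = s) (heven : Even s) (hna : ∃ v : Fin m ⊕ Fin m → F, Cfsg.sympForm m F v ((t : Matrix (Fin m ⊕ Fin m) (Fin m ⊕ Fin m) F).mulVec v) ≠ 0) : Nat.card ↥(Subgroup.centralizer ({t} : Set ↥(Matrix.symplecticGroup (Fin m) F))) = q ^ (2 * m * s - (3 * s ^ 2 - 3 * s) / 2 - 1) * ((q : ℕ)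 ^ (((s - 2) / 2) ^ 2) * ∏ i : Fin ((s - 2) / 2), (q ^ (2 * ((i : ℕ) + 1)) - 1)) * ((q : ℕ) ^ ((m - s) ^ 2) * ∏ i : Fin (m - s), (q ^ (2 * ((i : ℕ) + 1)) - 1)) := by
  obtain ⟨hs0, hsm, hc⟩ := Lib.SpUnipotent.card_centralizer_nonalt t hF ht hs hna
  obtain ⟨j, hj⟩ := heven
  obtain ⟨i, rfl⟩ : ∃ i, s = 2 * i + 2 := ⟨j - 1, by omega⟩
  obtain ⟨l, rfl⟩ : ∃ l, m = 2 * i + 2 + l := ⟨m - (2 * i + 2), by omega⟩
  rw [hc, Lib.SpUnipotent.card_dot_even hF i, Lib.SpUnipotent.half_mul_succ,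
    show (2 * i + 2 - 2) / 2 = i by omega, ← mul_assoc (q ^ _) (q ^ (2 * i + 1)), ← pow_add]
  congr 2
  · congr 1
    have := Nat.le_self_pow two_ne_zero i
    ring_nf
    omega

end Cfsg.Agent.S2682
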