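import Cfsg.Statements.S2683
import Cfsg.Agent.Lib.SpUnipotent.OrthCentMain

set_option autoImplicit false
open Cfsg

namespace Cfsg.Agent.S2683

/-- For the hyperbolic form Σ x_j y_j on F^(2m) over a finite field with q elements, q even (excluding m = 2 over the field of two elements), and an involution x of the orthogonal group with s = rank(x − 1) odd (type b_s; such x lie outside Ω): the elements of Ω (the commutator subgroup of the orthogonal group) commuting with x number q^(2m(s−1) − (3s² − 3s)/2) · |Sp_(s−1)(q)| · |Sp_(2m−2s)(q)|, where |Sp_2k(q)| = q^(k²) Π_(i=1)^k (q^(2i) − 1). -/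
theorem result {F : Type*} [Field F] [Fintype F] [CharP F 2] {q : ℕ} (hF : Fintype.card F = q) {m s : ℕ} (h : Fintype.card F ≠ 2 ∨ m ≠ 2) (x : ↥(Cfsg.isometryGroup F (Cfsg.quadFormPlus m F))) (hx : x ^ 2 = 1) (hs : (((x : Matrix.GeneralLinearGroup (Fin m ⊕ Fin m) F) : Matrix (Fin m ⊕ Fin m) (Fin m ⊕ Fin m) F) - 1).rank = s) (hodd : Odd s) : Nat.card {g : ↥(Cfsg.Omega F (Cfsg.quadFormPlus m F)) // (g : ↥(Cfsg.isometryGroup F (Cfsg.quadFormPlus m F))) * x = x * (g : ↥(Cfsg.isometryGroup F (Cfsg.quadFormPlus m F)))} = q ^ (2 * m * (s - 1) - (3 * s ^ 2 - 3 * s) / 2) * ((q : ℕ) ^ (((s - 1) / 2) ^ 2) * ∏ i : Fin ((s - 1) / 2), (q ^ (2 * ((i : ℕ) + 1)) - 1)) * ((q : ℕ) ^ ((m - s) ^ 2) * ∏ i : Fin (m - s), (q ^ (2 * ((i : ℕ) + 1)) - 1)) := by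
  have hrk : Module.finrank F (LinearMap.range (Lib.SpUnipotent.OrthCent.nilp x)) = s := hs
  have hx1 : x ≠ 1 := by
    rintro rfl
    simp at hs
    subst hs
    exact absurd hodd (by decide)
  obtain ⟨t, ht, ht2, htw⟩ := Lib.SpUnipotent.OrthCent.exists_sp x hx hx1
  have hs' : ((t : Matrix (Fin m ⊕ Fin m) (Fin m ⊕ Fin m) F) - 1).rank = s := by rw [ht]; exact hs
  have hna : ∃ v, Lib.Forms.qPlus m (Lib.SpUnipotent.OrthCent.nilp x v) ≠ (0 : F) := by
    by_contra hall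
    push Not at hall
    have := Lib.Char2Inv.Symplectic.even_rank_of_alt
      (Lib.Char2Inv.Symplectic.sympForm_isHerm (F := F) (m := m))
      Lib.Char2Inv.Symplectic.sympForm_self (Lib.SpUnipotent.isSqZero_sub_one t ht2)
      Lib.Char2Inv.Symplectic.sympForm_nondeg
      (fun v => by rw [Lib.Char2Inv.Symplectic.twist_eq, htw]; exact hall v)
    rw [Lib.SpUnipotent.finrank_range_eq t hs'] at this
    exact Nat.not_even_iff_odd.mpr hodd this
  obtain ⟨v, hv⟩ := hna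
  obtain ⟨-, hsm, hc⟩ := Lib.SpUnipotent.card_centralizer_nonalt t hF ht2 hs'
    ⟨v, by rw [htw]; exact hv⟩
  rw [Lib.SpUnipotent.OrthCent.card_master_nonalt x hF h hx hx1 hrk ⟨v, hv⟩ t ht] at hc
  obtain ⟨j, rfl⟩ := hodd
  rw [Lib.SpUnipotent.card_dot_odd hF j] at hc
  refine Nat.eq_of_mul_eq_mul_left (pow_pos (hF ▸ Fintype.card_pos) (2 * m - (2 * j + 1)))
    (hc.trans ?_)
  obtain ⟨l, rfl⟩ : ∃ l, m = 2 * j + 1 + l := ⟨m - (2 * j + 1), by omega⟩
  have := Nat.le_self_pow two_ne_zero j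
  have he : q ^ (2 * (2 * j + 1 + l) * (2 * j + 1) - (3 * (2 * j + 1) ^ 2 - (2 * j + 1)) / 2) =
      q ^ (2 * (2 * j + 1 + l) - (2 * j + 1)) *
        q ^ (2 * (2 * j + 1 + l) * (2 * j + 1 - 1) - (3 * (2 * j + 1) ^ 2 - 3 * (2 * j + 1)) / 2) := by
    rw [← pow_add, show 2 * j + 1 - 1 = 2 * j by omega]
    congr 1
    ring_nf
    omega
  rw [show (2 * j + 1 - 1) / 2 = j by omega, he]
  ring

end Cfsg.Agent.S2683
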