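import Cfsg.Statements.S2684
import Cfsg.Agent.Lib.SpUnipotent.OrthCentMain

set_option autoImplicit false
open Cfsg

namespace Cfsg.Agent.S2684

/-- For the hyperbolic form Q = Σ x_j y_j on F^(2m) over a finite field with q elements, q even (excluding m = 2 over the field of two elements), and an involution x ≠ 1 of the orthogonal group with s = rank(x − 1) even and Q vanishing on the image of x − 1 (equivalently f(v, xv) = 0 for all v, where f(u, w) = Q(u + w) − Q(u) − Q(w) is the bilinear form of Q; type a_s, which lies in Ω): its centraliser in Ω (the commutator subgroup of the orthogonal group) has order q^(2ms − (3s² + s)/2) · |Sp_s(q)| · |Ω⁺_(2m−2s)(q)|, where |Ω⁺_2k(q)| = q^(k(k−1)) (q^k − 1) Π_(i=1)^(k−1) (q^(2i) − 1) for k ≥ 1 and the last factor is 1 when s = m. -/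
theorem result {F : Type*} [Field F] [Fintype F] [CharP F 2] {q : ℕ} (hF : Fintype.card F = q) {m s : ℕ} (h : Fintype.card F ≠ 2 ∨ m ≠ 2) (x : ↥(Cfsg.isometryGroup F (Cfsg.quadFormPlus m F))) (hx : x ^ 2 = 1) (hx1 : x ≠ 1) (hs : (((x : Matrix.GeneralLinearGroup (Fin m ⊕ Fin m) F) : Matrix (Fin m ⊕ Fin m) (Fin m ⊕ Fin m) F) - 1).rank = s) (heven : Even s) (halt : ∀ v : Fin m ⊕ Fin m → F, Cfsg.quadFormPlus m F ((((x : Matrix.GeneralLinearGroup (Fin m ⊕ Fin m) F) : Matrix (Fin m ⊕ Fin m) (Fin m ⊕ Fin m) F) - 1).mulVec v) = 0) : Nat.card {g : ↥(Cfsg.Omega F (Cfsg.quadFormPlus m F)) // (g : ↥(Cfsg.isometryGroup F (Cfsg.quadFormPlus m F))) * x = x * (g : ↥(Cfsg.isometryGroup F (Cfsg.quadFormPlus m F)))} = q ^ (2 * m * s - (3 * s ^ 2 + s) / 2) * ((q : ℕ) ^ ((s / 2) ^ 2) * ∏ i : Fin (s / 2), (q ^ (2 * ((i : ℕ) + 1)) - 1)) * (if s = m then 1 else q ^ ((m - s) * (m - s - 1)) * (q ^ (m - s) - 1) * ∏ i : Fin (m - s - 1), (q ^ (2 * ((i :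 ℕ) + 1)) - 1)) := by
  have hrk : Module.finrank F (LinearMap.range (Lib.SpUnipotent.OrthCent.nilp x)) = s := hs
  have halt' : ∀ v, Lib.Forms.qPlus m (Lib.SpUnipotent.OrthCent.nilp x v) = (0 : F) := fun v => by
    rw [← Lib.SpUnipotent.OrthCent.form_eq]; exact halt v
  obtain ⟨t, ht, ht2, htw⟩ := Lib.SpUnipotent.OrthCent.exists_sp x hx hx1
  have hs' : ((t : Matrix (Fin m ⊕ Fin m) (Fin m ⊕ Fin m) F) - 1).rank = s := by rw [ht]; exact hs
  have hc := Lib.SpUnipotent.card_centralizer_alt t hF ht2 hs'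
    (fun v => by rw [htw]; exact halt' v)
  have hsm : s ≤ m := by
    have h2 := Lib.Forms.two_mul_finrank_le (Lib.Forms.qPlus_nondeg (F := F) m)
      (LinearMap.range (Lib.SpUnipotent.OrthCent.nilp x))
      (by rintro _ ⟨v, rfl⟩; exact halt' v)
    rw [Lib.Symplectic.finrank_std, hrk] at h2
    omega
  rw [Lib.SpUnipotent.OrthCent.card_master_alt x hF h hx hx1 hrk halt' hsm t ht] at hc
  have hq : 0 < q := hF ▸ Fintype.card_pos
  obtain ⟨j, rfl⟩ := heven
  obtain ⟨l, rfl⟩ : ∃ l, m = j + j + l := ⟨m - (j + j), by omega⟩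
  have hj := Nat.le_self_pow two_ne_zero j
  rw [show (j + j) / 2 = j by omega, show j + j + l - (j + j) = l by omega] at hc ⊢
  rcases l with _ | k
  · simp only [Nat.add_zero, if_true] at hc ⊢
    refine Nat.eq_of_mul_eq_mul_left (pow_pos hq (j + j)) ((by simpa using hc : _ = _).trans ?_)
    rw [mul_one, ← mul_assoc, ← mul_assoc (q ^ (j + j)), ← mul_assoc, ← pow_add, ← pow_add]
    congr 2
    rw [← pow_add]; congr 1
    ring_nf
    omega
  · rw [if_neg (by omega)] at hc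
    rw [if_neg (by omega)]
    refine Nat.eq_of_mul_eq_mul_left
      (Nat.mul_pos (pow_pos hq (j + j + (k + 1))) (Nat.succ_pos (q ^ (k + 1)))) (hc.trans ?_)
    rw [Fin.prod_univ_castSucc (n := k), Nat.add_sub_cancel]
    simp only [Fin.val_castSucc, Fin.val_last]
    have hsq : q ^ (2 * (k + 1)) - 1 = (q ^ (k + 1) + 1) * (q ^ (k + 1) - 1) := by
      rw [← Nat.sq_sub_sq, one_pow, ← pow_mul, mul_comm (k + 1) 2]
    rw [hsq, Nat.succ_eq_add_one]
    have he : q ^ (2 * (j + j + (k + 1)) * (j + j) - (3 * (j + j) ^ 2 - (j + j)) / 2) *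
        q ^ ((k + 1) ^ 2) = q ^ (j + j + (k + 1)) *
        q ^ (2 * (j + j + (k + 1)) * (j + j) - (3 * (j + j) ^ 2 + (j + j)) / 2) *
        q ^ ((k + 1) * k) := by
      rw [← pow_add, ← pow_add, ← pow_add]
      congr 1
      ring_nf
      omega
    linear_combination ((q ^ j ^ 2 * ∏ i : Fin j, (q ^ (2 * ((i : ℕ) + 1)) - 1)) *
      (∏ i : Fin k, (q ^ (2 * ((i : ℕ) + 1)) - 1)) * ((q ^ (k + 1) + 1) * (q ^ (k + 1) - 1))) * he

end Cfsg.Agent.S2684
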