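import Cfsg.Statements.S2685
import Cfsg.Agent.Lib.SpUnipotent.OrthCentMain

set_option autoImplicit false
open Cfsg

namespace Cfsg.Agent.S2685

/-- For the hyperbolic form Q = Σ x_j y_j on F^(2m) over a finite field with q elements, q even (excluding m = 2 over the field of two elements), and an involution x of the orthogonal group with s = rank(x − 1) even and Q not vanishing on the image of x − 1 (f(v, xv) ≠ 0 for some v, where f(u, w) = Q(u + w) − Q(u) − Q(w) is the bilinear form of Q; type c_s, which lies in Ω): its centraliser in Ω (the commutator subgroup of the orthogonal group) has order q^(2m(s−1) − (3s² − 5s)/2 − 1) · |Sp_(s−2)(q)| · |Sp_(2m−2s)(q)|. -/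
theorem result {F : Type*} [Field F] [Fintype F] [CharP F 2] {q : ℕ} (hF : Fintype.card F = q) {m s : ℕ} (h : Fintype.card F ≠ 2 ∨ m ≠ 2) (x : ↥(Cfsg.isometryGroup F (Cfsg.quadFormPlus m F))) (hx : x ^ 2 = 1) (hs : (((x : Matrix.GeneralLinearGroup (Fin m ⊕ Fin m) F) : Matrix (Fin m ⊕ Fin m) (Fin m ⊕ Fin m) F) - 1).rank = s) (heven : Even s) (hna : ∃ v : Fin m ⊕ Fin m → F, Cfsg.quadFormPlus m F ((((x : Matrix.GeneralLinearGroup (Fin m ⊕ Fin m) F) : Matrix (Fin m ⊕ Fin m) (Fin m ⊕ Fin m) F) - 1).mulVec v) ≠ 0) : Nat.card {g : ↥(Cfsg.Omega F (Cfsg.quadFormPlus m F)) // (g : ↥(Cfsg.isometryGroup F (Cfsg.quadFormPlus m F))) * x = x * (g : ↥(Cfsg.isometryGroup F (Cfsg.quadFormPlus m F)))} = q ^ (2 * m * (s - 1) - (3 * s ^ 2 - 5 * s) / 2 - 1) * ((q : ℕ) ^ (((s - 2) / 2) ^ 2) * ∏ i : Fin ((s - 2) / 2), (q ^ (2 * ((i : ℕ) + 1)) - 1)) * ((q : ℕ) ^ ((m - s) ^ 2) * ∏ i : Fin (m - s), (q ^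 (2 * ((i : ℕ) + 1)) - 1)) := by
  have hrk : Module.finrank F (LinearMap.range (Lib.SpUnipotent.OrthCent.nilp x)) = s := hs
  obtain ⟨v, hv⟩ := hna
  rw [Lib.SpUnipotent.OrthCent.form_eq] at hv
  change Lib.Forms.qPlus m (Lib.SpUnipotent.OrthCent.nilp x v) ≠ 0 at hv
  have hx1 : x ≠ 1 := by
    rintro rfl
    simp [Lib.SpUnipotent.OrthCent.nilp] at hv
  obtain ⟨t, ht, ht2, htw⟩ := Lib.SpUnipotent.OrthCent.exists_sp x hx hx1
  have hs' : ((t : Matrix (Fin m ⊕ Fin m) (Fin m ⊕ Fin m) F) - 1).rank = s := by rw [ht]; exact hs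
  obtain ⟨hs0, hsm, hc⟩ := Lib.SpUnipotent.card_centralizer_nonalt t hF ht2 hs'
    ⟨v, by rw [htw]; exact hv⟩
  rw [Lib.SpUnipotent.OrthCent.card_master_nonalt x hF h hx hx1 hrk ⟨v, hv⟩ t ht] at hc
  obtain ⟨j, hj⟩ := heven
  obtain ⟨i, rfl⟩ : ∃ i, s = 2 * i + 2 := ⟨j - 1, by omega⟩
  rw [Lib.SpUnipotent.card_dot_even hF i] at hc
  refine Nat.eq_of_mul_eq_mul_left (pow_pos (hF ▸ Fintype.card_pos) (2 * m - (2 * i + 2)))
    (hc.trans ?_)
  obtain ⟨l, rfl⟩ : ∃ l, m = 2 * i + 2 + l := ⟨m - (2 * i + 2), by omega⟩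
  have := Nat.le_self_pow two_ne_zero i
  have he : q ^ (2 * (2 * i + 2 + l) * (2 * i + 2) - (3 * (2 * i + 2) ^ 2 - (2 * i + 2)) / 2) *
      q ^ (2 * i + 1) = q ^ (2 * (2 * i + 2 + l) - (2 * i + 2)) *
        q ^ (2 * (2 * i + 2 + l) * (2 * i + 2 - 1) -
          (3 * (2 * i + 2) ^ 2 - 5 * (2 * i + 2)) / 2 - 1) := by
    rw [← pow_add, ← pow_add, show 2 * i + 2 - 1 = 2 * i + 1 by omega]
    congr 1
    ring_nf
    omega
  rw [show (2 * i + 2 - 2) / 2 = i by omega]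
  linear_combination ((q ^ i ^ 2 * ∏ k : Fin i, (q ^ (2 * ((k : ℕ) + 1)) - 1)) *
    (q ^ (2 * i + 2 + l - (2 * i + 2)) ^ 2 *
      ∏ k : Fin (2 * i + 2 + l - (2 * i + 2)), (q ^ (2 * ((k : ℕ) + 1)) - 1))) * he

end Cfsg.Agent.S2685
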