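import Cfsg.Statements.S2686
import Cfsg.Agent.Lib.AutPSL.AltCentralizer

set_option autoImplicit false
open Cfsg

namespace Cfsg.Agent.S2686

open Matrix Cfsg.Agent.Lib.AutPSL

variable {n : ℕ} {F : Type*} [Field F]

local notation "PSLn" => Matrix.ProjectiveSpecialLinearGroup (Fin n) F
local notation "GLn" => GL (Fin n) F

theorem mul_conj {K : Type*} [Group K] (c : MulAut K) (k : K) :
    c * MulAut.conj k = MulAut.conj (c k) * c := by
  ext g
  simp [MulAut.mul_apply, MulAut.conj_apply]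

theorem exists_odd_pow_eq_one {K : Type*} [Group K] {c : K} (hc : ¬ 2 ∣ orderOf c) :
    ∃ j, c ^ (2 * j + 1) = 1 := by
  obtain ⟨j, hj⟩ := Nat.odd_iff.2 (show orderOf c % 2 = 1 by omega)
  exact ⟨j, by rw [← hj, pow_orderOf_eq_one]⟩

/-- A characteristic subgroup of odd order of the inner part of the centraliser is trivial. -/
theorem eq_bot_of_le_inn [Fintype F] {G : GL (Fin n) F} {σ : F ≃+* F} (hσ : ∀ a, σ (σ a) = a) (h2 : (2 : F) ≠ 0)
    (hG : ((G : Matrix (Fin n) (Fin n) F).map σ)ᵀ = (G : Matrix (Fin n) (Fin n) F)) (hn : 3 ≤ n)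
    (W : Subgroup (MulAut PSLn)) (hW : W ≤ Cfsg.Inn PSLn ⊓ Subgroup.centralizer {gph G σ})
    (hWn : ∀ d ∈ Cfsg.Inn PSLn ⊓ Subgroup.centralizer {gph G σ}, ∀ w ∈ W, d * w * d⁻¹ ∈ W)
    (hWp : ¬ 2 ∣ Nat.card W) : W = ⊥ := by
  haveI : Fact (Nat.Prime 2) := ⟨Nat.prime_two⟩
  set M := Cfsg.inndiagPSL n F ⊓ Subgroup.centralizer {gph G σ}
  set D := Cfsg.Inn PSLn ⊓ Subgroup.centralizer {gph G σ} with hD
  have hDM : D ≤ M := inf_le_inf_right _ inn_le_inndiagPSL
  have hMD : ∀ c ∈ M, ∀ d ∈ D, c * d * c⁻¹ ∈ D := fun c hc d hd =>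
    ⟨(Cfsg.innNormal _).conj_mem d hd.1 c,
      (Subgroup.centralizer {gph G σ}).mul_mem ((Subgroup.centralizer {gph G σ}).mul_mem hc.2 hd.2)
        ((Subgroup.centralizer {gph G σ}).inv_mem hc.2)⟩
  set X := (Cfsg.pPrimeCore 2 D).map D.subtype with hX
  have hXD : X ≤ D := Subgroup.map_subtype_le _
  have hX0 : X = ⊥ := by
    refine eq_bot_of_normalized hσ h2 hG hn X (hXD.trans hDM) ?_ (by
      rw [hX, Subgroup.card_map_of_injective D.subtype_injective]
      exact Lib.Cores.not_dvd_card_pPrimeCore 2)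
    intro c hc x hx
    set Y := X.map (MulAut.conj c).toMonoidHom
    have hYD : Y ≤ D := by
      rintro _ ⟨y, hy, rfl⟩
      exact hMD c hc y (hXD hy)
    haveI : (Y.subgroupOf D).Normal := by
      refine ⟨?_⟩
      rintro ⟨y, hy'⟩ hy ⟨d, hd⟩
      obtain ⟨y₀, hy₀, rfl⟩ := (show y ∈ Y from hy)
      obtain ⟨z, hz, rfl⟩ := hy₀
      have hd' : c⁻¹ * d * c ∈ D := by simpa using hMD c⁻¹ (M.inv_mem hc) d hd
      refine ⟨_, ⟨⟨_, hd'⟩ * z * (⟨_, hd'⟩ : D)⁻¹, (Cfsg.pPrimeCore_normal 2 D).conj_mem z hz _, rfl⟩, ?_⟩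
      show c * (c⁻¹ * d * c * z * (c⁻¹ * d * c)⁻¹) * c⁻¹ = d * (c * z * c⁻¹) * d⁻¹
      group
    have h1 : Y.subgroupOf D ≤ Cfsg.pPrimeCore 2 D := by
      refine Lib.Cores.le_pPrimeCore_of_not_dvd ?_
      rw [Nat.card_congr (Subgroup.subgroupOfEquivOfLe hYD).toEquiv,
        Subgroup.card_map_of_injective (MulAut.conj c).injective, hX,
        Subgroup.card_map_of_injective D.subtype_injective]
      exact Lib.Cores.not_dvd_card_pPrimeCore 2
    exact ⟨⟨_, hMD c hc x (hXD hx)⟩, h1 (show c * x * c⁻¹ ∈ Y from ⟨x, hx, rfl⟩), rfl⟩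
  haveI : (W.subgroupOf D).Normal := ⟨fun w hw d => hWn d d.2 w hw⟩
  have h1 : W.subgroupOf D ≤ Cfsg.pPrimeCore 2 D := by
    refine Lib.Cores.le_pPrimeCore_of_not_dvd ?_
    rwa [Nat.card_congr (Subgroup.subgroupOfEquivOfLe hW).toEquiv]
  rw [eq_bot_iff, ← hX0]
  intro w hw
  exact ⟨⟨w, hW hw⟩, h1 hw, rfl⟩

/-- The graph and graph-field involutions. -/
theorem pPrimeCore_graph_eq_bot [Fintype F] (r : ℕ) [Fact r.Prime] [CharP F r] (hr2 : r ≠ 2) (hn : 3 ≤ n)
    (A : Subgroup (MulAut PSLn)) (hinn : Cfsg.Inn PSLn ≤ A) {g : GL (Fin n) F} {σ : F ≃+* F}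
    (hord : orderOf (gph g σ) = 2) (hnot : gph g σ ∉ Cfsg.inndiagPSL n F) :
    Cfsg.pPrimeCore 2 ↥(A ⊓ Subgroup.centralizer {gph g σ}) = ⊥ := by
  classical
  haveI : Fact (Nat.Prime 2) := ⟨Nat.prime_two⟩
  have hn2 : 2 ≤ n := by omega
  have h2 : (2 : F) ≠ 0 := fun h => hr2 (by
    have h1 : ((2 : ℕ) : F) = 0 := by simpa using h
    exact (Nat.prime_dvd_prime_iff_eq Fact.out Nat.prime_two).1 ((CharP.cast_eq_zero_iff F r 2).1 h1))
  have hsq : (conjAut (g * graphGL σ g) * fieldAut (σ ^ 2) : MulAut PSLn) = 1 := by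
    rw [← pow_orderOf_eq_one (gph g σ), hord, gph, pow_two (conjAut g * _), mul_assoc (conjAut g),
      ← mul_assoc (fieldAut σ * invT : MulAut PSLn), fieldAut_invT_conjAut, mul_assoc (conjAut _),
      ← pow_two (fieldAut σ * invT : MulAut PSLn), fieldAut_invT_pow_two, ← mul_assoc, ← map_mul]
  obtain ⟨hc0, hσ2⟩ := eq_one_of_conj_field hn2 hsq
  have hσ : ∀ a, σ (σ a) = a := fun a =>
    (RingEquiv.congr_fun (pow_two σ).symm a).trans (RingEquiv.congr_fun hσ2 a)
  rw [GeneralLinearGroup.center_eq_range_scalar] at hc0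
  obtain ⟨c, hc⟩ := hc0
  have hgT : (g : Matrix (Fin n) (Fin n) F) =
      (c : F) • ((g : Matrix (Fin n) (Fin n) F).map σ)ᵀ := by
    have h1 : g = GeneralLinearGroup.scalar (Fin n) c * (graphGL σ g)⁻¹ := by rw [hc, mul_inv_cancel_right]
    conv_lhs => rw [h1]
    rw [Units.val_mul, coe_graphGL_inv, GeneralLinearGroup.coe_scalar, scalar_apply, ← smul_one_eq_diagonal,
      Matrix.smul_mul, Matrix.one_mul]
  have hcc : (c : F) * σ c = 1 := by
    obtain ⟨i, j, h0⟩ : ∃ i j, (g : Matrix (Fin n) (Fin n) F) i j ≠ 0 := by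
      by_contra h
      push Not at h
      haveI : Nonempty (Fin n) := ⟨⟨0, by omega⟩⟩
      exact g.ne_zero (Matrix.ext h)
    have e1 := congrFun (congrFun hgT i) j
    have e2 := congrFun (congrFun hgT j) i
    simp only [Matrix.smul_apply, Matrix.transpose_apply, Matrix.map_apply, smul_eq_mul] at e1 e2
    rw [e2, map_mul, hσ, ← mul_assoc] at e1
    exact (mul_eq_right₀ h0).1 e1.symm
  -- normalise the form
  obtain ⟨G, hGg, hcase⟩ : ∃ G : GLn, gph G σ = gph g σ ∧
      (((G : Matrix (Fin n) (Fin n) F).map σ)ᵀ = (G : Matrix (Fin n) (Fin n) F) ∨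
        (σ = 1 ∧ (G : Matrix (Fin n) (Fin n) F)ᵀ = -(G : Matrix (Fin n) (Fin n) F))) := by
    by_cases hσ1 : σ = 1
    · refine ⟨g, rfl, ?_⟩
      subst hσ1
      have hid : (g : Matrix (Fin n) (Fin n) F).map ⇑(1 : F ≃+* F) = (g : Matrix (Fin n) (Fin n) F) :=
        Matrix.ext fun i j => rfl
      rw [hid] at hgT ⊢
      simp only [RingAut.one_apply] at hcc
      rcases mul_self_eq_one_iff.1 hcc with h | h
      · left; rw [h, one_smul] at hgT; exact hgT.symm
      · refine Or.inr ⟨rfl, ?_⟩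
        rw [h, neg_one_smul] at hgT
        exact (neg_eq_iff_eq_neg.1 hgT.symm)
    · have hσo : orderOf σ = 2 := orderOf_eq_prime hσ2 hσ1
      obtain ⟨w, hw⟩ := exists_div_of_tnorm_eq_one hσo (by norm_num) (z := c) (Units.ext (by
        simpa [tnorm_succ] using hcc))
      have hw' : (c : F) * σ w = w := by
        have := congrArg Units.val (eq_mul_inv_iff_mul_eq.1 hw)
        simpa using this
      refine ⟨GeneralLinearGroup.scalar (Fin n) (mapUnits σ w) * g, ?_, Or.inl ?_⟩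
      · rw [gph, gph, map_mul, conjAut_scalar, one_mul]
      · rw [Units.val_mul, GeneralLinearGroup.coe_scalar, scalar_apply, ← smul_one_eq_diagonal, Matrix.smul_mul,
          Matrix.one_mul]
        refine Matrix.ext fun i j => ?_
        have e1 := congrFun (congrFun hgT i) j
        simp only [Matrix.smul_apply, Matrix.transpose_apply, Matrix.map_apply, smul_eq_mul, coe_mapUnits] at e1 ⊢
        rw [map_mul, hσ, e1, ← mul_assoc, mul_comm (σ (w : F)), hw']
  rw [← hGg] at hord hnot ⊢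
  set β := gph G σ with hβ
  set C := A ⊓ Subgroup.centralizer {β}
  set D := Cfsg.Inn PSLn ⊓ Subgroup.centralizer {β}
  have hDC : D ≤ C := inf_le_inf_right _ hinn
  have hCD : ∀ c ∈ C, ∀ d ∈ D, c * d * c⁻¹ ∈ D := fun c hc d hd =>
    ⟨(Cfsg.innNormal _).conj_mem d hd.1 c,
      (Subgroup.centralizer {β}).mul_mem ((Subgroup.centralizer {β}).mul_mem hc.2 hd.2)
        ((Subgroup.centralizer {β}).inv_mem hc.2)⟩
  have hβD : β ∉ D := fun h => hnot (inn_le_inndiagPSL h.1)
  rcases hcase with hG | ⟨hσ1, hG⟩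
  · refine pPrimeCore_eq_bot_of (N := D) (x := β) le_rfl hDC (fun d hd k hk => D.mul_mem (D.mul_mem hd hk) (D.inv_mem hd))
      hCD ?_ hord hβD (fun W hW hWn hWp => eq_bot_of_le_inn hσ h2 hG hn W hW hWn hWp)
    intro x _ hx hcomm
    obtain ⟨j, hj⟩ := exists_odd_pow_eq_one hx
    rw [eq_one_of_centralizes hσ h2 hG hn hj fun u v hu hv _ =>
      hcomm _ (conjAut_refl_pair_mem hσ h2 hG hn2 hu hv)]
    exact one_mem _
  · subst hσ1
    refine pPrimeCore_eq_bot_of (N := (altAut G).range) (x := β) (altAut_range_le h2 hG hn2) hDC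
      (fun d hd => conj_mem_altAut_range h2 hG hn2 d (inf_le_inf_right _ inn_le_inndiagPSL hd))
      hCD ?_ hord hβD (fun W hW hWn hWp => eq_bot_of_le_altAut_range h2 hG hn r W hW hWn hWp)
    intro x _ hx hcomm
    obtain ⟨j, hj⟩ := exists_odd_pow_eq_one hx
    rw [eq_one_of_centralizes_alt h2 hG hn r hj hcomm]
    exact one_mem _

/-- A criterion for the failure of local balance in almost simple groups with linear socle. Let F be a finite field of characteristic r and K = PSL_n(F) (n ≥ 2) simple. Let A be a group of automorphisms of K containing all inner automorphisms (an almost simple group with socle K), and β ∈ A an automorphism of prime order p ≠ r that is not inner-diagonal (not induced by conjugation by an invertible matrix). Then the largest normal subgroup of C_A(β) of order prime to p is nontrivial if and only if β is the composite of an inner-diagonal automorphism with the automorphism induced by a field automorphism applied entrywise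 (β is of field type) and p does not divide the number of fixed points of β on K. -/
theorem result
    (F : Type*) [Field F] [Fintype F] (r : ℕ) [Fact r.Prime] [CharP F r] (n : ℕ) (hn : 2 ≤ n)
    (hK : IsSimpleGroup (Matrix.ProjectiveSpecialLinearGroup (Fin n) F))
    (𝒢 : Subgroup (MulAut (Matrix.ProjectiveSpecialLinearGroup (Fin n) F))) (hinn : ∀ k : Matrix.ProjectiveSpecialLinearGroup (Fin n) F, MulAut.conj k ∈ 𝒢)
    (p : ℕ) [Fact p.Prime] (hpr : p ≠ r) (β : MulAut (Matrix.ProjectiveSpecialLinearGroup (Fin n) F)) (hβ : β ∈ 𝒢) (hord : orderOf β = p)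
    (hnot : ¬ Cfsg.IsInnerDiagonalAutPSL β) :
    Cfsg.pPrimeCore p ↥(𝒢 ⊓ Subgroup.centralizer {β}) ≠ ⊥ ↔
      ((∃ γ φ : MulAut (Matrix.ProjectiveSpecialLinearGroup (Fin n) F), Cfsg.IsInnerDiagonalAutPSL γ ∧ Cfsg.IsFieldAutPSL φ ∧ β = φ.trans γ) ∧
        Nat.Coprime p (Nat.card ↥(MonoidHom.eqLocus β.toMonoidHom (MonoidHom.id (Matrix.ProjectiveSpecialLinearGroup (Fin n) F))))) := by
  classical
  have hp : p.Prime := Fact.out
  haveI : Finite (F ≃+* F) := Finite.of_injective (fun τ : F ≃+* F => (τ : F → F)) DFunLike.coe_injective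
  have hinn' : Cfsg.Inn (Matrix.ProjectiveSpecialLinearGroup (Fin n) F) ≤ 𝒢 := by
    rintro _ ⟨k, rfl⟩
    exact hinn k
  obtain ⟨g, σ, γ, hγ, hβd⟩ := exists_decomp hn β
  rcases hγ with rfl | ⟨h3, rfl⟩
  swap
  · -- graph type
    have hp2 : p = 2 := by
      refine hp.eq_two_or_odd'.resolve_right fun hodd => ?_
      obtain ⟨k, hk⟩ := hodd
      obtain ⟨a, τ, hτ⟩ : ∃ (a : GL (Fin n) F) (τ : F ≃+* F), β ^ 2 = conjAut a * fieldAut τ := by
        refine ⟨g * graphGL σ g, σ ^ 2, ?_⟩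
        rw [hβd, mul_assoc, pow_two, mul_assoc, ← mul_assoc (fieldAut σ * invT : MulAut (Matrix.ProjectiveSpecialLinearGroup (Fin n) F)),
          fieldAut_invT_conjAut, mul_assoc,
          ← pow_two (fieldAut σ * invT : MulAut (Matrix.ProjectiveSpecialLinearGroup (Fin n) F)), fieldAut_invT_pow_two,
          ← mul_assoc, ← map_mul]
      have h1 : β * (β ^ 2) ^ k = 1 := by rw [← pow_mul, ← pow_succ', ← hk, ← hord, pow_orderOf_eq_one]
      rw [hτ, conjAut_mul_fieldAut_pow, hβd] at h1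
      have h2 : (invT : MulAut (Matrix.ProjectiveSpecialLinearGroup (Fin n) F)) =
          (conjAut g * fieldAut σ)⁻¹ * (conjAut (tnorm (mapGL τ) a k) * fieldAut (τ ^ k))⁻¹ := by
        calc (invT : MulAut (Matrix.ProjectiveSpecialLinearGroup (Fin n) F))
            = (conjAut g * fieldAut σ)⁻¹ * (conjAut g * fieldAut σ * invT *
                (conjAut (tnorm (mapGL τ) a k) * fieldAut (τ ^ k))) *
                (conjAut (tnorm (mapGL τ) a k) * fieldAut (τ ^ k))⁻¹ := by group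
          _ = _ := by rw [h1, mul_one]
      rw [← _root_.mul_inv_rev] at h2
      have h4 := congrArg (fun y => y⁻¹) h2
      simp only [inv_inv, inv_eq_of_mul_eq_one_right (invT_mul_self (n := n) (F := F))] at h4
      rw [mul_assoc (conjAut _), ← mul_assoc (fieldAut (τ ^ k)), fieldAut_conjAut, mul_assoc (conjAut _),
        ← map_mul fieldAut, ← mul_assoc, ← map_mul] at h4
      exact conj_field_ne_invT h3 _ _ h4.symm
    subst hp2
    have hr2 : r ≠ 2 := fun h => hpr h.symm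
    have hβg : β = gph g σ := by rw [hβd, gph, mul_assoc]
    refine iff_of_false (not_not_intro ?_) ?_
    · rw [hβg]
      refine pPrimeCore_graph_eq_bot r hr2 h3 𝒢 hinn' (by rw [← hβg]; exact hord) fun h => hnot ?_
      rw [inndiagPSL_eq_range] at h
      obtain ⟨a, ha⟩ := h
      exact (isInnerDiagonalAutPSL_iff β).2 ⟨a, by rw [hβg, ha]⟩
    · rintro ⟨⟨γ, φ, hγ, hφ, he⟩, -⟩
      obtain ⟨a, rfl⟩ := (isInnerDiagonalAutPSL_iff γ).1 hγ
      obtain ⟨τ, rfl⟩ := (isFieldAutPSL_iff φ).1 hφ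
      have e1 : β = conjAut a * fieldAut τ := he.trans rfl
      rw [hβd] at e1
      refine conj_field_ne_invT h3 (mapGL σ⁻¹ (g⁻¹ * a)) (σ⁻¹ * τ) ?_
      calc (conjAut (mapGL σ⁻¹ (g⁻¹ * a)) * fieldAut (σ⁻¹ * τ) : MulAut (Matrix.ProjectiveSpecialLinearGroup (Fin n) F))
          = fieldAut σ⁻¹ * conjAut (g⁻¹ * a) * fieldAut τ := by rw [fieldAut_conjAut, mul_assoc, map_mul fieldAut]
        _ = (fieldAut σ)⁻¹ * ((conjAut g)⁻¹ * (conjAut a * fieldAut τ)) := by
            rw [map_inv fieldAut, map_mul, map_inv conjAut]; simp only [mul_assoc]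
        _ = invT := by rw [← e1]; group
  -- field type
  rw [mul_one] at hβd
  have hσ1 : σ ≠ 1 := fun h => hnot ((isInnerDiagonalAutPSL_iff β).2 ⟨g, by rw [hβd, h, map_one, mul_one]⟩)
  have hxp : (conjAut g * fieldAut σ : MulAut (Matrix.ProjectiveSpecialLinearGroup (Fin n) F)) ^ p = 1 := by
    rw [← hβd, ← hord, pow_orderOf_eq_one]
  have hσ : orderOf σ = p := by
    refine orderOf_eq_prime ?_ hσ1
    have h := hxp
    rw [conjAut_mul_fieldAut_pow] at h
    exact (eq_one_of_conj_field hn h).2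
  obtain ⟨a, ha⟩ := exists_conj_of_pow_eq_one hn hσ hp.pos hxp
  rw [← hβd] at ha
  have hfield : ∃ γ φ : MulAut (Matrix.ProjectiveSpecialLinearGroup (Fin n) F),
      Cfsg.IsInnerDiagonalAutPSL γ ∧ Cfsg.IsFieldAutPSL φ ∧ β = φ.trans γ :=
    ⟨conjAut g, fieldAut σ, (isInnerDiagonalAutPSL_iff _).2 ⟨g, rfl⟩, (isFieldAutPSL_iff _).2 ⟨σ, rfl⟩,
      hβd.trans rfl⟩
  rw [and_iff_right hfield, hp.coprime_iff_not_dvd]
  obtain ⟨f, hr', hF⟩ := FiniteField.card F r
  haveI := Cfsg.innNormal (Matrix.ProjectiveSpecialLinearGroup (Fin n) F)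
  set φ : MulAut (Matrix.ProjectiveSpecialLinearGroup (Fin n) F) := fieldAut σ with hφdef
  set A' := 𝒢.map (MulAut.conj (conjAut a)⁻¹).toMonoidHom with hA'
  set C := A' ⊓ Subgroup.centralizer {φ} with hC
  set D := Cfsg.Inn (Matrix.ProjectiveSpecialLinearGroup (Fin n) F) ⊓ Subgroup.centralizer {φ} with hD
  set N := (subAut (n := n) σ).range with hN
  have hND : N ≤ D := subAut_range_le σ
  have hN2 : 2 ∣ Nat.card N := two_dvd_card_subAut_range σ hn
  have hDne : D ≠ ⊥ := fun h => by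
    have h1 : N = ⊥ := le_bot_iff.1 (h ▸ hND)
    rw [h1, Subgroup.card_bot] at hN2
    omega
  have hcentre : Subgroup.center (Matrix.ProjectiveSpecialLinearGroup (Fin n) F) = ⊥ := by
    refine (Subgroup.Normal.eq_bot_or_eq_top inferInstance).resolve_right fun h => hDne ?_
    rw [eq_bot_iff]
    rintro _ ⟨⟨k, rfl⟩, -⟩
    rw [Subgroup.mem_bot]
    ext y
    have hk := Subgroup.mem_center_iff.1 (h ▸ Subgroup.mem_top k : k ∈ Subgroup.center _) y
    rw [MulAut.conj_apply, MulAut.one_apply, mul_inv_eq_iff_eq_mul, hk]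
  have hfix : Nat.card (MonoidHom.eqLocus β.toMonoidHom (MonoidHom.id (Matrix.ProjectiveSpecialLinearGroup (Fin n) F))) =
      Nat.card D := by
    rw [card_eqLocus hcentre, ha, card_inn_centralizer_conj]
  have hcore : Cfsg.pPrimeCore p ↥(𝒢 ⊓ Subgroup.centralizer {β}) = ⊥ ↔ Cfsg.pPrimeCore p C = ⊥ := by
    rw [ha]
    obtain ⟨e⟩ := nonempty_inf_centralizer_equiv 𝒢 φ (conjAut a)
    exact pPrimeCore_eq_bot_iff_of_equiv e
  have hinnA : Cfsg.Inn (Matrix.ProjectiveSpecialLinearGroup (Fin n) F) ≤ A' := by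
    rw [hA', ← map_conj_normal (Cfsg.Inn (Matrix.ProjectiveSpecialLinearGroup (Fin n) F)) (conjAut a)⁻¹]
    exact Subgroup.map_mono hinn'
  have hDC : D ≤ C := inf_le_inf_right _ hinnA
  have hCD : ∀ c ∈ C, ∀ d ∈ D, c * d * c⁻¹ ∈ D := fun c hc d hd =>
    ⟨(Cfsg.innNormal _).conj_mem d hd.1 c,
      (Subgroup.centralizer {φ}).mul_mem ((Subgroup.centralizer {φ}).mul_mem hc.2 hd.2)
        ((Subgroup.centralizer {φ}).inv_mem hc.2)⟩
  rw [hfix, Ne, hcore]
  refine ⟨fun hne hpD => hne ?_, fun hnd => pPrimeCore_ne_bot_of hDC hCD hDne hnd⟩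
  have hDM : D ≤ (incAut (n := n) σ).range :=
    le_trans (inf_le_inf_right _ inn_le_inndiagPSL) (inndiag_centralizer_le σ hn)
  have hpN : p ∣ Nat.card N := dvd_card_subAut_range σ hn hDM hpD
  have hordφ : orderOf φ = p := by rw [hφdef, orderOf_injective _ (fieldAut_injective hn), hσ]
  have hφD : φ ∉ D := fun hmem => by
    have h1 := inn_le_inndiagPSL hmem.1
    rw [inndiagPSL_eq_range] at h1
    obtain ⟨h, hh⟩ := h1
    refine hσ1 (eq_one_of_conj_field hn (g := h⁻¹) (σ := σ) ?_).2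
    rw [map_inv, ← hφdef, ← hh, inv_mul_cancel]
  refine pPrimeCore_eq_bot_of (N := N) (x := φ) hND hDC ?_ hCD ?_ hordφ hφD
    (fun W hW hWn hWp => eq_bot_of_le_subAut_range σ hn r hpr hpN W hW hWn hWp)
  · intro d hd k hk
    obtain ⟨h, rfl⟩ := hDM hd
    exact conj_mem_subAut_range σ h k hk
  · intro c _ _ hcomm
    obtain ⟨τ, rfl, hτ⟩ := eq_fieldAut_of_fix_xr σ hn (c := c) fun i j hij t ht => by
      have h1 := hcomm _ (conj_xr_mem_subAut_range σ hij ht)
      rw [mul_conj] at h1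
      have h2 := mul_right_cancel h1
      have hk : (xr i j t : Matrix.ProjectiveSpecialLinearGroup (Fin n) F)⁻¹ * c (xr i j t) ∈
          Subgroup.center (Matrix.ProjectiveSpecialLinearGroup (Fin n) F) := by
        rw [Subgroup.mem_center_iff]
        intro w
        have h3 := DFunLike.congr_fun h2 w
        simp only [MulAut.conj_apply] at h3
        calc w * ((xr i j t)⁻¹ * c (xr i j t))
            = (xr i j t)⁻¹ * (xr i j t * w * (xr i j t)⁻¹) * c (xr i j t) := by group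
          _ = (xr i j t)⁻¹ * (c (xr i j t) * w * (c (xr i j t))⁻¹) * c (xr i j t) := by rw [h3]
          _ = (xr i j t)⁻¹ * c (xr i j t) * w := by group
      rw [hcentre, Subgroup.mem_bot, inv_mul_eq_one] at hk
      exact hk.symm
    obtain ⟨k, hk⟩ := Subgroup.mem_zpowers_iff.1 (mem_zpowers_of_fix hF σ τ hτ)
    exact Subgroup.mem_zpowers_iff.2 ⟨k, by rw [← hk, map_zpow]⟩

end Cfsg.Agent.S2686
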