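import Cfsg.Statements.S2687
import Cfsg.Agent.Lib.AutPSU.LocalOdd
import Cfsg.Agent.Lib.AutPSU.LocalTwo

set_option autoImplicit false
open Cfsg

namespace Cfsg.Agent.S2687

/-- A criterion for the failure of local balance in almost simple groups with unitary socle. Let F be a finite field of characteristic r with q² elements and K = PSU_n(q) (n ≥ 3, the central quotient of the determinant-one isometries of the standard Hermitian form) simple. Let A be a group of automorphisms of K containing all inner automorphisms, and β ∈ A an automorphism of prime order p ≠ r that is not inner-diagonal (not induced by conjugation by a matrix of the general unitary group). Then the largest normal subgroup of C_A(β) of order prime to p is nontrivial if and only if β is the composite of an inner-diagonal automorphism with the automorphism induced by a field automorphism of F applied entrywise and p does not divide the number of fixed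 points of β on K. -/
theorem result
    (F : Type*) [Field F] [Fintype F] (r : ℕ) [Fact r.Prime] [CharP F r] (q : ℕ) (hF : Fintype.card F = q ^ 2)
    (n : ℕ) (hn : 3 ≤ n) (hK : IsSimpleGroup (Cfsg.PSU n F q))
    (𝒢 : Subgroup (MulAut (Cfsg.PSU n F q))) (hinn : ∀ k : Cfsg.PSU n F q, MulAut.conj k ∈ 𝒢)
    (p : ℕ) [Fact p.Prime] (hpr : p ≠ r) (β : MulAut (Cfsg.PSU n F q)) (hβ : β ∈ 𝒢) (hord : orderOf β = p)
    (hnot : ¬ Cfsg.IsInnerDiagonalAutPSU β) :
    Cfsg.pPrimeCore p ↥(𝒢 ⊓ Subgroup.centralizer {β}) ≠ ⊥ ↔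
      ((∃ γ φ : MulAut (Cfsg.PSU n F q), Cfsg.IsInnerDiagonalAutPSU γ ∧ (∃ σ : F ≃+* F, Cfsg.IsFieldAutPSUOf σ φ) ∧ β = φ.trans γ) ∧
        Nat.Coprime p (Nat.card ↥(MonoidHom.eqLocus β.toMonoidHom (MonoidHom.id (Cfsg.PSU n F q))))) := by
  classical
  have h32 := Cfsg.Agent.Lib.AutPSU.not32_of_isSimple hF hK
  obtain ⟨g, τ, hdec⟩ := Cfsg.Agent.Lib.AutPSU.exists_decomp hF hn h32 β
  have hinn' : Cfsg.Inn (Cfsg.PSU n F q) ≤ 𝒢 := by
    rintro _ ⟨k, rfl⟩; exact hinn k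
  have hp : p.Prime := Fact.out
  have hτ1 : τ ≠ 1 := by
    rintro rfl
    apply hnot
    rw [Cfsg.Agent.Lib.AutPSU.isInnerDiagonalAutPSU_iff]
    exact ⟨g, by rw [hdec, map_one, mul_one]⟩
  have hτp : orderOf τ = p := by
    have h1 : orderOf τ ∣ p := by
      rw [← hord, ← Cfsg.Agent.Lib.AutPSU.fieldPart_fieldPSU hF hn h32 (σ := τ)]
      have h2 : Cfsg.Agent.Lib.AutPSU.fieldPart hF hn h32 β =
          Cfsg.Agent.Lib.AutPSU.fieldPart hF hn h32 (Cfsg.Agent.Lib.AutPSU.fieldPSU n F q τ) := by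
        rw [hdec, map_mul, Cfsg.Agent.Lib.AutPSU.fieldPart_conjPSU, one_mul]
      rw [← h2]
      exact orderOf_map_dvd _ _
    exact ((Nat.dvd_prime hp).1 h1).resolve_left fun h => hτ1 (orderOf_eq_one_iff.1 h)
  have hfirst : ∃ γ φ : MulAut (Cfsg.PSU n F q), Cfsg.IsInnerDiagonalAutPSU γ ∧
      (∃ σ : F ≃+* F, Cfsg.IsFieldAutPSUOf σ φ) ∧ β = φ.trans γ :=
    ⟨_, _, Cfsg.Agent.Lib.AutPSU.isInnerDiagonalAutPSU_iff.2 ⟨g, rfl⟩,
      ⟨τ, Cfsg.Agent.Lib.AutPSU.isFieldAutPSUOf_fieldPSU τ⟩, hdec⟩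
  have hpow : (Cfsg.Agent.Lib.AutPSU.conjPSU n F q g * Cfsg.Agent.Lib.AutPSU.fieldPSU n F q τ) ^ p = 1 := by
    rw [← hdec, ← hord, pow_orderOf_eq_one]
  rw [and_iff_right hfirst, hp.coprime_iff_not_dvd,
    Cfsg.Agent.Lib.AutPSL.card_eqLocus (Cfsg.Agent.Lib.AutPSU.center_PSU_eq_bot hF hn) β]
  rcases hp.eq_two_or_odd' with hp2 | hpo
  · subst hp2
    obtain ⟨h1, h2⟩ := Cfsg.Agent.Lib.AutPSU.two_part (r := r) (fun h => hpr h.symm) hF hn h32 hτp
      hpow hinn'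
    rw [← hdec] at h1 h2
    exact iff_of_false (fun h => h h1) (fun h => h h2)
  · obtain ⟨h, hh⟩ := Cfsg.Agent.Lib.AutPSU.exists_conj_of_pow_eq_one hF hn hτp hpo hpow
    obtain ⟨q0, hcK, hKq⟩ := Cfsg.Agent.Lib.AutPSU.exists_q0 hF hτp hpo
    letI : Fintype (Cfsg.Agent.Lib.AutPSL.fixField τ) := Fintype.ofFinite _
    have hcK' : Fintype.card (Cfsg.Agent.Lib.AutPSL.fixField τ) = q0 ^ 2 := by
      rw [← Nat.card_eq_fintype_card, hcK]
    rw [hdec, hh, Cfsg.Agent.Lib.AutPSL.card_inn_centralizer_conj]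
    set a := Cfsg.Agent.Lib.AutPSU.conjPSU n F q h
    set x := Cfsg.Agent.Lib.AutPSU.fieldPSU n F q τ
    obtain ⟨e⟩ := Cfsg.Agent.Lib.AutPSL.nonempty_inf_centralizer_equiv 𝒢 x a
    have hinn'' : Cfsg.Inn (Cfsg.PSU n F q) ≤ 𝒢.map (MulAut.conj a⁻¹).toMonoidHom := by
      haveI := Cfsg.innNormal (Cfsg.PSU n F q)
      rw [← Cfsg.Agent.Lib.AutPSL.map_conj_normal (Cfsg.Inn (Cfsg.PSU n F q)) a⁻¹]
      exact Subgroup.map_mono hinn'
    refine (not_congr (Cfsg.Agent.Lib.AutPSL.pPrimeCore_eq_bot_iff_of_equiv e)).trans ?_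
    exact Cfsg.Agent.Lib.AutPSU.pPrimeCore_iff_std (Cfsg.Agent.Lib.AutPSL.fixField τ).subtype hF hcK'
      (fun y => hKq (y : F) y.2) (fun z => ⟨fun hz => ⟨⟨z, hz⟩, rfl⟩, by rintro ⟨y, rfl⟩; exact y.2⟩)
      hn h32 hpo hτp hinn''

end Cfsg.Agent.S2687
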