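import Cfsg.Statements.S2697
import Cfsg.Agent.Lib.AutPSL.Classes

set_option autoImplicit false
open Cfsg

namespace Cfsg.Agent.S2697

/-- Let T = PSL_n(F) be simple over a finite field (n ≥ 2; |F| ≥ 4 when n = 2) and let x be a field automorphism or a graph-field automorphism of T of prime order r. Then an element y of the coset Inndiag(T)·x (that is, y = δ x with δ in the inner-diagonal group, the image of PGL_n(F)) has order r if and only if y is conjugate to x by an element of Inndiag(T). -/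
theorem result {F : Type*} [Field F] [Fintype F] {p f : ℕ} [Fact p.Prime] (hF : Fintype.card F = p ^ f) (hf : 1 ≤ f) {n : ℕ} (hn : 2 ≤ n) (hs : n = 2 → 4 ≤ Fintype.card F) (x δ : MulAut (Matrix.ProjectiveSpecialLinearGroup (Fin n) F)) (hx : Cfsg.IsFieldAutClassPSL x ∨ Cfsg.IsGraphFieldAutClassPSL x) {r : ℕ} (hr : r.Prime) (hxr : orderOf x = r) (hδ : δ ∈ Cfsg.inndiagPSL n F) :
    orderOf (δ * x) = r ↔ Cfsg.IsConjUnder (Cfsg.inndiagPSL n F) x (δ * x) := by
  classical
  obtain ⟨g₀, hg₀⟩ : ∃ g, Lib.AutPSL.conjAut g = δ := by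
    rw [Lib.AutPSL.inndiagPSL_eq_range] at hδ
    exact hδ
  constructor
  · intro hord
    have hpow : (δ * x) ^ r = 1 := by rw [← hord, pow_orderOf_eq_one]
    -- reduce to the standard representative
    have key : ∀ (a : GL (Fin n) F) (ψ : MulAut (Matrix.ProjectiveSpecialLinearGroup (Fin n) F)),
        x = Lib.AutPSL.conjAut a * ψ * (Lib.AutPSL.conjAut a)⁻¹ →
        (∀ g, ∃ θg, ψ * Lib.AutPSL.conjAut g = Lib.AutPSL.conjAut θg * ψ) →
        (∀ g, (Lib.AutPSL.conjAut g * ψ) ^ r = 1 →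
          ∃ h, Lib.AutPSL.conjAut g * ψ = Lib.AutPSL.conjAut h * ψ * (Lib.AutPSL.conjAut h)⁻¹) →
        Cfsg.IsConjUnder (Cfsg.inndiagPSL n F) x (δ * x) := by
      intro a ψ hx' hθ hmain
      obtain ⟨t, ht⟩ := hθ a⁻¹
      have h1 : δ * x = Lib.AutPSL.conjAut (g₀ * a * t) * ψ := by
        rw [hx', ← hg₀, ← map_inv, map_mul, map_mul, mul_assoc (Lib.AutPSL.conjAut a), ht]
        simp only [mul_assoc]
      obtain ⟨h, hh⟩ := hmain (g₀ * a * t) (by rw [← h1, hpow])
      refine ⟨Lib.AutPSL.conjAut (h * a⁻¹), Lib.AutPSL.conjAut_mem_inndiag _, ?_⟩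
      rw [h1, hh, hx', map_mul, map_inv]
      group
    rcases hx with hx | hx
    · obtain ⟨σ, a, -, hx', hxo⟩ := Lib.AutPSL.exists_std_field hn hx
      refine key a _ hx' (fun g => ⟨_, Lib.AutPSL.fieldAut_conjAut σ g⟩) fun g hg => ?_
      exact Lib.AutPSL.exists_conj_of_pow_eq_one hn (hxo.symm.trans hxr) hr.pos hg
    · obtain ⟨rfl, σ, a, hσ, hx'⟩ := Lib.AutPSL.exists_std_graphField hx hr hxr
      exact key a _ hx' (fun g => ⟨_, Lib.AutPSL.fieldAut_invT_conjAut σ g⟩) fun g hg =>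
        Lib.AutPSL.exists_conj_of_sq_eq_one hn hσ hg
  · rintro ⟨h, -, e⟩
    rw [e, ← MulAut.conj_apply, MulEquiv.orderOf_eq, hxr]

end Cfsg.Agent.S2697
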