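import Cfsg.Statements.S2698
import Cfsg.Agent.Lib.AutPSL.Classes

set_option autoImplicit false
open Cfsg

namespace Cfsg.Agent.S2698

open Matrix Cfsg.Agent.Lib.AutPSL

/-- Let T = PSL_n(F) be simple over the field F with p^f elements (n ≥ 2; p^f ≥ 4 when n = 2), G = Inndiag(T) the image of PGL_n(F) in Aut(T), and x a field automorphism of T of prime order r. Then r divides f; the centralizer C_G(x) is isomorphic to PGL_n(F₀) for the subfield size |F₀| = p^(f/r); and the G-class of x is the union of exactly gcd(n, (p^f − 1)/(p^(f/r) − 1)) classes under conjugation by T (the inner automorphism group). -/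
theorem result {F : Type*} [Field F] [Fintype F] {p f : ℕ} [Fact p.Prime] (hF : Fintype.card F = p ^ f) (hf : 1 ≤ f) {n : ℕ} (hn : 2 ≤ n) (hs : n = 2 → 4 ≤ Fintype.card F) (x : MulAut (Matrix.ProjectiveSpecialLinearGroup (Fin n) F)) (hx : Cfsg.IsFieldAutClassPSL x) {r : ℕ} (hr : r.Prime) (hxr : orderOf x = r) (F₀ : Type*) [Field F₀] [Fintype F₀] (hF₀ : Fintype.card F₀ = p ^ (f / r)) :
    r ∣ f ∧ Nonempty (↥(Cfsg.inndiagPSL n F ⊓ Subgroup.centralizer {x}) ≃* Matrix.ProjGenLinGroup (Fin n) F₀) ∧ Cfsg.splitClassCount (Cfsg.inndiagPSL n F) (Cfsg.Inn (Matrix.ProjectiveSpecialLinearGroup (Fin n) F)) x = Nat.gcd n ((p ^ f - 1) / (p ^ (f / r) - 1)) := by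
  classical
  obtain ⟨σ, a, hσ1, hx', hxo⟩ := exists_std_field hn hx
  have hσ : orderOf σ = r := hxo.symm.trans hxr
  obtain ⟨hrf, hfix⟩ := card_fixField hF hσ
  obtain ⟨ι, hι⟩ := exists_fixField_hom hF hσ F₀ hF₀
  have ha : conjAut a ∈ Cfsg.inndiagPSL n F := conjAut_mem_inndiag a
  let μ : GL (Fin n) F₀ →* GL (Fin n) F := GeneralLinearGroup.map ι
  have hμσ : ∀ h, mapGL σ (μ h) = μ h := fun h =>
    Units.ext (Matrix.ext fun i j => (hι _).2 ⟨(h : Matrix (Fin n) (Fin n) F₀) i j, rfl⟩)
  have hμcent : ∀ h, μ h ∈ cent (fieldAut σ) := fun h => by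
    rw [mem_cent, fieldAut_conjAut, hμσ]
  -- elements of the centraliser are scalar multiples of matrices over the fixed field
  have hscale : ∀ g ∈ cent (fieldAut σ : MulAut (Matrix.ProjectiveSpecialLinearGroup (Fin n) F)),
      ∃ (z : Fˣ) (h : GL (Fin n) F₀), g = GeneralLinearGroup.scalar (Fin n) z * μ h := by
    intro g hg
    rw [mem_cent, fieldAut_conjAut] at hg
    obtain ⟨c, hc⟩ := (conjAut_eq_iff hn).1 (mul_right_cancel hg)
    have hent : ∀ i j, σ ((g : Matrix (Fin n) (Fin n) F) i j) = c * (g : Matrix (Fin n) (Fin n) F) i j := by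
      intro i j
      have := congrArg (fun A : GL (Fin n) F => (A : Matrix (Fin n) (Fin n) F) i j) hc
      simpa [GeneralLinearGroup.coe_scalar] using this
    haveI : Nonempty (Fin n) := ⟨⟨0, by omega⟩⟩
    obtain ⟨i₀, j₀, h0⟩ : ∃ i j, (g : Matrix (Fin n) (Fin n) F) i j ≠ 0 := by
      by_contra h
      push Not at h
      exact g.ne_zero (Matrix.ext h)
    set z : Fˣ := Units.mk0 _ h0
    have hfixed : ∀ i j, ∃ y, ι y = (z : F)⁻¹ * (g : Matrix (Fin n) (Fin n) F) i j := fun i j =>
      (hι _).1 (by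
        show σ ((z : F)⁻¹ * (g : Matrix (Fin n) (Fin n) F) i j) = _
        rw [map_mul, map_inv₀, Units.val_mk0, hent, hent, _root_.mul_inv_rev, mul_assoc,
          inv_mul_cancel_left₀ c.ne_zero])
    choose Y hY using hfixed
    have hY' : (Matrix.of Y).map ι = (z : F)⁻¹ • (g : Matrix (Fin n) (Fin n) F) :=
      Matrix.ext fun i j => hY i j
    have hdet : IsUnit (Matrix.of Y) := by
      rw [Matrix.isUnit_iff_isUnit_det, isUnit_iff_ne_zero]
      intro h
      have h1 := ι.map_det (Matrix.of Y)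
      rw [RingHom.mapMatrix_apply, hY', h, map_zero, Matrix.det_smul] at h1
      exact mul_ne_zero (pow_ne_zero _ (inv_ne_zero z.ne_zero))
        ((Matrix.isUnit_iff_isUnit_det _).1 g.isUnit).ne_zero h1.symm
    refine ⟨z, hdet.unit, Units.ext ?_⟩
    show _ = Matrix.scalar (Fin n) (z : F) * (Matrix.of Y).map ι
    rw [hY', Matrix.scalar_apply, ← Matrix.smul_one_eq_diagonal, Matrix.smul_mul, Matrix.one_mul, smul_smul,
      mul_inv_cancel₀ z.ne_zero, one_smul]
  let Ψ : GL (Fin n) F₀ →* MulAut (Matrix.ProjectiveSpecialLinearGroup (Fin n) F) := conjAut.comp μ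
  have hrange : Ψ.range = Cfsg.inndiagPSL n F ⊓ Subgroup.centralizer {fieldAut σ} := by
    rw [inndiag_inf_centralizer]
    ext y
    constructor
    · rintro ⟨h, rfl⟩
      exact ⟨μ h, hμcent h, rfl⟩
    · rintro ⟨g, hg, rfl⟩
      obtain ⟨z, h, rfl⟩ := hscale g hg
      exact ⟨h, by rw [map_mul, conjAut_scalar, one_mul]; rfl⟩
  have hker : Subgroup.center (GL (Fin n) F₀) = Ψ.ker := by
    ext h
    rw [MonoidHom.mem_ker, GeneralLinearGroup.center_eq_range_scalar]
    constructor
    · rintro ⟨c, rfl⟩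
      show conjAut (μ _) = 1
      rw [show μ (GeneralLinearGroup.scalar (Fin n) c) = _ from GeneralLinearGroup.map_scalar ι c,
        conjAut_scalar]
    · intro h1
      obtain ⟨c, hc⟩ := exists_scalar_of_conjAut_eq_one hn h1
      have hent : ∀ i j, ι ((h : Matrix (Fin n) (Fin n) F₀) i j) = if i = j then (c : F) else 0 := by
        intro i j
        have := congrArg (fun A : GL (Fin n) F => (A : Matrix (Fin n) (Fin n) F) i j) hc
        simpa [μ, GeneralLinearGroup.coe_scalar, Matrix.diagonal_apply] using this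
      have h00 : (h : Matrix (Fin n) (Fin n) F₀) ⟨0, by omega⟩ ⟨0, by omega⟩ ≠ 0 := fun h' => by
        have := hent ⟨0, by omega⟩ ⟨0, by omega⟩
        rw [h', map_zero, if_pos rfl] at this
        exact c.ne_zero this.symm
      refine ⟨Units.mk0 _ h00, Units.ext (Matrix.ext fun i j => ι.injective ?_)⟩
      rw [hent i j]
      simp only [GeneralLinearGroup.coe_scalar, Matrix.scalar_apply, Matrix.diagonal_apply, Units.val_mk0]
      split_ifs with hij
      · rw [hent, if_pos rfl]
      · rw [map_zero]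
  refine ⟨hrf, ?_, ?_⟩
  · rw [hx']
    obtain ⟨e⟩ := centralizer_conj_equiv ha (fieldAut σ : MulAut (Matrix.ProjectiveSpecialLinearGroup (Fin n) F))
    exact ⟨e.trans ((MulEquiv.subgroupCongr hrange.symm).trans ((QuotientGroup.quotientKerEquivRange Ψ).symm.trans
      (QuotientGroup.quotientMulEquivOfEq hker.symm)))⟩
  · rw [hx', splitClassCount_conj _ ha, splitClassCount_eq_gcd hn _ (fixUnits σ)]
    · congr 1
      have h1 := (fixUnits σ).card_mul_index
      rw [card_fixUnits, hfix, Nat.card_units, Nat.card_eq_fintype_card, hF] at h1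
      have h2 : 0 < p ^ (f / r) - 1 := by
        rw [← hfix, ← card_fixUnits]; exact Nat.card_pos
      rw [← h1, Nat.mul_div_cancel_left _ h2]
    · intro g hg
      obtain ⟨z, h, rfl⟩ := hscale g hg
      rw [map_mul, GeneralLinearGroup.det_scalar, Fintype.card_fin]
      refine mul_mem (Subgroup.mem_sup_left ⟨z, rfl⟩) (Subgroup.mem_sup_right ?_)
      rw [mem_fixUnits, ← det_mapGL, hμσ]
    · intro u hu
      obtain ⟨y, hy⟩ := (hι _).1 (congrArg Units.val (mem_fixUnits.1 hu))
      have hy0 : y ≠ 0 := fun h => u.ne_zero (by rw [← hy, h, map_zero])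
      obtain ⟨h, hh⟩ := det_surjective (F := F₀) (n := n) (by omega) (Units.mk0 y hy0)
      refine ⟨μ h, hμcent h, Units.ext ?_⟩
      rw [show GeneralLinearGroup.det (μ h) = Units.map ι (GeneralLinearGroup.det h) from
        Units.ext (ι.map_det (h : Matrix (Fin n) (Fin n) F₀)).symm, hh]
      exact hy

end Cfsg.Agent.S2698
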