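import Cfsg.Statements.S2699
import Cfsg.Agent.Lib.GraphClasses.PSLTwo

set_option autoImplicit false
open Cfsg

namespace Cfsg.Agent.S2699

open Cfsg.Agent.Lib Cfsg.Agent.Lib.GraphClasses Matrix

/-- Let T = PSL_n(F) over the field with p^f elements with n ≥ 3 odd, n = 2m + 1, and G = Inndiag(T) the image of PGL_n(F). Every involutory graph automorphism γ of T (an inner-diagonal automorphism followed by inverse-transpose, of order 2) has centralizer C_G(γ) isomorphic to the projective conformal orthogonal group of the form x₀² + Σ xᵢ yᵢ in dimension n (for q even this group is isomorphic to Sp_{n−1}(q)), and any two involutory graph automorphisms are G-conjugate. -/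
theorem result {F : Type*} [Field F] [Fintype F] {p f : ℕ} [Fact p.Prime] (hF : Fintype.card F = p ^ f) (hf : 1 ≤ f) {n : ℕ} (hn : 3 ≤ n) {m : ℕ} (hnm : n = 2 * m + 1) (γ γ' : MulAut (Matrix.ProjectiveSpecialLinearGroup (Fin n) F)) (hγ : Cfsg.IsGraphAutClassPSL γ) (hγ2 : orderOf γ = 2) (hγ' : Cfsg.IsGraphAutClassPSL γ') (hγ'2 : orderOf γ' = 2) :
    Nonempty (↥(Cfsg.inndiagPSL n F ⊓ Subgroup.centralizer {γ}) ≃* Cfsg.PGO F (Cfsg.quadFormOdd m F)) ∧ Cfsg.IsConjUnder (Cfsg.inndiagPSL n F) γ γ' := by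
  classical
  obtain ⟨H, rfl, hH⟩ := exists_form hn hγ hγ2
  obtain ⟨H', rfl, hH'⟩ := exists_form hn hγ' hγ'2
  by_cases h2 : (2 : F) = 0
  · haveI hc : CharP F 2 := CharTwo.of_one_ne_zero_of_two_eq_zero one_ne_zero h2
    refine ⟨nonempty_odd_two hn hnm H (symm_of_skew hH), (isConjUnder_iff (by omega) H H').2 ?_⟩
    obtain ⟨P, hP⟩ := exists_congr_two (symm_of_skew hH') (det_ne H') (nonalt_of_odd hnm H')
      (symm_of_skew hH) (det_ne H) (nonalt_of_odd hnm H)
    exact ⟨P, 1, by rw [hP, Units.val_one, one_smul]⟩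
  · have hsym : ∀ K : GL (Fin n) F, (K : Matrix (Fin n) (Fin n) F).transpose = -(K : Matrix (Fin n) (Fin n) F) → False := by
      intro K hK
      obtain ⟨k, e, -, -⟩ := exists_alt_congr (alt_of_skew h2 hK) (det_ne K)
      have := Fintype.card_congr e
      simp at this
      omega
    have hs : (H : Matrix (Fin n) (Fin n) F).transpose = H := hH.resolve_right (hsym H)
    have hs' : (H' : Matrix (Fin n) (Fin n) F).transpose = H' := hH'.resolve_right (hsym H')
    exact ⟨nonempty_odd hn h2 hnm H hs,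
      (isConjUnder_iff (by omega) H H').2 (exists_similar h2 ⟨m, hnm⟩ hs' hs (det_ne H') (det_ne H))⟩

end Cfsg.Agent.S2699
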