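import Cfsg.Statements.S2700
import Cfsg.Agent.Lib.GraphClasses.PSL

set_option autoImplicit false
open Cfsg

namespace Cfsg.Agent.S2700

open Cfsg.Agent.Lib Cfsg.Agent.Lib.GraphClasses

/-- Let T = PSL_n(F) over a finite field of odd order with n = 2m ≥ 4 even, and G = Inndiag(T) the image of PGL_n(F). The involutory graph automorphisms of T fall into exactly three G-classes, with representatives γ₁, γ₂, γ₃ whose centralizers in G are isomorphic respectively to the projective conformal symplectic group PGSp_n(F), the projective conformal orthogonal group of the plus-type form Σ xᵢ yᵢ, and that of a minus-type form Σ xᵢ yᵢ + z₁² + a z₁ z₂ + b z₂² (anisotropic binary part) in dimension n. -/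
theorem result {F : Type*} [Field F] [Fintype F] (hodd : Odd (Fintype.card F)) {n m : ℕ} (hm : 2 ≤ m) (hnm : n = 2 * m) :
    ∃ (γ₁ γ₂ γ₃ : MulAut (Matrix.ProjectiveSpecialLinearGroup (Fin n) F)) (a b : F), (∀ z₁ z₂ : F, z₁ ^ 2 + a * z₁ * z₂ + b * z₂ ^ 2 = 0 → z₁ = 0 ∧ z₂ = 0) ∧ Cfsg.IsGraphAutClassPSL γ₁ ∧ orderOf γ₁ = 2 ∧ Cfsg.IsGraphAutClassPSL γ₂ ∧ orderOf γ₂ = 2 ∧ Cfsg.IsGraphAutClassPSL γ₃ ∧ orderOf γ₃ = 2 ∧ ¬ Cfsg.IsConjUnder (Cfsg.inndiagPSL n F) γ₁ γ₂ ∧ ¬ Cfsg.IsConjUnder (Cfsg.inndiagPSL n F) γ₁ γ₃ ∧ ¬ Cfsg.IsConjUnder (Cfsg.inndiagPSL n F) γ₂ γ₃ ∧ (∀ γ : MulAut (Matrix.ProjectiveSpecialLinearGroup (Fin n) F), Cfsg.IsGraphAutClassPSL γ → orderOf γ = 2 → Cfsg.IsConjUnder (Cfsg.inndiagPSL n F) γ₁ γ ∨ Cfsg.IsConjUnder (Cfsg.inndiagPSL n F) γ₂ γ ∨ Cfsg.IsConjUnder (Cfsg.inndiagPSL n F) γ₃ γ) ∧ Nonempty (↥(Cfsg.inndiagPSL n F ⊓ Subgroup.centralizer {γ₁}) ≃* Cfsg.PGSp m F) ∧ Nonempty (↥(Cfsg.inndiagPSL n F ⊓ Subgroup.centralizer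 {γ₂}) ≃* Cfsg.PGO F (Cfsg.quadFormPlus m F)) ∧ Nonempty (↥(Cfsg.inndiagPSL n F ⊓ Subgroup.centralizer {γ₃}) ≃* Cfsg.PGO F (Cfsg.quadFormMinus (m - 1) F a b)) := by
  classical
  have h2 := two_ne_zero_of_odd hodd
  obtain ⟨a, b, hab⟩ := exists_anisotropic h2
  let e1 : Fin m ⊕ Fin m ≃ Fin n := Fintype.equivFinOfCardEq (by simp; omega)
  let e3 : (Fin (m - 1) ⊕ Fin (m - 1)) ⊕ Fin 2 ≃ Fin n := Fintype.equivFinOfCardEq (by simp; omega)
  have d1 : (Matrix.reindex e1 e1 (Matrix.J (Fin m) F)).det ≠ 0 := by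
    rw [Matrix.det_reindex_self, SymplecticGroup.det_eq_one (SymplecticGroup.J_mem _ _)]
    exact one_ne_zero
  have d2 : (Matrix.reindex e1 e1 (Forms.gram (Forms.qPlus (F := F) m))).det ≠ 0 := by
    rw [Matrix.det_reindex_self, det_qPlus]
    exact pow_ne_zero _ (neg_ne_zero.2 one_ne_zero)
  have d3 : (Matrix.reindex e3 e3 (Forms.gram (OrthStd.qMinusC (m - 1) a b))).det ≠ 0 := by
    rw [Matrix.det_reindex_self]
    exact det_minus_ne h2 _ hab
  let H1 := mkGL _ d1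
  let H2 := mkGL _ d2
  let H3 := mkGL _ d3
  have t1 : (H1 : Matrix (Fin n) (Fin n) F).transpose = -(H1 : Matrix (Fin n) (Fin n) F) := by
    show (Matrix.reindex e1 e1 (Matrix.J (Fin m) F)).transpose = -Matrix.reindex e1 e1 (Matrix.J (Fin m) F)
    rw [Matrix.transpose_reindex, Matrix.J_transpose]
    rfl
  have t2 : (H2 : Matrix (Fin n) (Fin n) F).transpose = H2 := by
    show (Matrix.reindex e1 e1 _).transpose = Matrix.reindex e1 e1 _
    rw [Matrix.transpose_reindex, gram_transpose]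
  have t3 : (H3 : Matrix (Fin n) (Fin n) F).transpose = H3 := by
    show (Matrix.reindex e3 e3 _).transpose = Matrix.reindex e3 e3 _
    rw [Matrix.transpose_reindex, gram_transpose]
  have sq2 : IsSquare ((H2 : Matrix (Fin n) (Fin n) F).det * (-1) ^ m) := by
    refine ⟨(-1) ^ m, ?_⟩
    show (Matrix.reindex e1 e1 _).det * _ = _
    rw [Matrix.det_reindex_self, det_qPlus]
  have sq3 : ¬ IsSquare ((H3 : Matrix (Fin n) (Fin n) F).det * (-1) ^ m) := by
    have e : (H3 : Matrix (Fin n) (Fin n) F).det * (-1) ^ m = a ^ 2 - 4 * b := by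
      show (Matrix.reindex e3 e3 _).det * _ = _
      obtain ⟨k, rfl⟩ : ∃ k, m = k + 1 := ⟨m - 1, by omega⟩
      rw [Matrix.det_reindex_self, det_qMinusC, Nat.add_sub_cancel,
        show (-1 : F) ^ k * (4 * b - a ^ 2) * (-1) ^ (k + 1) = ((-1) ^ k * (-1) ^ k) * (a ^ 2 - 4 * b) by ring,
        ← mul_pow, neg_one_mul, neg_neg, one_pow, one_mul]
    rw [e]
    exact not_isSquare_disc h2 hab
  have hsymskew : ∀ H H' : GL (Fin n) F, (H : Matrix (Fin n) (Fin n) F).transpose = -(H : Matrix (Fin n) (Fin n) F) →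
      (H' : Matrix (Fin n) (Fin n) F).transpose = H' →
      ¬ Cfsg.IsConjUnder (Cfsg.inndiagPSL n F) (gphH H) (gphH H') := by
    intro H H' hH hH' hc
    obtain ⟨P, c, hP⟩ := (isConjUnder_iff (by omega) H H').1 hc
    have h1 := congrArg Matrix.transpose hP
    rw [Matrix.transpose_mul, Matrix.transpose_mul, Matrix.transpose_transpose, hH, Matrix.transpose_smul,
      hH', ← mul_assoc, Matrix.mul_neg, Matrix.neg_mul, hP] at h1
    have h3 : (2 * (c : F)) • (H' : Matrix (Fin n) (Fin n) F) = 0 := by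
      rw [two_mul, add_smul]
      nth_rewrite 1 [← h1]
      exact neg_add_cancel _
    have hne : Nonempty (Fin n) := ⟨⟨0, by omega⟩⟩
    have := congrArg Matrix.det h3
    rw [Matrix.det_smul, Matrix.det_zero, Fintype.card_fin] at this
    exact mul_ne_zero (pow_ne_zero n (mul_ne_zero h2 c.ne_zero)) (det_ne H') this
  refine ⟨gphH H1, gphH H2, gphH H3, a, b, hab, isGraphAutClassPSL_gphH (by omega) _, orderOf_gphH_of (by omega) _ (Or.inr t1),
    isGraphAutClassPSL_gphH (by omega) _, orderOf_gphH_of (by omega) _ (Or.inl t2),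
    isGraphAutClassPSL_gphH (by omega) _, orderOf_gphH_of (by omega) _ (Or.inl t3),
    hsymskew _ _ t1 t2, hsymskew _ _ t1 t3, ?_, ?_,
    nonempty_pgsp (by omega) H1 (alt_of_skew h2 t1) hnm,
    nonempty_plus (by omega) h2 hnm H2 t2 sq2,
    nonempty_minus (by omega) h2 hnm H3 t3 sq3 hab⟩
  · intro hc
    obtain ⟨P, c, hP⟩ := (isConjUnder_iff (by omega) H2 H3).1 hc
    apply sq3
    obtain ⟨r, hr⟩ := sq2
    have h1 := congrArg Matrix.det hP
    rw [Matrix.det_mul, Matrix.det_mul, Matrix.det_transpose, Matrix.det_smul, Fintype.card_fin,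
      show (c : F) ^ n = (c : F) ^ m * (c : F) ^ m from (congrArg ((c : F) ^ ·) hnm).trans (by ring)] at h1
    refine ⟨r * (P : Matrix (Fin n) (Fin n) F).det / (c : F) ^ m, ?_⟩
    have hc0 : (c : F) ^ m ≠ 0 := pow_ne_zero _ c.ne_zero
    field_simp
    linear_combination ((P : Matrix (Fin n) (Fin n) F).det ^ 2) * hr - ((-1) ^ m) * h1
  · intro γ hγ hγ2
    obtain ⟨H, rfl, hH | hH⟩ := exists_form (by omega) hγ hγ2
    · by_cases hsq : IsSquare ((H : Matrix (Fin n) (Fin n) F).det * (-1) ^ m)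
      · refine Or.inr (Or.inl ((isConjUnder_iff (by omega) _ _).2 ?_))
        obtain ⟨P, hP⟩ := exists_congr h2 hH t2 (det_ne H) (det_ne H2) (by
          show IsSquare (_ * (Matrix.reindex e1 e1 _).det)
          rwa [Matrix.det_reindex_self, det_qPlus])
        exact ⟨P, 1, by rw [hP, Units.val_one, one_smul]⟩
      · refine Or.inr (Or.inr ((isConjUnder_iff (by omega) _ _).2 ?_))
        obtain ⟨P, hP⟩ := exists_congr h2 hH t3 (det_ne H) (det_ne H3) (by
          show IsSquare (_ * (Matrix.reindex e3 e3 _).det)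
          rw [Matrix.det_reindex_self, det_qMinusC, mul_comm]
          exact det_minus_mul h2 (by omega) hsq hab)
        exact ⟨P, 1, by rw [hP, Units.val_one, one_smul]⟩
    · refine Or.inl ((isConjUnder_iff (by omega) _ _).2 ?_)
      obtain ⟨P, hP⟩ := exists_alt_congr_alt (alt_of_skew h2 hH) (det_ne H) (alt_of_skew h2 t1) (det_ne H1)
      exact ⟨P, 1, by rw [hP, Units.val_one, one_smul]⟩

end Cfsg.Agent.S2700
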