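import Cfsg.Statements.S2702
import Cfsg.Agent.Lib.GraphClasses.PSL

set_option autoImplicit false
open Cfsg

namespace Cfsg.Agent.S2702

open Cfsg.Agent.Lib Cfsg.Agent.Lib.GraphClasses

/-- Let T = PSL_n(F) over the field with q = p^f elements, n ≥ 3, G = Inndiag(T) the image of PGL_n(F), and γ an involutory graph automorphism of T. The G-class of γ is the union of exactly c T-classes, where: if n is even and q is odd, c = gcd(n/2, q − 1) when C_G(γ) is isomorphic to the projective conformal symplectic group PGSp_n(F) (symplectic type) and c = gcd(n, q − 1)/2 otherwise; and c = gcd(n, q − 1) when n is odd or q is even. -/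
theorem result {F : Type*} [Field F] [Fintype F] {p f : ℕ} [Fact p.Prime] (hF : Fintype.card F = p ^ f) (hf : 1 ≤ f) {n : ℕ} (hn : 3 ≤ n) (γ : MulAut (Matrix.ProjectiveSpecialLinearGroup (Fin n) F)) (hγ : Cfsg.IsGraphAutClassPSL γ) (hγ2 : orderOf γ = 2) :
    ((Even n ∧ Odd p ∧ Nonempty (↥(Cfsg.inndiagPSL n F ⊓ Subgroup.centralizer {γ}) ≃* Cfsg.PGSp (n / 2) F)) → Cfsg.splitClassCount (Cfsg.inndiagPSL n F) (Cfsg.Inn (Matrix.ProjectiveSpecialLinearGroup (Fin n) F)) γ = Nat.gcd (n / 2) (p ^ f - 1)) ∧ ((Even n ∧ Odd p ∧ ¬ Nonempty (↥(Cfsg.inndiagPSL n F ⊓ Subgroup.centralizer {γ}) ≃* Cfsg.PGSp (n / 2) F)) → Cfsg.splitClassCount (Cfsg.inndiagPSL n F) (Cfsg.Inn (Matrix.ProjectiveSpecialLinearGroup (Fin n) F)) γ = Nat.gcd n (p ^ f - 1) / 2) ∧ (¬ (Even n ∧ Odd p) → Cfsg.splitClassCount (Cfsg.inndiagPSL n F) (Cfsg.Inn (Matrix.ProjectiveSpecialLinearGroup (Fin n) F)) γ = Nat.gcd n (p ^ f - 1)) := by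
  classical
  obtain ⟨H, rfl, hH⟩ := exists_form hn hγ hγ2
  have hN : Nat.card Fˣ = p ^ f - 1 := by rw [card_units_eq, hF]
  have hp := Fact.out (p := p.Prime)
  have hoddq : Odd p → (2 : F) ≠ 0 := fun h => two_ne_zero_of_odd (hF ▸ h.pow)
  have hskew : ∀ hev : Even n, (2 : F) ≠ 0 → (H : Matrix (Fin n) (Fin n) F).transpose = -(H : Matrix (Fin n) (Fin n) F) →
      Nonempty (↥(Cfsg.inndiagPSL n F ⊓ Subgroup.centralizer {gphH H}) ≃* Cfsg.PGSp (n / 2) F) := fun hev h2 h =>
    nonempty_pgsp (by omega) H (alt_of_skew h2 h) (Nat.two_mul_div_two_of_even hev).symm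
  refine ⟨?_, ?_, ?_⟩
  · rintro ⟨hev, hp2, hiso⟩
    have hm := (Nat.two_mul_div_two_of_even hev).symm
    rcases hH with hs | hs
    · exact absurd hiso (not_nonempty_pgsp hn (hoddq hp2) H hs hm)
    · rw [split_alt (by omega) H (alt_of_skew (hoddq hp2) hs) hm, hN]
  · rintro ⟨hev, hp2, hiso⟩
    have hm := (Nat.two_mul_div_two_of_even hev).symm
    rcases hH with hs | hs
    · rw [split_symm (by omega) (hoddq hp2) H hs hm, hF]
    · exact absurd (hskew hev (hoddq hp2) hs) hiso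
  · intro h
    rw [split_bot (by omega) ?_ H, hN]
    by_cases hev : Even n
    · right
      have hpe : p = 2 := (hp.eq_two_or_odd').resolve_right fun ho => h ⟨hev, ho⟩
      subst hpe
      have h0 := FiniteField.cast_card_eq_zero F
      rw [hF] at h0
      push_cast at h0
      exact (pow_eq_zero_iff (by omega)).1 h0
    · exact Or.inl (Nat.not_even_iff_odd.1 hev)

end Cfsg.Agent.S2702
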