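import Cfsg.Statements.S2703
import Cfsg.Agent.Lib.GraphClasses.PSL

set_option autoImplicit false
open Cfsg

namespace Cfsg.Agent.S2703

open Cfsg.Agent.Lib Cfsg.Agent.Lib.GraphClasses

/-- Let T = PSL_n(F) over the field with q elements, q odd, n = 2m ≥ 4 even, and ι the inverse-transpose automorphism. Its centralizer in G = Inndiag(T) (the image of PGL_n(F)) is isomorphic to the projective conformal orthogonal group of the plus-type form Σ xᵢ yᵢ in dimension n when n(q − 1)/4 is even, and to that of a minus-type form (Σ xᵢ yᵢ + z₁² + a z₁ z₂ + b z₂² with anisotropic binary part) when n(q − 1)/4 is odd. -/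
theorem result {F : Type*} [Field F] [Fintype F] (hodd : Odd (Fintype.card F)) {n m : ℕ} (hm : 2 ≤ m) (hnm : n = 2 * m) (ι : MulAut (Matrix.ProjectiveSpecialLinearGroup (Fin n) F)) (hι : Cfsg.IsInverseTransposeAutPSL ι) :
    (Even (n * (Fintype.card F - 1) / 4) → Nonempty (↥(Cfsg.inndiagPSL n F ⊓ Subgroup.centralizer {ι}) ≃* Cfsg.PGO F (Cfsg.quadFormPlus m F))) ∧ (¬ Even (n * (Fintype.card F - 1) / 4) → ∃ a b : F, (∀ z₁ z₂ : F, z₁ ^ 2 + a * z₁ * z₂ + b * z₂ ^ 2 = 0 → z₁ = 0 ∧ z₂ = 0) ∧ Nonempty (↥(Cfsg.inndiagPSL n F ⊓ Subgroup.centralizer {ι}) ≃* Cfsg.PGO F (Cfsg.quadFormMinus (m - 1) F a b))) := by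
  classical
  have h2 := two_ne_zero_of_odd hodd
  have hchar : ringChar F ≠ 2 := fun h => h2 (by
    have := ringChar.Nat.cast_ringChar (R := F)
    rw [h] at this; exact_mod_cast this)
  have he : ι = gphH (1 : GL (Fin n) F) := by
    rw [(AutPSL.isInverseTransposeAutPSL_iff ι).1 hι, gphH, inv_one, map_one, one_mul]
  subst he
  have h1 : ((1 : GL (Fin n) F) : Matrix (Fin n) (Fin n) F).transpose = (1 : GL (Fin n) F) := by simp
  have hdet : ((1 : GL (Fin n) F) : Matrix (Fin n) (Fin n) F).det * (-1) ^ m = (-1) ^ m := by simp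
  have hq : Fintype.card F % 2 = 1 := Nat.odd_iff.1 hodd
  have hiff : Even (n * (Fintype.card F - 1) / 4) ↔ IsSquare ((-1 : F) ^ m) := by
    obtain ⟨j, hj⟩ : ∃ j, Fintype.card F = 2 * j + 1 := ⟨Fintype.card F / 2, by omega⟩
    rw [hnm, hj, Nat.add_sub_cancel, show 2 * m * (2 * j) / 4 = m * j by
      rw [show 2 * m * (2 * j) = 4 * (m * j) by ring, Nat.mul_div_cancel_left _ (by norm_num)]]
    rw [Nat.even_mul]
    constructor
    · rintro (he | he)
      · exact he.isSquare_pow _
      · refine IsSquare.pow m (FiniteField.isSquare_neg_one_iff.2 ?_)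
        obtain ⟨i, hi⟩ := he
        omega
    · intro hs
      rcases Nat.even_or_odd m with he | ho
      · exact Or.inl he
      · rw [ho.neg_one_pow] at hs
        have := FiniteField.isSquare_neg_one_iff.1 hs
        exact Or.inr (Nat.even_iff.2 (by omega))
  refine ⟨fun hev => nonempty_plus (by omega) h2 hnm 1 h1 (by rw [hdet]; exact hiff.1 hev),
    fun hne => ?_⟩
  obtain ⟨a, b, hab⟩ := exists_anisotropic h2
  exact ⟨a, b, hab, nonempty_minus (by omega) h2 hnm 1 h1
    (by rw [hdet]; exact fun h => hne (hiff.2 h)) hab⟩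

end Cfsg.Agent.S2703
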