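import Cfsg.Statements.S2704
import Cfsg.Agent.Lib.AutPSL.Classes

set_option autoImplicit false
open Cfsg

namespace Cfsg.Agent.S2704

open Matrix Cfsg.Agent.Lib.AutPSL

/-- Let T = PSL_n(F) over the field F with p^f elements, n ≥ 3, and G = Inndiag(T) the image of PGL_n(F). If x is an involutory graph-field automorphism of T then f is even; x is G-conjugate to every other involutory graph-field automorphism; C_G(x) is isomorphic to the projective general unitary group PGU_n(q₀) with q₀² = p^f, realised over F itself through the Hermitian form Σ uᵢ vᵢ^{q₀}; and the G-class of x is the union of exactly gcd(n, q₀ − 1) T-classes. -/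
theorem result {F : Type*} [Field F] [Fintype F] {p f : ℕ} [Fact p.Prime] (hF : Fintype.card F = p ^ f) (hf : 1 ≤ f) {n : ℕ} (hn : 3 ≤ n) (x : MulAut (Matrix.ProjectiveSpecialLinearGroup (Fin n) F)) (hx : Cfsg.IsGraphFieldAutClassPSL x) (hx2 : orderOf x = 2) :
    Even f ∧ (∀ y : MulAut (Matrix.ProjectiveSpecialLinearGroup (Fin n) F), Cfsg.IsGraphFieldAutClassPSL y → orderOf y = 2 → Cfsg.IsConjUnder (Cfsg.inndiagPSL n F) x y) ∧ Nonempty (↥(Cfsg.inndiagPSL n F ⊓ Subgroup.centralizer {x}) ≃* Cfsg.PGU n F (p ^ (f / 2))) ∧ Cfsg.splitClassCount (Cfsg.inndiagPSL n F) (Cfsg.Inn (Matrix.ProjectiveSpecialLinearGroup (Fin n) F)) x = Nat.gcd n (p ^ (f / 2) - 1) := by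
  classical
  have hn2 : 2 ≤ n := by omega
  obtain ⟨-, σ, a, hσ, hx'⟩ := exists_std_graphField hx Nat.prime_two hx2
  obtain ⟨hrf, hfix⟩ := card_fixField hF hσ
  have ha : conjAut a ∈ Cfsg.inndiagPSL n F := conjAut_mem_inndiag a
  set q₀ := p ^ (f / 2) with hq₀
  have hσσ : ∀ y, σ (σ y) = y := fun y => by
    have h2 : σ ^ 2 = 1 := by rw [← hσ]; exact pow_orderOf_eq_one σ
    exact (RingEquiv.congr_fun (pow_two σ).symm y).trans (RingEquiv.congr_fun h2 y)
  -- the unitary group is the fixed group of the semilinear graph automorphism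
  have hGU : ∀ g : GL (Fin n) F, g ∈ Cfsg.GU n F q₀ ↔ graphGL σ g = g := by
    intro g
    have hform : ∀ u v, Cfsg.hermForm n F q₀ u v = u ⬝ᵥ (⇑σ ∘ v) := fun u v =>
      Finset.sum_congr rfl fun i _ => by rw [Function.comp_apply, apply_eq_pow hF hσ]
    have hmap : ∀ v, ⇑σ ∘ ((g : Matrix (Fin n) (Fin n) F) *ᵥ v) =
        (g : Matrix (Fin n) (Fin n) F).map σ *ᵥ (⇑σ ∘ v) := fun v =>
      funext fun i => RingHom.map_mulVec σ.toRingHom _ v i
    have hP : g ∈ Cfsg.GU n F q₀ ↔ (g : Matrix (Fin n) (Fin n) F)ᵀ * (g : Matrix (Fin n) (Fin n) F).map σ = 1 := by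
      change (∀ u v, Cfsg.hermForm n F q₀ ((g : Matrix (Fin n) (Fin n) F) *ᵥ u) ((g : Matrix (Fin n) (Fin n) F) *ᵥ v) = _) ↔ _
      have hprod : ∀ u v, ((g : Matrix (Fin n) (Fin n) F) *ᵥ u) ⬝ᵥ (⇑σ ∘ ((g : Matrix (Fin n) (Fin n) F) *ᵥ v)) =
          (u ᵥ* ((g : Matrix (Fin n) (Fin n) F)ᵀ * (g : Matrix (Fin n) (Fin n) F).map σ)) ⬝ᵥ (⇑σ ∘ v) := fun u v => by
        rw [hmap, Matrix.dotProduct_mulVec, ← Matrix.vecMul_transpose, Matrix.vecMul_vecMul]
      simp only [hform, hprod]
      constructor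
      · intro h
        refine Matrix.ext fun i j => ?_
        have := h (Pi.single i 1) (Pi.single j 1)
        have hs : ⇑σ ∘ (Pi.single j (1 : F) : Fin n → F) = Pi.single j 1 := by
          funext k; simp [Pi.single_apply, apply_ite σ]
        simpa [hs, Matrix.one_apply, Pi.single_apply, eq_comm] using this
      · intro h u v
        rw [h, Matrix.vecMul_one]
    rw [hP]
    have h1 : graphGL σ g = g ↔ g * (graphGL σ g)⁻¹ = 1 := by rw [mul_inv_eq_one]; exact eq_comm
    rw [h1, Units.ext_iff, Units.val_mul, coe_graphGL_inv, Units.val_one, mul_eq_one_comm]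
    constructor <;> intro h
    · have := congrArg Matrix.transpose h
      rwa [Matrix.transpose_mul, Matrix.transpose_transpose, Matrix.transpose_one] at this
    · have := congrArg Matrix.transpose h
      rwa [Matrix.transpose_mul, Matrix.transpose_transpose, Matrix.transpose_one] at this
  set ψ : MulAut (Matrix.ProjectiveSpecialLinearGroup (Fin n) F) := fieldAut σ * invT
  have hGUcent : ∀ g ∈ Cfsg.GU n F q₀, g ∈ cent ψ := fun g hg => by
    rw [mem_cent, fieldAut_invT_conjAut, (hGU g).1 hg]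
  -- elements of the centraliser are scalar multiples of unitary matrices
  have hscale : ∀ g ∈ cent ψ, ∃ (z : Fˣ) (u : GL (Fin n) F),
      u ∈ Cfsg.GU n F q₀ ∧ g = GeneralLinearGroup.scalar (Fin n) z * u := by
    intro g hg
    rw [mem_cent, fieldAut_invT_conjAut] at hg
    obtain ⟨c, hc⟩ := (conjAut_eq_iff hn2).1 (mul_right_cancel hg)
    have hσc : mapUnits σ c = c := by
      have h1 := congrArg (graphGL σ) hc
      rw [graphGL_graphGL hσσ, map_mul, graphGL_scalar, hc, ← mul_assoc, ← map_mul, eq_comm,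
        mul_eq_right] at h1
      exact inv_mul_eq_one.1 (scalar_injective (by omega) (h1.trans (map_one _).symm))
    obtain ⟨z, hz⟩ := exists_tnorm_eq hσ (by norm_num) hσc
    have hz' : z * mapUnits σ z = c := by simpa [tnorm_succ] using hz
    refine ⟨z⁻¹, GeneralLinearGroup.scalar (Fin n) z * g, (hGU _).2 ?_, ?_⟩
    · rw [map_mul, graphGL_scalar, hc, ← mul_assoc, ← map_mul, ← hz', mul_comm z, inv_mul_cancel_left]
    · rw [← mul_assoc, ← map_mul, inv_mul_cancel, map_one, one_mul]
  let Ψ : ↥(Cfsg.GU n F q₀) →* MulAut (Matrix.ProjectiveSpecialLinearGroup (Fin n) F) :=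
    conjAut.comp (Cfsg.GU n F q₀).subtype
  have hrange : Ψ.range = Cfsg.inndiagPSL n F ⊓ Subgroup.centralizer {ψ} := by
    rw [inndiag_inf_centralizer]
    ext y
    constructor
    · rintro ⟨h, rfl⟩
      exact ⟨h.1, hGUcent h.1 h.2, rfl⟩
    · rintro ⟨g, hg, rfl⟩
      obtain ⟨z, u, hu, rfl⟩ := hscale g hg
      exact ⟨⟨u, hu⟩, by rw [map_mul, conjAut_scalar, one_mul]; rfl⟩
  have hker : (Cfsg.Geo.scalars (Fin n) F).subgroupOf (Cfsg.GU n F q₀) = Ψ.ker := by
    ext h
    rw [MonoidHom.mem_ker, Subgroup.mem_subgroupOf]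
    constructor
    · intro hs
      have : h.1 ∈ Subgroup.center (GL (Fin n) F) := by
        obtain ⟨c, hc⟩ := (Cfsg.Geo.mem_scalars_iff _).1 hs
        exact mem_center_GL_of_scalar hc
      exact conjAut_eq_one_of_center this
    · intro h1
      obtain ⟨c, hc⟩ := exists_scalar_of_conjAut_eq_one hn2 h1
      exact (Cfsg.Geo.mem_scalars_iff _).2 ⟨c, by
        rw [show (h.1 : GL (Fin n) F) = _ from hc, GeneralLinearGroup.coe_scalar, Matrix.scalar_apply,
          Matrix.smul_one_eq_diagonal]⟩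
  refine ⟨even_iff_two_dvd.2 hrf, fun y hy hy2 => ?_, ?_, ?_⟩
  · obtain ⟨-, τ, b, hτ, hy'⟩ := exists_std_graphField hy Nat.prime_two hy2
    rw [involution_unique hF hτ hσ] at hy'
    refine ⟨conjAut b * (conjAut a)⁻¹, mul_mem (conjAut_mem_inndiag b) (inv_mem ha), ?_⟩
    rw [hx', hy', show (fieldAut σ * invT : MulAut (Matrix.ProjectiveSpecialLinearGroup (Fin n) F)) = ψ from rfl]
    group
  · rw [hx']
    obtain ⟨e⟩ := centralizer_conj_equiv ha ψ
    exact ⟨e.trans ((MulEquiv.subgroupCongr hrange.symm).trans ((QuotientGroup.quotientKerEquivRange Ψ).symm.trans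
      (QuotientGroup.quotientMulEquivOfEq hker.symm)))⟩
  · rw [hx', splitClassCount_conj _ ha, splitClassCount_eq_gcd hn2 ψ (normHom σ 2).ker]
    · congr 1
      rw [Subgroup.index_ker, range_normHom hσ (by norm_num), card_fixUnits, hfix]
    · intro g hg
      obtain ⟨z, u, hu, rfl⟩ := hscale g hg
      rw [map_mul, GeneralLinearGroup.det_scalar, Fintype.card_fin]
      refine mul_mem (Subgroup.mem_sup_left ⟨z, rfl⟩) (Subgroup.mem_sup_right ?_)
      have h1 := det_graphGL σ u
      rw [(hGU u).1 hu, eq_inv_iff_mul_eq_one] at h1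
      simpa [tnorm_succ] using h1
    · intro u hu
      have hu' : u * mapUnits σ u = 1 := by simpa [tnorm_succ] using MonoidHom.mem_ker.1 hu
      let d : Fin n → Fˣ := Pi.mulSingle ⟨0, by omega⟩ u
      let D : GL (Fin n) F := ⟨diagonal (fun i => (d i : F)), diagonal (fun i => ((d i)⁻¹ : Fˣ)), by simp, by simp⟩
      have hD : graphGL σ D = D := by
        apply Units.ext
        rw [coe_graphGL]
        show ((diagonal fun i => (((d i)⁻¹ : Fˣ) : F)).map σ)ᵀ = diagonal fun i => (d i : F)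
        rw [Matrix.diagonal_map (map_zero σ), Matrix.diagonal_transpose]
        refine congrArg diagonal (funext fun i => ?_)
        show ((mapUnits σ (d i)⁻¹ : Fˣ) : F) = (d i : F)
        rw [map_inv]
        refine congrArg Units.val (inv_eq_of_mul_eq_one_left ?_)
        rcases eq_or_ne i ⟨0, by omega⟩ with rfl | hi
        · simpa [d] using hu'
        · simp [d, Pi.mulSingle_eq_of_ne hi]
      exact ⟨D, hGUcent D ((hGU D).2 hD), Units.ext (by simp [D, d, ← Units.coe_prod])⟩

end Cfsg.Agent.S2704
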