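import Cfsg.Statements.S2705
import Cfsg.Agent.Lib.AutPSU.FieldCentralizer

set_option autoImplicit false
open Cfsg

namespace Cfsg.Agent.S2705

/-- Let T = PSU_n(q) be simple (n ≥ 3, (n, q) ≠ (3, 2), q = p^f), realised over the field F with q² elements, G = Inndiag(T) the image of PGU_n(q) in Aut(T), and x a field automorphism of T (conjugate to a standard field automorphism of odd order) of odd prime order r. Then r divides f; C_G(x) is isomorphic to PGU_n(q₀) with q₀ = p^(f/r), realised over a field F₀ with q₀² elements; and the G-class of x is the union of exactly gcd(n, (q + 1)/(q₀ + 1)) T-classes. -/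
theorem result {F : Type*} [Field F] [Fintype F] {p f q : ℕ} [Fact p.Prime] (hq : q = p ^ f) (hf : 1 ≤ f) (hF : Fintype.card F = q ^ 2) {n : ℕ} (hn : 3 ≤ n) (hs : ¬ (n = 3 ∧ q = 2)) (x : MulAut (Cfsg.PSU n F q)) (hx : Cfsg.IsFieldAutClassPSU x) {r : ℕ} (hr : r.Prime) (hro : Odd r) (hxr : orderOf x = r) (F₀ : Type*) [Field F₀] [Fintype F₀] (hF₀ : Fintype.card F₀ = p ^ (2 * (f / r))) :
    r ∣ f ∧ Nonempty (↥(Cfsg.inndiagPSU n F q ⊓ Subgroup.centralizer {x}) ≃* Cfsg.PGU n F₀ (p ^ (f / r))) ∧ Cfsg.splitClassCount (Cfsg.inndiagPSU n F q) (Cfsg.Inn (Cfsg.PSU n F q)) x = Nat.gcd n ((q + 1) / (p ^ (f / r) + 1)) := by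
  classical
  have hG := Cfsg.Agent.Lib.AutPSU.inndiagPSU_normal (n := n) hF hn hs
  obtain ⟨α, σ, hσ, -, hstd⟩ :=
    Cfsg.Agent.Lib.AutPSU.exists_std_of_isFieldAutClass hF hn hx hxr
  obtain ⟨hrf, -, hqr, hpow⟩ := Cfsg.Agent.Lib.AutPSU.fixField_data hq hF hσ hro
  have hdiv : f * 2 / r = f / r * 2 := Nat.div_mul_right_comm hrf 2 ▸ rfl
  have hF2 : Fintype.card F = p ^ (f * 2) := by rw [hF, hq, pow_mul]
  obtain ⟨ι, hfix⟩ := Cfsg.Agent.Lib.AutPSL.exists_fixField_hom hF2 hσ F₀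
    (by rw [hdiv, mul_comm, hF₀])
  have hF₀' : Fintype.card F₀ = (p ^ (f / r)) ^ 2 := by rw [hF₀, ← pow_mul, mul_comm]
  have hι : ∀ y : F₀, ι y ^ q = ι (y ^ p ^ (f / r)) := fun y => by
    rw [map_pow, hpow _ ((hfix _).2 ⟨y, rfl⟩)]
  have hx' : x = α⁻¹ * Cfsg.Agent.Lib.AutPSU.fieldPSU n F q σ * α⁻¹⁻¹ := by rw [← hstd]; group
  refine ⟨hrf, ?_, ?_⟩
  · rw [hx']
    obtain ⟨e⟩ := Cfsg.Agent.Lib.AutPSp.centralizer_conj_equiv_of_normal (Cfsg.inndiagPSU n F q)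
      (Cfsg.Agent.Lib.AutPSU.fieldPSU n F q σ) α⁻¹
    obtain ⟨e'⟩ := Cfsg.Agent.Lib.AutPSU.nonempty_centralizer_equiv ι hF hF₀' hι hfix hn hσ hr.pos
    exact ⟨e.trans e'⟩
  · rw [hx', Cfsg.Agent.Lib.AutPSp.splitClassCount_conj_of_normal
      Cfsg.Agent.Lib.AutPSU.inn_le_inndiagPSU, Cfsg.Agent.Lib.AutPSU.splitClassCount_eq_index hF hn,
      Cfsg.Agent.Lib.AutPSU.map_detU_cent ι hF hF₀' hι hfix hn hσ hr.pos,
      Cfsg.Agent.Lib.AutPSL.index_range_pow_sup]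
    congr 1
    have h1 := (Cfsg.Agent.Lib.AutPSU.fixU1 (q := q) σ).card_mul_index
    rw [Cfsg.Agent.Lib.AutPSU.card_fixU1 ι hF hF₀' hι hfix,
      (Cfsg.Agent.Lib.Unitary.card_normHom hF).1] at h1
    rw [← h1, Nat.mul_div_cancel_left _ (Nat.succ_pos _)]

end Cfsg.Agent.S2705
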