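import Cfsg.Statements.S2706
import Cfsg.Agent.Lib.GraphClasses.PSUSplit

set_option autoImplicit false
open Cfsg

namespace Cfsg.Agent.S2706

open Cfsg.Agent.Lib Cfsg.Agent.Lib.GraphClasses

/-- Let T = PSU_n(q) be simple with n = 2m + 1 ≥ 3 odd, realised over the field F with q² elements, and G = Inndiag(T) the image of PGU_n(q). Every involutory graph automorphism γ of T (an inner-diagonal automorphism times a standard field automorphism of even order, of order 2) has centralizer C_G(γ) isomorphic to the projective conformal orthogonal group of the form x₀² + Σ xᵢ yᵢ in dimension n over a field F₀ with q elements, and any two involutory graph automorphisms of T are G-conjugate. -/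
theorem result {F : Type*} [Field F] [Fintype F] {p f q : ℕ} [Fact p.Prime] (hq : q = p ^ f) (hf : 1 ≤ f) (hF : Fintype.card F = q ^ 2) {n : ℕ} (hn : 3 ≤ n) (hs : ¬ (n = 3 ∧ q = 2)) {m : ℕ} (hnm : n = 2 * m + 1) (F₀ : Type*) [Field F₀] [Fintype F₀] (hF₀ : Fintype.card F₀ = q) (γ γ' : MulAut (Cfsg.PSU n F q)) (hγ : Cfsg.IsGraphAutClassPSU γ) (hγ2 : orderOf γ = 2) (hγ' : Cfsg.IsGraphAutClassPSU γ') (hγ'2 : orderOf γ' = 2) :
    Nonempty (↥(Cfsg.inndiagPSU n F q ⊓ Subgroup.centralizer {γ}) ≃* Cfsg.PGO F₀ (Cfsg.quadFormOdd m F₀)) ∧ Cfsg.IsConjUnder (Cfsg.inndiagPSU n F q) γ γ' := by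
  classical
  obtain ⟨σ, j, h⟩ := exists_field2 hF F₀ hF₀
  obtain ⟨g, d, rfl, hs⟩ := exists_gU_datum h hγ hγ2
  obtain ⟨g', d', rfl, hs'⟩ := exists_gU_datum h hγ' hγ'2
  obtain ⟨φ⟩ := nonempty_centU_cent h hn d
  by_cases h2 : (2 : F₀) = 0
  · haveI hc : CharP F₀ 2 := CharTwo.of_one_ne_zero_of_two_eq_zero one_ne_zero h2
    refine ⟨(nonempty_odd_two hn hnm d.K (symm_of_skew hs)).map φ.trans, (isConjUnder_gU h hn d d').2 ?_⟩
    obtain ⟨P, hP⟩ := exists_congr_two (symm_of_skew hs') (det_ne d'.K) (nonalt_of_odd hnm d'.K)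
      (symm_of_skew hs) (det_ne d.K) (nonalt_of_odd hnm d.K)
    exact ⟨P, 1, by rw [hP, Units.val_one, one_smul]⟩
  · have hsym : ∀ K : GL (Fin n) F₀, (K : Matrix (Fin n) (Fin n) F₀).transpose = -(K : Matrix (Fin n) (Fin n) F₀) → False := by
      intro K hK
      obtain ⟨k, e, -, -⟩ := exists_alt_congr (alt_of_skew h2 hK) (det_ne K)
      have := Fintype.card_congr e
      simp at this
      omega
    have hK : (d.K : Matrix (Fin n) (Fin n) F₀).transpose = d.K := hs.resolve_right (hsym d.K)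
    have hK' : (d'.K : Matrix (Fin n) (Fin n) F₀).transpose = d'.K := hs'.resolve_right (hsym d'.K)
    exact ⟨(nonempty_odd hn h2 hnm d.K hK).map φ.trans,
      (isConjUnder_gU h hn d d').2 (exists_similar h2 ⟨m, hnm⟩ hK' hK (det_ne d'.K) (det_ne d.K))⟩

end Cfsg.Agent.S2706
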