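import Cfsg.Statements.S2707
import Cfsg.Agent.Lib.GraphClasses.PSUSplit

set_option autoImplicit false
open Cfsg

namespace Cfsg.Agent.S2707

open Cfsg.Agent.Lib Cfsg.Agent.Lib.GraphClasses Matrix

/-- Let T = PSU_n(q) with n = 2m ≥ 4 even and q odd, realised over the field F with q² elements, and G = Inndiag(T) the image of PGU_n(q). The involutory graph automorphisms of T fall into exactly three G-classes, with representatives whose centralizers in G are isomorphic respectively to the projective conformal symplectic group PGSp_n(F₀), the projective conformal orthogonal group of the plus-type form Σ xᵢ yᵢ, and that of a minus-type form Σ xᵢ yᵢ + z₁² + a z₁ z₂ + b z₂² (anisotropic binary part) in dimension n, all over a field F₀ with q elements. -/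
theorem result {F : Type*} [Field F] [Fintype F] {q : ℕ} (hodd : Odd q) (hF : Fintype.card F = q ^ 2) {n m : ℕ} (hm : 2 ≤ m) (hnm : n = 2 * m) (F₀ : Type*) [Field F₀] [Fintype F₀] (hF₀ : Fintype.card F₀ = q) :
    ∃ (γ₁ γ₂ γ₃ : MulAut (Cfsg.PSU n F q)) (a b : F₀), (∀ z₁ z₂ : F₀, z₁ ^ 2 + a * z₁ * z₂ + b * z₂ ^ 2 = 0 → z₁ = 0 ∧ z₂ = 0) ∧ Cfsg.IsGraphAutClassPSU γ₁ ∧ orderOf γ₁ = 2 ∧ Cfsg.IsGraphAutClassPSU γ₂ ∧ orderOf γ₂ = 2 ∧ Cfsg.IsGraphAutClassPSU γ₃ ∧ orderOf γ₃ = 2 ∧ ¬ Cfsg.IsConjUnder (Cfsg.inndiagPSU n F q) γ₁ γ₂ ∧ ¬ Cfsg.IsConjUnder (Cfsg.inndiagPSU n F q) γ₁ γ₃ ∧ ¬ Cfsg.IsConjUnder (Cfsg.inndiagPSU n F q) γ₂ γ₃ ∧ (∀ γ : MulAut (Cfsg.PSU n F q), Cfsg.IsGraphAutClassPSU γ → orderOf γ = 2 → Cfsg.IsConjUnder (Cfsg.inndiagPSU n F q) γ₁ γ ∨ Cfsg.IsConjUnder (Cfsg.inndiagPSU n F q) γ₂ γ ∨ Cfsg.IsConjUnder (Cfsg.inndiagPSU n F q) γ₃ γ) ∧ Nonempty (↥(Cfsg.inndiagPSU n F q ⊓ Subgroup.centralizer {γ₁})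 ≃* Cfsg.PGSp m F₀) ∧ Nonempty (↥(Cfsg.inndiagPSU n F q ⊓ Subgroup.centralizer {γ₂}) ≃* Cfsg.PGO F₀ (Cfsg.quadFormPlus m F₀)) ∧ Nonempty (↥(Cfsg.inndiagPSU n F q ⊓ Subgroup.centralizer {γ₃}) ≃* Cfsg.PGO F₀ (Cfsg.quadFormMinus (m - 1) F₀ a b)) := by
  classical
  obtain ⟨σ, j, h⟩ := exists_field2 hF F₀ hF₀
  have hn : 3 ≤ n := by omega
  have h2 : (2 : F₀) ≠ 0 := two_ne_zero_of_odd (hF₀ ▸ hodd)
  obtain ⟨a, b, hab⟩ := exists_anisotropic h2
  let e1 : Fin m ⊕ Fin m ≃ Fin n := Fintype.equivFinOfCardEq (by simp; omega)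
  let e3 : (Fin (m - 1) ⊕ Fin (m - 1)) ⊕ Fin 2 ≃ Fin n := Fintype.equivFinOfCardEq (by simp; omega)
  have d1 : (Matrix.reindex e1 e1 (Matrix.J (Fin m) F₀)).det ≠ 0 := by
    rw [Matrix.det_reindex_self, SymplecticGroup.det_eq_one (SymplecticGroup.J_mem _ _)]
    exact one_ne_zero
  have d2 : (Matrix.reindex e1 e1 (Forms.gram (Forms.qPlus (F := F₀) m))).det ≠ 0 := by
    rw [Matrix.det_reindex_self, det_qPlus]
    exact pow_ne_zero _ (neg_ne_zero.2 one_ne_zero)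
  have d3 : (Matrix.reindex e3 e3 (Forms.gram (OrthStd.qMinusC (m - 1) a b))).det ≠ 0 := by
    rw [Matrix.det_reindex_self]
    exact det_minus_ne h2 _ hab
  have t1 : (mkGL _ d1 : Matrix (Fin n) (Fin n) F₀).transpose = -(mkGL _ d1 : Matrix (Fin n) (Fin n) F₀) := by
    show (Matrix.reindex e1 e1 (Matrix.J (Fin m) F₀)).transpose = -Matrix.reindex e1 e1 (Matrix.J (Fin m) F₀)
    rw [Matrix.transpose_reindex, Matrix.J_transpose]
    rfl
  have t2 : (mkGL _ d2 : Matrix (Fin n) (Fin n) F₀).transpose = mkGL _ d2 := by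
    show (Matrix.reindex e1 e1 _).transpose = Matrix.reindex e1 e1 _
    rw [Matrix.transpose_reindex, gram_transpose]
  have t3 : (mkGL _ d3 : Matrix (Fin n) (Fin n) F₀).transpose = mkGL _ d3 := by
    show (Matrix.reindex e3 e3 _).transpose = Matrix.reindex e3 e3 _
    rw [Matrix.transpose_reindex, gram_transpose]
  obtain ⟨g1, D1, hD1, hc1, ho1⟩ := exists_gU_of h hn _ (Or.inr t1)
  obtain ⟨g2, D2, hD2, hc2, ho2⟩ := exists_gU_of h hn _ (Or.inl t2)
  obtain ⟨g3, D3, hD3, hc3, ho3⟩ := exists_gU_of h hn _ (Or.inl t3)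
  rw [← hD1] at t1
  rw [← hD2] at t2
  rw [← hD3] at t3
  have sq2 : IsSquare ((D2.K : Matrix (Fin n) (Fin n) F₀).det * (-1) ^ m) := by
    refine ⟨(-1) ^ m, ?_⟩
    rw [hD2]
    show (Matrix.reindex e1 e1 _).det * _ = _
    rw [Matrix.det_reindex_self, det_qPlus]
  have sq3 : ¬ IsSquare ((D3.K : Matrix (Fin n) (Fin n) F₀).det * (-1) ^ m) := by
    have e : (D3.K : Matrix (Fin n) (Fin n) F₀).det * (-1) ^ m = a ^ 2 - 4 * b := by
      rw [hD3]
      show (Matrix.reindex e3 e3 _).det * _ = _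
      obtain ⟨k, rfl⟩ : ∃ k, m = k + 1 := ⟨m - 1, by omega⟩
      rw [Matrix.det_reindex_self, det_qMinusC, Nat.add_sub_cancel,
        show (-1 : F₀) ^ k * (4 * b - a ^ 2) * (-1) ^ (k + 1) = ((-1) ^ k * (-1) ^ k) * (a ^ 2 - 4 * b) by ring,
        ← mul_pow, neg_one_mul, neg_neg, one_pow, one_mul]
    rw [e]
    exact not_isSquare_disc h2 hab
  have hskew : ∀ {g g' : Cfsg.GU n F q} (D : Datum σ j (g : GL (Fin n) F)) (D' : Datum σ j (g' : GL (Fin n) F)),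
      (D.K : Matrix (Fin n) (Fin n) F₀).transpose = -(D.K : Matrix (Fin n) (Fin n) F₀) →
      (D'.K : Matrix (Fin n) (Fin n) F₀).transpose = D'.K →
      ¬ Cfsg.IsConjUnder (Cfsg.inndiagPSU n F q) (gU σ g) (gU σ g') := by
    intro g g' D D' hH hH' hc
    obtain ⟨P, c, hP⟩ := (isConjUnder_gU h hn D D').1 hc
    have h1 := congrArg Matrix.transpose hP
    rw [Matrix.transpose_mul, Matrix.transpose_mul, Matrix.transpose_transpose, hH, Matrix.transpose_smul,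
      hH', ← mul_assoc, Matrix.mul_neg, Matrix.neg_mul, hP] at h1
    have h3 : (2 * (c : F₀)) • (D'.K : Matrix (Fin n) (Fin n) F₀) = 0 := by
      rw [two_mul, add_smul]
      nth_rewrite 1 [← h1]
      exact neg_add_cancel _
    have hne : Nonempty (Fin n) := ⟨⟨0, by omega⟩⟩
    have := congrArg Matrix.det h3
    rw [Matrix.det_smul, Matrix.det_zero, Fintype.card_fin] at this
    exact mul_ne_zero (pow_ne_zero n (mul_ne_zero h2 c.ne_zero)) (det_ne D'.K) this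
  obtain ⟨φ1⟩ := nonempty_centU_cent h hn D1
  obtain ⟨φ2⟩ := nonempty_centU_cent h hn D2
  obtain ⟨φ3⟩ := nonempty_centU_cent h hn D3
  refine ⟨gU σ g1, gU σ g2, gU σ g3, a, b, hab, hc1, ho1, hc2, ho2, hc3, ho3,
    hskew D1 D2 t1 t2, hskew D1 D3 t1 t3, ?_, ?_,
    (nonempty_pgsp (by omega) D1.K (alt_of_skew h2 t1) hnm).map φ1.trans,
    (nonempty_plus (by omega) h2 hnm D2.K t2 sq2).map φ2.trans,
    (nonempty_minus (by omega) h2 hnm D3.K t3 sq3 hab).map φ3.trans⟩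
  · intro hc
    obtain ⟨P, c, hP⟩ := (isConjUnder_gU h hn D2 D3).1 hc
    apply sq3
    obtain ⟨r, hr⟩ := sq2
    have h1 := congrArg Matrix.det hP
    rw [Matrix.det_mul, Matrix.det_mul, Matrix.det_transpose, Matrix.det_smul, Fintype.card_fin,
      show (c : F₀) ^ n = (c : F₀) ^ m * (c : F₀) ^ m from (congrArg ((c : F₀) ^ ·) hnm).trans (by ring)] at h1
    refine ⟨r * (P : Matrix (Fin n) (Fin n) F₀).det / (c : F₀) ^ m, ?_⟩
    have hc0 : (c : F₀) ^ m ≠ 0 := pow_ne_zero _ c.ne_zero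
    field_simp
    linear_combination ((P : Matrix (Fin n) (Fin n) F₀).det ^ 2) * hr - ((-1) ^ m) * h1
  · intro γ hγ hγ2
    obtain ⟨g, D, rfl, hH | hH⟩ := exists_gU_datum h hγ hγ2
    · by_cases hsq : IsSquare ((D.K : Matrix (Fin n) (Fin n) F₀).det * (-1) ^ m)
      · refine Or.inr (Or.inl ((isConjUnder_gU h hn D2 D).2 ?_))
        obtain ⟨P, hP⟩ := exists_congr h2 hH t2 (det_ne D.K) (det_ne D2.K) (by
          rw [hD2]
          show IsSquare (_ * (Matrix.reindex e1 e1 _).det)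
          rwa [Matrix.det_reindex_self, det_qPlus])
        exact ⟨P, 1, by rw [hP, Units.val_one, one_smul]⟩
      · refine Or.inr (Or.inr ((isConjUnder_gU h hn D3 D).2 ?_))
        obtain ⟨P, hP⟩ := exists_congr h2 hH t3 (det_ne D.K) (det_ne D3.K) (by
          rw [hD3]
          show IsSquare (_ * (Matrix.reindex e3 e3 _).det)
          rw [Matrix.det_reindex_self, det_qMinusC, mul_comm]
          exact det_minus_mul h2 (by omega) hsq hab)
        exact ⟨P, 1, by rw [hP, Units.val_one, one_smul]⟩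
    · refine Or.inl ((isConjUnder_gU h hn D1 D).2 ?_)
      obtain ⟨P, hP⟩ := exists_alt_congr_alt (alt_of_skew h2 hH) (det_ne D.K) (alt_of_skew h2 t1) (det_ne D1.K)
      exact ⟨P, 1, by rw [hP, Units.val_one, one_smul]⟩

end Cfsg.Agent.S2707
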