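import Cfsg.Statements.S2708
import Cfsg.Agent.Lib.GraphClasses.PSUSplit

set_option autoImplicit false
open Cfsg

namespace Cfsg.Agent.S2708

open Cfsg.Agent.Lib Cfsg.Agent.Lib.GraphClasses Matrix

/-- Let T = PSU_n(q) with n = 2m ≥ 4 even and q even, realised over the field F (of characteristic 2) with q² elements, and G = Inndiag(T) the image of PGU_n(q). The involutory graph automorphisms of T fall into exactly two G-classes, with representatives whose centralizers in G are isomorphic respectively to the symplectic group Sp_n(F₀) and to the centralizer in Sp_n(F₀) of a symplectic transvection, F₀ a field with q elements. -/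
theorem result {F : Type*} [Field F] [Fintype F] [CharP F 2] {q : ℕ} (hF : Fintype.card F = q ^ 2) {n m : ℕ} (hm : 2 ≤ m) (hnm : n = 2 * m) (F₀ : Type*) [Field F₀] [Fintype F₀] (hF₀ : Fintype.card F₀ = q) :
    ∃ (γ₁ γ₃ : MulAut (Cfsg.PSU n F q)) (t : ↥(Matrix.symplecticGroup (Fin m) F₀)), Cfsg.IsTransvection (t : Matrix (Fin m ⊕ Fin m) (Fin m ⊕ Fin m) F₀) ∧ Cfsg.IsGraphAutClassPSU γ₁ ∧ orderOf γ₁ = 2 ∧ Cfsg.IsGraphAutClassPSU γ₃ ∧ orderOf γ₃ = 2 ∧ ¬ Cfsg.IsConjUnder (Cfsg.inndiagPSU n F q) γ₁ γ₃ ∧ (∀ γ : MulAut (Cfsg.PSU n F q), Cfsg.IsGraphAutClassPSU γ → orderOf γ = 2 → Cfsg.IsConjUnder (Cfsg.inndiagPSU n F q) γ₁ γ ∨ Cfsg.IsConjUnder (Cfsg.inndiagPSU n F q) γ₃ γ) ∧ Nonempty (↥(Cfsg.inndiagPSU n F q ⊓ Subgroup.centralizer {γ₁}) ≃* ↥(Matrix.symplecticGroup (Fin m) F₀)) ∧ Nonempty (↥(Cfsg.inndiagPSU n F q ⊓ Subgroup.centralizer {γ₃}) ≃* ↥(Subgroup.centralizer ({t} : Set ↥(Matrix.symplecticGroup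 (Fin m) F₀)))) := by
  classical
  obtain ⟨σ, j, h⟩ := exists_field2 hF F₀ hF₀
  have hn : 3 ≤ n := by omega
  haveI hc2 : CharP F₀ 2 := RingHom.charP j j.injective 2
  haveI hne : Nonempty (Fin n) := ⟨⟨0, by omega⟩⟩
  let e1 : Fin m ⊕ Fin m ≃ Fin n := Fintype.equivFinOfCardEq (by simp; omega)
  have d1 : (Matrix.reindex e1 e1 (Matrix.J (Fin m) F₀)).det ≠ 0 := by
    rw [Matrix.det_reindex_self, SymplecticGroup.det_eq_one (SymplecticGroup.J_mem _ _)]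
    exact one_ne_zero
  let H1 := mkGL _ d1
  have halt : ∀ x, x ⬝ᵥ (H1 : Matrix (Fin n) (Fin n) F₀) *ᵥ x = 0 := alt_reindex e1 (alt_J m)
  have t1 : (H1 : Matrix (Fin n) (Fin n) F₀).transpose = H1 := by
    show (Matrix.reindex e1 e1 (Matrix.J (Fin m) F₀)).transpose = Matrix.reindex e1 e1 (Matrix.J (Fin m) F₀)
    rw [Matrix.transpose_reindex, Matrix.J_transpose]
    congr 1
    ext i j
    exact CharTwo.neg_eq _
  have t3 : ((1 : GL (Fin n) F₀) : Matrix (Fin n) (Fin n) F₀).transpose = (1 : GL (Fin n) F₀) := by simp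
  have hna : ∃ x, x ⬝ᵥ ((1 : GL (Fin n) F₀) : Matrix (Fin n) (Fin n) F₀) *ᵥ x ≠ 0 :=
    ⟨Pi.single ⟨0, by omega⟩ 1, by simp⟩
  obtain ⟨t, ht, ⟨ψ⟩⟩ := exists_centralizer_equiv (F := F₀) (ι := Fin n) (m := m) (by omega) (by simp [hnm])
  obtain ⟨g1, D1, hD1, hc1, ho1⟩ := exists_gU_of h hn H1 (Or.inl t1)
  obtain ⟨g3, D3, hD3, hc3, ho3⟩ := exists_gU_of h hn 1 (Or.inl t3)
  refine ⟨gU σ g1, gU σ g3, t, ht, hc1, ho1, hc3, ho3, ?_, ?_, ?_, ?_⟩
  · intro hc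
    obtain ⟨P, c, hP⟩ := (isConjUnder_gU h hn D1 D3).1 hc
    rw [hD1, hD3] at hP
    obtain ⟨x, hx⟩ := hna
    have h := congrArg (fun M => x ⬝ᵥ M *ᵥ x) hP
    rw [← gram_mulVec_mul, halt, Matrix.smul_mulVec, dotProduct_smul, smul_eq_mul] at h
    exact mul_ne_zero c.ne_zero hx h.symm
  · intro γ hγ hγ2
    obtain ⟨g, D, rfl, hH⟩ := exists_gU_datum h hγ hγ2
    by_cases ha : ∀ x, x ⬝ᵥ (D.K : Matrix (Fin n) (Fin n) F₀) *ᵥ x = 0
    · refine Or.inl ((isConjUnder_gU h hn D1 D).2 ?_)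
      obtain ⟨P, hP⟩ := exists_alt_congr_alt ha (det_ne D.K) halt (det_ne H1)
      exact ⟨P, 1, by rw [hD1, hP, Units.val_one, one_smul]⟩
    · push Not at ha
      refine Or.inr ((isConjUnder_gU h hn D3 D).2 ?_)
      obtain ⟨P, hP⟩ := exists_congr_two (symm_of_skew hH) (det_ne D.K) ha t3 (det_ne 1) hna
      exact ⟨P, 1, by rw [hD3, hP, Units.val_one, one_smul]⟩
  · obtain ⟨φ⟩ := nonempty_centU h hn D1
    rw [hD1] at φ
    obtain ⟨χ⟩ := nonempty_projQuot_iso (det_ne H1)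
    obtain ⟨η⟩ := nonempty_isoB_congr e1 (M := Matrix.J (Fin m) F₀) (M' := (H1 : Matrix (Fin n) (Fin n) F₀)) 1
      (by rw [Units.val_one, Matrix.transpose_one, Matrix.one_mul, Matrix.mul_one]; rfl)
    exact ⟨((φ.trans χ).trans η.symm).trans
      { toFun := fun g => ⟨(g.1 : Matrix (Fin m ⊕ Fin m) (Fin m ⊕ Fin m) F₀), SymplecticGroup.mem_iff'.2 (mem_isoB.1 g.2)⟩
        invFun := fun A => ⟨((Matrix.isUnit_iff_isUnit_det A.1).2
          (SymplecticGroup.symplectic_det A.2)).unit, SymplecticGroup.mem_iff'.1 A.2⟩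
        left_inv := fun g => Subtype.ext (Units.ext rfl)
        right_inv := fun A => rfl
        map_mul' := fun g h => rfl }⟩
  · obtain ⟨φ⟩ := nonempty_centU h hn D3
    rw [hD3] at φ
    obtain ⟨χ⟩ := nonempty_projQuot_iso (det_ne (1 : GL (Fin n) F₀))
    exact ⟨(φ.trans χ).trans ψ⟩

end Cfsg.Agent.S2708
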