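import Cfsg.Statements.S2710
import Cfsg.Agent.Lib.GraphClasses.PSUSplit

set_option autoImplicit false
open Cfsg

namespace Cfsg.Agent.S2710

open Cfsg.Agent.Lib Cfsg.Agent.Lib.GraphClasses Matrix

/-- Let T = PSU_n(q) with n ≥ 4 divisible by 4 (n = 2m) and q odd, realised over the field F with q² elements, G = Inndiag(T) the image of PGU_n(q), and φ the standard field automorphism of T attached to the q-th power map of F (it induces inverse-transpose on the unitary matrices and is a graph automorphism). Its centralizer in G is isomorphic to the projective conformal orthogonal group of the plus-type form Σ xᵢ yᵢ in dimension n over a field F₀ with q elements. (Dimensions n ≡ 2 (mod 4) are not covered.) -/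
theorem result {F : Type*} [Field F] [Fintype F] {q : ℕ} (hodd : Odd q) (hF : Fintype.card F = q ^ 2) {n m : ℕ} (hm : 2 ≤ m) (hnm : n = 2 * m) (h4 : 4 ∣ n) (F₀ : Type*) [Field F₀] [Fintype F₀] (hF₀ : Fintype.card F₀ = q) (σ : F ≃+* F) (hσ : ∀ a : F, σ a = a ^ q) (φ : MulAut (Cfsg.PSU n F q)) (hφ : Cfsg.IsFieldAutPSUOf σ φ) :
    Nonempty (↥(Cfsg.inndiagPSU n F q ⊓ Subgroup.centralizer {φ}) ≃* Cfsg.PGO F₀ (Cfsg.quadFormPlus m F₀)) := by
  classical
  obtain ⟨σ', j, h⟩ := exists_field2 hF F₀ hF₀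
  have he : σ = σ' := RingEquiv.ext fun x => by rw [hσ, h.pow]
  subst he
  have hn : 3 ≤ n := by omega
  have h2 : (2 : F₀) ≠ 0 := two_ne_zero_of_odd (hF₀ ▸ hodd)
  rw [AutPSU.eq_fieldPSU hφ, ← one_mul (AutPSU.fieldPSU n F q σ), ← map_one (AutPSU.conjPSU n F q)]
  show Nonempty (↥(_ ⊓ Subgroup.centralizer {gU σ (1 : Cfsg.GU n F q)}) ≃* _)
  let d : Datum σ j ((1 : Cfsg.GU n F q) : GL (Fin n) F) :=
    ⟨1, 1, 1, 1, by simp, by simp [Kg]⟩
  obtain ⟨φ'⟩ := nonempty_centU_cent h hn d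
  refine (nonempty_plus (by omega) h2 hnm d.K (by simp [d]) ?_).map φ'.trans
  have hev : Even m := by
    obtain ⟨k, hk⟩ := h4
    exact ⟨k, by omega⟩
  exact ⟨1, by simp [d, hev.neg_one_pow]⟩

end Cfsg.Agent.S2710
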