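import Cfsg.Statements.S2711
import Cfsg.Agent.Lib.AutPSU.Descent

set_option autoImplicit false
open Cfsg

namespace Cfsg.Agent.S2711

/-- Let T = PSU_n(q) be simple (n ≥ 3, (n,q) ≠ (3,2)), realised over the field F with q² elements, and let x be a field automorphism of T (conjugate to a standard field automorphism of odd order) of prime order r. Then an element y of the coset Inndiag(T)·x (y = δ x with δ in the image of PGU_n(q)) has order r if and only if y is conjugate to x by an element of Inndiag(T). (T has no graph-field automorphisms.) -/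
theorem result {F : Type*} [Field F] [Fintype F] {p f q : ℕ} [Fact p.Prime] (hq : q = p ^ f) (hf : 1 ≤ f) (hF : Fintype.card F = q ^ 2) {n : ℕ} (hn : 3 ≤ n) (hs : ¬ (n = 3 ∧ q = 2)) (x δ : MulAut (Cfsg.PSU n F q)) (hx : Cfsg.IsFieldAutClassPSU x) {r : ℕ} (hr : r.Prime) (hxr : orderOf x = r) (hδ : δ ∈ Cfsg.inndiagPSU n F q) :
    orderOf (δ * x) = r ↔ Cfsg.IsConjUnder (Cfsg.inndiagPSU n F q) x (δ * x) := by
  classical
  have hG := Cfsg.Agent.Lib.AutPSU.inndiagPSU_normal (n := n) hF hn hs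
  constructor
  · intro hord
    obtain ⟨α, σ, hσ, hro, hstd⟩ :=
      Cfsg.Agent.Lib.AutPSU.exists_std_of_isFieldAutClass hF hn hx hxr
    have hδ' : α * δ * α⁻¹ ∈ Cfsg.inndiagPSU n F q := hG.conj_mem δ hδ α
    rw [Cfsg.Agent.Lib.AutPSU.inndiagPSU_eq_range] at hδ'
    obtain ⟨g, hg⟩ := hδ'
    have h1 : Cfsg.Agent.Lib.AutPSU.conjPSU n F q g * Cfsg.Agent.Lib.AutPSU.fieldPSU n F q σ =
        α * (δ * x) * α⁻¹ := by
      rw [hg, ← hstd]; group
    obtain ⟨h, hh⟩ := Cfsg.Agent.Lib.AutPSU.exists_conj_of_pow_eq_one hF hn hσ hro (g := g) (by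
      rw [h1, ← MulAut.conj_apply, ← map_pow, ← hord, pow_orderOf_eq_one, map_one])
    refine ⟨α⁻¹ * Cfsg.Agent.Lib.AutPSU.conjPSU n F q h * α, ?_, ?_⟩
    · have := hG.conj_mem _ (Cfsg.Agent.Lib.AutPSU.conjPSU_mem h) α⁻¹
      rwa [inv_inv] at this
    · rw [h1, ← hstd] at hh
      calc δ * x = α⁻¹ * (α * (δ * x) * α⁻¹) * α := by group
        _ = α⁻¹ * (Cfsg.Agent.Lib.AutPSU.conjPSU n F q h * (α * x * α⁻¹) *
            (Cfsg.Agent.Lib.AutPSU.conjPSU n F q h)⁻¹) * α := by rw [hh]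
        _ = α⁻¹ * Cfsg.Agent.Lib.AutPSU.conjPSU n F q h * α * x *
            (α⁻¹ * Cfsg.Agent.Lib.AutPSU.conjPSU n F q h * α)⁻¹ := by group
  · rintro ⟨h, -, e⟩
    rw [e, ← MulAut.conj_apply, MulEquiv.orderOf_eq, hxr]

end Cfsg.Agent.S2711
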