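import Cfsg.Statements.S2712
import Cfsg.Agent.Lib.AutPSp.Split

set_option autoImplicit false
open Cfsg

namespace Cfsg.Agent.S2712

open Matrix Cfsg.Agent.Lib.AutPSp

/-- Let T = PSp_{2m}(F) be simple over the field F with p^f elements (m ≥ 2, (2m, |F|) ≠ (4, 2)), G = Inndiag(T) the image of the projective conformal symplectic group PGSp_{2m}(F), and x a field automorphism of T of prime order r. Then r divides f; C_G(x) is isomorphic to PGSp_{2m}(F₀) for a field F₀ with p^(f/r) elements; and the G-class of x is the union of exactly gcd(gcd(2, p^f − 1), r) T-classes. -/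
theorem result {F : Type*} [Field F] [Fintype F] {p f : ℕ} [Fact p.Prime] (hF : Fintype.card F = p ^ f) (hf : 1 ≤ f) {m : ℕ} (hm : 2 ≤ m) (hs : m = 2 → 3 ≤ Fintype.card F) (x : MulAut (Cfsg.PSp m F)) (hx : Cfsg.IsFieldAutClassPSp x) {r : ℕ} (hr : r.Prime) (hxr : orderOf x = r) (F₀ : Type*) [Field F₀] [Fintype F₀] (hF₀ : Fintype.card F₀ = p ^ (f / r)) :
    r ∣ f ∧ Nonempty (↥(Cfsg.inndiagPSp m F ⊓ Subgroup.centralizer {x}) ≃* Cfsg.PGSp m F₀) ∧ Cfsg.splitClassCount (Cfsg.inndiagPSp m F) (Cfsg.Inn (Cfsg.PSp m F)) x = Nat.gcd (Nat.gcd 2 (p ^ f - 1)) r := by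
  classical
  have hm0 : 0 < m := by omega
  have hG := inndiagPSp_normal' (F := F) hm
  obtain ⟨α, σ, -, hstd⟩ := hx
  rw [isStdFieldAutPSp_iff] at hstd
  have hσ : orderOf σ = r := by
    rw [← orderOf_injective _ (fieldAut_injective hm) σ, ← hstd, ← MulAut.conj_apply, MulEquiv.orderOf_eq, hxr]
  obtain ⟨hrf, hfix⟩ := Cfsg.Agent.Lib.AutPSL.card_fixField hF hσ
  obtain ⟨ι, hι⟩ := Cfsg.Agent.Lib.AutPSL.exists_fixField_hom hF hσ F₀ hF₀
  have hx' : x = α⁻¹ * fieldAut σ * α⁻¹⁻¹ := by rw [← hstd]; group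
  have hJ : (J (Fin m) F₀).map ι = J (Fin m) F := by
    simp [Matrix.J, Matrix.fromBlocks_map, Matrix.map_one, Matrix.map_neg]
  -- matrices over the fixed field
  have hmem : ∀ h : Cfsg.GSp m F₀, GeneralLinearGroup.map ι h.1 ∈ Cfsg.GSp m F := fun h => by
    refine mem_GSp_iff.2 ⟨Units.map (ι : F₀ →* F) (Cfsg.Agent.Lib.AutPSp.mult hm0 h), gram_iff.2 ?_⟩
    have h1 := congrArg (fun A => A.map ι) ((gram_iff).1 (mult_spec hm0 h))
    simp only [Matrix.map_mul, Matrix.transpose_map, hJ] at h1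
    show ((h.1 : Matrix (Fin m ⊕ Fin m) (Fin m ⊕ Fin m) F₀).map ι)ᵀ * _ * (h.1 : Matrix (Fin m ⊕ Fin m) (Fin m ⊕ Fin m) F₀).map ι = _
    rw [h1]
    ext i j
    have hJ' : ι (J (Fin m) F₀ i j) = J (Fin m) F i j := congrFun (congrFun hJ i) j
    simp [hJ']
  let μ : Cfsg.GSp m F₀ →* Cfsg.GSp m F :=
    ((GeneralLinearGroup.map ι).comp (Cfsg.GSp m F₀).subtype).codRestrict _ hmem
  have hμσ : ∀ h, mapGSp σ (μ h) = μ h := fun h =>
    Subtype.ext (Units.ext (Matrix.ext fun i j => (hι _).2 ⟨_, rfl⟩))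
  have hμcent : ∀ h, μ h ∈ cent (fieldAut σ) := fun h => by rw [mem_cent, fieldAut_conjAut, hμσ]
  have hscale : ∀ g ∈ cent (fieldAut σ : MulAut (Cfsg.PSp m F)),
      ∃ (z : Fˣ) (h : Cfsg.GSp m F₀), g = scalarGSp z * μ h := by
    intro g hg
    rw [mem_cent, fieldAut_conjAut] at hg
    have h1 := mul_right_cancel hg
    obtain ⟨c, hc⟩ := exists_scalar_of_conjAut_eq_one hm (g := mapGSp σ g * g⁻¹)
      (by rw [map_mul, map_inv, ← h1, mul_inv_cancel])
    have hent : ∀ i j, σ ((g.1 : Matrix (Fin m ⊕ Fin m) (Fin m ⊕ Fin m) F) i j) = (c : F) * (g.1 : Matrix (Fin m ⊕ Fin m) (Fin m ⊕ Fin m) F) i j := by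
      intro i j
      have h2 : mapGSp σ g = scalarGSp c * g := by rw [← hc, inv_mul_cancel_right]
      have := congrArg (fun A : Cfsg.GSp m F => (A.1 : Matrix (Fin m ⊕ Fin m) (Fin m ⊕ Fin m) F) i j) h2
      simpa [coe_mapGSp, coe_scalarGSp] using this
    haveI : Nonempty (Fin m ⊕ Fin m) := ⟨Sum.inl ⟨0, hm0⟩⟩
    obtain ⟨i₀, j₀, h0⟩ : ∃ i j, (g.1 : Matrix (Fin m ⊕ Fin m) (Fin m ⊕ Fin m) F) i j ≠ 0 := by
      by_contra h
      push Not at h
      exact g.1.ne_zero (Matrix.ext h)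
    set z : Fˣ := Units.mk0 _ h0
    have hfixed : ∀ i j, ∃ y, ι y = (z : F)⁻¹ * (g.1 : Matrix (Fin m ⊕ Fin m) (Fin m ⊕ Fin m) F) i j := fun i j =>
      (hι _).1 (by
        show σ ((z : F)⁻¹ * (g.1 : Matrix (Fin m ⊕ Fin m) (Fin m ⊕ Fin m) F) i j) = _
        rw [map_mul, map_inv₀, Units.val_mk0, hent, hent, _root_.mul_inv_rev, mul_assoc,
          inv_mul_cancel_left₀ c.ne_zero])
    choose Y hY using hfixed
    have hY' : (Matrix.of Y).map ι = (z : F)⁻¹ • (g.1 : Matrix (Fin m ⊕ Fin m) (Fin m ⊕ Fin m) F) := Matrix.ext fun i j => hY i j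
    have hdet : IsUnit (Matrix.of Y) := by
      rw [Matrix.isUnit_iff_isUnit_det, isUnit_iff_ne_zero]
      intro h
      have h2 := ι.map_det (Matrix.of Y)
      rw [RingHom.mapMatrix_apply, hY', h, map_zero, Matrix.det_smul] at h2
      exact mul_ne_zero (pow_ne_zero _ (inv_ne_zero z.ne_zero))
        ((Matrix.isUnit_iff_isUnit_det _).1 g.1.isUnit).ne_zero h2.symm
    have hgram : ((z : F)⁻¹ • (g.1 : Matrix (Fin m ⊕ Fin m) (Fin m ⊕ Fin m) F))ᵀ * J (Fin m) F * ((z : F)⁻¹ • (g.1 : Matrix (Fin m ⊕ Fin m) (Fin m ⊕ Fin m) F)) =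
        ((z : F)⁻¹ * (z : F)⁻¹ * (Cfsg.Agent.Lib.AutPSp.mult hm0 g : Fˣ)) • J (Fin m) F := by
      rw [Matrix.transpose_smul, Matrix.smul_mul, Matrix.smul_mul, Matrix.mul_smul,
        gram_iff.1 (mult_spec hm0 g), smul_smul, smul_smul]
    set o : Fin m := ⟨0, hm0⟩
    have hgram' := congrFun (congrFun hgram (Sum.inr o)) (Sum.inl o)
    rw [← hY', ← hJ, ← Matrix.transpose_map, ← Matrix.map_mul, ← Matrix.map_mul, Matrix.map_apply] at hgram'
    set c₀ := ((Matrix.of Y)ᵀ * J (Fin m) F₀ * Matrix.of Y) (Sum.inr o) (Sum.inl o)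
    have hc₀ : ι c₀ = (z : F)⁻¹ * (z : F)⁻¹ * (Cfsg.Agent.Lib.AutPSp.mult hm0 g : Fˣ) := by
      rw [hgram']; simp [Matrix.J, Matrix.fromBlocks_map, Matrix.map_one]
    have hc₀0 : c₀ ≠ 0 := fun h => by
      rw [h, map_zero] at hc₀
      exact mul_ne_zero (mul_ne_zero (inv_ne_zero z.ne_zero) (inv_ne_zero z.ne_zero)) (Units.ne_zero _) hc₀.symm
    have hYmem : hdet.unit ∈ Cfsg.GSp m F₀ := mem_GSp_iff.2 ⟨Units.mk0 c₀ hc₀0, gram_iff.2 (by
      apply Matrix.map_injective ι.injective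
      dsimp only
      rw [show (hdet.unit : Matrix (Fin m ⊕ Fin m) (Fin m ⊕ Fin m) F₀) = Matrix.of Y from rfl, Matrix.map_mul, Matrix.map_mul,
        Matrix.transpose_map, hJ, hY', hgram, ← hc₀]
      ext i j
      have hJ' : ι (J (Fin m) F₀ i j) = J (Fin m) F i j := congrFun (congrFun hJ i) j
      simp [hJ'])⟩
    refine ⟨z, ⟨_, hYmem⟩, Subtype.ext (Units.ext ?_)⟩
    show _ = ((scalarGSp (m := m) z).1 : Matrix (Fin m ⊕ Fin m) (Fin m ⊕ Fin m) F) * (Matrix.of Y).map ι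
    rw [coe_scalarGSp, hY', Matrix.smul_mul, Matrix.one_mul, smul_smul, mul_inv_cancel₀ z.ne_zero, one_smul]
  let Ψ : Cfsg.GSp m F₀ →* MulAut (Cfsg.PSp m F) := conjAut.comp μ
  have hrange : Ψ.range = Cfsg.inndiagPSp m F ⊓ Subgroup.centralizer {fieldAut σ} := by
    rw [inndiag_inf_centralizer]
    ext y
    constructor
    · rintro ⟨h, rfl⟩
      exact ⟨μ h, hμcent h, rfl⟩
    · rintro ⟨g, hg, rfl⟩
      obtain ⟨z, h, rfl⟩ := hscale g hg
      exact ⟨h, by rw [map_mul, conjAut_scalarGSp, one_mul]; rfl⟩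
  have hker : (Cfsg.Geo.scalars (Fin m ⊕ Fin m) F₀).subgroupOf (Cfsg.GSp m F₀) = Ψ.ker := by
    ext h
    rw [MonoidHom.mem_ker, Subgroup.mem_subgroupOf, Cfsg.Geo.mem_scalars_iff]
    constructor
    · rintro ⟨c, hc⟩
      refine conjAut_eq_one_of_scalar (c := Units.map (ι : F₀ →* F) c) ?_
      show (h.1 : Matrix (Fin m ⊕ Fin m) (Fin m ⊕ Fin m) F₀).map ι = _
      rw [hc]; ext i j
      simp [Matrix.one_apply, apply_ite ι]
    · intro h1
      obtain ⟨c, hc⟩ := (conjAut_eq_one_iff hm).1 h1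
      have hent : ∀ i j, ι ((h.1 : Matrix (Fin m ⊕ Fin m) (Fin m ⊕ Fin m) F₀) i j) = if i = j then (c : F) else 0 := by
        intro i j
        have := congrFun (congrFun hc i) j
        change ι ((h.1 : Matrix (Fin m ⊕ Fin m) (Fin m ⊕ Fin m) F₀) i j) = _ at this
        rw [this]; simp [Matrix.one_apply]
      set k₀ : Fin m ⊕ Fin m := Sum.inl ⟨0, hm0⟩
      have h00 : (h.1 : Matrix (Fin m ⊕ Fin m) (Fin m ⊕ Fin m) F₀) k₀ k₀ ≠ 0 := fun h' => by
        have := hent k₀ k₀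
        rw [h', map_zero, if_pos rfl] at this
        exact c.ne_zero this.symm
      refine ⟨Units.mk0 _ h00, Matrix.ext fun i j => ι.injective ?_⟩
      rw [hent i j]
      simp only [Matrix.smul_apply, Matrix.one_apply, Units.val_mk0, smul_eq_mul, mul_ite, mul_one, mul_zero]
      split_ifs with hij
      · rw [hent, if_pos rfl]
      · rw [map_zero]
  refine ⟨hrf, ?_, ?_⟩
  · rw [hx']
    obtain ⟨e⟩ := centralizer_conj_equiv_of_normal (Cfsg.inndiagPSp m F) (fieldAut σ) α⁻¹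
    exact ⟨e.trans ((MulEquiv.subgroupCongr hrange.symm).trans ((QuotientGroup.quotientKerEquivRange Ψ).symm.trans
      (QuotientGroup.quotientMulEquivOfEq hker.symm)))⟩
  · rw [hx', splitClassCount_conj_of_normal inn_le_inndiagPSp, splitClassCount_eq_index hm]
    have hmap : (cent (fieldAut σ : MulAut (Cfsg.PSp m F))).map (Cfsg.Agent.Lib.AutPSp.mult hm0) =
        (powMonoidHom 2 : Fˣ →* Fˣ).range ⊔ Cfsg.Agent.Lib.AutPSL.fixUnits σ := by
      refine le_antisymm ?_ (sup_le ?_ ?_)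
      · rintro _ ⟨g, hg, rfl⟩
        obtain ⟨z, h, rfl⟩ := hscale g hg
        rw [map_mul, mult_scalarGSp]
        refine mul_mem (Subgroup.mem_sup_left ⟨z, rfl⟩) (Subgroup.mem_sup_right ?_)
        rw [Cfsg.Agent.Lib.AutPSL.mem_fixUnits, ← mult_mapGSp, hμσ]
      · rintro _ ⟨a, rfl⟩
        exact ⟨_, scalar_mem_cent _ a, by simp [mult_scalarGSp]⟩
      · intro u hu
        obtain ⟨y, hy⟩ := (hι _).1 (congrArg Units.val (Cfsg.Agent.Lib.AutPSL.mem_fixUnits.1 hu))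
        refine ⟨torus u, ?_, mult_torus hm0 u⟩
        rw [SetLike.mem_coe, mem_cent, fieldAut_conjAut]
        congr 2
        refine (Subtype.ext (Units.ext (Matrix.ext fun i j => ?_))).symm
        show σ _ = _
        rcases i with i | i <;> rcases j with j | j <;>
          simp [torus, Matrix.diagonal_apply, apply_ite σ, (hι (u : F)).2 ⟨y, hy⟩]
    rw [hmap, Cfsg.Agent.Lib.AutPSL.index_range_pow_sup]
    have h1 := (Cfsg.Agent.Lib.AutPSL.fixUnits σ).card_mul_index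
    rw [Cfsg.Agent.Lib.AutPSL.card_fixUnits, hfix, Nat.card_units, Nat.card_eq_fintype_card, hF] at h1
    rcases (Fact.out : p.Prime).eq_two_or_odd' with hp | hp
    · subst hp
      have hodd : Nat.Coprime 2 (2 ^ f - 1) := by
        rw [Nat.Prime.coprime_iff_not_dvd Nat.prime_two]
        intro hd
        have h2 : 2 ∣ 2 ^ f := dvd_pow_self 2 (by omega)
        have := Nat.one_le_two_pow (n := f)
        omega
      rw [hodd, Nat.gcd_one_left]
      exact hodd.coprime_dvd_right (Dvd.intro_left _ h1)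
    · have hq : p ^ f = (p ^ (f / r)) ^ r := by rw [← pow_mul, Nat.div_mul_cancel hrf]
      have hf0 : f / r ≠ 0 := (Nat.div_pos (Nat.le_of_dvd (by omega) hrf) hr.pos).ne'
      have h2 : 2 ≤ p ^ (f / r) := le_trans (Fact.out : p.Prime).two_le (Nat.le_self_pow hf0 p)
      have hidx : (Cfsg.Agent.Lib.AutPSL.fixUnits σ).index = ∑ i ∈ Finset.range r, (p ^ (f / r)) ^ i := by
        rw [Nat.geomSum_eq h2, ← hq, ← h1, Nat.mul_div_cancel_left _ (by omega)]
      have hmod : (Cfsg.Agent.Lib.AutPSL.fixUnits σ).index % 2 = r % 2 := by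
        rw [hidx, Finset.sum_nat_mod, Finset.sum_congr rfl fun i _ =>
          (Nat.odd_iff.1 ((hp.pow (n := f / r)).pow (n := i))), Finset.sum_const, Finset.card_range, smul_eq_mul,
          mul_one]
      rw [Nat.gcd_rec 2, hmod, ← Nat.gcd_rec 2]
      congr 1
      symm
      apply Nat.gcd_eq_left
      have : Odd (p ^ f) := hp.pow
      obtain ⟨k, hk⟩ := this
      exact ⟨k, by omega⟩

end Cfsg.Agent.S2712
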