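import Cfsg.Statements.S2713
import Cfsg.Agent.Lib.AutPSp.Descent

set_option autoImplicit false
open Cfsg

namespace Cfsg.Agent.S2713

open Matrix Cfsg.Agent.Lib.AutPSp

/-- Let T = PSp_{2m}(F) be simple over a finite field (m ≥ 2, (2m, |F|) ≠ (4, 2)) and let x be a field automorphism of T of prime order r. Then an element y of the coset Inndiag(T)·x (y = δ x with δ in the image of the projective conformal symplectic group) has order r if and only if y is conjugate to x by an element of Inndiag(T). -/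
theorem result {F : Type*} [Field F] [Fintype F] {m : ℕ} (hm : 2 ≤ m) (hs : m = 2 → 3 ≤ Fintype.card F) (x δ : MulAut (Cfsg.PSp m F)) (hx : Cfsg.IsFieldAutClassPSp x) {r : ℕ} (hr : r.Prime) (hxr : orderOf x = r) (hδ : δ ∈ Cfsg.inndiagPSp m F) :
    orderOf (δ * x) = r ↔ Cfsg.IsConjUnder (Cfsg.inndiagPSp m F) x (δ * x) := by
  classical
  have hG := inndiagPSp_normal' (F := F) hm
  constructor
  · intro hord
    obtain ⟨α, σ, -, hstd⟩ := hx
    rw [isStdFieldAutPSp_iff] at hstd
    have hσ : orderOf σ = r := by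
      rw [← orderOf_injective _ (fieldAut_injective hm) σ, ← hstd, ← MulAut.conj_apply, MulEquiv.orderOf_eq, hxr]
    have hδ' : α * δ * α⁻¹ ∈ Cfsg.inndiagPSp m F := hG.conj_mem δ hδ α
    rw [inndiagPSp_eq_range] at hδ'
    obtain ⟨g, hg⟩ := hδ'
    have h1 : conjAut g * fieldAut σ = α * (δ * x) * α⁻¹ := by
      rw [hg, ← hstd]; group
    obtain ⟨h, hh⟩ := exists_conj_of_pow_eq_one hm hσ hr.pos (g := g) (by
      rw [h1, ← MulAut.conj_apply, ← map_pow, ← hord, pow_orderOf_eq_one, map_one])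
    refine ⟨α⁻¹ * conjAut h * α, ?_, ?_⟩
    · have := hG.conj_mem _ (conjAut_mem_inndiag h) α⁻¹
      rwa [inv_inv] at this
    · rw [h1, ← hstd] at hh
      calc δ * x = α⁻¹ * (α * (δ * x) * α⁻¹) * α := by group
        _ = α⁻¹ * (conjAut h * (α * x * α⁻¹) * (conjAut h)⁻¹) * α := by rw [hh]
        _ = α⁻¹ * conjAut h * α * x * (α⁻¹ * conjAut h * α)⁻¹ := by group
  · rintro ⟨h, -, e⟩
    rw [e, ← MulAut.conj_apply, MulEquiv.orderOf_eq, hxr]

end Cfsg.Agent.S2713
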