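import Cfsg.Statements.S2714
import Cfsg.Agent.Lib.OrthField.Odd
-- import your own Cfsg.Agent.* helpers here

set_option autoImplicit false
open Cfsg

namespace Cfsg.Agent.S2714

open Cfsg.Agent.Lib.OrthField

/-- Let T = Ω_{2m+1}(F) (m ≥ 3, |F| = p^f odd; realised as PΩ of the form x₀² + Σ xᵢ yᵢ), G = Inndiag(T) the image of the conformal orthogonal group in Aut(T), and x a field automorphism of T of prime order r. Then r divides f; C_G(x) is isomorphic to Inndiag(Ω_{2m+1}(F₀)) for a field F₀ with p^(f/r) elements; and the G-class of x is a single T-class when r is odd and the union of exactly two T-classes when r = 2. -/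
theorem result {F : Type*} [Field F] [Fintype F] {p f : ℕ} [Fact p.Prime] (hF : Fintype.card F = p ^ f) (hf : 1 ≤ f) (hodd : Odd (Fintype.card F)) {m : ℕ} (hm : 3 ≤ m) (x : MulAut (Cfsg.POmega F (Cfsg.quadFormOdd m F))) (hx : Cfsg.IsFieldAutClassPOmega (Cfsg.quadFormOdd m F) x) {r : ℕ} (hr : r.Prime) (hxr : orderOf x = r) (F₀ : Type*) [Field F₀] [Fintype F₀] (hF₀ : Fintype.card F₀ = p ^ (f / r)) :
    r ∣ f ∧ Nonempty (↥(Cfsg.inndiagPOmegaOdd m F ⊓ Subgroup.centralizer {x}) ≃* ↥(Cfsg.inndiagPOmegaOdd m F₀)) ∧ (Odd r → Cfsg.splitClassCount (Cfsg.inndiagPOmegaOdd m F) (Cfsg.Inn (Cfsg.POmega F (Cfsg.quadFormOdd m F))) x = 1) ∧ (r = 2 → Cfsg.splitClassCount (Cfsg.inndiagPOmegaOdd m F) (Cfsg.Inn (Cfsg.POmega F (Cfsg.quadFormOdd m F))) x = 2) := by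
  classical
  have h2 := Cfsg.Agent.Lib.OrthOmega.two_ne_zero_of_odd hodd
  set D := DOdd (F := F) hm h2
  have hH : Cfsg.inndiagPOmegaOdd m F = D.conjQ.range := inndiagOdd_eq hm h2
  rw [hH]
  haveI := D.conjQ_range_normal (noTriality_DOdd hm h2)
  obtain ⟨α, φ, σ, -, hφ, hα⟩ := hx
  rw [(D.fieldAutOf_iff σ (fixes_odd m σ) φ).1 hφ] at hα
  have hσ : orderOf σ = r := by
    rw [← D.orderOf_fieldQ σ (fixes_odd m σ), ← hα, ← MulAut.conj_apply, MulEquiv.orderOf_eq, hxr]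
  obtain ⟨hrf, -⟩ := Cfsg.Agent.Lib.AutPSL.card_fixField hF hσ
  obtain ⟨j, hj⟩ := Cfsg.Agent.Lib.AutPSL.exists_fixField_hom hF hσ F₀ hF₀
  have h20 : (2 : F₀) ≠ 0 := fun h => h2 (by
    have := congrArg j h
    rwa [map_ofNat, map_zero] at this)
  set D₀ := DOdd (F := F₀) hm h20
  let X : Rat (1 : GS (Cfsg.quadFormOdd m F)) σ j (Cfsg.quadFormOdd m F₀) := oddRat j
  have hx' : x = α⁻¹ * (D.conjQ 1 * D.fieldQ σ (fixes_odd m σ)) * α⁻¹⁻¹ := by
    rw [map_one, one_mul, ← hα]; group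
  have hinn : Cfsg.Inn (Cfsg.POmega F (Cfsg.quadFormOdd m F)) ≤ D.conjQ.range := by
    rw [D.inn_eq_map, MonoidHom.range_eq_map]; exact Subgroup.map_mono le_top
  have key := splitClassCount_eq D D₀ (fixes_odd m σ) X hj ⊤ ⊤ (fun _ => trivial)
    (fun _ => ⟨fun _ => trivial, fun _ => trivial⟩) D.omegaG le_top _ D.inn_eq_map
  rw [← MonoidHom.range_eq_map] at key
  refine ⟨hrf, ?_, fun hodd' => ?_, fun hr2 => ?_⟩
  · rw [hx', inndiagOdd_eq (F := F₀) hm h20]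
    obtain ⟨e⟩ := Cfsg.Agent.Lib.AutPSp.centralizer_conj_equiv_of_normal D.conjQ.range
      (D.conjQ 1 * D.fieldQ σ (fixes_odd m σ)) α⁻¹
    obtain ⟨e'⟩ := centralizer_equiv D D₀ (fixes_odd m σ) X hj ⊤ ⊤ (fun _ => trivial)
      (fun _ => ⟨fun _ => trivial, fun _ => trivial⟩)
    rw [← MonoidHom.range_eq_map, ← MonoidHom.range_eq_map] at e'
    exact ⟨e.trans e'⟩
  · rw [hx', Cfsg.Agent.Lib.AutPSp.splitClassCount_conj_of_normal hinn, key]
    exact oddL_index_one hm h2 h20 fun c hc => nonsq_of_odd hσ hodd' h2 hj hc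
  · rw [hx', Cfsg.Agent.Lib.AutPSp.splitClassCount_conj_of_normal hinn, key]
    exact oddL_index_two hm h2 h20 fun c => sq_of_two (hσ.trans hr2) hj c

end Cfsg.Agent.S2714
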