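import Cfsg.Statements.S2715
import Cfsg.Agent.Lib.OrthField.PlusSplit
import Cfsg.Agent.Lib.OrthField.D4Plus
-- import your own Cfsg.Agent.* helpers here

set_option autoImplicit false
open Cfsg

namespace Cfsg.Agent.S2715

open Cfsg.Agent.Lib.OrthField

theorem rot_normal {F : Type*} [Field F] [Fintype F] {m : ℕ} (hm : 4 ≤ m) :
    (((DPlus (F := F) hm).rot (hkPlus m)).map (DPlus (F := F) hm).conjQ).Normal := by
  rcases Nat.lt_or_ge m 5 with h | h
  · obtain rfl : m = 4 := by omega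
    exact D4Plus.rot_normal
  · exact (DPlus (F := F) hm).rot_normal_map (hkPlus m)
      (Cfsg.Agent.Lib.AutPOmega.noTriality_plus h)

set_option maxHeartbeats 2000000 in
/-- Let T = PΩ⁺_{2m}(F) (m ≥ 4, |F| = p^f; the form Σ xᵢ yᵢ), G = Inndiag(T) the image of the class-preserving similarities in Aut(T), and x a field automorphism of T of prime order r. Then r divides f; C_G(x) is isomorphic to Inndiag(PΩ⁺_{2m}(F₀)) for a field F₀ with p^(f/r) elements; and the G-class of x is the union of exactly c T-classes, where c = 1 if r is odd or p = 2, and otherwise (r = 2, p odd) c = 2 when m is odd and p^(f/2) ≡ 1 (mod 4), and c = 4 in the remaining cases. -/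
theorem result {F : Type*} [Field F] [Fintype F] {p f : ℕ} [Fact p.Prime] (hF : Fintype.card F = p ^ f) (hf : 1 ≤ f) {m : ℕ} (hm : 4 ≤ m) (x : MulAut (Cfsg.POmega F (Cfsg.quadFormPlus m F))) (hx : Cfsg.IsFieldAutClassPOmega (Cfsg.quadFormPlus m F) x) {r : ℕ} (hr : r.Prime) (hxr : orderOf x = r) (F₀ : Type*) [Field F₀] [Fintype F₀] (hF₀ : Fintype.card F₀ = p ^ (f / r)) :
    r ∣ f ∧ Nonempty (↥(Cfsg.inndiagPOmegaPlus m F ⊓ Subgroup.centralizer {x}) ≃* ↥(Cfsg.inndiagPOmegaPlus m F₀)) ∧ ((Odd r ∨ p = 2) → Cfsg.splitClassCount (Cfsg.inndiagPOmegaPlus m F) (Cfsg.Inn (Cfsg.POmega F (Cfsg.quadFormPlus m F))) x = 1) ∧ ((r = 2 ∧ p ≠ 2 ∧ Odd m ∧ p ^ (f / 2) % 4 = 1) → Cfsg.splitClassCount (Cfsg.inndiagPOmegaPlus m F) (Cfsg.Inn (Cfsg.POmega F (Cfsg.quadFormPlus m F))) x = 2) ∧ ((r = 2 ∧ p ≠ 2 ∧ ¬ (Odd m ∧ p ^ (f / 2) % 4 = 1)) → Cfsg.splitClassCount (Cfsg.inndiagPOmegaPlus m F) (Cfsg.Inn (Cfsg.POmega F (Cfsg.quadFormPlus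 m F))) x = 4) := by
  classical
  set D := DPlus (F := F) hm
  have hH := inndiagPlus_eq (F := F) hm
  haveI : Nonempty (Fin m ⊕ Fin m) := ⟨.inl ⟨0, by omega⟩⟩
  haveI hN := rot_normal (F := F) hm
  obtain ⟨α, φ, σ, -, hφ, hα⟩ := hx
  rw [(D.fieldAutOf_iff σ (fixes_plus m σ) φ).1 hφ] at hα
  have hσ : orderOf σ = r := by
    rw [← D.orderOf_fieldQ σ (fixes_plus m σ), ← hα, ← MulAut.conj_apply, MulEquiv.orderOf_eq, hxr]
  obtain ⟨hrf, -⟩ := Cfsg.Agent.Lib.AutPSL.card_fixField hF hσ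
  obtain ⟨j, hj⟩ := Cfsg.Agent.Lib.AutPSL.exists_fixField_hom hF hσ F₀ hF₀
  set D₀ := DPlus (F := F₀) hm
  let X : Rat (1 : GS (Cfsg.quadFormPlus m F)) σ j (Cfsg.quadFormPlus m F₀) := plusRat j
  have hx' : x = α⁻¹ * (D.conjQ 1 * D.fieldQ σ (fixes_plus m σ)) * α⁻¹⁻¹ := by
    rw [map_one, one_mul, ← hα]; group
  have hcount : Cfsg.splitClassCount (Cfsg.inndiagPOmegaPlus m F)
      (Cfsg.Inn (Cfsg.POmega F (Cfsg.quadFormPlus m F))) x =
      (splitL D D₀ X (hkPlus m)).relIndex (D.rot (hkPlus m)) := by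
    rw [hH, hx', Cfsg.Agent.Lib.AutPSp.splitClassCount_conj_of_normal (D.inn_le_rot (hkPlus m)),
      splitClassCount_eq D D₀ (fixes_plus m σ) X hj (D.rot (hkPlus m))
        (D₀.rot (hkPlus m)) (D.scal_mem_rot _) (emb_mem_rot_iff D D₀ X (hkPlus m) (hkPlus m))
        D.omegaG (D.omegaG_le_rot _) _ D.inn_eq_map]
    rfl
  haveI : CharP F p := charP_of_card_eq_prime_pow hF
  refine ⟨hrf, ?_, fun hcase => ?_, fun hp => ?_, fun hp => ?_⟩
  · rw [hH, hx', inndiagPlus_eq (F := F₀) hm]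
    obtain ⟨e₁⟩ := Cfsg.Agent.Lib.AutPSp.centralizer_conj_equiv_of_normal
      ((D.rot (hkPlus m)).map D.conjQ) (D.conjQ 1 * D.fieldQ σ (fixes_plus m σ)) α⁻¹
    obtain ⟨e₂⟩ := centralizer_equiv D D₀ (fixes_plus m σ) X hj (D.rot (hkPlus m))
      (D₀.rot (hkPlus m)) (D.scal_mem_rot _) (emb_mem_rot_iff D D₀ X (hkPlus m) (hkPlus m))
    exact ⟨e₁.trans e₂⟩
  · rw [hcount]
    refine splitL_index_one D D₀ X (hkPlus m) (hkPlus m) (fun h2 c hc => ?_) (exists_mult_plus hm)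
    rcases hcase with hodd | hp2
    · exact nonsq_of_odd hσ hodd h2 hj hc
    · subst hp2
      exact absurd (CharTwo.two_eq_zero (R := F)) h2
  all_goals
    obtain ⟨hr2, hp2, hcond⟩ := hp
    subst hr2
    have h20 : (2 : F₀) ≠ 0 := fun h => by
      have h' : ((2 : ℕ) : F) = 0 := by
        rw [Nat.cast_ofNat, ← map_ofNat j 2, h, map_zero]
      exact hp2 ((Nat.prime_dvd_prime_iff_eq Fact.out Nat.prime_two).1
        ((CharP.cast_eq_zero_iff F p 2).1 h'))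
    have hq : Nat.card F₀ = p ^ (f / 2) := by rw [Nat.card_eq_fintype_card, hF₀]
    rw [hcount]
  · exact (plus_split hm hσ hj h20 hq).1 hcond
  · exact (plus_split hm hσ hj h20 hq).2 hcond

end Cfsg.Agent.S2715
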