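import Cfsg.Statements.S2716
import Cfsg.Agent.Lib.OrthField.EvenSplit
-- import your own Cfsg.Agent.* helpers here

set_option autoImplicit false
open Cfsg

namespace Cfsg.Agent.S2716

open Cfsg.Agent.Lib.OrthField

/-- Let T = PΩ⁻_{2m+2}(F) (m ≥ 3, |F| = p^f; the form Σ xᵢ yᵢ + z₁² + a z₁ z₂ + b z₂² with anisotropic binary part), G = Inndiag(T), and x a field automorphism of T of prime order r. Then r is odd and divides f; C_G(x) is isomorphic to Inndiag(PΩ⁻_{2m+2}(F₀)) for a field F₀ with p^(f/r) elements and some anisotropic binary part over F₀; and the G-class of x is a single T-class. -/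
theorem result {F : Type*} [Field F] [Fintype F] {p f : ℕ} [Fact p.Prime] (hF : Fintype.card F = p ^ f) (hf : 1 ≤ f) {m : ℕ} (hm : 3 ≤ m) (a b : F) (hab : (∀ z₁ z₂ : F, z₁ ^ 2 + a * z₁ * z₂ + b * z₂ ^ 2 = 0 → z₁ = 0 ∧ z₂ = 0)) (x : MulAut (Cfsg.POmega F (Cfsg.quadFormMinus m F a b))) (hx : Cfsg.IsFieldAutClassPOmegaMinus m x) {r : ℕ} (hr : r.Prime) (hxr : orderOf x = r) (F₀ : Type*) [Field F₀] [Fintype F₀] (hF₀ : Fintype.card F₀ = p ^ (f / r)) :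
    Odd r ∧ r ∣ f ∧ (∃ a₀ b₀ : F₀, (∀ z₁ z₂ : F₀, z₁ ^ 2 + a₀ * z₁ * z₂ + b₀ * z₂ ^ 2 = 0 → z₁ = 0 ∧ z₂ = 0) ∧ Nonempty (↥(Cfsg.inndiagPOmegaMinus m F a b ⊓ Subgroup.centralizer {x}) ≃* ↥(Cfsg.inndiagPOmegaMinus m F₀ a₀ b₀))) ∧ Cfsg.splitClassCount (Cfsg.inndiagPOmegaMinus m F a b) (Cfsg.Inn (Cfsg.POmega F (Cfsg.quadFormMinus m F a b))) x = 1 := by
  classical
  obtain ⟨a', b', hab', σ, hσ, E, ha, hb, hord, hH, hI, hEx⟩ := minus_setup hm hab hx hxr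
  obtain ⟨hrf, -⟩ := Cfsg.Agent.Lib.AutPSL.card_fixField hF hord
  obtain ⟨j, hj⟩ := Cfsg.Agent.Lib.AutPSL.exists_fixField_hom hF hord F₀ hF₀
  obtain ⟨a₀, rfl⟩ := (hj a').1 ha
  obtain ⟨b₀, rfl⟩ := (hj b').1 hb
  have hab₀ : Aniso a₀ b₀ := fun z₁ z₂ hz => by
    have h := hab' (j z₁) (j z₂) (by
      rw [← map_pow, ← map_pow, ← map_mul, ← map_mul, ← map_mul, ← map_add, ← map_add, hz, map_zero])
    exact ⟨j.injective (h.1.trans (map_zero j).symm), j.injective (h.2.trans (map_zero j).symm)⟩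
  have hodd : Odd r := by
    rcases hr.eq_two_or_odd' with h | h
    · exact absurd hab' (not_aniso_two (hord.trans h) hj hab₀)
    · exact h
  set D := DMinus hm hab'
  set D₀ := DMinus hm hab₀
  let X : Rat (1 : GS (Cfsg.quadFormMinus m F (j a₀) (j b₀))) σ j
      (Cfsg.quadFormMinus m F₀ a₀ b₀) := minusRat j a₀ b₀
  have hinn := D.inn_le_rot (hkMinus m)
  refine ⟨hodd, hrf, ⟨a₀, b₀, hab₀, ?_⟩, ?_⟩
  · obtain ⟨e₁⟩ := centralizer_map_equiv E (Cfsg.inndiagPOmegaMinus m F a b) x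
    obtain ⟨e₂⟩ := centralizer_equiv D D₀ hσ X hj (D.rot (hkMinus m)) (D₀.rot (hkMinus m))
      (D.scal_mem_rot _) (emb_mem_rot_iff D D₀ X (hkMinus m) (hkMinus m))
    exact ⟨e₁.trans ((MulEquiv.subgroupCongr (by rw [hH, hEx])).trans
      (e₂.trans (MulEquiv.subgroupCongr (inndiagMinus_eq hm hab₀).symm)))⟩
  · rw [← splitClassCount_map E, hH, hI, hEx,
      splitClassCount_eq D D₀ hσ X hj (D.rot (hkMinus m)) (D₀.rot (hkMinus m))
        (D.scal_mem_rot _) (emb_mem_rot_iff D D₀ X (hkMinus m) (hkMinus m)) D.omegaG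
        (D.omegaG_le_rot _) _ D.inn_eq_map]
    exact splitL_index_one D D₀ X (hkMinus m) (hkMinus m)
      (fun h2 c hc => nonsq_of_odd hord hodd h2 hj hc) (exists_mult_minus hm hab₀)

end Cfsg.Agent.S2716
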