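import Cfsg.Statements.S2717
import Cfsg.Agent.Lib.OrthField.EvenPlus
-- import your own Cfsg.Agent.* helpers here

set_option autoImplicit false
open Cfsg

namespace Cfsg.Agent.S2717

open Cfsg.Agent.Lib.OrthField

set_option maxHeartbeats 2000000 in
/-- Let T = PΩ⁺_{2m}(F) with m ≥ 5 (dimension 2m ≠ 8) and |F| = p^f, G = Inndiag(T), and x an involutory graph-field automorphism of T. Then f is even; any two involutory graph-field automorphisms of T are G-conjugate; C_G(x) is isomorphic to Inndiag(PΩ⁻_{2m}(F₀)) for a field F₀ with p^(f/2) elements (some anisotropic binary part over F₀); and the G-class of x is the union of exactly c T-classes with c = 1 if p = 2, c = 4 if p is odd, m is odd and p^(f/2) ≡ 1 (mod 4), and c = 2 otherwise. -/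
theorem result {F : Type*} [Field F] [Fintype F] {p f : ℕ} [Fact p.Prime] (hF : Fintype.card F = p ^ f) (hf : 1 ≤ f) {m : ℕ} (hm : 5 ≤ m) (x : MulAut (Cfsg.POmega F (Cfsg.quadFormPlus m F))) (hx : Cfsg.IsGraphFieldAutClassPOmegaPlus m x) (hx2 : orderOf x = 2) (F₀ : Type*) [Field F₀] [Fintype F₀] (hF₀ : Fintype.card F₀ = p ^ (f / 2)) :
    Even f ∧ (∀ y : MulAut (Cfsg.POmega F (Cfsg.quadFormPlus m F)), Cfsg.IsGraphFieldAutClassPOmegaPlus m y → orderOf y = 2 → Cfsg.IsConjUnder (Cfsg.inndiagPOmegaPlus m F) x y) ∧ (∃ a₀ b₀ : F₀, (∀ z₁ z₂ : F₀, z₁ ^ 2 + a₀ * z₁ * z₂ + b₀ * z₂ ^ 2 = 0 → z₁ = 0 ∧ z₂ = 0) ∧ Nonempty (↥(Cfsg.inndiagPOmegaPlus m F ⊓ Subgroup.centralizer {x}) ≃* ↥(Cfsg.inndiagPOmegaMinus (m - 1) F₀ a₀ b₀))) ∧ (p = 2 → Cfsg.splitClassCount (Cfsg.inndiagPOmegaPlus m F) (Cfsg.Inn (Cfsg.POmega F (Cfsg.quadFormPlus m F))) x = 1) ∧ ((p ≠ 2 ∧ Odd m ∧ p ^ (f / 2) % 4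 = 1) → Cfsg.splitClassCount (Cfsg.inndiagPOmegaPlus m F) (Cfsg.Inn (Cfsg.POmega F (Cfsg.quadFormPlus m F))) x = 4) ∧ ((p ≠ 2 ∧ ¬ (Odd m ∧ p ^ (f / 2) % 4 = 1)) → Cfsg.splitClassCount (Cfsg.inndiagPOmegaPlus m F) (Cfsg.Inn (Cfsg.POmega F (Cfsg.quadFormPlus m F))) x = 2) := by
  classical
  obtain ⟨n, rfl⟩ : ∃ n, m = n + 1 := ⟨m - 1, by omega⟩
  have hm4 : 4 ≤ n + 1 := by omega
  have hn : 3 ≤ n := by omega
  set D := DPlus (F := F) hm4 with hD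
  obtain ⟨σ, hσ, a, ha, hxe⟩ := graphField_std hm4 hm hx hx2
  obtain ⟨hrf, hcard⟩ := Cfsg.Agent.Lib.AutPSL.card_fixField hF hσ
  obtain ⟨j, hj⟩ := Cfsg.Agent.Lib.AutPSL.exists_fixField_hom hF hσ F₀ hF₀
  obtain ⟨a₀, b₀, rr, hab₀, h1, h2, h3, h4⟩ := exists_aniso_root hσ hj
  set D₀ := DMinus hn hab₀
  let X : Rat (g0 (F := F) hm4) σ j (Cfsg.quadFormMinus n F₀ a₀ b₀) := g0Rat hm4 σ j h1 h2 h3 h4
  have hH := inndiagPlus_eq (F := F) hm4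
  have hconj : D.conjQ a ∈ (D.rot (hkPlus (n + 1))).map D.conjQ := ⟨a, ha, rfl⟩
  have hcount : Cfsg.splitClassCount (Cfsg.inndiagPOmegaPlus (n + 1) F)
      (Cfsg.Inn (Cfsg.POmega F (Cfsg.quadFormPlus (n + 1) F))) x =
      (splitL D D₀ X (hkMinus n)).relIndex (D.rot (hkPlus (n + 1))) := by
    rw [hH, hxe, Cfsg.Agent.Lib.AutPSL.splitClassCount_conj _ hconj,
      splitClassCount_eq D D₀ (fixes_plus (n + 1) σ) X hj (D.rot (hkPlus (n + 1)))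
        (D₀.rot (hkMinus n)) (D.scal_mem_rot _) (emb_mem_rot_iff D D₀ X (hkPlus (n + 1)) (hkMinus n))
        D.omegaG (D.omegaG_le_rot _) _ D.inn_eq_map]
    rfl
  haveI : CharP F p := charP_of_card_eq_prime_pow hF
  refine ⟨even_iff_two_dvd.2 hrf, fun y hy hy2 => ?_, ⟨a₀, b₀, hab₀, ?_⟩, fun hp => ?_,
    fun hp => ?_, fun hp => ?_⟩
  · obtain ⟨σ', hσ', b, hb, hye⟩ := graphField_std hm4 hm hy hy2
    obtain rfl := involution_unique hσ hσ'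
    refine ⟨D.conjQ (b * a⁻¹), hH ▸ ⟨_, mul_mem hb (inv_mem ha), rfl⟩, ?_⟩
    rw [hye, hxe]; simp only [D, map_mul, map_inv]; group
  · show Nonempty (_ ≃* ↥(Cfsg.inndiagPOmegaMinus n F₀ a₀ b₀))
    rw [hH, hxe]
    obtain ⟨e₁⟩ := Cfsg.Agent.Lib.AutPSL.centralizer_conj_equiv hconj
      (D.conjQ (g0 hm4) * D.fieldQ σ (fixes_plus (n + 1) σ))
    obtain ⟨e₂⟩ := centralizer_equiv D D₀ (fixes_plus (n + 1) σ) X hj (D.rot (hkPlus (n + 1)))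
      (D₀.rot (hkMinus n)) (D.scal_mem_rot _)
      (emb_mem_rot_iff D D₀ X (hkPlus (n + 1)) (hkMinus n))
    exact ⟨e₁.trans (e₂.trans (MulEquiv.subgroupCongr (inndiagMinus_eq hn hab₀).symm))⟩
  · subst hp
    rw [hcount]
    exact splitL_index_one D D₀ X (hkPlus (n + 1)) (hkMinus n)
      (fun h => absurd (CharTwo.two_eq_zero (R := F)) h) (exists_mult_minus hn hab₀)
  all_goals
    have h20 : (2 : F₀) ≠ 0 := fun h => by
      have h' : ((2 : ℕ) : F) = 0 := by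
        rw [Nat.cast_ofNat, ← map_ofNat j 2, h, map_zero]
      exact hp.1 ((Nat.prime_dvd_prime_iff_eq Fact.out Nat.prime_two).1
        ((CharP.cast_eq_zero_iff F p 2).1 h'))
    have hq : Nat.card F₀ = p ^ (f / 2) := by rw [Nat.card_eq_fintype_card, hF₀]
    rw [hcount]
  · exact (g0_split hm4 hσ hj hab₀ h1 h2 h3 h4 hn h20 hq).1 hp.2
  · exact (g0_split hm4 hσ hj hab₀ h1 h2 h3 h4 hn h20 hq).2 hp.2

end Cfsg.Agent.S2717
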