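import Cfsg.Statements.S2718
import Cfsg.Agent.Lib.GraphClasses.Orth
import Cfsg.Agent.S0790

set_option autoImplicit false
open Cfsg

namespace Cfsg.Agent.S2718

open Cfsg.Agent.Lib

/-- Let T = PΩ⁺_{2m}(F) with m ≥ 4 and |F| = q odd, G = Inndiag(T), and γ an involutory graph automorphism of T induced by a similarity (one interchanging the two classes of maximal totally singular subspaces). Then the G-class of γ is either a single T-class or the union of exactly two T-classes, and it is the union of two unless m is odd and q ≡ 3 (mod 4). -/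
theorem result {F : Type*} [Field F] [Fintype F] (hodd : Odd (Fintype.card F)) {m : ℕ} (hm : 4 ≤ m) (γ : MulAut (Cfsg.POmega F (Cfsg.quadFormPlus m F))) (hγ : Cfsg.IsSimilarityGraphAutPOmegaPlus m γ) (hγ2 : orderOf γ = 2) :
    (Cfsg.splitClassCount (Cfsg.inndiagPOmegaPlus m F) (Cfsg.Inn (Cfsg.POmega F (Cfsg.quadFormPlus m F))) γ = 1 ∨ Cfsg.splitClassCount (Cfsg.inndiagPOmegaPlus m F) (Cfsg.Inn (Cfsg.POmega F (Cfsg.quadFormPlus m F))) γ = 2) ∧ (¬ (Odd m ∧ Fintype.card F % 4 = 3) → Cfsg.splitClassCount (Cfsg.inndiagPOmegaPlus m F) (Cfsg.Inn (Cfsg.POmega F (Cfsg.quadFormPlus m F))) γ = 2) := by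
  classical
  set D := OrthField.DPlus (F := F) hm
  have h2 : (2 : F) ≠ 0 := fun h => by
    have := FiniteField.even_card_of_char_two (F := F)
      (CharP.ringChar_of_prime_eq_zero Nat.prime_two (by exact_mod_cast h))
    rw [Nat.odd_iff] at hodd
    omega
  obtain ⟨g₀, hgs, hnp, hind⟩ := hγ
  set g : OrthField.GS (Cfsg.quadFormPlus m F) := ⟨g₀, hgs⟩
  obtain rfl : γ = D.conjQ g := (D.induced_iff' g γ).1 hind
  have hg : D.chi (OrthField.hkPlus m) g ≠ 1 := by
    intro h
    apply hnp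
    rw [D.chi_odd _ h2] at h
    show Cfsg.PreservesSingularClasses _ (g.1 : Matrix (Fin m ⊕ Fin m) (Fin m ⊕ Fin m) F)
    rw [show g.1 = (D.ofGSHom g).mat from (D.mat_ofGS g).symm,
      AutPOmega.preserves_iff (OrthStd.quadFormPlus_eq m) (Forms.qPlus_nondeg m) Forms.MaxSingular.finrank_space
        Forms.MaxSingular.isMax_stdX (D.ofGSHom_mem g),
      AutPOmega.famHom_det _ _ _ h2 (QuadraticMap.IsometryEquiv.refl _) (D.ofGSHom_mem g),
      show (D.ofGSHom g).mat = g.1 from D.mat_ofGS g]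
    exact h
  have hg2 : D.conjQ g * D.conjQ g = 1 := by
    have := pow_orderOf_eq_one (D.conjQ g)
    rwa [hγ2, pow_two] at this
  rw [OrthField.inndiagPlus_eq hm]
  obtain ⟨h1, h3⟩ := GraphClasses.Orth.split_count D (OrthField.hkPlus m) h2 (OrthField.exists_mult_plus hm) hg hg2
  refine ⟨h1, fun hne => h3 ?_⟩
  by_cases hev : Even m
  · exact Or.inl hev
  refine Or.inr fun o ho => ?_
  have hq : Fintype.card F % 4 = 1 := by
    have := Nat.odd_iff.1 hodd
    have : Fintype.card F % 4 ≠ 3 := fun h => hne ⟨Nat.not_even_iff_odd.1 hev, h⟩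
    omega
  obtain ⟨o', ho', hneg⟩ := (Forms.exists_neg_one_Omega_iff (Forms.qPlus_eq m)).1
    ((Cfsg.Agent.S0790.result rfl hodd m (by omega)).2 (by rw [Nat.pow_mod, hq, one_pow, Nat.one_mod]))
  obtain rfl : o = o' := OrthOmega.orth_ext fun x => (ho x).trans (hneg x).symm
  exact ((D.mem_commutator h2 o).1 ho').2

end Cfsg.Agent.S2718
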