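import Cfsg.Statements.S2719
import Cfsg.Agent.Lib.GraphClasses.Orth
import Cfsg.Agent.Lib.GraphClasses.OddForms
import Cfsg.Agent.S0791

set_option autoImplicit false
open Cfsg

namespace Cfsg.Agent.S2719

open Cfsg.Agent.Lib

set_option maxHeartbeats 1000000 in
/-- Let T = PΩ⁻_{2m+2}(F) with m ≥ 3 and |F| = q odd (form with anisotropic binary part z₁² + a z₁ z₂ + b z₂²), G = Inndiag(T), and γ an involutory graph automorphism of T (an automorphism in the image of the semisimilarity group, not inner-diagonal, of order 2). Then the G-class of γ is either a single T-class or the union of exactly two T-classes, and it is the union of two unless m is even and q ≡ 1 (mod 4). -/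
theorem result {F : Type*} [Field F] [Fintype F] (hodd : Odd (Fintype.card F)) {m : ℕ} (hm : 3 ≤ m) (a b : F) (hab : (∀ z₁ z₂ : F, z₁ ^ 2 + a * z₁ * z₂ + b * z₂ ^ 2 = 0 → z₁ = 0 ∧ z₂ = 0)) (γ : MulAut (Cfsg.POmega F (Cfsg.quadFormMinus m F a b))) (hγ : Cfsg.IsGraphAutClassPOmegaMinus m a b γ) (hγ2 : orderOf γ = 2) :
    (Cfsg.splitClassCount (Cfsg.inndiagPOmegaMinus m F a b) (Cfsg.Inn (Cfsg.POmega F (Cfsg.quadFormMinus m F a b))) γ = 1 ∨ Cfsg.splitClassCount (Cfsg.inndiagPOmegaMinus m F a b) (Cfsg.Inn (Cfsg.POmega F (Cfsg.quadFormMinus m F a b))) γ = 2) ∧ (¬ (Even m ∧ Fintype.card F % 4 = 1) → Cfsg.splitClassCount (Cfsg.inndiagPOmegaMinus m F a b) (Cfsg.Inn (Cfsg.POmega F (Cfsg.quadFormMinus m F a b))) γ = 2) := by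
  classical
  set D := OrthField.DMinus hm hab
  have h2 : (2 : F) ≠ 0 := fun h => by
    have := FiniteField.even_card_of_char_two (F := F)
      (CharP.ringChar_of_prime_eq_zero Nat.prime_two (by exact_mod_cast h))
    rw [Nat.odd_iff] at hodd
    omega
  obtain ⟨S, rfl⟩ := D.exists_semisim (AutPOmega.noTriality_minus hab) γ
  have h11 : D.toPG'.symm S.aut * D.toPG'.symm S.aut = 1 := by
    have := pow_orderOf_eq_one (D.toPG'.symm S.aut)
    rwa [hγ2, pow_two] at this
  have hS2 : S.aut * S.aut = 1 := D.toPG'.symm.injective (by rw [map_mul, map_one]; exact h11)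
  have hτ : S.τ = RingEquiv.refl F := GraphClasses.Orth.tau_eq_one D h2 hS2 (OrthField.hkMinus m) (by
    show ¬ IsSquare ((Forms.gram (OrthStd.qMinusC m a b)).det * (-1) ^ (m + 1))
    rw [GraphClasses.det_qMinusC, show (-1 : F) ^ m * (4 * b - a ^ 2) * (-1) ^ (m + 1) =
      ((-1) ^ m * (-1) ^ m) * (a ^ 2 - 4 * b) by ring, ← mul_pow, neg_one_mul, neg_neg, one_pow, one_mul]
    exact GraphClasses.not_isSquare_disc h2 hab)
  set g : OrthField.GS (Cfsg.quadFormMinus m F a b) := ⟨S.mat, AutPOmega.Semisim.mat_mem D.hf hτ⟩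
  have hgS : D.conjQ g = D.toPG'.symm S.aut := by
    show D.toPG'.symm (D.ofGS g).aut = _
    exact congrArg _ (D.aut_congr fun v => AutPOmega.Semisim.mat_mulVec_of_mem hτ v)
  obtain ⟨-, hnin, -⟩ := hγ
  rw [← hgS] at h11 hnin ⊢
  rw [OrthField.inndiagMinus_eq hm hab] at hnin ⊢
  have hg : D.chi (OrthField.hkMinus m) g ≠ 1 := fun h => hnin ⟨g, h, rfl⟩
  obtain ⟨h1, h3⟩ := GraphClasses.Orth.split_count D (OrthField.hkMinus m) h2 (OrthField.exists_mult_minus hm hab) hg h11
  refine ⟨h1, fun hne => h3 ?_⟩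
  by_cases hev : Even (m + 1)
  · exact Or.inl hev
  refine Or.inr fun o ho => ?_
  have hm2 : Even m := by rwa [Nat.even_add_one, not_not] at hev
  have hq : Fintype.card F % 4 = 3 := by
    have := Nat.odd_iff.1 hodd
    have : Fintype.card F % 4 ≠ 1 := fun h => hne ⟨hm2, h⟩
    omega
  obtain ⟨k, rfl⟩ := hm2
  obtain ⟨o', ho', hneg⟩ := (Forms.exists_neg_one_Omega_iff (Q := D.Q) D.hf).1
    ((Cfsg.Agent.S0791.result rfl hodd (k + k + 1) (by omega) a b hab).2 (by
      rw [pow_add, ← two_mul, pow_mul, pow_one, Nat.mul_mod, Nat.pow_mod,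
        show Fintype.card F ^ 2 % 4 = 1 by rw [Nat.pow_mod, hq], one_pow, hq]; rfl))
  obtain rfl : o = o' := OrthOmega.orth_ext fun x => (ho x).trans (hneg x).symm
  exact ((D.mem_commutator h2 o).1 ho').2

end Cfsg.Agent.S2719
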