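import Cfsg.Statements.S2722
import Cfsg.Agent.Lib.AutPOmega.OutPgo

set_option autoImplicit false
open Cfsg

namespace Cfsg.Agent.S2722

open Module QuadraticMap Cfsg.Agent.Lib.Forms Cfsg.Agent.Lib.OrthOmega Cfsg.Agent.Lib.OrthStd
  Cfsg.Agent.Lib.AutPOmega Cfsg.Agent.Lib.AutPOmega.Semisim


/-- Let T = PΩ⁺_{2m}(F) with m ≥ 4 and |F| = q odd. Inside Aut(T), the image G̃ of the conformal orthogonal group of the form modulo the image of the special orthogonal group is elementary abelian of order 4. -/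
theorem result {F : Type*} [Field F] [Fintype F] (hodd : Odd (Fintype.card F)) {m : ℕ} (hm : 4 ≤ m) :
    (∃ φ : ↥(Cfsg.pgoAut F (Cfsg.quadFormPlus m F)) →* Multiplicative (ZMod 2 × ZMod 2), Function.Surjective φ ∧ φ.ker = (Cfsg.psoAut F (Cfsg.quadFormPlus m F)).subgroupOf (Cfsg.pgoAut F (Cfsg.quadFormPlus m F))) := by
  have h2 : (2 : F) ≠ 0 := two_ne_zero_of_odd hodd
  obtain ⟨D, hD, hDc⟩ := exists_scale_plus m h2
  have hn := card_plus_index m
  have h5 := five_le_plus F hm
  have h7 := seven_le_plus F hm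
  have hQ := qPlus_nondeg (F := F) m
  have hf := quadFormPlus_eq (F := F) m
  exact exists_pgo_mod_pso hQ h5 h7 hf hn h2 hD hDc

end Cfsg.Agent.S2722
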