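import Cfsg.Statements.S2723
import Cfsg.Agent.Lib.AutPOmega.OutPgo

set_option autoImplicit false
open Cfsg

namespace Cfsg.Agent.S2723

open Module QuadraticMap Cfsg.Agent.Lib.Forms Cfsg.Agent.Lib.OrthOmega Cfsg.Agent.Lib.OrthStd
  Cfsg.Agent.Lib.AutPOmega Cfsg.Agent.Lib.AutPOmega.Semisim


/-- Let T = PΩ⁺_{2m}(F) with m ≥ 4 and |F| = q odd. The image of the special orthogonal group in Aut(T) contains the inner automorphism group T with index 1 (they coincide) when m is odd and q ≡ 3 (mod 4), and with index 2 otherwise (the index is 2 exactly when the discriminant of the form is a square). -/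
theorem result {F : Type*} [Field F] [Fintype F] (hodd : Odd (Fintype.card F)) {m : ℕ} (hm : 4 ≤ m) :
    ((Odd m ∧ Fintype.card F % 4 = 3) → (Cfsg.Inn (Cfsg.POmega F (Cfsg.quadFormPlus m F))).relIndex (Cfsg.psoAut F (Cfsg.quadFormPlus m F)) = 1) ∧ (¬ (Odd m ∧ Fintype.card F % 4 = 3) → (Cfsg.Inn (Cfsg.POmega F (Cfsg.quadFormPlus m F))).relIndex (Cfsg.psoAut F (Cfsg.quadFormPlus m F)) = 2) := by
  have h2 : (2 : F) ≠ 0 := two_ne_zero_of_odd hodd
  obtain ⟨D, hD, hDc⟩ := exists_scale_plus m h2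
  have hn := card_plus_index m
  have h5 := five_le_plus F hm
  have h7 := seven_le_plus F hm
  have hQ := qPlus_nondeg (F := F) m
  have hf := quadFormPlus_eq (F := F) m
  have hP : Nat.card ((propDet (qPlus (F := F) m) m).map (outHom hQ h5 hf)) =
      Nat.gcd 4 (Fintype.card F ^ m - 1) := card_proper_plus hm rfl h2
  have hg := gcd_four_pow_sub_one (n := m) hodd (by omega)
  have hS := card_so_out hQ h5 h7 hf hn h2 hD hDc
  rw [psoAut_eq hQ h5 hf (m := m), relIndex_inn_eq hQ h5 hf _ (eg_le_soSim hQ h5)]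
  refine ⟨fun h => ?_, fun h => ?_⟩
  · rw [if_pos ⟨h.2, h.1⟩] at hg; omega
  · rw [if_neg fun hh => h ⟨hh.2, hh.1⟩] at hg; omega

end Cfsg.Agent.S2723
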