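import Cfsg.Statements.S2724
import Cfsg.Agent.Lib.AutPOmega.OutPgo

set_option autoImplicit false
open Cfsg

namespace Cfsg.Agent.S2724

open Module QuadraticMap Cfsg.Agent.Lib.Forms Cfsg.Agent.Lib.OrthOmega Cfsg.Agent.Lib.OrthStd
  Cfsg.Agent.Lib.AutPOmega Cfsg.Agent.Lib.AutPOmega.Semisim


/-- Let T = PΩ⁺_{2m}(F) with m ≥ 4 and |F| = q odd. The image G̃ of the conformal orthogonal group in Aut(T), taken modulo the inner automorphism group T, is elementary abelian of order 4 when m is odd and q ≡ 3 (mod 4), and dihedral of order 8 otherwise. -/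
theorem result {F : Type*} [Field F] [Fintype F] (hodd : Odd (Fintype.card F)) {m : ℕ} (hm : 4 ≤ m) :
    ((Odd m ∧ Fintype.card F % 4 = 3) → (∃ φ : ↥(Cfsg.pgoAut F (Cfsg.quadFormPlus m F)) →* Multiplicative (ZMod 2 × ZMod 2), Function.Surjective φ ∧ φ.ker = (Cfsg.Inn (Cfsg.POmega F (Cfsg.quadFormPlus m F))).subgroupOf (Cfsg.pgoAut F (Cfsg.quadFormPlus m F)))) ∧ (¬ (Odd m ∧ Fintype.card F % 4 = 3) → (∃ φ : ↥(Cfsg.pgoAut F (Cfsg.quadFormPlus m F)) →* DihedralGroup 4, Function.Surjective φ ∧ φ.ker = (Cfsg.Inn (Cfsg.POmega F (Cfsg.quadFormPlus m F))).subgroupOf (Cfsg.pgoAut F (Cfsg.quadFormPlus m F)))) := by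
  have h2 : (2 : F) ≠ 0 := two_ne_zero_of_odd hodd
  obtain ⟨D, hD, hDc⟩ := exists_scale_plus m h2
  have hn := card_plus_index m
  have h5 := five_le_plus F hm
  have h7 := seven_le_plus F hm
  have hQ := qPlus_nondeg (F := F) m
  have hf := quadFormPlus_eq (F := F) m
  have hP : Nat.card ((propDet (qPlus (F := F) m) m).map (outHom hQ h5 hf)) =
      Nat.gcd 4 (Fintype.card F ^ m - 1) := card_proper_plus hm rfl h2
  have hg := gcd_four_pow_sub_one (n := m) hodd (by omega)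
  have hA := pgoAut_eq hQ h5 hf
  refine ⟨fun h => ?_, fun h => ?_⟩
  · rw [if_pos ⟨h.2, h.1⟩] at hg
    rw [hg] at hP
    obtain ⟨e⟩ := nonempty_pgo_klein hQ h5 h7 hf hn h2 hD hDc hP
    exact exists_mod_inner hQ h5 hf _ hA e
  · rw [if_neg fun hh => h ⟨hh.2, hh.1⟩] at hg
    rw [hg] at hP
    obtain ⟨e⟩ := nonempty_pgo_dihedral hQ h5 h7 hf hn h2 hD hDc
      (exists_neg_plus hm rfl h2 hg) hP
    exact exists_mod_inner hQ h5 hf _ hA e

end Cfsg.Agent.S2724
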