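import Cfsg.Statements.S2725
import Cfsg.Agent.Lib.AutPOmega.OutPlus

set_option autoImplicit false
open Cfsg

namespace Cfsg.Agent.S2725

open Module QuadraticMap Cfsg.Agent.Lib.Forms Cfsg.Agent.Lib.OrthOmega Cfsg.Agent.Lib.OrthStd
  Cfsg.Agent.Lib.AutPOmega Cfsg.Agent.Lib.AutPOmega.Semisim


/-- Let T = PΩ⁺_{2m}(F) with m ≥ 4 and |F| = q odd. The inner-diagonal group G = Inndiag(T) (image of the class-preserving similarities) taken modulo the inner automorphism group T is cyclic of order 2 when m is odd and q ≡ 3 (mod 4), cyclic of order 4 when m is odd and q ≡ 1 (mod 4), and elementary abelian of order 4 when m is even. -/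
theorem result {F : Type*} [Field F] [Fintype F] (hodd : Odd (Fintype.card F)) {m : ℕ} (hm : 4 ≤ m) :
    ((Odd m ∧ Fintype.card F % 4 = 3) → (∃ φ : ↥(Cfsg.inndiagPOmegaPlus m F) →* Multiplicative (ZMod 2), Function.Surjective φ ∧ φ.ker = (Cfsg.Inn (Cfsg.POmega F (Cfsg.quadFormPlus m F))).subgroupOf (Cfsg.inndiagPOmegaPlus m F))) ∧ ((Odd m ∧ Fintype.card F % 4 = 1) → (∃ φ : ↥(Cfsg.inndiagPOmegaPlus m F) →* Multiplicative (ZMod 4), Function.Surjective φ ∧ φ.ker = (Cfsg.Inn (Cfsg.POmega F (Cfsg.quadFormPlus m F))).subgroupOf (Cfsg.inndiagPOmegaPlus m F))) ∧ (Even m → (∃ φ : ↥(Cfsg.inndiagPOmegaPlus m F) →* Multiplicative (ZMod 2 × ZMod 2), Function.Surjective φ ∧ φ.ker = (Cfsg.Inn (Cfsg.POmega F (Cfsg.quadFormPlus m F))).subgroupOf (Cfsg.inndiagPOmegaPlus m F))) := by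
  have h2 : (2 : F) ≠ 0 := two_ne_zero_of_odd hodd
  have hA := inndiagPlus_eq_propDet (F := F) hm h2
  have hP := card_proper_plus hm (m := m) (rfl : Fintype.card F = Fintype.card F) h2
  have hg := gcd_four_pow_sub_one (n := m) hodd (by omega)
  refine ⟨fun h => ?_, fun h => ?_, fun h => ?_⟩
  · rw [if_pos ⟨h.2, h.1⟩] at hg
    rw [hg] at hP
    have : IsCyclic ((propDet (qPlus (F := F) m) m).map (outHom (qPlus_nondeg m) (five_le_plus F hm)
        (quadFormPlus_eq m))) := isCyclic_of_prime_card hP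
    exact exists_mod_inner _ _ _ _ hA (mulEquivOfCyclicCardEq (by
      rw [Nat.card_congr Multiplicative.toAdd, Nat.card_zmod]; exact hP))
  · rw [if_neg (fun hh => by omega)] at hg
    rw [hg] at hP
    obtain ⟨D, R, hD, hR, hD1, hR1, hDR, hR2, hD2⟩ := exists_diag_plus hm rfl h2 hg
    rw [if_neg (Nat.not_even_iff_odd.2 h.1)] at hD2
    have ho : orderOf (outPlus hm D) = 4 := by
      refine orderOf_eq_prime_pow (p := 2) (n := 1) ?_ ?_
      · rw [pow_one, _root_.sq, hD2]; exact hR1
      · rw [show 2 ^ (1 + 1) = 2 * 2 from rfl, pow_mul, _root_.sq, _root_.sq, hD2, hR2]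
    obtain ⟨e⟩ := nonempty_zpowers_equiv (outPlus hm D) ho
    have heq : Subgroup.zpowers (outPlus hm D) = (propDet (qPlus (F := F) m) m).map (outPlus hm) :=
      Subgroup.eq_of_le_of_card_ge (Subgroup.zpowers_le.2 (Subgroup.mem_map_of_mem _ hD))
        (by rw [Nat.card_zpowers, ho, hP])
    exact exists_mod_inner _ _ _ _ hA ((MulEquiv.subgroupCongr heq).symm.trans e)
  · rw [if_neg (fun hh => Nat.not_even_iff_odd.2 hh.2 h)] at hg
    rw [hg] at hP
    obtain ⟨D, R, hD, hR, hD1, hR1, hDR, hR2, hD2⟩ := exists_diag_plus hm rfl h2 hg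
    rw [if_pos h] at hD2
    set P := (propDet (qPlus (F := F) m) m).map (outPlus hm)
    let d : P := ⟨outPlus hm D, Subgroup.mem_map_of_mem _ hD⟩
    let r : P := ⟨outPlus hm R, Subgroup.mem_map_of_mem _ hR⟩
    have hod : orderOf d = 2 := orderOf_eq_prime (by rw [_root_.sq]; exact Subtype.ext hD2)
      fun h0 => hD1 (congrArg Subtype.val h0)
    have hor : orderOf r = 2 := orderOf_eq_prime (by rw [_root_.sq]; exact Subtype.ext hR2)
      fun h0 => hR1 (congrArg Subtype.val h0)
    obtain ⟨e₁⟩ := nonempty_zpowers_equiv d hod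
    obtain ⟨e₂⟩ := nonempty_zpowers_equiv r hor
    obtain ⟨E⟩ := nonempty_equiv_prod ((Subgroup.zpowers d).subtype.comp e₁.symm.toMonoidHom)
      ((Subgroup.zpowers r).subtype.comp e₂.symm.toMonoidHom)
      (fun x y => IsPGroup.commutative_of_card_eq_prime_sq (p := 2) hP _ _)
      (Subtype.coe_injective.comp e₁.symm.injective) (Subtype.coe_injective.comp e₂.symm.injective)
      (fun x y h' => by
        have h1 : ((e₁.symm x : Subgroup.zpowers d) : P) = ((e₂.symm y : Subgroup.zpowers r) : P) := h'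
        show ((e₁.symm x : Subgroup.zpowers d) : P) = 1
        have hd : ∀ (z : P), orderOf z = 2 → ∀ w ∈ Subgroup.zpowers z, w = 1 ∨ w = z := by
          intro z hz w hw
          obtain ⟨i, rfl⟩ := Subgroup.mem_zpowers_iff.1 hw
          rw [← zpow_mod_orderOf z i, hz]
          rcases Int.emod_two_eq i with hi | hi <;> simp [hi]
        rcases hd d hod _ (e₁.symm x).2 with e | e
        · exact e
        · rcases hd r hor _ (e₂.symm y).2 with e' | e'
          · rw [h1, e']
          · rw [e, e'] at h1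
            exact absurd (congrArg Subtype.val h1) hDR)
      (by rw [hP, Nat.card_congr Multiplicative.toAdd, Nat.card_zmod])
    exact exists_mod_inner _ _ _ _ hA (E.trans (MulEquiv.prodMultiplicative _ _).symm)

end Cfsg.Agent.S2725
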