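import Cfsg.Statements.S2728
import Cfsg.Agent.Lib.AutPOmega.OutPgo

set_option autoImplicit false
open Cfsg

namespace Cfsg.Agent.S2728

open Module QuadraticMap Cfsg.Agent.Lib.Forms Cfsg.Agent.Lib.OrthOmega Cfsg.Agent.Lib.OrthStd
  Cfsg.Agent.Lib.AutPOmega Cfsg.Agent.Lib.AutPOmega.Semisim


/-- Let T = PΩ⁻_{2m+2}(F) with m ≥ 3 and |F| = q odd (form with anisotropic binary part). The image G̃ of the conformal orthogonal group in Aut(T), taken modulo the inner automorphism group T, is dihedral of order 8 when m is even and q ≡ 3 (mod 4), and elementary abelian of order 4 otherwise. -/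
theorem result {F : Type*} [Field F] [Fintype F] (hodd : Odd (Fintype.card F)) {m : ℕ} (hm : 3 ≤ m) (a b : F) (hab : (∀ z₁ z₂ : F, z₁ ^ 2 + a * z₁ * z₂ + b * z₂ ^ 2 = 0 → z₁ = 0 ∧ z₂ = 0)) :
    ((Even m ∧ Fintype.card F % 4 = 3) → (∃ φ : ↥(Cfsg.pgoAut F (Cfsg.quadFormMinus m F a b)) →* DihedralGroup 4, Function.Surjective φ ∧ φ.ker = (Cfsg.Inn (Cfsg.POmega F (Cfsg.quadFormMinus m F a b))).subgroupOf (Cfsg.pgoAut F (Cfsg.quadFormMinus m F a b)))) ∧ (¬ (Even m ∧ Fintype.card F % 4 = 3) → (∃ φ : ↥(Cfsg.pgoAut F (Cfsg.quadFormMinus m F a b)) →* Multiplicative (ZMod 2 × ZMod 2), Function.Surjective φ ∧ φ.ker = (Cfsg.Inn (Cfsg.POmega F (Cfsg.quadFormMinus m F a b))).subgroupOf (Cfsg.pgoAut F (Cfsg.quadFormMinus m F a b)))) := by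
  have h2 : (2 : F) ≠ 0 := two_ne_zero_of_odd hodd
  obtain ⟨D, hD, hDc⟩ := exists_scale_minus m h2 hab
  have hn := card_minus_index m
  have h5 := five_le_minus F hm
  have h7 := seven_le_minus F hm
  have hQ := qMinusC_nondeg m hab
  have hf := quadFormMinus_eq m a b
  obtain ⟨p, hchar⟩ := CharP.exists F
  have : Fact p.Prime := ⟨CharP.char_is_prime F p⟩
  obtain ⟨n, hpn⟩ := FiniteField.card F p
  obtain ⟨f, hF⟩ : ∃ f : ℕ, Fintype.card F = p ^ f := ⟨n, hpn.2⟩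
  have hP : Nat.card ((propDet (qMinusC m a b) (m + 1)).map (outHom hQ h5 hf)) =
      Nat.gcd 4 (Fintype.card F ^ (m + 1) + 1) := by
    rw [hF]; exact card_proper_minus hab hm hF h2
  have hg := gcd_four_pow_add_one (n := m + 1) hodd (by omega)
  have hiff : Odd (m + 1) ↔ Even m := by simp [Nat.odd_add_one]
  have hA := pgoAut_eq hQ h5 hf
  refine ⟨fun h => ?_, fun h => ?_⟩
  · rw [if_pos ⟨h.2, hiff.2 h.1⟩] at hg
    rw [hg] at hP
    rw [hF] at h
    obtain ⟨D', -, -, -, hneg⟩ := exists_diag_out hab hm hF h2 h.1 h.2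
    obtain ⟨e⟩ := nonempty_pgo_dihedral hQ h5 h7 hf hn h2 hD hDc hneg hP
    exact exists_mod_inner hQ h5 hf _ hA e
  · rw [if_neg fun hh => h ⟨hiff.1 hh.2, hh.1⟩] at hg
    rw [hg] at hP
    obtain ⟨e⟩ := nonempty_pgo_klein hQ h5 h7 hf hn h2 hD hDc hP
    exact exists_mod_inner hQ h5 hf _ hA e

end Cfsg.Agent.S2728
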