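import Cfsg.Statements.S2729
import Cfsg.Agent.Lib.AutPOmega.OutMinusStructure

set_option autoImplicit false
open Cfsg

namespace Cfsg.Agent.S2729

open Module QuadraticMap Cfsg.Agent.Lib.Forms Cfsg.Agent.Lib.OrthOmega Cfsg.Agent.Lib.OrthStd
  Cfsg.Agent.Lib.AutPOmega Cfsg.Agent.Lib.AutPOmega.Semisim


/-- Let T = PΩ⁻_{2m+2}(F) with m ≥ 3 and |F| = q odd (form with anisotropic binary part). The inner-diagonal group G = Inndiag(T) (image of the class-preserving similarities) taken modulo the inner automorphism group T is cyclic of order 4 when m is even and q ≡ 3 (mod 4), and of order 2 otherwise. -/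
theorem result {F : Type*} [Field F] [Fintype F] (hodd : Odd (Fintype.card F)) {m : ℕ} (hm : 3 ≤ m) (a b : F) (hab : (∀ z₁ z₂ : F, z₁ ^ 2 + a * z₁ * z₂ + b * z₂ ^ 2 = 0 → z₁ = 0 ∧ z₂ = 0)) :
    ((Even m ∧ Fintype.card F % 4 = 3) → (∃ φ : ↥(Cfsg.inndiagPOmegaMinus m F a b) →* Multiplicative (ZMod 4), Function.Surjective φ ∧ φ.ker = (Cfsg.Inn (Cfsg.POmega F (Cfsg.quadFormMinus m F a b))).subgroupOf (Cfsg.inndiagPOmegaMinus m F a b))) ∧ (¬ (Even m ∧ Fintype.card F % 4 = 3) → (∃ φ : ↥(Cfsg.inndiagPOmegaMinus m F a b) →* Multiplicative (ZMod 2), Function.Surjective φ ∧ φ.ker = (Cfsg.Inn (Cfsg.POmega F (Cfsg.quadFormMinus m F a b))).subgroupOf (Cfsg.inndiagPOmegaMinus m F a b))) := by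
  obtain ⟨p, hchar⟩ := CharP.exists F
  have : Fact p.Prime := ⟨CharP.char_is_prime F p⟩
  obtain ⟨n, hpn⟩ := FiniteField.card F p
  obtain ⟨f, hF⟩ : ∃ f : ℕ, Fintype.card F = p ^ f := ⟨n, hpn.2⟩
  have h2 : (2 : F) ≠ 0 := two_ne_zero_of_odd hodd
  have hA : Cfsg.inndiagPOmegaMinus m F a b = (propDet (qMinusC m a b) (m + 1)).map
      (omegaAct (qMinusC_nondeg m hab) (five_le_minus F hm) (quadFormMinus_eq m a b)) := by
    rw [inndiagPOmegaMinus_eq hm hab (five_le_minus F hm)]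
    congr 1
    rw [properMinus, if_neg h2]
    rfl
  have hP := card_proper_minus hab hm hF h2
  rw [← hF] at hP
  have hg := gcd_four_pow_add_one (n := m + 1) hodd (by omega)
  have hiff : Odd (m + 1) ↔ Even m := by simp [Nat.odd_add_one]
  refine ⟨fun h => ?_, fun h => ?_⟩
  · rw [hF] at h
    obtain ⟨D, -, ho, hDP, -⟩ := exists_diag_out hab hm hF h2 h.1 h.2
    obtain ⟨e⟩ := nonempty_zpowers_equiv (outMinus hab hm D) ho
    exact exists_mod_inner _ _ _ _ hA ((MulEquiv.subgroupCongr hDP).symm.trans e)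
  · rw [if_neg (fun hh => h ⟨hiff.1 hh.2, hh.1⟩)] at hg
    rw [hg] at hP
    rw [show outMinus hab hm = outHom (qMinusC_nondeg m hab) (five_le_minus F hm)
      (quadFormMinus_eq m a b) from rfl] at hP
    have : IsCyclic ((propDet (qMinusC m a b) (m + 1)).map (outHom (qMinusC_nondeg m hab)
        (five_le_minus F hm) (quadFormMinus_eq m a b))) := isCyclic_of_prime_card hP
    exact exists_mod_inner _ _ _ _ hA (mulEquivOfCyclicCardEq (by
      rw [Nat.card_congr Multiplicative.toAdd, Nat.card_zmod]; exact hP))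

end Cfsg.Agent.S2729
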