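import Cfsg.Statements.S2730
import Cfsg.Agent.Lib.AutPSp.GraphMain
import Cfsg.Agent.Lib.AutPSp.FieldCentralizer

set_option autoImplicit false
open Cfsg

namespace Cfsg.Agent.S2730

open Matrix Cfsg.Agent.Lib.AutPSp

variable {m : ℕ} {F : Type*} [Field F]

theorem mul_conj {K : Type*} [Group K] (c : MulAut K) (k : K) :
    c * MulAut.conj k = MulAut.conj (c k) * c := by
  ext g
  simp [MulAut.mul_apply, MulAut.conj_apply]

/-- An automorphism of odd order is induced by a semilinear similitude. -/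
theorem exists_decomp_odd [Finite F] [CharP F 2] (y : MulAut (Cfsg.PSp 2 F)) {k : ℕ}
    (hy : y ^ (2 * k + 1) = 1) :
    ∃ (g : Cfsg.GSp 2 F) (σ : F ≃+* F), y = conjAut g * fieldAut σ := by
  classical
  let Γ : Subgroup (MulAut (Cfsg.PSp 2 F)) :=
    { carrier := {α | ∃ (g : Cfsg.GSp 2 F) (σ : F ≃+* F), α = conjAut g * fieldAut σ}
      one_mem' := ⟨1, 1, by simp⟩
      mul_mem' := by
        rintro _ _ ⟨g, σ, rfl⟩ ⟨h, τ, rfl⟩
        refine ⟨g * mapGSp σ h, σ * τ, ?_⟩
        rw [map_mul, map_mul, ← mul_assoc, mul_assoc (conjAut g) (fieldAut σ), fieldAut_conjAut]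
        simp only [mul_assoc]
      inv_mem' := by
        rintro _ ⟨g, σ, rfl⟩
        refine ⟨mapGSp σ⁻¹ g⁻¹, σ⁻¹, ?_⟩
        rw [_root_.mul_inv_rev, ← map_inv conjAut, ← map_inv fieldAut, fieldAut_conjAut] }
  have hidx : Γ.index = 2 := by
    refine Subgroup.index_eq_two_iff'.2 ⟨grAut, fun b => ?_⟩
    obtain ⟨g, σ, e, he, rfl⟩ := exists_decomp_four b
    rcases he with rfl | rfl
    · refine Or.inr ⟨⟨g, σ, one_mul _⟩, fun hmem => ?_⟩
      obtain ⟨g', σ', h⟩ := hmem
      rw [one_mul] at h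
      exact grAut_mul_ne g g' σ σ' h
    · refine Or.inl ⟨?_, fun hmem => ?_⟩
      · have h : (grAut * grAut : MulAut (Cfsg.PSp 2 F)) ∈ Γ :=
          ⟨1, sqEquiv, by rw [map_one, one_mul, grAut_mul_self]⟩
        rw [← mul_assoc]
        exact mul_mem h ⟨g, σ, rfl⟩
      · obtain ⟨g', σ', h⟩ := hmem
        exact grAut_mul_ne g g' σ σ' h
  have h2 := Subgroup.mul_self_mem_of_index_two hidx y
  have hy' : y ∈ Γ := by
    rw [pow_succ, pow_mul, sq, mul_eq_one_iff_inv_eq] at hy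
    rw [← hy]
    exact inv_mem (pow_mem h2 k)
  exact hy'

/-- A criterion for the failure of local balance in almost simple groups whose socle is a projective symplectic group PSp_{2m}(F) (m ≥ 2, (2m, |F|) ≠ (4, 2)). Let F be a finite field of characteristic r and K the (simple) group in question; let A be a group of automorphisms of K containing all inner automorphisms, and x ∈ A an automorphism of prime order p ≠ r that is not inner-diagonal (not induced by a conformal symplectic matrix). Then the largest normal subgroup of C_A(x) of order prime to p is nontrivial if and only if x is a field automorphism of K (conjugate under Aut(K) to a non-identity standard field automorphism) and p does not divide the number of fixed points of x on K. -/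
theorem result {F : Type*} [Field F] [Fintype F] {r : ℕ} [Fact r.Prime] [CharP F r] {m : ℕ} (hm : 2 ≤ m) (hs : m = 2 → 3 ≤ Fintype.card F) (hK : IsSimpleGroup (Cfsg.PSp m F)) (A : Subgroup (MulAut (Cfsg.PSp m F))) (hinn : ∀ k : Cfsg.PSp m F, MulAut.conj k ∈ A) {p : ℕ} [Fact p.Prime] (hpr : p ≠ r) (x : MulAut (Cfsg.PSp m F)) (hxA : x ∈ A) (hord : orderOf x = p) (hnot : ¬ Cfsg.IsInnerDiagonalAutPSp x) :
    Cfsg.pPrimeCore p ↥(A ⊓ Subgroup.centralizer {x}) ≠ ⊥ ↔ (Cfsg.IsFieldAutClassPSp x ∧ Nat.Coprime p (Nat.card ↥(MonoidHom.eqLocus x.toMonoidHom (MonoidHom.id (Cfsg.PSp m F))))) := by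
  classical
  have hm0 : 0 < m := by omega
  have hp : p.Prime := Fact.out
  haveI : Finite (F ≃+* F) := Finite.of_injective (fun τ : F ≃+* F => (τ : F → F)) DFunLike.coe_injective
  obtain ⟨g, σ, hxd⟩ : ∃ (g : Cfsg.GSp m F) (σ : F ≃+* F), x = conjAut g * fieldAut σ := by
    by_cases h4 : m = 2 → r ≠ 2
    · exact exists_decomp hm r h4 x
    · push Not at h4
      obtain ⟨rfl, rfl⟩ := h4
      obtain ⟨k, hk⟩ := hp.eq_two_or_odd'.resolve_left hpr
      refine exists_decomp_odd x (k := k) ?_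
      rw [← hk, ← hord, pow_orderOf_eq_one]
  have hσ1 : σ ≠ 1 := fun h => hnot ((isInnerDiagonalAutPSp_iff x).2 ⟨g, by rw [hxd, h, map_one, mul_one]⟩)
  have hxp : (conjAut g * fieldAut σ : MulAut (Cfsg.PSp m F)) ^ p = 1 := by
    rw [← hxd, ← hord, pow_orderOf_eq_one]
  have hσ : orderOf σ = p := by
    refine orderOf_eq_prime ?_ hσ1
    have h := hxp
    rw [conjAut_mul_fieldAut_pow] at h
    exact (eq_one_of_conj_field hm h).2
  obtain ⟨a, ha⟩ := exists_conj_of_pow_eq_one hm hσ hp.pos hxp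
  rw [← hxd] at ha
  have hfield : Cfsg.IsFieldAutClassPSp x :=
    ⟨(conjAut a)⁻¹, σ, hσ1, (isStdFieldAutPSp_iff _ _).2 (by rw [ha]; group)⟩
  rw [and_iff_right hfield, hp.coprime_iff_not_dvd]
  obtain ⟨f, hr', hF⟩ := FiniteField.card F r
  haveI := Cfsg.innNormal (Cfsg.PSp m F)
  set φ : MulAut (Cfsg.PSp m F) := fieldAut σ with hφdef
  set A' := A.map (MulAut.conj (conjAut a)⁻¹).toMonoidHom with hA'
  set C := A' ⊓ Subgroup.centralizer {φ} with hC
  set D := Cfsg.Inn (Cfsg.PSp m F) ⊓ Subgroup.centralizer {φ} with hD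
  set N := (subAut (m := m) σ hm0).range with hN
  have hND : N ≤ D := subAut_range_le σ hm0
  have hN2 : 2 ∣ Nat.card N := two_dvd_card_subAut_range σ hm
  have hDne : D ≠ ⊥ := fun h => by
    have h1 : N = ⊥ := le_bot_iff.1 (h ▸ hND)
    rw [h1, Subgroup.card_bot] at hN2
    omega
  have hcentre : Subgroup.center (Cfsg.PSp m F) = ⊥ := by
    refine (Subgroup.Normal.eq_bot_or_eq_top inferInstance).resolve_right fun h => hDne ?_
    rw [eq_bot_iff]
    rintro _ ⟨⟨k, rfl⟩, -⟩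
    rw [Subgroup.mem_bot]
    ext g
    have hk := Subgroup.mem_center_iff.1 (h ▸ Subgroup.mem_top k : k ∈ Subgroup.center _) g
    rw [MulAut.conj_apply, MulAut.one_apply, mul_inv_eq_iff_eq_mul, hk]
  have hfix : Nat.card (MonoidHom.eqLocus x.toMonoidHom (MonoidHom.id (Cfsg.PSp m F))) = Nat.card D := by
    rw [Cfsg.Agent.Lib.AutPSL.card_eqLocus hcentre, ha, Cfsg.Agent.Lib.AutPSL.card_inn_centralizer_conj]
  have hcore : Cfsg.pPrimeCore p ↥(A ⊓ Subgroup.centralizer {x}) = ⊥ ↔ Cfsg.pPrimeCore p C = ⊥ := by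
    rw [ha]
    obtain ⟨e⟩ := Cfsg.Agent.Lib.AutPSL.nonempty_inf_centralizer_equiv A φ (conjAut a)
    exact Cfsg.Agent.Lib.AutPSL.pPrimeCore_eq_bot_iff_of_equiv e
  have hinnA : Cfsg.Inn (Cfsg.PSp m F) ≤ A' := by
    rw [hA', ← Cfsg.Agent.Lib.AutPSL.map_conj_normal (Cfsg.Inn (Cfsg.PSp m F)) (conjAut a)⁻¹]
    refine Subgroup.map_mono ?_
    rintro _ ⟨k, rfl⟩
    exact hinn k
  have hDC : D ≤ C := inf_le_inf_right _ hinnA
  have hCD : ∀ c ∈ C, ∀ d ∈ D, c * d * c⁻¹ ∈ D := fun c hc d hd =>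
    ⟨(Cfsg.innNormal _).conj_mem d hd.1 c,
      (Subgroup.centralizer {φ}).mul_mem ((Subgroup.centralizer {φ}).mul_mem hc.2 hd.2)
        ((Subgroup.centralizer {φ}).inv_mem hc.2)⟩
  rw [hfix, Ne, hcore]
  refine ⟨fun hne hpD => hne ?_, fun hnd => Cfsg.Agent.Lib.AutPSL.pPrimeCore_ne_bot_of hDC hCD hDne hnd⟩
  have hDM : D ≤ (incAut (m := m) σ hm0).range := by
    refine le_trans (inf_le_inf_right _ inn_le_inndiagPSp) ?_
    exact inndiag_centralizer_le σ hm
  have hpN : p ∣ Nat.card N := dvd_card_subAut_range σ hm hDM hpD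
  have hordφ : orderOf φ = p := by rw [hφdef, orderOf_injective _ (fieldAut_injective hm), hσ]
  have hφD : φ ∉ D := fun hmem => by
    have h1 := inn_le_inndiagPSp hmem.1
    rw [inndiagPSp_eq_range] at h1
    obtain ⟨h, hh⟩ := h1
    refine hσ1 (eq_one_of_conj_field hm (g := h⁻¹) (σ := σ) ?_).2
    rw [map_inv, ← hφdef, ← hh, inv_mul_cancel]
  refine Cfsg.Agent.Lib.AutPSL.pPrimeCore_eq_bot_of (N := N) (x := φ) hND hDC ?_ hCD ?_ hordφ hφD
    (fun W hW hWn hWp => eq_bot_of_le_subAut_range σ hm r hpr hpN W hW hWn hWp)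
  · intro d hd n hn
    obtain ⟨h, rfl⟩ := hDM hd
    exact conj_mem_subAut_range σ hm0 h n hn
  · intro c _ _ hcomm
    have hfixv : ∀ v : Fin m ⊕ Fin m → F, (∀ i, σ (v i) = v i) → c (tr v 1) = tr v 1 := by
      intro v hv
      have h1 := hcomm _ (conj_tr_mem_subAut_range σ hm0 hv)
      rw [mul_conj] at h1
      have h2 := mul_right_cancel h1
      have hk : (tr v 1 : Cfsg.PSp m F)⁻¹ * c (tr v 1) ∈ Subgroup.center (Cfsg.PSp m F) := by
        rw [Subgroup.mem_center_iff]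
        intro w
        have h3 := DFunLike.congr_fun h2 w
        simp only [MulAut.conj_apply] at h3
        calc w * ((tr v 1)⁻¹ * c (tr v 1))
            = (tr v 1)⁻¹ * (tr v 1 * w * (tr v 1)⁻¹) * c (tr v 1) := by group
          _ = (tr v 1)⁻¹ * (c (tr v 1) * w * (c (tr v 1))⁻¹) * c (tr v 1) := by rw [h3]
          _ = (tr v 1)⁻¹ * c (tr v 1) * w := by group
      rw [hcentre, Subgroup.mem_bot, inv_mul_eq_one] at hk
      exact hk.symm
    obtain ⟨h, τ, rfl⟩ : ∃ (h : Cfsg.GSp m F) (τ : F ≃+* F), c = conjAut h * fieldAut τ := by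
      by_cases h4 : m = 2 → r ≠ 2
      · exact exists_decomp hm r h4 c
      · push Not at h4
        obtain ⟨rfl, rfl⟩ := h4
        obtain ⟨h, τ, e, he, rfl⟩ := exists_decomp_four c
        rcases he with rfl | rfl
        · exact ⟨h, τ, one_mul _⟩
        exfalso
        obtain ⟨μ, hμ⟩ := mem_GSp_iff.1 h.2
        have h1 := hfixv (Pi.single (Sum.inl 0) 1) (fun i => by simp [Pi.single_apply, apply_ite σ])
        rw [MulAut.mul_apply, MulAut.mul_apply, fieldAut_tr, conjAut_tr h _ _ (μ := μ) hμ] at h1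
        refine grAut_tr_ne _ _ ?_ ?_ h1
        · intro h0
          have h2 := congrArg (fun y => ((h.1⁻¹ : GL _ F) : Matrix (Fin 2 ⊕ Fin 2) (Fin 2 ⊕ Fin 2) F) *ᵥ y) h0
          simp only [Matrix.mulVec_mulVec, ← Units.val_mul, inv_mul_cancel, Units.val_one, Matrix.one_mulVec,
            Matrix.mulVec_zero] at h2
          have h3 := congrFun h2 (Sum.inl 0)
          simp at h3
        · simp
    obtain ⟨⟨z, hz⟩, hτ⟩ := fix_fixField_of_fix_tr σ hm (g := h) (τ := τ) fun v _ hv => hfixv v hv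
    obtain ⟨k, hk⟩ := Subgroup.mem_zpowers_iff.1 (Cfsg.Agent.Lib.AutPSL.mem_zpowers_of_fix hF σ τ hτ)
    refine Subgroup.mem_zpowers_iff.2 ⟨k, ?_⟩
    rw [conjAut_eq_one_of_scalar hz, one_mul, ← hk, map_zpow]

end Cfsg.Agent.S2730
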