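import Cfsg.Statements.S2731
import Cfsg.Agent.Lib.OrthBalance.Basic
import Cfsg.Agent.Lib.OrthField.Odd

set_option autoImplicit false
open Cfsg

namespace Cfsg.Agent.S2731

open Module QuadraticMap Cfsg.Agent.Lib.Forms Cfsg.Agent.Lib.OrthOmega Cfsg.Agent.Lib.OrthStd
open Cfsg.Agent.Lib.AutPOmega Cfsg.Agent.Lib.OrthField Cfsg.Agent.Lib.OrthBalance
open scoped Matrix

variable {F : Type*} [Field F] {m : ℕ} (hm : 3 ≤ m) (h2 : (2 : F) ≠ 0)

theorem card_center_odd [Finite F] :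
    Nat.card (Subgroup.center (EG (DOdd (F := F) hm h2).Q)) = 1 := by
  refine center_eq_bot_of_not_neg _ (DOdd hm h2).nd (DOdd hm h2).h5' ?_
  rintro ⟨g, hg, hneg⟩
  have hd : LinearEquiv.det g.1 = 1 := by
    have hle : commutator (orth (DOdd (F := F) hm h2).Q) ≤
        (LinearEquiv.det.comp (orth (DOdd (F := F) hm h2).Q).subtype).ker :=
      Abelianization.commutator_subset_ker _
    exact hle hg
  have h1 : (g.1 : (Unit ⊕ (Fin m ⊕ Fin m) → F) →ₗ[F] _) = -LinearMap.id :=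
    LinearMap.ext fun x => hneg x
  have h3 := congrArg Units.val hd
  rw [LinearEquiv.coe_det, h1, Units.val_one, ← neg_one_smul F LinearMap.id, LinearMap.det_smul,
    LinearMap.det_id, mul_one, finrank_fun] at h3
  rw [Odd.neg_one_pow ⟨m, by simp; omega⟩] at h3
  exact h2 (by linear_combination -h3)

/-- The rational group has even order. -/
theorem two_dvd_card_EG [Fintype F] : 2 ∣ Nat.card (EG (DOdd (F := F) hm h2).Q) := by
  set D := DOdd (F := F) hm h2
  rw [Subgroup.card_eq_card_quotient_mul_card_subgroup (Subgroup.center (EG D.Q)),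
    card_center_odd hm h2, mul_one, ← Nat.card_congr (pOmegaEquiv D.Q D.nd D.h5' D.hf).toEquiv]
  have hodd : Odd (Fintype.card F) := by
    refine Nat.odd_iff.2 ((Nat.mod_two_eq_zero_or_one _).resolve_left fun h => h2 ?_)
    exact two_eq_zero_of_even (fun ho => by rw [Nat.odd_iff] at ho; omega)
  have h := two_mul_card_pOmega_odd (F := F) rfl hodd m (by omega)
  set q := Fintype.card F
  obtain ⟨k, rfl⟩ : ∃ k, m = k + 2 := ⟨m - 2, by omega⟩
  rw [Finset.prod_range_succ, Finset.prod_range_succ] at h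
  have he : ∀ i, 2 ∣ q ^ (2 * (i + 1)) - 1 := fun i =>
    even_iff_two_dvd.1 ((even_pow_sub_one_iff hodd.pos (by omega)).2 hodd)
  have h4 : 2 * 2 ∣ 2 * Nat.card (Cfsg.POmega F (Cfsg.quadFormOdd (k + 2) F)) := by
    rw [h]
    exact dvd_mul_of_dvd_right (mul_dvd_mul (dvd_mul_of_dvd_right (he k) _) (he (k + 1))) _
  exact Nat.dvd_of_mul_dvd_mul_left two_pos h4

/-- A semisimilarity fixing every rational singular line is a field automorphism up to scalars. -/
theorem eq_field_of_lines [Finite F] {F₀ : Type*} [Field F₀] (j : F₀ →+* F)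
    (S : Semisim (DOdd (F := F) hm h2).Q)
    (L : ∀ v : Unit ⊕ (Fin m ⊕ Fin m) → F₀, v ≠ 0 → Cfsg.quadFormOdd m F₀ v = 0 →
      ∃ l : F, S.toAdd (⇑j ∘ v) = l • (⇑j ∘ v)) :
    (DOdd hm h2).toPG'.symm S.aut = (DOdd hm h2).fieldQ S.τ (fixes_odd m S.τ) ∧
      ∀ t, S.τ (j t) = j t := by
  classical
  let E : Unit ⊕ (Fin m ⊕ Fin m) → (Unit ⊕ (Fin m ⊕ Fin m) → F₀) := fun k => Pi.single k 1
  have hjE : ∀ k, ⇑j ∘ E k = (Pi.single k 1 : _ → F) := fun k => comp_single j k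
  have hne : ∀ v : Unit ⊕ (Fin m ⊕ Fin m) → F₀, ∀ k, v k ≠ 0 → v ≠ 0 := fun v k h h0 => h (by rw [h0]; rfl)
  have hQE : ∀ k : Fin m ⊕ Fin m, Cfsg.quadFormOdd m F₀ (E (.inr k)) = 0 := by
    intro k
    rcases k with i | i <;> simp [E, Cfsg.quadFormOdd, Pi.single_apply]
  choose l hl using fun k : Fin m ⊕ Fin m =>
    L (E (.inr k)) (hne _ (.inr k) (by simp [E])) (hQE k)
  have hpair : ∀ k₁ k₂ : Fin m ⊕ Fin m, k₁ ≠ k₂ →
      (∀ t : F₀, Cfsg.quadFormOdd m F₀ (E (.inr k₁) + t • E (.inr k₂)) = 0) →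
      l k₁ = l k₂ ∧ ∀ t, S.τ (j t) = j t := by
    intro k₁ k₂ hk hq
    have key : ∀ t : F₀, t ≠ 0 → S.τ (j t) * l k₂ = l k₁ * j t := by
      intro t ht
      obtain ⟨c, hc⟩ := L (E (.inr k₁) + t • E (.inr k₂))
        (hne _ (.inr k₁) (by simp [E, hk])) (hq t)
      have hcomp : ⇑j ∘ (E (.inr k₁) + t • E (.inr k₂)) = ⇑j ∘ E (.inr k₁) + j t • (⇑j ∘ E (.inr k₂)) := by
        funext i; simp [map_add, map_mul]
      rw [hcomp, map_add, S.map_smul', hl, hl, hjE, hjE] at hc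
      have e1 := congrFun hc (.inr k₁)
      have e2 := congrFun hc (.inr k₂)
      simp [hk, Ne.symm hk] at e1 e2
      rw [← e1] at e2
      linear_combination e2
    have h1 := key 1 one_ne_zero
    rw [map_one, map_one, one_mul, mul_one] at h1
    refine ⟨h1.symm, fun t => ?_⟩
    rcases eq_or_ne t 0 with rfl | ht
    · simp
    have hl0 : l k₁ ≠ 0 := fun h0 => by
      have h3 := hl k₁
      rw [h0, zero_smul, hjE, ← map_zero S.toAdd] at h3
      simpa using congrFun (S.toAdd.injective h3) (.inr k₁)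
    refine mul_right_cancel₀ hl0 ?_
    have := key t ht
    rw [h1] at this
    rw [this, mul_comm]
  let i₀ : Fin m := ⟨0, by omega⟩
  let i₁ : Fin m := ⟨1, by omega⟩
  have hi : i₀ ≠ i₁ := by simp [i₀, i₁]
  have hq_ll : ∀ a b : Fin m, ∀ t : F₀,
      Cfsg.quadFormOdd m F₀ (E (.inr (.inl a)) + t • E (.inr (.inl b))) = 0 := fun a b t => by
    simp [E, Cfsg.quadFormOdd, Pi.single_apply]
  have hq_lr : ∀ a b : Fin m, a ≠ b → ∀ t : F₀,
      Cfsg.quadFormOdd m F₀ (E (.inr (.inl a)) + t • E (.inr (.inr b))) = 0 := fun a b hab t => by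
    simp [E, Cfsg.quadFormOdd, Pi.single_apply, hab, Ne.symm hab]
  have hl_l : ∀ a, l (.inl a) = l (.inl i₀) := fun a => by
    by_cases h : a = i₀
    · rw [h]
    · exact (hpair _ _ (by simpa using h) (hq_ll a i₀)).1
  have hl_r : ∀ b, l (.inr b) = l (.inl i₀) := fun b => by
    obtain ⟨a, hab⟩ : ∃ a : Fin m, a ≠ b := by
      by_cases h : i₀ = b
      · exact ⟨i₁, h ▸ hi.symm⟩
      · exact ⟨i₀, h⟩
    rw [← hl_l a]
    exact ((hpair _ _ (by simp) (hq_lr a b hab)).1).symm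
  have hτ : ∀ t, S.τ (j t) = j t := (hpair _ _ (by simp [hi]) (hq_ll i₀ i₁)).2
  set c := l (.inl i₀) with hc
  have hall : ∀ k : Fin m ⊕ Fin m, l k = c := by
    rintro (a | a)
    · exact hl_l a
    · exact hl_r a
  have hx0 : S.toAdd (Pi.single (Sum.inl ()) 1) = c • (Pi.single (Sum.inl ()) 1 : _ → F) := by
    have key : ∀ i : Fin m, ∃ d : F, S.toAdd (Pi.single (Sum.inl ()) 1) =
        d • (Pi.single (Sum.inl ()) 1 : _ → F) +
          (d - c) • ((Pi.single (Sum.inr (Sum.inl i)) 1 : _ → F) - Pi.single (Sum.inr (Sum.inr i)) 1) := by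
      intro i
      obtain ⟨d, hd⟩ := L (E (.inl ()) + E (.inr (.inl i)) - E (.inr (.inr i)))
        (hne _ (.inl ()) (by simp [E]))
        (by simp [E, Cfsg.quadFormOdd, Pi.single_apply])
      have hcomp : ⇑j ∘ (E (.inl ()) + E (.inr (.inl i)) - E (.inr (.inr i))) =
          ⇑j ∘ E (.inl ()) + ⇑j ∘ E (.inr (.inl i)) - ⇑j ∘ E (.inr (.inr i)) := by
        funext k; simp [map_add, map_sub]
      rw [hcomp, map_sub, map_add, hl, hl, hjE, hjE, hjE, hall, hall] at hd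
      refine ⟨d, ?_⟩
      rw [eq_add_of_sub_eq hd |> eq_sub_of_add_eq]
      module
    obtain ⟨d, hd⟩ := key i₀
    obtain ⟨d', hd'⟩ := key i₁
    have h3 := congrFun (hd.symm.trans hd') (.inr (.inl i₀))
    simp [hi] at h3
    rw [hd, sub_eq_zero.1 h3]
    simp
  have hlv : ∀ v, S.toAdd v = c • fun i => S.τ (v i) := by
    intro v
    conv_lhs => rw [pi_eq_sum_univ' v]
    rw [map_sum, show (c • fun i => S.τ (v i)) = ∑ i, S.τ (v i) • (c • (Pi.single i 1 : _ → F)) by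
      conv_lhs => rw [pi_eq_sum_univ' (fun i => S.τ (v i))]
      rw [Finset.smul_sum]
      exact Finset.sum_congr rfl fun i _ => smul_comm _ _ _]
    refine Finset.sum_congr rfl fun i _ => ?_
    rw [S.map_smul']
    congr 1
    rcases i with ⟨⟩ | k
    · exact hx0
    · rw [← hjE, hl, hall]
  have hc0 : c ≠ 0 := fun h0 => by
    have h3 := hlv (Pi.single (Sum.inl ()) 1)
    rw [h0, zero_smul, ← map_zero S.toAdd] at h3
    simpa using congrFun (S.toAdd.injective h3) (.inl ())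
  refine ⟨?_, hτ⟩
  rw [← one_mul ((DOdd (F := F) hm h2).fieldQ S.τ _), ← (DOdd (F := F) hm h2).conjQ_scal (Units.mk0 c hc0)]
  apply (DOdd (F := F) hm h2).toPG'.injective
  rw [MulEquiv.apply_symm_apply, map_mul, (DOdd (F := F) hm h2).toPG_conjQ, (DOdd (F := F) hm h2).toPG_fieldQ, ← Semisim.aut_mul]
  refine (DOdd (F := F) hm h2).aut_congr fun v => ?_
  show _ = ((DOdd (F := F) hm h2).ofGS ((DOdd (F := F) hm h2).scal (Units.mk0 c hc0))).toAdd (((DOdd (F := F) hm h2).fieldS S.τ _).toAdd v)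
  rw [(DOdd (F := F) hm h2).ofGS_apply, (DOdd (F := F) hm h2).fieldS_apply, (DOdd (F := F) hm h2).coe_scal_mulVec]
  exact hlv v

/-- The inner-diagonal centraliser of the field automorphism normalises the rational group. -/
theorem normalizes [Finite F] {F₀ : Type*} [Field F₀] [Finite F₀] (h20 : (2 : F₀) ≠ 0)
    {σ : F ≃+* F} (j : F₀ →+* F) (y : GS (Cfsg.quadFormOdd m F₀))
    (o : EG (DOdd (F := F₀) hm h20).Q) :
    ∃ o', (DOdd hm h2).conjQ (emb (DOdd hm h2) (DOdd hm h20) (oddRat (σ := σ) j) y) *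
      ratEG (DOdd hm h2) (DOdd hm h20) (oddRat (σ := σ) j) o *
      ((DOdd hm h2).conjQ (emb (DOdd hm h2) (DOdd hm h20) (oddRat (σ := σ) j) y))⁻¹ =
        ratEG (DOdd hm h2) (DOdd hm h20) (oddRat (σ := σ) j) o' := by
  obtain ⟨z, u, rfl, -⟩ := exists_rot hm h20 y
  refine ⟨⟨u * o.1 * u⁻¹, (EG_normal _).conj_mem o.1 o.2 u⟩, ?_⟩
  rw [ratEG_apply, ratEG_apply, map_mul, map_mul, emb_scal, OF.conjQ_scal, one_mul, ← iso_embO]
  simp only [map_mul, map_inv]


/-- A criterion for the failure of local balance in almost simple groups whose socle is an odd-dimensional orthogonal group Ω_{2m+1}(F) (m ≥ 3, |F| odd; the form x₀² + Σ xᵢ yᵢ). Let F be a finite field of characteristic r and K the (simple) group in question; let A be a group of automorphisms of K containing all inner automorphisms, and x ∈ A an automorphism of prime order p ≠ r that is not inner-diagonal (not induced by a similarity of the form). Then the largest normal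 subgroup of C_A(x) of order prime to p is nontrivial if and only if x is a field automorphism of K (conjugate under Aut(K) to a non-identity standard field automorphism) and p does not divide the number of fixed points of x on K. -/
theorem result {F : Type*} [Field F] [Fintype F] {r : ℕ} [Fact r.Prime] [CharP F r] (hodd : Odd (Fintype.card F)) {m : ℕ} (hm : 3 ≤ m) (hK : IsSimpleGroup (Cfsg.POmega F (Cfsg.quadFormOdd m F))) (A : Subgroup (MulAut (Cfsg.POmega F (Cfsg.quadFormOdd m F)))) (hinn : ∀ k : Cfsg.POmega F (Cfsg.quadFormOdd m F), MulAut.conj k ∈ A) {p : ℕ} [Fact p.Prime] (hpr : p ≠ r) (x : MulAut (Cfsg.POmega F (Cfsg.quadFormOdd m F))) (hxA : x ∈ A) (hord : orderOf x = p) (hnot : ¬ Cfsg.IsInnerDiagonalAutPOmegaOdd m x) :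
    Cfsg.pPrimeCore p ↥(A ⊓ Subgroup.centralizer {x}) ≠ ⊥ ↔ (Cfsg.IsFieldAutClassPOmega (Cfsg.quadFormOdd m F) x ∧ Nat.Coprime p (Nat.card ↥(MonoidHom.eqLocus x.toMonoidHom (MonoidHom.id (Cfsg.POmega F (Cfsg.quadFormOdd m F)))))) := by
  classical
  have hp : p.Prime := Fact.out
  have h2 : (2 : F) ≠ 0 := two_ne_zero_of_odd hodd
  set D := DOdd (F := F) hm h2
  have h8 : NoTriality D.Q := noTriality_DOdd hm h2
  obtain ⟨g, σ, hx⟩ := exists_decomp D h8 (fun σ => fixes_odd m σ) x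
  have hσ1 : σ ≠ 1 := fun h => hnot ((D.similarityInduced_iff x).2 ⟨g, by
    rw [hx, D.fieldQ_congr h _ Fixes.one, D.fieldQ_one, mul_one]⟩)
  have hxp : (D.conjQ g * D.fieldQ σ (fixes_odd m σ)) ^ p = 1 := by
    rw [← hx, ← hord, pow_orderOf_eq_one]
  have hσ : orderOf σ = p := by
    refine orderOf_eq_prime ?_ hσ1
    have h := hxp
    rw [D.conjQ_mul_fieldQ_pow] at h
    exact (D.eq_one_of_conjQ_mul_fieldQ _ h).1
  obtain ⟨k, hk⟩ := odd_conj hm h2 hσ hp.pos g hxp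
  rw [← hx] at hk
  set φ := D.fieldQ σ (fixes_odd m σ) with hφdef
  -- the coset representative
  obtain ⟨a, ha⟩ : ∃ a, x = a * φ * a⁻¹ := ⟨D.conjQ k, hk⟩
  have hfield : Cfsg.IsFieldAutClassPOmega (Cfsg.quadFormOdd m F) x :=
    ⟨a⁻¹, φ, σ, hσ1, (D.fieldAutOf_iff σ (fixes_odd m σ) φ).2 rfl, by rw [ha]; group⟩
  rw [and_iff_right hfield, hp.coprime_iff_not_dvd]
  set K₀ := Cfsg.Agent.Lib.AutPSL.fixField σ
  set j := K₀.subtype
  have hj : ∀ t, σ t = t ↔ t ∈ Set.range j := fun t =>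
    ⟨fun h => ⟨⟨t, h⟩, rfl⟩, fun ⟨y, hy⟩ => hy ▸ y.2⟩
  have h20 : (2 : K₀) ≠ 0 := fun h => h2 (by
    have := congrArg j h
    rwa [map_ofNat, map_zero] at this)
  set D₀ := DOdd (F := K₀) hm h20
  let X : Rat (1 : GS (Cfsg.quadFormOdd m F)) σ j (Cfsg.quadFormOdd m K₀) := oddRat j
  set A' := A.map (MulAut.conj a⁻¹).toMonoidHom with hA'
  set C := A' ⊓ Subgroup.centralizer {φ}
  set I := Cfsg.Inn (Cfsg.POmega F (Cfsg.quadFormOdd m F)) ⊓ Subgroup.centralizer {φ}
  set N := (ratEG D D₀ X).range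
  set M := D.conjQ.range ⊓ Subgroup.centralizer {φ}
  have hcen := card_center_odd (F := F) hm h2
  have hcen₀ := card_center_odd (F := K₀) hm h20
  have hcentre : Subgroup.center (Cfsg.POmega F (Cfsg.quadFormOdd m F)) = ⊥ := by
    refine (Subgroup.Normal.eq_bot_or_eq_top inferInstance).resolve_right fun h => ?_
    have hbot : Cfsg.Inn (Cfsg.POmega F (Cfsg.quadFormOdd m F)) = ⊥ := by
      rw [eq_bot_iff]
      rintro _ ⟨y, rfl⟩
      rw [Subgroup.mem_bot]
      ext w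
      have hy := Subgroup.mem_center_iff.1 (h ▸ Subgroup.mem_top y : y ∈ Subgroup.center _) w
      rw [MulAut.conj_apply, MulAut.one_apply, mul_inv_eq_iff_eq_mul, hy]
    have hsurj : Function.Injective (ratEG D D₀ X) := ratEG_injective D D₀ X hcen₀
    have h3 := ratEG_range_le_inn D D₀ X
    rw [hbot, le_bot_iff, MonoidHom.range_eq_bot_iff] at h3
    have h4 : 2 ∣ Nat.card (EG D₀.Q) := by
      haveI := Fintype.ofFinite K₀
      exact two_dvd_card_EG hm h20
    haveI : Subsingleton (EG D₀.Q) := ⟨fun u v => hsurj (by rw [h3]; rfl)⟩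
    rw [Nat.card_unique] at h4
    omega
  have hMeq : M = ((⊤ : Subgroup (GS (Cfsg.quadFormOdd m K₀))).map (emb D D₀ X)).map D.conjQ := by
    have h := inf_centralizer_eq D D₀ (fixes_odd m σ) X hj ⊤ ⊤ (fun _ => trivial)
      (fun _ => ⟨fun _ => trivial, fun _ => trivial⟩)
    rwa [map_one, one_mul, ← MonoidHom.range_eq_map] at h
  have hinnG : Cfsg.Inn (Cfsg.POmega F (Cfsg.quadFormOdd m F)) ≤ D.conjQ.range := by
    rw [D.inn_eq_map, MonoidHom.range_eq_map]; exact Subgroup.map_mono le_top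
  have hIM : I ≤ M := inf_le_inf_right _ hinnG
  have hNM : N ≤ M := by
    rw [hMeq]
    rintro _ ⟨o, rfl⟩
    exact ⟨_, ⟨D₀.iso o.1, trivial, rfl⟩, by rw [ratEG_apply, iso_embO]⟩
  have hNI : N ≤ I := le_inf (ratEG_range_le_inn D D₀ X) (hNM.trans inf_le_right)
  have hMN : ∀ d ∈ M, ∀ n ∈ N, d * n * d⁻¹ ∈ N := by
    intro d hd n hn
    rw [hMeq] at hd
    obtain ⟨_, ⟨y, -, rfl⟩, rfl⟩ := hd
    obtain ⟨o, rfl⟩ := hn
    obtain ⟨o', ho'⟩ := normalizes hm h2 h20 (σ := σ) j y o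
    exact ⟨o', ho'.symm⟩
  have hM2 : ∀ d ∈ M, d * d ∈ N := by
    intro d hd
    rw [hMeq] at hd
    obtain ⟨_, ⟨y, -, rfl⟩, rfl⟩ := hd
    obtain ⟨z, u, rfl, -⟩ := exists_rot hm h20 y
    refine ⟨⟨u * u, ?_⟩, ?_⟩
    · rw [← commutator_eq_EG D₀.nd D₀.h5', ← Abelianization.ker_of, MonoidHom.mem_ker]
      have hsq : ∀ w ∈ Subgroup.closure (reflSet D₀.Q),
          Abelianization.of w * Abelianization.of w = 1 := by
        intro w hw
        induction hw using Subgroup.closure_induction with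
        | mem r hr => obtain ⟨v, -, rfl⟩ := hr; exact abelianization_orefl_sq v
        | one => simp
        | mul u v _ _ hu hv => rw [map_mul, mul_mul_mul_comm, hu, hv, one_mul]
        | inv u _ hu => rw [map_inv, ← _root_.mul_inv_rev, hu, inv_one]
      rw [map_mul]
      exact hsq u (by rw [closure_reflSet D₀.nd D₀.hne4]; trivial)
    · rw [ratEG_apply, map_mul, map_mul, map_mul, iso_embO, map_mul (emb D D₀ X), emb_scal,
        map_mul D.conjQ, D.conjQ_scal, one_mul]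
  have hfix : Nat.card (MonoidHom.eqLocus x.toMonoidHom (MonoidHom.id (Cfsg.POmega F (Cfsg.quadFormOdd m F)))) =
      Nat.card I := by
    rw [Cfsg.Agent.Lib.AutPSL.card_eqLocus hcentre, ha,
      Cfsg.Agent.Lib.AutPSL.card_inn_centralizer_conj]
  have hcore : Cfsg.pPrimeCore p ↥(A ⊓ Subgroup.centralizer {x}) = ⊥ ↔ Cfsg.pPrimeCore p C = ⊥ := by
    rw [ha]
    obtain ⟨e⟩ := Cfsg.Agent.Lib.AutPSL.nonempty_inf_centralizer_equiv A φ a
    exact Cfsg.Agent.Lib.AutPSL.pPrimeCore_eq_bot_iff_of_equiv e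
  have hinnA : Cfsg.Inn (Cfsg.POmega F (Cfsg.quadFormOdd m F)) ≤ A' := by
    rw [hA', ← Cfsg.Agent.Lib.AutPSL.map_conj_normal (Cfsg.Inn _) a⁻¹]
    refine Subgroup.map_mono ?_
    rintro _ ⟨w, rfl⟩
    exact hinn w
  have hIC : I ≤ C := inf_le_inf_right _ hinnA
  have hCI : ∀ c ∈ C, ∀ d ∈ I, c * d * c⁻¹ ∈ I := fun c hc d hd =>
    ⟨(Cfsg.innNormal _).conj_mem d hd.1 c,
      (Subgroup.centralizer {φ}).mul_mem ((Subgroup.centralizer {φ}).mul_mem hc.2 hd.2)
        ((Subgroup.centralizer {φ}).inv_mem hc.2)⟩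
  have hcardN : Nat.card N = Nat.card (EG D₀.Q) :=
    (Nat.card_congr (MonoidHom.ofInjective (ratEG_injective D D₀ X hcen₀)).toEquiv).symm
  have hN2 : 2 ∣ Nat.card N := by
    rw [hcardN]
    haveI := Fintype.ofFinite K₀
    exact two_dvd_card_EG hm h20
  have hIne : I ≠ ⊥ := fun h => by
    have h1 : N = ⊥ := le_bot_iff.1 (h ▸ hNI)
    rw [h1, Subgroup.card_bot] at hN2
    omega
  rw [hfix, Ne, hcore]
  refine ⟨fun hne hpI => hne ?_,
    fun hnd => Cfsg.Agent.Lib.AutPSL.pPrimeCore_ne_bot_of hIC hCI hIne hnd⟩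
  have hpN : p ∣ Nat.card (EG D₀.Q) := by
    rw [← hcardN]
    rcases hp.eq_two_or_odd' with rfl | hpodd
    · exact hN2
    obtain ⟨⟨d, hdI⟩, hd⟩ := exists_prime_orderOf_dvd_card' p hpI
    obtain ⟨i, hi⟩ := hpodd
    have hdN : d ∈ N := by
      have h1 : d ^ p = 1 := by
        rw [← hd, ← Subgroup.orderOf_coe ⟨d, hdI⟩]; exact pow_orderOf_eq_one d
      have h3 : d = (d * d) ^ (i + 1) := by
        rw [← _root_.sq, ← pow_mul, show 2 * (i + 1) = p + 1 by omega, pow_succ, h1, one_mul]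
      rw [h3]
      exact pow_mem (hM2 d (hIM hdI)) _
    rw [← hd, ← Subgroup.orderOf_coe ⟨d, hdI⟩]
    exact Subgroup.orderOf_dvd_natCard N hdN
  have hordφ : orderOf φ = p := by rw [hφdef, D.orderOf_fieldQ, hσ]
  have hφI : φ ∉ I := fun hmem => by
    obtain ⟨h, hh⟩ := hinnG hmem.1
    refine hσ1 (D.eq_one_of_conjQ_mul_fieldQ (g := h⁻¹) (fixes_odd m σ) ?_).1
    rw [map_inv, ← hφdef, ← hh, inv_mul_cancel]
  refine Cfsg.Agent.Lib.AutPSL.pPrimeCore_eq_bot_of (N := N) (x := φ) hNI hIC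
    (fun d hd n hn => hMN d (hIM hd) n hn) hCI ?_ hordφ hφI
    (fun W hW hWn hWp => eq_bot_of_normal D D₀ X hcen₀ hpN W hW hWn hWp)
  intro c _ _ hcomm
  obtain ⟨S, rfl⟩ := D.exists_semisim h8 c
  have hS : ∀ o ∈ EG D₀.Q, ∀ y, S.toAdd ((embO D D₀ X o).1 y) = (embO D D₀ X o).1 (S.toAdd y) :=
    fun o ho y => comm_of_commute D D₀ X hcen S (fun o => hcomm _ ⟨o, rfl⟩) ho y
  obtain ⟨hval, hτ⟩ := eq_field_of_lines hm h2 j S fun v hv0 hv =>
    map_rv_singular D D₀ X S D₀.h7' hS hv0 ((D₀.hf v).symm.trans hv)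
  obtain ⟨n, hr', hF⟩ := FiniteField.card F r
  obtain ⟨i, hi⟩ := Subgroup.mem_zpowers_iff.1
    (Cfsg.Agent.Lib.AutPSL.mem_zpowers_of_fix hF σ S.τ fun t ht => by
      obtain ⟨t, rfl⟩ := (hj t).1 ht
      exact hτ t)
  rw [hval]
  haveI : Finite (F ≃+* F) := Finite.of_injective (fun τ : F ≃+* F => (τ : F → F)) DFunLike.coe_injective
  obtain ⟨n', hn'⟩ := (isOfFinOrder_of_finite σ).mem_powers_iff_mem_zpowers.2 ⟨i, hi⟩
  refine Subgroup.mem_zpowers_iff.2 ⟨n', ?_⟩
  rw [zpow_natCast, hφdef, D.fieldQ_pow]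
  exact D.fieldQ_congr hn' _ _

end Cfsg.Agent.S2731
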