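import Cfsg.Statements.S2733
import Cfsg.Agent.Lib.OrthBalance.Center
import Cfsg.Agent.Lib.OrthBalance.MinusModel
-- import your own Cfsg.Agent.* helpers here

set_option autoImplicit false
open Cfsg

namespace Cfsg.Agent.S2733

open Module QuadraticMap Cfsg.Agent.Lib.Forms Cfsg.Agent.Lib.OrthOmega Cfsg.Agent.Lib.OrthStd
open Cfsg.Agent.Lib.AutPOmega Cfsg.Agent.Lib.OrthField Cfsg.Agent.Lib.OrthBalance
open scoped Matrix

variable {F : Type*} [Field F] [Finite F] {m : ℕ} (hm : 3 ≤ m)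

/-- Proper similarities induce inner-diagonal automorphisms. -/
theorem innerDiag_of_rot {a b : F} (hab : Aniso a b) {g : GS (Cfsg.quadFormMinus m F a b)}
    (hg : (DMinus hm hab).chi (hkMinus m) g = 1) :
    Cfsg.IsInnerDiagonalAutPOmegaMinus m a b ((DMinus hm hab).conjQ g) := by
  set D := DMinus hm hab
  have h : D.ofGSHom g ∈ properMinus hab hm := by
    unfold properMinus
    by_cases h2 : (2 : F) = 0
    · rw [if_pos h2]
      obtain ⟨z, o, rfl, ho⟩ := D.decomp_rot_two (hkMinus m) h2 hg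
      rw [map_mul, D.ofGSHom_scal, D.ofGSHom_iso]
      exact Subgroup.mul_mem_sup ⟨z, rfl⟩ ⟨o, ofAdd_eq_one.2 ho, rfl⟩
    · rw [if_neg h2]
      refine ⟨D.ofGSHom_mem g, ?_⟩
      rw [D.chi_odd (hkMinus m) h2] at hg
      erw [D.mat_ofGS g]
      exact hg
  obtain ⟨K, iK, iA, hK⟩ := exists_quadratic_extension F
  refine ⟨g.1, g.2, ⟨K, iK, iA, hK, ?_⟩, (D.induced_iff' g _).2 rfl⟩
  have h1 := (properMinusK_iff hab hm hK (D.ofGSHom_mem g)).2 h
  unfold properMinusK at h1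
  erw [D.mat_ofGS g] at h1
  exact h1

/-- An automorphism whose field part fixes the form splits off the field automorphism. -/
theorem exists_decomp_of_fixes {ι : Type} [Fintype ι] [DecidableEq ι] {f : (ι → F) → F} (D : OF f)
    (S : Semisim D.Q) (hfix : Fixes f S.τ) :
    ∃ g : GS f, D.toPG'.symm S.aut = D.conjQ g * D.fieldQ S.τ hfix := by
  have hg : S.mat ∈ GS f := ⟨Units.mk0 S.c S.c_ne, fun v => by
    have hv : v = fun i => S.τ (S.τ.symm (v i)) := funext fun i => (S.τ.apply_symm_apply _).symm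
    conv_rhs => rw [hv, hfix]
    rw [Semisim.mat_mulVec, D.hf, S.map_Q', ← D.hf]
    rfl⟩
  refine ⟨⟨S.mat, hg⟩, D.toPG'.injective ?_⟩
  rw [MulEquiv.apply_symm_apply, map_mul, D.toPG_conjQ, D.toPG_fieldQ, ← Semisim.aut_mul]
  refine D.aut_congr fun v => ?_
  show _ = (D.ofGS ⟨S.mat, hg⟩).toAdd ((D.fieldS S.τ hfix).toAdd v)
  rw [D.ofGS_apply, D.fieldS_apply]
  exact (S.mat_apply v).symm

/-- In a cyclic group two elements of the same prime order generate the same subgroup. -/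
theorem mem_zpowers_of_pow {p : ℕ} (hp : p.Prime) {σ τ : F ≃+* F} (hσ : orderOf σ = p)
    (hτ : τ ^ p = 1) : τ ∈ Subgroup.zpowers σ := by
  classical
  have := Cfsg.Agent.Lib.AutPSL.isCyclic_fieldAuts (F := F)
  have : Finite (F ≃+* F) :=
    Finite.of_injective (fun τ : F ≃+* F => (τ : F → F)) DFunLike.coe_injective
  have := Fintype.ofFinite (F ≃+* F)
  have h1 : (Finset.univ.filter fun x : F ≃+* F => x ^ p = 1).card ≤ p :=
    IsCyclic.card_pow_eq_one_le hp.pos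
  have h2 : (Finset.univ.filter fun x : F ≃+* F => x ∈ Subgroup.zpowers σ) ⊆
      Finset.univ.filter fun x : F ≃+* F => x ^ p = 1 := fun x hx => by
    rw [Finset.mem_filter] at hx ⊢
    obtain ⟨k, rfl⟩ := Subgroup.mem_zpowers_iff.1 hx.2
    refine ⟨Finset.mem_univ _, ?_⟩
    rw [← zpow_natCast, ← zpow_mul, mul_comm, zpow_mul, zpow_natCast, ← hσ, pow_orderOf_eq_one,
      one_zpow]
  have h3 : (Finset.univ.filter fun x : F ≃+* F => x ∈ Subgroup.zpowers σ).card = p := by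
    rw [← Fintype.card_subtype, ← Nat.card_eq_fintype_card, Nat.card_zpowers, hσ]
  have h4 := Finset.eq_of_subset_of_card_le h2 (by omega)
  have h5 : τ ∈ Finset.univ.filter fun x : F ≃+* F => x ^ p = 1 := by simp [hτ]
  rw [← h4, Finset.mem_filter] at h5
  exact h5.2

set_option maxHeartbeats 4000000 in
/-- A semisimilarity fixing every rational singular line is a field automorphism up to scalars. -/
theorem eq_field_of_lines {F₀ : Type*} [Field F₀] (j : F₀ →+* F) {a₀ b₀ : F₀}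
    (hab : Aniso (j a₀) (j b₀)) (S : Semisim (DMinus hm hab).Q)
    (L : ∀ v : (Fin m ⊕ Fin m) ⊕ Fin 2 → F₀, v ≠ 0 → Cfsg.quadFormMinus m F₀ a₀ b₀ v = 0 →
      ∃ l : F, S.toAdd (⇑j ∘ v) = l • (⇑j ∘ v)) :
    ∃ hfix : Fixes (Cfsg.quadFormMinus m F (j a₀) (j b₀)) S.τ,
      (DMinus hm hab).toPG'.symm S.aut = (DMinus hm hab).fieldQ S.τ hfix ∧
      ∀ t, S.τ (j t) = j t := by
  classical
  let D := DMinus hm hab
  let E : (Fin m ⊕ Fin m) ⊕ Fin 2 → ((Fin m ⊕ Fin m) ⊕ Fin 2 → F₀) := fun k => Pi.single k 1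
  have hjE : ∀ k, ⇑j ∘ E k = (Pi.single k 1 : _ → F) := fun k => comp_single j k
  have hne : ∀ v : (Fin m ⊕ Fin m) ⊕ Fin 2 → F₀, ∀ k, v k ≠ 0 → v ≠ 0 :=
    fun v k h h0 => h (by rw [h0]; rfl)
  have hQE : ∀ k : Fin m ⊕ Fin m, Cfsg.quadFormMinus m F₀ a₀ b₀ (E (.inl k)) = 0 := by
    intro k
    rcases k with i | i <;> simp [E, Cfsg.quadFormMinus, Pi.single_apply]
  choose l hl using fun k : Fin m ⊕ Fin m =>
    L (E (.inl k)) (hne _ (.inl k) (by simp [E])) (hQE k)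
  have hpair : ∀ k₁ k₂ : Fin m ⊕ Fin m, k₁ ≠ k₂ →
      (∀ t : F₀, Cfsg.quadFormMinus m F₀ a₀ b₀ (E (.inl k₁) + t • E (.inl k₂)) = 0) →
      l k₁ = l k₂ ∧ ∀ t, S.τ (j t) = j t := by
    intro k₁ k₂ hk hq
    have key : ∀ t : F₀, t ≠ 0 → S.τ (j t) * l k₂ = l k₁ * j t := by
      intro t ht
      obtain ⟨c, hc⟩ := L (E (.inl k₁) + t • E (.inl k₂))
        (hne _ (.inl k₁) (by simp [E, hk])) (hq t)
      have hcomp : ⇑j ∘ (E (.inl k₁) + t • E (.inl k₂)) =
          ⇑j ∘ E (.inl k₁) + j t • (⇑j ∘ E (.inl k₂)) := by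
        funext i; simp [map_add, map_mul]
      rw [hcomp, map_add, S.map_smul', hl, hl, hjE, hjE] at hc
      have e1 := congrFun hc (.inl k₁)
      have e2 := congrFun hc (.inl k₂)
      simp [hk, Ne.symm hk] at e1 e2
      rw [← e1] at e2
      linear_combination e2
    have h1 := key 1 one_ne_zero
    rw [map_one, map_one, one_mul, mul_one] at h1
    refine ⟨h1.symm, fun t => ?_⟩
    rcases eq_or_ne t 0 with rfl | ht
    · simp
    have hl0 : l k₁ ≠ 0 := fun h0 => by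
      have h3 := hl k₁
      rw [h0, zero_smul, hjE, ← map_zero S.toAdd] at h3
      simpa using congrFun (S.toAdd.injective h3) (.inl k₁)
    refine mul_right_cancel₀ hl0 ?_
    have := key t ht
    rw [h1] at this
    rw [this, mul_comm]
  let i₀ : Fin m := ⟨0, by omega⟩
  let i₁ : Fin m := ⟨1, by omega⟩
  have hi : i₀ ≠ i₁ := by simp [i₀, i₁]
  have hq_ll : ∀ a b : Fin m, ∀ t : F₀,
      Cfsg.quadFormMinus m F₀ a₀ b₀ (E (.inl (.inl a)) + t • E (.inl (.inl b))) = 0 := fun a b t => by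
    simp [E, Cfsg.quadFormMinus, Pi.single_apply]
  have hq_lr : ∀ a b : Fin m, a ≠ b → ∀ t : F₀,
      Cfsg.quadFormMinus m F₀ a₀ b₀ (E (.inl (.inl a)) + t • E (.inl (.inr b))) = 0 :=
    fun a b hab t => by simp [E, Cfsg.quadFormMinus, Pi.single_apply, hab, Ne.symm hab]
  have hl_l : ∀ a, l (.inl a) = l (.inl i₀) := fun a => by
    by_cases h : a = i₀
    · rw [h]
    · exact (hpair _ _ (by simpa using h) (hq_ll a i₀)).1
  have hl_r : ∀ b, l (.inr b) = l (.inl i₀) := fun b => by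
    obtain ⟨a, hab⟩ : ∃ a : Fin m, a ≠ b := by
      by_cases h : i₀ = b
      · exact ⟨i₁, h ▸ hi.symm⟩
      · exact ⟨i₀, h⟩
    rw [← hl_l a]
    exact ((hpair _ _ (by simp) (hq_lr a b hab)).1).symm
  have hτ : ∀ t, S.τ (j t) = j t := (hpair _ _ (by simp [hi]) (hq_ll i₀ i₁)).2
  set c := l (.inl i₀) with hc
  have hall : ∀ k : Fin m ⊕ Fin m, l k = c := by
    rintro (a | a)
    · exact hl_l a
    · exact hl_r a
  -- the anisotropic part
  have hbin : ∀ k : Fin 2, S.toAdd (Pi.single (.inr k) 1) = c • (Pi.single (.inr k) 1 : _ → F) := by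
    intro k
    set q : F₀ := if k = 0 then 1 else b₀
    have key : ∀ i : Fin m, ∃ d : F, S.toAdd (Pi.single (.inr k) 1) =
        d • (Pi.single (.inr k) 1 : _ → F) +
          (d - c) • ((Pi.single (.inl (.inl i)) 1 : _ → F) - j q • Pi.single (.inl (.inr i)) 1) := by
      intro i
      obtain ⟨d, hd⟩ := L (E (.inr k) + E (.inl (.inl i)) - q • E (.inl (.inr i)))
        (hne _ (.inr k) (by simp [E]))
        (by fin_cases k <;> simp [E, q, Cfsg.quadFormMinus, Pi.single_apply])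
      have hcomp : ⇑j ∘ (E (.inr k) + E (.inl (.inl i)) - q • E (.inl (.inr i))) =
          ⇑j ∘ E (.inr k) + ⇑j ∘ E (.inl (.inl i)) - j q • (⇑j ∘ E (.inl (.inr i))) := by
        funext k'; simp [map_add, map_sub, map_mul]
      rw [hcomp, map_sub, map_add, S.map_smul', hτ, hl, hl, hjE, hjE, hjE, hall, hall] at hd
      refine ⟨d, ?_⟩
      rw [eq_add_of_sub_eq hd |> eq_sub_of_add_eq]
      module
    obtain ⟨d, hd⟩ := key i₀
    obtain ⟨d', hd'⟩ := key i₁
    have h3 := congrFun (hd.symm.trans hd') (.inl (.inl i₀))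
    simp [hi] at h3
    rw [hd, sub_eq_zero.1 h3]
    simp
  have hfix : Fixes (Cfsg.quadFormMinus m F (j a₀) (j b₀)) S.τ := fixes_minus m (hτ a₀) (hτ b₀)
  have hlv : ∀ v, S.toAdd v = c • fun i => S.τ (v i) := by
    intro v
    conv_lhs => rw [pi_eq_sum_univ' v]
    rw [map_sum, show (c • fun i => S.τ (v i)) = ∑ i, S.τ (v i) • (c • (Pi.single i 1 : _ → F)) by
      conv_lhs => rw [pi_eq_sum_univ' (fun i => S.τ (v i))]
      rw [Finset.smul_sum]
      exact Finset.sum_congr rfl fun i _ => smul_comm _ _ _]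
    refine Finset.sum_congr rfl fun i _ => ?_
    rw [S.map_smul']
    congr 1
    rcases i with k | k
    · rw [← hjE, hl, hall]
    · exact hbin k
  have hc0 : c ≠ 0 := fun h0 => by
    have h3 := hlv (Pi.single (.inr 0) 1)
    rw [h0, zero_smul, ← map_zero S.toAdd] at h3
    simpa using congrFun (S.toAdd.injective h3) (.inr 0)
  refine ⟨hfix, ?_, hτ⟩
  rw [← one_mul (D.fieldQ S.τ _), ← D.conjQ_scal (Units.mk0 c hc0)]
  apply D.toPG'.injective
  rw [MulEquiv.apply_symm_apply, map_mul, D.toPG_conjQ, D.toPG_fieldQ, ← Semisim.aut_mul]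
  refine D.aut_congr fun v => ?_
  show _ = (D.ofGS (D.scal (Units.mk0 c hc0))).toAdd ((D.fieldS S.τ hfix).toAdd v)
  rw [D.ofGS_apply, D.fieldS_apply, D.coe_scal_mulVec]
  exact hlv v

set_option maxHeartbeats 4000000 in
/-- The criterion for a standard field automorphism of odd prime order. -/
theorem core_field {F₀ : Type*} [Field F₀] [Finite F₀] (j : F₀ →+* F) {a₀ b₀ : F₀}
    (hab₀ : Aniso a₀ b₀) (hab : Aniso (j a₀) (j b₀)) {σ : F ≃+* F}
    (hσ : Fixes (Cfsg.quadFormMinus m F (j a₀) (j b₀)) σ) (hj : ∀ t, σ t = t ↔ t ∈ Set.range j)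
    {p : ℕ} [Fact p.Prime] (hp2 : p ≠ 2) (hord : orderOf σ = p)
    (A : Subgroup (MulAut (Cfsg.POmega F (Cfsg.quadFormMinus m F (j a₀) (j b₀)))))
    (hinn : Cfsg.Inn (Cfsg.POmega F (Cfsg.quadFormMinus m F (j a₀) (j b₀))) ≤ A) :
    Cfsg.pPrimeCore p ↥(A ⊓ Subgroup.centralizer {(DMinus hm hab).fieldQ σ hσ}) ≠ ⊥ ↔
      ¬ p ∣ Nat.card ↥(Cfsg.Inn (Cfsg.POmega F (Cfsg.quadFormMinus m F (j a₀) (j b₀))) ⊓
        Subgroup.centralizer {(DMinus hm hab).fieldQ σ hσ}) := by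
  classical
  have hp : p.Prime := Fact.out
  set D := DMinus hm hab
  set D₀ := DMinus hm hab₀
  set φ := D.fieldQ σ hσ with hφdef
  let X : Rat (1 : GS (Cfsg.quadFormMinus m F (j a₀) (j b₀))) σ j
      (Cfsg.quadFormMinus m F₀ a₀ b₀) := minusRat j a₀ b₀
  set C := A ⊓ Subgroup.centralizer {φ}
  set I := Cfsg.Inn (Cfsg.POmega F (Cfsg.quadFormMinus m F (j a₀) (j b₀))) ⊓ Subgroup.centralizer {φ}
  set N := (ratEG D D₀ X).range
  set M := D.conjQ.range ⊓ Subgroup.centralizer {φ}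
  have hMeq : M = ((⊤ : Subgroup (GS (Cfsg.quadFormMinus m F₀ a₀ b₀))).map (emb D D₀ X)).map D.conjQ := by
    have h := inf_centralizer_eq D D₀ hσ X hj ⊤ ⊤ (fun _ => trivial)
      (fun _ => ⟨fun _ => trivial, fun _ => trivial⟩)
    rwa [map_one, one_mul, ← MonoidHom.range_eq_map] at h
  have hinnG : Cfsg.Inn (Cfsg.POmega F (Cfsg.quadFormMinus m F (j a₀) (j b₀))) ≤ D.conjQ.range := by
    rw [D.inn_eq_map, MonoidHom.range_eq_map]; exact Subgroup.map_mono le_top
  have hIM : I ≤ M := inf_le_inf_right _ hinnG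
  have hNM : N ≤ M := by
    rw [hMeq]
    rintro _ ⟨o, rfl⟩
    exact ⟨_, ⟨D₀.iso o.1, trivial, rfl⟩, by rw [ratEG_apply, iso_embO]⟩
  have hNI : N ≤ I := le_inf (ratEG_range_le_inn D D₀ X) (hNM.trans inf_le_right)
  have hMN : ∀ d ∈ M, ∀ n ∈ N, d * n * d⁻¹ ∈ N := by
    intro d hd n hn
    rw [hMeq] at hd
    obtain ⟨_, ⟨y, -, rfl⟩, rfl⟩ := hd
    obtain ⟨o, rfl⟩ := hn
    exact ⟨_, (normalizes' D D₀ X y o).symm⟩
  have hIC : I ≤ C := inf_le_inf_right _ hinn
  have hCI : ∀ c ∈ C, ∀ d ∈ I, c * d * c⁻¹ ∈ I := fun c hc d hd =>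
    ⟨(Cfsg.innNormal _).conj_mem d hd.1 c,
      (Subgroup.centralizer {φ}).mul_mem ((Subgroup.centralizer {φ}).mul_mem hc.2 hd.2)
        ((Subgroup.centralizer {φ}).inv_mem hc.2)⟩
  have hIne : I ≠ ⊥ := fun h => ratEG_range_ne_bot D D₀ X (le_bot_iff.1 (h ▸ hNI))
  refine ⟨fun hne hpI => hne ?_,
    fun hnd => Cfsg.Agent.Lib.AutPSL.pPrimeCore_ne_bot_of hIC hCI hIne hnd⟩
  have hpN : p ∣ Nat.card N := by
    obtain ⟨⟨d, hdI⟩, hd⟩ := exists_prime_orderOf_dvd_card' p hpI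
    rw [← Subgroup.orderOf_coe ⟨d, hdI⟩] at hd
    obtain ⟨y, hy⟩ : ∃ y, d = D.conjQ (emb D D₀ X y) := by
      have h := hIM hdI
      rw [hMeq] at h
      obtain ⟨_, ⟨y, -, rfl⟩, rfl⟩ := h
      exact ⟨y, rfl⟩
    have hdN : d ∈ N := by
      have h4 : d ^ 4 ∈ N := by rw [hy]; exact pow_four_mem D D₀ X y
      have hcop : Nat.Coprime 4 p := by
        rw [show (4 : ℕ) = 2 ^ 2 from rfl]
        exact Nat.Coprime.pow_left 2 ((Nat.coprime_primes Nat.prime_two hp).2 (Ne.symm hp2))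
      obtain ⟨k, hk⟩ := exists_pow_eq_self_of_coprime (x := d) (n := 4) (by rw [hd]; exact hcop)
      rw [← hk]
      exact pow_mem h4 k
    rw [← hd]
    exact Subgroup.orderOf_dvd_natCard N hdN
  have hordφ : orderOf φ = p := by rw [hφdef, D.orderOf_fieldQ, hord]
  have hφI : φ ∉ I := fun hmem => by
    obtain ⟨h, hh⟩ := hinnG hmem.1
    have h1 := (D.eq_one_of_conjQ_mul_fieldQ (g := h⁻¹) hσ (by
      rw [map_inv, ← hφdef, ← hh, inv_mul_cancel])).1
    rw [h1, orderOf_one] at hord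
    exact hp.ne_one hord.symm
  refine Cfsg.Agent.Lib.AutPSL.pPrimeCore_eq_bot_of (N := N) (x := φ) hNI hIC
    (fun d hd n hn => hMN d (hIM hd) n hn) hCI ?_ hordφ hφI
    (fun W hW hWn hWp => eq_bot_of_normal' D D₀ X hpN W hW hWn hWp)
  intro c _ _ hcomm
  obtain ⟨S, rfl⟩ := D.exists_semisim (noTriality_minus hab) c
  have hS : ∀ o ∈ EG D₀.Q, ∀ y, S.toAdd ((embO D D₀ X o).1 y) = (embO D D₀ X o).1 (S.toAdd y) :=
    fun o ho y => comm_of_commute' D D₀ X S (fun o => hcomm _ ⟨o, rfl⟩) ho y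
  obtain ⟨hfix, hval, hτ⟩ := eq_field_of_lines hm j hab S fun v hv0 hv =>
    map_rv_singular D D₀ X S D₀.h7' hS hv0 ((D₀.hf v).symm.trans hv)
  obtain ⟨r, hchar⟩ := CharP.exists F
  have : Fact r.Prime := ⟨CharP.char_is_prime F r⟩
  haveI := Fintype.ofFinite F
  obtain ⟨n, hr', hF⟩ := FiniteField.card F r
  obtain ⟨i, hi⟩ := Subgroup.mem_zpowers_iff.1
    (Cfsg.Agent.Lib.AutPSL.mem_zpowers_of_fix hF σ S.τ fun t ht => by
      obtain ⟨t, rfl⟩ := (hj t).1 ht
      exact hτ t)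
  rw [hval]
  haveI : Finite (F ≃+* F) := Finite.of_injective (fun τ : F ≃+* F => (τ : F → F)) DFunLike.coe_injective
  obtain ⟨n', hn'⟩ := (isOfFinOrder_of_finite σ).mem_powers_iff_mem_zpowers.2 ⟨i, hi⟩
  refine Subgroup.mem_zpowers_iff.2 ⟨n', ?_⟩
  rw [zpow_natCast, hφdef, D.fieldQ_pow]
  exact D.fieldQ_congr hn' _ _

set_option maxHeartbeats 4000000 in
/-- A criterion for the failure of local balance in almost simple groups whose socle is a minus-type orthogonal group PΩ⁻_{2m+2}(F) (m ≥ 3; the form Σ xᵢ yᵢ + z₁² + a z₁ z₂ + b z₂² with anisotropic binary part). Let F be a finite field of characteristic r and K the (simple) group in question; let A be a group of automorphisms of K containing all inner automorphisms, and x ∈ A an automorphism of prime order p ≠ r that is not inner-diagonal (not induced by a class-preserving similarity, classes read over a quadratic extension). Then the largest normal subgroup of C_A(x) of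 order prime to p is nontrivial if and only if x is a field automorphism of K (conjugate under Aut(K) to a non-identity standard field automorphism) and p does not divide the number of fixed points of x on K. -/
theorem result {F : Type*} [Field F] [Fintype F] {r : ℕ} [Fact r.Prime] [CharP F r] {m : ℕ} (hm : 3 ≤ m) (a b : F) (hab : (∀ z₁ z₂ : F, z₁ ^ 2 + a * z₁ * z₂ + b * z₂ ^ 2 = 0 → z₁ = 0 ∧ z₂ = 0)) (hK : IsSimpleGroup (Cfsg.POmega F (Cfsg.quadFormMinus m F a b))) (A : Subgroup (MulAut (Cfsg.POmega F (Cfsg.quadFormMinus m F a b)))) (hinn : ∀ k : Cfsg.POmega F (Cfsg.quadFormMinus m F a b), MulAut.conj k ∈ A) {p : ℕ} [Fact p.Prime] (hpr : p ≠ r) (x : MulAut (Cfsg.POmega F (Cfsg.quadFormMinus m F a b))) (hxA : x ∈ A) (hord : orderOf x = p) (hnot : ¬ Cfsg.IsInnerDiagonalAutPOmegaMinus m a b x) :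
    Cfsg.pPrimeCore p ↥(A ⊓ Subgroup.centralizer {x}) ≠ ⊥ ↔ (Cfsg.IsFieldAutClassPOmegaMinus m x ∧ Nat.Coprime p (Nat.card ↥(MonoidHom.eqLocus x.toMonoidHom (MonoidHom.id (Cfsg.POmega F (Cfsg.quadFormMinus m F a b)))))) := by
  classical
  have hp : p.Prime := Fact.out
  set D := DMinus hm hab
  obtain ⟨S, hS⟩ := D.exists_semisim (noTriality_minus hab) x
  have hxp : x ^ p = 1 := by rw [← hord, pow_orderOf_eq_one]
  have hτp : S.τ ^ p = 1 := by
    have h1 : (S ^ p).aut = 1 := by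
      show Semisim.autHom _ = _
      rw [map_pow, Semisim.autHom_apply]
      have := congrArg D.toPG' hxp
      rwa [hS, map_pow, MulEquiv.apply_symm_apply, map_one] at this
    obtain ⟨c, -, -, hτ⟩ := D.scalar_of_aut_eq_one h1
    have := map_pow Semisim.τHom S p
    rw [Semisim.τHom_apply, Semisim.τHom_apply, hτ] at this
    exact this.symm
  by_cases hτ1 : S.τ = 1
  · -- an improper similarity
    obtain ⟨g, hg⟩ := exists_decomp_of_fixes D S (by rw [hτ1]; exact Fixes.one)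
    have hxg : x = D.conjQ g := by
      rw [hS, hg, D.fieldQ_congr hτ1 _ Fixes.one, D.fieldQ_one, mul_one]
    have hchi : D.chi (hkMinus m) g ≠ 1 := fun h => hnot (hxg ▸ innerDiag_of_rot hm hab h)
    obtain rfl : p = 2 := eq_two_of_not_rot D (hkMinus m) Fixes.one hchi hp (by
      rw [D.fieldQ_one, mul_one, ← hxg, hxp])
    have h2 : (2 : F) ≠ 0 := fun h => hpr (by
      have h1 : r ∣ 2 := (CharP.cast_eq_zero_iff F r 2).1 (by exact_mod_cast h)
      exact ((Nat.prime_dvd_prime_iff_eq Fact.out Nat.prime_two).1 h1).symm)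
    refine iff_of_false (fun hne => hne ?_) ?_
    · rw [hxg] at hord ⊢
      exact core_bot_graph hm hab h2 hchi hord A hinn
    · rintro ⟨⟨a', b', ψ, σ, hab', hσ1, ha', hb', hφ⟩, -⟩
      have hσ := fixes_minus m (F := F) ha' hb'
      have hE : MulAut.congr ψ x = (DMinus hm hab').fieldQ σ hσ :=
        ((DMinus hm hab').fieldAutOf_iff σ hσ _).1 hφ
      refine no_field_involution ?_ ha' hb' hab'
      rw [← (DMinus hm hab').orderOf_fieldQ σ hσ, ← hE, MulEquiv.orderOf_eq, hord]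
  have hordτ : orderOf S.τ = p := orderOf_eq_prime hτp hτ1
  have hp2 : p ≠ 2 := by
    rintro rfl
    refine no_semisim_two hm hab S hordτ ?_
    have := congrArg D.toPG' hxp
    rwa [hS, map_pow, MulEquiv.apply_symm_apply, map_one, _root_.sq] at this
  have hpodd : Odd p := hp.eq_two_or_odd'.resolve_left hp2
  -- move to coefficients fixed by the field part
  set K₀ := Cfsg.Agent.Lib.AutPSL.fixField S.τ
  set j := K₀.subtype
  have hj : ∀ t, S.τ t = t ↔ t ∈ Set.range j := fun t =>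
    ⟨fun h => ⟨⟨t, h⟩, rfl⟩, fun ⟨y, hy⟩ => hy ▸ y.2⟩
  obtain ⟨a₀, b₀, hab₀⟩ := exists_aniso K₀
  have hab' : Aniso (j a₀) (j b₀) := aniso_map hordτ hpodd hj hab₀
  obtain ⟨M, hM⟩ := exists_minus_isometry (n := m) hab hab'
  set D' := DMinus hm hab'
  set ψ := pomegaCongr M hM
  set x' := MulAut.congr ψ x with hx'
  have hx'p : x' ^ p = 1 := by rw [hx', ← map_pow, hxp, map_one]
  obtain ⟨S', hS'⟩ := D'.exists_semisim (noTriality_minus hab') x'
  have hτ'p : S'.τ ^ p = 1 := by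
    have h1 : (S' ^ p).aut = 1 := by
      show Semisim.autHom _ = _
      rw [map_pow, Semisim.autHom_apply]
      have := congrArg D'.toPG' hx'p
      rwa [hS', map_pow, MulEquiv.apply_symm_apply, map_one] at this
    obtain ⟨c, -, -, hτ⟩ := D'.scalar_of_aut_eq_one h1
    have := map_pow Semisim.τHom S' p
    rw [Semisim.τHom_apply, Semisim.τHom_apply, hτ] at this
    exact this.symm
  have hτ'1 : S'.τ ≠ 1 := by
    intro hτ'
    obtain ⟨g, hg⟩ := exists_decomp_of_fixes D' S' (by rw [hτ']; exact Fixes.one)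
    have hxg : x' = D'.conjQ g := by
      rw [hS', hg, D'.fieldQ_congr hτ' _ Fixes.one, D'.fieldQ_one, mul_one]
    have hchi : D'.chi (hkMinus m) g = 1 := by
      by_contra hc
      exact hp2 (eq_two_of_not_rot D' (hkMinus m) Fixes.one hc hp (by
        rw [D'.fieldQ_one, mul_one, ← hxg, hx'p]))
    have hmem : x' ∈ ((D.rot (hkMinus m)).map D.conjQ).map (MulAut.congr ψ).toMonoidHom := by
      rw [congr_rot M hM D D' (hkMinus m)]
      exact ⟨g, hchi, hxg.symm⟩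
    obtain ⟨y, ⟨g₁, hg₁, rfl⟩, hy⟩ := hmem
    exact hnot ((MulAut.congr ψ).injective hy ▸ innerDiag_of_rot hm hab hg₁)
  have hordτ' : orderOf S'.τ = p := orderOf_eq_prime hτ'p hτ'1
  have hfix : ∀ t, S.τ t = t → S'.τ t = t := by
    intro t ht
    obtain ⟨k, hk⟩ := Subgroup.mem_zpowers_iff.1 (mem_zpowers_of_pow hp hordτ hτ'p)
    have hmem : S'.τ ∈ MulAction.stabilizer (F ≃+* F) t := by
      rw [← hk]; exact zpow_mem (show S.τ ∈ MulAction.stabilizer (F ≃+* F) t from ht) k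
    exact hmem
  have hfix' : ∀ t, S'.τ t = t → S.τ t = t := by
    intro t ht
    obtain ⟨k, hk⟩ := Subgroup.mem_zpowers_iff.1 (mem_zpowers_of_pow hp hordτ' hτp)
    have hmem : S.τ ∈ MulAction.stabilizer (F ≃+* F) t := by
      rw [← hk]; exact zpow_mem (show S'.τ ∈ MulAction.stabilizer (F ≃+* F) t from ht) k
    exact hmem
  have hj' : ∀ t, S'.τ t = t ↔ t ∈ Set.range j := fun t =>
    ⟨fun h => (hj t).1 (hfix' t h), fun h => hfix t ((hj t).2 h)⟩
  have hσ : Fixes (Cfsg.quadFormMinus m F (j a₀) (j b₀)) S'.τ :=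
    fixes_minus m ((hj' _).2 ⟨a₀, rfl⟩) ((hj' _).2 ⟨b₀, rfl⟩)
  obtain ⟨g, hg⟩ := exists_decomp_of_fixes D' S' hσ
  obtain ⟨-, e, -, he⟩ := minus_conj hm hab₀ hab' hσ hordτ' hp hj' (g := g)
    (by rw [← hg, ← hS', hx'p])
  rw [← hg, ← hS', map_one, one_mul] at he
  set φ := D'.fieldQ S'.τ hσ with hφ
  change x' = D'.conjQ e * φ * (D'.conjQ e)⁻¹ at he
  set E := MulAut.congr (ψ.trans (D'.conjQ e)⁻¹) with hE
  have hEx : E x = φ := by
    have : E x = (D'.conjQ e)⁻¹ * x' * ((D'.conjQ e)⁻¹)⁻¹ := MulEquiv.ext fun y => rfl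
    rw [this, he]; group
  have hfield : Cfsg.IsFieldAutClassPOmegaMinus m x :=
    ⟨j a₀, j b₀, ψ.trans (D'.conjQ e)⁻¹, S'.τ, hab', hτ'1, (hj' _).2 ⟨a₀, rfl⟩,
      (hj' _).2 ⟨b₀, rfl⟩, (D'.fieldAutOf_iff S'.τ hσ _).2 hEx⟩
  rw [and_iff_right hfield, hp.coprime_iff_not_dvd,
    Cfsg.Agent.Lib.AutPSL.card_eqLocus (center_pOmega_eq_bot D)]
  obtain ⟨e₁⟩ := centralizer_map_equiv E A x
  obtain ⟨e₂⟩ := centralizer_map_equiv E (Cfsg.Inn (Cfsg.POmega F (Cfsg.quadFormMinus m F a b))) x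
  rw [Ne, Cfsg.Agent.Lib.AutPSL.pPrimeCore_eq_bot_iff_of_equiv e₁, Nat.card_congr e₂.toEquiv,
    hEx, map_inn]
  refine core_field hm j hab₀ hab' hσ hj' hp2 hordτ' _ ?_
  rw [← map_inn (ψ.trans (D'.conjQ e)⁻¹)]
  refine Subgroup.map_mono ?_
  rintro _ ⟨w, rfl⟩
  exact hinn w

end Cfsg.Agent.S2733
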