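import Cfsg.Statements.S2734
import Cfsg.Agent.Lib.ChevFold.Apply
-- import your own Cfsg.Agent.* helpers here

set_option autoImplicit false
open Cfsg

namespace Cfsg.Agent.S2734

/-- In the Chevalley group of type D₄ over a finite field F (the matrix group generated by the root elements), a graph automorphism attached to a symmetry π of the Dynkin diagram (sending each fundamental root element x_p(t) to x_{π(p)}(t) and each x_{−p}(t) to x_{−π(p)}(t)) that has order 3 — a standard triality graph automorphism, π being a 3-cycle of the three outer nodes — has fixed-point subgroup isomorphic to the Chevalley group of type G₂ over F. -/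
theorem result {F : Type*} [Field F] [Fintype F] (τ : MulAut ↥(Cfsg.Lie.chevD4.group F)) (hτ : Cfsg.Lie.chevD4.IsGraphAut τ) (hτ3 : orderOf τ = 3) :
    Nonempty (↥(MonoidHom.eqLocus τ.toMonoidHom (MonoidHom.id ↥(Cfsg.Lie.chevD4.group F))) ≃* ↥(Cfsg.Lie.chevG2.group F)) := by
  open Cfsg.Agent.Lib.ChevFold Cfsg.Agent.Lib.ChevStructure Cfsg.Agent.Lib.ChevAut in
  obtain ⟨π, hsym, hspec'⟩ := hτ
  have hspec : Cfsg.Agent.Lib.ChevFold.Setting.GraphSpec τ π := hspec'
  let W := Cfsg.Agent.Lib.ChevFold.settingD4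
  have hex := Cfsg.Agent.Lib.ChevFold.hexp_D4
  have h3 : τ ^ 3 = 1 := by rw [← hτ3]; exact pow_orderOf_eq_one τ
  have h3' : ∀ x, τ (τ (τ x)) = x := fun x => DFunLike.congr_fun h3 x
  have hπ3 : ∀ i, π (π (π i)) = i := by
    intro i
    have e := h3' (Cfsg.Agent.Lib.ChevAut.GX W.C F (W.C.p i) 1)
    rw [(hspec.GX_p W hex _ _).1, (hspec.GX_p W hex _ _).1, (hspec.GX_p W hex _ _).1] at e
    by_contra hne
    exact one_ne_zero (W.C.X_eq_X F (congrArg Subtype.val e) (fun h => hne (W.C.p_inj h)))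
  have hinj : ∀ c c' : Fin Cfsg.Lie.chevG2.rank → Fˣ, W.C'.HT F c = W.C'.HT F c' → c = c' := fun c c' hc =>
    Cfsg.Agent.Lib.ChevFixed.HT_injective _ Cfsg.Agent.Lib.ChevFixed.invCartan_G2
      (fun x hx => by rwa [pow_one] at hx) hc
  refine W.fixed_iso Cfsg.Agent.Lib.ChevFold.hfix_D4 hinj _ (fun x => ?_)
  show τ x = x ↔ _
  rcases Cfsg.Agent.Lib.ChevFold.symm_D4 π hsym hπ3 with h | h | h
  · obtain rfl : π = 1 := Equiv.ext h
    have h1 := W.eq_one_of_perm_one hspec hex
    rw [h1, orderOf_one] at hτ3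
    omega
  · have hcoe := W.coe_eq_theta τ.toMonoidHom (fun i t => by
      have h' := hspec.GX_p W hex i t
      rw [h i] at h'
      exact h')
    rw [← hcoe x]
    exact Subtype.ext_iff
  · have hcoe := W.coe_eq_theta (τ.toMonoidHom.comp τ.toMonoidHom) (fun i t => by
      show τ (τ _) = _ ∧ τ (τ _) = _
      rw [(hspec.GX_p W hex i t).1, (hspec.GX_p W hex i t).2, (hspec.GX_p W hex _ t).1,
        (hspec.GX_p W hex _ t).2, h i]
      exact ⟨rfl, rfl⟩)
    rw [← hcoe x]
    show τ x = x ↔ ((τ (τ x) : ↥(Lie.chevD4.group F)) : GL Lie.chevD4.Idx F) = _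
    constructor
    · intro hx; rw [hx, hx]
    · intro hx
      have hx' : τ (τ x) = x := Subtype.ext hx
      calc τ x = τ (τ (τ x)) := by rw [hx']
        _ = x := h3' x

end Cfsg.Agent.S2734
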