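import Cfsg.Statements.S2735
import Cfsg.Agent.Lib.OrthField.Odd
-- import your own Cfsg.Agent.* helpers here

set_option autoImplicit false
open Cfsg

namespace Cfsg.Agent.S2735

open Cfsg.Agent.Lib.OrthField

/-- Let T = Ω_{2m+1}(F) (m ≥ 3, |F| odd) and x a field automorphism of T of prime order r. Then an element y of the coset Inndiag(T)·x (y = δ x with δ induced by a similarity of the form) has order r if and only if y is conjugate to x by an element of Inndiag(T). (T has no graph or graph-field automorphisms.) -/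
theorem result {F : Type*} [Field F] [Fintype F] (hodd : Odd (Fintype.card F)) {m : ℕ} (hm : 3 ≤ m) (x δ : MulAut (Cfsg.POmega F (Cfsg.quadFormOdd m F))) (hx : Cfsg.IsFieldAutClassPOmega (Cfsg.quadFormOdd m F) x) {r : ℕ} (hr : r.Prime) (hxr : orderOf x = r) (hδ : δ ∈ Cfsg.inndiagPOmegaOdd m F) :
    orderOf (δ * x) = r ↔ Cfsg.IsConjUnder (Cfsg.inndiagPOmegaOdd m F) x (δ * x) := by
  classical
  have h2 := Cfsg.Agent.Lib.OrthOmega.two_ne_zero_of_odd hodd
  set D := DOdd (F := F) hm h2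
  have hH : Cfsg.inndiagPOmegaOdd m F = D.conjQ.range := inndiagOdd_eq hm h2
  rw [hH] at hδ ⊢
  have hN := D.conjQ_range_normal (noTriality_DOdd hm h2)
  constructor
  · intro hord
    obtain ⟨α, φ, σ, -, hφ, hα⟩ := hx
    rw [(D.fieldAutOf_iff σ (fixes_odd m σ) φ).1 hφ] at hα
    have hσ : orderOf σ = r := by
      rw [← D.orderOf_fieldQ σ (fixes_odd m σ), ← hα, ← MulAut.conj_apply, MulEquiv.orderOf_eq, hxr]
    obtain ⟨g, hg⟩ := hN.conj_mem δ hδ α
    have h1 : D.conjQ g * D.fieldQ σ (fixes_odd m σ) = α * (δ * x) * α⁻¹ := by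
      rw [hg, ← hα]; group
    obtain ⟨k, hk⟩ := odd_conj hm h2 hσ hr.pos g (by
      rw [h1, ← MulAut.conj_apply, ← map_pow, ← hord, pow_orderOf_eq_one, map_one])
    refine ⟨α⁻¹ * D.conjQ k * α, ?_, ?_⟩
    · simpa using hN.conj_mem _ ⟨k, rfl⟩ α⁻¹
    · rw [h1, ← hα] at hk
      calc δ * x = α⁻¹ * (α * (δ * x) * α⁻¹) * α := by group
        _ = α⁻¹ * (D.conjQ k * (α * x * α⁻¹) * (D.conjQ k)⁻¹) * α := by rw [hk]
        _ = α⁻¹ * D.conjQ k * α * x * (α⁻¹ * D.conjQ k * α)⁻¹ := by group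
  · rintro ⟨h, -, e⟩
    rw [e, ← MulAut.conj_apply, MulEquiv.orderOf_eq, hxr]

end Cfsg.Agent.S2735
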