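import Cfsg.Statements.S2736
import Cfsg.Agent.Lib.OrthField.EvenConj
-- import your own Cfsg.Agent.* helpers here

set_option autoImplicit false
open Cfsg

namespace Cfsg.Agent.S2736

open Cfsg.Agent.Lib.OrthField

/-- Let T = PΩ⁺_{2m}(F) with m ≥ 5 (dimension ≠ 8) and x a field automorphism or a graph-field automorphism of T of prime order r. Then an element y of the coset Inndiag(T)·x (y = δ x with δ induced by a class-preserving similarity) has order r if and only if y is conjugate to x by an element of Inndiag(T). -/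
theorem result {F : Type*} [Field F] [Fintype F] {m : ℕ} (hm : 5 ≤ m) (x δ : MulAut (Cfsg.POmega F (Cfsg.quadFormPlus m F))) (hx : Cfsg.IsFieldAutClassPOmega (Cfsg.quadFormPlus m F) x ∨ Cfsg.IsGraphFieldAutClassPOmegaPlus m x) {r : ℕ} (hr : r.Prime) (hxr : orderOf x = r) (hδ : δ ∈ Cfsg.inndiagPOmegaPlus m F) :
    orderOf (δ * x) = r ↔ Cfsg.IsConjUnder (Cfsg.inndiagPOmegaPlus m F) x (δ * x) := by
  classical
  obtain ⟨n, rfl⟩ : ∃ n, m = n + 1 := ⟨m - 1, by omega⟩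
  have hm4 : 4 ≤ n + 1 := by omega
  set D := DPlus (F := F) hm4 with hD
  have hk := hkPlus (n + 1)
  rw [inndiagPlus_eq hm4] at hδ ⊢
  haveI hN := D.rot_normal_map hk (Cfsg.Agent.Lib.AutPOmega.noTriality_plus hm)
  obtain ⟨α, σ, g, hσ1, hg⟩ : ∃ (α : MulAut (Cfsg.POmega F (Cfsg.quadFormPlus (n + 1) F)))
      (σ : F ≃+* F) (g : GS (Cfsg.quadFormPlus (n + 1) F)), σ ≠ 1 ∧
      α * x * α⁻¹ = D.conjQ g * D.fieldQ σ (fixes_plus (n + 1) σ) := by
    rcases hx with ⟨α, φ, σ, hσ, hφ, hα⟩ | ⟨α, γ, φ, σ, v, R, hσ, hv, hfix, hR, hγ, hφ, hα⟩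
    · exact ⟨α, σ, 1, hσ, by rw [map_one, one_mul, hα, (D.fieldAutOf_iff σ _ φ).1 hφ]⟩
    · obtain ⟨g, hg, -, -⟩ := exists_refl_gs D hk (fixes_plus (n + 1) σ) hv hR hfix
      subst hg
      exact ⟨α, σ, g, hσ, by
        rw [hα, (D.fieldAutOf_iff σ (fixes_plus (n + 1) σ) φ).1 hφ, (D.induced_iff' g γ).1 hγ]⟩
  have hpow : (D.conjQ g * D.fieldQ σ (fixes_plus (n + 1) σ)) ^ r = 1 := by
    rw [← hg, ← MulAut.conj_apply, ← map_pow, ← hxr, pow_orderOf_eq_one, map_one]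
  haveI := Fact.mk hr
  have hσ : orderOf σ = r :=
    orderOf_eq_prime (sigma_pow_eq_one D (fixes_plus (n + 1) σ) hpow) hσ1
  refine coset_iff (MulAut.conj α) (H' := (D.rot hk).map D.conjQ)
    (Subgroup.Normal.conj_smul_eq_self α _) hδ hxr ?_
  rintro _ ⟨d, hd, rfl⟩ he
  rw [MulAut.conj_apply, hg, ← mul_assoc, ← map_mul] at he ⊢
  obtain ⟨a, ha, e⟩ := plus_coset_conj hm4 hσ hr hpow he (by rw [map_mul, (D.mem_rot hk).1 hd, one_mul])
  exact ⟨D.conjQ a, ⟨a, ha, rfl⟩, e⟩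

end Cfsg.Agent.S2736
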