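import Cfsg.Statements.S2737
import Cfsg.Agent.Lib.OrthField.MinusSetup
-- import your own Cfsg.Agent.* helpers here

set_option autoImplicit false
open Cfsg

namespace Cfsg.Agent.S2737

open Cfsg.Agent.Lib.OrthField

/-- Let T = PΩ⁻_{2m+2}(F) (m ≥ 3; form with anisotropic binary part) and x a field automorphism of T of prime order r. Then an element y of the coset Inndiag(T)·x has order r if and only if y is conjugate to x by an element of Inndiag(T). (T has no graph-field automorphisms.) -/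
theorem result {F : Type*} [Field F] [Fintype F] {m : ℕ} (hm : 3 ≤ m) (a b : F) (hab : (∀ z₁ z₂ : F, z₁ ^ 2 + a * z₁ * z₂ + b * z₂ ^ 2 = 0 → z₁ = 0 ∧ z₂ = 0)) (x δ : MulAut (Cfsg.POmega F (Cfsg.quadFormMinus m F a b))) (hx : Cfsg.IsFieldAutClassPOmegaMinus m x) {r : ℕ} (hr : r.Prime) (hxr : orderOf x = r) (hδ : δ ∈ Cfsg.inndiagPOmegaMinus m F a b) :
    orderOf (δ * x) = r ↔ Cfsg.IsConjUnder (Cfsg.inndiagPOmegaMinus m F a b) x (δ * x) := by
  classical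
  obtain ⟨a', b', hab', σ, hσ, E, ha, hb, hord, hH, -, hEx⟩ := minus_setup hm hab hx hxr
  refine coset_iff E hH hδ hxr ?_
  rintro _ ⟨d, hd, rfl⟩ he
  rw [hEx, map_one, one_mul] at he ⊢
  have hj : ∀ y, σ y = y ↔ y ∈ Set.range (Cfsg.Agent.Lib.AutPSL.fixField σ).subtype := fun y =>
    ⟨fun h => ⟨⟨y, h⟩, rfl⟩, fun ⟨z, hz⟩ => hz ▸ z.2⟩
  have hab₀ : Aniso (⟨a', ha⟩ : Cfsg.Agent.Lib.AutPSL.fixField σ) ⟨b', hb⟩ := fun z₁ z₂ hz => by
    have h := hab' z₁ z₂ (congrArg Subtype.val hz)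
    exact ⟨Subtype.ext h.1, Subtype.ext h.2⟩
  obtain ⟨-, k, hk, e⟩ := minus_conj (j := (Cfsg.Agent.Lib.AutPSL.fixField σ).subtype) hm hab₀ hab'
    hσ hord hr hj he
  rw [map_one, one_mul] at e
  exact ⟨_, ⟨k, hk, rfl⟩, e⟩

end Cfsg.Agent.S2737
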