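import Cfsg.Statements.S2738
import Cfsg.Agent.Lib.AutPSL.Gen

set_option autoImplicit false
open Cfsg

namespace Cfsg.Agent.S2738

open scoped commutatorElement

theorem card_center_sl3 (F : Type*) [Field F] [Fintype F] (hF : Fintype.card F = 4) :
    Nat.card ↥(Subgroup.center (Matrix.SpecialLinearGroup (Fin 3) F)) = 3 := by
  classical
  rw [Nat.card_congr (Matrix.SpecialLinearGroup.center_equiv_rootsOfUnity).toEquiv]
  simp only [Fintype.card_fin]
  have htop : rootsOfUnity (max 3 1) F = ⊤ := by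
    refine eq_top_iff.2 fun u _ => ?_
    rw [mem_rootsOfUnity]
    have h1 : u ^ Fintype.card Fˣ = 1 := pow_card_eq_one
    rw [Fintype.card_units, hF] at h1
    simpa using h1
  rw [htop, Subgroup.card_top, Nat.card_eq_fintype_card, Fintype.card_units, hF]

/-- The special linear group SL(3, 4) has centre of order 3 and does not split over it: no subgroup is a complement to the centre (so SL(3, 4) is a non-split central extension of PSL(3, 4) by a group of order 3). -/
theorem result (F : Type*) [Field F] [Fintype F] (hF : Fintype.card F = 4) : Nat.card ↥(Subgroup.center (Matrix.SpecialLinearGroup (Fin 3) F)) = 3 ∧ ¬ ∃ K : Subgroup (Matrix.SpecialLinearGroup (Fin 3) F), Subgroup.IsComplement' (Subgroup.center (Matrix.SpecialLinearGroup (Fin 3) F)) K := by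
  refine ⟨card_center_sl3 F hF, ?_⟩
  rintro ⟨K, hK⟩
  have hperf := Cfsg.Agent.Lib.AutPSL.commutator_eq_top_of_three (ι := Fin 3) (F := F) (by simp)
  have hle : commutator (Matrix.SpecialLinearGroup (Fin 3) F) ≤ K := by
    refine Subgroup.commutator_le.2 fun u _ v _ => ?_
    obtain ⟨⟨⟨z, hz⟩, ⟨k, hk⟩⟩, rfl⟩ := hK.2 u
    obtain ⟨⟨⟨w, hw⟩, ⟨l, hl⟩⟩, rfl⟩ := hK.2 v
    have hz' := Subgroup.mem_center_iff.1 hz
    have hw' := Subgroup.mem_center_iff.1 hw
    have e : ⁅z * k, w * l⁆ = ⁅k, l⁆ := by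
      simp only [commutatorElement_def, mul_inv_rev]
      calc z * k * (w * l) * (k⁻¹ * z⁻¹) * (l⁻¹ * w⁻¹)
          = z * (k * w) * l * k⁻¹ * (z⁻¹ * l⁻¹) * w⁻¹ := by group
        _ = z * (w * k) * l * k⁻¹ * (z⁻¹ * l⁻¹) * w⁻¹ := by rw [hw' k]
        _ = (z * (w * (k * l * k⁻¹))) * z⁻¹ * l⁻¹ * w⁻¹ := by group
        _ = ((w * (k * l * k⁻¹)) * z) * z⁻¹ * l⁻¹ * w⁻¹ := by rw [← hz']
        _ = w * (k * l * k⁻¹ * l⁻¹) * w⁻¹ := by group
        _ = (k * l * k⁻¹ * l⁻¹) * w * w⁻¹ := by rw [← hw']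
        _ = k * l * k⁻¹ * l⁻¹ := by group
    show ⁅z * k, w * l⁆ ∈ K
    rw [e]
    exact K.mul_mem (K.mul_mem (K.mul_mem hk hl) (K.inv_mem hk)) (K.inv_mem hl)
  rw [hperf, top_le_iff] at hle
  subst hle
  have h1 := hK.card_mul
  rw [Subgroup.card_top, card_center_sl3 F hF] at h1
  have h2 : 0 < Nat.card (Matrix.SpecialLinearGroup (Fin 3) F) := Nat.card_pos
  omega

end Cfsg.Agent.S2738
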