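import Cfsg.Statements.S2739
import Cfsg.Agent.Lib.AutPSL.Semisimple

set_option autoImplicit false
open scoped Pointwise
open Cfsg

namespace Cfsg.Agent.S2739

open Matrix Polynomial
open Cfsg.Agent.Lib.AutPSL

theorem zmod3_perm : ∀ v : Fin 3 → ZMod 3, v 0 + v 1 + v 2 = 0 →
    (∀ i, v i = v 0) ∨ ∃ π : Equiv.Perm (Fin 3), ∀ i : Fin 3, v (π i) = (i.val : ZMod 3) := by
  decide +kernel

section

variable {F : Type*} [Field F] [Fintype F]

theorem cube_eq_one (hF : Fintype.card F = 4) {a : F} (ha : a ≠ 0) : a ^ 3 = 1 := by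
  have := FiniteField.pow_card_sub_one_eq_one a ha
  rwa [hF] at this

theorem char_ne (hF : Fintype.card F = 4) : ((3 : ℕ) : F) ≠ 0 := by
  intro h
  have h4 : ((4 : ℕ) : F) = 0 := by rw [← hF]; exact Nat.cast_card_eq_zero F
  have h43 : ((4 : ℕ) : F) = ((3 : ℕ) : F) + 1 := by norm_num
  rw [h4, h, zero_add] at h43
  exact zero_ne_one h43

theorem exists_prim (hF : Fintype.card F = 4) : ∃ ζ : F, IsPrimitiveRoot ζ 3 := by
  classical
  obtain ⟨u, hu⟩ := IsCyclic.exists_generator (α := Fˣ)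
  have h3 : orderOf u = 3 := by
    rw [orderOf_eq_card_of_forall_mem_zpowers hu, Nat.card_eq_fintype_card, Fintype.card_units, hF]
  refine ⟨(u : F), ?_⟩
  rw [IsPrimitiveRoot.coe_units_iff, ← h3]
  exact IsPrimitiveRoot.orderOf u

/-- An element of cube in the centre that is not central is conjugate to `diag(1, ζ, ζ²)`. -/
theorem conj_canonical (hF : Fintype.card F = 4) {ζ : F} (hζ : IsPrimitiveRoot ζ 3)
    (g : SpecialLinearGroup (Fin 3) F)
    (hg : g ^ 3 ∈ Subgroup.center (SpecialLinearGroup (Fin 3) F))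
    (hng : g ∉ Subgroup.center (SpecialLinearGroup (Fin 3) F)) :
    ∃ P : SpecialLinearGroup (Fin 3) F, (g : Matrix (Fin 3) (Fin 3) F) * (P : Matrix (Fin 3) (Fin 3) F) =
      (P : Matrix (Fin 3) (Fin 3) F) * diagonal (fun i : Fin 3 => ζ ^ (i : ℕ)) := by
  classical
  obtain ⟨c, hc3, hc⟩ := Matrix.SpecialLinearGroup.mem_center_iff.1 hg
  simp only [Fintype.card_fin] at hc3
  set M : Matrix (Fin 3) (Fin 3) F := (g : Matrix (Fin 3) (Fin 3) F) with hM
  have hM3 : M ^ 3 = scalar (Fin 3) c := by rw [hc, hM]; rfl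
  have hc0 : c ≠ 0 := by
    intro h
    simp [h] at hc3
  have hc1 : c = 1 := by
    by_contra hne
    have hirr : Irreducible ((X : F[X]) ^ 3 - C c) := by
      refine X_pow_sub_C_irreducible_of_prime Nat.prime_three fun b hb => ?_
      by_cases hb0 : b = 0
      · simp [hb0] at hb
        exact hc0 hb.symm
      · exact hne (hb.symm.trans (cube_eq_one hF hb0))
    have haev : aeval M ((X : F[X]) ^ 3 - C c) = 0 := by
      simp [hM3, Matrix.algebraMap_eq_diagonal, Pi.algebraMap_def]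
    have hmin : minpoly F M = (X : F[X]) ^ 3 - C c :=
      (minpoly.eq_of_irreducible_of_monic hirr haev (monic_X_pow_sub_C c (by norm_num))).symm
    have hcp : M.charpoly = (X : F[X]) ^ 3 - C c := by
      rw [← hmin]
      refine (Polynomial.eq_of_monic_of_dvd_of_natDegree_le (minpoly.monic (Matrix.isIntegral M))
        M.charpoly_monic M.minpoly_dvd_charpoly ?_)
      rw [hmin, natDegree_X_pow_sub_C, Matrix.charpoly_natDegree_eq_dim, Fintype.card_fin]
    have hdet := M.det_eq_sign_charpoly_coeff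
    rw [hcp, Fintype.card_fin, coeff_sub, coeff_X_pow, coeff_C_zero, if_neg (by norm_num),
      hM, g.det_coe] at hdet
    apply hne
    rw [hdet]
    ring
  subst hc1
  rw [map_one] at hM3
  obtain ⟨P, d, hd, hPd⟩ := exists_diagonalize (char_ne hF) hζ hM3
  have hζ0 : ζ ≠ 0 := hζ.ne_zero (by norm_num)
  have : ∀ i, ∃ k : ZMod 3, d i = ζ ^ k.val := fun i => by
    obtain ⟨j, hj, hje⟩ := hζ.eq_pow_of_pow_eq_one (hd i)
    exact ⟨(j : ZMod 3), by rw [ZMod.val_natCast, Nat.mod_eq_of_lt hj, hje]⟩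
  choose v hv using this
  have hpow : ∀ a b : ZMod 3, ζ ^ (a + b).val = ζ ^ a.val * ζ ^ b.val := by
    intro a b
    rw [ZMod.val_add, ← pow_add]
    conv_rhs => rw [← Nat.mod_add_div (a.val + b.val) 3, pow_add, pow_mul, hζ.pow_eq_one, one_pow, mul_one]
  have hprod : d 0 * d 1 * d 2 = 1 := by
    have h1 := congrArg Matrix.det hPd
    rw [det_mul, det_mul, hM, g.det_coe, one_mul, det_diagonal, Fin.prod_univ_three] at h1
    have hPne : (P : Matrix (Fin 3) (Fin 3) F).det ≠ 0 :=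
      ((Matrix.isUnit_iff_isUnit_det _).1 P.isUnit).ne_zero
    exact (mul_eq_left₀ hPne).1 h1.symm
  have hsum : v 0 + v 1 + v 2 = 0 := by
    rw [hv, hv, hv, ← hpow, ← hpow] at hprod
    have := hζ.pow_inj (ZMod.val_lt _) (by norm_num) (hprod.trans (pow_zero ζ).symm)
    exact (ZMod.val_eq_zero _).1 this
  rcases zmod3_perm v hsum with hconst | ⟨π, hπ⟩
  · exfalso
    apply hng
    rw [Matrix.SpecialLinearGroup.mem_center_iff]
    have hdiag : diagonal d = (ζ ^ (v 0).val) • (1 : Matrix (Fin 3) (Fin 3) F) := by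
      rw [smul_one_eq_diagonal]
      congr 1
      funext i
      rw [hv i, hconst i]
    rw [hdiag, Matrix.mul_smul, mul_one] at hPd
    have hMs : M = (ζ ^ (v 0).val) • (1 : Matrix (Fin 3) (Fin 3) F) := by
      have h2 := congrArg (fun A : Matrix (Fin 3) (Fin 3) F => A * ((P⁻¹ : GL (Fin 3) F) : Matrix (Fin 3) (Fin 3) F)) hPd
      simpa [Matrix.mul_assoc] using h2
    refine ⟨ζ ^ (v 0).val, ?_, ?_⟩
    · rw [Fintype.card_fin, ← pow_mul, mul_comm, pow_mul, hζ.pow_eq_one, one_pow]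
    · rw [← hM, hMs, smul_one_eq_diagonal]
      rfl
  · have hdπ : ∀ i : Fin 3, d (π i) = ζ ^ (i : ℕ) := fun i => by
      rw [hv, hπ i, ZMod.val_natCast, Nat.mod_eq_of_lt i.isLt]
    set P' : Matrix (Fin 3) (Fin 3) F := (P : Matrix (Fin 3) (Fin 3) F).submatrix id π with hP'
    have hdet : P'.det ≠ 0 := by
      rw [hP', Matrix.det_permute']
      refine mul_ne_zero ?_ ((Matrix.isUnit_iff_isUnit_det _).1 P.isUnit).ne_zero
      rcases Int.units_eq_one_or (Equiv.Perm.sign π) with h | h <;> simp [h]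
    have hP'eq : M * P' = P' * diagonal (fun i : Fin 3 => ζ ^ (i : ℕ)) := by
      ext i j
      have h1 := congrFun (congrFun hPd i) (π j)
      rw [mul_diagonal, hdπ] at h1
      rw [mul_diagonal, hP']
      simpa [Matrix.mul_apply] using h1
    refine ⟨⟨P' * diagonal ![(P'.det)⁻¹, 1, 1], ?_⟩, ?_⟩
    · rw [det_mul, det_diagonal, Fin.prod_univ_three]
      simp [hdet]
    · show M * (P' * _) = P' * _ * _
      rw [← Matrix.mul_assoc, hP'eq, Matrix.mul_assoc, Matrix.mul_assoc, diagonal_mul_diagonal,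
        diagonal_mul_diagonal]
      congr 2
      funext i
      exact mul_comm _ _

end

/-- In the projective special linear group PSL(3, 4) all subgroups of order 3 are conjugate. -/
theorem result (F : Type*) [Field F] [Fintype F] (hF : Fintype.card F = 4) (X Y : Subgroup (Matrix.ProjectiveSpecialLinearGroup (Fin 3) F)) (hX : Nat.card ↥X = 3) (hY : Nat.card ↥Y = 3) : ∃ g : Matrix.ProjectiveSpecialLinearGroup (Fin 3) F, MulAut.conj g • X = Y := by
  classical
  obtain ⟨ζ, hζ⟩ := exists_prim hF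
  have hgen : ∀ Z : Subgroup (Matrix.ProjectiveSpecialLinearGroup (Fin 3) F), Nat.card ↥Z = 3 →
      ∃ g : Matrix.SpecialLinearGroup (Fin 3) F,
        g ^ 3 ∈ Subgroup.center (Matrix.SpecialLinearGroup (Fin 3) F) ∧
        g ∉ Subgroup.center (Matrix.SpecialLinearGroup (Fin 3) F) ∧
        Z = Subgroup.zpowers (QuotientGroup.mk g) := by
    intro Z hZ
    haveI := Fact.mk Nat.prime_three
    obtain ⟨z, hz, hz1⟩ : ∃ z ∈ Z, z ≠ 1 := by
      by_contra hcon
      simp only [not_exists, not_and, not_not] at hcon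
      have : Z = ⊥ := (Subgroup.eq_bot_iff_forall Z).2 hcon
      rw [this, Subgroup.card_bot] at hZ
      omega
    have ho : orderOf z = 3 := by
      have h1 : orderOf (⟨z, hz⟩ : ↥Z) = orderOf z := (Subgroup.orderOf_coe _).symm
      have h2 := orderOf_dvd_natCard (⟨z, hz⟩ : ↥Z)
      rw [h1, hZ] at h2
      exact (Nat.prime_three.eq_one_or_self_of_dvd _ h2).resolve_left (fun h => hz1 (orderOf_eq_one_iff.1 h))
    obtain ⟨g, rfl⟩ := QuotientGroup.mk_surjective z
    refine ⟨g, ?_, ?_, ?_⟩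
    · rw [← QuotientGroup.eq_one_iff, QuotientGroup.mk_pow]
      have h3 := pow_orderOf_eq_one (QuotientGroup.mk g : Matrix.ProjectiveSpecialLinearGroup (Fin 3) F)
      rwa [ho] at h3
    · rw [← QuotientGroup.eq_one_iff]
      exact hz1
    · refine (Subgroup.eq_of_le_of_card_ge (Subgroup.zpowers_le.2 hz) ?_).symm
      rw [Nat.card_zpowers, ho, hZ]
  obtain ⟨g, hg1, hg2, rfl⟩ := hgen X hX
  obtain ⟨k, hk1, hk2, rfl⟩ := hgen Y hY
  obtain ⟨P, hP⟩ := conj_canonical hF hζ g hg1 hg2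
  obtain ⟨Q, hQ⟩ := conj_canonical hF hζ k hk1 hk2
  have hrel : Q * P⁻¹ * g * (Q * P⁻¹)⁻¹ = k := by
    have h : Q * P⁻¹ * g * P = k * Q := by
      apply Matrix.SpecialLinearGroup.coeMonoidHom_injective
      simp only [map_mul, Matrix.SpecialLinearGroup.coeMonoidHom_apply]
      rw [Matrix.mul_assoc, hP, hQ, ← Matrix.mul_assoc, Matrix.mul_assoc _ _ (P : Matrix (Fin 3) (Fin 3) F),
        ← Matrix.SpecialLinearGroup.coe_mul, inv_mul_cancel, Matrix.SpecialLinearGroup.coe_one, Matrix.mul_one]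
    rw [_root_.mul_inv_rev, inv_inv, ← mul_assoc, h, mul_inv_cancel_right]
  refine ⟨QuotientGroup.mk (Q * P⁻¹), ?_⟩
  show (Subgroup.zpowers _).map (MulAut.conj _).toMonoidHom = _
  rw [MonoidHom.map_zpowers]
  congr 1
  rw [← hrel]
  simp [MulAut.conj_apply, mul_assoc]

end Cfsg.Agent.S2739
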