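import Cfsg.Statements.S2758
import Cfsg.Agent.Lib.LAEven54.Inverted

set_option autoImplicit false
open Cfsg

namespace Cfsg.Agent.S2758

/-- For an odd prime p and a finite group G the following are equivalent: the dihedral group of order 2p is involved in G; some element of 2-power order normalizes but does not centralize some p-subgroup of G; some element of 2-power order inverts some nonidentity element of p-power order. -/
theorem result {G : Type*} [Group G] [Finite G] {p : ℕ} [Fact p.Prime] (hp : p ≠ 2) : (Cfsg.Involves (DihedralGroup p) G ↔ ∃ (x : G) (P : Subgroup G), (∃ k : ℕ, orderOf x = 2 ^ k) ∧ IsPGroup p ↥P ∧ x ∈ Subgroup.normalizer (P : Set G) ∧ x ∉ Subgroup.centralizer (P : Set G)) ∧ (Cfsg.Involves (DihedralGroup p) G ↔ ∃ x y : G, (∃ k : ℕ, orderOf x = 2 ^ k) ∧ (∃ k : ℕ, orderOf y = p ^ k) ∧ y ≠ 1 ∧ x * y * x⁻¹ = y⁻¹) := by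
  have hpp : p.Prime := Fact.out
  haveI : NeZero p := ⟨hpp.ne_zero⟩
  have h12 : (∃ (x : G) (P : Subgroup G), (∃ k : ℕ, orderOf x = 2 ^ k) ∧ IsPGroup p ↥P ∧
      x ∈ Subgroup.normalizer (P : Set G) ∧ x ∉ Subgroup.centralizer (P : Set G)) →
      ∃ x y : G, (∃ k : ℕ, orderOf x = 2 ^ k) ∧ (∃ k : ℕ, orderOf y = p ^ k) ∧ y ≠ 1 ∧
        x * y * x⁻¹ = y⁻¹ := by
    rintro ⟨x, P, hx, hP, hxN, hxC⟩
    obtain ⟨x', y, hx', hy, -, hy1, hinv⟩ :=
      Cfsg.Agent.Lib.LAEven54.Inverted.exists_inverted_of_normalizer hx hP hxN hxC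
    obtain ⟨k, hk⟩ := IsPGroup.iff_orderOf.1 hP ⟨y, hy⟩
    exact ⟨x', y, hx', ⟨k, (Subgroup.orderOf_coe ⟨y, hy⟩).trans hk⟩, hy1, hinv⟩
  have h20 : (∃ x y : G, (∃ k : ℕ, orderOf x = 2 ^ k) ∧ (∃ k : ℕ, orderOf y = p ^ k) ∧ y ≠ 1 ∧
      x * y * x⁻¹ = y⁻¹) → Cfsg.Involves (DihedralGroup p) G := by
    rintro ⟨x, y, hx, hy, hy1, hinv⟩
    exact Cfsg.Agent.Lib.LAEven54.Inverted.involves_dihedral_of_inverted hp hx hy hy1 hinv
  have h01 : Cfsg.Involves (DihedralGroup p) G → ∃ (x : G) (P : Subgroup G),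
      (∃ k : ℕ, orderOf x = 2 ^ k) ∧ IsPGroup p ↥P ∧ x ∈ Subgroup.normalizer (P : Set G) ∧
        x ∉ Subgroup.centralizer (P : Set G) := by
    intro h
    obtain ⟨K, φ, hφ⟩ := Cfsg.Agent.Lib.Transfer.InvolvesS4.exists_hom_of_involves h
    haveI : (Subgroup.zpowers (DihedralGroup.r (1 : ZMod p))).Normal :=
      Subgroup.normal_of_index_eq_two (by
        have h := (Subgroup.zpowers (DihedralGroup.r (1 : ZMod p))).index_mul_card
        rw [Nat.card_zpowers, DihedralGroup.orderOf_r_one, DihedralGroup.nat_card] at h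
        exact Nat.eq_of_mul_eq_mul_right hpp.pos h)
    refine Cfsg.Agent.Lib.LAEven54.Inverted.exists_normalizing_of_section hp K φ hφ
      (M := Subgroup.zpowers (DihedralGroup.r (1 : ZMod p))) (a := DihedralGroup.sr 0) ?_ ?_ ?_
    · exact IsPGroup.of_card (n := 1) (by rw [Nat.card_zpowers, DihedralGroup.orderOf_r_one, pow_one])
    · rw [sq, DihedralGroup.sr_mul_self]
    · intro h
      have h1 := (Subgroup.mem_centralizer_iff.1 h) _ (Subgroup.mem_zpowers _)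
      rw [DihedralGroup.r_mul_sr, DihedralGroup.sr_mul_r, zero_sub, zero_add] at h1
      have h2 : (-1 : ZMod p) = 1 := DihedralGroup.sr.inj h1
      haveI : Fact (2 < p) := ⟨lt_of_le_of_ne hpp.two_le (Ne.symm hp)⟩
      exact ZMod.neg_one_ne_one h2
  exact ⟨⟨h01, fun h => h20 (h12 h)⟩, ⟨fun h => h12 (h01 h), h20⟩⟩

end Cfsg.Agent.S2758
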