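import Cfsg.Statements.S2760
import Cfsg.Agent.Lib.CharP.Basic
import Cfsg.Agent.Lib.CosetGraph.SylowIn

set_option autoImplicit false
open Cfsg

namespace Cfsg.Agent.S2760

/-- Let G be a finite group with C_G(O₂(G)) ≤ O₂(G) and H a subgroup of G such that H is normal in G, or the subgroup O²(H) generated by the elements of H of odd order is normal in G. Then C_H(O₂(H)) ≤ O₂(H). -/
theorem result {G : Type*} [Group G] [Finite G] (hchar : Subgroup.centralizer (Cfsg.pCore 2 G : Set G) ≤ Cfsg.pCore 2 G) (H : Subgroup G) (hH : H.Normal ∨ ((Cfsg.pResidual 2 ↥H).map H.subtype).Normal) : Subgroup.centralizer (Cfsg.pCore 2 ↥H : Set ↥H) ≤ Cfsg.pCore 2 ↥H := by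
  have htop : Subgroup.centralizer (Cfsg.pCore 2 ↥(⊤ : Subgroup G) : Set ↥(⊤ : Subgroup G)) ≤ Cfsg.pCore 2 ↥(⊤ : Subgroup G) :=
    Cfsg.Agent.Lib.CharP.charP_of_isSubnormal hchar Subgroup.IsSubnormal.top
  rcases hH with hn | hn
  · exact Cfsg.Agent.Lib.CharP.charP_of_normal_le htop le_top
      (by rw [Subgroup.normalizer_eq_top])
  set R := (Cfsg.pResidual 2 ↥H).map H.subtype with hR
  have hRch : Subgroup.centralizer (Cfsg.pCore 2 ↥R : Set ↥R) ≤ Cfsg.pCore 2 ↥R :=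
    Cfsg.Agent.Lib.CharP.charP_of_normal_le htop le_top (by rw [Subgroup.normalizer_eq_top])
  have hRH : R ≤ H := Subgroup.map_subtype_le _
  refine Cfsg.Agent.Lib.CharP.charP_of_coprime fun x hxH hx hc => ?_
  have hxR : x ∈ R := by
    rw [hR, Cfsg.Agent.Lib.CharP.map_pResidual_subtype]
    exact Subgroup.subset_closure ⟨hxH, hx⟩
  refine Cfsg.Agent.Lib.CharP.eq_one_of_charP hRch hxR hx fun u hu => hc u ?_
  refine Cfsg.Agent.Lib.CharP.le_pCoreOf (Cfsg.Agent.Lib.CharP.isPGroup_pCoreOf 2 R)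
    ((Cfsg.Agent.Lib.CharP.pCoreOf_le 2 R).trans hRH) ?_ hu
  intro g _
  rw [Cfsg.Agent.Lib.CosetGraph.SylowIn.mem_normalizer_iff_map,
    Cfsg.Agent.Lib.CosetGraph.SylowIn.pCoreOf_map 2 R _ (MulAut.conj g).injective,
    Cfsg.Agent.Lib.CosetGraph.SylowIn.conj_map_eq_self
      (show g ∈ Subgroup.normalizer (R : Set G) by rw [Subgroup.normalizer_eq_top]; trivial)]

end Cfsg.Agent.S2760
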