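import Cfsg.Statements.S2762
import Cfsg.Agent.Lib.LAEven54.QdOver

set_option autoImplicit false
open Cfsg

namespace Cfsg.Agent.S2762

open Matrix Cfsg.Agent.Lib.LAEven54.QdOver

/-- Structure of Qd over a finite field F of characteristic p (the affine subgroup of SL₃(F)): its largest normal p-subgroup is the group of translations (matrices with upper-left block the identity), the block-diagonal matrices form a complement isomorphic to SL₂(F), and the translation subgroup is a natural SL₂(F)-module for that complement. -/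
theorem result {F : Type*} [Field F] [Fintype F] {p : ℕ} [Fact p.Prime] [CharP F p] : (∀ M : ↥(Cfsg.qdOver F), M ∈ Cfsg.pCore p ↥(Cfsg.qdOver F) ↔ ((M : Matrix.SpecialLinearGroup (Fin 3) F) : Matrix (Fin 3) (Fin 3) F) 0 0 = 1 ∧ ((M : Matrix.SpecialLinearGroup (Fin 3) F) : Matrix (Fin 3) (Fin 3) F) 0 1 = 0 ∧ ((M : Matrix.SpecialLinearGroup (Fin 3) F) : Matrix (Fin 3) (Fin 3) F) 1 0 = 0 ∧ ((M : Matrix.SpecialLinearGroup (Fin 3) F) : Matrix (Fin 3) (Fin 3) F) 1 1 = 1) ∧ ∃ K : Subgroup ↥(Cfsg.qdOver F), (∀ M : ↥(Cfsg.qdOver F), M ∈ K ↔ ((M : Matrix.SpecialLinearGroup (Fin 3) F) : Matrix (Fin 3) (Fin 3) F) 0 2 = 0 ∧ ((M : Matrix.SpecialLinearGroup (Fin 3) F) : Matrix (Fin 3) (Fin 3) F) 1 2 = 0) ∧ K ⊓ Cfsg.pCore p ↥(Cfsg.qdOver F) = ⊥ ∧ K ⊔ Cfsg.pCore p ↥(Cfsg.qdOver F) = ⊤ ∧ Nonempty (↥K ≃* Matrix.SpecialLinearGroup (Fin 2) F) ∧ Cfsg.IsNaturalSL2Module F (Cfsg.pCore p ↥(Cfsg.qdOver F)) K := by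
  classical
  rw [pCore_eq p]
  refine ⟨fun M => ?_, ?_⟩
  · constructor
    · intro h
      obtain ⟨v, rfl⟩ := mem_trans_iff.1 h
      rw [coe_mk]
      simp [affMat]
    · rintro ⟨h0, h1, h2, h3⟩
      obtain ⟨A, v, rfl⟩ := exists_mk M
      rw [coe_mk] at h0 h1 h2 h3
      simp [affMat] at h0 h1 h2 h3
      refine mem_trans_iff.2 ⟨v, ?_⟩
      rw [show A = 1 from sl2_ext (by simpa using h0) (by simpa using h1) (by simpa using h2)
        (by simpa using h3)]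
  let s : Matrix.SpecialLinearGroup (Fin 2) F →* ↥(Cfsg.qdOver F) :=
    MonoidHom.mk' (fun A => mk A 0) fun A B => by rw [mk_mul]; simp
  have hs : ∀ A, s A = mk A 0 := fun A => rfl
  have hsinj : Function.Injective s := fun A B h => (mk_inj (by rwa [hs, hs] at h)).1
  have hmemK : ∀ M, M ∈ s.range ↔ ∃ A, M = mk A 0 := fun M =>
    ⟨fun ⟨A, h⟩ => ⟨A, h.symm⟩, fun ⟨A, h⟩ => ⟨A, h.symm⟩⟩
  refine ⟨s.range, fun M => ?_, ?_, ?_, ⟨(MonoidHom.ofInjective hsinj).symm⟩, ?_⟩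
  · rw [hmemK]
    constructor
    · rintro ⟨A, rfl⟩
      rw [coe_mk]
      simp [affMat]
    · rintro ⟨h0, h1⟩
      obtain ⟨A, v, rfl⟩ := exists_mk M
      rw [coe_mk] at h0 h1
      simp [affMat] at h0 h1
      exact ⟨A, by rw [show v = 0 from by ext i; fin_cases i <;> simp [h0, h1]]⟩
  · rw [Subgroup.eq_bot_iff_forall]
    rintro M ⟨hK, hT⟩
    obtain ⟨A, rfl⟩ := (hmemK M).1 hK
    obtain ⟨v, hv⟩ := mem_trans_iff.1 hT
    obtain ⟨rfl, -⟩ := mk_inj hv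
    exact one_eq.symm
  · rw [eq_top_iff]
    rintro M -
    obtain ⟨A, v, rfl⟩ := exists_mk M
    have h : mk A v = mk 1 v * mk A 0 := by rw [mk_mul]; simp
    rw [h]
    exact mul_mem (Subgroup.mem_sup_right (mem_trans_iff.2 ⟨v, rfl⟩))
      (Subgroup.mem_sup_left ((hmemK _).2 ⟨A, rfl⟩))
  have hTn := trans_normal (F := F)
  refine ⟨?_, ?_⟩
  · rw [Subgroup.normalizer_eq_top_iff.mpr hTn]; exact le_top
  have hψ : ∀ t : ↥(trans F), ∃ v, (t : ↥(Cfsg.qdOver F)) = mk 1 v := fun t => mem_trans_iff.1 t.2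
  choose vf hvf using hψ
  let ψ : Additive ↥(trans F) ≃+ (Fin 2 → F) :=
    { toFun := fun t => vf (Additive.toMul t)
      invFun := fun v => Additive.ofMul ⟨mk 1 v, mem_trans_iff.2 ⟨v, rfl⟩⟩
      left_inv := fun t => by
        apply Additive.toMul.injective
        exact Subtype.ext (hvf _).symm
      right_inv := fun v => (mk_inj (hvf ⟨mk 1 v, mem_trans_iff.2 ⟨v, rfl⟩⟩)).2.symm
      map_add' := fun t u => by
        refine (mk_inj (A := 1) (B := 1) ?_).2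
        rw [← hvf, ← mk_one_mul, ← hvf, ← hvf]
        rfl }
  refine ⟨blk.comp s.range.subtype, ψ, ?_, ?_, ?_⟩
  · intro A
    exact ⟨⟨mk A 0, (hmemK _).2 ⟨A, rfl⟩⟩, blk_mk A 0⟩
  · ext ⟨M, hM⟩
    obtain ⟨A, rfl⟩ := (hmemK M).1 hM
    rw [MonoidHom.mem_ker, Subgroup.mem_subgroupOf, Subgroup.mem_centralizer_iff]
    show blk (mk A 0) = 1 ↔ ∀ h ∈ ((Cfsg.Agent.Lib.LAEven54.QdOver.trans F : Subgroup _) : Set _), h * mk A 0 = mk A 0 * h
    rw [blk_mk]
    constructor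
    · rintro rfl h -
      rw [← one_eq, mul_one, one_mul]
    · intro h
      have hv : ∀ v, A.1 *ᵥ v = v := fun v => by
        have h1 := h (mk 1 v) (mem_trans_iff.2 ⟨v, rfl⟩)
        refine (mk_inj (A := 1) (B := 1) ?_).2
        rw [← conj_mk_one A 0 v, mul_inv_eq_iff_eq_mul, ← h1]
      exact Subtype.ext (Matrix.ext_of_mulVec_single fun i => by
        rw [hv, Matrix.SpecialLinearGroup.coe_one, Matrix.one_mulVec])
  · rintro ⟨M, hM⟩ t
    obtain ⟨A, rfl⟩ := (hmemK M).1 hM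
    refine ⟨⟨mk A 0 * t * (mk A 0)⁻¹, hTn.conj_mem _ t.2 _⟩, rfl, ?_⟩
    show vf _ = (blk (mk A 0)).1 *ᵥ vf t
    rw [blk_mk]
    refine (mk_inj (A := 1) (B := 1) ?_).2
    rw [← hvf, ← conj_mk_one A 0, ← hvf]
    rfl

end Cfsg.Agent.S2762
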