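import Cfsg.Statements.S2763
import Cfsg.Agent.Lib.LAEven54.QdOver

set_option autoImplicit false
open Cfsg

namespace Cfsg.Agent.S2763

open Matrix Cfsg.Agent.Lib.Linear Cfsg.Agent.Lib.LAEven54.QdOver

variable {F : Type*} [Field F]

theorem uM_mul (x y : F) : uM x * uM y = uM (x + y) := by
  apply sl2_ext <;>
    simp [coe_uM, Matrix.SpecialLinearGroup.coe_mul, Matrix.mul_apply, Fin.sum_univ_two, add_comm]

theorem entries_mk (x : F) (v : Fin 2 → F) :
    (mk (uM x) v).1.1 0 1 = x ∧ (mk (uM x) v).1.1 0 2 = v 0 ∧ (mk (uM x) v).1.1 1 2 = v 1 := by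
  rw [coe_mk]
  simp [affMat, coe_uM]

/-- The automorphism of the unitriangular group exchanging its two maximal abelian subgroups. -/
def swapFun (M : ↥(Cfsg.qdOver F)) : ↥(Cfsg.qdOver F) :=
  mk (uM (M.1.1 1 2)) ![M.1.1 0 1 * M.1.1 1 2 - M.1.1 0 2, M.1.1 0 1]

theorem swapFun_mk (x : F) (v : Fin 2 → F) :
    swapFun (mk (uM x) v) = mk (uM (v 1)) ![x * v 1 - v 0, x] := by
  obtain ⟨h1, h2, h3⟩ := entries_mk x v
  rw [swapFun, h1, h2, h3]

/-- The automorphism exchanging the two maximal abelian subgroups. -/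
noncomputable def swapU : ↥(unitri F) ≃* ↥(unitri F) where
  toFun M := ⟨swapFun M, mem_unitri_iff.2 ⟨_, _, rfl⟩⟩
  invFun M := ⟨swapFun M, mem_unitri_iff.2 ⟨_, _, rfl⟩⟩
  left_inv := fun ⟨M, hM⟩ => by
    obtain ⟨x, v, rfl⟩ := mem_unitri_iff.1 hM
    apply Subtype.ext
    show swapFun (swapFun (mk (uM x) v)) = mk (uM x) v
    rw [swapFun_mk, swapFun_mk]
    congr 1
    ext i; fin_cases i <;> simp <;> ring
  right_inv := fun ⟨M, hM⟩ => by
    obtain ⟨x, v, rfl⟩ := mem_unitri_iff.1 hM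
    apply Subtype.ext
    show swapFun (swapFun (mk (uM x) v)) = mk (uM x) v
    rw [swapFun_mk, swapFun_mk]
    congr 1
    ext i; fin_cases i <;> simp <;> ring
  map_mul' := fun ⟨M, hM⟩ ⟨N, hN⟩ => by
    obtain ⟨x, v, rfl⟩ := mem_unitri_iff.1 hM
    obtain ⟨y, w, rfl⟩ := mem_unitri_iff.1 hN
    apply Subtype.ext
    show swapFun (mk (uM x) v * mk (uM y) w) = swapFun (mk (uM x) v) * swapFun (mk (uM y) w)
    rw [swapFun_mk, swapFun_mk, mk_mul, mk_mul, uM_mul, swapFun_mk, uM_mul]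
    congr 1
    · congr 1
      simp [coe_uM, Matrix.mulVec, dotProduct, Fin.sum_univ_two]
      ring
    · ext i; fin_cases i <;> simp [coe_uM, Matrix.mulVec, dotProduct, Fin.sum_univ_two] <;> ring

theorem trans_le_unitri : Cfsg.Agent.Lib.LAEven54.QdOver.trans F ≤ unitri F := fun M hM => by
  obtain ⟨v, rfl⟩ := mem_trans_iff.1 hM
  refine mem_unitri_iff.2 ⟨0, v, ?_⟩
  congr 1
  apply sl2_ext <;> simp [coe_uM]

theorem mem_normalizer_unitri {a : ↥(Cfsg.qdOver F)} (h : (blk a).1 1 0 = 0) :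
    a ∈ Subgroup.normalizer (unitri F : Set ↥(Cfsg.qdOver F)) := by
  have key : ∀ A : Matrix.SpecialLinearGroup (Fin 2) F, A.1 1 0 = 0 →
      ∀ B ∈ (uSL (F := F)).range, A * B * A⁻¹ ∈ (uSL (F := F)).range := by
    intro A hA B hB
    obtain ⟨x, rfl⟩ := mem_range_uSL_iff.1 hB
    have hd : A.1 0 0 * A.1 1 1 - A.1 0 1 * A.1 1 0 = 1 := by
      rw [← Matrix.det_fin_two]; exact A.2
    rw [hA, mul_zero, sub_zero] at hd
    refine mem_range_uSL_iff.2 ⟨A.1 0 0 * A.1 0 0 * x, mul_inv_eq_iff_eq_mul.2 ?_⟩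
    apply sl2_ext <;>
      simp [coe_uM, Matrix.SpecialLinearGroup.coe_mul, Matrix.mul_apply, Fin.sum_univ_two, hA]
    · linear_combination (-(A.1 0 0 * x)) * hd
  rw [Subgroup.mem_normalizer_iff]
  intro M
  simp only [SetLike.mem_coe, unitri, Subgroup.mem_comap, map_mul, map_inv]
  refine ⟨key _ h _, fun hM => ?_⟩
  have h' : (blk a)⁻¹.1 1 0 = 0 := by
    rw [Matrix.SpecialLinearGroup.coe_inv, Matrix.adjugate_fin_two]
    simp [h]
  have := key _ h' _ hM
  rwa [inv_inv, ← mul_assoc, ← mul_assoc, inv_mul_cancel, one_mul, inv_mul_cancel_right] at this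

theorem eq_top_of_unitri_le {M : Subgroup ↥(Cfsg.qdOver F)} (hU : unitri F ≤ M)
    {a : ↥(Cfsg.qdOver F)} (ha : a ∈ M)
    (hn : a ∉ Subgroup.normalizer (unitri F : Set ↥(Cfsg.qdOver F))) : M = ⊤ := by
  have h10 : (blk a).1 1 0 ≠ 0 := fun h => hn (mem_normalizer_unitri h)
  have hu : ∀ x : F, uM x ∈ M.map blk := fun x =>
    ⟨mk (uM x) 0, hU (mem_unitri_iff.2 ⟨x, 0, rfl⟩), blk_mk _ _⟩
  have htop := eq_top_of_conj_uM hu h10 (fun x =>
    mul_mem (mul_mem (Subgroup.mem_map_of_mem _ ha) (hu x)) (inv_mem (Subgroup.mem_map_of_mem _ ha)))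
  have h1 := Subgroup.comap_map_eq_self (f := blk) (H := M) (le_trans trans_le_unitri hU)
  rw [← h1, htop, Subgroup.comap_top]

theorem normalizer_le_of_char {G : Type*} [Group G] (S : Subgroup G) (T : Subgroup ↥S)
    (hTc : T.Characteristic) :
    Subgroup.normalizer (S : Set G) ≤ Subgroup.normalizer ((T.map S.subtype : Subgroup G) : Set G) := by
  intro g hg
  have hg' := Subgroup.mem_normalizer_iff.1 hg
  let e : ↥S ≃* ↥S :=
    { toFun := fun s => ⟨g * s * g⁻¹, (hg' _).1 s.2⟩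
      invFun := fun s => ⟨g⁻¹ * s * g, (hg' _).2 (by simp [mul_assoc])⟩
      left_inv := fun s => Subtype.ext (by simp [mul_assoc])
      right_inv := fun s => Subtype.ext (by simp [mul_assoc])
      map_mul' := fun s t => Subtype.ext (by simp [mul_assoc]) }
  have hT : T.map e.toMonoidHom = T := Subgroup.characteristic_iff_map_eq.1 hTc e
  rw [Subgroup.mem_normalizer_iff]
  intro x
  constructor
  · rintro ⟨s, hs, rfl⟩
    refine ⟨e s, ?_, rfl⟩
    rw [← hT]; exact ⟨s, hs, rfl⟩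
  · rintro ⟨s, hs, hsx⟩
    rw [← hT] at hs
    obtain ⟨t, ht, rfl⟩ := hs
    refine ⟨t, ht, ?_⟩
    have h2 : g * (t : G) * g⁻¹ = g * x * g⁻¹ := hsx
    exact mul_left_cancel (mul_right_cancel h2)

theorem aux [Fintype F] {p : ℕ} [Fact p.Prime] [CharP F p] (S : Sylow p ↥(Cfsg.qdOver F))
    (T : Subgroup ↥(S : Subgroup ↥(Cfsg.qdOver F))) (hT : T ≠ ⊥) (hTc : T.Characteristic) :
    Subgroup.normalizer ((T.map (S : Subgroup ↥(Cfsg.qdOver F)).subtype :
        Subgroup ↥(Cfsg.qdOver F)) : Set ↥(Cfsg.qdOver F)) =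
      Subgroup.normalizer ((S : Subgroup ↥(Cfsg.qdOver F)) : Set ↥(Cfsg.qdOver F)) ∧
    Subgroup.normalizer ((S : Subgroup ↥(Cfsg.qdOver F)) : Set ↥(Cfsg.qdOver F)) ≠ ⊤ := by
  classical
  obtain ⟨g, hg⟩ := MulAction.exists_smul_eq ↥(Cfsg.qdOver F) (unitriSylow (F := F) p) S
  have hS : (S : Subgroup ↥(Cfsg.qdOver F)) = (unitri F).map (MulAut.conj g).toMonoidHom := by
    rw [← hg, Sylow.coe_subgroup_smul, coe_unitriSylow]; rfl
  have hVn := trans_normal (F := F)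
  have hne : ¬ (S : Subgroup ↥(Cfsg.qdOver F)) ≤ Cfsg.Agent.Lib.LAEven54.QdOver.trans F := by
    intro h
    have h1 : mk (uM (1 : F)) 0 ∈ unitri F := mem_unitri_iff.2 ⟨_, _, rfl⟩
    have h2 : g * mk (uM (1 : F)) 0 * g⁻¹ ∈ (S : Subgroup ↥(Cfsg.qdOver F)) := by
      rw [hS]; exact ⟨_, h1, rfl⟩
    have h3 := hVn.conj_mem _ (h h2) g⁻¹
    obtain ⟨v, hv⟩ := mem_trans_iff.1 h3
    rw [show g⁻¹ * (g * mk (uM (1 : F)) 0 * g⁻¹) * g⁻¹⁻¹ = mk (uM (1 : F)) 0 by group] at hv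
    have := congrArg (fun A : Matrix.SpecialLinearGroup (Fin 2) F => A.1 0 1) (mk_inj hv).1
    simp [coe_uM] at this
  have hle_core : ∀ {N : Subgroup ↥(Cfsg.qdOver F)}, N.Normal → IsPGroup p ↥N →
      N ≤ Cfsg.Agent.Lib.LAEven54.QdOver.trans F := fun {N} h1 h2 => by
    rw [← pCore_eq p]; exact le_sSup ⟨h1, h2⟩
  refine ⟨le_antisymm ?_ (normalizer_le_of_char _ T hTc), ?_⟩
  · intro b hb
    by_contra hbS
    set T0 : Subgroup ↥(Cfsg.qdOver F) := T.map (S : Subgroup ↥(Cfsg.qdOver F)).subtype with hT0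
    -- pull back to the standard Sylow subgroup
    set c := (MulAut.conj g).toMonoidHom with hc
    have hnorm : ∀ x : ↥(Cfsg.qdOver F), x ∈ Subgroup.normalizer (T0 : Set ↥(Cfsg.qdOver F)) →
        g⁻¹ * x * g ∈ (Subgroup.normalizer (T0 : Set ↥(Cfsg.qdOver F))).comap c := fun x hx => by
      rw [Subgroup.mem_comap]
      show g * (g⁻¹ * x * g) * g⁻¹ ∈ _
      rwa [show g * (g⁻¹ * x * g) * g⁻¹ = x by group]
    have htop : (Subgroup.normalizer (T0 : Set ↥(Cfsg.qdOver F))).comap c = ⊤ := by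
      refine eq_top_of_unitri_le ?_ (hnorm b hb) ?_
      · intro u hu
        rw [Subgroup.mem_comap]
        apply normalizer_le_of_char _ T hTc
        apply Subgroup.le_normalizer
        rw [hS]; exact ⟨u, hu, rfl⟩
      · intro h
        apply hbS
        have h' := Subgroup.mem_map_of_mem c h
        rw [Subgroup.map_equiv_normalizer_eq, ← hS] at h'
        rwa [hc, show (MulAut.conj g).toMonoidHom (g⁻¹ * b * g) = b by
          show g * (g⁻¹ * b * g) * g⁻¹ = b; group] at h'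
    have htop' : Subgroup.normalizer (T0 : Set ↥(Cfsg.qdOver F)) = ⊤ := by
      rw [eq_top_iff]
      rintro x -
      have : g⁻¹ * x * g ∈ (Subgroup.normalizer (T0 : Set ↥(Cfsg.qdOver F))).comap c := by
        rw [htop]; trivial
      rw [Subgroup.mem_comap] at this
      rwa [hc, show (MulAut.conj g).toMonoidHom (g⁻¹ * x * g) = x by
        show g * (g⁻¹ * x * g) * g⁻¹ = x; group] at this
    have hT0n : T0.Normal := Subgroup.normalizer_eq_top_iff.mp htop'
    have hT0le : T0 ≤ Cfsg.Agent.Lib.LAEven54.QdOver.trans F :=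
      hle_core hT0n (S.2.to_le (Subgroup.map_subtype_le T))
    have hT0eq : T0 = Cfsg.Agent.Lib.LAEven54.QdOver.trans F := by
      refine le_antisymm hT0le ?_
      obtain ⟨z, hz, hz1⟩ := T.bot_or_exists_ne_one.resolve_left hT
      obtain ⟨v, hv⟩ := mem_trans_iff.1 (hT0le ⟨z, hz, rfl⟩)
      refine trans_le_of_normal hT0n (v := v) ?_ ?_
      · rw [← hv]; exact ⟨z, hz, rfl⟩
      intro h0
      apply hz1
      apply Subtype.ext
      rw [Subgroup.coe_one, one_eq, ← h0, ← hv]; rfl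
    -- an automorphism of `S` moving the translations
    let e0 : ↥(unitri F) ≃* ↥(S : Subgroup ↥(Cfsg.qdOver F)) :=
      ((MulAut.conj g).subgroupMap (unitri F)).trans (MulEquiv.subgroupCongr hS.symm)
    let e := (e0.symm.trans swapU).trans e0
    have he : T.map e.toMonoidHom = T := Subgroup.characteristic_iff_map_eq.1 hTc e
    let u : ↥(unitri F) := ⟨mk 1 ![0, 1], trans_le_unitri (mem_trans_iff.2 ⟨_, rfl⟩)⟩
    have hu : e0 u ∈ T := by
      have h1 : ((e0 u : ↥(S : Subgroup ↥(Cfsg.qdOver F))) : ↥(Cfsg.qdOver F)) ∈ T0 := by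
        rw [hT0eq]
        exact hVn.conj_mem _ (mem_trans_iff.2 ⟨_, rfl⟩) g
      obtain ⟨z, hz, hze⟩ := h1
      rwa [← Subtype.ext hze]
    have h2 : e0 (swapU u) ∈ T := by
      rw [← he]
      exact ⟨e0 u, hu, by simp [e]⟩
    have h3 : g * (swapU u : ↥(Cfsg.qdOver F)) * g⁻¹ ∈ T0 := ⟨e0 (swapU u), h2, rfl⟩
    rw [hT0eq] at h3
    have h4 := hVn.conj_mem _ h3 g⁻¹
    rw [show g⁻¹ * (g * (swapU u : ↥(Cfsg.qdOver F)) * g⁻¹) * g⁻¹⁻¹ = (swapU u : ↥(Cfsg.qdOver F))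
      by group] at h4
    obtain ⟨v, hv⟩ := mem_trans_iff.1 h4
    have h5 : swapFun (mk (uM (0 : F)) ![0, 1]) = mk 1 v := by
      rw [← hv]
      show swapFun _ = swapFun (mk 1 ![0, 1])
      congr 2
      apply sl2_ext <;> simp [coe_uM]
    rw [swapFun_mk] at h5
    have := congrArg (fun A : Matrix.SpecialLinearGroup (Fin 2) F => A.1 0 1) (mk_inj h5).1
    simp [coe_uM] at this
  · intro h
    exact hne (hle_core (Subgroup.normalizer_eq_top_iff.mp h) S.2)

/-- In the group Qd(p) (p prime; the natural semidirect product of an elementary abelian group of order p² by SL₂(p)), the normalizer of every nontrivial characteristic subgroup of a Sylow p-subgroup S equals the normalizer of S, which is a proper subgroup; in particular no such characteristic subgroup is normal. -/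
theorem result {p : ℕ} [Fact p.Prime] (S : Sylow p ↥(Cfsg.qd p)) (T : Subgroup ↥(S : Subgroup ↥(Cfsg.qd p))) (hT : T ≠ ⊥) (hTc : T.Characteristic) : Subgroup.normalizer ((T.map (S : Subgroup ↥(Cfsg.qd p)).subtype : Subgroup ↥(Cfsg.qd p)) : Set ↥(Cfsg.qd p)) = Subgroup.normalizer ((S : Subgroup ↥(Cfsg.qd p)) : Set ↥(Cfsg.qd p)) ∧ Subgroup.normalizer ((S : Subgroup ↥(Cfsg.qd p)) : Set ↥(Cfsg.qd p)) ≠ ⊤ := by
  exact aux (F := ZMod p) S T hT hTc

end Cfsg.Agent.S2763
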