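import Cfsg.Statements.S2766
import Cfsg.Agent.Lib.PushUpP.Qd
import Cfsg.Agent.Lib.PushUpP.Cases
import Cfsg.Agent.Lib.PushUpP.Exc
-- import your own Cfsg.Agent.* helpers here

set_option autoImplicit false
open Cfsg
open scoped commutatorElement

namespace Cfsg.Agent.S2766

/-- Let p ≥ 5 be prime and G a maximal p-local subgroup of a finite group H (G is the normalizer of a nontrivial p-subgroup and lies in no other such normalizer). Suppose C_G(O_p(G)) ≤ O_p(G), G/K ≅ PSL₂(p^n) for some normal K and n ≥ 1, a Sylow p-subgroup S of G lies in exactly one maximal subgroup of G, and N_H(S) is not contained in G. Then G = G₀ × E for subgroups G₀ ≅ Qd(p^n) (the natural semidirect product of the plane over the field with p^n elements by SL₂) and E an elementary abelian p-group. -/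
theorem result {H : Type*} [Group H] [Finite H] {p : ℕ} [Fact p.Prime] (hp : 5 ≤ p) (G : Subgroup H) (hloc : ∃ R : Subgroup H, IsPGroup p ↥R ∧ R ≠ ⊥ ∧ G = Subgroup.normalizer (R : Set H)) (hmax : ∀ R : Subgroup H, IsPGroup p ↥R → R ≠ ⊥ → G ≤ Subgroup.normalizer (R : Set H) → Subgroup.normalizer (R : Set H) = G) (S : Sylow p ↥G) (hE₁ : Subgroup.centralizer (Cfsg.pCore p ↥G : Set ↥G) ≤ Cfsg.pCore p ↥G) (hE₂ : ∃! M : Subgroup ↥G, IsCoatom M ∧ (S : Subgroup ↥G) ≤ M) (K : Subgroup ↥G) [K.Normal] (F : Type) [Field F] [Fintype F] (n : ℕ) (hn : 1 ≤ n) (hF : Fintype.card F = p ^ n) (hE₃ : Nonempty (↥G ⧸ K ≃* Matrix.ProjectiveSpecialLinearGroup (Fin 2) F)) (hN : ¬ Subgroup.normalizer (((S : Subgroup ↥G).map G.subtype : Subgroup H) : Set H) ≤ G) : ∃ G₀ E : Subgroup H, Cfsg.IsInternalDirectProduct G₀ E G ∧ Cfsg.IsElementaryAbelian p E ∧ Nonempty (↥G₀ ≃* ↥(Cfsg.qdOver F)) := by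
  obtain ⟨c, rfl, -⟩ := Lib.PushUpP.exists_sit S hE₁ hE₂ K n hn hF hE₃
  have hp : 5 ≤ p := hp
  -- a subgroup of `S` invariant under `G` and `N_H(S)` is trivial
  have hcore : ∀ C : Subgroup ↥G, C.Normal → C ≤ c.TT →
      (∀ m ∈ Subgroup.normalizer ((c.TT.map G.subtype : Subgroup H) : Set H), ∀ a ∈ C,
        m * G.subtype a * m⁻¹ ∈ C.map G.subtype) → C = ⊥ := by
    intro C hC hle hinv
    by_contra hne
    refine hN fun m hm => ?_
    have hne' : C.map G.subtype ≠ ⊥ := fun h =>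
      hne ((Subgroup.map_eq_bot_iff_of_injective C G.subtype_injective).1 h)
    have hpC : IsPGroup p ↥(C.map G.subtype) :=
      (c.S.isPGroup'.to_le hle).map G.subtype
    have hGle : G ≤ Subgroup.normalizer ((C.map G.subtype : Subgroup H) : Set H) := by
      intro g hg
      rw [← Lib.PushUpP.cj_eq_iff]
      refine Subgroup.eq_of_le_of_card_ge ?_ (Lib.PushUpP.card_cj _ _).ge
      rintro _ ⟨_, ⟨a, ha, rfl⟩, rfl⟩
      exact ⟨⟨g, hg⟩ * a * ⟨g, hg⟩⁻¹, hC.conj_mem a ha _, rfl⟩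
    rw [← hmax _ hpC hne' hGle, ← Lib.PushUpP.cj_eq_iff]
    refine Subgroup.eq_of_le_of_card_ge ?_ (Lib.PushUpP.card_cj _ _).ge
    rintro _ ⟨_, ⟨a, ha, rfl⟩, rfl⟩
    exact hinv m hm a ha
  have hd : c.NoChar := by
    intro T hne hT hnorm
    haveI := hnorm
    refine hne ((Subgroup.map_eq_bot_iff_of_injective T c.TT.subtype_injective).1 ?_)
    refine hcore _ hnorm (Subgroup.map_subtype_le T) fun m hm a ha => ?_
    obtain ⟨s, hs, rfl⟩ := ha
    have hex : ∀ x : ↥c.TT, ∃ y : ↥c.TT, G.subtype (y : ↥G) = m * G.subtype (x : ↥G) * m⁻¹ := fun x => by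
      obtain ⟨y, hy, e⟩ := (Subgroup.mem_normalizer_iff.1 hm (G.subtype (x : ↥G))).1 ⟨x, x.2, rfl⟩
      exact ⟨⟨y, hy⟩, e⟩
    choose f hf using hex
    let e : ↥c.TT →* ↥c.TT := MonoidHom.mk' f fun x y => Subtype.ext (G.subtype_injective (by
      rw [hf, Subgroup.coe_mul, Subgroup.coe_mul, map_mul, map_mul, hf, hf]; group))
    have hinj : Function.Injective e := fun x y h => by
      have h1 : m * G.subtype (x : ↥G) * m⁻¹ = m * G.subtype (y : ↥G) * m⁻¹ := by
        rw [← hf x, ← hf y, show f x = f y from h]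
      exact Subtype.ext (G.subtype_injective (mul_left_cancel (mul_right_cancel h1)))
    let φ : ↥c.TT ≃* ↥c.TT := MulEquiv.ofBijective e (Finite.injective_iff_bijective.1 hinj)
    have h2 := Subgroup.characteristic_iff_le_comap.1 hT φ hs
    exact ⟨(φ s : ↥c.TT), ⟨φ s, h2, rfl⟩, hf s⟩
  let o : c.Over H := ⟨G.subtype, G.subtype_injective, hcore⟩
  have hg : c.Good := Lib.PushUpP.Sit.NoChar.good hd
  by_cases hex : ∃ m ∈ (o.toFam hg).N, ¬ Lib.PushUpP.cj m (c.V.map o.ι) ≤ (Cfsg.pCore p ↥G).map o.ι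
  swap
  · push Not at hex
    obtain ⟨hp2, φ, T⟩ := Lib.PushUpP.Sit.exists_two hg o hex
    have := Lib.PushUpP.Sit.Two.eq_three hg hg T hp2
    omega
  obtain ⟨m, hm, hnot⟩ := hex
  obtain ⟨U, D₀, hone, hD₀⟩ := Lib.PushUpP.Sit.exists_one hg hg o.inj o.inj rfl hm hnot
  -- `[Q, Q]` is invariant under `m`
  have hab : ∀ a ∈ Cfsg.pCore p ↥G, ∀ b ∈ Cfsg.pCore p ↥G, a * b = b * a := by
    set C := ⁅Cfsg.pCore p ↥G, Cfsg.pCore p ↥G⁆ with hCdef
    suffices h : C = ⊥ by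
      intro a ha b hb
      refine commutatorElement_eq_one_iff_mul_comm.1 (Subgroup.mem_bot.1 ?_)
      rw [← h]
      exact Subgroup.commutator_mem_commutator ha hb
    have hCD : C ≤ ⁅D₀, D₀⁆ := by
      refine Subgroup.commutator_le.2 fun a ha b hb => ?_
      have h1 := hone.cover ha
      have h2 := hone.cover hb
      rw [← SetLike.mem_coe, Subgroup.mul_normal] at h1 h2
      obtain ⟨d, hd', v, hv, rfl⟩ := h1
      obtain ⟨d', hd'', v', hv', rfl⟩ := h2
      have e1 : ⁅v, d' * v'⁆ = 1 := commutatorElement_eq_one_iff_mul_comm.2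
        (c.Q_cent (mul_mem (hone.D_le hd'') (c.V_le_Q hv')) hv).symm
      have e2 : ⁅d, v'⁆ = 1 := commutatorElement_eq_one_iff_mul_comm.2 (c.Q_cent (hone.D_le hd') hv')
      show ⁅d * v, d' * v'⁆ ∈ _
      rw [show ⁅d * v, d' * v'⁆ = d * ⁅v, d' * v'⁆ * d⁻¹ * (⁅d, d'⁆ * (d' * ⁅d, v'⁆ * d'⁻¹)) by
        simp only [commutatorElement_def]; group, e1, e2, mul_one, mul_inv_cancel, one_mul, mul_one,
        mul_inv_cancel, mul_one]
      exact Subgroup.commutator_mem_commutator hd' hd''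
    have hle : C.map G.subtype ≤ Lib.PushUpP.cj m (C.map G.subtype) := by
      refine (Subgroup.map_mono hCD).trans ?_
      rw [Subgroup.map_commutator, hCdef, Subgroup.map_commutator, Lib.PushUpP.cj, Subgroup.map_commutator]
      exact Subgroup.commutator_mono hD₀ hD₀
    have heq : Lib.PushUpP.cj m (C.map G.subtype) = C.map G.subtype :=
      (Subgroup.eq_of_le_of_card_ge hle (Lib.PushUpP.card_cj _ _).le).symm
    by_contra hne
    have hne' : C.map G.subtype ≠ ⊥ := fun h =>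
      hne ((Subgroup.map_eq_bot_iff_of_injective C G.subtype_injective).1 h)
    have hCS : C ≤ c.TT := (Subgroup.commutator_le_left _ _).trans c.Q_le_S
    haveI : C.Normal := hCdef ▸ inferInstance
    have hGle : G ≤ Subgroup.normalizer ((C.map G.subtype : Subgroup H) : Set H) := by
      intro g hg
      rw [← Lib.PushUpP.cj_eq_iff]
      refine Subgroup.eq_of_le_of_card_ge ?_ (Lib.PushUpP.card_cj _ _).ge
      rintro _ ⟨_, ⟨a, ha, rfl⟩, rfl⟩
      exact ⟨⟨g, hg⟩ * a * ⟨g, hg⟩⁻¹, (inferInstance : C.Normal).conj_mem a ha _, rfl⟩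
    have hmG : m ∈ G := by
      rw [← hmax _ ((c.S.isPGroup'.to_le hCS).map G.subtype) hne' hGle]
      exact Lib.PushUpP.cj_eq_iff.1 heq
    refine hnot ?_
    show Lib.PushUpP.cj m (c.toData hg o.ι o.inj).V ≤ (c.toData hg o.ι o.inj).Q
    rw [(c.toData hg o.ι o.inj).cj_V (show m ∈ (c.toData hg o.ι o.inj).X from ⟨⟨m, hmG⟩, rfl⟩)]
    exact (c.toData hg o.ι o.inj).V_le_Q
  obtain ⟨E, hdp, hE, ⟨e⟩⟩ := Lib.PushUpP.Sit.exists_qd hd hp hone hab
  obtain ⟨-, -, hcomm, hinf, hsup⟩ := hdp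
  refine ⟨(commutator ↥G).map G.subtype, E.map G.subtype,
    ⟨Subgroup.map_subtype_le _, Subgroup.map_subtype_le _, ?_, ?_, ?_⟩, ⟨⟨⟨?_⟩⟩, ?_⟩,
    ⟨((commutator ↥G).equivMapOfInjective _ G.subtype_injective).symm.trans e⟩⟩
  · rintro _ ⟨a, ha, rfl⟩ _ ⟨b, hb, rfl⟩
    rw [← map_mul, ← map_mul, hcomm a ha b hb]
  · rw [← Subgroup.map_inf _ _ _ G.subtype_injective, hinf, Subgroup.map_bot]
  · rw [← Subgroup.map_sup, hsup, ← MonoidHom.range_eq_map, Subgroup.range_subtype]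
  · rintro ⟨_, a, ha, rfl⟩ ⟨_, b, hb, rfl⟩
    apply Subtype.ext
    show G.subtype a * G.subtype b = G.subtype b * G.subtype a
    have h3 : a * b = b * a := congrArg Subtype.val (hE.1.is_comm.comm (⟨a, ha⟩ : ↥E) ⟨b, hb⟩)
    rw [← map_mul, ← map_mul, h3]
  · rintro _ ⟨a, ha, rfl⟩
    rw [← map_pow, hE.2 a ha, map_one]

end Cfsg.Agent.S2766
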