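import Cfsg.Statements.S2772
import Cfsg.Agent.Lib.PushUp2.Sims
import Cfsg.Agent.Lib.PushUp2.Dihedral
-- import your own Cfsg.Agent.* helpers here

set_option autoImplicit false
open Cfsg

namespace Cfsg.Agent.S2772

open scoped commutatorElement
open Cfsg.Agent.Lib Cfsg.Agent.Lib.PushUp2

/-- `DihedralGroup 3` is isomorphic to `SL₂(2)`. -/
theorem dihedral_three_iso :
    Nonempty (DihedralGroup 3 ≃* Matrix.SpecialLinearGroup (Fin 2) (ZMod 2)) := by
  let M : Fin 3 → Matrix.SpecialLinearGroup (Fin 2) (ZMod 2) :=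
    ![1, ⟨!![0, 1; 1, 1], by decide⟩, ⟨!![1, 1; 1, 0], by decide⟩]
  let s : Matrix.SpecialLinearGroup (Fin 2) (ZMod 2) := ⟨!![0, 1; 1, 0], by decide⟩
  let f : DihedralGroup 3 → Matrix.SpecialLinearGroup (Fin 2) (ZMod 2) := fun x =>
    match x with
    | .r i => M i
    | .sr i => s * M i
  have hmul : ∀ x y, f (x * y) = f x * f y := by decide +kernel
  have hinj : Function.Injective f := by decide +kernel
  refine ⟨MulEquiv.ofBijective (MonoidHom.mk' f hmul)
    ((Nat.bijective_iff_injective_and_card _).2 ⟨hinj, ?_⟩)⟩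
  rw [DihedralGroup.nat_card, Linear.card_SL_two]
  simp

section

variable {H : Type*} [Group H] [Finite H]

/-- The consequences of the pushing up data inside a simple group. -/
theorem local_facts [IsSimpleGroup H] (hna : ¬ IsMulCommutative H) (G : Subgroup H) (hG : IsCoatom G)
    (c : Ctx ↥G (ZMod 2)) (hn1 : c.n = 1) {m : H}
    (hm : m ∈ Subgroup.normalizer ((c.TT.map G.subtype : Subgroup H) : Set H)) (hmG : m ∉ G) :
    Cfsg.pCore 2 ↥G = c.V ∧ Nat.card ↥c.K ≤ 2 := by
  haveI : Fact (Nat.Prime 2) := ⟨Nat.prime_two⟩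
  set TH := c.TT.map G.subtype with hTH
  have hTG : TH ≤ G := Subgroup.map_subtype_le _
  have hnorm_top : ∀ (W : Subgroup H) (g : H), g ∉ G → G ≤ Subgroup.normalizer (W : Set H) →
      g ∈ Subgroup.normalizer (W : Set H) → W.Normal := fun W g hgG hle hg =>
    Subgroup.normalizer_eq_top_iff.1 (hG.2 _ (lt_of_le_of_ne hle fun h => hgG (h ▸ hg)))
  have hbot : ∀ W : Subgroup H, W.Normal → W ≤ G → W = ⊥ := fun W hW hWG =>
    (IsSimpleGroup.eq_bot_or_eq_top_of_normal W hW).resolve_right fun h =>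
      hG.1 (top_le_iff.1 (h ▸ hWG))
  have hinvN : ∀ (g : H) (W : Subgroup H), cj g W ≤ W → g ∈ Subgroup.normalizer (W : Set H) :=
    fun g W h => by
      have he : cj g W = W := Subgroup.eq_of_le_of_card_ge h
        (le_of_eq (Nat.card_congr (Subgroup.equivMapOfInjective W _ (MulAut.conj g).injective).toEquiv))
      refine Subgroup.mem_normalizer_iff.2 fun a => ⟨fun ha => h (conj_mem_cj ha), fun ha => ?_⟩
      rw [← he] at ha
      simpa [mul_assoc] using mem_cj.1 ha
  set D := c.toDataOf G.subtype G.subtype_injective (fun C hC hX hN => hbot C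
    (hnorm_top C m hmG
      (le_normalizer_of fun x hx a ha => hX x (by rw [Subgroup.range_subtype]; exact hx) a ha)
      (hinvN m C fun a ha => by simpa [mul_assoc] using hN m hm _ (mem_cj.1 ha)))
    (hC.trans hTG))
  obtain ⟨n, hn, hnot⟩ := Data.exists_not_le D
  have hDX : D.X = G := Subgroup.range_subtype _
  have hnG : n ∉ G := fun h => hnot (by rw [D.cj_V (hDX ▸ h)]; exact D.V_le_Q)
  have hnT := D.cj_T hn
  obtain ⟨a, haU, haQ⟩ := SetLike.not_le_iff_exists.1 hnot
  have haT : a ∈ D.T := hnT ▸ cj_mono n (D.V_le_Q.trans D.Q_le_T) haU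
  have ha2 : a * a = 1 := Data.V_sq' haU
  have hrel : D.Q.relIndex D.T = 2 := by
    show ((Cfsg.pCore 2 ↥G).map G.subtype).relIndex (c.TT.map G.subtype) = 2
    rw [Subgroup.relIndex_map_map_of_injective _ _ G.subtype_injective, c.relIndex_QT, hn1, pow_one]
  have hsplit : ∀ t ∈ D.T, t ∈ D.Q ∨ t * a ∈ D.Q := fun t ht => by
    by_cases htQ : t ∈ D.Q
    · exact Or.inl htQ
    · exact Or.inr ((Subgroup.mul_mem_iff_of_index_two hrel
        (a := (⟨t, ht⟩ : ↥D.T)) (b := ⟨a, haT⟩)).2 ⟨fun h => absurd h htQ, fun h => absurd h haQ⟩)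
  -- squares of `Q`
  set S₂ := Subgroup.closure ((fun x => x * x) '' (D.Q : Set H)) with hS₂
  have hS₂G : ∀ g ∈ G, ∀ b ∈ S₂, g * b * g⁻¹ ∈ S₂ := fun g hg => by
    have h : cj g S₂ ≤ S₂ := by
      rw [cj, hS₂, MonoidHom.map_closure, Subgroup.closure_le]
      rintro _ ⟨_, ⟨x, hx, rfl⟩, rfl⟩
      refine Subgroup.subset_closure ⟨g * x * g⁻¹, D.Q_norm g (hDX.symm ▸ hg) x hx, ?_⟩
      simp [mul_assoc]
    exact fun b hb => h (conj_mem_cj hb)
  have hS₂n : cj n S₂ ≤ S₂ := by
    rw [cj, hS₂, MonoidHom.map_closure, Subgroup.closure_le]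
    rintro _ ⟨_, ⟨x, hx, rfl⟩, rfl⟩
    have hy : n * x * n⁻¹ ∈ cj n D.Q := conj_mem_cj hx
    have hyT : n * x * n⁻¹ ∈ D.T := hnT ▸ cj_mono n D.Q_le_T hy
    have hya : Commute (n * x * n⁻¹) a := Data.Q_cent' hy haU
    have he : (MulAut.conj n).toMonoidHom (x * x) = n * x * n⁻¹ * (n * x * n⁻¹) := by
      simp [mul_assoc]
    rw [SetLike.mem_coe]
    show (MulAut.conj n).toMonoidHom (x * x) ∈ _
    rw [he]
    rcases hsplit _ hyT with h | h
    · exact Subgroup.subset_closure ⟨_, h, rfl⟩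
    · refine Subgroup.subset_closure ⟨_, h, ?_⟩
      show n * x * n⁻¹ * a * (n * x * n⁻¹ * a) = _
      rw [mul_assoc, ← mul_assoc a, ← hya.eq, mul_assoc (n * x * n⁻¹) a, ha2, mul_one]
  have hQsq : ∀ x ∈ D.Q, x * x = 1 := by
    intro x hx
    have hS₂G' : S₂ ≤ G := by
      rw [hS₂, Subgroup.closure_le]
      rintro _ ⟨y, hy, rfl⟩
      exact G.mul_mem (hTG (D.Q_le_T hy)) (hTG (D.Q_le_T hy))
    have h := hbot S₂ (hnorm_top S₂ n hnG (le_normalizer_of hS₂G) (hinvN n S₂ hS₂n)) hS₂G'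
    exact Subgroup.mem_bot.1 (h ▸ Subgroup.subset_closure ⟨x, hx, rfl⟩)
  have hQab : ∀ x ∈ D.Q, ∀ y ∈ D.Q, x * y = y * x := fun x hx y hy => by
    have h := inv_eq_of_mul_eq_one_left (hQsq _ (mul_mem hx hy))
    rw [_root_.mul_inv_rev, inv_eq_of_mul_eq_one_left (hQsq x hx),
      inv_eq_of_mul_eq_one_left (hQsq y hy)] at h
    exact h.symm
  -- `Q ∩ nQn⁻¹ ≤ Z`
  have hQQ : cj n D.Q ⊓ D.Q ≤ D.Z := fun x hx => (D.mem_Z x).2 ⟨D.Q_le_T hx.2, hQsq x hx.2, by
    intro t ht
    have hxa : Commute x a := Data.Q_cent' hx.1 haU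
    rcases hsplit t ht with h | h
    · exact hQab t h x hx.2
    · have h1 : Commute (t * a) x := hQab _ h x hx.2
      have := h1.mul_left hxa.symm
      rw [mul_assoc, ha2, mul_one] at this
      exact this.eq⟩
  have hrelQ : (cj n D.Q).relIndex D.Q ≤ 2 := by
    refine (Subgroup.relIndex_le_of_le_right D.Q_le_T Subgroup.index_ne_zero_of_finite).trans
      (le_of_eq ?_)
    rw [← hrel]
    conv_lhs => arg 2; rw [← hnT]
    exact Subgroup.relIndex_map_map_of_injective (f := (MulAut.conj n).toMonoidHom) _ _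
      (MulAut.conj n).injective
  have hZQ : D.Z.relIndex D.Q ≤ 2 := by
    refine le_trans ?_ hrelQ
    rw [← Subgroup.inf_relIndex_right (cj n D.Q) D.Q]
    exact Subgroup.relIndex_le_of_le_left hQQ Subgroup.index_ne_zero_of_finite
  have hQV : Cfsg.pCore 2 ↥G = c.V := by
    refine le_antisymm (Subgroup.relIndex_eq_one.1 ?_) c.V_le_Q
    have h := Subgroup.relIndex_mul_relIndex c.Z c.V (Cfsg.pCore 2 ↥G) c.Z_le_V c.V_le_Q
    rw [c.relIndex_ZV, hn1, pow_one] at h
    have h2 : c.Z.relIndex (Cfsg.pCore 2 ↥G) ≤ 2 := by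
      rw [← Subgroup.relIndex_map_map_of_injective _ _ G.subtype_injective]
      exact hZQ
    have h0 : c.V.relIndex (Cfsg.pCore 2 ↥G) ≠ 0 := Subgroup.index_ne_zero_of_finite
    omega
  refine ⟨hQV, ?_⟩
  -- `K ∩ nKn⁻¹ = 1`
  have hKK : cj n D.K ⊓ D.K = ⊥ := by
    refine le_bot_iff.1 fun k hk => Subgroup.mem_bot.2 ?_
    have h1 : ∀ x ∈ G, x * k = k * x := fun x hx =>
      (D.mem_K k (D.Z_le_V (D.K_le_Z hk.2))).1 hk.2 x (hDX.symm ▸ hx)
    have h2 : ∀ x ∈ G, n * x * n⁻¹ * k = k * (n * x * n⁻¹) := fun x hx => by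
      have h := mem_cj.1 hk.1
      have h' := (D.mem_K _ (D.Z_le_V (D.K_le_Z h))).1 h x (hDX.symm ▸ hx)
      calc n * x * n⁻¹ * k = n * (x * (n⁻¹ * k * n)) * n⁻¹ := by group
        _ = n * (n⁻¹ * k * n * x) * n⁻¹ := by rw [h']
        _ = k * (n * x * n⁻¹) := by group
    have hle : G ≤ Subgroup.centralizer ({k} : Set H) := fun x hx =>
      Subgroup.mem_centralizer_singleton_iff.2 (h1 x hx)
    have htop : Subgroup.centralizer ({k} : Set H) = ⊤ := by
      refine hG.2 _ (lt_of_le_of_ne hle fun he => ?_)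
      have hnN : cj n G ≤ G := by
        intro b hb
        have := h2 _ (mem_cj.1 hb)
        rw [show n * (n⁻¹ * b * n) * n⁻¹ = b by group] at this
        rw [he]
        exact Subgroup.mem_centralizer_singleton_iff.2 this
      have hGn := hnorm_top G n hnG Subgroup.le_normalizer (hinvN n G hnN)
      have hG0 := hbot G hGn le_rfl
      have h1 : TH = ⊥ := le_bot_iff.1 (hG0 ▸ hTG)
      exact c.T_ne ((Subgroup.map_eq_bot_iff_of_injective _ G.subtype_injective).1 h1)
    have hk : k ∈ Subgroup.center H := Subgroup.mem_center_iff.2 fun x =>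
      Subgroup.mem_centralizer_singleton_iff.1 (htop ▸ Subgroup.mem_top x)
    have hc : Subgroup.center H = ⊥ :=
      (IsSimpleGroup.eq_bot_or_eq_top_of_normal (Subgroup.center H) inferInstance).resolve_right
        fun h => hna ⟨⟨fun x y =>
          Subgroup.mem_center_iff.1 (h ▸ Subgroup.mem_top y : y ∈ Subgroup.center H) x⟩⟩
    rwa [hc, Subgroup.mem_bot] at hk
  calc Nat.card ↥c.K = Nat.card ↥D.K :=
        Nat.card_congr (Subgroup.equivMapOfInjective _ _ G.subtype_injective).toEquiv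
    _ = (cj n D.K).relIndex D.K := by
        rw [← Subgroup.inf_relIndex_right, hKK, Subgroup.relIndex_bot_left]
    _ ≤ (cj n D.K).relIndex D.Z :=
        Subgroup.relIndex_le_of_le_right D.K_le_Z Subgroup.index_ne_zero_of_finite
    _ = (cj n D.K).relIndex (cj n D.Z) := by rw [D.cj_Z hn]
    _ = D.K.relIndex D.Z :=
        Subgroup.relIndex_map_map_of_injective _ _ (MulAut.conj n).injective
    _ = 2 := by
        show (c.K.map G.subtype).relIndex (c.Z.map G.subtype) = 2
        rw [Subgroup.relIndex_map_map_of_injective _ _ G.subtype_injective, c.relIndex_KZ_two hn1]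

end


/-- Sims' Theorem in local form: let H be a finite non-abelian simple group and G a maximal subgroup of H with C_G(O₂(G)) ≤ O₂(G), such that N_H(S) is not contained in G for a Sylow 2-subgroup S of G and G/O₂(G) is dihedral of order 2q for a prime q. Then G is isomorphic to the symmetric group of degree 4 or to its direct product with a group of order 2. -/
theorem result {H : Type*} [Group H] [Finite H] [IsSimpleGroup H] (hna : ¬ IsMulCommutative H) (G : Subgroup H) (hG : IsCoatom G) (hchar : Subgroup.centralizer (Cfsg.pCore 2 ↥G : Set ↥G) ≤ Cfsg.pCore 2 ↥G) (S : Sylow 2 ↥G) (hN : ¬ Subgroup.normalizer (((S : Subgroup ↥G).map G.subtype : Subgroup H) : Set H) ≤ G) (q : ℕ) (hq : q.Prime) (hD : Nonempty (↥G ⧸ Cfsg.pCore 2 ↥G ≃* DihedralGroup q)) : Nonempty (↥G ≃* Equiv.Perm (Fin 4)) ∨ Nonempty (↥G ≃* Equiv.Perm (Fin 4) × Multiplicative (ZMod 2)) := by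
  haveI : Fact (Nat.Prime 2) := ⟨Nat.prime_two⟩
  obtain ⟨e⟩ := hD
  obtain ⟨m, hm, hmG⟩ := SetLike.not_le_iff_exists.1 hN
  set TT := (S : Subgroup ↥G) with hTT
  have hT : ∀ C : Subgroup ↥TT, C.Characteristic → C ≠ ⊥ → ¬ ((C.map TT.subtype).Normal) := by
    intro C hC hne hCn
    set C' := (C.map TT.subtype).map G.subtype with hC'
    have hle : G ≤ Subgroup.normalizer (C' : Set H) := le_normalizer_of fun x hx a ha => by
      obtain ⟨b, hb, rfl⟩ := ha
      exact ⟨⟨x, hx⟩ * b * ⟨x, hx⟩⁻¹, hCn.conj_mem b hb _, by simp⟩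
    have hmC : ∀ g ∈ Subgroup.normalizer ((TT.map G.subtype : Subgroup H) : Set H), ∀ a ∈ C',
        g * a * g⁻¹ ∈ C' := by
      intro g hg a ha
      let ι : ↥TT →* H := G.subtype.comp TT.subtype
      have hι : Function.Injective ι := G.subtype_injective.comp TT.subtype_injective
      have hrange : ι.range = TT.map G.subtype := by
        rw [MonoidHom.range_comp, Subgroup.range_subtype]
      let E : ↥TT ≃* ↥(TT.map G.subtype) :=
        (MonoidHom.ofInjective hι).trans (MulEquiv.subgroupCongr hrange)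
      let φ : ↥(TT.map G.subtype) ≃* ↥(TT.map G.subtype) :=
        { toFun := fun b => ⟨g * b * g⁻¹, (Subgroup.mem_normalizer_iff.1 hg _).1 b.2⟩
          invFun := fun b => ⟨g⁻¹ * b * g, (Subgroup.mem_normalizer_iff''.1 hg _).1 b.2⟩
          left_inv := fun b => Subtype.ext (by simp [mul_assoc])
          right_inv := fun b => Subtype.ext (by simp [mul_assoc])
          map_mul' := fun b b' => Subtype.ext (by simp [mul_assoc]) }
      obtain ⟨b, ⟨d, hd, rfl⟩, rfl⟩ := ha
      have h := Subgroup.characteristic_iff_le_comap.1 hC (E.trans (φ.trans E.symm)) hd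
      refine ⟨_, ⟨_, h, rfl⟩, ?_⟩
      show ι (E.symm (φ (E d))) = g * ι d * g⁻¹
      have h1 : ∀ u, (E u : H) = ι u := fun u => rfl
      rw [← h1, E.apply_symm_apply, ← h1]
      rfl
    have hnorm : C'.Normal := Subgroup.normalizer_eq_top_iff.1
      (hG.2 _ (lt_of_le_of_ne hle fun h => hmG (h ▸ Subgroup.mem_normalizer_iff.2 fun a =>
        ⟨hmC m hm a, fun ha => by
          simpa [mul_assoc] using hmC m⁻¹ (inv_mem hm) _ ha⟩)))
    have hC'G : C' ≤ G := Subgroup.map_subtype_le _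
    have hbot : C' = ⊥ := (IsSimpleGroup.eq_bot_or_eq_top_of_normal C' hnorm).resolve_right
      fun h => hG.1 (top_le_iff.1 (h ▸ hC'G))
    refine hne ?_
    exact (Subgroup.map_eq_bot_iff_of_injective _ TT.subtype_injective).1
      ((Subgroup.map_eq_bot_iff_of_injective _ G.subtype_injective).1 hbot)
  obtain rfl := eq_three hchar S hT hq e
  haveI : CharP (ZMod 2) 2 := ZMod.charP 2
  obtain ⟨f⟩ := dihedral_three_iso
  obtain ⟨e₁, he₁⟩ := SL2Module.exists_iso_up ⟨e.trans f⟩
    (S.mapSurjective (QuotientGroup.mk'_surjective (Cfsg.pCore 2 ↥G)))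
  rw [Sylow.coe_mapSurjective] at he₁
  let c : Ctx ↥G (ZMod 2) :=
    { T := S, hX := hchar, hT := hT, n := 1, hn := le_rfl, hF := by simp, e := e₁, hS := he₁ }
  obtain ⟨hQV, hK⟩ := local_facts hna G hG c rfl hm hmG
  exact c.shape rfl hQV hK

end Cfsg.Agent.S2772
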