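import Cfsg.Statements.S2773
import Cfsg.Agent.S2981
import Cfsg.Agent.Lib.CharTransfer57.TwoNormalizers

set_option autoImplicit false
universe u
open Cfsg

namespace Cfsg.Agent.S2773

/-- For every nontrivial finite 3-group S there is a nontrivial characteristic subgroup K of S such that, in every finite group G containing S as a Sylow 3-subgroup, S ∩ G' is the product of S ∩ (C_G(Z(S)))' and S ∩ (N_G(K))' (derived subgroups; product taken elementwise). -/
theorem result {S : Type u} [Group S] [Finite S] [Nontrivial S] (hS : IsPGroup 3 S) : ∃ K : Subgroup S, K ≠ ⊥ ∧ K.Characteristic ∧ ∀ (G : Type u) [Group G] [Finite G] (τ : S →* G), Function.Injective τ → (∃ P : Sylow 3 G, (P : Subgroup G) = τ.range) → ∀ g : G, g ∈ τ.range ⊓ commutator G ↔ ∃ a ∈ τ.range ⊓ ⁅Subgroup.centralizer ((τ.range ⊓ Subgroup.centralizer (τ.range : Set G) : Subgroup G) : Set G), Subgroup.centralizer ((τ.range ⊓ Subgroup.centralizer (τ.range : Set G) : Subgroup G) : Set G)⁆, ∃ b ∈ τ.range ⊓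 ⁅Subgroup.normalizer ((K.map τ : Subgroup G) : Set G), Subgroup.normalizer ((K.map τ : Subgroup G) : Set G)⁆, g = a * b := by
  haveI : Fact (Nat.Prime 3) := ⟨Nat.prime_three⟩
  have hp2 : (3 : ℕ) ≠ 2 := by norm_num
  have hF := Lib.CharTransfer57.isCharPFunctor_Kfun.{u} (p := 3) hp2
  refine ⟨Lib.CharTransfer57.Kfun 3 S, hF.1 S hS inferInstance,
    Subgroup.characteristic_iff_map_eq.2 fun φ => hF.2 S S hS φ, fun G _ _ τ hτ hP g => ?_⟩
  obtain ⟨P, hP⟩ := hP
  have hCS : Lib.CharTransfer57.CStarHyp.{u} 3 := fun X _ _ c => by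
    obtain ⟨r, E, -, -, hsup, -, -, hconj, hgen, hcomm, hall⟩ :=
      Cfsg.Agent.S2981.result c.isPMinimal c.hcon c.S c.cStarStar_ne_top
    refine ⟨r, E, hsup, hconj, hgen, hcomm, fun i => ?_⟩
    obtain ⟨n, -, ⟨F, hF, hFt, hcard, -, hact⟩ | ⟨h2, -⟩⟩ := hall i
    · exact ⟨F, hF, hFt, n, hcard, hact⟩
    · exact absurd h2 hp2
  have hK : inducedFunctor (Lib.CharTransfer57.Kfun 3) (P : Subgroup G) = (Lib.CharTransfer57.Kfun 3 S).map τ := by
    rw [inducedFunctor, Lib.CharTransfer57.map_Kfun' _ (P : Subgroup G).subtype_injective (Subgroup.range_subtype _),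
      Lib.CharTransfer57.map_Kfun' τ hτ hP.symm]
  have h := Lib.CharTransfer57.inf_commutator_eq_two hCS hp2 P
  rw [hK, hP] at h
  rw [h, ← SetLike.mem_coe, Subgroup.coe_mul_of_left_le_normalizer_right _ _ ?_, Set.mem_mul]
  · simp only [SetLike.mem_coe, eq_comm (a := g)]
  intro x hx
  have hx' : x ∈ τ.range := hx.1
  have hN : τ.range ≤ Subgroup.normalizer (((Lib.CharTransfer57.Kfun 3 S).map τ : Subgroup G) : Set G) := by
    rintro _ ⟨s, rfl⟩
    refine Subgroup.mem_normalizer_iff_map_conj_eq.2 ?_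
    have hc := hF.2 S S hS (MulAut.conj s)
    rw [Subgroup.map_map, show MonoidHom.comp (↑(MulAut.conj (τ s)) : G →* G) τ = τ.comp (MulAut.conj s).toMonoidHom from
      MonoidHom.ext fun a => by simp, ← Subgroup.map_map, hc]
  refine Subgroup.mem_normalizer_iff_map_conj_eq.2 ?_
  have key : ∀ H : Subgroup G, x ∈ Subgroup.normalizer (H : Set G) →
      H.map (↑(MulAut.conj x) : G →* G) = H := fun H h => Subgroup.mem_normalizer_iff_map_conj_eq.1 h
  rw [Subgroup.map_inf _ _ _ (MulAut.conj x).injective, Subgroup.map_commutator, key _ (Subgroup.le_normalizer hx'),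
    key _ (Subgroup.le_normalizer (hN hx'))]

end Cfsg.Agent.S2773
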