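import Cfsg.Statements.S2774
import Cfsg.Agent.S2981
import Cfsg.Agent.Lib.CharTransfer57.Final

set_option autoImplicit false
open Cfsg

namespace Cfsg.Agent.S2774

/-- Let p be an odd prime and S a nontrivial Sylow p-subgroup of a finite group G. Then S ∩ G' is generated by the subgroups S ∩ (N_G(K))' as K ranges over the nontrivial characteristic subgroups of S (derived subgroups of the normalizers). -/
theorem result {G : Type*} [Group G] [Finite G] {p : ℕ} [Fact p.Prime] (hp : p ≠ 2) (S : Sylow p G) (hS : (S : Subgroup G) ≠ ⊥) : (S : Subgroup G) ⊓ commutator G = ⨆ K : {K : Subgroup ↥(S : Subgroup G) // K ≠ ⊥ ∧ K.Characteristic}, (S : Subgroup G) ⊓ ⁅Subgroup.normalizer ((((K : Subgroup ↥(S : Subgroup G))).map (S : Subgroup G).subtype : Subgroup G) : Set G), Subgroup.normalizer ((((K : Subgroup ↥(S : Subgroup G))).map (S : Subgroup G).subtype : Subgroup G) : Set G)⁆ := by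
  refine Lib.CharTransfer57.inf_commutator_eq (fun X _ _ c => ?_) hp S hS
  obtain ⟨r, E, -, -, hsup, -, -, hconj, hgen, hcomm, hall⟩ :=
    Cfsg.Agent.S2981.result c.isPMinimal c.hcon c.S c.cStarStar_ne_top
  refine ⟨r, E, hsup, hconj, hgen, hcomm, fun i => ?_⟩
  obtain ⟨n, -, ⟨F, hF, hFt, hcard, -, hact⟩ | ⟨hp2, -⟩⟩ := hall i
  · exact ⟨F, hF, hFt, n, hcard, hact⟩
  · exact absurd hp2 hp

end Cfsg.Agent.S2774
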