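import Cfsg.Statements.S2779
import Cfsg.Agent.Lib.LAEven54.NaturalModule

set_option autoImplicit false
open Cfsg

namespace Cfsg.Agent.S2779

open Matrix Cfsg.Agent.Lib.LAEven54.QdOver Cfsg.Agent.Lib.LAEven54.NaturalModule

/-- Let L act on the elementary abelian p-group V (inside a finite group, by conjugation, faithfully) as SL₂(F) on its natural module, F a field with p^n elements, and let S be a Sylow p-subgroup of L. Then [V, S, S] = 1; |V| = p^(2n) and |C_V(S)| = p^n; and for every nonidentity s ∈ S and every v ∈ V outside C_V(S): C_V(s) = C_V(S) = [V, S] = [V, s] = the subgroup generated by the commutators [v, t], t ∈ S. -/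
theorem result {G : Type*} [Group G] [Finite G] {p : ℕ} [Fact p.Prime] {F : Type*} [Field F] [Fintype F] (n : ℕ) (hF : Fintype.card F = p ^ n) (V L : Subgroup G) (hnat : Cfsg.IsNaturalSL2Module F V L) (hf : L ⊓ Subgroup.centralizer (V : Set G) = ⊥) (S : Sylow p ↥L) (T : Subgroup G) (hT : T = ((S : Subgroup ↥L).map L.subtype)) : ⁅⁅V, T⁆, T⁆ = ⊥ ∧ Nat.card V = p ^ (2 * n) ∧ Nat.card ↥(V ⊓ Subgroup.centralizer ((T : Subgroup G) : Set G)) = p ^ n ∧ ∀ s ∈ T, s ≠ 1 → (V ⊓ Subgroup.centralizer ({s} : Set G)) = (V ⊓ Subgroup.centralizer ((T : Subgroup G) : Set G)) ∧ ⁅V, T⁆ = (V ⊓ Subgroup.centralizer ((T : Subgroup G) : Set G)) ∧ ⁅V, Subgroup.zpowers s⁆ = (V ⊓ Subgroup.centralizer ((T : Subgroup G) : Set G)) ∧ ∀ v ∈ V, v ∉ Subgroup.centralizer (T : Set G) → Subgroup.closure {x : G | ∃ t ∈ T, x = v * t * v⁻¹ * t⁻¹} = (V ⊓ Subgroup.centralizer ((T : Subgroup G) : Set G)) := by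
  obtain ⟨c⟩ := exists_coord hF V L hnat hf S T hT
  set C := V ⊓ Subgroup.centralizer ((T : Subgroup G) : Set G) with hC
  -- commutators with elements of `T` lie in `C`
  have hcomm : ∀ v ∈ V, ∀ t ∈ T, v * t * v⁻¹ * t⁻¹ ∈ C := by
    intro v hv t ht
    obtain ⟨w, rfl⟩ := c.E_surj v hv
    obtain ⟨x, hx⟩ := (c.mem_T ⟨t, c.le ht⟩).1 ht
    rw [show c.E w * t * (c.E w)⁻¹ * t⁻¹ = _ from c.commutator_E ⟨t, c.le ht⟩ w, hC,
      c.mem_centralizer_iff, hx, uM_mulVec]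
    simp
  have hVT : ⁅V, T⁆ ≤ C := Subgroup.commutator_le.2 fun v hv t ht => hcomm v hv t ht
  have hline : ∀ w : Fin 2 → F, w 1 = 0 → ∀ a : F, w 0 = a → w = ![a, 0] := by
    intro w h1 a h0; ext i; fin_cases i <;> simp [h1, h0]
  refine ⟨?_, ?_, ?_, fun s hs hs1 => ?_⟩
  · rw [Subgroup.commutator_eq_bot_iff_le_centralizer]
    exact hVT.trans inf_le_right
  · rw [c.card_V, hF, ← pow_mul, mul_comm]
  · rw [c.card_centralizer, hF]
  obtain ⟨x, hx⟩ := (c.mem_T ⟨s, c.le hs⟩).1 hs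
  have hx0 : x ≠ 0 := by
    rintro rfl
    refine hs1 (congrArg Subtype.val (c.ρ_inj (a₁ := (⟨s, c.le hs⟩ : ↥L)) (a₂ := 1) ?_))
    rw [hx, map_one]
    apply sl2_ext <;> simp [coe_uM]
  have hCs : C ≤ ⁅V, Subgroup.zpowers s⁆ := by
    intro v hv
    obtain ⟨w, rfl⟩ := c.E_surj v hv.1
    have hw := (c.mem_centralizer_iff).1 hv
    have h : c.E ![0, -(w 0 / x)] * s * (c.E ![0, -(w 0 / x)])⁻¹ * s⁻¹ = c.E w := by
      rw [show c.E ![0, -(w 0 / x)] * s * (c.E ![0, -(w 0 / x)])⁻¹ * s⁻¹ = _ from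
        c.commutator_E ⟨s, c.le hs⟩ _, hx, uM_mulVec, hline w hw _ rfl]
      congr 1
      ext i; fin_cases i <;> simp <;> field_simp
    rw [← h, ← commutatorElement_def]
    exact Subgroup.commutator_mem_commutator (c.E_mem _) (Subgroup.mem_zpowers s)
  have hsT : Subgroup.zpowers s ≤ T := Subgroup.zpowers_le.2 hs
  refine ⟨le_antisymm ?_ (inf_le_inf_left _ (Subgroup.centralizer_le
    (Set.singleton_subset_iff.2 hs))), le_antisymm hVT (hCs.trans (Subgroup.commutator_mono le_rfl hsT)),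
    le_antisymm ((Subgroup.commutator_mono le_rfl hsT).trans hVT) hCs, ?_⟩
  · intro v hv
    obtain ⟨w, rfl⟩ := c.E_surj v hv.1
    rw [hC, c.mem_centralizer_iff]
    have h1 := (c.commutes_E_iff ⟨s, c.le hs⟩ w).1
      ((Subgroup.mem_centralizer_iff.1 hv.2) s rfl).symm
    rw [hx, uM_mulVec] at h1
    have h2 := congrFun h1 0
    simpa [hx0] using h2
  · intro v hv hvC
    refine le_antisymm ((Subgroup.closure_le _).2 ?_) ?_
    · rintro _ ⟨t, ht, rfl⟩; exact hcomm v hv t ht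
    intro u hu
    obtain ⟨a, rfl⟩ := c.E_surj v hv
    have ha : a 1 ≠ 0 := fun h => hvC (c.mem_centralizer_iff.2 h).2
    obtain ⟨w, rfl⟩ := c.E_surj u hu.1
    have hw := (c.mem_centralizer_iff).1 hu
    obtain ⟨l, hl, hlT⟩ := c.exists_uM (-(w 0 / a 1))
    refine Subgroup.subset_closure ⟨l, hlT, ?_⟩
    rw [c.commutator_E l a, hl, uM_mulVec, hline w hw _ rfl]
    congr 1
    ext i; fin_cases i <;> simp [div_mul_cancel₀ _ ha]

end Cfsg.Agent.S2779
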