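import Cfsg.Statements.S2780
import Cfsg.Agent.Lib.LAEven54.NaturalModule

set_option autoImplicit false
open Cfsg

namespace Cfsg.Agent.S2780

open Matrix Cfsg.Agent.Lib.LAEven54.QdOver Cfsg.Agent.Lib.LAEven54.NaturalModule

/-- Let L act on the elementary abelian p-group V (inside a finite group, faithfully) as SL₂(F) on its natural module, F a field with p^n elements, S a Sylow p-subgroup of L. Then: for every g ∈ L not normalizing S, V is the internal direct product of C_V(S) and C_V(gSg⁻¹); every nonidentity element of L of order prime to p acts on V without nonidentity fixed points; and C_V(S) and V/C_V(S) are irreducible for N_L(S): the only N_L(S)-invariant subgroups of C_V(S) are 1 and C_V(S), and the only N_L(S)-invariant subgroups between C_V(S) and V are those two. -/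
theorem result {G : Type*} [Group G] [Finite G] {p : ℕ} [Fact p.Prime] {F : Type*} [Field F] [Fintype F] (n : ℕ) (hF : Fintype.card F = p ^ n) (V L : Subgroup G) (hnat : Cfsg.IsNaturalSL2Module F V L) (hf : L ⊓ Subgroup.centralizer (V : Set G) = ⊥) (S : Sylow p ↥L) (T : Subgroup G) (hT : T = ((S : Subgroup ↥L).map L.subtype)) : (∀ g ∈ L, g ∉ Subgroup.normalizer (T : Set G) → Cfsg.IsInternalDirectProduct (V ⊓ Subgroup.centralizer ((T : Subgroup G) : Set G)) (V ⊓ Subgroup.centralizer ((T.map (MulAut.conj g).toMonoidHom : Subgroup G) : Set G)) V) ∧ (∀ x ∈ L, x ≠ 1 → (orderOf x).Coprime p → (V ⊓ Subgroup.centralizer ({x} : Set G)) = ⊥) ∧ (∀ U : Subgroup G, U ≤ (V ⊓ Subgroup.centralizer ((T : Subgroup G) : Set G)) → L ⊓ Subgroup.normalizer (T : Set G) ≤ Subgroup.normalizer (U : Set G) → U = ⊥ ∨ U = (V ⊓ Subgroup.centralizer ((T : Subgroup G) : Set G))) ∧ (∀ U : Subgroup G, (V ⊓ Subgroup.centralizer ((T : Subgroup G) : Set G)) ≤ U → U ≤ V → L ⊓ Subgroup.normalizer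 (T : Set G) ≤ Subgroup.normalizer (U : Set G) → U = (V ⊓ Subgroup.centralizer ((T : Subgroup G) : Set G)) ∨ U = V) := by
  obtain ⟨c⟩ := exists_coord hF V L hnat hf S T hT
  haveI : CharP F p := by
    obtain ⟨q, hq⟩ := CharP.exists F
    haveI := hq
    obtain ⟨m, hqp, hm⟩ := FiniteField.card F q
    have : q = p := by
      refine ((Nat.prime_dvd_prime_iff_eq hqp Fact.out).1 ?_)
      refine hqp.dvd_of_dvd_pow (n := n) ?_
      rw [← hF, hm]
      exact dvd_pow_self q m.pos.ne'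
    exact this ▸ hq
  have hcomm : ∀ u ∈ V, ∀ v ∈ V, u * v = v * u := fun u hu v hv => c.comm hu hv
  refine ⟨fun g hg hgN => ?_, fun x hx hx1 hxp => ?_, fun U hU hinv => ?_, fun U hU hUV hinv => ?_⟩
  · -- two different Sylow subgroups
    have h10 : (c.ρ ⟨g, hg⟩).1 1 0 ≠ 0 := by
      intro h
      apply hgN
      rw [Subgroup.mem_normalizer_iff_map_conj_eq]
      show T.map (MulAut.conj g).toMonoidHom = T
      refine Subgroup.eq_of_le_of_card_ge ?_ (Subgroup.card_map_of_injective (MulAut.conj g).injective).ge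
      rintro _ ⟨t, ht, rfl⟩
      show g * t * g⁻¹ ∈ T
      obtain ⟨x, hx⟩ := (c.mem_T ⟨t, c.le ht⟩).1 ht
      refine (c.mem_T (⟨g, hg⟩ * ⟨t, c.le ht⟩ * ⟨g, hg⟩⁻¹)).2
        ⟨(c.ρ ⟨g, hg⟩).1 0 0 * (c.ρ ⟨g, hg⟩).1 0 0 * x, ?_⟩
      have hd : (c.ρ ⟨g, hg⟩).1 0 0 * (c.ρ ⟨g, hg⟩).1 1 1 = 1 := by
        have h2 := (c.ρ ⟨g, hg⟩).2
        rw [Matrix.det_fin_two, h, mul_zero, sub_zero] at h2
        exact h2
      rw [map_mul, map_mul, map_inv, hx, mul_inv_eq_iff_eq_mul]
      apply sl2_ext <;>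
        simp [coe_uM, Matrix.SpecialLinearGroup.coe_mul, Matrix.mul_apply, Fin.sum_univ_two, h]
      linear_combination (-((c.ρ ⟨g, hg⟩).1 0 0 * x)) * hd
    have hmap : ∀ u, u ∈ V ⊓ Subgroup.centralizer ((T.map (MulAut.conj g).toMonoidHom : Subgroup G) : Set G) ↔
        ∃ v ∈ V ⊓ Subgroup.centralizer (T : Set G), g * v * g⁻¹ = u := by
      have hgV := Subgroup.mem_normalizer_iff.1 (hnat.1 hg)
      intro u
      constructor
      · rintro ⟨hu, huC⟩
        refine ⟨g⁻¹ * u * g, ⟨(hgV _).2 (by simpa [mul_assoc] using hu),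
          Subgroup.mem_centralizer_iff.2 fun t ht => ?_⟩, by group⟩
        have h1 : g * t * g⁻¹ * u = u * (g * t * g⁻¹) :=
          (Subgroup.mem_centralizer_iff.1 huC) _ ⟨t, ht, rfl⟩
        calc t * (g⁻¹ * u * g) = g⁻¹ * (g * t * g⁻¹ * u) * g := by group
          _ = g⁻¹ * (u * (g * t * g⁻¹)) * g := by rw [h1]
          _ = g⁻¹ * u * g * t := by group
      · rintro ⟨v, ⟨hv, hvC⟩, rfl⟩
        refine ⟨(hgV v).1 hv, Subgroup.mem_centralizer_iff.2 ?_⟩
        rintro _ ⟨t, ht, rfl⟩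
        show g * t * g⁻¹ * (g * v * g⁻¹) = g * v * g⁻¹ * (g * t * g⁻¹)
        calc g * t * g⁻¹ * (g * v * g⁻¹) = g * (t * v) * g⁻¹ := by group
          _ = g * (v * t) * g⁻¹ := by rw [(Subgroup.mem_centralizer_iff.1 hvC) t ht]
          _ = _ := by group
    refine ⟨inf_le_left, inf_le_left, fun a ha b hb => hcomm a ha.1 b hb.1, ?_, ?_⟩
    · rw [Subgroup.eq_bot_iff_forall]
      intro u hu
      obtain ⟨v, hv, rfl⟩ := (hmap u).1 hu.2
      obtain ⟨a, rfl⟩ := c.E_surj v hv.1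
      have ha := c.mem_centralizer_iff.1 hv
      have h1 : g * c.E a * g⁻¹ ∈ V ⊓ Subgroup.centralizer (T : Set G) := hu.1
      rw [show g * c.E a * g⁻¹ = _ from c.conj_E ⟨g, hg⟩ a, c.mem_centralizer_iff] at h1
      simp [Matrix.mulVec, dotProduct, Fin.sum_univ_two, ha] at h1
      rcases h1 with h1 | h1
      · exact absurd h1 h10
      · have : a = 0 := by ext i; fin_cases i <;> simp [ha, h1]
        rw [this, c.E_zero]; group
    · refine le_antisymm (sup_le inf_le_left inf_le_left) fun u hu => ?_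
      obtain ⟨w, rfl⟩ := c.E_surj u hu
      set A := c.ρ ⟨g, hg⟩ with hA
      have hw : w = ![w 0 - w 1 / A.1 1 0 * A.1 0 0, 0] + A.1 *ᵥ ![w 1 / A.1 1 0, 0] := by
        ext i; fin_cases i
        · simp [Matrix.mulVec, dotProduct, Fin.sum_univ_two]; ring
        · simp [Matrix.mulVec, dotProduct, Fin.sum_univ_two]; field_simp
      rw [hw, c.E_add]
      refine mul_mem (Subgroup.mem_sup_left (c.mem_centralizer_iff.2 (by simp)))
        (Subgroup.mem_sup_right ((hmap _).2 ⟨_, (c.mem_centralizer_iff (w := ![w 1 / A.1 1 0, 0])).2 (by simp),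
          c.conj_E ⟨g, hg⟩ _⟩))
  · rw [Subgroup.eq_bot_iff_forall]
    rintro u ⟨hu, huC⟩
    obtain ⟨w, rfl⟩ := c.E_surj u hu
    by_contra hne
    have hw : w ≠ 0 := fun h => hne (by rw [h, c.E_zero])
    set A := c.ρ ⟨x, hx⟩ with hA
    have h1 : A.1 *ᵥ w = w := (c.commutes_E_iff ⟨x, hx⟩ w).1
      ((Subgroup.mem_centralizer_iff.1 huC) x rfl).symm
    have hdet : (A.1 - 1).det = 0 :=
      Matrix.exists_mulVec_eq_zero_iff.1 ⟨w, hw, by rw [Matrix.sub_mulVec, h1, Matrix.one_mulVec, sub_self]⟩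
    have hd : A.1 0 0 * A.1 1 1 - A.1 0 1 * A.1 1 0 = 1 := by
      rw [← Matrix.det_fin_two]; exact A.2
    rw [Matrix.det_fin_two] at hdet
    simp at hdet
    have htr : A.1 0 0 + A.1 1 1 = 2 := by linear_combination hd - hdet
    have hsq : (A.1 - 1) * (A.1 - 1) = 0 := by
      ext i j
      fin_cases i <;> fin_cases j <;> simp [Matrix.mul_apply, Fin.sum_univ_two]
      · linear_combination (A.1 0 0) * htr - hd
      · linear_combination (A.1 0 1) * htr
      · linear_combination (A.1 1 0) * htr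
      · linear_combination (A.1 1 1) * htr - hd
    have hAp : A ^ p = 1 := by
      haveI : CharP (Matrix (Fin 2) (Fin 2) F) p := inferInstance
      apply Subtype.ext
      have h4 := sub_pow_char_of_commute (R := Matrix (Fin 2) (Fin 2) F) p (Commute.one_right A.1)
      rw [one_pow, pow_eq_zero_of_le (Fact.out : p.Prime).two_le (by rw [sq]; exact hsq)] at h4
      rw [Matrix.SpecialLinearGroup.coe_pow, Matrix.SpecialLinearGroup.coe_one]
      exact sub_eq_zero.1 h4.symm
    have hx' : x ^ p = 1 := by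
      have h5 : c.ρ (⟨x, hx⟩ ^ p) = c.ρ 1 := by rw [map_pow, map_one]; exact hAp
      exact congrArg Subtype.val (c.ρ_inj h5)
    exact hx1 (orderOf_eq_one_iff.1 (Nat.eq_one_of_dvd_coprimes hxp dvd_rfl (orderOf_dvd_of_pow_eq_one hx')))
  all_goals
    have htorus : ∀ a : F, a ≠ 0 → ∀ w : Fin 2 → F, c.E w ∈ U → c.E ![a * w 0, a⁻¹ * w 1] ∈ U := by
      intro a ha w hw
      obtain ⟨D, hD⟩ : ∃ D : Matrix.SpecialLinearGroup (Fin 2) F, D.1 = !![a, 0; 0, a⁻¹] :=
        ⟨⟨_, by simp [Matrix.det_fin_two, ha]⟩, rfl⟩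
      obtain ⟨l, hl⟩ := c.ρ_surj D
      have hlN : (l : G) ∈ L ⊓ Subgroup.normalizer (T : Set G) := by
        refine ⟨l.2, Subgroup.mem_normalizer_iff_map_conj_eq.2 ?_⟩
        show T.map (MulAut.conj (l : G)).toMonoidHom = T
        refine Subgroup.eq_of_le_of_card_ge ?_
          (Subgroup.card_map_of_injective (MulAut.conj (l : G)).injective).ge
        rintro _ ⟨t, ht, rfl⟩
        show (l : G) * t * (l : G)⁻¹ ∈ T
        obtain ⟨x, hx⟩ := (c.mem_T ⟨t, c.le ht⟩).1 ht
        refine (c.mem_T (l * ⟨t, c.le ht⟩ * l⁻¹)).2 ⟨a * a * x, ?_⟩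
        rw [map_mul, map_mul, map_inv, hx, mul_inv_eq_iff_eq_mul]
        apply sl2_ext <;>
          simp [hl, hD, coe_uM, Matrix.SpecialLinearGroup.coe_mul, Matrix.mul_apply, Fin.sum_univ_two]
        field_simp
      have h1 := ((Subgroup.mem_normalizer_iff.1 (hinv hlN)) _).1 hw
      rw [c.conj_E, hl, hD] at h1
      convert h1 using 2
      ext i; fin_cases i <;> simp [Matrix.mulVec, dotProduct, Fin.sum_univ_two]
  · rcases U.bot_or_exists_ne_one with h | ⟨u, hu, hu1⟩
    · exact Or.inl h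
    refine Or.inr (le_antisymm hU fun v hv => ?_)
    obtain ⟨a, rfl⟩ := c.E_surj u (hU hu).1
    obtain ⟨b, rfl⟩ := c.E_surj v hv.1
    have ha := c.mem_centralizer_iff.1 (hU hu)
    have hb := c.mem_centralizer_iff.1 hv
    have ha0 : a 0 ≠ 0 := fun h => hu1 (by
      rw [show a = 0 by ext i; fin_cases i <;> simp [ha, h], c.E_zero])
    by_cases hb0 : b 0 = 0
    · rw [show b = 0 by ext i; fin_cases i <;> simp [hb, hb0], c.E_zero]; exact U.one_mem
    have h2 := htorus (b 0 / a 0) (div_ne_zero hb0 ha0) a hu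
    convert h2 using 2
    ext i; fin_cases i <;> simp [ha, hb, div_mul_cancel₀ _ ha0]
  · by_cases h : ∀ u ∈ U, u ∈ V ⊓ Subgroup.centralizer (T : Set G)
    · exact Or.inl (le_antisymm h hU)
    push Not at h
    obtain ⟨u, hu, huC⟩ := h
    refine Or.inr (le_antisymm hUV fun v hv => ?_)
    obtain ⟨a, rfl⟩ := c.E_surj u (hUV hu)
    obtain ⟨b, rfl⟩ := c.E_surj v hv
    have ha : a 1 ≠ 0 := fun h => huC (c.mem_centralizer_iff.2 h)
    by_cases hb : b 1 = 0
    · exact hU (c.mem_centralizer_iff.2 hb)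
    have h2 := htorus (a 1 / b 1) (div_ne_zero ha hb) a hu
    have h3 : c.E ![b 0 - a 1 / b 1 * a 0, 0] ∈ U := hU (c.mem_centralizer_iff.2 (by simp))
    have h4 := U.mul_mem h3 h2
    rw [← c.E_add] at h4
    convert h4 using 2
    ext i; fin_cases i
    · simp
    · simp; field_simp

end Cfsg.Agent.S2780
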