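import Cfsg.Statements.S2781
import Cfsg.Agent.Lib.CharP.Basic
import Cfsg.Agent.Lib.CosetGraph.SylowIn

set_option autoImplicit false
open Cfsg

namespace Cfsg.Agent.S2781

/-- Let H act faithfully by conjugation on the elementary abelian p-subgroup V of a finite group, let O^p(H) be the subgroup of H generated by its elements of order prime to p, and T a Sylow p-subgroup of O^p(H). If V is generated by the H-conjugates of C_V(T) (V is the smallest H-invariant subgroup containing C_V(T)), then V = [V, O^p(H)]·C_V(O^p(H)). -/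
theorem result {G : Type*} [Group G] [Finite G] {p : ℕ} [Fact p.Prime] (V H : Subgroup G) (hV : Cfsg.IsElementaryAbelian p V) (hHV : H ≤ Subgroup.normalizer (V : Set G)) (hf : H ⊓ Subgroup.centralizer (V : Set G) = ⊥) (R : Subgroup G) (hR : R = (Cfsg.pResidual p ↥H).map H.subtype) (S : Sylow p ↥R) (T : Subgroup G) (hT : T = ((S : Subgroup ↥R).map R.subtype)) (hgen : ∀ W : Subgroup G, H ≤ Subgroup.normalizer (W : Set G) → (V ⊓ Subgroup.centralizer ((T : Subgroup G) : Set G)) ≤ W → V ≤ W) : ⁅V, R⁆ ⊔ (V ⊓ Subgroup.centralizer ((R : Subgroup G) : Set G)) = V := by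
  classical
  obtain ⟨hVc, hVp⟩ := hV
  have hRH : R ≤ H := hR ▸ Subgroup.map_subtype_le _
  have hRV : R ≤ Subgroup.normalizer (V : Set G) := hRH.trans hHV
  have hcV : ⁅V, R⁆ ≤ V := Subgroup.le_normalizer_iff_commutator_le_left.1 hRV
  refine le_antisymm (sup_le hcV inf_le_left) (hgen _ ?_ ?_)
  · intro h hh
    have hVh := Cfsg.Agent.Lib.CosetGraph.SylowIn.conj_map_eq_self (hHV hh)
    have hRh : R.map (MulAut.conj h).toMonoidHom = R := by
      have := Cfsg.Agent.Lib.CharP.le_normalizer_map_pResidual (p := p) H hh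
      rw [← hR] at this
      exact Cfsg.Agent.Lib.CosetGraph.SylowIn.conj_map_eq_self this
    rw [Cfsg.Agent.Lib.CosetGraph.SylowIn.mem_normalizer_iff_map, Subgroup.map_sup,
      Subgroup.map_commutator, Subgroup.map_inf_eq _ _ _ (MulAut.conj h).injective,
      Cfsg.Agent.Lib.CosetGraph.SylowIn.centralizer_map_equiv, hVh, hRh]
  · intro v hv
    obtain ⟨hvV, hvT⟩ := Subgroup.mem_inf.1 hv
    letI : CommGroup V := { (inferInstance : Group V) with mul_comm := hVc.is_comm.comm }
    letI : Fintype (↥R ⧸ (S : Subgroup ↥R)) := Fintype.ofFinite _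
    let act : ↥R → V := fun r => ⟨r * v * (r : G)⁻¹, (Subgroup.mem_normalizer_iff.1 (hRV r.2) v).1 hvV⟩
    have hact : ∀ r r' : ↥R, (QuotientGroup.mk r : ↥R ⧸ (S : Subgroup ↥R)) = QuotientGroup.mk r' → act r = act r' := by
      intro r r' he
      have hs : ((r⁻¹ * r' : ↥R) : G) ∈ T := hT ▸ ⟨_, QuotientGroup.eq.1 he, rfl⟩
      have hcomm : ((r⁻¹ * r' : ↥R) : G) * v = v * ((r⁻¹ * r' : ↥R) : G) :=
        Subgroup.mem_centralizer_iff.1 hvT _ hs
      have hfix : ((r⁻¹ * r' : ↥R) : G) * v * ((r⁻¹ * r' : ↥R) : G)⁻¹ = v := by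
        rw [hcomm, mul_inv_cancel_right]
      apply Subtype.ext
      show (r : G) * v * (r : G)⁻¹ = r' * v * (r' : G)⁻¹
      conv_lhs => rw [← hfix]
      push_cast; group
    let f : ↥R ⧸ (S : Subgroup ↥R) → V := fun q => act q.out
    have hf : ∀ r : ↥R, f (QuotientGroup.mk r) = act r := fun r =>
      hact _ _ (QuotientGroup.out_eq' (QuotientGroup.mk r))
    set w : V := ∏ q, f q with hw
    have hwfix : (w : G) ∈ Subgroup.centralizer (R : Set G) := by
      rw [Subgroup.mem_centralizer_iff]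
      intro g hg
      let φ : V →* V :=
        { toFun := fun u => ⟨g * u * g⁻¹, (Subgroup.mem_normalizer_iff.1 (hRV hg) u).1 u.2⟩
          map_one' := Subtype.ext (by simp)
          map_mul' := fun a b => Subtype.ext (by simp [mul_assoc]) }
      have h1 : φ w = w := by
        rw [hw, map_prod]
        refine Fintype.prod_equiv (MulAction.toPerm (⟨g, hg⟩ : ↥R)) _ _ fun q => ?_
        induction q using QuotientGroup.induction_on with
        | _ r =>
          rw [hf]
          show φ (act r) = f (((⟨g, hg⟩ * r : ↥R)) : ↥R ⧸ (S : Subgroup ↥R))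
          rw [hf]
          exact Subtype.ext (by simp [φ, act, mul_assoc])
      have := congrArg Subtype.val h1
      exact mul_inv_eq_iff_eq_mul.1 this
    set D : Subgroup V := (⁅V, R⁆).subgroupOf V with hD
    have hcong : ∀ q, f q * (⟨v, hvV⟩ : V)⁻¹ ∈ D := by
      intro q
      rw [hD, Subgroup.mem_subgroupOf, Subgroup.commutator_comm]
      simpa [f, act, commutatorElement_def] using
        Subgroup.commutator_mem_commutator (q.out).2 hvV
    have hprod : w * ((⟨v, hvV⟩ : V) ^ Fintype.card (↥R ⧸ (S : Subgroup ↥R)))⁻¹ ∈ D := by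
      have := D.prod_mem (t := Finset.univ) fun q (_ : q ∈ Finset.univ) => hcong q
      rwa [Finset.prod_mul_distrib, Finset.prod_const, Finset.card_univ, inv_pow] at this
    have hwW : (w : G) ∈ ⁅V, R⁆ ⊔ (V ⊓ Subgroup.centralizer ((R : Subgroup G) : Set G)) :=
      Subgroup.mem_sup_right ⟨w.2, hwfix⟩
    have hpow : v ^ Fintype.card (↥R ⧸ (S : Subgroup ↥R)) ∈
        ⁅V, R⁆ ⊔ (V ⊓ Subgroup.centralizer ((R : Subgroup G) : Set G)) := by
      have h1 : ((w * ((⟨v, hvV⟩ : V) ^ Fintype.card (↥R ⧸ (S : Subgroup ↥R)))⁻¹ : V) : G) ∈ ⁅V, R⁆ := hprod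
      have h2 := mul_mem (inv_mem (Subgroup.mem_sup_left (T := V ⊓ Subgroup.centralizer ((R : Subgroup G) : Set G)) h1)) hwW
      simpa [mul_assoc] using h2
    have hco : Nat.Coprime p (Fintype.card (↥R ⧸ (S : Subgroup ↥R))) := by
      rw [← Nat.card_eq_fintype_card, ← Subgroup.index]
      exact (Nat.Prime.coprime_iff_not_dvd Fact.out).2 S.not_dvd_index
    obtain ⟨a, b, hab⟩ := Nat.isCoprime_iff_coprime.2 hco
    have hv' : v = (v ^ Fintype.card (↥R ⧸ (S : Subgroup ↥R))) ^ b := by
      conv_lhs => rw [← zpow_one v, ← hab, zpow_add, mul_comm a, zpow_mul, zpow_natCast, hVp v hvV,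
        one_zpow, one_mul, mul_comm b, zpow_mul, zpow_natCast]
    rw [hv']
    exact zpow_mem hpow b

end Cfsg.Agent.S2781
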