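import Cfsg.Statements.S2788
import Cfsg.Agent.Lib.SL2Module.Order

set_option autoImplicit false
open Cfsg

namespace Cfsg.Agent.S2788

/-- Let H act faithfully by conjugation on the elementary abelian p-subgroup V of a finite group with H ≅ SL₂(F), F a field with p^n elements, S a Sylow p-subgroup of H, and A ≤ S a subgroup of order at least 3 acting quadratically on V ([V, A, A] = 1). Then |V/C_V(a)| ≥ p^n for every nonidentity a ∈ A. -/
theorem result {G : Type*} [Group G] [Finite G] {p : ℕ} [Fact p.Prime] (V H : Subgroup G) (hV : Cfsg.IsElementaryAbelian p V) (hHV : H ≤ Subgroup.normalizer (V : Set G)) (hf : H ⊓ Subgroup.centralizer (V : Set G) = ⊥) {F : Type*} [Field F] [Fintype F] (n : ℕ) (hF : Fintype.card F = p ^ n) (hiso : Nonempty (↥H ≃* Matrix.SpecialLinearGroup (Fin 2) F)) (S : Sylow p ↥H) (T : Subgroup G) (hT : T = ((S : Subgroup ↥H).map H.subtype)) (A : Subgroup G) (hA : A ≤ T) (hA3 : 3 ≤ Nat.card A) (hquad : ⁅⁅V, A⁆, A⁆ = ⊥) : ∀ a ∈ A, a ≠ 1 → p ^ n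 ≤ ((V ⊓ Subgroup.centralizer ({a} : Set G))).relIndex V := by
  classical
  intro a ha ha1
  haveI : CharP F p := Lib.SL2Module.charP_of_card hF
  obtain ⟨e, he⟩ := Lib.SL2Module.exists_iso_up hiso S
  subst hT
  obtain ⟨l, hl, rfl⟩ := Subgroup.mem_map.1 (hA ha)
  obtain ⟨t₀, ht₀⟩ := (he l).1 hl
  have ht₀0 : t₀ ≠ 0 := by
    rintro rfl
    rw [Lib.PLocal.SLTwo.up_zero, map_eq_one_iff e e.injective] at ht₀
    exact ha1 (by rw [ht₀]; rfl)
  set Ca := V ⊓ Subgroup.centralizer ({(H.subtype l : G)} : Set G) with hCa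
  have hp : p.Prime := Fact.out
  have hVp : IsPGroup p ↥V := fun v => ⟨1, by rw [pow_one]; exact Subtype.ext (hV.2 v v.2)⟩
  have hne : Ca.relIndex V ≠ 1 := fun h1 => by
    have h2 : V ≤ Subgroup.centralizer ({(H.subtype l : G)} : Set G) :=
      (Subgroup.relIndex_eq_one.1 h1).trans inf_le_right
    have h3 : (l : G) ∈ H ⊓ Subgroup.centralizer (V : Set G) := ⟨l.2, Subgroup.mem_centralizer_iff.2
      fun v hv => Subgroup.mem_centralizer_singleton_iff.1 (h2 hv)⟩
    rw [hf, Subgroup.mem_bot] at h3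
    exact ha1 h3
  obtain ⟨j, hj⟩ : ∃ j, Ca.relIndex V = p ^ j := hVp.index _
  have hj0 : j ≠ 0 := by rintro rfl; exact hne (by simpa using hj)
  rw [hj]
  refine Nat.pow_le_pow_right hp.pos ?_
  rcases Nat.lt_or_ge n 2 with hn | hn
  · omega
  -- a prime power `N` with `p` of order `2 n` modulo `N`
  obtain ⟨r, k, hr, hr2, hord⟩ : ∃ r k : ℕ, r.Prime ∧ r ≠ 2 ∧ orderOf (p : ZMod (r ^ (k + 1))) = 2 * n := by
    by_cases hex : p = 2 ∧ 2 * n = 6
    · refine ⟨3, 1, Nat.prime_three, by norm_num, ?_⟩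
      rw [hex.1, hex.2]
      refine (orderOf_eq_iff (by norm_num)).2 ⟨by decide, fun m hm hm0 => ?_⟩
      interval_cases m <;> decide
    · obtain ⟨r, hr, hro⟩ := Lib.NumberTheory.exists_primitive_prime (q := p) (n := 2 * n)
        hp.two_le (by omega) hex (by omega)
      refine ⟨r, 0, hr, fun h => ?_, ?_⟩
      · subst h
        haveI : Fact (Nat.Prime 2) := ⟨Nat.prime_two⟩
        have hm := ZMod.natCast_mod p 2
        rcases Nat.mod_two_eq_zero_or_one p with h | h <;> rw [h] at hm <;>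
          rw [← hm] at hro
        · rw [Nat.cast_zero, orderOf_zero] at hro; omega
        · rw [Nat.cast_one, orderOf_one] at hro; omega
      · rw [zero_add, pow_one]; exact hro
  set N := r ^ (k + 1) with hN
  have hNodd : Odd N := (hr.odd_of_ne_two hr2).pow
  have hrp : r ≠ p := by
    rintro rfl
    have h1 : ((r : ZMod N)) ^ (k + 1) = 0 := by
      rw [← Nat.cast_pow, ← hN, ZMod.natCast_self]
    have h2 : ((r : ZMod N)) ^ orderOf (r : ZMod N) = 1 := pow_orderOf_eq_one _
    have hd : (r : ZMod N) ^ (orderOf (r : ZMod N) * (k + 1)) = 1 := by rw [pow_mul, h2, one_pow]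
    rw [mul_comm, pow_mul, h1, zero_pow (by rw [hord]; omega)] at hd
    haveI : Fact (1 < N) := ⟨Nat.one_lt_pow (by omega) hr.one_lt⟩
    exact zero_ne_one hd
  have hNdvd : N ∣ Fintype.card F + 1 := by
    have h1 : ((p : ZMod N)) ^ (2 * n) = 1 := hord ▸ pow_orderOf_eq_one _
    have h2 : ((p : ZMod N)) ^ n ≠ 1 := fun h => by
      have := Nat.le_of_dvd (by omega) (hord ▸ orderOf_dvd_of_pow_eq_one h)
      omega
    have hpn : 1 ≤ p ^ n := Nat.one_le_pow _ _ hp.pos
    have h3 : N ∣ (p ^ n - 1) * (p ^ n + 1) := by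
      rw [← ZMod.natCast_eq_zero_iff, Nat.cast_mul, Nat.cast_sub hpn]
      push_cast
      linear_combination h1
    have h4 : ¬ N ∣ p ^ n - 1 := fun h => h2 (by
      have := (ZMod.natCast_eq_zero_iff _ _).2 h
      rw [Nat.cast_sub hpn] at this
      push_cast at this
      linear_combination this)
    rw [hF]
    have h5 : ¬ (r ∣ p ^ n - 1 ∧ r ∣ p ^ n + 1) := fun h => by
      have : r ∣ 2 := by
        have := Nat.dvd_sub h.2 h.1
        rwa [show p ^ n + 1 - (p ^ n - 1) = 2 by omega] at this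
      exact hr2 ((Nat.prime_dvd_prime_iff_eq hr Nat.prime_two).1 this)
    by_cases h6 : r ∣ p ^ n - 1
    · exfalso
      apply h4
      exact ((Nat.Coprime.pow_left _ (hr.coprime_iff_not_dvd.2 fun h => h5 ⟨h6, h⟩))).dvd_of_dvd_mul_right h3
    · exact ((Nat.Coprime.pow_left _ (hr.coprime_iff_not_dvd.2 h6))).dvd_of_dvd_mul_left h3
  obtain ⟨c, hc⟩ := Lib.SL2Module.exists_product ht₀0 hNodd (Nat.one_lt_pow (by omega) hr.one_lt) hNdvd
  set g : ↥H := e.symm c with hg
  set x : ↥H := l * (g * l * g⁻¹) with hx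
  have hxN : N ∣ orderOf x := by
    rw [← e.orderOf_eq, hx, map_mul, map_mul, map_mul, map_inv, ht₀, hg, e.apply_symm_apply]
    exact hc
  set y : ↥H := x ^ (orderOf x / N) with hy
  have hyo : orderOf y = N := orderOf_pow_orderOf_div (orderOf_pos x).ne' hxN
  set l' : ↥H := g * l * g⁻¹ with hl'
  set Cb := V ⊓ Subgroup.centralizer ({(l' : G)} : Set G) with hCb
  have hcent : ∀ z : ↥H, (z : G) ∈ Subgroup.centralizer (V : Set G) → z = 1 := fun z hz => by
    have h3 : (z : G) ∈ H ⊓ Subgroup.centralizer (V : Set G) := ⟨z.2, hz⟩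
    rw [hf, Subgroup.mem_bot] at h3
    exact Subtype.ext h3
  have hW : Ca ⊓ Cb ≤ Subgroup.centralizer ({(y : G)} : Set G) := by
    intro w hw
    rw [Subgroup.mem_centralizer_singleton_iff]
    have h1 : Commute w (l : G) := Subgroup.mem_centralizer_singleton_iff.1 hw.1.2
    have h2 : Commute w (l' : G) := Subgroup.mem_centralizer_singleton_iff.1 hw.2.2
    rw [hy, Subgroup.coe_pow, hx, Subgroup.coe_mul]
    exact ((h1.mul_right h2).pow_right _).eq
  have hbig : p ^ (2 * n) ≤ (Ca ⊓ Cb).relIndex V := by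
    refine Lib.SL2Module.pow_le_relIndex (k := k) hr hrp V hVp hord (hHV y.2) ?_ ?_ _ hW
    · rw [← Subgroup.coe_pow, ← hN, ← hyo, pow_orderOf_eq_one]
      exact one_mem _
    · intro h
      have h1 : y ^ r ^ k = 1 := hcent _ (by rwa [Subgroup.coe_pow])
      have h2 := Nat.le_of_dvd (pow_pos hr.pos _) (orderOf_dvd_of_pow_eq_one h1)
      rw [hyo, hN, pow_succ] at h2
      have := Nat.mul_le_mul_left (r ^ k) hr.two_le
      have := pow_pos hr.pos k
      omega
  have hCb' : Cb.relIndex V = Ca.relIndex V := by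
    have hgn := Subgroup.mem_normalizer_iff.1 (hHV g.2)
    have h1 : Nat.card ↥Cb = Nat.card ↥Ca := by
      refine Nat.card_congr
        { toFun := fun v => ⟨(g : G)⁻¹ * v * (g : G), ?_, ?_⟩
          invFun := fun v => ⟨(g : G) * v * (g : G)⁻¹, (hgn _).1 v.2.1, ?_⟩
          left_inv := fun v => Subtype.ext (by simp [mul_assoc])
          right_inv := fun v => Subtype.ext (by simp [mul_assoc]) }
      · exact (hgn _).2 (by simpa [mul_assoc] using v.2.1)
      · have := Subgroup.mem_centralizer_singleton_iff.1 v.2.2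
        refine Subgroup.mem_centralizer_singleton_iff.2 ?_
        simp only [hl', Subgroup.coe_mul, Subgroup.coe_inv] at this
        change (g : G)⁻¹ * v * g * (l : G) = (l : G) * ((g : G)⁻¹ * v * g)
        calc (g : G)⁻¹ * v * g * (l : G) = (g : G)⁻¹ * ((v : G) * (g * (l : G) * (g : G)⁻¹)) * g := by group
          _ = (l : G) * ((g : G)⁻¹ * v * g) := by rw [this]; group
      · have := Subgroup.mem_centralizer_singleton_iff.1 v.2.2
        refine Subgroup.mem_centralizer_singleton_iff.2 ?_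
        simp only [hl', Subgroup.coe_mul, Subgroup.coe_inv]
        calc (g : G) * v * (g : G)⁻¹ * (g * (l : G) * (g : G)⁻¹) = (g : G) * ((v : G) * (l : G)) * (g : G)⁻¹ := by group
          _ = g * (l : G) * (g : G)⁻¹ * (g * v * (g : G)⁻¹) := by
            rw [show (v : G) * (l : G) = (l : G) * v from this]; group
    have ha' := Subgroup.card_mul_index (Ca.subgroupOf V)
    have hb' := Subgroup.card_mul_index (Cb.subgroupOf V)
    rw [Nat.card_congr (Subgroup.subgroupOfEquivOfLe (inf_le_left : Ca ≤ V)).toEquiv] at ha'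
    rw [Nat.card_congr (Subgroup.subgroupOfEquivOfLe (inf_le_left : Cb ≤ V)).toEquiv, h1] at hb'
    exact Nat.eq_of_mul_eq_mul_left Nat.card_pos (hb'.trans ha'.symm)
  have h1 : p ^ (2 * n) ≤ p ^ j * p ^ j := by
    calc p ^ (2 * n) ≤ (Ca ⊓ Cb).relIndex V := hbig
      _ ≤ Ca.relIndex V * Cb.relIndex V := Subgroup.relIndex_inf_le
      _ = p ^ j * p ^ j := by rw [hCb', hj]
  rw [← pow_add] at h1
  have := (Nat.pow_le_pow_iff_right hp.one_lt).1 h1
  omega

end Cfsg.Agent.S2788
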