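import Cfsg.Statements.S2793
import Cfsg.Agent.Lib.GlaubermanGlobal.Main

set_option autoImplicit false
open Cfsg

namespace Cfsg.Agent.S2793

open Cfsg.Agent.Lib

/-- Let p be an odd prime, S a Sylow p-subgroup of the finite group G, J(S) the subgroup generated by the abelian subgroups of S of largest order, and suppose Z(J(S)) does not control strong fusion in G. Put H = N_G(Z(J(S))). Then the group F(p) of upper triangular 3 × 3 matrices (a b c; 0 a⁻¹ d; 0 0 1) over the field with p elements is involved in H, and Z(J(S)) contains a subgroup C of order p with |N_H(C) : C_H(C)| = p − 1. -/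
theorem result {G : Type*} [Group G] [Finite G] {p : ℕ} [Fact p.Prime] (hp : p ≠ 2) (S : Sylow p G) (h : ¬ Cfsg.ControlsStrongFusion p (Cfsg.centerThompsonAOf (S : Subgroup G))) (H : Subgroup G) (hH : H = Subgroup.normalizer ((Cfsg.centerThompsonAOf (S : Subgroup G)) : Set G)) : Cfsg.Involves ↥(Cfsg.fOver (ZMod p)) ↥H ∧ ∃ C : Subgroup G, C ≤ (Cfsg.centerThompsonAOf (S : Subgroup G)) ∧ Nat.card C = p ∧ (H ⊓ Subgroup.centralizer (C : Set G)).relIndex (H ⊓ Subgroup.normalizer (C : Set G)) = p - 1 := by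
  classical
  subst hH
  set E := Cfsg.centerThompsonAOf (S : Subgroup G) with hE
  set H := Subgroup.normalizer (E : Set G) with hH
  obtain ⟨⟨y, hyE, hy1, hyp, hall⟩, hinv⟩ :=
    GlaubermanGlobal.hasEigen_of_bad hp S (by
      by_contra hb
      refine h ⟨S, ZJ.centerThompsonAOf_le _, fun A hA => ⟨hA, fun g hgA => ?_⟩⟩
      by_contra hn
      push Not at hn
      refine hb ⟨A, g, hA, Subgroup.mem_top g, hgA, fun ⟨x, hx, ex⟩ => ?_⟩
      obtain ⟨a, ha, hne⟩ := hn x hx
      exact hne (ex a ha).symm)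
  refine ⟨hinv, Subgroup.zpowers y, Subgroup.zpowers_le.2 hyE, ?_, ?_⟩
  · rw [Nat.card_zpowers, orderOf_eq_prime hyp hy1]
  set C := Subgroup.zpowers y with hC
  have hyo : orderOf y = p := orderOf_eq_prime hyp hy1
  have hmem : ∀ {g : G} {n : ℕ}, g * y * g⁻¹ = y ^ n → ∀ c ∈ C, g * c * g⁻¹ ∈ C := by
    rintro g n e _ ⟨i, rfl⟩
    show g * y ^ i * g⁻¹ ∈ C
    rw [← conj_zpow, e]
    exact zpow_mem (pow_mem (Subgroup.mem_zpowers y) n) i
  let f : ↥(H ⊓ Subgroup.normalizer (C : Set G)) →* MulAut C :=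
    (Subgroup.normalizerMonoidHom C).comp (Subgroup.inclusion inf_le_right)
  have hker : f.ker = (H ⊓ Subgroup.centralizer (C : Set G)).subgroupOf
      (H ⊓ Subgroup.normalizer (C : Set G)) := by
    ext ⟨g, hg⟩
    rw [MonoidHom.mem_ker, Subgroup.mem_subgroupOf]
    constructor
    · intro hf
      refine ⟨hg.1, Subgroup.mem_centralizer_iff.2 fun c hc => ?_⟩
      have h1 : g * c * g⁻¹ = c := congrArg (fun a : MulAut C => ((a ⟨c, hc⟩ : C) : G)) hf
      exact (mul_inv_eq_iff_eq_mul.1 h1).symm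
    · rintro ⟨-, hgc⟩
      refine MulEquiv.ext fun c => Subtype.ext ?_
      show g * (c : G) * g⁻¹ = c
      exact mul_inv_eq_iff_eq_mul.2 (Subgroup.mem_centralizer_iff.1 hgc c c.2).symm
  have hsurj : Function.Surjective f := by
    intro a
    obtain ⟨i, hi⟩ : ∃ i : ℤ, y ^ i = ((a ⟨y, Subgroup.mem_zpowers y⟩ : C) : G) :=
      (a ⟨y, Subgroup.mem_zpowers y⟩).2
    have hi0 : (i : ZMod p) ≠ 0 := by
      intro h0
      rw [ZMod.intCast_zmod_eq_zero_iff_dvd, ← hyo, orderOf_dvd_iff_zpow_eq_one, hi] at h0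
      have h1 : (⟨y, Subgroup.mem_zpowers y⟩ : C) = 1 :=
        a.injective (by rw [map_one]; exact Subtype.ext h0)
      exact hy1 (congrArg Subtype.val h1)
    obtain ⟨g, hg, e⟩ := hall (Units.mk0 _ hi0)
    have hgC : g ∈ Subgroup.normalizer (C : Set G) := by
      exact ConjFunctor.Basic.mem_normalizer_of_forall (hmem e)
    refine ⟨⟨g, hg, hgC⟩, MulEquiv.ext fun c => ?_⟩
    obtain ⟨k, hk⟩ := c.2
    have hc : c = (⟨y, Subgroup.mem_zpowers y⟩ : C) ^ k := Subtype.ext (by
      rw [SubgroupClass.coe_zpow]; exact hk.symm)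
    rw [hc, map_zpow, map_zpow]
    congr 1
    apply Subtype.ext
    show g * y * g⁻¹ = _
    rw [e, ← hi, ← zpow_natCast, zpow_eq_zpow_iff_modEq, hyo, ← ZMod.intCast_eq_intCast_iff]
    simp
  haveI : IsCyclic C := Subgroup.isCyclic_zpowers y
  have hcard : Nat.card C = p := by rw [Nat.card_zpowers, hyo]
  rw [Subgroup.relIndex, ← hker, Subgroup.index_ker, MonoidHom.range_eq_top.2 hsurj,
    Subgroup.card_top, IsCyclic.card_mulAut, hcard, Nat.totient_prime Fact.out]

end Cfsg.Agent.S2793
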