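import Cfsg.Statements.S2799
import Cfsg.Agent.Lib.Transfer.FusionFix
import Cfsg.Agent.S5206

set_option autoImplicit false
open Cfsg

namespace Cfsg.Agent.S2799

theorem isSectionFree_group {G : Type*} [Group G] [Finite G] {p : ℕ} [Fact p.Prime] (S : Sylow p G)
    {H : Type} [Group H] (h : ¬ Cfsg.Involves H G) :
    (Cfsg.groupFusionSystem (S : Subgroup G)).IsSectionFree p H := by
  intro Q hfn hcen N hN L _ ι hM hL
  obtain ⟨D, hD, ι₂, -, hM₂⟩ := Cfsg.Agent.S5206.exists_model S hfn.1 hfn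
    (Cfsg.Agent.S5206.cent_of_centric S hfn hcen) N hN
  have : Finite L := hM.1
  obtain ⟨θ, hθ, -⟩ := Lib.FS.exists_model_hom
    (Lib.FS.isPGroup_of_le S.isPGroup' inf_le_left) hM hM₂
  exact h (Lib.Transfer.InvolvesS4.involves_of_injective _ (Subgroup.subtype_injective _)
    (Lib.Transfer.InvolvesS4.involves_of_surjective _ (QuotientGroup.mk'_surjective D)
      (Lib.Transfer.InvolvesS4.involves_of_injective θ hθ hL)))

/-- Let S be a Sylow p-subgroup of the finite group G, J(S) the subgroup generated by the abelian subgroups of S of largest order, and x an element of S lying in the centre of N_G(J(S)). Assume that p is odd, or that x is a p-th power of an element of Z(S), or that the symmetric group of degree 4 is not involved in G. Then x is weakly closed in S with respect to G: every G-conjugate of x that lies in S equals x. -/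
theorem result {G : Type*} [Group G] [Finite G] {p : ℕ} [Fact p.Prime] (S : Sylow p G) (x : G) (hxS : x ∈ (S : Subgroup G)) (hxZ : x ∈ (Subgroup.center ↥(Subgroup.normalizer ((Cfsg.thompsonSubgroupAOf (S : Subgroup G)) : Set G))).map (Subgroup.normalizer ((Cfsg.thompsonSubgroupAOf (S : Subgroup G)) : Set G)).subtype) (h : p ≠ 2 ∨ (∃ z ∈ (S : Subgroup G) ⊓ Subgroup.centralizer ((S : Subgroup G) : Set G), z ^ p = x) ∨ ¬ Cfsg.Involves (Equiv.Perm (Fin 4)) G) : ∀ g : G, g * x * g⁻¹ ∈ (S : Subgroup G) → g * x * g⁻¹ = x := by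

  intro g hg
  set J := Cfsg.thompsonSubgroupAOf (S : Subgroup G) with hJ
  have hJS : J ≤ (S : Subgroup G) := Cfsg.Agent.Lib.Transfer.AbelianJ.thompsonSubgroupAOf_le _
  have hSX : (S : Subgroup G) ≤ Subgroup.normalizer (J : Set G) := fun s hs =>
    (Cfsg.Agent.Lib.Transfer.FusionLocal.normalizerIn_le_of_char hJS
      (Cfsg.Agent.Lib.Transfer.CharHyp.characteristic_thompsonAOf _)
      (Cfsg.Agent.Lib.FS.le_normalizerIn le_rfl hs)).2
  obtain ⟨y, hy, rfl⟩ := hxZ
  have hcomm : ∀ n ∈ Subgroup.normalizer (J : Set G), n * (y : G) = (y : G) * n := fun n hn =>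
    congrArg Subtype.val (Subgroup.mem_center_iff.mp hy ⟨n, hn⟩)
  have hgood : (y : G) ∈ Cfsg.Agent.Lib.Transfer.OffenderNorm.agemo p
        ((S : Subgroup G) ⊓ Subgroup.centralizer ((S : Subgroup G) : Set G)) ∨
      (p ≠ 2 ∨ (Cfsg.groupFusionSystem (S : Subgroup G)).IsSectionFree p (Equiv.Perm (Fin 4))) := by
    rcases h with h | ⟨z, hz, he⟩ | h
    · exact Or.inr (Or.inl h)
    · exact Or.inl (Subgroup.subset_closure ⟨z, hz, he⟩)
    · exact Or.inr (Or.inr (isSectionFree_group S h))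
  have hfix : Cfsg.Agent.Lib.Transfer.FusionFix.Fixes (Cfsg.groupFusionSystem (S : Subgroup G)) (y : G) J := by
    intro α hα v hv
    obtain ⟨φ, hφ, hr, he⟩ := Cfsg.Agent.Lib.FS.exists_hom_of_aut hJS hα
    obtain ⟨-, -, n, hn⟩ := hφ
    have hn' : n ∈ Subgroup.normalizer (J : Set G) :=
      Subgroup.mem_normalizer_fintype fun w hw => (hn ⟨w, hw⟩) ▸ hr.le ⟨_, rfl⟩
    rw [← he, hn, hv, hcomm n hn', mul_inv_cancel_right]
  have hmap : Cfsg.conjHom (Subgroup.zpowers (y : G)) g ∈
      (Cfsg.groupFusionSystem (S : Subgroup G)).Hom (Subgroup.zpowers (y : G)) := by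
    refine ⟨Subgroup.zpowers_le.mpr hxS, ?_, g, fun _ => rfl⟩
    rintro ⟨w, k, rfl⟩
    show g * (y : G) ^ k * g⁻¹ ∈ _
    rw [← conj_zpow]
    exact zpow_mem hg k
  exact Cfsg.Agent.Lib.Transfer.FusionFix.fix_all_thompson S.isPGroup'
    (Cfsg.Agent.Lib.FS.isSaturated_group S) hxS (fun s hs => hcomm s (hSX hs))
    (hgood.imp_right fun h {_ _} _ {_} L => Cfsg.Agent.Lib.Transfer.FusionThompson.not_involves h L)
    hfix _ _ hmap ⟨_, Subgroup.mem_zpowers _⟩ rfl

end Cfsg.Agent.S2799
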