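import Cfsg.Statements.S2803
import Cfsg.Agent.Lib.LAEven54.ReducedSylow
import Cfsg.Agent.Lib.PGroups.Omega

set_option autoImplicit false
open Cfsg

namespace Cfsg.Agent.S2803

/-- Let L be a finite group and p a prime with C_L(O_p(L)) ≤ O_p(L), T a Sylow p-subgroup, and Y the largest p-reduced normal subgroup of L. Put T_L = C_T(Y) and L_T = N_L(T_L). Then L = L_T · C_L(Y) (elementwise), T_L = O_p(L_T), and Y = Ω₁(Z(T_L)). -/
theorem result {L : Type*} [Group L] [Finite L] {p : ℕ} [Fact p.Prime] (hchar : Subgroup.centralizer (Cfsg.pCore p L : Set L) ≤ Cfsg.pCore p L) (T : Sylow p L) (Y : Subgroup L) (hY : (Cfsg.IsPReducedNormal p Y ∧ ∀ V : Subgroup L, Cfsg.IsPReducedNormal p V → V ≤ Y)) (TL : Subgroup L) (hTL : TL = (T : Subgroup L) ⊓ Subgroup.centralizer (Y : Set L)) : (∀ g : L, ∃ a ∈ Subgroup.normalizer (TL : Set L), ∃ c ∈ Subgroup.centralizer (Y : Set L), g = a * c) ∧ (Cfsg.pCore p ↥(Subgroup.normalizer (TL : Set L))).map (Subgroup.normalizer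 (TL : Set L)).subtype = TL ∧ Y = Cfsg.omegaOne p (TL ⊓ Subgroup.centralizer (TL : Set L)) := by
  haveI hYn : Y.Normal := hY.1.1
  set C := Subgroup.centralizer (Y : Set L) with hC
  set N := Subgroup.normalizer (TL : Set L) with hN
  have hTLC : TL ≤ C := hTL ▸ inf_le_right
  have hS : Cfsg.Agent.Lib.CosetGraph.SylowIn.IsSylowIn p TL C := by
    have htop : Cfsg.Agent.Lib.CosetGraph.SylowIn.IsSylowIn p (T : Subgroup L) ⊤ :=
      ⟨le_top, by rw [Subgroup.card_top]; exact T.card_eq_multiplicity⟩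
    obtain ⟨U, hU, hle⟩ := Cfsg.Agent.Lib.CosetGraph.SylowIn.IsSylowIn.exists_le (p := p) (H := C) (P := TL)
      (hTL ▸ T.2.to_le inf_le_left) hTLC
    obtain ⟨T', hT', hUT'⟩ := Cfsg.Agent.Lib.CosetGraph.SylowIn.IsSylowIn.exists_le (p := p) (H := (⊤ : Subgroup L))
      hU.isPGroup le_top
    obtain ⟨g, -, hgT⟩ := hT'.exists_conj htop
    have h1 : U.map (MulAut.conj g).toMonoidHom ≤ TL := by
      rw [hTL]
      refine le_inf (hgT ▸ Subgroup.map_mono hUT') ?_
      rintro _ ⟨u, hu, rfl⟩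
      exact (inferInstance : C.Normal).conj_mem u (hU.le hu) g
    have h2 := Subgroup.card_le_of_le h1
    rw [Subgroup.card_map_of_injective (f := (MulAut.conj g).toMonoidHom) (MulAut.conj g).injective] at h2
    exact (Subgroup.eq_of_le_of_card_ge hle h2) ▸ hU
  have hNC : ∀ g : L, ∃ a ∈ N, ∃ c ∈ C, g = a * c := by
    intro g
    have hg : Cfsg.Agent.Lib.CosetGraph.SylowIn.IsSylowIn p (TL.map (MulAut.conj g).toMonoidHom) C := by
      have := hS.conj g
      rwa [Cfsg.Agent.Lib.CosetGraph.SylowIn.conj_map_eq_self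
        (show g ∈ Subgroup.normalizer (C : Set L) by rw [Subgroup.normalizer_eq_top]; trivial)] at this
    obtain ⟨c, hc, hcT⟩ := hS.exists_conj hg
    refine ⟨c⁻¹ * g, ?_, g⁻¹ * c * g, ?_, by group⟩
    · rw [hN, Cfsg.Agent.Lib.CosetGraph.SylowIn.mem_normalizer_iff_map]
      calc TL.map (MulAut.conj (c⁻¹ * g)).toMonoidHom
          = (TL.map (MulAut.conj g).toMonoidHom).map (MulAut.conj c⁻¹).toMonoidHom := by
            rw [Subgroup.map_map]; congr 1; ext; simp [mul_assoc]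
        _ = TL := by
            rw [← hcT, Subgroup.map_map]
            conv_rhs => rw [← Subgroup.map_id TL]
            congr 1; ext; simp [mul_assoc]
    · have := (inferInstance : C.Normal).conj_mem c hc g⁻¹
      simpa using this
  have hTN : (T : Subgroup L) ≤ N := fun t ht => by
    rw [hN, Cfsg.Agent.Lib.CosetGraph.SylowIn.mem_normalizer_iff_map, hTL,
      Subgroup.map_inf_eq _ _ _ (MulAut.conj t).injective,
      Cfsg.Agent.Lib.CosetGraph.SylowIn.conj_map_eq_self (Subgroup.le_normalizer ht),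
      Cfsg.Agent.Lib.CosetGraph.SylowIn.conj_map_eq_self
        (show t ∈ Subgroup.normalizer (C : Set L) by rw [Subgroup.normalizer_eq_top]; trivial)]
  have hbot : Cfsg.pCore p (L ⧸ C) = ⊥ := hY.1.2.2.2
  -- subgroups normalized by `N` with `p`-group image lie in `C`
  have hkey : ∀ D : Subgroup L, N ≤ Subgroup.normalizer (D : Set L) →
      IsPGroup p (D.map (QuotientGroup.mk' C)) → D ≤ C := by
    intro D hD hp
    haveI : (D.map (QuotientGroup.mk' C)).Normal := by
      refine ⟨?_⟩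
      rintro _ ⟨d, hd, rfl⟩ q
      obtain ⟨g, rfl⟩ := QuotientGroup.mk'_surjective C q
      obtain ⟨a, ha, c, hc, rfl⟩ := hNC g
      refine ⟨a * d * a⁻¹, (Subgroup.mem_normalizer_iff.1 (hD ha) d).1 hd, ?_⟩
      rw [map_mul, map_mul, map_inv, map_mul, show QuotientGroup.mk' C c = 1 from
        (QuotientGroup.eq_one_iff c).2 hc, mul_one]
    have h1 := Cfsg.Agent.Lib.Cores.le_pCore hp
    rwa [hbot, le_bot_iff, Subgroup.map_eq_bot_iff, QuotientGroup.ker_mk'] at h1
  have hTLN : TL ≤ N := Subgroup.le_normalizer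
  have hTLp : IsPGroup p TL := hTL ▸ T.2.to_le inf_le_left
  refine ⟨hNC, ?_, ?_⟩
  · set Q := (Cfsg.pCore p ↥N).map N.subtype with hQ
    have hQN : N ≤ Subgroup.normalizer (Q : Set L) :=
      Cfsg.Agent.Lib.CharP.le_normalizer_pCoreOf p N
    have hQp : IsPGroup p Q := Cfsg.Agent.Lib.CharP.isPGroup_pCoreOf p N
    have hQC : Q ≤ C := hkey Q hQN (hQp.map _)
    have hTQ : TL ≤ Q := Cfsg.Agent.Lib.CharP.le_pCoreOf hTLp hTLN le_rfl
    refine le_antisymm ?_ hTQ
    obtain ⟨U, hU, hQU⟩ := Cfsg.Agent.Lib.CosetGraph.SylowIn.IsSylowIn.exists_le hQp hQC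
    have he := Subgroup.eq_of_le_of_card_ge (hTQ.trans hQU) (by rw [hU.card_eq, hS.card_eq])
    exact he ▸ hQU
  · set Z := TL ⊓ Subgroup.centralizer (TL : Set L) with hZ
    have hYT : Y ≤ (T : Subgroup L) :=
      (Cfsg.Agent.Lib.Cores.le_pCore (Cfsg.Agent.Lib.PGroups.elemAb_isPGroup hY.1.2.1)).trans
        (Cfsg.Agent.Lib.Cores.pCore_le_sylow T)
    have hYc : Y ≤ C := fun y hy => Subgroup.mem_centralizer_iff.2 fun z hz =>
      Cfsg.Agent.Lib.PGroups.elemAb_comm hY.1.2.1 hz hy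
    have hYle : Y ≤ Cfsg.omegaOne p Z := fun y hy =>
      Subgroup.subset_closure ⟨⟨hTL ▸ ⟨hYT hy, hYc hy⟩, Subgroup.mem_centralizer_iff.2 fun t ht =>
        (Subgroup.mem_centralizer_iff.1 (hTLC ht) y hy).symm⟩, hY.1.2.1.2 y hy⟩
    refine le_antisymm hYle ?_
    set U := Cfsg.omegaOne p Z with hU
    have hUTL : U ≤ TL := (Cfsg.Agent.Lib.CosetGraph.SylowIn.omegaOne_le p Z).trans inf_le_left
    have hUN : N ≤ Subgroup.normalizer (U : Set L) := fun n hn => by
      rw [Cfsg.Agent.Lib.CosetGraph.SylowIn.mem_normalizer_iff_map, hU,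
        Cfsg.Agent.Lib.CosetGraph.SylowIn.omegaOne_map p _ _ (MulAut.conj n).injective, hZ,
        Subgroup.map_inf_eq _ _ _ (MulAut.conj n).injective,
        Cfsg.Agent.Lib.CosetGraph.SylowIn.centralizer_map_equiv,
        Cfsg.Agent.Lib.CosetGraph.SylowIn.conj_map_eq_self hn]
    have hZc : IsMulCommutative ↥Z :=
      ⟨⟨fun a b => Subtype.ext (Subgroup.mem_centralizer_iff.1 b.2.2 a a.2.1)⟩⟩
    have hUe : Cfsg.IsElementaryAbelian p U := Cfsg.Agent.Lib.PGroups.elemAb_omegaOne hZc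
    haveI : (U.subgroupOf N).Normal :=
      (Subgroup.normal_subgroupOf_iff_le_normalizer (hUTL.trans hTLN)).2 hUN
    have hX : Cfsg.IsPReducedNormal p (U.subgroupOf N) := by
      refine Cfsg.Agent.Lib.LAEven54.ReducedSylow.isPReducedNormal_of
        (Cfsg.Agent.Lib.PGroups.elemAb_subgroupOf hUe N) ?_
      intro D hD hCD hDp
      obtain ⟨-, hDC⟩ : True ∧ D.map N.subtype ≤ C := by
        refine ⟨trivial, hkey _ ?_ ?_⟩
        · exact Cfsg.Agent.Lib.CosetGraph.SylowIn.le_normalizer_map_subtype N D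
        · rintro ⟨_, ⟨_, ⟨d, hd, rfl⟩, rfl⟩⟩
          obtain ⟨k, hk⟩ := hDp ⟨_, ⟨d, hd, rfl⟩⟩
          have hk' : (d ^ p ^ k) ∈ Subgroup.centralizer ((U.subgroupOf N : Subgroup ↥N) : Set ↥N) :=
            (QuotientGroup.eq_one_iff _).1 (congrArg Subtype.val hk)
          refine ⟨k, Subtype.ext ?_⟩
          show (QuotientGroup.mk' C (d : L)) ^ p ^ k = 1
          rw [← map_pow]
          refine (QuotientGroup.eq_one_iff _).2 (Subgroup.mem_centralizer_iff.2 fun y hy => ?_)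
          exact congrArg N.subtype (Subgroup.mem_centralizer_iff.1 hk' ⟨y, hTLN (hUTL (hYle hy))⟩ (hYle hy))
      intro d hd
      obtain ⟨t, ht, htd⟩ := Cfsg.Agent.Lib.LAEven54.ReducedSylow.exists_sylow_part (T.subtype hTN)
        (Subgroup.centralizer ((U.subgroupOf N : Subgroup ↥N) : Set ↥N)) (x := d) (by
          haveI : (D.map (QuotientGroup.mk' (Subgroup.centralizer ((U.subgroupOf N : Subgroup ↥N) : Set ↥N)))).Normal :=
            hD.map _ (QuotientGroup.mk'_surjective _)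
          exact Cfsg.Agent.Lib.Cores.le_pCore hDp ⟨d, hd, rfl⟩)
      have hc := QuotientGroup.eq.1 htd
      have htD : t ∈ D := by
        have := mul_mem hd (inv_mem (hCD hc))
        rwa [show d * (t⁻¹ * d)⁻¹ = t by group] at this
      have htTL : (t : L) ∈ TL := hTL ▸ ⟨ht, hDC ⟨t, htD, rfl⟩⟩
      have htU : t ∈ Subgroup.centralizer ((U.subgroupOf N : Subgroup ↥N) : Set ↥N) :=
        Subgroup.mem_centralizer_iff.2 fun u hu => Subtype.ext
          (Subgroup.mem_centralizer_iff.1 ((Cfsg.Agent.Lib.CosetGraph.SylowIn.omegaOne_le p Z) hu).2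
            (t : L) htTL).symm
      rw [show d = t * (t⁻¹ * d) by group]
      exact mul_mem htU hc
    have h1 := hY.2 _ (Cfsg.Agent.Lib.LAEven54.ReducedSylow.isPReducedNormal_normalClosure hchar T N hTN _ hX)
    rw [Subgroup.map_subgroupOf_eq_of_le (hUTL.trans hTLN)] at h1
    exact (Subgroup.subset_normalClosure).trans h1

end Cfsg.Agent.S2803
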