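import Cfsg.Statements.S2804
import Cfsg.Agent.Lib.LAEven54.Subnormal
import Cfsg.Agent.Lib.LAEven54.ReducedSylow

set_option autoImplicit false
open Cfsg

namespace Cfsg.Agent.S2804

/-- Let L be a finite group and p a prime with C_L(O_p(L)) ≤ O_p(L), V a p-reduced normal subgroup of L and K a subnormal subgroup of L. Then [V, O^p(K)] is contained in K and is a p-reduced normal subgroup of K, where O^p(K) is the subgroup of K generated by its elements of order prime to p. -/
theorem result {L : Type*} [Group L] [Finite L] {p : ℕ} [Fact p.Prime] (hchar : Subgroup.centralizer (Cfsg.pCore p L : Set L) ≤ Cfsg.pCore p L) (V : Subgroup L) (hV : Cfsg.IsPReducedNormal p V) (K : Subgroup L) (hK : K.IsSubnormal) : ⁅V, (Cfsg.pResidual p ↥K).map K.subtype⁆ ≤ K ∧ Cfsg.IsPReducedNormal p ((⁅V, (Cfsg.pResidual p ↥K).map K.subtype⁆).subgroupOf K) := by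
  haveI := hV.1
  have hVp : IsPGroup p V := Cfsg.Agent.Lib.PGroups.elemAb_isPGroup hV.2.1
  set R := (Cfsg.pResidual p ↥K).map K.subtype with hR
  have hsup : K ⊔ V ≤ Subgroup.normalizer (R : Set L) := by
    have h := Cfsg.Agent.Lib.CharP.le_normalizer_map_pResidual (p := p) (K ⊔ V)
    rwa [Cfsg.Agent.Lib.LAEven54.Subnormal.map_pResidual_sup hK hVp] at h
  set U := ⁅V, R⁆ with hU
  have hUR : U ≤ R :=
    Subgroup.le_normalizer_iff_commutator_le_right.1 (le_sup_right.trans hsup)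
  have hUV : U ≤ V := Subgroup.commutator_le_left V R
  have hUK : U ≤ K := hUR.trans (Subgroup.map_subtype_le _)
  have hKU : K ≤ Subgroup.normalizer (U : Set L) := fun g hg => by
    rw [Cfsg.Agent.Lib.CosetGraph.SylowIn.mem_normalizer_iff_map, hU, Subgroup.map_commutator,
      Cfsg.Agent.Lib.CosetGraph.SylowIn.conj_map_eq_self
        (show g ∈ Subgroup.normalizer (V : Set L) by rw [Subgroup.normalizer_eq_top]; trivial),
      Cfsg.Agent.Lib.CosetGraph.SylowIn.conj_map_eq_self (hsup (Subgroup.mem_sup_left hg))]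
  refine ⟨hUK, ?_⟩
  haveI : (U.subgroupOf K).Normal := (Subgroup.normal_subgroupOf_iff_le_normalizer hUK).2 hKU
  have hUe : Cfsg.IsElementaryAbelian p U := Cfsg.Agent.Lib.PGroups.elemAb_mono hV.2.1 hUV
  refine Cfsg.Agent.Lib.LAEven54.ReducedSylow.isPReducedNormal_of
    (Cfsg.Agent.Lib.PGroups.elemAb_subgroupOf hUe K) ?_
  intro D hD hCD hDp
  set C := Subgroup.centralizer (V : Set L) with hC
  obtain ⟨-, -, hCn, hbot⟩ := hV
  have hco : ∀ g ∈ D, (orderOf (g : L)).Coprime p → (g : L) ∈ C := by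
    intro g hg hgo
    obtain ⟨k, hk⟩ := hDp ⟨_, ⟨g, hg, rfl⟩⟩
    have h1 : QuotientGroup.mk' (Subgroup.centralizer ((U.subgroupOf K : Subgroup ↥K) : Set ↥K)) g = 1 :=
      Cfsg.Agent.Lib.CharP.eq_one_of_coprime_of_pElement
        (Nat.Coprime.coprime_dvd_left (orderOf_map_dvd _ g) (by rwa [← Subgroup.orderOf_coe]))
        (congrArg Subtype.val hk)
    have hgU : g ∈ Subgroup.centralizer ((U.subgroupOf K : Subgroup ↥K) : Set ↥K) :=
      (QuotientGroup.eq_one_iff _).1 h1
    have hgR : (g : L) ∈ R := by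
      rw [hR, Cfsg.Agent.Lib.CharP.map_pResidual_subtype]
      exact Subgroup.subset_closure ⟨g.2, hgo⟩
    refine Cfsg.Agent.Lib.CharP.mem_centralizer_of_two_step (hVp.to_le hUV) hgo
      (fun v hv => Subgroup.commutator_mem_commutator hv hgR) (Subgroup.mem_centralizer_iff.2 fun u hu => ?_)
    exact congrArg K.subtype (Subgroup.mem_centralizer_iff.1 hgU ⟨u, hUK hu⟩ hu)
  set D' := D.map K.subtype with hD'
  have hsn : D'.IsSubnormal := Subgroup.IsSubnormal.trans' hD.isSubnormal hK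
  have himg : D'.map (QuotientGroup.mk' C) ≤ Cfsg.pCore p (L ⧸ C) := by
    refine Cfsg.Agent.Lib.Cores.IsSubnormal.le_pCore (hsn.map (QuotientGroup.mk'_surjective C)) ?_
    rintro ⟨_, ⟨_, ⟨g, hg, rfl⟩, rfl⟩⟩
    obtain ⟨a, ha⟩ := Cfsg.Agent.Lib.CharP.exists_pow_coprime (p := p) (g : L)
    refine ⟨a, Subtype.ext ?_⟩
    show (QuotientGroup.mk' C (g : L)) ^ p ^ a = 1
    rw [← map_pow]
    exact (QuotientGroup.eq_one_iff _).2 (hco (g ^ p ^ a) (pow_mem hg _) ha)
  rw [hbot, le_bot_iff, Subgroup.map_eq_bot_iff, QuotientGroup.ker_mk'] at himg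
  intro d hd
  exact Subgroup.mem_centralizer_iff.2 fun u hu => Subtype.ext
    (Subgroup.mem_centralizer_iff.1 (himg ⟨d, hd, rfl⟩) _ (hUV hu))

end Cfsg.Agent.S2804
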