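import Cfsg.Statements.S2805
import Cfsg.Agent.Lib.LAEven54.Average
import Cfsg.Agent.Lib.CosetGraph.SylowIn
import Cfsg.Agent.Lib.CharP.Basic
import Cfsg.Agent.Lib.PGroups.Omega

set_option autoImplicit false
open Cfsg

namespace Cfsg.Agent.S2805

open Cfsg.Agent.Lib.CosetGraph.SylowIn Cfsg.Agent.Lib.LAEven54.Average

variable {G : Type*} [Group G] [Finite G] {p : ℕ} [Fact p.Prime]

omit [Finite G] [Fact p.Prime] in
theorem omegaCenter_mem {Q : Subgroup G} {x : G} (hx : x ∈ Q)
    (hc : x ∈ Subgroup.centralizer (Q : Set G)) (hp : x ^ p = 1) : x ∈ omegaCenter p Q :=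
  Subgroup.subset_closure ⟨⟨hx, hc⟩, hp⟩

omit [Finite G] [Fact p.Prime] in
theorem omegaCenter_isMulCommutative (Q : Subgroup G) : IsMulCommutative ↥(omegaCenter p Q) := by
  refine ⟨⟨fun a b => Subtype.ext ?_⟩⟩
  exact Subgroup.mem_centralizer_iff.1 (omegaOne_le p _ b.2).2 a (omegaOne_le p _ a.2).1

omit [Finite G] [Fact p.Prime] in
theorem omegaCenter_pow {Q : Subgroup G} {x : G} (hx : x ∈ omegaCenter p Q) : x ^ p = 1 := by
  have hc : IsMulCommutative ↥(Q ⊓ Subgroup.centralizer (Q : Set G)) :=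
    ⟨⟨fun a b => Subtype.ext (Subgroup.mem_centralizer_iff.1 b.2.2 a a.2.1)⟩⟩
  exact ((Cfsg.Agent.Lib.PGroups.mem_omegaOne_iff_of_comm hc).1 hx).2

omit [Finite G] [Fact p.Prime] in
theorem le_normalizer_omegaCenter {Q H : Subgroup G}
    (h : H ≤ Subgroup.normalizer (Q : Set G)) : H ≤ Subgroup.normalizer (omegaCenter p Q : Set G) := by
  intro g hg
  rw [mem_normalizer_iff_map, omegaCenter_conj, conj_map_eq_self (h hg)]

/-- `Ω₁(Z(T)) ≤ Ω₁(Z(O_p(H)))` for a Sylow subgroup `T` of `H` of characteristic `p`. -/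
theorem omegaCenter_sylow_le {H T : Subgroup G}
    (hC : H ⊓ Subgroup.centralizer (pCoreOf p H : Set G) ≤ pCoreOf p H) (hT : IsSylowIn p T H) :
    omegaCenter p T ≤ omegaCenter p (pCoreOf p H) := by
  intro x hx
  obtain ⟨h1, h2⟩ := omegaOne_le p _ hx
  have h3 : x ∈ Subgroup.centralizer (pCoreOf p H : Set G) :=
    Subgroup.centralizer_le (pCoreOf_le_sylow hT) h2
  exact omegaCenter_mem (hC ⟨hT.le h1, h3⟩) h3 (omegaCenter_pow hx)

theorem isSylowIn_inf {K L T : Subgroup G} (hT : IsSylowIn p T K) (hLK : L ≤ K)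
    (hn : K ≤ Subgroup.normalizer (L : Set G)) : IsSylowIn p (T ⊓ L) L := by
  obtain ⟨U, hU, hle⟩ := IsSylowIn.exists_le (p := p) (H := L) (P := T ⊓ L)
    (hT.isPGroup.to_le inf_le_left) inf_le_right
  obtain ⟨T', hT', hUT'⟩ := IsSylowIn.exists_le (p := p) (H := K) hU.isPGroup (hU.le.trans hLK)
  obtain ⟨g, hg, hgT⟩ := hT'.exists_conj hT
  have h1 : U.map (MulAut.conj g).toMonoidHom ≤ T ⊓ L := by
    refine le_inf (hgT ▸ Subgroup.map_mono hUT') ?_
    calc U.map (MulAut.conj g).toMonoidHom ≤ L.map (MulAut.conj g).toMonoidHom :=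
          Subgroup.map_mono hU.le
      _ = L := conj_map_eq_self (hn hg)
  have h2 := Subgroup.card_le_of_le h1
  rw [Subgroup.card_map_of_injective (f := (MulAut.conj g).toMonoidHom) (MulAut.conj g).injective] at h2
  have h3 : T ⊓ L = U := Subgroup.eq_of_le_of_card_ge hle h2
  exact h3 ▸ hU

theorem normal_step {K L T : Subgroup G}
    (hK : Subgroup.centralizer (pCore p K : Set K) ≤ pCore p K) (hT : IsSylowIn p T K)
    (hLK : L ≤ K) (hn : K ≤ Subgroup.normalizer (L : Set G)) :
    L ⊓ Subgroup.centralizer (omegaCenter p T : Set G) =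
      L ⊓ Subgroup.centralizer (omegaCenter p (T ⊓ L) : Set G) := by
  set S := T ⊓ L with hS
  have hSL : IsSylowIn p S L := isSylowIn_inf hT hLK hn
  have hLc := Cfsg.Agent.Lib.CharP.charP_of_normal_le hK hLK hn
  have hQT : pCoreOf p K ≤ T := pCoreOf_le_sylow hT
  have hTS : T ≤ Subgroup.normalizer (S : Set G) := fun t ht => by
    rw [mem_normalizer_iff_map, hS, Subgroup.map_inf_eq _ _ _ (MulAut.conj t).injective,
      conj_map_eq_self (Subgroup.le_normalizer ht), conj_map_eq_self (hn (hT.le ht))]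
  have hSn : S ≤ Subgroup.normalizer (S : Set G) := Subgroup.le_normalizer
  apply le_antisymm
  · -- `C_L(B)` centralizes `A`
    intro x hx
    refine ⟨hx.1, ?_⟩
    set M := L ⊓ Subgroup.centralizer (omegaCenter p T : Set G) with hM
    set W := omegaCenter p (pCoreOf p L)
    have hWn : L ≤ Subgroup.normalizer (W : Set G) := le_normalizer_omegaCenter (le_normalizer_pCoreOf p L)
    have hSM : S ≤ M := le_inf inf_le_right fun s hs => Subgroup.mem_centralizer_iff.2 fun b hb =>
      (Subgroup.mem_centralizer_iff.1 (omegaOne_le p _ hb).2 s hs.1).symm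
    obtain ⟨e, he1, he2, he3⟩ := exists_average (omegaCenter_isMulCommutative (pCoreOf p L)) hSM
      (inf_le_left.trans hWn)
    have hAW : omegaCenter p S ≤ W := omegaCenter_sylow_le ((charP_iff p L).1 hLc) hSL
    have hfix : ∀ v ∈ omegaCenter p S, v ∈ fixedPart W S := fun v hv =>
      ⟨hAW hv, (omegaOne_le p _ hv).2⟩
    have heA : ∀ v ∈ omegaCenter p S, e v ∈ omegaCenter p S := fun v hv => by
      have h := (he1 v (hfix v hv)).1
      exact omegaCenter_mem (pCoreOf_le_sylow hSL (omegaOne_le p _ h.1).1)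
        (Subgroup.centralizer_le hSM h.2) (omegaCenter_pow h.1)
    have he0 : e 1 = 1 := by rw [he2 1 (one_mem _), one_pow]
    have hmul : ∀ v ∈ omegaCenter p S, ∀ w ∈ omegaCenter p S, e (v * w) = e v * e w :=
      fun v hv w hw => (he1 v (hfix v hv)).2.2 w (hfix w hw)
    have hinv : ∀ v ∈ omegaCenter p S, e v⁻¹ = (e v)⁻¹ := fun v hv => by
      refine eq_inv_of_mul_eq_one_left ?_
      rw [← hmul _ (inv_mem hv) v hv, inv_mul_cancel, he0]
    let N : Subgroup G :=
      { carrier := {v | v ∈ omegaCenter p S ∧ e v = 1}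
        one_mem' := ⟨one_mem _, he0⟩
        mul_mem' := fun {a b} ha hb => ⟨mul_mem ha.1 hb.1, by rw [hmul a ha.1 b hb.1, ha.2, hb.2, mul_one]⟩
        inv_mem' := fun {a} ha => ⟨inv_mem ha.1, by rw [hinv a ha.1, ha.2, inv_one]⟩ }
    have hn' : ∀ v, ∀ h : v ∈ fixedPart W M, e v = v ^ S.relIndex M := he2
    have hco : Nat.Coprime p (S.relIndex M) := by
      have hSM' : IsSylowIn p S M := hSL.of_le_le hSM inf_le_left
      obtain ⟨P, hP⟩ := hSM'.exists_sylow
      refine (Nat.Prime.coprime_iff_not_dvd Fact.out).2 ?_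
      have : S.subgroupOf M = (P : Subgroup M) := by
        rw [hP]; exact Subgroup.comap_map_eq_self_of_injective M.subtype_injective _
      rw [Subgroup.relIndex, this]
      exact P.not_dvd_index
    have hN : N = ⊥ := by
      by_contra hne
      have hNT : N ≤ T := fun v hv => ((omegaOne_le p _ hv.1).1).1
      have hNn : (N.subgroupOf T).Normal := by
        refine ⟨fun v hv t => ?_⟩
        obtain ⟨hvA, hve⟩ := hv
        have htA : (t : G) * v * (t : G)⁻¹ ∈ omegaCenter p S :=
          (Subgroup.mem_normalizer_iff.1 (le_normalizer_omegaCenter hTS t.2) _).1 hvA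
        have htQ : (t : G) ∈ Subgroup.normalizer (pCoreOf p L : Set G) := by
          rw [mem_normalizer_iff_map, pCoreOf_map p L _ (MulAut.conj (t : G)).injective,
            conj_map_eq_self (hn (hT.le t.2))]
        have hm : (t : G) ∈ Subgroup.normalizer (M : Set G) := by
          rw [mem_normalizer_iff_map, hM, Subgroup.map_inf_eq _ _ _ (MulAut.conj (t : G)).injective,
            centralizer_map_equiv, conj_map_eq_self (hn (hT.le t.2)), omegaCenter_conj,
            conj_map_eq_self (Subgroup.le_normalizer t.2)]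
        have htW : (t : G) ∈ Subgroup.normalizer (W : Set G) :=
          le_normalizer_omegaCenter (H := Subgroup.normalizer (pCoreOf p L : Set G)) le_rfl htQ
        refine ⟨htA, ?_⟩
        show e ((t : G) * v * (t : G)⁻¹) = 1
        have hve' : e (v : G) = 1 := hve
        refine (he3 t htW hm (hTS t.2) _ (hfix _ hvA) (hfix _ htA)).trans ?_
        show (t : G) * e (v : G) * (t : G)⁻¹ = 1
        rw [hve', mul_one, mul_inv_cancel]
      have hne' : N.subgroupOf T ≠ ⊥ := by
        rw [Ne, Subgroup.subgroupOf_eq_bot, disjoint_iff, inf_eq_left.2 hNT]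
        exact hne
      obtain ⟨z, ⟨hz1, hz2⟩, hz0⟩ := (Subgroup.ne_bot_iff_exists_ne_one.1
        (Cfsg.Agent.Lib.PGroups.normal_inf_center_ne_bot hT.isPGroup (N.subgroupOf T) hne')).imp'
        Subtype.val (q := fun z => z ∈ N.subgroupOf T ⊓ Subgroup.center T ∧ z ≠ 1)
        (fun a ha => ⟨a.2, fun h => ha (Subtype.ext h)⟩)
      obtain ⟨hzA, hze⟩ := hz1
      have hzB : (z : G) ∈ omegaCenter p T := omegaCenter_mem z.2
        (Subgroup.mem_centralizer_iff.2 fun t ht => congrArg Subtype.val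
          (Subgroup.mem_center_iff.1 hz2 ⟨t, ht⟩)) (omegaCenter_pow hzA)
      have hzM : (z : G) ∈ fixedPart W M := ⟨hAW hzA, Subgroup.mem_centralizer_iff.2 fun m hm =>
        (Subgroup.mem_centralizer_iff.1 hm.2 _ hzB).symm⟩
      have : (z : G) ^ S.relIndex M ∈ (⊥ : Subgroup G) := by
        rw [← hn' _ hzM]; exact hze
      exact hz0 (Subtype.ext (Subgroup.mem_bot.1 (mem_of_pow_mem (omegaCenter_pow hzA) hco this)))
    have hpow : ∀ v ∈ omegaCenter p S, ∀ n : ℕ, e (v ^ n) = e v ^ n := by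
      intro v hv n
      induction n with
      | zero => simpa using he0
      | succ n ih => rw [pow_succ, hmul _ (pow_mem hv n) v hv, ih, pow_succ]
    refine Subgroup.mem_centralizer_iff.2 fun a ha => ?_
    have hu := heA a ha
    have h1 : a ^ S.relIndex M * (e a)⁻¹ ∈ N := by
      refine ⟨mul_mem (pow_mem ha _) (inv_mem hu), ?_⟩
      rw [hmul _ (pow_mem ha _) _ (inv_mem hu), hpow a ha, hinv _ hu,
        hn' _ (he1 a (hfix a ha)).1, mul_inv_cancel]
    rw [hN, Subgroup.mem_bot, mul_inv_eq_one] at h1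
    have h2 : a ^ S.relIndex M ∈ Subgroup.centralizer (M : Set G) :=
      h1 ▸ (he1 a (hfix a ha)).1.2
    have h3 := mem_of_pow_mem (omegaCenter_pow ha) hco h2
    exact (Subgroup.mem_centralizer_iff.1 h3 x hx).symm
  · -- `C_L(A)` centralizes `B`
    intro x hx
    refine ⟨hx.1, ?_⟩
    set M := L ⊓ Subgroup.centralizer (omegaCenter p S : Set G) with hM
    set W := omegaCenter p (pCoreOf p K)
    have hWn : K ≤ Subgroup.normalizer (W : Set G) := le_normalizer_omegaCenter (le_normalizer_pCoreOf p K)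
    have hSM : S ≤ M := le_inf inf_le_right fun s hs => Subgroup.mem_centralizer_iff.2 fun b hb =>
      (Subgroup.mem_centralizer_iff.1 (omegaOne_le p _ hb).2 s hs).symm
    obtain ⟨e, he1, -, -⟩ := exists_average (omegaCenter_isMulCommutative (pCoreOf p K)) hSM
      (inf_le_left.trans (hLK.trans hWn))
    have hBW : omegaCenter p T ≤ W := omegaCenter_sylow_le ((charP_iff p K).1 hK) hT
    refine Subgroup.mem_centralizer_iff.2 fun b hb => ?_
    have hbS : b ∈ fixedPart W S :=
      ⟨hBW hb, Subgroup.centralizer_le (inf_le_left : S ≤ T) (omegaOne_le p _ hb).2⟩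
    obtain ⟨h1, h2, -⟩ := he1 b hbS
    set d := e b * (b ^ S.relIndex M)⁻¹ with hd
    have hdW : d ∈ W := mul_mem h1.1 (inv_mem (pow_mem hbS.1 _))
    have hWK : W ≤ K := fun w hw => pCoreOf_le p K (omegaOne_le p _ hw).1
    have hdS : d ∈ S := ⟨hQT (omegaOne_le p _ hdW).1,
      ((Subgroup.commutator_mono le_rfl inf_le_left).trans
        (Subgroup.le_normalizer_iff_commutator_le_right.1 (hWK.trans hn))) h2⟩
    have hdA : d ∈ omegaCenter p S := omegaCenter_mem hdS
      (mul_mem (Subgroup.centralizer_le hSM h1.2) (inv_mem (pow_mem hbS.2 _))) (omegaCenter_pow hdW)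
    have hbn : b ^ S.relIndex M = d⁻¹ * e b := by rw [hd]; group
    have hdM : d ∈ Subgroup.centralizer (M : Set G) := Subgroup.mem_centralizer_iff.2 fun m hm =>
      (Subgroup.mem_centralizer_iff.1 hm.2 d hdA).symm
    have h3 : b ^ S.relIndex M ∈ Subgroup.centralizer (M : Set G) :=
      hbn ▸ mul_mem (inv_mem hdM) h1.2
    have hco : Nat.Coprime p (S.relIndex M) := by
      have hSM' : IsSylowIn p S M := hSL.of_le_le hSM inf_le_left
      obtain ⟨P, hP⟩ := hSM'.exists_sylow
      refine (Nat.Prime.coprime_iff_not_dvd Fact.out).2 ?_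
      have : S.subgroupOf M = (P : Subgroup M) := by
        rw [hP]; exact Subgroup.comap_map_eq_self_of_injective M.subtype_injective _
      rw [Subgroup.relIndex, this]
      exact P.not_dvd_index
    exact (Subgroup.mem_centralizer_iff.1 (mem_of_pow_mem (omegaCenter_pow hb) hco h3) x hx).symm

/-- The centralizer in a subnormal subgroup `L` of `Ω₁(Z(T))` equals that of `Ω₁(Z(T ∩ L))`. -/
theorem result {H : Type*} [Group H] [Finite H] {p : ℕ} [Fact p.Prime] (hH : Subgroup.centralizer (Cfsg.pCore p H : Set H) ≤ Cfsg.pCore p H) (T : Sylow p H) (L : Subgroup H) (hL : L.IsSubnormal) : L ⊓ Subgroup.centralizer ((Cfsg.omegaOne p ((T : Subgroup H) ⊓ Subgroup.centralizer ((T : Subgroup H) : Set H))) : Set H) = L ⊓ Subgroup.centralizer ((Cfsg.omegaOne p (((T : Subgroup H) ⊓ L) ⊓ Subgroup.centralizer ((((T : Subgroup H) ⊓ L) : Subgroup H) : Set H))) : Set H) := by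
  suffices key : L ⊓ Subgroup.centralizer (omegaCenter p (T : Subgroup H) : Set H) =
      L ⊓ Subgroup.centralizer (omegaCenter p ((T : Subgroup H) ⊓ L) : Set H) ∧
      IsSylowIn p ((T : Subgroup H) ⊓ L) L from key.1
  induction hL with
  | top =>
    rw [inf_top_eq]
    exact ⟨rfl, le_top, by rw [Subgroup.card_top]; exact T.card_eq_multiplicity⟩
  | step L K hle hKs hN ih =>
    obtain ⟨hi, hTK⟩ := ih
    have hn := (Subgroup.normal_subgroupOf_iff_le_normalizer hle).1 hN
    have hcK := Cfsg.Agent.Lib.CharP.charP_of_isSubnormal hH hKs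
    have he : (T : Subgroup H) ⊓ K ⊓ L = (T : Subgroup H) ⊓ L := by
      rw [inf_assoc, inf_eq_right.2 hle]
    refine ⟨?_, he ▸ isSylowIn_inf hTK hle hn⟩
    rw [← he, ← normal_step hcK hTK hle hn]
    conv_lhs => rw [← inf_eq_left.2 hle, inf_assoc, hi]
    conv_rhs => rw [← inf_eq_left.2 hle, inf_assoc]

end Cfsg.Agent.S2805
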