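import Cfsg.Statements.S2806
import Cfsg.Agent.S2805
import Cfsg.Agent.Lib.LAEven54.SylowJoin

set_option autoImplicit false
open Cfsg

namespace Cfsg.Agent.S2806

open Cfsg.Agent.Lib.CosetGraph.SylowIn

variable {G : Type*} [Group G] [Finite G] {p : ℕ} [Fact p.Prime]

/-- A subnormal subgroup of a group of characteristic `p`, in ambient terms. -/
theorem charP_of_subnormal_in {N X : Subgroup G}
    (hN : Subgroup.centralizer (pCore p N : Set N) ≤ pCore p N) (hXN : X ≤ N)
    (hX : (X.subgroupOf N).IsSubnormal) : Subgroup.centralizer (pCore p X : Set X) ≤ pCore p X := by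
  have h := charP_map p _ N.subtype N.subtype_injective
    ((charP_iff p _).1 (Cfsg.Agent.Lib.CharP.charP_of_isSubnormal hN hX))
  rw [Subgroup.map_subgroupOf_eq_of_le hXN] at h
  exact (charP_iff p X).2 h

theorem omegaCenter_ne_bot {S : Subgroup G} (hS : IsPGroup p S) (hne : S ≠ ⊥) :
    omegaCenter p S ≠ ⊥ := by
  refine fun h => ?_
  have hz := eq_bot_of_omegaOne_eq_bot (hS.to_le inf_le_left) h
  haveI : Nontrivial S := (Subgroup.nontrivial_iff_ne_bot S).2 hne
  have := hS.center_nontrivial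
  obtain ⟨⟨z, hz'⟩, hz1⟩ := exists_ne (1 : Subgroup.center S)
  have hmem : (z : G) ∈ S ⊓ Subgroup.centralizer (S : Set G) := ⟨z.2,
    Subgroup.mem_centralizer_iff.2 fun s hs => congrArg S.subtype (Subgroup.mem_center_iff.1 hz' ⟨s, hs⟩)⟩
  rw [hz, Subgroup.mem_bot] at hmem
  exact hz1 (Subtype.ext (Subtype.ext hmem))

/-- One step of the subnormal series, in a group of local characteristic `p`. -/
theorem local_step (hH : IsOfLocalCharacteristic p G) {K L T : Subgroup G} (hKs : K.IsSubnormal)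
    (hT : IsSylowIn p T K) (hLK : L ≤ K) (hn : K ≤ Subgroup.normalizer (L : Set G))
    (hne : T ⊓ L ≠ ⊥) :
    L ⊓ Subgroup.centralizer (omegaCenter p T : Set G) =
      L ⊓ Subgroup.centralizer (omegaCenter p (T ⊓ L) : Set G) := by
  set A := omegaCenter p (T ⊓ L)
  set B := omegaCenter p T
  have hTne : T ≠ ⊥ := fun h => hne (by rw [h, bot_inf_eq])
  have hA1 : A ≠ ⊥ := omegaCenter_ne_bot (hT.isPGroup.to_le inf_le_left) hne
  have hB1 : B ≠ ⊥ := omegaCenter_ne_bot hT.isPGroup hTne
  -- a Sylow overgroup inside `K` of characteristic `p`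
  have key : ∀ N : Subgroup G, N ≤ K → T ≤ N →
      Subgroup.centralizer (pCore p N : Set N) ≤ pCore p N →
      L ⊓ N ⊓ Subgroup.centralizer (B : Set G) = L ⊓ N ⊓ Subgroup.centralizer (A : Set G) := by
    intro N hNK hTN hNc
    have h := Cfsg.Agent.S2805.normal_step hNc (hT.of_le_le hTN hNK) (inf_le_right : L ⊓ N ≤ N)
      (le_trans (le_inf (hNK.trans hn) Subgroup.le_normalizer) Subgroup.inf_normalizer_le_normalizer_inf)
    rwa [← inf_assoc, inf_eq_left.2 (inf_le_left.trans hTN : T ⊓ L ≤ N)] at h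
  refine le_antisymm ?_ ?_
  · have hloc := hH.2 B (hT.isPGroup.to_le ((omegaOne_le p _).trans inf_le_left)) hB1
    set N₀ := Subgroup.normalizer (B : Set G) with hN₀
    have hCn : ((Subgroup.centralizer (B : Set G)).subgroupOf N₀).Normal := inferInstance
    have hN : Subgroup.centralizer (pCore p ↥(K ⊓ Subgroup.centralizer (B : Set G)) : Set ↥(K ⊓ Subgroup.centralizer (B : Set G))) ≤ pCore p ↥(K ⊓ Subgroup.centralizer (B : Set G)) := by
      refine charP_of_subnormal_in hloc (inf_le_right.trans (Subgroup.centralizer_le_normalizer _)) ?_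
      exact hKs.subgroupOf.inf hCn.isSubnormal
    have hTN : T ≤ K ⊓ Subgroup.centralizer (B : Set G) := le_inf hT.le fun t ht =>
      Subgroup.mem_centralizer_iff.2 fun b hb =>
        (Subgroup.mem_centralizer_iff.1 (omegaOne_le p _ hb).2 t ht).symm
    intro x hx
    have h := (key _ inf_le_left hTN hN).le
      (show x ∈ L ⊓ (K ⊓ Subgroup.centralizer (B : Set G)) ⊓ Subgroup.centralizer (B : Set G) from
        ⟨⟨hx.1, hLK hx.1, hx.2⟩, hx.2⟩)
    exact ⟨hx.1, h.2⟩
  · have hloc := hH.2 A (hT.isPGroup.to_le ((omegaOne_le p _).trans (inf_le_left.trans inf_le_left))) hA1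
    set N₀ := Subgroup.normalizer (A : Set G) with hN₀
    have hN : Subgroup.centralizer (pCore p ↥(K ⊓ N₀) : Set ↥(K ⊓ N₀)) ≤ pCore p ↥(K ⊓ N₀) := by
      refine charP_of_subnormal_in hloc inf_le_right ?_
      exact hKs.subgroupOf.inf (Subgroup.subgroupOf_self (H := N₀) ▸ Subgroup.IsSubnormal.top)
    have hTN : T ≤ K ⊓ N₀ := le_inf hT.le
      (Cfsg.Agent.S2805.le_normalizer_omegaCenter
        (le_trans (le_inf Subgroup.le_normalizer (hT.le.trans hn)) Subgroup.inf_normalizer_le_normalizer_inf))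
    intro x hx
    have h := (key _ inf_le_left hTN hN).ge
      (show x ∈ L ⊓ (K ⊓ N₀) ⊓ Subgroup.centralizer (A : Set G) from
        ⟨⟨hx.1, hLK hx.1, Subgroup.centralizer_le_normalizer _ hx.2⟩, hx.2⟩)
    exact ⟨hx.1, h.2⟩

theorem centralizer_eq (hH : IsOfLocalCharacteristic p G) (T : Sylow p G) {L : Subgroup G}
    (hL : L.IsSubnormal) (hne : (T : Subgroup G) ⊓ L ≠ ⊥) :
    L ⊓ Subgroup.centralizer (omegaCenter p (T : Subgroup G) : Set G) =
      L ⊓ Subgroup.centralizer (omegaCenter p ((T : Subgroup G) ⊓ L) : Set G) := by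
  induction hL with
  | top => rw [inf_top_eq]
  | step L K hle hKs hN ih =>
    have hi := ih fun h => hne (le_bot_iff.1 ((inf_le_inf_left _ hle).trans h.le))
    have hn := (Subgroup.normal_subgroupOf_iff_le_normalizer hle).1 hN
    have he : (T : Subgroup G) ⊓ K ⊓ L = (T : Subgroup G) ⊓ L := by
      rw [inf_assoc, inf_eq_right.2 hle]
    rw [← he, ← local_step hH hKs (Cfsg.Agent.Lib.LAEven54.SylowJoin.isSylowIn_inf T hKs) hle hn
      (he ▸ hne)]
    conv_lhs => rw [← inf_eq_left.2 hle, inf_assoc, hi]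
    conv_rhs => rw [← inf_eq_left.2 hle, inf_assoc]

/-- The point stabilizer of a subnormal subgroup, computed with a Sylow subgroup of the whole group. -/
theorem pointStabilizer_eq (hH : IsOfLocalCharacteristic p G) (T : Sylow p G) {L : Subgroup G}
    (hL : L.IsSubnormal) :
    pointStabilizer p L ((T : Subgroup G) ⊓ L) =
      pElementClosure p (L ⊓ Subgroup.centralizer (omegaCenter p (T : Subgroup G) : Set G)) := by
  by_cases hne : (T : Subgroup G) ⊓ L = ⊥
  · have hLp : ∀ x ∈ L, (∃ k, orderOf x = p ^ k) → x = 1 := by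
      intro x hx hk
      obtain ⟨k, hk⟩ := hk
      have hS := Cfsg.Agent.Lib.LAEven54.SylowJoin.isSylowIn_inf T hL
      have hz : IsPGroup p (Subgroup.zpowers x) := IsPGroup.of_card (by rw [Nat.card_zpowers, hk])
      obtain ⟨U, hU, hxU⟩ := IsSylowIn.exists_le hz (Subgroup.zpowers_le.2 hx)
      have : Nat.card U = 1 := by rw [hU.card_eq, ← hS.card_eq, hne, Subgroup.card_bot]
      rw [Subgroup.card_eq_one] at this
      rw [this, le_bot_iff, Subgroup.zpowers_eq_bot] at hxU
      exact hxU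
    rw [pointStabilizer, pElementClosure]
    refine le_antisymm ((Subgroup.closure_le _).2 fun x hx => ?_) ((Subgroup.closure_le _).2 fun x hx => ?_) <;>
      · rw [hLp x hx.1.1 hx.2]; exact one_mem _
  · rw [pointStabilizer, pElementClosure, centralizer_eq hH T hL hne]

/-- A subnormal subgroup containing a Sylow subgroup contains all elements of `p`-power order. -/
theorem mem_of_subnormal {M : Subgroup G} {N : Subgroup M} (hN : N.IsSubnormal) (S : Sylow p M)
    (hS : (S : Subgroup M) ≤ N) {x : M} {k : ℕ} (hx : orderOf x = p ^ k) : x ∈ N := by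
  induction hN with
  | top => trivial
  | step N K hle hKs hn ih =>
    have hxK := ih (hS.trans hle)
    haveI := hn
    have hidx : ¬ p ∣ (N.subgroupOf K).index := fun hd =>
      S.not_dvd_index ((hd.trans (Subgroup.relIndex_dvd_index_of_le hle)).trans (Subgroup.index_dvd_of_le hS))
    have h1 : orderOf (QuotientGroup.mk' (N.subgroupOf K) ⟨x, hxK⟩) = 1 := by
      refine Nat.eq_one_of_dvd_coprimes ((Nat.Prime.coprime_iff_not_dvd Fact.out).2 hidx |>.pow_left k) ?_ ?_
      · have := orderOf_map_dvd (QuotientGroup.mk' (N.subgroupOf K)) ⟨x, hxK⟩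
        rwa [Subgroup.orderOf_mk, hx] at this
      · rw [Subgroup.index_eq_card]
        exact orderOf_dvd_natCard _
    exact Subgroup.mem_subgroupOf.1 ((QuotientGroup.eq_one_iff _).1 (orderOf_eq_one_iff.1 h1))

/-- The point stabilizer of a join of two subnormal subgroups is generated by their point stabilizers. -/
theorem result {H : Type*} [Group H] [Finite H] {p : ℕ} [Fact p.Prime] (hH : Cfsg.IsOfLocalCharacteristic p H) (T : Sylow p H) (L₁ L₂ : Subgroup H) (h₁ : L₁.IsSubnormal) (h₂ : L₂.IsSubnormal) : Cfsg.pointStabilizer p (L₁ ⊔ L₂) ((T : Subgroup H) ⊓ (L₁ ⊔ L₂)) = Cfsg.pointStabilizer p L₁ ((T : Subgroup H) ⊓ L₁) ⊔ Cfsg.pointStabilizer p L₂ ((T : Subgroup H) ⊓ L₂) := by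
  have hL := Cfsg.Agent.Lib.Cores.Subnormal.sup h₁ h₂
  rw [pointStabilizer_eq hH T hL, pointStabilizer_eq hH T h₁, pointStabilizer_eq hH T h₂]
  set C := Subgroup.centralizer (omegaCenter p (T : Subgroup H) : Set H) with hC
  have hTC : (T : Subgroup H) ≤ C := fun t ht => Subgroup.mem_centralizer_iff.2 fun b hb =>
    (Subgroup.mem_centralizer_iff.1 (omegaOne_le p _ hb).2 t ht).symm
  set L := L₁ ⊔ L₂
  set P₁ := pElementClosure p (L₁ ⊓ C) with hP₁
  set P₂ := pElementClosure p (L₂ ⊓ C) with hP₂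
  set M := L ⊓ C with hM
  have hsn : ∀ X : Subgroup H, X.IsSubnormal → X ≤ L →
      ((pElementClosure p (X ⊓ C)).subgroupOf M).IsSubnormal := by
    intro X hX hXL
    have hXM : X ⊓ C ≤ M := inf_le_inf_right C hXL
    have h1 : ((X ⊓ C).subgroupOf M).IsSubnormal := by
      have : (X ⊓ C).subgroupOf M = X.subgroupOf M := by
        ext m
        exact ⟨fun h => h.1, fun h => ⟨h, m.2.2⟩⟩
      exact this ▸ hX.subgroupOf
    exact Subgroup.IsSubnormal.step _ _
      (Subgroup.comap_mono (pElementClosure_le p _)) h1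
      ((Subgroup.normal_subgroupOf_iff_le_normalizer (Subgroup.comap_mono (pElementClosure_le p _))).2
        (le_trans (Subgroup.comap_mono (le_normalizer_pElementClosure p (X ⊓ C)))
          (Subgroup.le_normalizer_comap M.subtype)))
  have hPM : ∀ X : Subgroup H, X ≤ L → pElementClosure p (X ⊓ C) ≤ M := fun X hX =>
    (pElementClosure_le p _).trans (inf_le_inf_right C hX)
  refine le_antisymm ((Subgroup.closure_le _).2 ?_) (sup_le ?_ ?_)
  · rintro x ⟨hxM, k, hk⟩
    have hS : IsSylowIn p ((T : Subgroup H) ⊓ L) M :=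
      (Cfsg.Agent.Lib.LAEven54.SylowJoin.isSylowIn_inf T hL).of_le_le
        (le_inf inf_le_right (inf_le_left.trans hTC)) inf_le_left
    obtain ⟨S, hSeq⟩ := hS.exists_sylow
    have hsub : (T : Subgroup H) ⊓ L ≤ P₁ ⊔ P₂ := by
      rw [inf_comm, Cfsg.Agent.Lib.LAEven54.SylowJoin.inf_sup_eq T h₁ h₂]
      exact sup_le_sup (le_pElementClosure (T.2.to_le inf_le_right) (le_inf inf_le_left (inf_le_right.trans hTC)))
        (le_pElementClosure (T.2.to_le inf_le_right) (le_inf inf_le_left (inf_le_right.trans hTC)))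
    have hJ : ((P₁ ⊔ P₂).subgroupOf M).IsSubnormal := by
      rw [Subgroup.subgroupOf_sup (hPM L₁ le_sup_left) (hPM L₂ le_sup_right)]
      exact Cfsg.Agent.Lib.Cores.Subnormal.sup (hsn L₁ h₁ le_sup_left) (hsn L₂ h₂ le_sup_right)
    exact mem_of_subnormal hJ S (fun s hs => hsub (hSeq ▸ ⟨s, hs, rfl⟩))
      (x := ⟨x, hxM⟩) (k := k) (by rw [Subgroup.orderOf_mk]; exact hk)
  · exact Subgroup.closure_mono fun x hx => ⟨⟨Subgroup.mem_sup_left hx.1.1, hx.1.2⟩, hx.2⟩
  · exact Subgroup.closure_mono fun x hx => ⟨⟨Subgroup.mem_sup_right hx.1.1, hx.1.2⟩, hx.2⟩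

end Cfsg.Agent.S2806
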