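import Cfsg.Statements.S2808
import Cfsg.Agent.Lib.PushUpP.Common
import Cfsg.Agent.Lib.PushPair69.Reduction

set_option autoImplicit false
set_option linter.style.haveILetI false
universe u
open Cfsg

namespace Cfsg.Agent.S2808

open Cfsg.Agent.Lib.PushPair69 Cfsg.Agent.Lib.PushUpP

theorem omZ_char (p : ℕ) (S : Type u) [Group S] : (omZ p S).Characteristic :=
  Subgroup.characteristic_iff_le_comap.mpr fun φ a ha =>
    ⟨Subgroup.characteristic_iff_le_comap.mp inferInstance φ ha.1,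
      show φ a ^ p = 1 by rw [← map_pow, ha.2, map_one]⟩

theorem inf_omZ_ne {S : Type u} [Group S] [Finite S] {p : ℕ} [Fact p.Prime] (hS : IsPGroup p S)
    {H : Subgroup S} (hH : H.Normal) (h : H ≠ ⊥) : H ⊓ omZ p S ≠ ⊥ := by
  intro h0
  refine Cfsg.Agent.Lib.PGroups.normal_inf_center_ne_bot hS H h ?_
  have hp : IsPGroup p ↥(H ⊓ Subgroup.center S) := hS.to_subgroup _
  by_contra hne
  haveI : Nontrivial ↥(H ⊓ Subgroup.center S) := (Subgroup.nontrivial_iff_ne_bot _).mpr hne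
  obtain ⟨k, hk, hcard⟩ := hp.nontrivial_iff_card.mp inferInstance
  obtain ⟨x, hx⟩ := exists_prime_orderOf_dvd_card' p (by rw [hcard]; exact dvd_pow_self _ (by omega))
  have hx1 : (x : S) ∈ H ⊓ omZ p S := ⟨x.2.1, x.2.2, by
    rw [← orderOf_dvd_iff_pow_eq_one, Subgroup.orderOf_coe, hx]⟩
  rw [h0, Subgroup.mem_bot] at hx1
  have h2 := congrArg orderOf hx1
  rw [Subgroup.orderOf_coe, hx, orderOf_one] at h2
  exact (Fact.out : p.Prime).ne_one h2

/-- Let p be a prime and S a finite p-group with J(S) generated by the abelian subgroups of largest order, Z(J(S)) its centre and J̃(S) = C_S(Z(J(S))). Put S₀ = [Φ(S), S]·Φ(Φ(S)) if p = 2, S₀ = [[Φ(S), S], S]·Φ(Φ(S)) if p = 3, and S₀ = [Φ(S), S]·℧¹(S) if p > 3. If [Z(J(S)), S] ≠ 1 or S₀ ≠ 1, then S has nontrivial characteristic subgroups S₁ ≤ Z(S) and S₂ ≤ J̃(S), with S₂ characteristic in J̃(S), such that in every finite group G containing S as a Sylow p-subgroup with C_G(O_p(G))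 ≤ O_p(G), S in exactly one maximal subgroup of G, and G/K ≅ PSL₂(p^n) for some normal K and n ≥ 1, at least one of S₁, S₂ is normal. -/
theorem result {S : Type u} [Group S] [Finite S] {p : ℕ} [Fact p.Prime] (hS : IsPGroup p S) (S₀ : Subgroup S) (hS₀ : S₀ = if p = 2 then ⁅frattini S, (⊤ : Subgroup S)⁆ ⊔ (frattini ↥(frattini S)).map (frattini S).subtype else if p = 3 then ⁅⁅frattini S, (⊤ : Subgroup S)⁆, (⊤ : Subgroup S)⁆ ⊔ (frattini ↥(frattini S)).map (frattini S).subtype else ⁅frattini S, (⊤ : Subgroup S)⁆ ⊔ Cfsg.powerClosure p 1 (⊤ : Subgroup S)) (h : ⁅Cfsg.thompsonSubgroupA S ⊓ Subgroup.centralizer (Cfsg.thompsonSubgroupA S : Set S), (⊤ : Subgroup S)⁆ ≠ ⊥ ∨ S₀ ≠ ⊥) : ∃ S₁ S₂ : Subgroup S, S₁ ≠ ⊥ ∧ S₂ ≠ ⊥ ∧ S₁.Characteristic ∧ S₂.Characteristic ∧ S₁ ≤ Subgroup.center S ∧ S₂ ≤ Subgroup.centralizer ((Cfsg.thompsonSubgroupA S ⊓ Subgroup.centralizer (Cfsg.thompsonSubgroupA S : Set S) : Subgroup S) : Set S) ∧ (S₂.subgroupOf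 (Subgroup.centralizer ((Cfsg.thompsonSubgroupA S ⊓ Subgroup.centralizer (Cfsg.thompsonSubgroupA S : Set S) : Subgroup S) : Set S))).Characteristic ∧ ∀ (G : Type u) [Group G] [Finite G] (τ : S →* G), Function.Injective τ → (∃ P : Sylow p G, (P : Subgroup G) = τ.range) → Subgroup.centralizer (Cfsg.pCore p G : Set G) ≤ Cfsg.pCore p G → (∃! M : Subgroup G, IsCoatom M ∧ τ.range ≤ M) → (∃ (K : Subgroup G) (_ : K.Normal) (F : Type) (_ : Field F) (_ : Fintype F) (n : ℕ), 1 ≤ n ∧ Fintype.card F = p ^ n ∧ Nonempty (G ⧸ K ≃* Matrix.ProjectiveSpecialLinearGroup (Fin 2) F)) → (S₁.map τ).Normal ∨ (S₂.map τ).Normal := by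
  haveI : Nontrivial S := by
    by_contra hn
    rw [not_nontrivial_iff_subsingleton] at hn
    have hbot : ∀ H : Subgroup S, H = ⊥ := fun H => H.eq_bot_of_subsingleton
    exact h.elim (fun h => h (hbot _)) (fun h => h (hbot _))
  have sit : ∀ (G : Type u) [Group G] [Finite G] (τ : S →* G), (∃ P : Sylow p G, (P : Subgroup G) = τ.range) →
      Subgroup.centralizer (Cfsg.pCore p G : Set G) ≤ Cfsg.pCore p G →
      (∃! M : Subgroup G, IsCoatom M ∧ τ.range ≤ M) →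
      (∃ (K : Subgroup G) (_ : K.Normal) (F : Type) (_ : Field F) (_ : Fintype F) (n : ℕ),
        1 ≤ n ∧ Fintype.card F = p ^ n ∧ Nonempty (G ⧸ K ≃* Matrix.ProjectiveSpecialLinearGroup (Fin 2) F)) →
      IsPushingUpSituation p τ.range := by
    rintro G _ _ τ ⟨P, hP⟩ h2 h3 ⟨K, _, F, _, _, n, hn, hF, h4⟩
    rw [← hP] at h3 ⊢
    exact Cfsg.Agent.Lib.Baumann.PushCenter.pushingUp P h2 h3 K F n hn hF h4
  by_cases hzj : ⁅zj S, (⊤ : Subgroup S)⁆ = ⊥
  · have hjt := jt_eq_top hzj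
    have hne : S₀ ≠ ⊥ := h.resolve_left (not_not.mpr hzj)
    have hch : S₀.Characteristic := hS₀ ▸ (pair_common.excSub_char (p := p) (S := S))
    obtain ⟨W, hWc, hWab, hW⟩ := exists_common hS hzj S₀ hS₀
    haveI := hWc
    haveI := hch
    haveI := omZ_char p S
    haveI hWc' : (Subgroup.centralizer (W : Set S)).Characteristic := inferInstance
    refine ⟨S₀ ⊓ omZ p S, Subgroup.centralizer (W : Set S), inf_omZ_ne hS inferInstance hne, ?_, inferInstance,
      inferInstance, inf_le_right.trans (omZ_le_center p S), le_top.trans_eq hjt.symm, sub_top_char hjt hWc',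
      fun G _ _ τ h1 h2 h3 h4 h5 => ?_⟩
    · intro h0
      refine (Subgroup.nontrivial_iff_ne_bot _).mp hS.center_nontrivial (le_bot_iff.mp ?_)
      rw [← h0]
      exact Subgroup.center_le_centralizer _
    · exact (hW G τ h1 h2 h3 h4 h5).imp_right fun h6 => h6.2.2
  · obtain ⟨h1, h2, h3, h4, h5, h6, h7, h8⟩ := pair_zj hS hzj
    exact ⟨_, _, h1, h2, h3, h4, h5, h6, h7, fun G _ _ τ a b c d e => h8 G τ a (sit G τ b c d e)⟩

end Cfsg.Agent.S2808
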