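import Cfsg.Statements.S2809
import Cfsg.Agent.Lib.CharP.Basic

set_option autoImplicit false
open Cfsg

namespace Cfsg.Agent.S2809

/-- Let H be a finite group, p a prime, R a p-subgroup of H with C_H(R) ≤ R, and L a subgroup of N_H(R) acting nilpotently on R (some iterated commutator [R, L, …, L] is trivial). Then L is a p-group. -/
theorem result {H : Type*} [Group H] [Finite H] {p : ℕ} [Fact p.Prime] (R : Subgroup H) (hR : IsPGroup p ↥R) (hC : Subgroup.centralizer (R : Set H) ≤ R) (L : Subgroup H) (hL : L ≤ Subgroup.normalizer (R : Set H)) (hnil : ∃ n : ℕ, Cfsg.iterCommutator R L n = ⊥) : IsPGroup p ↥L := by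
  obtain ⟨n, hn⟩ := hnil
  refine Cfsg.Agent.Lib.CharP.isPGroup_of_coprime_eq_one fun x hx hco => ?_
  have hle : ∀ i, Cfsg.iterCommutator R L i ≤ R := by
    intro i
    induction i with
    | zero => exact le_rfl
    | succ i ih =>
      exact (Subgroup.commutator_mono ih le_rfl).trans
        (Subgroup.le_normalizer_iff_commutator_le_left.1 hL)
  have key : ∀ j, j ≤ n → ∀ a ∈ Cfsg.iterCommutator R L (n - j), Commute x a := by
    intro j
    induction j with
    | zero =>
      intro _ a ha
      rw [Nat.sub_zero, hn, Subgroup.mem_bot] at ha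
      exact ha ▸ Commute.one_right x
    | succ j ih =>
      intro hj a ha
      refine Cfsg.Agent.Lib.CharP.commute_of_comm_mem (hR.to_le (hle (n - j))) hco (ih (by omega)) ?_
      rw [show n - j = n - (j + 1) + 1 by omega]
      exact Subgroup.commutator_mem_commutator ((Cfsg.iterCommutator R L (n - (j + 1))).inv_mem ha) hx
  have hxC : x ∈ Subgroup.centralizer (R : Set H) := by
    rw [Subgroup.mem_centralizer_iff]
    intro r hr
    have := key n le_rfl r (by rw [Nat.sub_self]; exact hr)
    exact this.eq.symm
  exact Cfsg.Agent.Lib.CharP.eq_one_of_coprime_of_mem hR (hC hxC) hco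

end Cfsg.Agent.S2809
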