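import Cfsg.Statements.S2810
import Cfsg.Agent.Lib.CharP.Basic

set_option autoImplicit false
set_option linter.style.haveILetI false
open Cfsg
open scoped commutatorElement

namespace Cfsg.Agent.S2810

/-- Let H be a finite group of characteristic p and L a subgroup of H centralizing every factor of some H-invariant chain 1 = A₀ ≤ A₁ ≤ … ≤ Aₙ = O_p(H) of normal subgroups (that is, [A_{i+1}, L] ≤ Aᵢ for each i). Then L ≤ O_p(H). -/
theorem result {H : Type*} [Group H] [Finite H] {p : ℕ} [Fact p.Prime] (hchar : Subgroup.centralizer (Cfsg.pCore p H : Set H) ≤ Cfsg.pCore p H) (L : Subgroup H) (n : ℕ) (A : Fin (n + 1) → Subgroup H) (h0 : A 0 = ⊥) (hn : A (Fin.last n) = Cfsg.pCore p H) (hmono : Monotone A) (hnorm : ∀ i, (A i).Normal) (hcent : ∀ i : Fin n, ⁅A i.succ, L⁆ ≤ A i.castSucc) : L ≤ Cfsg.pCore p H := by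
  haveI := fun i => hnorm i
  -- the stabilizer of the chain
  let K : Subgroup H := ⨅ i : Fin n, (Subgroup.centralizer
    (((A i.succ).map (QuotientGroup.mk' (A i.castSucc)) : Subgroup (H ⧸ A i.castSucc)) :
      Set (H ⧸ A i.castSucc))).comap (QuotientGroup.mk' (A i.castSucc))
  haveI : K.Normal := Subgroup.normal_iInf_normal fun i => by
    haveI := (hnorm i.succ).map (QuotientGroup.mk' (A i.castSucc)) (QuotientGroup.mk'_surjective _)
    exact Subgroup.Normal.comap inferInstance _
  have hmem : ∀ g, g ∈ K ↔ ∀ i : Fin n, ∀ a ∈ A i.succ, ⁅a, g⁆ ∈ A i.castSucc := by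
    intro g
    simp only [K, Subgroup.mem_iInf, Subgroup.mem_comap, Subgroup.mem_centralizer_iff, Subgroup.coe_map,
      Set.forall_mem_image]
    refine forall_congr' fun i => forall_congr' fun a => imp_congr Iff.rfl ?_
    rw [← commutatorElement_eq_one_iff_mul_comm, ← map_commutatorElement]
    exact QuotientGroup.eq_one_iff _
  have hL : L ≤ K := fun l hl => (hmem l).2 fun i a ha =>
    hcent i (Subgroup.commutator_mem_commutator ha hl)
  refine hL.trans (Lib.Cores.le_pCore ?_)
  refine Lib.CharP.isPGroup_of_coprime_eq_one fun g hg hgo => ?_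
  have hpg : ∀ i, IsPGroup p (A i) := fun i =>
    (Lib.Cores.pCore_isPGroup p).to_le (hn ▸ hmono (Fin.le_last i))
  have h := Lib.CharP.commute_of_series hgo A
    (fun a ha => by rw [h0, Subgroup.mem_bot] at ha; rw [ha]; exact Commute.one_right g) hpg
    ((hmem g).1 hg) (Fin.last n)
  refine Lib.CharP.eq_one_of_coprime_of_mem (Lib.Cores.pCore_isPGroup p) (hchar ?_) hgo
  rw [Subgroup.mem_centralizer_iff]
  exact fun u hu => (h u (hn ▸ hu)).eq.symm

end Cfsg.Agent.S2810
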