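import Cfsg.Statements.S2813
import Cfsg.Agent.Lib.CharP.Basic

set_option autoImplicit false
open Cfsg
open scoped commutatorElement

namespace Cfsg.Agent.S2813

/-- Let K be a subgroup of the finite group H with O_p(K) = 1 and Y a p-subgroup of N_H(K) with [K, Y, Y] = 1. Then [K, Y] = 1. -/
theorem result {H : Type*} [Group H] [Finite H] {p : ℕ} [Fact p.Prime] (K : Subgroup H) (hO : Cfsg.pCore p ↥K = ⊥) (Y : Subgroup H) (hY : IsPGroup p ↥Y) (hYK : Y ≤ Subgroup.normalizer (K : Set H)) (hq : ⁅⁅K, Y⁆, Y⁆ = ⊥) : ⁅K, Y⁆ = ⊥ := by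
  set A := ⁅K, Y⁆ with hA
  have hAK : A ≤ K := Subgroup.le_normalizer_iff_commutator_le_left.1 hYK
  have hKA : K ≤ Subgroup.normalizer (A : Set H) := Subgroup.normalizer_commutator_ge_left K Y
  have hAY : ∀ a ∈ A, ∀ y ∈ Y, Commute a y := fun a ha y hy =>
    (Subgroup.mem_centralizer_iff.1 ((Subgroup.commutator_eq_bot_iff_le_centralizer).1 hq ha) y hy).symm
  -- `A` commutes with all conjugates of `Y` under `K`
  have hAYk : ∀ a ∈ A, ∀ k ∈ K, ∀ y ∈ Y, Commute a (k * y * k⁻¹) := by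
    intro a ha k hk y hy
    have h1 : k⁻¹ * a * k ∈ A := by
      have := (Subgroup.mem_normalizer_iff.1 (hKA (inv_mem hk)) a).1 ha
      rwa [inv_inv] at this
    have h2 := (hAY _ h1 y hy).map (MulAut.conj k).toMonoidHom
    simpa [mul_assoc] using h2
  have hcomm : ∀ a ∈ A, ∀ b ∈ A, Commute a b := by
    intro a ha b hb
    suffices A ≤ Subgroup.centralizer ({a} : Set H) from
      (Subgroup.mem_centralizer_singleton_iff.1 (this hb)).symm
    rw [hA, Subgroup.commutator_le]
    intro k hk y hy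
    rw [Subgroup.mem_centralizer_singleton_iff]
    have e : ⁅k, y⁆ = (k * y * k⁻¹) * y⁻¹ := rfl
    rw [e]
    exact (((hAYk a ha k hk y hy).mul_right ((hAY a ha y hy).inv_right))).eq.symm
  have hpA : IsPGroup p A := by
    have hle : A ≤
        { carrier := {a : H | a ∈ A ∧ ∃ m : ℕ, a ^ p ^ m = 1}
          one_mem' := ⟨one_mem _, 0, one_pow _⟩
          mul_mem' := by
            rintro a b ⟨ha, m, hm⟩ ⟨hb, l, hl⟩
            refine ⟨mul_mem ha hb, m + l, ?_⟩
            rw [(hcomm a ha b hb).mul_pow]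
            nth_rewrite 1 [pow_add]
            rw [pow_mul, hm, one_pow, one_mul, pow_add, mul_comm (p ^ m), pow_mul, hl, one_pow]
          inv_mem' := by
            rintro a ⟨ha, m, hm⟩
            exact ⟨inv_mem ha, m, by rw [inv_pow, hm, inv_one]⟩ : Subgroup H } := by
      conv_lhs => rw [hA]
      rw [Subgroup.commutator_le]
      intro k hk y hy
      refine ⟨Subgroup.commutator_mem_commutator hk hy, ?_⟩
      obtain ⟨m, hm⟩ := isPGroup_iff_pow_pow_eq_one.1 hY ⟨y, hy⟩
      have hm' : y ^ p ^ m = 1 := by simpa using congrArg Subtype.val hm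
      refine ⟨m, ?_⟩
      have hc : Commute ⁅k, y⁆ y := hAY _ (Subgroup.commutator_mem_commutator hk hy) y hy
      have e : ⁅k, y⁆ * y = k * y * k⁻¹ := by rw [commutatorElement_def]; group
      have h3 : (⁅k, y⁆ * y) ^ p ^ m = 1 := by rw [e, conj_pow, hm', mul_one, mul_inv_cancel]
      rwa [hc.mul_pow, hm', mul_one] at h3
    rw [isPGroup_iff_pow_pow_eq_one]
    rintro ⟨a, ha⟩
    obtain ⟨-, m, hm⟩ := hle ha
    exact ⟨m, Subtype.ext (by simpa using hm)⟩
  have h := Lib.CharP.le_pCoreOf (L := K) hpA hAK hKA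
  rw [Cfsg.pCoreOf, hO, Subgroup.map_bot] at h
  exact le_bot_iff.1 h

end Cfsg.Agent.S2813
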