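import Cfsg.Statements.S2814
import Cfsg.Agent.Lib.CharP.Basic
import Cfsg.Agent.Lib.SubnormSet.Basic

set_option autoImplicit false
set_option linter.style.haveILetI false
open Cfsg
open scoped commutatorElement

namespace Cfsg.Agent.S2814

/-- Let A be a subgroup of the finite group H and K the subnormal closure of A (intersection of the subnormal subgroups containing A). Then K is the normal closure of A inside K and N_H(A) ≤ N_H(K); K = A·O^p(K), O^p(K) being generated by the elements of K of order prime to p; and if A is a p-group, O^p(K) = [O^p(K), A]. -/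
theorem result {H : Type*} [Group H] [Finite H] {p : ℕ} [Fact p.Prime] (A : Subgroup H) (K : Subgroup H) (hK : K = Cfsg.subnormalClosure A) : (Subgroup.normalClosure ((A.subgroupOf K : Subgroup ↥K) : Set ↥K)).map K.subtype = K ∧ Subgroup.normalizer (A : Set H) ≤ Subgroup.normalizer (K : Set H) ∧ A ⊔ (Cfsg.pResidual p ↥K).map K.subtype = K ∧ (IsPGroup p ↥A → ⁅(Cfsg.pResidual p ↥K).map K.subtype, A⁆ = (Cfsg.pResidual p ↥K).map K.subtype) := by
  have hAK : A ≤ K := hK ▸ le_sInf fun L hL => hL.1
  have hmin : ∀ L : Subgroup H, A ≤ L → L.IsSubnormal → K ≤ L := fun L h1 h2 => hK ▸ sInf_le ⟨h1, h2⟩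
  have hKsn : K.IsSubnormal := by
    obtain ⟨L, hL, hLmin⟩ := Set.Finite.exists_minimal (s := {L : Subgroup H | A ≤ L ∧ L.IsSubnormal})
      (Set.toFinite _) ⟨⊤, le_top, Subgroup.Normal.isSubnormal inferInstance⟩
    have : K = L := le_antisymm (hmin L hL.1 hL.2) (hK ▸ le_sInf fun L' hL' =>
      (hLmin ⟨le_inf hL.1 hL'.1, hL.2.inf hL'.2⟩ inf_le_left).trans inf_le_right)
    exact this ▸ hL.2
  set R := pResidual p ↥K with hR
  set A₀ := A.subgroupOf K with hA₀
  have hmapA : A₀.map K.subtype = A := by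
    rw [hA₀, Subgroup.subgroupOf_map_subtype, inf_eq_left.2 hAK]
  have hgen : ∀ L : Subgroup K, A₀ ≤ L → L.IsSubnormal → L = ⊤ := by
    intro L hAL hL
    have h1 : K ≤ L.map K.subtype := hmin _ (hmapA ▸ Subgroup.map_mono hAL) (hL.trans' hKsn)
    refine eq_top_iff.2 fun k _ => ?_
    obtain ⟨l, hl, he⟩ := h1 k.2
    exact Subtype.ext he ▸ hl
  have hnc : Subgroup.normalClosure (A₀ : Set ↥K) = ⊤ :=
    hgen _ Subgroup.le_normalClosure (Subgroup.Normal.isSubnormal Subgroup.normalClosure_normal)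
  haveI hRn : R.Normal := Lib.CharP.pResidual_normal p
  have hAR : A₀ ⊔ R = ⊤ := by
    haveI : Group.IsNilpotent (↥K ⧸ R) := (Lib.CharP.isPGroup_quotient_pResidual (p := p) (G := ↥K)).isNilpotent
    have h := (Lib.SubnormSet.isSubnormal_of_isNilpotent (A₀.map (QuotientGroup.mk' R))).comap (QuotientGroup.mk' R)
    rw [Subgroup.comap_map_eq, QuotientGroup.ker_mk'] at h
    exact hgen _ le_sup_left h
  refine ⟨by rw [hnc, ← MonoidHom.range_eq_map, Subgroup.range_subtype], ?_, ?_, fun hA => ?_⟩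
  · have key : ∀ g ∈ Subgroup.normalizer (A : Set H), K ≤ K.map (MulAut.conj g).toMonoidHom := by
      intro g hg
      refine hmin _ (fun a ha => ⟨g⁻¹ * a * g, hAK ?_, by simp [mul_assoc]⟩)
        (hKsn.map (f := (MulAut.conj g).toMonoidHom) (MulAut.conj g).surjective)
      have := (Subgroup.mem_normalizer_iff.1 (inv_mem hg) a).1 ha
      simpa using this
    intro g hg
    rw [Subgroup.mem_normalizer_iff]
    refine fun k => ⟨fun hk => ?_, fun hk => ?_⟩
    · obtain ⟨k', hk', he⟩ := key g⁻¹ (inv_mem hg) hk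
      have he' : g⁻¹ * k' * g⁻¹⁻¹ = k := he
      rw [← he']
      simpa [mul_assoc] using hk'
    · obtain ⟨k', hk', he⟩ := key g hg hk
      have he' : g * k' * g⁻¹ = g * k * g⁻¹ := he
      rwa [← mul_left_cancel (mul_right_cancel he')]
  · rw [← hmapA, ← Subgroup.map_sup, hAR, ← MonoidHom.range_eq_map, Subgroup.range_subtype]
  · rw [← hmapA, ← Subgroup.map_commutator]
    congr 1
    have hA₀p : IsPGroup p ↥A₀ := hA.comap_subtype
    refine le_antisymm (Subgroup.commutator_le_left R A₀) ?_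
    set M := ⁅R, A₀⁆ with hM
    haveI : M.Normal := Subgroup.normalizer_eq_top_iff.1 (eq_top_iff.2 (hAR ▸ sup_le
      (Subgroup.normalizer_commutator_ge_right R A₀) (Subgroup.normalizer_commutator_ge_left R A₀)))
    have hnorm : (A₀ ⊔ M).Normal := by
      refine Subgroup.normalizer_eq_top_iff.1 (eq_top_iff.2 (hAR ▸ sup_le (le_sup_left.trans Subgroup.le_normalizer) ?_))
      rw [Subgroup.le_normalizer_iff_commutator_le_right]
      refine Subgroup.commutator_le.2 fun r hr x hx => ?_
      obtain ⟨a, ha, m, hm, rfl⟩ := Subgroup.mem_sup_of_normal_right.1 hx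
      have e : r * (a * m) * r⁻¹ * (a * m)⁻¹ =
          r * a * r⁻¹ * a⁻¹ * (a * (r * m * r⁻¹ * m⁻¹) * a⁻¹) := by group
      rw [commutatorElement_def, e]
      exact Subgroup.mem_sup_right (mul_mem (Subgroup.commutator_mem_commutator hr ha)
        (Subgroup.Normal.conj_mem inferInstance _ (mul_mem (Subgroup.Normal.conj_mem inferInstance _ hm r) (inv_mem hm)) a))
    have htop : A₀ ⊔ M = ⊤ := hgen _ le_sup_left hnorm.isSubnormal
    refine Lib.CharP.pResidual_le_of_isPGroup_quotient ?_
    have hsur : Function.Surjective ((QuotientGroup.mk' M).comp A₀.subtype) := by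
      intro q
      obtain ⟨x, rfl⟩ := QuotientGroup.mk'_surjective M q
      obtain ⟨a, ha, m, hm, rfl⟩ := Subgroup.mem_sup_of_normal_right.1 (htop ▸ Subgroup.mem_top x)
      refine ⟨⟨a, ha⟩, ?_⟩
      have : QuotientGroup.mk' M m = 1 := (QuotientGroup.eq_one_iff m).2 hm
      rw [map_mul, this, mul_one]
      rfl
    exact hA₀p.of_surjective _ hsur

end Cfsg.Agent.S2814
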