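import Cfsg.Statements.S2815
import Cfsg.Agent.Lib.CharP.Irreducible
import Cfsg.Agent.Lib.Components.GenFitting

set_option autoImplicit false
set_option linter.style.haveILetI false
open Cfsg
open scoped commutatorElement

namespace Cfsg.Agent.S2815

/-- Let H be a finite group and p a prime dividing its order with O_p(H) = 1, and suppose K = O^p(H) (generated by the elements of order prime to p) is quasisimple. Then K = F*(H); for every nontrivial p-subgroup Y of H, K = [K, Y] and K lies in the subgroup generated by the K-conjugates of Y; every normal subgroup of H not containing K has order prime to p; and H is p-irreducible. -/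
theorem result {H : Type*} [Group H] [Finite H] {p : ℕ} [Fact p.Prime] (hp : p ∣ Nat.card H) (hO : Cfsg.pCore p H = ⊥) (hq : Cfsg.IsQuasisimple ↥(Cfsg.pResidual p H)) : Cfsg.pResidual p H = Cfsg.generalizedFittingSubgroup H ∧ (∀ Y : Subgroup H, IsPGroup p ↥Y → Y ≠ ⊥ → ⁅Cfsg.pResidual p H, Y⁆ = Cfsg.pResidual p H ∧ Cfsg.pResidual p H ≤ ⨆ k : ↥(Cfsg.pResidual p H), Y.map (MulAut.conj (k : H)).toMonoidHom) ∧ (∀ C : Subgroup H, C.Normal → ¬ Cfsg.pResidual p H ≤ C → (Nat.card ↥C).Coprime p) ∧ Cfsg.IsPIrreducible p H := by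
  set K := pResidual p H with hKdef
  haveI hKn : K.Normal := Lib.CharP.pResidual_normal p
  have hcomp : IsComponent K := ⟨Subgroup.Normal.isSubnormal hKn, hq⟩
  set D := Subgroup.centralizer (K : Set H) with hD
  haveI hDn : D.Normal := inferInstance
  have hpg : ∀ x ∈ D, ∀ k : ℕ, x ^ p ^ k = 1 → x = 1 := by
    obtain ⟨T⟩ : Nonempty (Sylow p ↥D) := inferInstance
    have htop := Lib.CharP.sylow_sup_pResidual T
    have hres : (pResidual p ↥D).map D.subtype ≤ K := by
      rw [Lib.CharP.map_pResidual_subtype, Subgroup.closure_le]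
      exact fun g hg => Lib.CharP.mem_pResidual hg.2
    haveI : (pResidual p ↥D).Normal := Lib.CharP.pResidual_normal p
    have hTn : (T : Subgroup ↥D).Normal := by
      refine Subgroup.normalizer_eq_top_iff.1 (eq_top_iff.2 (htop ▸ sup_le Subgroup.le_normalizer ?_))
      intro z hz
      have hzK : (z : H) ∈ K := hres ⟨z, hz, rfl⟩
      have hc : ∀ t : ↥D, z * t = t * z := fun t =>
        Subtype.ext (Subgroup.mem_centralizer_iff.1 t.2 _ hzK)
      rw [Subgroup.mem_normalizer_iff]
      intro t
      rw [hc t, mul_inv_cancel_right]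
    have hT : (T : Subgroup ↥D) = ⊥ := by
      have h1 : (T : Subgroup ↥D) ≤ pCore p ↥D := Lib.Cores.le_pCore T.isPGroup'
      have h2 := Lib.Cores.map_subtype_pCore p D
      rw [hO, inf_bot_eq, Subgroup.map_eq_bot_iff_of_injective _ D.subtype_injective] at h2
      exact le_bot_iff.1 (h2 ▸ h1)
    have hcl : IsPClosed p ↥D := by
      intro P
      obtain ⟨g, hg⟩ := MulAction.exists_smul_eq ↥D T P
      have : (P : Subgroup ↥D) = ⊥ := by
        rw [← hg, eq_bot_iff]
        rintro _ ⟨t, ht, rfl⟩
        rw [SetLike.mem_coe, hT, Subgroup.mem_bot] at ht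
        subst ht
        simp
      rw [this]
      infer_instance
    intro x hx k hk
    have := Lib.CharP.isPClosed_normal_iff.1 hcl x hx k hk
    rwa [hO, Subgroup.mem_bot] at this
  have hcop : ∀ x ∈ D, (orderOf x).Coprime p := by
    intro x hx
    refine ((Nat.Prime.coprime_iff_not_dvd Fact.out).2 fun hd => ?_).symm
    obtain ⟨c, hc⟩ := hd
    have hc0 : c ≠ 0 := fun h => (orderOf_pos x).ne' (by rw [hc, h, mul_zero])
    have h1 : orderOf (x ^ c) = p := by
      rw [orderOf_pow_of_dvd hc0 ⟨p, by rw [hc, mul_comm]⟩, hc, Nat.mul_div_cancel _ (Nat.pos_of_ne_zero hc0)]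
    have := hpg _ (pow_mem hx c) 1 (by rw [pow_one, ← pow_orderOf_eq_one (x ^ c), h1])
    rw [this, orderOf_one] at h1
    exact (Fact.out : p.Prime).ne_one h1.symm
  have hDK : D ≤ K := fun x hx => Lib.CharP.mem_pResidual (hcop x hx)
  have hDcard : (Nat.card D).Coprime p := by
    refine ((Nat.Prime.coprime_iff_not_dvd Fact.out).2 fun hd => ?_).symm
    obtain ⟨z, hz⟩ := exists_prime_orderOf_dvd_card' (G := ↥D) p hd
    have := hcop z z.2
    rw [Subgroup.orderOf_coe, hz, Nat.coprime_self] at this
    exact (Fact.out : p.Prime).ne_one this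
  have hnormal : ∀ C : Subgroup H, C.Normal → ¬ K ≤ C → C ≤ D := fun C hC hKC =>
    Subgroup.commutator_eq_bot_iff_le_centralizer.1
      ((Lib.Components.Component.le_or_commutator_eq_bot hcomp (Subgroup.Normal.isSubnormal hC)).resolve_left hKC)
  have hnot : ∀ C : Subgroup H, C.Normal → ¬ K ≤ C → (Nat.card C).Coprime p := fun C hC hKC =>
    hDcard.coprime_dvd_left (Subgroup.card_dvd_of_le (hnormal C hC hKC))
  refine ⟨le_antisymm ((Lib.Components.Layer.component_le_layer hcomp).trans
      Lib.Components.GenFitting.layer_le_generalizedFitting) (sup_le (sSup_le fun L hL => ?_) ?_),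
    fun Y hY hY1 => ?_, hnot, fun hcl => ?_, fun N hN hNc => ?_⟩
  · by_cases hLK : L = K
    · exact hLK.le
    · exact (Lib.Components.Component.le_centralizer_of_ne hL hcomp hLK).trans hDK
  · exact (Lib.Components.Component.fittingSubgroup_le_centralizer hcomp).trans hDK
  · have hcomm : ⁅K, Y⁆ = K := by
      have hle : ⁅K, Y⁆ ≤ K := Subgroup.commutator_le_left K Y
      have hn : ((⁅K, Y⁆ : Subgroup H).subgroupOf K).Normal :=
        (Subgroup.normal_subgroupOf_iff_le_normalizer hle).2 (Subgroup.normalizer_commutator_ge_left K Y)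
      rcases Lib.Components.Quasisimple.normal_le_center_or_eq_top hq hn with h | h
      · exfalso
        refine hY1 (le_bot_iff.1 ?_)
        have h1 : ⁅⁅Y, K⁆, K⁆ = ⊥ := by
          rw [Subgroup.commutator_eq_bot_iff_le_centralizer]
          intro x hx
          rw [Subgroup.commutator_comm] at hx
          rw [Subgroup.mem_centralizer_iff]
          intro k hk
          exact congrArg Subtype.val (Subgroup.mem_center_iff.1 (h (show (⟨x, hle hx⟩ : K) ∈ _ from hx)) ⟨k, hk⟩)
        have h2 : Y ≤ D := Subgroup.commutator_eq_bot_iff_le_centralizer.1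
          (Lib.Components.commutator_eq_bot_of_perfect (Lib.Components.Component.commutator_self hcomp) h1)
        intro y hy
        obtain ⟨k, hk⟩ := Lib.CharP.exists_pow_eq_one_of_mem hY hy
        rw [Subgroup.mem_bot]
        exact hpg y (h2 hy) k hk
      · exact le_antisymm hle (Subgroup.subgroupOf_eq_top.1 h)
    refine ⟨hcomm, le_of_eq_of_le hcomm.symm (Subgroup.commutator_le.2 fun k hk y hy => ?_)⟩
    rw [commutatorElement_def]
    refine mul_mem (Subgroup.mem_iSup_of_mem (⟨k, hk⟩ : K) ⟨y, hy, rfl⟩)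
      (Subgroup.mem_iSup_of_mem (1 : K) ⟨y⁻¹, inv_mem hy, ?_⟩)
    simp
  · obtain ⟨x, hx⟩ := exists_prime_orderOf_dvd_card' (G := H) p hp
    have := Lib.CharP.isPClosed_iff.1 hcl x 1 (by rw [pow_one, ← hx, pow_orderOf_eq_one])
    rw [hO, Subgroup.mem_bot] at this
    rw [this, orderOf_one] at hx
    exact (Fact.out : p.Prime).ne_one hx.symm
  · by_contra hKN
    refine hNc (Lib.CharP.isPClosed_normal_iff.2 fun x hx k hk => ?_)
    rw [hpg x (hnormal N hN hKN hx) k hk]
    exact one_mem _

end Cfsg.Agent.S2815
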