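import Cfsg.Statements.S2816
import Cfsg.Agent.Lib.CharP.FStar
import Cfsg.Agent.Lib.CharP.Irreducible

set_option autoImplicit false
set_option linter.style.haveILetI false
open Cfsg

namespace Cfsg.Agent.S2816

/-- Let H be a finite group and p a prime with O_p(H) = 1, and Y a p-subgroup of H. Then for every subnormal subgroup K of H containing Y, [F*(H), Y] = [F*(K), Y] = [F*(K), Y, Y]; and if Y₀ ≤ Y with [F*(H), Y, Y₀] = 1 then Y₀ = 1 (in particular [F*(H), Y] = 1 forces Y = 1). -/
theorem result {H : Type*} [Group H] [Finite H] {p : ℕ} [Fact p.Prime] (hO : Cfsg.pCore p H = ⊥) (Y : Subgroup H) (hY : IsPGroup p ↥Y) : (∀ K : Subgroup H, K.IsSubnormal → Y ≤ K → ⁅Cfsg.generalizedFittingSubgroup H, Y⁆ = ⁅(Cfsg.generalizedFittingSubgroup ↥K).map K.subtype, Y⁆ ∧ ⁅(Cfsg.generalizedFittingSubgroup ↥K).map K.subtype, Y⁆ = ⁅⁅(Cfsg.generalizedFittingSubgroup ↥K).map K.subtype, Y⁆, Y⁆) ∧ (∀ Y₀ : Subgroup H, Y₀ ≤ Y → ⁅⁅Cfsg.generalizedFittingSubgroup H, Y⁆, Y₀⁆ = ⊥ → Y₀ = ⊥) := by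
  set F := generalizedFittingSubgroup H with hF
  obtain ⟨hsup, hidem⟩ := Lib.CharP.commutator_fstar_fixed hO hY
  set M := ⁅F, Y⁆ with hM
  obtain ⟨hMsn, hMF⟩ := Lib.CharP.commutator_fstar_isSubnormal (G := H) Y
  have hMK : ∀ K : Subgroup H, K.IsSubnormal → Y ≤ K → M ≤ K := by
    intro K hK
    induction hK with
    | top => exact fun _ => le_top
    | step A B hle _ hN ih =>
      intro hY'
      have h1 : M ≤ B := ih (hY'.trans hle)
      have h2 : B ≤ Subgroup.normalizer (A : Set H) :=
        (Subgroup.normal_subgroupOf_iff_le_normalizer hle).1 hN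
      rw [hidem]
      exact (Subgroup.commutator_mono h1 hY').trans (Subgroup.le_normalizer_iff_commutator_le_right.1 h2)
  refine ⟨fun K hK hYK => ?_, fun Y₀ hY₀ h0 => ?_⟩
  · set FK := (generalizedFittingSubgroup ↥K).map K.subtype with hFK
    have hle : FK ≤ F := by
      rw [hFK, Subgroup.map_le_iff_le_comap]
      refine sup_le (sSup_le fun C hC => Subgroup.map_le_iff_le_comap.1 ?_) (Subgroup.map_le_iff_le_comap.1 ?_)
      · exact (Lib.Components.Layer.component_le_layer (Lib.Components.Component.map_subtype hK hC)).trans le_sup_left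
      · refine le_trans ?_ le_sup_right
        exact Lib.Cores.IsSubnormal.le_fittingSubgroup
          ((Subgroup.Normal.isSubnormal inferInstance).trans' hK)
          (Lib.Cores.isNilpotent_map _ Lib.Cores.fittingSubgroup_isNilpotent)
    have hge : M ≤ FK := by
      refine (Lib.CharP.le_components_sup hMsn hMF).trans (sup_le (sSup_le fun C hC => ?_) ?_)
      · have hCK : C ≤ K := hC.2.trans (hMK K hK hYK)
        rw [← Subgroup.map_subgroupOf_eq_of_le hCK]
        exact Subgroup.map_mono ((Lib.Components.Layer.component_le_layer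
          (Lib.Components.Component.subgroupOf hC.1 hCK)).trans le_sup_left)
      · refine (inf_le_inf (hMK K hK hYK) le_rfl).trans ?_
        rw [← Subgroup.map_subgroupOf_eq_of_le (inf_le_left : K ⊓ fittingSubgroup H ≤ K)]
        refine Subgroup.map_mono (le_trans ?_ le_sup_right)
        haveI : ((K ⊓ fittingSubgroup H).subgroupOf K).Normal := by
          rw [Subgroup.inf_subgroupOf_left]
          infer_instance
        refine Lib.Cores.le_fittingSubgroup ?_
        haveI : Group.IsNilpotent ↥(K ⊓ fittingSubgroup H) :=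
          Lib.Cores.isNilpotent_of_le inf_le_right Lib.Cores.fittingSubgroup_isNilpotent
        exact Group.nilpotent_of_mulEquiv (Subgroup.subgroupOfEquivOfLe inf_le_left).symm
    have e : M = ⁅FK, Y⁆ :=
      le_antisymm (hidem.le.trans (Subgroup.commutator_mono hge le_rfl)) (Subgroup.commutator_mono hle le_rfl)
    exact ⟨e, by rw [← e]; exact hidem⟩
  · have h1 : F ≤ Subgroup.centralizer (Y₀ : Set H) := by
      refine le_trans (le_of_eq hsup.symm) ?_
      exact sup_le (Subgroup.commutator_eq_bot_iff_le_centralizer.1 h0)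
        (inf_le_right.trans (Subgroup.centralizer_le hY₀))
    rw [Subgroup.eq_bot_iff_forall]
    intro y hy
    obtain ⟨k, hk⟩ := Lib.CharP.exists_pow_eq_one_of_mem hY (hY₀ hy)
    exact Lib.CharP.eq_one_of_centralizes_fstar hO (Subgroup.le_centralizer_iff.1 h1 hy) hk

end Cfsg.Agent.S2816
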