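import Cfsg.Statements.S2817
import Cfsg.Agent.Lib.CharP.FStar
import Cfsg.Agent.Lib.CharP.Irreducible
import Cfsg.Agent.Lib.CharP.Parabolic

set_option autoImplicit false
set_option linter.style.haveILetI false
open Cfsg
open scoped commutatorElement

namespace Cfsg.Agent.S2817

/-- Let H be a finite group and p a prime with O_p(H) = 1, Q a p-subgroup of H, L = [F*(H), Q], and F the largest normal subgroup of F*(H) centralized by Q (a normal subgroup of F*(H) centralized by Q and containing every such). Then F = C_{F*(H)}(LQ); L = [L, Q]; L ∩ F ≤ Φ(L); every p-subgroup B of N_H(Q) with [L, B] ≤ F satisfies [L, B] = 1; and C_H(FL) has order prime to p. -/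
theorem result {H : Type*} [Group H] [Finite H] {p : ℕ} [Fact p.Prime] (hO : Cfsg.pCore p H = ⊥) (Q : Subgroup H) (hQ : IsPGroup p ↥Q) (L : Subgroup H) (hL : L = ⁅Cfsg.generalizedFittingSubgroup H, Q⁆) (F : Subgroup H) (hF : F ≤ Cfsg.generalizedFittingSubgroup H ∧ Cfsg.generalizedFittingSubgroup H ≤ Subgroup.normalizer (F : Set H) ∧ Q ≤ Subgroup.centralizer (F : Set H) ∧ ∀ N : Subgroup H, N ≤ Cfsg.generalizedFittingSubgroup H → Cfsg.generalizedFittingSubgroup H ≤ Subgroup.normalizer (N : Set H) → Q ≤ Subgroup.centralizer (N : Set H) → N ≤ F) : F = Cfsg.generalizedFittingSubgroup H ⊓ Subgroup.centralizer ((L ⊔ Q : Subgroup H) : Set H) ∧ ⁅L, Q⁆ = L ∧ L ⊓ F ≤ (frattini ↥L).map L.subtype ∧ (∀ B : Subgroup H, IsPGroup p ↥B → B ≤ Subgroup.normalizer (Q : Set H) → ⁅L, B⁆ ≤ F → ⁅L, B⁆ = ⊥) ∧ (Nat.card ↥(Subgroup.centralizer ((F ⊔ L : Subgroup H) : Set H))).Coprime p := by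
  obtain ⟨hFle, hFn, hFQ, hFmax⟩ := hF
  set Fs := generalizedFittingSubgroup H with hFs
  set N0 := fittingSubgroup H with hN0
  obtain ⟨hsup, hidem⟩ := Lib.CharP.commutator_fstar_fixed hO hQ
  obtain ⟨hLsn, hLle⟩ := Lib.CharP.commutator_fstar_isSubnormal (G := H) Q
  rw [← hFs, ← hL] at hsup hidem hLsn hLle
  have hFsL : Fs ≤ Subgroup.normalizer (L : Set H) := hL ▸ Lib.Coprime.left_le_normalizer_commutator Fs Q
  have hQL : Q ≤ Subgroup.normalizer (L : Set H) := hL ▸ Lib.Coprime.right_le_normalizer_commutator Fs Q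
  have hFL : F ≤ Subgroup.centralizer (L : Set H) := by
    have h0 : ⁅F, Q⁆ = ⊥ := Subgroup.commutator_eq_bot_iff_le_centralizer.2 (Subgroup.le_centralizer_iff.1 hFQ)
    have h1 : ⁅⁅Fs, F⁆, Q⁆ = ⊥ := le_bot_iff.1 (h0 ▸ Subgroup.commutator_mono
      (Subgroup.le_normalizer_iff_commutator_le_right.1 hFn) le_rfl)
    have h2 : ⁅⁅F, Q⁆, Fs⁆ = ⊥ := by rw [h0, Subgroup.commutator_bot_left]
    have h3 := Lib.Components.three_subgroups h1 h2
    rw [Subgroup.commutator_comm Q Fs, ← hL] at h3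
    exact Subgroup.le_centralizer_iff.1 (Subgroup.commutator_eq_bot_iff_le_centralizer.1 h3)
  have hFeq : F = Fs ⊓ Subgroup.centralizer ((L ⊔ Q : Subgroup H) : Set H) := by
    refine le_antisymm (le_inf hFle (Subgroup.le_centralizer_iff.1
      (sup_le (Subgroup.le_centralizer_iff.1 hFL) hFQ))) ?_
    refine hFmax _ inf_le_left ?_ (Subgroup.le_centralizer_iff.1 (inf_le_right.trans
      (Subgroup.centralizer_le (SetLike.coe_subset_coe.2 le_sup_right))))
    have key : ∀ c ∈ Fs ⊓ Subgroup.centralizer (Q : Set H), ∀ x ∈ Fs ⊓ Subgroup.centralizer ((L ⊔ Q : Subgroup H) : Set H),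
        c * x * c⁻¹ ∈ Fs ⊓ Subgroup.centralizer ((L ⊔ Q : Subgroup H) : Set H) := by
      intro c hc x hx
      refine ⟨Fs.mul_mem (Fs.mul_mem hc.1 hx.1) (Fs.inv_mem hc.1), ?_⟩
      have hle : L ⊔ Q ≤ Subgroup.centralizer ({c * x * c⁻¹} : Set H) := by
        refine sup_le (fun l hl => ?_) fun q hq => ?_
        · have hl' : c⁻¹ * l * c ∈ L := by
            simpa using (Subgroup.mem_normalizer_iff.1 (inv_mem (hFsL hc.1)) l).1 hl
          have h := Subgroup.mem_centralizer_iff.1 hx.2 _ (Subgroup.mem_sup_left hl')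
          rw [Subgroup.mem_centralizer_singleton_iff]
          calc l * (c * x * c⁻¹) = c * ((c⁻¹ * l * c) * x) * c⁻¹ := by group
            _ = c * x * c⁻¹ * l := by rw [h]; group
        · have h := Subgroup.mem_centralizer_iff.1 hx.2 q (Subgroup.mem_sup_right hq)
          have hcq := Subgroup.mem_centralizer_iff.1 hc.2 q hq
          rw [Subgroup.mem_centralizer_singleton_iff]
          have hcq' : q * c⁻¹ = c⁻¹ * q := by
            calc q * c⁻¹ = c⁻¹ * (c * q) * c⁻¹ := by group
              _ = c⁻¹ * q := by rw [← hcq]; group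
          calc q * (c * x * c⁻¹) = q * c * x * c⁻¹ := by group
            _ = c * (q * x) * c⁻¹ := by rw [hcq]; group
            _ = c * x * (q * c⁻¹) := by rw [h]; group
            _ = c * x * c⁻¹ * q := by rw [hcq']; group
      refine Subgroup.mem_centralizer_iff.2 ?_
      exact fun y hy => Subgroup.mem_centralizer_singleton_iff.1 (hle hy)
    refine le_trans hsup.ge (sup_le ?_ fun c hc => ?_)
    · refine le_trans ?_ (Subgroup.centralizer_le_normalizer _)
      exact Subgroup.le_centralizer_iff.1 (inf_le_right.trans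
        (Subgroup.centralizer_le (SetLike.coe_subset_coe.2 le_sup_left)))
    · rw [Subgroup.mem_normalizer_iff]
      refine fun x => ⟨key c hc x, fun hx => ?_⟩
      have := key c⁻¹ (inv_mem hc) _ hx
      simpa [mul_assoc] using this
  -- components lie in `L` or in `F`
  have hcomp : ∀ K : Subgroup H, IsComponent K → K ≤ L ∨ K ≤ F := by
    intro K hK
    rcases Lib.Components.Component.le_or_commutator_eq_bot hK hLsn with h | h
    · exact Or.inl h
    · right
      have hKFs : K ≤ Fs := (Lib.Components.Layer.component_le_layer hK).trans le_sup_left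
      have h2 : ⁅⁅Q, K⁆, K⁆ = ⊥ := by
        refine le_bot_iff.1 (h ▸ Subgroup.commutator_mono ?_ le_rfl)
        rw [hL, Subgroup.commutator_comm]
        exact Subgroup.commutator_mono hKFs le_rfl
      have h3 : Q ≤ Subgroup.centralizer (K : Set H) := Subgroup.commutator_eq_bot_iff_le_centralizer.1
        (Lib.Components.commutator_eq_bot_of_perfect (Lib.Components.Component.commutator_self hK) h2)
      rw [hFeq]
      exact le_inf hKFs (Subgroup.le_centralizer_iff.1
        (sup_le (Subgroup.commutator_eq_bot_iff_le_centralizer.1 h) h3))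
  set M0 := L ⊓ N0 with hM0
  have hLM : L ≤ ⁅L, L⁆ ⊔ M0 :=
    (Lib.CharP.le_components_sup hLsn hLle).trans (sup_le_sup_right (sSup_le fun K hK =>
      (Lib.Components.Component.commutator_self hK.1).symm.le.trans (Subgroup.commutator_mono hK.2 hK.2)) _)
  have hcopN : ∀ (P : Subgroup H), IsPGroup p ↥P → ∀ N : Subgroup H, N ≤ N0 →
      (Nat.card P).Coprime (Nat.card N) := by
    intro P hP N hN
    obtain ⟨n, hn⟩ := IsPGroup.iff_card.1 hP
    rw [hn]
    exact (((Lib.CharP.fitting_coprime hO).coprime_dvd_left (Subgroup.card_dvd_of_le hN)).symm).pow_left n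
  have hN0n : ∀ P : Subgroup H, P ≤ Subgroup.normalizer (N0 : Set H) := fun P => by
    rw [Subgroup.normalizer_eq_top]; exact le_top
  have hinfn : ∀ {P A : Subgroup H}, P ≤ Subgroup.normalizer (A : Set H) →
      P ≤ Subgroup.normalizer ((A ⊓ N0 : Subgroup H) : Set H) := by
    intro P A hA
    rw [Subgroup.le_normalizer_iff_commutator_le_right]
    exact le_inf ((Subgroup.commutator_mono le_rfl inf_le_left).trans
      (Subgroup.le_normalizer_iff_commutator_le_right.1 hA))
      ((Subgroup.commutator_mono le_rfl inf_le_right).trans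
      (Subgroup.le_normalizer_iff_commutator_le_right.1 (hN0n P)))
  have hD' : L ⊓ F ≤ ⁅L, L⁆ := by
    classical
    haveI : Fintype Q := Fintype.ofFinite Q
    let c : Q → ↥L →* ↥L := fun q => (L.normalizerMonoidHom ⟨q, hQL q.2⟩).toMonoidHom
    let φ : ↥L →* Abelianization ↥L := Abelianization.of
    let ψ : ↥L →* Abelianization ↥L := ∏ q : Q, φ.comp (c q)
    have hψ : ∀ l, ψ l = ∏ q : Q, φ (c q l) := fun l => by
      simp [ψ, MonoidHom.finsetProd_apply]
    have hinv : ∀ (q : Q) l, ψ (c q l) = ψ l := by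
      intro q l
      rw [hψ, hψ]
      refine Fintype.prod_equiv (Equiv.mulRight q) _ _ fun r => ?_
      congr 1
      refine Subtype.ext ?_
      show (r : H) * ((q : H) * l * (q : H)⁻¹) * (r : H)⁻¹ = ((r * q : Q) : H) * l * ((r * q : Q) : H)⁻¹
      rw [Subgroup.coe_mul]
      group
    have hker : L ≤ ψ.ker.map L.subtype := by
      conv_lhs => rw [hidem]
      refine Subgroup.commutator_le.2 fun l hl q hq => ?_
      refine ⟨⟨l, hl⟩ * c ⟨q, hq⟩ ⟨l, hl⟩⁻¹, ?_, ?_⟩
      · rw [SetLike.mem_coe, MonoidHom.mem_ker, map_mul, hinv, map_inv, mul_inv_cancel]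
      · show l * (q * l⁻¹ * q⁻¹) = ⁅l, q⁆
        rw [commutatorElement_def]; group
    intro d hd
    have hone : φ ⟨d, hd.1⟩ = 1 := by
      refine orderOf_eq_one_iff.1 ?_
      obtain ⟨n, hn⟩ := IsPGroup.iff_card.1 hQ
      have h1 : φ ⟨d, hd.1⟩ ^ p ^ n = 1 := by
        obtain ⟨k, hk, hkd⟩ := hker hd.1
        have hkd' : k = ⟨d, hd.1⟩ := Subtype.ext hkd
        have h2 : ψ ⟨d, hd.1⟩ = φ ⟨d, hd.1⟩ ^ p ^ n := by
          rw [hψ, Finset.prod_eq_pow_card (b := φ ⟨d, hd.1⟩) (fun q _ => ?_), Finset.card_univ,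
            ← Nat.card_eq_fintype_card, hn]
          congr 1
          refine Subtype.ext ?_
          show (q : H) * d * (q : H)⁻¹ = d
          rw [← Subgroup.mem_centralizer_iff.1 (hFQ q.2) d hd.2, mul_inv_cancel_right]
        rw [← h2, ← hkd']
        exact MonoidHom.mem_ker.1 hk
      obtain ⟨m, hm, hmd⟩ : ∃ m : ↥L, (m : H) ∈ N0 ∧ φ m = φ ⟨d, hd.1⟩ := by
        have hn' : M0 ≤ Subgroup.normalizer ((⁅L, L⁆ : Subgroup H) : Set H) :=
          inf_le_left.trans (Lib.Coprime.left_le_normalizer_commutator L L)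
        have h3 : d ∈ ((M0 ⊔ ⁅L, L⁆ : Subgroup H) : Set H) := by rw [sup_comm]; exact hLM hd.1
        rw [Subgroup.coe_mul_of_left_le_normalizer_right _ _ hn'] at h3
        obtain ⟨m, hm, l, hl, hml⟩ := h3
        have hl' : l ∈ (_root_.commutator ↥L).map L.subtype := by rw [Subgroup.map_subtype_commutator]; exact hl
        obtain ⟨l', hl'', hll⟩ := hl'
        refine ⟨⟨m, hm.1⟩, hm.2, ?_⟩
        have : (⟨d, hd.1⟩ : ↥L) = ⟨m, hm.1⟩ * l' := Subtype.ext (by
          show d = m * (l' : H)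
          rw [show (l' : H) = l from hll]
          exact hml.symm)
        have hone : φ l' = 1 := (QuotientGroup.eq_one_iff (N := _root_.commutator ↥L) l').2 hl''
        rw [this, map_mul, hone, mul_one]
      have h4 : orderOf (φ ⟨d, hd.1⟩) ∣ Nat.card N0 := by
        rw [← hmd]
        refine (orderOf_map_dvd φ m).trans ?_
        rw [← Subgroup.orderOf_coe]
        have := orderOf_dvd_natCard (⟨(m : H), hm⟩ : N0)
        rwa [Subgroup.orderOf_mk] at this
      exact Nat.eq_one_of_dvd_coprimes ((Lib.CharP.fitting_coprime hO).pow_right n) h4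
        (orderOf_dvd_of_pow_eq_one h1)
    rw [← Subgroup.map_subtype_commutator]
    exact ⟨⟨d, hd.1⟩, (QuotientGroup.eq_one_iff (N := _root_.commutator ↥L) _).1 hone, rfl⟩
  refine ⟨hFeq, hidem.symm, ?_, fun B hB hBQ hLB => ?_, ?_⟩
  · intro d hd
    refine ⟨⟨d, hd.1⟩, ?_, rfl⟩
    rw [SetLike.mem_coe, frattini, Order.radical]
    simp only [Subgroup.mem_iInf]
    intro W hW
    by_contra hdW
    have hz : (⟨d, hd.1⟩ : ↥L) ∈ Subgroup.center ↥L := Subgroup.mem_center_iff.2 fun l =>
      Subtype.ext (Subgroup.mem_centralizer_iff.1 (hFL hd.2) _ l.2)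
    haveI hzn : (Subgroup.zpowers (⟨d, hd.1⟩ : ↥L)).Normal := ⟨fun x hx g => by
      rw [Subgroup.mem_center_iff.1 (Subgroup.zpowers_le.2 hz hx) g, mul_inv_cancel_right]; exact hx⟩
    have htop : W ⊔ Subgroup.zpowers (⟨d, hd.1⟩ : ↥L) = ⊤ :=
      hW.2 _ (left_lt_sup.2 fun h => hdW (h (Subgroup.mem_zpowers _)))
    have hc : ⁅(⊤ : Subgroup ↥L), (⊤ : Subgroup ↥L)⁆ ≤ W := by
      refine Subgroup.commutator_le.2 fun a _ b _ => ?_
      obtain ⟨w, hw, z, hz', rfl⟩ := Subgroup.mem_sup_of_normal_right.1 (htop ▸ Subgroup.mem_top a)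
      obtain ⟨w', hw', z', hz'', rfl⟩ := Subgroup.mem_sup_of_normal_right.1 (htop ▸ Subgroup.mem_top b)
      have e1 := Subgroup.mem_center_iff.1 (Subgroup.zpowers_le.2 hz hz')
      have e2 := Subgroup.mem_center_iff.1 (Subgroup.zpowers_le.2 hz hz'')
      have : ⁅w * z, w' * z'⁆ = ⁅w, w'⁆ := by
        simp only [commutatorElement_def]
        calc w * z * (w' * z') * (w * z)⁻¹ * (w' * z')⁻¹
            = w * (z * w') * (z' * (z⁻¹ * w⁻¹)) * (z'⁻¹ * w'⁻¹) := by group
          _ = w * (w' * z) * ((z⁻¹ * w⁻¹) * z') * (z'⁻¹ * w'⁻¹) := by rw [← e1 w', ← e2 (z⁻¹ * w⁻¹)]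
          _ = w * w' * w⁻¹ * w'⁻¹ := by group
      rw [this, commutatorElement_def]
      exact mul_mem (mul_mem (mul_mem hw hw') (inv_mem hw)) (inv_mem hw')
    have h1 := hD' hd
    rw [← Subgroup.map_subtype_commutator] at h1
    obtain ⟨d', hd', he⟩ := h1
    exact hdW ((Subtype.ext he : d' = ⟨d, hd.1⟩) ▸ hc hd')
  · have hBL : B ≤ Subgroup.normalizer (L : Set H) := by
      rw [hL, Subgroup.le_normalizer_iff_commutator_le_right]
      rw [Subgroup.commutator_comm]
      refine Subgroup.le_normalizer_iff_commutator_le_left.1 ?_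
      intro b hb
      rw [Subgroup.mem_normalizer_iff]
      have key : ∀ g ∈ Subgroup.normalizer (Q : Set H), ∀ x ∈ ⁅Fs, Q⁆, g * x * g⁻¹ ∈ ⁅Fs, Q⁆ := by
        intro g hg x hx
        have : (⁅Fs, Q⁆ : Subgroup H).map (MulAut.conj g).toMonoidHom ≤ ⁅Fs, Q⁆ := by
          rw [Subgroup.map_commutator]
          refine Subgroup.commutator_mono ?_ ?_
          · rintro _ ⟨y, hy, rfl⟩
            exact (inferInstance : Fs.Normal).conj_mem y hy g
          · rintro _ ⟨y, hy, rfl⟩
            exact (Subgroup.mem_normalizer_iff.1 hg y).1 hy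
        exact this ⟨x, hx, rfl⟩
      refine fun x => ⟨key b (hBQ hb) x, fun hx => ?_⟩
      have := key b⁻¹ (inv_mem (hBQ hb)) _ hx
      simpa [mul_assoc] using this
    have hLB' : ⁅L, B⁆ ≤ L := Lib.Coprime.commutator_le_of_le_normalizer hBL
    have h1 : ⁅⁅L, B⁆, L⁆ = ⊥ :=
      Subgroup.commutator_eq_bot_iff_le_centralizer.2 (hLB.trans hFL)
    have h2 : ⁅⁅B, L⁆, L⁆ = ⊥ := by rw [Subgroup.commutator_comm B L]; exact h1
    have h3 : ⁅⁅L, L⁆, B⁆ = ⊥ := Lib.Components.three_subgroups h1 h2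
    have h4 : ⁅⁅L, L⁆, B⁆ = ⊥ → ⁅⁅L, B⁆, B⁆ = ⊥ := fun h => by
      refine le_bot_iff.1 (h ▸ Subgroup.commutator_mono ?_ le_rfl)
      exact (le_inf hLB' hLB).trans hD'
    have hM0n : B ≤ Subgroup.normalizer (M0 : Set H) := hinfn hBL
    have h5 : ⁅⁅M0, B⁆, B⁆ = ⊥ := le_bot_iff.1 ((h4 h3) ▸
      Subgroup.commutator_mono (Subgroup.commutator_mono inf_le_left le_rfl) le_rfl)
    have h6 : M0 ≤ Subgroup.centralizer (B : Set H) := Subgroup.le_centralizer_iff.1
      (Lib.Coprime.le_centralizer_of_commutator_commutator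
        (hcopN B hB _ ((Lib.Coprime.commutator_le_of_le_normalizer hM0n).trans inf_le_right)) h5)
    rw [Subgroup.commutator_eq_bot_iff_le_centralizer]
    exact hLM.trans (sup_le (Subgroup.commutator_eq_bot_iff_le_centralizer.1 h3) h6)
  · refine ((Nat.Prime.coprime_iff_not_dvd Fact.out).2 fun hd => ?_).symm
    obtain ⟨x, hx⟩ := exists_prime_orderOf_dvd_card'
      (G := ↥(Subgroup.centralizer ((F ⊔ L : Subgroup H) : Set H))) p hd
    rw [← Subgroup.orderOf_coe] at hx
    have hxk : (x : H) ^ p ^ 1 = 1 := by rw [pow_one, ← hx, pow_orderOf_eq_one]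
    set X := Subgroup.zpowers (x : H) with hX
    have hXp : IsPGroup p ↥X := IsPGroup.of_card (n := 1) (by rw [Nat.card_zpowers, hx, pow_one])
    have hFLX : F ⊔ L ≤ Subgroup.centralizer (X : Set H) :=
      Subgroup.le_centralizer_iff.1 (Subgroup.zpowers_le.2 x.2)
    set R := Subgroup.centralizer (M0 : Set H) ⊓ N0 with hR
    have h1 : ⁅N0, X⁆ ≤ R := by
      refine le_inf ?_ (Subgroup.commutator_le_left N0 X)
      have hn : N0 ≤ Subgroup.normalizer (M0 : Set H) :=
        hinfn (le_trans le_sup_right hFsL)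
      have ha : ⁅M0, X⁆ = ⊥ := Subgroup.commutator_eq_bot_iff_le_centralizer.2
        (inf_le_left.trans (le_sup_right.trans hFLX))
      have hb : ⁅⁅N0, M0⁆, X⁆ = ⊥ := le_bot_iff.1 (ha ▸ Subgroup.commutator_mono
        (Subgroup.le_normalizer_iff_commutator_le_right.1 hn) le_rfl)
      have hc : ⁅⁅M0, X⁆, N0⁆ = ⊥ := by rw [ha, Subgroup.commutator_bot_left]
      rw [Subgroup.commutator_comm N0 X]
      exact Subgroup.commutator_eq_bot_iff_le_centralizer.1 (Lib.Components.three_subgroups hb hc)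
    have hQR : Q ≤ Subgroup.normalizer (R : Set H) :=
      hinfn (Lib.CharP.le_normalizer_centralizer (hinfn hQL))
    have h2 : R ≤ F ⊔ L := by
      have hsolv : Group.IsSolvable ↥R := by
        haveI : Group.IsNilpotent ↥R :=
          Lib.Cores.isNilpotent_of_le inf_le_right Lib.Cores.fittingSubgroup_isNilpotent
        infer_instance
      rw [← Lib.Coprime.commutator_sup_centralizer hQR (hcopN Q hQ R inf_le_right) (Or.inr hsolv)]
      refine sup_le (le_trans ?_ le_sup_right) (le_trans ?_ le_sup_left)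
      · rw [hL]
        exact Subgroup.commutator_mono (inf_le_right.trans le_sup_right) le_rfl
      · rw [hFeq]
        refine le_inf (inf_le_left.trans (inf_le_right.trans le_sup_right)) (Subgroup.le_centralizer_iff.1 ?_)
        refine sup_le ((Lib.CharP.le_components_sup hLsn hLle).trans (sup_le (sSup_le fun K hK => ?_) ?_))
          (Subgroup.le_centralizer_iff.1 inf_le_right)
        · refine Subgroup.le_centralizer_iff.1 (inf_le_left.trans (inf_le_right.trans ?_))
          exact Lib.Components.Component.fittingSubgroup_le_centralizer hK.1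
        · exact Subgroup.le_centralizer_iff.1 (inf_le_left.trans inf_le_left)
    have h3 : ⁅⁅N0, X⁆, X⁆ = ⊥ :=
      Subgroup.commutator_eq_bot_iff_le_centralizer.2 (h1.trans (h2.trans hFLX))
    have h4 : X ≤ Subgroup.centralizer (N0 : Set H) :=
      Lib.Coprime.le_centralizer_of_commutator_commutator (hcopN X hXp _ (Subgroup.commutator_le_left N0 X)) h3
    have h5 : Fs ≤ Subgroup.centralizer (X : Set H) := sup_le (sSup_le fun K hK =>
      ((hcomp K hK).elim (fun h => h.trans le_sup_right) (fun h => h.trans le_sup_left)).trans hFLX)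
      (Subgroup.le_centralizer_iff.1 h4)
    have := Lib.CharP.eq_one_of_centralizes_fstar hO
      (Subgroup.le_centralizer_iff.1 h5 (Subgroup.mem_zpowers (x : H))) hxk
    rw [this, orderOf_one] at hx
    exact (Fact.out : p.Prime).ne_one hx.symm

end Cfsg.Agent.S2817
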