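import Cfsg.Statements.S2818
import Cfsg.Agent.Lib.CharP.Frattini

set_option autoImplicit false
open Cfsg
open scoped commutatorElement

namespace Cfsg.Agent.S2818

/-- Let P be a finite p-subgroup of a group G and H a subgroup of N_G(P) with [P, H] ≤ Ω₁(Z(P)) (the elements of order dividing p in the centre of P). Then H centralizes the Frattini subgroup of P. -/
theorem result {G : Type*} [Group G] [Finite G] {p : ℕ} [Fact p.Prime] (P : Subgroup G) (hP : IsPGroup p ↥P) (H : Subgroup G) (hH : H ≤ Subgroup.normalizer (P : Set G)) (h : ⁅P, H⁆ ≤ Cfsg.omegaOne p (P ⊓ Subgroup.centralizer (P : Set G))) : ⁅(frattini ↥P).map P.subtype, H⁆ = ⊥ := by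
  set Z := P ⊓ Subgroup.centralizer (P : Set G) with hZdef
  have hZc : ∀ a ∈ Z, ∀ b ∈ Z, Commute a b := fun a ha b hb =>
    (Subgroup.mem_centralizer_iff.1 hb.2 a ha.1)
  rw [Subgroup.commutator_eq_bot_iff_le_centralizer]
  have key : ∀ g ∈ H, ∀ x ∈ P, ∃ z, (∀ w ∈ P, Commute w z) ∧ z ^ p = 1 ∧ g * x * g⁻¹ = x * z := by
    intro g hg x hx
    have hz := h (Subgroup.commutator_mem_commutator (inv_mem hx) hg)
    refine ⟨⁅x⁻¹, g⁆, fun w hw =>
      Subgroup.mem_centralizer_iff.1 (Lib.CharP.omegaOne_le' _ hz).2 w hw,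
      Lib.CharP.pow_eq_one_of_mem_omegaOne hZc hz, ?_⟩
    rw [commutatorElement_def]; group
  refine Lib.CharP.map_frattini_le (p := p) (fun a ha b hb => ?_) fun a ha => ?_
  · rw [Subgroup.mem_centralizer_iff]
    intro g hg
    obtain ⟨z, hzc, -, hz⟩ := key g hg a ha
    obtain ⟨w, hwc, -, hw⟩ := key g hg b hb
    have hzP : a * z ∈ P := hz ▸ (Subgroup.mem_normalizer_iff.1 (hH hg) a).1 ha
    have e : g * ⁅a, b⁆ * g⁻¹ = ⁅a * z, b * w⁆ := by rw [← hz, ← hw, conjugate_commutatorElement]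
    have e1 : ⁅a * z, b * w⁆ = ⁅a * z, b⁆ := by
      rw [commutatorElement_mul_right_eq_mul_conj, (hwc _ hzP).commutator_eq]
      simp [mul_assoc]
    have e2 : ⁅a * z, b⁆ = ⁅a, b⁆ := by
      rw [commutatorElement_mul_left_eq_conj_mul, (hzc b hb).symm.commutator_eq]
      simp
    exact mul_inv_eq_iff_eq_mul.1 (by rw [e, e1, e2])
  · rw [Subgroup.mem_centralizer_iff]
    intro g hg
    obtain ⟨z, hzc, hzp, hz⟩ := key g hg a ha
    refine mul_inv_eq_iff_eq_mul.1 ?_
    rw [← conj_pow, hz, (hzc a ha).mul_pow, hzp, mul_one]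

end Cfsg.Agent.S2818
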