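import Cfsg.Statements.S2819
import Cfsg.Agent.Lib.CharP.Frattini
import Cfsg.Agent.Lib.CharP.Basic

set_option autoImplicit false
set_option linter.style.haveILetI false
open Cfsg
open scoped commutatorElement

namespace Cfsg.Agent.S2819

/-- In an elementary quotient `(c x)^p` and `x^p` agree. -/
theorem pow_mul_mem {G : Type*} [Group G] {p : ℕ} (P : Subgroup G) {c x : G} (hc : c ∈ P)
    (hx : x ∈ P) (hcp : c ^ p = 1) : (c * x) ^ p * (x ^ p)⁻¹ ∈ ⁅P, P⁆ := by
  rw [← Subgroup.map_subtype_commutator]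
  refine ⟨(⟨c, hc⟩ * ⟨x, hx⟩) ^ p * ((⟨x, hx⟩ : P) ^ p)⁻¹, ?_, rfl⟩
  refine (QuotientGroup.eq_one_iff (N := commutator ↥P) _).1 ?_
  show Abelianization.of (_ : ↥P) = 1
  have hc1 : (⟨c, hc⟩ : P) ^ p = 1 := Subtype.ext (by simpa using hcp)
  rw [map_mul, map_inv, map_pow, map_pow, map_mul, mul_pow, mul_inv_cancel_right, ← map_pow, hc1,
    map_one]

/-- Let P be a finite p-subgroup of a group G, H a subgroup of N_G(P), and Y a subgroup of H centralizing the derived subgroup P' such that [P, Y] is elementary abelian. Then O^p(⟨Y^H⟩), the subgroup of the normal closure of Y in H generated by its elements of order prime to p, centralizes the Frattini subgroup of P. -/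
theorem result {G : Type*} [Group G] [Finite G] {p : ℕ} [Fact p.Prime] (P : Subgroup G) (hP : IsPGroup p ↥P) (H : Subgroup G) (hH : H ≤ Subgroup.normalizer (P : Set G)) (Y : Subgroup G) (hYH : Y ≤ H) (hYc : Y ≤ Subgroup.centralizer ((⁅P, P⁆ : Subgroup G) : Set G)) (hel : Cfsg.IsElementaryAbelian p ⁅P, Y⁆) (NY : Subgroup G) (hNY : NY = (Subgroup.normalClosure ((Y.subgroupOf H : Subgroup ↥H) : Set ↥H)).map H.subtype) : (Cfsg.pResidual p ↥NY).map NY.subtype ≤ Subgroup.centralizer (((frattini ↥P).map P.subtype : Subgroup G) : Set G) := by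
  set D : Subgroup G := ⁅P, P⁆ with hD
  have hDP : D ≤ P := Subgroup.commutator_le.mpr fun a ha b hb => by
    rw [commutatorElement_def]
    exact mul_mem (mul_mem (mul_mem ha hb) (inv_mem ha)) (inv_mem hb)
  have hDn : ∀ n ∈ Subgroup.normalizer (P : Set G), ∀ u ∈ D, n * u * n⁻¹ ∈ D := by
    intro n hn u hu
    have : D.map (MulAut.conj n).toMonoidHom ≤ D := by
      rw [hD, Subgroup.map_commutator]
      exact Subgroup.commutator_mono (fun _ ⟨a, ha, he⟩ => he ▸ (Subgroup.mem_normalizer_iff.mp hn a).mp ha)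
        (fun _ ⟨a, ha, he⟩ => he ▸ (Subgroup.mem_normalizer_iff.mp hn a).mp ha)
    exact this ⟨u, hu, rfl⟩
  have hPn : ∀ n ∈ Subgroup.normalizer (P : Set G), ∀ u ∈ P, n * u * n⁻¹ ∈ P :=
    fun n hn u hu => (Subgroup.mem_normalizer_iff.mp hn u).mp hu
  let M : Subgroup G :=
    { carrier := {n | n ∈ Subgroup.normalizer (P : Set G) ∧ (∀ u ∈ D, n * u * n⁻¹ = u) ∧
        ∀ x ∈ P, n * x ^ p * n⁻¹ * (x ^ p)⁻¹ ∈ D}
      one_mem' := ⟨one_mem _, by simp, by simp⟩
      mul_mem' := by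
        rintro n m ⟨hn, hn1, hn2⟩ ⟨hm, hm1, hm2⟩
        refine ⟨mul_mem hn hm, fun u hu => ?_, fun x hx => ?_⟩
        · calc n * m * u * (n * m)⁻¹ = n * (m * u * m⁻¹) * n⁻¹ := by group
            _ = u := by rw [hm1 u hu, hn1 u hu]
        · have e : n * m * x ^ p * (n * m)⁻¹ * (x ^ p)⁻¹ =
              n * (m * x ^ p * m⁻¹ * (x ^ p)⁻¹) * n⁻¹ * (n * x ^ p * n⁻¹ * (x ^ p)⁻¹) := by group
          rw [e, hn1 _ (hm2 x hx)]
          exact mul_mem (hm2 x hx) (hn2 x hx)
      inv_mem' := by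
        rintro n ⟨hn, hn1, hn2⟩
        have hinv : ∀ u ∈ D, n⁻¹ * u * n = u := fun u hu => by
          conv_lhs => rw [← hn1 u hu]
          group
        refine ⟨inv_mem hn, fun u hu => by rw [inv_inv]; exact hinv u hu, fun x hx => ?_⟩
        have e : n⁻¹ * x ^ p * n⁻¹⁻¹ * (x ^ p)⁻¹ =
            n⁻¹ * (n * x ^ p * n⁻¹ * (x ^ p)⁻¹)⁻¹ * n := by group
        rw [e, hinv _ (inv_mem (hn2 x hx))]
        exact inv_mem (hn2 x hx) }
  have hYM : Y ≤ M := by
    intro y hy
    have hyN := hH (hYH hy)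
    refine ⟨hyN, fun u hu => ?_, fun x hx => ?_⟩
    · rw [← (Subgroup.mem_centralizer_iff.mp (hYc hy)) u hu, mul_inv_cancel_right]
    · have hc : ⁅y, x⁆ ∈ ⁅P, Y⁆ := by
        rw [← commutatorElement_inv]
        exact inv_mem (Subgroup.commutator_mem_commutator hx hy)
      have hcP : ⁅y, x⁆ ∈ P := by
        rw [commutatorElement_def]
        exact mul_mem (hPn y hyN x hx) (inv_mem hx)
      have e : y * x ^ p * y⁻¹ = (⁅y, x⁆ * x) ^ p := by
        rw [← conj_pow, commutatorElement_def, inv_mul_cancel_right]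
      rw [e]
      exact pow_mul_mem P hcP hx (hel.2 _ hc)
  haveI hMn : (M.subgroupOf H).Normal := ⟨fun n hn h => by
    obtain ⟨hn0, hn1, hn2⟩ := Subgroup.mem_subgroupOf.mp hn
    have hh := hH h.2
    rw [Subgroup.mem_subgroupOf]
    refine ⟨mul_mem (mul_mem hh hn0) (inv_mem hh), fun u hu => ?_, fun x hx => ?_⟩
    · have := hn1 _ (hDn _ (inv_mem hh) u hu)
      calc (h : G) * n * (h : G)⁻¹ * u * ((h : G) * n * (h : G)⁻¹)⁻¹
          = (h : G) * ((n : G) * ((h : G)⁻¹ * u * (h : G)⁻¹⁻¹) * (n : G)⁻¹) * (h : G)⁻¹ := by group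
        _ = u := by rw [this]; group
    · have := hDn _ hh _ (hn2 _ (hPn _ (inv_mem hh) x hx))
      convert this using 1
      push_cast
      rw [conj_pow]
      group⟩
  have hNM : NY ≤ M := by
    rw [hNY, Subgroup.map_le_iff_le_comap]
    haveI : (Subgroup.comap H.subtype M).Normal := hMn
    exact Subgroup.normalClosure_le_normal (fun y hy => hYM (Subgroup.mem_subgroupOf.mp hy))
  rw [Subgroup.map_le_iff_le_comap]
  refine (Subgroup.closure_le _).mpr fun n hn => ?_
  have hn' : (orderOf (n : G)).Coprime p := by rwa [Subgroup.orderOf_coe]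
  obtain ⟨hn0, hn1, hn2⟩ := hNM n.2
  refine Lib.CharP.mem_centralizer_of_two_step (U := D) (hP.to_le hDP) hn' ?_ ?_
  · intro v hv
    let Z : Subgroup G :=
      { carrier := {z | z ∈ P ∧ (n : G) * z * (n : G)⁻¹ * z⁻¹ ∈ D}
        one_mem' := ⟨one_mem _, by simp⟩
        mul_mem' := by
          rintro a b ⟨ha, ha'⟩ ⟨hb, hb'⟩
          refine ⟨mul_mem ha hb, ?_⟩
          have h1 := hDn a (Subgroup.le_normalizer ha) _ hb'
          have e : (n : G) * (a * b) * (n : G)⁻¹ * (a * b)⁻¹ = (n : G) * a * (n : G)⁻¹ * a⁻¹ *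
              (a * ((n : G) * b * (n : G)⁻¹ * b⁻¹) * a⁻¹) := by group
          rw [e]
          exact mul_mem ha' h1
        inv_mem' := by
          rintro a ⟨ha, ha'⟩
          refine ⟨inv_mem ha, ?_⟩
          have h1 := hDn a⁻¹ (Subgroup.le_normalizer (inv_mem ha)) _ (inv_mem ha')
          convert h1 using 1
          group }
    have hvZ : v ∈ Z := by
      refine Lib.CharP.map_frattini_le (p := p) (fun a ha b hb => ?_) (fun a ha => ?_) hv
      · have hm : ⁅a, b⁆ ∈ D := Subgroup.commutator_mem_commutator ha hb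
        exact ⟨hDP hm, mul_mem (by rw [hn1 _ hm]; exact hm) (inv_mem hm)⟩
      · exact ⟨pow_mem ha p, hn2 a ha⟩
    rw [← commutatorElement_inv, inv_mem_iff, commutatorElement_def]
    exact hvZ.2
  · rw [Subgroup.mem_centralizer_iff]
    intro u hu
    exact (mul_inv_eq_iff_eq_mul.mp (hn1 u hu)).symm

end Cfsg.Agent.S2819
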