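import Cfsg.Statements.S2820
import Cfsg.Agent.Lib.CharP.Basic

set_option autoImplicit false
set_option linter.style.haveILetI false
open Cfsg

namespace Cfsg.Agent.S2820

/-- Let A and B be subnormal subgroups of the finite group H with A a p-group and B = O^p(B) (B generated by its elements of order prime to p). Then A normalizes B and B = O^p(AB), the subgroup of ⟨A, B⟩ generated by its elements of order prime to p. -/
theorem result {H : Type*} [Group H] [Finite H] {p : ℕ} [Fact p.Prime] (A B : Subgroup H) (hA : A.IsSubnormal) (hB : B.IsSubnormal) (hAp : IsPGroup p ↥A) (hBres : (Cfsg.pResidual p ↥B).map B.subtype = B) : A ≤ Subgroup.normalizer (B : Set H) ∧ (Cfsg.pResidual p ↥(A ⊔ B)).map (A ⊔ B).subtype = B := by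
  set P := pCore p H with hP
  have hAP : A ≤ P := Lib.Cores.IsSubnormal.le_pCore hA hAp
  set X := B ⊔ P with hX
  have key : ∀ K : Subgroup H, K.IsSubnormal → B ≤ K → ∀ g ∈ X, (orderOf g).Coprime p → g ∈ K := by
    intro K hK
    induction hK with
    | top => exact fun _ g _ _ => Subgroup.mem_top g
    | step H' K hle _ hN ih =>
      intro hBH g hgX hgo
      have hgK : g ∈ K := ih (hBH.trans hle) g hgX hgo
      obtain ⟨b, hb, u, hu, rfl⟩ := Subgroup.mem_sup_of_normal_right.1 hgX
      have huK : u ∈ K := by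
        have := K.mul_mem (inv_mem (hle (hBH hb))) hgK
        simpa using this
      haveI := hN
      let f := QuotientGroup.mk' (H'.subgroupOf K)
      have hf : f ⟨b * u, hgK⟩ = f ⟨u, huK⟩ := by
        have h1 : f ⟨b, hle (hBH hb)⟩ = 1 :=
          (QuotientGroup.eq_one_iff _).2 (show b ∈ H' from hBH hb)
        calc f ⟨b * u, hgK⟩ = f (⟨b, hle (hBH hb)⟩ * ⟨u, huK⟩) := rfl
          _ = f ⟨u, huK⟩ := by rw [map_mul, h1, one_mul]
      obtain ⟨k, hk⟩ := isPGroup_iff_pow_pow_eq_one.1 (Lib.Cores.pCore_isPGroup p) (⟨u, hu⟩ : P)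
      have hfk : f ⟨b * u, hgK⟩ ^ p ^ k = 1 := by
        rw [hf, ← map_pow]
        have : (⟨u, huK⟩ : K) ^ p ^ k = 1 := Subtype.ext (by simpa using congrArg Subtype.val hk)
        rw [this, map_one]
      have hone := Lib.CharP.eq_one_of_coprime_of_pElement
        (Nat.Coprime.coprime_dvd_left (orderOf_map_dvd f _) (by rwa [Subgroup.orderOf_mk])) hfk
      exact ((QuotientGroup.eq_one_iff (⟨b * u, hgK⟩ : K)).1 hone : _)
  have hres : ∀ Y : Subgroup H, B ≤ Y → Y ≤ X → (pResidual p Y).map Y.subtype = B := by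
    intro Y hBY hYX
    refine le_antisymm ?_ (hBres.ge.trans (Lib.CharP.map_pResidual_subtype_mono hBY))
    rw [Lib.CharP.map_pResidual_subtype, Subgroup.closure_le]
    exact fun g hg => key B hB le_rfl g (hYX hg.1) hg.2
  refine ⟨?_, hres _ le_sup_right (sup_le (hAP.trans le_sup_right) le_sup_left)⟩
  have := Lib.CharP.le_normalizer_map_pResidual (p := p) X
  rw [hres X le_sup_left le_rfl] at this
  exact (hAP.trans le_sup_right).trans this

end Cfsg.Agent.S2820
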