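import Cfsg.Statements.S2825
import Cfsg.Agent.Lib.CharP.Subnormal

set_option autoImplicit false
open Cfsg

namespace Cfsg.Agent.S2825

/-- Let L be a subnormal subgroup of the finite group H, p a prime, Y_H and Y_L the largest p-reduced normal subgroups. Then Y_H ∩ L = Y_H ∩ Y_L and this subgroup is a p-reduced normal subgroup of L; C_L(Y_L) = C_L(Y_H) = C_L(Y_H ∩ L); and if O^p(H) ≤ L, then [Y_L, L] = 1 if and only if [Y_H, H] = 1. -/
theorem result {H : Type*} [Group H] [Finite H] {p : ℕ} [Fact p.Prime] (L : Subgroup H) (hL : L.IsSubnormal) : Cfsg.largestPReduced p H ⊓ L = Cfsg.largestPReduced p H ⊓ (Cfsg.largestPReducedOf p L) ∧ Cfsg.IsPReducedNormal p ((Cfsg.largestPReduced p H ⊓ L).subgroupOf L) ∧ L ⊓ Subgroup.centralizer ((Cfsg.largestPReducedOf p L : Subgroup H) : Set H) = L ⊓ Subgroup.centralizer (Cfsg.largestPReduced p H : Set H) ∧ L ⊓ Subgroup.centralizer (Cfsg.largestPReduced p H : Set H) = L ⊓ Subgroup.centralizer ((Cfsg.largestPReduced p H ⊓ L : Subgroup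 H) : Set H) ∧ (Cfsg.pResidual p H ≤ L → (⁅(Cfsg.largestPReducedOf p L), L⁆ = ⊥ ↔ ⁅Cfsg.largestPReduced p H, (⊤ : Subgroup H)⁆ = ⊥)) := by
  obtain ⟨hU, hUc⟩ := Lib.CharP.isPRed_inf_of_isSubnormal hL
    (Lib.CharP.largestPReduced_isPReducedNormal (p := p) (G := H))
  have heq := Lib.CharP.inf_centralizer_largest_eq (p := p) hL
  refine ⟨le_antisymm (le_inf inf_le_left hU.le_largest)
      (inf_le_inf_left _ (Lib.CharP.largestPReducedOf_le p L)),
    (Lib.CharP.isPReducedNormal_subgroupOf_iff inf_le_right).2 hU, heq,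
    le_antisymm (inf_le_inf_left L (Subgroup.centralizer_le inf_le_left)) (le_inf inf_le_left hUc),
    fun hres => ?_⟩
  rw [Subgroup.commutator_eq_bot_iff_le_centralizer, Subgroup.commutator_eq_bot_iff_le_centralizer,
    Subgroup.le_centralizer_iff, Subgroup.le_centralizer_iff (H := Cfsg.largestPReduced p H)]
  constructor
  · intro h
    have hLY : L ≤ Subgroup.centralizer (Cfsg.largestPReduced p H : Set H) := fun l hl =>
      (heq.le ⟨hl, h hl⟩).2
    refine Lib.CharP.le_centralizer_of_isSubnormal Lib.CharP.largestPReduced_isPReducedNormal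
      Subgroup.IsSubnormal.top fun g _ hgo => hLY (hres (Lib.CharP.mem_pResidual hgo))
  · intro h l hl
    exact (heq.ge ⟨hl, h (Subgroup.mem_top l)⟩).2

end Cfsg.Agent.S2825
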