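import Cfsg.Statements.S2826
import Cfsg.Agent.Lib.CharP.Parabolic

set_option autoImplicit false
set_option linter.style.haveILetI false
open Cfsg
open scoped commutatorElement

namespace Cfsg.Agent.S2826

/-- Let H be a finite group of characteristic p, T a Sylow p-subgroup, and V a normal elementary abelian p-subgroup of H containing Ω₁(Z(T)). Then C_H(Ω₁(Z(T))) = C_H([V, O^p(H)] ∩ Ω₁(Z(T))), O^p(H) being generated by the elements of order prime to p. -/
theorem result {H : Type*} [Group H] [Finite H] {p : ℕ} [Fact p.Prime] (hH : Subgroup.centralizer (Cfsg.pCore p H : Set H) ≤ Cfsg.pCore p H) (T : Sylow p H) (V : Subgroup H) [V.Normal] (hV : Cfsg.IsElementaryAbelian p V) (hZV : (Cfsg.omegaOne p ((T : Subgroup H) ⊓ Subgroup.centralizer (((T : Subgroup H) : Subgroup H) : Set H))) ≤ V) : Subgroup.centralizer ((Cfsg.omegaOne p ((T : Subgroup H) ⊓ Subgroup.centralizer (((T : Subgroup H) : Subgroup H) : Set H))) : Set H) = Subgroup.centralizer (((⁅V, Cfsg.pResidual p H⁆ ⊓ (Cfsg.omegaOne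 p ((T : Subgroup H) ⊓ Subgroup.centralizer (((T : Subgroup H) : Subgroup H) : Set H)))) : Subgroup H) : Set H) := by
  set Z := omegaOne p ((T : Subgroup H) ⊓ Subgroup.centralizer ((T : Subgroup H) : Set H)) with hZ
  refine le_antisymm (Subgroup.centralizer_le inf_le_right) ?_
  have htop : Subgroup.centralizer (pCore p (⊤ : Subgroup H) : Set (⊤ : Subgroup H)) ≤ pCore p (⊤ : Subgroup H) := by
    rw [Lib.CharP.charP_iff, Lib.CharP.pCoreOf_top, top_inf_eq]; exact hH
  have hR : (pResidual p (⊤ : Subgroup H)).map (⊤ : Subgroup H).subtype = pResidual p H :=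
    Lib.CharP.map_pResidual_equiv Subgroup.topEquiv
  set W := sylowCenterClosure p (⊤ : Subgroup H) with hW
  have hdec := Lib.CharP.sylowCenterClosure_eq_center_sup T le_top htop
  obtain ⟨hdec', -⟩ := Lib.CharP.sylowCenterClosure_eq T le_top htop
  have hWV : W ≤ V := by
    rw [hW, hdec', hR]
    refine sup_le hZV ?_
    refine iSup_le (fun S => ?_) |> fun h => le_trans (Subgroup.commutator_mono h le_rfl)
      (Subgroup.le_normalizer_iff_commutator_le_left.1 Subgroup.le_normalizer_of_normal)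
    obtain ⟨g, hg⟩ := MulAction.exists_smul_eq (⊤ : Subgroup H) (T.subtype le_top) S
    have hmap : (S : Subgroup (⊤ : Subgroup H)).map (⊤ : Subgroup H).subtype =
        (T : Subgroup H).map (MulAut.conj (g : H)).toMonoidHom := by
      rw [← hg, Sylow.smul_def, Sylow.pointwise_smul_def, Subgroup.pointwise_smul_def]
      ext z
      constructor
      · rintro ⟨_, ⟨s, hs, rfl⟩, rfl⟩
        exact ⟨s, hs, rfl⟩
      · rintro ⟨s, hs, rfl⟩
        exact ⟨_, ⟨⟨s, Subgroup.mem_top s⟩, hs, rfl⟩, rfl⟩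
    rw [hmap, ← Lib.CharP.map_omegaOne_center]
    exact (Subgroup.map_mono hZV).trans (Subgroup.Normal.map_conj_eq (H := V) (g : H)).le
  intro x hx
  rw [Subgroup.mem_centralizer_iff] at hx ⊢
  intro z hz
  have hzW : z ∈ W := Lib.CharP.omegaOne_center_le_sylowCenterClosure le_top hz
  rw [hW, hdec, hR] at hzW
  have hn : omegaOne p ((⊤ : Subgroup H) ⊓ Subgroup.centralizer ((⊤ : Subgroup H) : Set H)) ≤
      Subgroup.normalizer ((⁅W, pResidual p H⁆ : Subgroup H) : Set H) := fun c hc => by
    have hc' := (Lib.CharP.mem_omegaOne_center_iff.1 hc).2.1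
    rw [Subgroup.mem_normalizer_iff]
    exact fun y => by rw [(hc' y (Subgroup.mem_top y)).symm.mul_inv_cancel]
  rw [← SetLike.mem_coe, ← hW, Subgroup.coe_mul_of_left_le_normalizer_right _ _ hn] at hzW
  obtain ⟨c, hc, d, hd, rfl⟩ := hzW
  have hdV : d ∈ ⁅V, pResidual p H⁆ ⊓ Z := by
    refine ⟨Subgroup.commutator_mono hWV le_rfl hd, ?_⟩
    have := Z.mul_mem (inv_mem (Lib.CharP.omegaOne_center_self_le T le_top htop hc)) hz
    simpa using this
  have h1 : Commute c x := ((Lib.CharP.mem_omegaOne_center_iff.1 hc).2.1 x (Subgroup.mem_top x)).symm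
  exact (h1.mul_left (hx d hdV)).eq

end Cfsg.Agent.S2826
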