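import Cfsg.Statements.S2827
import Cfsg.Agent.Lib.CharP.Irreducible

set_option autoImplicit false
set_option linter.style.haveILetI false
open Cfsg
open scoped commutatorElement

namespace Cfsg.Agent.S2827

/-- Let H be a finite p-irreducible group (not p-closed, and O^p(H) lies in every normal subgroup that is not p-closed) and T a Sylow p-subgroup. Then H is generated by the conjugates of T and H = H'·T; O^p(H) ≤ H'; and for every normal subgroup Y of T not contained in O_p(H), O^p(H) = [O^p(H), Y] and O^p(H) is contained in the normal closure of Y in H. -/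
theorem result {H : Type*} [Group H] [Finite H] {p : ℕ} [Fact p.Prime] (hH : Cfsg.IsPIrreducible p H) (T : Sylow p H) : Subgroup.normalClosure ((T : Subgroup H) : Set H) = ⊤ ∧ commutator H ⊔ (T : Subgroup H) = ⊤ ∧ Cfsg.pResidual p H ≤ commutator H ∧ ∀ Y : Subgroup H, Y ≤ (T : Subgroup H) → (T : Subgroup H) ≤ Subgroup.normalizer (Y : Set H) → ¬ Y ≤ Cfsg.pCore p H → ⁅Cfsg.pResidual p H, Y⁆ = Cfsg.pResidual p H ∧ Cfsg.pResidual p H ≤ Subgroup.normalClosure (Y : Set H) := by
  refine ⟨Lib.CharP.IsPIrreducible.normalClosure_sylow hH T, ?_, ?_, fun Y hYT hTY hYn => ?_⟩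
  · haveI : (commutator H ⊔ (T : Subgroup H)).Normal := Subgroup.Normal.of_commutator_le H le_sup_left
    rw [eq_top_iff, ← Lib.CharP.IsPIrreducible.normalClosure_sylow hH T]
    exact Subgroup.normalClosure_le_normal (le_sup_right : (T : Subgroup H) ≤ _)
  · refine Lib.CharP.pResidual_le_of_isPGroup_quotient ?_
    have h : (T : Subgroup H).map (QuotientGroup.mk' (commutator H)) = ⊤ := by
      haveI : (commutator H ⊔ (T : Subgroup H)).Normal := Subgroup.Normal.of_commutator_le H le_sup_left
      have htop : commutator H ⊔ (T : Subgroup H) = ⊤ := by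
        rw [eq_top_iff, ← Lib.CharP.IsPIrreducible.normalClosure_sylow hH T]
        exact Subgroup.normalClosure_le_normal (le_sup_right : (T : Subgroup H) ≤ _)
      have := congrArg (Subgroup.map (QuotientGroup.mk' (commutator H))) htop
      rwa [Subgroup.map_sup, QuotientGroup.map_mk'_self, bot_sup_eq,
        Subgroup.map_top_of_surjective _ (QuotientGroup.mk'_surjective _)] at this
    have := T.isPGroup'.map (QuotientGroup.mk' (commutator H))
    rw [h] at this
    exact this.of_equiv Subgroup.topEquiv
  set R := pResidual p H with hR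
  set N := ⁅R, Y⁆ with hN
  have hNn : N.Normal := by
    rw [← Subgroup.normalizer_eq_top_iff, eq_top_iff, ← Lib.CharP.sylow_sup_pResidual T]
    refine sup_le (fun t ht => ?_) (Subgroup.normalizer_commutator_ge_left R Y)
    rw [Subgroup.mem_normalizer_iff_map_conj_eq, hN, Subgroup.map_commutator,
      Subgroup.mem_normalizer_iff_map_conj_eq.1 (Subgroup.le_normalizer_of_normal (H := R) ht : t ∈ _),
      Subgroup.mem_normalizer_iff_map_conj_eq.1 (hTY ht)]
  haveI := hNn
  have hYR : (N ⊔ Y).Normal := by
    rw [← Subgroup.normalizer_eq_top_iff, eq_top_iff, ← Lib.CharP.sylow_sup_pResidual T]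
    refine sup_le (fun t ht => ?_) ?_
    · rw [Subgroup.mem_normalizer_iff_map_conj_eq, Subgroup.map_sup,
        Subgroup.mem_normalizer_iff_map_conj_eq.1 (Subgroup.le_normalizer_of_normal (H := N) ht : t ∈ _),
        Subgroup.mem_normalizer_iff_map_conj_eq.1 (hTY ht)]
    · rw [Subgroup.le_normalizer_iff_commutator_le_right, Subgroup.commutator_le]
      intro r hr y hy
      obtain ⟨n, hn, y', hy', rfl⟩ := Subgroup.mem_sup_of_normal_left.1 hy
      rw [commutatorElement_mul_right_eq_mul_conj]
      refine Subgroup.mem_sup_left ?_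
      have h1 : ⁅r, n⁆ ∈ N :=
        Subgroup.commutator_le_right R N (Subgroup.commutator_mem_commutator hr hn)
      have h2 := hNn.conj_mem _ (Subgroup.commutator_mem_commutator hr hy' : ⁅r, y'⁆ ∈ N) n
      simpa [mul_assoc] using N.mul_mem h1 h2
  haveI := hYR
  have hRNY : R ≤ N ⊔ Y := by
    by_contra hc
    refine hYn fun y hy => ?_
    obtain ⟨k, hk⟩ := Lib.CharP.exists_pow_eq_one_of_mem (T.isPGroup'.to_le hYT) hy
    exact Lib.CharP.isPClosed_normal_iff.1
      (Lib.CharP.IsPIrreducible.isPClosed_of_not_le (N := N ⊔ Y) hH hc) y (Subgroup.mem_sup_right hy) k hk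
  have hRN : N = R := le_antisymm (Subgroup.commutator_le_left R Y)
    (Lib.CharP.pResidual_le_of_le_sup (T.isPGroup'.to_le hYT) hRNY)
  refine ⟨hRN, hRN.ge.trans ?_⟩
  exact (Subgroup.commutator_mono (le_refl R) (Subgroup.subset_normalClosure :
    (Y : Set H) ⊆ Subgroup.normalClosure (Y : Set H))).trans (Subgroup.commutator_le_right _ _)

end Cfsg.Agent.S2827
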