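import Cfsg.Statements.S2830
import Cfsg.Agent.Lib.CharP.Irreducible

set_option autoImplicit false
set_option linter.style.haveILetI false
open Cfsg
open scoped commutatorElement

namespace Cfsg.Agent.S2830

/-- Let H act by conjugation on the elementary abelian p-subgroup V of a finite group G (H ≤ N(V)), with H p-irreducible and O^p(H) not centralizing V. Then C_H(V) is p-closed and C_T(V) ≤ O_p(H) for every p-subgroup T of H. If in addition O_p(H) centralizes V, then C_T(V) = T ∩ O_p(H) for every p-subgroup T of H, and V is p-reduced for H: O_p(H/C_H(V)) = 1. -/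
theorem result {G : Type*} [Group G] [Finite G] {p : ℕ} [Fact p.Prime] (V H : Subgroup G) (hV : Cfsg.IsElementaryAbelian p V) (hHV : H ≤ Subgroup.normalizer (V : Set G)) (hH : Cfsg.IsPIrreducible p ↥H) (hnc : ¬ (Cfsg.pResidual p ↥H).map H.subtype ≤ Subgroup.centralizer (V : Set G)) [hn : ((Subgroup.centralizer (V : Set G)).subgroupOf H).Normal] : Cfsg.IsPClosed p ↥(H ⊓ Subgroup.centralizer (V : Set G)) ∧ (∀ T : Subgroup G, T ≤ H → IsPGroup p ↥T → T ⊓ Subgroup.centralizer (V : Set G) ≤ Cfsg.pCoreOf p H) ∧ (Cfsg.pCoreOf p H ≤ Subgroup.centralizer (V : Set G) → (∀ T : Subgroup G, T ≤ H → IsPGroup p ↥T → T ⊓ Subgroup.centralizer (V : Set G) = T ⊓ Cfsg.pCoreOf p H) ∧ Cfsg.pCore p (↥H ⧸ (Subgroup.centralizer (V : Set G)).subgroupOf H) = ⊥) := by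
  set C := Subgroup.centralizer (V : Set G) with hC
  set N := C.subgroupOf H with hN
  have hRN : ¬ Cfsg.pResidual p ↥H ≤ N := fun h => hnc (Subgroup.map_le_iff_le_comap.2 h)
  have hNc : IsPClosed p ↥N := Lib.CharP.IsPIrreducible.isPClosed_of_not_le hH hRN
  have hiff := Lib.CharP.isPClosed_normal_iff.1 hNc
  have hT : ∀ T : Subgroup G, T ≤ H → IsPGroup p ↥T → T ⊓ C ≤ Cfsg.pCoreOf p H := by
    intro T hTH hTp x hx
    obtain ⟨k, hk⟩ := Lib.CharP.exists_pow_eq_one_of_mem hTp hx.1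
    exact ⟨⟨x, hTH hx.1⟩, hiff ⟨x, hTH hx.1⟩ hx.2 k (Subtype.ext (by simpa using hk)), rfl⟩
  refine ⟨?_, hT, fun hO => ⟨fun T hTH hTp => le_antisymm (le_inf inf_le_left (hT T hTH hTp))
    (inf_le_inf_left T hO), ?_⟩⟩
  · refine Lib.CharP.isPClosed_iff.2 fun x k hk => ?_
    rw [Lib.CharP.isPClosed_iff] at hNc
    let e : ↥N ≃* ↥(H ⊓ C) :=
      { toFun := fun y => ⟨y.1.1, y.1.2, y.2⟩
        invFun := fun y => ⟨⟨y.1, y.2.1⟩, y.2.2⟩
        left_inv := fun _ => rfl
        right_inv := fun _ => rfl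
        map_mul' := fun _ _ => rfl }
    have h1 := hNc (e.symm x) k (by rw [← map_pow, hk, map_one])
    rw [← Lib.Cores.map_pCore_equiv e]
    exact ⟨e.symm x, h1, e.apply_symm_apply x⟩
  · -- the preimage `K` of `O_p(H / C_H(V))`
    set f := QuotientGroup.mk' N with hf
    set K := (pCore p (↥H ⧸ N)).comap f with hK
    have hcop : ∀ g ∈ K, (orderOf g).Coprime p → g ∈ N := fun g hg hgo =>
      (QuotientGroup.eq_one_iff g).1 (Lib.CharP.eq_one_of_coprime_of_mem (Lib.Cores.pCore_isPGroup p) hg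
        (Nat.Coprime.coprime_dvd_left (orderOf_map_dvd f g) hgo))
    have hRK : ¬ Cfsg.pResidual p ↥H ≤ K := fun h => hRN ((Subgroup.closure_le _).2 fun g hg =>
      hcop g (h (Lib.CharP.mem_pResidual hg)) hg)
    have hKc := Lib.CharP.isPClosed_normal_iff.1
      (Lib.CharP.IsPIrreducible.isPClosed_of_not_le (N := K) hH hRK)
    rw [Subgroup.eq_bot_iff_forall]
    intro q hq
    obtain ⟨g, rfl⟩ := QuotientGroup.mk'_surjective N q
    obtain ⟨a, ha⟩ := Lib.CharP.exists_pow_eq_one_of_mem (Lib.Cores.pCore_isPGroup p) hq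
    -- `f g` is a `p`-element, so is the image of a `p`-element of `K`
    obtain ⟨T⟩ : Nonempty (Sylow p ↥K) := inferInstance
    have hKN : K ≤ N := by
      have htop := Lib.CharP.sylow_sup_pResidual T
      intro k hk
      have hle : (⊤ : Subgroup ↥K) ≤ N.subgroupOf K := by
        rw [← htop]
        refine sup_le (fun x hx => ?_) ((Subgroup.closure_le _).2 fun x hx => ?_)
        · obtain ⟨j, hj⟩ := Lib.CharP.exists_pow_eq_one_of_mem T.isPGroup' hx
          exact hO ⟨(x : ↥H), hKc x x.2 j (by simpa using congrArg Subtype.val hj), rfl⟩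
        · exact hcop x x.2 (by rwa [Subgroup.orderOf_coe])
      exact hle (Subgroup.mem_top (⟨k, hk⟩ : ↥K))
    exact (QuotientGroup.eq_one_iff g).2 (hKN hq)

end Cfsg.Agent.S2830
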