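import Cfsg.Statements.S2831
import Cfsg.Agent.Lib.CharP.Irreducible

set_option autoImplicit false
set_option linter.style.haveILetI false
open Cfsg
open scoped commutatorElement

namespace Cfsg.Agent.S2831

/-- Let H be a finite group with Sylow p-subgroup T such that H is T-minimal (H is generated by the conjugates of T and T lies in exactly one maximal subgroup of H). Then H is p-irreducible: H is not p-closed and O^p(H) lies in every normal subgroup of H that is not p-closed. -/
theorem result {H : Type*} [Group H] [Finite H] {p : ℕ} [Fact p.Prime] (T : Sylow p H) (hmin : Cfsg.IsMinimalOver (T : Subgroup H)) : Cfsg.IsPIrreducible p H := by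
  obtain ⟨hncl, M, hM, huniq⟩ := hmin
  have hncl' : ¬ IsPClosed p H := fun h => hM.1.1 (by
    haveI := h T
    rw [eq_top_iff, ← hncl, ← huniq M hM]
    exact le_trans (Subgroup.normalClosure_le_normal (le_refl (T : Subgroup H))) hM.2)
  refine ⟨hncl', fun N hN hNc => ?_⟩
  haveI := hN
  by_cases hNM : N ≤ M
  · exfalso
    have hTN : (T : Subgroup H) ≤ Subgroup.normalizer (N : Set H) := Subgroup.le_normalizer_of_normal
    obtain ⟨P, hP⟩ := Lib.CharP.exists_sylow_inf T hTN
    set D := (T : Subgroup H) ⊓ N with hD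
    have hTD : (T : Subgroup H) ≤ Subgroup.normalizer (D : Set H) :=
      (le_inf Subgroup.le_normalizer hTN).trans Subgroup.inf_normalizer_le_normalizer_inf
    have hne : Subgroup.normalizer (D : Set H) ≠ ⊤ := by
      intro h
      haveI : D.Normal := Subgroup.normalizer_eq_top_iff.1 h
      refine hNc (Lib.CharP.isPClosed_normal_iff.2 fun x hx k hk => ?_)
      haveI : (P : Subgroup ↥N).Normal := by rw [hP]; infer_instance
      obtain ⟨Q, hQ⟩ := (Lib.CharP.pow_mem_zpowers_isPGroup
        (show (⟨x, hx⟩ : ↥N) ^ p ^ k = 1 from Subtype.ext (by simpa using hk))).exists_le_sylow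
      haveI := Sylow.unique_of_normal P inferInstance
      rw [Subsingleton.elim Q P, hP] at hQ
      exact Lib.Cores.le_pCore (T.isPGroup'.to_le inf_le_left : IsPGroup p ↥D)
        (hQ (Subgroup.mem_zpowers _))
    have hDM : Subgroup.normalizer (D : Set H) ≤ M :=
      Lib.CharP.IsMinimalOver.le_of_lt ⟨hncl, M, hM, huniq⟩ hM hTD hne
    refine hM.1.1 (eq_top_iff.2 fun m _ => ?_)
    obtain ⟨c, hc, hcm⟩ := Lib.CharP.exists_mul_mem_normalizer T hTN
      (Subgroup.le_normalizer_of_normal (H := N) (Subgroup.mem_top m) : m ∈ _)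
    simpa using M.mul_mem (inv_mem (hNM hc)) (hDM hcm)
  · have htop : N ⊔ (T : Subgroup H) = ⊤ := by
      by_contra h
      exact hNM (le_sup_left.trans
        (Lib.CharP.IsMinimalOver.le_of_lt ⟨hncl, M, hM, huniq⟩ hM le_sup_right h))
    exact Lib.CharP.pResidual_le_of_le_sup T.isPGroup' (htop ▸ le_top)

end Cfsg.Agent.S2831
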