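import Cfsg.Statements.S2832
import Cfsg.Agent.Lib.CharP.Irreducible

set_option autoImplicit false
set_option linter.style.haveILetI false
open Cfsg
open scoped commutatorElement

namespace Cfsg.Agent.S2832

/-- Let H be a finite group with Sylow p-subgroup T such that H is T-minimal (generated by the conjugates of T, with T in exactly one maximal subgroup), and let N be a normal subgroup of H. Then either H/N is a p-group or H/N is minimal over the image of T in the same sense. -/
theorem result {H : Type*} [Group H] [Finite H] {p : ℕ} [Fact p.Prime] (T : Sylow p H) (hmin : Cfsg.IsMinimalOver (T : Subgroup H)) (N : Subgroup H) [N.Normal] : IsPGroup p (H ⧸ N) ∨ Cfsg.IsMinimalOver ((T : Subgroup H).map (QuotientGroup.mk' N)) := by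
  obtain ⟨hncl, M, hM, huniq⟩ := hmin
  set f := QuotientGroup.mk' N with hf
  have hsurj := QuotientGroup.mk'_surjective N
  by_cases hNM : N ≤ M
  · refine Or.inr ⟨?_, M.map f, ⟨?_, Subgroup.map_mono hM.2⟩, fun M' hM' => ?_⟩
    · rw [eq_top_iff, ← Subgroup.map_top_of_surjective f hsurj, ← hncl, Subgroup.map_le_iff_le_comap]
      haveI : ((Subgroup.normalClosure (((T : Subgroup H).map f : Subgroup (H ⧸ N)) : Set (H ⧸ N))).comap f).Normal :=
        Subgroup.Normal.comap inferInstance f
      exact Subgroup.normalClosure_le_normal fun t ht =>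
        Subgroup.subset_normalClosure (Subgroup.mem_map_of_mem f ht)
    · have hcm : (M.map f).comap f = M := by
        rw [Subgroup.comap_map_eq, hf, QuotientGroup.ker_mk', sup_eq_left]
        exact hNM
      refine ⟨fun h => hM.1.1 (by rw [← hcm, h, Subgroup.comap_top]), fun X hX => ?_⟩
      have h1 : M < X.comap f := by
        rw [← hcm]; exact (Subgroup.comap_lt_comap_of_surjective hsurj).2 hX
      exact Subgroup.comap_injective hsurj ((hM.1.2 _ h1).trans (Subgroup.comap_top f).symm)
    · obtain ⟨hco, hT⟩ := hM'
      have hT' : (T : Subgroup H) ≤ M'.comap f := Subgroup.map_le_iff_le_comap.1 hT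
      have hne : M'.comap f ≠ ⊤ := fun h =>
        hco.1 (Subgroup.comap_injective hsurj (h.trans (Subgroup.comap_top f).symm))
      have hle : M' ≤ M.map f := by
        rw [← Subgroup.map_comap_eq_self_of_surjective hsurj M']
        exact Subgroup.map_mono (Lib.CharP.IsMinimalOver.le_of_lt ⟨hncl, M, hM, huniq⟩ hM hT' hne)
      have hMne : M.map f ≠ ⊤ := fun h => hM.1.1 (by
        have := congrArg (Subgroup.comap f) h
        rwa [Subgroup.comap_map_eq, hf, QuotientGroup.ker_mk', sup_eq_left.2 hNM, Subgroup.comap_top] at this)
      rcases hle.lt_or_eq with h | h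
      · exact absurd (hco.2 _ h) hMne
      · exact h
  · refine Or.inl ?_
    have htop : N ⊔ (T : Subgroup H) = ⊤ := by
      by_contra h
      exact hNM (le_sup_left.trans
        (Lib.CharP.IsMinimalOver.le_of_lt ⟨hncl, M, hM, huniq⟩ hM le_sup_right h))
    have h1 := congrArg (Subgroup.map f) htop
    rw [Subgroup.map_sup, hf, QuotientGroup.map_mk'_self, bot_sup_eq, ← hf,
      Subgroup.map_top_of_surjective _ hsurj] at h1
    have := T.isPGroup'.map f
    rw [h1] at this
    exact this.of_equiv Subgroup.topEquiv

end Cfsg.Agent.S2832
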