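import Cfsg.Statements.S2833
import Cfsg.Agent.Lib.CharP.Irreducible

set_option autoImplicit false
set_option linter.style.haveILetI false
open Cfsg
open scoped commutatorElement

namespace Cfsg.Agent.S2833

/-- Let V be a subgroup of a finite group G normalized by the subgroup L, let X ≤ L and g ∈ L with [V, X, X] = 1 and L generated by X and gXg⁻¹. Put W = [V, L]. Then W = [V, X]·[V, gXg⁻¹], C_W(X) = [V, X], and C_W(L) = [V, X] ∩ [V, gXg⁻¹]. -/
theorem result {G : Type*} [Group G] [Finite G] (V L : Subgroup G) (hLV : L ≤ Subgroup.normalizer (V : Set G)) (X : Subgroup G) (hX : X ≤ L) (g : G) (hg : g ∈ L) (hq : ⁅⁅V, X⁆, X⁆ = ⊥) (hgen : X ⊔ X.map (MulAut.conj g).toMonoidHom = L) (W : Subgroup G) (hW : W = ⁅V, L⁆) : ⁅V, X⁆ ⊔ ⁅V, X.map (MulAut.conj g).toMonoidHom⁆ = W ∧ W ⊓ Subgroup.centralizer (X : Set G) = ⁅V, X⁆ ∧ W ⊓ Subgroup.centralizer (L : Set G) = ⁅V, X⁆ ⊓ ⁅V, X.map (MulAut.conj g).toMonoidHom⁆ := by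
  subst hW
  set c := (MulAut.conj g).toMonoidHom with hc
  set A := ⁅V, X⁆ with hA
  set B := ⁅V, X.map c⁆ with hB
  have hXg : X.map c ≤ L := by
    rintro _ ⟨x, hx, rfl⟩
    exact L.mul_mem (L.mul_mem hg (hX hx)) (inv_mem hg)
  have hVg : V.map c = V := Subgroup.mem_normalizer_iff_map_conj_eq.1 (hLV hg)
  have hBA : B = A.map c := by rw [hA, Subgroup.map_commutator, hVg]
  have hAV : A ≤ V := Subgroup.le_normalizer_iff_commutator_le_left.1 (hX.trans hLV)
  have hBV : B ≤ V := Subgroup.le_normalizer_iff_commutator_le_left.1 (hXg.trans hLV)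
  have hAX : A ≤ Subgroup.centralizer (X : Set G) := Subgroup.commutator_eq_bot_iff_le_centralizer.1 hq
  have hBX : B ≤ Subgroup.centralizer ((X.map c : Subgroup G) : Set G) := by
    rw [hBA]
    intro b hb
    obtain ⟨a, ha, rfl⟩ := hb
    rw [Subgroup.mem_centralizer_iff]
    rintro _ ⟨x, hx, rfl⟩
    exact ((show Commute x a from Subgroup.mem_centralizer_iff.1 (hAX ha) x hx).map c).eq
  set W' := A ⊔ B with hW'
  have hVW : V ≤ Subgroup.normalizer (W' : Set G) := fun v hv => by
    rw [Subgroup.mem_normalizer_iff_map_conj_eq, hW', Subgroup.map_sup,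
      Subgroup.mem_normalizer_iff_map_conj_eq.1 (Subgroup.normalizer_commutator_ge_left V X hv),
      Subgroup.mem_normalizer_iff_map_conj_eq.1 (Subgroup.normalizer_commutator_ge_left V (X.map c) hv)]
  have hLW : L ≤ Subgroup.normalizer (W' : Set G) := by
    rw [← hgen]
    refine sup_le ?_ ?_ <;> rw [Subgroup.le_normalizer_iff_commutator_le_left]
    · exact (Subgroup.commutator_mono (sup_le hAV hBV) le_rfl).trans le_sup_left
    · exact (Subgroup.commutator_mono (sup_le hAV hBV) le_rfl).trans le_sup_right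
  have hsum : W' = ⁅V, L⁆ := by
    refine le_antisymm (sup_le (Subgroup.commutator_mono le_rfl hX) (Subgroup.commutator_mono le_rfl hXg)) ?_
    rw [Subgroup.commutator_comm, Subgroup.commutator_le]
    intro l hl v hv
    let K : Subgroup G :=
      { carrier := {l : G | l ∈ L ∧ ∀ v ∈ V, ⁅l, v⁆ ∈ W'}
        one_mem' := ⟨one_mem _, fun v _ => by simp⟩
        mul_mem' := by
          rintro a b ⟨haL, ha⟩ ⟨hbL, hb⟩
          refine ⟨mul_mem haL hbL, fun v hv => ?_⟩
          rw [commutatorElement_mul_left_eq_conj_mul]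
          exact W'.mul_mem ((Subgroup.mem_normalizer_iff.1 (hLW haL) _).1 (hb v hv)) (ha v hv)
        inv_mem' := by
          rintro a ⟨haL, ha⟩
          refine ⟨inv_mem haL, fun v hv => ?_⟩
          rw [commutatorElement_inv_left]
          refine (Subgroup.mem_normalizer_iff''.1 (hLW haL) _).1 ?_
          rw [← commutatorElement_inv]
          exact inv_mem (ha v hv) }
    have hle : L ≤ K := by
      rw [← hgen]
      refine sup_le (fun x hx => ⟨hX hx, fun v hv => ?_⟩) (fun x hx => ⟨hXg hx, fun v hv => ?_⟩)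
      · rw [← commutatorElement_inv]
        exact inv_mem (Subgroup.mem_sup_left (Subgroup.commutator_mem_commutator hv hx))
      · rw [← commutatorElement_inv]
        exact inv_mem (Subgroup.mem_sup_right (Subgroup.commutator_mem_commutator hv hx))
    exact (hle hl).2 v hv
  -- elements of `B` centralized by `L` lie in `A`
  have hBL : ∀ b ∈ B, b ∈ Subgroup.centralizer (L : Set G) → b ∈ A := by
    intro b hb hbL
    rw [hBA] at hb
    obtain ⟨a, ha, rfl⟩ := hb
    have := Subgroup.mem_centralizer_iff.1 hbL g hg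
    have e : g * a * g⁻¹ = a := by
      simpa [hc, mul_assoc] using this
    change g * a * g⁻¹ ∈ A
    rwa [e]
  have hnorAB : A ≤ Subgroup.normalizer (B : Set G) :=
    hAV.trans (Subgroup.normalizer_commutator_ge_left V (X.map c))
  have hCX : ⁅V, L⁆ ⊓ Subgroup.centralizer (X : Set G) = A := by
    refine le_antisymm ?_ (le_inf (le_sup_left.trans hsum.le) hAX)
    rintro w ⟨hw, hwX⟩
    have hwX' : w ∈ Subgroup.centralizer (X : Set G) := hwX
    have hw' : w ∈ A ⊔ B := hsum.ge hw
    rw [← SetLike.mem_coe, Subgroup.coe_mul_of_left_le_normalizer_right A B hnorAB] at hw'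
    obtain ⟨a, ha, b, hb, rfl⟩ := hw'
    refine A.mul_mem ha (hBL b hb ?_)
    have hbX : b ∈ Subgroup.centralizer (X : Set G) := by
      simpa using Subgroup.mul_mem _ (inv_mem (hAX ha)) hwX'
    have : L ≤ Subgroup.centralizer ({b} : Set G) := by
      rw [← hgen]
      refine sup_le (fun x hx => ?_) (fun x hx => ?_) <;> rw [Subgroup.mem_centralizer_singleton_iff]
      · exact Subgroup.mem_centralizer_iff.1 hbX x hx
      · exact Subgroup.mem_centralizer_iff.1 (hBX hb) x hx
    exact Subgroup.mem_centralizer_iff.2 fun l hl => Subgroup.mem_centralizer_singleton_iff.1 (this hl)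
  refine ⟨hsum, hCX, le_antisymm ?_ ?_⟩
  · rintro w ⟨hw, hwL⟩
    have hwA : w ∈ A := hCX.le ⟨hw, Subgroup.centralizer_le hX hwL⟩
    refine ⟨hwA, ?_⟩
    change w ∈ B
    rw [hBA]
    refine ⟨w, hwA, ?_⟩
    change g * w * g⁻¹ = w
    rw [Subgroup.mem_centralizer_iff.1 hwL g hg]
    simp
  · rintro w ⟨hwA, hwB⟩
    refine ⟨hsum.le (Subgroup.mem_sup_left hwA), Subgroup.mem_centralizer_iff.2 fun l hl => ?_⟩
    have : L ≤ Subgroup.centralizer ({w} : Set G) := by
      rw [← hgen]
      refine sup_le (fun x hx => ?_) (fun x hx => ?_) <;> rw [Subgroup.mem_centralizer_singleton_iff]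
      · exact Subgroup.mem_centralizer_iff.1 (hAX hwA) x hx
      · exact Subgroup.mem_centralizer_iff.1 (hBX hwB) x hx
    exact Subgroup.mem_centralizer_singleton_iff.1 (this hl)

end Cfsg.Agent.S2833
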