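import Cfsg.Statements.S2834
import Cfsg.Agent.Lib.CharP.LLemma

set_option autoImplicit false
set_option linter.style.haveILetI false
open Cfsg

namespace Cfsg.Agent.S2834

/-- The L-Lemma: let H be a finite group with Sylow p-subgroup T such that H is T-minimal (generated by the conjugates of T, T in exactly one maximal subgroup M), and let A ≤ T with A not contained in O_p(H). Then there is a subgroup L of H containing A·O_p(H) such that (a) A·O_p(L) lies in exactly one maximal subgroup L₀ of L, and L₀ = L ∩ gMg⁻¹ for some g ∈ H; (b) L = ⟨A, xAx⁻¹⟩·O_p(L) for every x ∈ L outside L₀. -/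
theorem result {H : Type*} [Group H] [Finite H] {p : ℕ} [Fact p.Prime] (T : Sylow p H) (hmin : Cfsg.IsMinimalOver (T : Subgroup H)) (M : Subgroup H) (hM : IsCoatom M ∧ (T : Subgroup H) ≤ M) (A : Subgroup H) (hAT : A ≤ (T : Subgroup H)) (hA : ¬ A ≤ Cfsg.pCore p H) : ∃ L : Subgroup H, A ⊔ Cfsg.pCore p H ≤ L ∧ ∃ L₀ : Subgroup H, A ⊔ (Cfsg.pCoreOf p L) ≤ L₀ ∧ L₀ < L ∧ (∀ X : Subgroup H, A ⊔ (Cfsg.pCoreOf p L) ≤ X → X < L → X ≤ L₀) ∧ (∃ g : H, L₀ = L ⊓ ((M : Subgroup H).map (MulAut.conj (g : H)).toMonoidHom)) ∧ ∀ x ∈ L, x ∉ L₀ → (A ⊔ ((A : Subgroup H).map (MulAut.conj (x : H)).toMonoidHom)) ⊔ (Cfsg.pCoreOf p L) = L := by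
  have hAp : IsPGroup p ↥A := T.isPGroup'.to_le hAT
  obtain ⟨B, g, hBp, hOB, hAB, hABg, huniq, hNB⟩ := Lib.CharP.exists_lLemma_data hmin hM hAp hA
  set N := Subgroup.normalizer (B : Set H) with hN
  let s : Set (Subgroup H) := {L | A ⊔ B ≤ L ∧ L ≤ N ∧ ¬ L ≤ Lib.CharP.cj M g}
  obtain ⟨L, ⟨hABL, hLN, hLg⟩, hLmin⟩ :=
    (Set.toFinite s).exists_minimal ⟨N, sup_le hAB Subgroup.le_normalizer, le_rfl, hNB⟩
  have hBO : B ≤ Cfsg.pCoreOf p L := Lib.CharP.le_pCoreOf hBp (le_sup_right.trans hABL) hLN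
  have hWp : IsPGroup p ↥(A ⊔ Cfsg.pCoreOf p L) :=
    hAp.to_sup_of_normal_right' (Lib.CharP.isPGroup_pCoreOf p L)
      ((le_sup_left.trans hABL).trans (Lib.CharP.le_normalizer_pCoreOf p L))
  have hNM := Lib.CharP.normalizer_eq_of_minimalOver hM.1 hM.2 hmin
  have hWg : A ⊔ Cfsg.pCoreOf p L ≤ Lib.CharP.cj M g := by
    obtain ⟨S, hS⟩ := hWp.exists_le_sylow
    obtain ⟨t, rfl⟩ := MulAction.exists_smul_eq H T S
    have h1 : A ⊔ Cfsg.pCoreOf p L ≤ Lib.CharP.cj M t :=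
      hS.trans (by rw [Lib.CharP.coe_smul_sylow]; exact Lib.CharP.cj_mono hM.2 t)
    rwa [huniq t ((sup_le_sup_left hBO A).trans h1)] at h1
  have hWL : A ⊔ Cfsg.pCoreOf p L ≤ L := sup_le (le_sup_left.trans hABL) (Lib.CharP.pCoreOf_le p L)
  have hsmall : ∀ X : Subgroup H, A ⊔ Cfsg.pCoreOf p L ≤ X → X ≤ L → X ≠ L → X ≤ Lib.CharP.cj M g := by
    intro X hWX hXL hne
    by_contra hXg
    exact hne (le_antisymm hXL (hLmin ⟨(sup_le_sup_left hBO A).trans hWX, hXL.trans hLN, hXg⟩ hXL))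
  refine ⟨L, sup_le (le_sup_left.trans hABL) (hOB.trans (le_sup_right.trans hABL)),
    L ⊓ Lib.CharP.cj M g, le_inf hWL hWg, lt_of_le_of_ne inf_le_left fun h => hLg (inf_eq_left.1 h),
    fun X hWX hXL => le_inf hXL.le (hsmall X hWX hXL.le hXL.ne), ⟨g, rfl⟩, ?_⟩
  intro x hxL hx
  by_contra hne
  have hxW : A.map (MulAut.conj x).toMonoidHom ≤ L :=
    (Lib.CharP.cj_mono (le_sup_left.trans hABL) x).trans
      (Lib.CharP.mem_normalizer_iff_cj.1 (Subgroup.le_normalizer hxL)).le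
  have hZg := hsmall ((A ⊔ A.map (MulAut.conj x).toMonoidHom) ⊔ Cfsg.pCoreOf p L)
    (sup_le_sup_right le_sup_left _)
    (sup_le (sup_le (le_sup_left.trans hABL) hxW) (Lib.CharP.pCoreOf_le p L)) hne
  have h1 : Lib.CharP.cj (A ⊔ Cfsg.pCoreOf p L) x ≤ Lib.CharP.cj M g := by
    refine le_trans ?_ hZg
    rw [Lib.CharP.cj, Subgroup.map_sup]
    exact sup_le (le_sup_right.trans le_sup_left)
      ((Lib.CharP.mem_normalizer_iff_cj.1 (Lib.CharP.le_normalizer_pCoreOf p L hxL)).le.trans le_sup_right)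
  have h2 : A ⊔ B ≤ Lib.CharP.cj M (x⁻¹ * g) := by
    refine (sup_le_sup_left hBO A).trans ?_
    have := Lib.CharP.cj_mono h1 x⁻¹
    rwa [Lib.CharP.cj_inv_cj, Lib.CharP.cj_cj] at this
  refine hx ⟨hxL, ?_⟩
  have h3 : x⁻¹ ∈ Subgroup.normalizer ((Lib.CharP.cj M g : Subgroup H) : Set H) := by
    rw [Lib.CharP.mem_normalizer_iff_cj, Lib.CharP.cj_cj]
    exact huniq _ h2
  rw [Lib.CharP.normalizer_cj, hNM] at h3
  exact (inv_mem_iff (H := Lib.CharP.cj M g)).1 h3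

end Cfsg.Agent.S2834
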