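import Cfsg.Statements.S2836
import Cfsg.Agent.Lib.CharP.MinimalOver

set_option autoImplicit false
set_option linter.style.haveILetI false
open Cfsg
open scoped commutatorElement

namespace Cfsg.Agent.S2836

/-- Let L be a finite group, L₀ a maximal subgroup, T a Sylow p-subgroup of L₀, Y ≤ T, and suppose L is Y-minimal. Let D be the intersection of the conjugates of L₀ (the core of L₀). Then D contains O_p(L) and D/O_p(L) is the Frattini subgroup of L/O_p(L), so D is p-closed; and every normal subgroup N of L contained in L₀ is p-closed with N/O_p(N) a nilpotent group of order prime to p. -/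
theorem result {L : Type*} [Group L] [Finite L] {p : ℕ} [Fact p.Prime] (L₀ : Subgroup L) (hL₀ : IsCoatom L₀) (T : Sylow p ↥L₀) (Y : Subgroup L) (hYT : Y ≤ (T : Subgroup ↥L₀).map L₀.subtype) (hmin : Cfsg.IsMinimalOver Y) : (Cfsg.pCore p L ≤ L₀.normalCore ∧ (L₀.normalCore).map (QuotientGroup.mk' (Cfsg.pCore p L)) = frattini (L ⧸ Cfsg.pCore p L) ∧ Cfsg.IsPClosed p ↥(L₀.normalCore)) ∧ ∀ (N : Subgroup L) [N.Normal], N ≤ L₀ → Cfsg.IsPClosed p ↥N ∧ Group.IsNilpotent (↥N ⧸ Cfsg.pCore p ↥N) ∧ (Nat.card (↥N ⧸ Cfsg.pCore p ↥N)).Coprime p := by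
  have hY : Y ≤ L₀ := hYT.trans (Subgroup.map_subtype_le _)
  obtain ⟨-, P, hP⟩ := Lib.CharP.sylow_of_minimalOver T hL₀ hYT hmin
  have hO : Cfsg.pCore p L ≤ L₀ :=
    Lib.CharP.pCore_le_of_minimalOver hL₀ hY hmin ((T.isPGroup'.map _).to_le hYT)
  set C := L₀.normalCore with hC
  have hOC : Cfsg.pCore p L ≤ C := Subgroup.normal_le_normalCore.2 hO
  have hCc : IsPClosed p ↥C :=
    Lib.CharP.isPClosed_of_normal_le_minimalOver T hL₀ hYT hmin L₀.normalCore_le
  set f := QuotientGroup.mk' (Cfsg.pCore p L) with hf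
  have hsurj : Function.Surjective f := QuotientGroup.mk'_surjective _
  have hfr : C.map f = frattini (L ⧸ Cfsg.pCore p L) := by
    refine le_antisymm ?_ ?_
    · rw [frattini, Order.radical]
      refine le_iInf₂ fun X hX => ?_
      by_contra hne
      set Xc := X.comap f with hXc
      have hXco : IsCoatom Xc := by
        refine ⟨fun h => hX.1 (Subgroup.comap_injective hsurj (h.trans (Subgroup.comap_top f).symm)),
          fun Z hZ => ?_⟩
        have hkZ : Cfsg.pCore p L ≤ Z := by
          refine le_trans ?_ hZ.le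
          exact (le_of_eq (QuotientGroup.ker_mk' _).symm).trans (Subgroup.ker_le_comap f X)
        have hZeq : (Z.map f).comap f = Z := by
          rw [Subgroup.comap_map_eq, hf, QuotientGroup.ker_mk', sup_eq_left]
          exact hkZ
        have h1 : X < Z.map f := by
          rw [← Subgroup.comap_lt_comap_of_surjective hsurj, hZeq]
          exact hZ
        rw [← hZeq, hX.2 _ h1, Subgroup.comap_top]
      have hCX : ¬ C ≤ Xc := fun h => hne (Subgroup.map_le_iff_le_comap.2 h)
      have htop : Xc ⊔ C = ⊤ := hXco.2 _ (left_lt_sup.2 hCX)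
      have hidx : ¬ p ∣ Xc.index := by
        have h1 : Xc.index = Xc.relIndex C := by
          have e1 : C.index = (Xc ⊓ C).relIndex Xc := by
            rw [Subgroup.inf_relIndex_left, ← Subgroup.relIndex_top_right, ← htop, Subgroup.relIndex_sup_right]
          have e2 := Subgroup.relIndex_mul_index (inf_le_left : Xc ⊓ C ≤ Xc)
          rw [← Subgroup.relIndex_mul_index (inf_le_right : Xc ⊓ C ≤ C), Subgroup.inf_relIndex_right, e1,
            mul_comm (Xc.relIndex C)] at e2
          exact Nat.eq_of_mul_eq_mul_left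
            (Nat.pos_of_ne_zero (e1 ▸ Subgroup.index_ne_zero_of_finite)) e2
        obtain ⟨Q⟩ : Nonempty (Sylow p ↥C) := inferInstance
        have hQ : (Q : Subgroup ↥C) ≤ Xc.subgroupOf C := fun x hx => by
          obtain ⟨k, hk⟩ := Lib.CharP.exists_pow_eq_one_of_mem Q.isPGroup' hx
          have h2 := Lib.CharP.isPClosed_normal_iff.1 hCc x x.2 k (by simpa using congrArg Subtype.val hk)
          show f x ∈ X
          rw [show f x = 1 from (QuotientGroup.eq_one_iff _).2 h2]
          exact one_mem _
        rw [h1]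
        exact fun hd => Q.not_dvd_index (hd.trans (Subgroup.index_dvd_of_le hQ))
      obtain ⟨R⟩ : Nonempty (Sylow p ↥Xc) := inferInstance
      have hRi : ¬ p ∣ ((R : Subgroup ↥Xc).map Xc.subtype).index := by
        rw [Subgroup.index_map_subtype]
        exact fun hd => ((Fact.out : p.Prime).dvd_mul.1 hd).elim R.not_dvd_index hidx
      let R' : Sylow p L := (R.isPGroup'.map Xc.subtype).toSylow hRi
      obtain ⟨g, hg⟩ := MulAction.exists_smul_eq L R' P
      -- the conjugate of `Xc` by `g` contains `Y`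
      obtain ⟨M', -, huniq⟩ := hmin.2
      have hYg : Y ≤ Xc.map (MulAut.conj g).toMonoidHom := by
        refine (hP ▸ hYT).trans ?_
        rw [← hg, Sylow.smul_def, Sylow.pointwise_smul_def, Subgroup.pointwise_smul_def]
        refine Subgroup.map_mono ?_
        simp only [R', IsPGroup.toSylow_coe]
        exact Subgroup.map_subtype_le _
      have hco : IsCoatom (Xc.map (MulAut.conj g).toMonoidHom) :=
        ((MulAut.conj g).mapSubgroup).isCoatom_iff _ |>.2 hXco
      have heq : Xc.map (MulAut.conj g).toMonoidHom = L₀ :=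
        (huniq _ ⟨hco, hYg⟩).trans (huniq _ ⟨hL₀, hY⟩).symm
      refine hCX fun c hc => ?_
      have h3 : g * c * g⁻¹ ∈ Xc.map (MulAut.conj g).toMonoidHom :=
        heq ▸ L₀.normalCore_le ((inferInstance : C.Normal).conj_mem c hc g)
      obtain ⟨x, hx, hxc⟩ := h3
      have hxc' : x = c := (MulAut.conj g).injective hxc
      exact hxc' ▸ hx
    · have hco : IsCoatom (L₀.map f) := by
        have hcm : (L₀.map f).comap f = L₀ := by
          rw [Subgroup.comap_map_eq, hf, QuotientGroup.ker_mk', sup_eq_left]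
          exact hO
        refine ⟨fun h => hL₀.1 (by rw [← hcm, h, Subgroup.comap_top]), fun Z hZ => ?_⟩
        have h1 : L₀ < Z.comap f := by
          rw [← hcm]; exact (Subgroup.comap_lt_comap_of_surjective hsurj).2 hZ
        exact Subgroup.comap_injective hsurj ((hL₀.2 _ h1).trans (Subgroup.comap_top f).symm)
      haveI hFn : ((frattini (L ⧸ Cfsg.pCore p L)).comap f).Normal := inferInstance
      have hle : (frattini (L ⧸ Cfsg.pCore p L)).comap f ≤ C := by
        rw [hC, Subgroup.normal_le_normalCore]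
        intro x hx
        obtain ⟨y, hy, hyx⟩ := frattini_le_coatom hco hx
        have h4 : y⁻¹ * x ∈ Cfsg.pCore p L := QuotientGroup.eq.1 hyx
        simpa using L₀.mul_mem hy (hO h4)
      rw [← Subgroup.map_comap_eq_self_of_surjective hsurj (frattini (L ⧸ Cfsg.pCore p L))]
      exact Subgroup.map_mono hle
  refine ⟨⟨hOC, hfr, hCc⟩, fun N hNn hN => ?_⟩
  have hNc : IsPClosed p ↥N := Lib.CharP.isPClosed_of_normal_le_minimalOver T hL₀ hYT hmin hN
  refine ⟨hNc, ?_, ?_⟩
  · let φ : ↥N →* L ⧸ Cfsg.pCore p L := f.comp N.subtype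
    have hker : φ.ker = Cfsg.pCore p ↥N := by
      refine Subgroup.map_injective N.subtype_injective ?_
      rw [Lib.Cores.map_subtype_pCore]
      ext x
      constructor
      · rintro ⟨y, hy, rfl⟩
        exact ⟨y.2, (QuotientGroup.eq_one_iff _).1 hy⟩
      · rintro ⟨hx, hx'⟩
        exact ⟨⟨x, hx⟩, (QuotientGroup.eq_one_iff _).2 hx', rfl⟩
    have hrange : φ.range ≤ frattini (L ⧸ Cfsg.pCore p L) := by
      rw [← hfr]
      rintro _ ⟨y, rfl⟩
      exact ⟨y, Subgroup.normal_le_normalCore.2 hN y.2, rfl⟩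
    haveI : Group.IsNilpotent φ.range := Lib.Cores.isNilpotent_of_le hrange frattini_nilpotent
    exact Group.nilpotent_of_mulEquiv
      ((QuotientGroup.quotientMulEquivOfEq hker.symm).trans (QuotientGroup.quotientKerEquivRange φ)).symm
  · obtain ⟨Q⟩ : Nonempty (Sylow p ↥N) := inferInstance
    haveI := hNc Q
    rw [Lib.Cores.pCore_eq_of_normal_sylow Q, ← Subgroup.index_eq_card]
    exact ((Fact.out : p.Prime).coprime_iff_not_dvd.2 Q.not_dvd_index).symm

end Cfsg.Agent.S2836
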