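import Cfsg.Statements.S2837
import Cfsg.Agent.Lib.CharP.MinimalOver

set_option autoImplicit false
set_option linter.style.haveILetI false
open Cfsg
open scoped commutatorElement

namespace Cfsg.Agent.S2837

/-- Let L be a finite group of characteristic p, L₀ a maximal subgroup, Y an elementary abelian p-subgroup of L₀ with L Y-minimal and O_p(L) ≤ N_L(Y). Put A = the normal closure of O_p(L) ∩ Y in L. Then for every g ∈ L outside L₀: Φ(A) = A' = [A ∩ Y, A] = [A ∩ Y, A ∩ gYg⁻¹] ≤ C_Y(L), and Y ∩ gYg⁻¹ = (A ∩ Y) ∩ (A ∩ gYg⁻¹) = C_Y(L) = C_A(L). -/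
theorem result {L : Type*} [Group L] [Finite L] {p : ℕ} [Fact p.Prime] (hchar : Subgroup.centralizer (Cfsg.pCore p L : Set L) ≤ Cfsg.pCore p L) (L₀ : Subgroup L) (hL₀ : IsCoatom L₀) (Y : Subgroup L) (hYL₀ : Y ≤ L₀) (hYel : Cfsg.IsElementaryAbelian p Y) (hmin : Cfsg.IsMinimalOver Y) (hOY : Cfsg.pCore p L ≤ Subgroup.normalizer (Y : Set L)) (A : Subgroup L) (hA : A = Subgroup.normalClosure (((Cfsg.pCore p L ⊓ Y : Subgroup L)) : Set L)) (g : L) (hg : g ∉ L₀) : (frattini ↥A).map A.subtype = ⁅A, A⁆ ∧ ⁅A, A⁆ = ⁅A ⊓ Y, A⁆ ∧ ⁅A ⊓ Y, A⁆ = ⁅A ⊓ Y, A ⊓ Y.map (MulAut.conj g).toMonoidHom⁆ ∧ ⁅A ⊓ Y, A⁆ ≤ Y ⊓ Subgroup.center L ∧ Y ⊓ Y.map (MulAut.conj g).toMonoidHom = Y ⊓ Subgroup.center L ∧ (A ⊓ Y) ⊓ (A ⊓ Y.map (MulAut.conj g).toMonoidHom) = Y ⊓ Subgroup.center L ∧ A ⊓ Subgroup.center L = Y ⊓ Subgroup.center L := by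
  subst hA
  have hYp : IsPGroup p ↥Y := Lib.CharP.elemAb_isPGroup hYel
  set P := Cfsg.pCore p L with hP
  set c := (MulAut.conj g).toMonoidHom with hc
  set A₀ := P ⊓ Y with hA₀
  set B₀ := P ⊓ Y.map c with hB₀
  set A := Subgroup.normalClosure (A₀ : Set L) with hA
  set Z := Y ⊓ Subgroup.center L with hZ
  have hPc : P.map c = P := Subgroup.Normal.map_conj_eq (H := Cfsg.pCore p L) g
  have hB : A₀.map c = B₀ := by
    rw [hA₀, Subgroup.map_inf _ _ _ (MulAut.conj g).injective, hPc]
  have hgen := Lib.CharP.sup_conj_eq_top hL₀ hYL₀ hmin hg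
  have hcen : Y ⊓ Y.map c = Z := Lib.CharP.inf_conj_eq_inf_center hL₀ hYL₀ hmin hYel.1 hg
  have hYc := (Lib.CharP.elemAb_iff.1 hYel)
  have hPY : ⁅P, Y⁆ ≤ A₀ :=
    le_inf (Subgroup.commutator_le_left P Y) (Subgroup.le_normalizer_iff_commutator_le_right.1 hOY)
  have hPYg : ⁅P, Y.map c⁆ ≤ B₀ := by
    rw [← hB, ← hPc, ← Subgroup.map_commutator]
    exact Subgroup.map_mono hPY
  have hPA : P ≤ Subgroup.normalizer (A₀ : Set L) :=
    (le_inf Subgroup.le_normalizer hOY).trans Subgroup.inf_normalizer_le_normalizer_inf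
  have hPB : P ≤ Subgroup.normalizer (B₀ : Set L) := by
    rw [← hB]
    calc P = P.map c := hPc.symm
      _ ≤ (Subgroup.normalizer (A₀ : Set L)).map c := Subgroup.map_mono hPA
      _ ≤ _ := Subgroup.le_normalizer_map _
  have hAB : A = A₀ ⊔ B₀ := by
    refine le_antisymm ?_ (sup_le Subgroup.subset_normalClosure ?_)
    · have hn : (A₀ ⊔ B₀).Normal := by
        rw [← Subgroup.normalizer_eq_top_iff, eq_top_iff, ← hgen]
        refine sup_le ?_ ?_ <;> rw [Subgroup.le_normalizer_iff_commutator_le_left]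
        · exact (Subgroup.commutator_mono (sup_le inf_le_left inf_le_left) le_rfl).trans
            (hPY.trans le_sup_left)
        · exact (Subgroup.commutator_mono (sup_le inf_le_left inf_le_left) le_rfl).trans
            (hPYg.trans le_sup_right)
      exact Subgroup.normalClosure_le_normal (le_sup_left : A₀ ≤ A₀ ⊔ B₀)
    · rw [← hB, ← Subgroup.Normal.map_conj_eq (H := A) g]
      exact Subgroup.map_mono Subgroup.subset_normalClosure
  have hAP : A ≤ P := hAB ▸ sup_le inf_le_left inf_le_left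
  have hAY : A ⊓ Y = A₀ := le_antisymm (le_inf (inf_le_left.trans hAP) inf_le_right)
    (le_inf Subgroup.subset_normalClosure inf_le_right)
  have hAYg : A ⊓ Y.map c = B₀ := le_antisymm (le_inf (inf_le_left.trans hAP) inf_le_right)
    (le_inf (hAB ▸ le_sup_right) inf_le_right)
  have hABc : ⁅A₀, B₀⁆ ≤ Z := by
    rw [← hcen]
    exact le_inf ((Subgroup.le_normalizer_iff_commutator_le_left.1
        ((inf_le_left : B₀ ≤ P).trans hPA)).trans inf_le_right)
      ((Subgroup.le_normalizer_iff_commutator_le_right.1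
        ((inf_le_left : A₀ ≤ P).trans hPB)).trans inf_le_right)
  set K := ⁅A₀, B₀⁆ with hK
  haveI hKn : K.Normal := ⟨fun k hk x => by
    rwa [(show Commute x k from Subgroup.mem_center_iff.1 (hABc hk).2 x).mul_inv_cancel]⟩
  have hBab : ∀ a ∈ B₀, ∀ b ∈ B₀, Commute a b := by
    rintro a ⟨-, a', ha', rfl⟩ b ⟨-, b', hb', rfl⟩
    exact (hYc.1 a' ha' b' hb').map c
  -- `A / K` is abelian
  let f := QuotientGroup.mk' K
  have hcomm : ∀ a ∈ A, ∀ b ∈ A, Commute (f a) (f b) := by
    have hgenc : ∀ a ∈ A, ∀ b ∈ (A₀ : Set L) ∪ B₀, Commute (f a) (f b) := by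
      intro a ha b hb
      rw [hAB] at ha
      suffices A₀ ⊔ B₀ ≤ (Subgroup.centralizer ({f b} : Set (L ⧸ K))).comap f from
        Subgroup.mem_centralizer_singleton_iff.1 (this ha)
      refine sup_le (fun x hx => ?_) (fun x hx => ?_) <;>
        rw [Subgroup.mem_comap, Subgroup.mem_centralizer_singleton_iff, ← commutatorElement_eq_one_iff_mul_comm,
          ← map_commutatorElement] <;> refine (QuotientGroup.eq_one_iff _).2 ?_ <;> rcases hb with hb | hb
      · rw [(hYc.1 x hx.2 b hb.2).commutator_eq]; exact one_mem _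
      · exact Subgroup.commutator_mem_commutator hx hb
      · rw [← commutatorElement_inv]
        exact inv_mem (Subgroup.commutator_mem_commutator hb hx)
      · rw [(hBab x hx b hb).commutator_eq]; exact one_mem _
    intro a ha b hb
    rw [hAB] at hb
    suffices A₀ ⊔ B₀ ≤ (Subgroup.centralizer ({f a} : Set (L ⧸ K))).comap f from
      (Subgroup.mem_centralizer_singleton_iff.1 (this hb)).symm
    refine sup_le (fun x hx => ?_) (fun x hx => ?_) <;> rw [Subgroup.mem_comap, Subgroup.mem_centralizer_singleton_iff]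
    · exact (hgenc a ha x (Or.inl hx)).eq.symm
    · exact (hgenc a ha x (Or.inr hx)).eq.symm
  have hAA : ⁅A, A⁆ ≤ K := by
    rw [Subgroup.commutator_le]
    intro a ha b hb
    refine (QuotientGroup.eq_one_iff _).1 ?_
    rw [show ((⁅a, b⁆ : L) : L ⧸ K) = ⁅f a, f b⁆ from map_commutatorElement f a b]
    exact (hcomm a ha b hb).commutator_eq
  have h1 : ⁅A ⊓ Y, A⁆ = K := by
    refine le_antisymm ((Subgroup.commutator_mono inf_le_left le_rfl).trans hAA) ?_
    rw [hAY]
    exact Subgroup.commutator_mono le_rfl (hAB ▸ le_sup_right)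
  have h2 : ⁅A, A⁆ = K := le_antisymm hAA (h1.ge.trans (Subgroup.commutator_mono inf_le_left le_rfl))
  have hAp : IsPGroup p ↥A := (Lib.Cores.pCore_isPGroup p).to_le hAP
  have hpowK : ∀ a ∈ A, a ^ p ∈ K := by
    intro a ha
    have hle : A₀ ⊔ B₀ ≤
        { carrier := {a : L | a ∈ A ∧ a ^ p ∈ K}
          one_mem' := ⟨one_mem _, by rw [one_pow]; exact one_mem _⟩
          mul_mem' := by
            rintro x y ⟨hx, hx'⟩ ⟨hy, hy'⟩
            refine ⟨mul_mem hx hy, (QuotientGroup.eq_one_iff _).1 ?_⟩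
            have : f ((x * y) ^ p) = 1 := by
              rw [map_pow, map_mul, (hcomm x hx y hy).mul_pow, ← map_pow, ← map_pow,
                show f (x ^ p) = 1 from (QuotientGroup.eq_one_iff _).2 hx',
                show f (y ^ p) = 1 from (QuotientGroup.eq_one_iff _).2 hy', one_mul]
            exact this
          inv_mem' := by
            rintro x ⟨hx, hx'⟩
            exact ⟨inv_mem hx, by rw [inv_pow]; exact inv_mem hx'⟩ : Subgroup L } := by
      refine sup_le (fun x hx => ⟨Subgroup.subset_normalClosure hx, ?_⟩)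
        (fun x hx => ⟨hAB ▸ Subgroup.mem_sup_right hx, ?_⟩)
      · rw [hYc.2 x hx.2]; exact one_mem _
      · obtain ⟨-, x', hx', rfl⟩ := hx
        rw [← map_pow, hYc.2 x' hx', map_one]; exact one_mem _
    exact (hle (hAB ▸ ha)).2
  have hcent : A ⊓ Subgroup.center L = Z := by
    refine le_antisymm ?_ ?_
    · rintro z ⟨hz, hzc⟩
      have hzc' : z ∈ Subgroup.center L := hzc
      have hz' : z ∈ A₀ ⊔ B₀ := hAB ▸ hz
      rw [← SetLike.mem_coe, Subgroup.coe_mul_of_left_le_normalizer_right A₀ B₀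
        ((inf_le_left : A₀ ≤ P).trans hPB)] at hz'
      obtain ⟨a, ha, b, hb, rfl⟩ := hz'
      refine ⟨Y.mul_mem ha.2 ?_, hzc⟩
      -- `b` commutes with `Y` and with its conjugate, so is central
      have hbc : (⊤ : Subgroup L) ≤ Subgroup.centralizer ({b} : Set L) := by
        rw [← hgen]
        refine sup_le (fun y hy => ?_) (fun y hy => ?_) <;> rw [Subgroup.mem_centralizer_singleton_iff]
        · have e1 : Commute y (a * b) := Subgroup.mem_center_iff.1 hzc' y
          have e2 : Commute y a := hYc.1 y hy a ha.2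
          have := e2.inv_right.mul_right e1
          simpa using this.eq
        · obtain ⟨y', hy', rfl⟩ := hy
          obtain ⟨-, b', hb', rfl⟩ := hb
          exact ((hYc.1 y' hy' b' hb').map c).eq
      have hbZ : b ∈ Subgroup.center L :=
        Subgroup.mem_center_iff.2 fun x => Subgroup.mem_centralizer_singleton_iff.1 (hbc (Subgroup.mem_top x))
      obtain ⟨-, b', hb', hbb⟩ := hb
      have : b' = b := by
        have e : b' = g⁻¹ * b * g := by rw [← hbb]; simp [hc, mul_assoc]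
        rw [e, Subgroup.mem_center_iff.1 hbZ g⁻¹, inv_mul_cancel_right]
      exact this ▸ hb'
    · rintro z ⟨hz, hzc⟩
      refine ⟨Subgroup.subset_normalClosure ⟨?_, hz⟩, hzc⟩
      exact Lib.Cores.le_pCore (hN := (inferInstance : (Subgroup.center L ⊓ Subgroup.center L).Normal) |> fun _ =>
        (⟨fun k hk x => by rwa [(show Commute x k from Subgroup.mem_center_iff.1 hk.2 x).mul_inv_cancel]⟩ :
          (Y ⊓ Subgroup.center L).Normal)) (hYp.to_le inf_le_left) ⟨hz, hzc⟩
  refine ⟨?_, by rw [h1, h2], by rw [h1, hAY, hAYg], h1.trans_le hABc, hcen, ?_, hcent⟩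
  · rw [h2]
    refine le_antisymm (Lib.CharP.map_frattini_le (p := p)
      (fun a ha b hb => hAA (Subgroup.commutator_mem_commutator ha hb)) hpowK) ?_
    rw [← h2, ← Subgroup.map_subtype_commutator]
    exact Subgroup.map_mono (Lib.CharP.commutator_le_frattini hAp.isNilpotent)
  · rw [hAY, hAYg]
    refine le_antisymm (by rw [← hcen]; exact inf_le_inf inf_le_right inf_le_right) ?_
    rw [← hAY, ← hAYg]
    exact le_inf (le_inf (hcent.ge.trans inf_le_left) inf_le_left)
      (le_inf (hcent.ge.trans inf_le_left) (hcen.ge.trans inf_le_right))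

end Cfsg.Agent.S2837
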