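import Cfsg.Statements.S2839
import Cfsg.Agent.Lib.CharP.WeaklyClosed

set_option autoImplicit false
set_option linter.style.haveILetI false
open Cfsg
open scoped commutatorElement

namespace Cfsg.Agent.S2839

/-- Let Q be a nontrivial p-subgroup of the finite group H that is a weakly closed subgroup, K a subgroup containing Q and N a normal subgroup of H. Then Q is a weakly closed subgroup of K; every H-conjugate of Q contained in K is a K-conjugate of Q; N_K(Q) contains a Sylow p-subgroup of K; N = N_N(Q)·O^p(N); and QN/N is a weakly closed subgroup of H/N. -/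
theorem result {H : Type*} [Group H] [Finite H] {p : ℕ} [Fact p.Prime] (Q : Subgroup H) (hQp : IsPGroup p ↥Q) (hQ1 : Q ≠ ⊥) (hwc : Cfsg.IsWeaklyClosedSubgroup p Q) (K : Subgroup H) (hQK : Q ≤ K) (N' : Subgroup H) [N'.Normal] : Cfsg.IsWeaklyClosedSubgroup p (Q.subgroupOf K) ∧ (∀ g : H, ((Q : Subgroup H).map (MulAut.conj (g : H)).toMonoidHom) ≤ K → ∃ k ∈ K, ((Q : Subgroup H).map (MulAut.conj (g : H)).toMonoidHom) = ((Q : Subgroup H).map (MulAut.conj (k : H)).toMonoidHom)) ∧ Cfsg.IsParabolic p ((Subgroup.normalizer ((Q : Subgroup H) : Set H)).subgroupOf K) ∧ (N' ⊓ Subgroup.normalizer ((Q : Subgroup H) : Set H)) ⊔ (Cfsg.pResidual p ↥N').map N'.subtype = N' ∧ Cfsg.IsWeaklyClosedSubgroup p (Q.map (QuotientGroup.mk' N')) := by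
  refine ⟨Lib.CharP.wc_subgroupOf hQp hwc hQK, fun g hg => Lib.CharP.wc_conj_in hQp hwc hQK hg, ?_, ?_,
    Lib.CharP.wc_map_mk' hQp hwc N'⟩
  · obtain ⟨S, hS⟩ := (hQp.comap_subtype (K := K)).exists_le_sylow
    exact ⟨S, fun x hx => Lib.CharP.wc_le_normalizer hwc (S.isPGroup'.map K.subtype)
      (fun q hq => ⟨⟨q, hQK hq⟩, hS hq, rfl⟩) ⟨x, hx, rfl⟩⟩
  · obtain ⟨T, hT⟩ := hQp.exists_le_sylow
    obtain ⟨P, hP⟩ := Lib.CharP.exists_sylow_inf T
      (Subgroup.le_normalizer_of_normal : (T : Subgroup H) ≤ Subgroup.normalizer (N' : Set H))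
    refine le_antisymm (sup_le inf_le_left (Subgroup.map_subtype_le _)) ?_
    have hTQ := Lib.CharP.wc_le_normalizer hwc T.isPGroup' hT
    calc N' = ((P : Subgroup ↥N') ⊔ Cfsg.pResidual p ↥N').map N'.subtype := by
          rw [Lib.CharP.sylow_sup_pResidual, ← MonoidHom.range_eq_map, Subgroup.range_subtype]
      _ ≤ _ := by
          rw [Subgroup.map_sup, hP, Subgroup.map_subgroupOf_eq_of_le inf_le_right]
          exact sup_le_sup_right (le_inf inf_le_right (inf_le_left.trans hTQ)) _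

end Cfsg.Agent.S2839
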