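import Cfsg.Statements.S2840
import Cfsg.Agent.Lib.CharP.WeaklyClosed

set_option autoImplicit false
set_option linter.style.haveILetI false
open Cfsg
open scoped commutatorElement

namespace Cfsg.Agent.S2840

/-- Let Q be a nontrivial p-subgroup of the finite group H that is a weakly closed subgroup and K a subgroup containing Q; let K° be the weak closure of Q in K (generated by the H-conjugates of Q inside K). Then K° is generated by the K-conjugates of Q, and K° is the subnormal closure of Q in K. -/
theorem result {H : Type*} [Group H] [Finite H] {p : ℕ} [Fact p.Prime] (Q : Subgroup H) (hQp : IsPGroup p ↥Q) (hQ1 : Q ≠ ⊥) (hwc : Cfsg.IsWeaklyClosedSubgroup p Q) (K : Subgroup H) (hQK : Q ≤ K) (Kc : Subgroup H) (hKc : Kc = Cfsg.weakClosure Q K) : Kc = ⨆ k : ↥K, ((Q : Subgroup H).map (MulAut.conj ((k : H) : H)).toMonoidHom) ∧ Kc = (Cfsg.subnormalClosure (Q.subgroupOf K)).map K.subtype := by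
  subst hKc
  refine ⟨Lib.CharP.weakClosure_eq hQp hwc hQK, le_antisymm ?_ ?_⟩
  · suffices key : ∀ S : Subgroup ↥K, S.IsSubnormal → Q.subgroupOf K ≤ S → Cfsg.weakClosure Q K ≤ S.map K.subtype by
      refine fun w hw => ⟨⟨w, Lib.CharP.weakClosure_le Q K hw⟩, ?_, rfl⟩
      rw [SetLike.mem_coe, Cfsg.subnormalClosure, Subgroup.mem_sInf]
      rintro S ⟨hQS, hS⟩
      obtain ⟨s, hs, hsw⟩ := key S hS hQS hw
      exact (Subtype.ext hsw : s = ⟨w, Lib.CharP.weakClosure_le Q K hw⟩) ▸ hs
    intro S hS
    induction hS with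
    | top => exact fun _ => by rw [← MonoidHom.range_eq_map, Subgroup.range_subtype]
                               exact Lib.CharP.weakClosure_le Q K
    | step A B hle _ hN ih =>
      intro hQA
      have hQA' : Q ≤ A.map K.subtype := fun q hq => ⟨⟨q, hQK hq⟩, hQA hq, rfl⟩
      have hW := ih (hQA.trans hle)
      refine iSup_le fun g => ?_
      obtain ⟨b, hb, he⟩ := Lib.CharP.wc_conj_in hQp hwc (hQA'.trans (Subgroup.map_mono hle)) (g := (g : H))
        ((le_iSup_of_le g le_rfl).trans hW)
      rw [show Q.map (MulAut.conj (g : H)).toMonoidHom = Lib.CharP.cj Q b from he]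
      refine (Lib.CharP.cj_mono hQA' b).trans (Lib.CharP.mem_normalizer_iff_cj.1 ?_).le
      exact (Subgroup.map_mono ((Subgroup.normal_subgroupOf_iff_le_normalizer hle).1 hN)).trans
        (Subgroup.le_normalizer_map _) hb
  · have hle : Cfsg.subnormalClosure (Q.subgroupOf K) ≤ (Cfsg.weakClosure Q K).subgroupOf K := by
      refine sInf_le ⟨fun q hq => Lib.CharP.le_weakClosure hQK hq, Subgroup.Normal.isSubnormal ?_⟩
      exact (Subgroup.normal_subgroupOf_iff_le_normalizer (Lib.CharP.weakClosure_le Q K)).2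
        (Subgroup.le_normalizer.trans (Lib.CharP.le_normalizer_weakClosure Q K))
    refine (Subgroup.map_mono hle).trans ?_
    rw [Subgroup.map_subgroupOf_eq_of_le (Lib.CharP.weakClosure_le Q K)]

end Cfsg.Agent.S2840
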