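import Cfsg.Statements.S2841
import Cfsg.Agent.Lib.CharP.WeaklyClosed

set_option autoImplicit false
set_option linter.style.haveILetI false
open Cfsg
open scoped commutatorElement

namespace Cfsg.Agent.S2841

/-- Let Q be a nontrivial p-subgroup of the finite group H that is a weakly closed subgroup and N a normal subgroup of H. Then N = N_N(Q)·[N, Q] and [N, Q] = (Q ∩ [N, Q])·[N, Q, Q]. -/
theorem result {H : Type*} [Group H] [Finite H] {p : ℕ} [Fact p.Prime] (Q : Subgroup H) (hQp : IsPGroup p ↥Q) (hQ1 : Q ≠ ⊥) (hwc : Cfsg.IsWeaklyClosedSubgroup p Q) (N' : Subgroup H) [N'.Normal] : (∀ n : H, n ∈ N' → ∃ a ∈ N' ⊓ Subgroup.normalizer ((Q : Subgroup H) : Set H), ∃ b ∈ ⁅N', Q⁆, n = a * b) ∧ (∀ c : H, c ∈ ⁅N', Q⁆ → ∃ a ∈ Q ⊓ ⁅N', Q⁆, ∃ b ∈ ⁅⁅N', Q⁆, Q⁆, c = a * b) := by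
  set M := ⁅N', Q⁆ with hM
  have hMQ : Q ≤ Subgroup.normalizer (M : Set H) := Subgroup.normalizer_commutator_ge_right N' Q
  have hMN : M ≤ N' := Subgroup.commutator_le_left N' Q
  have hNM : N' ≤ Subgroup.normalizer (M : Set H) := Subgroup.normalizer_commutator_ge_left N' Q
  have hconj : ∀ n ∈ N', ∀ q ∈ Q, n * q * n⁻¹ = ⁅n, q⁆ * q := fun n _ q _ => by
    rw [commutatorElement_def]; group
  have hF : ∀ n ∈ N', ∃ b ∈ M, Lib.CharP.cj Q n = Lib.CharP.cj Q b := by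
    intro n hn
    have hle : Lib.CharP.cj Q n ≤ M ⊔ Q := by
      rintro _ ⟨q, hq, rfl⟩
      change n * q * n⁻¹ ∈ M ⊔ Q
      rw [hconj n hn q hq]
      exact Subgroup.mul_mem _ (Subgroup.mem_sup_left (Subgroup.commutator_mem_commutator hn hq))
        (Subgroup.mem_sup_right hq)
    obtain ⟨x, hx, he⟩ := Lib.CharP.wc_conj_in hQp hwc (le_sup_right : Q ≤ M ⊔ Q) hle
    rw [← SetLike.mem_coe, Subgroup.coe_mul_of_right_le_normalizer_left M Q hMQ] at hx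
    obtain ⟨b, hb, q, hq, rfl⟩ := hx
    refine ⟨b, hb, he.trans ?_⟩
    rw [← Lib.CharP.cj_cj, Lib.CharP.mem_normalizer_iff_cj.1 (Subgroup.le_normalizer hq)]
  refine ⟨fun n hn => ?_, fun c hc => ?_⟩
  · obtain ⟨b, hb, he⟩ := hF n hn
    have ha : b⁻¹ * n ∈ N' ⊓ Subgroup.normalizer ((Q : Subgroup H) : Set H) :=
      ⟨N'.mul_mem (inv_mem (hMN hb)) hn, Lib.CharP.mem_normalizer_iff_cj.2 (by
        rw [← Lib.CharP.cj_cj, he, Lib.CharP.cj_inv_cj])⟩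
    refine ⟨b⁻¹ * n, ha, (b⁻¹ * n)⁻¹ * b * (b⁻¹ * n), ?_, by group⟩
    exact (Subgroup.mem_normalizer_iff''.1 (hNM ha.1) b).1 hb
  · have hW : Q ≤ Subgroup.normalizer ((⁅M, Q⁆ : Subgroup H) : Set H) :=
      Subgroup.normalizer_commutator_ge_right M Q
    have hle : M ≤ ⁅M, Q⁆ ⊔ Q := by
      conv_lhs => rw [hM]
      rw [Subgroup.commutator_le]
      intro n hn q hq
      obtain ⟨b, hb, he⟩ := hF n hn
      have h1 : n * q * n⁻¹ ∈ Lib.CharP.cj Q b := he ▸ (⟨q, hq, rfl⟩ : n * q * n⁻¹ ∈ Lib.CharP.cj Q n)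
      obtain ⟨q', hq', hq''⟩ := h1
      have h2 : n * q * n⁻¹ ∈ ⁅M, Q⁆ ⊔ Q := by
        rw [← hq'']
        change b * q' * b⁻¹ ∈ _
        rw [hconj b (hMN hb) q' hq']
        exact Subgroup.mul_mem _ (Subgroup.mem_sup_left (Subgroup.commutator_mem_commutator hb hq'))
          (Subgroup.mem_sup_right hq')
      rw [commutatorElement_def]
      exact Subgroup.mul_mem _ h2 (Subgroup.mem_sup_right (inv_mem hq))
    have hc' := hle hc
    rw [← SetLike.mem_coe, sup_comm, Subgroup.coe_mul_of_left_le_normalizer_right Q ⁅M, Q⁆ hW] at hc'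
    obtain ⟨q, hq, d, hd, rfl⟩ := hc'
    refine ⟨q, ⟨hq, ?_⟩, d, hd, rfl⟩
    have hdM : d ∈ M := Subgroup.le_normalizer_iff_commutator_le_left.1 hMQ hd
    have := M.mul_mem hc (inv_mem hdM)
    simpa using this

end Cfsg.Agent.S2841
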