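import Cfsg.Statements.S2844
import Cfsg.Agent.Lib.CharP.WeaklyClosed

set_option autoImplicit false
set_option linter.style.haveILetI false
open Cfsg
open scoped commutatorElement

namespace Cfsg.Agent.S2844

/-- Let Q be a nontrivial large p-subgroup of the finite group H and Q• = O_p(N_H(Q)). Then for every g ∈ H outside N_H(Q): C_H(Q) ∩ C_H(gQg⁻¹) = 1, C_H(Q•) ∩ C_H(gQ•g⁻¹) = 1, Z(Q) ∩ Z(gQg⁻¹) = 1 and Z(Q•) ∩ Z(gQ•g⁻¹) = 1; moreover N_H(Q) = N_H(Q•) and Q• is large in H. -/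
theorem result {H : Type*} [Group H] [Finite H] {p : ℕ} [Fact p.Prime] (Q : Subgroup H) (hQp : IsPGroup p ↥Q) (hQ1 : Q ≠ ⊥) (hL : Cfsg.IsLarge Q) (Qb : Subgroup H) (hQb : Qb = Cfsg.largeBullet p Q) : (∀ g : H, g ∉ Subgroup.normalizer ((Q : Subgroup H) : Set H) → Subgroup.centralizer ((Q : Subgroup H) : Set H) ⊓ Subgroup.centralizer ((((Q : Subgroup H).map (MulAut.conj (g : H)).toMonoidHom) : Subgroup H) : Set H) = ⊥ ∧ Subgroup.centralizer ((Qb : Subgroup H) : Set H) ⊓ Subgroup.centralizer ((((Qb : Subgroup H).map (MulAut.conj (g : H)).toMonoidHom) : Subgroup H) : Set H) = ⊥ ∧ (Q ⊓ Subgroup.centralizer ((Q : Subgroup H) : Set H)) ⊓ (((Q : Subgroup H).map (MulAut.conj (g : H)).toMonoidHom) ⊓ Subgroup.centralizer ((((Q : Subgroup H).map (MulAut.conj (g : H)).toMonoidHom) : Subgroup H) : Set H)) = ⊥ ∧ (Qb ⊓ Subgroup.centralizer ((Qb : Subgroup H) : Set H)) ⊓ (((Qb : Subgroup H).map (MulAut.conj (g : H)).toMonoidHom) ⊓ Subgroup.centralizer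 ((((Qb : Subgroup H).map (MulAut.conj (g : H)).toMonoidHom) : Subgroup H) : Set H)) = ⊥) ∧ Subgroup.normalizer ((Q : Subgroup H) : Set H) = Subgroup.normalizer ((Qb : Subgroup H) : Set H) ∧ Cfsg.IsLarge Qb := by
  subst hQb
  set Qb := Cfsg.largeBullet p Q with hQb
  have hQle : Q ≤ Qb := Lib.CharP.le_pCoreOf hQp Subgroup.le_normalizer le_rfl
  have hQbp : IsPGroup p ↥Qb := Lib.CharP.isPGroup_pCoreOf p _
  have hCle : Subgroup.centralizer (Qb : Set H) ≤ Subgroup.centralizer (Q : Set H) :=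
    Subgroup.centralizer_le hQle
  have hN : Subgroup.normalizer (Q : Set H) = Subgroup.normalizer (Qb : Set H) :=
    le_antisymm (Lib.CharP.le_normalizer_pCoreOf p _) (Lib.CharP.large_normalizer_le hQ1 hL hQbp hQle)
  refine ⟨fun g hg => ?_, hN, hCle.trans (hL.1.trans hQle), fun U hU hU1 =>
    (hL.2 U (hU.trans hCle) hU1).trans hN.le⟩
  have h := Lib.CharP.large_centralizer_inf hQp hQ1 hL hg
  refine ⟨h, ?_, ?_, ?_⟩ <;> refine le_bot_iff.1 (le_trans (le_inf ?_ ?_) h.le)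
  · exact inf_le_left.trans hCle
  · exact inf_le_right.trans (Subgroup.centralizer_le (Subgroup.map_mono hQle))
  · exact inf_le_left.trans inf_le_right
  · exact inf_le_right.trans inf_le_right
  · exact inf_le_left.trans (inf_le_right.trans hCle)
  · exact inf_le_right.trans (inf_le_right.trans (Subgroup.centralizer_le (Subgroup.map_mono hQle)))

end Cfsg.Agent.S2844
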