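import Cfsg.Statements.S2845
import Cfsg.Agent.Lib.CharP.LargeWC

set_option autoImplicit false
set_option linter.style.haveILetI false
open Cfsg

namespace Cfsg.Agent.S2845

/-- Let Q be a nontrivial large p-subgroup of the finite group H. Then for every subgroup L ≥ Q with O_p(L) ≠ 1, C_H(O_p(L)) is a p-group and L has characteristic p, and either the weak closure L° of Q in L equals Q or C_H(L°) = 1; for every subgroup R of H containing a Sylow p-subgroup of H with O_p(R) ≠ 1, C_H(O_p(R)) ≤ O_p(R); and H has parabolic characteristic p. -/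
theorem result {H : Type*} [Group H] [Finite H] {p : ℕ} [Fact p.Prime] (Q : Subgroup H) (hQp : IsPGroup p ↥Q) (hQ1 : Q ≠ ⊥) (hL : Cfsg.IsLarge Q) : (∀ L : Subgroup H, Q ≤ L → Cfsg.pCore p ↥L ≠ ⊥ → IsPGroup p ↥(Subgroup.centralizer (((Cfsg.pCoreOf p L) : Subgroup H) : Set H)) ∧ Subgroup.centralizer (Cfsg.pCore p ↥L : Set ↥L) ≤ Cfsg.pCore p ↥L ∧ (Cfsg.weakClosure Q L = Q ∨ Subgroup.centralizer (((Cfsg.weakClosure Q L) : Subgroup H) : Set H) = ⊥)) ∧ (∀ R : Subgroup H, Cfsg.IsParabolic p R → Cfsg.pCore p ↥R ≠ ⊥ → Subgroup.centralizer (((Cfsg.pCoreOf p R) : Subgroup H) : Set H) ≤ (Cfsg.pCoreOf p R)) ∧ Cfsg.IsOfParabolicCharacteristic p H := by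
  have hbot : ∀ R : Subgroup H, Cfsg.pCore p ↥R ≠ ⊥ → Cfsg.pCoreOf p R ≠ ⊥ := fun R hR h =>
    hR ((Subgroup.map_eq_bot_iff_of_injective _ R.subtype_injective).1 h)
  have hpar : ∀ R : Subgroup H, Cfsg.IsParabolic p R → Cfsg.pCore p ↥R ≠ ⊥ →
      Subgroup.centralizer (((Cfsg.pCoreOf p R) : Subgroup H) : Set H) ≤ (Cfsg.pCoreOf p R) :=
    fun R hR hR1 => Lib.CharP.large_parabolic hQp hQ1 hL hR.choose hR.choose_spec (hbot R hR1)
  refine ⟨fun L hQL hL1 => ?_, hpar, fun U hU hU1 hpU => ?_⟩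
  · obtain ⟨h1, h2⟩ := Lib.CharP.large_charP hQp hQ1 hL hQL (hbot L hL1)
    refine ⟨h1, h2, ?_⟩
    by_cases hW : ∀ g : {g : H // Q.map (MulAut.conj g).toMonoidHom ≤ L}, Lib.CharP.cj Q (g : H) = Q
    · exact Or.inl (le_antisymm (iSup_le fun g => (hW g).le) (Lib.CharP.le_weakClosure hQL))
    · push Not at hW
      obtain ⟨g, hg⟩ := hW
      refine Or.inr (le_bot_iff.1 (le_trans (le_inf (Subgroup.centralizer_le (SetLike.coe_subset_coe.2
        (Lib.CharP.le_weakClosure hQL))) (Subgroup.centralizer_le (SetLike.coe_subset_coe.2 ?_)))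
        (Lib.CharP.large_centralizer_inf hQp hQ1 hL
          (fun h => hg (Lib.CharP.mem_normalizer_iff_cj.1 h))).le))
      exact le_iSup_of_le g le_rfl
  · have h1 : Cfsg.pCoreOf p (Subgroup.normalizer (U : Set H)) ≠ ⊥ := fun h =>
      hU1 (le_bot_iff.1 (h ▸ Lib.CharP.le_pCoreOf hU Subgroup.le_normalizer le_rfl))
    obtain ⟨T, hT⟩ := hpU
    exact Lib.CharP.charP_iff.2 (inf_le_right.trans (Lib.CharP.large_parabolic hQp hQ1 hL T hT h1))

end Cfsg.Agent.S2845
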