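import Cfsg.Statements.S2846
import Cfsg.Agent.Lib.CharP.FrakM
import Cfsg.Agent.Lib.CharP.LargeWC

set_option autoImplicit false
set_option linter.style.haveILetI false
open Cfsg

namespace Cfsg.Agent.S2846

/-- Let Q be a nontrivial large p-subgroup of the finite group H, S a Sylow p-subgroup containing Q, and L a subgroup containing S with O_p(L) ≠ 1 and C_H(O_p(L)) ≤ O_p(L). Then there are a subgroup M containing S having the basic property (M ∈ 𝔐_H, writing Y_X for the largest p-reduced normal subgroup of X and 𝓛_H for the set of subgroups X with O_p(X) ≠ 1 and C_H(O_p(X)) ≤ O_p(X): M ∈ 𝓛_H, M·C_H(Y_M) is the only maximal member of 𝓛_H containing M and its largest p-reduced normal subgroup is again Y_M, C_M(Y_M) is p-closed, and the image of C_M(Y_M) in M/O_p(M) lies in the Frattini subgroup of M/O_p(M)) and a subgroup L* with S ≤ L* ≤ M, O_p(L*) ≠ 1, C_H(O_p(L*)) ≤ O_p(L*), such that L·C_H(Y_L) = L*·C_H(Y_L), the weak closures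 of Q in L and in L* agree and lie in that of M, and Y_L = Y_{L*} ≤ Y_M. If moreover Q is not normal in L, then Q is normal in neither L* nor M. -/
theorem result {H : Type*} [Group H] [Finite H] {p : ℕ} [Fact p.Prime] (Q : Subgroup H) (hQp : IsPGroup p ↥Q) (hQ1 : Q ≠ ⊥) (hLg : Cfsg.IsLarge Q) (S : Sylow p H) (hQS : Q ≤ (S : Subgroup H)) (L : Subgroup H) (hSL : (S : Subgroup H) ≤ L) (hL : L ∈ Cfsg.charPSubgroups p H) : ∃ M Ls : Subgroup H, (S : Subgroup H) ≤ M ∧ Cfsg.IsInFrakM p M ∧ (S : Subgroup H) ≤ Ls ∧ Ls ≤ M ∧ Ls ∈ Cfsg.charPSubgroups p H ∧ L ⊔ Subgroup.centralizer (((Cfsg.largestPReducedOf p L) : Subgroup H) : Set H) = Ls ⊔ Subgroup.centralizer (((Cfsg.largestPReducedOf p L) : Subgroup H) : Set H) ∧ Cfsg.weakClosure Q L = Cfsg.weakClosure Q Ls ∧ Cfsg.weakClosure Q Ls ≤ Cfsg.weakClosure Q M ∧ (Cfsg.largestPReducedOf p L) = (Cfsg.largestPReducedOf p Ls) ∧ (Cfsg.largestPReducedOf p Ls) ≤ (Cfsg.largestPReducedOf p M) ∧ (¬ L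 ≤ Subgroup.normalizer ((Q : Subgroup H) : Set H) → ¬ Ls ≤ Subgroup.normalizer ((Q : Subgroup H) : Set H) ∧ ¬ M ≤ Subgroup.normalizer ((Q : Subgroup H) : Set H)) := by
  have hpar : Cfsg.IsOfParabolicCharacteristic p H := fun U hU hU1 hpU => by
    obtain ⟨T, hT⟩ := hpU
    exact Lib.CharP.charP_iff.2 (inf_le_right.trans (Lib.CharP.large_parabolic hQp hQ1 hLg T hT
      fun h => hU1 (le_bot_iff.1 (h ▸ Lib.CharP.le_pCoreOf hU Subgroup.le_normalizer le_rfl))))
  obtain ⟨M, Ls, hSM, hM, hSLs, hLsM, hLs, hY, hYM, hsup⟩ := Lib.CharP.exists_frakM hpar S hSL hL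
  set Y := Cfsg.largestPReducedOf p L with hYdef
  have hspec : Lib.CharP.IsPRed p L Y := Lib.CharP.largestPReducedOf_isPRed L
  have hYp : IsPGroup p ↥Y := Lib.CharP.elemAb_isPGroup hspec.elemAb
  have hY1 : Y ≠ ⊥ := Lib.CharP.largestPReducedOf_ne_bot S hSL hL
  have hLsY : Ls ≤ Subgroup.normalizer (Y : Set H) :=
    hY ▸ (Lib.CharP.largestPReducedOf_isPRed Ls).le_normalizer
  have hQL := hQS.trans hSL
  have hQLs := hQS.trans hSLs
  have hwc : Cfsg.weakClosure Q L = Cfsg.weakClosure Q Ls := by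
    rw [(Lib.CharP.large_weakClosure hQp hQ1 hLg hQL hYp hY1 hspec.le_normalizer).1,
      (Lib.CharP.large_weakClosure hQp hQ1 hLg hQLs hYp hY1 hLsY).1, hsup]
  refine ⟨M, Ls, hSM, hM, hSLs, hLsM, hLs, hsup, hwc, Lib.CharP.weakClosure_mono hLsM, hY, hY ▸ hYM,
    fun hQn => ?_⟩
  have hLsQ : ¬ Ls ≤ Subgroup.normalizer ((Q : Subgroup H) : Set H) := by
    intro h
    refine hQn fun l hl => Lib.CharP.mem_normalizer_iff_cj.2 ?_
    have h1 : Lib.CharP.cj Q l ≤ Cfsg.weakClosure Q L := by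
      have hle : Q.map (MulAut.conj l).toMonoidHom ≤ L := by
        rintro _ ⟨q, hq, rfl⟩
        exact mul_mem (mul_mem hl (hQL hq)) (inv_mem hl)
      exact le_iSup_of_le (⟨l, hle⟩ : {g : H // Q.map (MulAut.conj g).toMonoidHom ≤ L}) le_rfl
    have h2 : Cfsg.weakClosure Q Ls ≤ Q := by
      rw [Lib.CharP.weakClosure_eq hQp (Lib.CharP.large_wc hQp hQ1 hLg) hQLs]
      exact iSup_le fun k => (Lib.CharP.mem_normalizer_iff_cj.1 (h k.2)).le
    exact Subgroup.eq_of_le_of_card_ge (h1.trans (hwc.trans_le h2))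
      (Subgroup.card_map_of_injective (MulAut.conj l).injective).ge
  exact ⟨hLsQ, fun h => hLsQ (hLsM.trans h)⟩

end Cfsg.Agent.S2846
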