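import Cfsg.Statements.S2848
import Cfsg.Agent.Lib.CharP.FrakMFacts

set_option autoImplicit false
set_option linter.style.haveILetI false
open Cfsg

namespace Cfsg.Agent.S2848

/-- Standing hypotheses: G a finite group, S a Sylow p-subgroup, Q a nontrivial large p-subgroup of G contained in S (C_G(Q) ≤ Q and N_G(U) ≤ N_G(Q) for all nontrivial U ≤ C_G(Q)), and M a subgroup containing S with the basic property (M ∈ 𝔐_G(S)); Y_M denotes the largest p-reduced normal subgroup of M and M† = M·C_G(Y_M). Then O_p(M) is a weakly closed subgroup of M† (for p): it is the only M†-conjugate of itself inside some Sylow p-subgroup of M† containing it. -/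
theorem result {G : Type*} [Group G] [Finite G] {p : ℕ} [Fact p.Prime] (S : Sylow p G) (Q : Subgroup G) (hQp : IsPGroup p ↥Q) (hQ1 : Q ≠ ⊥) (hQS : Q ≤ (S : Subgroup G)) (hQ : Cfsg.IsLarge Q) (M : Subgroup G) (hSM : (S : Subgroup G) ≤ M) (hM : Cfsg.IsInFrakM p M) : Cfsg.IsWeaklyClosedSubgroup p (((Cfsg.pCoreOf p M)).subgroupOf (M ⊔ Subgroup.centralizer (((Cfsg.largestPReducedOf p M) : Subgroup G) : Set G))) := by
  set Y := Cfsg.largestPReducedOf p M with hY
  set D := M ⊔ Subgroup.centralizer (Y : Set G) with hD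
  set O := Cfsg.pCoreOf p M with hO
  have hSD : (S : Subgroup G) ≤ D := hSM.trans le_sup_left
  have hOS : O ≤ (S : Subgroup G) := Lib.CharP.pCoreOf_le_sylow hSM
  refine ⟨S.subtype hSD, fun x hx => hOS hx, fun g hg => ?_⟩
  have hsub : (O.subgroupOf D).map D.subtype = O := Subgroup.map_subgroupOf_eq_of_le (hOS.trans hSD)
  refine Subgroup.eq_of_le_of_card_ge ?_ (Subgroup.card_map_of_injective (MulEquiv.injective _)).ge
  rintro _ ⟨x, hx, rfl⟩
  have h1 : (g : G) * (x : G) * (g : G)⁻¹ ∈ (S : Subgroup G) := hg ⟨x, hx, rfl⟩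
  have h2 : (g : G) * (x : G) * (g : G)⁻¹ ∈ Subgroup.centralizer (Y : Set G) := by
    have hn : (g : G) ∈ Subgroup.normalizer (Subgroup.centralizer (Y : Set G) : Set G) :=
      Lib.CharP.le_normalizer_centralizer (L := Subgroup.normalizer (Y : Set G)) le_rfl
        (Lib.CharP.dagger_le_normalizer M g.2)
    exact (Subgroup.mem_normalizer_iff.1 hn _).1
      ((Lib.CharP.largestPReducedOf_isPRed (p := p) M).pCoreOf_le_centralizer hx)
  show (g : G) * (x : G) * (g : G)⁻¹ ∈ O
  rw [hO, ← Lib.CharP.frakM_inf_centralizer hSM hM]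
  exact ⟨h1, h2⟩

end Cfsg.Agent.S2848
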