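import Cfsg.Statements.S2849
import Cfsg.Agent.Lib.CharP.FrakMFacts

set_option autoImplicit false
set_option linter.style.haveILetI false
open Cfsg

namespace Cfsg.Agent.S2849

/-- Standing hypotheses: G a finite group, S a Sylow p-subgroup, Q a nontrivial large p-subgroup of G contained in S (C_G(Q) ≤ Q and N_G(U) ≤ N_G(Q) for all nontrivial U ≤ C_G(Q)), and M a subgroup containing S with the basic property (M ∈ 𝔐_G(S)); Y_M denotes the largest p-reduced normal subgroup of M and M† = M·C_G(Y_M). Suppose Y_M is asymmetric in G. Then for every subgroup R with Y_M ≤ R ≤ M†, the normal closure of Y_M in N_G(R) is elementary abelian. -/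
theorem result {G : Type*} [Group G] [Finite G] {p : ℕ} [Fact p.Prime] (S : Sylow p G) (Q : Subgroup G) (hQp : IsPGroup p ↥Q) (hQ1 : Q ≠ ⊥) (hQS : Q ≤ (S : Subgroup G)) (hQ : Cfsg.IsLarge Q) (M : Subgroup G) (hSM : (S : Subgroup G) ≤ M) (hM : Cfsg.IsInFrakM p M) (hasym : ¬ Cfsg.IsSymmetricIn (Cfsg.largestPReducedOf p M)) (R : Subgroup G) (hYR : (Cfsg.largestPReducedOf p M) ≤ R) (hRM : R ≤ (M ⊔ Subgroup.centralizer (((Cfsg.largestPReducedOf p M) : Subgroup G) : Set G))) : Cfsg.IsElementaryAbelian p ((Subgroup.normalClosure ((((Cfsg.largestPReducedOf p M)).subgroupOf (Subgroup.normalizer ((R : Subgroup G) : Set G)) : Subgroup ↥(Subgroup.normalizer ((R : Subgroup G) : Set G))) : Set ↥(Subgroup.normalizer ((R : Subgroup G) : Set G)))).map (Subgroup.normalizer ((R : Subgroup G) : Set G)).subtype) := by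
  set Y := Cfsg.largestPReducedOf p M with hY
  set N := Subgroup.normalizer ((R : Subgroup G) : Set G) with hN
  have hYel : Cfsg.IsElementaryAbelian p Y := (Lib.CharP.largestPReducedOf_isPRed M).elemAb
  have hRY : R ≤ Subgroup.normalizer (Y : Set G) := hRM.trans (Lib.CharP.dagger_le_normalizer M)
  have hYN : Y ≤ N := hYR.trans Subgroup.le_normalizer
  have hmem : ∀ n ∈ N, Lib.CharP.cj Y n ≤ R := fun n hn =>
    (Lib.CharP.cj_mono hYR n).trans (Lib.CharP.mem_normalizer_iff_cj.1 hn).le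
  have hcomm : ∀ a ∈ N, ∀ b ∈ N, ∀ x ∈ Lib.CharP.cj Y a, ∀ y ∈ Lib.CharP.cj Y b, x * y = y * x := by
    rintro a ha b hb _ ⟨x, hx, rfl⟩ y hy
    have hab : a⁻¹ * b ∈ N := mul_mem (inv_mem ha) hb
    have hba : b⁻¹ * a ∈ N := mul_mem (inv_mem hb) ha
    have h2 : Y ≤ Subgroup.normalizer ((Lib.CharP.cj Y (a⁻¹ * b) : Subgroup G) : Set G) := by
      rw [Lib.CharP.normalizer_cj]
      have := Lib.CharP.cj_mono ((hmem _ hba).trans hRY) (a⁻¹ * b)
      rwa [Lib.CharP.cj_cj, show a⁻¹ * b * (b⁻¹ * a) = 1 by group, Lib.CharP.cj_one] at this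
    have h := Subgroup.commutator_eq_bot_iff_le_centralizer.1
      (Lib.CharP.asym_commute hasym ((hmem _ hab).trans hRY) h2)
    obtain ⟨y', hy', rfl⟩ := hy
    have h3 := Subgroup.mem_centralizer_iff.1 (h hx) _ (⟨y', hy', rfl⟩ : a⁻¹ * b * y' * (a⁻¹ * b)⁻¹ ∈ Lib.CharP.cj Y (a⁻¹ * b))
    show a * x * a⁻¹ * (b * y' * b⁻¹) = b * y' * b⁻¹ * (a * x * a⁻¹)
    calc a * x * a⁻¹ * (b * y' * b⁻¹) = a * (x * (a⁻¹ * b * y' * (a⁻¹ * b)⁻¹)) * a⁻¹ := by group
      _ = b * y' * b⁻¹ * (a * x * a⁻¹) := by rw [← h3]; group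
  set s : Set G := {z | ∃ n ∈ N, z ∈ Lib.CharP.cj Y n} with hs
  have hle : (Subgroup.normalClosure ((Y.subgroupOf N : Subgroup ↥N) : Set ↥N)).map N.subtype ≤
      Subgroup.closure s := by
    rw [Subgroup.map_le_iff_le_comap, Subgroup.normalClosure, Subgroup.closure_le]
    intro z hz
    obtain ⟨a, ha, hc⟩ := Group.mem_conjugatesOfSet_iff.1 hz
    obtain ⟨c, rfl⟩ := isConj_iff.1 hc
    exact Subgroup.subset_closure ⟨c, c.2, (a : G), ha, rfl⟩
  haveI : IsMulCommutative ↥(Subgroup.closure s) :=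
    Subgroup.isMulCommutative_closure (fun x ⟨a, ha, hx⟩ y ⟨b, hb, hy⟩ => hcomm a ha b hb x hx y hy)
  refine Lib.CharP.elemAb_mono ⟨inferInstance, fun x hx => ?_⟩ hle
  induction hx using Subgroup.closure_induction with
  | mem z hz =>
    obtain ⟨n, -, y, hy, rfl⟩ := hz
    rw [← map_pow, hYel.2 y hy, map_one]
  | one => exact one_pow p
  | mul a b ha hb iha ihb =>
    have hc : Commute a b := congrArg Subtype.val
      (mul_comm' (⟨a, ha⟩ : Subgroup.closure s) ⟨b, hb⟩)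
    rw [hc.mul_pow, iha, ihb, one_mul]
  | inv a _ ih => rw [inv_pow, ih, inv_one]

end Cfsg.Agent.S2849
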