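import Cfsg.Statements.S2850
import Cfsg.Agent.Lib.CharP.FrakMFacts

set_option autoImplicit false
set_option linter.style.haveILetI false
open Cfsg

namespace Cfsg.Agent.S2850

/-- Standing hypotheses: G a finite group, S a Sylow p-subgroup, Q a nontrivial large p-subgroup of G contained in S (C_G(Q) ≤ Q and N_G(U) ≤ N_G(Q) for all nontrivial U ≤ C_G(Q)), and M a subgroup containing S with the basic property (M ∈ 𝔐_G(S)); Y_M denotes the largest p-reduced normal subgroup of M and M† = M·C_G(Y_M). Suppose Y_M is asymmetric in G. Then N_G(L) ≤ N_G(O_p(M)) ≤ M† for every p-subgroup L containing O_p(M); O_p(M) is a weakly closed subgroup of G; for every subgroup L containing O_p(M), L ∩ M† contains a Sylow p-subgroup of L; and two elements of Y_M conjugate in G are conjugate in M. -/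
theorem result {G : Type*} [Group G] [Finite G] {p : ℕ} [Fact p.Prime] (S : Sylow p G) (Q : Subgroup G) (hQp : IsPGroup p ↥Q) (hQ1 : Q ≠ ⊥) (hQS : Q ≤ (S : Subgroup G)) (hQ : Cfsg.IsLarge Q) (M : Subgroup G) (hSM : (S : Subgroup G) ≤ M) (hM : Cfsg.IsInFrakM p M) (hasym : ¬ Cfsg.IsSymmetricIn (Cfsg.largestPReducedOf p M)) : (∀ L : Subgroup G, IsPGroup p ↥L → (Cfsg.pCoreOf p M) ≤ L → Subgroup.normalizer ((L : Subgroup G) : Set G) ≤ Subgroup.normalizer (((Cfsg.pCoreOf p M) : Subgroup G) : Set G) ∧ Subgroup.normalizer (((Cfsg.pCoreOf p M) : Subgroup G) : Set G) ≤ (M ⊔ Subgroup.centralizer (((Cfsg.largestPReducedOf p M) : Subgroup G) : Set G))) ∧ Cfsg.IsWeaklyClosedSubgroup p (Cfsg.pCoreOf p M) ∧ (∀ L : Subgroup G, (Cfsg.pCoreOf p M) ≤ L → Cfsg.IsParabolic p ((L ⊓ (M ⊔ Subgroup.centralizer (((Cfsg.largestPReducedOf p M) : Subgroup G) : Set G))).subgroupOf L)) ∧ (∀ x ∈ (Cfsg.largestPReducedOf p M), ∀ g : G, g * x * g⁻¹ ∈ (Cfsg.largestPReducedOf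 p M) → ∃ m ∈ M, m * x * m⁻¹ = g * x * g⁻¹) := by
  have hH := Lib.CharP.large_parabolicChar hQp hQ1 hQ
  set Y := Cfsg.largestPReducedOf p M with hY
  set O := Cfsg.pCoreOf p M with hO
  have hOp : IsPGroup p ↥O := Lib.CharP.isPGroup_pCoreOf p M
  have hwc := Lib.CharP.asym_wc hH hSM hM hasym
  refine ⟨fun L hL hOL => Lib.CharP.asym_normalizer_le hH hSM hM hasym hL hOL, hwc, fun L hOL => ?_, ?_⟩
  · obtain ⟨P, hP⟩ := (hOp.comap_subtype (K := L)).exists_le_sylow
    refine ⟨P, fun x hx => ⟨x.2, ?_⟩⟩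
    have hPp : IsPGroup p ↥((P : Subgroup ↥L).map L.subtype) := P.isPGroup'.map _
    have hOP : O ≤ (P : Subgroup ↥L).map L.subtype := fun o ho => ⟨⟨o, hOL ho⟩, hP ho, rfl⟩
    obtain ⟨h1, h2⟩ := Lib.CharP.asym_normalizer_le hH hSM hM hasym hPp hOP
    exact h2 (h1 (Subgroup.le_normalizer ⟨x, hx, rfl⟩))
  · intro x hx g hg
    set Cx := Subgroup.centralizer ({x} : Set G) with hCx
    have hOY := (Lib.CharP.largestPReducedOf_isPRed (p := p) M).pCoreOf_le_centralizer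
    have hO1 : O ≤ Cx := fun o ho => Subgroup.mem_centralizer_singleton_iff.2
      (Subgroup.mem_centralizer_iff.1 (hOY ho) x hx).symm
    have hO2 : Lib.CharP.cj O g⁻¹ ≤ Cx := by
      rintro _ ⟨o, ho, rfl⟩
      rw [Subgroup.mem_centralizer_singleton_iff]
      have h := Subgroup.mem_centralizer_iff.1 (hOY ho) _ hg
      show g⁻¹ * o * g⁻¹⁻¹ * x = x * (g⁻¹ * o * g⁻¹⁻¹)
      calc g⁻¹ * o * g⁻¹⁻¹ * x = g⁻¹ * (o * (g * x * g⁻¹)) * g := by group
        _ = x * (g⁻¹ * o * g⁻¹⁻¹) := by rw [← h]; group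
    obtain ⟨c, hc, hcg⟩ := Lib.CharP.wc_conj_in hOp hwc hO1 hO2
    have hn : g * c ∈ Subgroup.normalizer (O : Set G) := by
      rw [Lib.CharP.mem_normalizer_iff_cj, ← Lib.CharP.cj_cj, ← hcg, Lib.CharP.cj_cj, mul_inv_cancel,
        Lib.CharP.cj_one]
    have hd : g * c ∈ ((M ⊔ Subgroup.centralizer (Y : Set G) : Subgroup G) : Set G) :=
      (Lib.CharP.asym_normalizer_le hH hSM hM hasym hOp le_rfl).2 hn
    rw [Subgroup.coe_mul_of_left_le_normalizer_right M _ (Lib.CharP.le_normalizer_centralizer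
      (Lib.CharP.largestPReducedOf_isPRed (p := p) M).le_normalizer)] at hd
    obtain ⟨m, hm, d, hdC, hmd⟩ := hd
    refine ⟨m, hm, ?_⟩
    have hc' : c * x = x * c := Subgroup.mem_centralizer_singleton_iff.1 hc
    have hd' : d * x = x * d := (Subgroup.mem_centralizer_iff.1 hdC x hx).symm
    have hg' : g = m * d * c⁻¹ := by
      rw [show m * d = g * c from hmd, mul_inv_cancel_right]
    rw [hg']
    have h1 : c⁻¹ * x * c = x := by rw [mul_assoc, ← hc', inv_mul_cancel_left]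
    calc m * x * m⁻¹ = m * (d * x * d⁻¹) * m⁻¹ := by rw [hd']; group
      _ = m * (d * (c⁻¹ * x * c) * d⁻¹) * m⁻¹ := by rw [h1]
      _ = m * d * c⁻¹ * x * (m * d * c⁻¹)⁻¹ := by group

end Cfsg.Agent.S2850
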