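import Cfsg.Statements.S2853
import Cfsg.Agent.Lib.CharP.FrakH

set_option autoImplicit false
set_option linter.style.haveILetI false
open Cfsg

namespace Cfsg.Agent.S2853

/-- Standing hypotheses: G a finite group, S a Sylow p-subgroup, Q a nontrivial large p-subgroup of G contained in S, M a subgroup containing S with the basic property (M ∈ 𝔐_G(S)); Y_M the largest p-reduced normal subgroup of M and M† = M·C_G(Y_M). Suppose Y_M is char-p-tall and asymmetric in G and H ∈ ℌ_G(O_p(M)). Then every Sylow p-subgroup of H ∩ M† is a Sylow p-subgroup of H; O_p(H) normalizes O_p(M) and Y_M; O^p(H) = [O^p(H), Y_M] and H = O^p(H)·O_p(M); O^p(H)·Y_M is the normal closure of Y_M in H; and H is the normal closure of O_p(M) in H. Here O^p(H) is the subgroup generated by the elements of H of order prime to p. -/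
theorem result {G : Type*} [Group G] [Finite G] {p : ℕ} [Fact p.Prime] (S : Sylow p G) (Q : Subgroup G) (hQp : IsPGroup p ↥Q) (hQ1 : Q ≠ ⊥) (hQS : Q ≤ (S : Subgroup G)) (hQ : Cfsg.IsLarge Q) (M : Subgroup G) (hSM : (S : Subgroup G) ≤ M) (hM : Cfsg.IsInFrakM p M) (htall : Cfsg.IsCharPTall p (Cfsg.largestPReducedOf p M)) (hasym : ¬ Cfsg.IsSymmetricIn (Cfsg.largestPReducedOf p M)) (H : Subgroup G) (hH : Cfsg.IsInFrakH p M H) (R : Subgroup G) (hR : R = (Cfsg.pResidual p ↥H).map H.subtype) : (∀ T : Sylow p ↥(H ⊓ (M ⊔ Subgroup.centralizer (((Cfsg.largestPReducedOf p M) : Subgroup G) : Set G))), ∃ P : Sylow p ↥H, ((P : Subgroup ↥H).map H.subtype) = (T : Subgroup ↥(H ⊓ (M ⊔ Subgroup.centralizer (((Cfsg.largestPReducedOf p M) : Subgroup G) : Set G)))).map (H ⊓ (M ⊔ Subgroup.centralizer (((Cfsg.largestPReducedOf p M) : Subgroup G) : Set G))).subtype) ∧ Cfsg.pCoreOf p H ≤ Subgroup.normalizer (((Cfsg.pCoreOf p M) : Subgroup G) : Set G) ⊓ Subgroup.normalizer (((Cfsg.largestPReducedOf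 p M) : Subgroup G) : Set G) ∧ ⁅R, (Cfsg.largestPReducedOf p M)⁆ = R ∧ R ⊔ (Cfsg.pCoreOf p M) = H ∧ R ⊔ (Cfsg.largestPReducedOf p M) = (Subgroup.normalClosure ((((Cfsg.largestPReducedOf p M)).subgroupOf H : Subgroup ↥H) : Set ↥H)).map H.subtype ∧ (Subgroup.normalClosure ((((Cfsg.pCoreOf p M)).subgroupOf H : Subgroup ↥H) : Set ↥H)).map H.subtype = H := by
  subst hR
  have hpar := Lib.CharP.large_parabolicChar hQp hQ1 hQ
  set Y := Cfsg.largestPReducedOf p M with hY
  obtain ⟨h1, h2, h3⟩ := Lib.CharP.frakH_structure hpar hSM hM hasym hH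
  have hYO : Y ≤ Cfsg.pCoreOf p M := Lib.CharP.largest_le_pCoreOf M
  have hYH : Y ≤ H := hYO.trans hH.2.1
  have hU := Lib.CharP.asym_pCoreOf_le hpar hSM hM hasym hH.2.1
  refine ⟨?_, le_inf hU.1 (hU.2.trans (Lib.CharP.dagger_le_normalizer M)), h1, h2, ?_, ?_⟩
  · obtain ⟨P, -, hPD⟩ := Lib.CharP.asym_exists_sylow hpar hSM hM hasym hH.2.1
    set K := H ⊓ (M ⊔ Subgroup.centralizer (Y : Set G)) with hK
    intro T
    have hPK : (P : Subgroup ↥H).map H.subtype ≤ K := le_inf (Subgroup.map_subtype_le _) hPD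
    obtain ⟨T₀, hT₀⟩ := ((P.isPGroup'.map H.subtype).comap_subtype (K := K)).exists_le_sylow
    obtain ⟨k, hk⟩ := MulAction.exists_smul_eq ↥K T₀ T
    have hcard : Nat.card (P : Subgroup ↥H) ≤ Nat.card (T : Subgroup ↥K) := by
      rw [← hk, Nat.card_congr (Sylow.equiv (k • T₀) T₀).toEquiv,
        ← Subgroup.card_map_of_injective (K := (P : Subgroup ↥H)) H.subtype_injective]
      refine (Subgroup.card_le_of_le ((Subgroup.map_subgroupOf_eq_of_le hPK).ge.trans
        (Subgroup.map_mono hT₀))).trans ?_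
      exact (Subgroup.card_map_of_injective K.subtype_injective).le
    have hp' : IsPGroup p ↥(((T : Subgroup ↥K).map K.subtype).subgroupOf H) :=
      (T.isPGroup'.map _).comap_subtype
    obtain ⟨P', hP'⟩ := hp'.exists_le_sylow
    have hmap : (((T : Subgroup ↥K).map K.subtype).subgroupOf H).map H.subtype =
        (T : Subgroup ↥K).map K.subtype :=
      Subgroup.map_subgroupOf_eq_of_le ((Subgroup.map_subtype_le _).trans inf_le_left)
    refine ⟨P', (Subgroup.eq_of_le_of_card_ge (hmap.ge.trans (Subgroup.map_mono hP')) ?_).symm⟩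
    rw [Subgroup.card_map_of_injective H.subtype_injective, Subgroup.card_map_of_injective K.subtype_injective,
      Nat.card_congr (Sylow.equiv P' P).toEquiv]
    exact hcard
  · set N := (Subgroup.normalClosure ((Y.subgroupOf H : Subgroup ↥H) : Set ↥H)).map H.subtype with hN
    have hYN : Y ≤ N := fun y hy => ⟨⟨y, hYH hy⟩, Subgroup.subset_normalClosure hy, rfl⟩
    have hHN : H ≤ Subgroup.normalizer (N : Set G) :=
      Lib.CharP.le_normalizer_map_of_normal H _
    refine le_antisymm (sup_le ?_ hYN) ?_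
    · rw [← h1]
      exact Subgroup.le_normalizer_iff_commutator_le_right.1
        ((Subgroup.map_subtype_le _).trans hHN) |> le_trans (Subgroup.commutator_mono le_rfl hYN)
    · haveI := (Subgroup.normal_subgroupOf_iff_le_normalizer
        (sup_le (Subgroup.map_subtype_le (Cfsg.pResidual p ↥H)) hYH)).2 h3
      rw [hN, Subgroup.map_le_iff_le_comap]
      exact Subgroup.normalClosure_le_normal (N := (Subgroup.map H.subtype (Cfsg.pResidual p ↥H) ⊔ Y).subgroupOf H)
        (fun x hx => Subgroup.mem_sup_right hx)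
  · set N := (Subgroup.normalClosure (((Cfsg.pCoreOf p M).subgroupOf H : Subgroup ↥H) : Set ↥H)).map H.subtype
    have hON : Cfsg.pCoreOf p M ≤ N := fun y hy => ⟨⟨y, hH.2.1 hy⟩, Subgroup.subset_normalClosure hy, rfl⟩
    have hNH : N ≤ H := Subgroup.map_subtype_le _
    rw [← Lib.CharP.frakH_sup_eq hH hNH (Lib.CharP.le_normalizer_map_of_normal H _) (hYO.trans hON),
      sup_eq_left.2 hON]

end Cfsg.Agent.S2853
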