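import Cfsg.Statements.S2854
import Cfsg.Agent.Lib.CharP.FrakH

set_option autoImplicit false
set_option linter.style.haveILetI false
open Cfsg
open scoped commutatorElement

namespace Cfsg.Agent.S2854

/-- Standing hypotheses: G a finite group, S a Sylow p-subgroup, Q a nontrivial large p-subgroup of G contained in S, M a subgroup containing S with the basic property (M ∈ 𝔐_G(S)); Y_M the largest p-reduced normal subgroup of M and M† = M·C_G(Y_M). Suppose Y_M is asymmetric in G, H ∈ ℌ_G(O_p(M)), and H ≤ N_G(gQg⁻¹) for some g ∈ G. Then gQg⁻¹ ≤ O_p(H·gQg⁻¹) ≤ N_G(O_p(M)) ≤ N_G(Y_M) = M†; H is normal in H·gQg⁻¹ with O^p(H) = O^p(H·gQg⁻¹); and H·gQg⁻¹ is p-irreducible. -/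
theorem result {G : Type*} [Group G] [Finite G] {p : ℕ} [Fact p.Prime] (S : Sylow p G) (Q : Subgroup G) (hQp : IsPGroup p ↥Q) (hQ1 : Q ≠ ⊥) (hQS : Q ≤ (S : Subgroup G)) (hQ : Cfsg.IsLarge Q) (M : Subgroup G) (hSM : (S : Subgroup G) ≤ M) (hM : Cfsg.IsInFrakM p M) (hasym : ¬ Cfsg.IsSymmetricIn (Cfsg.largestPReducedOf p M)) (H : Subgroup G) (hH : Cfsg.IsInFrakH p M H) (g : G) (hHQ : H ≤ Subgroup.normalizer ((((Q : Subgroup G).map (MulAut.conj (g : G)).toMonoidHom) : Subgroup G) : Set G)) : ((Q : Subgroup G).map (MulAut.conj (g : G)).toMonoidHom) ≤ Cfsg.pCoreOf p (H ⊔ ((Q : Subgroup G).map (MulAut.conj (g : G)).toMonoidHom)) ∧ Cfsg.pCoreOf p (H ⊔ ((Q : Subgroup G).map (MulAut.conj (g : G)).toMonoidHom)) ≤ Subgroup.normalizer (((Cfsg.pCoreOf p M) : Subgroup G) : Set G) ∧ Subgroup.normalizer (((Cfsg.pCoreOf p M) : Subgroup G) : Set G) ≤ Subgroup.normalizer (((Cfsg.largestPReducedOf p M) : Subgroup G) : Set G) ∧ Subgroup.normalizer (((Cfsg.largestPReducedOf p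 M) : Subgroup G) : Set G) = (M ⊔ Subgroup.centralizer (((Cfsg.largestPReducedOf p M) : Subgroup G) : Set G)) ∧ (H.subgroupOf (H ⊔ ((Q : Subgroup G).map (MulAut.conj (g : G)).toMonoidHom))).Normal ∧ (Cfsg.pResidual p ↥H).map H.subtype = (Cfsg.pResidual p ↥(H ⊔ ((Q : Subgroup G).map (MulAut.conj (g : G)).toMonoidHom))).map (H ⊔ ((Q : Subgroup G).map (MulAut.conj (g : G)).toMonoidHom)).subtype ∧ Cfsg.IsPIrreducible p ↥(H ⊔ ((Q : Subgroup G).map (MulAut.conj (g : G)).toMonoidHom)) := by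
  have hpar := Lib.CharP.large_parabolicChar hQp hQ1 hQ
  obtain ⟨h1, h2, h3⟩ := Lib.CharP.frakH_structure hpar hSM hM hasym hH
  set Y := Cfsg.largestPReducedOf p M with hY
  set O := Cfsg.pCoreOf p M with hO
  set Q₁ := (Q : Subgroup G).map (MulAut.conj (g : G)).toMonoidHom with hQ₁
  set K := H ⊔ Q₁ with hK
  set R := (Cfsg.pResidual p ↥H).map H.subtype with hR
  have hQ₁p : IsPGroup p ↥Q₁ := hQp.map _
  have hKQ : K ≤ Subgroup.normalizer (Q₁ : Set G) := sup_le hHQ Subgroup.le_normalizer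
  have hQU : Q₁ ≤ Cfsg.pCoreOf p K := Lib.CharP.le_pCoreOf hQ₁p le_sup_right hKQ
  have hOH : O ≤ H := hH.2.1
  have hHK : H ≤ K := le_sup_left
  obtain ⟨hUO, hUD⟩ := Lib.CharP.asym_pCoreOf_le hpar hSM hM hasym (hOH.trans hHK)
  have hQY : Q₁ ≤ Subgroup.normalizer (Y : Set G) :=
    hQU.trans (hUD.trans (Lib.CharP.dagger_le_normalizer M))
  have hYO : Y ≤ O := Lib.CharP.largest_le_pCoreOf M
  have hYH : Y ≤ H := hYO.trans hOH
  have hRH : R ≤ H := Subgroup.map_subtype_le _
  have hHR : H ≤ Subgroup.normalizer (R : Set G) := Lib.CharP.le_normalizer_map_pResidual H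
  set W : Subgroup G := ⨆ x : H, Lib.CharP.cj Y (x : G) with hW
  have hWH : H ≤ Subgroup.normalizer (W : Set G) := Lib.CharP.le_normalizer_iSup_cj H Y
  have hYW : Y ≤ W := le_iSup_of_le (1 : H) (by rw [Subgroup.coe_one, Lib.CharP.cj_one])
  have hWeq : W = R ⊔ Y := by
    refine le_antisymm (iSup_le fun x => ?_) (sup_le ?_ hYW)
    · exact (Lib.CharP.cj_mono le_sup_right _).trans (Lib.CharP.mem_normalizer_iff_cj.1 (h3 x.2)).le
    · rw [← h1]
      exact (Subgroup.commutator_mono le_rfl hYW).trans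
        (Subgroup.le_normalizer_iff_commutator_le_right.1 (hRH.trans hWH))
  have hWQ : Q₁ ≤ Subgroup.normalizer (W : Set G) := by
    have hle : ∀ u ∈ Q₁, Lib.CharP.cj W u ≤ W := fun u hu => by
      rw [hW, Lib.CharP.cj, Subgroup.map_iSup, iSup_le_iff]
      intro x
      have hu' : (x : G)⁻¹ * u * x ∈ Q₁ := by
        have := (Subgroup.mem_normalizer_iff.1 (hHQ (inv_mem x.2)) u).1 hu
        rwa [inv_inv] at this
      refine le_iSup_of_le x (le_of_eq ?_)
      show Lib.CharP.cj (Lib.CharP.cj Y (x : G)) u = Lib.CharP.cj Y (x : G)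
      rw [Lib.CharP.cj_cj, show u * (x : G) = (x : G) * ((x : G)⁻¹ * u * x) by group, ← Lib.CharP.cj_cj,
        Lib.CharP.mem_normalizer_iff_cj.1 (hQY hu')]
    intro u hu
    refine Lib.CharP.mem_normalizer_iff_cj.2 (le_antisymm (hle u hu) ?_)
    have := Lib.CharP.cj_mono (hle u⁻¹ (inv_mem hu)) u
    rwa [Lib.CharP.cj_cj, mul_inv_cancel, Lib.CharP.cj_one] at this
  rw [hWeq] at hWQ
  have hRW : R = (Cfsg.pResidual p ↥(R ⊔ Y)).map (R ⊔ Y).subtype := by
    refine le_antisymm ?_ ?_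
    · conv_lhs => rw [hR, Lib.CharP.map_pResidual_subtype]
      rw [Lib.CharP.map_pResidual_subtype]
      refine Subgroup.closure_mono fun z hz => ⟨Subgroup.mem_sup_left ?_, hz.2⟩
      rw [hR, Lib.CharP.map_pResidual_subtype]
      exact Subgroup.subset_closure hz
    · rw [hR]
      exact Lib.CharP.map_pResidual_subtype_mono (sup_le hRH hYH)
  have hQR : Q₁ ≤ Subgroup.normalizer (R : Set G) := by
    rw [hRW]
    exact hWQ.trans (Lib.CharP.normalizer_le_normalizer_map_char _)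
  have hKR : K ≤ Subgroup.normalizer (R : Set G) := sup_le hHR hQR
  have hKH : K ≤ Subgroup.normalizer (H : Set G) := by
    refine sup_le Subgroup.le_normalizer ?_
    rw [← h2]
    exact Lib.Coprime.le_normalizer_sup hQR (hQU.trans hUO)
  have hOQ : IsPGroup p ↥(O ⊔ Q₁) := IsPGroup.to_sup_of_normal_right' (Lib.CharP.isPGroup_pCoreOf p M) hQ₁p
    (hOH.trans hHQ)
  have hKdec : R ⊔ (O ⊔ Q₁) = K := by rw [← sup_assoc, h2]
  haveI hRn : (R.subgroupOf K).Normal :=
    (Subgroup.normal_subgroupOf_iff_le_normalizer (hRH.trans hHK)).2 hKR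
  have hres : Cfsg.pResidual p ↥K = R.subgroupOf K := by
    refine le_antisymm (Lib.CharP.pResidual_le_of_le_sup (B := (O ⊔ Q₁).subgroupOf K) hOQ.comap_subtype
      (le_top.trans_eq ?_)) ?_
    · rw [← Subgroup.subgroupOf_sup (hRH.trans hHK) (sup_le (hOH.trans hHK) le_sup_right), hKdec,
        Subgroup.subgroupOf_self]
    · intro x hx
      obtain ⟨y, hy, hyx⟩ := Lib.CharP.map_pResidual_subtype_mono (p := p) hHK (show (x : G) ∈ R from hx)
      exact (Subtype.ext hyx : y = x) ▸ hy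
  have hND : Subgroup.normalizer (O : Set G) ≤ Lib.CharP.dagger p M :=
    (Lib.CharP.asym_normalizer_le hpar hSM hM hasym (Lib.CharP.isPGroup_pCoreOf p M) le_rfl).2
  refine ⟨hQU, hUO, hND.trans (Lib.CharP.dagger_le_normalizer M),
    le_antisymm ?_ (Lib.CharP.dagger_le_normalizer M),
    (Subgroup.normal_subgroupOf_iff_le_normalizer hHK).2 hKH, ?_, ?_⟩
  · exact Lib.CharP.frakM_normalizer_le hpar hSM hM
      (Lib.CharP.elemAb_isPGroup (Lib.CharP.largestPReducedOf_isPRed M).elemAb)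
      (Lib.CharP.largestPReducedOf_ne_bot S hSM hM.1) (Lib.CharP.largestPReducedOf_isPRed M).le_normalizer
      le_rfl
  · rw [hres, Subgroup.map_subgroupOf_eq_of_le (hRH.trans hHK)]
  · obtain ⟨P, hPO, hPD⟩ := Lib.CharP.asym_exists_sylow hpar hSM hM hasym (hOH.trans hHK)
    have hYK : Y ≤ K := hYH.trans hHK
    refine Lib.CharP.isPIrreducible_of_commutator (Y.subgroupOf K) P ?_ ?_ ?_ ?_ ?_
    · exact fun a ha b hb => Subtype.ext
        ((Lib.CharP.elemAb_iff.1 (Lib.CharP.largestPReducedOf_isPRed (p := p) M).elemAb).1 a ha b hb).eq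
    · intro x hx
      have h := Lib.CharP.dagger_le_normalizer M (hPD ⟨x, hx, rfl⟩)
      exact Subgroup.mem_normalizer_iff.2 fun y => Subgroup.mem_normalizer_iff.1 h (y : G)
    · refine Subgroup.map_injective K.subtype_injective ?_
      rw [hres, Subgroup.map_commutator, Subgroup.map_subgroupOf_eq_of_le (hRH.trans hHK),
        Subgroup.map_subgroupOf_eq_of_le hYK, h1]
    · intro N hN hNR hNne
      rw [hres] at hNR hNne
      set A := N.map K.subtype with hA
      have hAR : A ≤ R := (Subgroup.map_mono hNR).trans (Subgroup.map_subgroupOf_eq_of_le (hRH.trans hHK)).le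
      have hKA : K ≤ Subgroup.normalizer (A : Set G) := Lib.CharP.le_normalizer_map_of_normal K N
      have hne : A ⊔ O < H := by
        refine lt_of_le_of_ne (sup_le (hAR.trans hRH) hOH) fun h => hNne ?_
        refine le_antisymm hNR ?_
        haveI : (A.subgroupOf H).Normal :=
          (Subgroup.normal_subgroupOf_iff_le_normalizer (hAR.trans hRH)).2 (hHK.trans hKA)
        have h' := Lib.CharP.pResidual_le_of_le_sup (p := p) (A := A.subgroupOf H) (B := O.subgroupOf H)
          (Lib.CharP.isPGroup_pCoreOf p M).comap_subtype (le_top.trans_eq (by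
            rw [← Subgroup.subgroupOf_sup (hAR.trans hRH) hOH, h, Subgroup.subgroupOf_self]))
        intro x hx
        obtain ⟨y, hy, hyx⟩ := (show (x : G) ∈ R from hx)
        obtain ⟨z, hz, hzy⟩ := h' hy
        have : z = x := Subtype.ext (hzy.trans hyx)
        exact this ▸ hz
      have hYA := hH.2.2.2 _ le_sup_right hne
      have h4 : ⁅A, Y⁆ ≤ Cfsg.pCoreOf p K := by
        have hle1 : ⁅A, Y⁆ ≤ A := Lib.Coprime.commutator_le_of_le_normalizer (hYK.trans hKA)
        have hle2 : ⁅A, Y⁆ ≤ Cfsg.pCoreOf p (A ⊔ O) := (Subgroup.commutator_mono le_rfl hYA).trans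
          (Subgroup.le_normalizer_iff_commutator_le_right.1
            (le_sup_left.trans (Lib.CharP.le_normalizer_pCoreOf p _)))
        refine ((le_inf hle2 hle1).trans (Lib.CharP.le_pCoreOf
          ((Lib.CharP.isPGroup_pCoreOf p (A ⊔ O)).to_le inf_le_left) inf_le_right
          (Lib.CharP.le_normalizer_inf (le_sup_left.trans (Lib.CharP.le_normalizer_pCoreOf p _))
            Subgroup.le_normalizer))).trans ?_
        exact Lib.CharP.le_pCoreOf (Lib.CharP.isPGroup_pCoreOf p A)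
          ((Lib.CharP.pCoreOf_le p A).trans (hAR.trans (hRH.trans hHK)))
          (hKA.trans (Lib.CharP.normalizer_le_normalizer_map_char _))
      have e : ⁅A, Y⁆ = ⁅N, Y.subgroupOf K⁆.map K.subtype := by
        rw [Subgroup.map_commutator, Subgroup.map_subgroupOf_eq_of_le hYK]
      rw [e, Cfsg.pCoreOf] at h4
      exact (Subgroup.map_le_map_iff_of_injective K.subtype_injective).1 h4
    · intro hc
      refine hH.2.2.1 ?_
      have hYc : Y ≤ Cfsg.pCoreOf p K := fun y hy => by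
        obtain ⟨k, hk⟩ := Lib.CharP.exists_pow_eq_one_of_mem
          (Lib.CharP.elemAb_isPGroup (Lib.CharP.largestPReducedOf_isPRed (p := p) M).elemAb) hy
        exact ⟨⟨y, hYK hy⟩, Lib.CharP.isPClosed_iff.1 hc ⟨y, hYK hy⟩ k (Subtype.ext (by simpa using hk)), rfl⟩
      exact (le_inf hYc hYH).trans (Lib.CharP.le_pCoreOf
        ((Lib.CharP.isPGroup_pCoreOf p K).to_le inf_le_left) inf_le_right
        (Lib.CharP.le_normalizer_inf (hHK.trans (Lib.CharP.le_normalizer_pCoreOf p K)) Subgroup.le_normalizer))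

end Cfsg.Agent.S2854
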