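import Cfsg.Statements.S2855
import Cfsg.Agent.Lib.CharP.TransFamily

set_option autoImplicit false
set_option linter.style.haveILetI false
open Cfsg
open scoped commutatorElement

namespace Cfsg.Agent.S2855

open Lib

section Part2

open Lib.CharP

variable {H : Type*} [Group H] [Finite H] {p : ℕ} [Fact p.Prime]

theorem irreducible_part (𝒦 : Set (Subgroup H)) (hne : 𝒦.Nonempty)
    (hinv : ∀ h : H, ∀ E ∈ 𝒦, cj E h ∈ 𝒦) (htr : ∀ E ∈ 𝒦, ∀ K ∈ 𝒦, ∃ h : H, K = cj E h)
    (hres : pResidual p H ≤ sSup 𝒦)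
    (hnorm : ∀ E ∈ 𝒦, sSup 𝒦 ⊔ pCore p H ≤ Subgroup.normalizer ((E ⊔ pCore p H : Subgroup H) : Set H))
    (hsp : ∀ E ∈ 𝒦, IsStronglyPIrreducible p ↥E) :
    IsPIrreducible p H ∧ ∀ E ∈ 𝒦, ∀ K ∈ 𝒦,
      (pResidual p ↥(E ⊔ pCore p H)).map (E ⊔ pCore p H).subtype =
          (pResidual p ↥(K ⊔ pCore p H)).map (K ⊔ pCore p H).subtype ∨ ⁅E, K⁆ ≤ pCore p H := by
  classical
  set O := pCore p H with hO
  set f := QuotientGroup.mk' O with hf
  have hfs : Function.Surjective f := QuotientGroup.mk'_surjective O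
  have hker : ∀ X : Subgroup H, X.map f = ⊥ ↔ X ≤ O := fun X => by
    rw [Subgroup.map_eq_bot_iff, hf, QuotientGroup.ker_mk']
  have hone : ∀ x : H, f x = 1 ↔ x ∈ O := fun x => QuotientGroup.eq_one_iff x
  have hsupO : ∀ X : Subgroup H, (X ⊔ O).map f = X.map f := fun X => by
    rw [Subgroup.map_sup, (hker O).2 le_rfl, sup_bot_eq]
  have hbotQ : pCore p (H ⧸ O) = ⊥ := by
    have h1 := comap_pCore_quotient (p := p) (D := O) (Cores.pCore_isPGroup p)
    refine Subgroup.comap_injective hfs ?_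
    rw [h1, MonoidHom.comap_bot, QuotientGroup.ker_mk']
  set R := sSup 𝒦 with hR
  have hRn : ∀ h : H, cj R h ≤ R := fun h => by
    rw [hR, sSup_eq_iSup, cj, Subgroup.map_iSup, iSup_le_iff]
    intro E
    rw [Subgroup.map_iSup, iSup_le_iff]
    exact fun hE => le_iSup₂_of_le (cj E h) (hinv h E hE) le_rfl
  haveI : R.Normal := ⟨fun r hr h => hRn h ⟨r, hr, rfl⟩⟩
  set Rb := R.map f with hRb
  haveI hRbn : Rb.Normal := Subgroup.Normal.map inferInstance f hfs
  have hRE : ∀ E ∈ 𝒦, E.map f ≤ Rb := fun E hE => Subgroup.map_mono (le_sSup hE)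
  have hRnorm : ∀ E ∈ 𝒦, Rb ≤ Subgroup.normalizer (E.map f : Set (H ⧸ O)) := fun E hE => by
    rw [← hsupO E]
    exact (Subgroup.map_mono (le_sup_left.trans (hnorm E hE))).trans (Subgroup.le_normalizer_map f)
  have hpb : ∀ P : Subgroup (H ⧸ O), IsPGroup p P → P ≤ Rb → Rb ≤ Subgroup.normalizer (P : Set (H ⧸ O)) →
      P = ⊥ := fun P hP hPR hn => by
    have h1 : pCoreOf p Rb ≤ pCoreOf p (⊤ : Subgroup (H ⧸ O)) :=
      le_pCoreOf (isPGroup_pCoreOf p Rb) le_top
        ((le_top.trans_eq (Subgroup.normalizer_eq_top_iff.2 hRbn).symm).trans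
          (normalizer_le_normalizer_map_char _))
    rw [pCoreOf_top, hbotQ] at h1
    exact le_bot_iff.1 ((le_pCoreOf hP hPR hn).trans h1)
  have hpE : ∀ E ∈ 𝒦, ∀ P : Subgroup (H ⧸ O), IsPGroup p P → P ≤ E.map f →
      E.map f ≤ Subgroup.normalizer (P : Set (H ⧸ O)) → P = ⊥ := fun E hE P hP hPE hn => by
    refine le_bot_iff.1 ((le_pCoreOf hP hPE hn).trans (le_of_eq ?_))
    exact hpb _ (isPGroup_pCoreOf p _) ((pCoreOf_le p _).trans (hRE E hE))
      ((hRnorm E hE).trans (normalizer_le_normalizer_map_char _))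
  have hcent : ∀ E ∈ 𝒦, ∀ z ∈ E.map f, E.map f ≤ Subgroup.centralizer ({z} : Set (H ⧸ O)) →
      ∀ k : ℕ, z ^ p ^ k = 1 → z = 1 := fun E hE z hz hc k hk => by
    refine Subgroup.zpowers_eq_bot.1 (hpE E hE _ (pow_mem_zpowers_isPGroup hk) (Subgroup.zpowers_le.2 hz) ?_)
    refine hc.trans (le_trans ?_ (Subgroup.centralizer_le_normalizer _))
    rw [← Subgroup.centralizer_closure, ← Subgroup.zpowers_eq_closure]
  have hcentR : ∀ z ∈ Rb, Rb ≤ Subgroup.centralizer ({z} : Set (H ⧸ O)) →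
      ∀ k : ℕ, z ^ p ^ k = 1 → z = 1 := fun z hz hc k hk => by
    refine Subgroup.zpowers_eq_bot.1 (hpb _ (pow_mem_zpowers_isPGroup hk) (Subgroup.zpowers_le.2 hz) ?_)
    refine hc.trans (le_trans ?_ (Subgroup.centralizer_le_normalizer _))
    rw [← Subgroup.centralizer_closure, ← Subgroup.zpowers_eq_closure]
  have hgenE : ∀ E ∈ 𝒦, E.map f =
      Subgroup.closure {a | a ∈ E.map f ∧ ∃ k : ℕ, a ^ p ^ k = 1} := fun E hE => by
    refine le_antisymm ?_ ((Subgroup.closure_le _).2 fun a ha => ha.1)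
    have h := closure_pElements_eq_top (hsp E hE)
    rintro _ ⟨e, he, rfl⟩
    have he' : (⟨e, he⟩ : E) ∈ Subgroup.closure {a : E | ∃ k : ℕ, a ^ p ^ k = 1} := h ▸ Subgroup.mem_top _
    have h2 := Subgroup.mem_map_of_mem (f.comp E.subtype) he'
    rw [MonoidHom.map_closure] at h2
    refine Subgroup.closure_mono ?_ h2
    rintro _ ⟨a, ⟨k, hk⟩, rfl⟩
    exact ⟨⟨a, a.2, rfl⟩, k, by rw [← map_pow, hk, map_one]⟩
  have hgenR : Rb = Subgroup.closure {a | a ∈ Rb ∧ ∃ k : ℕ, a ^ p ^ k = 1} := by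
    refine le_antisymm ?_ ((Subgroup.closure_le _).2 fun a ha => ha.1)
    conv_lhs => rw [hRb, hR, sSup_eq_iSup, Subgroup.map_iSup]
    rw [iSup_le_iff]
    intro E
    rw [Subgroup.map_iSup, iSup_le_iff]
    intro hE
    rw [hgenE E hE]
    exact Subgroup.closure_mono fun a ha => ⟨hRE E hE ha.1, ha.2⟩
  -- the dichotomy inside one member
  have hcases : ∀ E ∈ 𝒦, ∀ X : Subgroup H, (X.subgroupOf E).Normal →
      (pResidual p ↥E).map E.subtype ≤ X ∨
        ∀ x ∈ X ⊓ E, E.map f ≤ Subgroup.centralizer ({f x} : Set (H ⧸ O)) := by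
    intro E hE X hX
    by_cases h : ⁅X.subgroupOf E, (⊤ : Subgroup E)⁆ ≤ pCore p E
    · right
      intro x hx
      rintro _ ⟨e, he, rfl⟩
      rw [Subgroup.mem_centralizer_singleton_iff, ← commutatorElement_eq_one_iff_mul_comm]
      have h1 : ⁅(⟨x, hx.2⟩ : E), ⟨e, he⟩⁆ ∈ pCore p E :=
        h (Subgroup.commutator_mem_commutator (show (⟨x, hx.2⟩ : E) ∈ X.subgroupOf E from hx.1) (Subgroup.mem_top _))
      have h2 : (pCoreOf p E).map f = ⊥ :=
        hpE E hE _ ((isPGroup_pCoreOf p E).map f) (Subgroup.map_mono (pCoreOf_le p E))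
          ((Subgroup.map_mono (le_normalizer_pCoreOf p E)).trans (Subgroup.le_normalizer_map f))
      have h3 : f ⁅x, e⁆ = 1 := (Subgroup.eq_bot_iff_forall _).1 h2 _ ⟨⁅x, e⁆, ⟨_, h1, rfl⟩, rfl⟩
      rw [map_commutatorElement] at h3
      rw [← commutatorElement_inv, h3, inv_one]
    · left
      rw [Subgroup.map_le_iff_le_comap]
      exact (hsp E hE).2 _ hX h
  have hdisp : ∀ E ∈ 𝒦, ∀ n : H ⧸ O, (∀ a ∈ E.map f, ⁅a, n⁆ ∈ E.map f ∧
      E.map f ≤ Subgroup.centralizer ({⁅a, n⁆} : Set (H ⧸ O))) →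
      E.map f ≤ Subgroup.centralizer ({n} : Set (H ⧸ O)) := fun E hE n hn =>
    le_centralizer_of_central_displacement (hgenE E hE) (hcent E hE) hn
  refine ⟨⟨fun hc => ?_, fun N hN hNc => ?_⟩, fun E hE K hK => ?_⟩
  · obtain ⟨E, hE⟩ := hne
    refine (hsp E hE).1 (isPClosed_iff.2 fun x k hk => ?_)
    have h1 : (x : H) ∈ O := isPClosed_iff.1 hc _ k (by simpa using congrArg Subtype.val hk)
    have h2 : O.subgroupOf E ≤ pCore p E := by
      haveI : (O.subgroupOf E).Normal := Subgroup.Normal.subgroupOf inferInstance E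
      exact Cores.le_pCore (Cores.pCore_isPGroup p).comap_subtype
    exact h2 h1
  · by_contra hRN
    apply hNc
    haveI := hN
    set N' := N ⊔ O with hN'
    have hcaseB : ∀ E ∈ 𝒦, ∀ x ∈ N' ⊓ E, E.map f ≤ Subgroup.centralizer ({f x} : Set (H ⧸ O)) := by
      by_contra hh
      push Not at hh
      obtain ⟨E, hE, x, hx, hxc⟩ := hh
      have hEN : (pResidual p ↥E).map E.subtype ≤ N' :=
        ((hcases E hE N' (Subgroup.Normal.subgroupOf inferInstance E)).resolve_right fun h => hxc (h x hx))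
      refine hRN (pResidual_le_of_le_sup (A := N) (Cores.pCore_isPGroup p) ?_)
      set g := QuotientGroup.mk' N' with hg
      have hgs : Function.Surjective g := QuotientGroup.mk'_surjective N'
      haveI : (R.map g).Normal := Subgroup.Normal.map inferInstance g hgs
      have hEp : ∀ K ∈ 𝒦, K.map g ≤ pCoreOf p (R.map g) := by
        intro K hK
        obtain ⟨c, rfl⟩ := htr E hE K hK
        refine le_pCoreOf ?_ (Subgroup.map_mono (le_sSup hK)) ?_
        · rw [isPGroup_iff_pow_pow_eq_one]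
          rintro ⟨_, _, ⟨e, he, rfl⟩, rfl⟩
          obtain ⟨a, ha⟩ := exists_pow_coprime (p := p) (⟨e, he⟩ : E)
          refine ⟨a, Subtype.ext ?_⟩
          have h1 : e ^ p ^ a ∈ N' := hEN ⟨_, mem_pResidual ha, by simp⟩
          rw [SubmonoidClass.coe_pow, OneMemClass.coe_one]
          show g ((MulAut.conj c) e) ^ p ^ a = 1
          rw [← map_pow, ← map_pow]
          exact (QuotientGroup.eq_one_iff _).2 ((inferInstance : N'.Normal).conj_mem _ h1 c)
        · have h1 : (cj E c ⊔ O).map g = (cj E c).map g := by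
            rw [Subgroup.map_sup, show O.map g = ⊥ by
              rw [Subgroup.map_eq_bot_iff, hg, QuotientGroup.ker_mk']; exact le_sup_right, sup_bot_eq]
          rw [← h1]
          exact (Subgroup.map_mono (le_sup_left.trans (hnorm _ hK))).trans (Subgroup.le_normalizer_map g)
      refine (Subgroup.closure_le _).2 fun x hx => ?_
      refine (QuotientGroup.eq_one_iff (N := N') x).1 ?_
      have hRp : R.map g ≤ pCoreOf p (R.map g) := by
        conv_lhs => rw [hR, sSup_eq_iSup, Subgroup.map_iSup]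
        refine iSup_le fun K => ?_
        rw [Subgroup.map_iSup, iSup_le_iff]
        exact fun hK => hEp K hK
      exact eq_one_of_coprime_of_mem (isPGroup_pCoreOf p _) (hRp ⟨x, hres (mem_pResidual hx), rfl⟩)
        (Nat.Coprime.coprime_dvd_left (orderOf_map_dvd g x) hx)
    haveI hNbn : (N.map f).Normal := Subgroup.Normal.map hN f hfs
    have hmemNE : ∀ E ∈ 𝒦, ∀ y ∈ N.map f, y ∈ E.map f → ∃ x ∈ N' ⊓ E, f x = y := by
      rintro E hE _ ⟨n, hn, rfl⟩ ⟨e, he, hne'⟩
      refine ⟨e, ⟨?_, he⟩, hne'⟩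
      rw [show e = n * (n⁻¹ * e) by group]
      exact mul_mem (Subgroup.mem_sup_left hn)
        (Subgroup.mem_sup_right ((hone _).1 (by rw [map_mul, map_inv, hne', inv_mul_cancel])))
    have h1 : ∀ n ∈ N.map f, n ∈ Rb → Rb ≤ Subgroup.centralizer ({n} : Set (H ⧸ O)) := by
      intro n hn hnR
      conv_lhs => rw [hRb, hR, sSup_eq_iSup, Subgroup.map_iSup]
      refine iSup_le fun E => ?_
      rw [Subgroup.map_iSup, iSup_le_iff]
      intro hE
      refine hdisp E hE n fun a ha => ?_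
      have hnE : ⁅a, n⁆ ∈ E.map f := by
        rw [commutatorElement_def, mul_assoc, mul_assoc]
        refine mul_mem ha ?_
        rw [← mul_assoc]
        exact (Subgroup.mem_normalizer_iff.1 (hRnorm E hE hnR) a⁻¹).1 (inv_mem ha)
      have hnN : ⁅a, n⁆ ∈ N.map f := by
        rw [commutatorElement_def]
        exact mul_mem (hNbn.conj_mem _ hn a) (inv_mem hn)
      obtain ⟨x, hx, hxeq⟩ := hmemNE E hE _ hnN hnE
      exact ⟨hnE, hxeq ▸ hcaseB E hE x hx⟩
    have h2 : ∀ n ∈ N.map f, Rb ≤ Subgroup.centralizer ({n} : Set (H ⧸ O)) := by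
      intro n hn
      refine le_centralizer_of_central_displacement hgenR hcentR fun a ha => ?_
      have hR' : ⁅a, n⁆ ∈ Rb := by
        rw [commutatorElement_def, mul_assoc, mul_assoc]
        refine mul_mem ha ?_
        rw [← mul_assoc]
        exact hRbn.conj_mem _ (inv_mem ha) n
      have hN' : ⁅a, n⁆ ∈ N.map f := by
        rw [commutatorElement_def]
        exact mul_mem (hNbn.conj_mem _ hn a) (inv_mem hn)
      exact ⟨hR', h1 _ hN' hR'⟩
    obtain ⟨T⟩ := (inferInstance : Nonempty (Sylow p H))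
    set P := ((T : Subgroup H) ⊓ N).map f with hP
    haveI hPn : P.Normal := by
      rw [← Subgroup.normalizer_eq_top_iff, eq_top_iff, ← Subgroup.map_top_of_surjective f hfs,
        ← sylow_sup_pResidual T, Subgroup.map_sup]
      refine sup_le ?_ ?_
      · refine (Subgroup.map_mono ?_).trans (Subgroup.le_normalizer_map f)
        exact le_trans (le_inf Subgroup.le_normalizer Subgroup.le_normalizer_of_normal)
          Subgroup.inf_normalizer_le_normalizer_inf
      · refine (Subgroup.map_mono hres).trans (le_trans ?_ (Subgroup.centralizer_le_normalizer _))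
        intro r hr
        rw [Subgroup.mem_centralizer_iff]
        rintro _ ⟨t, ht, rfl⟩
        exact (Subgroup.mem_centralizer_singleton_iff.1 (h2 _ ⟨t, ht.2, rfl⟩ hr)).symm
    have hPO : (T : Subgroup H) ⊓ N ≤ O := by
      rw [← hker, ← le_bot_iff, ← hbotQ]
      exact Cores.le_pCore ((T.isPGroup'.to_le inf_le_left).map f)
    refine isPClosed_normal_iff.2 fun x hx k hk => ?_
    obtain ⟨P', hP'⟩ := (pow_mem_zpowers_isPGroup hk).exists_le_sylow
    obtain ⟨g, hg⟩ := MulAction.exists_smul_eq H T P'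
    have hxP := hP' (Subgroup.mem_zpowers x)
    rw [← hg] at hxP
    obtain ⟨z, hz, rfl⟩ := hxP
    have hzN : z ∈ N := by
      have h := hN.conj_mem _ hx g⁻¹
      simpa [mul_assoc] using h
    exact (inferInstance : O.Normal).conj_mem z (hPO ⟨hz, hzN⟩) g
  · by_cases h : ⁅E, K⁆ ≤ O
    · exact Or.inr h
    · left
      have key : ∀ E ∈ 𝒦, ∀ K ∈ 𝒦, ¬ ⁅E, K⁆ ≤ O →
          (pResidual p ↥(E ⊔ O)).map (E ⊔ O).subtype ≤ (pResidual p ↥(K ⊔ O)).map (K ⊔ O).subtype := by
        intro E hE K hK hEK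
        have hEn : ((K ⊔ O).subgroupOf E).Normal := Subgroup.normal_subgroupOf_of_le_normalizer
          ((le_sSup hE).trans (le_sup_left.trans (hnorm K hK)))
        rcases hcases E hE (K ⊔ O) hEn with h1 | h1
        · rw [map_pResidual_subtype, map_pResidual_subtype]
          refine Subgroup.closure_mono ?_
          rintro x ⟨hx, hxo⟩
          obtain ⟨e, he, o, ho, rfl⟩ := Subgroup.mem_sup_of_normal_right.1 hx
          obtain ⟨a, ha⟩ := exists_pow_coprime (p := p) (⟨e, he⟩ : E)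
          refine ⟨mem_of_pow_mem_of_coprime hxo (a := a) ?_, hxo⟩
          have h3 : e ^ p ^ a ∈ K ⊔ O := h1 ⟨_, mem_pResidual ha, by simp⟩
          have h4 : f ((e * o) ^ p ^ a) = f (e ^ p ^ a) := by
            rw [map_pow, map_mul, (hone o).2 ho, mul_one, map_pow]
          have h5 : (e ^ p ^ a)⁻¹ * (e * o) ^ p ^ a ∈ O :=
            (hone _).1 (by rw [map_mul, map_inv, h4, inv_mul_cancel])
          have := mul_mem h3 (Subgroup.mem_sup_right (S := K) h5)
          rwa [mul_inv_cancel_left] at this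
        · refine absurd (Subgroup.commutator_le.2 fun e he k hk => (hone _).1 ?_) hEK
          have hd := hdisp E hE (f k) fun a ha => ?_
          · rw [map_commutatorElement]
            exact commutatorElement_eq_one_iff_mul_comm.2
              (Subgroup.mem_centralizer_singleton_iff.1 (hd ⟨e, he, rfl⟩))
          obtain ⟨a', ha', rfl⟩ := ha
          have hkR : f k ∈ Rb := hRE K hK ⟨k, hk, rfl⟩
          have hnE : ⁅f a', f k⁆ ∈ E.map f := by
            rw [commutatorElement_def, mul_assoc, mul_assoc]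
            refine mul_mem ⟨a', ha', rfl⟩ ?_
            rw [← mul_assoc]
            exact (Subgroup.mem_normalizer_iff.1 (hRnorm E hE hkR) _).1 (inv_mem ⟨a', ha', rfl⟩)
          refine ⟨hnE, ?_⟩
          obtain ⟨y, hy, hyeq⟩ := hnE
          rw [← hyeq]
          refine h1 y ⟨?_, hy⟩
          have hK' : ⁅f a', f k⁆ ∈ K.map f := by
            rw [commutatorElement_def]
            exact mul_mem ((Subgroup.mem_normalizer_iff.1 (hRnorm K hK (hRE E hE ⟨a', ha', rfl⟩)) _).1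
              ⟨k, hk, rfl⟩) (inv_mem ⟨k, hk, rfl⟩)
          obtain ⟨w, hw, hweq⟩ := hK'
          rw [show y = w * (w⁻¹ * y) by group]
          exact mul_mem (Subgroup.mem_sup_left hw)
            (Subgroup.mem_sup_right ((hone _).1 (by rw [map_mul, map_inv, hweq, hyeq, inv_mul_cancel])))
      refine le_antisymm (key E hE K hK h) (key K hK E hE ?_)
      rwa [Subgroup.commutator_comm]

end Part2

/-- Let H be a finite group, p a prime, and 𝒦 a nonempty set of subgroups of H permuted transitively by conjugation, with R the subgroup generated by the members of 𝒦. Suppose O^p(H) ≤ R, each E ∈ 𝒦 has E·O_p(H) normal in R·O_p(H), and each E ∈ 𝒦 is p-minimal (generated by the conjugates of a Sylow p-subgroup T_E of E, with T_E in exactly one maximal subgroup of E). Then H is p-minimal in the same sense. If instead each E ∈ 𝒦 is strongly p-irreducible, then H is p-irreducible and, for E, K ∈ 𝒦, either O^p(E·O_p(H)) = O^p(K·O_p(H)) or [E, K] ≤ O_p(H).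 -/
theorem result {H : Type*} [Group H] [Finite H] {p : ℕ} [Fact p.Prime] (𝒦 : Set (Subgroup H)) (hne : 𝒦.Nonempty) (hinv : ∀ h : H, ∀ E ∈ 𝒦, E.map (MulAut.conj h).toMonoidHom ∈ 𝒦) (htr : ∀ E ∈ 𝒦, ∀ K ∈ 𝒦, ∃ h : H, K = E.map (MulAut.conj h).toMonoidHom) (hres : Cfsg.pResidual p H ≤ sSup 𝒦) (hnorm : ∀ E ∈ 𝒦, sSup 𝒦 ⊔ Cfsg.pCore p H ≤ Subgroup.normalizer ((E ⊔ Cfsg.pCore p H : Subgroup H) : Set H)) : ((∀ E ∈ 𝒦, ∀ T : Sylow p ↥E, Cfsg.IsMinimalOver (T : Subgroup ↥E)) → ∀ T : Sylow p H, Cfsg.IsMinimalOver (T : Subgroup H)) ∧ ((∀ E ∈ 𝒦, Cfsg.IsStronglyPIrreducible p ↥E) → Cfsg.IsPIrreducible p H ∧ ∀ E ∈ 𝒦, ∀ K ∈ 𝒦, (Cfsg.pResidual p ↥(E ⊔ Cfsg.pCore p H)).map (E ⊔ Cfsg.pCore p H).subtype = (Cfsg.pResidual p ↥(K ⊔ Cfsg.pCore p H)).map (K ⊔ Cfsg.pCore p H).subtype ∨ ⁅E, K⁆ ≤ Cfsg.pCore p H) := by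
  classical
  refine ⟨fun hmin T => ?_, irreducible_part 𝒦 hne hinv htr hres hnorm⟩
  have hsup : sSup ((fun E => E ⊔ Cfsg.pCore p H) '' 𝒦) = sSup 𝒦 ⊔ Cfsg.pCore p H := by
    refine le_antisymm (sSup_le ?_) (sup_le (sSup_le fun E hE => ?_) ?_)
    · rintro _ ⟨E, hE, rfl⟩
      exact sup_le_sup_right (le_sSup hE) _
    · exact le_sup_left.trans (le_sSup (Set.mem_image_of_mem _ hE))
    · obtain ⟨E, hE⟩ := hne
      exact le_sup_right.trans (le_sSup (Set.mem_image_of_mem _ hE))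
  have hcjO : ∀ h : H, Lib.CharP.cj (Cfsg.pCore p H) h = Cfsg.pCore p H := fun h =>
    Lib.CharP.mem_normalizer_iff_cj.1 (Subgroup.le_normalizer_of_normal (K := ⊤) (Subgroup.mem_top h))
  refine Lib.CharP.isMinimalOver_of_family _ (hne.image (fun E => E ⊔ Cfsg.pCore p H)) ?_ ?_ ?_ ?_ ?_ T
  · rintro h _ ⟨E, hE, rfl⟩
    refine ⟨_, hinv h E hE, ?_⟩
    show _ = Lib.CharP.cj (E ⊔ Cfsg.pCore p H) h
    rw [Lib.CharP.cj, Subgroup.map_sup]
    exact congrArg _ (hcjO h).symm
  · rintro _ ⟨E, hE, rfl⟩ _ ⟨K, hK, rfl⟩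
    obtain ⟨h, rfl⟩ := htr E hE K hK
    refine ⟨h, ?_⟩
    show _ = Lib.CharP.cj (E ⊔ Cfsg.pCore p H) h
    rw [Lib.CharP.cj, Subgroup.map_sup]
    exact congrArg _ (hcjO h).symm
  · rw [hsup]; exact hres.trans le_sup_left
  · rintro _ ⟨E, hE, rfl⟩
    rw [hsup]
    exact hnorm E hE
  · rintro _ ⟨E, hE, rfl⟩
    exact Lib.CharP.isMinimalOver_sup_normal (Lib.Cores.pCore_isPGroup p) (hmin E hE)

end Cfsg.Agent.S2855
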