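import Cfsg.Statements.S2859
import Cfsg.Agent.Lib.CharP.WCFactor

set_option autoImplicit false
set_option linter.style.haveILetI false
open Cfsg
open scoped commutatorElement

namespace Cfsg.Agent.S2859

/-- Let Q be a nontrivial p-subgroup of the finite group H that is a weakly closed subgroup, H° the weak closure of Q in H (generated by the conjugates of Q) and H_∘ = O^p(H°). Suppose H₁, H₂ are normal subgroups of H° with H° = H₁H₂ and [H₁, H₂] ≤ N_H(Q), and put Kᵢ = O^p of the weak closure of Q in HᵢQ. Then for i = 1, 2: Kᵢ = [Kᵢ, Q] = [Kᵢ, Hᵢ] ≤ Hᵢ′ and Kᵢ is normal in H°; H_∘ = K₁K₂; and [K₁, K₂] ≤ O_p(H°). -/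
theorem result {G : Type*} [Group G] [Finite G] {p : ℕ} [Fact p.Prime] (Q : Subgroup G) (hQp : IsPGroup p ↥Q) (hQ1 : Q ≠ ⊥) (hwc : Cfsg.IsWeaklyClosedSubgroup p Q) (Hc : Subgroup G) (hHc : Hc = Cfsg.weakClosure Q ⊤) (H₁ H₂ : Subgroup G) (hn₁ : H₁ ≤ Hc ∧ Hc ≤ Subgroup.normalizer ((H₁ : Subgroup G) : Set G)) (hn₂ : H₂ ≤ Hc ∧ Hc ≤ Subgroup.normalizer ((H₂ : Subgroup G) : Set G)) (hprod : H₁ ⊔ H₂ = Hc) (hcomm : ⁅H₁, H₂⁆ ≤ Subgroup.normalizer ((Q : Subgroup G) : Set G)) (K₁ K₂ : Subgroup G) (hK₁ : K₁ = ((Cfsg.pResidual p ↥(Cfsg.weakClosure Q (H₁ ⊔ Q))).map ((Cfsg.weakClosure Q (H₁ ⊔ Q))).subtype)) (hK₂ : K₂ = ((Cfsg.pResidual p ↥(Cfsg.weakClosure Q (H₂ ⊔ Q))).map ((Cfsg.weakClosure Q (H₂ ⊔ Q))).subtype)) : (⁅K₁, Q⁆ = K₁ ∧ ⁅K₁, H₁⁆ = K₁ ∧ K₁ ≤ ⁅H₁, H₁⁆ ∧ Hc ≤ Subgroup.normalizer ((K₁ : Subgroup G) : Set G)) ∧ (⁅K₂, Q⁆ = K₂ ∧ ⁅K₂,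 H₂⁆ = K₂ ∧ K₂ ≤ ⁅H₂, H₂⁆ ∧ Hc ≤ Subgroup.normalizer ((K₂ : Subgroup G) : Set G)) ∧ K₁ ⊔ K₂ = ((Cfsg.pResidual p ↥Hc).map (Hc).subtype) ∧ ⁅K₁, K₂⁆ ≤ (Cfsg.pCoreOf p Hc) := by
  obtain ⟨a1, a2, a3, a4, a5, a6⟩ := Lib.CharP.wc_factor_half hQp hwc hHc hn₁ hn₂ hprod hcomm K₁ hK₁
  obtain ⟨b1, b2, b3, b4, b5, b6⟩ := Lib.CharP.wc_factor_half hQp hwc hHc hn₂ hn₁ (by rw [sup_comm]; exact hprod)
    (by rw [Subgroup.commutator_comm]; exact hcomm) K₂ hK₂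
  have hQc : Q ≤ Hc := hHc ▸ Lib.CharP.le_weakClosure le_top
  refine ⟨⟨a1, a2, ?_, a4⟩, ⟨b1, b2, ?_, b4⟩, le_antisymm ?_ ?_, ?_⟩
  · calc K₁ = ⁅K₁, H₁⁆ := a2.symm
      _ ≤ ⁅H₁, H₁⁆ := Subgroup.commutator_mono a3 le_rfl
  · calc K₂ = ⁅K₂, H₂⁆ := b2.symm
      _ ≤ ⁅H₂, H₂⁆ := Subgroup.commutator_mono b3 le_rfl
  · refine sup_le ?_ ?_
    · rw [hK₁]
      exact Lib.CharP.map_pResidual_subtype_mono ((Lib.CharP.weakClosure_le _ _).trans (sup_le hn₁.1 hQc))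
    · rw [hK₂]
      exact Lib.CharP.map_pResidual_subtype_mono ((Lib.CharP.weakClosure_le _ _).trans (sup_le hn₂.1 hQc))
  · set N := K₁ ⊔ K₂ with hN
    have hNc : N ≤ Hc := sup_le (a3.trans hn₁.1) (b3.trans hn₂.1)
    have hNn : Hc ≤ Subgroup.normalizer (N : Set G) := Lib.Coprime.le_normalizer_sup a4 b4
    have hNQ : Hc ≤ Subgroup.normalizer ((N ⊔ Q : Subgroup G) : Set G) := by
      refine hprod.ge.trans (sup_le ?_ ?_)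
      · have e : N ⊔ Q = K₂ ⊔ (K₁ ⊔ Q) := by rw [hN, sup_comm K₁ K₂, sup_assoc]
        rw [e]
        exact Lib.Coprime.le_normalizer_sup (hn₁.1.trans b4) a6
      · have e : N ⊔ Q = K₁ ⊔ (K₂ ⊔ Q) := by rw [hN, sup_assoc]
        rw [e]
        exact Lib.Coprime.le_normalizer_sup (hn₂.1.trans a4) b6
    have hle : Hc ≤ N ⊔ Q := by
      conv_lhs => rw [hHc]
      refine iSup_le fun g => ?_
      have hgH : Lib.CharP.cj Q (g : G) ≤ Hc := by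
        rw [hHc]; exact le_iSup_of_le g le_rfl
      obtain ⟨k, hk, he⟩ := Lib.CharP.wc_conj_in hQp hwc hQc hgH
      show Lib.CharP.cj Q (g : G) ≤ N ⊔ Q
      rw [he]
      exact (Lib.CharP.cj_mono le_sup_right k).trans (Lib.CharP.mem_normalizer_iff_cj.1 (hNQ hk)).le
    rw [Lib.CharP.map_pResidual_subtype, Subgroup.closure_le]
    exact fun x hx => Lib.CharP.mem_of_coprime_mem_sup' hQp (hQc.trans hNn) (hle hx.1) hx.2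
  · exact (Subgroup.commutator_mono le_rfl b3).trans a5

end Cfsg.Agent.S2859
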