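import Cfsg.Statements.S2860
import Cfsg.Agent.Lib.CharP.QSection
import Cfsg.Agent.Lib.CharP.LargeWC
import Cfsg.Agent.Lib.CharP.FrakH

set_option autoImplicit false
set_option linter.style.haveILetI false
open Cfsg
open scoped commutatorElement

namespace Cfsg.Agent.S2860

/-- Let Q be a nontrivial large p-subgroup of the finite group H, U a nontrivial elementary abelian p-subgroup of H, and Q ≤ E ≤ N_H(U) with Q not normal in E. Suppose O_p(E/C_E(U)) = 1 and O^p(E)·C_E(U)/C_E(U) is quasisimple. Let E° be the weak closure of Q in E (generated by the conjugates of Q inside E) and E_∘ = O^p(E°). Then O^p(E)·C_E(U) = E_∘·C_E(U); E_∘ is perfect and equals O^p(E_∘); E_∘/C_{E_∘}(U) and E_∘/O_p(E_∘) are quasisimple; and E_∘ = [E_∘, Y] for every p-subgroup Y of E not centralizing U. -/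
theorem result {G : Type*} [Group G] [Finite G] {p : ℕ} [Fact p.Prime] (Q : Subgroup G) (hQp : IsPGroup p ↥Q) (hQ1 : Q ≠ ⊥) (hQ : Cfsg.IsLarge Q) (U : Subgroup G) (hU : Cfsg.IsElementaryAbelian p U) (hU1 : U ≠ ⊥) (E : Subgroup G) (hQE : Q ≤ E) (hEU : E ≤ Subgroup.normalizer ((U : Subgroup G) : Set G)) (hQn : ¬ E ≤ Subgroup.normalizer ((Q : Subgroup G) : Set G)) [hn : ((Subgroup.centralizer ((U : Subgroup G) : Set G)).subgroupOf E).Normal] (hred : Cfsg.pCore p (↥E ⧸ (Subgroup.centralizer ((U : Subgroup G) : Set G)).subgroupOf E) = ⊥) (hqs : Cfsg.IsQuasisimple ↥(((Cfsg.pResidual p ↥E) ⊔ (Subgroup.centralizer ((U : Subgroup G) : Set G)).subgroupOf E).map (QuotientGroup.mk' ((Subgroup.centralizer ((U : Subgroup G) : Set G)).subgroupOf E)))) (Er : Subgroup G) (hEr : Er = ((Cfsg.pResidual p ↥(Cfsg.weakClosure Q E)).map ((Cfsg.weakClosure Q E)).subtype)) [hn2 : ((Subgroup.centralizer ((U : Subgroup G) : Set G)).subgroupOf Er).Normal] : ((Cfsg.pResidual p ↥E).map (E).subtype)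 ⊔ (E ⊓ Subgroup.centralizer ((U : Subgroup G) : Set G)) = Er ⊔ (E ⊓ Subgroup.centralizer ((U : Subgroup G) : Set G)) ∧ ⁅Er, Er⁆ = Er ∧ ((Cfsg.pResidual p ↥Er).map (Er).subtype) = Er ∧ Cfsg.IsQuasisimple (↥Er ⧸ (Subgroup.centralizer ((U : Subgroup G) : Set G)).subgroupOf Er) ∧ Cfsg.IsQuasisimple (↥Er ⧸ Cfsg.pCore p ↥Er) ∧ ∀ Y : Subgroup G, Y ≤ E → IsPGroup p ↥Y → ¬ Y ≤ Subgroup.centralizer ((U : Subgroup G) : Set G) → ⁅Er, Y⁆ = Er := by
  classical
  have hUp : IsPGroup p ↥U := fun x => ⟨1, Subtype.ext (by simpa using hU.2 x x.2)⟩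
  set C := E ⊓ Subgroup.centralizer (U : Set G) with hC
  set C' := (Subgroup.centralizer ((U : Subgroup G) : Set G)).subgroupOf E with hC'
  have hCC : C'.map E.subtype = C := by rw [hC', Subgroup.subgroupOf_map_subtype, inf_comm]
  have hEC : E ≤ Subgroup.normalizer (C : Set G) :=
    Lib.CharP.le_normalizer_inf Subgroup.le_normalizer (Lib.CharP.le_normalizer_centralizer hEU)
  set K0 := (pResidual p ↥E).map E.subtype with hK0
  set K := K0 ⊔ C with hK
  have hK0E : K0 ≤ E := Subgroup.map_subtype_le _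
  have hKE : K ≤ E := sup_le hK0E inf_le_left
  have hCK : C ≤ K := le_sup_right
  have hK0n : E ≤ Subgroup.normalizer (K0 : Set G) :=
    Lib.CharP.le_normalizer_map_of_normal E (pResidual p ↥E)
  have hEK : E ≤ Subgroup.normalizer (K : Set G) := Lib.Coprime.le_normalizer_sup hK0n hEC
  have hKimg : (pResidual p ↥E ⊔ C').map E.subtype = K := by rw [Subgroup.map_sup, hCC]
  haveI hCn : (C.subgroupOf K).Normal :=
    (Subgroup.normal_subgroupOf_iff_le_normalizer hCK).2 (hKE.trans hEC)
  let f : ↥K →* ↥E ⧸ C' := (QuotientGroup.mk' C').comp (Subgroup.inclusion hKE)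
  have hfk : f.ker = C.subgroupOf K := by
    ext x
    show (QuotientGroup.mk (Subgroup.inclusion hKE x) : ↥E ⧸ C') = 1 ↔ _
    rw [QuotientGroup.eq_one_iff]
    exact ⟨fun h => ⟨hKE x.2, h⟩, fun h => h.2⟩
  have hfr : f.range = (pResidual p ↥E ⊔ C').map (QuotientGroup.mk' C') := by
    rw [MonoidHom.range_comp, Subgroup.inclusion_range]
    rw [Subgroup.subgroupOf, ← hKimg, Subgroup.comap_map_eq_self_of_injective E.subtype_injective]
  have hqK : IsQuasisimple (↥K ⧸ C.subgroupOf K) := Lib.Components.Quasisimple.of_mulEquiv hqs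
    (((QuotientGroup.quotientMulEquivOfEq hfk).symm.trans (QuotientGroup.quotientKerEquivRange f)).trans
      (MulEquiv.subgroupCongr hfr)).symm
  obtain ⟨hA, hperf⟩ := Lib.CharP.qsec_facts hCK hqK
  haveI hKbn : ((pResidual p ↥E ⊔ C').map (QuotientGroup.mk' C')).Normal := by
    haveI : (pResidual p ↥E).Normal := by
      rw [← Subgroup.comap_map_eq_self_of_injective E.subtype_injective (pResidual p ↥E)]
      exact (Subgroup.normal_subgroupOf_iff_le_normalizer hK0E).2 hK0n
    exact Subgroup.Normal.map inferInstance _ (QuotientGroup.mk'_surjective _)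
  have hpK : ∀ g : ↥E ⧸ C', ∃ k : ℕ, g ^ p ^ k ∈ (pResidual p ↥E ⊔ C').map (QuotientGroup.mk' C') := by
    intro g
    obtain ⟨e, rfl⟩ := QuotientGroup.mk'_surjective _ g
    refine ⟨(orderOf e).factorization p, ?_⟩
    rw [← map_pow]
    refine ⟨_, Subgroup.mem_sup_left (Subgroup.subset_closure ?_), rfl⟩
    show Nat.Coprime _ p
    rw [orderOf_pow_of_dvd (pow_ne_zero _ (Fact.out : p.Prime).ne_zero) (Nat.ordProj_dvd _ _)]
    exact (Nat.coprime_ordCompl Fact.out (orderOf_pos e).ne').symm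
  -- `p`-subgroups centralizing `K` modulo `C` lie in `C`
  have hPC : ∀ Y : Subgroup G, Y ≤ E → IsPGroup p ↥Y → ⁅K, Y⁆ ≤ C → Y ≤ C := by
    intro Y hYE hY hKY
    have h := Lib.CharP.pgroup_le_centralizer_eq_bot hred hpK
      ((hY.comap_subtype (K := E)).map (QuotientGroup.mk' C'))
      (by
        rintro _ ⟨y, hy, rfl⟩
        rw [Subgroup.mem_centralizer_iff]
        rintro _ ⟨k, hk, rfl⟩
        have hkK : (k : G) ∈ K := hKimg ▸ ⟨k, hk, rfl⟩
        have h1 : ⁅(k : G), (y : G)⁆ ∈ C := hKY (Subgroup.commutator_mem_commutator hkK hy)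
        rw [← commutatorElement_eq_one_iff_mul_comm, ← map_commutatorElement]
        exact (QuotientGroup.eq_one_iff (⁅k, y⁆ : ↥E)).2 h1.2)
    intro y hy
    refine ⟨hYE hy, ?_⟩
    have h2 : QuotientGroup.mk' C' ⟨y, hYE hy⟩ = 1 := by
      rw [← Subgroup.mem_bot, ← h]
      exact ⟨_, hy, rfl⟩
    exact (QuotientGroup.eq_one_iff (⟨y, hYE hy⟩ : ↥E)).1 h2
  -- `O_p(E) ≤ C`
  have hPE : pCoreOf p E ≤ C := by
    intro x hx
    obtain ⟨x', hx', rfl⟩ := hx
    refine ⟨x'.2, ?_⟩
    have h1 : (pCore p ↥E).map (QuotientGroup.mk' C') ≤ ⊥ := hred ▸ le_sSup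
      ⟨Subgroup.Normal.map inferInstance _ (QuotientGroup.mk'_surjective _),
        (Lib.Cores.pCore_isPGroup (G := ↥E) p).map _⟩
    exact (QuotientGroup.eq_one_iff x').1 (Subgroup.mem_bot.1 (h1 ⟨x', hx', rfl⟩))
  have hwc := Lib.CharP.large_wc hQp hQ1 hQ
  obtain ⟨hWeq, hErQ, hEW⟩ := Lib.CharP.weakClosure_structure hQp hwc hQE
  rw [← hEr] at hWeq hErQ
  obtain ⟨-, hWC, -⟩ := Lib.CharP.large_weakClosure hQp hQ1 hQ hQE hUp hU1 hEU
  set W := weakClosure Q E with hW
  have hWE : W ≤ E := Lib.CharP.weakClosure_le Q E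
  set O := pCoreOf p W with hO
  have hEO : E ≤ Subgroup.normalizer (O : Set G) :=
    hEW.trans (Lib.CharP.normalizer_le_normalizer_map_char _)
  have hOC : O ≤ C := (Lib.CharP.le_pCoreOf (Lib.CharP.isPGroup_pCoreOf p W)
    ((Lib.CharP.pCoreOf_le p W).trans hWE) hEO).trans hPE
  have hErW : Er ≤ W := hEr ▸ Subgroup.map_subtype_le _
  have hErE : Er ≤ E := hErW.trans hWE
  have hEEr : E ≤ Subgroup.normalizer (Er : Set G) := by
    rw [hEr]; exact hEW.trans (Lib.CharP.normalizer_le_normalizer_map_char _)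
  have hQW : Q ≤ W := Lib.CharP.le_weakClosure hQE
  have hres : (pResidual p Er).map Er.subtype = Er := by
    refine le_antisymm (Subgroup.map_subtype_le _) ?_
    conv_lhs => rw [hEr, Lib.CharP.map_pResidual_subtype]
    rw [Lib.CharP.map_pResidual_subtype, Subgroup.closure_le]
    intro x hx
    refine Subgroup.subset_closure ⟨?_, hx.2⟩
    rw [hEr, Lib.CharP.map_pResidual_subtype]
    exact Subgroup.subset_closure hx
  have hErK0 : Er ≤ K0 := hEr ▸ Lib.CharP.map_pResidual_subtype_mono hWE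
  have hnQC : ¬ Q ≤ C := by
    intro h
    have hCQ : C ≤ Subgroup.normalizer (Q : Set G) := inf_le_right.trans
      (Lib.CharP.large_centralizer_le_normalizer hQp hQ hUp hU1 (hQE.trans hEU))
    have hQO : Q ≤ pCoreOf p E := (Lib.CharP.le_pCoreOf hQp h hCQ).trans
      (Lib.CharP.le_pCoreOf (Lib.CharP.isPGroup_pCoreOf p C) ((Lib.CharP.pCoreOf_le p C).trans inf_le_left)
        (hEC.trans (Lib.CharP.normalizer_le_normalizer_map_char _)))
    refine hQn fun e he => Lib.CharP.mem_normalizer_iff_cj.2 ?_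
    have h1 : Lib.CharP.cj Q e ≤ pCoreOf p E := (Lib.CharP.cj_mono hQO e).trans
      (Lib.CharP.mem_normalizer_iff_cj.1 (Lib.CharP.le_normalizer_pCoreOf p E he)).le
    obtain ⟨k, hk, hke⟩ := Lib.CharP.wc_conj_in hQp hwc hQO h1
    rw [hke]
    exact Lib.CharP.mem_normalizer_iff_cj.1
      (Lib.CharP.wc_le_normalizer hwc (Lib.CharP.isPGroup_pCoreOf p E) hQO hk)
  have hQK : ⁅K, Q⁆ ≤ (W ⊔ C) ⊓ K := by
    refine le_inf (le_trans ?_ le_sup_left)
      (Subgroup.le_normalizer_iff_commutator_le_left.1 (hQE.trans hEK))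
    exact (Subgroup.commutator_mono le_rfl hQW).trans
      (Subgroup.le_normalizer_iff_commutator_le_right.1 (hKE.trans hEW))
  have hKN : K = Er ⊔ C := by
    refine le_antisymm ?_ (sup_le (hErK0.trans le_sup_left) hCK)
    rcases hA _ (le_inf le_sup_right hCK) inf_le_right
      (Lib.CharP.le_normalizer_inf (hKE.trans (Lib.Coprime.le_normalizer_sup hEW hEC)) Subgroup.le_normalizer)
      with hc | hM
    · refine absurd (hPC Q hQE hQp ?_) hnQC
      refine le_trans (Subgroup.commutator_mono hperf le_rfl)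
        (Lib.CharP.commutator_sup_le_of
          ((Subgroup.commutator_le_self K).trans (hKE.trans hEC)) (hQE.trans hEC) le_rfl
          ((Subgroup.commutator_le_self K).trans (hKE.trans hEC)) ?_)
      exact Lib.CharP.three_subgroups_le inf_le_left hEC hKE hKE hQE
        ((Subgroup.commutator_mono hQK le_rfl).trans hc)
        ((Subgroup.commutator_mono (Subgroup.commutator_comm Q K ▸ hQK) le_rfl).trans hc)
    · refine sup_le ?_ le_sup_right
      have h1 : K ≤ (Er ⊔ C) ⊔ Q := by
        rw [sup_right_comm, ← hWeq]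
        exact hM.ge.trans inf_le_left
      rw [hK0, Lib.CharP.map_pResidual_subtype, Subgroup.closure_le]
      exact fun g hg => Lib.CharP.mem_of_coprime_mem_sup' hQp
        (Lib.Coprime.le_normalizer_sup (hQE.trans hEEr) (hQE.trans hEC))
        (h1 (Subgroup.mem_sup_left (by rw [hK0, Lib.CharP.map_pResidual_subtype]; exact Subgroup.subset_closure hg)))
        hg.2
  have hCO : ∀ M : Subgroup G, M ≤ W → ⁅Er ⊓ C, M⁆ ≤ O := fun M hM => by
    rw [Subgroup.commutator_comm]
    exact (Subgroup.commutator_mono hM (inf_le_right.trans inf_le_right)).trans hWC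
  have hErperf : ⁅Er, Er⁆ = Er := by
    refine Lib.CharP.eq_of_le_sup_central hErQ (Subgroup.commutator_le_self Er)
      (Lib.CharP.le_normalizer_commutator_both Subgroup.le_normalizer Subgroup.le_normalizer)
      (Lib.CharP.le_normalizer_commutator_both (hQE.trans hEEr) (hQE.trans hEEr))
      (hErE.trans hEC) ?_ (Lib.CharP.isPGroup_pCoreOf p W) (hCO Q hQW) hres
    refine (hErK0.trans (le_sup_left.trans hperf)).trans (sup_le ?_ le_sup_right)
    rw [hKN]
    have hErn : Er ≤ Subgroup.normalizer ((⁅Er, Er⁆ ⊔ C : Subgroup G) : Set G) :=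
      Lib.Coprime.le_normalizer_sup
        (Lib.CharP.le_normalizer_commutator_both Subgroup.le_normalizer Subgroup.le_normalizer) (hErE.trans hEC)
    refine Lib.CharP.commutator_sup_le_of (hErE.trans hEC) ((sup_le hErE inf_le_left).trans hEC) le_sup_right
      hErn ?_
    rw [Subgroup.commutator_comm]
    exact Lib.CharP.commutator_sup_le_of (hErE.trans hEC) (hErE.trans hEC) le_sup_right hErn le_sup_left
  have hErC : (Subgroup.centralizer (U : Set G)).subgroupOf Er = C.subgroupOf Er := by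
    ext x
    exact ⟨fun h => ⟨hErE x.2, h⟩, fun h => h.2⟩
  have hq4 : IsQuasisimple (↥Er ⧸ (Subgroup.centralizer (U : Set G)).subgroupOf Er) := by
    haveI : (C.subgroupOf Er).Normal := hErC ▸ hn2
    have hle : Er ≤ K := hErK0.trans le_sup_left
    let g : ↥Er →* ↥K ⧸ C.subgroupOf K := (QuotientGroup.mk' _).comp (Subgroup.inclusion hle)
    have hg : Function.Surjective g := by
      intro y
      obtain ⟨⟨k, hk⟩, rfl⟩ := QuotientGroup.mk'_surjective _ y
      have hk' : k ∈ ((Er ⊔ C : Subgroup G) : Set G) := hKN ▸ hk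
      rw [Subgroup.coe_mul_of_left_le_normalizer_right Er C (hErE.trans hEC)] at hk'
      obtain ⟨e, he, c, hc, hec⟩ := hk'
      refine ⟨⟨e, he⟩, QuotientGroup.eq.2 ?_⟩
      show e⁻¹ * k ∈ C
      rw [← hec]
      simpa using hc
    have hgk : g.ker = (Subgroup.centralizer (U : Set G)).subgroupOf Er := by
      ext x
      show (QuotientGroup.mk (Subgroup.inclusion hle x) : ↥K ⧸ C.subgroupOf K) = 1 ↔ _
      rw [QuotientGroup.eq_one_iff, hErC]
      exact Iff.rfl
    exact Lib.Components.Quasisimple.of_mulEquiv hqK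
      ((QuotientGroup.quotientMulEquivOfEq hgk).symm.trans
        (QuotientGroup.quotientKerEquivOfSurjective g hg)).symm
  refine ⟨hKN, hErperf, hres, hq4, ?_, ?_⟩
  · set D := (Subgroup.centralizer (U : Set G)).subgroupOf Er with hD
    have hPD : pCore p ↥Er ≤ D := by
      intro x hx
      refine (hPE (Lib.CharP.le_pCoreOf (Lib.CharP.isPGroup_pCoreOf p Er)
        ((Lib.CharP.pCoreOf_le p Er).trans hErE)
        (hEEr.trans (Lib.CharP.normalizer_le_normalizer_map_char _)) ⟨x, hx, rfl⟩)).2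
    have hperf' : Group.IsPerfect ↥Er := Subgroup.isPerfect_iff.2 hErperf
    haveI : Group.IsPerfect (↥Er ⧸ pCore p ↥Er) :=
      Group.IsPerfect.ofSurjective (QuotientGroup.mk'_surjective (pCore p ↥Er))
    refine Lib.Balance.isQuasisimple_of_central inferInstance
      (f := QuotientGroup.map (pCore p ↥Er) D (MonoidHom.id _) hPD) ?_ ?_ hq4
    · intro y
      obtain ⟨y, rfl⟩ := QuotientGroup.mk'_surjective _ y
      exact ⟨QuotientGroup.mk y, rfl⟩
    · intro z hz
      obtain ⟨z, rfl⟩ := QuotientGroup.mk'_surjective _ z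
      have hzD : z ∈ D := (QuotientGroup.eq_one_iff z).1 hz
      refine Subgroup.mem_center_iff.2 fun y => ?_
      obtain ⟨y, rfl⟩ := QuotientGroup.mk'_surjective _ y
      rw [← commutatorElement_eq_one_iff_mul_comm, ← map_commutatorElement]
      refine (QuotientGroup.eq_one_iff _).2 ?_
      have h1 : ((⁅y, z⁆ : ↥Er) : G) ∈ O ⊓ Er :=
        ⟨hWC (Subgroup.commutator_mem_commutator (hErW y.2) hzD), (⁅y, z⁆ : ↥Er).2⟩
      have h2 : O ⊓ Er ≤ pCoreOf p Er := Lib.CharP.le_pCoreOf
        ((Lib.CharP.isPGroup_pCoreOf p W).to_le inf_le_left) inf_le_right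
        (Lib.CharP.le_normalizer_inf (hErE.trans hEO) Subgroup.le_normalizer)
      obtain ⟨w, hw, hw'⟩ := h2 h1
      exact (Subtype.ext hw' : w = ⁅y, z⁆) ▸ hw
  · intro Y hYE hY hYC
    have hYEr := hYE.trans hEEr
    set D := ⁅Er, Y⁆ with hD
    have hDEr : D ≤ Er := Lib.Coprime.commutator_le_of_le_normalizer hYEr
    have hnD : Er ≤ Subgroup.normalizer (D : Set G) := by
      rw [hD, Subgroup.commutator_comm]
      exact Lib.Coprime.right_le_normalizer_commutator Y Er
    have hYD : Y ≤ Subgroup.normalizer (D : Set G) := Lib.Coprime.right_le_normalizer_commutator Er Y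
    have hErN : Er ≤ Subgroup.normalizer ((D ⊔ C : Subgroup G) : Set G) :=
      Lib.Coprime.le_normalizer_sup hnD (hErE.trans hEC)
    rcases hA (D ⊔ C) le_sup_right (sup_le (hDEr.trans (hErK0.trans le_sup_left)) hCK)
      (hKN.le.trans (sup_le hErN (le_sup_right.trans Subgroup.le_normalizer))) with hc | hN
    · refine absurd ((hPC Y hYE hY ?_).trans inf_le_right) hYC
      have hKY : ⁅K, Y⁆ ≤ D ⊔ C := by
        conv_lhs => rw [hKN]
        exact Lib.CharP.commutator_sup_le_of (hErE.trans hEC) (hYE.trans hEC) le_sup_right hErN le_sup_left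
      refine le_trans (Subgroup.commutator_mono hperf le_rfl)
        (Lib.CharP.commutator_sup_le_of
          ((Subgroup.commutator_le_self K).trans (hKE.trans hEC)) (hYE.trans hEC) le_rfl
          ((Subgroup.commutator_le_self K).trans (hKE.trans hEC)) ?_)
      exact Lib.CharP.three_subgroups_le inf_le_left hEC hKE hKE hYE
        ((Subgroup.commutator_mono hKY le_rfl).trans hc)
        ((Subgroup.commutator_mono (Subgroup.commutator_comm Y K ▸ hKY) le_rfl).trans hc)
    · exact Lib.CharP.eq_of_le_sup_central hErperf hDEr hnD hnD (hErE.trans hEC)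
        (hN.ge.trans' (hErK0.trans le_sup_left)) (Lib.CharP.isPGroup_pCoreOf p W) (hCO Er hErW) hres

end Cfsg.Agent.S2860
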