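import Cfsg.Statements.S2861
import Cfsg.Agent.Lib.CharP.FrakLQuot

set_option autoImplicit false
set_option linter.style.haveILetI false
open Cfsg

namespace Cfsg.Agent.S2861

/-- Standing hypotheses: G a finite group, S a Sylow p-subgroup, Q a nontrivial large p-subgroup of G contained in S, M a subgroup containing S with the basic property (M ∈ 𝔐_G(S)); Y_M the largest p-reduced normal subgroup of M and M† = M·C_G(Y_M). Let L ∈ 𝔏_G(Y_M) (L ∈ 𝔏_G(Y_M): Y_M ≤ L; O_p(L) is the normal closure in L of Y_M ∩ O_p(L) and normalizes Y_M; L is Y_M-minimal of characteristic p with N_L(Y_M) its unique maximal subgroup over Y_M; and L/O_p(L) ≅ SL₂(q) with q = |Y_M : Y_M ∩ O_p(L)|, or p = 2 and L/O_p(L) is a Suzuki group Sz(q) or dihedral of order 2r, r an odd prime) and A = O_p(L). Then Y_M·A/A is the unique nontrivial elementary abelian normal p-subgroup of N_L(Y_M)/A. -/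
theorem result {G : Type*} [Group G] [Finite G] {p : ℕ} [Fact p.Prime] (S : Sylow p G) (Q : Subgroup G) (hQp : IsPGroup p ↥Q) (hQ1 : Q ≠ ⊥) (hQS : Q ≤ (S : Subgroup G)) (hQ : Cfsg.IsLarge Q) (M : Subgroup G) (hSM : (S : Subgroup G) ≤ M) (hM : Cfsg.IsInFrakM p M) (L : Subgroup G) (hL : Cfsg.IsInFrakL p M L) (NL : Subgroup G) (hNL : NL = L ⊓ Subgroup.normalizer (((Cfsg.largestPReducedOf p M) : Subgroup G) : Set G)) [hn : (((Cfsg.pCoreOf p L)).subgroupOf NL).Normal] : let Ybar : Subgroup (↥NL ⧸ ((Cfsg.pCoreOf p L)).subgroupOf NL) := (((Cfsg.largestPReducedOf p M)).subgroupOf NL).map (QuotientGroup.mk' (((Cfsg.pCoreOf p L)).subgroupOf NL)); Ybar ≠ ⊥ ∧ Ybar.Normal ∧ Cfsg.IsElementaryAbelian p Ybar ∧ ∀ (V : Subgroup (↥NL ⧸ ((Cfsg.pCoreOf p L)).subgroupOf NL)), V.Normal → Cfsg.IsElementaryAbelian p V → V ≠ ⊥ → V = Ybar := by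
  intro Ybar
  obtain ⟨hYL, -, hAY, hminL, -, ⟨hNlt, hNmax⟩, hcase⟩ := hL
  set Y := Cfsg.largestPReducedOf p M with hY
  set A := Cfsg.pCoreOf p L with hA
  have hYel : Cfsg.IsElementaryAbelian p Y := (Lib.CharP.largestPReducedOf_isPRed M).elemAb
  set f := QuotientGroup.mk' (Cfsg.pCore p ↥L) with hf
  have hfker : ∀ x : L, f x = 1 ↔ (x : G) ∈ A := fun x => by
    rw [hf, QuotientGroup.mk'_apply, QuotientGroup.eq_one_iff]
    exact ⟨fun h => ⟨x, h, rfl⟩, fun ⟨y, hy, hyx⟩ => (Subtype.ext hyx : y = x) ▸ hy⟩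
  have hfs : Function.Surjective f := QuotientGroup.mk'_surjective _
  have hALn : L ≤ Subgroup.normalizer (A : Set G) := Lib.CharP.le_normalizer_pCoreOf p L
  have hNL' : NL ≤ L := hNL ▸ inf_le_left
  have hYNL : Y ≤ NL := hNL ▸ le_inf hYL Subgroup.le_normalizer
  have hYX : Cfsg.IsElementaryAbelian p ((Y.subgroupOf L).map f) :=
    Lib.CharP.elemAb_map f ((Lib.CharP.elemAb_subgroupOf_iff hYL).2 hYel)
  set Yx := (Y.subgroupOf L).map f with hYxdef
  have hOX : Cfsg.pCore p (↥L ⧸ Cfsg.pCore p ↥L) = ⊥ := Lib.Cores.pCore_quotient_pCore p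
  have hcard : Nat.card Yx = (Y ⊓ A).relIndex Y := by
    let g : Y →* (↥L ⧸ Cfsg.pCore p ↥L) := f.comp (Subgroup.inclusion hYL)
    have h1 : g.range = Yx := by
      ext x
      constructor
      · rintro ⟨y, rfl⟩; exact ⟨Subgroup.inclusion hYL y, y.2, rfl⟩
      · rintro ⟨y, hy, rfl⟩; exact ⟨⟨y, hy⟩, rfl⟩
    have h2 : g.ker = (Y ⊓ A).subgroupOf Y := by
      ext y
      rw [MonoidHom.mem_ker, Subgroup.mem_subgroupOf]
      exact (hfker _).trans ⟨fun h => ⟨y.2, h⟩, fun h => h.2⟩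
    rw [← h1, ← Subgroup.index_ker, h2]
    rfl
  have hnotp : ¬ IsPGroup p ↥L := fun h => by
    refine hNlt.ne (le_antisymm inf_le_left (le_inf le_rfl ?_))
    haveI := h.isNilpotent
    have hYtop : Y.subgroupOf L = ⊤ := by
      by_contra hne
      obtain ⟨M₀, hM₀, hYM₀⟩ := (eq_top_or_exists_le_coatom (Y.subgroupOf L)).resolve_left hne
      haveI : M₀.Normal :=
        Subgroup.NormalizerCondition.normal_of_coatom M₀ Group.normalizerCondition_of_isNilpotent hM₀
      exact hM₀.1 (eq_top_iff.2 (hminL.1 ▸ Subgroup.normalClosure_le_normal hYM₀))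
    exact (Subgroup.subgroupOf_eq_top.1 hYtop).trans Subgroup.le_normalizer
  have hYxne : Yx ≠ ⊥ := fun h => by
    rw [hYxdef, Subgroup.map_eq_bot_iff, hf, QuotientGroup.ker_mk'] at h
    exact hnotp ((Lib.Cores.pCore_eq_top_iff).1 (eq_top_iff.2 (hminL.1 ▸ Subgroup.normalClosure_le_normal h)))
  -- the preimage of the normalizer of `Yx` lies in `NL`
  have hpre : ∀ x : L, f x ∈ Subgroup.normalizer (Yx : Set _) → (x : G) ∈ NL := by
    intro x hx
    set K := ((Subgroup.normalizer (Yx : Set _)).comap f).map L.subtype with hK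
    have hne : K ≠ L := by
      intro h
      refine hYxne (le_bot_iff.1 (hOX ▸ ?_))
      haveI : Yx.Normal := by
        rw [← Subgroup.normalizer_eq_top_iff, eq_top_iff]
        intro q _
        obtain ⟨z, rfl⟩ := hfs q
        obtain ⟨w, hw, hwz⟩ := h.ge z.2
        exact (Subtype.ext hwz : w = z) ▸ hw
      exact Lib.Cores.le_pCore (Lib.CharP.elemAb_isPGroup hYX)
    have hYK : Y ≤ K := fun y hy =>
      ⟨⟨y, hYL hy⟩, Subgroup.le_normalizer ⟨⟨y, hYL hy⟩, hy, rfl⟩, rfl⟩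
    rw [hNL]
    exact hNmax K hYK (lt_of_le_of_ne (Subgroup.map_subtype_le _) hne) ⟨x, hx, rfl⟩
  -- the embedding of `NL / A` into `L / A`
  set A' := A.subgroupOf NL with hA'
  let φ : (↥NL ⧸ A') →* (↥L ⧸ Cfsg.pCore p ↥L) :=
    QuotientGroup.lift A' (f.comp (Subgroup.inclusion hNL')) fun x hx => (hfker _).2 hx
  have hφ : Function.Injective φ := by
    rw [injective_iff_map_eq_one]
    intro q hq
    induction q using QuotientGroup.induction_on with
    | _ x => exact (QuotientGroup.eq_one_iff x).2 ((hfker _).1 hq)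
  have hφY : Ybar.map φ = Yx := by
    ext q
    constructor
    · rintro ⟨_, ⟨y, hy, rfl⟩, rfl⟩
      exact ⟨Subgroup.inclusion hNL' y, hy, rfl⟩
    · rintro ⟨y, hy, rfl⟩
      exact ⟨QuotientGroup.mk' A' ⟨y, hYNL hy⟩, ⟨_, hy, rfl⟩, rfl⟩
  have hYbn : Ybar.Normal := by
    haveI : (Y.subgroupOf NL).Normal :=
      (Subgroup.normal_subgroupOf_iff_le_normalizer hYNL).2 (hNL ▸ inf_le_right)
    exact Subgroup.Normal.map inferInstance _ (QuotientGroup.mk'_surjective A')
  refine ⟨fun h => hYxne (by rw [← hφY, h, Subgroup.map_bot]), hYbn,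
    Lib.CharP.elemAb_map _ ((Lib.CharP.elemAb_subgroupOf_iff hYNL).2 hYel), fun V hVn hV hV1 => ?_⟩
  have hcardq : Nat.card Yx ≠ 1 := fun h => hYxne (Subgroup.card_eq_one.1 h)
  have hBU : Lib.CharP.BorelUnique p (Nat.card Yx) (↥L ⧸ Cfsg.pCore p ↥L) := by
    rcases hcase with ⟨F, _, _, hF, ⟨e⟩⟩ | ⟨hp2, F, _, _, m, hFm, hF, ⟨e⟩⟩ | ⟨hp2, r, hr, hr2, ⟨e⟩⟩
    · rw [hcard, ← hF]
      haveI : CharP F p := by
        obtain ⟨n, hn⟩ := IsPGroup.iff_card.1 (Lib.CharP.elemAb_isPGroup hYX)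
        obtain ⟨k, hk⟩ := FiniteField.card F (ringChar F)
        have hkp : (ringChar F) = p := by
          haveI := Fact.mk hk.1
          have h2 : ringChar F ∣ p ^ n := by
            rw [← hn, hcard, ← hF, hk.2]
            exact dvd_pow_self _ k.pos.ne'
          exact (Nat.prime_dvd_prime_iff_eq hk.1 Fact.out).1 (hk.1.dvd_of_dvd_pow h2)
        exact hkp ▸ ringChar.charP F
      exact Lib.CharP.borelUnique_of_equiv e Lib.CharP.borelUnique_SL2
    · subst hp2
      rcases Nat.eq_zero_or_pos m with hm | hm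
      · have h2 : Nat.card Yx = 2 := by rw [hcard, ← hF, hFm, hm]; rfl
        obtain ⟨a, ha, ha1⟩ : ∃ a ∈ Yx, a ≠ 1 := by
          by_contra hc
          push Not at hc
          exact hYxne ((Subgroup.eq_bot_iff_forall _).2 hc)
        have hYa : Yx = Subgroup.zpowers a := by
          refine (Subgroup.eq_of_le_of_card_ge (Subgroup.zpowers_le.2 ha) ?_).symm
          rw [h2, Nat.card_zpowers]
          exact Nat.succ_le_of_lt (lt_of_le_of_ne (orderOf_pos a) (fun e => ha1 (orderOf_eq_one_iff.1 e.symm)))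
        obtain ⟨M₀, hM₀, -⟩ := hminL.2
        obtain ⟨g, hg⟩ : ∃ g : L, g ∉ M₀ := by
          by_contra hc
          push Not at hc
          exact hM₀.1.1 (eq_top_iff.2 fun x _ => hc x)
        have hgen := congrArg (Subgroup.map f) (Lib.CharP.sup_conj_eq_top hM₀.1 hM₀.2 hminL hg)
        rw [Subgroup.map_sup, Subgroup.map_map, Subgroup.map_top_of_surjective f hfs,
          show f.comp (MulAut.conj g).toMonoidHom = (MulAut.conj (f g)).toMonoidHom.comp f by ext x; simp,
          ← Subgroup.map_map, ← hYxdef, hYa, MonoidHom.map_zpowers] at hgen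
        refine Lib.CharP.borelUnique_of_card hcardq fun P hP =>
          Lib.CharP.card_le_two_of_dihedral (a := a) (b := f g * a * (f g)⁻¹) ?_ ?_ ?_ hOX hP
        · rw [← pow_two]; exact hYX.2 a ha
        · rw [show f g * a * (f g)⁻¹ * (f g * a * (f g)⁻¹) = f g * (a * a) * (f g)⁻¹ by group, ← pow_two,
            hYX.2 a ha, mul_one, mul_inv_cancel]
        · rw [eq_top_iff, ← hgen]
          refine sup_le (Subgroup.zpowers_le.2 (Subgroup.subset_closure (Or.inl rfl))) ?_
          exact Subgroup.zpowers_le.2 (Subgroup.subset_closure (Or.inr rfl))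
      · have hsz : Lib.LieTwisted.Suzuki.IsSzField F m := ⟨hFm⟩
        rw [hcard, ← hF]
        exact Lib.CharP.borelUnique_of_equiv (e.trans (Lib.LieTwisted.Suzuki.szEquiv hsz hm).symm)
          (Lib.CharP.borelUnique_Sz hsz hm)
    · subst hp2
      haveI : NeZero r := ⟨hr.ne_zero⟩
      refine Lib.CharP.borelUnique_of_equiv e (Lib.CharP.borelUnique_of_card hcardq fun P hP => ?_)
      exact Lib.CharP.card_le_two_dihedral
        (fun h => hr2 ((Nat.prime_dvd_prime_iff_eq Nat.prime_two hr).1 h).symm) hP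
  refine Subgroup.map_injective hφ ((hBU Yx (V.map φ) hYX rfl (Lib.CharP.elemAb_map φ hV) ?_ ?_ ?_).trans hφY.symm)
  · exact fun h => hV1 (Subgroup.map_injective hφ (h.trans (Subgroup.map_bot _).symm))
  · rw [← hφY, ← Subgroup.map_sup]
    exact ((Lib.CharP.elemAb_isPGroup (Lib.CharP.elemAb_map _
      ((Lib.CharP.elemAb_subgroupOf_iff hYNL).2 hYel))).to_sup_of_normal_left
      (Lib.CharP.elemAb_isPGroup hV)).map φ
  · intro q hq
    obtain ⟨x, rfl⟩ := hfs q
    have hxNL := hpre x hq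
    have h : φ (QuotientGroup.mk' A' ⟨x, hxNL⟩) ∈ Subgroup.normalizer ((V.map φ : Subgroup _) : Set _) :=
      Subgroup.le_normalizer_map φ ⟨_, Subgroup.le_normalizer_of_normal (K := ⊤) (Subgroup.mem_top _), rfl⟩
    exact h

end Cfsg.Agent.S2861
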