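import Cfsg.Statements.S2862
import Cfsg.Agent.Lib.CharP.AsymLLemma

set_option autoImplicit false
set_option linter.style.haveILetI false
open Cfsg
open scoped commutatorElement

namespace Cfsg.Agent.S2862

/-- Standing hypotheses: G a finite group, S a Sylow p-subgroup, Q a nontrivial large p-subgroup of G contained in S, M a subgroup containing S with the basic property (M ∈ 𝔐_G(S)); Y_M the largest p-reduced normal subgroup of M and M† = M·C_G(Y_M). Suppose Y_M is char-p-tall and asymmetric in G, H ∈ ℌ_G(O_p(M)), and L is minimal among the subgroups of H containing Y_M with Y_M ≰ O_p(L). Then H = ⟨L, O_p(M)⟩ = ⟨hY_Mh⁻¹, O_p(M)⟩ for every h ∈ L outside N_L(Y_M); L is Y_M-minimal and of characteristic p, with N_L(Y_M) the unique maximal subgroup of L containing Y_M; [V, O^p(L)] ≠ 1 for every noncentral chief factor V/W of H inside O_p(H) (that is, O^p(L) does not act trivially on V/W); and the normal closure of O_p(L) ∩ Y_M in L lies in O_p(H). -/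
theorem result {G : Type*} [Group G] [Finite G] {p : ℕ} [Fact p.Prime] (S : Sylow p G) (Q : Subgroup G) (hQp : IsPGroup p ↥Q) (hQ1 : Q ≠ ⊥) (hQS : Q ≤ (S : Subgroup G)) (hQ : Cfsg.IsLarge Q) (M : Subgroup G) (hSM : (S : Subgroup G) ≤ M) (hM : Cfsg.IsInFrakM p M) (htall : Cfsg.IsCharPTall p (Cfsg.largestPReducedOf p M)) (hasym : ¬ Cfsg.IsSymmetricIn (Cfsg.largestPReducedOf p M)) (H : Subgroup G) (hH : Cfsg.IsInFrakH p M H) (L : Subgroup G) (hLH : L ≤ H) (hYL : (Cfsg.largestPReducedOf p M) ≤ L) (hYO : ¬ (Cfsg.largestPReducedOf p M) ≤ (Cfsg.pCoreOf p L)) (hmin : ∀ L' : Subgroup G, L' ≤ L → (Cfsg.largestPReducedOf p M) ≤ L' → ¬ (Cfsg.largestPReducedOf p M) ≤ (Cfsg.pCoreOf p L') → L' = L) : (L ⊔ (Cfsg.pCoreOf p M) = H ∧ ∀ h ∈ L, h ∉ Subgroup.normalizer (((Cfsg.largestPReducedOf p M) : Subgroup G) : Set G) → (((Cfsg.largestPReducedOf p M) : Subgroup G).map (MulAut.conj (h : G)).toMonoidHom) ⊔ (Cfsg.pCoreOf p M) = H) ∧ (Cfsg.IsMinimalOver (((Cfsg.largestPReducedOf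 p M)).subgroupOf L) ∧ Subgroup.centralizer (Cfsg.pCore p ↥L : Set ↥L) ≤ Cfsg.pCore p ↥L ∧ L ⊓ Subgroup.normalizer (((Cfsg.largestPReducedOf p M) : Subgroup G) : Set G) < L ∧ ∀ X : Subgroup G, (Cfsg.largestPReducedOf p M) ≤ X → X < L → X ≤ L ⊓ Subgroup.normalizer (((Cfsg.largestPReducedOf p M) : Subgroup G) : Set G)) ∧ (∀ V W' : Subgroup G, V ≤ (Cfsg.pCoreOf p H) → H ≤ Subgroup.normalizer ((V : Subgroup G) : Set G) → H ≤ Subgroup.normalizer ((W' : Subgroup G) : Set G) → W' < V → (∀ Z' : Subgroup G, H ≤ Subgroup.normalizer ((Z' : Subgroup G) : Set G) → W' ≤ Z' → Z' ≤ V → Z' = W' ∨ Z' = V) → ¬ ⁅V, H⁆ ≤ W' → ¬ ⁅V, ((Cfsg.pResidual p ↥L).map (L).subtype)⁆ ≤ W') ∧ (Subgroup.normalClosure (((((Cfsg.pCoreOf p L) ⊓ (Cfsg.largestPReducedOf p M)).subgroupOf L : Subgroup ↥L)) : Set ↥L)).map L.subtype ≤ (Cfsg.pCoreOf p H) := by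
  have hpar := Lib.CharP.large_parabolicChar hQp hQ1 hQ
  obtain ⟨hXN, hgen, ⟨D⟩⟩ := Lib.CharP.asym_lLemma hpar hSM hM hasym hH hLH hYL hYO hmin
  set Y := Cfsg.largestPReducedOf p M with hY
  set O := Cfsg.pCoreOf p M with hO
  set U := Cfsg.pCoreOf p H with hU
  have hYp : IsPGroup p ↥Y := Lib.CharP.elemAb_isPGroup (Lib.CharP.largestPReducedOf_isPRed M).elemAb
  have hLO : L ⊔ O = H := by
    by_contra hne
    exact hYO ((le_inf (hH.2.2.2 _ le_sup_right (lt_of_le_of_ne (sup_le hLH hH.2.1) hne)) hYL).trans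
      (Lib.CharP.pCoreOf_inf_le le_sup_left))
  have hNY : L ⊓ Subgroup.normalizer (Y : Set G) < L := by
    refine lt_of_le_of_ne inf_le_left fun h => hYO ?_
    exact Lib.CharP.le_pCoreOf hYp hYL (h.ge.trans inf_le_right)
  have hminL := Lib.CharP.isMinimalOver_of_minimal hYL hYp hYO hmin
  have hUL : U ≤ Subgroup.normalizer (L : Set G) := by
    rw [← D.hgen]
    exact Lib.Coprime.le_normalizer_sup D.hUY D.U_le_normalizer_Yl
  refine ⟨⟨hLO, fun h hh hhY => (hgen h hh hhY).2⟩,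
    ⟨hminL, Lib.CharP.charP_of_normalized hH.1 hLH hUL, hNY, fun X hYX hX => le_inf hX.le (hXN X hYX hX)⟩,
    ?_, ?_⟩
  · intro V W' hVU hHV hHW hlt hchief hnc hcon
    set R := (Cfsg.pResidual p ↥L).map L.subtype with hR
    have hRY : R ⊔ Y = L := by
      by_contra hne
      obtain ⟨M₀, hM₀, -⟩ := hminL.2
      obtain ⟨T, hT⟩ := ((hYp.comap_subtype (K := L)).comap_subtype (K := M₀)).exists_le_sylow
      have hYT : Y.subgroupOf L ≤ (T : Subgroup ↥M₀).map M₀.subtype := fun y hy =>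
        ⟨⟨y, hM₀.2 hy⟩, hT hy, rfl⟩
      obtain ⟨-, P, hP⟩ := Lib.CharP.sylow_of_minimalOver T hM₀.1 hYT hminL
      have h1 : R ≤ Subgroup.normalizer (Y : Set G) := le_sup_left.trans
        (hXN _ le_sup_right (lt_of_le_of_ne (sup_le (Subgroup.map_subtype_le _) hYL) hne))
      have h2 : (P : Subgroup ↥L).map L.subtype ≤ Subgroup.normalizer (Y : Set G) := by
        refine hXN _ ?_ (lt_of_le_of_ne (Subgroup.map_subtype_le _) fun h => hYO ?_)
        · intro y hy
          exact ⟨⟨y, hYL hy⟩, hP.ge (hYT (show (⟨y, hYL hy⟩ : L) ∈ Y.subgroupOf L from hy)), rfl⟩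
        · exact hYL.trans (Lib.CharP.le_pCoreOf (h ▸ P.isPGroup'.map L.subtype) le_rfl Subgroup.le_normalizer)
      refine hYO (Lib.CharP.le_pCoreOf hYp hYL ?_)
      calc L = ((P : Subgroup ↥L) ⊔ Cfsg.pResidual p ↥L).map L.subtype := by
            rw [Lib.CharP.sylow_sup_pResidual, ← MonoidHom.range_eq_map, Subgroup.range_subtype]
        _ ≤ _ := by rw [Subgroup.map_sup]; exact sup_le h2 h1
    have hVp : IsPGroup p ↥V := (Lib.CharP.isPGroup_pCoreOf p H).to_le hVU
    obtain ⟨v, hv, hvW, hvO⟩ := Lib.CharP.exists_fixed_mod (Lib.CharP.isPGroup_pCoreOf p M) hVp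
      (hH.2.1.trans hHV) hlt.not_ge
    have hle : H ≤ Lib.CharP.commInto {v} W' H hHW := by
      conv_lhs => rw [← hLO, ← hRY]
      refine sup_le (sup_le (fun r hr => ⟨?_, ?_⟩) (fun y hy => ⟨?_, ?_⟩)) (fun o ho => ⟨hH.2.1 ho, ?_⟩)
      · exact hLH (Subgroup.map_subtype_le _ hr)
      · intro u hu
        rw [Set.mem_singleton_iff.1 hu]
        exact hcon (Subgroup.commutator_mem_commutator hv hr)
      · exact hLH (hYL hy)
      · intro u hu
        rw [Set.mem_singleton_iff.1 hu]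
        exact hvO y (D.hYO hy)
      · intro u hu
        rw [Set.mem_singleton_iff.1 hu]
        exact hvO o ho
    let Z' : Subgroup G :=
      { carrier := {a | a ∈ V ∧ ∀ h ∈ H, ⁅a, h⁆ ∈ W'}
        one_mem' := ⟨one_mem _, fun h _ => by rw [commutatorElement_one_left]; exact one_mem _⟩
        mul_mem' := fun {a b} ha hb => ⟨mul_mem ha.1 hb.1, fun h hh => by
          rw [show ⁅a * b, h⁆ = a * ⁅b, h⁆ * a⁻¹ * ⁅a, h⁆ by simp only [commutatorElement_def]; group]
          exact mul_mem ((Subgroup.mem_normalizer_iff.1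
            (hHW (Lib.CharP.pCoreOf_le p H (hVU ha.1))) _).1 (hb.2 h hh)) (ha.2 h hh)⟩
        inv_mem' := fun {a} ha => ⟨inv_mem ha.1, fun h hh => by
          rw [show ⁅a⁻¹, h⁆ = a⁻¹ * ⁅a, h⁆⁻¹ * a⁻¹⁻¹ by simp only [commutatorElement_def]; group]
          exact (Subgroup.mem_normalizer_iff.1
            (hHW (Lib.CharP.pCoreOf_le p H (hVU (inv_mem ha.1)))) _).1 (inv_mem (ha.2 h hh))⟩ }
    have hZn : H ≤ Subgroup.normalizer (Z' : Set G) := by
      have key : ∀ g ∈ H, ∀ a ∈ Z', g * a * g⁻¹ ∈ Z' := fun g hg a ha =>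
        ⟨(Subgroup.mem_normalizer_iff.1 (hHV hg) a).1 ha.1, fun h hh => by
          rw [show ⁅g * a * g⁻¹, h⁆ = g * ⁅a, g⁻¹ * h * g⁆ * g⁻¹ by simp only [commutatorElement_def]; group]
          exact (Subgroup.mem_normalizer_iff.1 (hHW hg) _).1
            (ha.2 _ (mul_mem (mul_mem (inv_mem hg) hh) hg))⟩
      intro g hg
      refine Subgroup.mem_normalizer_iff.2 fun a => ⟨key g hg a, fun h => ?_⟩
      have := key g⁻¹ (inv_mem hg) _ h
      simpa [mul_assoc] using this
    have hWZ : W' ≤ Z' := fun a ha => ⟨hlt.le ha, fun h hh => by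
      rw [commutatorElement_def, mul_assoc, mul_assoc, ← mul_assoc h]
      exact mul_mem ha ((Subgroup.mem_normalizer_iff.1 (hHW hh) _).1 (inv_mem ha))⟩
    rcases hchief Z' hZn hWZ (fun a ha => ha.1) with h | h
    · exact hvW (h.le ⟨hv, fun g hg => (hle hg).2 v rfl⟩)
    · exact hnc (Subgroup.commutator_le.2 fun a ha g hg => (h.ge ha).2 g hg)
  · set Z := D.Y0 ⊓ Subgroup.centralizer (L : Set G) with hZ
    have hHZ : H ≤ Subgroup.normalizer (Z : Set G) := by
      refine le_trans ?_ (Subgroup.centralizer_le_normalizer _)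
      rw [← hLO]
      exact sup_le (fun x hx => Subgroup.mem_centralizer_iff.2 fun z hz =>
          (Subgroup.mem_centralizer_iff.1 hz.2 x hx).symm)
        (fun o ho => Subgroup.mem_centralizer_iff.2 fun z hz => Subgroup.mem_centralizer_iff.1 (D.hOY ho) z hz.1.1)
    have hHU' := D.H_le_normalizer_U'
    set U' := D.U0 ⊔ Lib.CharP.cj D.Y0 D.l with hU'
    have hU'U : U' ≤ U := sup_le inf_le_left (D.cjY0.le.trans inf_le_right)
    set N := Lib.CharP.commInto (U : Set G) U' H hHU' ⊓ Lib.CharP.commInto (U' : Set G) Z H hHZ with hN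
    have hNp : IsPGroup p ↥N := by
      refine Lib.CharP.isPGroup_of_coprime_eq_one fun z hz hzo => ?_
      have hc : ∀ a ∈ Z, Commute z a := fun a ha => by
        have hle : H ≤ Subgroup.centralizer ({a} : Set G) := by
          rw [← hLO]
          exact sup_le (fun x hx => Subgroup.mem_centralizer_singleton_iff.2
              (Subgroup.mem_centralizer_iff.1 ha.2 x hx))
            (fun o ho => Subgroup.mem_centralizer_singleton_iff.2
              (Subgroup.mem_centralizer_iff.1 (D.hOY ho) a ha.1.1).symm)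
        exact Subgroup.mem_centralizer_singleton_iff.1 (hle hz.1.1)
      have hUp := Lib.CharP.isPGroup_pCoreOf p H
      have h1 : ∀ u ∈ U', Commute z u := fun u hu =>
        Lib.CharP.commute_of_comm_mem (hUp.to_le (inf_le_left.trans inf_le_right)) hzo hc (hz.2.2 _ (inv_mem hu))
      exact Lib.CharP.eq_one_of_charP hH.1 hz.1.1 hzo fun u hu =>
        Lib.CharP.commute_of_comm_mem (hUp.to_le hU'U) hzo h1 (hz.1.2 _ (inv_mem hu))
    have hNn : H ≤ Subgroup.normalizer (N : Set G) :=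
      Lib.CharP.le_normalizer_inf
        (Lib.CharP.le_normalizer_commInto (Lib.CharP.le_normalizer_pCoreOf p H) hHU' Subgroup.le_normalizer)
        (Lib.CharP.le_normalizer_commInto hHU' hHZ Subgroup.le_normalizer)
    have hNU : N ≤ U := Lib.CharP.le_pCoreOf hNp (fun x hx => hx.1.1) hNn
    have hmem : Cfsg.pCoreOf p L ⊓ Y ≤ U := by
      intro y hy
      refine hNU ⟨⟨hLH (hYL hy.2), fun u hu => ?_⟩, hLH (hYL hy.2), fun u hu => ?_⟩
      · have h := D.comm_mem_Y0 hu hy.2
        exact Subgroup.mem_sup_left ⟨h.2, Subgroup.mem_centralizer_iff.2 fun a ha => D.hab a ha _ h.1⟩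
      · have hyl : y ∈ Subgroup.normalizer ((Lib.CharP.cj Y D.l : Subgroup G) : Set G) := by
          have hOL : Cfsg.pCoreOf p L ≤ Subgroup.normalizer (Y : Set G) := by
            by_cases h : Cfsg.pCoreOf p L ⊔ Y = L
            · exact absurd (hYL.trans (Lib.CharP.le_pCoreOf (h ▸ ((Lib.CharP.isPGroup_pCoreOf p L).to_sup_of_normal_left'
                hYp (hYL.trans (Lib.CharP.le_normalizer_pCoreOf p L)))) le_rfl Subgroup.le_normalizer)) hYO
            · exact le_sup_left.trans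
                (hXN _ le_sup_right (lt_of_le_of_ne (sup_le (Lib.CharP.pCoreOf_le p L) hYL) h))
          rw [Lib.CharP.normalizer_cj]
          exact Lib.CharP.cj_mono hOL D.l
            ((Lib.CharP.mem_normalizer_iff_cj.1 (Lib.CharP.le_normalizer_pCoreOf p L D.hl)).ge hy.1)
        have hu1 := hu
        rw [hU', Subgroup.coe_mul_of_right_le_normalizer_left _ _ ((D.cjY0.le.trans inf_le_right).trans
          (Lib.CharP.le_normalizer_inf Subgroup.le_normalizer (Lib.CharP.le_normalizer_centralizer D.hUY)))] at hu1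
        obtain ⟨a, ha, b, hb, rfl⟩ := hu1
        have hca : ∀ x ∈ Y, a * x = x * a := fun x hx => (Subgroup.mem_centralizer_iff.1 ha.2 x hx).symm
        have hbY : ⁅b, y⁆ ∈ D.Y0 := D.comm_mem_Y0 (D.cjY0.le hb).2 hy.2
        have hbl : ⁅b, y⁆ ∈ Lib.CharP.cj Y D.l := by
          have hb1 := (D.cjY0.le hb).1
          rw [commutatorElement_def, mul_assoc, mul_assoc, ← mul_assoc y]
          exact mul_mem hb1 ((Subgroup.mem_normalizer_iff.1 hyl _).1 (inv_mem hb1))
        show ⁅a * b, y⁆ ∈ Z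
        rw [show ⁅a * b, y⁆ = a * ⁅b, y⁆ * a⁻¹ * ⁅a, y⁆ by simp only [commutatorElement_def]; group,
          commutatorElement_eq_one_iff_mul_comm.2 (hca y hy.2), mul_one, hca _ hbY.1, mul_inv_cancel_right]
        exact ⟨hbY, (D.mem_Y_of_comm hbl fun x hx => D.hab x hx _ hbY.1).2⟩
    rw [Subgroup.map_le_iff_le_comap]
    haveI : (U.subgroupOf L).Normal := Subgroup.normal_subgroupOf_of_le_normalizer
      (hLH.trans (Lib.CharP.le_normalizer_pCoreOf p H))
    exact Subgroup.normalClosure_le_normal (N := U.subgroupOf L) fun x hx => hmem hx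

end Cfsg.Agent.S2862
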