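import Cfsg.Statements.S2863
import Cfsg.Agent.Lib.CharP.FrakLFixed

set_option autoImplicit false
set_option linter.style.haveILetI false
open Cfsg
open scoped Pointwise commutatorElement

namespace Cfsg.Agent.S2863

open Lib.CharP in
theorem radicalData_comp {p : ℕ} {X Xb Xc : Type*} [Group X] [Group Xb] [Group Xc] {Y : Subgroup X} {f : X →* Xb}
    (D : RadicalData p Y f) (e : Xb ≃* Xc) : RadicalData p Y (e.toMonoidHom.comp f) := by
  have h : ∀ a, (e.toMonoidHom.comp f) a = 1 ↔ f a = 1 := fun a => e.map_eq_one_iff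
  exact ⟨e.surjective.comp D.surj, fun a b ha hb => D.comm a b ((h a).1 ha) ((h b).1 hb),
    fun a ha => D.expA a ((h a).1 ha), D.Ycomm, D.Yexp, fun a ha => D.norm a ((h a).1 ha), D.cap,
    fun g hg a ha => by
      obtain ⟨b, hb, hbA, b', hb', hb'A, he⟩ := D.split g hg a ((h a).1 ha)
      exact ⟨b, hb, (h b).2 hbA, b', hb', (h b').2 hb'A, he⟩,
    D.maxl, D.ex⟩

open Lib.CharP in
theorem radicalData_of_minimalOver {L : Type*} [Group L] [Finite L] {p : ℕ} [Fact p.Prime] {Y : Subgroup L}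
    (hY : Cfsg.IsElementaryAbelian p Y) (hmin : Cfsg.IsMinimalOver Y)
    (hN : IsCoatom (Subgroup.normalizer (Y : Set L)))
    (hAY : Cfsg.pCore p L ≤ Subgroup.normalizer (Y : Set L))
    (hA : Cfsg.pCore p L = Subgroup.normalClosure ((Y ⊓ Cfsg.pCore p L : Subgroup L) : Set L))
    [(Y ⊓ Subgroup.center L).Normal] (hle : Y ⊓ Subgroup.center L ≤ Cfsg.pCore p L) :
    RadicalData p (Y.map (QuotientGroup.mk' (Y ⊓ Subgroup.center L)))
      (QuotientGroup.lift (Y ⊓ Subgroup.center L) (QuotientGroup.mk' (Cfsg.pCore p L))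
        (by rw [QuotientGroup.ker_mk']; exact hle)) := by
  set C := Y ⊓ Subgroup.center L with hC
  set π := QuotientGroup.mk' C with hπ
  set f := QuotientGroup.lift C (QuotientGroup.mk' (Cfsg.pCore p L))
    (by rw [QuotientGroup.ker_mk']; exact hle) with hf
  have hπs : Function.Surjective π := QuotientGroup.mk'_surjective C
  have hfπ : ∀ a : L, f (π a) = 1 ↔ a ∈ Cfsg.pCore p L := fun a => QuotientGroup.eq_one_iff a
  have hYN : Y ≤ Subgroup.normalizer (Y : Set L) := Subgroup.le_normalizer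
  have hab := (elemAb_iff.1 hY)
  have hcomap : (Y.map π).comap π = Y :=
    Subgroup.comap_map_eq_self (by rw [hπ, QuotientGroup.ker_mk']; exact inf_le_left)
  have hYcomm : IsMulCommutative Y := ⟨⟨fun u v => Subtype.ext (hab.1 u u.2 v v.2)⟩⟩
  have hnor : ∀ g : L, π g ∈ Subgroup.normalizer ((Y.map π : Subgroup _) : Set _) ↔
      g ∈ Subgroup.normalizer (Y : Set L) := by
    intro g
    rw [← Subgroup.mem_comap, Subgroup.comap_normalizer_eq_of_surjective _ hπs, hcomap]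
  have hmemY : ∀ {g : L}, π g ∈ Y.map π → g ∈ Y := fun {g} h => hcomap.le h
  have hcap : ∀ g, g ∉ Subgroup.normalizer ((Y.map π : Subgroup _) : Set _) → ∀ z ∈ Y.map π,
      g⁻¹ * z * g ∈ Y.map π → z = 1 := by
    intro g hg z hz hgz
    obtain ⟨g₀, rfl⟩ := hπs g
    obtain ⟨y, hy, rfl⟩ := hz
    rw [← map_inv, ← map_mul, ← map_mul] at hgz
    refine (QuotientGroup.eq_one_iff y).2 ?_
    refine (Lib.CharP.inf_conj_eq_inf_center hN hYN hmin hYcomm fun h => hg ((hnor g₀).2 h)).le ⟨hy, ?_⟩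
    exact ⟨_, hmemY hgz, by simp [mul_assoc]⟩
  have hnorm : ∀ a, f a = 1 → ∀ y ∈ Y.map π, a * y * a⁻¹ ∈ Y.map π := by
    intro a ha y hy
    obtain ⟨a₀, rfl⟩ := hπs a
    obtain ⟨y₀, hy₀, rfl⟩ := hy
    exact ⟨a₀ * y₀ * a₀⁻¹, (Subgroup.mem_normalizer_iff.1 (hAY ((hfπ a₀).1 ha)) y₀).1 hy₀, by simp⟩
  have hcommB : ∀ g, g ∉ Subgroup.normalizer ((Y.map π : Subgroup _) : Set _) → ∀ b ∈ Y.map π, f b = 1 →
      ∀ b' ∈ Y.map π, f b' = 1 → b * (g * b' * g⁻¹) = g * b' * g⁻¹ * b := by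
    intro g hg b hb hbA b' hb' hb'A
    have h1 : b * (g * b' * g⁻¹) * b⁻¹ * (g * b' * g⁻¹)⁻¹ = 1 := by
      refine hcap g hg _ ?_ ?_
      · rw [show b * (g * b' * g⁻¹) * b⁻¹ * (g * b' * g⁻¹)⁻¹ =
          b * ((g * b' * g⁻¹) * b⁻¹ * (g * b' * g⁻¹)⁻¹) by group]
        refine mul_mem hb (hnorm _ ?_ _ (inv_mem hb))
        rw [map_mul, map_mul, hb'A, mul_one, map_inv, mul_inv_cancel]
      · rw [show g⁻¹ * (b * (g * b' * g⁻¹) * b⁻¹ * (g * b' * g⁻¹)⁻¹) * g =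
          (g⁻¹ * b * g) * b' * (g⁻¹ * b * g)⁻¹ * b'⁻¹ by group]
        refine mul_mem (hnorm _ ?_ _ hb') (inv_mem hb')
        rw [map_mul, map_mul, hbA, mul_one, map_inv, inv_mul_cancel]
    exact mul_inv_eq_iff_eq_mul.1 (mul_inv_eq_one.1 h1)
  have hsplit : ∀ g, g ∉ Subgroup.normalizer ((Y.map π : Subgroup _) : Set _) → ∀ a, f a = 1 →
      ∃ b ∈ Y.map π, f b = 1 ∧ ∃ b' ∈ Y.map π, f b' = 1 ∧ a = b * (g * b' * g⁻¹) := by
    intro g hg a ha
    obtain ⟨g₀, rfl⟩ := hπs g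
    obtain ⟨a₀, rfl⟩ := hπs a
    have hg₀ : g₀ ∉ Subgroup.normalizer (Y : Set L) := fun h => hg ((hnor g₀).2 h)
    set A := Cfsg.pCore p L with hAdef
    set B := Y ⊓ A with hB
    set c := (MulAut.conj g₀).toMonoidHom with hc
    set K := B ⊔ B.map c with hK
    have hBA : ∀ g : L, ∀ b ∈ B, g * b * g⁻¹ ∈ A := fun g b hb =>
      Subgroup.Normal.conj_mem inferInstance b hb.2 g
    have hcomm : ∀ a ∈ A, ∀ y ∈ Y, y * a * y⁻¹ * a⁻¹ ∈ B := fun a ha y hy => Subgroup.mem_inf.2 ⟨by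
      rw [show y * a * y⁻¹ * a⁻¹ = y * (a * y⁻¹ * a⁻¹) by group]
      exact mul_mem hy ((Subgroup.mem_normalizer_iff.1 (hAY ha) _).1 (inv_mem hy)),
      mul_mem (Subgroup.Normal.conj_mem inferInstance a ha y) (inv_mem ha)⟩
    have hKn : K.Normal := by
      rw [← Subgroup.normalizer_eq_top_iff, eq_top_iff, ← Lib.CharP.sup_conj_eq_top hN hYN hmin hg₀]
      have hKA : K ≤ A := sup_le inf_le_right (by rintro _ ⟨b, hb, rfl⟩; exact hBA g₀ b hb)
      have hY1 : ∀ y ∈ Y, ∀ k ∈ K, y * k * y⁻¹ ∈ K := fun y hy k hk => by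
        rw [show y * k * y⁻¹ = (y * k * y⁻¹ * k⁻¹) * k by group]
        exact mul_mem (Subgroup.mem_sup_left (hcomm k (hKA hk) y hy)) hk
      have hY2 : ∀ y ∈ Y.map c, ∀ k ∈ K, y * k * y⁻¹ ∈ K := by
        rintro _ ⟨y, hy, rfl⟩ k hk
        rw [show c y * k * (c y)⁻¹ = (g₀ * (y * (g₀⁻¹ * k * g₀) * y⁻¹ * (g₀⁻¹ * k * g₀)⁻¹) * g₀⁻¹) * k by
          simp [hc, mul_assoc]]
        refine mul_mem (Subgroup.mem_sup_right ⟨_, hcomm _ ?_ y hy, rfl⟩) hk
        simpa using Subgroup.Normal.conj_mem (H := A) inferInstance k (hKA hk) g₀⁻¹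
      refine sup_le (fun y hy => ?_) (fun y hy => ?_)
      · exact Subgroup.mem_normalizer_iff.2 fun k => ⟨hY1 y hy k, fun h => by
          have := hY1 y⁻¹ (inv_mem hy) _ h; simpa [mul_assoc] using this⟩
      · exact Subgroup.mem_normalizer_iff.2 fun k => ⟨hY2 y hy k, fun h => by
          have := hY2 y⁻¹ (inv_mem hy) _ h; simpa [mul_assoc] using this⟩
    have hAK : A ≤ K := by
      rw [hA]
      exact Subgroup.normalClosure_le_normal fun b hb => Subgroup.mem_sup_left hb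
    have h1 : π a₀ ∈ B.map π ⊔ (B.map c).map π := by
      rw [← Subgroup.map_sup]; exact ⟨a₀, hAK ((hfπ a₀).1 ha), rfl⟩
    have hn : (B.map c).map π ≤ Subgroup.normalizer ((B.map π : Subgroup _) : Set _) := by
      refine le_trans ?_ (Subgroup.centralizer_le_normalizer _)
      rintro _ ⟨_, ⟨b', hb', rfl⟩, rfl⟩
      rw [Subgroup.mem_centralizer_iff]
      rintro _ ⟨b, hb, rfl⟩
      have := hcommB _ hg (π b) ⟨b, hb.1, rfl⟩ ((hfπ b).2 hb.2) (π b') ⟨b', hb'.1, rfl⟩ ((hfπ b').2 hb'.2)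
      simpa [hc] using this
    rw [← SetLike.mem_coe, Subgroup.coe_mul_of_right_le_normalizer_left _ _ hn] at h1
    obtain ⟨_, ⟨b, hb, rfl⟩, _, ⟨_, ⟨b', hb', rfl⟩, rfl⟩, he⟩ := h1
    exact ⟨π b, ⟨b, hb.1, rfl⟩, (hfπ b).2 hb.2, π b', ⟨b', hb'.1, rfl⟩, (hfπ b').2 hb'.2, by
      rw [← he]; simp [hc]⟩
  have hex : ∃ g : L ⧸ C, g ∉ Subgroup.normalizer ((Y.map π : Subgroup (L ⧸ C)) : Set (L ⧸ C)) := by
    by_contra hall
    push Not at hall
    exact hN.1 (eq_top_iff.2 fun g _ => (hnor g).1 (hall (π g)))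
  have hY' : Cfsg.IsElementaryAbelian p (Y.map π) := elemAb_map π hY
  have hab' := elemAb_iff.1 hY'
  obtain ⟨g, hg⟩ := hex
  refine ⟨?_, ?_, ?_, hab'.1, hab'.2, hnorm, hcap, hsplit, fun K hYK hK => ?_, ⟨g, hg⟩⟩
  · intro q
    obtain ⟨x, rfl⟩ := QuotientGroup.mk'_surjective (Cfsg.pCore p L) q
    exact ⟨π x, rfl⟩
  · intro u v hu hv
    obtain ⟨b₁, hb₁, hb₁A, c₁, hc₁, hc₁A, rfl⟩ := hsplit g hg u hu
    obtain ⟨b₂, hb₂, hb₂A, c₂, hc₂, hc₂A, rfl⟩ := hsplit g hg v hv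
    have e1 := hcommB g hg b₂ hb₂ hb₂A c₁ hc₁ hc₁A
    have e2 := hcommB g hg b₁ hb₁ hb₁A c₂ hc₂ hc₂A
    calc b₁ * (g * c₁ * g⁻¹) * (b₂ * (g * c₂ * g⁻¹))
        = b₁ * ((g * c₁ * g⁻¹) * b₂) * (g * c₂ * g⁻¹) := by group
      _ = b₁ * b₂ * (g * (c₁ * c₂) * g⁻¹) := by rw [← e1]; group
      _ = b₂ * b₁ * (g * (c₂ * c₁) * g⁻¹) := by rw [hab'.1 b₁ hb₁ b₂ hb₂, hab'.1 c₁ hc₁ c₂ hc₂]
      _ = b₂ * (b₁ * (g * c₂ * g⁻¹)) * (g * c₁ * g⁻¹) := by group
      _ = b₂ * (g * c₂ * g⁻¹) * (b₁ * (g * c₁ * g⁻¹)) := by rw [e2]; group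
  · intro u hu
    obtain ⟨b, hb, hbA, b', hb', hb'A, rfl⟩ := hsplit g hg u hu
    rw [Commute.mul_pow (hcommB g hg b hb hbA b' hb' hb'A), conj_pow, hab'.2 b hb, hab'.2 b' hb', mul_one,
      mul_inv_cancel, one_mul]
  · intro x hx
    obtain ⟨x₀, rfl⟩ := hπs x
    refine (hnor x₀).2 (IsMinimalOver.le_of_lt hmin ⟨hN, hYN⟩ ?_ ?_ (show x₀ ∈ K.comap π from hx))
    · exact fun y hy => hYK ⟨y, hy, rfl⟩
    · exact fun h => hK (Subgroup.comap_injective hπs (h.trans (Subgroup.comap_top π).symm))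

/-- Standing hypotheses: G a finite group, S a Sylow p-subgroup, Q a nontrivial large p-subgroup of G contained in S, M a subgroup containing S with the basic property (M ∈ 𝔐_G(S)); Y_M the largest p-reduced normal subgroup of M and M† = M·C_G(Y_M). Let L ∈ 𝔏_G(Y_M) (L ∈ 𝔏_G(Y_M): Y_M ≤ L; O_p(L) is the normal closure in L of Y_M ∩ O_p(L) and normalizes Y_M; L is Y_M-minimal of characteristic p with N_L(Y_M) its unique maximal subgroup over Y_M; and L/O_p(L) ≅ SL₂(q) with q = |Y_M : Y_M ∩ O_p(L)|, or p = 2 and L/O_p(L) is a Suzuki group Sz(q) or dihedral of order 2r, r an odd prime), A = O_p(L), and C = C_{Y_M}(L). Then every element h of L whose order is not a power of p acts without nontrivial fixed points on A/C: for a ∈ A, hah⁻¹a⁻¹ ∈ C implies a ∈ C. -/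
theorem result {G : Type*} [Group G] [Finite G] {p : ℕ} [Fact p.Prime] (S : Sylow p G) (Q : Subgroup G) (hQp : IsPGroup p ↥Q) (hQ1 : Q ≠ ⊥) (hQS : Q ≤ (S : Subgroup G)) (hQ : Cfsg.IsLarge Q) (M : Subgroup G) (hSM : (S : Subgroup G) ≤ M) (hM : Cfsg.IsInFrakM p M) (L : Subgroup G) (hL : Cfsg.IsInFrakL p M L) (h : G) (hh : h ∈ L) (hnp : ¬ ∃ k : ℕ, orderOf h = p ^ k) : ∀ a ∈ (Cfsg.pCoreOf p L), h * a * h⁻¹ * a⁻¹ ∈ (Cfsg.largestPReducedOf p M) ⊓ Subgroup.centralizer ((L : Subgroup G) : Set G) → a ∈ (Cfsg.largestPReducedOf p M) ⊓ Subgroup.centralizer ((L : Subgroup G) : Set G) := by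
  intro a ha hcm
  obtain ⟨hYL, hAeq, hAY, hminL, -, ⟨hNlt, hNmax⟩, hcase⟩ := hL
  set Y := Cfsg.largestPReducedOf p M with hY
  have hYel : Cfsg.IsElementaryAbelian p Y := (Lib.CharP.largestPReducedOf_isPRed M).elemAb
  set Y' := Y.subgroupOf L with hY'
  have hY'el : Cfsg.IsElementaryAbelian p Y' := (Lib.CharP.elemAb_subgroupOf_iff hYL).2 hYel
  have hY'p : IsPGroup p Y' := Lib.CharP.elemAb_isPGroup hY'el
  haveI hCn : (Y' ⊓ Subgroup.center ↥L).Normal := ⟨fun z hz g => by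
    rw [Subgroup.mem_center_iff.1 hz.2 g, mul_inv_cancel_right]; exact hz⟩
  have hmemC : ∀ x : L, x ∈ Y' ⊓ Subgroup.center ↥L ↔ (x : G) ∈ Y ⊓ Subgroup.centralizer (L : Set G) := by
    intro x
    rw [Subgroup.mem_inf, Subgroup.mem_inf, Subgroup.mem_center_iff, Subgroup.mem_centralizer_iff]
    exact and_congr Iff.rfl ⟨fun hx g hg => congrArg Subtype.val (hx ⟨g, hg⟩),
      fun hx g => Subtype.ext (hx g g.2)⟩
  have hCA : Y' ⊓ Subgroup.center ↥L ≤ Cfsg.pCore p ↥L := Lib.Cores.le_pCore (hY'p.to_le inf_le_left)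
  have hAmap : Cfsg.pCoreOf p L = (Cfsg.pCore p ↥L).map L.subtype := rfl
  have hA : Cfsg.pCore p ↥L =
      Subgroup.normalClosure ((Y' ⊓ Cfsg.pCore p ↥L : Subgroup ↥L) : Set ↥L) := by
    have h1 : (Y ⊓ Cfsg.pCoreOf p L).subgroupOf L = Y' ⊓ Cfsg.pCore p ↥L := by
      rw [Subgroup.subgroupOf, Subgroup.comap_inf, hAmap,
        Subgroup.comap_map_eq_self_of_injective L.subtype_injective]
      rfl
    rw [h1, hAmap] at hAeq
    exact Subgroup.map_injective L.subtype_injective hAeq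
  have hAY' : Cfsg.pCore p ↥L ≤ Subgroup.normalizer (Y' : Set ↥L) := by
    rw [hY', ← Subgroup.subgroupOf_normalizer_eq hYL]
    exact fun x hx => hAY ⟨x, hx, rfl⟩
  have hNco : IsCoatom (Subgroup.normalizer (Y' : Set ↥L)) := by
    rw [hY', ← Subgroup.subgroupOf_normalizer_eq hYL]
    refine ⟨fun e => hNlt.ne (le_antisymm inf_le_left (le_inf le_rfl (Subgroup.subgroupOf_eq_top.1 e))),
      fun K hK => ?_⟩
    by_contra hne
    refine hK.not_ge fun x hx => ?_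
    refine (hNmax (K.map L.subtype) ?_ (lt_of_le_of_ne (Subgroup.map_subtype_le K) fun e => hne ?_)
      ⟨x, hx, rfl⟩).2
    · exact fun y hy => ⟨⟨y, hYL hy⟩, hK.le (Subgroup.le_normalizer hy), rfl⟩
    · exact eq_top_iff.2 fun y _ => (Subgroup.mem_map_iff_mem L.subtype_injective).1 (e.ge y.2)
  have D := radicalData_of_minimalOver hY'el hminL hNco hAY' hA hCA
  set C := Y' ⊓ Subgroup.center ↥L with hC
  set π := QuotientGroup.mk' C with hπ
  set f := QuotientGroup.lift C (QuotientGroup.mk' (Cfsg.pCore p ↥L))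
    (by rw [QuotientGroup.ker_mk']; exact hCA) with hf
  -- the element of prime order
  obtain ⟨⟨a₀, ha₀, rfl⟩⟩ : Nonempty _ := ⟨(ha : a ∈ (Cfsg.pCore p ↥L).map L.subtype)⟩
  rw [Subgroup.coe_subtype] at hcm ⊢
  set h₀ : L := ⟨h, hh⟩ with hh₀
  set n := orderOf (QuotientGroup.mk' (Cfsg.pCore p ↥L) h₀) with hn
  obtain ⟨r, hr, hrn, hrp⟩ : ∃ r, r.Prime ∧ r ∣ n ∧ r ≠ p := by
    by_contra hall
    push Not at hall
    refine hnp ?_
    have hn' := Nat.eq_prime_pow_of_unique_prime_dvd (p := p) (orderOf_pos _).ne' fun {d} hd hdn => hall d hd hdn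
    obtain ⟨k, hk⟩ := isPGroup_iff_pow_pow_eq_one.1 (Lib.Cores.pCore_isPGroup p : IsPGroup p (Cfsg.pCore p ↥L))
      ⟨h₀ ^ n, (QuotientGroup.eq_one_iff _).1 (show QuotientGroup.mk' (Cfsg.pCore p ↥L) (h₀ ^ n) = 1 by
        rw [map_pow, hn, pow_orderOf_eq_one])⟩
    have h2 : h ^ (n * p ^ k) = 1 := by
      have := congrArg (fun z : (Cfsg.pCore p ↥L) => ((z : ↥L) : G)) hk
      simpa [pow_mul, hh₀] using this
    have hd := orderOf_dvd_of_pow_eq_one h2
    rw [show n = _ from hn', ← pow_add] at hd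
    obtain ⟨i, -, hi⟩ := (Nat.dvd_prime_pow Fact.out).1 hd
    exact ⟨i, hi⟩
  set x := h₀ ^ (n / r) with hx
  have hox : orderOf (f (π x)) = r := by
    show orderOf (QuotientGroup.mk' (Cfsg.pCore p ↥L) x) = r
    rw [hx, map_pow, hn, orderOf_pow_orderOf_div (orderOf_pos _).ne' hrn]
  have hfa : f (π a₀) = 1 := (QuotientGroup.eq_one_iff a₀).2 ha₀
  have hfix : π x * π a₀ * (π x)⁻¹ = π a₀ := by
    have h1 : π h₀ * π a₀ * (π h₀)⁻¹ * (π a₀)⁻¹ = 1 := by
      rw [← map_inv, ← map_mul, ← map_mul, ← map_inv, ← map_mul]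
      exact (QuotientGroup.eq_one_iff _).2 ((hmemC _).2 hcm)
    have h2 : Commute (π h₀) (π a₀) := mul_inv_eq_iff_eq_mul.1 (mul_inv_eq_one.1 h1)
    rw [hx, map_pow]
    exact mul_inv_eq_iff_eq_mul.2 (h2.pow_left _).eq
  suffices hgoal : π a₀ = 1 from (hmemC a₀).1 ((QuotientGroup.eq_one_iff a₀).1 hgoal)
  have key : ∀ {Xc : Type} [Group Xc] [Finite Xc] (e : (↥L ⧸ Cfsg.pCore p ↥L) ≃* Xc)
      (D' : Lib.CharP.RadicalData p (Y'.map π) (e.toMonoidHom.comp f)),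
      (∀ z : (e.toMonoidHom.comp f).ker, D'.act (e (f (π x))) z = z → z = 1) → π a₀ = 1 := by
    intro Xc _ _ e D' hfp
    have hk : π a₀ ∈ (e.toMonoidHom.comp f).ker := by
      show e (f (π a₀)) = 1
      rw [hfa, map_one]
    refine congrArg Subtype.val (hfp ⟨π a₀, hk⟩ (Subtype.ext ?_))
    exact (D'.act_apply (π x) ⟨π a₀, hk⟩).trans hfix
  -- the quotient of `Y`
  set Yx := Y'.map (QuotientGroup.mk' (Cfsg.pCore p ↥L)) with hYx
  have hYxf : (Y'.map π).map f = Yx := by rw [Subgroup.map_map]; rfl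
  have hOX : Cfsg.pCore p (↥L ⧸ Cfsg.pCore p ↥L) = ⊥ := Lib.Cores.pCore_quotient_pCore p
  have hcard : Nat.card Yx = (Y ⊓ Cfsg.pCoreOf p L).relIndex Y := by
    let g : Y →* (↥L ⧸ Cfsg.pCore p ↥L) :=
      (QuotientGroup.mk' (Cfsg.pCore p ↥L)).comp (Subgroup.inclusion hYL)
    have h1 : g.range = Yx := by
      ext z
      constructor
      · rintro ⟨y, rfl⟩; exact ⟨Subgroup.inclusion hYL y, y.2, rfl⟩
      · rintro ⟨y, hy, rfl⟩; exact ⟨⟨y, hy⟩, rfl⟩
    have h2 : g.ker = (Y ⊓ Cfsg.pCoreOf p L).subgroupOf Y := by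
      ext y
      rw [MonoidHom.mem_ker, Subgroup.mem_subgroupOf]
      refine (QuotientGroup.eq_one_iff _).trans ⟨fun h => ⟨y.2, ⟨_, h, rfl⟩⟩, ?_⟩
      rintro ⟨-, z, hz, hzy⟩
      exact (Subtype.ext hzy : z = Subgroup.inclusion hYL y) ▸ hz
    rw [← h1, ← Subgroup.index_ker, h2]
    rfl
  have hYxel : Cfsg.IsElementaryAbelian p Yx := Lib.CharP.elemAb_map _ hY'el
  -- groups with involutions generating
  have two : p = 2 → Nat.card Yx = 2 → π a₀ = 1 := by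
    intro hp2 h2
    subst hp2
    obtain ⟨g, hg⟩ : ∃ g : L, g ∉ Subgroup.normalizer (Y' : Set ↥L) := by
      by_contra hall
      push Not at hall
      exact hNco.1 (eq_top_iff.2 fun z _ => hall z)
    have hgen := congrArg (Subgroup.map (QuotientGroup.mk' (Cfsg.pCore 2 ↥L)))
      (Lib.CharP.sup_conj_eq_top hNco Subgroup.le_normalizer hminL hg)
    rw [Subgroup.map_sup, Subgroup.map_map, Subgroup.map_top_of_surjective _ (QuotientGroup.mk'_surjective _),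
      show (QuotientGroup.mk' (Cfsg.pCore 2 ↥L)).comp (MulAut.conj g).toMonoidHom =
        (MulAut.conj (QuotientGroup.mk' (Cfsg.pCore 2 ↥L) g)).toMonoidHom.comp
          (QuotientGroup.mk' (Cfsg.pCore 2 ↥L)) by ext z; simp,
      ← Subgroup.map_map] at hgen
    obtain ⟨hΩ, hinv⟩ := Lib.CharP.omega_and_invert_of_card_two hOX h2 hgen
    rw [← hYxf] at hΩ
    have hc2 : (orderOf (f (π x))).Coprime 2 := by
      rw [hox]; exact (Nat.coprime_primes hr Nat.prime_two).2 hrp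
    have hne : f (π x) ≠ 1 := fun e => hr.one_lt.ne' (by rw [← hox, e, orderOf_one])
    obtain ⟨t, ht, htx⟩ := hinv _ hne hc2
    have hsq : f (π x) * f (π x) ≠ 1 := fun e => hrp ((Nat.prime_dvd_prime_iff_eq hr Nat.prime_two).1
      (hox ▸ orderOf_dvd_of_pow_eq_one (by rw [sq]; exact e)))
    have hk : π a₀ ∈ f.ker := hfa
    exact congrArg Subtype.val (D.fpf_of_inverted hΩ hsq ht htx ⟨π a₀, hk⟩
      (Subtype.ext ((D.act_apply (π x) ⟨π a₀, hk⟩).trans hfix)))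
  rcases hcase with ⟨F, _, _, hF, ⟨e⟩⟩ | ⟨hp2, F, _, _, m, hFm, hF, ⟨e⟩⟩ | ⟨hp2, r', hr', hr2, ⟨e⟩⟩
  · haveI : CharP F p := by
      obtain ⟨k, hk⟩ := IsPGroup.iff_card.1 (Lib.CharP.elemAb_isPGroup hYxel)
      obtain ⟨j, hj⟩ := FiniteField.card F (ringChar F)
      have hkp : ringChar F = p := by
        haveI := Fact.mk hj.1
        have h2 : ringChar F ∣ p ^ k := by
          rw [← hk, hcard, ← hF, hj.2]
          exact dvd_pow_self _ j.pos.ne'
        exact (Nat.prime_dvd_prime_iff_eq hj.1 Fact.out).1 (hj.1.dvd_of_dvd_pow h2)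
      exact hkp ▸ ringChar.charP F
    obtain ⟨P, hP⟩ := (Lib.CharP.elemAb_isPGroup
      (Lib.CharP.elemAb_map e.toMonoidHom hYxel)).exists_le_sylow
    obtain ⟨g, hg⟩ := Lib.Linear.exists_sylow_eq_conj_SL (F := F) p P
    set e' := e.trans (MulAut.conj g⁻¹) with he'
    have hmap : (Y'.map π).map (e'.toMonoidHom.comp f) = (Lib.Linear.uSL (F := F)).range := by
      refine Subgroup.eq_of_le_of_card_ge ?_ ?_
      · rw [← Subgroup.map_map, hYxf]
        rintro _ ⟨y, hy, rfl⟩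
        obtain ⟨u, hu, hue⟩ := hg.le (hP ⟨y, hy, rfl⟩)
        have h3 : g * u * g⁻¹ = e y := hue
        rw [show e'.toMonoidHom y = g⁻¹ * e y * g by simp [he'], ← h3]
        simpa [mul_assoc] using hu
      · rw [← Subgroup.map_map, hYxf, Subgroup.card_map_of_injective e'.injective, hcard, ← hF,
          Lib.Linear.card_range_uSL, Nat.card_eq_fintype_card]
    refine key e' (radicalData_comp D e') fun z hz => (radicalData_comp D e').fpf_SL2 hmap ?_ z hz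
    intro hp1
    have h1 : orderOf (f (π x)) ∣ p := orderOf_dvd_of_pow_eq_one (e'.injective (by rw [map_pow, hp1, map_one]))
    exact hrp ((Nat.prime_dvd_prime_iff_eq hr Fact.out).1 (hox ▸ h1))
  · subst hp2
    rcases Nat.eq_zero_or_pos m with hm | hm
    · exact two rfl (by rw [hcard, ← hF, hFm, hm]; rfl)
    · have hsz : Lib.LieTwisted.Suzuki.IsSzField F m := ⟨hFm⟩
      set e' := e.trans (Lib.LieTwisted.Suzuki.szEquiv hsz hm).symm with he'
      have hΩ : Lib.CharP.OmegaEq 2 ((Y'.map π).map (e'.toMonoidHom.comp f)) := by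
        rw [← Subgroup.map_map, hYxf]
        refine Lib.CharP.omega_Sz hsz hm (Lib.CharP.elemAb_map _ hYxel) ?_
        rw [Subgroup.card_map_of_injective e'.injective, hcard, ← hF]
      have ho : orderOf (e' (f (π x))) = r := (orderOf_injective e'.toMonoidHom e'.injective _).trans hox
      obtain ⟨t, ht, htx⟩ := Lib.CharP.invert_Sz hsz hm (x := e' (f (π x)))
        (fun h1 => hr.one_lt.ne' (by rw [← ho, h1, orderOf_one]))
        (by rw [ho]; exact (Nat.coprime_primes hr Nat.prime_two).2 hrp)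
      refine key e' (radicalData_comp D e') fun z hz =>
        (radicalData_comp D e').fpf_of_inverted hΩ (fun h1 => hrp ?_) ht htx z hz
      exact (Nat.prime_dvd_prime_iff_eq hr Nat.prime_two).1
        (ho ▸ orderOf_dvd_of_pow_eq_one (by rw [sq]; exact h1))
  · subst hp2
    haveI : NeZero r' := ⟨hr'.ne_zero⟩
    refine two rfl (le_antisymm ?_ ?_)
    · rw [← Subgroup.card_map_of_injective (f := e.toMonoidHom) e.injective]
      exact Lib.CharP.card_le_two_dihedral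
        (fun h => hr2 ((Nat.prime_dvd_prime_iff_eq Nat.prime_two hr').1 h).symm)
        ((Lib.CharP.elemAb_isPGroup hYxel).map _)
    · refine (Subgroup.one_lt_card_iff_ne_bot _).2 fun hb => hNco.1 ?_
      rw [hYx, Subgroup.map_eq_bot_iff, QuotientGroup.ker_mk'] at hb
      have htop : Cfsg.pCore 2 ↥L = ⊤ := eq_top_iff.2 (hminL.1 ▸ Subgroup.normalClosure_le_normal hb)
      rw [eq_top_iff, ← htop]
      exact hAY'

end Cfsg.Agent.S2863
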