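import Cfsg.Statements.S2864
import Cfsg.Agent.Lib.CharP.FrakH
import Cfsg.Agent.Lib.Coprime.Commutator
import Cfsg.Agent.Lib.PGroups.Frattini

set_option autoImplicit false
set_option linter.style.haveILetI false
open Cfsg
open scoped commutatorElement

namespace Cfsg.Agent.S2864

/-- Standing hypotheses: G a finite group, S a Sylow p-subgroup, Q a nontrivial large p-subgroup of G contained in S, M a subgroup containing S with the basic property (M ∈ 𝔐_G(S)); Y_M the largest p-reduced normal subgroup of M and M† = M·C_G(Y_M). Let I be a nontrivial normal p-subgroup of M and Y ≤ O_p(M†); let L be a subgroup of G containing Y and A a normal p-subgroup of L with I ≤ A ≤ M. If [Y, A] ≤ [I, A], then Y ≤ O_p(L). -/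
theorem result {G : Type*} [Group G] [Finite G] {p : ℕ} [Fact p.Prime] (S : Sylow p G) (Q : Subgroup G) (hQp : IsPGroup p ↥Q) (hQ1 : Q ≠ ⊥) (hQS : Q ≤ (S : Subgroup G)) (hQ : Cfsg.IsLarge Q) (M : Subgroup G) (hSM : (S : Subgroup G) ≤ M) (hM : Cfsg.IsInFrakM p M) (I : Subgroup G) (hI1 : I ≠ ⊥) (hIp : IsPGroup p ↥I) (hIM : I ≤ M ∧ M ≤ Subgroup.normalizer ((I : Subgroup G) : Set G)) (Y : Subgroup G) (hY : Y ≤ (Cfsg.pCoreOf p (M ⊔ Subgroup.centralizer (((Cfsg.largestPReducedOf p M) : Subgroup G) : Set G)))) (L : Subgroup G) (hYL : Y ≤ L) (A : Subgroup G) (hAp : IsPGroup p ↥A) (hAL : A ≤ L ∧ L ≤ Subgroup.normalizer ((A : Subgroup G) : Set G)) (hIA : I ≤ A) (hAM : A ≤ M) (hc : ⁅Y, A⁆ ≤ ⁅I, A⁆) : Y ≤ (Cfsg.pCoreOf p L) := by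
  have hpar := Lib.CharP.large_parabolicChar hQp hQ1 hQ
  set YM := Cfsg.largestPReducedOf p M with hYM
  set Dg := M ⊔ Subgroup.centralizer (YM : Set G) with hDg
  set F := (frattini ↥A).map A.subtype with hF
  have hLF : L ≤ Subgroup.normalizer (F : Set G) :=
    hAL.2.trans (Lib.CharP.normalizer_le_normalizer_map_char _)
  have hYF : ⁅Y, A⁆ ≤ F := by
    refine hc.trans ((Subgroup.commutator_mono hIA le_rfl).trans ?_)
    rw [← Subgroup.map_subtype_commutator A]
    exact Subgroup.map_mono (Lib.PGroups.commutator_le_frattini hAp)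
  let T : Subgroup G :=
    { carrier := {x | x ∈ L ∧ ∀ a ∈ A, ⁅x, a⁆ ∈ F}
      one_mem' := ⟨one_mem _, fun a _ => by rw [commutatorElement_one_left]; exact one_mem _⟩
      mul_mem' := fun {x y} hx hy => ⟨mul_mem hx.1 hy.1, fun a ha => by
        rw [show ⁅x * y, a⁆ = x * ⁅y, a⁆ * x⁻¹ * ⁅x, a⁆ by simp only [commutatorElement_def]; group]
        exact mul_mem ((Subgroup.mem_normalizer_iff.1 (hLF hx.1) _).1 (hy.2 a ha)) (hx.2 a ha)⟩
      inv_mem' := fun {x} hx => ⟨inv_mem hx.1, fun a ha => by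
        rw [show ⁅x⁻¹, a⁆ = x⁻¹ * ⁅x, a⁆⁻¹ * x⁻¹⁻¹ by simp only [commutatorElement_def]; group]
        exact (Subgroup.mem_normalizer_iff.1 (hLF (inv_mem hx.1)) _).1 (inv_mem (hx.2 a ha))⟩ }
  set D : Subgroup G := ⨆ x : L, Lib.CharP.cj Y (x : G) with hD
  have hDT : D ≤ T := iSup_le fun x => by
    rintro _ ⟨y, hy, rfl⟩
    refine ⟨(Lib.CharP.mem_normalizer_iff_cj.1 (Subgroup.le_normalizer x.2)).le ⟨y, hYL hy, rfl⟩, fun a ha => ?_⟩
    have ha' : (x : G)⁻¹ * a * x ∈ A := by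
      have := (Subgroup.mem_normalizer_iff.1 (hAL.2 (inv_mem x.2)) a).1 ha
      rwa [inv_inv] at this
    show ⁅(x : G) * y * (x : G)⁻¹, a⁆ ∈ F
    rw [show ⁅(x : G) * y * (x : G)⁻¹, a⁆ = (x : G) * ⁅y, (x : G)⁻¹ * a * x⁆ * (x : G)⁻¹ by
      simp only [commutatorElement_def]; group]
    exact (Subgroup.mem_normalizer_iff.1 (hLF x.2) _).1 (hYF (Subgroup.commutator_mem_commutator hy ha'))
  have hDL : D ≤ L := hDT.trans fun x hx => hx.1
  have hYD : Y ≤ D := le_iSup_of_le (1 : L) (by rw [Subgroup.coe_one, Lib.CharP.cj_one])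
  have hLD : L ≤ Subgroup.normalizer (D : Set G) := Lib.CharP.le_normalizer_iSup_cj L Y
  set P := (Cfsg.pResidual p ↥D).map D.subtype with hP
  have hPD : P ≤ D := Subgroup.map_subtype_le _
  have hPC : P ≤ Subgroup.centralizer (A : Set G) := by
    rw [hP, Lib.CharP.map_pResidual_subtype, Subgroup.closure_le]
    rintro x ⟨hxD, hxo⟩
    refine Lib.Coprime.le_centralizer_of_frattini (A := Subgroup.zpowers x)
      ((Subgroup.zpowers_le.2 (hDL hxD)).trans hAL.2) ?_ ?_ (Subgroup.mem_zpowers x)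
    · obtain ⟨n, hn⟩ := IsPGroup.iff_card.1 (hAp.to_subgroup (frattini ↥A))
      rw [Nat.card_zpowers, hn]
      exact hxo.pow_right n
    · intro a ha k hk
      have := (hDT ((Subgroup.zpowers_le.2 hxD) ha)).2 k hk
      rwa [commutatorElement_def] at this
  have hPM : P ≤ Dg := by
    refine (hPC.trans (Subgroup.centralizer_le hIA)).trans ((Subgroup.centralizer_le_normalizer _).trans ?_)
    exact Lib.CharP.frakM_normalizer_le hpar hSM hM hIp hI1 hIM.2 le_rfl
  set O := Cfsg.pCoreOf p Dg with hO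
  set U := Cfsg.pCoreOf p P with hU
  have hLP : L ≤ Subgroup.normalizer (P : Set G) :=
    hLD.trans (Lib.CharP.normalizer_le_normalizer_map_char _)
  have hLU : L ≤ Subgroup.normalizer (U : Set G) :=
    hLP.trans (Lib.CharP.normalizer_le_normalizer_map_char _)
  have hOp : IsPGroup p ↥O := Lib.CharP.isPGroup_pCoreOf p Dg
  have hPY : ⁅P, Y⁆ ≤ U := by
    have h1 : ⁅P, Y⁆ ≤ O := (Subgroup.commutator_mono le_rfl hY).trans
      (Subgroup.le_normalizer_iff_commutator_le_right.1 (hPM.trans (Lib.CharP.le_normalizer_pCoreOf p Dg)))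
    have h2 : ⁅P, Y⁆ ≤ P := Lib.Coprime.commutator_le_of_le_normalizer (hYL.trans hLP)
    exact (le_inf h1 h2).trans (Lib.CharP.le_pCoreOf (hOp.to_le inf_le_left) inf_le_right
      (Lib.CharP.le_normalizer_inf (hPM.trans (Lib.CharP.le_normalizer_pCoreOf p Dg)) Subgroup.le_normalizer))
  let X : Subgroup G :=
    { carrier := {x | x ∈ D ∧ ∀ r ∈ P, ⁅r, x⁆ ∈ U}
      one_mem' := ⟨one_mem _, fun r _ => by rw [commutatorElement_one_right]; exact one_mem _⟩
      mul_mem' := fun {x y} hx hy => ⟨mul_mem hx.1 hy.1, fun r hr => by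
        rw [show ⁅r, x * y⁆ = ⁅r, x⁆ * (x * ⁅r, y⁆ * x⁻¹) by simp only [commutatorElement_def]; group]
        exact mul_mem (hx.2 r hr) ((Subgroup.mem_normalizer_iff.1 (hLU (hDL hx.1)) _).1 (hy.2 r hr))⟩
      inv_mem' := fun {x} hx => ⟨inv_mem hx.1, fun r hr => by
        rw [show ⁅r, x⁻¹⁆ = x⁻¹ * ⁅r, x⁆⁻¹ * x⁻¹⁻¹ by simp only [commutatorElement_def]; group]
        exact (Subgroup.mem_normalizer_iff.1 (hLU (inv_mem (hDL hx.1))) _).1 (inv_mem (hx.2 r hr))⟩ }
  have hXD : X ≤ D := fun x hx => hx.1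
  have hYX : Y ≤ X := fun y hy => ⟨hYD hy, fun r hr => hPY (Subgroup.commutator_mem_commutator hr hy)⟩
  have hLX : L ≤ Subgroup.normalizer (X : Set G) := by
    have key : ∀ l ∈ L, ∀ x ∈ X, l * x * l⁻¹ ∈ X := fun l hl x hx => by
      refine ⟨(Subgroup.mem_normalizer_iff.1 (hLD hl) x).1 hx.1, fun r hr => ?_⟩
      have hr' : l⁻¹ * r * l ∈ P := by
        have := (Subgroup.mem_normalizer_iff.1 (hLP (inv_mem hl)) r).1 hr
        rwa [inv_inv] at this
      rw [show ⁅r, l * x * l⁻¹⁆ = l * ⁅l⁻¹ * r * l, x⁆ * l⁻¹ by simp only [commutatorElement_def]; group]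
      exact (Subgroup.mem_normalizer_iff.1 (hLU hl) _).1 (hx.2 _ hr')
    intro l hl
    refine Subgroup.mem_normalizer_iff.2 fun x => ⟨key l hl x, fun h => ?_⟩
    have := key l⁻¹ (inv_mem hl) _ h
    simpa [mul_assoc] using this
  have hYp : IsPGroup p ↥Y := hOp.to_le hY
  obtain ⟨S₁, hS₁⟩ := (hYp.comap_subtype (K := X)).exists_le_sylow
  set V := U ⊔ (S₁ : Subgroup ↥X).map X.subtype with hV
  have hUD : U ≤ D := (Lib.CharP.pCoreOf_le p P).trans hPD
  have hUX : U ≤ X := fun u hu => ⟨hUD hu, fun r hr => by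
    have h := (Subgroup.mem_normalizer_iff.1 (Lib.CharP.le_normalizer_pCoreOf p P hr) u).1 hu
    rw [commutatorElement_def]
    exact mul_mem h (inv_mem hu)⟩
  have hVp : IsPGroup p ↥V := IsPGroup.to_sup_of_normal_left' (Lib.CharP.isPGroup_pCoreOf p P)
    (S₁.isPGroup'.map _) ((Subgroup.map_subtype_le _).trans ((hXD.trans hDL).trans hLU))
  have hVX : V ≤ X := sup_le hUX (Subgroup.map_subtype_le _)
  have hXV : X ≤ Subgroup.normalizer (V : Set G) := by
    have hres : (Cfsg.pResidual p ↥X).map X.subtype ≤ Subgroup.normalizer (V : Set G) := by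
      intro r hr
      have hrP : r ∈ P := Lib.CharP.map_pResidual_subtype_mono hXD hr
      have key : ∀ r ∈ P, ∀ v ∈ V, r * v * r⁻¹ ∈ V := fun r hr v hv => by
        rw [show r * v * r⁻¹ = ⁅r, v⁆ * v by simp only [commutatorElement_def]; group]
        exact mul_mem ((le_sup_left : U ≤ V) ((hVX hv).2 r hr)) hv
      refine Subgroup.mem_normalizer_iff.2 fun v => ⟨key r hrP v, fun h => ?_⟩
      have := key r⁻¹ (inv_mem hrP) _ h
      simpa [mul_assoc] using this
    calc X = ((S₁ : Subgroup ↥X) ⊔ Cfsg.pResidual p ↥X).map X.subtype := by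
          rw [Lib.CharP.sylow_sup_pResidual, ← MonoidHom.range_eq_map, Subgroup.range_subtype]
      _ ≤ _ := by
          rw [Subgroup.map_sup]
          exact sup_le ((le_sup_right : _ ≤ V).trans Subgroup.le_normalizer) hres
  have hYV : Y ≤ V := fun y hy => (le_sup_right : (S₁ : Subgroup ↥X).map X.subtype ≤ V)
    ⟨⟨y, hYX hy⟩, hS₁ hy, rfl⟩
  exact hYV.trans ((Lib.CharP.le_pCoreOf hVp hVX hXV).trans (Lib.CharP.le_pCoreOf
    (Lib.CharP.isPGroup_pCoreOf p X) ((Lib.CharP.pCoreOf_le p X).trans (hXD.trans hDL))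
    (hLX.trans (Lib.CharP.normalizer_le_normalizer_map_char _))))

end Cfsg.Agent.S2864
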