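import Cfsg.Statements.S2872
import Cfsg.Agent.Lib.CharP.Basic
import Cfsg.Agent.Lib.CharP.Frattini
import Cfsg.Agent.Lib.PGroups.Frattini

set_option autoImplicit false
set_option linter.style.haveILetI false
open Cfsg

namespace Cfsg.Agent.S2872

open scoped Pointwise in
/-- The transfer of an involution `z` central in the Sylow 2-subgroup `S`, centralized by `N(S)`, to an
index two quotient of `S` not killing `z` is nontrivial. -/
theorem transfer_ne_one {G : Type*} [Group G] [Finite G] (S : Sylow 2 G)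
    (φ : (S : Subgroup G) →* Multiplicative (ZMod 2)) {z : G} (hzS : z ∈ (S : Subgroup G))
    (hzc : ∀ s ∈ (S : Subgroup G), s * z = z * s) (hz2 : z * z = 1)
    (hN : ∀ g ∈ Subgroup.normalizer ((S : Subgroup G) : Set G), g * z * g⁻¹ = z)
    (hφ : φ ⟨z, hzS⟩ ≠ 1) : MonoidHom.transfer φ z ≠ 1 := by
  classical
  haveI : Fintype (G ⧸ (S : Subgroup G)) := (S : Subgroup G).fintypeQuotientOfFiniteIndex
  let T : (S : Subgroup G).LeftTransversal := default
  let t : G ⧸ (S : Subgroup G) → G := fun q => (T.2.leftQuotientEquiv q : G)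
  have ht : ∀ q, ((t q : G) : G ⧸ (S : Subgroup G)) = q := fun q =>
    (T.2.leftQuotientEquiv).symm_apply_apply q
  have hzinv : z⁻¹ = z := inv_eq_of_mul_eq_one_left hz2
  have hmem : ∀ q, (t q)⁻¹ * (z * t (z • q)) ∈ (S : Subgroup G) := by
    intro q
    rw [← QuotientGroup.eq, ht, ← smul_eq_mul]
    show q = ((z • t (z • q) : G) : G ⧸ (S : Subgroup G))
    rw [← MulAction.Quotient.smul_mk, show ((t (z • q) : G) : G ⧸ (S : Subgroup G)) = z • q from ht _,
      smul_smul, hz2, one_smul]
  let f : G ⧸ (S : Subgroup G) → Multiplicative (ZMod 2) := fun q => φ ⟨_, hmem q⟩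
  have hV : MonoidHom.transfer φ z = ∏ q, f q := by
    rw [MonoidHom.transfer_def φ T z]
    refine Finset.prod_congr (by ext; simp) fun q _ => ?_
    refine congrArg φ (Subtype.ext ?_)
    show (t q)⁻¹ * ((z • T).2.leftQuotientEquiv q : G) = (t q)⁻¹ * (z * t (z • q))
    rw [Subgroup.smul_apply_eq_smul_apply_inv_smul, hzinv]
    rfl
  -- invariance under a change of representative
  have hfix : ∀ q (g : G), z • q = q → (g : G ⧸ (S : Subgroup G)) = q →
      ∀ h : g⁻¹ * (z * g) ∈ (S : Subgroup G), f q = φ ⟨g⁻¹ * (z * g), h⟩ := by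
    intro q g hq hg h
    have hd : (t q)⁻¹ * g ∈ (S : Subgroup G) := QuotientGroup.eq.1 ((ht q).trans hg.symm)
    have e : (⟨_, hmem q⟩ : (S : Subgroup G)) =
        ⟨_, hd⟩ * ⟨g⁻¹ * (z * g), h⟩ * (⟨_, hd⟩ : (S : Subgroup G))⁻¹ := Subtype.ext (by
      show (t q)⁻¹ * (z * t (z • q)) = (t q)⁻¹ * g * (g⁻¹ * (z * g)) * ((t q)⁻¹ * g)⁻¹
      rw [hq]
      group)
    show φ _ = _
    rw [e, map_mul, map_mul, map_inv, mul_inv_cancel_comm]
  have hsq : ∀ a : Multiplicative (ZMod 2), a * a = 1 := by decide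
  have h2 : ∀ a : Multiplicative (ZMod 2), a ≠ 1 → a = Multiplicative.ofAdd 1 := by decide
  have hpair : ∏ q ∈ Finset.univ.filter (fun q => ¬ z • q = q), f q = 1 := by
    refine Finset.prod_involution (fun q _ => z • q) (fun q hq => ?_) (fun q hq _ => ?_)
      (fun q hq => ?_) (fun q hq => ?_)
    · show φ _ * φ _ = 1
      rw [← map_mul]
      convert map_one φ using 2
      refine Subtype.ext ?_
      show (t q)⁻¹ * (z * t (z • q)) * ((t (z • q))⁻¹ * (z * t (z • z • q))) = 1
      rw [smul_smul, hz2, one_smul]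
      calc (t q)⁻¹ * (z * t (z • q)) * ((t (z • q))⁻¹ * (z * t q)) = (t q)⁻¹ * (z * z) * t q := by group
        _ = 1 := by rw [hz2]; group
    · exact (Finset.mem_filter.1 hq).2
    · refine Finset.mem_filter.2 ⟨Finset.mem_univ _, fun h => (Finset.mem_filter.1 hq).2 ?_⟩
      rw [smul_smul, hz2, one_smul] at h
      exact h.symm
    · rw [smul_smul, hz2, one_smul]
  let Ω : SubMulAction ↥(S : Subgroup G) (G ⧸ (S : Subgroup G)) :=
    { carrier := {q | z • q = q ∧ f q ≠ 1}
      smul_mem' := by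
        rintro ⟨s, hs⟩ q ⟨hq, hfq⟩
        have hsq' : z • (s • q) = s • q := by rw [smul_smul, ← hzc s hs, ← smul_smul, hq]
        refine ⟨hsq', ?_⟩
        show f (s • q) ≠ 1
        have h : (s * t q)⁻¹ * (z * (s * t q)) = (t q)⁻¹ * (z * t (z • q)) := by
          rw [hq]
          calc (s * t q)⁻¹ * (z * (s * t q)) = (t q)⁻¹ * (s⁻¹ * (z * s)) * t q := by group
            _ = (t q)⁻¹ * (z * t q) := by rw [← hzc s hs]; group
        rw [hfix _ (s * t q) hsq' (by rw [← smul_eq_mul, ← MulAction.Quotient.smul_mk,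
          show ((t q : G) : G ⧸ (S : Subgroup G)) = q from ht q]) (h ▸ hmem q)]
        intro h1
        refine hfq ?_
        rw [← h1]
        exact congrArg φ (Subtype.ext h.symm) }
  have hSfix : ∀ q : G ⧸ (S : Subgroup G), (∀ s : ↥(S : Subgroup G), s • q = q) → q ∈ Ω := by
    intro q hq
    have hzq : z • q = q := hq ⟨z, hzS⟩
    refine ⟨hzq, ?_⟩
    have hn : t q ∈ Subgroup.normalizer ((S : Subgroup G) : Set G) := by
      have hle : ∀ s ∈ (S : Subgroup G), (t q)⁻¹ * s * t q ∈ (S : Subgroup G) := by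
        intro s hs
        have h : ((s * t q : G) : G ⧸ (S : Subgroup G)) = q := by
          rw [← smul_eq_mul, ← MulAction.Quotient.smul_mk,
            show ((t q : G) : G ⧸ (S : Subgroup G)) = q from ht q]
          exact hq ⟨s, hs⟩
        have h' := QuotientGroup.eq.1 ((ht q).trans h.symm)
        rwa [← mul_assoc] at h'
      have hinv : (t q)⁻¹ ∈ Subgroup.normalizer ((S : Subgroup G) : Set G) := by
        apply Subgroup.mem_normalizer_iff_map_conj_eq.2
        refine Subgroup.eq_of_le_of_card_ge ?_ (le_of_eq ?_)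
        · rintro _ ⟨s, hs, rfl⟩
          simpa using hle s hs
        · rw [Subgroup.card_map_of_injective (MulEquiv.injective _)]
      simpa using inv_mem hinv
    have h : (t q)⁻¹ * (z * t q) = z := by
      have := hN _ (inv_mem hn)
      simpa [mul_assoc] using this
    rw [hfix q (t q) hzq (ht q) (h.symm ▸ hzS)]
    intro h1
    exact hφ (by rw [← h1]; exact congrArg φ (Subtype.ext h.symm))
  have hfixeq : Nat.card (MulAction.fixedPoints ↥(S : Subgroup G) Ω) =
      Nat.card (MulAction.fixedPoints ↥(S : Subgroup G) (G ⧸ (S : Subgroup G))) :=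
    Nat.card_congr
      { toFun := fun q => ⟨(q.1 : G ⧸ (S : Subgroup G)), fun s => congrArg Subtype.val (q.2 s)⟩
        invFun := fun q => ⟨⟨q.1, hSfix q.1 q.2⟩, fun s => Subtype.ext (q.2 s)⟩
        left_inv := fun _ => rfl
        right_inv := fun _ => rfl }
  have hodd : Nat.card Ω % 2 = 1 := by
    have h1 : Nat.card Ω ≡ Nat.card (G ⧸ (S : Subgroup G)) [MOD 2] :=
      ((S.isPGroup'.card_modEq_card_fixedPoints Ω).trans (by rw [hfixeq])).trans
        (S.isPGroup'.card_modEq_card_fixedPoints (G ⧸ (S : Subgroup G))).symm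
    have h3 : ¬ 2 ∣ (S : Subgroup G).index := S.not_dvd_index
    rw [Subgroup.index_eq_card] at h3
    unfold Nat.ModEq at h1
    omega
  rw [hV, ← Finset.prod_filter_mul_prod_filter_not Finset.univ (fun q => z • q = q), hpair, mul_one,
    ← Finset.prod_filter_ne_one, Finset.filter_filter,
    Finset.prod_eq_pow_card (b := Multiplicative.ofAdd (1 : ZMod 2))
      (fun q hq => h2 _ (Finset.mem_filter.1 hq).2.2)]
  have hcard : (Finset.univ.filter (fun q => z • q = q ∧ f q ≠ 1)).card = Nat.card Ω := by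
    rw [← Nat.card_eq_finsetCard]
    exact Nat.card_congr
      { toFun := fun q => ⟨q.1, (Finset.mem_filter.1 q.2).2⟩
        invFun := fun q => ⟨q.1, Finset.mem_filter.2 ⟨Finset.mem_univ _, q.2⟩⟩
        left_inv := fun _ => rfl
        right_inv := fun _ => rfl }
  rw [hcard, ← Nat.mod_add_div (Nat.card Ω) 2, hodd, pow_add, pow_one, pow_mul, sq, hsq, one_pow, mul_one]
  decide

/-- Let S be a Sylow 2-subgroup of the finite group G. Then G has a proper normal subgroup of 2-power index (O²(G) ≠ G), or Ω₁(Z(S)) is contained in the Frattini subgroup of S, or N_G(S) acts nontrivially on Ω₁(Z(S)) by conjugation. -/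
theorem result {G : Type*} [Group G] [Finite G] (S : Sylow 2 G) : Cfsg.pResidual 2 G ≠ ⊤ ∨ Cfsg.omegaOne 2 ((S : Subgroup G) ⊓ Subgroup.centralizer ((S : Subgroup G) : Set G)) ≤ (frattini ↥(S : Subgroup G)).map (S : Subgroup G).subtype ∨ ∃ g ∈ Subgroup.normalizer ((S : Subgroup G) : Set G), ∃ z ∈ Cfsg.omegaOne 2 ((S : Subgroup G) ⊓ Subgroup.centralizer ((S : Subgroup G) : Set G)), g * z * g⁻¹ ≠ z := by
  set Z := omegaOne 2 ((S : Subgroup G) ⊓ Subgroup.centralizer ((S : Subgroup G) : Set G)) with hZ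
  set Φ := (frattini ↥(S : Subgroup G)).map (S : Subgroup G).subtype with hΦ
  by_cases h2 : Z ≤ Φ
  · exact Or.inr (Or.inl h2)
  by_cases h3 : ∃ g ∈ Subgroup.normalizer ((S : Subgroup G) : Set G), ∃ z ∈ Z, g * z * g⁻¹ ≠ z
  · exact Or.inr (Or.inr h3)
  push Not at h3
  left
  obtain ⟨z, hzZ, hzΦ⟩ := SetLike.not_le_iff_exists.1 h2
  have hzm := Lib.CharP.omegaOne_le' _ hzZ
  have hzS : z ∈ (S : Subgroup G) := hzm.1
  have hzc : ∀ s ∈ (S : Subgroup G), s * z = z * s := fun s hs => Subgroup.mem_centralizer_iff.1 hzm.2 s hs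
  have hz2 : z * z = 1 := by
    rw [← sq]
    refine Lib.CharP.pow_eq_one_of_mem_omegaOne (fun a ha b hb => ?_) hzZ
    exact Subgroup.mem_centralizer_iff.1 hb.2 a ha.1
  obtain ⟨M, hM, hzM⟩ : ∃ M : Subgroup ↥(S : Subgroup G), IsCoatom M ∧ (⟨z, hzS⟩ : ↥(S : Subgroup G)) ∉ M := by
    by_contra hcon
    push Not at hcon
    refine hzΦ ⟨⟨z, hzS⟩, ?_, rfl⟩
    rw [SetLike.mem_coe, frattini, Order.radical]
    simp only [Subgroup.mem_iInf]
    exact hcon
  have hidx := Lib.PGroups.coatom_index S.isPGroup' hM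
  classical
  let φ : ↥(S : Subgroup G) →* Multiplicative (ZMod 2) :=
    { toFun := fun s => if s ∈ M then 1 else Multiplicative.ofAdd 1
      map_one' := by rw [if_pos M.one_mem]
      map_mul' := fun a b => by
        rcases em (a ∈ M) with ha | ha <;> rcases em (b ∈ M) with hb | hb <;>
          simp [Subgroup.mul_mem_iff_of_index_two hidx, ha, hb] <;> decide }
  have hne := transfer_ne_one S φ hzS hzc hz2 (fun g hg => h3 g hg z hzZ) (by
    show (if _ then _ else _) ≠ _
    rw [if_neg hzM]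
    decide)
  intro htop
  refine hne (MonoidHom.mem_ker.1 ((Lib.CharP.pResidual_le_of_isPGroup_quotient (p := 2)
    (N := (MonoidHom.transfer φ).ker) ?_) (htop ▸ Subgroup.mem_top z)))
  have hA : IsPGroup 2 (Multiplicative (ZMod 2)) := IsPGroup.of_card (n := 1) (by simp)
  exact hA.of_injective (QuotientGroup.kerLift (MonoidHom.transfer φ)) (QuotientGroup.kerLift_injective _)

end Cfsg.Agent.S2872
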