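import Cfsg.Statements.S2873
import Cfsg.Agent.Lib.Cores.Basic

set_option autoImplicit false
set_option linter.style.haveILetI false
open Cfsg

namespace Cfsg.Agent.S2873

/-- Let G be a finite group and r an odd prime such that G ⧸ O₂(G) is dihedral of order 2r, and let R be a Sylow r-subgroup of G with C_{O₂(G)}(R) = 1. Then N_G(R) is dihedral of order 2r; for any involution a of N_G(R), every involution of G outside O₂(G) is conjugate to a; and |C_{O₂(G)}(a)|² = |O₂(G)|. -/
theorem result {G : Type*} [Group G] [Finite G] {r : ℕ} [Fact r.Prime] (hr : r ≠ 2) [hN : (Cfsg.pCore 2 G).Normal] (hquot : Nonempty (G ⧸ Cfsg.pCore 2 G ≃* DihedralGroup r)) (R : Sylow r G) (hC : Cfsg.pCore 2 G ⊓ Subgroup.centralizer ((R : Subgroup G) : Set G) = ⊥) : Nonempty (↥(Subgroup.normalizer ((R : Subgroup G) : Set G)) ≃* DihedralGroup r) ∧ ∀ a : G, a ∈ Subgroup.normalizer ((R : Subgroup G) : Set G) → orderOf a = 2 → (∀ b : G, orderOf b = 2 → b ∉ Cfsg.pCore 2 G → ∃ g : G,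 g * a * g⁻¹ = b) ∧ Nat.card ↥(Cfsg.pCore 2 G ⊓ Subgroup.centralizer ({a} : Set G)) ^ 2 = Nat.card ↥(Cfsg.pCore 2 G) := by
  set Q := pCore 2 G with hQdef
  have hN_conj : ∀ {u : G}, u ∈ Q → ∀ g : G, g * u * g⁻¹ ∈ Q := fun hu g => hN.conj_mem _ hu g
  obtain ⟨e⟩ := hquot
  let φ : G →* DihedralGroup r := e.toMonoidHom.comp (QuotientGroup.mk' Q)
  have hker : ∀ g, φ g = 1 ↔ g ∈ Q := fun g => by
    simp [φ, QuotientGroup.eq_one_iff]
  have hsurj : Function.Surjective φ :=
    e.surjective.comp (QuotientGroup.mk'_surjective Q)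
  have hr' : r.Prime := Fact.out
  haveI : NeZero r := ⟨hr'.ne_zero⟩
  have hQ2 : IsPGroup 2 Q := Lib.Cores.pCore_isPGroup 2
  haveI : Fact (Nat.Prime 2) := ⟨Nat.prime_two⟩
  obtain ⟨m, hm⟩ := IsPGroup.iff_card.1 hQ2
  have hcopQ : r.Coprime (2 ^ m) := ((Nat.coprime_primes hr' Nat.prime_two).2 hr).pow_right m
  have hrQ : ∀ u ∈ Q, u ^ r = 1 → u = 1 := by
    intro u hu hur
    refine orderOf_eq_one_iff.1 (Nat.eq_one_of_dvd_coprimes hcopQ (orderOf_dvd_of_pow_eq_one hur) ?_)
    have := orderOf_dvd_natCard (⟨u, hu⟩ : Q)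
    rwa [hm, Subgroup.orderOf_mk] at this
  -- the Sylow subgroup has order `r`
  have hRQ : ∀ s ∈ (R : Subgroup G), s ∈ Q → s = 1 := by
    intro s hs hsQ
    obtain ⟨k, hk⟩ := R.isPGroup' ⟨s, hs⟩
    have hk' : s ^ r ^ k = 1 := by simpa using congrArg Subtype.val hk
    refine orderOf_eq_one_iff.1 (Nat.eq_one_of_dvd_coprimes (hcopQ.pow_left k)
      (orderOf_dvd_of_pow_eq_one hk') ?_)
    have := orderOf_dvd_natCard (⟨s, hsQ⟩ : Q)
    rwa [hm, Subgroup.orderOf_mk] at this
  have hinjR : Function.Injective (φ.comp (R : Subgroup G).subtype) := by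
    refine (injective_iff_map_eq_one _).2 fun s hs => Subtype.ext ?_
    exact hRQ s s.2 ((hker _).1 hs)
  have hRdvd : r ∣ Nat.card (R : Subgroup G) := by
    refine R.dvd_card_of_dvd_card ?_
    refine dvd_trans ?_ (Subgroup.card_dvd_of_surjective φ hsurj)
    exact DihedralGroup.nat_card (n := r) ▸ dvd_mul_left r 2
  have hRcard : Nat.card (R : Subgroup G) = r := by
    obtain ⟨k, hk⟩ := IsPGroup.iff_card.1 R.isPGroup'
    have hd : r ^ k ∣ 2 * r := by
      rw [← hk, ← DihedralGroup.nat_card (n := r)]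
      exact Subgroup.card_dvd_of_injective _ hinjR
    rcases k with _ | _ | k
    · rw [hk, pow_zero] at hRdvd
      exact absurd (Nat.dvd_one.1 hRdvd) hr'.ne_one
    · rw [hk, pow_one]
    · exfalso
      have h2 : r * r ∣ 2 * r := dvd_trans ⟨r ^ k, by ring⟩ hd
      exact hr ((Nat.prime_dvd_prime_iff_eq hr' Nat.prime_two).1
        (Nat.dvd_of_mul_dvd_mul_right hr'.pos h2))
  have hRpow : ∀ s ∈ (R : Subgroup G), s ^ r = 1 := fun s hs => by
    have := pow_card_eq_one' (x := (⟨s, hs⟩ : (R : Subgroup G)))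
    rw [hRcard] at this
    simpa using congrArg Subtype.val this
  have hRrot : ∀ s ∈ (R : Subgroup G), ∃ i : ZMod r, φ s = DihedralGroup.r i := by
    intro s hs
    cases hc : φ s with
    | r i => exact ⟨i, rfl⟩
    | sr i =>
      exfalso
      have h1 : φ s ^ r = 1 := by rw [← map_pow, hRpow s hs, map_one]
      have h2 := orderOf_dvd_of_pow_eq_one h1
      rw [hc, DihedralGroup.orderOf_sr] at h2
      exact hr ((Nat.prime_dvd_prime_iff_eq Nat.prime_two hr').1 h2).symm
  -- a generator of `R`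
  obtain ⟨x, hxord⟩ := exists_prime_orderOf_dvd_card' (G := (R : Subgroup G)) r hRdvd
  rw [← Subgroup.orderOf_coe] at hxord
  obtain ⟨i₀, hi₀⟩ := hRrot x x.2
  have hx1 : (x : G) ≠ 1 := fun h => by
    rw [h, orderOf_one] at hxord
    exact hr'.ne_one hxord.symm
  have hi₀' : i₀ ≠ 0 := by
    rintro rfl
    rw [DihedralGroup.r_zero] at hi₀
    exact hx1 (hRQ _ x.2 ((hker _).1 hi₀))
  have hRgen : (R : Subgroup G) = Subgroup.zpowers (x : G) := by
    refine (Subgroup.eq_of_le_of_card_ge (Subgroup.zpowers_le.2 x.2) ?_).symm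
    rw [Nat.card_zpowers, hxord, hRcard]
  have hCx : ∀ u ∈ Q, u * x = x * u → u = 1 := by
    intro u hu huc
    have : u ∈ Q ⊓ Subgroup.centralizer ((R : Subgroup G) : Set G) := by
      refine ⟨hu, ?_⟩
      rw [hRgen, Subgroup.zpowers_eq_closure, Subgroup.centralizer_closure]
      exact Subgroup.mem_centralizer_singleton_iff.mpr huc
    rwa [hC, Subgroup.mem_bot] at this
  -- the normalizer
  set N := Subgroup.normalizer ((R : Subgroup G) : Set G) with hN
  have hNQ : ∀ n ∈ N, n ∈ Q → n = 1 := by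
    intro n hn hnQ
    refine hCx n hnQ ?_
    have h1 : n * x * n⁻¹ * (x : G)⁻¹ ∈ (R : Subgroup G) :=
      mul_mem ((Subgroup.mem_normalizer_iff.1 hn x).1 x.2) (inv_mem x.2)
    have h2 : n * x * n⁻¹ * (x : G)⁻¹ ∈ Q := by
      have := mul_mem hnQ (hN_conj (inv_mem hnQ) (x : G))
      simpa [mul_assoc] using this
    exact mul_inv_eq_iff_eq_mul.1 (mul_inv_eq_one.1 (hRQ _ h1 h2))
  have hNsurj : ∀ d, ∃ n ∈ N, φ n = d := by
    let K : Subgroup G := (R : Subgroup G) ⊔ Q
    haveI : K.Normal := by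
      have : K = Subgroup.comap φ ((R : Subgroup G).map φ) := by
        rw [Subgroup.comap_map_eq]
        show (R : Subgroup G) ⊔ Q = _
        congr 1
        ext g
        exact (hker g).symm
      rw [this]
      haveI : ((R : Subgroup G).map φ).Normal := by
        constructor
        rintro _ ⟨s, hs, rfl⟩ d
        obtain ⟨i, hi⟩ := hRrot s hs
        rw [hi]
        cases d with
        | r j => exact ⟨s, hs, by simp [hi]⟩
        | sr j => exact ⟨s⁻¹, inv_mem hs, by simp [hi]⟩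
      infer_instance
    have hRK : (R : Subgroup G) ≤ K := le_sup_left
    have h := Sylow.normalizer_sup_eq_top (R.subtype hRK)
    have e : ((R.subtype hRK : Sylow r K) : Subgroup K).map K.subtype = (R : Subgroup G) := by
      rw [Sylow.coe_subtype, Subgroup.subgroupOf_map_subtype, inf_eq_left.2 hRK]
    rw [e] at h
    have htop : N ⊔ Q = ⊤ := by
      rw [← h]
      exact le_antisymm (sup_le_sup_left le_sup_right _)
        (sup_le le_sup_left (sup_le (Subgroup.le_normalizer.trans le_sup_left) le_sup_right))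
    intro d
    obtain ⟨g, rfl⟩ := hsurj d
    obtain ⟨n, hn, u, hu, rfl⟩ := Subgroup.mem_sup_of_normal_right.1 (htop ▸ Subgroup.mem_top g)
    exact ⟨n, hn, by rw [map_mul, (hker u).2 hu, mul_one]⟩
  have hNinj : ∀ n ∈ N, ∀ n' ∈ N, φ n = φ n' → n = n' := by
    intro n hn n' hn' h
    refine mul_inv_eq_one.1 (hNQ _ (mul_mem hn (inv_mem hn')) ((hker _).1 ?_))
    rw [map_mul, map_inv, h, mul_inv_cancel]
  refine ⟨⟨MulEquiv.ofBijective (φ.comp N.subtype) ⟨fun a b h => Subtype.ext (hNinj a a.2 b b.2 h),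
    fun d => ?_⟩⟩, ?_⟩
  · obtain ⟨n, hn, hd⟩ := hNsurj d
    exact ⟨⟨n, hn⟩, hd⟩
  -- elements over nontrivial rotations have order `r`
  have hrot : ∀ g : G, ∀ i : ZMod r, i ≠ 0 → φ g = DihedralGroup.r i → g ^ r = 1 := by
    intro g i hi hg
    have hgQ : g ^ r ∈ Q := by
      rw [← hker, map_pow, hg, DihedralGroup.r_pow]
      simp
    have hy : (g ^ 2 ^ m) ^ r = 1 := by
      rw [← pow_mul, mul_comm, pow_mul, ← hm]
      simpa only [SubmonoidClass.coe_pow, OneMemClass.coe_one] using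
        congrArg Subtype.val (pow_card_eq_one' (x := (⟨g ^ r, hgQ⟩ : Q)))
    obtain ⟨S, hS⟩ := (IsPGroup.of_card (p := r) (G := Subgroup.zpowers (g ^ 2 ^ m)) (n := 1)
      (by
        rw [Nat.card_zpowers, pow_one]
        refine orderOf_eq_prime hy fun h => hi ?_
        have h1 : orderOf (φ g) ∣ 2 ^ m := orderOf_dvd_of_pow_eq_one (by rw [← map_pow, h, map_one])
        have h2 : orderOf (φ g) ∣ r := orderOf_dvd_of_pow_eq_one (by rw [← map_pow]; exact (hker _).2 hgQ)
        have h3 := orderOf_eq_one_iff.1 (Nat.eq_one_of_dvd_coprimes hcopQ h2 h1)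
        rw [hg, ← DihedralGroup.r_zero] at h3
        exact DihedralGroup.r.inj h3)).exists_le_sylow
    obtain ⟨w, hw⟩ := MulAction.exists_smul_eq G S R
    have hmem : w * g ^ 2 ^ m * w⁻¹ ∈ (R : Subgroup G) := by
      rw [← hw]
      exact ⟨_, hS (Subgroup.mem_zpowers _), rfl⟩
    have hne : w * g ^ 2 ^ m * w⁻¹ ≠ 1 := by
      intro h
      rw [conj_eq_one_iff] at h
      have h1 : orderOf (φ g) ∣ 2 ^ m := orderOf_dvd_of_pow_eq_one (by rw [← map_pow, h, map_one])
      have h2 : orderOf (φ g) ∣ r := orderOf_dvd_of_pow_eq_one (by rw [← map_pow]; exact (hker _).2 hgQ)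
      have h3 := orderOf_eq_one_iff.1 (Nat.eq_one_of_dvd_coprimes hcopQ h2 h1)
      rw [hg, ← DihedralGroup.r_zero] at h3
      exact hi (DihedralGroup.r.inj h3)
    set y := w * g ^ 2 ^ m * w⁻¹ with hy'
    have hyR : (R : Subgroup G) = Subgroup.zpowers y := by
      refine (Subgroup.eq_of_le_of_card_ge (Subgroup.zpowers_le.2 hmem) ?_).symm
      rw [Nat.card_zpowers, hRcard]
      exact (orderOf_eq_prime (hRpow y hmem) hne).ge
    have hz : w * g ^ r * w⁻¹ ∈ Q := hN_conj hgQ w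
    have hcom : Commute (w * g ^ r * w⁻¹) y := by
      rw [hy', commute_iff_eq]
      simp only [mul_assoc, inv_mul_cancel_left]
      rw [← mul_assoc (g ^ r) (g ^ 2 ^ m), ← pow_add, add_comm, pow_add, mul_assoc]
    have hz1 : w * g ^ r * w⁻¹ = 1 := by
      have : w * g ^ r * w⁻¹ ∈ Q ⊓ Subgroup.centralizer ((R : Subgroup G) : Set G) := by
        refine ⟨hz, ?_⟩
        rw [hyR, Subgroup.zpowers_eq_closure, Subgroup.centralizer_closure]
        exact Subgroup.mem_centralizer_singleton_iff.mpr hcom.eq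
      rwa [hC, Subgroup.mem_bot] at this
    rwa [conj_eq_one_iff] at hz1
  intro a haN ha2
  obtain ⟨j, hj⟩ : ∃ j, φ a = DihedralGroup.sr j := by
    cases hc : φ a with
    | sr j => exact ⟨j, rfl⟩
    | r i =>
      exfalso
      by_cases hi : i = 0
      · subst hi
        rw [DihedralGroup.r_zero] at hc
        have := hNQ a haN ((hker a).1 hc)
        rw [this, orderOf_one] at ha2
        omega
      · have h2 := orderOf_dvd_of_pow_eq_one (hrot a i hi hc)
        rw [ha2] at h2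
        exact hr ((Nat.prime_dvd_prime_iff_eq Nat.prime_two hr').1 h2).symm
  set a' := a * x with ha'
  have hxN : (x : G) ∈ N := Subgroup.le_normalizer x.2
  have ha'N : a' ∈ N := mul_mem haN hxN
  have hφa' : φ a' = DihedralGroup.sr (j + i₀) := by
    rw [ha', map_mul, hj, hi₀, DihedralGroup.sr_mul_r]
  have haa : a * a = 1 := by
    rw [← sq, ← ha2, pow_orderOf_eq_one]
  have ha'a' : a' * a' = 1 := by
    refine hNQ _ (mul_mem ha'N ha'N) ((hker _).1 ?_)
    rw [map_mul, hφa', DihedralGroup.sr_mul_self]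
  have hxa : a * x * a = (x : G)⁻¹ := by
    refine eq_inv_of_mul_eq_one_left ?_
    rw [mul_assoc]
    exact ha'a'
  have ha'inv : a'⁻¹ = a' := inv_eq_of_mul_eq_one_left ha'a'
  -- involutions in distinct outer cosets are conjugate
  have hconj : ∀ s t : G, s * s = 1 → t * t = 1 → ∀ i, i ≠ 0 → φ (s * t) = DihedralGroup.r i →
      ∃ g, g * s * g⁻¹ = t := by
    intro s t hs ht i hi hst
    obtain ⟨k, hk⟩ : ∃ k, r = 2 * k + 1 := hr'.odd_of_ne_two hr
    have h1 : (s * t) ^ r = 1 := hrot _ i hi hst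
    have hsinv : s⁻¹ = s := inv_eq_of_mul_eq_one_left hs
    have htinv : t⁻¹ = t := inv_eq_of_mul_eq_one_left ht
    refine ⟨s * ((s * t) ^ k)⁻¹, ?_⟩
    set w := (s * t) ^ k with hw
    have h2 : s * w * s⁻¹ = w⁻¹ := by
      rw [hw, ← conj_pow, ← inv_pow]
      congr 1
      rw [mul_inv_rev, htinv, hsinv, ← mul_assoc s s, hs, one_mul]
    have h5 : w⁻¹ * w⁻¹ = s * t := by
      rw [← mul_inv_rev, hw, ← pow_add]
      refine inv_eq_of_mul_eq_one_right ?_
      rw [← pow_succ, show k + k + 1 = r by omega, h1]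
    have h3 : w⁻¹ * s * w = s * t * s := by
      calc w⁻¹ * s * w = w⁻¹ * (s * w * s⁻¹) * s := by group
        _ = s * t * s := by rw [h2, h5]
    calc s * w⁻¹ * s * (s * w⁻¹)⁻¹ = s * (w⁻¹ * s * w) * s⁻¹ := by group
      _ = t := by rw [h3, hsinv]; simp [mul_assoc, hs]; rw [← mul_assoc s s, hs, one_mul]
  refine ⟨fun b hb2 hbQ => ?_, ?_⟩
  · have hbb : b * b = 1 := by rw [← sq, ← hb2, pow_orderOf_eq_one]
    obtain ⟨i, hi⟩ : ∃ i, φ b = DihedralGroup.sr i := by
      cases hc : φ b with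
      | sr i => exact ⟨i, rfl⟩
      | r i =>
        exfalso
        by_cases hi : i = 0
        · subst hi
          rw [DihedralGroup.r_zero] at hc
          exact hbQ ((hker b).1 hc)
        · have h2 := orderOf_dvd_of_pow_eq_one (hrot b i hi hc)
          rw [hb2] at h2
          exact hr ((Nat.prime_dvd_prime_iff_eq Nat.prime_two hr').1 h2).symm
    by_cases hij : i = j
    · obtain ⟨g, hg⟩ := hconj a a' haa ha'a' (j + i₀ - j) (by simpa using hi₀')
        (by rw [map_mul, hj, hφa', DihedralGroup.sr_mul_sr])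
      obtain ⟨g', hg'⟩ := hconj a' b ha'a' hbb (i - (j + i₀)) (by simp [hij, hi₀'])
        (by rw [map_mul, hi, hφa', DihedralGroup.sr_mul_sr])
      refine ⟨g' * g, ?_⟩
      rw [← hg', ← hg]
      group
    · exact hconj a b haa hbb (i - j) (sub_ne_zero.2 hij)
        (by rw [map_mul, hj, hi, DihedralGroup.sr_mul_sr])
  set C := Q ⊓ Subgroup.centralizer ({a} : Set G) with hCdef
  set C' := Q ⊓ Subgroup.centralizer ({a'} : Set G) with hC'def
  have hmemC : ∀ (b u : G), u ∈ Q ⊓ Subgroup.centralizer ({b} : Set G) ↔ u ∈ Q ∧ u * b = b * u :=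
    fun b u => by rw [Subgroup.mem_inf, Subgroup.mem_centralizer_singleton_iff]
  have hCC : Nat.card C = Nat.card C' := by
    obtain ⟨g, hg⟩ := hconj a a' haa ha'a' (j + i₀ - j) (by simpa using hi₀')
      (by rw [map_mul, hj, hφa', DihedralGroup.sr_mul_sr])
    have hmap : C.map (MulAut.conj g).toMonoidHom = C' := by
      ext u
      constructor
      · rintro ⟨c, hc, rfl⟩
        obtain ⟨hc1, hc2⟩ := (hmemC a c).1 hc
        refine (hmemC a' _).2 ⟨hN_conj hc1 g, ?_⟩
        show g * c * g⁻¹ * a' = a' * (g * c * g⁻¹)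
        rw [← hg]
        simp [mul_assoc]
        rw [← mul_assoc c a, hc2, mul_assoc]
      · intro hu
        obtain ⟨hu1, hu2⟩ := (hmemC a' u).1 hu
        refine ⟨g⁻¹ * u * g, (hmemC a _).2 ⟨by simpa using hN_conj hu1 g⁻¹, ?_⟩, by simp [mul_assoc]⟩
        rw [← hg] at hu2
        calc g⁻¹ * u * g * a = g⁻¹ * (u * (g * a * g⁻¹)) * g := by group
          _ = a * (g⁻¹ * u * g) := by rw [hu2]; group
    rw [← hmap]
    exact (Subgroup.card_map_of_injective (MulAut.conj g).injective).symm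
  have hax : a * a' = x := by rw [ha', ← mul_assoc, haa, one_mul]
  have hinter : ∀ u, u ∈ C → u ∈ C' → u = 1 := by
    intro u h1 h2
    obtain ⟨hu1, hu2⟩ := (hmemC a u).1 h1
    obtain ⟨-, hu3⟩ := (hmemC a' u).1 h2
    refine hCx u hu1 ?_
    calc u * (x : G) = u * a * a' := by rw [← hax, ← mul_assoc]
      _ = a * (u * a') := by rw [hu2, mul_assoc]
      _ = a * (a' * u) := by rw [hu3]
      _ = (x : G) * u := by rw [← hax]; group
  have hup : Nat.card C * Nat.card C' ≤ Nat.card Q := by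
    rw [← Nat.card_prod]
    refine Nat.card_le_card_of_injective
      (fun z : C × C' => (⟨(z.1 : G) * z.2, mul_mem z.1.2.1 z.2.2.1⟩ : Q)) ?_
    rintro ⟨c, d⟩ ⟨c', d'⟩ h
    have h' : (c : G) * d = c' * d' := congrArg Subtype.val h
    have h1 : ((c' : G)⁻¹ * c) = (d' : G) * (d : G)⁻¹ := by
      rw [eq_mul_inv_iff_mul_eq, mul_assoc, h', inv_mul_cancel_left]
    have h2 := hinter _ (mul_mem (inv_mem c'.2) c.2) (h1 ▸ mul_mem d'.2 (inv_mem d.2))
    have hc : (c : G) = c' := (inv_mul_eq_one.1 h2).symm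
    rw [hc] at h'
    exact Prod.ext (Subtype.ext hc) (Subtype.ext (mul_left_cancel h'))
  have hw : ∀ q : Q, ∃ w : Q, (w : G) * x * (w : G)⁻¹ = q * x := by
    let f : Q → Q := fun u => ⟨(u : G) * ((x : G) * (u : G)⁻¹ * (x : G)⁻¹),
      mul_mem u.2 (hN_conj (inv_mem u.2) x)⟩
    have hf : Function.Injective f := by
      intro u v h
      have h' : (u : G) * ((x : G) * (u : G)⁻¹ * (x : G)⁻¹) = (v : G) * ((x : G) * (v : G)⁻¹ * (x : G)⁻¹) :=
        congrArg Subtype.val h
      have h1 : (v : G)⁻¹ * u * x = x * ((v : G)⁻¹ * u) := by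
        calc (v : G)⁻¹ * u * x = (v : G)⁻¹ * ((u : G) * ((x : G) * (u : G)⁻¹ * (x : G)⁻¹)) * x * u := by
              group
          _ = x * ((v : G)⁻¹ * u) := by rw [h']; group
      exact Subtype.ext (inv_mul_eq_one.1 (hCx _ (mul_mem (inv_mem v.2) u.2) h1)).symm
    intro q
    obtain ⟨w, hw⟩ := (Finite.injective_iff_surjective.1 hf) q
    refine ⟨w, ?_⟩
    rw [← hw]
    show _ = (w : G) * ((x : G) * (w : G)⁻¹ * (x : G)⁻¹) * x
    group
  choose w hw using hw
  have hinv' : ∀ u : G, u * a * u⁻¹ * (u * a * u⁻¹) = 1 := fun u => by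
    rw [conj_mul, haa]; group
  have hinv'' : ∀ u : G, u * a' * u⁻¹ * (u * a' * u⁻¹) = 1 := fun u => by
    rw [conj_mul, ha'a']; group
  have hq : ∀ z : Q × Q, (z.1 : G) * a * (z.1 : G)⁻¹ * ((z.2 : G) * a' * (z.2 : G)⁻¹) * (x : G)⁻¹ ∈ Q := by
    intro z
    rw [← hker]
    simp [(hker z.1).2 z.1.2, (hker z.2).2 z.2.2, ← hax]
  let q : Q × Q → Q := fun z => ⟨_, hq z⟩
  have hkey : ∀ z : Q × Q, (w (q z) : G)⁻¹ * z.1 ∈ C ∧ (w (q z) : G)⁻¹ * z.2 ∈ C' := by
    rintro ⟨u, v⟩
    set W : G := ((w (q (u, v)) : Q) : G) with hWdef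
    have hWQ : W ∈ Q := (w (q (u, v))).2
    set t := (u : G) * a * (u : G)⁻¹ with ht
    set t' := (v : G) * a' * (v : G)⁻¹ with ht'
    have hWx : W * x * W⁻¹ = t * t' := by
      rw [hWdef, hw]
      show t * t' * (x : G)⁻¹ * x = _
      group
    have htinv : t⁻¹ = t := inv_eq_of_mul_eq_one_left (hinv' _)
    have ht'inv : t'⁻¹ = t' := inv_eq_of_mul_eq_one_left (hinv'' _)
    obtain ⟨s, hs⟩ : ∃ s, s = W⁻¹ * t * W := ⟨_, rfl⟩
    have hsx : s * x * s⁻¹ = (x : G)⁻¹ := by
      have hx' : (x : G) = W⁻¹ * (t * t') * W := by rw [← hWx]; group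
      rw [hx', hs]
      simp only [mul_inv_rev, inv_inv, mul_assoc, mul_inv_cancel_left, inv_mul_cancel_left]
      rw [htinv, ht'inv, ← mul_assoc t t, hinv', one_mul]
    have hsN : s ∈ N := by
      have hinvx : ∀ k ∈ (R : Subgroup G), s * k * s⁻¹ ∈ (R : Subgroup G) := by
        intro k hk
        rw [hRgen] at hk ⊢
        obtain ⟨n, rfl⟩ := hk
        show s * (x : G) ^ n * s⁻¹ ∈ Subgroup.zpowers (x : G)
        rw [← conj_zpow, hsx]
        exact zpow_mem (inv_mem (Subgroup.mem_zpowers _)) n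
      rw [hN, Subgroup.mem_normalizer_iff]
      refine fun k => ⟨hinvx k, fun hk => ?_⟩
      have hss : s * s = 1 := by
        rw [hs]
        calc W⁻¹ * t * W * (W⁻¹ * t * W) = W⁻¹ * (t * t) * W := by group
          _ = 1 := by rw [hinv']; group
      have hsinv : s⁻¹ = s := inv_eq_of_mul_eq_one_left hss
      have := hinvx _ hk
      rw [hsinv, ← mul_assoc, ← mul_assoc, hss, one_mul, mul_assoc, hss, mul_one] at this
      exact this
    have hsa : s = a := hNinj s hsN a haN (by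
      simp [hs, ht, (hker W).2 hWQ, (hker _).2 u.2])
    have htW : t = W * a * W⁻¹ := by rw [← hsa, hs]; group
    constructor
    · refine (hmemC a _).2 ⟨mul_mem (inv_mem hWQ) u.2, ?_⟩
      calc W⁻¹ * u * a = W⁻¹ * t * u := by rw [ht]; group
        _ = a * (W⁻¹ * u) := by rw [htW]; group
    · refine (hmemC a' _).2 ⟨mul_mem (inv_mem hWQ) v.2, ?_⟩
      have ht'W : t' = W * a' * W⁻¹ := by
        have : t' = t⁻¹ * (W * x * W⁻¹) := by rw [hWx, inv_mul_cancel_left]
        rw [this, htW, ← hax]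
        group
      calc W⁻¹ * v * a' = W⁻¹ * t' * v := by rw [ht']; group
        _ = a' * (W⁻¹ * v) := by rw [ht'W]; group
  have hlow : Nat.card Q * Nat.card Q ≤ Nat.card Q * (Nat.card C * Nat.card C') := by
    rw [← Nat.card_prod, ← Nat.card_prod, ← Nat.card_prod]
    refine Nat.card_le_card_of_injective
      (fun z : Q × Q => (q z, (⟨_, (hkey z).1⟩ : C), (⟨_, (hkey z).2⟩ : C'))) ?_
    intro z z' h
    simp only [Prod.mk.injEq, Subtype.mk.injEq] at h
    obtain ⟨h1, h2, h3⟩ := h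
    rw [h1] at h2 h3
    exact Prod.ext (Subtype.ext (mul_left_cancel h2)) (Subtype.ext (mul_left_cancel h3))
  have := Nat.le_of_mul_le_mul_left hlow Nat.card_pos
  rw [sq]
  rw [← hCC] at this hup
  exact le_antisymm hup this

end Cfsg.Agent.S2873
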