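import Cfsg.Statements.S2874
import Cfsg.Agent.Lib.CharP.StronglyEmb

set_option autoImplicit false
set_option linter.style.haveILetI false
open Cfsg

namespace Cfsg.Agent.S2874

theorem two_mul_eq_zero {k : ℕ} (hk : 2 ≤ k) {x : ZMod (2 ^ k)} (hx : 2 * x = 0) :
    x = 0 ∨ x = (2 : ZMod (2 ^ k)) ^ (k - 1) := by
  haveI : NeZero (2 ^ k) := ⟨pow_ne_zero _ two_ne_zero⟩
  have h1 : ((2 * x.val : ℕ) : ZMod (2 ^ k)) = 0 := by
    push_cast
    rw [ZMod.natCast_zmod_val]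
    exact hx
  rw [ZMod.natCast_eq_zero_iff] at h1
  have hk' : 2 ^ k = 2 * 2 ^ (k - 1) := by rw [← pow_succ', show k - 1 + 1 = k by omega]
  obtain ⟨c, hc⟩ := Nat.dvd_of_mul_dvd_mul_left two_pos ((dvd_of_eq hk'.symm).trans h1)
  have hlt : x.val < 2 * 2 ^ (k - 1) := hk' ▸ ZMod.val_lt x
  have hc2 : c < 2 := by
    rw [hc, mul_comm 2] at hlt
    exact Nat.lt_of_mul_lt_mul_left hlt
  interval_cases c
  · left
    exact (ZMod.val_eq_zero x).1 (by rw [hc, mul_zero])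
  · right
    rw [← ZMod.natCast_zmod_val x, hc, mul_one]
    push_cast
    rfl

theorem half_mul_half {k : ℕ} (hk : 2 ≤ k) {x y : ZMod (2 ^ k)} (hx : 2 * x = 0) (hy : 2 * y = 0) :
    x * y = 0 := by
  rcases two_mul_eq_zero hk hx with rfl | rfl
  · exact zero_mul y
  rcases two_mul_eq_zero hk hy with rfl | rfl
  · exact mul_zero _
  rw [← pow_add, show k - 1 + (k - 1) = k + (k - 2) by omega, pow_add,
    show (2 : ZMod (2 ^ k)) ^ k = ((2 ^ k : ℕ) : ZMod (2 ^ k)) by push_cast; rfl, ZMod.natCast_self,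
    zero_mul]

theorem unit_mul_half {k : ℕ} {a x : ZMod (2 ^ k)} (ha : a * a = 1) (hx : 2 * x = 0) : a * x = x := by
  haveI : NeZero (2 ^ k) := ⟨pow_ne_zero _ two_ne_zero⟩
  rw [← ZMod.natCast_zmod_val a] at ha ⊢
  rcases Nat.even_or_odd' a.val with ⟨u, hu | hu⟩ <;> rw [hu] at ha ⊢ <;> push_cast at ha ⊢
  · linear_combination (u : ZMod (2 ^ k)) * hx + x * ha - (2 * (u : ZMod (2 ^ k)) * u) * hx
  · linear_combination (u : ZMod (2 ^ k)) * hx

theorem entry_eq {n : Type*} [Fintype n] [DecidableEq n] {R : Type*} [CommRing R] {u w : GL n R}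
    (h : u = w) (i j : n) : (u : Matrix n n R) i j = (w : Matrix n n R) i j := by rw [h]

/-- The standard element of order 3. -/
def g0 (k : ℕ) : GL (Fin 2) (ZMod (2 ^ k)) :=
  ⟨!![0, -1; 1, -1], !![-1, 1; -1, 0],
    by ext i j; fin_cases i <;> fin_cases j <;> simp [Matrix.mul_apply, Fin.sum_univ_two],
    by ext i j; fin_cases i <;> fin_cases j <;> simp [Matrix.mul_apply, Fin.sum_univ_two]⟩

theorem g0_pow (k : ℕ) : g0 k ^ 3 = 1 := by
  refine Units.ext ?_
  ext i j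
  fin_cases i <;> fin_cases j <;> simp [g0, pow_succ, Matrix.mul_apply, Fin.sum_univ_two]

theorem eq_of_offdiag {k : ℕ} (hk : 2 ≤ k) (v : GL (Fin 2) (ZMod (2 ^ k)))
    (hdet : (v : Matrix (Fin 2) (Fin 2) (ZMod (2 ^ k))).det = 1) (hv2 : v * v = 1)
    (hrel : v * (g0 k * v * (g0 k)⁻¹) * (g0 k * g0 k * v * (g0 k)⁻¹ * (g0 k)⁻¹) = 1) :
    v.val 1 1 = v.val 0 0 ∧ 2 * v.val 0 1 = 0 ∧ 2 * v.val 1 0 = 0 ∧
      v.val 0 0 + v.val 0 1 + v.val 1 0 = 1 := by
  set A := v.val with hA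
  have hinv : A.adjugate = A := by
    have h1 : A * A = 1 := congrArg Units.val hv2
    calc A.adjugate = A.adjugate * (A * A) := by rw [h1, mul_one]
      _ = A := by rw [← mul_assoc, Matrix.adjugate_mul, hdet, one_smul, one_mul]
  have hd : A 1 1 = A 0 0 := by
    have := congrFun (congrFun hinv 0) 0
    simpa [Matrix.adjugate_fin_two] using this
  have hb : 2 * A 0 1 = 0 := by
    have := congrFun (congrFun hinv 0) 1
    simp [Matrix.adjugate_fin_two] at this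
    linear_combination -this
  have hc : 2 * A 1 0 = 0 := by
    have := congrFun (congrFun hinv 1) 0
    simp [Matrix.adjugate_fin_two] at this
    linear_combination -this
  refine ⟨hd, hb, hc, ?_⟩
  have hbc := half_mul_half hk hb hc
  have hbb := half_mul_half hk hb hb
  have hcc := half_mul_half hk hc hc
  have haa : A 0 0 * A 0 0 = 1 := by
    rw [Matrix.det_fin_two, hd] at hdet
    linear_combination hdet + hbc
  have hab := unit_mul_half haa hb
  have hac := unit_mul_half haa hc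
  have h := entry_eq hrel 0 0
  simp only [g0, Units.val_mul, Units.val_one, Units.inv_mk, ← hA] at h
  rw [Matrix.eta_fin_two A] at h
  simp [Matrix.mul_apply, Fin.sum_univ_two] at h
  rw [hd] at h
  ring_nf at h ⊢
  grind

theorem kernel_pow {k : ℕ} {A : Matrix (Fin 2) (Fin 2) (ZMod (2 ^ k))}
    (hA : ∃ Y, A = 1 + (2 : ZMod (2 ^ k)) • Y) : A ^ 2 ^ k = 1 := by
  have key : ∀ j : ℕ, ∃ Y, A ^ 2 ^ j = 1 + ((2 : ZMod (2 ^ k)) ^ (j + 1)) • Y := by
    intro j
    induction j with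
    | zero => simpa using hA
    | succ j ih =>
      obtain ⟨Y, hY⟩ := ih
      refine ⟨Y + ((2 : ZMod (2 ^ k)) ^ j) • (Y * Y), ?_⟩
      rw [pow_succ, pow_mul, hY, sq, add_mul, one_mul, mul_add, mul_one, Matrix.smul_mul,
        Matrix.mul_smul, smul_smul, smul_add, smul_smul]
      have e1 : (2 : ZMod (2 ^ k)) ^ (j + 1 + 1) • Y = (2 : ZMod (2 ^ k)) ^ (j + 1) • Y + (2 : ZMod (2 ^ k)) ^ (j + 1) • Y := by
        rw [← add_smul]; congr 1; ring
      have e2 : (2 : ZMod (2 ^ k)) ^ (j + 1 + 1) * 2 ^ j = 2 ^ (j + 1) * 2 ^ (j + 1) := by ring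
      rw [e1, e2]
      abel
  obtain ⟨Y, hY⟩ := key k
  rw [hY, pow_succ, show (2 : ZMod (2 ^ k)) ^ k = ((2 ^ k : ℕ) : ZMod (2 ^ k)) by push_cast; rfl,
    ZMod.natCast_self, zero_mul, zero_smul, add_zero]

theorem card_le_three {k : ℕ} (hk : 1 ≤ k) {P : Subgroup (GL (Fin 2) (ZMod (2 ^ k)))}
    (hP : IsPGroup 3 P) : Nat.card P ≤ 3 := by
  haveI : NeZero (2 ^ k) := ⟨pow_ne_zero _ two_ne_zero⟩
  have h2 : 2 ∣ 2 ^ k := dvd_pow_self 2 (by omega)
  let r := Matrix.GeneralLinearGroup.map (n := Fin 2) (ZMod.castHom h2 (ZMod 2))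
  have hinj : Function.Injective (r.comp P.subtype) := by
    refine (injective_iff_map_eq_one _).2 fun x hx => ?_
    have hx' : ∀ i j, ZMod.castHom h2 (ZMod 2) ((x : GL (Fin 2) (ZMod (2 ^ k))).val i j) =
        (1 : Matrix (Fin 2) (Fin 2) (ZMod 2)) i j := fun i j => entry_eq (show r (x : GL (Fin 2) (ZMod (2 ^ k))) = 1 from hx) i j
    have hY : ∀ i j, ∃ y : ZMod (2 ^ k),
        (x : GL (Fin 2) (ZMod (2 ^ k))).val i j = (1 : Matrix (Fin 2) (Fin 2) (ZMod (2 ^ k))) i j + 2 * y := by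
      intro i j
      set d := (x : GL (Fin 2) (ZMod (2 ^ k))).val i j - (1 : Matrix (Fin 2) (Fin 2) (ZMod (2 ^ k))) i j with hd
      have h0 : ZMod.castHom h2 (ZMod 2) d = 0 := by
        rw [hd, map_sub, hx', sub_eq_zero]
        by_cases hij : i = j
        · subst hij; rw [Matrix.one_apply_eq, Matrix.one_apply_eq, map_one]
        · rw [Matrix.one_apply_ne hij, Matrix.one_apply_ne hij, map_zero]
      rw [← ZMod.natCast_zmod_val d, map_natCast, ZMod.natCast_eq_zero_iff] at h0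
      obtain ⟨y, hy⟩ := h0
      refine ⟨(y : ZMod (2 ^ k)), ?_⟩
      have : d = 2 * (y : ZMod (2 ^ k)) := by
        rw [← ZMod.natCast_zmod_val d, hy]
        push_cast
        rfl
      linear_combination this + hd
    choose Y hY using hY
    have h1 := kernel_pow (A := (x : GL (Fin 2) (ZMod (2 ^ k))).val) ⟨Matrix.of Y, by
      ext i j; simp [hY i j]⟩
    have h3 : (x : GL (Fin 2) (ZMod (2 ^ k))) ^ 2 ^ k = 1 := Units.ext (by rw [Units.val_pow_eq_pow_val]; exact h1)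
    obtain ⟨n, hn⟩ := hP x
    refine Subtype.ext (orderOf_eq_one_iff.1 (Nat.eq_one_of_dvd_coprimes
      (Nat.Coprime.pow k n (by norm_num : Nat.Coprime 2 3)) (orderOf_dvd_of_pow_eq_one h3)
      (orderOf_dvd_of_pow_eq_one (by simpa using congrArg Subtype.val hn))))
  haveI : Fact (Nat.Prime 3) := ⟨Nat.prime_three⟩
  obtain ⟨n, hn⟩ := IsPGroup.iff_card.1 hP
  have hd := Subgroup.card_dvd_of_injective _ hinj
  have h6 : Nat.card (GL (Fin 2) (ZMod 2)) = 6 := by
    rw [Matrix.card_GL_field]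
    decide
  rw [h6, hn] at hd
  rw [hn]
  rcases n with _ | _ | n
  · norm_num
  · norm_num
  · exfalso
    have : 9 ∣ 6 := dvd_trans ⟨3 ^ n, by ring⟩ hd
    omega

theorem alt4_facts :
    (∃ g : ↥(alternatingGroup (Fin 4)), g * g * g = 1 ∧ g ≠ 1) ∧
    ∀ g : ↥(alternatingGroup (Fin 4)), g * g * g = 1 → g ≠ 1 →
      (∀ v : ↥(alternatingGroup (Fin 4)), v * v = 1 →
        v * (g * v * g⁻¹) * (g * g * v * g⁻¹ * g⁻¹) = 1 ∧ ∃ u, v = u * g * u⁻¹ * g⁻¹) ∧
      (∀ x : ↥(alternatingGroup (Fin 4)), ∃ v, v * v = 1 ∧ (x = v ∨ x = v * g ∨ x = v * g * g)) := by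
  decide +kernel

theorem alt4_card : Nat.card {v : ↥(alternatingGroup (Fin 4)) // v * v = 1} = 4 := by
  rw [Nat.card_eq_fintype_card]
  decide +kernel

/-- A subgroup `≅ A₄` containing `g0` is generated by `g0` and a fixed set of four elements. -/
theorem eq_of_g0_mem {k : ℕ} (hk : 2 ≤ k) {H₁ H₂ : Subgroup (GL (Fin 2) (ZMod (2 ^ k)))}
    (e₁ : ↥H₁ ≃* ↥(alternatingGroup (Fin 4))) (e₂ : ↥H₂ ≃* ↥(alternatingGroup (Fin 4)))
    (h₁ : g0 k ∈ H₁) (h₂ : g0 k ∈ H₂) : H₁ = H₂ := by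
  classical
  haveI : NeZero (2 ^ k) := ⟨pow_ne_zero _ two_ne_zero⟩
  haveI : Fact (1 < 2 ^ k) := ⟨Nat.one_lt_pow (by omega) one_lt_two⟩
  have hne : g0 k ≠ 1 := by
    intro h
    have := entry_eq h 1 0
    simp [g0] at this
  let T : Set (GL (Fin 2) (ZMod (2 ^ k))) := {v | (v : Matrix (Fin 2) (Fin 2) (ZMod (2 ^ k))).det = 1 ∧
    v * v = 1 ∧ v * (g0 k * v * (g0 k)⁻¹) * (g0 k * g0 k * v * (g0 k)⁻¹ * (g0 k)⁻¹) = 1}
  have hT : Nat.card T ≤ 4 := by
    let enc : T → Bool × Bool := fun v => (decide (v.1.val 0 1 = 0), decide (v.1.val 1 0 = 0))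
    have : Function.Injective enc := by
      rintro ⟨v, hv1, hv2, hv3⟩ ⟨w, hw1, hw2, hw3⟩ h
      obtain ⟨hvd, hvb, hvc, hva⟩ := eq_of_offdiag hk v hv1 hv2 hv3
      obtain ⟨hwd, hwb, hwc, hwa⟩ := eq_of_offdiag hk w hw1 hw2 hw3
      simp only [enc, Prod.mk.injEq, decide_eq_decide] at h
      have hh : ∀ x y : ZMod (2 ^ k), 2 * x = 0 → 2 * y = 0 → (x = 0 ↔ y = 0) → x = y := by
        intro x y hx hy hxy
        rcases two_mul_eq_zero hk hx with hx' | hx' <;> rcases two_mul_eq_zero hk hy with hy' | hy'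
        · rw [hx', hy']
        · exact (hxy.1 hx').symm ▸ hx'
        · exact (hxy.2 hy').symm ▸ hy'.symm
        · rw [hx', hy']
      have e01 : v.val 0 1 = w.val 0 1 := hh _ _ hvb hwb h.1
      have e10 : v.val 1 0 = w.val 1 0 := hh _ _ hvc hwc h.2
      have e00 : v.val 0 0 = w.val 0 0 := by linear_combination hva - hwa - e01 - e10
      have e11 : v.val 1 1 = w.val 1 1 := by rw [hvd, hwd, e00]
      refine Subtype.ext (Units.ext ?_)
      ext i j
      fin_cases i <;> fin_cases j <;> assumption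
    calc Nat.card T ≤ Nat.card (Bool × Bool) := Nat.card_le_card_of_injective enc this
      _ = 4 := by simp
  have main : ∀ (H : Subgroup (GL (Fin 2) (ZMod (2 ^ k)))) (e : ↥H ≃* ↥(alternatingGroup (Fin 4))),
      g0 k ∈ H → H = Subgroup.closure (T ∪ {g0 k}) := by
    intro H e hg
    set g : H := ⟨g0 k, hg⟩ with hgdef
    have hg3 : e g * e g * e g = 1 := by
      rw [← map_mul, ← map_mul, ← map_one e]
      congr 1
      exact Subtype.ext (by simpa [pow_succ] using g0_pow k)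
    have hg1 : e g ≠ 1 := fun h => hne (congrArg Subtype.val ((map_eq_one_iff e e.injective).1 h))
    obtain ⟨hrel, hgen⟩ := alt4_facts.2 (e g) hg3 hg1
    have hin : ∀ v : H, v * v = 1 → (v : GL (Fin 2) (ZMod (2 ^ k))) ∈ T := by
      intro v hv
      obtain ⟨hr, u, hu⟩ := hrel (e v) (by rw [← map_mul, hv, map_one])
      obtain ⟨u', rfl⟩ := e.surjective u
      have hu' : v = u' * g * u'⁻¹ * g⁻¹ := e.injective (by simpa using hu)
      have hr' : v * (g * v * g⁻¹) * (g * g * v * g⁻¹ * g⁻¹) = 1 := e.injective (by simpa using hr)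
      refine ⟨?_, congrArg Subtype.val hv, congrArg Subtype.val hr'⟩
      have h1 : Matrix.GeneralLinearGroup.det (v : GL (Fin 2) (ZMod (2 ^ k))) = 1 := by
        rw [hu']
        simp [mul_comm]
      exact congrArg Units.val h1
    have hcard : Nat.card {v : H // v * v = 1} = 4 := by
      rw [← alt4_card]
      exact Nat.card_congr (e.toEquiv.subtypeEquiv fun v => by
        show v * v = 1 ↔ e v * e v = 1
        rw [← map_mul, map_eq_one_iff e e.injective])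
    let inc : {v : H // v * v = 1} → T := fun v => ⟨_, hin v.1 v.2⟩
    have hinc : Function.Surjective inc :=
      (Function.Injective.bijective_of_nat_card_le (f := inc)
        (fun a b h => Subtype.ext (Subtype.ext (by simpa [inc] using h))) (hT.trans hcard.ge)).2
    refine le_antisymm (fun x hx => ?_) ((Subgroup.closure_le _).2 ?_)
    · obtain ⟨v, hv, hxv⟩ := hgen (e ⟨x, hx⟩)
      obtain ⟨v', rfl⟩ := e.surjective v
      have hv' : v' * v' = 1 := e.injective (by simpa using hv)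
      have m1 : (v' : GL (Fin 2) (ZMod (2 ^ k))) ∈ Subgroup.closure (T ∪ {g0 k}) :=
        Subgroup.subset_closure (Or.inl (hin v' hv'))
      have m2 : g0 k ∈ Subgroup.closure (T ∪ {g0 k}) := Subgroup.subset_closure (Or.inr rfl)
      rcases hxv with h | h | h
      · have : (⟨x, hx⟩ : H) = v' := e.injective h
        exact (show x = _ from congrArg Subtype.val this) ▸ m1
      · have : (⟨x, hx⟩ : H) = v' * g := e.injective (by simpa using h)
        exact (show x = _ from congrArg Subtype.val this) ▸ mul_mem m1 m2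
      · have : (⟨x, hx⟩ : H) = v' * g * g := e.injective (by simpa using h)
        exact (show x = _ from congrArg Subtype.val this) ▸ mul_mem (mul_mem m1 m2) m2
    · rintro y (hy | hy)
      · obtain ⟨v, hv⟩ := hinc ⟨y, hy⟩
        exact (show (v.1 : GL (Fin 2) (ZMod (2 ^ k))) = y from congrArg Subtype.val hv) ▸ v.1.2
      · rw [Set.mem_singleton_iff.1 hy]
        exact hg
  rw [main H₁ e₁ h₁, main H₂ e₂ h₂]

theorem exists_conj_g0_mem {k : ℕ} (hk : 2 ≤ k) (H : Subgroup (GL (Fin 2) (ZMod (2 ^ k))))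
    (e : ↥H ≃* ↥(alternatingGroup (Fin 4))) :
    ∃ c, g0 k ∈ H.map (MulAut.conj c).toMonoidHom := by
  haveI : NeZero (2 ^ k) := ⟨pow_ne_zero _ two_ne_zero⟩
  haveI : Fact (1 < 2 ^ k) := ⟨Nat.one_lt_pow (by omega) one_lt_two⟩
  haveI : Fact (Nat.Prime 3) := ⟨Nat.prime_three⟩
  obtain ⟨g, hg3, hg1⟩ := alt4_facts.1
  set x : H := e.symm g with hx
  have hx3 : (x : GL (Fin 2) (ZMod (2 ^ k))) ^ 3 = 1 := by
    have : x ^ 3 = 1 := by
      rw [hx, ← map_pow, show g ^ 3 = g * g * g by rw [pow_succ, sq], hg3, map_one]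
    simpa using congrArg Subtype.val this
  have hx1 : (x : GL (Fin 2) (ZMod (2 ^ k))) ≠ 1 := fun h => hg1 (by
    have : x = 1 := Subtype.ext h
    simpa [hx] using this)
  have hg0 : g0 k ≠ 1 := by
    intro h
    have := entry_eq h 1 0
    simp [g0] at this
  have hsyl : ∀ y : GL (Fin 2) (ZMod (2 ^ k)), y ^ 3 = 1 → y ≠ 1 →
      ∃ S : Sylow 3 (GL (Fin 2) (ZMod (2 ^ k))), (S : Subgroup _) = Subgroup.zpowers y := by
    intro y hy hy1
    obtain ⟨S, hS⟩ := (Lib.CharP.isPGroup_zpowers (p := 3) (u := y) (n := 1) (by simpa using hy)).exists_le_sylow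
    refine ⟨S, (Subgroup.eq_of_le_of_card_ge hS ?_).symm⟩
    rw [Nat.card_zpowers, orderOf_eq_prime hy hy1]
    exact card_le_three (by omega) S.isPGroup'
  obtain ⟨S, hS⟩ := hsyl _ hx3 hx1
  obtain ⟨S', hS'⟩ := hsyl _ (g0_pow k) hg0
  obtain ⟨c, hc⟩ := MulAction.exists_smul_eq (GL (Fin 2) (ZMod (2 ^ k))) S S'
  have hmem : g0 k ∈ (S' : Subgroup _) := hS' ▸ Subgroup.mem_zpowers _
  rw [← hc] at hmem
  obtain ⟨y, hy, hyg⟩ := hmem
  rw [SetLike.mem_coe, hS] at hy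
  exact ⟨c, y, (Subgroup.zpowers_le.2 x.2) hy, hyg⟩

/-- For k ≥ 2, any two subgroups of GL₂(ℤ/2ᵏℤ) (the automorphism group of the homocyclic group ℤ/2ᵏ × ℤ/2ᵏ) that are isomorphic to the alternating group of degree 4 are conjugate. -/
theorem result (k : ℕ) (hk : 2 ≤ k) (H₁ H₂ : Subgroup (GL (Fin 2) (ZMod (2 ^ k)))) (h₁ : Nonempty (↥H₁ ≃* ↥(alternatingGroup (Fin 4)))) (h₂ : Nonempty (↥H₂ ≃* ↥(alternatingGroup (Fin 4)))) : ∃ g : GL (Fin 2) (ZMod (2 ^ k)), H₂ = H₁.map (MulAut.conj g).toMonoidHom := by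
  obtain ⟨e₁⟩ := h₁
  obtain ⟨e₂⟩ := h₂
  obtain ⟨c₁, hc₁⟩ := exists_conj_g0_mem hk H₁ e₁
  obtain ⟨c₂, hc₂⟩ := exists_conj_g0_mem hk H₂ e₂
  have e1' : ↥(H₁.map (MulAut.conj c₁).toMonoidHom) ≃* ↥(alternatingGroup (Fin 4)) :=
    (H₁.equivMapOfInjective _ (MulAut.conj c₁).injective).symm.trans e₁
  have e2' : ↥(H₂.map (MulAut.conj c₂).toMonoidHom) ≃* ↥(alternatingGroup (Fin 4)) :=
    (H₂.equivMapOfInjective _ (MulAut.conj c₂).injective).symm.trans e₂
  have h := eq_of_g0_mem hk e1' e2' hc₁ hc₂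
  refine ⟨c₂⁻¹ * c₁, ?_⟩
  have h' := congrArg (Subgroup.map (MulAut.conj c₂⁻¹).toMonoidHom) h
  rw [Subgroup.map_map, Subgroup.map_map] at h'
  have i1 : (MulAut.conj c₂⁻¹).toMonoidHom.comp (MulAut.conj c₁).toMonoidHom =
      (MulAut.conj (c₂⁻¹ * c₁)).toMonoidHom := by
    ext x; simp [mul_assoc]
  have i2 : (MulAut.conj c₂⁻¹).toMonoidHom.comp (MulAut.conj c₂).toMonoidHom =
      MonoidHom.id _ := by
    ext x; simp [mul_assoc]
  rw [i1, i2, Subgroup.map_id] at h'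
  exact h'.symm

end Cfsg.Agent.S2874
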