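import Cfsg.Statements.S2879
import Cfsg.Agent.Lib.TwoGroups.QuasiDihedral
import Cfsg.Agent.Lib.PGroups.SLTwoThree
import Cfsg.Agent.Lib.PGroups.Recognition
import Cfsg.Agent.Lib.Cores.Basic
import Cfsg.Agent.Lib.CharP.Basic
import Cfsg.Agent.Lib.Coprime.Conjugacy

set_option autoImplicit false
set_option linter.style.haveILetI false
open Cfsg
open scoped commutatorElement

namespace Cfsg.Agent.S2879

/-- The common structure of dihedral and semidihedral 2-groups. -/
def HasCyclicData (T : Type*) [Group T] : Prop :=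
  ∃ C : Subgroup T, IsCyclic C ∧ C.index = 2 ∧ ∃ z ∈ C, orderOf z = 2 ∧ Subgroup.center T = Subgroup.zpowers z ∧
    ∀ t, t ∉ C → t ^ 4 = 1

theorem HasCyclicData.of_mulEquiv {T T' : Type*} [Group T] [Group T'] (e : T ≃* T') (h : HasCyclicData T') :
    HasCyclicData T := by
  obtain ⟨C, hC, hidx, z, hz, hz2, hcen, hout⟩ := h
  refine ⟨C.map e.symm.toMonoidHom, ?_, ?_, e.symm z, ⟨z, hz, rfl⟩, ?_, ?_, fun t ht => ?_⟩
  · haveI := hC
    exact isCyclic_of_surjective _ (C.equivMapOfInjective e.symm.toMonoidHom e.symm.injective).surjective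
  · rw [← hidx]
    exact C.index_map_equiv e.symm
  · rw [← hz2]; exact MulEquiv.orderOf_eq e.symm z
  · ext t
    rw [Subgroup.mem_zpowers_iff]
    constructor
    · intro ht
      have h1 : e t ∈ Subgroup.zpowers z := by
        rw [← hcen, Subgroup.mem_center_iff]
        intro g
        obtain ⟨g', rfl⟩ := e.surjective g
        rw [← map_mul, ← map_mul, Subgroup.mem_center_iff.1 ht g']
      obtain ⟨k, hk⟩ := Subgroup.mem_zpowers_iff.1 h1
      exact ⟨k, by rw [← map_zpow, hk, MulEquiv.symm_apply_apply]⟩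
    · rintro ⟨k, rfl⟩
      refine zpow_mem (Subgroup.mem_center_iff.2 fun g => e.injective ?_) k
      have h1 : z ∈ Subgroup.center T' := hcen ▸ Subgroup.mem_zpowers z
      rw [map_mul, map_mul, MulEquiv.apply_symm_apply]
      exact Subgroup.mem_center_iff.1 h1 (e g)
  · have h1 : e t ∉ C := fun h => ht ⟨e t, h, e.symm_apply_apply t⟩
    exact e.injective (by rw [map_pow, hout _ h1, map_one])

theorem hasCyclicData_dihedral {n : ℕ} (hn : 4 ≤ n) (hev : 2 ∣ n) : HasCyclicData (DihedralGroup n) := by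
  haveI : NeZero n := ⟨by omega⟩
  obtain ⟨m, rfl⟩ := hev
  have hm : 2 * m = 2 * m := rfl
  refine ⟨Subgroup.zpowers (DihedralGroup.r 1), inferInstance, ?_, DihedralGroup.r ((m : ℕ) : ZMod (2 * m)),
    Subgroup.mem_zpowers_iff.2 ⟨(m : ℤ), by simp⟩, ?_, ?_, ?_⟩
  · rw [Subgroup.index_eq_two_iff]
    refine ⟨DihedralGroup.sr 0, fun b => ?_⟩
    have hr : ∀ i : ZMod (2 * m), DihedralGroup.r i ∈ Subgroup.zpowers (DihedralGroup.r (1 : ZMod (2 * m))) :=
      fun i => Subgroup.mem_zpowers_iff.2 ⟨(i.val : ℤ), by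
        rw [zpow_natCast, DihedralGroup.r_one_pow, ZMod.natCast_zmod_val]⟩
    have hs : ∀ i : ZMod (2 * m), DihedralGroup.sr i ∉ Subgroup.zpowers (DihedralGroup.r (1 : ZMod (2 * m))) := by
      intro i h
      obtain ⟨k, hk⟩ := Subgroup.mem_zpowers_iff.1 h
      rw [DihedralGroup.r_one_zpow] at hk
      cases hk
    cases b with
    | r i => exact Or.inr ⟨hr i, by rw [DihedralGroup.r_mul_sr]; exact hs _⟩
    | sr i => exact Or.inl ⟨by rw [DihedralGroup.sr_mul_sr]; exact hr _, hs i⟩
  · refine orderOf_eq_prime ?_ fun h => ?_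
    · rw [sq, DihedralGroup.r_mul_r, ← Nat.cast_add, ← two_mul, ZMod.natCast_self]
      rfl
    · rw [← DihedralGroup.r_zero] at h
      have h1 := (ZMod.natCast_eq_zero_iff _ _).1 (DihedralGroup.r.inj h)
      have := Nat.le_of_dvd (by omega) h1
      omega
  · refine le_antisymm (fun t ht => ?_) (Subgroup.zpowers_le.2 (Subgroup.mem_center_iff.2 fun g => ?_))
    · cases t with
      | sr i =>
        exfalso
        have h := Subgroup.mem_center_iff.1 ht (DihedralGroup.r 1)
        rw [DihedralGroup.r_mul_sr, DihedralGroup.sr_mul_r] at h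
        have h2 : ((2 : ℕ) : ZMod (2 * m)) = 0 := by
          push_cast
          linear_combination -(DihedralGroup.sr.inj h)
        have h1 := Nat.le_of_dvd (by omega) ((ZMod.natCast_eq_zero_iff _ _).1 h2)
        omega
      | r i =>
        have h := Subgroup.mem_center_iff.1 ht (DihedralGroup.sr 0)
        rw [DihedralGroup.sr_mul_r, DihedralGroup.r_mul_sr] at h
        have h2 : ((2 * i.val : ℕ) : ZMod (2 * m)) = 0 := by
          rw [Nat.cast_mul, ZMod.natCast_zmod_val]
          push_cast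
          linear_combination DihedralGroup.sr.inj h
        obtain ⟨c, hc⟩ := Nat.dvd_of_mul_dvd_mul_left two_pos ((ZMod.natCast_eq_zero_iff _ _).1 h2)
        have : i = ((m * c : ℕ) : ZMod (2 * m)) := by rw [← hc, ZMod.natCast_zmod_val]
        refine Subgroup.mem_zpowers_iff.2 ⟨(c : ℤ), ?_⟩
        rw [zpow_natCast, DihedralGroup.r_pow, this]
        push_cast
        rfl
    · have h0 : ((m : ℕ) : ZMod (2 * m)) + (m : ℕ) = 0 := by
        rw [← Nat.cast_add, ← two_mul, ZMod.natCast_self]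
      cases g with
      | r i => rw [DihedralGroup.r_mul_r, DihedralGroup.r_mul_r, add_comm]
      | sr i =>
        rw [DihedralGroup.r_mul_sr, DihedralGroup.sr_mul_r]
        congr 1
        linear_combination h0
  · intro t ht
    cases t with
    | r i => exact absurd (Subgroup.mem_zpowers_iff.2 ⟨(i.val : ℤ), by
        rw [zpow_natCast, DihedralGroup.r_one_pow, ZMod.natCast_zmod_val]⟩) ht
    | sr i =>
      rw [show (4 : ℕ) = 2 * 2 from rfl, pow_mul, sq (DihedralGroup.sr i), DihedralGroup.sr_mul_self, one_pow]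

theorem hasCyclicData_quasiDihedral {T : Type*} [Group T] (hT : Cfsg.IsQuasiDihedral T) :
    HasCyclicData T := by
  obtain ⟨k, x, y, D⟩ := Lib.TwoGroups.QuasiDihedral.exists_QD hT
  have h2 := Lib.TwoGroups.QuasiDihedral.orderOf_half D
  refine ⟨Subgroup.zpowers x, inferInstance, ?_, _, ?_, h2,
    Lib.TwoGroups.QuasiDihedral.center_eq D, fun t ht => ?_⟩
  · haveI : Finite T := Nat.finite_of_card_ne_zero (by
      rw [Lib.TwoGroups.QuasiDihedral.card_eq D]; positivity)
    have h := (Subgroup.zpowers x).card_mul_index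
    rw [Nat.card_zpowers, D.orderOf_x, Lib.TwoGroups.QuasiDihedral.card_eq D,
      show 2 ^ (k + 4) = 2 ^ (k + 3) * 2 by rw [pow_succ]] at h
    exact Nat.eq_of_mul_eq_mul_left (pow_pos two_pos _) h
  · exact pow_mem (Subgroup.mem_zpowers x) _
  · rcases D.cases t with ⟨i, rfl⟩ | ⟨i, rfl⟩
    · exact absurd (pow_mem (Subgroup.mem_zpowers x) _) ht
    · rcases Lib.TwoGroups.QuasiDihedral.zmod_two_cases (Lib.TwoGroups.QuasiDihedral.par k i) with h | h
      · rw [show (4 : ℕ) = 2 * 2 from rfl, pow_mul]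
        have := pow_orderOf_eq_one (Lib.TwoGroups.Recognition.powZ (2 ^ (k + 3)) x i * y)
        rw [Lib.TwoGroups.QuasiDihedral.orderOf_outer_even D h] at this
        rw [this, one_pow]
      · have := pow_orderOf_eq_one (Lib.TwoGroups.Recognition.powZ (2 ^ (k + 3)) x i * y)
        rwa [Lib.TwoGroups.QuasiDihedral.orderOf_outer_odd D h] at this

/-- An element of odd order is a power of its `2 ^ k`-th power. -/
theorem mem_zpowers_pow_two {G : Type*} [Group G] {x : G} (hx : (orderOf x).Coprime 2) (k : ℕ) :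
    x ∈ Subgroup.zpowers (x ^ 2 ^ k) := by
  obtain ⟨m, hm⟩ := exists_pow_eq_self_of_coprime (show Nat.Coprime (2 ^ k) (orderOf x) from
    (hx.pow_right k).symm)
  exact Subgroup.mem_zpowers_iff.2 ⟨(m : ℤ), by rw [zpow_natCast, hm]⟩

theorem quat_center : Nat.card (Subgroup.center (QuaternionGroup 2)) ≤ 2 := by
  rw [Nat.card_eq_fintype_card]
  decide +kernel

theorem quat_aut_card : Nat.card (MulAut (QuaternionGroup 2)) ≤ 24 := by
  let f : MulAut (QuaternionGroup 2) →
      {p : QuaternionGroup 2 × QuaternionGroup 2 // p.1 * p.1 ≠ 1 ∧ p.2 * p.2 ≠ 1 ∧ p.1 * p.2 ≠ p.2 * p.1} :=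
    fun φ => ⟨(φ (.a 1), φ (.xa 0)), by
      refine ⟨?_, ?_, ?_⟩ <;> simp only [← map_mul, ne_eq, map_eq_one_iff φ φ.injective, φ.injective.eq_iff] <;>
        decide⟩
  have hf : Function.Injective f := by
    intro φ ψ h
    have h' := congrArg Subtype.val h
    simp only [f, Prod.mk.injEq] at h'
    refine MulEquiv.ext fun x => ?_
    rw [Lib.PGroups.mulEquiv_eq_quatFun φ, Lib.PGroups.mulEquiv_eq_quatFun ψ, h'.1, h'.2]
  refine (Nat.card_le_card_of_injective f hf).trans ?_
  rw [Nat.card_eq_fintype_card]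
  decide +kernel

/-- Let G be a finite solvable group with O(G) = 1 whose Sylow 2-subgroup T is dihedral of order at least 8 or semidihedral, with G ≠ T and Z(T) normal in G. Then G has a normal subgroup isomorphic to SL₂(3). -/
theorem result {G : Type*} [Group G] [Finite G] (hsol : IsSolvable G) (hO : Cfsg.oddCore G = ⊥) (T : Sylow 2 G) (hT : (∃ n : ℕ, 4 ≤ n ∧ Nonempty (↥(T : Subgroup G) ≃* DihedralGroup n)) ∨ Cfsg.IsQuasiDihedral ↥(T : Subgroup G)) (hne : (T : Subgroup G) ≠ ⊤) (hZ : ((T : Subgroup G) ⊓ Subgroup.centralizer ((T : Subgroup G) : Set G)).Normal) : ∃ U : Subgroup G, U.Normal ∧ Nonempty (↥U ≃* Matrix.SpecialLinearGroup (Fin 2) (ZMod 3)) := by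
  haveI : Group.IsSolvable G := hsol
  haveI : Fact (Nat.Prime 2) := ⟨Nat.prime_two⟩
  obtain ⟨aT, hcardT⟩ := IsPGroup.iff_card.1 T.isPGroup'
  have hdata : HasCyclicData ↥(T : Subgroup G) := by
    rcases hT with ⟨n, hn, ⟨e⟩⟩ | h
    · refine HasCyclicData.of_mulEquiv e (hasCyclicData_dihedral hn ?_)
      have h1 : 2 * n = 2 ^ aT := by
        rw [← hcardT, Nat.card_congr e.toEquiv, DihedralGroup.nat_card]
      rcases aT with _ | _ | a
      · omega
      · omega
      · exact ⟨2 ^ a, by rw [pow_succ', pow_succ'] at h1; omega⟩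
    · exact hasCyclicData_quasiDihedral h
  obtain ⟨C₁, hC₁, hidx, z₁, hz₁C, hz₁, hcen, hout⟩ := hdata
  set z : G := (z₁ : G) with hzdef
  set C : Subgroup G := C₁.map (T : Subgroup G).subtype with hCdef
  set Q := pCore 2 G with hQdef
  have hQ2 : IsPGroup 2 Q := Lib.Cores.pCore_isPGroup 2
  have hQT : Q ≤ (T : Subgroup G) := Lib.Cores.pCore_le_sylow T
  have hz2 : orderOf z = 2 := by rw [hzdef, Subgroup.orderOf_coe, hz₁]
  -- `z` is central in `G`
  have hzcen : ∀ g : G, g * z * g⁻¹ = z := by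
    intro g
    have hmem : z ∈ (T : Subgroup G) ⊓ Subgroup.centralizer ((T : Subgroup G) : Set G) := by
      refine ⟨z₁.2, Subgroup.mem_centralizer_iff.2 fun t ht => ?_⟩
      have h1 : z₁ ∈ Subgroup.center ↥(T : Subgroup G) := hcen ▸ Subgroup.mem_zpowers z₁
      exact congrArg Subtype.val (Subgroup.mem_center_iff.1 h1 ⟨t, ht⟩)
    have h2 := hZ.conj_mem _ hmem g
    have h3 : (⟨_, h2.1⟩ : ↥(T : Subgroup G)) ∈ Subgroup.center ↥(T : Subgroup G) :=
      Subgroup.mem_center_iff.2 fun t => Subtype.ext (Subgroup.mem_centralizer_iff.1 h2.2 _ t.2)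
    rw [hcen, Subgroup.mem_zpowers_iff] at h3
    obtain ⟨k, hk⟩ := h3
    have hk' : z ^ k = g * z * g⁻¹ := by simpa using congrArg Subtype.val hk
    have hzz : z ^ (2 : ℤ) = 1 := by
      have := pow_orderOf_eq_one z
      rw [hz2] at this
      rwa [zpow_ofNat]
    rcases Int.even_or_odd' k with ⟨c, rfl | rfl⟩
    · exfalso
      rw [zpow_mul, hzz, one_zpow] at hk'
      have h4 := hk'.symm
      rw [conj_eq_one_iff] at h4
      rw [h4, orderOf_one] at hz2
      omega
    · rw [zpow_add_one, zpow_mul, hzz, one_zpow, one_mul] at hk'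
      exact hk'.symm
  have hzQ : z ∈ Q := by
    haveI : (Subgroup.zpowers z).Normal := ⟨fun n hn g => by
      obtain ⟨k, rfl⟩ := Subgroup.mem_zpowers_iff.1 hn
      rw [← conj_zpow, hzcen]
      exact zpow_mem (Subgroup.mem_zpowers z) k⟩
    exact Lib.Cores.le_pCore (IsPGroup.of_card (n := 1) (by rw [Nat.card_zpowers, hz2, pow_one]))
      (Subgroup.mem_zpowers z)
  have hzC : z ∈ C := ⟨z₁, hz₁C, rfl⟩
  -- the Fitting subgroup is `Q`
  have hCQ : Subgroup.centralizer (Q : Set G) ≤ Q := by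
    have hF : fittingSubgroup G = Q := by
      rw [Lib.Cores.fittingSubgroup_eq_iSup_pCore]
      refine le_antisymm (iSup_le fun q => ?_) (le_iSup_of_le (⟨2, Nat.prime_two⟩ : Nat.Primes) le_rfl)
      haveI : Fact (q : ℕ).Prime := ⟨q.2⟩
      by_cases hq : (q : ℕ) = 2
      · rw [hq]
      · refine le_trans (le_of_le_of_eq (Lib.Cores.le_pPrimeCore ?_) hO) bot_le
        obtain ⟨n, hn⟩ := IsPGroup.iff_card.1 (Lib.Cores.pCore_isPGroup (G := G) (q : ℕ))
        rw [hn]
        exact ((Nat.coprime_primes q.2 Nat.prime_two).2 hq).pow_left n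
    have := Lib.Cores.centralizer_fittingSubgroup_le (G := G)
    rwa [hF] at this
  have hoddQ : ∀ g : G, (orderOf g).Coprime 2 → g ∈ Subgroup.centralizer (Q : Set G) → g = 1 :=
    fun g hg hgc => Lib.CharP.eq_one_of_coprime_of_mem hQ2 (hCQ hgc) hg
  -- an element of odd order
  obtain ⟨x, hx, hx1⟩ : ∃ x : G, (orderOf x).Coprime 2 ∧ x ≠ 1 := by
    by_contra hcon
    push Not at hcon
    have hG : IsPGroup 2 G := by
      have : IsPGroup 2 (⊤ : Subgroup G) :=
        Lib.CharP.isPGroup_of_coprime_eq_one fun g _ hg => hcon g hg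
      exact this.of_equiv Subgroup.topEquiv
    exact hne (T.is_maximal' (hG.to_subgroup ⊤) le_top).symm
  -- the cyclic part of `Q`
  set C₀ := Q ⊓ C with hC₀
  haveI hCcyc : IsCyclic ↥C := by
    haveI := hC₁
    exact isCyclic_of_surjective _
      (C₁.equivMapOfInjective (T : Subgroup G).subtype (T : Subgroup G).subtype_injective).surjective
  haveI hC₀cyc : IsCyclic ↥C₀ :=
    isCyclic_of_injective (Subgroup.inclusion (inf_le_right : C₀ ≤ C)) (Subgroup.inclusion_injective _)
  have hsame : ∀ a ∈ Q, ∀ b ∈ Q, a ∉ C₀ → b ∉ C₀ → a⁻¹ * b ∈ C₀ := by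
    intro a ha b hb ha' hb'
    have haC : (⟨a, hQT ha⟩ : ↥(T : Subgroup G)) ∉ C₁ := fun h => ha' ⟨ha, ⟨_, h, rfl⟩⟩
    have hbC : (⟨b, hQT hb⟩ : ↥(T : Subgroup G)) ∉ C₁ := fun h => hb' ⟨hb, ⟨_, h, rfl⟩⟩
    refine ⟨Q.mul_mem (Q.inv_mem ha) hb, (⟨a, hQT ha⟩ : ↥(T : Subgroup G))⁻¹ * ⟨b, hQT hb⟩, ?_, rfl⟩
    rw [SetLike.mem_coe, Subgroup.mul_mem_iff_of_index_two hidx, inv_mem_iff]
    exact iff_of_false haC hbC
  obtain ⟨i₀, hi₀⟩ := IsCyclic.exists_generator (α := ↥C₀)
  have hiC₀ : (i₀ : G) ∈ C₀ := i₀.2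
  set i : G := (i₀ : G) with hidef
  have hgen : ∀ c ∈ C₀, c ∈ Subgroup.zpowers i := by
    intro c hc
    obtain ⟨k, hk⟩ := Subgroup.mem_zpowers_iff.1 (hi₀ ⟨c, hc⟩)
    exact Subgroup.mem_zpowers_iff.2 ⟨k, by simpa using congrArg Subtype.val hk⟩
  have hiQ : i ∈ Q := hiC₀.1
  obtain ⟨mi, hmi⟩ := hQ2 ⟨i, hiQ⟩
  have hmi' : i ^ 2 ^ mi = 1 := by simpa using congrArg Subtype.val hmi
  have hQn : Q.Normal := inferInstance
  -- conjugation by `x` moves the cyclic part
  have hmove : ∀ y : G, (orderOf y).Coprime 2 → y ≠ 1 → y * i * y⁻¹ ∉ C₀ := by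
    intro y hy hy1 hyi
    obtain ⟨v, hv⟩ := Subgroup.mem_zpowers_iff.1 (hgen _ hyi)
    obtain ⟨u, hu⟩ : ∃ u : ℕ, y * i * y⁻¹ = i ^ u := by
      have hf : IsOfFinOrder i := isOfFinOrder_of_finite i
      obtain ⟨u, hu⟩ := (Submonoid.mem_powers_iff _ _).1 (hf.mem_powers_iff_mem_zpowers.2 (hgen _ hyi))
      exact ⟨u, hu.symm⟩
    have hord : orderOf (i ^ u) = orderOf i := by rw [← hu]; exact MulEquiv.orderOf_eq (MulAut.conj y) i
    have hyi' : Commute y i := by
      have key : ∀ n : ℕ, y ^ n * i * (y ^ n)⁻¹ = i ^ u ^ n := by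
        intro n
        induction n with
        | zero => simp
        | succ n ih =>
          rw [pow_succ', mul_inv_rev, show y * y ^ n * i * ((y ^ n)⁻¹ * y⁻¹) =
            y * (y ^ n * i * (y ^ n)⁻¹) * y⁻¹ by group, ih, ← conj_pow, hu, ← pow_mul, ← pow_succ']
      have hcop : u.Coprime (orderOf i) := by
        rw [orderOf_pow] at hord
        have hd := Nat.div_eq_self.1 hord
        rcases hd with h | h
        · exact absurd h (orderOf_pos i).ne'
        · exact Nat.Coprime.symm h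
      obtain ⟨a, ha, ha'⟩ := (Nat.dvd_prime_pow Nat.prime_two).1 (orderOf_dvd_of_pow_eq_one hmi')
      have hmod := Nat.ModEq.pow_totient hcop
      have htot : ∃ b, Nat.totient (orderOf i) = 2 ^ b := by
        rcases a with _ | a
        · exact ⟨0, by rw [ha']; simp⟩
        · exact ⟨a, by rw [ha', Nat.totient_prime_pow Nat.prime_two a.succ_pos]; simp⟩
      obtain ⟨b, hb⟩ := htot
      have h1 : Commute (y ^ 2 ^ b) i := by
        have := key (2 ^ b)
        rw [← hb, pow_eq_pow_iff_modEq.2 hmod, pow_one, hb, mul_inv_eq_iff_eq_mul] at this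
        exact this
      obtain ⟨c, hc⟩ := Subgroup.mem_zpowers_iff.1 (mem_zpowers_pow_two hy b)
      rw [← hc]
      exact h1.zpow_left c
    have hyC : ∀ c ∈ C₀, Commute y c := fun c hc => by
      obtain ⟨k, rfl⟩ := Subgroup.mem_zpowers_iff.1 (hgen c hc)
      exact hyi'.zpow_right k
    refine hy1 (hoddQ y hy (Subgroup.mem_centralizer_iff.2 fun q hq => ?_))
    refine ((?_ : Commute y q)).symm.eq
    by_cases hqC : q ∈ C₀
    · exact hyC q hqC
    · refine Lib.CharP.commute_of_comm_mem (U := C₀) (hQ2.to_le inf_le_left) hy hyC ?_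
      have hq' : y * q * y⁻¹ ∉ C₀ := by
        intro h
        have h2 : y * (y * q * y⁻¹) = (y * q * y⁻¹) * y := (hyC _ h).eq
        refine hqC ?_
        rwa [show q = y * q * y⁻¹ by
          have : y * q * y⁻¹ = y⁻¹ * ((y * q * y⁻¹) * y) := by rw [← h2]; group
          conv_rhs => rw [this]
          group]
      have h3 := hsame q hq _ (hQn.conj_mem q hq y) hqC hq'
      rw [commutatorElement_def]
      simpa [mul_assoc] using h3
  set j := x * i * x⁻¹ with hjdef
  have hjQ : j ∈ Q := hQn.conj_mem i hiQ x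
  have hjC : j ∉ C₀ := hmove x hx hx1
  have hij : orderOf j = orderOf i := MulEquiv.orderOf_eq (MulAut.conj x) i
  have hi4 : i ^ 4 = 1 := by
    have h1 : j ^ 4 = 1 := by
      have h := hout ⟨j, hQT hjQ⟩ (fun h => hjC ⟨hjQ, ⟨_, h, rfl⟩⟩)
      simpa using congrArg Subtype.val h
    have := orderOf_dvd_of_pow_eq_one h1
    rw [hij] at this
    exact orderOf_dvd_iff_pow_eq_one.1 this
  have hzi : z ∈ Subgroup.zpowers i := hgen z ⟨hzQ, hzC⟩
  obtain ⟨hi2, hiord⟩ : i * i = z ∧ orderOf i = 4 := by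
    obtain ⟨a, ha⟩ := Submonoid.mem_powers_iff _ _ |>.1
      ((isOfFinOrder_of_finite i).mem_powers_iff_mem_zpowers.2 hzi)
    have hzne : z ≠ 1 := fun h => by rw [h, orderOf_one] at hz2; omega
    have hii : i * i ≠ 1 := by
      intro h
      have h2 : ∀ w, w ∈ Subgroup.zpowers i → w = 1 ∨ w = i := by
        intro w hw
        obtain ⟨k, rfl⟩ := Subgroup.mem_zpowers_iff.1 hw
        rcases Int.even_or_odd' k with ⟨c, rfl | rfl⟩
        · left; rw [zpow_mul, zpow_ofNat, sq, h, one_zpow]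
        · right; rw [zpow_add_one, zpow_mul, zpow_ofNat, sq, h, one_zpow, one_mul]
      have hzi' : z = i := (h2 z hzi).resolve_left hzne
      refine hmove x hx hx1 ?_
      rw [← hzi', hzcen x]
      exact ⟨hzQ, hzC⟩
    have ho : orderOf i = 4 := orderOf_eq_prime_pow (p := 2) (n := 1) (by rwa [pow_one, sq]) hi4
    refine ⟨?_, ho⟩
    have hz' : z * z = 1 := by rw [← sq, ← hz2, pow_orderOf_eq_one]
    have hmod : z = i ^ (a % 4) := by rw [← ha, ← ho, pow_mod_orderOf]
    have : a % 4 < 4 := Nat.mod_lt _ (by norm_num)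
    interval_cases hr : a % 4
    · rw [pow_zero] at hmod; exact absurd hmod hzne
    · rw [pow_one] at hmod; rw [hmod] at hz'; exact absurd hz' hii
    · rw [sq] at hmod; exact hmod.symm
    · exfalso
      rw [hmod, ← pow_add, show 3 + 3 = 4 + 2 from rfl, pow_add, hi4, one_mul, sq] at hz'
      exact hii hz'
  have hj2 : j * j = z := by rw [hjdef, conj_mul, hi2, hzcen]
  have hinorm : ∀ q ∈ Q, q * i * q⁻¹ ∈ C₀ := by
    intro q hq
    haveI : C₁.Normal := Subgroup.normal_of_index_eq_two hidx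
    obtain ⟨i₁, hi₁, hi₁e⟩ := hiC₀.2
    refine ⟨Q.mul_mem (Q.mul_mem hq hiQ) (Q.inv_mem hq), (⟨q, hQT hq⟩ : ↥(T : Subgroup G)) * i₁ * ⟨q, hQT hq⟩⁻¹,
      Subgroup.Normal.conj_mem ‹_› i₁ hi₁ _, ?_⟩
    simp only [Subgroup.coe_subtype, Subgroup.coe_mul, InvMemClass.coe_inv] at hi₁e ⊢
    rw [hi₁e]
  have hC₀eq : ∀ c ∈ C₀, c = 1 ∨ c = i ∨ c = z ∨ c = i⁻¹ := by
    intro c hc
    obtain ⟨a, ha⟩ := Submonoid.mem_powers_iff _ _ |>.1
      ((isOfFinOrder_of_finite i).mem_powers_iff_mem_zpowers.2 (hgen c hc))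
    have hc' : c = i ^ (a % 4) := by rw [← ha, ← hiord, pow_mod_orderOf]
    have : a % 4 < 4 := Nat.mod_lt _ (by norm_num)
    interval_cases hr : a % 4
    · left; rw [hc', pow_zero]
    · right; left; rw [hc', pow_one]
    · right; right; left; rw [hc', sq, hi2]
    · right; right; right; rw [hc', eq_inv_iff_mul_eq_one, ← pow_succ, hi4]
  have hzz : z * z = 1 := by rw [← sq, ← hz2, pow_orderOf_eq_one]
  have hji : j * i * j⁻¹ = i⁻¹ := by
    rcases hC₀eq _ (hinorm j hjQ) with h | h | h | h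
    · exfalso
      rw [conj_eq_one_iff] at h
      rw [h, orderOf_one] at hiord; omega
    · exfalso
      have hcomm : j * i = i * j := mul_inv_eq_iff_eq_mul.1 h
      have hx2 : x * x ≠ 1 := fun h' => by
        have h2 : orderOf x ∣ 2 := orderOf_dvd_of_pow_eq_one (by rw [sq, h'])
        exact hx1 (orderOf_eq_one_iff.1 (Nat.eq_one_of_dvd_coprimes hx dvd_rfl h2))
      have hxx : (orderOf (x * x)).Coprime 2 := by
        rw [← sq]
        exact hx.coprime_dvd_left (orderOf_pow_dvd 2)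
      have hm := hmove (x * x) hxx hx2
      rw [show x * x * i * (x * x)⁻¹ = x * j * x⁻¹ by rw [hjdef]; group] at hm
      have hlQ : x * j * x⁻¹ ∈ Q := hQn.conj_mem j hjQ x
      have hc := hsame j hjQ _ hlQ hjC hm
      set c := j⁻¹ * (x * j * x⁻¹) with hc_def
      have hl : x * j * x⁻¹ = j * c := by rw [hc_def, mul_inv_cancel_left]
      have hl2 : (j * c) * (j * c) = z := by rw [← hl, conj_mul, hj2, hzcen]
      have hjc : j * c = c * j := by
        obtain ⟨k, hk⟩ := Subgroup.mem_zpowers_iff.1 (hgen c hc)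
        rw [← hk]
        exact ((show Commute j i from hcomm).zpow_right k).eq
      have hc2 : c * c = 1 := by
        have : (j * c) * (j * c) = (j * j) * (c * c) := by
          rw [mul_assoc, ← mul_assoc c j, ← hjc]; group
        rw [this, hj2] at hl2
        exact mul_left_cancel (hl2.trans (mul_one z).symm)
      have hlj : x * j * x⁻¹ ∈ Subgroup.zpowers j := by
        rw [hl]
        rcases hC₀eq c hc with h' | h' | h' | h'
        · rw [h', mul_one]; exact Subgroup.mem_zpowers j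
        · exfalso
          rw [h', hi2] at hc2
          rw [hc2, orderOf_one] at hz2; omega
        · rw [h', ← hj2]
          exact mul_mem (Subgroup.mem_zpowers j) (mul_mem (Subgroup.mem_zpowers j) (Subgroup.mem_zpowers j))
        · exfalso
          rw [h', ← mul_inv_rev, hi2, inv_eq_one] at hc2
          rw [hc2, orderOf_one] at hz2; omega
      obtain ⟨k, hk⟩ := Subgroup.mem_zpowers_iff.1 hlj
      refine hjC ?_
      have h5 : i ^ k = j := by
        rw [hjdef, conj_zpow] at hk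
        exact mul_left_cancel (mul_right_cancel hk)
      rw [← h5]
      exact zpow_mem hiC₀ k
    · exfalso
      have h2 := MulEquiv.orderOf_eq (MulAut.conj j) i
      simp only [MulAut.conj_apply] at h2
      rw [h, hiord, hz2] at h2; omega
    · exact h
  have hQcard : Nat.card ↥Q = 8 := by
    have hC₀card : Nat.card ↥C₀ = 4 := by
      rw [← hiord]
      refine le_antisymm ?_ ?_
      · rw [← Nat.card_zpowers]
        exact Subgroup.card_le_of_le hgen
      · rw [← Nat.card_zpowers]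
        exact Subgroup.card_le_of_le (Subgroup.zpowers_le.2 hiC₀)
    have hi2' : (C₀.subgroupOf Q).index = 2 := by
      rw [Subgroup.index_eq_two_iff]
      refine ⟨⟨j, hjQ⟩, fun b => ?_⟩
      by_cases hb : (b : G) ∈ C₀
      · refine Or.inr ⟨hb, fun h => hjC ?_⟩
        have := mul_mem (inv_mem hb) (Subgroup.mem_subgroupOf.1 h)
        simpa using this
      · refine Or.inl ⟨?_, hb⟩
        rw [Subgroup.mem_subgroupOf]
        have h := hsame _ (inv_mem b.2) j hjQ (fun h => hb (by simpa using inv_mem h)) hjC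
        simpa using h
    rw [← Subgroup.card_mul_index (C₀.subgroupOf Q), hi2',
      Nat.card_congr (Subgroup.subgroupOfEquivOfLe (inf_le_left : C₀ ≤ Q)).toEquiv, hC₀card]
  obtain ⟨eQ⟩ : Nonempty (↥Q ≃* QuaternionGroup 2) := by
    refine Lib.PGroups.nonempty_quaternion_equiv (a := ⟨i, hiQ⟩) (x := ⟨j, hjQ⟩) ?_ ?_ ?_ ?_ (by rw [hQcard])
    · rw [Subgroup.orderOf_mk, hiord]
    · exact Subtype.ext (show j ^ 2 = i ^ 2 by rw [sq, sq, hj2, hi2])
    · exact Subtype.ext hji
    · intro h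
      obtain ⟨k, hk⟩ := Subgroup.mem_zpowers_iff.1 h
      exact hjC ((show i ^ k = j by simpa using congrArg Subtype.val hk) ▸ zpow_mem hiC₀ k)
  -- the automorphism induced by `x`
  let act : G →* MulAut ↥Q := MulAut.conjNormal
  let τ : MulAut ↥Q ≃* MulAut (QuaternionGroup 2) := MulAut.congr eQ
  set φ := τ (act x) with hφ
  have hker : ∀ g, act g = 1 ↔ g ∈ Subgroup.centralizer (Q : Set G) := by
    intro g
    rw [Subgroup.mem_centralizer_iff]
    constructor
    · intro h q hq
      have h2 : g * q * g⁻¹ = q := by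
        simpa [act] using congrArg Subtype.val (DFunLike.congr_fun h ⟨q, hq⟩)
      exact (mul_inv_eq_iff_eq_mul.1 h2).symm
    · intro h
      refine MulEquiv.ext fun q => Subtype.ext ?_
      show g * q * g⁻¹ = q
      rw [← h q q.2, mul_inv_cancel_right]
  have hφodd : Odd (orderOf φ) := by
    rw [← Nat.coprime_two_right]
    exact hx.coprime_dvd_left (orderOf_map_dvd (τ.toMonoidHom.comp act) x)
  have hφ1 : φ ≠ 1 := fun h => hx1 (hoddQ x hx ((hker x).1 (τ.injective (by rw [map_one]; exact h))))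
  obtain ⟨hφ3, i', j', hi', hj', hr4, hr2, hrc, hspan⟩ := Lib.PGroups.quat_aut_odd φ hφodd hφ1
  have hx3 : x ^ 3 = 1 := by
    refine hoddQ _ (hx.coprime_dvd_left (orderOf_pow_dvd 3)) ((hker _).1 (τ.injective ?_))
    rw [map_pow, map_pow, map_one]
    exact hφ3
  set U := Q ⊔ Subgroup.zpowers x with hU
  have hQU : Q ≤ U := le_sup_left
  have hxU : x ∈ U := Subgroup.mem_sup_right (Subgroup.mem_zpowers x)
  have hxord : orderOf x = 3 := by
    haveI : Fact (Nat.Prime 3) := ⟨Nat.prime_three⟩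
    exact orderOf_eq_prime hx3 hx1
  have hdisj : Subgroup.zpowers x ⊓ Q = ⊥ := by
    rw [Subgroup.eq_bot_iff_forall]
    intro g hg
    exact Lib.CharP.eq_one_of_coprime_of_mem hQ2 hg.2 (hx.coprime_dvd_left (orderOf_dvd_of_mem_zpowers hg.1))
  have hUcard : Nat.card ↥U = 24 := by
    rw [hU, sup_comm, Lib.Coprime.card_sup_of_disjoint (le_trans le_top (Subgroup.normalizer_eq_top Q).ge) (disjoint_iff.2 hdisj),
      Nat.card_zpowers, hxord, hQcard]
  have hslu : ∃ a b : ↥U, Lib.PGroups.SLRel a b ⟨x, hxU⟩ ∧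
      Subgroup.closure ({a, b, ⟨x, hxU⟩} : Set ↥U) = ⊤ := by
    set a : ↥U := Subgroup.inclusion hQU (eQ.symm i') with ha
    set b : ↥U := Subgroup.inclusion hQU (eQ.symm j') with hb
    have hconj : ∀ q : QuaternionGroup 2,
        (⟨x, hxU⟩ : ↥U) * Subgroup.inclusion hQU (eQ.symm q) * (⟨x, hxU⟩ : ↥U)⁻¹ =
          Subgroup.inclusion hQU (eQ.symm (φ q)) := by
      intro q
      refine Subtype.ext ?_
      have : eQ.symm (φ q) = act x (eQ.symm q) := eQ.symm_apply_apply _
      rw [this]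
      rfl
    refine ⟨a, b, ⟨?_, ?_, ?_, Subtype.ext hx3, ?_, ?_⟩, ?_⟩
    · rw [ha, ← map_pow, ← map_pow, hr4, map_one, map_one]
    · rw [ha, hb, ← map_mul, ← map_mul, ← map_mul, ← map_mul, hr2]
    · rw [ha, hb, ← map_mul, ← map_mul, ← map_inv, ← map_inv, ← map_mul, ← map_mul, hrc, map_inv, map_inv]
    · rw [ha, hconj, hi']
    · rw [hb, hconj, hj', map_mul, map_mul]
    · set K := Subgroup.closure ({a, b, ⟨x, hxU⟩} : Set ↥U) with hK
      have haK : a ∈ K := Subgroup.subset_closure (by simp)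
      have hbK : b ∈ K := Subgroup.subset_closure (by simp)
      have hxK : (⟨x, hxU⟩ : ↥U) ∈ K := Subgroup.subset_closure (by simp)
      rw [eq_top_iff]
      intro u _
      have hu : (u : G) ∈ K.map U.subtype := by
        have hle : U ≤ K.map U.subtype := by
          refine sup_le (fun q hq => ?_) (Subgroup.zpowers_le.2 ⟨_, hxK, rfl⟩)
          obtain ⟨a', b', hq'⟩ := hspan (eQ ⟨q, hq⟩)
          refine ⟨a ^ (a' : ℕ) * b ^ (b' : ℕ), mul_mem (pow_mem haK _) (pow_mem hbK _), ?_⟩
          have h := congrArg eQ.symm hq'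
          rw [eQ.symm_apply_apply, map_mul, map_pow, map_pow] at h
          simpa [ha, hb] using (congrArg Subtype.val h).symm
        exact hle u.2
      obtain ⟨w, hw, hwu⟩ := hu
      exact (Subtype.ext hwu : w = u) ▸ hw
  obtain ⟨a, b, hrel, hclos⟩ := hslu
  refine ⟨U, ?_, Lib.PGroups.nonempty_sl_equiv hrel hclos hUcard.ge⟩
  -- normality
  have hG48 : Nat.card G ≤ 48 := by
    rw [← Subgroup.card_mul_index act.ker, Subgroup.index_ker]
    have h1 : Nat.card act.ker ≤ 2 := by
      refine le_trans ?_ (quat_center)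
      refine Nat.card_le_card_of_injective
        (fun g => (⟨eQ ⟨g.1, hCQ ((hker _).1 g.2)⟩, Subgroup.mem_center_iff.2 fun q => ?_⟩ :
          Subgroup.center (QuaternionGroup 2))) ?_
      · obtain ⟨q', rfl⟩ := eQ.surjective q
        rw [← map_mul, ← map_mul]
        exact congrArg eQ (Subtype.ext (Subgroup.mem_centralizer_iff.1 ((hker _).1 g.2) _ q'.2))
      · intro g g' h
        exact Subtype.ext (Subtype.mk.inj (eQ.injective (congrArg Subtype.val h)))
    have h2 : Nat.card act.range ≤ 24 :=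
      ((Subgroup.card_le_card_group _).trans (Nat.card_congr τ.toEquiv).le).trans quat_aut_card
    exact Nat.mul_le_mul h1 h2
  have hidx2 : U.index ≤ 2 := by
    have := U.card_mul_index
    rw [hUcard] at this
    omega
  rcases Nat.lt_or_ge U.index 2 with h | h
  · have h1 : U.index = 1 := by
      have := Subgroup.FiniteIndex.index_ne_zero (H := U)
      omega
    rw [Subgroup.index_eq_one.1 h1]
    infer_instance
  · exact Subgroup.normal_of_index_eq_two (le_antisymm hidx2 h)

end Cfsg.Agent.S2879
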