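import Cfsg.Statements.S2880
import Cfsg.Agent.Lib.Extraspecial.PlusCount
import Cfsg.Agent.Lib.CharP.PReduced
-- import your own Cfsg.Agent.* helpers here

set_option autoImplicit false
open Cfsg

namespace Cfsg.Agent.S2880

/-- Let E be an extraspecial 2-group of order 2^(2m+1) of plus type, that is, containing an elementary abelian subgroup of order 2^(m+1) (equivalently, a central product of m dihedral groups of order 8). Then E has exactly 2^(2m) − 2^m elements of order 4. -/
theorem result {E : Type*} [Group E] [Finite E] (m : ℕ) (hm : 1 ≤ m) (hE : Cfsg.IsExtraspecial 2 E) (hcard : Nat.card E = 2 ^ (2 * m + 1)) (hplus : ∃ A : Subgroup E, Cfsg.IsElementaryAbelian 2 A ∧ Nat.card A = 2 ^ (m + 1)) : Nat.card {x : E // orderOf x = 4} = 2 ^ (2 * m) - 2 ^ m := by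
  classical
  haveI := Fintype.ofFinite E
  obtain ⟨A, hA, hAc⟩ := hplus
  obtain ⟨z, hz⟩ := Lib.Extraspecial.exists_esData hE
  have hA' := Lib.CharP.elemAb_iff.1 hA
  have h1 := Lib.Extraspecial.card_sq_eq_one hz hcard (A := A) hA'.1 (fun a ha => by rw [← sq]; exact hA'.2 a ha) hAc
  have h4 : ∀ x : E, orderOf x = 4 ↔ ¬ x * x = 1 := fun x => by
    constructor
    · intro h hx
      have := orderOf_dvd_of_pow_eq_one (show x ^ 2 = 1 by rw [sq]; exact hx)
      rw [h] at this
      norm_num at this
    · intro hx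
      refine orderOf_eq_prime_pow (p := 2) (n := 1) (by rwa [pow_one, sq]) ?_
      rcases Lib.Extraspecial.two_cases hz (hz.pow_mem x) with h | h
      · exact absurd (by rw [← sq, h]) hx
      · rw [show 2 ^ (1 + 1) = 2 * 2 from rfl, pow_mul, h, hz.z_pow]
  rw [Nat.card_congr (Equiv.subtypeEquivRight h4), Nat.card_eq_fintype_card, Fintype.card_subtype_compl,
    ← Nat.card_eq_fintype_card, ← Nat.card_eq_fintype_card, h1, hcard, pow_succ]
  omega

end Cfsg.Agent.S2880
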