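import Cfsg.Statements.S2881
import Cfsg.Agent.Lib.Extraspecial.PlusCount
import Cfsg.Agent.Lib.CharP.PReduced
-- import your own Cfsg.Agent.* helpers here

set_option autoImplicit false
open Cfsg

namespace Cfsg.Agent.S2881

/-- Let E be an extraspecial 2-group of order 2^(2m+1) of plus type (containing an elementary abelian subgroup of order 2^(m+1)), and let ω be an automorphism of E of order 5 whose fixed points are exactly the centre of E. Then m is divisible by 4. -/
theorem result {E : Type*} [Group E] [Finite E] (m : ℕ) (hm : 1 ≤ m) (hE : Cfsg.IsExtraspecial 2 E) (hcard : Nat.card E = 2 ^ (2 * m + 1)) (hplus : ∃ A : Subgroup E, Cfsg.IsElementaryAbelian 2 A ∧ Nat.card A = 2 ^ (m + 1)) (ω : E ≃* E) (hω : orderOf ω = 5) (hfix : ∀ x : E, ω x = x ↔ x ∈ Subgroup.center E) : 4 ∣ m := by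
  classical
  haveI := Fintype.ofFinite E
  obtain ⟨A, hA, hAc⟩ := hplus
  obtain ⟨z, hz⟩ := Lib.Extraspecial.exists_esData hE
  have hA' := Lib.CharP.elemAb_iff.1 hA
  have hI := Lib.Extraspecial.card_sq_eq_one hz hcard (A := A) hA'.1 (fun a ha => by rw [← sq]; exact hA'.2 a ha) hAc
  haveI : Fact (Nat.Prime 5) := ⟨by norm_num⟩
  set W : Subgroup (MulAut E) := Subgroup.zpowers ω with hW
  have hWp : IsPGroup 5 W := IsPGroup.of_card (n := 1) (by rw [Nat.card_zpowers, hω, pow_one])
  have hfx : ∀ x : E, (∀ g : W, g • x = x) ↔ x ∈ Subgroup.zpowers z := by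
    intro x
    rw [← hz.mem_center x, ← hfix x]
    refine ⟨fun hx => hx ⟨ω, Subgroup.mem_zpowers ω⟩, fun hx g => ?_⟩
    have hle : W ≤ MulAction.stabilizer (MulAut E) x := Subgroup.zpowers_le.2 hx
    exact hle g.2
  have hzc : Nat.card (Subgroup.zpowers z) = 2 := by
    rw [Nat.card_zpowers, orderOf_eq_prime hz.z_pow hz.z_ne]
  -- the fixed points on the square roots of one
  letI : MulAction W {x : E // x * x = 1} :=
    { smul := fun g x => ⟨g • x.1, by
        show (g.1 x.1) * (g.1 x.1) = 1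
        rw [← map_mul, x.2, map_one]⟩
      one_smul := fun x => Subtype.ext (one_smul W x.1)
      mul_smul := fun a b x => Subtype.ext (mul_smul a b x.1) }
  have h1 := hWp.card_modEq_card_fixedPoints {x : E // x * x = 1}
  have h2 := hWp.card_modEq_card_fixedPoints E
  have hF : Nat.card (MulAction.fixedPoints W E) = 2 := by
    rw [← hzc]
    exact Nat.card_congr (Equiv.subtypeEquivRight fun x => hfx x)
  have hF' : Nat.card (MulAction.fixedPoints W {x : E // x * x = 1}) = 2 := by
    rw [← hzc]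
    refine Nat.card_congr
      { toFun := fun x => ⟨x.1.1, (hfx _).1 fun g => congrArg Subtype.val (x.2 g)⟩
        invFun := fun x => ⟨⟨x.1, ?_⟩, fun g => Subtype.ext ((hfx x.1).2 x.2 g)⟩
        left_inv := fun x => rfl
        right_inv := fun x => rfl }
    rcases Lib.Extraspecial.two_cases hz x.2 with h | h
    · rw [h, mul_one]
    · rw [h, ← sq, hz.z_pow]
  rw [hI, hF'] at h1
  rw [hcard, hF] at h2
  have key : ∀ n : ℕ, 2 ^ n % 5 = 2 ^ (n % 4) % 5 := fun n => by
    conv_lhs => rw [← Nat.div_add_mod n 4, pow_add, pow_mul, Nat.mul_mod, Nat.pow_mod]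
    norm_num
  unfold Nat.ModEq at h1 h2
  rw [Nat.add_mod, key (2 * m), key m] at h1
  rw [key (2 * m + 1)] at h2
  rw [show 2 * m % 4 = 2 * (m % 4) % 4 by omega] at h1
  rw [show (2 * m + 1) % 4 = (2 * (m % 4) + 1) % 4 by omega] at h2
  have hm4 := Nat.mod_lt m (show 4 > 0 by norm_num)
  rcases Nat.lt_or_ge (m % 4) 1 with h0 | h0
  · exact Nat.dvd_of_mod_eq_zero (by omega)
  · exfalso
    interval_cases h : m % 4 <;> simp_all

end Cfsg.Agent.S2881
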