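import Cfsg.Prelude.Def_Local
import Cfsg.Prelude.Def_PLocal
import Cfsg.Prelude.Def_LocalEven
import Cfsg.Prelude.Def_LocalStructure
import Cfsg.Agent.Lib.LAEven56.CharLocal
import Cfsg.Agent.Lib.Balance.Locals

set_option autoImplicit false
set_option linter.style.haveILetI false

namespace Cfsg.Agent.S2896
open Cfsg.Agent.Lib Cfsg.Agent.Lib.LAEven56

theorem result {G : Type*} [Group G] [Finite G] {p : ℕ} [Fact p.Prime] (hdiv : p ∣ Nat.card G) (S : Sylow p G) (X : Subgroup G) (hX : X ≤ (S : Subgroup G)) : (∀ z : G, z ≠ 1 → z ∈ X → (∀ x ∈ X, x * z = z * x) → Cfsg.generalizedFittingSubgroup ↥(Subgroup.centralizer ({z} : Set G)) = Cfsg.pCore p ↥(Subgroup.centralizer ({z} : Set G)) → Cfsg.generalizedFittingSubgroup ↥(Subgroup.normalizer (X : Set G)) = Cfsg.pCore p ↥(Subgroup.normalizer (X : Set G))) ∧ (Cfsg.IsOfParabolicCharacteristic p G ↔ ∀ z : G, z ≠ 1 → z ∈ Cfsg.omegaOne p ((S : Subgroup G) ⊓ Subgroup.centralizer ((S : Subgroup G) : Set G)) → Cfsg.generalizedFittingSubgroup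 ↥(Subgroup.centralizer ({z} : Set G)) = Cfsg.pCore p ↥(Subgroup.centralizer ({z} : Set G))) ∧ ((∀ z : G, z ∈ (S : Subgroup G) → orderOf z = p → Cfsg.generalizedFittingSubgroup ↥(Subgroup.centralizer ({z} : Set G)) = Cfsg.pCore p ↥(Subgroup.centralizer ({z} : Set G))) → Cfsg.IsOfLocalCharacteristic p G) := by
  refine ⟨fun z _ hz hc h => Balance.centralizer_pCore_le_iff.1
    (isCharP_normalizer_of_central (S.isPGroup'.to_le hX) hz hc
      (Balance.centralizer_pCore_le_iff.2 h)), ?_, fun h => ⟨hdiv, fun T hT hne =>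
      isCharP_local S (fun z hz ho => Balance.centralizer_pCore_le_iff.2 (h z hz ho)) hT hne⟩⟩
  rw [parabolic_iff S]
  exact forall_congr' fun z => imp_congr_right fun _ => imp_congr_right fun _ =>
    Balance.centralizer_pCore_le_iff

end Cfsg.Agent.S2896
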