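import Cfsg.Prelude.Def_PLocal
import Cfsg.Prelude.Def_LocalStructure
import Cfsg.Agent.Lib.LAEven56.CharLocal
import Cfsg.Agent.Lib.Transfer.Fusion

set_option autoImplicit false
set_option linter.style.haveILetI false

namespace Cfsg.Agent.S2897
open Cfsg Cfsg.Agent.Lib Cfsg.Agent.Lib.LAEven56

theorem result {G : Type*} [Group G] [Finite G] {p : ℕ} [Fact p.Prime] (hdiv : p ∣ Nat.card G) (hG : Cfsg.IsOfParabolicCharacteristic p G) (S : Sylow p G) (G₁ : Subgroup G) [G₁.Normal] (hne : Cfsg.omegaOne p (((S : Subgroup G) ⊓ G₁) ⊓ Subgroup.centralizer (((S : Subgroup G) ⊓ G₁ : Subgroup G) : Set G)) ≠ ⊥) (hle : Cfsg.omegaOne p (((S : Subgroup G) ⊓ G₁) ⊓ Subgroup.centralizer (((S : Subgroup G) ⊓ G₁ : Subgroup G) : Set G)) ≤ Cfsg.omegaOne p ((S : Subgroup G) ⊓ Subgroup.centralizer ((S : Subgroup G) : Set G))) : Cfsg.IsOfParabolicCharacteristic p ↥G₁ := by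
  obtain ⟨S₁, hS₁⟩ := Transfer.Fusion.exists_sylow_map_eq_inf G₁ S
  refine (parabolic_iff S₁).2 fun z hz1 hz => ?_
  obtain ⟨hzS, hzp, hzc⟩ := mem_omegaCenter_iff.1 hz
  have hzS' : (z : G) ∈ G₁ ⊓ (S : Subgroup G) := hS₁ ▸ Subgroup.mem_map_of_mem _ hzS
  have h1 : (z : G) ∈ omegaOne p (((S : Subgroup G) ⊓ G₁) ⊓
      Subgroup.centralizer (((S : Subgroup G) ⊓ G₁ : Subgroup G) : Set G)) := by
    refine mem_omegaCenter_iff.2 ⟨⟨hzS'.2, z.2⟩, by simpa using congrArg Subtype.val hzp, ?_⟩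
    intro s hs
    obtain ⟨t, ht, rfl⟩ : s ∈ (S₁ : Subgroup G₁).map G₁.subtype := hS₁.symm ▸ ⟨hs.2, hs.1⟩
    exact congrArg Subtype.val (hzc t ht)
  have h2 := (parabolic_iff S).1 hG (z : G) (fun h => hz1 (Subtype.ext h)) (hle h1)
  refine isCharP_of_map G₁.subtype G₁.subtype_injective
    (CharP.charP_of_normal_le h2 ?_ ?_)
  · rintro _ ⟨x, hx, rfl⟩
    rw [Subgroup.mem_centralizer_singleton_iff]
    exact congrArg Subtype.val (Subgroup.mem_centralizer_singleton_iff.1 hx)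
  · intro c hc
    rw [CosetGraph.SylowIn.mem_normalizer_iff_map]
    refine Subgroup.eq_of_le_of_card_ge ?_
      (Subgroup.card_map_of_injective (MulAut.conj c).injective).ge
    rintro _ ⟨_, ⟨x, hx, rfl⟩, rfl⟩
    refine ⟨⟨c * x * c⁻¹, (inferInstance : G₁.Normal).conj_mem x x.2 c⟩, ?_, rfl⟩
    have hx' := congrArg Subtype.val (Subgroup.mem_centralizer_singleton_iff.1 hx)
    have hcz : Commute c (z : G) := Subgroup.mem_centralizer_singleton_iff.1 hc
    refine Subgroup.mem_centralizer_singleton_iff.2 (Subtype.ext ?_)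
    exact ((hcz.mul_left (show Commute (x : G) (z : G) from hx')).mul_left hcz.inv_left).eq

end Cfsg.Agent.S2897
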