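import Cfsg.Prelude.Def_CaseTheorems
import Cfsg.Prelude.Def_LocalStructure
import Cfsg.Agent.Lib.LAEven56.CharLocal
import Cfsg.Agent.Lib.Cores.Pi
import Cfsg.Agent.Lib.Transfer.Fusion
import Cfsg.Agent.Lib.RankOne.Involution

set_option autoImplicit false
set_option linter.style.haveILetI false

namespace Cfsg.Agent.S2898
open Cfsg Cfsg.Agent.Lib Cfsg.Agent.Lib.LAEven56

theorem core {G : Type*} [Group G] [Finite G] (h2 : 2 ∣ Nat.card G)
    (hG : IsOfParabolicCharacteristic 2 G) (O : Subgroup G) [O.Normal] (hOdd : Odd (Nat.card ↥O))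
    (hmax : ∀ N : Subgroup G, N.Normal → Odd (Nat.card ↥N) → N ≤ O)
    (hZ : Subgroup.center (G ⧸ O) = ⊥) : O = ⊥ := by
  have _ : Fact (Nat.Prime 2) := ⟨Nat.prime_two⟩
  by_contra hO
  obtain ⟨a, ha, ha1⟩ := O.bot_or_exists_ne_one.resolve_left hO
  set S : Sylow 2 G := Classical.arbitrary _
  have hinv : ∀ z : G, z ≠ 1 → z ∈ omegaOne 2 ((S : Subgroup G) ⊓
      Subgroup.centralizer ((S : Subgroup G) : Set G)) → ∀ x ∈ O, z * x * z⁻¹ = x⁻¹ := by
    intro z hz1 hz x hx
    have hchar := (parabolic_iff S).1 hG z hz1 hz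
    have hzz : z * z = 1 := by rw [← pow_two, (mem_omegaCenter_iff.1 hz).2.1]
    obtain ⟨c, hc, i, hi, hct, hit, rfl⟩ := RankOne.Involution.exists_decomp hOdd hzz
      (fun y hy => (inferInstance : O.Normal).conj_mem y hy z) hx
    have hcz : c ∈ Subgroup.centralizer ({z} : Set G) :=
      Subgroup.mem_centralizer_singleton_iff.2 (mul_inv_eq_iff_eq_mul.1 hct).symm
    set L := Subgroup.centralizer ({z} : Set G) with hL
    have hc1 : c = 1 := by
      refine CharP.eq_one_of_charP hchar hcz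
        (Nat.coprime_two_right.2 (hOdd.of_dvd_nat (Subgroup.orderOf_dvd_natCard _ hc))) fun u hu => ?_
      have hd : c * (u * c⁻¹ * u⁻¹) = 1 := by
        refine CharP.eq_one_of_coprime_of_mem (CharP.isPGroup_pCoreOf 2 L) ?_
          (Nat.coprime_two_right.2 (hOdd.of_dvd_nat (Subgroup.orderOf_dvd_natCard _
            (mul_mem hc ((inferInstance : O.Normal).conj_mem _ (inv_mem hc) u)))))
        have h1 := (Subgroup.mem_normalizer_iff.1 (CharP.le_normalizer_pCoreOf 2 L hcz) u).1 hu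
        have := mul_mem h1 (inv_mem hu)
        simpa [mul_assoc] using this
      show c * u = u * c
      calc c * u = c * (u * c⁻¹ * u⁻¹) * (u * c) := by group
        _ = u * c := by rw [hd, one_mul]
    subst hc1
    simpa using hit
  -- the 2-part of the centralizer of `O` is trivial
  have hSne : (S : Subgroup G) ≠ ⊥ := S.ne_bot_of_dvd_card h2
  obtain ⟨z, hzS, hzo, hzc⟩ := exists_central_mem S.isPGroup' le_rfl Subgroup.le_normalizer hSne
  have hz1 : z ≠ 1 := fun h => by rw [h, orderOf_one] at hzo; omega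
  have hzm : z ∈ omegaOne 2 ((S : Subgroup G) ⊓ Subgroup.centralizer ((S : Subgroup G) : Set G)) :=
    mem_omegaCenter_iff.2 ⟨hzS, hzo ▸ pow_orderOf_eq_one z, hzc⟩
  have hzinv := hinv z hz1 hzm
  haveI : (Subgroup.centralizer (O : Set G)).Normal := Subgroup.normal_centralizer
  have hCodd : Odd (Nat.card ↥(Subgroup.centralizer (O : Set G))) := by
    rw [← Nat.not_even_iff_odd, even_iff_two_dvd]
    intro hd
    obtain ⟨Q, hQ⟩ := Transfer.Fusion.exists_sylow_map_eq_inf (Subgroup.centralizer (O : Set G)) S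
    have hne : Subgroup.centralizer (O : Set G) ⊓ (S : Subgroup G) ≠ ⊥ := by
      rw [← hQ, Ne, Subgroup.map_eq_bot_iff_of_injective _ (Subgroup.subtype_injective _)]
      exact Q.ne_bot_of_dvd_card hd
    obtain ⟨w, hw, hwo, hwc⟩ := exists_central_mem S.isPGroup' (N := _) inf_le_right
      (le_trans (le_inf Subgroup.le_normalizer_of_normal Subgroup.le_normalizer)
        Subgroup.inf_normalizer_le_normalizer_inf) hne
    have hwi := hinv w (fun h => by rw [h, orderOf_one] at hwo; omega)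
      (mem_omegaCenter_iff.2 ⟨hw.2, hwo ▸ pow_orderOf_eq_one w, hwc⟩) a ha
    rw [← Subgroup.mem_centralizer_iff.1 hw.1 a ha, mul_inv_cancel_right] at hwi
    exact ha1 (RankOne.Involution.eq_one_of_sq hOdd ha (by nth_rewrite 2 [hwi]; group))
  have hCO : Subgroup.centralizer (O : Set G) ≤ O := hmax _ inferInstance hCodd
  have hzO : (QuotientGroup.mk z : G ⧸ O) ∈ Subgroup.center (G ⧸ O) := by
    rw [Subgroup.mem_center_iff]
    intro g
    obtain ⟨g, rfl⟩ := QuotientGroup.mk_surjective g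
    rw [← QuotientGroup.mk_mul, ← QuotientGroup.mk_mul, QuotientGroup.eq]
    refine hCO (Subgroup.mem_centralizer_iff.2 fun x hx => ?_)
    have key : ((g * z)⁻¹ * (z * g)) * x * ((g * z)⁻¹ * (z * g))⁻¹ = x := by
      have hy := (inferInstance : O.Normal).conj_mem x hx g
      have h2 : z⁻¹ = z := RankOne.Involution.inv_eq_self_of_sq (by
        rw [← pow_two, ← hzo, pow_orderOf_eq_one])
      calc ((g * z)⁻¹ * (z * g)) * x * ((g * z)⁻¹ * (z * g))⁻¹
          = z⁻¹ * (g⁻¹ * (z * (g * x * g⁻¹) * z⁻¹) * g) * z := by group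
        _ = z⁻¹ * (g⁻¹ * (g * x * g⁻¹)⁻¹ * g) * z := by rw [hzinv _ hy]
        _ = z * x⁻¹ * z⁻¹ := by nth_rewrite 1 [h2]; rw [h2]; group
        _ = x := by
          have h3 := congrArg Inv.inv (hzinv x hx)
          rw [inv_inv] at h3
          nth_rewrite 2 [← h3]
          group
    exact (mul_inv_eq_iff_eq_mul.1 key).symm
  rw [hZ, Subgroup.mem_bot, QuotientGroup.eq_one_iff] at hzO
  have := hOdd.of_dvd_nat (Subgroup.orderOf_dvd_natCard _ hzO)
  rw [hzo] at this
  exact absurd this (by decide)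

theorem result {G : Type*} [Group G] [Finite G] (h2 : 2 ∣ Nat.card G) (hG : Cfsg.IsOfParabolicCharacteristic 2 G) [hN : (Cfsg.oddCore G).Normal] (hZ : Subgroup.center (G ⧸ Cfsg.oddCore G) = ⊥) : Cfsg.oddCore G = ⊥ :=
  core h2 hG _ Cores.oddCore_odd (fun N _ hN' => Cores.le_oddCore hN') hZ

end Cfsg.Agent.S2898
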