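import Cfsg.Prelude.Def_AlmostLie
import Cfsg.Agent.Lib.PGroups.Frattini

set_option autoImplicit false
set_option linter.style.haveILetI false
open scoped commutatorElement

namespace Cfsg.Agent.S2907
open Cfsg.Agent.Lib

theorem result {X : Type*} [Group X] [Finite X] {p : ℕ} [Fact p.Prime] (hX : Cfsg.IsSemiExtraspecial p X) (x : X) (hx : x ∉ Subgroup.center X) : (Subgroup.centralizer ({x} : Set X)).index = Nat.card ↥(Subgroup.center X) ∧ {z : X | ∃ y : X, z = x * y * x⁻¹ * y⁻¹} = (Subgroup.center X : Set X) := by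
  obtain ⟨⟨hp, -, hder⟩, hsemi⟩ := hX
  have hc : ∀ a b : X, ⁅a, b⁆ ∈ Subgroup.center X := fun a b => hder ▸
    Subgroup.commutator_mem_commutator (Subgroup.mem_top a) (Subgroup.mem_top b)
  let f : X →* ↥(Subgroup.center X) := MonoidHom.mk' (fun y => ⟨⁅x, y⁆, hc x y⟩) fun a b => by
    apply Subtype.ext
    show ⁅x, a * b⁆ = ⁅x, a⁆ * ⁅x, b⁆
    calc ⁅x, a * b⁆ = ⁅x, a⁆ * (a * ⁅x, b⁆ * a⁻¹) := by simp only [commutatorElement_def]; group
      _ = ⁅x, a⁆ * ⁅x, b⁆ := by rw [Subgroup.mem_center_iff.1 (hc x b) a, mul_inv_cancel_right]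
  have htop : f.range = ⊤ := by
    by_contra hne
    obtain ⟨M, hM, hIM⟩ := (IsCoatomic.eq_top_or_exists_le_coatom f.range).resolve_left hne
    set Y := M.map (Subgroup.center X).subtype with hY
    have hYsub : Y.subgroupOf (Subgroup.center X) = M :=
      Subgroup.comap_map_eq_self_of_injective (Subgroup.center X).subtype_injective M
    have hYle : Y ≤ Subgroup.center X := Subgroup.map_subtype_le M
    obtain ⟨hYn, hE⟩ := hsemi Y hYle (by rw [hYsub]; exact hM)
    haveI := hYn
    set π := QuotientGroup.mk' Y with hπ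
    set Z := (Subgroup.center X).map π with hZ
    have hZc : Z ≤ Subgroup.center (X ⧸ Y) := by
      rintro _ ⟨z, hz, rfl⟩
      rw [Subgroup.mem_center_iff]
      intro g
      obtain ⟨g, rfl⟩ := QuotientGroup.mk'_surjective Y g
      rw [← map_mul, ← map_mul, Subgroup.mem_center_iff.1 hz g]
    have hZcard : Nat.card ↥Z = p := by
      have h1 := (Subgroup.center X).relIndex_ker π
      rw [QuotientGroup.ker_mk'] at h1
      rw [hZ, ← h1]
      show (Y.subgroupOf (Subgroup.center X)).index = p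
      rw [hYsub]
      exact PGroups.coatom_index (hp.to_subgroup _) hM
    have heq : Z = Subgroup.center (X ⧸ Y) := Subgroup.eq_of_le_of_card_ge hZc (by
      rw [hZcard]; exact hE.2.le)
    have hxc : π x ∈ Subgroup.center (X ⧸ Y) := by
      rw [Subgroup.mem_center_iff]
      intro g
      obtain ⟨g, rfl⟩ := QuotientGroup.mk'_surjective Y g
      refine (commutatorElement_eq_one_iff_mul_comm.1 ?_).symm
      rw [← map_commutatorElement, ← MonoidHom.mem_ker, QuotientGroup.ker_mk']
      exact ⟨f g, hIM ⟨g, rfl⟩, rfl⟩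
    rw [← heq] at hxc
    obtain ⟨z, hz, hzx⟩ := hxc
    refine hx ?_
    have hd : z⁻¹ * x ∈ Subgroup.center X := hYle
      ((QuotientGroup.eq (s := Y)).1 hzx)
    simpa using mul_mem (Subgroup.mem_carrier.1 hz) hd
  constructor
  · have hk : f.ker = Subgroup.centralizer ({x} : Set X) := by
      ext y
      rw [MonoidHom.mem_ker, Subgroup.mem_centralizer_singleton_iff, Subtype.ext_iff]
      show ⁅x, y⁆ = 1 ↔ _
      rw [commutatorElement_eq_one_iff_mul_comm, eq_comm]
    rw [← hk, Subgroup.index_ker, htop, Subgroup.card_top]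
  · ext z
    constructor
    · rintro ⟨y, rfl⟩
      exact hc x y
    · intro hz
      obtain ⟨y, hy⟩ := MonoidHom.range_eq_top.1 htop ⟨z, hz⟩
      exact ⟨y, (congrArg Subtype.val hy).symm⟩

end Cfsg.Agent.S2907
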