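import Mathlib
import Cfsg.Agent.Lib.CharP.Basic

set_option autoImplicit false
set_option linter.style.haveILetI false
open scoped commutatorElement

namespace Cfsg.Agent.S2908
open Cfsg.Agent.Lib

variable {G : Type*} [Group G] {p : ℕ}

theorem three_le {X Y Z N : Subgroup G} [N.Normal] (h1 : ⁅⁅Y, Z⁆, X⁆ ≤ N) (h2 : ⁅⁅Z, X⁆, Y⁆ ≤ N) :
    ⁅⁅X, Y⁆, Z⁆ ≤ N := by
  have k : ∀ {U : Subgroup G}, U ≤ N → U.map (QuotientGroup.mk' N) = ⊥ := fun {U} h => by
    rw [Subgroup.map_eq_bot_iff, QuotientGroup.ker_mk']; exact h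
  rw [← QuotientGroup.ker_mk' N, ← Subgroup.map_eq_bot_iff, Subgroup.map_commutator,
    Subgroup.map_commutator]
  refine Subgroup.commutator_commutator_eq_bot_of_rotate ?_ ?_
  · rw [← Subgroup.map_commutator, ← Subgroup.map_commutator]; exact k h1
  · rw [← Subgroup.map_commutator, ← Subgroup.map_commutator]; exact k h2

theorem sup_commutator_le {X Y Z N : Subgroup G} [N.Normal] (h1 : ⁅X, Z⁆ ≤ N) (h2 : ⁅Y, Z⁆ ≤ N) :
    ⁅X ⊔ Y, Z⁆ ≤ N := by
  rw [← QuotientGroup.ker_mk' N, ← Subgroup.map_eq_bot_iff, Subgroup.map_commutator,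
    Subgroup.map_sup, Subgroup.commutator_eq_bot_iff_le_centralizer, sup_le_iff,
    ← Subgroup.commutator_eq_bot_iff_le_centralizer,
    ← Subgroup.commutator_eq_bot_iff_le_centralizer, ← Subgroup.map_commutator,
    ← Subgroup.map_commutator, Subgroup.map_eq_bot_iff, Subgroup.map_eq_bot_iff,
    QuotientGroup.ker_mk']
  exact ⟨h1, h2⟩

theorem core [Finite G] [Fact p.Prime] (P A B : Subgroup G) [hPn : P.Normal] [hSn : (A ⊔ P).Normal]
    (hP : IsPGroup p ↥P) (hA : IsPGroup p ↥A) (hB : ¬ p ∣ Nat.card ↥B)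
    (hAB : ⁅A, B⁆ = ⊥) (hcomm : ⁅P, B⁆ ≤ ⁅P, A⁆) : ⁅P, B⁆ = ⊥ := by
  set S := A ⊔ P with hS
  let D : ℕ → Subgroup G := fun i => Nat.rec P (fun _ X => ⁅X, S⁆) i
  have hD0 : D 0 = P := rfl
  have hDs : ∀ i, D (i + 1) = ⁅D i, S⁆ := fun i => rfl
  have hDn : ∀ i, (D i).Normal := by
    intro i
    induction i with
    | zero => exact hPn
    | succ i ih => rw [hDs]; exact @Subgroup.commutator_normal G _ (D i) S ih hSn
  have hDP : ∀ i, D i ≤ P := by
    intro i
    induction i with
    | zero => exact le_rfl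
    | succ i ih =>
      rw [hDs]
      exact (Subgroup.commutator_mono ih le_rfl).trans (Subgroup.commutator_le_left _ _)
  have h01 : ∀ i, ⁅D i, P⁆ ≤ D (i + 1) := fun i => Subgroup.commutator_mono le_rfl le_sup_right
  have hB1 : ⁅P, B⁆ ≤ D 1 := hcomm.trans (Subgroup.commutator_mono le_rfl le_sup_left)
  have hSB : ⁅S, B⁆ ≤ D 1 := by
    haveI := hDn 1
    exact @sup_commutator_le G _ A P B (D 1) (hDn 1) (by rw [hAB]; exact bot_le) hB1
  have h11 : ∀ i, ⁅D 1, D i⁆ ≤ D (i + 2) := by
    intro i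
    haveI := hDn (i + 2)
    rw [show D 1 = ⁅P, S⁆ from rfl]
    refine three_le ?_ ?_
    · show ⁅⁅S, D i⁆, P⁆ ≤ ⁅D (i + 1), S⁆
      exact Subgroup.commutator_mono (Subgroup.commutator_comm S (D i)).le le_sup_right
    · exact Subgroup.commutator_mono (h01 i) le_rfl
  have hstep : ∀ i, ⁅D i, B⁆ ≤ D (i + 1) := by
    intro i
    induction i with
    | zero => exact hB1
    | succ i ih =>
      haveI := hDn (i + 2)
      rw [hDs i]
      refine three_le ?_ ?_
      · exact (Subgroup.commutator_mono hSB le_rfl).trans (h11 i)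
      · refine Subgroup.commutator_mono ?_ le_rfl
        rw [Subgroup.commutator_comm]; exact ih
  have hSp : IsPGroup p ↥S := hA.to_sup_of_normal_right hP
  obtain ⟨n, hn⟩ := (Subgroup.isNilpotent_iff_lowerCentralSeries S).1 hSp.isNilpotent
  have hbot : D n = ⊥ := by
    refine le_bot_iff.1 (hn ▸ ?_)
    clear hn
    induction n with
    | zero => exact le_sup_right
    | succ n ih => rw [hDs, Subgroup.lowerCentralSeries_succ]; exact Subgroup.commutator_mono ih le_rfl
  rw [Subgroup.commutator_comm, Subgroup.commutator_eq_bot_iff_le_centralizer]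
  intro d hd
  have hd' : (orderOf d).Coprime p :=
    (((Fact.out : p.Prime).coprime_iff_not_dvd.2 hB).symm).coprime_dvd_left
      (Subgroup.orderOf_dvd_natCard _ hd)
  have key : ∀ k i, i + k = n → ∀ a ∈ D i, Commute d a := by
    intro k
    induction k with
    | zero =>
      intro i hi a ha
      rw [show i = n by omega, hbot, Subgroup.mem_bot] at ha
      rw [ha]; exact Commute.one_right d
    | succ k ih =>
      intro i hi a ha
      exact CharP.commute_of_comm_mem (hP.to_le (hDP (i + 1))) hd' (ih (i + 1) (by omega))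
        (hstep i (Subgroup.commutator_mem_commutator (inv_mem ha) hd))
  exact Subgroup.mem_centralizer_iff.2 fun a ha => (key n 0 (by omega) a ha).eq.symm

theorem result {G : Type*} [Group G] [Finite G] {p : ℕ} [Fact p.Prime] (P A B : Subgroup G) (hP : IsPGroup p ↥P) (hA : IsPGroup p ↥A) (hB : ¬ p ∣ Nat.card ↥B) (hnA : A ≤ Subgroup.normalizer (P : Set G)) (hnB : B ≤ Subgroup.normalizer (P : Set G)) (hAB : ⁅A, B⁆ = ⊥) (hcomm : ⁅P, B⁆ ≤ ⁅P, A⁆) : ⁅P, B⁆ = ⊥ := by
  set N := P ⊔ A ⊔ B with hN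
  have hPN : P ≤ N := le_sup_left.trans le_sup_left
  have hAN : A ≤ N := le_sup_right.trans le_sup_left
  have hBN : B ≤ N := le_sup_right
  have hmap : ∀ X Y : Subgroup G, X ≤ N → Y ≤ N →
      (⁅X.subgroupOf N, Y.subgroupOf N⁆).map N.subtype = ⁅X, Y⁆ := fun X Y hX hY => by
    rw [Subgroup.map_commutator, Subgroup.map_subgroupOf_eq_of_le hX,
      Subgroup.map_subgroupOf_eq_of_le hY]
  haveI : (P.subgroupOf N).Normal := Subgroup.normal_subgroupOf_of_le_normalizer
    (sup_le (sup_le Subgroup.le_normalizer hnA) hnB)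
  haveI : (A.subgroupOf N ⊔ P.subgroupOf N).Normal := by
    rw [← Subgroup.subgroupOf_sup hAN hPN]
    refine Subgroup.normal_subgroupOf_of_le_normalizer (sup_le (sup_le ?_ ?_) ?_)
    · exact le_trans le_sup_right Subgroup.le_normalizer
    · exact le_trans le_sup_left Subgroup.le_normalizer
    · intro b hb
      rw [Subgroup.mem_normalizer_iff_map_conj_eq]
      have h1 : A.map (MulAut.conj b).toMonoidHom = A := by
        ext x
        have hc := Subgroup.commutator_eq_bot_iff_le_centralizer.1 hAB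
        simp only [Subgroup.mem_map, MulEquiv.coe_toMonoidHom, MulAut.conj_apply]
        constructor
        · rintro ⟨a, ha, rfl⟩
          rwa [Subgroup.mem_centralizer_iff.1 (hc ha) b hb, mul_inv_cancel_right]
        · exact fun hx => ⟨x, hx, by
            rw [Subgroup.mem_centralizer_iff.1 (hc hx) b hb, mul_inv_cancel_right]⟩
      exact (Subgroup.map_sup A P _).trans
        (congrArg₂ (· ⊔ ·) h1 (Subgroup.mem_normalizer_iff_map_conj_eq.1 (hnB hb)))
  have h := core (p := p) (P.subgroupOf N) (A.subgroupOf N) (B.subgroupOf N) hP.comap_subtype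
    hA.comap_subtype (by rwa [Nat.card_congr (Subgroup.subgroupOfEquivOfLe hBN).toEquiv])
    (Subgroup.map_injective N.subtype_injective (by rw [hmap A B hAN hBN, hAB, Subgroup.map_bot]))
    (by
      rw [← Subgroup.map_subtype_le_map_subtype, hmap P B hPN hBN, hmap P A hPN hAN]
      exact hcomm)
  rw [← hmap P B hPN hBN, h, Subgroup.map_bot]

end Cfsg.Agent.S2908
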