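import Cfsg.Prelude.Def_Transfer
import Cfsg.Agent.Lib.Coprime.Generation
import Cfsg.Agent.Lib.Classif.PTimesQ
import Cfsg.Agent.Lib.PGroups.ElemAb
import Cfsg.Agent.S2908

set_option autoImplicit false
set_option linter.style.haveILetI false
open scoped commutatorElement

namespace Cfsg.Agent.S2909
open Cfsg Cfsg.Agent.Lib

variable {G : Type*} [Group G]

theorem comm_facts {U D : Subgroup G} (hU : ∀ a ∈ U, ∀ b ∈ U, a * b = b * a) (hDn : U ≤ Subgroup.normalizer (D : Set G))
    {u v r : G} (hu : u ∈ U) (hv : v ∈ U) (hr : r ∈ D) (hru : r * u = u * r) :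
    ⁅r, v⁆ ∈ D ∧ ⁅r, v⁆ * u = u * ⁅r, v⁆ := by
  constructor
  · have := D.mul_mem hr ((Subgroup.mem_normalizer_iff.1 (hDn hv) r⁻¹).1 (inv_mem hr))
    simpa [commutatorElement_def, mul_assoc] using this
  · have h1 : Commute r u := hru
    have h2 : Commute v u := hU v hv u hu
    exact (((h1.mul_left h2).mul_left h1.inv_left).mul_left h2.inv_left).eq

theorem result {G : Type*} [Group G] [Finite G] {p : ℕ} [Fact p.Prime] (E : Subgroup G) [E.Normal] (hE : IsPGroup p ↥E) (U : Subgroup G) (hU : Cfsg.IsElementaryAbelian p U) (hnc : ¬ IsCyclic ↥U) (hcond : (∀ u ∈ U, u ≠ 1 → E ⊓ Subgroup.centralizer (U : Set G) = E ⊓ Subgroup.centralizer ({u} : Set G)) ∨ (∀ u ∈ U, u ≠ 1 → ⁅E, U⁆ = ⁅E, Subgroup.zpowers u⁆)) (R : Subgroup G) (hR : ¬ p ∣ Nat.card ↥R) (hRU : U ≤ Subgroup.normalizer (R : Set G)) : ⁅R, U⁆ ≤ Subgroup.centralizer (E : Set G) := by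
  haveI : IsMulCommutative U := hU.1
  have hUc : ∀ a ∈ U, ∀ b ∈ U, a * b = b * a := fun a ha b hb => PGroups.elemAb_comm hU ha hb
  set C := Subgroup.centralizer (E : Set G) with hC
  haveI : C.Normal := Subgroup.normal_centralizer
  have hcop : (Nat.card U).Coprime (Nat.card R) := by
    obtain ⟨k, hk⟩ := IsPGroup.iff_card.1 (PGroups.elemAb_isPGroup hU)
    rw [hk]
    exact ((Fact.out : p.Prime).coprime_iff_not_dvd.2 hR).pow_left k
  -- the key elementwise fact
  have key : ∀ u ∈ U, u ≠ 1 → ∀ r ∈ R, r * u = u * r → ∀ v ∈ U, ⁅r, v⁆ ∈ C := by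
    intro u hu hu1 r hr hru v hv
    obtain ⟨hdR, hdu⟩ := comm_facts hUc hRU hu hv hr hru
    set d := ⁅r, v⁆ with hd
    have hdcop : (orderOf d).Coprime p :=
      (((Fact.out : p.Prime).coprime_iff_not_dvd.2 hR).symm).coprime_dvd_left
        (Subgroup.orderOf_dvd_natCard _ hdR)
    have hconj : ∀ x ∈ E, ∀ g : G, g * x * g⁻¹ ∈ E := fun x hx g => (inferInstance : E.Normal).conj_mem x hx g
    have hzu : IsPGroup p ↥(Subgroup.zpowers u) :=
      IsPGroup.of_card_dvd_pow (n := 1) (by
        rw [Nat.card_zpowers, pow_one]; exact orderOf_dvd_of_pow_eq_one (hU.2 u hu))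
    rcases hcond with hcond | hcond
    · rw [hC, Subgroup.mem_centralizer_iff]
      refine fun x hx => (Classif.pTimesQ (p := p) E (Subgroup.zpowers u) d hE hzu
        Subgroup.le_normalizer_of_normal (fun x hx => hconj x hx d) hdcop ?_ ?_ x hx).symm
      · intro t ht
        obtain ⟨k, rfl⟩ := Subgroup.mem_zpowers_iff.1 ht
        exact ((show Commute d u from hdu).zpow_right k).eq
      · intro x hx hxu
        -- `r` normalizes `C_E(u) = C_E(U)`, so `v` and `r` commute on it
        have mem : ∀ y ∈ E, y * u = u * y → v * y = y * v := fun y hy hyu =>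
          Subgroup.mem_centralizer_iff.1 ((hcond u hu hu1).ge
            ⟨hy, Subgroup.mem_centralizer_singleton_iff.2 hyu⟩).2 v hv
        have h2 : r⁻¹ * x * r * u = u * (r⁻¹ * x * r) :=
          ((((show Commute r u from hru).inv_left).mul_left
            (show Commute x u from (hxu u (Subgroup.mem_zpowers u)).symm)).mul_left hru).eq
        have hx' : r⁻¹ * x * r ∈ E := by simpa using hconj x hx r⁻¹
        have e1 := mem x hx (hxu u (Subgroup.mem_zpowers u)).symm
        have e2 := mem _ hx' h2
        have e1' : v⁻¹ * x = x * v⁻¹ := ((show Commute v x from e1).inv_left).eq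
        rw [hd, commutatorElement_def]
        calc r * v * r⁻¹ * v⁻¹ * x = r * v * r⁻¹ * (x * v⁻¹) := by rw [← e1']; group
          _ = r * (v * (r⁻¹ * x * r)) * r⁻¹ * v⁻¹ := by group
          _ = r * ((r⁻¹ * x * r) * v) * r⁻¹ * v⁻¹ := by rw [e2]
          _ = x * (r * v * r⁻¹ * v⁻¹) := by group
    · -- `d` acts trivially on `E / ⁅E, u⁆`
      set W := ⁅E, Subgroup.zpowers u⁆ with hW
      have hWE : ⁅E, U⁆ = W := hcond u hu hu1
      have hWn : ∀ g, g * u = u * g → ∀ w ∈ W, g * w * g⁻¹ ∈ W := by
        intro g hgu w hw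
        have h1 : W.map (MulAut.conj g).toMonoidHom = W := by
          rw [hW, Subgroup.map_commutator, MonoidHom.map_zpowers, MulEquiv.coe_toMonoidHom,
            MulAut.conj_apply, hgu, mul_inv_cancel_right]
          congr 1
          exact Subgroup.Normal.map_conj_eq E g
        exact h1 ▸ ⟨w, hw, rfl⟩
      have hEW : ∀ e ∈ E, ∀ t ∈ U, ⁅t, e⁆ ∈ W := fun e he t ht => by
        rw [← commutatorElement_inv, inv_mem_iff, ← hWE]
        exact Subgroup.commutator_mem_commutator he ht
      have hcomm : ⁅E, Subgroup.zpowers d⁆ ≤ W := by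
        have hdW : ∀ e ∈ E, e * (d * e⁻¹ * d⁻¹) ∈ W := by
          intro e he
          -- `v` fixes `e` modulo `W`; conjugate by `r`
          have hvu : v * u = u * v := hUc v hv u hu
          have a1 : ∀ y ∈ E, y * (v * y⁻¹ * v⁻¹) ∈ W := fun y hy => by
            rw [← hWE]
            have := Subgroup.commutator_mem_commutator hy hv
            simpa [commutatorElement_def, mul_assoc] using this
          have a2 : ∀ y ∈ E, y * (v⁻¹ * y⁻¹ * v) ∈ W := fun y hy => by
            rw [← hWE]
            have := Subgroup.commutator_mem_commutator hy (inv_mem hv)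
            simpa [commutatorElement_def, mul_assoc] using this
          set y := r⁻¹ * e * r with hy
          have hyE : y ∈ E := by simpa using hconj e he r⁻¹
          set z := r⁻¹ * (v⁻¹ * e * v) * r with hz
          have hzE : z ∈ E := by
            have h3 : v⁻¹ * e * v ∈ E := by simpa using hconj e he v⁻¹
            simpa using hconj _ h3 r⁻¹
          -- e * (d e⁻¹ d⁻¹) = (e * (v⁻¹ e⁻¹ v)) * r (z * (v z⁻¹ v⁻¹)) r⁻¹
          have h3 := W.mul_mem (a2 e he) (hWn r hru _ (a1 z hzE))
          convert h3 using 1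
          rw [hz, hd, commutatorElement_def]; group
        rw [Subgroup.commutator_le]
        intro e he t ht
        have hmem : t ∈ Subgroup.zpowers d := ht
        obtain ⟨k, rfl⟩ := mem_powers_iff_mem_zpowers.2 hmem
        show ⁅e, d ^ k⁆ ∈ W
        induction k with
        | zero => rw [pow_zero, commutatorElement_one_right]; exact one_mem _
        | succ k ih =>
          have h5 := W.mul_mem (ih (Subgroup.npow_mem_zpowers d k) (Subgroup.npow_mem_zpowers d k))
            (hWn (d ^ k) ((show Commute d u from hdu).pow_left k).eq _ (hdW e he))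
          convert h5 using 1
          rw [pow_succ, commutatorElement_def, commutatorElement_def]; group
      have hB : ¬ p ∣ Nat.card ↥(Subgroup.zpowers d) := by
        rw [Nat.card_zpowers]
        exact (Fact.out : p.Prime).coprime_iff_not_dvd.1 hdcop.symm
      have hbot := S2908.result E (Subgroup.zpowers u) (Subgroup.zpowers d) hE hzu hB
        Subgroup.le_normalizer_of_normal Subgroup.le_normalizer_of_normal (by
          rw [Subgroup.commutator_eq_bot_iff_le_centralizer, Subgroup.zpowers_le,
            Subgroup.mem_centralizer_iff]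
          intro t ht
          obtain ⟨k, rfl⟩ := Subgroup.mem_zpowers_iff.1 ht
          exact ((show Commute d u from hdu).zpow_left k).eq) hcomm
      rw [Subgroup.commutator_eq_bot_iff_le_centralizer] at hbot
      rw [hC, Subgroup.mem_centralizer_iff]
      intro x hx
      exact (Subgroup.mem_centralizer_iff.1 (hbot hx) d (Subgroup.mem_zpowers d)).symm
  -- generation
  have hgen := Coprime.iSup_centralizer_eq hnc hRU hcop
  have hle : R ≤ (Subgroup.centralizer ((U.map (QuotientGroup.mk' C) : Subgroup (G ⧸ C)) :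
      Set (G ⧸ C))).comap (QuotientGroup.mk' C) := by
    rw [← hgen]
    refine iSup₂_le fun u hu r hr => ?_
    rw [Subgroup.mem_comap, Subgroup.mem_centralizer_iff]
    rintro _ ⟨v, hv, rfl⟩
    refine (commutatorElement_eq_one_iff_mul_comm.1 ?_).symm
    rw [← map_commutatorElement, QuotientGroup.mk'_apply, QuotientGroup.eq_one_iff]
    exact key u hu.1 hu.2 r hr.1 (Subgroup.mem_centralizer_singleton_iff.1 hr.2) v hv
  have h2 : (⁅R, U⁆).map (QuotientGroup.mk' C) = ⊥ := by
    rw [Subgroup.map_commutator, Subgroup.commutator_eq_bot_iff_le_centralizer,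
      Subgroup.map_le_iff_le_comap]
    exact hle
  rwa [Subgroup.map_eq_bot_iff, QuotientGroup.ker_mk'] at h2

end Cfsg.Agent.S2909
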