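import Cfsg.Prelude.Def_Transfer
import Cfsg.Prelude.Def_PLocal
import Cfsg.Prelude.Def_CaseTheorems
import Cfsg.Agent.Lib.Transfer.Frobenius
import Cfsg.Agent.Lib.OddLocal.CoprimeFix

set_option autoImplicit false
set_option linter.style.haveILetI false

namespace Cfsg.Agent.S2910
open Cfsg.Agent.Lib

theorem result {G : Type*} [Group G] [Finite G] {p : ℕ} [Fact p.Prime] (hp : p ≠ 2) (hdiv : p ∣ Nat.card G) (P : Sylow p G) (hZ : Cfsg.omegaOne p (P : Subgroup G) ≤ Subgroup.center G) : Cfsg.HasNormalPComplement p G ∧ ¬ Cfsg.IsQuasisimple G := by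
  have hcentral : ∀ x : G, orderOf x = p → x ∈ Subgroup.center G := by
    intro x hx
    obtain ⟨S, hS⟩ := (IsPGroup.of_card (G := ↥(Subgroup.zpowers x)) (n := 1)
      (by rw [Nat.card_zpowers, hx, pow_one])).exists_le_sylow
    obtain ⟨g, hg⟩ := MulAction.exists_smul_eq G S P
    have hx' : g * x * g⁻¹ ∈ (P : Subgroup G) := by
      rw [← hg]; exact ⟨x, hS (Subgroup.mem_zpowers x), rfl⟩
    have h := hZ (Subgroup.subset_closure ⟨hx', by rw [conj_pow, ← hx, pow_orderOf_eq_one]; group⟩)
    have h2 := (inferInstance : (Subgroup.center G).Normal).conj_mem _ h g⁻¹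
    simpa [mul_assoc] using h2
  have hN : Cfsg.HasNormalPComplement p G := by
    refine Transfer.Frobenius.hasNormalPComplement_of_forall_centralizes fun Q hQ _ g hg hgp => ?_
    have := OddLocal.CoprimeFix.centralizes_of_omega hp hgp hQ hg fun h _ hh =>
      Subgroup.mem_center_iff.1 (hcentral h hh) g
    exact Subgroup.mem_centralizer_iff.2 fun h hh => (this h hh).symm
  refine ⟨hN, fun hq => ?_⟩
  haveI : Group.IsPerfect G := hq.1
  have hnd := Transfer.PResidual.hasNormalPComplement_iff_not_dvd.1 hN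
  have hne : Cfsg.pResidual p G ≠ ⊤ := fun h => hnd (by rw [h, Subgroup.card_top]; exact hdiv)
  haveI : (Cfsg.pResidual p G).Normal := Transfer.PResidual.pResidual_normal
  haveI : Nontrivial (G ⧸ Cfsg.pResidual p G) := QuotientGroup.nontrivial_iff.2 hne
  haveI : Group.IsPerfect (G ⧸ Cfsg.pResidual p G) :=
    Group.IsPerfect.ofSurjective (QuotientGroup.mk'_surjective (Cfsg.pResidual p G))
  exact Group.IsPerfect.not_isNilpotent (G ⧸ Cfsg.pResidual p G)
    (Transfer.PResidual.isPGroup_quotient).isNilpotent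

end Cfsg.Agent.S2910
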