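import Cfsg.Statements.S2918
import Cfsg.Agent.Lib.A8Type36.Ends
import Cfsg.Agent.Lib.A8Type36.Three

set_option autoImplicit false
open Cfsg

namespace Cfsg.Agent.S2918

/-- Let G be a finite group with O²(G) = G and O₂(G) = O(G) = 1 whose Sylow 2-subgroups are isomorphic to those of the alternating group of degree 8, and suppose that the centralizer in G of every involution in the centre of a Sylow 2-subgroup is solvable. Then G is isomorphic to A₈, A₉ or PSp₄(3). -/
theorem result {G : Type*} [Group G] [Finite G] (hO2 : Cfsg.pResidual 2 G = ⊤) (hcore2 : Cfsg.pCore 2 G = ⊥) (hodd : Cfsg.oddCore G = ⊥) (S : Sylow 2 G) (hS : ∀ P : Sylow 2 ↥(alternatingGroup (Fin 8)), Nonempty (↥(S : Subgroup G) ≃* ↥(P : Subgroup ↥(alternatingGroup (Fin 8))))) (hsol : ∀ z : G, z ∈ (S : Subgroup G) → (∀ s ∈ (S : Subgroup G), s * z = z * s) → orderOf z = 2 → IsSolvable ↥(Subgroup.centralizer ({z} : Set G))) : Nonempty (G ≃* ↥(alternatingGroup (Fin 8))) ∨ Nonempty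 (G ≃* ↥(alternatingGroup (Fin 9))) ∨ (∃ (F : Type) (_ : Field F) (_ : Fintype F), Fintype.card F = 3 ∧ Nonempty (G ≃* Cfsg.PSp 2 F)) := by
  haveI : Fact (Nat.Prime 2) := ⟨Nat.prime_two⟩
  obtain ⟨M₀, hM₀⟩ := Cfsg.Agent.Lib.A8Type36.exists_mdl S hS
  obtain ⟨M, hMS, hcase⟩ := M₀.exists_pattern hodd hcore2
  have hzS : M.ι 15 ∈ (S : Subgroup G) := by rw [← hM₀, ← hMS]; exact M.ι_mem (by norm_num)
  have hz2 : orderOf (M.ι 15) = 2 :=
    orderOf_eq_prime (by rw [sq, M.w_sq (by norm_num)]) (M.ι_ne_one (by norm_num) (by norm_num))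
  have hsolv : Group.IsSolvable ↥M.H := hsol (M.ι 15) hzS (fun s hs => by
    rw [← hM₀, ← hMS] at hs
    exact Subgroup.mem_centralizer_singleton_iff.1 (M.S_le_H hs)) hz2
  rcases hcase with hP | hP | hP
  · obtain ⟨hf, -, -⟩ := M.three_data hO2 hodd hcore2 hsolv hP
    exact (M.false_of_three hodd hcore2 hf).elim
  · exact Or.inr (Or.inr (Cfsg.Agent.Lib.A8Type36.iso_of_five M hO2 hodd hcore2 hsolv hP))
  · rcases Cfsg.Agent.Lib.A8Type36.iso_of_nine M hO2 hodd hcore2 hsolv hP with h | h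
    · exact Or.inl h
    · exact Or.inr (Or.inl h)

end Cfsg.Agent.S2918
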