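import Cfsg.Prelude.Def_Local
import Cfsg.Agent.Lib.CharP.Basic
import Cfsg.Agent.Lib.Balance.Locals

set_option autoImplicit false
set_option linter.style.haveILetI false

namespace Cfsg.Agent.S2922
open Cfsg Cfsg.Agent.Lib

theorem result {X : Type*} [Group X] [Finite X] {p : ℕ} [Fact p.Prime] (B C : Subgroup X) (hB : IsPGroup p ↥B) (hCB : C ≤ B) (hCn : (C.subgroupOf B).Normal) (hC : Cfsg.generalizedFittingSubgroup ↥(Subgroup.normalizer (C : Set X)) = Cfsg.pCore p ↥(Subgroup.normalizer (C : Set X))) : Cfsg.generalizedFittingSubgroup ↥(Subgroup.normalizer (B : Set X)) = Cfsg.pCore p ↥(Subgroup.normalizer (B : Set X)) ∧ Cfsg.generalizedFittingSubgroup ↥(Subgroup.centralizer (B : Set X)) = Cfsg.pCore p ↥(Subgroup.centralizer (B : Set X)) := by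
  set L := Subgroup.normalizer (C : Set X) with hL
  set K := Subgroup.centralizer (B : Set X) with hK
  set N := Subgroup.normalizer (B : Set X) with hN
  have hLc := Balance.centralizer_pCore_le_iff.2 hC
  have hBL : B ≤ L := (Subgroup.normal_subgroupOf_iff_le_normalizer hCB).1 hCn
  have hKL : K ≤ L := (Subgroup.centralizer_le hCB).trans (Subgroup.centralizer_le_normalizer _)
  have hKN : K ≤ N := Subgroup.centralizer_le_normalizer _
  have main : ∀ x ∈ K, (orderOf x).Coprime p → (∀ u ∈ pCoreOf p K, Commute x u) → x = 1 := by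
    intro x hxK hx hc
    refine CharP.eq_one_of_charP hLc (hKL hxK) hx ?_
    refine CharP.commute_of_axb hB hx (fun b hb => (Subgroup.mem_centralizer_iff.1 hxK b hb).symm)
      (CharP.isPGroup_pCoreOf p L) (hBL.trans (CharP.le_normalizer_pCoreOf p L))
      (CharP.le_normalizer_pCoreOf p L (hKL hxK)) fun u hu hub => hc u ?_
    refine CharP.le_pCoreOf ((CharP.isPGroup_pCoreOf p L).to_le inf_le_left)
      (N := pCoreOf p L ⊓ K) inf_le_right ?_
      ⟨hu, Subgroup.mem_centralizer_iff.2 fun b hb => (hub b hb).eq.symm⟩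
    exact le_trans (le_inf (hKL.trans (CharP.le_normalizer_pCoreOf p L)) Subgroup.le_normalizer)
      Subgroup.inf_normalizer_le_normalizer_inf
  refine ⟨Balance.centralizer_pCore_le_iff.1 (CharP.charP_of_coprime fun x hxN hx hc => ?_),
    Balance.centralizer_pCore_le_iff.1 (CharP.charP_of_coprime main)⟩
  have hBc : B ≤ pCoreOf p N := CharP.le_pCoreOf hB Subgroup.le_normalizer le_rfl
  have hxK : x ∈ K := Subgroup.mem_centralizer_iff.2 fun b hb => (hc b (hBc hb)).eq.symm
  refine main x hxK hx fun u hu => hc u ?_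
  refine CharP.le_pCoreOf (CharP.isPGroup_pCoreOf p K) ((CharP.pCoreOf_le p K).trans hKN) ?_ hu
  intro n hn
  have hKn : K.map (MulAut.conj n).toMonoidHom = K := by
    haveI : (K.subgroupOf N).Normal := by
      have := Subgroup.normal_subgroupOf_centralizer_normalizer (B : Set X)
      exact this
    exact Subgroup.mem_normalizer_iff_map_conj_eq.1
      ((Subgroup.normal_subgroupOf_iff_le_normalizer hKN).1 inferInstance hn)
  rw [Subgroup.mem_normalizer_iff_map_conj_eq]
  refine Subgroup.eq_of_le_of_card_ge (CharP.le_pCoreOf ((CharP.isPGroup_pCoreOf p K).map _) ?_ ?_)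
    (Subgroup.card_map_of_injective (MulAut.conj n).injective).ge
  · exact (Subgroup.map_mono (CharP.pCoreOf_le p K)).trans hKn.le
  · conv_lhs => rw [← hKn]
    exact (Subgroup.map_mono (CharP.le_normalizer_pCoreOf p K)).trans
      (Subgroup.le_normalizer_map _)

end Cfsg.Agent.S2922
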