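import Cfsg.Prelude.Def_Local
import Cfsg.Agent.Lib.Balance.Basic
import Cfsg.Agent.Lib.Classif.PTimesQ
import Cfsg.Agent.Lib.Components.GenFitting
import Cfsg.Agent.Lib.RankOne.Involution
import Cfsg.Agent.Lib.CharP.Basic

set_option autoImplicit false
set_option linter.style.haveILetI false
open Cfsg
open scoped commutatorElement

namespace Cfsg.Agent.S2924
open Cfsg.Agent.Lib

variable {X : Type*} [Group X] [Finite X]

theorem coprime_of_odd_core {H : Subgroup X} {d : X} (hd : d ∈ Balance.coreIn 2 H) :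
    (orderOf d).Coprime 2 :=
  (Balance.coreIn_coprime H).coprime_dvd_left (Subgroup.orderOf_dvd_natCard _ hd)

theorem odd_coreIn (H : Subgroup X) : Odd (Nat.card ↥(Balance.coreIn 2 H)) :=
  Nat.coprime_two_right.1 (Balance.coreIn_coprime H)

/-- An odd core meets a 2-group trivially. -/
theorem eq_one_of_mem {H R : Subgroup X} (hR : IsPGroup 2 ↥R) {d : X}
    (hd : d ∈ Balance.coreIn 2 H) (hdR : d ∈ R) : d = 1 :=
  CharP.eq_one_of_coprime_of_mem hR hdR (coprime_of_odd_core hd)

theorem comm_of_normalize {H R : Subgroup X} {d q : X} (hR : IsPGroup 2 ↥R)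
    (hd : d ∈ Balance.coreIn 2 H) (hqW : q * d⁻¹ * q⁻¹ ∈ Balance.coreIn 2 H)
    (hq : q ∈ R) (hdq : d * q * d⁻¹ ∈ R) : d * q = q * d := by
  have h1 : d * (q * d⁻¹ * q⁻¹) = 1 := by
    refine eq_one_of_mem hR (mul_mem hd hqW) ?_
    have := mul_mem hdq (inv_mem hq)
    convert this using 1
    group
  calc d * q = d * (q * d⁻¹ * q⁻¹) * (q * d) := by group
    _ = q * d := by rw [h1, one_mul]

/-- Characteristic 2 of `C(z)` kills `O(C(z) ∩ C(y))`. -/
theorem core_inf_eq_one {z y : X} (hy : y * y = 1) (hzy : z * y = y * z)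
    (hchar : Subgroup.centralizer (pCore 2 ↥(Subgroup.centralizer ({z} : Set X)) :
      Set ↥(Subgroup.centralizer ({z} : Set X))) ≤ pCore 2 ↥(Subgroup.centralizer ({z} : Set X)))
    {d : X} (hd : d ∈ Balance.coreIn 2
      (Subgroup.centralizer ({z} : Set X) ⊓ Subgroup.centralizer ({y} : Set X))) : d = 1 := by
  set L := Subgroup.centralizer ({z} : Set X) with hL
  set I := L ⊓ Subgroup.centralizer ({y} : Set X) with hI
  set R := pCoreOf 2 L
  have hdI : d ∈ I := Balance.coreIn_le I hd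
  have hR : IsPGroup 2 ↥R := CharP.isPGroup_pCoreOf 2 L
  have hn : L ≤ Subgroup.normalizer (R : Set X) := CharP.le_normalizer_pCoreOf 2 L
  refine CharP.eq_one_of_charP hchar hdI.1 (coprime_of_odd_core hd) fun q hq => ?_
  refine Classif.pTimesQ (p := 2) R (Subgroup.zpowers y) d hR ?_ ?_ ?_
    (coprime_of_odd_core hd) ?_ ?_ q hq
  · refine IsPGroup.of_card_dvd_pow (n := 1) ?_
    rw [Nat.card_zpowers, pow_one]
    exact orderOf_dvd_of_pow_eq_one (by rw [pow_two, hy])
  · refine Subgroup.zpowers_le.2 (hn ?_)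
    exact Subgroup.mem_centralizer_singleton_iff.2 hzy.symm
  · exact fun x hx => (Subgroup.mem_normalizer_iff.1 (hn hdI.1) x).1 hx
  · intro t ht
    obtain ⟨k, rfl⟩ := Subgroup.mem_zpowers_iff.1 ht
    exact ((show Commute d y from Subgroup.mem_centralizer_singleton_iff.1 hdI.2).zpow_right k).eq
  · intro x hx hxy
    have hxI : x ∈ I := ⟨CharP.pCoreOf_le 2 L hx,
      Subgroup.mem_centralizer_singleton_iff.2 (hxy y (Subgroup.mem_zpowers y)).symm⟩
    exact comm_of_normalize hR hd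
      ((Subgroup.mem_normalizer_iff.1 (Balance.le_normalizer_coreIn I hxI) _).1 (inv_mem hd)) hx
      ((Subgroup.mem_normalizer_iff.1 (hn hdI.1) x).1 hx)

theorem inverted_commute {z v w : X} {V : Subgroup X} (hV : Odd (Nat.card V)) (hv : v ∈ V)
    (hn : ∀ u ∈ V, z * u * z⁻¹ = u⁻¹) (hw : z * w * z⁻¹ = w⁻¹) (hwV : w * v * w⁻¹ ∈ V)
    (hword : Odd (orderOf w)) : Commute w v := by
  have h1 : w⁻¹ * v⁻¹ * w = w * v⁻¹ * w⁻¹ := by
    calc w⁻¹ * v⁻¹ * w = (z * w * z⁻¹) * (z * v * z⁻¹) * (z * w * z⁻¹)⁻¹ := by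
          rw [hw, hn v hv, inv_inv]
      _ = z * (w * v * w⁻¹) * z⁻¹ := by group
      _ = (w * v * w⁻¹)⁻¹ := hn _ hwV
      _ = w * v⁻¹ * w⁻¹ := by group
  have h2 : Commute (w ^ 2) v⁻¹ := by
    have : w * (w⁻¹ * v⁻¹ * w) * w = w * (w * v⁻¹ * w⁻¹) * w := by rw [h1]
    show w ^ 2 * v⁻¹ = v⁻¹ * w ^ 2
    calc w ^ 2 * v⁻¹ = w * (w * v⁻¹ * w⁻¹) * w := by rw [pow_two]; group
      _ = w * (w⁻¹ * v⁻¹ * w) * w := this.symm
      _ = v⁻¹ * w ^ 2 := by rw [pow_two]; group
  obtain ⟨m, hm⟩ := hword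
  have h3 : Commute ((w ^ 2) ^ (m + 1)) v⁻¹ := h2.pow_left _
  rw [← pow_mul, show 2 * (m + 1) = orderOf w + 1 by omega, pow_succ, pow_orderOf_eq_one,
    one_mul] at h3
  exact Commute.inv_right_iff.1 h3

theorem conj_core {g x : X} (hx : x ∈ Balance.coreIn 2 (Subgroup.centralizer ({g} : Set X)))
    {h : X} (hh : h * g = g * h) :
    h * x * h⁻¹ ∈ Balance.coreIn 2 (Subgroup.centralizer ({g} : Set X)) :=
  (Subgroup.mem_normalizer_iff.1 (Balance.le_normalizer_coreIn _
    (Subgroup.mem_centralizer_singleton_iff.2 hh)) x).1 hx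

theorem main (Y : Subgroup X) (hY : IsElementaryAbelian 2 Y) (h8 : 8 ≤ Nat.card ↥Y)
    (hE : ∀ x ∈ Y, x ≠ 1 → layer ↥(Subgroup.centralizer ({x} : Set X)) = ⊥)
    (hz : ∃ z ∈ Y, z ≠ 1 ∧ generalizedFittingSubgroup ↥(Subgroup.centralizer ({z} : Set X)) =
      pCore 2 ↥(Subgroup.centralizer ({z} : Set X))) :
    let S : Subgroup X := ⨆ y : {y : X // y ∈ Y ∧ y ≠ 1}, centralizerPPrimeCore 2 (y : X)
    Odd (Nat.card ↥S) ∧ Subgroup.normalizer (Y : Set X) ≤ Subgroup.normalizer (S : Set X) := by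
  intro S
  obtain ⟨z, hzY, -, hzF⟩ := hz
  have hchar := hzF ▸ Components.GenFitting.centralizer_le
    (G := ↥(Subgroup.centralizer ({z} : Set X)))
  have hsq : ∀ a ∈ Y, a * a = 1 := fun a ha => by rw [← pow_two, hY.2 a ha]
  have hcm : ∀ a ∈ Y, ∀ b ∈ Y, a * b = b * a := fun a ha b hb =>
    congrArg Subtype.val (hY.1.is_comm.comm ⟨a, ha⟩ ⟨b, hb⟩)
  let θ : X → Subgroup X := fun g => Balance.coreIn 2 (Subgroup.centralizer ({g} : Set X))
  have hθ : ∀ g, centralizerPPrimeCore 2 g = θ g := fun g => rfl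
  have hconj : ∀ g ∈ Y, ∀ a ∈ Y, ∀ x ∈ θ g, a * x * a⁻¹ ∈ θ g :=
    fun g hg a ha x hx => conj_core hx (hcm a ha g hg)
  -- `z` inverts every core
  have hinv : ∀ g ∈ Y, ∀ x ∈ θ g, z * x * z⁻¹ = x⁻¹ := by
    intro g hg x hx
    obtain ⟨c, hc, i, hi, hct, hit, rfl⟩ := RankOne.Involution.exists_decomp (odd_coreIn _)
      (hsq z hzY) (hconj g hg z hzY) hx
    have hc1 : c = 1 := by
      refine core_inf_eq_one (hsq g hg) (hcm z hzY g hg) hchar ?_
      rw [inf_comm]
      exact Balance.core_centralizer_inf_le g z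
        ⟨hc, Subgroup.mem_centralizer_singleton_iff.2 (mul_inv_eq_iff_eq_mul.1 hct).symm⟩
    subst hc1
    simpa using hit
  -- balance
  have hbal : ∀ x ∈ Y, ∀ y ∈ Y, y ≠ 1 → ∀ d ∈ θ x, d * y = y * d → d ∈ θ y := by
    intro x hx y hy hy1 d hd hdy
    set D := Subgroup.centralizer ({y} : Set X) with hD
    have hdD : d ∈ D := Subgroup.mem_centralizer_singleton_iff.2 hdy
    have hxD : x ∈ D := Subgroup.mem_centralizer_singleton_iff.2 (hcm x hx y hy)
    have hdx : d * x = x * d :=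
      Subgroup.mem_centralizer_singleton_iff.1 (Balance.coreIn_le _ hd)
    have hR := CharP.isPGroup_pCoreOf 2 D
    have hn := CharP.le_normalizer_pCoreOf 2 D
    have h1 : ∀ q ∈ pCoreOf 2 D, d * q = q * d := by
      refine Classif.pTimesQ (p := 2) _ (Subgroup.zpowers x) d hR ?_ ?_ ?_
        (coprime_of_odd_core hd) ?_ ?_
      · refine IsPGroup.of_card_dvd_pow (n := 1) ?_
        rw [Nat.card_zpowers, pow_one]
        exact orderOf_dvd_of_pow_eq_one (by rw [pow_two, hsq x hx])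
      · exact Subgroup.zpowers_le.2 (hn hxD)
      · exact fun q hq => (Subgroup.mem_normalizer_iff.1 (hn hdD) q).1 hq
      · intro t ht
        obtain ⟨k, rfl⟩ := Subgroup.mem_zpowers_iff.1 ht
        exact ((show Commute d x from hdx).zpow_right k).eq
      · intro q hq hqx
        exact comm_of_normalize hR hd
          (conj_core (inv_mem hd) (hqx x (Subgroup.mem_zpowers x)).symm) hq
          ((Subgroup.mem_normalizer_iff.1 (hn hdD) q).1 hq)
    have h2 : ∀ q ∈ θ y, d * q = q * d := fun q hq =>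
      (inverted_commute (odd_coreIn D) hq (hinv y hy) (hinv x hx d hd)
        ((Subgroup.mem_normalizer_iff.1 (Balance.le_normalizer_coreIn D hdD) q).1 hq)
        ((odd_coreIn (Subgroup.centralizer ({x} : Set X))).of_dvd_nat
          (Subgroup.orderOf_dvd_natCard _ hd))).eq
    have hFle : fittingSubgroup ↥D ≤ pCore 2 ↥D ⊔ pPrimeCore 2 ↥D := by
      rw [Cores.fittingSubgroup_eq_iSup_pCore]
      refine iSup_le fun q => ?_
      by_cases hq : (q : ℕ) = 2
      · rw [hq]; exact le_sup_left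
      · refine le_trans (Cores.le_pPrimeCore ?_) le_sup_right
        haveI : Fact (q : ℕ).Prime := ⟨q.2⟩
        obtain ⟨k, hk⟩ := IsPGroup.iff_card.1 (Cores.pCore_isPGroup (G := ↥D) (q : ℕ))
        rw [hk]
        exact ((Nat.coprime_primes q.2 Nat.prime_two).2 hq).pow_left k
    have hdC : (⟨d, hdD⟩ : ↥D) ∈ Subgroup.centralizer (generalizedFittingSubgroup ↥D : Set ↥D) := by
      rw [generalizedFittingSubgroup, hE y hy hy1, bot_sup_eq]
      refine Subgroup.centralizer_le hFle ?_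
      rw [Subgroup.sup_eq_closure, Subgroup.centralizer_closure, Subgroup.mem_centralizer_iff]
      rintro q (hq | hq)
      · exact Subtype.ext (h1 q ⟨q, hq, rfl⟩).symm
      · exact Subtype.ext (h2 q ⟨q, hq, rfl⟩).symm
    have h3 := Components.GenFitting.centralizer_le hdC
    rw [generalizedFittingSubgroup, hE y hy hy1, bot_sup_eq] at h3
    obtain ⟨a, ha, b, hb, hab⟩ := Subgroup.mem_sup_of_normal_right.1 (hFle h3)
    have hab' : (a : X) * (b : X) = d := congrArg Subtype.val hab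
    have hcom : Commute d (a : X) := h1 a ⟨a, ha, rfl⟩
    have ha1 : (a : X) = 1 := by
      obtain ⟨k, hk⟩ := hR.exists_orderOf_eq_pow ⟨(a : X), ⟨a, ha, rfl⟩⟩
      rw [← Subgroup.orderOf_coe] at hk
      have hb' : (b : X) ∈ θ y := ⟨b, hb, rfl⟩
      have hN : (b : X) ^ (orderOf d) = ((a : X) ^ orderOf d)⁻¹ := by
        have : (b : X) = (a : X)⁻¹ * d := by rw [← hab']; group
        rw [this, (hcom.symm.inv_left).mul_pow, pow_orderOf_eq_one, mul_one, inv_pow]
      have h4 : (a : X) ^ orderOf d = 1 := by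
        rw [← inv_eq_one, ← hN]
        refine eq_one_of_mem hR (pow_mem hb' _) ?_
        rw [hN]
        exact inv_mem (pow_mem (show (a : X) ∈ pCoreOf 2 D from ⟨a, ha, rfl⟩) _)
      exact orderOf_eq_one_iff.1 (Nat.eq_one_of_dvd_coprimes
        ((coprime_of_odd_core hd).pow_right k) (orderOf_dvd_of_pow_eq_one h4)
        (dvd_of_eq hk))
    rw [ha1, one_mul] at hab'
    exact ⟨b, hb, hab'⟩
  -- commutativity
  have key : ∀ u ∈ Y, ∀ v ∈ Y, v ≠ 1 → ∀ w ∈ Y, w ≠ 1 → u * w ≠ 1 → u ≠ 1 →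
      ∀ a ∈ θ u, a * w = w * a → θ v ≤ Subgroup.centralizer ({a} : Set X) := by
    intro u hu v hv hv1 w hw hw1 huw hu1 a ha haw
    have hau : a * u = u * a :=
      Subgroup.mem_centralizer_singleton_iff.1 (Balance.coreIn_le _ ha)
    have comm_in : ∀ g ∈ Y, ∀ r ∈ θ g, ∀ s ∈ θ g, r * s = s * r := fun g hg r hr s hs =>
      (inverted_commute (odd_coreIn _) hs (hinv g hg) (hinv g hg r hr)
        ((θ g).mul_mem ((θ g).mul_mem hr hs) ((θ g).inv_mem hr))
        ((odd_coreIn _).of_dvd_nat (Subgroup.orderOf_dvd_natCard _ hr))).eq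
    refine RankOne.Involution.le_of_four_group (odd_coreIn _) (hsq u hu) (hsq w hw)
      (hcm u hu w hw) (hconj v hv u hu) (hconj v hv w hw) ?_ ?_ ?_
    · intro b hb hbu
      have := hbal v hv u hu hu1 b hb (mul_inv_eq_iff_eq_mul.1 hbu).symm
      exact Subgroup.mem_centralizer_singleton_iff.2 (comm_in u hu b this a ha)
    · intro b hb hbw
      have h5 := hbal v hv w hw hw1 b hb (mul_inv_eq_iff_eq_mul.1 hbw).symm
      have h6 := hbal u hu w hw hw1 a ha haw
      exact Subgroup.mem_centralizer_singleton_iff.2 (comm_in w hw b h5 a h6)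
    · intro b hb hbw
      have h5 := hbal v hv (u * w) (mul_mem hu hw) huw b hb
        (mul_inv_eq_iff_eq_mul.1 hbw).symm
      have h6 := hbal u hu (u * w) (mul_mem hu hw) huw a ha
        ((show Commute a u from hau).mul_right haw).eq
      exact Subgroup.mem_centralizer_singleton_iff.2
        (comm_in _ (mul_mem hu hw) b h5 a h6)
  have hcomm : ∀ u ∈ Y, u ≠ 1 → ∀ v ∈ Y, v ≠ 1 → ∀ a ∈ θ u, ∀ b ∈ θ v, a * b = b * a := by
    intro u hu hu1 v hv hv1 a ha b hb
    obtain ⟨w, hw, hwu, hwv, hwuv, hw1⟩ :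
        ∃ w ∈ Y, w ≠ u ∧ w ≠ v ∧ w ≠ u * v ∧ w ≠ 1 := by
      classical
      by_contra hcon
      push Not at hcon
      have hsub : (Y : Set X) ⊆ ↑({u, v, u * v, 1} : Finset X) := by
        intro w hw
        have h9 := hcon w hw
        simp only [Finset.coe_insert, Finset.coe_singleton, Set.mem_insert_iff,
          Set.mem_singleton_iff]
        by_contra h10
        push Not at h10
        exact h10.2.2.2 (h9 h10.1 h10.2.1 h10.2.2.1)
      have h11 := Set.ncard_le_ncard hsub (Finset.finite_toSet _)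
      rw [Set.ncard_coe_finset] at h11
      have h12 : Finset.card ({u, v, u * v, 1} : Finset X) ≤ 4 := Finset.card_le_four
      rw [← Nat.card_coe_set_eq] at h11
      have h13 : Nat.card ↥(Y : Set X) = Nat.card ↥Y := rfl
      omega
    have hmem : θ u ≤ Subgroup.centralizer ({b} : Set X) := by
      have hne : ∀ r ∈ Y, ∀ s ∈ Y, r ≠ s → r * s ≠ 1 := fun r hr s hs hrs h =>
        hrs (mul_right_cancel (b := s) (by rw [h, hsq s hs]))
      refine RankOne.Involution.le_of_four_group (odd_coreIn _) (hsq v hv) (hsq w hw)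
        (hcm v hv w hw) (hconj u hu v hv) (hconj u hu w hw) ?_ ?_ ?_
      · intro c hc hcv
        have := hbal u hu v hv hv1 c hc (mul_inv_eq_iff_eq_mul.1 hcv).symm
        exact Subgroup.mem_centralizer_singleton_iff.2
          (inverted_commute (odd_coreIn _) hb (hinv v hv) (hinv v hv c this)
            ((θ v).mul_mem ((θ v).mul_mem this hb) ((θ v).inv_mem this))
            ((odd_coreIn _).of_dvd_nat (Subgroup.orderOf_dvd_natCard _ this))).eq
      · intro c hc hcw
        have := key u hu v hv hv1 w hw hw1 (hne u hu w hw (Ne.symm hwu)) hu1 c hc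
          (mul_inv_eq_iff_eq_mul.1 hcw).symm hb
        exact Subgroup.mem_centralizer_singleton_iff.2
          (Subgroup.mem_centralizer_singleton_iff.1 this).symm
      · intro c hc hcw
        have hvw : v * w ≠ u := fun h => hwuv (by rw [← h, mul_assoc, ← hcm v hv w hw,
          ← mul_assoc, hsq v hv, one_mul])
        have := key u hu v hv hv1 (v * w) (mul_mem hv hw) (hne v hv w hw (Ne.symm hwv))
          (hne u hu _ (mul_mem hv hw) (Ne.symm hvw)) hu1 c hc
          (mul_inv_eq_iff_eq_mul.1 hcw).symm hb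
        exact Subgroup.mem_centralizer_singleton_iff.2
          (Subgroup.mem_centralizer_singleton_iff.1 this).symm
    exact Subgroup.mem_centralizer_singleton_iff.1 (hmem ha)
  constructor
  · set N : ℕ := ∏ᶠ g : X, Nat.card ↥(θ g) with hN
    have hNodd : Odd N := by
      rw [hN]
      refine finprod_induction (fun n => Odd n) odd_one (fun a b ha hb => ha.mul hb) ?_
      exact fun g => odd_coreIn _
    have hdvd : ∀ g : X, Nat.card ↥(θ g) ∣ N := by
      intro g
      rw [hN]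
      exact finprod_mem_dvd g (Set.toFinite _)
    let T : Set X := {x | ∃ u ∈ Y, u ≠ 1 ∧ x ∈ θ u}
    have hS : S = Subgroup.closure T := by
      refine le_antisymm (iSup_le fun y x hx => ?_) ?_
      · exact Subgroup.subset_closure ⟨y, y.2.1, y.2.2, hx⟩
      · rw [Subgroup.closure_le]
        rintro x ⟨u, hu, hu1, hx⟩
        exact le_iSup (fun y : {y : X // y ∈ Y ∧ y ≠ 1} => centralizerPPrimeCore 2 (y : X))
          ⟨u, hu, hu1⟩ hx
    have hTc : T ⊆ Subgroup.centralizer T := by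
      rintro a ⟨u, hu, hu1, ha⟩
      rw [SetLike.mem_coe, Subgroup.mem_centralizer_iff]
      rintro b ⟨v, hv, hv1, hb⟩
      exact (hcomm u hu hu1 v hv hv1 a ha b hb).symm
    have hSc : S ≤ Subgroup.centralizer (S : Set X) := by
      rw [hS, Subgroup.centralizer_closure, Subgroup.closure_le]
      exact hTc
    have hpow : ∀ x ∈ S, x ^ N = 1 := by
      intro x hx
      rw [hS] at hx
      induction hx using Subgroup.closure_induction with
      | mem x hx =>
        obtain ⟨u, -, -, hx⟩ := hx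
        exact orderOf_dvd_iff_pow_eq_one.1 ((Subgroup.orderOf_dvd_natCard _ hx).trans (hdvd u))
      | one => exact one_pow _
      | mul a b ha hb h1 h2 =>
        rw [Commute.mul_pow, h1, h2, one_mul]
        rw [← hS] at ha hb
        exact Subgroup.mem_centralizer_iff.1 (hSc hb) a ha
      | inv a ha h1 => rw [inv_pow, h1, inv_one]
    rw [← Nat.not_even_iff_odd, even_iff_two_dvd]
    intro h2
    have _ : Fact (Nat.Prime 2) := ⟨Nat.prime_two⟩
    obtain ⟨x, hx⟩ := exists_prime_orderOf_dvd_card' (G := ↥S) 2 h2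
    have h14 : orderOf x ∣ N := orderOf_dvd_of_pow_eq_one
      (Subtype.ext (by simpa using hpow x x.2))
    rw [hx] at h14
    exact absurd (even_iff_two_dvd.2 h14) (Nat.not_even_iff_odd.2 hNodd)
  · intro g hg
    rw [Subgroup.mem_normalizer_iff_map_conj_eq]
    refine Subgroup.eq_of_le_of_card_ge ?_ (Subgroup.card_map_of_injective
      (MulAut.conj g).injective).ge
    rw [Subgroup.map_iSup]
    refine iSup_le fun y => ?_
    refine le_trans (le_of_eq (Balance.centralizerPPrimeCore_conj (p := 2) g (y : X)).symm) ?_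
    exact le_iSup (fun y : {y : X // y ∈ Y ∧ y ≠ 1} => centralizerPPrimeCore 2 (y : X))
      ⟨g * y * g⁻¹, (Subgroup.mem_normalizer_iff.1 hg _).1 y.2.1, fun h => y.2.2 (by simpa using h)⟩

theorem result {X : Type*} [Group X] [Finite X] (Y : Subgroup X) (hY : Cfsg.IsElementaryAbelian 2 Y) (h8 : 8 ≤ Nat.card ↥Y) (hE : ∀ x ∈ Y, x ≠ 1 → Cfsg.layer ↥(Subgroup.centralizer ({x} : Set X)) = ⊥) (hz : ∃ z ∈ Y, z ≠ 1 ∧ Cfsg.generalizedFittingSubgroup ↥(Subgroup.centralizer ({z} : Set X)) = Cfsg.pCore 2 ↥(Subgroup.centralizer ({z} : Set X))) : Odd (Nat.card ↥(⨆ y : {y : X // y ∈ Y ∧ y ≠ 1}, (Cfsg.oddCore ↥(Subgroup.centralizer ({(y : X)} : Set X))).map (Subgroup.centralizer ({(y : X)} : Set X)).subtype)) ∧ Subgroup.normalizer (Y : Set X) ≤ Subgroup.normalizer ((⨆ y : {y : X // y ∈ Y ∧ y ≠ 1}, (Cfsg.oddCore ↥(Subgroup.centralizer ({(y : X)} : Set X))).map (Subgroup.centralizer ({(y : X)} : Set X)).subtype : Subgroup X) : Set X) :=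
  main Y hY h8 hE hz

end Cfsg.Agent.S2924
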