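import Cfsg.Prelude.Def_Local
import Cfsg.Agent.Lib.Components.Basic
import Cfsg.Agent.Lib.Transfer.Fusion

set_option autoImplicit false
set_option linter.style.haveILetI false
open scoped commutatorElement

namespace Cfsg.Agent.S2925
open Cfsg Cfsg.Agent.Lib

variable {X : Type*} [Group X] [Finite X] {p : ℕ} [Fact p.Prime]

theorem not_dvd_relIndex (P : Sylow p X) {H : Subgroup X} (hH : H.IsSubnormal) :
    ¬ p ∣ (P : Subgroup X).relIndex H := by
  induction hH with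
  | top => rw [Subgroup.relIndex_top_right]; exact P.not_dvd_index
  | step K H hle _ hN ih =>
    let Q : Sylow p ↥H := (P.isPGroup'.comap_subtype (K := H)).toSylow ih
    haveI := hN
    obtain ⟨R, hR⟩ := Transfer.Fusion.exists_sylow_map_eq_inf (K.subgroupOf H) Q
    have hR' : (R : Subgroup ↥(K.subgroupOf H)) =
        ((P : Subgroup X).subgroupOf H).subgroupOf (K.subgroupOf H) := by
      apply Subgroup.map_injective (K.subgroupOf H).subtype_injective
      rw [hR, Subgroup.subgroupOf_map_subtype, inf_comm]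
      rfl
    have := R.not_dvd_index
    rw [hR'] at this
    rw [← Subgroup.relIndex_subgroupOf hle]
    exact this

theorem exists_sylow (P : Sylow p X) {H : Subgroup X} (hH : H.IsSubnormal) :
    ∃ R : Sylow p ↥H, (R : Subgroup ↥H) = (P : Subgroup X).subgroupOf H :=
  ⟨(P.isPGroup'.comap_subtype (K := H)).toSylow (not_dvd_relIndex P hH), rfl⟩

theorem main (K : Subgroup X) (hK : IsComponent K) (T : Sylow 2 X) (Y : Subgroup X)
    (hY : Y ≤ (T : Subgroup X)) (hn : (T : Subgroup X) ≤ Subgroup.normalizer (Y : Set X))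
    (hab : ∀ a ∈ Y, ∀ b ∈ Y, a * b = b * a) {y : X} (hy : y ∈ Y)
    (hyK : y ∉ Subgroup.normalizer (K : Set X)) {s t : X} (hs : s ∈ (T : Subgroup X)) (hsK : s ∈ K)
    (ht : t ∈ (T : Subgroup X)) (htK : t ∈ K) (k : X) (hk : k ∈ K) :
    k * (t * s * (s * t)⁻¹) = t * s * (s * t)⁻¹ * k := by
  set K' := K.map (MulAut.conj y).toMonoidHom with hK'
  have hne : K ≠ K' := fun h => hyK (Subgroup.mem_normalizer_iff_map_conj_eq.2 h.symm)
  have hc := Components.Component.le_centralizer_of_ne hK (Components.Component.conj hK y) hne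
  have hcom : ∀ a ∈ K, ∀ b ∈ K', b * a = a * b := fun a ha b hb =>
    Subgroup.mem_centralizer_iff.1 (hc ha) b hb
  have hmem : ∀ r ∈ (T : Subgroup X), r * (y * r⁻¹ * y⁻¹) ∈ Y := fun r hr => by
    have h1 := Y.mul_mem ((Subgroup.mem_normalizer_iff.1 (hn hr) y).1 hy) (Y.inv_mem hy)
    simpa [mul_assoc] using h1
  set s' := y * s⁻¹ * y⁻¹ with hs'
  set t' := y * t⁻¹ * y⁻¹ with ht'
  have hs'K : s' ∈ K' := ⟨s⁻¹, inv_mem hsK, rfl⟩
  have ht'K : t' ∈ K' := ⟨t⁻¹, inv_mem htK, rfl⟩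
  have e1 : (t * s) * (t' * s') = (s * t) * (s' * t') := by
    calc (t * s) * (t' * s') = t * (s * t') * s' := by group
      _ = t * (t' * s) * s' := by rw [hcom s hsK t' ht'K]
      _ = (t * t') * (s * s') := by group
      _ = (s * s') * (t * t') := hab _ (hmem t ht) _ (hmem s hs)
      _ = s * (s' * t) * t' := by group
      _ = s * (t * s') * t' := by rw [hcom t htK s' hs'K]
      _ = (s * t) * (s' * t') := by group
  have hd : (s * t)⁻¹ * (t * s) = (s' * t') * (t' * s')⁻¹ := by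
    calc (s * t)⁻¹ * (t * s) = (s * t)⁻¹ * ((t * s) * (t' * s')) * (t' * s')⁻¹ := by group
      _ = (s' * t') * (t' * s')⁻¹ := by rw [e1]; group
  have hdK : (s * t)⁻¹ * (t * s) ∈ K' := by
    rw [hd]; exact mul_mem (mul_mem hs'K ht'K) (inv_mem (mul_mem ht'K hs'K))
  have h2 : ∀ k ∈ K, k * ((s * t)⁻¹ * (t * s)) = (s * t)⁻¹ * (t * s) * k := fun k hk =>
    (hcom k hk _ hdK).symm
  calc k * (t * s * (s * t)⁻¹) = (k * (s * t)) * ((s * t)⁻¹ * (t * s)) * (s * t)⁻¹ := by group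
    _ = ((s * t)⁻¹ * (t * s)) * (k * (s * t)) * (s * t)⁻¹ := by
      rw [h2 _ (mul_mem hk (mul_mem hsK htK))]
    _ = ((s * t)⁻¹ * (t * s)) * k := by group
    _ = (s * t) * ((s * t)⁻¹ * (t * s)) * (s * t)⁻¹ * k := by
      rw [h2 _ (mul_mem hsK htK)]; group
    _ = t * s * (s * t)⁻¹ * k := by group

theorem result {X : Type*} [Group X] [Finite X] (K : Subgroup X) (hK : Cfsg.IsComponent K) (T : Sylow 2 X) (Y : Subgroup X) (hYT : Y ≤ (T : Subgroup X)) (hYn : (Y.subgroupOf (T : Subgroup X)).Normal) (hYab : IsMulCommutative ↥Y) (hnot : ¬ Y ≤ Subgroup.normalizer (K : Set X)) (P : Sylow 2 (↥K ⧸ Subgroup.center ↥K)) : IsMulCommutative ↥(P : Subgroup (↥K ⧸ Subgroup.center ↥K)) := by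
  have _ : Fact (Nat.Prime 2) := ⟨Nat.prime_two⟩
  obtain ⟨y, hy, hyK⟩ := SetLike.not_le_iff_exists.1 hnot
  obtain ⟨R, hR⟩ := exists_sylow T hK.1
  set π := QuotientGroup.mk' (Subgroup.center ↥K) with hπ
  let R' : Sylow 2 (↥K ⧸ Subgroup.center ↥K) := R.mapSurjective (QuotientGroup.mk'_surjective _)
  have hcomm : ∀ a ∈ (R' : Subgroup (↥K ⧸ Subgroup.center ↥K)),
      ∀ b ∈ (R' : Subgroup (↥K ⧸ Subgroup.center ↥K)), a * b = b * a := by
    rintro _ ⟨t, ht, rfl⟩ _ ⟨s, hs, rfl⟩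
    rw [SetLike.mem_coe, hR, Subgroup.mem_subgroupOf] at ht hs
    rw [← mul_inv_eq_one, ← map_mul, ← map_mul, ← map_inv, ← map_mul, QuotientGroup.mk'_apply,
      QuotientGroup.eq_one_iff, Subgroup.mem_center_iff]
    intro k
    exact Subtype.ext (main K hK T Y hYT ((Subgroup.normal_subgroupOf_iff_le_normalizer hYT).1 hYn)
      (fun a ha b hb => congrArg Subtype.val (hYab.is_comm.comm ⟨a, ha⟩ ⟨b, hb⟩)) hy hyK hs s.2 ht t.2
      (k : X) k.2)
  obtain ⟨g, hg⟩ := MulAction.exists_smul_eq (↥K ⧸ Subgroup.center ↥K) R' P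
  refine ⟨⟨fun a b => Subtype.ext ?_⟩⟩
  obtain ⟨a', ha', ha⟩ : (a : ↥K ⧸ Subgroup.center ↥K) ∈
      (R' : Subgroup _).map (MulAut.conj g).toMonoidHom := by
    have h := a.2; simp only [← hg] at h; exact h
  obtain ⟨b', hb', hb⟩ : (b : ↥K ⧸ Subgroup.center ↥K) ∈
      (R' : Subgroup _).map (MulAut.conj g).toMonoidHom := by
    have h := b.2; simp only [← hg] at h; exact h
  show (a : ↥K ⧸ Subgroup.center ↥K) * b = b * a
  rw [← ha, ← hb, ← map_mul, ← map_mul, hcomm a' ha' b' hb']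

end Cfsg.Agent.S2925
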