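import Cfsg.Statements.S2928
import Cfsg.Agent.Lib.LAEven56.PermQS.Four
import Cfsg.Agent.Lib.LAEven56.PermQS.Sylow

set_option autoImplicit false
open Cfsg

namespace Cfsg.Agent.S2928

/-- Let n ≥ 8 and let H be a subgroup of the symmetric group of degree n whose generalized Fitting subgroup F*(H) is quasisimple. If H contains a Sylow 2-subgroup of the alternating group of degree n, then F*(H) is isomorphic to an alternating group of degree m for some m ∈ {n − 3, n − 2, n − 1, n}. -/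
theorem result (n : ℕ) (hn : 8 ≤ n) (H : Subgroup (Equiv.Perm (Fin n))) (hF : Cfsg.IsQuasisimple ↥(Cfsg.generalizedFittingSubgroup ↥H)) (hS : ∃ P : Sylow 2 ↥(alternatingGroup (Fin n)), ((P : Subgroup ↥(alternatingGroup (Fin n))).map (alternatingGroup (Fin n)).subtype) ≤ H) : ∃ m : ℕ, (m = n - 3 ∨ m = n - 2 ∨ m = n - 1 ∨ m = n) ∧ Nonempty (↥(Cfsg.generalizedFittingSubgroup ↥H) ≃* ↥(alternatingGroup (Fin m))) := by
  classical
  obtain ⟨P, hP⟩ := hS
  haveI : Fact (Nat.Prime 2) := ⟨Nat.prime_two⟩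
  let pt : Fin (n / 4) → Fin 4 → Fin n := fun i x =>
    ⟨4 * (i : ℕ) + (x : ℕ), by have := i.2; have := x.2; omega⟩
  have hpt : ∀ i x j y, pt i x = pt j y → i = j ∧ x = y := by
    intro i x j y h
    have h := congrArg Fin.val h
    simp only [pt] at h
    have := x.2; have := y.2
    exact ⟨Fin.ext (by omega), Fin.ext (by omega)⟩
  have hne : ∀ i x j y, (i ≠ j ∨ x ≠ y) → pt i x ≠ pt j y := fun i x j y h e => by
    obtain ⟨h1, h2⟩ := hpt _ _ _ _ e; tauto
  let a : Fin (n / 4) → Equiv.Perm (Fin n) := fun i => Equiv.swap (pt i 0) (pt i 1)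
  let b : Fin (n / 4) → Equiv.Perm (Fin n) := fun i => Equiv.swap (pt i 2) (pt i 3)
  let s : Fin (n / 4) → Equiv.Perm (Fin n) := fun i =>
    Equiv.swap (pt i 0) (pt i 2) * Equiv.swap (pt i 1) (pt i 3)
  have hcs : ∀ i j x y x' y', (i ≠ j ∨ (x ≠ x' ∧ x ≠ y' ∧ y ≠ x' ∧ y ≠ y')) →
      Commute (Equiv.swap (pt i x) (pt i y)) (Equiv.swap (pt j x') (pt j y')) := by
    intro i j x y x' y' h
    refine Lib.LAEven56.PermQS.commute_swap ?_ ?_ ?_ ?_ <;> refine hne _ _ _ _ ?_ <;> tauto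
  let A : Subgroup (Equiv.Perm (Fin n)) := Subgroup.closure (Set.range a ∪ Set.range b)
  let B : Subgroup (Equiv.Perm (Fin n)) := Subgroup.closure (Set.range s)
  have hA : IsPGroup 2 A := by
    refine Lib.LAEven56.PermQS.isPGroup_closure ?_ ?_
    · rintro _ (⟨i, rfl⟩ | ⟨i, rfl⟩) _ (⟨j, rfl⟩ | ⟨j, rfl⟩)
      · by_cases h : i = j
        · subst h; exact Commute.refl _
        · exact hcs _ _ _ _ _ _ (Or.inl h)
      · exact hcs _ _ _ _ _ _ (Or.inr (by decide))
      · exact hcs _ _ _ _ _ _ (Or.inr (by decide))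
      · by_cases h : i = j
        · subst h; exact Commute.refl _
        · exact hcs _ _ _ _ _ _ (Or.inl h)
    · rintro _ (⟨i, rfl⟩ | ⟨i, rfl⟩) <;> rw [sq] <;> exact Equiv.swap_mul_self _ _
  have hB : IsPGroup 2 B := by
    refine Lib.LAEven56.PermQS.isPGroup_closure ?_ ?_
    · rintro _ ⟨i, rfl⟩ _ ⟨j, rfl⟩
      by_cases h : i = j
      · subst h; exact Commute.refl _
      · exact ((hcs _ _ _ _ _ _ (Or.inl h)).mul_right (hcs _ _ _ _ _ _ (Or.inl h))).mul_left
          ((hcs _ _ _ _ _ _ (Or.inl h)).mul_right (hcs _ _ _ _ _ _ (Or.inl h)))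
    · rintro _ ⟨i, rfl⟩
      simp only [s]
      rw [(hcs i i 0 2 1 3 (Or.inr (by decide))).mul_pow, sq, sq, Equiv.swap_mul_self,
        Equiv.swap_mul_self, one_mul]
  have hsab : ∀ i j, s i * a j * (s i)⁻¹ ∈ A ∧ s i * b j * (s i)⁻¹ ∈ A := by
    intro i j
    by_cases h : i = j
    · subst h
      have e0 : s i (pt i 0) = pt i 2 := by
        simp [s, Equiv.swap_apply_def, hne i 0 i 1 (Or.inr (by decide)),
          hne i 0 i 3 (Or.inr (by decide))]
      have e1 : s i (pt i 1) = pt i 3 := by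
        simp [s, Equiv.swap_apply_def, hne i 3 i 0 (Or.inr (by decide)),
          hne i 3 i 2 (Or.inr (by decide))]
      have e2 : s i (pt i 2) = pt i 0 := by
        simp [s, Equiv.swap_apply_def, hne i 2 i 1 (Or.inr (by decide)),
          hne i 2 i 3 (Or.inr (by decide)), hne i 2 i 0 (Or.inr (by decide))]
      have e3 : s i (pt i 3) = pt i 1 := by
        simp [s, Equiv.swap_apply_def, hne i 3 i 1 (Or.inr (by decide)),
          hne i 1 i 0 (Or.inr (by decide)), hne i 1 i 2 (Or.inr (by decide))]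
      constructor
      · simp only [a]
        rw [← Equiv.swap_apply_apply, e0, e1]
        exact Subgroup.subset_closure (Or.inr ⟨i, rfl⟩)
      · simp only [b]
        rw [← Equiv.swap_apply_apply, e2, e3]
        exact Subgroup.subset_closure (Or.inl ⟨i, rfl⟩)
    · have h1 : Commute (s i) (a j) :=
        (hcs _ _ _ _ _ _ (Or.inl h)).mul_left (hcs _ _ _ _ _ _ (Or.inl h))
      have h2 : Commute (s i) (b j) :=
        (hcs _ _ _ _ _ _ (Or.inl h)).mul_left (hcs _ _ _ _ _ _ (Or.inl h))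
      rw [h1.eq, h2.eq, mul_inv_cancel_right, mul_inv_cancel_right]
      exact ⟨Subgroup.subset_closure (Or.inl ⟨j, rfl⟩), Subgroup.subset_closure (Or.inr ⟨j, rfl⟩)⟩
  have hBA : B ≤ Subgroup.normalizer (A : Set (Equiv.Perm (Fin n))) := by
    refine (Subgroup.closure_le _).2 ?_
    rintro _ ⟨i, rfl⟩
    have hmap : ∀ x ∈ A, s i * x * (s i)⁻¹ ∈ A := by
      intro x hx
      induction hx using Subgroup.closure_induction with
      | mem y hy =>
        rcases hy with ⟨j, rfl⟩ | ⟨j, rfl⟩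
        exacts [(hsab i j).1, (hsab i j).2]
      | one => rw [mul_one, mul_inv_cancel]; exact A.one_mem
      | mul y z _ _ iy iz =>
        rw [show s i * (y * z) * (s i)⁻¹ = (s i * y * (s i)⁻¹) * (s i * z * (s i)⁻¹) by group]
        exact A.mul_mem iy iz
      | inv y _ iy =>
        rw [show s i * y⁻¹ * (s i)⁻¹ = (s i * y * (s i)⁻¹)⁻¹ by group]; exact A.inv_mem iy
    have hinv : (s i)⁻¹ = s i := by
      refine inv_eq_of_mul_eq_one_right ?_
      simp only [s]
      rw [(hcs i i 1 3 0 2 (Or.inr (by decide))).mul_mul_mul_comm, Equiv.swap_mul_self,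
        Equiv.swap_mul_self, one_mul]
    refine Subgroup.mem_normalizer_iff.2 fun x => ⟨hmap x, fun hx => ?_⟩
    have := hmap _ hx
    rwa [show s i * (s i * x * (s i)⁻¹) * (s i)⁻¹ = (s i * s i) * x * (s i * s i)⁻¹ by group,
      mul_eq_one_iff_eq_inv.2 hinv.symm, one_mul, inv_one, mul_one] at this
  have hAB : IsPGroup 2 ↥(A ⊔ B) := hA.to_sup_of_normal_left' hB hBA
  obtain ⟨σ, hσ⟩ := Lib.LAEven56.PermQS.exists_conj_le (alternatingGroup (Fin n)) H P hP
    ((A ⊔ B) ⊓ alternatingGroup (Fin n)) inf_le_right (hAB.to_le inf_le_left)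
  have hAlt : ∀ u v x y : Fin n, u ≠ v → x ≠ y →
      Equiv.swap u v * Equiv.swap x y ∈ alternatingGroup (Fin n) := fun u v x y h1 h2 => by
    rw [Equiv.Perm.mem_alternatingGroup, map_mul, Equiv.Perm.sign_swap h1, Equiv.Perm.sign_swap h2]
    rfl
  have hconj : ∀ u v x y, Equiv.swap u v * Equiv.swap x y ∈ A ⊔ B → u ≠ v → x ≠ y →
      Equiv.swap (σ u) (σ v) * Equiv.swap (σ x) (σ y) ∈ H := fun u v x y h h1 h2 => by
    have := hσ _ ⟨h, hAlt u v x y h1 h2⟩
    rwa [show σ * (Equiv.swap u v * Equiv.swap x y) * σ⁻¹ =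
      (σ * Equiv.swap u v * σ⁻¹) * (σ * Equiv.swap x y * σ⁻¹) by group,
      ← Equiv.swap_apply_apply, ← Equiv.swap_apply_apply] at this
  have ha : ∀ i, a i ∈ A ⊔ B := fun i =>
    (le_sup_left : A ≤ A ⊔ B) (Subgroup.subset_closure (Or.inl ⟨i, rfl⟩))
  have hb : ∀ i, b i ∈ A ⊔ B := fun i =>
    (le_sup_left : A ≤ A ⊔ B) (Subgroup.subset_closure (Or.inr ⟨i, rfl⟩))
  have hs : ∀ i, s i ∈ A ⊔ B := fun i =>
    (le_sup_right : B ≤ A ⊔ B) (Subgroup.subset_closure ⟨i, rfl⟩)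
  have h4 : ∀ i (x y : Fin 4), x ≠ y → pt i x ≠ pt i y := fun i x y h => hne _ _ _ _ (Or.inr h)
  obtain ⟨m, hm1, hm2, ⟨e⟩⟩ := Lib.LAEven56.PermQS.exists_alternating_of_quads (k := n / 4)
    (by omega) (fun i x => σ (pt i x))
    (fun u v h => Prod.ext (hpt _ _ _ _ (σ.injective h)).1 (hpt _ _ _ _ (σ.injective h)).2)
    (Lib.LAEven56.PermQS.qs_fstar H hF)
    (fun i => hconj _ _ _ _ (Subgroup.mul_mem _ (ha i) (hb i)) (h4 i 0 1 (by decide))
      (h4 i 2 3 (by decide)))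
    (fun i => hconj _ _ _ _ (hs i) (h4 i 0 2 (by decide)) (h4 i 1 3 (by decide)))
    (fun i j _ => hconj _ _ _ _ (Subgroup.mul_mem _ (ha i) (ha j)) (h4 i 0 1 (by decide))
      (h4 j 0 1 (by decide)))
  rw [Nat.card_fin] at hm2
  exact ⟨m, by omega, ⟨(Subgroup.equivMapOfInjective _ _ H.subtype_injective).trans e⟩⟩

end Cfsg.Agent.S2928
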