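import Cfsg.Statements.S2929
import Cfsg.Agent.Lib.LAEven56.PermQS.Three
import Cfsg.Agent.Lib.LAEven56.PermQS.Sylow

set_option autoImplicit false
open Cfsg

namespace Cfsg.Agent.S2929

/-- Let n ≥ 5 and let H be a subgroup of the symmetric group of degree n whose generalized Fitting subgroup F*(H) is quasisimple. If H contains a Sylow 3-subgroup of the symmetric group, then F*(H) is isomorphic to an alternating group of degree m for some m ∈ {n − 2, n − 1, n}. -/
theorem result (n : ℕ) (hn : 5 ≤ n) (H : Subgroup (Equiv.Perm (Fin n))) (hF : Cfsg.IsQuasisimple ↥(Cfsg.generalizedFittingSubgroup ↥H)) (hS : ∃ P : Sylow 3 (Equiv.Perm (Fin n)), (P : Subgroup (Equiv.Perm (Fin n))) ≤ H) : ∃ m : ℕ, (m = n - 2 ∨ m = n - 1 ∨ m = n) ∧ Nonempty (↥(Cfsg.generalizedFittingSubgroup ↥H) ≃* ↥(alternatingGroup (Fin m))) := by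
  classical
  obtain ⟨P, hP⟩ := hS
  let pt : Fin (n / 3) → Fin 3 → Fin n := fun i x =>
    ⟨3 * (i : ℕ) + (x : ℕ), by have := i.2; have := x.2; omega⟩
  have hpt : ∀ i x j y, pt i x = pt j y → i = j ∧ x = y := by
    intro i x j y h
    have h := congrArg Fin.val h
    simp only [pt] at h
    have := x.2; have := y.2
    exact ⟨Fin.ext (by omega), Fin.ext (by omega)⟩
  let c : Fin (n / 3) → Equiv.Perm (Fin n) := fun i =>
    Equiv.swap (pt i 0) (pt i 1) * Equiv.swap (pt i 0) (pt i 2)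
  have hne : ∀ i j, i ≠ j → ∀ x y, pt i x ≠ pt j y := fun i j hij x y h => hij (hpt _ _ _ _ h).1
  have h3 : ∀ i, (c i).IsThreeCycle := fun i => by
    refine Equiv.Perm.isThreeCycle_swap_mul_swap_same ?_ ?_ ?_ <;> intro h <;>
      exact absurd (hpt _ _ _ _ h).2 (by decide)
  have hcomm : ∀ i j, Commute (c i) (c j) := by
    intro i j
    by_cases hij : i = j
    · subst hij; exact Commute.refl _
    have hd : ∀ x y x' y', Equiv.Perm.Disjoint (Equiv.swap (pt i x) (pt i y))
        (Equiv.swap (pt j x') (pt j y')) := fun x y x' y' u => by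
      by_cases hu : u = pt i x ∨ u = pt i y
      · right
        rcases hu with rfl | rfl <;>
          exact Equiv.swap_apply_of_ne_of_ne (hne i j hij _ _) (hne i j hij _ _)
      · left
        push Not at hu
        exact Equiv.swap_apply_of_ne_of_ne hu.1 hu.2
    exact ((hd _ _ _ _).commute.mul_right (hd _ _ _ _).commute).mul_left
      ((hd _ _ _ _).commute.mul_right (hd _ _ _ _).commute)
  let Q : Subgroup (Equiv.Perm (Fin n)) := Subgroup.closure (Set.range c)
  have hQ : IsPGroup 3 Q := Lib.LAEven56.PermQS.isPGroup_closure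
    (by rintro _ ⟨i, rfl⟩ _ ⟨j, rfl⟩; exact hcomm i j)
    (by rintro _ ⟨i, rfl⟩; rw [← (h3 i).orderOf]; exact pow_orderOf_eq_one _)
  haveI : Fact (Nat.Prime 3) := ⟨Nat.prime_three⟩
  obtain ⟨R, hR⟩ := hQ.exists_le_sylow
  obtain ⟨σ, hσ⟩ := MulAction.exists_smul_eq (Equiv.Perm (Fin n)) R P
  have hmem : ∀ i, σ * c i * σ⁻¹ ∈ H := fun i => by
    have h1 : c i ∈ (R : Subgroup (Equiv.Perm (Fin n))) := hR (Subgroup.subset_closure ⟨i, rfl⟩)
    have h2 : σ * c i * σ⁻¹ ∈ ((σ • R : Sylow 3 (Equiv.Perm (Fin n))) : Subgroup _) :=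
      Subgroup.smul_mem_pointwise_smul _ (MulAut.conj σ) _ h1
    rw [hσ] at h2
    exact hP h2
  obtain ⟨m, hm1, hm2, ⟨e⟩⟩ := Lib.LAEven56.PermQS.exists_alternating (k := n / 3) (by omega)
    (fun i x => σ (pt i x))
    (fun a b h => Prod.ext (hpt _ _ _ _ (σ.injective h)).1 (hpt _ _ _ _ (σ.injective h)).2)
    (Lib.LAEven56.PermQS.qs_fstar H hF) (fun i => by
      have := hmem i
      simp only [c] at this
      rw [show σ * (Equiv.swap (pt i 0) (pt i 1) * Equiv.swap (pt i 0) (pt i 2)) * σ⁻¹ =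
        (σ * Equiv.swap (pt i 0) (pt i 1) * σ⁻¹) * (σ * Equiv.swap (pt i 0) (pt i 2) * σ⁻¹) by group,
        ← Equiv.swap_apply_apply, ← Equiv.swap_apply_apply] at this
      exact this)
  rw [Nat.card_fin] at hm2
  exact ⟨m, by omega, ⟨(Subgroup.equivMapOfInjective _ _ H.subtype_injective).trans e⟩⟩

end Cfsg.Agent.S2929
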