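import Cfsg.Statements.S2932
import Cfsg.Agent.Lib.NatSL2Sylow65.Four

set_option autoImplicit false
open Cfsg

namespace Cfsg.Agent.S2932

open Cfsg.Agent.Lib.NatSL2Sylow65 Cfsg.Agent.Lib.Linear

/-- Let p be a prime. Inside a finite ambient group let V be an elementary abelian p-subgroup and G a subgroup normalizing V and acting faithfully on it (G ∩ C(V) = 1), and let L ≤ G act on V as SL₂(F) on its natural module, F a finite field of characteristic p, with L ≅ SL₂(F). If every Sylow p-subgroup of N_G(L) is a Sylow p-subgroup of G, then either L is normal in G, or F has 4 elements and G is isomorphic to the alternating group of degree 7. -/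
theorem result {X : Type*} [Group X] [Finite X] {p : ℕ} [Fact p.Prime] (F : Type) [Field F] [Fintype F] [CharP F p] (V G L : Subgroup X) (hV : Cfsg.IsElementaryAbelian p V) (hGV : G ≤ Subgroup.normalizer (V : Set X)) (hfaith : G ⊓ Subgroup.centralizer (V : Set X) = ⊥) (hLG : L ≤ G) (hnat : Cfsg.IsNaturalSL2Module F V L) (hLiso : Nonempty (↥L ≃* Matrix.SpecialLinearGroup (Fin 2) F)) (hSyl : ∀ S : Sylow p ↥(G ⊓ Subgroup.normalizer (L : Set X)), ∀ P : Sylow p ↥G, Nat.card S = Nat.card P) : (L.subgroupOf G).Normal ∨ (Fintype.card F = 4 ∧ Nonempty (↥G ≃* ↥(alternatingGroup (Fin 7)))) := by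
  classical
  obtain ⟨-, ρ, ψ, hsurj, hker, hact⟩ := hnat
  have hinj : Function.Injective ρ := by
    rw [← MonoidHom.ker_eq_bot_iff, hker, eq_bot_iff]
    intro l hl
    have h1 : (l : X) ∈ G ⊓ Subgroup.centralizer (V : Set X) := ⟨hLG l.2, hl⟩
    rw [hfaith, Subgroup.mem_bot] at h1
    exact Subgroup.mem_bot.2 (Subtype.ext h1)
  -- conjugation on `V`
  let cj : ↥G → ↥V → ↥V := fun g v =>
    ⟨(g : X) * v * (g : X)⁻¹, (Subgroup.mem_normalizer_iff.1 (hGV g.2) _).1 v.2⟩
  let act : DistribMulAction ↥G (Fin 2 → F) :=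
    { smul := fun g w => ψ (Additive.ofMul (cj g (Additive.toMul (ψ.symm w))))
      one_smul := fun w => by
        show ψ (Additive.ofMul (cj 1 (Additive.toMul (ψ.symm w)))) = w
        rw [show cj 1 (Additive.toMul (ψ.symm w)) = Additive.toMul (ψ.symm w) from
          Subtype.ext (by simp [cj]), ofMul_toMul, AddEquiv.apply_symm_apply]
      mul_smul := fun g h w => by
        show ψ _ = ψ (Additive.ofMul (cj g (Additive.toMul (ψ.symm (ψ _)))))
        rw [AddEquiv.symm_apply_apply, toMul_ofMul]
        congr 2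
        exact Subtype.ext (by simp [cj, mul_assoc])
      smul_zero := fun g => by
        show ψ _ = 0
        rw [map_zero, toMul_zero, show cj g 1 = 1 from Subtype.ext (by simp [cj]), ofMul_one, map_zero]
      smul_add := fun g u w => by
        show ψ _ = ψ _ + ψ _
        rw [← map_add, map_add ψ.symm, toMul_add, ← ofMul_mul]
        congr 2
        exact Subtype.ext (by simp [cj, mul_assoc]) }
  let e : ↥L ≃* Matrix.SpecialLinearGroup (Fin 2) F := MulEquiv.ofBijective ρ ⟨hinj, hsurj⟩
  let c : Conf ↥G F :=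
    { σ := (Subgroup.inclusion hLG).comp e.symm.toMonoidHom
      act := fun A w => by
        obtain ⟨v', hv', hψ⟩ := hact (e.symm A) (Additive.toMul (ψ.symm w))
        show ψ (Additive.ofMul (cj (Subgroup.inclusion hLG (e.symm A)) (Additive.toMul (ψ.symm w)))) = _
        rw [show cj (Subgroup.inclusion hLG (e.symm A)) (Additive.toMul (ψ.symm w)) = v' from
          Subtype.ext hv'.symm, hψ, show ρ (e.symm A) = A from e.apply_symm_apply A, ofMul_toMul,
          AddEquiv.apply_symm_apply]
      faithful := fun g hg => by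
        have h1 : (g : X) ∈ G ⊓ Subgroup.centralizer (V : Set X) := by
          refine ⟨g.2, Subgroup.mem_centralizer_iff.2 fun v hv => ?_⟩
          have h2 : ψ (Additive.ofMul (cj g (Additive.toMul (ψ.symm (ψ (Additive.ofMul ⟨v, hv⟩))))))
              = ψ (Additive.ofMul ⟨v, hv⟩) := hg _
          rw [AddEquiv.symm_apply_apply, toMul_ofMul] at h2
          have h3 : (g : X) * v * (g : X)⁻¹ = v :=
            congrArg Subtype.val (Additive.ofMul.injective (ψ.injective h2))
          exact (mul_inv_eq_iff_eq_mul.1 h3).symm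
        rw [hfaith, Subgroup.mem_bot] at h1
        exact Subtype.ext h1 }
  have hcL : c.L = L.subgroupOf G := by
    ext g
    constructor
    · rintro ⟨A, rfl⟩
      exact Subgroup.mem_subgroupOf.2 (e.symm A).2
    · intro hg
      refine ⟨e ⟨(g : X), Subgroup.mem_subgroupOf.1 hg⟩, ?_⟩
      show Subgroup.inclusion hLG (e.symm (e _)) = g
      rw [e.symm_apply_apply]
      rfl
  set N := Subgroup.normalizer (c.L : Set ↥G) with hN
  have hNmap : N.map G.subtype = G ⊓ Subgroup.normalizer (L : Set X) := by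
    ext x
    constructor
    · rintro ⟨g, hg, rfl⟩
      refine ⟨g.2, Subgroup.mem_normalizer_iff.2 fun y => ⟨fun hy => ?_, fun hy => ?_⟩⟩
      · have h1 := (Subgroup.mem_normalizer_iff.1 hg ⟨y, hLG hy⟩).1
          (by rw [hcL]; exact Subgroup.mem_subgroupOf.2 hy)
        rw [hcL] at h1
        exact Subgroup.mem_subgroupOf.1 h1
      · have hyG : y ∈ G := by
          have h2 : (g : X) * y * (g : X)⁻¹ ∈ G := hLG hy
          simpa [mul_assoc] using mul_mem (mul_mem (inv_mem g.2) h2) g.2
        have h1 := (Subgroup.mem_normalizer_iff.1 hg ⟨y, hyG⟩).2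
          (by rw [hcL]; exact Subgroup.mem_subgroupOf.2 hy)
        rw [hcL] at h1
        exact Subgroup.mem_subgroupOf.1 h1
    · rintro ⟨hxG, hxN⟩
      refine ⟨⟨x, hxG⟩, Subgroup.mem_normalizer_iff.2 fun y => ?_, rfl⟩
      rw [hcL]
      exact Subgroup.mem_normalizer_iff.1 hxN (y : X)
  -- a Sylow subgroup normalising `L` and containing the root group
  let uN : Multiplicative F →* ↥N :=
    { toFun := fun x => ⟨c.u x.toAdd, Subgroup.le_normalizer (c.u_mem_L _)⟩
      map_one' := Subtype.ext c.u_zero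
      map_mul' := fun a b => Subtype.ext (c.u_add _ _).symm }
  have hUp : IsPGroup p ↥uN.range := by
    rintro ⟨_, x, rfl⟩
    refine ⟨1, Subtype.ext (Subtype.ext ?_)⟩
    simp [uN, c.u_pow, c.u_zero]
  obtain ⟨S₀, hS₀⟩ := hUp.exists_le_sylow
  have hT : Nat.card ↥((S₀ : Subgroup ↥N).map N.subtype) = p ^ (Nat.card ↥G).factorization p := by
    rw [Subgroup.card_map_of_injective N.subtype_injective]
    obtain ⟨P⟩ : Nonempty (Sylow p ↥G) := inferInstance
    obtain ⟨S⟩ : Nonempty (Sylow p ↥(G ⊓ Subgroup.normalizer (L : Set X))) := inferInstance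
    rw [S₀.card_eq_multiplicity, ← P.card_eq_multiplicity, ← hSyl S P, S.card_eq_multiplicity]
    congr 2
    rw [← hNmap, Subgroup.card_map_of_injective G.subtype_injective]
  let s : SConf ↥G F p :=
    { toConf := c
      T := Sylow.ofCard _ hT
      T_le := Subgroup.map_subtype_le _
      u_mem := fun x => ⟨uN (Multiplicative.ofAdd x), hS₀ ⟨_, rfl⟩, rfl⟩ }
  by_cases hn : (L.subgroupOf G).Normal
  · exact Or.inl hn
  right
  have hn' : ¬ s.L.Normal := fun h => hn (hcL ▸ h)
  have hb := s.normal_or_bad.resolve_left hn'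
  obtain rfl := hb.two
  exact ⟨hb.four, s.alternating_seven hb hn'⟩

end Cfsg.Agent.S2932
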