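import Cfsg.Statements.S2937
import Cfsg.Agent.Lib.Components.GenFitting
import Cfsg.Agent.Lib.PMinLie.Core
import Cfsg.Agent.Lib.PMinLie.Families

set_option autoImplicit false
open Cfsg

namespace Cfsg.Agent.S2937

open Cfsg.Agent.Lib

/-- Let X be a finite p-minimal group whose generalized Fitting subgroup K = F*(X) is a simple group of Lie type in characteristic p, and let U be a Sylow p-subgroup of K. Then N_X(U) is a maximal subgroup of X, and either K has Lie rank one (K ≅ PSL₂(pᵉ), PSU₃(pᵉ), a Suzuki group for p = 2, or a Ree group or PSL₂(8) for p = 3), or p = 2, K ≠ X and K is isomorphic to PSL₃(2ᵉ) or to PSp₄(2ᵉ) (e ≥ 2) or to the alternating group of degree 6. -/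
theorem result {X : Type*} [Group X] [Finite X] {p : ℕ} [Fact p.Prime] (hX : Cfsg.IsPMinimal p X) (hK : Cfsg.IsChevSimple p ↥(Cfsg.generalizedFittingSubgroup X)) (U : Sylow p ↥(Cfsg.generalizedFittingSubgroup X)) : IsCoatom (Subgroup.normalizer (((U : Subgroup ↥(Cfsg.generalizedFittingSubgroup X)).map (Cfsg.generalizedFittingSubgroup X).subtype : Subgroup X) : Set X)) ∧ (Cfsg.IsLieRankOneChar p ↥(Cfsg.generalizedFittingSubgroup X) ∨ (p = 2 ∧ Cfsg.generalizedFittingSubgroup X ≠ ⊤ ∧ ((∃ (F : Type) (_ : Field F) (_ : Fintype F) (_ : CharP F 2), Nonempty (↥(Cfsg.generalizedFittingSubgroup X) ≃* Matrix.ProjectiveSpecialLinearGroup (Fin 3) F)) ∨ (∃ (F : Type) (_ : Field F) (_ : Fintype F) (_ : CharP F 2), 4 ≤ Fintype.card F ∧ Nonempty (↥(Cfsg.generalizedFittingSubgroup X) ≃* Cfsg.PSp 2 F)) ∨ Nonempty (↥(Cfsg.generalizedFittingSubgroup X) ≃* ↥(alternatingGroup (Fin 6)))))) := by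
  haveI := Components.GenFitting.generalizedFitting_normal (G := X)
  obtain ⟨hne, hgeom⟩ := PMinLie.geom_chevSimple hK
  haveI := hne
  obtain ⟨𝒜, hA, hS⟩ := hgeom.at_sylow U
  obtain ⟨hmax, htw, ⟨k, hk⟩, htop⟩ := PMinLie.core hX _ U hA
  refine ⟨hmax, ?_⟩
  rcases hS with h | ⟨h2, hall⟩ | ⟨A, hA', A', hA'', hnot⟩
  · exact Or.inl h
  · refine Or.inr ?_
    have hp2 : p = 2 := by
      rw [h2] at hk
      have hk0 : k ≠ 0 := fun e => by rw [e, pow_zero] at hk; omega
      exact (Nat.prime_dvd_prime_iff_eq (Fact.out : p.Prime) Nat.prime_two).1 (hk ▸ dvd_pow_self p hk0)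
    refine ⟨hp2, fun e => ?_, hall hp2⟩
    obtain ⟨A, A', hne', hset⟩ := Set.ncard_eq_two.1 h2
    exact hne' (htop e A (hset.symm ▸ Or.inl rfl) A' (hset.symm ▸ Or.inr rfl))
  · exact absurd (htw A hA' A' hA'') hnot

end Cfsg.Agent.S2937
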