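import Cfsg.Statements.S2939
-- import your own Cfsg.Agent.* helpers here

set_option autoImplicit false
open Cfsg

namespace Cfsg.Agent.S2939

variable {G : Type*} [Group G]

theorem mem_conj {X : Subgroup G} {g x : G} : x ∈ Cfsg.subgroupConjRight g X ↔ g * x * g⁻¹ ∈ X := by
  constructor
  · rintro ⟨y, hy, rfl⟩
    simpa [mul_assoc] using hy
  · intro h
    exact ⟨g * x * g⁻¹, h, by simp [mul_assoc]⟩

theorem conj_conj (g h : G) (X : Subgroup G) :
    Cfsg.subgroupConjRight h (Cfsg.subgroupConjRight g X) = Cfsg.subgroupConjRight (g * h) X := by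
  ext x
  simp only [mem_conj]
  rw [show g * (h * x * h⁻¹) * g⁻¹ = g * h * x * (g * h)⁻¹ by group]

theorem conj_one (X : Subgroup G) : Cfsg.subgroupConjRight 1 X = X := by
  ext x; simp [mem_conj]

theorem conj_eq_self {X : Subgroup G} {g : G} :
    Cfsg.subgroupConjRight g X = X ↔ g ∈ Subgroup.normalizer (X : Set G) := by
  constructor
  · intro h
    rw [Subgroup.mem_normalizer_iff]
    intro x
    rw [← mem_conj, h]
  · intro h
    ext x
    rw [mem_conj, ← Subgroup.mem_normalizer_iff.1 h x]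

theorem subset_conjRight {A : Set G} {g : G} {X : Subgroup G} :
    Cfsg.conjRight g A ⊆ (X : Set G) ↔ A ⊆ (Cfsg.subgroupConjRight g⁻¹ X : Set G) := by
  constructor
  · intro h a ha
    rw [SetLike.mem_coe, mem_conj, inv_inv]
    exact h ⟨a, ha, rfl⟩
  · rintro h _ ⟨a, ha, rfl⟩
    have := h ha
    rw [SetLike.mem_coe, mem_conj, inv_inv] at this
    exact this

theorem members_conj [Finite G] {p : ℕ} [Fact p.Prime] {F : Set (Subgroup G)} (hF : Cfsg.IsNormalSet F)
    {X S : Subgroup G} (h : X ∈ Cfsg.sylowMembers p F S) (g : G) :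
    Cfsg.subgroupConjRight g X ∈ Cfsg.sylowMembers p F (Cfsg.subgroupConjRight g S) := by
  obtain ⟨hX, P, hP⟩ := h
  refine ⟨hF X hX g, ?_⟩
  set f := (MulAut.conj g⁻¹).toMonoidHom
  have hinj : Function.Injective f := (MulAut.conj g⁻¹).injective
  let e : X ≃* X.map f := X.equivMapOfInjective f hinj
  refine ⟨P.mapSurjective (f := e.toMonoidHom) e.surjective, ?_⟩
  change ((P : Subgroup X).map e.toMonoidHom).map (X.map f).subtype = S.map f ⊓ X.map f
  rw [Subgroup.map_map, ← Subgroup.map_inf S X f hinj, ← hP, Subgroup.map_map]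
  rfl


/-- Let p be a prime dividing the order of the finite group G and 𝓕 a family of subgroups of G closed under conjugation, with conjugates taken as X^g = g⁻¹Xg. Then 𝓕 controls Sylow p-intersections in G (any two distinct Sylow p-subgroups S and T with S ∩ T ≠ 1 are joined by a chain S = S₀, S₁, …, Sₙ = T of Sylow p-subgroups where, for each i, some member Xᵢ of 𝓕 meets both S_{i-1} and Sᵢ in Sylow p-subgroups of Xᵢ, satisfies S ∩ T ≤ Sᵢ ∩ Xᵢ, and contains an element xᵢ with Sᵢ^{xᵢ} = S_{i-1}) if and only if 𝓕 strongly controls p-fusion in G (whenever A is a subset of a Sylow p-subgroup S, A contains an element other than 1, and A^g ⊆ S, the element g factorises as g = y₁⋯yₙy with y ∈ N_G(S) and each yᵢ in a member Yᵢ of 𝓕 that meets S in a Sylow p-subgroup of Yᵢ, with A^{y₁⋯yᵢ} ⊆ S ∩ Yᵢ for each i). -/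
theorem result {G : Type*} [Group G] [Finite G] {p : ℕ} [Fact p.Prime] (hdiv : p ∣ Nat.card G) (𝓕 : Set (Subgroup G)) (h𝓕 : Cfsg.IsNormalSet 𝓕) : Cfsg.ControlsSylowIntersections p 𝓕 ↔ Cfsg.FamilyStronglyControlsFusion p 𝓕 := by
  classical
  constructor
  · intro hc S A g hAS hA1 hgA
    by_cases hST : Cfsg.subgroupConjRight g⁻¹ (S : Subgroup G) = (S : Subgroup G)
    · exact ⟨0, Fin.elim0, Fin.elim0, g, by simpa using inv_mem (conj_eq_self.1 hST), fun i => i.elim0, by simp,
        fun i => i.elim0⟩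
    obtain ⟨T, hT⟩ : ∃ T : Sylow p G, (T : Subgroup G) = Cfsg.subgroupConjRight g⁻¹ (S : Subgroup G) :=
      ⟨S.mapSurjective (f := (MulAut.conj g⁻¹⁻¹).toMonoidHom) (MulAut.conj g⁻¹⁻¹).surjective, rfl⟩
    have hA : A ⊆ ((S : Subgroup G) ⊓ (T : Subgroup G) : Subgroup G) := fun a ha =>
      ⟨hAS ha, hT ▸ subset_conjRight.1 hgA ha⟩
    obtain ⟨n, c, X, x, hc0, hcn, hi⟩ := hc S T (fun e => hST (by rw [← hT, ← e])) (fun e => by
      obtain ⟨a, ha, ha1⟩ := hA1
      exact ha1 (Subgroup.mem_bot.1 (e ▸ hA ha)))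
    let w : ℕ → G := fun k => Nat.rec 1 (fun i r => (if h : i < n then x ⟨i, h⟩ else 1) * r) k
    have hw0 : w 0 = 1 := rfl
    have hws : ∀ i : Fin n, w (i.val + 1) = x i * w i.val := fun i => by
      change (if h : i.val < n then x ⟨i.val, h⟩ else 1) * w i.val = _
      rw [dif_pos i.isLt]
    have hcw : ∀ k : ℕ, ∀ hk : k ≤ n,
        Cfsg.subgroupConjRight (w k) (c ⟨k, Nat.lt_succ_of_le hk⟩ : Subgroup G) = (S : Subgroup G) := by
      intro k
      induction k with
      | zero => intro _; rw [hw0, conj_one]; exact congrArg Sylow.toSubgroup hc0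
      | succ k ih =>
        intro hk
        rw [hws ⟨k, hk⟩, ← conj_conj]
        have := (hi ⟨k, hk⟩).2.2.2.1
        rw [show (⟨k + 1, Nat.lt_succ_of_le hk⟩ : Fin (n + 1)) = (⟨k, hk⟩ : Fin n).succ from rfl, this]
        exact ih (Nat.le_of_succ_le hk)
    let y : Fin n → G := fun i => (w i.val)⁻¹ * x i * w i.val
    have hprod : ∀ k, k ≤ n → ((List.ofFn y).take k).prod = w k := by
      intro k
      induction k with
      | zero => intro _; simp [hw0]
      | succ k ih =>
        intro hk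
        rw [List.prod_take_succ _ k (by simpa using hk), ih (Nat.le_of_succ_le hk), List.getElem_ofFn,
          hws ⟨k, hk⟩]
        simp [y, mul_assoc]
    have hall : (List.ofFn y).prod = w n := by
      rw [← hprod n le_rfl, List.take_of_length_le (by simp)]
    refine ⟨n, fun i => Cfsg.subgroupConjRight (w i.val) (X i), y, (w n)⁻¹ * g, ?_, fun i => ⟨?_, ?_⟩, ?_,
      fun i => ?_⟩
    · have h1 := hcw n le_rfl
      rw [show (⟨n, Nat.lt_succ_self n⟩ : Fin (n + 1)) = Fin.last n from rfl, hcn, hT, conj_conj] at h1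
      have h2 := inv_mem (conj_eq_self.1 h1)
      rwa [mul_inv_rev, inv_inv] at h2
    · have h1 := members_conj h𝓕 (hi i).1 (w i.val)
      have h2 := hcw i.val (Nat.le_of_lt i.isLt)
      rw [show (⟨i.val, Nat.lt_succ_of_le (Nat.le_of_lt i.isLt)⟩ : Fin (n + 1)) = i.castSucc from rfl] at h2
      rwa [h2] at h1
    · rw [mem_conj]
      simpa [y, mul_assoc] using (hi i).2.2.1
    · rw [hall, mul_inv_cancel_left]
    · rw [hprod _ (Nat.succ_le_of_lt i.isLt), hws i, Set.subset_inter_iff, ← Sylow.coe_coe,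
        subset_conjRight, subset_conjRight]
      obtain ⟨-, -, hx, hxc, hle⟩ := hi i
      constructor <;> intro a ha <;> rw [SetLike.mem_coe, mem_conj]
      · rw [← hcw (i.val + 1) i.isLt, mem_conj, hws i]
        simp only [mul_inv_rev, inv_inv, mul_assoc, mul_inv_cancel_left, mul_inv_cancel, mul_one]
        exact (hle (hA ha)).1
      · rw [mem_conj]
        have h1 := (X i).mul_mem ((X i).mul_mem ((X i).inv_mem hx) (hle (hA ha)).2) hx
        simpa [mul_assoc] using h1
  · intro hc S T hne hbot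
    obtain ⟨h, hh⟩ := MulAction.exists_smul_eq G T S
    have hg : Cfsg.subgroupConjRight h⁻¹ (T : Subgroup G) = (S : Subgroup G) := by
      rw [← hh]
      change (T : Subgroup G).map (MulAut.conj h⁻¹⁻¹).toMonoidHom = _
      rw [inv_inv]
      rfl
    set g := h⁻¹
    set A : Set G := (((S : Subgroup G) ⊓ (T : Subgroup G) : Subgroup G) : Set G)
    obtain ⟨a, ha, ha1⟩ := (Subgroup.bot_or_exists_ne_one _).resolve_left hbot
    obtain ⟨n, Y, y, y₀, hy₀, hY, hgeq, hi⟩ := hc S A g (fun _ hx => hx.1) ⟨a, ha, ha1⟩ (by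
      rintro _ ⟨b, hb, rfl⟩
      change g⁻¹ * b * g ∈ (S : Subgroup G)
      rw [← hg, mem_conj]
      simp only [g, inv_inv, mul_assoc, inv_mul_cancel_left, mul_inv_cancel, mul_one, inv_mul_cancel, mul_inv_cancel_left]
      exact hb.2)
    let w : ℕ → G := fun k => ((List.ofFn y).take k).prod
    have hws : ∀ i : Fin n, w (i.val + 1) = w i.val * y i := fun i => by
      change ((List.ofFn y).take (i.val + 1)).prod = _
      rw [List.prod_take_succ _ i.val (by simp), List.getElem_ofFn]
    let c : ℕ → Sylow p G := fun k => S.mapSurjective (f := (MulAut.conj (w k)⁻¹⁻¹).toMonoidHom)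
      (MulAut.conj (w k)⁻¹⁻¹).surjective
    have hc' : ∀ k, (c k : Subgroup G) = Cfsg.subgroupConjRight (w k)⁻¹ (S : Subgroup G) := fun k => rfl
    refine ⟨n, fun k => c k.val, fun i => Cfsg.subgroupConjRight (w i.val)⁻¹ (Y i),
      fun i => w (i.val + 1) * (w i.val)⁻¹, ?_, ?_, fun i => ?_⟩
    · apply Sylow.ext
      rw [hc']
      simp [w, conj_one]
    · apply Sylow.ext
      rw [hc', Fin.val_last]
      have hwn : (List.ofFn y).prod = w n := by simp [w, List.take_of_length_le]
      have h2 : Cfsg.subgroupConjRight g⁻¹ (S : Subgroup G) = (T : Subgroup G) := by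
        rw [← hg, conj_conj, mul_inv_cancel, conj_one]
      rw [← h2, hgeq, hwn, mul_inv_rev, ← conj_conj, conj_eq_self.2 (inv_mem hy₀)]
    have hXeq : Cfsg.subgroupConjRight (w (i.val + 1))⁻¹ (Y i) = Cfsg.subgroupConjRight (w i.val)⁻¹ (Y i) := by
      rw [hws, mul_inv_rev, ← conj_conj, conj_eq_self.2 (inv_mem (Subgroup.le_normalizer (hY i).2))]
    refine ⟨?_, ?_, ?_, ?_, ?_⟩
    · exact members_conj h𝓕 (hY i).1 _
    · have h1 := members_conj h𝓕 (hY i).1 (w (i.val + 1))⁻¹
      rw [hXeq] at h1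
      exact h1
    · beta_reduce
      rw [mem_conj, hws]
      simpa [mul_assoc] using (hY i).2
    · rw [hc', hc', conj_conj]
      simp
    · have h1 := Set.subset_inter_iff.1 (hi i)
      rw [← Sylow.coe_coe, subset_conjRight, subset_conjRight] at h1
      intro b hb
      refine ⟨?_, ?_⟩
      · exact h1.1 hb
      · change b ∈ Cfsg.subgroupConjRight (w i.val)⁻¹ (Y i)
        rw [← hXeq]; exact h1.2 hb

end Cfsg.Agent.S2939
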