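import Cfsg.Prelude.Def_SylowControl

set_option autoImplicit false

namespace Cfsg.Agent.S2940

theorem result {G : Type*} [Group G] [Finite G] {p : ℕ} [Fact p.Prime] (S : Sylow p G) (G₁ G₂ : Subgroup G) (h1 : (S : Subgroup G) ≤ G₁) (h2 : (S : Subgroup G) ≤ G₂) (hfact : ∀ g : G, ∃ g₁ ∈ G₁, ∃ g₂ ∈ G₂, g = g₁ * g₂) (g : G) : ∃ U : Sylow p G, (S : Subgroup G) ⊓ Cfsg.subgroupConjRight g (S : Subgroup G) ≤ (U : Subgroup G) ∧ (U : Subgroup G) ≤ G₁ ⊓ Cfsg.subgroupConjRight g G₂ := by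
  have mem : ∀ (k : G) (X : Subgroup G) (x : G),
      x ∈ Cfsg.subgroupConjRight k X ↔ k * x * k⁻¹ ∈ X := by
    intro k X x
    constructor
    · rintro ⟨y, hy, rfl⟩
      simpa [mul_assoc] using hy
    · intro h
      exact ⟨k * x * k⁻¹, h, by simp [mul_assoc]⟩
  obtain ⟨a, ha, b, hb, hab⟩ := hfact g⁻¹
  have hg : g = b⁻¹ * a⁻¹ := by rw [← inv_inv g, hab]; group
  set K := G₁ ⊓ Cfsg.subgroupConjRight g G₂ with hK
  set D := (S : Subgroup G) ⊓ Cfsg.subgroupConjRight g (S : Subgroup G) with hD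
  have hDK : D ≤ K := by
    intro x hx
    exact ⟨h1 hx.1, (mem g G₂ x).2 (h2 ((mem g _ x).1 hx.2))⟩
  have hEK : Cfsg.subgroupConjRight a⁻¹ (S : Subgroup G) ≤ K := by
    intro x hx
    rw [mem] at hx
    refine ⟨?_, (mem _ _ _).2 ?_⟩
    · have := mul_mem (mul_mem ha (h1 hx)) (inv_mem ha)
      simpa [mul_assoc] using this
    · have := mul_mem (mul_mem (inv_mem hb) (h2 hx)) hb
      rw [hg]
      simpa [mul_assoc] using this
  obtain ⟨T, hT⟩ := (S.isPGroup'.to_inf_left (K := Cfsg.subgroupConjRight g S)).comap_subtype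
    (K := K) |>.exists_le_sylow
  obtain ⟨E, hE⟩ := ((S.isPGroup'.map (MulAut.conj a⁻¹⁻¹).toMonoidHom).comap_subtype
    (K := K)).exists_le_sylow
  obtain ⟨U, hU⟩ := (T.isPGroup'.map K.subtype).exists_le_sylow
  refine ⟨U, ?_, ?_⟩
  · intro x hx
    exact hU ⟨⟨x, hDK hx⟩, hT hx, rfl⟩
  · have hcard : Nat.card (U : Subgroup G) ≤ Nat.card ((T : Subgroup K).map K.subtype : Subgroup G) := by
      rw [Subgroup.card_map_of_injective K.subtype_injective, T.card_eq_multiplicity, ← E.card_eq_multiplicity,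
        U.card_eq_multiplicity, ← S.card_eq_multiplicity]
      refine le_trans ?_ (Subgroup.card_le_of_le hE)
      refine le_trans ?_ (Nat.card_congr (Subgroup.subgroupOfEquivOfLe hEK).toEquiv).ge
      exact (Subgroup.card_map_of_injective (MulAut.conj a⁻¹⁻¹).injective).ge
    rw [← Subgroup.eq_of_le_of_card_ge hU hcard]
    exact Subgroup.map_subtype_le _

end Cfsg.Agent.S2940
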