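import Cfsg.Statements.S2953
import Cfsg.Agent.Lib.LAEven56.JComp.Final
-- import your own Cfsg.Agent.* helpers here

set_option autoImplicit false
open Cfsg

namespace Cfsg.Agent.S2953
open Cfsg.Agent.Lib.LAEven56.JComp

/-- Let G be a finite group of characteristic 2 type in which every 2-local subgroup is solvable and the centralizer of Ω₁(Z(S)) lies in N_G(S) for every Sylow 2-subgroup S; suppose O₂(G) = 1, fix a Sylow 2-subgroup S and a 2-local subgroup M containing N_G(J(S)) (J the Thompson subgroup generated by the elementary abelian 2-subgroups of largest order). Let T be maximal (for the order of a largest elementary abelian subgroup, then the order of J(T), then the order of T) among the nontrivial 2-subgroups of M lying in a 2-local subgroup not inside M. Then there are two distinct J(T)-components K₁, K₂ such that, with Pᵢ = ⟨Kᵢ, T⟩: C_G(O₂(Pᵢ))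 ≤ O₂(Pᵢ), T is a Sylow 2-subgroup of Pᵢ, O₂(Pᵢ) has index 6 in Pᵢ with Pᵢ/O₂(Pᵢ) non-abelian, [Ω₁(Z(T)), Pᵢ] ≠ 1, O₂(⟨P₁, P₂⟩) = 1, and each Pᵢ lies in exactly one maximal 2-local subgroup Lᵢ of G, in which T is a Sylow 2-subgroup. -/
theorem result {G : Type*} [Group G] [Finite G] (hL : Cfsg.IsCharacteristicTwoType G) (hN : ∀ N : Subgroup G, Cfsg.IsTwoLocal N → Group.IsSolvable ↥N)
    (hZ : ∀ S : Sylow 2 G, Subgroup.centralizer (Cfsg.omegaCenterOf (S : Subgroup G) : Set G) ≤ Subgroup.normalizer ((S : Subgroup G) : Set G)) (hO : Cfsg.pCore 2 G = ⊥) (S : Sylow 2 G) (M : Subgroup G) (hM : Cfsg.IsTwoLocal M)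
    (hMJ : Subgroup.normalizer (Cfsg.thompsonSubgroupOf 2 (S : Subgroup G) : Set G) ≤ M) (T : Subgroup G) (hT : T ∈ Cfsg.maxStraddlingTwoSubgroups M) :
    ∃ K₁ K₂ : Subgroup G, K₁ ≠ K₂ ∧ Cfsg.IsJComponent T K₁ ∧ Cfsg.IsJComponent T K₂ ∧
      Cfsg.pCoreOf 2 ((K₁ ⊔ T) ⊔ (K₂ ⊔ T)) = ⊥ ∧
      ∀ P ∈ [K₁ ⊔ T, K₂ ⊔ T],
        Subgroup.centralizer (Cfsg.pCoreOf 2 P : Set G) ≤ Cfsg.pCoreOf 2 P ∧ Cfsg.IsSylowTwoIn T P ∧
        (Cfsg.pCoreOf 2 P).relIndex P = 6 ∧ ¬ ⁅P, P⁆ ≤ Cfsg.pCoreOf 2 P ∧ ⁅Cfsg.omegaCenterOf T, P⁆ ≠ ⊥ ∧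
        ∃ L : Subgroup G, Cfsg.IsMaximalTwoLocal L ∧ P ≤ L ∧ Cfsg.IsSylowTwoIn T L ∧
          ∀ L' : Subgroup G, Cfsg.IsMaximalTwoLocal L' → P ≤ L' → L' = L := by
  have F : Frame G M := ⟨⟨hL, hN, hZ⟩, hO, hM, ⟨S, hMJ⟩⟩
  obtain ⟨K, L, K', L', p⟩ := F.exists_pair hT
  have key : ∀ {A B A' B' : Subgroup G}, Pair T A B A' B' →
      Subgroup.centralizer (Cfsg.pCoreOf 2 (A ⊔ T) : Set G) ≤ Cfsg.pCoreOf 2 (A ⊔ T) ∧
        Cfsg.IsSylowTwoIn T (A ⊔ T) ∧ (Cfsg.pCoreOf 2 (A ⊔ T)).relIndex (A ⊔ T) = 6 ∧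
        ¬ ⁅A ⊔ T, A ⊔ T⁆ ≤ Cfsg.pCoreOf 2 (A ⊔ T) ∧ ⁅Cfsg.omegaCenterOf T, A ⊔ T⁆ ≠ ⊥ ∧
        ∃ L₁ : Subgroup G, Cfsg.IsMaximalTwoLocal L₁ ∧ A ⊔ T ≤ L₁ ∧ Cfsg.IsSylowTwoIn T L₁ ∧
          ∀ L₂ : Subgroup G, Cfsg.IsMaximalTwoLocal L₂ → A ⊔ T ≤ L₂ → L₂ = L₁ := by
    intro A B A' B' q
    have h4 := q.commutator_not_le F.zn
    have h5 := q.omegaCenter_comm_ne_bot F.zn
    rw [← q.local_eq_sup F.zn] at h4 h5 ⊢
    refine ⟨q.left.mem.2.2, q.left.mem.1, q.relIndex_core F.zn, h4, h5, B, q.left.maximal, le_rfl,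
      q.left.mem.1, fun L₂ h₂ hle => q.left.uniq L₂ h₂ (le_trans q.left.sup_le hle)⟩
  refine ⟨K, K', p.comp_ne, p.left.comp, p.right.comp, p.core_sup_eq_bot F.zn, fun P hP => ?_⟩
  simp only [List.mem_cons, List.not_mem_nil, or_false] at hP
  rcases hP with rfl | rfl
  · exact key p
  · exact key p.symm

end Cfsg.Agent.S2953
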