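import Cfsg.Statements.S2955
-- import your own Cfsg.Agent.* helpers here

set_option autoImplicit false
open Cfsg

namespace Cfsg.Agent.S2955

/-- Let p be a prime dividing the order of the finite group G and 𝓕 a conjugation-closed family of subgroups that controls Sylow p-intersections in G. Suppose the Sylow p-subgroups of G are chain-connected: any two of them are joined by a chain of Sylow p-subgroups, consecutive ones distinct with nontrivial intersection, all containing the intersection of the two ends (equivalently, the graph on the Sylow p-subgroups whose edges are the distinct pairs meeting nontrivially is connected). Then for every Sylow p-subgroup S, G is generated by N_G(S) together with the members of 𝓕 that meet S in a Sylow p-subgroup of themselves. -/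
theorem result {G : Type*} [Group G] [Finite G] (p : ℕ) [Fact p.Prime] (hdiv : p ∣ Nat.card G)
    (𝓕 : Set (Subgroup G)) (h𝓕 : Cfsg.IsNormalSet 𝓕) (hc : Cfsg.ControlsSylowIntersections p 𝓕)
    (hconn : Cfsg.IsSylowChainConnected p G) (S : Sylow p G) :
    (⨆ X ∈ Cfsg.sylowMembers p 𝓕 (S : Subgroup G), X) ⊔ Subgroup.normalizer ((S : Subgroup G) : Set G) = ⊤ := by
  set F := ⨆ X ∈ Cfsg.sylowMembers p 𝓕 (S : Subgroup G), X with hF
  set K := F ⊔ Subgroup.normalizer ((S : Subgroup G) : Set G) with hK
  -- members of `𝓕(k • S)` are conjugates of members of `𝓕(S)`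
  have htrans : ∀ (k : G) (X : Subgroup G), X ∈ Cfsg.sylowMembers p 𝓕 ((k • S : Sylow p G) : Subgroup G) →
      ∀ x ∈ X, k⁻¹ * x * k ∈ F := by
    intro k X hX x hx
    set X' := Cfsg.subgroupConjRight k X with hX'
    have hXmap : X' = X.map (MulAut.conj k⁻¹).toMonoidHom := rfl
    have hmem : X' ∈ Cfsg.sylowMembers p 𝓕 (S : Subgroup G) := by
      refine ⟨h𝓕 X hX.1 k, ?_⟩
      obtain ⟨P, hP⟩ := hX.2
      have hcard : Nat.card (((S : Subgroup G) ⊓ X').subgroupOf X') = p ^ (Nat.card X').factorization p := by
        rw [Nat.card_congr (Subgroup.subgroupOfEquivOfLe (inf_le_right : (S : Subgroup G) ⊓ X' ≤ X')).toEquiv]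
        have h1 : (S : Subgroup G) ⊓ X' =
            (((k • S : Sylow p G) : Subgroup G) ⊓ X).map (MulAut.conj k⁻¹).toMonoidHom := by
          rw [Subgroup.map_inf _ _ _ (MulAut.conj k⁻¹).injective, hXmap]
          congr 1
          rw [Sylow.coe_subgroup_smul]
          ext y
          simp [Subgroup.mem_map, Subgroup.mem_pointwise_smul_iff_inv_smul_mem]
          constructor
          · intro hy
            refine ⟨k * y * k⁻¹, ?_, ?_⟩
            · simpa [mul_assoc] using hy
            · group
          · rintro ⟨z, hz, rfl⟩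
            simpa [mul_assoc] using hz
        rw [h1, Subgroup.card_map_of_injective (MulAut.conj k⁻¹).injective, ← hP,
          Subgroup.card_map_of_injective X.subtype_injective, P.card_eq_multiplicity, hXmap,
          Subgroup.card_map_of_injective (MulAut.conj k⁻¹).injective]
      refine ⟨Sylow.ofCard _ hcard, ?_⟩
      rw [Sylow.coe_ofCard, Subgroup.map_subgroupOf_eq_of_le inf_le_right]
    have h1 : k⁻¹ * x * k ∈ X' := ⟨x, hx, by simp⟩
    exact (le_iSup₂ (f := fun Y (_ : Y ∈ Cfsg.sylowMembers p 𝓕 (S : Subgroup G)) => Y) X' hmem) h1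
  -- the orbit of `K` absorbs every chain
  let good : Sylow p G → Prop := fun T => ∃ k ∈ K, k • S = T
  have hstep : ∀ A B : Sylow p G, A ≠ B → (A : Subgroup G) ⊓ (B : Subgroup G) ≠ ⊥ → good A → good B := by
    intro A B hne hAB hA
    obtain ⟨n, c, X, x, h0, hn, hch⟩ := hc A B hne hAB
    have : ∀ i : Fin (n + 1), good (c i) := by
      intro i
      induction i using Fin.induction with
      | zero => rw [h0]; exact hA
      | succ i ih =>
        obtain ⟨k, hk, hkc⟩ := ih
        obtain ⟨hX1, -, hxX, hconj, -⟩ := hch i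
        rw [← hkc] at hX1
        have h2 := htrans k (X i) hX1 (x i) hxX
        refine ⟨k * (k⁻¹ * x i * k), K.mul_mem hk (Subgroup.mem_sup_left h2), ?_⟩
        have e : k * (k⁻¹ * x i * k) = x i * k := by group
        rw [e, mul_smul, hkc]
        apply Sylow.ext
        rw [Sylow.coe_subgroup_smul, ← hconj]
        ext y
        simp [Cfsg.subgroupConjRight, Subgroup.mem_map, Subgroup.mem_pointwise_smul_iff_inv_smul_mem, mul_assoc]
    rw [← hn]; exact this _
  rw [eq_top_iff]
  intro g _
  obtain ⟨n, c, h0, hn, -, hch⟩ := hconn S (g • S)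
  have hall : ∀ i : Fin (n + 1), good (c i) := by
    intro i
    induction i using Fin.induction with
    | zero => exact ⟨1, K.one_mem, by rw [h0, one_smul]⟩
    | succ i ih => exact hstep _ _ (hch i).1 (hch i).2 ih
  obtain ⟨k, hk, hkg⟩ := hall (Fin.last n)
  rw [hn] at hkg
  have hN : k⁻¹ * g ∈ Subgroup.normalizer ((S : Subgroup G) : Set G) := by
    refine (Sylow.smul_eq_iff_mem_normalizer (P := S)).mp ?_
    rw [mul_smul, ← hkg, inv_smul_smul]
  have e : g = k * (k⁻¹ * g) := by group
  rw [e]
  exact K.mul_mem hk (Subgroup.mem_sup_right hN)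

end Cfsg.Agent.S2955
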