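import Cfsg.Statements.S2956
import Cfsg.Agent.Lib.LAEven57.SylowConn
import Mathlib.GroupTheory.Nilpotent

set_option autoImplicit false
open Cfsg

namespace Cfsg.Agent.S2956

open Cfsg.Agent.Lib.LAEven57.SylowConn Relation

theorem exists_maximalPLocal {G : Type*} [Group G] [Finite G] {p : ℕ} {N : Subgroup G} (hN : IsPLocal p N) :
    ∃ M, IsMaximalPLocal p M ∧ N ≤ M := by
  obtain ⟨M, hNM, hM⟩ := (Set.toFinite {K : Subgroup G | IsPLocal p K}).exists_le_maximal (show N ∈ _ from hN)
  exact ⟨M, ⟨hM.1, fun K hK hMK => le_antisymm (hM.2 hK hMK) hMK⟩, hNM⟩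

theorem lt_normalizer_inf {G : Type*} [Group G] [Finite G] {p : ℕ} [Fact p.Prime] {D P : Subgroup G}
    (hP : IsPGroup p P) (hDP : D < P) : D < Subgroup.normalizer (D : Set G) ⊓ P := by
  refine lt_of_le_of_ne (le_inf Subgroup.le_normalizer hDP.le) (fun e => ?_)
  have h1 := @Group.normalizerCondition_of_isNilpotent P _ hP.isNilpotent (D.subgroupOf P)
    (lt_top_iff_ne_top.mpr (fun e' => hDP.not_ge (Subgroup.subgroupOf_eq_top.mp e')))
  obtain ⟨x, hx, hxn⟩ := SetLike.exists_of_lt h1
  apply hxn
  rw [Subgroup.mem_subgroupOf, e]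
  refine ⟨?_, x.2⟩
  rw [← Subgroup.subgroupOf_normalizer_eq hDP.le] at hx
  exact hx

/-- Let p be a prime dividing the order of the finite group G, and f an assignment to every p-subgroup P of a set f(P) of subgroups of P, each normalized by N_G(P), compatible with conjugation, such that for P ≠ 1 the members of f(P) are nontrivial. Let 𝓕 be the family of the normalizers N_G(F) of the members F of f(S) over the Sylow p-subgroups S of G, and 𝓕' the family of the maximal p-local subgroups M of G that are singular for f (the corresponding family of normalizers inside M does not control Sylow p-intersections in M). Then 𝓕 ∪ 𝓕' controls Sylow p-intersections in G. -/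
theorem result {G : Type*} [Group G] [Finite G] (p : ℕ) [Fact p.Prime] (hdiv : p ∣ Nat.card G)
    (f : Subgroup G → Set (Subgroup G)) (hf : Cfsg.IsNormalizerFunctor p f)
    (hf1 : ∀ P : Subgroup G, IsPGroup p ↥P → P ≠ ⊥ → ∀ F ∈ f P, F ≠ ⊥)
    (𝓕 𝓕' : Set (Subgroup G)) (h𝓕 : 𝓕 = Cfsg.functorFamily p f ⊤)
    (h𝓕' : 𝓕' = {M | Cfsg.IsMaximalPLocal p M ∧ ¬ Cfsg.IsFunctorRegular p f M}) :
    Cfsg.ControlsSylowIntersections p (𝓕 ∪ 𝓕') := by
  classical
  subst h𝓕 h𝓕'
  set U := Cfsg.functorFamily p f ⊤ ∪ {M | Cfsg.IsMaximalPLocal p M ∧ ¬ Cfsg.IsFunctorRegular p f M} with hU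
  -- it suffices to connect any pair meeting in at least `D`, by descending induction on `|D|`
  suffices main : ∀ (k : ℕ) (D : Subgroup G), Nat.card G - Nat.card D = k → D ≠ ⊥ →
      ∀ S T : Sylow p G, D ≤ (S : Subgroup G) ⊓ T → ReflTransGen (Step p U D) S T by
    exact controls (fun S T _ hD => main _ _ rfl hD S T le_rfl)
  intro k
  induction k using Nat.strong_induction_on with
  | _ k IH =>
  intro D hk hD0
  -- pairs with a larger intersection
  have big : ∀ (S T : Sylow p G) (E : Subgroup G), D ≤ (S : Subgroup G) → D ≤ (T : Subgroup G) →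
      E ≤ (S : Subgroup G) ⊓ T → Nat.card D < Nat.card E → ReflTransGen (Step p U D) S T := by
    intro S T E hS hT hE hlt
    have hlt' : Nat.card D < Nat.card ((S : Subgroup G) ⊓ T : Subgroup G) :=
      hlt.trans_le (Subgroup.card_le_of_le hE)
    have hle := Subgroup.card_le_card_group ((S : Subgroup G) ⊓ T)
    have h := IH _ (by omega) ((S : Subgroup G) ⊓ T) rfl
      (fun e => by rw [e, Subgroup.card_bot] at hlt'; have := D.one_lt_card_iff_ne_bot.mpr hD0; omega)
      S T le_rfl
    exact Relation.ReflTransGen.mono (fun A B hs => hs.mono (le_inf hS hT)) _ _ h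
  -- Sylow subgroups of a maximal local subgroup, by descending induction on their order
  have claim : ∀ (j : ℕ) (M : Subgroup G), IsMaximalPLocal p M → ∀ (P₁ P₂ : Sylow p M),
      Nat.card G - Nat.card (P₁ : Subgroup M) = j → Nat.card D < Nat.card (P₁ : Subgroup M) →
      D ≤ (P₁ : Subgroup M).map M.subtype → D ≤ (P₂ : Subgroup M).map M.subtype →
      ∀ S₁ S₂ : Sylow p G, (P₁ : Subgroup M).map M.subtype ≤ S₁ → (P₂ : Subgroup M).map M.subtype ≤ S₂ →
        ReflTransGen (Step p U D) S₁ S₂ := by
    intro j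
    induction j using Nat.strong_induction_on with
    | _ j IH' =>
    intro M hM P₁ P₂ hj hcard hD1 hD2 S₁ S₂ hS1 hS2
    have hcP : ∀ P : Sylow p M, Nat.card ((P : Subgroup M).map M.subtype) = Nat.card (P₁ : Subgroup M) :=
      fun P => by rw [card_map_sylow, P₁.card_eq_multiplicity]
    have bigP : ∀ (P : Sylow p M) (A B : Sylow p G), D ≤ (P : Subgroup M).map M.subtype →
        (P : Subgroup M).map M.subtype ≤ A → (P : Subgroup M).map M.subtype ≤ B →
        ReflTransGen (Step p U D) A B :=
      fun P A B hDP hA hB => big A B _ (hDP.trans hA) (hDP.trans hB) (le_inf hA hB) (by rwa [hcP])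
    by_cases hreg : IsFunctorRegular p f M
    · have hchain := regular_conn hf hreg hD0 hD1 hD2
      suffices key : ∀ S : Sylow p G, (P₂ : Subgroup M).map M.subtype ≤ S → ReflTransGen (Step p U D) S₁ S by
        exact key S₂ hS2
      clear hS2 hD2
      induction hchain with
      | refl => exact fun S hS => bigP P₁ S₁ S hD1 hS1 hS
      | @tail A B _ hAB ih =>
        intro S hS
        obtain ⟨R, F, x, hF, hxM, hxN, hAN, hBN, hc, hDA, hDB⟩ := hAB
        -- `S'` is the conjugate of `S` by `x`, so contains `A`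
        obtain ⟨S', hS'⟩ : ∃ S' : Sylow p G, (S' : Subgroup G) = subgroupConjRight x (S : Subgroup G) :=
          ⟨x⁻¹ • S, Sylow.coe_subgroup_smul⟩
        have hAS' : (A : Subgroup M).map M.subtype ≤ S' := by
          rw [hS', ← hc]; exact Subgroup.map_mono hS
        refine (ih S' hAS').trans ?_
        set R' := (R : Subgroup M).map M.subtype with hR'
        have hR'p : IsPGroup p R' := R.2.map _
        have hDR : Nat.card D < Nat.card R' := by rw [hR', hcP]; exact hcard
        have hR'0 : R' ≠ ⊥ := fun e => by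
          rw [e, Subgroup.card_bot] at hDR
          have := D.one_lt_card_iff_ne_bot.mpr hD0
          omega
        obtain ⟨Q, hQ⟩ := hR'p.exists_le_sylow
        rcases eq_or_lt_of_le hQ with heq | hlt
        · -- the Sylow subgroups of `M` are Sylow in `G`
          have hcardG : ∀ (P : Sylow p M) (A' : Sylow p G), (P : Subgroup M).map M.subtype ≤ A' →
              (P : Subgroup M).map M.subtype = A' := fun P A' hle =>
            Subgroup.eq_of_le_of_card_ge hle (le_of_eq (by
              rw [hcP, ← hcP R, ← hR', heq, Q.card_eq_multiplicity, A'.card_eq_multiplicity]))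
          have hB := hcardG B S hS
          have hA := hcardG A S' hAS'
          rw [heq] at hF
          have hX : Subgroup.normalizer (F : Set G) ∈ U := Or.inl (functorFamily_top_mem Q hF)
          rw [hA] at hAN hDA
          rw [hB] at hBN hDB
          exact .single ⟨_, x, sylowMembers_of_le hX S' hAN, sylowMembers_of_le hX S hBN, hxN, hS'.symm,
            le_inf hDA (hDA.trans hAN), le_inf hDB (hDB.trans hBN)⟩
        · obtain ⟨hFR, hNF⟩ := (hf R' hR'p).1 F hF
          have hF0 := hf1 R' hR'p hR'0 F hF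
          obtain ⟨M', hM', hNM'⟩ := exists_maximalPLocal
            (⟨F, hR'p.to_le hFR, hF0, rfl⟩ : IsPLocal p (Subgroup.normalizer (F : Set G)))
          have hgrow : Nat.card R' < p ^ (Nat.card M').factorization p := by
            have h1 := lt_normalizer_inf Q.2 hlt
            have hle : Subgroup.normalizer (R' : Set G) ⊓ (Q : Subgroup G) ≤ M' :=
              inf_le_left.trans (hNF.trans hNM')
            obtain ⟨W, hW⟩ := ((Q.2.to_le inf_le_right).comap_of_injective M'.subtype M'.subtype_injective :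
              IsPGroup p ((Subgroup.normalizer (R' : Set G) ⊓ (Q : Subgroup G)).comap M'.subtype)).exists_le_sylow
            refine lt_of_lt_of_le (Nat.lt_of_not_ge fun h =>
              h1.ne (Subgroup.eq_of_le_of_card_ge h1.le h)) ?_
            rw [← card_map_sylow W]
            refine Subgroup.card_le_of_le ?_
            rw [← Subgroup.map_subgroupOf_eq_of_le hle]
            exact Subgroup.map_mono hW
          obtain ⟨Q₁, hQ₁⟩ := ((B.2.map M.subtype).comap_of_injective M'.subtype M'.subtype_injective :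
            IsPGroup p (((B : Subgroup M).map M.subtype).comap M'.subtype)).exists_le_sylow
          have hBM' : (B : Subgroup M).map M.subtype ≤ M' := hBN.trans hNM'
          have hBQ₁ : (B : Subgroup M).map M.subtype ≤ (Q₁ : Subgroup M').map M'.subtype := by
            conv_lhs => rw [← Subgroup.map_subgroupOf_eq_of_le hBM']
            exact Subgroup.map_mono hQ₁
          obtain ⟨T₁, hT₁⟩ := (Q₁.2.map M'.subtype).exists_le_sylow
          let xM : M' := ⟨x, hNM' hxN⟩
          obtain ⟨Q₂, hQ₂⟩ : ∃ Q₂ : Sylow p M', (Q₂ : Subgroup M') = subgroupConjRight xM (Q₁ : Subgroup M') :=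
            ⟨xM⁻¹ • Q₁, Sylow.coe_subgroup_smul⟩
          obtain ⟨T₂, hT₂⟩ : ∃ T₂ : Sylow p G, (T₂ : Subgroup G) = subgroupConjRight x (T₁ : Subgroup G) :=
            ⟨x⁻¹ • T₁, Sylow.coe_subgroup_smul⟩
          have hQ₂' : (Q₂ : Subgroup M').map M'.subtype = subgroupConjRight x ((Q₁ : Subgroup M').map M'.subtype) := by
            rw [hQ₂, map_conjRight_subtype]
          have hAQ₂ : (A : Subgroup M).map M.subtype ≤ (Q₂ : Subgroup M').map M'.subtype := by
            rw [hQ₂', ← hc]; exact Subgroup.map_mono hBQ₁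
          have hQT₂ : (Q₂ : Subgroup M').map M'.subtype ≤ T₂ := by
            rw [hQ₂', hT₂]; exact Subgroup.map_mono hT₁
          have hcQ : Nat.card (Q₂ : Subgroup M') = p ^ (Nat.card M').factorization p := Q₂.card_eq_multiplicity
          have hR'c : Nat.card R' = Nat.card (P₁ : Subgroup M) := hcP R
          have hle := Subgroup.card_le_card_group ((Q₂ : Subgroup M').map M'.subtype)
          rw [card_map_sylow] at hle
          refine ((bigP A S' T₂ hDA hAS' (hAQ₂.trans hQT₂)).trans
            (IH' _ (by omega) M' hM' Q₂ Q₁ rfl (by omega) (hDA.trans hAQ₂) (hDB.trans hBQ₁) T₂ T₁ hQT₂ hT₁)).trans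
            (bigP B T₁ S hDB (hBQ₁.trans hT₁) hS)
    · -- a singular maximal local subgroup joins them in one step
      obtain ⟨m, hm⟩ := MulAction.exists_smul_eq M P₂ P₁
      have hm' : (P₂ : Subgroup M) = subgroupConjRight m (P₁ : Subgroup M) := by
        have h1 : P₂ = m⁻¹ • P₁ := by rw [← hm, inv_smul_smul]
        rw [h1]; exact Sylow.coe_subgroup_smul
      obtain ⟨T, hT⟩ : ∃ T : Sylow p G, (T : Subgroup G) = subgroupConjRight (m : G) (S₁ : Subgroup G) :=
        ⟨(m : G)⁻¹ • S₁, Sylow.coe_subgroup_smul⟩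
      have hP2T : (P₂ : Subgroup M).map M.subtype ≤ T := by
        rw [hT, hm', map_conjRight_subtype]; exact Subgroup.map_mono hS1
      have hmem : ∀ (P : Sylow p M) (A : Sylow p G), (P : Subgroup M).map M.subtype ≤ A →
          M ∈ sylowMembers p U (A : Subgroup G) := by
        intro P A hle
        refine ⟨Or.inr ⟨hM, hreg⟩, P, ?_⟩
        have hp : IsPGroup p (((A : Subgroup G) ⊓ M).subgroupOf M) :=
          (A.2.to_le inf_le_left).comap_of_injective M.subtype M.subtype_injective
        have := P.is_maximal' hp (fun y hy => ⟨hle ⟨y, hy, rfl⟩, y.2⟩)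
        rw [← this, Subgroup.map_subgroupOf_eq_of_le inf_le_right]
      refine ReflTransGen.trans (.single ⟨M, (m : G)⁻¹, hmem P₁ S₁ hS1, hmem P₂ T hP2T, inv_mem m.2, ?_,
        le_inf (hD1.trans hS1) (hD1.trans (Subgroup.map_subtype_le _)),
        le_inf (hD2.trans hP2T) (hD2.trans (Subgroup.map_subtype_le _))⟩) (bigP P₂ T S₂ hD2 hP2T hS2)
      rw [hT, conjRight_conjRight, mul_inv_cancel, conjRight_one]
  -- main step
  intro S T hDST
  rcases eq_or_ne S T with rfl | hne
  · exact .refl
  rcases lt_or_eq_of_le hDST with hlt | heq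
  · exact big S T _ (hDST.trans inf_le_left) (hDST.trans inf_le_right) le_rfl
      (Nat.lt_of_not_ge fun h => hlt.ne (Subgroup.eq_of_le_of_card_ge hlt.le h))
  have hDlt : ∀ A B : Sylow p G, A ≠ B → D = (A : Subgroup G) ⊓ B → D < (A : Subgroup G) := by
    intro A B hAB e
    refine lt_of_le_of_ne (e ▸ inf_le_left) (fun e' => hAB ?_)
    refine Sylow.ext (Subgroup.eq_of_le_of_card_ge ?_ (le_of_eq ?_))
    · exact e'.ge.trans (e.le.trans inf_le_right)
    · rw [A.card_eq_multiplicity, B.card_eq_multiplicity]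
  obtain ⟨M, hM, hNM⟩ := exists_maximalPLocal
    (⟨D, S.2.to_le (hDST.trans inf_le_left), hD0, rfl⟩ : IsPLocal p (Subgroup.normalizer (D : Set G)))
  have get : ∀ A : Sylow p G, D < (A : Subgroup G) → ∃ (P : Sylow p M) (A' : Sylow p G),
      D ≤ (P : Subgroup M).map M.subtype ∧ Nat.card D < Nat.card (P : Subgroup M) ∧
      (P : Subgroup M).map M.subtype ≤ A' ∧ ReflTransGen (Step p U D) A A' ∧ ReflTransGen (Step p U D) A' A := by
    intro A hA
    have h1 := lt_normalizer_inf A.2 hA
    have hle : Subgroup.normalizer (D : Set G) ⊓ (A : Subgroup G) ≤ M := inf_le_left.trans hNM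
    obtain ⟨P, hP⟩ := ((A.2.to_le inf_le_right).comap_of_injective M.subtype M.subtype_injective :
      IsPGroup p ((Subgroup.normalizer (D : Set G) ⊓ (A : Subgroup G)).comap M.subtype)).exists_le_sylow
    have hEP : Subgroup.normalizer (D : Set G) ⊓ (A : Subgroup G) ≤ (P : Subgroup M).map M.subtype := by
      rw [← Subgroup.map_subgroupOf_eq_of_le hle]; exact Subgroup.map_mono hP
    obtain ⟨A', hA'⟩ := (P.2.map M.subtype).exists_le_sylow
    have hclt : Nat.card D < Nat.card (Subgroup.normalizer (D : Set G) ⊓ (A : Subgroup G) : Subgroup G) :=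
      Nat.lt_of_not_ge fun h => h1.ne (Subgroup.eq_of_le_of_card_ge h1.le h)
    refine ⟨P, A', h1.le.trans hEP, ?_, hA',
      big A A' _ hA.le (h1.le.trans (hEP.trans hA')) (le_inf inf_le_right (hEP.trans hA')) hclt,
      big A' A _ (h1.le.trans (hEP.trans hA')) hA.le (le_inf (hEP.trans hA') inf_le_right) hclt⟩
    rw [← Subgroup.card_map_of_injective M.subtype_injective (K := (P : Subgroup M))]
    exact hclt.trans_le (Subgroup.card_le_of_le hEP)
  obtain ⟨P₁, S', hD1, hc1, hS', hSS', -⟩ := get S (hDlt S T hne heq)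
  obtain ⟨P₂, T', hD2, -, hT', -, hT'T⟩ := get T (hDlt T S hne.symm (by rw [inf_comm]; exact heq))
  exact (hSS'.trans (claim _ M hM P₁ P₂ rfl hc1 hD1 hD2 S' T' hS' hT')).trans hT'T

end Cfsg.Agent.S2956
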