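import Cfsg.Statements.S2957
import Cfsg.Agent.Lib.LAEven57.SylowConn

set_option autoImplicit false
open Cfsg

namespace Cfsg.Agent.S2957

open Cfsg.Agent.Lib.LAEven57.SylowConn Relation

theorem relIndex_of_mul {G : Type*} [Group G] {H K : Subgroup G} (h : ∀ g : G, ∃ a ∈ H, ∃ b ∈ K, g = a * b) :
    H.relIndex K = H.index := by
  let φ : K ⧸ H.subgroupOf K → G ⧸ H := Quotient.map' (fun k : K => (k : G)) (fun a b hab => by
    rw [QuotientGroup.leftRel_apply] at hab ⊢
    simpa [Subgroup.mem_subgroupOf] using hab)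
  refine Nat.card_congr (Equiv.ofBijective φ ⟨?_, ?_⟩)
  · rintro ⟨a⟩ ⟨b⟩ hab
    refine QuotientGroup.eq.mpr ?_
    simpa [Subgroup.mem_subgroupOf] using QuotientGroup.eq.mp hab
  · rintro ⟨g⟩
    obtain ⟨a, ha, b, hb, e⟩ := h g⁻¹
    refine ⟨QuotientGroup.mk ⟨b⁻¹, inv_mem hb⟩, QuotientGroup.eq.mpr ?_⟩
    have : g = b⁻¹ * a⁻¹ := by rw [← inv_inj, e]; group
    subst this
    simpa using ha

theorem exists_sylow_in_inf {G : Type*} [Group G] [Finite G] {p : ℕ} [Fact p.Prime] {H K D : Subgroup G}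
    (h : ∀ g : G, ∃ a ∈ H, ∃ b ∈ K, g = a * b) (S T : Sylow p G) (hS : (S : Subgroup G) ≤ H)
    (hT : (T : Subgroup G) ≤ K) (hDp : IsPGroup p D) (hD : D ≤ H ⊓ K) :
    ∃ R : Sylow p G, D ≤ R ∧ (R : Subgroup G) ≤ H ⊓ K := by
  have hp : p.Prime := Fact.out
  obtain ⟨R₀, hR₀⟩ := (hDp.comap_of_injective (H ⊓ K).subtype (H ⊓ K).subtype_injective :
    IsPGroup p (D.comap (H ⊓ K).subtype)).exists_le_sylow
  have h1 : (H ⊓ K).index = H.index * K.index := by
    rw [← Subgroup.relIndex_mul_index (inf_le_right : H ⊓ K ≤ K), Subgroup.inf_relIndex_right,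
      relIndex_of_mul h]
  have h2 : ¬ p ∣ ((R₀ : Subgroup (H ⊓ K : Subgroup G)).map (H ⊓ K).subtype).index := by
    rw [Subgroup.index_map_subtype, h1]
    intro hdvd
    rcases hp.dvd_mul.mp hdvd with h3 | h3
    · exact R₀.not_dvd_index h3
    rcases hp.dvd_mul.mp h3 with h4 | h4
    · exact S.not_dvd_index (h4.trans (Subgroup.index_dvd_of_le hS))
    · exact T.not_dvd_index (h4.trans (Subgroup.index_dvd_of_le hT))
  refine ⟨(R₀.2.map _).toSylow h2, ?_, Subgroup.map_subtype_le _⟩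
  rw [← Subgroup.map_subgroupOf_eq_of_le hD]
  exact Subgroup.map_mono hR₀

theorem map_conjRight {G : Type*} [Group G] (g x : G) (X : Subgroup G) :
    (subgroupConjRight x X).map (MulAut.conj g).toMonoidHom =
      subgroupConjRight (g * x * g⁻¹) (X.map (MulAut.conj g).toMonoidHom) := by
  rw [subgroupConjRight, subgroupConjRight, Subgroup.map_map, Subgroup.map_map]
  congr 1
  ext z
  simp [mul_assoc]

theorem mem_normalizer_map {G : Type*} [Group G] (g : G) {x : G} {F : Subgroup G}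
    (hx : x ∈ Subgroup.normalizer (F : Set G)) :
    g * x * g⁻¹ ∈ Subgroup.normalizer ((F.map (MulAut.conj g).toMonoidHom : Subgroup G) : Set G) := by
  rw [Subgroup.mem_normalizer_iff] at hx ⊢
  intro y
  simp only [Subgroup.mem_map_equiv, MulAut.conj_symm_apply]
  rw [hx (g⁻¹ * y * g)]
  simp [mul_assoc]

/-- Two Sylow subgroups of a regular subgroup, conjugated into place, are connected in the whole group. -/
theorem lift {G : Type*} [Group G] [Finite G] {p : ℕ} [Fact p.Prime] {f : Subgroup G → Set (Subgroup G)}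
    (hf : IsNormalizerFunctor p f) (S : Sylow p G) {M : Subgroup G} (hS : (S : Subgroup G) ≤ M)
    (hr : IsFunctorRegular p f M) (g : G) {a b : Sylow p (⊤ : Subgroup G)} {D : Subgroup G} (hD0 : D ≠ ⊥)
    (hDa : D ≤ (a : Subgroup (⊤ : Subgroup G)).map (⊤ : Subgroup G).subtype)
    (hDb : D ≤ (b : Subgroup (⊤ : Subgroup G)).map (⊤ : Subgroup G).subtype)
    (haM : (a : Subgroup (⊤ : Subgroup G)).map (⊤ : Subgroup G).subtype ≤ M.map (MulAut.conj g).toMonoidHom)
    (hbM : (b : Subgroup (⊤ : Subgroup G)).map (⊤ : Subgroup G).subtype ≤ M.map (MulAut.conj g).toMonoidHom) :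
    ReflTransGen (StepM p f ⊤ D) a b := by
  set φ := (MulAut.conj g).toMonoidHom with hφ
  have hinj : Function.Injective φ := (MulAut.conj g).injective
  set t := (⊤ : Subgroup G).subtype with ht
  -- every Sylow subgroup of `M` gives one of the whole group
  have hup : ∀ A : Sylow p M, ∃ A' : Sylow p (⊤ : Subgroup G),
      (A' : Subgroup (⊤ : Subgroup G)).map t = ((A : Subgroup M).map M.subtype).map φ := by
    intro A
    obtain ⟨Q, hQ⟩ := exists_sylow_map S hS A
    refine ⟨(g • Q).subtype le_top, ?_⟩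
    rw [Sylow.coe_subtype, ht, Subgroup.map_subgroupOf_eq_of_le le_top, ← hQ, Sylow.coe_subgroup_smul]
    rfl
  choose up hup using hup
  have hpre : ∀ c : Sylow p (⊤ : Subgroup G), (c : Subgroup (⊤ : Subgroup G)).map t ≤ M.map φ →
      ∃ A : Sylow p M, up A = c := by
    intro c hc
    obtain ⟨A, hA⟩ := (((c.2.map t).comap_of_injective φ hinj).comap_of_injective M.subtype M.subtype_injective :
      IsPGroup p ((((c : Subgroup (⊤ : Subgroup G)).map t).comap φ).comap M.subtype)).exists_le_sylow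
    refine ⟨A, Sylow.ext (c.is_maximal' (up A).2 ?_)⟩
    rw [← Subgroup.map_le_map_iff_of_injective (f := t) (⊤ : Subgroup G).subtype_injective, hup]
    intro y hy
    obtain ⟨m, hm, rfl⟩ := hc hy
    exact ⟨m, ⟨⟨m, hm⟩, hA hy, rfl⟩, rfl⟩
  obtain ⟨A, rfl⟩ := hpre a haM
  obtain ⟨B, rfl⟩ := hpre b hbM
  rw [hup] at hDa hDb
  have hDr : D ≤ φ.range := fun y hy => ⟨(MulAut.conj g).symm y, (MulAut.conj g).apply_symm_apply y⟩
  have hDmap : (D.comap φ).map φ = D := Subgroup.map_comap_eq_self hDr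
  refine ReflTransGen.lift up (fun P Q hs => ?_) _ _ (regular_conn hf hr (A := A) (B := B) (D := D.comap φ) ?_ ?_ ?_)
  · obtain ⟨R, F, x, hF, -, hxN, hP, hQ, hc, hDP, hDQ⟩ := hs
    have hle : ∀ {X : Subgroup G}, X ≤ Subgroup.normalizer (F : Set G) →
        X.map φ ≤ Subgroup.normalizer ((F.map φ : Subgroup G) : Set G) := by
      rintro X hX _ ⟨y, hy, rfl⟩
      exact mem_normalizer_map g (hX hy)
    refine ⟨up R, F.map φ, g * x * g⁻¹, ?_, Subgroup.mem_top _, mem_normalizer_map g hxN, ?_, ?_, ?_, ?_, ?_⟩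
    · rw [hup, (hf _ (R.2.map _)).2 g]
      exact ⟨F, hF, rfl⟩
    · rw [hup]; exact hle hP
    · rw [hup]; exact hle hQ
    · rw [hup, hup, ← map_conjRight, hc]
    · rw [hup, ← hDmap]; exact Subgroup.map_mono hDP
    · rw [hup, ← hDmap]; exact Subgroup.map_mono hDQ
  · intro e
    exact hD0 (by rw [← hDmap, e, Subgroup.map_bot])
  · rw [← Subgroup.map_le_map_iff_of_injective hinj, hDmap]; exact hDa
  · rw [← Subgroup.map_le_map_iff_of_injective hinj, hDmap]; exact hDb

/-- Let p be a prime dividing the order of the finite group G, f an equivariant assignment of a set of subgroups f(P) of P to every p-subgroup P, each normalized by N_G(P), and S a Sylow p-subgroup. If G = G₁G₂ for subgroups G₁, G₂ both containing S and both regular for f (in each Gᵢ, the family of normalizers in Gᵢ of the members of f(P), P a Sylow p-subgroup of Gᵢ, controls Sylow p-intersections), then G itself is regular for f. -/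
theorem result {G : Type*} [Group G] [Finite G] (p : ℕ) [Fact p.Prime] (hdiv : p ∣ Nat.card G)
    (f : Subgroup G → Set (Subgroup G)) (hf : Cfsg.IsNormalizerFunctor p f) (S : Sylow p G)
    (G₁ G₂ : Subgroup G) (h₁ : (S : Subgroup G) ≤ G₁) (h₂ : (S : Subgroup G) ≤ G₂)
    (hprod : ∀ g : G, ∃ g₁ ∈ G₁, ∃ g₂ ∈ G₂, g = g₁ * g₂)
    (hr₁ : Cfsg.IsFunctorRegular p f G₁) (hr₂ : Cfsg.IsFunctorRegular p f G₂) :
    Cfsg.IsFunctorRegular p f ⊤ := by
  refine regular_of_conn (fun a b D hD0 hDa hDb => ?_)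
  obtain ⟨A', hA'⟩ := exists_sylow_map S (le_top : (S : Subgroup G) ≤ ⊤) a
  obtain ⟨B', hB'⟩ := exists_sylow_map S (le_top : (S : Subgroup G) ≤ ⊤) b
  obtain ⟨h, hh⟩ := MulAction.exists_smul_eq G S A'
  obtain ⟨k, hk⟩ := MulAction.exists_smul_eq G S B'
  have hA : (A' : Subgroup G) ≤ G₁.map (MulAut.conj h).toMonoidHom := by
    rw [← hh, Sylow.coe_subgroup_smul]; exact Subgroup.map_mono h₁
  have hB : (B' : Subgroup G) ≤ G₂.map (MulAut.conj k).toMonoidHom := by
    rw [← hk, Sylow.coe_subgroup_smul]; exact Subgroup.map_mono h₂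
  have hmul : ∀ y : G, ∃ u ∈ G₁.map (MulAut.conj h).toMonoidHom,
      ∃ v ∈ G₂.map (MulAut.conj k).toMonoidHom, y = u * v := by
    intro y
    obtain ⟨u, hu, v, hv, e⟩ := hprod (h⁻¹ * k)
    obtain ⟨u', hu', v', hv', e'⟩ := hprod (h⁻¹ * y * k)
    refine ⟨h * (u' * u⁻¹) * h⁻¹, ⟨u' * u⁻¹, mul_mem hu' (inv_mem hu), by simp⟩, k * (v⁻¹ * v') * k⁻¹,
      ⟨v⁻¹ * v', mul_mem (inv_mem hv) hv', by simp⟩, ?_⟩
    rw [show y = h * (u' * v') * k⁻¹ by rw [← e']; group, show k = h * (u * v) by rw [← e]; group]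
    group
  obtain ⟨R, hDR, hR⟩ := exists_sylow_in_inf hmul A' B' hA hB (A'.2.to_le (hDa.trans hA'.ge))
    (le_inf ((hDa.trans hA'.ge).trans hA) ((hDb.trans hB'.ge).trans hB))
  have hr : ((R.subtype le_top : Sylow p (⊤ : Subgroup G)) : Subgroup (⊤ : Subgroup G)).map
      (⊤ : Subgroup G).subtype = (R : Subgroup G) := by
    rw [Sylow.coe_subtype, Subgroup.map_subgroupOf_eq_of_le le_top]
  exact (lift hf S h₁ hr₁ h hD0 hDa (hDR.trans hr.ge) (hA'.ge.trans hA) (hr.le.trans (hR.trans inf_le_left))).trans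
    (lift hf S h₂ hr₂ k hD0 (hDR.trans hr.ge) hDb (hr.le.trans (hR.trans inf_le_right)) (hB'.ge.trans hB))

end Cfsg.Agent.S2957
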