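import Cfsg.Statements.S2958
-- import your own Cfsg.Agent.* helpers here

set_option autoImplicit false
open Cfsg

namespace Cfsg.Agent.S2958

/-- Let X, A, B be subgroups of a group G such that G is generated by the conjugates of X and every conjugate of X is contained in A or in B. Then A = G or B = G. -/
theorem result {G : Type*} [Group G] (X A B : Subgroup G) (hgen : (⨆ g : G, X.map (MulAut.conj g).toMonoidHom) = ⊤) (hcover : ∀ g : G, X.map (MulAut.conj g).toMonoidHom ≤ A ∨ X.map (MulAut.conj g).toMonoidHom ≤ B) : A = ⊤ ∨ B = ⊤ := by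
  let S : Set G := {x | ∃ g : G, ¬ X.map (MulAut.conj g).toMonoidHom ≤ B ∧
    x ∈ X.map (MulAut.conj g).toMonoidHom}
  have hmem : ∀ (g x : G), x ∈ X.map (MulAut.conj g).toMonoidHom ↔ ∃ y ∈ X, g * y * g⁻¹ = x := by
    intro g x; simp [Subgroup.mem_map]
  set A₀ := Subgroup.closure S with hA₀
  have hA₀A : A₀ ≤ A := by
    refine (Subgroup.closure_le A).mpr ?_
    rintro x ⟨g, hg, hx⟩
    exact ((hcover g).resolve_right hg) hx
  -- conjugation by an element of `B` preserves the generators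
  have hBn : ∀ b ∈ B, b ∈ Subgroup.normalizer (A₀ : Set G) := by
    have hstep : ∀ b ∈ B, ∀ x ∈ A₀, b * x * b⁻¹ ∈ A₀ := by
      intro b hb x hx
      have : A₀ ≤ A₀.comap (MulAut.conj b).toMonoidHom := by
        refine (Subgroup.closure_le _).mpr ?_
        rintro y ⟨g, hg, hy⟩
        obtain ⟨z, hz, rfl⟩ := (hmem g y).mp hy
        show b * (g * z * g⁻¹) * b⁻¹ ∈ A₀
        refine Subgroup.subset_closure ⟨b * g, ?_, (hmem _ _).mpr ⟨z, hz, by group⟩⟩
        intro hle
        refine hg fun w hw => ?_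
        obtain ⟨u, hu, rfl⟩ := (hmem g w).mp hw
        have h1 : b * g * u * (b * g)⁻¹ ∈ B := hle ((hmem _ _).mpr ⟨u, hu, rfl⟩)
        have h2 : g * u * g⁻¹ = b⁻¹ * (b * g * u * (b * g)⁻¹) * b := by group
        rw [h2]; exact B.mul_mem (B.mul_mem (B.inv_mem hb) h1) hb
      exact this hx
    intro b hb
    rw [Subgroup.mem_normalizer_iff]
    intro x
    refine ⟨hstep b hb x, fun hx => ?_⟩
    simpa [mul_assoc] using hstep b⁻¹ (B.inv_mem hb) _ hx
  have hX : ∀ g : G, X.map (MulAut.conj g).toMonoidHom ≤ A₀ ∨ X.map (MulAut.conj g).toMonoidHom ≤ B := by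
    intro g
    by_cases hg : X.map (MulAut.conj g).toMonoidHom ≤ B
    · exact Or.inr hg
    · exact Or.inl fun x hx => Subgroup.subset_closure ⟨g, hg, hx⟩
  have hnorm : A₀.Normal := by
    rw [← Subgroup.normalizer_eq_top_iff, eq_top_iff, ← hgen, iSup_le_iff]
    intro g
    rcases hX g with h | h
    · exact h.trans Subgroup.le_normalizer
    · exact fun x hx => hBn x (h hx)
  by_cases hall : ∀ g : G, X.map (MulAut.conj g).toMonoidHom ≤ B
  · right; rw [eq_top_iff, ← hgen]; exact iSup_le hall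
  · left
    push Not at hall
    obtain ⟨g₀, hg₀⟩ := hall
    rw [eq_top_iff, ← hgen]
    refine iSup_le fun g x hx => hA₀A ?_
    obtain ⟨y, hy, rfl⟩ := (hmem g x).mp hx
    have h0 : g₀ * y * g₀⁻¹ ∈ A₀ :=
      Subgroup.subset_closure ⟨g₀, hg₀, (hmem _ _).mpr ⟨y, hy, rfl⟩⟩
    have := hnorm.conj_mem _ h0 (g * g₀⁻¹)
    simpa [mul_assoc] using this

end Cfsg.Agent.S2958
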