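import Cfsg.Statements.S2959
import Cfsg.Agent.Lib.LAEven57.Basic

set_option autoImplicit false
open Cfsg

namespace Cfsg.Agent.S2959

/-- Let G be a finite group of characteristic p, that is C_G(O_p(G)) ≤ O_p(G), with p prime, and let L be a subgroup of G normalized by O_p(G). Then L has characteristic p: C_L(O_p(L)) ≤ O_p(L). -/
theorem result {G : Type*} [Group G] [Finite G] {p : ℕ} [Fact p.Prime] (hG : Subgroup.centralizer (Cfsg.pCore p G : Set G) ≤ Cfsg.pCore p G) (L : Subgroup G) (hL : Cfsg.pCore p G ≤ Subgroup.normalizer (L : Set G)) : Subgroup.centralizer (Cfsg.pCore p ↥L : Set ↥L) ≤ Cfsg.pCore p ↥L := by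
  refine Cfsg.Agent.Lib.LAEven57.le_pCore ?_ ?_
  · haveI : (Cfsg.pCore p ↥L).Normal := Cfsg.pCore_normal p _
    infer_instance
  refine Cfsg.Agent.Lib.LAEven57.isPGroup_of_coprime_eq_one fun x hx hxp => Subtype.ext ?_
  have hPp : IsPGroup p (Cfsg.pCore p G) := Cfsg.Agent.Lib.LAEven57.pCore_isPGroup
  have hxp' : (orderOf (x : G)).Coprime p := by rwa [Subgroup.orderOf_coe]
  have hsub : (Cfsg.pCore p G).subgroupOf L ≤ Cfsg.pCore p ↥L := by
    refine Cfsg.Agent.Lib.LAEven57.le_pCore ((Cfsg.pCore_normal p G).subgroupOf L) ?_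
    exact hPp.comap_subtype
  refine Cfsg.Agent.Lib.LAEven57.eq_one_of_coprime_mem_pGroup hPp hxp' (hG ?_)
  rw [Subgroup.mem_centralizer_iff]
  intro y hy
  have hyN := hL hy
  rw [Subgroup.mem_normalizer_iff] at hyN
  have h1 : (x : G) * y * (x : G)⁻¹ * y⁻¹ ∈ Cfsg.pCore p G :=
    Subgroup.mul_mem _ ((Cfsg.pCore_normal p G).conj_mem y hy _) (Subgroup.inv_mem _ hy)
  have h2 : (x : G) * y * (x : G)⁻¹ * y⁻¹ ∈ L := by
    have h3 : y * (x : G)⁻¹ * y⁻¹ ∈ L := (hyN _).mp (L.inv_mem x.2)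
    have : (x : G) * y * (x : G)⁻¹ * y⁻¹ = (x : G) * (y * (x : G)⁻¹ * y⁻¹) := by group
    rw [this]; exact L.mul_mem x.2 h3
  have h4 := Subgroup.mem_centralizer_iff.mp hx ⟨_, h2⟩ (hsub h1)
  exact (Cfsg.Agent.Lib.LAEven57.commute_of_stab hPp hxp' h1
    (congrArg Subtype.val h4).symm).symm

end Cfsg.Agent.S2959
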