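import Cfsg.Statements.S2963
-- import your own Cfsg.Agent.* helpers here

set_option autoImplicit false
open Cfsg

namespace Cfsg.Agent.S2963

/-- Let n be odd. If the symmetric group of degree n is a minimal parabolic group for the prime 2, that is, a Sylow 2-subgroup is not normal and lies in exactly one maximal subgroup, then n = 2^m + 1 for some natural number m. -/
theorem result (n : ℕ) (hn : Odd n) (h : Cfsg.IsPMinimal 2 (Equiv.Perm (Fin n))) : ∃ m : ℕ, n = 2 ^ m + 1 := by
  classical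
  haveI : Fact (Nat.Prime 2) := ⟨Nat.prime_two⟩
  obtain ⟨T⟩ : Nonempty (Sylow 2 (Equiv.Perm (Fin n))) := inferInstance
  by_contra hcon
  push Not at hcon
  have hn0 : n ≠ 0 := by rintro rfl; exact absurd hn (by decide)
  have hn1 : n ≠ 1 := by
    rintro rfl
    haveI : Subsingleton (Equiv.Perm (Fin 1)) := inferInstance
    exact (h T).1 ⟨fun a ha g => by rw [Subsingleton.elim (g * a * g⁻¹) a]; exact ha⟩
  have hn2 : 2 ≤ n / 2 * 2 := by rcases hn with ⟨k, rfl⟩; omega
  -- a nontrivial binary digit `2 ^ j`, `j ≥ 1`, of `n`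
  obtain ⟨j, hj, hbit⟩ : ∃ j : ℕ, 1 ≤ j ∧ n.testBit j = true := by
    by_contra hb
    push Not at hb
    have : n = 1 := by
      apply Nat.eq_of_testBit_eq
      intro i
      rcases Nat.eq_zero_or_pos i with rfl | hi
      · simp [Nat.testBit_zero, Nat.odd_iff.mp hn]
      · have h1 : Nat.testBit 1 i = false := by
          rw [Nat.testBit_eq_decide_div_mod_eq, Nat.div_eq_of_lt (Nat.one_lt_two_pow (by omega))]; rfl
        rw [h1]
        simpa using hb i hi
    exact hn1 this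
  have hle : 2 ^ j ≤ n := Nat.ge_two_pow_of_testBit hbit
  have hne : n ≠ 2 ^ j + 1 := hcon j
  have hne' : n ≠ 2 ^ j := by
    intro e
    have : Even n := by rw [e]; exact Nat.even_pow.mpr ⟨even_two, by omega⟩
    exact (Nat.not_even_iff_odd.mpr hn) this
  have h2j : 2 ≤ 2 ^ j := by calc 2 = 2 ^ 1 := rfl
    _ ≤ 2 ^ j := Nat.pow_le_pow_right (by norm_num) hj
  -- a fixed point and a fixed `2 ^ j`-set of `T`
  have hTp : IsPGroup 2 ↥(T : Subgroup (Equiv.Perm (Fin n))) := T.isPGroup'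
  obtain ⟨x, hx⟩ := hTp.nonempty_fixed_point_of_prime_not_dvd_card (Fin n) (by
    rw [Nat.card_fin]; exact fun hd => (Nat.not_even_iff_odd.mpr hn) (even_iff_two_dvd.mpr hd))
  let α := {A : Finset (Fin n) // A.card = 2 ^ j}
  letI : MulAction ↥(T : Subgroup (Equiv.Perm (Fin n))) α :=
    { smul := fun t A => ⟨A.1.map (t.1).toEmbedding, by rw [Finset.card_map]; exact A.2⟩
      one_smul := fun A => Subtype.ext (by
        show A.1.map ((1 : ↥(T : Subgroup (Equiv.Perm (Fin n)))) : Equiv.Perm (Fin n)).toEmbedding = A.1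
        ext y; simp [Equiv.Perm.one_def])
      mul_smul := fun a b A => Subtype.ext (by
        show A.1.map _ = (A.1.map _).map _
        rw [Finset.map_map]; congr 1) }
  have hα : ¬ 2 ∣ Nat.card α := by
    have hc : Nat.card α = n.choose (2 ^ j) := by
      rw [Nat.card_eq_fintype_card, Fintype.card_finset_len, Fintype.card_fin]
    rw [hc]
    intro hd
    have hl := Choose.choose_modEq_prod_range_choose_nat (p := 2) (n := n) (k := 2 ^ j) (a := n + 1)
      (Nat.lt_pow_succ_log_self (by norm_num) n |>.trans_le (Nat.pow_le_pow_right (by norm_num) (Nat.succ_le_succ (Nat.log_le_self 2 n))))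
      ((hle.trans_lt (Nat.lt_two_pow_self)).trans_le (Nat.pow_le_pow_right (by norm_num) (Nat.le_succ n)))
    have hprod : (∏ i ∈ Finset.range (n + 1), Nat.choose (n / 2 ^ i % 2) (2 ^ j / 2 ^ i % 2)) = 1 := by
      refine Finset.prod_eq_one fun i _ => ?_
      rcases eq_or_ne i j with rfl | hij
      · rw [Nat.div_self (by positivity)]
        rw [Nat.testBit_eq_decide_div_mod_eq, decide_eq_true_eq] at hbit
        rw [hbit]; rfl
      · have : 2 ^ j / 2 ^ i % 2 = 0 := by
          have h0 : Nat.testBit (2 ^ j) i = false := by rw [Nat.testBit_two_pow]; simp [hij.symm]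
          rw [Nat.testBit_eq_decide_div_mod_eq, decide_eq_false_iff_not] at h0
          omega
        rw [this, Nat.choose_zero_right]
    rw [hprod] at hl
    have := Nat.ModEq.trans (Nat.modEq_zero_iff_dvd.mpr hd).symm hl
    exact absurd this (by decide)
  obtain ⟨A, hA⟩ := hTp.nonempty_fixed_point_of_prime_not_dvd_card α hα
  set S₁ := MulAction.stabilizer (Equiv.Perm (Fin n)) x with hS₁
  let S₂ : Subgroup (Equiv.Perm (Fin n)) :=
    { carrier := {g | ∀ y, g y ∈ A.1 ↔ y ∈ A.1}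
      one_mem' := fun y => Iff.rfl
      mul_mem' := fun {a b} ha hb y => by rw [Equiv.Perm.mul_apply, ha, hb]
      inv_mem' := fun {a} ha y => by rw [← ha (a⁻¹ y)]; simp }
  have hT1 : (T : Subgroup (Equiv.Perm (Fin n))) ≤ S₁ := fun t ht => hx ⟨t, ht⟩
  have hT2 : (T : Subgroup (Equiv.Perm (Fin n))) ≤ S₂ := by
    intro t ht y
    have hmap : A.1.map t.toEmbedding = A.1 := congrArg Subtype.val (hA ⟨t, ht⟩)
    constructor
    · intro hy
      rw [← hmap, Finset.mem_map] at hy
      obtain ⟨z, hz, hzy⟩ := hy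
      rwa [← t.injective hzy]
    · intro hy
      rw [← hmap]
      exact Finset.mem_map.mpr ⟨y, hy, rfl⟩
  obtain ⟨M, ⟨hM, hTM⟩, huniq⟩ := (h T).2
  -- both stabilizers are proper, so lie in `M`
  have hproper : ∀ S : Subgroup (Equiv.Perm (Fin n)), (T : Subgroup (Equiv.Perm (Fin n))) ≤ S → S ≠ ⊤ → S ≤ M := by
    intro S hTS hS
    obtain ⟨M', hM', hSM'⟩ := (eq_top_or_exists_le_coatom S).resolve_left hS
    rw [← huniq M' ⟨hM', hTS.trans hSM'⟩]; exact hSM'
  obtain ⟨a, ha, b, hb, hab⟩ : ∃ a ∈ A.1, ∃ b ∈ A.1, a ≠ b := Finset.one_lt_card.mp (by rw [A.2]; omega)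
  obtain ⟨u, hu, w, hw, huw⟩ : ∃ u ∈ A.1ᶜ, ∃ w ∈ A.1ᶜ, u ≠ w := Finset.one_lt_card.mp (by
    rw [Finset.card_compl, A.2, Fintype.card_fin]; omega)
  rw [Finset.mem_compl] at hu hw
  obtain ⟨y, hy⟩ : ∃ y : Fin n, y ≠ x := by
    by_cases h1 : a = x
    · exact ⟨b, fun e => hab (h1.trans e.symm)⟩
    · exact ⟨a, h1⟩
  have h1 : S₁ ≤ M := hproper S₁ hT1 fun e => hy (by
    have : Equiv.swap x y x = x := (e ▸ trivial : Equiv.swap x y ∈ S₁)
    simpa using this)
  have h2 : S₂ ≤ M := hproper S₂ hT2 fun e => hu (by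
    have : Equiv.swap a u ∈ S₂ := e ▸ trivial
    simpa using (this a).mpr ha)
  obtain ⟨g, hgM, hgx⟩ : ∃ g ∈ M, g x ≠ x := by
    by_cases hxA : x ∈ A.1
    · obtain ⟨z, hz, hzx⟩ : ∃ z ∈ A.1, z ≠ x := by
        by_cases h1 : a = x
        · exact ⟨b, hb, fun e => hab (h1.trans e.symm)⟩
        · exact ⟨a, ha, h1⟩
      refine ⟨Equiv.swap x z, h2 fun t => ?_, by simpa using hzx⟩
      rw [Equiv.swap_apply_def]; split_ifs with e1 e2 <;> simp_all
    · obtain ⟨z, hz, hzx⟩ : ∃ z, z ∉ A.1 ∧ z ≠ x := by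
        by_cases h1 : u = x
        · exact ⟨w, hw, fun e => huw (h1.trans e.symm)⟩
        · exact ⟨u, hu, h1⟩
      refine ⟨Equiv.swap x z, h2 fun t => ?_, by simpa using hzx⟩
      rw [Equiv.swap_apply_def]; split_ifs with e1 e2 <;> simp_all
  apply hM.1
  rw [eq_top_iff]
  intro f _
  by_cases hf : f x = x
  · exact h1 hf
  · -- the point stabilizer is transitive on the other points
    have hs : Equiv.swap (g x) (f x) ∈ M := h1 (by
      show Equiv.swap (g x) (f x) x = x
      exact Equiv.swap_apply_of_ne_of_ne (Ne.symm hgx) (Ne.symm hf))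
    have hk : (Equiv.swap (g x) (f x) * g)⁻¹ * f ∈ S₁ := by
      show ((Equiv.swap (g x) (f x) * g)⁻¹ * f) x = x
      rw [Equiv.Perm.mul_apply, Equiv.Perm.inv_eq_iff_eq, Equiv.Perm.mul_apply, Equiv.swap_apply_left]
    have e : f = Equiv.swap (g x) (f x) * g * ((Equiv.swap (g x) (f x) * g)⁻¹ * f) := by group
    rw [e]
    exact M.mul_mem (M.mul_mem hs hgM) (h1 hk)

end Cfsg.Agent.S2963
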