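import Cfsg.Statements.S2968
import Cfsg.Agent.Lib.LAEven57.Isolated

set_option autoImplicit false
open Cfsg

namespace Cfsg.Agent.S2968

/-- Let G be a finite group, p a prime, P a Sylow p-subgroup of G and x ∈ P an element of p-power order which is isolated in G (the only conjugate of x commuting with x is x itself). Then x lies in the centre of P, and the subgroup generated by x is both strongly closed and weakly closed in P with respect to G. -/
theorem result {G : Type*} [Group G] [Finite G] {p : ℕ} [Fact p.Prime] (P : Sylow p G) (x : G) (hxP : x ∈ (P : Subgroup G)) (hx : ∃ k : ℕ, orderOf x = p ^ k) (hiso : Cfsg.IsIsolated x) : x ∈ (P : Subgroup G) ⊓ Subgroup.centralizer ((P : Subgroup G) : Set G) ∧ Cfsg.IsStronglyClosed (Subgroup.zpowers x) (P : Subgroup G) ∧ Cfsg.IsWeaklyClosed (Subgroup.zpowers x) (P : Subgroup G) := by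
  open Cfsg.Agent.Lib.LAEven57 in
  have hc : ∀ y ∈ (P : Subgroup G), x * y = y * x :=
    fun y hy => commute_of_mem_pGroup hiso P.isPGroup' hxP hy
  refine ⟨⟨hxP, ?_⟩, ⟨Subgroup.zpowers_le.mpr hxP, ?_⟩, ⟨Subgroup.zpowers_le.mpr hxP, ?_⟩⟩
  · show x ∈ Subgroup.centralizer ((P : Subgroup G) : Set G)
    rw [Subgroup.mem_centralizer_iff]
    exact fun y hy => (hc y hy).symm
  · intro z hz g hg
    obtain ⟨i, rfl⟩ := hz
    set y := g * x ^ i * g⁻¹ with hy
    have hxy : Commute x y := hc y hg
    have hxC : x ∈ Subgroup.centralizer ({y} : Set G) :=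
      Subgroup.mem_centralizer_singleton_iff.mpr hxy.eq
    have hgC : g * x * g⁻¹ ∈ Subgroup.centralizer ({y} : Set G) := by
      rw [Subgroup.mem_centralizer_singleton_iff]
      have h0 : Commute x (x ^ i) := (Commute.refl x).zpow_right i
      exact (h0.map (MulAut.conj g).toMonoidHom).eq
    obtain ⟨h, hh, he⟩ := Cfsg.Agent.Lib.LAEven57.exists_conj_eq hx hiso hxC hgC
    rw [Subgroup.mem_centralizer_singleton_iff] at hh
    refine ⟨i, ?_⟩
    calc x ^ i = (h * (g * x * g⁻¹) * h⁻¹) ^ i := by rw [he]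
      _ = h * y * h⁻¹ := by rw [hy, ← conj_zpow, ← conj_zpow]
      _ = y := by rw [hh, mul_inv_cancel_right]
  · intro g hg
    have h1 : g * x * g⁻¹ ∈ (P : Subgroup G) := hg ⟨x, Subgroup.mem_zpowers x, rfl⟩
    rw [MonoidHom.map_zpowers]
    show Subgroup.zpowers (g * x * g⁻¹) = Subgroup.zpowers x
    rw [Cfsg.Agent.Lib.LAEven57.conj_eq_of_mem_pGroup hiso P.isPGroup' hxP h1]

end Cfsg.Agent.S2968
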