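import Cfsg.Statements.S2971
import Cfsg.Agent.Lib.LAEven57.Isolated
import Cfsg.Agent.Lib.LAEven57.RankOne

set_option autoImplicit false
open Cfsg

namespace Cfsg.Agent.S2971

/-- Let G be a finite group and p an odd prime such that G has p-rank at most 1 (no elementary abelian subgroup of order p²). If x ∈ G is an isolated element of order p, then x is central modulo the largest normal subgroup of G of order prime to p. -/
theorem result {G : Type*} [Group G] [Finite G] {p : ℕ} [Fact p.Prime] (hp : p ≠ 2) (hrk : Cfsg.PRankLE p 1 G) (x : G) (hx : orderOf x = p) (hiso : Cfsg.IsIsolated x) : Cfsg.InZStar p x := by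
  have hx' : ∃ k : ℕ, orderOf x = p ^ k := ⟨1, by rw [hx, pow_one]⟩
  have hx1 : x ≠ 1 := fun e => (Fact.out : p.Prime).ne_one (by rw [← hx, e, orderOf_one])
  obtain ⟨P, hP⟩ := (Cfsg.Agent.Lib.LAEven57.zpowers_isPGroup hx').exists_le_sylow
  have hxP : x ∈ (P : Subgroup G) := hP (Subgroup.mem_zpowers x)
  have hcyc : IsCyclic ↥(P : Subgroup G) := by
    refine Cfsg.Agent.Lib.LAEven57.isCyclic_of_rank_one hp _ rfl P.isPGroup' ?_
    intro a b ha hb ha1 hab
    let A : Subgroup G := Subgroup.closure {(a : G), (b : G)}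
    have hAc : IsMulCommutative ↥A := by
      refine Subgroup.isMulCommutative_closure ?_
      intro u hu v hv
      simp only [Set.mem_insert_iff, Set.mem_singleton_iff] at hu hv
      have hab' : Commute (a : G) (b : G) := hab.map (P : Subgroup G).subtype
      rcases hu with rfl | rfl <;> rcases hv with rfl | rfl
      · rfl
      · exact hab'.eq
      · exact hab'.symm.eq
      · rfl
    have hexp : ∀ u ∈ A, u ^ p = 1 := by
      intro u hu
      induction hu using Subgroup.closure_induction with
      | mem u hu =>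
        simp only [Set.mem_insert_iff, Set.mem_singleton_iff] at hu
        rcases hu with rfl | rfl
        · exact_mod_cast congrArg Subtype.val ha
        · exact_mod_cast congrArg Subtype.val hb
      | one => exact one_pow p
      | mul u v hu hv ihu ihv =>
        have hc : Commute u v := congrArg Subtype.val (mul_comm' (⟨u, hu⟩ : ↥A) ⟨v, hv⟩)
        rw [hc.mul_pow, ihu, ihv, one_mul]
      | inv u hu ihu => rw [inv_pow, ihu, inv_one]
    have hcard := hrk A hAc hexp
    have hle : Subgroup.zpowers (a : G) ≤ A :=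
      Subgroup.zpowers_le.mpr (Subgroup.subset_closure (by simp))
    have hoa : orderOf (a : G) = p := by
      rw [Subgroup.orderOf_coe]
      exact orderOf_eq_prime ha ha1
    have heq : Subgroup.zpowers (a : G) = A :=
      Subgroup.eq_of_le_of_card_ge hle (by simpa [Nat.card_zpowers, hoa] using hcard)
    obtain ⟨i, hi⟩ : (b : G) ∈ Subgroup.zpowers (a : G) := heq ▸ Subgroup.subset_closure (by simp)
    exact ⟨i, Subtype.ext (by simpa using hi)⟩
  obtain ⟨N, hNn, hN⟩ :=
    Cfsg.Agent.Lib.LAEven57.exists_normalPComplement_of_cyclic hiso hx1 P hxP hcyc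
  have hcop : (Nat.card N).Coprime p := by
    rw [← hN.index_eq_card]
    exact ((Fact.out : p.Prime).coprime_iff_not_dvd.mpr P.not_dvd_index).symm
  have hle : N ≤ Cfsg.pPrimeCore p G := le_sSup ⟨hNn, hcop⟩
  intro g
  refine hle ?_
  obtain ⟨⟨n, a⟩, hna, -⟩ := hN.existsUnique g
  have hna' : (n : G) * (a : G) = g := hna
  have hc : Commute x (a : G) := Cfsg.Agent.Lib.LAEven57.commute_of_mem_pGroup hiso P.isPGroup' hxP a.2
  have e : g * x * g⁻¹ * x⁻¹ = (n : G) * (x * (n : G)⁻¹ * x⁻¹) := by
    rw [← hna']
    calc (n : G) * a * x * ((n : G) * a)⁻¹ * x⁻¹ = (n : G) * ((a : G) * x) * (a : G)⁻¹ * (n : G)⁻¹ * x⁻¹ := by group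
      _ = _ := by rw [← hc.eq]; group
  rw [e]
  exact N.mul_mem n.2 (hNn.conj_mem _ (N.inv_mem n.2) x)

end Cfsg.Agent.S2971
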