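import Cfsg.Statements.S2998
import Cfsg.Agent.Lib.LAEven57.Isolated

set_option autoImplicit false
open Cfsg

namespace Cfsg.Agent.S2998

/-- Let G be a finite group, p a prime, P a Sylow p-subgroup of G and x ∈ P an element such that N_G(R) ≤ C_G(x) for every nontrivial subgroup R of P. Then P ≤ C_G(x); every G-conjugate of x lying in P equals x (so g ∈ C_G(x) whenever g x g⁻¹ ∈ P); and for every normal subgroup N of G, the image of x in G ⧸ N has the same property with respect to the image of P: the normalizer of every nontrivial subgroup of the image of P centralizes the image of x. -/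
theorem result {G : Type*} [Group G] [Finite G] {p : ℕ} [Fact p.Prime] (P : Sylow p G) (x : G) (hxP : x ∈ (P : Subgroup G)) (hlc : ∀ R : Subgroup G, R ≤ (P : Subgroup G) → R ≠ ⊥ → Subgroup.normalizer (R : Set G) ≤ Subgroup.centralizer ({x} : Set G)) : (P : Subgroup G) ≤ Subgroup.centralizer ({x} : Set G) ∧ (∀ g : G, g * x * g⁻¹ ∈ (P : Subgroup G) → g * x * g⁻¹ = x) ∧ ∀ (N : Subgroup G) [N.Normal], ∀ R : Subgroup (G ⧸ N), R ≤ (P : Subgroup G).map (QuotientGroup.mk' N) → R ≠ ⊥ → Subgroup.normalizer (R : Set (G ⧸ N)) ≤ Subgroup.centralizer ({(QuotientGroup.mk x : G ⧸ N)} : Set (G ⧸ N)) := by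
  have hPc : (P : Subgroup G) ≤ Subgroup.centralizer ({x} : Set G) := by
    intro y hy
    rcases eq_or_ne (P : Subgroup G) ⊥ with h | h
    · rw [h, Subgroup.mem_bot] at hy; subst hy; exact Subgroup.one_mem _
    · exact hlc P le_rfl h (Subgroup.le_normalizer hy)
  refine ⟨hPc, fun g hg => ?_, ?_⟩
  · rcases eq_or_ne x 1 with h | h
    · subst h; simp
    · have hne : Subgroup.zpowers x ≠ ⊥ := Subgroup.zpowers_ne_bot.mpr h
      have hne' : Subgroup.zpowers (g * x * g⁻¹) ≠ ⊥ :=
        Subgroup.zpowers_ne_bot.mpr (fun e => h (by simpa [mul_inv_eq_one] using e))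
      -- `P` and `g⁻¹ P g` are Sylow subgroups of the centralizer of `x`
      set C := Subgroup.centralizer ({x} : Set G) with hC
      have hQC : ((g⁻¹ • P : Sylow p G) : Subgroup G) ≤ C := by
        intro z hz
        rw [Sylow.coe_subgroup_smul, Subgroup.mem_pointwise_smul_iff_inv_smul_mem] at hz
        have h1 : g * z * g⁻¹ ∈ (P : Subgroup G) := by simpa using hz
        have h2 := Subgroup.mem_centralizer_singleton_iff.mp (hPc h1)
        rw [hC, Subgroup.mem_centralizer_singleton_iff]
        have h3 : g * x * g⁻¹ * x = x * (g * x * g⁻¹) := Subgroup.mem_centralizer_singleton_iff.mp (hPc hg)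
        -- the normalizer of the conjugate inside `P` centralizes `x`
        have h4 : ∀ w ∈ (P : Subgroup G), w * (g * x * g⁻¹) = (g * x * g⁻¹) * w →
            w * x = x * w := fun w hw _ => Subgroup.mem_centralizer_singleton_iff.mp (hPc hw)
        have h5 : ∀ w, w * (g * x * g⁻¹) = (g * x * g⁻¹) * w → w * x = x * w := by
          intro w hw
          refine Subgroup.mem_centralizer_singleton_iff.mp (hlc _ (Subgroup.zpowers_le.mpr hg) hne' ?_)
          rw [Subgroup.mem_normalizer_iff]
          intro a
          constructor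
          · rintro ⟨i, rfl⟩
            exact ⟨i, by show (g * x * g⁻¹) ^ i = _; rw [(Commute.zpow_right hw i).eq, mul_inv_cancel_right]⟩
          · rintro ⟨i, hi⟩
            have hi' : (g * x * g⁻¹) ^ i = w * a * w⁻¹ := hi
            refine ⟨i, ?_⟩
            show (g * x * g⁻¹) ^ i = a
            calc (g * x * g⁻¹) ^ i = w⁻¹ * ((g * x * g⁻¹) ^ i * w) := by
                  rw [← (Commute.zpow_right hw i).eq]; group
              _ = a := by rw [hi']; group
        -- `g x g⁻¹` has the same centralizer as `x`
        have h6 : Subgroup.centralizer ({g * x * g⁻¹} : Set G) = C := by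
          refine Subgroup.eq_of_le_of_card_ge (fun w hw => ?_) ?_
          · rw [hC, Subgroup.mem_centralizer_singleton_iff]
            exact h5 w (Subgroup.mem_centralizer_singleton_iff.mp hw)
          · refine le_of_eq ?_
            have he : (C.map (MulAut.conj g).toMonoidHom) = Subgroup.centralizer ({g * x * g⁻¹} : Set G) := by
              ext w
              simp only [hC, Subgroup.mem_map, Subgroup.mem_centralizer_singleton_iff]
              constructor
              · rintro ⟨u, hu, rfl⟩
                show g * u * g⁻¹ * (g * x * g⁻¹) = g * x * g⁻¹ * (g * u * g⁻¹)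
                calc _ = g * (u * x) * g⁻¹ := by group
                  _ = g * (x * u) * g⁻¹ := by rw [hu]
                  _ = _ := by group
              · intro hw
                refine ⟨g⁻¹ * w * g, ?_, ?_⟩
                · calc g⁻¹ * w * g * x = g⁻¹ * (w * (g * x * g⁻¹)) * g := by group
                    _ = g⁻¹ * ((g * x * g⁻¹) * w) * g := by rw [hw]
                    _ = x * (g⁻¹ * w * g) := by group
                · show g * (g⁻¹ * w * g) * g⁻¹ = w
                  group
            rw [← he, Subgroup.card_map_of_injective (MulAut.conj g).injective]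
        have h7 : g * z * g⁻¹ ∈ Subgroup.centralizer ({g * x * g⁻¹} : Set G) := h6 ▸ hPc h1
        rw [Subgroup.mem_centralizer_singleton_iff] at h7
        calc z * x = g⁻¹ * ((g * z * g⁻¹) * (g * x * g⁻¹)) * g := by group
          _ = g⁻¹ * ((g * x * g⁻¹) * (g * z * g⁻¹)) * g := by rw [h7]
          _ = x * z := by group
      obtain ⟨c, hc⟩ := MulAction.exists_smul_eq ↥C ((g⁻¹ • P).subtype hQC) (P.subtype hPc)
      have hc2 : ((c : G) * g⁻¹) • P = P := by
        rw [Sylow.smul_subtype] at hc
        rw [mul_smul]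
        exact Sylow.subtype_injective hc
      have hn := Sylow.smul_eq_iff_mem_normalizer.mp hc2
      have hne2 : (P : Subgroup G) ≠ ⊥ := fun e => h (by rw [e, Subgroup.mem_bot] at hxP; exact hxP)
      have h8 := Subgroup.mem_centralizer_singleton_iff.mp (hlc P le_rfl hne2 hn)
      have h9 := Subgroup.mem_centralizer_singleton_iff.mp c.2
      have h10 : Commute g⁻¹ x := by
        have e : g⁻¹ = (c : G)⁻¹ * ((c : G) * g⁻¹) := by group
        rw [e]; exact (Commute.inv_left h9).mul_left h8
      rw [h10.inv_left.eq |> fun e => (by simpa using e : g * x = x * g), mul_inv_cancel_right]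
  · intro N hN R hR hR1 gb hgb
    induction gb using QuotientGroup.induction_on with
    | H g =>
      set π := QuotientGroup.mk' N with hπ
      let R' : Subgroup G := R.comap π
      let P₀ : Subgroup G := (P : Subgroup G) ⊓ R'
      have hNR : N ≤ R' := fun n hn => by
        show π n ∈ R
        rw [show π n = 1 from (QuotientGroup.eq_one_iff n).mpr hn]; exact R.one_mem
      have hdec : ∀ r ∈ R', ∃ a ∈ P₀, a⁻¹ * r ∈ N := by
        intro r hr
        obtain ⟨a, ha, hae⟩ := hR hr
        refine ⟨a, ⟨ha, ?_⟩, QuotientGroup.eq.mp hae⟩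
        show π a ∈ R
        rw [hae]; exact hr
      have hP₀1 : P₀ ≠ ⊥ := by
        intro e
        apply hR1
        rw [eq_bot_iff]
        intro r hr
        obtain ⟨r', rfl⟩ := QuotientGroup.mk'_surjective N r
        obtain ⟨a, ha, han⟩ := hdec r' hr
        rw [e, Subgroup.mem_bot] at ha
        subst ha
        rw [Subgroup.mem_bot]
        exact (QuotientGroup.eq_one_iff r').mpr (by simpa using han)
      -- `P₀` is a Sylow subgroup of `R'`
      have hP₀p : IsPGroup p P₀ := P.isPGroup'.to_le inf_le_left
      have hidx : ¬ p ∣ P₀.relIndex R' := by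
        intro hd
        have key : ∀ A : Subgroup G, A.relIndex (A ⊔ N) = A.relIndex N := by
          intro A
          have e1 : A.relIndex (N ⊓ (A ⊔ N)) * N.relIndex (A ⊔ N) = (A ⊓ N).relIndex (A ⊔ N) :=
            Subgroup.relIndex_inf_mul_relIndex ..
          have e2 : N.relIndex (A ⊓ (A ⊔ N)) * A.relIndex (A ⊔ N) = (N ⊓ A).relIndex (A ⊔ N) :=
            Subgroup.relIndex_inf_mul_relIndex ..
          rw [Subgroup.relIndex_sup_right, inf_eq_left.mpr (le_sup_right : N ≤ A ⊔ N)] at e1
          rw [inf_eq_left.mpr (le_sup_left : A ≤ A ⊔ N), inf_comm N A, ← e1, mul_comm (A.relIndex N)] at e2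
          exact Nat.eq_of_mul_eq_mul_left (Nat.pos_of_ne_zero Subgroup.index_ne_zero_of_finite) e2
        have h1 : P₀.relIndex R' ∣ (P : Subgroup G).index := by
          have hRe : R' = P₀ ⊔ N := by
            refine le_antisymm (fun r hr => ?_) (sup_le inf_le_right hNR)
            obtain ⟨a, ha, han⟩ := hdec r hr
            have : r = a * (a⁻¹ * r) := by group
            rw [this]; exact Subgroup.mul_mem_sup ha han
          rw [hRe, key P₀]
          have h0 : P₀.relIndex N = (P : Subgroup G).relIndex N := by
            rw [← Subgroup.inf_relIndex_right, ← Subgroup.inf_relIndex_right (P : Subgroup G) N]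
            congr 1
            simp only [P₀, inf_assoc, inf_eq_right.mpr hNR]
          rw [h0, ← key]
          exact Subgroup.relIndex_dvd_index_of_le le_sup_left
        exact P.not_dvd_index (hd.trans h1)
      have hgn : ∀ r, r ∈ R' ↔ g * r * g⁻¹ ∈ R' := by
        intro r
        have h1 := Subgroup.mem_normalizer_iff.mp hgb (π r)
        show π r ∈ R ↔ π (g * r * g⁻¹) ∈ R
        rw [map_mul, map_mul, map_inv]
        exact h1
      let S₀ : Sylow p ↥R' := (hP₀p.comap_subtype : IsPGroup p (P₀.subgroupOf R')).toSylow hidx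
      have hP₁ : (P₀.map (MulAut.conj g).toMonoidHom) ≤ R' := by
        rintro _ ⟨a, ha, rfl⟩; exact (hgn a).mp ha.2
      obtain ⟨S₁, hS₁⟩ : ∃ S₁ : Sylow p ↥R', (P₀.map (MulAut.conj g).toMonoidHom).subgroupOf R' ≤ S₁ :=
        ((hP₀p.map _).comap_subtype : IsPGroup p ((P₀.map (MulAut.conj g).toMonoidHom).subgroupOf R')).exists_le_sylow
      obtain ⟨r, hr⟩ := MulAction.exists_smul_eq ↥R' S₁ S₀
      have hmem : ∀ a ∈ P₀, ((r : G) * g) * a * ((r : G) * g)⁻¹ ∈ P₀ := by
        intro a ha
        have h1 : (⟨g * a * g⁻¹, (hgn a).mp ha.2⟩ : ↥R') ∈ S₁ := hS₁ ⟨a, ha, rfl⟩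
        have h2 : r * ⟨g * a * g⁻¹, (hgn a).mp ha.2⟩ * r⁻¹ ∈ S₀ := by
          rw [← hr]; exact Subgroup.smul_mem_pointwise_smul _ (MulAut.conj r) _ h1
        have h3 : (r * ⟨g * a * g⁻¹, (hgn a).mp ha.2⟩ * r⁻¹ : ↥R') ∈ P₀.subgroupOf R' := h2
        rw [Subgroup.mem_subgroupOf] at h3
        simpa [mul_assoc] using h3
      have hnorm : (r : G) * g ∈ Subgroup.normalizer (P₀ : Set G) :=
        Subgroup.mem_normalizer_fintype (S := (P₀ : Set G)) hmem
      have hc := Subgroup.mem_centralizer_singleton_iff.mp (hlc P₀ inf_le_left hP₀1 hnorm)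
      obtain ⟨a, ha, han⟩ := hdec r r.2
      have hca := Subgroup.mem_centralizer_singleton_iff.mp (hPc ha.1)
      have hra : π (r : G) = π a := (QuotientGroup.eq.mpr han).symm
      rw [Subgroup.mem_centralizer_singleton_iff]
      show π g * π x = π x * π g
      have hr' : Commute (π (r : G)) (π x) := by
        rw [hra]; show π a * π x = π x * π a
        rw [← map_mul, hca, map_mul]
      have hrg : Commute (π ((r : G) * g)) (π x) := by
        show π ((r : G) * g) * π x = π x * π ((r : G) * g)
        rw [← map_mul, hc, map_mul]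
      have e : π g = (π (r : G))⁻¹ * π ((r : G) * g) := by rw [map_mul]; group
      rw [e]; exact (hr'.inv_left.mul_left hrg).eq

end Cfsg.Agent.S2998
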