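import Cfsg.Statements.S2999
import Cfsg.Agent.Lib.RankOneFF.PMinimal
import Cfsg.Agent.Lib.PLocal.Replacement

set_option autoImplicit false
open Cfsg

namespace Cfsg.Agent.S2999

open Cfsg.Agent.Lib
open scoped commutatorElement Matrix

section

variable {G : Type*} [Group G] {V P : Subgroup G}

/-- Conjugation on `Additive V`. -/
def conjActionP (hPV : P ≤ Subgroup.normalizer (V : Set G)) :
    DistribMulAction P (Additive V) where
  smul h v := Additive.ofMul (Subgroup.normalizerMonoidHom V ⟨h, hPV h.2⟩ v.toMul)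
  one_smul v := by
    show Additive.ofMul (Subgroup.normalizerMonoidHom V 1 v.toMul) = v
    rw [map_one]
    rfl
  mul_smul h k v := by
    show Additive.ofMul (Subgroup.normalizerMonoidHom V (⟨h, hPV h.2⟩ * ⟨k, hPV k.2⟩) v.toMul) =
      Additive.ofMul (Subgroup.normalizerMonoidHom V ⟨h, hPV h.2⟩
        (Subgroup.normalizerMonoidHom V ⟨k, hPV k.2⟩ v.toMul))
    rw [map_mul]
    rfl
  smul_zero h := congrArg Additive.ofMul (map_one _)
  smul_add h u v := congrArg Additive.ofMul (map_mul _ _ _)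

end

/-- Let p be a prime and let P and V be subgroups of a finite group with V elementary abelian, P normalizing V and acting faithfully on it (P ∩ C(V) = 1). Suppose P is p-minimal (a Sylow p-subgroup T of P is not normal and lies in a unique maximal subgroup M of P) and A ≤ T is an elementary abelian subgroup such that: |V/C_V(A)| ≤ |A| while |A₀|·|C_V(A₀)| < |A|·|C_V(A)| for every nontrivial proper subgroup A₀ of A; [C_V(T), P] ≠ 1; and P = ⟨A, xAx⁻¹⟩ for every x ∈ P outside M. Then, with q = |A|, there is a field F with q elements such that P ≅ SL₂(F), C_V(A) = [V, A]·C_V(P), and P acts on V/C_V(P) as SL₂(F) on its natural two-dimensional module. -/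
theorem result {G : Type*} [Group G] [Finite G] {p : ℕ} [Fact p.Prime] (V P : Subgroup G) (hV : Cfsg.IsElementaryAbelian p V) (hPV : P ≤ Subgroup.normalizer (V : Set G)) (hfaith : P ⊓ Subgroup.centralizer (V : Set G) = ⊥) (hmin : Cfsg.IsPMinimal p ↥P) (T : Sylow p ↥P) (M : Subgroup ↥P) (hM : IsCoatom M) (hTM : (T : Subgroup ↥P) ≤ M) (A : Subgroup G) (hAT : A ≤ ((T : Subgroup ↥P).map P.subtype)) (hAel : Cfsg.IsElementaryAbelian p A) (hi : Nat.card ↥V ≤ Nat.card ↥A * Nat.card ↥(V ⊓ Subgroup.centralizer ((A : Subgroup G) : Set G)) ∧ ∀ A₀ : Subgroup G, A₀ ≤ A → A₀ ≠ ⊥ → A₀ ≠ A → Nat.card ↥A₀ * Nat.card ↥(V ⊓ Subgroup.centralizer ((A₀ : Subgroup G) : Set G)) < Nat.card ↥A * Nat.card ↥(V ⊓ Subgroup.centralizer ((A : Subgroup G) : Set G))) (hii : ⁅(V ⊓ Subgroup.centralizer ((((T : Subgroup ↥P).map P.subtype) : Subgroup G) : Set G)), P⁆ ≠ ⊥) (hiii : ∀ x : ↥P, x ∉ M → A ⊔ A.map (MulAut.conj (x : G)).toMonoidHom = P) : ∃ (F : Type) (_ : Field F) (_ : Fintype F), Fintype.card F = Nat.card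 ↥A ∧ Nonempty (↥P ≃* Matrix.SpecialLinearGroup (Fin 2) F) ∧ (V ⊓ Subgroup.centralizer ((A : Subgroup G) : Set G)) = ⁅V, A⁆ ⊔ (V ⊓ Subgroup.centralizer ((P : Subgroup G) : Set G)) ∧ Cfsg.ActsAsSL2OnSection F ⊤ P V (V ⊓ Subgroup.centralizer ((P : Subgroup G) : Set G)) := by
  classical
  have hVc : IsMulCommutative V := hV.1
  letI : CommGroup V := { (inferInstance : Group V) with mul_comm := hVc.is_comm.comm }
  letI := conjActionP (V := V) hPV
  have hsm : ∀ (h : P) (v : Additive V),
      ((Additive.toMul (h • v) : V) : G) = (h : G) * (Additive.toMul v : V) * (h : G)⁻¹ :=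
    fun _ _ => rfl
  haveI : Finite (Additive V) := Finite.of_equiv V Additive.ofMul
  haveI : FaithfulSMul P (Additive V) := ⟨fun {h k} hhk => by
    have hm : (k : G)⁻¹ * h ∈ P ⊓ Subgroup.centralizer (V : Set G) := by
      refine ⟨P.mul_mem (P.inv_mem k.2) h.2, Subgroup.mem_centralizer_iff.mpr fun v hv => ?_⟩
      have h1 := congrArg (fun w : Additive V => ((Additive.toMul w : V) : G))
        (hhk (Additive.ofMul ⟨v, hv⟩))
      simp only [hsm, toMul_ofMul] at h1
      calc v * ((k : G)⁻¹ * h) = (k : G)⁻¹ * ((k : G) * v * (k : G)⁻¹) * h := by group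
        _ = (k : G)⁻¹ * ((h : G) * v * (h : G)⁻¹) * h := by rw [h1]
        _ = (k : G)⁻¹ * h * v := by group
    rw [hfaith, Subgroup.mem_bot, inv_mul_eq_one] at hm
    exact Subtype.ext hm.symm⟩
  have hpW : ∀ w : Additive V, p • w = 0 := fun w => by
    refine Additive.toMul.injective (Subtype.ext ?_)
    show (((Additive.toMul w : V) ^ p : V) : G) = 1
    rw [SubmonoidClass.coe_pow, hV.2 _ (Additive.toMul w).2]
  have hsmeq : ∀ (h : P) (w : Additive V), h • w = w ↔
      (h : G) * (Additive.toMul w : V) = (Additive.toMul w : V) * (h : G) := fun h w => by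
    rw [← mul_inv_eq_iff_eq_mul, ← hsm]
    exact ⟨fun e => by rw [e], fun e => Additive.toMul.injective (Subtype.ext e)⟩
  have hAP : A ≤ P := hAT.trans (Subgroup.map_subtype_le _)
  have hfix : ∀ A₀ : Subgroup G, A₀ ≤ P → ∀ w : Additive V,
      w ∈ RankOneFF.fixW (Additive V) (A₀.subgroupOf P) ↔
        ((Additive.toMul w : V) : G) ∈ PLocal.fixOn V A₀ := fun A₀ hA₀ w => by
    rw [PLocal.mem_fixOn]
    exact ⟨fun h => ⟨(Additive.toMul w).2, fun a ha =>
      (hsmeq ⟨a, hA₀ ha⟩ w).mp (h _ (Subgroup.mem_subgroupOf.mpr ha))⟩,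
      fun h a ha => (hsmeq a w).mpr (h.2 _ (Subgroup.mem_subgroupOf.mp ha))⟩
  have hcard : ∀ A₀ : Subgroup G, A₀ ≤ P → Nat.card (A₀.subgroupOf P) = Nat.card A₀ ∧
      Nat.card (RankOneFF.fixW (Additive V) (A₀.subgroupOf P)) = Nat.card (PLocal.fixOn V A₀) :=
    fun A₀ hA₀ => ⟨Nat.card_congr (Subgroup.subgroupOfEquivOfLe hA₀).toEquiv, Nat.card_congr
      { toFun := fun w => ⟨_, (hfix A₀ hA₀ _).mp w.2⟩
        invFun := fun v => ⟨Additive.ofMul ⟨v, v.2.1⟩, (hfix A₀ hA₀ _).mpr v.2⟩
        left_inv := fun _ => rfl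
        right_inv := fun _ => rfl }⟩
  -- `A` is nontrivial and quadratic
  obtain ⟨x, hx⟩ : ∃ x, x ∉ M := by
    by_contra hall
    push Not at hall
    exact hM.1 ((Subgroup.eq_top_iff' M).mpr hall)
  have hAne : A ≠ ⊥ := fun h0 => by
    have h1 := hiii x hx
    rw [h0, Subgroup.map_bot, sup_idem] at h1
    exact hx ((show x = 1 from Subtype.ext (Subgroup.mem_bot.mp (h1.symm ▸ x.2))) ▸ M.one_mem)
  have hmax : ∀ D : Subgroup G, D ≤ A → PLocal.meas V D ≤ PLocal.meas V A := by
    intro D hD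
    rcases eq_or_ne D ⊥ with rfl | hD0
    · rw [PLocal.meas_bot]
      exact hi.1
    rcases eq_or_ne D A with rfl | hDA
    · exact le_rfl
    exact (hi.2 D hD hD0 hDA).le
  have hAc : ⁅A, A⁆ ≤ Subgroup.centralizer (V : Set G) := by
    rw [show ⁅A, A⁆ = (⊥ : Subgroup G) from Subgroup.commutator_eq_bot_iff_le_centralizer.mpr
      (Subgroup.le_centralizer_iff_isMulCommutative.mpr hAel.1)]
    exact bot_le
  have hAp : IsPGroup p A := fun a => ⟨1, Subtype.ext (by simpa using hAel.2 a a.2)⟩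
  have hquad : A ≤ Subgroup.centralizer ((⁅V, A⁆ : Subgroup G) : Set G) := by
    obtain ⟨hm, hf⟩ := PLocal.replacement hVc (hAP.trans hPV) hAc hmax (U := V) le_rfl
    set B := A ⊓ Subgroup.centralizer ((⁅V, A⁆ : Subgroup G) : Set G) with hB
    by_cases hB0 : B = ⊥
    · rw [hB0, PLocal.fixOn_bot] at hf
      have h1 := PLocal.commutator_eq_bot_of_sup_eq hVc
        (fun v => ⟨1, Subtype.ext (by simpa using hV.2 v v.2)⟩) (hAP.trans hPV)
        (PLocal.pActsOn_of_isPGroup hAp) hAc hf.le
      exfalso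
      refine hAne (le_bot_iff.mp ?_)
      rw [← hfaith]
      exact le_inf hAP (Subgroup.le_centralizer_iff.mp
        (Subgroup.commutator_eq_bot_iff_le_centralizer.mp h1))
    · by_cases hBA : B = A
      · exact hBA.ge.trans inf_le_right
      · exact absurd hm (hi.2 B inf_le_left hB0 hBA).ne
  set A' := A.subgroupOf P with hA'
  have hdiff : ∀ (a : P) (w : Additive V), ((Additive.toMul (a • w - w) : V) : G) =
      ⁅((Additive.toMul w : V) : G), (a : G)⁆⁻¹ := fun a w => by
    rw [toMul_sub, div_eq_mul_inv, Subgroup.coe_mul, Subgroup.coe_inv, hsm, commutatorElement_def]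
    group
  have hmapA : A'.map P.subtype = A := Subgroup.map_subgroupOf_eq_of_le hAP
  have hcj : ∀ y : P, (RankOneFF.cjS y A').map P.subtype =
      A.map (MulAut.conj (y : G)).toMonoidHom := fun y => by
    conv_rhs => rw [← hmapA]
    rw [RankOneFF.cjS, Subgroup.map_map, Subgroup.map_map]
    rfl
  have h : RankOneFF.PMinimal.Hyp p (Additive V) T M A' :=
    { max := hM
      sylow_le := hTM
      le := fun a ha => by
        obtain ⟨t, ht, hta⟩ := hAT (Subgroup.mem_subgroupOf.mp ha)
        exact (show a = t from Subtype.ext hta.symm) ▸ ht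
      off :=
        { pgroup := hAp.comap_subtype
          ne := fun h0 => hAne (by rw [← hmapA, h0, Subgroup.map_bot])
          quad := fun a ha w => by
            rw [hfix A hAP, PLocal.mem_fixOn, hdiff]
            have hc : ⁅((Additive.toMul w : V) : G), (a : G)⁆⁻¹ ∈ ⁅V, A⁆ := Subgroup.inv_mem _
              (Subgroup.commutator_mem_commutator (Additive.toMul w).2 (Subgroup.mem_subgroupOf.mp ha))
            refine ⟨PLocal.commutator_le_self (hAP.trans hPV) hc, fun b hb => ?_⟩
            exact (Subgroup.mem_centralizer_iff.mp (hquad hb) _ hc).symm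
          off := by
            rw [(hcard A hAP).1, (hcard A hAP).2]
            exact le_of_eq_of_le (Nat.card_congr Additive.toMul) hi.1 }
      strict := fun A₀ hA₀ h0 h1 => by
        have he : (A₀.map P.subtype).subgroupOf P = A₀ :=
          Subgroup.comap_map_eq_self_of_injective P.subtype_injective A₀
        have hle : A₀.map P.subtype ≤ A := (Subgroup.map_mono hA₀).trans hmapA.le
        have hlt := hi.2 _ hle
          (fun hb => h0 ((Subgroup.map_eq_bot_iff_of_injective _ P.subtype_injective).mp hb))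
          (fun hb => h1 (by rw [hA', ← hb, he]))
        have hc0 := hcard _ (hle.trans hAP)
        rw [he] at hc0
        rw [hc0.1, hc0.2, (hcard A hAP).1, (hcard A hAP).2]
        exact hlt
      moved := by
        obtain ⟨v, hv, y, hy, hvy⟩ : ∃ v ∈ PLocal.fixOn V ((T : Subgroup P).map P.subtype),
            ∃ y ∈ P, y * v ≠ v * y := by
          by_contra hcon
          push Not at hcon
          refine hii (Subgroup.commutator_eq_bot_iff_le_centralizer.mpr fun v hv => ?_)
          exact Subgroup.mem_centralizer_iff.mpr fun y hy => hcon v hv y hy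
        refine ⟨Additive.ofMul ⟨v, hv.1⟩, fun t ht => (hsmeq t _).mpr ?_, ⟨y, hy⟩,
          fun e => hvy ((hsmeq ⟨y, hy⟩ _).mp e)⟩
        exact Subgroup.mem_centralizer_iff.mp hv.2 _ (Subgroup.mem_map_of_mem _ ht)
      gen := fun y hy => by
        refine Subgroup.map_injective P.subtype_injective ?_
        rw [Subgroup.map_sup, hmapA, hcj, hiii y hy, ← MonoidHom.range_eq_map, Subgroup.range_subtype] }
  obtain ⟨hsurjC, F, instF, instFt, hF, ρ, θ, hθsurj, hθker, hθeq⟩ := h.exists_sl_two hpW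
  have hker : ∀ w : Additive V, θ w = 0 ↔
      ((Additive.toMul w : V) : G) ∈ V ⊓ Subgroup.centralizer ((P : Subgroup G) : Set G) := fun w => by
    rw [hθker]
    exact ⟨fun hw => ⟨(Additive.toMul w).2,
      Subgroup.mem_centralizer_iff.mpr fun y hy => (hsmeq ⟨y, hy⟩ w).mp (hw ⟨y, hy⟩)⟩,
      fun hw y => (hsmeq y w).mpr (Subgroup.mem_centralizer_iff.mp hw.2 y y.2)⟩
  refine ⟨F, instF, instFt, hF.trans (hcard A hAP).1, ⟨ρ⟩, ?_, hPV, inf_le_left, ρ.toMonoidHom,
    AddMonoidHom.toMultiplicativeRight θ, MonoidHom.range_eq_top.mpr ρ.surjective,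
    fun l => ?_, fun u => ?_, fun e u => ?_⟩
  · -- `C_V(A) = [V,A] C_V(P)`
    refine le_antisymm (fun v hv => ?_) (sup_le (fun v hv => ⟨PLocal.commutator_le_self
      (hAP.trans hPV) hv, Subgroup.mem_centralizer_iff.mpr fun a ha =>
        (Subgroup.mem_centralizer_iff.mp (hquad ha) v hv).symm⟩)
      (inf_le_inf_left _ (Subgroup.centralizer_le hAP)))
    obtain ⟨a, ha, w, hw⟩ := hsurjC x hx (Additive.ofMul ⟨v, hv.1⟩) ((hfix A hAP _).mpr hv)
    set c : Additive V := Additive.ofMul ⟨v, hv.1⟩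
    have hd : ((Additive.toMul (a • w - w - c) : V) : G) ∈
        V ⊓ Subgroup.centralizer ((P : Subgroup G) : Set G) := by
      refine ⟨(Additive.toMul (a • w - w - c)).2, Subgroup.mem_centralizer_iff.mpr fun y hy => ?_⟩
      exact (hsmeq ⟨y, hy⟩ _).mp (h.fixed_of_mem_inter hx hw.1 hw.2 _)
    have he : v = ((Additive.toMul (a • w - w) : V) : G) *
        ((Additive.toMul (a • w - w - c) : V) : G)⁻¹ := by
      rw [← Subgroup.coe_inv, ← Subgroup.coe_mul, ← toMul_neg, ← toMul_add, neg_sub, add_sub_cancel]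
      rfl
    rw [he]
    refine Subgroup.mul_mem _ (Subgroup.mem_sup_left ?_) (Subgroup.mem_sup_right (Subgroup.inv_mem _ hd))
    rw [hdiff]
    exact Subgroup.inv_mem _
      (Subgroup.commutator_mem_commutator (Additive.toMul w).2 (Subgroup.mem_subgroupOf.mp ha))
  · obtain ⟨w, hw⟩ := hθsurj (Multiplicative.toAdd l)
    exact ⟨Additive.toMul w, congrArg Multiplicative.ofAdd hw⟩
  · rw [show AddMonoidHom.toMultiplicativeRight θ u = 1 ↔ θ (Additive.ofMul u) = 0 from Iff.rfl]
    exact hker _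
  · exact ⟨Additive.toMul (e • Additive.ofMul u), hsm e _, hθeq e _⟩

end Cfsg.Agent.S2999
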