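import Cfsg.Statements.S3001
import Cfsg.Agent.Lib.NoStrictAtoms69.Top

set_option autoImplicit false
open Cfsg

namespace Cfsg.Agent.S3001

open Cfsg.Agent.Lib
open scoped commutatorElement

section

variable {G : Type*} [Group G] {V P : Subgroup G}

/-- Conjugation on `Additive V`. -/
def conjAct (hPV : P ≤ Subgroup.normalizer (V : Set G)) :
    DistribMulAction P (Additive V) where
  smul h v := Additive.ofMul (Subgroup.normalizerMonoidHom V ⟨h, hPV h.2⟩ v.toMul)
  one_smul v := by
    show Additive.ofMul (Subgroup.normalizerMonoidHom V 1 v.toMul) = v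
    rw [map_one]
    rfl
  mul_smul h k v := by
    show Additive.ofMul (Subgroup.normalizerMonoidHom V (⟨h, hPV h.2⟩ * ⟨k, hPV k.2⟩) v.toMul) =
      Additive.ofMul (Subgroup.normalizerMonoidHom V ⟨h, hPV h.2⟩
        (Subgroup.normalizerMonoidHom V ⟨k, hPV k.2⟩ v.toMul))
    rw [map_mul]
    rfl
  smul_zero h := congrArg Additive.ofMul (map_one _)
  smul_add h u v := congrArg Additive.ofMul (map_mul _ _ _)

end

/-- Let p be a prime and let P and V be subgroups of a finite group with V elementary abelian, P normalizing V and acting faithfully on it (P ∩ C(V) = 1). Suppose P is p-minimal (a Sylow p-subgroup is not normal and lies in a unique maximal subgroup), O_p(P) = 1, and P has a best offender on V (a subgroup A not centralizing V, with A/C_A(V) elementary abelian and |B|·|C_V(B)| ≤ |A|·|C_V(A)| for every B ≤ A). Then [C_V(T), P] ≠ 1 for every Sylow p-subgroup T of P. -/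
theorem result {G : Type*} [Group G] [Finite G] {p : ℕ} [Fact p.Prime] (V P : Subgroup G) (hV : Cfsg.IsElementaryAbelian p V) (hPV : P ≤ Subgroup.normalizer (V : Set G)) (hfaith : P ⊓ Subgroup.centralizer (V : Set G) = ⊥) (hmin : Cfsg.IsPMinimal p ↥P) (hOp : Cfsg.pCore p ↥P = ⊥) (hoff : ∃ A : Subgroup G, A ≤ P ∧ ¬ A ≤ Subgroup.centralizer (V : Set G) ∧ Cfsg.IsBestOffenderOn p V A) (T : Sylow p ↥P) : ⁅(V ⊓ Subgroup.centralizer ((((T : Subgroup ↥P).map P.subtype) : Subgroup G) : Set G)), P⁆ ≠ ⊥ := by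
  classical
  have hVc : IsMulCommutative V := hV.1
  letI : CommGroup V := { (inferInstance : Group V) with mul_comm := hVc.is_comm.comm }
  letI := conjAct (V := V) hPV
  have hsm : ∀ (h : P) (v : Additive V),
      ((Additive.toMul (h • v) : V) : G) = (h : G) * (Additive.toMul v : V) * (h : G)⁻¹ :=
    fun _ _ => rfl
  haveI : Finite (Additive V) := Finite.of_equiv V Additive.ofMul
  haveI : FaithfulSMul P (Additive V) := ⟨fun {h k} hhk => by
    have hm : (k : G)⁻¹ * h ∈ P ⊓ Subgroup.centralizer (V : Set G) := by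
      refine ⟨P.mul_mem (P.inv_mem k.2) h.2, Subgroup.mem_centralizer_iff.mpr fun v hv => ?_⟩
      have h1 := congrArg (fun w : Additive V => ((Additive.toMul w : V) : G))
        (hhk (Additive.ofMul ⟨v, hv⟩))
      simp only [hsm, toMul_ofMul] at h1
      calc v * ((k : G)⁻¹ * h) = (k : G)⁻¹ * ((k : G) * v * (k : G)⁻¹) * h := by group
        _ = (k : G)⁻¹ * ((h : G) * v * (h : G)⁻¹) * h := by rw [h1]
        _ = (k : G)⁻¹ * h * v := by group
    rw [hfaith, Subgroup.mem_bot, inv_mul_eq_one] at hm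
    exact Subtype.ext hm.symm⟩
  have hpW : ∀ w : Additive V, p • w = 0 := fun w => by
    refine Additive.toMul.injective (Subtype.ext ?_)
    show (((Additive.toMul w : V) ^ p : V) : G) = 1
    rw [SubmonoidClass.coe_pow, hV.2 _ (Additive.toMul w).2]
  have hsmeq : ∀ (h : P) (w : Additive V), h • w = w ↔
      (h : G) * (Additive.toMul w : V) = (Additive.toMul w : V) * (h : G) := fun h w => by
    rw [← mul_inv_eq_iff_eq_mul, ← hsm]
    exact ⟨fun e => by rw [e], fun e => Additive.toMul.injective (Subtype.ext e)⟩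
  obtain ⟨A, hAP, hAV, hbest, hAc, hApow⟩ := hoff
  have hone : ∀ x ∈ P, x ∈ Subgroup.centralizer (V : Set G) → x = 1 := fun x hx hxc =>
    Subgroup.mem_bot.1 (hfaith ▸ ⟨hx, hxc⟩)
  have hApg : ∀ a ∈ A, a ^ p = 1 := fun a ha => hone _ (P.pow_mem (hAP ha) p) (hApow a ha)
  set A' : Subgroup P := A.subgroupOf P with hA'
  have hA'p : IsPGroup p A' := fun a => ⟨1, Subtype.ext (Subtype.ext (by
    rw [pow_one]; exact hApg _ (Subgroup.mem_subgroupOf.1 a.2)))⟩
  have hA'c : NoStrictAtoms69.Comm A' A' := by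
    intro a ha b hb
    refine Subtype.ext ?_
    have h1 : ⁅(a : G), (b : G)⁆ = 1 := hone _
      (P.mul_mem (P.mul_mem (P.mul_mem a.2 b.2) (P.inv_mem a.2)) (P.inv_mem b.2))
      (hAc (Subgroup.commutator_mem_commutator (Subgroup.mem_subgroupOf.1 ha)
        (Subgroup.mem_subgroupOf.1 hb)))
    exact commutatorElement_eq_one_iff_mul_comm.1 h1
  have hfixcard : Nat.card (RankOneFF.fixW (Additive V) A') =
      Nat.card ↥(V ⊓ Subgroup.centralizer (A : Set G)) := Nat.card_congr
    { toFun := fun w => ⟨((Additive.toMul (w : Additive V) : V) : G),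
        (Additive.toMul (w : Additive V)).2, Subgroup.mem_centralizer_iff.2 fun a ha =>
          (hsmeq ⟨a, hAP ha⟩ _).1 (w.2 _ (Subgroup.mem_subgroupOf.2 ha))⟩
      invFun := fun v => ⟨Additive.ofMul ⟨v, v.2.1⟩, fun a ha => (hsmeq a _).2
        (Subgroup.mem_centralizer_iff.1 v.2.2 _ (Subgroup.mem_subgroupOf.1 ha))⟩
      left_inv := fun _ => rfl
      right_inv := fun _ => rfl }
  have hle : Nat.card (Additive V) ≤ Nat.card A' * Nat.card (RankOneFF.fixW (Additive V) A') := by
    rw [hfixcard, Nat.card_congr (Subgroup.subgroupOfEquivOfLe hAP).toEquiv,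
      Nat.card_congr (Additive.toMul : Additive V ≃ V)]
    refine le_trans ?_ (hbest ⊥ bot_le)
    have : V ⊓ Subgroup.centralizer ((⊥ : Subgroup G) : Set G) = V :=
      inf_eq_left.2 fun v _ => Subgroup.mem_centralizer_iff.2 fun y hy => by
        rw [Subgroup.mem_bot.1 hy, one_mul, mul_one]
    rw [this, Subgroup.card_bot, one_mul]
  have hA'ne : A' ≠ ⊥ := fun e => hAV fun a ha => by
    have h1 : (⟨a, hAP ha⟩ : P) ∈ A' := Subgroup.mem_subgroupOf.2 ha
    rw [e, Subgroup.mem_bot] at h1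
    rw [show a = 1 from congrArg Subtype.val h1]
    exact one_mem _
  obtain ⟨-, M, ⟨hMmax, hTM⟩, huniq⟩ := hmin T
  have honly : NoStrict.OnlyIn (T : Subgroup P) M := by
    intro Y hY hYne
    obtain ⟨N, hN, hYN⟩ := (eq_top_or_exists_le_coatom Y).resolve_left hYne
    exact (huniq N ⟨hN, hY.trans hYN⟩) ▸ hYN
  obtain ⟨w, hw, h, hh⟩ := NoStrictAtoms69.exists_moved_fixed hpW hOp T hMmax.1 hTM honly
    (A := A') ⟨hA'p, hA'c, hle⟩ hA'ne
  intro hbot
  refine hh ((hsmeq h w).2 ?_)
  have hv : ((Additive.toMul w : V) : G) ∈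
      V ⊓ Subgroup.centralizer ((((T : Subgroup ↥P).map P.subtype) : Subgroup G) : Set G) := by
    refine ⟨(Additive.toMul w).2, Subgroup.mem_centralizer_iff.2 ?_⟩
    rintro _ ⟨t, ht, rfl⟩
    exact (hsmeq t w).1 (hw t ht)
  have h1 := Subgroup.commutator_mem_commutator hv h.2
  rw [hbot, Subgroup.mem_bot, commutatorElement_eq_one_iff_mul_comm] at h1
  exact h1.symm

end Cfsg.Agent.S3001
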