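import Cfsg.Statements.S3003
import Cfsg.Agent.Lib.Coprime.Generation
import Cfsg.Agent.Lib.PGroups.ElemAb

set_option autoImplicit false
open Cfsg

namespace Cfsg.Agent.S3003

/-- Let G be a finite group, p a prime and Q a large p-subgroup of G: C_G(Q) ≤ Q and N_G(U) ≤ N_G(Q) for every nontrivial subgroup U of C_G(Q). Let Q ≤ G₁ ≤ G, let R be a subgroup of order prime to p normalized by G₁, and let U ≤ G₁ be a p-subgroup. If U contains a nontrivial element which is G₁-conjugate to an element of Z(Q), then C_R(U) = 1. In particular, if U is elementary abelian of order at least p² and every maximal subgroup of U contains a nontrivial element G₁-conjugate into Z(Q), then R = 1. -/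
theorem result {G : Type*} [Group G] [Finite G] {p : ℕ} [Fact p.Prime] (Q : Subgroup G) (hQp : IsPGroup p ↥Q) (hlarge : Cfsg.IsLarge Q) (G₁ : Subgroup G) (hQG : Q ≤ G₁) (R : Subgroup G) (hR : (Nat.card ↥R).Coprime p) (hGR : G₁ ≤ Subgroup.normalizer (R : Set G)) (U : Subgroup G) (hUG : U ≤ G₁) (hUp : IsPGroup p ↥U) : ((∃ x ∈ U, x ≠ 1 ∧ ∃ g ∈ G₁, g * x * g⁻¹ ∈ Q ⊓ Subgroup.centralizer (Q : Set G)) → R ⊓ Subgroup.centralizer (U : Set G) = ⊥) ∧ (Cfsg.IsElementaryAbelian p U → p ^ 2 ≤ Nat.card ↥U → (∀ U₀ : Subgroup G, U₀ ≤ U → IsCoatom (U₀.subgroupOf U) → ∃ x ∈ U₀, x ≠ 1 ∧ ∃ g ∈ G₁, g * x * g⁻¹ ∈ Q ⊓ Subgroup.centralizer (Q : Set G)) → R = ⊥) := by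
  have part1 : ∀ W : Subgroup G, W ≤ G₁ → (∃ x ∈ W, x ≠ 1 ∧ ∃ g ∈ G₁, g * x * g⁻¹ ∈ Q ⊓ Subgroup.centralizer (Q : Set G)) →
      R ⊓ Subgroup.centralizer (W : Set G) = ⊥ := by
    rintro W hW ⟨x, hx, hx1, g, hg, hy⟩
    rw [Subgroup.eq_bot_iff_forall]
    rintro r ⟨hr, hrW⟩
    set y := g * x * g⁻¹ with hy'
    set s := g * r * g⁻¹ with hs'
    have hs : s ∈ R := (Subgroup.mem_normalizer_iff.mp (hGR hg) r).mp hr
    have hsy : y * s = s * y := by
      have := Subgroup.mem_centralizer_iff.mp hrW x hx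
      calc y * s = g * (x * r) * g⁻¹ := by rw [hy', hs']; group
        _ = g * (r * x) * g⁻¹ := by rw [this]
        _ = s * y := by rw [hy', hs']; group
    have hy1 : Subgroup.zpowers y ≠ ⊥ := by
      rw [Ne, Subgroup.zpowers_eq_bot, conj_eq_one_iff]; exact hx1
    have hsQ : s ∈ Subgroup.normalizer (Q : Set G) := by
      refine hlarge.2 _ (Subgroup.zpowers_le.mpr hy.2) hy1 ?_
      refine Subgroup.centralizer_le_normalizer _ (Subgroup.mem_centralizer_iff.mpr ?_)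
      intro z hz
      obtain ⟨k, rfl⟩ := Subgroup.mem_zpowers_iff.mp hz
      exact ((show Commute y s from hsy).zpow_left k).eq
    have hcap : ∀ z, z ∈ R → z ∈ Q → z = 1 := by
      intro z hzR hzQ
      obtain ⟨k, hk⟩ := hQp ⟨z, hzQ⟩
      have h1 : z ^ p ^ k = 1 := congrArg Subtype.val hk
      have h2 : z ^ Nat.card ↥R = 1 := congrArg Subtype.val (pow_card_eq_one' (x := (⟨z, hzR⟩ : ↥R)))
      have := pow_gcd_eq_one.mpr ⟨h1, h2⟩
      rwa [Nat.coprime_iff_gcd_eq_one.mp ((hR.symm).pow_left k), pow_one] at this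
    have hsC : s ∈ Subgroup.centralizer (Q : Set G) := by
      refine Subgroup.mem_centralizer_iff.mpr fun q hq => ?_
      have h1 : q * s * q⁻¹ * s⁻¹ ∈ R :=
        R.mul_mem ((Subgroup.mem_normalizer_iff.mp (hGR (hQG hq)) s).mp hs) (R.inv_mem hs)
      have h2 : q * s * q⁻¹ * s⁻¹ ∈ Q := by
        have := Q.mul_mem hq ((Subgroup.mem_normalizer_iff.mp hsQ q⁻¹).mp (Q.inv_mem hq))
        simpa [mul_assoc] using this
      have h3 := hcap _ h1 h2
      calc q * s = (q * s * q⁻¹ * s⁻¹) * s * q := by group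
        _ = s * q := by rw [h3, one_mul]
    have := hcap s hs (hlarge.1 hsC)
    exact conj_eq_one_iff.mp this
  refine ⟨part1 U hUG, fun hU _ hmax => ?_⟩
  haveI := hU.1
  obtain ⟨m, hm⟩ := IsPGroup.iff_card.mp hUp
  have hcop : (Nat.card ↥U).Coprime (Nat.card ↥R) := by rw [hm]; exact (hR.symm).pow_left m
  rw [← Cfsg.Agent.Lib.Coprime.iSup_centralizer_cyclic_quotient_eq (hUG.trans hGR) hcop, eq_bot_iff]
  refine iSup₂_le fun B hB => ?_
  obtain ⟨hBU, a, ha, hBa⟩ := hB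
  have hcoatom : B ≠ U → IsCoatom (B.subgroupOf U) := by
    intro hne
    refine ⟨fun h => hne (le_antisymm hBU (Subgroup.subgroupOf_eq_top.mp h)), fun L hL => ?_⟩
    obtain ⟨c, hc, hcB⟩ := SetLike.exists_of_lt hL
    have hBn : U ≤ Subgroup.normalizer (B : Set G) := fun u hu =>
      Subgroup.mem_normalizer_iff.mpr fun b => by
        constructor
        · intro hb
          rw [Cfsg.Agent.Lib.PGroups.elemAb_comm hU hu (hBU hb), mul_inv_cancel_right]; exact hb
        · intro hb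
          have h1 : b ∈ U := by
            have := U.mul_mem (U.mul_mem (U.inv_mem hu) (hBU hb)) hu
            simpa [mul_assoc] using this
          rwa [Cfsg.Agent.Lib.PGroups.elemAb_comm hU hu h1, mul_inv_cancel_right] at hb
    have hc' : (c : G) ∈ ((B ⊔ Subgroup.zpowers a : Subgroup G) : Set G) := by rw [hBa]; exact c.2
    rw [Subgroup.coe_mul_of_right_le_normalizer_left _ _
      ((Subgroup.zpowers_le.mpr ha).trans hBn)] at hc'
    obtain ⟨b, hb, z, hz, hbz⟩ := hc'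
    have hbz : b * z = (c : G) := hbz
    have hzL : (⟨z, (Subgroup.zpowers_le.mpr ha) hz⟩ : ↥U) ∈ L := by
      have e : (⟨z, (Subgroup.zpowers_le.mpr ha) hz⟩ : ↥U) = (⟨b, hBU hb⟩ : ↥U)⁻¹ * c :=
        Subtype.ext (by simp [← hbz])
      rw [e]; exact L.mul_mem (L.inv_mem (hL.le hb)) hc
    have hz1 : z ≠ 1 := by
      rintro rfl
      rw [mul_one] at hbz
      exact hcB (Subgroup.mem_subgroupOf.mpr (hbz ▸ hb))
    have hap : a ^ p = 1 := Cfsg.Agent.Lib.PGroups.elemAb_pow hU ha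
    obtain ⟨k, rfl⟩ := Subgroup.mem_zpowers_iff.mp hz
    have haL : (⟨a, ha⟩ : ↥U) ∈ L := by
      have hk : ¬ (p : ℤ) ∣ k := by
        rintro ⟨j, rfl⟩
        exact hz1 (by rw [zpow_mul, zpow_natCast, hap, one_zpow])
      obtain ⟨u, v, huv⟩ := ((Nat.prime_iff_prime_int.mp (Fact.out : p.Prime)).coprime_iff_not_dvd.mpr hk).symm
      have e : (⟨a, ha⟩ : ↥U) = (⟨a ^ k, (Subgroup.zpowers_le.mpr ha) hz⟩ : ↥U) ^ u := by
        apply Subtype.ext
        rw [SubgroupClass.coe_zpow]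
        show a = (a ^ k) ^ u
        conv_lhs => rw [← zpow_one a, ← huv, zpow_add, mul_comm v, zpow_mul, zpow_mul, zpow_natCast, hap,
          one_zpow, mul_one, ← zpow_mul, mul_comm u, zpow_mul]
      rw [e]; exact L.zpow_mem hzL u
    refine eq_top_iff.mpr fun w _ => ?_
    have hw : (w : G) ∈ ((B ⊔ Subgroup.zpowers a : Subgroup G) : Set G) := by rw [hBa]; exact w.2
    rw [Subgroup.coe_mul_of_right_le_normalizer_left _ _
      ((Subgroup.zpowers_le.mpr ha).trans hBn)] at hw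
    obtain ⟨b', hb', z', hz', hbz'⟩ := hw
    obtain ⟨j, rfl⟩ := Subgroup.mem_zpowers_iff.mp hz'
    have e : w = (⟨b', hBU hb'⟩ : ↥U) * (⟨a, ha⟩ : ↥U) ^ j := by
      apply Subtype.ext
      rw [Subgroup.coe_mul, SubgroupClass.coe_zpow]
      exact hbz'.symm
    rw [e]; exact L.mul_mem (hL.le hb') (L.zpow_mem haL j)
  by_cases hBeq : B = U
  · subst hBeq
    by_cases hbot : ∃ U₀ : Subgroup G, U₀ ≤ B ∧ IsCoatom (U₀.subgroupOf B)
    · obtain ⟨U₀, hU₀, hU₀c⟩ := hbot
      obtain ⟨x, hx, hx'⟩ := hmax U₀ hU₀ hU₀c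
      exact (part1 B hUG ⟨x, hU₀ hx, hx'⟩).le
    · obtain ⟨L, hL, -⟩ := (eq_top_or_exists_le_coatom (⊥ : Subgroup ↥B)).resolve_left fun h => by
        have h2 : Nat.card ↥(⊥ : Subgroup ↥B) = Nat.card ↥B := by rw [h, Subgroup.card_top]
        rw [Subgroup.card_bot] at h2
        have h3 : p ^ 2 ≤ 1 := by rw [h2]; assumption
        have := Nat.one_lt_pow (n := 2) (by norm_num) (Fact.out : p.Prime).one_lt
        omega
      exact absurd ⟨L.map B.subtype, Subgroup.map_subtype_le L, by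
        rwa [Subgroup.subgroupOf, Subgroup.comap_map_eq_self_of_injective B.subtype_injective]⟩ hbot
  · exact (part1 B (hBU.trans hUG) (hmax B hBU (hcoatom hBeq))).le

end Cfsg.Agent.S3003
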