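import Cfsg.Statements.S3009
import Cfsg.Agent.Lib.SL2Module.Conj

set_option autoImplicit false
open Cfsg
open scoped commutatorElement

namespace Cfsg.Agent.S3009

/-- Let p be a prime and let G and V be subgroups of a finite group with V elementary abelian and normalized by G, and G isomorphic to SL₂(F) for a finite field F with pⁿ elements. Suppose G acts irreducibly and nontrivially on V by conjugation (no G-invariant subgroups of V other than 1 and V, and [V, G] ≠ 1), and let S be a Sylow p-subgroup of G and V₀ = C_V(S). If [V, S, S] = 1 or |V| ≤ |V₀|², then G acts on V as SL₂(F) on its natural two-dimensional module; in particular |V| = |F|². -/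
theorem result {X : Type*} [Group X] [Finite X] {p : ℕ} [Fact p.Prime] (G V : Subgroup X) (hV : Cfsg.IsElementaryAbelian p V) (hGV : G ≤ Subgroup.normalizer (V : Set X)) (F : Type) [Field F] [Fintype F] (n : ℕ) (hF : Fintype.card F = p ^ n) (hG : Nonempty (↥G ≃* Matrix.SpecialLinearGroup (Fin 2) F)) (hirr : ∀ U : Subgroup X, U ≤ V → G ≤ Subgroup.normalizer (U : Set X) → U = ⊥ ∨ U = V) (hnt : ⁅V, G⁆ ≠ ⊥) (S : Sylow p ↥G) (hyp : ⁅⁅V, (S : Subgroup ↥G).map G.subtype⁆, (S : Subgroup ↥G).map G.subtype⁆ = ⊥ ∨ Nat.card ↥V ≤ Nat.card ↥(V ⊓ Subgroup.centralizer (((S : Subgroup ↥G).map G.subtype : Subgroup X) : Set X)) ^ 2) : Cfsg.ActsAsSL2OnSection F ⊤ G V ⊥ := by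
  classical
  haveI : CharP F p := Lib.SL2Module.charP_of_card hF
  obtain ⟨e, he⟩ := Lib.SL2Module.exists_iso_up hG S
  set T := (S : Subgroup ↥G).map G.subtype with hT
  have hmemT : ∀ l : ↥G, (l : X) ∈ T ↔ ∃ x, e l = Lib.PLocal.SLTwo.up x := fun l =>
    (Subgroup.mem_map_iff_mem G.subtype_injective).trans (he l)
  letI : CommGroup ↥V := { (inferInstance : Group ↥V) with mul_comm := hV.1.1.1 }
  let ρ : Matrix.SpecialLinearGroup (Fin 2) F →* AddMonoid.End (Additive ↥V) :=
    (Lib.SL2Module.conjEnd G V hGV).comp e.symm.toMonoidHom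
  have hρ : ∀ g (v : Additive ↥V), ((Additive.toMul (ρ g v) : ↥V) : X) =
      (e.symm g : X) * (Additive.toMul v : ↥V) * (e.symm g : X)⁻¹ := fun g v => rfl
  have hsymmT : ∀ t, (e.symm (Lib.PLocal.SLTwo.up t) : X) ∈ T := fun t =>
    (hmemT _).2 ⟨t, e.apply_symm_apply _⟩
  have hirr' : Lib.SL2Module.IsIrred ρ := by
    intro W hWu hWl
    let K : Subgroup (Matrix.SpecialLinearGroup (Fin 2) F) :=
      { carrier := {g | ∀ v, v ∈ W ↔ ρ g v ∈ W}
        one_mem' := fun v => by rw [map_one]; rfl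
        mul_mem' := fun {a b} ha hb v => by rw [Lib.SL2Module.map_mul_apply]; exact (hb v).trans (ha _)
        inv_mem' := fun {a} ha v => by
          conv_lhs => rw [← Lib.SL2Module.map_apply_inv ρ a v]
          exact (ha _).symm }
    have hK : (Set.range (Lib.PLocal.SLTwo.up (F := F)) ∪ Set.range (Lib.PLocal.SLTwo.lo (F := F))) ⊆ K := by
      rintro _ (⟨t, rfl⟩ | ⟨t, rfl⟩) v
      · refine ⟨hWu t v, fun h => ?_⟩
        have := hWu (-t) _ h
        rwa [← Lib.SL2Module.map_mul_apply, ← Lib.PLocal.SLTwo.up_add, neg_add_cancel,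
          Lib.PLocal.SLTwo.up_zero, map_one] at this
      · refine ⟨hWl t v, fun h => ?_⟩
        have := hWl (-t) _ h
        rwa [← Lib.SL2Module.map_mul_apply, ← Lib.PLocal.SLTwo.lo_add, neg_add_cancel,
          Lib.PLocal.SLTwo.lo_zero, map_one] at this
    have hall : ∀ g, ∀ v, v ∈ W ↔ ρ g v ∈ W := fun g =>
      (Subgroup.closure_le K).2 hK (Lib.PLocal.SLTwo.closure_eq_top.ge (Subgroup.mem_top g))
    set U : Subgroup X := (AddSubgroup.toSubgroup' W).map V.subtype with hU
    have hUV : U ≤ V := Subgroup.map_subtype_le _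
    have hmemU : ∀ v : Additive ↥V, ((Additive.toMul v : ↥V) : X) ∈ U ↔ v ∈ W := fun v =>
      Subgroup.mem_map_iff_mem V.subtype_injective
    have hGU : G ≤ Subgroup.normalizer (U : Set X) := by
      intro g hg
      have hfix : ∀ l : ↥G, ∀ y ∈ U, (l : X) * y * (l : X)⁻¹ ∈ U := by
        intro l y hy
        have h1 : Additive.ofMul (⟨y, hUV hy⟩ : ↥V) ∈ W := (hmemU _).1 hy
        have h2 := (hmemU _).2 ((hall (e l) _).1 h1)
        rwa [hρ, e.symm_apply_apply] at h2
      refine Subgroup.mem_normalizer_iff.2 fun y => ⟨hfix ⟨g, hg⟩ y, fun h => ?_⟩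
      have := hfix ⟨g⁻¹, inv_mem hg⟩ _ h
      simpa [mul_assoc] using this
    rcases hirr U hUV hGU with h | h
    · left
      refine eq_bot_iff.2 fun v hv => ?_
      have h1 := (hmemU v).2 hv
      rw [h, Subgroup.mem_bot] at h1
      exact AddSubgroup.mem_bot.2 (Additive.toMul.injective (Subtype.ext h1))
    · right
      refine eq_top_iff.2 fun v _ => (hmemU v).1 ?_
      rw [h]; exact (Additive.toMul v).2
  have hnt' : ∃ g v, ρ g v ≠ v := by
    by_contra h
    push Not at h
    apply hnt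
    rw [Subgroup.commutator_eq_bot_iff_le_centralizer]
    intro v hv
    refine Subgroup.mem_centralizer_iff.2 fun g hg => ?_
    have h1 := congrArg (fun w : Additive ↥V => ((Additive.toMul w : ↥V) : X))
      (h (e ⟨g, hg⟩) (Additive.ofMul ⟨v, hv⟩))
    simp only [hρ, e.symm_apply_apply] at h1
    exact mul_inv_eq_iff_eq_mul.1 h1
  have hD : ∀ t (v : Additive ↥V), ((Additive.toMul (Lib.SL2Module.nU ρ t v) : ↥V) : X) =
      ⁅(e.symm (Lib.PLocal.SLTwo.up t) : X), ((Additive.toMul v : ↥V) : X)⁆ := by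
    intro t v
    show ((Additive.toMul (ρ _ v - v) : ↥V) : X) = _
    rw [toMul_sub, div_eq_mul_inv, Subgroup.coe_mul, Subgroup.coe_inv, hρ, commutatorElement_def]
  have hq : ∀ t s v, Lib.SL2Module.nU ρ t (Lib.SL2Module.nU ρ s v) = 0 := by
    rcases hyp with h | h
    · intro t s v
      apply Additive.toMul.injective
      apply Subtype.ext
      rw [hD, hD]
      have h1 : ⁅(e.symm (Lib.PLocal.SLTwo.up s) : X), ((Additive.toMul v : ↥V) : X)⁆ ∈ ⁅V, T⁆ :=
        Subgroup.commutator_comm T V ▸ Subgroup.commutator_mem_commutator (hsymmT s) (Additive.toMul v).2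
      have h2 : ⁅(e.symm (Lib.PLocal.SLTwo.up t) : X),
          ⁅(e.symm (Lib.PLocal.SLTwo.up s) : X), ((Additive.toMul v : ↥V) : X)⁆⁆ ∈ ⁅⁅V, T⁆, T⁆ :=
        Subgroup.commutator_comm T ⁅V, T⁆ ▸ Subgroup.commutator_mem_commutator (hsymmT t) h1
      rw [h, Subgroup.mem_bot] at h2
      exact h2
    · have hA : IsPGroup p (Multiplicative (Additive ↥V)) := fun x =>
        ⟨1, by rw [pow_one]; exact Subtype.ext (hV.2 _ (Additive.toMul (Multiplicative.toAdd x) : ↥V).2)⟩
      have hfix : Nat.card ↥(V ⊓ Subgroup.centralizer (T : Set X)) =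
          Nat.card ↥(Lib.SL2Module.fixU ρ) := by
        refine Nat.card_congr
          { toFun := fun v => ⟨Additive.ofMul ⟨v, v.2.1⟩, (Lib.SL2Module.mem_fixU ρ).2 fun t =>
              Additive.toMul.injective (Subtype.ext (by
                rw [hD]; exact commutatorElement_eq_one_iff_mul_comm.2
                  (Subgroup.mem_centralizer_iff.1 v.2.2 _ (hsymmT t))))⟩
            invFun := fun v => ⟨((Additive.toMul v.1 : ↥V) : X), (Additive.toMul v.1).2,
              Subgroup.mem_centralizer_iff.2 fun t ht => ?_⟩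
            left_inv := fun v => rfl
            right_inv := fun v => rfl }
        obtain ⟨l, -, rfl⟩ := Subgroup.mem_map.1 ht
        obtain ⟨x, hx⟩ := (hmemT l).1 ht
        have h1 := congrArg (fun w : Additive ↥V => ((Additive.toMul w : ↥V) : X))
          ((Lib.SL2Module.mem_fixU ρ).1 v.2 x)
        simp only [hD, ← hx, e.symm_apply_apply] at h1
        exact commutatorElement_eq_one_iff_mul_comm.1 h1
      exact Lib.SL2Module.quadratic_of_card_le hA hirr' hnt' (by
        rw [← hfix]; exact (Nat.card_congr Additive.toMul).le.trans h)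
  obtain ⟨f, hf⟩ := Lib.SL2Module.exists_natural hirr' hnt' hq
  refine ⟨hGV, bot_le, e.toMonoidHom,
    { toFun := fun u => Multiplicative.ofAdd (f.symm (Additive.ofMul u))
      map_one' := by simp
      map_mul' := fun a b => by rw [ofMul_mul, map_add, ofAdd_add] }, ?_, ?_, ?_, ?_⟩
  · exact MonoidHom.range_eq_top.2 e.surjective
  · intro x
    exact ⟨Additive.toMul (f (Multiplicative.toAdd x)), by simp⟩
  · intro u
    simp [Subgroup.mem_bot]
  · intro l u
    refine ⟨⟨_, (Subgroup.mem_normalizer_iff.1 (hGV l.2) (u : X)).1 u.2⟩, rfl, ?_⟩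
    simp only [MonoidHom.coe_mk, OneHom.coe_mk, toAdd_ofAdd, MulEquiv.coe_toMonoidHom]
    rw [AddEquiv.symm_apply_eq, ← hf, AddEquiv.apply_symm_apply]
    apply Additive.toMul.injective
    apply Subtype.ext
    rw [hρ, e.symm_apply_apply]
    rfl

end Cfsg.Agent.S3009
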