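import Cfsg.Statements.S3011
import Cfsg.Agent.Lib.Involutions.BaerSuzuki
import Cfsg.Agent.Lib.PGroups.ElemAb
import Cfsg.Agent.Lib.Cores.Basic

set_option autoImplicit false
open Cfsg

namespace Cfsg.Agent.S3011

/-- Let G be a finite group and V a nontrivial elementary abelian 2-subgroup of G of order at most 4 such that, whenever an element of V inverts an element h of G of odd order, some nontrivial element of V commutes with h. Then V meets O₂(G) nontrivially. (The case of order at most 4 has a short argument from the Baer–Suzuki theorem.) -/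
theorem result {G : Type*} [Group G] [Finite G] (V : Subgroup G) (hV : Cfsg.IsElementaryAbelian 2 V) (hV1 : V ≠ ⊥) (hS : Cfsg.IsSidkiPair V) (h4 : Nat.card V ≤ 4) : V ⊓ Cfsg.pCore 2 G ≠ ⊥ := by
  intro hbot
  have hsq : ∀ v ∈ V, v * v = 1 := fun v hv => by
    have := Cfsg.Agent.Lib.PGroups.elemAb_pow hV hv
    rwa [pow_two] at this
  have hinv : ∀ v ∈ V, v⁻¹ = v := fun v hv => inv_eq_of_mul_eq_one_right (hsq v hv)
  -- odd order elements equal to their inverse are trivial
  have hodd : ∀ {x : G}, Odd (orderOf x) → x * x = 1 → x = 1 := by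
    intro x hx hx2
    obtain ⟨j, hj⟩ := hx
    have h1 := pow_orderOf_eq_one x
    rwa [hj, pow_succ, pow_mul, pow_two, hx2, one_pow, one_mul] at h1
  -- every involution of `V` inverts something, centralized by another one
  have hex : ∀ v ∈ V, v ≠ 1 → ∃ h, h ≠ 1 ∧ Odd (orderOf h) ∧ v * h * v⁻¹ = h⁻¹ ∧
      ∃ u ∈ V, u ≠ 1 ∧ u ≠ v ∧ u * h = h * u := by
    intro v hv hv1
    have hord : orderOf v = 2 := orderOf_eq_prime (Cfsg.Agent.Lib.PGroups.elemAb_pow hV hv) hv1
    obtain ⟨h, h1, h2, h3⟩ := Cfsg.Agent.Lib.Involutions.BaerSuzuki.exists_odd_inverted v hord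
      fun N hN hNp hvN => hv1 (by
        haveI := hN
        have : v ∈ V ⊓ Cfsg.pCore 2 G := ⟨hv, Cfsg.Agent.Lib.Cores.le_pCore hNp hvN⟩
        rwa [hbot, Subgroup.mem_bot] at this)
    obtain ⟨u, hu, hu1, huh⟩ := hS h v hv h2 h3
    refine ⟨h, h1, h2, h3, u, hu, hu1, fun e => h1 (hodd h2 ?_), huh⟩
    subst e
    rw [huh, mul_inv_cancel_right] at h3
    exact mul_eq_one_iff_eq_inv.mpr h3
  obtain ⟨a₀, ha₀, ha₀1⟩ : ∃ a ∈ V, a ≠ 1 := by
    by_contra hc
    push Not at hc
    exact hV1 ((Subgroup.eq_bot_iff_forall V).mpr hc)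
  obtain ⟨h, h1, hho, hha, u, hu, hu1, hua, huh⟩ := hex a₀ ha₀ ha₀1
  obtain ⟨k, k1, hko, hku, w, hw, hw1, hwu, hwk⟩ := hex u hu hu1
  -- `V` consists of `1, a₀, u, a₀ u`
  have hfour : ∀ x ∈ V, x = 1 ∨ x = a₀ ∨ x = u ∨ x = a₀ * u := by
    intro x hx
    by_contra hc
    push Not at hc
    obtain ⟨x1, x2, x3, x4⟩ := hc
    have hau1 : a₀ * u ≠ 1 := fun e => hua.symm (by
      rw [mul_eq_one_iff_eq_inv] at e
      rw [e, hinv u hu])
    classical
    have hsub : (({1, a₀, u, a₀ * u, x} : Finset G) : Set G) ⊆ (V : Set G) := by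
      intro y hy
      simp only [Finset.coe_insert, Finset.coe_singleton, Set.mem_insert_iff, Set.mem_singleton_iff] at hy
      rcases hy with rfl | rfl | rfl | rfl | rfl
      · exact V.one_mem
      · exact ha₀
      · exact hu
      · exact V.mul_mem ha₀ hu
      · exact hx
    have hle := Set.ncard_le_ncard hsub (Set.toFinite _)
    rw [Set.ncard_coe_finset, ← Nat.card_coe_set_eq] at hle
    have h5 : ({1, a₀, u, a₀ * u, x} : Finset G).card = 5 := by
      rw [Finset.card_insert_of_notMem, Finset.card_insert_of_notMem, Finset.card_insert_of_notMem,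
        Finset.card_insert_of_notMem, Finset.card_singleton] <;>
        simp only [Finset.mem_insert, Finset.mem_singleton, not_or]
      · exact fun e => x4 e.symm
      · exact ⟨fun e => ha₀1 (mul_eq_right.mp e.symm), fun e => x3 e.symm⟩
      · exact ⟨hua.symm, fun e => hu1 (mul_eq_left.mp e.symm), fun e => x2 e.symm⟩
      · exact ⟨ha₀1.symm, hu1.symm, hau1.symm, fun e => x1 e.symm⟩
    have : Nat.card ↥V = Nat.card ↑(V : Set G) := rfl
    omega
  -- `w` inverts `h`
  have hwh : w * h * w⁻¹ = h⁻¹ := by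
    rcases hfour w hw with rfl | rfl | rfl | rfl
    · exact absurd rfl hw1
    · exact hha
    · exact absurd rfl hwu
    · calc a₀ * u * h * (a₀ * u)⁻¹ = a₀ * (u * h) * u⁻¹ * a₀⁻¹ := by group
        _ = a₀ * (h * u) * u⁻¹ * a₀⁻¹ := by rw [huh]
        _ = a₀ * h * a₀⁻¹ := by group
        _ = h⁻¹ := hha
  have huw : u * w = w * u := Cfsg.Agent.Lib.PGroups.elemAb_comm hV hu hw
  have hvh : (u * w) * h * (u * w)⁻¹ = h⁻¹ := by
    calc (u * w) * h * (u * w)⁻¹ = u * (w * h * w⁻¹) * u⁻¹ := by group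
      _ = h⁻¹ := by rw [hwh, ((show Commute u h from huh).inv_right).eq, mul_inv_cancel_right]
  have hvk : (u * w) * k * (u * w)⁻¹ = k⁻¹ := by
    calc (u * w) * k * (u * w)⁻¹ = u * ((w * k) * w⁻¹) * u⁻¹ := by group
      _ = k⁻¹ := by rw [hwk, mul_inv_cancel_right, hku]
  -- the only candidates commuting with an element inverted by `u`
  have hcand : ∀ x ∈ V, x ≠ 1 → x = u ∨ x = w ∨ x = u * w := by
    intro x hx hx1
    rcases hfour w hw with e | e | e | e
    · exact absurd e hw1
    · rcases hfour x hx with f | f | f | f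
      · exact absurd f hx1
      · exact Or.inr (Or.inl (f.trans e.symm))
      · exact Or.inl f
      · exact Or.inr (Or.inr (by rw [f, huw, e]))
    · exact absurd e hwu
    · rcases hfour x hx with f | f | f | f
      · exact absurd f hx1
      · refine Or.inr (Or.inr ?_)
        rw [huw, e, mul_assoc, hsq u hu, mul_one, f]
      · exact Or.inl f
      · exact Or.inr (Or.inl (f.trans e.symm))
  -- `h` and `k` commute
  have hcomm : Commute h k := by
    have hfrom : Commute (h * h) k → Commute h k := by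
      intro hc
      obtain ⟨j, hj⟩ := hho
      have e : h = (h * h) ^ (j + 1) := by
        rw [← pow_two, ← pow_mul, show 2 * (j + 1) = (2 * j + 1) + 1 by ring, ← hj, pow_succ,
          pow_orderOf_eq_one, one_mul]
      rw [e]; exact hc.pow_left _
    have hu_h : Commute u h := huh
    have hx1 : u * (h⁻¹ * k * h) * u⁻¹ = (h⁻¹ * k * h)⁻¹ := by
      calc u * (h⁻¹ * k * h) * u⁻¹ = (u * h⁻¹) * k * (h * u⁻¹) := by group
        _ = (h⁻¹ * u) * k * (u⁻¹ * h) := by rw [hu_h.inv_right.eq, hu_h.inv_left.eq]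
        _ = h⁻¹ * (u * k * u⁻¹) * h := by group
        _ = _ := by rw [hku]; group
    have hxo : Odd (orderOf (h⁻¹ * k * h)) := by
      have e := orderOf_injective (MulAut.conj h⁻¹).toMonoidHom (MulAut.conj h⁻¹).injective k
      simp only [MulEquiv.coe_toMonoidHom, MulAut.conj_apply, inv_inv] at e
      rwa [e]
    obtain ⟨w', hw', hw'1, hw'x⟩ := hS _ u hu hxo hx1
    have hconj : (h * w' * h⁻¹) * k = k * (h * w' * h⁻¹) := by
      calc (h * w' * h⁻¹) * k = h * (w' * (h⁻¹ * k * h)) * h⁻¹ := by group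
        _ = h * ((h⁻¹ * k * h) * w') * h⁻¹ := by rw [hw'x]
        _ = _ := by group
    rcases hcand w' hw' hw'1 with e | e | e <;> subst e
    · exfalso
      rw [hu_h.symm.eq, mul_inv_cancel_right] at hconj
      rw [hconj, mul_inv_cancel_right] at hku
      exact k1 (hodd hko (mul_eq_one_iff_eq_inv.mpr hku))
    · refine hfrom ?_
      have e3 : h * w' * h⁻¹ = h * h * w' := by
        calc h * w' * h⁻¹ = h * (w' * h * w'⁻¹)⁻¹ * w' := by group
          _ = _ := by rw [hwh, inv_inv]
      rw [e3] at hconj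
      show h * h * k = k * (h * h)
      refine mul_right_cancel (b := w') ?_
      calc h * h * k * w' = h * h * (w' * k) := by rw [hwk]; group
        _ = (h * h * w') * k := by group
        _ = k * (h * h * w') := hconj
        _ = _ := by group
    · have e3 : h * (u * w) * h⁻¹ = h * h * (u * w) := by
        calc h * (u * w) * h⁻¹ = h * ((u * w) * h * (u * w)⁻¹)⁻¹ * (u * w) := by group
          _ = _ := by rw [hvh, inv_inv]
      rw [e3] at hconj
      have hinvk : h * h * k⁻¹ * (h * h)⁻¹ = k := by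
        rw [← hvk]
        calc h * h * (u * w * k * (u * w)⁻¹) * (h * h)⁻¹ = (h * h * (u * w) * k) * (u * w)⁻¹ * (h * h)⁻¹ := by group
          _ = (k * (h * h * (u * w))) * (u * w)⁻¹ * (h * h)⁻¹ := by rw [hconj]
          _ = k := by group
      have hinvk' : h * h * k * (h * h)⁻¹ = k⁻¹ := by
        calc h * h * k * (h * h)⁻¹ = (h * h * k⁻¹ * (h * h)⁻¹)⁻¹ := by simp [mul_assoc]
          _ = k⁻¹ := by rw [hinvk]
      have h4 : Commute ((h * h) * (h * h)) k := by
        show h * h * (h * h) * k = k * (h * h * (h * h))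
        calc h * h * (h * h) * k = h * h * (h * h * k * (h * h)⁻¹) * (h * h)⁻¹ * ((h * h) * (h * h)) := by group
          _ = h * h * k⁻¹ * (h * h)⁻¹ * ((h * h) * (h * h)) := by rw [hinvk']
          _ = _ := by rw [hinvk]
      refine hfrom ?_
      obtain ⟨j, hj⟩ := hho
      have e : h * h = ((h * h) * (h * h)) ^ (j + 1) := by
        rw [← pow_two, ← pow_two, ← pow_mul, ← pow_mul, show 2 * (2 * (j + 1)) = (2 * j + 1) * 2 + 2 by ring,
          ← hj, pow_add, pow_mul, pow_orderOf_eq_one, one_pow, one_mul]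
      rw [e]; exact h4.pow_left _
  -- the product is inverted by `u * w`
  have hz : (u * w) * (h * k) * (u * w)⁻¹ = (h * k)⁻¹ := by
    rw [mul_inv_rev h k, show (u * w) * (h * k) * (u * w)⁻¹ = ((u * w) * h * (u * w)⁻¹) * ((u * w) * k * (u * w)⁻¹) by group,
      hvh, hvk, hcomm.symm.inv_inv.eq]
  have hzo : Odd (orderOf (h * k)) :=
    (hho.mul hko).of_dvd_nat (hcomm.orderOf_mul_dvd_mul_orderOf)
  obtain ⟨x, hx, hx1, hxz⟩ := hS _ _ (V.mul_mem hu hw) hzo hz
  rcases hcand x hx hx1 with e | e | e <;> subst e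
  · have : x * k * x⁻¹ = k := by
      have h5 : x * (h * k) * x⁻¹ = h * k := by rw [hxz, mul_inv_cancel_right]
      rw [show x * (h * k) * x⁻¹ = (x * h) * (x⁻¹ * (x * k * x⁻¹)) by group, huh] at h5
      rw [show h * x * (x⁻¹ * (x * k * x⁻¹)) = h * (x * k * x⁻¹) by group] at h5
      exact mul_left_cancel h5
    rw [hku] at this
    exact k1 (hodd hko (mul_eq_one_iff_eq_inv.mpr this.symm))
  · have h5 : x * (h * k) * x⁻¹ = h * k := by rw [hxz, mul_inv_cancel_right]
    rw [show x * (h * k) * x⁻¹ = (x * h * x⁻¹) * ((x * k) * x⁻¹) by group, hwh, hwk, mul_inv_cancel_right] at h5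
    exact h1 (hodd hho (mul_eq_one_iff_eq_inv.mpr (mul_right_cancel h5).symm))
  · rw [hxz, mul_inv_cancel_right] at hz
    have hz1 : h * k = 1 := hodd hzo (mul_eq_one_iff_eq_inv.mpr hz)
    have hk' : k = h⁻¹ := (inv_eq_of_mul_eq_one_right hz1).symm
    rw [hk', inv_inv, ((show Commute u h from huh).inv_right).eq, mul_inv_cancel_right] at hku
    exact h1 (hodd hho (mul_eq_one_iff_eq_inv.mpr hku.symm))

end Cfsg.Agent.S3011
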