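import Cfsg.Statements.S3012
-- import your own Cfsg.Agent.* helpers here

set_option autoImplicit false
open Cfsg

namespace Cfsg.Agent.S3012

/-- Let G be a finite group, V a nontrivial elementary abelian 2-subgroup of G satisfying the Sidki pair condition (every odd-order element inverted by an element of V commutes with a nontrivial element of V), and K a normal subgroup of G with V ∩ K = 1. Then the image of V in G/K satisfies the Sidki pair condition in G/K. -/
theorem result {G : Type*} [Group G] [Finite G] (V K : Subgroup G) [K.Normal] (hV : Cfsg.IsElementaryAbelian 2 V) (hV1 : V ≠ ⊥) (hS : Cfsg.IsSidkiPair V) (hVK : V ⊓ K = ⊥) : Cfsg.IsSidkiPair (V.map (QuotientGroup.mk' K)) := by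
  intro hb vb hvb hodd hinv
  obtain ⟨v, hv, rfl⟩ := hvb
  obtain ⟨g, hg⟩ := QuotientGroup.mk'_surjective K (hb ^ ((orderOf hb + 1) / 2))
  set π := QuotientGroup.mk' K with hπ
  have hvv : v * v = 1 := by have := hV.2 v hv; rwa [pow_two] at this
  have hvi : v⁻¹ = v := inv_eq_of_mul_eq_one_right hvv
  have hb2 : hb ^ ((orderOf hb + 1) / 2) * hb ^ ((orderOf hb + 1) / 2) = hb := by
    rw [← pow_add, show (orderOf hb + 1) / 2 + (orderOf hb + 1) / 2 = orderOf hb + 1 by
      rcases hodd with ⟨k, hk⟩; omega, pow_succ, pow_orderOf_eq_one, one_mul]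
  set w := v * (g * v * g⁻¹) with hw
  have hwv : v * w * v⁻¹ = w⁻¹ := by
    rw [hw, mul_inv_rev, mul_inv_rev, mul_inv_rev, inv_inv, hvi]
    calc v * (v * (g * v * g⁻¹)) * v = (v * v) * (g * v * g⁻¹) * v := by group
      _ = _ := by rw [hvv]; group
  have hpw : π v * π g * (π v)⁻¹ = (π g)⁻¹ := by
    rw [hg, ← conj_pow, hinv, inv_pow]
  have himg : π w = hb⁻¹ := by
    have : π v * π g * π v = (π g)⁻¹ := by
      have e : (π v)⁻¹ = π v := by rw [← map_inv, hvi]
      rw [e] at hpw; exact hpw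
    calc π w = π v * π g * π v * (π g)⁻¹ := by simp only [hw, map_mul, map_inv, mul_assoc]
      _ = (π g * π g)⁻¹ := by rw [this, mul_inv_rev]
      _ = hb⁻¹ := by rw [hg, hb2]
  obtain ⟨k, r, hr, hkr⟩ := Nat.exists_eq_pow_mul_and_not_dvd (orderOf_pos w).ne' 2 (by norm_num)
  set e := (orderOf hb + 1) ^ k with he
  have h2e : 2 ^ k ∣ e := pow_dvd_pow_of_dvd (by rcases hodd with ⟨t, ht⟩; exact ⟨t + 1, by omega⟩) k
  have hho : Odd (orderOf (w ^ e)⁻¹) := by
    rw [orderOf_inv]
    have hd : orderOf (w ^ e) ∣ r := by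
      rw [orderOf_dvd_iff_pow_eq_one, ← pow_mul, ← orderOf_dvd_iff_pow_eq_one, hkr]
      exact Nat.mul_dvd_mul h2e dvd_rfl
    rw [← Nat.not_even_iff_odd, even_iff_two_dvd]
    exact fun hd2 => hr (hd2.trans hd)
  obtain ⟨u, hu, hu1, huh⟩ := hS (w ^ e)⁻¹ v hv hho (by
    rw [← conj_inv, ← conj_pow, hwv, inv_pow, inv_inv])
  refine ⟨π u, ⟨u, hu, rfl⟩, fun h1 => hu1 ?_, ?_⟩
  · have : u ∈ V ⊓ K := ⟨hu, (QuotientGroup.eq_one_iff u).mp h1⟩
    rw [hVK, Subgroup.mem_bot] at this; exact this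
  · have himg' : π (w ^ e)⁻¹ = hb := by
      rw [map_inv, map_pow, himg, inv_pow, inv_inv]
      have : e % orderOf hb = 1 % orderOf hb := by
        rw [he, Nat.pow_mod, Nat.add_mod_left, ← Nat.pow_mod, one_pow]
      rw [← pow_mod_orderOf, this, pow_mod_orderOf, pow_one]
    have h9 := congrArg π huh
    rw [map_mul, map_mul, himg'] at h9
    exact h9

end Cfsg.Agent.S3012
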