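import Cfsg.Statements.S3013
-- import your own Cfsg.Agent.* helpers here

set_option autoImplicit false
open Cfsg

namespace Cfsg.Agent.S3013

/-- Let G be a finite group and V a nontrivial elementary abelian 2-subgroup of G satisfying the Sidki pair condition. Let v ∈ V and let x be an element of odd order inverted by v, and put C = C_G(v) ∩ C_G(x), the centralizer of the dihedral subgroup generated by v and x. Then C ∩ V is nontrivial and satisfies the Sidki pair condition inside C: every odd-order element of C inverted by an element of C ∩ V commutes with a nontrivial element of C ∩ V. -/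
theorem result {G : Type*} [Group G] [Finite G] (V : Subgroup G) (hV : Cfsg.IsElementaryAbelian 2 V) (hV1 : V ≠ ⊥) (hS : Cfsg.IsSidkiPair V) (v x : G) (hv : v ∈ V) (hx : Odd (orderOf x)) (hinv : v * x * v⁻¹ = x⁻¹) (C : Subgroup G) (hC : C = Subgroup.centralizer ({v} : Set G) ⊓ Subgroup.centralizer ({x} : Set G)) : C ⊓ V ≠ ⊥ ∧ Cfsg.IsSidkiPair ((C ⊓ V).subgroupOf C) := by
  have hcm : ∀ y, y ∈ C ↔ y * v = v * y ∧ y * x = x * y := by
    intro y; rw [hC]; simp [Subgroup.mem_centralizer_singleton_iff]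
  have hVc : ∀ a ∈ V, ∀ b ∈ V, a * b = b * a := by
    intro a ha b hb
    haveI := hV.1
    exact congrArg Subtype.val (mul_comm' (⟨a, ha⟩ : ↥V) ⟨b, hb⟩)
  constructor
  · obtain ⟨w, hw, hw1, hwx⟩ := hS x v hv hx hinv
    intro h
    apply hw1
    have : w ∈ C ⊓ V := ⟨(hcm w).mpr ⟨hVc w hw v hv, hwx⟩, hw⟩
    rwa [h, Subgroup.mem_bot] at this
  · rintro ⟨h, hh⟩ ⟨v', hv'C⟩ hv' hodd hinv'
    have hv'V : v' ∈ V := hv'.2
    have hho : Odd (orderOf h) := by rwa [Subgroup.orderOf_mk] at hodd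
    have hi : v' * h * v'⁻¹ = h⁻¹ := congrArg Subtype.val hinv'
    obtain ⟨hhv, hhx⟩ := (hcm h).mp hh
    obtain ⟨hv'v, hv'x⟩ := (hcm v').mp hv'C
    have hodd2 : Odd (orderOf (h * x)) :=
      (hho.mul hx).of_dvd_nat (Commute.orderOf_mul_dvd_mul_orderOf hhx)
    have e1 : v * h * v⁻¹ = h := by rw [← hhv, mul_inv_cancel_right]
    have e2 : v' * x * v'⁻¹ = x := by rw [hv'x, mul_inv_cancel_right]
    have hinv2 : (v * v') * (h * x) * (v * v')⁻¹ = (h * x)⁻¹ := by
      calc (v * v') * (h * x) * (v * v')⁻¹ = v * ((v' * h * v'⁻¹) * (v' * x * v'⁻¹)) * v⁻¹ := by group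
        _ = (v * h * v⁻¹)⁻¹ * (v * x * v⁻¹) := by rw [hi, e2]; group
        _ = h⁻¹ * x⁻¹ := by rw [e1, hinv]
        _ = (h * x)⁻¹ := by rw [mul_inv_rev]; exact ((show Commute h x from hhx).inv_inv).eq
    obtain ⟨w, hw, hw1, hwhx⟩ := hS (h * x) (v * v') (V.mul_mem hv hv'V) hodd2 hinv2
    -- apply conjugation by `v`
    have hc1 : Commute w (h * x⁻¹) := by
      have h3 : (v * w * v⁻¹) * (v * (h * x) * v⁻¹) = (v * (h * x) * v⁻¹) * (v * w * v⁻¹) := by
        calc _ = v * (w * (h * x)) * v⁻¹ := by group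
          _ = v * ((h * x) * w) * v⁻¹ := by rw [hwhx]
          _ = _ := by group
      have e3 : v * w * v⁻¹ = w := by rw [← hVc w hw v hv, mul_inv_cancel_right]
      have e4 : v * (h * x) * v⁻¹ = h * x⁻¹ := by
        calc v * (h * x) * v⁻¹ = (v * h * v⁻¹) * (v * x * v⁻¹) := by group
          _ = _ := by rw [e1, hinv]
      rw [e3, e4] at h3
      exact h3
    have hc2 : Commute w (x ^ 2) := by
      have : x ^ 2 = (h * x⁻¹)⁻¹ * (h * x) := by rw [pow_two]; group
      rw [this]; exact hc1.inv_right.mul_right hwhx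
    have hc3 : Commute w x := by
      obtain ⟨k, hk⟩ := hx
      have : x = (x ^ 2) ^ (k + 1) := by
        rw [← pow_mul, show 2 * (k + 1) = orderOf x + 1 by omega, pow_succ, pow_orderOf_eq_one, one_mul]
      rw [this]; exact hc2.pow_right _
    have hc4 : Commute w h := by
      have : h = (h * x) * x⁻¹ := by group
      rw [this]; exact Commute.mul_right hwhx hc3.inv_right
    have hwC : w ∈ C := (hcm w).mpr ⟨hVc w hw v hv, hc3.eq⟩
    exact ⟨⟨w, hwC⟩, ⟨hwC, hw⟩, fun e => hw1 (congrArg Subtype.val e), Subtype.ext hc4.eq⟩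

end Cfsg.Agent.S3013
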