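import Cfsg.Statements.S3016
import Cfsg.Agent.Lib.ExtremeP.Main
import Cfsg.Agent.Lib.ExtremeP.FixedPoint

set_option autoImplicit false
set_option linter.style.haveILetI false
open Cfsg
open scoped Pointwise commutatorElement

namespace Cfsg.Agent.S3016

/-- Let G be a finite group, p an odd prime, and H an abelian p-subgroup of G that is extremely closed (for every g, the subgroup generated by H and g H g⁻¹ meets N_G(H) exactly in H). Then the normal closure of H meets N_G(H) exactly in H, and G = N_G(H) O_{p'}(G). -/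
theorem result {G : Type*} [Group G] [Finite G] {p : ℕ} [Fact p.Prime] (hp : p ≠ 2) (H : Subgroup G) (hHp : IsPGroup p H) (hHab : IsMulCommutative H) (hcl : Cfsg.IsExtremelyClosed H) : Subgroup.normalClosure (H : Set G) ⊓ Subgroup.normalizer (H : Set G) = H ∧ Subgroup.normalizer (H : Set G) ⊔ Cfsg.pPrimeCore p G = ⊤ := by
  have hh : Lib.ExtremeP.Hyp p H := ⟨hHp, hHab, hcl⟩
  have hcon : Subgroup.normalizer (H : Set G) ⊔ Cfsg.pPrimeCore p G = ⊤ :=
    Lib.ExtremeP.conclusion hp hh
  refine ⟨le_antisymm ?_ (le_inf Subgroup.subset_normalClosure Subgroup.le_normalizer), hcon⟩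
  set O := Cfsg.pPrimeCore p G with hO
  haveI : O.Normal := inferInstance
  have hOp : ¬ p ∣ Nat.card O :=
    (Fact.out : p.Prime).coprime_iff_not_dvd.mp (Lib.Cores.pPrimeCore_coprime p).symm
  set R := ⁅O, H⁆ with hR
  have hRO : R ≤ O := Lib.Coprime.commutator_le_of_le_normalizer Subgroup.le_normalizer_of_normal
  have hfix : R ⊓ Subgroup.centralizer (H : Set G) = ⊥ := by
    refine Lib.ExtremeP.fixed_points_trivial hp hHp hHab hOp Subgroup.le_normalizer_of_normal
      fun x _ => ?_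
    rw [eq_bot_iff]
    rintro a ⟨⟨haL, haO⟩, haC⟩
    have h1 : a ∈ (H ⊔ H.map (MulAut.conj x).toMonoidHom) ⊓ Subgroup.normalizer (H : Set G) :=
      ⟨haL, Subgroup.centralizer_le_normalizer _ haC⟩
    rw [hcl x] at h1
    exact Subgroup.mem_bot.mpr (Lib.ExtremeP.eq_one_of_mem_both hHp hOp h1 haO)
  have hWle : Subgroup.normalClosure (H : Set G) ≤ R ⊔ H := by
    refine (Subgroup.closure_le _).mpr fun y hy => ?_
    obtain ⟨h, hh', hconj⟩ := Group.mem_conjugatesOfSet_iff.mp hy
    obtain ⟨g, rfl⟩ := isConj_iff.mp hconj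
    have hg : g ∈ O ⊔ Subgroup.normalizer (H : Set G) := by
      rw [sup_comm, hcon]; trivial
    obtain ⟨o, ho, n, hn, rfl⟩ := Subgroup.mem_sup_of_normal_left.mp hg
    have hn' : n * h * n⁻¹ ∈ H := (Subgroup.mem_normalizer_iff.mp hn h).mp hh'
    have h1 := Subgroup.commutator_mem_commutator ho hn'
    have e : o * n * h * (o * n)⁻¹ = ⁅o, n * h * n⁻¹⁆ * (n * h * n⁻¹) := by
      rw [commutatorElement_def]; group
    rw [e]
    exact mul_mem (Subgroup.mem_sup_left h1) (Subgroup.mem_sup_right hn')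
  rintro x ⟨hxW, hxN⟩
  have hxRH : x ∈ ((R : Set G) * (H : Set G)) := by
    rw [← Subgroup.coe_mul_of_right_le_normalizer_left R H
      (Lib.Coprime.right_le_normalizer_commutator O H)]
    exact hWle hxW
  obtain ⟨r, hr, h, hh', rfl⟩ := hxRH
  have hrN : r ∈ Subgroup.normalizer (H : Set G) := by
    have h1 := Subgroup.mul_mem _ hxN (Subgroup.le_normalizer (H.inv_mem hh'))
    simpa [mul_assoc] using h1
  have hrC : r ∈ Subgroup.centralizer (H : Set G) := by
    refine Subgroup.mem_centralizer_iff.mpr fun a ha => ?_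
    have h1 : r * a * r⁻¹ * a⁻¹ = 1 := by
      refine Lib.ExtremeP.eq_one_of_mem_both hHp hOp
        (H.mul_mem ((Subgroup.mem_normalizer_iff.mp hrN a).mp ha) (H.inv_mem ha)) ?_
      rw [mul_assoc r, mul_assoc r]
      exact O.mul_mem (hRO hr) (‹O.Normal›.conj_mem _ (O.inv_mem (hRO hr)) a)
    rw [mul_inv_eq_one, mul_inv_eq_iff_eq_mul] at h1
    exact h1.symm
  have h2 : r ∈ (⊥ : Subgroup G) := hfix ▸ ⟨hr, hrC⟩
  rw [Subgroup.mem_bot] at h2
  simpa [h2] using hh'

end Cfsg.Agent.S3016
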