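import Cfsg.Statements.S3023
import Cfsg.Agent.Lib.CharP.Basic
import Cfsg.Agent.Lib.SylowInter.CharLocal
import Cfsg.Agent.Lib.LAEven54.SylowJoin
import Cfsg.Agent.Lib.PGroups.Omega

set_option autoImplicit false
open Cfsg

namespace Cfsg.Agent.S3023

open Subgroup Cfsg.Agent.Lib Cfsg.Agent.Lib.CosetGraph.SylowIn

/-- Let p be a prime, G a finite group of parabolic characteristic p (every p-local subgroup containing a Sylow p-subgroup of G has characteristic p), S a Sylow p-subgroup of G and G₁ a subnormal subgroup of G. If the centre of S ∩ G₁ is nontrivial and contained in the centre of S, then G₁ has parabolic characteristic p. -/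
theorem result {G : Type*} [Group G] [Finite G] {p : ℕ} [Fact p.Prime] (hG : Cfsg.IsOfParabolicCharacteristic p G) (S : Sylow p G) (G₁ : Subgroup G) (hsn : G₁.IsSubnormal) (hne : ((S : Subgroup G) ⊓ G₁) ⊓ Subgroup.centralizer (((S : Subgroup G) ⊓ G₁ : Subgroup G) : Set G) ≠ ⊥) (hle : ((S : Subgroup G) ⊓ G₁) ⊓ Subgroup.centralizer (((S : Subgroup G) ⊓ G₁ : Subgroup G) : Set G) ≤ (S : Subgroup G) ⊓ Subgroup.centralizer ((S : Subgroup G) : Set G)) : Cfsg.IsOfParabolicCharacteristic p ↥G₁ := by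
  classical
  intro R hRp hR1 hpar
  obtain ⟨T, hT⟩ := hpar
  set N := normalizer (R : Set ↥G₁) with hN
  -- `R` lies in `T`, and meets its centre
  have hTN : (T : Subgroup ↥G₁) ≤ normalizer (R : Set ↥G₁) := hT
  have hRT : R ≤ (T : Subgroup ↥G₁) :=
    (le_sup_right).trans (T.is_maximal' (T.isPGroup'.to_sup_of_normal_right' hRp hTN) le_sup_left).le
  set Z₀ := R ⊓ centralizer ((T : Subgroup ↥G₁) : Set ↥G₁) with hZ₀
  have hZ₀ne : Z₀ ≠ ⊥ := by
    haveI : (R.subgroupOf (T : Subgroup ↥G₁)).Normal := (normal_subgroupOf_iff_le_normalizer hRT).2 hTN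
    have hne : R.subgroupOf (T : Subgroup ↥G₁) ≠ ⊥ := fun h => hR1 (by
      rw [← map_subgroupOf_eq_of_le hRT, h, Subgroup.map_bot])
    have h0 := PGroups.normal_inf_center_ne_bot T.isPGroup' (R.subgroupOf (T : Subgroup ↥G₁)) hne
    intro h
    refine h0 ((Subgroup.eq_bot_iff_forall _).2 fun x hx => Subtype.ext ?_)
    have : (x : ↥G₁) ∈ Z₀ := ⟨hx.1, mem_centralizer_iff.2 fun t ht =>
      congrArg Subtype.val (mem_center_iff.1 hx.2 ⟨t, ht⟩)⟩
    rw [h] at this
    exact Subgroup.mem_bot.1 this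
  -- `Z₀` is central in a Sylow subgroup of `G`
  set Z := Z₀.map G₁.subtype with hZ
  obtain ⟨g, hgG, hg⟩ := IsSylowIn.exists_conj (LAEven54.SylowJoin.isSylowIn_inf S hsn)
    (isSylowIn_map_sylow T)
  have hLpar : Cfsg.IsParabolic p (normalizer (Z : Set G)) := by
    refine ⟨g • S, fun u hu => centralizer_le_normalizer _ (mem_centralizer_iff.2 ?_)⟩
    rintro _ ⟨z, hz, rfl⟩
    obtain ⟨s, hs, rfl⟩ := (show u ∈ (S : Subgroup G).map (MulAut.conj g).toMonoidHom from hu)
    obtain ⟨y, hy, hyz⟩ : (z : G) ∈ ((S : Subgroup G) ⊓ G₁).map (MulAut.conj g).toMonoidHom := by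
      rw [hg]; exact ⟨z, hRT hz.1, rfl⟩
    have hyZ : y ∈ ((S : Subgroup G) ⊓ G₁) ⊓ centralizer (((S : Subgroup G) ⊓ G₁ : Subgroup G) : Set G) := by
      refine ⟨hy, mem_centralizer_iff.2 fun t ht => (MulAut.conj g).injective ?_⟩
      have ht' : (MulAut.conj g) t ∈ (T : Subgroup ↥G₁).map G₁.subtype := hg ▸ ⟨t, ht, rfl⟩
      obtain ⟨t', ht', htt⟩ := ht'
      rw [map_mul, map_mul, show (MulAut.conj g) y = (z : G) from hyz, ← htt]
      exact congrArg Subtype.val (mem_centralizer_iff.1 hz.2 t' ht')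
    have h1 := mem_centralizer_iff.1 (hle hyZ).2 s hs
    show (z : G) * (MulAut.conj g) s = (MulAut.conj g) s * (z : G)
    rw [← hyz]
    show (MulAut.conj g) y * (MulAut.conj g) s = (MulAut.conj g) s * (MulAut.conj g) y
    rw [← map_mul, ← map_mul, h1]
  have hZp : IsPGroup p Z := ((hRp.to_le inf_le_left).map _)
  have hLchar := hG Z hZp (fun h => hZ₀ne ((map_eq_bot_iff_of_injective _ G₁.subtype_injective).1 h)) hLpar
  -- so `N_{G₁}(Z₀)` has characteristic `p`
  set L₁ := normalizer (Z₀ : Set ↥G₁) with hL₁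
  have hmemL : ∀ x : ↥G₁, x ∈ L₁ ↔ (x : G) ∈ normalizer (Z : Set G) := by
    intro x
    rw [hL₁, mem_normalizer_iff, mem_normalizer_iff]
    constructor
    · intro h a
      constructor
      · rintro ⟨b, hb, rfl⟩
        exact ⟨_, (h b).1 hb, by simp⟩
      · rintro ⟨b, hb, hba⟩
        have ha : a ∈ G₁ := by
          have h1 : (x : G) * a * (x : G)⁻¹ ∈ G₁ := hba ▸ b.2
          have h2 := mul_mem (mul_mem (inv_mem x.2) h1) x.2
          simpa [mul_assoc] using h2
        refine ⟨⟨a, ha⟩, (h ⟨a, ha⟩).2 ?_, rfl⟩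
        rwa [show x * ⟨a, ha⟩ * x⁻¹ = b from Subtype.ext hba.symm]
    · intro h b
      refine ⟨fun hb => ?_, fun hb => ?_⟩
      · obtain ⟨c, hc, hcb⟩ := (h b).1 ⟨b, hb, rfl⟩
        rwa [show x * b * x⁻¹ = c from Subtype.ext hcb.symm]
      · obtain ⟨c, hc, hcb⟩ := (h b).2 ⟨_, hb, by simp⟩
        rwa [show b = c from Subtype.ext hcb.symm]
  have hL₁char : centralizer (Cfsg.pCore p ↥L₁ : Set ↥L₁) ≤ Cfsg.pCore p ↥L₁ := by
    refine SylowInter.CharLocal.charP_congr ?_
      (CharP.charP_of_isSubnormal hLchar (hsn.subgroupOf (K := normalizer (Z : Set G))))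
    exact
      { toFun := fun x => ⟨⟨x.1.1, x.2⟩, (hmemL _).2 x.1.2⟩
        invFun := fun x => ⟨⟨x.1.1, (hmemL _).1 x.2⟩, x.1.2⟩
        left_inv := fun x => rfl
        right_inv := fun x => rfl
        map_mul' := fun x y => rfl }
  have hTL₁ : (T : Subgroup ↥G₁) ≤ L₁ := fun t ht => centralizer_le_normalizer _
    (mem_centralizer_iff.2 fun z hz => (mem_centralizer_iff.1 hz.2 t ht).symm)
  have hXchar := CharP.charP_normalizer hL₁char (hRT.trans hTL₁) hRp
  have hRN : R ≤ Cfsg.pCoreOf p N :=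
    CharP.le_pCoreOf hRp le_normalizer le_rfl
  -- the centraliser of `O_p(N)`
  set K := centralizer (Cfsg.pCore p ↥N : Set ↥N) with hK
  haveI : K.Normal := inferInstance
  have hKX : K.map N.subtype ≤ L₁ ⊓ N := by
    rintro _ ⟨k, hk, rfl⟩
    refine ⟨centralizer_le_normalizer _ (mem_centralizer_iff.2 fun z hz => ?_), k.2⟩
    obtain ⟨z', hz', rfl⟩ := hRN hz.1
    exact congrArg Subtype.val (mem_centralizer_iff.1 hk z' hz')
  have hKn : L₁ ⊓ N ≤ normalizer ((K.map N.subtype : Subgroup ↥G₁) : Set ↥G₁) := by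
    refine inf_le_right.trans ((normal_subgroupOf_iff_le_normalizer (map_subtype_le K)).1 ?_)
    rw [show (K.map N.subtype).subgroupOf N = K from comap_map_eq_self_of_injective N.subtype_injective K]
    infer_instance
  have hKchar : centralizer (Cfsg.pCore p ↥K : Set ↥K) ≤ Cfsg.pCore p ↥K :=
    SylowInter.CharLocal.charP_congr (K.equivMapOfInjective N.subtype N.subtype_injective).symm
      (CharP.charP_of_normal_le hXchar hKX hKn)
  have hKle : (Cfsg.pCore p ↥K).map K.subtype ≤ Cfsg.pCore p ↥N := by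
    rw [Cores.map_subtype_pCore]; exact inf_le_right
  show K ≤ Cfsg.pCore p ↥N
  refine le_trans ?_ hKle
  intro x hx
  refine ⟨⟨x, hx⟩, hKchar (mem_centralizer_iff.2 fun y hy => Subtype.ext ?_), rfl⟩
  exact mem_centralizer_iff.1 hx (y : ↥N) (hKle ⟨y, hy, rfl⟩)

end Cfsg.Agent.S3023
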