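import Cfsg.Statements.S3025
import Cfsg.Agent.Lib.LA5.Basic
import Cfsg.Agent.Lib.PGroups.UniqueInvolution
import Mathlib.RingTheory.ZMod.UnitsCyclic
-- import your own Cfsg.Agent.* helpers here

set_option autoImplicit false
open Cfsg

namespace Cfsg.Agent.S3025

open Subgroup Cfsg.Agent.Lib Cfsg.Agent.Lib.LA5.Basic

/-- Let F be a finite group and H a nontrivial subgroup of F that is contained in every nontrivial subgroup of F which H normalizes. Then F has a nontrivial normal subgroup N contained in every nontrivial normal subgroup of F (a unique minimal normal subgroup), N is simple, and one of the following holds: C_F(N) = 1; or H = N has prime order p, C_F(N) is cyclic of order a power of p, and F/C_F(N) is cyclic of order dividing p − 1; or H = N has order 2, N is central in F, and F is a generalized quaternion group. -/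
theorem result {F : Type*} [Group F] [Finite F] (H : Subgroup F) (hH : H ≠ ⊥)
    (hmin : ∀ R : Subgroup F, R ≠ ⊥ → H ≤ Subgroup.normalizer (R : Set F) → H ≤ R) :
    ∃ N : Subgroup F, N.Normal ∧ N ≠ ⊥ ∧ (∀ M : Subgroup F, M.Normal → M ≠ ⊥ → N ≤ M) ∧ IsSimpleGroup ↥N ∧
      (Subgroup.centralizer (N : Set F) = ⊥ ∨
       (H = N ∧ (Nat.card N).Prime ∧ IsCyclic ↥(Subgroup.centralizer (N : Set F)) ∧
          (∃ k : ℕ, 1 ≤ k ∧ Nat.card ↥(Subgroup.centralizer (N : Set F)) = Nat.card N ^ k) ∧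
          (∃ g : F, Subgroup.centralizer (N : Set F) ⊔ Subgroup.zpowers g = ⊤) ∧
          (Subgroup.centralizer (N : Set F)).index ∣ Nat.card N - 1) ∨
       (H = N ∧ Nat.card N = 2 ∧ Subgroup.centralizer (N : Set F) = ⊤ ∧
          ∃ k : ℕ, 1 ≤ k ∧ Nonempty (F ≃* QuaternionGroup (2 ^ k)))) := by
  classical
  obtain ⟨h₀, hh₀⟩ := H.ne_bot_iff_exists_ne_one.1 hH
  set N : Subgroup F := sInf {M : Subgroup F | M.Normal ∧ M ≠ ⊥} with hN
  have hNle : ∀ M : Subgroup F, M.Normal → M ≠ ⊥ → N ≤ M := fun M h1 h2 => sInf_le ⟨h1, h2⟩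
  have hNn : N.Normal := ⟨fun x hx g => mem_sInf.2 fun M hM => hM.1.conj_mem x (mem_sInf.1 hx M hM) g⟩
  have hHN : H ≤ N := le_sInf fun M hM => hmin M hM.2 (by
    haveI := hM.1
    rw [normalizer_eq_top]; exact le_top)
  have hNne : N ≠ ⊥ := fun h => hH (le_bot_iff.1 (h ▸ hHN))
  haveI : Nontrivial N := (nontrivial_iff_ne_bot N).2 hNne
  set L : Subgroup F := sInf {M : Subgroup F | M ≠ ⊥ ∧ N ≤ normalizer (M : Set F)} with hL
  have hLn : L.Normal := ⟨fun x hx g => mem_sInf.2 fun M hM => by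
    have := mem_sInf.1 hx (M.map (MulAut.conj g⁻¹).toMonoidHom) ⟨?_, ?_⟩
    · rw [mem_conj_iff, inv_inv] at this; exact this
    · rw [Ne, map_eq_bot_iff_of_injective _ (MulAut.conj g⁻¹).injective]; exact hM.1
    · intro n hn
      have h1 : g * n * g⁻¹ ∈ normalizer (M : Set F) := hM.2 (hNn.conj_mem n hn g)
      rw [mem_normalizer_iff_conj_eq] at h1 ⊢
      rw [map_conj_mul]
      conv_rhs => rw [← h1, map_conj_mul]
      congr 3
      group⟩
  have hHL : H ≤ L := le_sInf fun M hM => hmin M hM.1 (hHN.trans hM.2)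
  have hNL : N ≤ L := hNle L hLn fun h => hH (le_bot_iff.1 (h ▸ hHL))
  have hsimple : IsSimpleGroup N := by
    refine ⟨fun M hM => ?_⟩
    by_cases hMb : M = ⊥
    · exact Or.inl hMb
    refine Or.inr (eq_top_iff.2 fun x _ => ?_)
    have h1 : N ≤ M.map N.subtype := hNL.trans (sInf_le ⟨by
      rwa [Ne, map_eq_bot_iff_of_injective _ N.subtype_injective], fun n hn => ?_⟩)
    · obtain ⟨y, hy, hyx⟩ := h1 x.2
      exact (Subtype.ext hyx : y = x) ▸ hy
    · apply mem_normalizer_iff_conj_eq.2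
      refine conj_eq_self_of_le ?_
      rintro _ ⟨_, ⟨y, hy, rfl⟩, rfl⟩
      exact ⟨_, hM.conj_mem y hy ⟨n, hn⟩, rfl⟩
  refine ⟨N, hNn, hNne, hNle, hsimple, ?_⟩
  set C := centralizer (N : Set F) with hC
  by_cases hCb : C = ⊥
  · exact Or.inl hCb
  right
  haveI : C.Normal := by rw [hC]; infer_instance
  have hNC : N ≤ C := hNle C inferInstance hCb
  letI : CommGroup N := { (inferInstance : Group N) with
    mul_comm := fun a b => Subtype.ext (mem_centralizer_iff.1 (hNC b.2) a a.2) }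
  set p := Nat.card N with hp
  have hpp : p.Prime := IsSimpleGroup.prime_card
  haveI : Fact p.Prime := ⟨hpp⟩
  have hHeq : H = N := eq_of_le_of_card_ge hHN (by
    rcases (Nat.dvd_prime hpp).1 (card_dvd_of_le hHN) with h | h
    · exact absurd (eq_bot_of_card_eq H h) hH
    · exact h.ge)
  have hsub : ∀ x ∈ C, x ≠ 1 → N ≤ zpowers x := by
    intro x hx hx1
    rw [← hHeq]
    refine hmin _ (fun h => hx1 (zpowers_eq_bot.1 h)) (hHN.trans ?_)
    refine le_trans ?_ (centralizer_le_normalizer _)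
    rw [le_centralizer_iff]
    exact zpowers_le.2 hx
  have hCp : IsPGroup p C := by
    obtain hC1 := (Nat.card_pos (α := C)).ne'
    refine IsPGroup.of_card (n := (Nat.card C).primeFactorsList.length) (Nat.eq_prime_pow_of_unique_prime_dvd hC1 ?_)
    intro q hq hqd
    haveI : Fact q.Prime := ⟨hq⟩
    obtain ⟨x, hx⟩ := exists_prime_orderOf_dvd_card' q hqd
    rw [← Subgroup.orderOf_coe] at hx
    have h1 := card_dvd_of_le (hsub x x.2 fun h => hq.one_lt.ne (by rw [← hx, h, orderOf_one]))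
    rw [Nat.card_zpowers, hx] at h1
    exact ((Nat.prime_dvd_prime_iff_eq hpp hq).1 h1).symm
  obtain ⟨k, hk⟩ := hCp.exists_card_eq
  have hk1 : 1 ≤ k := Nat.one_le_iff_ne_zero.2 fun h => hCb (eq_bot_of_card_eq C (by rw [hk, h, pow_zero]))
  have hu : ∀ x y : C, orderOf x = p → orderOf y = p → y ∈ zpowers x := by
    intro x y hx hy
    have key : ∀ z : C, orderOf z = p → N = zpowers (z : F) := fun z hz =>
      eq_of_le_of_card_ge (hsub z z.2 fun h => hpp.one_lt.ne (by
        rw [← hz, ← Subgroup.orderOf_coe, h, orderOf_one])) (by rw [Nat.card_zpowers, Subgroup.orderOf_coe, hz])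
    have : (y : F) ∈ zpowers (x : F) := by rw [← key x hx, key y hy]; exact mem_zpowers _
    obtain ⟨i, hi⟩ := this
    exact ⟨i, Subtype.ext (by simpa using hi)⟩
  -- the action on `N`
  let ψ : F →* MulAut N := MulAut.conjNormal
  have hker : ψ.ker = C := by
    ext x
    simp only [MonoidHom.mem_ker, ψ, DFunLike.ext_iff, MulAut.one_apply, Subtype.ext_iff,
      MulAut.conjNormal_apply, hC, mem_centralizer_iff, mul_inv_eq_iff_eq_mul]
    exact ⟨fun h n hn => (h ⟨n, hn⟩).symm, fun h n => (h n n.2).symm⟩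
  haveI : IsCyclic N := isCyclic_of_prime_card hp.symm
  haveI : IsCyclic (MulAut N) := by
    haveI : IsCyclic (ZMod (Nat.card N))ˣ := ZMod.isCyclic_units_prime hpp
    exact isCyclic_of_surjective (IsCyclic.mulAutMulEquiv N).symm (IsCyclic.mulAutMulEquiv N).symm.surjective
  have hidx : C.index ∣ p - 1 := by
    rw [← hker, index_ker]
    refine (card_subgroup_dvd_card ψ.range).trans (dvd_of_eq ?_)
    rw [IsCyclic.card_mulAut, ← hp, Nat.totient_prime hpp]
  rcases PGroups.isCyclic_or_quaternion hCp hu with hcyc | ⟨hp2, n, hn, ⟨e⟩⟩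
  · refine Or.inl ⟨hHeq, hpp, hcyc, ⟨k, hk1, hk⟩, ?_, hidx⟩
    obtain ⟨⟨_, g, rfl⟩, hg⟩ := IsCyclic.exists_generator (α := ψ.range)
    refine ⟨g, eq_top_iff.2 fun y _ => ?_⟩
    obtain ⟨i, hi⟩ := hg ⟨ψ y, y, rfl⟩
    have h1 : ψ g ^ i = ψ y := congrArg Subtype.val hi
    have h2 : y * (g ^ i)⁻¹ ∈ C := by
      rw [← hker, MonoidHom.mem_ker, map_mul, map_inv, map_zpow, h1, mul_inv_cancel]
    have h3 := mul_mem (mem_sup_left h2 : y * (g ^ i)⁻¹ ∈ C ⊔ zpowers g) (mem_sup_right (zpow_mem (mem_zpowers g) i))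
    simpa using h3
  · have hCtop : C = ⊤ := index_eq_one.1 (Nat.dvd_one.1 (by rw [hp2] at hidx; simpa using hidx))
    exact Or.inr ⟨hHeq, hp2, hCtop, n, hn, ⟨(topEquiv.symm.trans (MulEquiv.subgroupCongr hCtop.symm)).trans e⟩⟩

end Cfsg.Agent.S3025
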