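import Cfsg.Statements.S3027
import Cfsg.Agent.Lib.LA5.Basic

set_option autoImplicit false
open Cfsg

namespace Cfsg.Agent.S3027

open Cfsg.Agent.Lib.LA5.Basic

/-- Let G be a finite group and D a normal subgroup of G such that G/D is perfect (that is, G = G′D). Then among the subnormal subgroups B of G with BD = G there is a least one, and it is normal in G. -/
theorem result {G : Type*} [Group G] [Finite G] (D : Subgroup G) [D.Normal] (hperf : ⁅(⊤ : Subgroup G), (⊤ : Subgroup G)⁆ ⊔ D = ⊤) :
    ∃ B : Subgroup G, B.Normal ∧ B ⊔ D = ⊤ ∧ ∀ B' : Subgroup G, B'.IsSubnormal → B' ⊔ D = ⊤ → B ≤ B' := by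
  classical
  have key : ∀ X Y : Subgroup G, X ⊔ D = ⊤ → Y ⊔ D = ⊤ → ⁅X, Y⁆ ⊔ D = ⊤ := by
    intro X Y hX hY
    have hD : (QuotientGroup.mk' D).ker = D := QuotientGroup.ker_mk' D
    have hm : ∀ Z : Subgroup G, Z ⊔ D = ⊤ ↔ Z.map (QuotientGroup.mk' D) = ⊤ := by
      intro Z
      have h1 : (Z.map (QuotientGroup.mk' D)).comap (QuotientGroup.mk' D) = Z ⊔ D := by
        rw [Subgroup.comap_map_eq, hD]
      constructor
      · intro hZ
        rw [← Subgroup.map_comap_eq_self_of_surjective (QuotientGroup.mk'_surjective D)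
          (Z.map (QuotientGroup.mk' D)), h1, hZ, Subgroup.map_top_of_surjective _ (QuotientGroup.mk'_surjective D)]
      · intro hZ
        rw [← h1, hZ, Subgroup.comap_top]
    rw [hm, Subgroup.map_commutator, (hm X).mp hX, (hm Y).mp hY]
    rw [← Subgroup.map_top_of_surjective _ (QuotientGroup.mk'_surjective D), ← Subgroup.map_commutator]
    rw [(hm _).mp hperf, Subgroup.map_top_of_surjective _ (QuotientGroup.mk'_surjective D)]
  obtain ⟨B, ⟨hBn, hBD⟩, hmin⟩ := Set.Finite.exists_minimalFor (id : Subgroup G → Subgroup G)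
    {B : Subgroup G | B.Normal ∧ B ⊔ D = ⊤} (Set.toFinite _) ⟨⊤, inferInstance, top_sup_eq D⟩
  refine ⟨B, hBn, hBD, fun B' hsn => ?_⟩
  induction hsn with
  | top => exact fun _ => le_top
  | step H K hle _ hN ih =>
    intro hHD
    have hBK : B ≤ K := ih (by
      rw [eq_top_iff, ← hHD]
      exact sup_le_sup_right hle _)
    have hKN : K ≤ Subgroup.normalizer (H : Set G) :=
      (Subgroup.normal_subgroupOf_iff_le_normalizer hle).mp hN
    let P : Subgroup G → Prop := fun X => B ≤ Subgroup.normalizer (X : Set G) ∧ (B ⊓ X) ⊔ D = ⊤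
    have hinter : ∀ X Y : Subgroup G, B ≤ Subgroup.normalizer (X : Set G) →
        B ≤ Subgroup.normalizer (Y : Set G) → X ⊔ D = ⊤ → Y ⊔ D = ⊤ → X ≤ B →
        (X ⊓ Y) ⊔ D = ⊤ := by
      intro X Y hXn hYn hXD hYD hXB
      rw [eq_top_iff]
      refine le_of_eq_of_le (key X (B ⊓ Y) hXD ?_).symm (sup_le_sup_right ?_ _)
      · rw [eq_top_iff]
        refine le_of_eq_of_le (key B Y hBD hYD).symm (sup_le_sup_right ?_ _)
        rw [Subgroup.commutator_le]
        intro b hb y hy
        refine ⟨?_, ?_⟩
        · have h1 := hBn.conj_mem b⁻¹ (inv_mem hb) y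
          have h2 := B.mul_mem hb h1
          simpa [commutatorElement_def, mul_assoc] using h2
        · have h1 := (Subgroup.mem_normalizer_iff.mp (hYn hb) y).mp hy
          have h2 := Y.mul_mem h1 (Y.inv_mem hy)
          simpa [commutatorElement_def, mul_assoc] using h2
      · rw [Subgroup.commutator_le]
        intro x hx y hy
        refine ⟨?_, ?_⟩
        · have h1 := (Subgroup.mem_normalizer_iff.mp (hXn hy.1) x⁻¹).mp (inv_mem hx)
          have h2 := X.mul_mem hx h1
          simpa [commutatorElement_def, mul_assoc] using h2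
        · have h1 := (Subgroup.mem_normalizer_iff.mp (hYn (hXB hx)) y).mp hy.2
          have h2 := Y.mul_mem h1 (Y.inv_mem hy.2)
          simpa [commutatorElement_def, mul_assoc] using h2
    have hfin : ∀ s : Finset G, P (s.inf fun g => H.map (MulAut.conj g).toMonoidHom) := by
      intro s
      induction s using Finset.induction_on with
      | empty =>
        refine ⟨?_, ?_⟩
        · intro b _
          rw [Finset.inf_empty, mem_normalizer_iff_conj_eq]
          exact Subgroup.map_top_of_surjective _ (MulAut.conj b).surjective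
        · simpa using hBD
      | @insert g s _ ihs =>
        have hn : B ≤ Subgroup.normalizer ((H.map (MulAut.conj g).toMonoidHom : Subgroup G) : Set G) := by
          intro b hb
          rw [mem_normalizer_iff_conj_eq, map_conj_mul]
          have hb' : g⁻¹ * b * g ∈ Subgroup.normalizer (H : Set G) := by
            have := hBn.conj_mem b hb g⁻¹
            rw [inv_inv] at this
            exact hKN (hBK this)
          conv_rhs => rw [← mem_normalizer_iff_conj_eq.mp hb', map_conj_mul]
          simp [mul_assoc]
        have hd : H.map (MulAut.conj g).toMonoidHom ⊔ D = ⊤ := by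
          have := congrArg (Subgroup.map (MulAut.conj g).toMonoidHom) hHD
          rw [Subgroup.map_sup, Subgroup.map_top_of_surjective _ (MulAut.conj g).surjective] at this
          have e : D.map (MulAut.conj g).toMonoidHom = D := Subgroup.Normal.map_conj_eq D g
          rwa [e] at this
        rw [Finset.inf_insert]
        set I := s.inf fun g => H.map (MulAut.conj g).toMonoidHom
        refine ⟨?_, ?_⟩
        · intro b hb
          rw [mem_normalizer_iff_conj_eq, Subgroup.map_inf _ _ _ (MulAut.conj b).injective,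
            mem_normalizer_iff_conj_eq.mp (hn hb), mem_normalizer_iff_conj_eq.mp (ihs.1 hb)]
        · rw [inf_left_comm, inf_comm]
          refine hinter (B ⊓ I) _ ?_ hn ihs.2 hd inf_le_left
          intro b hb
          rw [mem_normalizer_iff_conj_eq, Subgroup.map_inf _ _ _ (MulAut.conj b).injective,
            mem_normalizer_iff_conj_eq.mp (ihs.1 hb),
            mem_normalizer_iff_conj_eq.mp (Subgroup.le_normalizer hb)]
    haveI := Fintype.ofFinite G
    obtain ⟨-, hPD⟩ := hfin Finset.univ
    have hmem : ∀ x, x ∈ (Finset.univ.inf fun g => H.map (MulAut.conj g).toMonoidHom) ↔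
        ∀ g : G, x ∈ H.map (MulAut.conj g).toMonoidHom := by
      intro x
      rw [← Subgroup.zpowers_le, Finset.le_inf_iff]
      simp only [Subgroup.zpowers_le, Finset.mem_univ, forall_const]
    have hnorm : (B ⊓ Finset.univ.inf fun g => H.map (MulAut.conj g).toMonoidHom).Normal := by
      refine ⟨fun x hx a => ⟨hBn.conj_mem x hx.1 a, ?_⟩⟩
      refine (hmem _).mpr fun g => ?_
      have h2 := mem_conj_iff.mp ((hmem x).mp hx.2 (a⁻¹ * g))
      rw [mem_conj_iff]
      simpa [mul_assoc] using h2
    refine (hmin ⟨hnorm, hPD⟩ inf_le_left).trans (inf_le_right.trans ?_)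
    intro x hx
    have := (hmem x).mp hx 1
    rwa [map_conj_one] at this

end Cfsg.Agent.S3027
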