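import Cfsg.Statements.S3031
import Cfsg.Agent.Lib.LA5.HSub.Fusion

set_option autoImplicit false
open Cfsg

namespace Cfsg.Agent.S3031

open Cfsg.Agent.Lib.LA5.HSub

/-- Let G be a finite group, p the smallest prime dividing |G| and P a Sylow p-subgroup. Suppose that P is cyclic, or that P has a subgroup D with 1 < |D| < |P| such that every subgroup E of P of order |D|, and also every subgroup E of P of order 4 when |D| = 2, satisfies g E g⁻¹ ∩ N_G(E) ≤ E for all g ∈ G (E is strongly closed in its normalizer with respect to G). Then G has a normal p-complement. -/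
theorem result {G : Type*} [Group G] [Finite G] {p : ℕ} [Fact p.Prime] (hdiv : p ∣ Nat.card G)
    (hmin : ∀ q : ℕ, q.Prime → q ∣ Nat.card G → p ≤ q) (P : Sylow p G)
    (h : IsCyclic ↥(P : Subgroup G) ∨ ∃ D : Subgroup G, D ≤ (P : Subgroup G) ∧ 1 < Nat.card D ∧ Nat.card D < Nat.card (P : Subgroup G) ∧
      ∀ E : Subgroup G, E ≤ (P : Subgroup G) → (Nat.card E = Nat.card D ∨ (Nat.card D = 2 ∧ Nat.card E = 4)) →
        ∀ g : G, E.map (MulAut.conj g).toMonoidHom ⊓ Subgroup.normalizer (E : Set G) ≤ E) :
    Cfsg.HasNormalPComplement p G := by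
  rcases h with hcyc | ⟨D, hDP, hD1, hDP', hE⟩
  · -- cyclic: every normalised `p`-subgroup is cyclic
    refine Cfsg.Agent.Lib.Transfer.Frobenius.hasNormalPComplement_of_forall_centralizes ?_
    intro Q hQ _ g hg hgp
    obtain ⟨T, hT⟩ := hQ.exists_le_sylow
    haveI : IsCyclic ↥(T : Subgroup G) :=
      isCyclic_of_surjective _ (Sylow.equiv P T).surjective
    haveI : IsCyclic Q :=
      isCyclic_of_surjective _ (Subgroup.subgroupOfEquivOfLe hT).surjective
    obtain ⟨a, ha⟩ := hQ.exists_card_eq
    have hdvd : orderOf (Fusion.restrictConj Q hg) ∣ (p ^ a).totient := by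
      rw [← ha, ← IsCyclic.card_mulAut]; exact orderOf_dvd_natCard _
    have h1 : Fusion.restrictConj Q hg = 1 := by
      refine orderOf_eq_one_iff.1 ?_
      rcases Nat.eq_zero_or_pos a with rfl | hapos
      · simpa using hdvd
      rw [Nat.totient_prime_pow Fact.out hapos] at hdvd
      refine Nat.Coprime.eq_one_of_dvd (Nat.Coprime.coprime_dvd_left (Fusion.orderOf_restrictConj_dvd Q hg) ?_) hdvd
      exact (hgp.pow_right _).mul_right (Fusion.coprime_sub_one hmin g)
    rw [Subgroup.mem_centralizer_iff]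
    intro x hx
    have := Fusion.restrictConj_apply Q hg ⟨x, hx⟩
    rw [h1] at this
    exact eq_mul_inv_iff_mul_eq.mp (show x = g * x * g⁻¹ from this)
  · obtain ⟨j, hj⟩ := (P.isPGroup'.to_le hDP).exists_card_eq
    have hj1 : 1 ≤ j := by
      rcases Nat.eq_zero_or_pos j with rfl | h
      · simp [hj] at hD1
      · exact h
    refine Fusion.hasNormalPComplement hj1 ?_ P (hj ▸ hDP') hmin
    exact Fusion.hcond_of_sylow P fun E hEP hEc => hE E hEP (by rw [hj]; exact hEc)

end Cfsg.Agent.S3031
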