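import Cfsg.Statements.S3032
import Cfsg.Agent.S3031
import Cfsg.Agent.Lib.LA5.HSub.Chief

set_option autoImplicit false
open Cfsg

namespace Cfsg.Agent.S3032

open Subgroup Cfsg.Agent.Lib.LA5.Basic Cfsg.Agent.Lib.LA5.HSub

universe u

/-- The hypothesis on the noncyclic Sylow subgroups of `E`. -/
def Hyp {G : Type*} [Group G] (E : Subgroup G) : Prop :=
  ∀ p : ℕ, p.Prime → ∀ P : Subgroup G, P ≤ E → IsPGroup p P → ¬ p ∣ P.relIndex E → ¬ IsCyclic P →
    ∃ j : ℕ, 1 ≤ j ∧ p ^ j < Nat.card P ∧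
      ∀ F : Subgroup G, F ≤ P → (Nat.card F = p ^ j ∨ (p ^ j = 2 ∧ Nat.card F = 4)) → Fusion.HSub F

theorem mem_of_pow {G : Type*} [Group G] [Finite G] {q : ℕ} [Fact q.Prime] {Q E : Subgroup G}
    (hEN : E ≤ normalizer (Q : Set G)) (hidx : ¬ q ∣ Q.relIndex E)
    {x : G} (hxE : x ∈ E) {k : ℕ} (hx : x ^ q ^ k = 1) : x ∈ Q := by
  haveI : (Q.subgroupOf E).Normal := normal_subgroupOf_of_le_normalizer hEN
  have h1 : orderOf ((⟨x, hxE⟩ : E) : E ⧸ Q.subgroupOf E) ∣ q ^ k := orderOf_dvd_of_pow_eq_one (by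
    rw [← QuotientGroup.mk_pow, QuotientGroup.eq_one_iff, mem_subgroupOf]
    simpa [hx] using one_mem Q)
  have h2 : orderOf ((⟨x, hxE⟩ : E) : E ⧸ Q.subgroupOf E) ∣ Q.relIndex E := by
    rw [relIndex, index_eq_card]; exact orderOf_dvd_natCard _
  have h3 := orderOf_eq_one_iff.1 (Nat.eq_one_of_dvd_coprimes
    (((Nat.Prime.coprime_iff_not_dvd Fact.out).2 hidx).pow_left k) h1 h2)
  rwa [QuotientGroup.eq_one_iff, mem_subgroupOf] at h3

/-- A Sylow tower: some Sylow subgroup is normal. -/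
theorem exists_normal_sylow {G : Type*} [Group G] [Finite G] (n : ℕ) :
    ∀ E : Subgroup G, Nat.card E ≤ n → E ≠ ⊥ → Hyp E →
      ∃ (q : ℕ) (Q : Subgroup G), q.Prime ∧ Q ≤ E ∧ Q ≠ ⊥ ∧ IsPGroup q Q ∧
        E ≤ normalizer (Q : Set G) ∧ ¬ q ∣ Q.relIndex E := by
  induction n with
  | zero => intro E hE; exact absurd hE (Nat.not_le.2 Nat.card_pos)
  | succ n ih =>
    intro E hcard hne hyp
    have hE1 : Nat.card E ≠ 1 := fun h => hne (eq_bot_of_card_eq E h)
    set p := (Nat.card E).minFac with hp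
    haveI hpf : Fact p.Prime := ⟨Nat.minFac_prime hE1⟩
    by_cases hpg : IsPGroup p E
    · exact ⟨p, E, hpf.out, le_rfl, hne, hpg, Subgroup.le_normalizer, by
        simpa using hpf.out.one_lt.ne'⟩
    obtain ⟨P₀⟩ : Nonempty (Sylow p E) := inferInstance
    have hidx : ((P₀ : Subgroup E).map E.subtype).relIndex E = (P₀ : Subgroup E).index := by
      rw [relIndex, ← comap_subtype, comap_map_eq_self_of_injective E.subtype_injective]
    have hcomp : Cfsg.HasNormalPComplement p E := by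
      refine Cfsg.Agent.S3031.result (Nat.minFac_dvd _) (fun q hq hqd => Nat.minFac_le_of_dvd hq.two_le hqd)
        P₀ ?_
      by_cases hcyc : IsCyclic (P₀ : Subgroup E)
      · exact Or.inl hcyc
      refine Or.inr ?_
      let e := (P₀ : Subgroup E).equivMapOfInjective E.subtype E.subtype_injective
      obtain ⟨j, hj, hjlt, hF⟩ := hyp p hpf.out ((P₀ : Subgroup E).map E.subtype) (map_subtype_le _)
        (P₀.isPGroup'.map _) (by rw [hidx]; exact P₀.not_dvd_index)
        (fun h => hcyc (isCyclic_of_surjective e.symm.toMonoidHom e.symm.surjective))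
      rw [card_map_of_injective E.subtype_injective] at hjlt
      obtain ⟨a, ha⟩ := P₀.isPGroup'.exists_card_eq
      obtain ⟨D₀, hD₀⟩ := Sylow.exists_subgroup_card_pow_prime (G := (P₀ : Subgroup E)) p (n := j) (by
        rw [ha] at hjlt ⊢
        exact pow_dvd_pow p ((Nat.pow_lt_pow_iff_right hpf.out.one_lt).1 hjlt).le)
      set D := D₀.map (P₀ : Subgroup E).subtype
      have hD : Nat.card D = p ^ j := by
        rw [card_map_of_injective (P₀ : Subgroup E).subtype_injective, hD₀]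
      have hDle : D ≤ (P₀ : Subgroup E) := map_subtype_le D₀
      refine ⟨D, hDle, by rw [hD]; exact one_lt_pow₀ hpf.out.one_lt (by omega), by rwa [hD], ?_⟩
      intro F hFP hFc g y hy
      obtain ⟨hy1, hy2⟩ := mem_inf.1 hy
      rw [hD] at hFc
      have := hF (F.map E.subtype) (map_mono hFP) (by rwa [card_map_of_injective E.subtype_injective])
        (g : G) (x := (y : G)) ⟨?_, ?_⟩
      · obtain ⟨z, hz, hzy⟩ := this
        exact (Subtype.ext hzy : z = y) ▸ hz
      · exact mem_conj_iff.2 ⟨_, mem_conj_iff.1 hy1, rfl⟩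
      · apply mem_normalizer_iff_conj_eq.2
        have h := congrArg (Subgroup.map E.subtype) (mem_normalizer_iff_conj_eq.1 hy2)
        rw [map_map] at h ⊢
        exact h
    obtain ⟨P, N, hNn, hNP⟩ := hcomp
    set K := N.map E.subtype with hK
    have hKle : K ≤ E := map_subtype_le N
    have hKc : Nat.card K = (P : Subgroup E).index := by
      rw [hK, card_map_of_injective E.subtype_injective, hNP.index_eq_card]
    have hKrel : K.relIndex E = Nat.card (P : Subgroup E) := by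
      rw [hK, relIndex, ← comap_subtype, comap_map_eq_self_of_injective E.subtype_injective,
        hNP.symm.index_eq_card]
    have hEK : E ≤ normalizer (K : Set G) := by
      intro g hg
      apply mem_normalizer_iff_conj_eq.2
      refine conj_eq_self_of_le ?_
      rintro _ ⟨_, ⟨y, hy, rfl⟩, rfl⟩
      exact ⟨_, hNn.conj_mem y hy ⟨g, hg⟩, rfl⟩
    have hKlt : Nat.card K < Nat.card E := by
      refine lt_of_le_of_ne (card_le_of_le hKle) fun h => ?_
      exact P.not_dvd_index (hKc ▸ h ▸ Nat.minFac_dvd _)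
    have hKne : K ≠ ⊥ := by
      intro h
      apply hpg
      have : (P : Subgroup E) = ⊤ := by
        rw [← index_eq_one, ← hKc, h, card_bot]
      exact (IsPGroup.of_equiv P.isPGroup' ((MulEquiv.subgroupCongr this).trans topEquiv) :)
    obtain ⟨a, ha⟩ := P.isPGroup'.exists_card_eq
    have hKhyp : Hyp K := by
      intro q hq R hRK hR hRi hRc
      haveI : Fact q.Prime := ⟨hq⟩
      refine hyp q hq R (hRK.trans hKle) hR ?_ hRc
      rw [← relIndex_mul_relIndex R K E hRK hKle, hKrel, ha]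
      intro h
      rcases (Nat.Prime.dvd_mul hq).1 h with h | h
      · exact hRi h
      have hqp : q = p := (Nat.prime_dvd_prime_iff_eq hq hpf.out).1 (hq.dvd_of_dvd_pow h)
      apply hRc
      have : R = ⊥ := by
        obtain ⟨b, hb⟩ := hR.exists_card_eq
        rcases Nat.eq_zero_or_pos b with rfl | hbpos
        · exact eq_bot_of_card_eq R (by rw [hb, pow_zero])
        exfalso
        refine P.not_dvd_index ?_
        rw [← hKc, ← hqp]
        exact (dvd_pow_self q hbpos.ne').trans (hb ▸ card_dvd_of_le hRK)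
      subst this
      infer_instance
    obtain ⟨q, Q, hq, hQK, hQne, hQp, hKN, hQi⟩ := ih K (by omega) hKne hKhyp
    haveI : Fact q.Prime := ⟨hq⟩
    refine ⟨q, Q, hq, hQK.trans hKle, hQne, hQp, ?_, ?_⟩
    · intro g hg
      apply mem_normalizer_iff_conj_eq.2
      refine conj_eq_self_of_le ?_
      rintro _ ⟨y, hy, rfl⟩
      obtain ⟨k, hk⟩ := hQp ⟨y, hy⟩
      refine mem_of_pow hKN hQi ((mem_normalizer_iff.1 (hEK hg) y).1 (hQK hy)) (k := k) ?_
      show (MulAut.conj g y) ^ q ^ k = 1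
      rw [← map_pow, show y ^ q ^ k = 1 by simpa using congrArg Subtype.val hk, map_one]
    · rw [← relIndex_mul_relIndex Q K E hQK hKle, hKrel, ha]
      intro h
      rcases (Nat.Prime.dvd_mul hq).1 h with h | h
      · exact hQi h
      have hqp : q = p := (Nat.prime_dvd_prime_iff_eq hq hpf.out).1 (hq.dvd_of_dvd_pow h)
      obtain ⟨b, hb⟩ := hQp.exists_card_eq
      have hb0 : b ≠ 0 := fun h0 => hQne (eq_bot_of_card_eq Q (by rw [hb, h0, pow_zero]))
      refine P.not_dvd_index ?_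
      rw [← hKc, ← hqp]
      exact (dvd_pow_self q hb0).trans (hb ▸ card_dvd_of_le hQK)

/-- The hypothesis passes to the quotient by a normal Sylow subgroup of `E`. -/
theorem hyp_quotient {G : Type*} [Group G] [Finite G] {p : ℕ} [Fact p.Prime] (E Q : Subgroup G) [Q.Normal]
    (hQE : Q ≤ E) (hQ : IsPGroup p Q) (hQi : ¬ p ∣ Q.relIndex E) (hyp : Hyp E) :
    Hyp (E.map (QuotientGroup.mk' Q)) := by
  intro r hr P' hP'E hP' hPi hPc
  haveI : Fact r.Prime := ⟨hr⟩
  set π := QuotientGroup.mk' Q with hπ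
  have hπs : Function.Surjective π := QuotientGroup.mk'_surjective Q
  have hker : π.ker = Q := QuotientGroup.ker_mk' Q
  have hE' : Nat.card (E.map π) = Q.relIndex E := by
    rw [← relIndex_ker, hker]
  obtain ⟨b, hb⟩ := hP'.exists_card_eq
  have hb0 : b ≠ 0 := fun h => hPc (by
    rw [eq_bot_of_card_eq P' (by rw [hb, h, pow_zero])]; infer_instance)
  have hrp : r ≠ p := fun h => hQi (h ▸ hE' ▸ (dvd_pow_self r hb0).trans (hb ▸ card_dvd_of_le hP'E))
  set P₁ := P'.comap π with hP₁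
  have hP₁E : P₁ ≤ E := by
    refine (comap_mono hP'E).trans ?_
    rw [comap_map_eq, hker]
    exact sup_le le_rfl hQE
  obtain ⟨c, hc⟩ := hQ.exists_card_eq
  have hcardP₁ : Nat.card P₁ = Nat.card Q * Nat.card P' := by
    have h1 : Q.relIndex P₁ = Nat.card P' := by
      have h0 := relIndex_ker π (K := P₁)
      rw [hker, map_comap_eq_self_of_surjective hπs] at h0
      exact h0
    rw [← h1, ← relIndex_bot_left Q, ← relIndex_bot_left P₁]
    exact (relIndex_mul_relIndex ⊥ Q P₁ bot_le (by rw [← hker]; exact ker_le_comap π _)).symm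
  obtain ⟨T⟩ : Nonempty (Sylow r P₁) := inferInstance
  set P := (T : Subgroup P₁).map P₁.subtype with hP
  have hTc : Nat.card P = Nat.card P' := by
    rw [hP, card_map_of_injective P₁.subtype_injective, T.card_eq_multiplicity, hcardP₁, hb, hc,
      Nat.factorization_mul (pow_ne_zero _ (Nat.Prime.ne_zero Fact.out)) (pow_ne_zero _ hr.ne_zero),
      Finsupp.add_apply, Nat.Prime.factorization_pow Fact.out, Nat.Prime.factorization_pow hr,
      Finsupp.single_eq_of_ne hrp, Finsupp.single_eq_same, zero_add]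
  have hPp : IsPGroup r P := T.isPGroup'.map _
  have hinj : Set.InjOn π (P : Set G) := by
    intro x hx y hy hxy
    have h1 : x⁻¹ * y ∈ Q := QuotientGroup.eq.1 hxy
    have h2 : x⁻¹ * y ∈ P := mul_mem (inv_mem hx) hy
    have h3 := disjoint_def.1 (IsPGroup.disjoint_of_ne r p hrp P Q hPp hQ) h2 h1
    exact inv_mul_eq_one.1 h3
  have hmapcard : ∀ F : Subgroup G, F ≤ P → Nat.card (F.map π) = Nat.card F := by
    intro F hF
    rw [← SetLike.coe_sort_coe, coe_map, Nat.card_image_of_injOn (hinj.mono hF)]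
    rfl
  have hPmap : P.map π = P' := by
    refine eq_of_le_of_card_ge ?_ (by rw [hmapcard P le_rfl, hTc])
    rw [map_le_iff_le_comap]
    exact map_subtype_le _
  have hPE : P ≤ E := (map_subtype_le _).trans hP₁E
  have hrel : P.relIndex E = Nat.card Q * P'.relIndex (E.map π) := by
    apply Nat.eq_of_mul_eq_mul_left (Nat.card_pos (α := P))
    have h1 := relIndex_mul_relIndex ⊥ P E bot_le hPE
    rw [relIndex_bot_left, relIndex_bot_left] at h1
    have h2 := relIndex_mul_relIndex ⊥ P' (E.map π) bot_le hP'E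
    rw [relIndex_bot_left, relIndex_bot_left, hE'] at h2
    have h3 := relIndex_mul_relIndex ⊥ Q E bot_le hQE
    rw [relIndex_bot_left, relIndex_bot_left] at h3
    rw [h1, ← h3, ← h2, hTc]
    ring
  obtain ⟨j, hj, hjlt, hF⟩ := hyp r hr P hPE hPp
    (by
      rw [hrel, hc]
      intro h
      rcases (Nat.Prime.dvd_mul hr).1 h with h | h
      · exact hrp ((Nat.prime_dvd_prime_iff_eq hr Fact.out).1 (hr.dvd_of_dvd_pow h))
      · exact hPi h)
    (fun h => hPc (by
      rw [← hPmap]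
      exact isCyclic_of_surjective (π.subgroupMap P) (π.subgroupMap_surjective P)))
  refine ⟨j, hj, hTc ▸ hjlt, fun F' hF'P hF'c => ?_⟩
  set F := P ⊓ F'.comap π with hFdef
  have hFmap : F.map π = F' := by
    apply le_antisymm
    · rw [map_le_iff_le_comap]; exact inf_le_right
    · intro z hz
      obtain ⟨w, hw, rfl⟩ := hPmap.ge (hF'P hz)
      exact ⟨w, ⟨hw, hz⟩, rfl⟩
  have hFH : Fusion.HSub F := hF F inf_le_left (by rwa [← hmapcard F inf_le_left, hFmap])
  intro g' y' hy
  obtain ⟨g, rfl⟩ := hπs g'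
  obtain ⟨⟨z, hz, rfl⟩, hyN⟩ := mem_inf.1 hy
  rw [← hFmap] at hz
  obtain ⟨f, hf, rfl⟩ := hz
  set y := g * f * g⁻¹ with hy'
  have hπy : (MulAut.conj (π g)).toMonoidHom (π f) = π y := by
    simp [hy']
  rw [hπy] at hyN ⊢
  set R := (normalizer (F' : Set (G ⧸ Q))).comap π with hR
  have hFR : F ≤ R := fun x hx => Subgroup.le_normalizer (hFmap ▸ mem_map_of_mem π hx)
  obtain ⟨T₁, hT₁⟩ := ((hPp.to_le inf_le_left : IsPGroup r F).comap_subtype (K := R)).exists_le_sylow
  obtain ⟨k, hk⟩ := (hPp.to_le inf_le_left : IsPGroup r F) ⟨f, hf⟩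
  have hyord : IsPGroup r (zpowers (⟨y, hyN⟩ : R)) := by
    refine IsPGroup.of_card_dvd_pow (n := k) ?_
    rw [Nat.card_zpowers]
    refine orderOf_dvd_of_pow_eq_one (Subtype.ext ?_)
    show y ^ r ^ k = 1
    rw [hy', conj_pow, show f ^ r ^ k = 1 by simpa using congrArg Subtype.val hk]
    simp
  obtain ⟨T₂, hT₂⟩ := hyord.exists_le_sylow
  obtain ⟨x, hx⟩ := MulAction.exists_smul_eq R T₂ T₁
  have hxy : x * ⟨y, hyN⟩ * x⁻¹ ∈ (T₁ : Subgroup R) := by
    rw [← hx]
    exact ⟨_, hT₂ (mem_zpowers _), rfl⟩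
  have hFT : F ≤ (T₁ : Subgroup R).map R.subtype := fun w hw => ⟨⟨w, hFR hw⟩, hT₁ hw, rfl⟩
  have hN := hFH.le_normalizer (T₁.isPGroup'.map R.subtype) hFT ⟨_, hxy, rfl⟩
  have hmem : (x : G) * y * (x : G)⁻¹ ∈ F := hFH ((x : G) * g) ⟨⟨f, hf, by
    simp [hy', mul_assoc]⟩, hN⟩
  have h1 : π ((x : G) * y * (x : G)⁻¹) ∈ F' := hFmap ▸ mem_map_of_mem π hmem
  rw [map_mul, map_mul, map_inv] at h1
  exact (mem_normalizer_iff.1 x.2 _).2 h1

theorem main (n : ℕ) : ∀ (G : Type u) [Group G] [Finite G], Nat.card G ≤ n → ∀ (E : Subgroup G) [E.Normal],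
    Cfsg.IsSupersolvable (G ⧸ E) → Hyp E → Cfsg.IsSupersolvable G := by
  induction n with
  | zero => intro G _ _ h; exact absurd h (Nat.not_le.2 Nat.card_pos)
  | succ n ih =>
    intro G _ _ hcard E _ hGE hyp
    by_cases hE : E = ⊥
    · subst hE
      exact Cfsg.Agent.Lib.Supersolvable.of_mulEquiv QuotientGroup.quotientBot hGE
    obtain ⟨p, Q, hp, hQE, hQne, hQp, hEN, hQi⟩ := exists_normal_sylow _ E le_rfl hE hyp
    haveI : Fact p.Prime := ⟨hp⟩
    haveI hQn : Q.Normal := by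
      refine ⟨fun y hy g => ?_⟩
      obtain ⟨k, hk⟩ := hQp ⟨y, hy⟩
      refine mem_of_pow hEN hQi (‹E.Normal›.conj_mem y (hQE hy) g) (k := k) ?_
      rw [conj_pow, show y ^ p ^ k = 1 by simpa using congrArg Subtype.val hk]
      simp
    have hlt : Nat.card (G ⧸ Q) < Nat.card G := by
      rw [card_eq_card_quotient_mul_card_subgroup Q]
      exact lt_mul_of_one_lt_right Nat.card_pos ((one_lt_card_iff_ne_bot Q).2 hQne)
    haveI : (E.map (QuotientGroup.mk' Q)).Normal :=
      (inferInstance : E.Normal).map _ (QuotientGroup.mk'_surjective Q)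
    have hGQ : Cfsg.IsSupersolvable (G ⧸ Q) :=
      ih (G ⧸ Q) (by omega) (E.map (QuotientGroup.mk' Q))
        (Cfsg.Agent.Lib.Supersolvable.of_mulEquiv (QuotientGroup.quotientQuotientEquivQuotient Q E hQE).symm hGE)
        (hyp_quotient E Q hQE hQp hQi hyp)
    by_cases hcyc : IsCyclic Q
    · exact Cfsg.Agent.Lib.Supersolvable.of_quotient Q hGQ
    obtain ⟨j, hj, hjlt, hF⟩ := hyp p hp Q hQE hQp hQi hcyc
    refine Chief.supersolvable_of_normal Q hQp hGQ hj hjlt fun F hFQ hFc => ⟨fun y hy g => ?_⟩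
    have := (hF F hFQ hFc).conj_eq hQp hFQ (g := g) (by rw [normalizer_eq_top]; trivial)
    exact this.le ⟨y, hy, rfl⟩

/-- Let G be a finite group and E a normal subgroup with G/E supersolvable. Suppose that for every prime p and every non-cyclic Sylow p-subgroup P of E there is a subgroup D of P with 1 < |D| < |P| such that every subgroup F of P of order |D|, and also every subgroup F of P of order 4 when |D| = 2, satisfies g F g⁻¹ ∩ N_G(F) ≤ F for all g ∈ G. Then G is supersolvable. -/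
theorem result {G : Type*} [Group G] [Finite G] (E : Subgroup G) [E.Normal] (hGE : Cfsg.IsSupersolvable (G ⧸ E))
    (h : ∀ (p : ℕ), p.Prime → ∀ P : Subgroup G, P ≤ E → IsPGroup p P → ¬ p ∣ P.relIndex E → ¬ IsCyclic ↥P →
      ∃ D : Subgroup G, D ≤ P ∧ 1 < Nat.card D ∧ Nat.card D < Nat.card P ∧
        ∀ F : Subgroup G, F ≤ P → (Nat.card F = Nat.card D ∨ (Nat.card D = 2 ∧ Nat.card F = 4)) →
          ∀ g : G, F.map (MulAut.conj g).toMonoidHom ⊓ Subgroup.normalizer (F : Set G) ≤ F) :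
    Cfsg.IsSupersolvable G := by
  refine main _ G le_rfl E hGE fun p hp P hPE hP hPi hPc => ?_
  haveI : Fact p.Prime := ⟨hp⟩
  obtain ⟨D, hDP, hD1, hD2, hF⟩ := h p hp P hPE hP hPi hPc
  obtain ⟨j, hj⟩ := (hP.to_le hDP).exists_card_eq
  refine ⟨j, ?_, hj ▸ hD2, fun F hFP hFc => hF F hFP (by rwa [hj])⟩
  rcases Nat.eq_zero_or_pos j with rfl | h'
  · simp [hj] at hD1
  · exact h'

end Cfsg.Agent.S3032
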