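import Cfsg.Statements.S3033
import Cfsg.Agent.Lib.LA5.Basic
import Cfsg.Agent.Lib.Supersolvable.Basic
import Cfsg.Agent.Lib.Transfer.Frobenius
import Cfsg.Agent.Lib.Cores.MinNormal
import Cfsg.Agent.Lib.PGroups.Omega
import Cfsg.Agent.Lib.Coprime.Generation
-- import your own Cfsg.Agent.* helpers here

set_option autoImplicit false
open Cfsg

namespace Cfsg.Agent.S3033

open Subgroup Cfsg.Agent.Lib Cfsg.Agent.Lib.Cores Cfsg.Agent.Lib.LA5.Basic

universe u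

/-- The hypothesis on pairs of prime power elements. -/
def Hyp (G : Type*) [Group G] : Prop :=
  ∀ (p q : ℕ), p.Prime → q.Prime → p ≠ q → ∀ (x g : G), (∃ a : ℕ, orderOf x = p ^ a) →
    (∃ b : ℕ, orderOf g = q ^ b) → ¬ q ^ 2 ∣ Nat.card ↥(zpowers x ⊔ zpowers (g * x * g⁻¹))

variable {G : Type*} [Group G] [Finite G] {q : ℕ} [hq : Fact q.Prime]

omit [Finite G] in
theorem exists_pow_of_pow_eq_one {x : G} {k : ℕ} (h : x ^ q ^ k = 1) : ∃ a : ℕ, orderOf x = q ^ a := by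
  obtain ⟨a, -, ha⟩ := (Nat.dvd_prime_pow hq.out).1 (orderOf_dvd_of_pow_eq_one h)
  exact ⟨a, ha⟩

/-- A map to a group sending an element to a `q`-element agrees there with its value at a `q`-element. -/
theorem exists_pLift {B : Type*} [Group B] (f : G →* B) (x : G) {k : ℕ} (hx : f x ^ q ^ k = 1) :
    ∃ y ∈ zpowers x, f y = f x ∧ ∃ a : ℕ, orderOf y = q ^ a := by
  obtain ⟨a, b, ha, ⟨i, hi⟩, hab, -, ⟨m, hm⟩, hbp⟩ :=
    Transfer.PResidual.exists_pPart_mul_pPrimePart (p := q) x (isOfFinOrder_of_finite x)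
  refine ⟨a, ha, ?_, exists_pow_of_pow_eq_one hm⟩
  have h1 : orderOf (f b) ∣ q ^ k := by
    refine orderOf_dvd_of_pow_eq_one ?_
    rw [← hi]
    show f (x ^ i) ^ q ^ k = 1
    rw [map_zpow, ← zpow_natCast, ← zpow_mul, mul_comm, zpow_mul, zpow_natCast, hx, one_zpow]
  have h2 : f b = 1 := orderOf_eq_one_iff.1
    (Nat.eq_one_of_dvd_coprimes (hbp.pow_right k) (orderOf_map_dvd f b) h1)
  conv_rhs => rw [← hab, map_mul, h2, mul_one]

theorem hyp_of_injective {H : Type*} [Group H] {f : H →* G} (hf : Function.Injective f) (h : Hyp G) :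
    Hyp H := by
  intro p r hp hr hpr x g hx hg hd
  refine h p r hp hr hpr (f x) (f g) (by rwa [orderOf_injective f hf]) (by rwa [orderOf_injective f hf]) ?_
  rw [← map_inv, ← map_mul, ← map_mul, ← MonoidHom.map_zpowers, ← MonoidHom.map_zpowers, ← Subgroup.map_sup,
    card_map_of_injective hf]
  exact hd

omit hq in
theorem hyp_of_surjective {H : Type*} [Group H] {f : G →* H} (hf : Function.Surjective f) (h : Hyp G) :
    Hyp H := by
  intro p r hp hr hpr x g ⟨a, ha⟩ ⟨b, hb⟩ hd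
  haveI := Fact.mk hp
  haveI := Fact.mk hr
  obtain ⟨x₀, rfl⟩ := hf x
  obtain ⟨g₀, rfl⟩ := hf g
  obtain ⟨x₁, -, hx₁, hx₁o⟩ := exists_pLift (q := p) f x₀ (k := a) (by rw [← ha, pow_orderOf_eq_one])
  obtain ⟨g₁, -, hg₁, hg₁o⟩ := exists_pLift (q := r) f g₀ (k := b) (by rw [← hb, pow_orderOf_eq_one])
  refine h p r hp hr hpr x₁ g₁ hx₁o hg₁o (hd.trans ?_)
  rw [← hx₁, ← hg₁, ← map_inv, ← map_mul, ← map_mul, ← MonoidHom.map_zpowers, ← MonoidHom.map_zpowers,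
    ← Subgroup.map_sup]
  exact card_map_dvd _ _

omit hq in
/-- A `q'`-element moving `u` by a fixed `q`-element fixes it. -/
theorem fixes {g u z : G} (hg : (orderOf g).Coprime q) (hz : ∃ k : ℕ, z ^ q ^ k = 1)
    (hgz : g * z * g⁻¹ = z) (hgu : g * u * g⁻¹ = u * z) : z = 1 := by
  have key : ∀ n : ℕ, g ^ n * u * (g ^ n)⁻¹ = u * z ^ n := by
    intro n
    induction n with
    | zero => simp
    | succ n ih =>
      calc g ^ (n + 1) * u * (g ^ (n + 1))⁻¹ = g * (g ^ n * u * (g ^ n)⁻¹) * g⁻¹ := by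
            rw [pow_succ']; group
        _ = g * u * g⁻¹ * (g * z * g⁻¹) ^ n := by rw [ih, conj_pow]; group
        _ = u * z ^ (n + 1) := by rw [hgu, hgz, pow_succ', mul_assoc]
  have h1 := key (orderOf g)
  rw [pow_orderOf_eq_one] at h1
  simp only [one_mul, inv_one, mul_one, left_eq_mul] at h1
  obtain ⟨k, hk⟩ := hz
  exact orderOf_eq_one_iff.1 (Nat.eq_one_of_dvd_coprimes (hg.symm.pow_left k)
    (orderOf_dvd_of_pow_eq_one hk) (orderOf_dvd_of_pow_eq_one h1))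

theorem coprime_of_prime_pow {p : ℕ} (hp : p.Prime) (hpq : p ≠ q) {x : G} (hx : ∃ a : ℕ, orderOf x = p ^ a) :
    (orderOf x).Coprime q := by
  obtain ⟨a, ha⟩ := hx
  rw [ha]
  exact Nat.Coprime.pow_left a ((Nat.coprime_primes hp hq.out).2 hpq)

/-- A `p`-element normalising a `q`-group maps each of its commutators with it into their cyclic span. -/
theorem key (h : Hyp G) {p : ℕ} (hp : p.Prime) (hpq : p ≠ q) {U : Subgroup G} (hU : IsPGroup q U) {x : G}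
    (hx : ∃ a : ℕ, orderOf x = p ^ a) (hxU : x ∈ normalizer (U : Set G)) {v : G} (hv : v ∈ U) :
    (x * v * x⁻¹ * v⁻¹) ^ q = 1 ∧
      x * (x * v * x⁻¹ * v⁻¹) * x⁻¹ ∈ zpowers (x * v * x⁻¹ * v⁻¹) := by
  set w := x * v * x⁻¹ * v⁻¹ with hw
  set X := zpowers x ⊔ zpowers (v * x * v⁻¹) with hX
  have hxX : x ∈ X := mem_sup_left (mem_zpowers x)
  have hwX : w ∈ X := by
    have := mul_mem hxX (inv_mem (mem_sup_right (mem_zpowers (v * x * v⁻¹)) : v * x * v⁻¹ ∈ X))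
    rw [show x * (v * x * v⁻¹)⁻¹ = w by rw [hw]; group] at this
    exact this
  have hwU : w ∈ U := mul_mem ((mem_normalizer_iff.1 hxU v).1 hv) (inv_mem hv)
  obtain ⟨b, hb⟩ := hU ⟨v, hv⟩
  have hnd : ¬ q ^ 2 ∣ Nat.card X :=
    h p q hp hq.out hpq x v hx (exists_pow_of_pow_eq_one (k := b) (by simpa using congrArg Subtype.val hb))
  obtain ⟨m, hm⟩ := (hU.to_le (inf_le_left : U ⊓ X ≤ U)).exists_card_eq
  have hm1 : m ≤ 1 := by
    by_contra h2
    exact hnd ((pow_dvd_pow q (show 2 ≤ m by omega)).trans (hm ▸ card_dvd_of_le inf_le_right))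
  have hpow : ∀ y ∈ U ⊓ X, y ^ q = 1 := by
    intro y hy
    refine orderOf_dvd_iff_pow_eq_one.1 ((Subgroup.orderOf_dvd_natCard _ hy).trans ?_)
    rw [hm]
    exact (pow_dvd_pow q hm1).trans (pow_one q).dvd
  refine ⟨hpow w ⟨hwU, hwX⟩, ?_⟩
  by_cases hw1 : w = 1
  · rw [hw1]; simp
  have hgen : zpowers w = U ⊓ X := by
    refine eq_of_le_of_card_ge (zpowers_le.2 ⟨hwU, hwX⟩) ?_
    rw [Nat.card_zpowers, orderOf_eq_prime (hpow w ⟨hwU, hwX⟩) hw1, hm]
    exact (Nat.pow_le_pow_right hq.out.pos hm1).trans (pow_one q).le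
  rw [hgen]
  exact ⟨(mem_normalizer_iff.1 hxU w).1 hwU, X.mul_mem (X.mul_mem hxX hwX) (X.inv_mem hxX)⟩

/-- The smallest prime gives a normal complement. -/
theorem hasNormalPComplement (h : Hyp G) (hmin : ∀ r : ℕ, r.Prime → r ∣ Nat.card G → q ≤ r) :
    Cfsg.HasNormalPComplement q G := by
  refine Transfer.Frobenius.hasNormalPComplement_of_forall_centralizes fun U hU _ g hg hgp => ?_
  refine (zpowers_le.1 (Coprime.le_of_forall_sylow (K := zpowers g) fun r hr => ?_) :)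
  haveI := Fact.mk hr
  obtain ⟨R⟩ : Nonempty (Sylow r (zpowers g)) := inferInstance
  refine ⟨R, ?_⟩
  rintro _ ⟨y, hy, rfl⟩
  show (y : G) ∈ _
  obtain ⟨k, hk⟩ := R.isPGroup' ⟨y, hy⟩
  have hk' : (y : G) ^ r ^ k = 1 := by simpa using congrArg Subtype.val (congrArg Subtype.val hk)
  by_cases hy1 : (y : G) = 1
  · rw [hy1]; exact one_mem _
  have hdy : orderOf (y : G) ∣ orderOf g := orderOf_dvd_of_mem_zpowers y.2
  obtain ⟨a, ha⟩ := exists_pow_of_pow_eq_one (q := r) hk'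
  have hrd : r ∣ orderOf (y : G) := by
    rw [ha]
    refine dvd_pow_self r fun h0 => hy1 ?_
    rw [← orderOf_eq_one_iff, ha, h0, pow_zero]
  have hrq : r ≠ q := fun e => by
    subst e
    exact hr.one_lt.ne' (Nat.eq_one_of_dvd_coprimes hgp (hrd.trans hdy) dvd_rfl)
  have hqr : q < r := lt_of_le_of_ne (hmin r hr (hrd.trans (orderOf_dvd_natCard _))) (Ne.symm hrq)
  have hyU : (y : G) ∈ normalizer (U : Set G) := zpowers_le.2 hg y.2
  rw [mem_centralizer_iff]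
  intro v hv
  obtain ⟨hwq, i, hi⟩ := key h hr hrq hU ⟨a, ha⟩ hyU hv
  set w := (y : G) * v * (y : G)⁻¹ * v⁻¹ with hw
  have hcop : (orderOf (y : G)).Coprime q := coprime_of_prime_pow hr hrq ⟨a, ha⟩
  suffices hw1 : w = 1 by
    rw [hw, mul_inv_eq_one, mul_inv_eq_iff_eq_mul] at hw1
    exact hw1.symm
  by_contra hw1
  have hword : orderOf w = q := orderOf_eq_prime hwq hw1
  -- the exponent is `1`
  have hi' : (y : G) * w * (y : G)⁻¹ = w ^ i := hi.symm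
  have hn : ∀ n : ℕ, (y : G) ^ n * w * ((y : G) ^ n)⁻¹ = w ^ (i ^ n) := by
    intro n
    induction n with
    | zero => simp
    | succ n ih =>
      calc (y : G) ^ (n + 1) * w * ((y : G) ^ (n + 1))⁻¹
          = (y : G) * ((y : G) ^ n * w * ((y : G) ^ n)⁻¹) * (y : G)⁻¹ := by rw [pow_succ']; group
        _ = ((y : G) * w * (y : G)⁻¹) ^ (i ^ n) := by rw [ih, conj_zpow]
        _ = w ^ (i ^ (n + 1)) := by rw [hi', ← zpow_mul, pow_succ']
  have h1 := hn (r ^ k)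
  rw [hk'] at h1
  simp only [one_mul, inv_one, mul_one] at h1
  have h2 : ((i : ZMod q)) ^ r ^ k = 1 := by
    have h3 : w ^ (1 : ℤ) = w ^ (i ^ r ^ k) := by rw [zpow_one]; exact h1
    rw [zpow_eq_zpow_iff_modEq, hword, ← ZMod.intCast_eq_intCast_iff] at h3
    push_cast at h3
    exact h3.symm
  have h4 : (i : ZMod q) ≠ 0 := fun h0 => by
    rw [h0, zero_pow (pow_ne_zero _ hr.ne_zero)] at h2
    exact zero_ne_one h2
  have h5 : (i : ZMod q) = 1 := by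
    have h6 := pow_gcd_eq_one.2 ⟨h2, ZMod.pow_card_sub_one_eq_one h4⟩
    have h7 : Nat.gcd (r ^ k) (q - 1) = 1 := Nat.Coprime.pow_left k
      ((Nat.Prime.coprime_iff_not_dvd hr).2 fun hd => by
        have := Nat.le_of_dvd (by have := hq.out.two_le; omega) hd
        omega)
    rw [h7, pow_one] at h6
    exact h6
  have h8 : (y : G) * w * (y : G)⁻¹ = w := by
    rw [hi']
    conv_rhs => rw [← zpow_one w]
    rw [zpow_eq_zpow_iff_modEq, hword, ← ZMod.intCast_eq_intCast_iff, h5, Int.cast_one]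
  refine hw1 (inv_eq_one.1 (fixes (q := q) (u := v⁻¹) (z := w⁻¹) hcop ⟨1, by rw [pow_one, inv_pow, hwq, inv_one]⟩ ?_ ?_))
  · conv_rhs => rw [← h8]
    group
  · rw [hw]; group


omit [Finite G] in
/-- A map preserving all cyclic subgroups of an elementary abelian group is a power map. -/
theorem exists_scalar {W : Subgroup G} (hWq : ∀ w ∈ W, w ^ q = 1) (hWc : ∀ a ∈ W, ∀ b ∈ W, a * b = b * a) {x : G}
    (hl : ∀ w ∈ W, x * w * x⁻¹ ∈ zpowers w) : ∃ i : ℤ, ∀ w ∈ W, x * w * x⁻¹ = w ^ i := by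
  by_cases hW : W = ⊥
  · exact ⟨1, fun w hw => by rw [hW, mem_bot] at hw; simp [hw]⟩
  obtain ⟨⟨w₀, hw₀⟩, hne⟩ := W.ne_bot_iff_exists_ne_one.1 hW
  have hw₀1 : w₀ ≠ 1 := fun h => hne (Subtype.ext h)
  have hord : ∀ w ∈ W, w ≠ 1 → orderOf w = q := fun w hw h1 => orderOf_eq_prime (hWq w hw) h1
  obtain ⟨i, hi⟩ := hl w₀ hw₀
  refine ⟨i, fun w hw => ?_⟩
  by_cases hmem : w ∈ zpowers w₀
  · obtain ⟨k, rfl⟩ := hmem
    show x * w₀ ^ k * x⁻¹ = (w₀ ^ k) ^ i
    rw [← conj_zpow, ← hi, ← zpow_mul, ← zpow_mul, mul_comm]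
  have hw1 : w ≠ 1 := fun h => hmem (h ▸ one_mem _)
  obtain ⟨j, hj⟩ := hl w hw
  obtain ⟨k, hk⟩ := hl (w₀ * w) (mul_mem hw₀ hw)
  have h1 : w₀ ^ k * w ^ k = w₀ ^ i * w ^ j := by
    rw [← (show Commute w₀ w from hWc _ hw₀ _ hw).mul_zpow]
    calc (w₀ * w) ^ k = x * (w₀ * w) * x⁻¹ := hk
      _ = (x * w₀ * x⁻¹) * (x * w * x⁻¹) := by group
      _ = w₀ ^ i * w ^ j := by rw [← hi, ← hj]
  have h2 : w₀ ^ (k - i) = w ^ (j - k) := by
    rw [sub_eq_neg_add, sub_eq_add_neg, zpow_add, zpow_add, zpow_neg, zpow_neg, eq_mul_inv_iff_mul_eq,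
      mul_assoc, h1, inv_mul_cancel_left]
  haveI : Fact q.Prime := hq
  have h3 : zpowers w₀ ⊓ zpowers w = ⊥ := by
    by_contra h4
    refine hmem (zpowers_le.1 ?_)
    have h5 : Nat.card ↥(zpowers w₀ ⊓ zpowers w) = q := by
      refine ((Nat.dvd_prime hq.out).1 ?_).resolve_left fun h => h4 (eq_bot_of_card_eq _ h)
      exact (card_dvd_of_le inf_le_right).trans (by rw [Nat.card_zpowers, hord w hw hw1])
    haveI : Finite (zpowers w) := Nat.finite_of_card_ne_zero (by rw [Nat.card_zpowers, hord w hw hw1]; exact hq.out.ne_zero)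
    exact (eq_of_le_of_card_ge inf_le_right (by rw [h5, Nat.card_zpowers, hord w hw hw1])).ge.trans inf_le_left
  have h4 : w₀ ^ (k - i) ∈ zpowers w₀ ⊓ zpowers w := ⟨⟨_, rfl⟩, ⟨_, h2.symm⟩⟩
  rw [h3, mem_bot] at h4
  have h5 : w ^ (j - k) = 1 := h2 ▸ h4
  rw [← orderOf_dvd_iff_zpow_eq_one, hord w₀ hw₀ hw₀1] at h4
  rw [← orderOf_dvd_iff_zpow_eq_one, hord w hw hw1] at h5
  rw [← hj]
  show w ^ j = w ^ i
  rw [zpow_eq_zpow_iff_modEq, hord w hw hw1, Int.modEq_iff_dvd]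
  obtain ⟨a, ha⟩ := h4
  obtain ⟨b, hb⟩ := h5
  exact ⟨-(a + b), by linear_combination -ha - hb⟩

section Chief

variable (V : Subgroup G) [V.Normal]

/-- The fixed points of `x` in `V`. -/
def fixed (x : G) : Subgroup G := V ⊓ centralizer ({x} : Set G)

omit [Finite G] in
theorem mem_fixed {x v : G} : v ∈ fixed V x ↔ v ∈ V ∧ x * v * x⁻¹ = v := by
  rw [fixed, mem_inf, mem_centralizer_singleton_iff, mul_inv_eq_iff_eq_mul, eq_comm (a := v * x)]

theorem scalar_of_fixed_eq_bot (h : Hyp G) (hVq : ∀ v ∈ V, v ^ q = 1) (hVc : ∀ a ∈ V, ∀ b ∈ V, a * b = b * a)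
    {p : ℕ} (hp : p.Prime) (hpq : p ≠ q) {x : G} (hx : ∃ a : ℕ, orderOf x = p ^ a) (hfix : fixed V x = ⊥) :
    ∃ i : ℤ, ∀ v ∈ V, x * v * x⁻¹ = v ^ i := by
  refine exists_scalar hVq hVc fun w hw => ?_
  let f : V → V := fun v => ⟨x * v * x⁻¹ * (v : G)⁻¹, mul_mem (‹V.Normal›.conj_mem _ v.2 x) (inv_mem v.2)⟩
  have hinj : Function.Injective f := by
    intro u v huv
    have h1 : x * u * x⁻¹ * (u : G)⁻¹ = x * v * x⁻¹ * (v : G)⁻¹ := congrArg Subtype.val huv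
    have h2 : (v : G)⁻¹ * u ∈ fixed V x := by
      rw [mem_fixed]
      refine ⟨mul_mem (inv_mem v.2) u.2, ?_⟩
      calc x * ((v : G)⁻¹ * u) * x⁻¹ = (x * v * x⁻¹)⁻¹ * (x * u * x⁻¹ * (u : G)⁻¹ * u) := by group
        _ = (x * v * x⁻¹)⁻¹ * (x * v * x⁻¹ * (v : G)⁻¹ * u) := by rw [h1]
        _ = _ := by group
    rw [hfix, mem_bot, inv_mul_eq_one] at h2
    exact (Subtype.ext h2).symm
  obtain ⟨v, hv⟩ := (Finite.injective_iff_surjective.1 hinj) ⟨w, hw⟩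
  have hv' : x * v * x⁻¹ * (v : G)⁻¹ = w := congrArg Subtype.val hv
  haveI : V.Normal := ‹_›
  have := (key h hp hpq (MinNormal.isPGroup_of_pow_eq_one hVq) hx (by rw [normalizer_eq_top]; trivial) v.2).2
  rwa [hv'] at this

theorem isCyclic_of_minimal (h : Hyp G) (hVq : ∀ v ∈ V, v ^ q = 1) (hVc : ∀ a ∈ V, ∀ b ∈ V, a * b = b * a)
    (hne : V ≠ ⊥) (hmin : ∀ M : Subgroup G, M.Normal → M ≤ V → M = ⊥ ∨ M = V)
    (hGV : Cfsg.IsSupersolvable (G ⧸ V)) : IsCyclic V := by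
  classical
  haveI hVn : V.Normal := ‹_›
  have hVp : IsPGroup q V := MinNormal.isPGroup_of_pow_eq_one hVq
  let Z : Subgroup G :=
    { carrier := {g | ∃ i : ℤ, ∀ v ∈ V, g * v * g⁻¹ = v ^ i}
      one_mem' := ⟨1, fun v _ => by simp⟩
      mul_mem' := fun {a b} ⟨i, hi⟩ ⟨j, hj⟩ => ⟨i * j, fun v hv => by
        rw [show a * b * v * (a * b)⁻¹ = a * (b * v * b⁻¹) * a⁻¹ by group, hj v hv, ← conj_zpow, hi v hv,
          ← zpow_mul]⟩
      inv_mem' := fun {a} ⟨i, hi⟩ => by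
        have hpow : ∀ n : ℕ, ∃ j : ℤ, ∀ v ∈ V, a ^ n * v * (a ^ n)⁻¹ = v ^ j := by
          intro n
          induction n with
          | zero => exact ⟨1, fun v _ => by simp⟩
          | succ n ih =>
            obtain ⟨j, hj⟩ := ih
            exact ⟨i * j, fun v hv => by
              rw [show a ^ (n + 1) * v * (a ^ (n + 1))⁻¹ = a * (a ^ n * v * (a ^ n)⁻¹) * a⁻¹ by
                rw [pow_succ']; group, hj v hv, ← conj_zpow, hi v hv, ← zpow_mul]⟩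
        obtain ⟨n, hn⟩ : ∃ n : ℕ, a ^ n = a⁻¹ := ⟨orderOf a - 1, by
          rw [eq_inv_iff_mul_eq_one, ← pow_succ, Nat.sub_add_cancel (orderOf_pos a), pow_orderOf_eq_one]⟩
        obtain ⟨j, hj⟩ := hpow n
        exact ⟨j, hn ▸ hj⟩ }
  haveI hZn : Z.Normal := ⟨fun g ⟨i, hi⟩ y => ⟨i, fun v hv => by
    have h1 : y⁻¹ * v * y ∈ V := by simpa using hVn.conj_mem v hv y⁻¹
    calc y * g * y⁻¹ * v * (y * g * y⁻¹)⁻¹ = y * (g * (y⁻¹ * v * y) * g⁻¹) * y⁻¹ := by group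
      _ = y * (y⁻¹ * v * y) ^ i * y⁻¹ := by rw [hi _ h1]
      _ = v ^ i := by rw [← conj_zpow]; group⟩⟩
  have hVZ : V ≤ Z := fun u hu => ⟨1, fun v hv => by rw [hVc u hu v hv, mul_inv_cancel_right, zpow_one]⟩
  by_cases hZtop : Z = ⊤
  · obtain ⟨⟨v, hv⟩, hv1⟩ := V.ne_bot_iff_exists_ne_one.1 hne
    have hn : (zpowers v).Normal := ⟨fun w hw y => by
      obtain ⟨i, hi⟩ : y ∈ Z := hZtop ▸ mem_top y
      rw [hi w (zpowers_le.2 hv hw)]; exact zpow_mem hw i⟩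
    have hVeq : zpowers v = V := (hmin _ hn (zpowers_le.2 hv)).resolve_left
      fun h0 => hv1 (Subtype.ext (zpowers_eq_bot.1 h0))
    rw [← hVeq]; infer_instance
  exfalso
  -- a normal subgroup of prime index over the scalars
  haveI : Nontrivial (G ⧸ Z) := QuotientGroup.nontrivial_iff.2 hZtop
  obtain ⟨r, M, hr, hMc, hMn⟩ := Supersolvable.exists_prime_normal
    (Supersolvable.of_surjective (QuotientGroup.map V Z (MonoidHom.id G) hVZ) (fun y => by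
      obtain ⟨y, rfl⟩ := QuotientGroup.mk'_surjective Z y
      exact ⟨(y : G ⧸ V), rfl⟩) hGV)
  haveI : Fact r.Prime := ⟨hr⟩
  set π := QuotientGroup.mk' Z with hπ
  have hzπ : ∀ z : G, π z = 1 ↔ z ∈ Z := fun z => QuotientGroup.eq_one_iff z
  obtain ⟨ā, hā⟩ := exists_prime_orderOf_dvd_card' (G := M) r (by rw [hMc])
  obtain ⟨a₀, ha₀⟩ := QuotientGroup.mk'_surjective Z (ā : G ⧸ Z)
  obtain ⟨a, -, ha, hao⟩ := exists_pLift (q := r) π a₀ (k := 1) (by
    rw [pow_one, ha₀, ← Subgroup.coe_pow, ← hā, pow_orderOf_eq_one, OneMemClass.coe_one])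
  rw [ha₀] at ha
  have haord : orderOf (π a) = r := by rw [ha, Subgroup.orderOf_coe, hā]
  have haZ : a ∉ Z := fun h0 => by
    rw [(hzπ a).2 h0, orderOf_one] at haord
    exact hr.one_lt.ne haord
  have hgen : M = zpowers (π a) := by
    symm
    refine eq_of_le_of_card_ge (zpowers_le.2 (ha ▸ ā.2)) (by rw [Nat.card_zpowers, haord, hMc])
  -- conjugates of `a`
  have hconj : ∀ g : G, ∃ (i : ℤ) (z : G), z ∈ Z ∧ g * a * g⁻¹ = a ^ i * z ∧ ¬ (r : ℤ) ∣ i := by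
    intro g
    have h1 : π (g * a * g⁻¹) ∈ M := by
      rw [map_mul, map_mul, map_inv]
      exact hMn.conj_mem _ (ha ▸ ā.2) _
    rw [hgen] at h1
    obtain ⟨i, hi⟩ := h1
    refine ⟨i, (a ^ i)⁻¹ * (g * a * g⁻¹), ?_, by group, fun hd => haZ ?_⟩
    · rw [← hzπ, map_mul, map_inv, map_zpow, ← hi]
      exact inv_mul_cancel _
    · have h2 : g * a * g⁻¹ ∈ Z := by
        rw [← hzπ, ← hi]
        show π a ^ i = 1
        exact orderOf_dvd_iff_zpow_eq_one.1 (haord.symm ▸ hd)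
      have := hZn.conj_mem _ h2 g⁻¹
      simpa [mul_assoc] using this
  have hexp : ∀ {v : G}, v ∈ V → v ≠ 1 → ∀ i j : ℤ, v ^ i = v ^ j → ∀ u ∈ V, u ^ i = u ^ j := by
    intro v hv hv1 i j hij u hu
    rw [zpow_eq_zpow_iff_modEq, orderOf_eq_prime (hVq v hv) hv1] at hij
    rw [zpow_eq_zpow_iff_modEq]
    exact hij.of_dvd (Int.natCast_dvd_natCast.2 (orderOf_dvd_of_pow_eq_one (hVq u hu)))
  set C := fixed V a with hC
  have hCV : C ≤ V := inf_le_left
  have hCne_top : C ≠ V := fun h0 => haZ ⟨1, fun v hv => by rw [((mem_fixed V).1 (h0.ge hv)).2, zpow_one]⟩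
  by_cases hrq : r = q
  · -- an element of `q`-power order fixes an invariant subgroup
    have hC0 : C ≠ ⊥ := by
      have hA : IsPGroup q (zpowers a) := by
        obtain ⟨k, hk⟩ := hao
        exact IsPGroup.of_card (n := k) (by rw [Nat.card_zpowers, hk, hrq])
      have hT : IsPGroup q ↥(V ⊔ zpowers a) := hVp.to_sup_of_normal_left' hA (by rw [normalizer_eq_top]; exact le_top)
      haveI : (V.subgroupOf (V ⊔ zpowers a)).Normal := inferInstance
      have h1 := PGroups.normal_inf_center_ne_bot hT (V.subgroupOf (V ⊔ zpowers a)) (fun h0 => hne (by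
        rw [← inf_eq_left.2 (le_sup_left : V ≤ V ⊔ zpowers a), ← subgroupOf_map_subtype, h0, Subgroup.map_bot]))
      rw [ne_bot_iff_exists_ne_one] at h1
      obtain ⟨⟨⟨v, hvT⟩, hvV, hvc⟩, hv1⟩ := h1
      intro h0
      have h2 : a * v = v * a := congrArg Subtype.val
        (mem_center_iff.1 hvc ⟨a, mem_sup_right (mem_zpowers a)⟩)
      have : v ∈ C := (mem_fixed V).2 ⟨hvV, by rw [h2, mul_inv_cancel_right]⟩
      rw [h0, mem_bot] at this
      exact hv1 (Subtype.ext (Subtype.ext this))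
    refine hCne_top ((hmin C ⟨fun v hv g => ?_⟩ hCV).resolve_left hC0)
    obtain ⟨i, z, ⟨s, hs⟩, hiz, hid⟩ := hconj g
    obtain ⟨hvV, hva⟩ := (mem_fixed V).1 hv
    set w := g * v * g⁻¹ with hw
    have hwV : w ∈ V := hVn.conj_mem v hvV g
    refine (mem_fixed V).2 ⟨hwV, ?_⟩
    by_cases hw1 : w = 1
    · rw [hw1]; group
    set c := a ^ i with hc
    have h3 : (c * w * c⁻¹) ^ s = w := by
      calc (c * w * c⁻¹) ^ s = c * (z * w * z⁻¹) * c⁻¹ := by rw [hs w hwV, conj_zpow]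
        _ = (c * z) * w * (c * z)⁻¹ := by group
        _ = g * (a * v * a⁻¹) * g⁻¹ := by rw [← hiz, hw]; group
        _ = w := by rw [hva]
    have h4 : c * w * c⁻¹ ∈ zpowers w := by
      have h5 : zpowers w ≤ zpowers (c * w * c⁻¹) := zpowers_le.2 ⟨s, h3⟩
      have h6 : Nat.card (zpowers (c * w * c⁻¹)) ≤ Nat.card (zpowers w) := by
        rw [Nat.card_zpowers, Nat.card_zpowers, show c * w * c⁻¹ = MulAut.conj c w from rfl, MulEquiv.orderOf_eq]
      rw [eq_of_le_of_card_ge h5 h6]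
      exact mem_zpowers _
    obtain ⟨t, ht⟩ := h4
    have hn : ∀ n : ℕ, c ^ n * w * (c ^ n)⁻¹ = w ^ (t ^ n) := by
      intro n
      induction n with
      | zero => simp
      | succ n ih =>
        calc c ^ (n + 1) * w * (c ^ (n + 1))⁻¹ = c * (c ^ n * w * (c ^ n)⁻¹) * c⁻¹ := by rw [pow_succ']; group
          _ = (c * w * c⁻¹) ^ (t ^ n) := by rw [ih]; exact conj_zpow.symm
          _ = w ^ (t ^ (n + 1)) := by rw [← ht, pow_succ', zpow_mul]
    obtain ⟨k, hk⟩ := hao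
    rw [hrq] at hk hid
    have hck : c ^ q ^ k = 1 := by
      rw [hc, ← zpow_natCast, ← zpow_mul, mul_comm, zpow_mul, zpow_natCast, ← hk, pow_orderOf_eq_one, one_zpow]
    have hcw : c * w * c⁻¹ = w := by
      have h7 := hn (q ^ k)
      rw [hck] at h7
      simp only [one_mul, inv_one, mul_one] at h7
      rw [← ht]
      show w ^ t = w
      have h8 : w ^ (1 : ℤ) = w ^ (t ^ q ^ k) := by rw [zpow_one]; exact h7
      rw [zpow_eq_zpow_iff_modEq, orderOf_eq_prime (hVq w hwV) hw1, ← ZMod.intCast_eq_intCast_iff,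
        Int.cast_pow, ZMod.pow_card_pow, Int.cast_one] at h8
      conv_rhs => rw [← zpow_one w]
      rw [zpow_eq_zpow_iff_modEq, orderOf_eq_prime (hVq w hwV) hw1, ← ZMod.intCast_eq_intCast_iff, ← h8, Int.cast_one]
    -- `a` is a power of `c`
    obtain ⟨u, u', huu⟩ : IsCoprime i ((q ^ k : ℕ) : ℤ) := by
      push_cast
      exact ((Nat.prime_iff_prime_int.1 hq.out).coprime_iff_not_dvd.2 hid).symm.pow_right
    have hac : a ∈ centralizer ({w} : Set G) := by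
      have hcC : c ∈ centralizer ({w} : Set G) := mem_centralizer_singleton_iff.2 (mul_inv_eq_iff_eq_mul.1 hcw)
      have e : a = c ^ u := by
        rw [hc, ← zpow_mul]
        conv_lhs => rw [← zpow_one a, ← huu]
        rw [zpow_add, mul_comm u', ← hk, zpow_mul a ((orderOf a : ℕ) : ℤ), zpow_natCast, pow_orderOf_eq_one,
          one_zpow, mul_one, mul_comm]
      rw [e]
      exact zpow_mem hcC u
    rw [mul_inv_eq_iff_eq_mul]
    exact mem_centralizer_singleton_iff.1 hac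
  have hacop : (orderOf a).Coprime q := coprime_of_prime_pow hr hrq hao
  let W : Subgroup G :=
    { carrier := {w | ∃ v ∈ V, a * v * a⁻¹ * v⁻¹ = w}
      one_mem' := ⟨1, one_mem _, by group⟩
      mul_mem' := fun {w w'} ⟨v, hv, hvw⟩ ⟨v', hv', hvw'⟩ => ⟨v * v', mul_mem hv hv', by
        have h1 : a * v' * a⁻¹ * v'⁻¹ ∈ V := mul_mem (hVn.conj_mem v' hv' a) (inv_mem hv')
        rw [← hvw, ← hvw']
        calc a * (v * v') * a⁻¹ * (v * v')⁻¹ = a * v * a⁻¹ * (a * v' * a⁻¹ * v'⁻¹ * v⁻¹) := by group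
          _ = a * v * a⁻¹ * (v⁻¹ * (a * v' * a⁻¹ * v'⁻¹)) := by rw [hVc _ h1 _ (inv_mem hv)]
          _ = _ := by group⟩
      inv_mem' := fun {w} ⟨v, hv, hvw⟩ => ⟨v⁻¹, inv_mem hv, by
        rw [← hvw]
        calc a * v⁻¹ * a⁻¹ * v⁻¹⁻¹ = (a * v * a⁻¹)⁻¹ * v := by group
          _ = v * (a * v * a⁻¹)⁻¹ := hVc _ (inv_mem (hVn.conj_mem v hv a)) _ hv
          _ = _ := by group⟩ }
  have hWV : W ≤ V := by
    rintro _ ⟨v, hv, rfl⟩
    exact mul_mem (hVn.conj_mem v hv a) (inv_mem hv)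
  obtain ⟨l, hl⟩ := exists_scalar (W := W) (x := a) (fun w hw => hVq w (hWV hw))
    (fun x hx y hy => hVc x (hWV hx) y (hWV hy)) (by
      rintro _ ⟨v, hv, rfl⟩
      exact (key h hr hrq hVp hao (by rw [normalizer_eq_top]; trivial) hv).2)
  have hWfix : ∀ w ∈ W, a * w * a⁻¹ = w → w = 1 := by
    rintro _ ⟨v, hv, rfl⟩ hfix
    refine inv_eq_one.1 (fixes (q := q) (u := v⁻¹) hacop ⟨1, ?_⟩ ?_ ?_)
    · rw [pow_one, inv_pow, hVq _ (hWV ⟨v, hv, rfl⟩), inv_one]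
    · rw [← conj_inv, hfix]
    · group
  have hCW : ∀ w, w ∈ C → w ∈ W → w = 1 := fun w h1 h2 => hWfix w h2 ((mem_fixed V).1 h1).2
  have hdec : ∀ v ∈ V, ∃ c ∈ C, ∃ w ∈ W, v = c * w := by
    intro v hv
    let f : W → W := fun w => ⟨a * (w : G) * a⁻¹ * (w : G)⁻¹, w, hWV w.2, rfl⟩
    have hinj : Function.Injective f := by
      intro u w huw
      have h1 : a * u * a⁻¹ * (u : G)⁻¹ = a * w * a⁻¹ * (w : G)⁻¹ := congrArg Subtype.val huw
      have h2 := hWfix ((w : G)⁻¹ * u) (mul_mem (inv_mem w.2) u.2) (by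
        calc a * ((w : G)⁻¹ * u) * a⁻¹ = (a * w * a⁻¹)⁻¹ * (a * u * a⁻¹ * (u : G)⁻¹ * u) := by group
          _ = (a * w * a⁻¹)⁻¹ * (a * w * a⁻¹ * (w : G)⁻¹ * u) := by rw [h1]
          _ = _ := by group)
      exact (Subtype.ext (inv_mul_eq_one.1 h2)).symm
    obtain ⟨w, hw⟩ := (Finite.injective_iff_surjective.1 hinj) ⟨_, v, hv, rfl⟩
    have hw' : a * w * a⁻¹ * (w : G)⁻¹ = a * v * a⁻¹ * v⁻¹ := congrArg Subtype.val hw
    refine ⟨v * (w : G)⁻¹, (mem_fixed V).2 ⟨mul_mem hv (inv_mem (hWV w.2)), ?_⟩, w, w.2, by group⟩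
    calc a * (v * (w : G)⁻¹) * a⁻¹ = a * v * a⁻¹ * (a * w * a⁻¹ * (w : G)⁻¹ * w)⁻¹ := by group
      _ = a * v * a⁻¹ * (a * v * a⁻¹ * v⁻¹ * w)⁻¹ := by rw [hw']
      _ = a * v * a⁻¹ * ((w : G)⁻¹ * (a * v * a⁻¹ * v⁻¹)⁻¹) := by group
      _ = a * v * a⁻¹ * ((a * v * a⁻¹ * v⁻¹)⁻¹ * (w : G)⁻¹) := by
        rw [hVc _ (inv_mem (hWV w.2)) _ (inv_mem (hWV ⟨v, hv, rfl⟩))]
      _ = (a * v * a⁻¹) * v * (a * v * a⁻¹)⁻¹ * (w : G)⁻¹ := by group
      _ = v * (w : G)⁻¹ := by rw [hVc _ (hVn.conj_mem v hv a) _ hv, mul_inv_cancel_right]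
  have huniq : ∀ c ∈ C, ∀ w ∈ W, ∀ c' ∈ C, ∀ w' ∈ W, c * w = c' * w' → c = c' ∧ w = w' := by
    intro c hc w hw c' hc' w' hw' he
    have h1 : c'⁻¹ * c = w' * w⁻¹ := by
      rw [inv_mul_eq_iff_eq_mul, ← mul_assoc, ← he, mul_inv_cancel_right]
    have h2 := hCW _ (mul_mem (inv_mem hc') hc) (h1 ▸ mul_mem hw' (inv_mem hw))
    have hcc := (inv_mul_eq_one.1 h2).symm
    subst hcc
    exact ⟨rfl, mul_left_cancel he⟩
  have hCb : C ≠ ⊥ := by
    intro h0
    refine haZ ⟨l, fun v hv => ?_⟩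
    obtain ⟨c, hc, w, hw, rfl⟩ := hdec v hv
    rw [h0, mem_bot] at hc
    subst hc
    rw [one_mul]
    exact hl w hw
  have hWb : W ≠ ⊥ := by
    intro h0
    refine hCne_top (le_antisymm hCV fun v hv => ?_)
    obtain ⟨c, hc, w, hw, rfl⟩ := hdec v hv
    rw [h0, mem_bot] at hw
    subst hw
    rwa [mul_one]
  obtain ⟨⟨w₁, hw₁⟩, hw₁1'⟩ := W.ne_bot_iff_exists_ne_one.1 hWb
  have hw₁1 : w₁ ≠ 1 := fun h0 => hw₁1' (Subtype.ext h0)
  have hl1 : w₁ ^ l ≠ w₁ ^ (1 : ℤ) := fun h0 => hw₁1 (hWfix w₁ hw₁ (by rw [hl w₁ hw₁, h0, zpow_one]))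
  -- the images of `C` and `W` under conjugation
  have hdich : ∀ g : G, (∀ c ∈ C, g * c * g⁻¹ ∈ C) ∨
      ((∀ c ∈ C, g * c * g⁻¹ ∈ W) ∧ ∀ w ∈ W, g * w * g⁻¹ ∈ C) := by
    intro g
    obtain ⟨i, z, ⟨s, hs⟩, hiz, hid⟩ := hconj g
    have hpowW : ∀ n : ℕ, ∀ w ∈ W, a ^ n * w * (a ^ n)⁻¹ = w ^ (l ^ n) := by
      intro n
      induction n with
      | zero => intro w _; simp
      | succ n ih =>
        intro w hw
        calc a ^ (n + 1) * w * (a ^ (n + 1))⁻¹ = a * (a ^ n * w * (a ^ n)⁻¹) * a⁻¹ := by rw [pow_succ']; group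
          _ = w ^ (l ^ (n + 1)) := by rw [ih w hw, ← conj_zpow, hl w hw, ← zpow_mul, pow_succ']
    obtain ⟨n, hn⟩ : ∃ n : ℕ, a ^ i = a ^ n := by
      refine ⟨(i % (orderOf a : ℤ)).toNat, ?_⟩
      rw [← zpow_natCast, Int.toNat_of_nonneg (Int.emod_nonneg _ (by exact_mod_cast (orderOf_pos a).ne')),
        zpow_mod_orderOf]
    -- the action of the conjugate
    have hbv : ∀ c ∈ C, ∀ w ∈ W,
        g * a * g⁻¹ * (c * w) * (g * a * g⁻¹)⁻¹ = c ^ s * w ^ (l ^ n * s) := by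
      intro c hc w hw
      have hcw : c * w ∈ V := mul_mem (hCV hc) (hWV hw)
      have hac : a ^ n * c * (a ^ n)⁻¹ = c := by
        have h1 : a ∈ centralizer ({c} : Set G) :=
          mem_centralizer_singleton_iff.2 (mul_inv_eq_iff_eq_mul.1 ((mem_fixed V).1 hc).2)
        rw [mem_centralizer_singleton_iff.1 (pow_mem h1 n), mul_inv_cancel_right]
      rw [hiz, hn]
      calc a ^ n * z * (c * w) * (a ^ n * z)⁻¹ = a ^ n * (z * (c * w) * z⁻¹) * (a ^ n)⁻¹ := by group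
        _ = (a ^ n * (c * w) * (a ^ n)⁻¹) ^ s := by rw [hs _ hcw, conj_zpow]
        _ = ((a ^ n * c * (a ^ n)⁻¹) * (a ^ n * w * (a ^ n)⁻¹)) ^ s := by group
        _ = (c * w ^ (l ^ n)) ^ s := by rw [hac, hpowW n w hw]
        _ = c ^ s * (w ^ (l ^ n)) ^ s :=
          (show Commute c (w ^ (l ^ n)) from hVc _ (hCV hc) _ (zpow_mem (hWV hw) _)).mul_zpow s
        _ = _ := by rw [← zpow_mul]
    have hbfix : ∀ x ∈ C, ∀ c ∈ C, ∀ w ∈ W, g * x * g⁻¹ = c * w → c ^ s = c ∧ w ^ (l ^ n * s) = w := by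
      intro x hx c hc w hw he
      refine huniq _ (zpow_mem hc s) _ (zpow_mem hw _) c hc w hw ?_
      rw [← hbv c hc w hw, ← he]
      calc g * a * g⁻¹ * (g * x * g⁻¹) * (g * a * g⁻¹)⁻¹ = g * (a * x * a⁻¹) * g⁻¹ := by group
        _ = _ := by rw [((mem_fixed V).1 hx).2]
    by_cases hall : ∀ c ∈ C, g * c * g⁻¹ ∈ C
    · exact Or.inl hall
    right
    push Not at hall
    obtain ⟨x₁, hx₁, hx₁C⟩ := hall
    obtain ⟨c₁, hc₁, w₂, hw₂, he₁⟩ := hdec _ (hVn.conj_mem x₁ (hCV hx₁) g)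
    have hw₂1 : w₂ ≠ 1 := fun h0 => hx₁C (by rw [he₁, h0, mul_one]; exact hc₁)
    have hls : ∀ u ∈ V, u ^ (l ^ n * s) = u := fun u hu => by
      rw [hexp (hWV hw₂) hw₂1 _ 1 (by rw [zpow_one]; exact (hbfix x₁ hx₁ c₁ hc₁ w₂ hw₂ he₁).2) u hu, zpow_one]
    have hs1 : ∀ c ∈ C, c ^ s = c → c = 1 := by
      intro c hc hcs
      by_contra hc1
      -- otherwise the conjugate of `a` would be scalar
      apply haZ
      have h1 : g * a * g⁻¹ ∈ Z := ⟨1, fun v hv => by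
        obtain ⟨c', hc', w', hw', rfl⟩ := hdec v hv
        rw [hbv c' hc' w' hw', zpow_one, hls w' (hWV hw'),
          hexp (hCV hc) hc1 s 1 (by rw [zpow_one]; exact hcs) c' (hCV hc'), zpow_one]⟩
      have := hZn.conj_mem _ h1 g⁻¹
      simpa [mul_assoc] using this
    refine ⟨fun x hx => ?_, ?_⟩
    · obtain ⟨c, hc, w, hw, he⟩ := hdec _ (hVn.conj_mem x (hCV hx) g)
      rw [he, hs1 c hc (hbfix x hx c hc w hw he).1, one_mul]
      exact hw
    · rintro _ ⟨v, hv, rfl⟩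
      obtain ⟨c, hc, w, hw, he⟩ := hdec _ (hVn.conj_mem v hv g)
      have e1 : g * (a * v * a⁻¹ * v⁻¹) * g⁻¹
          = g * a * g⁻¹ * (g * v * g⁻¹) * (g * a * g⁻¹)⁻¹ * (g * v * g⁻¹)⁻¹ := by group
      rw [e1, he, hbv c hc w hw, hls w (hWV hw),
        show c ^ s * w * (c * w)⁻¹ = c ^ s * c⁻¹ by group]
      exact mul_mem (zpow_mem hc s) (inv_mem hc)
  obtain ⟨g₀, hg₀⟩ : ∃ g : G, ¬ ∀ c ∈ C, g * c * g⁻¹ ∈ C := by
    by_contra hall
    push Not at hall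
    rcases hmin C ⟨fun c hc g => hall g c hc⟩ hCV with h0 | h0
    · exact hCb h0
    · exact hCne_top h0
  -- a swapping element of `2`-power order
  let St : Subgroup G :=
    { carrier := {g | ∀ c ∈ C, g * c * g⁻¹ ∈ C}
      one_mem' := fun c hc => by simpa using hc
      mul_mem' := fun {x y} hx hy c hc => by
        rw [show x * y * c * (x * y)⁻¹ = x * (y * c * y⁻¹) * x⁻¹ by group]
        exact hx _ (hy c hc)
      inv_mem' := fun {x} hx c hc => by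
        have hC' : C.map (MulAut.conj x).toMonoidHom = C := conj_eq_self_of_le (by
          rintro _ ⟨y, hy, rfl⟩; exact hx y hy)
        obtain ⟨y, hy, hyc⟩ := hC'.ge hc
        rw [← hyc]
        show x⁻¹ * (x * y * x⁻¹) * x⁻¹⁻¹ ∈ C
        rw [show x⁻¹ * (x * y * x⁻¹) * x⁻¹⁻¹ = y by group]
        exact hy }
  have hsq : ∀ g : G, g * g ∈ St := by
    intro g c hc
    rcases hdich g with h1 | ⟨h1, h2⟩
    · exact St.mul_mem h1 h1 c hc
    · rw [show g * g * c * (g * g)⁻¹ = g * (g * c * g⁻¹) * g⁻¹ by group]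
      exact h2 _ (h1 c hc)
  obtain ⟨g, b₂, -, -, hgb, -, ⟨e₂, he₂⟩, hb₂⟩ :=
    Transfer.PResidual.exists_pPart_mul_pPrimePart (p := 2) g₀ (isOfFinOrder_of_finite g₀)
  have hgSt : g ∉ St := fun hgS => hg₀ (by
    rw [← hgb]
    refine St.mul_mem hgS ?_
    obtain ⟨k, hk⟩ := (Nat.coprime_two_right.1 hb₂)
    have : b₂ = (b₂ ^ (k + 1)) * (b₂ ^ (k + 1)) := by
      rw [← pow_add, show k + 1 + (k + 1) = orderOf b₂ + 1 by omega, pow_succ, pow_orderOf_eq_one, one_mul]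
    rw [this]
    exact hsq _)
  obtain ⟨hgC, hgW⟩ := (hdich g).resolve_left hgSt
  set b := g * a * g⁻¹ with hb
  have hbC : ∀ c ∈ C, b * c * b⁻¹ = c ^ l := by
    intro c hc
    have hC' : W.map (MulAut.conj g).toMonoidHom ≤ C := by
      rintro _ ⟨w, hw, rfl⟩; exact hgW w hw
    have hW' : C.map (MulAut.conj g).toMonoidHom ≤ W := by
      rintro _ ⟨w, hw, rfl⟩; exact hgC w hw
    have heq : W.map (MulAut.conj g).toMonoidHom = C := by
      refine eq_of_le_of_card_ge hC' ?_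
      have h1 := card_le_of_le hW'
      rw [card_conj] at h1 ⊢
      exact h1
    obtain ⟨w, hw, rfl⟩ := heq.ge hc
    show g * a * g⁻¹ * (g * w * g⁻¹) * (g * a * g⁻¹)⁻¹ = (g * w * g⁻¹) ^ l
    rw [conj_zpow, ← hl w hw]
    group
  have hbW : ∀ w ∈ W, b * w * b⁻¹ = w := by
    intro w hw
    have hW' : C.map (MulAut.conj g).toMonoidHom = W := by
      refine eq_of_le_of_card_ge (by rintro _ ⟨c, hc, rfl⟩; exact hgC c hc) ?_
      have h1 : Nat.card (W.map (MulAut.conj g).toMonoidHom) ≤ Nat.card C :=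
        card_le_of_le (by rintro _ ⟨x, hx, rfl⟩; exact hgW x hx)
      rw [card_conj] at h1 ⊢
      exact h1
    obtain ⟨c, hc, rfl⟩ := hW'.ge hw
    show g * a * g⁻¹ * (g * c * g⁻¹) * (g * a * g⁻¹)⁻¹ = g * c * g⁻¹
    calc g * a * g⁻¹ * (g * c * g⁻¹) * (g * a * g⁻¹)⁻¹ = g * (a * c * a⁻¹) * g⁻¹ := by group
      _ = _ := by rw [((mem_fixed V).1 hc).2]
  have haC : ∀ c ∈ C, a * c * a⁻¹ = c := fun c hc => ((mem_fixed V).1 hc).2
  let ψ : G →* MulAut V := MulAut.conjNormal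
  have hψ : ∀ x y : G, ψ x = ψ y → ∀ v ∈ V, x * v * x⁻¹ = y * v * y⁻¹ := fun x y hxy v hv => by
    have := congrArg (fun φ : MulAut V => ((φ ⟨v, hv⟩ : V) : G)) hxy
    simpa [ψ] using this
  have hψext : ∀ x y : G, (∀ c ∈ C, x * c * x⁻¹ = y * c * y⁻¹) → (∀ w ∈ W, x * w * x⁻¹ = y * w * y⁻¹) →
      ψ x = ψ y := by
    intro x y hxc hxw
    refine MulEquiv.ext fun v => Subtype.ext ?_
    obtain ⟨c, hc, w, hw, he⟩ := hdec v v.2
    show x * (v : G) * x⁻¹ = y * (v : G) * y⁻¹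
    rw [he]
    calc x * (c * w) * x⁻¹ = (x * c * x⁻¹) * (x * w * x⁻¹) := by group
      _ = (y * c * y⁻¹) * (y * w * y⁻¹) := by rw [hxc c hc, hxw w hw]
      _ = _ := by group
  -- the exponent is `-1`
  set x := a * a * b with hx
  have hxC : ∀ c ∈ C, x * c * x⁻¹ = c ^ l := by
    intro c hc
    rw [hx, show a * a * b * c * (a * a * b)⁻¹ = a * (a * (b * c * b⁻¹) * a⁻¹) * a⁻¹ by group, hbC c hc,
      haC _ (zpow_mem hc l), haC _ (zpow_mem hc l)]
  have hxW : ∀ w ∈ W, x * w * x⁻¹ = w ^ (l * l) := by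
    intro w hw
    rw [hx, show a * a * b * w * (a * a * b)⁻¹ = a * (a * (b * w * b⁻¹) * a⁻¹) * a⁻¹ by group, hbW w hw,
      hl w hw, ← conj_zpow, hl w hw, ← zpow_mul]
  have hl2 : ∀ v ∈ V, v ^ (l * l) = v := by
    by_contra hne2
    push Not at hne2
    obtain ⟨v₀, hv₀, hv₀'⟩ := hne2
    obtain ⟨k, hk⟩ := hao
    have hψx : (ψ x) ^ r ^ k = 1 := by
      have hcomm : Commute (ψ a) (ψ b) := by
        refine MulEquiv.ext fun v => Subtype.ext ?_
        obtain ⟨c, hc, w, hw, he⟩ := hdec v v.2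
        show a * (b * (v : G) * b⁻¹) * a⁻¹ = b * (a * (v : G) * a⁻¹) * b⁻¹
        rw [he]
        calc a * (b * (c * w) * b⁻¹) * a⁻¹ = (a * (b * c * b⁻¹) * a⁻¹) * (a * (b * w * b⁻¹) * a⁻¹) := by group
          _ = c ^ l * w ^ l := by rw [hbC c hc, haC _ (zpow_mem hc l), hbW w hw, hl w hw]
          _ = (b * c * b⁻¹) * (b * w ^ l * b⁻¹) := by rw [hbC c hc, hbW _ (zpow_mem hw l)]
          _ = (b * (a * c * a⁻¹) * b⁻¹) * (b * (a * w * a⁻¹) * b⁻¹) := by rw [haC c hc, hl w hw]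
          _ = _ := by group
      have hak : a ^ r ^ k = 1 := by rw [← hk, pow_orderOf_eq_one]
      have ha1 : ψ a ^ r ^ k = 1 := by rw [← map_pow, hak, map_one]
      have hb1 : ψ b ^ r ^ k = 1 := by
        rw [← map_pow, hb, conj_pow, hak, mul_one, mul_inv_cancel, map_one]
      rw [hx, map_mul, map_mul, (hcomm.mul_left hcomm).mul_pow, (Commute.refl (ψ a)).mul_pow, ha1, hb1, mul_one, mul_one]
    obtain ⟨y, -, hy, hyo⟩ := exists_pLift (q := r) ψ x hψx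
    have hfix : fixed V y = ⊥ := by
      rw [eq_bot_iff]
      intro v hv
      obtain ⟨hvV, hvy⟩ := (mem_fixed V).1 hv
      obtain ⟨c, hc, w, hw, rfl⟩ := hdec v hvV
      rw [hψ y x hy (c * w) hvV,
        show x * (c * w) * x⁻¹ = (x * c * x⁻¹) * (x * w * x⁻¹) by group, hxC c hc, hxW w hw] at hvy
      obtain ⟨e1, e2⟩ := huniq _ (zpow_mem hc l) _ (zpow_mem hw _) c hc w hw hvy
      have hc1 : c = 1 := by
        by_contra hc1
        exact hl1 (hexp (hCV hc) hc1 l 1 (by rw [zpow_one]; exact e1) w₁ (hWV hw₁))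
      have hw1 : w = 1 := by
        by_contra hw1
        exact hv₀' (by rw [hexp (hWV hw) hw1 (l * l) 1 (by rw [zpow_one]; exact e2) v₀ hv₀, zpow_one])
      rw [hc1, hw1, one_mul]
      exact one_mem _
    obtain ⟨j, hj⟩ := scalar_of_fixed_eq_bot V h hVq hVc hr hrq hyo hfix
    obtain ⟨⟨c₁, hc₁⟩, hc₁1'⟩ := C.ne_bot_iff_exists_ne_one.1 hCb
    have hc₁1 : c₁ ≠ 1 := fun h0 => hc₁1' (Subtype.ext h0)
    have e1 : c₁ ^ j = c₁ ^ l := by rw [← hj c₁ (hCV hc₁), hψ y x hy c₁ (hCV hc₁), hxC c₁ hc₁]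
    have e2 : w₁ ^ j = w₁ ^ (l * l) := by rw [← hj w₁ (hWV hw₁), hψ y x hy w₁ (hWV hw₁), hxW w₁ hw₁]
    have e3 : w₁ ^ (l * l) = w₁ ^ l := e2.symm.trans (hexp (hCV hc₁) hc₁1 j l e1 w₁ (hWV hw₁))
    rw [zpow_eq_zpow_iff_modEq, orderOf_eq_prime (hVq w₁ (hWV hw₁)) hw₁1, Int.modEq_iff_dvd] at e3
    rcases (Nat.prime_iff_prime_int.1 hq.out).dvd_mul.1 (show (q : ℤ) ∣ l * (1 - l) by
      rwa [show l * (1 - l) = l - l * l by ring]) with h6 | h6
    · refine hw₁1 (hWfix w₁ hw₁ ?_)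
      have h7 : w₁ ^ l = 1 := orderOf_dvd_iff_zpow_eq_one.1 (by
        rwa [orderOf_eq_prime (hVq w₁ (hWV hw₁)) hw₁1])
      have h8 := hl w₁ hw₁
      rw [h7] at h8
      exact absurd (conj_eq_one_iff.1 h8) hw₁1
    · apply hl1
      rw [zpow_eq_zpow_iff_modEq, orderOf_eq_prime (hVq w₁ (hWV hw₁)) hw₁1, Int.modEq_iff_dvd]
      exact h6
  have hlneg : ∀ v ∈ V, v ^ l = v⁻¹ := by
    intro v hv
    have h6 := hl2 w₁ (hWV hw₁)
    have h7 : w₁ ^ (l * l) = w₁ ^ (1 : ℤ) := by rw [zpow_one]; exact h6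
    rw [zpow_eq_zpow_iff_modEq, orderOf_eq_prime (hVq w₁ (hWV hw₁)) hw₁1, Int.modEq_iff_dvd] at h7
    rcases (Nat.prime_iff_prime_int.1 hq.out).dvd_mul.1 (show (q : ℤ) ∣ (1 - l) * (1 + l) by
      rwa [show (1 - l) * (1 + l) = 1 - l * l by ring]) with h8 | h8
    · exact absurd (by
        rw [zpow_eq_zpow_iff_modEq, orderOf_eq_prime (hVq w₁ (hWV hw₁)) hw₁1, Int.modEq_iff_dvd]
        exact h8) hl1
    · rw [← zpow_neg_one, zpow_eq_zpow_iff_modEq, Int.modEq_iff_dvd]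
      refine (Int.natCast_dvd_natCast.2 (orderOf_dvd_of_pow_eq_one (hVq v hv))).trans ?_
      rw [show (-1 : ℤ) - l = -(1 + l) by ring]
      exact h8.neg_right
  have hqodd : q ≠ 2 := by
    intro h0
    apply hl1
    rw [hlneg w₁ (hWV hw₁), zpow_one, inv_eq_iff_mul_eq_one, ← pow_two, ← h0]
    exact hVq w₁ (hWV hw₁)
  obtain ⟨k₂, hk₂⟩ : ∃ k : ℕ, orderOf g = 2 ^ k := exists_pow_of_pow_eq_one (q := 2) (hq := ⟨Nat.prime_two⟩) he₂
  have hgg : ∀ c ∈ C, g * (g * c * g⁻¹) * g⁻¹ = c := by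
    intro c hc
    set w := g * c * g⁻¹ with hw
    have hwW : w ∈ W := hgC c hc
    by_cases hw1 : w = 1
    · have : c = 1 := conj_eq_one_iff.1 hw1
      rw [hw1, this]; group
    obtain ⟨-, m, hm⟩ := key h Nat.prime_two (Ne.symm hqodd) hVp (x := g) ⟨k₂, hk₂⟩
      (by rw [normalizer_eq_top]; trivial) (hCV hc)
    have hwc : Commute w c⁻¹ := hVc _ (hWV hwW) _ (inv_mem (hCV hc))
    have h1 : (g * w * g⁻¹) * w⁻¹ = (c⁻¹) ^ m * w ^ m := by
      rw [← hwc.symm.mul_zpow, hwc.symm.eq]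
      calc g * w * g⁻¹ * w⁻¹ = g * (w * c⁻¹) * g⁻¹ := by rw [hw]; group
        _ = (w * c⁻¹) ^ m := hm.symm
    obtain ⟨e1, e2⟩ := huniq _ (hgW w hwW) _ (inv_mem hwW) _ (zpow_mem (inv_mem hc) m) _ (zpow_mem hwW m) h1
    rw [e1, hexp (hWV hwW) hw1 m (-1) (by rw [zpow_neg_one]; exact e2.symm) c⁻¹ (inv_mem (hCV hc)), zpow_neg_one, inv_inv]
  have hgg' : ∀ w ∈ W, g * (g * w * g⁻¹) * g⁻¹ = w := by
    intro w hw
    have hW' : C.map (MulAut.conj g).toMonoidHom = W := by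
      refine eq_of_le_of_card_ge (by rintro _ ⟨c, hc, rfl⟩; exact hgC c hc) ?_
      have h1 : Nat.card (W.map (MulAut.conj g).toMonoidHom) ≤ Nat.card C :=
        card_le_of_le (by rintro _ ⟨x, hx, rfl⟩; exact hgW x hx)
      rw [card_conj] at h1 ⊢
      exact h1
    obtain ⟨c, hc, rfl⟩ := hW'.ge hw
    show g * (g * (g * c * g⁻¹) * g⁻¹) * g⁻¹ = g * c * g⁻¹
    rw [hgg c hc]
  set e := g * a with he
  have heC : ∀ c ∈ C, e * c * e⁻¹ = g * c * g⁻¹ := fun c hc => by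
    rw [he, show g * a * c * (g * a)⁻¹ = g * (a * c * a⁻¹) * g⁻¹ by group, haC c hc]
  have heW : ∀ w ∈ W, e * w * e⁻¹ = (g * w * g⁻¹)⁻¹ := fun w hw => by
    rw [he, show g * a * w * (g * a)⁻¹ = g * (a * w * a⁻¹) * g⁻¹ by group, hl w hw, hlneg w (hWV hw)]
    group
  have he2C : ∀ c ∈ C, e * e * c * (e * e)⁻¹ = c⁻¹ := fun c hc => by
    rw [show e * e * c * (e * e)⁻¹ = e * (e * c * e⁻¹) * e⁻¹ by group, heC c hc, heW _ (hgC c hc), hgg c hc]
  have he2W : ∀ w ∈ W, e * e * w * (e * e)⁻¹ = w⁻¹ := fun w hw => by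
    rw [show e * e * w * (e * e)⁻¹ = e * (e * w * e⁻¹) * e⁻¹ by group, heW w hw,
      heC _ (inv_mem (hgW w hw)), show g * (g * w * g⁻¹)⁻¹ * g⁻¹ = (g * (g * w * g⁻¹) * g⁻¹)⁻¹ by simp only [conj_inv], hgg' w hw]
  have hψe : (ψ e) ^ 2 ^ 2 = 1 := by
    rw [← map_pow, ← map_one ψ]
    refine hψext _ _ (fun c hc => ?_) (fun w hw => ?_)
    · rw [show e ^ 2 ^ 2 = e * e * (e * e) by rw [show (2 : ℕ) ^ 2 = 1 + 1 + (1 + 1) by norm_num, pow_add, pow_add, pow_one],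
        show e * e * (e * e) * c * (e * e * (e * e))⁻¹ = e * e * (e * e * c * (e * e)⁻¹) * (e * e)⁻¹ by group,
        he2C c hc, he2C _ (inv_mem hc)]
      group
    · rw [show e ^ 2 ^ 2 = e * e * (e * e) by rw [show (2 : ℕ) ^ 2 = 1 + 1 + (1 + 1) by norm_num, pow_add, pow_add, pow_one],
        show e * e * (e * e) * w * (e * e * (e * e))⁻¹ = e * e * (e * e * w * (e * e)⁻¹) * (e * e)⁻¹ by group,
        he2W w hw, he2W _ (inv_mem hw)]
      group
  haveI : Fact (Nat.Prime 2) := ⟨Nat.prime_two⟩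
  obtain ⟨e', -, hee, heo⟩ := exists_pLift (q := 2) ψ e hψe
  have hfix : fixed V e' = ⊥ := by
    rw [eq_bot_iff]
    intro v hv
    obtain ⟨hvV, hve⟩ := (mem_fixed V).1 hv
    rw [hψ e' e hee v hvV] at hve
    have h1 : v⁻¹ = v := by
      obtain ⟨c, hc, w, hw, rfl⟩ := hdec v hvV
      calc (c * w)⁻¹ = (e * e * c * (e * e)⁻¹) * (e * e * w * (e * e)⁻¹) := by
            rw [he2C c hc, he2W w hw, hVc _ (inv_mem (hCV hc)) _ (inv_mem (hWV hw))]; group
        _ = e * (e * (c * w) * e⁻¹) * e⁻¹ := by group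
        _ = c * w := by rw [hve, hve]
    have h2 : v ^ 2 = 1 := by rw [pow_two]; exact inv_eq_iff_mul_eq_one.1 h1
    exact mem_bot.2 (orderOf_eq_one_iff.1 (Nat.eq_one_of_dvd_coprimes ((Nat.coprime_primes Nat.prime_two hq.out).2 (Ne.symm hqodd))
      (orderOf_dvd_of_pow_eq_one h2) (orderOf_dvd_of_pow_eq_one (hVq v hvV))))
  obtain ⟨j, hj⟩ := scalar_of_fixed_eq_bot V h hVq hVc Nat.prime_two (Ne.symm hqodd) heo hfix
  obtain ⟨⟨c₁, hc₁⟩, hc₁1'⟩ := C.ne_bot_iff_exists_ne_one.1 hCb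
  apply hc₁1'
  refine Subtype.ext (conj_eq_one_iff.1 (hCW (g * c₁ * g⁻¹) ?_ (hgC c₁ hc₁)))
  rw [← heC c₁ hc₁, ← hψ e' e hee c₁ (hCV hc₁), hj c₁ (hCV hc₁)]
  exact zpow_mem hc₁ j

end Chief

theorem main (n : ℕ) : ∀ (G : Type u) [Group G] [Finite G], Nat.card G ≤ n → Hyp G → Cfsg.IsSupersolvable G := by
  induction n with
  | zero => intro G _ _ h; exact absurd h (Nat.not_le.2 Nat.card_pos)
  | succ n ih =>
    intro G _ _ hcard h
    rcases subsingleton_or_nontrivial G with hs | hnt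
    · exact Supersolvable.of_subsingleton
    set p := (Nat.card G).minFac with hp
    haveI hpf : Fact p.Prime := ⟨Nat.minFac_prime Finite.one_lt_card.ne'⟩
    have hcomp := hasNormalPComplement (q := p) h fun r hr hrd => Nat.minFac_le_of_dvd hr.two_le hrd
    have hres := Transfer.PResidual.hasNormalPComplement_iff_not_dvd.1 hcomp
    set K := Cfsg.pResidual p G with hK
    by_cases hKb : K = ⊥
    · exact Supersolvable.of_isPGroup (Transfer.PResidual.pResidual_eq_bot_iff.1 hKb)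
    have hKlt : Nat.card K < Nat.card G :=
      lt_of_le_of_ne (card_le_card_group K) fun h0 => hres (h0 ▸ Nat.minFac_dvd _)
    have hKs := ih K (by omega) (hyp_of_injective K.subtype_injective h)
    haveI : Group.IsSolvable K := Supersolvable.isSolvable hKs
    haveI : K.Normal := by rw [hK]; infer_instance
    obtain ⟨V, hVn, hVK, hVne, hVmin⟩ := MinNormal.exists_minimal_le (K := K) hKb
    haveI := hVn
    haveI : Group.IsSolvable V :=
      Group.isSolvable_of_isSolvable_injective (f := Subgroup.inclusion hVK) (Subgroup.inclusion_injective hVK)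
    haveI := MinNormal.isMulCommutative_of_solvable hVne hVmin
    obtain ⟨q, hq, hVq⟩ := MinNormal.exists_prime_pow_eq_one hVne hVmin
    haveI : Fact q.Prime := ⟨hq⟩
    have hlt : Nat.card (G ⧸ V) < Nat.card G := by
      rw [card_eq_card_quotient_mul_card_subgroup V]
      exact lt_mul_of_one_lt_right Nat.card_pos ((one_lt_card_iff_ne_bot V).2 hVne)
    have hGV := ih (G ⧸ V) (by omega) (hyp_of_surjective (QuotientGroup.mk'_surjective V) h)
    haveI := isCyclic_of_minimal V h hVq (fun a ha b hb => congrArg Subtype.val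
      ((inferInstance : IsMulCommutative V).is_comm.comm (⟨a, ha⟩ : V) ⟨b, hb⟩)) hVne hVmin hGV
    exact Supersolvable.of_quotient V hGV

/-- Let G be a finite group such that for every pair of distinct primes p and q, every p-element x and every q-element g of G, the order of the subgroup generated by x and g x g⁻¹ is not divisible by q². Then G is supersolvable. -/
theorem result {G : Type*} [Group G] [Finite G]
    (h : ∀ (p q : ℕ), p.Prime → q.Prime → p ≠ q → ∀ (x g : G), (∃ a : ℕ, orderOf x = p ^ a) → (∃ b : ℕ, orderOf g = q ^ b) →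
      ¬ q ^ 2 ∣ Nat.card ↥(Subgroup.zpowers x ⊔ Subgroup.zpowers (g * x * g⁻¹))) :
    Cfsg.IsSupersolvable G :=
  main _ G le_rfl h

end Cfsg.Agent.S3033
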