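import Cfsg.Statements.S3036
import Cfsg.Agent.Lib.LA5.Basic
import Mathlib.Data.Set.Finite.Lemmas
import Mathlib.Data.Set.Finite.Powerset
import Mathlib.Tactic.Ring

set_option autoImplicit false
open Cfsg

namespace Cfsg.Agent.S3036

open Cfsg.Agent.Lib.LA5.Basic
open scoped Pointwise

/-- Let G be a finite non-abelian simple group and A a proper nontrivial subgroup of G. Then |G| > |A| · |C_G(A)|. In particular |G| > |A|² for every nontrivial abelian subgroup A of G. -/
theorem result {G : Type*} [Group G] [Finite G] [IsSimpleGroup G] (hG : ¬ IsMulCommutative G) (A : Subgroup G) (hA1 : A ≠ ⊥) (hA2 : A ≠ ⊤) : Nat.card A * Nat.card ↥(Subgroup.centralizer (A : Set G)) < Nat.card G := by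
  classical
  by_contra hnot
  rw [not_lt] at hnot
  let m : Subgroup G → ℕ := fun X => Nat.card X * Nat.card ↥(Subgroup.centralizer (X : Set G))
  have hZ : Subgroup.center G = ⊥ := by
    refine (IsSimpleGroup.eq_bot_or_eq_top_of_normal (Subgroup.center G) inferInstance).resolve_right ?_
    intro h
    refine hG ⟨⟨fun a b => ?_⟩⟩
    exact ((Subgroup.mem_center_iff.mp (h ▸ Subgroup.mem_top b : b ∈ Subgroup.center G)) a)
  have htop : m ⊤ = Nat.card G := by
    simp only [m, Subgroup.coe_top, Subgroup.centralizer_univ, hZ]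
    simp
  have hbot : m ⊥ = Nat.card G := by
    have : Subgroup.centralizer ((⊥ : Subgroup G) : Set G) = ⊤ := by
      rw [eq_top_iff]
      intro x _ y hy
      obtain rfl : y = 1 := Subgroup.mem_bot.mp hy
      simp
    simp only [m, this]
    simp
  obtain ⟨X₀, hX₀, hmax'⟩ := Set.exists_max_image {X : Subgroup G | X ≠ ⊥ ∧ X ≠ ⊤} m
    (Set.toFinite _) ⟨A, hA1, hA2⟩
  have hge : Nat.card G ≤ m X₀ := hnot.trans (hmax' A ⟨hA1, hA2⟩)
  have hall : ∀ Y : Subgroup G, m Y ≤ m X₀ := by
    intro Y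
    by_cases h1 : Y = ⊥
    · rw [h1, hbot]; exact hge
    by_cases h2 : Y = ⊤
    · rw [h2, htop]; exact hge
    exact hmax' Y ⟨h1, h2⟩
  obtain ⟨M, ⟨hM0, hMt, hMm⟩, hMmax⟩ := Set.Finite.exists_maximalFor (id : Subgroup G → Subgroup G)
    {X : Subgroup G | X ≠ ⊥ ∧ X ≠ ⊤ ∧ m X = m X₀} (Set.toFinite _) ⟨X₀, hX₀.1, hX₀.2, rfl⟩
  have hconj : ∀ g : G, M.map (MulAut.conj g).toMonoidHom = M := by
    intro g
    set N := M.map (MulAut.conj g).toMonoidHom with hN
    have hNm : m N = m X₀ := by
      simp only [m, hN, centralizer_conj, card_conj]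
      exact hMm
    have s1 := card_mul_le_card_sup_mul_card_inf M N
    have s2 := card_inf_centralizer_supermodular (⊤ : Subgroup G) M N
    simp only [top_inf_eq] at s2
    have hprod : m (M ⊔ N) * m (M ⊓ N) ≤ m M * m N := by
      rw [hMm, hNm]
      exact Nat.mul_le_mul (hall _) (hall _)
    have hprod' : m M * m N ≤ m (M ⊔ N) * m (M ⊓ N) := by
      simp only [m]
      calc _ = (Nat.card M * Nat.card N) * (Nat.card ↥(Subgroup.centralizer (M : Set G)) *
            Nat.card ↥(Subgroup.centralizer (N : Set G))) := by ring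
        _ ≤ _ := Nat.mul_le_mul s1 s2
        _ = _ := by ring
    have hpos : ∀ X : Subgroup G, 0 < m X := fun X => Nat.mul_pos Nat.card_pos Nat.card_pos
    have hjoin : m (M ⊔ N) = m X₀ := by
      refine le_antisymm (hall _) ?_
      rw [hMm, hNm] at hprod'
      exact Nat.le_of_mul_le_mul_right (hprod'.trans (Nat.mul_le_mul_left _ (hall (M ⊓ N)))) (hpos _)
    by_cases ht : M ⊔ N = ⊤
    · have hs : Nat.card ↥(M ⊔ N) * Nat.card ↥(M ⊓ N) ≤ Nat.card M * Nat.card N := by
        have heq := le_antisymm hprod hprod'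
        simp only [m] at heq
        by_contra hc
        rw [not_le] at hc
        have := Nat.mul_lt_mul_of_lt_of_le hc s2 (Nat.mul_pos Nat.card_pos Nat.card_pos)
        rw [mul_mul_mul_comm, mul_mul_mul_comm (Nat.card ↥(M ⊔ N))] at this
        omega
      have hset := sup_eq_setMul_of_card hs
      obtain ⟨a, ha, b, hb, hab⟩ : g⁻¹ ∈ (M : Set G) * (N : Set G) := by
        rw [← hset, ht]; trivial
      have hb' : g⁻¹ * b * g ∈ M := mem_conj_iff.mp hb
      have hgM : g ∈ M := by
        have e : g = a⁻¹ * (g⁻¹ * b * g)⁻¹ := by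
          have hab' : a * b = g⁻¹ := hab
          have hb2 : b = a⁻¹ * g⁻¹ := by rw [← hab']; group
          rw [hb2]; group
        rw [e]
        exact mul_mem (inv_mem ha) (inv_mem hb')
      exact mem_normalizer_iff_conj_eq.mp (Subgroup.le_normalizer hgM)
    · have hne : M ⊔ N ≠ ⊥ := fun h => hM0 (le_bot_iff.mp (h ▸ le_sup_left))
      have := hMmax (j := M ⊔ N) ⟨hne, ht, hjoin⟩ le_sup_left
      exact conj_eq_self_of_le (le_sup_right.trans this)
  have hnormal : M.Normal := by
    refine ⟨fun x hx g => ?_⟩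
    rw [← hconj g, mem_conj_iff]
    simpa [mul_assoc] using hx
  exact (IsSimpleGroup.eq_bot_or_eq_top_of_normal M hnormal).elim hM0 hMt

end Cfsg.Agent.S3036
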