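import Cfsg.Statements.S3037
import Cfsg.Agent.Lib.LA5.Basic

set_option autoImplicit false
open Cfsg

namespace Cfsg.Agent.S3037

open Cfsg.Agent.Lib.LA5.Basic

/-- Let V and G be subgroups of a finite group with V an elementary abelian p-group (p prime) on which G acts faithfully and irreducibly by conjugation: G normalizes V, G ∩ C(V) = 1, and the only subgroups of V normalized by G are 1 and V. If for some nontrivial subgroup A of G and some real α > 0 one has |V| ≤ |A|^α · |C_V(A)|, then |V| ≤ |G|^α. -/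
theorem result {X : Type*} [Group X] [Finite X] {p : ℕ} [Fact p.Prime] (V G : Subgroup X) (hV : Cfsg.IsElementaryAbelian p V)
    (hGV : G ≤ Subgroup.normalizer (V : Set X)) (hfaith : G ⊓ Subgroup.centralizer (V : Set X) = ⊥)
    (hirr : ∀ W : Subgroup X, W ≤ V → G ≤ Subgroup.normalizer (W : Set X) → W = ⊥ ∨ W = V)
    (A : Subgroup X) (hA : A ≤ G) (hA1 : A ≠ ⊥) (α : ℝ) (hα : 0 < α)
    (hbig : (Nat.card V : ℝ) ≤ (Nat.card A : ℝ) ^ α * (Nat.card ↥(V ⊓ Subgroup.centralizer (A : Set X)) : ℝ)) :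
    (Nat.card V : ℝ) ≤ (Nat.card G : ℝ) ^ α := by
  classical
  let c : Subgroup X → ℝ := fun B => (Nat.card ↥(V ⊓ Subgroup.centralizer (B : Set X)) : ℝ)
  let f : Subgroup X → ℝ := fun B => (Nat.card B : ℝ) ^ α * c B
  have hpos : ∀ B, 0 < f B := fun B =>
    mul_pos (Real.rpow_pos_of_pos (Nat.cast_pos.mpr Nat.card_pos) _) (Nat.cast_pos.mpr Nat.card_pos)
  have hsuper : ∀ B C : Subgroup X, f B * f C ≤ f (B ⊔ C) * f (B ⊓ C) := by
    intro B C
    have h1 : ((Nat.card B : ℝ) * Nat.card C) ≤ (Nat.card ↥(B ⊔ C) : ℝ) * Nat.card ↥(B ⊓ C) := by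
      exact_mod_cast card_mul_le_card_sup_mul_card_inf B C
    have h2 : c B * c C ≤ c (B ⊔ C) * c (B ⊓ C) := by
      simp only [c]
      exact_mod_cast card_inf_centralizer_supermodular V B C
    have h3 := Real.rpow_le_rpow (by positivity) h1 hα.le
    rw [Real.mul_rpow (by positivity) (by positivity), Real.mul_rpow (by positivity) (by positivity)] at h3
    calc f B * f C = ((Nat.card B : ℝ) ^ α * (Nat.card C : ℝ) ^ α) * (c B * c C) := by simp only [f]; ring
      _ ≤ _ := mul_le_mul h3 h2 (by positivity) (by positivity)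
      _ = f (B ⊔ C) * f (B ⊓ C) := by simp only [f]; ring
  obtain ⟨B₀, hB₀, hmax'⟩ := Set.exists_max_image {B : Subgroup X | B ≤ G} f (Set.toFinite _) ⟨G, le_refl G⟩
  have hmax : ∀ B : {B : Subgroup X // B ≤ G}, f B ≤ f B₀ := fun B => hmax' B B.2
  obtain ⟨B, ⟨hBG, hBf⟩, hBmax⟩ := Set.Finite.exists_maximalFor (id : Subgroup X → Subgroup X)
    {B : Subgroup X | B ≤ G ∧ f B = f B₀} (Set.toFinite _) ⟨B₀, hB₀, rfl⟩
  have habsorb : ∀ C, C ≤ G → f C = f B₀ → C ≤ B := by
    intro C hC hCf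
    have hj : f (B ⊔ C) = f B₀ := by
      refine le_antisymm (hmax ⟨_, sup_le hBG hC⟩) ?_
      have h := hsuper B C
      rw [hBf, hCf] at h
      exact le_of_mul_le_mul_right
        (h.trans (mul_le_mul_of_nonneg_left (hmax ⟨_, inf_le_left.trans hBG⟩) (hpos _).le)) (hpos _)
    exact le_sup_right.trans (hBmax (j := B ⊔ C) ⟨sup_le hBG hC, hj⟩ le_sup_left)
  have hbot : f ⊥ = (Nat.card V : ℝ) := by
    have : V ⊓ Subgroup.centralizer ((⊥ : Subgroup X) : Set X) = V := by
      rw [inf_eq_left]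
      intro x _ y hy
      obtain rfl : y = 1 := Subgroup.mem_bot.mp hy
      simp
    simp only [f, c, this]
    simp
  have hAf : (Nat.card V : ℝ) ≤ f A := hbig
  have hinv : ∀ g ∈ G, B.map (MulAut.conj g).toMonoidHom = B := by
    intro g hg
    have hVg : V.map (MulAut.conj g).toMonoidHom = V := mem_normalizer_iff_conj_eq.mp (hGV hg)
    have hGg : G.map (MulAut.conj g).toMonoidHom = G := mem_normalizer_iff_conj_eq.mp (Subgroup.le_normalizer hg)
    refine conj_eq_self_of_le (habsorb _ (hGg ▸ Subgroup.map_mono hBG) ?_)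
    rw [← hBf]
    simp only [f, c]
    rw [centralizer_conj, card_conj]
    conv_lhs => rw [← hVg, ← Subgroup.map_inf _ _ _ (MulAut.conj g).injective, card_conj]
  have hB1 : B ≠ ⊥ := by
    intro h
    rw [h, hbot] at hBf
    exact hA1 (le_bot_iff.mp (h ▸ habsorb A hA (le_antisymm (hmax ⟨A, hA⟩) (hBf ▸ hAf))))
  have hWinv : G ≤ Subgroup.normalizer ((V ⊓ Subgroup.centralizer (B : Set X) : Subgroup X) : Set X) := by
    intro g hg
    rw [mem_normalizer_iff_conj_eq, Subgroup.map_inf _ _ _ (MulAut.conj g).injective,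
      mem_normalizer_iff_conj_eq.mp (hGV hg), ← centralizer_conj, hinv g hg]
  rcases hirr _ inf_le_left hWinv with hW | hW
  · have hle : f A ≤ f B := hBf ▸ hmax ⟨A, hA⟩
    calc (Nat.card V : ℝ) ≤ f B := hAf.trans hle
      _ = (Nat.card B : ℝ) ^ α := by
        simp only [f, c]
        rw [hW, Subgroup.card_bot]
        simp
      _ ≤ (Nat.card G : ℝ) ^ α := by
        refine Real.rpow_le_rpow (by positivity) ?_ hα.le
        exact_mod_cast Subgroup.card_le_of_le hBG
  · exfalso
    refine hB1 (le_bot_iff.mp (hfaith ▸ le_inf hBG ?_))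
    rw [Subgroup.le_centralizer_iff]
    rw [inf_eq_left] at hW
    exact hW

end Cfsg.Agent.S3037
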