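import Cfsg.Statements.S3049
import Cfsg.Agent.Lib.LAEven57.Isolated
import Cfsg.Agent.Lib.FStarTools.Basic
import Cfsg.Agent.Lib.LAEven54.SylowJoin
import Cfsg.Agent.Lib.OddLocal.CoprimeFix
import Cfsg.Agent.Lib.Transfer.Frobenius
import Cfsg.Agent.Lib.PGroups.Omega
import Cfsg.Agent.Lib.Components.PComponent

set_option autoImplicit false
open Cfsg

namespace Cfsg.Agent.S3049

open Subgroup Cfsg.Agent.Lib Cfsg.Agent.Lib.Components

variable {G : Type*} [Group G] [Finite G] {p : ℕ} [hp' : Fact p.Prime]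

/-- Components have no normal `p`-complement. -/
theorem component_false (hp : p ≠ 2) (hcore : Cfsg.pPrimeCore p G = ⊥) (S : Sylow p G) {K : Subgroup G}
    (hK : Cfsg.IsComponent K)
    (hfus : ∀ h ∈ (S : Subgroup G), h ∈ K → orderOf h = p → ∀ g ∈ K, g * h * g⁻¹ ∈ (S : Subgroup G) →
      g * h * g⁻¹ = h) : False := by
  have hnpc : Cfsg.HasNormalPComplement p ↥K := by
    refine Transfer.Frobenius.hasNormalPComplement_of_forall_centralizes fun Q hQ _ g hg hgp => ?_
    obtain ⟨T, hQT⟩ := hQ.exists_le_sylow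
    obtain ⟨c, hc, hcT⟩ := CosetGraph.SylowIn.IsSylowIn.exists_conj (CosetGraph.SylowIn.isSylowIn_map_sylow T)
      (LAEven54.SylowJoin.isSylowIn_inf S hK.1)
    have hmem : ∀ q : K, q ∈ Q → c * (q : G) * c⁻¹ ∈ (S : Subgroup G) := fun q hq =>
      ((hcT ▸ ⟨(q : G), ⟨q, hQT hq, rfl⟩, rfl⟩ : c * (q : G) * c⁻¹ ∈ (S : Subgroup G) ⊓ K)).1
    have hfix : ∀ q ∈ Q, orderOf q = p → g * q = q * g := by
      intro q hq hqo
      have hgq : g * q * g⁻¹ ∈ Q := (mem_normalizer_iff.1 hg q).1 hq
      have h1 := hfus _ (hmem q hq) (K.mul_mem (K.mul_mem hc q.2) (inv_mem hc))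
        (by rw [← MulAut.conj_apply, MulEquiv.orderOf_eq, orderOf_coe, hqo]) (c * g * c⁻¹)
        (K.mul_mem (K.mul_mem hc g.2) (inv_mem hc)) ?_
      · refine Subtype.ext ?_
        show (g : G) * q = q * g
        calc (g : G) * q = c⁻¹ * (c * g * c⁻¹ * (c * q * c⁻¹) * (c * g * c⁻¹)⁻¹) * (c * g * c⁻¹) * c := by group
          _ = c⁻¹ * (c * q * c⁻¹) * (c * g * c⁻¹) * c := by rw [h1]
          _ = _ := by group
      · have := hmem _ hgq
        simp only [coe_mul, coe_inv] at this
        simpa [mul_assoc] using this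
    exact mem_centralizer_iff.2 fun q hq => (OddLocal.CoprimeFix.centralizes_of_omega hp hgp hQ hg hfix q hq).symm
  obtain ⟨P, N, hN, hc⟩ := hnpc
  rcases Quasisimple.normal_le_center_or_eq_top hK.2 hN with hle | htop
  · refine Component.not_isSolvable hK ?_
    haveI : IsMulCommutative N := ⟨⟨fun a b => Subtype.ext (mem_center_iff.1 (hle b.2) a)⟩⟩
    haveI : Group.IsSolvable N := Group.isSolvable_of_comm fun a b => IsMulCommutative.is_comm.comm a b
    haveI := P.isPGroup'.isNilpotent
    have e : (P : Subgroup K) ≃* ↥K ⧸ N := (IsComplement'.QuotientMulEquiv hc.symm).symm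
    haveI : Group.IsSolvable (↥K ⧸ N) := Group.isSolvable_of_surjective (f := e.toMonoidHom) e.surjective
    exact Group.isSolvable_of_ker_le_range N.subtype (QuotientGroup.mk' N) (by rw [QuotientGroup.ker_mk', range_subtype])
  · subst htop
    have h1 : ¬ p ∣ Nat.card K := by
      intro hd
      have := hc.card_mul
      rw [card_top] at this
      have hP1 : Nat.card (P : Subgroup K) = 1 :=
        Nat.eq_of_mul_eq_mul_left Nat.card_pos (this.trans (mul_one _).symm)
      exact hp'.out.one_lt.ne' (Nat.dvd_one.1 (hP1 ▸ P.dvd_card_of_dvd_card hd))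
    have h2 := PComponent.subnormal_coprime_le (p := p) hK.1 ((hp'.out.coprime_iff_not_dvd.2 h1).symm)
    exact Component.ne_bot hK (le_bot_iff.1 (hcore ▸ h2))

/-- In `p`-rank at most two, commuting elements of order `p` generate all those commuting with both. -/
theorem mem_sup_of_rank (hrank : Cfsg.PRankLE p 2 G) {u v h : G} (hu : orderOf u = p) (hv : v ^ p = 1)
    (hvu : v ∉ zpowers u) (huv : Commute u v) (hh : h ^ p = 1) (hhu : Commute h u) (hhv : Commute h v) :
    ∃ a b : ℤ, h = u ^ a * v ^ b := by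
  have hU : ∀ g ∈ closure {u, v}, ∃ a b : ℤ, g = u ^ a * v ^ b := by
    intro g hg
    induction hg using closure_induction with
    | mem g hg =>
      rcases hg with rfl | rfl
      · exact ⟨1, 0, by simp⟩
      · exact ⟨0, 1, by simp⟩
    | one => exact ⟨0, 0, by simp⟩
    | mul a b _ _ ha hb =>
      obtain ⟨i, j, rfl⟩ := ha
      obtain ⟨i', j', rfl⟩ := hb
      refine ⟨i + i', j + j', ?_⟩
      rw [zpow_add, zpow_add]
      calc u ^ i * v ^ j * (u ^ i' * v ^ j') = u ^ i * (v ^ j * u ^ i') * v ^ j' := by group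
        _ = u ^ i * (u ^ i' * v ^ j) * v ^ j' := by rw [(huv.symm.zpow_zpow j i').eq]
        _ = _ := by group
    | inv a _ ha =>
      obtain ⟨i, j, rfl⟩ := ha
      exact ⟨-i, -j, by rw [mul_inv_rev, ← zpow_neg, ← zpow_neg]; exact (huv.symm.zpow_zpow _ _).eq⟩
  refine hU h ?_
  set W := closure ({u, v, h} : Set G) with hW
  haveI : IsMulCommutative W := isMulCommutative_closure (by
    intro a ha b hb
    rcases ha with rfl | rfl | rfl <;> rcases hb with rfl | rfl | rfl <;>
      first | rfl | exact huv.eq | exact huv.eq.symm | exact hhu.eq | exact hhu.eq.symm | exact hhv.eq | exact hhv.eq.symm)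
  have hWp : ∀ a ∈ W, a ^ p = 1 := by
    intro a ha
    have : (⟨a, ha⟩ : W) ^ p = 1 := by
      induction ha using closure_induction with
      | mem b hb => refine Subtype.ext ?_; rcases hb with rfl | rfl | rfl <;>
          first | exact hv | exact hh | exact (hu ▸ pow_orderOf_eq_one _)
      | one => exact one_pow p
      | mul b c hb hc ihb ihc =>
        rw [show (⟨b * c, mul_mem hb hc⟩ : W) = ⟨b, hb⟩ * ⟨c, hc⟩ from rfl,
          (show Commute (⟨b, hb⟩ : W) ⟨c, hc⟩ from IsMulCommutative.is_comm.comm _ _).mul_pow, ihb, ihc, one_mul]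
      | inv b hb ihb => rw [show (⟨b⁻¹, inv_mem hb⟩ : W) = ⟨b, hb⟩⁻¹ from rfl, inv_pow, ihb, inv_one]
    exact congrArg Subtype.val this
  have hcardW := hrank W inferInstance hWp
  by_contra hmem
  have hWpg : IsPGroup p W := fun a => ⟨1, by rw [pow_one]; exact Subtype.ext (hWp a a.2)⟩
  obtain ⟨m, hm⟩ := IsPGroup.iff_card.1 hWpg
  have hUW : closure ({u, v} : Set G) ≤ W := closure_mono fun g hg => by
    rcases hg with rfl | rfl <;> simp
  obtain ⟨k, hkm, hk⟩ := (Nat.dvd_prime_pow hp'.out).1 (hm ▸ card_dvd_of_le hUW)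
  have hzU : zpowers u ≤ closure ({u, v} : Set G) := zpowers_le.2 (subset_closure (by simp))
  have hk2 : 2 ≤ k := by
    by_contra hk2
    refine hvu ((eq_of_le_of_card_ge hzU ?_).symm ▸ (subset_closure (by simp) : v ∈ closure ({u, v} : Set G)))
    rw [hk, Nat.card_zpowers, hu]
    exact (Nat.pow_le_pow_right hp'.out.pos (by omega : k ≤ 1)).trans_eq (pow_one p)
  have hkm' : k < m := lt_of_le_of_ne hkm fun e => hmem ((eq_of_le_of_card_ge hUW (by rw [hk, hm, e])).symm ▸
    (subset_closure (by simp) : h ∈ W))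
  have := (Nat.pow_le_pow_iff_right hp'.out.one_lt).1 (hm ▸ hcardW)
  omega

/-- Let G be a finite group and p an odd prime with O_{p'}(G) = 1. Suppose that G has p-rank at most 2 (no elementary abelian subgroup of order p³) and that some element x of order p is isolated in G (no G-conjugate of x other than x commutes with x) and not central. Then the generalized Fitting subgroup F*(G) is a non-abelian simple group. Since O_{p'}(G) = 1, such an x is not central modulo O_{p'}(G): the hypotheses describe a counterexample to the Z*_p statement in p-rank at most 2. -/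
theorem result {G : Type*} [Group G] [Finite G] {p : ℕ} [Fact p.Prime] (hp : p ≠ 2) (hcore : Cfsg.pPrimeCore p G = ⊥)
    (hrank : Cfsg.PRankLE p 2 G) (x : G) (hx : orderOf x = p) (hiso : Cfsg.IsIsolated x) (hnc : x ∉ Subgroup.center G) :
    IsSimpleGroup ↥(Cfsg.generalizedFittingSubgroup G) ∧ ¬ IsMulCommutative ↥(Cfsg.generalizedFittingSubgroup G) := by
  classical
  have hpp : p.Prime := Fact.out
  obtain ⟨S, hS⟩ := (LAEven57.zpowers_isPGroup (p := p) (x := x) ⟨1, by rw [hx, pow_one]⟩).exists_le_sylow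
  have hxS : x ∈ (S : Subgroup G) := hS (mem_zpowers x)
  have hxc : ∀ s ∈ (S : Subgroup G), Commute x s := fun s hs =>
    LAEven57.commute_of_mem_pGroup hiso S.isPGroup' hxS hs
  have hxfix : ∀ g : G, g * x * g⁻¹ ∈ (S : Subgroup G) → g * x * g⁻¹ = x := fun g hg =>
    LAEven57.conj_eq_of_mem_pGroup hiso S.isPGroup' hxS hg
  have hF : Cfsg.fittingSubgroup G = Cfsg.pCore p G := FStarTools.fitting_eq_pCore hcore
  have hxO : x ∉ Cfsg.pCore p G := fun h => hnc (mem_center_iff.2 fun g => by
    have := hxfix g (Cores.pCore_le_sylow S ((inferInstance : (Cfsg.pCore p G).Normal).conj_mem x h g))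
    calc g * x = g * x * g⁻¹ * g := by group
      _ = x * g := by rw [this])
  obtain ⟨K₀, hK₀⟩ : ∃ K, Cfsg.IsComponent K := by
    refine (Layer.layer_ne_bot_iff (G := G)).1 fun h0 => hxO ?_
    have h1 := FStarTools.center_genFitting_le (X := G)
    rw [Cfsg.generalizedFittingSubgroup, h0, bot_sup_eq, hF] at h1
    exact h1 (mem_centralizer_iff.2 fun o ho => (hxc o (Cores.pCore_le_sylow S ho)).eq.symm)
  -- a central element of order `p` in a nontrivial normal subgroup of `S`
  have hcentral : ∀ R : Subgroup G, R ≤ (S : Subgroup G) → R ≠ ⊥ → (S : Subgroup G) ≤ normalizer (R : Set G) →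
      ∃ z ∈ R, orderOf z = p ∧ ∀ s ∈ (S : Subgroup G), Commute z s := by
    intro R hRS hR hn
    haveI : (R.subgroupOf (S : Subgroup G)).Normal := (normal_subgroupOf_iff_le_normalizer hRS).2 hn
    have h0 := PGroups.normal_inf_center_ne_bot S.isPGroup' (R.subgroupOf (S : Subgroup G)) (fun h => hR (by
      rw [← map_subgroupOf_eq_of_le hRS, h, Subgroup.map_bot]))
    obtain ⟨m, hm⟩ := IsPGroup.iff_card.1 (S.isPGroup'.to_subgroup (R.subgroupOf (S : Subgroup G) ⊓ center _))
    have hm0 : m ≠ 0 := fun h => h0 (Subgroup.card_eq_one.1 (by rw [hm, h, pow_zero]))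
    obtain ⟨⟨z, hz⟩, hzo⟩ := exists_prime_orderOf_dvd_card' p (hm.symm ▸ dvd_pow_self p hm0)
    refine ⟨z, hz.1, ?_, fun s hs => (congrArg Subtype.val (mem_center_iff.1 hz.2 ⟨s, hs⟩)).symm⟩
    rwa [orderOf_mk, ← orderOf_coe] at hzo
  have hpow : ∀ {u : G}, orderOf u = p → u ^ p = 1 := fun hu => hu ▸ pow_orderOf_eq_one _
  -- the `p`-core is trivial
  have hO : Cfsg.pCore p G = ⊥ := by
    by_contra hne
    obtain ⟨z, hzO, hzp, hzS⟩ := hcentral _ (Cores.pCore_le_sylow S) hne
      (by rw [normalizer_eq_top]; exact le_top)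
    have hxz : x ∉ zpowers z := fun h => hxO (zpowers_le.2 hzO h)
    refine component_false hp hcore S hK₀ fun h hhS hhK hho g hgK hg => ?_
    obtain ⟨a, b, rfl⟩ := mem_sup_of_rank hrank hzp (hpow hx) hxz (hzS x hxS) (hpow hho)
      (hzS _ hhS).symm (hxc _ hhS).symm
    have hgz : g * z * g⁻¹ = z := by
      have := mem_centralizer_iff.1 (Component.fittingSubgroup_le_centralizer hK₀ (hF.symm ▸ hzO)) g hgK
      rw [this, mul_inv_cancel_right]
    rcases eq_or_ne (b : ZMod p) 0 with hb | hb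
    · have : x ^ b = 1 := orderOf_dvd_iff_zpow_eq_one.1 (hx.symm ▸ (ZMod.intCast_zmod_eq_zero_iff_dvd b p).1 hb)
      rw [this, mul_one, ← conj_zpow, hgz]
    · have hgx : g * x * g⁻¹ ∈ (S : Subgroup G) := by
        have h1 : g * x ^ b * g⁻¹ = (g * z ^ a * g⁻¹)⁻¹ * (g * (z ^ a * x ^ b) * g⁻¹) := by group
        have h2 : x = (x ^ b) ^ (((b : ZMod p)⁻¹).val : ℤ) := by
          rw [← zpow_mul]
          conv_lhs => rw [← zpow_one x]
          rw [zpow_eq_zpow_iff_modEq, hx, ← ZMod.intCast_eq_intCast_iff]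
          push_cast
          rw [ZMod.natCast_zmod_val, mul_inv_cancel₀ hb]
        rw [h2, ← conj_zpow, h1, ← conj_zpow, hgz]
        exact zpow_mem (mul_mem (inv_mem (zpow_mem (Cores.pCore_le_sylow S hzO) a)) hg) _
      have h3 := hxfix g hgx
      calc g * (z ^ a * x ^ b) * g⁻¹ = (g * z * g⁻¹) ^ a * (g * x * g⁻¹) ^ b := by rw [conj_zpow, conj_zpow]; group
        _ = _ := by rw [hgz, h3]
  -- components are simple
  have hZ : ∀ K : Subgroup G, Cfsg.IsComponent K → center ↥K = ⊥ := by
    intro K hK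
    have h1 := map_mono (f := K.subtype) (Cores.center_le_fittingSubgroup (G := ↥K))
    rw [FStarTools.map_fitting_subnormal hK.1, hF, hO, bot_inf_eq, le_bot_iff] at h1
    exact (map_eq_bot_iff_of_injective _ K.subtype_injective).1 h1
  have huniq : ∀ K : Subgroup G, Cfsg.IsComponent K → K = K₀ := by
    intro K hK
    by_contra hne
    have hSn : ∀ K : Subgroup G, Cfsg.IsComponent K → ∃ z ∈ (S : Subgroup G), z ∈ K ∧ orderOf z = p := by
      intro K hK
      obtain ⟨m, hm⟩ := IsPGroup.iff_card.1 (S.isPGroup'.to_le (inf_le_left : (S : Subgroup G) ⊓ K ≤ S))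
      have hm0 : m ≠ 0 := by
        intro h
        refine component_false hp hcore S hK fun h' hhS hhK hho _ _ _ => ?_
        have h0 := Subgroup.card_eq_one.1 (show Nat.card ((S : Subgroup G) ⊓ K : Subgroup G) = 1 by rw [hm, h, pow_zero])
        rw [show h' = 1 from Subgroup.mem_bot.1 (h0 ▸ ⟨hhS, hhK⟩ : h' ∈ (⊥ : Subgroup G)), orderOf_one] at hho
        exact absurd hho.symm hpp.ne_one
      obtain ⟨⟨z, hz⟩, hzo⟩ := exists_prime_orderOf_dvd_card' p (hm.symm ▸ dvd_pow_self p hm0)
      exact ⟨z, hz.1, hz.2, by rwa [orderOf_mk] at hzo⟩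
    obtain ⟨y, hyS, hyK, hyp⟩ := hSn K hK
    obtain ⟨y', hy'S, hy'K, hy'p⟩ := hSn K₀ hK₀
    have hyy' : Commute y y' :=
      (mem_centralizer_iff.1 (Component.le_centralizer_of_ne hK₀ hK (Ne.symm hne) hy'K) y hyK)
    have hdisj : ∀ u, u ∈ K → u ∈ K₀ → u = 1 := by
      intro u hu hu'
      have h1 : (⟨u, hu⟩ : K) ∈ center ↥K := mem_center_iff.2 fun w => Subtype.ext
        (mem_centralizer_iff.1 (Component.le_centralizer_of_ne hK₀ hK (Ne.symm hne) hu') w w.2)
      rw [hZ K hK, Subgroup.mem_bot] at h1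
      exact congrArg Subtype.val h1
    have hy'y : y' ∉ zpowers y := fun h => by
      have h1 := hdisj y' (zpowers_le.2 hyK h) hy'K
      rw [h1, orderOf_one] at hy'p
      exact hpp.ne_one hy'p.symm
    obtain ⟨a, b, hxab⟩ := mem_sup_of_rank hrank hyp (hpow hy'p) hy'y hyy' (hpow hx)
      (hxc y hyS) (hxc y' hy'S)
    -- one of the two components is hit
    have key : ∀ (L L' : Subgroup G) (w w' : G) (i j : ℤ), Cfsg.IsComponent L → Cfsg.IsComponent L' → L ≠ L' →
        w ∈ L → w' ∈ L' → orderOf w = p → orderOf w' = p → w ∈ (S : Subgroup G) → w' ∈ (S : Subgroup G) →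
        x = w ^ i * w' ^ j → (i : ZMod p) ≠ 0 → False := by
      intro L L' w w' i j hL hL' hLL hw hw' hwp hw'p hwS hw'S hxw hi
      refine component_false hp hcore S hL fun h hhS hhL hho g hgL hg => ?_
      have hd : ∀ u, u ∈ L → u ∈ L' → u = 1 := by
        intro u hu hu'
        have h1 : (⟨u, hu⟩ : L) ∈ center ↥L := mem_center_iff.2 fun v => Subtype.ext
          (mem_centralizer_iff.1 (Component.le_centralizer_of_ne hL' hL (Ne.symm hLL) hu') v v.2)
        rw [hZ L hL, Subgroup.mem_bot] at h1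
        exact congrArg Subtype.val h1
      have hww' : Commute w w' :=
        (mem_centralizer_iff.1 (Component.le_centralizer_of_ne hL hL' hLL hw) w' hw').symm
      have hxw' : x ∉ zpowers w' := fun h => by
        have h1 : w ^ i ∈ L' := by
          have h2 := mul_mem (zpowers_le.2 hw' h) (inv_mem (zpow_mem hw' j))
          rwa [hxw, mul_inv_cancel_right] at h2
        exact hi ((ZMod.intCast_zmod_eq_zero_iff_dvd i p).2
          (hwp ▸ orderOf_dvd_iff_zpow_eq_one.2 (hd _ (zpow_mem hw i) h1)))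
      have hhw' : Commute h w' :=
        (mem_centralizer_iff.1 (Component.le_centralizer_of_ne hL hL' hLL hhL) w' hw').symm
      obtain ⟨c₀, d₀, hh⟩ := mem_sup_of_rank hrank hw'p (hpow hx) hxw' (hxc w' hw'S).symm (hpow hho)
        hhw' (hxc h hhS).symm
      obtain ⟨c, rfl⟩ : ∃ c, c = i * d₀ := ⟨_, rfl⟩
      have hsplit : h = w ^ (i * d₀) * w' ^ (c₀ + j * d₀) := by
        rw [hh, hxw, (hww'.zpow_zpow i j).mul_zpow, ← zpow_mul, ← zpow_mul, zpow_add]
        calc w' ^ c₀ * (w ^ (i * d₀) * w' ^ (j * d₀)) = (w' ^ c₀ * w ^ (i * d₀)) * w' ^ (j * d₀) := by group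
          _ = (w ^ (i * d₀) * w' ^ c₀) * w' ^ (j * d₀) := by rw [(hww'.symm.zpow_zpow c₀ (i * d₀)).eq]
          _ = _ := by group
      generalize i * d₀ = c at hsplit
      have hd' : w' ^ (c₀ + j * d₀) = 1 := hd _ (by
        have h1 := mul_mem (inv_mem (zpow_mem hw c)) hhL
        rw [hsplit, inv_mul_cancel_left] at h1
        exact h1) (zpow_mem hw' _)
      rw [hd', mul_one] at hsplit
      clear hh
      have hh := hsplit
      have hgw' : g * w' * g⁻¹ = w' := by
        rw [mem_centralizer_iff.1 (Component.le_centralizer_of_ne hL hL' hLL hgL) w' hw' |>.symm,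
          mul_inv_cancel_right]
      rcases eq_or_ne (c : ZMod p) 0 with hc | hc
      · have h1 : h = 1 := by
          rw [hh]; exact orderOf_dvd_iff_zpow_eq_one.1 (hwp.symm ▸ (ZMod.intCast_zmod_eq_zero_iff_dvd c p).1 hc)
        rw [h1, orderOf_one] at hho
        exact absurd hho.symm hpp.ne_one
      · have hw2 : w = h ^ (((c : ZMod p)⁻¹).val : ℤ) := by
          rw [hh, ← zpow_mul]
          conv_lhs => rw [← zpow_one w]
          rw [zpow_eq_zpow_iff_modEq, hwp, ← ZMod.intCast_eq_intCast_iff]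
          push_cast
          rw [ZMod.natCast_zmod_val, mul_inv_cancel₀ hc]
        have hgwS : g * w * g⁻¹ ∈ (S : Subgroup G) := by
          rw [hw2, ← conj_zpow]; exact zpow_mem hg _
        have hgx : g * x * g⁻¹ = (g * w * g⁻¹) ^ i * w' ^ j := by
          rw [hxw, conj_zpow]
          calc g * (w ^ i * w' ^ j) * g⁻¹ = g * w ^ i * g⁻¹ * (g * w' * g⁻¹) ^ j := by rw [conj_zpow]; group
            _ = _ := by rw [hgw']
        have h4 := hxfix g (by rw [hgx]; exact mul_mem (zpow_mem hgwS i) (zpow_mem hw'S j))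
        rw [hgx] at h4
        conv_rhs at h4 => rw [hxw]
        have h5 : (g * w * g⁻¹) ^ i = w ^ i := mul_right_cancel h4
        have h6 : g * w * g⁻¹ = w := by
          have hg' : orderOf (g * w * g⁻¹) = p := by rw [LAEven57.orderOf_conj', hwp]
          have e : ∀ u : G, orderOf u = p → u = (u ^ i) ^ (((i : ZMod p)⁻¹).val : ℤ) := fun u hu => by
            rw [← zpow_mul]
            conv_lhs => rw [← zpow_one u]
            rw [zpow_eq_zpow_iff_modEq, hu, ← ZMod.intCast_eq_intCast_iff]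
            push_cast
            rw [ZMod.natCast_zmod_val, mul_inv_cancel₀ hi]
          rw [e _ hg', h5, ← e _ hwp]
        rw [hh, ← conj_zpow, h6]
    rcases eq_or_ne (a : ZMod p) 0 with ha | ha
    · rcases eq_or_ne (b : ZMod p) 0 with hb | hb
      · have h1 : x = 1 := by
          rw [hxab, orderOf_dvd_iff_zpow_eq_one.1 (hyp.symm ▸ (ZMod.intCast_zmod_eq_zero_iff_dvd a p).1 ha),
            orderOf_dvd_iff_zpow_eq_one.1 (hy'p.symm ▸ (ZMod.intCast_zmod_eq_zero_iff_dvd b p).1 hb), mul_one]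
        rw [h1, orderOf_one] at hx
        exact hpp.ne_one hx.symm
      · exact key K₀ K y' y b a hK₀ hK (Ne.symm hne) hy'K hyK hy'p hyp hy'S hyS
          (by rw [hxab]; exact (hyy'.zpow_zpow a b).eq) hb
    · exact key K K₀ y y' a b hK hK₀ hne hyK hy'K hyp hy'p hyS hy'S hxab ha
  have hFstar : Cfsg.generalizedFittingSubgroup G = K₀ := by
    rw [Cfsg.generalizedFittingSubgroup, hF, hO, sup_bot_eq]
    exact le_antisymm (sSup_le fun K hK => (huniq K hK).le) (Layer.component_le_layer hK₀)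
  have hsimple : IsSimpleGroup ↥K₀ := by
    haveI := hK₀.2.2
    exact ((QuotientGroup.quotientMulEquivOfEq (hZ K₀ hK₀)).trans QuotientGroup.quotientBot).symm.isSimpleGroup
  rw [hFstar]
  exact ⟨hsimple, Component.not_isMulCommutative hK₀⟩

end Cfsg.Agent.S3049
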