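import Cfsg.Statements.S3038
import Cfsg.Agent.S3049
import Cfsg.Agent.Lib.LA5.RankTwoIso.Core
import Cfsg.Agent.Lib.PGroups.UniqueInvolution

set_option autoImplicit false
open Cfsg

namespace Cfsg.Agent.S3038

open Cfsg.Agent.Lib

theorem isIsolated_conj {G : Type*} [Group G] {x : G} (h : Cfsg.IsIsolated x) (g : G) :
    Cfsg.IsIsolated (g * x * g⁻¹) := by
  intro k hk
  have hk' := hk.map (MulAut.conj g⁻¹).toMonoidHom
  simp only [MulEquiv.toMonoidHom_eq_coe, MonoidHom.coe_coe, MulAut.conj_apply, inv_inv] at hk'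
  rw [show g⁻¹ * (g * x * g⁻¹) * g = x by group,
    show g⁻¹ * (k * (g * x * g⁻¹) * k⁻¹) * g = (g⁻¹ * k * g) * x * (g⁻¹ * k * g)⁻¹ by group] at hk'
  have h1 := h _ hk'
  calc k * (g * x * g⁻¹) * k⁻¹ = g * ((g⁻¹ * k * g) * x * (g⁻¹ * k * g)⁻¹) * g⁻¹ := by group
    _ = g * x * g⁻¹ := by rw [h1]

/-- Let G be a finite group and p an odd prime with O_{p'}(G) = 1. Suppose that G has p-rank at most 2 and that some element x of order p is isolated in G and not central. Then F*(G) is a non-abelian simple group, and for every Sylow p-subgroup P of F*(G), either no conjugate of x lies in P and P is cyclic, or some conjugate of x lies in P and either P is extraspecial of order p³ and exponent p, or p = 3 and P has order 3^{2k+1} for some k ≥ 2 and is of maximal class (nilpotency class 2k). Since O_{p'}(G) = 1, such an x is not central modulo O_{p'}(G): the hypotheses describe a counterexample to the Z*_p statement in p-rank at most 2, and the conclusion records the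 structure it would have. -/
theorem result {G : Type*} [Group G] [Finite G] {p : ℕ} [Fact p.Prime] (hp : p ≠ 2) (hcore : Cfsg.pPrimeCore p G = ⊥)
    (hrank : Cfsg.PRankLE p 2 G) (x : G) (hx : orderOf x = p) (hiso : Cfsg.IsIsolated x) (hnc : x ∉ Subgroup.center G) :
    IsSimpleGroup ↥(Cfsg.generalizedFittingSubgroup G) ∧ ¬ IsMulCommutative ↥(Cfsg.generalizedFittingSubgroup G) ∧
    ∀ P : Sylow p ↥(Cfsg.generalizedFittingSubgroup G),
      ((∀ g : G, g * x * g⁻¹ ∉ ((P : Subgroup ↥(Cfsg.generalizedFittingSubgroup G)).map (Cfsg.generalizedFittingSubgroup G).subtype)) ∧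
          IsCyclic ↥(P : Subgroup ↥(Cfsg.generalizedFittingSubgroup G))) ∨
      ((∃ g : G, g * x * g⁻¹ ∈ ((P : Subgroup ↥(Cfsg.generalizedFittingSubgroup G)).map (Cfsg.generalizedFittingSubgroup G).subtype)) ∧
        ((Cfsg.IsExtraspecial p ↥(P : Subgroup ↥(Cfsg.generalizedFittingSubgroup G)) ∧
            Nat.card (P : Subgroup ↥(Cfsg.generalizedFittingSubgroup G)) = p ^ 3 ∧
            ∀ y ∈ (P : Subgroup ↥(Cfsg.generalizedFittingSubgroup G)), y ^ p = 1) ∨
         (p = 3 ∧ ∃ k : ℕ, 2 ≤ k ∧ Nat.card (P : Subgroup ↥(Cfsg.generalizedFittingSubgroup G)) = 3 ^ (2 * k + 1) ∧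
            ∃ _ : Group.IsNilpotent ↥(P : Subgroup ↥(Cfsg.generalizedFittingSubgroup G)),
              Group.nilpotencyClass ↥(P : Subgroup ↥(Cfsg.generalizedFittingSubgroup G)) = 2 * k))) := by
  classical
  obtain ⟨hsimple, hnab⟩ := Cfsg.Agent.S3049.result hp hcore hrank x hx hiso hnc
  refine ⟨hsimple, hnab, ?_⟩
  haveI hKn : (Cfsg.generalizedFittingSubgroup G).Normal := Subgroup.sup_normal _ _
  set K := Cfsg.generalizedFittingSubgroup G
  intro P
  have hperf : commutator ↥K = ⊤ := by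
    rcases (inferInstance : (commutator ↥K).Normal).eq_bot_or_eq_top with h | h
    · exact absurd ((commutator_eq_bot_iff ↥K).1 h) hnab
    · exact h
  have hPp : IsPGroup p ((P : Subgroup ↥K).map K.subtype) := P.isPGroup'.map _
  have hord : ∀ g : G, orderOf (g * x * g⁻¹) = p := fun g => (LAEven57.orderOf_conj' g x).trans hx
  by_cases hxK : x ∈ K
  · obtain ⟨Q, hQ⟩ := (LAEven57.zpowers_isPGroup (p := p) (x := (⟨x, hxK⟩ : ↥K))
      ⟨1, by rw [pow_one, Subgroup.orderOf_mk, hx]⟩).exists_le_sylow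
    obtain ⟨k, hk⟩ := MulAction.exists_smul_eq ↥K Q P
    have hyP : k * ⟨x, hxK⟩ * k⁻¹ ∈ (P : Subgroup ↥K) := by
      rw [← hk]
      exact Subgroup.smul_mem_pointwise_smul _ (MulAut.conj k) _ (hQ (Subgroup.mem_zpowers _))
    refine Or.inr ⟨⟨k, ⟨_, hyP, rfl⟩⟩, ?_⟩
    exact LA5.RankTwoIso.sylow_structure hp (LA5.RankTwoIso.prankLE_of_injective K.subtype K.subtype_injective hrank)
      hperf P hyP (by rw [← Subgroup.orderOf_coe]; exact hord k)
      (LAEven57.isIsolated_subtype (isIsolated_conj hiso k) K (K.mul_mem (K.mul_mem k.2 hxK) (K.inv_mem k.2)))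
  · have hout : ∀ g : G, g * x * g⁻¹ ∉ K := fun g hg => hxK (by
      have := hKn.conj_mem _ hg g⁻¹
      simpa [mul_assoc] using this)
    refine Or.inl ⟨fun g hg => hout g ((Subgroup.map_subtype_le _) hg), ?_⟩
    by_contra hc
    obtain ⟨E, -, hE, hEc⟩ := PGroups.exists_normal_elemAb_sq hp P.isPGroup' hc
    set E' : Subgroup G := (E.map (P : Subgroup ↥K).subtype).map K.subtype
    obtain ⟨S, hS⟩ := hPp.exists_le_sylow
    obtain ⟨Q, hQ⟩ := (LAEven57.zpowers_isPGroup (p := p) (x := x) ⟨1, by rw [pow_one, hx]⟩).exists_le_sylow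
    obtain ⟨g, hg⟩ := MulAction.exists_smul_eq G Q S
    have hyS : g * x * g⁻¹ ∈ (S : Subgroup G) := by
      rw [← hg]
      exact Subgroup.smul_mem_pointwise_smul _ (MulAut.conj g) _ (hQ (Subgroup.mem_zpowers _))
    have hE' : ∀ w ∈ E', w ∈ (P : Subgroup ↥K).map K.subtype ∧ w ^ p = 1 := by
      rintro _ ⟨_, ⟨w, hw, rfl⟩, rfl⟩
      exact ⟨⟨_, w.2, rfl⟩, by
        rw [← map_pow, ← map_pow, hE.2 w hw, map_one, map_one]⟩
    have hE'e : Cfsg.IsElementaryAbelian p E' := by
      refine ⟨⟨⟨?_⟩⟩, fun w hw => (hE' w hw).2⟩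
      rintro ⟨_, _, ⟨a, ha, rfl⟩, rfl⟩ ⟨_, _, ⟨b, hb, rfl⟩, rfl⟩
      haveI := hE.1
      exact Subtype.ext (congrArg (fun u : ↥(P : Subgroup ↥K) => ((u : ↥K) : G)) (setLike_mul_comm ha hb))
    have hE'c : Nat.card E' = p ^ 2 := by
      rw [Subgroup.card_map_of_injective K.subtype_injective,
        Subgroup.card_map_of_injective (P : Subgroup ↥K).subtype_injective, hEc]
    have hmem := PGroupTheory.RankTwo.mem_of_commute hrank hE'e hE'c (x := g * x * g⁻¹)
      (hord g ▸ pow_orderOf_eq_one _) fun w hw =>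
        LAEven57.commute_of_mem_pGroup (isIsolated_conj hiso g) S.isPGroup' hyS (hS (hE' w hw).1)
    exact hout g (Subgroup.map_subtype_le _ (hE' _ hmem).1)

end Cfsg.Agent.S3038
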