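import Cfsg.Statements.S3041
import Cfsg.Agent.Lib.HHS57.ShultType

set_option autoImplicit false
open Cfsg

namespace Cfsg.Agent.S3041

/-- A fixed-point result of Shult type. Let X be a finite group with a normal subgroup G and a subgroup R of prime order r not dividing |G| such that X = GR, and let ρ be a faithful irreducible representation of X on a nonzero finite-dimensional vector space V over a field of prime characteristic in which R has no nonzero fixed vector. Then either [G, R] = 1, or r has the form 2^m + 1 and [G, R] is a non-abelian special 2-group. -/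
theorem result {X : Type*} [Group X] [Finite X] (G R : Subgroup X) [G.Normal] (hX : G ⊔ R = ⊤) (r : ℕ) (hr : r.Prime)
    (hR : Nat.card R = r) (hcop : ¬ r ∣ Nat.card G)
    {k : Type*} [Field k] {p : ℕ} [Fact p.Prime] [CharP k p] {V : Type*} [AddCommGroup V] [Module k V] [FiniteDimensional k V] [Nontrivial V]
    (ρ : Representation k X V) (hfaith : Function.Injective ρ)
    (hirr : ∀ W : Submodule k V, (∀ x : X, W.map (ρ x) ≤ W) → W = ⊥ ∨ W = ⊤)
    (hfix : ∀ v : V, (∀ x ∈ R, ρ x v = v) → v = 0) :
    ⁅G, R⁆ = ⊥ ∨ ((∃ m : ℕ, r = 2 ^ m + 1) ∧ ¬ IsMulCommutative ↥⁅G, R⁆ ∧ Cfsg.IsSpecial 2 ↥⁅G, R⁆) := by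
  classical
  letI := ZMod.algebra k p
  letI : Module (ZMod p) V := Module.compHom V (algebraMap (ZMod p) k)
  haveI : Fact (Nat.Prime p) := inferInstance
  let b := Module.finBasis k V
  let ι := X × Fin (Module.finrank k V)
  letI : Fintype ι := Fintype.ofFinite ι
  let L : (ι → ZMod p) →ₗ[ZMod p] V := Fintype.linearCombination (ZMod p) fun i => ρ i.1 (b i.2)
  let S : Set V := Set.range fun i : ι => ρ i.1 (b i.2)
  let W : AddSubgroup V := AddSubgroup.closure S
  haveI hWfin : Finite W := by
    have hle : W ≤ L.range.toAddSubgroup := by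
      refine (AddSubgroup.closure_le _).2 ?_
      rintro _ ⟨i, rfl⟩
      exact ⟨Pi.single i 1, by simp [L, Fintype.linearCombination_apply_single]⟩
    haveI : Finite L.range := Finite.of_surjective L.rangeRestrict L.surjective_rangeRestrict
    exact Finite.of_injective (fun w : W => (⟨w.1, hle w.2⟩ : L.range)) fun a c h =>
      Subtype.ext (congrArg (fun z : L.range => z.1) h)
  have hstab : ∀ x : X, ∀ w ∈ W, ρ x w ∈ W := by
    intro x w hw
    induction hw using AddSubgroup.closure_induction with
    | mem w hw =>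
      obtain ⟨⟨y, i⟩, rfl⟩ := hw
      refine AddSubgroup.subset_closure ⟨(x * y, i), ?_⟩
      show ρ (x * y) (b i) = _
      rw [map_mul]; rfl
    | zero => rw [map_zero]; exact W.zero_mem
    | add a c _ _ ha hc => rw [map_add]; exact W.add_mem ha hc
    | neg a _ ha => rw [map_neg]; exact W.neg_mem ha
  have hcomp : ∀ (x y : X) (v : V), ρ (x * y) v = ρ x (ρ y v) := fun x y v => by
    rw [map_mul]; rfl
  let act : X →* MulAut (Multiplicative W) := MonoidHom.mk' (fun x =>
    { toFun := fun w => Multiplicative.ofAdd ⟨ρ x (Multiplicative.toAdd w).1, hstab x _ (Multiplicative.toAdd w).2⟩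
      invFun := fun w => Multiplicative.ofAdd ⟨ρ x⁻¹ (Multiplicative.toAdd w).1, hstab x⁻¹ _ (Multiplicative.toAdd w).2⟩
      left_inv := fun w => congrArg Multiplicative.ofAdd (Subtype.ext (by
        show ρ x⁻¹ (ρ x (Multiplicative.toAdd w).1) = (Multiplicative.toAdd w).1
        rw [← hcomp, inv_mul_cancel, map_one]; rfl))
      right_inv := fun w => congrArg Multiplicative.ofAdd (Subtype.ext (by
        show ρ x (ρ x⁻¹ (Multiplicative.toAdd w).1) = (Multiplicative.toAdd w).1
        rw [← hcomp, mul_inv_cancel, map_one]; rfl))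
      map_mul' := fun a c => congrArg Multiplicative.ofAdd (Subtype.ext (map_add (ρ x) _ _)) })
    fun x y => MulEquiv.ext fun w => congrArg Multiplicative.ofAdd (Subtype.ext (hcomp x y _))
  have hp0 : ∀ v : V, p • v = 0 := fun v => by
    rw [← Nat.cast_smul_eq_nsmul k, CharP.cast_eq_zero, zero_smul]
  let e : Shrink.{u_1} (Multiplicative W) ≃* Multiplicative W := Shrink.mulEquiv
  let φ : X →* MulAut (Shrink.{u_1} (Multiplicative W)) := (MulAut.congr e.symm).toMonoidHom.comp act
  have hφ : ∀ x v, e (φ x v) = act x (e v) := fun x v => by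
    simp [φ, MulAut.congr]
  have hspan : Submodule.span k (W : Set V) = ⊤ := by
    refine top_le_iff.1 (b.span_eq.ge.trans (Submodule.span_mono ?_))
    rintro _ ⟨i, rfl⟩
    refine AddSubgroup.subset_closure ⟨(1, i), ?_⟩
    show ρ 1 (b i) = b i
    rw [map_one]; rfl
  have hinj : Function.Injective φ := by
    intro x y hxy
    refine hfaith (LinearMap.ext fun v => ?_)
    have hW : ∀ w ∈ W, ρ x w = ρ y w := fun w hw => by
      have h1 := congrArg e (DFunLike.congr_fun hxy (e.symm (Multiplicative.ofAdd ⟨w, hw⟩)))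
      rw [hφ, hφ, e.apply_symm_apply] at h1
      exact congrArg (fun z : Multiplicative W => (Multiplicative.toAdd z).1) h1
    have hv : v ∈ Submodule.span k (W : Set V) := hspan ▸ Submodule.mem_top
    induction hv using Submodule.span_induction with
    | mem w hw => exact hW w hw
    | zero => rw [map_zero, map_zero]
    | add a c _ _ ha hc => rw [map_add, map_add, ha, hc]
    | smul t a _ ha => rw [map_smul, map_smul, ha]
  refine Lib.HHS57.shult_type (V := Shrink.{u_1} (Multiplicative W)) G R hX hr hR hcop (Fact.out : p.Prime)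
    (fun v => e.injective ?_) φ hinj (fun v hv => e.injective ?_) fun N hN hNp => ?_
  · rw [map_pow, map_one]
    exact congrArg Multiplicative.ofAdd (Subtype.ext (hp0 (Multiplicative.toAdd (e v)).1))
  · rw [map_one]
    refine congrArg Multiplicative.ofAdd (Subtype.ext (hfix (Multiplicative.toAdd (e v)).1 fun x hx => ?_))
    have h1 := congrArg (fun z => (Multiplicative.toAdd (e z)).1) (hv x hx)
    simp only [hφ] at h1
    exact h1
  · -- a normal `p`-subgroup fixes a vector
    letI : MulAction N W :=
      { smul := fun n w => ⟨ρ (n : X) w.1, hstab _ _ w.2⟩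
        one_smul := fun w => Subtype.ext (by
          show ρ ((1 : N) : X) w.1 = w.1
          rw [Subgroup.coe_one, map_one]; rfl)
        mul_smul := fun a c w => Subtype.ext (hcomp a c _) }
    have hWne : ∃ w : W, w ≠ 0 := by
      have hd : 0 < Module.finrank k V := Module.finrank_pos
      refine ⟨⟨ρ 1 (b ⟨0, hd⟩), AddSubgroup.subset_closure ⟨(1, ⟨0, hd⟩), rfl⟩⟩, fun h => ?_⟩
      have h1 : ρ 1 (b ⟨0, hd⟩) = 0 := congrArg Subtype.val h
      rw [map_one] at h1
      exact b.ne_zero _ h1
    have hdvd : p ∣ Nat.card W := by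
      obtain ⟨w, hw⟩ := hWne
      have ho : addOrderOf w = p := addOrderOf_eq_prime (Subtype.ext (hp0 w.1)) hw
      exact ho ▸ addOrderOf_dvd_natCard w
    obtain ⟨w, hw, hw0⟩ := hNp.exists_fixed_point_of_prime_dvd_card_of_fixed_point W hdvd (a := 0)
      (fun n => Subtype.ext (map_zero (ρ (n : X))))
    let F : Submodule k V :=
      { carrier := {v | ∀ n : N, ρ (n : X) v = v}
        add_mem' := fun {a c} ha hc n => by rw [map_add, ha, hc]
        zero_mem' := fun n => map_zero _
        smul_mem' := fun t a ha n => by rw [map_smul, ha] }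
    have hF : ∀ x : X, F.map (ρ x) ≤ F := by
      rintro x _ ⟨v, hv, rfl⟩ n
      have h1 := hv ⟨x⁻¹ * (n : X) * x, by simpa using hN.conj_mem _ n.2 x⁻¹⟩
      calc ρ (n : X) (ρ x v) = ρ x (ρ (x⁻¹ * (n : X) * x) v) := by
            rw [← hcomp, ← hcomp]; congr 2; group
        _ = ρ x v := by rw [h1]
    rcases hirr F hF with h | h
    · exact absurd (Subtype.ext ((Submodule.mem_bot k).1 (h ▸ (fun n => congrArg Subtype.val (hw n) :
        w.1 ∈ F))).symm) hw0
    · refine N.eq_bot_iff_forall.2 fun n hn => hfaith (LinearMap.ext fun v => ?_)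
      rw [map_one]
      exact (h ▸ Submodule.mem_top : v ∈ F) ⟨n, hn⟩

end Cfsg.Agent.S3041
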