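import Cfsg.Statements.S3043
import Cfsg.Agent.Lib.TICount.PSLEven

set_option autoImplicit false
open Cfsg

namespace Cfsg.Agent.S3043

/-- Let M be a nontrivial subgroup of a finite group G meeting each of its other conjugates trivially, with N_G(M) = M · C_{N_G(M)}(z) for some involution z ∈ N_G(M), and with C_G(x) of odd order for every nontrivial x ∈ M. Then one of the following holds: M is normal in G; the number of involutions of G is at most |G : M|; G is isomorphic to PGL₂(F) or to PSL₂(F) for a finite field F with |F| = |M|, M is an elementary abelian p-group for the characteristic p of F, and |F| ≡ 1 (mod 4) in the PSL₂ case; G is isomorphic to PSL₂(F) with |F| = 2^e, e > 1, and M is cyclic of order 2^e + 1; or for some d ≥ 1, G has an elementary abelian normal subgroup of order 2^{2d} complemented by N_G(M), and N_G(M) is dihedral of order 2(2^d + 1). -/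
theorem result {G : Type*} [Group G] [Finite G] (M : Subgroup G) (hM1 : M ≠ ⊥)
    (hTI : ∀ g : G, M ⊓ M.map (MulAut.conj g).toMonoidHom ≠ ⊥ → M.map (MulAut.conj g).toMonoidHom = M)
    (z : G) (hz : orderOf z = 2) (hzN : z ∈ Subgroup.normalizer (M : Set G))
    (hfac : M ⊔ (Subgroup.normalizer (M : Set G) ⊓ Subgroup.centralizer ({z} : Set G)) = Subgroup.normalizer (M : Set G))
    (hodd : ∀ x ∈ M, x ≠ 1 → Odd (Nat.card ↥(Subgroup.centralizer ({x} : Set G)))) :
    M.Normal ∨
    Nat.card {g : G // orderOf g = 2} ≤ M.index ∨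
    (∃ (F : Type) (_ : Field F) (_ : Fintype F) (p : ℕ) (_ : Fact p.Prime) (_ : CharP F p), Fintype.card F = Nat.card M ∧ Cfsg.IsElementaryAbelian p M ∧
        (Nonempty (G ≃* (GL (Fin 2) F ⧸ Subgroup.center (GL (Fin 2) F))) ∨
         (Fintype.card F % 4 = 1 ∧ Nonempty (G ≃* Matrix.ProjectiveSpecialLinearGroup (Fin 2) F)))) ∨
    (∃ (F : Type) (_ : Field F) (_ : Fintype F) (e : ℕ), 1 < e ∧ Fintype.card F = 2 ^ e ∧ IsCyclic ↥M ∧ Nat.card M = 2 ^ e + 1 ∧
        Nonempty (G ≃* Matrix.ProjectiveSpecialLinearGroup (Fin 2) F)) ∨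
    (∃ (d : ℕ) (E : Subgroup G), 1 ≤ d ∧ E.Normal ∧ Cfsg.IsElementaryAbelian 2 E ∧ Nat.card E = 2 ^ (2 * d) ∧
        E ⊓ Subgroup.normalizer (M : Set G) = ⊥ ∧ E ⊔ Subgroup.normalizer (M : Set G) = ⊤ ∧
        Nonempty (↥(Subgroup.normalizer (M : Set G)) ≃* DihedralGroup (2 ^ d + 1))) := by
  by_cases hn : M.Normal
  · exact Or.inl hn
  by_cases hmany : Nat.card {g : G // orderOf g = 2} ≤ M.index
  · exact Or.inr (Or.inl hmany)
  have h : Lib.TICount.Hyp M z :=
    { ne_bot := hM1
      not_normal := hn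
      hz := hz
      hzN := hzN
      fac := fun g hg => by
        rw [← hfac] at hg
        have hle : Subgroup.normalizer (M : Set G) ⊓ Subgroup.centralizer ({z} : Set G) ≤
            Subgroup.normalizer (M : Set G) := inf_le_left
        rw [← SetLike.mem_coe, Subgroup.coe_mul_of_right_le_normalizer_left _ _ hle] at hg
        obtain ⟨m, hm, c, hc, rfl⟩ := hg
        exact ⟨m, hm, c, hc.1, Subgroup.mem_centralizer_singleton_iff.1 hc.2, rfl⟩
      ti := fun g x hx hx1 hgx => by
        have hne : M ⊓ M.map (MulAut.conj g).toMonoidHom ≠ ⊥ := fun e => hx1 (by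
          have h1 : g * x * g⁻¹ ∈ M ⊓ M.map (MulAut.conj g).toMonoidHom := ⟨hgx, x, hx, rfl⟩
          rw [e, Subgroup.mem_bot] at h1
          simpa using h1)
        refine Subgroup.mem_normalizer_iff.2 fun w => ?_
        conv_rhs => rw [← hTI g hne]
        rw [Subgroup.mem_map]
        exact ⟨fun hw => ⟨w, hw, rfl⟩, fun ⟨v, hv, e⟩ => (MulAut.conj g).injective e ▸ hv⟩
      odd := hodd
      many := lt_of_not_ge hmany }
  by_cases hA : ∀ g g' : G, Lib.TICount.Mover M z g → Lib.TICount.Mover M z g' →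
      g * g' ∈ Subgroup.normalizer (M : Set G)
  · obtain ⟨g0, hg0⟩ := h.exists_swap
    have t : Lib.TICount.TwoTrans M z g0 := ⟨h, hg0, hA⟩
    refine Or.inr (Or.inr (Or.inl ?_))
    rcases t.card_cases with he | he
    · obtain ⟨F, iF, iFt, hF, hiso⟩ := t.iso_pgl he
      obtain ⟨p, hp, hpc, hcard, hel⟩ := t.elementary F hF
      exact ⟨F, iF, iFt, p, hp, hpc, hcard, hel, Or.inl hiso⟩
    · obtain ⟨F, iF, iFt, hF, hmod, hiso⟩ := t.iso_psl he
      obtain ⟨p, hp, hpc, hcard, hel⟩ := t.elementary F hF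
      exact ⟨F, iF, iFt, p, hp, hpc, hcard, hel, Or.inr ⟨hmod, hiso⟩⟩
  · obtain ⟨hD, hsq⟩ := h.dichotomy.resolve_left hA
    push Not at hA
    have t : Lib.TICount.Small M z := ⟨h, hD, hsq, hA⟩
    rcases t.m_cases with hm | hm
    · exact Or.inr (Or.inr (Or.inr (Or.inr (t.elementary_case hm))))
    · obtain ⟨F, iF, iFt, e, he, hF, hcyc, hcard, hiso⟩ := t.iso_psl hm
      exact Or.inr (Or.inr (Or.inr (Or.inl ⟨F, iF, iFt, e, he, hF, hcyc, hcard, hiso⟩)))

end Cfsg.Agent.S3043
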