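import Cfsg.Statements.S3044
import Cfsg.Agent.Lib.LA5.Isolated.Reduce
-- import your own Cfsg.Agent.* helpers here

set_option autoImplicit false
open Cfsg

namespace Cfsg.Agent.S3044

/-- Let G be a finite group, p a prime, S a Sylow p-subgroup of G and P a p-minimal subgroup of G containing S (S is not normal in P and lies in exactly one maximal subgroup of P). Let L be the subgroup generated by N_G(S) and all p-minimal subgroups of G containing S other than P, and suppose P is isolated: O_p(L) is not contained in O_p(P). Put Y for the normal closure of O^p(P) in G. Then G = YL; P is again isolated in the subgroup YS (the subgroup L₀ generated by N_{YS}(S) and the p-minimal subgroups of YS containing S other than P has O_p(L₀) not contained in O_p(P)); and either Y = O^p(P), or p divides |Y/O_p(Y)|, Y/O_p(Y) is generated by its components (a central product of quasisimple groups), and S permutes these components transitively by conjugation.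 -/
theorem result {G : Type*} [Group G] [Finite G] {p : ℕ} [Fact p.Prime] (S : Sylow p G) (P : Subgroup G) (hSP : (S : Subgroup G) ≤ P) (hPmin : Cfsg.IsPMinimal p ↥P)
    (L Y : Subgroup G)
    (hL : L = Subgroup.normalizer ((S : Subgroup G) : Set G) ⊔ ⨆ P' : {P' : Subgroup G // (S : Subgroup G) ≤ P' ∧ Cfsg.IsPMinimal p ↥P' ∧ P' ≠ P}, (P' : Subgroup G))
    (hiso : ¬ (Cfsg.pCore p ↥L).map L.subtype ≤ (Cfsg.pCore p ↥P).map P.subtype)
    (hY : Y = Subgroup.normalClosure (((Cfsg.pResidual p ↥P).map P.subtype : Subgroup G) : Set G)) :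
    Y ⊔ L = ⊤ ∧
    ¬ (Cfsg.pCore p ↥((Subgroup.normalizer ((S : Subgroup G) : Set G) ⊓ (Y ⊔ (S : Subgroup G))) ⊔
          ⨆ P' : {P' : Subgroup G // (S : Subgroup G) ≤ P' ∧ P' ≤ Y ⊔ (S : Subgroup G) ∧ Cfsg.IsPMinimal p ↥P' ∧ P' ≠ P}, (P' : Subgroup G))).map
        (Subgroup.subtype _) ≤ (Cfsg.pCore p ↥P).map P.subtype ∧
    ((Cfsg.pResidual p ↥P).map P.subtype = Y ∨
     ∃ _ : (Cfsg.pCore p ↥Y).Normal,
       p ∣ Nat.card (↥Y ⧸ Cfsg.pCore p ↥Y) ∧ Cfsg.layer (↥Y ⧸ Cfsg.pCore p ↥Y) = ⊤ ∧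
       ∀ K₁ K₂ : Subgroup (↥Y ⧸ Cfsg.pCore p ↥Y), Cfsg.IsComponent K₁ → Cfsg.IsComponent K₂ →
         ∃ s ∈ (S : Subgroup G), ((K₂.comap (QuotientGroup.mk' (Cfsg.pCore p ↥Y))).map Y.subtype) = (((K₁.comap (QuotientGroup.mk' (Cfsg.pCore p ↥Y))).map Y.subtype)).map (MulAut.conj s).toMonoidHom) := by
  haveI : (Cfsg.pCore p G).Normal := inferInstance
  have h : Lib.LA5.Isolated.Hyp p S P L := ⟨hSP, hL, hiso⟩
  have c := h.quotient
  set π := QuotientGroup.mk' (Cfsg.pCore p G) with hπ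
  have hs : Function.Surjective π := QuotientGroup.mk'_surjective _
  set R := (Cfsg.pResidual p ↥P).map P.subtype with hR
  haveI hYn : Y.Normal := hY ▸ Subgroup.normalClosure_normal
  have hYmap : Subgroup.normalClosure ((R.map π : Subgroup (G ⧸ Cfsg.pCore p G)) : Set (G ⧸ Cfsg.pCore p G)) =
      Y.map π := by
    rw [hY, Subgroup.map_normalClosure _ π hs, Subgroup.coe_map]
  have hRY : R ≤ Y := hY ▸ Subgroup.le_normalClosure
  let ψ : ↥Y →* ↥(Y.map π) := π.subgroupMap Y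
  have hψ : Function.Surjective ψ := π.subgroupMap_surjective Y
  have hker : ψ.ker = Cfsg.pCore p ↥Y := by
    apply Subgroup.map_injective Y.subtype_injective
    rw [Lib.Cores.map_subtype_pCore]
    ext x
    constructor
    · rintro ⟨y, hy, rfl⟩
      have h1 : (y : G) ∈ Cfsg.pCore p G :=
        (QuotientGroup.eq_one_iff _).1 (congrArg Subtype.val (MonoidHom.mem_ker.1 hy))
      exact ⟨by first | exact y.2 | exact h1, by first | exact h1 | exact y.2⟩
    · intro hx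
      have hx1 : x ∈ Y := by first | exact hx.1 | exact hx.2
      have hx2 : x ∈ Cfsg.pCore p G := by first | exact hx.2 | exact hx.1
      exact ⟨⟨x, hx1⟩, MonoidHom.mem_ker.2 (Subtype.ext ((QuotientGroup.eq_one_iff x).2 hx2)), rfl⟩
  haveI hcn : (Cfsg.pCore p ↥Y).Normal := inferInstance
  let e : ↥Y ⧸ Cfsg.pCore p ↥Y ≃* ↥(Y.map π) :=
    (QuotientGroup.quotientMulEquivOfEq hker.symm).trans (QuotientGroup.quotientKerEquivOfSurjective ψ hψ)
  -- a nilpotent closure forces `Y = R`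
  have hYR : Group.IsNilpotent ↥(Y.map π) → R = Y := by
    intro hnil
    have heq : R.map π = Y.map π :=
      (c.nilpotent_case (hYmap.symm ▸ hnil)).1.trans hYmap
    have hDP : Cfsg.pCore p G ≤ P := h.core_le_sylow.trans hSP
    have hRP : R ≤ P := Subgroup.map_subtype_le _
    have hn' : (R ⊔ Cfsg.pCore p G).Normal := by
      have h1 := congrArg (Subgroup.comap π) heq
      rw [Subgroup.comap_map_eq, Subgroup.comap_map_eq, hπ, QuotientGroup.ker_mk'] at h1
      rw [h1]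
      exact Subgroup.sup_normal _ _
    have hRn : R.Normal := by
      refine Subgroup.normalizer_eq_top_iff.1 (top_le_iff.1 fun g _ => ?_)
      refine Subgroup.mem_normalizer_fintype fun x hx => ?_
      obtain ⟨x, hx, rfl⟩ := hx
      have hle : Cfsg.pResidual p ↥P ≤ R.comap ((MulAut.conj g).toMonoidHom.comp P.subtype) := by
        refine Lib.Transfer.PResidual.pResidual_le_iff.2 fun y hy => ?_
        have h1 : g * (y : G) * g⁻¹ ∈ R ⊔ Cfsg.pCore p G :=
          hn'.conj_mem _ (Subgroup.mem_sup_left ⟨y, Lib.Transfer.PResidual.mem_pResidual hy, rfl⟩) g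
        have h2 : g * (y : G) * g⁻¹ ∈ P := sup_le hRP hDP h1
        refine ⟨⟨_, h2⟩, Lib.Transfer.PResidual.mem_pResidual ?_, rfl⟩
        rw [← Subgroup.orderOf_coe]
        show (orderOf (MulAut.conj g (y : G))).Coprime p
        rwa [MulEquiv.orderOf_eq, Subgroup.orderOf_coe]
      exact hle hx
    refine le_antisymm hRY ?_
    rw [hY]
    exact Subgroup.normalClosure_le_normal le_rfl
  refine ⟨?_, ?_, ?_⟩
  · refine top_le_iff.1 ((h.generation ⊤ le_top).2.trans (sup_le ?_ (inf_le_right.trans le_sup_right)))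
    intro x hx
    obtain ⟨k, hk, z, hz, he⟩ := Lib.Transfer.PResidual.exists_mul_sylow (S.subtype hSP) (⟨x, hx⟩ : P)
    rw [show x = (k : G) * z from (congrArg Subtype.val he).symm]
    exact mul_mem (Subgroup.mem_sup_left (hRY ⟨k, hk, rfl⟩)) (Subgroup.mem_sup_right (h.SL hz))
  · set L₀ := (Subgroup.normalizer ((S : Subgroup G) : Set G) ⊓ (Y ⊔ (S : Subgroup G))) ⊔
      ⨆ P' : {P' : Subgroup G // (S : Subgroup G) ≤ P' ∧ P' ≤ Y ⊔ (S : Subgroup G) ∧ Cfsg.IsPMinimal p ↥P' ∧ P' ≠ P},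
        (P' : Subgroup G) with hL₀
    intro hle
    refine hiso (le_trans ?_ hle)
    have hL₀L : L₀ ≤ L := by
      rw [hL₀, hL]
      refine sup_le (inf_le_left.trans le_sup_left) (iSup_le fun P' => le_trans ?_ le_sup_right)
      exact le_iSup (fun P' : {P' : Subgroup G // (S : Subgroup G) ≤ P' ∧ Cfsg.IsPMinimal p ↥P' ∧ P' ≠ P} =>
        (P' : Subgroup G)) ⟨P'.1, P'.2.1, P'.2.2.2⟩
    have hSL₀ : (S : Subgroup G) ≤ L₀ :=
      (le_inf Subgroup.le_normalizer le_sup_right).trans le_sup_left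
    haveI : (((Cfsg.pCore p ↥L).map L.subtype).comap L₀.subtype).Normal :=
      Subgroup.normal_subgroupOf_of_le_normalizer (hL₀L.trans h.L_le_normalizer)
    intro q hq
    exact ⟨⟨q, hSL₀ (h.Q_le hq)⟩,
      Lib.Cores.le_pCore ((Lib.Cores.pCore_isPGroup p).map L.subtype).comap_subtype hq, rfl⟩
  have key : ∀ Yc, Yc = Subgroup.normalClosure ((R.map π : Subgroup (G ⧸ Cfsg.pCore p G)) : Set (G ⧸ Cfsg.pCore p G)) →
      Group.IsNilpotent ↥Yc ∨ (Cfsg.layer ↥Yc = ⊤ ∧ p ∣ Nat.card ↥Yc ∧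
        ∀ K₁ K₂ : Subgroup ↥Yc, Cfsg.IsComponent K₁ → Cfsg.IsComponent K₂ →
          ∃ s ∈ (S.mapSurjective hs : Subgroup (G ⧸ Cfsg.pCore p G)),
            K₂.map Yc.subtype = (K₁.map Yc.subtype).map (MulAut.conj s).toMonoidHom) := by
    rintro _ rfl
    exact c.dichotomy.symm.imp_right fun hE => ⟨hE, c.dvd_card hE, fun _ _ h₁ h₂ => c.transitive hE h₁ h₂⟩
  rcases key _ hYmap.symm with hnil | ⟨hE, hdvd, htr⟩
  · exact Or.inl (hYR hnil)
  refine Or.inr ⟨hcn, ?_, ?_, ?_⟩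
  · rwa [Nat.card_congr e.toEquiv]
  · apply Subgroup.map_injective (f := e.toMonoidHom) e.injective
    rw [Lib.Components.Layer.map_layer e, hE, Subgroup.map_top_of_surjective _ e.surjective]
  intro K₁ K₂ h₁ h₂
  obtain ⟨sb, hsb, he⟩ := htr _ _ (Lib.Components.Component.map_equiv e h₁)
    (Lib.Components.Component.map_equiv e h₂)
  rw [Sylow.coe_mapSurjective] at hsb
  obtain ⟨s, hsS, rfl⟩ := hsb
  refine ⟨s, hsS, ?_⟩
  have hmem : ∀ (K : Subgroup (↥Y ⧸ Cfsg.pCore p ↥Y)) (y : G),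
      y ∈ (K.comap (QuotientGroup.mk' (Cfsg.pCore p ↥Y))).map Y.subtype ↔
        y ∈ Y ∧ π y ∈ (K.map e.toMonoidHom).map (Y.map π).subtype := by
    intro K y
    constructor
    · rintro ⟨z, hz, rfl⟩
      exact ⟨z.2, _, ⟨_, hz, rfl⟩, rfl⟩
    · rintro ⟨hy, w, ⟨a, ha, haw⟩, hw⟩
      refine ⟨⟨y, hy⟩, ?_, rfl⟩
      show QuotientGroup.mk' (Cfsg.pCore p ↥Y) ⟨y, hy⟩ ∈ K
      have h1 : a = QuotientGroup.mk' (Cfsg.pCore p ↥Y) ⟨y, hy⟩ := by
        apply e.injective
        refine Subtype.ext ?_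
        have h2 : ((e a : ↥(Y.map π)) : G ⧸ Cfsg.pCore p G) = π y := by rw [← hw, ← haw]; rfl
        rw [h2]
        rfl
      rwa [← h1]
  ext x
  rw [hmem K₂, he]
  constructor
  · rintro ⟨hx, J, hJ, hJx⟩
    refine ⟨s⁻¹ * x * s, (hmem K₁ _).2 ⟨hYn.conj_mem' x hx s, ?_⟩, ?_⟩
    · have h1 : π (s⁻¹ * x * s) = J := by
        have h2 : π s * J * (π s)⁻¹ = π x := hJx
        rw [map_mul, map_mul, map_inv, ← h2]; group
      rwa [h1]
    · show s * (s⁻¹ * x * s) * s⁻¹ = x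
      group
  · rintro ⟨z, hz, rfl⟩
    obtain ⟨hzY, hzK⟩ := (hmem K₁ z).1 hz
    refine ⟨hYn.conj_mem z hzY s, π z, hzK, ?_⟩
    show π s * π z * (π s)⁻¹ = π (s * z * s⁻¹)
    rw [map_mul, map_mul, map_inv]

end Cfsg.Agent.S3044
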