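import Cfsg.Statements.S3045
import Cfsg.Agent.Lib.LA5.Isolated.Reduce
-- import your own Cfsg.Agent.* helpers here

set_option autoImplicit false
open Cfsg
open scoped commutatorElement

namespace Cfsg.Agent.S3045

/-- Let G be a finite group, p a prime, S a Sylow p-subgroup of G and P a p-minimal subgroup of G containing S. Let L be the subgroup generated by N_G(S) and all p-minimal subgroups of G containing S other than P, and suppose O_p(L) is not contained in O_p(P). Put Y for the normal closure of O^p(P) in G. Then O^p(P) is contained in the preimage in G of F*(G/O_p(G)); and if Y is solvable, then Y = O^p(P) and Y/O_p(Y) is a t-group of nilpotency class at most 2 for some prime t ≠ p. -/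
theorem result {G : Type*} [Group G] [Finite G] {p : ℕ} [Fact p.Prime] (S : Sylow p G) (P : Subgroup G) (hSP : (S : Subgroup G) ≤ P) (hPmin : Cfsg.IsPMinimal p ↥P)
    (L Y : Subgroup G)
    (hL : L = Subgroup.normalizer ((S : Subgroup G) : Set G) ⊔ ⨆ P' : {P' : Subgroup G // (S : Subgroup G) ≤ P' ∧ Cfsg.IsPMinimal p ↥P' ∧ P' ≠ P}, (P' : Subgroup G))
    (hiso : ¬ (Cfsg.pCore p ↥L).map L.subtype ≤ (Cfsg.pCore p ↥P).map P.subtype)
    (hY : Y = Subgroup.normalClosure (((Cfsg.pResidual p ↥P).map P.subtype : Subgroup G) : Set G)) [hn : (Cfsg.pCore p G).Normal] :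
    (Cfsg.pResidual p ↥P).map P.subtype ≤ (Cfsg.generalizedFittingSubgroup (G ⧸ Cfsg.pCore p G)).comap (QuotientGroup.mk' (Cfsg.pCore p G)) ∧
    (Group.IsSolvable ↥Y → (Cfsg.pResidual p ↥P).map P.subtype = Y ∧
       ∃ _ : (Cfsg.pCore p ↥Y).Normal, ∃ t : ℕ, t.Prime ∧ t ≠ p ∧ IsPGroup t (↥Y ⧸ Cfsg.pCore p ↥Y) ∧
         ∃ _ : Group.IsNilpotent (↥Y ⧸ Cfsg.pCore p ↥Y), Group.nilpotencyClass (↥Y ⧸ Cfsg.pCore p ↥Y) ≤ 2) := by
  have h : Lib.LA5.Isolated.Hyp p S P L := ⟨hSP, hL, hiso⟩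
  have c := h.quotient
  set π := QuotientGroup.mk' (Cfsg.pCore p G) with hπ
  have hs : Function.Surjective π := QuotientGroup.mk'_surjective _
  set R := (Cfsg.pResidual p ↥P).map P.subtype with hR
  haveI hYn : Y.Normal := hY ▸ Subgroup.normalClosure_normal
  have hYmap : Subgroup.normalClosure ((R.map π : Subgroup (G ⧸ Cfsg.pCore p G)) : Set (G ⧸ Cfsg.pCore p G)) =
      Y.map π := by
    rw [hY, Subgroup.map_normalClosure _ π hs, Subgroup.coe_map]
  have hRY : R ≤ Y := hY ▸ Subgroup.le_normalClosure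
  let ψ : ↥Y →* ↥(Y.map π) := π.subgroupMap Y
  have hψ : Function.Surjective ψ := π.subgroupMap_surjective Y
  have hker : ψ.ker = Cfsg.pCore p ↥Y := by
    apply Subgroup.map_injective Y.subtype_injective
    rw [Lib.Cores.map_subtype_pCore]
    ext x
    constructor
    · rintro ⟨y, hy, rfl⟩
      have h1 : (y : G) ∈ Cfsg.pCore p G :=
        (QuotientGroup.eq_one_iff _).1 (congrArg Subtype.val (MonoidHom.mem_ker.1 hy))
      exact ⟨by first | exact y.2 | exact h1, by first | exact h1 | exact y.2⟩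
    · intro hx
      have hx1 : x ∈ Y := by first | exact hx.1 | exact hx.2
      have hx2 : x ∈ Cfsg.pCore p G := by first | exact hx.2 | exact hx.1
      exact ⟨⟨x, hx1⟩, MonoidHom.mem_ker.2 (Subtype.ext ((QuotientGroup.eq_one_iff x).2 hx2)), rfl⟩
  haveI hcn : (Cfsg.pCore p ↥Y).Normal := inferInstance
  let e : ↥Y ⧸ Cfsg.pCore p ↥Y ≃* ↥(Y.map π) :=
    (QuotientGroup.quotientMulEquivOfEq hker.symm).trans (QuotientGroup.quotientKerEquivOfSurjective ψ hψ)
  -- a nilpotent closure forces `Y = R`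
  have hYR : Group.IsNilpotent ↥(Y.map π) → R = Y := by
    intro hnil
    have heq : R.map π = Y.map π :=
      (c.nilpotent_case (hYmap.symm ▸ hnil)).1.trans hYmap
    have hDP : Cfsg.pCore p G ≤ P := h.core_le_sylow.trans hSP
    have hRP : R ≤ P := Subgroup.map_subtype_le _
    have hn' : (R ⊔ Cfsg.pCore p G).Normal := by
      have h1 := congrArg (Subgroup.comap π) heq
      rw [Subgroup.comap_map_eq, Subgroup.comap_map_eq, hπ, QuotientGroup.ker_mk'] at h1
      rw [h1]
      exact Subgroup.sup_normal _ _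
    have hRn : R.Normal := by
      refine Subgroup.normalizer_eq_top_iff.1 (top_le_iff.1 fun g _ => ?_)
      refine Subgroup.mem_normalizer_fintype fun x hx => ?_
      obtain ⟨x, hx, rfl⟩ := hx
      have hle : Cfsg.pResidual p ↥P ≤ R.comap ((MulAut.conj g).toMonoidHom.comp P.subtype) := by
        refine Lib.Transfer.PResidual.pResidual_le_iff.2 fun y hy => ?_
        have h1 : g * (y : G) * g⁻¹ ∈ R ⊔ Cfsg.pCore p G :=
          hn'.conj_mem _ (Subgroup.mem_sup_left ⟨y, Lib.Transfer.PResidual.mem_pResidual hy, rfl⟩) g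
        have h2 : g * (y : G) * g⁻¹ ∈ P := sup_le hRP hDP h1
        refine ⟨⟨_, h2⟩, Lib.Transfer.PResidual.mem_pResidual ?_, rfl⟩
        rw [← Subgroup.orderOf_coe]
        show (orderOf (MulAut.conj g (y : G))).Coprime p
        rwa [MulEquiv.orderOf_eq, Subgroup.orderOf_coe]
      exact hle hx
    refine le_antisymm hRY ?_
    rw [hY]
    exact Subgroup.normalClosure_le_normal le_rfl
  refine ⟨Subgroup.map_le_iff_le_comap.1 c.R_le_genFitting, fun hsol => ?_⟩
  haveI := hsol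
  have hsol' : Group.IsSolvable ↥(Y.map π) := Group.isSolvable_of_surjective hψ
  have key : ∀ Yc, Yc = Subgroup.normalClosure ((R.map π : Subgroup (G ⧸ Cfsg.pCore p G)) : Set (G ⧸ Cfsg.pCore p G)) →
      Group.IsSolvable ↥Yc → Group.IsNilpotent ↥Yc ∧ ∃ t : ℕ, t.Prime ∧ t ≠ p ∧ IsPGroup t ↥Yc ∧
        ∀ a b d : ↥Yc, ⁅⁅a, b⁆, d⁆ = 1 := by
    rintro _ rfl hsolc
    haveI := hsolc
    have hnil : Group.IsNilpotent _ := c.dichotomy.resolve_left fun hE => by
      rw [Lib.Components.GenFitting.layer_eq_bot_of_isSolvable] at hE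
      refine c.Y_ne ((Subgroup.eq_bot_iff_forall _).2 fun y hy => ?_)
      have h1 : (⟨y, hy⟩ : ↥(Subgroup.normalClosure _)) = 1 := ?_
      · exact congrArg Subtype.val h1
      exact Subgroup.mem_bot.1 (hE.symm ▸ Subgroup.mem_top (⟨y, hy⟩ : ↥(Subgroup.normalClosure _)) :
        (⟨y, hy⟩ : ↥(Subgroup.normalClosure _)) ∈ _)
    obtain ⟨-, t, ht, htp, htY, hcl⟩ := c.nilpotent_case hnil
    exact ⟨hnil, t, ht, htp, htY, fun a b d => Subtype.ext (hcl a a.2 b b.2 d d.2)⟩
  obtain ⟨hnil, t, ht, htp, htY, hcl⟩ := key _ hYmap.symm hsol'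
  refine ⟨hYR hnil, hcn, t, ht, htp, htY.of_equiv e.symm, ?_⟩
  haveI := hnil
  haveI hq : Group.IsNilpotent (↥Y ⧸ Cfsg.pCore p ↥Y) :=
    Group.nilpotent_of_surjective e.symm.toMonoidHom e.symm.surjective
  refine ⟨hq, Subgroup.lowerCentralSeries_eq_bot_iff_nilpotencyClass_le.1 ?_⟩
  rw [Subgroup.lowerCentralSeries_succ, Subgroup.lowerCentralSeries_succ,
    Subgroup.lowerCentralSeries_zero, eq_bot_iff, Subgroup.commutator_le]
  intro a ha b _
  have hle : ⁅(⊤ : Subgroup (↥Y ⧸ Cfsg.pCore p ↥Y)), ⊤⁆ ≤ Subgroup.center (↥Y ⧸ Cfsg.pCore p ↥Y) := by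
    refine Subgroup.commutator_le.2 fun x _ y _ => Subgroup.mem_center_iff.2 fun z => ?_
    refine (commutatorElement_eq_one_iff_mul_comm.1 ?_).symm
    apply e.injective
    rw [map_commutatorElement, map_commutatorElement, map_one]
    exact hcl _ _ _
  exact Subgroup.mem_bot.2 (commutatorElement_eq_one_iff_mul_comm.2
    (Subgroup.mem_center_iff.1 (hle ha) b).symm)

end Cfsg.Agent.S3045
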