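import Cfsg.Statements.S3047
import Cfsg.Agent.Lib.Cores.Basic
import Cfsg.Agent.Lib.CharP.Basic
import Cfsg.Agent.Lib.RankOneCentre.SL2
import Cfsg.Agent.Lib.RankOneCentre.SU3
-- import your own Cfsg.Agent.* helpers here

set_option autoImplicit false
open Cfsg

namespace Cfsg.Agent.S3047

open Cfsg.Agent.Lib.RankOneCentre in
theorem quotient_data {Q : Type*} [Group Q] [Finite Q] {p : ℕ} [Fact p.Prime] (hp : 5 ≤ p)
    (h : ∃ (F : Type) (_ : Field F) (_ : Fintype F) (a : ℕ), 1 ≤ a ∧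
      ((Fintype.card F = p ^ a ∧ (Nonempty (Q ≃* Matrix.SpecialLinearGroup (Fin 2) F) ∨
                                  Nonempty (Q ≃* Matrix.ProjectiveSpecialLinearGroup (Fin 2) F))) ∨
       (Fintype.card F = p ^ (2 * a) ∧ (Nonempty (Q ≃* ↥(Cfsg.SU 3 F (p ^ a))) ∨
                                        Nonempty (Q ≃* Cfsg.PSU 3 F (p ^ a)))))) :
    Rank1Data p Q := by
  have hiso : ∀ {X : Type} [Group X] [Finite X], Rank1Data p X → (Q ≃* X) → Rank1Data p Q :=
    fun hX e => hX.map e.symm.toMonoidHom e.symm.surjective (by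
      intro x hx
      rw [MonoidHom.mem_ker] at hx
      rw [show x = 1 from e.symm.injective (hx.trans (map_one _).symm)]
      exact one_mem _)
  obtain ⟨F, _, _, a, ha, ⟨hF, hh⟩ | ⟨hF, hh⟩⟩ := h
  · haveI : CharP F p := charP_of_card_eq_prime_pow hF
    have hSL := rank1Data_SL2 (F := F) (p := p) hp
    rcases hh with ⟨⟨e⟩⟩ | ⟨⟨e⟩⟩
    · exact hiso hSL e
    · exact hiso (hSL.map (QuotientGroup.mk' _) (QuotientGroup.mk'_surjective _)
        (by rw [QuotientGroup.ker_mk'])) e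
  · haveI : CharP F p := charP_of_card_eq_prime_pow hF
    have hSU := rank1Data_SU3 (F := F) (p := p) (a := a) hp ha (by rw [hF, ← pow_mul, mul_comm])
    rcases hh with ⟨⟨e⟩⟩ | ⟨⟨e⟩⟩
    · exact hiso hSU e
    · exact hiso (hSU.map (QuotientGroup.mk' _) (QuotientGroup.mk'_surjective _)
        (by rw [QuotientGroup.ker_mk'])) e

/-- Let p ≥ 5 be a prime, G a finite group all of whose composition factors are known simple groups, S a Sylow p-subgroup and P a p-minimal subgroup of G containing S such that O^p(P/O_p(P)) is isomorphic to SL₂(pᵃ), PSL₂(pᵃ), SU₃(pᵃ) or PSU₃(pᵃ) for some a ≥ 1. Let L be the subgroup generated by N_G(S) and the p-minimal subgroups of G containing S other than P. Then either O^p(P) is normal in G, or every p-element of the centre of L lies in O_p(P). -/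
theorem result {G : Type*} [Group G] [Finite G] {p : ℕ} [Fact p.Prime] (hp : 5 ≤ p) (hK : Cfsg.IsCompositionKGroup G)
    (S : Sylow p G) (P : Subgroup G) (hSP : (S : Subgroup G) ≤ P) (hPmin : Cfsg.IsPMinimal p ↥P) [hn : (Cfsg.pCore p ↥P).Normal]
    (hrk1 : ∃ (F : Type) (_ : Field F) (_ : Fintype F) (a : ℕ), 1 ≤ a ∧
      ((Fintype.card F = p ^ a ∧ (Nonempty (↥(Cfsg.pResidual p (↥P ⧸ Cfsg.pCore p ↥P)) ≃* Matrix.SpecialLinearGroup (Fin 2) F) ∨
                                  Nonempty (↥(Cfsg.pResidual p (↥P ⧸ Cfsg.pCore p ↥P)) ≃* Matrix.ProjectiveSpecialLinearGroup (Fin 2) F))) ∨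
       (Fintype.card F = p ^ (2 * a) ∧ (Nonempty (↥(Cfsg.pResidual p (↥P ⧸ Cfsg.pCore p ↥P)) ≃* ↥(Cfsg.SU 3 F (p ^ a))) ∨
                                        Nonempty (↥(Cfsg.pResidual p (↥P ⧸ Cfsg.pCore p ↥P)) ≃* Cfsg.PSU 3 F (p ^ a))))))
    (L : Subgroup G)
    (hL : L = Subgroup.normalizer ((S : Subgroup G) : Set G) ⊔ ⨆ P' : {P' : Subgroup G // (S : Subgroup G) ≤ P' ∧ Cfsg.IsPMinimal p ↥P' ∧ P' ≠ P}, (P' : Subgroup G)) :
    ((Cfsg.pResidual p ↥P).map P.subtype).Normal ∨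
    ∀ z ∈ L ⊓ Subgroup.centralizer (L : Set G), (∃ k : ℕ, orderOf z = p ^ k) → z ∈ (Cfsg.pCore p ↥P).map P.subtype := by
  refine Or.inr ?_
  rintro z ⟨hzL, hzC⟩ ⟨k, hk⟩
  have hN : Subgroup.normalizer ((S : Subgroup G) : Set G) ≤ L := hL ▸ le_sup_left
  have hSN : (S : Subgroup G) ≤ Subgroup.normalizer ((S : Subgroup G) : Set G) :=
    Subgroup.le_normalizer
  have hcomm : ∀ n ∈ Subgroup.normalizer ((S : Subgroup G) : Set G), n * z = z * n := fun n hn =>
    Subgroup.mem_centralizer_iff.1 hzC n (hN hn)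
  have hzS : z ∈ (S : Subgroup G) := by
    obtain ⟨T, hT⟩ := (show IsPGroup p (Subgroup.zpowers z) from
      IsPGroup.of_card (n := k) (by rw [Nat.card_zpowers, hk])).exists_le_sylow
    have hzN : z ∈ Subgroup.normalizer ((S : Subgroup G) : Set G) := by
      refine Subgroup.mem_normalizer_iff.2 fun s => ⟨fun hs => ?_, fun hs => ?_⟩
      · rw [← hcomm s (hSN hs), mul_inv_cancel_right]
        exact hs
      · have h1 := hcomm _ (hSN hs)
        have h2 : z * s * z⁻¹ = s := by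
          calc z * s * z⁻¹ = z⁻¹ * (z * (z * s * z⁻¹)) := by group
            _ = s := by rw [← h1]; group
        rwa [h2] at hs
    exact Cfsg.Agent.Lib.RankOneCentre.mem_of_smul_eq (hT (Subgroup.mem_zpowers z))
      (Sylow.smul_eq_iff_mem_normalizer.2 hzN)
  let zP : ↥P := ⟨z, hSP hzS⟩
  refine ⟨zP, ?_, rfl⟩
  let SP : Sylow p ↥P := S.subtype hSP
  let π := QuotientGroup.mk' (Cfsg.pCore p ↥P)
  have hπ : Function.Surjective π := QuotientGroup.mk'_surjective _
  have hcore : ∀ N : Subgroup (↥P ⧸ Cfsg.pCore p ↥P), N.Normal → IsPGroup p N → N = ⊥ :=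
    fun N hN hNp => by
      rw [eq_bot_iff, ← Cfsg.Agent.Lib.Cores.pCore_quotient_pCore (G := ↥P) p]
      exact Cfsg.Agent.Lib.Cores.le_pCore (hN := hN) hNp
  refine (QuotientGroup.eq_one_iff zP).1 ?_
  refine Cfsg.Agent.Lib.RankOneCentre.eq_one_of_centralises_normalizer hcore
    (SP.mapSurjective hπ) Cfsg.Agent.Lib.CharP.isPGroup_quotient_pResidual
    (quotient_data hp hrk1) ⟨zP, hzS, rfl⟩ ?_
  intro n hn
  obtain ⟨m, rfl⟩ := hπ n
  have hker : Cfsg.pCore p ↥P ≤ (SP : Subgroup ↥P) := Cfsg.Agent.Lib.Cores.pCore_le_sylow SP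
  have hmem : ∀ x : ↥P, π x ∈ SP.mapSurjective hπ → (x : G) ∈ (S : Subgroup G) := by
    rintro x ⟨y, hy, hxy⟩
    have h1 : y⁻¹ * x ∈ (SP : Subgroup ↥P) := hker ((QuotientGroup.eq).1 hxy)
    have h2 := mul_mem (show y ∈ (SP : Subgroup ↥P) from hy) h1
    rw [mul_inv_cancel_left] at h2
    exact h2
  have hm : (m : G) ∈ Subgroup.normalizer ((S : Subgroup G) : Set G) := by
    refine Subgroup.mem_normalizer_iff.2 fun s => ⟨fun hs => ?_, fun hs => ?_⟩
    · have h1 := (Subgroup.mem_normalizer_iff.1 hn (π ⟨s, hSP hs⟩)).1 ⟨_, hs, rfl⟩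
      rw [← map_inv, ← map_mul, ← map_mul] at h1
      exact hmem _ h1
    · have hsP : s ∈ P := by
        have := mul_mem (mul_mem (inv_mem m.2) (hSP hs)) m.2
        simpa [mul_assoc] using this
      refine hmem ⟨s, hsP⟩ ((Subgroup.mem_normalizer_iff.1 hn (π ⟨s, hsP⟩)).2 ?_)
      rw [← map_inv, ← map_mul, ← map_mul]
      exact ⟨_, hs, rfl⟩
  show π m * π zP = π zP * π m
  rw [← map_mul, ← map_mul]
  exact congrArg π (Subtype.ext (hcomm _ hm))

end Cfsg.Agent.S3047
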