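import Cfsg.Statements.S3048
import Cfsg.Agent.Lib.Involutions.BaerSuzuki
import Cfsg.Agent.Lib.Cores.Basic
import Cfsg.Agent.Lib.Cores.MinNormal
import Cfsg.Agent.Lib.Components.GenFitting
import Cfsg.Agent.S3012
-- import your own Cfsg.Agent.* helpers here

set_option autoImplicit false
set_option linter.style.haveILetI false
set_option linter.unusedSectionVars false
universe u
open Cfsg

namespace Cfsg.Agent.S3048

open Lib

section Aux

variable {G : Type*} [Group G] [Finite G] {V : Subgroup G}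

theorem inv_eq {v : G} (hV : Cfsg.IsElementaryAbelian 2 V) (hv : v ∈ V) : v⁻¹ = v :=
  inv_eq_of_mul_eq_one_right (by rw [← sq]; exact hV.2 v hv)

theorem comm {v w : G} (hV : Cfsg.IsElementaryAbelian 2 V) (hv : v ∈ V) (hw : w ∈ V) :
    Commute v w := by
  haveI := hV.1
  exact congrArg Subtype.val (mul_comm' (⟨v, hv⟩ : V) ⟨w, hw⟩)

omit [Finite G] in
theorem eq_one_of_odd_sq {h : G} (ho : Odd (orderOf h)) (h2 : h * h = 1) : h = 1 := by
  obtain ⟨j, hj⟩ := ho
  have h1 := pow_orderOf_eq_one h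
  rwa [hj, pow_succ, pow_mul, sq, h2, one_pow, one_mul] at h1

omit [Finite G] in
theorem commute_of_sq {h w : G} (ho : Odd (orderOf h)) (hc : Commute w (h ^ 2)) : Commute w h := by
  obtain ⟨k, hk⟩ := ho
  have : h = (h ^ 2) ^ (k + 1) := by
    rw [← pow_mul, show 2 * (k + 1) = orderOf h + 1 by omega, pow_succ, pow_orderOf_eq_one, one_mul]
  rw [this]; exact hc.pow_right _

omit [Finite G] in
/-- Odd elements of `U L` lie in `L`, for a `2`-elementary `U` normalizing `L`. -/
theorem odd_mem {U L : Subgroup G} (hU : ∀ u ∈ U, u ^ 2 = 1)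
    (hUL : U ≤ Subgroup.normalizer (L : Set G)) {h : G} (hh : h ∈ U ⊔ L) (ho : Odd (orderOf h)) :
    h ∈ L := by
  rw [← SetLike.mem_coe, Subgroup.coe_mul_of_left_le_normalizer_right U L hUL] at hh
  obtain ⟨u, hu, l, hl, rfl⟩ := hh
  replace ho : Odd (orderOf (u * l)) := ho
  have h2 : (u * l) ^ 2 ∈ L := by
    have e : (u * l) ^ 2 = u ^ 2 * (u⁻¹ * l * u) * l := by simp only [sq, mul_assoc, mul_inv_cancel_left]
    rw [e, hU u hu, one_mul]
    exact L.mul_mem ((Subgroup.mem_normalizer_iff''.mp (hUL hu) l).mp hl) hl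
  obtain ⟨k, hk⟩ := ho
  show u * l ∈ L
  have e2 : u * l = ((u * l) ^ 2) ^ (k + 1) := by
    rw [← pow_mul, show 2 * (k + 1) = orderOf (u * l) + 1 by omega, pow_succ, pow_orderOf_eq_one,
      one_mul]
  rw [e2]
  exact L.pow_mem h2 _

omit [Finite G] in
/-- An element of a normal `2`-subgroup of `H` centralizes a subgroup without such subgroups. -/
theorem centralizes {H P L : Subgroup G} (hLH : L ≤ H) (hP : IsPGroup 2 P)
    (hPH : H ≤ Subgroup.normalizer (P : Set G))
    (hL : ∀ K : Subgroup G, K ≤ L → IsPGroup 2 K → L ≤ Subgroup.normalizer (K : Set G) → K = ⊥)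
    {z : G} (hz : z ∈ P) (hzL : z ∈ Subgroup.normalizer (L : Set G)) :
    z ∈ Subgroup.centralizer (L : Set G) := by
  have hbot := hL (L ⊓ P) inf_le_left (hP.to_le inf_le_right) (fun x hx =>
    Subgroup.mem_normalizer_iff.mpr fun y => by
      simp only [Subgroup.mem_inf]
      rw [Subgroup.mem_normalizer_iff.mp (L.le_normalizer hx) y,
        Subgroup.mem_normalizer_iff.mp (hPH (hLH hx)) y])
  refine Subgroup.mem_centralizer_iff.mpr fun n hn => ?_
  have hmem : n * z * n⁻¹ * z⁻¹ ∈ L ⊓ P := by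
    refine Subgroup.mem_inf.mpr ⟨?_, P.mul_mem ((Subgroup.mem_normalizer_iff.mp (hPH (hLH hn)) z).mp hz)
      (P.inv_mem hz)⟩
    have e : n * z * n⁻¹ * z⁻¹ = n * (z * n⁻¹ * z⁻¹) := by group
    rw [e]
    exact L.mul_mem hn ((Subgroup.mem_normalizer_iff.mp hzL n⁻¹).mp (L.inv_mem hn))
  rw [hbot, Subgroup.mem_bot, mul_inv_eq_one, mul_inv_eq_iff_eq_mul] at hmem
  exact hmem

end Aux


/-- Minimal counterexample reduction for the Sidki pair problem. Let G be a finite group and V a nontrivial elementary abelian 2-subgroup satisfying the Sidki pair condition with V ∩ O₂(G) = 1. Suppose that for every finite group H of smaller order, every nontrivial elementary abelian 2-subgroup W of H satisfying the Sidki pair condition meets O₂(H) nontrivially, and that the same holds in G for every such subgroup W of order smaller than that of V. Then the generalized Fitting subgroup F*(G) is a non-abelian simple group and G = V F*(G). -/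
theorem result {G : Type u} [Group G] [Finite G] (V : Subgroup G) (hV : Cfsg.IsElementaryAbelian 2 V) (hV1 : V ≠ ⊥) (hS : Cfsg.IsSidkiPair V) (hVO : V ⊓ Cfsg.pCore 2 G = ⊥) (hminG : ∀ (H : Type u) [Group H] [Finite H] (W : Subgroup H), Nat.card H < Nat.card G → Cfsg.IsElementaryAbelian 2 W → W ≠ ⊥ → Cfsg.IsSidkiPair W → W ⊓ Cfsg.pCore 2 H ≠ ⊥) (hminV : ∀ W : Subgroup G, Nat.card W < Nat.card V → Cfsg.IsElementaryAbelian 2 W → W ≠ ⊥ → Cfsg.IsSidkiPair W → W ⊓ Cfsg.pCore 2 G ≠ ⊥) : IsSimpleGroup ↥(Cfsg.generalizedFittingSubgroup G) ∧ ¬ IsMulCommutative ↥(Cfsg.generalizedFittingSubgroup G) ∧ V ⊔ Cfsg.generalizedFittingSubgroup G = ⊤ := by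
  classical
  have hminH : ∀ (H W : Subgroup G), H ≠ ⊤ → W ≤ V → W ≤ H → W ≠ ⊥ →
      (∀ h ∈ H, ∀ u ∈ W, Odd (orderOf h) → u * h * u⁻¹ = h⁻¹ → ∃ w ∈ W, w ≠ 1 ∧ w * h = h * w) →
      ∃ z ∈ W, z ≠ 1 ∧ z ∈ (Cfsg.pCore 2 H).map H.subtype := by
    intro H W hH hWV hWH hW1 hsid
    have hlt : Nat.card H < Nat.card G := by
      refine lt_of_le_of_ne (Subgroup.card_le_card_group H) fun e => hH ?_
      exact Subgroup.eq_top_of_card_eq H e
    have h1 := hminG H (W.subgroupOf H) hlt ?_ ?_ ?_
    · obtain ⟨⟨z, hz⟩, hz1⟩ := Subgroup.ne_bot_iff_exists_ne_one.mp h1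
      obtain ⟨hzW, hzc⟩ := Subgroup.mem_inf.mp hz
      exact ⟨z, hzW, fun e => hz1 (Subtype.ext (Subtype.ext e)), z, hzc, rfl⟩
    · refine ⟨⟨⟨fun a b => Subtype.ext (Subtype.ext ?_)⟩⟩, fun a ha => Subtype.ext ?_⟩
      · exact (comm hV (hWV a.2) (hWV b.2)).eq
      · simpa using hV.2 _ (hWV ha)
    · intro e
      exact hW1 (le_bot_iff.mp fun x hx => by
        have h' : (⟨x, hWH hx⟩ : H) ∈ W.subgroupOf H := hx
        rw [e, Subgroup.mem_bot] at h'
        exact congrArg Subtype.val h')
    · intro h u hu ho hinv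
      obtain ⟨w, hw, hw1, hwh⟩ := hsid h h.2 u hu (by rwa [Subgroup.orderOf_coe])
        (congrArg Subtype.val hinv)
      exact ⟨⟨w, hWH hw⟩, hw, fun e => hw1 (congrArg Subtype.val e), Subtype.ext hwh⟩
  -- `O₂(G) = 1`
  have hO : Cfsg.pCore 2 G = ⊥ := by
    by_contra hQ
    haveI : (Cfsg.pCore 2 G).Normal := inferInstance
    have hlt : Nat.card (G ⧸ Cfsg.pCore 2 G) < Nat.card G := by
      have h1 := (Cfsg.pCore 2 G).card_mul_index
      have h2 : 1 < Nat.card (Cfsg.pCore 2 G) := (Subgroup.one_lt_card_iff_ne_bot _).mpr hQ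
      rw [← Subgroup.index_eq_card, ← h1]
      exact lt_mul_of_one_lt_left (Nat.pos_of_ne_zero Subgroup.index_ne_zero_of_finite) h2
    refine hminG _ (V.map (QuotientGroup.mk' (Cfsg.pCore 2 G))) hlt ?_ ?_
      (S3012.result V _ hV hV1 hS hVO) ?_
    · refine ⟨⟨⟨?_⟩⟩, ?_⟩
      · rintro ⟨_, a, ha, rfl⟩ ⟨_, b, hb, rfl⟩
        apply Subtype.ext
        show QuotientGroup.mk' _ a * QuotientGroup.mk' _ b = QuotientGroup.mk' _ b * QuotientGroup.mk' _ a
        rw [← map_mul, ← map_mul, (comm hV ha hb).eq]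
      · rintro _ ⟨a, ha, rfl⟩
        rw [← map_pow, hV.2 a ha, map_one]
    · rw [Ne, Subgroup.map_eq_bot_iff, QuotientGroup.ker_mk']
      intro hle
      exact hV1 (by rw [← hVO, inf_eq_left.mpr hle])
    · rw [Cores.pCore_quotient_pCore, inf_bot_eq]
  have hno2 : ∀ K : Subgroup G, K.Normal → IsPGroup 2 K → K = ⊥ := fun K hK h2 =>
    le_bot_iff.mp (hO ▸ Cores.le_pCore h2)
  have hBS : ∀ v ∈ V, v ≠ 1 → ∃ h, h ≠ 1 ∧ Odd (orderOf h) ∧ v * h * v⁻¹ = h⁻¹ := fun v hv hv1 =>
    Involutions.BaerSuzuki.exists_odd_inverted v (orderOf_eq_prime (hV.2 v hv) hv1)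
      fun K hK h2 hvK => hv1 (by rwa [hno2 K hK h2, Subgroup.mem_bot] at hvK)
  haveI : Nontrivial G := by
    obtain ⟨x, hx⟩ := Subgroup.ne_bot_iff_exists_ne_one.mp hV1
    exact ⟨⟨x, 1, fun e => hx (Subtype.ext e)⟩⟩
  obtain ⟨N, hNn, hN1, hNmin⟩ := Cores.MinNormal.exists_minimal (G := G)
  haveI := hNn
  have hN2 : ∀ K : Subgroup G, K ≤ N → IsPGroup 2 K → N ≤ Subgroup.normalizer (K : Set G) → K = ⊥ := by
    intro K hKN hK2 hKn
    haveI : (K.subgroupOf N).Normal := Subgroup.normal_subgroupOf_iff_le_normalizer hKN |>.mpr hKn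
    have h1 : K.subgroupOf N ≤ Cfsg.pCore 2 N :=
      Cores.le_pCore (hK2.of_equiv (Subgroup.subgroupOfEquivOfLe hKN).symm)
    have h2 : (K.subgroupOf N).map N.subtype ≤ (Cfsg.pCore 2 N).map N.subtype := Subgroup.map_mono h1
    rw [Subgroup.map_subgroupOf_eq_of_le hKN, Cores.map_subtype_pCore, hO, inf_bot_eq] at h2
    exact le_bot_iff.mp h2
  have hPn : ∀ H : Subgroup G, IsPGroup 2 ((Cfsg.pCore 2 H).map H.subtype) ∧
      H ≤ Subgroup.normalizer (((Cfsg.pCore 2 H).map H.subtype : Subgroup G) : Set G) := by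
    intro H
    refine ⟨(Cores.pCore_isPGroup 2).map _, le_trans ?_ (Subgroup.le_normalizer_map H.subtype)⟩
    rw [Subgroup.normalizer_eq_top, ← MonoidHom.range_eq_map, Subgroup.range_subtype]
  have hnorm : ∀ {x : G}, x ∈ Subgroup.normalizer (N : Set G) := fun {x} => by
    rw [Subgroup.normalizer_eq_top]; exact Subgroup.mem_top x
  -- no element of `V` centralizes `N`
  set C := Subgroup.centralizer (N : Set G) with hCdef
  haveI : C.Normal := by rw [hCdef]; infer_instance
  have hCV : V ⊓ C = ⊥ := by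
    by_contra hW
    by_cases hCt : C = ⊤
    · -- `N` would be central
      have hcen : ∀ n ∈ N, ∀ x : G, x * n = n * x := fun n hn x =>
        (Subgroup.mem_centralizer_iff.mp (hCt ▸ Subgroup.mem_top x : x ∈ C) n hn).symm
      have hVN : V ⊓ N = ⊥ := by
        refine le_bot_iff.mp fun z ⟨hzV, hzN⟩ => ?_
        have hzn : (Subgroup.zpowers z).Normal := ⟨fun a ha x => by
          obtain ⟨i, rfl⟩ := Subgroup.mem_zpowers_iff.mp ha
          rw [hcen _ (N.zpow_mem hzN i) x, mul_inv_cancel_right]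
          exact ha⟩
        have := hno2 _ hzn (fun a => ⟨1, by
          obtain ⟨a, ha⟩ := a
          obtain ⟨i, rfl⟩ := Subgroup.mem_zpowers_iff.mp ha
          apply Subtype.ext
          show (z ^ i) ^ (2 ^ 1) = 1
          rw [pow_one, ← zpow_natCast (z ^ i) 2, ← zpow_mul, mul_comm, zpow_mul, zpow_natCast,
            hV.2 z hzV, one_zpow]⟩)
        exact this ▸ Subgroup.mem_zpowers z
      have hlt : Nat.card (G ⧸ N) < Nat.card G := by
        have h1 := N.card_mul_index
        have h2 : 1 < Nat.card N := (Subgroup.one_lt_card_iff_ne_bot _).mpr hN1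
        rw [← Subgroup.index_eq_card, ← h1]
        exact lt_mul_of_one_lt_left (Nat.pos_of_ne_zero Subgroup.index_ne_zero_of_finite) h2
      have hne := hminG _ (V.map (QuotientGroup.mk' N)) hlt ⟨⟨⟨?_⟩⟩, ?_⟩ ?_
        (S3012.result V N hV hV1 hS hVN)
      · obtain ⟨⟨y, hy⟩, hy1⟩ := Subgroup.ne_bot_iff_exists_ne_one.mp hne
        obtain ⟨⟨v, hv, rfl⟩, hyc⟩ := Subgroup.mem_inf.mp hy
        obtain ⟨h, hh1, hho, hinv⟩ := hBS v hv (fun e => hy1 (Subtype.ext (by simp [e])))
        set π := QuotientGroup.mk' N with hπ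
        have h2 : π (h ^ 2) ∈ Cfsg.pCore 2 (G ⧸ N) := by
          have e : h ^ 2 = h * v * h⁻¹ * v⁻¹ := by
            calc h ^ 2 = h * (h⁻¹)⁻¹ := by rw [inv_inv, sq]
              _ = h * (v * h * v⁻¹)⁻¹ := by rw [hinv]
              _ = _ := by group
          rw [e, map_mul, map_mul, map_mul, map_inv, map_inv]
          exact Subgroup.mul_mem _ ((inferInstance : (Cfsg.pCore 2 (G ⧸ N)).Normal).conj_mem _ hyc _)
            (Subgroup.inv_mem _ hyc)
        have h3 : h ^ 2 ∈ N := by
          obtain ⟨i, hi⟩ := Cores.pCore_isPGroup 2 ⟨_, h2⟩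
          have hi' : (π (h ^ 2)) ^ 2 ^ i = 1 := by simpa using congrArg Subtype.val hi
          have hd1 : orderOf (π (h ^ 2)) ∣ 2 ^ i := orderOf_dvd_of_pow_eq_one hi'
          have hd2 : orderOf (π (h ^ 2)) ∣ orderOf h :=
            (orderOf_map_dvd π _).trans (orderOf_pow_dvd 2)
          have := Nat.eq_one_of_dvd_coprimes ((Nat.coprime_two_left.mpr hho).pow_left i) hd1 hd2
          rw [orderOf_eq_one_iff] at this
          exact (QuotientGroup.eq_one_iff _).mp this
        have hc : Commute v h := commute_of_sq hho (hcen _ h3 v)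
        rw [hc.eq, mul_inv_cancel_right] at hinv
        exact hh1 (eq_one_of_odd_sq hho (mul_eq_one_iff_eq_inv.mpr hinv))
      · rintro ⟨_, a, ha, rfl⟩ ⟨_, b, hb, rfl⟩
        apply Subtype.ext
        show QuotientGroup.mk' _ a * QuotientGroup.mk' _ b = QuotientGroup.mk' _ b * QuotientGroup.mk' _ a
        rw [← map_mul, ← map_mul, (comm hV ha hb).eq]
      · rintro _ ⟨a, ha, rfl⟩
        rw [← map_pow, hV.2 a ha, map_one]
      · rw [Ne, Subgroup.map_eq_bot_iff, QuotientGroup.ker_mk']
        intro hle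
        exact hV1 (by rw [← hVN, inf_eq_left.mpr hle])
    · refine Exists.elim (hminH C (V ⊓ C) hCt inf_le_left inf_le_right hW ?hsid1) fun z hzz => ?main1
      case main1 =>
        obtain ⟨hz, hz1, hzc⟩ := hzz
        rw [Cores.map_subtype_pCore, hO, inf_bot_eq, Subgroup.mem_bot] at hzc
        exact hz1 hzc
      intro h hhC u hu ho hinv
      obtain ⟨huV, huC⟩ := Subgroup.mem_inf.mp hu
      by_cases hh1 : h = 1
      · obtain ⟨⟨w, hw⟩, hw1⟩ := Subgroup.ne_bot_iff_exists_ne_one.mp hW
        exact ⟨w, hw, fun e => hw1 (Subtype.ext e), by rw [hh1, mul_one, one_mul]⟩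
      by_contra hcon
      set U := V ⊓ Subgroup.centralizer ({h} : Set G) with hUdef
      obtain ⟨v₀, hv₀, hv₀1, hv₀h⟩ := hS h u huV ho hinv
      have hU1 : U ≠ ⊥ := fun e => hv₀1 (by
        have : v₀ ∈ U := ⟨hv₀, Subgroup.mem_centralizer_singleton_iff.mpr hv₀h⟩
        rwa [e, Subgroup.mem_bot] at this)
      have hUh : U ⊔ N ≤ Subgroup.centralizer ({h} : Set G) :=
        sup_le inf_le_right fun n hn => Subgroup.mem_centralizer_singleton_iff.mpr
          (Subgroup.mem_centralizer_iff.mp hhC n hn)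
      have hHt : U ⊔ N ≠ ⊤ := fun e => by
        have := Subgroup.mem_centralizer_singleton_iff.mp (hUh (e ▸ Subgroup.mem_top u))
        rw [this, mul_inv_cancel_right] at hinv
        exact hh1 (eq_one_of_odd_sq ho (mul_eq_one_iff_eq_inv.mpr hinv))
      refine Exists.elim (hminH (U ⊔ N) U hHt inf_le_left le_sup_left hU1 ?hsid2) fun z hzz => ?main2
      case main2 =>
        obtain ⟨hz, hz1, hzc⟩ := hzz
        have hzN := centralizes le_sup_right (hPn _).1 (hPn _).2 hN2 hzc hnorm
        exact hcon ⟨z, ⟨hz.1, hzN⟩, hz1, Subgroup.mem_centralizer_singleton_iff.mp hz.2⟩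
      intro x hx v hv hxo hxinv
      have hxN : x ∈ N := odd_mem (U := U) (fun a ha => hV.2 a ha.1) (fun a _ => hnorm) hx hxo
      have hhx : Commute h x := (Subgroup.mem_centralizer_iff.mp hhC x hxN).symm
      have hvh : Commute v h := Subgroup.mem_centralizer_singleton_iff.mp hv.2
      have hux : Commute u x := (Subgroup.mem_centralizer_iff.mp huC x hxN).symm
      have hodd : Odd (orderOf (h * x)) := (ho.mul hxo).of_dvd_nat hhx.orderOf_mul_dvd_mul_orderOf
      have hinv2 : (u * v) * (h * x) * (u * v)⁻¹ = (h * x)⁻¹ := by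
        calc (u * v) * (h * x) * (u * v)⁻¹ = u * ((v * h * v⁻¹) * (v * x * v⁻¹)) * u⁻¹ := by group
          _ = (u * h * u⁻¹) * (u * x⁻¹ * u⁻¹) := by rw [hvh.eq, mul_inv_cancel_right, hxinv]; group
          _ = h⁻¹ * x⁻¹ := by rw [hinv, hux.inv_right.eq, mul_inv_cancel_right]
          _ = (h * x)⁻¹ := by rw [mul_inv_rev]; exact hhx.inv_inv.eq
      obtain ⟨w, hw, hw1, hwhx⟩ := hS (h * x) (u * v) (V.mul_mem huV hv.1) hodd hinv2
      have hwv : Commute v w := comm hV hv.1 hw
      have hc1 : Commute w (h * x⁻¹) := by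
        have h3 : Commute (MulAut.conj v w) (MulAut.conj v (h * x)) := (show Commute w (h * x) from hwhx).map _
        simp only [MulAut.conj_apply] at h3
        rw [hwv.eq, mul_inv_cancel_right,
          show v * (h * x) * v⁻¹ = (v * h * v⁻¹) * (v * x * v⁻¹) by group,
          hvh.eq, mul_inv_cancel_right, hxinv] at h3
        exact h3
      have hc2 : Commute w (x ^ 2) := by
        have : x ^ 2 = (h * x⁻¹)⁻¹ * (h * x) := by rw [sq]; group
        rw [this]; exact hc1.inv_right.mul_right hwhx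
      have hwx := commute_of_sq hxo hc2
      have hwh : Commute w h := by
        have := (show Commute w (h * x) from hwhx).mul_right hwx.inv_right
        rwa [mul_inv_cancel_right] at this
      exact ⟨w, ⟨hw, Subgroup.mem_centralizer_singleton_iff.mpr hwh.eq⟩, hw1, hwx.eq⟩
  -- hence `G = V N`
  have htop : V ⊔ N = ⊤ := by
    by_contra hne
    obtain ⟨z, hz, hz1, hzc⟩ := hminH (V ⊔ N) V hne le_rfl le_sup_left hV1
      fun h _ u hu ho hinv => hS h u hu ho hinv
    have hzC := centralizes le_sup_right (hPn _).1 (hPn _).2 hN2 hzc hnorm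
    exact hz1 (by simpa [hCV] using (Subgroup.mem_inf.mpr ⟨hz, hzC⟩ : z ∈ V ⊓ C))
  have hoddN : ∀ h : G, Odd (orderOf h) → h ∈ N := fun h ho =>
    odd_mem hV.2 (fun a _ => hnorm) (htop ▸ Subgroup.mem_top h) ho
  have hNV : ∀ K : Subgroup G, V ≤ Subgroup.normalizer (K : Set G) →
      N ≤ Subgroup.normalizer (K : Set G) → K.Normal := fun K h1 h2 =>
    Subgroup.normalizer_eq_top_iff.mp (top_le_iff.mp (htop ▸ sup_le h1 h2))
  -- `N` is non-abelian
  have hNna : ¬ IsMulCommutative N := by
    intro hab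
    obtain ⟨⟨v, hv⟩, hv1⟩ := Subgroup.ne_bot_iff_exists_ne_one.mp hV1
    obtain ⟨h, hh1, hho, hinv⟩ := hBS v hv (fun e => hv1 (Subtype.ext e))
    obtain ⟨w, hw, hw1, hwh⟩ := hS h v hv hho hinv
    have hDn : (N ⊓ Subgroup.centralizer ({w} : Set G)).Normal := by
      refine hNV _ (fun a ha => ?_) (fun a ha => ?_) <;>
        rw [Subgroup.mem_normalizer_iff] <;> intro y <;>
        simp only [Subgroup.mem_inf, Subgroup.mem_centralizer_singleton_iff]
      · have haw : a * w * a⁻¹ = w := by rw [(comm hV ha hw).eq, mul_inv_cancel_right]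
        rw [Subgroup.mem_normalizer_iff.mp (hnorm (x := a)) y]
        refine and_congr_right fun _ => ?_
        have := (Commute.conj_iff a (a := y) (b := w)).symm
        rwa [haw] at this
      · haveI := hab
        have hfix : ∀ y, y ∈ N → a * y * a⁻¹ = y := fun y hy => by
          rw [show a * y = y * a from congrArg Subtype.val (mul_comm' (⟨a, ha⟩ : N) ⟨y, hy⟩),
            mul_inv_cancel_right]
        constructor
        · rintro ⟨h1, h2⟩; rw [hfix y h1]; exact ⟨h1, h2⟩
        · rintro ⟨h1, h2⟩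
          have hy : y ∈ N := (Subgroup.mem_normalizer_iff.mp (hnorm (x := a)) y).mpr h1
          rw [hfix y hy] at h2
          exact ⟨hy, h2⟩
    rcases hNmin _ hDn inf_le_left with hD | hD
    · have hm : h ∈ N ⊓ Subgroup.centralizer ({w} : Set G) :=
        ⟨hoddN _ hho, Subgroup.mem_centralizer_singleton_iff.mpr hwh.symm⟩
      rw [hD, Subgroup.mem_bot] at hm
      exact hh1 hm
    · have hwC : w ∈ C := Subgroup.mem_centralizer_iff.mpr fun n hn =>
        Subgroup.mem_centralizer_singleton_iff.mp ((hD.ge hn).2)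
      exact hw1 (by simpa [hCV] using (Subgroup.mem_inf.mpr ⟨hw, hwC⟩ : w ∈ V ⊓ C))
  -- a minimal subgroup normal in `N`
  let P : Subgroup G → Prop := fun L => L ≤ N ∧ L ≠ ⊥ ∧ N ≤ Subgroup.normalizer (L : Set G)
  obtain ⟨L, hL⟩ := (Set.toFinite {L | P L}).exists_minimal
    ⟨N, le_rfl, hN1, Subgroup.le_normalizer⟩
  obtain ⟨hLN, hL1, hLn⟩ := hL.1
  let cj : G → Subgroup G := fun v => L.map (MulAut.conj v).toMonoidHom
  have hmem : ∀ {v y : G}, y ∈ cj v ↔ v⁻¹ * y * v ∈ L := fun {v y} => by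
    rw [Subgroup.mem_map_equiv, MulAut.conj_symm_apply]
  have hcjP : ∀ v, cj v ≤ N ∧ N ≤ Subgroup.normalizer (cj v : Set G) := by
    intro v
    refine ⟨fun y hy => ?_, fun n hn => ?_⟩
    · have := hNn.conj_mem _ (hLN (hmem.mp hy)) v
      simpa [mul_assoc] using this
    · rw [Subgroup.mem_normalizer_iff]
      intro y
      have h1 := Subgroup.mem_normalizer_iff.mp (hLn (hNn.conj_mem n hn v⁻¹)) (v⁻¹ * y * v)
      rw [hmem, hmem, h1]
      simp [mul_assoc]
  have hdisj : ∀ v, cj v = L ∨ L ⊓ cj v = ⊥ := by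
    intro v
    by_cases h0 : L ⊓ cj v = ⊥
    · exact Or.inr h0
    left
    have hP : P (L ⊓ cj v) := ⟨inf_le_left.trans hLN, h0, fun n hn =>
      Subgroup.mem_normalizer_iff.mpr fun y => by
        simp only [Subgroup.mem_inf]
        rw [Subgroup.mem_normalizer_iff.mp (hLn hn) y,
          Subgroup.mem_normalizer_iff.mp ((hcjP v).2 hn) y]⟩
    have hle : L ≤ cj v := le_trans (hL.2 hP inf_le_left) inf_le_right
    exact (Subgroup.eq_of_le_of_card_ge hle
      (by rw [Subgroup.card_map_of_injective (MulAut.conj v).injective])).symm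
  have hcomm : ∀ v, cj v ≠ L → ∀ a ∈ L, ∀ b ∈ cj v, Commute a b := by
    intro v hne a ha b hb
    have hb0 := (hdisj v).resolve_left hne
    have hm : a * b * a⁻¹ * b⁻¹ ∈ L ⊓ cj v := by
      refine Subgroup.mem_inf.mpr ⟨?_, (cj v).mul_mem
        ((Subgroup.mem_normalizer_iff.mp ((hcjP v).2 (hLN ha)) b).mp hb) ((cj v).inv_mem hb)⟩
      rw [show a * b * a⁻¹ * b⁻¹ = a * (b * a⁻¹ * b⁻¹) by group]
      exact L.mul_mem ha
        ((Subgroup.mem_normalizer_iff.mp (hLn ((hcjP v).1 hb)) a⁻¹).mp (L.inv_mem ha))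
    rw [hb0, Subgroup.mem_bot, mul_inv_eq_one, mul_inv_eq_iff_eq_mul] at hm
    exact hm
  have hgen : (⨆ v : V, cj v) = N := by
    have hle : (⨆ v : V, cj v) ≤ N := iSup_le fun v => (hcjP v).1
    refine ((hNmin _ ?_ hle).resolve_left fun e => hL1 ?_)
    · refine hNV _ (fun u hu => Subgroup.mem_normalizer_iff_map_conj_eq.mpr ?_) (fun n hn =>
        Subgroup.mem_normalizer_iff_map_conj_eq.mpr ?_)
      · refine le_antisymm ?_ ?_
        · rw [Subgroup.map_iSup]
          refine iSup_le fun v => le_trans (le_of_eq ?_)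
            (le_iSup (fun v : V => cj v) ⟨u * v, V.mul_mem hu v.2⟩)
          simp only [cj, Subgroup.map_map]
          congr 1; ext x; simp [mul_assoc]
        · refine iSup_le fun v => ?_
          rw [Subgroup.map_iSup]
          refine le_trans (le_of_eq ?_) (le_iSup
            (fun v : V => (cj v).map (MulAut.conj u).toMonoidHom) ⟨u⁻¹ * v, V.mul_mem (V.inv_mem hu) v.2⟩)
          simp only [cj, Subgroup.map_map]
          congr 1; ext x; simp [mul_assoc]
      · rw [Subgroup.map_iSup]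
        exact iSup_congr fun v => Subgroup.mem_normalizer_iff_map_conj_eq.mp ((hcjP v).2 hn)
    · refine le_bot_iff.mp ?_
      calc L ≤ cj (1 : V) := fun x hx => hmem.mpr (by simpa using hx)
        _ ≤ ⨆ v : V, cj v := le_iSup (fun v : V => cj v) 1
        _ = ⊥ := e
  have hsub : ∀ K : Subgroup G, K ≤ L → L ≤ Subgroup.normalizer (K : Set G) → K = ⊥ ∨ K = L := by
    intro K hKL hKn
    by_cases hK1 : K = ⊥
    · exact Or.inl hK1
    refine Or.inr (le_antisymm hKL (hL.2 ⟨hKL.trans hLN, hK1, ?_⟩ hKL))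
    rw [← hgen]
    refine iSup_le fun v => ?_
    by_cases hv : cj v = L
    · rw [hv]; exact hKn
    intro b hb
    rw [Subgroup.mem_normalizer_iff]
    intro y
    constructor
    · intro hy
      rwa [← (hcomm v hv y (hKL hy) b hb).eq, mul_inv_cancel_right]
    · intro hy
      have : b⁻¹ * (b * y * b⁻¹) * b = b * y * b⁻¹ := by
        rw [← (hcomm v hv _ (hKL hy) b hb).inv_right.eq, inv_mul_cancel_right]
      have e : y = b * y * b⁻¹ := by rw [← this]; group
      rwa [e]
  have hLna : ¬ IsMulCommutative L := by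
    intro hab
    apply hNna
    have hle : N ≤ Subgroup.centralizer (N : Set G) := by
      conv_rhs => rw [← hgen]
      rw [← hgen]
      refine iSup_le fun v => ?_
      rw [Subgroup.le_centralizer_iff]
      refine iSup_le fun v' x hx => Subgroup.mem_centralizer_iff.mpr fun y hy => ?_
      have hx' : (v : G)⁻¹ * x * v ∈ cj ((v : G)⁻¹ * v') :=
        hmem.mpr (by simpa [mul_assoc] using hmem.mp hx)
      have hy' := hmem.mp hy
      have hc : Commute ((v : G)⁻¹ * y * v) ((v : G)⁻¹ * x * v) := by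
        by_cases he : cj ((v : G)⁻¹ * v') = L
        · rw [he] at hx'
          haveI := hab
          exact congrArg Subtype.val (mul_comm' (⟨_, hy'⟩ : L) ⟨_, hx'⟩)
        · exact hcomm _ he _ hy' _ hx'
      have := (hc.map (MulAut.conj (v : G))).eq
      simpa [mul_assoc] using this
    exact ⟨⟨fun a b => Subtype.ext ((Subgroup.mem_centralizer_iff.mp (hle b.2) a a.2))⟩⟩
  have hcenL : ∀ s ∈ L, (∀ l ∈ L, l * s = s * l) → s = 1 := by
    intro s hs hc
    have hle : L ≤ Subgroup.normalizer ((L ⊓ Subgroup.centralizer (L : Set G) : Subgroup G) : Set G) := by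
      intro x hx
      rw [Subgroup.mem_normalizer_iff]
      intro y
      constructor
      · rintro ⟨h1, h2⟩
        rw [Subgroup.mem_centralizer_iff.mp h2 x hx, mul_inv_cancel_right]
        exact ⟨h1, h2⟩
      · rintro ⟨h1, h2⟩
        have e := Subgroup.mem_centralizer_iff.mp h2 x⁻¹ (L.inv_mem hx)
        have : y = x * y * x⁻¹ := by
          calc y = (x⁻¹ * (x * y * x⁻¹)) * x := by group
            _ = _ := by rw [e]; group
        rw [this]; exact ⟨h1, h2⟩
    rcases hsub _ inf_le_left hle with h | h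
    · exact Subgroup.mem_bot.mp (h ▸ ⟨hs, Subgroup.mem_centralizer_iff.mpr hc⟩)
    · exact absurd ⟨⟨fun a b => Subtype.ext
        (Subgroup.mem_centralizer_iff.mp (h.ge b.2).2 a a.2)⟩⟩ hLna
  have hL2 : ¬ IsPGroup 2 L := by
    intro h2
    haveI : Nontrivial L := (Subgroup.nontrivial_iff_ne_bot L).mpr hL1
    haveI := h2.center_nontrivial
    obtain ⟨⟨⟨s, hs⟩, hsc⟩, hs1⟩ := exists_ne (1 : Subgroup.center L)
    refine hs1 (Subtype.ext (Subtype.ext (hcenL s hs fun l hl => ?_)))
    exact congrArg Subtype.val (Subgroup.mem_center_iff.mp hsc ⟨l, hl⟩)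
  have hL2' : ∀ K : Subgroup G, K ≤ L → IsPGroup 2 K → L ≤ Subgroup.normalizer (K : Set G) → K = ⊥ :=
    fun K h1 h2 h3 => (hsub K h1 h3).resolve_right fun e => hL2 (e ▸ h2)
  have hLN' : L = N := by
    by_contra hne
    have hcjn : ∀ v, cj v = L → v ∈ Subgroup.normalizer (L : Set G) := fun v h =>
      Subgroup.mem_normalizer_iff_map_conj_eq.mpr h
    set W := V ⊓ Subgroup.normalizer (L : Set G) with hWdef
    by_cases hW : W = ⊥
    · -- semiregular on the factors
      have hreg : ∀ u ∈ V, cj u = L → u = 1 := fun u hu h => by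
        have : u ∈ W := ⟨hu, hcjn u h⟩
        rwa [hW, Subgroup.mem_bot] at this
      obtain ⟨s, hs, hs1, hso⟩ : ∃ s ∈ L, s ≠ 1 ∧ Odd (orderOf s) := by
        by_contra hcon
        refine hL2 fun ⟨x, hx⟩ => ?_
        obtain ⟨k, r, hr, hkr⟩ := Nat.exists_eq_pow_mul_and_not_dvd (orderOf_pos x).ne' 2 (by norm_num)
        refine ⟨k, Subtype.ext ?_⟩
        show x ^ 2 ^ k = 1
        by_contra hne'
        refine hcon ⟨_, L.pow_mem hx _, hne', ?_⟩
        rw [orderOf_pow_of_dvd (by positivity) (by rw [hkr]; exact dvd_mul_right _ _), hkr,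
          Nat.mul_div_cancel_left _ (by positivity), ← Nat.not_even_iff_odd, even_iff_two_dvd]
        exact hr
      obtain ⟨⟨v, hv⟩, hv1'⟩ := Subgroup.ne_bot_iff_exists_ne_one.mp hV1
      have hv1 : v ≠ 1 := fun e => hv1' (Subtype.ext e)
      have hvL : cj v ≠ L := fun h => hv1 (hreg v hv h)
      have hst : Commute s (v * s * v⁻¹)⁻¹ :=
        (hcomm v hvL s hs _ (hmem.mpr (by simpa [mul_assoc] using hs))).inv_right
      set h := s * (v * s * v⁻¹)⁻¹ with hh
      have hvi := inv_eq hV hv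
      have hvv : v * v = 1 := by rw [← sq]; exact hV.2 v hv
      have hinv : v * h * v⁻¹ = h⁻¹ := by
        rw [hh]
        simp only [mul_inv_rev, inv_inv, hvi, mul_assoc]
        rw [hvv, mul_one]
      have hho : Odd (orderOf h) := by
        refine (hso.mul ?_).of_dvd_nat hst.orderOf_mul_dvd_mul_orderOf
        rwa [orderOf_inv, show v * s * v⁻¹ = MulAut.conj v s from rfl, MulEquiv.orderOf_eq]
      have htc : ∀ l ∈ L, Commute l (v * s * v⁻¹) := fun l hl =>
        hcomm v hvL l hl _ (hmem.mpr (by simpa [mul_assoc] using hs))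
      obtain ⟨w, hw, hw1, hwh⟩ := hS h v hv hho hinv
      have hwv : w ≠ v := fun e => by
        rw [← e, hwh, mul_inv_cancel_right] at hinv
        have h1 := eq_one_of_odd_sq hho (mul_eq_one_iff_eq_inv.mpr hinv)
        rw [hh, mul_inv_eq_one] at h1
        exact hs1 (hcenL s hs fun l hl => by rw [h1]; exact (htc l hl).eq)
      have hwL : cj w ≠ L := fun e => hw1 (hreg w hw e)
      have hwvL : cj (w * v) ≠ L := fun e => hwv (by
        have := hreg _ (V.mul_mem hw hv) e
        rw [mul_eq_one_iff_eq_inv, hvi] at this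
        exact this)
      refine hs1 (hcenL s hs fun l hl => ?_)
      have h1 : Commute l (w * s * w⁻¹) := hcomm w hwL l hl _ (hmem.mpr (by simpa [mul_assoc] using hs))
      have h2 : Commute l (w * v * s * (w * v)⁻¹) :=
        hcomm _ hwvL l hl _ (hmem.mpr (by simpa [mul_assoc] using hs))
      have h3 : Commute l h := by
        have e : h = (w * s * w⁻¹) * (w * v * s * (w * v)⁻¹)⁻¹ := by
          calc h = (w * h) * w⁻¹ := by rw [hwh, mul_inv_cancel_right]
            _ = _ := by rw [hh]; group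
        rw [e]; exact h1.mul_right h2.inv_right
      have h4 := h3.mul_right (htc l hl)
      rw [hh, inv_mul_cancel_right] at h4
      exact h4.eq
    · have hHt : W ⊔ L ≠ ⊤ := fun e => by
        have hn : L.Normal := Subgroup.normalizer_eq_top_iff.mp
          (top_le_iff.mp (e ▸ sup_le inf_le_right Subgroup.le_normalizer))
        exact hne ((hNmin L hn hLN).resolve_left hL1)
      refine Exists.elim (hminH (W ⊔ L) W hHt inf_le_left le_sup_left hW ?hsid3) fun z hzz => ?main3
      case main3 =>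
        obtain ⟨hz, hz1, hzc⟩ := hzz
        have hzL := centralizes le_sup_right (hPn _).1 (hPn _).2 hL2' hzc hz.2
        have hzC : z ∈ C := by
          refine Subgroup.mem_centralizer_iff.mpr fun n hn => ?_
          have hle : N ≤ Subgroup.centralizer ({z} : Set G) := by
            rw [← hgen]
            refine iSup_le fun v x hx => Subgroup.mem_centralizer_singleton_iff.mpr ?_
            have hc : Commute z ((v : G)⁻¹ * x * v) :=
              (Subgroup.mem_centralizer_iff.mp hzL _ (hmem.mp hx)).symm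
            have hzv : Commute z (v : G) := comm hV hz.1 v.2
            have hz' := (hzv.mul_right hc).mul_right hzv.inv_right
            rw [show (v : G) * ((v : G)⁻¹ * x * v) * (v : G)⁻¹ = x by group] at hz'
            exact hz'.eq.symm
          exact Subgroup.mem_centralizer_singleton_iff.mp (hle hn)
        exact hz1 (by simpa [hCV] using (Subgroup.mem_inf.mpr ⟨hz.1, hzC⟩ : z ∈ V ⊓ C))
      intro h hh u hu ho hinv
      have hhL : h ∈ L := odd_mem (U := W) (fun a ha => hV.2 a ha.1) inf_le_right hh ho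
      by_cases hh1 : h = 1
      · obtain ⟨⟨w, hw⟩, hw1⟩ := Subgroup.ne_bot_iff_exists_ne_one.mp hW
        exact ⟨w, hw, fun e => hw1 (Subtype.ext e), by rw [hh1, mul_one, one_mul]⟩
      obtain ⟨w, hw, hw1, hwh⟩ := hS h u hu.1 ho hinv
      refine ⟨w, ⟨hw, hcjn w ((hdisj w).resolve_right fun e => hh1 ?_)⟩, hw1, hwh⟩
      have : h ∈ L ⊓ cj w := ⟨hhL, hmem.mpr (by
        rw [mul_assoc, ← hwh, inv_mul_cancel_left]; exact hhL)⟩
      rwa [e, Subgroup.mem_bot] at this
  subst hLN'
  haveI hNsimple : IsSimpleGroup L := by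
    haveI : Nontrivial L := (Subgroup.nontrivial_iff_ne_bot L).mpr hL1
    refine ⟨fun K hK => ?_⟩
    have hle : L ≤ Subgroup.normalizer ((K.map L.subtype : Subgroup G) : Set G) := by
      refine le_trans ?_ (Subgroup.le_normalizer_map L.subtype)
      rw [Subgroup.normalizer_eq_top, ← MonoidHom.range_eq_map, Subgroup.range_subtype]
    rcases hsub _ (Subgroup.map_subtype_le K) hle with h | h
    · exact Or.inl ((Subgroup.map_eq_bot_iff_of_injective _ L.subtype_injective).mp h)
    · exact Or.inr (Subgroup.map_injective L.subtype_injective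
        (h.trans (by rw [← MonoidHom.range_eq_map, Subgroup.range_subtype])))
  -- the centralizer of `N` is trivial
  have hC1 : C = ⊥ := by
    refine hno2 C inferInstance fun ⟨x, hx⟩ => ?_
    obtain ⟨k, r, hr, hkr⟩ := Nat.exists_eq_pow_mul_and_not_dvd (orderOf_pos x).ne' 2 (by norm_num)
    refine ⟨k, Subtype.ext ?_⟩
    show x ^ 2 ^ k = 1
    have ho : Odd (orderOf (x ^ 2 ^ k)) := by
      rw [orderOf_pow_of_dvd (by positivity) (by rw [hkr]; exact dvd_mul_right _ _), hkr,
        Nat.mul_div_cancel_left _ (by positivity), ← Nat.not_even_iff_odd, even_iff_two_dvd]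
      exact hr
    exact hcenL _ (hoddN _ ho) fun l hl => Subgroup.mem_centralizer_iff.mp (C.pow_mem hx _) l hl
  haveI : (Cfsg.fittingSubgroup G).Normal := Cores.fittingSubgroup_normal
  have hF : Cfsg.fittingSubgroup G = ⊥ := by
    refine le_bot_iff.mp (le_trans ?_ hC1.le)
    have hint : L ⊓ Cfsg.fittingSubgroup G = ⊥ := by
      rcases hNmin (L ⊓ Cfsg.fittingSubgroup G) inferInstance inf_le_left with h | h
      · exact h
      exfalso
      haveI := Cores.isNilpotent_of_le (inf_eq_left.mp h) (Cores.fittingSubgroup_isNilpotent (G := G))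
      exact hLna (Cores.MinNormal.isMulCommutative_of_solvable hL1 hNmin)
    exact fun x hx => Subgroup.mem_centralizer_iff.mpr fun y hy =>
      Subgroup.commute_of_normal_of_disjoint _ _ inferInstance inferInstance
        (disjoint_iff.mpr hint) y x hy hx
  have hcomp : Cfsg.IsComponent L :=
    ⟨Subgroup.Normal.isSubnormal inferInstance, Components.Quasisimple.of_isSimpleGroup hLna⟩
  have hlay : Cfsg.layer G = L := by
    refine le_antisymm (sSup_le fun K hK => ?_) (Components.Layer.component_le_layer hcomp)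
    rcases Components.Component.le_or_commutator_eq_bot hK (Subgroup.Normal.isSubnormal inferInstance :
      L.IsSubnormal) with h | h
    · exact h
    · have hKC : K ≤ C := Subgroup.commutator_eq_bot_iff_le_centralizer.mp
        (Subgroup.commutator_comm L K ▸ h)
      exact absurd (le_bot_iff.mp (hKC.trans hC1.le)) (Components.Component.ne_bot hK)
  have hstar : Cfsg.generalizedFittingSubgroup G = L := by
    rw [Cfsg.generalizedFittingSubgroup, hlay, hF, sup_bot_eq]
  rw [hstar]
  exact ⟨hNsimple, hLna, htop⟩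

end Cfsg.Agent.S3048
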