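import Cfsg.Statements.S3050
import Cfsg.Agent.Lib.SL2Module.HigmanInduction
-- import your own Cfsg.Agent.* helpers here

set_option autoImplicit false
open Cfsg
open Matrix

namespace Cfsg.Agent.S3050

/-- Let G be a finite group with a normal 2-subgroup Q such that G/Q is isomorphic to SL(2, 2ⁿ) with n ≥ 2, and suppose some element of G of order 3 fixes no nonidentity element of Q under conjugation. Then Q is elementary abelian and is the direct product of normal subgroups of G on each of which G acts as SL(2, 2ⁿ) acts on its natural two-dimensional module (a Galois twist of the natural action allowed). -/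
theorem result {G : Type*} [Group G] [Finite G]
    (Q : Subgroup G) [Q.Normal] (hQ : IsPGroup 2 ↥Q) (n : ℕ) (hn : 2 ≤ n)
    (K : Type*) [Field K] [Fintype K] (hK : Fintype.card K = 2 ^ n)
    (e : G ⧸ Q ≃* Matrix.SpecialLinearGroup (Fin 2) K)
    (x : G) (hx : orderOf x = 3) (hfpf : ∀ q ∈ Q, x * q * x⁻¹ = q → q = 1) :
    Cfsg.IsElementaryAbelian 2 Q ∧
      ∃ (k : ℕ) (V : Fin k → Subgroup G), (∀ i, V i ≤ Q ∧ (V i).Normal ∧
        Cfsg.ActsAsSL2OnSection K ⊤ ⊤ (V i) ⊥) ∧ iSupIndep V ∧ ⨆ i, V i = Q := by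
  classical
  haveI : Fact (Nat.Prime 2) := ⟨Nat.prime_two⟩
  haveI : CharP K 2 := Lib.SL2Module.charP_of_card hK
  obtain ⟨s, hs0, hs1⟩ : ∃ s : K, s ≠ 0 ∧ s ≠ 1 := by
    by_contra h
    push Not at h
    have hle := Finset.card_le_card (show (Finset.univ : Finset K) ⊆ {0, 1} from fun t _ => by
      rw [Finset.mem_insert, Finset.mem_singleton]
      by_cases ht : t = 0
      · exact Or.inl ht
      · exact Or.inr (h t ht))
    have h4 : 2 ^ 2 ≤ 2 ^ n := Nat.pow_le_pow_right (by norm_num) hn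
    have h2 : ({0, 1} : Finset K).card ≤ 2 := Finset.card_le_two
    rw [Finset.card_univ, hK] at hle
    omega
  obtain ⟨hab, hsq⟩ := Lib.SL2Module.elementary_kernel hs0 hs1 _ Q le_rfl hQ e x hx hfpf
  refine ⟨⟨⟨⟨fun a b => Subtype.ext (hab _ a.2 _ b.2)⟩⟩, fun a ha => by rw [pow_two]; exact hsq a ha⟩, ?_⟩
  letI : CommGroup ↥Q :=
    { (inferInstance : Group ↥Q) with mul_comm := fun a b => Subtype.ext (hab _ a.2 _ b.2) }
  let τ : Matrix.SpecialLinearGroup (Fin 2) K →* AddMonoid.End (Additive ↥Q) :=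
    Lib.SL2Module.secEnd Q Q (fun a ha => Subgroup.mem_centralizer_iff.2 fun b hb => hab b hb a ha) e
  have h3 : Lib.SL2Module.Fpf3 τ :=
    Lib.SL2Module.fpf3_of_element (Lib.SL2Module.orderOf_image hQ e hx) fun v hv =>
      Additive.toMul.injective (Lib.SL2Module.secEnd_fix _ _ _ e hfpf v hv)
  have h2 : ∀ v : Additive ↥Q, v + v = 0 := fun v =>
    Additive.toMul.injective (Subtype.ext (hsq _ (Additive.toMul v).2))
  obtain ⟨k, W, hW, hind, htop⟩ :=
    Lib.SL2Module.exists_decomposition (h3.quad h2) (h3.split h2) (h3.sup_eq_top h2)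
  let Φ : AddSubgroup (Additive ↥Q) ≃o Subgroup ↥Q := AddSubgroup.toSubgroup'
  refine ⟨k, fun i => (Φ (W i)).map Q.subtype, fun i => ?_, ?_, ?_⟩
  · obtain ⟨hinv, f, hfinj, hfr, hf⟩ := hW i
    have hmemW : ∀ v : Additive ↥Q,
        ((Additive.toMul v : ↥Q) : G) ∈ (Φ (W i)).map Q.subtype ↔ v ∈ W i := fun v =>
      Subgroup.mem_map_iff_mem Q.subtype_injective
    have hVQ : (Φ (W i)).map Q.subtype ≤ Q := Subgroup.map_subtype_le _
    have hnormal : ((Φ (W i)).map Q.subtype).Normal := ⟨fun y hy g => by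
      have h1 := (hmemW (Additive.ofMul ⟨y, hVQ hy⟩)).1 hy
      have h2 := (hmemW _).2 (hinv (e (g : G ⧸ Q)) _ h1)
      rwa [Lib.SL2Module.secEnd_apply] at h2⟩
    refine ⟨hVQ, hnormal, fun g _ => ?_, bot_le, ?_⟩
    · haveI := hnormal
      rw [Subgroup.normalizer_eq_top]; trivial
    have hto : ∀ u : ↥((Φ (W i)).map Q.subtype),
        ∃ a : Fin 2 → K, f a = Additive.ofMul (⟨(u : G), hVQ u.2⟩ : ↥Q) := fun u => by
      rw [← AddMonoidHom.mem_range, hfr]
      exact (hmemW _).1 u.2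
    choose a ha using hto
    refine ⟨(e.toMonoidHom.comp (QuotientGroup.mk' Q)).comp (⊤ : Subgroup G).subtype,
      MonoidHom.mk' (fun u => Multiplicative.ofAdd (a u)) (fun u w => ?_), ?_, ?_, ?_, ?_⟩
    · rw [← ofAdd_add]
      refine congrArg _ (hfinj ?_)
      rw [map_add, ha, ha, ha, ← ofMul_mul]
      rfl
    · refine MonoidHom.range_eq_top.2 fun y => ?_
      obtain ⟨g, hg⟩ := QuotientGroup.mk_surjective (e.symm y)
      refine ⟨⟨g, Subgroup.mem_top g⟩, ?_⟩
      show e (g : G ⧸ Q) = y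
      rw [hg, MulEquiv.apply_symm_apply]
    · intro b
      obtain ⟨v, hv⟩ : ∃ v, f (Multiplicative.toAdd b) = v := ⟨_, rfl⟩
      refine ⟨⟨_, (hmemW v).2 (by rw [← hfr]; exact ⟨_, hv⟩)⟩, ?_⟩
      refine congrArg Multiplicative.ofAdd (hfinj ?_)
      rw [ha]
      exact hv.symm
    · intro u
      rw [Subgroup.mem_bot]
      refine ⟨fun h => ?_, fun h => ?_⟩
      · have h0 : a u = 0 := congrArg Multiplicative.toAdd h
        have h1 := ha u
        rw [h0, map_zero] at h1
        exact (congrArg (fun w : Additive ↥Q => ((Additive.toMul w : ↥Q) : G)) h1).symm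
      · refine congrArg Multiplicative.ofAdd (hfinj ?_)
        rw [ha, map_zero]
        exact Additive.toMul.injective (Subtype.ext h)
    · intro g u
      refine ⟨⟨_, hnormal.conj_mem _ u.2 g⟩, rfl, ?_⟩
      apply hfinj
      show f (a _) = f ((e ((g : G) : G ⧸ Q)).1 *ᵥ a u)
      rw [ha, ← hf, ha]
      apply Additive.toMul.injective
      apply Subtype.ext
      rw [Lib.SL2Module.secEnd_apply]
      rfl
  · intro i
    show Disjoint ((Φ (W i)).map Q.subtype) (⨆ j, ⨆ (_ : j ≠ i), (Φ (W j)).map Q.subtype)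
    simp only [← Subgroup.map_iSup, ← OrderIso.map_iSup]
    rw [disjoint_iff, ← Subgroup.map_inf _ _ _ Q.subtype_injective, ← OrderIso.map_inf,
      disjoint_iff.1 (hind i), OrderIso.map_bot, Subgroup.map_bot]
  · rw [← Subgroup.map_iSup, ← OrderIso.map_iSup, htop, OrderIso.map_top, ← MonoidHom.range_eq_map,
      Subgroup.range_subtype]

end Cfsg.Agent.S3050
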