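import Cfsg.Statements.S3053
import Cfsg.Agent.Lib.LA5.Basic
import Cfsg.Agent.Lib.Extraspecial.Basic
import Cfsg.Agent.Lib.PGroups.MaxAbelian
import Mathlib.Algebra.Field.ZMod
-- import your own Cfsg.Agent.* helpers here

set_option autoImplicit false
open Cfsg

namespace Cfsg.Agent.S3053

open Subgroup Cfsg.Agent.Lib.LA5.Basic
open scoped commutatorElement

section PGroup

variable {P : Type*} [Group P] [Finite P] {p : ℕ} [hp : Fact p.Prime] {z : P}

/-- A noncentral element is conjugate to each of its translates by central elements. -/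
theorem exists_translate (h : Cfsg.Agent.Lib.Extraspecial.ESData p z) {y c : P} (hy : y ∉ center P)
    (hc : c ∈ center P) : ∃ w : P, w * y * w⁻¹ = c * y := by
  obtain ⟨w, hw⟩ : ∃ w : P, ⁅w, y⁆ ≠ 1 := by
    by_contra hall
    push Not at hall
    exact hy (mem_center_iff.2 fun w => commutatorElement_eq_one_iff_mul_comm.1 (hall w))
  obtain ⟨i, hi⟩ := h.comm_mem w y
  obtain ⟨j, hj⟩ := (h.mem_center c).1 hc
  have hord : orderOf z = p := orderOf_eq_prime h.z_pow h.z_ne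
  have hi0 : (i : ZMod p) ≠ 0 := fun h0 => hw (by
    rw [← hi]
    exact orderOf_dvd_iff_zpow_eq_one.1 (hord.symm ▸ (ZMod.intCast_zmod_eq_zero_iff_dvd i p).1 h0))
  set k : ℤ := (((j : ZMod p) / (i : ZMod p)).val : ℤ) with hk
  refine ⟨w ^ k, ?_⟩
  rw [← mul_inv_eq_iff_eq_mul]
  show ⁅w ^ k, y⁆ = c
  rw [Lib.Extraspecial.comm_zpow_left h, ← hi]
  show (z ^ i) ^ k = c
  rw [← hj, ← zpow_mul]
  show z ^ (i * k) = z ^ j
  rw [zpow_eq_zpow_iff_modEq, hord, ← ZMod.intCast_eq_intCast_iff]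
  push_cast [hk]
  rw [ZMod.natCast_zmod_val, mul_div_cancel₀ _ hi0]

omit [Finite P] in
theorem centralizer_exponent [Finite P] (h : Cfsg.Agent.Lib.Extraspecial.ESData p z)
    (hcard : Nat.card P = p ^ 3) {e : P} (he : e ∉ center P) (hep : e ^ p = 1) {f : P}
    (hf : f * e = e * f) : f ^ p = 1 := by
  set C := centralizer ({e} : Set P) with hC
  set E := zpowers z ⊔ zpowers e with hE
  have hEC : E ≤ C := sup_le (zpowers_le.2 (mem_centralizer_singleton_iff.2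
    (Lib.Extraspecial.commute_z h e).symm)) (zpowers_le.2 (mem_centralizer_singleton_iff.2 rfl))
  have hCne : C ≠ ⊤ := fun h1 => he (mem_center_iff.2 fun g =>
    mem_centralizer_singleton_iff.1 (h1 ▸ mem_top g : g ∈ C))
  obtain ⟨a, ha3, ha⟩ := (Nat.dvd_prime_pow hp.out).1 (hcard ▸ card_subgroup_dvd_card C)
  have ha2 : a ≤ 2 := by
    by_contra h3
    exact hCne ((card_eq_iff_eq_top C).1 (by rw [ha, hcard, show a = 3 by omega]))
  obtain ⟨b, -, hb⟩ := (Nat.dvd_prime_pow hp.out).1 (hcard ▸ card_subgroup_dvd_card E)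
  have hb2 : 2 ≤ b := by
    by_contra h1
    have hzc : Nat.card (zpowers z) = p := by rw [Nat.card_zpowers, orderOf_eq_prime h.z_pow h.z_ne]
    have hzE : zpowers z = E := by
      refine eq_of_le_of_card_ge le_sup_left ?_
      rw [hb, hzc]
      exact (Nat.pow_le_pow_right hp.out.pos (by omega : b ≤ 1)).trans_eq (pow_one p)
    refine he ((h.mem_center e).2 ?_)
    rw [hzE]
    exact mem_sup_right (mem_zpowers e)
  have hCE : E = C := eq_of_le_of_card_ge hEC (by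
    rw [ha, hb]; exact Nat.pow_le_pow_right hp.out.pos (by omega))
  have hfE : f ∈ E := hCE ▸ mem_centralizer_singleton_iff.2 hf
  haveI : (zpowers z).Normal := ⟨fun a ha g => by
    rw [mem_center_iff.1 ((h.mem_center a).2 ha) g, mul_inv_cancel_right]; exact ha⟩
  have hfE' : f ∈ ((zpowers z ⊔ zpowers e : Subgroup P) : Set P) := hfE
  rw [Subgroup.normal_mul] at hfE'
  obtain ⟨_, ⟨i, rfl⟩, _, ⟨k, rfl⟩, rfl⟩ := hfE'
  show (z ^ i * e ^ k) ^ p = 1
  rw [((show Commute z e from (Lib.Extraspecial.commute_z h e).symm).zpow_zpow i k).mul_pow,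
    ← zpow_natCast, ← zpow_natCast, ← zpow_mul, ← zpow_mul, mul_comm i, mul_comm k, zpow_mul, zpow_mul,
    zpow_natCast, zpow_natCast, h.z_pow, hep, one_zpow, one_zpow, one_mul]

end PGroup

/-- Let p be an odd prime and G a finite group with a Sylow p-subgroup P that is extraspecial of order p³ and exponent p². Then the centre of P is strongly closed in P with respect to G: a G-conjugate of an element of Z(P) that lies in P already lies in Z(P). In particular a nontrivial central element of P is conjugate in G to no noncentral element of P. -/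
theorem result {G : Type*} [Group G] [Finite G]
    {p : ℕ} [Fact p.Prime] (hp : p ≠ 2) (P : Sylow p G) (hE : Cfsg.IsExtraspecial p ↥P)
    (hcard : Nat.card P = p ^ 3) (hexp : Monoid.exponent ↥P = p ^ 2) :
    Cfsg.IsStronglyClosed ((Subgroup.center ↥P).map (P : Subgroup G).subtype) (P : Subgroup G) := by
  refine ⟨map_subtype_le _, ?_⟩
  rintro _ ⟨z₁, hz₁, rfl⟩ g hgP
  by_contra hne
  obtain ⟨z₀, hd⟩ := Lib.Extraspecial.exists_esData hE
  have hp' : p.Prime := Fact.out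
  replace hexp : Monoid.exponent (P : Subgroup G) = p ^ 2 := hexp
  have hcent : Nat.card (center (P : Subgroup G)) = p := hE.2
  set e' : (P : Subgroup G) := ⟨_, hgP⟩ with he'def
  have he' : e' ∉ center (P : Subgroup G) := fun h => hne ⟨e', h, rfl⟩
  have he'p : e' ^ p = 1 := by
    refine Subtype.ext ?_
    show (g * (z₁ : G) * g⁻¹) ^ p = 1
    obtain ⟨k, hk⟩ := (hd.mem_center z₁).1 hz₁
    rw [conj_pow, ← SubmonoidClass.coe_pow, ← hk]
    show g * (((z₀ ^ k) ^ p : (P : Subgroup G)) : G) * g⁻¹ = 1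
    rw [← zpow_natCast, ← zpow_mul, mul_comm, zpow_mul, zpow_natCast, hd.z_pow, one_zpow, OneMemClass.coe_one,
      mul_one, mul_inv_cancel]
  obtain ⟨x', hx⟩ : ∃ x' : (P : Subgroup G), x' ^ p ≠ 1 := by
    by_contra hall
    push Not at hall
    have h1 := Monoid.exponent_dvd_of_forall_pow_eq_one hall
    rw [hexp] at h1
    have := Nat.le_of_dvd hp'.pos h1
    nlinarith [hp'.one_lt]
  have hzc : x' ^ p ∈ center (P : Subgroup G) := (hd.mem_center _).2 (hd.pow_mem x')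
  have hxe : x' * e' ≠ e' * x' := fun h => hx (centralizer_exponent hd hcard he' he'p h)
  obtain ⟨s', hs⟩ := exists_translate hd he' hzc
  set z : G := ((x' : G)) ^ p with hz
  set e : G := g * (z₁ : G) * g⁻¹ with he
  have hzP : z ∈ (P : Subgroup G) := pow_mem x'.2 p
  have hzcomm : ∀ q ∈ (P : Subgroup G), q * z = z * q := fun q hq =>
    congrArg Subtype.val (mem_center_iff.1 hzc ⟨q, hq⟩)
  have hze : z * e = e * z := (hzcomm e hgP).symm
  have hz1 : z ≠ 1 := fun h => hx (Subtype.ext h)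
  have hzp : z ^ p = 1 := by
    obtain ⟨k, hk⟩ := hd.pow_mem x'
    rw [hz, ← SubmonoidClass.coe_pow, ← SubmonoidClass.coe_pow, ← OneMemClass.coe_one (P : Subgroup G)]
    refine congrArg Subtype.val ?_
    rw [← hk]
    show (z₀ ^ k) ^ p = 1
    rw [← zpow_natCast, ← zpow_mul, mul_comm, zpow_mul, zpow_natCast, hd.z_pow, one_zpow]
  have hzgen : ∀ c ∈ center (P : Subgroup G), (c : G) ∈ zpowers z := by
    intro c hc
    have hle : zpowers (x' ^ p) ≤ center (P : Subgroup G) := zpowers_le.2 hzc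
    have hcardle : Nat.card (center (P : Subgroup G)) ≤ Nat.card (zpowers (x' ^ p)) := by
      rw [hcent, Nat.card_zpowers, orderOf_eq_prime (Subtype.ext (by simpa [hz] using hzp)) hx]
    obtain ⟨k, hk⟩ := (eq_of_le_of_card_ge hle hcardle).ge hc
    exact ⟨k, by simpa [hz] using congrArg Subtype.val hk⟩
  have henz : e ∉ zpowers z := by
    rintro ⟨k, hk⟩
    refine he' ?_
    have : e' = (x' ^ p) ^ k := Subtype.ext (by simpa [hz, he'def] using hk.symm)
    exact this ▸ zpow_mem hzc k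
  -- a Sylow subgroup having `e` in its centre and containing `z`
  obtain ⟨h₀, hh⟩ : ∃ h₀ : G, h₀⁻¹ * e * h₀ ∈ (P : Subgroup G) ∧ h₀⁻¹ * z * h₀ ∈ (P : Subgroup G) ∧
      ∀ q ∈ (P : Subgroup G), q * (h₀⁻¹ * e * h₀) = h₀⁻¹ * e * h₀ * q := by
    set C := centralizer ({e} : Set G) with hC
    have hgC : (P : Subgroup G).map (MulAut.conj g).toMonoidHom ≤ C := by
      rintro _ ⟨q, hq, rfl⟩
      rw [hC, mem_centralizer_singleton_iff, he]
      show g * q * g⁻¹ * (g * z₁ * g⁻¹) = g * z₁ * g⁻¹ * (g * q * g⁻¹)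
      have h1 : q * (z₁ : G) = z₁ * q := congrArg Subtype.val (mem_center_iff.1 hz₁ ⟨q, hq⟩)
      calc g * q * g⁻¹ * (g * z₁ * g⁻¹) = g * (q * z₁) * g⁻¹ := by group
        _ = g * (z₁ * q) * g⁻¹ := by rw [h1]
        _ = _ := by group
    have hzC : z ∈ C := mem_centralizer_singleton_iff.2 hze
    have hzpg : IsPGroup p ((zpowers z).subgroupOf C) := (P.isPGroup'.to_le (zpowers_le.2 hzP)).comap_subtype
    obtain ⟨T, hT⟩ := hzpg.exists_le_sylow
    obtain ⟨T', hT'⟩ := ((P.isPGroup'.map (MulAut.conj g).toMonoidHom).comap_subtype (K := C)).exists_le_sylow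
    have hcardT : Nat.card (P : Subgroup G) ≤ Nat.card ((T : Subgroup C).map C.subtype) := by
      rw [card_map_of_injective C.subtype_injective, T.card_eq_multiplicity, ← T'.card_eq_multiplicity,
        ← card_conj g, ← Nat.card_congr (subgroupOfEquivOfLe hgC).toEquiv]
      exact card_le_of_le hT'
    obtain ⟨T₁, hT₁⟩ := (T.isPGroup'.map C.subtype).exists_le_sylow
    have hTT : (T : Subgroup C).map C.subtype = T₁ := eq_of_le_of_card_ge hT₁ (by
      rw [T₁.card_eq_multiplicity, ← P.card_eq_multiplicity]; exact hcardT)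
    obtain ⟨h₀, hh₀⟩ := MulAction.exists_smul_eq G P T₁
    have hmem : ∀ y, y ∈ (T₁ : Subgroup G) ↔ h₀⁻¹ * y * h₀ ∈ (P : Subgroup G) := by
      intro y
      rw [← hh₀]
      exact mem_conj_iff
    have hzT : z ∈ (T₁ : Subgroup G) := hTT ▸ ⟨⟨z, hzC⟩, hT (by simp [mem_subgroupOf]), rfl⟩
    have hecomm : ∀ y ∈ (T₁ : Subgroup G), y * e = e * y := by
      intro y hy
      rw [← hTT] at hy
      obtain ⟨w, -, rfl⟩ := hy
      exact mem_centralizer_singleton_iff.1 w.2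
    have heT : e ∈ (T₁ : Subgroup G) := by
      -- `e` centralises `T₁`, so lies in it
      have hep : IsPGroup p (zpowers e) := P.isPGroup'.to_le (zpowers_le.2 hgP)
      have hsup : IsPGroup p ↥((T₁ : Subgroup G) ⊔ zpowers e) := T₁.isPGroup'.to_sup_of_normal_left' hep
        (zpowers_le.2 (centralizer_le_normalizer _ (mem_centralizer_iff.2 fun y hy => hecomm y hy)))
      rw [← T₁.is_maximal' hsup le_sup_left]
      exact mem_sup_right (mem_zpowers e)
    refine ⟨h₀, (hmem e).1 heT, (hmem z).1 hzT, fun q hq => ?_⟩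
    have := hecomm (h₀ * q * h₀⁻¹) ((hmem _).2 (by simpa [mul_assoc] using hq))
    calc q * (h₀⁻¹ * e * h₀) = h₀⁻¹ * (h₀ * q * h₀⁻¹ * e) * h₀ := by group
      _ = h₀⁻¹ * (e * (h₀ * q * h₀⁻¹)) * h₀ := by rw [this]
      _ = _ := by group
  obtain ⟨hh1, hh2, hh3⟩ := hh
  have hc1 : (⟨_, hh1⟩ : (P : Subgroup G)) ∈ center (P : Subgroup G) :=
    mem_center_iff.2 fun q => Subtype.ext (hh3 q q.2)
  have hc2 : (⟨_, hh2⟩ : (P : Subgroup G)) ∉ center (P : Subgroup G) := by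
    intro hc
    -- both would generate the centre
    obtain ⟨a, ha⟩ := (hd.mem_center _).1 hc
    obtain ⟨b, hb⟩ := (hd.mem_center _).1 hc1
    have hord : orderOf z₀ = p := orderOf_eq_prime hd.z_pow hd.z_ne
    have ha0 : (a : ZMod p) ≠ 0 := fun h0 => hz1 (by
      have h1 : z₀ ^ a = 1 := orderOf_dvd_iff_zpow_eq_one.1 (hord.symm ▸ (ZMod.intCast_zmod_eq_zero_iff_dvd a p).1 h0)
      have h2 : h₀⁻¹ * z * h₀ = 1 := congrArg Subtype.val (ha.symm.trans h1)
      calc z = h₀ * (h₀⁻¹ * z * h₀) * h₀⁻¹ := by group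
        _ = 1 := by rw [h2]; group)
    apply henz
    refine ⟨(((b : ZMod p) / (a : ZMod p)).val : ℤ), ?_⟩
    have h3 : ((⟨_, hh2⟩ : (P : Subgroup G))) ^ (((b : ZMod p) / (a : ZMod p)).val : ℤ) = ⟨_, hh1⟩ := by
      rw [← ha, ← hb]
      show (z₀ ^ a) ^ _ = z₀ ^ b
      rw [← zpow_mul, zpow_eq_zpow_iff_modEq, hord, ← ZMod.intCast_eq_intCast_iff]
      push_cast
      rw [ZMod.natCast_zmod_val, mul_div_cancel₀ _ ha0]
    have h4 : (h₀⁻¹ * z * (h₀⁻¹)⁻¹) ^ (((b : ZMod p) / (a : ZMod p)).val : ℤ) = h₀⁻¹ * e * h₀ := by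
      rw [inv_inv]
      simpa using congrArg Subtype.val h3
    rw [conj_zpow, inv_inv] at h4
    exact mul_left_cancel (mul_right_cancel h4)
  obtain ⟨w', hw⟩ := exists_translate hd hc2 hc1
  set s : G := (s' : G)
  set t : G := h₀ * (w' : G) * h₀⁻¹ with htdef
  have hse : s * e * s⁻¹ = z * e := congrArg Subtype.val hs
  have hsz : s * z * s⁻¹ = z := by rw [hzcomm s s'.2, mul_inv_cancel_right]
  have htz : t * z * t⁻¹ = e * z := by
    have h1 : (w' : G) * (h₀⁻¹ * z * h₀) * (w' : G)⁻¹ = h₀⁻¹ * e * h₀ * (h₀⁻¹ * z * h₀) :=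
      congrArg Subtype.val hw
    calc t * z * t⁻¹ = h₀ * ((w' : G) * (h₀⁻¹ * z * h₀) * (w' : G)⁻¹) * h₀⁻¹ := by rw [htdef]; group
      _ = e * z := by rw [h1]; group
  have hte : t * e * t⁻¹ = e := by
    calc t * e * t⁻¹ = h₀ * ((w' : G) * (h₀⁻¹ * e * h₀) * (w' : G)⁻¹) * h₀⁻¹ := by rw [htdef]; group
      _ = e := by rw [hh3 _ w'.2]; group
  have htz' : t⁻¹ * z * t = e⁻¹ * z := by
    calc t⁻¹ * z * t = t⁻¹ * ((t * e * t⁻¹)⁻¹ * (e * z)) * t := by rw [hte]; group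
      _ = t⁻¹ * ((t * e * t⁻¹)⁻¹ * (t * z * t⁻¹)) * t := by rw [htz]
      _ = e⁻¹ * z := by group
  have hte' : t⁻¹ * e * t = e := by
    calc t⁻¹ * e * t = t⁻¹ * (t * e * t⁻¹) * t := by rw [hte]
      _ = e := by group
  set w : G := s * t⁻¹ * s with hwdef
  have hwz : w * z * w⁻¹ = e⁻¹ := by
    calc w * z * w⁻¹ = s * (t⁻¹ * (s * z * s⁻¹) * t) * s⁻¹ := by rw [hwdef]; group
      _ = s * (e⁻¹ * z) * s⁻¹ := by rw [hsz, htz']
      _ = (s * e * s⁻¹)⁻¹ * (s * z * s⁻¹) := by group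
      _ = e⁻¹ := by rw [hse, hsz]; group
  have hwe : w * e * w⁻¹ = z := by
    calc w * e * w⁻¹ = s * (t⁻¹ * (s * e * s⁻¹) * t) * s⁻¹ := by rw [hwdef]; group
      _ = s * ((t⁻¹ * z * t) * (t⁻¹ * e * t)) * s⁻¹ := by rw [hse]; group
      _ = s * (e⁻¹ * (z * e)) * s⁻¹ := by rw [htz', hte']; group
      _ = s * z * s⁻¹ := by rw [hze]; group
      _ = z := hsz
  set u := w * w with hu
  have huz : u * z * u⁻¹ = z⁻¹ := by
    calc u * z * u⁻¹ = w * (w * z * w⁻¹) * w⁻¹ := by rw [hu]; group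
      _ = (w * e * w⁻¹)⁻¹ := by rw [hwz]; group
      _ = z⁻¹ := by rw [hwe]
  have hue : u * e * u⁻¹ = e⁻¹ := by
    calc u * e * u⁻¹ = w * (w * e * w⁻¹) * w⁻¹ := by rw [hu]; group
      _ = e⁻¹ := by rw [hwe, hwz]
  -- the stabiliser of `z` and of `e` modulo `⟨z⟩`
  have hfix : ∀ c : G, c * z * c⁻¹ = z → ∀ y ∈ zpowers z, c * y * c⁻¹ = y := by
    rintro c hc _ ⟨k, rfl⟩
    rw [← conj_zpow, hc]
  let A : Subgroup G :=
    { carrier := {c | c * z * c⁻¹ = z ∧ c * e * c⁻¹ * e⁻¹ ∈ zpowers z}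
      one_mem' := by simp
      mul_mem' := fun {a b} ha hb => by
        refine ⟨?_, ?_⟩
        · calc a * b * z * (a * b)⁻¹ = a * (b * z * b⁻¹) * a⁻¹ := by group
            _ = z := by rw [hb.1, ha.1]
        · have h1 : a * b * e * (a * b)⁻¹ * e⁻¹ = a * (b * e * b⁻¹ * e⁻¹) * a⁻¹ * (a * e * a⁻¹ * e⁻¹) := by group
          rw [h1, hfix a ha.1 _ hb.2]
          exact mul_mem hb.2 ha.2
      inv_mem' := fun {a} ha => by
        have h1 : a⁻¹ * z * a⁻¹⁻¹ = z := by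
          conv_lhs => rw [← ha.1]
          group
        refine ⟨h1, ?_⟩
        have h2 : a⁻¹ * e * a⁻¹⁻¹ * e⁻¹ = a⁻¹ * (a * e * a⁻¹ * e⁻¹)⁻¹ * a⁻¹⁻¹ := by group
        rw [h2, hfix _ h1 _ (inv_mem ha.2)]
        exact inv_mem ha.2 }
  have hPA : (P : Subgroup G) ≤ A := fun q hq => ⟨by rw [hzcomm q hq, mul_inv_cancel_right],
    hzgen _ ((hd.mem_center _).2 (hd.comm_mem ⟨q, hq⟩ e'))⟩
  have huA : ((u • P : Sylow p G) : Subgroup G) ≤ A := by
    rintro _ ⟨q, hq, rfl⟩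
    obtain ⟨hq1, k, hk⟩ := hPA hq
    refine ⟨?_, -(-k), ?_⟩
    · show u * q * u⁻¹ * z * (u * q * u⁻¹)⁻¹ = z
      calc u * q * u⁻¹ * z * (u * q * u⁻¹)⁻¹
          = u * q * u⁻¹ * (u * z * u⁻¹)⁻¹ * (u * q * u⁻¹)⁻¹ := by rw [huz]; group
        _ = u * (q * z * q⁻¹)⁻¹ * u⁻¹ := by group
        _ = (u * z * u⁻¹)⁻¹ := by rw [hq1]; group
        _ = z := by rw [huz, inv_inv]
    · show z ^ (-(-k)) = u * q * u⁻¹ * e * (u * q * u⁻¹)⁻¹ * e⁻¹
      rw [neg_neg]
      symm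
      have hk' : q * e * q⁻¹ = z ^ k * e := by rw [show z ^ k = q * e * q⁻¹ * e⁻¹ from hk]; group
      calc u * q * u⁻¹ * e * (u * q * u⁻¹)⁻¹ * e⁻¹
          = u * q * u⁻¹ * (u * e * u⁻¹)⁻¹ * (u * q * u⁻¹)⁻¹ * e⁻¹ := by rw [hue]; group
        _ = (u * (q * e * q⁻¹) * u⁻¹)⁻¹ * e⁻¹ := by group
        _ = ((u * z * u⁻¹) ^ k * (u * e * u⁻¹))⁻¹ * e⁻¹ := by rw [hk', conj_zpow]; group
        _ = e * (z ^ k) * e⁻¹ := by rw [huz, hue]; group
        _ = z ^ k := by rw [(Commute.zpow_right (hze.symm : Commute e z) k).eq, mul_inv_cancel_right]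
  obtain ⟨c, hc⟩ := MulAction.exists_smul_eq A ((u • P : Sylow p G).subtype huA) (P.subtype hPA)
  have hcP : ∀ q ∈ (P : Subgroup G), (c : G) * (u * q * u⁻¹) * (c : G)⁻¹ ∈ (P : Subgroup G) := by
    intro q hq
    have h1 : (⟨u * q * u⁻¹, huA ⟨q, hq, rfl⟩⟩ : A) ∈ ((u • P : Sylow p G).subtype huA : Subgroup A) :=
      ⟨q, hq, rfl⟩
    have h2 : c * ⟨u * q * u⁻¹, huA ⟨q, hq, rfl⟩⟩ * c⁻¹ ∈ (P.subtype hPA : Subgroup A) := by
      rw [← hc]; exact ⟨_, h1, rfl⟩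
    exact h2
  set u' := (c : G) * u with hu'
  have hu'z : u' * z * u'⁻¹ = z⁻¹ := by
    calc u' * z * u'⁻¹ = (c : G) * (u * z * u⁻¹) * (c : G)⁻¹ := by rw [hu']; group
      _ = ((c : G) * z * (c : G)⁻¹)⁻¹ := by rw [huz]; group
      _ = z⁻¹ := by rw [c.2.1]
  obtain ⟨i, hi⟩ := c.2.2
  have hu'e : u' * e * u'⁻¹ = (z ^ i * e)⁻¹ := by
    calc u' * e * u'⁻¹ = (c : G) * (u * e * u⁻¹) * (c : G)⁻¹ := by rw [hu']; group
      _ = ((c : G) * e * (c : G)⁻¹ * e⁻¹ * e)⁻¹ := by rw [hue]; group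
      _ = (z ^ i * e)⁻¹ := by rw [← hi]
  set y : G := u' * (x' : G) * u'⁻¹ with hy
  have hyP : y ∈ (P : Subgroup G) := by
    have := hcP _ x'.2
    rw [hy, hu']
    simpa [mul_assoc] using this
  obtain ⟨m, hm⟩ := hzgen _ ((hd.mem_center _).2 (hd.comm_mem x' e'))
  have hxe' : (x' : G) * e * (x' : G)⁻¹ = z ^ m * e := by
    rw [show z ^ m = (x' : G) * e * (x' : G)⁻¹ * e⁻¹ from hm]; group
  have hye : y * e * y⁻¹ = z ^ m * e := by
    have hzy : y * z * y⁻¹ = z := by rw [hzcomm y hyP, mul_inv_cancel_right]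
    have h1 : y * (z ^ i * e)⁻¹ * y⁻¹ = (z ^ m)⁻¹ * (z ^ i * e)⁻¹ := by
      calc y * (z ^ i * e)⁻¹ * y⁻¹ = u' * ((x' : G) * e * (x' : G)⁻¹) * u'⁻¹ := by rw [hy, ← hu'e]; group
        _ = (u' * z * u'⁻¹) ^ m * (u' * e * u'⁻¹) := by rw [hxe', conj_zpow]; group
        _ = _ := by rw [hu'z, hu'e, inv_zpow]
    have h2 : y * z ^ i * y⁻¹ = z ^ i := by rw [← conj_zpow, hzy]
    calc y * e * y⁻¹ = (y * z ^ i * y⁻¹)⁻¹ * (y * (z ^ i * e)⁻¹ * y⁻¹)⁻¹ := by group
      _ = (z ^ i)⁻¹ * ((z ^ m)⁻¹ * (z ^ i * e)⁻¹)⁻¹ := by rw [h2, h1]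
      _ = e * z ^ m := by group
      _ = z ^ m * e := ((Commute.zpow_right (hze.symm : Commute e z) m)).eq
  -- compare `p`-th powers
  set f : (P : Subgroup G) := x'⁻¹ * ⟨y, hyP⟩ with hf
  have hfe : f * e' = e' * f := by
    refine Subtype.ext ?_
    show (x' : G)⁻¹ * y * e = e * ((x' : G)⁻¹ * y)
    calc (x' : G)⁻¹ * y * e = (x' : G)⁻¹ * (y * e * y⁻¹) * y := by group
      _ = (x' : G)⁻¹ * ((x' : G) * e * (x' : G)⁻¹) * y := by rw [hye, hxe']
      _ = _ := by group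
  have hfp := centralizer_exponent hd hcard he' he'p hfe
  have hcz : ∀ q : (P : Subgroup G), Commute q ⁅f, x'⁆ := fun q =>
    mem_center_iff.1 ((hd.mem_center _).2 (hd.comm_mem f x')) q
  have hyp : (x' * f) ^ p = x' ^ p := by
    rw [Lib.PGroups.mul_pow_of_central_commutator x' f (hcz x') (hcz f) p, hfp, mul_one]
    obtain ⟨r, hr⟩ := hd.comm_mem f x'
    obtain ⟨d, hd'⟩ := hp'.dvd_choose_self two_ne_zero (lt_of_le_of_ne hp'.two_le hp.symm)
    rw [hd', pow_mul, ← hr]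
    show x' ^ p * ((z₀ ^ r) ^ p) ^ d = x' ^ p
    rw [← zpow_natCast (z₀ ^ r), ← zpow_mul, mul_comm r, zpow_mul, zpow_natCast, hd.z_pow, one_zpow, one_pow, mul_one]
  have hz2 : y ^ p = z := by
    have h1 := congrArg Subtype.val hyp
    simpa [hf, hz] using h1
  rw [hy, conj_pow, ← hz, hu'z] at hz2
  have hzz : z ^ 2 = 1 := by
    rw [pow_two]
    exact eq_inv_iff_mul_eq_one.1 hz2.symm
  have hord : orderOf z = p := orderOf_eq_prime hzp hz1
  exact hp ((Nat.prime_dvd_prime_iff_eq hp' Nat.prime_two).1 (hord ▸ orderOf_dvd_of_pow_eq_one hzz))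

end Cfsg.Agent.S3053
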