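import Cfsg.Statements.S3054
import Cfsg.Agent.Lib.LA5.Torus.Extraspecial
import Mathlib.RingTheory.IntegralDomain
import Mathlib.Algebra.Group.End

set_option autoImplicit false
open Cfsg

namespace Cfsg.Agent.S3054

open Subgroup Cfsg.Agent.Lib.LA5.Torus.Extraspecial

variable {G : Type*} [Group G] [Finite G] {p : ℕ} [hp' : Fact p.Prime]

/-- The shear of a product of two cyclic groups of order `p`, realised by conjugation. -/
theorem exists_transvection {B : Subgroup G} (hB : Nat.card B = p ^ 2) {z a : G} (hza : Commute z a)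
    (hz : z ^ p = 1) (ha : a ^ p = 1) (hz1 : z ≠ 1) (hzB : z ∈ B) (haB : a ∈ B) (hna : a ∉ zpowers z)
    (hSL : ∀ φ : MulAut ↥B, orderOf φ = p → ∃ g : G, ∀ b : ↥B, (φ b : G) = g * (b : G) * g⁻¹) :
    ∃ t₀ : G, t₀ * a * t₀⁻¹ = a ∧ t₀ * z * t₀⁻¹ = a * z := by
  haveI : Fact (1 < p) := ⟨hp'.out.one_lt⟩
  let e₀ : Multiplicative (ZMod p × ZMod p) →* B := MonoidHom.mk'
    (fun v => ⟨pt z a v.toAdd.1 v.toAdd.2, mul_mem (pow_mem hzB _) (pow_mem haB _)⟩) (fun v w => Subtype.ext (by
      show pt z a (v.toAdd.1 + w.toAdd.1) (v.toAdd.2 + w.toAdd.2)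
        = pt z a v.toAdd.1 v.toAdd.2 * pt z a w.toAdd.1 w.toAdd.2
      rw [pt, pt, pt, pow_val_add hz, pow_val_add ha]
      have hc := (hza.pow_pow w.toAdd.1.val v.toAdd.2.val).eq
      calc _ = z ^ v.toAdd.1.val * (z ^ w.toAdd.1.val * a ^ v.toAdd.2.val) * a ^ w.toAdd.2.val := by group
        _ = z ^ v.toAdd.1.val * (a ^ v.toAdd.2.val * z ^ w.toAdd.1.val) * a ^ w.toAdd.2.val := by rw [hc]
        _ = _ := by group))
  have hinj : Function.Injective e₀ := by
    refine (injective_iff_map_eq_one e₀).2 fun v hv => ?_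
    have h1 : z ^ v.toAdd.1.val * a ^ v.toAdd.2.val = 1 := congrArg Subtype.val hv
    have hj : v.toAdd.2 = 0 := by
      by_contra hj
      refine hna ?_
      have h2 : a ^ v.toAdd.2.val ∈ zpowers z := by
        rw [eq_inv_of_mul_eq_one_right h1]
        exact inv_mem (pow_mem (mem_zpowers z) _)
      have h3 : a = (a ^ v.toAdd.2.val) ^ (v.toAdd.2⁻¹).val := by
        rw [← pow_val_mul ha, mul_inv_cancel₀ hj, ZMod.val_one, pow_one]
      exact h3 ▸ pow_mem h2 _
    rw [hj, ZMod.val_zero, pow_zero, mul_one] at h1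
    have hi : v.toAdd.1 = 0 := by
      by_contra hi
      apply hz1
      rw [show z = (z ^ v.toAdd.1.val) ^ (v.toAdd.1⁻¹).val by
        rw [← pow_val_mul hz, mul_inv_cancel₀ hi, ZMod.val_one, pow_one], h1, one_pow]
    exact Multiplicative.toAdd.injective (Prod.ext hi hj)
  let e : Multiplicative (ZMod p × ZMod p) ≃* B := MulEquiv.ofBijective e₀
    ((Nat.bijective_iff_injective_and_card _).2 ⟨hinj, by
      rw [hB, Nat.card_congr Multiplicative.toAdd, Nat.card_prod, Nat.card_zmod, pow_two]⟩)
  let sh : MulAut (Multiplicative (ZMod p × ZMod p)) := AddEquiv.toMultiplicative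
    { toFun := fun v => (v.1, v.1 + v.2)
      invFun := fun v => (v.1, v.2 - v.1)
      left_inv := fun v => by simp
      right_inv := fun v => by simp
      map_add' := fun v w => Prod.ext rfl (by simp only [Prod.fst_add, Prod.snd_add]; abel) }
  have hsh : ∀ (n : ℕ) (v : ZMod p × ZMod p),
      (sh ^ n) (Multiplicative.ofAdd v) = Multiplicative.ofAdd (v.1, (n : ZMod p) * v.1 + v.2) := by
    intro n
    induction n with
    | zero => intro v; simp
    | succ n ih =>
      intro v
      rw [pow_succ', MulAut.mul_apply, ih]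
      show Multiplicative.ofAdd (v.1, v.1 + ((n : ZMod p) * v.1 + v.2)) = _
      congr 2
      push_cast; ring
  have hord : orderOf (MulAut.congr e sh) = p := by
    rw [MulEquiv.orderOf_eq]
    refine orderOf_eq_prime (MulEquiv.ext fun v => ?_) fun h1 => ?_
    · rw [show v = Multiplicative.ofAdd v.toAdd from rfl, hsh]
      simp
    · have h2 := hsh 1 (1, 0)
      rw [pow_one, h1] at h2
      have := congrArg (fun v => v.toAdd.2) h2
      simp at this
  obtain ⟨g, hg⟩ := hSL _ hord
  have hact : ∀ i j : ZMod p, g * pt z a i j * g⁻¹ = pt z a i (i + j) := by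
    intro i j
    have h1 := hg (e (Multiplicative.ofAdd (i, j)))
    have h2 : MulAut.congr e sh (e (Multiplicative.ofAdd (i, j))) = e (sh (Multiplicative.ofAdd (i, j))) := by
      simp [MulAut.congr]
    rw [h2] at h1
    exact h1.symm
  refine ⟨g, ?_, ?_⟩
  · simpa [pt, ZMod.val_zero, ZMod.val_one] using hact 0 1
  · have := hact 1 0
    simp [pt, ZMod.val_zero, ZMod.val_one] at this
    rw [this, hza.eq]

/-- Let p be an odd prime and G a finite group with a Sylow p-subgroup P that is extraspecial of order p³ and exponent p. Suppose P contains three distinct subgroups A of order p² (each is elementary abelian of rank 2) such that every automorphism of A of order p is induced by conjugation by an element of G; equivalently the automorphism group induced on A by its normalizer contains the special linear group of A. Then p ≤ 13. -/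
theorem result {G : Type*} [Group G] [Finite G]
    {p : ℕ} [Fact p.Prime] (hp : p ≠ 2) (P : Sylow p G) (hE : Cfsg.IsExtraspecial p ↥P)
    (hcard : Nat.card P = p ^ 3) (hexp : Monoid.exponent ↥P = p)
    (A : Fin 3 → Subgroup G) (hA : Function.Injective A) (hAP : ∀ i, A i ≤ (P : Subgroup G))
    (hAcard : ∀ i, Nat.card ↥(A i) = p ^ 2)
    (hSL : ∀ i, ∀ φ : MulAut ↥(A i), orderOf φ = p → ∃ g : G, ∀ a : ↥(A i), (φ a : G) = g * (a : G) * g⁻¹) :
    p ≤ 13 := by
  classical
  have hpp : p.Prime := Fact.out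
  obtain ⟨z, hd⟩ := Lib.Extraspecial.exists_esData hE
  replace hexp : Monoid.exponent (P : Subgroup G) = p := hexp
  have hexp' : ∀ q : (P : Subgroup G), q ^ p = 1 := fun q => by
    have h1 := Monoid.pow_exponent_eq_one q
    rwa [hexp] at h1
  have hcen' : Nat.card (center (P : Subgroup G)) = p := hE.2
  replace hcard : Nat.card (P : Subgroup G) = p ^ 3 := hcard
  set A' : Fin 3 → Subgroup (P : Subgroup G) := fun i => (A i).subgroupOf P with hA'
  have hA'card : ∀ i, Nat.card (A' i) = p ^ 2 := fun i => by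
    rw [← hAcard i]; exact Nat.card_congr (subgroupOfEquivOfLe (hAP i)).toEquiv
  have hex : ∀ i, ∃ a ∈ A' i, a ∉ center (P : Subgroup G) := by
    intro i
    by_contra hall
    push Not at hall
    have h1 := card_le_of_le (H := A' i) hall
    rw [hA'card, hcen'] at h1
    nlinarith [hpp.two_le]
  choose a haA hac using hex
  have hcen : ∀ i, A' i = centralizer ({a i} : Set (P : Subgroup G)) := by
    intro i
    haveI : IsMulCommutative (A' i) := ⟨⟨IsPGroup.commutative_of_card_eq_prime_sq (hA'card i)⟩⟩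
    have hle : A' i ≤ centralizer ({a i} : Set (P : Subgroup G)) := fun q hq =>
      mem_centralizer_singleton_iff.2 (congrArg Subtype.val
        ((IsMulCommutative.is_comm.comm) (⟨q, hq⟩ : A' i) ⟨a i, haA i⟩))
    refine eq_of_le_of_card_ge hle ?_
    obtain ⟨b, hb3, hb⟩ := (Nat.dvd_prime_pow hpp).1
      (hcard ▸ card_subgroup_dvd_card (centralizer ({a i} : Set (P : Subgroup G))))
    rw [hb, hA'card]
    refine Nat.pow_le_pow_right hpp.pos ?_
    by_contra h3
    refine hac i (mem_center_iff.2 fun g => mem_centralizer_singleton_iff.1 ?_)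
    rw [(card_eq_iff_eq_top (centralizer ({a i} : Set (P : Subgroup G)))).1 (by rw [hb, hcard, show b = 3 by omega])]
    exact mem_top g
  have hzA : ∀ i, z ∈ A' i := fun i => by
    rw [hcen]; exact mem_centralizer_singleton_iff.2 (Lib.Extraspecial.commute_z hd (a i)).symm
  have hsup : ∀ i, zpowers z ⊔ zpowers (a i) ≤ A' i := fun i =>
    sup_le (zpowers_le.2 (hzA i)) (zpowers_le.2 (haA i))
  have hind : ∀ i i', i ≠ i' → a i ∉ zpowers z ⊔ zpowers (a i') := by
    intro i i' hne hmem
    haveI : IsMulCommutative (A' i') := ⟨⟨IsPGroup.commutative_of_card_eq_prime_sq (hA'card i')⟩⟩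
    have hle : A' i' ≤ A' i := by
      intro q hq
      rw [hcen i]
      exact mem_centralizer_singleton_iff.2 (congrArg Subtype.val
        ((IsMulCommutative.is_comm.comm) (⟨q, hq⟩ : A' i') ⟨a i, hsup i' hmem⟩))
    have h2 := eq_of_le_of_card_ge hle (by rw [hA'card, hA'card])
    refine hne (hA ?_).symm
    rw [← inf_of_le_left (hAP i'), ← inf_of_le_left (hAP i)]
    exact subgroupOf_inj.1 h2
  have ht₀ : ∀ i, ∃ t₀ : G, t₀ * (a i : G) * t₀⁻¹ = a i ∧ t₀ * (z : G) * t₀⁻¹ = a i * z := by
    intro i
    refine exists_transvection (hAcard i) (congrArg Subtype.val (Lib.Extraspecial.commute_z hd (a i))).symm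
      (congrArg Subtype.val hd.z_pow) (congrArg Subtype.val (hexp' (a i)))
      (fun h => hd.z_ne (Subtype.ext h)) (hzA i) (haA i) ?_ (hSL i)
    rintro ⟨k, hk⟩
    exact hac i ((hd.mem_center _).2 ⟨k, Subtype.ext hk⟩)
  by_contra hlt
  obtain ⟨u, hu⟩ := IsCyclic.exists_generator (α := (ZMod p)ˣ)
  have hu' : orderOf u = p - 1 := by
    rw [orderOf_eq_card_of_forall_mem_zpowers hu, Nat.card_eq_fintype_card, ZMod.card_units]
  have h17 : 17 ≤ p := by
    by_contra h
    interval_cases p <;> norm_num at hpp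
  have := (count_lines hd hcard hexp' a hac hind ht₀ (t := (u : ZMod p)) u.ne_zero (k := 6) (by norm_num)
    (fun j hj hjk h1 => by
      have h2 : u ^ (3 * j) = 1 := Units.ext (by simpa using h1)
      have := Nat.le_of_dvd (by omega) (orderOf_dvd_of_pow_eq_one h2)
      omega)).2 le_rfl
  simp at this

end Cfsg.Agent.S3054
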