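import Cfsg.Statements.S3055
import Cfsg.Agent.Lib.LA5.Torus.Extraspecial
import Cfsg.Agent.S3053
import Mathlib.RingTheory.IntegralDomain

set_option autoImplicit false
open Cfsg

namespace Cfsg.Agent.S3055

open Subgroup Cfsg.Agent.Lib.LA5.Basic Cfsg.Agent.Lib.LA5.Torus.Extraspecial
open scoped commutatorElement

/-- Let p be an odd prime and G a finite group with a Sylow p-subgroup P that is extraspecial of order p³ and exponent p. If all nonidentity elements of P are conjugate in G, then p ≤ 7. -/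
theorem result {G : Type*} [Group G] [Finite G]
    {p : ℕ} [Fact p.Prime] (hp : p ≠ 2) (P : Sylow p G) (hE : Cfsg.IsExtraspecial p ↥P)
    (hcard : Nat.card P = p ^ 3) (hexp : Monoid.exponent ↥P = p)
    (hconj : ∀ x y : ↥P, x ≠ 1 → y ≠ 1 → ∃ g : G, g * (x : G) * g⁻¹ = (y : G)) :
    p ≤ 7 := by
  classical
  have hpp : p.Prime := Fact.out
  obtain ⟨z, hd⟩ := Lib.Extraspecial.exists_esData hE
  replace hexp : Monoid.exponent (P : Subgroup G) = p := hexp
  have hexp' : ∀ q : (P : Subgroup G), q ^ p = 1 := fun q => by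
    have h1 := Monoid.pow_exponent_eq_one q
    rwa [hexp] at h1
  have hcen' : Nat.card (center (P : Subgroup G)) = p := hE.2
  replace hcard : Nat.card (P : Subgroup G) = p ^ 3 := hcard
  have ht₀ : ∀ a : (P : Subgroup G), a ∉ center (P : Subgroup G) →
      ∃ t₀ : G, t₀ * (a : G) * t₀⁻¹ = a ∧ t₀ * (z : G) * t₀⁻¹ = a * z := by
    intro a ha
    obtain ⟨g, hg⟩ := hconj z a hd.z_ne (fun h1 => ha (h1 ▸ one_mem _))
    set C := centralizer ({(a : G)} : Set G) with hC
    have hgC : ((g • P : Sylow p G) : Subgroup G) ≤ C := by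
      rintro _ ⟨q, hq, rfl⟩
      rw [hC, mem_centralizer_singleton_iff, ← hg]
      show g * q * g⁻¹ * (g * z * g⁻¹) = g * z * g⁻¹ * (g * q * g⁻¹)
      have h1 : q * (z : G) = z * q := congrArg Subtype.val (Lib.Extraspecial.commute_z hd ⟨q, hq⟩)
      calc g * q * g⁻¹ * (g * z * g⁻¹) = g * (q * z) * g⁻¹ := by group
        _ = g * (z * q) * g⁻¹ := by rw [h1]
        _ = _ := by group
    have hzC : (z : G) ∈ C := mem_centralizer_singleton_iff.2
      (congrArg Subtype.val (Lib.Extraspecial.commute_z hd a)).symm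
    have hzpg : IsPGroup p ((zpowers (z : G)).subgroupOf C) :=
      (P.isPGroup'.to_le (zpowers_le.2 z.2)).comap_subtype
    obtain ⟨T, hT⟩ := hzpg.exists_le_sylow
    obtain ⟨c, hc⟩ := MulAction.exists_smul_eq C ((g • P : Sylow p G).subtype hgC) T
    set h₀ := (c : G) * g with hh₀
    have hfix : h₀ * z * h₀⁻¹ = a := by
      calc h₀ * (z : G) * h₀⁻¹ = (c : G) * (g * z * g⁻¹) * (c : G)⁻¹ := by rw [hh₀]; group
        _ = a := by rw [hg, mem_centralizer_singleton_iff.1 c.2]; group
    have hzmem : (⟨(z : G), hzC⟩ : C) ∈ (T : Subgroup C) := hT (by simp [mem_subgroupOf])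
    rw [← hc] at hzmem
    obtain ⟨d, hd₁, hd₂⟩ := hzmem
    obtain ⟨q, hq, hdq⟩ := (show (d : G) ∈ ((g • P : Sylow p G) : Subgroup G) from hd₁)
    set q' : (P : Subgroup G) := ⟨q, hq⟩
    have hzq : h₀ * q * h₀⁻¹ = z := by
      have h2 : (c : G) * d * (c : G)⁻¹ = z := congrArg Subtype.val hd₂
      have h3 : g * q * g⁻¹ = d := hdq
      calc h₀ * q * h₀⁻¹ = (c : G) * (g * q * g⁻¹) * (c : G)⁻¹ := by rw [hh₀]; group
        _ = z := by rw [h3, h2]
    have hqc : q' ∉ center (P : Subgroup G) := by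
      intro hc'
      have hsub : zpowers q' = zpowers z := by
        refine eq_of_le_of_card_ge (zpowers_le.2 ((hd.mem_center _).1 hc')) ?_
        rw [Nat.card_zpowers, Nat.card_zpowers, orderOf_eq_prime hd.z_pow hd.z_ne,
          orderOf_eq_prime (hexp' q') ?_]
        intro h1
        apply hd.z_ne
        refine Subtype.ext ?_
        show (z : G) = 1
        rw [← hzq, show q = (q' : G) from rfl, h1]
        simp
      obtain ⟨m, hm⟩ := (hsub ▸ mem_zpowers z : z ∈ zpowers q')
      refine ha ((hd.mem_center a).2 ⟨m, Subtype.ext ?_⟩)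
      show ((z ^ m : (P : Subgroup G)) : G) = a
      calc ((z ^ m : (P : Subgroup G)) : G) = (h₀ * q * h₀⁻¹) ^ m := by rw [hzq, Subgroup.coe_zpow]
        _ = h₀ * q ^ m * h₀⁻¹ := conj_zpow
        _ = h₀ * z * h₀⁻¹ := by rw [show q ^ m = (z : G) from congrArg Subtype.val hm]
        _ = a := hfix
    obtain ⟨w, hw⟩ := S3053.exists_translate hd hqc ((hd.mem_center z).2 (mem_zpowers z))
    refine ⟨h₀ * w * h₀⁻¹, ?_, ?_⟩
    · calc h₀ * w * h₀⁻¹ * a * (h₀ * w * h₀⁻¹)⁻¹ = h₀ * ((w : G) * (h₀⁻¹ * a * h₀) * (w : G)⁻¹) * h₀⁻¹ := by group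
        _ = h₀ * ((w : G) * z * (w : G)⁻¹) * h₀⁻¹ := by
          rw [show h₀⁻¹ * (a : G) * h₀ = z by rw [← hfix]; group]
        _ = a := by
          rw [show (w : G) * z = z * w from congrArg Subtype.val (Lib.Extraspecial.commute_z hd w),
            mul_inv_cancel_right, hfix]
    · calc h₀ * w * h₀⁻¹ * z * (h₀ * w * h₀⁻¹)⁻¹ = h₀ * ((w : G) * (h₀⁻¹ * z * h₀) * (w : G)⁻¹) * h₀⁻¹ := by group
        _ = h₀ * ((w : G) * q * (w : G)⁻¹) * h₀⁻¹ := by
          rw [show h₀⁻¹ * (z : G) * h₀ = q by rw [← hzq]; group]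
        _ = (h₀ * z * h₀⁻¹) * (h₀ * q * h₀⁻¹) := by
          rw [show (w : G) * q * (w : G)⁻¹ = z * q from congrArg Subtype.val hw]; group
        _ = a * z := by rw [hfix, hzq]
  obtain ⟨x, hxc⟩ : ∃ x : (P : Subgroup G), x ∉ center (P : Subgroup G) := by
    by_contra hall
    push Not at hall
    have h1 := card_le_of_le (H := (⊤ : Subgroup (P : Subgroup G))) (fun q _ => hall q)
    rw [card_top, hcard, hcen'] at h1
    nlinarith [hpp.two_le, Nat.mul_le_mul hpp.two_le hpp.two_le]
  obtain ⟨y, hxy⟩ := Lib.Extraspecial.exists_pair hd (a := x) (fun h0 => hxc ((hd.mem_center _).2 h0))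
  have hne : ⁅x, y⁆ ≠ 1 := hxy ▸ hd.z_ne
  let a : Option (ZMod p) → (P : Subgroup G) := fun o => o.elim y (fun i => x * y ^ i.val)
  have hcomm : ∀ o o', o ≠ o' → a o * a o' ≠ a o' * a o := by
    have h1 : ∀ i : ZMod p, a (some i) * y ≠ y * a (some i) := by
      intro i h
      change Commute (x * y ^ i.val) y at h
      have h2 : Commute (x * y ^ i.val * (y ^ i.val)⁻¹) y :=
        h.mul_left ((Commute.refl y).pow_left _).inv_left
      rw [mul_inv_cancel_right] at h2
      exact hne (commutatorElement_eq_one_iff_mul_comm.2 h2.eq)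
    rintro (_ | i) (_ | i') hoo
    · exact absurd rfl hoo
    · exact fun h => h1 i' h.symm
    · exact h1 i
    · intro h
      change Commute (a (some i)) (a (some i')) at h
      have hd0 : i' - i ≠ 0 := sub_ne_zero.2 fun h0 => hoo (by rw [h0])
      have h2 : Commute (a (some i)) (y ^ (i' - i).val) := by
        have h3 := ((Commute.refl (a (some i))).inv_right.mul_right h)
        have h4 : (a (some i))⁻¹ * a (some i') = y ^ (i' - i).val := by
          show (x * y ^ i.val)⁻¹ * (x * y ^ i'.val) = _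
          rw [mul_inv_rev, mul_assoc, inv_mul_cancel_left, inv_mul_eq_iff_eq_mul,
            ← pow_val_add (hexp' y), add_sub_cancel]
        rwa [h4] at h3
      have h5 := h2.pow_right ((i' - i)⁻¹).val
      haveI : Fact (1 < p) := ⟨hpp.one_lt⟩
      rw [← pow_val_mul (hexp' y), mul_inv_cancel₀ hd0, ZMod.val_one, pow_one] at h5
      exact h1 i h5
  have hac : ∀ o, a o ∉ center (P : Subgroup G) := by
    intro o ho
    rcases o with _ | i
    · exact hcomm none (some 0) (by simp) (mem_center_iff.1 ho _).symm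
    · exact hcomm (some i) none (by simp) (mem_center_iff.1 ho _).symm
  have hind : ∀ o o', o ≠ o' → a o ∉ zpowers z ⊔ zpowers (a o') := by
    intro o o' hoo hmem
    have hle : zpowers z ⊔ zpowers (a o') ≤ centralizer ({a o'} : Set (P : Subgroup G)) :=
      sup_le (zpowers_le.2 (mem_centralizer_singleton_iff.2 (Lib.Extraspecial.commute_z hd (a o')).symm))
        (zpowers_le.2 (mem_centralizer_singleton_iff.2 rfl))
    exact hcomm o o' hoo (mem_centralizer_singleton_iff.1 (hle hmem))
  by_contra hlt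
  obtain ⟨u, hu⟩ := IsCyclic.exists_generator (α := (ZMod p)ˣ)
  have hu' : orderOf u = p - 1 := by
    rw [orderOf_eq_card_of_forall_mem_zpowers hu, Nat.card_eq_fintype_card, ZMod.card_units]
  have h11 : 11 ≤ p := by
    by_contra h
    interval_cases p <;> norm_num at hpp
  have hcount : Nat.card (Option (ZMod p)) = p + 1 := by
    rw [Finite.card_option, Nat.card_zmod]
  have hpw : ∀ m : ℕ, (u : ZMod p) ^ m = 1 → p - 1 ∣ m := fun m h1 =>
    hu' ▸ orderOf_dvd_of_pow_eq_one (Units.ext (by simpa using h1))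
  have hp11 : p = 11 := by
    have h := (count_lines hd hcard hexp' a hac hind (fun o => ht₀ _ (hac o)) (t := (u : ZMod p)) u.ne_zero
      (k := 4) le_rfl (fun j hj hjk h1 => by
        have := Nat.le_of_dvd (by omega) (hpw _ h1)
        omega)).1
    omega
  have h := (count_lines hd hcard hexp' a hac hind (fun o => ht₀ _ (hac o)) (t := (u : ZMod p)) u.ne_zero
      (k := 6) (by norm_num) (fun j hj hjk h1 => by
        have h2 := hpw _ h1
        subst hp11
        interval_cases j <;> norm_num at h2)).2 le_rfl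
  omega

end Cfsg.Agent.S3055
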