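import Cfsg.Statements.S3057
import Cfsg.Agent.S3056
import Cfsg.Agent.Lib.Coprime.Generation
import Cfsg.Agent.Lib.PGroups.UniqueInvolution
import Cfsg.Agent.Lib.PSolvable.Basic
-- import your own Cfsg.Agent.* helpers here

set_option autoImplicit false
open Cfsg

namespace Cfsg.Agent.S3057

open Subgroup Cfsg.Agent.Lib Cfsg.Agent.Lib.LA5.Basic Cfsg.Agent.Lib.LA5.StronglyEmbedded

/-- A cyclic `p`-group or a generalized quaternion group has only one subgroup of order `p`. -/
theorem unique_of_cyclic_or_quaternion {P : Type*} [Group P] [Finite P] {p : ℕ} [Fact p.Prime]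
    (h : IsCyclic P ∨ (p = 2 ∧ ∃ n : ℕ, Nonempty (P ≃* QuaternionGroup (2 ^ n)))) :
    ∀ x y : P, orderOf x = p → orderOf y = p → y ∈ zpowers x := by
  intro x y hx hy
  rcases h with hc | ⟨rfl, n, ⟨e⟩⟩
  · letI : Fintype P := Fintype.ofFinite P
    classical
    by_contra hn
    have h1 := IsCyclic.card_pow_eq_one_le (α := P) (n := p) (Nat.Prime.pos Fact.out)
    have h2 : insert y ((zpowers x : Set P).toFinset) ⊆ Finset.univ.filter (fun a : P => a ^ p = 1) := by
      intro w hw
      simp only [Finset.mem_insert, Set.mem_toFinset, SetLike.mem_coe] at hw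
      rcases hw with rfl | ⟨k, rfl⟩
      · simp [← hy, pow_orderOf_eq_one]
      · simp only [Finset.mem_filter, Finset.mem_univ, true_and]
        rw [← zpow_natCast, ← zpow_mul, mul_comm, zpow_mul, zpow_natCast, ← hx, pow_orderOf_eq_one, one_zpow]
    have h3 := (Finset.card_le_card h2).trans h1
    rw [Finset.card_insert_of_notMem (by simpa using hn), Set.toFinset_card] at h3
    rw [show Fintype.card ((zpowers x : Set P)) = p by
      rw [← Nat.card_eq_fintype_card]; exact (Nat.card_zpowers x).trans hx] at h3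
    omega
  · haveI : NeZero (2 ^ n) := ⟨pow_ne_zero _ two_ne_zero⟩
    have key : ∀ u : QuaternionGroup (2 ^ n), orderOf u = 2 →
        u = QuaternionGroup.a ((2 ^ n : ℕ) : ZMod (2 * 2 ^ n)) := by
      intro u hu
      cases u with
      | xa i =>
        rw [QuaternionGroup.orderOf_xa] at hu
        omega
      | a i =>
        congr 1
        have h1 : QuaternionGroup.a i * QuaternionGroup.a i = (1 : QuaternionGroup (2 ^ n)) := by
          have := pow_orderOf_eq_one (QuaternionGroup.a i)
          rwa [hu, pow_two] at this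
        rw [QuaternionGroup.a_mul_a, QuaternionGroup.one_def] at h1
        simp only [QuaternionGroup.a.injEq] at h1
        have h2 : i ≠ 0 := fun h0 => by
          rw [h0, show QuaternionGroup.a (0 : ZMod (2 * 2 ^ n)) = 1 from rfl, orderOf_one] at hu
          omega
        have h4 : ((2 * i.val : ℕ) : ZMod (2 * 2 ^ n)) = 0 := by
          rw [Nat.cast_mul, ZMod.natCast_zmod_val]
          push_cast
          rw [two_mul i, h1]
        obtain ⟨k, hk⟩ := (ZMod.natCast_eq_zero_iff _ _).1 h4
        have hk' : i.val = 2 ^ n * k := by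
          have : 2 * i.val = 2 * (2 ^ n * k) := by rw [hk]; ring
          omega
        have hk1 : k = 1 := by
          have := i.val_lt
          have hpos : i.val ≠ 0 := fun h0 => h2 (by rw [← ZMod.natCast_zmod_val i, h0, Nat.cast_zero])
          rcases Nat.lt_trichotomy k 1 with hlt | heq | hgt
          · exact absurd (by rw [hk', show k = 0 by omega, mul_zero]) hpos
          · exact heq
          · have := Nat.mul_le_mul_left (2 ^ n) (show 2 ≤ k by omega)
            omega
        rw [← ZMod.natCast_zmod_val i, hk', hk1, mul_one]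
    have : e y = e x := by rw [key (e y) (by rw [MulEquiv.orderOf_eq, hy]), key (e x) (by rw [MulEquiv.orderOf_eq, hx])]
    rw [e.injective this]
    exact mem_zpowers x

variable {G : Type*} [Group G] [Finite G] {p : ℕ} [Fact p.Prime]

theorem backward (hdiv : p ∣ Nat.card G) (P : Sylow p G) (hO : Cfsg.pCore p G = ⊥)
    (hu : ∀ x y : (P : Subgroup G), orderOf x = p → orderOf y = p → y ∈ zpowers x) :
    ∃ H : Subgroup G, H ≠ ⊤ ∧ p ∣ Nat.card H ∧
      ∀ g : G, g ∉ H → ¬ p ∣ Nat.card ↥(H ⊓ H.map (MulAut.conj g).toMonoidHom) := by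
  have hp : p.Prime := Fact.out
  have hPd : p ∣ Nat.card (P : Subgroup G) := P.dvd_card_of_dvd_card hdiv
  obtain ⟨z, hz⟩ := exists_prime_orderOf_dvd_card' p hPd
  set Z := zpowers (z : G) with hZ
  have hZc : Nat.card Z = p := by rw [hZ, Nat.card_zpowers, Subgroup.orderOf_coe, hz]
  have hZP : Z ≤ (P : Subgroup G) := zpowers_le.2 z.2
  set H := normalizer (Z : Set G) with hH
  have hPH : (P : Subgroup G) ≤ H := by
    intro q hq
    apply mem_normalizer_iff_conj_eq.2
    refine conj_eq_self_of_le ?_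
    rintro _ ⟨_, ⟨k, rfl⟩, rfl⟩
    have hord : orderOf (MulAut.conj (⟨q, hq⟩ : (P : Subgroup G)) z) = p := by rw [MulEquiv.orderOf_eq, hz]
    obtain ⟨i, hi⟩ := zpow_mem (hu z _ hz hord) k
    refine ⟨i, ?_⟩
    have := congrArg Subtype.val hi
    simpa [map_zpow, conj_zpow] using this
  refine ⟨H, fun h => ?_, hPd.trans (card_dvd_of_le hPH), fun g hg hdvd => hg ?_⟩
  · haveI : Z.Normal := normalizer_eq_top_iff.1 h
    have h1 := PSolvable.le_pCore (inferInstance : Z.Normal) (IsPGroup.of_card (n := 1) (by rw [hZc, pow_one]) : IsPGroup p Z)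
    rw [hO, le_bot_iff] at h1
    rw [h1, card_bot] at hZc
    exact hp.one_lt.ne hZc
  -- every element of order `p` of `H` generates `Z`
  have key : ∀ y ∈ H, orderOf y = p → zpowers y = Z := by
    intro y hy hyo
    obtain ⟨R, hR⟩ := (IsPGroup.of_card (n := 1) (by
      rw [Nat.card_zpowers, ← Subgroup.orderOf_coe, hyo, pow_one]) : IsPGroup p (zpowers (⟨y, hy⟩ : H))).exists_le_sylow
    obtain ⟨c, hc⟩ := MulAction.exists_smul_eq H (P.subtype hPH) R
    have hyR := hR (mem_zpowers (⟨y, hy⟩ : H))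
    rw [← hc] at hyR
    obtain ⟨w, hw, hwy⟩ := hyR
    have hwP : (w : G) ∈ (P : Subgroup G) := hw
    have hwy' : (c : G) * w * (c : G)⁻¹ = y := congrArg Subtype.val hwy
    have hwo : orderOf (⟨(w : G), hwP⟩ : (P : Subgroup G)) = p := by
      rw [← Subgroup.orderOf_coe]
      show orderOf (w : G) = p
      rw [← hyo, ← hwy', show (c : G) * w * (c : G)⁻¹ = MulAut.conj (c : G) w from rfl, MulEquiv.orderOf_eq]
    obtain ⟨k, hk⟩ := hu z _ hz hwo
    have hwZ : (w : G) ∈ Z := ⟨k, by simpa using congrArg Subtype.val hk⟩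
    refine eq_of_le_of_card_ge (zpowers_le.2 ?_) (by rw [hZc, Nat.card_zpowers, hyo])
    rw [← hwy']
    exact (mem_normalizer_iff.1 c.2 _).1 hwZ
  obtain ⟨y, hy⟩ := exists_prime_orderOf_dvd_card' p hdvd
  rw [← Subgroup.orderOf_coe] at hy
  have h1 := key y (mem_inf.1 y.2).1 hy
  have h2 := mem_conj_iff.1 (mem_inf.1 y.2).2
  have h3 : orderOf (g⁻¹ * (y : G) * g) = p := by
    rw [show g⁻¹ * (y : G) * g = MulAut.conj g⁻¹ (y : G) by simp, MulEquiv.orderOf_eq, hy]
  have h4 := key _ h2 h3
  apply mem_normalizer_iff_conj_eq.2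
  conv_lhs => rw [← h4, MonoidHom.map_zpowers]
  rw [show (MulAut.conj g).toMonoidHom (g⁻¹ * (y : G) * g) = (y : G) by simp [mul_assoc], h1]

theorem forward (hsol : Cfsg.IsPSolvable p G) (H : Subgroup G) (hH : H ≠ ⊤) (hpH : p ∣ Nat.card H)
    (hTI : TI p H) :
    Cfsg.pCore p G = ⊥ ∧ ∃ S : Sylow p G,
      ∀ x y : (S : Subgroup G), orderOf x = p → orderOf y = p → y ∈ zpowers x := by
  have hp : p.Prime := Fact.out
  obtain ⟨S, hSH, -⟩ := exists_sylow_le hTI hpH
  have hO : Cfsg.pCore p G = ⊥ := by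
    by_contra hne
    haveI : (Cfsg.pCore p G).Normal := inferInstance
    have h1 : Cfsg.pCore p G ≤ (S : Subgroup G) := by
      obtain ⟨T, hT⟩ := (PSolvable.isPGroup_pCore (p := p) (G := G)).exists_le_sylow
      obtain ⟨g, hg⟩ := MulAction.exists_smul_eq G T S
      rw [← hg, ← Subgroup.Normal.map_conj_eq (Cfsg.pCore p G) g]
      exact map_mono hT
    refine hH (top_unique ?_)
    rw [← normalizer_eq_top (H := Cfsg.pCore p G)]
    exact normalizer_le hTI PSolvable.isPGroup_pCore hne (h1.trans hSH)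
  refine ⟨hO, S, ?_⟩
  by_contra hu
  push Not at hu
  obtain ⟨x, y, hx, hy, hxy⟩ := hu
  obtain ⟨a, b, ha, hb, hab, hnab⟩ : ∃ a b : (S : Subgroup G), orderOf a = p ∧ orderOf b = p ∧
      a * b = b * a ∧ a ∉ zpowers b := by
    haveI : Nontrivial (S : Subgroup G) := ⟨⟨x, 1, fun h => hp.one_lt.ne (by rw [← hx, h, orderOf_one])⟩⟩
    haveI := S.isPGroup'.center_nontrivial
    obtain ⟨n, hn⟩ := (S.isPGroup'.to_subgroup (center (S : Subgroup G))).exists_card_eq
    have hn0 : n ≠ 0 := fun h => (Finite.one_lt_card (α := center (S : Subgroup G))).ne' (by rw [hn, h, pow_zero])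
    obtain ⟨z, hz⟩ := exists_prime_orderOf_dvd_card' p (hn ▸ dvd_pow_self p hn0)
    rw [← Subgroup.orderOf_coe] at hz
    by_cases hzx : (z : (S : Subgroup G)) ∈ zpowers x
    · refine ⟨y, z, hy, hz, mem_center_iff.1 z.2 y, fun h => hxy ?_⟩
      exact zpowers_le.2 hzx h
    · exact ⟨z, x, hz, hx, (mem_center_iff.1 z.2 x).symm, hzx⟩
  set K := Cfsg.pPrimeCore p G with hK
  haveI : K.Normal := by rw [hK]; infer_instance
  have hKc : (Nat.card K).Coprime p := PSolvable.card_pPrimeCore_coprime
  have hcent : ∀ c : (S : Subgroup G), c ≠ 1 → K ⊓ centralizer ({(c : G)} : Set G) ≤ H := by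
    intro c hc
    refine inf_le_right.trans (le_trans ?_ (normalizer_le hTI (S.isPGroup'.to_le (zpowers_le.2 c.2))
      (fun h => hc (Subtype.ext (zpowers_eq_bot.1 h))) (zpowers_le.2 (hSH c.2))))
    refine le_trans (le_of_eq ?_) (centralizer_le_normalizer _)
    rw [zpowers_eq_closure, centralizer_closure]
  have hKH : K ≤ H := by
    have hcl : closure ({(a : G), (b : G)} : Set G) ≤ (S : Subgroup G) :=
      (closure_le _).2 (by rintro _ (rfl | rfl) <;> exact SetLike.coe_mem _)
    obtain ⟨n, hn⟩ := (S.isPGroup'.to_le hcl).exists_card_eq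
    refine (Coprime.le_lineCentralizers (q := p) (congrArg Subtype.val hab)
      (by rw [normalizer_eq_top]; trivial) (by rw [normalizer_eq_top]; trivial) ?_ ?_
      (by rw [hn]; exact hKc.symm.pow_left n) hKc.symm).trans ?_
    · have h1 := pow_orderOf_eq_one (a : G); rw [Subgroup.orderOf_coe, ha] at h1; rw [h1]; exact one_mem _
    · have h1 := pow_orderOf_eq_one (b : G); rw [Subgroup.orderOf_coe, hb] at h1; rw [h1]; exact one_mem _
    refine sup_le (hcent b fun h => hp.one_lt.ne (by rw [← hb, h, orderOf_one])) (iSup_le fun t => ?_)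
    exact hcent (a * b ^ t.val) fun h => hnab (by
      rw [eq_inv_of_mul_eq_one_left h]; exact inv_mem (pow_mem (mem_zpowers b) _))
  have hKtop : K ≠ ⊤ := fun h => hH (top_unique (h ▸ hKH))
  obtain ⟨M, hMn, hlt, hM⟩ := PSolvable.exists_step hsol K hKtop
  have hcard : Nat.card M = Nat.card K * K.relIndex M := by
    rw [← relIndex_bot_left K, ← relIndex_bot_left M]
    exact (relIndex_mul_relIndex ⊥ K M bot_le hlt.le).symm
  rcases hM with ⟨m, hm⟩ | hc
  · haveI := hMn
    have hm0 : m ≠ 0 := fun h => hlt.ne (eq_of_le_of_card_ge hlt.le (by rw [hcard, hm, h, pow_zero, mul_one]))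
    have hpM : p ∣ Nat.card M := by rw [hcard, hm]; exact dvd_mul_of_dvd_right (dvd_pow_self p hm0) _
    obtain ⟨R, hRH, -⟩ := exists_sylow_normal_le hTI hpH M hpM
    set R' := (R : Subgroup M).map M.subtype with hR'
    have hRc : Nat.card R' = p ^ m := by
      rw [hR', card_map_of_injective M.subtype_injective, R.card_eq_multiplicity, hcard, hm,
        Nat.factorization_mul Nat.card_pos.ne' (pow_ne_zero _ hp.ne_zero), Finsupp.add_apply,
        Nat.Prime.factorization_pow hp, Finsupp.single_eq_same,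
        Nat.factorization_eq_zero_of_not_dvd ((Nat.Prime.coprime_iff_not_dvd hp).1 hKc.symm), zero_add]
    have hMle : M ≤ H := by
      have h1 : M = K ⊔ R' := by
        refine (eq_of_le_of_card_ge (sup_le hlt.le (map_subtype_le _)) ?_).symm
        refine Nat.le_of_dvd Nat.card_pos ?_
        rw [hcard, hm]
        exact Nat.Coprime.mul_dvd_of_dvd_of_dvd (hKc.pow_right m) (card_dvd_of_le le_sup_left)
          (hRc ▸ card_dvd_of_le le_sup_right)
      rw [h1]
      exact sup_le hKH hRH
    exact hH ((sup_eq_left.2 hMle).symm.trans (sup_normal_eq_top hTI hpH M hpM))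
  · exact hlt.not_ge (PSolvable.le_pPrimeCore hMn (by rw [hcard]; exact Nat.Coprime.mul_left hKc hc))

/-- Let p be a prime and G a finite p-solvable group of order divisible by p, with Sylow p-subgroup P. Then the Sylow p-subgroups of G fail to be chain-connected through nontrivial intersections (equivalently, G has a strongly p-embedded subgroup) if and only if O_p(G) = 1 and P is cyclic or, for p = 2, generalized quaternion. -/
theorem result {G : Type*} [Group G] [Finite G]
    (p : ℕ) [Fact p.Prime] (hdiv : p ∣ Nat.card G) (hsol : Cfsg.IsPSolvable p G) (P : Sylow p G) :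
    ¬ Cfsg.IsSylowChainConnected p G ↔
      Cfsg.pCore p G = ⊥ ∧ (IsCyclic ↥P ∨ (p = 2 ∧ ∃ n : ℕ, Nonempty (↥P ≃* QuaternionGroup (2 ^ n)))) := by
  rw [Cfsg.Agent.S3056.result p]
  constructor
  · rintro ⟨H, hH, hpH, hTI⟩
    obtain ⟨hO, S, hS⟩ := forward hsol H hH hpH hTI
    refine ⟨hO, ?_⟩
    let e : ↥P ≃* ↥S := Sylow.equiv P S
    rcases PGroups.isCyclic_or_quaternion S.isPGroup' hS with hc | ⟨hp2, n, -, ⟨f⟩⟩
    · haveI : IsCyclic ↥S := hc
      exact Or.inl (isCyclic_of_surjective e.symm e.symm.surjective)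
    · exact Or.inr ⟨hp2, n, ⟨e.trans f⟩⟩
  · rintro ⟨hO, hP⟩
    exact backward hdiv P hO (unique_of_cyclic_or_quaternion (P := (P : Subgroup G)) hP)

end Cfsg.Agent.S3057
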