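import Cfsg.Statements.S3058
import Cfsg.Agent.S3056
import Cfsg.Agent.Lib.Coprime.Generation
-- import your own Cfsg.Agent.* helpers here

set_option autoImplicit false
open Cfsg

namespace Cfsg.Agent.S3058

open Subgroup Cfsg.Agent.Lib.LA5.Basic Cfsg.Agent.Lib.LA5.StronglyEmbedded

/-- Let p be a prime and G a finite group whose Sylow p-subgroups are not chain-connected through nontrivial intersections (so G has a strongly p-embedded subgroup). If N and M are normal subgroups of G whose orders are both divisible by p, then the order of N ∩ M is divisible by p. Consequently, among the normal subgroups of G whose order is divisible by p there is a smallest one (the intersection of all of them). -/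
theorem result {G : Type*} [Group G] [Finite G]
    (p : ℕ) [Fact p.Prime] (hG : ¬ Cfsg.IsSylowChainConnected p G)
    (N M : Subgroup G) [N.Normal] [M.Normal] (hN : p ∣ Nat.card N) (hM : p ∣ Nat.card M) :
    p ∣ Nat.card ↥(N ⊓ M) := by
  obtain ⟨H, hH, hpH, hTI⟩ := (Cfsg.Agent.S3056.result p).1 hG
  have hTI' : TI p H := hTI
  by_contra hK
  set K := N ⊓ M with hKdef
  obtain ⟨S, hSH, -⟩ := exists_sylow_le hTI' hpH
  have hmeet : ∀ (L : Subgroup G) [L.Normal], p ∣ Nat.card L → ∃ a, a ∈ L ∧ a ∈ (S : Subgroup G) ∧ orderOf a = p := by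
    intro L _ hL
    obtain ⟨x, hx⟩ := exists_prime_orderOf_dvd_card' p hL
    rw [← Subgroup.orderOf_coe] at hx
    obtain ⟨T, hT⟩ := (IsPGroup.of_card (n := 1) (by rw [Nat.card_zpowers, hx, pow_one]) :
      IsPGroup p (zpowers (x : G))).exists_le_sylow
    obtain ⟨g, hg⟩ := MulAction.exists_smul_eq G T S
    refine ⟨MulAut.conj g x, (inferInstance : L.Normal).conj_mem _ x.2 g, ?_, ?_⟩
    · rw [← hg]; exact ⟨x, hT (mem_zpowers _), rfl⟩
    · rw [MulEquiv.orderOf_eq, hx]
  obtain ⟨a, haN, haS, ha⟩ := hmeet N hN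
  obtain ⟨b, hbM, hbS, hb⟩ := hmeet M hM
  have htriv : ∀ z ∈ K, z ∈ (S : Subgroup G) → z = 1 := by
    intro z hzK hzS
    obtain ⟨k, hk⟩ := S.isPGroup' ⟨z, hzS⟩
    have h1 : orderOf z ∣ p ^ k := orderOf_dvd_of_pow_eq_one (by simpa using congrArg Subtype.val hk)
    have h2 : orderOf z ∣ Nat.card K := by
      rw [← Subgroup.orderOf_mk z hzK]; exact orderOf_dvd_natCard _
    exact orderOf_eq_one_iff.1 (Nat.eq_one_of_dvd_coprimes
      (((Nat.Prime.coprime_iff_not_dvd Fact.out).2 hK).pow_left k) h1 h2)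
  have hab : a * b = b * a := by
    have h1 := htriv (a * b * a⁻¹ * b⁻¹) ⟨?_, ?_⟩
      (mul_mem (mul_mem (mul_mem haS hbS) (inv_mem haS)) (inv_mem hbS))
    · exact mul_inv_eq_iff_eq_mul.1 (mul_inv_eq_one.1 h1)
    · rw [show a * b * a⁻¹ * b⁻¹ = a * (b * a⁻¹ * b⁻¹) by group]
      exact mul_mem haN ((inferInstance : N.Normal).conj_mem _ (inv_mem haN) b)
    · exact Subgroup.mul_mem _ ((inferInstance : M.Normal).conj_mem _ hbM a) (Subgroup.inv_mem _ hbM)
  have hcent : ∀ z, z ∈ (S : Subgroup G) → z ≠ 1 → K ⊓ centralizer ({z} : Set G) ≤ H := by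
    intro z hzS hz1
    refine inf_le_right.trans (le_trans ?_ (normalizer_le hTI' (S.isPGroup'.to_le (zpowers_le.2 hzS))
      (fun h => hz1 (zpowers_eq_bot.1 h)) (zpowers_le.2 (hSH hzS))))
    refine le_trans (le_of_eq ?_) (centralizer_le_normalizer _)
    rw [zpowers_eq_closure, centralizer_closure]
  have hne : ∀ (c : G) (n : ℕ), orderOf c = p → n < p → n ≠ 0 → c ^ n ≠ 1 := fun c n hc hn h0 h =>
    absurd (Nat.le_of_dvd (Nat.pos_of_ne_zero h0) (hc ▸ orderOf_dvd_of_pow_eq_one h)) (Nat.not_le.2 hn)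
  have hp1 : 1 < p := (Fact.out : p.Prime).one_lt
  have hKH : K ≤ H := by
    have hcl : closure ({a, b} : Set G) ≤ (S : Subgroup G) :=
      (closure_le _).2 (by rintro _ (rfl | rfl) <;> assumption)
    have hpc : p.Coprime (Nat.card K) := (Nat.Prime.coprime_iff_not_dvd Fact.out).2 hK
    obtain ⟨n, hn⟩ := (S.isPGroup'.to_le hcl).exists_card_eq
    refine (Cfsg.Agent.Lib.Coprime.le_lineCentralizers (q := p) hab
      (by rw [normalizer_eq_top]; trivial) (by rw [normalizer_eq_top]; trivial) ?_ ?_ (by rw [hn]; exact hpc.pow_left n) hpc).trans ?_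
    · rw [← ha, pow_orderOf_eq_one]; exact one_mem _
    · rw [← hb, pow_orderOf_eq_one]; exact one_mem _
    refine sup_le (hcent b hbS fun h => ?_) (iSup_le fun t => hcent _ (mul_mem haS (pow_mem hbS _)) fun h => ?_)
    · rw [h, orderOf_one] at hb; omega
    · have haM : a ∈ M := by
        rw [eq_inv_of_mul_eq_one_left h]; exact inv_mem (pow_mem hbM _)
      have := htriv a ⟨haN, haM⟩ haS
      rw [this, orderOf_one] at ha; omega
  have hMH : M ≤ H := by
    intro m hm
    have h1 : m * a * m⁻¹ * a⁻¹ ∈ K := by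
      refine ⟨Subgroup.mul_mem _ ((inferInstance : N.Normal).conj_mem _ haN m) (Subgroup.inv_mem _ haN), ?_⟩
      rw [show m * a * m⁻¹ * a⁻¹ = m * (a * m⁻¹ * a⁻¹) by group]
      exact mul_mem hm ((inferInstance : M.Normal).conj_mem _ (inv_mem hm) a)
    have h2 : m * a * m⁻¹ ∈ H := by
      have := mul_mem (hKH h1) (hSH haS)
      simpa using this
    have hord : orderOf (m * a * m⁻¹) = p := by
      rw [show m * a * m⁻¹ = MulAut.conj m a from rfl, MulEquiv.orderOf_eq, ha]
    refine mem_of_meet hTI' (Q := zpowers (m * a * m⁻¹))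
      (IsPGroup.of_card (n := 1) (by rw [Nat.card_zpowers, hord, pow_one]))
      (fun h => by rw [zpowers_eq_bot.1 h, orderOf_one] at hord; omega) (zpowers_le.2 h2) ?_
    exact zpowers_le.2 ⟨a, hSH haS, rfl⟩
  exact hH ((sup_eq_left.2 hMH).symm.trans (sup_normal_eq_top hTI' hpH M hM))

end Cfsg.Agent.S3058
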