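import Cfsg.Statements.S3059
import Cfsg.Agent.Lib.LA5.StronglyEmbedded

set_option autoImplicit false
open Cfsg

namespace Cfsg.Agent.S3059

open Cfsg.Agent.Lib.LA5.Basic Cfsg.Agent.Lib.LA5.StronglyEmbedded

/-- Let p be a prime and H a strongly p-embedded subgroup of the finite group G in the classical sense: H is proper, p divides the order of H, and H ∩ gHg⁻¹ has order prime to p for every g outside H. Then for every normal subgroup N of G of order divisible by p, G = H · O^p(N), where O^p(N) is the subgroup generated by the elements of N of order prime to p. -/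
theorem result {G : Type*} [Group G] [Finite G]
    (p : ℕ) [Fact p.Prime] (H : Subgroup G) (hH : H ≠ ⊤) (hpH : p ∣ Nat.card H)
    (hse : ∀ g : G, g ∉ H → ¬ p ∣ Nat.card ↥(H ⊓ H.map (MulAut.conj g).toMonoidHom))
    (N : Subgroup G) [N.Normal] (hN : p ∣ Nat.card N) :
    H ⊔ Subgroup.closure {g : G | g ∈ N ∧ (orderOf g).Coprime p} = ⊤ := by
  have hse' : TI p H := hse
  set K := Subgroup.closure {g : G | g ∈ N ∧ (orderOf g).Coprime p} with hKdef
  obtain ⟨P, hPH, hne⟩ := exists_sylow_normal_le hse' hpH N hN
  rw [eq_top_iff, ← sup_normal_eq_top hse' hpH N hN]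
  refine sup_le le_sup_left ?_
  have hKN : K ≤ N := (Subgroup.closure_le _).mpr fun g hg => hg.1
  haveI : K.Normal := by
    rw [hKdef]
    refine ⟨fun x hx a => ?_⟩
    suffices h : Subgroup.closure {g : G | g ∈ N ∧ (orderOf g).Coprime p} ≤
        (Subgroup.closure {g : G | g ∈ N ∧ (orderOf g).Coprime p}).comap (MulAut.conj a).toMonoidHom from h hx
    refine (Subgroup.closure_le _).mpr fun g hg => Subgroup.subset_closure ?_
    refine ⟨Subgroup.Normal.conj_mem inferInstance g hg.1 a, ?_⟩
    show (orderOf (a * g * a⁻¹)).Coprime p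
    rw [show a * g * a⁻¹ = MulAut.conj a g from rfl, MulEquiv.orderOf_eq]
    exact hg.2
  set L := K ⊔ (P : Subgroup N).map N.subtype with hL
  have hLN : L ≤ N := sup_le hKN (Subgroup.map_subtype_le _)
  have hdvd : Nat.card N ∣ Nat.card L := by
    refine (Nat.dvd_iff_prime_pow_dvd_dvd _ _).mpr fun q k hq hqk => ?_
    haveI : Fact q.Prime := ⟨hq⟩
    rcases eq_or_ne q p with rfl | hqp
    · refine dvd_trans ?_ (Subgroup.card_dvd_of_le (le_sup_right : _ ≤ L))
      rw [Subgroup.card_map_of_injective N.subtype_injective]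
      exact P.pow_dvd_card_of_pow_dvd_card hqk
    · obtain ⟨Q, hQ⟩ := Sylow.exists_subgroup_card_pow_prime q (G := N) hqk
      have hQK : Q.map N.subtype ≤ K := by
        rintro _ ⟨y, hy, rfl⟩
        refine Subgroup.subset_closure ⟨y.2, ?_⟩
        have h1 : orderOf (y : G) ∣ q ^ k := by
          rw [Subgroup.orderOf_coe, ← hQ]
          exact Subgroup.orderOf_dvd_natCard Q hy
        exact Nat.Coprime.coprime_dvd_left h1
          (Nat.Coprime.pow_left _ ((Nat.coprime_primes hq Fact.out).mpr hqp))
      rw [← hQ, ← Subgroup.card_map_of_injective N.subtype_injective]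
      exact Subgroup.card_dvd_of_le (hQK.trans le_sup_left)
  have : L = N := Subgroup.eq_of_le_of_card_ge hLN (Nat.le_of_dvd Nat.card_pos hdvd)
  rw [← this]
  exact sup_le le_sup_right (hPH.trans le_sup_left)

end Cfsg.Agent.S3059
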