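import Cfsg.Statements.S3060
import Cfsg.Agent.Lib.LA5.DStar
import Cfsg.Agent.Lib.PSolvable.Basic
-- import your own Cfsg.Agent.* helpers here

set_option autoImplicit false
open Cfsg

namespace Cfsg.Agent.S3060

open Subgroup Cfsg.Agent.Lib Cfsg.Agent.Lib.LA5.Basic

/-- The D*-Theorem. For a finite p-group S let D*(S) be the subgroup generated by the abelian subgroups A of S such that every x ∈ S with ⟨A, x⟩ of nilpotency class at most two centralizes A. Let p be an odd prime and H a finite p-stable group with Sylow p-subgroup S. Here H is p-stable in the following sense: the largest normal p-subgroup O_p(H) contains its centralizer in H, and for every normal p-subgroup P of H, every element acting quadratically on P has image in O_p(H/C_H(P)). Then D*(S) is a normal subgroup of H. -/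
theorem result {G : Type*} [Group G] [Finite G] {p : ℕ} [Fact p.Prime] (hp : p ≠ 2)
    (hc : Subgroup.centralizer (Cfsg.pCore p G : Set G) ≤ Cfsg.pCore p G)
    (hst : ∀ (P : Subgroup G) [P.Normal], IsPGroup p P → Cfsg.IsPStableOn p P) (S : Sylow p G) :
    (Cfsg.dStarOf (S : Subgroup G)).Normal := by
  classical
  set T : Subgroup G := (S : Subgroup G) with hT
  have hTp : IsPGroup p T := S.isPGroup'
  set D := Cfsg.dStarOf T with hD
  have hDT : D ≤ T := map_subtype_le _
  have hDsub : D.subgroupOf T = Cfsg.dStar T := comap_map_eq_self_of_injective T.subtype_injective _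
  have hDc : ∀ a ∈ D, ∀ b ∈ D, a * b = b * a := by
    rintro _ ⟨a, ha, rfl⟩ _ ⟨b, hb, rfl⟩
    exact congrArg Subtype.val (LA5.Replacement.comm_of (LA5.DStar.dStar_comm hTp) ha hb)
  have hDn : ∀ t ∈ T, ∀ d ∈ D, t * d * t⁻¹ ∈ D := by
    rintro t ht _ ⟨d, hd, rfl⟩
    exact ⟨_, (LA5.DStar.dStar_normal (S := T)).conj_mem d hd ⟨t, ht⟩, rfl⟩
  set P := Cfsg.pCore p G with hP
  have hPp : IsPGroup p P := PSolvable.isPGroup_pCore
  have hPT : P ≤ T := by
    obtain ⟨U, hU⟩ := hPp.exists_le_sylow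
    obtain ⟨g, hg⟩ := MulAction.exists_smul_eq G U S
    rw [hT, ← hg, ← Subgroup.Normal.map_conj_eq P g]
    exact map_mono hU
  -- `D ≤ O_p`
  have hDP : D ≤ P := by
    intro d hd
    have h1 := hst P hPp d (by
      rw [← le_bot_iff]
      refine (commutator_mono ?_ (zpowers_le.2 hd)).trans (commutator_le.2 fun a ha b hb => ?_) (b := ⁅D, D⁆)
      · refine (commutator_mono hPT (zpowers_le.2 hd)).trans (commutator_le.2 fun a ha b hb => ?_)
        exact mul_mem (hDn a ha b hb) (inv_mem hb)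
      · rw [mem_bot, commutatorElement_eq_one_iff_mul_comm]
        exact hDc a ha b hb)
    set R := (Cfsg.pCore p (G ⧸ centralizer (P : Set G))).comap (QuotientGroup.mk' (centralizer (P : Set G))) with hR
    haveI : R.Normal := (inferInstance : (Cfsg.pCore p (G ⧸ centralizer (P : Set G))).Normal).comap _
    have hRp : IsPGroup p R := by
      refine PSolvable.isPGroup_pCore.comap_of_ker_isPGroup _ ?_
      rw [QuotientGroup.ker_mk']
      exact hPp.to_le hc
    exact PSolvable.le_pCore inferInstance hRp h1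
  set W := normalClosure (D : Set G) with hW
  have hWP : W ≤ P := normalClosure_le_normal hDP
  have hWT : W ≤ T := hWP.trans hPT
  -- conjugates of `D` commute
  have hconj : ∀ c : G, ∀ d ∈ D, ∀ e ∈ D, d * (c * e * c⁻¹) = c * e * c⁻¹ * d := by
    intro c d hd e he
    set B := (D.map (MulAut.conj c).toMonoidHom) with hB
    have hBP : B ≤ P := (map_mono hDP).trans (le_of_eq (Subgroup.Normal.map_conj_eq P c))
    have hV : IsMulCommutative (B.subgroupOf T) := by
      refine ⟨⟨fun a b => Subtype.ext (Subtype.ext ?_)⟩⟩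
      obtain ⟨x, hx, hxa⟩ := (a.2 : ((a : T) : G) ∈ B)
      obtain ⟨y, hy, hyb⟩ := (b.2 : ((b : T) : G) ∈ B)
      show T.subtype (a : T) * T.subtype (b : T) = T.subtype (b : T) * T.subtype (a : T)
      rw [← hxa, ← hyb, ← map_mul, ← map_mul, hDc x hx y hy]
    have hnorm : Cfsg.dStar T ≤ normalizer ((B.subgroupOf T : Subgroup T) : Set T) := by
      intro a ha
      have haP : (a : G) ∈ P := hDP ⟨a, ha, rfl⟩
      have haB : (a : G) ∈ normalizer (B : Set G) := by
        apply mem_normalizer_iff_conj_eq.2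
        refine conj_eq_self_of_le ?_
        rintro _ ⟨_, ⟨x, hx, rfl⟩, rfl⟩
        refine ⟨c⁻¹ * (a : G) * c * x * (c⁻¹ * (a : G) * c)⁻¹, hDn _ (hPT ?_) x hx, ?_⟩
        · have := (inferInstance : P.Normal).conj_mem _ haP c⁻¹
          rwa [inv_inv] at this
        · simp [mul_assoc]
      rw [mem_normalizer_iff]
      intro y
      exact mem_normalizer_iff.1 haB y
    have h := LA5.DStar.member_centralizes hTp (LA5.DStar.dStar_mem hTp) hV hnorm
    have hd' : (⟨d, hDT hd⟩ : T) ∈ Cfsg.dStar T := by rw [← hDsub]; exact hd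
    have := mem_centralizer_iff.1 (h hd') ⟨c * e * c⁻¹, hPT (hBP ⟨e, he, rfl⟩)⟩ ⟨e, he, rfl⟩
    exact (congrArg Subtype.val this).symm
  have hWc : W ≤ centralizer (W : Set G) := by
    rw [hW, normalClosure, centralizer_closure, closure_le]
    intro x hx
    rw [SetLike.mem_coe, mem_centralizer_iff]
    intro y hy
    obtain ⟨d, hd, hdx⟩ := Group.mem_conjugatesOfSet_iff.1 hx
    obtain ⟨e, he, hey⟩ := Group.mem_conjugatesOfSet_iff.1 hy
    obtain ⟨a, rfl⟩ := isConj_iff.1 hdx
    obtain ⟨b, rfl⟩ := isConj_iff.1 hey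
    have h1 := congrArg (fun z => a * z * a⁻¹) (hconj (a⁻¹ * b) d hd e he)
    calc b * e * b⁻¹ * (a * d * a⁻¹) = a * (a⁻¹ * b * e * (a⁻¹ * b)⁻¹ * d) * a⁻¹ := by group
      _ = a * (d * (a⁻¹ * b * e * (a⁻¹ * b)⁻¹)) * a⁻¹ := h1.symm
      _ = a * d * a⁻¹ * (b * e * b⁻¹) := by group
  -- `W` is a member of the family of `T`
  have hWfam : W.subgroupOf T ∈ Cfsg.dStarFamily T := by
    refine ⟨⟨⟨fun a b => Subtype.ext (Subtype.ext (mem_centralizer_iff.1 (hWc b.2) _ a.2))⟩⟩, ?_⟩
    intro x hx a ha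
    suffices h : W ≤ centralizer ({(x : G)} : Set G) from
      Subtype.ext (mem_centralizer_singleton_iff.1 (h ha))
    have hx' : ⁅⁅W ⊔ zpowers (x : G), W ⊔ zpowers (x : G)⁆, W ⊔ zpowers (x : G)⁆ = ⊥ := by
      have := congrArg (Subgroup.map T.subtype) hx
      rw [map_commutator, map_commutator, Subgroup.map_bot, Subgroup.map_sup, MonoidHom.map_zpowers,
        subgroupOf_map_subtype, inf_eq_left.2 hWT] at this
      exact this
    have hW_p : IsPGroup p W := hPp.to_le hWP
    have h1 := hst W hW_p (x : G) (by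
      rw [← le_bot_iff, ← hx']
      exact commutator_mono (commutator_mono le_sup_left le_sup_right) le_sup_right)
    set CW := centralizer (W : Set G) with hCW
    set R := (Cfsg.pCore p (G ⧸ CW)).comap (QuotientGroup.mk' CW) with hR
    haveI : R.Normal := (inferInstance : (Cfsg.pCore p (G ⧸ CW)).Normal).comap _
    set Q := T ⊓ R with hQ
    have hxQ : (x : G) ∈ Q := ⟨x.2, h1⟩
    have hCR : CW ≤ R := fun y hy => by
      show QuotientGroup.mk' CW y ∈ Cfsg.pCore p (G ⧸ CW)
      rw [show QuotientGroup.mk' CW y = 1 from (QuotientGroup.eq_one_iff y).2 hy]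
      exact one_mem _
    have hRQ : R ≤ Q ⊔ CW := by
      intro r hr
      let S' : Sylow p (G ⧸ CW) := S.mapSurjective (QuotientGroup.mk'_surjective CW)
      have hle : Cfsg.pCore p (G ⧸ CW) ≤ (S' : Subgroup (G ⧸ CW)) := by
        obtain ⟨U, hU⟩ := (PSolvable.isPGroup_pCore (p := p) (G := G ⧸ CW)).exists_le_sylow
        obtain ⟨g, hg⟩ := MulAction.exists_smul_eq (G ⧸ CW) U S'
        rw [← hg, ← Subgroup.Normal.map_conj_eq (Cfsg.pCore p (G ⧸ CW)) g]
        exact map_mono hU
      obtain ⟨t, ht, htr⟩ := hle hr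
      have h2 : t⁻¹ * r ∈ CW := QuotientGroup.eq.1 htr
      have h3 : t ∈ R := by
        have := R.mul_mem hr (R.inv_mem (hCR h2))
        simpa using this
      have := mul_mem (mem_sup_left (⟨ht, h3⟩ : t ∈ Q) : t ∈ Q ⊔ CW) (mem_sup_right h2)
      simpa using this
    obtain ⟨R₀, hR₀⟩ := (hTp.to_le inf_le_left : IsPGroup p Q).comap_subtype (K := R) |>.exists_le_sylow
    have hR₀eq : (R₀ : Subgroup R).map R.subtype = Q := by
      symm
      refine eq_of_le_of_card_ge (fun q hq => ⟨⟨q, hq.2⟩, hR₀ hq, rfl⟩) ?_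
      obtain ⟨U, hU⟩ := (R₀.isPGroup'.map R.subtype).exists_le_sylow
      obtain ⟨g, hg⟩ := MulAction.exists_smul_eq G U S
      rw [← card_conj g]
      refine card_le_of_le (le_inf ?_ ?_)
      · rw [hT, ← hg]; exact map_mono hU
      · exact (map_mono (map_subtype_le _)).trans (le_of_eq (Subgroup.Normal.map_conj_eq R g))
    have htop : normalizer (Q : Set G) ⊔ CW = ⊤ := by
      rw [eq_top_iff, ← Sylow.normalizer_sup_eq_top R₀, hR₀eq]
      exact sup_le le_sup_left (hRQ.trans (sup_le (Subgroup.le_normalizer.trans le_sup_left) le_sup_right))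
    rw [hW]
    refine (closure_le _).2 fun y hy => ?_
    obtain ⟨d, hd, hdy⟩ := Group.mem_conjugatesOfSet_iff.1 hy
    obtain ⟨g, rfl⟩ := isConj_iff.1 hdy
    have hg : g ∈ ((CW ⊔ normalizer (Q : Set G) : Subgroup G) : Set G) := by
      rw [sup_comm, htop]; trivial
    rw [Subgroup.normal_mul] at hg
    obtain ⟨c, hc', n, hn, rfl⟩ := hg
    have hndW : n * d * n⁻¹ ∈ W := (normalClosure_normal).conj_mem _ (subset_normalClosure hd) n
    rw [SetLike.mem_coe, mem_centralizer_singleton_iff]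
    have e1 : c * n * d * (c * n)⁻¹ = n * d * n⁻¹ := by
      calc c * n * d * (c * n)⁻¹ = c * (n * d * n⁻¹) * c⁻¹ := by group
        _ = _ := by rw [← mem_centralizer_iff.1 hc' _ hndW, mul_inv_cancel_right]
    show c * n * d * (c * n)⁻¹ * x = x * (c * n * d * (c * n)⁻¹)
    rw [e1]
    -- move `x` by `n`
    set x' : G := n⁻¹ * x * n with hx'def
    have hx'Q : x' ∈ Q := (mem_normalizer_iff''.1 hn _).1 hxQ
    have hkey : ⁅⁅Cfsg.dStar T ⊔ zpowers ⟨x', hx'Q.1⟩, Cfsg.dStar T ⊔ zpowers ⟨x', hx'Q.1⟩⁆,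
        Cfsg.dStar T ⊔ zpowers ⟨x', hx'Q.1⟩⁆ = ⊥ := by
      apply Subgroup.map_injective T.subtype_injective
      rw [map_commutator, map_commutator, Subgroup.map_bot, Subgroup.map_sup, MonoidHom.map_zpowers, ← le_bot_iff]
      have h2 : (Cfsg.dStar T).map T.subtype ⊔ zpowers (T.subtype ⟨x', hx'Q.1⟩) ≤
          (W ⊔ zpowers (x : G)).map (MulAut.conj n⁻¹).toMonoidHom := by
        refine sup_le ?_ (zpowers_le.2 ⟨x, mem_sup_right (mem_zpowers _), by simp [hx'def]⟩)
        refine le_trans ?_ (map_mono le_sup_left)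
        exact le_trans subset_normalClosure (le_of_eq (Subgroup.Normal.map_conj_eq W n⁻¹).symm)
      refine (commutator_mono (commutator_mono h2 h2) h2).trans ?_
      rw [← map_commutator, ← map_commutator, hx', Subgroup.map_bot]
    have hd' : (⟨d, hDT hd⟩ : T) ∈ Cfsg.dStar T := by rw [← hDsub]; exact hd
    have h4 : d * x' = x' * d := congrArg Subtype.val ((LA5.DStar.dStar_mem hTp).2 _ hkey _ hd')
    calc n * d * n⁻¹ * x = n * (d * x') * n⁻¹ := by rw [hx'def]; group
      _ = n * (x' * d) * n⁻¹ := by rw [h4]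
      _ = x * (n * d * n⁻¹) := by rw [hx'def]; group
  have hWD : W ≤ D := by
    have h1 : W.subgroupOf T ≤ Cfsg.dStar T := le_sSup hWfam
    intro w hw
    exact ⟨⟨w, hWT hw⟩, h1 hw, rfl⟩
  have hDW : D = W := le_antisymm subset_normalClosure hWD
  show D.Normal
  rw [hDW]
  exact normalClosure_normal

end Cfsg.Agent.S3060
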