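import Cfsg.Statements.S3063
import Cfsg.Agent.Lib.LA5.Replacement
-- import your own Cfsg.Agent.* helpers here

set_option autoImplicit false
open Cfsg

namespace Cfsg.Agent.S3063

open Subgroup Cfsg.Agent.Lib.LA5 Cfsg.Agent.Lib.LA5.Basic

/-- A weak replacement Theorem for metabelian p-groups: let S be a finite p-group whose derived subgroup is abelian and A an abelian subgroup of S of largest possible order. Then the normal closure of A in S contains an abelian subgroup B of the same order as A that is normal in S. -/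
theorem result {S : Type*} [Group S] [Finite S] {p : ℕ} [Fact p.Prime]
    (hS : IsPGroup p S) (hmeta : IsMulCommutative ↥(commutator S))
    (A : Subgroup S) (hA : A ∈ Cfsg.maxAbelianSubgroups S) :
    ∃ B ∈ Cfsg.maxAbelianSubgroups S, B.Normal ∧ B ≤ Subgroup.normalClosure (A : Set S) := by
  classical
  set T := Subgroup.normalClosure (A : Set S) with hT
  set D := T ⊓ commutator S with hD
  have hDc : IsMulCommutative D := ⟨⟨fun a b => Subtype.ext
    (Replacement.comm_of hmeta a.2.2 b.2.2)⟩⟩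
  obtain ⟨B, ⟨hB, hBT⟩, hmax⟩ := Set.exists_max_image
    {B : Subgroup S | B ∈ Cfsg.maxAbelianSubgroups S ∧ B ≤ T}
    (fun B => Nat.card ↥(B ⊓ D)) (Set.toFinite _) ⟨A, hA, Subgroup.subset_normalClosure⟩
  have hDN : D ≤ normalizer (B : Set S) := by
    by_contra hn
    obtain ⟨A', hA', -, hA'le, hlt⟩ := Replacement.exists_replacement hS hB hDc
      (by rw [normalizer_eq_top]; exact le_top) hn
    have h1 := hmax A' ⟨hA', hA'le.trans (sup_le hBT inf_le_left)⟩
    exact hlt.ne (eq_of_le_of_card_ge hlt.le h1)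
  refine ⟨B, hB, ⟨fun b hb s => ?_⟩, hBT⟩
  set C := B.map (MulAut.conj s).toMonoidHom with hC
  set E := D ⊓ (B ⊔ C) with hE
  have hCle : B ⊔ C ≤ B ⊔ E := by
    refine sup_le le_sup_left ?_
    rintro _ ⟨b, hb, rfl⟩
    have hc : s * b * s⁻¹ ∈ B ⊔ C := mem_sup_right ⟨b, hb, rfl⟩
    have hd : s * b * s⁻¹ * b⁻¹ ∈ E := by
      refine ⟨⟨?_, ?_⟩, Subgroup.mul_mem _ hc (Subgroup.inv_mem _ (mem_sup_left hb))⟩
      · exact Subgroup.mul_mem _ ((Subgroup.normalClosure_normal : T.Normal).conj_mem b (hBT hb) s) (Subgroup.inv_mem _ (hBT hb))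
      · rw [← commutatorElement_def]
        exact commutator_mem_commutator (mem_top s) (mem_top b)
    have := mul_mem (mem_sup_right hd : _ ∈ B ⊔ E) (mem_sup_left hb)
    simpa using this
  have hBE : Nat.card ↥(B ⊔ E) * Nat.card ↥(B ⊓ E) = Nat.card B * Nat.card E := by
    rw [← card_mul_card_inf B E, ← coe_mul_of_right_le_normalizer_left B E (inf_le_left.trans hDN)]
    rfl
  have h1 := card_mul_le_card_sup_mul_card_inf B C
  rw [card_conj] at h1
  have h2 : Nat.card B * Nat.card ↥(B ⊓ E) ≤ Nat.card E * Nat.card ↥(B ⊓ C) := by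
    refine Nat.le_of_mul_le_mul_left ?_ (Nat.card_pos (α := B))
    calc Nat.card B * (Nat.card B * Nat.card ↥(B ⊓ E))
        = Nat.card B * Nat.card B * Nat.card ↥(B ⊓ E) := by ring
      _ ≤ Nat.card ↥(B ⊔ C) * Nat.card ↥(B ⊓ C) * Nat.card ↥(B ⊓ E) := Nat.mul_le_mul_right _ h1
      _ ≤ Nat.card ↥(B ⊔ E) * Nat.card ↥(B ⊓ C) * Nat.card ↥(B ⊓ E) :=
          Nat.mul_le_mul_right _ (Nat.mul_le_mul_right _ (card_le_of_le hCle))
      _ = Nat.card ↥(B ⊔ E) * Nat.card ↥(B ⊓ E) * Nat.card ↥(B ⊓ C) := by ring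
      _ = Nat.card B * (Nat.card E * Nat.card ↥(B ⊓ C)) := by rw [hBE]; ring
  have hBc := hB.1
  have hCc : IsMulCommutative C := by
    rw [hC]
    refine ⟨⟨fun a b => Subtype.ext ?_⟩⟩
    obtain ⟨x, hx, hxa⟩ := a.2
    obtain ⟨y, hy, hyb⟩ := b.2
    show (a : S) * b = b * a
    rw [← hxa, ← hyb, ← map_mul, ← map_mul, Replacement.comm_of hBc hx hy]
  have hcent : B ⊓ C ≤ centralizer ((B ⊔ C : Subgroup S) : Set S) := by
    rw [centralizer_sup]
    exact le_inf (fun x hx y hy => Replacement.comm_of hBc hy hx.1)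
      (fun x hx y hy => Replacement.comm_of hCc hy hx.2)
  have hEc : IsMulCommutative E := ⟨⟨fun a b => Subtype.ext (Replacement.comm_of hDc a.2.1 b.2.1)⟩⟩
  have hab : IsMulCommutative ↥(E ⊔ (B ⊓ C)) :=
    Replacement.isMulCommutative_sup hEc
      ⟨⟨fun a b => Subtype.ext (Replacement.comm_of hBc a.2.1 b.2.1)⟩⟩
      (fun e he c hc => hcent hc e he.2)
  have h3 : Nat.card B ≤ Nat.card ↥(E ⊔ (B ⊓ C)) := by
    refine Nat.le_of_mul_le_mul_right (h2.trans ?_) Nat.card_pos
    refine (card_mul_le_card_sup_mul_card_inf _ _).trans (Nat.mul_le_mul_left _ (card_le_of_le ?_))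
    exact le_inf (inf_le_right.trans inf_le_left) inf_le_left
  have hEB : B ⊓ D = E := by
    refine eq_of_le_of_card_ge (le_inf inf_le_right (inf_le_left.trans le_sup_left)) ?_
    refine le_trans (card_le_of_le (le_inf le_sup_left inf_le_left : E ≤ (E ⊔ (B ⊓ C)) ⊓ D)) ?_
    exact hmax _ ⟨⟨hab, fun X hX => (hB.2 X hX).trans h3⟩,
      sup_le (inf_le_left.trans inf_le_left) (inf_le_left.trans hBT)⟩
  have hle : C ≤ B := (le_sup_right.trans hCle).trans (sup_le le_rfl (hEB ▸ inf_le_left))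
  exact hle ⟨b, hb, rfl⟩

end Cfsg.Agent.S3063
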