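import Cfsg.Statements.S3064
import Cfsg.Agent.Lib.LA5.Basic
import Cfsg.Agent.Lib.Induced.FrobeniusKernel
import Mathlib.GroupTheory.SchurZassenhaus
-- import your own Cfsg.Agent.* helpers here

set_option autoImplicit false
open Cfsg

namespace Cfsg.Agent.S3064

open Subgroup Cfsg.Agent.Lib.LA5.Basic

universe u

/-- Two commuting `p`-elements lie in a common `p`-subgroup. -/
theorem exists_pGroup_of_commute {G : Type*} [Group G] {p : ℕ} [Fact p.Prime] {x y : G}
    (hx : IsPGroup p (zpowers x)) (hy : IsPGroup p (zpowers y)) (h : x * y = y * x) :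
    IsPGroup p ↥(zpowers x ⊔ zpowers y) := by
  refine hx.to_sup_of_normal_right' hy (zpowers_le.2 (centralizer_le_normalizer _ ?_))
  rw [mem_centralizer_iff]
  rintro _ ⟨k, rfl⟩
  exact ((Commute.symm h : Commute y x).zpow_left k).eq

theorem main (n : ℕ) : ∀ (G : Type u) [Group G] [Finite G], Nat.card G ≤ n →
    ∀ (p : ℕ) [Fact p.Prime] (x : G), IsPGroup p (zpowers x) →
    (∀ (P : Subgroup G) (g : G), IsPGroup p P → x ∈ P → g * x * g⁻¹ ∈ P → g * x * g⁻¹ = x) →
    (∀ H : Subgroup G, (Nat.card H).Coprime p → (∀ h ∈ H, x * h * x⁻¹ ∈ H) → ∀ h ∈ H, x * h = h * x) →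
    x ∈ center G := by
  induction n with
  | zero => intro G _ _ h; exact absurd h (Nat.not_le.2 Nat.card_pos)
  | succ n ih =>
    intro G _ _ hcard p _ x hx hwc hb
    have hcomm : ∀ g : G, x * (g * x * g⁻¹) = g * x * g⁻¹ * x → g * x * g⁻¹ = x := by
      intro g hg
      refine hwc _ g (exists_pGroup_of_commute hx ?_ hg) (mem_sup_left (mem_zpowers x))
        (mem_sup_right (mem_zpowers _))
      have := hx.map (MulAut.conj g).toMonoidHom
      rwa [MonoidHom.map_zpowers] at this
    have hsub : ∀ K : Subgroup G, K ≠ ⊤ → x ∈ K → ∀ y ∈ K, x * y = y * x := by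
      intro K hK hxK y hy
      have hlt : Nat.card K < Nat.card G :=
        lt_of_le_of_ne (card_le_card_group K) fun h => hK ((card_eq_iff_eq_top K).1 h)
      have h := ih K (by omega) p ⟨x, hxK⟩ (IsPGroup.of_injective hx
          ((K.subtype.comp (zpowers (⟨x, hxK⟩ : K)).subtype).codRestrict (zpowers x) (fun z => by
            obtain ⟨k, hk⟩ := z.2
            exact ⟨k, by simpa using congrArg Subtype.val hk⟩))
          (fun a b hab => Subtype.ext (Subtype.ext (by simpa using congrArg Subtype.val hab))))
        (fun P g hP hxP hgP => Subtype.ext (hwc (P.map K.subtype) g (hP.map _)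
          ⟨_, hxP, rfl⟩ ⟨_, hgP, rfl⟩))
        (fun H hH hinv z hz => Subtype.ext (hb (H.map K.subtype)
          (by rwa [card_map_of_injective K.subtype_injective])
          (by rintro _ ⟨w, hw, rfl⟩; exact ⟨_, hinv w hw, rfl⟩) z ⟨z, hz, rfl⟩))
      exact (congrArg Subtype.val (mem_center_iff.1 h ⟨y, hy⟩)).symm
    by_cases hZ : center G = ⊥
    · set M := centralizer ({x} : Set G) with hM
      by_contra hxc
      have hMtop : M ≠ ⊤ := by
        intro h
        refine hxc (mem_center_iff.2 fun g => ?_)
        exact (mem_centralizer_singleton_iff.1 (h ▸ mem_top g : g ∈ M))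
      have hTI : ∀ g : G, g ∉ M → ∀ u ∈ M, g * u * g⁻¹ ∈ M → u = 1 := by
        intro g hg u hu hgu
        by_contra hu1
        set v := g * u * g⁻¹ with hv
        have hv1 : v ≠ 1 := fun h => hu1 (conj_eq_one_iff.1 h)
        have hK : centralizer ({v} : Set G) ≠ ⊤ := by
          intro h
          refine hv1 (mem_bot.1 (hZ ▸ mem_center_iff.2 fun y => ?_))
          exact mem_centralizer_singleton_iff.1 (h ▸ mem_top y : y ∈ centralizer ({v} : Set G))
        have hxv : x ∈ centralizer ({v} : Set G) :=
          mem_centralizer_singleton_iff.2 (mem_centralizer_singleton_iff.1 hgu).symm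
        have hyv : g * x * g⁻¹ ∈ centralizer ({v} : Set G) := by
          refine mem_centralizer_singleton_iff.2 ?_
          have h1 : u * x = x * u := mem_centralizer_singleton_iff.1 hu
          calc g * x * g⁻¹ * v = g * (x * u) * g⁻¹ := by rw [hv]; group
            _ = g * (u * x) * g⁻¹ := by rw [h1]
            _ = v * (g * x * g⁻¹) := by rw [hv]; group
        refine hg (mem_centralizer_singleton_iff.2 ?_)
        have := hcomm g (hsub _ hK hxv _ hyv)
        exact mul_inv_eq_iff_eq_mul.1 this
      obtain ⟨K, hKn, hKc, -⟩ := Cfsg.Agent.Lib.Induced.FrobeniusKernel.exists_normal_complement hTI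
      obtain ⟨T, hT⟩ := hx.exists_le_sylow
      have hTM : (T : Subgroup G) ≤ M := fun t ht => mem_centralizer_singleton_iff.2
        (mul_inv_eq_iff_eq_mul.1 (hwc T t T.isPGroup' (hT (mem_zpowers x))
          (mul_mem (mul_mem ht (hT (mem_zpowers x))) (inv_mem ht))))
      have hKp : (Nat.card K).Coprime p := by
        rw [← hKc.index_eq_card]
        refine ((Nat.Prime.coprime_iff_not_dvd (Fact.out : p.Prime)).2 fun h => ?_).symm
        exact T.not_dvd_index (h.trans (index_dvd_of_le hTM))
      have hKM : K ≤ M := fun k hk => mem_centralizer_singleton_iff.2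
        (hb K hKp (fun h hh => hKn.conj_mem h hh x) k hk).symm
      apply hMtop
      rw [← hKc.sup_eq_top, sup_eq_right.2 hKM]
    · haveI := (nontrivial_iff_ne_bot (center G)).2 hZ
      obtain ⟨q, hq, hqd⟩ := Nat.exists_prime_and_dvd (Finite.one_lt_card (α := center G)).ne'
      haveI : Fact q.Prime := ⟨hq⟩
      obtain ⟨u, hu⟩ := exists_prime_orderOf_dvd_card' q hqd
      set U := zpowers (u : G) with hU
      have hUc : U ≤ center G := zpowers_le.2 u.2
      haveI : U.Normal := ⟨fun a ha g => by
        rw [mem_center_iff.1 (hUc ha) g, mul_inv_cancel_right]; exact ha⟩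
      have hUcard : Nat.card U = q := by rw [hU, Nat.card_zpowers, orderOf_coe, hu]
      have hlt : Nat.card (G ⧸ U) < Nat.card G := by
        rw [card_eq_card_quotient_mul_card_subgroup U, hUcard]
        exact lt_mul_of_one_lt_right Nat.card_pos hq.one_lt
      set π := QuotientGroup.mk' U with hπ
      have hker : π.ker = U := QuotientGroup.ker_mk' U
      have hUle : ∀ H : Subgroup (G ⧸ U), U ≤ H.comap π := fun H y hy => by
        show π y ∈ H
        rw [show π y = 1 from (QuotientGroup.eq_one_iff y).2 hy]
        exact one_mem H
      have hcardc : ∀ H : Subgroup (G ⧸ U), Nat.card (H.comap π) = q * Nat.card H := by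
        intro H
        have h0 := relIndex_ker π (K := H.comap π)
        rw [map_comap_eq_self_of_surjective (QuotientGroup.mk'_surjective U) H] at h0
        rw [← h0, ← hUcard, hker, ← relIndex_bot_left U, ← relIndex_bot_left (H.comap π)]
        exact (relIndex_mul_relIndex ⊥ U _ bot_le (hUle H)).symm
      have hxq : π x ∈ center (G ⧸ U) := by
        refine ih (G ⧸ U) (by omega) p (π x) ?_ ?_ ?_
        · have := hx.map π
          rwa [MonoidHom.map_zpowers] at this
        · intro P g hP hxP hgP
          obtain ⟨g, rfl⟩ := QuotientGroup.mk'_surjective U g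
          rw [← map_inv, ← map_mul, ← map_mul]
          suffices h : g * x * g⁻¹ = x by rw [h]
          obtain ⟨T, hT⟩ := (hx.comap_subtype (K := P.comap π)).exists_le_sylow
          have hxP' : x ∈ P.comap π := hxP
          have hyP' : g * x * g⁻¹ ∈ P.comap π := by
            show π (g * x * g⁻¹) ∈ P
            rwa [map_mul, map_mul, map_inv]
          -- the Sylow subgroup of the central extension `P.comap π` is normal
          have hTn : (T : Subgroup (P.comap π)).Normal := by
            by_cases hqp : q = p
            · have hpg : IsPGroup p (P.comap π) := by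
                obtain ⟨a, ha⟩ := hP.exists_card_eq
                exact IsPGroup.of_card (n := a + 1) (by rw [hcardc, ha, hqp, pow_succ'])
              rw [(T.is_maximal' (IsPGroup.of_equiv hpg topEquiv.symm) le_top).symm]
              infer_instance
            · rw [← normalizer_eq_top_iff, eq_top_iff]
              have hUT : U.subgroupOf (P.comap π) ⊔ (T : Subgroup (P.comap π)) = ⊤ := by
                apply Subgroup.eq_top_of_card_eq
                apply Nat.dvd_antisymm (card_subgroup_dvd_card _)
                have h1 : Nat.card ↥(U.subgroupOf (P.comap π)) = q := by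
                  rw [Nat.card_congr (subgroupOfEquivOfLe (hUle P)).toEquiv, hUcard]
                obtain ⟨a, ha⟩ := hP.exists_card_eq
                have h2 : Nat.card (T : Subgroup (P.comap π)) = p ^ a := by
                  rw [T.card_eq_multiplicity, hcardc, ha,
                    Nat.factorization_mul hq.ne_zero (pow_ne_zero _ (Nat.Prime.ne_zero Fact.out)),
                    Finsupp.add_apply, hq.factorization, Nat.Prime.factorization_pow Fact.out,
                    Finsupp.single_eq_of_ne (Ne.symm hqp), Finsupp.single_eq_same, zero_add]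
                rw [hcardc, ha]
                refine Nat.Coprime.mul_dvd_of_dvd_of_dvd
                  (((Nat.coprime_primes hq Fact.out).2 hqp).pow_right a) ?_ ?_
                · exact h1 ▸ card_dvd_of_le le_sup_left
                · exact h2 ▸ card_dvd_of_le le_sup_right
              rw [← hUT]
              refine sup_le (fun w hw => centralizer_le_normalizer _ ?_) Subgroup.le_normalizer
              rw [mem_centralizer_iff]
              intro z _
              exact Subtype.ext (mem_center_iff.1 (hUc hw) z)
          have hyT : (⟨_, hyP'⟩ : P.comap π) ∈ (T : Subgroup (P.comap π)) := by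
            have hpy : IsPGroup p (zpowers (⟨_, hyP'⟩ : P.comap π)) := by
              have h1 := hx.map (MulAut.conj g).toMonoidHom
              rw [MonoidHom.map_zpowers] at h1
              refine (h1.comap_subtype (K := P.comap π)).to_le (zpowers_le.2 ?_)
              exact mem_zpowers (MulAut.conj g x)
            obtain ⟨T', hT'⟩ := hpy.exists_le_sylow
            haveI := Sylow.unique_of_normal T hTn
            rw [Subsingleton.elim T T']
            exact hT' (mem_zpowers _)
          exact hwc ((T : Subgroup (P.comap π)).map (P.comap π).subtype) g (T.isPGroup'.map _)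
            ⟨⟨x, hxP'⟩, hT (show (⟨x, hxP'⟩ : P.comap π) ∈ _ from mem_zpowers x), rfl⟩ ⟨_, hyT, rfl⟩
        · intro H hH hinv h hh
          obtain ⟨h, rfl⟩ := QuotientGroup.mk'_surjective U h
          rw [← map_mul, ← map_mul]
          refine congrArg π ?_
          have hh' : h ∈ H.comap π := hh
          have hinv' : ∀ y ∈ H.comap π, x * y * x⁻¹ ∈ H.comap π := fun y hy => by
            show π (x * y * x⁻¹) ∈ H
            rw [map_mul, map_mul, map_inv]; exact hinv _ hy
          by_cases hqp : q = p
          · subst hqp
            set U' := U.subgroupOf (H.comap π) with hU'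
            have hU'c : Nat.card U' = q := by
              rw [hU', Nat.card_congr (subgroupOfEquivOfLe (hUle H)).toEquiv, hUcard]
            have hidx : U'.index = Nat.card H := by
              have := U'.card_mul_index
              rw [hU'c, hcardc] at this
              exact Nat.eq_of_mul_eq_mul_left hq.pos this
            obtain ⟨K, hK⟩ := exists_right_complement'_of_coprime (N := U') (by
              rw [hU'c, hidx]; exact hH.symm)
            haveI hKn : K.Normal := by
              rw [← normalizer_eq_top_iff, eq_top_iff, ← hK.sup_eq_top]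
              refine sup_le (fun w hw => centralizer_le_normalizer _ ?_) Subgroup.le_normalizer
              rw [mem_centralizer_iff]
              intro z _
              exact Subtype.ext (mem_center_iff.1 (hUc hw) z)
            have hKc : (Nat.card K).Coprime q := by rwa [← hK.symm.index_eq_card, hidx]
            have hxK : ∀ k ∈ K.map (H.comap π).subtype, x * k = k * x := by
              refine hb _ (by rwa [card_map_of_injective (H.comap π).subtype_injective]) ?_
              rintro _ ⟨k, hk, rfl⟩
              refine ⟨⟨_, hinv' k k.2⟩, ?_, rfl⟩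
              set k' : H.comap π := ⟨_, hinv' k k.2⟩
              rw [SetLike.mem_coe, ← QuotientGroup.eq_one_iff, ← orderOf_eq_one_iff]
              refine Nat.eq_one_of_dvd_coprimes hKc.symm ?_ ?_ (k := orderOf ((k' : H.comap π) : _ ⧸ K))
              · rw [← hU'c, ← hK.index_eq_card, index_eq_card]; exact orderOf_dvd_natCard _
              · refine (orderOf_map_dvd (QuotientGroup.mk' K) k').trans ?_
                rw [← orderOf_coe, show (k' : G) = MulAut.conj x (k : G) from rfl,
                  MulEquiv.orderOf_eq, orderOf_coe]
                exact (K.orderOf_coe ⟨k, hk⟩).symm ▸ orderOf_dvd_natCard _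
            have hle : H.comap π ≤ centralizer ({x} : Set G) := by
              rw [← range_subtype (H.comap π), MonoidHom.range_eq_map, ← hK.sup_eq_top, Subgroup.map_sup]
              refine sup_le ?_ fun k hk => mem_centralizer_singleton_iff.2 (hxK k hk).symm
              rintro _ ⟨w, hw, rfl⟩
              exact mem_centralizer_singleton_iff.2 (mem_center_iff.1 (hUc hw) x).symm
            exact (mem_centralizer_singleton_iff.1 (hle hh')).symm
          · refine hb (H.comap π) ?_ hinv' h hh'
            rw [hcardc]
            exact Nat.Coprime.mul_left ((Nat.coprime_primes hq Fact.out).2 hqp) hH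
      rw [mem_center_iff]
      intro g
      have h1 : g * x * g⁻¹ * x⁻¹ ∈ U := by
        have := mem_center_iff.1 hxq (π g)
        rw [← QuotientGroup.eq_one_iff]
        show π (g * x * g⁻¹ * x⁻¹) = 1
        rw [map_mul, map_mul, map_mul, map_inv, map_inv, this, mul_inv_cancel_right, mul_inv_cancel]
      have h2 := mem_center_iff.1 (hUc h1) x
      have h3 := hcomm g (by
        calc x * (g * x * g⁻¹) = x * (g * x * g⁻¹ * x⁻¹) * x := by group
          _ = g * x * g⁻¹ * x⁻¹ * x * x := by rw [h2]
          _ = g * x * g⁻¹ * x := by group)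
      exact mul_inv_eq_iff_eq_mul.1 h3

/-- Let S be a Sylow p-subgroup of the finite group G and x an element of S such that (i) x is the only G-conjugate of x lying in S, and (ii) x centralizes every subgroup of order prime to p that it normalizes. Then x lies in the centre of G. -/
theorem result {G : Type*} [Group G] [Finite G] {p : ℕ} [Fact p.Prime]
    (S : Sylow p G) (x : G) (hx : x ∈ S)
    (hU : ∀ g : G, g⁻¹ * x * g ∈ S → g⁻¹ * x * g = x)
    (hb : ∀ H : Subgroup G, (Nat.card H).Coprime p → (∀ h ∈ H, x * h * x⁻¹ ∈ H) → ∀ h ∈ H, x * h = h * x) :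
    x ∈ Subgroup.center G := by
  refine main _ G le_rfl p x (S.isPGroup'.to_le (zpowers_le.2 hx)) ?_ hb
  intro P g hP hxP hgP
  obtain ⟨T, hT⟩ := hP.exists_le_sylow
  obtain ⟨k, hk⟩ := MulAction.exists_smul_eq G S T
  have hmem : ∀ y ∈ (T : Subgroup G), k⁻¹ * y * k ∈ S := by
    intro y hy
    rw [← hk] at hy
    exact mem_conj_iff.1 (show y ∈ (S : Subgroup G).map (MulAut.conj k).toMonoidHom from hy)
  have h1 := hU k (hmem x (hT hxP))
  have h2 := hU (g⁻¹ * k) (by simpa [mul_assoc] using hmem _ (hT hgP))
  have h4 : k * x * k⁻¹ = x := by
    conv_lhs => rw [← h1]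
    group
  calc g * x * g⁻¹ = k * ((g⁻¹ * k)⁻¹ * x * (g⁻¹ * k)) * k⁻¹ := by group
    _ = x := by rw [h2, h4]

end Cfsg.Agent.S3064
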