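import Cfsg.Statements.S3067
import Cfsg.Agent.Lib.CoprimeInvol.Main
-- import your own Cfsg.Agent.* helpers here

set_option autoImplicit false
open Cfsg Cfsg.Agent.Lib.CoprimeInvol

namespace Cfsg.Agent.S3067

/-- Let G be a finite non-abelian simple group, τ an involution of G, and α a nontrivial automorphism of G whose order is coprime to the order of G. Then α moves some element of the centralizer of τ: α does not fix C_G(τ) elementwise. -/
theorem result {G : Type*} [Group G] [Finite G] [IsSimpleGroup G]
    (hG : ¬ IsMulCommutative G) (τ : G) (hτ : orderOf τ = 2) (α : MulAut G) (hα : α ≠ 1)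
    (hcop : (orderOf α).Coprime (Nat.card G)) :
    ∃ c ∈ Subgroup.centralizer ({τ} : Set G), α c ≠ c := by
  by_contra hcon
  push Not at hcon
  have hgood : Good α τ := ⟨hτ, fun x hx => hcon x (mem_cent.2 hx)⟩
  have hodd := odd_card_commSub _ G α τ rfl hcop hgood
  have hn : (commSub α ⊤).Normal :=
    ⟨fun z hz g => norms_commSub_self (Subgroup.mem_top g) z hz⟩
  rcases hn.eq_bot_or_eq_top with h | h
  · refine hα (MulEquiv.ext fun x => ?_)
    have := commSub_mem (α := α) (Subgroup.mem_top x)
    rw [h, Subgroup.mem_bot, inv_mul_eq_one] at this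
    exact this.symm
  · rw [h] at hodd
    exact (Lib.Involutions.Basic.odd_card_iff_no_invol _).1 hodd τ (Subgroup.mem_top τ) hτ

end Cfsg.Agent.S3067
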