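import Cfsg.Statements.S3069
import Cfsg.Agent.Lib.ConjFunctor.KControl
import Cfsg.Agent.Lib.Transfer.Frobenius
import Cfsg.Agent.Lib.Transfer.PResidual
import Cfsg.Agent.Lib.LAEven57.Isolated
import Cfsg.Agent.Lib.CharP.Basic

set_option autoImplicit false
open Cfsg

namespace Cfsg.Agent.S3069

open Subgroup Cfsg.Agent.Lib

universe u

/-- The Sylow subgroup is not inside the derived subgroup. -/
theorem not_le_commutator {p : ℕ} [hp : Fact p.Prime] (h5 : 5 ≤ p) :
    ∀ (n : ℕ) (G : Type u) [Group G] [Finite G], Nat.card G = n → ∀ S : Sylow p G, (S : Subgroup G) ≠ ⊥ →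
      (∀ g ∈ normalizer ((S : Subgroup G) : Set G), (orderOf g).Coprime p →
        g ∈ centralizer ((S : Subgroup G) : Set G)) → ¬ (S : Subgroup G) ≤ commutator G := by
  intro n
  induction n using Nat.strong_induction_on with
  | _ n ih =>
    intro G _ _ hn S hS hN hle
    subst hn
    have hW : Cfsg.IsCharPFunctor.{u} p @Cfsg.kInfLower := ConjFunctor.KFunctor.isCharP_lower
    have hWc := ConjFunctor.Section.isConjugacyFunctor_induced hW (X := G)
    have htr := ConjFunctor.KControl.tr_kInf (p := p) (W := @Cfsg.kInfLower) (Or.inl rfl) h5 G S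
    set U := Cfsg.inducedFunctor (G := G) Cfsg.kInfLower (S : Subgroup G) with hU
    set M := normalizer (U : Set G) with hM
    have hNM : normalizer ((S : Subgroup G) : Set G) ≤ M :=
      ConjFunctor.Basic.normalizer_le_normalizer_w hWc S.2
    have hUS : U ≤ (S : Subgroup G) := map_subtype_le _
    have hU1 : U ≠ ⊥ := (hWc (S : Subgroup G) S.2).2.1 hS
    have hSM : (S : Subgroup G) ≤ M := le_normalizer.trans hNM
    -- `S` lies in the derived subgroup of `M`
    have hle' : (S : Subgroup G) ≤ ⁅M, M⁆ := by
      have h1 : (S : Subgroup G) ≤ (S : Subgroup G) ⊓ ⁅(⊤ : Subgroup G), ⊤⁆ :=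
        le_inf le_rfl (hle.trans (le_of_eq (_root_.commutator_def G)))
      rw [htr, ConjFunctor.Reach.trGen] at h1
      refine h1.trans (iSup₂_le fun F hF => ?_)
      obtain ⟨V, hV, rfl⟩ := hF
      obtain ⟨W, hW', rfl⟩ := hV
      rw [Set.mem_singleton_iff] at hW'
      subst hW'
      exact inf_le_right.trans (commutator_mono inf_le_right inf_le_right)
    set T : Sylow p ↥M := S.subtype hSM with hT
    have hTM : (T : Subgroup ↥M) ≤ commutator ↥M := by
      intro x hx
      have : (x : G) ∈ (commutator ↥M).map M.subtype := by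
        rw [_root_.commutator_def, map_commutator, ← MonoidHom.range_eq_map, range_subtype]
        exact hle' hx
      obtain ⟨y, hy, hyx⟩ := this
      rwa [← M.subtype_injective hyx]
    have hT1 : (T : Subgroup ↥M) ≠ ⊥ := fun h => hS ((Subgroup.eq_bot_iff_forall _).2 fun s hs =>
      congrArg Subtype.val ((Subgroup.eq_bot_iff_forall _).1 h ⟨s, hSM hs⟩ hs))
    have hTN : ∀ g ∈ normalizer ((T : Subgroup ↥M) : Set ↥M), (orderOf g).Coprime p →
        g ∈ centralizer ((T : Subgroup ↥M) : Set ↥M) := by
      intro g hg hgp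
      have hg' : (g : G) ∈ normalizer ((S : Subgroup G) : Set G) := by
        refine mem_normalizer_iff.2 fun a => ⟨fun ha => (mem_normalizer_iff.1 hg ⟨a, hSM ha⟩).1 ha, fun ha => ?_⟩
        have ha' : a ∈ M := by
          have h2 := mul_mem (mul_mem (inv_mem g.2) (hSM ha)) g.2
          simpa [mul_assoc] using h2
        exact (mem_normalizer_iff.1 hg ⟨a, ha'⟩).2 ha
      have h2 := hN g hg' (by rwa [orderOf_coe])
      exact mem_centralizer_iff.2 fun t ht => Subtype.ext (mem_centralizer_iff.1 h2 t ht)
    by_cases hUe : U = (S : Subgroup G)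
    · -- `S` is normal in `M`
      have hTn : (T : Subgroup ↥M).Normal := ⟨fun t ht g => by
        have := (mem_normalizer_iff.1 (show (g : G) ∈ normalizer ((S : Subgroup G) : Set G) from hUe ▸ g.2) t).1 ht
        exact this⟩
      have hnpc : Cfsg.HasNormalPComplement p ↥M := by
        refine Transfer.Frobenius.hasNormalPComplement_of_forall_centralizes fun Q hQ _ g _ hgp => ?_
        obtain ⟨T', hQT'⟩ := hQ.exists_le_sylow
        haveI := Sylow.unique_of_normal T hTn
        rw [Subsingleton.elim T' T] at hQT'
        refine centralizer_le hQT' (hTN g ?_ hgp)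
        rw [normalizer_eq_top_iff.2 hTn]; trivial
      have hc := Transfer.PResidual.isComplement'_pResidual hnpc T
      haveI : (Cfsg.pResidual p ↥M).Normal := (Transfer.PResidual.pResidual_normal : _)
      let e : ↥M ⧸ Cfsg.pResidual p ↥M ≃* (T : Subgroup ↥M) := (IsComplement'.QuotientMulEquiv hc.symm)
      let f : ↥M →* (T : Subgroup ↥M) := e.toMonoidHom.comp (QuotientGroup.mk' _)
      have hf : Function.Surjective f := e.surjective.comp (QuotientGroup.mk'_surjective _)
      haveI := T.isPGroup'.isNilpotent
      haveI : Nontrivial (T : Subgroup ↥M) := (nontrivial_iff_ne_bot _).2 hT1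
      have htop : ((T : Subgroup ↥M).map f) = ⊤ := by
        refine top_le_iff.1 fun y _ => ?_
        obtain ⟨m', rfl⟩ := hf y
        obtain ⟨⟨a, b⟩, hab⟩ := hc.2 m'
        refine ⟨b, b.2, ?_⟩
        rw [← hab]
        show f (b : ↥M) = f ((a : ↥M) * (b : ↥M))
        rw [map_mul, show f (a : ↥M) = 1 by
          simp only [f, MonoidHom.comp_apply, (QuotientGroup.eq_one_iff (a : ↥M)).2 a.2, QuotientGroup.mk'_apply,
            map_one], one_mul]
      have h3 : (T : Subgroup ↥M).map f ≤ commutator (T : Subgroup ↥M) := by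
        refine (map_mono hTM).trans ?_
        rw [_root_.commutator_def, map_commutator, _root_.commutator_def]
        exact commutator_mono le_top le_top
      exact (Group.IsSolvable.commutator_lt_top_of_nontrivial _).ne (top_le_iff.1 (htop ▸ h3))
    · -- factor out `U`
      set U' := U.subgroupOf M with hU'
      haveI : U'.Normal := normal_subgroupOf_of_le_normalizer le_rfl
      have hU'1 : U' ≠ ⊥ := fun h => hU1 ((Subgroup.eq_bot_iff_forall _).2 fun u hu =>
        congrArg Subtype.val ((Subgroup.eq_bot_iff_forall _).1 h ⟨u, hSM (hUS hu)⟩ hu))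
      have hlt : Nat.card (↥M ⧸ U') < Nat.card G := by
        have h1 := U'.card_eq_card_quotient_mul_card_subgroup
        have h2 : 1 < Nat.card U' := by
          rw [Finite.one_lt_card_iff_nontrivial]; exact (nontrivial_iff_ne_bot _).2 hU'1
        have h3 : Nat.card ↥M ≤ Nat.card G := card_le_card_group M
        have h4 : 0 < Nat.card (↥M ⧸ U') := Nat.card_pos
        nlinarith
      let π := QuotientGroup.mk' U'
      set Tq := T.mapSurjective (QuotientGroup.mk'_surjective U') with hTq
      have hker : π.ker ≤ (T : Subgroup ↥M) := by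
        rw [QuotientGroup.ker_mk']; exact fun u hu => hUS hu
      refine ih _ hlt (↥M ⧸ U') rfl Tq ?_ ?_ ?_
      · intro h
        rw [hTq, Sylow.coe_mapSurjective, Subgroup.map_eq_bot_iff, QuotientGroup.ker_mk'] at h
        exact hUe (le_antisymm hUS fun s hs => h (show (⟨s, hSM hs⟩ : ↥M) ∈ (T : Subgroup ↥M) from hs))
      · intro gb hgb hgbp
        obtain ⟨g, rfl⟩ := QuotientGroup.mk'_surjective U' gb
        have hgn : g ∈ normalizer ((T : Subgroup ↥M) : Set ↥M) := by
          refine mem_normalizer_iff.2 fun a => ?_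
          have h2 := mem_normalizer_iff.1 hgb (π a)
          rw [hTq, Sylow.coe_mapSurjective] at h2
          have h3 : ∀ b, π b ∈ (T : Subgroup ↥M).map π ↔ b ∈ (T : Subgroup ↥M) := fun b => by
            rw [← mem_comap, comap_map_eq_self hker]
          rw [← h3, ← h3 (g * a * g⁻¹), map_mul, map_mul, map_inv]
          exact h2
        obtain ⟨j, hj⟩ := CharP.exists_pow_coprime (p := p) g
        have hc2 := hTN _ (pow_mem hgn _) hj
        obtain ⟨m, hm⟩ := exists_pow_eq_self_of_coprime (x := π g) (n := p ^ j)
          ((hgbp.pow_right j).symm)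
        rw [← hm, ← map_pow]
        refine pow_mem (mem_centralizer_iff.2 ?_) m
        rw [hTq, Sylow.coe_mapSurjective]
        rintro _ ⟨t, ht, rfl⟩
        rw [← map_mul, ← map_mul, mem_centralizer_iff.1 hc2 t ht]
      · rw [hTq, Sylow.coe_mapSurjective]
        refine (map_mono hTM).trans ?_
        rw [_root_.commutator_def, map_commutator, _root_.commutator_def]
        exact commutator_mono le_top le_top

/-- Let p ≥ 7 be a prime and S a nontrivial Sylow p-subgroup of the finite group G. If N_G(S)/C_G(S) is a p-group (every element of N_G(S) of order prime to p centralizes S), then O^p(G) < G, i.e. G has a nontrivial p-factor group. -/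
theorem result {G : Type*} [Group G] [Finite G] {p : ℕ} [Fact p.Prime]
    (hp : 7 ≤ p) (S : Sylow p G) (hS : (S : Subgroup G) ≠ ⊥)
    (hN : ∀ g ∈ Subgroup.normalizer ((S : Subgroup G) : Set G), (orderOf g).Coprime p →
      g ∈ Subgroup.centralizer ((S : Subgroup G) : Set G)) :
    Cfsg.pResidual p G ≠ ⊤ := by
  intro htop
  refine not_le_commutator (by omega) _ G rfl S hS hN fun s hs => ?_
  obtain ⟨k, hk⟩ := S.isPGroup' ⟨s, hs⟩
  rw [← Abelianization.ker_of G, MonoidHom.mem_ker]
  have hall : ∀ g : G, (orderOf (Abelianization.of g)).Coprime p := by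
    intro g
    have hg : g ∈ Cfsg.pResidual p G := htop ▸ mem_top g
    rw [Cfsg.pResidual] at hg
    induction hg using closure_induction with
    | mem a ha => exact Nat.Coprime.coprime_dvd_left (orderOf_map_dvd _ a) ha
    | one => simp
    | mul a b _ _ ha hb =>
      rw [map_mul]
      exact Nat.Coprime.coprime_dvd_left (Commute.all _ _).orderOf_mul_dvd_mul_orderOf (ha.mul_left hb)
    | inv a _ ha => rwa [map_inv, orderOf_inv]
  refine CharP.eq_one_of_coprime_of_pElement (k := k) (hall s) ?_
  rw [← map_pow, show s ^ p ^ k = 1 from congrArg Subtype.val hk, map_one]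

end Cfsg.Agent.S3069
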