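import Cfsg.Statements.S3070
import Cfsg.Agent.Lib.LA5.JOffender.Offender
import Cfsg.Agent.Lib.Transfer.ThompsonJA
import Cfsg.Agent.Lib.Transfer.CharHyp
import Cfsg.Agent.Lib.Coprime.Action
-- import your own Cfsg.Agent.* helpers here

set_option autoImplicit false
open Cfsg

namespace Cfsg.Agent.S3070

open Subgroup Cfsg.Agent.Lib Cfsg.Agent.Lib.Transfer Cfsg.Agent.Lib.Transfer.PResidual Cfsg.Agent.Lib.Frobenius.PComplement
open scoped commutatorElement

universe u

/-- The normalizer of the Thompson subgroup has a normal complement. -/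
def JHyp (p : ℕ) {G : Type u} [Group G] (S : Subgroup G) : Prop :=
  Cfsg.HasNormalPComplement p (normalizer (Cfsg.thompsonSubgroupAOf S : Set G))

variable {p : ℕ} [hp : Fact p.Prime] {G : Type u} [Group G] [Finite G]

theorem jHyp_of_injective {H : Type u} [Group H] [Finite H] (f : H →* G) (hf : Function.Injective f)
    {S : Subgroup H} (h : JHyp p (S.map f)) : JHyp p S := by
  refine hnpc_of_map_le f hf ?_ h
  rw [← AbelianJ.map_thompsonSubgroupAOf f hf]
  exact le_normalizer_map f

theorem centralizes_of_hnpc {U : Subgroup G} (hU : IsPGroup p U)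
    (h : Cfsg.HasNormalPComplement p (normalizer (U : Set G))) {g : G} (hg : g ∈ normalizer (U : Set G))
    (hgp : (orderOf g).Coprime p) : g ∈ centralizer (U : Set G) := by
  have h1 := Transfer.Frobenius.mem_centralizer_of_hasNormalPComplement h
    (Q := U.subgroupOf (normalizer (U : Set G))) hU.comap_subtype (g := ⟨g, hg⟩)
    (mem_normalizer_iff.mpr fun y => mem_normalizer_iff.mp hg y) (by rwa [orderOf_mk])
  exact mem_centralizer_iff.mpr fun y hy =>
    congrArg Subtype.val (mem_centralizer_iff.mp h1 ⟨y, le_normalizer hy⟩ hy)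

theorem centralizes_normal {L : Subgroup G} (hL : Cfsg.HasNormalPComplement p L) {Q : Subgroup G} [Q.Normal]
    (hQ : IsPGroup p Q) (hQL : Q ≤ L) {g : G} (hg : g ∈ L) (hgp : (orderOf g).Coprime p) :
    g ∈ centralizer (Q : Set G) := by
  have h1 := Transfer.Frobenius.mem_centralizer_of_hasNormalPComplement hL (Q := Q.subgroupOf L)
    hQ.comap_subtype (g := ⟨g, hg⟩)
    (by rw [normalizer_eq_top_iff.2 inferInstance]; trivial) (by rwa [orderOf_mk])
  exact mem_centralizer_iff.mpr fun y hy =>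
    congrArg Subtype.val (mem_centralizer_iff.mp h1 ⟨y, hQL hy⟩ hy)

theorem eq_one_of_le_centralizer {Q : Subgroup G} (hQ : IsPGroup p Q) (hCQ : centralizer (Q : Set G) ≤ Q)
    {g : G} (hg : g ∈ centralizer (Q : Set G)) (hgp : (orderOf g).Coprime p) : g = 1 :=
  CharP.eq_one_of_coprime_of_mem hQ (hCQ hg) hgp

theorem isPGroup_of_centralizes {L : Subgroup G} (hL : Cfsg.HasNormalPComplement p L) {Q : Subgroup G} [Q.Normal]
    (hQ : IsPGroup p Q) (hQL : Q ≤ L) (hCQ : centralizer (Q : Set G) ≤ Q) : IsPGroup p L :=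
  CharP.isPGroup_of_coprime_eq_one fun g hg hgp =>
    eq_one_of_le_centralizer hQ hCQ (centralizes_normal hL hQ hQL hg hgp) hgp

/-- A minimal counterexample has an abelian `p'`-section moved by an abelian subgroup of largest order. -/
theorem final (hp5 : 5 ≤ p) (S : Sylow p G) (Q : Subgroup G) [Q.Normal] (hQS : Q ≤ (S : Subgroup G))
    (hCQ : centralizer (Q : Set G) ≤ Q) (K : Subgroup (G ⧸ Q)) (hKn : K.Normal)
    (hKc : ∀ x ∈ K, ∀ y ∈ K, x * y = y * x) (hKp : ¬ p ∣ Nat.card K)
    (hfaith : ∀ a ∈ (S : Subgroup G).map (QuotientGroup.mk' Q), (∀ x ∈ K, Commute a x) → a = 1)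
    {A : Subgroup G} (hA : A ∈ AbelianJ.maxAbIn (S : Subgroup G)) (hAQ : ¬ A ≤ Q) : False := by
  classical
  let f := QuotientGroup.mk' Q
  set Ab := A.map f with hAb
  have hAbp : IsPGroup p Ab := (S.2.to_le hA.1).map _
  have hAc : ∀ a ∈ A, ∀ b ∈ A, a * b = b * a := fun a ha b hb =>
    congrArg Subtype.val (hA.2.1.is_comm.comm (⟨a, ha⟩ : A) ⟨b, hb⟩)
  have hcop : (Nat.card Ab).Coprime (Nat.card K) := by
    obtain ⟨k, hk⟩ := IsPGroup.iff_card.1 hAbp
    rw [hk]
    exact Nat.Coprime.pow_left k (hp.out.coprime_iff_not_dvd.2 hKp)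
  have hKne : ¬ Ab ≤ centralizer (K : Set (G ⧸ Q)) := fun h => hAQ fun a ha =>
    (QuotientGroup.eq_one_iff a).1 (hfaith _ (mem_map_of_mem f (hA.1 ha))
      fun x hx => ((mem_centralizer_iff.1 (h (mem_map_of_mem f ha)) x hx).symm : _))
  obtain ⟨R, ⟨hRK, hRA, hRc⟩, hRmin⟩ := Set.exists_min_image
    {Y : Subgroup (G ⧸ Q) | Y ≤ K ∧ Ab ≤ normalizer (Y : Set (G ⧸ Q)) ∧ ¬ Ab ≤ centralizer (Y : Set (G ⧸ Q))}
    (fun Y => Nat.card Y) (Set.toFinite _)
    ⟨K, le_rfl, by rw [normalizer_eq_top_iff.2 hKn]; exact le_top, hKne⟩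
  have hRcomm : IsMulCommutative R := .of_setLike_mul_comm fun x hx y hy => hKc x (hRK hx) y (hRK hy)
  have hcopR : (Nat.card Ab).Coprime (Nat.card R) := hcop.coprime_dvd_right (card_dvd_of_le hRK)
  have hRmin' : ∀ Y : Subgroup (G ⧸ Q), Y ≤ R → Ab ≤ normalizer (Y : Set (G ⧸ Q)) → Y ≠ R → Y = ⊥ := by
    intro Y hY hYn hne
    have hYc : Ab ≤ centralizer (Y : Set (G ⧸ Q)) := by
      by_contra h
      exact hne (eq_of_le_of_card_ge hY (hRmin Y ⟨hY.trans hRK, hYn, h⟩))
    have hC : (R ⊓ centralizer (Ab : Set (G ⧸ Q))) ⊓ ⁅R, Ab⁆ = ⊥ :=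
      Lib.Coprime.centralizer_inf_commutator_eq_bot hRA hcopR
    have hRA' : ⁅R, Ab⁆ = R := by
      by_contra hne'
      have hle : ⁅R, Ab⁆ ≤ R := Lib.Coprime.commutator_le_of_le_normalizer hRA
      have hc : Ab ≤ centralizer ((⁅R, Ab⁆ : Subgroup (G ⧸ Q)) : Set (G ⧸ Q)) := by
        by_contra h
        exact hne' (eq_of_le_of_card_ge hle
          (hRmin _ ⟨hle.trans hRK, Lib.Coprime.right_le_normalizer_commutator R Ab, h⟩))
      refine hRc (Lib.Coprime.le_centralizer_of_commutator_commutator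
        (hcopR.coprime_dvd_right (card_dvd_of_le hle)) ?_)
      rw [commutator_eq_bot_iff_le_centralizer, le_centralizer_iff]
      exact hc
    rw [hRA'] at hC
    exact le_bot_iff.1 (hC ▸ le_inf (le_inf hY (le_centralizer_iff.1 hYc)) hY)
  -- the action of `A` on `R`
  let ρ : A →* MulAut R := (R.normalizerMonoidHom).comp
    { toFun := fun a => ⟨f a, hRA (mem_map_of_mem f a.2)⟩
      map_one' := Subtype.ext (map_one f)
      map_mul' := fun a b => Subtype.ext (map_mul f _ _) }
  have hρ : ∀ (a : A) (r : R), ((ρ a r : R) : G ⧸ Q) = f a * r * (f a)⁻¹ := fun a r => rfl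
  have hfpf : ∀ a : A, ρ a ≠ 1 → ∀ r : R, ρ a r = r → r = 1 := by
    intro a ha r hr
    let Y := R ⊓ centralizer ({f a} : Set (G ⧸ Q))
    have hYn : Ab ≤ normalizer (Y : Set (G ⧸ Q)) := by
      rintro _ ⟨b, hb, rfl⟩
      refine mem_normalizer_fintype fun y hy => ⟨(mem_normalizer_iff.1 (hRA (mem_map_of_mem f hb)) y).1 hy.1,
        mem_centralizer_iff.2 fun z hz => ?_⟩
      rw [Set.mem_singleton_iff] at hz
      subst hz
      have h1 : f a * y = y * f a := mem_centralizer_iff.1 hy.2 _ rfl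
      have h2 : f a * f b = f b * f a := by rw [← map_mul, ← map_mul, hAc a a.2 b hb]
      calc f a * (f b * y * (f b)⁻¹) = f a * f b * y * (f b)⁻¹ := by group
        _ = f b * (f a * y) * (f b)⁻¹ := by rw [h2]; group
        _ = f b * y * (f a * (f b)⁻¹) := by rw [h1]; group
        _ = f b * y * (f b)⁻¹ * f a := by
          rw [((show Commute (f a) (f b) from h2).inv_right).eq]; group
    have hne : Y ≠ R := by
      intro hY
      refine ha (MulEquiv.ext fun s => Subtype.ext ?_)
      have h1 : f a * s = s * f a := mem_centralizer_iff.1 (hY.ge s.2).2 _ rfl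
      rw [hρ, h1, mul_inv_cancel_right]
      rfl
    have hbot := hRmin' Y inf_le_left hYn hne
    have hr' : (r : G ⧸ Q) ∈ Y := by
      refine ⟨r.2, mem_centralizer_iff.2 fun z hz => ?_⟩
      rw [Set.mem_singleton_iff] at hz
      subst hz
      have h1 := congrArg Subtype.val hr
      rw [hρ] at h1
      exact mul_inv_eq_iff_eq_mul.1 h1
    rw [hbot, mem_bot] at hr'
    exact Subtype.ext hr'
  haveI : Nontrivial R := (nontrivial_iff_ne_bot _).2 fun h => hRc (fun a _ => mem_centralizer_iff.2 fun y hy => by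
    rw [h] at hy
    rw [mem_bot.1 hy, one_mul, mul_one])
  have hcyc : IsCyclic ρ.range := by
    by_contra hnc
    have hsub : (Nat.card ρ.range).Coprime (Nat.card R) := by
      obtain ⟨k, hk⟩ := IsPGroup.iff_card.1 (S.2.to_le hA.1)
      obtain ⟨i, -, hi⟩ := (Nat.dvd_prime_pow hp.out).1 (hk ▸ card_range_dvd ρ)
      rw [hi]
      exact Nat.Coprime.pow_left i (hp.out.coprime_iff_not_dvd.2 fun h => hKp (h.trans (card_dvd_of_le hRK)))
    have htop := Lib.Coprime.Action.closure_fixed_eq_top (A := ρ.range) (G := R)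
      (by
        rintro ⟨_, a, rfl⟩ ⟨_, b, rfl⟩
        refine Subtype.ext ?_
        show ρ a * ρ b = ρ b * ρ a
        rw [← map_mul, ← map_mul, show a * b = b * a from Subtype.ext (hAc a a.2 b b.2)])
      hnc hsub
    obtain ⟨r, hr⟩ := exists_ne (1 : R)
    have h1 : (closure {g : R | ∃ a : ρ.range, a ≠ 1 ∧ a • g = g}) ≤ ⊥ := by
      refine (closure_le _).2 ?_
      rintro g ⟨⟨_, a, rfl⟩, ha, hg⟩
      exact mem_bot.2 (hfpf a (fun h => ha (Subtype.ext h)) g hg)
    exact hr (mem_bot.1 (h1 (htop ▸ mem_top r)))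
  obtain ⟨⟨_, x, rfl⟩, hgen⟩ := hcyc.exists_generator
  obtain ⟨k, hk⟩ := IsPGroup.iff_card.1 (S.2.to_le hA.1)
  obtain ⟨e, -, he⟩ := (Nat.dvd_prime_pow hp.out).1 (hk ▸ card_range_dvd ρ)
  have hord : orderOf (ρ x) = p ^ e := by
    have h1 := orderOf_eq_card_of_forall_mem_zpowers hgen
    rw [he] at h1
    rwa [← orderOf_coe] at h1
  have hemod : 1 ≤ e := by
    rcases Nat.eq_zero_or_pos e with h0 | h0
    · exfalso
      rw [h0, pow_zero] at he
      refine hRc ?_
      rintro _ ⟨a, ha, rfl⟩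
      refine mem_centralizer_iff.2 fun r hr => ?_
      have h1 : ρ ⟨a, ha⟩ = 1 := mem_bot.1 ((card_eq_one.1 he).le ⟨⟨a, ha⟩, rfl⟩)
      have h2 := congrArg Subtype.val (MulEquiv.congr_fun h1 ⟨r, hr⟩)
      rw [hρ] at h2
      exact (mul_inv_eq_iff_eq_mul.1 h2).symm
    · exact h0
  let A₀ : Subgroup G := ρ.ker.map A.subtype
  have hcard : Nat.card A ≤ Nat.card A₀ * p ^ e := by
    rw [show A₀ = ρ.ker.map A.subtype from rfl, card_subtype, ← he,
      card_eq_card_quotient_mul_card_subgroup ρ.ker, mul_comm,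
      Nat.card_congr (QuotientGroup.quotientKerEquivRange ρ).toEquiv]
  refine LA5.JOffender.false_of_offender (p := p) (S := (S : Subgroup G)) (A := A) (A₀ := A₀)
    (R := R.comap f) (x := (x : G)) (e := e) hp5 hCQ S.2 hQS hA.1 hAc hA.2.2 (map_subtype_le _) x.2 hemod
    ?_ hcard ?_ ?_ ?_ ?_ ?_ ?_ ?_
  · exact ⟨x ^ p ^ e, by rw [SetLike.mem_coe, MonoidHom.mem_ker, map_pow, ← hord, pow_orderOf_eq_one], rfl⟩
  · intro q hq
    rw [mem_comap, show f q = 1 from (QuotientGroup.eq_one_iff q).2 hq]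
    exact R.one_mem
  · intro h
    have : R = ⊥ := by
      rw [← map_comap_eq_self_of_surjective (QuotientGroup.mk'_surjective Q) R, h,
        QuotientGroup.map_mk'_self]
    exact (nontrivial_iff_ne_bot _).1 inferInstance this
  · have h1 : Q.relIndex (R.comap f) = Nat.card R := by
      have h2 := relIndex_ker (K := R.comap f) f
      rwa [QuotientGroup.ker_mk', map_comap_eq_self_of_surjective (QuotientGroup.mk'_surjective Q)] at h2
    rw [h1]
    exact (hp.out.coprime_iff_not_dvd.2 fun h => hKp (h.trans (card_dvd_of_le hRK))).symm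
  · intro r hr s hs
    refine (QuotientGroup.eq_one_iff _).1 ?_
    show f ⁅r, s⁆ = 1
    rw [map_commutatorElement, commutatorElement_eq_one_iff_mul_comm]
    exact hKc _ (hRK hr) _ (hRK hs)
  · rintro _ ⟨a, ha, rfl⟩ r hr
    refine (QuotientGroup.eq_one_iff _).1 ?_
    show f ⁅(a : G), r⁆ = 1
    rw [map_commutatorElement, commutatorElement_eq_one_iff_mul_comm]
    have h2 := congrArg Subtype.val (MulEquiv.congr_fun (MonoidHom.mem_ker.1 ha) ⟨f r, hr⟩)
    rw [hρ] at h2
    exact mul_inv_eq_iff_eq_mul.1 h2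
  · have h1 : f (x : G) ∈ normalizer (R : Set (G ⧸ Q)) := hRA (mem_map_of_mem f x.2)
    refine mem_normalizer_iff.2 fun y => ?_
    rw [mem_comap, mem_comap, map_mul, map_mul, map_inv]
    exact mem_normalizer_iff.1 h1 _
  · intro i hi hin r hr
    have hxi : ρ (x ^ i) ≠ 1 := by
      rw [map_pow]
      intro h
      have := Nat.le_of_dvd hi (orderOf_dvd_of_pow_eq_one h)
      rw [hord] at this
      omega
    let φ : R → R := fun s => ρ (x ^ i) s * s⁻¹
    have hφ : Function.Injective φ := by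
      intro s t hst
      have h1 : ρ (x ^ i) (t⁻¹ * s) = t⁻¹ * s := by
        rw [map_mul, map_inv]
        have h2 : ρ (x ^ i) s = ρ (x ^ i) t * t⁻¹ * s := by
          rw [← show φ s = ρ (x ^ i) t * t⁻¹ from hst]; simp [φ]
        rw [h2]; group
      exact (inv_mul_eq_one.1 (hfpf _ hxi _ h1)).symm
    obtain ⟨s, hs⟩ := Finite.surjective_of_injective hφ ⟨f r, hr⟩
    obtain ⟨s', hs'⟩ := QuotientGroup.mk'_surjective Q (s : G ⧸ Q)
    refine ⟨s', by rw [mem_comap, show f s' = s from hs']; exact s.2, (QuotientGroup.eq_one_iff _).1 ?_⟩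
    show f (r⁻¹ * ⁅(x : G) ^ i, s'⁆) = 1
    have h3 : f (x : G) ^ i * s * (f (x : G) ^ i)⁻¹ * (s : G ⧸ Q)⁻¹ = f r := by
      have h4 : ((ρ (x ^ i) s * s⁻¹ : R) : G ⧸ Q) = f r := congrArg Subtype.val hs
      rw [← h4, Subgroup.coe_mul, Subgroup.coe_inv, hρ, SubmonoidClass.coe_pow, map_pow]
    rw [map_mul, map_inv, map_commutatorElement, map_pow, show f s' = s from hs', commutatorElement_def, h3,
      inv_mul_cancel]

omit [Finite G] in
theorem jHyp_top {Q' : Subgroup G} (hQ' : Q'.Normal) (S : Subgroup G) (h : JHyp p S)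
    (hJ : Cfsg.thompsonSubgroupAOf Q' = Cfsg.thompsonSubgroupAOf S) [Finite G] : Cfsg.HasNormalPComplement p G := by
  refine hnpc_of_top_le ?_ h
  rw [← hJ]
  refine le_trans ?_ ((ThompsonJA.functorA.{u} p).normalizer_le Q')
  rw [normalizer_eq_top_iff.mpr hQ']

theorem hnpc_of_jHyp (hp5 : 5 ≤ p) : ∀ (n : ℕ) (G : Type u) [Group G] [Finite G], Nat.card G = n →
    ∀ S : Sylow p G, JHyp p (S : Subgroup G) → Cfsg.HasNormalPComplement p G := by
  intro n
  induction n using Nat.strong_induction_on with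
  | _ n ih =>
  intro G _ _ hn S hS
  subst hn
  classical
  by_contra hG
  have hp2 : p ≠ 2 := by omega
  have hS1 : (S : Subgroup G) ≠ ⊥ := by
    intro h
    apply hG
    refine hasNormalPComplement_of_normal (N := ⊤) ?_ ?_
    · rw [card_top]
      intro hd
      have := S.dvd_card_of_dvd_card hd
      rw [h, card_bot] at this
      exact hp.out.not_dvd_one this
    · intro x
      obtain ⟨g, rfl⟩ := QuotientGroup.mk_surjective x
      exact ⟨0, by rw [pow_zero, pow_one]; exact (QuotientGroup.eq_one_iff g).mpr (mem_top g)⟩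
  have hover : ∀ L : Subgroup G, (S : Subgroup G) ≤ L → L ≠ ⊤ → Cfsg.HasNormalPComplement p L := by
    intro L hSL hL
    have hlt : Nat.card L < Nat.card G := lt_of_le_of_ne (card_le_card_group L)
      fun h => hL (eq_top_of_card_eq L h)
    refine ih _ hlt L rfl (S.subtype hSL) (jHyp_of_injective L.subtype L.subtype_injective ?_)
    rw [Sylow.coe_subtype, subgroupOf_map_subtype, inf_eq_left.mpr hSL]
    exact hS
  let Z := (S : Subgroup G) ⊓ centralizer ((S : Subgroup G) : Set G)
  have hCZ : centralizer (Z : Set G) = ⊤ := by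
    by_contra hne
    refine hG (ThompsonJA.hasNormalPComplement_of_thompsonAOf S (Or.inl hp2) (hover _ ?_ hne) hS)
    exact fun x hx => mem_centralizer_iff.2 fun z hz => (mem_centralizer_iff.1 hz.2 x hx).symm
  have hZn : Z.Normal := ⟨fun z hz g => by
    rwa [← mem_centralizer_iff.1 (hCZ.ge (mem_top g)) z hz, mul_inv_cancel_right]⟩
  have hZ1 : Z ≠ ⊥ := Frobenius.PComplement.inf_centralizer_ne_bot S.2 hS1
  -- no normal `p'`-subgroup
  have hO' : Cfsg.pPrimeCore p G = ⊥ := by
    by_contra hne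
    apply hG
    let M := Cfsg.pPrimeCore p G
    let f := QuotientGroup.mk' M
    have hM : ¬ p ∣ Nat.card M := Cores.not_dvd_card_pPrimeCore p
    have hlt : Nat.card (G ⧸ M) < Nat.card G := by
      have h1 := card_eq_card_quotient_mul_card_subgroup M
      have h2 : 2 ≤ Nat.card M := (one_lt_card_iff_ne_bot M).mpr hne
      have : 0 < Nat.card (G ⧸ M) := Nat.card_pos
      nlinarith
    refine hasNormalPComplement_of_quotient_pPrime hM
      (ih _ hlt (G ⧸ M) rfl (S.mapSurjective (QuotientGroup.mk'_surjective M)) ?_)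
    have hinj : Function.Injective (f.comp (S : Subgroup G).subtype) := by
      rw [← MonoidHom.ker_eq_bot_iff, eq_bot_iff_forall]
      intro x hx
      exact Subtype.ext (disjoint_def.mp (disjoint_of_not_dvd hM S.2)
        ((QuotientGroup.eq_one_iff (x : G)).mp hx) x.2)
    have hkerM : ¬ p ∣ Nat.card f.ker := by rwa [QuotientGroup.ker_mk']
    rw [Sylow.coe_mapSurjective]
    refine hnpc_map f (le_of_eq ?_) hS
    rw [Balance.map_normalizer_eq (QuotientGroup.mk'_surjective M) hkerM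
      (S.2.to_le (AbelianJ.thompsonSubgroupAOf_le _))]
    exact congrArg (fun X : Subgroup (G ⧸ M) => normalizer (X : Set (G ⧸ M)))
      ((ThompsonJA.functorA.{u} p).map_of_injOn f _ hinj).symm
  let Q := Cfsg.pCore p G
  have hQp : IsPGroup p Q := Cores.pCore_isPGroup p
  have hQS : Q ≤ (S : Subgroup G) := Cores.pCore_le_sylow S
  have hQ1 : Q ≠ ⊥ := fun h => hZ1 (le_bot_iff.1 (h ▸ Cores.le_pCore (hN := hZn) (S.2.to_le inf_le_left)))
  have hQne : Q ≠ (S : Subgroup G) := fun h => hG (jHyp_top inferInstance _ hS (by rw [← h]))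
  obtain ⟨A, hA, hAQ⟩ : ∃ A ∈ AbelianJ.maxAbIn (S : Subgroup G), ¬ A ≤ Q := by
    by_contra hcon
    push Not at hcon
    refine hG (jHyp_top (Q' := Q) inferInstance _ hS (AbelianJ.thompsonSubgroupAOf_eq_of_le hQS ?_))
    rw [AbelianJ.thompsonSubgroupAOf_eq]
    exact sSup_le hcon
  let f := QuotientGroup.mk' Q
  have hfs : Function.Surjective f := QuotientGroup.mk'_surjective Q
  let Sb : Sylow p (G ⧸ Q) := S.mapSurjective hfs
  have hSbne : (Sb : Subgroup (G ⧸ Q)) ≠ ⊥ := by
    rw [Sylow.coe_mapSurjective, Ne, Subgroup.map_eq_bot_iff, QuotientGroup.ker_mk']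
    exact fun h => hQne (le_antisymm hQS h)
  have hcore : Cfsg.pCore p (G ⧸ Q) = ⊥ := Cores.pCore_quotient_pCore p
  have hoverb : ∀ L : Subgroup (G ⧸ Q), (Sb : Subgroup (G ⧸ Q)) ≤ L → L ≠ ⊤ →
      Cfsg.HasNormalPComplement p (L.comap f) := by
    intro L hL hL1
    refine hover _ (fun x hx => hL (mem_map_of_mem f hx)) fun h => hL1 ?_
    rw [← map_comap_eq_self_of_surjective hfs L, h, map_top_of_surjective f hfs]
  have hGb : Cfsg.HasNormalPComplement p (G ⧸ Q) := by
    have hlt : Nat.card (G ⧸ Q) < Nat.card G := by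
      have h1 := card_eq_card_quotient_mul_card_subgroup Q
      have h2 : 2 ≤ Nat.card Q := (one_lt_card_iff_ne_bot Q).mpr hQ1
      have : 0 < Nat.card (G ⧸ Q) := Nat.card_pos
      nlinarith
    refine ih _ hlt (G ⧸ Q) rfl Sb ?_
    let J := Cfsg.thompsonSubgroupAOf (Sb : Subgroup (G ⧸ Q))
    refine hnpc_map f (A := (normalizer (J : Set (G ⧸ Q))).comap f)
      (by rw [map_comap_eq_self_of_surjective hfs]) (hoverb _ ?_ fun h => ?_)
    · exact le_normalizer.trans ((ThompsonJA.functorA.{u} p).normalizer_le _)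
    · refine AbelianJ.thompsonSubgroupAOf_ne_bot hSbne (le_bot_iff.mp (hcore ▸ ?_))
      exact Cores.le_pCore (hN := normalizer_eq_top_iff.mp h) (Sb.2.to_le (AbelianJ.thompsonSubgroupAOf_le _))
  let K := Cfsg.pResidual p (G ⧸ Q)
  have hKp : ¬ p ∣ Nat.card K := hasNormalPComplement_iff_not_dvd.mp hGb
  have hsol : Cfsg.IsPSolvable p G :=
    PSolvable.isPSolvable_of_extension Q (PSolvable.isPSolvable_of_isPGroup hQp)
      (PSolvable.isPSolvable_of_extension K
        (PSolvable.isPSolvable_of_coprime (hp.out.coprime_iff_not_dvd.mpr hKp).symm)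
        (PSolvable.isPSolvable_of_isPGroup isPGroup_quotient))
  have hCQ : centralizer (Q : Set G) ≤ Q := PSolvable.centralizer_pCore_le hsol hO'
  have hKStop : K ⊔ (Sb : Subgroup (G ⧸ Q)) = ⊤ := sup_sylow_eq_top Sb
  have hY : ∀ Y : Subgroup (G ⧸ Q), Y ≤ K →
      (Sb : Subgroup (G ⧸ Q)) ≤ normalizer (Y : Set (G ⧸ Q)) → Y = ⊥ ∨ Y = K := by
    intro Y hYK hPY
    have hYp : ¬ p ∣ Nat.card Y := fun h => hKp (h.trans (card_dvd_of_le hYK))
    by_cases hL : (Sb : Subgroup (G ⧸ Q)) ⊔ Y = ⊤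
    · right
      refine eq_of_le_of_card_ge hYK (le_of_eq ?_)
      have h1 := Lib.Coprime.card_sup_of_disjoint hPY (disjoint_of_not_dvd hYp Sb.2).symm
      rw [hL, card_top, ← (isComplement'_pResidual hGb Sb).card_mul_card, mul_comm] at h1
      exact Nat.eq_of_mul_eq_mul_left Nat.card_pos h1
    left
    have hLp := isPGroup_of_centralizes (hoverb _ le_sup_left hL) hQp
      (by intro q hq; rw [mem_comap, show f q = 1 from (QuotientGroup.eq_one_iff q).2 hq]; exact one_mem _) hCQ
    have hYP : IsPGroup p Y := (hLp.map f).to_le (by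
      rw [map_comap_eq_self_of_surjective hfs]; exact le_sup_right)
    obtain ⟨k, hk⟩ := IsPGroup.iff_card.mp hYP
    rw [← card_eq_one, hk]
    rcases Nat.eq_zero_or_pos k with h0 | h0
    · rw [h0, pow_zero]
    · exact absurd (hk ▸ dvd_pow_self p h0.ne') hYp
  have hKne : K ≠ ⊥ := by
    intro h
    rw [h, bot_sup_eq] at hKStop
    have hpg : IsPGroup p (G ⧸ Q) := by
      rw [← Cores.pCore_eq_top_iff]
      exact top_le_iff.mp (hKStop ▸ Cores.le_pCore (hN := by rw [hKStop]; infer_instance) Sb.2)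
    rw [← Cores.pCore_eq_top_iff, hcore] at hpg
    exact hSbne (le_bot_iff.mp (hpg ▸ le_top))
  obtain ⟨q, hq, hqd⟩ := Nat.exists_prime_and_dvd (fun h => hKne (card_eq_one.mp h))
  have := Fact.mk hq
  obtain ⟨W⟩ : Nonempty (Sylow q K) := inferInstance
  -- a Sylow `q`-subgroup of `K` invariant under `Sb`
  have hSK : (Sb : Subgroup (G ⧸ Q)) ≤ normalizer (K : Set (G ⧸ Q)) := by
    rw [normalizer_eq_top_iff.2 inferInstance]; exact le_top
  have hcopS : (Nat.card (Sb : Subgroup (G ⧸ Q))).Coprime (Nat.card K) := by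
    obtain ⟨k, hk⟩ := IsPGroup.iff_card.1 Sb.2
    rw [hk]
    exact Nat.Coprime.pow_left k (hp.out.coprime_iff_not_dvd.2 hKp)
  haveI := Sb.2.isNilpotent
  letI : MulDistribMulAction (Sb : Subgroup (G ⧸ Q)) K :=
    MulDistribMulAction.compHom K ((K.normalizerMonoidHom).comp (inclusion hSK))
  obtain ⟨W, hW⟩ := Lib.Coprime.Action.exists_invariant_sylow (A := (Sb : Subgroup (G ⧸ Q))) (G := K)
    hcopS (Or.inl inferInstance) q
  let W' : Subgroup (G ⧸ Q) := (W : Subgroup K).map K.subtype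
  have hWK : W' ≤ K := map_subtype_le _
  have hSW : (Sb : Subgroup (G ⧸ Q)) ≤ normalizer (W' : Set (G ⧸ Q)) := fun s hs =>
    mem_normalizer_fintype fun w hw => by
      obtain ⟨w, hw', rfl⟩ := hw
      exact ⟨(⟨s, hs⟩ : (Sb : Subgroup (G ⧸ Q))) • w, hW _ _ hw', rfl⟩
  have hKq : IsPGroup q K := by
    rcases hY W' hWK hSW with h | h
    · exfalso
      have hc : Nat.card W' = Nat.card (W : Subgroup K) := card_subtype _ _
      rw [h, card_bot] at hc
      exact W.not_dvd_index (by
        have := (W : Subgroup K).index_mul_card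
        rw [← hc, mul_one] at this
        rw [this]; exact hqd)
    · exact h ▸ W.2.map _
  have hKc : ∀ x ∈ K, ∀ y ∈ K, x * y = y * x := by
    have := hKq.isNilpotent
    have : Group.IsSolvable K := inferInstance
    rcases hY ⁅K, K⁆ (commutator_le_self K)
        (by rw [normalizer_eq_top_iff.mpr inferInstance]; exact le_top) with h | h
    · exact fun x hx y hy => commutatorElement_eq_one_iff_mul_comm.mp
        (mem_bot.mp (h ▸ commutator_mem_commutator hx hy))
    · exfalso
      have : Group.IsPerfect K := Subgroup.isPerfect_iff.mpr h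
      have : Nontrivial K := (nontrivial_iff_ne_bot K).mpr hKne
      exact Group.IsPerfect.not_isSolvable K inferInstance
  have hfaith : ∀ a ∈ (Sb : Subgroup (G ⧸ Q)), (∀ x ∈ K, Commute a x) → a = 1 := by
    intro a ha hax
    let D := (Sb : Subgroup (G ⧸ Q)) ⊓ centralizer (K : Set (G ⧸ Q))
    have hD : D.Normal := by
      rw [← normalizer_eq_top_iff, eq_top_iff, ← hKStop]
      refine sup_le (fun k hk => mem_normalizer_fintype fun d hd => ?_) ?_
      · have : k * d * k⁻¹ = d := by rw [mem_centralizer_iff.mp hd.2 k hk, mul_inv_cancel_right]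
        rwa [this]
      · refine le_trans (le_inf le_normalizer ?_) inf_normalizer_le_normalizer_inf
        rw [normalizer_eq_top_iff.mpr inferInstance]
        exact le_top
    have hm : a ∈ D := ⟨ha, mem_centralizer_iff.mpr fun x hx => (hax x hx).eq.symm⟩
    exact mem_bot.mp (hcore ▸ Cores.le_pCore (hN := hD) (Sb.2.to_le inf_le_left) hm)
  exact final hp5 S Q hQS hCQ K inferInstance hKc hKp hfaith hA hAQ


/-- Let p ≥ 5 be a prime, S a Sylow p-subgroup of the finite group G and J(S) the subgroup generated by the abelian subgroups of S of largest order. Then G has a normal p-complement if and only if N_G(J(S))/C_G(J(S)) is a p-group (every element of N_G(J(S)) of order prime to p centralizes J(S)). -/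
theorem result {G : Type*} [Group G] [Finite G] {p : ℕ} [Fact p.Prime]
    (hp : 5 ≤ p) (S : Sylow p G) :
    Cfsg.HasNormalPComplement p G ↔
      ∀ g ∈ Subgroup.normalizer (Cfsg.thompsonSubgroupAOf (S : Subgroup G) : Set G), (orderOf g).Coprime p →
        g ∈ Subgroup.centralizer (Cfsg.thompsonSubgroupAOf (S : Subgroup G) : Set G) := by
  set J := Cfsg.thompsonSubgroupAOf (S : Subgroup G) with hJ
  constructor
  · intro h g hg hgp
    exact centralizes_of_hnpc (S.2.to_le (AbelianJ.thompsonSubgroupAOf_le _)) (hasNormalPComplement_subgroup h _) hg hgp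
  · intro h
    refine hnpc_of_jHyp hp _ G rfl S (CharHyp.hasNormalPComplement_normalizer S fun g hg hgp x hx => ?_)
    rw [← mem_centralizer_iff.1 (h g hg hgp) x hx, mul_inv_cancel_right]

end Cfsg.Agent.S3070
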