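import Cfsg.Statements.S3073
import Cfsg.Agent.Lib.LA5.Basic
import Cfsg.Agent.Lib.ZJ.PComplement
import Cfsg.Agent.Lib.Transfer.Frobenius
-- import your own Cfsg.Agent.* helpers here

set_option autoImplicit false
universe u
open Cfsg

namespace Cfsg.Agent.S3073

open Subgroup Cfsg.Agent.Lib Cfsg.Agent.Lib.LA5.Basic

variable {p : ℕ} [hpF : Fact p.Prime]

/-- An element whose image has order prime to `p` has a power of order prime to `p` with the same image. -/
theorem exists_lift {A B : Type*} [Group A] [Finite A] [Group B] (f : A →* B) (x : A)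
    (hx : (orderOf (f x)).Coprime p) : ∃ y ∈ zpowers x, f y = f x ∧ (orderOf y).Coprime p := by
  obtain ⟨a, b, ha, hb, hab, -, ⟨k, hk⟩, hbp⟩ :=
    Transfer.PResidual.exists_pPart_mul_pPrimePart (p := p) x (isOfFinOrder_of_finite x)
  refine ⟨b, hb, ?_, hbp⟩
  obtain ⟨i, rfl⟩ := ha
  have h1 : orderOf (f (x ^ i)) ∣ orderOf (f x) := by
    rw [map_zpow]; exact orderOf_dvd_of_mem_zpowers ⟨i, rfl⟩
  have h2 : orderOf (f (x ^ i)) ∣ p ^ k := (orderOf_map_dvd f _).trans (orderOf_dvd_of_pow_eq_one hk)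
  have h3 : f (x ^ i) = 1 := orderOf_eq_one_iff.1
    (Nat.eq_one_of_dvd_coprimes (hx.pow_right k) h1 h2)
  conv_rhs => rw [← hab, map_mul, h3, one_mul]

/-- A `p'`-element moving `u` by a fixed `p`-element fixes it. -/
theorem fixes {A : Type*} [Group A] [Finite A] {g u z : A} (hg : (orderOf g).Coprime p)
    (hz : ∃ k : ℕ, z ^ p ^ k = 1) (hgz : g * z * g⁻¹ = z) (hgu : g * u * g⁻¹ = u * z) :
    g * u * g⁻¹ = u := by
  have key : ∀ n : ℕ, g ^ n * u * (g ^ n)⁻¹ = u * z ^ n := by
    intro n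
    induction n with
    | zero => simp
    | succ n ih =>
      calc g ^ (n + 1) * u * (g ^ (n + 1))⁻¹ = g * (g ^ n * u * (g ^ n)⁻¹) * g⁻¹ := by
            rw [pow_succ']; group
        _ = g * u * g⁻¹ * (g * z * g⁻¹) ^ n := by rw [ih, conj_pow]; group
        _ = u * z ^ (n + 1) := by rw [hgu, hgz, pow_succ', mul_assoc]
  have h1 := key (orderOf g)
  rw [pow_orderOf_eq_one] at h1
  simp only [one_mul, inv_one, mul_one, left_eq_mul] at h1
  obtain ⟨k, hk⟩ := hz
  have h3 : z = 1 := orderOf_eq_one_iff.1 (Nat.eq_one_of_dvd_coprimes (hg.symm.pow_left k)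
    (orderOf_dvd_of_pow_eq_one hk) (orderOf_dvd_of_pow_eq_one h1))
  rw [hgu, h3, mul_one]

theorem main (hp : p ≠ 2) (n : ℕ) : ∀ (S : Type u) [Group S] [Finite S], Nat.card S ≤ n → IsPGroup p S →
    ∃ K : Subgroup S, K.Characteristic ∧ centralizer (K : Set S) ≤ K ∧
      ∀ (G : Type u) [Group G] [Finite G] (P : Sylow p G) (f : S →* G), Function.Injective f →
        f.range = (P : Subgroup G) →
        (∀ g ∈ normalizer ((K.map f : Subgroup G) : Set G), (orderOf g).Coprime p →
          g ∈ centralizer ((K.map f : Subgroup G) : Set G)) → Cfsg.HasNormalPComplement p G := by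
  induction n with
  | zero => intro S _ _ h; exact absurd h (Nat.not_le.2 Nat.card_pos)
  | succ n ih =>
    intro S _ _ hcard hS
    rcases subsingleton_or_nontrivial S with hsub | hnt
    · refine ⟨⊤, inferInstance, le_top, fun G _ _ P f hf hfr _ => ?_⟩
      refine Transfer.PResidual.hasNormalPComplement_of_not_dvd fun hd => P.ne_bot_of_dvd_card hd ?_
      rw [← hfr, eq_bot_iff]
      rintro _ ⟨s, rfl⟩
      rw [Subsingleton.elim s 1, map_one]
      exact one_mem _
    set Z := Cfsg.centerThompsonAOf (⊤ : Subgroup S) with hZdef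
    have hZchar : ∀ φ : S ≃* S, Z.map φ.toMonoidHom = Z := fun φ => by
      rw [hZdef, ZJ.map_centerThompsonAOf φ.toMonoidHom φ.injective, map_top_of_surjective φ.toMonoidHom φ.surjective]
    have hZn : Z.Normal := ⟨fun z hz g => (hZchar (MulAut.conj g)).le ⟨z, hz, rfl⟩⟩
    have hZne : Z ≠ ⊥ := by
      haveI := hS.center_nontrivial
      intro h
      refine (nontrivial_iff_ne_bot (center S)).1 inferInstance (le_bot_iff.1 fun x hx => ?_)
      rw [← h]
      obtain ⟨A, hA⟩ := ZJ.maxAbIn_nonempty (⊤ : Subgroup S)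
      exact ⟨ZJ.le_thompsonSubgroupAOf hA
        (ZJ.mem_of_maxAbIn hA (mem_top x) fun a _ => mem_center_iff.1 hx a),
        mem_centralizer_iff.2 fun a _ => mem_center_iff.1 hx a⟩
    set C := centralizer (Z : Set S) with hCdef
    have hZC : Z ≤ C := fun x hx => mem_centralizer_iff.2 fun y hy => ZJ.centerA_comm hx hy.1
    have hCchar : ∀ φ : S ≃* S, C.map φ.toMonoidHom = C := by
      intro φ
      refine eq_of_le_of_card_ge ?_ (card_map_of_injective φ.injective).ge
      rintro _ ⟨c, hc, rfl⟩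
      rw [hCdef, mem_centralizer_iff]
      intro y hy
      obtain ⟨y', hy', rfl⟩ := (hZchar φ).ge hy
      rw [← map_mul, ← map_mul, mem_centralizer_iff.1 hc y' hy']
    haveI : Z.Normal := hZn
    set Z' := Z.subgroupOf C with hZ'
    have hlt : Nat.card (C ⧸ Z') < Nat.card S := by
      refine lt_of_lt_of_le ?_ (card_le_card_group C)
      rw [card_eq_card_quotient_mul_card_subgroup Z']
      refine lt_mul_of_one_lt_right Nat.card_pos ?_
      rw [Nat.card_congr (subgroupOfEquivOfLe hZC).toEquiv]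
      exact (one_lt_card_iff_ne_bot Z).2 hZne
    obtain ⟨K₀, hK₀, hK₀C, hK₀G⟩ := ih (C ⧸ Z') (by omega) ((hS.to_subgroup C).to_quotient Z')
    set Kc := K₀.comap (QuotientGroup.mk' Z') with hKc
    set K := Kc.map C.subtype with hK
    have hinv : ∀ φ : C ≃* C, (∀ z ∈ Z', φ z ∈ Z') → ∀ x ∈ Kc, φ x ∈ Kc := by
      intro φ hφ x hx
      have hφ' : Z'.map φ.toMonoidHom = Z' :=
        eq_of_le_of_card_ge (by rintro _ ⟨z, hz, rfl⟩; exact hφ z hz) (card_map_of_injective φ.injective).ge
      have := (characteristic_iff_map_eq.1 hK₀ (QuotientGroup.congr Z' Z' φ hφ')).le ⟨_, hx, rfl⟩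
      exact this
    have hKchar : K.Characteristic := by
      refine characteristic_iff_map_eq.2 fun φ => eq_of_le_of_card_ge ?_ (card_map_of_injective φ.injective).ge
      rintro _ ⟨_, ⟨x, hx, rfl⟩, rfl⟩
      let φC : C ≃* C := (φ.subgroupMap C).trans (MulEquiv.subgroupCongr (hCchar φ))
      exact ⟨φC x, hinv φC (fun z hz => (hZchar φ).le ⟨_, hz, rfl⟩) x hx, rfl⟩
    have hZK : Z ≤ K := fun z hz => by
      refine ⟨⟨z, hZC hz⟩, ?_, rfl⟩
      show QuotientGroup.mk' Z' ⟨z, hZC hz⟩ ∈ K₀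
      rw [show QuotientGroup.mk' Z' ⟨z, hZC hz⟩ = 1 from (QuotientGroup.eq_one_iff _).2 hz]
      exact one_mem _
    have hCK : centralizer (K : Set S) ≤ K := by
      intro x hx
      have hxC : x ∈ C := centralizer_le (SetLike.coe_subset_coe.2 hZK) hx
      refine ⟨⟨x, hxC⟩, hK₀C ?_, rfl⟩
      rw [mem_centralizer_iff]
      intro y hy
      obtain ⟨w, rfl⟩ := QuotientGroup.mk'_surjective Z' y
      rw [← map_mul, ← map_mul]
      exact congrArg _ (Subtype.ext (mem_centralizer_iff.1 hx w ⟨w, hy, rfl⟩))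
    refine ⟨K, hKchar, hCK, fun G _ _ P f hf hfr hcond => ?_⟩
    set ZG := Cfsg.centerThompsonAOf (P : Subgroup G) with hZG
    have hZGmap : Z.map f = ZG := by
      rw [hZdef, ZJ.map_centerThompsonAOf f hf, ← MonoidHom.range_eq_map, hfr]
    set N := normalizer (ZG : Set G) with hNdef
    set M := centralizer (ZG : Set G) with hMdef
    have hPN : (P : Subgroup G) ≤ N :=
      Subgroup.le_normalizer.trans (ZJ.normalizer_le_normalizer_centerThompsonA _)
    have hMN : M ≤ N := centralizer_le_normalizer _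
    set CG := C.map f with hCG
    have hPM : (P : Subgroup G) ⊓ M = CG := by
      apply le_antisymm
      · rintro x ⟨hxP, hxM⟩
        rw [← hfr] at hxP
        obtain ⟨s, rfl⟩ := hxP
        refine ⟨s, mem_centralizer_iff.2 fun z hz => hf ?_, rfl⟩
        rw [map_mul, map_mul]
        exact mem_centralizer_iff.1 hxM _ (hZGmap.le ⟨z, hz, rfl⟩)
      · rintro _ ⟨c, hc, rfl⟩
        refine ⟨hfr.le ⟨c, rfl⟩, mem_centralizer_iff.2 fun y hy => ?_⟩
        obtain ⟨z, hz, rfl⟩ := hZGmap.ge hy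
        rw [← map_mul, ← map_mul, mem_centralizer_iff.1 hc z hz]
    have hCGM : CG ≤ M := hPM ▸ inf_le_right
    have hMconj : ∀ g ∈ N, M.map (MulAut.conj g).toMonoidHom = M := fun g hg => by
      rw [hMdef, ← centralizer_conj, mem_normalizer_iff_conj_eq.1 hg]
    have hbound : ∀ U : Subgroup G, IsPGroup p U → U ≤ M → Nat.card U ≤ Nat.card CG := by
      intro U hU hUM
      obtain ⟨V, hV⟩ := (hU.comap_subtype (K := N)).exists_le_sylow
      obtain ⟨g, hg⟩ := MulAction.exists_smul_eq N (P.subtype hPN) V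
      rw [← hPM, ← card_conj (g : G) ((P : Subgroup G) ⊓ M)]
      refine card_le_of_le fun u hu => ?_
      rw [mem_conj_iff]
      have h1 := hV (show (⟨u, hMN (hUM hu)⟩ : N) ∈ U.subgroupOf N from hu)
      rw [← hg] at h1
      obtain ⟨w, hw, hwu⟩ := h1
      have hwu' : (g : G) * (w : G) * (g : G)⁻¹ = u := congrArg Subtype.val hwu
      refine ⟨?_, ?_⟩
      · rw [← hwu', show (g : G)⁻¹ * ((g : G) * (w : G) * (g : G)⁻¹) * (g : G) = (w : G) by group]
        exact hw
      · exact mem_conj_iff.1 ((hMconj g g.2).ge (hUM hu))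
    haveI hZGn : (ZG.subgroupOf M).Normal := ⟨fun z hz g => by
      have : g * z * g⁻¹ = z := Subtype.ext (by
        have h := mem_centralizer_iff.1 g.2 (z : G) hz
        show (g : G) * z * (g : G)⁻¹ = z
        rw [← h, mul_inv_cancel_right])
      rw [this]; exact hz⟩
    set π := QuotientGroup.mk' (ZG.subgroupOf M) with hπ
    obtain ⟨T, hT⟩ := ((hPM ▸ P.isPGroup'.to_le inf_le_left : IsPGroup p CG).comap_subtype (K := M)).exists_le_sylow
    have hTeq : (T : Subgroup M).map M.subtype = CG :=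
      (eq_of_le_of_card_ge (H := CG) (K := (T : Subgroup M).map M.subtype)
        (fun c hc => ⟨⟨c, hCGM hc⟩, hT hc, rfl⟩) (hbound _ (T.isPGroup'.map _) (map_subtype_le _))).symm
    let ι : C →* M := (f.comp C.subtype).codRestrict M fun c => hCGM ⟨c, c.2, rfl⟩
    let e' : C ⧸ Z' →* M ⧸ ZG.subgroupOf M := QuotientGroup.map Z' (ZG.subgroupOf M) ι
      (fun z hz => hZGmap.le ⟨_, hz, rfl⟩)
    have he' : Function.Injective e' := by
      rw [injective_iff_map_eq_one]
      intro x hx
      obtain ⟨c, rfl⟩ := QuotientGroup.mk'_surjective Z' x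
      have hx' : ι c ∈ ZG.subgroupOf M := (QuotientGroup.eq_one_iff (ι c)).1 hx
      obtain ⟨z, hz, hzc⟩ := hZGmap.ge hx'
      exact (QuotientGroup.eq_one_iff c).2 (show (c : S) ∈ Z from (hf hzc : z = c) ▸ hz)
    have her : e'.range = (T.mapSurjective (QuotientGroup.mk'_surjective (ZG.subgroupOf M)) :
        Subgroup (M ⧸ ZG.subgroupOf M)) := by
      ext y
      constructor
      · rintro ⟨x, rfl⟩
        obtain ⟨c, rfl⟩ := QuotientGroup.mk'_surjective Z' x
        refine ⟨ι c, ?_, rfl⟩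
        obtain ⟨w, hw, hwc⟩ := hTeq.ge (⟨c, c.2, rfl⟩ : f c ∈ CG)
        exact (Subtype.ext hwc : w = ι c) ▸ hw
      · rintro ⟨w, hw, rfl⟩
        obtain ⟨c, hc, hcw⟩ := hTeq.le (⟨w, hw, rfl⟩ : (w : G) ∈ (T : Subgroup M).map M.subtype)
        exact ⟨QuotientGroup.mk' Z' ⟨c, hc⟩, congrArg π (Subtype.ext hcw : ι ⟨c, hc⟩ = w)⟩
    have hZGp : IsPGroup p ZG := P.isPGroup'.to_le (ZJ.centerThompsonAOf_le _)
    -- the quotient of the centralizer
    have hQ : Cfsg.HasNormalPComplement p (M ⧸ ZG.subgroupOf M) := by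
      refine hK₀G _ _ e' he' her fun g hg hgp => ?_
      obtain ⟨x, rfl⟩ := QuotientGroup.mk'_surjective _ g
      obtain ⟨y, -, hyx, hyp⟩ := exists_lift π x hgp
      rw [← hyx] at hg ⊢
      have hyN : (y : G) ∈ normalizer ((K.map f : Subgroup G) : Set G) := by
        apply mem_normalizer_iff_conj_eq.2
        refine conj_eq_self_of_le ?_
        rintro _ ⟨_, ⟨_, ⟨k, hk, rfl⟩, rfl⟩, rfl⟩
        have h1 : π (y * ι k * y⁻¹) ∈ K₀.map e' := by
          rw [map_mul, map_mul, map_inv]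
          exact (mem_normalizer_iff.1 hg _).1 ⟨_, hk, rfl⟩
        obtain ⟨x', hx', hx''⟩ := h1
        obtain ⟨c, rfl⟩ := QuotientGroup.mk'_surjective Z' x'
        have h2 : (ι c)⁻¹ * (y * ι k * y⁻¹) ∈ ZG.subgroupOf M := QuotientGroup.eq.1 hx''
        obtain ⟨z, hz, hzc⟩ := hZGmap.ge h2
        refine ⟨c * z, K.mul_mem ⟨c, hx', rfl⟩ (hZK hz), ?_⟩
        rw [map_mul, hzc]
        show f c * ((f c)⁻¹ * ((y : G) * f k * (y : G)⁻¹)) = (y : G) * f k * (y : G)⁻¹
        group
      have hyC := hcond y hyN (by rwa [Subgroup.orderOf_coe])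
      rw [mem_centralizer_iff]
      rintro _ ⟨x', hx', rfl⟩
      obtain ⟨c, rfl⟩ := QuotientGroup.mk'_surjective Z' x'
      show π (ι c) * π y = π y * π (ι c)
      rw [← map_mul, ← map_mul]
      exact congrArg π (Subtype.ext (mem_centralizer_iff.1 hyC (f c) ⟨_, ⟨c, hx', rfl⟩, rfl⟩))
    -- the centralizer
    have hM : Cfsg.HasNormalPComplement p M := by
      refine Transfer.Frobenius.hasNormalPComplement_of_forall_centralizes fun U hU _ g hg hgp => ?_
      have hgU : π g ∈ normalizer ((U.map π : Subgroup (M ⧸ ZG.subgroupOf M)) : Set (M ⧸ ZG.subgroupOf M)) := by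
        apply mem_normalizer_iff_conj_eq.2
        refine conj_eq_self_of_le ?_
        rintro _ ⟨_, ⟨u, hu, rfl⟩, rfl⟩
        exact ⟨g * u * g⁻¹, (mem_normalizer_iff.1 hg u).1 hu, by simp⟩
      have h1 := Transfer.Frobenius.mem_centralizer_of_hasNormalPComplement hQ (hU.map π) hgU
        (hgp.coprime_dvd_left (orderOf_map_dvd π g))
      rw [mem_centralizer_iff]
      intro u hu
      have h2 := mem_centralizer_iff.1 h1 _ ⟨u, hu, rfl⟩
      have hz : u⁻¹ * (g * u * g⁻¹) ∈ ZG.subgroupOf M := by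
        rw [← QuotientGroup.eq_one_iff]
        show π (u⁻¹ * (g * u * g⁻¹)) = 1
        rw [map_mul, map_mul, map_mul, map_inv, map_inv, ← h2]
        group
      have h3 := fixes hgp (u := u) (z := u⁻¹ * (g * u * g⁻¹)) (by
          obtain ⟨k, hk⟩ := hZGp ⟨_, hz⟩
          exact ⟨k, Subtype.ext (by simpa using congrArg Subtype.val hk)⟩)
        (Subtype.ext (by
          have h := mem_centralizer_iff.1 g.2 ((u⁻¹ * (g * u * g⁻¹) : M) : G) hz
          show (g : G) * _ * (g : G)⁻¹ = _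
          rw [← h, mul_inv_cancel_right]))
        (by group)
      exact (mul_inv_eq_iff_eq_mul.1 h3).symm
    -- the normalizer
    refine ZJ.PComplement.hasNormalPComplement_of_functor hp (fun Q _ => ZJ.zjA Q) (ZJ.isCharPFunctor_zjA p)
      (fun X _ _ hX hc T' => by
        rw [ZJ.inducedFunctor_zjA]
        exact ZJ.centerThompsonAOf_normal hp hc (ZJ.stable_of_noSLTwo hp hX) T') P ?_
    rw [ZJ.inducedFunctor_zjA]
    have hkey : ∀ g : G, g ∈ N → (orderOf g).Coprime p → g ∈ M := by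
      intro g hg hgp
      have hgC : CG.map (MulAut.conj g).toMonoidHom ≤ M := (map_mono hCGM).trans (hMconj g hg).le
      have hCGp : IsPGroup p CG := hPM ▸ P.isPGroup'.to_le inf_le_left
      obtain ⟨T₂, hT₂⟩ := ((hCGp.map (MulAut.conj g).toMonoidHom).comap_subtype (K := M)).exists_le_sylow
      obtain ⟨m, hm⟩ := MulAction.exists_smul_eq M T₂ T
      have hy₀ : (m : G) * g ∈ normalizer (CG : Set G) := by
        apply mem_normalizer_iff_conj_eq.2
        refine conj_eq_self_of_le ?_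
        rintro _ ⟨c, hc, rfl⟩
        have h1 := hT₂ (show (⟨g * c * g⁻¹, hgC ⟨c, hc, rfl⟩⟩ : M) ∈ _ from ⟨c, hc, rfl⟩)
        have h2 : m * ⟨g * c * g⁻¹, hgC ⟨c, hc, rfl⟩⟩ * m⁻¹ ∈ (T : Subgroup M) := by
          rw [← hm]; exact ⟨_, h1, rfl⟩
        have h3 := hTeq.le ⟨_, h2, rfl⟩
        simpa [mul_assoc] using h3
      set M₀ := M.subgroupOf N with hM₀
      haveI : M₀.Normal := ⟨fun w hw v => (hMconj v v.2).le ⟨w, hw, rfl⟩⟩
      set y₀ : N := ⟨(m : G) * g, mul_mem (hMN m.2) hg⟩ with hy₀def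
      have himg : QuotientGroup.mk' M₀ y₀ = QuotientGroup.mk' M₀ ⟨g, hg⟩ := by
        rw [show y₀ = ⟨(m : G), hMN m.2⟩ * ⟨g, hg⟩ from rfl, map_mul,
          show QuotientGroup.mk' M₀ ⟨(m : G), hMN m.2⟩ = 1 from (QuotientGroup.eq_one_iff _).2 m.2, one_mul]
      obtain ⟨b, hb, hbeq, hbp⟩ := exists_lift (QuotientGroup.mk' M₀) y₀ (p := p) (by
        rw [himg]
        exact ((Subgroup.orderOf_mk g hg).symm ▸ hgp).coprime_dvd_left (orderOf_map_dvd _ _))
      suffices hbM : (b : G) ∈ M by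
        have h1 : QuotientGroup.mk' M₀ ⟨g, hg⟩ = 1 := by
          rw [← himg, ← hbeq]; exact (QuotientGroup.eq_one_iff b).2 hbM
        exact (QuotientGroup.eq_one_iff (⟨g, hg⟩ : N)).1 h1
      have hbC : (b : G) ∈ normalizer (CG : Set G) := by
        obtain ⟨i, rfl⟩ := hb
        simpa using zpow_mem hy₀ i
      -- the automorphism induced on `C`
      let eC := C.equivMapOfInjective f hf
      let φC : C ≃* C := eC.trans ((((MulAut.conj (b : G)).subgroupMap CG).trans
        (MulEquiv.subgroupCongr (mem_normalizer_iff_conj_eq.1 hbC))).trans eC.symm)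
      have hφ : ∀ c : C, f (φC c) = (b : G) * f c * (b : G)⁻¹ := fun c =>
        congrArg Subtype.val (eC.apply_symm_apply _)
      have hbK : (b : G) ∈ normalizer ((K.map f : Subgroup G) : Set G) := by
        apply mem_normalizer_iff_conj_eq.2
        refine conj_eq_self_of_le ?_
        rintro _ ⟨_, ⟨_, ⟨k, hk, rfl⟩, rfl⟩, rfl⟩
        refine ⟨_, ⟨φC k, hinv φC (fun z hz => ?_) k hk, rfl⟩, hφ k⟩
        have h1 : (b : G) * f z * (b : G)⁻¹ ∈ ZG := (mem_normalizer_iff.1 b.2 _).1 (hZGmap.le ⟨_, hz, rfl⟩)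
        rw [← hφ, ← hZGmap] at h1
        obtain ⟨z', hz', hzz⟩ := h1
        show (φC z : S) ∈ Z
        rwa [← hf hzz]
      have hbp' : (orderOf (b : G)).Coprime p := by rwa [Subgroup.orderOf_coe]
      have hbfix := mem_centralizer_iff.1 (hcond b hbK hbp')
      rw [hMdef, mem_centralizer_iff]
      intro y hy
      obtain ⟨s, hs, rfl⟩ := hZGmap.ge hy
      suffices hfix : ∀ c : C, (b : G) * f c * (b : G)⁻¹ = f c from
        (mul_inv_eq_iff_eq_mul.1 (hfix ⟨s, hZC hs⟩)).symm
      intro c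
      have hzK : ((c⁻¹ * φC c : C) : S) ∈ K := by
        refine hCK (mem_centralizer_iff.2 fun k hk => hf ?_)
        have hck : (c : S) * k * (c : S)⁻¹ ∈ K := by
          obtain ⟨k', hk', rfl⟩ := hk
          refine ⟨c * k' * c⁻¹, ?_, rfl⟩
          haveI : Kc.Normal := (normal_of_characteristic K₀).comap _
          exact (inferInstance : Kc.Normal).conj_mem k' hk' c
        have e1 : f k * (b : G) = (b : G) * f k := hbfix _ ⟨k, hk, rfl⟩
        have e2 : f ((c : S) * k * (c : S)⁻¹) * (b : G) = (b : G) * f ((c : S) * k * (c : S)⁻¹) :=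
          hbfix _ ⟨_, hck, rfl⟩
        simp only [Subgroup.coe_mul, InvMemClass.coe_inv, map_mul, map_inv, hφ] at e2 ⊢
        have e1' : (b : G)⁻¹ * f k * b = f k := by rw [mul_assoc, e1, inv_mul_cancel_left]
        calc f k * ((f c)⁻¹ * ((b : G) * f c * (b : G)⁻¹))
            = (f c)⁻¹ * (f c * f k * (f c)⁻¹ * (b : G)) * f c * (b : G)⁻¹ := by group
          _ = (f c)⁻¹ * ((b : G) * (f c * f k * (f c)⁻¹)) * f c * (b : G)⁻¹ := by rw [e2]
          _ = (f c)⁻¹ * (b : G) * f c * (f k * (b : G)⁻¹) := by group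
          _ = (f c)⁻¹ * (b : G) * f c * ((b : G)⁻¹ * ((b : G) * f k) * (b : G)⁻¹) := by group
          _ = (f c)⁻¹ * ((b : G) * f c * (b : G)⁻¹) * f k := by rw [← e1]; group
      have hfz : f ((c⁻¹ * φC c : C) : S) = (f c)⁻¹ * ((b : G) * f c * (b : G)⁻¹) := by
        rw [Subgroup.coe_mul, InvMemClass.coe_inv, map_mul, map_inv, hφ]
      refine fixes hbp' (z := f ((c⁻¹ * φC c : C) : S)) ?_ ?_ ?_
      · obtain ⟨k, hk⟩ := hS ((c⁻¹ * φC c : C) : S)
        exact ⟨k, by rw [← map_pow, hk, map_one]⟩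
      · rw [← hbfix _ ⟨_, hzK, rfl⟩, mul_inv_cancel_right]
      · rw [hfz, mul_inv_cancel_left]
    refine Transfer.PResidual.hasNormalPComplement_iff_not_dvd.2 fun hd => ?_
    have hle : Cfsg.pResidual p N ≤ (Cfsg.pResidual p M).map (Subgroup.inclusion hMN) :=
      Transfer.PResidual.pResidual_le_iff.2 fun g hg => ⟨⟨g, hkey g g.2 (by rwa [Subgroup.orderOf_coe])⟩,
        Transfer.PResidual.mem_pResidual (by rwa [← Subgroup.orderOf_coe, Subgroup.orderOf_coe g]), rfl⟩
    refine Transfer.PResidual.hasNormalPComplement_iff_not_dvd.1 hM (hd.trans ?_)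
    exact (card_dvd_of_le hle).trans (dvd_of_eq (card_map_of_injective (Subgroup.inclusion_injective hMN)))

/-- For an odd prime p, every finite p-group S has a characteristic subgroup K with C_S(K) ≤ K such that, whenever S is (isomorphic to) a Sylow p-subgroup of a finite group G, G has a normal p-complement if and only if N_G(K)/C_G(K) is a p-group, i.e. every element of N_G(K) of order prime to p centralizes K (K transported into G along the isomorphism). -/
theorem result (p : ℕ) [Fact p.Prime] (hp : p ≠ 2)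
    (S : Type u) [Group S] [Finite S] (hS : IsPGroup p S) :
    ∃ K : Subgroup S, K.Characteristic ∧ Subgroup.centralizer (K : Set S) ≤ K ∧
      ∀ (G : Type u) [Group G] [Finite G] (P : Sylow p G) (e : ↥(P : Subgroup G) ≃* S),
        Cfsg.HasNormalPComplement p G ↔
          ∀ g ∈ Subgroup.normalizer (((K.comap (e : ↥(P : Subgroup G) →* S)).map (P : Subgroup G).subtype : Subgroup G) : Set G),
            (orderOf g).Coprime p →
              g ∈ Subgroup.centralizer (((K.comap (e : ↥(P : Subgroup G) →* S)).map (P : Subgroup G).subtype : Subgroup G) : Set G) := by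
  obtain ⟨K, hK, hC, hG⟩ := main hp _ S le_rfl hS
  refine ⟨K, hK, hC, fun G _ _ P e => ⟨fun h g hg hgp => ?_, fun h => ?_⟩⟩
  · exact Transfer.Frobenius.mem_centralizer_of_hasNormalPComplement h
      (((P.isPGroup'.to_subgroup _)).map _) hg hgp
  · refine hG G P ((P : Subgroup G).subtype.comp e.symm.toMonoidHom)
      ((P : Subgroup G).subtype_injective.comp e.symm.injective) ?_ ?_
    · rw [MonoidHom.range_comp, MonoidHom.range_eq_top.2 e.symm.surjective, ← MonoidHom.range_eq_map, range_subtype]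
    · rw [← map_map,
        show K.map e.symm.toMonoidHom = K.comap (e : ↥(P : Subgroup G) →* S) from K.map_equiv_eq_comap_symm e.symm]
      exact h

end Cfsg.Agent.S3073
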