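import Cfsg.Statements.S3075
import Cfsg.Agent.Lib.LA5.Basic
import Mathlib.FieldTheory.Finite.Basic
import Mathlib.GroupTheory.SpecificGroups.Cyclic
import Mathlib.Tactic.LinearCombination
import Mathlib.Tactic.IntervalCases

set_option autoImplicit false
open Cfsg

namespace Cfsg.Agent.S3075

open Cfsg.Agent.Lib.LA5.Basic


/-- Let p be an odd prime and N a finite group with a normal elementary abelian subgroup A of order p² that is its own centralizer in N, such that N/A is isomorphic to SL₂(p) (over any field F with p elements). Then N splits over A: some subgroup U of N satisfies A ∩ U = 1 and AU = N. -/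
theorem result {N : Type*} [Group N] [Finite N] {p : ℕ} [Fact p.Prime] (hp : p ≠ 2)
    (A : Subgroup N) [A.Normal] (hAcomm : IsMulCommutative A) (hAcard : Nat.card A = p ^ 2) (hAexp : Monoid.exponent ↥A = p)
    (hAself : Subgroup.centralizer (A : Set N) = A)
    {F : Type*} [Field F] [Fintype F] (hF : Fintype.card F = p) (e : N ⧸ A ≃* Matrix.SpecialLinearGroup (Fin 2) F) :
    ∃ U : Subgroup N, A ⊓ U = ⊥ ∧ A ⊔ U = ⊤ := by
  classical
  have hpP : p.Prime := Fact.out
  obtain ⟨a, b, hab⟩ : ∃ a b : F, a ^ 2 + b ^ 2 = -1 := by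
    haveI : CharP F p := by
      obtain ⟨⟨n, hn⟩, hq⟩ : (∃ n : ℕ+, Fintype.card F = ringChar F ^ (n : ℕ)) ∧ True := by
        obtain ⟨n, -, hn⟩ := FiniteField.card F (ringChar F)
        exact ⟨⟨n, hn⟩, trivial⟩
      have hchar : (ringChar F).Prime := CharP.char_is_prime F (ringChar F)
      rw [hF] at hn
      have : ringChar F = p := ((Nat.prime_dvd_prime_iff_eq hchar hpP).mp (hn ▸ dvd_pow_self _ n.pos.ne'))
      rw [← this]; infer_instance
    obtain ⟨a, b, h⟩ := ZMod.sq_add_sq p (-1)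
    refine ⟨ZMod.castHom (dvd_refl p) F a, ZMod.castHom (dvd_refl p) F b, ?_⟩
    rw [← map_pow, ← map_pow, ← map_add, h, map_neg, map_one]
  let xm : Matrix.SpecialLinearGroup (Fin 2) F :=
    ⟨!![a, b; b, -a], by rw [Matrix.det_fin_two_of]; linear_combination -hab⟩
  let wm : Matrix.SpecialLinearGroup (Fin 2) F :=
    ⟨!![0, 1; -1, 0], by rw [Matrix.det_fin_two_of]; ring⟩
  have hanti : xm * wm = -(wm * xm) := by
    apply Subtype.ext
    rw [Matrix.SpecialLinearGroup.coe_mul, Matrix.SpecialLinearGroup.coe_neg,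
      Matrix.SpecialLinearGroup.coe_mul]
    simp [xm, wm, Matrix.mul_fin_two]
  let μ : Matrix.SpecialLinearGroup (Fin 2) F := -1
  have hμ2 : μ * μ = 1 := by simp [μ]
  have hmz : xm * wm * xm⁻¹ * wm⁻¹ = μ := by
    have h : xm * wm = μ * (wm * xm) := by rw [hanti]; simp [μ]
    rw [h]; group
  have h2F : (2 : F) ≠ 0 := by
    intro h
    have h2 : ringChar F = 2 := (CharP.ringChar_of_prime_eq_zero Nat.prime_two (by exact_mod_cast h))
    have := FiniteField.even_card_of_char_two h2
    rw [hF] at this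
    exact hp ((Nat.Prime.even_iff hpP).mp (Nat.even_iff.mpr this))
  have hμne : μ ≠ 1 := by
    intro h
    have h' := congrArg (fun m : Matrix.SpecialLinearGroup (Fin 2) F => (m : Matrix (Fin 2) (Fin 2) F) 0 0) h
    simp [μ] at h'
    exact h2F (by linear_combination -h')
  let π : N →* Matrix.SpecialLinearGroup (Fin 2) F := e.toMonoidHom.comp (QuotientGroup.mk' A)
  have hπ : Function.Surjective π := e.surjective.comp (QuotientGroup.mk'_surjective A)
  have hker : ∀ y, π y = 1 ↔ y ∈ A := fun y => by simp [π]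
  have hmod : ∀ y z, π y = π z → y⁻¹ * z ∈ A := fun y z h => by
    rw [← hker, map_mul, map_inv, h, inv_mul_cancel]
  have hApow : ∀ y ∈ A, y ^ p = 1 := fun y hy => by
    have h := Monoid.pow_exponent_eq_one (⟨y, hy⟩ : A)
    rw [hAexp] at h
    exact congrArg Subtype.val h
  obtain ⟨k, hk⟩ : ∃ k, p = 2 * k + 1 := hpP.odd_of_ne_two hp
  obtain ⟨y, hy⟩ := hπ μ
  have hy2 : (y * y) ∈ A := by rw [← hker, map_mul, hy, hμ2]
  set t := y ^ p with ht
  have htt : t * t = 1 := by
    have : Commute y y := Commute.refl y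
    rw [ht, ← this.mul_pow, hApow _ hy2]
  have hπt : π t = μ := by
    rw [ht, map_pow, hy, hk, pow_succ, pow_mul, sq, hμ2, one_pow, one_mul]
  have hAc : ∀ u ∈ A, ∀ v ∈ A, u * v = v * u := fun u hu v hv =>
    congrArg Subtype.val (hAcomm.is_comm.comm (⟨u, hu⟩ : A) ⟨v, hv⟩)
  set C := Subgroup.centralizer ({t} : Set N) with hC
  -- `N = A C`: involutions in `t A` are conjugate to `t` under `A`
  have hfrat : ∀ n : N, ∃ c ∈ A, c * n ∈ C := by
    intro n
    obtain ⟨d, hd, hdA⟩ : ∃ d, n * t * n⁻¹ = t * d ∧ d ∈ A := by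
      refine ⟨t⁻¹ * (n * t * n⁻¹), by group, hmod _ _ ?_⟩
      simp only [map_mul, map_inv, hπt]
      have hcen : π n * μ = μ * π n := by simp [μ]
      rw [hcen, mul_inv_cancel_right]
    have hinv : (t * d) * (t * d) = 1 := by
      rw [← hd]
      calc n * t * n⁻¹ * (n * t * n⁻¹) = n * (t * t) * n⁻¹ := by group
        _ = 1 := by rw [htt]; group
    have hdt : d * t = t * d⁻¹ := by
      calc d * t = (t * t) * (d * t) * (d * d⁻¹) := by rw [htt]; group
        _ = t * ((t * d) * (t * d)) * d⁻¹ := by group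
        _ = t * d⁻¹ := by rw [hinv, mul_one]
    -- `c = d ^ j` with `d ^ (2 j) = d`
    refine ⟨d ^ (k + 1), A.pow_mem hdA _, ?_⟩
    rw [hC, Subgroup.mem_centralizer_singleton_iff]
    have hpk : ∀ m : ℕ, d ^ m * t = t * (d ^ m)⁻¹ := by
      intro m
      induction m with
      | zero => simp
      | succ m ih =>
        rw [pow_succ, mul_assoc, hdt, ← mul_assoc, ih, mul_assoc, ← mul_inv_rev, ← pow_succ', pow_succ]
    have hnt : n * t = t * d * n := by rw [← hd]; group
    calc d ^ (k + 1) * n * t = d ^ (k + 1) * (t * d * n) := by rw [mul_assoc, hnt]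
      _ = (d ^ (k + 1) * t) * (d * n) := by group
      _ = t * ((d ^ (k + 1))⁻¹ * d) * n := by rw [hpk]; group
      _ = t * d ^ (k + 1) * n := by
        congr 2
        rw [inv_mul_eq_iff_eq_mul, ← pow_add, show k + 1 + (k + 1) = p + 1 by omega, pow_succ,
          hApow d hdA, one_mul]
      _ = t * (d ^ (k + 1) * n) := by group
  have htop : A ⊔ C = ⊤ := by
    rw [eq_top_iff]
    intro n _
    obtain ⟨c, hc, hcn⟩ := hfrat n
    have := mul_mem (Subgroup.mem_sup_left (T := C) (A.inv_mem hc)) (Subgroup.mem_sup_right (S := A) hcn)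
    rwa [← mul_assoc, inv_mul_cancel, one_mul] at this
  refine ⟨C, ?_, htop⟩
  by_contra hF0
  set F0 := A ⊓ C with hF0def
  -- `t` does not centralise `A`
  have htA : ¬ A ≤ C := by
    intro h
    have : t ∈ Subgroup.centralizer (A : Set N) := fun u hu =>
      Subgroup.mem_centralizer_singleton_iff.mp (h hu)
    rw [hAself] at this
    exact hμne (hπt ▸ (hker t).mpr this)
  have hF0n : F0.Normal := by
    rw [← Subgroup.normalizer_eq_top_iff, eq_top_iff, ← htop]
    refine sup_le ?_ ?_
    · intro u hu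
      rw [Subgroup.mem_normalizer_iff]
      intro f
      constructor
      · intro hf
        rwa [hAc u hu f hf.1, mul_inv_cancel_right]
      · intro hf
        have hfA : f ∈ A := by
          have := A.mul_mem (A.mul_mem (A.inv_mem hu) hf.1) hu
          simpa [mul_assoc] using this
        rwa [hAc u hu f hfA, mul_inv_cancel_right] at hf
    · intro c hc
      rw [mem_normalizer_iff_conj_eq]
      refine conj_eq_self_of_le ?_
      rintro _ ⟨f, hf, rfl⟩
      exact ⟨Subgroup.Normal.conj_mem inferInstance f hf.1 c,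
        C.mul_mem (C.mul_mem hc hf.2) (C.inv_mem hc)⟩
  have hFlt : F0 < A := lt_of_le_of_ne inf_le_left fun h => htA (inf_eq_left.mp h)
  have hFcard : Nat.card F0 = p := by
    have hdvd : Nat.card F0 ∣ p ^ 2 := hAcard ▸ Subgroup.card_dvd_of_le hFlt.le
    obtain ⟨i, hi, hcard⟩ := (Nat.dvd_prime_pow hpP).mp hdvd
    interval_cases i
    · exact absurd (F0.eq_bot_of_card_eq (by simpa using hcard)) hF0
    · simpa using hcard
    · exact absurd (Subgroup.eq_of_le_of_card_ge hFlt.le (by rw [hcard, hAcard])) hFlt.ne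
  -- commutators centralise normal subgroups of prime order
  have hcyc : ∀ (M : Type _) [Group M] (Z : Subgroup M) [Z.Normal] [Finite M], Nat.card Z = p →
      ∀ u v : M, ∀ z ∈ Z, (u * v * u⁻¹ * v⁻¹) * z = z * (u * v * u⁻¹ * v⁻¹) := by
    intro M _ Z _ _ hZ u v z hz
    haveI : IsCyclic Z := isCyclic_of_prime_card hZ
    let φ : M →* MulAut Z := MulAut.conjNormal
    have hcomm : ∀ σ τ : MulAut Z, σ * τ = τ * σ := fun σ τ => by
      obtain ⟨i, hi⟩ := MonoidHom.map_cyclic σ.toMonoidHom
      obtain ⟨j, hj⟩ := MonoidHom.map_cyclic τ.toMonoidHom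
      refine MulEquiv.ext fun q => ?_
      show σ (τ q) = τ (σ q)
      have hi' : ∀ q, σ q = q ^ i := hi
      have hj' : ∀ q, τ q = q ^ j := hj
      simp only [hi', hj', ← zpow_mul, mul_comm]
    have h1 : φ (u * v * u⁻¹ * v⁻¹) = 1 := by
      rw [map_mul, map_mul, map_mul, map_inv, map_inv, hcomm (φ u) (φ v)]
      group
    have h2 := congrArg Subtype.val (DFunLike.congr_fun h1 ⟨z, hz⟩)
    simp only [φ, MulAut.conjNormal_apply, MulAut.one_apply] at h2
    calc _ = (u * v * u⁻¹ * v⁻¹) * z * (u * v * u⁻¹ * v⁻¹)⁻¹ * (u * v * u⁻¹ * v⁻¹) := by group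
      _ = z * _ := by rw [h2]
  obtain ⟨x', hx'⟩ := hπ xm
  obtain ⟨w', hw'⟩ := hπ wm
  set c := x' * w' * x'⁻¹ * w'⁻¹ with hc
  have hct : c⁻¹ * t ∈ A := hmod _ _ (by rw [hc, hπt, ← hmz]; simp only [map_mul, map_inv, hx', hw'])
  -- `c` and hence `t` centralises `A / F0`
  haveI := hF0n
  let f := QuotientGroup.mk' F0
  have hmapcard : Nat.card (A.map f) = p := by
    have h1 := Subgroup.card_eq_card_quotient_mul_card_subgroup (F0.subgroupOf A)
    rw [hAcard, Nat.card_congr (Subgroup.subgroupOfEquivOfLe hFlt.le).toEquiv, hFcard] at h1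
    have h3 : (f.domRestrict A).ker = F0.subgroupOf A := by
      ext q
      simp [f, MonoidHom.mem_ker, Subgroup.mem_subgroupOf]
    have h4 : (f.domRestrict A).range = A.map f := MonoidHom.domRestrict_range A f
    rw [← h4, ← Nat.card_congr (QuotientGroup.quotientKerEquivRange _).toEquiv, h3]
    exact (Nat.eq_of_mul_eq_mul_right hpP.pos (h1.symm.trans (sq p)))
  haveI : (A.map f).Normal := Subgroup.Normal.map inferInstance f (QuotientGroup.mk'_surjective F0)
  have htact : ∀ u ∈ A, t * u * t⁻¹ * u⁻¹ ∈ F0 := by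
    intro u hu
    rw [← QuotientGroup.eq_one_iff]
    show f (t * u * t⁻¹ * u⁻¹) = 1
    have h1 := hcyc (N ⧸ F0) (A.map f) hmapcard (f x') (f w') (f u) ⟨u, hu, rfl⟩
    simp only [← map_inv, ← map_mul, ← hc] at h1
    have e : t * u * t⁻¹ * u⁻¹ = c * ((c⁻¹ * t) * u * (c⁻¹ * t)⁻¹) * c⁻¹ * u⁻¹ := by group
    rw [e, hAc _ hct u hu, mul_inv_cancel_right, map_mul, map_mul, map_inv, h1, ← map_inv, ← map_mul,
      ← map_mul]
    simp
  apply htA
  intro u hu
  rw [hC, Subgroup.mem_centralizer_singleton_iff]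
  set d := t * u * t⁻¹ * u⁻¹ with hd
  have hdt : d * t = t * d := Subgroup.mem_centralizer_singleton_iff.mp (htact u hu).2
  have hdd : d * d = 1 := by
    have htinv : t⁻¹ = t := inv_eq_of_mul_eq_one_left htt
    have e1 : t * u * t⁻¹ = d * u := by rw [hd]; group
    have e2 : t * (t * u * t⁻¹) * t⁻¹ = u := by
      calc t * (t * u * t⁻¹) * t⁻¹ = (t * t) * u * (t * t)⁻¹ := by group
        _ = u := by rw [htt]; group
    have e3 : t * (t * u * t⁻¹) * t⁻¹ = d * (d * u) := by
      rw [e1, ← mul_assoc, ← hdt, mul_assoc, mul_assoc, ← mul_assoc t u, e1]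
    rw [e2, ← mul_assoc] at e3
    exact mul_eq_right.mp e3.symm
  have hd1 : d = 1 := by
    have h1 := hApow d (htact u hu).1
    rwa [hk, pow_succ, pow_mul, sq, hdd, one_pow, one_mul] at h1
  calc u * t = d * u * t := by rw [hd1, one_mul]
    _ = t * u * t⁻¹ * u⁻¹ * u * t := by rw [hd]
    _ = t * u := by group

end Cfsg.Agent.S3075
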