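import Cfsg.Statements.S3076
import Cfsg.Agent.Lib.PLocal.Thompson
import Cfsg.Agent.Lib.Cores.Basic
import Mathlib.GroupTheory.SchurZassenhaus

set_option autoImplicit false
open Cfsg

namespace Cfsg.Agent.S3076

open Subgroup Cfsg.Agent.Lib

variable {M : Type*} [Group M] [Finite M] {p : ℕ} [hp : Fact p.Prime]

theorem mem_comap_pCore {N : Subgroup M} [N.Normal] (T : Subgroup M) [T.Normal]
    (hT : ∀ x ∈ T, ∃ j : ℕ, x ^ p ^ j ∈ N) : T ≤ (Cfsg.pCore p (M ⧸ N)).comap (QuotientGroup.mk' N) := by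
  refine map_le_iff_le_comap.1 ?_
  haveI : (T.map (QuotientGroup.mk' N)).Normal :=
    Subgroup.Normal.map inferInstance _ (QuotientGroup.mk'_surjective N)
  refine Cores.le_pCore ?_
  rintro ⟨_, x, hx, rfl⟩
  obtain ⟨j, hj⟩ := hT x hx
  refine ⟨j, Subtype.ext ?_⟩
  show (QuotientGroup.mk' N x) ^ p ^ j = 1
  rw [← map_pow]
  exact (QuotientGroup.eq_one_iff _).2 hj

theorem pow_mem_of_mem_comap_pCore {N : Subgroup M} [N.Normal] {x : M}
    (hx : x ∈ (Cfsg.pCore p (M ⧸ N)).comap (QuotientGroup.mk' N)) : ∃ j : ℕ, x ^ p ^ j ∈ N := by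
  obtain ⟨j, hj⟩ := Cores.pCore_isPGroup p ⟨_, hx⟩
  refine ⟨j, (QuotientGroup.eq_one_iff _).1 ?_⟩
  show QuotientGroup.mk' N (x ^ p ^ j) = 1
  rw [map_pow]
  exact congrArg Subtype.val hj

theorem main (H C R : Subgroup M) [H.Normal] [C.Normal] (hC : C = centralizer (H : Set M))
    (hR : IsPGroup p R) (hRi : ¬ p ∣ R.index) (hHR : H ≤ R) :
    (H ≤ (Cfsg.pCore p (M ⧸ C)).comap (QuotientGroup.mk' C) ∧
      ¬ p ∣ H.relIndex ((Cfsg.pCore p (M ⧸ C)).comap (QuotientGroup.mk' C))) ↔
    (R ⊓ C ≤ H ∧ Cfsg.pPrimePCore p M = H ⊔ C) := by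
  set K := (Cfsg.pCore p (M ⧸ C)).comap (QuotientGroup.mk' C) with hK
  set O := Cfsg.pPrimeCore p M with hO
  have hHp : IsPGroup p H := hR.to_le hHR
  have hHK : H ≤ K := mem_comap_pCore H fun x hx => by
    obtain ⟨j, hj⟩ := hHp ⟨x, hx⟩
    refine ⟨j, ?_⟩
    rw [show x ^ p ^ j = 1 from congrArg Subtype.val hj]
    exact one_mem _
  have hCK : C ≤ K := fun x hx => by
    rw [hK, mem_comap, show QuotientGroup.mk' C x = 1 from (QuotientGroup.eq_one_iff x).2 hx]
    exact one_mem _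
  have hOn : O.Normal := inferInstance
  have hOC : O ≤ C := fun x hx => by
    rw [hC, mem_centralizer_iff]
    intro y hy
    refine (commute_of_normal_of_disjoint H O inferInstance hOn ?_ y x hy hx).eq
    exact disjoint_iff.2 (le_bot_iff.1 ((inf_le_inf_right O (Cores.le_pCore hHp)).trans
      (Cores.pCore_inf_pPrimeCore p).le))
  have hPK : Cfsg.pPrimePCore p M ≤ K := by
    haveI : (Cfsg.pPrimePCore p M).Normal := Subgroup.Normal.comap inferInstance _
    exact mem_comap_pCore _ fun x hx => (pow_mem_of_mem_comap_pCore hx).imp fun j hj => hOC hj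
  have hCp : ¬ p ∣ R.relIndex C := fun hd =>
    PLocal.not_dvd_relIndex_inf (hR.toSylow hRi) C (by rw [inf_relIndex_right]; exact hd)
  have hCO : R ⊓ C ≤ H → C ≤ H ⊔ O := by
    intro hle
    have hrel : ¬ p ∣ H.relIndex C := fun hd => hCp (hd.trans (by
      have h := relIndex_dvd_of_le_left C hle
      rwa [inf_relIndex_right] at h))
    set Z := H.subgroupOf C with hZ
    have hZc : ∀ z ∈ Z, ∀ w : C, z * w = w * z := fun z hz w => Subtype.ext
      (mem_centralizer_iff.1 (hC ▸ w.2 : (w : M) ∈ centralizer (H : Set M)) z hz)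
    have hZp : IsPGroup p Z := hHp.comap_subtype
    obtain ⟨m, hm⟩ := IsPGroup.iff_card.1 hZp
    have hcop : Nat.Coprime (Nat.card Z) Z.index := by
      rw [hm]; exact Nat.Coprime.pow_left _ ((hp.out.coprime_iff_not_dvd).2 hrel)
    obtain ⟨W, hW⟩ := exists_right_complement'_of_coprime hcop
    have hWcard : Nat.card W = Z.index := by
      have h1 := hW.card_mul
      rw [← card_mul_index Z] at h1
      exact Nat.eq_of_mul_eq_mul_left Nat.card_pos h1
    have hdec : ∀ x : C, ∃ z ∈ Z, ∃ w ∈ W, z * w = x := fun x => by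
      obtain ⟨⟨z, w⟩, h⟩ := hW.2 x
      exact ⟨z, z.2, w, w.2, h⟩
    have hchar : ∀ x : C, x ^ Nat.card W = 1 ↔ x ∈ W := by
      intro x
      refine ⟨fun hx => ?_, fun hx => congrArg Subtype.val (pow_card_eq_one' (x := (⟨x, hx⟩ : W)))⟩
      obtain ⟨z, hz, w, hw, rfl⟩ := hdec x
      rw [(show Commute z w from hZc z hz w).mul_pow,
        show w ^ Nat.card W = 1 from congrArg Subtype.val (pow_card_eq_one' (x := (⟨w, hw⟩ : W))), mul_one] at hx
      have h1 : z = 1 := by
        rw [← orderOf_eq_one_iff, ← Nat.dvd_one, ← hcop]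
        exact Nat.dvd_gcd (orderOf_mk z hz ▸ orderOf_dvd_natCard (⟨z, hz⟩ : Z))
          (hWcard ▸ orderOf_dvd_of_pow_eq_one hx)
      rw [h1, one_mul]; exact hw
    haveI : (W.map C.subtype).Normal := ⟨by
      rintro _ ⟨w, hw, rfl⟩ g
      refine ⟨⟨g * w * g⁻¹, Normal.conj_mem inferInstance _ w.2 g⟩, (hchar _).1 (Subtype.ext ?_), rfl⟩
      show (g * (w : M) * g⁻¹) ^ Nat.card W = 1
      rw [conj_pow, show (w : M) ^ Nat.card W = 1 from congrArg Subtype.val ((hchar w).2 hw)]
      group⟩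
    have hWO : W.map C.subtype ≤ O := Cores.le_pPrimeCore_of_not_dvd (by
      rw [card_map_of_injective C.subtype_injective, hWcard]; exact hrel)
    intro x hx
    obtain ⟨z, hz, w, hw, h⟩ := hdec ⟨x, hx⟩
    rw [show x = (z : M) * w from (congrArg Subtype.val h).symm]
    exact mul_mem (mem_sup_left hz) (mem_sup_right (hWO ⟨w, hw, rfl⟩))
  have hKP : R ⊓ C ≤ H → K ≤ Cfsg.pPrimePCore p M := by
    intro hle
    haveI : K.Normal := Subgroup.Normal.comap inferInstance _
    haveI := hOn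
    refine mem_comap_pCore K fun x hx => ?_
    obtain ⟨j, hj⟩ := pow_mem_of_mem_comap_pCore hx
    have h1 : x ^ p ^ j ∈ ((H ⊔ O : Subgroup M) : Set M) := hCO hle hj
    rw [mul_normal] at h1
    obtain ⟨h₀, hh₀, o, ho, e⟩ := h1
    obtain ⟨i, hi⟩ := hHp ⟨h₀, hh₀⟩
    refine ⟨j + i, ?_⟩
    rw [pow_add, pow_mul, ← e]
    refine (QuotientGroup.eq_one_iff _).1 ?_
    show QuotientGroup.mk' (Cfsg.pPrimeCore p M) ((h₀ * o) ^ p ^ i) = 1
    rw [map_pow, map_mul, show QuotientGroup.mk' (Cfsg.pPrimeCore p M) o = 1 from (QuotientGroup.eq_one_iff o).2 ho,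
      mul_one, ← map_pow, show h₀ ^ p ^ i = 1 from congrArg Subtype.val hi, map_one]
  have hPHC : R ⊓ C ≤ H → H ⊔ C ≤ Cfsg.pPrimePCore p M := fun hle =>
    (sup_le hHK hCK).trans (hKP hle)
  constructor
  · rintro ⟨-, hd⟩
    have hle : R ⊓ C ≤ H := by
      set L := H ⊔ (R ⊓ C)
      have hLp : IsPGroup p L := hR.to_le (sup_le hHR inf_le_left)
      obtain ⟨m, hm⟩ := IsPGroup.iff_card.1 hLp
      have h1 : H.relIndex L ∣ p ^ m := hm ▸ relIndex_dvd_card H L
      have h2 : H.relIndex L ∣ H.relIndex K := by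
        rw [← relIndex_mul_relIndex H L K le_sup_left (sup_le hHK (inf_le_right.trans hCK))]
        exact dvd_mul_right _ _
      have h3 : H.relIndex L = 1 := Nat.eq_one_of_dvd_coprimes
        (Nat.Coprime.pow_left _ ((hp.out.coprime_iff_not_dvd).2 hd)) h1 h2
      exact le_sup_right.trans (relIndex_eq_one.1 h3)
    refine ⟨hle, le_antisymm (hPK.trans ?_) (hPHC hle)⟩
    rw [← relIndex_eq_one]
    refine Nat.eq_one_of_dvd_coprimes ?_ (dvd_refl _)
      ((show (H ⊔ C).relIndex K ∣ H.relIndex K from relIndex_dvd_of_le_left K le_sup_left))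
    have h1 : (H ⊔ C).relIndex K ∣ C.relIndex K := relIndex_dvd_of_le_left K le_sup_right
    have h2 : IsPGroup p (↥K ⧸ C.subgroupOf K) := fun z => by
      induction z using QuotientGroup.induction_on with
      | _ x =>
        obtain ⟨j, hj⟩ := pow_mem_of_mem_comap_pCore x.2
        refine ⟨j, ?_⟩
        rw [← QuotientGroup.mk_pow, QuotientGroup.eq_one_iff, mem_subgroupOf]
        simpa using hj
    obtain ⟨m, hm⟩ := IsPGroup.iff_card.1 h2
    exact Nat.Coprime.coprime_dvd_left (h1.trans (dvd_of_eq hm))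
      (Nat.Coprime.pow_left _ ((hp.out.coprime_iff_not_dvd).2 hd))
  · rintro ⟨hle, he⟩
    have hKe : K = H ⊔ C := le_antisymm (he ▸ hKP hle) (sup_le hHK hCK)
    refine ⟨hHK, fun hd => hCp ?_⟩
    rw [hKe, relIndex_sup_left] at hd
    refine hd.trans ?_
    have h := relIndex_dvd_of_le_left C hle
    rwa [inf_relIndex_right] at h

/-- Let P be a Sylow p-subgroup of the finite group G and H ≤ P a subgroup with N_P(H) a Sylow p-subgroup of N_G(H). Let N be the preimage in N_G(H) of O_p(N_G(H)/C_G(H)). Then H is a Sylow p-subgroup of N if and only if C_P(H) ≤ H and O_{p',p}(N_G(H)) = H·C_G(H). -/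
theorem result {G : Type*} [Group G] [Finite G] {p : ℕ} [Fact p.Prime]
    (P : Sylow p G) (H : Subgroup G) (hHP : H ≤ (P : Subgroup G))
    (hSyl : ¬ p ∣ ((P : Subgroup G) ⊓ Subgroup.normalizer (H : Set G)).relIndex (Subgroup.normalizer (H : Set G)))
    [hC : ((Subgroup.centralizer (H : Set G)).subgroupOf (Subgroup.normalizer (H : Set G))).Normal] :
    (H ≤ ((Cfsg.pCore p (↥(Subgroup.normalizer (H : Set G)) ⧸
              (Subgroup.centralizer (H : Set G)).subgroupOf (Subgroup.normalizer (H : Set G)))).comap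
            (QuotientGroup.mk' _)).map (Subgroup.normalizer (H : Set G)).subtype ∧
      ¬ p ∣ H.relIndex (((Cfsg.pCore p (↥(Subgroup.normalizer (H : Set G)) ⧸
              (Subgroup.centralizer (H : Set G)).subgroupOf (Subgroup.normalizer (H : Set G)))).comap
            (QuotientGroup.mk' _)).map (Subgroup.normalizer (H : Set G)).subtype)) ↔
    ((P : Subgroup G) ⊓ Subgroup.centralizer (H : Set G) ≤ H ∧
      (Cfsg.pPrimePCore p ↥(Subgroup.normalizer (H : Set G))).map (Subgroup.normalizer (H : Set G)).subtype =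
        H ⊔ Subgroup.centralizer (H : Set G)) := by
  set N := Subgroup.normalizer (H : Set G) with hN
  have hHN : H ≤ N := le_normalizer
  have hCN : Subgroup.centralizer (H : Set G) ≤ N := centralizer_le_normalizer _
  haveI : (H.subgroupOf N).Normal := normal_subgroupOf_of_le_normalizer le_rfl
  have hcen : (Subgroup.centralizer (H : Set G)).subgroupOf N
      = Subgroup.centralizer ((H.subgroupOf N : Subgroup N) : Set N) := by
    ext x
    simp only [mem_subgroupOf, mem_centralizer_iff, SetLike.mem_coe]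
    refine ⟨fun h y hy => Subtype.ext (h y hy), fun h y hy => ?_⟩
    exact congrArg Subtype.val (h ⟨y, hHN hy⟩ hy)
  have hrel : ((P : Subgroup G).subgroupOf N).index = ((P : Subgroup G) ⊓ N).relIndex N := by
    rw [inf_relIndex_right]; rfl
  have key := main (p := p) (H.subgroupOf N) ((Subgroup.centralizer (H : Set G)).subgroupOf N)
    ((P : Subgroup G).subgroupOf N) hcen P.isPGroup'.comap_subtype (hrel ▸ hSyl) (fun x hx => hHP hx)
  set K := (Cfsg.pCore p (↥N ⧸ (Subgroup.centralizer (H : Set G)).subgroupOf N)).comap (QuotientGroup.mk' _)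
  refine Iff.trans ?_ (key.trans ?_)
  · refine and_congr ?_ ?_
    · refine ⟨fun h x hx => ?_, fun h x hx => ⟨⟨x, hHN hx⟩, h hx, rfl⟩⟩
      obtain ⟨y, hy, hyx⟩ := h hx
      rwa [← N.subtype_injective hyx]
    · rw [← relIndex_comap H N.subtype K]; rfl
  · refine and_congr ?_ ?_
    · refine ⟨fun h x hx => h (x := ⟨x, hCN hx.2⟩) hx, fun h x hx => h hx⟩
    · rw [← (map_injective N.subtype_injective).eq_iff, Subgroup.map_sup,
        map_subgroupOf_eq_of_le hHN, map_subgroupOf_eq_of_le hCN]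

end Cfsg.Agent.S3076
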