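import Cfsg.Statements.S3078
import Cfsg.Agent.Lib.ZJ.Stable

set_option autoImplicit false
open Cfsg

namespace Cfsg.Agent.S3078

open Subgroup
open Cfsg.Agent.Lib.ZJ Cfsg.Agent.Lib.ZJ.Replacement
open scoped commutatorElement

theorem mem_omega {G : Type*} [Group G] {p : ℕ} {A : Subgroup G}
    (hA : ∀ x ∈ A, ∀ y ∈ A, x * y = y * x) {x : G} (hx : x ∈ Cfsg.omegaOne p A) : x ∈ A ∧ x ^ p = 1 := by
  let P : Subgroup G :=
    { carrier := {x | x ∈ A ∧ x ^ p = 1}
      one_mem' := ⟨one_mem _, one_pow _⟩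
      mul_mem' := fun {x y} hx hy => ⟨mul_mem hx.1 hy.1, by
        rw [Commute.mul_pow (hA x hx.1 y hy.1), hx.2, hy.2, one_mul]⟩
      inv_mem' := fun {x} hx => ⟨inv_mem hx.1, by rw [inv_pow, hx.2, inv_one]⟩ }
  exact (Subgroup.closure_le (K := P)).2 (fun _ h => h) hx

theorem mem_omega' {G : Type*} [Group G] {p : ℕ} {A : Subgroup G} {x : G} (h1 : x ∈ A) (h2 : x ^ p = 1) :
    x ∈ Cfsg.omegaOne p A := Subgroup.subset_closure ⟨h1, h2⟩

/-- The rank does not drop under replacement. -/
theorem card_omega_le {G : Type*} [Group G] [Finite G] {p : ℕ} [Fact p.Prime] (hp : p ≠ 2)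
    {A B : Subgroup G} {b : G} (h : Setup A B b) :
    Nat.card (Cfsg.omegaOne p A) ≤ Nat.card (Cfsg.omegaOne p (astar A b)) := by
  set O := Cfsg.omegaOne p A with hO
  set O' := Cfsg.omegaOne p (astar A b) with hO'
  set K := A ⊓ conjr A b with hK
  have : IsMulCommutative (astar A b) := ⟨⟨fun x y => Subtype.ext (h.astar_comm x x.2 y y.2)⟩⟩
  have : (K.subgroupOf (astar A b)).Normal :=
    ⟨fun n hn g => by
      have : g * n * g⁻¹ = n := Subtype.ext (by simp [h.astar_comm g g.2 n n.2])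
      rwa [this]⟩
  set π := QuotientGroup.mk' (K.subgroupOf (astar A b)) with hπ
  let θ : O →* astar A b ⧸ K.subgroupOf (astar A b) :=
    MonoidHom.mk' (fun a => π ⟨comb b a, Setup.comb_mem_astar (mem_omega h.comm a.2).1⟩) (by
      intro a c
      rw [← map_mul]
      refine QuotientGroup.eq.2 ?_
      have ha := (mem_omega h.comm a.2).1
      have hc := (mem_omega h.comm c.2).1
      rw [mem_subgroupOf]
      simp only [Subgroup.coe_mul, InvMemClass.coe_inv]
      have hs : ⁅(c : G), b⁻¹ * a * b⁆ ∈ K := h.comm_mem hc ha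
      have hz : (comb b ((a : G) * c))⁻¹ * ⁅(c : G), b⁻¹ * a * b⁆ =
          ⁅(c : G), b⁻¹ * a * b⁆ * (comb b ((a : G) * c))⁻¹ :=
        (h.central hs (Subgroup.inv_mem _ (h.comb_mem_sup (A.mul_mem ha hc)))).symm
      rw [h.comb_mul_comb ha hc, ← mul_assoc, hz, inv_mul_cancel_right]
      exact hs)
  let ρ : O' →* astar A b ⧸ K.subgroupOf (astar A b) :=
    π.comp (Subgroup.inclusion fun x hx => (mem_omega h.astar_comm hx).1)
  have hrange : θ.range ≤ ρ.range := by
    rintro _ ⟨a, rfl⟩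
    obtain ⟨ha, hap⟩ := mem_omega h.comm a.2
    refine ⟨⟨comb b a, mem_omega' (Setup.comb_mem_astar ha) ?_⟩, rfl⟩
    set x := b⁻¹ * (a : G) * b with hx
    have hmem : ⁅(a : G)⁻¹, x⁆ ∈ K := h.comm_mem (A.inv_mem ha) ha
    set w := ⁅x, (a : G)⁻¹⁆ with hw
    have hwK : w ∈ K := by rw [hw, ← commutatorElement_inv]; exact inv_mem hmem
    have hwa : Commute w (a : G)⁻¹ := h.central hwK (mem_sup_left (A.inv_mem ha))
    have hwx : Commute w x := h.central hwK (mem_sup_right (h.conjr_mem ha))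
    have hxp : x ^ p = 1 := by
      rw [hx, show b⁻¹ * (a : G) * b = b⁻¹ * a * (b⁻¹)⁻¹ by rw [inv_inv], conj_pow, hap]
      group
    show ((a : G)⁻¹ * x) ^ p = 1
    rw [pow_mul_classTwo hw.symm hwa hwx p, inv_pow, hap, hxp]
    have hwp : w ^ p = 1 := by
      rw [← commutator_pow_left (w := w) hw.symm hwx p, hxp, commutatorElement_one_left]
    obtain ⟨i, hi⟩ := (Fact.out : p.Prime).odd_of_ne_two hp
    have : p.choose 2 = p * i := by
      rw [Nat.choose_two_right, hi, show 2 * i + 1 - 1 = i * 2 by omega, ← mul_assoc,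
        Nat.mul_div_cancel _ (by norm_num : 0 < 2)]
    rw [this, pow_mul, hwp]
    simp
  have hkθ : θ.ker.map O.subtype = O ⊓ K := by
    ext a
    constructor
    · rintro ⟨⟨a, ha⟩, hk, rfl⟩
      have hk' : comb b a ∈ K :=
        (QuotientGroup.eq_one_iff (N := K.subgroupOf (astar A b)) ⟨comb b a, Setup.comb_mem_astar (mem_omega h.comm ha).1⟩).1 hk
      have haA := (mem_omega h.comm ha).1
      refine ⟨ha, haA, (h.conj_mem_iff haA).1 ?_⟩
      simpa [comb, mul_assoc] using A.mul_mem haA hk'.1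
    · rintro ⟨ha, haK⟩
      have haA := (mem_omega h.comm ha).1
      refine ⟨⟨a, ha⟩, (QuotientGroup.eq_one_iff _).2 ?_, rfl⟩
      exact ⟨A.mul_mem (A.inv_mem haA) ((h.conj_mem_iff haA).2 haK.2),
        Subgroup.mul_mem _ (Subgroup.inv_mem _ haK.2) (h.conjr_mem haA)⟩
  have hkρ : ρ.ker.map O'.subtype = O ⊓ K := by
    ext a
    constructor
    · rintro ⟨⟨a, ha⟩, hk, rfl⟩
      have hk' : a ∈ K :=
        (QuotientGroup.eq_one_iff (N := K.subgroupOf (astar A b)) ⟨a, (mem_omega h.astar_comm ha).1⟩).1 hk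
      exact ⟨mem_omega' hk'.1 (mem_omega h.astar_comm ha).2, hk'⟩
    · rintro ⟨ha, haK⟩
      refine ⟨⟨a, mem_omega' (le_sup_left (a := K) haK) (mem_omega h.comm ha).2⟩,
        (QuotientGroup.eq_one_iff _).2 ?_, rfl⟩
      exact haK
  have h1 : Nat.card θ.ker = Nat.card ρ.ker := by
    rw [← Subgroup.card_map_of_injective O.subtype_injective, hkθ, ← hkρ,
      Subgroup.card_map_of_injective O'.subtype_injective]
  rw [Subgroup.card_eq_card_quotient_mul_card_subgroup θ.ker,
    Subgroup.card_eq_card_quotient_mul_card_subgroup ρ.ker,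
    Nat.card_congr (QuotientGroup.quotientKerEquivRange θ).toEquiv,
    Nat.card_congr (QuotientGroup.quotientKerEquivRange ρ).toEquiv, h1]
  exact Nat.mul_le_mul_right _ (Subgroup.card_le_of_le hrange)

/-- A replacement Theorem for abelian subgroups of p-groups, p odd. Let G be a finite p-group with p odd, A an abelian subgroup of G, and B a subgroup of nilpotency class at most 2 with [B, B] ≤ A, such that A normalizes B but B does not normalize A. Then there is an abelian subgroup A* of G of the same order as A with A ∩ B strictly contained in A* ∩ B, A* contained in N_G(A) and in the normal closure of A, the exponent of A* dividing the exponent of A, and with the subgroup generated by the elements of order dividing p in A of order at most that of the corresponding subgroup of A* (the rank of A is at most the rank of A*). -/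
theorem result {G : Type*} [Group G] [Finite G] {p : ℕ} [Fact p.Prime] (hp : p ≠ 2) (hG : IsPGroup p G) (A B : Subgroup G) (hA : IsMulCommutative A) (hB2 : ⁅⁅B, B⁆, B⁆ = ⊥) (hBA : ⁅B, B⁆ ≤ A) (hAB : A ≤ Subgroup.normalizer (B : Set G)) (hBnA : ¬ B ≤ Subgroup.normalizer (A : Set G)) : ∃ Astar : Subgroup G, IsMulCommutative Astar ∧ Nat.card Astar = Nat.card A ∧ A ⊓ B < Astar ⊓ B ∧ Astar ≤ Subgroup.normalizer (A : Set G) ∧ Astar ≤ Subgroup.normalClosure (A : Set G) ∧ Monoid.exponent Astar ∣ Monoid.exponent A ∧ Nat.card (Cfsg.omegaOne p A) ≤ Nat.card (Cfsg.omegaOne p Astar) := by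
  have hAc : ∀ x ∈ A, ∀ y ∈ A, x * y = y * x := fun x hx y hy =>
    congrArg Subtype.val (hA.is_comm.comm ⟨x, hx⟩ ⟨y, hy⟩)
  set N := Subgroup.normalizer (A : Set G) with hN
  have hlt : N ⊓ (N ⊓ Subgroup.normalizer (B : Set G)) < (N ⊓ Subgroup.normalizer (B : Set G)) ⊔ B := by
    refine lt_of_le_of_ne (inf_le_right.trans le_sup_left) fun he => hBnA ?_
    exact le_sup_right.trans (he.ge.trans inf_le_left)
  set M := N ⊓ Subgroup.normalizer (B : Set G) with hM
  rw [inf_eq_right.2 (inf_le_left : M ≤ N)] at hlt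
  obtain ⟨z, hz, hzM⟩ := SetLike.exists_of_lt
    (Cfsg.Agent.Lib.Fusion.Alperin.lt_inf_normalizer (hG.to_subgroup (M ⊔ B)) hlt)
  have hz' : z ∈ ((M ⊔ B : Subgroup G) : Set G) := hz.1
  rw [Subgroup.coe_mul_of_left_le_normalizer_right M B inf_le_right] at hz'
  obtain ⟨n, hn, b, hb, rfl⟩ := hz'
  have hbN : b ∈ Subgroup.normalizer (M : Set G) := by
    have := mul_mem (inv_mem (Subgroup.le_normalizer (hn : n ∈ M))) hz.2
    simpa using this
  have hbA : b ∉ Subgroup.normalizer (A : Set G) := fun hbA =>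
    hzM (mul_mem hn ⟨hbA, Subgroup.le_normalizer hb⟩)
  have hAM : A ≤ M := le_inf Subgroup.le_normalizer hAB
  have hS : Setup A B b :=
    { comm := hAc
      derived := hBA
      mem := hb
      normalizes := hAB
      move := fun a ha => ((Subgroup.mem_normalizer_iff''.1 hbN a).1 (hAM ha)).1
      move' := fun a ha => ((Subgroup.mem_normalizer_iff.1 hbN a).1 (hAM ha)).1
      odd := Or.inl (by
        obtain ⟨k, hk⟩ := IsPGroup.iff_orderOf.1 hG b
        rw [hk]
        exact ((Fact.out : p.Prime).odd_of_ne_two hp).pow) }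
  refine ⟨astar A b, ⟨⟨fun x y => Subtype.ext (hS.astar_comm x x.2 y y.2)⟩⟩, hS.card_astar,
    hS.inf_lt_astar_inf hbA, hS.astar_le_sup.trans hS.sup_le_normalizer, ?_, ?_, card_omega_le hp hS⟩
  · refine hS.astar_le_sup.trans (sup_le Subgroup.subset_normalClosure ?_)
    rintro _ ⟨a, ha, rfl⟩
    exact Subgroup.normalClosure_normal.conj_mem _ (Subgroup.subset_normalClosure ha) b⁻¹
  · refine Monoid.exponent_dvd_of_forall_pow_eq_one fun x => Subtype.ext ?_
    rw [SubmonoidClass.coe_pow]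
    refine hS.pow_astar ?_ (fun a ha => ?_) x x.2
    · obtain ⟨k, hk⟩ := (hG.to_subgroup A).exists_card_eq
      refine Odd.of_dvd_nat (((Fact.out : p.Prime).odd_of_ne_two hp).pow (n := k)) ?_
      rw [← hk]
      exact Group.exponent_dvd_nat_card
    · exact congrArg Subtype.val (Monoid.pow_exponent_eq_one (⟨a, ha⟩ : A))

end Cfsg.Agent.S3078
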