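import Cfsg.Statements.S3084
import Cfsg.Agent.Lib.LA5.Clifford.Core
import Cfsg.Agent.Lib.PGroups.Frattini
import Mathlib.LinearAlgebra.Dual.Lemmas
import Mathlib.LinearAlgebra.FiniteDimensional.Basic

set_option autoImplicit false
open Cfsg

namespace Cfsg.Agent.S3084

open Matrix Cfsg.Agent.Lib.LA5.Clifford
open scoped commutatorElement

section Basis

variable {U : Type*} [AddCommGroup U] [Module (ZMod 2) U]

theorem q_sum_eq_zero (q : QuadraticForm (ZMod 2) U) {ι : Type*} (s : Finset ι) (c : ι → ZMod 2) (v : ι → U)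
    (h0 : ∀ i, q (v i) = 0) (h1 : ∀ i j, i ≠ j → QuadraticMap.polar q (v i) (v j) = 0) :
    q (∑ i ∈ s, c i • v i) = 0 := by
  classical
  induction s using Finset.induction_on with
  | empty => simp
  | @insert a s ha ih =>
    rw [Finset.sum_insert ha, QuadraticMap.map_add q, ih, QuadraticMap.map_smul, h0, smul_zero, zero_add, zero_add,
      QuadraticMap.polar_smul_left, ← QuadraticMap.polarBilin_apply_apply, map_sum, Finset.sum_eq_zero, smul_zero]
    intro j hj
    rw [map_smul, QuadraticMap.polarBilin_apply_apply, h1 a j (fun h => ha (h ▸ hj)), smul_zero]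

/-- A form of plus type is the hyperbolic form. -/
theorem exists_coords [Module.Finite (ZMod 2) U] (n : ℕ) (hn : Module.finrank (ZMod 2) U = 2 * n)
    (q : QuadraticForm (ZMod 2) U) (hnd : (QuadraticMap.polarBilin q).Nondegenerate)
    (hplus : ∃ W : Submodule (ZMod 2) U, Module.finrank (ZMod 2) ↥W = n ∧ ∀ w ∈ W, q w = 0) :
    ∃ L : Sp2 n ≃ₗ[ZMod 2] U, ∀ v, q (L v) = coc v v := by
  classical
  obtain ⟨W, hW, hq⟩ := hplus
  let bW : Module.Basis (Fin n) (ZMod 2) W := Module.finBasisOfFinrankEq _ _ hW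
  let w : Fin n → U := fun i => bW i
  have hw0 : ∀ i j, QuadraticMap.polar q (w i) (w j) = 0 := fun i j => by
    rw [QuadraticMap.polar, hq _ (W.add_mem (bW i).2 (bW j).2), hq _ (bW i).2, hq _ (bW j).2, sub_zero, sub_zero]
  have hex : ∀ i, ∃ u, ∀ j, QuadraticMap.polar q u (w j) = if i = j then 1 else 0 := by
    intro i
    obtain ⟨φ, hφ⟩ := LinearMap.dualMap_surjective_of_injective W.injective_subtype (bW.coord i)
    have hsurj : Function.Surjective (QuadraticMap.polarBilin q) :=
      (LinearMap.injective_iff_surjective_of_finrank_eq_finrank (Subspace.dual_finrank_eq).symm).1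
        (LinearMap.ker_eq_bot.1 (LinearMap.ker_eq_bot'.2 fun x hx => hnd.1 x fun y => by rw [hx]; rfl))
    obtain ⟨u, hu⟩ := hsurj φ
    refine ⟨u, fun j => ?_⟩
    rw [← QuadraticMap.polarBilin_apply_apply, hu]
    refine (LinearMap.congr_fun hφ (bW j)).trans ?_
    rw [Module.Basis.coord_apply, Module.Basis.repr_self, Finsupp.single_apply]
    simp only [eq_comm]
  choose u hu using hex
  let c : Fin n → Fin n → ZMod 2 := fun i j =>
    if j = i then q (u i) else if j < i then QuadraticMap.polar q (u i) (u j) else 0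
  let u' : Fin n → U := fun i => u i + ∑ j, c i j • w j
  have hWsum : ∀ d : Fin n → ZMod 2, ∑ j, d j • w j ∈ W := fun d => W.sum_mem fun j _ => W.smul_mem _ (bW j).2
  have hWW : ∀ x ∈ W, ∀ y ∈ W, QuadraticMap.polar q x y = 0 := fun x hx y hy => by
    rw [QuadraticMap.polar, hq _ (W.add_mem hx hy), hq _ hx, hq _ hy, sub_zero, sub_zero]
  have hus : ∀ i, ∀ d : Fin n → ZMod 2, QuadraticMap.polar q (u i) (∑ j, d j • w j) = d i := by
    intro i d
    rw [← QuadraticMap.polarBilin_apply_apply, map_sum]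
    simp [hu]
  have hu'w : ∀ i, ∀ d : Fin n → ZMod 2, QuadraticMap.polar q (u' i) (∑ j, d j • w j) = d i := by
    intro i d
    rw [show u' i = u i + ∑ j, c i j • w j from rfl, QuadraticMap.polar_add_left, hus, hWW _ (hWsum _) _ (hWsum _), add_zero]
  have hq' : ∀ i, q (u' i) = 0 := fun i => by
    rw [show u' i = u i + ∑ j, c i j • w j from rfl, QuadraticMap.map_add q, hus, hq _ (hWsum _), add_zero]
    simp only [c, if_pos]
    exact add_self2 _
  have hp' : ∀ i j, i ≠ j → QuadraticMap.polar q (u' i) (u' j) = 0 := by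
    intro i j hij
    rw [show u' j = u j + ∑ k, c j k • w k from rfl, QuadraticMap.polar_add_right, hu'w,
      show u' i = u i + ∑ k, c i k • w k from rfl, QuadraticMap.polar_add_left,
      QuadraticMap.polar_comm q (∑ k, c i k • w k) (u j), hus]
    simp only [c, if_neg hij, if_neg hij.symm]
    rcases lt_or_gt_of_ne hij with h | h
    · rw [if_pos h, if_neg h.not_gt, add_zero, QuadraticMap.polar_comm q (u j) (u i)]
      exact add_self2 _
    · rw [if_pos h, if_neg h.not_gt, add_zero]
      exact add_self2 _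
  let L₀ : Sp2 n →ₗ[ZMod 2] U :=
    (Fintype.linearCombination (ZMod 2) w).coprod (Fintype.linearCombination (ZMod 2) u')
  have hL : ∀ a b, L₀ (a, b) = ∑ i, a i • w i + ∑ i, b i • u' i := fun a b => by
    simp [L₀, Fintype.linearCombination_apply]
  have hqL : ∀ v, q (L₀ v) = coc v v := by
    rintro ⟨a, b⟩
    rw [hL, QuadraticMap.map_add q, hq _ (hWsum _), q_sum_eq_zero q _ b u' hq' hp', zero_add, zero_add,
      QuadraticMap.polar_comm, ← QuadraticMap.polarBilin_apply_apply, map_sum (QuadraticMap.polarBilin q), LinearMap.sum_apply]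
    refine Finset.sum_congr rfl fun i _ => ?_
    rw [map_smul, LinearMap.smul_apply, QuadraticMap.polarBilin_apply_apply, hu'w, smul_eq_mul]
  have hinj : Function.Injective L₀ := by
    rw [← LinearMap.ker_eq_bot, LinearMap.ker_eq_bot']
    rintro ⟨a, b⟩ h0
    have hb : b = 0 := by
      funext j
      have h1 : QuadraticMap.polar q (L₀ (a, b)) (w j) = b j := by
        rw [hL, QuadraticMap.polar_add_left, hWW _ (hWsum _) _ (bW j).2, zero_add,
          ← QuadraticMap.polarBilin_apply_apply, map_sum, LinearMap.sum_apply]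
        rw [Finset.sum_eq_single j]
        · rw [map_smul, LinearMap.smul_apply, QuadraticMap.polarBilin_apply_apply]
          have := hu'w j (Pi.single j 1)
          simp [Pi.single_apply] at this
          rw [this, smul_eq_mul, mul_one]
        · intro i _ hij
          rw [map_smul, LinearMap.smul_apply, QuadraticMap.polarBilin_apply_apply]
          have := hu'w i (Pi.single j 1)
          simp [Pi.single_apply, hij] at this
          rw [this, smul_zero]
        · simp
      rw [h0, QuadraticMap.polar_zero_left] at h1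
      exact h1.symm
    subst hb
    refine Prod.ext ?_ rfl
    funext i
    have h1 : QuadraticMap.polar q (u' i) (L₀ (a, 0)) = a i := by
      rw [hL]
      simp [hu'w]
    rw [h0, QuadraticMap.polar_zero_right] at h1
    exact h1.symm
  refine ⟨LinearEquiv.ofInjectiveOfFinrankEq L₀ hinj ?_, hqL⟩
  rw [hn, Module.finrank_prod, Module.finrank_fin_fun, two_mul]

end Basis

theorem sgn_one : sgn 1 = -1 := rfl

theorem mat_comm {n : ℕ} (u v : Sp2 n) : mat u * mat v = sgn (coc u v + coc v u) • (mat v * mat u) := by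
  rw [mat_mul, mat_mul v u, smul_smul, ← sgn_add, add_comm v u, add_assoc, add_self2, add_zero]

/-- Let K be a group acting faithfully and linearly on a finite-dimensional vector space U of dimension 2n ≥ 2 over the field with two elements, preserving a quadratic form q whose polar bilinear form is non-degenerate and which vanishes on some n-dimensional subspace (a non-singular form of plus type). Then there is a finite group R with a normal extraspecial 2-subgroup Q of order 2^(2n+1), an isomorphism of R/Q with K, and a surjective homomorphism χ from Q onto (the additive group of) U with kernel the centre of Q, such that χ carries conjugation by any r in R to the action of the image of r in K, and an element a of Q squares to the identity exactly when q vanishes at χ(a). -/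
theorem result {K : Type*} [Group K] {U : Type*} [AddCommGroup U] [Module (ZMod 2) U] [Module.Finite (ZMod 2) U] (n : ℕ) (hn1 : 1 ≤ n) (hn : Module.finrank (ZMod 2) U = 2 * n) (ρ : Representation (ZMod 2) K U) (hρ : Function.Injective ρ) (q : QuadraticForm (ZMod 2) U) (hq : ∀ (k : K) (u : U), q (ρ k u) = q u) (hnd : (QuadraticMap.polarBilin q).Nondegenerate) (hplus : ∃ W : Submodule (ZMod 2) U, Module.finrank (ZMod 2) ↥W = n ∧ ∀ w ∈ W, q w = 0) : ∃ (R : Type) (_ : Group R) (_ : Finite R) (Q : Subgroup R) (hN : Q.Normal) (e : R ⧸ Q ≃* K) (χ : ↥Q →* Multiplicative U), Cfsg.IsExtraspecial 2 ↥Q ∧ Nat.card ↥Q = 2 ^ (2 * n + 1) ∧ Function.Surjective χ ∧ χ.ker = Subgroup.center ↥Q ∧ (∀ (r : R) (a : ↥Q), χ ⟨r * a * r⁻¹, hN.conj_mem (a : R) a.2 r⟩ = Multiplicative.ofAdd (ρ (e (r : R ⧸ Q)) (Multiplicative.toAdd (χ a)))) ∧ ∀ a : ↥Q, a * a = 1 ↔ q (Multiplicative.toAdd (χ a)) = 0 := by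
  classical
  obtain ⟨L, hL⟩ := exists_coords n hn q hnd hplus
  let τ : K → (Sp2 n →+ Sp2 n) := fun k => (L.symm.toLinearMap ∘ₗ (ρ k) ∘ₗ L.toLinearMap).toAddMonoidHom
  have hτ : ∀ k v, L (τ k v) = ρ k (L v) := fun k v => by simp [τ]
  have hτmul : ∀ k k' v, τ (k * k') v = τ k (τ k' v) := fun k k' v => L.injective (by simp [τ, map_mul])
  have hτone : ∀ v, τ 1 v = v := fun v => L.injective (by simp [τ])
  have hτq : ∀ k v, coc (τ k v) (τ k v) = coc v v := fun k v => by rw [← hL, hτ, hq, hL]
  have hpol : ∀ u v, QuadraticMap.polar q (L u) (L v) = coc u v + coc v u := fun u v => by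
    rw [QuadraticMap.polar, ← map_add, hL, hL, hL, coc_add_left, coc_add_right, coc_add_right]
    ring
  let M := Matrix (Fin n → ZMod 2) (Fin n → ZMod 2) (ZMod 3)
  let Ok : Mˣ → K → Prop := fun A k => ∀ u, ∃ s, (A : M) * mat u = sgn s • (mat (τ k u) * (A : M))
  have hOk1 : Ok 1 1 := fun u => ⟨0, by simp [hτone, sgn_zero]⟩
  have hOkmul : ∀ {A B k k'}, Ok A k → Ok B k' → Ok (A * B) (k * k') := by
    intro A B k k' hA hB u
    obtain ⟨s, hs⟩ := hB u
    obtain ⟨s', hs'⟩ := hA (τ k' u)
    refine ⟨s + s', ?_⟩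
    rw [Units.val_mul, mul_assoc, hs, mul_smul_comm, ← mul_assoc, hs', smul_mul_assoc, smul_smul, hτmul,
      ← sgn_add, mul_assoc]
  have hOkinv : ∀ {A k}, Ok A k → Ok A⁻¹ k⁻¹ := by
    intro A k hA u
    obtain ⟨s, hs⟩ := hA (τ k⁻¹ u)
    rw [← hτmul, mul_inv_cancel, hτone] at hs
    refine ⟨s, ?_⟩
    have h1 : mat u = sgn s • ((A : M) * mat (τ k⁻¹ u) * ((A⁻¹ : Mˣ) : M)) := by
      rw [hs, smul_mul_assoc, smul_smul, sgn_mul_self, one_smul, mul_assoc, Units.mul_inv, mul_one]
    conv_lhs => rw [h1]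
    rw [mul_smul_comm, mul_assoc (A : M), ← mul_assoc, Units.inv_mul, one_mul]
  let R : Subgroup Mˣ :=
    { carrier := {A | ∃ k, Ok A k}
      one_mem' := ⟨1, hOk1⟩
      mul_mem' := fun ⟨_, hA⟩ ⟨_, hB⟩ => ⟨_, hOkmul hA hB⟩
      inv_mem' := fun ⟨_, hA⟩ => ⟨_, hOkinv hA⟩ }
  have huniq : ∀ {A k k'}, Ok A k → Ok A k' → k = k' := by
    intro A k k' h h'
    refine hρ (LinearMap.ext fun v => ?_)
    obtain ⟨u, rfl⟩ := L.surjective v
    obtain ⟨s, hs⟩ := h u
    obtain ⟨s', hs'⟩ := h' u
    rw [hs, ← smul_mul_assoc, ← smul_mul_assoc] at hs'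
    rw [← hτ, ← hτ, (mat_smul_inj ((Units.mul_left_inj A).1 hs')).1]
  choose κ hκ using fun A : R => A.2
  let g : R →* K := MonoidHom.mk' κ fun A B => huniq (hκ (A * B)) (hOkmul (hκ A) (hκ B))
  have hg : ∀ A : R, Ok A (g A) := hκ
  have hgs : Function.Surjective g := fun k => by
    obtain ⟨A, hA⟩ := exists_intertwiner (τ k) (hτq k)
    exact ⟨⟨A, k, hA⟩, huniq (hκ _) hA⟩
  -- the operators in `R`
  let E : Sp2 n → ZMod 2 → Mˣ := fun u s =>
    ⟨sgn s • mat u, sgn (s + coc u u) • mat u,
      by rw [smul_mul_assoc, mul_smul_comm, mat_sq, smul_smul, smul_smul, ← sgn_add, ← sgn_add,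
        show s + (s + coc u u) + coc u u = (s + coc u u) + (s + coc u u) by ring, add_self2, sgn_zero, one_smul],
      by rw [smul_mul_assoc, mul_smul_comm, mat_sq, smul_smul, smul_smul, ← sgn_add, ← sgn_add,
        show s + coc u u + s + coc u u = (s + coc u u) + (s + coc u u) by ring, add_self2, sgn_zero, one_smul]⟩
  have hEval : ∀ u s, (E u s : M) = sgn s • mat u := fun u s => rfl
  have hEok : ∀ u s, Ok (E u s) 1 := fun u s v => ⟨coc u v + coc v u, by
    rw [hEval, hτone, smul_mul_assoc, mat_comm, mul_smul_comm, smul_comm]⟩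
  have hEinj : ∀ {u v s t}, E u s = E v t → u = v ∧ s = t := fun h => mat_smul_inj (congrArg Units.val h)
  have hEmul : ∀ u v s t, E u s * E v t = E (u + v) (s + t + coc u v) := fun u v s t => Units.ext (by
    rw [Units.val_mul, hEval, hEval, hEval, smul_mul_assoc, mul_smul_comm, mat_mul, smul_smul, smul_smul,
      ← sgn_add, ← sgn_add, add_assoc])
  let Q : Subgroup R := g.ker
  have hQ : ∀ A : R, A ∈ Q ↔ ∃ u s, (A : Mˣ) = E u s := by
    intro A
    constructor
    · intro hA
      have h1 : ∀ u, ∃ s, ((A : Mˣ) : M) * mat u = sgn s • (mat u * ((A : Mˣ) : M)) := fun u => by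
        obtain ⟨s, hs⟩ := hg A u
        rw [show g A = 1 from hA, hτone] at hs
        exact ⟨s, hs⟩
      choose σ hσ using h1
      have hadd : ∀ u v, σ (u + v) = σ u + σ v := by
        intro u v
        have h2 : ((A : Mˣ) : M) * (mat u * mat v) = sgn (σ u + σ v) • ((mat u * mat v) * ((A : Mˣ) : M)) := by
          rw [← mul_assoc, hσ u, smul_mul_assoc, mul_assoc, hσ v, mul_smul_comm, smul_smul, ← sgn_add, mul_assoc]
        rw [mat_mul, mul_smul_comm, smul_mul_assoc, hσ (u + v), smul_comm (sgn (σ u + σ v))] at h2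
        have h3 := smul_right_injective M ((show ∀ x : ZMod 2, sgn x ≠ 0 by decide) (coc u v)) h2
        obtain ⟨x, y, hxy⟩ : ∃ x y, (mat (u + v) * ((A : Mˣ) : M)) x y ≠ 0 := by
          by_contra hall
          push Not at hall
          exact mat_ne_zero (u + v) ((Units.mul_left_eq_zero _).1 (Matrix.ext hall))
        exact sgn_inj _ _ (mul_right_cancel₀ hxy (congrFun (congrFun h3 x) y))
      let σh : Sp2 n →+ ZMod 2 := AddMonoidHom.mk' σ hadd
      let v₀ : Sp2 n := (fun i => σ (0, Pi.single i 1), fun i => σ (Pi.single i 1, 0))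
      have hσv : ∀ u, σ u = coc v₀ u + coc u v₀ := by
        have h2 : σh.toZModLinearMap 2 = (AddMonoidHom.mk' (fun u => coc v₀ u + coc u v₀)
            (fun u u' => by simp only [coc_add_left, coc_add_right]; ring)).toZModLinearMap 2 := by
          refine LinearMap.prod_ext (LinearMap.pi_ext' fun i => LinearMap.ext_ring ?_)
            (LinearMap.pi_ext' fun i => LinearMap.ext_ring ?_)
          · simp [σh, v₀, coc]
          · simp [σh, v₀, coc]
        exact fun u => LinearMap.congr_fun h2 u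
      have hB : ∀ u, mat v₀ * ((A : Mˣ) : M) * mat u = mat u * (mat v₀ * ((A : Mˣ) : M)) := fun u => by
        rw [mul_assoc, hσ u, mul_smul_comm, ← mul_assoc (mat v₀), mat_comm v₀ u, smul_mul_assoc, smul_smul, hσv,
          sgn_mul_self, one_smul, mul_assoc]
      obtain hc := eq_scalar _ hB
      set c := (mat v₀ * ((A : Mˣ) : M)) 0 0
      have hc0 : c ≠ 0 := fun h0 => by
        rw [h0, zero_smul] at hc
        exact mat_ne_zero v₀ ((Units.mul_left_eq_zero _).1 hc)
      obtain ⟨s, hs⟩ := exists_sgn c hc0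
      refine ⟨v₀, s + coc v₀ v₀, Units.ext ?_⟩
      have h3 := congrArg (fun X => sgn (coc v₀ v₀) • (mat v₀ * X)) hc
      simp only [← mul_assoc, mat_sq, smul_mul_assoc, one_mul, smul_smul, sgn_mul_self, one_smul, mul_smul_comm,
        mul_one] at h3
      rw [h3, hEval, ← hs, ← sgn_add, add_comm]
    · rintro ⟨u, s, h⟩
      exact huniq (hg A) (h ▸ hEok u s)
  choose ν σ hν using fun a : Q => (hQ a.1).1 a.2
  have hνu : ∀ (a : Q) u s, ((a : R) : Mˣ) = E u s → ν a = u := fun a u s h => (hEinj ((hν a).symm.trans h)).1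
  let χ : Q →* Multiplicative U := MonoidHom.mk' (fun a => Multiplicative.ofAdd (L (ν a))) fun a b => by
    rw [hνu (a * b) (ν a + ν b) _ (by
      rw [Subgroup.coe_mul, Subgroup.coe_mul, hν a, hν b, hEmul]), map_add, ofAdd_add]
  let eQ : Sp2 n × ZMod 2 → Q := fun v => ⟨⟨E v.1 v.2, 1, hEok _ _⟩, (hQ _).2 ⟨_, _, rfl⟩⟩
  have heQ : Function.Bijective eQ := ⟨fun v w h => by
    have h1 := hEinj (congrArg (fun a : Q => ((a : R) : Mˣ)) h)
    exact Prod.ext h1.1 h1.2, fun a => ⟨(ν a, σ a), Subtype.ext (Subtype.ext (hν a).symm)⟩⟩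
  have hcard : Nat.card Q = 2 ^ (2 * n + 1) := by
    rw [← Nat.card_congr (Equiv.ofBijective eQ heQ), Nat.card_prod, Nat.card_prod, Nat.card_fun, Nat.card_zmod,
      Nat.card_fin]
    ring
  have hχ : Function.Surjective χ := fun u => ⟨eQ (L.symm u.toAdd, 0), by
    show Multiplicative.ofAdd (L (ν _)) = u
    rw [hνu (eQ (L.symm u.toAdd, 0)) (L.symm u.toAdd) 0 rfl, LinearEquiv.apply_symm_apply, ofAdd_toAdd]⟩
  have hker : χ.ker = Subgroup.center Q := by
    ext a
    rw [MonoidHom.mem_ker, Subgroup.mem_center_iff]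
    show Multiplicative.ofAdd (L (ν a)) = 1 ↔ _
    rw [← ofAdd_zero, Equiv.apply_eq_iff_eq, LinearEquiv.map_eq_zero_iff]
    constructor
    · intro h0 b
      refine Subtype.ext (Subtype.ext ?_)
      simp only [Subgroup.coe_mul, hν a, hν b, hEmul, h0]
      congr 1
      · abel
      · rw [coc_zero_left, show coc (ν b) (0 : Sp2 n) = 0 from zero_dotProduct _]; ring
    · intro h0
      refine L.injective ((map_zero L).symm ▸ hnd.1 _ fun y => ?_)
      obtain ⟨v, rfl⟩ := L.surjective y
      rw [QuadraticMap.polarBilin_apply_apply, hpol]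
      have h1 : ((eQ (v, 0) : R) : Mˣ) * ((a : R) : Mˣ) = ((a : R) : Mˣ) * ((eQ (v, 0) : R) : Mˣ) :=
        congrArg (fun b : Q => ((b : R) : Mˣ)) (h0 (eQ (v, 0)))
      rw [show ((eQ (v, 0) : R) : Mˣ) = E v 0 from rfl, hν a, hEmul, hEmul] at h1
      have h2 := (hEinj h1).2
      rw [zero_add, add_zero] at h2
      rw [← add_left_cancel h2]
      exact add_self2 _
  have hcenter : Nat.card (Subgroup.center Q) = 2 := by
    have h1 := Subgroup.card_eq_card_quotient_mul_card_subgroup χ.ker
    rw [hcard, Nat.card_congr (QuotientGroup.quotientKerEquivOfSurjective χ hχ).toEquiv,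
      Nat.card_congr Multiplicative.toAdd, ← Nat.card_congr L.toEquiv, Nat.card_prod, Nat.card_fun, Nat.card_zmod,
      Nat.card_fin, hker, ← pow_add, ← two_mul, pow_succ] at h1
    exact (Nat.eq_of_mul_eq_mul_left (by positivity) h1).symm
  have hP : IsPGroup 2 Q := IsPGroup.of_card hcard
  have hle : commutator Q ≤ Subgroup.center Q := hker ▸ Abelianization.commutator_subset_ker χ
  have hcomm : commutator Q = Subgroup.center Q := by
    refine Subgroup.eq_of_le_of_card_ge hle ?_
    rw [hcenter]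
    refine Nat.one_lt_iff_ne_zero_and_ne_one.2 ⟨Nat.card_pos.ne', fun h1 => ?_⟩
    have h2 : ⁅eQ ((Pi.single ⟨0, hn1⟩ 1, 0), 0), eQ ((0, Pi.single ⟨0, hn1⟩ 1), 0)⁆ ∈ commutator Q :=
      Subgroup.commutator_mem_commutator (Subgroup.mem_top _) (Subgroup.mem_top _)
    rw [Subgroup.card_eq_one.1 h1, Subgroup.mem_bot, commutatorElement_eq_one_iff_mul_comm] at h2
    have h3 := congrArg (fun b : Q => ((b : R) : Mˣ)) h2
    change E _ 0 * E _ 0 = E _ 0 * E _ 0 at h3
    rw [hEmul, hEmul] at h3
    simpa [coc] using (hEinj h3).2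
  refine ⟨R, inferInstance, inferInstance, Q, inferInstance, QuotientGroup.quotientKerEquivOfSurjective g hgs, χ,
    ⟨⟨hP, le_antisymm (Cfsg.Agent.Lib.PGroups.frattini_le_of_pow_commutator (p := 2) _ (fun a => ?_) hle)
      (hcomm.ge.trans (Cfsg.Agent.Lib.PGroups.commutator_le_frattini hP)), hcomm⟩, hcenter⟩,
    hcard, hχ, hker, fun r a => ?_, fun a => ?_⟩
  · rw [← hker, MonoidHom.mem_ker, map_pow]
    show (Multiplicative.ofAdd (L (ν a))) ^ 2 = 1
    rw [pow_two, ← ofAdd_add, ← map_add, sp_add_self, map_zero, ofAdd_zero]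
  · show Multiplicative.ofAdd (L (ν _)) = Multiplicative.ofAdd (ρ (g r) (L (ν a)))
    rw [← hτ]
    obtain ⟨s, hs⟩ := hg r (ν a)
    rw [hνu _ (τ (g r) (ν a)) (σ a + s) (Units.ext ?_)]
    show ((r : Mˣ) : M) * (((a : R) : Mˣ) : M) * (((r : Mˣ)⁻¹ : Mˣ) : M) = (E (τ (g r) (ν a)) (σ a + s) : M)
    rw [hν a, hEval, hEval, mul_smul_comm, hs, smul_smul, ← sgn_add, smul_mul_assoc, mul_assoc, Units.mul_inv, mul_one]
  · show a * a = 1 ↔ q (L (ν a)) = 0
    rw [hL]
    constructor
    · intro h
      have h1 : E (ν a) (σ a) * E (ν a) (σ a) = E 0 0 := by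
        rw [← hν a]
        refine (congrArg (fun b : Q => ((b : R) : Mˣ)) h).trans (Units.ext ?_)
        simp [hEval, sgn_zero, mat_zero]
      rw [hEmul] at h1
      simpa [add_self2] using (hEinj h1).2
    · intro h
      refine Subtype.ext (Subtype.ext ?_)
      simp only [Subgroup.coe_mul, hν a, hEmul, sp_add_self, add_self2, h, add_zero]
      refine Units.ext ?_
      simp [hEval, sgn_zero, mat_zero]

end Cfsg.Agent.S3084
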