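import Cfsg.Statements.S3085


set_option autoImplicit false
open Cfsg

namespace Cfsg.Agent.S3085

variable {Q : Type*} [Group Q]

/-- A group with centre `{1, z}`, all commutators and squares in the centre. -/
structure Setup (z : Q) : Prop where
  zne : z ≠ 1
  zz : z * z = 1
  zcomm : ∀ y : Q, Commute z y
  central : ∀ y : Q, (∀ w : Q, Commute y w) → y = 1 ∨ y = z
  comm : ∀ a b : Q, Commute a b ∨ a * b = b * a * z
  sq : ∀ a : Q, a * a = 1 ∨ a * a = z

variable {z : Q}

theorem Setup.ne_comm (h : Setup z) {a b : Q} (hab : ¬ Commute a b) : a * b = b * a * z :=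
  (h.comm a b).resolve_left hab

theorem Setup.not_comm_mul (h : Setup z) {a b c : Q} (ha : ¬ Commute a c) (hb : ¬ Commute b c) :
    Commute (a * b) c := by
  have h1 : b * c = c * b * z := h.ne_comm hb
  have h2 : a * c = c * a * z := h.ne_comm ha
  show a * b * c = c * (a * b)
  calc a * b * c = a * (c * b * z) := by rw [mul_assoc, h1]
    _ = (a * c) * b * z := by group
    _ = c * a * (z * b) * z := by rw [h2]; group
    _ = c * a * (b * z) * z := by rw [(h.zcomm b).eq]
    _ = c * (a * b) * (z * z) := by group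
    _ = c * (a * b) := by rw [h.zz, mul_one]

theorem Setup.comm_mul_not (h : Setup z) {a b c : Q} (ha : Commute a c) (hb : ¬ Commute b c) :
    ¬ Commute (a * b) c := fun hc => hb (by simpa using ha.inv_left.mul_left hc)

theorem Setup.not_mul_comm (h : Setup z) {a b c : Q} (ha : ¬ Commute a c) (hb : Commute b c) :
    ¬ Commute (a * b) c := fun hc => ha (by simpa using hc.mul_left hb.inv_left)

open Classical in
/-- The automorphism `y ↦ y` or `y x` according as `y` commutes with `x` or not. -/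
noncomputable def refl (h : Setup z) (x : Q) (hx : x * x = z) : Q →* Q where
  toFun y := if Commute y x then y else y * x
  map_one' := by rw [if_pos (Commute.one_left x)]
  map_mul' a b := by
    by_cases ha : Commute a x <;> by_cases hb : Commute b x
    · rw [if_pos ha, if_pos hb, if_pos (ha.mul_left hb)]
    · rw [if_pos ha, if_neg hb, if_neg (h.comm_mul_not ha hb), mul_assoc]
    · rw [if_neg ha, if_pos hb, if_neg (h.not_mul_comm ha hb), mul_assoc, mul_assoc a x b, hb.eq]
    · rw [if_neg ha, if_neg hb, if_pos (h.not_comm_mul ha hb)]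
      have hxb : x * b = b * x * z := h.ne_comm fun hc => hb hc.symm
      calc a * b = a * b * (z * z) := by rw [h.zz, mul_one]
        _ = a * b * ((x * x) * z) := by rw [hx]
        _ = a * b * x * (x * z) := by group
        _ = a * b * x * (z * x) := by rw [(h.zcomm x).eq]
        _ = a * (b * x * z) * x := by group
        _ = a * (x * b) * x := by rw [hxb]
        _ = a * x * (b * x) := by group

theorem refl_injective (h : Setup z) (x : Q) (hx : x * x = z) : Function.Injective (refl h x hx) := by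
  classical
  rw [injective_iff_map_eq_one]
  intro y hy
  change (if Commute y x then y else y * x) = 1 at hy
  by_cases hc : Commute y x
  · rwa [if_pos hc] at hy
  · rw [if_neg hc] at hy
    exact absurd (by rw [eq_inv_of_mul_eq_one_left hy]; exact (Commute.refl x).inv_left) hc

theorem refl_of_comm (h : Setup z) {x y : Q} (hx : x * x = z) (hc : Commute y x) :
    refl h x hx y = y := by
  classical
  exact if_pos hc

theorem refl_of_not_comm (h : Setup z) {x y : Q} (hx : x * x = z) (hc : ¬ Commute y x) :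
    refl h x hx y = y * x := by
  classical
  exact if_neg hc

/-- `refl` as an automorphism. -/
noncomputable def reflAut [Finite Q] (h : Setup z) (x : Q) (hx : x * x = z) : MulAut Q :=
  MulEquiv.ofBijective (refl h x hx) (Finite.injective_iff_bijective.mp (refl_injective h x hx))

theorem reflAut_apply [Finite Q] (h : Setup z) (x : Q) (hx : x * x = z) (y : Q) :
    reflAut h x hx y = refl h x hx y := rfl

theorem refl_comm (h : Setup z) {x x' : Q} (hx : x * x = z) (hx' : x' * x' = z) (hc : Commute x x')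
    (y : Q) : refl h x hx (refl h x' hx' y) = refl h x' hx' (refl h x hx y) := by
  have e1 : refl h x hx x' = x' := refl_of_comm h hx hc.symm
  have e2 : refl h x' hx' x = x := refl_of_comm h hx' hc
  by_cases h1 : Commute y x <;> by_cases h2 : Commute y x'
  · rw [refl_of_comm h hx' h2, refl_of_comm h hx h1, refl_of_comm h hx' h2]
  · rw [refl_of_not_comm h hx' h2, map_mul, e1, refl_of_comm h hx h1, refl_of_not_comm h hx' h2]
  · rw [refl_of_comm h hx' h2, refl_of_not_comm h hx h1, map_mul, refl_of_comm h hx' h2, e2]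
  · rw [refl_of_not_comm h hx' h2, map_mul, e1, refl_of_not_comm h hx h1, map_mul, e2,
      refl_of_not_comm h hx' h2, mul_assoc, mul_assoc, hc.eq]

theorem refl_sq (h : Setup z) {x : Q} (hx : x * x = z) (y : Q) :
    refl h x hx (refl h x hx y) = x * y * x⁻¹ := by
  by_cases h1 : Commute y x
  · rw [refl_of_comm h hx h1, refl_of_comm h hx h1, ← h1.eq, mul_inv_cancel_right]
  · rw [refl_of_not_comm h hx h1, map_mul, refl_of_comm h hx (Commute.refl x),
      refl_of_not_comm h hx h1, mul_assoc, hx]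
    have e : x * y = y * x * z := h.ne_comm fun hc => h1 hc.symm
    rw [e, mul_assoc (y * x), (h.zcomm x⁻¹).eq, ← mul_assoc, mul_inv_cancel_right]

theorem setup_of_extraspecial [Finite Q] (hQ : Cfsg.IsExtraspecial 2 Q) :
    ∃ z : Q, z ∈ Subgroup.center Q ∧ (∀ y ∈ Subgroup.center Q, y = 1 ∨ y = z) ∧ Setup z := by
  classical
  obtain ⟨⟨-, -, hder⟩, hZ⟩ := hQ
  obtain ⟨⟨z, hzc⟩, hz1, huniv⟩ : ∃ w : Subgroup.center Q, w ≠ 1 ∧ ∀ y, y = 1 ∨ y = w := by
    obtain ⟨a, b, hab, huniv⟩ := Nat.card_eq_two_iff.mp hZ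
    rcases eq_or_ne a 1 with ha | ha
    · refine ⟨b, fun hb => hab (ha.trans hb.symm), fun y => ?_⟩
      rcases (huniv.symm ▸ Set.mem_univ y : y ∈ ({a, b} : Set _)) with rfl | rfl
      · exact Or.inl ha
      · exact Or.inr rfl
    · refine ⟨a, ha, fun y => ?_⟩
      rcases (huniv.symm ▸ Set.mem_univ y : y ∈ ({a, b} : Set _)) with rfl | hy
      · exact Or.inr rfl
      · rcases (huniv.symm ▸ Set.mem_univ 1 : (1 : Subgroup.center Q) ∈ ({a, b} : Set _)) with h | h
        · exact absurd h.symm ha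
        · exact Or.inl ((Set.mem_singleton_iff.mp hy).trans h.symm)
  have hmem : ∀ y ∈ Subgroup.center Q, y = 1 ∨ y = z := fun y hy =>
    (huniv ⟨y, hy⟩).imp (congrArg Subtype.val) (congrArg Subtype.val)
  have hzne : z ≠ 1 := fun h => hz1 (Subtype.ext h)
  have hzc' : ∀ y, Commute z y := fun y => ((Subgroup.mem_center_iff.mp hzc) y).symm
  have hzz : z * z = 1 := by
    rcases hmem _ (mul_mem hzc hzc) with h | h
    · exact h
    · exact absurd (mul_eq_left.mp h) hzne
  have hcomm : ∀ a b : Q, Commute a b ∨ a * b = b * a * z := by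
    intro a b
    have : a⁻¹ * b⁻¹ * a * b ∈ Subgroup.center Q := by
      rw [← hder, commutator_def]
      simpa [commutatorElement_def] using
        Subgroup.commutator_mem_commutator (Subgroup.mem_top a⁻¹) (Subgroup.mem_top b⁻¹)
    rcases hmem _ this with h | h
    · left
      show a * b = b * a
      calc a * b = b * a * (a⁻¹ * b⁻¹ * a * b) := by group
        _ = b * a := by rw [h, mul_one]
    · right
      calc a * b = b * a * (a⁻¹ * b⁻¹ * a * b) := by group
        _ = b * a * z := by rw [h]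
  refine ⟨z, hzc, hmem, hzne, hzz, hzc', fun y hy => hmem y (Subgroup.mem_center_iff.mpr fun w => (hy w).symm),
    hcomm, fun a => hmem _ (Subgroup.mem_center_iff.mpr fun w => ?_)⟩
  rcases hcomm a w with h | h
  · exact (h.mul_left h).eq.symm
  · have : a * a * w = w * (a * a) := by
      calc a * a * w = a * (a * w) := mul_assoc _ _ _
        _ = a * (w * a * z) := by rw [h]
        _ = (a * w) * (a * z) := by group
        _ = w * a * z * (a * z) := by rw [h]
        _ = w * a * (z * a) * z := by group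
        _ = w * a * (a * z) * z := by rw [(hzc' a).eq]
        _ = w * (a * a) * (z * z) := by group
        _ = w * (a * a) := by rw [hzz, mul_one]
    exact this.symm

/-- Let Q be an extraspecial 2-group of order 2^(2n+1) with n ≥ 3 that is of plus type (it contains an elementary abelian subgroup of order 2^(n+1)). Then the group of inner automorphisms of Q has no complement in the full automorphism group of Q: the extension of the inner automorphism group (elementary abelian of order 2^(2n)) by the outer automorphism group (the orthogonal group of plus type) does not split. -/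
theorem result {Q : Type*} [Group Q] [Finite Q] (n : ℕ) (hn : 3 ≤ n) (hQ : Cfsg.IsExtraspecial 2 Q) (hcard : Nat.card Q = 2 ^ (2 * n + 1)) (hplus : ∃ E : Subgroup Q, Cfsg.IsElementaryAbelian 2 E ∧ Nat.card ↥E = 2 ^ (n + 1)) (L : Subgroup (MulAut Q)) : ¬ (Cfsg.Inn Q).IsComplement' L := by
  classical
  intro hL
  obtain ⟨z, hzc, hcen, h⟩ := setup_of_extraspecial hQ
  obtain ⟨E, ⟨hEc, hE2⟩, hEcard⟩ := hplus
  have hEcomm : ∀ a ∈ E, ∀ b ∈ E, Commute a b := fun a ha b hb =>
    congrArg Subtype.val (hEc.is_comm.comm (⟨a, ha⟩ : E) ⟨b, hb⟩)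
  -- an element of `E` outside the centre commuting with two given elements
  have hpick : ∀ x y : Q, ∃ e ∈ E, Commute e x ∧ Commute e y ∧ ∃ w, ¬ Commute e w := by
    intro x y
    by_contra hnone
    push Not at hnone
    let K : Subgroup Q := E ⊓ Subgroup.centralizer {x, y}
    have hK : Nat.card K ≤ 2 := by
      rw [← hQ.2]
      refine Nat.card_le_card_of_injective (fun e => (⟨(e : Q), ?_⟩ : Subgroup.center Q)) ?_
      · obtain ⟨he, hec⟩ := Subgroup.mem_inf.mp e.2
        refine Subgroup.mem_center_iff.mpr fun w => (hnone e he ?_ ?_ w).eq.symm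
        · exact (hec x (by simp)).symm
        · exact (hec y (by simp)).symm
      · intro e e' he
        exact Subtype.ext (congrArg (fun c : Subgroup.center Q => (c : Q)) he)
    have hidx : Nat.card (E ⧸ K.subgroupOf E) ≤ 4 := by
      refine le_trans (Nat.card_le_card_of_injective
        (fun q => (decide (Commute (q.out : Q) x), decide (Commute (q.out : Q) y))) ?_)
        (le_of_eq (show Nat.card (Bool × Bool) = 4 by simp))
      intro q r hqr
      simp only [Prod.mk.injEq, decide_eq_decide] at hqr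
      rw [← QuotientGroup.out_eq' q, ← QuotientGroup.out_eq' r, QuotientGroup.eq, Subgroup.mem_subgroupOf]
      refine Subgroup.mem_inf.mpr ⟨SetLike.coe_mem _, ?_⟩
      have key : ∀ c : Q, (Commute (q.out : Q) c ↔ Commute (r.out : Q) c) →
          Commute ((q.out : Q)⁻¹ * (r.out : Q)) c := by
        intro c hc
        by_cases h1 : Commute (q.out : Q) c
        · exact h1.inv_left.mul_left (hc.mp h1)
        · exact h.not_comm_mul (fun h2 => h1 (by simpa using h2.inv_left)) (fun h2 => h1 (hc.mpr h2))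
      rintro c hc
      rcases hc with rfl | rfl
      · exact (key _ hqr.1).eq.symm
      · exact (key _ hqr.2).eq.symm
    have h1 := Subgroup.card_eq_card_quotient_mul_card_subgroup (K.subgroupOf E)
    rw [hEcard, Nat.card_congr (Subgroup.subgroupOfEquivOfLe (inf_le_left : K ≤ E)).toEquiv] at h1
    have h2 : 2 ^ 4 ≤ 2 ^ (n + 1) := Nat.pow_le_pow_right (by norm_num) (by omega)
    have h3 := Nat.mul_le_mul hidx hK
    change 2 ^ (n + 1) = _ * Nat.card K at h1
    omega
  -- from `e ∈ E` and a non-commuting partner, a partner with square `z`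
  have hfix : ∀ e ∈ E, ∀ y : Q, ¬ Commute e y → ∃ x, x * x = z ∧ ¬ Commute e x ∧ (x = y ∨ x = y * e) := by
    intro e he y hey
    rcases h.sq y with hy | hy
    · refine ⟨y * e, ?_, fun hc => hey (by simpa using hc.mul_right (Commute.refl e).inv_right), Or.inr rfl⟩
      have e1 : e * y = y * e * z := h.ne_comm hey
      have e2 : e * e = 1 := by rw [← sq]; exact hE2 e he
      calc y * e * (y * e) = y * (e * y) * e := by group
        _ = y * (y * e * z) * e := by rw [e1]
        _ = y * y * e * (z * e) := by group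
        _ = y * y * e * (e * z) := by rw [(h.zcomm e).eq]
        _ = y * y * (e * e) * z := by group
        _ = z := by rw [hy, e2]; group
    · exact ⟨y, hy, hey, Or.inl rfl⟩
  -- adjust `y` so as to commute with a pair `(e, x)`
  have hadj : ∀ e x : Q, ¬ Commute e x → ∀ f y : Q, Commute f e → Commute f x → ¬ Commute f y →
      ∃ y', ¬ Commute f y' ∧ Commute y' e ∧ Commute y' x ∧
        ∀ c, Commute c e → Commute c x → Commute y c → Commute y' c := by
    intro e x hex f y hfe hfx hfy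
    obtain ⟨y₁, hfy₁, hy₁e, hy₁c⟩ : ∃ y', ¬ Commute f y' ∧ Commute y' e ∧
        ∀ c, Commute c e → Commute c x → Commute y c → Commute y' c := by
      by_cases hc : Commute y e
      · exact ⟨y, hfy, hc, fun c _ _ h => h⟩
      · refine ⟨y * x, fun h' => hfy ?_, h.not_comm_mul hc (fun h' => hex h'.symm),
          fun c _ hcx hyc => hyc.mul_left hcx.symm⟩
        simpa using h'.mul_right hfx.inv_right
    by_cases hc : Commute y₁ x
    · exact ⟨y₁, hfy₁, hy₁e, hc, hy₁c⟩
    · refine ⟨y₁ * e, fun h' => hfy₁ ?_, hy₁e.mul_left (Commute.refl e), h.not_comm_mul hc hex,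
        fun c hce hcx hyc => (hy₁c c hce hcx hyc).mul_left hce.symm⟩
      simpa using h'.mul_right hfe.inv_right
  -- three orthogonal pairs
  obtain ⟨a₀, ha₀, -, -, w₀, hw₀⟩ := hpick 1 1
  obtain ⟨x₀, hx₀, hax₀, -⟩ := hfix a₀ ha₀ w₀ hw₀
  obtain ⟨a₁, ha₁, h10, -, w₁, hw₁⟩ := hpick x₀ x₀
  have ha10 : Commute a₁ a₀ := hEcomm a₁ ha₁ a₀ ha₀
  obtain ⟨y₁, hy₁, hy₁a, hy₁x, -⟩ := hadj a₀ x₀ hax₀ a₁ w₁ ha10 h10 hw₁
  obtain ⟨x₁, hx₁, hax₁, hx₁y⟩ := hfix a₁ ha₁ y₁ hy₁
  have x10a : Commute x₁ a₀ := by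
    rcases hx₁y with rfl | rfl
    · exact hy₁a
    · exact hy₁a.mul_left ha10
  have x10 : Commute x₁ x₀ := by
    rcases hx₁y with rfl | rfl
    · exact hy₁x
    · exact hy₁x.mul_left h10
  obtain ⟨a₂, ha₂, h20, h21, w₂, hw₂⟩ := hpick x₀ x₁
  have ha20 : Commute a₂ a₀ := hEcomm a₂ ha₂ a₀ ha₀
  have ha21 : Commute a₂ a₁ := hEcomm a₂ ha₂ a₁ ha₁
  obtain ⟨v₂, hv₂, hv₂a, hv₂x, -⟩ := hadj a₀ x₀ hax₀ a₂ w₂ ha20 h20 hw₂
  obtain ⟨y₂, hy₂, hy₂a, hy₂x, hy₂c⟩ := hadj a₁ x₁ hax₁ a₂ v₂ ha21 h21 hv₂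
  have hy₂a0 : Commute y₂ a₀ := hy₂c a₀ ha10.symm x10a.symm hv₂a
  have hy₂x0 : Commute y₂ x₀ := hy₂c x₀ h10.symm x10.symm hv₂x
  obtain ⟨x₂, hx₂, hax₂, hx₂y⟩ := hfix a₂ ha₂ y₂ hy₂
  obtain ⟨x20a, x20, x21a, x21⟩ : Commute x₂ a₀ ∧ Commute x₂ x₀ ∧ Commute x₂ a₁ ∧ Commute x₂ x₁ := by
    rcases hx₂y with rfl | rfl
    · exact ⟨hy₂a0, hy₂x0, hy₂a, hy₂x⟩
    · exact ⟨hy₂a0.mul_left ha20, hy₂x0.mul_left h20, hy₂a.mul_left ha21, hy₂x.mul_left h21⟩
  set x₃ := x₀ * (x₁ * x₂) with hx₃def
  have hx₃ : x₃ * x₃ = z := by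
    have c0 : Commute x₀ (x₁ * x₂) := x10.symm.mul_right x20.symm
    have c12 : (x₁ * x₂) * (x₁ * x₂) = 1 := by
      rw [mul_assoc, ← mul_assoc x₂, x21.eq, mul_assoc, hx₂, ← mul_assoc, hx₁, h.zz]
    calc x₃ * x₃ = x₀ * ((x₁ * x₂) * x₀) * (x₁ * x₂) := by rw [hx₃def]; group
      _ = x₀ * (x₀ * (x₁ * x₂)) * (x₁ * x₂) := by rw [c0.eq]
      _ = (x₀ * x₀) * ((x₁ * x₂) * (x₁ * x₂)) := by group
      _ = z := by rw [hx₀, c12, mul_one]
  have x30 : Commute x₀ x₃ := (Commute.refl x₀).mul_right (x10.symm.mul_right x20.symm)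
  -- lifts in the complement
  have hdec : ∀ φ : MulAut Q, ∃ l ∈ L, ∃ u : Q, l = MulAut.conj u * φ := by
    intro φ
    obtain ⟨⟨⟨i, hi⟩, ⟨l, hl⟩⟩, hil⟩ := hL.2 φ
    obtain ⟨u, rfl⟩ := hi
    exact ⟨l, hl, u⁻¹, by rw [map_inv, ← hil]; simp⟩
  have hrel : ∀ l ∈ L, l ∈ Cfsg.Inn Q → l = 1 := fun l hl hl' => by
    have : l ∈ Cfsg.Inn Q ⊓ L := ⟨hl', hl⟩
    rwa [disjoint_iff.mp hL.disjoint, Subgroup.mem_bot] at this
  let π := QuotientGroup.mk' (Cfsg.Inn Q)
  have hπ : ∀ u : Q, π (MulAut.conj u) = 1 := fun u => (QuotientGroup.eq_one_iff _).mpr ⟨u, rfl⟩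
  have hsign : ∀ u y : Q, ∃ c : Q, (c = 1 ∨ c = z) ∧ MulAut.conj u y = y * c := by
    intro u y
    rcases h.comm u y with h' | h'
    · exact ⟨1, Or.inl rfl, by rw [MulAut.conj_apply, h'.eq, mul_inv_cancel_right, mul_one]⟩
    · refine ⟨z, Or.inr rfl, ?_⟩
      rw [MulAut.conj_apply, h', mul_assoc, (h.zcomm u⁻¹).eq, ← mul_assoc, mul_inv_cancel_right]
  obtain ⟨l₀, hl₀, u₀, he₀⟩ := hdec (reflAut h x₀ hx₀)
  have happ : ∀ y, l₀ y = MulAut.conj u₀ (refl h x₀ hx₀ y) := fun y => by rw [he₀]; rfl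
  have hinvol : l₀ * l₀ = 1 := by
    refine hrel _ (mul_mem hl₀ hl₀) ((QuotientGroup.eq_one_iff _).mp ?_)
    show π (l₀ * l₀) = 1
    have e : reflAut h x₀ hx₀ * reflAut h x₀ hx₀ = MulAut.conj x₀ :=
      MulEquiv.ext fun y => refl_sq h hx₀ y
    rw [he₀, map_mul, map_mul, hπ, one_mul, ← map_mul, e, hπ]
  have hfixz : ∀ c : Q, (c = 1 ∨ c = z) → l₀ c = c := by
    rintro c (rfl | rfl)
    · exact map_one _
    · rw [happ, refl_of_comm h hx₀ (h.zcomm x₀), MulAut.conj_apply, (h.zcomm u₀).symm.eq,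
        mul_inv_cancel_right]
  -- the sign of `l₀` on `x₀` is `z`
  have hax : ¬ Commute a₀ x₀ := hax₀
  have hε : l₀ x₀ = x₀ * z := by
    obtain ⟨ε, hε, hεe⟩ := hsign u₀ x₀
    have e0 : l₀ x₀ = x₀ * ε := by rw [happ, refl_of_comm h hx₀ (Commute.refl x₀), hεe]
    rcases hε with rfl | rfl
    · exfalso
      rw [mul_one] at e0
      obtain ⟨c, hc, hce⟩ := hsign u₀ (a₀ * x₀)
      have e1 : l₀ a₀ = a₀ * x₀ * c := by rw [happ, refl_of_not_comm h hx₀ hax, hce]
      have e2 : l₀ (l₀ a₀) = a₀ := DFunLike.congr_fun hinvol a₀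
      rw [e1, map_mul, map_mul, e1, e0, hfixz c hc] at e2
      have hcc : Commute c x₀ ∧ c * c = 1 := by
        rcases hc with rfl | rfl
        · exact ⟨Commute.one_left _, one_mul 1⟩
        · exact ⟨h.zcomm _, h.zz⟩
      rw [mul_assoc (a₀ * x₀) c x₀, hcc.1.eq, ← mul_assoc, mul_assoc _ c c, hcc.2, mul_one, mul_assoc,
        hx₀] at e2
      exact h.zne (mul_eq_left.mp e2)
    · exact e0
  -- `l₀` fixes every `xⱼ` commuting with `x₀` that has a partner commuting with `x₀`
  have hfixx : ∀ x : Q, x * x = z → Commute x₀ x → ∀ a : Q, Commute a x₀ → ¬ Commute a x → l₀ x = x := by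
    intro x hx h0x a ha0 hax'
    obtain ⟨l, hl, u, he⟩ := hdec (reflAut h x hx)
    have hc : l₀ * l = l * l₀ := by
      rw [← mul_inv_eq_one]
      refine hrel _ (mul_mem (mul_mem hl₀ hl) (inv_mem (mul_mem hl hl₀))) ((QuotientGroup.eq_one_iff _).mp ?_)
      show π ((l₀ * l) * (l * l₀)⁻¹) = 1
      have e : reflAut h x₀ hx₀ * reflAut h x hx = reflAut h x hx * reflAut h x₀ hx₀ :=
        MulEquiv.ext fun y => refl_comm h hx₀ hx h0x y
      rw [map_mul, map_inv, mul_inv_eq_one, he₀, he]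
      simp only [map_mul, hπ, one_mul]
      rw [← map_mul, e, map_mul]
    have happ' : ∀ y, l y = MulAut.conj u (refl h x hx y) := fun y => by rw [he]; rfl
    obtain ⟨c₀, hc₀, hc₀e⟩ := hsign u₀ a
    obtain ⟨c, hc', hce⟩ := hsign u (a * x)
    obtain ⟨ε, hε', hεe⟩ := hsign u₀ x
    have e0a : l₀ a = a * c₀ := by rw [happ, refl_of_comm h hx₀ ha0, hc₀e]
    have e0x : l₀ x = x * ε := by rw [happ, refl_of_comm h hx₀ h0x.symm, hεe]
    have ela : l a = a * x * c := by rw [happ', refl_of_not_comm h hx hax', hce]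
    have elc : ∀ d, (d = 1 ∨ d = z) → l d = d := by
      rintro d (rfl | rfl)
      · exact map_one _
      · rw [happ', refl_of_comm h hx (h.zcomm x), MulAut.conj_apply, (h.zcomm u).symm.eq,
          mul_inv_cancel_right]
    have e := DFunLike.congr_fun hc a
    change l₀ (l a) = l (l₀ a) at e
    rw [ela, map_mul, map_mul, e0a, e0x, hfixz c hc', map_mul, ela, elc c₀ hc₀] at e
    have hcz : ∀ {d : Q}, (d = 1 ∨ d = z) → ∀ w, Commute d w := by
      rintro d (rfl | rfl) w
      · exact Commute.one_left w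
      · exact h.zcomm w
    have e' : a * x * c * c₀ = a * x * c * c₀ * ε := by
      refine e.symm.trans ?_
      calc a * c₀ * (x * ε) * c = a * (c₀ * x) * (ε * c) := by group
        _ = a * (x * c₀) * (c * ε) := by rw [(hcz hc₀ x).eq, (hcz hε' c).eq]
        _ = a * x * (c₀ * c) * ε := by group
        _ = a * x * (c * c₀) * ε := by rw [(hcz hc₀ c).eq]
        _ = a * x * c * c₀ * ε := by group
    rw [e0x, show ε = 1 from mul_eq_left.mp e'.symm, mul_one]
  have f1 := hfixx x₁ hx₁ x10.symm a₁ h10 hax₁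
  have f2 := hfixx x₂ hx₂ x20.symm a₂ h20 hax₂
  have hna : ¬ Commute a₁ x₃ := fun hc => by
    refine hax₁ ?_
    have : Commute a₁ (x₀ * (x₁ * x₂)) := hc
    have h1 : Commute a₁ (x₁ * x₂) := by simpa using h10.inv_right.mul_right this
    simpa using h1.mul_right x21a.symm.inv_right
  have f3 := hfixx x₃ hx₃ x30 a₁ h10 hna
  rw [hx₃def, map_mul, map_mul, hε, f1, f2, mul_assoc, (h.zcomm (x₁ * x₂)).eq, ← mul_assoc] at f3
  exact h.zne (mul_eq_left.mp f3)

end Cfsg.Agent.S3085
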