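import Cfsg.Statements.S3086
import Cfsg.Agent.Lib.OffenderComp.Main
import Cfsg.Agent.Lib.Components.Basic

set_option autoImplicit false
open Cfsg

namespace Cfsg.Agent.S3086

/-- The P(G,V)-theorem. Let p be a prime, G a finite group acting faithfully and linearly on a finite vector space V over the field with p elements, and A a nontrivial elementary abelian p-subgroup of G such that |A|·|C_V(A)| ≥ |B|·|C_V(B)| for every subgroup B of A. Then A normalizes every component (subnormal quasisimple subgroup) of G. -/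
theorem result {G V : Type*} [Group G] [Finite G] [AddCommGroup V] [Finite V] (p : ℕ) [Fact p.Prime] [Module (ZMod p) V]
    (ρ : Representation (ZMod p) G V) (hρ : Function.Injective ρ)
    (A : Subgroup G) (hA : A ≠ ⊥) (hAel : Cfsg.IsElementaryAbelian p A)
    (hP : ∀ B : Subgroup G, B ≤ A →
      Nat.card ↥B * Nat.card {v : V // ∀ b ∈ B, ρ b v = v} ≤ Nat.card ↥A * Nat.card {v : V // ∀ a ∈ A, ρ a v = v}) :
    ∀ K : Subgroup G, Cfsg.IsComponent K → A ≤ Subgroup.normalizer (K : Set G) := by
  intro K hKc a ha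
  classical
  haveI : Finite (V ≃ₗ[ZMod p] V) := Lib.OffenderComp.finite_equiv
  let φ : G →* (V ≃ₗ[ZMod p] V) :=
    { toFun := fun g =>
        { toFun := fun v => ρ g v
          invFun := fun v => ρ g⁻¹ v
          map_add' := fun u v => map_add (ρ g) u v
          map_smul' := fun c v => map_smul (ρ g) c v
          left_inv := fun v => by
            show ρ g⁻¹ (ρ g v) = v
            rw [← Module.End.mul_apply, ← map_mul, inv_mul_cancel, map_one]; rfl
          right_inv := fun v => by
            show ρ g (ρ g⁻¹ v) = v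
            rw [← Module.End.mul_apply, ← map_mul, mul_inv_cancel, map_one]; rfl }
      map_one' := LinearEquiv.ext fun v => by
        show ρ 1 v = v
        rw [map_one]; rfl
      map_mul' := fun g h => LinearEquiv.ext fun v => by
        show ρ (g * h) v = ρ g (ρ h v)
        rw [map_mul]; rfl }
  have hφ : Function.Injective φ := fun g h e => hρ (LinearMap.ext fun v =>
    LinearEquiv.congr_fun e v)
  have hQS : Lib.OffenderComp.IsQS (K.map φ) := by
    refine ⟨?_, ?_, ?_⟩
    · rw [← Subgroup.map_commutator, Lib.Components.Component.commutator_self hKc]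
    · intro h
      exact Lib.Components.Component.ne_bot hKc ((Subgroup.map_eq_bot_iff_of_injective K hφ).1 h)
    · intro N hN hKN
      have hnorm : ((N.comap φ).subgroupOf K).Normal := ⟨fun n hn k => by
        rw [Subgroup.mem_subgroupOf, Subgroup.mem_comap] at hn ⊢
        rw [Subgroup.coe_mul, Subgroup.coe_mul, Subgroup.coe_inv, map_mul, map_mul, map_inv]
        exact (Subgroup.mem_normalizer_iff.1 (hKN ⟨k.1, k.2, rfl⟩) _).1 hn⟩
      rcases Lib.Components.Quasisimple.normal_le_center_or_eq_top hKc.2 hnorm with h | h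
      · right
        intro m hm
        obtain ⟨m, hmK, rfl⟩ := hN hm
        rw [Subgroup.mem_centralizer_iff]
        rintro _ ⟨k, hk, rfl⟩
        have := Subgroup.mem_center_iff.1
          (h (show (⟨m, hmK⟩ : K) ∈ (N.comap φ).subgroupOf K from hm)) ⟨k, hk⟩
        rw [← map_mul, ← map_mul]
        exact congrArg φ (congrArg Subtype.val this)
      · left
        refine le_antisymm hN ?_
        rintro _ ⟨k, hk, rfl⟩
        have : (⟨k, hk⟩ : K) ∈ (N.comap φ).subgroupOf K := h ▸ Subgroup.mem_top _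
        exact this
  have hconj : ∀ c ∈ A.map φ, Lib.OffenderComp.NK (K.map φ) c ∨
      Lib.OffenderComp.Apart (K.map φ) 1 c := by
    rintro _ ⟨c, -, rfl⟩
    rcases Lib.Components.Component.eq_or_commutator_eq_bot hKc
      (Lib.Components.Component.conj hKc c) with h | h
    · left
      rintro _ ⟨x, hx, rfl⟩
      refine ⟨c * x * c⁻¹, ?_, by rw [map_mul, map_mul, map_inv]⟩
      rw [h]
      exact ⟨x, hx, rfl⟩
    · right
      rintro _ ⟨x, hx, rfl⟩ _ ⟨y, hy, rfl⟩
      rw [one_mul, inv_one, mul_one, ← map_inv, ← map_mul, ← map_mul, ← map_mul, ← map_mul]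
      refine congrArg φ ?_
      exact (Subgroup.mem_centralizer_iff.1
        (Subgroup.commutator_eq_bot_iff_le_centralizer.1 h hx) (c * y * c⁻¹) ⟨y, hy, rfl⟩).symm
  have hfix : ∀ B : Subgroup G,
      Nat.card (Lib.OffenderComp.fixS (B.map φ)) = Nat.card {v : V // ∀ b ∈ B, ρ b v = v} := by
    intro B
    refine Nat.card_congr
      { toFun := fun v => ⟨v.1, fun b hb => v.2 _ ⟨b, hb, rfl⟩⟩
        invFun := fun v => ⟨v.1, by rintro _ ⟨b, hb, rfl⟩; exact v.2 b hb⟩
        left_inv := fun v => rfl
        right_inv := fun v => rfl }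
  have hcard : ∀ B : Subgroup G, Nat.card (B.map φ) = Nat.card B := fun B =>
    Nat.card_congr (B.equivMapOfInjective φ hφ).symm.toEquiv
  have hmax : Lib.OffenderComp.IsMax (A.map φ) := by
    intro B hB
    have hBe : (B.comap φ).map φ = B := Subgroup.map_comap_eq_self (hB.trans (by
      rintro _ ⟨g, -, rfl⟩; exact ⟨g, rfl⟩))
    have hle : B.comap φ ≤ A := fun g hg => by
      obtain ⟨g', hg', e⟩ := hB hg
      rw [← hφ e]; exact hg'
    have := hP (B.comap φ) hle
    rw [← hfix, ← hfix, ← hcard (B.comap φ), ← hcard A, hBe] at this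
    exact this
  have hcommA : ∀ u ∈ A.map φ, ∀ w ∈ A.map φ, u * w = w * u := by
    rintro _ ⟨u, hu, rfl⟩ _ ⟨w, hw, rfl⟩
    rw [← map_mul, ← map_mul]
    exact congrArg φ (congrArg Subtype.val (hAel.1.is_comm.comm ⟨u, hu⟩ ⟨w, hw⟩))
  have hexpA : ∀ u ∈ A.map φ, u ^ p = 1 := by
    rintro _ ⟨u, hu, rfl⟩
    rw [← map_pow, hAel.2 u hu, map_one]
  have key : ∀ c ∈ A, ∀ x ∈ K, c * x * c⁻¹ ∈ K := by
    intro c hc x hx
    obtain ⟨y, hy, e⟩ := Lib.OffenderComp.le_normalizer (Nat.card V) le_rfl hQS hcommA hexpA hmax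
      hconj (φ c) ⟨c, hc, rfl⟩ (φ x) ⟨x, hx, rfl⟩
    rw [← map_inv, ← map_mul, ← map_mul] at e
    rw [← hφ e]; exact hy
  rw [Subgroup.mem_normalizer_iff]
  refine fun x => ⟨key a ha x, fun h => ?_⟩
  have := key a⁻¹ (inv_mem ha) _ h
  simpa [mul_assoc] using this

end Cfsg.Agent.S3086
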