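import Cfsg.Statements.S3087


set_option autoImplicit false
open Cfsg

namespace Cfsg.Agent.S3087



/-- Let p be a prime, G a finite group acting linearly on a finite vector space V over the field with p elements, W a G-invariant subspace, and A a subgroup of G with |A|·|C_V(A)| ≥ |B|·|C_V(B)| for every subgroup B of A. Then |A|·|C_W(A)| ≥ |B|·|C_W(B)| for every subgroup B of A that contains C_A(W); that is, the image of A in the group induced on W satisfies the same maximality condition. -/
theorem result {G V : Type*} [Group G] [Finite G] [AddCommGroup V] [Finite V] (p : ℕ) [Fact p.Prime] [Module (ZMod p) V]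
    (ρ : Representation (ZMod p) G V) (W : Submodule (ZMod p) V) (hW : ∀ g : G, ∀ w ∈ W, ρ g w ∈ W)
    (A : Subgroup G)
    (hP : ∀ B : Subgroup G, B ≤ A →
      Nat.card ↥B * Nat.card {v : V // ∀ b ∈ B, ρ b v = v} ≤ Nat.card ↥A * Nat.card {v : V // ∀ a ∈ A, ρ a v = v})
    (B : Subgroup G) (hBA : B ≤ A) (hCB : ∀ a ∈ A, (∀ w ∈ W, ρ a w = w) → a ∈ B) :
    Nat.card ↥B * Nat.card {w : W // ∀ b ∈ B, ρ b w = w} ≤ Nat.card ↥A * Nat.card {w : W // ∀ a ∈ A, ρ a w = w} := by
  classical
  let CV : Subgroup G → AddSubgroup V := fun X =>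
    { carrier := {v | ∀ x ∈ X, ρ x v = v}
      zero_mem' := fun x _ => map_zero _
      add_mem' := fun {u v} hu hv x hx => by rw [map_add, hu x hx, hv x hx]
      neg_mem' := fun {v} hv x hx => by rw [map_neg, hv x hx] }
  let CW : Subgroup G → AddSubgroup V := fun X => CV X ⊓ W.toAddSubgroup
  have hcw : ∀ X : Subgroup G, Nat.card {w : W // ∀ x ∈ X, ρ x w = w} = Nat.card (CW X) := fun X =>
    Nat.card_congr
      { toFun := fun w => ⟨(w.1 : V), w.2, w.1.2⟩
        invFun := fun v => ⟨⟨v.1, v.2.2⟩, v.2.1⟩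
        left_inv := fun _ => rfl
        right_inv := fun _ => rfl }
  have hcv : ∀ X : Subgroup G, Nat.card {v : V // ∀ x ∈ X, ρ x v = v} = Nat.card (CV X) := fun X =>
    Nat.card_congr
      { toFun := fun v => ⟨v.1, v.2⟩
        invFun := fun v => ⟨v.1, v.2⟩
        left_inv := fun _ => rfl
        right_inv := fun _ => rfl }
  have key : Nat.card (CW B) * Nat.card (CV A) ≤ Nat.card (CV B) * Nat.card (CW A) := by
    let φ : ↥(CW B) × ↥(CV A) →+ ↥(CV B) :=
      AddMonoidHom.mk' (fun q => ⟨(q.1 : V) + q.2,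
        (CV B).add_mem q.1.2.1 fun x hx => q.2.2 x (hBA hx)⟩)
        (fun q r => Subtype.ext (by simp; abel))
    have h1 := AddSubgroup.card_eq_card_quotient_mul_card_addSubgroup φ.ker
    rw [Nat.card_prod] at h1
    rw [h1]
    refine Nat.mul_le_mul ?_ ?_
    · rw [Nat.card_congr (QuotientAddGroup.quotientKerEquivRange φ).toEquiv]
      exact AddSubgroup.card_le_card_addGroup _
    · refine Nat.card_le_card_of_injective (fun q => (⟨(q.1.1 : V), ?_, q.1.1.2.2⟩ : CW A)) ?_
      · have h := congrArg Subtype.val (q.2 : φ q.1 = 0)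
        have h' : (q.1.1 : V) = -(q.1.2 : V) := eq_neg_of_add_eq_zero_left h
        rw [h']
        exact (CV A).neg_mem q.1.2.2
      · rintro ⟨⟨w, v⟩, hq⟩ ⟨⟨w', v'⟩, hq'⟩ h
        have hw : (w : V) = w' := congrArg (fun z : ↥(CW A) => (z : V)) h
        have h1' : (w : V) + v = 0 := congrArg Subtype.val hq
        have h2' : (w' : V) + v' = 0 := congrArg Subtype.val hq'
        have hv : (v : V) = v' := by
          rw [eq_neg_of_add_eq_zero_right h1', eq_neg_of_add_eq_zero_right h2', hw]
        exact Subtype.ext (Prod.ext (Subtype.ext hw) (Subtype.ext hv))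
  have hP' := hP B hBA
  rw [hcv, hcv] at hP'
  rw [hcw, hcw]
  refine Nat.le_of_mul_le_mul_right (c := Nat.card (CV A)) ?_ Nat.card_pos
  calc Nat.card B * Nat.card (CW B) * Nat.card (CV A)
      = Nat.card B * (Nat.card (CW B) * Nat.card (CV A)) := by ring
    _ ≤ Nat.card B * (Nat.card (CV B) * Nat.card (CW A)) := Nat.mul_le_mul_left _ key
    _ = Nat.card B * Nat.card (CV B) * Nat.card (CW A) := by ring
    _ ≤ Nat.card A * Nat.card (CV A) * Nat.card (CW A) := Nat.mul_le_mul_right _ hP'
    _ = Nat.card A * Nat.card (CW A) * Nat.card (CV A) := by ring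

end Cfsg.Agent.S3087
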