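import Cfsg.Statements.S3104
import Mathlib
import Cfsg.Agent.S3103
import Cfsg.Agent.S2553
import Cfsg.Agent.S0255
import Cfsg.Agent.Lib.SubgroupsA8
import Cfsg.Agent.Lib.SmallGroups.RecogSmall
import Cfsg.Agent.Lib.Inv59.RankFour.RadicalA8
import Cfsg.Agent.Lib.Inv59.RankFour.SixExclusion

set_option autoImplicit false
open Cfsg

namespace Cfsg.Agent.S3104

open Cfsg.Agent.Lib
open Equiv Equiv.Perm

/-- An embedding of `S₆` in `A₈`. -/
theorem six_in_alt : ∃ j : Perm (Fin 6) →* alternatingGroup (Fin 8), Function.Injective j := by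
  let E : Fin 6 ⊕ Fin 2 ≃ Fin 8 := finSumFinEquiv
  let c : ℤˣ →* Perm (Fin 2) :=
    { toFun := fun u => if u = 1 then 1 else Equiv.swap 0 1
      map_one' := if_pos rfl
      map_mul' := by decide }
  let f : Perm (Fin 6) →* Perm (Fin 8) :=
    E.permCongrHom.toMonoidHom.comp
      ((Equiv.Perm.sumCongrHom (Fin 6) (Fin 2)).comp ((MonoidHom.id _).prod (c.comp sign)))
  have hf : ∀ σ, f σ ∈ alternatingGroup (Fin 8) := by
    intro σ
    rw [mem_alternatingGroup]
    show sign (E.permCongr (Equiv.sumCongr σ (c (sign σ)))) = 1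
    rw [sign_permCongr, sign_sumCongr]
    rcases Int.units_eq_one_or (sign σ) with h | h <;> rw [h] <;> decide
  refine ⟨f.codRestrict _ hf, fun σ τ h => ?_⟩
  have h1 : f σ = f τ := congrArg Subtype.val h
  have h2 := Equiv.Perm.sumCongrHom_injective (E.permCongrHom.injective h1)
  exact congrArg Prod.fst h2

/-- `S₇` does not embed in `A₈`. -/
theorem seven_not_in_alt (f : Perm (Fin 7) →* alternatingGroup (Fin 8)) (hf : Function.Injective f) :
    False := by
  haveI : IsSimpleGroup (alternatingGroup (Fin 8)) := alternatingGroup.isSimpleGroup (by simp)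
  have hcard : Nat.card f.range = 5040 := by
    rw [← Nat.card_congr (MonoidHom.ofInjective hf).toEquiv, Nat.card_perm, Nat.card_fin]; rfl
  have hidx := Subgroup.card_mul_index f.range
  rw [hcard, Inv59.RankFour.card_A8] at hidx
  have hi : f.range.index = 4 := by omega
  rcases (inferInstance : f.range.normalCore.Normal).eq_bot_or_eq_top with h | h
  · let ρ : alternatingGroup (Fin 8) →* Perm (alternatingGroup (Fin 8) ⧸ f.range) :=
      MulAction.toPermHom _ _
    have hρ : Function.Injective ρ := by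
      rw [← MonoidHom.ker_eq_bot_iff, ← h, Subgroup.normalCore_eq_ker]
    have h2 := Subgroup.card_dvd_of_injective ρ hρ
    rw [Inv59.RankFour.card_A8, Nat.card_perm, ← Subgroup.index_eq_card, hi] at h2
    norm_num [Nat.factorial] at h2
  · have h2 := Subgroup.card_le_of_le (Subgroup.normalCore_le f.range)
    rw [h, Subgroup.card_top, Inv59.RankFour.card_A8, hcard] at h2
    omega

/-- `S₆` is not involved as a quotient by `O₂` in sectional rank four. -/
theorem no_six {X : Type*} [Group X] [Finite X] (hc : Cfsg.IsPConstrained 2 X) (hO : Cfsg.oddCore X = ⊥)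
    (hX : Cfsg.SectionalPRankLE 2 4 X) (j : Perm (Fin 6) →* X ⧸ Cfsg.pCore 2 X)
    (hj : Function.Injective j) : False := by
  haveI : Fact (Nat.Prime 2) := ⟨Nat.prime_two⟩
  set O := Cfsg.pCore 2 X with hOdef
  have hO2 : IsPGroup 2 O := Cores.pCore_isPGroup 2
  have hel := PGroups.frattiniQuotient_elemAb (p := 2) hO2
  set Φ := (frattini ↥O).map O.subtype with hΦdef
  haveI : Φ.Normal := by rw [hΦdef]; infer_instance
  have hΦO : Φ ≤ O := Subgroup.map_subtype_le _
  let ι : ↥O ⧸ frattini ↥O →* X ⧸ Φ :=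
    QuotientGroup.map _ _ O.subtype (Subgroup.le_comap_map _ _)
  set Vb := O.map (QuotientGroup.mk' Φ) with hVb
  have hι : ∀ v ∈ Vb, ∃ w, ι w = v := by
    rintro _ ⟨o, ho, rfl⟩
    exact ⟨QuotientGroup.mk (⟨o, ho⟩ : ↥O), rfl⟩
  have hcomm : ∀ a ∈ Vb, ∀ b ∈ Vb, a * b = b * a := by
    intro a ha b hb
    obtain ⟨a, rfl⟩ := hι a ha
    obtain ⟨b, rfl⟩ := hι b hb
    rw [← map_mul, ← map_mul, PGroups.elemAb_comm hel (Subgroup.mem_top a) (Subgroup.mem_top b)]
  have hsq : ∀ a ∈ Vb, a * a = 1 := by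
    intro a ha
    obtain ⟨a, rfl⟩ := hι a ha
    rw [← map_mul, ← pow_two, PGroups.elemAb_pow hel (Subgroup.mem_top a), map_one]
  haveI hVn : Vb.Normal := Subgroup.Normal.map inferInstance _ (QuotientGroup.mk'_surjective Φ)
  let q : X ⧸ Φ →* X ⧸ O := QuotientGroup.lift Φ (QuotientGroup.mk' O) (by rwa [QuotientGroup.ker_mk'])
  have hqs : Function.Surjective q := fun x => by
    obtain ⟨x, rfl⟩ := QuotientGroup.mk_surjective x
    exact ⟨QuotientGroup.mk x, rfl⟩
  have hqk : q.ker = Vb := by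
    rw [hVb]
    exact (QuotientGroup.ker_lift _ _ _).trans (by rw [QuotientGroup.ker_mk'])
  set K := (Subgroup.centralizer (Vb : Set (X ⧸ Φ))).comap (QuotientGroup.mk' Φ) with hKdef
  haveI : K.Normal := by rw [hKdef]; infer_instance
  have hKO : K ≤ O := by
    refine Cores.le_pCore (IsPGroup.of_card (n := (Nat.card K).primeFactorsList.length) ?_)
    refine Nat.eq_prime_pow_of_unique_prime_dvd Nat.card_pos.ne' ?_
    intro r hr hrd
    by_contra hr2
    haveI : Fact r.Prime := ⟨hr⟩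
    obtain ⟨y, hy⟩ := exists_prime_orderOf_dvd_card' r hrd
    have hyo : orderOf (y : X) = r := (Subgroup.orderOf_coe y).trans hy
    have hcop : (Nat.card (Subgroup.zpowers (y : X))).Coprime (Nat.card (frattini ↥O)) := by
      rw [Nat.card_zpowers, hyo]
      obtain ⟨m, hm⟩ := IsPGroup.iff_card.1 (hO2.to_subgroup (frattini ↥O))
      rw [hm]
      exact ((Nat.coprime_primes hr Nat.prime_two).2 hr2).pow_right m
    have hle : Subgroup.zpowers (y : X) ≤ Subgroup.centralizer (O : Set X) := by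
      refine Coprime.le_centralizer_of_frattini ?_ hcop ?_
      · rw [Subgroup.normalizer_eq_top]; exact le_top
      · intro a ha k hk
        have hak : a ∈ K := (Subgroup.zpowers_le.2 y.2) ha
        have h := Subgroup.mem_centralizer_iff.1 hak (QuotientGroup.mk k) ⟨k, hk, rfl⟩
        show a * k * a⁻¹ * k⁻¹ ∈ Φ
        rw [← QuotientGroup.eq_one_iff, QuotientGroup.mk_mul, QuotientGroup.mk_mul, QuotientGroup.mk_mul,
          QuotientGroup.mk_inv, QuotientGroup.mk_inv]
        rw [QuotientGroup.mk'_apply] at h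
        rw [← h, mul_inv_cancel_right, mul_inv_cancel]
    have hyO : (y : X) ∈ O := S3103.aux_centralizer hc hO (hle (Subgroup.mem_zpowers _))
    obtain ⟨m, hm⟩ := IsPGroup.iff_orderOf.1 hO2 ⟨y, hyO⟩
    rw [← Subgroup.orderOf_coe, Subgroup.coe_mk, hyo] at hm
    exact hr2 ((Nat.prime_dvd_prime_iff_eq hr Nat.prime_two).1 (hr.dvd_of_dvd_pow hm.dvd))
  set Y0 := j.range.comap q with hY0
  have hVY : Vb ≤ Y0 := by
    rw [← hqk]
    exact fun x hx => ⟨1, by rw [map_one]; exact (MonoidHom.mem_ker.1 hx).symm⟩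
  let π : ↥Y0 →* Perm (Fin 6) := (MonoidHom.ofInjective hj).symm.toMonoidHom.comp (q.subgroupComap j.range)
  have hπ : Function.Surjective π :=
    (MonoidHom.ofInjective hj).symm.surjective.comp (q.subgroupComap_surjective_of_surjective _ hqs)
  have hπk : π.ker = Vb.subgroupOf Y0 := by
    ext y
    rw [MonoidHom.mem_ker, Subgroup.mem_subgroupOf, ← hqk, MonoidHom.mem_ker]
    exact (MonoidHom.ofInjective hj).symm.map_eq_one_iff.trans Subtype.ext_iff
  have hY : Cfsg.SectionalPRankLE 2 4 ↥Y0 :=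
    SectionalRank.subgroup (Inv59.RankFour.sectionalRank_of_surjective hX _ (QuotientGroup.mk'_surjective Φ)) Y0
  have hC : Subgroup.centralizer ((Vb.subgroupOf Y0 : Subgroup ↥Y0) : Set ↥Y0) ≤ Vb.subgroupOf Y0 := by
    intro y hy
    rw [Subgroup.mem_subgroupOf]
    obtain ⟨x, hx⟩ := QuotientGroup.mk'_surjective Φ (y : X ⧸ Φ)
    refine ⟨x, hKO ?_, hx⟩
    show QuotientGroup.mk' Φ x ∈ Subgroup.centralizer (Vb : Set (X ⧸ Φ))
    rw [hx, Subgroup.mem_centralizer_iff]
    intro v hv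
    exact congrArg Subtype.val (Subgroup.mem_centralizer_iff.1 hy ⟨v, hVY hv⟩ hv)
  have hc' : ∀ a ∈ Vb.subgroupOf Y0, ∀ b ∈ Vb.subgroupOf Y0, a * b = b * a := fun a ha b hb =>
    Subtype.ext (hcomm _ ha _ hb)
  have hsq' : ∀ a ∈ Vb.subgroupOf Y0, a * a = 1 := fun a ha => Subtype.ext (hsq _ ha)
  have h16 : Nat.card (Vb.subgroupOf Y0) ≤ 16 :=
    SectionalRank.card_le hY (Vb.subgroupOf Y0) (Vb.subgroupOf Y0).subtype (Vb.subgroupOf Y0)
      (by rw [Subgroup.range_subtype])
      ⟨⟨⟨fun a b => Subtype.ext (hc' _ a.2 _ b.2)⟩⟩, fun a ha => by rw [pow_two]; exact hsq' a ha⟩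
  exact Inv59.RankFour.six_exclusion (Vb.subgroupOf Y0) hc' hsq' h16 π hπ hπk hC hY

/-- Let X be a finite nonsolvable 2-constrained group with no nontrivial normal subgroup of odd order such that O₂(X) has sectional 2-rank at most 4, and write Q for X/O₂(X). Then Q is isomorphic to the projective special linear group of dimension 3 over the field with 2 elements, to an alternating group of degree n with 5 ≤ n ≤ 8, to a symmetric group of degree n with 5 ≤ n ≤ 7, or else O₃(Q) has order 3 and Q/O₃(Q) is isomorphic to the alternating or the symmetric group of degree 5 (so Q is the direct product of a group of order 3 with the alternating group of degree 5, or an extension of that direct product by a group of order 2). If moreover X itself has sectional 2-rank at most 4, then Q is not isomorphic to the symmetric group of degree 6 or 7 nor to the alternating group of degree 8. -/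
theorem result {X : Type*} [Group X] [Finite X] (hns : ¬ Group.IsSolvable X) (hc : Cfsg.IsPConstrained 2 X) (hO : Cfsg.oddCore X = ⊥)
    (h4 : Cfsg.SectionalPRankLE 2 4 ↥(Cfsg.pCore 2 X)) :
    ((∃ (F : Type) (_ : Field F) (_ : Fintype F), Fintype.card F = 2 ∧
          Nonempty (X ⧸ Cfsg.pCore 2 X ≃* Matrix.ProjectiveSpecialLinearGroup (Fin 3) F)) ∨
        (∃ n : ℕ, 5 ≤ n ∧ n ≤ 8 ∧ Nonempty (X ⧸ Cfsg.pCore 2 X ≃* ↥(alternatingGroup (Fin n)))) ∨
        (∃ n : ℕ, 5 ≤ n ∧ n ≤ 7 ∧ Nonempty (X ⧸ Cfsg.pCore 2 X ≃* Equiv.Perm (Fin n))) ∨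
        (Nat.card ↥(Cfsg.pCore 3 (X ⧸ Cfsg.pCore 2 X)) = 3 ∧
          (Nonempty ((X ⧸ Cfsg.pCore 2 X) ⧸ Cfsg.pCore 3 (X ⧸ Cfsg.pCore 2 X) ≃* ↥(alternatingGroup (Fin 5))) ∨
            Nonempty ((X ⧸ Cfsg.pCore 2 X) ⧸ Cfsg.pCore 3 (X ⧸ Cfsg.pCore 2 X) ≃* Equiv.Perm (Fin 5))))) ∧
      (Cfsg.SectionalPRankLE 2 4 X →
        ¬ (Nonempty (X ⧸ Cfsg.pCore 2 X ≃* Equiv.Perm (Fin 6)) ∨ Nonempty (X ⧸ Cfsg.pCore 2 X ≃* Equiv.Perm (Fin 7)) ∨
            Nonempty (X ⧸ Cfsg.pCore 2 X ≃* ↥(alternatingGroup (Fin 8))))) := by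
  haveI : Fact (Nat.Prime 2) := ⟨Nat.prime_two⟩
  obtain ⟨f, hf⟩ := S3103.result hc hO h4
  refine ⟨?_, fun hX h => ?_⟩
  · have hOsol : Group.IsSolvable ↥(Cfsg.pCore 2 X) :=
      Inv59.RankFour.solvable_of_pGroup (Cores.pCore_isPGroup (G := X) 2)
    have hnsQ : ¬ Group.IsSolvable (X ⧸ Cfsg.pCore 2 X) := by
      intro h
      haveI := hOsol
      haveI := h
      exact hns (Group.isSolvable_of_ker_le_range (Cfsg.pCore 2 X).subtype
        (QuotientGroup.mk' (Cfsg.pCore 2 X)) (by simp))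
    have hQ2 : Cfsg.pCore 2 (X ⧸ Cfsg.pCore 2 X) = ⊥ := Cores.pCore_quotient_pCore 2
    by_cases hrad : ∃ r : ℕ, r.Prime ∧ r ≠ 2 ∧ Cfsg.pCore r (X ⧸ Cfsg.pCore 2 X) ≠ ⊥
    · obtain ⟨r, hr, hr2, hne⟩ := hrad
      exact Or.inr (Or.inr (Or.inr (Inv59.RankFour.radical f hf hnsQ hr hr2 hne)))
    · have hnp : SubgroupsA8.NoP (X ⧸ Cfsg.pCore 2 X) := by
        intro r hr
        by_cases h2 : r = 2
        · rw [h2]; exact hQ2
        · exact not_not.1 fun hne => hrad ⟨r, hr, h2, hne⟩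
      have hQO := Inv59.RankFour.pPrimeCore_bot f hf hnp
      haveI : Nontrivial (X ⧸ Cfsg.pCore 2 X) := by
        by_contra hnt
        haveI := not_nontrivial_iff_subsingleton.1 hnt
        exact hnsQ inferInstance
      rcases SubgroupsA8.classify hQO hQ2 f hf with h | h | h | h | h
      · exact Or.inr (Or.inl h)
      · exact Or.inr (Or.inr (Or.inl ⟨5, le_rfl, by norm_num, h⟩))
      · exact Or.inr (Or.inr (Or.inl ⟨6, by norm_num, by norm_num, h⟩))
      · haveI := h.2
        haveI : Fact (Nat.Prime 7) := ⟨by norm_num⟩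
        obtain ⟨e₁⟩ := SmallGroups.RecogSmall.psl_seven (F := ZMod 7) h.1 (ZMod.card 7)
        obtain ⟨e₂⟩ := S0255.result (F := ZMod 7) (K := ZMod 2) (ZMod.card 7) (ZMod.card 2)
        exact Or.inl ⟨ZMod 2, inferInstance, inferInstance, ZMod.card 2, ⟨e₁.trans e₂⟩⟩
      · exfalso
        obtain ⟨g, hg⟩ := S3103.aux_main hc hO h4
        have e := MonoidHom.ofInjective hg
        refine S2553.no_1344 g.range (fun p hp => ?_) (by rw [← Nat.card_congr e.toEquiv]; exact h)
        rw [← Cores.map_pCore_equiv e, hnp p hp, Subgroup.map_bot]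
  · rcases h with ⟨⟨e⟩⟩ | ⟨⟨e⟩⟩ | ⟨⟨e⟩⟩
    · exact no_six hc hO hX e.symm.toMonoidHom e.symm.injective
    · exact seven_not_in_alt (f.comp e.symm.toMonoidHom) (hf.comp e.symm.injective)
    · obtain ⟨j, hj⟩ := six_in_alt
      exact no_six hc hO hX (e.symm.toMonoidHom.comp j) (e.symm.injective.comp hj)

end Cfsg.Agent.S3104
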