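import Cfsg.Statements.S3105
import Mathlib
import Cfsg.Agent.S3103
import Cfsg.Agent.S0255
import Cfsg.Agent.Lib.SmallGroups.RecogSmall
import Cfsg.Agent.Lib.Inv59.RankFour.Seven.Main

set_option autoImplicit false
open Cfsg

namespace Cfsg.Agent.S3105

/-- Let X be a finite nonsolvable 2-constrained group with no nontrivial normal subgroup of odd order and of sectional 2-rank at most 4, and suppose X/O₂(X) is isomorphic to the projective special linear group of dimension 3 over the field with 2 elements. Then O₂(X) is elementary abelian of order 8 or 16, or is isomorphic to the direct product of a cyclic group of order 4 and an elementary abelian group of order 8. -/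
theorem result {X : Type*} [Group X] [Finite X] (hns : ¬ Group.IsSolvable X) (hc : Cfsg.IsPConstrained 2 X) (hO : Cfsg.oddCore X = ⊥)
    (h4 : Cfsg.SectionalPRankLE 2 4 X) {F : Type*} [Field F] [Fintype F] (hF : Fintype.card F = 2)
    (hQ : Nonempty (X ⧸ Cfsg.pCore 2 X ≃* Matrix.ProjectiveSpecialLinearGroup (Fin 3) F)) :
    (Cfsg.IsElementaryAbelian 2 (Cfsg.pCore 2 X) ∧ (Nat.card ↥(Cfsg.pCore 2 X) = 8 ∨ Nat.card ↥(Cfsg.pCore 2 X) = 16)) ∨
      Nonempty (↥(Cfsg.pCore 2 X) ≃* Multiplicative (ZMod 4) × (Fin 3 → Multiplicative (ZMod 2))) := by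
  haveI : Fact (Nat.Prime 2) := ⟨Nat.prime_two⟩
  haveI : Fact (Nat.Prime 7) := ⟨by norm_num⟩
  haveI : IsSimpleGroup Cfsg.Agent.Lib.Inv59.RankFour.Seven.L3 := Cfsg.Agent.S2553.simple_gl3
  obtain ⟨e⟩ := hQ
  obtain ⟨e₁⟩ := Cfsg.Agent.Lib.SmallGroups.RecogSmall.psl_seven (F := ZMod 7)
    (G := Cfsg.Agent.Lib.Inv59.RankFour.Seven.L3) Cfsg.Agent.S2553.card_gl3 (ZMod.card 7)
  obtain ⟨e₂⟩ := Cfsg.Agent.S0255.result (F := ZMod 7) (K := F) (ZMod.card 7) hF
  set O := Cfsg.pCore 2 X with hOdef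
  have hO2 : IsPGroup 2 O := Cfsg.Agent.Lib.Cores.pCore_isPGroup 2
  have hC := Cfsg.Agent.S3103.aux_centralizer hc hO
  let ι : X ⧸ O ≃* Cfsg.Agent.Lib.Inv59.RankFour.Seven.L3 := e.trans (e₂.symm.trans e₁.symm)
  let φ : X →* Cfsg.Agent.Lib.Inv59.RankFour.Seven.L3 := ι.toMonoidHom.comp (QuotientGroup.mk' O)
  have hφ : Function.Surjective φ := ι.surjective.comp (QuotientGroup.mk'_surjective O)
  have hker : φ.ker = O := by
    ext x
    rw [MonoidHom.mem_ker, ← QuotientGroup.eq_one_iff (N := O) x]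
    exact ι.map_eq_one_iff
  rcases Cfsg.Agent.Lib.Inv59.RankFour.Seven.seven_main hφ hker hO2 hC h4 with ⟨hsq, hcard⟩ | h
  · refine Or.inl ⟨⟨⟨⟨fun a b => Subtype.ext (Cfsg.Agent.Lib.Inv59.RankFour.comm_of_sq hsq a.2 b.2)⟩⟩,
      fun a ha => by rw [pow_two]; exact hsq a ha⟩, hcard⟩
  · exact Or.inr h

end Cfsg.Agent.S3105
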