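import Cfsg.Statements.S3106
import Mathlib
import Cfsg.Agent.S3103
import Cfsg.Agent.Lib.Inv59.RankFour.FiveMain

set_option autoImplicit false
open Cfsg

namespace Cfsg.Agent.S3106

/-- Let X be a finite nonsolvable 2-constrained group with no nontrivial normal subgroup of odd order and of sectional 2-rank at most 4, and suppose X/O₂(X) contains a subgroup isomorphic to the alternating group of degree 5. Then O₂(X) is elementary abelian of order 16, or O₂(X) is a central product of a quaternion group of order 8 and a dihedral group of order 8 (it has order 32 and is generated by two elementwise-commuting subgroups, one quaternion of order 8 and one dihedral of order 8, meeting in the centre). -/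
theorem result {X : Type*} [Group X] [Finite X] (hns : ¬ Group.IsSolvable X) (hc : Cfsg.IsPConstrained 2 X) (hO : Cfsg.oddCore X = ⊥)
    (h4 : Cfsg.SectionalPRankLE 2 4 X)
    (hQ : ∃ A : Subgroup (X ⧸ Cfsg.pCore 2 X), Nonempty (↥A ≃* ↥(alternatingGroup (Fin 5)))) :
    (Cfsg.IsElementaryAbelian 2 (Cfsg.pCore 2 X) ∧ Nat.card ↥(Cfsg.pCore 2 X) = 16) ∨
      (Nat.card ↥(Cfsg.pCore 2 X) = 32 ∧ ∃ A B : Subgroup ↥(Cfsg.pCore 2 X),
        Nonempty (↥A ≃* QuaternionGroup 2) ∧ Nonempty (↥B ≃* DihedralGroup 4) ∧ (∀ a ∈ A, ∀ b ∈ B, a * b = b * a) ∧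
          A ⊔ B = ⊤ ∧ A ⊓ B = Subgroup.center ↥(Cfsg.pCore 2 X)) := by
  haveI : Fact (Nat.Prime 2) := ⟨Nat.prime_two⟩
  obtain ⟨A, ⟨e⟩⟩ := hQ
  set O := Cfsg.pCore 2 X with hOdef
  have hO2 : IsPGroup 2 O := Cfsg.Agent.Lib.Cores.pCore_isPGroup 2
  have hC := Cfsg.Agent.S3103.aux_centralizer hc hO
  set Y := A.comap (QuotientGroup.mk' O) with hY
  have hOY : O ≤ Y := fun x hx => by
    rw [hY, Subgroup.mem_comap, show QuotientGroup.mk' O x = 1 from (QuotientGroup.eq_one_iff x).2 hx]
    exact A.one_mem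
  let φ : ↥Y →* alternatingGroup (Fin 5) := e.toMonoidHom.comp ((QuotientGroup.mk' O).subgroupComap A)
  have hφ : Function.Surjective φ := e.surjective.comp
    (MonoidHom.subgroupComap_surjective_of_surjective _ _ (QuotientGroup.mk'_surjective O))
  have hker : φ.ker = O.subgroupOf Y := by
    ext x
    rw [MonoidHom.mem_ker, Subgroup.mem_subgroupOf, ← QuotientGroup.eq_one_iff]
    exact e.map_eq_one_iff.trans Subtype.ext_iff
  have hC' : Subgroup.centralizer ((O.subgroupOf Y : Subgroup ↥Y) : Set ↥Y) ≤ O.subgroupOf Y := by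
    intro x hx
    rw [Subgroup.mem_subgroupOf]
    refine hC (Subgroup.mem_centralizer_iff.2 fun v hv => ?_)
    exact congrArg Subtype.val (Subgroup.mem_centralizer_iff.1 hx ⟨v, hOY hv⟩ hv)
  let i : ↥(O.subgroupOf Y) ≃* ↥O := Subgroup.subgroupOfEquivOfLe hOY
  have hp : IsPGroup 2 ↥(O.subgroupOf Y) := hO2.of_equiv i.symm
  rcases Cfsg.Agent.Lib.Inv59.RankFour.five_main hφ hker hp hC'
      (Cfsg.Agent.Lib.SectionalRank.subgroup h4 Y) with ⟨hsq, h16⟩ | ⟨h32, A', B', ⟨eA⟩, ⟨eB⟩, hc', hs, hi⟩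
  · left
    have hsq' : ∀ x ∈ O, x * x = 1 := fun x hx => congrArg Subtype.val (hsq ⟨x, hOY hx⟩ hx)
    refine ⟨⟨⟨⟨fun a b => Subtype.ext (Cfsg.Agent.Lib.Inv59.RankFour.comm_of_sq hsq' a.2 b.2)⟩⟩,
      fun a ha => by rw [pow_two]; exact hsq' a ha⟩, ?_⟩
    rw [← Nat.card_congr i.toEquiv, h16]
  · right
    refine ⟨by rw [← Nat.card_congr i.toEquiv, h32], A'.map i.toMonoidHom, B'.map i.toMonoidHom,
      ⟨(A'.equivMapOfInjective i.toMonoidHom i.injective).symm.trans eA⟩,
      ⟨(B'.equivMapOfInjective i.toMonoidHom i.injective).symm.trans eB⟩, ?_, ?_, ?_⟩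
    · rintro _ ⟨a, ha, rfl⟩ _ ⟨b, hb, rfl⟩
      rw [← map_mul, ← map_mul, hc' a ha b hb]
    · rw [← Subgroup.map_sup, hs]
      exact Subgroup.map_top_of_surjective _ i.surjective
    · rw [← Subgroup.map_inf _ _ _ i.injective, hi]
      ext x
      constructor
      · rintro ⟨z, hz, rfl⟩
        rw [Subgroup.mem_center_iff]
        intro g
        obtain ⟨g, rfl⟩ := i.surjective g
        show i g * i z = i z * i g
        rw [← map_mul, ← map_mul, Subgroup.mem_center_iff.1 hz g]
      · intro hx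
        refine ⟨i.symm x, Subgroup.mem_center_iff.2 fun g => i.injective ?_, i.apply_symm_apply x⟩
        rw [map_mul, map_mul, MulEquiv.apply_symm_apply]
        exact Subgroup.mem_center_iff.1 hx (i g)

end Cfsg.Agent.S3106
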