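import Cfsg.Statements.S3117
import Mathlib
import Cfsg.Agent.Lib.Induced.Burnside
import Cfsg.Agent.Lib.ConjFunctor.CritExist
import Cfsg.Agent.Lib.Transfer.Critical

set_option autoImplicit false
open Cfsg

namespace Cfsg.Agent.S3117

open scoped commutatorElement


abbrev W2 := ZMod 2 × ZMod 2

section Quad

variable {V : Type*} [Group V] [Finite V]

/-- The polar map of `q`. -/
def polar (q : V → W2) (u v : V) : W2 := q (u * v) + q u + q v

/-- The sign of an element of `ZMod 2`. -/
def sgn (a : ZMod 2) : ℤ := if a = 0 then 1 else -1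

theorem sgn_add : ∀ a b : ZMod 2, sgn (a + b) = sgn a * sgn b := by decide

theorem sgn_sum : ∀ w : W2,
    1 + sgn w.1 + sgn w.2 + sgn (w.1 + w.2) = if w = 0 then 4 else 0 := by decide

/-- A form `π` together with its kernel. -/
theorem proj_ker : ∀ z w : W2, z ≠ 0 → z.1 * w.2 + z.2 * w.1 = 0 → w = 0 ∨ w = z := by decide

theorem w2_add_self : ∀ w : W2, w + w = 0 := by decide

structure IsQuad (q : V → W2) : Prop where
  inv : ∀ v : V, v * v = 1
  zero_iff : ∀ v, q v = 0 ↔ v = 1
  bil : ∀ u v w, polar q u (v * w) = polar q u v + polar q u w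

variable {q : V → W2}

theorem comm_of_quad (hQ : IsQuad q) (u v : V) : u * v = v * u := by
  have a : ∀ x : V, x⁻¹ = x := fun x => inv_eq_of_mul_eq_one_right (hQ.inv x)
  calc u * v = (u * v)⁻¹ := (a _).symm
    _ = v * u := by rw [mul_inv_rev, a, a]

theorem polar_comm (hQ : IsQuad q) (u v : V) : polar q u v = polar q v u := by
  unfold polar
  rw [comm_of_quad hQ v u]
  abel

theorem card_pow (hQ : IsQuad q) : ∃ d, Nat.card V = 2 ^ d := by
  have : IsPGroup 2 V := fun v => ⟨1, by rw [pow_one, pow_two]; exact hQ.inv v⟩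
  exact IsPGroup.iff_card.1 this

theorem exists_notMem' [Fintype V] (s : Finset V) (h : s.card < Fintype.card V) : ∃ v, v ∉ s := by
  by_contra hne
  push Not at hne
  rw [Finset.eq_univ_iff_forall.2 hne, Finset.card_univ] at h
  omega

theorem exists_zero (hQ : IsQuad q) (π : W2 →+ ZMod 2) (h5 : 5 ≤ Nat.card V) :
    ∃ v, v ≠ 1 ∧ π (q v) = 0 := by
  classical
  cases nonempty_fintype V
  by_contra hne
  push Not at hne
  have one : ∀ v, v ≠ 1 → π (q v) = 1 := by
    intro v hv
    have h2 : ∀ a : ZMod 2, a ≠ 0 → a = 1 := by decide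
    exact h2 _ (hne v hv)
  rw [Nat.card_eq_fintype_card] at h5
  obtain ⟨u, hu⟩ : ∃ u : V, u ∉ ({1} : Finset V) := by
    refine exists_notMem' _ ?_
    simp; omega
  rw [Finset.mem_singleton] at hu
  have pol : ∀ v, v ≠ 1 → v ≠ u → π (polar q u v) = 1 := by
    intro v hv hvu
    have huv : u * v ≠ 1 := fun e => hvu (mul_left_cancel (e.trans (hQ.inv u).symm))
    unfold polar
    rw [map_add, map_add, one _ hu, one _ hv, one _ huv]
    decide
  obtain ⟨v₁, hv₁⟩ : ∃ v : V, v ∉ ({1, u} : Finset V) := by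
    refine exists_notMem' _ ?_
    exact lt_of_le_of_lt Finset.card_le_two (by omega)
  simp only [Finset.mem_insert, Finset.mem_singleton, not_or] at hv₁
  obtain ⟨v₂, hv₂⟩ : ∃ v : V, v ∉ ({1, u, v₁, v₁ * u} : Finset V) := by
    refine exists_notMem' _ ?_
    exact lt_of_le_of_lt Finset.card_le_four (by omega)
  simp only [Finset.mem_insert, Finset.mem_singleton, not_or] at hv₂
  obtain ⟨h21, h2u, h2v, h2vu⟩ := hv₂
  have hp1 : v₁ * v₂ ≠ 1 := fun e => h2v (mul_left_cancel (e.trans (hQ.inv v₁).symm))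
  have hpu : v₁ * v₂ ≠ u := by
    intro e
    apply h2vu
    rw [← e, ← mul_assoc, hQ.inv, one_mul]
  have e1 := pol _ hp1 hpu
  rw [hQ.bil, map_add, pol _ hv₁.1 hv₁.2, pol _ h21 h2u] at e1
  exact absurd e1 (by decide)

theorem level_nonempty (hQ : IsQuad q) (h5 : 5 ≤ Nat.card V) (z : W2) (hz : z ≠ 0) :
    ∃ v, q v = z := by
  let π : W2 →+ ZMod 2 := AddMonoidHom.mk' (fun w => z.1 * w.2 + z.2 * w.1) (by
    intro a b; simp only [Prod.fst_add, Prod.snd_add]; ring)
  obtain ⟨v, hv1, hv⟩ := exists_zero hQ π h5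
  rcases proj_ker z (q v) hz hv with h | h
  · exact absurd ((hQ.zero_iff v).1 h) hv1
  · exact ⟨v, h⟩

theorem card_dvd_sq [Fintype V] (hQ : IsQuad q) (π : W2 →+ ZMod 2) :
    (Fintype.card V : ℤ) ∣ (∑ v : V, sgn (π (q v))) ^ 2 := by
  classical
  have key : ∀ w u : V, sgn (π (q u)) * sgn (π (q (u * w))) =
      sgn (π (q w)) * sgn (π (polar q w u)) := by
    intro w u
    rw [← sgn_add, ← sgn_add, ← map_add, ← map_add]
    congr 2
    unfold polar
    rw [comm_of_quad hQ w u]
    have := w2_add_self (q w)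
    calc q u + q (u * w) = (q w + q w) + (q u + q (u * w)) := by rw [this, zero_add]
      _ = _ := by abel
  have hsq : (∑ v : V, sgn (π (q v))) ^ 2 =
      ∑ w : V, ∑ u : V, sgn (π (q w)) * sgn (π (polar q w u)) := by
    rw [pow_two, Finset.sum_mul_sum]
    refine Eq.trans (Finset.sum_congr rfl fun u _ => ?_) Finset.sum_comm
    rw [← Equiv.sum_comp (Equiv.mulLeft u) (fun v => sgn (π (q u)) * sgn (π (q v)))]
    exact Finset.sum_congr rfl fun w _ => key w u
  rw [hsq]
  refine Finset.dvd_sum fun w _ => ?_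
  rw [← Finset.mul_sum]
  refine Dvd.dvd.mul_left ?_ _
  by_cases h : ∀ u, π (polar q w u) = 0
  · simp [h, sgn, Finset.sum_const]
  · push Not at h
    obtain ⟨u₀, hu₀⟩ := h
    have h2 : ∀ a : ZMod 2, a ≠ 0 → sgn a = -1 := by decide
    have e : (∑ u : V, sgn (π (polar q w u))) = -∑ u : V, sgn (π (polar q w u)) := by
      conv_lhs => rw [← Equiv.sum_comp (Equiv.mulLeft u₀) (fun u => sgn (π (polar q w u)))]
      rw [← Finset.sum_neg_distrib]
      refine Finset.sum_congr rfl fun u _ => ?_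
      rw [Equiv.coe_mulLeft, hQ.bil, map_add, sgn_add, h2 _ hu₀]
      ring
    rw [show (∑ u : V, sgn (π (polar q w u))) = 0 by omega]
    exact dvd_zero _

theorem eight_dvd {a : ℤ} {d : ℕ} (hd : 5 ≤ d) (h : (2 : ℤ) ^ d ∣ a ^ 2) : 8 ∣ a := by
  have h32 : (32 : ℤ) ∣ a ^ 2 := (pow_dvd_pow (2 : ℤ) hd).trans h
  obtain ⟨b, rfl⟩ : (2 : ℤ) ∣ a := Int.prime_two.dvd_of_dvd_pow (dvd_trans (by norm_num) h32)
  have h8 : (8 : ℤ) ∣ b ^ 2 := by
    obtain ⟨c, hc⟩ := h32
    exact ⟨c, by linarith [show (2 * b) ^ 2 = 4 * b ^ 2 by ring]⟩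
  obtain ⟨c, rfl⟩ : (2 : ℤ) ∣ b := Int.prime_two.dvd_of_dvd_pow (dvd_trans (by norm_num) h8)
  have h2 : (2 : ℤ) ∣ c ^ 2 := by
    obtain ⟨e, he⟩ := h8
    exact ⟨e, by linarith [show (2 * c) ^ 2 = 4 * c ^ 2 by ring]⟩
  obtain ⟨e, rfl⟩ : (2 : ℤ) ∣ c := Int.prime_two.dvd_of_dvd_pow h2
  exact ⟨e, by ring⟩

theorem card_le (hQ : IsQuad q) : Nat.card V ≤ 16 := by
  classical
  cases nonempty_fintype V
  obtain ⟨d, hd⟩ := card_pow hQ
  by_contra hlt
  have hd5 : 5 ≤ d := by
    by_contra h
    have : (2 : ℕ) ^ d ≤ 2 ^ 4 := Nat.pow_le_pow_right (by norm_num) (by omega)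
    omega
  rw [Nat.card_eq_fintype_card] at hd
  have hs : ∀ π : W2 →+ ZMod 2, 8 ∣ ∑ v : V, sgn (π (q v)) := fun π => by
    refine eight_dvd hd5 ?_
    have := card_dvd_sq hQ π
    rw [hd] at this
    exact_mod_cast this
  let p₁ : W2 →+ ZMod 2 := AddMonoidHom.fst _ _
  let p₂ : W2 →+ ZMod 2 := AddMonoidHom.snd _ _
  have e : (Fintype.card V : ℤ) + ∑ v : V, sgn (p₁ (q v)) + ∑ v : V, sgn (p₂ (q v)) +
      ∑ v : V, sgn ((p₁ + p₂) (q v)) = 4 := by
    rw [show (Fintype.card V : ℤ) = ∑ _v : V, (1 : ℤ) by simp, ← Finset.sum_add_distrib,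
      ← Finset.sum_add_distrib, ← Finset.sum_add_distrib]
    rw [Finset.sum_eq_single (1 : V)]
    · exact (sgn_sum (q 1)).trans (by rw [if_pos ((hQ.zero_iff 1).2 rfl)])
    · intro v _ hv
      exact (sgn_sum (q v)).trans (by rw [if_neg fun h => hv ((hQ.zero_iff v).1 h)])
    · simp
  have h8 : (8 : ℤ) ∣ (Fintype.card V : ℤ) := by
    rw [hd]; push_cast
    exact (show (8 : ℤ) ∣ 2 ^ 5 by norm_num).trans (pow_dvd_pow 2 hd5)
  have := dvd_add (dvd_add (dvd_add h8 (hs p₁)) (hs p₂)) (hs (p₁ + p₂))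
  rw [e] at this
  norm_num at this

/-- The number of fixed points of an automorphism on an invariant set. -/
theorem fixed_modEq {r : ℕ} [Fact r.Prime] (g : MulAut V) (hg : g ^ r = 1)
    (P : V → Prop) (hP : ∀ v, P (g v) ↔ P v) :
    Nat.card {v : V // P v} ≡ Nat.card {v : V // P v ∧ g v = v} [MOD r] := by
  classical
  cases nonempty_fintype V
  let e : Equiv.Perm {v : V // P v} := Equiv.Perm.subtypePerm g.toEquiv hP
  have he : ∀ k : ℕ, ∀ x : {v : V // P v}, ((e ^ k) x : V) = (g ^ k) x := by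
    intro k
    induction k with
    | zero => intro x; rfl
    | succ k ih =>
      intro x
      rw [pow_succ', pow_succ', Equiv.Perm.mul_apply, MulAut.mul_apply, ← ih]
      rfl
  have her : e ^ r ^ 1 = 1 := by
    ext x
    rw [pow_one, he, hg]
    rfl
  have := Equiv.Perm.card_compl_support_modEq her
  rw [Nat.card_eq_fintype_card, Nat.card_eq_fintype_card]
  refine this.symm.trans ?_
  suffices h : e.supportᶜ.card = Fintype.card {v : V // P v ∧ g v = v} by rw [h]
  rw [← Fintype.card_coe]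
  refine Fintype.card_congr ((Equiv.subtypeEquivRight fun x => ?_).trans
    (Equiv.subtypeSubtypeEquivSubtypeInter P (fun v => g v = v)))
  rw [Finset.mem_compl, Equiv.Perm.notMem_support, Subtype.ext_iff]
  rfl

theorem prime_cases : ∀ d f : Fin 5, ∀ r : Fin 17, f < d → Nat.Prime r.1 →
    2 ^ d.1 % r.1 = 2 ^ f.1 % r.1 →
    r.1 = 2 ∨ (r.1 = 3 ∧ (d.1 = 4 → f.1 = 0 ∨ f.1 = 2)) ∨ (r.1 = 5 ∧ d.1 = 4 ∧ f.1 = 0) ∨
      (r.1 = 7 ∧ d.1 = f.1 + 3) := by decide +kernel

/-- The map `v ↦ v * g v`. -/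
def deltaHom (hQ : IsQuad q) (g : MulAut V) : V →* V where
  toFun v := v * g v
  map_one' := by simp
  map_mul' u v := by
    rw [map_mul, mul_assoc u v, ← mul_assoc v (g u), comm_of_quad hQ v (g u)]
    simp only [mul_assoc]

theorem mem_ker_delta (hQ : IsQuad q) (g : MulAut V) (v : V) :
    v ∈ (deltaHom hQ g).ker ↔ g v = v := by
  change v * g v = 1 ↔ _
  exact ⟨fun h => mul_left_cancel (h.trans (hQ.inv v).symm), fun h => by rw [h]; exact hQ.inv v⟩

theorem order_cases (hQ : IsQuad q) {r : ℕ} (hr : r.Prime) (g : MulAut V) (hg : orderOf g = r) :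
    ∃ d f, Nat.card V = 2 ^ d ∧ Nat.card (deltaHom hQ g).ker = 2 ^ f ∧
      (r = 2 ∨ (r = 3 ∧ (d = 4 → f = 0 ∨ f = 2)) ∨ (r = 5 ∧ d = 4 ∧ f = 0) ∨
        (r = 7 ∧ d = f + 3)) := by
  haveI := Fact.mk hr
  obtain ⟨d, hd⟩ := card_pow hQ
  set K := (deltaHom hQ g).ker with hK
  obtain ⟨f, -, hf⟩ := (Nat.dvd_prime_pow Nat.prime_two).1 (hd ▸ K.card_subgroup_dvd_card)
  refine ⟨d, f, hd, hf, ?_⟩
  have hne : K ≠ ⊤ := by
    intro e
    have : g = 1 := MulEquiv.ext fun v => (mem_ker_delta hQ g v).1 (hK ▸ e ▸ Subgroup.mem_top v)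
    rw [this, orderOf_one] at hg
    exact hr.ne_one hg.symm
  have hlt : Nat.card K < Nat.card V :=
    lt_of_le_of_ne (Nat.le_of_dvd Nat.card_pos K.card_subgroup_dvd_card)
      fun e => hne (Subgroup.eq_top_of_card_eq K e)
  rw [hd, hf] at hlt
  have hfd : f < d := (Nat.pow_lt_pow_iff_right (by norm_num)).1 hlt
  have hd4 : d ≤ 4 := by
    by_contra h
    have : (2 : ℕ) ^ 5 ≤ 2 ^ d := Nat.pow_le_pow_right (by norm_num) (by omega)
    have := card_le hQ
    omega
  have hm := fixed_modEq (r := r) g (hg ▸ pow_orderOf_eq_one g) (fun _ => True) (fun _ => Iff.rfl)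
  have e1 : Nat.card {v : V // True} = 2 ^ d := by
    rw [← hd]; exact Nat.card_congr (Equiv.subtypeUnivEquiv fun _ => trivial)
  have e2 : Nat.card {v : V // True ∧ g v = v} = 2 ^ f := by
    rw [← hf]
    exact Nat.card_congr (Equiv.subtypeEquivRight fun v => by rw [true_and, hK, mem_ker_delta])
  rw [e1, e2] at hm
  have hr16 : r < 17 := by
    by_contra h
    have l1 : 2 ^ d < r := lt_of_le_of_lt (Nat.pow_le_pow_right (by norm_num) hd4) (by norm_num; omega)
    rw [Nat.ModEq, Nat.mod_eq_of_lt l1, Nat.mod_eq_of_lt (hlt.trans l1)] at hm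
    omega
  exact prime_cases ⟨d, by omega⟩ ⟨f, by omega⟩ ⟨r, hr16⟩ hfd hr hm

theorem no_seven (hQ : IsQuad q) (g : MulAut V) (hgq : ∀ v, q (g v) = q v) : orderOf g ≠ 7 := by
  classical
  intro hg
  cases nonempty_fintype V
  haveI : Fact (Nat.Prime 7) := ⟨by norm_num⟩
  obtain ⟨d, f, hd, hf, h⟩ := order_cases hQ (by norm_num) g hg
  obtain ⟨-, hdf⟩ : 7 = 7 ∧ d = f + 3 := by simpa using h
  set F := deltaHom hQ g
  have hcard := F.ker.card_mul_index
  rw [Subgroup.index_ker, hf, hd, hdf, pow_add] at hcard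
  have h8 : Nat.card F.range = 8 := Nat.eq_of_mul_eq_mul_left (by positivity) hcard
  have hinv : ∀ v, g v ∈ F.range ↔ v ∈ F.range := by
    have h1 : ∀ v, v ∈ F.range → g v ∈ F.range := by
      rintro v ⟨u, rfl⟩
      exact ⟨g u, (map_mul g u (g u)).symm⟩
    intro v
    refine ⟨fun hv => ?_, h1 v⟩
    have hp : ∀ k : ℕ, (g ^ k) (g v) ∈ F.range := by
      intro k
      induction k with
      | zero => exact hv
      | succ k ih => rw [pow_succ', MulAut.mul_apply]; exact h1 _ ih
    have := hp 6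
    rwa [← MulAut.mul_apply, ← pow_succ, show 6 + 1 = orderOf g by omega, pow_orderOf_eq_one] at this
  have hm := fixed_modEq (r := 7) g (hg ▸ pow_orderOf_eq_one g) (fun v => v ∈ F.range) hinv
  have hd4 : d ≤ 4 := by
    by_contra h
    have : (2 : ℕ) ^ 5 ≤ 2 ^ d := Nat.pow_le_pow_right (by norm_num) (by omega)
    have := card_le hQ
    omega
  have hk : Nat.card {v : V // v ∈ F.range ∧ g v = v} ≤ 2 ^ f := by
    rw [← hf]
    exact Nat.card_le_card_of_injective (fun v => (⟨v.1, (mem_ker_delta hQ g v.1).2 v.2.2⟩ : F.ker))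
      fun a b e => Subtype.ext (Subtype.mk.inj e)
  have hf1 : 2 ^ f ≤ 2 := by
    calc 2 ^ f ≤ 2 ^ 1 := Nat.pow_le_pow_right (by norm_num) (by omega)
      _ = 2 := rfl
  have hk1 : Nat.card {v : V // v ∈ F.range ∧ g v = v} = 1 := by
    have h8' : Nat.card {v : V // v ∈ F.range} = 8 := h8
    rw [h8', Nat.ModEq] at hm
    omega
  haveI := (Nat.card_eq_one_iff_unique.1 hk1).1
  have fix1 : ∀ v ∈ F.range, g v = v → v = 1 := fun v hv hgv =>
    congrArg Subtype.val (Subsingleton.elim
      (⟨v, hv, hgv⟩ : {v : V // v ∈ F.range ∧ g v = v}) ⟨1, one_mem _, map_one g⟩)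
  let S : Finset V := (Finset.univ.filter fun v => v ∈ F.range).erase 1
  have hS : S.card = 7 := by
    rw [Finset.card_erase_of_mem (Finset.mem_filter.2 ⟨Finset.mem_univ _, one_mem _⟩), ← Fintype.card_subtype, ← Nat.card_eq_fintype_card]
    have h8' : Nat.card {v : V // v ∈ F.range} = 8 := h8
    omega
  have hmem : ∀ {v}, v ∈ S ↔ v ≠ 1 ∧ v ∈ F.range := by simp [S, -MonoidHom.mem_range]
  have horb : ∀ {u v}, u ∈ S → v ∈ S → q u = q v := by
    intro u v hu hv
    obtain ⟨hu1, huR⟩ := hmem.1 hu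
    let O := (Finset.range 7).image fun i => (g ^ i) u
    have hpR : ∀ k : ℕ, (g ^ k) u ∈ F.range ∧ q ((g ^ k) u) = q u := by
      intro k
      induction k with
      | zero => exact ⟨huR, rfl⟩
      | succ k ih => rw [pow_succ', MulAut.mul_apply, hinv, hgq]; exact ih
    have hO : O = S := by
      refine Finset.eq_of_subset_of_card_le ?_ ?_
      · intro x hx
        simp only [O, Finset.mem_image] at hx
        obtain ⟨i, -, rfl⟩ := hx
        exact hmem.2 ⟨fun e => hu1 ((g ^ i).injective (e.trans (map_one _).symm)), (hpR i).1⟩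
      · rw [hS, Finset.card_image_of_injOn ?_, Finset.card_range]
        have key : ∀ i j, i < j → j < 7 → (g ^ i) u ≠ (g ^ j) u := by
          intro i j hij hj e
          rw [show j = i + (j - i) by omega, pow_add, MulAut.mul_apply] at e
          have e' : (g ^ (j - i)) u = u := ((g ^ i).injective e).symm
          have hco : (j - i).Coprime (orderOf g) := by
            rw [hg]
            exact ((Nat.Prime.coprime_iff_not_dvd (by norm_num)).2
              (Nat.not_dvd_of_pos_of_lt (by omega) (by omega))).symm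
          obtain ⟨m, hm⟩ := exists_pow_eq_self_of_coprime hco
          have hfix : ∀ m : ℕ, ((g ^ (j - i)) ^ m) u = u := by
            intro m
            induction m with
            | zero => rfl
            | succ m ih => rw [pow_succ', MulAut.mul_apply, ih, e']
          exact hu1 (fix1 u huR (by rw [← hm]; exact hfix m))
        intro i hi j hj e
        simp only [Finset.coe_range, Set.mem_Iio] at hi hj
        rcases lt_trichotomy i j with h | h | h
        · exact absurd e (key i j h hj)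
        · exact h
        · exact absurd e.symm (key j i h hi)
    rw [← hO] at hv
    simp only [O, Finset.mem_image] at hv
    obtain ⟨i, -, rfl⟩ := hv
    exact (hpR i).2.symm
  obtain ⟨u, hu⟩ := Finset.card_pos.1 (show 0 < S.card by omega)
  obtain ⟨v, hv, hvu⟩ : ∃ v ∈ S, v ∉ ({u} : Finset V) :=
    Finset.exists_mem_notMem_of_card_lt_card (by simp; omega)
  obtain ⟨w, hw, hwu⟩ : ∃ w ∈ S, w ∉ ({u, v, u * v} : Finset V) :=
    Finset.exists_mem_notMem_of_card_lt_card
      (lt_of_le_of_lt Finset.card_le_three (by omega))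
  simp only [Finset.mem_insert, Finset.mem_singleton, not_or] at hvu hwu
  have pol : ∀ x ∈ S, x ≠ u → polar q u x = q u + q u + q u := by
    intro x hx hxu
    obtain ⟨-, hxR⟩ := hmem.1 hx
    have hux : u * x ∈ S := hmem.2
      ⟨fun e => hxu (mul_left_cancel (e.trans (hQ.inv u).symm)), mul_mem (hmem.1 hu).2 hxR⟩
    rw [polar, horb hux hu, horb hx hu]
  have hvw : v * w ∈ S := hmem.2
    ⟨fun e => hwu.2.1 (mul_left_cancel (e.trans (hQ.inv v).symm)),
      mul_mem (hmem.1 hv).2 (hmem.1 hw).2⟩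
  have hvwu : v * w ≠ u := by
    intro e
    apply hwu.2.2
    rw [← e, comm_of_quad hQ (v * w) v, ← mul_assoc, hQ.inv, one_mul]
  have e := hQ.bil u v w
  rw [pol _ hv hvu, pol _ hw hwu.1, pol _ hvw hvwu, w2_add_self, zero_add, w2_add_self] at e
  exact (hmem.1 hu).1 ((hQ.zero_iff u).1 e)

theorem not_five_three (hQ : IsQuad q) (g h : MulAut V) (hgq : ∀ v, q (g v) = q v)
    (hhq : ∀ v, q (h v) = q v) (hg : orderOf g = 5) (hh : orderOf h = 3) : False := by
  classical
  cases nonempty_fintype V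
  haveI : Fact (Nat.Prime 5) := ⟨by norm_num⟩
  haveI : Fact (Nat.Prime 3) := ⟨by norm_num⟩
  obtain ⟨d, f, hd, hf, hc⟩ := order_cases hQ (by norm_num) g hg
  obtain ⟨rfl, rfl⟩ : d = 4 ∧ f = 0 := by simpa using hc
  obtain ⟨d', f', hd', hf', hc'⟩ := order_cases hQ (by norm_num) h hh
  obtain rfl : d' = 4 := Nat.pow_right_injective le_rfl (hd'.symm.trans hd)
  have hf2 : f' = 0 ∨ f' = 2 := by simpa using hc'
  have hgfix : ∀ v, g v = v → v = 1 := by
    intro v hv
    have hb : (deltaHom hQ g).ker = ⊥ := Subgroup.eq_bot_of_card_eq _ hf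
    exact Subgroup.mem_bot.1 (hb ▸ (mem_ker_delta hQ g v).2 hv)
  have h5 : ∀ z : W2, z ≠ 0 → 5 ≤ Nat.card {v : V // q v = z} := by
    intro z hz
    have hm := fixed_modEq (r := 5) g (hg ▸ pow_orderOf_eq_one g) (fun v => q v = z)
      (fun v => by rw [hgq])
    haveI : IsEmpty {v : V // q v = z ∧ g v = v} :=
      ⟨fun x => hz (by rw [← x.2.1, (hQ.zero_iff _).2 (hgfix _ x.2.2)])⟩
    rw [Nat.card_of_isEmpty (α := {v : V // q v = z ∧ g v = v}), Nat.modEq_zero_iff_dvd] at hm
    obtain ⟨v, hv⟩ := level_nonempty hQ (by rw [hd]; norm_num) z hz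
    haveI : Nonempty {v : V // q v = z} := ⟨⟨v, hv⟩⟩
    exact Nat.le_of_dvd Nat.card_pos hm
  have hsum : ∀ P : V → Prop, Nat.card {v : V // P v} =
      Nat.card {v : V // P v ∧ q v = 0} + Nat.card {v : V // P v ∧ q v = (1, 0)} +
        Nat.card {v : V // P v ∧ q v = (0, 1)} + Nat.card {v : V // P v ∧ q v = (1, 1)} := by
    intro P
    simp only [Nat.card_eq_fintype_card, Fintype.card_subtype]
    rw [Finset.card_eq_sum_card_fiberwise (f := q) (t := Finset.univ) (fun _ _ => Finset.mem_univ _)]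
    simp only [Finset.filter_filter]
    rw [show (Finset.univ : Finset W2) = {0, (1, 0), (0, 1), (1, 1)} by decide]
    rw [Finset.sum_insert (by decide), Finset.sum_insert (by decide), Finset.sum_insert (by decide),
      Finset.sum_singleton]
    ring
  have h0 : ∀ P : V → Prop, P 1 → Nat.card {v : V // P v ∧ q v = 0} = 1 := by
    intro P hP
    rw [Nat.card_eq_one_iff_unique]
    refine ⟨⟨fun a b => Subtype.ext ?_⟩, ⟨⟨1, hP, (hQ.zero_iff 1).2 rfl⟩⟩⟩
    rw [(hQ.zero_iff _).1 a.2.2, (hQ.zero_iff _).1 b.2.2]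
  have eq5 : ∀ z : W2, Nat.card {v : V // True ∧ q v = z} = Nat.card {v : V // q v = z} :=
    fun z => Nat.card_congr (Equiv.subtypeEquivRight fun v => true_and _ ▸ Iff.rfl)
  have s16 := hsum (fun _ => True)
  rw [Nat.card_congr (Equiv.subtypeUnivEquiv fun _ => trivial), hd, h0 _ trivial, eq5, eq5, eq5] at s16
  have a1 := h5 (1, 0) (by decide)
  have a2 := h5 (0, 1) (by decide)
  have a3 := h5 (1, 1) (by decide)
  have two : ∀ z : W2, Nat.card {v : V // q v = z} = 5 →
      2 ≤ Nat.card {v : V // h v = v ∧ q v = z} := by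
    intro z hz
    have hm := fixed_modEq (r := 3) h (hh ▸ pow_orderOf_eq_one h) (fun v => q v = z)
      (fun v => by rw [hhq])
    rw [hz, Nat.card_congr (Equiv.subtypeEquivRight fun v => And.comm), Nat.ModEq] at hm
    omega
  have b1 := two (1, 0) (by omega)
  have b2 := two (0, 1) (by omega)
  have b3 := two (1, 1) (by omega)
  have sF := hsum (fun v => h v = v)
  rw [h0 (fun v => h v = v) (map_one h), Nat.card_congr (β := (deltaHom hQ h).ker)
    (Equiv.subtypeEquivRight fun v => (mem_ker_delta hQ h v).symm), hf'] at sF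
  rcases hf2 with rfl | rfl <;> omega

theorem exists_pow_mul_pow {n p : ℕ} (hn : n ≠ 0) (h : ∀ r, r.Prime → r ∣ n → r = 2 ∨ r = p) :
    ∃ a b, n = 2 ^ a * p ^ b := by
  refine ⟨n.factorization 2, (n / 2 ^ n.factorization 2).primeFactorsList.length, ?_⟩
  conv_lhs => rw [← Nat.ordProj_mul_ordCompl_eq_self n 2]
  congr 1
  refine Nat.eq_prime_pow_of_unique_prime_dvd (Nat.ordCompl_pos 2 hn).ne' fun {r} hr hdvd => ?_
  rcases h r hr (hdvd.trans (Nat.ordCompl_dvd n 2)) with rfl | e
  · exact absurd hdvd (Nat.not_dvd_ordCompl Nat.prime_two hn)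
  · exact e

theorem solvable_of_quad (hQ : IsQuad q) (G : Subgroup (MulAut V))
    (hG : ∀ g ∈ G, ∀ v, q (g v) = q v) : Group.IsSolvable G := by
  have hprimes : ∀ r, r.Prime → r ∣ Nat.card G → r = 2 ∨ r = 3 ∨ r = 5 := by
    intro r hr hdvd
    haveI := Fact.mk hr
    obtain ⟨g, hg⟩ := exists_prime_orderOf_dvd_card' r hdvd
    obtain ⟨d, f, -, -, hc⟩ := order_cases hQ hr (g : MulAut V) (by rwa [Subgroup.orderOf_coe])
    rcases hc with h | h | h | h
    · exact Or.inl h
    · exact Or.inr (Or.inl h.1)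
    · exact Or.inr (Or.inr h.1)
    · exact absurd (by rw [Subgroup.orderOf_coe, hg, h.1]) (no_seven hQ (g : MulAut V) (hG g g.2))
  by_cases h5 : 5 ∣ Nat.card G
  · obtain ⟨a, b, hab⟩ := exists_pow_mul_pow (p := 5) (Nat.card_pos (α := G)).ne' fun r hr hdvd => by
      rcases hprimes r hr hdvd with h | h | h
      · exact Or.inl h
      · exfalso
        haveI : Fact (Nat.Prime 5) := ⟨by norm_num⟩
        haveI := Fact.mk hr
        obtain ⟨g, hg⟩ := exists_prime_orderOf_dvd_card' 5 h5
        obtain ⟨k, hk⟩ := exists_prime_orderOf_dvd_card' r hdvd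
        exact not_five_three hQ g k (hG g g.2) (hG k k.2) (by rwa [Subgroup.orderOf_coe])
          (by rw [Subgroup.orderOf_coe, hk, h])
      · exact Or.inr h
    exact Lib.Induced.Burnside.isSolvable_of_card_eq 2 5 a b Nat.prime_two (by norm_num) hab
  · obtain ⟨a, b, hab⟩ := exists_pow_mul_pow (p := 3) (Nat.card_pos (α := G)).ne' fun r hr hdvd => by
      rcases hprimes r hr hdvd with h | h | h
      · exact Or.inl h
      · exact Or.inr h
      · exact absurd (h ▸ hdvd) h5
    exact Lib.Induced.Burnside.isSolvable_of_card_eq 2 3 a b Nat.prime_two (by norm_num) hab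

end Quad

section Exp4

variable {U : Type*} [Group U]

/-- Properties of the invariant subgroup to which automorphisms are restricted. -/
structure IsSmall (U : Type*) [Group U] : Prop where
  four : ∀ x : U, x ^ 4 = 1
  cen : ∀ x y : U, x ^ 2 = 1 → x * y = y * x
  card : Nat.card {x : U // x ^ 2 = 1} ≤ 4
  comm : ∀ x y : U, ⁅x, y⁆ ^ 2 = 1

/-- The subgroup of elements of square one. -/
def sqOne (hU : IsSmall U) : Subgroup U where
  carrier := {x | x ^ 2 = 1}
  one_mem' := one_pow 2
  mul_mem' {a b} ha hb := by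
    change (a * b) ^ 2 = 1
    rw [Commute.mul_pow (hU.cen a b ha), show a ^ 2 = 1 from ha, show b ^ 2 = 1 from hb, one_mul]
  inv_mem' {a} ha := by
    change a⁻¹ ^ 2 = 1
    rw [inv_pow, show a ^ 2 = 1 from ha, inv_one]

theorem mem_sqOne (hU : IsSmall U) {x : U} : x ∈ sqOne hU ↔ x ^ 2 = 1 := Iff.rfl

theorem sqOne_normal (hU : IsSmall U) : (sqOne hU).Normal :=
  ⟨fun x hx g => by rwa [← hU.cen x g hx, mul_inv_cancel_right]⟩

theorem exists_embed (hU : IsSmall U) [Finite U] :
    ∃ ι : Additive (sqOne hU) →+ W2, Function.Injective ι := by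
  have hcard : Nat.card (Additive (sqOne hU)) ≤ 4 :=
    le_of_eq_of_le (Nat.card_congr (Additive.toMul)) hU.card
  letI : AddCommGroup (Additive (sqOne hU)) :=
    { (inferInstance : AddGroup (Additive (sqOne hU))) with
      add_comm := fun a b => Subtype.ext (hU.cen (a.toMul : U) (b.toMul : U) a.toMul.2) }
  letI : Module (ZMod 2) (Additive (sqOne hU)) :=
    AddCommGroup.zmodModule fun a => by
      apply Additive.toMul.injective
      rw [toMul_nsmul, toMul_zero]
      exact Subtype.ext a.toMul.2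
  haveI : Module.Finite (ZMod 2) (Additive (sqOne hU)) := Module.Finite.of_finite
  set k := Module.finrank (ZMod 2) (Additive (sqOne hU)) with hk
  have hk2 : k ≤ 2 := by
    rw [Module.natCard_eq_pow_finrank (K := ZMod 2), Nat.card_zmod, ← hk] at hcard
    exact (Nat.pow_le_pow_iff_right Nat.one_lt_two).1 (show 2 ^ k ≤ 2 ^ 2 from hcard)
  let e := (Module.finBasis (ZMod 2) (Additive (sqOne hU))).equivFun
  let pad : (Fin k → ZMod 2) → W2 :=
    fun v => ((if h : 0 < k then v ⟨0, h⟩ else 0), (if h : 1 < k then v ⟨1, h⟩ else 0))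
  refine ⟨AddMonoidHom.mk' (fun a => pad (e a)) fun a b => ?_, fun a b h => e.injective ?_⟩
  · simp only [pad, map_add, Pi.add_apply, Prod.mk_add_mk]
    congr 1 <;> split_ifs <;> simp
  · funext i
    simp only [AddMonoidHom.mk'_apply, pad, Prod.mk.injEq] at h
    rcases i with ⟨i, hi⟩
    match i, hi with
    | 0, hi => have := h.1; rwa [dif_pos hi, dif_pos hi] at this
    | 1, hi => have := h.2; rwa [dif_pos hi, dif_pos hi] at this
    | n + 2, hi => change n + 2 < k at hi; omega

theorem solvable_of_small (hU : IsSmall U) [Finite U] : Group.IsSolvable (MulAut U) := by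
  classical
  haveI := sqOne_normal hU
  set Z := sqOne hU with hZ
  obtain ⟨ι, hι⟩ := exists_embed hU
  have hsq : ∀ x : U, x ^ 2 ∈ Z := fun x => by
    rw [hZ, mem_sqOne, ← pow_mul]; exact hU.four x
  let sq : U → W2 := fun x => ι (Additive.ofMul ⟨x ^ 2, hsq x⟩)
  have hsq_mk : ∀ x y : U, (x : U ⧸ Z) = y → sq x = sq y := by
    intro x y h
    rw [QuotientGroup.eq] at h
    simp only [sq]
    congr 3
    have hc : Commute (x⁻¹ * y) x := hU.cen _ x h
    rw [show y = x * (x⁻¹ * y) by group, hc.symm.mul_pow, show (x⁻¹ * y) ^ 2 = 1 from h, mul_one]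
  let q : U ⧸ Z → W2 := fun v => sq v.out
  have hq : ∀ x : U, q x = sq x := fun x => hsq_mk _ _ (QuotientGroup.out_eq' _)
  have hcm : ∀ x y : U, ⁅x, y⁆ ∈ Z := hU.comm
  let cm : U → U → W2 := fun x y => ι (Additive.ofMul ⟨⁅x, y⁆, hcm x y⟩)
  have hpol : ∀ x y : U, polar q (x : U ⧸ Z) (y : U ⧸ Z) = cm y x := by
    intro x y
    have e : sq (x * y) = cm y x + sq x + sq y := by
      simp only [sq, cm, ← map_add, ← ofMul_mul]
      congr 2
      apply Subtype.ext
      have h1 : y * x = ⁅y, x⁆ * (x * y) := by rw [commutatorElement_def]; group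
      have h2 : x * ⁅y, x⁆ = ⁅y, x⁆ * x := (hU.cen _ x (hcm y x)).symm
      change (x * y) ^ 2 = ⁅y, x⁆ * x ^ 2 * y ^ 2
      calc (x * y) ^ 2 = x * (y * x) * y := by simp only [pow_two, mul_assoc]
        _ = x * ⁅y, x⁆ * (x * y) * y := by rw [h1]; simp only [mul_assoc]
        _ = _ := by rw [h2]; simp only [pow_two, mul_assoc]
    unfold polar
    rw [← QuotientGroup.mk_mul, hq, hq, hq, e]
    calc cm y x + sq x + sq y + sq x + sq y = cm y x + ((sq x + sq x) + (sq y + sq y)) := by abel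
      _ = cm y x := by rw [w2_add_self, w2_add_self]; simp
  have hQ : IsQuad q := by
    refine ⟨fun v => ?_, fun v => ?_, fun u v w => ?_⟩
    · induction v using QuotientGroup.induction_on with
      | H x => rw [← QuotientGroup.mk_mul, ← pow_two, QuotientGroup.eq_one_iff]; exact hsq x
    · induction v using QuotientGroup.induction_on with
      | H x =>
        rw [hq, QuotientGroup.eq_one_iff, hZ, mem_sqOne, map_eq_zero_iff _ hι]
        exact ⟨fun h => congrArg (fun a => ((Additive.toMul a : Z) : U)) h,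
          fun h => congrArg Additive.ofMul (Subtype.ext h)⟩
    · induction u using QuotientGroup.induction_on with
      | H x =>
        induction v using QuotientGroup.induction_on with
        | H y =>
          induction w using QuotientGroup.induction_on with
          | H z =>
            rw [← QuotientGroup.mk_mul, hpol, hpol, hpol]
            simp only [cm, ← map_add, ← ofMul_mul]
            congr 2
            apply Subtype.ext
            have h2 : y * ⁅z, x⁆ = ⁅z, x⁆ * y := (hU.cen _ y (hcm z x)).symm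
            change ⁅y * z, x⁆ = ⁅y, x⁆ * ⁅z, x⁆
            calc ⁅y * z, x⁆ = y * ⁅z, x⁆ * y⁻¹ * ⁅y, x⁆ := by
                  simp only [commutatorElement_def]; group
              _ = ⁅z, x⁆ * ⁅y, x⁆ := by rw [h2]; group
              _ = _ := hU.cen _ _ (hcm z x)
  have hfix : ∀ (a : MulAut U) (x : U), (a x) ^ 2 = 1 ↔ x ^ 2 = 1 := fun a x => by
    rw [← map_pow, map_eq_one_iff _ a.injective]
  let φ₁ : MulAut U →* Equiv.Perm {x : U // x ^ 2 = 1} :=
    MonoidHom.mk' (fun a => Equiv.Perm.subtypePerm a.toEquiv (hfix a)) fun a b => rfl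
  haveI : Group.IsSolvable (Equiv.Perm {x : U // x ^ 2 = 1}) := by
    have hc := hU.card
    have : ∃ a b, Nat.card (Equiv.Perm {x : U // x ^ 2 = 1}) = 2 ^ a * 3 ^ b := by
      rw [Nat.card_perm]
      interval_cases (Nat.card {x : U // x ^ 2 = 1})
      · exact ⟨0, 0, rfl⟩
      · exact ⟨0, 0, rfl⟩
      · exact ⟨1, 0, rfl⟩
      · exact ⟨1, 1, rfl⟩
      · exact ⟨3, 1, rfl⟩
    obtain ⟨a, b, hab⟩ := this
    exact Lib.Induced.Burnside.isSolvable_of_card_eq 2 3 a b Nat.prime_two Nat.prime_three hab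
  have hA0 : ∀ a ∈ φ₁.ker, ∀ x : U, x ^ 2 = 1 → a x = x := fun a ha x hx =>
    congrArg Subtype.val (Equiv.ext_iff.1 ha ⟨x, hx⟩)
  have hmapZ : ∀ a : MulAut U, Z.map (a : U →* U) = Z := by
    intro a
    ext x
    rw [Subgroup.mem_map]
    constructor
    · rintro ⟨y, hy, rfl⟩
      exact (hfix a y).2 hy
    · intro hx
      exact ⟨a⁻¹ x, (hfix a⁻¹ x).2 hx, MulAut.apply_inv_self _ a x⟩
  let φ₂ : φ₁.ker →* MulAut (U ⧸ Z) :=
    MonoidHom.mk' (fun a => QuotientGroup.congr Z Z (a : MulAut U) (hmapZ _)) fun a b =>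
      MulEquiv.ext fun v => by
        induction v using QuotientGroup.induction_on with
        | H x => rfl
  haveI : Group.IsSolvable φ₂.range := by
    refine solvable_of_quad hQ _ ?_
    rintro g ⟨a, rfl⟩ v
    induction v using QuotientGroup.induction_on with
    | H x =>
      change q (((a : MulAut U) x : U) : U ⧸ Z) = _
      rw [hq, hq]
      simp only [sq]
      congr 3
      rw [← map_pow]
      exact hA0 a a.2 _ (hsq x)
  haveI : Group.IsSolvable φ₂.ker := by
    refine Group.isSolvable_of_comm fun a b => ?_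
    have key : ∀ c : φ₂.ker, ∀ x : U, x⁻¹ * (c.1.1) x ∈ Z := by
      intro c x
      have h1 : φ₂ c.1 (x : U ⧸ Z) = (x : U ⧸ Z) := by rw [show φ₂ c.1 = 1 from c.2]; rfl
      exact QuotientGroup.eq.1 h1.symm
    refine Subtype.ext (Subtype.ext (MulEquiv.ext fun x => ?_))
    change a.1.1 (b.1.1 x) = b.1.1 (a.1.1 x)
    obtain ⟨s, hs, hsx⟩ : ∃ s, s ∈ Z ∧ a.1.1 x = x * s := ⟨_, key a x, by group⟩
    obtain ⟨u, hu, hux⟩ : ∃ u, u ∈ Z ∧ b.1.1 x = x * u := ⟨_, key b x, by group⟩
    rw [hux, hsx, map_mul, map_mul, hA0 _ a.1.2 _ hu, hA0 _ b.1.2 _ hs, hsx, hux, mul_assoc,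
      mul_assoc, hU.cen s u hs]
  haveI : Group.IsSolvable φ₁.ker :=
    Group.isSolvable_of_ker_le_range φ₂.ker.subtype φ₂.rangeRestrict (by
      rw [MonoidHom.ker_rangeRestrict, Subgroup.range_subtype])
  exact Group.isSolvable_of_ker_le_range φ₁.ker.subtype φ₁ (by rw [Subgroup.range_subtype])

end Exp4

section Main

variable {X : Type*} [Group X] [Finite X]

/-- A characteristic subgroup gives restricted automorphisms. -/
def resHom (S : Subgroup X) (hS : ∀ (a : MulAut X) (x : X), x ∈ S → a x ∈ S) :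
    MulAut X →* MulAut S :=
  MonoidHom.mk'
    (fun a =>
      { toFun := fun x => ⟨a x, hS a x x.2⟩
        invFun := fun x => ⟨a.symm x, hS a⁻¹ x x.2⟩
        left_inv := fun x => Subtype.ext (a.symm_apply_apply x)
        right_inv := fun x => Subtype.ext (a.apply_symm_apply x)
        map_mul' := fun x y => Subtype.ext (map_mul a (x : X) (y : X)) })
    fun _ _ => rfl

theorem fixed_of_shift {r : ℕ} (hr : Odd r) {a : MulAut X} (ha : a ^ r = 1) {x c : X}
    (hx : a x = x * c) (hc : a c = c) (h4 : c ^ 4 = 1) : a x = x := by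
  have hk : ∀ k : ℕ, (a ^ k) x = x * c ^ k := by
    intro k
    induction k with
    | zero => simp
    | succ k ih =>
      rw [pow_succ', MulAut.mul_apply, ih, map_mul, map_pow, hc, hx, pow_succ', mul_assoc]
  have h := hk r
  rw [ha, MulAut.one_apply, eq_comm, mul_eq_left] at h
  have hco : Nat.Coprime r 4 :=
    Nat.Coprime.pow_right 2 (Nat.coprime_two_right.2 hr)
  have hc1 : c = 1 := orderOf_eq_one_iff.1 (Nat.eq_one_of_dvd_coprimes hco
    (orderOf_dvd_of_pow_eq_one h) (orderOf_dvd_of_pow_eq_one h4))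
  rw [hx, hc1, mul_one]

theorem exists_central_involution (h2 : IsPGroup 2 X) [Nontrivial X] :
    ∃ z : X, orderOf z = 2 ∧ ∀ x, z * x = x * z := by
  haveI : Fact (Nat.Prime 2) := ⟨Nat.prime_two⟩
  haveI := h2.center_nontrivial
  obtain ⟨k, hk⟩ := IsPGroup.iff_card.1 (h2.to_subgroup (Subgroup.center X))
  have hk0 : k ≠ 0 := by
    intro h
    rw [h, pow_zero] at hk
    have := Finite.one_lt_card (α := Subgroup.center X)
    omega
  obtain ⟨z, hz⟩ := exists_prime_orderOf_dvd_card' (G := Subgroup.center X) 2 (hk ▸ dvd_pow_self 2 hk0)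
  exact ⟨z, by rwa [Subgroup.orderOf_coe], fun x => (Subgroup.mem_center_iff.1 z.2 x).symm⟩

theorem involutions_cases (h3 : Nat.card {x : X // orderOf x = 2} = 3) {z a : X}
    (hz : orderOf z = 2) (hzc : ∀ x, z * x = x * z) (ha : orderOf a = 2) (hza : a ≠ z)
    {b : X} (hb : b ^ 2 = 1) : b = 1 ∨ b = z ∨ b = a ∨ b = a * z := by
  classical
  cases nonempty_fintype X
  have hz2 : z ^ 2 = 1 := hz ▸ pow_orderOf_eq_one z
  have ha2 : a ^ 2 = 1 := ha ▸ pow_orderOf_eq_one a
  have hz1 : z ≠ 1 := fun h => by rw [h, orderOf_one] at hz; omega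
  have ha1 : a ≠ 1 := fun h => by rw [h, orderOf_one] at ha; omega
  have hw1 : a * z ≠ 1 := by
    intro h
    exact hza (mul_right_cancel (h.trans ((pow_two z).symm.trans hz2).symm))
  have hwa : a * z ≠ a := by simp [hz1]
  have hwz : a * z ≠ z := by simp [ha1]
  have hw2 : (a * z) ^ 2 = 1 := by
    rw [(Commute.symm (hzc a : Commute z a)).mul_pow, ha2, hz2, one_mul]
  haveI : Fact (Nat.Prime 2) := ⟨Nat.prime_two⟩
  have hw : orderOf (a * z) = 2 := orderOf_eq_prime hw2 hw1
  by_cases hb1 : b = 1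
  · exact Or.inl hb1
  right
  rw [Nat.card_eq_fintype_card, Fintype.card_subtype] at h3
  have hsub : ({z, a, a * z} : Finset X) ⊆ Finset.univ.filter fun x => orderOf x = 2 := by
    intro x hx
    simp only [Finset.mem_insert, Finset.mem_singleton] at hx
    rcases hx with rfl | rfl | rfl <;> simp [hz, ha, hw]
  have hc : ({z, a, a * z} : Finset X).card = 3 :=
    Finset.card_eq_three.2 ⟨z, a, a * z, hza.symm, hwz.symm, hwa.symm, rfl⟩
  have heq := Finset.eq_of_subset_of_card_le hsub (by omega)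
  have : b ∈ ({z, a, a * z} : Finset X) := by
    rw [heq]
    simp [orderOf_eq_prime hb hb1]
  simpa using this

theorem aut_solvable (h2 : IsPGroup 2 X) (h3 : Nat.card {x : X // orderOf x = 2} = 3) :
    Group.IsSolvable (MulAut X) := by
  classical
  haveI : Fact (Nat.Prime 2) := ⟨Nat.prime_two⟩
  haveI : Nontrivial X := by
    by_contra h
    rw [not_nontrivial_iff_subsingleton] at h
    haveI : IsEmpty {x : X // orderOf x = 2} :=
      ⟨fun x => by have := x.2; rw [Subsingleton.elim x.1 1, orderOf_one] at this; omega⟩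
    rw [Nat.card_of_isEmpty] at h3
    omega
  obtain ⟨z, hz, hzc⟩ := exists_central_involution h2
  obtain ⟨⟨a, ha⟩, hane⟩ : ∃ a : {x : X // orderOf x = 2}, a ≠ ⟨z, hz⟩ := by
    haveI : Nontrivial {x : X // orderOf x = 2} :=
      Finite.one_lt_card_iff_nontrivial.1 (by omega)
    exact exists_ne _
  have hza : a ≠ z := fun h => hane (Subtype.ext h)
  have inv := fun {b : X} (hb : b ^ 2 = 1) => involutions_cases h3 hz hzc ha hza hb
  have ha2 : a ^ 2 = 1 := ha ▸ pow_orderOf_eq_one a
  have comm_inv : ∀ {x b : X}, x * a = a * x → b ^ 2 = 1 → x * b = b * x := by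
    intro x b hx hb
    rcases inv hb with rfl | rfl | rfl | rfl
    · simp
    · exact (hzc x).symm
    · exact hx
    · rw [← mul_assoc, hx, mul_assoc, ← hzc x, mul_assoc]
  have cen_inv : ∀ {b c : X}, b ^ 2 = 1 → c ^ 2 = 1 → b * c = c * b := by
    intro b c hb hc
    exact comm_inv (comm_inv (x := a) rfl hb).symm hc
  obtain ⟨H, hHc, hCH, hHsq, hHcomm⟩ := Lib.Transfer.Critical.exists_critical h2
  have hfixH : ∀ (φ : MulAut X) (x : X), x ∈ H → φ x ∈ H := fun φ x hx =>
    Subgroup.characteristic_iff_le_comap.1 hHc φ hx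
  have hcen : ∀ {x y : X}, x ∈ H → y ∈ H → x * y ^ 2 = y ^ 2 * x := fun hx hy =>
    (Subgroup.mem_inf.1 (hHsq _ hy)).2 _ hx
  have hcenc : ∀ {w x : X}, w ∈ H → x ∈ H → ∀ g : X, w * ⁅x, g⁆ = ⁅x, g⁆ * w := fun hw hx g =>
    (Subgroup.mem_inf.1 (hHcomm _ hx g)).2 _ hw
  have hc2 : ∀ {x y : X}, x ∈ H → y ∈ H → ⁅y, x⁆ ^ 2 = 1 := by
    intro x y hx hy
    have h1 : y * x = ⁅y, x⁆ * (x * y) := by rw [commutatorElement_def]; group
    have h2 : x * ⁅y, x⁆ = ⁅y, x⁆ * x := hcenc hx hy x
    have h3 : y * x ^ 2 = ⁅y, x⁆ ^ 2 * (x ^ 2 * y) := by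
      calc y * x ^ 2 = (y * x) * x := by rw [pow_two, mul_assoc]
        _ = ⁅y, x⁆ * x * (y * x) := by nth_rw 1 [h1]; simp only [mul_assoc]
        _ = ⁅y, x⁆ * x * (⁅y, x⁆ * (x * y)) := congrArg (⁅y, x⁆ * x * ·) h1
        _ = ⁅y, x⁆ * (x * ⁅y, x⁆) * (x * y) := by simp only [mul_assoc]
        _ = _ := by rw [h2]; simp only [pow_two, mul_assoc]
    rw [hcen hy hx] at h3
    exact mul_eq_right.1 h3.symm
  have hmulsq : ∀ {x y : X}, x ∈ H → y ∈ H → (x * y) ^ 2 = ⁅y, x⁆ * x ^ 2 * y ^ 2 := by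
    intro x y hx hy
    have h1 : y * x = ⁅y, x⁆ * (x * y) := by rw [commutatorElement_def]; group
    have h2 : x * ⁅y, x⁆ = ⁅y, x⁆ * x := hcenc hx hy x
    calc (x * y) ^ 2 = x * (y * x) * y := by simp only [pow_two, mul_assoc]
      _ = x * ⁅y, x⁆ * (x * y) * y := by rw [h1]; simp only [mul_assoc]
      _ = _ := by rw [h2]; simp only [pow_two, mul_assoc]
  have hfour : ∀ {x y : X}, x ∈ H → y ∈ H → x ^ 4 = 1 → y ^ 4 = 1 → (x * y) ^ 4 = 1 := by
    intro x y hx hy hx4 hy4
    have e1 : Commute (⁅y, x⁆) (x ^ 2) := (hcenc (pow_mem hx 2) hy x).symm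
    have e2 : Commute (⁅y, x⁆ * x ^ 2) (y ^ 2) :=
      (Commute.mul_left (hcenc (pow_mem hy 2) hy x).symm (hcen (pow_mem hx 2) hy))
    rw [show (4 : ℕ) = 2 * 2 from rfl, pow_mul, hmulsq hx hy, e2.mul_pow, e1.mul_pow, hc2 hx hy,
      ← pow_mul, ← pow_mul, hx4, hy4, one_mul, one_mul]
  let U₁ : Subgroup X :=
    { carrier := {x | x ∈ H ∧ x ^ 4 = 1 ∧ x * a = a * x}
      one_mem' := ⟨one_mem H, one_pow 4, by simp⟩
      mul_mem' := fun {x y} hx hy => ⟨mul_mem hx.1 hy.1, hfour hx.1 hy.1 hx.2.1 hy.2.1,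
        Commute.mul_left hx.2.2 hy.2.2⟩
      inv_mem' := fun {x} hx => ⟨inv_mem hx.1, by rw [inv_pow, hx.2.1, inv_one],
        Commute.inv_left hx.2.2⟩ }
  have hmemU : ∀ {x : X}, x ∈ U₁ ↔ x ∈ H ∧ x ^ 4 = 1 ∧ x * a = a * x := Iff.rfl
  have hUchar : ∀ (φ : MulAut X) (x : X), x ∈ U₁ → φ x ∈ U₁ := by
    intro φ x hx
    refine hmemU.2 ⟨hfixH φ x hx.1, by rw [← map_pow, hx.2.1, map_one], ?_⟩
    have hb : (φ.symm a) ^ 2 = 1 := by rw [← map_pow, ha2, map_one]
    have := congrArg φ (comm_inv hx.2.2 hb)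
    rwa [map_mul, map_mul, MulEquiv.apply_symm_apply] at this
  have hsmall : IsSmall U₁ := by
    refine ⟨fun x => Subtype.ext (by simpa using x.2.2.1), fun x y hx => Subtype.ext ?_, ?_, fun x y => ?_⟩
    · exact (comm_inv y.2.2.2 (congrArg Subtype.val hx)).symm
    · refine le_trans (Nat.card_le_card_of_injective
        (fun x : {x : U₁ // x ^ 2 = 1} => if h : (x.1 : X) = 1 then none else
          some (⟨(x.1 : X), orderOf_eq_prime (congrArg Subtype.val x.2) h⟩ : {x : X // orderOf x = 2}))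
        ?_) ?_
      · intro x y hxy
        simp only at hxy
        apply Subtype.ext
        apply Subtype.ext
        split_ifs at hxy with h1 h2
        · rw [h1, h2]
        · exact congrArg (fun t : {x : X // orderOf x = 2} => (t : X)) (Option.some.inj hxy)
      · rw [Finite.card_option, h3]
    · exact Subtype.ext (hc2 y.2.1 x.2.1)
  haveI := solvable_of_small hsmall
  let res := resHom U₁ hUchar
  haveI : Group.IsSolvable res.ker := by
    have hp : IsPGroup 2 res.ker := by
      refine IsPGroup.iff_card.2 ⟨_, Nat.eq_prime_pow_of_unique_prime_dvd Nat.card_pos.ne' fun {r} hr hdvd => ?_⟩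
      by_contra hr2
      haveI := Fact.mk hr
      obtain ⟨φ, hφ⟩ := exists_prime_orderOf_dvd_card' r hdvd
      have hodd : Odd r := hr.odd_of_ne_two hr2
      have hor : orderOf (φ : MulAut X) = r := by rwa [Subgroup.orderOf_coe]
      have hpow : (φ : MulAut X) ^ r = 1 := hor ▸ pow_orderOf_eq_one _
      have fix1 : ∀ x ∈ U₁, (φ : MulAut X) x = x := fun x hx =>
        congrArg Subtype.val (MulEquiv.congr_fun φ.2 ⟨x, hx⟩)
      have fix0 : ∀ x ∈ H, x ^ 4 = 1 → (φ : MulAut X) x = x := by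
        intro x hx hx4
        by_cases hxa : x * a = a * x
        · exact fix1 x ⟨hx, hx4, hxa⟩
        have hyH := hfixH (φ : MulAut X) x hx
        have hy4 : ((φ : MulAut X) x) ^ 4 = 1 := by rw [← map_pow, hx4, map_one]
        have hya : ¬ (φ : MulAut X) x * a = a * (φ : MulAut X) x := by
          intro h
          have hmem : (φ : MulAut X) x ∈ U₁ := ⟨hyH, hy4, h⟩
          have e := (φ : MulAut X).injective (fix1 _ hmem)
          exact hxa (by rwa [e] at h)
        have conj : ∀ w : X, ¬ w * a = a * w → w * a * w⁻¹ = a * z := by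
          intro w hw
          have hb : (w * a * w⁻¹) ^ 2 = 1 := by rw [conj_pow, ha2]; simp
          rcases inv hb with h | h | h | h
          · exfalso
            have : a = 1 := by
              have := congrArg (fun t => w⁻¹ * t * w) h
              simpa [mul_assoc] using this
            rw [this, orderOf_one] at ha; omega
          · exfalso
            apply hza
            have := congrArg (fun t => w⁻¹ * t * w) h
            simp only [mul_assoc, inv_mul_cancel_left, inv_mul_cancel, mul_one] at this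
            rw [this, hzc, inv_mul_cancel_left]
          · exact absurd (mul_inv_eq_iff_eq_mul.1 h) hw
          · exact h
        set c := x⁻¹ * (φ : MulAut X) x with hc
        have hcU : c ∈ U₁ := by
          refine ⟨mul_mem (inv_mem hx) hyH, hfour (inv_mem hx) hyH (by rw [inv_pow, hx4, inv_one]) hy4, ?_⟩
          have e := (conj _ hxa).trans (conj _ hya).symm
          have e' := congrArg (fun t => x⁻¹ * t * (φ : MulAut X) x) e
          simp only [mul_assoc, inv_mul_cancel_left, inv_mul_cancel, mul_one] at e'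
          rw [hc]
          simpa [mul_assoc] using e'.symm
        exact fixed_of_shift hodd hpow (by rw [hc]; group) (fix1 c hcU) hcU.2.1
      have fixH : ∀ n, ∀ x ∈ H, orderOf x = n → (φ : MulAut X) x = x := by
        intro n
        induction n using Nat.strong_induction_on with
        | _ n ih =>
          intro x hx hn
          by_cases hx4 : x ^ 4 = 1
          · exact fix0 x hx hx4
          have hlt : orderOf (x ^ 2) < n := by
            obtain ⟨k, hk⟩ := IsPGroup.iff_orderOf.1 h2 x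
            have h2dvd : 2 ∣ orderOf x := by
              rcases k with _ | k
              · rw [pow_zero, orderOf_eq_one_iff] at hk
                exact absurd (by rw [hk, one_pow]) hx4
              · exact ⟨2 ^ k, by rw [hk, pow_succ']⟩
            rw [orderOf_pow_of_dvd two_ne_zero h2dvd, hn]
            exact Nat.div_lt_self (hn ▸ orderOf_pos x) one_lt_two
          have e := ih _ hlt (x ^ 2) (pow_mem hx 2) rfl
          have hyH := hfixH (φ : MulAut X) x hx
          set c := x⁻¹ * (φ : MulAut X) x with hc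
          have hcH : c ∈ H := mul_mem (inv_mem hx) hyH
          have hxc : (φ : MulAut X) x = x * c := by rw [hc]; group
          rw [map_pow, hxc, hmulsq hx hcH] at e
          have e1 : Commute (⁅c, x⁆) (x ^ 2) := (hcenc (pow_mem hx 2) hcH x).symm
          rw [e1.eq, mul_assoc, mul_eq_left] at e
          have hc4 : c ^ 4 = 1 := by
            rw [show (4 : ℕ) = 2 * 2 from rfl, pow_mul, eq_inv_of_mul_eq_one_right e, inv_pow,
              hc2 hx hcH, inv_one]
          exact fixed_of_shift hodd hpow hxc (fix0 c hcH hc4) hc4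
      haveI : H.Normal := by haveI := hHc; exact Subgroup.normal_of_characteristic H
      have := Lib.ConjFunctor.CritExist.eq_one_of_fix (p := 2) h2 hCH (a := (φ : MulAut X))
        (by rw [hor]; exact Nat.coprime_two_right.2 hodd) (fun x hx => fixH _ x hx rfl)
      rw [this, orderOf_one] at hor
      exact hr.ne_one hor.symm
    haveI := hp.isNilpotent
    infer_instance
  exact Group.isSolvable_of_ker_le_range res.ker.subtype res (by rw [Subgroup.range_subtype])

end Main

/-- If X is a finite 2-group containing exactly three involutions, then the automorphism group of X is solvable. -/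
theorem result {X : Type*} [Group X] [Finite X] (h2 : IsPGroup 2 X) (h3 : Nat.card {x : X // orderOf x = 2} = 3) : Group.IsSolvable (MulAut X) := by
  exact aut_solvable h2 h3

end Cfsg.Agent.S3117
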