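import Cfsg.Statements.S3125
import Mathlib
import Cfsg.Agent.Lib.Inv59.SelfNormalising
import Cfsg.Agent.S1984

set_option autoImplicit false
open Cfsg

namespace Cfsg.Agent.S3125

/-- Let G be a finite group such that, for every prime p dividing the order of G, every Sylow p-subgroup of G is its own normalizer. Then G is not a non-abelian simple group. -/
theorem result {G : Type*} [Group G] [Finite G]
    (h : ∀ p : ℕ, p.Prime → p ∣ Nat.card G → ∀ P : Sylow p G, Subgroup.normalizer ((P : Subgroup G) : Set G) = P) :
    ¬ (IsSimpleGroup G ∧ ¬ IsMulCommutative G) := by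
  exact Cfsg.Agent.Lib.Inv59.SelfNormalising.not_simple
    (fun p _ h5 G _ _ => Cfsg.Agent.S1984.result h5) h

end Cfsg.Agent.S3125
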