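import Cfsg.Statements.S3153
import Mathlib
import Cfsg.Agent.Lib.Inv59.FixEq
import Cfsg.Agent.Lib.Balance.PLayer
import Cfsg.Agent.Lib.ZStar.Elements
import Cfsg.Agent.Lib.PGroups.Omega

set_option autoImplicit false
set_option linter.style.haveILetI false
open Cfsg

namespace Cfsg.Agent.S3153

set_option maxHeartbeats 800000 in
/-- Let X be a finite group and P a standard subgroup of X whose centralizer has 2-rank at most 1 and whose centre has odd order. Let S be a Sylow 2-subgroup of N_X(P) and t an involution of S centralizing P. Suppose some element g of X normalizes S, does not lie in S, has its square in S, and conjugates t into P·C_X(P). Then P commutes elementwise with the largest normal odd-order subgroup O(X) of X; consequently every t-invariant 2-component of X containing P is quasisimple. -/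
theorem result {X : Type*} [Group X] [Finite X] (P : Subgroup X) (hP : Cfsg.IsStandardSubgroup P)
    (hr : Cfsg.PRankLE 2 1 ↥(Subgroup.centralizer (P : Set X))) (hZ : Odd (Nat.card ↥(Subgroup.center ↥P)))
    (S : Sylow 2 ↥(Subgroup.normalizer (P : Set X))) (t : X) (ht : orderOf t = 2) (htS : t ∈ (S : Subgroup ↥(Subgroup.normalizer (P : Set X))).map (Subgroup.normalizer (P : Set X)).subtype)
    (htP : t ∈ Subgroup.centralizer (P : Set X))
    (g : X) (hgN : ∀ s ∈ (S : Subgroup ↥(Subgroup.normalizer (P : Set X))).map (Subgroup.normalizer (P : Set X)).subtype, g * s * g⁻¹ ∈ (S : Subgroup ↥(Subgroup.normalizer (P : Set X))).map (Subgroup.normalizer (P : Set X)).subtype)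
    (hgS : g ∉ (S : Subgroup ↥(Subgroup.normalizer (P : Set X))).map (Subgroup.normalizer (P : Set X)).subtype) (hg2 : g ^ 2 ∈ (S : Subgroup ↥(Subgroup.normalizer (P : Set X))).map (Subgroup.normalizer (P : Set X)).subtype)
    (hgt : g * t * g⁻¹ ∈ P ⊔ Subgroup.centralizer (P : Set X)) :
    ⁅P, Cfsg.oddCore X⁆ = ⊥ ∧
      ∀ L : Subgroup X, Cfsg.IsPComponent 2 L → P ≤ L → (∀ l ∈ L, t * l * t⁻¹ ∈ L) → Cfsg.IsQuasisimple ↥L := by
  obtain ⟨hq, hte, -, hNN⟩ := hP
  set K := Subgroup.centralizer (P : Set X) with hK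
  set T := (S : Subgroup ↥(Subgroup.normalizer (P : Set X))).map (Subgroup.normalizer (P : Set X)).subtype with hT
  set O := Cfsg.oddCore X with hOdef
  haveI hOn : O.Normal := inferInstanceAs (Cfsg.oddCore X).Normal
  have hOodd : Odd (Nat.card O) := Cfsg.Agent.Lib.ZStar.Elements.oddCore_odd
  have hoOrd : ∀ v ∈ O, v * v = 1 → v = 1 := fun v hv h => by
    have := Cfsg.Agent.Lib.Inv59.FixEq.eq_one_of_sq hOodd (v := ⟨v, hv⟩) (Subtype.ext h)
    exact congrArg Subtype.val this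
  have ht2 : t * t = 1 := by rw [← pow_two, ← ht, pow_orderOf_eq_one]
  have ht1 : t ≠ 1 := fun e => by rw [e, orderOf_one] at ht; omega
  have htc : ∀ q ∈ P, q * t = t * q := fun q hq => Subgroup.mem_centralizer_iff.1 htP q hq
  -- rank one
  have hone : ∀ a b : X, a ∈ K → b ∈ K → a * a = 1 → b * b = 1 → a * b = b * a →
      a ≠ 1 → b ≠ 1 → a = b := by
    intro a b ha hb ha2 hb2 hab ha1 hb1
    by_contra hne
    set W : Subgroup ↥K := Subgroup.closure {(⟨a, ha⟩ : ↥K), ⟨b, hb⟩} with hW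
    have hWc : IsMulCommutative W := by
      apply Subgroup.isMulCommutative_closure
      rintro x (rfl | rfl) y (rfl | rfl)
      · rfl
      · exact Subtype.ext hab
      · exact Subtype.ext hab.symm
      · rfl
    have hexp : ∀ w ∈ W, w ^ 2 = 1 := by
      intro w hw
      induction hw using Subgroup.closure_induction with
      | mem x hx =>
        rcases hx with rfl | rfl
        · exact Subtype.ext (by simpa [pow_two] using ha2)
        · exact Subtype.ext (by simpa [pow_two] using hb2)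
      | one => exact one_pow _
      | mul x y hx hy ex ey =>
        have hc : Commute x y := congrArg Subtype.val (hWc.is_comm.comm (⟨x, hx⟩ : W) ⟨y, hy⟩)
        rw [hc.mul_pow, ex, ey, one_mul]
      | inv x hx ex => rw [inv_pow, ex, inv_one]
    have hle := hr W hWc hexp
    have hinj : Set.ncard ({1, (⟨a, ha⟩ : ↥K), ⟨b, hb⟩} : Set ↥K) = 3 :=
      Set.ncard_eq_three.2 ⟨_, _, _, fun e => ha1 (congrArg Subtype.val e).symm,
        fun e => hb1 (congrArg Subtype.val e).symm, fun e => hne (congrArg Subtype.val e), rfl⟩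
    have hsub : ({1, (⟨a, ha⟩ : ↥K), ⟨b, hb⟩} : Set ↥K) ⊆ (W : Set ↥K) := by
      rintro x (rfl | rfl | rfl)
      · exact W.one_mem
      · exact Subgroup.subset_closure (Or.inl rfl)
      · exact Subgroup.subset_closure (Or.inr rfl)
    have h3 := Set.ncard_le_ncard hsub (Set.toFinite _)
    rw [hinj] at h3
    have : (W : Set ↥K).ncard = Nat.card W := rfl
    omega
  have hCt : ∀ v : X, v * t = t * v → v ∈ (Subgroup.normalizer (P : Set X)) := by
    intro v hv
    rw [hNN]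
    by_contra hvn
    have h := hte.2 v hvn
    have hm : t ∈ K ⊓ K.map (MulAut.conj v).toMonoidHom := ⟨htP, t, htP, by
      show v * t * v⁻¹ = t
      rw [hv, mul_inv_cancel_right]⟩
    have h2 := orderOf_dvd_natCard (⟨t, hm⟩ : (K ⊓ K.map (MulAut.conj v).toMonoidHom : Subgroup X))
    rw [Subgroup.orderOf_mk, ht] at h2
    exact Nat.not_even_iff_odd.2 h (even_iff_two_dvd.2 h2)
  obtain ⟨t₀, ht₀S, ht₀⟩ := htS
  have hnormK : ∀ n ∈ (Subgroup.normalizer (P : Set X)), ∀ v ∈ K, n * v * n⁻¹ ∈ K := by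
    intro n hn v hv
    rw [hNN] at hn
    exact (Subgroup.mem_normalizer_iff.1 hn v).1 hv
  -- `t` is central in `T`
  have hSt : ∀ s ∈ T, s * t = t * s := by
    haveI : Fact (Nat.Prime 2) := ⟨Nat.prime_two⟩
    set KS : Subgroup ↥(S : Subgroup ↥(Subgroup.normalizer (P : Set X))) := (K.comap (Subgroup.normalizer (P : Set X)).subtype).subgroupOf (S : Subgroup ↥(Subgroup.normalizer (P : Set X))) with hKS
    haveI hKSn : KS.Normal := ⟨fun a ha s => hnormK _ (s : ↥(Subgroup.normalizer (P : Set X))).2 _ ha⟩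
    haveI : Nontrivial KS := ⟨⟨⟨t₀, ht₀S⟩, by
        show ((t₀ : ↥(Subgroup.normalizer (P : Set X))) : X) ∈ K
        rw [show (t₀ : X) = t from ht₀]; exact htP⟩, 1, fun e => ht1 (by
        rw [← ht₀]
        exact congrArg (fun x : KS => (((x : ↥(S : Subgroup ↥(Subgroup.normalizer (P : Set X)))) : ↥(Subgroup.normalizer (P : Set X))) : X)) e)⟩
    obtain ⟨z, hz, hz1⟩ : ∃ z : ↥(S : Subgroup ↥(Subgroup.normalizer (P : Set X))), z ∈ KS ⊓ Subgroup.center _ ∧ z ≠ 1 := by
      haveI : Nontrivial (KS ⊓ Subgroup.center ↥(S : Subgroup ↥(Subgroup.normalizer (P : Set X))) : Subgroup _) :=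
        (Subgroup.nontrivial_iff_ne_bot _).2 (Cfsg.Agent.Lib.PGroups.normal_inf_center_ne_bot S.2 KS
          ((Subgroup.nontrivial_iff_ne_bot _).1 inferInstance))
      obtain ⟨z, hz⟩ := exists_ne (1 : (KS ⊓ Subgroup.center ↥(S : Subgroup ↥(Subgroup.normalizer (P : Set X))) : Subgroup _))
      exact ⟨z, z.2, fun e => hz (Subtype.ext e)⟩
    obtain ⟨k, hk⟩ := S.2 z
    obtain ⟨j, hj, hjz⟩ : ∃ j, z ^ (2 ^ j) ≠ 1 ∧ (z ^ (2 ^ j)) * (z ^ (2 ^ j)) = 1 := by
      induction k with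
      | zero => exact absurd (by simpa using hk) hz1
      | succ k ih =>
        by_cases h : z ^ (2 ^ k) = 1
        · exact ih h
        · exact ⟨k, h, by rw [← pow_add, ← two_mul, ← pow_succ']; exact hk⟩
    set w := z ^ (2 ^ j) with hw
    have hwKS : w ∈ KS := Subgroup.pow_mem _ hz.1 _
    have hwc : w ∈ Subgroup.center _ := Subgroup.pow_mem _ hz.2 _
    have hwt : ((w : ↥(Subgroup.normalizer (P : Set X))) : X) = t := by
      refine hone _ _ hwKS htP (congrArg (fun x : ↥(S : Subgroup ↥(Subgroup.normalizer (P : Set X))) => ((x : ↥(Subgroup.normalizer (P : Set X))) : X)) hjz) ht2 ?_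
        (fun e => hj (Subtype.ext (Subtype.ext e))) ht1
      have := congrArg (fun x : ↥(S : Subgroup ↥(Subgroup.normalizer (P : Set X))) => ((x : ↥(Subgroup.normalizer (P : Set X))) : X))
        (Subgroup.mem_center_iff.1 hwc ⟨t₀, ht₀S⟩)
      simp only [Subgroup.coe_mul] at this
      rw [← ht₀]
      exact this.symm
    rintro s ⟨s₀, hs₀, rfl⟩
    have := congrArg (fun x : ↥(S : Subgroup ↥(Subgroup.normalizer (P : Set X))) => ((x : ↥(Subgroup.normalizer (P : Set X))) : X))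
      (Subgroup.mem_center_iff.1 hwc ⟨s₀, hs₀⟩)
    simp only [Subgroup.coe_mul] at this
    rw [hwt] at this
    exact this
  have htT : t ∈ T := ⟨t₀, ht₀S, ht₀⟩
  set t' := g * t * g⁻¹ with ht'
  have htt' : t' * t = t * t' := hSt _ (hgN t htT)
  have ht'2 : t' * t' = 1 := by
    rw [ht']
    calc g * t * g⁻¹ * (g * t * g⁻¹) = g * (t * t) * g⁻¹ := by group
      _ = 1 := by rw [ht2]; group
  have ht'1 : t' ≠ 1 := fun e => ht1 (conj_eq_one_iff.1 e)
  have hne : t' ≠ t := by
    intro e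
    haveI : Fact (Nat.Prime 2) := ⟨Nat.prime_two⟩
    have hgn : g ∈ (Subgroup.normalizer (P : Set X)) := hCt g (mul_inv_eq_iff_eq_mul.1 e)
    apply hgS
    set g₀ : ↥(Subgroup.normalizer (P : Set X)) := ⟨g, hgn⟩
    have hnormS : g₀ ∈ Subgroup.normalizer ((S : Subgroup ↥(Subgroup.normalizer (P : Set X))) : Set ↥(Subgroup.normalizer (P : Set X))) := by
      rw [Subgroup.mem_normalizer_iff_map_conj_eq]
      refine Subgroup.eq_of_le_of_card_ge ?_ (Subgroup.card_map_of_injective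
        (MulAut.conj g₀).injective).ge
      rintro _ ⟨s, hs, rfl⟩
      obtain ⟨s', hs', e'⟩ := hgN _ ⟨s, hs, rfl⟩
      have : g₀ * s * g₀⁻¹ = s' := Subtype.ext e'.symm
      show g₀ * s * g₀⁻¹ ∈ (S : Subgroup ↥(Subgroup.normalizer (P : Set X)))
      rw [this]
      exact hs'
    have hg₀2 : g₀ ^ 2 ∈ (S : Subgroup ↥(Subgroup.normalizer (P : Set X))) := by
      obtain ⟨s', hs', e'⟩ := hg2
      have : g₀ ^ 2 = s' := Subtype.ext (by simpa [g₀] using e'.symm)
      rw [this]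
      exact hs'
    have hpg : IsPGroup 2 ↥(Subgroup.zpowers g₀) := by
      obtain ⟨k, hk⟩ := S.2 ⟨_, hg₀2⟩
      have h1 : g₀ ^ (2 ^ (k + 1)) = 1 := by
        rw [pow_succ', pow_mul]
        exact congrArg Subtype.val hk
      obtain ⟨i, -, hi⟩ := (Nat.dvd_prime_pow Nat.prime_two).1 (orderOf_dvd_of_pow_eq_one h1)
      exact IsPGroup.of_card (n := i) (by rw [Nat.card_zpowers, hi])
    have hsup := IsPGroup.to_sup_of_normal_right' hpg S.2
      (Subgroup.zpowers_le.2 hnormS)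
    have hmax := S.is_maximal' hsup le_sup_right
    refine ⟨g₀, ?_, rfl⟩
    exact hmax ▸ Subgroup.mem_sup_left (Subgroup.mem_zpowers g₀)
  -- write `t'` in `P·K`
  have hKnorm : ∀ v ∈ K, v ∈ Subgroup.normalizer (P : Set X) := fun v hv => by
    rw [Subgroup.mem_normalizer_iff]
    intro y
    constructor
    · intro hy
      rwa [← Subgroup.mem_centralizer_iff.1 hv y hy, mul_inv_cancel_right]
    · intro hy
      have h := Subgroup.mem_centralizer_iff.1 hv _ hy
      have h2 : y = v * y * v⁻¹ := by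
        calc y = v⁻¹ * (v * y * v⁻¹ * v) := by group
          _ = v⁻¹ * (v * (v * y * v⁻¹)) := by rw [h]
          _ = _ := by group
      rw [h2]; exact hy
  obtain ⟨p₀, hp₀, c₀, hc₀, hpc⟩ : ∃ p ∈ P, ∃ c ∈ K, p * c = t' := by
    have h : t' ∈ ((P ⊔ K : Subgroup X) : Set X) := hgt
    rw [Subgroup.coe_mul_of_right_le_normalizer_left P K hKnorm] at h
    obtain ⟨p, hp, c, hc, e⟩ := h
    exact ⟨p, hp, c, hc, e⟩
  have hpcc : ∀ p ∈ P, ∀ c ∈ K, p * c = c * p := fun p hp c hc =>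
    Subgroup.mem_centralizer_iff.1 hc p hp
  have hsq0 : p₀ * p₀ * (c₀ * c₀) = 1 := by
    rw [← ht'2, ← hpc]
    calc p₀ * p₀ * (c₀ * c₀) = p₀ * (p₀ * c₀) * c₀ := by group
      _ = p₀ * (c₀ * p₀) * c₀ := by rw [hpcc p₀ hp₀ c₀ hc₀]
      _ = _ := by group
  have hzK : p₀ * p₀ ∈ K := by
    rw [eq_inv_of_mul_eq_one_left hsq0]
    exact K.inv_mem (K.mul_mem hc₀ hc₀)
  set z₀ : ↥(Subgroup.center ↥P) := ⟨⟨p₀ * p₀, P.mul_mem hp₀ hp₀⟩,
    Subgroup.mem_center_iff.2 fun q => Subtype.ext (hpcc q q.2 _ hzK)⟩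
  obtain ⟨k, hk⟩ := Cfsg.Agent.Lib.Inv59.FixEq.exists_sqrt (H := ↥(Subgroup.center ↥P)) hZ
  set w₀ := z₀ ^ k with hw₀
  set w : X := ((w₀ : ↥P) : X) with hw
  have hwP : w ∈ P := (w₀ : ↥P).2
  have hwK : w ∈ K := Subgroup.mem_centralizer_iff.2 fun q hq =>
    congrArg Subtype.val (Subgroup.mem_center_iff.1 w₀.2 ⟨q, hq⟩)
  have hww : w * w = p₀ * p₀ :=
    congrArg (fun x : ↥(Subgroup.center ↥P) => ((x : ↥P) : X)) (hk z₀)
  set p := p₀ * w⁻¹ with hp
  set c := w * c₀ with hc
  have hpP : p ∈ P := P.mul_mem hp₀ (P.inv_mem hwP)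
  have hcK : c ∈ K := K.mul_mem hwK hc₀
  have hpc' : p * c = t' := by rw [hp, hc, ← hpc]; group
  have hp2 : p * p = 1 := by
    rw [hp]
    calc p₀ * w⁻¹ * (p₀ * w⁻¹) = p₀ * (w⁻¹ * p₀) * w⁻¹ := by group
      _ = p₀ * (p₀ * w⁻¹) * w⁻¹ := by rw [← hpcc p₀ hp₀ _ (K.inv_mem hwK)]
      _ = (p₀ * p₀) * (w * w)⁻¹ := by group
      _ = 1 := by rw [hww, mul_inv_cancel]
  have hc2 : c * c = 1 := by
    calc c * c = p * p * (c * c) := by rw [hp2, one_mul]
      _ = p * (p * c) * c := by group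
      _ = p * (c * p) * c := by rw [hpcc p hpP c hcK]
      _ = (p * c) * (p * c) := by group
      _ = 1 := by rw [hpc', ht'2]
  have hcp : c = p⁻¹ * t' := by rw [← hpc']; group
  have htc' : c * t = t * c := by
    have h1 : Commute (p⁻¹) t := (show Commute p t from htc p hpP).inv_left
    have h2 : Commute t' t := htt'
    rw [hcp]
    exact (h1.mul_left h2).eq
  have hct : c = 1 ∨ c = t := by
    by_cases h : c = 1
    · exact Or.inl h
    · exact Or.inr (hone c t hcK htP hc2 ht2 htc' h ht1)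
  have hp1 : p ≠ 1 := by
    intro e
    rw [e, one_mul] at hpc'
    rcases hct with e' | e'
    · exact ht'1 (hpc'.symm.trans e')
    · exact hne (hpc'.symm.trans e')
  have hpZ : (⟨p, hpP⟩ : ↥P) ∉ Subgroup.center ↥P := fun h => hp1 (by
    have := Cfsg.Agent.Lib.Inv59.FixEq.eq_one_of_sq hZ (v := ⟨⟨p, hpP⟩, h⟩)
      (Subtype.ext (Subtype.ext hp2))
    exact congrArg (fun x : ↥(Subgroup.center ↥P) => ((x : ↥P) : X)) this)
  have hperf : commutator ↥P = ⊤ := hq.1.commutator_eq_top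
  -- `P` centralizes the fixed points of `t` on `O`
  have hfixP : ∀ v ∈ O, v * t = t * v → ∀ q ∈ P, q * v = v * q := by
    intro v hv hvt
    have hvN : v ∈ Subgroup.normalizer (P : Set X) := hCt v hvt
    haveI : (O.subgroupOf P).Normal := Subgroup.normal_subgroupOf
    have hPO : O.subgroupOf P ≤ Subgroup.center ↥P := by
      refine (Cfsg.Agent.Lib.Components.Quasisimple.normal_le_center_or_eq_top hq inferInstance).resolve_right
        fun h => hp1 (hoOrd p ?_ hp2)
      exact (h ▸ Subgroup.mem_top _ : (⟨p, hpP⟩ : ↥P) ∈ O.subgroupOf P)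
    have hmem : ∀ q : ↥P, (v * q * v⁻¹ * (q : X)⁻¹) ∈ P ⊓ O := by
      intro q
      refine ⟨P.mul_mem ((Subgroup.mem_normalizer_iff.1 hvN q).1 q.2) (P.inv_mem q.2), ?_⟩
      rw [show v * q * v⁻¹ * (q : X)⁻¹ = v * (q * v⁻¹ * (q : X)⁻¹) by group]
      exact O.mul_mem hv (hOn.conj_mem _ (O.inv_mem hv) q)
    let φ : ↥P →* ↥(Subgroup.center ↥P) :=
      MonoidHom.mk' (fun q => ⟨(⟨_, (hmem q).1⟩ : ↥P), hPO (Subgroup.mem_subgroupOf.2 (hmem q).2)⟩) fun a b => Subtype.ext (Subtype.ext (by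
        show v * ((a : X) * b) * v⁻¹ * ((a : X) * b)⁻¹ =
          (v * a * v⁻¹ * (a : X)⁻¹) * (v * b * v⁻¹ * (b : X)⁻¹)
        have hb := congrArg Subtype.val (Subgroup.mem_center_iff.1
          (hPO (Subgroup.mem_subgroupOf.2 (hmem b).2) : (⟨_, (hmem b).1⟩ : ↥P) ∈ Subgroup.center ↥P) a)
        change (a : X) * (v * b * v⁻¹ * (b : X)⁻¹) = (v * b * v⁻¹ * (b : X)⁻¹) * a at hb
        calc _ = v * a * v⁻¹ * ((v * b * v⁻¹ * (b : X)⁻¹) * (a : X)⁻¹) := by group
          _ = v * a * v⁻¹ * ((a : X)⁻¹ * ((a : X) * (v * b * v⁻¹ * (b : X)⁻¹)) * (a : X)⁻¹) := by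
            group
          _ = _ := by rw [hb]; group))
    have hker : φ.ker = ⊤ := by
      refine top_le_iff.1 ?_
      rw [← hperf, commutator_def, Subgroup.commutator_le]
      intro a _ b _
      rw [MonoidHom.mem_ker, map_commutatorElement, commutatorElement_eq_one_iff_mul_comm]
      exact Subtype.ext (Subgroup.mem_center_iff.1 (φ b).2 (φ a : ↥P))
    intro q hq
    have h := congrArg (fun x : ↥(Subgroup.center ↥P) => ((x : ↥P) : X))
      (MonoidHom.mem_ker.1 (hker ▸ Subgroup.mem_top (⟨q, hq⟩ : ↥P) : (⟨q, hq⟩ : ↥P) ∈ φ.ker))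
    change v * q * v⁻¹ * q⁻¹ = 1 at h
    exact (mul_inv_eq_iff_eq_mul.1 (mul_inv_eq_one.1 h)).symm
  have hfix : ∀ v ∈ O, (v * t = t * v ↔ v * t' = t' * v) := by
    have h1 : ∀ v ∈ O, v * t = t * v → v * t' = t' * v := by
      intro v hv hvt
      have hp' : Commute v p := (hfixP v hv hvt p hpP).symm
      have hc' : Commute v c := by
        rcases hct with e | e <;> rw [e]
        · exact Commute.one_right v
        · exact hvt
      rw [← hpc']
      exact (hp'.mul_right hc').eq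
    have hsub : {v : X | v ∈ O ∧ v * t = t * v} ⊆ {v : X | v ∈ O ∧ v * t' = t' * v} :=
      fun v hv => ⟨hv.1, h1 v hv.1 hv.2⟩
    have hcard : {v : X | v ∈ O ∧ v * t' = t' * v}.ncard ≤ {v : X | v ∈ O ∧ v * t = t * v}.ncard := by
      refine Set.ncard_le_ncard_of_injOn (fun v => g⁻¹ * v * g) ?_ ?_ (Set.toFinite _)
      · rintro v ⟨hv, hvt⟩
        refine ⟨by simpa using hOn.conj_mem v hv g⁻¹, ?_⟩
        calc g⁻¹ * v * g * t = g⁻¹ * (v * t') * g := by rw [ht']; group
          _ = g⁻¹ * (t' * v) * g := by rw [hvt]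
          _ = t * (g⁻¹ * v * g) := by rw [ht']; group
      · intro a _ b _ e
        simpa using e
    have heq := Set.eq_of_subset_of_ncard_le hsub hcard (Set.toFinite _)
    exact fun v hv => ⟨h1 v hv, fun h => (heq.symm ▸ (⟨hv, h⟩ : v ∈ {v : X | v ∈ O ∧ v * t' = t' * v}) :
      v ∈ {v : X | v ∈ O ∧ v * t = t * v}).2⟩
  have hinv : ∀ u : X, u * u = 1 → u⁻¹ = u := fun u hu => inv_eq_of_mul_eq_one_right hu
  let f : X → ↥O →* ↥O := fun u => MonoidHom.mk'
    (fun v => ⟨u * v * u⁻¹, hOn.conj_mem v v.2 u⟩)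
    fun a b => Subtype.ext (show u * ((a : X) * b) * u⁻¹ = _ * _ by group)
  have hsame : ∀ v ∈ O, t * v * t⁻¹ = t' * v * t'⁻¹ := by
    intro v hv
    refine congrArg Subtype.val (Cfsg.Agent.Lib.Inv59.FixEq.eq_of_fixed_eq hOodd (f t) (f t')
      (fun a => Subtype.ext ?_) (fun a => Subtype.ext ?_) (fun a => Subtype.ext ?_) (fun a => ?_)
      ⟨v, hv⟩)
    · show t * (t * a * t⁻¹) * t⁻¹ = a
      rw [show t * (t * (a : X) * t⁻¹) * t⁻¹ = t * t * a * (t * t)⁻¹ by group, ht2]; simp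
    · show t' * (t' * a * t'⁻¹) * t'⁻¹ = a
      rw [show t' * (t' * (a : X) * t'⁻¹) * t'⁻¹ = t' * t' * a * (t' * t')⁻¹ by group, ht'2]; simp
    · show t * (t' * a * t'⁻¹) * t⁻¹ = t' * (t * a * t⁻¹) * t'⁻¹
      rw [show t * (t' * (a : X) * t'⁻¹) * t⁻¹ = t * t' * a * (t * t')⁻¹ by group, ← htt']
      group
    · rw [Subtype.ext_iff, Subtype.ext_iff]
      show t * a * t⁻¹ = a ↔ t' * a * t'⁻¹ = a
      rw [mul_inv_eq_iff_eq_mul, mul_inv_eq_iff_eq_mul, eq_comm, hfix a a.2, eq_comm]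
  -- the elements of `P` inducing a central automorphism
  set C := Subgroup.centralizer (O : Set X) with hC
  haveI hCn : C.Normal := inferInstanceAs (Subgroup.centralizer (O : Set X)).Normal
  have hu : t * t' ∈ C := Subgroup.mem_centralizer_iff.2 fun v hv => by
    have h := hsame v hv
    have h2 : t'⁻¹ * t * v * t⁻¹ * t' = v := by
      calc _ = t'⁻¹ * (t * v * t⁻¹) * t' := by group
        _ = _ := by rw [h]; group
    rw [hinv t ht2, hinv t' ht'2] at h2
    calc v * (t * t') = (t' * t * v * t * t') * (t * t') := by rw [h2]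
      _ = t' * t * v * (t * (t' * t) * t') := by group
      _ = t' * t * v * ((t * t) * (t' * t')) := by rw [htt']; group
      _ = t * t' * v := by rw [ht2, ht'2, htt']; simp
  let ψ : ↥P →* X ⧸ C := (QuotientGroup.mk' C).comp P.subtype
  have hψp : (⟨p, hpP⟩ : ↥P) ∈ (Subgroup.centralizer (Set.range ψ)).comap ψ := by
    rw [Subgroup.mem_comap, Subgroup.mem_centralizer_iff]
    rintro _ ⟨q, rfl⟩
    have e : ψ ⟨p, hpP⟩ = (QuotientGroup.mk' C) t ∨ ψ ⟨p, hpP⟩ = 1 := by
      rcases hct with e | e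
      · left
        rw [e, mul_one] at hpc'
        show (QuotientGroup.mk' C) p = _
        rw [hpc', QuotientGroup.mk'_eq_mk']
        exact ⟨t'⁻¹ * t, by
          rw [hinv t' ht'2, htt']
          exact hu, by group⟩
      · right
        refine (QuotientGroup.eq_one_iff _).2 ?_
        show p ∈ C
        have : p = t * t' := by
          rw [← hpc', e, ← mul_assoc, ← htc p hpP, mul_assoc, ht2, mul_one]
        rw [this]
        exact hu
    rcases e with e | e <;> rw [e]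
    · show (QuotientGroup.mk' C) (q : X) * _ = _
      rw [← map_mul, htc q q.2, map_mul]
      rfl
    · simp
  have hall : ∀ q ∈ P, q ∈ C := by
    set M := (Subgroup.centralizer (Set.range ψ)).comap ψ with hM
    have hMn : M.Normal := ⟨fun a ha q => by
      rw [hM, Subgroup.mem_comap, Subgroup.mem_centralizer_iff] at ha ⊢
      rintro _ ⟨r, rfl⟩
      have h := ha (ψ (q⁻¹ * r * q)) ⟨_, rfl⟩
      simp only [map_mul, map_inv] at h ⊢
      calc ψ r * (ψ q * ψ a * (ψ q)⁻¹) = ψ q * ((ψ q)⁻¹ * ψ r * ψ q * ψ a) * (ψ q)⁻¹ := by group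
        _ = _ := by rw [h]; group⟩
    have hMt : M = ⊤ := (Cfsg.Agent.Lib.Components.Quasisimple.normal_le_center_or_eq_top hq hMn).resolve_left
      fun h => hpZ (h hψp)
    have hker : ψ.ker = ⊤ := by
      refine top_le_iff.1 ?_
      rw [← hperf, commutator_def, Subgroup.commutator_le]
      intro a _ b _
      have h := Subgroup.mem_centralizer_iff.1
        (Subgroup.mem_comap.1 (hMt ▸ Subgroup.mem_top a : a ∈ M)) (ψ b) ⟨b, rfl⟩
      rw [MonoidHom.mem_ker, map_commutatorElement, commutatorElement_eq_one_iff_mul_comm]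
      exact h.symm
    intro q hq
    exact (QuotientGroup.eq_one_iff q).1
      (MonoidHom.mem_ker.1 (hker ▸ Subgroup.mem_top (⟨q, hq⟩ : ↥P) : (⟨q, hq⟩ : ↥P) ∈ ψ.ker))
  refine ⟨Subgroup.commutator_eq_bot_iff_le_centralizer.2 hall, fun L hL hPL _ => ?_⟩
  haveI : Fact (Nat.Prime 2) := ⟨Nat.prime_two⟩
  rw [Cfsg.Agent.Lib.Balance.isQuasisimple_pComponent_iff hL]
  set D := Cfsg.Agent.Lib.Balance.coreIn 2 L with hD
  rw [Subgroup.commutator_eq_bot_iff_le_centralizer]
  set C' := Subgroup.centralizer (D : Set X) with hC'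
  have hDO : D = L ⊓ O := Cfsg.Agent.Lib.Balance.coreIn_eq_inf_of_isSubnormal hL.1
  haveI hn : (C'.subgroupOf L).Normal := ⟨fun a ha l => by
    rw [Subgroup.mem_subgroupOf, hC', Subgroup.mem_centralizer_iff] at ha ⊢
    intro d hd
    rw [hDO, SetLike.mem_coe] at hd
    have hd' : (l : X)⁻¹ * d * l ∈ (D : Set X) := by
      rw [hDO]
      exact ⟨L.mul_mem (L.mul_mem (L.inv_mem l.2) hd.1) l.2, by simpa using hOn.conj_mem d hd.2 (l : X)⁻¹⟩
    have h := ha _ hd'
    push_cast at h ⊢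
    calc d * ((l : X) * a * (l : X)⁻¹) = l * ((l : X)⁻¹ * d * l * a) * (l : X)⁻¹ := by group
      _ = _ := by rw [h]; group⟩
  have hqQ : Cfsg.IsQuasisimple ↥(L.map (QuotientGroup.mk' (Cfsg.pPrimeCore 2 X))) := hL.2.1.2
  let χ : ↥L →* ↥(L.map (QuotientGroup.mk' (Cfsg.pPrimeCore 2 X))) :=
    (QuotientGroup.mk' (Cfsg.pPrimeCore 2 X)).subgroupMap L
  have hχ : Function.Surjective χ := (QuotientGroup.mk' _).subgroupMap_surjective L
  have hPC' : P.subgroupOf L ≤ C'.subgroupOf L := fun q hq => by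
    rw [Subgroup.mem_subgroupOf, hC', Subgroup.mem_centralizer_iff]
    intro d hd
    rw [hDO, SetLike.mem_coe] at hd
    exact Subgroup.mem_centralizer_iff.1 (hall _ hq) d hd.2
  rcases Cfsg.Agent.Lib.Components.Quasisimple.normal_le_center_or_eq_top hqQ
      (hn.map χ hχ) with h | h
  · exfalso
    apply hp1
    refine hoOrd p ?_ hp2
    let θ : ↥P →* ↥(L.map (QuotientGroup.mk' (Cfsg.pPrimeCore 2 X))) := χ.comp (Subgroup.inclusion hPL)
    have hk : θ.ker = ⊤ := by
      refine top_le_iff.1 ?_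
      rw [← hperf, commutator_def, Subgroup.commutator_le]
      intro a _ b _
      have ha : θ a ∈ Subgroup.center _ := h ⟨_, hPC' a.2, rfl⟩
      rw [MonoidHom.mem_ker, map_commutatorElement, commutatorElement_eq_one_iff_mul_comm]
      exact (Subgroup.mem_center_iff.1 ha _).symm
    have h3 : θ ⟨p, hpP⟩ = 1 := MonoidHom.mem_ker.1 (by rw [hk]; exact Subgroup.mem_top _)
    have h2 := congrArg Subtype.val h3
    exact (QuotientGroup.eq_one_iff p).1 h2
  · have hsn : ((C'.subgroupOf L).map L.subtype).IsSubnormal := hn.isSubnormal.trans' hL.1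
    have heq : (C'.subgroupOf L).map L.subtype = L := by
      refine hL.2.2 _ hsn (Subgroup.map_subtype_le _) (le_antisymm
        (Subgroup.map_mono (Subgroup.map_subtype_le _)) ?_)
      rintro _ ⟨l, hl, rfl⟩
      obtain ⟨a, ha, e⟩ := (h ▸ Subgroup.mem_top (χ ⟨l, hl⟩) : χ ⟨l, hl⟩ ∈ (C'.subgroupOf L).map χ)
      exact ⟨a, ⟨a, ha, rfl⟩, congrArg Subtype.val e⟩
    intro l hl
    rw [← heq] at hl
    obtain ⟨a, ha, rfl⟩ := hl
    exact ha

end Cfsg.Agent.S3153
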