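import Cfsg.Statements.S3154
import Cfsg.Agent.Lib.CoverL34.Lift

set_option autoImplicit false
open Cfsg

namespace Cfsg.Agent.S3154

/-- Let X be a finite quasisimple group whose centre is an elementary abelian 2-group and whose central quotient is isomorphic to the projective special linear group of dimension 3 over the field with 4 elements. Let T be a Sylow 2-subgroup of X and H ≠ K subgroups of T containing the centre Z(X) whose images in X/Z(X) are elementary abelian of order 16 (the two such subgroups of a Sylow 2-subgroup of the quotient). Then H and K are elementary abelian, H ∩ K is the centre of the subgroup they generate, and each of N_X(H), N_X(K) is a split extension of H, respectively K, by the projective special linear group of dimension 2 over the field with 4 elements (there is a complement isomorphic to that group). -/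
theorem result {X : Type*} [Group X] [Finite X] (hq : Cfsg.IsQuasisimple X) (hZ : Cfsg.IsElementaryAbelian 2 (Subgroup.center X))
    {F : Type*} [Field F] [Fintype F] (hF : Fintype.card F = 4) (hXL : Nonempty ((X ⧸ Subgroup.center X) ≃* Matrix.ProjectiveSpecialLinearGroup (Fin 3) F))
    (T : Sylow 2 X) (H K : Subgroup X) (hHK : H ≠ K) (hHT : H ≤ T) (hKT : K ≤ T) (hZH : Subgroup.center X ≤ H) (hZK : Subgroup.center X ≤ K)
    (hH : Cfsg.IsElementaryAbelian 2 (H.map (QuotientGroup.mk' (Subgroup.center X))) ∧ Nat.card ↥(H.map (QuotientGroup.mk' (Subgroup.center X))) = 16)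
    (hK : Cfsg.IsElementaryAbelian 2 (K.map (QuotientGroup.mk' (Subgroup.center X))) ∧ Nat.card ↥(K.map (QuotientGroup.mk' (Subgroup.center X))) = 16) :
    Cfsg.IsElementaryAbelian 2 H ∧ Cfsg.IsElementaryAbelian 2 K ∧
      H ⊓ K = (Subgroup.center ↥(H ⊔ K)).map (H ⊔ K).subtype ∧
      (∃ C : Subgroup X, C ≤ Subgroup.normalizer (H : Set X) ∧ C ⊓ H = ⊥ ∧ H ⊔ C = Subgroup.normalizer (H : Set X) ∧
        Nonempty (↥C ≃* Matrix.ProjectiveSpecialLinearGroup (Fin 2) F)) ∧
      (∃ C : Subgroup X, C ≤ Subgroup.normalizer (K : Set X) ∧ C ⊓ K = ⊥ ∧ K ⊔ C = Subgroup.normalizer (K : Set X) ∧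
        Nonempty (↥C ≃* Matrix.ProjectiveSpecialLinearGroup (Fin 2) F)) := by
  obtain ⟨e⟩ := hXL
  let π : X →* Matrix.ProjectiveSpecialLinearGroup (Fin 3) F :=
    e.toMonoidHom.comp (QuotientGroup.mk' (Subgroup.center X))
  have hπ : Function.Surjective π := e.surjective.comp (QuotientGroup.mk'_surjective _)
  have hker : π.ker = Subgroup.center X := by
    ext x
    simp only [π, MonoidHom.mem_ker, MonoidHom.comp_apply, MulEquiv.coe_toMonoidHom]
    rw [e.map_eq_one_iff, QuotientGroup.mk'_apply, QuotientGroup.eq_one_iff]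
  have hmap : ∀ A : Subgroup X, A.map π = (A.map (QuotientGroup.mk' (Subgroup.center X))).map e.toMonoidHom :=
    fun A => (Subgroup.map_map _ _ _).symm
  have hsq : ∀ A : Subgroup X, Cfsg.IsElementaryAbelian 2 (A.map (QuotientGroup.mk' (Subgroup.center X))) →
      ∀ x ∈ A.map π, x ^ 2 = 1 := by
    intro A hA x hx
    rw [hmap] at hx
    obtain ⟨y, hy, rfl⟩ := hx
    rw [← map_pow, hA.2 y hy, map_one]
  have hcard : ∀ A : Subgroup X, Nat.card ↥(A.map (QuotientGroup.mk' (Subgroup.center X))) = 16 →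
      Nat.card (A.map π) = 16 := fun A h => by
    rw [hmap, Subgroup.card_map_of_injective (f := e.toMonoidHom) e.injective, h]
  have hne : H.map π ≠ K.map π := fun h => hHK (by
    rw [← Subgroup.comap_map_eq_self (hker ▸ hZH : π.ker ≤ H), h,
      Subgroup.comap_map_eq_self (hker ▸ hZK : π.ker ≤ K)])
  have hS : ∀ A : Subgroup X, A ≤ (T : Subgroup X) → A.map π ≤ ((T.mapSurjective hπ : Sylow 2 _) : Subgroup _) :=
    fun A hA => Subgroup.map_mono hA
  obtain ⟨gH, gK, hsup, hnH, hZS⟩ := Lib.CoverL34.main hF (T.mapSurjective hπ) (H.map π) (K.map π) hne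
    (hS H hHT) (hS K hKT) (hsq H hH.1) (hsq K hK.1) (hcard H hH.2) (hcard K hK.2)
  obtain ⟨-, -, -, hnK, -⟩ := Lib.CoverL34.main hF (T.mapSurjective hπ) (K.map π) (H.map π) hne.symm
    (hS K hKT) (hS H hHT) (hsq K hK.1) (hsq H hH.1) (hcard K hK.2) (hcard H hH.2)
  have eH := Lib.CoverL34.isElementaryAbelian_lift hπ hker hZ.2 hZH (hsq H hH.1) gH
  have eK := Lib.CoverL34.isElementaryAbelian_lift hπ hker hZ.2 hZK (hsq K hK.1) gK
  have hT : H ⊔ K = (T : Subgroup X) := by
    refine le_antisymm (sup_le hHT hKT) ?_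
    have h1 : (H ⊔ K).map π = (T : Subgroup X).map π := by rw [Subgroup.map_sup]; exact hsup
    rw [← Subgroup.comap_map_eq_self ((hker.le.trans hZH).trans (le_sup_left : H ≤ H ⊔ K)), h1]
    exact Subgroup.le_comap_map _ _
  refine ⟨eH, eK, ?_, Lib.CoverL34.exists_complement_lift hπ hker T hHT hZH eH eK gH hT hnH,
    Lib.CoverL34.exists_complement_lift hπ hker T hKT hZK eK eH gK (sup_comm K H ▸ hT) hnK⟩
  ext x
  constructor
  · rintro ⟨hxH, hxK⟩
    refine ⟨⟨x, Subgroup.mem_sup_left hxH⟩, Subgroup.mem_center_iff.2 fun y => Subtype.ext ?_, rfl⟩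
    have hle : H ⊔ K ≤ Subgroup.centralizer ({x} : Set X) := sup_le
      (fun h hh => Subgroup.mem_centralizer_singleton_iff.2
        (congrArg Subtype.val (eH.1.is_comm.comm ⟨h, hh⟩ ⟨x, hxH⟩)))
      (fun h hh => Subgroup.mem_centralizer_singleton_iff.2
        (congrArg Subtype.val (eK.1.is_comm.comm ⟨h, hh⟩ ⟨x, hxK⟩)))
    exact Subgroup.mem_centralizer_singleton_iff.1 (hle y.2)
  · rintro ⟨y, hy, rfl⟩
    obtain ⟨h1, h2⟩ := hZS (π y) (Subgroup.mem_map_of_mem π (hT ▸ y.2)) (by
      rintro _ ⟨t, ht, rfl⟩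
      rw [← map_mul, ← map_mul]
      exact congrArg (fun w : ↥(H ⊔ K) => π w) (Subgroup.mem_center_iff.1 hy ⟨t, hT.symm ▸ ht⟩))
    constructor
    · exact (Subgroup.comap_map_eq_self (hker ▸ hZH : π.ker ≤ H)).le h1
    · exact (Subgroup.comap_map_eq_self (hker ▸ hZK : π.ker ≤ K)).le h2

end Cfsg.Agent.S3154
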