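import Cfsg.Statements.S3155
import Mathlib

set_option autoImplicit false
open Cfsg

namespace Cfsg.Agent.S3155

/-- Let B be the direct product of three cyclic groups of order 4. Then the automorphism of B inverting every element is not the square of any automorphism of B. -/
theorem result {B : Type*} [CommGroup B] [Finite B] (hB : Nonempty (B ≃* Multiplicative (ZMod 4 × ZMod 4 × ZMod 4)))
    (τ : B ≃* B) : τ.trans τ ≠ MulEquiv.inv B := by
  intro h
  obtain ⟨e⟩ := hB
  let A := ZMod 4 × ZMod 4 × ZMod 4
  let f₀ : A →+ A :=
    { toFun := fun a => Multiplicative.toAdd (e (τ (e.symm (Multiplicative.ofAdd a))))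
      map_zero' := by simp [← toAdd_one]
      map_add' := fun a b => by simp [ofAdd_add, map_mul] }
  let f : A →ₗ[ZMod 4] A := f₀.toZModLinearMap 4
  have hff : f.comp f = (-1 : ZMod 4) • LinearMap.id := by
    apply LinearMap.ext
    intro a
    have h1 : τ (τ (e.symm (Multiplicative.ofAdd a))) = (e.symm (Multiplicative.ofAdd a))⁻¹ := by
      have := DFunLike.congr_fun h (e.symm (Multiplicative.ofAdd a))
      simpa using this
    show f₀ (f₀ a) = (-1 : ZMod 4) • a
    simp [f₀, h1]
  have hdet := congrArg LinearMap.det hff
  rw [LinearMap.det_comp, LinearMap.det_smul, LinearMap.det_id] at hdet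
  haveI : Nontrivial (ZMod 4) := ⟨⟨0, 1, by decide⟩⟩
  have hr : Module.finrank (ZMod 4) A = 3 := by
    show Module.finrank (ZMod 4) (ZMod 4 × ZMod 4 × ZMod 4) = 3
    rw [Module.finrank_prod, Module.finrank_prod, Module.finrank_self]
  rw [hr] at hdet
  revert hdet
  generalize LinearMap.det f = x
  revert x
  decide

end Cfsg.Agent.S3155
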