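import Cfsg.Statements.S3156
import Cfsg.Agent.Lib.U3Sylow.Aut

set_option autoImplicit false
set_option linter.style.haveILetI false
open Cfsg

namespace Cfsg.Agent.S3156

open Cfsg.Agent.Lib.U3Sylow

/-- If a finite group T is isomorphic to a Sylow 2-subgroup of the projective special unitary group of dimension 3 with parameter 4 (realised over the field with 16 elements), then no subgroup of the automorphism group of T is isomorphic to the symmetric group of degree 3. -/
theorem result {T : Type*} [Group T] [Finite T] (hT : (∃ (F : Type) (_ : Field F) (_ : Fintype F), Fintype.card F = 16 ∧ ∃ S : Sylow 2 (Cfsg.PSU 3 F 4), Nonempty (T ≃* ↥(S : Subgroup (Cfsg.PSU 3 F 4))))) (H : Subgroup (MulAut T)) : ¬ Nonempty (↥H ≃* Equiv.Perm (Fin 3)) := by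
  classical
  obtain ⟨F, _, _, hF, P, ⟨e⟩⟩ := hT
  have hF' : Fintype.card F = (2 ^ 2) ^ 2 := by rw [hF]; norm_num
  obtain ⟨c₀⟩ := exists_coords_PSU hF' P
  let c := c₀.trans e
  rintro ⟨f⟩
  let σ : Equiv.Perm (Fin 3) := Equiv.swap 0 1 * Equiv.swap 1 2
  let τ : Equiv.Perm (Fin 3) := Equiv.swap 0 1
  set β : MulAut T := (f.symm σ : MulAut T) with hβ
  set γ : MulAut T := (f.symm τ : MulAut T) with hγ
  have hb3 : β * (β * β) = 1 := by
    rw [hβ, ← Subgroup.coe_mul, ← Subgroup.coe_mul, ← map_mul, ← map_mul,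
      show σ * (σ * σ) = 1 by decide, map_one, Subgroup.coe_one]
  have hc2 : γ * γ = 1 := by
    rw [hγ, ← Subgroup.coe_mul, ← map_mul, show τ * τ = 1 by decide, map_one, Subgroup.coe_one]
  have hinv : γ * β = β * β * γ := by
    rw [hβ, hγ, ← Subgroup.coe_mul, ← map_mul, show τ * σ = σ * σ * τ by decide, map_mul, map_mul,
      Subgroup.coe_mul, Subgroup.coe_mul]
  obtain ⟨m, k, hk, hm⟩ := c.classify hF' β
  obtain ⟨l, i, hi, hl⟩ := c.classify hF' γ
  have hred : ∀ (x : F) (j : ℕ), x ^ 2 ^ j = x ^ 2 ^ (j % 4) := fun x j => by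
    conv_lhs => rw [← Nat.mod_add_div j 4, pow_add, pow_mul, pow_mul 2 4]
    rw [show (2 : ℕ) ^ 4 = Fintype.card F by rw [hF]; norm_num, FiniteField.pow_card_pow]
  have hk0 : k = 0 := by
    have h3 : ∀ x : F, (m : F) * ((m : F) * ((m : F) * x ^ 2 ^ k) ^ 2 ^ k) ^ 2 ^ k = x := fun x => by
      obtain ⟨s, rfl⟩ := c.exists_a hF' x
      rw [← (hm s).1, ← (hm _).1, ← (hm _).1, ← MulAut.mul_apply, ← MulAut.mul_apply, mul_assoc, hb3]
      rfl
    have hm1 := h3 1
    have hx : ∀ x : F, x ^ 2 ^ (k + k + k) = x := fun x => by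
      calc x ^ 2 ^ (k + k + k) = ((m : F) * ((m : F) * ((m : F) * 1 ^ 2 ^ k) ^ 2 ^ k) ^ 2 ^ k) *
            x ^ 2 ^ (k + k + k) := by rw [hm1, one_mul]
        _ = (m : F) * ((m : F) * ((m : F) * x ^ 2 ^ k) ^ 2 ^ k) ^ 2 ^ k := by
            rw [one_pow, mul_one]; simp only [mul_pow, ← pow_mul, ← pow_add]; ring
        _ = x := h3 x
    have := frob_unique hF' (i := (k + k + k) % 4) (by omega) (by omega : 0 < 2 * 2) fun x => by
      rw [← hred, hx, pow_zero, pow_one]
    omega
  subst hk0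
  simp only [pow_zero, pow_one] at hm
  have hm3 : (m : F) * (m * m) = 1 := by
    obtain ⟨s, hs⟩ := c.exists_a hF' 1
    have h : c.a (β (β (β s))) = (m : F) * (m * (m * c.a s)) := by
      rw [(hm _).1, (hm _).1, (hm _).1]
    rw [← MulAut.mul_apply, ← MulAut.mul_apply, mul_assoc, hb3, MulAut.one_apply, hs, mul_one] at h
    exact h.symm
  have hmi : (m : F) ^ 2 ^ i = m := by
    have h2 : ∀ x : F, (l : F) * ((l : F) * x ^ 2 ^ i) ^ 2 ^ i = x := fun x => by
      obtain ⟨s, rfl⟩ := c.exists_a hF' x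
      rw [← (hl s).1, ← (hl _).1, ← MulAut.mul_apply, hc2]
      rfl
    have hl1 : (l : F) * (l : F) ^ 2 ^ i = 1 := by simpa using h2 1
    have hx : ∀ x : F, x ^ 2 ^ (i + i) = x := fun x => by
      have h := h2 x
      rwa [mul_pow, ← mul_assoc, hl1, one_mul, ← pow_mul, ← pow_add] at h
    have := frob_unique hF' (i := (i + i) % 4) (by omega) (by omega : 0 < 2 * 2) fun x => by
      rw [← hred, hx, pow_zero, pow_one]
    obtain rfl | rfl : i = 0 ∨ i = 2 := by omega
    · simp
    · calc (m : F) ^ 2 ^ 2 = m * (m * (m * m)) := by ring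
        _ = m := by rw [show (m : F) * (m * (m * m)) = m * (m * m) * m by ring, hm3, one_mul]
  have hm1 : (m : F) = 1 := by
    obtain ⟨s, hs⟩ := c.exists_a hF' 1
    have h : c.a ((γ * β) s) = c.a ((β * β * γ) s) := by rw [hinv]
    simp only [MulAut.mul_apply, (hl _).1, (hm _).1, hs, mul_one, one_pow] at h
    rw [hmi] at h
    have : (m : F) * m = m := mul_right_cancel₀ l.ne_zero (by linear_combination -h)
    exact mul_left_cancel₀ m.ne_zero (this.trans (mul_one _).symm)
  have hβc : β ∈ c.autCentral := fun s => by rw [(hm s).1, hm1, one_mul]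
  have h2 := (c.autCentral_elementary hF').2 β hβc
  have hb1 : β = 1 := by
    rw [pow_two] at h2
    rwa [h2, mul_one] at hb3
  rw [hβ, OneMemClass.coe_eq_one, map_eq_one_iff f.symm f.symm.injective] at hb1
  exact absurd hb1 (by decide)

end Cfsg.Agent.S3156
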