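import Cfsg.Statements.S3157
import Mathlib
import Cfsg.Agent.Lib.Golay.PSL34
import Cfsg.Agent.Lib.Linear.Order
import Cfsg.Agent.Lib.PGroups.Recognition

set_option autoImplicit false
set_option linter.style.haveILetI false
set_option linter.unusedSectionVars false
open Cfsg

namespace Cfsg.Agent.S3157

open Cfsg.Agent.Lib.Golay.PSL34

section
variable {T : Type*} [Group T] {ρ : MulAut T}

theorem rho_three (h : orderOf ρ = 3) (y : T) : ρ (ρ (ρ y)) = y := by
  have h3 := pow_orderOf_eq_one ρ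
  rw [h] at h3
  calc ρ (ρ (ρ y)) = (ρ ^ 3) y := rfl
    _ = y := by rw [h3]; rfl

theorem sub_bij [Finite T] (hfp : ∀ y : T, ρ y = y → y = 1) :
    Function.Bijective fun y : T => y⁻¹ * ρ y := by
  refine Finite.injective_iff_bijective.mp fun u v huv => ?_
  have huv' : u⁻¹ * ρ u = v⁻¹ * ρ v := huv
  refine mul_inv_eq_one.mp (hfp (u * v⁻¹) ?_)
  rw [map_mul, map_inv]
  calc ρ u * (ρ v)⁻¹ = u * (u⁻¹ * ρ u) * (ρ v)⁻¹ := by group
    _ = u * (v⁻¹ * ρ v) * (ρ v)⁻¹ := by rw [huv']
    _ = u * v⁻¹ := by group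

theorem prod_three [Finite T] (h3 : orderOf ρ = 3) (hfp : ∀ y : T, ρ y = y → y = 1) (y : T) :
    y * ρ y * ρ (ρ y) = 1 := by
  obtain ⟨u, rfl⟩ := (sub_bij hfp).surjective y
  simp only [map_mul, map_inv, rho_three h3]
  group

theorem comm_rho [Finite T] (h3 : orderOf ρ = 3) (hfp : ∀ y : T, ρ y = y → y = 1) (y : T) :
    Commute y (ρ y) := by
  have h1 : (ρ (ρ y))⁻¹ = y * ρ y := (eq_inv_of_mul_eq_one_left (prod_three h3 hfp y)).symm
  have h2 := prod_three h3 hfp y⁻¹
  rw [map_inv, map_inv] at h2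
  have h4 : ρ (ρ y) * (ρ y * y) = 1 := by
    have := congrArg (fun t => t⁻¹) h2
    simpa [mul_assoc] using this
  have h5 : ρ y * y = (ρ (ρ y))⁻¹ := eq_inv_of_mul_eq_one_right h4
  exact (h5.trans h1).symm

theorem mem_of_fixed_mod [Finite T] (hfp : ∀ y : T, ρ y = y → y = 1) {N : Subgroup T}
    (hN : ∀ n ∈ N, ρ n ∈ N) {y : T} (hy : y⁻¹ * ρ y ∈ N) : y ∈ N := by
  have hinj : Function.Injective (fun n : N => (⟨(n : T)⁻¹ * ρ n,
      N.mul_mem (N.inv_mem n.2) (hN _ n.2)⟩ : N)) := fun m n hmn =>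
    Subtype.ext ((sub_bij hfp).injective (congrArg Subtype.val hmn))
  obtain ⟨n, hn⟩ := (Finite.injective_iff_surjective.mp hinj) ⟨y⁻¹ * ρ y, hy⟩
  rw [← (sub_bij hfp).injective (congrArg Subtype.val hn)]
  exact n.2

theorem card_mod_three [Finite T] (h3 : orderOf ρ = 3) (hfp : ∀ y : T, ρ y = y → y = 1)
    {N : Subgroup T} (hN : ∀ n ∈ N, ρ n ∈ N) : Nat.card N % 3 = 1 := by
  classical
  haveI : Fintype N := Fintype.ofFinite _
  haveI : Fact (Nat.Prime 3) := ⟨Nat.prime_three⟩
  let σ : Equiv.Perm N :=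
    { toFun := fun n => ⟨ρ n, hN _ n.2⟩
      invFun := fun n => ⟨ρ (ρ n), hN _ (hN _ n.2)⟩
      left_inv := fun n => Subtype.ext (rho_three h3 _)
      right_inv := fun n => Subtype.ext (rho_three h3 _) }
  let f : Function.End N := (σ : N → N)
  have hσ : f ^ 3 ^ 1 = 1 := funext fun n => Subtype.ext (rho_three h3 (n : T))
  have h := Equiv.Perm.card_fixedPoints_modEq hσ
  have h1 : Fintype.card (Function.fixedPoints f) = 1 := by
    rw [Fintype.card_eq_one_iff]
    refine ⟨⟨1, Subtype.ext (map_one ρ)⟩, fun n => Subtype.ext (Subtype.ext ?_)⟩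
    exact hfp _ (congrArg Subtype.val n.2)
  rw [h1, ← Nat.card_eq_fintype_card] at h
  exact h

/-- An `ρ`-invariant subgroup properly above a subgroup of order four has order `16` or `64`. -/
theorem card_cases [Finite T] (hT : Nat.card T = 64) (h3 : orderOf ρ = 3)
    (hfp : ∀ y : T, ρ y = y → y = 1) {N : Subgroup T} (hN : ∀ n ∈ N, ρ n ∈ N) :
    Nat.card N = 1 ∨ Nat.card N = 4 ∨ Nat.card N = 16 ∨ Nat.card N = 64 := by
  have hd : Nat.card N ∣ 2 ^ 6 := by
    have := Subgroup.card_subgroup_dvd_card N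
    rwa [hT] at this
  have hm := card_mod_three h3 hfp hN
  obtain ⟨i, hi, he⟩ := (Nat.dvd_prime_pow Nat.prime_two).mp hd
  rw [he] at hm ⊢
  interval_cases i <;> simp_all

theorem comm_closure {s : Set T} (h : ∀ a ∈ s, ∀ b ∈ s, Commute a b) :
    ∀ a ∈ Subgroup.closure s, ∀ b ∈ Subgroup.closure s, Commute a b := by
  have h1 : Subgroup.closure s ≤ Subgroup.centralizer s := (Subgroup.closure_le _).mpr
    fun a ha => Subgroup.mem_centralizer_iff.mpr fun b hb => (h b hb a ha).eq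
  have h2 : Subgroup.closure s ≤ Subgroup.centralizer (Subgroup.closure s : Set T) :=
    (Subgroup.closure_le _).mpr fun a ha => Subgroup.mem_centralizer_iff.mpr fun b hb =>
      (Subgroup.mem_centralizer_iff.mp (h1 hb) a ha).symm
  intro a ha b hb
  exact Subgroup.mem_centralizer_iff.mp (h2 hb) a ha

theorem closure_inv {s : Set T} (hs : ∀ a ∈ s, ρ a ∈ Subgroup.closure s) :
    ∀ a ∈ Subgroup.closure s, ρ a ∈ Subgroup.closure s := fun a ha => by
  have : (Subgroup.closure s).map ρ.toMonoidHom ≤ Subgroup.closure s := by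
    rw [MonoidHom.map_closure]
    exact (Subgroup.closure_le _).mpr (by rintro _ ⟨a, ha, rfl⟩; exact hs a ha)
  exact this ⟨a, ha, rfl⟩

/-- `A(y)`: generated by the centre, `y` and `ρ y`. -/
def AA (ρ : MulAut T) (y : T) : Subgroup T :=
  Subgroup.closure ((Subgroup.center T : Set T) ∪ {y, ρ y})

theorem center_inv : ∀ z ∈ Subgroup.center T, ρ z ∈ Subgroup.center T := fun z hz => by
  rw [Subgroup.mem_center_iff] at hz ⊢
  intro g
  have := congrArg ρ (hz (ρ.symm g))
  simpa using this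

theorem center_le_AA (ρ : MulAut T) (y : T) : Subgroup.center T ≤ AA ρ y := fun _ hz =>
  Subgroup.subset_closure (Or.inl hz)

theorem self_mem_AA (ρ : MulAut T) (y : T) : y ∈ AA ρ y :=
  Subgroup.subset_closure (Or.inr (Or.inl rfl))

theorem rho_mem_AA (ρ : MulAut T) (y : T) : ρ y ∈ AA ρ y :=
  Subgroup.subset_closure (Or.inr (Or.inr rfl))

theorem AA_comm [Finite T] (h3 : orderOf ρ = 3) (hfp : ∀ y : T, ρ y = y → y = 1) (y : T) :
    ∀ a ∈ AA ρ y, ∀ b ∈ AA ρ y, Commute a b := by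
  refine comm_closure ?_
  have hz : ∀ z ∈ Subgroup.center T, ∀ g : T, Commute z g := fun z hz g =>
    (Subgroup.mem_center_iff.mp hz g).symm
  intro a ha' b hb'
  rcases ha' with ha | ha | ha <;> rcases hb' with hb | hb | hb <;>
    (try simp only [Set.mem_singleton_iff] at ha hb) <;> (try rw [ha]) <;> (try rw [hb])
  all_goals first
    | exact hz a ha _
    | exact (hz b hb _).symm
    | exact Commute.refl _
    | exact comm_rho h3 hfp y
    | exact (comm_rho h3 hfp y).symm

theorem AA_inv [Finite T] (h3 : orderOf ρ = 3) (hfp : ∀ y : T, ρ y = y → y = 1) (y : T) :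
    ∀ a ∈ AA ρ y, ρ a ∈ AA ρ y := by
  refine closure_inv ?_
  intro a ha'
  rcases ha' with ha | ha | ha
  · exact Subgroup.subset_closure (Or.inl (center_inv a ha))
  · rw [ha]; exact rho_mem_AA ρ y
  · rw [Set.mem_singleton_iff.mp ha]
    have e : ρ (ρ y) = (y * ρ y)⁻¹ := eq_inv_of_mul_eq_one_right (prod_three h3 hfp y)
    rw [e]
    exact Subgroup.inv_mem _ (Subgroup.mul_mem _ (self_mem_AA ρ y) (rho_mem_AA ρ y))

end

section
variable {T : Type*} [Group T] [Finite T] (hT : Nat.card T = 64) (hna : ¬ IsMulCommutative T)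
  {ρ : MulAut T} (h3 : orderOf ρ = 3) (hfp : ∀ y : T, ρ y = y → y = 1)

include hT hna h3 hfp

theorem card_lt_of_comm {N : Subgroup T} (hN : ∀ n ∈ N, ρ n ∈ N)
    (hc : ∀ a ∈ N, ∀ b ∈ N, Commute a b) : Nat.card N ≤ 16 := by
  rcases card_cases hT h3 hfp hN with e | e | e | e
  all_goals first
    | omega
    | (exfalso
       have htop := Subgroup.eq_top_of_card_eq N (by rw [e, hT])
       exact hna ⟨⟨fun a b => hc a (htop ▸ Subgroup.mem_top a) b (htop ▸ Subgroup.mem_top b)⟩⟩)

theorem card_center : Nat.card (Subgroup.center T) = 4 := by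
  haveI : Fact (Nat.Prime 2) := ⟨Nat.prime_two⟩
  have hP : IsPGroup 2 T := IsPGroup.of_card (n := 6) (by rw [hT]; norm_num)
  haveI : Nontrivial T := Finite.one_lt_card_iff_nontrivial.mp (by omega)
  have hne := hP.center_nontrivial
  have h1 : 1 < Nat.card (Subgroup.center T) := Finite.one_lt_card_iff_nontrivial.mpr hne
  have h16 := card_lt_of_comm hT hna h3 hfp (N := Subgroup.center T) center_inv
    (fun a ha b _ => ((Subgroup.mem_center_iff.mp ha b)).symm)
  rcases card_cases hT h3 hfp (N := Subgroup.center T) center_inv with e | e | e | e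
  all_goals first
    | exact e
    | omega
    | (exfalso
       obtain ⟨y, hy⟩ : ∃ y, y ∉ Subgroup.center T := by
         by_contra hall
         push Not at hall
         exact hna ⟨⟨fun a b => (Subgroup.mem_center_iff.mp (hall a) b).symm⟩⟩
       have hlt : Subgroup.center T < AA ρ y := lt_of_le_of_ne (center_le_AA ρ y)
         fun he => hy (he ▸ self_mem_AA ρ y)
       have h2 := Subgroup.card_le_card_group (AA ρ y)
       have h4 := card_lt_of_comm hT hna h3 hfp (AA_inv h3 hfp y) (AA_comm h3 hfp y)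
       have := Subgroup.eq_of_le_of_card_ge hlt.le (by omega)
       exact hlt.ne this)

theorem card_AA {y : T} (hy : y ∉ Subgroup.center T) : Nat.card (AA ρ y) = 16 := by
  have h4 := card_lt_of_comm hT hna h3 hfp (AA_inv h3 hfp y) (AA_comm h3 hfp y)
  have hz := card_center hT hna h3 hfp
  have hne : Nat.card (AA ρ y) ≠ 4 := fun e => hy (by
    rw [Subgroup.eq_of_le_of_card_ge (center_le_AA ρ y) (by omega)]
    exact self_mem_AA ρ y)
  have hle := Subgroup.card_le_of_le (center_le_AA ρ y)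
  rcases card_cases hT h3 hfp (AA_inv h3 hfp y) with e | e | e | e <;> omega

theorem sq_mem (y : T) : y * y ∈ Subgroup.center T := by
  by_contra hy2
  have hy : y ∉ Subgroup.center T := fun h => hy2 (Subgroup.mul_mem _ h h)
  let K : Subgroup T :=
    { carrier := {a | ∃ z ∈ Subgroup.center T, ∃ w ∈ AA ρ y, a = z * (w * w)}
      one_mem' := ⟨1, Subgroup.one_mem _, 1, Subgroup.one_mem _, by simp⟩
      mul_mem' := by
        rintro _ _ ⟨z, hz, w, hw, rfl⟩ ⟨z', hz', w', hw', rfl⟩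
        refine ⟨z * z', Subgroup.mul_mem _ hz hz', w * w', Subgroup.mul_mem _ hw hw', ?_⟩
        calc z * (w * w) * (z' * (w' * w')) = z * ((w * w) * z') * (w' * w') := by group
          _ = z * (z' * (w * w)) * (w' * w') := by rw [Subgroup.mem_center_iff.mp hz' (w * w)]
          _ = z * z' * (w * (w * w') * w') := by group
          _ = z * z' * (w * (w' * w) * w') := by rw [(AA_comm h3 hfp y w hw w' hw').eq]
          _ = z * z' * (w * w' * (w * w')) := by group
      inv_mem' := by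
        rintro _ ⟨z, hz, w, hw, rfl⟩
        refine ⟨z⁻¹, Subgroup.inv_mem _ hz, w⁻¹, Subgroup.inv_mem _ hw, ?_⟩
        rw [mul_inv_rev, mul_inv_rev, Subgroup.mem_center_iff.mp (Subgroup.inv_mem _ hz)] }
  have hsub : AA ρ (y * y) ≤ K := by
    refine (Subgroup.closure_le _).mpr ?_
    rintro a (ha | rfl | rfl)
    · exact ⟨a, ha, 1, Subgroup.one_mem _, by simp⟩
    · exact ⟨1, Subgroup.one_mem _, y, self_mem_AA ρ y, by simp⟩
    · exact ⟨1, Subgroup.one_mem _, ρ y, rho_mem_AA ρ y, by simp⟩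
  have hsub' : AA ρ (y * y) ≤ AA ρ y := by
    refine (Subgroup.closure_le _).mpr ?_
    rintro a (ha | rfl | rfl)
    · exact center_le_AA ρ y ha
    · exact Subgroup.mul_mem _ (self_mem_AA ρ y) (self_mem_AA ρ y)
    · exact AA_inv h3 hfp y _ (Subgroup.mul_mem _ (self_mem_AA ρ y) (self_mem_AA ρ y))
  have heq : AA ρ (y * y) = AA ρ y := Subgroup.eq_of_le_of_card_ge hsub'
    (by rw [card_AA hT hna h3 hfp hy2, card_AA hT hna h3 hfp hy])
  have hiter : ∀ k : ℕ, ∀ a ∈ AA ρ y, ∃ z ∈ Subgroup.center T, ∃ w ∈ AA ρ y, a = z * w ^ 2 ^ k := by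
    intro k
    induction k with
    | zero => exact fun a ha => ⟨1, Subgroup.one_mem _, a, ha, by simp⟩
    | succ k ih =>
      intro a ha
      obtain ⟨z, hz, w, hw, rfl⟩ := ih a ha
      obtain ⟨z', hz', w', hw', rfl⟩ := hsub (heq ▸ hw)
      refine ⟨z * z' ^ 2 ^ k, Subgroup.mul_mem _ hz (Subgroup.pow_mem _ hz' _), w', hw', ?_⟩
      have hcm : Commute z' (w' * w') := (Subgroup.mem_center_iff.mp hz' _).symm
      rw [hcm.mul_pow, ← sq, ← pow_mul, pow_succ' 2 k]
      group
  obtain ⟨z, hz, w, -, e⟩ := hiter 6 y (self_mem_AA ρ y)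
  have hw64 : w ^ 2 ^ 6 = 1 := by
    rw [show 2 ^ 6 = Nat.card T by rw [hT]; norm_num]; exact pow_card_eq_one'
  rw [hw64, mul_one] at e
  exact hy (e ▸ hz)

theorem center_sq {z : T} (hz : z ∈ Subgroup.center T) : z * z = 1 := by
  classical
  haveI : Fact (Nat.Prime 2) := ⟨Nat.prime_two⟩
  obtain ⟨t, ht⟩ := exists_prime_orderOf_dvd_card' (G := Subgroup.center T) 2
    (by rw [card_center hT hna h3 hfp]; norm_num)
  have ht2 : (t : T) * t = 1 := by
    have h2 := pow_orderOf_eq_one t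
    rw [ht, sq] at h2
    exact congrArg Subtype.val h2
  have ht1 : (t : T) ≠ 1 := fun e => by
    have : t = 1 := Subtype.ext e
    rw [this, orderOf_one] at ht
    norm_num at ht
  obtain ⟨t0, ht0⟩ : ∃ t0 : T, t0 = (t : T) := ⟨_, rfl⟩
  rw [← ht0] at ht2 ht1
  have htc : t0 ∈ Subgroup.center T := ht0 ▸ t.2
  have n1 : ρ t0 ≠ 1 := fun e => ht1 (by simpa using congrArg ρ.symm e)
  have n2 : ρ (ρ t0) ≠ 1 := fun e => n1 (by simpa using congrArg ρ.symm e)
  have n3 : t0 ≠ ρ t0 := fun e => ht1 (hfp _ e.symm)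
  have n4 : ρ t0 ≠ ρ (ρ t0) := fun e => n3 (ρ.injective e)
  have n5 : t0 ≠ ρ (ρ t0) := fun e => n3 (by
    have := congrArg ρ e
    rw [rho_three h3] at this
    exact this.symm)
  have hsub : ({1, t0, ρ t0, ρ (ρ t0)} : Set T) ⊆ (Subgroup.center T : Set T) := by
    rintro a (rfl | rfl | rfl | rfl)
    · exact Subgroup.one_mem _
    · exact htc
    · exact center_inv _ htc
    · exact center_inv _ (center_inv _ htc)
  have hcard : ({1, t0, ρ t0, ρ (ρ t0)} : Set T).ncard = 4 := by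
    rw [Set.ncard_insert_of_notMem (by simp [ht1.symm, n1.symm, n2.symm]),
      Set.ncard_insert_of_notMem (by simp [n3, n5]), Set.ncard_pair n4]
  have heq : ({1, t0, ρ t0, ρ (ρ t0)} : Set T) = (Subgroup.center T : Set T) :=
    Set.eq_of_subset_of_ncard_le hsub (by
      rw [hcard]
      exact (card_center hT hna h3 hfp).le)
  have hmem : z ∈ ({1, t0, ρ t0, ρ (ρ t0)} : Set T) := heq ▸ hz
  have h1 : ρ t0 * ρ t0 = 1 := by rw [← map_mul, ht2, map_one]
  rcases hmem with rfl | rfl | rfl | rfl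
  · exact mul_one 1
  · exact ht2
  · exact h1
  · rw [← map_mul, h1, map_one]

theorem center_four {c : T} (hc : c ∈ Subgroup.center T) (hc1 : c ≠ 1) {z : T}
    (hz : z ∈ Subgroup.center T) : z = 1 ∨ z = c ∨ z = ρ c ∨ z = ρ (ρ c) := by
  classical
  have n1 : ρ c ≠ 1 := fun e => hc1 (by simpa using congrArg ρ.symm e)
  have n2 : ρ (ρ c) ≠ 1 := fun e => n1 (by simpa using congrArg ρ.symm e)
  have n3 : c ≠ ρ c := fun e => hc1 (hfp _ e.symm)
  have n4 : ρ c ≠ ρ (ρ c) := fun e => n3 (ρ.injective e)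
  have n5 : c ≠ ρ (ρ c) := fun e => n3 (by
    have := congrArg ρ e
    rw [rho_three h3] at this
    exact this.symm)
  have hsub : ({1, c, ρ c, ρ (ρ c)} : Set T) ⊆ (Subgroup.center T : Set T) := by
    rintro a (rfl | rfl | rfl | rfl)
    · exact Subgroup.one_mem _
    · exact hc
    · exact center_inv _ hc
    · exact center_inv _ (center_inv _ hc)
  have hcard : ({1, c, ρ c, ρ (ρ c)} : Set T).ncard = 4 := by
    rw [Set.ncard_insert_of_notMem (by simp [hc1.symm, n1.symm, n2.symm]),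
      Set.ncard_insert_of_notMem (by simp [n3, n5]), Set.ncard_pair n4]
  have heq : ({1, c, ρ c, ρ (ρ c)} : Set T) = (Subgroup.center T : Set T) :=
    Set.eq_of_subset_of_ncard_le hsub (by
      rw [hcard]
      exact (card_center hT hna h3 hfp).le)
  have : z ∈ ({1, c, ρ c, ρ (ρ c)} : Set T) := heq ▸ hz
  simpa using this

theorem comm_mem (a b : T) : a * b * a⁻¹ * b⁻¹ ∈ Subgroup.center T := by
  have h1 := sq_mem hT hna h3 hfp (a * b)
  have h2 := sq_mem hT hna h3 hfp a⁻¹
  have h4 := sq_mem hT hna h3 hfp b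
  have e : a * b * a⁻¹ * b⁻¹ = (a * b * (a * b)) * b⁻¹ * (a⁻¹ * a⁻¹) * b * (b * b)⁻¹ := by group
  rw [e, mul_assoc (a * b * (a * b)) b⁻¹, Subgroup.mem_center_iff.mp h2 b⁻¹, ← mul_assoc,
    mul_assoc (a * b * (a * b) * (a⁻¹ * a⁻¹)) b⁻¹ b, inv_mul_cancel, mul_one]
  exact Subgroup.mul_mem _ (Subgroup.mul_mem _ h1 h2) (Subgroup.inv_mem _ h4)

end

/-- the commutator, a bilinear map into the centre. -/
def cm {T : Type*} [Group T] (a b : T) : T := a * b * a⁻¹ * b⁻¹

section
variable {T : Type*} [Group T] [Finite T] (hT : Nat.card T = 64) (hna : ¬ IsMulCommutative T)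
  {ρ : MulAut T} (h3 : orderOf ρ = 3) (hfp : ∀ y : T, ρ y = y → y = 1)

include hT hna h3 hfp

theorem cm_mem (a b : T) : cm a b ∈ Subgroup.center T := comm_mem hT hna h3 hfp a b

theorem cm_sq (a b : T) : (cm a b)⁻¹ = cm a b :=
  inv_eq_of_mul_eq_one_right (center_sq hT hna h3 hfp (cm_mem hT hna h3 hfp a b))

theorem cm_mul_left (a b c : T) : cm (a * b) c = cm a c * cm b c := by
  have h := comm_mem hT hna h3 hfp b c
  unfold cm
  calc a * b * c * (a * b)⁻¹ * c⁻¹
      = a * (b * c * b⁻¹ * c⁻¹) * (c * a⁻¹ * c⁻¹) := by group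
    _ = (b * c * b⁻¹ * c⁻¹) * (a * c * a⁻¹ * c⁻¹) := by
      rw [Subgroup.mem_center_iff.mp h a]; group
    _ = _ := (Subgroup.mem_center_iff.mp h _).symm

theorem cm_symm (a b : T) : cm b a = cm a b := by
  have h := center_sq hT hna h3 hfp (comm_mem hT hna h3 hfp a b)
  have e : cm b a = (cm a b)⁻¹ := by unfold cm; group
  rw [e]
  exact inv_eq_of_mul_eq_one_right h

theorem cm_mul_right (a b c : T) : cm a (b * c) = cm a b * cm a c := by
  rw [← cm_symm hT hna h3 hfp, cm_mul_left hT hna h3 hfp, cm_symm hT hna h3 hfp a b,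
    cm_symm hT hna h3 hfp a c]

theorem cm_center_left {z : T} (hz : z ∈ Subgroup.center T) (a : T) : cm z a = 1 := by
  unfold cm
  rw [← Subgroup.mem_center_iff.mp hz a, mul_inv_cancel_right, mul_inv_cancel]

theorem sq_mul (a b : T) : a * b * (a * b) = (a * a) * (b * b) * cm a b := by
  have h := comm_mem hT hna h3 hfp b a
  rw [← cm_symm hT hna h3 hfp a b]
  unfold cm
  calc a * b * (a * b) = a * (b * a * b⁻¹ * a⁻¹) * (a * b * b) := by group
    _ = (b * a * b⁻¹ * a⁻¹) * a * (a * b * b) := by rw [Subgroup.mem_center_iff.mp h a]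
    _ = (b * a * b⁻¹ * a⁻¹) * (a * a * (b * b)) := by group
    _ = _ := (Subgroup.mem_center_iff.mp h _).symm

theorem rho_sq_eq (y : T) : ρ (ρ y) = y⁻¹ * (ρ y)⁻¹ := by
  rw [eq_inv_of_mul_eq_one_right (prod_three h3 hfp y), mul_inv_rev]
  exact ((comm_rho h3 hfp y).inv_inv.eq).symm

theorem cm_inv_right (a b : T) : cm a b⁻¹ = cm a b := by
  have h1 : cm a b * cm a b⁻¹ = 1 := by
    rw [← cm_mul_right hT hna h3 hfp, mul_inv_cancel]; unfold cm; group
  rw [eq_inv_of_mul_eq_one_right h1]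
  exact inv_eq_of_mul_eq_one_right (center_sq hT hna h3 hfp (comm_mem hT hna h3 hfp a b))

theorem cm_rho (a b : T) : cm (ρ a) (ρ b) = ρ (cm a b) := by
  unfold cm; simp [map_mul, map_inv]

theorem cm_rho_right (a b : T) :
    cm a (ρ b) = ρ (ρ (cm a b)) ∧ cm (ρ a) b = ρ (ρ (cm a b)) ∧ cm a (ρ (ρ b)) = ρ (cm a b) := by
  have hc := cm_mem hT hna h3 hfp a b
  have hself : ∀ y, cm y (ρ y) = 1 := fun y => by
    unfold cm; rw [(comm_rho h3 hfp y).eq]; group
  have h1 : cm (ρ a) b = cm a (ρ b) := by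
    have h := hself (a * b)
    rw [map_mul, cm_mul_left hT hna h3 hfp, cm_mul_right hT hna h3 hfp,
      cm_mul_right hT hna h3 hfp, hself, hself, one_mul, mul_one, cm_symm hT hna h3 hfp (ρ a) b] at h
    rw [eq_inv_of_mul_eq_one_right h]
    exact inv_eq_of_mul_eq_one_right
      (center_sq hT hna h3 hfp (comm_mem hT hna h3 hfp a (ρ b)))
  have hrr : ∀ x y : T, cm x (ρ (ρ y)) = cm x y * cm x (ρ y) := fun x y => by
    rw [rho_sq_eq hT hna h3 hfp y, cm_mul_right hT hna h3 hfp, cm_inv_right hT hna h3 hfp,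
      cm_inv_right hT hna h3 hfp]
  have h2 : cm a (ρ b) = ρ (ρ (cm a b)) := by
    apply (sub_bij hfp).injective
    show (cm a (ρ b))⁻¹ * ρ (cm a (ρ b)) = (ρ (ρ (cm a b)))⁻¹ * ρ (ρ (ρ (cm a b)))
    have e1 : ρ (cm a (ρ b)) = cm a (ρ b) * ρ (cm a b) := by
      rw [← cm_rho hT hna h3 hfp a (ρ b), hrr, h1, cm_rho hT hna h3 hfp]
    rw [e1, inv_mul_cancel_left, rho_three h3]
    have e2 := prod_three h3 hfp (cm a b)
    have e3 : ρ (cm a b) = (cm a b)⁻¹ * (ρ (ρ (cm a b)))⁻¹ := by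
      calc ρ (cm a b) = (cm a b)⁻¹ * (cm a b * ρ (cm a b) * ρ (ρ (cm a b))) *
            (ρ (ρ (cm a b)))⁻¹ := by group
        _ = _ := by rw [e2, mul_one]
    calc ρ (cm a b) = (cm a b)⁻¹ * (ρ (ρ (cm a b)))⁻¹ := e3
      _ = cm a b * (ρ (ρ (cm a b)))⁻¹ := by
        rw [cm_sq hT hna h3 hfp]
      _ = (ρ (ρ (cm a b)))⁻¹ * cm a b := (Subgroup.mem_center_iff.mp hc _).symm
  refine ⟨h2, h1.trans h2, ?_⟩
  rw [hrr, h2]
  have e2 := prod_three h3 hfp (cm a b)
  have hρc := center_inv (ρ := ρ) _ hc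
  have hρρc := center_inv (ρ := ρ) _ hρc
  calc cm a b * ρ (ρ (cm a b))
      = cm a b * ρ (ρ (cm a b)) * (ρ (cm a b) * ρ (cm a b)) := by
        rw [center_sq hT hna h3 hfp hρc, mul_one]
    _ = cm a b * (ρ (ρ (cm a b)) * ρ (cm a b)) * ρ (cm a b) := by group
    _ = cm a b * (ρ (cm a b) * ρ (ρ (cm a b))) * ρ (cm a b) := by
      rw [Subgroup.mem_center_iff.mp hρc (ρ (ρ (cm a b)))]
    _ = (cm a b * ρ (cm a b) * ρ (ρ (cm a b))) * ρ (cm a b) := by group
    _ = ρ (cm a b) := by rw [e2, one_mul]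

theorem cm_ne_one {a b : T} (ha : a ∉ Subgroup.center T) (hb : b ∉ AA ρ a) : cm a b ≠ 1 := by
  intro hc
  obtain ⟨h1, h2, -⟩ := cm_rho_right hT hna h3 hfp a b
  rw [hc, map_one, map_one] at h1 h2
  have hcomm : ∀ x y : T, cm x y = 1 → Commute x y := fun x y h => by
    unfold cm at h
    rw [mul_inv_eq_one, mul_inv_eq_iff_eq_mul] at h
    exact h
  have e3 : cm (ρ a) (ρ b) = 1 := by rw [cm_rho hT hna h3 hfp, hc, map_one]
  have hsub : AA ρ a ≤ Subgroup.closure ((Subgroup.center T : Set T) ∪ {a, ρ a, b, ρ b}) :=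
    Subgroup.closure_mono (Set.union_subset_union_right _ (by
      rintro x (rfl | rfl) <;> simp))
  have hinv : ∀ x ∈ Subgroup.closure ((Subgroup.center T : Set T) ∪ {a, ρ a, b, ρ b}),
      ρ x ∈ Subgroup.closure ((Subgroup.center T : Set T) ∪ {a, ρ a, b, ρ b}) := by
    refine closure_inv ?_
    rintro x (hx | rfl | rfl | rfl | rfl)
    · exact Subgroup.subset_closure (Or.inl (center_inv x hx))
    · exact Subgroup.subset_closure (Or.inr (by simp))
    · rw [rho_sq_eq hT hna h3 hfp a]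
      exact Subgroup.mul_mem _ (Subgroup.inv_mem _ (Subgroup.subset_closure (Or.inr (by simp))))
        (Subgroup.inv_mem _ (Subgroup.subset_closure (Or.inr (by simp))))
    · exact Subgroup.subset_closure (Or.inr (by simp))
    · rw [rho_sq_eq hT hna h3 hfp b]
      exact Subgroup.mul_mem _ (Subgroup.inv_mem _ (Subgroup.subset_closure (Or.inr (by simp))))
        (Subgroup.inv_mem _ (Subgroup.subset_closure (Or.inr (by simp))))
  have h16 := card_lt_of_comm hT hna h3 hfp hinv (comm_closure (by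
    have hz : ∀ z ∈ Subgroup.center T, ∀ g : T, Commute z g := fun z hz g =>
      (Subgroup.mem_center_iff.mp hz g).symm
    rintro x (hx | rfl | rfl | rfl | rfl) y (hy | rfl | rfl | rfl | rfl)
    all_goals first
      | exact hz x hx _
      | exact (hz y hy _).symm
      | exact Commute.refl _
      | exact comm_rho h3 hfp _
      | exact (comm_rho h3 hfp _).symm
      | exact hcomm _ _ hc
      | exact (hcomm _ _ hc).symm
      | exact hcomm _ _ h1
      | exact (hcomm _ _ h1).symm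
      | exact hcomm _ _ h2
      | exact (hcomm _ _ h2).symm
      | exact hcomm _ _ e3
      | exact (hcomm _ _ e3).symm))
  have heq := Subgroup.eq_of_le_of_card_ge hsub (by rw [card_AA hT hna h3 hfp ha]; exact h16)
  exact hb (heq ▸ Subgroup.subset_closure (Or.inr (by simp)))

end

/-- the additive map `F₄ → T` attached to `a`. -/
def kl {T : Type*} [Group T] (ρ : MulAut T) (a : T) : F4 → T
  | F4.o => 1
  | F4.l => a
  | F4.w => ρ a
  | F4.u => ρ (ρ a)

theorem f4_facts : (∀ x y : F4, (x + y) * (x + y) = x * x + y * y) ∧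
    (∀ x y : F4, x * x = y * y → x = y) ∧ ∀ x : F4, x = 0 ∨ x ≠ 0 := by
  refine ⟨by decide +kernel, by decide +kernel, fun x => em _⟩

/-- the group law of the unitriangular group. -/
def law (x y : F4 × F4 × F4) : F4 × F4 × F4 :=
  (x.1 + y.1, x.2.1 + y.2.1, x.2.2 + y.2.2 + x.2.1 * y.1)

/-- the unitriangular matrix with parameters `(t, s, r)`. -/
def uni (x : F4 × F4 × F4) : SL34 :=
  ⟨!![1, x.2.1, x.2.2; 0, 1, x.1; 0, 0, 1], by simp [Matrix.det_fin_three]⟩

theorem uni_mul (x y : F4 × F4 × F4) : uni x * uni y = uni (law x y) := by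
  apply Subtype.ext
  show (uni x).1 * (uni y).1 = (uni (law x y)).1
  ext i j
  fin_cases i <;> fin_cases j <;> simp [uni, law, Matrix.mul_apply, Fin.sum_univ_three] <;> ring

theorem uni_center {x : F4 × F4 × F4} (h : uni x ∈ Subgroup.center SL34) : x = (0, 0, 0) := by
  obtain ⟨r, -, hr⟩ := Matrix.SpecialLinearGroup.mem_center_iff.mp h
  have e : ∀ i j : Fin 3, i ≠ j → (uni x).1 i j = 0 := fun i j hij => by
    rw [← hr]; simp [hij]
  have e1 := e 0 1 (by decide)
  have e2 := e 0 2 (by decide)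
  have e3 := e 1 2 (by decide)
  simp [uni] at e1 e2 e3
  exact Prod.ext e3 (Prod.ext e1 e2)

section
variable {T : Type*} [Group T] [Finite T] (hT : Nat.card T = 64) (hna : ¬ IsMulCommutative T)
  {ρ : MulAut T} (h3 : orderOf ρ = 3) (hfp : ∀ y : T, ρ y = y → y = 1)

include hT hna h3 hfp

theorem kl_add {a : T} (ha : a * a = 1) (x y : F4) : kl ρ a (x + y) = kl ρ a x * kl ρ a y := by
  have hi : a⁻¹ = a := inv_eq_of_mul_eq_one_right ha
  have h1 : ρ a * ρ a = 1 := by rw [← map_mul, ha, map_one]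
  have h2 : ρ (ρ a) * ρ (ρ a) = 1 := by rw [← map_mul, h1, map_one]
  have hi1 : (ρ a)⁻¹ = ρ a := inv_eq_of_mul_eq_one_right h1
  have p01 : a * ρ a = ρ (ρ a) := by rw [rho_sq_eq hT hna h3 hfp, hi, hi1]
  have p10 : ρ a * a = ρ (ρ a) := by rw [← (comm_rho h3 hfp a).eq, p01]
  have p12 : ρ a * ρ (ρ a) = a := by rw [← map_mul, p01, rho_three h3]
  have p21 : ρ (ρ a) * ρ a = a := by rw [← map_mul, p10, rho_three h3]
  have p02 : a * ρ (ρ a) = ρ a := by rw [← p01, ← mul_assoc, ha, one_mul]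
  have p20 : ρ (ρ a) * a = ρ a := by rw [← p10, mul_assoc, ha, mul_one]
  cases x <;> cases y
  all_goals first
    | exact (one_mul _).symm
    | exact (mul_one _).symm
    | exact ha.symm
    | exact h1.symm
    | exact h2.symm
    | exact p01.symm
    | exact p10.symm
    | exact p12.symm
    | exact p21.symm
    | exact p02.symm
    | exact p20.symm

theorem cm_kl (a b : T) (t s : F4) :
    cm (kl ρ a t) (kl ρ b s) = kl ρ (cm a b) ((t * s) * (t * s)) := by
  obtain ⟨e01, e10, e02⟩ := cm_rho_right hT hna h3 hfp a b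
  have e11 := cm_rho hT hna h3 hfp (ρ := ρ) a b
  have h31 := fun y => rho_three h3 (T := T) y
  have one_l : ∀ y : T, cm 1 y = 1 := fun y => by unfold cm; group
  have one_r : ∀ y : T, cm y 1 = 1 := fun y => by unfold cm; group
  have e20 : cm (ρ (ρ a)) b = ρ (cm a b) := by
    calc cm (ρ (ρ a)) b = cm (ρ (ρ a)) (ρ (ρ (ρ b))) := by rw [rho_three h3]
      _ = ρ (ρ (cm a (ρ b))) := by rw [cm_rho hT hna h3 hfp, cm_rho hT hna h3 hfp]
      _ = ρ (cm a b) := by rw [e01, h31]
  cases t <;> cases s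
  all_goals first
    | exact one_l _
    | exact one_r _
    | exact rfl
    | exact e01
    | exact e10
    | exact e02
    | exact e20
    | exact e11
    | exact (cm_rho hT hna h3 hfp (ρ := ρ) a (ρ b)).trans (by rw [e01, h31]; rfl)
    | exact (cm_rho hT hna h3 hfp (ρ := ρ) (ρ a) b).trans (by rw [e10, h31]; rfl)
    | exact ((cm_rho hT hna h3 hfp (ρ := ρ) (ρ a) (ρ b))).trans (by rw [e11]; rfl)

/-- the group is the unitriangular group. -/
theorem exists_iso {a b : T} (ha : a ∉ Subgroup.center T) (hb : b ∉ AA ρ a) (haa : a * a = 1)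
    (hbb : b * b = 1) :
    ∃ S : Sylow 2 (Matrix.ProjectiveSpecialLinearGroup (Fin 3) F4), Nonempty (T ≃* ↥(S : Subgroup (Matrix.ProjectiveSpecialLinearGroup (Fin 3) F4))) := by
  classical
  obtain ⟨hsq, hsqinj, -⟩ := f4_facts
  obtain ⟨c, hc⟩ : ∃ c, c = cm a b := ⟨_, rfl⟩
  have hcZ : c ∈ Subgroup.center T := hc ▸ cm_mem hT hna h3 hfp a b
  have hc1 : c ≠ 1 := hc ▸ cm_ne_one hT hna h3 hfp ha hb
  have hklZ : ∀ x, kl ρ c x ∈ Subgroup.center T := fun x => by
    cases x
    · exact Subgroup.one_mem _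
    · exact hcZ
    · exact center_inv _ hcZ
    · exact center_inv _ (center_inv _ hcZ)
  have hklA : ∀ x, kl ρ a x ∈ AA ρ a := fun x => by
    cases x
    · exact Subgroup.one_mem _
    · exact self_mem_AA ρ a
    · exact rho_mem_AA ρ a
    · exact AA_inv h3 hfp a _ (rho_mem_AA ρ a)
  let Φ : F4 × F4 × F4 → T := fun x => kl ρ a x.1 * kl ρ b x.2.1 * kl ρ c (x.2.2 * x.2.2)
  have hlaw : ∀ x y, Φ x * Φ y = Φ (law x y) := by
    rintro ⟨t, s, r⟩ ⟨t', s', r'⟩
    have hswap : kl ρ b s * kl ρ a t' = kl ρ a t' * kl ρ b s * kl ρ c ((s * t') * (s * t')) := by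
      have e : cm (kl ρ b s) (kl ρ a t') = kl ρ c ((s * t') * (s * t')) := by
        rw [cm_symm hT hna h3 hfp, cm_kl hT hna h3 hfp, ← hc, mul_comm t' s]
      calc kl ρ b s * kl ρ a t' = cm (kl ρ b s) (kl ρ a t') * (kl ρ a t' * kl ρ b s) := by
            unfold cm; group
        _ = _ := by rw [e, ← Subgroup.mem_center_iff.mp (hklZ _) _]
    show kl ρ a t * kl ρ b s * kl ρ c (r * r) * (kl ρ a t' * kl ρ b s' * kl ρ c (r' * r')) = kl ρ a (t + t') * kl ρ b (s + s') * kl ρ c ((r + r' + s * t') * (r + r' + s * t'))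
    rw [kl_add hT hna h3 hfp haa, kl_add hT hna h3 hfp hbb, hsq, hsq,
      kl_add hT hna h3 hfp (center_sq hT hna h3 hfp hcZ),
      kl_add hT hna h3 hfp (center_sq hT hna h3 hfp hcZ)]
    calc kl ρ a t * kl ρ b s * kl ρ c (r * r) * (kl ρ a t' * kl ρ b s' * kl ρ c (r' * r'))
        = kl ρ a t * kl ρ b s * (kl ρ c (r * r) * (kl ρ a t' * kl ρ b s')) * kl ρ c (r' * r') := by group
      _ = kl ρ a t * kl ρ b s * ((kl ρ a t' * kl ρ b s') * kl ρ c (r * r)) * kl ρ c (r' * r') := by
          rw [← Subgroup.mem_center_iff.mp (hklZ (r * r)) (kl ρ a t' * kl ρ b s')]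
      _ = kl ρ a t * (kl ρ b s * kl ρ a t') * kl ρ b s' * (kl ρ c (r * r) * kl ρ c (r' * r')) := by group
      _ = kl ρ a t * kl ρ a t' * kl ρ b s * (kl ρ c (s * t' * (s * t')) * kl ρ b s') *
            (kl ρ c (r * r) * kl ρ c (r' * r')) := by rw [hswap]; group
      _ = kl ρ a t * kl ρ a t' * kl ρ b s * (kl ρ b s' * kl ρ c (s * t' * (s * t'))) *
            (kl ρ c (r * r) * kl ρ c (r' * r')) := by
          rw [← Subgroup.mem_center_iff.mp (hklZ _) (kl ρ b s')]
      _ = kl ρ a t * kl ρ a t' * (kl ρ b s * kl ρ b s') *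
            (kl ρ c (s * t' * (s * t')) * (kl ρ c (r * r) * kl ρ c (r' * r'))) := by group
      _ = _ := by rw [← Subgroup.mem_center_iff.mp (hklZ (s * t' * (s * t')))]
  have hb' : ∀ x : F4, kl ρ b x ∈ AA ρ a → x = 0 := by
    intro x hx
    have hinv := AA_inv h3 hfp a
    cases x
    · rfl
    · exact absurd hx hb
    · exact absurd (by rw [← rho_three h3 b]; exact hinv _ (hinv _ hx)) hb
    · exact absurd (by rw [← rho_three h3 b]; exact hinv _ hx) hb
  have ha' : ∀ x : F4, kl ρ a x ∈ Subgroup.center T → x = 0 := by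
    intro x hx
    cases x
    · rfl
    · exact absurd hx ha
    · exact absurd (by rw [← rho_three h3 a]; exact center_inv _ (center_inv _ hx)) ha
    · exact absurd (by rw [← rho_three h3 a]; exact center_inv _ hx) ha
  have hc' : ∀ x : F4, kl ρ c x = 1 → x = 0 := by
    intro x hx
    cases x
    · rfl
    · exact absurd hx hc1
    · exact absurd (by rw [← rho_three h3 c, show ρ c = 1 from hx, map_one, map_one]) hc1
    · exact absurd (by rw [← rho_three h3 c, show ρ (ρ c) = 1 from hx, map_one]) hc1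
  have hker : ∀ x, Φ x = 1 → x = (0, 0, 0) := by
    rintro ⟨t, s, r⟩ h
    have h' : kl ρ a t * kl ρ b s * kl ρ c (r * r) = 1 := h
    have hs : s = 0 := hb' s (by
      have e : kl ρ b s = (kl ρ a t)⁻¹ * (kl ρ c (r * r))⁻¹ := by
        rw [eq_mul_inv_iff_mul_eq]
        exact eq_inv_of_mul_eq_one_right (by rw [← mul_assoc]; exact h')
      rw [e]
      exact Subgroup.mul_mem _ (Subgroup.inv_mem _ (hklA t))
        (Subgroup.inv_mem _ (center_le_AA ρ a (hklZ _))))
    subst hs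
    have h'' : kl ρ a t * kl ρ c (r * r) = 1 := by
      have e : kl ρ b (0 : F4) = 1 := rfl
      rwa [e, mul_one] at h'
    have ht : t = 0 := ha' t (by
      rw [eq_inv_of_mul_eq_one_left h'']
      exact Subgroup.inv_mem _ (hklZ _))
    subst ht
    have e : kl ρ a (0 : F4) = 1 := rfl
    rw [e, one_mul] at h''
    have hr := hc' _ h''
    exact Prod.ext rfl (Prod.ext rfl (hsqinj r 0 (by rw [hr, mul_zero])))
  have hinj : Function.Injective Φ := by
    rintro ⟨t, s, r⟩ y hxy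
    have hinvlaw : law (t, s, r + s * t) (t, s, r) = (0, 0, 0) :=
      (by decide +kernel : ∀ x : F4 × F4 × F4,
        law (x.1, x.2.1, x.2.2 + x.2.1 * x.1) x = (0, 0, 0)) (t, s, r)
    have h1 : Φ (law (t, s, r + s * t) y) = 1 := by
      rw [← hlaw, ← hxy, hlaw, hinvlaw]
      simp [Φ, show kl ρ a (0 : F4) = 1 from rfl, show kl ρ b (0 : F4) = 1 from rfl,
        show kl ρ c (0 : F4) = 1 from rfl]
    have h2 := hker _ h1
    have key : ∀ x y : F4 × F4 × F4, law (x.1, x.2.1, x.2.2 + x.2.1 * x.1) y = (0, 0, 0) → x = y := by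
      decide +kernel
    exact key (t, s, r) y h2
  haveI : Fintype T := Fintype.ofFinite T
  have hbij : Function.Bijective Φ := (Fintype.bijective_iff_injective_and_card Φ).mpr
    ⟨hinj, by rw [← Nat.card_eq_fintype_card (α := T), hT]; decide⟩
  let f : T →* Matrix.ProjectiveSpecialLinearGroup (Fin 3) F4 :=
    MonoidHom.mk' (fun y => QuotientGroup.mk' (Subgroup.center SL34) (uni ((Equiv.ofBijective Φ hbij).symm y))) fun y y' => by
      rw [← map_mul, uni_mul]
      congr 2
      apply hinj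
      rw [← hlaw, Equiv.ofBijective_apply_symm_apply Φ hbij, Equiv.ofBijective_apply_symm_apply Φ hbij, Equiv.ofBijective_apply_symm_apply Φ hbij]
  have hf : Function.Injective f := by
    refine (injective_iff_map_eq_one f).mpr fun y hy => ?_
    have h0 := uni_center ((QuotientGroup.eq_one_iff _).mp hy)
    rw [← Equiv.ofBijective_apply_symm_apply Φ hbij y, h0]
    simp [Φ, show kl ρ a (0 : F4) = 1 from rfl, show kl ρ b (0 : F4) = 1 from rfl,
      show kl ρ c (0 : F4) = 1 from rfl]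
  have hP2 : IsPGroup 2 T := IsPGroup.of_card (n := 6) (by rw [hT]; norm_num)
  have hR : IsPGroup 2 f.range := hP2.of_surjective f.rangeRestrict f.rangeRestrict_surjective
  obtain ⟨S, hS⟩ := hR.exists_le_sylow
  haveI : Fact (Nat.Prime 2) := ⟨Nat.prime_two⟩
  have h64 : Nat.card f.range = 64 := by
    rw [← Nat.card_congr (MonoidHom.ofInjective hf).toEquiv, hT]
  have hle : Nat.card (S : Subgroup (Matrix.ProjectiveSpecialLinearGroup (Fin 3) F4)) ≤ 64 := by
    obtain ⟨n, hn⟩ := IsPGroup.iff_card.mp S.2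
    have hd : 2 ^ n ∣ 60480 := by
      rw [← hn]
      refine (Subgroup.card_subgroup_dvd_card _).trans ?_
      have h1 : Nat.card (Matrix.ProjectiveSpecialLinearGroup (Fin 3) F4) ∣ Nat.card SL34 :=
        Subgroup.card_quotient_dvd_card _
      have h2 := Cfsg.Agent.Lib.Linear.sub_one_mul_card_SL (F := F4) 3 (by norm_num)
      rw [F4.card_eq] at h2
      have h3' : Nat.card SL34 = 60480 := by
        show Nat.card (Matrix.SpecialLinearGroup (Fin 3) F4) = 60480
        rw [Fin.prod_univ_three] at h2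
        norm_num at h2
        rw [Nat.card_eq_fintype_card]
        omega
      rwa [h3'] at h1
    rw [hn]
    have hn6 : n ≤ 6 := by
      by_contra hlt
      push Not at hlt
      have : 2 ^ 7 ∣ 60480 := (pow_dvd_pow 2 hlt).trans hd
      norm_num at this
    calc 2 ^ n ≤ 2 ^ 6 := Nat.pow_le_pow_right (by norm_num) hn6
      _ = 64 := by norm_num
  have heq : f.range = S := Subgroup.eq_of_le_of_card_ge hS (by omega)
  exact ⟨S, ⟨(MonoidHom.ofInjective hf).trans (MulEquiv.subgroupCongr heq)⟩⟩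

end

set_option maxHeartbeats 1000000 in
/-- Let T be a non-abelian group of order 64 admitting automorphisms ρ of order 3 and x of order 2 with x ρ x⁻¹ = ρ⁻¹ (so they generate a symmetric group of degree 3), where ρ fixes only the identity. Then T is isomorphic to a Sylow 2-subgroup of the projective special linear group of dimension 3 over the field with 4 elements, and the subgroup of fixed points of x is dihedral of order 8 or quaternion of order 8. -/
theorem result {T : Type*} [Group T] [Finite T] (hT : Nat.card T = 64) (hna : ¬ IsMulCommutative T) (ρ x : MulAut T) (hρ : orderOf ρ = 3) (hx : orderOf x = 2)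
    (hxr : x * ρ * x⁻¹ = ρ⁻¹) (hfp : ∀ y : T, ρ y = y → y = 1) (C : Subgroup T) (hC : ∀ y : T, y ∈ C ↔ x y = y) :
    (∃ (F : Type) (_ : Field F) (_ : Fintype F), Fintype.card F = 4 ∧
        ∃ S : Sylow 2 (Matrix.ProjectiveSpecialLinearGroup (Fin 3) F), Nonempty (T ≃* ↥(S : Subgroup (Matrix.ProjectiveSpecialLinearGroup (Fin 3) F)))) ∧
      (Nonempty (↥C ≃* DihedralGroup 4) ∨ Nonempty (↥C ≃* QuaternionGroup 2)) := by
  classical
  have h2x : ∀ y : T, x (x y) = y := fun y => by
    have h := pow_orderOf_eq_one x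
    rw [hx] at h
    calc x (x y) = (x ^ 2) y := rfl
      _ = y := by rw [h]; rfl
  have hxρ : ∀ y : T, x (ρ y) = ρ (ρ (x y)) := fun y => by
    have h1 : (x * ρ) y = (ρ⁻¹ * x) y := by
      rw [← hxr, inv_mul_cancel_right]
    have h2 : ρ⁻¹ (x y) = ρ (ρ (x y)) := ρ.injective (by
      rw [rho_three hρ]
      exact MulEquiv.apply_symm_apply ρ (x y))
    exact h1.trans h2
  have hsq := fun y => sq_mem hT hna hρ hfp (ρ := ρ) y
  have hcm := fun a b => cm_mem hT hna hρ hfp (ρ := ρ) a b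
  -- fixed points of `x` modulo the centre
  let Fx : Subgroup T :=
    { carrier := {y | y⁻¹ * x y ∈ Subgroup.center T}
      one_mem' := by simp
      mul_mem' := by
        intro u v hu hv
        show (u * v)⁻¹ * x (u * v) ∈ Subgroup.center T
        have e : (u * v)⁻¹ * x (u * v) = v⁻¹ * (u⁻¹ * x u) * x v := by rw [map_mul]; group
        rw [e, Subgroup.mem_center_iff.mp hu v⁻¹, mul_assoc]
        exact Subgroup.mul_mem _ hu hv
      inv_mem' := by
        intro u hu
        show u⁻¹⁻¹ * x u⁻¹ ∈ Subgroup.center T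
        have e : u⁻¹⁻¹ * x u⁻¹ = u * (u⁻¹ * x u)⁻¹ * u⁻¹ := by rw [map_inv]; group
        rw [e, Subgroup.mem_center_iff.mp (Subgroup.inv_mem _ hu) u, mul_inv_cancel_right]
        exact Subgroup.inv_mem _ hu }
  have hN : ∀ {N : Subgroup T}, Subgroup.center T ≤ N → (∀ n ∈ N, ρ n ∈ N) →
      (∀ y, (y * x y)⁻¹ * x (y * x y) ∈ Subgroup.center T → y * x y ∈ N) → ∀ y : T, y ∈ N := by
    intro N hZN hNinv hall y
    have hfx : ∀ u : T, u * x u ∈ N := fun u => hall u (by
      rw [map_mul, h2x]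
      exact (by
        have e : (u * x u)⁻¹ * (x u * u) = cm (x u)⁻¹ u⁻¹ := by unfold cm; group
        rw [e]; exact hcm _ _))
    have hNn : ∀ u : T, ∀ n ∈ N, u * n * u⁻¹ ∈ N := fun u n hn => by
      have e : u * n * u⁻¹ = cm u n * n := by unfold cm; group
      rw [e]; exact N.mul_mem (hZN (hcm u n)) hn
    have heqv : ∀ u : T, u⁻¹ * x u ∈ N := fun u => by
      have e : u⁻¹ * x u = (u * u)⁻¹ * (u * x u) := by group
      rw [e]; exact N.mul_mem (N.inv_mem (hZN (hsq u))) (hfx u)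
    have h1 := heqv (ρ y)
    rw [hxρ] at h1
    have h2 := hNinv _ (hNinv _ (heqv y))
    simp only [map_mul, map_inv] at h2
    have h4 : (ρ y)⁻¹ * ρ (ρ y) ∈ N := by
      have e : (ρ y)⁻¹ * ρ (ρ y) = (ρ y)⁻¹ * ρ (ρ (x y)) * ((ρ (ρ y))⁻¹ * ρ (ρ (x y)))⁻¹ := by group
      rw [e]; exact N.mul_mem h1 (N.inv_mem h2)
    have h5 := mem_of_fixed_mod hfp hNinv h4
    rw [← rho_three hρ y]
    exact hNinv _ (hNinv _ h5)
  obtain ⟨v, hvFx, hvZ⟩ : ∃ v, v ∈ Fx ∧ v ∉ Subgroup.center T := by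
    by_contra hno
    push Not at hno
    exact hna ⟨⟨fun a b => (Subgroup.mem_center_iff.mp
      (hN le_rfl center_inv (fun y hy => hno _ hy) a) b).symm⟩⟩
  obtain ⟨w, hwFx, hwA⟩ : ∃ w, w ∈ Fx ∧ w ∉ AA ρ v := by
    by_contra hno
    push Not at hno
    have htop : AA ρ v = ⊤ := (Subgroup.eq_top_iff' _).mpr
      (hN (center_le_AA ρ v) (AA_inv hρ hfp v) fun y hy => hno _ hy)
    have := card_AA hT hna hρ hfp (ρ := ρ) hvZ
    rw [htop, Subgroup.card_top, hT] at this
    omega
  have hwZ : w ∉ Subgroup.center T := fun h => hwA (center_le_AA ρ v h)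
  have hvwZ : v * w ∉ Subgroup.center T := fun h => hwA (by
    have := (AA ρ v).mul_mem ((AA ρ v).inv_mem (self_mem_AA ρ v)) (center_le_AA ρ v h)
    rwa [inv_mul_cancel_left] at this)
  obtain ⟨z0, hz0⟩ : ∃ z0, z0 = cm v w := ⟨_, rfl⟩
  have hz0Z : z0 ∈ Subgroup.center T := hz0 ▸ hcm v w
  have hz01 : z0 ≠ 1 := hz0 ▸ cm_ne_one hT hna hρ hfp hvZ hwA
  have hfxsq : ∀ u ∈ Fx, x (u * u) = u * u := fun u hu => by
    obtain ⟨e, he, hxe⟩ : ∃ e ∈ Subgroup.center T, x u = u * e := ⟨_, hu, (mul_inv_cancel_left _ _).symm⟩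
    rw [map_mul, hxe, sq_mul hT hna hρ hfp, center_sq hT hna hρ hfp he, mul_one,
      cm_symm hT hna hρ hfp, cm_center_left hT hna hρ hfp he, mul_one]
  have hxz0 : x z0 = z0 := by
    obtain ⟨e, he, hxe⟩ : ∃ e ∈ Subgroup.center T, x v = v * e := ⟨_, hvFx, (mul_inv_cancel_left _ _).symm⟩
    obtain ⟨e', he', hxe'⟩ : ∃ e ∈ Subgroup.center T, x w = w * e := ⟨_, hwFx, (mul_inv_cancel_left _ _).symm⟩
    have h1 : x z0 = cm (x v) (x w) := by rw [hz0]; unfold cm; simp
    rw [h1, hxe, hxe', cm_mul_left hT hna hρ hfp, cm_center_left hT hna hρ hfp he, mul_one,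
      cm_mul_right hT hna hρ hfp, cm_symm hT hna hρ hfp e' v, cm_center_left hT hna hρ hfp he',
      mul_one, hz0]
  have hρz : ρ z0 ≠ z0 := fun e => hz01 (hfp _ e)
  have hρρz : ρ (ρ z0) ≠ ρ z0 := fun e => hρz (ρ.injective e)
  have hfixZ : ∀ z ∈ Subgroup.center T, x z = z → z = 1 ∨ z = z0 := by
    intro z hz hxz
    rcases center_four hT hna hρ hfp hz0Z hz01 hz with e | e | e | e
    · exact Or.inl e
    · exact Or.inr e
    · rw [e, hxρ, hxz0] at hxz; exact absurd hxz hρρz
    · rw [e, hxρ, hxρ, hxz0, rho_three hρ] at hxz; exact absurd hxz.symm hρρz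
  have hq : ∀ u ∈ Fx, u * u = 1 ∨ u * u = z0 := fun u hu =>
    hfixZ _ (hsq u) (hfxsq u hu)
  refine ⟨⟨F4, inferInstance, inferInstance, F4.card_eq, ?_⟩, ?_⟩
  · -- an isotropic element
    obtain ⟨a, haZ, haa⟩ : ∃ a, a ∉ Subgroup.center T ∧ a * a = 1 := by
      rcases hq v hvFx with e | e
      · exact ⟨v, hvZ, e⟩
      rcases hq w hwFx with e' | e'
      · exact ⟨w, hwZ, e'⟩
      refine ⟨v * ρ w, ?_, ?_⟩
      · intro h
        apply hwA
        rw [← rho_three hρ w]
        refine AA_inv hρ hfp v _ (AA_inv hρ hfp v _ ?_)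
        have := (AA ρ v).mul_mem ((AA ρ v).inv_mem (self_mem_AA ρ v)) (center_le_AA ρ v h)
        rwa [inv_mul_cancel_left] at this
      · rw [sq_mul hT hna hρ hfp, e, ← map_mul, e', (cm_rho_right hT hna hρ hfp v w).1, ← hz0]
        exact prod_three hρ hfp z0
    obtain ⟨y0, hy0⟩ : ∃ y0, y0 ∉ AA ρ a := by
      by_contra hno
      push Not at hno
      have := card_AA hT hna hρ hfp (ρ := ρ) haZ
      rw [(Subgroup.eq_top_iff' _).mpr hno, Subgroup.card_top, hT] at this
      omega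
    obtain ⟨c, hc⟩ : ∃ c, c = cm a y0 := ⟨_, rfl⟩
    have hc1 : c ≠ 1 := hc ▸ cm_ne_one hT hna hρ hfp haZ hy0
    have hcZ : c ∈ Subgroup.center T := hc ▸ hcm a y0
    obtain ⟨a', ha'A, ha'2, ha'c⟩ : ∃ a' ∈ AA ρ a, a' * a' = 1 ∧ cm a' y0 = y0 * y0 := by
      rcases center_four hT hna hρ hfp hcZ hc1 (hsq y0) with e | e | e | e
      · exact ⟨1, Subgroup.one_mem _, mul_one _, by rw [e]; unfold cm; group⟩
      · exact ⟨a, self_mem_AA ρ a, haa, by rw [e, hc]⟩
      · refine ⟨ρ (ρ a), AA_inv hρ hfp a _ (rho_mem_AA ρ a), by rw [← map_mul, ← map_mul, haa, map_one, map_one], ?_⟩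
        rw [e, hc]
        calc cm (ρ (ρ a)) y0 = cm (ρ (ρ a)) (ρ (ρ (ρ y0))) := by rw [rho_three hρ]
          _ = ρ (ρ (cm a (ρ y0))) := by rw [cm_rho hT hna hρ hfp, cm_rho hT hna hρ hfp]
          _ = ρ (cm a y0) := by rw [(cm_rho_right hT hna hρ hfp a y0).1, rho_three hρ]
      · exact ⟨ρ a, rho_mem_AA ρ a, by rw [← map_mul, haa, map_one],
          by rw [e, hc, (cm_rho_right hT hna hρ hfp a y0).2.1]⟩
    refine exists_iso hT hna hρ hfp haZ (b := a' * y0) (fun h => hy0 ?_) haa ?_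
    · have := (AA ρ a).mul_mem ((AA ρ a).inv_mem ha'A) h
      rwa [inv_mul_cancel_left] at this
    · rw [sq_mul hT hna hρ hfp, ha'2, one_mul, ha'c, center_sq hT hna hρ hfp (hsq y0)]
  · -- the fixed subgroup
    have hlift : ∀ u ∈ Fx, ∃ z ∈ Subgroup.center T, u * z ∈ C := by
      intro u hu
      obtain ⟨e, he, hxe⟩ : ∃ e ∈ Subgroup.center T, x u = u * e := ⟨_, hu, (mul_inv_cancel_left _ _).symm⟩
      have hxe2 : x e = e := by
        have h1 := h2x u
        rw [hxe, map_mul, hxe, mul_assoc] at h1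
        have h2 := mul_eq_left.mp h1
        rw [eq_inv_of_mul_eq_one_right h2]
        exact inv_eq_of_mul_eq_one_right (center_sq hT hna hρ hfp he)
      rcases hfixZ e he hxe2 with rfl | rfl
      · exact ⟨1, Subgroup.one_mem _, (hC _).mpr (by rw [map_mul, map_one, hxe, mul_one, mul_one])⟩
      · refine ⟨ρ e, center_inv _ he, (hC _).mpr ?_⟩
        rw [map_mul, hxe, hxρ, hxe2, mul_assoc]
        congr 1
        have h3 := prod_three hρ hfp e
        have h4 : ρ e * ρ e = 1 := center_sq hT hna hρ hfp (center_inv _ he) |>.trans rfl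
        calc e * ρ (ρ e) = e * ρ (ρ e) * (ρ e * ρ e) := by rw [h4, mul_one]
          _ = (e * ρ e * ρ (ρ e)) * ρ e := by
            rw [mul_assoc e (ρ (ρ e)), ← mul_assoc (ρ (ρ e)) (ρ e),
              Subgroup.mem_center_iff.mp (center_inv _ he) (ρ (ρ e))]
            group
          _ = ρ e := by rw [h3, one_mul]
    obtain ⟨zv, hzv, hvC⟩ := hlift v hvFx
    obtain ⟨zw, hzw, hwC⟩ := hlift w hwFx
    obtain ⟨v', hv'⟩ : ∃ v', v' = v * zv := ⟨_, rfl⟩
    obtain ⟨w', hw'⟩ : ∃ w', w' = w * zw := ⟨_, rfl⟩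
    rw [← hv'] at hvC
    rw [← hw'] at hwC
    have hcvw : cm v' w' = z0 := by
      rw [hv', hw', cm_mul_left hT hna hρ hfp, cm_center_left hT hna hρ hfp hzv, mul_one,
        cm_mul_right hT hna hρ hfp, cm_symm hT hna hρ hfp zw v,
        cm_center_left hT hna hρ hfp hzw, mul_one, hz0]
    have hCFx : ∀ u ∈ C, u ∈ Fx := fun u hu => by
      show u⁻¹ * x u ∈ Subgroup.center T
      rw [(hC u).mp hu, inv_mul_cancel]
      exact Subgroup.one_mem _
    have hCsq : ∀ u ∈ C, u * u = 1 ∨ u * u = z0 := fun u hu => hq u (hCFx u hu)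
    -- `Fx` has at most `16` elements
    have hF16 : Nat.card Fx ≤ 16 := by
      have hinf : Fx ⊓ Fx.map ρ.toMonoidHom ≤ Subgroup.center T := by
        rintro u ⟨hu, u', hu', rfl⟩
        have h1 : (ρ u')⁻¹ * x (ρ u') ∈ Subgroup.center T := hu
        rw [hxρ] at h1
        have h2 := center_inv (ρ := ρ) _ (center_inv (ρ := ρ) _ (show u'⁻¹ * x u' ∈ Subgroup.center T from hu'))
        simp only [map_mul, map_inv] at h2
        have e : (ρ u')⁻¹ * ρ (ρ u') = (ρ u')⁻¹ * ρ (ρ (x u')) * ((ρ (ρ u'))⁻¹ * ρ (ρ (x u')))⁻¹ := by group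
        exact mem_of_fixed_mod hfp center_inv
          (e ▸ Subgroup.mul_mem _ h1 (Subgroup.inv_mem _ h2))
      have hi := Subgroup.index_inf_le (H := Fx) (K := Fx.map ρ.toMonoidHom)
      have h1 := Subgroup.card_le_of_le hinf
      rw [card_center hT hna hρ hfp] at h1
      have h2 := (Fx ⊓ Fx.map ρ.toMonoidHom).card_mul_index
      have h4 := Fx.card_mul_index
      have h5 := (Fx.map ρ.toMonoidHom).card_mul_index
      have h6 : Nat.card (Fx.map ρ.toMonoidHom) = Nat.card Fx :=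
        (Nat.card_congr (Fx.equivMapOfInjective _ ρ.injective).toEquiv).symm
      rw [h6] at h5
      rw [hT] at h2 h4 h5
      have hpos : 0 < Nat.card Fx := Nat.card_pos
      have heqi : (Fx.map ρ.toMonoidHom).index = Fx.index :=
        Nat.eq_of_mul_eq_mul_left hpos (h5.trans h4.symm)
      rw [heqi] at hi
      have h16 : 16 ≤ Fx.index * Fx.index := by nlinarith
      have h44 : 4 ≤ Fx.index := by nlinarith
      nlinarith
    have hC8 : Nat.card C ≤ 8 := by
      have hdis : Disjoint (C : Set T) ((fun u => u * ρ z0) '' (C : Set T)) := by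
        rw [Set.disjoint_left]
        rintro u hu ⟨u', hu', rfl⟩
        have h1 : ρ z0 ∈ C := by
          have := C.mul_mem (C.inv_mem hu') hu
          rwa [inv_mul_cancel_left] at this
        have h2 := (hC _).mp h1
        rw [hxρ, hxz0] at h2
        exact hρρz h2
      have hsub : (C : Set T) ∪ (fun u => u * ρ z0) '' (C : Set T) ⊆ (Fx : Set T) := by
        rintro u (hu | ⟨u', hu', rfl⟩)
        · exact hCFx u hu
        · refine Fx.mul_mem (hCFx _ hu') ?_
          show (ρ z0)⁻¹ * x (ρ z0) ∈ Subgroup.center T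
          rw [hxρ, hxz0]
          exact Subgroup.mul_mem _ (Subgroup.inv_mem _ (center_inv _ hz0Z))
            (center_inv _ (center_inv _ hz0Z))
      have h := Set.ncard_le_ncard hsub
      rw [Set.ncard_union_eq hdis, Set.ncard_image_of_injective _ (mul_left_injective _)] at h
      have e1 : (C : Set T).ncard = Nat.card C := rfl
      have e2 : (Fx : Set T).ncard = Nat.card Fx := rfl
      omega
    have hne : v' * w' ≠ w' * v' := fun e => hz01 (by
      rw [← hcvw]; unfold cm; rw [e]; group)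
    have h1v : v' ≠ 1 := fun e => hne (by rw [e, one_mul, mul_one])
    have h1w : w' ≠ 1 := fun e => hne (by rw [e, one_mul, mul_one])
    have hcardC : Nat.card C = 8 := by
      have hsub : ({1, v', w', v' * w', w' * v'} : Set T) ⊆ (C : Set T) := by
        rintro u (rfl | rfl | rfl | rfl | rfl)
        · exact C.one_mem
        · exact hvC
        · exact hwC
        · exact C.mul_mem hvC hwC
        · exact C.mul_mem hwC hvC
      have hd : ({1, v', w', v' * w', w' * v'} : Set T).ncard = 5 := by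
        have n1 : v' ≠ w' := fun e => hne (by rw [e])
        have n2 : (1 : T) ≠ v' * w' := fun e => hne (by
          rw [eq_inv_of_mul_eq_one_right e.symm, mul_inv_cancel, inv_mul_cancel])
        have n3 : (1 : T) ≠ w' * v' := fun e => hne (by
          rw [eq_inv_of_mul_eq_one_right e.symm, mul_inv_cancel, inv_mul_cancel])
        rw [Set.ncard_insert_of_notMem (by simp [h1v.symm, h1w.symm, n2, n3]),
          Set.ncard_insert_of_notMem (by simp [n1, h1w, left_eq_mul, right_eq_mul]),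
          Set.ncard_insert_of_notMem (by simp [h1v, left_eq_mul, right_eq_mul]),
          Set.ncard_pair hne]
      have h5 := Set.ncard_le_ncard hsub
      rw [hd] at h5
      have h5' : 5 ≤ Nat.card C := h5
      obtain ⟨i, hi, he⟩ := (Nat.dvd_prime_pow Nat.prime_two).mp
        (show Nat.card C ∣ 2 ^ 6 by
          have := Subgroup.card_subgroup_dvd_card C
          rwa [hT] at this)
      rw [he] at h5' hC8 ⊢
      exact (by decide : ∀ j ≤ 6, 5 ≤ 2 ^ j → 2 ^ j ≤ 8 → 2 ^ j = 8) i hi h5' hC8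
    -- an element of order four and a second generator
    obtain ⟨a, ha, b, hb, hab, haq⟩ : ∃ a ∈ C, ∃ b ∈ C, cm a b = z0 ∧ a * a = z0 := by
      rcases hCsq v' hvC with e | e
      swap
      · exact ⟨v', hvC, w', hwC, hcvw, e⟩
      rcases hCsq w' hwC with e' | e'
      swap
      · exact ⟨w', hwC, v', hvC, by rw [cm_symm hT hna hρ hfp, hcvw], e'⟩
      refine ⟨v' * w', C.mul_mem hvC hwC, v', hvC, ?_, ?_⟩
      · rw [cm_mul_left hT hna hρ hfp, cm_symm hT hna hρ hfp v' w', hcvw,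
          show cm v' v' = 1 by unfold cm; group, one_mul]
      · rw [sq_mul hT hna hρ hfp, e, e', hcvw, one_mul, one_mul]
    have haz : a * a * (a * a) = 1 := by rw [haq]; exact center_sq hT hna hρ hfp hz0Z
    have ho : orderOf (⟨a, ha⟩ : C) = 2 * 2 := by
      rw [show 2 * 2 = 2 ^ (1 + 1) from rfl]
      haveI : Fact (Nat.Prime 2) := ⟨Nat.prime_two⟩
      refine orderOf_eq_prime_pow (fun h => hz01 ?_) (Subtype.ext ?_)
      · rw [← haq, ← sq]
        rw [pow_one] at h
        exact congrArg Subtype.val h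
      · show a ^ 2 ^ (1 + 1) = 1
        rw [show 2 ^ (1 + 1) = 2 + 2 from rfl, pow_add, sq]
        exact haz
    have hinv : (⟨b, hb⟩ : C) * ⟨a, ha⟩ * (⟨b, hb⟩ : C)⁻¹ = (⟨a, ha⟩ : C)⁻¹ := by
      apply Subtype.ext
      show b * a * b⁻¹ = a⁻¹
      have h1 : b * a * b⁻¹ = cm b a * a := by unfold cm; group
      rw [h1, cm_symm hT hna hρ hfp, hab, ← haq]
      exact eq_inv_of_mul_eq_one_left (by rw [mul_assoc]; exact haz)
    have hnz : (⟨b, hb⟩ : C) ∉ Subgroup.zpowers (⟨a, ha⟩ : C) := by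
      rintro ⟨k, hk⟩
      apply hz01
      rw [← hab]
      have h1 : Commute (⟨a, ha⟩ : C) ⟨b, hb⟩ := hk ▸ (Commute.refl _).zpow_right k
      have h2 : a * b = b * a := congrArg Subtype.val h1.eq
      unfold cm; rw [h2]; group
    rcases hCsq b hb with e | e
    · left
      exact Cfsg.Agent.Lib.PGroups.nonempty_dihedral_equiv (m := 4) ho
        (Subtype.ext (by simpa [sq] using e)) hinv hnz (by rw [hcardC])
    · right
      exact Cfsg.Agent.Lib.PGroups.nonempty_quaternion_equiv (m := 2) ho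
        (Subtype.ext (by simp [sq, haq, e])) hinv hnz (by rw [hcardC])

end Cfsg.Agent.S3157
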