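import Cfsg.Statements.S3158
import Mathlib

set_option autoImplicit false
open Cfsg

namespace Cfsg.Agent.S3158

/-- Let U be a group of order q² with q = 2^n ≥ 2, and y an automorphism of U of order q − 1 all of whose nontrivial powers fix only the identity. Let V be a proper normal y-invariant subgroup of U such that V and U/V are elementary abelian 2-groups and there is an isomorphism from V to U/V commuting with the actions of y. Then U is abelian. -/
theorem result {U : Type*} [Group U] [Finite U] (n : ℕ) (hn : 1 ≤ n) (hU : Nat.card U = (2 ^ n) ^ 2)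
    (y : MulAut U) (hy : orderOf y = 2 ^ n - 1) (hfp : ∀ k : ℕ, y ^ k ≠ 1 → ∀ u : U, (y ^ k) u = u → u = 1)
    (V : Subgroup U) [V.Normal] (hV : V ≠ ⊤) (hyV : ∀ v ∈ V, y v ∈ V)
    (hVe : ∀ v ∈ V, v ^ 2 = 1) (hQe : ∀ u : U, u ^ 2 ∈ V) (hQc : ∀ u w : U, u * w * u⁻¹ * w⁻¹ ∈ V)
    (φ : ↥V ≃* U ⧸ V) (hφ : ∀ (v : ↥V) (u : U), (QuotientGroup.mk u : U ⧸ V) = φ v → φ ⟨y v, hyV v v.2⟩ = QuotientGroup.mk (y u)) :
    IsMulCommutative U := by
  haveI : Fact (Nat.Prime 2) := ⟨Nat.prime_two⟩
  set N := 2 ^ n - 1 with hN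
  have hq : 2 ≤ 2 ^ n := le_trans (le_of_eq (pow_one 2).symm) (Nat.pow_le_pow_right (by norm_num) hn)
  -- cardinalities
  have hcV : Nat.card ↥V = 2 ^ n := by
    have h1 := Subgroup.card_eq_card_quotient_mul_card_subgroup V
    rw [← Nat.card_congr φ.toEquiv, hU, ← sq] at h1
    exact (Nat.pow_left_injective two_ne_zero h1).symm
  have hpow : ∀ (k : ℕ), ∀ v ∈ V, (y ^ k) v ∈ V := by
    intro k
    induction k with
    | zero => intro v hv; simpa using hv
    | succ k ih => intro v hv; rw [pow_succ', MulAut.mul_apply]; exact hyV _ (ih v hv)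
  have hadd : ∀ (a b : ℕ) (u : U), (y ^ (a + b)) u = (y ^ a) ((y ^ b) u) := by
    intro a b u; rw [pow_add, MulAut.mul_apply]
  have hcyc : ∀ (k : ℕ) (u : U), (y ^ (N * k)) u = u := by
    intro k u; rw [pow_mul, ← hy, pow_orderOf_eq_one, one_pow]; simp
  -- a nontrivial central element of V
  have hU2 : IsPGroup 2 U := IsPGroup.of_card (by rw [hU, ← pow_mul])
  haveI : Nontrivial ↥V := (Finite.one_lt_card_iff_nontrivial).1 (by omega)
  obtain ⟨v₀, hv₀V, hv₀Z, hv₀1⟩ : ∃ v : U, v ∈ V ∧ v ∈ Subgroup.center U ∧ v ≠ 1 := by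
    have : IsPGroup 2 (ConjAct U) := hU2
    have h2 : 2 ∣ Nat.card ↥V := by rw [hcV]; exact dvd_pow_self 2 (by omega)
    obtain ⟨v, hv, hne⟩ := this.exists_fixed_point_of_prime_dvd_card_of_fixed_point (↥V) h2
      (a := (1 : ↥V)) (fun g => smul_one g)
    refine ⟨v, v.2, ?_, fun h => hne (Subtype.ext h.symm)⟩
    rw [Subgroup.mem_center_iff]
    intro g
    have h3 := congrArg Subtype.val (hv (ConjAct.toConjAct g))
    rw [ConjAct.Subgroup.val_conj_smul] at h3
    simp [ConjAct.smul_def] at h3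
    calc g * (v : U) = g * v * g⁻¹ * g := by group
      _ = v * g := by rw [h3]
  -- y is transitive on V minus the identity
  have horb : ∀ v ∈ V, v ≠ 1 → ∃ k : ℕ, (y ^ k) v₀ = v := by
    let F : Fin N → {v : ↥V // v ≠ 1} := fun k =>
      ⟨⟨(y ^ (k : ℕ)) v₀, hpow _ _ hv₀V⟩, fun h => hv₀1 (by
        have := congrArg Subtype.val h
        simpa using this)⟩
    have hF : Function.Injective F := by
      intro a b h
      have h' : (y ^ (a : ℕ)) v₀ = (y ^ (b : ℕ)) v₀ := congrArg (fun z => ((z.1 : ↥V) : U)) h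
      apply Fin.ext
      by_contra hne
      wlog hab : (a : ℕ) < b generalizing a b
      · exact this h.symm h'.symm (Ne.symm hne) (by omega)
      have hba : (b : ℕ) = a + (b - a) := by omega
      rw [hba, hadd] at h'
      have h'' : (y ^ ((b : ℕ) - a)) v₀ = v₀ := (MulEquiv.injective _ h').symm
      refine hv₀1 (hfp _ ?_ v₀ h'')
      intro h1
      have := Nat.le_of_dvd (by omega) (orderOf_dvd_of_pow_eq_one h1)
      have := b.2
      omega
    have hcard : Nat.card {v : ↥V // v ≠ 1} = N := by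
      classical
      haveI := Fintype.ofFinite ↥V
      rw [Nat.card_eq_fintype_card, Fintype.card_subtype_compl, Fintype.card_subtype_eq,
        ← Nat.card_eq_fintype_card, hcV]
    have hbij := (Nat.bijective_iff_injective_and_card F).2 ⟨hF, by rw [hcard]; simp⟩
    intro v hv hv1
    obtain ⟨k, hk⟩ := hbij.2 ⟨⟨v, hv⟩, fun h => hv1 (congrArg Subtype.val h)⟩
    exact ⟨k, congrArg (fun z => ((z.1 : ↥V) : U)) hk⟩
  have hcen : ∀ v ∈ V, ∀ u : U, u * v = v * u := by
    intro v hv u
    rcases eq_or_ne v 1 with rfl | h1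
    · simp
    · obtain ⟨k, rfl⟩ := horb v hv h1
      have := Subgroup.mem_center_iff.1 hv₀Z ((y ^ k).symm u)
      have := congrArg (y ^ k) this
      simpa using this
  -- a representative of the image of v₀
  obtain ⟨u₀, hu₀⟩ := QuotientGroup.mk_surjective (φ ⟨v₀, hv₀V⟩)
  have hequiv : ∀ (k : ℕ) (v : ↥V) (u : U), (QuotientGroup.mk u : U ⧸ V) = φ v →
      φ ⟨(y ^ k) v, hpow k v v.2⟩ = QuotientGroup.mk ((y ^ k) u) := by
    intro k
    induction k with
    | zero => intro v u h; simpa using h.symm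
    | succ k ih =>
      intro v u h
      have h1 := hφ _ _ (ih v u h).symm
      simp only [pow_succ', MulAut.mul_apply]
      exact h1
  have hrel : ∀ (k : ℕ) (u w : U), (QuotientGroup.mk u : U ⧸ V) = QuotientGroup.mk w →
      (QuotientGroup.mk ((y ^ k) u) : U ⧸ V) = QuotientGroup.mk ((y ^ k) w) := by
    intro k u w h
    rw [QuotientGroup.eq] at h ⊢
    rw [← map_inv, ← map_mul]
    exact hpow k _ h
  -- commutator map
  let C : U → U → U := fun u w => u * w * u⁻¹ * w⁻¹
  have hCmem : ∀ u w : U, C u w ∈ V := hQc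
  have hCy : ∀ (k : ℕ) (u w : U), C ((y ^ k) u) ((y ^ k) w) = (y ^ k) (C u w) := by
    intro k u w; simp [C]
  have hCmul : ∀ u w w' : U, C u (w * w') = C u w * C u w' := by
    intro u w w'
    have h := hcen _ (hCmem u w') w
    calc C u (w * w') = u * w * u⁻¹ * (C u w') * w⁻¹ := by simp only [C]; group
      _ = C u w * (w * C u w' * w⁻¹) := by simp only [C]; group
      _ = _ := by rw [h]; group
  have hCV : ∀ u, ∀ v ∈ V, C u v = 1 := by
    intro u v hv
    show u * v * u⁻¹ * v⁻¹ = 1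
    rw [hcen v hv u]; group
  have hCwell : ∀ u w w' : U, (QuotientGroup.mk w : U ⧸ V) = QuotientGroup.mk w' → C u w = C u w' := by
    intro u w w' h
    have : w' = w * (w⁻¹ * w') := by group
    rw [this, hCmul, hCV u _ (QuotientGroup.eq.1 h), mul_one]
  have hinvV : ∀ v ∈ V, v⁻¹ = v := fun v hv => inv_eq_of_mul_eq_one_left (by rw [← sq]; exact hVe v hv)
  have hCsymm : ∀ u w : U, C u w = C w u := by
    intro u w
    rw [← hinvV _ (hCmem w u)]
    simp only [C]; group
  have hCuu : ∀ u : U, C u u = 1 := by intro u; simp [C]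
  have hsq : ∀ x : U ⧸ V, x * x = 1 := by
    intro x
    obtain ⟨u, rfl⟩ := QuotientGroup.mk_surjective x
    rw [← QuotientGroup.mk_mul, QuotientGroup.eq_one_iff, ← sq]
    exact hQe u
  have horbQ : ∀ w : U, w ∈ V ∨ ∃ k : ℕ, (QuotientGroup.mk w : U ⧸ V) = QuotientGroup.mk ((y ^ k) u₀) := by
    intro w
    obtain ⟨⟨v, hv⟩, hvw⟩ := φ.surjective (QuotientGroup.mk w)
    rcases eq_or_ne v 1 with rfl | h1
    · left
      rw [← QuotientGroup.eq_one_iff, ← hvw]
      exact map_one φ
    · right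
      obtain ⟨k, hk⟩ := horb v hv h1
      exact ⟨k, by rw [← hvw, ← hequiv k _ u₀ hu₀]; congr 1; exact Subtype.ext hk.symm⟩
  -- the key vanishing
  have key : ∀ i : ℕ, C u₀ ((y ^ (2 * i)) u₀) = 1 := by
    intro i
    set A := (y ^ i) u₀ with hA
    rcases horbQ (A * u₀) with hmem | ⟨j, hj⟩
    · have hAu : (QuotientGroup.mk A : U ⧸ V) = QuotientGroup.mk u₀ := by
        have := (QuotientGroup.eq_one_iff (N := V) _).2 hmem
        rw [QuotientGroup.mk_mul] at this
        exact mul_right_cancel (this.trans (hsq _).symm)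
      have h2 := hrel i _ _ hAu
      rw [hA, ← hadd, ← two_mul] at h2
      rw [hCwell _ _ _ (h2.trans hAu), hCuu]
    have hjall : ∀ w : U, (QuotientGroup.mk ((y ^ j) w) : U ⧸ V)
        = QuotientGroup.mk ((y ^ i) w) * QuotientGroup.mk w := by
      intro w
      rcases horbQ w with hw | ⟨k, hk⟩
      · rw [(QuotientGroup.eq_one_iff _).2 hw, (QuotientGroup.eq_one_iff _).2 (hpow j _ hw),
          (QuotientGroup.eq_one_iff _).2 (hpow i _ hw), one_mul]
      · rw [hrel j _ _ hk, hrel i _ _ hk, hk, ← hadd, ← hadd, add_comm j k, add_comm i k, hadd, hadd,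
          ← QuotientGroup.mk_mul, ← map_mul, hrel k _ _ hj]
    have hjV : ∀ v ∈ V, (y ^ j) v = (y ^ i) v * v := by
      intro v hv
      obtain ⟨w, hw⟩ := QuotientGroup.mk_surjective (φ ⟨v, hv⟩)
      have e : φ ⟨(y ^ j) v, hpow j v hv⟩ = φ (⟨(y ^ i) v, hpow i v hv⟩ * ⟨v, hv⟩) := by
        rw [map_mul, hequiv j _ w hw, hequiv i _ w hw, ← hw, hjall]
      exact congrArg Subtype.val (φ.injective e)
    set ai := (N - 1) * i with hai
    set aj := (N - 1) * j with haj
    have hN1 : 1 ≤ N := by omega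
    have hei : ai + i = N * i := by rw [hai]; nlinarith [Nat.sub_add_cancel hN1]
    have hej : aj + j = N * j := by rw [haj]; nlinarith [Nat.sub_add_cancel hN1]
    set w := (y ^ (ai + aj)) u₀ with hw
    set X := C u₀ A with hX
    clear_value X
    have hXV : X ∈ V := by rw [hX]; exact hCmem _ _
    have hwsplit : (QuotientGroup.mk w : U ⧸ V) = QuotientGroup.mk ((y ^ ai) u₀ * (y ^ aj) u₀) := by
      have h1 := hjall w
      rw [hw, ← hadd, ← hadd, show j + (ai + aj) = N * j + ai by omega,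
        show i + (ai + aj) = N * i + aj by omega, hadd, hcyc, hadd (N * i), hcyc] at h1
      rw [QuotientGroup.mk_mul, h1]
      have : ∀ a b : U ⧸ V, b = a * b * a := by
        intro a b
        have hinv : ∀ x : U ⧸ V, x⁻¹ = x := fun x => inv_eq_of_mul_eq_one_left (hsq x)
        have hc : a * b = b * a := by
          calc a * b = (a * b)⁻¹ := (hinv _).symm
            _ = b⁻¹ * a⁻¹ := mul_inv_rev _ _
            _ = b * a := by rw [hinv, hinv]
        rw [hc, mul_assoc, hsq, mul_one]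
      exact this _ _
    have h1 : C u₀ ((y ^ ai) u₀) = (y ^ ai) X := by
      rw [hX, hCsymm, ← hCy, hA, ← hadd, hei, hcyc, hCsymm]
    have hju : C u₀ ((y ^ j) u₀) = X := by
      rw [hCwell u₀ _ (A * u₀) (by rw [hjall u₀, QuotientGroup.mk_mul]), hCmul, hCuu, mul_one, hX]
    have h2 : C u₀ ((y ^ aj) u₀) = (y ^ aj) X := by
      rw [← hju, ← hCy, ← hadd, hej, hcyc, hCsymm]
    have h3 : C u₀ w = (y ^ (ai + aj)) (C u₀ ((y ^ (2 * i)) u₀) * X) := by
      have e1 : C u₀ ((y ^ (i + j)) u₀) = C u₀ ((y ^ (2 * i)) u₀) * X := by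
        rw [hX, ← hCmul]
        apply hCwell
        rw [hadd, hrel i _ (A * u₀) (by rw [hjall u₀, QuotientGroup.mk_mul]), map_mul, hA, two_mul, hadd]
      rw [← e1, hw, ← hCy, ← hadd, show ai + aj + (i + j) = N * (i + j) by rw [Nat.mul_add]; omega,
        hcyc, hCsymm]
    rw [hCwell u₀ _ _ hwsplit, hCmul, h1, h2] at h3
    have h4 : (y ^ ai) X * (y ^ aj) X = (y ^ (ai + aj)) X := by
      have e := congrArg (y ^ (ai + aj)) (hjV X hXV)
      rw [map_mul, ← hadd, ← hadd, show ai + aj + j = N * j + ai by omega,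
        show ai + aj + i = N * i + aj by omega, hadd, hcyc, hadd (N * i), hcyc] at e
      have hV1 := hpow aj X hXV
      have hV2 := hpow (ai + aj) X hXV
      rw [e, hcen _ hV1 _, ← mul_assoc]
      rw [← sq, hVe _ hV1, one_mul]
    rw [h4] at h3
    have h5 := (y ^ (ai + aj)).injective h3
    exact (mul_eq_right.1 h5.symm)
  -- conclude
  have hall : ∀ k : ℕ, C u₀ ((y ^ k) u₀) = 1 := by
    intro k
    -- k is congruent to an even number modulo N
    obtain ⟨i, hi⟩ : ∃ i, N * k + k = 2 * i := by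
      refine ⟨2 ^ (n - 1) * k, ?_⟩
      have e : 2 ^ n = 2 * 2 ^ (n - 1) := by rw [← pow_succ', Nat.sub_add_cancel hn]
      rw [← mul_assoc, ← e, show 2 ^ n = N + 1 by omega]
      ring
    have := key i
    rwa [← hi, hadd, hcyc] at this
  have hzero : ∀ k, ∀ w : U, C ((y ^ k) u₀) w = 1 := by
    intro k w
    rcases horbQ w with hw | ⟨l, hl⟩
    · exact hCV _ _ hw
    · rw [hCwell _ _ _ hl]
      have e : (y ^ l) u₀ = (y ^ k) ((y ^ (l + (N - 1) * k)) u₀) := by
        rw [← hadd, show k + (l + (N - 1) * k) = N * k + l by nlinarith [Nat.sub_add_cancel (show 1 ≤ N by omega)],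
          hadd, hcyc]
      rw [e, hCy, hall, map_one]
  refine ⟨⟨fun u w => ?_⟩⟩
  have h0 : C u w = 1 := by
    rcases horbQ u with hu | ⟨k, hk⟩
    · rw [hCsymm]; exact hCV _ _ hu
    · rw [hCsymm, hCwell w _ _ hk, hCsymm]; exact hzero k w
  calc u * w = C u w * (w * u) := by simp only [C]; group
    _ = w * u := by rw [h0, one_mul]

end Cfsg.Agent.S3158
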