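import Mathlib
import Cfsg.Statements.S3161
import Cfsg.Agent.Lib.Singer76.Coords
import Cfsg.Agent.Lib.Singer76.Models
import Cfsg.Agent.Lib.Suzuki2.FieldModel

set_option autoImplicit false
open Cfsg
set_option linter.style.haveILetI false

namespace Cfsg.Agent.S3161

open Cfsg.Agent.Lib.Singer76

/-- The setup from the hypotheses. -/
theorem exists_setup {Q : Type*} [Group Q] [Finite Q] (hQ : IsPGroup 2 Q) (n : ℕ) (hn : 2 ≤ n)
    (α ρ : MulAut Q) (hα : orderOf α = 2) (hρ : orderOf ρ = 2 ^ n - 1) (hc : Commute α ρ)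
    (C : Subgroup Q) (hC : ∀ x : Q, x ∈ C ↔ α x = x)
    (hCE : Cfsg.IsElementaryAbelian 2 C ∧ Nat.card ↥C = 2 ^ n)
    (htr : ∀ x y : Q, x ∈ C → y ∈ C → x ≠ 1 → y ≠ 1 → ∃ k : ℕ, (ρ ^ k) x = y) :
    Nonempty (Setup Q (GaloisField 2 n)) := by
  classical
  have hcomm : ∀ x, α (ρ x) = ρ (α x) := fun x => by
    rw [← MulAut.mul_apply, hc.eq, MulAut.mul_apply]
  have hρC : C.map ρ.toMonoidHom = C := by
    refine Subgroup.eq_of_le_of_card_ge ?_
      (by rw [Subgroup.card_map_of_injective (f := ρ.toMonoidHom) ρ.injective])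
    rintro _ ⟨y, hy, rfl⟩
    replace hy : α y = y := (hC y).1 hy
    rw [hC]
    show α (ρ y) = ρ y
    rw [hcomm, hy]
  have hsq : ∀ c ∈ C, c * c = 1 := fun c hcc => by
    have := hCE.1.2 c hcc
    rwa [sq] at this
  let ρ' : MulAut C := (ρ.subgroupMap C).trans (MulEquiv.subgroupCongr hρC)
  have hρ' : ∀ (k : ℕ) (c : C), (((ρ' ^ k) c : C) : Q) = (ρ ^ k) (c : Q) := by
    intro k c
    induction k with
    | zero => rfl
    | succ k ih => rw [pow_succ', MulAut.mul_apply, pow_succ', MulAut.mul_apply, ← ih]; rfl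
  obtain ⟨a₀, ha₀⟩ : ∃ a : C, a ≠ 1 := by
    haveI : Nontrivial C := Finite.one_lt_card_iff_nontrivial.1 (by
      rw [hCE.2]; exact Nat.one_lt_two_pow (by omega))
    exact exists_ne 1
  obtain ⟨κ, hκ, hadd, hone, hκ0, hact⟩ := Cfsg.Agent.Lib.Suzuki2.FieldModel.field_model (A := C)
    (n := n) (by omega) hCE.2 (fun a => Subtype.ext (hsq a a.2)) (Subgroup.zpowers ρ')
    (fun k hk l hl => by
      obtain ⟨i, rfl⟩ := Subgroup.mem_zpowers_iff.1 hk
      obtain ⟨j, rfl⟩ := Subgroup.mem_zpowers_iff.1 hl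
      exact ((Commute.refl ρ').zpow_zpow i j).eq)
    (fun a b ha hb => by
      obtain ⟨k, hk⟩ := htr a b a.2 b.2 (fun h => ha (Subtype.ext h)) (fun h => hb (Subtype.ext h))
      exact ⟨ρ' ^ k, ⟨(k : ℤ), zpow_natCast _ _⟩, Subtype.ext (by rw [hρ', hk])⟩)
    ha₀
  set lam := κ (ρ' a₀) with hlam
  have hstep : ∀ c : C, κ (ρ' c) = lam * κ c := fun c => hact ρ' (Subgroup.mem_zpowers _) c
  have hpow : ∀ k : ℕ, κ ((ρ' ^ k) a₀) = lam ^ k := by
    intro k
    induction k with
    | zero => simpa using hκ0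
    | succ k ih => rw [pow_succ', MulAut.mul_apply, hstep, ih, pow_succ']
  have hρ1 : ρ ^ (2 ^ n - 1) = 1 := hρ ▸ pow_orderOf_eq_one ρ
  have hα1 : α ^ 2 = 1 := hα ▸ pow_orderOf_eq_one α
  have h1 : 1 < 2 ^ n := Nat.one_lt_two_pow (by omega)
  refine ⟨{
    α := α
    ρ := ρ
    C := C
    ι := fun x => if hx : x ∈ C then κ ⟨x, hx⟩ else 0
    lam := lam
    q1 := 2 ^ n - 1
    isP := hQ
    α_sq := fun x => by
      have := DFunLike.congr_fun hα1 x
      rwa [sq, MulAut.mul_apply, MulAut.one_apply] at this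
    comm := hcomm
    ρ_pow := hρ1
    lam_pow := by
      rw [← hpow, show (ρ' ^ (2 ^ n - 1)) a₀ = a₀ from Subtype.ext (by rw [hρ', hρ1]; rfl), hκ0]
    q1_odd := Nat.Even.sub_odd h1.le (Nat.even_pow.2 ⟨even_two, by omega⟩) odd_one
    mem := hC
    sqC := hsq
    ι_mul := fun a ha b hb => by
      simp only [dif_pos ha, dif_pos hb, dif_pos (C.mul_mem ha hb)]
      exact hadd ⟨a, ha⟩ ⟨b, hb⟩
    ι_inj := fun a ha b hb h => by
      simp only [dif_pos ha, dif_pos hb] at h
      exact congrArg Subtype.val (hκ.1 h)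
    ι_surj := fun u => by
      obtain ⟨c, rfl⟩ := hκ.2 u
      exact ⟨c, c.2, dif_pos c.2⟩
    ι_ρ := fun c hc => by
      have hm : ρ c ∈ C := by
        rw [hC] at hc ⊢
        rw [hcomm, hc]
      simp only [dif_pos hc, dif_pos hm]
      exact hstep ⟨c, hc⟩
    gen := fun μ hμ => by
      obtain ⟨c, rfl⟩ := hκ.2 μ
      have hc1 : c ≠ 1 := fun h => hμ (by rw [h, hone])
      obtain ⟨k, hk⟩ := htr a₀ c a₀.2 c.2 (fun h => ha₀ (Subtype.ext h)) (fun h => hc1 (Subtype.ext h))
      exact ⟨k, by rw [← hpow, show (ρ' ^ k) a₀ = c from Subtype.ext (by rw [hρ', hk])]⟩ }⟩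


/-- Let Q be a non-abelian finite 2-group admitting commuting automorphisms α of order 2 and ρ of order 2^n − 1, where n ≥ 2, such that the fixed points of α form an elementary abelian subgroup of order 2^n on whose nonidentity elements the group generated by ρ acts transitively. Then Q is isomorphic to a Sylow 2-subgroup of the projective special unitary group of dimension 3 with parameter 2^n (realised over the field with 4^n elements) or of the projective special linear group of dimension 3 over the field with 2^n elements. -/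
theorem result {Q : Type*} [Group Q] [Finite Q] (hQ : IsPGroup 2 Q) (hna : ¬ IsMulCommutative Q) (n : ℕ) (hn : 2 ≤ n)
    (α ρ : MulAut Q) (hα : orderOf α = 2) (hρ : orderOf ρ = 2 ^ n - 1) (hc : Commute α ρ)
    (C : Subgroup Q) (hC : ∀ x : Q, x ∈ C ↔ α x = x) (hCE : Cfsg.IsElementaryAbelian 2 C ∧ Nat.card ↥C = 2 ^ n)
    (htr : ∀ x y : Q, x ∈ C → y ∈ C → x ≠ 1 → y ≠ 1 → ∃ k : ℕ, (ρ ^ k) x = y) :
    (∃ (F : Type) (_ : Field F) (_ : Fintype F), Fintype.card F = 4 ^ n ∧
        ∃ S : Sylow 2 (Cfsg.PSU 3 F (2 ^ n)), Nonempty (Q ≃* ↥(S : Subgroup (Cfsg.PSU 3 F (2 ^ n))))) ∨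
      (∃ (F : Type) (_ : Field F) (_ : Fintype F), Fintype.card F = 2 ^ n ∧
        ∃ S : Sylow 2 (Matrix.ProjectiveSpecialLinearGroup (Fin 3) F), Nonempty (Q ≃* ↥(S : Subgroup (Matrix.ProjectiveSpecialLinearGroup (Fin 3) F)))) := by
  classical
  haveI : Fact (Nat.Prime 2) := ⟨Nat.prime_two⟩
  obtain ⟨S⟩ := exists_setup hQ n hn α ρ hα hρ hc C hC hCE htr
  haveI := Fintype.ofFinite (GaloisField 2 n)
  have hcard : Fintype.card (GaloisField 2 n) = 2 ^ n := by
    rw [← Nat.card_eq_fintype_card, GaloisField.card 2 n (by omega)]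
  have hnc : ∃ x y : Q, x * y ≠ y * x := by
    by_contra! h
    exact hna ⟨⟨h⟩⟩
  have hν : ∃ ν : GaloisField 2 n, ν ≠ 0 ∧ ν ≠ 1 := by
    by_contra! h
    have hle : (Finset.univ : Finset (GaloisField 2 n)).card ≤ ({0, 1} : Finset (GaloisField 2 n)).card := by
      refine Finset.card_le_card fun x _ => ?_
      by_cases hx : x = 0
      · simp [hx]
      · simp [h x hx]
    rw [Finset.card_univ, hcard] at hle
    have h2 := Finset.card_le_two (a := (0 : GaloisField 2 n)) (b := 1)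
    have h4 : 2 ^ 2 ≤ 2 ^ n := Nat.pow_le_pow_right (by norm_num) hn
    omega
  obtain ⟨g, ⟨D⟩⟩ := S.exists_sqData (sq_mem_C_of_noncomm hν _ Q S rfl hnc) hnc
  by_cases hg : ∃ r : GaloisField 2 n, r ^ 2 + r + g = 0
  · obtain ⟨r, hr⟩ := hg
    refine Or.inr ⟨GaloisField 2 n, inferInstance, inferInstance, hcard, ?_⟩
    obtain ⟨P, ⟨D'⟩⟩ := Models.exists_data_PSL (K := GaloisField 2 n)
    refine ⟨P, ?_⟩
    let T : GaloisField 2 n × GaloisField 2 n ≃+ GaloisField 2 n × GaloisField 2 n :=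
      { toFun := fun v => (v.1 + r * v.2, v.1 + (r + 1) * v.2)
        invFun := fun w => (w.1 + r * (w.1 + w.2), w.1 + w.2)
        left_inv := fun v => Prod.ext
          (by simp only; linear_combination (r * v.1 + r * v.2 + r ^ 2 * v.2) *
            (CharTwo.two_eq_zero (R := GaloisField 2 n)))
          (by simp only; linear_combination (v.1 + r * v.2) *
            (CharTwo.two_eq_zero (R := GaloisField 2 n)))
        right_inv := fun w => Prod.ext
          (by simp only; linear_combination (r * w.1 + r * w.2) *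
            (CharTwo.two_eq_zero (R := GaloisField 2 n)))
          (by simp only; linear_combination (r * w.1 + r * w.2 + w.1) *
            (CharTwo.two_eq_zero (R := GaloisField 2 n)))
        map_add' := fun v w => Prod.ext (by simp only [Prod.fst_add, Prod.snd_add]; ring)
          (by simp only [Prod.fst_add, Prod.snd_add]; ring) }
    refine Square.SqData.iso (D.comp (S' := fun v => v.1 * v.2) T fun v => ?_) D'
    show (v.1 + r * v.2) * (v.1 + (r + 1) * v.2) = v.1 ^ 2 + v.1 * v.2 + g * v.2 ^ 2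
    linear_combination (v.2 ^ 2) * hr + (r * v.1 * v.2 - g * v.2 ^ 2) *
      (CharTwo.two_eq_zero (R := GaloisField 2 n))
  · push Not at hg
    obtain ⟨F, _, _, hF, P, ⟨D'⟩⟩ := Models.exists_data_PSU hcard hg
    exact Or.inl ⟨F, inferInstance, inferInstance, hF, P, Square.SqData.iso D D'⟩

end Cfsg.Agent.S3161
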