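import Cfsg.Statements.S3163
import Mathlib
import Cfsg.Agent.Lib.Inv59.Basic

set_option autoImplicit false
open Cfsg

namespace Cfsg.Agent.S3163

/-- Let S be a non-abelian finite 2-group which is the product S = AB of two elementary abelian subgroups A and B, and suppose that the centralizer in S of every element of A outside B is exactly A. Then the centralizer of every element of B outside A is exactly B; A and B are maximal elementary abelian subgroups of S and the only ones; the centre of S is A ∩ B; and every element of S outside A ∪ B has centralizer of order at most min(|A|, |B|). -/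
theorem result {S : Type*} [Group S] [Finite S] (hS : IsPGroup 2 S) (hna : ¬ IsMulCommutative S) (A B : Subgroup S)
    (hA : Cfsg.IsElementaryAbelian 2 A) (hB : Cfsg.IsElementaryAbelian 2 B) (hAB : ∀ s : S, ∃ a ∈ A, ∃ b ∈ B, s = a * b)
    (hC : ∀ a ∈ A, a ∉ B → Subgroup.centralizer ({a} : Set S) = A) :
    (∀ b ∈ B, b ∉ A → Subgroup.centralizer ({b} : Set S) = B) ∧
      (∀ E : Subgroup S, Cfsg.IsElementaryAbelian 2 E → (∀ E' : Subgroup S, Cfsg.IsElementaryAbelian 2 E' → E ≤ E' → E' = E) → E = A ∨ E = B) ∧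
      (∀ E' : Subgroup S, Cfsg.IsElementaryAbelian 2 E' → A ≤ E' → E' = A) ∧ (∀ E' : Subgroup S, Cfsg.IsElementaryAbelian 2 E' → B ≤ E' → E' = B) ∧
      Subgroup.center S = A ⊓ B ∧
      (∀ x : S, x ∉ A → x ∉ B → Nat.card ↥(Subgroup.centralizer ({x} : Set S)) ≤ min (Nat.card ↥A) (Nat.card ↥B)) := by
  have hcA : ∀ a ∈ A, ∀ a' ∈ A, a * a' = a' * a := fun a ha a' ha' =>
    congrArg Subtype.val (hA.1.is_comm.comm (⟨a, ha⟩ : ↥A) ⟨a', ha'⟩)
  have hcB : ∀ b ∈ B, ∀ b' ∈ B, b * b' = b' * b := fun b hb b' hb' =>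
    congrArg Subtype.val (hB.1.is_comm.comm (⟨b, hb⟩ : ↥B) ⟨b', hb'⟩)
  have hC' : ∀ a ∈ A, a ∉ B → ∀ s : S, s * a = a * s → s ∈ A := fun a ha hab s h =>
    (hC a ha hab).le (Subgroup.mem_centralizer_singleton_iff.2 h)
  have hAnB : ∃ a ∈ A, a ∉ B := by
    by_contra h
    push Not at h
    apply hna
    refine ⟨⟨fun s t => ?_⟩⟩
    have hmem : ∀ s : S, s ∈ B := fun s => by
      obtain ⟨a, ha, b, hb, rfl⟩ := hAB s
      exact B.mul_mem (h a ha) hb
    exact hcB s (hmem s) t (hmem t)
  have hBnA : ∃ b ∈ B, b ∉ A := by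
    by_contra h
    push Not at h
    apply hna
    refine ⟨⟨fun s t => ?_⟩⟩
    have hmem : ∀ s : S, s ∈ A := fun s => by
      obtain ⟨a, ha, b, hb, rfl⟩ := hAB s
      exact A.mul_mem ha (h b hb)
    exact hcA s (hmem s) t (hmem t)
  have hCb : ∀ b ∈ B, b ∉ A → ∀ s : S, s * b = b * s → s ∈ B := by
    intro b hb hbA s hs
    obtain ⟨a, ha, b', hb', rfl⟩ := hAB s
    by_cases haB : a ∈ B
    · exact B.mul_mem haB hb'
    · have h1 : a * b = b * a := by
        rw [mul_assoc, hcB b' hb' b hb, ← mul_assoc, ← mul_assoc] at hs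
        exact mul_right_cancel hs
      exact absurd (hC' a ha haB b h1.symm) hbA
  have hinv : ∀ x : S, x * x = 1 → x ∈ A ∨ x ∈ B := by
    intro x hx
    obtain ⟨a, ha, b, hb, rfl⟩ := hAB x
    by_cases haB : a ∈ B
    · exact Or.inr (B.mul_mem haB hb)
    · have ha2 : a * a = 1 := by rw [← sq]; exact hA.2 a ha
      have hb2 : b * b = 1 := by rw [← sq]; exact hB.2 b hb
      have h1 : b * a = a * b := by
        calc b * a = (a * a) * (b * a) * (b * b) := by rw [ha2, hb2, one_mul, mul_one]
          _ = a * (a * b * (a * b)) * b := by group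
          _ = a * b := by rw [hx, mul_one]
      exact Or.inl (A.mul_mem ha (hC' a ha haB b h1))
  refine ⟨fun b hb hbA => ?_, ?_, ?_, ?_, ?_, ?_⟩
  · ext s
    rw [Subgroup.mem_centralizer_singleton_iff]
    exact ⟨hCb b hb hbA s, fun hs => hcB s hs b hb⟩
  · intro E hE hmax
    have hsub : E ≤ A ∨ E ≤ B := by
      by_contra h
      push Not at h
      obtain ⟨⟨x, hxE, hxA⟩, y, hyE, hyB⟩ := SetLike.not_le_iff_exists.1 h.1, SetLike.not_le_iff_exists.1 h.2
      have h2 : ∀ e ∈ E, e * e = 1 := fun e he => by rw [← sq]; exact hE.2 e he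
      have hxB : x ∈ B := (hinv x (h2 x hxE)).resolve_left hxA
      have hyA : y ∈ A := (hinv y (h2 y hyE)).resolve_right hyB
      rcases hinv _ (h2 _ (E.mul_mem hxE hyE)) with h | h
      · exact hxA ((A.mul_mem_cancel_right hyA).1 h)
      · exact hyB ((B.mul_mem_cancel_left hxB).1 h)
    rcases hsub with h | h
    · exact Or.inl (hmax A hA h).symm
    · exact Or.inr (hmax B hB h).symm
  · intro E hE hle
    obtain ⟨a, ha, haB⟩ := hAnB
    refine le_antisymm (fun e he => hC' a ha haB e ?_) hle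
    exact congrArg Subtype.val (hE.1.is_comm.comm (⟨e, he⟩ : ↥E) ⟨a, hle ha⟩)
  · intro E hE hle
    obtain ⟨b, hb, hbA⟩ := hBnA
    refine le_antisymm (fun e he => hCb b hb hbA e ?_) hle
    exact congrArg Subtype.val (hE.1.is_comm.comm (⟨e, he⟩ : ↥E) ⟨b, hle hb⟩)
  · ext z
    constructor
    · intro hz
      rw [Subgroup.mem_center_iff] at hz
      obtain ⟨a, ha, haB⟩ := hAnB
      obtain ⟨b, hb, hbA⟩ := hBnA
      exact ⟨hC' a ha haB z (hz a).symm, hCb b hb hbA z (hz b).symm⟩
    · rintro ⟨hzA, hzB⟩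
      rw [Subgroup.mem_center_iff]
      intro s
      obtain ⟨a, ha, b, hb, rfl⟩ := hAB s
      rw [mul_assoc, hcB b hb z hzB, ← mul_assoc, hcA a ha z hzA, mul_assoc]
  · intro x hxA hxB
    have bound : ∀ P Q : Subgroup S, (∀ s : S, ∃ q ∈ Q, ∃ a ∈ P, s = q * a) →
        (∀ c ∈ P, c * x = x * c → c ∈ Q) →
        Nat.card ↥(Subgroup.centralizer ({x} : Set S)) ≤ Nat.card ↥Q := by
      intro P Q hQP hPQ
      set C := Subgroup.centralizer ({x} : Set S)
      have h1 : Nat.card ↥C = Nat.card ↥(P.subgroupOf C) * (P.subgroupOf C).index :=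
        (Subgroup.card_mul_index _).symm
      have h2 : Nat.card ↥(P.subgroupOf C) ≤ Nat.card ↥(P.subgroupOf Q) := by
        refine Nat.card_le_card_of_injective (fun c => ⟨⟨(c : ↥C), hPQ _ c.2 ?_⟩, c.2⟩) ?_
        · exact (Subgroup.mem_centralizer_singleton_iff.1 (c : ↥C).2)
        · intro c d h
          have := congrArg (fun e : ↥(P.subgroupOf Q) => ((e : ↥Q) : S)) h
          exact Subtype.ext (Subtype.ext this)
      have h3 : (P.subgroupOf C).index ≤ P.index := by
        refine Nat.card_le_card_of_injective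
          (Subgroup.quotientSubgroupOfEmbeddingOfLE P (le_top : C ≤ ⊤) |>.trans ?_) ?_
        · exact (Quotient.congr (Subgroup.topEquiv).toEquiv (by
            intro a b
            rw [QuotientGroup.leftRel_apply, QuotientGroup.leftRel_apply]
            simp [Subgroup.mem_subgroupOf])).toEmbedding
        · exact Function.Embedding.injective _
      have h4 : P.index ≤ (P.subgroupOf Q).index := by
        refine Nat.card_le_card_of_surjective
          (Quotient.map' (fun q : ↥Q => (q : S)) ?_) ?_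
        · intro a b h
          rw [QuotientGroup.leftRel_apply] at h ⊢
          simpa [Subgroup.mem_subgroupOf] using h
        · intro z
          obtain ⟨s, rfl⟩ := Quotient.mk''_surjective z
          obtain ⟨q, hq, a, ha, rfl⟩ := hQP s
          refine ⟨Quotient.mk'' ⟨q, hq⟩, Quotient.sound' ?_⟩
          rw [QuotientGroup.leftRel_apply]
          simpa using ha
      calc Nat.card ↥C = _ := h1
        _ ≤ Nat.card ↥(P.subgroupOf Q) * (P.subgroupOf Q).index := Nat.mul_le_mul h2 (h3.trans h4)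
        _ = Nat.card ↥Q := Subgroup.card_mul_index _
    refine le_min ?_ ?_
    · refine bound B A (fun s => hAB s) (fun c hc hcx => ?_)
      by_contra hcA'
      exact hxB (hCb c hc hcA' x hcx.symm)
    · refine bound A B (fun s => ?_) (fun c hc hcx => ?_)
      · obtain ⟨a, ha, b, hb, h⟩ := hAB s⁻¹
        exact ⟨b⁻¹, B.inv_mem hb, a⁻¹, A.inv_mem ha, by rw [← mul_inv_rev, ← h, inv_inv]⟩
      · by_contra hcB'
        exact hxA (hC' c hc hcB' x hcx.symm)

end Cfsg.Agent.S3163
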