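import Cfsg.Statements.S3164
import Mathlib
import Cfsg.Agent.Lib.Components.GenFitting
import Cfsg.Agent.Lib.CharP.Basic
import Cfsg.Agent.Lib.RankOne.Involution
import Cfsg.Agent.Lib.ZStar.Elements
import Cfsg.Agent.Lib.PGroups.Omega

set_option autoImplicit false
open Cfsg

namespace Cfsg.Agent.S3164

open scoped commutatorElement

open Cfsg.Agent.Lib in
/-- A normal subgroup of even order meets the centre of a Sylow 2-subgroup in an involution. -/
theorem exists_central_involution {G : Type*} [Group G] [Finite G] (S : Sylow 2 G) (M : Subgroup G)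
    [M.Normal] (hM : Even (Nat.card M)) :
    ∃ i ∈ M, i * i = 1 ∧ i ≠ 1 ∧ ∀ s ∈ (S : Subgroup G), s * i = i * s := by
  haveI : Fact (Nat.Prime 2) := ⟨Nat.prime_two⟩
  obtain ⟨u, hu⟩ := exists_prime_orderOf_dvd_card' (G := M) 2 (even_iff_two_dvd.1 hM)
  have hu' : orderOf (u : G) = 2 := by rw [Subgroup.orderOf_coe, hu]
  have hpg : IsPGroup 2 (Subgroup.zpowers (u : G)) :=
    IsPGroup.of_card (n := 1) (by rw [Nat.card_zpowers, hu']; rfl)
  obtain ⟨P, hP⟩ := hpg.exists_le_sylow
  obtain ⟨g, hg⟩ := MulAction.exists_smul_eq G P S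
  have huS : g * (u : G) * g⁻¹ ∈ (S : Subgroup G) := by
    rw [← hg, Sylow.coe_subgroup_smul]
    exact ⟨u, hP (Subgroup.mem_zpowers _), rfl⟩
  have hne : M.subgroupOf (S : Subgroup G) ≠ ⊥ := fun h => by
    have hm : (⟨_, huS⟩ : (S : Subgroup G)) ∈ M.subgroupOf (S : Subgroup G) :=
      (inferInstance : M.Normal).conj_mem _ u.2 g
    rw [h, Subgroup.mem_bot] at hm
    have h1 : (u : G) = 1 := conj_eq_one_iff.1 (congrArg Subtype.val hm)
    rw [h1, orderOf_one] at hu'
    omega
  have hne2 := PGroups.normal_inf_center_ne_bot S.2 (M.subgroupOf (S : Subgroup G)) hne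
  obtain ⟨z, hz, hz1⟩ : ∃ z ∈ M.subgroupOf (S : Subgroup G) ⊓ Subgroup.center _, z ≠ 1 := by
    by_contra hcon
    push Not at hcon
    exact hne2 ((Subgroup.eq_bot_iff_forall _).2 hcon)
  obtain ⟨k, hk⟩ := S.2 z
  obtain ⟨j, hj, hjz⟩ : ∃ j, z ^ (2 ^ j) ≠ 1 ∧ (z ^ (2 ^ j)) * (z ^ (2 ^ j)) = 1 := by
    induction k with
    | zero => exact absurd (by simpa using hk) hz1
    | succ k ih =>
      by_cases h : z ^ (2 ^ k) = 1
      · exact ih h
      · exact ⟨k, h, by rw [← pow_add, ← two_mul, ← pow_succ']; exact hk⟩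
  have hw := Subgroup.pow_mem _ hz (2 ^ j)
  exact ⟨_, hw.1, congrArg Subtype.val hjz, fun h => hj (Subtype.ext h),
    fun s hs => congrArg Subtype.val (Subgroup.mem_center_iff.1 hw.2 ⟨s, hs⟩)⟩

/-- Let A be a standard subgroup of a finite group G whose centralizer has cyclic Sylow 2-subgroups, t an involution centralizing A, and X the normal closure of A in G. If X has a t-invariant 2-subgroup R with [R, t] nontrivial and contained in A, then X is semisimple (X equals its own layer, a central product of quasisimple groups) and the centre of X has odd order. -/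
theorem result {G : Type*} [Group G] [Finite G] (A : Subgroup G) (hA : Cfsg.IsStandardSubgroup A)
    (hcyc : ∀ R : Sylow 2 ↥(Subgroup.centralizer (A : Set G)), IsCyclic ↥(R : Subgroup ↥(Subgroup.centralizer (A : Set G)))) (t : G) (ht : orderOf t = 2) (htA : t ∈ Subgroup.centralizer (A : Set G))
    (R : Subgroup G) (hR2 : IsPGroup 2 ↥R) (hRX : R ≤ Subgroup.normalClosure (A : Set G)) (hRt : ∀ r ∈ R, t * r * t⁻¹ ∈ R)
    (hc1 : ⁅R, Subgroup.zpowers t⁆ ≠ ⊥) (hc2 : ⁅R, Subgroup.zpowers t⁆ ≤ A) :
    Cfsg.layer ↥(Subgroup.normalClosure (A : Set G)) = ⊤ ∧ Odd (Nat.card ↥(Subgroup.center ↥(Subgroup.normalClosure (A : Set G)))) := by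
  haveI : Fact (Nat.Prime 2) := ⟨Nat.prime_two⟩
  obtain ⟨hq, hte, -, hNN⟩ := hA
  set C := Subgroup.centralizer (A : Set G) with hC
  have ht2 : t * t = 1 := by rw [← pow_two, ← ht, pow_orderOf_eq_one]
  have ht1 : t ≠ 1 := fun e => by rw [e, orderOf_one] at ht; omega
  have hti : t⁻¹ = t := inv_eq_of_mul_eq_one_left ht2
  have htc : ∀ a ∈ A, a * t = t * a := fun a ha => Subgroup.mem_centralizer_iff.1 htA a ha
  -- 2-subgroups of `C` are cyclic
  have hcyc2 : ∀ P : Subgroup G, IsPGroup 2 P → P ≤ C → IsCyclic P := by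
    intro P hP hPC
    obtain ⟨Q, hQ⟩ := IsPGroup.exists_le_sylow
      (IsPGroup.of_equiv hP (Subgroup.subgroupOfEquivOfLe hPC).symm)
    haveI := hcyc Q
    haveI : IsCyclic (P.subgroupOf C) :=
      isCyclic_of_injective (Subgroup.inclusion hQ) (Subgroup.inclusion_injective hQ)
    exact isCyclic_of_surjective (Subgroup.subgroupOfEquivOfLe hPC).toMonoidHom
      (Subgroup.subgroupOfEquivOfLe hPC).surjective
  -- commuting involutions of `C` are equal
  have hone : ∀ a b : G, a ∈ C → b ∈ C → a * a = 1 → b * b = 1 → a * b = b * a →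
      a ≠ 1 → b ≠ 1 → a = b := by
    intro a b ha hb ha2 hb2 hab ha1 hb1
    set P := Subgroup.closure ({a, b} : Set G) with hP
    have hPC : P ≤ C := (Subgroup.closure_le _).2 (by rintro x (rfl | rfl) <;> assumption)
    haveI hPc : IsMulCommutative P := Subgroup.isMulCommutative_closure (by
      rintro x (rfl | rfl) y (rfl | rfl) <;> first | rfl | exact hab | exact hab.symm)
    have hexp : ∀ x ∈ P, x * x = 1 := by
      intro x hx
      induction hx using Subgroup.closure_induction with
      | mem y hy =>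
        rcases hy with rfl | rfl <;> assumption
      | one => simp
      | mul x y hx hy ex ey =>
        have hc : y * x = x * y :=
          congrArg Subtype.val (hPc.is_comm.comm (⟨y, hy⟩ : P) ⟨x, hx⟩)
        rw [show x * y * (x * y) = x * (y * x) * y by group, hc, ← mul_assoc, ex, one_mul, ey]
      | inv x hx ex => rw [← mul_inv_rev, ex, inv_one]
    have hPp : IsPGroup 2 P := fun x => ⟨1, Subtype.ext (by simpa [pow_two] using hexp x x.2)⟩
    haveI := hcyc2 P hPp hPC
    classical
    haveI := Fintype.ofFinite P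
    by_contra hne
    have h3 : ({1, ⟨a, Subgroup.subset_closure (by simp)⟩,
        ⟨b, Subgroup.subset_closure (by simp)⟩} : Finset P).card = 3 := by
      refine Finset.card_eq_three.2 ⟨_, _, _, ?_, ?_, ?_, rfl⟩
      · exact fun e => ha1 (congrArg Subtype.val e).symm
      · exact fun e => hb1 (congrArg Subtype.val e).symm
      · exact fun e => hne (congrArg Subtype.val e)
    have h4 := Finset.card_le_card (s := ({1, ⟨a, Subgroup.subset_closure (by simp)⟩,
        ⟨b, Subgroup.subset_closure (by simp)⟩} : Finset P))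
      (t := Finset.univ.filter fun x : P => x ^ 2 = 1) (fun x _ => Finset.mem_filter.2
        ⟨Finset.mem_univ _, Subtype.ext (by simpa [pow_two] using hexp x x.2)⟩)
    have h5 := IsCyclic.card_pow_eq_one_le (α := P) (n := 2) (by norm_num)
    omega
  have hCt : ∀ v : G, v * t = t * v → v ∈ Subgroup.normalizer (A : Set G) := by
    intro v hv
    rw [hNN]
    by_contra hvn
    have h := hte.2 v hvn
    have hm : t ∈ C ⊓ C.map (MulAut.conj v).toMonoidHom := ⟨htA, t, htA, by
      show v * t * v⁻¹ = t
      rw [hv, mul_inv_cancel_right]⟩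
    have h2 := orderOf_dvd_natCard (⟨t, hm⟩ : (C ⊓ C.map (MulAut.conj v).toMonoidHom : Subgroup G))
    rw [Subgroup.orderOf_mk, ht] at h2
    exact Nat.not_even_iff_odd.2 h (even_iff_two_dvd.2 h2)
  -- a normal subgroup meeting `A` in central elements: `A` centralizes its `t`-fixed points
  have hperf : commutator ↥A = ⊤ := hq.1.commutator_eq_top
  have hfixA : ∀ M : Subgroup G, M.Normal → M.subgroupOf A ≤ Subgroup.center ↥A →
      ∀ v ∈ M, v * t = t * v → ∀ a ∈ A, a * v = v * a := by
    intro M hMn hMA v hv hvt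
    have hvN := hCt v hvt
    have hmem : ∀ q : ↥A, v * q * v⁻¹ * (q : G)⁻¹ ∈ A ⊓ M := by
      intro q
      refine ⟨A.mul_mem ((Subgroup.mem_normalizer_iff.1 hvN q).1 q.2) (A.inv_mem q.2), ?_⟩
      rw [show v * q * v⁻¹ * (q : G)⁻¹ = v * (q * v⁻¹ * (q : G)⁻¹) by group]
      exact M.mul_mem hv (hMn.conj_mem _ (M.inv_mem hv) q)
    let φ : ↥A →* ↥(Subgroup.center ↥A) :=
      MonoidHom.mk' (fun q => ⟨(⟨_, (hmem q).1⟩ : ↥A), hMA (Subgroup.mem_subgroupOf.2 (hmem q).2)⟩)
        fun a b => Subtype.ext (Subtype.ext (by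
        show v * ((a : G) * b) * v⁻¹ * ((a : G) * b)⁻¹ =
          (v * a * v⁻¹ * (a : G)⁻¹) * (v * b * v⁻¹ * (b : G)⁻¹)
        have hb := congrArg Subtype.val (Subgroup.mem_center_iff.1
          (hMA (Subgroup.mem_subgroupOf.2 (hmem b).2) : (⟨_, (hmem b).1⟩ : ↥A) ∈ Subgroup.center ↥A) a)
        change (a : G) * (v * b * v⁻¹ * (b : G)⁻¹) = (v * b * v⁻¹ * (b : G)⁻¹) * a at hb
        calc _ = v * a * v⁻¹ * ((v * b * v⁻¹ * (b : G)⁻¹) * (a : G)⁻¹) := by group
          _ = v * a * v⁻¹ * ((a : G)⁻¹ * ((a : G) * (v * b * v⁻¹ * (b : G)⁻¹)) * (a : G)⁻¹) := by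
            group
          _ = _ := by rw [hb]; group))
    have hker : φ.ker = ⊤ := by
      refine top_le_iff.1 ?_
      rw [← hperf, commutator_def, Subgroup.commutator_le]
      intro a _ b _
      rw [MonoidHom.mem_ker, map_commutatorElement, commutatorElement_eq_one_iff_mul_comm]
      exact Subtype.ext (Subgroup.mem_center_iff.1 (φ b).2 (φ a : ↥A))
    intro q hq
    have h := congrArg (fun x : ↥(Subgroup.center ↥A) => ((x : ↥A) : G))
      (MonoidHom.mem_ker.1 (hker ▸ Subgroup.mem_top (⟨q, hq⟩ : ↥A) : (⟨q, hq⟩ : ↥A) ∈ φ.ker))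
    change v * q * v⁻¹ * q⁻¹ = 1 at h
    exact (mul_inv_eq_iff_eq_mul.1 (mul_inv_eq_one.1 h)).symm
  have hdich : ∀ M : Subgroup G, M.Normal → A ≤ M ∨ M.subgroupOf A ≤ Subgroup.center ↥A := by
    intro M hMn
    rcases Cfsg.Agent.Lib.Components.Quasisimple.normal_le_center_or_eq_top hq
      (N := M.subgroupOf A) (Subgroup.normal_subgroupOf) with h | h
    · exact Or.inr h
    · exact Or.inl (Subgroup.subgroupOf_eq_top.1 h)
  -- a normal subgroup of even order not containing `A` contains `t`, centrally in a Sylow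
  have htS : IsPGroup 2 (Subgroup.zpowers t) :=
    IsPGroup.of_card (n := 1) (by rw [Nat.card_zpowers, ht]; rfl)
  obtain ⟨S, hS⟩ := htS.exists_le_sylow
  replace hS : t ∈ (S : Subgroup G) := hS (Subgroup.mem_zpowers t)
  have heven : ∀ M : Subgroup G, M.Normal → M.subgroupOf A ≤ Subgroup.center ↥A → Even (Nat.card M) →
      t ∈ M ∧ ∀ s ∈ (S : Subgroup G), s * t = t * s := by
    intro M hMn hMA hev
    obtain ⟨i, hiM, hi2, hi1, hic⟩ := exists_central_involution S M hev
    have hit : i * t = t * i := (hic t hS).symm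
    have hiC : i ∈ C := Subgroup.mem_centralizer_iff.2 (hfixA M hMn hMA i hiM hit)
    have : i = t := hone i t hiC htA hi2 ht2 hit hi1 ht1
    exact this ▸ ⟨hiM, hic⟩
  -- the element `c = [r, t]`
  obtain ⟨r, hr, hrt⟩ : ∃ r ∈ R, r * t ≠ t * r := by
    by_contra hcon
    push Not at hcon
    refine hc1 (Subgroup.commutator_eq_bot_iff_le_centralizer.2 fun r hr => ?_)
    rw [Subgroup.mem_centralizer_iff]
    rintro _ ⟨k, rfl⟩
    exact (Commute.zpow_left (show Commute t r from (hcon r hr).symm) k).eq
  set c := r * t * r⁻¹ * t with hcdef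
  have hcA : c ∈ A := by
    have h := hc2 (Subgroup.commutator_mem_commutator hr (Subgroup.mem_zpowers t))
    rwa [commutatorElement_def, hti] at h
  have hctA : r⁻¹ * c * r ∈ A := by
    have h := hc2 ((⁅R, Subgroup.zpowers t⁆ : Subgroup G).inv_mem
        (Subgroup.commutator_mem_commutator (R.inv_mem hr) (Subgroup.mem_zpowers t)))
    rw [commutatorElement_inv, commutatorElement_def, hti, inv_inv] at h
    rw [hcdef]
    convert h using 1
    group
  have hc1' : c ≠ 1 := fun h => hrt (by
    have : r * t * r⁻¹ = t⁻¹ := eq_inv_of_mul_eq_one_left h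
    rw [hti] at this
    exact mul_inv_eq_iff_eq_mul.1 this)
  have hctc : t * c = c * t := (htc c hcA).symm
  have htct : t * c = r * t * r⁻¹ := by rw [hctc, hcdef, mul_assoc _ t t, ht2, mul_one]
  have hc2' : c * c = 1 := by
    calc c * c = t * (t * c) * c := by rw [← mul_assoc t t, ht2, one_mul]
      _ = t * (t * c * c) := by group
      _ = t * (c * t * c) := by rw [← hctc]
      _ = (t * c) * (t * c) := by group
      _ = 1 := by
        rw [htct]
        calc r * t * r⁻¹ * (r * t * r⁻¹) = r * (t * t) * r⁻¹ := by group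
          _ = 1 := by rw [ht2]; group
  have hcZ : (⟨c, hcA⟩ : ↥A) ∉ Subgroup.center ↥A := fun h => by
    have hcC : c ∈ C := Subgroup.mem_centralizer_iff.2 fun a ha =>
      congrArg Subtype.val (Subgroup.mem_center_iff.1 h ⟨a, ha⟩)
    have hct := hone c t hcC htA hc2' ht2 hctc.symm hc1' ht1
    have : r * t * r⁻¹ = 1 := by rw [← htct, hct, ht2]
    exact ht1 (conj_eq_one_iff.1 this)
  -- `A ≤ E(G)`
  have hAE : A ≤ Cfsg.layer G := by
    rcases hdich (Cfsg.layer G) inferInstance with h | hEA
    · exact h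
    exfalso
    rcases Nat.even_or_odd (Nat.card (Cfsg.layer G)) with hev | hodd
    · obtain ⟨htE, htZ⟩ := heven _ inferInstance hEA hev
      obtain ⟨P⟩ : Nonempty (Sylow 2 ↥(Cfsg.layer G)) := inferInstance
      set P' := (P : Subgroup ↥(Cfsg.layer G)).map (Cfsg.layer G).subtype with hP'
      obtain ⟨Q, hQ⟩ := (P.2.map (Cfsg.layer G).subtype : IsPGroup 2 P').exists_le_sylow
      obtain ⟨g, hg⟩ := MulAction.exists_smul_eq G Q S
      haveI : IsCyclic (P'.map (MulAut.conj g).toMonoidHom : Subgroup G) := by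
        refine hcyc2 _ ((P.2.map _).map _) ?_
        rintro _ ⟨p, hp, rfl⟩
        have hpS : (MulAut.conj g).toMonoidHom p ∈ (S : Subgroup G) := by
          rw [← hg, Sylow.coe_subgroup_smul]
          exact ⟨p, hQ hp, rfl⟩
        have hpE : (MulAut.conj g).toMonoidHom p ∈ Cfsg.layer G := by
          obtain ⟨p₀, -, rfl⟩ := hp
          exact (inferInstance : (Cfsg.layer G).Normal).conj_mem _ p₀.2 g
        exact Subgroup.mem_centralizer_iff.2 (hfixA _ inferInstance hEA _ hpE (htZ _ hpS))
      have hPc : IsCyclic (P : Subgroup ↥(Cfsg.layer G)) := by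
        let e := ((P : Subgroup ↥(Cfsg.layer G)).equivMapOfInjective _
          (Cfsg.layer G).subtype_injective).trans
          (P'.equivMapOfInjective (MulAut.conj g).toMonoidHom (MulAut.conj g).injective)
        exact isCyclic_of_surjective e.symm.toMonoidHom e.symm.surjective
      have hmin : (Nat.card ↥(Cfsg.layer G)).minFac = 2 :=
        (Nat.minFac_eq_two_iff _).2 (even_iff_two_dvd.1 hev)
      have hN := hPc.normalizer_le_centralizer hmin
      have hcompl := MonoidHom.ker_transferSylow_isComplement' P hN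
      have hker : (MonoidHom.transferSylow P hN).ker = ⊤ := by
        refine top_le_iff.1 ?_
        rw [← Cfsg.Agent.Lib.Components.Layer.layer_perfect.commutator_eq_top, commutator_def,
          Subgroup.commutator_le]
        intro a _ b _
        haveI := hPc
        rw [MonoidHom.mem_ker, map_commutatorElement, commutatorElement_eq_one_iff_mul_comm]
        let _ : CommGroup (P : Subgroup ↥(Cfsg.layer G)) := IsCyclic.commGroup
        exact mul_comm _ _
      have hcard := hcompl.card_mul
      rw [hker, Subgroup.card_top] at hcard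
      have h1 : Nat.card (P : Subgroup ↥(Cfsg.layer G)) = 1 := by
        have hpos := Nat.card_pos (α := ↥(Cfsg.layer G))
        exact mul_left_cancel₀ hpos.ne' (hcard.trans (mul_one _).symm)
      exact P.not_dvd_index (by
        rw [← (Subgroup.card_mul_index (P : Subgroup ↥(Cfsg.layer G))), h1, one_mul] at hev
        exact even_iff_two_dvd.1 hev)
    -- `A` centralizes `O(G)`
    set O := Cfsg.oddCore G with hO
    haveI hOn : O.Normal := inferInstanceAs (Cfsg.oddCore G).Normal
    have hOodd : Odd (Nat.card O) := Cfsg.Agent.Lib.ZStar.Elements.oddCore_odd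
    have hOA : O.subgroupOf A ≤ Subgroup.center ↥A := by
      refine (hdich O hOn).resolve_left fun h => hc1' ?_
      exact Cfsg.Agent.Lib.RankOne.Involution.eq_one_of_sq hOodd (h hcA) hc2'
    have hOc : O ≤ Subgroup.centralizer ({c} : Set G) := by
      refine Cfsg.Agent.Lib.RankOne.Involution.le_of_four_group hOodd ht2 hc2' hctc
        (fun h hh => hOn.conj_mem h hh t) (fun h hh => hOn.conj_mem h hh c) ?_ ?_ ?_
      · intro h hh hf
        rw [Subgroup.mem_centralizer_singleton_iff]
        exact (hfixA O hOn hOA h hh (mul_inv_eq_iff_eq_mul.1 hf).symm c hcA).symm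
      · intro h hh hf
        rw [Subgroup.mem_centralizer_singleton_iff]
        exact (mul_inv_eq_iff_eq_mul.1 hf).symm
      · intro h hh hf
        rw [Subgroup.mem_centralizer_singleton_iff]
        rw [htct] at hf
        have hh' : r⁻¹ * h * r ∈ O := by simpa using hOn.conj_mem h hh r⁻¹
        have hf' : t * (r⁻¹ * h * r) * t⁻¹ = r⁻¹ * h * r := by
          calc t * (r⁻¹ * h * r) * t⁻¹ = r⁻¹ * (r * t * r⁻¹ * h * (r * t * r⁻¹)⁻¹) * r := by group
            _ = _ := by rw [hf]
        have := hfixA O hOn hOA _ hh' (mul_inv_eq_iff_eq_mul.1 hf').symm _ hctA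
        calc h * c = r * ((r⁻¹ * h * r) * (r⁻¹ * c * r)) * r⁻¹ := by group
          _ = r * ((r⁻¹ * c * r) * (r⁻¹ * h * r)) * r⁻¹ := by rw [this]
          _ = c * h := by group
    have hAO : ∀ a ∈ A, ∀ h ∈ O, a * h = h * a := by
      rcases hdich (Subgroup.centralizer (O : Set G)) inferInstance with h | h
      · exact fun a ha x hx => (Subgroup.mem_centralizer_iff.1 (h ha) x hx).symm
      · refine absurd (h (Subgroup.mem_subgroupOf.2 ?_ : (⟨c, hcA⟩ : ↥A) ∈ _)) hcZ
        exact Subgroup.mem_centralizer_iff.2 fun x hx =>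
          Subgroup.mem_centralizer_singleton_iff.1 (hOc hx)
    -- `A` centralizes `O_2(G)`
    set Q := Cfsg.pCore 2 G with hQ
    have hQp : IsPGroup 2 Q := Cfsg.Agent.Lib.Cores.pCore_isPGroup 2
    haveI hQn : Q.Normal := inferInstanceAs (Cfsg.pCore 2 G).Normal
    have hQA : Q.subgroupOf A ≤ Subgroup.center ↥A := by
      refine (hdich Q hQn).resolve_left fun h => ?_
      haveI := IsPGroup.isNilpotent (IsPGroup.to_le hQp h)
      exact Cfsg.Agent.Lib.Components.Quasisimple.not_isSolvable hq inferInstance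
    have hAQ : ∀ a ∈ A, ∀ u ∈ Q, a * u = u * a := by
      rcases hdich (Subgroup.centralizer (Q : Set G)) inferInstance with h | h
      · exact fun a ha x hx => (Subgroup.mem_centralizer_iff.1 (h ha) x hx).symm
      exfalso
      have hodd' : ∀ a ∈ A, (orderOf a).Coprime 2 → a ∈ Subgroup.centralizer (Q : Set G) := by
        intro a ha hcop
        rw [Subgroup.mem_centralizer_iff]
        intro u hu
        refine (Cfsg.Agent.Lib.CharP.commute_of_axb htS hcop ?_ hQp
          (fun _ _ => Subgroup.normalizer_eq_top (H := Q) ▸ Subgroup.mem_top _)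
          (Subgroup.normalizer_eq_top (H := Q) ▸ Subgroup.mem_top a) ?_ u hu).eq.symm
        · rintro _ ⟨k, rfl⟩
          exact Commute.zpow_right (htc a ha) k
        · intro v hv hvt
          exact hfixA Q hQn hQA v hv (hvt t (Subgroup.mem_zpowers t)) a ha
      have hp : IsPGroup 2 (↥A ⧸ Subgroup.center ↥A) := by
        intro x
        induction x using QuotientGroup.induction_on with
        | H a =>
          obtain ⟨k, hk⟩ := Cfsg.Agent.Lib.CharP.exists_pow_coprime (p := 2) (a : G)
          refine ⟨k, ?_⟩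
          rw [← QuotientGroup.mk_pow, QuotientGroup.eq_one_iff]
          refine h (Subgroup.mem_subgroupOf.2 ?_)
          rw [Subgroup.coe_pow]
          exact hodd' _ (A.pow_mem a.2 _) hk
      haveI := hp.isNilpotent
      haveI : Group.IsNilpotent ↥A := Group.of_quotient_center_nilpotent hp.isNilpotent
      exact Cfsg.Agent.Lib.Components.Quasisimple.not_isSolvable hq inferInstance
    have hEO : Cfsg.layer G ≤ O := Cfsg.Agent.Lib.ZStar.Elements.le_oddCore hodd
    have hcent : ∀ a ∈ A, a ∈ Subgroup.centralizer (Cfsg.generalizedFittingSubgroup G : Set G) := by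
      intro a ha
      have hle : Cfsg.generalizedFittingSubgroup G ≤ Subgroup.centralizer ({a} : Set G) := by
        refine sup_le (fun x hx => Subgroup.mem_centralizer_singleton_iff.2 (hAO a ha x (hEO hx)).symm) ?_
        rw [Cfsg.Agent.Lib.Cores.fittingSubgroup_eq_iSup_pCore]
        refine iSup_le fun q => ?_
        by_cases hq2 : (q : ℕ) = 2
        · rw [hq2]
          exact fun x hx => Subgroup.mem_centralizer_singleton_iff.2 (hAQ a ha x hx).symm
        · haveI := Fact.mk q.2
          obtain ⟨k, hk⟩ := IsPGroup.iff_card.mp (Cfsg.Agent.Lib.Cores.pCore_isPGroup (G := G) (q : ℕ))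
          have hod : Odd (Nat.card (Cfsg.pCore (q : ℕ) G)) := hk ▸ (q.2.odd_of_ne_two hq2).pow
          haveI : (Cfsg.pCore (q : ℕ) G).Normal := inferInstance
          exact fun x hx => Subgroup.mem_centralizer_singleton_iff.2
            (hAO a ha x (Cfsg.Agent.Lib.ZStar.Elements.le_oddCore hod hx)).symm
      exact Subgroup.mem_centralizer_iff.2 fun x hx =>
        Subgroup.mem_centralizer_singleton_iff.1 (hle hx)
    refine hcZ (Subgroup.mem_center_iff.2 fun a => Subtype.ext ?_)
    exact (Subgroup.mem_centralizer_iff.1 (hcent c hcA) _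
      (Cfsg.Agent.Lib.Components.GenFitting.centralizer_le (hcent a a.2)))
  set X := Subgroup.normalClosure (A : Set G) with hX
  haveI hXn : X.Normal := Subgroup.normalClosure_normal
  have hAX : A ≤ X := Subgroup.le_normalClosure
  have hXE : X ≤ Cfsg.layer G := Subgroup.normalClosure_le_normal hAE
  have hAA : ⁅A, A⁆ = A := Subgroup.isPerfect_iff.1 hq.1
  have hXX : X ≤ ⁅X, X⁆ := by
    refine Subgroup.normalClosure_le_normal fun a ha => ?_
    have h : a ∈ ⁅A, A⁆ := by rw [hAA]; exact ha
    exact Subgroup.commutator_mono hAX hAX h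
  refine ⟨?_, ?_⟩
  · set L := (Cfsg.layer ↥X).map X.subtype with hL
    haveI hLn : L.Normal := ConjAct.normal_of_characteristic_of_normal
    have hEL : Cfsg.layer G ≤ L ⊔ Subgroup.centralizer (X : Set G) := by
      refine sSup_le fun K hK => ?_
      rcases Cfsg.Agent.Lib.Components.Component.le_or_commutator_eq_bot hK
        (hXn.isSubnormal) with h | h
      · refine le_sup_of_le_left ?_
        rw [← Subgroup.map_subgroupOf_eq_of_le h]
        exact Subgroup.map_mono (Cfsg.Agent.Lib.Components.Layer.component_le_layer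
          (Cfsg.Agent.Lib.Components.Component.subgroupOf hK h))
      · exact le_sup_of_le_right (Subgroup.commutator_eq_bot_iff_le_centralizer.1 ((Subgroup.commutator_comm _ _).trans h))
    have hXL : X ≤ L := by
      refine hXX.trans ((Subgroup.commutator_mono (hXE.trans hEL) le_rfl).trans ?_)
      rw [Subgroup.commutator_le]
      intro e he x hx
      obtain ⟨l, hl, v, hv, rfl⟩ := Subgroup.mem_sup_of_normal_left.1 he
      have hvx := (Subgroup.mem_centralizer_iff.1 hv x hx)
      rw [commutatorElement_def,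
        show l * v * x * (l * v)⁻¹ * x⁻¹ = l * (v * x * v⁻¹) * l⁻¹ * x⁻¹ by group,
        ← hvx, mul_inv_cancel_right, show l * x * l⁻¹ * x⁻¹ = l * (x * l⁻¹ * x⁻¹) by group]
      exact L.mul_mem hl (hLn.conj_mem _ (L.inv_mem hl) x)
    refine top_le_iff.1 fun x _ => ?_
    obtain ⟨y, hy, e⟩ := hXL x.2
    rwa [← Subtype.ext e]
  · rw [← Nat.not_even_iff_odd]
    intro hev
    set Z := (Subgroup.center ↥X).map X.subtype with hZ
    haveI hZn : Z.Normal := ConjAct.normal_of_characteristic_of_normal
    have hZA : Z.subgroupOf A ≤ Subgroup.center ↥A := by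
      intro a ha
      obtain ⟨z, hz, e⟩ := Subgroup.mem_subgroupOf.1 ha
      refine Subgroup.mem_center_iff.2 fun b => Subtype.ext ?_
      have := congrArg Subtype.val (Subgroup.mem_center_iff.1 hz ⟨b, hAX b.2⟩)
      simp only [Subgroup.coe_mul] at this ⊢
      rw [← e]
      exact this
    obtain ⟨⟨z, hz, hzt⟩, -⟩ := heven Z hZn hZA (by
      rwa [hZ, Subgroup.card_map_of_injective X.subtype_injective])
    apply hrt
    have := congrArg Subtype.val (Subgroup.mem_center_iff.1 hz ⟨r, hRX hr⟩)
    simp only [Subgroup.coe_mul] at this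
    rw [← hzt]
    exact this

end Cfsg.Agent.S3164
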