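import Cfsg.Statements.S3165
import Mathlib

set_option autoImplicit false
open Cfsg

namespace Cfsg.Agent.S3165

/-- Let a group X act on a group Y by automorphisms and let z be an element of Y all of whose Y-conjugates are fixed by X. Then every element of the form (x·y)y⁻¹, x ∈ X, y ∈ Y (these generate the commutator [X, Y]) commutes with z. -/
theorem result {X Y : Type*} [Group X] [Group Y] [MulDistribMulAction X Y] (z : Y)
    (hz : ∀ y : Y, ∀ x : X, x • (y * z * y⁻¹) = y * z * y⁻¹) :
    ∀ x : X, ∀ y : Y, Commute ((x • y) * y⁻¹) z := by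
  intro x y
  have h1 : x • z = z := by simpa using hz 1 x
  have h2 : (x • y)⁻¹ * z * (x • y) = y⁻¹ * z * y := by
    simpa [smul_mul', smul_inv', h1] using hz y⁻¹ x
  have h3 : z * (x • y) = (x • y) * y⁻¹ * z * y := by
    calc z * (x • y) = (x • y) * ((x • y)⁻¹ * z * (x • y)) := by group
      _ = (x • y) * (y⁻¹ * z * y) := by rw [h2]
      _ = _ := by group
  show (x • y) * y⁻¹ * z = z * ((x • y) * y⁻¹)
  rw [← mul_assoc z, h3]
  group

end Cfsg.Agent.S3165
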