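import Cfsg.Statements.S3166
import Mathlib

set_option autoImplicit false
open Cfsg

namespace Cfsg.Agent.S3166

/-- Let q = 2^n with n ≥ 1. If q⁴ − q³ + q² − q + 1 is a power p^m of a prime p, then m = 1: the value is never a prime power with exponent greater than 1. -/
theorem result (n p m : ℕ) (hn : 1 ≤ n) (hp : p.Prime) (h : (2 ^ n) ^ 4 - (2 ^ n) ^ 3 + (2 ^ n) ^ 2 - 2 ^ n + 1 = p ^ m) : m = 1 := by
  have hq : 2 ≤ 2 ^ n := by
    calc 2 = 2 ^ 1 := rfl
      _ ≤ 2 ^ n := Nat.pow_le_pow_right (by norm_num) hn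
  have hqeven : Even (2 ^ n) := (Nat.even_pow).2 ⟨even_two, by omega⟩
  obtain ⟨q, hqdef⟩ : ∃ q, 2 ^ n = q := ⟨_, rfl⟩
  rw [hqdef] at h hq hqeven
  have hN : ((p : ℤ) ^ m) = (q : ℤ) ^ 4 - (q : ℤ) ^ 3 + (q : ℤ) ^ 2 - q + 1 := by
    have e1 : q ^ 3 ≤ q ^ 4 := Nat.pow_le_pow_right (by omega) (by norm_num)
    have e2 : q ≤ q ^ 4 - q ^ 3 + q ^ 2 := le_trans (Nat.le_self_pow (by norm_num) q) (Nat.le_add_left _ _)
    have := congrArg (Nat.cast : ℕ → ℤ) h
    push_cast [Nat.cast_sub e1, Nat.cast_sub e2] at this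
    linarith
  have hq' : (2 : ℤ) ≤ q := by exact_mod_cast hq
  by_contra hm
  rcases Nat.even_or_odd m with ⟨k, hk⟩ | hodd
  · -- a square cannot occur
    have hsq : (((p : ℤ) ^ k * 2) ^ 2) = 4 * ((q : ℤ) ^ 4 - (q : ℤ) ^ 3 + (q : ℤ) ^ 2 - q + 1) := by
      rw [← hN, hk, pow_add]; ring
    have hpos : (0 : ℤ) ≤ (p : ℤ) ^ k * 2 := by positivity
    generalize (p : ℤ) ^ k * 2 = y at hsq hpos
    rcases le_or_gt y (2 * (q : ℤ) ^ 2 - q) with hy | hy
    · nlinarith
    · have : 2 * (q : ℤ) ^ 2 - q + 1 ≤ y := hy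
      have h0 : (0 : ℤ) ≤ 2 * (q : ℤ) ^ 2 - q + 1 := by nlinarith
      nlinarith [mul_le_mul this this h0 hpos]
  · have hm3 : 3 ≤ m := by obtain ⟨k, rfl⟩ := hodd; omega
    have hqq : (q : ℤ) ∣ (p : ℤ) - 1 := by
      have hdvd : (q : ℤ) ∣ ((p : ℤ) - 1) * ∑ i ∈ Finset.range m, (p : ℤ) ^ i := by
        rw [mul_geom_sum, hN]
        exact ⟨(q : ℤ) ^ 3 - (q : ℤ) ^ 2 + q - 1, by ring⟩
      refine IsCoprime.dvd_of_dvd_mul_right ?_ hdvd
      have hpodd : Odd (p : ℤ) := by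
        have hqe : Even (q : ℤ) := by exact_mod_cast hqeven
        have : Odd ((p : ℤ) ^ m) := by
          rw [hN]
          simp [parity_simps, hqe]
        exact (Int.odd_pow' (by omega)).1 this
      have hsum : Odd (∑ i ∈ Finset.range m, (p : ℤ) ^ i) := by
        have key : ∀ j : ℕ, (Odd (∑ i ∈ Finset.range j, (p : ℤ) ^ i) ↔ Odd j) := by
          intro j
          induction j with
          | zero => simp
          | succ j ih =>
            have hpj : Odd ((p : ℤ) ^ j) := hpodd.pow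
            rw [Finset.sum_range_succ]
            simp [parity_simps, ih, hpj, Int.not_even_iff_odd.2 hpj, ← Int.not_odd_iff_even, ← Nat.not_odd_iff_even]
        exact (key m).2 hodd
      rw [← hqdef]
      push_cast
      exact (Int.isCoprime_two_left.2 hsum).pow_left
    obtain ⟨k, hk⟩ := hqq
    have hp2 : (2 : ℤ) ≤ p := by exact_mod_cast hp.two_le
    have hk1 : 1 ≤ k := by nlinarith
    have hlt : (p : ℤ) ^ m < (q : ℤ) ^ 4 := by nlinarith [pow_pos (show (0:ℤ) < q by linarith) 2]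
    have hm3' : m = 3 := by
      by_contra hne
      have h4 : 4 ≤ m := by omega
      have hqp : (q : ℤ) ≤ p := by nlinarith
      have : (q : ℤ) ^ 4 ≤ (p : ℤ) ^ m :=
        le_trans (pow_le_pow_left₀ (by linarith) hqp 4) (pow_le_pow_right₀ (by linarith) h4)
      linarith
    subst hm3'
    have hp' : (p : ℤ) = 1 + q * k := by linarith
    rw [hp'] at hN hlt
    have he : 3 * k + 1 = (q : ℤ) * (-3 * k ^ 2 - q * k ^ 3 + (q : ℤ) ^ 2 - q + 1) := by
      have h0 : (q : ℤ) ≠ 0 := by linarith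
      apply mul_left_cancel₀ h0
      linear_combination hN
    have hdvd : (q : ℤ) ∣ 3 * k + 1 := ⟨_, he⟩
    have hle : (q : ℤ) ≤ 3 * k + 1 := Int.le_of_dvd (by linarith) hdvd
    have hk2 : k ≤ 1 := by
      by_contra hk3
      have hk4 : 2 ≤ k := by omega
      have h3 : k ^ 3 < q := by
        by_contra hc
        push Not at hc
        have : (q : ℤ) ^ 4 ≤ ((q : ℤ) * k) ^ 3 := by
          rw [mul_pow, pow_succ]
          exact mul_le_mul_of_nonneg_left hc (by positivity)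
        nlinarith [pow_le_pow_left₀ (by positivity : (0:ℤ) ≤ q * k) (by linarith : (q:ℤ) * k ≤ 1 + q * k) 3]
      nlinarith
    have hk0 : k = 1 := le_antisymm hk2 hk1
    subst hk0
    have hq4 : (q : ℤ) ≤ 4 := by linarith
    interval_cases (q : ℤ) <;> norm_num at hN

end Cfsg.Agent.S3166
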