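import Cfsg.Statements.S3174
import Mathlib
import Cfsg.Agent.Lib.Inv59.RudT.Main

set_option autoImplicit false
open Cfsg

namespace Cfsg.Agent.S3174

/-- Let T be a finite 2-group of order at least 2^14 in which the fourth term of the upper central series has order 16. Let W be the centralizer in T of the third term Z₃(T), and suppose the Frattini subgroup of W has order at most 8 and lies in every subgroup of W of index at most 16. Then T has order exactly 2^14; the derived subgroup of W and the Frattini subgroup of W both equal Z₃(T), which is elementary abelian of order 8; the centre of W has order 8; W is normal in T with quotient dihedral of order 8; and W modulo its derived subgroup is elementary abelian of order 2^8. -/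
theorem result {T : Type*} [Group T] [Finite T]
    (hT : IsPGroup 2 T) (ha : 2 ^ 14 ≤ Nat.card T) (hb : Nat.card ↥(Subgroup.upperCentralSeries T 4) = 16)
    (W : Subgroup T) (hW : W = Subgroup.centralizer ((Subgroup.upperCentralSeries T 3 : Subgroup T) : Set T))
    (hc : Nat.card ↥(frattini ↥W) ≤ 8) (hd : ∀ U : Subgroup ↥W, U.index ≤ 16 → frattini ↥W ≤ U) :
    Nat.card T = 2 ^ 14 ∧
      (commutator ↥W).map W.subtype = Subgroup.upperCentralSeries T 3 ∧
      (frattini ↥W).map W.subtype = Subgroup.upperCentralSeries T 3 ∧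
      Nat.card ↥(Subgroup.center ↥W) = 8 ∧
      Nat.card ↥(Subgroup.upperCentralSeries T 3) = 8 ∧ (∀ z ∈ Subgroup.upperCentralSeries T 3, z ^ 2 = 1) ∧
      (∃ (_ : W.Normal), Nonempty (T ⧸ W ≃* DihedralGroup 4)) ∧
      Nat.card (↥W ⧸ commutator ↥W) = 2 ^ 8 ∧ (∀ x : ↥W ⧸ commutator ↥W, x ^ 2 = 1) := by
  have H : Cfsg.Agent.Lib.Inv59.RudT.Hyp T W := ⟨hT, ha, hb, hW, hc, hd⟩
  haveI := H.W_normal
  have hcomm : (commutator ↥W).map W.subtype = Subgroup.upperCentralSeries T 3 := by
    rw [Subgroup.map_subtype_commutator]; exact H.comm_eq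
  have hc8 : Nat.card ↥(commutator ↥W) = 8 := by
    rw [← Subgroup.card_map_of_injective W.subtype_injective, hcomm, H.card_Z (by omega)]; rfl
  refine ⟨H.card_eq.2.2, hcomm, H.phi_eq, ?_, by rw [H.card_Z (by omega)]; rfl,
    fun z hz => by rw [pow_two]; exact H.elem hz, ⟨H.W_normal, ?_⟩, ?_, ?_⟩
  · rw [← Subgroup.card_map_of_injective W.subtype_injective]
    have e : (Subgroup.center ↥W).map W.subtype = Subgroup.upperCentralSeries T 3 := by
      ext x
      constructor
      · rintro ⟨y, hy, rfl⟩
        exact H.center_le y.2 fun a ha =>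
          congrArg Subtype.val (Subgroup.mem_center_iff.1 hy ⟨a, ha⟩)
      · intro hx
        exact ⟨⟨x, H.Z3_le hx⟩, Subgroup.mem_center_iff.2 fun a =>
          Subtype.ext (H.comm_Z hx a.2).symm, rfl⟩
    rw [e, H.card_Z (by omega)]; rfl
  · obtain ⟨g, hg, hker, -⟩ := H.exists_g
    exact ⟨(QuotientGroup.quotientMulEquivOfEq hker.symm).trans
      (QuotientGroup.quotientKerEquivOfSurjective g hg)⟩
  · have h := Subgroup.card_eq_card_quotient_mul_card_subgroup (commutator ↥W)
    rw [hc8, H.card_eq.1] at h
    omega
  · intro x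
    induction x using QuotientGroup.induction_on with
    | H w =>
      rw [← QuotientGroup.mk_pow, QuotientGroup.eq_one_iff]
      have h : ((w ^ 2 : ↥W) : T) ∈ (commutator ↥W).map W.subtype := by
        rw [hcomm, Subgroup.coe_pow, pow_two]
        exact H.sq_mem w.2
      exact (Subgroup.mem_map_iff_mem W.subtype_injective).1 h

end Cfsg.Agent.S3174
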