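import Cfsg.Statements.S3175
import Mathlib
import Cfsg.Agent.Lib.Inv59.RudT.Main

set_option autoImplicit false
open Cfsg

namespace Cfsg.Agent.S3175

open Cfsg.Agent.Lib.Inv59.RudT in
/-- An automorphism of odd order of such a 2-group is trivial. -/
theorem odd_aut_trivial {T : Type*} [Group T] [Finite T] {W : Subgroup T} (H : Hyp T W)
    (α : T ≃* T) {n : ℕ} (hn : Odd n) (hα : ∀ x, (α : T → T)^[n] x = x) : ∀ x, α x = x := by
  haveI := H.W_normal
  have pow_eq_one : ∀ c : T, c ^ n = 1 → c = 1 := by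
    intro c hc
    obtain ⟨k, hk⟩ := H.pg c
    have h := Nat.dvd_gcd (orderOf_dvd_of_pow_eq_one hk) (orderOf_dvd_of_pow_eq_one hc)
    rw [Nat.Coprime.pow_left k (Nat.coprime_two_left.2 hn)] at h
    exact orderOf_eq_one_iff.1 (Nat.dvd_one.1 h)
  have shift : ∀ x c : T, α x = x * c → α c = c → α x = x := by
    intro x c h1 h2
    have key : ∀ k : ℕ, (α : T → T)^[k] x = x * c ^ k := by
      intro k
      induction k with
      | zero => simp
      | succ k ih => rw [Function.iterate_succ_apply', ih, map_mul, map_pow, h1, h2, pow_succ', mul_assoc]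
    have := (key n).symm.trans (hα x)
    rw [h1, pow_eq_one c (by simpa using this), mul_one]
  have fixZ : ∀ i, i ≤ 4 → ∀ x ∈ Subgroup.upperCentralSeries T i, α x = x := by
    intro i
    induction i with
    | zero =>
      intro _ x hx
      rw [show x = 1 by simpa using hx, map_one]
    | succ i ih =>
      intro hi x hx
      by_cases hx' : x ∈ Subgroup.upperCentralSeries T i
      · exact ih (by omega) x hx'
      have hchar : ∀ j, ∀ y, α y ∈ Subgroup.upperCentralSeries T j ↔
          y ∈ Subgroup.upperCentralSeries T j := fun j y => by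
        conv_rhs => rw [← Subgroup.Characteristic.fixed (H := Subgroup.upperCentralSeries T j)
          inferInstance α]
        rfl
      refine shift x (x⁻¹ * α x) (by group) (ih (by omega) _ ?_)
      exact H.cos (by omega) hx hx' ((hchar _ x).2 hx) fun h => hx' ((hchar _ x).1 h)
  have hmemW : ∀ w ∈ W, α w ∈ W := by
    intro w hw
    rw [H.eq, Subgroup.mem_centralizer_iff]
    intro z hz
    have := congrArg α (H.comm_Z hz hw)
    rwa [map_mul, map_mul, fixZ 3 (by omega) z hz] at this
  have htW : ∀ t, α t * t⁻¹ ∈ W := by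
    intro t
    rw [H.eq, Subgroup.mem_centralizer_iff]
    intro z hz
    have hc := (inferInstance : (Subgroup.upperCentralSeries T 3).Normal).conj_mem z hz t⁻¹
    rw [inv_inv] at hc
    have h := fixZ 3 (by omega) _ hc
    rw [map_mul, map_mul, map_inv, fixZ 3 (by omega) z hz] at h
    calc z * (α t * t⁻¹) = α t * ((α t)⁻¹ * z * α t) * t⁻¹ := by group
      _ = α t * (t⁻¹ * z * t) * t⁻¹ := by rw [h]
      _ = α t * t⁻¹ * z := by group
  have fixW : ∀ w ∈ W, α w = w := by
    obtain ⟨z, hzW, hz, hz'⟩ := exists_step H.pg W (i := 3) (H.not_le_Z (by omega))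
    obtain ⟨μ, hadd, hQ, hz1⟩ := H.exists_mu H.Z3_le (fun w hw => H.sq_mem hw) hzW hz'
    have itW : ∀ (k : ℕ), ∀ w ∈ W, (α : T → T)^[k] w ∈ W := by
      intro k
      induction k with
      | zero => simp
      | succ k ih => intro w hw; rw [Function.iterate_succ_apply]; exact ih _ (hmemW w hw)
    have itfix : ∀ (k : ℕ) (x : T), α x = x → (α : T → T)^[k] x = x :=
      fun k x hx => Function.iterate_fixed hx k
    have itmul : ∀ (k : ℕ) (x y : T),
        (α : T → T)^[k] (x * y) = (α : T → T)^[k] x * (α : T → T)^[k] y := by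
      intro k
      induction k with
      | zero => simp
      | succ k ih => intro x y; simp only [Function.iterate_succ_apply', ih, map_mul]
    let ν : T → ZMod 2 := fun w => ∑ i ∈ Finset.range n, μ ((α : T → T)^[i] w)
    have νadd : ∀ x ∈ W, ∀ y ∈ W, ν (x * y) = ν x + ν y := fun x hx y hy => by
      simp only [ν, ← Finset.sum_add_distrib, itmul]
      exact Finset.sum_congr rfl fun i _ => hadd _ (itW i x hx) _ (itW i y hy)
    have νQ : ∀ x ∈ Subgroup.upperCentralSeries T 3, ν x = 0 := fun x hx =>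
      Finset.sum_eq_zero fun i _ => by rw [itfix i x (fixZ 3 (by omega) x hx)]; exact hQ x hx
    have νz : ν z = 1 := by
      show ∑ i ∈ Finset.range n, _ = _
      rw [Finset.sum_congr rfl fun i _ => by rw [itfix i z (fixZ 4 (by omega) z hz), hz1],
        Finset.sum_const, Finset.card_range, nsmul_one]
      exact ZMod.natCast_eq_one_iff_odd.2 hn
    have νinv : ∀ x, ν (α x) = ν x := fun x => by
      have h := Finset.sum_range_succ' (fun i => μ ((α : T → T)^[i] x)) n
      rw [Finset.sum_range_succ] at h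
      simp only [hα, Function.iterate_zero_apply] at h
      simp only [ν, ← Function.iterate_succ_apply]
      exact (add_right_cancel h).symm
    intro w hw
    have key : α w * w⁻¹ ∈ Subgroup.upperCentralSeries T 3 := by
      refine H.ker_mu H.Z3_le νadd νQ νz rfl le_rfl ⟨hzW, hz⟩
        (W.mul_mem (hmemW w hw) (W.inv_mem hw)) fun t => ?_
      have a1 := H.W_normal.conj_mem _ (hmemW w hw) t
      have a2 := H.W_normal.conj_mem _ hw t
      have h1 : ν (t * α w * t⁻¹) = ν (t * w * t⁻¹) := by
        rw [← H.mu_conj νadd νQ H.Z3_le (htW t) a1, ← νinv (t * w * t⁻¹)]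
        congr 1
        rw [map_mul, map_mul, map_inv]
        group
      have h2 := νadd _ a1 _ (W.inv_mem a2)
      have h3 : ν (t * w * t⁻¹)⁻¹ = ν (t * w * t⁻¹) := by
        have h4 := νadd _ a2 _ (W.inv_mem a2)
        rw [mul_inv_cancel, νQ 1 (one_mem _)] at h4
        exact (CharTwo.add_eq_zero.1 h4.symm).symm
      rw [show t * (α w * w⁻¹) * t⁻¹ = t * α w * t⁻¹ * (t * w * t⁻¹)⁻¹ by group, h2, h1, h3,
        CharTwo.add_self_eq_zero]
    refine shift w (α w * w⁻¹) ?_ (fixZ 3 (by omega) _ key)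
    rw [← H.comm_Z key hw, inv_mul_cancel_right]
  intro t
  refine shift t (t⁻¹ * α t) (by group) (fixW _ ?_)
  have := H.W_normal.conj_mem _ (htW t) t⁻¹
  simpa [mul_assoc] using this

/-- Let G be a finite group whose Sylow 2-subgroup T has order at least 2^14 and whose upper central series has fourth term of order 16; let W be the centralizer in T of the third term, and suppose the Frattini subgroup of W has order at most 8 and lies in every subgroup of W of index at most 16. Then the normalizer of T in G has a normal 2-complement, and W is weakly closed in T with respect to G. -/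
theorem result {G : Type*} [Group G] [Finite G]
    (T : Sylow 2 G) (ha : 2 ^ 14 ≤ Nat.card ↥(T : Subgroup G))
    (hb : Nat.card ↥(Subgroup.upperCentralSeries ↥(T : Subgroup G) 4) = 16)
    (W : Subgroup ↥(T : Subgroup G))
    (hW : W = Subgroup.centralizer ((Subgroup.upperCentralSeries ↥(T : Subgroup G) 3 : Subgroup ↥(T : Subgroup G)) : Set ↥(T : Subgroup G)))
    (hc : Nat.card ↥(frattini ↥W) ≤ 8)
    (hd : ∀ U : Subgroup ↥W, U.index ≤ 16 → frattini ↥W ≤ U) :
    Cfsg.HasNormalPComplement 2 ↥(Subgroup.normalizer ((T : Subgroup G) : Set G)) ∧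
      Cfsg.IsWeaklyClosed (W.map (T : Subgroup G).subtype) (T : Subgroup G) := by
  have H : Cfsg.Agent.Lib.Inv59.RudT.Hyp ↥(T : Subgroup G) W :=
    ⟨T.isPGroup', ha, hb, hW, hc, hd⟩
  refine ⟨?_, Subgroup.map_subtype_le _, fun g hg => ?_⟩
  · let S : Subgroup G := T
    let N : Subgroup G := Subgroup.normalizer (S : Set G)
    let P : Sylow 2 N := T.subtype Subgroup.le_normalizer
    haveI hPn : (P : Subgroup N).Normal := Subgroup.normal_in_normalizer
    haveI := Fact.mk Nat.prime_two
    obtain ⟨K, hK⟩ := Subgroup.exists_right_complement'_of_coprime P.card_coprime_index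
    have hKodd : Odd (Nat.card K) := by
      rw [← Nat.not_even_iff_odd, even_iff_two_dvd, ← hK.symm.index_eq_card]
      exact P.not_dvd_index
    have hcomm : ∀ k ∈ K, ∀ s : N, s ∈ (P : Subgroup N) → k * s = s * k := by
      intro k hk s hs
      let α : S ≃* S :=
        { toFun := fun x => ⟨(k : G) * x * (k : G)⁻¹, (Subgroup.mem_normalizer_iff.1 k.2 _).1 x.2⟩
          invFun := fun x => ⟨(k : G)⁻¹ * x * (k : G), by
            refine (Subgroup.mem_normalizer_iff.1 k.2 _).2 ?_
            simpa [mul_assoc] using x.2⟩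
          left_inv := fun x => Subtype.ext (by simp [mul_assoc])
          right_inv := fun x => Subtype.ext (by simp [mul_assoc])
          map_mul' := fun x y => Subtype.ext (by simp [mul_assoc]) }
      have hit : ∀ (m : ℕ) (x : S),
          (((α : S → S)^[m] x : S) : G) = (k : G) ^ m * x * ((k : G) ^ m)⁻¹ := by
        intro m
        induction m with
        | zero => simp
        | succ m ih =>
          intro x
          rw [Function.iterate_succ_apply', pow_succ']
          show (k : G) * _ * (k : G)⁻¹ = _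
          rw [ih, mul_inv_rev]; group
      have hord : (k : G) ^ Nat.card K = 1 := by
        have h := congrArg (fun x : K => ((x : N) : G)) (pow_card_eq_one' (x := (⟨k, hk⟩ : K)))
        simpa only [Subgroup.coe_pow, Subgroup.coe_one] using h
      have h := congrArg Subtype.val
        (odd_aut_trivial H α hKodd (fun x => Subtype.ext (by rw [hit, hord]; simp)) ⟨s, hs⟩)
      exact Subtype.ext (mul_inv_eq_iff_eq_mul.1 h)
    refine ⟨P, K, ⟨fun k hk g => ?_⟩, hK.symm⟩
    obtain ⟨⟨⟨s, hs⟩, ⟨l, hl⟩⟩, hsl⟩ := hK.2 g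
    rw [← hsl]
    show s * l * k * (s * l)⁻¹ ∈ K
    rw [show s * l * k * (s * l)⁻¹ = s * (l * k * l⁻¹) * s⁻¹ by group,
      ← hcomm _ (K.mul_mem (K.mul_mem hl hk) (K.inv_mem hl)) s hs, mul_inv_cancel_right]
    exact K.mul_mem (K.mul_mem hl hk) (K.inv_mem hl)
  · haveI := H.W_normal
    let c : G →* G := (MulAut.conj g).toMonoidHom
    let W₁ : Subgroup ↥(T : Subgroup G) := ((W.map (T : Subgroup G).subtype).map c).subgroupOf (T : Subgroup G)
    let Z₁ : Subgroup ↥(T : Subgroup G) :=
      (((Subgroup.upperCentralSeries ↥(T : Subgroup G) 3).map (T : Subgroup G).subtype).map c).subgroupOf (T : Subgroup G)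
    have hinj : Function.Injective c := (MulAut.conj g).injective
    have hW₁ : W₁.map (T : Subgroup G).subtype = (W.map (T : Subgroup G).subtype).map c := by
      rw [Subgroup.map_subgroupOf_eq_of_le hg]
    have hcard : Nat.card W₁ = Nat.card W := by
      rw [← Subgroup.card_map_of_injective (T : Subgroup G).subtype_injective, hW₁,
        Subgroup.card_map_of_injective hinj, Subgroup.card_map_of_injective (T : Subgroup G).subtype_injective]
    have hidx : W₁.index = 8 := by
      have h := Subgroup.card_mul_index W₁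
      rw [hcard, H.card_eq.1, H.card_eq.2.2] at h
      omega
    have hD : Nat.card W ≤ 8 * Nat.card ↥(W ⊓ W₁ : Subgroup ↥(T : Subgroup G)) := by
      have h := Subgroup.card_mul_index (W ⊓ W₁)
      have h2 : (W ⊓ W₁).index ≤ 64 := by
        have h3 := Subgroup.index_inf_le (H := W) (K := W₁)
        rwa [H.card_eq.2.1, hidx] at h3
      rw [H.card_eq.2.2] at h
      rw [H.card_eq.1]
      have h4 : Nat.card ↥(W ⊓ W₁ : Subgroup ↥(T : Subgroup G)) * (W ⊓ W₁).index ≤
          Nat.card ↥(W ⊓ W₁ : Subgroup ↥(T : Subgroup G)) * 64 := Nat.mul_le_mul_left _ h2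
      omega
    have hmemW₁ : ∀ {x : ↥(T : Subgroup G)}, x ∈ W₁ → ∃ w : ↥(T : Subgroup G), w ∈ W ∧ (x : G) = g * w * g⁻¹ := by
      intro x hx
      obtain ⟨_, ⟨w, hw, rfl⟩, hwx⟩ := hx
      exact ⟨w, hw, hwx.symm⟩
    have hZW₁ : Z₁ ≤ W₁ := by
      intro x hx
      obtain ⟨_, ⟨w, hw, rfl⟩, hwx⟩ := hx
      exact ⟨_, ⟨w, H.Z3_le hw, rfl⟩, hwx⟩
    have hsub : Subgroup.upperCentralSeries ↥(T : Subgroup G) 3 ≤ W ⊓ W₁ := by
      intro x hx
      exact H.phi_le_of_card inf_le_left (by omega) (H.phi_eq ▸ hx)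
    have hZ : Subgroup.upperCentralSeries ↥(T : Subgroup G) 3 ≤ Z₁ := by
      intro y hy
      by_contra hy'
      refine H.no_sub (A := W ⊓ W₁) (Y := Subgroup.upperCentralSeries ↥(T : Subgroup G) 3 ⊓ Z₁) inf_le_left
        (fun x hx => ⟨H.Z3_le hx.1, hZW₁ hx.2⟩) (fun x hx => ⟨H.sq_mem hx.1, ?_⟩) (hsub hy)
        (fun h => hy' h.2) (H.phi_eq ▸ hy) hD
      obtain ⟨w, hw, hwx⟩ := hmemW₁ hx.2
      refine ⟨_, ⟨w * w, H.sq_mem hw, rfl⟩, ?_⟩
      show g * ((w * w : ↥(T : Subgroup G)) : G) * g⁻¹ = ((x * x : ↥(T : Subgroup G)) : G)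
      rw [Subgroup.coe_mul, Subgroup.coe_mul, hwx]; group
    have hle : W₁ ≤ W := by
      intro x hx
      rw [hW, Subgroup.mem_centralizer_iff]
      intro z hz
      obtain ⟨w, hw, hwx⟩ := hmemW₁ hx
      obtain ⟨_, ⟨v, hv, rfl⟩, hvz⟩ := hZ hz
      have hcz := congrArg Subtype.val (H.comm_Z hv hw)
      have hvz' : (z : G) = g * (v : G) * g⁻¹ := hvz.symm
      apply Subtype.ext
      rw [Subgroup.coe_mul, Subgroup.coe_mul, hwx, hvz']
      calc g * (v : G) * g⁻¹ * (g * (w : G) * g⁻¹) = g * ((v * w : ↥(T : Subgroup G)) : G) * g⁻¹ := by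
            rw [Subgroup.coe_mul]; group
        _ = g * ((w * v : ↥(T : Subgroup G)) : G) * g⁻¹ := by rw [hcz]
        _ = g * (w : G) * g⁻¹ * (g * (v : G) * g⁻¹) := by rw [Subgroup.coe_mul]; group
    have heq : W₁ = W := Subgroup.eq_of_le_of_card_ge hle hcard.ge
    rw [← hW₁, heq]

end Cfsg.Agent.S3175
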