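import Cfsg.Statements.S3179
import Mathlib
import Cfsg.Agent.Lib.Linear.Order
import Cfsg.Agent.Lib.Linear.SL2
import Cfsg.Agent.Lib.Unitary.Order
import Cfsg.Agent.Lib.Unitary.Transvection
import Cfsg.Agent.S1163

set_option autoImplicit false
open Cfsg

namespace Cfsg.Agent.S3179

/-- a permutation with `σ^9 = 1` moves a multiple of nine points by `σ^3` -/
theorem nine_dvd {α : Type*} [Fintype α] [DecidableEq α] (σ : Equiv.Perm α) (h9 : σ ^ 9 = 1) :
    9 ∣ (σ ^ 3).support.card := by
  classical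
  set p : α → Prop := fun x => (σ ^ 3) x ≠ x with hp
  have hinv : ∀ x, p (σ x) ↔ p x := by
    intro x
    simp only [hp]
    rw [show (σ ^ 3) (σ x) = σ ((σ ^ 3) x) by rw [← Equiv.Perm.mul_apply, ← Equiv.Perm.mul_apply]; rfl]
    exact not_congr σ.injective.eq_iff
  set τ : Equiv.Perm {x // p x} := σ.subtypePerm hinv with hτ
  have hτ9 : τ ^ 9 = 1 := by
    rw [hτ, Equiv.Perm.subtypePerm_pow]
    ext x
    simp [h9]
  have hfree : ∀ x : {x // p x}, (τ ^ 3) x ≠ x := by
    intro x h
    apply x.2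
    have := congrArg Subtype.val h
    rwa [hτ, Equiv.Perm.subtypePerm_pow] at this
  have hsupp : τ.support = Finset.univ := by
    ext x
    simp only [Equiv.Perm.mem_support, Finset.mem_univ, iff_true]
    intro h
    apply hfree x
    simp [pow_succ, Equiv.Perm.mul_apply, h]
  have hcyc : ∀ n ∈ τ.cycleType, n = 9 := by
    intro n hn
    have h1 : n ∣ 9 := (Equiv.Perm.dvd_of_mem_cycleType hn).trans (orderOf_dvd_of_pow_eq_one hτ9)
    have h2 : 2 ≤ n := Equiv.Perm.two_le_of_mem_cycleType hn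
    have h3 : n = 3 ∨ n = 9 := by
      have hle := Nat.le_of_dvd (by norm_num) h1
      interval_cases n <;> omega
    rcases h3 with rfl | rfl
    · exfalso
      rw [Equiv.Perm.cycleType_def, Multiset.mem_map] at hn
      obtain ⟨c, hc, hc3⟩ := hn
      have hc' : c ∈ τ.cycleFactorsFinset := hc
      obtain ⟨x, hx⟩ := (Equiv.Perm.mem_cycleFactorsFinset_iff.1 hc').1.nonempty_support
      apply hfree x
      have hsame : c = τ.cycleOf x := Equiv.Perm.cycle_is_cycleOf hx hc'
      rw [← Equiv.Perm.cycleOf_pow_apply_self, ← hsame]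
      have h3 : orderOf c = 3 := by
        rw [(Equiv.Perm.mem_cycleFactorsFinset_iff.1 hc').1.orderOf]; exact hc3
      rw [← h3, pow_orderOf_eq_one, Equiv.Perm.one_apply]
    · rfl
  have hsum := Equiv.Perm.sum_cycleType τ
  rw [hsupp, Finset.card_univ, Multiset.eq_replicate_card.2 hcyc, Multiset.sum_replicate, smul_eq_mul] at hsum
  have hcard : (σ ^ 3).support.card = Fintype.card {x // p x} := by
    rw [Fintype.card_subtype]
    rfl
  rw [hcard, ← hsum]
  exact dvd_mul_left 9 _

/-- `GL₅(2)` has no element of order nine -/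
theorem pow_three_eq_one (g : GL (Fin 5) (ZMod 2)) (h : g ^ 9 = 1) : g ^ 3 = 1 := by
  classical
  set L : Matrix (Fin 5) (Fin 5) (ZMod 2) →* Module.End (ZMod 2) (Fin 5 → ZMod 2) :=
    (Matrix.toLinAlgEquiv' : Matrix (Fin 5) (Fin 5) (ZMod 2) ≃ₐ[ZMod 2] _).toMonoidHom with hL
  set ρ : GL (Fin 5) (ZMod 2) →* Equiv.Perm (Fin 5 → ZMod 2) :=
    { toFun := fun g => (Matrix.GeneralLinearGroup.toLin g).toLinearEquiv.toEquiv
      map_one' := by ext v; simp
      map_mul' := fun a b => by ext v; simp } with hρ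
  have hρv : ∀ (g : GL (Fin 5) (ZMod 2)) (v : Fin 5 → ZMod 2), ρ g v = Matrix.mulVec g.1 v := by
    intro g v; rfl
  set σ := ρ g with hσ
  have h9 : σ ^ 9 = 1 := by rw [hσ, ← map_pow, h, map_one]
  have hd := nine_dvd σ h9
  -- fixed points form a subgroup
  set W : AddSubgroup (Fin 5 → ZMod 2) :=
    { carrier := {v | Matrix.mulVec (g ^ 3).1 v = v}
      add_mem' := fun {a b} ha hb => by
        simp only [Set.mem_ofPred_eq] at ha hb ⊢; rw [Matrix.mulVec_add, ha, hb]
      zero_mem' := by simp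
      neg_mem' := fun {a} ha => by
        simp only [Set.mem_ofPred_eq] at ha ⊢; rw [Matrix.mulVec_neg, ha] } with hW
  have hsplit : (σ ^ 3).support.card + Nat.card W = 32 := by
    have e : Nat.card W = ((σ ^ 3).support)ᶜ.card := by
      rw [← Nat.card_eq_finsetCard]
      refine Nat.card_congr (Equiv.subtypeEquivRight fun v => ?_)
      rw [Finset.mem_compl, Equiv.Perm.mem_support, not_not, hσ, ← map_pow, hρv]
      rfl
    rw [e, Finset.card_add_card_compl]
    simp
  have hW32 : Nat.card W ∣ 32 := by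
    have := AddSubgroup.card_addSubgroup_dvd_card W
    simpa using this
  have hfull : Nat.card W = 32 := by
    have := Nat.le_of_dvd (by norm_num) hW32
    have hmem : Nat.card W ∈ Nat.divisors 32 := Nat.mem_divisors.2 ⟨hW32, by norm_num⟩
    rw [show Nat.divisors 32 = {1, 2, 4, 8, 16, 32} by decide] at hmem
    simp only [Finset.mem_insert, Finset.mem_singleton] at hmem
    omega
  have hall : ∀ v, Matrix.mulVec (g ^ 3).1 v = v := by
    intro v
    have : W = ⊤ := AddSubgroup.eq_top_of_card_eq W (by rw [hfull]; simp)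
    have hv : v ∈ W := this ▸ AddSubgroup.mem_top v
    exact hv
  apply Units.ext
  exact Matrix.ext_iff_mulVec.2 fun v => (hall v).trans (Matrix.one_mulVec v).symm

theorem card_GL52 : Nat.card (GL (Fin 5) (ZMod 2)) = 9999360 := by
  rw [Matrix.card_GL_field, ZMod.card, Fin.prod_univ_five]
  norm_num

theorem two_pow_le {n : ℕ} (h : 2 ^ n ∣ 9999360) : n ≤ 10 := by
  by_contra hn
  have : 2 ^ 11 ∣ 9999360 := (pow_dvd_pow 2 (by omega)).trans h
  norm_num at this

/-- Let X be a section of the general linear group GL(5, 2), that is, a quotient of a subgroup of it. If X is isomorphic to PSL(2, 2^n) for some n ≥ 2, to a Suzuki group over the field with 2^(2m+1) elements for some m ≥ 1, or to PSU(3, 2^n) for some n ≥ 2, then X is isomorphic to PSL(2, 4). -/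
theorem result {H : Subgroup (GL (Fin 5) (ZMod 2))}
    {K : Subgroup ↥H} [K.Normal]
    (hX : (∃ (n : ℕ) (F : Type) (_ : Field F) (_ : Fintype F), 2 ≤ n ∧ Fintype.card F = 2 ^ n ∧
        Nonempty (↥H ⧸ K ≃* Matrix.ProjectiveSpecialLinearGroup (Fin 2) F)) ∨
      (∃ (m : ℕ) (F : Type) (_ : Field F) (_ : Fintype F), 1 ≤ m ∧ Fintype.card F = 2 ^ (2 * m + 1) ∧
        Nonempty (↥H ⧸ K ≃* ↥(Cfsg.Lie.Sz F (2 ^ (m + 1))))) ∨
      (∃ (n : ℕ) (F : Type) (_ : Field F) (_ : Fintype F), 2 ≤ n ∧ Fintype.card F = 4 ^ n ∧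
        Nonempty (↥H ⧸ K ≃* Cfsg.PSU 3 F (2 ^ n)))) :
    ∃ (F : Type) (_ : Field F) (_ : Fintype F), Fintype.card F = 4 ∧
      Nonempty (↥H ⧸ K ≃* Matrix.ProjectiveSpecialLinearGroup (Fin 2) F) := by
  classical
  have hdvd : Nat.card (↥H ⧸ K) ∣ 9999360 := by
    rw [← card_GL52]
    exact ((Subgroup.card_eq_card_quotient_mul_card_subgroup K).symm ▸ dvd_mul_right _ _).trans
      (Subgroup.card_subgroup_dvd_card H)
  rcases hX with ⟨n, F, hfd, hft, hn, hF, ⟨e⟩⟩ | ⟨m, F, hfd, hft, hm, hF, ⟨e⟩⟩ | ⟨n, F, hfd, hft, hn, hF, ⟨e⟩⟩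
  · rw [Nat.card_congr e.toEquiv,
      Cfsg.Agent.Lib.Linear.card_PSL_two_of_even (hF ▸ (even_two.pow_of_ne_zero (by omega))), hF] at hdvd
    have hn10 : n ≤ 10 := two_pow_le ((dvd_mul_right _ _).trans ((dvd_mul_right _ _).trans hdvd))
    have hn23 : n = 2 ∨ n = 3 := by
      interval_cases n <;> first | omega | (exfalso; norm_num at hdvd)
    rcases hn23 with rfl | rfl
    · exact ⟨F, hfd, hft, by rw [hF]; norm_num, ⟨e⟩⟩
    · exfalso
      obtain ⟨x, hx⟩ := Cfsg.Agent.Lib.Linear.exists_orderOf_eq_card_add_one (F := F)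
      rw [hF] at hx
      set π := QuotientGroup.mk' (Subgroup.center (Matrix.SpecialLinearGroup (Fin 2) F))
      have hcard : Nat.card (Matrix.SpecialLinearGroup (Fin 2) F) =
          Nat.card (Matrix.ProjectiveSpecialLinearGroup (Fin 2) F) := by
        rw [Cfsg.Agent.Lib.Linear.card_SL_two,
          Cfsg.Agent.Lib.Linear.card_PSL_two_of_even (hF ▸ (even_two.pow_of_ne_zero (by omega)))]
      have hinj : Function.Injective π :=
        ((Nat.bijective_iff_surjective_and_card _).2 ⟨QuotientGroup.mk'_surjective _, hcard⟩).1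
      obtain ⟨y, hy⟩ := QuotientGroup.mk'_surjective K (e.symm (π x))
      have hy9 : 9 ∣ orderOf ((y : GL (Fin 5) (ZMod 2))) := by
        rw [Subgroup.orderOf_coe]
        have h1 := orderOf_map_dvd (QuotientGroup.mk' K) y
        rw [hy, MulEquiv.orderOf_eq, orderOf_injective π hinj, hx] at h1
        norm_num at h1
        exact h1
      set g := (y : GL (Fin 5) (ZMod 2)) ^ (orderOf ((y : GL (Fin 5) (ZMod 2))) / 9)
      have hg : orderOf g = 9 := orderOf_pow_orderOf_div (orderOf_pos _).ne' hy9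
      have := orderOf_dvd_of_pow_eq_one (pow_three_eq_one g (by rw [← hg, pow_orderOf_eq_one]))
      rw [hg] at this
      norm_num at this
  · exfalso
    rw [Nat.card_congr e.toEquiv, (Cfsg.Agent.S1163.result hm hF).1, ← pow_mul] at hdvd
    have h10 : (2 * m + 1) * 2 ≤ 10 := two_pow_le ((dvd_mul_right _ _).trans ((dvd_mul_right _ _).trans hdvd))
    have : m ≤ 2 := by omega
    interval_cases m <;> norm_num at hdvd
  · exfalso
    have hq : Fintype.card F = (2 ^ n) ^ 2 := by rw [hF, ← pow_mul, mul_comm, pow_mul]; norm_num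
    have h1 := Cfsg.Agent.Lib.Unitary.card_PSU (F := F) hq (n := 3) (by norm_num)
    have h2 := Cfsg.Agent.Lib.Unitary.card_SU (F := F) hq (n := 3) (by norm_num)
    rw [← Nat.card_congr e.toEquiv] at h1
    rw [← h1, Cfsg.Agent.Lib.Unitary.card_GU hq, Finset.prod_range_succ, Finset.prod_range_succ,
      Finset.prod_range_one] at h2
    simp only [Nat.reduceAdd, Nat.reduceMul, Nat.reduceSub, Nat.reduceDiv, zero_add, pow_one,
      if_true, if_false, Even.zero, show ¬ Even 1 from by decide, show Even 2 from by decide] at h2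
    have h3 : Nat.gcd 3 (2 ^ n + 1) ∣ 3 := Nat.gcd_dvd_left _ _
    have h4 : ((2 ^ n) ^ 2 - 1) * ((2 ^ n) ^ 3 + 1) * (2 ^ n) ^ 3 ∣ 3 * 9999360 := by
      refine dvd_trans ?_ (mul_dvd_mul h3 hdvd)
      refine dvd_of_eq ?_
      apply Nat.eq_of_mul_eq_mul_left (show 0 < 2 ^ n + 1 by positivity)
      rw [h2]
      ring
    have h5 : n * 3 ≤ 10 := by
      apply two_pow_le
      rw [pow_mul]
      have : Nat.Coprime ((2 ^ n) ^ 3) 3 := by
        rw [← pow_mul]; exact Nat.Coprime.pow_left _ (by norm_num)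
      exact this.dvd_of_dvd_mul_left ((dvd_mul_left _ _).trans h4)
    have : n ≤ 3 := by omega
    interval_cases n <;> norm_num at h4

end Cfsg.Agent.S3179
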