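import Cfsg.Statements.S3180
import Mathlib
import Cfsg.Agent.Lib.Inv59.Basic

set_option autoImplicit false
open Cfsg

namespace Cfsg.Agent.S3180

/-- Let P be a Sylow p-subgroup of a finite group J and P₁ a subgroup of P that is weakly closed in P with respect to J. If J acts on a set and two points, each fixed by every element of P₁, lie in one J-orbit, then they lie in one orbit of the normalizer of P₁ in J. -/
theorem result {J : Type*} [Group J] [Finite J]
    {p : ℕ} [Fact p.Prime] (P : Sylow p J) (P₁ : Subgroup J) (hW : Cfsg.IsWeaklyClosed P₁ (P : Subgroup J))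
    {Ω : Type*} [MulAction J Ω] (x y : Ω) (hx : ∀ g ∈ P₁, g • x = x) (hy : ∀ g ∈ P₁, g • y = y)
    (hc : ∃ g : J, g • x = y) :
    ∃ g ∈ Subgroup.normalizer (P₁ : Set J), g • x = y := by
  obtain ⟨g, hg⟩ := hc
  let H : Subgroup J := MulAction.stabilizer J y
  have h1H : P₁ ≤ H := fun a ha => MulAction.mem_stabilizer_iff.2 (hy a ha)
  have hP₁ : IsPGroup p ↥P₁ := P.isPGroup'.to_le hW.1
  let W' := P₁.map (MulAut.conj g).toMonoidHom
  have h2H : W' ≤ H := by
    rintro _ ⟨a, ha, rfl⟩
    refine MulAction.mem_stabilizer_iff.2 ?_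
    show (g * a * g⁻¹) • y = y
    rw [← hg, mul_smul, mul_smul, inv_smul_smul, hx a ha]
  obtain ⟨Q, hQ⟩ := (hP₁.comap_subtype (K := H)).exists_le_sylow
  obtain ⟨T, hT⟩ := ((hP₁.map (MulAut.conj g).toMonoidHom).comap_subtype (K := H)).exists_le_sylow
  obtain ⟨h, hh⟩ := MulAction.exists_smul_eq ↥H T Q
  have key := Cfsg.Agent.Lib.Inv59.Basic.normalizes_of_weaklyClosed P P₁ hW
    ((Q : Subgroup ↥H).map H.subtype) (Q.isPGroup'.map _)
    (fun a ha => ⟨⟨a, h1H ha⟩, hQ ha, rfl⟩) ((h : J) * g) ?_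
  · refine ⟨(h : J) * g, ?_, ?_⟩
    · rw [Subgroup.mem_normalizer_iff]
      intro a
      constructor
      · intro ha
        rw [← key]
        exact ⟨a, ha, rfl⟩
      · intro ha
        obtain ⟨b, hb, hb'⟩ := key.ge ha
        have : b = a := by
          have := hb'
          simpa [mul_assoc] using this
        rwa [← this]
    · rw [mul_smul, hg]
      exact MulAction.mem_stabilizer_iff.1 h.2
  · rintro _ ⟨a, ha, rfl⟩
    have hb : g * a * g⁻¹ ∈ W' := ⟨a, ha, rfl⟩
    refine ⟨MulAut.conj h ⟨_, h2H hb⟩, ?_, by simp [mul_assoc]⟩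
    rw [← hh, SetLike.mem_coe, Sylow.coe_subgroup_smul]
    exact Subgroup.smul_mem_pointwise_smul _ _ _ (hT hb)

end Cfsg.Agent.S3180
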