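import Cfsg.Statements.S3190
import Mathlib
import Cfsg.Agent.Lib.Inv59.Basic

set_option autoImplicit false
open Cfsg

namespace Cfsg.Agent.S3190

/-- Let p be an odd prime and, inside a finite group, let P be a p-subgroup normalized by a Klein four-group T. Let R be a subgroup of P, normal in P and normalized by T, such that P is the product of R with the centralizer of T in P. If T centralizes the centre of P, then T centralizes the centre of R. -/
theorem result {X : Type*} [Group X] [Finite X]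
    {p : ℕ} (hp : p.Prime) (hodd : Odd p) (P T R : Subgroup X) (hP : IsPGroup p ↥P) (hT : IsKleinFour ↥T)
    (hTP : T ≤ Subgroup.normalizer (P : Set X)) (hRP : R ≤ P) (hRn : (R.subgroupOf P).Normal)
    (hTR : T ≤ Subgroup.normalizer (R : Set X)) (hfac : R ⊔ (P ⊓ Subgroup.centralizer (T : Set X)) = P)
    (hZ : T ≤ Subgroup.centralizer (((Subgroup.center ↥P).map P.subtype : Subgroup X) : Set X)) :
    T ≤ Subgroup.centralizer (((Subgroup.center ↥R).map R.subtype : Subgroup X) : Set X) := by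
  haveI : Fact p.Prime := ⟨hp⟩
  intro t ht
  have ht2 : t * t = 1 := by
    have h := Monoid.pow_exponent_eq_one (⟨t, ht⟩ : ↥T)
    rw [IsKleinFour.exponent_two, sq] at h
    exact congrArg Subtype.val h
  have ht' : t⁻¹ = t := inv_eq_of_mul_eq_one_left ht2
  set ZR : Subgroup X := (Subgroup.center ↥R).map R.subtype with hZR
  have hcomm : ∀ z ∈ ZR, ∀ r ∈ R, r * z = z * r := by
    rintro _ ⟨z, hz, rfl⟩ r hr
    exact congrArg Subtype.val (Subgroup.mem_center_iff.1 hz ⟨r, hr⟩)
  have hZRR : ZR ≤ R := Subgroup.map_subtype_le _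
  have hmem : ∀ z ∈ R, (∀ r ∈ R, r * z = z * r) → z ∈ ZR := fun z hz h =>
    ⟨⟨z, hz⟩, Subgroup.mem_center_iff.2 (fun r => Subtype.ext (h r r.2)), rfl⟩
  have hnorm : ∀ g : X, g ∈ Subgroup.normalizer (R : Set X) → ∀ z ∈ ZR, g * z * g⁻¹ ∈ ZR := by
    intro g hg z hz
    refine hmem _ ((Subgroup.mem_normalizer_iff.1 hg z).1 (hZRR hz)) (fun r hr => ?_)
    have hr' : g⁻¹ * r * g ∈ R := (Subgroup.mem_normalizer_iff.1 hg _).2 (by simpa [mul_assoc] using hr)
    calc r * (g * z * g⁻¹) = g * ((g⁻¹ * r * g) * z) * g⁻¹ := by group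
      _ = g * (z * (g⁻¹ * r * g)) * g⁻¹ := by rw [hcomm z hz _ hr']
      _ = _ := by group
  have hPN : P ≤ Subgroup.normalizer (R : Set X) :=
    (Subgroup.normal_subgroupOf_iff_le_normalizer hRP).1 hRn
  -- elements of Z(R) inverted by t
  let M : Subgroup X :=
    { carrier := {z | z ∈ ZR ∧ t * z * t = z⁻¹}
      one_mem' := ⟨one_mem _, by simp [ht2]⟩
      mul_mem' := by
        rintro a b ⟨ha, ha'⟩ ⟨hb, hb'⟩
        refine ⟨mul_mem ha hb, ?_⟩
        calc t * (a * b) * t = t * a * (t * t) * b * t := by rw [ht2, mul_one]; group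
          _ = (t * a * t) * (t * b * t) := by group
          _ = (b * a)⁻¹ := by rw [ha', hb', mul_inv_rev]
          _ = (a * b)⁻¹ := by rw [hcomm a ha b (hZRR hb)]
      inv_mem' := by
        rintro a ⟨ha, ha'⟩
        refine ⟨inv_mem ha, ?_⟩
        calc t * a⁻¹ * t = (t⁻¹ * a * t⁻¹)⁻¹ := by group
          _ = _ := by rw [ht', ha'] }
  have hMP : M ≤ P := fun z hz => hRP (hZRR hz.1)
  haveI hMn : (M.subgroupOf P).Normal := by
    rw [Subgroup.normal_subgroupOf_iff_le_normalizer hMP, ← hfac, sup_le_iff]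
    constructor
    · intro r hr
      refine Subgroup.mem_normalizer_iff.2 (fun z => ?_)
      have key : ∀ r ∈ R, ∀ z ∈ M, r * z * r⁻¹ ∈ M := by
        intro r hr z hz
        have : r * z * r⁻¹ = z := by rw [hcomm z hz.1 r hr]; group
        rwa [this]
      refine ⟨key r hr z, fun h => ?_⟩
      have := key r⁻¹ (inv_mem hr) _ h
      simpa [mul_assoc] using this
    · rintro c ⟨hcP, hcT⟩
      refine Subgroup.mem_normalizer_iff.2 (fun z => ?_)
      have key : ∀ c ∈ P, c * t = t * c → ∀ z ∈ M, c * z * c⁻¹ ∈ M := by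
        intro c hcP hct z hz
        refine ⟨hnorm c (hPN hcP) z hz.1, ?_⟩
        have hct' : c⁻¹ * t = t * c⁻¹ := by
          calc c⁻¹ * t = c⁻¹ * (t * c) * c⁻¹ := by group
            _ = _ := by rw [← hct]; group
        calc t * (c * z * c⁻¹) * t = (t * c) * z * (c⁻¹ * t) := by group
          _ = c * (t * z * t) * c⁻¹ := by rw [← hct, hct']; group
          _ = _ := by rw [hz.2]; group
      have hct : c * t = t * c := (hcT t ht).symm
      refine ⟨key c hcP hct z, fun h => ?_⟩
      have hct' : c⁻¹ * t = t * c⁻¹ := by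
        calc c⁻¹ * t = c⁻¹ * (t * c) * c⁻¹ := by group
          _ = _ := by rw [← hct]; group
      have := key c⁻¹ (inv_mem hcP) hct' _ h
      simpa [mul_assoc] using this
  have hMbot : M.subgroupOf P = ⊥ := by
    by_contra hne
    obtain ⟨z, hzM, hzc, hz1⟩ := Cfsg.Agent.Lib.Inv59.Basic.exists_central_mem hP _ hne
    apply hz1
    have h1 : (z : X) * t = t * z := hZ ht _ ⟨z, hzc, rfl⟩
    have h2 : (z : X) = (z : X)⁻¹ := by
      calc (z : X) = (z : X) * (t * t) := by rw [ht2, mul_one]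
        _ = t * (z : X) * t := by rw [← mul_assoc, h1]
        _ = _ := hzM.2
    have h3 : z ^ 2 = 1 := by
      apply Subtype.ext
      simp only [SubmonoidClass.coe_pow, sq, OneMemClass.coe_one]
      exact mul_eq_one_iff_eq_inv.2 h2
    obtain ⟨k, hk⟩ := hP z
    obtain ⟨m, hm⟩ := hodd.pow (n := k)
    rw [hm, pow_succ, pow_mul, h3, one_pow, one_mul] at hk
    exact hk
  intro z hz
  have htN : t ∈ Subgroup.normalizer (R : Set X) := hTR ht
  have hw : z⁻¹ * (t * z * t⁻¹) ∈ M := by
    refine ⟨mul_mem (inv_mem hz) (hnorm t htN z hz), ?_⟩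
    have e1 : t * (z⁻¹ * (t * z * t⁻¹)) * t = t * z⁻¹ * t⁻¹ * z := by
      rw [ht']
      calc t * (z⁻¹ * (t * z * t)) * t = t * z⁻¹ * t * z * (t * t) := by group
        _ = _ := by rw [ht2, mul_one]
    rw [e1]
    group
  have h0 : (⟨_, hMP hw⟩ : ↥P) ∈ M.subgroupOf P := hw
  rw [hMbot, Subgroup.mem_bot] at h0
  have h1 : z⁻¹ * (t * z * t⁻¹) = 1 := congrArg Subtype.val h0
  have h2 : z = t * z * t⁻¹ := inv_mul_eq_one.1 h1
  calc z * t = (t * z * t⁻¹) * t := by rw [← h2]
    _ = t * z := by group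

end Cfsg.Agent.S3190
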