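import Cfsg.Statements.S3194
import Cfsg.Agent.Lib.RankFive54.Main
import Cfsg.Agent.S3192

set_option autoImplicit false
open Cfsg

namespace Cfsg.Agent.S3194

/-- Simple groups of conjugate type rank five that are not three-headed. Let G be a non-abelian finite simple group and let I be the set of indices of the centralizers of the non-central elements of G. Suppose I has exactly five members, and that the number of members a of I that no other member of I divides is not three. Then G is isomorphic to a Suzuki group over the field with 2^(2n+1) elements for some n ≥ 1, or to PSL(3, 4). -/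
theorem result {G : Type*} [Group G] [Finite G]
    [IsSimpleGroup G] (hG : ¬ IsMulCommutative G)
    (h5 : Set.ncard {m : ℕ | ∃ x : G, x ∉ Subgroup.center G ∧ m = (Subgroup.centralizer ({x} : Set G)).index} = 5)
    (h3 : Set.ncard {a : ℕ | a ∈ {m : ℕ | ∃ x : G, x ∉ Subgroup.center G ∧ m = (Subgroup.centralizer ({x} : Set G)).index} ∧
      ∀ c ∈ {m : ℕ | ∃ x : G, x ∉ Subgroup.center G ∧ m = (Subgroup.centralizer ({x} : Set G)).index}, c ∣ a → c = a} ≠ 3) :
    (∃ (n : ℕ) (F : Type) (_ : Field F) (_ : Fintype F), 1 ≤ n ∧ Fintype.card F = 2 ^ (2 * n + 1) ∧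
        Nonempty (G ≃* ↥(Cfsg.Lie.Sz F (2 ^ (n + 1))))) ∨
      ∃ (F : Type) (_ : Field F) (_ : Fintype F), Fintype.card F = 4 ∧
        Nonempty (G ≃* Matrix.ProjectiveSpecialLinearGroup (Fin 3) F) := by
  classical
  have hh5 := h5
  rw [Cfsg.Agent.S3192.ncard_index_set hG] at hh5
  have hmax : Lib.RankFive54.Main.maxs G = {v | v ∈ Lib.RankFour54.Cross.vals G ∧
      ∀ w ∈ Lib.RankFour54.Cross.vals G, v ∣ w → w = v} := rfl
  have hdiv : ∀ x y : G, Nat.card G / Lib.Inv59.RankThree.cn y ∣ Nat.card G / Lib.Inv59.RankThree.cn x →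
      Lib.Inv59.RankThree.cn x ∣ Lib.Inv59.RankThree.cn y := by
    intro x y h
    rw [← Lib.Inv59.RankThree.cn_mul_index x] at h
    rw [Nat.mul_div_cancel_left _ (Lib.Inv59.RankThree.cn_pos x), Lib.Inv59.RankThree.cn_mul_index x,
      ← Lib.Inv59.RankThree.cn_mul_index y, Nat.mul_div_cancel_left _ (Lib.Inv59.RankThree.cn_pos y)] at h
    obtain ⟨k, hk⟩ := h
    refine ⟨k, Nat.eq_of_mul_eq_mul_right
      (Nat.pos_of_ne_zero (Subgroup.index_ne_zero_of_finite (H := Subgroup.centralizer ({y} : Set G)))) ?_⟩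
    rw [Lib.Inv59.RankThree.cn_mul_index y, ← Lib.Inv59.RankThree.cn_mul_index x, hk]
    ring
  have hback : ∀ x y : G, Lib.Inv59.RankThree.cn x ∣ Lib.Inv59.RankThree.cn y →
      Nat.card G / Lib.Inv59.RankThree.cn y ∣ Nat.card G / Lib.Inv59.RankThree.cn x := fun x y h =>
    Nat.div_dvd_div_left (Subgroup.card_subgroup_dvd_card _) h
  have hmcard : (Lib.RankFive54.Main.maxs G).ncard ≠ 3 := by
    intro h
    refine h3 ?_
    rw [Cfsg.Agent.S3192.index_set hG]
    rw [← h, hmax]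
    refine Eq.trans (congrArg Set.ncard ?_) (Set.InjOn.ncard_image ?_
      (f := fun n => Nat.card G / n))
    · ext m
      constructor
      · rintro ⟨⟨v, hv, rfl⟩, hmin⟩
        refine ⟨v, ⟨hv, fun w hw hvw => ?_⟩, rfl⟩
        obtain ⟨x, -, rfl⟩ := hv
        obtain ⟨y, hy, rfl⟩ := hw
        refine Nat.dvd_antisymm (hdiv y x ?_) hvw
        exact dvd_of_eq (hmin _ ⟨_, ⟨y, hy, rfl⟩, rfl⟩ (hback x y hvw)).symm
      · rintro ⟨v, ⟨hv, hmaxv⟩, rfl⟩
        refine ⟨⟨v, hv, rfl⟩, ?_⟩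
        rintro _ ⟨w, hw, rfl⟩ hd
        obtain ⟨x, -, rfl⟩ := hv
        obtain ⟨y, hy, rfl⟩ := hw
        show Nat.card G / _ = Nat.card G / _
        rw [hmaxv _ ⟨y, hy, rfl⟩ (hdiv x y hd)]
    · rintro _ ⟨⟨x, -, rfl⟩, -⟩ _ ⟨⟨y, -, rfl⟩, -⟩ h
      exact Nat.dvd_antisymm (hdiv x y (dvd_of_eq h.symm)) (hdiv y x (dvd_of_eq h))
  rcases Lib.RankFive54.Main.classify hG hh5 hmcard with ⟨F, hF, hFt, n, hn, hc, he⟩ | h
  · exact Or.inl ⟨n, F, hF, hFt, hn, hc, he⟩
  · exact Or.inr h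

end Cfsg.Agent.S3194
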