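import Cfsg.Statements.S3195
import Mathlib
import Cfsg.Agent.Lib.Involutions.BaerSuzuki
import Cfsg.Agent.Lib.Cores.Basic

set_option autoImplicit false
open Cfsg

namespace Cfsg.Agent.S3195

section aux
variable {G : Type*} [Group G]

theorem sq_eq_one_imp {x : G} (ho : Odd (orderOf x)) (h : x ^ 2 = 1) : x = 1 := by
  have h1 : orderOf x ∣ 2 := orderOf_dvd_of_pow_eq_one h
  rcases (Nat.dvd_prime Nat.prime_two).1 h1 with h2 | h2
  · exact orderOf_eq_one_iff.1 h2
  · rw [h2] at ho; exact absurd ho (by decide)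

theorem four_eq_one_imp {x : G} (ho : Odd (orderOf x)) (h : x ^ 4 = 1) : x = 1 := by
  apply sq_eq_one_imp ho
  apply sq_eq_one_imp (by rw [(Nat.Coprime.orderOf_pow ho.coprime_two_right)]; exact ho)
  rw [← pow_mul]; exact h

theorem commute_of_sq {x y : G} (ho : Odd (orderOf x)) (h : Commute y (x ^ 2)) : Commute y x := by
  obtain ⟨m, hm⟩ := ho
  have : x = (x ^ 2) ^ (m + 1) := by
    rw [← pow_mul, show 2 * (m + 1) = orderOf x + 1 by omega, pow_succ, pow_orderOf_eq_one, one_mul]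
  rw [this]
  exact h.pow_right _

theorem inv_pow' {a x : G} (n : ℕ) (h : a * x * a⁻¹ = x⁻¹) : a * x ^ n * a⁻¹ = (x ^ n)⁻¹ := by
  rw [← conj_pow, h, inv_pow]

theorem conj_eq_of_commute {a y : G} (h : Commute a y) : a * y * a⁻¹ = y := by
  rw [h.eq, mul_inv_cancel_right]

theorem conj_sq {a x : G} (h : a * x * a⁻¹ = x⁻¹) : x⁻¹ * a * x = a * (x * x) := by
  have : x⁻¹ * a = a * x := by rw [← h]; group
  rw [this, mul_assoc]

/-- if `p` inverts `x` and `y`, and `q` centralises `x` and inverts `y`, then `p(xy)²` does not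
commute with `q` -/
theorem final_ne {p q x y : G} (hpq : Commute q p) (hy : Odd (orderOf y))
    (hqx : Commute q x) (hqy : q * y * q⁻¹ = y⁻¹) (hy1 : y ≠ 1)
    (h : Commute q (p * ((x ^ 2) * (y ^ 2)))) : False := by
  have h1 : Commute q (x ^ 2 * y ^ 2) := by
    have := (hpq.inv_right).mul_right h
    simpa using this
  have h2 : Commute q (y ^ 2) := by
    have := ((hqx.pow_right 2).inv_right).mul_right h1
    simpa using this
  have h3 : (y ^ 2)⁻¹ = y ^ 2 := by
    rw [← inv_pow' 2 hqy, h2.eq, mul_inv_cancel_right]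
  apply hy1
  apply four_eq_one_imp hy
  calc y ^ 4 = y ^ 2 * y ^ 2 := by rw [← pow_add]
    _ = (y ^ 2)⁻¹ * y ^ 2 := by rw [h3]
    _ = 1 := inv_mul_cancel _

end aux

theorem main {G : Type*} [Group G] [Finite G] (A : Subgroup G) (hA : IsKleinFour ↥A)
    (h : ∀ a ∈ A, a ≠ 1 → ∀ g : G, A ⊓ Subgroup.centralizer ({g * a * g⁻¹} : Set G) ≠ ⊥)
    (hO : ∀ a ∈ A, a ∈ Cfsg.pCore 2 G → a = 1) : False := by
  haveI : Fact (Nat.Prime 2) := ⟨Nat.prime_two⟩
  haveI := hA
  have hsq : ∀ a ∈ A, a * a = 1 := fun a ha =>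
    congrArg Subtype.val (IsKleinFour.mul_self (⟨a, ha⟩ : ↥A))
  have hcomm : ∀ a ∈ A, ∀ b ∈ A, Commute a b := by
    intro a ha b hb
    have h1 := hsq _ (A.mul_mem ha hb)
    have ha' : a⁻¹ = a := inv_eq_of_mul_eq_one_right (hsq a ha)
    have hb' : b⁻¹ = b := inv_eq_of_mul_eq_one_right (hsq b hb)
    have h2 : (a * b)⁻¹ = a * b := inv_eq_of_mul_eq_one_right h1
    rw [mul_inv_rev, ha', hb'] at h2
    exact h2.symm
  have hord : ∀ a ∈ A, a ≠ 1 → orderOf a = 2 := fun a ha ha1 =>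
    Cfsg.Agent.Lib.Involutions.Basic.invol_iff.2 ⟨hsq a ha, ha1⟩
  have hinv : ∀ a ∈ A, a ≠ 1 → ∃ x : G, x ≠ 1 ∧ Odd (orderOf x) ∧ a * x * a⁻¹ = x⁻¹ := by
    intro a ha ha1
    refine Cfsg.Agent.Lib.Involutions.BaerSuzuki.exists_odd_inverted a (hord a ha ha1) ?_
    intro N hN hN2 haN
    haveI := hN
    exact ha1 (hO a ha (Cfsg.Agent.Lib.Cores.le_pCore hN2 haN))
  have hne : ∀ a ∈ A, a ≠ 1 → ∀ g : G, ∃ b ∈ A, b ≠ 1 ∧ Commute b (g * a * g⁻¹) := by
    intro a ha ha1 g
    obtain ⟨b, hb⟩ := (Subgroup.ne_bot_iff_exists_ne_one.1 (h a ha ha1 g))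
    · refine ⟨_, (Subgroup.mem_inf.1 b.2).1, ?_, ?_⟩
      · exact fun h => hb (Subtype.ext h)
      · exact Subgroup.mem_centralizer_singleton_iff.1 (Subgroup.mem_inf.1 b.2).2
  have hthree : ∀ a ∈ A, ∀ b ∈ A, a ≠ 1 → b ≠ 1 → a ≠ b → ∀ e ∈ A, e ≠ 1 →
      e = a ∨ e = b ∨ e = a * b := by
    intro a ha b hb ha1 hb1 hab e he he1
    by_contra hc
    push Not at hc
    have := IsKleinFour.eq_mul_of_ne_all (x := (⟨a, ha⟩ : ↥A)) (y := ⟨b, hb⟩) (z := ⟨e, he⟩)
      (fun h => ha1 (congrArg Subtype.val h)) (fun h => hb1 (congrArg Subtype.val h))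
      (fun h => hab (congrArg Subtype.val h)) (fun h => he1 (congrArg Subtype.val h))
      (fun h => hc.1 (congrArg Subtype.val h)) (fun h => hc.2.1 (congrArg Subtype.val h))
    exact hc.2.2 (congrArg Subtype.val this)
  have hstep : ∀ a ∈ A, a ≠ 1 → ∀ x : G, x ≠ 1 → Odd (orderOf x) → a * x * a⁻¹ = x⁻¹ →
      ∃ b ∈ A, b ≠ 1 ∧ b ≠ a ∧ Commute b x := by
    intro a ha ha1 x hx1 hxo hax
    obtain ⟨b, hb, hb1, hbc⟩ := hne a ha ha1 x⁻¹
    rw [inv_inv, conj_sq hax, ← pow_two] at hbc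
    have hbx : Commute b (x ^ 2) := by
      have := ((hcomm b hb a ha).inv_right).mul_right hbc
      simpa using this
    refine ⟨b, hb, hb1, ?_, commute_of_sq hxo hbx⟩
    rintro rfl
    have h1 : (x ^ 2)⁻¹ = x ^ 2 := by rw [← inv_pow' 2 hax, hbx.eq, mul_inv_cancel_right]
    apply hx1
    apply four_eq_one_imp hxo
    calc x ^ 4 = x ^ 2 * x ^ 2 := by rw [← pow_add]
      _ = (x ^ 2)⁻¹ * x ^ 2 := by rw [h1]
      _ = 1 := inv_mul_cancel _
  obtain ⟨a, ha, ha1⟩ : ∃ a ∈ A, a ≠ 1 := by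
    have : A ≠ ⊥ := by
      intro h0
      have := IsKleinFour.card_four (G := ↥A)
      rw [h0, Subgroup.card_bot] at this
      omega
    obtain ⟨a, ha⟩ := Subgroup.ne_bot_iff_exists_ne_one.1 this
    exact ⟨a, a.2, fun h => ha (Subtype.ext h)⟩
  obtain ⟨x, hx1, hxo, hax⟩ := hinv a ha ha1
  obtain ⟨b, hb, hb1, hba, hbx⟩ := hstep a ha ha1 x hx1 hxo hax
  obtain ⟨y, hy1, hyo, hby⟩ := hinv b hb hb1
  obtain ⟨d, hd, hd1, hdb, hdy⟩ := hstep b hb hb1 y hy1 hyo hby
  set c := a * b with hc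
  have hcA : c ∈ A := A.mul_mem ha hb
  have hc1 : c ≠ 1 := fun h0 => hba (inv_eq_of_mul_eq_one_right h0 |>.symm.trans
    (inv_eq_of_mul_eq_one_right (hsq a ha)))
  -- `v = b y²` is conjugate to `b`
  have hbY : ¬ Commute b (y ^ 2) := by
    intro h2
    have h1 : (y ^ 2)⁻¹ = y ^ 2 := by rw [← inv_pow' 2 hby, h2.eq, mul_inv_cancel_right]
    apply hy1
    apply four_eq_one_imp hyo
    calc y ^ 4 = y ^ 2 * y ^ 2 := by rw [← pow_add]
      _ = (y ^ 2)⁻¹ * y ^ 2 := by rw [h1]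
      _ = 1 := inv_mul_cancel _
  set v := b * y ^ 2 with hv
  have hbv : ¬ Commute b v := fun h0 => hbY (by
    simpa [hv] using ((Commute.refl b).inv_right).mul_right h0)
  have hdv : Commute d v := (hcomm d hd b hb).mul_right (hdy.pow_right 2)
  have hcx : c * x * c⁻¹ = x⁻¹ := by
    rw [hc, mul_inv_rev]
    calc a * b * x * (b⁻¹ * a⁻¹) = a * (b * x * b⁻¹) * a⁻¹ := by group
      _ = x⁻¹ := by rw [conj_eq_of_commute hbx, hax]
  obtain ⟨e, he, he1, hev⟩ := hne b hb hb1 (x * y⁻¹)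
  have e1 : x * y⁻¹ * b * (x * y⁻¹)⁻¹ = x * v * x⁻¹ := by
    rw [hv, pow_two, ← conj_sq hby]; group
  rw [e1] at hev
  have hev' : Commute (x⁻¹ * e * x) v := by
    have h2 := (hev.map (MulAut.conj x⁻¹).toMonoidHom)
    simpa [mul_assoc] using h2
  have hvx : Commute v x := by
    apply commute_of_sq hxo
    have hbad : Commute (x ^ 2 * b) v → False := by
      intro h0
      have h4 : Commute v ((x ^ 2) ^ 2) := by
        have hbb : b ^ 2 = 1 := by rw [pow_two]; exact hsq b hb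
        have := (h0.symm.pow_right 2)
        rwa [(hbx.symm.pow_left 2).mul_pow, hbb, mul_one] at this
      have hox : Odd (orderOf (x ^ 2)) := by
        rw [(Nat.Coprime.orderOf_pow hxo.coprime_two_right)]; exact hxo
      have h5 : Commute v (x ^ 2) := commute_of_sq hox h4
      apply hbv
      have := ((h5.inv_right).mul_right h0.symm).symm
      simpa using this
    rcases hthree a ha b hb ha1 hb1 (Ne.symm hba) e he he1 with he' | he' | he'
    · rw [he', conj_sq hax, ← pow_two] at hev'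
      rcases hthree a ha b hb ha1 hb1 (Ne.symm hba) d hd hd1 with hd' | hd' | hd'
      · rw [hd'] at hdv
        have := hdv.symm.mul_right hev'.symm
        rwa [← mul_assoc, hsq a ha, one_mul] at this
      · exact absurd hd' hdb
      · rw [hd'] at hdv
        refine (hbad ?_).elim
        have := hdv.mul_left hev'
        rwa [← mul_assoc, (hcomm a ha b hb).eq, mul_assoc b a a, hsq a ha, mul_one,
          (hbx.pow_right 2).eq] at this
    · rw [he', mul_assoc, hbx.eq, inv_mul_cancel_left] at hev'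
      exact absurd hev' hbv
    · rw [he', ← hc, conj_sq hcx, ← pow_two] at hev'
      rcases hthree a ha b hb ha1 hb1 (Ne.symm hba) d hd hd1 with hd' | hd' | hd'
      · rw [hd'] at hdv
        refine (hbad ?_).elim
        have := hdv.mul_left hev'
        rwa [hc, ← mul_assoc, ← mul_assoc, hsq a ha, one_mul, (hbx.pow_right 2).eq] at this
      · exact absurd hd' hdb
      · rw [hd', ← hc] at hdv
        have := hdv.symm.mul_right hev'.symm
        rwa [← mul_assoc, hsq c hcA, one_mul] at this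
  have hxy : Commute x y := by
    apply commute_of_sq hyo
    have := (hbx.symm.inv_right).mul_right hvx.symm
    simpa [hv] using this
  have hxyo : Odd (orderOf (x * y)) :=
    Odd.of_dvd_nat (hxo.mul hyo) hxy.orderOf_mul_dvd_mul_orderOf
  have key : ∀ p ∈ A, p ≠ 1 → ∀ r ∈ A, r ≠ 1 → p * x * p⁻¹ = x⁻¹ → p * y * p⁻¹ = y⁻¹ →
      Commute r y → r * x * r⁻¹ = x⁻¹ → p ≠ b → p ≠ r → r ≠ b → False := by
    intro p hp hp1 r hr hr1 hpx hpy hry hrx hpb hpr hrb
    have hg : p * (x * y) * p⁻¹ = (x * y)⁻¹ := by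
      rw [show p * (x * y) * p⁻¹ = (p * x * p⁻¹) * (p * y * p⁻¹) by group, hpx, hpy,
        mul_inv_rev, (hxy.inv_inv).eq]
    obtain ⟨q, hq, hq1, hqc⟩ := hne p hp hp1 (x * y)⁻¹
    rw [inv_inv, conj_sq hg, ← pow_two, hxy.mul_pow] at hqc
    rcases hthree b hb r hr hb1 hr1 (Ne.symm hrb) q hq hq1 with rfl | rfl | rfl
    · exact final_ne (hcomm _ hb p hp) hyo hbx hby hy1 hqc
    · rw [(hxy.pow_pow 2 2).eq] at hqc
      exact final_ne (hcomm _ hr p hp) hxo hry hrx hx1 hqc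
    · have hbr : p = b * r := by
        rcases hthree b hb r hr hb1 hr1 (Ne.symm hrb) p hp hp1 with h0 | h0 | h0
        · exact absurd h0 hpb
        · exact absurd h0 hpr
        · exact h0
      rw [← hbr] at hqc
      have h2 : Commute p ((x * y) ^ 2) := by
        rw [hxy.mul_pow]
        simpa using ((Commute.refl p).inv_right).mul_right hqc
      have h1 : ((x * y) ^ 2)⁻¹ = (x * y) ^ 2 := by
        rw [← inv_pow' 2 hg, h2.eq, mul_inv_cancel_right]
      have h3 : x * y = 1 := by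
        apply four_eq_one_imp hxyo
        calc (x * y) ^ 4 = (x * y) ^ 2 * (x * y) ^ 2 := by rw [← pow_add]
          _ = ((x * y) ^ 2)⁻¹ * (x * y) ^ 2 := by rw [h1]
          _ = 1 := inv_mul_cancel _
      have h4 : y = x⁻¹ := (inv_eq_of_mul_eq_one_right h3).symm
      apply hy1
      apply sq_eq_one_imp hyo
      have h5 : b * y * b⁻¹ = y := by rw [h4]; exact conj_eq_of_commute hbx.inv_right
      rw [hby] at h5
      rw [pow_two]
      nth_rewrite 1 [← h5]
      exact inv_mul_cancel y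
  have hca : c ≠ a := fun h0 => hb1 (mul_left_cancel (a := a) (by rw [← hc, h0, mul_one]))
  have hcb : c ≠ b := fun h0 => ha1 (mul_right_cancel (b := b) (by rw [← hc, h0, one_mul]))
  rcases hthree a ha b hb ha1 hb1 (Ne.symm hba) d hd hd1 with hd' | hd' | hd'
  · rw [hd'] at hdy
    refine key c hcA hc1 a ha ha1 hcx ?_ hdy hax hcb hca (Ne.symm hba)
    rw [hc, mul_inv_rev]
    calc a * b * y * (b⁻¹ * a⁻¹) = a * (b * y * b⁻¹) * a⁻¹ := by group
      _ = y⁻¹ := by rw [hby]; exact conj_eq_of_commute hdy.inv_right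
  · exact hdb hd'
  · rw [hd', ← hc] at hdy
    refine key a ha ha1 c hcA hc1 hax ?_ hdy hcx (Ne.symm hba) (Ne.symm hca) hcb
    have e2 : a = c * b := by rw [hc, mul_assoc, hsq b hb, mul_one]
    rw [e2, mul_inv_rev]
    calc c * b * y * (b⁻¹ * c⁻¹) = c * (b * y * b⁻¹) * c⁻¹ := by group
      _ = y⁻¹ := by rw [hby]; exact conj_eq_of_commute hdy.inv_right

/-- Let A be a Klein four-subgroup of a finite group G. If every G-conjugate of every involution of A commutes with some involution of A (its centralizer meets A nontrivially), then A meets the largest normal 2-subgroup O₂(G) nontrivially. -/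
theorem result {G : Type*} [Group G] [Finite G]
    (A : Subgroup G) (hA : IsKleinFour ↥A)
    (h : ∀ a ∈ A, a ≠ 1 → ∀ g : G, A ⊓ Subgroup.centralizer ({g * a * g⁻¹} : Set G) ≠ ⊥) :
    A ⊓ Cfsg.pCore 2 G ≠ ⊥ := by
  intro h0
  refine main A hA h fun a ha haO => ?_
  have : a ∈ A ⊓ Cfsg.pCore 2 G := ⟨ha, haO⟩
  rwa [h0, Subgroup.mem_bot] at this

end Cfsg.Agent.S3195
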