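import Cfsg.Statements.S3196
import Mathlib
import Cfsg.Agent.Lib.Inv59.LineClass

set_option autoImplicit false
open Cfsg

namespace Cfsg.Agent.S3196

/-- Let p be a prime and K a set of subgroups of order p of a finite group G, closed under conjugation, such that at least two distinct members of K commute elementwise, and whenever two distinct members X, Y of K commute: every subgroup of order p of the group XY they generate belongs to K, and every member W of K has centralizer meeting XY nontrivially. Then some member V of K commutes elementwise with every member of K and lies in O_p(G); in particular G is not simple. -/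
theorem result {G : Type*} [Group G] [Finite G]
    {p : ℕ} (hp : p.Prime) (K : Set (Subgroup G)) (hK : ∀ X ∈ K, Nat.card ↥X = p)
    (hKc : ∀ X ∈ K, ∀ g : G, X.map (MulAut.conj g).toMonoidHom ∈ K)
    (hex : ∃ X ∈ K, ∃ Y ∈ K, X ≠ Y ∧ ∀ x ∈ X, ∀ y ∈ Y, x * y = y * x)
    (ha : ∀ X ∈ K, ∀ Y ∈ K, X ≠ Y → (∀ x ∈ X, ∀ y ∈ Y, x * y = y * x) →
      ∀ Z : Subgroup G, Z ≤ X ⊔ Y → Nat.card ↥Z = p → Z ∈ K)
    (hb : ∀ X ∈ K, ∀ Y ∈ K, X ≠ Y → (∀ x ∈ X, ∀ y ∈ Y, x * y = y * x) →
      ∀ W ∈ K, (X ⊔ Y) ⊓ Subgroup.centralizer (W : Set G) ≠ ⊥) :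
    (∃ V ∈ K, (∀ W ∈ K, ∀ v ∈ V, ∀ w ∈ W, v * w = w * v) ∧ V ≤ Cfsg.pCore p G) ∧ ¬ IsSimpleGroup G := by
  haveI : Fact p.Prime := ⟨hp⟩
  set k : Set G := {x | x ≠ 1 ∧ Subgroup.zpowers x ∈ K} with hk
  have hgen : ∀ X ∈ K, ∀ x ∈ X, x ≠ 1 → Subgroup.zpowers x = X := by
    intro X hX x hx hx1
    refine Subgroup.eq_of_le_of_card_ge (Subgroup.zpowers_le.2 hx) ?_
    rw [hK X hX, Nat.card_zpowers]
    rcases (Nat.dvd_prime hp).1 ((Subgroup.orderOf_dvd_natCard X hx).trans (dvd_of_eq (hK X hX))) with h | h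
    · exact absurd (orderOf_eq_one_iff.1 h) hx1
    · exact h.ge
  have hord : ∀ x ∈ k, orderOf x = p := fun x hx => (Nat.card_zpowers x).symm.trans (hK _ hx.2)
  have hex' : ∀ X ∈ K, ∃ x ∈ X, x ≠ 1 := by
    intro X hX
    by_contra hc
    push Not at hc
    have : X = ⊥ := (Subgroup.eq_bot_iff_forall X).2 hc
    have := hK X hX
    rw [‹X = ⊥›, Subgroup.card_bot] at this
    exact hp.ne_one this.symm
  have hclo : ∀ x y : G, Subgroup.closure ({x, y} : Set G) = Subgroup.zpowers x ⊔ Subgroup.zpowers y := by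
    intro x y
    rw [Subgroup.zpowers_eq_closure, Subgroup.zpowers_eq_closure, ← Subgroup.closure_union]
    rfl
  have hcomm : ∀ x y : G, Commute x y →
      ∀ a ∈ Subgroup.zpowers x, ∀ b ∈ Subgroup.zpowers y, a * b = b * a := by
    intro x y h a ha b hb
    obtain ⟨i, rfl⟩ := Subgroup.mem_zpowers_iff.1 ha
    obtain ⟨j, rfl⟩ := Subgroup.mem_zpowers_iff.1 hb
    exact (h.zpow_zpow i j).eq
  have hcard : ∀ x y : G, Commute x y → x ^ p = 1 → y ^ p = 1 →
      ∀ z ∈ Subgroup.closure ({x, y} : Set G), z ^ p = 1 := by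
    intro x y h hx hy z hz
    obtain ⟨a, b, rfl⟩ := Cfsg.Agent.Lib.Inv59.LineClass.mem_pair h hz
    rw [(h.zpow_zpow a b).mul_pow, ← zpow_natCast (x ^ a), ← zpow_natCast (y ^ b), ← zpow_mul, ← zpow_mul,
      mul_comm a, mul_comm b, zpow_mul, zpow_mul, zpow_natCast, zpow_natCast, hx, hy, one_zpow, one_zpow,
      mul_one]
  have H : Cfsg.Agent.Lib.Inv59.LineClass.Lines p k := by
    refine ⟨hord, ?_, ?_, ?_⟩
    · intro x hx g
      refine ⟨fun h => hx.1 (conj_eq_one_iff.1 h), ?_⟩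
      have h := hKc _ hx.2 g
      rw [MonoidHom.map_zpowers] at h
      simpa using h
    · intro x hx y hy hxy z hz hz1
      refine ⟨hz1, ?_⟩
      by_cases hXY : Subgroup.zpowers x = Subgroup.zpowers y
      · rw [hclo, ← hXY, sup_idem] at hz
        rw [hgen _ hx.2 z hz hz1]
        exact hx.2
      · refine ha _ hx.2 _ hy.2 hXY (hcomm x y hxy) _ (Subgroup.zpowers_le.2 (hclo x y ▸ hz)) ?_
        rw [Nat.card_zpowers]
        exact orderOf_eq_prime (hcard x y hxy (hord x hx ▸ pow_orderOf_eq_one x)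
          (hord y hy ▸ pow_orderOf_eq_one y) z hz) hz1
    · intro x hx y hy hxy hne w hw
      have hXY : Subgroup.zpowers x ≠ Subgroup.zpowers y := fun h => hne (h ▸ Subgroup.mem_zpowers y)
      obtain ⟨e, he⟩ := Subgroup.ne_bot_iff_exists_ne_one.1
        (hb _ hx.2 _ hy.2 hXY (hcomm x y hxy) _ hw.2)
      refine ⟨e, (hclo x y).ge (Subgroup.mem_inf.1 e.2).1, fun h => he (Subtype.ext h), ?_⟩
      exact (Subgroup.mem_centralizer_iff.1 (Subgroup.mem_inf.1 e.2).2 w (Subgroup.mem_zpowers w)).symm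
  obtain ⟨X, hX, Y, hY, hXY, hXYc⟩ := hex
  obtain ⟨x, hx, hx1⟩ := hex' X hX
  obtain ⟨y, hy, hy1⟩ := hex' Y hY
  have hxk : x ∈ k := ⟨hx1, (hgen X hX x hx hx1).symm ▸ hX⟩
  have hyk : y ∈ k := ⟨hy1, (hgen Y hY y hy hy1).symm ▸ hY⟩
  have hyx : y ∉ Subgroup.zpowers x := by
    intro h
    rw [hgen X hX x hx hx1] at h
    exact hXY ((hgen X hX y h hy1).symm.trans (hgen Y hY y hy hy1))
  obtain ⟨v, hv, hvO, hvall⟩ := H.exists_universal ⟨x, hxk, y, hyk, hXYc x hx y hy, hyx⟩
  refine ⟨⟨Subgroup.zpowers v, hv.2, ?_, Subgroup.zpowers_le.2 hvO⟩, ?_⟩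
  · intro W hW a ha w hw
    rcases eq_or_ne w 1 with rfl | hw1
    · simp
    · obtain ⟨i, rfl⟩ := Subgroup.mem_zpowers_iff.1 ha
      exact ((hvall w ⟨hw1, (hgen W hW w hw hw1).symm ▸ hW⟩).zpow_left i).eq
  · intro hs
    haveI := hs
    haveI hN : (Cfsg.pCore p G).Normal := by
      haveI : (Cfsg.pCore p G).Characteristic := inferInstance
      infer_instance
    rcases hs.eq_bot_or_eq_top_of_normal _ hN with h | h
    · rw [h, Subgroup.mem_bot] at hvO
      exact hv.1 hvO
    · have hG : IsPGroup p G := Cfsg.Agent.Lib.Cores.pCore_eq_top_iff.1 h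
      haveI : Group.IsNilpotent G := hG.isNilpotent
      haveI : Nontrivial (Subgroup.center G) := hG.center_nontrivial
      rcases hs.eq_bot_or_eq_top_of_normal _ (inferInstance : (Subgroup.center G).Normal) with h' | h'
      · exact absurd h' ((Subgroup.nontrivial_iff_ne_bot _).1 inferInstance)
      · have hn : ∀ Z : Subgroup G, Z.Normal := fun Z => ⟨fun z hz g => by
          have : g * z = z * g := (Subgroup.mem_center_iff.1 (h' ▸ Subgroup.mem_top z) g)
          rwa [this, mul_inv_cancel_right]⟩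
        have htop : ∀ Z ∈ K, Z = ⊤ := fun Z hZ => by
          rcases hs.eq_bot_or_eq_top_of_normal _ (hn Z) with h0 | h0
          · have := hK Z hZ
            rw [h0, Subgroup.card_bot] at this
            exact absurd this.symm hp.ne_one
          · exact h0
        exact hXY ((htop X hX).trans (htop Y hY).symm)

end Cfsg.Agent.S3196
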