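import Cfsg.Statements.S3200
import Mathlib
import Cfsg.Agent.Lib.Hall.Basic
import Cfsg.Agent.Lib.Induced.Burnside

set_option autoImplicit false
open Cfsg

namespace Cfsg.Agent.S3200

open scoped Pointwise

universe u

/-- `C` is an abelian subgroup of odd order and 2-power index -/
def Good {G : Type*} [Group G] (C : Subgroup G) : Prop :=
  IsMulCommutative ↥C ∧ Odd (Nat.card ↥C) ∧ ∃ k, C.index = 2 ^ k

theorem exists_pow_two_of_dvd {m k : ℕ} (h : m ∣ 2 ^ k) : ∃ j, m = 2 ^ j :=
  let ⟨j, _, hj⟩ := (Nat.dvd_prime_pow Nat.prime_two).1 h; ⟨j, hj⟩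

theorem good_map {G G' : Type*} [Group G] [Finite G] [Group G'] {C : Subgroup G} (h : Good C)
    (f : G →* G') (hf : Function.Surjective f) : Good (C.map f) := by
  obtain ⟨hc, hodd, k, hk⟩ := h
  refine ⟨⟨⟨?_⟩⟩, hodd.of_dvd_nat (Subgroup.card_map_dvd C f),
    exists_pow_two_of_dvd (hk ▸ Subgroup.index_map_dvd C hf)⟩
  rintro ⟨_, a, ha, rfl⟩ ⟨_, b, hb, rfl⟩
  apply Subtype.ext
  show f a * f b = f b * f a
  rw [← map_mul, ← map_mul]
  exact congrArg f (congrArg Subtype.val (hc.is_comm.comm (⟨a, ha⟩ : ↥C) ⟨b, hb⟩))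

theorem good_normal {G : Type*} [Group G] [Finite G] {C : Subgroup G} (h : Good C) (N : Subgroup G)
    [N.Normal] : Good (C.subgroupOf N) := by
  obtain ⟨hc, hodd, k, hk⟩ := h
  refine ⟨⟨⟨?_⟩⟩, hodd.of_dvd_nat (Subgroup.card_comap_dvd_of_injective C N.subtype N.subtype_injective),
    exists_pow_two_of_dvd (k := k) ?_⟩
  · rintro ⟨a, ha⟩ ⟨b, hb⟩
    apply Subtype.ext; apply Subtype.ext
    have h1 := congrArg Subtype.val (hc.is_comm.comm (⟨(a : G), ha⟩ : ↥C) ⟨(b : G), hb⟩)
    simpa using h1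
  · rw [← hk]
    show C.relIndex N ∣ C.index
    have e1 := Subgroup.relIndex_mul_relIndex (C ⊓ N) C (C ⊔ N) inf_le_left le_sup_left
    have e2 := Subgroup.relIndex_mul_relIndex (C ⊓ N) N (C ⊔ N) inf_le_right le_sup_right
    rw [Subgroup.inf_relIndex_left] at e1
    rw [Subgroup.inf_relIndex_right, Subgroup.relIndex_sup_right, mul_comm, ← e1] at e2
    have e3 : C.relIndex N = C.relIndex (C ⊔ N) :=
      Nat.eq_of_mul_eq_mul_left (Nat.pos_of_ne_zero Subgroup.index_ne_zero_of_finite) e2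
    rw [e3, ← Subgroup.relIndex_mul_index (show C ≤ C ⊔ N from le_sup_left)]
    exact dvd_mul_right _ _

theorem good_solvable : ∀ (n : ℕ) {G : Type u} [Group G] [Finite G] (C : Subgroup G),
    Nat.card G = n → Good C → Group.IsSolvable G := by
  intro n
  induction n using Nat.strongRecOn with
  | ind n ih =>
  intro G _ _ C hn hG
  haveI : Fact (Nat.Prime 2) := ⟨Nat.prime_two⟩
  by_cases hsimple : IsSimpleGroup G
  · rcases eq_or_ne C ⊥ with rfl | hC
    · obtain ⟨k, hk⟩ := hG.2.2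
      rw [Subgroup.index_bot] at hk
      haveI : Group.IsNilpotent G := (IsPGroup.of_card hk).isNilpotent
      infer_instance
    · obtain ⟨x, hx, hx1⟩ := C.bot_or_exists_ne_one.resolve_left hC
      obtain ⟨k, hk⟩ := hG.2.2
      have hle : C ≤ Subgroup.centralizer ({x} : Set G) := fun c hc =>
        Subgroup.mem_centralizer_singleton_iff.2
          (congrArg Subtype.val (hG.1.is_comm.comm (⟨c, hc⟩ : ↥C) ⟨x, hx⟩))
      obtain ⟨j, hj⟩ := exists_pow_two_of_dvd (hk ▸ Subgroup.index_dvd_of_le hle)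
      have hp := Cfsg.Agent.Lib.Induced.Burnside.prime_card_of_class_primePow Nat.prime_two hx1 hj
      haveI : Fact (Nat.card G).Prime := ⟨hp⟩
      haveI : Group.IsNilpotent G := (IsPGroup.of_card (p := Nat.card G) (n := 1) (pow_one _).symm).isNilpotent
      infer_instance
  · rcases subsingleton_or_nontrivial G with h | h
    · infer_instance
    · obtain ⟨N, hN, hNb, hNt⟩ : ∃ N : Subgroup G, N.Normal ∧ N ≠ ⊥ ∧ N ≠ ⊤ := by
        by_contra hcon
        push Not at hcon
        exact hsimple ⟨fun N hN => (eq_or_ne N ⊥).imp id (hcon N hN)⟩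
      have h1 : Nat.card ↥N < n := hn ▸ lt_of_le_of_ne (Subgroup.card_le_card_group N)
        (fun e => hNt (Subgroup.eq_top_of_card_eq N e))
      have h2 : Nat.card (G ⧸ N) < n := hn ▸ Cfsg.Agent.Lib.Hall.card_quotient_lt hNb
      haveI := ih _ h1 (C.subgroupOf N) rfl (good_normal hG N)
      haveI := ih _ h2 _ rfl (good_map hG (QuotientGroup.mk' N) (QuotientGroup.mk'_surjective N))
      exact solvable_of_ker_le_range N.subtype (QuotientGroup.mk' N)
        (by rw [QuotientGroup.ker_mk', Subgroup.range_subtype])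

theorem exists_complement {G : Type*} [Group G] [Finite G] {C : Subgroup G} (h : Good C) :
    ∃ (P : Sylow 2 G) (D : Subgroup G), IsMulCommutative ↥D ∧ Subgroup.IsComplement' (P : Subgroup G) D := by
  haveI : Fact (Nat.Prime 2) := ⟨Nat.prime_two⟩
  obtain ⟨hc, hodd, k, hk⟩ := h
  let P : Sylow 2 G := default
  refine ⟨P, C, hc, ?_⟩
  have hcP : Nat.card ↥(P : Subgroup G) = 2 ^ k := by
    rw [P.card_eq_multiplicity, ← C.card_mul_index, hk,
      Nat.factorization_mul Nat.card_pos.ne' (by positivity), Nat.Prime.factorization_pow Nat.prime_two,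
      Finsupp.coe_add, Pi.add_apply, Finsupp.single_eq_same,
      Nat.factorization_eq_zero_of_not_dvd (fun h2 => (Nat.not_even_iff_odd.2 hodd) (even_iff_two_dvd.2 h2)),
      zero_add]
  refine Subgroup.isComplement'_of_coprime ?_ ?_
  · rw [hcP, ← hk, mul_comm, C.card_mul_index]
  · rw [hcP]
    exact Nat.Coprime.pow_left _ (Nat.coprime_two_left.2 hodd)


/-- Let H be a finite group in which a Sylow 2-subgroup has an abelian complement (an abelian subgroup meeting it trivially whose product with it is all of H). Then H is solvable, and every subgroup and every quotient group of H again has a Sylow 2-subgroup with an abelian complement. -/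
theorem result {H : Type*} [Group H] [Finite H]
    (S : Sylow 2 H) (C : Subgroup H) (hC : IsMulCommutative ↥C) (hSC : Subgroup.IsComplement' (S : Subgroup H) C) :
    Group.IsSolvable H ∧
    (∀ L : Subgroup H, ∃ (P : Sylow 2 ↥L) (D : Subgroup ↥L), IsMulCommutative ↥D ∧ Subgroup.IsComplement' (P : Subgroup ↥L) D) ∧
    (∀ (N : Subgroup H) [N.Normal], ∃ (P : Sylow 2 (H ⧸ N)) (D : Subgroup (H ⧸ N)),
      IsMulCommutative ↥D ∧ Subgroup.IsComplement' (P : Subgroup (H ⧸ N)) D) := by
  haveI : Fact (Nat.Prime 2) := ⟨Nat.prime_two⟩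
  have hG : Good C := by
    obtain ⟨k, hk⟩ := IsPGroup.iff_card.1 S.isPGroup'
    have hidx : C.index = 2 ^ k := by
      have h1 := hSC.card_mul
      rw [hk] at h1
      have h2 := C.card_mul_index
      rw [← h1, mul_comm (2 ^ k)] at h2
      exact Nat.eq_of_mul_eq_mul_left Nat.card_pos h2
    refine ⟨hC, ?_, k, hidx⟩
    have h1 : (S : Subgroup H).index = Nat.card ↥C := hSC.symm.index_eq_card
    rw [← h1, ← Nat.not_even_iff_odd, even_iff_two_dvd]
    exact S.not_dvd_index
  haveI := good_solvable _ C rfl hG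
  refine ⟨inferInstance, ?_, fun N _ =>
    exists_complement (good_map hG (QuotientGroup.mk' N) (QuotientGroup.mk'_surjective N))⟩
  intro L
  let π : Set ℕ := {p | p ≠ 2}
  obtain ⟨D, hD⟩ := Cfsg.Agent.Lib.Hall.exists_isPiHall (G := ↥L) π
  have hCπ : IsPiHall π C := by
    refine ⟨fun p hp hd => ?_, fun p hp hmem hd => ?_⟩
    · rintro rfl
      exact (Nat.not_even_iff_odd.2 hG.2.1) (even_iff_two_dvd.2 hd)
    · obtain ⟨k, hk⟩ := hG.2.2
      rw [hk] at hd
      exact hmem ((Nat.prime_dvd_prime_iff_eq hp Nat.prime_two).1 (hp.dvd_of_dvd_pow hd))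
  obtain ⟨g, hg⟩ := Cfsg.Agent.Lib.Hall.exists_conj_le hCπ (K := D.map L.subtype)
    (fun p hp hd => hD.1 p hp (hd.trans (Subgroup.card_map_dvd D L.subtype)))
  refine exists_complement (C := D) ⟨⟨⟨?_⟩⟩, ?_, ?_⟩
  · intro a b
    obtain ⟨c, hc, hca⟩ := hg ⟨a, a.2, rfl⟩
    obtain ⟨d, hd, hdb⟩ := hg ⟨b, b.2, rfl⟩
    have hcd : c * d = d * c := congrArg Subtype.val (hC.is_comm.comm (⟨c, hc⟩ : ↥C) ⟨d, hd⟩)
    apply Subtype.ext; apply Subtype.ext
    have h1 := congrArg (fun z => MulAut.conj g • z) hcd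
    simp only [smul_mul'] at h1
    simp at hca hdb
    simp only [Subgroup.coe_mul]
    rw [← hca, ← hdb]
    simpa [mul_assoc] using h1
  · rw [← Nat.not_even_iff_odd, even_iff_two_dvd]
    exact fun h2 => hD.1 2 Nat.prime_two h2 rfl
  · refine ⟨_, Nat.eq_prime_pow_of_unique_prime_dvd Subgroup.index_ne_zero_of_finite (fun {p} hp hd => ?_)⟩
    by_contra hne
    exact hD.2 p hp hne hd

end Cfsg.Agent.S3200
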