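import Cfsg.Statements.S3201
import Mathlib
import Cfsg.Agent.Lib.Inv59.QuatQuotient

set_option autoImplicit false
open Cfsg

namespace Cfsg.Agent.S3201

/-- Let S be a finite 2-group whose centre Z(S) has n ≥ 2 distinct maximal subgroups C₁, …, Cₙ with trivial intersection such that each quotient S/Cᵢ is a non-abelian group with exactly one involution (a generalized quaternion group). Then S is the internal direct product of an elementary abelian subgroup and a non-abelian subgroup with exactly one involution. -/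
theorem result {S : Type*} [Group S] [Finite S]
    (hS : IsPGroup 2 S) (n : ℕ) (hn : 2 ≤ n) (C : Fin n → Subgroup ↥(Subgroup.center S))
    (hCmax : ∀ i, IsCoatom (C i)) (hCinj : Function.Injective C) (hCint : ⨅ i, C i = ⊥)
    (hCq : ∀ i, ∃ (_ : ((C i).map (Subgroup.center S).subtype).Normal),
      ¬ IsMulCommutative (S ⧸ (C i).map (Subgroup.center S).subtype) ∧
      ∃! x : S ⧸ (C i).map (Subgroup.center S).subtype, orderOf x = 2) :
    ∃ E Q : Subgroup S, Cfsg.IsInternalDirectProduct E Q ⊤ ∧ Cfsg.IsElementaryAbelian 2 E ∧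
      ¬ IsMulCommutative ↥Q ∧ ∃! x : ↥Q, orderOf x = 2 := by
  set f := (Subgroup.center S).subtype with hf
  have hidx : ∀ i, (C i).index = 2 := fun i =>
    Cfsg.Agent.Lib.Inv59.QuatQuotient.index_eq_two (hS.to_subgroup _) (hCmax i)
  have hsep : ∀ z : ↥(Subgroup.center S), (∀ i, z ∈ C i) → z = 1 := by
    intro z hz
    rw [← Subgroup.mem_bot, ← hCint, Subgroup.mem_iInf]
    exact hz
  have hZ2 : ∀ z : ↥(Subgroup.center S), z * z = 1 := fun z =>
    hsep _ (fun i => Subgroup.mul_self_mem_of_index_two (hidx i) z)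
  -- every element outside the centre with central square has a square outside every `C i`
  have hsq : ∀ (s : S) (hs2 : s * s ∈ Subgroup.center S), s ∉ Subgroup.center S →
      ∀ i, (⟨s * s, hs2⟩ : ↥(Subgroup.center S)) ∉ C i := by
    intro s hs2 hs i hi
    obtain ⟨hn', -, z, -, huniq⟩ := hCq i
    haveI := hn'
    set π := QuotientGroup.mk' ((C i).map f) with hπ
    have h2 : π s * π s = 1 := by
      rw [← map_mul]
      exact (QuotientGroup.eq_one_iff _).2 ⟨_, hi, rfl⟩
    have hle : (C i).map f ≤ Subgroup.center S := Subgroup.map_subtype_le _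
    have h1 : π s ≠ 1 := fun e => hs (hle ((QuotientGroup.eq_one_iff s).1 e))
    have hz1 := huniq _ (orderOf_eq_prime (by rw [sq]; exact h2) h1)
    -- a central element outside `C i` also gives the involution
    obtain ⟨w, hw⟩ : ∃ w : ↥(Subgroup.center S), w ∉ C i := by
      by_contra hcon
      push Not at hcon
      exact (hCmax i).1 ((Subgroup.eq_top_iff' _).2 hcon)
    have hw1 : π w ≠ 1 := by
      intro e
      obtain ⟨w', hw', he⟩ := (QuotientGroup.eq_one_iff (w : S)).1 e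
      have : w' = w := Subtype.ext he
      exact hw (this ▸ hw')
    have hw2 : π w * π w = 1 := by
      rw [← map_mul, ← Subgroup.coe_mul, hZ2]
      simp
    have hz2 := huniq _ (orderOf_eq_prime (by rw [sq]; exact hw2) hw1)
    have : (s⁻¹ * (w : S)) ∈ (C i).map f := QuotientGroup.eq.1 (hz1.trans hz2.symm)
    exact hs (by simpa using Subgroup.mul_mem _ w.2 (inv_mem (hle this)))
  have hn0 : 0 < n := by omega
  set i₀ : Fin n := ⟨0, hn0⟩
  have hconst : ∀ (s t : S) (hs2 : s * s ∈ Subgroup.center S) (ht2 : t * t ∈ Subgroup.center S),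
      s ∉ Subgroup.center S → t ∉ Subgroup.center S → s * s = t * t := by
    intro s t hs2 ht2 hs ht
    have h1 : (⟨s * s, hs2⟩ : ↥(Subgroup.center S))⁻¹ * ⟨t * t, ht2⟩ = 1 :=
      hsep _ (fun i => (Subgroup.mul_mem_iff_of_index_two (hidx i)).2
        (iff_of_false (fun h => hsq s hs2 hs i (by simpa using inv_mem h)) (hsq t ht2 ht i)))
    exact congrArg Subtype.val (inv_mul_eq_one.1 h1)
  obtain ⟨hn', hna, hu⟩ := hCq i₀
  haveI := hn'
  obtain ⟨m, ψ, hm, hψ, hker⟩ := Cfsg.Agent.Lib.Inv59.QuatQuotient.exists_hom hS _ hna hu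
  haveI : NeZero (2 ^ m) := ⟨by positivity⟩
  haveI : NeZero (2 * 2 ^ m) := ⟨by positivity⟩
  set q2 : QuaternionGroup (2 ^ m) := QuaternionGroup.a ((2 ^ m : ℕ) : ZMod (2 * 2 ^ m)) with hq2
  have hψZ : ∀ z ∈ Subgroup.center S, ψ z = 1 ∨ ψ z = q2 := by
    intro z hz
    by_cases h1 : ψ z = 1
    · exact Or.inl h1
    · refine Or.inr (Cfsg.Agent.Lib.Inv59.QuatQuotient.eq_of_orderOf_two _ (orderOf_eq_prime ?_ h1))
      rw [sq, ← map_mul]
      have := congrArg Subtype.val (hZ2 ⟨z, hz⟩)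
      simp at this
      rw [this, map_one]
  -- conversely, the preimage of `q2` is central
  have hψZ' : ∀ s : S, ψ s = 1 ∨ ψ s = q2 → s ∈ Subgroup.center S := by
    intro s hs
    have hle : ψ.ker ≤ Subgroup.center S := hker ▸ Subgroup.map_subtype_le _
    rcases hs with hs | hs
    · exact hle hs
    · obtain ⟨w, hw⟩ : ∃ w : ↥(Subgroup.center S), w ∉ C i₀ := by
        by_contra hcon
        push Not at hcon
        exact (hCmax i₀).1 ((Subgroup.eq_top_iff' _).2 hcon)
      have hw1 : ψ w ≠ 1 := by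
        intro e
        obtain ⟨w', hw', he⟩ := (hker ▸ (MonoidHom.mem_ker.2 e) : (w : S) ∈ (C i₀).map f)
        have : w' = w := Subtype.ext he
        exact hw (this ▸ hw')
      have h2 : (w : S)⁻¹ * s ∈ ψ.ker := by
        rw [MonoidHom.mem_ker, map_mul, map_inv, hs, (hψZ w w.2).resolve_left hw1, inv_mul_cancel]
      simpa using mul_mem w.2 (hle h2)
  obtain ⟨x, hx⟩ := hψ (QuaternionGroup.a 1)
  obtain ⟨y, hy⟩ := hψ (QuaternionGroup.xa 0)
  have hne : ∀ j : ℕ, x ^ j ∈ Subgroup.center S → 2 ^ m ∣ j := by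
    intro j hj
    have h := hψZ _ hj
    rw [map_pow, hx, QuaternionGroup.a_one_pow, hq2, QuaternionGroup.one_def, QuaternionGroup.a.injEq,
      QuaternionGroup.a.injEq] at h
    rcases h with h | h
    · exact dvd_trans (dvd_mul_left _ 2) ((ZMod.natCast_eq_zero_iff _ _).1 h)
    · have h' := ((ZMod.natCast_eq_natCast_iff _ _ _).1 h).of_mul_left 2
      exact (Nat.modEq_zero_iff_dvd.1 (h'.trans (Nat.modEq_zero_iff_dvd.2 dvd_rfl)))
  have hout : ∀ s : S, (∃ i, ψ s = QuaternionGroup.xa i) → s ∉ Subgroup.center S := by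
    rintro s ⟨i, hi⟩ hs
    rcases hψZ s hs with h | h <;> rw [hi] at h <;> simp only [q2, QuaternionGroup.one_def] at h <;> exact (nomatch h)
  have hyy : y * y ∈ Subgroup.center S := by
    apply hψZ'
    right
    rw [map_mul, hy, QuaternionGroup.xa_mul_xa, hq2]
    congr 1
    push_cast
    ring
  have hyx : (y * x) * (y * x) ∈ Subgroup.center S := by
    apply hψZ'
    right
    rw [map_mul, map_mul, hy, hx, QuaternionGroup.xa_mul_a, QuaternionGroup.xa_mul_xa, hq2]
    congr 1
    push_cast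
    ring
  obtain ⟨k, hk⟩ : ∃ k, m = k + 1 := ⟨m - 1, by omega⟩
  have hxx : x ^ (2 ^ k) * x ^ (2 ^ k) ∈ Subgroup.center S := by
    apply hψZ'
    right
    rw [← pow_add, map_pow, hx, QuaternionGroup.a_one_pow, hq2]
    congr 2
    rw [hk, pow_succ]
    ring
  have hynot := hout y ⟨0, hy⟩
  have hyxnot : y * x ∉ Subgroup.center S := hout _ ⟨1, by rw [map_mul, hy, hx, QuaternionGroup.xa_mul_a, zero_add]⟩
  have hxnot : x ^ (2 ^ k) ∉ Subgroup.center S := fun h => by
    have := Nat.le_of_dvd (by positivity) (hne _ h)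
    rw [hk, pow_succ] at this
    have := Nat.one_le_two_pow (n := k)
    omega
  have hrel : x * y * x = y := by
    have := hconst (y * x) y hyx hyy hyxnot hynot
    rw [mul_assoc, mul_left_cancel_iff, ← mul_assoc] at this
    exact this
  have hxN : x ^ (2 ^ m) = y * y := by
    rw [← hconst _ y hxx hyy hxnot hynot, ← pow_add, hk, pow_succ, mul_two]
  have hy4 : (y * y) * (y * y) = 1 := congrArg Subtype.val (hZ2 ⟨_, hyy⟩)
  have hxord : x ^ (2 * 2 ^ m) = 1 := by rw [two_mul, pow_add, hxN, hy4]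
  -- the complement
  have hxy : ∀ j : ℕ, x ^ j * y * x ^ j = y := by
    intro j
    induction j with
    | zero => simp
    | succ j ih =>
      calc x ^ (j + 1) * y * x ^ (j + 1) = x ^ j * (x * y * x) * x ^ j := by
            rw [pow_succ]; conv_lhs => arg 2; rw [(Commute.pow_self x j).eq]
            group
        _ = y := by rw [hrel, ih]
  set Q := Subgroup.closure ({x, y} : Set S) with hQ
  have hform : ∀ s ∈ Q, ∃ j : ℕ, s = x ^ j ∨ s = y * x ^ j := by
    intro s hs
    obtain ⟨hxinv, hpinv⟩ : (∀ j : ℕ, ∃ j' : ℕ, (x ^ j)⁻¹ = x ^ j') ∧ True := ⟨fun j => ⟨(2 * 2 ^ m - 1) * j, by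
      refine inv_eq_of_mul_eq_one_right ?_
      rw [← pow_add, show j + (2 * 2 ^ m - 1) * j = 2 * 2 ^ m * j by
        nlinarith [Nat.sub_add_cancel (show 1 ≤ 2 * 2 ^ m by have := Nat.one_le_two_pow (n := m); omega)],
        pow_mul, hxord, one_pow]⟩, trivial⟩
    have hsw : ∀ j : ℕ, ∃ j' : ℕ, x ^ j * y = y * x ^ j' := fun j => by
      obtain ⟨j', hj'⟩ := hxinv j
      exact ⟨j', by rw [← hj']; exact eq_mul_inv_of_mul_eq (hxy j)⟩
    induction hs using Subgroup.closure_induction with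
    | mem s hs =>
      rcases hs with rfl | rfl
      · exact ⟨1, Or.inl (pow_one _).symm⟩
      · exact ⟨0, Or.inr (by simp)⟩
    | one => exact ⟨0, Or.inl (pow_zero _).symm⟩
    | mul s t _ _ ihs iht =>
      obtain ⟨a, ha⟩ := ihs
      obtain ⟨b, hb⟩ := iht
      rcases ha with rfl | rfl <;> rcases hb with rfl | rfl
      · exact ⟨a + b, Or.inl (pow_add x a b).symm⟩
      · obtain ⟨a', ha'⟩ := hsw a
        exact ⟨a' + b, Or.inr (by rw [← mul_assoc, ha', mul_assoc, pow_add])⟩
      · exact ⟨a + b, Or.inr (by rw [mul_assoc, pow_add])⟩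
      · obtain ⟨a', ha'⟩ := hsw a
        refine ⟨2 ^ m + a' + b, Or.inl ?_⟩
        rw [pow_add, pow_add, hxN]
        calc y * x ^ a * (y * x ^ b) = y * (x ^ a * y) * x ^ b := by group
          _ = _ := by rw [ha']; group
    | inv s _ ih =>
      obtain ⟨a, rfl | rfl⟩ := ih
      · obtain ⟨a', ha'⟩ := hxinv a
        exact ⟨a', Or.inl ha'⟩
      · refine ⟨2 ^ m + a, Or.inr (inv_eq_of_mul_eq_one_right ?_)⟩
        have : x ^ (2 ^ m + a) = x ^ a * x ^ (2 ^ m) := by rw [← pow_add, add_comm]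
        calc y * x ^ a * (y * x ^ (2 ^ m + a)) = y * (x ^ a * y * x ^ a) * x ^ (2 ^ m) := by rw [this]; group
          _ = _ := by rw [hxy, hxN, hy4]
  have hQC : ∀ s ∈ Q, ψ s = 1 → s = 1 := by
    intro s hs h1
    obtain ⟨j, rfl | rfl⟩ := hform s hs
    · rw [map_pow, hx, QuaternionGroup.a_one_pow, QuaternionGroup.one_def, QuaternionGroup.a.injEq,
        ZMod.natCast_eq_zero_iff] at h1
      obtain ⟨c, rfl⟩ := h1
      rw [pow_mul, hxord, one_pow]
    · exfalso
      rw [map_mul, map_pow, hy, hx, QuaternionGroup.a_one_pow, QuaternionGroup.xa_mul_a,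
        QuaternionGroup.one_def] at h1
      cases h1
  have hsurj : ∀ q, ∃ s ∈ Q, ψ s = q := by
    intro q
    have hxQ : x ∈ Q := Subgroup.subset_closure (Set.mem_insert x _)
    have ha : ∀ i : ZMod (2 * 2 ^ m), ψ (x ^ i.val) = QuaternionGroup.a i := fun i => by
      rw [map_pow, hx, QuaternionGroup.a_one_pow, ZMod.natCast_zmod_val]
    cases q with
    | a i => exact ⟨_, pow_mem hxQ i.val, ha i⟩
    | xa i => exact ⟨y * x ^ i.val, mul_mem (Subgroup.subset_closure (Set.mem_insert_of_mem x rfl))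
        (pow_mem hxQ i.val), by rw [map_mul, hy, ha, QuaternionGroup.xa_mul_a, zero_add]⟩
  let φ : ↥Q →* QuaternionGroup (2 ^ m) := ψ.comp Q.subtype
  have hφ : Function.Bijective φ := by
    refine ⟨(injective_iff_map_eq_one φ).2 (fun s hs => Subtype.ext (hQC s s.2 hs)), fun q => ?_⟩
    obtain ⟨s, hs, hq⟩ := hsurj q
    exact ⟨⟨s, hs⟩, hq⟩
  let e := MulEquiv.ofBijective φ hφ
  refine ⟨(C i₀).map f, Q, ⟨le_top, le_top, ?_, ?_, ?_⟩, ⟨⟨⟨?_⟩⟩, ?_⟩, ?_, ?_⟩
  · rintro _ ⟨c, -, rfl⟩ b _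
    exact (Subgroup.mem_center_iff.1 c.2 b).symm
  · rw [eq_bot_iff]
    rintro s ⟨hs, hsQ⟩
    exact Subgroup.mem_bot.2 (hQC s hsQ (MonoidHom.mem_ker.1 (hker ▸ hs)))
  · rw [eq_top_iff]
    intro s _
    obtain ⟨t, ht, hts⟩ := hsurj (ψ s)
    have h1 : s * t⁻¹ ∈ (C i₀).map f := by
      rw [← hker, MonoidHom.mem_ker, map_mul, map_inv, hts, mul_inv_cancel]
    rw [show s = s * t⁻¹ * t by group]
    exact mul_mem (Subgroup.mem_sup_left h1) (Subgroup.mem_sup_right ht)
  · rintro ⟨_, a, -, rfl⟩ ⟨_, b, -, rfl⟩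
    exact Subtype.ext ((Subgroup.mem_center_iff.1 a.2 (b : S)).symm)
  · rintro _ ⟨a, -, rfl⟩
    rw [sq, ← map_mul, hZ2, map_one]
  · intro hcomm
    apply hna
    refine ⟨⟨fun a b => ?_⟩⟩
    obtain ⟨a, rfl⟩ := QuotientGroup.mk'_surjective _ a
    obtain ⟨b, rfl⟩ := QuotientGroup.mk'_surjective _ b
    rw [← map_mul, ← map_mul]
    apply QuotientGroup.eq.2
    rw [← hker, MonoidHom.mem_ker]
    have h2 : ψ a * ψ b = ψ b * ψ a := by
      have := congrArg e (hcomm.is_comm.comm (e.symm (ψ a)) (e.symm (ψ b)))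
      simpa using this
    rw [map_mul, map_inv, map_mul, map_mul, h2, inv_mul_cancel]
  · refine ⟨e.symm q2, ?_, fun w hw => ?_⟩
    · show orderOf (e.symm q2) = 2
      rw [MulEquiv.orderOf_eq]
      refine orderOf_eq_prime ?_ ?_
      · rw [hq2, sq, QuaternionGroup.a_mul_a, QuaternionGroup.one_def]
        congr 1
        rw [← Nat.cast_add, ← two_mul, ZMod.natCast_self]
      · rw [hq2, QuaternionGroup.one_def, Ne, QuaternionGroup.a.injEq, ZMod.natCast_eq_zero_iff]
        intro h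
        have := Nat.le_of_dvd (by positivity) h
        have := Nat.one_le_two_pow (n := m)
        omega
    · have := Cfsg.Agent.Lib.Inv59.QuatQuotient.eq_of_orderOf_two (e w) (by rw [MulEquiv.orderOf_eq]; exact hw)
      rw [hq2, ← this, MulEquiv.symm_apply_apply]

end Cfsg.Agent.S3201
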