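import Cfsg.Statements.S3202
import Mathlib
import Cfsg.Agent.Lib.Inv59.QuatQuotient

set_option autoImplicit false
open Cfsg

namespace Cfsg.Agent.S3202

open scoped commutatorElement

/-- Let S be a finite 2-group of 2-rank exactly 2 and D a maximal subgroup of the centre of S such that S/D is a non-abelian group with exactly one involution (a generalized quaternion group). Then S has a nontrivial cyclic characteristic subgroup. -/
theorem result {S : Type*} [Group S]
    [Finite S] (hS : IsPGroup 2 S) (hr2 : Cfsg.PRankLE 2 2 S) (hr1 : ¬ Cfsg.PRankLE 2 1 S)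
    (D : Subgroup ↥(Subgroup.center S)) (hD : IsCoatom D)
    (hq : ∃ (_ : (D.map (Subgroup.center S).subtype).Normal),
      ¬ IsMulCommutative (S ⧸ D.map (Subgroup.center S).subtype) ∧
      ∃! x : S ⧸ D.map (Subgroup.center S).subtype, orderOf x = 2) :
    ∃ C : Subgroup S, C ≠ ⊥ ∧ IsCyclic ↥C ∧ C.Characteristic := by
  obtain ⟨hDn, hna, hu⟩ := hq
  set D' := D.map (Subgroup.center S).subtype with hD'
  haveI := hDn
  obtain ⟨m, ψ, -, hψ, hker⟩ := Cfsg.Agent.Lib.Inv59.QuatQuotient.exists_hom hS D' hna hu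
  obtain ⟨x, hx⟩ := hψ (QuaternionGroup.a 1)
  obtain ⟨y, hy⟩ := hψ (QuaternionGroup.xa 0)
  have hcen : ∀ d ∈ D', ∀ s : S, s * d = d * s := by
    rintro _ ⟨⟨d, hd⟩, -, rfl⟩ s
    exact Subgroup.mem_center_iff.1 hd s
  have hrel : QuaternionGroup.a (1 : ZMod (2 * 2 ^ m)) * QuaternionGroup.xa 0 * QuaternionGroup.a 1
      = QuaternionGroup.xa 0 := by
    rw [QuaternionGroup.a_mul_xa, QuaternionGroup.xa_mul_a]
    congr 1
    ring
  set c := x * y * x * y⁻¹ with hc
  have hcD : c ∈ D' := by
    rw [← hker, MonoidHom.mem_ker, hc]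
    simp only [map_mul, map_inv, hx, hy]
    rw [hrel, mul_inv_cancel]
  have hcc := hcen c hcD
  set u := y * x * y⁻¹ * x⁻¹ with hu'
  have hyx : y * x * y⁻¹ = x⁻¹ * c := by rw [hc]; group
  have hux : x * u * x⁻¹ = u := by
    rw [hu', hyx]
    calc x * (x⁻¹ * c * x⁻¹) * x⁻¹ = c * x⁻¹ * x⁻¹ := by group
      _ = x⁻¹ * c * x⁻¹ := by rw [← hcc x⁻¹]
  have huy : y * u * y⁻¹ = u⁻¹ := by
    have h1 : y * x⁻¹ * y⁻¹ = c⁻¹ * x := by
      calc y * x⁻¹ * y⁻¹ = (y * x * y⁻¹)⁻¹ := by group
        _ = _ := by rw [hyx]; group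
    have h2 : y * c * y⁻¹ = c := by rw [hcc y]; group
    rw [hu', hyx]
    calc y * (x⁻¹ * c * x⁻¹) * y⁻¹ = (y * x⁻¹ * y⁻¹) * (y * c * y⁻¹) * (y * x⁻¹ * y⁻¹) := by group
      _ = c⁻¹ * (x * c) * (c⁻¹ * x) := by rw [h1, h2]; group
      _ = c⁻¹ * x * x := by group
      _ = x * c⁻¹ * x := by
        have : x * c⁻¹ = c⁻¹ * x := (Commute.inv_right (hcc x : Commute x c)).eq
        rw [this]
      _ = _ := by group
  set K := Subgroup.zpowers u with hK
  have hgen : Subgroup.closure ({x, y} : Set S) ⊔ D' = ⊤ := by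
    rw [eq_top_iff]
    intro s _
    have hq : ∀ q : QuaternionGroup (2 ^ m), ∃ w ∈ Subgroup.closure ({x, y} : Set S), ψ w = q := by
      haveI : NeZero (2 * 2 ^ m) := ⟨by positivity⟩
      have ha : ∀ i : ZMod (2 * 2 ^ m), ψ (x ^ i.val) = QuaternionGroup.a i := fun i => by
        rw [map_pow, hx, QuaternionGroup.a_one_pow, ZMod.natCast_zmod_val]
      intro q
      cases q with
      | a i => exact ⟨_, pow_mem (Subgroup.subset_closure (Set.mem_insert x _)) i.val, ha i⟩
      | xa i => exact ⟨y * x ^ i.val, mul_mem (Subgroup.subset_closure (Set.mem_insert_of_mem x rfl))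
          (pow_mem (Subgroup.subset_closure (Set.mem_insert x _)) i.val),
          by rw [map_mul, hy, ha, QuaternionGroup.xa_mul_a, zero_add]⟩
    obtain ⟨w, hw, hws⟩ := hq (ψ s)
    have : w⁻¹ * s ∈ D' := by rw [← hker, MonoidHom.mem_ker, map_mul, map_inv, hws, inv_mul_cancel]
    rw [show s = w * (w⁻¹ * s) by group]
    exact mul_mem (Subgroup.mem_sup_left hw) (Subgroup.mem_sup_right this)
  have hKn : K.Normal := by
    rw [← Subgroup.normalizer_eq_top_iff, eq_top_iff, ← hgen, sup_le_iff, Subgroup.closure_le]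
    have key : ∀ s : S, (s * u * s⁻¹ = u ∨ s * u * s⁻¹ = u⁻¹) →
        s ∈ Subgroup.normalizer (K : Set S) := by
      intro s hs
      have h' : K.map (MulAut.conj s).toMonoidHom = K := by
        rw [hK, MonoidHom.map_zpowers]
        show Subgroup.zpowers (s * u * s⁻¹) = Subgroup.zpowers u
        rcases hs with e | e <;> rw [e]
        exact Subgroup.zpowers_inv
      rw [Subgroup.mem_normalizer_iff]
      intro z
      refine ⟨fun hz => h' ▸ ⟨z, hz, rfl⟩, fun hz => ?_⟩
      obtain ⟨z', hz', he⟩ := h'.ge hz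
      have : z' = z := (MulAut.conj s).injective he
      rwa [← this]
    refine ⟨?_, fun d hd => key d (Or.inl ?_)⟩
    · rintro s (rfl | rfl)
      · exact key _ (Or.inl hux)
      · exact key _ (Or.inr huy)
    · rw [← hcen d hd u]; group
  haveI := hKn
  have hle : commutator S ≤ K := by
    let π := QuotientGroup.mk' K
    have hcomm : ∀ a b : S, π a * π b = π b * π a := by
      have hxy : π y * π x = π x * π y := by
        have : π u = 1 := (QuotientGroup.eq_one_iff _).2 (Subgroup.mem_zpowers u)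
        calc π y * π x = π u * (π x * π y) := by rw [hu']; simp [mul_assoc]
          _ = _ := by rw [this, one_mul]
      have h1 : ∀ b : S, Commute (π x) (π b) ∧ Commute (π y) (π b) := by
        intro b
        have hb : b ∈ (Subgroup.centralizer ({π x, π y} : Set (S ⧸ K))).comap π := by
          have : Subgroup.closure ({x, y} : Set S) ⊔ D' ≤ (Subgroup.centralizer ({π x, π y} : Set (S ⧸ K))).comap π := by
            rw [sup_le_iff, Subgroup.closure_le]
            refine ⟨?_, ?_⟩
            · rintro s (rfl | rfl) <;> rintro _ (rfl | rfl) <;> first | rfl | exact hxy | exact hxy.symm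
            · rintro d hd _ (rfl | rfl) <;> rw [← map_mul, ← map_mul, hcen d hd]
          exact this (hgen ▸ Subgroup.mem_top b)
        exact ⟨hb _ (Set.mem_insert _ _), hb _ (Set.mem_insert_of_mem _ rfl)⟩
      intro a b
      have : a ∈ (Subgroup.centralizer ({π b} : Set (S ⧸ K))).comap π := by
        have : Subgroup.closure ({x, y} : Set S) ⊔ D' ≤ (Subgroup.centralizer ({π b} : Set (S ⧸ K))).comap π := by
          rw [sup_le_iff, Subgroup.closure_le]
          refine ⟨?_, ?_⟩
          · rintro s (rfl | rfl) _ rfl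
            · exact (h1 b).1.symm
            · exact (h1 b).2.symm
          · rintro d hd _ rfl
            rw [← map_mul, ← map_mul, hcen d hd]
        exact this (hgen ▸ Subgroup.mem_top a)
      exact (this _ rfl).symm
    rw [commutator_def, Subgroup.commutator_le]
    intro a _ b _
    rw [← QuotientGroup.eq_one_iff (N := K)]
    show π ⁅a, b⁆ = 1
    rw [map_commutatorElement, commutatorElement_eq_one_iff_mul_comm]
    exact hcomm a b
  have hmem : u ∈ commutator S := by
    rw [commutator_def]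
    exact Subgroup.commutator_mem_commutator (Subgroup.mem_top y) (Subgroup.mem_top x)
  have heq : commutator S = K := le_antisymm hle (Subgroup.zpowers_le.2 hmem)
  refine ⟨K, ?_, inferInstance, heq ▸ inferInstance⟩
  intro hbot
  apply hna
  refine ⟨⟨fun a b => ?_⟩⟩
  obtain ⟨a, rfl⟩ := QuotientGroup.mk'_surjective D' a
  obtain ⟨b, rfl⟩ := QuotientGroup.mk'_surjective D' b
  have h1 : ⁅a, b⁆ = 1 := by
    rw [← Subgroup.mem_bot, ← hbot, ← heq, commutator_def]
    exact Subgroup.commutator_mem_commutator (Subgroup.mem_top a) (Subgroup.mem_top b)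
  rw [← map_mul, ← map_mul, commutatorElement_eq_one_iff_mul_comm.1 h1]

end Cfsg.Agent.S3202
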