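import Cfsg.Statements.S3203
import Mathlib
import Cfsg.Agent.Lib.Inv59.Basic

set_option autoImplicit false
open Cfsg

namespace Cfsg.Agent.S3203

open Cfsg.Agent.Lib.Inv59.Basic

theorem map_conj_elem {G : Type*} [Group G] {A : Subgroup G}
    (hA : Cfsg.IsElementaryAbelian 2 A) (g : G) :
    Cfsg.IsElementaryAbelian 2 (A.map (MulAut.conj g).toMonoidHom) := by
  refine ⟨⟨⟨?_⟩⟩, ?_⟩
  · rintro ⟨_, a, ha, rfl⟩ ⟨_, b, hb, rfl⟩
    have := hA.1.is_comm.comm (⟨a, ha⟩ : ↥A) ⟨b, hb⟩
    have : a * b = b * a := congrArg Subtype.val this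
    apply Subtype.ext
    show (MulAut.conj g) a * (MulAut.conj g) b = (MulAut.conj g) b * (MulAut.conj g) a
    rw [← map_mul, this, map_mul]
  · rintro _ ⟨a, ha, rfl⟩
    show ((MulAut.conj g) a) ^ 2 = 1
    rw [← map_pow, hA.2 a ha, map_one]

/-- commuting involutions generate an elementary abelian group -/
theorem elem_closure {G : Type*} [Group G] (s : Set G) (hc : ∀ x ∈ s, ∀ y ∈ s, x * y = y * x)
    (h2 : ∀ x ∈ s, x ^ 2 = 1) : Cfsg.IsElementaryAbelian 2 (Subgroup.closure s) := by
  have hC : ∀ x ∈ Subgroup.closure s, ∀ y ∈ Subgroup.closure s, x * y = y * x := by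
    have h1 : s ⊆ (Subgroup.centralizer s : Set G) := fun x hx y hy => hc y hy x hx
    have h2 : Subgroup.closure s ≤ Subgroup.centralizer s := (Subgroup.closure_le _).2 h1
    have h3 : Subgroup.closure s ≤ Subgroup.centralizer (Subgroup.closure s : Set G) :=
      (Subgroup.closure_le _).2 (fun x hx y hy => (h2 hy x hx).symm)
    exact fun x hx y hy => (h3 hx y hy).symm
  refine ⟨⟨⟨fun x y => Subtype.ext (hC x x.2 y y.2)⟩⟩, fun x hx => ?_⟩
  induction hx using Subgroup.closure_induction with
  | mem x hx => exact h2 x hx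
  | one => exact one_pow 2
  | mul x y hx hy ihx ihy => rw [(show Commute x y from hC x hx y hy).mul_pow, ihx, ihy, mul_one]
  | inv x _ ih => rw [inv_pow, ih, inv_one]

/-- the conjugate of `A` cannot be a different member of the pair -/
theorem no_swap {G : Type*} [Group G] [Finite G] (S : Sylow 2 G) (A B : Subgroup G) (hne : A ≠ B)
    (hAn : ∀ s ∈ (S : Subgroup G), A.map (MulAut.conj s).toMonoidHom = A)
    (n : G) (hn : n ∈ Subgroup.normalizer ((S : Subgroup G) : Set G))
    (hAB : A.map (MulAut.conj n).toMonoidHom = B)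
    (hBA : B.map (MulAut.conj n).toMonoidHom = A) : False := by
  haveI : Fact (Nat.Prime 2) := ⟨Nat.prime_two⟩
  obtain ⟨e, r, hr, her⟩ := Nat.exists_eq_pow_mul_and_not_dvd (orderOf_pos n).ne' 2 (by norm_num)
  have hmem : n ^ r ∈ (S : Subgroup G) := mem_sylow_of_normalizer S e
    (by rw [← pow_mul, mul_comm, ← her, pow_orderOf_eq_one]) (Subgroup.pow_mem _ hn r)
  have hpow : ∀ k : ℕ, A.map (MulAut.conj (n ^ k)).toMonoidHom = if Even k then A else B := by
    intro k
    induction k with
    | zero => simpa only [pow_zero, Even.zero, if_true] using map_conj_one A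
    | succ k ih =>
      have : A.map (MulAut.conj (n ^ (k + 1))).toMonoidHom
          = (A.map (MulAut.conj (n ^ k)).toMonoidHom).map (MulAut.conj n).toMonoidHom := by
        rw [Subgroup.map_map]
        congr 1
        ext x
        simp [pow_succ', mul_assoc]
      rw [this, ih]
      by_cases hk : Even k <;> simp only [hk, if_true, if_false, Nat.even_add_one, not_true_eq_false, not_false_eq_true] <;> assumption
  have h1 := hpow r
  rw [hAn _ hmem] at h1
  have : ¬ Even r := fun h => hr (even_iff_two_dvd.1 h)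
  simp [this] at h1
  exact hne h1

/-- Let S be a Sylow 2-subgroup of a finite group G having exactly two subgroups A ≠ B that are maximal among its elementary abelian subgroups, with S = AB. Then A and B are each weakly closed in S with respect to G, and the normalizer of S normalizes both A and B. -/
theorem result {G : Type*} [Group G] [Finite G] (S : Sylow 2 G)
    (A B : Subgroup ↥(S : Subgroup G)) (hAB : A ≠ B)
    (hA : Cfsg.IsElementaryAbelian 2 A ∧ ∀ C : Subgroup ↥(S : Subgroup G), Cfsg.IsElementaryAbelian 2 C → A ≤ C → C = A)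
    (hB : Cfsg.IsElementaryAbelian 2 B ∧ ∀ C : Subgroup ↥(S : Subgroup G), Cfsg.IsElementaryAbelian 2 C → B ≤ C → C = B)
    (honly : ∀ C : Subgroup ↥(S : Subgroup G), Cfsg.IsElementaryAbelian 2 C →
      (∀ D : Subgroup ↥(S : Subgroup G), Cfsg.IsElementaryAbelian 2 D → C ≤ D → D = C) → C = A ∨ C = B)
    (hprod : ∀ s : ↥(S : Subgroup G), ∃ a ∈ A, ∃ b ∈ B, a * b = s)
    (A' B' : Subgroup G) (hA' : A' = A.map (S : Subgroup G).subtype) (hB' : B' = B.map (S : Subgroup G).subtype) :
    Cfsg.IsWeaklyClosed A' (S : Subgroup G) ∧ Cfsg.IsWeaklyClosed B' (S : Subgroup G) ∧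
      Subgroup.normalizer ((S : Subgroup G) : Set G) ≤ Subgroup.normalizer (A' : Set G) ⊓ Subgroup.normalizer (B' : Set G) := by
  subst hA' hB'
  haveI : Fact (Nat.Prime 2) := ⟨Nat.prime_two⟩
  let f := (S : Subgroup G).subtype
  -- transfer the hypotheses
  have hmap : ∀ C : Subgroup ↥(S : Subgroup G), Cfsg.IsElementaryAbelian 2 C →
      Cfsg.IsElementaryAbelian 2 (C.map f) := by
    intro C hC
    refine ⟨⟨⟨?_⟩⟩, ?_⟩
    · rintro ⟨_, a, ha, rfl⟩ ⟨_, b, hb, rfl⟩
      have := hC.1.is_comm.comm (⟨a, ha⟩ : ↥C) ⟨b, hb⟩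
      have : a * b = b * a := congrArg Subtype.val this
      apply Subtype.ext
      show f a * f b = f b * f a
      rw [← map_mul, this, map_mul]
    · rintro _ ⟨a, ha, rfl⟩
      rw [← map_pow, hC.2 a ha, map_one]
  have hcomap : ∀ C : Subgroup G, Cfsg.IsElementaryAbelian 2 C →
      Cfsg.IsElementaryAbelian 2 (C.subgroupOf (S : Subgroup G)) := by
    intro C hC
    refine ⟨⟨⟨?_⟩⟩, ?_⟩
    · rintro ⟨a, ha⟩ ⟨b, hb⟩
      apply Subtype.ext; apply Subtype.ext
      have h1 := congrArg Subtype.val (hC.1.is_comm.comm (⟨(a : G), ha⟩ : ↥C) ⟨(b : G), hb⟩)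
      simpa using h1
    · intro a ha
      exact Subtype.ext (hC.2 _ ha)
  have hmm : ∀ (a b : G) (W : Subgroup G), (W.map (MulAut.conj a).toMonoidHom).map (MulAut.conj b).toMonoidHom
      = W.map (MulAut.conj (b * a)).toMonoidHom := by
    intro a b W
    rw [Subgroup.map_map]
    congr 1
    ext x
    simp [mul_assoc]
  have hcard : ∀ (g : G) (W : Subgroup G), Nat.card ↥(W.map (MulAut.conj g).toMonoidHom) = Nat.card ↥W :=
    fun g W => Subgroup.card_map_of_injective (MulEquiv.injective _)
  have hmax : ∀ C : Subgroup G, Cfsg.IsElementaryAbelian 2 C → C ≤ (S : Subgroup G) →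
      C ≤ A.map f ∨ C ≤ B.map f := by
    intro C hC hCS
    obtain ⟨M, hCM, hM⟩ := Finite.exists_le_maximal
      (p := fun D : Subgroup ↥(S : Subgroup G) => Cfsg.IsElementaryAbelian 2 D) (hcomap C hC)
    have := honly M hM.prop (fun D hD hMD => le_antisymm (hM.le_of_ge hD hMD) hMD)
    have hC' : C ≤ M.map f := fun x hx => ⟨⟨x, hCS hx⟩, hCM hx, rfl⟩
    rcases this with rfl | rfl
    · exact Or.inl hC'
    · exact Or.inr hC'
  -- A and B are normal in S and self-centralizing in S
  have hnorm : ∀ P Q : Subgroup ↥(S : Subgroup G), Cfsg.IsElementaryAbelian 2 P →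
      (∀ s : ↥(S : Subgroup G), ∃ a ∈ P, ∃ b ∈ Q, a * b = s) →
      Cfsg.IsElementaryAbelian 2 Q → P ≠ Q →
      (∀ C : Subgroup ↥(S : Subgroup G), Cfsg.IsElementaryAbelian 2 C →
        (∀ D : Subgroup ↥(S : Subgroup G), Cfsg.IsElementaryAbelian 2 D → C ≤ D → D = C) → C = P ∨ C = Q) →
      (∀ C : Subgroup ↥(S : Subgroup G), Cfsg.IsElementaryAbelian 2 C → P ≤ C → C = P) →
      (∀ s ∈ (S : Subgroup G), (P.map f).map (MulAut.conj s).toMonoidHom = P.map f) ∧
      (S : Subgroup G) ⊓ Subgroup.centralizer ((P.map f : Subgroup G) : Set G) ≤ P.map f := by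
    intro P Q hP hPQ hQ hne hon hPmax
    have hPn : ∀ s : ↥(S : Subgroup G), P.map (MulAut.conj s).toMonoidHom = P := by
      intro s
      have hC : ∀ D : Subgroup ↥(S : Subgroup G), Cfsg.IsElementaryAbelian 2 D →
          P.map (MulAut.conj s).toMonoidHom ≤ D → D = P.map (MulAut.conj s).toMonoidHom := by
        intro D hD hle
        have h1 : P ≤ D.map (MulAut.conj s⁻¹).toMonoidHom := by
          intro x hx
          exact ⟨_, hle ⟨x, hx, rfl⟩, by simp [mul_assoc]⟩
        have h2 := hPmax _ (map_conj_elem hD s⁻¹) h1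
        refine (Subgroup.map_injective (f := (MulAut.conj s⁻¹).toMonoidHom) (MulEquiv.injective _) ?_)
        rw [h2, map_conj_map_conj, inv_mul_cancel, map_conj_one]
      rcases hon _ (map_conj_elem hP s) hC with h | h
      · exact h
      · exfalso
        apply hne
        obtain ⟨a, ha, b, hb, hab⟩ := hPQ s⁻¹
        have hs : s = b⁻¹ * a⁻¹ := by rw [← mul_inv_rev, hab, inv_inv]
        have hPa : P.map (MulAut.conj a⁻¹).toMonoidHom = P :=
          map_conj_self _ (P.inv_mem ha)
        have hQb : Q.map (MulAut.conj b⁻¹).toMonoidHom = Q :=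
          map_conj_self _ (Q.inv_mem hb)
        refine Subgroup.map_injective (f := (MulAut.conj b⁻¹).toMonoidHom) (MulEquiv.injective _) ?_
        rw [hQb]
        conv_lhs => rw [← hPa, Subgroup.map_map]
        rw [← h, hs]
        congr 1
        ext x
        simp [mul_assoc]
    constructor
    · intro s hs
      conv_rhs => rw [← hPn ⟨s, hs⟩]
      rw [Subgroup.map_map, Subgroup.map_map]
      congr 1
    · rintro x ⟨hxS, hxC⟩
      obtain ⟨a, ha, b, hb, hab⟩ := hPQ ⟨x, hxS⟩
      have hbC : ∀ y ∈ P, y * b = b * y := by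
        intro y hy
        have h1 : (y : G) * x = x * y := hxC _ ⟨y, hy, rfl⟩
        have h2 : y * (a * b) = (a * b) * y := by rw [hab]; exact Subtype.ext h1
        have h3 : y * a = a * y := congrArg Subtype.val (hP.1.is_comm.comm (⟨y, hy⟩ : ↥P) ⟨a, ha⟩)
        have h4 : a * (y * b) = a * (b * y) := by rw [← mul_assoc, ← h3, mul_assoc, h2, mul_assoc]
        exact mul_left_cancel h4
      have hE : Cfsg.IsElementaryAbelian 2 (Subgroup.closure (insert b (P : Set ↥(S : Subgroup G)))) := by
        apply elem_closure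
        · rintro y (rfl | hy) z (rfl | hz)
          · rfl
          · exact (hbC z hz).symm
          · exact hbC y hy
          · exact congrArg Subtype.val (hP.1.is_comm.comm (⟨y, hy⟩ : ↥P) ⟨z, hz⟩)
        · rintro y (rfl | hy)
          · exact hQ.2 y hb
          · exact hP.2 y hy
      have h5 := hPmax _ hE (fun y hy => Subgroup.subset_closure (Set.mem_insert_of_mem b hy))
      have hbP : b ∈ P := h5 ▸ Subgroup.subset_closure (Set.mem_insert b _)
      exact ⟨⟨x, hxS⟩, hab ▸ P.mul_mem ha hbP, rfl⟩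
  obtain ⟨hAn, hAc⟩ := hnorm A B hA.1 hprod hB.1 hAB honly hA.2
  obtain ⟨hBn, hBc⟩ := hnorm B A hB.1 (fun s => by
      obtain ⟨a, ha, b, hb, hab⟩ := hprod s⁻¹
      exact ⟨b⁻¹, B.inv_mem hb, a⁻¹, A.inv_mem ha, by rw [← mul_inv_rev, hab, inv_inv]⟩)
    hA.1 (Ne.symm hAB) (fun C h h' => (honly C h h').symm) hB.2
  set A' := A.map f with hA'
  set B' := B.map f with hB'
  have hne' : A' ≠ B' := fun h => hAB (Subgroup.map_injective (Subgroup.subtype_injective _) h)
  have hA'S : A' ≤ (S : Subgroup G) := Subgroup.map_subtype_le A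
  have hB'S : B' ≤ (S : Subgroup G) := Subgroup.map_subtype_le B
  -- elementary abelian subgroups containing (conjugates of) A', B'
  have hsup : ∀ (W : Subgroup G), W ≤ (S : Subgroup G) → Cfsg.IsElementaryAbelian 2 W →
      (∀ s ∈ (S : Subgroup G), W.map (MulAut.conj s).toMonoidHom = W) →
      (S : Subgroup G) ⊓ Subgroup.centralizer (W : Set G) ≤ W →
      ∀ E : Subgroup G, Cfsg.IsElementaryAbelian 2 E → W ≤ E → E = W := by
    intro W hWS hW hWn hWc E hE hWE
    refine le_antisymm ?_ hWE
    have hEC : E ≤ Subgroup.centralizer (W : Set G) := fun e he w hw =>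
      congrArg Subtype.val (hE.1.is_comm.comm (⟨w, hWE hw⟩ : ↥E) ⟨e, he⟩)
    have hN : ∀ u : G, W.map (MulAut.conj u).toMonoidHom = W → u ∈ Subgroup.normalizer (W : Set G) := by
      intro u hu
      rw [Subgroup.mem_normalizer_iff]
      intro x
      constructor
      · intro hx; rw [← hu]; exact ⟨x, hx, rfl⟩
      · intro hx
        obtain ⟨y, hy, hy'⟩ := hu.ge hx
        have : y = x := by simpa [mul_assoc] using hy'
        rwa [← this]
    have hEN : E ≤ Subgroup.normalizer (W : Set G) := fun e he => by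
      rw [Subgroup.mem_normalizer_iff]
      intro x
      constructor
      · intro hx
        rw [← hEC he x hx]
        simpa [mul_assoc] using hx
      · intro hx
        have h1 := hEC he _ hx
        have h2 : x = e * x * e⁻¹ := by
          have := congrArg (fun z => e⁻¹ * z) h1
          simpa [mul_assoc] using this
        rwa [← h2] at hx
    have hE2 : IsPGroup 2 ↥E := fun e => ⟨1, Subtype.ext (by simpa using hE.2 e e.2)⟩
    obtain ⟨h, hh, hhE⟩ := exists_conj_mem_sylow S (Subgroup.normalizer (W : Set G)) E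
      (fun s hs => hN s (hWn s hs)) hE2 hEN
    intro e he
    have h1 : h * e * h⁻¹ ∈ W := by
      refine hWc ⟨hhE e he, ?_⟩
      intro w hw
      have hw' : h⁻¹ * w * h ∈ W := by
        have := (Subgroup.mem_normalizer_iff.1 hh (h⁻¹ * w * h)).2
        exact this (by simpa [mul_assoc] using hw)
      have := hEC he _ hw'
      calc w * (h * e * h⁻¹) = h * ((h⁻¹ * w * h) * e) * h⁻¹ := by group
        _ = h * (e * (h⁻¹ * w * h)) * h⁻¹ := by rw [this]
        _ = _ := by group
    exact (Subgroup.mem_normalizer_iff.1 hh e).2 h1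
  have hsA := hsup A' hA'S (hmap A hA.1) hAn hAc
  have hsB := hsup B' hB'S (hmap B hB.1) hBn hBc
  -- no element maps A' onto B'
  have hnc : ∀ g : G, A'.map (MulAut.conj g).toMonoidHom ≠ B' := by
    intro g hg
    have hN : ∀ u : G, B'.map (MulAut.conj u).toMonoidHom = B' → u ∈ Subgroup.normalizer (B' : Set G) := by
      intro u hu
      rw [Subgroup.mem_normalizer_iff]
      intro x
      constructor
      · intro hx; rw [← hu]; exact ⟨x, hx, rfl⟩
      · intro hx
        obtain ⟨y, hy, hy'⟩ := hu.ge hx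
        have : y = x := by simpa [mul_assoc] using hy'
        rwa [← this]
    have hSg : (S : Subgroup G).map (MulAut.conj g).toMonoidHom ≤ Subgroup.normalizer (B' : Set G) := by
      rintro _ ⟨s, hs, rfl⟩
      apply hN
      rw [← hg, hmm]
      conv_rhs => rw [← hAn s hs, hmm]
      congr 2
      ext x
      simp [mul_assoc]
    obtain ⟨h, hh, hhS⟩ := exists_conj_mem_sylow S (Subgroup.normalizer (B' : Set G)) _
      (fun s hs => hN s (hBn s hs)) (S.isPGroup'.map _) hSg
    have hnS : h * g ∈ Subgroup.normalizer ((S : Subgroup G) : Set G) := by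
      apply mem_normalizer_of_conj_mem
      intro x hx
      have := hhS _ ⟨x, hx, rfl⟩
      simpa [mul_assoc] using this
    have hh' : B'.map (MulAut.conj h).toMonoidHom = B' := by
      ext x
      constructor
      · rintro ⟨y, hy, rfl⟩
        exact (Subgroup.mem_normalizer_iff.1 hh y).1 hy
      · intro hx
        refine ⟨h⁻¹ * x * h, (Subgroup.mem_normalizer_iff.1 hh _).2 (by simpa [mul_assoc] using hx), by simp [mul_assoc]⟩
    have hAB' : A'.map (MulAut.conj (h * g)).toMonoidHom = B' := by rw [← hmm, hg, hh']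
    have hle : B'.map (MulAut.conj (h * g)).toMonoidHom ≤ (S : Subgroup G) := by
      rintro _ ⟨y, hy, rfl⟩
      exact (Subgroup.mem_normalizer_iff.1 hnS y).1 (hB'S hy)
    rcases hmax _ (map_conj_elem (hmap B hB.1) _) hle with hl | hl
    · have hcA : Nat.card ↥A' = Nat.card ↥B' := by rw [← hAB', hcard]
      exact no_swap S A' B' hne' hAn (h * g) hnS hAB'
        (Subgroup.eq_of_le_of_card_ge hl (by rw [hcard, hcA]))
    · have hBB : B'.map (MulAut.conj (h * g)).toMonoidHom = B' :=
        Subgroup.eq_of_le_of_card_ge hl (by rw [hcard])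
      exact hne' (Subgroup.map_injective (MulEquiv.injective _) (hAB'.trans hBB.symm))
  have hinv : ∀ (g : G) (W V : Subgroup G), W.map (MulAut.conj g).toMonoidHom ≤ V →
      W ≤ V.map (MulAut.conj g⁻¹).toMonoidHom := fun g W V hle x hx =>
    ⟨_, hle ⟨x, hx, rfl⟩, by simp [mul_assoc]⟩
  have hback : ∀ (g : G) (W V : Subgroup G), V.map (MulAut.conj g⁻¹).toMonoidHom = W →
      W.map (MulAut.conj g).toMonoidHom = V := by
    intro g W V h
    rw [← h, hmm]
    have : (MulAut.conj (g * g⁻¹)).toMonoidHom = MonoidHom.id G := by ext; simp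
    rw [this, Subgroup.map_id]
  have hwA : Cfsg.IsWeaklyClosed A' (S : Subgroup G) := by
    refine ⟨hA'S, fun g hg => ?_⟩
    rcases hmax _ (map_conj_elem (hmap A hA.1) g) hg with hl | hl
    · exact Subgroup.eq_of_le_of_card_ge hl (by rw [hcard])
    · exact absurd (hback g A' B' (hsA _ (map_conj_elem (hmap B hB.1) g⁻¹) (hinv g _ _ hl))) (hnc g)
  have hwB : Cfsg.IsWeaklyClosed B' (S : Subgroup G) := by
    refine ⟨hB'S, fun g hg => ?_⟩
    rcases hmax _ (map_conj_elem (hmap B hB.1) g) hg with hl | hl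
    · exact absurd (hsB _ (map_conj_elem (hmap A hA.1) g⁻¹) (hinv g _ _ hl)) (hnc g⁻¹)
    · exact Subgroup.eq_of_le_of_card_ge hl (by rw [hcard])
  refine ⟨hwA, hwB, fun n hn => ?_⟩
  refine ⟨?_, ?_⟩
  · show n ∈ Subgroup.normalizer (A' : Set G)
    apply mem_normalizer_of_conj_mem
    intro x hx
    have := hwA.2 n (by
      rintro _ ⟨y, hy, rfl⟩
      exact (Subgroup.mem_normalizer_iff.1 hn y).1 (hA'S hy))
    exact this.le ⟨x, hx, rfl⟩
  · show n ∈ Subgroup.normalizer (B' : Set G)
    apply mem_normalizer_of_conj_mem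
    intro x hx
    have := hwB.2 n (by
      rintro _ ⟨y, hy, rfl⟩
      exact (Subgroup.mem_normalizer_iff.1 hn y).1 (hB'S hy))
    exact this.le ⟨x, hx, rfl⟩

end Cfsg.Agent.S3203
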