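import Cfsg.Statements.S3204
import Mathlib
import Cfsg.Agent.Lib.Inv59.RudT.Transfer
import Cfsg.Agent.Lib.Inv59.RudT.Residual
import Cfsg.Agent.Lib.Cores.Pi
import Cfsg.Agent.S3175

set_option autoImplicit false
set_option linter.style.haveILetI false
set_option linter.unusedSimpArgs false
open Cfsg

namespace Cfsg.Agent.S3204

open Cfsg.Agent.Lib Cfsg.Agent.Lib.Inv59.RudT

/-- A basis of an elementary abelian group of order eight. -/
theorem exists_basis {K : Type*} [Group K] [Finite K] (hexp : ∀ x : K, x * x = 1) (h8 : Nat.card K = 8) :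
    ∃ e : (Fin 3 → ZMod 2) ≃ K, ∀ v w, e (v + w) = e v * e w := by
  haveI := Fact.mk Nat.prime_two
  have hinv : ∀ x : K, x⁻¹ = x := fun x => inv_eq_of_mul_eq_one_right (hexp x)
  letI : CommGroup K := { ‹Group K› with
    mul_comm := fun a b => by
      have h := hinv (a * b)
      rw [mul_inv_rev, hinv, hinv] at h
      exact h.symm }
  letI : Module (ZMod 2) (Additive K) := AddCommGroup.zmodModule fun x => by
    rw [two_nsmul]
    exact hexp x.toMul
  haveI : Module.Finite (ZMod 2) (Additive K) := Module.Finite.of_finite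
  have hrank : Module.finrank (ZMod 2) (Additive K) = 3 := by
    have h := Module.natCard_eq_pow_finrank (K := ZMod 2) (V := Additive K)
    rw [Nat.card_zmod, Nat.card_congr Additive.toMul, h8, show 8 = 2 ^ 3 by norm_num] at h
    exact (Nat.pow_right_injective le_rfl h).symm
  let b := Module.finBasisOfFinrankEq (ZMod 2) (Additive K) hrank
  exact ⟨b.equivFun.symm.toEquiv.trans Additive.toMul, fun v w => congrArg Additive.toMul (map_add b.equivFun.symm v w)⟩

/-- Burnside: a kernel containing all elements of odd order. -/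
theorem exists_odd_kernel {X : Type*} [Group X] [Finite X] (P : Sylow 2 X)
    (hP : Subgroup.normalizer ((P : Subgroup X) : Set X) ≤ Subgroup.centralizer ((P : Subgroup X) : Set X)) :
    ∃ K : Subgroup X, Odd (Nat.card K) ∧ K.Normal ∧ K.IsComplement' (P : Subgroup X) ∧
      ∀ x : X, Odd (orderOf x) → x ∈ K := by
  haveI := Fact.mk Nat.prime_two
  refine ⟨(MonoidHom.transferSylow P hP).ker, ?_, inferInstance,
    MonoidHom.ker_transferSylow_isComplement' P hP, fun x hx => ?_⟩
  · rw [← Nat.not_even_iff_odd, even_iff_two_dvd]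
    exact MonoidHom.not_dvd_card_ker_transferSylow P hP
  · rw [MonoidHom.mem_ker]
    obtain ⟨k, hk⟩ := P.isPGroup' (MonoidHom.transferSylow P hP x)
    have h1 := Nat.dvd_gcd (orderOf_dvd_of_pow_eq_one hk) (orderOf_map_dvd (MonoidHom.transferSylow P hP) x)
    rw [Nat.Coprime.pow_left k (Nat.coprime_two_left.2 hx)] at h1
    exact orderOf_eq_one_iff.1 (Nat.dvd_one.1 h1)

/-- Let G be a finite group whose Sylow 2-subgroup T has order at least 2^14 with the fourth term of its upper central series of order 16; let W be the centralizer in T of the third term, and suppose the Frattini subgroup of W has order at most 8 and lies in every subgroup of W of index at most 16. Suppose G has no subgroup of index 2, and write W′ for the derived subgroup of W. Then the normalizer of W′ is the product of the normalizer of W with the largest normal odd-order subgroup of the normalizer of W′, and the normalizer N of W has N/(O(N)W) isomorphic to GL(3, 2). -/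
theorem result {G : Type*} [Group G] [Finite G]
    (T : Sylow 2 G) (ha : 2 ^ 14 ≤ Nat.card ↥(T : Subgroup G))
    (hb : Nat.card ↥(Subgroup.upperCentralSeries ↥(T : Subgroup G) 4) = 16)
    (W : Subgroup ↥(T : Subgroup G))
    (hW : W = Subgroup.centralizer ((Subgroup.upperCentralSeries ↥(T : Subgroup G) 3 : Subgroup ↥(T : Subgroup G)) : Set ↥(T : Subgroup G)))
    (hc : Nat.card ↥(frattini ↥W) ≤ 8)
    (hd : ∀ U : Subgroup ↥W, U.index ≤ 16 → frattini ↥W ≤ U)
    (h2 : ∀ H : Subgroup G, H.index ≠ 2)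
    (WG D N M : Subgroup G) (hWG : WG = W.map (T : Subgroup G).subtype)
    (hDW : D = ((commutator ↥W).map W.subtype).map (T : Subgroup G).subtype)
    (hN : N = Subgroup.normalizer (WG : Set G)) (hM : M = Subgroup.normalizer (D : Set G)) :
    (N.subgroupOf M ⊔ Cfsg.oddCore ↥M = ⊤) ∧
      ∃ (_ : (WG.subgroupOf N ⊔ Cfsg.oddCore ↥N).Normal),
        Nonempty (↥N ⧸ (WG.subgroupOf N ⊔ Cfsg.oddCore ↥N) ≃* GL (Fin 3) (ZMod 2)) := by
  classical
  haveI := Fact.mk Nat.prime_two
  have H : Hyp ↥(T : Subgroup G) W := ⟨T.isPGroup', ha, hb, hW, hc, hd⟩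
  haveI hWn := H.W_normal
  set ι := (T : Subgroup G).subtype with hι
  have hιinj : Function.Injective ι := (T : Subgroup G).subtype_injective
  have hDeq : D = Dg T := by
    rw [hDW, commutator_def, Subgroup.map_commutator, ← MonoidHom.range_eq_map, Subgroup.range_subtype,
      H.comm_eq]
  subst hDeq hWG hM hN
  set D := Dg T with hD
  set M := Subgroup.normalizer (D : Set G) with hM
  set WG := W.map ι with hWG
  set N := Subgroup.normalizer (WG : Set G) with hN
  have hTM : (T : Subgroup G) ≤ M := T_le_Mg T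
  have hWT : WG ≤ (T : Subgroup G) := Subgroup.map_subtype_le _
  have hcardD : Nat.card D = 8 := by
    rw [hD, Subgroup.card_map_of_injective hιinj, H.card_Z (by omega)]
    norm_num
  have hcardW : Nat.card WG = 2 ^ 11 := by
    rw [hWG, Subgroup.card_map_of_injective hιinj, H.card_eq.1]
  have hDexp : ∀ x : ↥D, x * x = 1 := by
    rintro ⟨_, z, hz, rfl⟩
    apply Subtype.ext
    show ι z * ι z = 1
    rw [← map_mul, H.elem hz, map_one]
  obtain ⟨e, he⟩ := exists_basis hDexp hcardD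
  have hcj : ∀ (m : ↥M) (d : ↥D), (m : G) * d * (m : G)⁻¹ ∈ D := fun m d =>
    (Subgroup.mem_normalizer_iff.1 m.2 _).1 d.2
  let cjD : ↥M → ↥D → ↥D := fun m d => ⟨_, hcj m d⟩
  have hcjD : ∀ m d, ((cjD m d : ↥D) : G) = (m : G) * d * (m : G)⁻¹ := fun m d => rfl
  have hesymm : ∀ a b : ↥D, e.symm (a * b) = e.symm a + e.symm b := fun a b => by
    apply e.injective
    rw [he, e.apply_symm_apply, e.apply_symm_apply, e.apply_symm_apply]
  let lin : ↥M → ((Fin 3 → ZMod 2) →ₗ[ZMod 2] (Fin 3 → ZMod 2)) := fun m =>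
    AddMonoidHom.toZModLinearMap 2 (AddMonoidHom.mk' (fun v => e.symm (cjD m (e v))) fun v w => by
      rw [← hesymm]
      congr 1
      apply Subtype.ext
      rw [Subgroup.coe_mul, hcjD, hcjD, hcjD, he, Subgroup.coe_mul]
      group)
  have hlin : ∀ m v, lin m v = e.symm (cjD m (e v)) := fun m v => rfl
  let θ0 : ↥M →* ((Fin 3 → ZMod 2) →ₗ[ZMod 2] (Fin 3 → ZMod 2)) :=
    { toFun := lin
      map_one' := LinearMap.ext fun v => by
        rw [hlin, show cjD 1 (e v) = e v from Subtype.ext (by rw [hcjD]; simp), e.symm_apply_apply]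
        rfl
      map_mul' := fun a b => LinearMap.ext fun v => by
        show lin (a * b) v = lin a (lin b v)
        rw [hlin, hlin, hlin, e.apply_symm_apply]
        congr 1
        apply Subtype.ext
        rw [hcjD, hcjD, hcjD, Subgroup.coe_mul]
        group }
  let θ : ↥M →* G32 := Matrix.GeneralLinearGroup.toLin.symm.toMonoidHom.comp θ0.toHomUnits
  have hθ1 : ∀ m : ↥M, θ m = 1 ↔ ∀ d ∈ D, (m : G) * d * (m : G)⁻¹ = d := by
    intro m
    show Matrix.GeneralLinearGroup.toLin.symm (θ0.toHomUnits m) = 1 ↔ _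
    rw [MulEquiv.map_eq_one_iff, Units.ext_iff]
    show lin m = 1 ↔ _
    constructor
    · intro h d hd
      have h' : e.symm (cjD m (e (e.symm ⟨d, hd⟩))) = e.symm ⟨d, hd⟩ := LinearMap.congr_fun h _
      rw [e.apply_symm_apply] at h'
      exact congrArg Subtype.val (e.symm.injective h')
    · intro h
      refine LinearMap.ext fun v => ?_
      rw [hlin, show cjD m (e v) = e v from Subtype.ext (h _ (e v).2), e.symm_apply_apply]
      rfl
  let iT : ↥(T : Subgroup G) →* ↥M := Subgroup.inclusion hTM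
  have hθT : ∀ t : ↥(T : Subgroup G), θ (iT t) = 1 ↔ t ∈ W := by
    intro t
    rw [hθ1, H.eq, Subgroup.mem_centralizer_iff]
    constructor
    · intro h z hz
      exact hιinj (show ι (z * t) = ι (t * z) by
        rw [map_mul, map_mul]
        exact (mul_inv_eq_iff_eq_mul.1 (h _ (Subgroup.mem_map_of_mem ι hz))).symm)
    · rintro h _ ⟨z, hz, rfl⟩
      show (t : G) * ι z * (t : G)⁻¹ = ι z
      rw [mul_inv_eq_iff_eq_mul]
      exact (congrArg ι (h z hz)).symm
  obtain ⟨g, hgsurj, hgker, -⟩ := H.exists_g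
  -- Step A
  let TM : Sylow 2 ↥M := T.subtype hTM
  have hTMmem : ∀ m : ↥M, m ∈ TM ↔ (m : G) ∈ (T : Subgroup G) := fun m => Iff.rfl
  set X := θ.range with hX
  let θX : ↥M →* ↥X := θ.rangeRestrict
  let S := (θX.comp iT).range
  have hScard : Nat.card S = 8 := by
    rw [← Subgroup.index_ker]
    have : (θX.comp iT).ker = W := by
      ext t
      rw [MonoidHom.mem_ker, ← hθT]
      exact Subtype.ext_iff
    rw [this, H.card_eq.2.1]
  have hX2 : ∀ K : Subgroup ↥X, K.index ≠ 2 := by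
    intro K hK
    let f : ↥M → ZMod 2 := fun m => if θX m ∈ K then 0 else 1
    have hf : ∀ a b, f (a * b) = f a + f b := fun a b => by
      simp only [f, map_mul, Subgroup.mul_mem_iff_of_index_two hK]
      by_cases h1 : θX a ∈ K <;> by_cases h2 : θX b ∈ K <;> simp [h1, h2] <;> exact (CharTwo.add_self_eq_zero _).symm
    have hSK : S ≤ K := by
      rintro _ ⟨t, rfl⟩
      have h := transfer_vanish T H h2 f hf (iT t) t.2
      simp only [f] at h
      by_contra hn
      exact one_ne_zero (α := ZMod 2) ((if_neg hn).symm.trans h)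
    have h8 : 8 ∣ Nat.card K := hScard ▸ Subgroup.card_dvd_of_le hSK
    have h16 : Nat.card K * 2 = Nat.card ↥X := (congrArg (Nat.card K * ·) hK).symm.trans K.card_mul_index
    have h168 : Nat.card ↥X ∣ 168 := card_G32 ▸ Subgroup.card_subgroup_dvd_card X
    have h := (Nat.mul_dvd_mul_right h8 2).trans ((dvd_of_eq h16).trans h168)
    norm_num at h
  have hSN : Subgroup.normalizer (S : Set ↥X) = S := by
    refine le_antisymm (fun x hx => ?_) Subgroup.le_normalizer
    obtain ⟨m, rfl⟩ := θ.rangeRestrict_surjective x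
    let L : Subgroup ↥M := S.comap θX
    have hTL : (TM : Subgroup ↥M) ≤ L := fun y hy => ⟨⟨y, hy⟩, rfl⟩
    have hmTL : ((m • TM : Sylow 2 ↥M) : Subgroup ↥M) ≤ L := by
      intro y hy
      rw [Sylow.coe_subgroup_smul, Subgroup.mem_pointwise_smul_iff_inv_smul_mem] at hy
      simp only [← map_inv, MulAut.smul_def, MulAut.conj_apply, inv_inv] at hy
      have h := (Subgroup.mem_normalizer_iff.1 hx _).1 (hTL hy)
      show θX y ∈ S
      rw [show θX y = θX m * θX (m⁻¹ * y * m) * (θX m)⁻¹ by simp [map_mul, mul_assoc]]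
      exact h
    obtain ⟨l, hl⟩ := MulAction.exists_smul_eq ↥L (TM.subtype hTL) ((m • TM).subtype hmTL)
    have hn : ∀ y : ↥M, y ∈ TM → ((l : ↥M)⁻¹ * m) * y * ((l : ↥M)⁻¹ * m)⁻¹ ∈ TM := by
      intro y hy
      have h1 : m * y * m⁻¹ ∈ ((m • TM : Sylow 2 ↥M) : Subgroup ↥M) := by
        rw [Sylow.coe_subgroup_smul]
        exact Subgroup.smul_mem_pointwise_smul y (MulAut.conj m) _ hy
      have h2 : (⟨m * y * m⁻¹, hmTL h1⟩ : ↥L) ∈ (((m • TM).subtype hmTL : Sylow 2 ↥L) : Subgroup ↥L) := h1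
      rw [← hl, Sylow.coe_subgroup_smul, Subgroup.mem_pointwise_smul_iff_inv_smul_mem] at h2
      simp only [← map_inv, MulAut.smul_def, MulAut.conj_apply, Sylow.coe_subtype,
        Subgroup.mem_subgroupOf, Subgroup.coe_mul, InvMemClass.coe_inv, inv_inv] at h2
      show _ ∈ (TM : Subgroup ↥M)
      convert h2 using 1
      group
    set n : ↥M := (l : ↥M)⁻¹ * m with hn'
    have hnT : (n : G) ∈ Subgroup.normalizer ((T : Subgroup G) : Set G) := by
      have hle : (T : Subgroup G).map (MulAut.conj (n : G)).toMonoidHom ≤ (T : Subgroup G) := by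
        rintro _ ⟨t, ht, rfl⟩
        exact hn ⟨t, hTM ht⟩ ht
      have heq := Subgroup.eq_of_le_of_card_ge hle
        (Subgroup.card_map_of_injective (f := (MulAut.conj (n : G)).toMonoidHom) (MulAut.conj _).injective).ge
      rw [Subgroup.mem_normalizer_iff]
      refine fun t => ⟨fun ht => hle ⟨t, ht, rfl⟩, fun ht => ?_⟩
      rw [← heq] at ht
      obtain ⟨s, hs, es⟩ := ht
      exact (MulAut.conj (n : G)).injective es ▸ hs
    obtain ⟨P, K, hKn, hKP⟩ := (S3175.result T ha hb W hW hc hd).1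
    haveI := hKn
    let NT := Subgroup.normalizer ((T : Subgroup G) : Set G)
    let TN : Sylow 2 ↥NT := T.subtype Subgroup.le_normalizer
    haveI hTNn : (TN : Subgroup ↥NT).Normal := Subgroup.normal_in_normalizer
    haveI : Subsingleton (Sylow 2 ↥NT) := (Sylow.unique_of_normal TN hTNn).instSubsingleton
    have hP : P = TN := Subsingleton.elim _ _
    subst hP
    obtain ⟨⟨⟨k, hk⟩, ⟨p, hp⟩⟩, hkp⟩ := hKP.2 ⟨(n : G), hnT⟩
    have hkpG : ((k : ↥NT) : G) * (p : G) = (n : G) := congrArg Subtype.val hkp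
    have hpT : (p : G) ∈ (T : Subgroup G) := hp
    have hkM : (k : G) ∈ M := by
      rw [show (k : G) = (n : G) * (p : G)⁻¹ by rw [← hkpG]; group]
      exact M.mul_mem n.2 (M.inv_mem (hTM hpT))
    have hk1 : θ ⟨(k : G), hkM⟩ = 1 := by
      rw [hθ1]
      rintro _ ⟨z, hz, rfl⟩
      have hzN : ι z ∈ NT := Subgroup.le_normalizer z.2
      have hc := Subgroup.commute_of_normal_of_disjoint _ _ hKn hTNn hKP.disjoint k ⟨ι z, hzN⟩ hk z.2
      exact mul_inv_eq_iff_eq_mul.2 (congrArg Subtype.val hc.eq)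
    have hθn : θX n ∈ S := by
      refine ⟨⟨(p : G), hpT⟩, Subtype.ext ?_⟩
      show θ (iT ⟨(p : G), hpT⟩) = θ n
      rw [show n = ⟨(k : G), hkM⟩ * iT ⟨(p : G), hpT⟩ from Subtype.ext hkpG.symm, map_mul, hk1, one_mul]
    have h := S.mul_mem (show θX (l : ↥M) ∈ S from l.2) hθn
    rwa [hn', ← map_mul, mul_inv_cancel_left] at h
  have hθsurj : Function.Surjective θ := fun x => by
    obtain ⟨⟨_, m, rfl⟩, hy⟩ := surj_of_self_normalizing X.subtype X.subtype_injective S hScard hSN hX2 x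
    exact ⟨m, hy⟩
  -- Step B
  let C := θ.ker
  haveI : C.Normal := inferInstance
  let WM := WG.subgroupOf M
  have hWMC : WM ≤ C := fun w hw => by
    obtain ⟨t, ht, e'⟩ : (w : G) ∈ W.map ι := hw
    rw [MonoidHom.mem_ker, show w = iT t from Subtype.ext e'.symm]
    exact (hθT t).2 ht
  have hcardC : Nat.card ↥M = Nat.card C * 168 := by
    rw [← card_G32, ← C.card_mul_index, Subgroup.index_ker, MonoidHom.range_eq_top.2 hθsurj,
      Subgroup.card_top]
  have hWMcard : Nat.card WM = 2 ^ 11 := by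
    rw [Nat.card_congr (Subgroup.subgroupOfEquivOfLe (hWT.trans hTM)).toEquiv, hcardW]
  have hCno : ¬ 2 ^ 12 ∣ Nat.card C := by
    intro h
    have h1 : 2 ^ 15 ∣ Nat.card ↥M := by
      rw [hcardC]
      exact dvd_trans (by norm_num) (Nat.mul_dvd_mul_right h 168)
    have h2 := Subgroup.card_mul_index (TM : Subgroup ↥M)
    have h3 : Nat.card (TM : Subgroup ↥M) = 2 ^ 14 := by
      rw [show (TM : Subgroup ↥M) = (T : Subgroup G).subgroupOf M from rfl,
        Nat.card_congr (Subgroup.subgroupOfEquivOfLe hTM).toEquiv, H.card_eq.2.2]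
    rw [h3] at h2
    rw [← h2, show (2 : ℕ) ^ 15 = 2 ^ 14 * 2 by norm_num] at h1
    exact TM.not_dvd_index (Nat.dvd_of_mul_dvd_mul_left (by norm_num) h1)
  let WC := WM.subgroupOf C
  have hWCcard : Nat.card WC = 2 ^ 11 := by
    rw [Nat.card_congr (Subgroup.subgroupOfEquivOfLe hWMC).toEquiv, hWMcard]
  have hWCidx : ¬ 2 ∣ WC.index := by
    intro h
    apply hCno
    rw [← WC.card_mul_index, hWCcard, show (2 : ℕ) ^ 12 = 2 ^ 11 * 2 by norm_num]
    exact Nat.mul_dvd_mul_left _ h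
  have hWCp : IsPGroup 2 WC := IsPGroup.of_card hWCcard
  let PC : Sylow 2 ↥C := hWCp.toSylow hWCidx
  have hPC : (PC : Subgroup ↥C) = WC := rfl
  have hNM : N ≤ M := by
    intro n hn
    have hmap : WG.map (MulAut.conj n).toMonoidHom = WG := by
      refine Subgroup.eq_of_le_of_card_ge ?_
        (Subgroup.card_map_of_injective (f := (MulAut.conj n).toMonoidHom) (MulAut.conj _).injective).ge
      rintro _ ⟨w, hw, rfl⟩
      exact (Subgroup.mem_normalizer_iff.1 hn w).1 hw
    have hDWG : D = ⁅WG, WG⁆ := by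
      rw [hWG, ← Subgroup.map_commutator, H.comm_eq]
    have hmapD : D.map (MulAut.conj n).toMonoidHom = D := by
      rw [hDWG, Subgroup.map_commutator, hmap]
    rw [hM, Subgroup.mem_normalizer_iff]
    refine fun x => ⟨fun hx => hmapD.le ⟨x, hx, rfl⟩, fun hx => ?_⟩
    obtain ⟨y, hy, ey⟩ := hmapD.ge hx
    exact (MulAut.conj n).injective ey ▸ hy
  have hsplit : ∀ m : ↥M, ∃ n : ↥M, (n : G) ∈ N ∧ ∃ c ∈ C, n * c = m := by
    intro m
    have h := Sylow.normalizer_sup_eq_top PC
    have hm : m ∈ (Subgroup.normalizer ((PC : Subgroup ↥C).map C.subtype : Set ↥M) ⊔ C : Subgroup ↥M) :=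
      h ▸ Subgroup.mem_top m
    rw [← SetLike.mem_coe, Subgroup.mul_normal] at hm
    obtain ⟨n, hn, c, hc', e'⟩ := hm
    refine ⟨n, ?_, c, hc', e'⟩
    rw [SetLike.mem_coe, hPC, Subgroup.subgroupOf_map_subtype, inf_eq_left.2 hWMC,
      Subgroup.mem_normalizer_iff] at hn
    rw [hN, Subgroup.mem_normalizer_iff]
    intro x
    constructor
    · intro hx
      exact (hn ⟨x, hTM (hWT hx)⟩).1 hx
    · intro hx
      have hxM : x ∈ M := by
        have h1 := M.mul_mem (M.mul_mem (M.inv_mem n.2) (hTM (hWT hx))) n.2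
        simpa [mul_assoc] using h1
      exact (hn ⟨x, hxM⟩).2 hx
  let iN : ↥N →* ↥M := Subgroup.inclusion hNM
  let θN : ↥N →* G32 := θ.comp iN
  have hθNsurj : Function.Surjective θN := by
    intro x
    obtain ⟨m, rfl⟩ := hθsurj x
    obtain ⟨n, hn, c, hc', rfl⟩ := hsplit m
    refine ⟨⟨n, hn⟩, ?_⟩
    rw [map_mul, MonoidHom.mem_ker.1 hc', mul_one]
    rfl
  let A := θN.ker
  obtain ⟨φ, hφadd, hφ0, hφsurj, hφconj⟩ := H.exists_phi g hgsurj hgker
  choose ψ hψW hψ using hφsurj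
  have hcjW : ∀ (n : ↥N) (w : ↥(T : Subgroup G)), w ∈ W → ∃ w' ∈ W, (w' : G) = (n : G) * w * (n : G)⁻¹ := by
    intro n w hw
    obtain ⟨w', hw', e'⟩ := (Subgroup.mem_normalizer_iff.1 n.2 _).1 (Subgroup.mem_map_of_mem ι hw)
    exact ⟨w', hw', e'⟩
  choose cj hcjWmem hcj' using hcjW
  have hφcong : ∀ a ∈ W, ∀ b ∈ W, (φ a = φ b ↔ a * b⁻¹ ∈ Subgroup.upperCentralSeries ↥(T : Subgroup G) 3) := by
    intro a ha' b hb'
    have hab := W.mul_mem ha' (W.inv_mem hb')
    rw [← hφ0 _ hab]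
    have h := hφadd _ hab _ hb'
    rw [inv_mul_cancel_right] at h
    rw [h]
    exact add_eq_right
  have hkey : ∀ (n : ↥N) w (hw : w ∈ W),
      φ (cj n w hw) = φ (cj n (ψ (φ w)) (hψW _)) := by
    intro n w hw
    rw [hφcong _ (hcjWmem _ _ _) _ (hcjWmem _ _ _)]
    have hz : w * (ψ (φ w))⁻¹ ∈ Subgroup.upperCentralSeries ↥(T : Subgroup G) 3 :=
      (hφcong _ hw _ (hψW _)).1 (hψ _).symm
    obtain ⟨z, hz', ez⟩ := (Subgroup.mem_normalizer_iff.1 (hNM n.2) _).1 (Subgroup.mem_map_of_mem ι hz)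
    have hval : cj n w hw * (cj n (ψ (φ w)) (hψW _))⁻¹ = z := by
      apply hιinj
      rw [ez, map_mul, map_inv, map_mul, map_inv]
      show ((cj n w hw : ↥(T : Subgroup G)) : G) * ((cj n (ψ (φ w)) (hψW _) : ↥(T : Subgroup G)) : G)⁻¹ =
        (n : G) * ((w : G) * ((ψ (φ w) : ↥(T : Subgroup G)) : G)⁻¹) * (n : G)⁻¹
      rw [hcj', hcj']
      group
    rw [hval]
    exact hz'
  let rl : ↥N → (K8 →ₗ[ZMod 2] K8) := fun n =>
    AddMonoidHom.toZModLinearMap 2 (AddMonoidHom.mk' (fun v => φ (cj n (ψ v) (hψW v))) fun v w => by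
      rw [← hφadd _ (hcjWmem _ _ _) _ (hcjWmem _ _ _)]
      have hvw : φ (ψ v * ψ w) = v + w := by rw [hφadd _ (hψW v) _ (hψW w), hψ, hψ]
      have h := hkey n _ (W.mul_mem (hψW v) (hψW w))
      simp only [hvw] at h
      rw [← h]
      congr 1
      apply Subtype.ext
      rw [Subgroup.coe_mul, hcj', hcj', hcj', Subgroup.coe_mul]
      group)
  have hrl : ∀ n w (hw : w ∈ W), rl n (φ w) = φ (cj n w hw) := fun n w hw => (hkey n w hw).symm
  have hrl' : ∀ n v, rl n v = φ (cj n (ψ v) (hψW v)) := fun n v => rfl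
  let ρ0 : ↥N →* (K8 →ₗ[ZMod 2] K8) :=
    { toFun := rl
      map_one' := LinearMap.ext fun v => by
        rw [hrl', show cj 1 (ψ v) (hψW v) = ψ v from Subtype.ext (by rw [hcj']; simp), hψ]
        rfl
      map_mul' := fun a b => LinearMap.ext fun v => by
        show rl (a * b) v = rl a (rl b v)
        rw [hrl' (a * b), hrl' b, hrl a _ (hcjWmem b _ _)]
        congr 1
        apply Subtype.ext
        rw [hcj', hcj', hcj', Subgroup.coe_mul]
        group }
  let ρ := ρ0.toHomUnits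
  have hTN : (T : Subgroup G) ≤ N := by
    intro t ht
    rw [hN, Subgroup.mem_normalizer_iff]
    have key : ∀ s : ↥(T : Subgroup G), ∀ x ∈ WG, (s : G) * x * (s : G)⁻¹ ∈ WG := by
      rintro s _ ⟨w, hw, rfl⟩
      exact ⟨s * w * s⁻¹, hWn.conj_mem w hw s, rfl⟩
    refine fun x => ⟨key ⟨t, ht⟩ x, fun hx => ?_⟩
    have := key (⟨t, ht⟩⁻¹) _ hx
    simpa [mul_assoc] using this
  let SN := (T : Subgroup G).subgroupOf N
  let eS : ↥SN ≃* ↥(T : Subgroup G) := Subgroup.subgroupOfEquivOfLe hTN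
  let gS : ↥SN →* DihedralGroup 4 := g.comp eS.toMonoidHom
  have hρT : ∀ (t : ↥(T : Subgroup G)) (n : ↥N), (n : G) = t → ρ n = shiftU (g t) := by
    intro t n hnt
    refine Units.ext (LinearMap.ext fun v => ?_)
    show rl n v = shift (g t) v
    rw [hrl', show cj n (ψ v) (hψW v) = t * ψ v * t⁻¹ from Subtype.ext (by rw [hcj', hnt]; rfl),
      hφconj t _ (hψW v), hψ]
  have hρS : ∀ s : ↥SN, ρ s = shiftU (gS s) := fun s => hρT _ _ rfl
  have hθS : ∀ s : ↥SN, θN s = 1 ↔ gS s = 1 := fun s => by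
    show θ (iT (eS s)) = 1 ↔ g (eS s) = 1
    rw [hθT, ← hgker, MonoidHom.mem_ker]
  let WN := WG.subgroupOf N
  have hWNker : WN ≤ ρ.ker := by
    intro w hw
    obtain ⟨t, ht, e'⟩ : (w : G) ∈ W.map ι := hw
    rw [MonoidHom.mem_ker, hρT t w e'.symm, show g t = 1 by rw [← MonoidHom.mem_ker, hgker]; exact ht,
      map_one]
  have hWNA : WN ≤ A := fun w hw => MonoidHom.mem_ker.2 (hWMC (show iN w ∈ WM from hw))
  have hAC : ∀ a ∈ A, iN a ∈ C := fun a h => h
  have hodd : Odd (Nat.card (A.map ρ)) := by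
    rw [← Subgroup.relIndex_ker]
    refine Odd.of_dvd_nat ?_ (Subgroup.relIndex_dvd_of_le_left A hWNker)
    rw [← Nat.not_even_iff_odd, even_iff_two_dvd]
    intro h
    apply hCno
    have h1 : Nat.card A ∣ Nat.card C := by
      have hle : A.map iN ≤ C := by rintro _ ⟨a, ha', rfl⟩; exact ha'
      rw [← Subgroup.card_map_of_injective (f := iN) (Subgroup.inclusion_injective hNM)]
      exact Subgroup.card_dvd_of_le hle
    have h2 := Subgroup.card_mul_index (WN.subgroupOf A)
    rw [Nat.card_congr (Subgroup.subgroupOfEquivOfLe hWNA).toEquiv,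
      Nat.card_congr (Subgroup.subgroupOfEquivOfLe (hWT.trans hTN)).toEquiv, hcardW] at h2
    refine dvd_trans ?_ h1
    rw [← h2, show (2 : ℕ) ^ 12 = 2 ^ 11 * 2 by norm_num]
    exact Nat.mul_dvd_mul_left _ h
  have hcen : ∀ a ∈ A, ρ a = 1 :=
    centralizes θN ρ gS hθNsurj (hgsurj.comp eS.surjective) hρS hθS hodd
  -- `C = W K`
  let DC : Subgroup ↥C := (D.subgroupOf M).subgroupOf C
  have hDCcen : ∀ (c : ↥C), ∀ d ∈ DC, c * d = d * c := fun c d hd => by
    apply Subtype.ext; apply Subtype.ext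
    exact mul_inv_eq_iff_eq_mul.1 ((hθ1 (c : ↥M)).1 c.2 _ hd)
  haveI hDCn : DC.Normal := ⟨fun d hd c => by rw [hDCcen c d hd, mul_inv_cancel_right]; exact hd⟩
  have hDWG' : D ≤ WG := Subgroup.map_mono H.Z3_le
  have hDCW : DC ≤ WC := fun d hd => hDWG' hd
  let Q := ↥C ⧸ DC
  let π : ↥C →* Q := QuotientGroup.mk' DC
  have hπ : Function.Surjective π := QuotientGroup.mk'_surjective DC
  let PQ : Sylow 2 Q := PC.mapSurjective hπ
  have hPQ : Subgroup.normalizer ((PQ : Subgroup Q) : Set Q) ≤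
      Subgroup.centralizer ((PQ : Subgroup Q) : Set Q) := by
    intro q hq
    obtain ⟨c, rfl⟩ := hπ q
    have hcN : ((c : ↥M) : G) ∈ N := by
      rw [Subgroup.mem_normalizer_iff] at hq
      have hiff : ∀ x : ↥C, x ∈ WC ↔ π x ∈ (PQ : Subgroup Q) := fun x => by
        rw [Sylow.coe_mapSurjective, hPC]
        refine ⟨Subgroup.mem_map_of_mem π, fun hx => ?_⟩
        obtain ⟨y, hy, e'⟩ := hx
        obtain ⟨d, hd', rfl⟩ := (QuotientGroup.mk'_eq_mk' DC).1 e'
        exact WC.mul_mem hy (hDCW hd')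
      rw [hN, Subgroup.mem_normalizer_iff]
      intro x
      constructor
      · intro hx
        let xC : ↥C := ⟨⟨x, hTM (hWT hx)⟩, hWMC hx⟩
        have := (hq (π xC)).1 ((hiff xC).1 hx)
        rw [← map_inv, ← map_mul, ← map_mul, ← hiff] at this
        exact this
      · intro hx
        let yC : ↥C := ⟨⟨_, hTM (hWT hx)⟩, hWMC hx⟩
        let xC : ↥C := c⁻¹ * yC * c
        have hxe : (((xC : ↥C) : ↥M) : G) = x := by
          show ((c : ↥M) : G)⁻¹ * (((c : ↥M) : G) * x * ((c : ↥M) : G)⁻¹) * ((c : ↥M) : G) = x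
          group
        have h1 : π c * π xC * (π c)⁻¹ ∈ (PQ : Subgroup Q) := by
          rw [← map_inv, ← map_mul, ← map_mul, ← hiff, show c * xC * c⁻¹ = yC by simp [xC, mul_assoc]]
          exact hx
        exact hxe ▸ (hiff xC).2 ((hq (π xC)).2 h1)
    rw [Subgroup.mem_centralizer_iff]
    intro y hy
    rw [SetLike.mem_coe, Sylow.coe_mapSurjective, hPC] at hy
    obtain ⟨w, hw, rfl⟩ := hy
    obtain ⟨t, ht, e'⟩ : ((w : ↥M) : G) ∈ W.map ι := hw
    have e'' : (t : G) = ((w : ↥M) : G) := e'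
    let a : ↥N := ⟨((c : ↥M) : G), hcN⟩
    have haA : a ∈ A := by
      show θ (iN a) = 1
      exact c.2
    have h := congrArg (fun r : Vg => (r : K8 →ₗ[ZMod 2] K8) (φ t)) (hcen a haA)
    have h' : φ (cj a t ht) = φ t := (hrl a t ht).symm.trans h
    obtain ⟨z, hz, ez⟩ := Subgroup.mem_map_of_mem ι ((hφcong _ (hcjWmem _ _ _) _ ht).1 h')
    rw [← map_mul, ← map_mul]
    refine ((QuotientGroup.mk'_eq_mk' DC).2 ⟨(w * c)⁻¹ * (c * w), ?_, mul_inv_cancel_left _ _⟩)
    show (((w * c)⁻¹ * (c * w) : ↥C) : ↥M).val ∈ D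
    have hmem : ((c : ↥M) : G) * (t : G) * ((c : ↥M) : G)⁻¹ * (t : G)⁻¹ ∈ D := by
      refine ⟨_, hz, ?_⟩
      rw [ez, map_mul, map_inv]
      show ((cj a t ht : ↥(T : Subgroup G)) : G) * (t : G)⁻¹ = _
      rw [hcj']
    have hconj := hcj (c : ↥M)⁻¹ ⟨_, (Subgroup.mem_normalizer_iff.1
      (hTM (hWT (show (t : G)⁻¹ ∈ WG from WG.inv_mem ⟨t, ht, rfl⟩))) _).1 hmem⟩
    simp only [Subgroup.coe_mul, InvMemClass.coe_inv, ← e''] at hconj ⊢
    convert hconj using 1
    group
  obtain ⟨KQ, hKQodd, hKQn, hKQc, hKQmem⟩ := exists_odd_kernel PQ hPQ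
  let K' := KQ.comap π
  have hDK : DC ≤ K' := fun d hd => by
    show π d ∈ KQ
    rw [show π d = 1 from (QuotientGroup.eq_one_iff d).2 hd]
    exact KQ.one_mem
  let DK := DC.subgroupOf K'
  have hDKcard : Nat.card DK = 2 ^ 3 := by
    rw [Nat.card_congr (Subgroup.subgroupOfEquivOfLe hDK).toEquiv,
      Nat.card_congr (Subgroup.subgroupOfEquivOfLe
        (show D.subgroupOf M ≤ C from fun d hd => hWMC (hDWG' hd))).toEquiv,
      Nat.card_congr (Subgroup.subgroupOfEquivOfLe ((hDWG'.trans hWT).trans hTM)).toEquiv, hcardD]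
    norm_num
  have hDKidx : ¬ 2 ∣ DK.index := by
    let π' : ↥K' →* ↥KQ := π.subgroupComap KQ
    have hsur : Function.Surjective π' := π.subgroupComap_surjective_of_surjective KQ hπ
    have hker : π'.ker = DK := by
      ext x
      rw [MonoidHom.mem_ker, Subgroup.mem_subgroupOf, ← QuotientGroup.eq_one_iff (x : ↥C)]
      exact Subtype.ext_iff
    rw [← hker, Subgroup.index_ker, MonoidHom.range_eq_top.2 hsur, Subgroup.card_top, ← even_iff_two_dvd,
      Nat.not_even_iff_odd]
    exact hKQodd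
  let PK : Sylow 2 ↥K' := (IsPGroup.of_card hDKcard).toSylow hDKidx
  have hPK : Subgroup.normalizer ((PK : Subgroup ↥K') : Set ↥K') ≤
      Subgroup.centralizer ((PK : Subgroup ↥K') : Set ↥K') := fun x _ => by
    rw [Subgroup.mem_centralizer_iff]
    intro d hd
    exact Subtype.ext (hDCcen (x : ↥C) _ hd).symm
  obtain ⟨K, hKodd, -, -, hKmem⟩ := exists_odd_kernel PK hPK
  let KC : Subgroup ↥C := K.map K'.subtype
  have hKCmem : ∀ x : ↥C, x ∈ KC ↔ Odd (orderOf x) := by
    intro x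
    constructor
    · rintro ⟨y, hy, rfl⟩
      rw [Subgroup.coe_subtype, Subgroup.orderOf_coe]
      exact hKodd.of_dvd_nat (Subgroup.orderOf_dvd_natCard K hy)
    · intro hx
      have hxK : x ∈ K' := hKQmem _ (hx.of_dvd_nat (orderOf_map_dvd π x))
      exact ⟨⟨x, hxK⟩, hKmem _ (by rwa [Subgroup.orderOf_mk]), rfl⟩
  haveI hKCn : KC.Normal := ⟨fun k hk c => by
    rw [hKCmem] at hk ⊢
    rwa [← MulAut.conj_apply, MulEquiv.orderOf_eq]⟩
  let Km : Subgroup ↥M := KC.map C.subtype
  haveI hKmn : Km.Normal := ⟨fun k hk m => by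
    obtain ⟨y, hy, rfl⟩ := hk
    refine ⟨⟨_, (inferInstance : C.Normal).conj_mem _ y.2 m⟩, (hKCmem _).2 ?_, rfl⟩
    rw [Subgroup.orderOf_mk, ← MulAut.conj_apply, MulEquiv.orderOf_eq, Subgroup.orderOf_coe]
    exact (hKCmem y).1 hy⟩
  have hKmodd : Odd (Nat.card Km) := by
    rw [Subgroup.card_map_of_injective C.subtype_injective,
      Subgroup.card_map_of_injective K'.subtype_injective]
    exact hKodd
  have hWK : WC ⊔ KC = ⊤ := by
    rw [← Subgroup.index_eq_one]
    have hp : IsPGroup 2 (↥C ⧸ KC) := by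
      intro q
      obtain ⟨c, rfl⟩ := QuotientGroup.mk_surjective q
      obtain ⟨a, m, hm, hcm⟩ := Nat.exists_eq_pow_mul_and_not_dvd (orderOf_pos c).ne' 2 (by norm_num)
      refine ⟨a, ?_⟩
      rw [← QuotientGroup.mk_pow, QuotientGroup.eq_one_iff, hKCmem,
        orderOf_pow_of_dvd (by positivity) ⟨m, hcm⟩, hcm, Nat.mul_div_cancel_left _ (by positivity)]
      rwa [← Nat.not_even_iff_odd, even_iff_two_dvd]
    obtain ⟨k, hk⟩ := IsPGroup.iff_card.1 hp
    have h1 : (WC ⊔ KC).index ∣ 2 ^ k := hk ▸ Subgroup.index_dvd_of_le le_sup_right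
    obtain ⟨i, -, hi⟩ := (Nat.dvd_prime_pow Nat.prime_two).1 h1
    rcases Nat.eq_zero_or_pos i with h0 | h0
    · rw [hi, h0, pow_zero]
    · exact absurd ((hi ▸ dvd_pow_self 2 h0.ne').trans (Subgroup.index_dvd_of_le le_sup_left)) hWCidx
  have hCsplit : ∀ c ∈ C, ∃ w ∈ WM, ∃ k ∈ Km, w * k = c := by
    intro c hc'
    have h : (⟨c, hc'⟩ : ↥C) ∈ WC ⊔ KC := hWK ▸ Subgroup.mem_top _
    rw [← SetLike.mem_coe, Subgroup.mul_normal] at h
    obtain ⟨w, hw, k, hk, e'⟩ := h
    exact ⟨w, hw, k, Subgroup.mem_map_of_mem _ hk, congrArg Subtype.val e'⟩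
  have hKmO : Km ≤ Cfsg.oddCore ↥M := Cores.le_oddCore hKmodd
  refine ⟨?_, ?_⟩
  · rw [eq_top_iff]
    intro m _
    obtain ⟨n, hn, c, hc', rfl⟩ := hsplit m
    obtain ⟨w, hw, k, hk, rfl⟩ := hCsplit c hc'
    rw [← mul_assoc]
    refine Subgroup.mul_mem_sup ?_ (hKmO hk)
    exact Subgroup.mul_mem _ hn (show (w : G) ∈ N from hTN (hWT hw))
  · have hA : WN ⊔ Cfsg.oddCore ↥N = A := by
      refine le_antisymm (sup_le hWNA ?_) fun a ha' => ?_
      · haveI := simple_G32
        haveI hOn : (Cfsg.oddCore ↥N).Normal := inferInstance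
        rcases (hOn.map θN hθNsurj).eq_bot_or_eq_top with h | h
        · exact (Subgroup.map_eq_bot_iff _).1 h
        · exfalso
          have h1 := (Cfsg.oddCore ↥N).card_map_dvd θN
          rw [h, Subgroup.card_top, card_G32] at h1
          exact Nat.not_even_iff_odd.2 (Cores.oddCore_odd (G := ↥N))
            (even_iff_two_dvd.2 (dvd_trans (by norm_num) h1))
      · obtain ⟨w, hw, k, hk, e'⟩ := hCsplit _ (hAC a ha')
        let wN : ↥N := ⟨(w : G), hTN (hWT hw)⟩
        have hk' : wN⁻¹ * a ∈ Km.comap iN := by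
          show iN (wN⁻¹ * a) ∈ Km
          rw [map_mul, map_inv, show iN wN = w from Subtype.ext rfl, ← e', inv_mul_cancel_left]
          exact hk
        have hle : Km.comap iN ≤ Cfsg.oddCore ↥N := by
          refine Cores.le_oddCore (hKmodd.of_dvd_nat ?_)
          rw [← Subgroup.card_map_of_injective (f := iN) (Subgroup.inclusion_injective hNM)]
          exact Subgroup.card_dvd_of_le (Subgroup.map_comap_le _ _)
        have h := Subgroup.mul_mem_sup (show wN ∈ WN from hw) (hle hk')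
        rwa [mul_inv_cancel_left] at h
    have hnormal : (WN ⊔ Cfsg.oddCore ↥N).Normal := hA ▸ (inferInstance : A.Normal)
    exact ⟨hnormal, ⟨(QuotientGroup.quotientMulEquivOfEq hA).trans
      (QuotientGroup.quotientKerEquivOfSurjective θN hθNsurj)⟩⟩

end Cfsg.Agent.S3204
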