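import Cfsg.Statements.S3206
import Mathlib
import Cfsg.Agent.Lib.Inv59.AutPSLTwo
import Cfsg.Agent.Lib.Inv59.AutFix
import Cfsg.Agent.Lib.Inv59.EightCover

set_option autoImplicit false
open Cfsg

namespace Cfsg.Agent.S3206


theorem sylow_card_exp {G : Type*} [Group G] [Finite G] (t : G) (ht : orderOf t = 2)
    (hab : ∀ S : Sylow 2 G, IsMulCommutative ↥(S : Subgroup G)) (E : Subgroup G)
    (hE : Cfsg.IsInternalDirectProduct (Subgroup.zpowers t) E (Subgroup.centralizer ({t} : Set G)))
    {F : Type*} [Field F] [Fintype F] (hFo : Odd (Fintype.card F)) (hF3 : 3 < Fintype.card F)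
    (N : Subgroup ↥E) [N.Normal] (hN : Nonempty (↥N ≃* Matrix.ProjectiveSpecialLinearGroup (Fin 2) F))
    (hNc : Subgroup.centralizer (N : Set ↥E) = ⊥) :
    ∃ S : Sylow 2 G, (∀ a ∈ (S : Subgroup G), a ^ 2 = 1) ∧ Nat.card (S : Subgroup G) = 8 := by
  classical
  obtain ⟨e⟩ := hN
  obtain ⟨hle1, hle2, hcomm, hinf, hsup⟩ := hE
  set H := Subgroup.centralizer ({t} : Set G) with hH
  have habE : ∀ P : Sylow 2 E, IsMulCommutative (P : Subgroup E) := by
    intro P
    obtain ⟨U, hU⟩ := (P.2.map E.subtype).exists_le_sylow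
    refine ⟨⟨fun a b => Subtype.ext (Subtype.ext ?_)⟩⟩
    simp only [Subgroup.coe_mul]
    exact congrArg Subtype.val ((hab U).is_comm.comm
      (⟨(a : E), hU ⟨a, a.2, rfl⟩⟩ : (U : Subgroup G)) ⟨(b : E), hU ⟨b, b.2, rfl⟩⟩)
  obtain ⟨hodd, hq⟩ := Lib.Inv59.AutPSLTwo.almostSimple hFo hF3 habE N e hNc
  have hPSL : ∀ P : Sylow 2 (Matrix.ProjectiveSpecialLinearGroup (Fin 2) F),
      IsKleinFour (P : Subgroup (Matrix.ProjectiveSpecialLinearGroup (Fin 2) F)) :=
    fun P => Cfsg.Agent.S0276.result rfl hq P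
  -- the order of the centralizer
  have hH2 : Nat.card H = 2 * Nat.card E := by
    have : Function.Bijective (fun x : Subgroup.zpowers t × E =>
        (⟨(x.1 : G) * (x.2 : G), mul_mem (hle1 x.1.2) (hle2 x.2.2)⟩ : H)) := by
      constructor
      · rintro ⟨a, b⟩ ⟨a', b'⟩ h
        have h' : (a : G) * b = a' * b' := congrArg Subtype.val h
        have h1 : (a' : G)⁻¹ * a = (b' : G) * (b : G)⁻¹ := by
          rw [eq_mul_inv_iff_mul_eq, mul_assoc, h', inv_mul_cancel_left]
        have h2 : (a' : G)⁻¹ * a ∈ Subgroup.zpowers t ⊓ E :=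
          Subgroup.mem_inf.2 ⟨mul_mem (inv_mem a'.2) a.2, h1 ▸ mul_mem b'.2 (inv_mem b.2)⟩
        rw [hinf, Subgroup.mem_bot, inv_mul_eq_one] at h2
        have h3 : (b : G) = b' := by rw [← h2] at h'; exact mul_left_cancel h'
        exact Prod.ext (Subtype.ext h2.symm) (Subtype.ext h3)
      · rintro ⟨h, hh⟩
        have hh' : h ∈ Subgroup.zpowers t ⊔ E := hsup ▸ hh
        have hn : Subgroup.zpowers t ≤ Subgroup.normalizer (E : Set G) := by
          intro a ha
          rw [Subgroup.mem_normalizer_iff]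
          intro b
          constructor
          · intro hb
            rw [hcomm a ha b hb, mul_inv_cancel_right]
            exact hb
          · intro hb
            have h1 := hcomm a ha _ hb
            have h2 : a * b * a⁻¹ * a = a * b := inv_mul_cancel_right _ _
            rw [← h1, mul_right_inj] at h2
            rwa [h2] at hb
        rw [← SetLike.mem_coe, Subgroup.coe_mul_of_left_le_normalizer_right _ _ hn] at hh'
        obtain ⟨a, ha, b, hb, rfl⟩ := hh'
        exact ⟨(⟨a, ha⟩, ⟨b, hb⟩), rfl⟩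
    rw [← Nat.card_congr (Equiv.ofBijective _ this), Nat.card_prod, Nat.card_zpowers, ht]
  have hEN : Nat.card E = Nat.card N * N.index := (N.card_mul_index).symm
  have hv : (Nat.card H).factorization 2 = 3 := by
    let P : Sylow 2 (Matrix.ProjectiveSpecialLinearGroup (Fin 2) F) := default
    haveI := hPSL P
    have h4 : Nat.card (P : Subgroup (Matrix.ProjectiveSpecialLinearGroup (Fin 2) F)) = 4 :=
      IsKleinFour.card_four
    rw [P.card_eq_multiplicity] at h4
    have h4' : (Nat.card (Matrix.ProjectiveSpecialLinearGroup (Fin 2) F)).factorization 2 = 2 :=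
      Nat.pow_right_injective le_rfl (h4.trans (by norm_num : (4 : ℕ) = 2 ^ 2))
    have hio : N.index.factorization 2 = 0 :=
      Nat.factorization_eq_zero_of_not_dvd fun h => Nat.not_even_iff_odd.2 hodd (even_iff_two_dvd.2 h)
    rw [hH2, hEN, Nat.card_congr e.toEquiv, Nat.factorization_mul (by norm_num)
      (Nat.mul_ne_zero Nat.card_pos.ne' Subgroup.index_ne_zero_of_finite),
      Nat.factorization_mul Nat.card_pos.ne' Subgroup.index_ne_zero_of_finite]
    rw [Finsupp.add_apply, Finsupp.add_apply, h4', hio, Nat.prime_two.factorization_self]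
    norm_num
  -- a Sylow subgroup containing `t`
  have htp : IsPGroup 2 (Subgroup.zpowers t) :=
    IsPGroup.of_card (n := 1) (by rw [Nat.card_zpowers, ht, pow_one])
  obtain ⟨S, hS⟩ := htp.exists_le_sylow
  have htS : t ∈ (S : Subgroup G) := hS (Subgroup.mem_zpowers t)
  have hSH : (S : Subgroup G) ≤ H := fun s hs => Subgroup.mem_centralizer_singleton_iff.2
    (congrArg Subtype.val ((hab S).is_comm.comm (⟨s, hs⟩ : (S : Subgroup G)) ⟨t, htS⟩))
  refine ⟨S, fun s hs => ?_, ?_⟩
  · obtain ⟨a, b, hab'⟩ : ∃ (a : Subgroup.zpowers t) (b : E), (a : G) * b = s := by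
      have : s ∈ Subgroup.zpowers t ⊔ E := hsup.symm ▸ hSH hs
      have hn : Subgroup.zpowers t ≤ Subgroup.centralizer (E : Set G) := fun a ha =>
        Subgroup.mem_centralizer_iff.2 fun b hb => (hcomm a ha b hb).symm
      rw [← SetLike.mem_coe, Subgroup.coe_mul_of_left_le_normalizer_right _ _
        (hn.trans (Subgroup.centralizer_le_normalizer _))] at this
      obtain ⟨a, ha, b, hb, e⟩ := this
      exact ⟨⟨a, ha⟩, ⟨b, hb⟩, e⟩
    have hbS : (b : G) ∈ (S : Subgroup G) := by
      have : (b : G) = (a : G)⁻¹ * s := by rw [← hab', inv_mul_cancel_left]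
      rw [this]
      exact mul_mem (inv_mem (hS a.2)) hs
    obtain ⟨k, hk⟩ := S.2 ⟨(b : G), hbS⟩
    have hbk : b ^ (2 ^ k) = 1 := Subtype.ext (by simpa using congrArg Subtype.val hk)
    have hbN : b ∈ N := by
      rw [← QuotientGroup.eq_one_iff b]
      have h1 : ((b : E ⧸ N)) ^ (2 ^ k) = 1 := by rw [← QuotientGroup.mk_pow, hbk]; rfl
      have h2 : ((b : E ⧸ N)) ^ N.index = 1 := by
        rw [Subgroup.index_eq_card]; exact pow_card_eq_one'
      have hg : Nat.gcd (2 ^ k) N.index = 1 := (Nat.coprime_two_left.2 hodd).pow_left k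
      have := pow_gcd_eq_one.2 ⟨h1, h2⟩
      rwa [hg, pow_one] at this
    have hz : IsPGroup 2 (Subgroup.zpowers (e ⟨b, hbN⟩)) := by
      have hek : (e ⟨b, hbN⟩) ^ (2 ^ k) = 1 := by
        rw [← map_pow, show (⟨b, hbN⟩ : N) ^ (2 ^ k) = 1 from Subtype.ext hbk, map_one]
      obtain ⟨j, -, hj⟩ := (Nat.dvd_prime_pow Nat.prime_two).1 (orderOf_dvd_of_pow_eq_one hek)
      exact IsPGroup.of_card (n := j) (by rw [Nat.card_zpowers, hj])
    obtain ⟨P, hP⟩ := hz.exists_le_sylow
    haveI := hPSL P
    have h2 : (⟨b, hbN⟩ : N) ^ 2 = 1 := by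
      apply e.injective
      rw [map_pow, map_one, pow_two]
      exact congrArg Subtype.val (IsKleinFour.mul_self
        (⟨e ⟨b, hbN⟩, hP (Subgroup.mem_zpowers _)⟩ : (P : Subgroup _)))
    have hb2 : (b : G) ^ 2 = 1 := congrArg (fun x : E => (x : G)) (congrArg Subtype.val h2)
    have ha2 : (a : G) ^ 2 = 1 := by
      obtain ⟨_, i, rfl⟩ := a
      show (t ^ i) ^ 2 = 1
      rw [← zpow_natCast, ← zpow_mul, mul_comm, zpow_mul, zpow_natCast, ← ht, pow_orderOf_eq_one,
        one_zpow]
    rw [← hab', Commute.mul_pow (hcomm _ a.2 _ b.2), ha2, hb2, one_mul]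
  · have h := (S.subtype hSH).card_eq_multiplicity
    rw [hv, Sylow.coe_subtype, Nat.card_congr (Subgroup.subgroupOfEquivOfLe hSH).toEquiv] at h
    rw [h]
    norm_num

/-- Let G be a non-abelian finite simple group with abelian Sylow 2-subgroups, and let t be an involution of G whose centralizer is a maximal subgroup of G and is the direct product of the subgroup generated by t with a subgroup E having a normal subgroup isomorphic to PSL(2, q), q odd and greater than 3, with trivial centralizer in E. Then every finite perfect group having a central 2-subgroup with quotient isomorphic to G has that central subgroup trivial (G has no nontrivial perfect central extension by a 2-group), and every automorphism of G of 2-power order that fixes every element of some Sylow 2-subgroup of G is inner. -/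
theorem result {G : Type*} [Group G] [Finite G] [IsSimpleGroup G]
    (hG : ¬ IsMulCommutative G) (hab : ∀ S : Sylow 2 G, IsMulCommutative ↥(S : Subgroup G))
    (t : G) (ht : orderOf t = 2) (hmax : IsCoatom (Subgroup.centralizer ({t} : Set G)))
    (E : Subgroup G) (hE : Cfsg.IsInternalDirectProduct (Subgroup.zpowers t) E (Subgroup.centralizer ({t} : Set G)))
    {F : Type*} [Field F] [Fintype F] (hFo : Odd (Fintype.card F)) (hF3 : 3 < Fintype.card F)
    (N : Subgroup ↥E) [N.Normal] (hN : Nonempty (↥N ≃* Matrix.ProjectiveSpecialLinearGroup (Fin 2) F))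
    (hNc : Subgroup.centralizer (N : Set ↥E) = ⊥) :
    (∀ (L : Type) (_ : Group L) (_ : Finite L) (Z : Subgroup L) (_ : Z.Normal), commutator L = ⊤ → Z ≤ Subgroup.center L →
        IsPGroup 2 ↥Z → Nonempty (L ⧸ Z ≃* G) → Z = ⊥) ∧
    (∀ (φ : G ≃* G) (k : ℕ), φ ^ (2 ^ k) = 1 → (∃ S : Sylow 2 G, ∀ s ∈ (S : Subgroup G), φ s = s) →
        ∃ g : G, ∀ x : G, φ x = g * x * g⁻¹) := by
  obtain ⟨S, hexp, h8⟩ := sylow_card_exp t ht hab E hE hFo hF3 N hN hNc
  refine ⟨fun L _ _ Z _ hperf hcen hZ he => ?_, fun φ k hk hfix => ?_⟩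
  · obtain ⟨e⟩ := he
    exact Lib.Inv59.EightCover.kernel_trivial hG S (hab S) hexp h8 Z hperf hcen hZ e
  · obtain ⟨S', hS'⟩ := hfix
    obtain ⟨g, hg⟩ := Lib.Inv59.AutFix.exists_inner hG (ht ▸ orderOf_dvd_natCard t) S' (hab S')
      φ hk hS'
    exact ⟨g, fun x => by rw [hg]; rfl⟩

end Cfsg.Agent.S3206
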