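import Cfsg.Statements.S3208
import Mathlib

set_option autoImplicit false
open Cfsg

namespace Cfsg.Agent.S3208

/-- Let j be an involution of a finite group G, H a subgroup of G, and T a Sylow 2-subgroup of H ∩ C_G(j) containing j such that ⟨j⟩ is a characteristic subgroup of T. Then T is a Sylow 2-subgroup of H. -/
theorem result {G : Type*} [Group G] [Finite G]
    (j : G) (hj : orderOf j = 2) (H T : Subgroup G) (hT : T ≤ H ⊓ Subgroup.centralizer ({j} : Set G)) (h2 : IsPGroup 2 ↥T)
    (hSyl : ¬ 2 ∣ T.relIndex (H ⊓ Subgroup.centralizer ({j} : Set G))) (hjT : j ∈ T)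
    (hchar : ((Subgroup.zpowers j).subgroupOf T).Characteristic) :
    ¬ 2 ∣ T.relIndex H := by
  intro h
  have hTH : T ≤ H := hT.trans inf_le_left
  have hN : H ⊓ Subgroup.normalizer (T : Set G) ≤ H ⊓ Subgroup.centralizer ({j} : Set G) := by
    rintro g ⟨hgH, hgN⟩
    refine ⟨hgH, ?_⟩
    let g' : ↥(Subgroup.normalizer (T : Set G)) := ⟨g, hgN⟩
    let φ : ↥T ≃* ↥T :=
      { toFun := fun t => ⟨g * t * g⁻¹, (Subgroup.mem_normalizer_iff.1 hgN _).1 t.2⟩
        invFun := fun t => ⟨g⁻¹ * t * g, by
          have := (Subgroup.mem_normalizer_iff.1 hgN (g⁻¹ * t * g)).2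
          apply this
          simp [mul_assoc]⟩
        left_inv := fun t => Subtype.ext (by simp [mul_assoc])
        right_inv := fun t => Subtype.ext (by simp [mul_assoc])
        map_mul' := fun s t => Subtype.ext (by simp [mul_assoc]) }
    have := hchar.fixed φ
    have hmem : (⟨j, hjT⟩ : ↥T) ∈ ((Subgroup.zpowers j).subgroupOf T).comap φ.toMonoidHom := by
      rw [this]; exact Subgroup.mem_subgroupOf.2 (Subgroup.mem_zpowers j)
    have h3 : g * j * g⁻¹ ∈ Subgroup.zpowers j := hmem
    have h4 : g * j * g⁻¹ = j := by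
      obtain ⟨k, hk⟩ := Subgroup.mem_zpowers_iff.1 h3
      rw [← zpow_mod_orderOf, hj] at hk
      rcases Int.emod_two_eq_zero_or_one k with h0 | h0 <;> simp only [Nat.cast_ofNat, h0, zpow_zero, zpow_one] at hk
      · have : j = 1 := by
          have := congrArg (fun x => g⁻¹ * x * g) hk.symm
          simpa [mul_assoc] using this
        simp [this] at hj
      · exact hk.symm
    show g ∈ Subgroup.centralizer ({j} : Set G)
    rw [Subgroup.mem_centralizer_singleton_iff]
    exact mul_inv_eq_iff_eq_mul.1 h4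
  have h5 : 2 ∣ T.relIndex (H ⊓ Subgroup.normalizer (T : Set G)) := by
    have : Fact (Nat.Prime 2) := ⟨Nat.prime_two⟩
    obtain ⟨k, hk⟩ := IsPGroup.iff_card.1 h2
    have hcard : Nat.card ↥(T.subgroupOf H) = 2 ^ k := by
      rw [Nat.card_congr (Subgroup.subgroupOfEquivOfLe hTH).toEquiv, hk]
    have hd : 2 ^ (k + 1) ∣ Nat.card ↥H := by
      obtain ⟨c, hc⟩ := h
      rw [← Subgroup.card_mul_index (T.subgroupOf H), hcard]
      exact ⟨c, by rw [Subgroup.relIndex] at hc; rw [hc, pow_succ]; ring⟩
    obtain ⟨K, hK, hTK⟩ := Sylow.exists_subgroup_card_pow_succ hd hcard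
    have hKn : ((T.subgroupOf H).subgroupOf K).Normal := by
      apply Subgroup.normal_of_index_eq_minFac_card
      have : Nat.card ↥K = Nat.card ↥((T.subgroupOf H).subgroupOf K) * ((T.subgroupOf H).subgroupOf K).index :=
        (Subgroup.card_mul_index _).symm
      rw [Nat.card_congr (Subgroup.subgroupOfEquivOfLe hTK).toEquiv, hcard, hK, pow_succ] at this
      rw [hK, Nat.Prime.pow_minFac Nat.prime_two (by omega)]
      exact (Nat.eq_of_mul_eq_mul_left (by positivity) this).symm
    have hKN : K.map H.subtype ≤ H ⊓ Subgroup.normalizer (T : Set G) := by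
      rintro _ ⟨x, hx, rfl⟩
      refine ⟨x.2, ?_⟩
      have hx' := (Subgroup.normal_subgroupOf_iff_le_normalizer hTK).1 hKn hx
      show (x : G) ∈ Subgroup.normalizer (T : Set G)
      rw [Subgroup.mem_normalizer_iff] at hx' ⊢
      intro t
      constructor
      · intro ht
        exact (hx' ⟨t, hTH ht⟩).1 ht
      · intro ht
        have ht' : t ∈ H := by
          have h6 := H.mul_mem (H.mul_mem (H.inv_mem x.2) (hTH ht)) x.2
          simpa [mul_assoc] using h6
        exact (hx' ⟨t, ht'⟩).2 ht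
    have e : T.relIndex (K.map H.subtype) = 2 := by
      have hTK' : T ≤ K.map H.subtype := fun t ht => ⟨⟨t, hTH ht⟩, hTK ht, rfl⟩
      have := Subgroup.card_mul_index (T.subgroupOf (K.map H.subtype))
      rw [Nat.card_congr (Subgroup.subgroupOfEquivOfLe hTK').toEquiv,
        Subgroup.card_map_of_injective H.subtype_injective, hK, hk, pow_succ] at this
      exact Nat.eq_of_mul_eq_mul_left (by positivity) this
    have := Subgroup.relIndex_mul_relIndex T (K.map H.subtype) (H ⊓ Subgroup.normalizer (T : Set G))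
      (fun t ht => ⟨⟨t, hTH ht⟩, hTK ht, rfl⟩) hKN
    rw [← this, e]; exact dvd_mul_right 2 _
  have hT' : T ≤ H ⊓ Subgroup.normalizer (T : Set G) := le_inf hTH Subgroup.le_normalizer
  exact hSyl (h5.trans (Dvd.intro _ (Subgroup.relIndex_mul_relIndex _ _ _ hT' hN)))

end Cfsg.Agent.S3208
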