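import Cfsg.Statements.S3209
import Mathlib
import Cfsg.Agent.Lib.PSLTwo.Sylow

set_option autoImplicit false
open Cfsg

namespace Cfsg.Agent.S3209

open Cfsg.Agent.Lib.PSLTwo.Sylow

theorem orderFour {F : Type*} [Field F] [Fintype F] (hF : Odd (Fintype.card F)) {G : Type*} [Group G]
    (L : Subgroup G) (e : ↥L ≃* Matrix.SpecialLinearGroup (Fin 2) F) (j : G) (hj : orderOf j = 2)
    (hjL : j ∈ L) :
    (∀ x ∈ L, x * x = 1 → x = 1 ∨ x = j) ∧
      ∃ x₀ ∈ L, x₀ * x₀ = j ∧ ∀ x ∈ L, x * x = j → ∃ g ∈ L, g * x₀ * g⁻¹ = x := by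
  have hodd : Fintype.card F % 2 = 1 := Nat.odd_iff.1 hF
  have h2 : (2 : F) ≠ 0 := two_ne_zero_of_odd hodd
  have ej : e ⟨j, hjL⟩ = negOne := by
    have hj2 : j * j = 1 := by rw [← sq, ← hj, pow_orderOf_eq_one]
    have h1 : e ⟨j, hjL⟩ * e ⟨j, hjL⟩ = 1 := by
      rw [← map_mul]
      convert map_one e
      exact Subtype.ext hj2
    refine (sq_eq_one h2 h1).resolve_left (fun h => ?_)
    rw [← map_one e] at h
    have h' : j = 1 := congrArg Subtype.val (e.injective h)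
    simp [h'] at hj
  refine ⟨?_, ?_⟩
  · intro x hx hxx
    have h1 : e ⟨x, hx⟩ * e ⟨x, hx⟩ = 1 := by
      rw [← map_mul]
      convert map_one e
      exact Subtype.ext hxx
    rcases sq_eq_one h2 h1 with h | h
    · rw [← map_one e] at h
      exact Or.inl (congrArg Subtype.val (e.injective h))
    · rw [← ej] at h
      exact Or.inr (congrArg Subtype.val (e.injective h))
  · let w : Matrix.SpecialLinearGroup (Fin 2) F := mk2 0 (-1) 1 0 (by ring)
    have hw : w * w = negOne := by apply slExt <;> simp [mul_apply', w]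
    have htr : ∀ y : Matrix.SpecialLinearGroup (Fin 2) F, y * y = negOne → slTr y = 0 := by
      intro y hy
      have hi : y⁻¹ = negOne * y := by
        refine inv_eq_of_mul_eq_one_right ?_
        rw [negOne_central, ← mul_assoc, hy, negOne_sq]
      have e1 := congrArg (fun z : Matrix.SpecialLinearGroup (Fin 2) F => z.1 0 0) hi
      simp only [inv_apply', negOne_mul] at e1
      simp at e1
      simp [slTr, e1]
    refine ⟨(e.symm w : ↥L), (e.symm w).2, ?_, ?_⟩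
    · rw [← Subgroup.coe_mul, ← map_mul, hw, ← ej, MulEquiv.symm_apply_apply]
    · intro x hx hxx
      have h1 : e ⟨x, hx⟩ * e ⟨x, hx⟩ = negOne := by
        rw [← map_mul, ← ej]
        congr 1
        exact Subtype.ext hxx
      have h4 : (4 : F) ≠ 0 := by rw [show (4 : F) = 2 * 2 by norm_num]; exact mul_ne_zero h2 h2
      obtain ⟨g, hg⟩ := exists_conj hodd h2 (a := w) (b := e ⟨x, hx⟩)
        (by rw [htr w hw]; simpa using h4.symm) (by rw [htr w hw, htr _ h1])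
      refine ⟨(e.symm g : ↥L), (e.symm g).2, ?_⟩
      have := congrArg e.symm hg
      rw [map_mul, map_mul, map_inv, MulEquiv.symm_apply_apply] at this
      simpa using congrArg Subtype.val this


/-- Let L₁ ≅ SL₂(q₁) and L₂ ≅ SL₂(q₂), q₁ and q₂ odd, be elementwise-commuting subgroups of a finite group meeting in ⟨j⟩ for an involution j. Then L₁L₂ has exactly two conjugacy classes of involutions: the central involution j, and one further class (there is an involution x ≠ j in L₁L₂, and every involution of L₁L₂ other than j is conjugate to x by an element of L₁L₂). -/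
theorem result {G : Type*} [Group G] [Finite G]
    {F₁ : Type*} [Field F₁] [Fintype F₁] {F₂ : Type*} [Field F₂] [Fintype F₂]
    (hF₁ : Odd (Fintype.card F₁)) (hF₂ : Odd (Fintype.card F₂)) (L₁ L₂ : Subgroup G)
    (e₁ : ↥L₁ ≃* Matrix.SpecialLinearGroup (Fin 2) F₁) (e₂ : ↥L₂ ≃* Matrix.SpecialLinearGroup (Fin 2) F₂)
    (hc : ∀ x ∈ L₁, ∀ y ∈ L₂, x * y = y * x) (j : G) (hj : orderOf j = 2) (hm : L₁ ⊓ L₂ = Subgroup.zpowers j) :
    ∃ x ∈ L₁ ⊔ L₂, orderOf x = 2 ∧ x ≠ j ∧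
      ∀ y ∈ L₁ ⊔ L₂, orderOf y = 2 → y = j ∨ ∃ g ∈ L₁ ⊔ L₂, g * x * g⁻¹ = y := by
  have hj1 : j ∈ L₁ := (hm.ge (Subgroup.mem_zpowers j)).1
  have hj2 : j ∈ L₂ := (hm.ge (Subgroup.mem_zpowers j)).2
  have hjj : j * j = 1 := by rw [← sq, ← hj, pow_orderOf_eq_one]
  have hint : ∀ x : G, x ∈ L₁ → x ∈ L₂ → x = 1 ∨ x = j := by
    intro x h1 h2
    obtain ⟨k, rfl⟩ := Subgroup.mem_zpowers_iff.1 (hm.le ⟨h1, h2⟩)
    rcases Int.even_or_odd k with ⟨m, rfl⟩ | ⟨m, rfl⟩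
    · left; rw [← two_mul, zpow_mul, show (2 : ℤ) = ((2 : ℕ) : ℤ) from rfl, zpow_natCast, sq, hjj, one_zpow]
    · right
      rw [zpow_add, zpow_mul, show (2 : ℤ) = ((2 : ℕ) : ℤ) from rfl, zpow_natCast, sq, hjj, one_zpow,
        one_mul, zpow_one]
  obtain ⟨hI1, a₀, ha₀, ha₀2, hA⟩ := orderFour hF₁ L₁ e₁ j hj hj1
  obtain ⟨hI2, b₀, hb₀, hb₀2, hB⟩ := orderFour hF₂ L₂ e₂ j hj hj2
  have hmem : ∀ a ∈ L₁, ∀ b ∈ L₂, a * b ∈ L₁ ⊔ L₂ := fun a ha b hb =>
    mul_mem (Subgroup.mem_sup_left ha) (Subgroup.mem_sup_right hb)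
  have hprod : ∀ y ∈ L₁ ⊔ L₂, ∃ a ∈ L₁, ∃ b ∈ L₂, y = a * b := by
    intro y hy
    rw [Subgroup.sup_eq_closure] at hy
    induction hy using Subgroup.closure_induction with
    | mem x hx =>
      rcases hx with hx | hx
      · exact ⟨x, hx, 1, one_mem _, (mul_one x).symm⟩
      · exact ⟨1, one_mem _, x, hx, (one_mul x).symm⟩
    | one => exact ⟨1, one_mem _, 1, one_mem _, (mul_one 1).symm⟩
    | mul x y _ _ ihx ihy =>
      obtain ⟨a, ha, b, hb, rfl⟩ := ihx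
      obtain ⟨a', ha', b', hb', rfl⟩ := ihy
      refine ⟨a * a', mul_mem ha ha', b * b', mul_mem hb hb', ?_⟩
      rw [mul_assoc, ← mul_assoc b, ← hc a' ha' b hb]
      group
    | inv x _ ih =>
      obtain ⟨a, ha, b, hb, rfl⟩ := ih
      exact ⟨a⁻¹, inv_mem ha, b⁻¹, inv_mem hb, by rw [hc a ha b hb, mul_inv_rev]⟩
  have hsq : ∀ a ∈ L₁, ∀ b ∈ L₂, a * b * (a * b) = (a * a) * (b * b) := by
    intro a ha b hb
    rw [mul_assoc, ← mul_assoc b, ← hc a ha b hb]
    group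
  have hx2 : a₀ * b₀ * (a₀ * b₀) = 1 := by rw [hsq a₀ ha₀ b₀ hb₀, ha₀2, hb₀2, hjj]
  have hjne : j ≠ 1 := fun h => by simp [h] at hj
  have hnot : ∀ z : G, z = 1 ∨ z = j → a₀ * b₀ ≠ z := by
    intro z hz h
    have hz2 : z ∈ L₂ := by rcases hz with rfl | rfl
                            · exact one_mem _
                            · exact hj2
    have ha : a₀ ∈ L₂ := by
      have : a₀ = z * b₀⁻¹ := by rw [← h]; group
      rw [this]
      exact mul_mem hz2 (inv_mem hb₀)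
    rcases hint a₀ ha₀ ha with h0 | h0
    · exact hjne (by rw [← ha₀2, h0, one_mul])
    · exact hjne (by rw [← ha₀2, h0, hjj])
  refine ⟨a₀ * b₀, hmem a₀ ha₀ b₀ hb₀, orderOf_eq_prime (by rw [sq]; exact hx2) (hnot 1 (Or.inl rfl)),
    hnot j (Or.inr rfl), ?_⟩
  intro y hy hy2
  have hyy : y * y = 1 := by rw [← sq, ← hy2, pow_orderOf_eq_one]
  have hy1 : y ≠ 1 := fun h => by simp [h] at hy2
  obtain ⟨a, ha, b, hb, rfl⟩ := hprod y hy
  rw [hsq a ha b hb] at hyy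
  have hbb : b * b = (a * a)⁻¹ := (inv_eq_of_mul_eq_one_right hyy).symm
  have haa2 : a * a ∈ L₂ := by
    rw [← inv_mem_iff, ← hbb]
    exact mul_mem hb hb
  rcases hint (a * a) (mul_mem ha ha) haa2 with h | h
  · rw [h, inv_one] at hbb
    rcases hI1 a ha h with rfl | rfl <;> rcases hI2 b hb hbb with rfl | rfl
    · exact absurd (one_mul 1) hy1
    · exact Or.inl (one_mul _)
    · exact Or.inl (mul_one _)
    · exact absurd hjj hy1
  · rw [h, inv_eq_of_mul_eq_one_right hjj] at hbb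
    obtain ⟨g, hg, rfl⟩ := hA a ha h
    obtain ⟨k, hk, rfl⟩ := hB b hb hbb
    refine Or.inr ⟨g * k, hmem g hg k hk, ?_⟩
    calc g * k * (a₀ * b₀) * (g * k)⁻¹ = g * (k * a₀) * b₀ * k⁻¹ * g⁻¹ := by group
      _ = g * a₀ * (k * b₀ * k⁻¹ * g⁻¹) := by rw [← hc a₀ ha₀ k hk]; group
      _ = g * a₀ * (g⁻¹ * (k * b₀ * k⁻¹)) := by
        rw [hc g⁻¹ (inv_mem hg) _ (mul_mem (mul_mem hk hb₀) (inv_mem hk))]
      _ = g * a₀ * g⁻¹ * (k * b₀ * k⁻¹) := by group

end Cfsg.Agent.S3209
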