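import Cfsg.Statements.S3210
import Cfsg.Agent.Lib.PSLTwo.Sylow
import Cfsg.Agent.Lib.Linear.Transvection
import Cfsg.Agent.Lib.Linear.Order

set_option autoImplicit false
open Cfsg

namespace Cfsg.Agent.S3210

open Cfsg.Agent.Lib.PSLTwo.Sylow

section SLTwo

variable {F : Type*} [Field F] [Fintype F]

local notation "SLF" => Matrix.SpecialLinearGroup (Fin 2) F

theorem transvection_eq_upper (c : F) :
    Matrix.SpecialLinearGroup.transvection (show (0 : Fin 2) ≠ 1 by decide) c = mk2 1 c 0 1 (by ring) := by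
  apply slExt <;> simp [Matrix.SpecialLinearGroup.transvection, Matrix.transvection, Matrix.single]

theorem transvection_eq_lower (c : F) :
    Matrix.SpecialLinearGroup.transvection (show (1 : Fin 2) ≠ 0 by decide) c = mk2 1 0 c 1 (by ring) := by
  apply slExt <;> simp [Matrix.SpecialLinearGroup.transvection, Matrix.transvection, Matrix.single]

/-- An element commuting modulo the centre with a nontrivial upper unipotent is upper unipotent up to sign. -/
theorem shape_of_comm (h2 : (2 : F) ≠ 0) {x : SLF} {t : F} (ht : t ≠ 0)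
    (h : x * mk2 1 t 0 1 (by ring) * x⁻¹ * (mk2 1 t 0 1 (by ring))⁻¹ ∈ Subgroup.center SLF) :
    x.1 1 0 = 0 ∧ x.1 0 0 = x.1 1 1 ∧ x.1 0 0 * x.1 0 0 = 1 := by
  have hd := det_eq x
  set u : SLF := mk2 1 t 0 1 (by ring) with hu
  obtain ⟨c, hc, hcx⟩ : ∃ c ∈ Subgroup.center SLF, x * u = c * (u * x) := ⟨_, h, by group⟩
  rcases (mem_center_iff' h2).1 hc with rfl | rfl
  · rw [one_mul] at hcx
    have e00 := congrArg (fun g : SLF => g.1 0 0) hcx
    have e01 := congrArg (fun g : SLF => g.1 0 1) hcx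
    simp [mul_apply', hu] at e00 e01
    have h10 : x.1 1 0 = 0 := by
      rcases e00 with h' | h'
      · exact absurd h' ht
      · exact h'
    have h01 : t * (x.1 0 0 - x.1 1 1) = 0 := by linear_combination e01
    have hEq : x.1 0 0 = x.1 1 1 := sub_eq_zero.1 ((mul_eq_zero.1 h01).resolve_left ht)
    exact ⟨h10, hEq, by rw [h10] at hd; linear_combination hd + x.1 0 0 * hEq⟩
  · exfalso
    have e10 := congrArg (fun g : SLF => g.1 1 0) hcx
    have e00 := congrArg (fun g : SLF => g.1 0 0) hcx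
    simp [mul_apply', hu, negOne_mul] at e10 e00
    have h10 : x.1 1 0 = 0 := by
      have : (2 : F) * x.1 1 0 = 0 := by linear_combination e10
      exact (mul_eq_zero.1 this).resolve_left h2
    rw [h10] at e00 hd
    have : (2 : F) * x.1 0 0 = 0 := by linear_combination e00
    rw [(mul_eq_zero.1 this).resolve_left h2] at hd
    simp at hd

/-- If two subgroups containing the centre commute modulo the centre and generate `SL₂`, one is the centre. -/
theorem sl2_indecomposable (h2 : (2 : F) ≠ 0) (A B : Subgroup SLF)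
    (hAZ : Subgroup.center SLF ≤ A) (hBZ : Subgroup.center SLF ≤ B)
    (hcomm : ∀ a ∈ A, ∀ b ∈ B, a * b * a⁻¹ * b⁻¹ ∈ Subgroup.center SLF)
    (hgen : ∀ g : SLF, ∃ a ∈ A, ∃ b ∈ B, g = a * b) :
    A ≤ Subgroup.center SLF ∨ B ≤ Subgroup.center SLF := by
  -- upper unipotent elements lie in one of the subgroups
  have hsign : ∀ x : SLF, x.1 1 0 = 0 → x.1 0 0 = x.1 1 1 → x.1 0 0 * x.1 0 0 = 1 → x.1 0 1 = 0 →
      x ∈ Subgroup.center SLF := by
    intro x h10 hEq _ h01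
    rcases scalar_cases (g := x) (by simp [Cfsg.Agent.Lib.PSLTwo.Sylow.NonScalar, h10, h01, hEq]) with rfl | rfl
    · exact Subgroup.one_mem _
    · exact (mem_center_iff' h2).2 (Or.inr rfl)
  have hU : ∀ t : F, mk2 1 t 0 1 (by ring) ∈ A ∨ mk2 1 t 0 1 (by ring) ∈ B := by
    intro t
    by_cases ht : t = 0
    · left
      subst ht
      rw [show (mk2 1 (0 : F) 0 1 (by ring) : SLF) = 1 from by apply slExt <;> simp]
      exact A.one_mem
    obtain ⟨a, ha, b, hb, hab⟩ := hgen (mk2 1 t 0 1 (by ring))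
    have hab' := hcomm a ha b hb
    have hca : a * mk2 1 t 0 1 (by ring) * a⁻¹ * (mk2 1 t 0 1 (by ring))⁻¹ ∈ Subgroup.center SLF := by
      rw [hab]
      have := Subgroup.Normal.conj_mem (inferInstance : (Subgroup.center SLF).Normal) _ hab' a
      convert this using 1
      group
    obtain ⟨a10, aEq, asq⟩ := shape_of_comm h2 ht hca
    by_cases ha01 : a.1 0 1 = 0
    · right
      rw [hab]
      exact B.mul_mem (hBZ (hsign a a10 aEq asq ha01)) hb
    left
    rw [hab]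
    refine A.mul_mem ha (hAZ ?_)
    by_contra hbZ
    -- `B` centralises `a` modulo the centre, `A` centralises `b`
    have hupper : ∀ g : SLF, g.1 1 0 = 0 := by
      intro g
      have hb10 : b.1 1 0 = 0 ∧ b.1 0 0 = b.1 1 1 ∧ b.1 0 0 * b.1 0 0 = 1 := by
        have hcb : b * mk2 1 t 0 1 (by ring) * b⁻¹ * (mk2 1 t 0 1 (by ring))⁻¹ ∈ Subgroup.center SLF := by
          rw [hab]
          have := Subgroup.inv_mem _ hab'
          have := Subgroup.mem_center_iff.1 this (a * b)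
          have key : b * (a * b) * b⁻¹ * (a * b)⁻¹ = (a * b * a⁻¹ * b⁻¹)⁻¹ := by group
          rw [key]
          exact Subgroup.inv_mem _ hab'
        exact shape_of_comm h2 ht hcb
      obtain ⟨b10, bEq, bsq⟩ := hb10
      have hb01 : b.1 0 1 ≠ 0 := fun h => hbZ (hsign b b10 bEq bsq h)
      have hA10 : ∀ x ∈ A, x.1 1 0 = 0 := by
        intro x hx
        have h := hcomm x hx b hb
        -- `b = ± upper`
        set t' := b.1 0 0 * b.1 0 1
        have ht' : t' ≠ 0 := mul_ne_zero (fun h0 => by rw [h0] at bsq; simp at bsq) hb01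
        have hbeq : ∃ c ∈ Subgroup.center SLF, b = c * mk2 1 t' 0 1 (by ring) := by
          rcases mul_self_eq_one_iff.1 bsq with h1 | h1
          · refine ⟨1, Subgroup.one_mem _, ?_⟩
            apply slExt <;> simp [t', h1, b10, ← bEq]
          · refine ⟨negOne, (mem_center_iff' h2).2 (Or.inr rfl), ?_⟩
            apply slExt <;> rw [mul_apply'] <;> simp [t', h1, b10, ← bEq]
        obtain ⟨c, hc, hbc⟩ := hbeq
        refine (shape_of_comm h2 ht' ?_).1
        convert h using 1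
        rw [hbc]
        have hcc := Subgroup.mem_center_iff.1 hc
        calc x * mk2 1 t' 0 1 _ * x⁻¹ * (mk2 1 t' 0 1 _)⁻¹
            = (x * c) * mk2 1 t' 0 1 (by ring) * x⁻¹ * (mk2 1 t' 0 1 (by ring))⁻¹ * c⁻¹ := by
              rw [hcc x, mul_assoc c x, mul_assoc c, mul_assoc c, ← hcc (x * _ * _ * _), mul_inv_cancel_right]
          _ = _ := by group
      have hB10 : ∀ x ∈ B, x.1 1 0 = 0 := by
        intro x hx
        have h := hcomm a ha x hx
        set t' := a.1 0 0 * a.1 0 1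
        have ht' : t' ≠ 0 := mul_ne_zero (fun h0 => by rw [h0] at asq; simp at asq) ha01
        have haeq : ∃ c ∈ Subgroup.center SLF, a = c * mk2 1 t' 0 1 (by ring) := by
          rcases mul_self_eq_one_iff.1 asq with h1 | h1
          · refine ⟨1, Subgroup.one_mem _, ?_⟩
            apply slExt <;> simp [t', h1, a10, ← aEq]
          · refine ⟨negOne, (mem_center_iff' h2).2 (Or.inr rfl), ?_⟩
            apply slExt <;> rw [mul_apply'] <;> simp [t', h1, a10, ← aEq]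
        obtain ⟨c, hc, hac⟩ := haeq
        refine (shape_of_comm h2 ht' ?_).1
        have hcc := Subgroup.mem_center_iff.1 hc
        have h' := Subgroup.inv_mem _ h
        convert h' using 1
        rw [hac]
        calc x * mk2 1 t' 0 1 _ * x⁻¹ * (mk2 1 t' 0 1 _)⁻¹
            = (x * c) * mk2 1 t' 0 1 (by ring) * x⁻¹ * (mk2 1 t' 0 1 (by ring))⁻¹ * c⁻¹ := by
              rw [hcc x, mul_assoc c x, mul_assoc c, mul_assoc c, ← hcc (x * _ * _ * _), mul_inv_cancel_right]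
          _ = _ := by group
      obtain ⟨a', ha', b', hb', rfl⟩ := hgen g
      simp [mul_apply', hA10 a' ha', hB10 b' hb']
    have := hupper (mk2 1 0 1 1 (by ring))
    simp at this
  -- the same for lower unipotents, by conjugating with the Weyl element
  set w : SLF := mk2 0 1 (-1) 0 (by ring) with hw
  have hAn : ∀ g : SLF, ∀ a ∈ A, g * a * g⁻¹ ∈ A := by
    intro g a ha
    obtain ⟨a', ha', b', hb', rfl⟩ := hgen g
    have h := hcomm a ha b' hb'
    have e : b' * a * b'⁻¹ = (a * b' * a⁻¹ * b'⁻¹)⁻¹ * a := by group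
    rw [show a' * b' * a * (a' * b')⁻¹ = a' * (b' * a * b'⁻¹) * a'⁻¹ by group, e]
    exact A.mul_mem (A.mul_mem ha' (A.mul_mem (A.inv_mem (hAZ h)) ha)) (A.inv_mem ha')
  have hBn : ∀ g : SLF, ∀ b ∈ B, g * b * g⁻¹ ∈ B := by
    intro g b hb
    obtain ⟨a', ha', b', hb', rfl⟩ := hgen g
    have h := hcomm a' ha' (b' * b * b'⁻¹) (B.mul_mem (B.mul_mem hb' hb) (B.inv_mem hb'))
    have e : a' * b' * b * (a' * b')⁻¹ = (a' * (b' * b * b'⁻¹) * a'⁻¹ * (b' * b * b'⁻¹)⁻¹) * (b' * b * b'⁻¹) := by group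
    rw [e]
    exact B.mul_mem (hBZ h) (B.mul_mem (B.mul_mem hb' hb) (B.inv_mem hb'))
  have hconj : ∀ t : F, w * mk2 1 t 0 1 (by ring) * w⁻¹ = mk2 1 0 (-t) 1 (by ring) := by
    intro t
    rw [mul_inv_eq_iff_eq_mul]
    apply slExt <;> simp [mul_apply', hw]
  have hall : (∀ t : F, mk2 1 t 0 1 (by ring) ∈ A) ∨ (∀ t : F, mk2 1 t 0 1 (by ring) ∈ B) := by
    by_contra hcon
    push_neg at hcon
    obtain ⟨⟨s, hs⟩, r, hr⟩ := hcon
    have hsB := (hU s).resolve_left hs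
    have hrA := (hU r).resolve_right hr
    have e : (mk2 1 s 0 1 (by ring) : SLF) * mk2 1 r 0 1 (by ring) = mk2 1 (r + s) 0 1 (by ring) := by
      apply slExt <;> simp [mul_apply', add_comm]
    rcases hU (r + s) with h | h
    · exact hs (by
        have := A.mul_mem h (A.inv_mem hrA)
        rwa [← e, mul_inv_cancel_right] at this)
    · exact hr (by
        have := B.mul_mem (B.inv_mem hsB) h
        rwa [← e, inv_mul_cancel_left] at this)
  have key : ∀ C : Subgroup SLF, (∀ g : SLF, ∀ a ∈ C, g * a * g⁻¹ ∈ C) →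
      (∀ t : F, mk2 1 t 0 1 (by ring) ∈ C) → C = ⊤ := by
    intro C hCn hC
    refine Cfsg.Agent.Lib.Linear.sl_eq_top_of_transvection_mem _ fun i j hij c => ?_
    fin_cases i <;> fin_cases j
    · exact absurd rfl hij
    · rw [show Matrix.SpecialLinearGroup.transvection hij c = _ from transvection_eq_upper c]
      exact hC c
    · rw [show Matrix.SpecialLinearGroup.transvection hij c = _ from transvection_eq_lower c]
      have := hCn w _ (hC (-c))
      rw [hconj, ] at this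
      simpa using this
    · exact absurd rfl hij
  have hcent : ∀ C D : Subgroup SLF, C = ⊤ → (∀ a ∈ C, ∀ b ∈ D, a * b * a⁻¹ * b⁻¹ ∈ Subgroup.center SLF) →
      D ≤ Subgroup.center SLF := by
    intro C D hC hCD d hd
    have h1 := hCD (mk2 1 1 0 1 (by ring)) (hC ▸ Subgroup.mem_top _) d hd
    have h3 := hCD (w * mk2 1 1 0 1 (by ring) * w⁻¹) (hC ▸ Subgroup.mem_top _) d hd
    have h1' : d * mk2 1 1 0 1 (by ring) * d⁻¹ * (mk2 1 1 0 1 (by ring))⁻¹ ∈ Subgroup.center SLF := by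
      convert Subgroup.inv_mem _ h1 using 1; group
    have h3' : (w⁻¹ * d * w) * mk2 1 1 0 1 (by ring) * (w⁻¹ * d * w)⁻¹ * (mk2 1 1 0 1 (by ring))⁻¹ ∈ Subgroup.center SLF := by
      have := Subgroup.Normal.conj_mem (inferInstance : (Subgroup.center SLF).Normal) _ (Subgroup.inv_mem _ h3) w⁻¹
      convert this using 1; group
    obtain ⟨d10, dEq, dsq⟩ := shape_of_comm h2 one_ne_zero h1'
    obtain ⟨e10, -, -⟩ := shape_of_comm h2 one_ne_zero h3'
    refine hsign d d10 dEq dsq ?_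
    have hwi : w⁻¹ = mk2 0 (-1) 1 0 (by ring) := by
      refine inv_eq_of_mul_eq_one_right ?_
      apply slExt <;> rw [mul_apply'] <;> simp [hw]
    rw [hwi, mul_apply', mul_apply', mul_apply'] at e10
    simp [hw, d10] at e10
    exact e10
  rcases hall with h | h
  · exact Or.inr (hcent A B (key A hAn h) hcomm)
  · refine Or.inl (hcent B A (key B hBn h) fun b hb a ha => ?_)
    have := Subgroup.inv_mem _ (hcomm a ha b hb)
    convert this using 1
    group

end SLTwo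

section Group

variable {G : Type*} [Group G]

theorem exists_mul_of_commute {L K : Subgroup G} (hc : ∀ x ∈ L, ∀ y ∈ K, x * y = y * x) {g : G}
    (hg : g ∈ L ⊔ K) : ∃ a ∈ L, ∃ b ∈ K, a * b = g := by
  have hn : K ≤ Subgroup.normalizer (L : Set G) := by
    intro k hk
    rw [Subgroup.mem_normalizer_iff]
    intro x
    constructor
    · intro hx
      rw [← hc x hx k hk, mul_inv_cancel_right]
      exact hx
    · intro hx
      have h := hc _ hx k hk
      have : x = k * x * k⁻¹ := by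
        calc x = k⁻¹ * ((k * x * k⁻¹) * k) := by group
          _ = k⁻¹ * (k * (k * x * k⁻¹)) := by rw [h]
          _ = _ := by group
      rw [this]
      exact hx
  have := Subgroup.coe_mul_of_right_le_normalizer_left L K hn
  rw [← SetLike.mem_coe, this] at hg
  obtain ⟨a, ha, b, hb, h⟩ := hg
  exact ⟨a, ha, b, hb, h⟩

/-- Of two commuting subgroups generating `L ⊔ K` with `L ≅ SL₂`, one lies in `K`. -/
theorem le_right_or [Finite G] {F : Type*} [Field F] [Fintype F] (hF : Odd (Fintype.card F))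
    (L K : Subgroup G) (e : ↥L ≃* Matrix.SpecialLinearGroup (Fin 2) F)
    (hc : ∀ x ∈ L, ∀ y ∈ K, x * y = y * x) (j : G) (hj : orderOf j = 2) (hm : L ⊓ K = Subgroup.zpowers j)
    (M N : Subgroup G) (hMN : ∀ x ∈ M, ∀ y ∈ N, x * y = y * x) (hsup : M ⊔ N = L ⊔ K) :
    M ≤ K ∨ N ≤ K := by
  have h2 : (2 : F) ≠ 0 := two_ne_zero_of_odd (Nat.odd_iff.1 hF)
  have hjLK : j ∈ L ⊓ K := hm ▸ Subgroup.mem_zpowers j
  set jL : ↥L := ⟨j, hjLK.1⟩
  have hej : e jL = negOne := by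
    refine ((mem_center_iff' h2).1 (Subgroup.mem_center_iff.2 fun g => ?_)).resolve_left (fun h => ?_)
    · obtain ⟨l, rfl⟩ := e.surjective g
      rw [← map_mul, ← map_mul]
      exact congrArg e (Subtype.ext (hc _ l.2 j hjLK.2))
    · rw [MulEquiv.map_eq_one_iff, Subtype.ext_iff] at h
      rw [show j = 1 from h, orderOf_one] at hj
      norm_num at hj
  have hZ : ∀ l : ↥L, e l ∈ Subgroup.center _ ↔ (l : G) ∈ K := by
    intro l
    constructor
    · intro h
      rcases (mem_center_iff' h2).1 h with h | h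
      · rw [MulEquiv.map_eq_one_iff] at h
        rw [h]; exact K.one_mem
      · rw [← hej, e.injective.eq_iff] at h
        rw [h]; exact hjLK.2
    · intro h
      rw [Subgroup.mem_center_iff]
      intro g
      obtain ⟨l', rfl⟩ := e.surjective g
      rw [← map_mul, ← map_mul]
      exact congrArg e (Subtype.ext (hc _ l'.2 _ h))
  set A := ((L ⊓ (M ⊔ K)).subgroupOf L).map e.toMonoidHom with hA
  set B := ((L ⊓ (N ⊔ K)).subgroupOf L).map e.toMonoidHom with hB
  have hMY : M ≤ L ⊔ K := hsup ▸ le_sup_left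
  have hNY : N ≤ L ⊔ K := hsup ▸ le_sup_right
  have hMK : ∀ m ∈ M, ∀ a ∈ L, ∀ b ∈ K, a * b = m → a ∈ L ⊓ (M ⊔ K) := fun m hm' a ha b hb he =>
    ⟨ha, by
      rw [eq_mul_inv_of_mul_eq he]
      exact Subgroup.mul_mem _ (Subgroup.mem_sup_left hm') (Subgroup.mem_sup_right (K.inv_mem hb))⟩
  have hNK : ∀ m ∈ N, ∀ a ∈ L, ∀ b ∈ K, a * b = m → a ∈ L ⊓ (N ⊔ K) := fun m hm' a ha b hb he =>
    ⟨ha, by
      rw [eq_mul_inv_of_mul_eq he]
      exact Subgroup.mul_mem _ (Subgroup.mem_sup_left hm') (Subgroup.mem_sup_right (K.inv_mem hb))⟩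
  have hn : ∀ P : Subgroup G, P ≤ L ⊔ K → ∀ a ∈ L ⊓ (P ⊔ K), ∃ m ∈ P, ∃ b ∈ K, a = m * b := by
    intro P hP a ha
    have hnK : P ≤ Subgroup.normalizer (K : Set G) := by
      refine hP.trans (sup_le ?_ Subgroup.le_normalizer)
      intro l hl
      rw [Subgroup.mem_normalizer_iff]
      intro y
      constructor
      · intro hy
        rw [hc l hl y hy, mul_inv_cancel_right]; exact hy
      · intro hy
        have h := hc l hl _ hy
        have : y = l * y * l⁻¹ := by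
          calc y = l⁻¹ * ((l * y * l⁻¹) * l) := by group
            _ = l⁻¹ * (l * (l * y * l⁻¹)) := by rw [h]
            _ = _ := by group
        rw [this]; exact hy
    have h : a ∈ P ⊔ K := ha.2
    rw [← SetLike.mem_coe, Subgroup.coe_mul_of_left_le_normalizer_right P K hnK] at h
    obtain ⟨m, hm', b, hb, hmb⟩ := h
    exact ⟨m, hm', b, hb, hmb.symm⟩
  have hind := sl2_indecomposable h2 A B ?_ ?_ ?_ ?_
  · rcases hind with h | h
    · left
      intro m hm'
      obtain ⟨a, ha, b, hb, he⟩ := exists_mul_of_commute hc (hMY hm')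
      have := (hZ ⟨a, ha⟩).1 (h ⟨⟨a, ha⟩, hMK m hm' a ha b hb he, rfl⟩)
      exact he ▸ K.mul_mem this hb
    · right
      intro m hm'
      obtain ⟨a, ha, b, hb, he⟩ := exists_mul_of_commute hc (hNY hm')
      have := (hZ ⟨a, ha⟩).1 (h ⟨⟨a, ha⟩, hNK m hm' a ha b hb he, rfl⟩)
      exact he ▸ K.mul_mem this hb
  · intro z hz
    obtain ⟨l, rfl⟩ := e.surjective z
    exact ⟨l, ⟨l.2, Subgroup.mem_sup_right ((hZ l).1 hz)⟩, rfl⟩
  · intro z hz
    obtain ⟨l, rfl⟩ := e.surjective z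
    exact ⟨l, ⟨l.2, Subgroup.mem_sup_right ((hZ l).1 hz)⟩, rfl⟩
  · rintro _ ⟨a, ha, rfl⟩ _ ⟨a', ha', rfl⟩
    show e a * e a' * (e a)⁻¹ * (e a')⁻¹ ∈ _
    rw [← map_inv, ← map_inv, ← map_mul, ← map_mul, ← map_mul, hZ]
    obtain ⟨m, hm', b, hb, he⟩ := hn M hMY a ha
    obtain ⟨m', hm'', b', hb', he'⟩ := hn N hNY a' ha'
    simp only [Subgroup.coe_mul, Subgroup.coe_inv]
    have h1 : Commute (a : G) b' := hc _ a.2 _ hb'
    have h1' : Commute (a' : G) b := hc _ a'.2 _ hb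
    have h3 : (a : G) * a' * (a : G)⁻¹ * (a' : G)⁻¹ = m * b * m' * b⁻¹ * m⁻¹ * m'⁻¹ := by
      calc (a : G) * a' * (a : G)⁻¹ * (a' : G)⁻¹ = a * (a' * b'⁻¹) * (b' * (a : G)⁻¹) * (a' : G)⁻¹ := by group
        _ = a * (a' * b'⁻¹) * ((a : G)⁻¹ * b') * (a' : G)⁻¹ := by rw [(h1.inv_left).symm.eq]
        _ = _ := by rw [he, he']; group
    rw [h3]
    have hKn : ∀ y ∈ L ⊔ K, ∀ k ∈ K, y * k * y⁻¹ ∈ K := by
      intro y hy k hk
      obtain ⟨l, hl, k', hk', rfl⟩ := exists_mul_of_commute hc hy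
      rw [show l * k' * k * (l * k')⁻¹ = l * (k' * k * k'⁻¹) * l⁻¹ by group,
        hc l hl _ (K.mul_mem (K.mul_mem hk' hk) (K.inv_mem hk')), mul_inv_cancel_right]
      exact K.mul_mem (K.mul_mem hk' hk) (K.inv_mem hk')
    have e4 : m * b * m' * b⁻¹ * m⁻¹ * m'⁻¹ = (m * b * m⁻¹) * ((m * m') * b⁻¹ * (m * m')⁻¹) * ((m * m') * (m'⁻¹ * m⁻¹)) := by
      have hcm : m * m' = m' * m := hMN m hm' m' hm''
      calc m * b * m' * b⁻¹ * m⁻¹ * m'⁻¹ = m * b * m' * b⁻¹ * (m' * m)⁻¹ := by group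
        _ = m * b * m' * b⁻¹ * (m * m')⁻¹ := by rw [hcm]
        _ = _ := by group
    rw [e4]
    exact K.mul_mem (K.mul_mem (hKn m (hMY hm') b hb)
      (hKn _ (Subgroup.mul_mem _ (hMY hm') (hNY hm'')) _ (K.inv_mem hb))) (by
        rw [show m * m' * (m'⁻¹ * m⁻¹) = 1 by group]; exact K.one_mem)
  · intro g
    obtain ⟨l, rfl⟩ := e.surjective g
    obtain ⟨m, hm', n, hn', he⟩ := exists_mul_of_commute hMN (hsup.symm ▸ Subgroup.mem_sup_left l.2 : (l : G) ∈ M ⊔ N)
    obtain ⟨a₁, ha₁, b₁, hb₁, he₁⟩ := exists_mul_of_commute hc (hMY hm')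
    obtain ⟨a₂, ha₂, b₂, hb₂, he₂⟩ := exists_mul_of_commute hc (hNY hn')
    have hdec : (l : G) = a₁ * a₂ * (b₁ * b₂) := by
      rw [← he, ← he₁, ← he₂]
      simp only [mul_assoc]
      rw [← mul_assoc b₁ a₂, ← hc a₂ ha₂ b₁ hb₁, mul_assoc]
    set r : G := b₁ * b₂
    have hrL : r ∈ L := by
      rw [show r = (a₁ * a₂)⁻¹ * l by rw [hdec]; group]
      exact L.mul_mem (L.inv_mem (L.mul_mem ha₁ ha₂)) l.2
    refine ⟨e (⟨a₁, ha₁⟩), ⟨_, hMK m hm' a₁ ha₁ b₁ hb₁ he₁, rfl⟩, e (⟨a₂, ha₂⟩ * ⟨r, hrL⟩), ?_, ?_⟩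
    · refine ⟨_, ?_, rfl⟩
      show (a₂ * r) ∈ L ⊓ (N ⊔ K)
      exact ⟨L.mul_mem ha₂ hrL, Subgroup.mul_mem _ (hNK n hn' a₂ ha₂ b₂ hb₂ he₂).2
        (Subgroup.mem_sup_right (K.mul_mem hb₁ hb₂))⟩
    · rw [← map_mul]
      refine congrArg e (Subtype.ext ?_)
      simp only [Subgroup.coe_mul]
      rw [hdec, mul_assoc]

theorem two_lt_card_of_sl2 {F : Type*} [Field F] [Fintype F] (L : Subgroup G)
    (e : ↥L ≃* Matrix.SpecialLinearGroup (Fin 2) F) : ¬ Nat.card L ≤ 2 := by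
  intro hL
  rw [Nat.card_congr e.toEquiv, Cfsg.Agent.Lib.Linear.card_SL_two] at hL
  have h2 : 2 ≤ Fintype.card F := Fintype.one_lt_card
  have : 2 * 1 * 3 ≤ Fintype.card F * (Fintype.card F - 1) * (Fintype.card F + 1) :=
    Nat.mul_le_mul (Nat.mul_le_mul h2 (by omega)) (by omega)
  omega

end Group

theorem result {G : Type*} [Group G] [Finite G]
    {F₁ : Type*} [Field F₁] [Fintype F₁] {F₂ : Type*} [Field F₂] [Fintype F₂]
    (hF₁ : Odd (Fintype.card F₁)) (hF₂ : Odd (Fintype.card F₂)) (L₁ L₂ : Subgroup G)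
    (e₁ : ↥L₁ ≃* Matrix.SpecialLinearGroup (Fin 2) F₁) (e₂ : ↥L₂ ≃* Matrix.SpecialLinearGroup (Fin 2) F₂)
    (hc : ∀ x ∈ L₁, ∀ y ∈ L₂, x * y = y * x) (j : G) (hj : orderOf j = 2) (hm : L₁ ⊓ L₂ = Subgroup.zpowers j)
    (hle : L₁ ⊔ L₂ ≤ Subgroup.centralizer ({j} : Set G)) (hi : (L₁ ⊔ L₂).relIndex (Subgroup.centralizer ({j} : Set G)) = 2) (n : G) (hn : n ∈ Subgroup.centralizer ({j} : Set G)) (hn' : n ∉ L₁ ⊔ L₂) :
    (L₁.map (MulAut.conj n).toMonoidHom = L₁ ∧ L₂.map (MulAut.conj n).toMonoidHom = L₂) ∨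
      (L₁.map (MulAut.conj n).toMonoidHom = L₂ ∧ Fintype.card F₁ = Fintype.card F₂ ∧
        ∃ n' ∈ Subgroup.centralizer ({j} : Set G), n' ∉ L₁ ⊔ L₂ ∧ L₁.map (MulAut.conj n').toMonoidHom = L₂ ∧ n' ^ 2 ∈ Subgroup.zpowers j) := by
  set H := Subgroup.centralizer ({j} : Set G) with hH
  haveI hYn : ((L₁ ⊔ L₂).subgroupOf H).Normal := Subgroup.normal_of_index_eq_two hi
  set φ := (MulAut.conj n).toMonoidHom with hφ
  have hφinj : Function.Injective φ := (MulAut.conj n).injective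
  have hcard : ∀ P : Subgroup G, Nat.card (P.map φ) = Nat.card P := fun P => Subgroup.card_map_of_injective hφinj
  have hYle : (L₁ ⊔ L₂).map φ ≤ L₁ ⊔ L₂ := by
    rintro _ ⟨y, hy, rfl⟩
    exact hYn.conj_mem ⟨y, hle hy⟩ hy ⟨n, hn⟩
  have hsup : L₁.map φ ⊔ L₂.map φ = L₁ ⊔ L₂ := by
    rw [← Subgroup.map_sup]
    exact Subgroup.eq_of_le_of_card_ge hYle (le_of_eq (hcard _).symm)
  have hcφ : ∀ x ∈ L₁.map φ, ∀ y ∈ L₂.map φ, x * y = y * x := by
    rintro _ ⟨x, hx, rfl⟩ _ ⟨y, hy, rfl⟩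
    rw [← map_mul, ← map_mul, hc x hx y hy]
  have h1 := le_right_or hF₁ L₁ L₂ e₁ hc j hj hm _ _ hcφ hsup
  have h2 := le_right_or hF₂ L₂ L₁ e₂ (fun x hx y hy => (hc y hy x hx).symm) j hj (by rw [inf_comm, hm]) _ _ hcφ (by rw [hsup, sup_comm])
  have hboth : ∀ P : Subgroup G, P ≤ L₁ → P ≤ L₂ → Nat.card P ≤ 2 := fun P hP1 hP2 => by
    refine (Subgroup.card_le_of_le (hm ▸ le_inf hP1 hP2)).trans (le_of_eq ?_)
    rw [Nat.card_zpowers, hj]
  rcases h1 with hA | hA <;> rcases h2 with hB | hB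
  · exact absurd (hcard L₁ ▸ hboth _ hB hA) (two_lt_card_of_sl2 L₁ e₁)
  · -- the factors are interchanged
    have hc12 : Nat.card L₁ = Nat.card L₂ := le_antisymm (hcard L₁ ▸ Subgroup.card_le_of_le hA) (hcard L₂ ▸ Subgroup.card_le_of_le hB)
    have hM : L₁.map φ = L₂ := Subgroup.eq_of_le_of_card_ge hA (by rw [hcard, hc12])
    have hN : L₂.map φ = L₁ := Subgroup.eq_of_le_of_card_ge hB (by rw [hcard, hc12])
    have hq : Fintype.card F₁ = Fintype.card F₂ := by
      rw [Nat.card_congr e₁.toEquiv, Nat.card_congr e₂.toEquiv, Cfsg.Agent.Lib.Linear.card_SL_two,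
        Cfsg.Agent.Lib.Linear.card_SL_two] at hc12
      have mono : ∀ a b : ℕ, a < b → a * (a - 1) * (a + 1) < b * (b - 1) * (b + 1) ∨ b ≤ 1 := by
        intro a b hab
        rcases Nat.lt_or_ge 1 b with h | h
        · left
          calc a * (a - 1) * (a + 1) ≤ b * (b - 1) * (a + 1) := by
                exact Nat.mul_le_mul_right _ (Nat.mul_le_mul hab.le (by omega))
            _ < b * (b - 1) * (b + 1) := Nat.mul_lt_mul_of_pos_left (by omega) (Nat.mul_pos (by omega) (by omega))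
        · exact Or.inr h
      have hq1 : 1 < Fintype.card F₁ := Fintype.one_lt_card
      have hq2 : 1 < Fintype.card F₂ := Fintype.one_lt_card
      rcases lt_trichotomy (Fintype.card F₁) (Fintype.card F₂) with h | h | h
      · rcases mono _ _ h with h' | h' <;> omega
      · exact h
      · rcases mono _ _ h with h' | h' <;> omega
    refine Or.inr ⟨hM, hq, ?_⟩
    have hn2 : n * n ∈ L₁ ⊔ L₂ := by
      have := (Subgroup.mul_self_mem_of_index_two hi ⟨n, hn⟩)
      exact this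
    obtain ⟨a, ha, b, hb, hab⟩ := exists_mul_of_commute hc hn2
    have hjm : ∀ x, x ∈ L₁ → x ∈ L₂ → x ∈ Subgroup.zpowers j := fun x h h' => hm ▸ ⟨h, h'⟩
    have hna : n * a * n⁻¹ ∈ L₂ := hM ▸ ⟨a, ha, rfl⟩
    have hnb : n * b * n⁻¹ ∈ L₁ := hN ▸ ⟨b, hb, rfl⟩
    have hnia : n⁻¹ * a⁻¹ * n ∈ L₂ := by
      obtain ⟨y, hy, hye⟩ : a⁻¹ ∈ L₂.map φ := hN.symm ▸ L₁.inv_mem ha
      have : n⁻¹ * a⁻¹ * n = y := by
        rw [← hye]; show n⁻¹ * (n * y * n⁻¹) * n = y; group
      rw [this]; exact hy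
    -- `n` commutes with its square
    have hfix : n * a * n⁻¹ * (n * b * n⁻¹) = a * b := by
      rw [show n * a * n⁻¹ * (n * b * n⁻¹) = n * (a * b) * n⁻¹ by group, hab]; group
    have hfix' : (n * b * n⁻¹) * (n * a * n⁻¹) = a * b := by rw [hc _ hnb _ hna]; exact hfix
    have hε : a⁻¹ * (n * b * n⁻¹) ∈ Subgroup.zpowers j := by
      refine hjm _ (L₁.mul_mem (L₁.inv_mem ha) hnb) ?_
      rw [show a⁻¹ * (n * b * n⁻¹) = b * (n * a * n⁻¹)⁻¹ by
        rw [eq_mul_inv_iff_mul_eq, mul_assoc, hfix', inv_mul_cancel_left]]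
      exact L₂.mul_mem hb (L₂.inv_mem hna)
    have hcj : ∀ g ∈ H, ∀ x ∈ Subgroup.zpowers j, g * x * g⁻¹ = x := by
      intro g hg x hx
      obtain ⟨i, rfl⟩ := Subgroup.mem_zpowers_iff.1 hx
      rw [(Commute.zpow_right (show Commute g j from Subgroup.mem_centralizer_singleton_iff.1 hg) i).eq, mul_inv_cancel_right]
    refine ⟨n * a⁻¹, H.mul_mem hn (hle (Subgroup.mem_sup_left (L₁.inv_mem ha))), fun h => hn' ?_, ?_, ?_⟩
    · have := Subgroup.mul_mem _ h (Subgroup.mem_sup_left ha)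
      rwa [inv_mul_cancel_right] at this
    · refine Subgroup.eq_of_le_of_card_ge ?_ ?_
      · rintro _ ⟨x, hx, rfl⟩
        rw [← hM]
        refine ⟨a⁻¹ * x * a, L₁.mul_mem (L₁.mul_mem (L₁.inv_mem ha) hx) ha, ?_⟩
        show n * (a⁻¹ * x * a) * n⁻¹ = n * a⁻¹ * x * (n * a⁻¹)⁻¹
        group
      · rw [Subgroup.card_map_of_injective (MulAut.conj (n * a⁻¹)).injective, hc12]
    · have h1 : (n * a⁻¹) ^ 2 = b * (n⁻¹ * a⁻¹ * n) := by
        calc (n * a⁻¹) ^ 2 = (n * n) * (n⁻¹ * a⁻¹ * n) * a⁻¹ := by rw [pow_two]; group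
          _ = a * (b * (n⁻¹ * a⁻¹ * n) * a⁻¹) := by rw [← hab]; group
          _ = a * (a⁻¹ * (b * (n⁻¹ * a⁻¹ * n))) := by rw [← hc _ (L₁.inv_mem ha) _ (L₂.mul_mem hb hnia)]
          _ = _ := by group
      rw [h1]
      have h3 : b * (n⁻¹ * a⁻¹ * n) = n⁻¹ * ((n * b * n⁻¹) * a⁻¹) * n := by group
      have h4 : (n * b * n⁻¹) * a⁻¹ = a⁻¹ * (n * b * n⁻¹) := by
        have := hcj a (hle (Subgroup.mem_sup_left ha)) _ hε
        calc (n * b * n⁻¹) * a⁻¹ = a * (a⁻¹ * (n * b * n⁻¹)) * a⁻¹ := by group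
          _ = _ := this
      rw [h3, h4]
      have := hcj n⁻¹ (H.inv_mem hn) _ hε
      rw [inv_inv] at this
      rw [this]; exact hε
  · exact Or.inl ⟨Subgroup.eq_of_le_of_card_ge hB (le_of_eq (hcard _).symm),
      Subgroup.eq_of_le_of_card_ge hA (le_of_eq (hcard _).symm)⟩
  · exact absurd (hcard L₂ ▸ hboth _ hB hA) (two_lt_card_of_sl2 L₂ e₂)

end Cfsg.Agent.S3210
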