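import Cfsg.Statements.S3211
import Mathlib
import Cfsg.Agent.Lib.ZStar.UniqueCase
import Cfsg.Agent.Lib.Cores.Pi

set_option autoImplicit false
open Cfsg
open scoped Pointwise

namespace Cfsg.Agent.S3211

section SL

variable {F : Type*} [Field F]

local notation "SL2" => Matrix.SpecialLinearGroup (Fin 2) F

open Matrix

theorem two_ne [Fintype F] (hF : Odd (Fintype.card F)) : (2 : F) ≠ 0 :=
  Ring.two_ne_zero fun h => by
    have := FiniteField.even_card_iff_char_two.1 h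
    rw [Nat.odd_iff] at hF
    omega

theorem ext2 {x y : SL2} (h0 : x.1 0 0 = y.1 0 0) (h1 : x.1 0 1 = y.1 0 1) (h2 : x.1 1 0 = y.1 1 0)
    (h3 : x.1 1 1 = y.1 1 1) : x = y := by
  ext i j
  fin_cases i <;> fin_cases j <;> assumption

theorem det2 (x : SL2) : x.1 0 0 * x.1 1 1 - x.1 0 1 * x.1 1 0 = 1 := by
  rw [← Matrix.det_fin_two]; exact x.2

theorem sl_invol (h2 : (2 : F) ≠ 0) {x : SL2} (hx : x * x = 1) : x = 1 ∨ x = -1 := by
  have e := det2 x
  have h : ∀ i j, (x.1 * x.1) i j = (1 : Matrix (Fin 2) (Fin 2) F) i j := fun i j =>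
    congrFun (congrFun (congrArg Subtype.val hx) i) j
  have a := h 0 0
  have b := h 0 1
  have c := h 1 0
  have d := h 1 1
  simp [Matrix.mul_apply, Fin.sum_univ_two] at a b c d
  have ht : x.1 0 0 + x.1 1 1 ≠ 0 := by
    intro ht
    exact h2 (by linear_combination x.1 0 0 * ht - a - e)
  have hb : x.1 0 1 = 0 := (mul_eq_zero.1 (by linear_combination b : (x.1 0 0 + x.1 1 1) * x.1 0 1 = 0)).resolve_left ht
  have hc : x.1 1 0 = 0 := (mul_eq_zero.1 (by linear_combination c : (x.1 0 0 + x.1 1 1) * x.1 1 0 = 0)).resolve_left ht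
  have had : x.1 0 0 = x.1 1 1 := sub_eq_zero.1 ((mul_eq_zero.1 (by linear_combination a - d :
    (x.1 0 0 + x.1 1 1) * (x.1 0 0 - x.1 1 1) = 0)).resolve_left ht)
  rcases mul_self_eq_one_iff.1 (by linear_combination a - x.1 1 0 * hb : x.1 0 0 * x.1 0 0 = 1) with h1 | h1
  · exact Or.inl (ext2 (by simp [h1]) (by simp [hb]) (by simp [hc]) (by simp [← had, h1]))
  · exact Or.inr (ext2 (by simp [h1]) (by simp [hb]) (by simp [hc]) (by simp [← had, h1]))

/-- The rotation by a right angle. -/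
def rot : SL2 := ⟨!![0, -1; 1, 0], by simp [Matrix.det_fin_two]⟩

theorem sl_conj_rot [Fintype F] (h2 : (2 : F) ≠ 0) {a : SL2} (ha : a * a = -1) :
    ∃ P : SL2, a * P = P * rot := by
  classical
  have e := det2 a
  have h : ∀ i j, (a.1 * a.1) i j = (-1 : Matrix (Fin 2) (Fin 2) F) i j := fun i j =>
    congrFun (congrFun (congrArg Subtype.val ha) i) j
  have a0 := h 0 0
  have b := h 0 1
  have c := h 1 0
  simp [Matrix.mul_apply, Fin.sum_univ_two] at a0 b c
  have ht : a.1 0 0 + a.1 1 1 = 0 := by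
    by_contra ht
    have hb := (mul_eq_zero.1 (by linear_combination b : (a.1 0 0 + a.1 1 1) * a.1 0 1 = 0)).resolve_left ht
    exact ht ((mul_eq_zero.1 (by linear_combination a0 + e :
      a.1 0 0 * (a.1 0 0 + a.1 1 1) = 0)).resolve_left fun h0 => by simp [h0, hb] at e)
  have hd : a.1 1 1 = -a.1 0 0 := eq_neg_of_add_eq_zero_right ht
  obtain ⟨x, y, hxy⟩ : ∃ x y, a.1 1 0 * x * x - 2 * a.1 0 0 * x * y - a.1 0 1 * y * y = 1 := by
    by_cases hr : a.1 1 0 = 0
    · have hp : 2 * a.1 0 0 ≠ 0 := mul_ne_zero h2 fun h0 => by simp [h0, hr, hd] at e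
      refine ⟨-(1 + a.1 0 1) / (2 * a.1 0 0), 1, ?_⟩
      have hx : 2 * a.1 0 0 * (-(1 + a.1 0 1) / (2 * a.1 0 0)) = -(1 + a.1 0 1) := mul_div_cancel₀ _ hp
      rw [hr]
      linear_combination -hx
    · obtain ⟨s, v, hsv⟩ := FiniteField.exists_root_sum_quadratic
        (f := Polynomial.C (a.1 1 0) * Polynomial.X ^ 2)
        (g := Polynomial.C (a.1 1 0)⁻¹ * Polynomial.X ^ 2 - Polynomial.C 1)
        (Polynomial.degree_C_mul_X_pow 2 hr)
        (by rw [Polynomial.degree_sub_C (by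
              rw [Polynomial.degree_C_mul_X_pow 2 (inv_ne_zero hr)]; exact WithBot.coe_lt_coe.2 two_pos),
              Polynomial.degree_C_mul_X_pow 2 (inv_ne_zero hr)]
            rfl)
        (by
          refine Nat.odd_iff.1 (Nat.not_even_iff_odd.1 fun hev => h2 ?_)
          have := (FiniteField.even_card_iff_char_two (F := F)).2 (Nat.even_iff.1 hev)
          haveI := ringChar.of_eq this
          exact CharTwo.two_eq_zero)
      simp at hsv
      refine ⟨s + a.1 0 0 * v / a.1 1 0, v, ?_⟩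
      rw [hd] at e
      field_simp at hsv ⊢
      linear_combination hsv + v ^ 2 * e
  refine ⟨⟨!![x, a.1 0 0 * x + a.1 0 1 * y; y, a.1 1 0 * x - a.1 0 0 * y], by
    rw [Matrix.det_fin_two_of]; linear_combination hxy⟩, ?_⟩
  have e' := e
  rw [hd] at e'
  refine Subtype.ext ?_
  change a.1 * !![x, a.1 0 0 * x + a.1 0 1 * y; y, a.1 1 0 * x - a.1 0 0 * y] =
    !![x, a.1 0 0 * x + a.1 0 1 * y; y, a.1 1 0 * x - a.1 0 0 * y] * !![0, -1; 1, 0]
  ext i i'
  fin_cases i <;> fin_cases i' <;> simp [Matrix.mul_apply, Fin.sum_univ_two, hd]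
  · linear_combination (-x) * e'
  · ring
  · linear_combination (-y) * e'

theorem sl_conj [Fintype F] (h2 : (2 : F) ≠ 0) {a b : SL2} (ha : a * a = -1) (hb : b * b = -1) :
    ∃ k : SL2, k * b * k⁻¹ = a := by
  obtain ⟨P, hP⟩ := sl_conj_rot h2 ha
  obtain ⟨Q, hQ⟩ := sl_conj_rot h2 hb
  refine ⟨P * Q⁻¹, ?_⟩
  calc P * Q⁻¹ * b * (P * Q⁻¹)⁻¹ = P * Q⁻¹ * (b * Q) * P⁻¹ := by group
    _ = P * rot * P⁻¹ := by rw [hQ]; group
    _ = a := by rw [← hP]; group

theorem sl_centralizer_comm [Fintype F] (h2 : (2 : F) ≠ 0) {a : SL2} (ha : a * a = -1) {p q : SL2}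
    (hp : p * a = a * p) (hq : q * a = a * q) : p * q = q * p := by
  obtain ⟨P, hP⟩ := sl_conj_rot h2 ha
  have key : ∀ p : SL2, p * a = a * p → (P⁻¹ * p * P) * rot = rot * (P⁻¹ * p * P) := by
    intro p hp
    calc (P⁻¹ * p * P) * rot = P⁻¹ * p * (a * P) := by rw [hP]; group
      _ = P⁻¹ * (a * P) * (P⁻¹ * p * P) := by
        rw [← mul_assoc (P⁻¹ * p) a P, mul_assoc P⁻¹ p a, hp]; group
      _ = _ := by rw [hP]; group
  have shape : ∀ p : SL2, p * rot = rot * p → p.1 0 1 = -p.1 1 0 ∧ p.1 1 1 = p.1 0 0 := by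
    intro p hp
    have h : ∀ i j, (p.1 * (rot : SL2).1) i j = ((rot : SL2).1 * p.1) i j := fun i j =>
      congrFun (congrFun (congrArg Subtype.val hp) i) j
    have h00 := h 0 0
    have h10 := h 1 0
    simp [rot, Matrix.SpecialLinearGroup.coe_mul, Matrix.mul_apply, Fin.sum_univ_two] at h00 h10
    exact ⟨h00, h10⟩
  obtain ⟨p1, p2⟩ := shape _ (key p hp)
  obtain ⟨q1, q2⟩ := shape _ (key q hq)
  have hc : (P⁻¹ * p * P) * (P⁻¹ * q * P) = (P⁻¹ * q * P) * (P⁻¹ * p * P) := by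
    generalize P⁻¹ * p * P = p' at p1 p2 ⊢
    generalize P⁻¹ * q * P = q' at q1 q2 ⊢
    refine ext2 ?_ ?_ ?_ ?_ <;> simp [Matrix.SpecialLinearGroup.coe_mul, Matrix.mul_apply, Fin.sum_univ_two, p1, p2, q1, q2] <;> ring
  calc p * q = P * ((P⁻¹ * p * P) * (P⁻¹ * q * P)) * P⁻¹ := by group
    _ = q * p := by rw [hc]; group

theorem sl_anti [Fintype F] (h2 : (2 : F) ≠ 0) {a : SL2} (ha : a * a = -1) {p : SL2}
    (hp : p * a = -(a * p)) : p * p = -1 := by
  obtain ⟨P, hP⟩ := sl_conj_rot h2 ha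
  have key : (P⁻¹ * p * P) * rot = -(rot * (P⁻¹ * p * P)) := by
    calc (P⁻¹ * p * P) * rot = P⁻¹ * (p * a) * P := by
          rw [mul_assoc _ P rot, ← hP]; group
      _ = -(P⁻¹ * (a * P) * (P⁻¹ * p * P)) := by rw [hp, mul_neg, neg_mul]; congr 1; group
      _ = _ := by rw [hP]; congr 1; group
  have hpp : (P⁻¹ * p * P) * (P⁻¹ * p * P) = -1 := by
    generalize P⁻¹ * p * P = p' at key ⊢
    have e := det2 p'
    have hmat : p'.1 * !![0, -1; 1, 0] = -(!![0, -1; 1, 0] * p'.1) := congrArg Subtype.val key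
    have h : ∀ i j, ((p'.1 * !![0, -1; 1, 0] : Matrix (Fin 2) (Fin 2) F)) i j = (-(!![0, -1; 1, 0] * p'.1) : Matrix (Fin 2) (Fin 2) F) i j := fun i j =>
      congrFun (congrFun hmat i) j
    have h00 := h 0 0
    have h10 := h 1 0
    simp [Matrix.mul_apply, Fin.sum_univ_two, Matrix.vecMul, dotProduct] at h00 h10
    refine ext2 ?_ ?_ ?_ ?_ <;> simp [Matrix.SpecialLinearGroup.coe_mul, Matrix.mul_apply, Fin.sum_univ_two]
    · linear_combination -e + (p'.1 0 0) * h10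
    · linear_combination (p'.1 0 1) * h10
    · linear_combination (p'.1 1 0) * h10
    · linear_combination -e + (p'.1 1 1) * h10
  calc p * p = P * ((P⁻¹ * p * P) * (P⁻¹ * p * P)) * P⁻¹ := by group
    _ = -1 := by rw [hpp, mul_neg, mul_one, neg_mul, mul_inv_cancel]

theorem sl_noncomm (h2 : (2 : F) ≠ 0) : ∃ p q : SL2, p * q ≠ q * p := by
  refine ⟨rot, ⟨!![1, 1; 0, 1], by simp [Matrix.det_fin_two]⟩, fun h => ?_⟩
  have hm : (!![0, -1; 1, 0] * !![1, 1; 0, 1] : Matrix (Fin 2) (Fin 2) F) =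
      !![1, 1; 0, 1] * !![0, -1; 1, 0] := congrArg Subtype.val h
  have := congrFun (congrFun hm 0) 0
  simp [rot, Matrix.SpecialLinearGroup.coe_mul, Matrix.mul_apply, Fin.sum_univ_two] at this

end SL

/-- What is used about each of the two factors: a group of type `SL₂`, odd characteristic. -/
structure Fac {G : Type*} [Group G] (L : Subgroup G) (j : G) : Prop where
  mem : j ∈ L
  invol : ∀ x ∈ L, x * x = 1 → x = 1 ∨ x = j
  comm : ∀ a ∈ L, a * a = j → ∀ p ∈ L, ∀ q ∈ L, p * a = a * p → q * a = a * q → p * q = q * p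
  anti : ∀ a ∈ L, a * a = j → ∀ p ∈ L, p * a = a * p * j → p * p = j
  conj : ∀ a ∈ L, a * a = j → ∀ b ∈ L, b * b = j → ∃ k ∈ L, k * b * k⁻¹ = a
  noncomm : ∃ p ∈ L, ∃ q ∈ L, p * q ≠ q * p

theorem fac_of_equiv {G : Type*} [Group G] {F : Type*} [Field F] [Fintype F]
    (hF : Odd (Fintype.card F)) (L : Subgroup G) (e : ↥L ≃* Matrix.SpecialLinearGroup (Fin 2) F)
    (j : G) (hj : orderOf j = 2) (hjL : j ∈ L) : Fac L j := by
  have h2 := two_ne hF
  have hj2 : j * j = 1 := by rw [← pow_two, ← hj, pow_orderOf_eq_one]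
  have hej : e ⟨j, hjL⟩ = -1 := by
    refine (sl_invol h2 ?_).resolve_left fun h => ?_
    · rw [← map_mul, ← map_one e]; exact congrArg e (Subtype.ext hj2)
    · have : j = 1 := congrArg Subtype.val (e.injective (h.trans (map_one e).symm))
      simp [this] at hj
  have hm : ∀ {a : G} (ha : a ∈ L), a * a = j → e ⟨a, ha⟩ * e ⟨a, ha⟩ = -1 := by
    intro a ha h
    rw [← map_mul, ← hej]; exact congrArg e (Subtype.ext h)
  have hc : ∀ {p a : G} (hp : p ∈ L) (ha : a ∈ L), p * a = a * p →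
      e ⟨p, hp⟩ * e ⟨a, ha⟩ = e ⟨a, ha⟩ * e ⟨p, hp⟩ := by
    intro p a hp ha h
    rw [← map_mul, ← map_mul]; exact congrArg e (Subtype.ext h)
  have back : ∀ {x : G} (hx : x ∈ L) {y : G} (hy : y ∈ L), e ⟨x, hx⟩ = e ⟨y, hy⟩ → x = y :=
    fun hx _ hy h => congrArg Subtype.val (e.injective h)
  refine ⟨hjL, fun x hx h => ?_, fun a ha h p hp q hq h1 h2' => ?_, fun a ha h p hp h1 => ?_,
    fun a ha h b hb h' => ?_, ?_⟩
  · rcases sl_invol h2 (x := e ⟨x, hx⟩) (by
      rw [← map_mul, ← map_one e]; exact congrArg e (Subtype.ext h)) with h1 | h1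
    · exact Or.inl (back hx (one_mem L) (h1.trans (map_one e).symm))
    · exact Or.inr (back hx hjL (h1.trans hej.symm))
  · exact back (mul_mem hp hq) (mul_mem hq hp) (by
      simpa only [← map_mul, MulMemClass.mk_mul_mk] using
        sl_centralizer_comm h2 (hm ha h) (hc hp ha h1) (hc hq ha h2'))
  · have he : e ⟨p, hp⟩ * e ⟨a, ha⟩ = -(e ⟨a, ha⟩ * e ⟨p, hp⟩) := by
      rw [show -(e ⟨a, ha⟩ * e ⟨p, hp⟩) = e ⟨a, ha⟩ * e ⟨p, hp⟩ * -1 by rw [mul_neg, mul_one],
        ← hej, ← map_mul, ← map_mul, ← map_mul]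
      exact congrArg e (Subtype.ext h1)
    exact back (mul_mem hp hp) hjL (by
      simpa only [← map_mul, MulMemClass.mk_mul_mk, hej] using sl_anti h2 (hm ha h) he)
  · obtain ⟨k, hk⟩ := sl_conj h2 (hm ha h) (hm hb h')
    refine ⟨(e.symm k : L), (e.symm k).2, ?_⟩
    have : e.symm k * ⟨b, hb⟩ * (e.symm k)⁻¹ = (⟨a, ha⟩ : L) := e.injective (by simpa using hk)
    exact congrArg Subtype.val this
  · obtain ⟨p, q, hpq⟩ := sl_noncomm (F := F) h2
    refine ⟨(e.symm p : L), (e.symm p).2, (e.symm q : L), (e.symm q).2, fun h => hpq ?_⟩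
    have : e.symm p * e.symm q = e.symm q * e.symm p := Subtype.ext h
    simpa using congrArg e this

section Main

variable {G : Type*} [Group G] [Finite G] {j n : G} {L₁ L₂ : Subgroup G}

/-- The situation: two commuting factors interchanged by `n`, with `n² = j`. -/
structure Swap (j n : G) (L₁ L₂ : Subgroup G) : Prop where
  f1 : Fac L₁ j
  comm : ∀ x ∈ L₁, ∀ y ∈ L₂, x * y = y * x
  inf : L₁ ⊓ L₂ = Subgroup.zpowers j
  ho : orderOf j = 2
  n2 : n * n = j
  map : ∀ y, y ∈ L₂ ↔ ∃ p ∈ L₁, n * p * n⁻¹ = y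
  jc1 : ∀ p ∈ L₁, p * j = j * p
  gen : ∀ x, x * j = j * x → ∃ p ∈ L₁, ∃ r ∈ L₁, x = p * (n * r * n⁻¹) ∨ x = p * (n * r * n⁻¹) * n

/-- The square roots of `w` that commute with `u` and `j`. -/
def roots (j u w : G) : Set G := {x | x * x = w ∧ x * u = u * x ∧ x * j = j * x}

variable (h : Swap j n L₁ L₂)
include h

theorem Swap.jj : j * j = 1 := by rw [← pow_two, ← h.ho, pow_orderOf_eq_one]

theorem Swap.jn : n * j * n⁻¹ = j := by
  rw [show n * j = j * n by rw [← h.n2, mul_assoc], mul_inv_cancel_right]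

theorem Swap.phi_mem {r : G} (hr : r ∈ L₁) : n * r * n⁻¹ ∈ L₂ := (h.map _).2 ⟨r, hr, rfl⟩

theorem Swap.cm {p r : G} (hp : p ∈ L₁) (hr : r ∈ L₁) :
    p * (n * r * n⁻¹) = n * r * n⁻¹ * p := h.comm p hp _ (h.phi_mem hr)

theorem Swap.jpow {x : G} (h1 : x ∈ L₁) (h2 : x ∈ L₂) : x = 1 ∨ x = j := by
  have : x ∈ L₁ ⊓ L₂ := ⟨h1, h2⟩
  rw [h.inf, Subgroup.mem_zpowers_iff] at this
  obtain ⟨k, rfl⟩ := this
  rw [← zpow_mod_orderOf, h.ho]
  rcases Int.emod_two_eq k with hk | hk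
  · exact Or.inl (by norm_num [hk])
  · exact Or.inr (by norm_num [hk])

/-- Uniqueness of the factors, up to `j`. -/
theorem Swap.split {p r p' r' : G} (hp : p ∈ L₁) (hr : r ∈ L₁) (hp' : p' ∈ L₁) (hr' : r' ∈ L₁)
    (e : p * (n * r * n⁻¹) = p' * (n * r' * n⁻¹)) : ∃ d, (d = 1 ∨ d = j) ∧ p' = p * d ∧ r' = r * d := by
  have e1 : p⁻¹ * p' = n * (r * r'⁻¹) * n⁻¹ :=
    calc p⁻¹ * p' = p⁻¹ * (p' * (n * r' * n⁻¹)) * (n * r'⁻¹ * n⁻¹) := by group
      _ = _ := by rw [← e]; group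
  have hd := h.jpow (mul_mem (inv_mem hp) hp') (e1 ▸ h.phi_mem (mul_mem hr (inv_mem hr')))
  refine ⟨p⁻¹ * p', hd, by group, ?_⟩
  have e2 : r * r'⁻¹ = n⁻¹ * (p⁻¹ * p') * n := by rw [e1]; group
  have e3 : n⁻¹ * (p⁻¹ * p') * n = p⁻¹ * p' := by
    rcases hd with hd | hd <;> rw [hd]
    · group
    · calc n⁻¹ * j * n = n⁻¹ * (n * j * n⁻¹) * n := by rw [h.jn]
        _ = j := by group
  rw [e3] at e2
  calc r' = (r * r'⁻¹)⁻¹ * r := by group
    _ = r * (p⁻¹ * p') := by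
      rw [e2]
      rcases hd with hd | hd <;> rw [hd]
      · simp
      · rw [inv_eq_of_mul_eq_one_right h.jj, h.jc1 r hr]

theorem Swap.mul_pairs {p r p' r' : G} (hr : r ∈ L₁) (hp' : p' ∈ L₁) :
    p * (n * r * n⁻¹) * (p' * (n * r' * n⁻¹)) = p * p' * (n * (r * r') * n⁻¹) := by
  calc _ = p * (n * r * n⁻¹ * p') * (n * r' * n⁻¹) := by simp only [mul_assoc]
    _ = _ := by rw [← h.cm hp' hr]; group

theorem Swap.move_n {p r : G} (hp : p ∈ L₁) (hr : r ∈ L₁) :
    n * (p * (n * r * n⁻¹)) = r * (n * p * n⁻¹) * n := by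
  calc n * (p * (n * r * n⁻¹)) = n * p * n⁻¹ * (n * n * r * (n * n)⁻¹) * n := by group
    _ = n * p * n⁻¹ * r * n := by
      rw [h.n2, show j * r = r * j from (h.jc1 r hr).symm, mul_inv_cancel_right]
    _ = _ := by rw [h.cm hr hp]

theorem Swap.sq_n {p r : G} (hp : p ∈ L₁) (hr : r ∈ L₁) :
    p * (n * r * n⁻¹) * n * (p * (n * r * n⁻¹) * n) = p * r * (n * (r * p) * n⁻¹) * j := by
  calc _ = p * (n * r * n⁻¹) * (n * (p * (n * r * n⁻¹))) * n := by simp only [mul_assoc]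
    _ = p * (n * r * n⁻¹) * (r * (n * p * n⁻¹)) * (n * n) := by
      rw [h.move_n hp hr]; simp only [mul_assoc]
    _ = _ := by rw [h.n2, h.mul_pairs hr hr]

theorem Swap.j_eq {p : G} (hp : p ∈ L₁) : p * (n * 1 * n⁻¹) = p := by group

theorem Swap.invol {x : G} (hx : x * x = 1) (hxj : x * j = j * x) :
    x = 1 ∨ x = j ∨ ∃ a ∈ L₁, ∃ b ∈ L₁, a * a = j ∧ b * b = j ∧ x = a * (n * b * n⁻¹) := by
  obtain ⟨p, hp, r, hr, rfl | rfl⟩ := h.gen x hxj
  · rw [h.mul_pairs hr hp] at hx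
    obtain ⟨d, hd, e1, e2⟩ := h.split (mul_mem hp hp) (mul_mem hr hr) (one_mem _) (one_mem _)
      (hx.trans (by group))
    rcases hd with hd | hd <;> subst d
    · rw [mul_one] at e1 e2
      rcases h.f1.invol p hp e1.symm with ep | ep <;> subst p <;>
        rcases h.f1.invol r hr e2.symm with er | er <;> subst r
      · exact Or.inl (by group)
      · exact Or.inr (Or.inl (by rw [one_mul, h.jn]))
      · exact Or.inr (Or.inl (by group))
      · exact Or.inl (by rw [h.jn, h.jj])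
    · have hp2 : p * p = j := by rw [eq_mul_inv_of_mul_eq e1.symm, one_mul, inv_eq_of_mul_eq_one_right h.jj]
      have hr2 : r * r = j := by rw [eq_mul_inv_of_mul_eq e2.symm, one_mul, inv_eq_of_mul_eq_one_right h.jj]
      exact Or.inr (Or.inr ⟨p, hp, r, hr, hp2, hr2, rfl⟩)
  · exfalso
    rw [h.sq_n hp hr] at hx
    obtain ⟨d, hd, e1, e2⟩ := h.split (mul_mem hp hr) (mul_mem hr hp) h.f1.mem (one_mem _)
      (by
        rw [h.j_eq h.f1.mem, eq_mul_inv_of_mul_eq hx, one_mul, inv_eq_of_mul_eq_one_right h.jj])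
    have e3 : p * r = r * p := by
      have ha : p * r = j * d⁻¹ := eq_mul_inv_of_mul_eq e1.symm
      have hb : r * p = 1 * d⁻¹ := eq_mul_inv_of_mul_eq e2.symm
      exfalso
      have : r * (p * r) * r⁻¹ = p * r := by
        rw [ha]
        rcases hd with hd | hd <;> subst d
        · rw [inv_one, mul_one, h.jc1 r hr, mul_inv_cancel_right]
        · simp
      rw [show r * (p * r) * r⁻¹ = r * p by group, ha, hb, one_mul] at this
      have hj1 : j = 1 := mul_eq_right.1 this.symm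
      exact absurd h.ho (by simp [hj1])
    rw [← e3] at e2
    have hj1 : j = 1 := e1.trans e2.symm
    exact absurd h.ho (by simp [hj1])

theorem Swap.roots_lt {u : G} (huj : u * j = j * u) (hu2 : u * u = 1) (hu1 : u ≠ 1) (hune : u ≠ j) :
    Nat.card (roots j u u) < Nat.card (roots j u j) := by
  classical
  obtain ⟨a, ha, b, hb, ha2, hb2, rfl⟩ := ((h.invol hu2 huj).resolve_left hu1).resolve_left hune
  obtain ⟨k, hk, hkb⟩ := h.f1.conj a ha ha2 b hb hb2
  have hjc : ∀ p ∈ L₁, ∀ r ∈ L₁, p * (n * r * n⁻¹) * j = j * (p * (n * r * n⁻¹)) := by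
    intro p hp r hr
    calc p * (n * r * n⁻¹) * j = p * (n * r * n⁻¹) * (n * j * n⁻¹) := by rw [h.jn]
      _ = p * (n * (r * j) * n⁻¹) := by group
      _ = p * ((n * j * n⁻¹) * (n * r * n⁻¹)) := by rw [h.jc1 r hr]; group
      _ = _ := by rw [h.jn, ← mul_assoc, h.jc1 p hp, mul_assoc]
  have hnj : n * j = j * n := by rw [← h.n2, mul_assoc]
  -- non-swapping roots
  have hns : ∀ {p r : G}, p ∈ L₁ → r ∈ L₁ →
      p * (n * r * n⁻¹) * (p * (n * r * n⁻¹)) = a * (n * b * n⁻¹) →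
      p * (n * r * n⁻¹) * (a * (n * b * n⁻¹)) = a * (n * b * n⁻¹) * (p * (n * r * n⁻¹)) →
      p * a = a * p ∧ r * b = b * r ∧ (r * r) * (r * r) = j := by
    intro p r hp hr h2 hc
    rw [h.mul_pairs hr ha, h.mul_pairs hb hp] at hc
    obtain ⟨d, hd, e1, e2⟩ := h.split (mul_mem hp ha) (mul_mem hr hb) (mul_mem ha hp) (mul_mem hb hr) hc
    rw [h.mul_pairs hr hp] at h2
    obtain ⟨d', hd', e1', e2'⟩ := h.split (mul_mem hp hp) (mul_mem hr hr) ha hb h2
    rcases hd with hd | hd <;> subst d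
    · refine ⟨by simpa using e1.symm, by simpa using e2.symm, ?_⟩
      rcases hd' with hd' | hd' <;> subst d'
      · rw [mul_one] at e2'; rw [← e2', hb2]
      · calc r * r * (r * r) = r * r * j * (r * r * j) := by
              rw [mul_assoc (r * r) j, ← mul_assoc j, ← h.jc1 _ (mul_mem hr hr), mul_assoc (r * r) j j, h.jj, mul_one]
          _ = j := by rw [← e2', hb2]
    · exfalso
      have hp2 : p * p = j := h.f1.anti a ha ha2 p hp (by rw [e1, mul_assoc, h.jj, mul_one])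
      rcases hd' with hd' | hd' <;> subst d'
      · rw [mul_one] at e1'; rw [e1', hp2, h.jj] at ha2
        exact absurd h.ho (by simp [← ha2])
      · rw [hp2, h.jj] at e1'; rw [e1', mul_one] at ha2
        exact absurd h.ho (by simp [← ha2])
  -- swapping roots
  have hsw : ∀ {p r : G}, p ∈ L₁ → r ∈ L₁ →
      p * (n * r * n⁻¹) * n * (p * (n * r * n⁻¹) * n) = a * (n * b * n⁻¹) →
      p * (n * r * n⁻¹) * n * (a * (n * b * n⁻¹)) = a * (n * b * n⁻¹) * (p * (n * r * n⁻¹) * n) →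
      p * b = a * p * j ∧ a * (p * (n * r * n⁻¹) * n) ∈ roots j (a * (n * b * n⁻¹)) j := by
    intro p r hp hr h2 hc
    have hc0 := hc
    rw [mul_assoc (p * _) n, h.move_n ha hb, ← mul_assoc (p * _), h.mul_pairs hr hb,
      ← mul_assoc (a * _) (p * _) n, h.mul_pairs hb hp] at hc
    obtain ⟨d, hd, e1, e2⟩ := h.split (mul_mem hp hb) (mul_mem hr ha) (mul_mem ha hp) (mul_mem hb hr)
      (mul_right_cancel hc)
    rw [h.sq_n hp hr] at h2
    have h2' : p * r * (n * (r * p) * n⁻¹) = a * j * (n * b * n⁻¹) :=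
      calc p * r * (n * (r * p) * n⁻¹) = p * r * (n * (r * p) * n⁻¹) * j * j := by
            rw [mul_assoc _ j j, h.jj, mul_one]
        _ = a * ((n * b * n⁻¹) * j) := by rw [h2, mul_assoc]
        _ = _ := by
          rw [show n * b * n⁻¹ * j = j * (n * b * n⁻¹) by
            simpa using hjc 1 (one_mem _) b hb, ← mul_assoc]
    obtain ⟨d', hd', e1', e2'⟩ := h.split (mul_mem hp hr) (mul_mem hr hp) (mul_mem ha h.f1.mem) hb h2'
    have hdd : ∀ {d : G}, d = 1 ∨ d = j → d⁻¹ = d ∧ ∀ q ∈ L₁, d * q = q * d := by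
      rintro d (hd | hd) <;> subst d
      · exact ⟨inv_one, by simp⟩
      · exact ⟨inv_eq_of_mul_eq_one_right h.jj, fun q hq => (h.jc1 q hq).symm⟩
    obtain ⟨di, dc⟩ := hdd hd
    obtain ⟨di', dc'⟩ := hdd hd'
    have epr : p * r = a * j * d' := by rw [eq_mul_inv_of_mul_eq e1'.symm, di']
    have erp : r * p = b * d' := by rw [eq_mul_inv_of_mul_eq e2'.symm, di']
    have era : r * a = b * r * d := by rw [eq_mul_inv_of_mul_eq e2.symm, di]
    have epb : p * b = a * p * d := by rw [eq_mul_inv_of_mul_eq e1.symm, di]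
    have hdj : d = j := by
      have t1 : r * (p * r) = r * a * j * d' := by rw [epr]; simp only [mul_assoc]
      rw [← mul_assoc, erp, era] at t1
      have t2 : b * r * d' = b * r * (d * j * d') := by
        rw [← mul_assoc (b * r), ← mul_assoc (b * r), ← t1, mul_assoc b d' r, dc' r hr, mul_assoc]
      have t3 : d * j = 1 := mul_eq_right.1 (mul_left_cancel t2).symm
      rw [eq_inv_of_mul_eq_one_left t3, inv_eq_of_mul_eq_one_right h.jj]
    subst d
    refine ⟨epb, ?_, ?_, ?_⟩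
    · rw [show a * (p * (n * r * n⁻¹) * n) = a * p * (n * r * n⁻¹) * n by group,
        h.sq_n (mul_mem ha hp) hr]
      have u1 : a * p * r = d' := by
        calc a * p * r = a * (p * r) := mul_assoc _ _ _
          _ = a * a * j * d' := by rw [epr]; simp only [mul_assoc]
          _ = d' := by rw [ha2, h.jj, one_mul]
      have u2 : r * (a * p) = d' := by
        calc r * (a * p) = b * r * j * p := by rw [← mul_assoc, era]
          _ = b * (r * p) * j := by rw [mul_assoc (b * r) j p, dc p hp]; simp only [mul_assoc]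
          _ = b * b * d' * j := by rw [erp]; simp only [mul_assoc]
          _ = d' := by rw [hb2, mul_assoc, ← dc d' (by
              rcases hd' with e | e <;> subst e <;> first | exact one_mem _ | exact h.f1.mem),
              ← mul_assoc, h.jj, one_mul]
      rw [u1, u2]
      rcases hd' with hd' | hd' <;> rw [hd']
      · group
      · rw [h.jn, h.jj, one_mul]
    · have hau : a * (a * (n * b * n⁻¹)) = a * (n * b * n⁻¹) * a := by rw [mul_assoc a, h.cm ha hb]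
      calc a * (p * (n * r * n⁻¹) * n) * (a * (n * b * n⁻¹))
          = a * (a * (n * b * n⁻¹) * (p * (n * r * n⁻¹) * n)) := by rw [mul_assoc, hc0]
        _ = _ := by rw [← mul_assoc, hau, mul_assoc]
    · calc a * (p * (n * r * n⁻¹) * n) * j = a * (p * (n * r * n⁻¹) * j * n) := by
            simp only [mul_assoc, hnj]
        _ = j * (a * (p * (n * r * n⁻¹) * n)) := by
            rw [hjc p hp r hr, mul_assoc j, ← mul_assoc a j, h.jc1 a ha, mul_assoc j]
  let isM : G → Prop := fun x => ∃ p ∈ L₁, ∃ r ∈ L₁, x = p * (n * r * n⁻¹)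
  have hnM : ∀ {p r : G}, p ∈ L₁ → r ∈ L₁ → ¬ isM (p * (n * r * n⁻¹) * n) := by
    rintro p r hp hr ⟨p', hp', r', hr', e⟩
    obtain ⟨q1, hq1, q2, hq2, hq⟩ := h.f1.noncomm
    -- `n` would normalise `L₁`
    have hN : ∀ q ∈ L₁, n * q * n⁻¹ ∈ L₁ := by
      intro q hq
      have e' : n = (p⁻¹ * p') * (n * (r⁻¹ * r') * n⁻¹) := by
        calc n = (p⁻¹ * (n * r⁻¹ * n⁻¹)) * (p * (n * r * n⁻¹) * n) := by
              rw [← mul_assoc, h.mul_pairs (inv_mem hr) hp]; group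
          _ = _ := by rw [e, h.mul_pairs (inv_mem hr) hp']
      have hm := h.phi_mem (mul_mem (inv_mem hr) hr')
      rw [e', show (p⁻¹ * p') * (n * (r⁻¹ * r') * n⁻¹) * q * ((p⁻¹ * p') * (n * (r⁻¹ * r') * n⁻¹))⁻¹ =
        (p⁻¹ * p') * ((n * (r⁻¹ * r') * n⁻¹) * q * (n * (r⁻¹ * r') * n⁻¹)⁻¹) * (p⁻¹ * p')⁻¹ by group,
        ← h.comm q hq _ hm, mul_inv_cancel_right]
      exact mul_mem (mul_mem (mul_mem (inv_mem hp) hp') hq) (inv_mem (mul_mem (inv_mem hp) hp'))
    rcases h.jpow (hN q1 hq1) (h.phi_mem hq1) with e1 | e1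
    · rw [conj_eq_one_iff] at e1; subst e1; exact hq (by simp)
    · have : q1 = j := mul_left_cancel (a := n) (mul_right_cancel (b := n⁻¹) (e1.trans h.jn.symm))
      subst q1; exact hq (h.jc1 q2 hq2).symm
  obtain ⟨e, he⟩ : ∃ e : G, ∀ x ∈ roots j (a * (n * b * n⁻¹)) (a * (n * b * n⁻¹)), isM x →
      x * e ∈ roots j (a * (n * b * n⁻¹)) j ∧ isM (x * e) := by
    by_cases hex : ∃ x, x ∈ roots j (a * (n * b * n⁻¹)) (a * (n * b * n⁻¹)) ∧ isM x
    swap
    · exact ⟨1, fun x hx hM => absurd ⟨x, hx, hM⟩ hex⟩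
    obtain ⟨_, hx0, p0, hp0, r0, hr0, rfl⟩ := hex
    refine ⟨p0 * (n * r0⁻¹ * n⁻¹), fun x hx hM => ?_⟩
    obtain ⟨p, hp, r, hr, rfl⟩ := hM
    obtain ⟨c1, c2, c3⟩ := hns hp hr hx.1 hx.2.1
    obtain ⟨d1, d2, d3⟩ := hns hp0 hr0 hx0.1 hx0.2.1
    have cpp := h.f1.comm a ha ha2 p hp p0 hp0 c1 d1
    have crr := h.f1.comm b hb hb2 r hr r0 hr0 c2 d2
    rw [h.mul_pairs hr hp0]
    refine ⟨⟨?_, ?_, hjc _ (mul_mem hp hp0) _ (mul_mem hr (inv_mem hr0))⟩,
      ⟨_, mul_mem hp hp0, _, mul_mem hr (inv_mem hr0), rfl⟩⟩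
    · rw [h.mul_pairs (mul_mem hr (inv_mem hr0)) (mul_mem hp hp0)]
      have hrr : r * r0⁻¹ = r0⁻¹ * r := (Commute.inv_right crr).eq
      have hh : r0 * r0 * (r0 * r0) = j := d3
      have e1 : p * p0 * (p * p0) = p * p * (p0 * p0) := by
        rw [mul_assoc p p0, ← mul_assoc p0, ← cpp]; simp only [mul_assoc]
      have e2 : r * r0⁻¹ * (r * r0⁻¹) = r * r * (r0 * r0) * (r0 * r0 * (r0 * r0))⁻¹ := by
        rw [mul_assoc r r0⁻¹, ← mul_assoc r0⁻¹, ← hrr]; group
      rw [e1, e2, hh, show n * (r * r * (r0 * r0) * j⁻¹) * n⁻¹ =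
        n * (r * r * (r0 * r0)) * n⁻¹ * (n * j * n⁻¹)⁻¹ by group, h.jn,
        ← mul_assoc, ← h.mul_pairs (mul_mem hr hr) (mul_mem hp0 hp0), ← h.mul_pairs hr hp,
        ← h.mul_pairs hr0 hp0, hx.1, hx0.1, hu2, one_mul, inv_eq_of_mul_eq_one_right h.jj]
    · rw [h.mul_pairs (mul_mem hr (inv_mem hr0)) ha, h.mul_pairs hb (mul_mem hp hp0)]
      rw [((Commute.mul_left c1 d1 : Commute (p * p0) a)).eq,
        ((Commute.mul_left c2 (Commute.inv_left d2) : Commute (r * r0⁻¹) b)).eq]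
  let f : G → G := fun x => if isM x then x * e else a * x
  have hmap : ∀ x ∈ roots j (a * (n * b * n⁻¹)) (a * (n * b * n⁻¹)),
      f x ∈ roots j (a * (n * b * n⁻¹)) j ∧
      ((isM x ∧ isM (f x)) ∨ ∃ p ∈ L₁, ∃ r ∈ L₁, x = p * (n * r * n⁻¹) * n ∧ p * b = a * p * j) := by
    intro x hx
    by_cases hM : isM x
    · simp only [f, if_pos hM]
      exact ⟨(he x hx hM).1, Or.inl ⟨hM, (he x hx hM).2⟩⟩
    · simp only [f, if_neg hM]
      obtain ⟨p, hp, r, hr, hpr⟩ := h.gen x hx.2.2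
      rcases hpr with rfl | rfl
      · exact absurd ⟨p, hp, r, hr, rfl⟩ hM
      · obtain ⟨c1, c2⟩ := hsw hp hr hx.1 hx.2.1
        exact ⟨c2, Or.inr ⟨p, hp, r, hr, rfl, c1⟩⟩
  -- the extra root
  have hx1 : k * (n * k⁻¹ * n⁻¹) * n ∈ roots j (a * (n * b * n⁻¹)) j := by
    refine ⟨?_, ?_, ?_⟩
    · rw [h.sq_n hk (inv_mem hk)]; group
    · rw [mul_assoc (k * _) n, h.move_n ha hb, ← mul_assoc (k * _), h.mul_pairs (inv_mem hk) hb,
        ← mul_assoc (a * _) (k * _) n, h.mul_pairs hb hk, ← hkb]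
      group
    · rw [mul_assoc (k * _) n, hnj, ← mul_assoc, hjc k hk _ (inv_mem hk), mul_assoc]
  have hne : ∀ x ∈ roots j (a * (n * b * n⁻¹)) (a * (n * b * n⁻¹)), f x ≠ k * (n * k⁻¹ * n⁻¹) * n := by
    intro x hx e'
    rcases (hmap x hx).2 with ⟨-, hM⟩ | ⟨p, hp, r, hr, rfl, hpb⟩
    · exact hnM hk (inv_mem hk) (e' ▸ hM)
    · simp only [f, if_neg (hnM hp hr)] at e'
      rw [show a * (p * (n * r * n⁻¹) * n) = a * p * (n * r * n⁻¹) * n by group] at e'
      obtain ⟨d, hd, e1, -⟩ := h.split (mul_mem ha hp) hr hk (inv_mem hk) (mul_right_cancel e')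
      subst k
      rw [mul_inv_eq_iff_eq_mul] at hkb
      have hdc : d * b = b * d := by
        rcases hd with hd | hd <;> subst d
        · simp
        · exact (h.jc1 b hb).symm
      have hh := hkb
      rw [mul_assoc (a * p) d b, hdc, ← mul_assoc, mul_assoc a p b, hpb] at hh
      simp only [mul_assoc] at hh
      have hh' := mul_left_cancel (mul_left_cancel (mul_left_cancel hh))
      have hj1 : j = 1 := mul_eq_right.1 hh'
      exact absurd h.ho (by simp [hj1])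
  have hinj : Set.InjOn f (roots j (a * (n * b * n⁻¹)) (a * (n * b * n⁻¹))) := by
    intro x hx y hy e'
    rcases (hmap x hx).2 with ⟨hxM, hxM'⟩ | ⟨p, hp, r, hr, rfl, -⟩ <;>
      rcases (hmap y hy).2 with ⟨hyM, hyM'⟩ | ⟨p', hp', r', hr', rfl, -⟩
    · simp only [f, if_pos hxM, if_pos hyM] at e'; exact mul_right_cancel e'
    · exfalso
      rw [show f (p' * (n * r' * n⁻¹) * n) = a * p' * (n * r' * n⁻¹) * n by
        simp only [f, if_neg (hnM hp' hr')]; group] at e'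
      exact hnM (mul_mem ha hp') hr' (e' ▸ hxM')
    · exfalso
      rw [show f (p * (n * r * n⁻¹) * n) = a * p * (n * r * n⁻¹) * n by
        simp only [f, if_neg (hnM hp hr)]; group] at e'
      exact hnM (mul_mem ha hp) hr (e'.symm ▸ hyM')
    · simp only [f, if_neg (hnM hp hr), if_neg (hnM hp' hr')] at e'
      exact mul_left_cancel e'
  rw [Nat.card_coe_set_eq, Nat.card_coe_set_eq, ← hinj.ncard_image]
  refine Set.ncard_lt_ncard ⟨?_, fun hs => ?_⟩ (Set.toFinite _)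
  · rintro _ ⟨x, hx, rfl⟩; exact (hmap x hx).1
  · obtain ⟨x, hx, hfx⟩ := hs hx1
    exact hne x hx hfx

theorem Swap.isolated (g : G) (hg : g * j * g⁻¹ * j = j * (g * j * g⁻¹)) : g * j * g⁻¹ = j := by
  by_contra hne
  have hne' : g⁻¹ * j * g ≠ j := fun e => hne (by
    calc g * j * g⁻¹ = g * (g⁻¹ * j * g) * g⁻¹ := by rw [e]
      _ = j := by group)
  have hj1 : j ≠ 1 := fun e => absurd h.ho (by simp [e])
  have hu2 : g * j * g⁻¹ * (g * j * g⁻¹) = 1 := by rw [conj_mul, h.jj]; group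
  have hv2 : g⁻¹ * j * g * (g⁻¹ * j * g) = 1 := by
    rw [show g⁻¹ * j * g * (g⁻¹ * j * g) = g⁻¹ * (j * j) * g by group, h.jj]; group
  have hvj : g⁻¹ * j * g * j = j * (g⁻¹ * j * g) := by
    have := congrArg (fun y => g⁻¹ * y * g) hg.symm
    simpa [mul_assoc] using this
  have h1 := h.roots_lt hg hu2 (fun e => hj1 (conj_eq_one_iff.1 e)) hne
  have h2 := h.roots_lt hvj hv2 (fun e => hj1 (by
    rw [show g⁻¹ * j * g = g⁻¹ * j * g⁻¹⁻¹ by rw [inv_inv]] at e
    exact conj_eq_one_iff.1 e)) hne'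
  -- conjugation by `g` takes `(v, j)` to `(j, g j g⁻¹)`
  set v := g⁻¹ * j * g with hv
  have key : ∀ w w' : G, g * w * g⁻¹ = w' →
      Nat.card (roots j v w) = Nat.card (roots j (g * j * g⁻¹) w') := by
    intro w w' hw
    refine Nat.card_congr ((MulAut.conj g).toEquiv.subtypeEquiv fun x => ?_)
    have hgv : g * v * g⁻¹ = j := by rw [hv]; group
    simp only [roots, Set.mem_setOf_eq, MulEquiv.toEquiv_eq_coe, EquivLike.coe_coe, MulAut.conj_apply]
    constructor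
    · rintro ⟨a1, a2, a3⟩
      refine ⟨by rw [conj_mul, a1, hw], ?_, ?_⟩
      · rw [conj_mul, a3, ← conj_mul]
      · rw [← hgv, conj_mul, a2, ← conj_mul]
    · rintro ⟨a1, a2, a3⟩
      rw [conj_mul, ← hw] at a1
      rw [conj_mul, conj_mul] at a2
      rw [← hgv, conj_mul, conj_mul] at a3
      exact ⟨mul_left_cancel (mul_right_cancel a1), mul_left_cancel (mul_right_cancel a3),
        mul_left_cancel (mul_right_cancel a2)⟩
  have k1 := key v j (by rw [hv]; group)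
  have k2 := key j (g * j * g⁻¹) rfl
  omega

end Main

/-- Let G be a finite group with subgroups L₁ ≅ SL₂(q₁) and L₂ ≅ SL₂(q₂), q₁ and q₂ odd prime powers, which commute elementwise and meet in ⟨j⟩ for an involution j, and suppose L₁L₂ has index 2 in C_G(j). If some n ∈ C_G(j) with n² = j interchanges L₁ and L₂ under conjugation (so that C_G(j) = L₁L₂⟨n⟩), then G = C_G(j)O(G). -/
theorem result {G : Type*} [Group G] [Finite G]
    {F₁ : Type*} [Field F₁] [Fintype F₁] {F₂ : Type*} [Field F₂] [Fintype F₂]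
    (hF₁ : Odd (Fintype.card F₁)) (hF₂ : Odd (Fintype.card F₂)) (L₁ L₂ : Subgroup G)
    (e₁ : ↥L₁ ≃* Matrix.SpecialLinearGroup (Fin 2) F₁) (e₂ : ↥L₂ ≃* Matrix.SpecialLinearGroup (Fin 2) F₂)
    (hc : ∀ x ∈ L₁, ∀ y ∈ L₂, x * y = y * x) (j : G) (hj : orderOf j = 2) (hm : L₁ ⊓ L₂ = Subgroup.zpowers j)
    (hle : L₁ ⊔ L₂ ≤ Subgroup.centralizer ({j} : Set G)) (hi : (L₁ ⊔ L₂).relIndex (Subgroup.centralizer ({j} : Set G)) = 2) (n : G) (hn : n ∈ Subgroup.centralizer ({j} : Set G))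
    (hn2 : n ^ 2 = j) (hswap : L₁.map (MulAut.conj n).toMonoidHom = L₂) :
    Subgroup.centralizer ({j} : Set G) ⊔ Cfsg.oddCore G = ⊤ := by
  have hjj : j * j = 1 := by rw [← pow_two, ← hj, pow_orderOf_eq_one]
  have hjL1 : j ∈ L₁ := (hm.ge (Subgroup.mem_zpowers j)).1
  have hF := fac_of_equiv hF₁ L₁ e₁ j hj hjL1
  have hn2' : n * n = j := by rw [← pow_two]; exact hn2
  have hjC : ∀ x ∈ L₁ ⊔ L₂, x * j = j * x := fun x hx =>
    Subgroup.mem_centralizer_singleton_iff.1 (hle hx)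
  have hmap : ∀ y, y ∈ L₂ ↔ ∃ p ∈ L₁, n * p * n⁻¹ = y := by
    intro y
    rw [← hswap]
    exact Subgroup.mem_map
  have hgen0 : ∀ x ∈ L₁ ⊔ L₂, ∃ p ∈ L₁, ∃ r ∈ L₁, x = p * (n * r * n⁻¹) := by
    intro x hx
    have hcc : L₂ ≤ Subgroup.normalizer (L₁ : Set G) := fun y hy =>
      Subgroup.centralizer_le_normalizer _ (Subgroup.mem_centralizer_iff.2 fun p hp => hc p hp y hy)
    obtain ⟨p, hp, y, hy, rfl⟩ : x ∈ (L₁ : Set G) * (L₂ : Set G) := by
      rw [← Subgroup.coe_mul_of_right_le_normalizer_left L₁ L₂ hcc]; exact hx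
    obtain ⟨r, hr, rfl⟩ := (hmap y).1 hy
    exact ⟨p, hp, r, hr, rfl⟩
  have hnM : n ∉ L₁ ⊔ L₂ := by
    intro hnM
    obtain ⟨q1, hq1, q2, hq2, hq⟩ := hF.noncomm
    have hN : L₁ ⊔ L₂ ≤ Subgroup.normalizer (L₁ : Set G) := sup_le Subgroup.le_normalizer fun y hy =>
      Subgroup.centralizer_le_normalizer _ (Subgroup.mem_centralizer_iff.2 fun p hp => hc p hp y hy)
    have h1 : n * q1 * n⁻¹ ∈ L₁ := (Subgroup.mem_normalizer_iff.1 (hN hnM) q1).1 hq1
    have h2 : n * q1 * n⁻¹ ∈ L₁ ⊓ L₂ := ⟨h1, (hmap _).2 ⟨q1, hq1, rfl⟩⟩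
    rw [hm, Subgroup.mem_zpowers_iff] at h2
    obtain ⟨i, hi⟩ := h2
    have hq1j : q1 = n⁻¹ * j ^ i * n := by rw [hi]; group
    have hnj : Commute n (j ^ i) := by
      refine Commute.zpow_right ?_ i
      exact (Subgroup.mem_centralizer_singleton_iff.1 hn)
    have : q1 = j ^ i := by rw [hq1j, mul_assoc, ← hnj.eq, inv_mul_cancel_left]
    exact hq (this ▸ ((Commute.zpow_left (hjC q2 (Subgroup.mem_sup_left hq2)).symm i) :
      Commute (j ^ i) q2).eq)
  have hS : Swap j n L₁ L₂ := by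
    refine ⟨hF, hc, hm, hj, hn2', hmap, fun p hp => hjC p (Subgroup.mem_sup_left hp), fun x hx => ?_⟩
    set C := Subgroup.centralizer ({j} : Set G)
    have hxC : x ∈ C := Subgroup.mem_centralizer_singleton_iff.2 hx
    have key := Subgroup.mul_mem_iff_of_index_two (H := (L₁ ⊔ L₂).subgroupOf C) hi
      (a := ⟨x, hxC⟩) (b := ⟨n⁻¹, inv_mem hn⟩)
    simp only [Subgroup.mem_subgroupOf, Subgroup.coe_mul, inv_mem_iff] at key
    by_cases hxM : x ∈ L₁ ⊔ L₂
    · obtain ⟨p, hp, r, hr, e⟩ := hgen0 x hxM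
      exact ⟨p, hp, r, hr, Or.inl e⟩
    · obtain ⟨p, hp, r, hr, e⟩ := hgen0 _ (key.2 (iff_of_false hxM hnM))
      exact ⟨p, hp, r, hr, Or.inr (by rw [← e, inv_mul_cancel_right])⟩
  haveI : Fact (Nat.Prime 2) := ⟨Nat.prime_two⟩
  have hj2 : IsPGroup 2 ↥(Subgroup.zpowers j) :=
    IsPGroup.of_card (n := 1) (by rw [Nat.card_zpowers, hj, pow_one])
  obtain ⟨P, hP⟩ := hj2.exists_le_sylow
  have hjP : j ∈ (P : Subgroup G) := hP (Subgroup.mem_zpowers j)
  haveI : Group.IsNilpotent (P : Subgroup G) := P.2.isNilpotent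
  set C := Subgroup.centralizer ({j} : Set G) with hCdef
  have hPC : (P : Subgroup G) ≤ C := by
    by_contra hcon
    have hlt : C.subgroupOf (P : Subgroup G) < ⊤ := lt_top_iff_ne_top.2 fun e =>
      hcon (Subgroup.subgroupOf_eq_top.1 e)
    obtain ⟨s, hsN, hs⟩ := SetLike.exists_of_lt (Group.normalizerCondition_of_isNilpotent _ hlt)
    have hjm : (⟨j, hjP⟩ : (P : Subgroup G)) ∈ C.subgroupOf (P : Subgroup G) :=
      Subgroup.mem_subgroupOf.2 (Subgroup.mem_centralizer_singleton_iff.2 rfl)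
    have hcj : (s : G) * j * (s : G)⁻¹ ∈ C :=
      Subgroup.mem_subgroupOf.1 ((Subgroup.mem_normalizer_iff.1 hsN _).1 hjm)
    have := hS.isolated (s : G) (Subgroup.mem_centralizer_singleton_iff.1 hcj)
    exact hs (Subgroup.mem_subgroupOf.2 (Subgroup.mem_centralizer_singleton_iff.2
      (mul_inv_eq_iff_eq_mul.1 this)))
  obtain ⟨N, hN, hNo, hNc⟩ := Cfsg.Agent.Lib.ZStar.UniqueCase.zstar P j hj hjP fun g hg =>
    hS.isolated g (Subgroup.mem_centralizer_singleton_iff.1 (hPC hg))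
  haveI := hN
  refine eq_top_iff.2 fun g _ => ?_
  set m := j * g * j⁻¹ * g⁻¹ with hm'
  have hji : j⁻¹ = j := inv_eq_of_mul_eq_one_right hjj
  have hgm : g * j * g⁻¹ = j * m := by
    rw [hm', hji, show j * (j * g * j * g⁻¹) = (j * j) * g * j * g⁻¹ by group, hjj, one_mul]
  have hinv : j * m * j = m⁻¹ := eq_inv_of_mul_eq_one_left (by
    rw [mul_assoc (j * m) j m, ← hgm, conj_mul, hjj]; group)
  have hmo : Odd (orderOf m) := by
    rw [← Subgroup.orderOf_mk m (hNc g)]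
    exact hNo.of_dvd_nat (orderOf_dvd_natCard _)
  obtain ⟨i, hi'⟩ := hmo
  set s := m ^ (i + 1) with hs
  have hs2 : s * s = m := by
    rw [hs, ← pow_add, show i + 1 + (i + 1) = 2 * i + 1 + 1 by ring, pow_succ, ← hi',
      pow_orderOf_eq_one, one_mul]
  have hsN : s ∈ N := pow_mem (hNc g) _
  have hsinv : j * s * j = s⁻¹ := by
    have := conj_pow (a := j) (b := m) (i := i + 1)
    rw [hji, hinv, inv_pow] at this
    rw [hs]; exact this.symm
  have hconj : s⁻¹ * j * s = g * j * g⁻¹ := by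
    rw [hgm, ← hs2, ← hsinv, mul_assoc (j * s) j j, hjj, mul_one, mul_assoc]
  have hC : s * g ∈ C := Subgroup.mem_centralizer_singleton_iff.2 (by
    calc s * g * j = s * (g * j * g⁻¹) * g := by group
      _ = j * (s * g) := by rw [← hconj]; group)
  rw [show g = s⁻¹ * (s * g) by group]
  exact mul_mem (Subgroup.mem_sup_right (Cfsg.Agent.Lib.Cores.le_oddCore hNo (inv_mem hsN)))
    (Subgroup.mem_sup_left hC)

end Cfsg.Agent.S3211
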