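import Mathlib
import Cfsg.Statements.S3213
-- import your own Cfsg.Agent.* helpers here

set_option autoImplicit false
open Cfsg

namespace Cfsg.Agent.S3213

/-- An element of order 3 of SL(2,5) is inverted by a square root of -1. -/
theorem exists_inverting {K : Type*} [Field K] [Fintype K] (hK : Fintype.card K = 5)
    (x : Matrix.SpecialLinearGroup (Fin 2) K) (hx : orderOf x = 3) :
    ∃ y : Matrix.SpecialLinearGroup (Fin 2) K, y * x = x * x * y ∧ y * y = -1 := by
  classical
  let e : ZMod 5 ≃+* K := ZMod.ringEquivOfPrime K (by norm_num) hK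
  have key : ∀ a b c : ZMod 5, a * (-1 - a) - b * c = 1 →
      ∃ u v w : ZMod 5, u * (2 * a + 1) + v * c + w * b = 0 ∧ -(u * u) - v * w = 1 := by
    decide
  have h3 : x * x * x = 1 := by rw [← pow_three', ← hx, pow_orderOf_eq_one]
  have h1 : x ≠ 1 := fun h => by simp [h] at hx
  have hdet : x.1 0 0 * x.1 1 1 - x.1 0 1 * x.1 1 0 = 1 := by
    have := x.2; rwa [Matrix.det_fin_two] at this
  have hm : x.1 * x.1 * x.1 = 1 := by
    have h := congrArg (fun z : Matrix.SpecialLinearGroup (Fin 2) K => z.1) h3
    simpa using h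
  have h00 := congrFun (congrFun hm 0) 0
  have h01 := congrFun (congrFun hm 0) 1
  have h10 := congrFun (congrFun hm 1) 0
  have h11 := congrFun (congrFun hm 1) 1
  simp [Matrix.mul_apply, Fin.sum_univ_two] at h00 h01 h10 h11
  have htr : x.1 0 0 + x.1 1 1 = -1 := by
    set a := x.1 0 0
    set b := x.1 0 1
    set c := x.1 1 0
    set d := x.1 1 1
    by_cases hT : (a + d) ^ 2 = 1
    · have ha : ((a + d) ^ 2 - 1) * a = 1 + (a + d) := by
        linear_combination h00 + (2 * a + d) * hdet
      rw [hT] at ha
      linear_combination -ha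
    · exfalso
      have hne : (a + d) ^ 2 - 1 ≠ 0 := sub_ne_zero.2 hT
      have hb : b = 0 := by
        have : ((a + d) ^ 2 - 1) * b = 0 := by linear_combination h01 + b * hdet
        exact (mul_eq_zero.1 this).resolve_left hne
      have hc : c = 0 := by
        have : ((a + d) ^ 2 - 1) * c = 0 := by linear_combination h10 + c * hdet
        exact (mul_eq_zero.1 this).resolve_left hne
      have had : a = d := by
        have h : ((a + d) ^ 2 - 1) * (a - d) = 0 := by
          linear_combination h00 - h11 + (a - d) * hdet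
        exact sub_eq_zero.1 ((mul_eq_zero.1 h).resolve_left hne)
      rw [hb, ← had] at hdet
      rw [hb] at h00
      have hda : a * a = 1 := by linear_combination hdet
      have ha : a = 1 := by linear_combination h00 - a * hda
      apply h1
      ext i j
      fin_cases i <;> fin_cases j
      · exact ha
      · exact hb
      · exact hc
      · show x.1 1 1 = 1
        exact had.symm.trans ha
  obtain ⟨u, v, w, hl, hq⟩ := key (e.symm (x.1 0 0)) (e.symm (x.1 0 1)) (e.symm (x.1 1 0)) (by
    apply e.injective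
    simp only [map_sub, map_mul, map_neg, map_one, RingEquiv.apply_symm_apply]
    linear_combination hdet - x.1 0 0 * htr)
  have hl' : e u * (2 * x.1 0 0 + 1) + e v * x.1 1 0 + e w * x.1 0 1 = 0 := by
    have := congrArg e hl
    simpa [map_ofNat] using this
  have hq' : -(e u * e u) - e v * e w = 1 := by
    have := congrArg e hq
    simpa using this
  refine ⟨⟨!![e u, e v; e w, -e u], ?_⟩, ?_, ?_⟩
  · rw [Matrix.det_fin_two_of]; linear_combination hq'
  · have hinv : x * x = x⁻¹ := eq_inv_of_mul_eq_one_left h3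
    rw [hinv]
    apply Subtype.ext
    show !![e u, e v; e w, -e u] * x.1 = (x⁻¹).1 * !![e u, e v; e w, -e u]
    rw [Matrix.SpecialLinearGroup.coe_inv, Matrix.adjugate_fin_two]
    ext i j
    fin_cases i <;> fin_cases j <;> simp [Matrix.mul_apply, Fin.sum_univ_two]
    · linear_combination hl' - e u * htr
    · ring
    · ring
    · linear_combination hl' - e u * htr
  · apply Subtype.ext
    rw [Matrix.SpecialLinearGroup.coe_neg, Matrix.SpecialLinearGroup.coe_one]
    show !![e u, e v; e w, -e u] * !![e u, e v; e w, -e u] = -1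
    ext i j
    fin_cases i <;> fin_cases j <;> simp [Matrix.mul_apply, Fin.sum_univ_two] <;>
      first | ring1 | linear_combination -hq'

/-- A space of dimension at most 3 over the field with 3 elements has no automorphism of order 5. -/
theorem eq_one_of_pow_five {F : Type*} [Field F] [Fintype F] (hF : Fintype.card F = 3)
    {U : Type*} [AddCommGroup U] [Module F U] [FiniteDimensional F U]
    (hU : Module.finrank F U ≤ 3) (c : U →ₗ[F] U) (hc : c ^ 5 = 1) : c = 1 := by
  classical
  let e := LinearMap.toMatrixAlgEquiv (Module.finBasis F U)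
  have hA : (e c) ^ 5 = 1 := by rw [← map_pow, hc, map_one]
  obtain ⟨g, hg⟩ : IsUnit (e c) := IsUnit.of_pow_eq_one hA (by norm_num)
  have hg5 : g ^ 5 = 1 := Units.ext (by simp [hg, hA])
  have hcop : Nat.Coprime 5 (Nat.card (Matrix.GeneralLinearGroup (Fin (Module.finrank F U)) F)) := by
    rw [Matrix.card_GL_field, hF]
    generalize Module.finrank F U = k at hU ⊢
    interval_cases k <;> simp [Fin.prod_univ_succ] <;> decide
  have h1 : orderOf g = 1 :=
    Nat.eq_one_of_dvd_coprimes hcop (orderOf_dvd_of_pow_eq_one hg5) (orderOf_dvd_natCard g)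
  rw [orderOf_eq_one_iff] at h1
  apply e.injective
  rw [← hg, h1, map_one]
  rfl

/-- A subspace stable under a square root of -1 over the field with 3 elements has even dimension. -/
theorem even_finrank {F : Type*} [Field F] [Fintype F] (hF : Fintype.card F = 3)
    {V : Type*} [AddCommGroup V] [Module F V] [FiniteDimensional F V]
    (Y : V →ₗ[F] V) (hY : ∀ v, Y (Y v) = -v) (I : Submodule F V) (hI : ∀ v ∈ I, Y v ∈ I) :
    Even (Module.finrank F I) := by
  by_contra h
  rw [Nat.not_even_iff_odd] at h
  let g : I →ₗ[F] I := Y.restrict hI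
  have hg : g ∘ₗ g = (-1 : F) • LinearMap.id := by
    ext v
    simp [g, LinearMap.restrict_apply, hY]
  have hd := congrArg LinearMap.det hg
  rw [LinearMap.det_comp, LinearMap.det_smul, LinearMap.det_id, h.neg_one_pow, mul_one] at hd
  exact (FiniteField.isSquare_neg_one_iff (F := F)).1 ⟨_, hd.symm⟩ (by omega)

/-- Let F be the field with 3 elements and K the field with 5 elements. For every injective homomorphism φ from SL₂(K) into the symplectic group Sp₄(F) (4 × 4 matrices g with g J gᵀ = J for the standard alternating matrix J) and every element x of order 3 of SL₂(K), the vectors of F⁴ fixed by φ(x) form a 2-dimensional subspace that is totally isotropic for the alternating form defined by J. -/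
theorem result {F : Type*} [Field F] [Fintype F] (hF : Fintype.card F = 3)
    {K : Type*} [Field K] [Fintype K] (hK : Fintype.card K = 5)
    (φ : Matrix.SpecialLinearGroup (Fin 2) K →* ↥(Matrix.symplecticGroup (Fin 2) F)) (hφ : Function.Injective φ)
    (x : Matrix.SpecialLinearGroup (Fin 2) K) (hx : orderOf x = 3) :
    Module.finrank F ↥(LinearMap.ker (Matrix.toLin' ((φ x : Matrix (Fin 2 ⊕ Fin 2) (Fin 2 ⊕ Fin 2) F)) - LinearMap.id)) = 2 ∧
      ∀ v w : Fin 2 ⊕ Fin 2 → F, (φ x : Matrix (Fin 2 ⊕ Fin 2) (Fin 2 ⊕ Fin 2) F).mulVec v = v →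
        (φ x : Matrix (Fin 2 ⊕ Fin 2) (Fin 2 ⊕ Fin 2) F).mulVec w = w →
          dotProduct v ((Matrix.J (Fin 2) F).mulVec w) = 0 := by
  classical
  haveI hchar : CharP F 3 := by
    haveI : Fact (Nat.Prime 3) := ⟨by norm_num⟩
    exact charP_of_card_eq_prime hF
  obtain ⟨y, hyx, hyy⟩ := exists_inverting hK x hx
  let ψ : Matrix.SpecialLinearGroup (Fin 2) K →* ((Fin 2 ⊕ Fin 2 → F) →ₗ[F] (Fin 2 ⊕ Fin 2 → F)) :=
    { toFun := fun g => Matrix.toLin' (φ g : Matrix (Fin 2 ⊕ Fin 2) (Fin 2 ⊕ Fin 2) F)
      map_one' := by simp [Matrix.toLin'_one]; rfl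
      map_mul' := fun g h => by simp [Matrix.toLin'_mul]; rfl }
  have hψ : Function.Injective ψ := fun g h hgh =>
    hφ (Subtype.ext (Matrix.toLin'.injective hgh))
  have h3 : x * x * x = 1 := by rw [← pow_three', ← hx, pow_orderOf_eq_one]
  have h1 : x ≠ 1 := fun h => by simp [h] at hx
  -- the central involution goes to minus the identity
  have hZ : ∀ v, ψ (-1) v = -v := by
    have hneg : (-1 : Matrix.SpecialLinearGroup (Fin 2) K) ≠ 1 := by
      intro h
      have h' := congrFun (congrFun (congrArg Subtype.val h) 0) 0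
      simp at h'
      have h2 : ((2 : ℕ) : K) = 0 := by push_cast; linear_combination -h'
      have hne : Fintype.card K = 5 := hK
      haveI : Fact (Nat.Prime 5) := ⟨by norm_num⟩
      haveI : CharP K 5 := charP_of_card_eq_prime hne
      exact absurd ((CharP.cast_eq_zero_iff K 5 2).1 h2) (by norm_num)
    have hZZ : ∀ v, ψ (-1) (ψ (-1) v) = v := fun v => by
      rw [← Module.End.mul_apply, ← map_mul]; simp [Matrix.toLin'_one]
    set Z := ψ (-1) with hZdef
    set Up := LinearMap.ker (Z - 1) with hUp
    set Um := LinearMap.ker (Z + 1) with hUm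
    have memp : ∀ v, v ∈ Up ↔ Z v = v := fun v => by simp [hUp, sub_eq_zero]
    have memm : ∀ v, v ∈ Um ↔ Z v = -v := fun v => by simp [hUm, add_eq_zero_iff_eq_neg]
    by_cases hp : Up = ⊥
    · intro v
      have h : Z v + v ∈ Up := (memp _).2 (by rw [map_add, hZZ, add_comm])
      rw [hp, Submodule.mem_bot] at h
      exact eq_neg_of_add_eq_zero_left h
    by_cases hm : Um = ⊥
    · exfalso
      apply hneg
      apply hψ
      rw [map_one]
      refine LinearMap.ext fun v => ?_
      have h : Z v - v ∈ Um := (memm _).2 (by rw [map_sub, hZZ, neg_sub])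
      rw [hm, Submodule.mem_bot] at h
      exact sub_eq_zero.1 h
    exfalso
    let c : Matrix.SpecialLinearGroup (Fin 2) K := ⟨!![1, 1; 0, 1], by simp [Matrix.det_fin_two_of]⟩
    have hpow : ∀ n : ℕ, (c ^ n).1 = !![1, (n : K); 0, 1] := by
      intro n
      induction n with
      | zero => ext i j; fin_cases i <;> fin_cases j <;> simp
      | succ n ih =>
        rw [pow_succ, Matrix.SpecialLinearGroup.coe_mul, ih]
        ext i j
        fin_cases i <;> fin_cases j <;> simp [c, Matrix.mul_apply, Fin.sum_univ_two] <;> ring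
    have hc5 : c ^ 5 = 1 := by
      haveI : Fact (Nat.Prime 5) := ⟨by norm_num⟩
      haveI : CharP K 5 := charP_of_card_eq_prime hK
      apply Subtype.ext
      rw [hpow, CharP.cast_eq_zero K 5]
      simp [Matrix.one_fin_two]
    have hcne : c ≠ 1 := by
      intro h
      have h' := congrFun (congrFun (congrArg Subtype.val h) 0) 1
      simp [c] at h'
    have hcomm : ∀ v, Z (ψ c v) = ψ c (Z v) := fun v => by
      rw [hZdef, ← Module.End.mul_apply, ← Module.End.mul_apply, ← map_mul, ← map_mul]
      congr 2
      simp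
    have hdim : ∀ U : Submodule F (Fin 2 ⊕ Fin 2 → F), U ≠ ⊤ → (∀ v ∈ U, ψ c v ∈ U) →
        ∀ v ∈ U, ψ c v = v := by
      intro U hU hinv v hv
      have hlt : Module.finrank F U < Module.finrank F (Fin 2 ⊕ Fin 2 → F) :=
        Submodule.finrank_lt hU
      simp at hlt
      have h := eq_one_of_pow_five hF (U := U) (by omega) ((ψ c).restrict hinv) (by
        rw [Module.End.pow_restrict]
        refine LinearMap.ext fun w => Subtype.ext ?_
        simp [LinearMap.restrict_apply, ← map_pow, hc5])
      have := congrArg (fun f => ((f ⟨v, hv⟩ : U) : Fin 2 ⊕ Fin 2 → F)) h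
      simpa [LinearMap.restrict_apply] using this
    have htwo : ∀ w : Fin 2 ⊕ Fin 2 → F, w + w + w = 0 := fun w => by
      funext i
      simp only [Pi.add_apply, Pi.zero_apply]
      have : (3 : F) = 0 := by exact_mod_cast CharP.cast_eq_zero F 3
      linear_combination w i * this
    have hUpT : Up ≠ ⊤ := by
      intro h
      apply hm
      rw [eq_bot_iff]
      intro v hv
      have e1 : Z v = v := (memp v).1 (h ▸ Submodule.mem_top)
      have e2 := (memm v).1 hv
      rw [e1] at e2
      have e3 := htwo v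
      rw [Submodule.mem_bot]
      rw [show v + v = 0 from add_eq_zero_iff_eq_neg.2 e2, zero_add] at e3
      exact e3
    have hUmT : Um ≠ ⊤ := by
      intro h
      apply hp
      rw [eq_bot_iff]
      intro v hv
      have e1 : Z v = -v := (memm v).1 (h ▸ Submodule.mem_top)
      have e2 := (memp v).1 hv
      rw [e2] at e1
      have e3 := htwo v
      rw [Submodule.mem_bot]
      rw [show v + v = 0 from add_eq_zero_iff_eq_neg.2 e1, zero_add] at e3
      exact e3
    apply hcne
    apply hψ
    rw [map_one]
    refine LinearMap.ext fun v => ?_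
    have a := hdim Up hUpT (fun w hw => (memp _).2 (by rw [hcomm, (memp w).1 hw])) (v + Z v)
      ((memp _).2 (by rw [map_add, hZZ, add_comm]))
    have b := hdim Um hUmT (fun w hw => (memm _).2 (by rw [hcomm, (memm w).1 hw, map_neg]))
      (v - Z v) ((memm _).2 (by rw [map_sub, hZZ, neg_sub]))
    have hs : v = -((v + Z v) + (v - Z v)) := by
      rw [eq_neg_iff_add_eq_zero]
      linear_combination (norm := abel) htwo v
    show ψ c v = v
    rw [hs, map_neg, map_add, a, b]
  -- the fixed space
  set m := ψ x with hm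
  set Y := ψ y with hY
  have hYY : ∀ v, Y (Y v) = -v := fun v => by
    rw [hY, ← Module.End.mul_apply, ← map_mul, hyy, hZ]
  have hYm : ∀ v, Y (m v) = m (m (Y v)) := fun v => by
    simp only [hY, hm, ← Module.End.mul_apply, ← map_mul, ← mul_assoc, hyx]
  have hmmm : ∀ v, m (m (m v)) = v := fun v => by
    rw [hm, ← Module.End.mul_apply, ← Module.End.mul_apply, ← map_mul, ← map_mul, h3, map_one]
    rfl
  have h30 : (3 : F) = 0 := by exact_mod_cast CharP.cast_eq_zero F 3
  show Module.finrank F ↥(LinearMap.ker (m - LinearMap.id)) = 2 ∧ _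
  set N := m - LinearMap.id with hNdef
  have hNapp : ∀ v, N v = m v - v := fun v => by simp [hNdef]
  have hN3 : ∀ v, N (N (N v)) = 0 := fun v => by
    simp only [hNapp, map_sub, hmmm]
    funext i
    simp only [Pi.sub_apply, Pi.zero_apply]
    linear_combination (-m (m v) i + m v i) * h30
  set I := LinearMap.range N ⊓ LinearMap.ker N with hI
  have hIinv : ∀ v ∈ I, Y v ∈ I := by
    rintro v ⟨⟨u, rfl⟩, hv⟩
    refine ⟨⟨m (Y u) + Y u, ?_⟩, ?_⟩
    · rw [hNapp, hNapp, map_add, map_sub, hYm]
      abel
    · have hw : m (N u) = N u := sub_eq_zero.1 (by rw [← hNapp]; exact LinearMap.mem_ker.1 hv)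
      have h2 : Y (N u) = m (m (Y (N u))) := by
        conv_lhs => rw [← hw, hYm]
      refine LinearMap.mem_ker.2 ?_
      rw [hNapp, sub_eq_zero]
      conv_lhs => rw [h2, hmmm]
  have hIne : I ≠ ⊥ := by
    obtain ⟨u, hu⟩ : ∃ u, N u ≠ 0 := by
      by_contra! h
      apply h1
      apply hψ
      rw [map_one]
      exact LinearMap.ext fun v => sub_eq_zero.1 (show m v - v = 0 by rw [← hNapp]; exact h v)
    intro hbot
    by_cases h2 : N (N u) = 0
    · exact hu ((Submodule.eq_bot_iff _).1 hbot _ ⟨⟨u, rfl⟩, h2⟩)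
    · exact h2 ((Submodule.eq_bot_iff _).1 hbot _ ⟨⟨N u, rfl⟩, hN3 u⟩)
  obtain ⟨k, hk⟩ := even_finrank hF Y hYY I hIinv
  have hkpos : 0 < Module.finrank F I := by
    rw [Nat.pos_iff_ne_zero, Ne, Submodule.finrank_eq_zero]; exact hIne
  have hrn := LinearMap.finrank_range_add_finrank_ker N
  rw [Module.finrank_fintype_fun_eq_card] at hrn
  simp only [Fintype.card_sum, Fintype.card_fin] at hrn
  have hle1 : Module.finrank F I ≤ Module.finrank F (LinearMap.range N) :=
    Submodule.finrank_mono inf_le_left
  have hle2 : Module.finrank F I ≤ Module.finrank F (LinearMap.ker N) :=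
    Submodule.finrank_mono inf_le_right
  have hker : Module.finrank F (LinearMap.ker N) = 2 := by omega
  have hIk : I = LinearMap.ker N := Submodule.eq_of_le_of_finrank_le inf_le_right (by omega)
  refine ⟨hker, ?_⟩
  intro v w hv hw
  have hwI : w ∈ I := by
    rw [hIk, LinearMap.mem_ker, hNapp, sub_eq_zero]
    exact hw
  obtain ⟨u, rfl⟩ := hwI.1
  set A := (φ x : Matrix (Fin 2 ⊕ Fin 2) (Fin 2 ⊕ Fin 2) F) with hA
  have hmem : A.transpose * Matrix.J (Fin 2) F * A.transpose.transpose = Matrix.J (Fin 2) F :=
    SymplecticGroup.mem_iff.1 (SymplecticGroup.transpose_mem (φ x).2)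
  rw [Matrix.transpose_transpose] at hmem
  have key : dotProduct v ((Matrix.J (Fin 2) F).mulVec (A.mulVec u)) =
      dotProduct v ((Matrix.J (Fin 2) F).mulVec u) := by
    conv_lhs => rw [← hv, dotProduct_comm, Matrix.dotProduct_mulVec, ← Matrix.mulVec_transpose,
      Matrix.mulVec_mulVec, Matrix.mulVec_mulVec, hmem, dotProduct_comm]
  rw [hNapp, Matrix.mulVec_sub, dotProduct_sub]
  exact sub_eq_zero.2 key

end Cfsg.Agent.S3213
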