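import Cfsg.Statements.S3215
import Cfsg.Agent.Lib.SylowInter.Basic
import Cfsg.Agent.Lib.SylowInter.OddCyclic
import Mathlib.GroupTheory.SpecificGroups.ZGroup

set_option autoImplicit false
open Cfsg
open scoped IsMulCommutative

namespace Cfsg.Agent.S3215

variable {H : Type*} [Group H] [Finite H]

theorem eq_one_of_two_pow_of_odd {g : H} {n : ℕ} (h : g ^ 2 ^ n = 1) (hodd : Odd (orderOf g)) : g = 1 :=
  orderOf_eq_one_iff.1 (Nat.eq_one_of_dvd_coprimes ((Nat.coprime_two_left.2 hodd).pow_left n)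
    (orderOf_dvd_of_pow_eq_one h) dvd_rfl)

/-- Odd-order elements of a 2-nilpotent involution centralizer centralize its part in a normal 2-subgroup. -/
theorem odd_comm (t : H) (hI : Cfsg.HasNormalPComplement 2 ↥(Subgroup.centralizer ({t} : Set H)))
    (Y : Subgroup H) [Y.Normal] (hY : IsPGroup 2 Y) (x : H) (hx : Odd (orderOf x)) (hxt : Commute x t)
    (y : H) (hy : y ∈ Y) (hyt : Commute y t) : Commute x y := by
  haveI : Fact (Nat.Prime 2) := ⟨Nat.prime_two⟩
  obtain ⟨P, N, hN, hc⟩ := hI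
  have hidx : N.index = Nat.card ↥(P : Subgroup ↥(Subgroup.centralizer ({t} : Set H))) := hc.symm.index_eq_card
  obtain ⟨k, hk⟩ := IsPGroup.iff_card.1 P.2
  rw [hk] at hidx
  let x' : ↥(Subgroup.centralizer ({t} : Set H)) := ⟨x, Subgroup.mem_centralizer_singleton_iff.2 hxt⟩
  let y' : ↥(Subgroup.centralizer ({t} : Set H)) := ⟨y, Subgroup.mem_centralizer_singleton_iff.2 hyt⟩
  have hxo : Odd (orderOf x') := by rwa [← Subgroup.orderOf_coe]
  have hxN : x' ∈ N := by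
    rw [← QuotientGroup.eq_one_iff (N := N) x']
    refine eq_one_of_two_pow_of_odd (n := k) ?_ (hxo.of_dvd_nat (orderOf_map_dvd (QuotientGroup.mk' N) x'))
    rw [← QuotientGroup.mk_pow, QuotientGroup.eq_one_iff, ← hidx]
    exact N.pow_index_mem x'
  set c := x' * y' * x'⁻¹ * y'⁻¹ with hcdef
  have hcN : c ∈ N := by
    rw [hcdef, mul_assoc x' y', mul_assoc]
    exact N.mul_mem hxN (hN.conj_mem _ (N.inv_mem hxN) y')
  have hcY : (c : H) ∈ Y := Y.mul_mem (Subgroup.Normal.conj_mem inferInstance y hy x) (Y.inv_mem hy)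
  obtain ⟨n, hn⟩ := hY ⟨_, hcY⟩
  have hNodd : Odd (Nat.card N) := by
    rw [← hc.index_eq_card]
    rw [← Nat.not_even_iff_odd, even_iff_two_dvd]
    exact P.not_dvd_index
  have hc1 : c = 1 := by
    refine eq_one_of_two_pow_of_odd (n := n) ?_ (hNodd.of_dvd_nat (N.orderOf_dvd_natCard hcN))
    exact Subtype.ext (by simpa using congrArg Subtype.val hn)
  have := congrArg Subtype.val hc1
  simp only [hcdef, Subgroup.coe_mul, InvMemClass.coe_inv, OneMemClass.coe_one] at this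
  exact mul_inv_eq_iff_eq_mul.1 (mul_inv_eq_one.1 this)

/-- An involution fixes a nontrivial element of a nontrivial normal 2-subgroup. -/
theorem exists_fixed (Y : Subgroup H) [Y.Normal] (hY : IsPGroup 2 Y) (hY1 : Y ≠ ⊥) (s : H)
    (hs : s * s = 1) :
    ∃ w ∈ Y, w ≠ 1 ∧ Commute w s := by
  haveI : Nontrivial Y := Y.nontrivial_iff_ne_bot.2 hY1
  haveI := hY.center_nontrivial
  obtain ⟨⟨v, hv⟩, hv1⟩ := exists_ne (1 : Subgroup.center Y)
  have hcv : ∀ y ∈ Y, y * (v : H) = v * y := fun y hy =>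
    congrArg Subtype.val (Subgroup.mem_center_iff.1 hv ⟨y, hy⟩)
  set v' : H := s * v * s⁻¹ with hv'
  have hv'Y : v' ∈ Y := Subgroup.Normal.conj_mem inferInstance _ v.2 s
  have hsi : s⁻¹ = s := inv_eq_of_mul_eq_one_right hs
  by_cases hw : (v : H) * v' = 1
  · -- `s` inverts `v`
    obtain ⟨n, hn⟩ := hY v
    obtain ⟨j, -, hj⟩ := (Nat.dvd_prime_pow Nat.prime_two).1 (orderOf_dvd_of_pow_eq_one hn)
    have hj0 : j ≠ 0 := fun h => hv1 (Subtype.ext (orderOf_eq_one_iff.1 (by rw [hj, h, pow_zero])))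
    refine ⟨(v : H) ^ 2 ^ (j - 1), Y.pow_mem v.2 _, ?_, ?_⟩
    · intro h
      have := orderOf_dvd_of_pow_eq_one h
      rw [Subgroup.orderOf_coe, hj, Nat.pow_dvd_pow_iff_le_right (by norm_num)] at this
      omega
    · have hinv : v' = (v : H)⁻¹ := eq_inv_of_mul_eq_one_right hw
      have hsq : ((v : H) ^ 2 ^ (j - 1)) ^ 2 = 1 := by
        rw [← pow_mul, ← pow_succ, show j - 1 + 1 = j by omega, ← hj, ← Subgroup.orderOf_coe, pow_orderOf_eq_one]
      have h2 : s * (v : H) ^ 2 ^ (j - 1) * s⁻¹ = (v : H) ^ 2 ^ (j - 1) := by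
        rw [← conj_pow, ← hv', hinv, inv_pow]
        exact inv_eq_of_mul_eq_one_right (by rw [← pow_two]; exact hsq)
      exact (mul_inv_eq_iff_eq_mul.1 h2).symm
  · refine ⟨(v : H) * v', Y.mul_mem v.2 hv'Y, hw, ?_⟩
    have h1 : s * ((v : H) * v') * s⁻¹ = v' * v := by
      rw [hv', hsi]; simp only [mul_assoc, hs, mul_one]
    rw [hcv v' hv'Y] at h1
    exact (mul_inv_eq_iff_eq_mul.1 h1).symm

theorem fpf (hI : ∀ t : H, orderOf t = 2 → Cfsg.HasNormalPComplement 2 ↥(Subgroup.centralizer ({t} : Set H)))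
    (Y : Subgroup H) [Y.Normal] (hY : IsPGroup 2 Y) (hC : Subgroup.centralizer (Y : Set H) ≤ Y)
    (x : H) (hx : Odd (orderOf x)) (y : H) (hy : y ∈ Y) (hy1 : y ≠ 1) (hxy : x * y = y * x) : x = 1 := by
  haveI : Nontrivial Y := ⟨⟨y, hy⟩, 1, fun h => hy1 (congrArg Subtype.val h)⟩
  obtain ⟨n, hn⟩ := hY ⟨y, hy⟩
  have hn' : y ^ 2 ^ n = 1 := congrArg Subtype.val hn
  obtain ⟨j, -, hj⟩ := (Nat.dvd_prime_pow Nat.prime_two).1 (orderOf_dvd_of_pow_eq_one hn')
  have hj0 : j ≠ 0 := fun h => hy1 (orderOf_eq_one_iff.1 (by rw [hj, h, pow_zero]))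
  set t₀ := y ^ 2 ^ (j - 1) with ht₀
  have ho₀ : orderOf t₀ = 2 := by
    rw [ht₀, orderOf_pow, hj, Nat.gcd_eq_right (pow_dvd_pow 2 (Nat.sub_le j 1)),
      Nat.pow_div (Nat.sub_le j 1) (by norm_num), show j - (j - 1) = 1 by omega, pow_one]
  have hxt₀ : Commute x t₀ := Commute.pow_right hxy _
  haveI := hY.center_nontrivial
  obtain ⟨⟨v, hv⟩, hv1⟩ := exists_ne (1 : Subgroup.center Y)
  have hcv : ∀ u ∈ Y, Commute u (v : H) := fun u hu =>
    congrArg Subtype.val (Subgroup.mem_center_iff.1 hv ⟨u, hu⟩)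
  have hxv : Commute x (v : H) :=
    odd_comm t₀ (hI t₀ ho₀) Y hY x hx hxt₀ v v.2 ((hcv t₀ (Y.pow_mem hy _)).symm)
  obtain ⟨m, hm⟩ := hY v
  obtain ⟨i, -, hi⟩ := (Nat.dvd_prime_pow Nat.prime_two).1 (orderOf_dvd_of_pow_eq_one hm)
  have hi0 : i ≠ 0 := fun h => hv1 (Subtype.ext (orderOf_eq_one_iff.1 (by rw [hi, h, pow_zero])))
  have ho₁ : orderOf ((v : H) ^ 2 ^ (i - 1)) = 2 := by
    rw [orderOf_pow, Subgroup.orderOf_coe, hi, Nat.gcd_eq_right (pow_dvd_pow 2 (Nat.sub_le i 1)),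
      Nat.pow_div (Nat.sub_le i 1) (by norm_num), show i - (i - 1) = 1 by omega, pow_one]
  have hxY : x ∈ Y := by
    refine hC (Subgroup.mem_centralizer_iff.2 fun u hu => ?_)
    exact (odd_comm _ (hI _ ho₁) Y hY x hx (hxv.pow_right _) u hu ((hcv u hu).pow_right _)).symm
  obtain ⟨k, hk⟩ := hY ⟨x, hxY⟩
  exact eq_one_of_two_pow_of_odd (by simpa using congrArg Subtype.val hk) hx

/-- No element of order `2` modulo `Y` commutes modulo `Y` with a nontrivial element of odd order. -/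
theorem no_commuting_pair (hI : ∀ t : H, orderOf t = 2 → Cfsg.HasNormalPComplement 2 ↥(Subgroup.centralizer ({t} : Set H)))
    (Y : Subgroup H) [Y.Normal] (hY : IsPGroup 2 Y) (hC : Subgroup.centralizer (Y : Set H) ≤ Y)
    (x h : H) (hx : Odd (orderOf x)) (hx1 : x ≠ 1) (hh : h * h ∈ Y) (hhY : h ∉ Y)
    (hxh : (QuotientGroup.mk x : H ⧸ Y) * QuotientGroup.mk h = QuotientGroup.mk h * QuotientGroup.mk x) : False := by
  obtain ⟨q, hq, hqd⟩ := Nat.exists_prime_and_dvd (mt orderOf_eq_one_iff.1 hx1)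
  haveI : Fact q.Prime := ⟨hq⟩
  set x' := x ^ (orderOf x / q) with hx'
  have ho : orderOf x' = q := by
    rw [hx', orderOf_pow, Nat.gcd_eq_right (Nat.div_dvd_of_dvd hqd), Nat.div_div_self hqd (orderOf_pos x).ne']
  have hq2 : q ≠ 2 := by
    rintro rfl
    exact Nat.not_even_iff_odd.2 hx (even_iff_two_dvd.2 hqd)
  have hx'o : Odd (orderOf x') := ho ▸ hq.odd_of_ne_two hq2
  have hx'h : Commute (QuotientGroup.mk x' : H ⧸ Y) (QuotientGroup.mk h) := by
    rw [hx', QuotientGroup.mk_pow]; exact Commute.pow_left hxh _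
  let Ω := {u : H // (QuotientGroup.mk u : H ⧸ Y) = QuotientGroup.mk h}
  have hclosed : ∀ (g : ↥(Subgroup.zpowers x')) (u : Ω),
      (QuotientGroup.mk ((g : H) * u.1 * (g : H)⁻¹) : H ⧸ Y) = QuotientGroup.mk h := by
    rintro ⟨g, hg⟩ ⟨u, hu⟩
    obtain ⟨i, rfl⟩ := Subgroup.mem_zpowers_iff.1 hg
    simp only [QuotientGroup.mk_mul, QuotientGroup.mk_inv, QuotientGroup.mk_zpow, hu]
    rw [(hx'h.zpow_left i).eq, mul_inv_cancel_right]
  letI : MulAction ↥(Subgroup.zpowers x') Ω :=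
    { smul := fun g u => ⟨(g : H) * u.1 * (g : H)⁻¹, hclosed g u⟩
      one_smul := fun u => Subtype.ext (show (1 : H) * u.1 * (1 : H)⁻¹ = u.1 by simp)
      mul_smul := fun a b u => Subtype.ext
        (show ((a : H) * b) * u.1 * ((a : H) * b)⁻¹ = (a : H) * ((b : H) * u.1 * (b : H)⁻¹) * (a : H)⁻¹ by group) }
  have hQ : IsPGroup q ↥(Subgroup.zpowers x') := IsPGroup.of_card (n := 1) (by rw [Nat.card_zpowers, ho, pow_one])
  have hΩ : Nat.card Ω = Nat.card Y := Nat.card_congr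
    { toFun := fun u => ⟨h⁻¹ * u.1, (QuotientGroup.eq (s := Y)).1 u.2.symm⟩
      invFun := fun y => ⟨h * y, by simp⟩
      left_inv := fun u => Subtype.ext (by simp)
      right_inv := fun y => Subtype.ext (by simp) }
  obtain ⟨⟨s, hs⟩, hfix⟩ := hQ.nonempty_fixed_point_of_prime_not_dvd_card Ω (by
    rw [hΩ]
    obtain ⟨n, hn⟩ := IsPGroup.iff_card.1 hY
    rw [hn]
    exact fun hd => hq2 ((Nat.prime_dvd_prime_iff_eq hq Nat.prime_two).1 (hq.dvd_of_dvd_pow hd)))
  have hxs : x' * s = s * x' := by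
    have := congrArg Subtype.val (hfix ⟨x', Subgroup.mem_zpowers x'⟩)
    exact mul_inv_eq_iff_eq_mul.1 this
  have hx'1 : x' ≠ 1 := fun h1 => hq.ne_one (by rw [← ho, h1, orderOf_one])
  have hssY : s * s ∈ Y := by
    rw [← QuotientGroup.eq_one_iff, QuotientGroup.mk_mul, hs, ← QuotientGroup.mk_mul, QuotientGroup.eq_one_iff]
    exact hh
  have hsY : s ∉ Y := fun hsy => hhY (by rwa [← QuotientGroup.eq_one_iff, ← hs, QuotientGroup.eq_one_iff])
  have hss : s * s = 1 := by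
    by_contra h1
    exact hx'1 (fpf hI Y hY hC x' hx'o (s * s) hssY h1 (Commute.mul_right hxs hxs))
  have hso : orderOf s = 2 := orderOf_eq_prime (by rw [pow_two, hss]) (fun h1 => hsY (h1 ▸ Y.one_mem))
  have hY1 : Y ≠ ⊥ := by
    intro hb
    apply hhY
    apply hC
    rw [Subgroup.mem_centralizer_iff]
    intro y hy
    rw [hb] at hy
    rw [Subgroup.mem_bot.1 hy, one_mul, mul_one]
  obtain ⟨w, hwY, hw1, hws⟩ := exists_fixed Y hY hY1 s hss
  exact hx'1 (fpf hI Y hY hC x' hx'o w hwY hw1 (odd_comm s (hI s hso) Y hY x' hx'o hxs w hwY hws))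

theorem result {H : Type*} [Group H] [Finite H] (hsol : Group.IsSolvable H)
    (hO : Cfsg.oddCore H = ⊥)
    (hI : ∀ t : H, orderOf t = 2 → Cfsg.HasNormalPComplement 2 ↥(Subgroup.centralizer ({t} : Set H)))
    (X : Subgroup H) (hXodd : Odd (Nat.card X)) (hXidx : ∃ k : ℕ, X.index = 2 ^ k) :
    (∀ x ∈ X, x ≠ 1 → ∀ y ∈ Cfsg.pCore 2 H, y ≠ 1 → x * y ≠ y * x) ∧
      (∀ (p : ℕ) [Fact p.Prime] (P : Sylow p ↥X), IsCyclic ↥(P : Subgroup ↥X)) ∧
      (X ⊔ Cfsg.pCore 2 H).Normal ∧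
      ∀ hN : (X ⊔ Cfsg.pCore 2 H).Normal, IsCyclic (H ⧸ (X ⊔ Cfsg.pCore 2 H)) ∧ IsPGroup 2 (H ⧸ (X ⊔ Cfsg.pCore 2 H)) := by
  haveI := hsol
  haveI : Fact (Nat.Prime 2) := ⟨Nat.prime_two⟩
  set Y := Cfsg.pCore 2 H with hYdef
  have hY : IsPGroup 2 Y := Cfsg.Agent.Lib.Cores.pCore_isPGroup 2
  have hC : Subgroup.centralizer (Y : Set H) ≤ Y :=
    Cfsg.Agent.Lib.SylowInter.Basic.centralizer_pCore_le 2 hO
  have hfree : ∀ x ∈ X, x ≠ 1 → ∀ y ∈ Y, y ≠ 1 → x * y ≠ y * x := fun x hx hx1 y hy hy1 he =>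
    hx1 (fpf hI Y hY hC x (hXodd.of_dvd_nat (X.orderOf_dvd_natCard hx)) y hy hy1 he)
  have hcyc : ∀ (p : ℕ) [Fact p.Prime] (P : Sylow p ↥X), IsCyclic ↥(P : Subgroup ↥X) := by
    intro p hp P
    by_cases hp2 : p = 2
    · subst hp2
      have : (P : Subgroup X) = ⊥ := by
        obtain ⟨n, hn⟩ := IsPGroup.iff_card.1 P.2
        refine Subgroup.eq_bot_of_card_eq _ (Nat.eq_one_of_dvd_coprimes ((Nat.coprime_two_left.2 hXodd).pow_left n) (dvd_of_eq hn) (Subgroup.card_subgroup_dvd_card _))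
      rw [this]; infer_instance
    rcases subsingleton_or_nontrivial Y with hs | hn
    · haveI : Subsingleton H := by
        refine ⟨fun a b => ?_⟩
        have hh : ∀ g : H, g = 1 := fun g => by
          have hg : g ∈ Y := hC (Subgroup.mem_centralizer_iff.2 fun y hy => by
            have : (⟨y, hy⟩ : Y) = 1 := Subsingleton.elim _ _
            rw [show y = 1 from congrArg Subtype.val this, one_mul, mul_one])
          exact congrArg Subtype.val (Subsingleton.elim (⟨g, hg⟩ : Y) 1)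
        rw [hh a, hh b]
      infer_instance
    set V := (Subgroup.center Y).map Y.subtype with hV
    haveI : V.Normal := Cfsg.Agent.Lib.Cores.normal_map_subtype Y _
    haveI : IsMulCommutative V := by
      rw [hV]; infer_instance
    haveI : Nontrivial V := by
      rw [Subgroup.nontrivial_iff_ne_bot, hV, Ne, Subgroup.map_eq_bot_iff_of_injective _ Y.subtype_injective,
        ← Ne, ← Subgroup.nontrivial_iff_ne_bot]
      exact hY.center_nontrivial
    let ρ : ↥(P : Subgroup X) →* MulAut V :=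
      (MulAut.conjNormal (H := V)).comp ((X.subtype).comp (P : Subgroup X).subtype)
    have hρ : Cfsg.Agent.Lib.Frobenius.IsFPF ρ := by
      intro l hl v hv
      by_contra hv1
      refine hfree _ (l : X).2 (fun h => hl (Subtype.ext (Subtype.ext h))) (v : H)
        ((Subgroup.map_subtype_le _ : V ≤ Y) v.2) (fun h => hv1 (Subtype.ext h)) ?_
      have h := congrArg Subtype.val hv
      simp only [ρ, MonoidHom.comp_apply, MulAut.conjNormal_apply, Subgroup.coe_subtype] at h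
      exact mul_inv_eq_iff_eq_mul.1 h
    exact Cfsg.Agent.Lib.SylowInter.OddCyclic.isCyclic_of_fpf hρ hp2 P.2
  -- the quotient by `Y`
  set Q := H ⧸ Y
  let π : H →* H ⧸ Y := QuotientGroup.mk' Y
  have hπ : Function.Surjective π := QuotientGroup.mk'_surjective Y
  set X' := X.map π with hX'
  haveI : IsZGroup X := ⟨fun p hp P => by haveI := Fact.mk hp; exact hcyc p P⟩
  haveI : IsZGroup X' := IsZGroup.of_surjective (π.subgroupMap_surjective X)
  have hX'odd : Odd (Nat.card X') := hXodd.of_dvd_nat (Subgroup.card_dvd_of_surjective _ (π.subgroupMap_surjective X))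
  obtain ⟨k, hk⟩ := hXidx
  have hX'idx : X'.index ∣ 2 ^ k := hk ▸ Subgroup.index_map_dvd X hπ
  haveI : Group.IsSolvable (H ⧸ Y) := Group.isSolvable_of_surjective hπ
  set F := Cfsg.fittingSubgroup (H ⧸ Y) with hF
  haveI : F.Normal := Cfsg.Agent.Lib.Cores.fittingSubgroup_normal
  have hF2 : Odd (Nat.card F) := by
    rw [← Nat.not_even_iff_odd, even_iff_two_dvd]
    intro hd
    obtain ⟨g, hg⟩ := exists_prime_orderOf_dvd_card' 2 hd
    haveI : Group.IsNilpotent F := Cfsg.Agent.Lib.Cores.fittingSubgroup_isNilpotent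
    obtain ⟨P⟩ : Nonempty (Sylow 2 F) := inferInstance
    haveI : (P : Subgroup F).Normal := inferInstance
    haveI := P.characteristic_of_normal this
    haveI := Cfsg.Agent.Lib.Cores.normal_map_subtype F (P : Subgroup F)
    have hP := Cfsg.Agent.Lib.Cores.le_pCore (P.isPGroup'.map F.subtype)
    have hb : Cfsg.pCore 2 (H ⧸ Y) = ⊥ := Cfsg.Agent.Lib.Cores.pCore_quotient_pCore 2
    rw [hb, le_bot_iff,
      Subgroup.map_eq_bot_iff_of_injective _ F.subtype_injective] at hP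
    refine P.not_dvd_index ?_
    rw [hP, Subgroup.index_bot]; exact hd
  have hFX : F ≤ X' := by
    have h1 : X'.relIndex (X' ⊔ F) = 1 := by
      obtain ⟨j, -, hj⟩ := (Nat.dvd_prime_pow Nat.prime_two).1
        (((Subgroup.relIndex_dvd_index_of_le (le_sup_left : X' ≤ X' ⊔ F))).trans hX'idx)
      have h2 : Odd (Nat.card ↥(X' ⊔ F)) :=
        (hX'odd.mul hF2).of_dvd_nat (Cfsg.Agent.Lib.Cores.card_sup_dvd_mul X' F)
      have h3 := h2.of_dvd_nat (Subgroup.relIndex_dvd_card X' (X' ⊔ F))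
      rw [hj] at h3 ⊢
      rcases j with _ | j
      · rfl
      · exact absurd h3 (by simp [Nat.odd_pow_iff])
    exact le_trans le_sup_right (Subgroup.relIndex_eq_one.1 h1)
  haveI : Group.IsNilpotent F := Cfsg.Agent.Lib.Cores.fittingSubgroup_isNilpotent
  haveI : IsZGroup F := IsZGroup.of_injective (Subgroup.inclusion_injective hFX)
  haveI : IsCyclic F := inferInstance
  have hCF : Subgroup.centralizer (F : Set (H ⧸ Y)) ≤ F := Cfsg.Agent.Lib.Cores.centralizer_fittingSubgroup_le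
  have hcommF : ∀ a b : H ⧸ Y, a * b * a⁻¹ * b⁻¹ ∈ F := by
    intro a b
    apply hCF
    rw [← Cfsg.Agent.Lib.SylowInter.Basic.ker_conjNormal, MonoidHom.mem_ker]
    simp only [map_mul, map_inv]
    have hc : MulAut.conjNormal (H := F) a * MulAut.conjNormal b = MulAut.conjNormal b * MulAut.conjNormal a :=
      (IsCyclic.mulAutMulEquiv F).injective (by rw [map_mul, map_mul, mul_comm])
    rw [hc, mul_inv_cancel_right, mul_inv_cancel]
  haveI hX'n : X'.Normal := ⟨fun x hx g => by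
    have := X'.mul_mem (hFX (hcommF g x)) hx
    simpa [mul_assoc] using this⟩
  have hcomap : X'.comap π = X ⊔ Y := by rw [hX', Subgroup.comap_map_eq, QuotientGroup.ker_mk']
  refine ⟨hfree, hcyc, hcomap ▸ hX'n.comap π, fun hN => ?_⟩
  haveI := hN
  have hP2 : IsPGroup 2 (H ⧸ (X ⊔ Y)) := by
    obtain ⟨j, -, hj⟩ := (Nat.dvd_prime_pow Nat.prime_two).1 (hk ▸ Subgroup.index_dvd_of_le (le_sup_left : X ≤ X ⊔ Y))
    exact IsPGroup.of_card (n := j) (by rw [← Subgroup.index_eq_card, hj])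
  refine ⟨?_, hP2⟩
  have hcommQ : ∀ a b : H ⧸ (X ⊔ Y), a * b = b * a := by
    intro a b
    obtain ⟨a, rfl⟩ := QuotientGroup.mk'_surjective _ a
    obtain ⟨b, rfl⟩ := QuotientGroup.mk'_surjective _ b
    rw [← mul_inv_eq_one, mul_inv_rev, ← mul_assoc, ← map_inv, ← map_inv, ← map_mul, ← map_mul, ← map_mul,
      QuotientGroup.mk'_apply, QuotientGroup.eq_one_iff, ← hcomap, Subgroup.mem_comap]
    simp only [map_mul, map_inv]
    exact hFX (hcommF _ _)
  letI : CommGroup (H ⧸ (X ⊔ Y)) := { (inferInstance : Group (H ⧸ (X ⊔ Y))) with mul_comm := hcommQ }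
  refine Cfsg.Agent.Lib.Frobenius.isCyclic_of_forall_prime fun p hp => ?_
  by_cases hp2 : p = 2
  swap
  · have : (powMonoidHom p : (H ⧸ (X ⊔ Y)) →* _).ker = ⊥ := by
      rw [Subgroup.eq_bot_iff_forall]
      intro a ha
      obtain ⟨n, hn⟩ := hP2 a
      exact orderOf_eq_one_iff.1 (Nat.eq_one_of_dvd_coprimes (((Nat.coprime_primes Nat.prime_two hp).2 (Ne.symm hp2)).pow_left n)
        (orderOf_dvd_of_pow_eq_one hn) (orderOf_dvd_of_pow_eq_one ha))
    rw [this, Subgroup.card_bot]; exact hp.pos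
  subst hp2
  -- every nontrivial class with trivial square is represented by an involution of `H ⧸ Y` inverting `F`
  have key : ∀ a : H ⧸ (X ⊔ Y), a ^ 2 = 1 → a ≠ 1 → ∃ h : H, QuotientGroup.mk h = a ∧
      ∀ f ∈ F, π h * f * (π h)⁻¹ = f⁻¹ := by
    intro a ha ha1
    obtain ⟨h₀, rfl⟩ := QuotientGroup.mk'_surjective _ a
    have hsq : π h₀ * π h₀ ∈ X' := by
      rw [← map_mul, ← Subgroup.mem_comap, hcomap, ← QuotientGroup.eq_one_iff, QuotientGroup.mk_mul, ← pow_two]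
      exact ha
    obtain ⟨m, hm⟩ := hX'odd.of_dvd_nat (X'.orderOf_dvd_natCard hsq)
    refine ⟨h₀ ^ (2 * m + 1), ?_, ?_⟩
    · rw [QuotientGroup.mk_pow, pow_succ, pow_mul, show (QuotientGroup.mk h₀ : H ⧸ (X ⊔ Y)) ^ 2 = 1 from ha, one_pow, one_mul]
      rfl
    intro f hf
    set s := π (h₀ ^ (2 * m + 1)) with hs
    have hs2 : s * s = 1 := by
      rw [hs, map_pow, ← (Commute.refl (π h₀)).mul_pow, ← hm, pow_orderOf_eq_one]
    have hsX : h₀ ^ (2 * m + 1) ∉ X ⊔ Y := by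
      rw [← QuotientGroup.eq_one_iff, QuotientGroup.mk_pow, pow_succ, pow_mul,
        show (QuotientGroup.mk h₀ : H ⧸ (X ⊔ Y)) ^ 2 = 1 from ha, one_pow, one_mul]
      exact ha1
    have hfc : ∀ u ∈ F, ∀ v ∈ F, u * v = v * u := fun u hu v hv =>
      congrArg Subtype.val (mul_comm' (⟨u, hu⟩ : F) ⟨v, hv⟩)
    have hsf : s * f * s⁻¹ ∈ F := Subgroup.Normal.conj_mem inferInstance f hf s
    set g := f * (s * f * s⁻¹) with hg
    by_contra hne
    have hg1 : g ≠ 1 := fun h1 => hne (eq_inv_of_mul_eq_one_right h1)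
    have hgs : s * g * s⁻¹ = g := by
      rw [hg, show s * (f * (s * f * s⁻¹)) * s⁻¹ = (s * f * s⁻¹) * ((s * s) * f * (s * s)⁻¹) by group,
        hs2, one_mul, inv_one, mul_one, hfc _ hsf _ hf]
    have hgodd : Odd (orderOf g) := hF2.of_dvd_nat (F.orderOf_dvd_natCard (F.mul_mem hf hsf))
    obtain ⟨x₀, hx₀⟩ := hπ g
    obtain ⟨n, hn⟩ := IsPGroup.iff_card.1 hY
    have hpY : (x₀ ^ orderOf g) ^ 2 ^ n = 1 := by
      have hmem : x₀ ^ orderOf g ∈ Y := by
        rw [← QuotientGroup.eq_one_iff, QuotientGroup.mk_pow]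
        show π x₀ ^ _ = 1
        rw [hx₀, pow_orderOf_eq_one]
      exact orderOf_dvd_iff_pow_eq_one.1 (hn ▸ Y.orderOf_dvd_natCard hmem)
    have hxo : Odd (orderOf (x₀ ^ 2 ^ n)) :=
      hgodd.of_dvd_nat (orderOf_dvd_of_pow_eq_one (by rw [← pow_mul, mul_comm, pow_mul, hpY]))
    have hx1 : x₀ ^ 2 ^ n ≠ 1 := by
      intro h1
      apply hg1
      have := congrArg π h1
      rw [map_pow, hx₀, map_one] at this
      exact orderOf_eq_one_iff.1 (Nat.eq_one_of_dvd_coprimes ((Nat.coprime_two_left.2 hgodd).pow_left n)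
        (orderOf_dvd_of_pow_eq_one this) dvd_rfl)
    refine no_commuting_pair hI Y hY hC _ (h₀ ^ (2 * m + 1)) hxo hx1 ?_ (fun hh => hsX (Subgroup.mem_sup_right hh)) ?_
    · rw [← QuotientGroup.eq_one_iff, QuotientGroup.mk_mul]
      exact hs2
    · rw [QuotientGroup.mk_pow]
      show π x₀ ^ _ * s = s * π x₀ ^ _
      rw [hx₀]
      exact (Commute.pow_left (mul_inv_eq_iff_eq_mul.1 hgs).symm _)
  by_cases hall : ∀ a ∈ (powMonoidHom 2 : (H ⧸ (X ⊔ Y)) →* _).ker, a = 1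
  · rw [(Subgroup.eq_bot_iff_forall _).2 hall, Subgroup.card_bot]; norm_num
  push_neg at hall
  obtain ⟨a, ha, ha1⟩ := hall
  have hle : (powMonoidHom 2 : (H ⧸ (X ⊔ Y)) →* _).ker ≤ Subgroup.zpowers a := by
    intro b hb
    by_cases hb1 : b = 1
    · exact hb1 ▸ Subgroup.one_mem _
    obtain ⟨h, rfl, hinv⟩ := key a ha ha1
    obtain ⟨h', rfl, hinv'⟩ := key b hb hb1
    have hmem : h'⁻¹ * h ∈ X ⊔ Y := by
      rw [← hcomap, Subgroup.mem_comap]
      refine hFX (hCF (Subgroup.mem_centralizer_iff.2 fun f hf => ?_))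
      have h1 := hinv f hf
      have h2 := hinv' f hf
      rw [← h2, mul_inv_eq_iff_eq_mul] at h1
      rw [map_mul, map_inv, mul_assoc, h1]
      group
    rw [← QuotientGroup.eq.2 hmem]
    exact Subgroup.mem_zpowers _
  refine (Subgroup.card_le_of_le hle).trans ?_
  rw [Nat.card_zpowers, orderOf_eq_prime (show a ^ 2 = 1 from ha) ha1]

end Cfsg.Agent.S3215
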