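import Cfsg.Statements.S3216
import Cfsg.Agent.Lib.TwoTimesPSL.Assemble

set_option autoImplicit false
open Cfsg

namespace Cfsg.Agent.S3216

/-- Let G be a finite non-abelian simple group and t an involution of G; write C = C_G(t) and C̄ = C/O(C). If the subgroup of C̄ generated by its 2-elements (the smallest normal subgroup of C̄ of odd index) is isomorphic to Z₂ × PSL₂(q) for some prime power q > 3, then the Sylow 2-subgroups of G are elementary abelian of order 8. -/
theorem result {G : Type*} [Group G] [Finite G] [IsSimpleGroup G]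
    (hG : ¬ IsMulCommutative G) (t : G) (ht : orderOf t = 2) {F : Type*} [Field F] [Fintype F] (hF : 3 < Fintype.card F)
    (hL : Nonempty (↥(Subgroup.closure {x : (↥(Subgroup.centralizer ({t} : Set G)) ⧸ Cfsg.oddCore ↥(Subgroup.centralizer ({t} : Set G))) | ∃ k : ℕ, orderOf x = 2 ^ k}) ≃*
      (Multiplicative (ZMod 2) × Matrix.ProjectiveSpecialLinearGroup (Fin 2) F))) (S : Sylow 2 G) :
    Nat.card ↥(S : Subgroup G) = 8 ∧ ∀ x ∈ (S : Subgroup G), x ^ 2 = 1 := by
  classical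
  obtain ⟨e⟩ := hL
  haveI := Cfsg.Agent.Lib.TwoTimesPSL.PSLInput.psl_simple (F := F) hF
  have hP := Cfsg.Agent.Lib.TwoTimesPSL.PSLInput.psl_not_comm (F := F) hF
  haveI : Fact (Nat.Prime 2) := ⟨Nat.prime_two⟩
  rcases Nat.mod_two_eq_zero_or_one (Fintype.card F) with heven | hodd
  · obtain ⟨p, hp⟩ := CharP.exists F
    haveI : Fact p.Prime := ⟨(CharP.char_is_prime_or_zero F p).resolve_right
      (CharP.char_ne_zero_of_finite F p)⟩
    obtain ⟨n, -, hn⟩ := FiniteField.card F p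
    have hp2 : p = 2 := ((Nat.prime_dvd_prime_iff_eq Nat.prime_two Fact.out).1
      (Nat.prime_two.dvd_of_dvd_pow (n := (n : ℕ)) (by rw [← hn]; omega))).symm
    subst hp2
    obtain ⟨I⟩ := Cfsg.Agent.Lib.TwoTimesPSL.PSLInput.even_input (F := F)
    have hTp : IsPGroup 2 I.T0 := fun ⟨x, hx⟩ => by
      obtain ⟨v, rfl⟩ := (I.mem x).1 hx
      refine ⟨1, Subtype.ext ?_⟩
      show I.η v ^ 2 ^ 1 = 1
      rw [pow_one, pow_two, ← I.add, CharTwo.add_self_eq_zero]
      have h := I.add 0 0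
      rw [add_zero] at h
      exact left_eq_mul.1 h
    obtain ⟨Λ⟩ := Cfsg.Agent.Lib.TwoTimesPSL.Setup.exists_lifts ht hP e I.T0 hTp I.odd
    exact Cfsg.Agent.Lib.TwoTimesPSL.elem_case hG ht (by rw [Nat.card_eq_fintype_card]; omega) I Λ S
  · have hK : Nat.card (GaloisField 2 2) = 4 := by rw [GaloisField.card 2 2 two_ne_zero]; norm_num
    haveI : Finite (GaloisField 2 2) := Nat.finite_of_card_ne_zero (by omega)
    by_cases h35 : Fintype.card F % 8 = 3 ∨ Fintype.card F % 8 = 5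
    · obtain ⟨I⟩ := Cfsg.Agent.Lib.TwoTimesPSL.PSLInput.four_input (F := F) h35 hK
      have hTp : IsPGroup 2 I.T0 := fun ⟨x, hx⟩ => by
        obtain ⟨v, rfl⟩ := (I.mem x).1 hx
        refine ⟨1, Subtype.ext ?_⟩
        show I.η v ^ 2 ^ 1 = 1
        rw [pow_one, pow_two, ← I.add, CharTwo.add_self_eq_zero]
        have h := I.add 0 0
        rw [add_zero] at h
        exact left_eq_mul.1 h
      obtain ⟨Λ⟩ := Cfsg.Agent.Lib.TwoTimesPSL.Setup.exists_lifts ht hP e I.T0 hTp I.odd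
      exact Cfsg.Agent.Lib.TwoTimesPSL.elem_case hG ht (by rw [hK]; norm_num) I Λ S
    · obtain ⟨I⟩ := Cfsg.Agent.Lib.TwoTimesPSL.PSLInput.dih_input (F := F) (by omega)
      obtain ⟨Λ⟩ := Cfsg.Agent.Lib.TwoTimesPSL.Setup.exists_lifts ht hP e I.T0 I.pgroup I.odd
      exact (Cfsg.Agent.Lib.TwoTimesPSL.dih_case hG ht I Λ hK).elim

end Cfsg.Agent.S3216
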