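import Cfsg.Statements.S3222
import Cfsg.Agent.Lib.TwoSymFour12.Main
import Cfsg.Agent.Lib.FpfLinear.Perfect

set_option autoImplicit false
open Cfsg

namespace Cfsg.Agent.S3222

/-- Let G be a finite group of even order such that (1) some involution t lying in the centre of a Sylow 2-subgroup of G has C_G(t) ≅ Z₂ × S₄, and (2) every Sylow 2-subgroup S of G satisfies C_G(S′) = S, where S′ is the derived subgroup of S. Then G = C_G(t) if G is solvable, and G ≅ S₆ otherwise. -/
theorem result {G : Type*} [Group G] [Finite G] (hev : Even (Nat.card G))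
    (t : G) (ht : orderOf t = 2) (T : Sylow 2 G) (htT : t ∈ (T : Subgroup G)) (htc : ∀ s ∈ (T : Subgroup G), s * t = t * s)
    (e : ↥(Subgroup.centralizer ({t} : Set G)) ≃* (Multiplicative (ZMod 2) × Equiv.Perm (Fin 4)))
    (h2 : ∀ S : Sylow 2 G, Subgroup.centralizer ((⁅(S : Subgroup G), (S : Subgroup G)⁆ : Subgroup G) : Set G) = (S : Subgroup G)) :
    (Group.IsSolvable G → Subgroup.centralizer ({t} : Set G) = ⊤) ∧
      (¬ Group.IsSolvable G → Nonempty (G ≃* Equiv.Perm (Fin 6))) := by
  classical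
  have hT : (T : Subgroup G) ≤ Subgroup.centralizer ({t} : Set G) := fun s hs =>
    Subgroup.mem_centralizer_singleton_iff.2 (htc s hs)
  let h : Lib.TwoSymFour12.Setup G := ⟨t, ht, e, ⟨T, hT⟩, h2⟩
  by_cases hiso : ∀ g : G, g * h.t * g⁻¹ ∈ h.P → g * h.t * g⁻¹ = h.t
  · have htop : Subgroup.centralizer ({t} : Set G) = ⊤ := h.centralizer_eq_top hiso
    refine ⟨fun _ => htop, fun hns => absurd ?_ hns⟩
    let e' : G ≃* Lib.TwoSymFour12.Q :=
      Subgroup.topEquiv.symm.trans ((MulEquiv.subgroupCongr htop.symm).trans h.e)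
    haveI : Group.IsSolvable (Equiv.Perm (Fin 4)) := Lib.FpfLinear.Perfect.solvable_perm_le_four (by simp)
    exact Group.isSolvable_of_isSolvable_injective (f := e'.toMonoidHom) e'.injective
  · obtain ⟨h', -, hs⟩ := h.exists_fused hiso
    obtain ⟨e6⟩ := h'.equiv_symSix hs
    refine ⟨fun hsol => absurd ?_ (Equiv.Perm.not_isSolvable (Fin 6) (by rw [Cardinal.mk_fin]; norm_num)), fun _ => ⟨e6⟩⟩
    haveI := hsol
    exact Group.isSolvable_of_surjective (f := e6.toMonoidHom) e6.surjective

end Cfsg.Agent.S3222
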