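import Cfsg.Statements.S3225
import Mathlib.GroupTheory.Transfer
import Mathlib.GroupTheory.Sylow

set_option autoImplicit false
open Cfsg

namespace Cfsg.Agent.S3225

open MulAction in
theorem result {G : Type*} [Group G] [Finite G] (hev : Even (Nat.card G))
    (hG : ∀ H : Subgroup G, H.index ≠ 2) (S : Sylow 2 G) (M : Subgroup G) (hMS : M ≤ (S : Subgroup G)) (hM : M.relIndex (S : Subgroup G) = 2)
    (n : ℕ) (hn : 1 ≤ n) (hord : ∀ y ∈ (S : Subgroup G), y ∉ M → 2 ^ (n - 1) < orderOf y)
    (x : G) (hx : x ∈ (S : Subgroup G)) (hxn : orderOf x = 2 ^ n) :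
    ∃ g : G, g * x * g⁻¹ ∈ M := by
  classical
  haveI : Fact (Nat.Prime 2) := ⟨Nat.prime_two⟩
  by_contra hcon
  push_neg at hcon
  have hidx : (M.subgroupOf (S : Subgroup G)).index = 2 := hM
  let ϕ : ↥(S : Subgroup G) →* Multiplicative (ZMod 2) :=
    { toFun := fun s => if (s : G) ∈ M then 1 else Multiplicative.ofAdd 1
      map_one' := by simp
      map_mul' := fun a b => by
        have h := Subgroup.mul_mem_iff_of_index_two hidx (a := a) (b := b)
        simp only [Subgroup.mem_subgroupOf, Subgroup.coe_mul] at h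
        simp only [Subgroup.coe_mul]
        by_cases ha : (a : G) ∈ M <;> by_cases hb : (b : G) ∈ M <;> simp [h, ha, hb] <;> decide }
  have hϕ : ∀ s : ↥(S : Subgroup G), ϕ s = if (s : G) ∈ M then 1 else Multiplicative.ofAdd 1 := fun s => rfl
  letI := (S : Subgroup G).fintypeQuotientOfFiniteIndex
  letI : Fintype (Quotient (orbitRel (Subgroup.zpowers x) (G ⧸ (S : Subgroup G)))) := Fintype.ofFinite _
  have hval : MonoidHom.transfer ϕ x = Multiplicative.ofAdd (1 : ZMod 2) := by
    rw [MonoidHom.transfer_eq_prod_quotient_orbitRel_zpowers_quot]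
    have hterm : ∀ q : Quotient (orbitRel (Subgroup.zpowers x) (G ⧸ (S : Subgroup G))),
        ϕ ⟨q.out.out⁻¹ * x ^ Function.minimalPeriod (x • ·) q.out * q.out.out,
            QuotientGroup.out_conj_pow_minimalPeriod_mem (S : Subgroup G) x q.out⟩ =
          Multiplicative.ofAdd ((Function.minimalPeriod (x • ·) q.out : ℕ) : ZMod 2) := by
      intro q
      set m := Function.minimalPeriod (x • ·) q.out with hm
      set c := q.out.out with hc
      rw [hϕ]
      have hdvd : m ∣ 2 ^ n := by
        rw [hm]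
        refine Function.IsPeriodicPt.minimalPeriod_dvd ?_
        show (x • ·)^[2 ^ n] q.out = q.out
        rw [smul_iterate, ← hxn, pow_orderOf_eq_one]
        exact one_smul _ _
      obtain ⟨j, hjn, hj⟩ := (Nat.dvd_prime_pow Nat.prime_two).1 hdvd
      simp only [← hm, ← hc, hj]
      rcases j with _ | j
      · rw [pow_zero]
        have hnot : c⁻¹ * x ^ 1 * c ∉ M := by
          rw [pow_one]
          simpa using hcon c⁻¹
        simp only [pow_one] at hnot
        simp [hnot]
      · have hmem : c⁻¹ * x ^ 2 ^ (j + 1) * c ∈ M := by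
          by_contra hnot
          have h1 := hord _ (hj ▸ QuotientGroup.out_conj_pow_minimalPeriod_mem (S : Subgroup G) x q.out) hnot
          have h2 : orderOf (c⁻¹ * x ^ 2 ^ (j + 1) * c) = orderOf (x ^ 2 ^ (j + 1)) := by
            conv_lhs => rw [show c⁻¹ * x ^ 2 ^ (j + 1) * c = MulAut.conj c⁻¹ (x ^ 2 ^ (j + 1)) by simp]
            exact MulEquiv.orderOf_eq _ _
          rw [h2, orderOf_pow, hxn, Nat.gcd_eq_right (pow_dvd_pow 2 hjn), Nat.pow_div hjn (by norm_num)] at h1
          have h3 : 2 ^ (n - (j + 1)) ≤ 2 ^ (n - 1) := Nat.pow_le_pow_right (by norm_num) (by omega)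
          omega
        rw [if_pos hmem]
        rw [show ((2 ^ (j + 1) : ℕ) : ZMod 2) = 0 from (ZMod.natCast_eq_zero_iff_even).2 ((Nat.even_pow' (Nat.succ_ne_zero j)).2 even_two)]
        rfl
    rw [Finset.prod_congr rfl fun q _ => hterm q, ← ofAdd_sum, ← Nat.cast_sum,
      ← (S : Subgroup G).index_eq_sum_minimalPeriod x]
    congr 1
    exact (ZMod.natCast_eq_one_iff_odd).2 (Nat.odd_iff.2 (by have := S.not_dvd_index; rw [Nat.dvd_iff_mod_eq_zero] at this; omega))
  apply hG (MonoidHom.transfer ϕ).ker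
  have hsurj : Function.Surjective (MonoidHom.transfer ϕ) := by
    intro y
    rcases (by decide : ∀ y : Multiplicative (ZMod 2), y = 1 ∨ y = Multiplicative.ofAdd 1) y with rfl | rfl
    · exact ⟨1, map_one _⟩
    · exact ⟨x, hval⟩
  rw [Subgroup.index_ker, MonoidHom.range_eq_top.2 hsurj, Subgroup.card_top]
  simp

end Cfsg.Agent.S3225
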