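import Cfsg.Statements.S3244
import Cfsg.Agent.Lib.Dichotomy34.Main
import Cfsg.Agent.Lib.ZStar.StronglyClosed

/-!
# A maximal 2-local with non-cyclic centre of its `O₂`

If all these centres are cyclic, every maximal 2-local is the centralizer of a conjugate of the
central involution `z` of `S`, so `z` is isolated, against Glauberman's theorem.
-/

set_option autoImplicit false
set_option linter.style.haveILetI false
open Cfsg

namespace Cfsg.Agent.S3244

open Cfsg.Agent.Lib
open Cfsg.Agent.Lib.Dichotomy34 (IsSylIn)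
open Cfsg.Agent.Lib.Involutions.Basic (orderOf_conj_eq)

universe u

variable {G : Type u} [Group G] [Finite G]

omit [Finite G] in
theorem isTwoLocal_centralizer {x : G} (hx : orderOf x = 2) [Finite G] :
    IsTwoLocal (Subgroup.centralizer ({x} : Set G)) := by
  haveI : Fact (Nat.Prime 2) := ⟨Nat.prime_two⟩
  refine ⟨Subgroup.zpowers x, IsPGroup.of_card (n := 1) (by rw [Nat.card_zpowers, hx, pow_one]),
    ?_, (FTDeps.Row3110.normalizer_zpowers_eq_centralizer hx).symm⟩
  intro h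
  rw [Subgroup.zpowers_eq_bot] at h
  rw [h, orderOf_one] at hx
  omega

/-- A maximal 2-local with cyclic centre of `O₂` is the centralizer of an involution `x`, the only
central involution of each of its Sylow 2-subgroups. -/
theorem maximal_struct (hchar : IsCharacteristicTwoType G) {M : Subgroup G}
    (hM : IsMaximalTwoLocal M) (hcyc : IsCyclic ↥(Subgroup.center ↥(pCore 2 ↥M))) :
    ∃ x : G, orderOf x = 2 ∧ M = Subgroup.centralizer ({x} : Set G) ∧
      ∀ R : Subgroup G, IsSylIn R M → ∀ c ∈ R, c ^ 2 = 1 → c ≠ 1 →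
        (∀ r ∈ R, r * c = c * r) → c = x := by
  classical
  haveI : Fact (Nat.Prime 2) := ⟨Nat.prime_two⟩
  obtain ⟨⟨T, hT, hT1, hMT⟩, hmax⟩ := hM
  subst hMT
  set N := Subgroup.normalizer (T : Set G) with hN
  set Q := pCore 2 ↥N with hQ
  have hC : Subgroup.centralizer (Q : Set ↥N) ≤ Q := hchar.2 T hT hT1
  haveI : Q.Normal := PSolvable.pCore_normal'
  have hQp : IsPGroup 2 ↥Q := Cores.pCore_isPGroup 2
  have hTQ : T.subgroupOf N ≤ Q := by
    intro t ht
    exact Balance.subgroupOf_le_pCore le_rfl hT ht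
  haveI : Nontrivial ↥Q := by
    obtain ⟨t, ht, ht1⟩ := T.bot_or_exists_ne_one.resolve_left hT1
    exact ⟨⟨⟨⟨t, Subgroup.le_normalizer ht⟩, hTQ (show (⟨t, Subgroup.le_normalizer ht⟩ : ↥N) ∈ T.subgroupOf N from ht)⟩, 1,
      fun h => ht1 (congrArg (fun y : ↥Q => ((y : ↥N) : G)) h)⟩⟩
  haveI := hQp.center_nontrivial
  -- the involutions of the centre coincide
  have huniq : ∀ a b : ↥(Subgroup.center ↥Q), a ^ 2 = 1 → a ≠ 1 → b ^ 2 = 1 → b ≠ 1 → a = b := by
    intro a b ha ha1 hb hb1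
    haveI := Fintype.ofFinite ↥(Subgroup.center ↥Q)
    by_contra hab
    have h3 : ({1, a, b} : Finset ↥(Subgroup.center ↥Q)).card = 3 := by
      rw [Finset.card_insert_of_notMem (by simp [ha1.symm, hb1.symm]), Finset.card_pair hab]
    have hle : ({1, a, b} : Finset ↥(Subgroup.center ↥Q)) ⊆
        Finset.univ.filter fun y => y ^ 2 = 1 := by
      intro y hy
      simp only [Finset.mem_insert, Finset.mem_singleton] at hy
      rcases hy with rfl | rfl | rfl <;> simp [ha, hb]
    have := (Finset.card_le_card hle).trans (IsCyclic.card_pow_eq_one_le two_pos)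
    omega
  obtain ⟨k, hk⟩ := IsPGroup.iff_card.1 (hQp.to_subgroup (Subgroup.center ↥Q))
  have hdvd : 2 ∣ Nat.card ↥(Subgroup.center ↥Q) := by
    rcases k with _ | k
    · have := Finite.one_lt_card (α := ↥(Subgroup.center ↥Q))
      rw [hk, pow_zero] at this
      omega
    · rw [hk]; exact dvd_pow_self 2 (Nat.succ_ne_zero k)
  obtain ⟨x₀, hx₀⟩ := exists_prime_orderOf_dvd_card' 2 hdvd
  set x : G := (((x₀ : ↥Q) : ↥N) : G) with hx
  have hxo : orderOf x = 2 := by
    rw [hx, Subgroup.orderOf_coe, Subgroup.orderOf_coe, Subgroup.orderOf_coe, hx₀]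
  have hx2 : x₀ ^ 2 = 1 := by rw [← hx₀, pow_orderOf_eq_one]
  have hx1 : x₀ ≠ 1 := fun h => by rw [h, orderOf_one] at hx₀; omega
  -- elements of `N` centralizing `Q` of order two equal `x`
  have key : ∀ y : ↥N, y ^ 2 = 1 → y ≠ 1 → (∀ q ∈ Q, q * y = y * q) → (y : G) = x := by
    intro y hy2 hy1 hyc
    have hyQ : y ∈ Q := hC (Subgroup.mem_centralizer_iff.2 hyc)
    have hyZ : (⟨y, hyQ⟩ : ↥Q) ∈ Subgroup.center ↥Q :=
      Subgroup.mem_center_iff.2 fun q => Subtype.ext (hyc q q.2)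
    have := huniq ⟨_, hyZ⟩ x₀ (Subtype.ext (Subtype.ext hy2))
      (fun h => hy1 (congrArg (fun w : ↥(Subgroup.center ↥Q) => ((w : ↥Q) : ↥N)) h)) hx2 hx1
    rw [hx, ← this]
  have hxc : ∀ q ∈ Q, q * ((x₀ : ↥Q) : ↥N) = ((x₀ : ↥Q) : ↥N) * q := fun q hq =>
    congrArg Subtype.val (Subgroup.mem_center_iff.1 x₀.2 ⟨q, hq⟩)
  have hNC : N ≤ Subgroup.centralizer ({x} : Set G) := by
    intro g hg
    set n : ↥N := ⟨g, hg⟩ with hn
    have h1 : (↑(n * ((x₀ : ↥Q) : ↥N) * n⁻¹) : G) = x := by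
      refine key _ ?_ ?_ fun q hq => ?_
      · have h2 : ((x₀ : ↥Q) : ↥N) ^ 2 = 1 :=
          congrArg (fun w : ↥(Subgroup.center ↥Q) => ((w : ↥Q) : ↥N)) hx2
        rw [conj_pow, h2, mul_one, mul_inv_cancel]
      · exact fun h => hx1 (Subtype.ext (Subtype.ext (conj_eq_one_iff.1 h)))
      · have h2 := hxc _ (Subgroup.Normal.conj_mem inferInstance q hq n⁻¹)
        have h3 := Dichotomy34.comm_comm h2 n
        simpa [mul_assoc] using h3
    exact Subgroup.mem_centralizer_singleton_iff.2 (mul_inv_eq_iff_eq_mul.1 h1)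
  refine ⟨x, hxo, (hmax _ (isTwoLocal_centralizer hxo) hNC).symm, fun R hR c hc hc2 hc1 hcc => ?_⟩
  have hQR : Q.map N.subtype ≤ R := by
    have hp : IsPGroup 2 ↥((R.subgroupOf N ⊔ Q).map N.subtype) :=
      (((hR.isP.of_equiv (Subgroup.subgroupOfEquivOfLe hR.le).symm).to_sup_of_normal_right hQp)).map _
    have h := hR.max _ hp
      (fun r hr => ⟨⟨r, hR.le hr⟩, Subgroup.mem_sup_left (show (⟨r, hR.le hr⟩ : ↥N) ∈ R.subgroupOf N from hr), rfl⟩)
      (Subgroup.map_subtype_le _)
    exact (Subgroup.map_mono le_sup_right).trans h.le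
  exact key ⟨c, hR.le hc⟩ (Subtype.ext hc2) (fun h => hc1 (congrArg Subtype.val h))
    fun q hq => Subtype.ext (hcc _ (hQR ⟨q, hq, rfl⟩))

theorem exists_maximal {N : Subgroup G} (hN : IsTwoLocal N) :
    ∃ M : Subgroup G, IsMaximalTwoLocal M ∧ N ≤ M := by
  obtain ⟨M, hle, hM⟩ := (Set.toFinite {M : Subgroup G | IsTwoLocal M}).exists_le_maximal hN
  exact ⟨M, ⟨hM.1, fun K hK hMK => le_antisymm (hM.2 hK hMK) hMK⟩, hle⟩

/-- If all the centres are cyclic, the central involution of `S` is isolated. -/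
theorem isolated (hchar : IsCharacteristicTwoType G)
    (hall : ∀ M : Subgroup G, IsMaximalTwoLocal M → IsCyclic ↥(Subgroup.center ↥(pCore 2 ↥M)))
    (S : Sylow 2 G) {z : G} (hz : orderOf z = 2) (hzS : z ∈ (S : Subgroup G))
    (hzc : ∀ s ∈ (S : Subgroup G), s * z = z * s) {k : G}
    (hk : k * z * k⁻¹ ∈ (S : Subgroup G)) : k * z * k⁻¹ = z := by
  classical
  haveI : Fact (Nat.Prime 2) := ⟨Nat.prime_two⟩
  have hz1 : z ≠ 1 := fun h => by rw [h, orderOf_one] at hz; omega
  have hz2 : z ^ 2 = 1 := by rw [← hz, pow_orderOf_eq_one]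
  have hS1 : (S : Subgroup G) ≠ ⊥ := fun h => hz1 (by rwa [h, Subgroup.mem_bot] at hzS)
  set C := Subgroup.centralizer ({z} : Set G) with hC
  have hSC : (S : Subgroup G) ≤ C := fun s hs => Subgroup.mem_centralizer_singleton_iff.2 (hzc s hs)
  have hTC : IsSylIn (S : Subgroup G) C := IsSylIn.of_sylow S hSC
  -- `z` is the only central involution of `S`
  obtain ⟨M₀, hM₀, hle₀⟩ := exists_maximal ⟨(S : Subgroup G), S.2, hS1, rfl⟩
  obtain ⟨x₀, -, -, hu₀⟩ := maximal_struct hchar hM₀ (hall M₀ hM₀)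
  have hT₀ : IsSylIn (S : Subgroup G) M₀ := IsSylIn.of_sylow S (Subgroup.le_normalizer.trans hle₀)
  have huniqS : ∀ c ∈ (S : Subgroup G), c ^ 2 = 1 → c ≠ 1 →
      (∀ s ∈ (S : Subgroup G), s * c = c * s) → c = z := fun c hc hc2 hc1 hcc =>
    (hu₀ _ hT₀ c hc hc2 hc1 hcc).trans (hu₀ _ hT₀ z hzS hz2 hz1 hzc).symm
  -- every 2-local centralizes a conjugate of `z`
  have hloc : ∀ N : Subgroup G, IsTwoLocal N →
      ∃ g : G, N ≤ Subgroup.centralizer ({g * z * g⁻¹} : Set G) := by
    intro N hN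
    obtain ⟨M, hM, hle⟩ := exists_maximal hN
    obtain ⟨x, hx, hMx, hu⟩ := maximal_struct hchar hM (hall M hM)
    obtain ⟨R, hR, -, -⟩ := Dichotomy34.exists_sylIn_le (C := M) (M := ⊤) IsPGroup.of_bot bot_le
      le_top (fun _ _ _ _ _ _ _ _ => Subgroup.mem_top _)
    have hxM : x ∈ M := hMx ▸ Subgroup.mem_centralizer_singleton_iff.2 rfl
    have hxc : ∀ r ∈ R, r * x = x * r := fun r hr => by
      have h1 := hR.le hr
      rw [hMx] at h1
      exact Subgroup.mem_centralizer_singleton_iff.1 h1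
    have hxR : x ∈ R := by
      have hle' : Subgroup.zpowers x ≤ Subgroup.normalizer (R : Set G) :=
        (Subgroup.zpowers_le.2 (Subgroup.mem_centralizer_iff.2 hxc)).trans
          (Subgroup.centralizer_le_normalizer _)
      have hp := hR.isP.to_sup_of_normal_left'
        (IsPGroup.of_card (n := 1) (by rw [Nat.card_zpowers, hx, pow_one]) :
          IsPGroup 2 ↥(Subgroup.zpowers x)) hle'
      rw [← hR.max _ hp le_sup_left (sup_le hR.le (Subgroup.zpowers_le.2 hxM))]
      exact Subgroup.mem_sup_right (Subgroup.mem_zpowers x)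
    have hx2 : x ^ 2 = 1 := by rw [← hx, pow_orderOf_eq_one]
    have hx1 : x ≠ 1 := fun h => by rw [h, orderOf_one] at hx; omega
    obtain ⟨Q, hQ⟩ := hR.isP.exists_le_sylow
    have hRQ : R = (Q : Subgroup G) := by
      by_contra hne
      haveI : Group.IsNilpotent ↥(Q : Subgroup G) := Q.2.isNilpotent
      have hlt := Involutions.StronglyEmbedded.lt_inf_normalizer (lt_of_le_of_ne hQ hne)
      refine hlt.ne (hR.max _ (Q.2.to_le inf_le_left) hlt.le ?_).symm
      rintro n ⟨-, hn⟩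
      rw [hMx]
      refine Subgroup.mem_centralizer_singleton_iff.2 (mul_inv_eq_iff_eq_mul.1 ?_)
      refine hu R hR _ ((Subgroup.mem_normalizer_iff.1 hn x).1 hxR)
        (by rw [conj_pow, hx2, mul_one, mul_inv_cancel]) (fun h => hx1 (conj_eq_one_iff.1 h))
        fun r hr => ?_
      have hr' : n⁻¹ * r * n ∈ R := by
        have h1 := (Subgroup.mem_normalizer_iff.1 (inv_mem hn) r).1 hr
        simpa using h1
      simpa [mul_assoc] using Dichotomy34.comm_comm (hxc _ hr') n
    obtain ⟨g, hg⟩ := MulAction.exists_smul_eq G Q S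
    have hmemS : ∀ s, s ∈ (S : Subgroup G) ↔ g⁻¹ * s * g ∈ R := by
      intro s
      rw [← hg, Sylow.coe_subgroup_smul, Subgroup.mem_pointwise_smul_iff_inv_smul_mem, hRQ]
      simp [MulAut.smul_def]
    have hgx : g * x * g⁻¹ = z := huniqS _ ((hmemS _).2 (by simpa [mul_assoc] using hxR))
      (by rw [conj_pow, hx2, mul_one, mul_inv_cancel]) (fun h => hx1 (conj_eq_one_iff.1 h))
      fun s hs => by
        simpa [mul_assoc] using Dichotomy34.comm_comm (hxc _ ((hmemS s).1 hs)) g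
    refine ⟨g⁻¹, ?_⟩
    rw [show g⁻¹ * z * g⁻¹⁻¹ = x by rw [← hgx]; group, ← hMx]
    exact hle
  -- maximize the centralizer in `S` of a conjugate `b ≠ z` of `z`
  by_contra hne
  haveI : Nonempty {b : G // b ∈ (S : Subgroup G) ∧ (∃ g, g * z * g⁻¹ = b) ∧ b ≠ z} :=
    ⟨⟨_, hk, ⟨k, rfl⟩, hne⟩⟩
  obtain ⟨⟨b, hbS, ⟨kb, hkb⟩, hbz⟩, hmax⟩ := Finite.exists_max
    (fun b : {b : G // b ∈ (S : Subgroup G) ∧ (∃ g, g * z * g⁻¹ = b) ∧ b ≠ z} =>
      Nat.card ↥((S : Subgroup G) ⊓ Subgroup.centralizer ({(b : G)} : Set G) : Subgroup G))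
  set D := (S : Subgroup G) ⊓ Subgroup.centralizer ({b} : Set G) with hD
  have hbD : b ∈ D := ⟨hbS, Subgroup.mem_centralizer_singleton_iff.2 rfl⟩
  have hzD : z ∈ D := ⟨hzS, Subgroup.mem_centralizer_singleton_iff.2 (hzc b hbS).symm⟩
  have hD1 : D ≠ ⊥ := fun h => hz1 (by rwa [h, Subgroup.mem_bot] at hzD)
  have hDp : IsPGroup 2 ↥D := S.2.to_le inf_le_left
  -- a conjugate in `S` with larger centralizer in `S` is `z`
  have hbig : ∀ (T : Subgroup G) (c : G), IsPGroup 2 ↥T → D < T → T ≤ C →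
      T ≤ Subgroup.centralizer ({c} : Set G) → (∃ g, g * z * g⁻¹ = c) → c ∈ C → c = z := by
    intro T c hTp hlt hTC' hTc hconj hcC
    have hc2 : c ^ 2 = 1 := by
      obtain ⟨g, rfl⟩ := hconj
      rw [conj_pow, hz2, mul_one, mul_inv_cancel]
    have hp : IsPGroup 2 ↥(T ⊔ Subgroup.zpowers c) := hTp.to_sup_of_normal_left'
      ((PGroups.elemAb_isPGroup (PGroups.elemAb_zpowers hc2)) : IsPGroup 2 ↥(Subgroup.zpowers c))
      ((Subgroup.zpowers_le.2 (Subgroup.mem_centralizer_iff.2 fun t ht =>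
        Subgroup.mem_centralizer_singleton_iff.1 (hTc ht))).trans
        (Subgroup.centralizer_le_normalizer _))
    obtain ⟨m, hm, hmT⟩ := hTC.exists_conj_le hp (sup_le hTC' (Subgroup.zpowers_le.2 hcC))
    have hmz : m * z * m⁻¹ = z := mul_inv_eq_iff_eq_mul.2 (Subgroup.mem_centralizer_singleton_iff.1 hm)
    have hmc : m * c * m⁻¹ = z := by
      by_contra hne'
      have h1 := hmax ⟨m * c * m⁻¹, hmT ⟨c, Subgroup.mem_sup_right (Subgroup.mem_zpowers c), rfl⟩,
        (hconj.elim fun g hg => ⟨m * g, by rw [← hg]; group⟩), hne'⟩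
      have h2 : T.map (MulAut.conj m).toMonoidHom ≤
          (S : Subgroup G) ⊓ Subgroup.centralizer ({m * c * m⁻¹} : Set G) := by
        refine le_inf ((Subgroup.map_mono le_sup_left).trans hmT) ?_
        rintro _ ⟨t, ht, rfl⟩
        exact Dichotomy34.mem_centralizer_conj (hTc ht)
      have h3 := Subgroup.card_le_of_le h2
      rw [Subgroup.card_map_of_injective (MulAut.conj m).injective] at h3
      have h4 := Signalizer.card_lt_of_lt hlt
      have h5 := h1
      simp only at h5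
      omega
    exact mul_left_cancel (mul_right_cancel (hmc.trans hmz.symm))
  have hDS : D < (S : Subgroup G) := lt_of_le_of_ne inf_le_left fun h => hbz (huniqS b hbS
    (by rw [← hkb, conj_pow, hz2, mul_one, mul_inv_cancel])
    (by rw [← hkb]; exact fun h' => hz1 (conj_eq_one_iff.1 h'))
    fun s hs => Subgroup.mem_centralizer_singleton_iff.1 ((h ▸ hs : s ∈ D)).2)
  obtain ⟨g, hg⟩ := hloc (Subgroup.normalizer (D : Set G)) ⟨D, hDp, hD1, rfl⟩
  haveI : Group.IsNilpotent ↥(S : Subgroup G) := S.2.isNilpotent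
  have hgz : g * z * g⁻¹ = z := by
    refine hbig ((S : Subgroup G) ⊓ Subgroup.normalizer (D : Set G)) _ (S.2.to_le inf_le_left)
      (Involutions.StronglyEmbedded.lt_inf_normalizer hDS) (inf_le_left.trans hSC)
      (inf_le_right.trans hg) ⟨g, rfl⟩ (Subgroup.mem_centralizer_singleton_iff.2 ?_)
    exact (Subgroup.mem_centralizer_singleton_iff.1 (hg (Subgroup.le_normalizer hzD))).symm
  rw [hgz] at hg
  -- a Sylow subgroup of `C(b)` above `D`
  have hkC : (S : Subgroup G).map (MulAut.conj kb).toMonoidHom ≤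
      Subgroup.centralizer ({b} : Set G) := by
    rintro _ ⟨s, hs, rfl⟩
    rw [← hkb]
    exact Dichotomy34.mem_centralizer_conj (hSC hs)
  have hTb : IsSylIn ((S : Subgroup G).map (MulAut.conj kb).toMonoidHom)
      (Subgroup.centralizer ({b} : Set G)) := by
    refine ⟨hkC, S.2.map _, fun T' hT' hle _ => ?_⟩
    obtain ⟨Q, hQ⟩ := hT'.exists_le_sylow
    refine le_antisymm ?_ hle
    refine hQ.trans (Subgroup.eq_of_le_of_card_ge (hle.trans hQ) ?_).ge
    rw [Subgroup.card_map_of_injective (MulAut.conj kb).injective, Sylow.card_eq_multiplicity,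
      Sylow.card_eq_multiplicity]
  obtain ⟨m, hm, hmD⟩ := hTb.exists_conj_le hDp inf_le_right
  set R := ((S : Subgroup G).map (MulAut.conj kb).toMonoidHom).map (MulAut.conj m⁻¹).toMonoidHom
    with hR
  have hRC : R ≤ Subgroup.centralizer ({b} : Set G) := by
    rintro _ ⟨r, hr, rfl⟩
    simpa using mul_mem (mul_mem (inv_mem hm) (hkC hr)) hm
  have hDR : D < R := by
    refine lt_of_le_of_ne (fun d hd => ⟨_, hmD ⟨d, hd, rfl⟩, by simp [mul_assoc]⟩) fun h => ?_
    have h1 := Signalizer.card_lt_of_lt hDS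
    rw [h, hR, Subgroup.card_map_of_injective (MulAut.conj m⁻¹).injective,
      Subgroup.card_map_of_injective (MulAut.conj kb).injective] at h1
    omega
  haveI : Group.IsNilpotent ↥R := ((S.2.map _).map _).isNilpotent
  exact hbz (hbig (R ⊓ Subgroup.normalizer (D : Set G)) b (((S.2.map _).map _).to_le inf_le_left)
    (Involutions.StronglyEmbedded.lt_inf_normalizer hDR) (inf_le_right.trans hg)
    (inf_le_left.trans hRC) ⟨kb, hkb⟩ (hSC hbS))

/-- Say that a finite group G is of characteristic 2 type in the early sense when a Sylow 2-subgroup S of G has a self-centralizing normal subgroup of rank at least 3, S normalizes no nontrivial subgroup of odd order, and every 2-local subgroup of G is 2-constrained. If G is a non-abelian simple group of characteristic 2 type in this sense, then for some maximal 2-local subgroup M of G the centre of O₂(M) is not cyclic. -/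
theorem result {G : Type*} [Group G] [Finite G] [IsSimpleGroup G]
    (hG : ¬ IsMulCommutative G) (S : Sylow 2 G) (A : Subgroup G) (hA : Cfsg.IsSCN (S : Subgroup G) A) (hA3 : ¬ Cfsg.PRankLE 2 2 ↥A)
    (hinv : ∀ X : Subgroup G, Odd (Nat.card ↥X) → (S : Subgroup G) ≤ Subgroup.normalizer (X : Set G) → X = ⊥)
    (hcon : ∀ T : Subgroup G, IsPGroup 2 ↥T → T ≠ ⊥ → Cfsg.IsPConstrained 2 ↥(Subgroup.normalizer (T : Set G))) :
    ∃ M : Subgroup G, Cfsg.IsMaximalTwoLocal M ∧ ¬ IsCyclic ↥(Subgroup.center ↥(Cfsg.pCore 2 ↥M)) := by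
  haveI : Fact (Nat.Prime 2) := ⟨Nat.prime_two⟩
  have h3 : ¬ Cfsg.PRankLE 2 2 G := by
    intro h
    refine hA3 fun E hEc hE => ?_
    haveI := hEc
    have h' := PGroups.elemAb_map A.subtype (show IsElementaryAbelian 2 E from ⟨hEc, hE⟩)
    have := h _ h'.1 h'.2
    rwa [Subgroup.card_map_of_injective (f := A.subtype) A.subtype_injective] at this
  have hlocal : ∀ t : G, orderOf t = 2 →
      pLayer 2 ↥(Subgroup.centralizer ({t} : Set G)) = ⊥ ∧
        Cfsg.IsPConstrained 2 ↥(Subgroup.centralizer ({t} : Set G)) := fun t ht => by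
    obtain ⟨T, hT, hT1, hTN⟩ := isTwoLocal_centralizer ht
    rw [hTN]
    exact ⟨FTDeps.Row3110.pLayer_eq_bot_of_isPConstrained (hcon T hT hT1), hcon T hT hT1⟩
  obtain ⟨X, hXS⟩ := Dichotomy34.exists_ctx_of h3 hlocal S
  have hidx : ∀ N : Subgroup G, N.index ≠ 2 := by
    intro N hN
    haveI := Subgroup.normal_of_index_eq_two hN
    rcases IsSimpleGroup.eq_bot_or_eq_top_of_normal N inferInstance with h | h
    · rw [h, Subgroup.index_bot] at hN
      haveI : IsCyclic G := isCyclic_of_prime_card (p := 2) hN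
      exact hG ⟨⟨IsCyclic.commGroup.mul_comm⟩⟩
    · rw [h, Subgroup.index_top] at hN
      omega
  have hW : X.W = ⊥ := hinv _ X.W_odd (hXS ▸ X.S_le_M)
  have hchar := X.isCharacteristicTwoType_of_cores fun t ht => X.cores_eq_bot_of_W hidx hW ht
  by_contra hcon'
  push Not at hcon'
  obtain ⟨N, hN, hNodd, hNc⟩ := ZStar.StronglyClosed.involutionThm G S X.z X.orderOf_z
    (hXS ▸ X.hzS) fun g hg => isolated hchar hcon' S X.orderOf_z (hXS ▸ X.hzS)
      (hXS ▸ X.hzc) hg
  rcases IsSimpleGroup.eq_bot_or_eq_top_of_normal N hN with h | h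
  · have hzc : X.z ∈ Subgroup.center G := Subgroup.mem_center_iff.2 fun g => by
      have h1 := hNc g
      rw [h, Subgroup.mem_bot, mul_inv_eq_one, mul_inv_eq_iff_eq_mul] at h1
      exact h1.symm
    rcases IsSimpleGroup.eq_bot_or_eq_top_of_normal (Subgroup.center G) inferInstance with h1 | h1
    · rw [h1, Subgroup.mem_bot] at hzc
      exact X.hz1 hzc
    · exact hG ⟨⟨fun a b => (Subgroup.mem_center_iff.1 (h1.symm ▸ Subgroup.mem_top b) a)⟩⟩
  · rw [h, Subgroup.card_top] at hNodd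
    have h2 : orderOf X.z ∣ Nat.card G := orderOf_dvd_natCard _
    rw [X.orderOf_z] at h2
    exact (Nat.not_even_iff_odd.2 hNodd) (even_iff_two_dvd.2 h2)

end Cfsg.Agent.S3244
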