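import Cfsg.Statements.S3246
import Cfsg.Agent.Lib.SylowInter.CharLocal
import Cfsg.Agent.Lib.PGroups.Omega

set_option autoImplicit false
open Cfsg

namespace Cfsg.Agent.S3246

theorem result {G : Type*} [Group G] [Finite G]
    (S : Sylow 2 G) (A : Subgroup G) (hA : Cfsg.IsSCN (S : Subgroup G) A) (hA3 : ¬ Cfsg.PRankLE 2 2 ↥A)
    (h : (∀ M : Subgroup G, Cfsg.IsMaximalTwoLocal M → Cfsg.IsPConstrained 2 ↥M ∧ Cfsg.oddCore ↥M = ⊥) ∨
      (∀ t : G, orderOf t = 2 → Cfsg.IsPConstrained 2 ↥(Subgroup.centralizer ({t} : Set G)) ∧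
        Cfsg.oddCore ↥(Subgroup.centralizer ({t} : Set G)) = ⊥)) :
    (∀ X : Subgroup G, Odd (Nat.card ↥X) → (S : Subgroup G) ≤ Subgroup.normalizer (X : Set G) → X = ⊥) ∧
      (∀ T : Subgroup G, IsPGroup 2 ↥T → T ≠ ⊥ → Cfsg.IsPConstrained 2 ↥(Subgroup.normalizer (T : Set G))) := by
  classical
  haveI : Fact (Nat.Prime 2) := ⟨Nat.prime_two⟩
  -- all 2-locals have characteristic 2
  have hloc : ∀ T : Subgroup G, IsPGroup 2 ↥T → T ≠ ⊥ →
      Subgroup.centralizer (pCore 2 ↥(Subgroup.normalizer (T : Set G)) : Set ↥(Subgroup.normalizer (T : Set G)))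
        ≤ pCore 2 ↥(Subgroup.normalizer (T : Set G)) := by
    intro T hT hT1
    rcases h with h | h
    · obtain ⟨M, hM, hle⟩ := Cfsg.Agent.Lib.SylowInter.CharLocal.exists_maximal_twoLocal hT hT1
      exact Cfsg.Agent.Lib.SylowInter.CharLocal.charP_normalizer_le
        (Cfsg.Agent.Lib.SylowInter.CharLocal.charP_iff_constrained.2 (h M hM)) hT hle
    · exact Cfsg.Agent.Lib.Balance.centralizer_pCore_le_local
        (fun t ht => Cfsg.Agent.Lib.SylowInter.CharLocal.charP_iff_constrained.2 (h t ht)) hT hT1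
  refine ⟨?_, fun T hT hT1 => (Cfsg.Agent.Lib.SylowInter.CharLocal.charP_iff_constrained.1 (hloc T hT hT1)).1⟩
  intro X hXodd hSX
  obtain ⟨hAS, hSA, hCA⟩ := hA
  -- an elementary abelian normal subgroup of S of order at least 4
  unfold Cfsg.PRankLE at hA3
  push_neg at hA3
  obtain ⟨B, hBc, hB2, hBcard⟩ := hA3
  have hAc : ∀ a ∈ A, ∀ b ∈ A, a * b = b * a := by
    intro a ha b hb
    have hm : a ∈ (S : Subgroup G) ⊓ Subgroup.centralizer (A : Set G) := hCA.symm ▸ ha
    exact (Subgroup.mem_centralizer_iff.1 hm.2 b hb).symm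
  let Ω : Subgroup ↥(S : Subgroup G) :=
    { carrier := {s | (s : G) ∈ A ∧ (s : G) * s = 1}
      one_mem' := ⟨A.one_mem, by simp⟩
      mul_mem' := fun {a b} ha hb => ⟨A.mul_mem ha.1 hb.1, by
        simp only [Subgroup.coe_mul]
        rw [mul_assoc, ← mul_assoc (b : G), hAc _ hb.1 _ ha.1, mul_assoc, hb.2, mul_one, ha.2]⟩
      inv_mem' := fun {a} ha => ⟨A.inv_mem ha.1, by
        simp only [Subgroup.coe_inv]
        rw [← mul_inv_rev, ha.2, inv_one]⟩ }
  haveI hΩn : Ω.Normal := by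
    refine ⟨fun a ha g => ⟨?_, ?_⟩⟩
    · simpa using (Subgroup.mem_normalizer_iff.1 (hSA g.2) _).1 ha.1
    · simp only [Subgroup.coe_mul, Subgroup.coe_inv]
      calc (g : G) * a * (g : G)⁻¹ * (g * a * (g : G)⁻¹) = g * (a * a) * (g : G)⁻¹ := by group
        _ = 1 := by rw [ha.2]; group
  have hΩ4 : 2 ^ 2 ≤ Nat.card Ω := by
    refine le_of_lt (lt_of_lt_of_le hBcard (Nat.card_le_card_of_injective
      (fun b => (⟨⟨((b : ↥A) : G), hAS (b : ↥A).2⟩, (b : ↥A).2, ?_⟩ : Ω)) ?_))
    · have := congrArg Subtype.val (hB2 b b.2)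
      simpa [pow_two] using this
    · intro a b hab
      exact Subtype.ext (Subtype.ext (congrArg (fun z : Ω => ((z : ↥(S : Subgroup G)) : G)) hab))
  obtain ⟨U, hUn, hUΩ, hU4⟩ := Cfsg.Agent.Lib.PGroups.exists_normal_le_card S.2 Ω hΩ4
  haveI := hUn
  have hUne : U ≠ ⊥ := fun hb => by rw [hb, Subgroup.card_bot] at hU4; norm_num at hU4
  obtain ⟨Z, hZU, hZc, -, hZ2⟩ := Cfsg.Agent.Lib.PGroups.exists_central_card_prime S.2 U hUne
  obtain ⟨z, hzo⟩ := exists_prime_orderOf_dvd_card' 2 (dvd_of_eq hZ2.symm : 2 ∣ Nat.card Z)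
  have hz1 : (z : ↥(S : Subgroup G)) ≠ 1 := fun h1 => by
    rw [show z = 1 from Subtype.ext h1, orderOf_one] at hzo; norm_num at hzo
  obtain ⟨a, haU, ha1, haz⟩ : ∃ a ∈ U, a ≠ 1 ∧ a ≠ (z : ↥(S : Subgroup G)) := by
    by_contra hcon
    push_neg at hcon
    have hsub : (U : Set ↥(S : Subgroup G)) ⊆ {1, (z : ↥(S : Subgroup G))} := fun a ha => by
      by_cases h1 : a = 1
      · exact Or.inl h1
      · exact Or.inr (hcon a ha h1)
    have hle := (Set.ncard_le_ncard hsub (Set.toFinite _)).trans (Set.ncard_insert_le _ _)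
    rw [Set.ncard_singleton, show (U : Set ↥(S : Subgroup G)).ncard = Nat.card U from rfl, hU4] at hle
    norm_num at hle
  -- involutions of `U` have no fixed points on `X`
  have hfix : ∀ u ∈ U, u ≠ 1 → ∀ x ∈ X, (u : G) * x = x * u → x = 1 := by
    intro u hu hu1 x hx hux
    set C := Subgroup.centralizer ({(u : G)} : Set G) with hCdef
    have huo : orderOf (u : G) = 2 := orderOf_eq_prime (by rw [pow_two]; exact (hUΩ hu).2)
      (fun h1 => hu1 (Subtype.ext h1))
    have hNC : Subgroup.normalizer ((Subgroup.zpowers (u : G) : Subgroup G) : Set G) = C := by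
      ext g
      rw [hCdef, Subgroup.mem_centralizer_singleton_iff, Subgroup.mem_normalizer_iff]
      constructor
      · intro hg
        have hm := (hg u).1 (Subgroup.mem_zpowers _)
        obtain ⟨i, hi⟩ := Subgroup.mem_zpowers_iff.1 hm
        rcases Int.even_or_odd' i with ⟨j, rfl | rfl⟩
        · rw [zpow_mul, zpow_two, (hUΩ hu).2, one_zpow] at hi
          have : (u : G) = 1 := by
            calc (u : G) = g⁻¹ * (g * u * g⁻¹) * g := by group
              _ = 1 := by rw [← hi]; group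
          exact absurd (Subtype.ext this) hu1
        · rw [zpow_add, zpow_mul, zpow_two, (hUΩ hu).2, one_zpow, one_mul, zpow_one] at hi
          exact (mul_inv_eq_iff_eq_mul.1 hi.symm)
      · intro hg y
        have hcm : ∀ i : ℤ, g * (u : G) ^ i * g⁻¹ = (u : G) ^ i := fun i => by
          rw [((show Commute g (u : G) from hg).zpow_right i).eq, mul_inv_cancel_right]
        constructor
        · intro hy
          obtain ⟨i, rfl⟩ := Subgroup.mem_zpowers_iff.1 hy
          exact Subgroup.mem_zpowers_iff.2 ⟨i, (hcm i).symm⟩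
        · intro hy
          obtain ⟨i, hi⟩ := Subgroup.mem_zpowers_iff.1 hy
          refine Subgroup.mem_zpowers_iff.2 ⟨i, mul_left_cancel (a := g) ?_⟩
          apply mul_right_cancel (b := g⁻¹)
          rw [hcm i, hi]
    have hchar : Subgroup.centralizer (pCore 2 ↥C : Set ↥C) ≤ pCore 2 ↥C := by
      have := hloc (Subgroup.zpowers (u : G)) (IsPGroup.of_card (n := 1) (by rw [Nat.card_zpowers, huo, pow_one]))
        (by rw [Ne, Subgroup.zpowers_eq_bot]; intro h1; rw [h1, orderOf_one] at huo; norm_num at huo)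
      exact Cfsg.Agent.Lib.SylowInter.CharLocal.charP_congr (MulEquiv.subgroupCongr hNC) this
    set S₁ := (S : Subgroup G) ⊓ C with hS₁
    obtain ⟨T, hT⟩ := (IsPGroup.of_equiv (S.2.to_le (inf_le_left : S₁ ≤ _))
      (Subgroup.subgroupOfEquivOfLe (inf_le_right : S₁ ≤ C)).symm).exists_le_sylow
    have hTQ : pCore 2 ↥C ≤ (T : Subgroup ↥C) := Cfsg.Agent.Lib.Cores.pCore_le_sylow T
    -- two elements outside `S₁` differ by an element of `S₁`
    have hidx : S₁.relIndex (S : Subgroup G) ≤ 2 := by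
      by_cases hall : ∀ s ∈ (S : Subgroup G), s ∈ C
      · rw [Subgroup.relIndex_eq_one.2 (le_inf le_rfl hall)]; norm_num
      push_neg at hall
      obtain ⟨s₀, hs₀S, hs₀C⟩ := hall
      refine Nat.le_of_dvd (by norm_num) (Subgroup.relIindex_dvd_two_iff'.2 ⟨s₀, hs₀S, fun b hb => ?_⟩)
      by_cases hbC : b ∈ C
      · exact Or.inr ⟨hb, hbC⟩
      left
      -- the three involutions of `U`
      have hU3 : ∀ v ∈ U, v ≠ 1 → v ≠ (z : ↥(S : Subgroup G)) → v ≠ u →
          ∀ w ∈ U, w ≠ 1 → w ≠ (z : ↥(S : Subgroup G)) → w ≠ u → v = w := by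
        intro v hv hv1 hvz hvu w hw hw1 hwz hwu
        by_contra hvw
        have huz : u ≠ (z : ↥(S : Subgroup G)) := by
          intro huz
          apply hs₀C
          rw [hCdef, Subgroup.mem_centralizer_singleton_iff, huz]
          exact congrArg Subtype.val (Subgroup.mem_center_iff.1 (hZc z.2) ⟨s₀, hs₀S⟩)
        have hsub : ({1, (z : ↥(S : Subgroup G)), u, v, w} : Set ↥(S : Subgroup G)) ⊆ U := by
          intro y hy
          simp only [Set.mem_insert_iff, Set.mem_singleton_iff] at hy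
          rcases hy with rfl | rfl | rfl | rfl | rfl
          exacts [U.one_mem, hZU z.2, hu, hv, hw]
        have hle := Set.ncard_le_ncard hsub (Set.toFinite _)
        rw [show (U : Set ↥(S : Subgroup G)).ncard = Nat.card U from rfl, hU4] at hle
        rw [Set.ncard_insert_of_notMem, Set.ncard_insert_of_notMem, Set.ncard_insert_of_notMem,
          Set.ncard_pair hvw] at hle
        · norm_num at hle
        all_goals simp only [Set.mem_insert_iff, Set.mem_singleton_iff, not_or]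
        · exact ⟨Ne.symm hvu, Ne.symm hwu⟩
        · exact ⟨Ne.symm huz, Ne.symm hvz, Ne.symm hwz⟩
        · exact ⟨Ne.symm hz1, Ne.symm hu1, Ne.symm hv1, Ne.symm hw1⟩
      have key : ∀ (s : G) (hs : s ∈ (S : Subgroup G)), s ∉ C →
          let v : ↥(S : Subgroup G) := (⟨s, hs⟩ : ↥(S : Subgroup G))⁻¹ * u * ⟨s, hs⟩
          v ∈ U ∧ v ≠ 1 ∧ v ≠ (z : ↥(S : Subgroup G)) ∧ v ≠ u := by
        intro s hs hsC
        set s' : ↥(S : Subgroup G) := ⟨s, hs⟩ with hs'
        refine ⟨by simpa using hUn.conj_mem u hu s'⁻¹, fun h1 => hu1 ?_, fun h1 => hsC ?_, fun h1 => hsC ?_⟩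
        · calc u = s' * (s'⁻¹ * u * s') * s'⁻¹ := by group
            _ = 1 := by rw [h1]; group
        · have hzc := Subgroup.mem_center_iff.1 (hZc z.2) s'
          have huz : u = z := by
            calc u = s' * (s'⁻¹ * u * s') * s'⁻¹ := by group
              _ = z := by rw [h1, hzc, mul_inv_cancel_right]
          rw [hCdef, Subgroup.mem_centralizer_singleton_iff, huz]
          exact congrArg Subtype.val hzc
        · rw [hCdef, Subgroup.mem_centralizer_singleton_iff]
          have h2 : u * s' = s' * u := by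
            calc u * s' = s' * (s'⁻¹ * u * s') := by group
              _ = s' * u := by rw [h1]
          exact (congrArg Subtype.val h2).symm
      obtain ⟨h1, h2, h3, h4⟩ := key b⁻¹ ((S : Subgroup G).inv_mem hb) (fun hh => hbC (inv_inv b ▸ C.inv_mem hh))
      obtain ⟨k1, k2, k3, k4⟩ := key s₀ hs₀S hs₀C
      have heq := congrArg Subtype.val (hU3 _ h1 h2 h3 h4 _ k1 k2 k3 k4)
      simp only [Subgroup.coe_mul, Subgroup.coe_inv] at heq
      refine ⟨(S : Subgroup G).mul_mem hs₀S hb, ?_⟩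
      show s₀ * b ∈ C
      rw [hCdef, Subgroup.mem_centralizer_singleton_iff]
      calc s₀ * b * (u : G) = s₀ * (b⁻¹⁻¹ * (u : G) * b⁻¹) * b := by group
        _ = s₀ * (s₀⁻¹ * (u : G) * s₀) * b := by rw [heq]
        _ = (u : G) * (s₀ * b) := by group
    have hxC : x ∈ C := Subgroup.mem_centralizer_singleton_iff.2 hux.symm
    set S₁' := S₁.subgroupOf C with hS₁'
    have hcS₁ : Nat.card S₁' = Nat.card S₁ := Nat.card_congr (Subgroup.subgroupOfEquivOfLe inf_le_right).toEquiv
    have hTS : Nat.card (T : Subgroup ↥C) ≤ Nat.card (S : Subgroup G) := by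
      obtain ⟨S', hS'⟩ := (T.isPGroup'.map C.subtype).exists_le_sylow
      rw [← Subgroup.card_map_of_injective (C.subtype_injective)]
      refine (Subgroup.card_le_of_le hS').trans (le_of_eq ?_)
      rw [S'.card_eq_multiplicity, S.card_eq_multiplicity]
    have hTi : S₁'.relIndex (T : Subgroup ↥C) ≤ 2 := by
      have h1 := Subgroup.relIndex_mul_relIndex ⊥ S₁' (T : Subgroup ↥C) bot_le hT
      have h2 := Subgroup.relIndex_mul_relIndex ⊥ S₁ (S : Subgroup G) bot_le inf_le_left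
      rw [Subgroup.relIndex_bot_left, Subgroup.relIndex_bot_left] at h1 h2
      rw [hcS₁] at h1
      refine Nat.le_of_mul_le_mul_left ?_ (Nat.card_pos (α := ↥S₁))
      calc Nat.card S₁ * S₁'.relIndex (T : Subgroup ↥C) ≤ Nat.card (S : Subgroup G) := h1 ▸ hTS
        _ = Nat.card S₁ * S₁.relIndex (S : Subgroup G) := h2.symm
        _ ≤ Nat.card S₁ * 2 := Nat.mul_le_mul_left _ hidx
    set x' : ↥C := ⟨x, hxC⟩ with hx'
    have hxo : Odd (orderOf x) := hXodd.of_dvd_nat (X.orderOf_dvd_natCard hx)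
    have hQp : IsPGroup 2 ↥(pCore 2 ↥C) := Cfsg.Agent.Lib.Cores.pCore_isPGroup 2
    have hcomm : ∀ r ∈ pCore 2 ↥C, r ∈ S₁' → Commute x' r := by
      intro r hr hr1
      have hcQ : x' * r * x'⁻¹ * r⁻¹ ∈ pCore 2 ↥C :=
        mul_mem (Subgroup.Normal.conj_mem inferInstance r hr x') (inv_mem hr)
      have hcX : ((x' * r * x'⁻¹ * r⁻¹ : ↥C) : G) ∈ X := by
        simp only [Subgroup.coe_mul, Subgroup.coe_inv]
        rw [mul_assoc x (r : G), mul_assoc]
        exact X.mul_mem hx ((Subgroup.mem_normalizer_iff.1 (hSX hr1.1) _).1 (X.inv_mem hx))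
      obtain ⟨k, hk⟩ := hQp ⟨_, hcQ⟩
      have h1 : orderOf ((x' * r * x'⁻¹ * r⁻¹ : ↥C) : G) = 1 :=
        Nat.eq_one_of_dvd_coprimes ((Nat.coprime_two_left.2 hXodd).pow_left k)
          (orderOf_dvd_of_pow_eq_one (by
            rw [← Subgroup.coe_pow, show (x' * r * x'⁻¹ * r⁻¹) ^ 2 ^ k = 1 from congrArg Subtype.val hk,
              Subgroup.coe_one]))
          (X.orderOf_dvd_natCard hcX)
      rw [orderOf_eq_one_iff, OneMemClass.coe_eq_one] at h1
      exact mul_inv_eq_iff_eq_mul.1 (mul_inv_eq_one.1 h1)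
    have hxQ : x' ∈ Subgroup.centralizer (pCore 2 ↥C : Set ↥C) := by
      rw [Subgroup.mem_centralizer_iff]
      intro q hq
      by_cases hq1 : q ∈ S₁'
      · exact (hcomm q hq hq1).eq.symm
      have hrel : (S₁'.subgroupOf (pCore 2 ↥C)).index = 2 := by
        have h1 : S₁'.relIndex (pCore 2 ↥C) ≤ 2 :=
          (Subgroup.relIndex_le_of_le_right hTQ
            (Subgroup.index_ne_zero_of_finite : (S₁'.subgroupOf (T : Subgroup ↥C)).index ≠ 0)).trans hTi
        have h2 : S₁'.relIndex (pCore 2 ↥C) ≠ 1 := fun he => hq1 (Subgroup.relIndex_eq_one.1 he hq)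
        have h3 : S₁'.relIndex (pCore 2 ↥C) ≠ 0 := Subgroup.index_ne_zero_of_finite
        show S₁'.relIndex (pCore 2 ↥C) = 2
        omega
      set q' := x' * q * x'⁻¹ with hq'
      have hq'Q : q' ∈ pCore 2 ↥C := Subgroup.Normal.conj_mem inferInstance q hq x'
      have hq'1 : q' ∉ S₁' := by
        intro hm
        have h1 := (hcomm q' hq'Q hm).eq
        have h2 : q' = q := by
          calc q' = x'⁻¹ * (x' * q') := by group
            _ = x'⁻¹ * (q' * x') := by rw [h1]
            _ = q := by rw [hq']; group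
        exact hq1 (h2 ▸ hm)
      set c := q⁻¹ * q' with hc
      have hcQ : c ∈ pCore 2 ↥C := mul_mem (inv_mem hq) hq'Q
      have hcS : c ∈ S₁' := by
        have h := Subgroup.mul_mem_iff_of_index_two hrel
          (a := ⟨q⁻¹, inv_mem hq⟩) (b := ⟨q', hq'Q⟩)
        simp only [Subgroup.mem_subgroupOf, Subgroup.coe_mul] at h
        exact h.2 (iff_of_false (fun hh => hq1 (inv_inv q ▸ S₁'.inv_mem hh)) hq'1)
      have hpow : ∀ m : ℕ, x' ^ m * q * (x' ^ m)⁻¹ = q * c ^ m := by
        intro m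
        induction m with
        | zero => simp
        | succ m ih =>
          calc x' ^ (m + 1) * q * (x' ^ (m + 1))⁻¹ = x' * (x' ^ m * q * (x' ^ m)⁻¹) * x'⁻¹ := by
                rw [pow_succ']; group
            _ = x' * q * (c ^ m * x'⁻¹) := by rw [ih]; group
            _ = q' * c ^ m := by rw [← ((hcomm c hcQ hcS).pow_right m).inv_left.eq, hq']; group
            _ = q * c ^ (m + 1) := by
              rw [show q' = q * c by rw [hc, mul_inv_cancel_left], pow_succ', mul_assoc]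
      have h1 := hpow (orderOf x')
      rw [pow_orderOf_eq_one, inv_one, one_mul, mul_one, left_eq_mul] at h1
      obtain ⟨k, hk⟩ := hQp ⟨c, hcQ⟩
      have hc1 : c = 1 := orderOf_eq_one_iff.1 (Nat.eq_one_of_dvd_coprimes
        ((Nat.coprime_two_left.2 (by rwa [← Subgroup.orderOf_coe] : Odd (orderOf x'))).pow_left k)
        (orderOf_dvd_of_pow_eq_one (congrArg Subtype.val hk)) (orderOf_dvd_of_pow_eq_one h1))
      rw [hc, inv_mul_eq_one, hq', eq_mul_inv_iff_mul_eq] at hc1
      exact hc1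
    obtain ⟨k, hk⟩ := hQp ⟨x', hchar hxQ⟩
    exact orderOf_eq_one_iff.1 (Nat.eq_one_of_dvd_coprimes ((Nat.coprime_two_left.2 hxo).pow_left k)
      (orderOf_dvd_of_pow_eq_one (congrArg (fun w : ↥(pCore 2 ↥C) => ((w : ↥C) : G)) hk)) dvd_rfl)
  have hinv : ∀ u ∈ U, u ≠ 1 → ∀ x ∈ X, (u : G) * x * u = x⁻¹ := by
    intro u hu hu1
    refine Cfsg.Agent.Lib.SylowInter.CharLocal.inverts_of_fpf hXodd (hUΩ hu).2 ?_ (hfix u hu hu1)
    intro x hx
    have hui : (u : G)⁻¹ = u := inv_eq_of_mul_eq_one_right (hUΩ hu).2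
    have := (Subgroup.mem_normalizer_iff.1 (hSX u.2) x).1 hx
    rwa [hui] at this
  rw [Subgroup.eq_bot_iff_forall]
  intro x hx
  have hzU : (z : ↥(S : Subgroup G)) ∈ U := hZU z.2
  have hw1 : (z : ↥(S : Subgroup G)) * a ≠ 1 := fun h1 => haz (by
    have hz2 : (z : ↥(S : Subgroup G)) * z = 1 := Subtype.ext (hUΩ hzU).2
    rw [← one_mul a, ← hz2, mul_assoc, h1, mul_one])
  have h1 := hinv _ (U.mul_mem hzU haU) hw1 x hx
  have h2 := hinv _ hzU hz1 x hx
  have h3 := hinv _ haU ha1 x⁻¹ (X.inv_mem hx)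
  have hza : ((z : ↥(S : Subgroup G)) : G) * a = (a : G) * (z : ↥(S : Subgroup G)) :=
    hAc _ (hUΩ hzU).1 _ (hUΩ haU).1
  have h4 : x = x⁻¹ := by
    calc x = (a : G) * x⁻¹ * a := by rw [h3, inv_inv]
      _ = (a : G) * ((z : ↥(S : Subgroup G)) * x * (z : ↥(S : Subgroup G))) * a := by rw [h2]
      _ = ((a : G) * (z : ↥(S : Subgroup G))) * x * ((z : ↥(S : Subgroup G)) * a) := by group
      _ = x⁻¹ := by rw [← hza]; exact h1
  refine orderOf_eq_one_iff.1 (Nat.eq_one_of_dvd_coprimes (Nat.coprime_two_left.2 (hXodd.of_dvd_nat (X.orderOf_dvd_natCard hx)))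
    (orderOf_dvd_of_pow_eq_one ?_) dvd_rfl)
  rw [pow_two]
  exact mul_eq_one_iff_eq_inv.2 h4

end Cfsg.Agent.S3246
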