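import Cfsg.Statements.S3247
import Cfsg.Agent.Lib.SylowInter.ConstrainedLocal

set_option autoImplicit false
open Cfsg

namespace Cfsg.Agent.S3247

theorem result {G : Type*} [Group G] [Finite G] (p : ℕ) [hp : Fact p.Prime]
    (h : (∀ M : Subgroup G, (∃ T : Subgroup G, IsPGroup p ↥T ∧ T ≠ ⊥ ∧ M = Subgroup.normalizer (T : Set G)) → M ≠ ⊤ →
        (∀ M' : Subgroup G, (∃ T' : Subgroup G, IsPGroup p ↥T' ∧ T' ≠ ⊥ ∧ M' = Subgroup.normalizer (T' : Set G)) → M' ≠ ⊤ → M ≤ M' → M = M') →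
        Cfsg.IsPConstrained p ↥M) ∨
      (∀ x : G, orderOf x = p → Cfsg.IsPConstrained p ↥(Subgroup.centralizer ({x} : Set G))))
    (T : Subgroup G) (hT : IsPGroup p ↥T) (hT1 : T ≠ ⊥) (hTG : Subgroup.normalizer (T : Set G) ≠ ⊤) :
    Cfsg.IsPConstrained p ↥(Subgroup.normalizer (T : Set G)) := by
  set N := Subgroup.normalizer (T : Set G) with hN
  refine Cfsg.Agent.Lib.SylowInter.ConstrainedLocal.constrained_of_overgroup fun P => ?_
  intro S
  have hTS : T ≤ S := by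
    intro t ht
    have h1 : (⟨t, Subgroup.le_normalizer ht⟩ : ↥N) ∈ pPrimePCore p ↥N :=
      Cfsg.Agent.Lib.PSolvable.pCore_le_pPrimePCore
        (Cfsg.Agent.Lib.Balance.subgroupOf_le_pCore le_rfl hT ht)
    have hp' : IsPGroup p ↥((T.subgroupOf N).subgroupOf (pPrimePCore p ↥N)) :=
      hT.comap_subtype.comap_subtype
    have h2 := Cfsg.Agent.Lib.Cores.pCore_le_sylow P
      (Cfsg.Agent.Lib.Cores.le_pCore hp' (show (⟨_, h1⟩ : ↥(pPrimePCore p ↥N)) ∈ (T.subgroupOf N).subgroupOf _ from ht))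
    exact ⟨⟨t, Subgroup.le_normalizer ht⟩, ⟨⟨_, h1⟩, h2, rfl⟩, rfl⟩
  have hSN : S ≤ N := Subgroup.map_subtype_le _
  have hSp : IsPGroup p ↥S := (P.isPGroup'.map (pPrimePCore p ↥N).subtype).map N.subtype
  have hCN : Subgroup.centralizer (S : Set G) ≤ N :=
    (Subgroup.centralizer_le hTS).trans (Subgroup.centralizer_le_normalizer _)
  refine ⟨hCN, ?_⟩
  rcases h with h | h
  · obtain ⟨M, ⟨hM, hMtop, hle⟩, hmax⟩ := (Set.toFinite {M : Subgroup G |
        (∃ T' : Subgroup G, IsPGroup p ↥T' ∧ T' ≠ ⊥ ∧ M = Subgroup.normalizer (T' : Set G)) ∧ M ≠ ⊤ ∧ N ≤ M}).exists_maximal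
      ⟨N, ⟨T, hT, hT1, rfl⟩, hTG, le_rfl⟩
    exact ⟨M, h M hM hMtop fun M' hM' hM'top hMM' => le_antisymm hMM' (hmax ⟨hM', hM'top, hle.trans hMM'⟩ hMM'),
      hSN.trans hle, hCN.trans hle⟩
  · haveI : Nontrivial ↥S := by
      rw [Subgroup.nontrivial_iff_ne_bot]
      exact fun hb => hT1 (le_bot_iff.1 (hb ▸ hTS))
    haveI := hSp.center_nontrivial
    obtain ⟨n, hn, hc⟩ := (hSp.to_subgroup (Subgroup.center ↥S)).nontrivial_iff_card.1 inferInstance
    obtain ⟨z, hz⟩ := exists_prime_orderOf_dvd_card' p (hc ▸ dvd_pow_self p (by omega) : p ∣ Nat.card (Subgroup.center ↥S))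
    refine ⟨Subgroup.centralizer {((z : ↥S) : G)}, h _ (by rw [Subgroup.orderOf_coe, Subgroup.orderOf_coe, hz]), ?_, ?_⟩
    · exact fun s hs => Subgroup.mem_centralizer_singleton_iff.2
        (congrArg Subtype.val (Subgroup.mem_center_iff.1 z.2 ⟨s, hs⟩))
    · exact fun x hx => Subgroup.mem_centralizer_singleton_iff.2
        ((Subgroup.mem_centralizer_iff.1 hx _ (z : ↥S).2).symm)

end Cfsg.Agent.S3247
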