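import Cfsg.Statements.S3251
import Cfsg.Agent.S3331
import Cfsg.Agent.Lib.LargePrimeTwo42.Ident

set_option autoImplicit false
set_option linter.style.haveILetI false
open Cfsg

namespace Cfsg.Agent.S3251

open Cfsg.Agent.Lib in
/-- The case `p = 3`. -/
theorem case_three {G : Type*} [Group G] [Finite G] [IsSimpleGroup G]
    (hG : ¬ IsMulCommutative G) [Fact (Nat.Prime 3)] (P : Sylow 3 G)
    (hPp : Nat.card ↥(P : Subgroup G) = 3)
    (hN : (P : Subgroup G).relIndex (Subgroup.normalizer ((P : Subgroup G) : Set G)) = 2) :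
    LargePrimeTwo42.Ident.Target G := by
  have hcN : Nat.card (Subgroup.normalizer ((P : Subgroup G) : Set G)) = 6 := by
    have h := Subgroup.relIndex_mul_relIndex ⊥ (P : Subgroup G)
      (Subgroup.normalizer ((P : Subgroup G) : Set G)) bot_le Subgroup.le_normalizer
    rw [Subgroup.relIndex_bot_left, Subgroup.relIndex_bot_left, hPp, hN] at h
    omega
  obtain ⟨e, c, he, he1, hpc, hcc, hce⟩ := SmallGroups.Sylow.exists_normalizer_factor hG P hPp
  have he2 : e = 2 := by have := Nat.le_of_dvd (by norm_num) he; omega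
  have hC := Classif.SmallOrderKills4.centralizer_eq P hPp (by rw [hcc]; subst he2; omega)
  have hnc : ¬ (Nat.card G).Prime := fun hpr => hG (by
    haveI := Fact.mk hpr
    haveI := isCyclic_of_prime_card (α := G) rfl
    exact IsCyclic.isMulCommutative)
  rcases Cfsg.Agent.S3331.result (P : Subgroup G) hPp hC with
    ⟨N, hNn, -, -, hq⟩ | ⟨N, hNn, hNc, -, ⟨e⟩⟩ | e
  · exfalso
    rcases IsSimpleGroup.eq_bot_or_eq_top_of_normal N hNn with rfl | rfl
    · have hb : Nat.card (G ⧸ (⊥ : Subgroup G)) = Nat.card G :=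
        Nat.card_congr QuotientGroup.quotientBot.toEquiv
      rcases hq with h3 | ⟨⟨e⟩⟩
      · exact hnc (hb ▸ h3 ▸ Nat.prime_three)
      · haveI : IsSimpleGroup (Equiv.Perm (Fin 3)) :=
          (QuotientGroup.quotientBot.symm.trans e).isSimpleGroup_congr.1 inferInstance
        rcases IsSimpleGroup.eq_bot_or_eq_top_of_normal (alternatingGroup (Fin 3)) inferInstance
          with h | h
        · have := congrArg (fun H : Subgroup (Equiv.Perm (Fin 3)) => Nat.card H) h
          simp only [Subgroup.card_bot] at this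
          rw [nat_card_alternatingGroup, Nat.card_eq_fintype_card, Fintype.card_fin] at this
          norm_num [Nat.factorial] at this
        · have := congrArg (fun H : Subgroup (Equiv.Perm (Fin 3)) => Nat.card H) h
          simp only [Subgroup.card_top] at this
          rw [nat_card_alternatingGroup, Nat.card_eq_fintype_card (α := Fin 3), Fintype.card_fin,
            Nat.card_perm, Nat.card_eq_fintype_card, Fintype.card_fin] at this
          norm_num [Nat.factorial] at this
    · have h1 : Nat.card (G ⧸ (⊤ : Subgroup G)) = 1 := Subgroup.index_top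
      rcases hq with h3 | ⟨⟨e⟩⟩
      · omega
      · rw [Nat.card_congr e.toEquiv, Nat.card_perm, Nat.card_eq_fintype_card, Fintype.card_fin] at h1
        norm_num [Nat.factorial] at h1
  · rcases IsSimpleGroup.eq_bot_or_eq_top_of_normal N hNn with rfl | rfl
    · haveI : Fact (Nat.Prime 5) := ⟨by norm_num⟩
      obtain ⟨e5⟩ := Cfsg.Agent.S0253.result (ZMod.card 5)
      exact Or.inl ⟨ZMod 5, inferInstance, inferInstance, by rw [ZMod.card]; simp,
        ⟨(QuotientGroup.quotientBot.symm.trans e).trans e5.symm⟩⟩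
    · exact absurd ⟨⟨fun x y => congrArg Subtype.val
        (hNc.is_comm.comm ⟨x, Subgroup.mem_top x⟩ ⟨y, Subgroup.mem_top y⟩)⟩⟩ hG
  · haveI : Fact (Nat.Prime 7) := ⟨by norm_num⟩
    exact Or.inl ⟨ZMod 7, inferInstance, inferInstance, by rw [ZMod.card]; simp, e⟩

open Cfsg.Agent.Lib in
/-- Let G be a finite non-abelian simple group of order 2^a·3^b·5^c·7^d·p with a > 0 and p an odd prime occurring to the first power (a Sylow p-subgroup of G has order p), such that a Sylow p-subgroup of G has index 2 in its normalizer. Then G is isomorphic to one of PSL₂(5), PSL₂(7), PSL₂(9), PSL₂(8), PSL₂(16), PSL₂(25), PSL₂(27), PSL₂(81), PSL₂(2401), PSL₃(4). -/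
theorem result {G : Type*} [Group G] [Finite G] [IsSimpleGroup G]
    (hG : ¬ IsMulCommutative G) (a b c d p : ℕ) (ha : 0 < a) (hp : p.Prime) (hp2 : p ≠ 2)
    (hord : Nat.card G = 2 ^ a * 3 ^ b * 5 ^ c * 7 ^ d * p)
    (P : Sylow p G) (hPp : Nat.card ↥(P : Subgroup G) = p) (hN : (P : Subgroup G).relIndex (Subgroup.normalizer ((P : Subgroup G) : Set G)) = 2) :
    (∃ (F : Type) (_ : Field F) (_ : Fintype F), Fintype.card F = 5 ∧ Nonempty (G ≃* Matrix.ProjectiveSpecialLinearGroup (Fin 2) F)) ∨ (∃ (F : Type) (_ : Field F) (_ : Fintype F), Fintype.card F = 7 ∧ Nonempty (G ≃* Matrix.ProjectiveSpecialLinearGroup (Fin 2) F)) ∨ (∃ (F : Type) (_ : Field F) (_ : Fintype F), Fintype.card F = 9 ∧ Nonempty (G ≃* Matrix.ProjectiveSpecialLinearGroup (Fin 2) F)) ∨ (∃ (F : Type) (_ : Field F) (_ : Fintype F), Fintype.card F = 8 ∧ Nonempty (G ≃* Matrix.ProjectiveSpecialLinearGroup (Fin 2) F)) ∨ (∃ (F : Type) (_ : Field F) (_ : Fintype F), Fintype.card F = 16 ∧ Nonempty (G ≃* Matrix.ProjectiveSpecialLinearGroup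 (Fin 2) F)) ∨ (∃ (F : Type) (_ : Field F) (_ : Fintype F), Fintype.card F = 25 ∧ Nonempty (G ≃* Matrix.ProjectiveSpecialLinearGroup (Fin 2) F)) ∨ (∃ (F : Type) (_ : Field F) (_ : Fintype F), Fintype.card F = 27 ∧ Nonempty (G ≃* Matrix.ProjectiveSpecialLinearGroup (Fin 2) F)) ∨ (∃ (F : Type) (_ : Field F) (_ : Fintype F), Fintype.card F = 81 ∧ Nonempty (G ≃* Matrix.ProjectiveSpecialLinearGroup (Fin 2) F)) ∨ (∃ (F : Type) (_ : Field F) (_ : Fintype F), Fintype.card F = 2401 ∧ Nonempty (G ≃* Matrix.ProjectiveSpecialLinearGroup (Fin 2) F)) ∨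
      (∃ (F : Type) (_ : Field F) (_ : Fintype F), Fintype.card F = 4 ∧ Nonempty (G ≃* Matrix.ProjectiveSpecialLinearGroup (Fin 3) F)) := by
  haveI := Fact.mk hp
  have key : LargePrimeTwo42.Ident.Target G := by
    rcases (show p = 3 ∨ 5 ≤ p by
      have := hp.two_le
      by_contra h
      have h4 : p = 4 := by omega
      subst h4
      norm_num at hp) with rfl | h5
    · exact case_three hG P hPp hN
    · obtain ⟨S⟩ := LargePrimeTwo42.Chars.exists_setup hG h5 P hPp hN
      have hM := LargePrimeTwo42.Survivors.sm_M S hord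
      have hsm : LargePrimeTwo42.Smooth.Sm S.M := hM ▸ LargePrimeTwo42.Survivors.sm_P4 a b c d
      haveI : Fact (Nat.Prime 2) := ⟨Nat.prime_two⟩
      obtain ⟨z, hz⟩ := exists_prime_orderOf_dvd_card' (G := G) 2 (by
        rw [hord]
        exact (((dvd_pow_self 2 ha.ne').mul_right _).mul_right _ |>.mul_right _).mul_right _)
      exact LargePrimeTwo42.Ident.target S hsm hz
  rcases key with ⟨F, i1, i2, hF, he⟩ | h
  · simp only [List.mem_cons, List.not_mem_nil, or_false] at hF
    rcases hF with h | h | h | h | h | h | h | h | h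
    · exact Or.inl ⟨F, i1, i2, h, he⟩
    · exact Or.inr (Or.inl ⟨F, i1, i2, h, he⟩)
    · exact Or.inr (Or.inr (Or.inr (Or.inl ⟨F, i1, i2, h, he⟩)))
    · exact Or.inr (Or.inr (Or.inl ⟨F, i1, i2, h, he⟩))
    · exact Or.inr (Or.inr (Or.inr (Or.inr (Or.inl ⟨F, i1, i2, h, he⟩))))
    · exact Or.inr (Or.inr (Or.inr (Or.inr (Or.inr (Or.inl ⟨F, i1, i2, h, he⟩)))))
    · exact Or.inr (Or.inr (Or.inr (Or.inr (Or.inr (Or.inr (Or.inl ⟨F, i1, i2, h, he⟩))))))
    · exact Or.inr (Or.inr (Or.inr (Or.inr (Or.inr (Or.inr (Or.inr (Or.inl ⟨F, i1, i2, h, he⟩)))))))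
    · exact Or.inr (Or.inr (Or.inr (Or.inr (Or.inr (Or.inr (Or.inr (Or.inr
        (Or.inl ⟨F, i1, i2, h, he⟩))))))))
  · exact Or.inr (Or.inr (Or.inr (Or.inr (Or.inr (Or.inr (Or.inr (Or.inr (Or.inr h))))))))

end Cfsg.Agent.S3251
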