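import Cfsg.Statements.S3252
import Cfsg.Agent.Lib.CycZFactor60.Reduce

set_option autoImplicit false
open Cfsg

namespace Cfsg.Agent.S3252

/-- Let G be a finite non-solvable group that is the product G = AB of a cyclic subgroup A and a subgroup B all of whose Sylow subgroups are cyclic. Then the quotient of G by its largest solvable normal subgroup is isomorphic to PGL₂(p) for some prime p > 3. -/
theorem result {G : Type*} [Group G] [Finite G] (hG : ¬ Group.IsSolvable G)
    (A B : Subgroup G) (hA : IsCyclic ↥A) (hB : ∀ (q : ℕ) [Fact q.Prime] (Q : Sylow q ↥B), IsCyclic ↥(Q : Subgroup ↥B))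
    (hAB : ∀ g : G, ∃ a ∈ A, ∃ b ∈ B, g = a * b)
    (R : Subgroup G) [hR : R.Normal] (hRs : Group.IsSolvable ↥R) (hRmax : ∀ N : Subgroup G, N.Normal → Group.IsSolvable ↥N → N ≤ R) :
    ∃ (F : Type) (_ : Field F) (_ : Fintype F) (p : ℕ), p.Prime ∧ 3 < p ∧ Fintype.card F = p ∧
      Nonempty ((G ⧸ R) ≃* (GL (Fin 2) F ⧸ Subgroup.center (GL (Fin 2) F))) := by
  have hB' : IsZGroup B := ⟨fun q hq Q => @hB q ⟨hq⟩ Q⟩
  have hR' : R = Lib.PrimePowerClass.Radical.solRad G :=
    le_antisymm (Lib.PrimePowerClass.Radical.le_solRad hRs)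
      (hRmax _ inferInstance Lib.PrimePowerClass.Radical.solRad_isSolvable)
  exact (Lib.CycZFactor60.concl_solRad (Nat.card G) G A B rfl hG ⟨hA, hB', hAB⟩).of_equiv
    (QuotientGroup.quotientMulEquivOfEq hR')

end Cfsg.Agent.S3252
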