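import Cfsg.Statements.S3255
import Cfsg.Agent.Lib.TriThree76.Main

set_option autoImplicit false
open Cfsg

namespace Cfsg.Agent.S3255

/-- Let G be a finite triply transitive permutation group on a set Ω of more than 3 points whose size is divisible by 3. Then every nontrivial normal subgroup H of G has at most two orbits on the set of ordered triples of distinct points of Ω; and if moreover |Ω| ≢ 2 (mod 4), then H is triply transitive or H contains a normal subgroup isomorphic to PSL₂(q) with q = |Ω| − 1. -/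
theorem result {G : Type*} [Group G] [Finite G]
    {Ω : Type*} [Fintype Ω] [MulAction G Ω] [FaithfulSMul G Ω] (h3 : MulAction.IsMultiplyPretransitive G Ω 3)
    (hΩ : 3 ∣ Fintype.card Ω) (hΩ3 : 3 < Fintype.card Ω) (H : Subgroup G) [hHn : H.Normal] (hH : H ≠ ⊥) :
    Nat.card (MulAction.orbitRel.Quotient ↥H (Fin 3 ↪ Ω)) ≤ 2 ∧
      (Fintype.card Ω % 4 ≠ 2 → MulAction.IsMultiplyPretransitive ↥H Ω 3 ∨
        ∃ (N : Subgroup ↥H) (F : Type) (_ : Field F) (_ : Fintype F), N.Normal ∧ Fintype.card F + 1 = Fintype.card Ω ∧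
          Nonempty (↥N ≃* Matrix.ProjectiveSpecialLinearGroup (Fin 2) F)) := by
  have hcard : Nat.card Ω = Fintype.card Ω := Nat.card_eq_fintype_card
  have hS : Lib.TriThree76.Setting G Ω := ⟨h3, hcard ▸ hΩ, hcard ▸ hΩ3⟩
  refine ⟨hS.col_le_two hH, fun h4 => ?_⟩
  rw [← hcard]
  exact hS.three_or_psl hH (hcard ▸ h4)

end Cfsg.Agent.S3255
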