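import Cfsg.Statements.S3947
import Cfsg.Agent.Lib.Subnormality.UniqueMaximal
-- import your own Cfsg.Agent.* helpers here

set_option autoImplicit false
open Cfsg

namespace Cfsg.Agent.S3947

universe u

variable {G : Type u} [Group G] [Finite G]

/-- The members: proper overgroups of `A` generated by their own conjugates of `A`. -/
def members (A : Subgroup G) : Set (Subgroup G) :=
  {H | A ≤ H ∧ H ≠ ⊤ ∧ Subgroup.normalClosure ((A.subgroupOf H : Subgroup H) : Set H) = ⊤}

theorem unique_aux : ∀ (n : ℕ) (A : Subgroup G), A.index = n →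
    Subgroup.normalClosure (A : Set G) = ⊤ → A ≠ ⊤ → sSup (members A) ≠ ⊤ →
    ∀ K M : Subgroup G, IsCoatom K → A ≤ K → IsCoatom M → sSup (members A) ≤ M → K = M := by
  intro n
  induction n using Nat.strong_induction_on with
  | _ n ih =>
  intro A hn hcl hA hY K M hK hAK hM hYM
  have hAmem : A ∈ members A := ⟨le_rfl, hA, by
    rw [Subgroup.subgroupOf_self]
    exact top_le_iff.mp Subgroup.le_normalClosure⟩
  refine Lib.Subnormality.UniqueMaximal.unique_maximal hcl hM
    ((le_sSup hAmem).trans hYM) (fun X hX hAX hXM => ?_) hK hAK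
  obtain ⟨S, ⟨hSsn, hAS⟩, hmin⟩ := (Set.toFinite
    {S : Subgroup X | S.IsSubnormal ∧ A.subgroupOf X ≤ S}).exists_minimal
    ⟨⊤, Subgroup.IsSubnormal.top, le_top⟩
  let Z : Subgroup G := S.map X.subtype
  have hZX : Z ≤ X := Subgroup.map_subtype_le _
  have hAZ : A ≤ Z := fun a ha => ⟨⟨a, hAX ha⟩, hAS (show (⟨a, hAX ha⟩ : X) ∈ A.subgroupOf X from ha), rfl⟩
  have hZmem : Z ∈ members A := by
    refine ⟨hAZ, fun h => hX (top_le_iff.mp (h ▸ hZX)), ?_⟩
    set N := Subgroup.normalClosure ((A.subgroupOf Z : Subgroup Z) : Set Z) with hN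
    have hNn : N.Normal := Subgroup.normalClosure_normal
    let φ : S →* Z := (X.subtype.comp S.subtype).codRestrict Z fun x => ⟨x, x.2, rfl⟩
    have h1 : (N.comap φ).IsSubnormal := (hNn.comap φ).isSubnormal
    have h2 : ((N.comap φ).map S.subtype).IsSubnormal := Subgroup.IsSubnormal.trans' h1 hSsn
    have h3 : S ≤ (N.comap φ).map S.subtype := hmin ⟨h2, fun a ha =>
      ⟨⟨a, hAS ha⟩, Subgroup.le_normalClosure
        (show φ ⟨a, hAS ha⟩ ∈ A.subgroupOf Z from ha), rfl⟩⟩ (Subgroup.map_subtype_le _)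
    rw [eq_top_iff]
    rintro ⟨z, x, hx, rfl⟩ -
    obtain ⟨y, hy, hyx⟩ := h3 hx
    have : φ y ∈ N := hy
    convert this using 1
    exact Subtype.ext (congrArg X.subtype hyx.symm)
  by_cases hZA : Z = A
  · refine (congrArg Subgroup.IsSubnormal ?_).mp hSsn
    rw [← hZA]
    change S = (S.map X.subtype).subgroupOf X
    rw [Subgroup.subgroupOf, Subgroup.comap_map_eq_self_of_injective X.subtype_injective]
  exfalso
  have hlt : A < Z := lt_of_le_of_ne hAZ (Ne.symm hZA)
  have hle : sSup (members Z) ≤ sSup (members A) := by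
    refine sSup_le fun H hH => le_sSup ⟨hAZ.trans hH.1, hH.2.1, top_le_iff.mp ?_⟩
    rw [← hH.2.2]
    have hn' : (Subgroup.normalClosure ((A.subgroupOf H : Subgroup H) : Set H)).Normal :=
      Subgroup.normalClosure_normal
    refine Subgroup.normalClosure_le_normal ?_
    intro z hz
    let φ : Z →* H := Subgroup.inclusion hH.1
    have hle' : Subgroup.normalClosure ((A.subgroupOf Z : Subgroup Z) : Set Z) ≤
        (Subgroup.normalClosure ((A.subgroupOf H : Subgroup H) : Set H)).comap φ := by
      have := hn'.comap φ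
      exact Subgroup.normalClosure_le_normal fun a ha =>
        Subgroup.le_normalClosure (show φ a ∈ A.subgroupOf H from ha)
    rw [hZmem.2.2] at hle'
    exact hle' (Subgroup.mem_top (⟨(z : G), hz⟩ : Z))
  have hY' : sSup (members Z) ≠ ⊤ := fun h => hY (top_le_iff.mp (h ▸ hle))
  have hclZ : Subgroup.normalClosure (Z : Set G) = ⊤ :=
    top_le_iff.mp (hcl ▸ Subgroup.normalClosure_mono hAZ)
  obtain ⟨K', hK', hXK'⟩ := (eq_top_or_exists_le_coatom X).resolve_left hX
  have := ih _ (hn ▸ Subgroup.index_strictAnti hlt) Z rfl hclZ hZmem.2.1 hY' K' M hK'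
    (hZX.trans hXK') hM (hle.trans hYM)
  exact hXM (this ▸ hXK')


/-- Let G be a finite group and A a proper subgroup of G whose normal closure is G. Let Y be the join of all proper subgroups H of G that contain A and are generated by their own conjugates of A (the normal closure of A in H is H). Then either Y = G, or A is contained in exactly one maximal subgroup of G. -/
theorem result {G : Type*} [Group G] [Finite G] (A : Subgroup G) (hA : Subgroup.normalClosure (A : Set G) = ⊤) (hAG : A ≠ ⊤) :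
    sSup {H : Subgroup G | A ≤ H ∧ H ≠ ⊤ ∧ Subgroup.normalClosure ((A.subgroupOf H : Subgroup ↥H) : Set ↥H) = ⊤} = ⊤ ∨
      ∃! M : Subgroup G, IsCoatom M ∧ A ≤ M := by
  by_cases hY : sSup (members A) = ⊤
  · exact Or.inl hY
  refine Or.inr ?_
  obtain ⟨M, hM, hYM⟩ := (eq_top_or_exists_le_coatom _).resolve_left hY
  have hAM : A ≤ M := (le_sSup (show A ∈ members A from ⟨le_rfl, hAG, by
    rw [Subgroup.subgroupOf_self]
    exact top_le_iff.mp Subgroup.le_normalClosure⟩)).trans hYM
  exact ⟨M, ⟨hM, hAM⟩, fun K hK => unique_aux _ A rfl hA hAG hY K M hK.1 hK.2 hM hYM⟩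

end Cfsg.Agent.S3947
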