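import Cfsg.Statements.S3927
import Mathlib.GroupTheory.SemidirectProduct
import Cfsg.Agent.S3947
-- import your own Cfsg.Agent.* helpers here

set_option autoImplicit false
open Cfsg

namespace Cfsg.Agent.S3927

open scoped Pointwise

universe u

variable {G : Type u} [Group G]

/-- `c ↦ [c, α]`. -/
abbrev f (α : MulAut G) : G → G := fun c => c * (α c)⁻¹

theorem map_f (α : MulAut G) (c : G) : α (f α c) = f α (α c) := by simp [f]

theorem iterate_map_f (α : MulAut G) (k : ℕ) (c : G) : α ((f α)^[k] c) = (f α)^[k] (α c) := by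
  induction k with
  | zero => rfl
  | succ k ih => rw [Function.iterate_succ_apply', map_f, ih, ← Function.iterate_succ_apply' (f α)]

theorem pow_invariant (α : MulAut G) {T : Subgroup G} (hT : ∀ x ∈ T, α x ∈ T) (n : ℕ) :
    ∀ x ∈ T, (α ^ n) x ∈ T := by
  induction n with
  | zero => exact fun x hx => hx
  | succ n ih => exact fun x hx => by rw [pow_succ, MulAut.mul_apply]; exact ih _ (hT x hx)

theorem zpowers_invariant [Finite G] (α : MulAut G) {T : Subgroup G} (hT : ∀ x ∈ T, α x ∈ T)
    (a : Subgroup.zpowers α) : ∀ x ∈ T, (a : MulAut G) x ∈ T := by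
  obtain ⟨n, hn⟩ := mem_powers_iff_mem_zpowers.mpr a.2
  rw [← hn]
  exact pow_invariant α hT n

theorem generate : ∀ (n : ℕ) (G : Type u) [Group G] [Finite G], Nat.card G ≤ n → ∀ α : MulAut G,
    Subgroup.closure (Set.range (f α)) = ⊤ → ∀ k : ℕ,
    Subgroup.closure (Set.range (f α)^[k]) = ⊤ := by
  intro n
  induction n with
  | zero => intro G _ _ h; exact absurd h (not_le.mpr Nat.card_pos)
  | succ n ih =>
  intro G _ _ hn α hG k
  set L := Subgroup.closure (Set.range (f α)^[k]) with hLdef
  by_contra hL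
  have hLinv : ∀ x ∈ L, α x ∈ L := by
    intro x hx
    have : L ≤ L.comap (α : G ≃* G).toMonoidHom := (Subgroup.closure_le _).mpr (by
      rintro _ ⟨c, rfl⟩
      exact Subgroup.subset_closure ⟨α c, (iterate_map_f α k c).symm⟩)
    exact this hx
  let S := G ⋊[(Subgroup.zpowers α).subtype] Subgroup.zpowers α
  have : Finite S := Finite.of_equiv _ SemidirectProduct.equivProd.symm
  let ι : G →* S := SemidirectProduct.inl
  let a₀ : S := SemidirectProduct.inr ⟨α, Subgroup.mem_zpowers α⟩
  let A : Subgroup S := (SemidirectProduct.inr : Subgroup.zpowers α →* S).range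
  have hcomm : ∀ a b : Subgroup.zpowers α, a * b * a⁻¹ = b := fun a b => by
    obtain ⟨m, hm⟩ := Subgroup.mem_zpowers_iff.mp a.2
    obtain ⟨n, hn⟩ := Subgroup.mem_zpowers_iff.mp b.2
    have hab : a * b = b * a := Subtype.ext (by
      rw [Subgroup.coe_mul, Subgroup.coe_mul, ← hm, ← hn]
      exact (Commute.refl α).zpow_zpow m n)
    rw [hab, mul_inv_cancel_right]
  let P : (T : Subgroup G) → (∀ x ∈ T, α x ∈ T) → Subgroup S := fun T hT =>
    { carrier := {x | x.left ∈ T}
      one_mem' := by simp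
      mul_mem' := fun {x y} hx hy => by
        change (x * y).left ∈ T
        rw [SemidirectProduct.mul_left]
        exact T.mul_mem hx (zpowers_invariant α hT x.right _ hy)
      inv_mem' := fun {x} hx => by
        change x⁻¹.left ∈ T
        rw [SemidirectProduct.inv_left]
        exact zpowers_invariant α hT x.right⁻¹ _ (T.inv_mem hx) }
  have hAP : ∀ T hT, A ≤ P T hT := by
    rintro T hT _ ⟨a, rfl⟩
    change (SemidirectProduct.inr a).left ∈ T
    simp
  have hconj : ∀ (c : G), ι c * a₀ * (ι c)⁻¹ * a₀⁻¹ = ι (f α c) := by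
    intro c
    rw [map_mul, mul_assoc (ι c), mul_assoc (ι c)]
    congr 1
    rw [← map_inv ι c]
    have h := (SemidirectProduct.inl_aut (φ := (Subgroup.zpowers α).subtype)
      (⟨α, Subgroup.mem_zpowers α⟩ : Subgroup.zpowers α) c⁻¹).symm
    rw [map_inv SemidirectProduct.inr] at h
    change a₀ * ι c⁻¹ * a₀⁻¹ = ι (α c)⁻¹
    rw [← map_inv α]
    exact h
  have hA : Subgroup.normalClosure (A : Set S) = ⊤ := by
    set N := Subgroup.normalClosure (A : Set S)
    have hN : N.Normal := Subgroup.normalClosure_normal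
    have hAN : A ≤ N := Subgroup.le_normalClosure
    have hι : (⊤ : Subgroup G) ≤ N.comap ι := by
      rw [← hG]
      refine (Subgroup.closure_le _).mpr ?_
      rintro _ ⟨c, rfl⟩
      change ι (f α c) ∈ N
      rw [← hconj]
      exact N.mul_mem (hN.conj_mem _ (hAN ⟨_, rfl⟩) _) (N.inv_mem (hAN ⟨_, rfl⟩))
    rw [eq_top_iff]
    intro x _
    rw [← SemidirectProduct.inl_left_mul_inr_right x]
    exact N.mul_mem (hι (Subgroup.mem_top _)) (hAN ⟨_, rfl⟩)
  have hG' : (P L hLinv) ≠ ⊤ := fun h => hL (eq_top_iff.mpr fun g _ => by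
    have : ι g ∈ P L hLinv := h ▸ Subgroup.mem_top _
    exact this)
  have hA' : A ≠ ⊤ := fun h => hG' (top_le_iff.mp (h ▸ hAP L hLinv))
  have hY : sSup {H : Subgroup S | A ≤ H ∧ H ≠ ⊤ ∧
      Subgroup.normalClosure ((A.subgroupOf H : Subgroup H) : Set H) = ⊤} ≠ ⊤ := by
    refine fun h => hG' (top_le_iff.mp (h ▸ sSup_le ?_))
    rintro H ⟨hAH, hH, hcl⟩
    let W : Subgroup G := H.comap ι
    have hleft : ∀ x ∈ H, x.left ∈ W := by
      intro x hx
      have h1 : x * (SemidirectProduct.inr x.right)⁻¹ = ι x.left := by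
        rw [mul_inv_eq_iff_eq_mul]; exact (SemidirectProduct.inl_left_mul_inr_right x).symm
      change ι x.left ∈ H
      rw [← h1]
      exact H.mul_mem hx (H.inv_mem (hAH ⟨_, rfl⟩))
    have hWinv : ∀ x ∈ W, α x ∈ W := by
      intro x hx
      change SemidirectProduct.inl (((Subgroup.zpowers α).subtype ⟨α, Subgroup.mem_zpowers α⟩) x) ∈ H
      rw [SemidirectProduct.inl_aut]
      exact H.mul_mem (H.mul_mem (hAH ⟨_, rfl⟩) hx) (hAH ⟨_, rfl⟩)
    let T : Subgroup G := Subgroup.closure (f α '' W)
    have hTinv : ∀ x ∈ T, α x ∈ T := by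
      intro x hx
      have : T ≤ T.comap (α : G ≃* G).toMonoidHom := (Subgroup.closure_le _).mpr (by
        rintro _ ⟨c, hc, rfl⟩
        exact Subgroup.subset_closure ⟨α c, hWinv c hc, (map_f α c).symm⟩)
      exact this hx
    have hTn : ∀ (m : ℕ), ∀ w ∈ W, w * ((α ^ m) w)⁻¹ ∈ T := by
      intro m
      induction m with
      | zero => intro w _; simp
      | succ m ihm =>
        intro w hw
        have h1 : f α w * α (w * ((α ^ m) w)⁻¹) = w * ((α ^ (m + 1)) w)⁻¹ := by
          simp [f, pow_succ', MulAut.mul_apply, mul_assoc]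
        rw [← h1]
        exact T.mul_mem (Subgroup.subset_closure ⟨w, hw, rfl⟩) (hTinv _ (ihm w hw))
    have hHT : H ≤ P T hTinv := by
      intro x hx
      suffices hle : Subgroup.normalClosure ((A.subgroupOf H : Subgroup H) : Set H) ≤
          (P T hTinv).subgroupOf H by
        rw [hcl] at hle
        exact hle (Subgroup.mem_top (⟨x, hx⟩ : H))
      refine (Subgroup.closure_le _).mpr fun y hy => ?_
      obtain ⟨⟨b, hb⟩, hbA, hc⟩ := Group.mem_conjugatesOfSet_iff.mp hy
      obtain ⟨⟨g, hg⟩, rfl⟩ := isConj_iff.mp hc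
      obtain ⟨a, rfl⟩ : b ∈ A := hbA
      change SemidirectProduct.left (g * SemidirectProduct.inr a * g⁻¹) ∈ T
      have hl := hleft g hg
      obtain ⟨m, hm⟩ := mem_powers_iff_mem_zpowers.mpr a.2
      have h1 : SemidirectProduct.left (g * SemidirectProduct.inr a * g⁻¹) =
          g.left * ((a : MulAut G) g.left)⁻¹ := by
        have hr := hcomm g.right a
        erw [SemidirectProduct.mul_left, SemidirectProduct.inv_left, SemidirectProduct.mul_left,
          SemidirectProduct.left_inr, map_one, mul_one, SemidirectProduct.mul_right,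
          SemidirectProduct.right_inr, ← MulAut.mul_apply, ← map_mul, hr, map_inv]
        rfl
      rw [h1, ← hm]
      exact hTn m _ hl
    -- so `W = [W, α]` is below `L`
    have hWT : W ≤ T := fun w hw => by
      have := hHT (show ι w ∈ H from hw)
      exact this
    have hWne : W ≠ ⊤ := fun h => hH (eq_top_iff.mpr fun x _ => by
      rw [← SemidirectProduct.inl_left_mul_inr_right x]
      exact H.mul_mem (show x.left ∈ W from h ▸ Subgroup.mem_top _) (hAH ⟨_, rfl⟩))
    have hcard : Nat.card W < Nat.card G := lt_of_le_of_ne (Subgroup.card_le_card_group W)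
      fun h => hWne (Subgroup.eq_top_of_card_eq W h)
    let αW : MulAut W := MulEquiv.ofBijective
      (((α : G ≃* G).toMonoidHom.comp W.subtype).codRestrict W fun x => hWinv x x.2)
      (Finite.injective_iff_bijective.mp fun _ _ e =>
        Subtype.ext (α.injective (congrArg Subtype.val e)))
    have hgen : Subgroup.closure (Set.range (f αW)) = ⊤ := by
      rw [eq_top_iff]
      rintro ⟨w, hw⟩ -
      have h1 : T ≤ (Subgroup.closure (Set.range (f αW))).map W.subtype :=
        (Subgroup.closure_le _).mpr (by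
          rintro _ ⟨c, hc, rfl⟩
          exact ⟨f αW ⟨c, hc⟩, Subgroup.subset_closure ⟨_, rfl⟩, rfl⟩)
      obtain ⟨y, hy, hyw⟩ := h1 (hWT hw)
      exact (Subtype.ext hyw : y = ⟨w, hw⟩) ▸ hy
    have hW := ih W (by omega) αW hgen k
    have hit : ∀ (j : ℕ) (w : W), (((f αW)^[j] w : W) : G) = (f α)^[j] (w : G) := by
      intro j
      induction j with
      | zero => intro w; rfl
      | succ j ihj =>
        intro w
        rw [Function.iterate_succ_apply', Function.iterate_succ_apply', ← ihj]
        rfl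
    intro x hx
    have hmem : (⟨x.left, hleft x hx⟩ : W) ∈ Subgroup.closure (Set.range (f αW)^[k]) :=
      hW ▸ Subgroup.mem_top _
    have hle : Subgroup.closure (Set.range (f αW)^[k]) ≤ L.comap W.subtype :=
      (Subgroup.closure_le _).mpr (by
        rintro _ ⟨c, rfl⟩
        exact Subgroup.subset_closure ⟨(c : G), (hit k c).symm⟩)
    exact hle hmem
  obtain ⟨M, ⟨hM, hAM⟩, huniq⟩ := (S3947.result A hA hA').resolve_left hY
  have hLM : ∀ g ∈ L, ι g ∈ M := by
    obtain ⟨M', hM', hle⟩ := (eq_top_or_exists_le_coatom _).resolve_left hG'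
    obtain rfl : M' = M := huniq M' ⟨hM', (hAP L hLinv).trans hle⟩
    exact fun g hg => hle (show (ι g).left ∈ L from hg)
  have hMn : Subgroup.normalizer (M : Set S) = M :=
    Lib.Subnormality.UniqueMaximal.normalizer_coatom_eq hM fun hn' =>
      hM.1 (top_le_iff.mp (hA ▸ Subgroup.normalClosure_le_normal hAM))
  have hback : ∀ c : G, ι (f α c) ∈ M → ι c ∈ M := by
    intro c hc
    have h1 : ι c * a₀ * (ι c)⁻¹ ∈ M := by
      rw [← hconj] at hc
      have := M.mul_mem hc (hAM ⟨_, rfl⟩ : a₀ ∈ M)
      rwa [inv_mul_cancel_right] at this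
    have h3 : IsCoatom (MulAut.conj (ι c)⁻¹ • M : Subgroup S) := by
      refine ⟨fun ht => hM.1 ?_, fun X hX => ?_⟩
      · exact top_le_iff.mp fun x _ => Subgroup.smul_mem_pointwise_smul_iff.mp
          (ht ▸ Subgroup.mem_top (MulAut.conj (ι c)⁻¹ • x))
      · have h4 : M < (MulAut.conj (ι c)⁻¹)⁻¹ • X := by
          refine lt_of_le_of_ne (Subgroup.pointwise_smul_subset_iff.mp hX.le) fun he => hX.ne ?_
          rw [he, smul_inv_smul]
        refine top_le_iff.mp fun x _ => ?_
        rw [← Subgroup.smul_mem_pointwise_smul_iff (a := (MulAut.conj (ι c)⁻¹)⁻¹), hM.2 _ h4]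
        exact Subgroup.mem_top _
    have h2 : A ≤ MulAut.conj (ι c)⁻¹ • M := by
      rintro _ ⟨⟨_, m, rfl⟩, rfl⟩
      have hz : SemidirectProduct.inr (⟨α ^ m, Subgroup.zpow_mem_zpowers α m⟩ : Subgroup.zpowers α) =
          a₀ ^ m := by
        rw [show a₀ = SemidirectProduct.inr ⟨α, Subgroup.mem_zpowers α⟩ from rfl]
        rw [← map_zpow (SemidirectProduct.inr : Subgroup.zpowers α →* S)]
        rfl
      rw [hz]
      refine Subgroup.zpow_mem _ (Lib.Subnormality.UniqueMaximal.mem_conj_smul.mpr ?_) m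
      rw [inv_inv]
      exact h1
    have h5 := huniq _ ⟨h3, h2⟩
    have h6 : (ι c)⁻¹ ∈ Subgroup.normalizer (M : Set S) :=
      Subgroup.mem_normalizer_iff_map_conj_eq.mpr h5
    rw [hMn] at h6
    exact inv_inv (ι c) ▸ M.inv_mem h6
  have hall : ∀ j c, ι ((f α)^[j] c) ∈ M → ι c ∈ M := by
    intro j
    induction j with
    | zero => exact fun c h => h
    | succ j ihj => exact fun c h => hback c (ihj _ h)
  refine hM.1 (eq_top_iff.mpr fun x _ => ?_)
  rw [← SemidirectProduct.inl_left_mul_inr_right x]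
  exact M.mul_mem (hall k _ (hLM _ (Subgroup.subset_closure ⟨_, rfl⟩))) (hAM ⟨_, rfl⟩)


/-- Let G be a finite group and α an automorphism of G with [G, α] = G, that is, the elements g·α(g)⁻¹ generate G. Then for every k ≥ 1 the iterated commutators [g, α, …, α] with k entries α — the values of the k-th iterate of the map c ↦ c·α(c)⁻¹ — also generate G. -/
theorem result {G : Type*} [Group G] [Finite G] (α : MulAut G) (hG : Subgroup.closure (Set.range (fun c : G => c * (α c)⁻¹)) = ⊤) (k : ℕ) (hk : 1 ≤ k) :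
    Subgroup.closure (Set.range ((fun c : G => c * (α c)⁻¹)^[k])) = ⊤ := by
  exact generate (Nat.card G) G le_rfl α hG k

end Cfsg.Agent.S3927
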