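import Cfsg.Statements.S3949
import Mathlib.GroupTheory.OrderOfElement
-- import your own Cfsg.Agent.* helpers here

set_option autoImplicit false
open Cfsg

namespace Cfsg.Agent.S3949

/-- Let G be a finite group and α an automorphism of G of order 2 such that the elements g·α(g)⁻¹ generate G. Let j be a positive integer such that 2^j divides the order of no element inverted by α. Then the set of values of the j-th iterate of the map c ↦ c·α(c)⁻¹ is exactly the set of elements of odd order inverted by α. -/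
theorem result {G : Type*} [Group G] [Finite G] (α : MulAut G) (hα : orderOf α = 2) (hG : Subgroup.closure (Set.range (fun c : G => c * (α c)⁻¹)) = ⊤)
    (j : ℕ) (hj : ∀ g : G, α g = g⁻¹ → ¬ 2 ^ j ∣ orderOf g) :
    Set.range ((fun c : G => c * (α c)⁻¹)^[j]) = {g : G | Odd (orderOf g) ∧ α g = g⁻¹} := by
  classical
  let f : G → G := fun c => c * (α c)⁻¹
  have hα2 : ∀ c, α (α c) = c := fun c => by
    rw [← MulAut.mul_apply, ← pow_two, ← hα, pow_orderOf_eq_one, MulAut.one_apply]
  have hinv : ∀ c, α (f c) = (f c)⁻¹ := fun c => by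
    simp [f, map_mul, map_inv, hα2]
  have hit : ∀ (i : ℕ) (y : G), α y = y⁻¹ → f^[i] y = y ^ 2 ^ i := by
    intro i
    induction i with
    | zero => intro y _; simp
    | succ i ih =>
      intro y hy
      rw [Function.iterate_succ_apply', ih y hy]
      simp only [f, map_pow, hy, inv_pow, inv_inv]
      rw [pow_succ, pow_mul, pow_two]
  obtain ⟨i, rfl⟩ : ∃ i, j = i + 1 := by
    refine ⟨j - 1, ?_⟩
    rcases Nat.eq_zero_or_pos j with rfl | h
    · exact absurd (by simp) (hj 1 (by simp))
    · omega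
  ext z
  constructor
  · rintro ⟨c, rfl⟩
    change Odd (orderOf (f^[i + 1] c)) ∧ α (f^[i + 1] c) = (f^[i + 1] c)⁻¹
    rw [Function.iterate_succ_apply, hit i _ (hinv c)]
    refine ⟨?_, by rw [map_pow, hinv, inv_pow]⟩
    rw [← Nat.not_even_iff_odd, even_iff_two_dvd, orderOf_pow]
    intro h2
    apply hj (f c) (hinv c)
    obtain ⟨k, hk, hg⟩ := (Nat.dvd_prime_pow Nat.prime_two).mp
      (Nat.gcd_dvd_right (orderOf (f c)) (2 ^ i))
    rcases hk.eq_or_lt with rfl | hlt
    · have hd := Nat.gcd_dvd_left (orderOf (f c)) (2 ^ k)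
      rw [hg] at hd h2
      rw [pow_succ]
      exact Nat.mul_dvd_of_dvd_div hd h2
    · exfalso
      rw [hg] at h2
      have hd := Nat.gcd_dvd_left (orderOf (f c)) (2 ^ i)
      rw [hg] at hd
      have h3 : 2 ^ (k + 1) ∣ orderOf (f c) := by
        rw [pow_succ]; exact Nat.mul_dvd_of_dvd_div hd h2
      have h4 := Nat.dvd_gcd h3 (pow_dvd_pow 2 hlt)
      rw [hg] at h4
      exact absurd (Nat.pow_dvd_pow_iff_le_right (x := 2) (by norm_num) |>.mp h4) (by omega)
  · rintro ⟨hodd, hz⟩
    obtain ⟨m, hm⟩ := exists_pow_eq_self_of_coprime (x := z) (n := 2 ^ (i + 1))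
      (Nat.Coprime.pow_left _ (Nat.coprime_two_left.mpr hodd))
    refine ⟨z ^ m, ?_⟩
    change f^[i + 1] (z ^ m) = z
    rw [hit (i + 1) (z ^ m) (by rw [map_pow, hz, inv_pow]), ← pow_mul, mul_comm, pow_mul, hm]

end Cfsg.Agent.S3949
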