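import Cfsg.Statements.S3264
import Cfsg.Agent.S3927
import Cfsg.Agent.S3949

set_option autoImplicit false
open Cfsg

namespace Cfsg.Agent.S3264

/-- Let G be a non-abelian finite simple group and X a conjugacy class of involutions of G. Form the graph on X in which two distinct involutions are joined when their product has odd order. Then this graph is connected. (By the Baer–Suzuki Theorem the graph has at least one edge; connectedness is the stronger statement.) -/
theorem result {G : Type*} [Group G] [Finite G] [IsSimpleGroup G]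
    (hG : ¬ IsMulCommutative G) (t : G) (ht : orderOf t = 2) :
    (SimpleGraph.fromRel fun x y : {x : G // IsConj t x} => Odd (orderOf (x.1 * y.1))).Connected := by
  set α : MulAut G := MulAut.conj t with hαdef
  have ht2 : t * t = 1 := by rw [← pow_two, ← ht, pow_orderOf_eq_one]
  have ht1 : t ≠ 1 := fun h => by simp [h] at ht
  have hnc : ∃ g : G, g * t ≠ t * g := by
    by_contra h
    push Not at h
    haveI : IsSimpleGroup G := inferInstance
    have hz : t ∈ Subgroup.center G := Subgroup.mem_center_iff.mpr h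
    rcases Subgroup.Normal.eq_bot_or_eq_top (H := Subgroup.center G) inferInstance with h' | h'
    · rw [h', Subgroup.mem_bot] at hz; exact ht1 hz
    · exact hG ⟨⟨fun a b => (Subgroup.mem_center_iff.mp (h' ▸ Subgroup.mem_top b) a)⟩⟩
  have hα : orderOf α = 2 := by
    refine orderOf_eq_prime (p := 2) ?_ fun h => ?_
    · rw [hαdef, ← map_pow, pow_two, ht2, map_one]
    · obtain ⟨g, hg⟩ := hnc
      have e : t * g * t⁻¹ = g := by
        have := congrArg (fun e : MulAut G => e g) h
        simpa [hαdef] using this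
      rw [mul_inv_eq_iff_eq_mul] at e
      exact hg e.symm
  set f : G → G := fun c => c * (α c)⁻¹ with hf
  have hfc : ∀ g : G, f g = g * t * g⁻¹ * t⁻¹ := fun g => by
    simp only [hf, hαdef, MulAut.conj_apply]; group
  have hgen : Subgroup.closure (Set.range f) = ⊤ := by
    set K := Subgroup.closure (Set.range f)
    have hK : K.Normal := by
      refine ⟨fun x hx k => ?_⟩
      have hle : K ≤ K.comap (MulAut.conj k).toMonoidHom := by
        refine (Subgroup.closure_le _).mpr ?_
        rintro _ ⟨g, rfl⟩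
        show k * f g * k⁻¹ ∈ K
        have e : k * f g * k⁻¹ = f (k * g) * (f k)⁻¹ := by rw [hfc, hfc, hfc]; group
        rw [e]
        exact K.mul_mem (Subgroup.subset_closure ⟨_, rfl⟩)
          (K.inv_mem (Subgroup.subset_closure ⟨_, rfl⟩))
      exact hle hx
    refine (hK.eq_bot_or_eq_top).resolve_left fun h => ?_
    obtain ⟨g, hg⟩ := hnc
    have hmem : f g ∈ K := Subgroup.subset_closure ⟨g, rfl⟩
    rw [h, Subgroup.mem_bot, hfc, mul_inv_eq_one, mul_inv_eq_iff_eq_mul] at hmem
    exact hg hmem
  have hj : ∀ g : G, α g = g⁻¹ → ¬ 2 ^ Nat.card G ∣ orderOf g := fun g _ hd =>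
    absurd ((Nat.le_of_dvd (orderOf_pos g) hd).trans
      (Nat.le_of_dvd Nat.card_pos (orderOf_dvd_natCard g))) (not_le.mpr Nat.lt_two_pow_self)
  have h1 := S3927.result α hgen (Nat.card G) Nat.card_pos
  rw [S3949.result α hα hgen _ hj] at h1
  set Γ := SimpleGraph.fromRel fun x y : {x : G // IsConj t x} => Odd (orderOf (x.1 * y.1))
  let cj : G → {x : G // IsConj t x} → {x : G // IsConj t x} := fun a x =>
    ⟨a * x.1 * a⁻¹, x.2.trans (isConj_iff.mpr ⟨a, rfl⟩)⟩
  have hcj : ∀ (a : G) (x y : {x : G // IsConj t x}), Γ.Reachable x y →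
      Γ.Reachable (cj a x) (cj a y) := by
    intro a x y hxy
    let φ : Γ →g Γ :=
      { toFun := cj a
        map_rel' := fun {u v} huv => by
          obtain ⟨hne, hr⟩ := huv
          refine ⟨fun h => hne (Subtype.ext ?_), ?_⟩
          · have := congrArg Subtype.val h
            exact mul_left_cancel (mul_right_cancel (this : a * u.1 * a⁻¹ = a * v.1 * a⁻¹))
          · have e : ∀ p q : G, orderOf (a * p * a⁻¹ * (a * q * a⁻¹)) = orderOf (p * q) := fun p q => by
              rw [show a * p * a⁻¹ * (a * q * a⁻¹) = MulAut.conj a (p * q) by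
                rw [MulAut.conj_apply]; group]
              exact (MulAut.conj a).orderOf_eq (p * q)
            show Odd (orderOf (a * u.1 * a⁻¹ * (a * v.1 * a⁻¹))) ∨ Odd (orderOf (a * v.1 * a⁻¹ * (a * u.1 * a⁻¹)))
            rw [e, e]
            exact hr }
    exact hxy.map φ
  let t₀ : {x : G // IsConj t x} := ⟨t, IsConj.refl t⟩
  have hcj1 : ∀ x, cj 1 x = x := fun x => Subtype.ext (by simp [cj])
  have hcjm : ∀ a b x, cj (a * b) x = cj a (cj b x) := fun a b x =>
    Subtype.ext (show a * b * x.1 * (a * b)⁻¹ = a * (b * x.1 * b⁻¹) * a⁻¹ by group)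
  let L : Subgroup G :=
    { carrier := {a | Γ.Reachable t₀ (cj a t₀)}
      one_mem' := by
        show Γ.Reachable t₀ (cj 1 t₀)
        rw [hcj1]
      mul_mem' := fun {a b} ha hb => by
        show Γ.Reachable t₀ (cj (a * b) t₀)
        rw [hcjm]
        exact ha.trans (hcj a _ _ hb)
      inv_mem' := fun {a} ha => by
        show Γ.Reachable t₀ (cj a⁻¹ t₀)
        have := hcj a⁻¹ _ _ ha
        rw [← hcjm, inv_mul_cancel, hcj1] at this
        exact this.symm }
  have hL : L = ⊤ := by
    rw [eq_top_iff, ← h1]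
    refine (Subgroup.closure_le _).mpr ?_
    rintro i ⟨hodd, hinv⟩
    show Γ.Reachable t₀ (cj i t₀)
    by_cases he : t₀ = cj i t₀
    · rw [← he]
    refine SimpleGraph.Adj.reachable ⟨he, Or.inl ?_⟩
    show Odd (orderOf (t * (i * t * i⁻¹)))
    have hinv' : t * i * t⁻¹ = i⁻¹ := by simpa [hαdef] using hinv
    have hti : t⁻¹ = t := inv_eq_of_mul_eq_one_right ht2
    rw [show t * (i * t * i⁻¹) = t * i * t⁻¹ * (t * t) * i⁻¹ by group, hinv', ht2, mul_one,
      show i⁻¹ * i⁻¹ = (i ^ 2)⁻¹ by group, orderOf_inv]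
    exact hodd.of_dvd_nat (orderOf_pow_dvd 2)
  haveI : Nonempty {x : G // IsConj t x} := ⟨t₀⟩
  refine SimpleGraph.Connected.mk fun x y => ?_
  have key : ∀ x : {x : G // IsConj t x}, Γ.Reachable t₀ x := by
    rintro ⟨x, hx⟩
    obtain ⟨a, ha⟩ := isConj_iff.mp hx
    have hm : a ∈ L := hL ▸ Subgroup.mem_top a
    have e : cj a t₀ = ⟨x, hx⟩ := Subtype.ext ha
    rw [← e]
    exact hm
  exact (key x).symm.trans (key y)

end Cfsg.Agent.S3264
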