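import Cfsg.Statements.S3265
import Cfsg.Agent.Lib.InvGraph.Assemble
import Cfsg.Agent.Lib.InvGraph.Basic
-- import your own Cfsg.Agent.* helpers here

set_option autoImplicit false
open Cfsg

namespace Cfsg.Agent.S3265

/-- Let n ≥ 5 and let X be a conjugacy class of involutions of the symmetric group of degree n. The graph on X joining two distinct involutions whose product has odd order is connected and has diameter exactly 2. -/
theorem result (n : ℕ) (hn : 5 ≤ n) (t : Equiv.Perm (Fin n)) (ht : orderOf t = 2) :
    (SimpleGraph.fromRel fun x y : {x : Equiv.Perm (Fin n) // IsConj t x} =>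
        Odd (orderOf (x.1 * y.1))).Connected ∧
      (SimpleGraph.fromRel fun x y : {x : Equiv.Perm (Fin n) // IsConj t x} =>
        Odd (orderOf (x.1 * y.1))).diam = 2 := by
  classical
  have hinv : ∀ g : Equiv.Perm (Fin n), IsConj t g → g * g = 1 := fun g hg => by
    obtain ⟨s, rfl⟩ := isConj_iff.1 hg
    have := pow_orderOf_eq_one t
    rw [ht, pow_two] at this
    exact InvGraph.conj_sq this s
  have htt := hinv t (IsConj.refl t)
  -- a commuting conjugate
  obtain ⟨u, hu, hne, hcomm⟩ : ∃ u, IsConj t u ∧ t ≠ u ∧ Commute t u := by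
    obtain ⟨a, ha⟩ : ∃ a, t a ≠ a := by
      by_contra! h
      have : t = 1 := Equiv.ext h
      rw [this, orderOf_one] at ht
      exact absurd ht (by norm_num)
    set b := t a with hb
    have htb : t b = a := InvGraph.invol_apply htt a
    have hab : a ≠ b := fun e => ha e.symm
    by_cases hmov : ∃ c, c ≠ a ∧ c ≠ b ∧ t c ≠ c
    · obtain ⟨c, hca, hcb, hc⟩ := hmov
      set d := t c with hd
      have htd : t d = c := InvGraph.invol_apply htt c
      have hdc : d ≠ c := hc
      have hda : d ≠ a := fun e => hcb (by rw [← htd, e])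
      have hdb : d ≠ b := fun e => hca (by rw [← htd, e, htb])
      set s := Equiv.swap b c with hs
      have key := InvGraph.conj_apply_apply t s
      have ua : (s * t * s⁻¹) a = c := by
        have := key a
        rwa [← hb, hs, Equiv.swap_apply_of_ne_of_ne hab hca.symm, Equiv.swap_apply_left] at this
      have ub : (s * t * s⁻¹) b = d := by
        have := key c
        rwa [← hd, hs, Equiv.swap_apply_right, Equiv.swap_apply_of_ne_of_ne hdb hdc] at this
      have usq := InvGraph.conj_sq htt s
      have uc : (s * t * s⁻¹) c = a := by rw [← ua, InvGraph.invol_apply usq]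
      have ud : (s * t * s⁻¹) d = b := by rw [← ub, InvGraph.invol_apply usq]
      refine ⟨s * t * s⁻¹, InvGraph.isConj_conj t s, fun e => ?_, Equiv.ext fun p => ?_⟩
      · rw [← e] at ua; exact hcb ua.symm
      · show t ((s * t * s⁻¹) p) = (s * t * s⁻¹) (t p)
        by_cases h1 : p = a
        · subst h1; rw [ua, ← hd, ← hb, ub]
        by_cases h2 : p = b
        · subst h2; rw [ub, htd, htb, ua]
        by_cases h3 : p = c
        · subst h3; rw [uc, ← hb, ← hd, ud]
        by_cases h4 : p = d
        · subst h4; rw [ud, htb, htd, uc]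
        have hoff : ∀ q, q ≠ a → q ≠ b → q ≠ c → q ≠ d → (s * t * s⁻¹) q = t q := by
          intro q q1 q2 q3 q4
          refine InvGraph.conj_off t s ({a, b, c, d} : Set (Fin n))
            (fun w hw => ?_) (fun w hw h => hw ?_) q (by simp [q1, q2, q3, q4])
          · simp only [Set.mem_insert_iff, Set.mem_singleton_iff, not_or] at hw
            exact Equiv.swap_apply_of_ne_of_ne hw.2.1 hw.2.2.1
          · simp only [Set.mem_insert_iff, Set.mem_singleton_iff] at h ⊢
            rcases h with h | h | h | h <;>
              rw [← InvGraph.invol_apply htt w, h] <;> simp [← hb, htb, ← hd, htd]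
        rw [hoff p h1 h2 h3 h4, hoff (t p) (fun e => h2 ?_) (fun e => h1 ?_) (fun e => h4 ?_)
          (fun e => h3 ?_)]
        · rw [← InvGraph.invol_apply htt p, e]
        · rw [← InvGraph.invol_apply htt p, e, htb]
        · rw [← InvGraph.invol_apply htt p, e]
        · rw [← InvGraph.invol_apply htt p, e, htd]
    · push Not at hmov
      obtain ⟨c, -, hc⟩ := Finset.exists_mem_notMem_of_card_lt_card
        (s := ({a, b} : Finset (Fin n))) (t := Finset.univ)
        (lt_of_le_of_lt Finset.card_le_two (by simp; omega))
      obtain ⟨d, -, hd⟩ := Finset.exists_mem_notMem_of_card_lt_card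
        (s := ({a, b, c} : Finset (Fin n))) (t := Finset.univ)
        (lt_of_le_of_lt Finset.card_le_three (by simp; omega))
      simp only [Finset.mem_insert, Finset.mem_singleton, not_or] at hc hd
      have hts : t = Equiv.swap a b := by
        ext p
        by_cases h1 : p = a
        · rw [h1, Equiv.swap_apply_left]
        by_cases h2 : p = b
        · rw [h2, Equiv.swap_apply_right, htb]
        rw [Equiv.swap_apply_of_ne_of_ne h1 h2, hmov p h1 h2]
      refine ⟨Equiv.swap c d, ?_, fun e => ?_, ?_⟩
      · rw [hts]
        exact Equiv.Perm.isConj_swap hab fun e => hd.2.2 e.symm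
      · have h1 : Equiv.swap c d a = b := by rw [← e]
        rw [Equiv.swap_apply_of_ne_of_ne (fun e' => hc.1 e'.symm) (fun e' => hd.1 e'.symm)] at h1
        exact hab h1
      · rw [hts]
        refine Equiv.Perm.Disjoint.commute fun p => ?_
        by_cases h1 : p = a
        · right; subst h1
          exact Equiv.swap_apply_of_ne_of_ne (fun e' => hc.1 e'.symm) (fun e' => hd.1 e'.symm)
        by_cases h2 : p = b
        · right; subst h2
          exact Equiv.swap_apply_of_ne_of_ne (fun e' => hc.2 e'.symm) (fun e' => hd.2.1 e'.symm)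
        left; exact Equiv.swap_apply_of_ne_of_ne h1 h2
  refine InvGraph.connected_diam_two (fun g => IsConj t g) ?_ t u (IsConj.refl t) hu hne ?_
  · intro x y hx hy _ _
    obtain ⟨z, hz, h1, h2⟩ := InvGraph.exists_common (hinv x hx) (hinv y hy)
      (by simpa using hn) (hx.symm.trans hy)
    exact ⟨z, hx.trans hz, InvGraph.odd_orderOf_swap _ _ h1, h2⟩
  · have h2 : orderOf (t * u) = 2 := orderOf_eq_prime (by
      rw [hcomm.mul_pow, pow_two, pow_two, htt, hinv u hu, one_mul]) (fun e => hne (by
      rw [← mul_one t, ← hinv u hu, ← mul_assoc, e, one_mul]))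
    rw [h2]; decide

end Cfsg.Agent.S3265
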