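import Cfsg.Statements.S3266
import Cfsg.Agent.Lib.InvGraph.PSL
-- import your own Cfsg.Agent.* helpers here

set_option autoImplicit false
open Cfsg

namespace Cfsg.Agent.S3266

/-- Let F be a finite field with at least 4 elements and let X be a conjugacy class of involutions of PSL(2, F). The graph on X joining two distinct involutions whose product has odd order is connected and has diameter exactly 2. -/
theorem result {F : Type*} [Field F] [Fintype F] (hF : 4 ≤ Fintype.card F)
    (t : Matrix.ProjectiveSpecialLinearGroup (Fin 2) F) (ht : orderOf t = 2) :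
    (SimpleGraph.fromRel fun x y : {x : Matrix.ProjectiveSpecialLinearGroup (Fin 2) F // IsConj t x} =>
        Odd (orderOf (x.1 * y.1))).Connected ∧
      (SimpleGraph.fromRel fun x y : {x : Matrix.ProjectiveSpecialLinearGroup (Fin 2) F // IsConj t x} =>
        Odd (orderOf (x.1 * y.1))).diam = 2 := by
  classical
  let π := QuotientGroup.mk' (Subgroup.center (Matrix.SpecialLinearGroup (Fin 2) F))
  have hlift : ∀ g : Matrix.ProjectiveSpecialLinearGroup (Fin 2) F, orderOf g = 2 →
      ∃ A : Matrix.SpecialLinearGroup (Fin 2) F, π A = g ∧ A.1.trace = 0 ∧ A.1 ≠ 1 ∧ π A ≠ 1 := by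
    intro g hg
    obtain ⟨A, hA⟩ := QuotientGroup.mk'_surjective _ g
    have hA1 : π A ≠ 1 := fun h => by
      rw [← hA] at hg; rw [show orderOf (π A) = 1 by rw [h, orderOf_one]] at hg
      exact absurd hg (by norm_num)
    exact ⟨A, hA, InvGraph.trace_eq_zero_of_orderOf A (hA.symm ▸ hg),
      fun h => hA1 ((InvGraph.mk_eq_one_iff A).2 (Or.inl h)), hA1⟩
  obtain ⟨T, hT, hTt, hT1, -⟩ := hlift t ht
  have hclass : ∀ A : Matrix.SpecialLinearGroup (Fin 2) F, A.1.trace = 0 → A.1 ≠ 1 →
      IsConj t (π A) := fun A hA hA1 => by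
    rw [← hT]
    exact π.map_isConj (InvGraph.isConj_of_trace T A hTt hA hT1 hA1)
  obtain ⟨A, B, hA, hB, hA1, hB1, hAB, hodd⟩ := InvGraph.exists_pair hF
  refine InvGraph.connected_diam_two (fun g => IsConj t g) ?_ (π A) (π B) (hclass A hA hA1)
    (hclass B hB hB1) hAB (by rw [← map_mul]; exact hodd)
  intro x y hx hy hxy hn
  obtain ⟨c, hc⟩ := isConj_iff.1 hx
  obtain ⟨d, hd⟩ := isConj_iff.1 hy
  obtain ⟨X, rfl, hXt, hX1, hXn⟩ := hlift x (by
    rw [← hc, ← MulAut.conj_apply, MulEquiv.orderOf_eq, ht])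
  obtain ⟨Y, rfl, hYt, hY1, hYn⟩ := hlift y (by
    rw [← hd, ← MulAut.conj_apply, MulEquiv.orderOf_eq, ht])
  obtain ⟨C, hC, hC1, hXC, hCY⟩ := InvGraph.exists_mid hF X Y hXt hYt hXn hYn
    (by rw [map_mul]; exact hn)
  exact ⟨π C, hclass C hC hC1, by rw [← map_mul]; exact hXC, by rw [← map_mul]; exact hCY⟩

end Cfsg.Agent.S3266
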