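import Cfsg.Statements.S3269
import Mathlib
import Cfsg.Prelude.Def_TwoFusion
import Cfsg.Agent.Lib.Inv59.Basic
import Cfsg.Agent.Lib.Inv59.QuatQuotient
import Cfsg.Agent.Lib.Cores.Pi
import Cfsg.Agent.S0215

set_option autoImplicit false
open Cfsg

namespace Cfsg.Agent.S3269

section aux
variable {T : Type*} [Group T] [Finite T] {n : ℕ}

/-- a direct decomposition with a quaternion factor, with the involution of that factor -/
def Dec (n : ℕ) (Q R : Subgroup T) (z : T) : Prop :=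
  (∀ a ∈ Q, ∀ b ∈ R, Commute a b) ∧ Q ⊓ R = ⊥ ∧ Q ⊔ R = ⊤ ∧
    Nonempty (↥Q ≃* QuaternionGroup (2 ^ n)) ∧ z ∈ Q ∧ orderOf z = 2

omit [Finite T] in
theorem unique_inv {Q : Subgroup T} (e : ↥Q ≃* QuaternionGroup (2 ^ n)) {z w : T} (hz : z ∈ Q)
    (hz2 : orderOf z = 2) (hw : w ∈ Q) (hw2 : orderOf w = 2) : w = z := by
  have h1 := Cfsg.Agent.Lib.Inv59.QuatQuotient.eq_of_orderOf_two (e ⟨z, hz⟩)
    (by rw [MulEquiv.orderOf_eq, Subgroup.orderOf_mk, hz2])
  have h2 := Cfsg.Agent.Lib.Inv59.QuatQuotient.eq_of_orderOf_two (e ⟨w, hw⟩)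
    (by rw [MulEquiv.orderOf_eq, Subgroup.orderOf_mk, hw2])
  exact congrArg Subtype.val (e.injective (h2.trans h1.symm))

omit [Finite T] in
/-- the involution is a commutator and is central in the quaternion factor -/
theorem inv_props (hn : 1 ≤ n) {Q : Subgroup T} (e : ↥Q ≃* QuaternionGroup (2 ^ n)) {z : T}
    (hz : z ∈ Q) (hz2 : orderOf z = 2) :
    (∃ u ∈ Q, ∃ v ∈ Q, z = u * v * u⁻¹ * v⁻¹) ∧ (∀ q ∈ Q, (∀ r ∈ Q, Commute q r) → q = 1 ∨ q = z) ∧
      ∀ q ∈ Q, Commute z q := by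
  have hN : ((2 ^ n : ℕ) : ZMod (2 * 2 ^ n)) + ((2 ^ n : ℕ) : ZMod (2 * 2 ^ n)) = 0 := by
    rw [← Nat.cast_add, ← two_mul, ZMod.natCast_self]
  have hne : ((2 ^ n : ℕ) : ZMod (2 * 2 ^ n)) ≠ 0 := by
    intro h0
    have := Nat.le_of_dvd (by positivity) ((ZMod.natCast_eq_zero_iff _ _).1 h0)
    have : 0 < 2 ^ n := by positivity
    omega
  have hez : e ⟨z, hz⟩ = QuaternionGroup.a ((2 ^ n : ℕ) : ZMod (2 * 2 ^ n)) :=
    Cfsg.Agent.Lib.Inv59.QuatQuotient.eq_of_orderOf_two _
      (by rw [MulEquiv.orderOf_eq, Subgroup.orderOf_mk, hz2])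
  obtain ⟨m, rfl⟩ : ∃ m, n = m + 1 := ⟨n - 1, by omega⟩
  refine ⟨?_, ?_, ?_⟩
  · set u := e.symm (QuaternionGroup.xa 0)
    set v := e.symm (QuaternionGroup.a ((2 ^ m : ℕ) : ZMod (2 * 2 ^ (m + 1))))
    refine ⟨u, u.2, v, v.2, ?_⟩
    have : (⟨z, hz⟩ : ↥Q) = u * v * u⁻¹ * v⁻¹ := by
      apply e.injective
      rw [hez, map_mul, map_mul, map_mul, map_inv, map_inv, MulEquiv.apply_symm_apply,
        MulEquiv.apply_symm_apply]
      simp only [QuaternionGroup.a_mul_a, QuaternionGroup.a_mul_xa, QuaternionGroup.xa_mul_a,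
        QuaternionGroup.xa_mul_xa, QuaternionGroup.a.injEq,
        show ∀ i, (QuaternionGroup.xa i : QuaternionGroup (2 ^ (m + 1)))⁻¹ =
          QuaternionGroup.xa (((2 ^ (m + 1) : ℕ) : ZMod _) + i) from fun i => rfl,
        show ∀ i, (QuaternionGroup.a i : QuaternionGroup (2 ^ (m + 1)))⁻¹ =
          QuaternionGroup.a (-i) from fun i => rfl]
      rw [show (2 ^ (m + 1) : ℕ) = 2 ^ m + 2 ^ m by ring, Nat.cast_add] at hN ⊢
      ring
    exact congrArg Subtype.val this
  · intro q hq hcomm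
    by_contra hc
    push Not at hc
    have hcen : ∀ x, Commute (e ⟨q, hq⟩) x := fun x => by
      have h := hcomm _ (e.symm x).2
      have h' : Commute (⟨q, hq⟩ : ↥Q) (e.symm x) := Subtype.ext h
      have := h'.map e.toMonoidHom
      simpa using this
    generalize hg : e ⟨q, hq⟩ = g at hcen
    rcases g with i | i
    · have h1 := (hcen (QuaternionGroup.xa 0)).eq
      simp only [QuaternionGroup.a_mul_xa, QuaternionGroup.xa_mul_a, QuaternionGroup.xa.injEq] at h1
      have h2 : i + i = 0 := by linear_combination -h1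
      have h3 : (QuaternionGroup.a i : QuaternionGroup (2 ^ (m + 1))) ^ 2 = 1 := by
        rw [pow_two, QuaternionGroup.a_mul_a, h2]; rfl
      rcases (Nat.dvd_prime Nat.prime_two).1 (orderOf_dvd_of_pow_eq_one h3) with h4 | h4
      · apply hc.1
        have h5 : e ⟨q, hq⟩ = 1 := hg.trans (orderOf_eq_one_iff.1 h4)
        exact congrArg Subtype.val (e.injective (h5.trans (map_one e).symm))
      · apply hc.2
        refine unique_inv e hz hz2 hq ?_
        rw [← Subgroup.orderOf_mk q hq, ← MulEquiv.orderOf_eq e, hg, h4]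
    · have h1 := (hcen (QuaternionGroup.a 1)).eq
      simp only [QuaternionGroup.a_mul_xa, QuaternionGroup.xa_mul_a, QuaternionGroup.xa.injEq] at h1
      have h2 : ((2 : ℕ) : ZMod (2 * 2 ^ (m + 1))) = 0 := by push_cast; linear_combination h1
      have := Nat.le_of_dvd (by norm_num) ((ZMod.natCast_eq_zero_iff _ _).1 h2)
      have : 2 ≤ 2 ^ (m + 1) := Nat.le_self_pow (by omega) 2
      omega
  · intro q hq
    have h' : e ⟨z, hz⟩ * e ⟨q, hq⟩ = e ⟨q, hq⟩ * e ⟨z, hz⟩ := by
      rw [hez]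
      generalize e ⟨q, hq⟩ = g
      rcases g with i | i
      · simp [QuaternionGroup.a_mul_a, add_comm]
      · simp only [QuaternionGroup.a_mul_xa, QuaternionGroup.xa_mul_a, QuaternionGroup.xa.injEq]
        linear_combination -hN
    rw [← map_mul, ← map_mul] at h'
    exact congrArg Subtype.val (e.injective h')

theorem exists_proj {Q R : Subgroup T} (hc : ∀ a ∈ Q, ∀ b ∈ R, Commute a b) (hd : Q ⊓ R = ⊥)
    (hs : Q ⊔ R = ⊤) :
    ∃ (p : T →* ↥Q) (r : T →* ↥R), (∀ t, t = (p t : T) * (r t : T)) ∧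
      (∀ q : ↥Q, p q = q ∧ r q = 1) ∧ (∀ x : ↥R, p x = 1 ∧ r x = x) ∧
      Nat.card T = Nat.card ↥Q * Nat.card ↥R := by
  let f : ↥Q × ↥R →* T :=
    { toFun := fun x => (x.1 : T) * (x.2 : T)
      map_one' := by simp
      map_mul' := fun x y => by
        show ((x.1 : T) * y.1) * ((x.2 : T) * y.2) = (x.1 : T) * x.2 * ((y.1 : T) * y.2)
        rw [mul_assoc, ← mul_assoc (y.1 : T), (hc y.1 y.1.2 x.2 x.2.2).eq]
        group }
  have hinj : Function.Injective f := by
    rw [injective_iff_map_eq_one]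
    rintro ⟨a, b⟩ h
    have h1 : (a : T) = (b : T)⁻¹ := eq_inv_of_mul_eq_one_left h
    have ha : (a : T) ∈ Q ⊓ R := ⟨a.2, h1 ▸ R.inv_mem b.2⟩
    rw [hd, Subgroup.mem_bot] at ha
    have hb : (b : T) = 1 := by rw [ha] at h1; simpa using h1.symm
    exact Prod.ext (Subtype.ext ha) (Subtype.ext hb)
  have hsurj : Function.Surjective f := by
    rw [← MonoidHom.range_eq_top, eq_top_iff, ← hs, sup_le_iff]
    exact ⟨fun q hq => ⟨(⟨q, hq⟩, 1), by simp [f]⟩, fun x hx => ⟨(1, ⟨x, hx⟩), by simp [f]⟩⟩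
  let e := MulEquiv.ofBijective f ⟨hinj, hsurj⟩
  refine ⟨(MonoidHom.fst _ _).comp e.symm.toMonoidHom, (MonoidHom.snd _ _).comp e.symm.toMonoidHom,
    fun t => ((e.apply_symm_apply t).symm : t = _), fun q => ?_, fun x => ?_, ?_⟩
  · have h : e.symm (q : T) = (q, 1) := e.symm_apply_eq.2 (by simp [e, f, MulEquiv.ofBijective])
    simp [h]
  · have h : e.symm (x : T) = (1, x) := e.symm_apply_eq.2 (by simp [e, f, MulEquiv.ofBijective])
    simp [h]
  · rw [← Nat.card_congr e.toEquiv, Nat.card_prod]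

theorem dichotomy (hn : 1 ≤ n) {Q R Q' R' : Subgroup T} {z z' : T} (h : Dec n Q R z)
    (h' : Dec n Q' R' z') : z' = z ∨ z' ∈ R := by
  obtain ⟨hc, hd, hs, ⟨e⟩, hz, hz2⟩ := h
  obtain ⟨hc', hd', hs', ⟨e'⟩, hz', hz2'⟩ := h'
  obtain ⟨⟨u, hu, v, hv, huv⟩, -, -⟩ := inv_props hn e' hz' hz2'
  obtain ⟨-, hZQ, -⟩ := inv_props hn e hz hz2
  obtain ⟨p, r, hpr, hpQ, hpR, hcard⟩ := exists_proj hc hd hs
  obtain ⟨p', r', hpr', -, -, hcard'⟩ := exists_proj hc' hd' hs'
  by_cases hinj : p z' = 1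
  · right
    rw [hpr z', hinj]
    simp
  left
  have hinj' : Function.Injective (p.comp Q'.subtype) := by
    rw [injective_iff_map_eq_one]
    intro x hx
    by_contra hx1
    -- a nontrivial kernel contains the involution
    have heven : 2 ∣ orderOf x := by
      have hord : orderOf x ∣ Nat.card (QuaternionGroup (2 ^ n)) := by
        rw [← MulEquiv.orderOf_eq e']; exact orderOf_dvd_natCard _
      rw [Nat.card_eq_fintype_card, QuaternionGroup.card, show 4 * 2 ^ n = 2 ^ (n + 2) by ring] at hord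
      obtain ⟨k, -, hk⟩ := (Nat.dvd_prime_pow Nat.prime_two).1 hord
      rcases Nat.eq_zero_or_pos k with rfl | hk0
      · exact absurd (orderOf_eq_one_iff.1 (by simpa using hk)) hx1
      · rw [hk]; exact dvd_pow_self 2 hk0.ne'
    set y := x ^ (orderOf x / 2)
    have hy : orderOf y = 2 := orderOf_pow_orderOf_div (orderOf_pos x).ne' heven
    have hyz : (y : T) = z' := unique_inv e' hz' hz2' y.2 ((Subgroup.orderOf_coe y).trans hy)
    apply hinj
    rw [← hyz]
    have : (p.comp Q'.subtype) y = 1 := by rw [map_pow, hx, one_pow]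
    exact this
  have hsurj' : Function.Surjective (p.comp Q'.subtype) :=
    ((Nat.bijective_iff_injective_and_card _).2
      ⟨hinj', by rw [Nat.card_congr e.toEquiv, Nat.card_congr e'.toEquiv]⟩).2
  -- the projection of `R'` to `Q` is central
  have hpc : ∀ w ∈ R', (p w : T) = 1 ∨ (p w : T) = z := by
    intro w hw
    refine hZQ _ (p w).2 fun q hq => ?_
    obtain ⟨x, hx⟩ := hsurj' ⟨q, hq⟩
    have h1 : Commute (p w) (p (x : T)) := ((hc' x x.2 w hw).symm).map p
    have h2 : p (x : T) = ⟨q, hq⟩ := hx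
    rw [h2] at h1
    exact congrArg Subtype.val h1.eq
  set φ := r.comp R'.subtype with hφ
  have hker : Nat.card ↥φ.ker ≤ 2 := by
    let g : ↥φ.ker → ({1, z} : Set T) := fun w => ⟨((w : ↥R') : T), by
      have hw : r ((w : ↥R') : T) = 1 := w.2
      have e1 := hpr ((w : ↥R') : T)
      rw [hw, Subgroup.coe_one, mul_one] at e1
      rw [e1]
      exact hpc _ (w : ↥R').2⟩
    refine le_trans (Nat.card_le_card_of_injective g ?_) ?_
    · intro a b hab
      exact Subtype.ext (Subtype.ext (congrArg (fun s : ({1, z} : Set T) => (s : T)) hab))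
    · rw [Nat.card_coe_set_eq]
      exact (Set.ncard_insert_le _ _).trans (by simp)
  have hidx : φ.range.index ≤ 2 := by
    have h1 := φ.range.index_mul_card
    have h2 : Nat.card ↥R' = Nat.card ↥φ.range * Nat.card ↥φ.ker := by
      rw [← Nat.card_congr (QuotientGroup.quotientKerEquivRange φ).toEquiv,
        ← Subgroup.card_eq_card_quotient_mul_card_subgroup]
    have h3 : Nat.card ↥R' = Nat.card ↥R := by
      have h4 : Nat.card ↥Q * Nat.card ↥R = Nat.card ↥Q' * Nat.card ↥R' := hcard.symm.trans hcard'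
      rw [Nat.card_congr e.toEquiv, Nat.card_congr e'.toEquiv] at h4
      exact (Nat.eq_of_mul_eq_mul_left Nat.card_pos h4).symm
    have h5 : φ.range.index * Nat.card ↥φ.range = Nat.card ↥φ.ker * Nat.card ↥φ.range := by
      rw [h1, ← h3, h2]; ring
    rw [Nat.eq_of_mul_eq_mul_right Nat.card_pos h5]
    exact hker
  have hcomm : ∀ a ∈ Q', ∀ i ∈ φ.range, Commute (r a) i := by
    rintro a ha _ ⟨w, rfl⟩
    exact (hc' a ha w w.2).map r
  have hab : Commute (r u) (r v) := by
    by_cases hu' : r u ∈ φ.range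
    · exact (hcomm v hv _ hu').symm
    by_cases hv' : r v ∈ φ.range
    · exact hcomm u hu _ hv'
    have h2 : φ.range.index = 2 := by
      have h1 : φ.range.index ≠ 1 := fun h => hu' (by rw [Subgroup.index_eq_one.1 h]; trivial)
      have h0 : φ.range.index ≠ 0 := Subgroup.index_ne_zero_of_finite
      omega
    have h3 : (r u)⁻¹ * r v ∈ φ.range := by
      rw [Subgroup.mul_mem_iff_of_index_two h2, Subgroup.inv_mem_iff]
      exact iff_of_false hu' hv'
    have h4 := hcomm u hu _ h3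
    have h5 := (Commute.refl (r u)).mul_right h4
    simpa using h5
  have hrz : r z' = 1 := by
    rw [huv, map_mul, map_mul, map_mul, map_inv, map_inv, hab.eq, mul_inv_cancel_right, mul_inv_cancel]
  have hzp : z' = (p z' : T) := by
    conv_lhs => rw [hpr z', hrz, Subgroup.coe_one, mul_one]
  rw [hzp]
  refine unique_inv e hz hz2 (p z').2 ?_
  rw [← hzp]
  exact hz2'

/-- an automorphism-invariant central involution -/
theorem exists_invariant (hn : 1 ≤ n) {Q R : Subgroup T} {z : T} (h : Dec n Q R z) :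
    ∃ c : T, orderOf c = 2 ∧ (∀ t, Commute c t) ∧ ∀ φ : MulAut T, φ c = c := by
  classical
  have hfin : {w : T | ∃ Q' R' : Subgroup T, Dec n Q' R' w}.Finite := Set.toFinite _
  have hcen : ∀ w ∈ hfin.toFinset, w ∈ Subgroup.center T := by
    intro w hw
    obtain ⟨Q', R', hc', -, hs', ⟨e'⟩, hw', hw2⟩ := hfin.mem_toFinset.1 hw
    have hle : Q' ⊔ R' ≤ Subgroup.centralizer ({w} : Set T) := by
      refine sup_le (fun q hq => ?_) (fun x hx => ?_)
      · exact Subgroup.mem_centralizer_singleton_iff.2 ((inv_props hn e' hw' hw2).2.2 q hq).symm.eq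
      · exact Subgroup.mem_centralizer_singleton_iff.2 (hc' w hw' x hx).symm.eq
    rw [hs'] at hle
    exact Subgroup.mem_center_iff.2 fun t =>
      Subgroup.mem_centralizer_singleton_iff.1 (hle (Subgroup.mem_top t))
  letI : CommGroup ↥(Subgroup.center T) :=
    { (inferInstance : Group ↥(Subgroup.center T)) with
      mul_comm := fun a b => Subtype.ext ((Subgroup.mem_center_iff.1 a.2 (b : T)).symm) }
  set F : Finset ↥(Subgroup.center T) :=
    hfin.toFinset.attach.image (fun w => ⟨w.1, hcen w.1 w.2⟩) with hF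
  have hmemF : ∀ w : ↥(Subgroup.center T), w ∈ F ↔ ∃ Q' R' : Subgroup T, Dec n Q' R' (w : T) := by
    intro w
    rw [hF, Finset.mem_image]
    constructor
    · rintro ⟨x, -, rfl⟩
      exact hfin.mem_toFinset.1 x.2
    · intro hw
      exact ⟨⟨w.1, hfin.mem_toFinset.2 hw⟩, Finset.mem_attach _ _, rfl⟩
  set c : ↥(Subgroup.center T) := ∏ w ∈ F, w with hc
  have hzF : ∃ z₀ : ↥(Subgroup.center T), (z₀ : T) = z ∧ z₀ ∈ F :=
    ⟨⟨z, hcen z (hfin.mem_toFinset.2 ⟨Q, R, h⟩)⟩, rfl, (hmemF _).2 ⟨Q, R, h⟩⟩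
  obtain ⟨z₀, hz₀, hz₀F⟩ := hzF
  have hne : c ≠ 1 := by
    intro h0
    have h1 : z₀ * ∏ w ∈ F.erase z₀, w = 1 := by rw [Finset.mul_prod_erase F (fun w => w) hz₀F, ← hc, h0]
    have h2 : ((∏ w ∈ F.erase z₀, w : ↥(Subgroup.center T)) : T) ∈ R := by
      have hmem : (∏ w ∈ F.erase z₀, w) ∈ R.subgroupOf (Subgroup.center T) := by
        refine Subgroup.prod_mem _ fun w hw => ?_
        obtain ⟨hw1, hw2⟩ := Finset.mem_erase.1 hw
        obtain ⟨Q', R', h'⟩ := (hmemF w).1 hw2
        rcases dichotomy hn h h' with h3 | h3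
        · exact absurd (Subtype.ext (h3.trans hz₀.symm)) hw1
        · exact h3
      exact hmem
    have h3 : z ∈ Q ⊓ R := by
      refine ⟨h.2.2.2.2.1, ?_⟩
      rw [← hz₀, eq_inv_of_mul_eq_one_left h1, Subgroup.coe_inv]
      exact R.inv_mem h2
    rw [h.2.1, Subgroup.mem_bot] at h3
    have := h.2.2.2.2.2
    rw [h3, orderOf_one] at this
    omega
  have hc2 : c ^ 2 = 1 := by
    rw [hc, ← Finset.prod_pow]
    refine Finset.prod_eq_one fun w hw => ?_
    obtain ⟨Q', R', h'⟩ := (hmemF w).1 hw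
    exact Subtype.ext (by
      rw [Subgroup.coe_pow, ← h'.2.2.2.2.2, pow_orderOf_eq_one, Subgroup.coe_one])
  refine ⟨c, ?_, fun t => (Subgroup.mem_center_iff.1 c.2 t).symm, fun φ => ?_⟩
  · rw [Subgroup.orderOf_coe]
    exact orderOf_eq_prime hc2 hne
  · let ψ : ↥(Subgroup.center T) ≃* ↥(Subgroup.center T) := Subgroup.centerCongr φ
    have hperm : ψ c = c := by
      rw [hc, map_prod]
      refine Finset.prod_nbij' (fun w => ψ w) (fun w => ψ.symm w) ?_ ?_ ?_ ?_ ?_
      · intro w hw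
        obtain ⟨Q', R', hc', hd', hs', ⟨e'⟩, hw', hw2⟩ := (hmemF w).1 hw
        refine (hmemF _).2 ⟨Q'.map φ.toMonoidHom, R'.map φ.toMonoidHom, ?_, ?_, ?_, ⟨?_⟩,
          ⟨w, hw', rfl⟩, (MulEquiv.orderOf_eq φ (w : T)).trans hw2⟩
        · rintro _ ⟨a, ha, rfl⟩ _ ⟨b, hb, rfl⟩
          exact (hc' a ha b hb).map φ.toMonoidHom
        · rw [← Subgroup.map_inf _ _ _ φ.injective, hd', Subgroup.map_bot]
        · rw [← Subgroup.map_sup, hs', Subgroup.map_top_of_surjective _ φ.surjective]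
        · exact ((Q'.equivMapOfInjective _ φ.injective).symm.trans e')
      · intro w hw
        obtain ⟨Q', R', hc', hd', hs', ⟨e'⟩, hw', hw2⟩ := (hmemF w).1 hw
        refine (hmemF _).2 ⟨Q'.map φ.symm.toMonoidHom, R'.map φ.symm.toMonoidHom, ?_, ?_, ?_, ⟨?_⟩,
          ⟨w, hw', rfl⟩, (MulEquiv.orderOf_eq φ.symm (w : T)).trans hw2⟩
        · rintro _ ⟨a, ha, rfl⟩ _ ⟨b, hb, rfl⟩
          exact (hc' a ha b hb).map φ.symm.toMonoidHom
        · rw [← Subgroup.map_inf _ _ _ φ.symm.injective, hd', Subgroup.map_bot]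
        · rw [← Subgroup.map_sup, hs', Subgroup.map_top_of_surjective _ φ.symm.surjective]
        · exact ((Q'.equivMapOfInjective _ φ.symm.injective).symm.trans e')
      · intro w _; exact ψ.symm_apply_apply w
      · intro w _; exact ψ.apply_symm_apply w
      · intro w _; rfl
    exact congrArg Subtype.val hperm

end aux

/-- Let G be a finite group whose Sylow 2-subgroup S is an internal direct product Q × R with Q generalized quaternion (of order at least 8) and R a subgroup all of whose involutions are central in R. Then G is not simple. In particular no finite simple group has a Sylow 2-subgroup that is a direct product of one or more generalized quaternion groups. -/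
theorem result {G : Type*} [Group G] [Finite G]
    (S : Sylow 2 G) (Q R : Subgroup G) (hQR : Cfsg.IsInternalDirectProduct Q R (S : Subgroup G))
    (n : ℕ) (hn : 1 ≤ n) (eQ : ↥Q ≃* QuaternionGroup (2 ^ n))
    (hR : ∀ r ∈ R, orderOf r = 2 → ∀ s ∈ R, r * s = s * r) :
    ¬ IsSimpleGroup G := by
  intro hs
  haveI := hs
  haveI : Fact (Nat.Prime 2) := ⟨Nat.prime_two⟩
  obtain ⟨hQS, hRS, hcm, hdis, hsup⟩ := hQR
  set T := (S : Subgroup G)
  obtain ⟨z₁, hz₁, hz₁2⟩ : ∃ z ∈ Q, orderOf z = 2 := by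
    refine ⟨(eQ.symm (QuaternionGroup.a ((2 ^ n : ℕ) : ZMod (2 * 2 ^ n))) : G),
      (eQ.symm _).2, ?_⟩
    rw [Subgroup.orderOf_coe, MulEquiv.orderOf_eq]
    refine orderOf_eq_prime ?_ ?_
    · rw [pow_two, QuaternionGroup.a_mul_a, ← Nat.cast_add, ← two_mul, ZMod.natCast_self]; rfl
    · rw [QuaternionGroup.one_def, Ne, QuaternionGroup.a.injEq, ZMod.natCast_eq_zero_iff]
      intro h
      have := Nat.le_of_dvd (by positivity) h
      have : 0 < 2 ^ n := by positivity
      omega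
  have hdec : Dec n (Q.subgroupOf T) (R.subgroupOf T) (⟨z₁, hQS hz₁⟩ : ↥T) := by
    refine ⟨fun a ha b hb => Subtype.ext (hcm a ha b hb), ?_, ?_,
      ⟨(Subgroup.subgroupOfEquivOfLe hQS).trans eQ⟩, hz₁, (Subgroup.orderOf_mk z₁ _).trans hz₁2⟩
    · rw [eq_bot_iff]
      intro x hx
      have : (x : G) ∈ Q ⊓ R := ⟨hx.1, hx.2⟩
      rw [hdis, Subgroup.mem_bot] at this
      exact Subgroup.mem_bot.2 (Subtype.ext this)
    · rw [← Subgroup.subgroupOf_sup hQS hRS, hsup, Subgroup.subgroupOf_self]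
  -- involutions of `S` are central
  have hinvc : ∀ u : ↥T, u ^ 2 = 1 → ∀ t : ↥T, Commute u t := by
    intro u hu
    obtain ⟨p, r, hpr, -, -, -⟩ := exists_proj hdec.1 hdec.2.1 hdec.2.2.1
    obtain ⟨-, -, -, ⟨e⟩, hz, hz2⟩ := hdec
    obtain ⟨-, -, hzc⟩ := inv_props hn e hz hz2
    intro t
    rw [hpr u, hpr t]
    have hq : ∀ q ∈ Q.subgroupOf T, Commute ((p u : ↥T)) q := by
      intro q hq
      rcases eq_or_ne ((p u : ↥T)) 1 with h1 | h1
      · rw [h1]; exact Commute.one_left q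
      · have h2 : orderOf ((p u : ↥T)) = 2 := orderOf_eq_prime (by
          rw [← Subgroup.coe_pow, ← map_pow, hu, map_one, Subgroup.coe_one]) h1
        rw [unique_inv e hz hz2 (p u).2 h2]
        exact hzc q hq
    have hr' : ∀ x ∈ R.subgroupOf T, Commute ((r u : ↥T)) x := by
      intro x hx
      rcases eq_or_ne ((r u : ↥T)) 1 with h1 | h1
      · rw [h1]; exact Commute.one_left x
      · have h2 : orderOf ((r u : ↥T)) = 2 := orderOf_eq_prime (by
          rw [← Subgroup.coe_pow, ← map_pow, hu, map_one, Subgroup.coe_one]) h1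
        exact Subtype.ext (hR _ (r u).2 ((Subgroup.orderOf_coe _).trans h2) _ hx)
    have hQR' : ∀ q ∈ Q.subgroupOf T, ∀ x ∈ R.subgroupOf T, Commute q x :=
      fun q hq x hx => Subtype.ext (hcm q hq x hx)
    exact Commute.mul_left ((hq _ (p t).2).mul_right (hQR' _ (p u).2 _ (r t).2))
      ((hQR' _ (p t).2 _ (r u).2).symm.mul_right (hr' _ (r t).2))
  obtain ⟨c, hc2, hcc, hcfix⟩ := exists_invariant hn hdec
  have hcG : orderOf (c : G) = 2 := (Subgroup.orderOf_coe c).trans hc2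
  have hiso : ∀ g : G, g * (c : G) * g⁻¹ ∈ T → g * (c : G) * g⁻¹ = (c : G) := by
    intro g hg
    set d := g * (c : G) * g⁻¹ with hd
    have hd2 : (⟨d, hg⟩ : ↥T) ^ 2 = 1 := Subtype.ext (by
      show d ^ 2 = 1
      rw [hd, conj_pow, ← hcG, pow_orderOf_eq_one]; group)
    have hTd : T ≤ Subgroup.centralizer ({d} : Set G) := fun t ht =>
      Subgroup.mem_centralizer_singleton_iff.2
        (congrArg Subtype.val (hinvc ⟨d, hg⟩ hd2 ⟨t, ht⟩).eq).symm
    have hTgd : T.map (MulAut.conj g).toMonoidHom ≤ Subgroup.centralizer ({d} : Set G) := by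
      rintro _ ⟨t, ht, rfl⟩
      have h1 : Commute (c : G) t := congrArg Subtype.val (hcc ⟨t, ht⟩).eq
      exact Subgroup.mem_centralizer_singleton_iff.2 (h1.map (MulAut.conj g).toMonoidHom).symm.eq
    obtain ⟨h, hh, hconj⟩ := Cfsg.Agent.Lib.Inv59.Basic.exists_conj_mem_sylow S _ _ hTd
      (S.isPGroup'.map _) hTgd
    have hn' : h * g ∈ Subgroup.normalizer (T : Set G) :=
      Cfsg.Agent.Lib.Inv59.Basic.mem_normalizer_of_conj_mem _ fun x hx => by
        simpa [mul_assoc] using hconj _ ⟨x, hx, rfl⟩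
    have h3 : h * g * (c : G) * (h * g)⁻¹ = (c : G) :=
      congrArg Subtype.val (hcfix (Subgroup.normalizerMonoidHom T ⟨h * g, hn'⟩))
    have h4 : h * d * h⁻¹ = d := by
      rw [mul_inv_eq_iff_eq_mul]; exact Subgroup.mem_centralizer_singleton_iff.1 hh
    conv_rhs => rw [← h3]
    conv_lhs => rw [← h4, hd]
    group
  obtain ⟨N, hN, hodd, hcomN⟩ := Cfsg.Agent.S0215.result S (c : G) hcG c.2 hiso
  have heven : 2 ∣ Nat.card G := hcG ▸ orderOf_dvd_natCard (c : G)
  rcases hs.eq_bot_or_eq_top_of_normal N hN with h0 | h0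
  · have hZ : (c : G) ∈ Subgroup.center G := by
      rw [Subgroup.mem_center_iff]
      intro g
      have := hcomN g
      rw [h0, Subgroup.mem_bot, mul_inv_eq_one, mul_inv_eq_iff_eq_mul] at this
      exact this.symm
    rcases hs.eq_bot_or_eq_top_of_normal (Subgroup.center G) inferInstance with h1 | h1
    · rw [h1, Subgroup.mem_bot] at hZ
      rw [hZ, orderOf_one] at hcG
      omega
    · -- abelian: but the quaternion factor is not
      obtain ⟨⟨u, hu, v, hv, huv⟩, -, -⟩ := inv_props hn eQ hz₁ hz₁2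
      have : u * v = v * u := Subgroup.mem_center_iff.1 (h1 ▸ Subgroup.mem_top v) u
      rw [huv, this] at hz₁2
      simp at hz₁2
  · rw [h0, Subgroup.card_top] at hodd
    exact (Nat.not_even_iff_odd.2 hodd) (even_iff_two_dvd.2 heven)

end Cfsg.Agent.S3269
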