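import Cfsg.Statements.S3276

set_option autoImplicit false
open Cfsg

namespace Cfsg.Agent.S3276

theorem mul_self_of_orderOf_two {G : Type*} [Group G] {x : G} (hx : orderOf x = 2) : x * x = 1 := by
  rw [← pow_two, ← hx, pow_orderOf_eq_one]

/-- Two non-conjugate involutions commute with an involution that is a power of their product. -/
theorem exists_common_involution {G : Type*} [Group G] [Finite G] (x y : G) (hx : orderOf x = 2) (hy : orderOf y = 2)
    (hnc : ¬ IsConj x y) :
    ∃ u : G, orderOf u = 2 ∧ Commute u x ∧ Commute u y ∧ u ∈ Subgroup.zpowers (x * y) := by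
  have hx2 : x * x = 1 := mul_self_of_orderOf_two hx
  have hy2 : y * y = 1 := mul_self_of_orderOf_two hy
  have hxi : x⁻¹ = x := inv_eq_of_mul_eq_one_right hx2
  have hyi : y⁻¹ = y := inv_eq_of_mul_eq_one_right hy2
  have hinv : ∀ n : ℕ, x * (x * y) ^ n = ((x * y) ^ n)⁻¹ * x := by
    intro n
    rw [← mul_inv_eq_iff_eq_mul, ← conj_pow, ← inv_pow]
    congr 1
    rw [mul_inv_rev, hxi, hyi, ← mul_assoc x x y, hx2, one_mul]
  have hy' : y = x * (x * y) := by rw [← mul_assoc, hx2, one_mul]
  rcases Nat.even_or_odd' (orderOf (x * y)) with ⟨k, hk | hk⟩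
  · have hk0 : k ≠ 0 := by rintro rfl; simpa [hk] using (orderOf_pos (x * y))
    have ho : orderOf ((x * y) ^ k) = 2 := by
      rw [orderOf_pow, hk, Nat.gcd_mul_left_left, Nat.mul_div_cancel _ (Nat.pos_of_ne_zero hk0)]
    have hcx : Commute ((x * y) ^ k) x := by
      have h := hinv k
      rw [inv_eq_of_mul_eq_one_right (mul_self_of_orderOf_two ho)] at h
      exact h.symm
    refine ⟨(x * y) ^ k, ho, hcx, ?_, Subgroup.npow_mem_zpowers _ _⟩
    have h2 : Commute ((x * y) ^ k) (x * y) := Commute.pow_self _ _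
    have h3 := hcx.mul_right h2
    rwa [← hy'] at h3
  · exfalso
    apply hnc
    rw [isConj_iff]
    refine ⟨((x * y) ^ k)⁻¹ ⁻¹, ?_⟩
    rw [inv_inv]
    set c := (x * y) ^ k with hc
    have h1 : c * x = x * c⁻¹ := by
      have h := hinv k
      calc c * x = x * (x * (c * x)) := by rw [← mul_assoc x x, hx2, one_mul]
        _ = x * c⁻¹ := by rw [← mul_assoc x c x, h, mul_assoc, hx2, mul_one]
    have h2 : c⁻¹ * c⁻¹ = x * y := by
      rw [← mul_inv_rev, hc, ← pow_add, inv_eq_iff_mul_eq_one, ← pow_succ,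
        show k + k + 1 = orderOf (x * y) by omega, pow_orderOf_eq_one]
    rw [h1, mul_assoc, h2]
    exact hy'.symm

theorem result {G : Type*} [Group G] [Finite G] (x y : G) (hx : orderOf x = 2) (hy : orderOf y = 2)
    (hxy : Commute x y) (hnc : ¬ IsConj x y)
    (hstar : ∀ u : G, orderOf u = 2 → Commute u x → ∀ g : G, Commute (g * y * g⁻¹) u → Commute (g * y * g⁻¹) y) :
    Subgroup.normalClosure ({y} : Set G) ≠ ⊤ ∧ Cfsg.IsElementaryAbelian 2 (Subgroup.normalClosure ({y} : Set G)) ∧
      ((∀ u ∈ Subgroup.normalClosure ({y} : Set G), orderOf u = 2 → Commute u x → u = y) →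
        Nat.card ↥(Subgroup.normalClosure ({y} : Set G)) ≤ 4) := by
  have key : ∀ g : G, Commute (g * y * g⁻¹) y := by
    intro g
    have hg : orderOf (g * y * g⁻¹) = 2 := by
      rw [show g * y * g⁻¹ = MulAut.conj g y from rfl, MulEquiv.orderOf_eq, hy]
    have hn : ¬ IsConj x (g * y * g⁻¹) := fun h =>
      hnc (h.trans (isConj_iff.2 ⟨g, rfl⟩).symm)
    obtain ⟨u, hu, hux, huy, -⟩ := exists_common_involution x _ hx hg hn
    exact hstar u hu hux g huy.symm
  have key2 : ∀ g h : G, Commute (g * y * g⁻¹) (h * y * h⁻¹) := by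
    intro g h
    have hk := (key (h⁻¹ * g)).map (MulAut.conj h).toMonoidHom
    simp only [MulEquiv.toMonoidHom_eq_coe, MonoidHom.coe_coe, MulAut.conj_apply] at hk
    convert hk using 1
    group
  set N := Subgroup.normalClosure ({y} : Set G) with hN
  have hyN : y ∈ N := Subgroup.subset_normalClosure rfl
  have hcomm : IsMulCommutative ↥N := by
    refine Subgroup.isMulCommutative_closure fun a ha b hb => ?_
    obtain ⟨c, rfl, hca⟩ := Group.mem_conjugatesOfSet_iff.1 ha
    obtain ⟨d, rfl, hdb⟩ := Group.mem_conjugatesOfSet_iff.1 hb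
    obtain ⟨g, rfl⟩ := isConj_iff.1 hca
    obtain ⟨h, rfl⟩ := isConj_iff.1 hdb
    exact key2 g h
  have hel : ∀ a ∈ N, a ^ 2 = 1 := by
    intro a ha
    induction ha using Subgroup.closure_induction with
    | mem a ha =>
      obtain ⟨c, hc, hca⟩ := Group.mem_conjugatesOfSet_iff.1 ha
      obtain ⟨g, rfl⟩ := isConj_iff.1 hca
      rw [Set.mem_singleton_iff.1 hc, conj_pow, pow_two, mul_self_of_orderOf_two hy]
      simp
    | one => simp
    | mul a b ha hb iha ihb =>
      have hab : Commute a b := congrArg Subtype.val (hcomm.is_comm.comm (⟨a, ha⟩ : ↥N) ⟨b, hb⟩)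
      rw [hab.mul_pow, iha, ihb, mul_one]
    | inv a ha iha => rw [inv_pow, iha, inv_one]
  refine ⟨?_, ⟨hcomm, hel⟩, ?_⟩
  · intro htop
    have hc : ∀ a b : G, a * b = b * a := fun a b =>
      congrArg Subtype.val (hcomm.is_comm.comm (⟨a, htop ▸ Subgroup.mem_top a⟩ : ↥N) ⟨b, htop ▸ Subgroup.mem_top b⟩)
    have hle : N ≤ Subgroup.zpowers y := by
      haveI : (Subgroup.zpowers y).Normal := ⟨fun a ha g => by rwa [hc g a, mul_inv_cancel_right]⟩
      exact Subgroup.normalClosure_le_normal (by simp)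
    have hxm : x ∈ Subgroup.zpowers y := hle (htop ▸ Subgroup.mem_top x)
    obtain ⟨i, hi⟩ := Subgroup.mem_zpowers_iff.1 hxm
    rcases Int.even_or_odd' i with ⟨j, rfl | rfl⟩
    · rw [zpow_mul, zpow_two, mul_self_of_orderOf_two hy, one_zpow] at hi
      rw [← hi, orderOf_one] at hx
      omega
    · rw [zpow_add, zpow_mul, zpow_two, mul_self_of_orderOf_two hy, one_zpow, one_mul, zpow_one] at hi
      exact hnc (hi ▸ IsConj.refl y)
  · intro huniq
    haveI : N.Normal := Subgroup.normalClosure_normal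
    haveI := hcomm
    let φ : ↥N →* ↥N :=
      { toFun := fun a => a * ⟨x * a * x⁻¹, Subgroup.Normal.conj_mem inferInstance _ a.2 x⟩
        map_one' := by ext; simp
        map_mul' := fun a b => by
          ext
          simp only [Subgroup.coe_mul]
          have h1 : Commute (b : G) (x * a * x⁻¹) := congrArg Subtype.val
            (hcomm.is_comm.comm b ⟨x * a * x⁻¹, Subgroup.Normal.conj_mem inferInstance _ a.2 x⟩)
          calc (a : G) * b * (x * (a * b) * x⁻¹) = a * (b * (x * a * x⁻¹)) * (x * b * x⁻¹) := by group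
            _ = _ := by rw [h1.eq]; group }
    have hker : ∀ a ∈ φ.ker, a = 1 ∨ a = ⟨y, hyN⟩ := by
      intro a ha
      by_cases h1 : a = 1
      · exact Or.inl h1
      right
      have hval : (a : G) * (x * a * x⁻¹) = 1 := congrArg Subtype.val ha
      have ha2 : (a : G) ^ 2 = 1 := hel a a.2
      have ho : orderOf (a : G) = 2 := orderOf_eq_prime ha2 (fun h => h1 (Subtype.ext h))
      have hai : (a : G)⁻¹ = a := inv_eq_of_mul_eq_one_right (by rw [← pow_two, ha2])
      have hconj : x * a * x⁻¹ = a := by rw [eq_inv_of_mul_eq_one_right hval, hai]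
      exact Subtype.ext (huniq a a.2 ho (mul_inv_eq_iff_eq_mul.1 hconj).symm)
    have hran : φ.range ≤ φ.ker := by
      rintro _ ⟨a, rfl⟩
      ext
      show ((a : G) * (x * a * x⁻¹)) * (x * ((a : G) * (x * a * x⁻¹)) * x⁻¹) = 1
      have hxx : x * x = 1 := mul_self_of_orderOf_two hx
      have hxi : x⁻¹ = x := inv_eq_of_mul_eq_one_right hxx
      have h1 : x * ((a : G) * (x * a * x⁻¹)) * x⁻¹ = (x * a * x⁻¹) * a := by
        rw [hxi]
        simp only [mul_assoc, hxx, mul_one]
      have h2 : Commute (a : G) (x * a * x⁻¹) := congrArg Subtype.val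
        (hcomm.is_comm.comm a ⟨x * a * x⁻¹, Subgroup.Normal.conj_mem inferInstance _ a.2 x⟩)
      rw [h1, ← h2.eq, ← pow_two]
      exact hel _ (mul_mem a.2 (Subgroup.Normal.conj_mem inferInstance _ a.2 x))
    have hk2 : Nat.card φ.ker ≤ 2 := by
      have hsub : ((φ.ker : Set ↥N)) ⊆ {1, ⟨y, hyN⟩} := fun a ha => by
        simpa using hker a ha
      calc Nat.card φ.ker = (φ.ker : Set ↥N).ncard := rfl
        _ ≤ ({1, ⟨y, hyN⟩} : Set ↥N).ncard := Set.ncard_le_ncard hsub (Set.toFinite _)
        _ ≤ _ := (Set.ncard_insert_le _ _).trans (by simp)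
    have hr2 : Nat.card φ.range ≤ 2 := le_trans (Subgroup.card_le_of_le hran) hk2
    rw [← φ.ker.card_mul_index, Subgroup.index_ker]
    calc _ ≤ 2 * 2 := Nat.mul_le_mul hk2 hr2
      _ = 4 := rfl

end Cfsg.Agent.S3276
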