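import Cfsg.Statements.S3279
import Cfsg.Agent.S0215
import Cfsg.Agent.Lib.SmallGroups.Sylow
import Cfsg.Agent.Lib.Involutions.Basic
-- import your own Cfsg.Agent.* helpers here

set_option autoImplicit false
open Cfsg

namespace Cfsg.Agent.S3279

/-- Let G be a finite simple group and x an involution of G whose centralizer contains at most three involutions. Then C_G(x) contains a Sylow 2-subgroup of G, and all involutions of G are conjugate. -/
theorem result {G : Type*} [Group G] [Finite G] [IsSimpleGroup G] (x : G) (hx : orderOf x = 2)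
    (h3 : Nat.card {u : ↥(Subgroup.centralizer ({x} : Set G)) // orderOf u = 2} ≤ 3) :
    (∃ S : Sylow 2 G, (S : Subgroup G) ≤ Subgroup.centralizer ({x} : Set G)) ∧
      ∀ u v : G, orderOf u = 2 → orderOf v = 2 → IsConj u v := by
  haveI : Fact (Nat.Prime 2) := ⟨Nat.prime_two⟩
  by_cases hna : IsMulCommutative G
  · -- a commutative simple group with an involution has order two
    let _ : CommGroup G := { ‹Group G› with mul_comm := fun a b => hna.is_comm.comm a b }
    refine ⟨⟨default, fun g _ => Subgroup.mem_centralizer_singleton_iff.2 (mul_comm g x)⟩, fun u v hu hv => ?_⟩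
    have hp : (Nat.card G).Prime := IsSimpleGroup.prime_card
    have h2 : Nat.card G = 2 := ((Nat.prime_dvd_prime_iff_eq Nat.prime_two hp).1 (hu ▸ orderOf_dvd_natCard u)).symm
    rw [Nat.card_eq_two_iff' (1 : G)] at h2
    obtain ⟨y, -, hy⟩ := h2
    have h1 : ∀ w : G, orderOf w = 2 → w ≠ 1 := fun w hw h => by rw [h, orderOf_one] at hw; norm_num at hw
    rw [hy u (h1 u hu), hy v (h1 v hv)]
  -- basic facts
  have hinv : ∀ a b : G, orderOf a = 2 → orderOf b = 2 → a * b = b * a → a ≠ b → orderOf (a * b) = 2 := by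
    intro a b ha hb hab hne
    refine orderOf_eq_prime ?_ fun h => hne ?_
    · rw [(show Commute a b from hab).mul_pow, ← ha]
      nth_rw 2 [show orderOf a = orderOf b from ha.trans hb.symm]
      rw [pow_orderOf_eq_one, pow_orderOf_eq_one, one_mul]
    · rw [eq_inv_of_mul_eq_one_left h]
      exact inv_eq_of_mul_eq_one_right (by rw [← pow_two, ← hb, pow_orderOf_eq_one])
  have hne1 : ∀ w : G, orderOf w = 2 → w ≠ 1 := fun w hw h => by rw [h, orderOf_one] at hw; norm_num at hw
  have hconj : ∀ w g : G, orderOf w = 2 → orderOf (g * w * g⁻¹) = 2 := fun w g hw => by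
    rw [← MulAut.conj_apply, MulEquiv.orderOf_eq, hw]
  have hzstar : ∀ (S : Sylow 2 G) (u : G), orderOf u = 2 → u ∈ S →
      ∃ g : G, g * u * g⁻¹ ∈ S ∧ g * u * g⁻¹ ≠ u := by
    intro S u hu huS
    by_contra hc
    push_neg at hc
    obtain ⟨N, hN, hNo, hcomm⟩ := Cfsg.Agent.S0215.result S u hu huS hc
    rcases IsSimpleGroup.eq_bot_or_eq_top_of_normal N hN with hb | hb
    · apply hne1 u hu
      have : u ∈ Subgroup.center G := Subgroup.mem_center_iff.2 fun g => by
        have h := hcomm g
        rw [hb, Subgroup.mem_bot, mul_inv_eq_one, mul_inv_eq_iff_eq_mul] at h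
        exact h.symm
      rwa [Cfsg.Agent.Lib.SmallGroups.Sylow.center_eq_bot hna, Subgroup.mem_bot] at this
    · rw [hb, Subgroup.card_top, Nat.odd_iff] at hNo
      have h2 := orderOf_dvd_natCard u
      rw [hu] at h2
      omega
  -- three involutions
  have hthree : ∀ z, orderOf z = 2 → z * x = x * z → z ≠ x → ∀ w, orderOf w = 2 → w * x = x * w → w = x ∨ w = z ∨ w = x * z := by
    intro z hz hzx hzne w hw hwx
    by_contra hcon
    push_neg at hcon
    obtain ⟨h1, h2, h3⟩ := hcon
    have hxz : orderOf (x * z) = 2 := hinv x z hx hz hzx.symm hzne.symm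
    have hmem : ∀ u : G, u * x = x * u → u ∈ Subgroup.centralizer ({x} : Set G) := fun u hu =>
      Subgroup.mem_centralizer_singleton_iff.2 hu
    have hxzx : x * z * x = x * (x * z) := by rw [mul_assoc, hzx]
    let f : Fin 4 → {u : ↥(Subgroup.centralizer ({x} : Set G)) // orderOf u = 2} :=
      ![⟨⟨x, hmem x rfl⟩, by rw [Subgroup.orderOf_mk]; exact hx⟩,
        ⟨⟨z, hmem z hzx⟩, by rw [Subgroup.orderOf_mk]; exact hz⟩,
        ⟨⟨x * z, hmem _ hxzx⟩, by rw [Subgroup.orderOf_mk]; exact hxz⟩,
        ⟨⟨w, hmem w hwx⟩, by rw [Subgroup.orderOf_mk]; exact hw⟩]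
    have hf : Function.Injective f := by
      intro i j hij
      have h := congrArg (fun a : {u : ↥(Subgroup.centralizer ({x} : Set G)) // orderOf u = 2} => (a.1 : G)) hij
      fin_cases i <;> fin_cases j <;> simp [f, h1, h2, h3, hzne, hzne.symm, Ne.symm h1, Ne.symm h2, Ne.symm h3,
        hne1 x hx, hne1 z hz] at h ⊢
    have := Nat.card_le_card_of_injective f hf
    rw [Nat.card_fin] at this
    omega
  -- a Sylow subgroup containing a Sylow subgroup of the centraliser
  obtain ⟨T⟩ : Nonempty (Sylow 2 ↥(Subgroup.centralizer ({x} : Set G))) := inferInstance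
  obtain ⟨S, hS⟩ := (T.isPGroup'.map (Subgroup.centralizer ({x} : Set G)).subtype).exists_le_sylow
  have hTx : ∀ s ∈ (S : Subgroup G), s * x = x * s → ∀ hs : s ∈ Subgroup.centralizer ({x} : Set G), (⟨s, hs⟩ : ↥(Subgroup.centralizer ({x} : Set G))) ∈ (T : Subgroup _) := by
    intro s hsS _ hs
    have hp : IsPGroup 2 ↥((S : Subgroup G).subgroupOf (Subgroup.centralizer ({x} : Set G))) :=
      S.isPGroup'.comap_of_injective _ Subtype.val_injective
    have hle : (T : Subgroup ↥(Subgroup.centralizer ({x} : Set G))) ≤ (S : Subgroup G).subgroupOf (Subgroup.centralizer ({x} : Set G)) :=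
      fun a ha => hS ⟨a, ha, rfl⟩
    rw [← T.3 hp hle]
    exact hsS
  have hxS : x ∈ (S : Subgroup G) := by
    have hxC : x ∈ Subgroup.centralizer ({x} : Set G) := Subgroup.mem_centralizer_singleton_iff.2 rfl
    haveI : (Subgroup.zpowers (⟨x, hxC⟩ : ↥(Subgroup.centralizer ({x} : Set G)))).Normal := by
      refine ⟨fun n hn g => ?_⟩
      obtain ⟨i, rfl⟩ := Subgroup.mem_zpowers_iff.1 hn
      have hc : Commute g (⟨x, hxC⟩ : ↥(Subgroup.centralizer ({x} : Set G))) :=
        Subtype.ext (Subgroup.mem_centralizer_singleton_iff.1 g.2)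
      rw [(hc.zpow_right i).eq, mul_inv_cancel_right]
      exact Subgroup.zpow_mem _ (Subgroup.mem_zpowers _) _
    have hZ : IsPGroup 2 ↥(Subgroup.zpowers (⟨x, hxC⟩ : ↥(Subgroup.centralizer ({x} : Set G)))) :=
      IsPGroup.of_card (n := 1) (by rw [Nat.card_zpowers, Subgroup.orderOf_mk, hx]; rfl)
    have hle := le_sup_left (a := Subgroup.zpowers (⟨x, hxC⟩ : ↥(Subgroup.centralizer ({x} : Set G)))) (b := (T : Subgroup _))
    rw [T.3 (hZ.to_sup_of_normal_left T.isPGroup') le_sup_right] at hle
    exact hS ⟨_, hle (Subgroup.mem_zpowers _), rfl⟩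
  by_cases hcen : (S : Subgroup G) ≤ Subgroup.centralizer ({x} : Set G)
  · -- the involution is central in a Sylow subgroup
    refine ⟨⟨S, hcen⟩, ?_⟩
    have hcomm : ∀ s ∈ (S : Subgroup G), s * x = x * s := fun s hs => Subgroup.mem_centralizer_singleton_iff.1 (hcen hs)
    obtain ⟨g, hg, hgne⟩ := hzstar S x hx hxS
    set a := g * x * g⁻¹ with ha
    have hao : orderOf a = 2 := hconj x g hx
    have hall : ∀ w ∈ (S : Subgroup G), orderOf w = 2 → w = x ∨ w = a ∨ w = x * a := fun w hw hwo =>
      hthree a hao (hcomm a hg) hgne w hwo (hcomm w hw)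
    have hxao : orderOf (x * a) = 2 := hinv x a hx hao (hcomm a hg).symm hgne.symm
    have hxa : IsConj x (x * a) := by
      obtain ⟨k, hk, hkne⟩ := hzstar S (x * a) hxao (mul_mem hxS hg)
      have hxa' : IsConj (x * a) (k * (x * a) * k⁻¹) := isConj_iff.2 ⟨k, rfl⟩
      rcases hall _ hk (hconj _ k hxao) with e | e | e
      · rw [e] at hxa'; exact hxa'.symm
      · rw [e] at hxa'; exact (isConj_iff.2 ⟨g, rfl⟩ : IsConj x a).trans hxa'.symm
      · exact absurd e hkne
    have key : ∀ u, orderOf u = 2 → IsConj x u := by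
      intro u hu
      obtain ⟨Q, hQ⟩ := (IsPGroup.of_card (p := 2) (G := ↥(Subgroup.zpowers u)) (n := 1)
        (by rw [Nat.card_zpowers, hu]; rfl)).exists_le_sylow
      obtain ⟨k, hk⟩ := MulAction.exists_smul_eq G Q S
      have hm : k * u * k⁻¹ ∈ (S : Subgroup G) := by
        rw [← hk, Sylow.coe_subgroup_smul]; exact ⟨u, hQ (Subgroup.mem_zpowers u), rfl⟩
      refine IsConj.trans ?_ (isConj_iff.2 ⟨k, rfl⟩ : IsConj u (k * u * k⁻¹)).symm
      rcases hall _ hm (hconj u k hu) with e | e | e <;> rw [e]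
      · exact isConj_iff.2 ⟨g, rfl⟩
      · exact hxa
    exact fun u v hu hv => (key u hu).symm.trans (key v hv)
  · -- otherwise the conjugates of a central involution commute
    exfalso
    haveI : Nontrivial ↥(S : Subgroup G) := ⟨⟨x, hxS⟩, 1, fun h => hne1 x hx (congrArg Subtype.val h)⟩
    haveI := S.isPGroup'.center_nontrivial
    obtain ⟨zc, hzc⟩ := exists_prime_orderOf_dvd_card' (G := ↥(Subgroup.center ↥(S : Subgroup G))) 2 (by
      obtain ⟨n, hn0, hn⟩ := (S.isPGroup'.to_subgroup (Subgroup.center ↥(S : Subgroup G))).nontrivial_iff_card.1 inferInstance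
      rw [hn]; exact dvd_pow_self 2 hn0.ne')
    set z : G := ((zc : ↥(S : Subgroup G)) : G) with hzdef
    have hzo : orderOf z = 2 := by rw [hzdef, Subgroup.orderOf_coe, Subgroup.orderOf_coe, hzc]
    have hzS : ∀ s ∈ (S : Subgroup G), s * z = z * s := fun s hs =>
      congrArg Subtype.val (Subgroup.mem_center_iff.1 zc.2 ⟨s, hs⟩)
    have hzx : z * x = x * z := (hzS x hxS).symm
    have hzne : z ≠ x := fun e => hcen fun s hs => Subgroup.mem_centralizer_singleton_iff.2 (e ▸ hzS s hs)
    have hzSm : z ∈ (S : Subgroup G) := (zc : ↥(S : Subgroup G)).2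
    -- `z` is not conjugate to `x`
    have hnz : ¬ IsConj x z := by
      intro hxz
      obtain ⟨k, hk⟩ := isConj_iff.1 hxz
      apply hcen
      have hle : ((S : Subgroup G).map (MulAut.conj k⁻¹).toMonoidHom) ≤ Subgroup.centralizer ({x} : Set G) := by
        rintro _ ⟨s, hs, rfl⟩
        rw [Subgroup.mem_centralizer_singleton_iff]
        have hs' := hzS s hs
        rw [← hk] at hs'
        simp only [MulEquiv.coe_toMonoidHom, MulAut.conj_apply, inv_inv]
        calc k⁻¹ * s * k * x = k⁻¹ * (s * (k * x * k⁻¹)) * k := by group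
          _ = k⁻¹ * ((k * x * k⁻¹) * s) * k := by rw [hs']
          _ = x * (k⁻¹ * s * k) := by group
      have hd := Subgroup.card_dvd_of_le hle
      rw [Subgroup.card_map_of_injective (MulEquiv.injective _)] at hd
      have hTcard : Nat.card ↥(S : Subgroup G) ≤ Nat.card ↥((T : Subgroup _).map (Subgroup.centralizer ({x} : Set G)).subtype) := by
        rw [Subgroup.card_map_of_injective (Subgroup.subtype_injective _), S.card_eq_multiplicity, T.card_eq_multiplicity]
        refine Nat.pow_le_pow_right two_pos ?_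
        rw [S.card_eq_multiplicity] at hd
        exact (Nat.Prime.pow_dvd_iff_le_factorization Nat.prime_two Nat.card_pos.ne').1 hd
      have heq := Subgroup.eq_of_le_of_card_ge hS hTcard
      rw [← heq]
      exact Subgroup.map_subtype_le _
    -- `x` is conjugate to `x * z`
    have hxxz : IsConj x (x * z) := by
      haveI : Group.IsNilpotent ↥(S : Subgroup G) := S.isPGroup'.isNilpotent
      set D := (Subgroup.centralizer ({x} : Set G)).subgroupOf (S : Subgroup G) with hD
      have hlt : D < ⊤ := lt_top_iff_ne_top.2 fun h => hcen fun s hs => by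
        have : (⟨s, hs⟩ : ↥(S : Subgroup G)) ∈ D := h ▸ Subgroup.mem_top _
        exact this
      obtain ⟨s, hsN, hsD⟩ := SetLike.exists_of_lt (normalizerCondition_of_isNilpotent D hlt)
      have hxD : (⟨x, hxS⟩ : ↥(S : Subgroup G)) ∈ D := Subgroup.mem_centralizer_singleton_iff.2 rfl
      have hm : (s : G) * x * (s : G)⁻¹ ∈ Subgroup.centralizer ({x} : Set G) := (Subgroup.mem_normalizer_iff.1 hsN _).1 hxD
      rcases hthree z hzo hzx hzne _ (hconj x s hx) (Subgroup.mem_centralizer_singleton_iff.1 hm) with e | e | e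
      · exact absurd (Subgroup.mem_centralizer_singleton_iff.2 (mul_inv_eq_iff_eq_mul.1 e)) hsD
      · exact absurd (isConj_iff.2 ⟨(s : G), e⟩) hnz
      · exact isConj_iff.2 ⟨(s : G), e⟩
    -- `z` is the only conjugate of `z` centralising `x`
    have honly : ∀ z' : G, IsConj z z' → z' * x = x * z' → z' = z := by
      intro z' hzz hc
      obtain ⟨k, hk⟩ := isConj_iff.1 hzz
      rcases hthree z hzo hzx hzne z' (hk ▸ hconj z k hzo) hc with e | e | e
      · exact absurd (e ▸ hzz).symm hnz
      · exact e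
      · exact absurd (hxxz.trans (e ▸ hzz).symm) hnz
    have hzxz : z * (x * z) = (x * z) * z := by rw [← mul_assoc, hzx, mul_assoc]
    -- every conjugate of `z` commutes with `z`
    have hcz : ∀ g : G, (g * z * g⁻¹) * z = z * (g * z * g⁻¹) := by
      intro g
      set z₁ := g * z * g⁻¹ with hz₁
      have hz₁o : orderOf z₁ = 2 := hconj z g hzo
      have hzz₁ : IsConj z z₁ := isConj_iff.2 ⟨g, rfl⟩
      by_cases hc : z₁ * x = x * z₁
      · rw [honly z₁ hzz₁ hc]
      · have hev := Cfsg.Agent.Lib.Involutions.Basic.even_of_not_isConj hx hz₁o (fun h => hnz (h.trans hzz₁.symm))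
        obtain ⟨hwo, hwx, hwz₁⟩ := Cfsg.Agent.Lib.Involutions.Basic.central_invol hx hz₁o hev
        rcases hthree z hzo hzx hzne _ hwo hwx.eq with e | e | e <;> rw [e] at hwz₁
        · exact absurd hwz₁.eq.symm hc
        · exact hwz₁.eq.symm
        · obtain ⟨c, hc'⟩ := isConj_iff.1 hxxz
          have back : ∀ u : G, IsConj z u → u * (x * z) = (x * z) * u → u = c * z * c⁻¹ := by
            intro u hu hux
            have h1 : (c⁻¹ * u * c) * x = x * (c⁻¹ * u * c) := by
              calc (c⁻¹ * u * c) * x = c⁻¹ * (u * (c * x * c⁻¹)) * c := by group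
                _ = c⁻¹ * ((c * x * c⁻¹) * u) * c := by rw [hc', hux]
                _ = x * (c⁻¹ * u * c) := by group
            have h2 := honly _ (hu.trans (isConj_iff.2 ⟨c⁻¹, by group⟩)) h1
            calc u = c * (c⁻¹ * u * c) * c⁻¹ := by group
              _ = c * z * c⁻¹ := by rw [h2]
          rw [(back z₁ hzz₁ hwz₁.eq.symm).trans (back z (IsConj.refl z) hzxz).symm]
    -- hence `z` lies in an abelian normal subgroup
    set N := Subgroup.normalClosure ({z} : Set G) with hN
    have hzN : z ∈ N := Subgroup.subset_normalClosure (Set.mem_singleton z)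
    rcases IsSimpleGroup.eq_bot_or_eq_top_of_normal N Subgroup.normalClosure_normal with hb | hb
    · exact hne1 z hzo (by rwa [hb, Subgroup.mem_bot] at hzN)
    · have hle : N ≤ Subgroup.centralizer (Group.conjugatesOfSet ({z} : Set G)) := by
        rw [hN, Subgroup.normalClosure, Subgroup.closure_le]
        intro a ha b hb'
        obtain ⟨z0, rfl, ha⟩ := Group.mem_conjugatesOfSet_iff.1 ha
        obtain ⟨z1, rfl, hb'⟩ := Group.mem_conjugatesOfSet_iff.1 hb'
        obtain ⟨g, rfl⟩ := isConj_iff.1 ha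
        obtain ⟨k, rfl⟩ := isConj_iff.1 hb'
        have := hcz (g⁻¹ * k)
        calc k * z * k⁻¹ * (g * z * g⁻¹) = g * ((g⁻¹ * k) * z * (g⁻¹ * k)⁻¹ * z) * g⁻¹ := by group
          _ = g * (z * ((g⁻¹ * k) * z * (g⁻¹ * k)⁻¹)) * g⁻¹ := by rw [this]
          _ = _ := by group
      apply hne1 z hzo
      have : z ∈ Subgroup.center G := Subgroup.mem_center_iff.2 fun g => by
        have h := hle (show g ∈ N from hb ▸ Subgroup.mem_top g) z
          (Group.subset_conjugatesOfSet (Set.mem_singleton z))
        exact h.symm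
      rwa [Cfsg.Agent.Lib.SmallGroups.Sylow.center_eq_bot hna, Subgroup.mem_bot] at this

end Cfsg.Agent.S3279
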