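import Cfsg.Statements.S3278
import Cfsg.Agent.Lib.DihedralCentralizer.FourGroup
import Cfsg.Agent.S3279
import Cfsg.Agent.S0494
import Cfsg.Agent.Lib.H80.LinearChar
-- import your own Cfsg.Agent.* helpers here

set_option autoImplicit false
open Cfsg

namespace Cfsg.Agent.S3278

/-- Let G be a finite simple group with an involution x such that a Sylow 2-subgroup of C_G(x) is a Klein four-group which is normal in C_G(x). Then G is isomorphic to the alternating group of degree 5 (that is, to PSL(2, 5)). -/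
theorem result {G : Type*} [Group G] [Finite G] [IsSimpleGroup G] (x : G) (hx : orderOf x = 2)
    (S₀ : Subgroup G) (hle : S₀ ≤ Subgroup.centralizer ({x} : Set G)) (hK : IsKleinFour ↥S₀)
    (hodd : ¬ 2 ∣ S₀.relIndex (Subgroup.centralizer ({x} : Set G))) (hn : (S₀.subgroupOf (Subgroup.centralizer ({x} : Set G))).Normal) :
    Nonempty (G ≃* ↥(alternatingGroup (Fin 5))) := by
  classical
  haveI : Fact (Nat.Prime 2) := ⟨Nat.prime_two⟩
  set C := Subgroup.centralizer ({x} : Set G) with hCdef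
  haveI := hn
  have hS4 : Nat.card ↥S₀ = 4 := hK.card_four
  have hna : ¬ IsMulCommutative G := by
    intro hc
    let _ : CommGroup G := { ‹Group G› with mul_comm := fun a b => hc.is_comm.comm a b }
    have hp : (Nat.card G).Prime := IsSimpleGroup.prime_card
    have hd := Subgroup.card_subgroup_dvd_card S₀
    rw [hS4] at hd
    exact (by norm_num : ¬ Nat.Prime 4) (((Nat.dvd_prime hp).1 hd).resolve_left (by norm_num) ▸ hp)
  -- the four-group contains the 2-elements of the centraliser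
  have htwo : ∀ a ∈ C, (∃ k : ℕ, orderOf a = 2 ^ k) → a ∈ S₀ := by
    rintro a ha ⟨k, hk⟩
    have h1 : orderOf (QuotientGroup.mk' (S₀.subgroupOf C) ⟨a, ha⟩) ∣ 2 ^ k := by
      rw [← hk, ← Subgroup.orderOf_mk a ha]; exact orderOf_map_dvd _ _
    have h2 : orderOf (QuotientGroup.mk' (S₀.subgroupOf C) ⟨a, ha⟩) ∣ S₀.relIndex C := by
      rw [Subgroup.relIndex, Subgroup.index_eq_card]; exact orderOf_dvd_natCard _
    obtain ⟨i, -, hi⟩ := (Nat.dvd_prime_pow Nat.prime_two).1 h1
    rcases Nat.eq_zero_or_pos i with rfl | hpos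
    · rw [pow_zero, orderOf_eq_one_iff, QuotientGroup.mk'_apply, QuotientGroup.eq_one_iff] at hi
      exact hi
    · exact absurd ((dvd_pow_self 2 hpos.ne').trans (hi ▸ h2)) hodd
  have hsq : ∀ a ∈ S₀, a * a = 1 := fun a ha => by
    have h := Monoid.pow_exponent_eq_one (⟨a, ha⟩ : ↥S₀)
    rw [hK.exponent_two, pow_two] at h
    exact congrArg Subtype.val h
  -- at most three involutions
  have h3 : Nat.card {u : ↥C // orderOf u = 2} ≤ 3 := by
    have hle' : Nat.card {u : ↥C // orderOf u = 2} ≤ Nat.card {a : ↥S₀ // a ≠ 1} := by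
      refine Nat.card_le_card_of_injective
        (fun u => ⟨⟨u.1.1, htwo _ u.1.2 ⟨1, by rw [Subgroup.orderOf_coe, u.2]; rfl⟩⟩, fun e => ?_⟩) ?_
      · have h := u.2
        rw [← Subgroup.orderOf_coe, show ((u.1 : ↥C) : G) = 1 from congrArg Subtype.val e, orderOf_one] at h
        norm_num at h
      · intro a b e
        exact Subtype.ext (Subtype.ext (congrArg (fun c : {a : ↥S₀ // a ≠ 1} => ((c.1 : ↥S₀) : G)) e))
    letI := Fintype.ofFinite ↥S₀
    rw [Nat.card_eq_fintype_card (α := {a : ↥S₀ // a ≠ 1})] at hle'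
    have h := Fintype.card_subtype_compl (fun a : ↥S₀ => a = 1)
    rw [Fintype.card_subtype_eq, ← Nat.card_eq_fintype_card (α := ↥S₀), hS4] at h
    exact hle'.trans h.le
  obtain ⟨⟨S, hS⟩, hone⟩ := Cfsg.Agent.S3279.result x hx h3
  have hSS : (S : Subgroup G) = S₀ := by
    have hSle : (S : Subgroup G) ≤ S₀ := fun a ha => by
      obtain ⟨k, hk⟩ := IsPGroup.iff_orderOf.1 S.isPGroup' ⟨a, ha⟩
      exact htwo a (hS ha) ⟨k, by rw [← hk, Subgroup.orderOf_mk]⟩
    exact (S.3 (IsPGroup.of_card (n := 2) (by rw [hS4]; rfl)) hSle).symm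
  have hxC : x ∈ C := Subgroup.mem_centralizer_singleton_iff.2 rfl
  have hxS : x ∈ (S : Subgroup G) := hSS ▸ htwo x hxC ⟨1, by rw [hx]; rfl⟩
  have hSK : IsKleinFour ↥(S : Subgroup G) := hSS ▸ hK
  obtain ⟨f₂, f₃, f₄, ε, ζ₂, ζ₃, ζ₄, hε, hn2, hn3, hn4, hz₂, hz₃, hz₄, p2, p3, p4, d2, d3, d4, hrel, hC4, hform⟩ :=
    Cfsg.Agent.Lib.DihedralCentralizer.FourGroup.order_formula S hSK hx hxS hone
      (fun a ha ha2 => hSS ▸ htwo a ha ⟨1, by rw [ha2]; rfl⟩)
  -- no non-trivial linear characters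
  have hlin : ∀ (χ : Cfsg.IrrCharacter G) (f : ℕ), (χ : G → ℂ) 1 = f → (χ : G → ℂ) ≠ (fun _ => 1) → f ≠ 1 := by
    intro χ f hf hne hf1
    have hp : commutator G = ⊤ := Cfsg.Agent.Lib.SmallGroups.Sylow.commutator_eq_top hna
    refine hne (funext fun g => ?_)
    exact Cfsg.Agent.Lib.H80.LinearChar.eq_one_of_mem_commutator χ (by rw [hf, hf1, Nat.cast_one]) (hp ▸ Subgroup.mem_top g)
  have g2 := hlin _ _ hz₂ hn2
  have g3 := hlin _ _ hz₃ hn3
  have g4 := hlin _ _ hz₄ hn4
  set m := Nat.card ↥(Cfsg.pPrimeCore 2 ↥(Subgroup.centralizer ({x} : Set G))) with hm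
  -- the bound
  have hbound : Nat.card G < 72 * m := by
    have hD : (4 / 9 : ℚ) < 1 + 1 / f₂ + ε / f₃ - 1 / f₄ := by
      have q2 : (0 : ℚ) ≤ 1 / f₂ := by positivity
      rcases hε with rfl | rfl
      · have q3 : (0 : ℚ) ≤ ((1 : ℤ) : ℚ) / f₃ := by positivity
        have q4 : (1 : ℚ) / f₄ ≤ 1 / 3 := one_div_le_one_div_of_le (by norm_num) (by exact_mod_cast (show 3 ≤ f₄ by omega))
        linarith
      · have q3 : (1 : ℚ) / f₃ ≤ 1 / 3 := one_div_le_one_div_of_le (by norm_num) (by exact_mod_cast (show 3 ≤ f₃ by omega))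
        have q4 : (1 : ℚ) / f₄ ≤ 1 / 3 := one_div_le_one_div_of_le (by norm_num) (by exact_mod_cast (show 3 ≤ f₄ by omega))
        have hneg : ((-1 : ℤ) : ℚ) / f₃ = -(1 / (f₃ : ℚ)) := by push_cast; ring
        rw [hneg]
        by_cases h33 : f₃ = 3 ∧ f₄ = 3
        · obtain ⟨rfl, rfl⟩ := h33
          have : f₂ = 5 := by omega
          subst this
          norm_num
        · have h7 : 7 ≤ f₃ ∨ 7 ≤ f₄ := by omega
          rcases h7 with h7 | h7
          · have : (1 : ℚ) / f₃ ≤ 1 / 7 := one_div_le_one_div_of_le (by norm_num) (by exact_mod_cast h7)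
            linarith
          · have : (1 : ℚ) / f₄ ≤ 1 / 7 := one_div_le_one_div_of_le (by norm_num) (by exact_mod_cast h7)
            linarith
    have hG0 : (0 : ℚ) < Nat.card G := Nat.cast_pos.2 Nat.card_pos
    have h := mul_lt_mul_of_pos_left hD hG0
    rw [hform] at h
    have : (Nat.card G : ℚ) < 72 * m := by rw [hm] at *; linarith
    exact_mod_cast this
  -- the normaliser of the Sylow subgroup
  set N := Subgroup.normalizer ((S : Subgroup G) : Set G) with hN
  have hScomm : ∀ a ∈ (S : Subgroup G), ∀ b ∈ (S : Subgroup G), a * b = b * a := fun a ha b hb => by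
    haveI : IsMulCommutative ↥(S : Subgroup G) := IsKleinFour.isMulCommutative
    exact setLike_mul_comm ha hb
  have hCN : C ≤ N := by
    intro c hc
    rw [hN, Subgroup.mem_normalizer_iff]
    intro a
    show a ∈ (S : Subgroup G) ↔ c * a * c⁻¹ ∈ (S : Subgroup G)
    rw [hSS]
    constructor
    · intro ha
      exact hn.conj_mem ⟨a, hle ha⟩ ha ⟨c, hc⟩
    · intro ha
      have h := hn.conj_mem ⟨c * a * c⁻¹, hle ha⟩ ha ⟨c, hc⟩⁻¹
      simpa [Subgroup.mem_subgroupOf, mul_assoc] using h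
  have hNcard : Nat.card ↥N = 3 * Nat.card ↥C := by
    have hxN : x ∈ N := Subgroup.le_normalizer hxS
    have h1 := Cfsg.Agent.Lib.Characters.Complete.card_conjugates_mul_centralizer (⟨x, hxN⟩ : ↥N)
    have h2 : Nat.card {y : ↥N // IsConj (⟨x, hxN⟩ : ↥N) y} = 3 := by
      rw [← Cfsg.Agent.Lib.Involutions.KleinSylow.card_ne_one hSK]
      refine Nat.card_congr (Equiv.ofBijective (fun y => ⟨⟨(y.1 : G), ?_⟩, ?_⟩) ⟨?_, ?_⟩)
      · obtain ⟨c, hc⟩ := isConj_iff.1 y.2
        rw [← congrArg Subtype.val hc]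
        exact (Subgroup.mem_normalizer_iff.1 c.2 x).1 hxS
      · intro e
        obtain ⟨c, hc⟩ := isConj_iff.1 y.2
        have h := congrArg Subtype.val hc
        have e' : ((y.1 : ↥N) : G) = 1 := congrArg Subtype.val e
        rw [e'] at h
        have : x = 1 := conj_eq_one_iff.1 h
        rw [this, orderOf_one] at hx; norm_num at hx
      · intro a b e
        exact Subtype.ext (Subtype.ext (congrArg (fun c => ((c.1 : ↥(S : Subgroup G)) : G)) e))
      · rintro ⟨⟨a, ha⟩, ha1⟩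
        have hao : orderOf a = 2 :=
          Cfsg.Agent.Lib.Involutions.KleinSylow.orderOf_mem hSK ha (fun e => ha1 (Subtype.ext e))
        obtain ⟨g, hg⟩ := isConj_iff.1 (hone a x hao hx)
        haveI : IsMulCommutative ↥(S : Subgroup G) := IsKleinFour.isMulCommutative
        obtain ⟨c, hc, hc'⟩ := S.conj_eq_normalizer_conj_of_mem a g⁻¹ ha (by rw [inv_inv, hg]; exact hxS)
        rw [inv_inv, hg] at hc'
        refine ⟨⟨⟨a, Subgroup.le_normalizer ha⟩, isConj_iff.2 ⟨⟨c, hc⟩, Subtype.ext ?_⟩⟩, rfl⟩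
        show c * x * c⁻¹ = a
        rw [hc']; group
    have h4 : Nat.card ↥(Subgroup.centralizer ({(⟨x, hxN⟩ : ↥N)} : Set ↥N)) = Nat.card ↥C :=
      Nat.card_congr
        { toFun := fun c => ⟨c.1.1, Subgroup.mem_centralizer_singleton_iff.2 (congrArg Subtype.val (Subgroup.mem_centralizer_singleton_iff.1 c.2))⟩
          invFun := fun c => ⟨⟨c.1, hCN c.2⟩, Subgroup.mem_centralizer_singleton_iff.2 (Subtype.ext (Subgroup.mem_centralizer_singleton_iff.1 c.2))⟩
          left_inv := fun _ => rfl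
          right_inv := fun _ => rfl }
    rw [h2, h4] at h1
    exact h1.symm
  have hmul := Subgroup.card_mul_index N
  rw [hNcard, hC4] at hmul
  have hm0 : 0 < m := Nat.card_pos
  have hNtop : N ≠ ⊤ := by
    intro h
    have hSn : (S : Subgroup G).Normal := Subgroup.normalizer_eq_top_iff.1 h
    rcases IsSimpleGroup.eq_bot_or_eq_top_of_normal _ hSn with hb | hb
    · rw [hb, Subgroup.mem_bot] at hxS
      rw [hxS, orderOf_one] at hx; norm_num at hx
    · exact hna ⟨⟨fun a b => hScomm a (hb ▸ Subgroup.mem_top a) b (hb ▸ Subgroup.mem_top b)⟩⟩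
  have hd := Cfsg.Agent.Lib.SmallGroups.Sylow.two_mul_card_dvd_factorial hna hNtop
  have hidx : N.index ≤ 5 := by
    by_contra h
    have : 3 * (4 * m) * 6 ≤ Nat.card G := hmul ▸ Nat.mul_le_mul_left _ (by omega)
    omega
  rw [← hmul] at hd
  have h60 : Nat.card G = 60 := by
    rw [← hmul]
    have hi0 : N.index ≠ 0 := Subgroup.index_ne_zero_of_finite
    have hi1 : N.index ≠ 1 := fun h => hNtop (Subgroup.index_eq_one.1 h)
    have hle2 := Nat.le_of_dvd (Nat.factorial_pos _) hd
    interval_cases hi : N.index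
    all_goals simp only [Nat.factorial] at hle2
    all_goals omega
  exact Cfsg.Agent.S0494.result h60

end Cfsg.Agent.S3278
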