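import Cfsg.Statements.S3283
import Cfsg.Agent.Lib.ExtraNine31.Setup

set_option autoImplicit false
open Cfsg

namespace Cfsg.Agent.S3283

/-- Let G be a finite group with an involution z whose centralizer M has Q = O₂(M) extraspecial of order 2⁹ with C_M(Q) ≤ Q, and M/Q isomorphic to S₃ × A₆ or to S₃ × S₆. Then G is not simple. -/
theorem result {G : Type*} [Group G] [Finite G] (z : G) (hz : orderOf z = 2)
    (hQ : Cfsg.IsExtraspecial 2 ↥(Cfsg.pCore 2 ↥(Subgroup.centralizer ({z} : Set G)))) (hQ9 : Nat.card ↥(Cfsg.pCore 2 ↥(Subgroup.centralizer ({z} : Set G))) = 2 ^ 9)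
    (hCQ : Subgroup.centralizer ((Cfsg.pCore 2 ↥(Subgroup.centralizer ({z} : Set G))) : Set ↥(Subgroup.centralizer ({z} : Set G))) ≤ Cfsg.pCore 2 ↥(Subgroup.centralizer ({z} : Set G)))
    (hMQ : Nonempty (↥(Subgroup.centralizer ({z} : Set G)) ⧸ Cfsg.pCore 2 ↥(Subgroup.centralizer ({z} : Set G)) ≃* (Equiv.Perm (Fin 3) × ↥(alternatingGroup (Fin 6)))) ∨
      Nonempty (↥(Subgroup.centralizer ({z} : Set G)) ⧸ Cfsg.pCore 2 ↥(Subgroup.centralizer ({z} : Set G)) ≃* (Equiv.Perm (Fin 3) × Equiv.Perm (Fin 6)))) :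
    ¬ IsSimpleGroup G := by
  classical
  rcases hMQ with ⟨⟨e⟩⟩ | ⟨⟨e⟩⟩
  · refine Cfsg.Agent.Lib.ExtraNine31.not_simple_of hz _ rfl _ hCQ hQ hQ9
      (((MonoidHom.prodMap (MonoidHom.id (Equiv.Perm (Fin 3))) (alternatingGroup (Fin 6)).subtype).comp
        e.toMonoidHom).comp (QuotientGroup.mk' _)) ?_ ?_
    · rw [MonoidHom.ker_comp_of_injective, QuotientGroup.ker_mk']
      intro a b h
      simp only [MonoidHom.comp_apply, MulEquiv.coe_toMonoidHom, MonoidHom.coe_prodMap, Prod.map,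
        MonoidHom.id_apply, Subgroup.coe_subtype, Prod.mk.injEq] at h
      exact e.injective (Prod.ext h.1 (Subtype.ext h.2))
    · intro γ _ h2
      obtain ⟨c, hc⟩ := QuotientGroup.mk'_surjective _ (e.symm (γ.1, ⟨γ.2, Equiv.Perm.mem_alternatingGroup.2 h2⟩))
      exact ⟨c, by simp only [MonoidHom.comp_apply, hc]; simp⟩
  · refine Cfsg.Agent.Lib.ExtraNine31.not_simple_of hz _ rfl _ hCQ hQ hQ9
      (e.toMonoidHom.comp (QuotientGroup.mk' _)) ?_ ?_
    · rw [MonoidHom.ker_comp_of_injective _ _ e.injective, QuotientGroup.ker_mk']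
    · intro γ _ _
      obtain ⟨c, hc⟩ := QuotientGroup.mk'_surjective _ (e.symm γ)
      exact ⟨c, by simp only [MonoidHom.comp_apply, hc]; simp⟩

end Cfsg.Agent.S3283
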