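import Cfsg.Statements.S3294
import Cfsg.Agent.Lib.SylowInter.Basic
import Mathlib.GroupTheory.SpecificGroups.Quaternion

set_option autoImplicit false
open Cfsg

namespace Cfsg.Agent.S3294

/-- A normal 2-subgroup of a solvable group with trivial odd core and large quaternion Sylow
2-subgroup: the group is a 2-group. -/
theorem core_case {H : Type*} [Group H] [Finite H] [Group.IsSolvable H] (hO : Cfsg.pPrimeCore 2 H = ⊥)
    (T : Sylow 2 H) (n : ℕ) (hn : 3 ≤ n) (e : (T : Subgroup H) ≃* QuaternionGroup (2 ^ n)) :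
    IsPGroup 2 H := by
  haveI : Fact (Nat.Prime 2) := ⟨Nat.prime_two⟩
  set Q := Cfsg.pCore 2 H with hQdef
  have hQ : IsPGroup 2 ↥Q := Cfsg.Agent.Lib.Cores.pCore_isPGroup 2
  have hQT : Q ≤ (T : Subgroup H) := Cfsg.Agent.Lib.Cores.pCore_le_sylow T
  have hCQ : Subgroup.centralizer (Q : Set H) ≤ Q :=
    Cfsg.Agent.Lib.SylowInter.Basic.centralizer_pCore_le 2 hO
  by_cases hcyc : IsCyclic ↥Q
  · exact Cfsg.Agent.Lib.SylowInter.Basic.isPGroup_of_aut Q (hQ.to_le hCQ)
      (Cfsg.Agent.Lib.SylowInter.Basic.isPGroup_mulAut_of_cyclic hQ)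
  let aT : ↥(T : Subgroup H) := e.symm (QuaternionGroup.a 1)
  set α : H := (aT : H) with hαdef
  have hoα : orderOf α = 2 * 2 ^ n := by
    rw [hαdef, Subgroup.orderOf_coe, MulEquiv.orderOf_eq, QuaternionGroup.orderOf_a_one]
  have h8 : 8 ≤ 2 ^ n := le_trans (by norm_num) (Nat.pow_le_pow_right (by norm_num) hn)
  -- elements outside the cyclic subgroup
  have hout : ∀ x ∈ (T : Subgroup H), x ∉ Subgroup.zpowers α →
      orderOf x = 4 ∧ ∃ k : ℤ, α * x * α⁻¹ * x⁻¹ = α ^ k ∧ orderOf (α ^ k) = 2 ^ n := by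
    intro x hx hxA
    rcases hq : e ⟨x, hx⟩ with i | i
    · exfalso
      apply hxA
      have : e ⟨x, hx⟩ = QuaternionGroup.a 1 ^ i.val := by
        rw [hq, QuaternionGroup.a_one_pow, ZMod.natCast_zmod_val]
      rw [← e.eq_symm_apply, map_pow] at this
      exact Subgroup.mem_zpowers_iff.2 ⟨i.val, by rw [zpow_natCast]; exact (congrArg Subtype.val this).symm⟩
    · constructor
      · rw [show orderOf x = orderOf (e ⟨x, hx⟩) by rw [MulEquiv.orderOf_eq, ← Subgroup.orderOf_coe],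
          hq, QuaternionGroup.orderOf_xa]
      · refine ⟨2, ?_, ?_⟩
        · have : aT * ⟨x, hx⟩ * aT⁻¹ * ⟨x, hx⟩⁻¹ = aT ^ (2 : ℤ) := by
            apply e.injective
            simp only [map_mul, map_inv, map_zpow, hq, aT, MulEquiv.apply_symm_apply]
            rw [mul_inv_eq_iff_eq_mul, mul_inv_eq_iff_eq_mul, zpow_ofNat, pow_two]
            simp only [QuaternionGroup.a_mul_a, QuaternionGroup.a_mul_xa, QuaternionGroup.xa_mul_a]
            congr 1
            ring
          exact congrArg Subtype.val this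
        · rw [zpow_ofNat, orderOf_pow, hoα, Nat.gcd_eq_right (dvd_mul_right _ _),
            Nat.mul_div_cancel_left _ (by norm_num)]
  -- a large element of `Q` in the cyclic subgroup
  obtain ⟨b, hbQ, hbA⟩ : ∃ b ∈ Q, b ∉ Subgroup.zpowers α := by
    by_contra hcon
    push_neg at hcon
    exact hcyc (Subgroup.isCyclic_of_le (fun x hx => hcon x hx : Q ≤ Subgroup.zpowers α))
  obtain ⟨-, k, hk, hko⟩ := hout b (hQT hbQ) hbA
  have hcQ : α ^ k ∈ Q := by
    rw [← hk]
    exact mul_mem (Subgroup.Normal.conj_mem inferInstance b hbQ α) (inv_mem hbQ)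
  set S : Set H := {x | x ∈ Q ∧ 4 < orderOf x} with hSdef
  set C := Subgroup.closure S with hCdef
  have hSA : S ⊆ (Subgroup.zpowers α : Set H) := by
    intro x hx
    by_contra hxA
    obtain ⟨ho, -⟩ := hout x (hQT hx.1) hxA
    exact absurd hx.2 (by omega)
  have hCA : C ≤ Subgroup.zpowers α := (Subgroup.closure_le _).2 hSA
  have hCQ' : C ≤ Q := (Subgroup.closure_le _).2 fun x hx => hx.1
  have hQA : Q ⊓ Subgroup.zpowers α ≤ C := by
    haveI : IsCyclic ↥(Q ⊓ Subgroup.zpowers α) := Subgroup.isCyclic_of_le inf_le_right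
    obtain ⟨g, hg⟩ := IsCyclic.exists_generator (α := ↥(Q ⊓ Subgroup.zpowers α))
    have hord : orderOf (α ^ k) ∣ orderOf (g : H) := by
      obtain ⟨j, hj⟩ := Subgroup.mem_zpowers_iff.1 (hg ⟨α ^ k, hcQ, Subgroup.zpow_mem _ (Subgroup.mem_zpowers α) k⟩)
      have hj' : (g : H) ^ j = α ^ k := by simpa using congrArg Subtype.val hj
      rw [← hj']
      exact orderOf_dvd_of_pow_eq_one (by rw [← zpow_natCast ((g : H) ^ j), ← zpow_mul, mul_comm, zpow_mul, zpow_natCast, pow_orderOf_eq_one, one_zpow])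
    have hgS : (g : H) ∈ S :=
      ⟨g.2.1, lt_of_lt_of_le (by omega) (Nat.le_of_dvd (orderOf_pos _) hord)⟩
    intro x hx
    obtain ⟨j, hj⟩ := Subgroup.mem_zpowers_iff.1 (hg ⟨x, hx⟩)
    have hj' : (g : H) ^ j = x := by simpa using congrArg Subtype.val hj
    rw [← hj']
    exact Subgroup.zpow_mem _ (Subgroup.subset_closure hgS) j
  haveI hCn : C.Normal := by
    refine ⟨fun x hx g => ?_⟩
    have hmap : C.map (MulAut.conj g).toMonoidHom ≤ C := by
      rw [hCdef, MonoidHom.map_closure, Subgroup.closure_le]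
      rintro _ ⟨y, hy, rfl⟩
      refine Subgroup.subset_closure ⟨Subgroup.Normal.conj_mem inferInstance y hy.1 g, ?_⟩
      rw [show (MulAut.conj g).toMonoidHom y = MulAut.conj g y from rfl, MulEquiv.orderOf_eq]; exact hy.2
    exact hmap ⟨x, hx, rfl⟩
  haveI : IsCyclic ↥C := Subgroup.isCyclic_of_le hCA
  have hC2 : IsPGroup 2 ↥C := hQ.to_le hCQ'
  have hAut := Cfsg.Agent.Lib.SylowInter.Basic.isPGroup_mulAut_of_cyclic hC2
  -- every element of odd order is trivial
  by_contra hnot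
  obtain ⟨g, hgodd, hg1⟩ : ∃ g : H, Odd (orderOf g) ∧ g ≠ 1 := by
    rw [IsPGroup.iff_card] at hnot
    push_neg at hnot
    obtain ⟨q, hq, hq2, hqd⟩ : ∃ q, q.Prime ∧ q ≠ 2 ∧ q ∣ Nat.card H := by
      by_contra hcon
      push_neg at hcon
      exact hnot _ (Nat.eq_prime_pow_of_unique_prime_dvd Nat.card_pos.ne'
        (fun {d} hd hdd => by by_contra hne; exact hcon d hd hne hdd))
    haveI : Fact q.Prime := ⟨hq⟩
    obtain ⟨g, hg⟩ := exists_prime_orderOf_dvd_card' q hqd
    refine ⟨g, hg ▸ hq.odd_of_ne_two hq2, fun h => ?_⟩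
    rw [h, orderOf_one] at hg
    exact hq.one_lt.ne hg
  have hgC : g ∈ Subgroup.centralizer (C : Set H) := by
    rw [← Cfsg.Agent.Lib.SylowInter.Basic.ker_conjNormal, MonoidHom.mem_ker]
    obtain ⟨m, hm⟩ := hAut (MulAut.conjNormal g)
    rw [← orderOf_eq_one_iff]
    exact Nat.eq_one_of_dvd_coprimes (((Nat.coprime_two_left.2 hgodd)).pow_left m)
      (orderOf_dvd_of_pow_eq_one hm) (orderOf_map_dvd _ g)
  have hgQ : g ∈ Subgroup.centralizer (Q : Set H) := by
    rw [Subgroup.mem_centralizer_iff] at hgC ⊢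
    intro x hx
    by_cases hxA : x ∈ Subgroup.zpowers α
    · exact hgC x (hQA ⟨hx, hxA⟩)
    have hgx : g * x * g⁻¹ ∈ Q := Subgroup.Normal.conj_mem inferInstance x hx g
    have hgxA : g * x * g⁻¹ ∉ Subgroup.zpowers α := by
      intro hmem
      have := Subgroup.Normal.conj_mem hCn _ (hQA ⟨hgx, hmem⟩) g⁻¹
      simp only [inv_inv, mul_assoc, inv_mul_cancel, mul_one, inv_mul_cancel_left] at this
      exact hxA (hCA this)
    set c := x⁻¹ * (g * x * g⁻¹) with hc
    have hcC : c ∈ C := by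
      refine hQA ⟨Q.mul_mem (Q.inv_mem hx) hgx, ?_⟩
      rcases h1 : e ⟨x, hQT hx⟩ with i | i
      · exfalso
        apply hxA
        have : e ⟨x, hQT hx⟩ = QuaternionGroup.a 1 ^ i.val := by
          rw [h1, QuaternionGroup.a_one_pow, ZMod.natCast_zmod_val]
        rw [← e.eq_symm_apply, map_pow] at this
        exact Subgroup.mem_zpowers_iff.2 ⟨i.val, by rw [zpow_natCast]; exact (congrArg Subtype.val this).symm⟩
      rcases h2 : e ⟨_, hQT hgx⟩ with j | j
      · exfalso
        apply hgxA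
        have : e ⟨_, hQT hgx⟩ = QuaternionGroup.a 1 ^ j.val := by
          rw [h2, QuaternionGroup.a_one_pow, ZMod.natCast_zmod_val]
        rw [← e.eq_symm_apply, map_pow] at this
        exact Subgroup.mem_zpowers_iff.2 ⟨j.val, by rw [zpow_natCast]; exact (congrArg Subtype.val this).symm⟩
      have h3 : e (⟨x, hQT hx⟩⁻¹ * ⟨_, hQT hgx⟩) = QuaternionGroup.a 1 ^ (j - i).val := by
        rw [map_mul, map_inv, h1, h2, QuaternionGroup.a_one_pow, ZMod.natCast_zmod_val, inv_mul_eq_iff_eq_mul]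
        simp only [QuaternionGroup.xa_mul_a]
        congr 1
        ring
      rw [← e.eq_symm_apply, map_pow] at h3
      exact Subgroup.mem_zpowers_iff.2 ⟨(j - i).val, by rw [zpow_natCast]; exact (congrArg Subtype.val h3).symm⟩
    have hpow : ∀ m : ℕ, g ^ m * x * (g ^ m)⁻¹ = x * c ^ m := by
      intro m
      induction m with
      | zero => simp
      | succ m ih =>
        have hgc : Commute g (c ^ m) := (Commute.pow_right ((hgC c hcC : Commute c g).symm) m)
        calc g ^ (m + 1) * x * (g ^ (m + 1))⁻¹ = g * (g ^ m * x * (g ^ m)⁻¹) * g⁻¹ := by rw [pow_succ']; group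
          _ = g * x * (c ^ m * g⁻¹) := by rw [ih]; group
          _ = (g * x * g⁻¹) * c ^ m := by rw [← (hgc.inv_left).eq]; group
          _ = x * c ^ (m + 1) := by
              rw [show g * x * g⁻¹ = x * c by rw [hc, mul_inv_cancel_left], pow_succ', mul_assoc]
    have h1 := hpow (orderOf g)
    rw [pow_orderOf_eq_one, inv_one, one_mul, mul_one, left_eq_mul] at h1
    obtain ⟨m, hm⟩ := hC2 ⟨c, hcC⟩
    have hc1 : c = 1 := by
      rw [← orderOf_eq_one_iff]
      exact Nat.eq_one_of_dvd_coprimes (((Nat.coprime_two_left.2 hgodd)).pow_left m)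
        (orderOf_dvd_of_pow_eq_one (by simpa using congrArg Subtype.val hm)) (orderOf_dvd_of_pow_eq_one h1)
    rw [hc, inv_mul_eq_one, eq_mul_inv_iff_mul_eq] at hc1
    exact hc1
  obtain ⟨m, hm⟩ := hQ ⟨g, hCQ hgQ⟩
  exact hg1 (orderOf_eq_one_iff.1 (Nat.eq_one_of_dvd_coprimes (((Nat.coprime_two_left.2 hgodd)).pow_left m)
        (orderOf_dvd_of_pow_eq_one (by simpa using congrArg Subtype.val hm)) dvd_rfl))

theorem result {G : Type*} [Group G] [Finite G] (hsol : Group.IsSolvable G) (T : Sylow 2 G) (n : ℕ) (hn : 3 ≤ n) (hT : Nonempty ((T : Subgroup G) ≃* QuaternionGroup (2 ^ n))) : Cfsg.HasNormalPComplement 2 G := by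
  haveI := hsol
  haveI : Fact (Nat.Prime 2) := ⟨Nat.prime_two⟩
  obtain ⟨e⟩ := hT
  set O := Cfsg.pPrimeCore 2 G with hOdef
  have hπ : Function.Surjective (QuotientGroup.mk' O) := QuotientGroup.mk'_surjective O
  have hcop : (Nat.card O).Coprime 2 := Cfsg.Agent.Lib.Cores.pPrimeCore_coprime 2
  obtain ⟨m, hm⟩ := IsPGroup.iff_card.1 T.2
  have hdisj : Disjoint (T : Subgroup G) O :=
    Subgroup.disjoint_of_coprime_natCard (by rw [hm]; exact (hcop.symm).pow_left m)
  have hinj : Function.Injective ((QuotientGroup.mk' O).subgroupMap (T : Subgroup G)) := by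
    rw [← MonoidHom.ker_eq_bot_iff, eq_bot_iff]
    intro x hx
    have h1 : (x : G) ∈ O := (QuotientGroup.eq_one_iff _).1 (congrArg Subtype.val hx)
    exact Subtype.ext (Subgroup.disjoint_def.1 hdisj x.2 h1)
  let T' : Sylow 2 (G ⧸ O) := T.mapSurjective hπ
  let e' : (T' : Subgroup (G ⧸ O)) ≃* QuaternionGroup (2 ^ n) :=
    (MulEquiv.ofBijective _ ⟨hinj, MonoidHom.subgroupMap_surjective _ _⟩).symm.trans e
  have hP := core_case (Cfsg.Agent.Lib.Cores.pPrimeCore_quotient_pPrimeCore 2) T' n hn e'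
  obtain ⟨r, hr⟩ := IsPGroup.iff_card.1 hP
  have hmr : m = r := by
    have h1 : Nat.card (T' : Subgroup (G ⧸ O)) = Nat.card (T : Subgroup G) :=
      (Nat.card_congr (MulEquiv.ofBijective _ ⟨hinj, MonoidHom.subgroupMap_surjective _ _⟩).toEquiv).symm
    have h2 : (T' : Subgroup (G ⧸ O)) = ⊤ := (T'.3 (hP.to_subgroup ⊤) le_top).symm
    rw [h2, Subgroup.card_top, hm, hr] at h1
    exact (Nat.pow_right_injective le_rfl h1).symm
  refine ⟨T, O, inferInstance, Subgroup.isComplement'_of_coprime ?_ ?_⟩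
  · rw [hm, hmr, ← hr, ← Subgroup.index_eq_card, Subgroup.card_mul_index]
  · rw [hm]; exact hcop.pow_right m

end Cfsg.Agent.S3294
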