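import Cfsg.Statements.S3299
import Cfsg.Agent.Lib.Fgs55.TransferParity
import Cfsg.Agent.Lib.CharP.Basic

set_option autoImplicit false
set_option linter.style.haveILetI false
open Cfsg

namespace Cfsg.Agent.S3299

open Cfsg.Agent.Lib.Fgs55 Cfsg.Agent.Lib.LargeExtraspecial.Basic

theorem z2_cases : ∀ t : ZMod 2, t = 0 ∨ t = 1 := by decide

theorem z2_eq : ∀ a b : ZMod 2, a + b = 0 → a = b := by decide

theorem z2_self : ∀ t : ZMod 2, t + t = 0 := by decide

/-- Let G be a finite group with no nontrivial 2-group quotient (O^2(G) = G), z an involution of G with H = C_G(z), and suppose E = O_2(H) is extraspecial with C_G(E) ≤ E and of order 2^(2n+1) with n ≥ 2. Then E is contained in every normal subgroup of H of index 2. -/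
theorem result {G : Type*} [Group G] [Finite G] (hres : Cfsg.pResidual 2 G = ⊤) (z : G) (hz : orderOf z = 2)
    (E : Subgroup G) (hE : E = (Cfsg.pCore 2 ↥(Subgroup.centralizer ({z} : Set G))).map (Subgroup.centralizer ({z} : Set G)).subtype)
    (hext : Cfsg.IsExtraspecial 2 ↥E) (hcent : Subgroup.centralizer (E : Set G) ≤ E) (n : ℕ) (hn : 2 ≤ n) (hcard : Nat.card ↥E = 2 ^ (2 * n + 1))
    (K : Subgroup G) (hKH : K ≤ Subgroup.centralizer ({z} : Set G))
    (hKn : ∀ h ∈ Subgroup.centralizer ({z} : Set G), K.map (MulAut.conj h).toMonoidHom = K)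
    (hKi : K.relIndex (Subgroup.centralizer ({z} : Set G)) = 2) : E ≤ K := by
  classical
  haveI : Fact (Nat.Prime 2) := ⟨Nat.prime_two⟩
  set H := Subgroup.centralizer ({z} : Set G) with hH
  have hzz : z * z = 1 := by rw [← pow_two, ← hz, pow_orderOf_eq_one]
  have hz1 : z ≠ 1 := fun e => by simp [e] at hz
  have hEH : E ≤ H := by rw [hE]; exact Subgroup.map_subtype_le _
  have hHE : ∀ h ∈ H, ∀ a ∈ E, h * a * h⁻¹ ∈ E := by
    intro h hh a ha
    rw [hE] at ha ⊢
    haveI : (Cfsg.pCore 2 ↥H).Normal := Lib.LargeExtraspecial.Basic.pCore_normal 2 ↥H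
    obtain ⟨a', ha', rfl⟩ := ha
    exact ⟨⟨h, hh⟩ * a' * ⟨h, hh⟩⁻¹, Subgroup.Normal.conj_mem inferInstance a' ha' _, rfl⟩
  have hzE : z ∈ E := hcent fun a ha => Subgroup.mem_centralizer_singleton_iff.1 (hEH ha)
  obtain ⟨w, hw2, hw⟩ := Lib.LargeExtra.Basic.exists_z hext
  obtain rfl : z = w := by
    have h1 : z ∈ (Subgroup.center ↥E).map E.subtype :=
      Lib.LargeExtra.Basic.mem_centerMap.2 ⟨hzE, fun a ha => Subgroup.mem_centralizer_singleton_iff.1 (hEH ha)⟩
    rw [hw] at h1
    exact (Lib.LargeExtra.Basic.eq_one_or_eq hw2 h1).resolve_left hz1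
  have hES : ES E z := (Lib.LargeExtra.TwoConjugate.es_of hext hw).1
  have hzH : z ∈ H := hEH hzE
  by_contra hEK
  have h32 : 32 ≤ Nat.card E := by
    rw [hcard]
    exact (show (32 : ℕ) = 2 ^ 5 by norm_num) ▸ Nat.pow_le_pow_right (by norm_num) (by omega)
  obtain ⟨e, heE, heK, hee⟩ := exists_involution_outside hES h32
    (fun a ha b hb => mul_mem_iff_index_two hKi (hEH ha) (hEH hb)) hEK
  have heH : e ∈ H := hEH heE
  have hne1 : e ≠ 1 := fun e' => heK (e' ▸ one_mem K)
  have hzK : z ∈ K := by
    -- `z` is a commutator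
    obtain ⟨a, haE, b, hbE, hab⟩ : ∃ a ∈ E, ∃ b ∈ E, a * b * a⁻¹ = b * z := by
      by_contra hno
      push Not at hno
      have hall : ∀ q ∈ E, q = 1 ∨ q = z := fun q hq => hES.center q hq fun p hp =>
        mul_inv_eq_iff_eq_mul.1 ((hES.conj p hp q hq).resolve_right (hno p hp q hq))
      have h2 : Nat.card E ≤ ({1, z} : Finset G).card := by
        rw [← Nat.card_eq_finsetCard]
        exact Nat.card_le_card_of_injective (fun q : ↥E => (⟨q, by simpa using hall q q.2⟩ : ↥({1, z} : Finset G)))
          fun q q' h => Subtype.ext (congrArg Subtype.val h :)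
      have := Finset.card_le_two (a := (1 : G)) (b := z)
      omega
    have h1 := commutator_mem_of_index_two hKi (hEH haE) (hEH hbE)
    rwa [hab, (hES.comm b hbE).eq, mul_inv_cancel_right] at h1
  have hnez : e ≠ z := fun e' => heK (e' ▸ hzK)
  -- `B = C_E(e)` has centralizer `{1, z, e, ez}` in `E`
  obtain ⟨f, hfE, hfe⟩ := hES.exists_conj_ne heE hne1 hnez
  have hcommB : ∀ v ∈ E, (∀ b ∈ E, Commute b e → Commute b v) → v = 1 ∨ v = z ∨ v = e ∨ v = e * z := by
    intro v hv hall
    have hlin : ∀ q ∈ E, chi q v = chi f v * chi q e := by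
      intro q hq
      rcases z2_cases (chi q e) with h0 | h0
      · rw [h0, mul_zero]
        exact chi_eq_zero.2 (hall q hq (chi_eq_zero.1 h0))
      · have h1 : chi (q * f) e = 0 := by
          rw [hES.chi_mul_left hq hfE heE, h0]
          have : chi f e = 1 := by unfold chi; rw [if_neg fun e' => hES.ne (mul_eq_left.1 (hfe.symm.trans e'))]
          rw [this]; exact z2_self 1
        have h2 : chi (q * f) v = 0 := chi_eq_zero.2 (hall _ (mul_mem hq hfE) (chi_eq_zero.1 h1))
        rw [hES.chi_mul_left hq hfE hv] at h2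
        rw [h0, mul_one]
        exact z2_eq _ _ h2
    rcases z2_cases (chi f v) with h0 | h0
    · rcases hES.center v hv (fun q hq => chi_eq_zero.1 (by rw [hlin q hq, h0, zero_mul])) with r | r
      · exact Or.inl r
      · exact Or.inr (Or.inl r)
    · have key := hES.center (e * v) (mul_mem heE hv) fun q hq => chi_eq_zero.1 (by
        rw [hES.chi_mul_right hq heE hv, hlin q hq, h0, one_mul]
        exact z2_self _)
      have hv' : v = e * (e * v) := by rw [← mul_assoc, hee, one_mul]
      rcases key with r | r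
      · exact Or.inr (Or.inr (Or.inl (by rw [hv', r, mul_one])))
      · exact Or.inr (Or.inr (Or.inr (by rw [hv', r])))
  set B := E ⊓ Subgroup.centralizer ({e} : Set G) with hB
  have hBe : ∀ b ∈ B, Commute b e := fun b hb => Subgroup.mem_centralizer_singleton_iff.1 hb.2
  -- two elements of `B` with commutator `z`
  obtain ⟨a, haB, b, hbB, hab⟩ : ∃ a ∈ B, ∃ b ∈ B, a * b * a⁻¹ = b * z := by
    by_contra hno
    push Not at hno
    have habel : ∀ a ∈ B, ∀ b ∈ B, Commute a b := fun a ha b hb =>
      mul_inv_eq_iff_eq_mul.1 ((hES.conj a ha.1 b hb.1).resolve_right (hno a ha b hb))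
    have hsub : ∀ v ∈ B, v = 1 ∨ v = z ∨ v = e ∨ v = e * z := fun v hv =>
      hcommB v hv.1 fun q hq hqe => habel q ⟨hq, Subgroup.mem_centralizer_singleton_iff.2 hqe⟩ v hv
    have hfE4 : ∀ q ∈ E, q ∈ B ∨ q * f ∈ B := by
      intro q hq
      rcases z2_cases (chi q e) with h0 | h0
      · exact Or.inl ⟨hq, Subgroup.mem_centralizer_singleton_iff.2 (chi_eq_zero.1 h0)⟩
      · refine Or.inr ⟨mul_mem hq hfE, Subgroup.mem_centralizer_singleton_iff.2 (chi_eq_zero.1 ?_)⟩
        rw [hES.chi_mul_left hq hfE heE, h0]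
        have : chi f e = 1 := by unfold chi; rw [if_neg fun e' => hES.ne (mul_eq_left.1 (hfe.symm.trans e'))]
        rw [this]; exact z2_self 1
    let T : Finset G := [1, z, e, e * z, 1 * f⁻¹, z * f⁻¹, e * f⁻¹, e * z * f⁻¹].toFinset
    have hT : Nat.card E ≤ T.card := by
      rw [← Nat.card_eq_finsetCard]
      refine Nat.card_le_card_of_injective (fun q : ↥E => (⟨q, ?_⟩ : ↥T)) fun q q' h =>
        Subtype.ext (congrArg Subtype.val h :)
      rcases hfE4 q q.2 with h | h
      · rcases hsub _ h with r | r | r | r <;> simp [T, r]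
      · rcases hsub _ h with r | r | r | r <;> simp [T, eq_mul_inv_of_mul_eq r]
    have h8 : T.card ≤ 8 := (List.toFinset_card_le _).trans le_rfl
    omega
  have hpar := even_card_outCoset hres hKi hee
  set S := {q : G ⧸ H // OutCoset H K e q} with hS
  have hBinv : ∀ (c : ↥B) (q : G ⧸ H), OutCoset H K e q → OutCoset H K e ((c : G) • q) := by
    intro c q hq
    obtain ⟨x, rfl⟩ := QuotientGroup.mk_surjective q
    rw [MulAction.Quotient.smul_coe, outCoset_iff hKi, smul_eq_mul]
    have : ((c : G) * x)⁻¹ * e * ((c : G) * x) = x⁻¹ * e * x := by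
      rw [mul_inv_rev, mul_assoc x⁻¹, ← (hBe c c.2).inv_left.eq.symm]
      group
    rw [this]
    exact (outCoset_iff hKi x).1 hq
  letI : MulAction ↥B S :=
    { smul := fun c q => ⟨(c : G) • q.1, hBinv c q.1 q.2⟩
      one_smul := fun q => Subtype.ext (one_smul G q.1)
      mul_smul := fun c d q => Subtype.ext (mul_smul (c : G) (d : G) q.1) }
  have hBp : IsPGroup 2 ↥B := hext.1.1.to_le inf_le_left
  have hmod := hBp.card_modEq_card_fixedPoints S
  have h1 : OutCoset H K e ((1 : G) : G ⧸ H) := by
    rw [outCoset_iff hKi]; simpa using ⟨heH, heK⟩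
  have huniq : MulAction.fixedPoints ↥B S = {⟨_, h1⟩} := by
    ext ⟨q, hq⟩
    obtain ⟨x, rfl⟩ := QuotientGroup.mk_surjective q
    simp only [Set.mem_singleton_iff, Subtype.mk.injEq, MulAction.mem_fixedPoints]
    constructor
    · intro hfix
      have hxB : ∀ c ∈ B, x⁻¹ * c * x ∈ H := by
        intro c hc
        have h2 : c • (x : G ⧸ H) = (x : G ⧸ H) := congrArg Subtype.val (hfix ⟨c, hc⟩)
        rw [MulAction.Quotient.smul_coe, QuotientGroup.eq, smul_eq_mul, mul_inv_rev] at h2
        have := inv_mem h2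
        simpa [mul_assoc] using this
      set y := x * z * x⁻¹ with hy
      have hyB : ∀ c ∈ B, Commute c y := by
        intro c hc
        have h2 : x⁻¹ * c * x * z = z * (x⁻¹ * c * x) := Subgroup.mem_centralizer_singleton_iff.1 (hxB c hc)
        show c * (x * z * x⁻¹) = x * z * x⁻¹ * c
        calc c * (x * z * x⁻¹) = x * (x⁻¹ * c * x * z) * x⁻¹ := by group
          _ = x * (z * (x⁻¹ * c * x)) * x⁻¹ := by rw [h2]
          _ = x * z * x⁻¹ * c := by group
      have hyH : y ∈ H := Subgroup.mem_centralizer_singleton_iff.2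
        (hyB z ⟨hzE, Subgroup.mem_centralizer_singleton_iff.2 (hES.comm e heE).symm⟩).symm
      have hyy : y * y = 1 := by rw [hy]; rw [show x * z * x⁻¹ * (x * z * x⁻¹) = x * (z * z) * x⁻¹ by group, hzz]; group
      -- `y ∈ E`
      have hfy : ∀ c ∈ B, f * c * f⁻¹ ∈ B := by
        intro c hc
        refine Subgroup.mem_inf.2 ⟨mul_mem (mul_mem hfE hc.1) (E.inv_mem hfE), Subgroup.mem_centralizer_singleton_iff.2 ?_⟩
        rcases hES.conj f hfE c hc.1 with r | r <;> rw [r]
        · exact hBe c hc
        · exact ((hBe c hc).mul_left (hES.comm e heE).symm).eq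
      set f' := y * f * y⁻¹ with hf'
      have hf'E : f' ∈ E := hHE y hyH f hfE
      have hww : f⁻¹ * f' = 1 ∨ f⁻¹ * f' = z ∨ f⁻¹ * f' = e ∨ f⁻¹ * f' = e * z := by
        refine hcommB _ (mul_mem (inv_mem hfE) hf'E) fun c hc hce => ?_
        have hcB : c ∈ B := ⟨hc, Subgroup.mem_centralizer_singleton_iff.2 hce⟩
        have h3 : f' * c * f'⁻¹ = f * c * f⁻¹ := by
          calc f' * c * f'⁻¹ = y * f * (y⁻¹ * c * y) * f⁻¹ * y⁻¹ := by rw [hf']; group
            _ = y * (f * c * f⁻¹) * y⁻¹ := by rw [mul_assoc y⁻¹, (hyB c hcB).eq]; group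
            _ = f * c * f⁻¹ := by rw [← (hyB _ (hfy c hcB)).eq]; group
        show c * (f⁻¹ * f') = f⁻¹ * f' * c
        calc c * (f⁻¹ * f') = f⁻¹ * (f * c * f⁻¹) * f' := by group
          _ = f⁻¹ * (f' * c * f'⁻¹) * f' := by rw [h3]
          _ = _ := by group
      have hff : f' * f' = f * f := by
        rw [hf', show y * f * y⁻¹ * (y * f * y⁻¹) = y * (f * f) * y⁻¹ by group]
        rcases hES.sq_cases hfE with r | r <;> rw [r]
        · group
        · rw [← (hyB z ⟨hzE, Subgroup.mem_centralizer_singleton_iff.2 (hES.comm e heE).symm⟩).eq]; group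
      have hfz : ∀ v, v = e ∨ v = e * z → f * v * (f * v) ≠ f * f := by
        intro v hv he'
        have he1 : f * e = e * z * f := mul_inv_eq_iff_eq_mul.1 hfe
        have : v * f * v = f := by
          rw [mul_assoc f v, ← mul_assoc v f v] at he'
          exact mul_left_cancel he'
        have hvf : v * f * v = f * z := by
          have hev : f * e * e = f := by rw [mul_assoc, hee, mul_one]
          have hze : z * e = e * z := (hES.comm e heE).symm
          have h5 : e * f = f * e * z := by
            rw [he1, mul_assoc (e * z), (hES.comm f hfE).eq, ← mul_assoc, mul_assoc e z z, hzz, mul_one]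
          rcases hv with rfl | rfl
          · rw [h5, mul_assoc, hze, ← mul_assoc, hev]
          · calc e * z * f * (e * z) = f * e * (e * z) := by rw [← he1]
              _ = f * z := by rw [← mul_assoc, hev]
        rw [hvf] at this
        exact hES.ne (mul_eq_left.1 this)
      have hcase : f' = f ∨ f' = f * z := by
        rcases hww with r | r | r | r
        · exact Or.inl (inv_mul_eq_one.1 r).symm
        · exact Or.inr (inv_mul_eq_iff_eq_mul.1 r)
        · exact absurd (by rw [← inv_mul_eq_iff_eq_mul.1 r, hff]) (hfz e (Or.inl rfl))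
        · exact absurd (by rw [← inv_mul_eq_iff_eq_mul.1 r, hff]) (hfz _ (Or.inr rfl))
      have hgen : ∀ q ∈ E, q ∈ B ∨ q * f ∈ B := by
        intro q hq
        rcases z2_cases (chi q e) with h0 | h0
        · exact Or.inl ⟨hq, Subgroup.mem_centralizer_singleton_iff.2 (chi_eq_zero.1 h0)⟩
        · refine Or.inr ⟨mul_mem hq hfE, Subgroup.mem_centralizer_singleton_iff.2 (chi_eq_zero.1 ?_)⟩
          rw [hES.chi_mul_left hq hfE heE, h0]
          have : chi f e = 1 := by unfold chi; rw [if_neg fun e' => hES.ne (mul_eq_left.1 (hfe.symm.trans e'))]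
          rw [this]; exact z2_self 1
      have hyE : y ∈ E := by
        have key : ∀ u, (∀ c ∈ B, Commute c u) → Commute f u → u ∈ E := fun u h2 h3 => hcent fun q hq => by
          rcases hgen q hq with r | r
          · exact h2 q r
          · have h4 : Commute (q * f * f⁻¹) u := (h2 _ r).mul_left h3.inv_left
            rwa [mul_inv_cancel_right] at h4
        rcases hcase with r | r
        · exact key y hyB (mul_inv_eq_iff_eq_mul.1 r).symm
        · have h3 : Commute f (e * y) := by
            have h4 : y * f = f * z * y := mul_inv_eq_iff_eq_mul.1 r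
            have h5 : f * e = e * z * f := mul_inv_eq_iff_eq_mul.1 hfe
            show f * (e * y) = e * y * f
            rw [← mul_assoc, h5, mul_assoc e y f, h4, mul_assoc e z f, ← (hES.comm f hfE).eq]
            simp only [mul_assoc]
          have h6 := key (e * y) (fun c hc => (hBe c hc).mul_right (hyB c hc)) h3
          have := mul_mem heE h6
          rwa [← mul_assoc, hee, one_mul] at this
      have hval := ((outCoset_iff hKi x).1 hq).2
      rcases hcommB y hyE (fun c hc hce => hyB c ⟨hc, Subgroup.mem_centralizer_singleton_iff.2 hce⟩)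
        with r | r | r | r
      · exfalso
        apply hz1
        calc z = x⁻¹ * y * x := by rw [hy]; group
          _ = 1 := by rw [r]; group
      · apply Subtype.ext
        show (x : G ⧸ H) = ((1 : G) : G ⧸ H)
        rw [QuotientGroup.eq, mul_one, inv_mem_iff, hH, Subgroup.mem_centralizer_singleton_iff]
        calc x * z = y * x := by rw [hy]; group
          _ = z * x := by rw [r]
      · exact absurd (by rw [← r, hy]; simpa [mul_assoc] using hzK) hval
      · exfalso
        apply hval
        have h2 : x⁻¹ * z * x ∈ K := by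
          have h3 := commutator_mem_of_index_two hKi (hxB a haB) (hxB b hbB)
          have e1 : x⁻¹ * a * x * (x⁻¹ * b * x) * (x⁻¹ * a * x)⁻¹ * (x⁻¹ * b * x)⁻¹ =
              x⁻¹ * (a * b * a⁻¹ * b⁻¹) * x := by group
          rwa [e1, hab, (hES.comm b hbB.1).eq, mul_inv_cancel_right] at h3
        have he' : e = y * z := by rw [r, mul_assoc, hzz, mul_one]
        have e1 : x⁻¹ * e * x = z * (x⁻¹ * z * x) := by rw [he', hy]; group
        rw [e1]
        exact mul_mem hzK h2
    · intro hx c
      apply Subtype.ext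
      show (c : G) • (x : G ⧸ H) = (x : G ⧸ H)
      rw [show (x : G ⧸ H) = ((1 : G) : G ⧸ H) from congrArg Subtype.val hx, MulAction.Quotient.smul_coe, QuotientGroup.eq, smul_eq_mul]
      simpa using hEH c.2.1
  rw [huniq, Nat.card_coe_set_eq, Set.ncard_singleton] at hmod
  rw [Nat.even_iff] at hpar
  unfold Nat.ModEq at hmod
  omega

end Cfsg.Agent.S3299
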