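import Cfsg.Statements.S3300
import Cfsg.Agent.Lib.StagedTransfer68.Core
import Cfsg.Agent.Lib.Fgs55.TransferParity
-- import your own Cfsg.Agent.* helpers here

set_option autoImplicit false
set_option linter.style.haveILetI false
open Cfsg

namespace Cfsg.Agent.S3300

open Cfsg.Agent.Lib.LargeExtraspecial.Basic Cfsg.Agent.Lib.StagedTransfer68 Cfsg.Agent.Lib.Fgs55

/-- Let G be a finite group with no nontrivial 2-group quotient (O^2(G) = G), z an involution of G with H = C_G(z), and suppose E = O_2(H) is extraspecial with C_G(E) ≤ E and of order 2^(2n+1) with n ≥ 3. If H has a normal subgroup of index 2, then z is conjugate in G to an element of E other than z. -/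
theorem result {G : Type*} [Group G] [Finite G] (hres : Cfsg.pResidual 2 G = ⊤) (z : G) (hz : orderOf z = 2)
    (E : Subgroup G) (hE : E = (Cfsg.pCore 2 ↥(Subgroup.centralizer ({z} : Set G))).map (Subgroup.centralizer ({z} : Set G)).subtype)
    (hext : Cfsg.IsExtraspecial 2 ↥E) (hcent : Subgroup.centralizer (E : Set G) ≤ E) (n : ℕ) (hn : 3 ≤ n) (hcard : Nat.card ↥E = 2 ^ (2 * n + 1))
    (K : Subgroup G) (hKH : K ≤ Subgroup.centralizer ({z} : Set G))
    (hKn : ∀ h ∈ Subgroup.centralizer ({z} : Set G), K.map (MulAut.conj h).toMonoidHom = K)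
    (hKi : K.relIndex (Subgroup.centralizer ({z} : Set G)) = 2) :
    ∃ g : G, g * z * g⁻¹ ∈ E ∧ g * z * g⁻¹ ≠ z := by
  classical
  by_contra hno
  push Not at hno
  set H := Subgroup.centralizer ({z} : Set G) with hH
  have hzz : z * z = 1 := by rw [← pow_two, ← hz, pow_orderOf_eq_one]
  have hz1 : z ≠ 1 := fun e => by simp [e] at hz
  have hEH : E ≤ H := by rw [hE]; exact Subgroup.map_subtype_le _
  have hHE : ∀ h ∈ H, ∀ a ∈ E, h * a * h⁻¹ ∈ E := by
    intro h hh a ha
    rw [hE] at ha ⊢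
    haveI : (Cfsg.pCore 2 ↥H).Normal := Lib.LargeExtraspecial.Basic.pCore_normal 2 ↥H
    obtain ⟨a', ha', rfl⟩ := ha
    exact ⟨⟨h, hh⟩ * a' * ⟨h, hh⟩⁻¹, Subgroup.Normal.conj_mem inferInstance a' ha' _, rfl⟩
  have hzE : z ∈ E := hcent fun a ha => Subgroup.mem_centralizer_singleton_iff.1 (hEH ha)
  obtain ⟨w, hw2, hw⟩ := Lib.LargeExtra.Basic.exists_z hext
  obtain rfl : z = w := by
    have h1 : z ∈ (Subgroup.center ↥E).map E.subtype :=
      Lib.LargeExtra.Basic.mem_centerMap.2 ⟨hzE, fun a ha => Subgroup.mem_centralizer_singleton_iff.1 (hEH ha)⟩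
    rw [hw] at h1
    exact (Lib.LargeExtra.Basic.eq_one_or_eq hw2 h1).resolve_left hz1
  have hES : ES E z := (Lib.LargeExtra.TwoConjugate.es_of hext hw).1
  let θ : ↥H →* ℤˣ :=
    { toFun := fun h => if (h : G) ∈ K then 1 else -1
      map_one' := if_pos (one_mem K)
      map_mul' := fun a b => by
        have := mul_mem_iff_index_two hKi a.2 b.2
        simp only [Subgroup.coe_mul, this]
        by_cases ha : (a : G) ∈ K <;> by_cases hb : (b : G) ∈ K <;> simp [ha, hb] }
  have h128 : 128 ≤ Nat.card E := by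
    rw [hcard]
    exact (show (128 : ℕ) = 2 ^ 7 by norm_num) ▸ Nat.pow_le_pow_right (by norm_num) (by omega)
  have key : ∀ x (hx : x ∈ H), (∃ k, orderOf x = 2 ^ k) → θ ⟨x, hx⟩ = 1 := fun x hx hxp =>
    transfer_core θ (fun c => by rw [← sq, Int.units_sq]) hres hES hEH hHE hext.1.1 hcent
      (fun g hm => Or.inr h128) (fun g A h1 h2 _ _ _ _ _ => absurd (hno g h1) h2) hx hxp
  have hK : ∀ x ∈ H, (∃ k, orderOf x = 2 ^ k) → x ∈ K := by
    intro x hx hxp
    by_contra hxK
    have h1 := key x hx hxp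
    change (if x ∈ K then (1 : ℤˣ) else -1) = 1 at h1
    rw [if_neg hxK] at h1
    exact absurd h1 (by decide)
  obtain ⟨y, hyH, hyK⟩ : ∃ y ∈ H, y ∉ K := by
    by_contra hall
    push Not at hall
    have := Subgroup.relIndex_eq_one.mpr (hall : H ≤ K)
    omega
  obtain ⟨k, m, hm, hord⟩ := Nat.exists_eq_two_pow_mul_odd (orderOf_pos y).ne'
  apply hyK
  have hym : y ^ m ∈ K := hK _ (pow_mem hyH m) ⟨k, by
    rw [orderOf_pow_of_dvd hm.pos.ne' (hord ▸ dvd_mul_left m _), hord,
      Nat.mul_div_cancel _ hm.pos]⟩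
  have hsq : ∀ a ∈ H, a * a ∈ K := fun a ha => (mul_mem_iff_index_two hKi ha ha).2 Iff.rfl
  obtain ⟨j, hj⟩ := hm
  rw [hj, pow_succ] at hym
  have h2 : y ^ (2 * j) ∈ K := by
    rw [two_mul, pow_add]
    exact hsq _ (pow_mem hyH j)
  exact ((mul_mem_iff_index_two hKi (pow_mem hyH _) hyH).1 hym).1 h2

end Cfsg.Agent.S3300
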