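import Cfsg.Statements.S3301
import Mathlib
import Cfsg.Agent.Lib.TransferCocycle76
import Cfsg.Agent.Lib.LargeExtraspecial.Basic
import Cfsg.Agent.Lib.PGroups.Omega

set_option autoImplicit false
set_option linter.style.haveILetI false
open Cfsg

namespace Cfsg.Agent.S3301

open Cfsg.Agent.Lib.TransferCocycle76
open Cfsg.Agent.Lib.LargeExtraspecial.Basic

section Small

variable {G : Type*} [Group G] {E : Subgroup G} {z : G}

theorem comm_or (h : ES E z) {a t : G} (ha : a ∈ E) (ht : t ∈ E) :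
    t⁻¹ * (a⁻¹ * t * a) = 1 ∨ t⁻¹ * (a⁻¹ * t * a) = z := by
  rcases h.conj a⁻¹ (E.inv_mem ha) t ht with e | e
  · left; rw [inv_inv] at e; rw [e, inv_mul_cancel]
  · right; rw [inv_inv] at e; rw [e, inv_mul_cancel_left]

/-- conjugation by `v` on a non-commuting `w` multiplies by `z`. -/
theorem conj_eq_mul_z (h : ES E z) {v w : G} (hv : v ∈ E) (hw : w ∈ E) (hc : ¬ Commute v w) :
    v * w * v⁻¹ = w * z :=
  (h.conj v hv w hw).resolve_left fun e => hc (mul_inv_eq_iff_eq_mul.mp e)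

/-- structure of a small extraspecial group: the centraliser of a non-central element. -/
theorem cent_small [Finite G] (h : ES E z) (h8 : Nat.card E ≤ 8) {v w : G} (hv : v ∈ E) (hw : w ∈ E)
    (hc : ¬ Commute v w) :
    (∀ e ∈ E, Commute v e → e = 1 ∨ e = z ∨ e = v ∨ e = v * z) ∧
      (∀ e ∈ E, Commute v e ∨ Commute v (w⁻¹ * e)) := by
  classical
  have hsplit : ∀ e ∈ E, Commute v e ∨ Commute v (w⁻¹ * e) := by
    intro e he
    by_cases hve : Commute v e
    · exact Or.inl hve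
    · right
      have e1 := conj_eq_mul_z h hv he hve
      have e2 := conj_eq_mul_z h hv hw hc
      have e3 : v * (w⁻¹ * e) * v⁻¹ = w⁻¹ * e := by
        have e4 : v * w⁻¹ * v⁻¹ = z⁻¹ * w⁻¹ := by
          have := congrArg (fun x => x⁻¹) e2
          simpa [mul_assoc] using this
        calc v * (w⁻¹ * e) * v⁻¹ = (v * w⁻¹ * v⁻¹) * (v * e * v⁻¹) := by group
          _ = z⁻¹ * (w⁻¹ * e) * z := by rw [e4, e1]; group
          _ = w⁻¹ * e := by
            rw [mul_assoc, (h.comm _ (E.mul_mem (E.inv_mem hw) he)).eq, inv_mul_cancel_left]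
      exact mul_inv_eq_iff_eq_mul.mp e3
  refine ⟨?_, hsplit⟩
  let C : Set G := {e | e ∈ E ∧ Commute v e}
  have hdis : Disjoint C ((fun e => w * e) '' C) := by
    rw [Set.disjoint_left]
    rintro x ⟨-, hx⟩ ⟨e, ⟨-, he⟩, rfl⟩
    exact hc (by simpa using hx.mul_right he.inv_right)
  have hsub : C ∪ (fun e => w * e) '' C ⊆ (E : Set G) := by
    rintro x (⟨hx, -⟩ | ⟨e, ⟨he, -⟩, rfl⟩)
    · exact hx
    · exact E.mul_mem hw he
  have hcard := Set.ncard_le_ncard hsub
  rw [Set.ncard_union_eq hdis, Set.ncard_image_of_injective _ (mul_right_injective w)] at hcard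
  have hE : (E : Set G).ncard = Nat.card E := rfl
  have hv1 : v ≠ 1 := fun e => hc (by rw [e]; exact Commute.one_left w)
  have hvz : v ≠ z := fun e => hc (by rw [e]; exact (h.comm w hw).symm)
  have hsub4 : ({1, z, v, v * z} : Set G) ⊆ C := by
    rintro x (rfl | rfl | rfl | rfl)
    · exact ⟨E.one_mem, Commute.one_right v⟩
    · exact ⟨h.mem, h.comm v hv⟩
    · exact ⟨hv, Commute.refl _⟩
    · exact ⟨E.mul_mem hv h.mem, (Commute.refl v).mul_right (h.comm v hv)⟩
  have h4 : ({1, z, v, v * z} : Set G).ncard = 4 := by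
    have n1 : (1 : G) ≠ v * z := fun e => hvz (by
      rw [eq_inv_of_mul_eq_one_left e.symm, h.zinv])
    have n2 : z ≠ v * z := fun e => hv1 (mul_eq_right.mp e.symm)
    have n3 : v ≠ v * z := fun e => h.ne (mul_eq_left.mp e.symm)
    rw [Set.ncard_insert_of_notMem (by simp [h.ne.symm, hv1.symm, n1]),
      Set.ncard_insert_of_notMem (by simp [hvz.symm, n2]), Set.ncard_pair n3]
  intro e he hve
  have heq : ({1, z, v, v * z} : Set G) = C :=
    Set.eq_of_subset_of_ncard_le hsub4 (by omega)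
  have : e ∈ ({1, z, v, v * z} : Set G) := heq ▸ (⟨he, hve⟩ : e ∈ C)
  simpa using this

/-- `x ≈ y` modulo `⟨z⟩`. -/
def Cls (z x y : G) : Prop := x = y ∨ x = y * z

/-- The dichotomy for an element normalising a small extraspecial group. -/
theorem small_dichotomy [Finite G] (h : ES E z) (h8 : Nat.card E ≤ 8)
    (hcent : Subgroup.centralizer (E : Set G) ≤ E) {g : G} (hgz : Commute g z)
    (hgE : ∀ e ∈ E, g * e * g⁻¹ ∈ E) :
    g * g ∈ E ∨
      (∀ v ∈ E, v ≠ 1 → v ≠ z → ¬ Cls z (g * v * g⁻¹) v) ∧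
      (∀ v ∈ E, v ≠ 1 → v ≠ z →
        Cls z (g * (g * v * g⁻¹) * g⁻¹) (g * v * g⁻¹ * v)) := by
  classical
  by_cases hex : ∃ v ∈ E, v ≠ 1 ∧ v ≠ z ∧ Cls z (g * v * g⁻¹) v
  · left
    obtain ⟨v, hv, hv1, hvz, hfv⟩ := hex
    obtain ⟨w, hw, hwv⟩ := h.exists_conj_ne hv hv1 hvz
    have hc : ¬ Commute v w := fun hc => h.ne (by
      have : w * v * w⁻¹ = v := mul_inv_eq_iff_eq_mul.mpr hc.symm
      exact mul_eq_left.mp (hwv.symm.trans this))
    obtain ⟨hC, hsplit⟩ := cent_small h h8 hv hw hc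
    have hvC : Commute v (g * v * g⁻¹) := by
      rcases hfv with e | e <;> rw [e]
      exact (Commute.refl v).mul_right (h.comm v hv)
    have hfw : ¬ Commute v (g * w * g⁻¹) := by
      intro hcw
      apply hc
      have h1 : Commute (g * v * g⁻¹) (g * w * g⁻¹) := by
        rcases hfv with e | e <;> rw [e]
        · exact hcw
        · exact hcw.mul_left (h.comm _ (hgE w hw)).symm
      simpa [mul_assoc] using h1.map (MulAut.conj g⁻¹)
    have hc' := (hsplit _ (hgE w hw)).resolve_left hfw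
    have hcase := hC _ (E.mul_mem (E.inv_mem hw) (hgE w hw)) hc'
    have hfz : g * z * g⁻¹ = z := mul_inv_eq_iff_eq_mul.mpr hgz
    have hzz : z * z = 1 := h.sq
    have hfv2 : Cls z ((g * g) * v * (g * g)⁻¹) v := by
      left
      rcases hfv with e | e
      · calc (g * g) * v * (g * g)⁻¹ = g * (g * v * g⁻¹) * g⁻¹ := by group
          _ = v := by rw [e, e]
      · calc (g * g) * v * (g * g)⁻¹ = g * (g * v * g⁻¹) * g⁻¹ := by group
          _ = g * (v * z) * g⁻¹ := by rw [e]
          _ = (g * v * g⁻¹) * (g * z * g⁻¹) := by group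
          _ = v := by rw [e, hfz, mul_assoc, hzz, mul_one]
    have hfw2 : Cls z ((g * g) * w * (g * g)⁻¹) w := by
      have e0 : (g * g) * w * (g * g)⁻¹ =
          w * ((w⁻¹ * (g * w * g⁻¹)) * (g * (w⁻¹ * (g * w * g⁻¹)) * g⁻¹)) := by group
      have key : ∀ c : G, (c = 1 ∨ c = z ∨ c = v ∨ c = v * z) →
          c * (g * c * g⁻¹) = 1 ∨ c * (g * c * g⁻¹) = z := by
        intro c hcc
        have hv2 := h.sq_cases hv
        have hvz' : v * z = z * v := (h.comm v hv).eq
        rcases hcc with rfl | rfl | rfl | rfl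
        · left; group
        · left; rw [hfz, hzz]
        · rcases hfv with e | e <;> rw [e]
          · exact hv2
          · rcases hv2 with e2 | e2 <;> rw [← mul_assoc, e2]
            · right; rw [one_mul]
            · left; exact hzz
        · have e3 : v * z * (g * (v * z) * g⁻¹) = v * (g * v * g⁻¹) := by
            calc v * z * (g * (v * z) * g⁻¹) = v * z * ((g * v * g⁻¹) * (g * z * g⁻¹)) := by group
              _ = v * (z * (g * v * g⁻¹)) * z := by rw [hfz]; group
              _ = v * (g * v * g⁻¹) := by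
                rw [← (h.comm _ (hgE v hv)).eq]
                simp only [mul_assoc, hzz, mul_one]
          rw [e3]
          rcases hfv with e | e <;> rw [e]
          · exact hv2
          · rcases hv2 with e2 | e2 <;> rw [← mul_assoc, e2]
            · right; rw [one_mul]
            · left; exact hzz
      rcases key _ hcase with e | e
      · left; rw [e0, e, mul_one]
      · right; rw [e0, e]
    obtain ⟨e, he, hev, hew⟩ : ∃ e ∈ E, e * v * e⁻¹ = (g * g) * v * (g * g)⁻¹ ∧
        e * w * e⁻¹ = (g * g) * w * (g * g)⁻¹ := by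
      rcases hfv2 with a | a <;> rcases hfw2 with b | b <;> rw [a, b]
      · exact ⟨1, E.one_mem, by simp, by simp⟩
      · exact ⟨v, hv, by simp, conj_eq_mul_z h hv hw hc⟩
      · exact ⟨w, hw, hwv, by simp⟩
      · refine ⟨v * w, E.mul_mem hv hw, ?_, ?_⟩
        · calc v * w * v * (v * w)⁻¹ = v * (w * v * w⁻¹) * v⁻¹ := by group
            _ = v * z := by rw [hwv, mul_assoc, (h.comm v hv).eq, mul_inv_cancel_right, ← (h.comm v hv).eq]
        · calc v * w * w * (v * w)⁻¹ = v * w * v⁻¹ := by group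
            _ = w * z := conj_eq_mul_z h hv hw hc
    have hxv : Commute (e⁻¹ * (g * g)) v := by
      show _ = _
      calc e⁻¹ * (g * g) * v = e⁻¹ * ((g * g) * v * (g * g)⁻¹) * (g * g) := by group
        _ = v * (e⁻¹ * (g * g)) := by rw [← hev]; group
    have hxw : Commute (e⁻¹ * (g * g)) w := by
      show _ = _
      calc e⁻¹ * (g * g) * w = e⁻¹ * ((g * g) * w * (g * g)⁻¹) * (g * g) := by group
        _ = w * (e⁻¹ * (g * g)) := by rw [← hew]; group
    have hxz : Commute (e⁻¹ * (g * g)) z :=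
      (h.comm _ (E.inv_mem he)).mul_left (hgz.mul_left hgz)
    have hmem : e⁻¹ * (g * g) ∈ E := by
      refine hcent (Subgroup.mem_centralizer_iff.mpr fun y hy => ?_)
      have hy' : ∀ c : G, (c = 1 ∨ c = z ∨ c = v ∨ c = v * z) → Commute (e⁻¹ * (g * g)) c := by
        rintro c (rfl | rfl | rfl | rfl)
        · exact Commute.one_right _
        · exact hxz
        · exact hxv
        · exact hxv.mul_right hxz
      rcases hsplit y hy with hy1 | hy1
      · exact (hy' _ (hC y hy hy1)).eq.symm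
      · have := hy' _ (hC _ (E.mul_mem (E.inv_mem hw) hy) hy1)
        have h2 := hxw.mul_right this
        rw [mul_inv_cancel_left] at h2
        exact h2.eq.symm
    have := E.mul_mem he hmem
    rwa [mul_inv_cancel_left] at this
  · right
    push Not at hex
    refine ⟨fun v hv h1 h2 => hex v hv h1 h2, fun v hv hv1 hvz => ?_⟩
    have hgi : ∀ x : G, g * x * g⁻¹ = 1 → x = 1 := fun x hx => conj_eq_one_iff.mp hx
    have hfz : g * z * g⁻¹ = z := mul_inv_eq_iff_eq_mul.mpr hgz
    have hu : g * v * g⁻¹ ∈ E := hgE v hv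
    have hu1 : g * v * g⁻¹ ≠ 1 := fun e => hv1 (hgi v e)
    have huz : g * v * g⁻¹ ≠ z := fun e => hvz (by
      have := e.trans hfz.symm
      exact mul_left_cancel (mul_right_cancel this))
    obtain ⟨u, hu_def⟩ : ∃ u, u = g * v * g⁻¹ := ⟨_, rfl⟩
    rw [← hu_def] at hu hu1 huz ⊢
    have hnc : ¬ Commute v u := by
      intro hvu
      obtain ⟨w, hw, hwv⟩ := h.exists_conj_ne hv hv1 hvz
      have hc : ¬ Commute v w := fun hc => h.ne (by
        have : w * v * w⁻¹ = v := mul_inv_eq_iff_eq_mul.mpr hc.symm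
        exact mul_eq_left.mp (hwv.symm.trans this))
      rcases (cent_small h h8 hv hw hc).1 u hu hvu with e | e | e | e
      · exact hu1 e
      · exact huz e
      · exact hex v hv hv1 hvz (Or.inl (hu_def.symm.trans e))
      · exact hex v hv hv1 hvz (Or.inr (hu_def.symm.trans e))
    obtain ⟨hC, hsplit⟩ := cent_small h h8 hu hv (fun hc => hnc hc.symm)
    have hfu := hgE u hu
    have hfu_nc : ¬ Commute u (g * u * g⁻¹) := by
      intro hc
      rcases hC _ hfu hc with e | e | e | e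
      · exact hu1 (hgi u e)
      · exact huz (by
          have := e.trans hfz.symm
          exact mul_left_cancel (mul_right_cancel this))
      · exact hex u hu hu1 huz (Or.inl e)
      · exact hex u hu hu1 huz (Or.inr e)
    have hc2 := (hsplit _ hfu).resolve_left hfu_nc
    have hvu1 : u * v ≠ 1 := fun e => hnc (by
      rw [eq_inv_of_mul_eq_one_right e]; exact (Commute.refl u).inv_left)
    have hvuz : u * v ≠ z := fun e => hnc (by
      have : v = u⁻¹ * z := by rw [← e, inv_mul_cancel_left]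
      rw [this]; exact ((Commute.refl u).inv_left).mul_left (h.comm u hu).symm)
    have hswap : v * u = u * v * z := by
      have := conj_eq_mul_z h hv hu hnc
      rw [mul_inv_eq_iff_eq_mul] at this
      rw [this, mul_assoc, ← (h.comm v hv).eq, ← mul_assoc]
    have hbad : ∀ x : G, (x = v ∨ x = v * z) → g * u * g⁻¹ = x → False := by
      intro x hx e
      refine hex (u * v) (E.mul_mem hu hv) hvu1 hvuz ?_
      have e1 : g * (u * v) * g⁻¹ = x * u := by
        rw [← e, hu_def]; group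
      rw [e1]
      rcases hx with rfl | rfl
      · exact Or.inr hswap
      · left
        rw [mul_assoc, ← (h.comm u hu).eq, ← mul_assoc, hswap, mul_assoc, h.sq, mul_one]
    have hdec : g * u * g⁻¹ = v * (v⁻¹ * (g * u * g⁻¹)) := (mul_inv_cancel_left _ _).symm
    rcases hC _ (E.mul_mem (E.inv_mem hv) hfu) hc2 with e | e | e | e
    · exact absurd (by rw [hdec, e, mul_one]) (hbad v (Or.inl rfl))
    · exact absurd (by rw [hdec, e]) (hbad (v * z) (Or.inr rfl))
    · right; rw [hdec, e, hswap]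
    · left
      rw [hdec, e, ← mul_assoc, hswap, mul_assoc, h.sq, mul_one]

/-- In a small extraspecial group normalised by a `2`-element `s`, `s² ∈ E`. -/
theorem sq_mem_small [Finite G] (h : ES E z) (h8 : Nat.card E ≤ 8)
    (hcent : Subgroup.centralizer (E : Set G) ≤ E)
    (hne : ∃ v ∈ E, v ≠ 1 ∧ v ≠ z) {s : G} (hsz : Commute s z)
    (hsE : ∀ e ∈ E, s * e * s⁻¹ ∈ E) {i : ℕ} (hs : s ^ 2 ^ i = 1) : s * s ∈ E := by
  rcases small_dichotomy h h8 hcent hsz hsE with h' | ⟨hno, hnext⟩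
  · exact h'
  exfalso
  obtain ⟨v, hv, hv1, hvz⟩ := hne
  have hu := hsE v hv
  have hfz : s * z * s⁻¹ = z := mul_inv_eq_iff_eq_mul.mpr hsz
  have h3 : Cls z (s ^ 3 * v * (s ^ 3)⁻¹) v := by
    have e0 : s ^ 3 * v * (s ^ 3)⁻¹ = s * (s * (s * v * s⁻¹) * s⁻¹) * s⁻¹ := by
      simp [pow_succ, mul_assoc]
    rw [e0]
    obtain ⟨u, hu_def⟩ : ∃ u, u = s * v * s⁻¹ := ⟨_, rfl⟩
    have h1 := hnext v hv hv1 hvz
    rw [← hu_def] at hu h1 ⊢
    have hsu : ∀ x, Cls z x (u * v) → Cls z (s * x * s⁻¹) (s * u * s⁻¹ * u) := by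
      rintro x (rfl | rfl)
      · left; rw [hu_def]; group
      · right
        calc s * (u * v * z) * s⁻¹ = (s * u * s⁻¹) * (s * v * s⁻¹) * (s * z * s⁻¹) := by group
          _ = _ := by rw [← hu_def, hfz]
    have h2 := hsu _ h1
    have h4 : Cls z (s * u * s⁻¹ * u) v := by
      have hswap : u * v * u⁻¹ = v ∨ u * v * u⁻¹ = v * z := h.conj u hu v hv
      have hsq := h.sq_cases hu
      have hzu : z * u = u * z := ((h.comm u hu).eq).symm
      have hvzc : v * z = z * v := (h.comm v hv).eq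
      rcases h1 with e | e <;> rw [e]
      · have e' : u * v * u = u * v * u⁻¹ * (u * u) := by group
        rw [e']
        rcases hswap with a | a <;> rcases hsq with b | b <;> rw [a, b]
        · left; rw [mul_one]
        · right; rfl
        · right; rw [mul_one]
        · left; rw [mul_assoc, h.sq, mul_one]
      · have e' : u * v * z * u = u * v * u⁻¹ * (u * u) * z := by
          rw [mul_assoc (u * v) z u, hzu]; group
        rw [e']
        rcases hswap with a | a <;> rcases hsq with b | b <;> rw [a, b]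
        · right; rw [mul_one]
        · left; rw [mul_assoc, h.sq, mul_one]
        · left; rw [mul_one, mul_assoc, h.sq, mul_one]
        · right; rw [mul_assoc v z z, h.sq, mul_one]
    rcases h2 with a | a <;> rcases h4 with b | b
    · exact Or.inl (a.trans b)
    · exact Or.inr (a.trans b)
    · exact Or.inr (a.trans (by rw [b]))
    · exact Or.inl (a.trans (by rw [b, mul_assoc, h.sq, mul_one]))
  obtain ⟨n, hn⟩ : ∃ n : ℕ, (s ^ 3) ^ n = s := by
    have hord : (orderOf s).Coprime 3 :=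
      Nat.Coprime.coprime_dvd_left (orderOf_dvd_of_pow_eq_one hs)
        (Nat.Coprime.pow_left i (by norm_num))
    exact exists_pow_eq_self_of_coprime hord.symm
  have hall : ∀ m : ℕ, Cls z ((s ^ 3) ^ m * v * ((s ^ 3) ^ m)⁻¹) v := by
    intro m
    induction m with
    | zero => left; simp
    | succ m ih =>
      have e1 : (s ^ 3) ^ (m + 1) * v * ((s ^ 3) ^ (m + 1))⁻¹ =
          s ^ 3 * ((s ^ 3) ^ m * v * ((s ^ 3) ^ m)⁻¹) * (s ^ 3)⁻¹ := by
        rw [pow_succ' (s ^ 3) m]; group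
      have hz3 : s ^ 3 * z * (s ^ 3)⁻¹ = z := mul_inv_eq_iff_eq_mul.mpr (hsz.pow_left 3)
      rw [e1]
      rcases ih with e | e <;> rw [e]
      · exact h3
      · have e2 : s ^ 3 * (v * z) * (s ^ 3)⁻¹ = s ^ 3 * v * (s ^ 3)⁻¹ * z := by
          calc s ^ 3 * (v * z) * (s ^ 3)⁻¹
              = s ^ 3 * v * (s ^ 3)⁻¹ * (s ^ 3 * z * (s ^ 3)⁻¹) := by group
            _ = _ := by rw [hz3]
        rw [e2]
        rcases h3 with a | a <;> rw [a]
        · exact Or.inr rfl
        · exact Or.inl (by rw [mul_assoc, h.sq, mul_one])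
  have := hall n
  rw [hn] at this
  exact hno v hv hv1 hvz this

end Small

section Main

variable {G : Type*} [Group G] {Ω : Type*} [MulAction G Ω] {A : Type*} [CommGroup A]
  {E : Subgroup G} {z : G} {c : G → Ω → A}

theorem exists_step [Finite G] {S N F : Subgroup G} (hS : IsPGroup 2 S) (hFS : F ≤ S) (hNF : N < F)
    (hN : ∀ u ∈ S, ∀ x ∈ N, u * x * u⁻¹ ∈ N) (hF : ∀ u ∈ S, ∀ x ∈ F, u * x * u⁻¹ ∈ F) :
    ∃ a ∈ F, a ∉ N ∧ a * a ∈ N ∧ ∀ u ∈ S, a⁻¹ * (u * a * u⁻¹) ∈ N := by
  have hn : (N.subgroupOf S).Normal := ⟨fun x hx u => hN u u.2 x hx⟩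
  have hf : (F.subgroupOf S).Normal := ⟨fun x hx u => hF u u.2 x hx⟩
  let f := QuotientGroup.mk' (N.subgroupOf S)
  have himg : ((F.subgroupOf S).map f).Normal := hf.map f (QuotientGroup.mk'_surjective _)
  have hne : (F.subgroupOf S).map f ≠ ⊥ := by
    intro e
    rw [Subgroup.map_eq_bot_iff, QuotientGroup.ker_mk'] at e
    obtain ⟨x, hx, hxN⟩ := SetLike.exists_of_lt hNF
    exact hxN (e (show (⟨x, hFS hx⟩ : S) ∈ F.subgroupOf S from hx))
  obtain ⟨Z, hZF, hZc, -, hZ2⟩ :=
    Cfsg.Agent.Lib.PGroups.exists_central_card_prime (hS.to_quotient _) _ hne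
  have hnt : Nontrivial Z := Finite.one_lt_card_iff_nontrivial.mp (by rw [hZ2]; norm_num)
  obtain ⟨⟨q, hq⟩, hq1⟩ := exists_ne (1 : Z)
  obtain ⟨a, ha, haq⟩ := hZF hq
  have hker : ∀ x : S, f x = 1 → (x : G) ∈ N := fun x hx =>
    (QuotientGroup.eq_one_iff x).mp hx
  refine ⟨a, ha, ?_, ?_, ?_⟩
  · intro haN
    apply hq1
    apply Subtype.ext
    show q = 1
    rw [← haq]
    exact (QuotientGroup.eq_one_iff a).mpr haN
  · have : f (a * a) = 1 := by
      have h2 : (⟨q, hq⟩ : Z) ^ 2 = 1 := by rw [← hZ2]; exact pow_card_eq_one'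
      rw [map_mul, haq, ← sq]
      exact congrArg Subtype.val h2
    exact hker _ this
  · intro u hu
    have : f (a⁻¹ * (⟨u, hu⟩ * a * (⟨u, hu⟩ : S)⁻¹)) = 1 := by
      simp only [map_mul, map_inv, haq]
      rw [Subgroup.mem_center_iff.mp (hZc hq) (f ⟨u, hu⟩), mul_inv_cancel_right, inv_mul_cancel]
    exact hker _ this

theorem c_comm (hc : IsCoc c) {x y : G} {ω : Ω} (hx : x • ω = ω) (hy : y • ω = ω) :
    c (x * y * x⁻¹ * y⁻¹) ω = 1 := by
  have hx' : x⁻¹ • ω = ω := inv_smul_eq_iff.mpr hx.symm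
  have hy' : y⁻¹ • ω = ω := inv_smul_eq_iff.mpr hy.symm
  have e1 := hc.inv_left x ω
  have e2 := hc.inv_left y ω
  rw [hx] at e1
  rw [hy] at e2
  rw [hc, hc, hc, hy', hx', hy]
  calc c x ω * c y ω * c x⁻¹ ω * c y⁻¹ ω = (c x⁻¹ ω * c x ω) * (c y⁻¹ ω * c y ω) := by ac_rfl
    _ = 1 := by rw [e1, e2, one_mul]

theorem c_sq (hc : IsCoc c) {x : G} {ω : Ω} (hx : x • ω = ω) : c x ω ^ 2 = c (x * x) ω := by
  rw [hc, hx, sq]

theorem smul_pair {S M : Subgroup G} (hM : ∀ u ∈ S, ∀ x ∈ M, u * x * u⁻¹ ∈ M) {a : G} (ha : a ∈ M)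
    {ω : Ω} (hMω : ∀ m ∈ M, m • ω = ω ∨ m • ω = a • ω) (hne : a • ω ≠ ω) (_haa : a • a • ω = ω)
    {y : G} (hy : y ∈ S) (h : y • ω = ω ∨ y • ω = a • ω) : SP a ω y := by
  have hm := hM y hy a ha
  rcases h with h | h
  · left
    have e : y • a • ω = (y * a * y⁻¹) • ω := by
      conv_rhs => rw [← h, ← mul_smul, inv_mul_cancel_right, mul_smul]
    refine ⟨h, ?_⟩
    rcases hMω _ hm with e' | e'
    · exact absurd (MulAction.injective y ((e.trans e').trans h.symm)) hne
    · exact e.trans e'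
  · right
    have e : y • a • ω = (y * a * y⁻¹ * a) • ω := by
      conv_rhs => rw [mul_smul _ a, ← h, ← mul_smul, inv_mul_cancel_right, mul_smul]
    refine ⟨h, ?_⟩
    rcases hMω _ (M.mul_mem hm ha) with e' | e'
    · exact e.trans e'
    · exact absurd (MulAction.injective y ((e.trans e').trans h.symm)) hne

variable [Fintype Ω]

theorem orb_pair {L : Subgroup G} {a : G} {ω : Ω} (ha : a ∈ L)
    (hL : ∀ l ∈ L, l • ω = ω ∨ l • ω = a • ω) :
    ∀ ξ, ξ ∈ orb L ω ↔ ξ = ω ∨ ξ = a • ω := by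
  intro ξ
  rw [mem_orb]
  constructor
  · rintro ⟨l, hl, rfl⟩; exact hL l hl
  · rintro (rfl | rfl)
    · exact ⟨1, L.one_mem, one_smul _ _⟩
    · exact ⟨a, ha, rfl⟩

/-- All orbit products over non-trivial `S`-orbits are killed by `2 ^ (j + 1)`. -/
theorem orbit_killed [Finite G] (h : ES E z) (h8 : 8 < Nat.card E) {S : Subgroup G}
    (hS : IsPGroup 2 S) (hES : E ≤ S) (hSz : ∀ u ∈ S, Commute u z)
    (hSE : ∀ u ∈ S, ∀ x ∈ E, u * x * u⁻¹ ∈ E) (hc : IsCoc c) (j : ℕ)
    (h2K : ∀ x : A, x ^ (2 * 2 ^ (j + 1)) = 1) (ω : Ω) (hω : ∃ e ∈ E, e • ω ≠ ω)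
    {s : G} (hs : s ∈ S) : (∏ η ∈ orb S ω, c s η) ^ (2 ^ (j + 1)) = 1 := by
  classical
  obtain ⟨K, hK⟩ : ∃ K, K = 2 ^ (j + 1) := ⟨_, rfl⟩
  rw [← hK] at h2K ⊢
  rw [← Finset.prod_pow]
  have hK2 : ∀ x : A, x ^ 2 = 1 → x ^ K = 1 := fun x hx => by
    rw [hK, pow_succ', pow_mul, hx, one_pow]
  by_cases hzω : z • ω = ω
  swap
  · -- `z` moves `ω`
    let L := ext2 ⊥ z (fun n hn => by simp_all [Subgroup.mem_bot])
      (fun n hn => by simp_all [Subgroup.mem_bot]) (Subgroup.mem_bot.mpr h.sq)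
    have hLω : ∀ l ∈ L, l • ω = ω ∨ l • ω = z • ω := by
      rintro l (hl | hl)
      · left; rw [Subgroup.mem_bot.mp hl, one_smul]
      · right; rw [← inv_mul_eq_one.mp (Subgroup.mem_bot.mp hl)]
    have hzc : ∀ u ∈ S, u * z * u⁻¹ = z := fun u hu => mul_inv_eq_iff_eq_mul.mpr (hSz u hu)
    refine orbit_prod (d := fun g η => c g η ^ K)
      (ext2_le bot_le (hES h.mem) : L ≤ S)
      (fun u hu => ext2_normalized (fun x hx => by simp_all [Subgroup.mem_bot])
        (by rw [hzc u hu, inv_mul_cancel]; exact Subgroup.one_mem _))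
      (hc.pow K) ω ?_ hs
    intro y hy hyω
    have horb := orb_pair (L := L) self_mem_ext2 hLω
    have hzz : z • z • ω = ω := by rw [← mul_smul, h.sq, one_smul]
    have hLn : ∀ u ∈ S, ∀ x ∈ L, u * x * u⁻¹ ∈ L := fun u hu =>
      ext2_normalized (fun x hx => by simp_all [Subgroup.mem_bot])
        (by rw [hzc u hu, inv_mul_cancel]; exact Subgroup.one_mem _)
    have hsp : SP z ω y := smul_pair hLn self_mem_ext2 hLω hzω hzz hy ((horb _).mp hyω)
    have hset : orb L ω = {ω, z • ω} := by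
      ext ξ; rw [horb ξ]; simp
    rw [hset, Finset.prod_pair (Ne.symm hzω), ← mul_pow]
    refine hh_pow hc h2K hsp (fun _ => by rw [h.sq, hc.one, one_pow]) ?_ hzz
    intro t ht _ _
    have htS : t ∈ S := by
      rcases ht with rfl | rfl
      · exact hy
      · exact S.mul_mem (S.inv_mem (hES h.mem)) hy
    have e : t⁻¹ * (z⁻¹ * t * z) = 1 := by
      rw [mul_assoc, (hSz t htS).eq, inv_mul_cancel_left, inv_mul_cancel]
    rw [e, hc.one, one_pow]
  -- `z` fixes `ω`
  have hcz : ∀ x : G, (x = 1 ∨ x = z) → (c x ω) ^ 2 = 1 := by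
    rintro x (rfl | rfl)
    · rw [hc.one, one_pow]
    · rw [c_sq hc hzω, h.sq, hc.one]
  have hpair : ∀ {a : G}, a ∈ E → a • a • ω = ω → ∀ m ∈ E, SP a ω m → hh c a ω m ^ K = 1 := by
    intro a haE haa m hm hsp
    refine hh_pow hc h2K hsp (fun _ => hK2 _ (hcz _ (h.sq_cases haE))) ?_ haa
    intro t ht _ _
    have htE : t ∈ E := by
      rcases ht with rfl | rfl
      · exact hm
      · exact E.mul_mem (E.inv_mem haE) hm
    exact hK2 _ (hcz _ (comm_or h haE htE))
  -- maximal subgroup fixing `ω`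
  let P0 : Set (Subgroup G) :=
    {N | z ∈ N ∧ N ≤ E ∧ (∀ u ∈ S, ∀ x ∈ N, u * x * u⁻¹ ∈ N) ∧ ∀ n ∈ N, n • ω = ω}
  have hP0 : P0.Nonempty := by
    refine ⟨ext2 ⊥ z (fun n hn => by simp_all [Subgroup.mem_bot])
      (fun n hn => by simp_all [Subgroup.mem_bot]) (Subgroup.mem_bot.mpr h.sq), self_mem_ext2,
      ext2_le bot_le h.mem, fun u hu => ext2_normalized (fun x hx => by simp_all [Subgroup.mem_bot])
        (by rw [mul_inv_eq_iff_eq_mul.mpr (hSz u hu), inv_mul_cancel]; exact Subgroup.one_mem _), ?_⟩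
    rintro n (hn | hn)
    · rw [Subgroup.mem_bot.mp hn, one_smul]
    · rw [← inv_mul_eq_one.mp (Subgroup.mem_bot.mp hn)]; exact hzω
  obtain ⟨L0, ⟨hzL0, hL0E, hL0n, hL0fix⟩, hL0max⟩ := (Set.toFinite P0).exists_maximal hP0
  have hL0lt : L0 < E := lt_of_le_of_ne hL0E fun e => by
    obtain ⟨x, hx, hxω⟩ := hω
    exact hxω (hL0fix x (e ▸ hx))
  obtain ⟨a, haE, haL0, haa2, hau⟩ := exists_step hS hES hL0lt hL0n hSE
  have hLn0 : ∀ n ∈ L0, a * n * a⁻¹ ∈ L0 := hL0n a (hES haE)
  have hLn0' : ∀ n ∈ L0, a⁻¹ * n * a ∈ L0 := fun n hn => by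
    simpa using hL0n a⁻¹ (S.inv_mem (hES haE)) n hn
  let L1 := ext2 L0 a hLn0 hLn0' haa2
  have hL1n : ∀ u ∈ S, ∀ x ∈ L1, u * x * u⁻¹ ∈ L1 := fun u hu =>
    ext2_normalized (hL0n u hu) (hau u hu)
  have hL1E : L1 ≤ E := ext2_le hL0E haE
  have hL1ω : ∀ l ∈ L1, l • ω = ω ∨ l • ω = a • ω := by
    rintro l (hl | hl)
    · exact Or.inl (hL0fix l hl)
    · right
      have := hL0fix _ hl
      rwa [mul_smul, inv_smul_eq_iff] at this
  have hne : a • ω ≠ ω := by
    intro e
    have hmem : L1 ∈ P0 := ⟨le_ext2 hzL0, hL1E, hL1n, fun n hn => by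
      rcases hL1ω n hn with e' | e'
      · exact e'
      · exact e'.trans e⟩
    exact haL0 (hL0max hmem le_ext2 self_mem_ext2)
  have haa : a • a • ω = ω := by rw [← mul_smul]; exact hL0fix _ haa2
  -- maximal subgroup stabilising the pair
  let P1 : Set (Subgroup G) :=
    {M | L1 ≤ M ∧ M ≤ E ∧ (∀ u ∈ S, ∀ x ∈ M, u * x * u⁻¹ ∈ M) ∧
      ∀ m ∈ M, m • ω = ω ∨ m • ω = a • ω}
  obtain ⟨M, ⟨hL1M, hME, hMn, hMω⟩, hMmax⟩ :=
    (Set.toFinite P1).exists_maximal ⟨L1, le_rfl, hL1E, hL1n, hL1ω⟩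
  have haM : a ∈ M := hL1M self_mem_ext2
  have hsp : ∀ y ∈ S, (y • ω = ω ∨ y • ω = a • ω) → SP a ω y := fun y hy =>
    smul_pair hMn haM hMω hne haa hy
  rcases eq_or_lt_of_le hME with hMeq | hMlt
  · -- the orbit of `E` is the pair
    subst hMeq
    have horb := orb_pair (L := M) haM hMω
    refine orbit_prod (d := fun g η => c g η ^ K) hES hSE (hc.pow K) ω ?_ hs
    intro y hy hyω
    have hset : orb M ω = {ω, a • ω} := by ext ξ; rw [horb ξ]; simp
    rw [hset, Finset.prod_pair (Ne.symm hne), ← mul_pow]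
    have hcz1 : c z ω = 1 := by
      obtain ⟨x, hx, x', hx', hxω, hx'ω, hxx⟩ : ∃ x ∈ M, ∃ x' ∈ M, x • ω = ω ∧ x' • ω = ω ∧
          ¬ Commute x x' := by
        by_contra hno
        push Not at hno
        have hsplit : ∀ e ∈ M, e • ω = ω ∨ (a⁻¹ * e) • ω = ω := by
          intro e he
          rcases hMω e he with e' | e'
          · exact Or.inl e'
          · right; rw [mul_smul, e', inv_smul_smul]
        have hcentral : ∀ x ∈ M, x • ω = ω → Commute a x → x = 1 ∨ x = z := by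
          intro x hx hxω hax
          refine h.center x hx fun e he => ?_
          rcases hsplit e he with e' | e'
          · exact hno e he x hx e' hxω
          · have := hax.mul_left (hno _ (M.mul_mem (M.inv_mem haM) he) x hx e' hxω)
            rwa [mul_inv_cancel_left] at this
        obtain ⟨x0, hx0⟩ : ∃ x0 : G, ∀ x ∈ M, x • ω = ω →
            x ∈ ({1, z, x0, x0 * z} : Set G) := by
          by_cases hex : ∃ x ∈ M, x • ω = ω ∧ ¬ Commute a x
          · obtain ⟨x0, hx0M, hx0ω, hx0a⟩ := hex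
            refine ⟨x0, fun x hx hxω => ?_⟩
            by_cases hax : Commute a x
            · rcases hcentral x hx hxω hax with e | e <;> simp [e]
            · have e1 := conj_eq_mul_z h haM hx0M hx0a
              have e2 := conj_eq_mul_z h haM hx hax
              have e3 : a * (x0⁻¹ * x) * a⁻¹ = x0⁻¹ * x := by
                calc a * (x0⁻¹ * x) * a⁻¹ = (a * x0 * a⁻¹)⁻¹ * (a * x * a⁻¹) := by group
                  _ = z⁻¹ * (x0⁻¹ * x) * z := by rw [e1, e2]; group
                  _ = x0⁻¹ * x := by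
                    rw [mul_assoc, (h.comm _ (M.mul_mem (M.inv_mem hx0M) hx)).eq,
                      inv_mul_cancel_left]
              have hfix : (x0⁻¹ * x) • ω = ω := by rw [mul_smul, hxω, inv_smul_eq_iff, hx0ω]
              rcases hcentral _ (M.mul_mem (M.inv_mem hx0M) hx) hfix
                (mul_inv_eq_iff_eq_mul.mp e3) with e | e
              · simp [← inv_mul_eq_one.mp e]
              · simp [← eq_inv_mul_iff_mul_eq.mp e.symm]
          · push Not at hex
            exact ⟨1, fun x hx hxω => by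
              rcases hcentral x hx hxω (hex x hx hxω) with e | e <;> simp [e]⟩
        have hsub : (M : Set G) ⊆
            ({1, z, x0, x0 * z} : Set G) ∪ (fun x => a * x) '' {1, z, x0, x0 * z} := by
          intro e he
          rcases hsplit e he with e' | e'
          · exact Or.inl (hx0 e he e')
          · exact Or.inr ⟨_, hx0 _ (M.mul_mem (M.inv_mem haM) he) e', mul_inv_cancel_left a e⟩
        have h1 := Set.ncard_le_ncard hsub
        have h2 := Set.ncard_union_le ({1, z, x0, x0 * z} : Set G)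
          ((fun x => a * x) '' {1, z, x0, x0 * z})
        rw [Set.ncard_image_of_injective _ (mul_right_injective a)] at h2
        have h3 : ({1, z, x0, x0 * z} : Set G).ncard ≤ 4 := by
          refine (Set.ncard_insert_le _ _).trans (Nat.succ_le_succ ?_)
          refine (Set.ncard_insert_le _ _).trans (Nat.succ_le_succ ?_)
          exact (Set.ncard_insert_le _ _).trans (by simp)
        have h4 : (M : Set G).ncard = Nat.card M := rfl
        omega
      have e := c_comm hc hxω hx'ω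
      rw [conj_eq_mul_z h hx hx' hxx] at e
      have e' : x' * z * x'⁻¹ = z := mul_inv_eq_iff_eq_mul.mpr (h.comm x' hx')
      rwa [e'] at e
    have hcz' : ∀ x : G, (x = 1 ∨ x = z) → c x ω = 1 := by
      rintro x (rfl | rfl)
      · exact hc.one ω
      · exact hcz1
    refine hh_pow hc h2K (hsp y hy ((horb _).mp hyω))
      (fun _ => hK2 _ (hcz _ (h.sq_cases haM))) ?_ haa
    intro t ht ht1 ht2
    have htS : t ∈ S := by
      rcases ht with rfl | rfl
      · exact hy
      · exact S.mul_mem (S.inv_mem (hES haM)) hy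
    have hkE : t⁻¹ * (a⁻¹ * t * a) ∈ M := by
      have e : t⁻¹ * (a⁻¹ * t * a) = (t⁻¹ * a⁻¹ * t⁻¹⁻¹) * a := by group
      rw [e]; exact M.mul_mem (hMn _ (S.inv_mem htS) _ (M.inv_mem haM)) haM
    apply hK2
    rw [c_sq hc (hh_fix hc ht1 ht2).2]
    exact hcz' _ (h.sq_cases hkE)
  · -- the quad
    obtain ⟨b, hbE, hbM, hbb, hbu⟩ := exists_step hS hES hMlt hMn hSE
    have hbn : ∀ n ∈ M, b * n * b⁻¹ ∈ M := hMn b (hES hbE)
    have hbn' : ∀ n ∈ M, b⁻¹ * n * b ∈ M := fun n hn => by
      simpa using hMn b⁻¹ (S.inv_mem (hES hbE)) n hn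
    let L2 := ext2 M b hbn hbn' hbb
    have hL2n : ∀ u ∈ S, ∀ x ∈ L2, u * x * u⁻¹ ∈ L2 := fun u hu =>
      ext2_normalized (hMn u hu) (hbu u hu)
    have hbω : ¬ (b • ω = ω ∨ b • ω = a • ω) := by
      intro e
      have hmem : L2 ∈ P1 := ⟨hL1M.trans le_ext2, ext2_le hME hbE, hL2n, fun m hm => by
        rcases hm with hm | hm
        · exact hMω m hm
        · have e1 : m • ω = b • (b⁻¹ * m) • ω := by rw [← mul_smul, mul_inv_cancel_left]
          rw [e1]
          rcases hMω _ hm with e2 | e2 <;> rw [e2]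
          · exact e
          · rcases hsp b (hES hbE) e with ⟨p1, p2⟩ | ⟨p1, p2⟩
            · exact Or.inr p2
            · exact Or.inl p2⟩
      exact hbM (hMmax hmem le_ext2 self_mem_ext2)
    push Not at hbω
    have hbaω : b • a • ω ≠ ω ∧ b • a • ω ≠ a • ω := by
      have key : ¬ ((b * a) • ω = ω ∨ (b * a) • ω = a • ω) := by
        intro e
        rcases hsp _ (S.mul_mem (hES hbE) (hES haE)) e with ⟨-, p2⟩ | ⟨-, p2⟩
        · rw [mul_smul, haa] at p2; exact hbω.2 p2
        · rw [mul_smul, haa] at p2; exact hbω.1 p2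
      push Not at key
      rw [mul_smul] at key
      exact key
    have hset : orb L2 ω = {ω, a • ω, b • ω, b • a • ω} := by
      ext ξ
      rw [mem_orb]
      simp only [Finset.mem_insert, Finset.mem_singleton]
      constructor
      · rintro ⟨l, hl | hl, rfl⟩
        · rcases hMω l hl with e | e <;> simp [e]
        · have e1 : l • ω = b • (b⁻¹ * l) • ω := by rw [← mul_smul, mul_inv_cancel_left]
          rcases hMω _ hl with e | e <;> simp [e1, e]
      · rintro (rfl | rfl | rfl | rfl)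
        · exact ⟨1, L2.one_mem, one_smul _ _⟩
        · exact ⟨a, le_ext2 haM, rfl⟩
        · exact ⟨b, self_mem_ext2, rfl⟩
        · exact ⟨b * a, L2.mul_mem self_mem_ext2 (le_ext2 haM), mul_smul _ _ _⟩
    refine orbit_prod (d := fun g η => c g η ^ K) ((ext2_le hME hbE).trans hES : L2 ≤ S) hL2n
      (hc.pow K) ω ?_ hs
    intro y hy hyω
    have hinj : ω ≠ a • ω := Ne.symm hne
    rw [hset] at hyω ⊢
    rw [Finset.prod_insert (by simp [hinj, Ne.symm hbω.1, Ne.symm hbaω.1]),
      Finset.prod_insert (by simp [Ne.symm hbω.2, Ne.symm hbaω.2]),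
      Finset.prod_pair (fun e => hinj (MulAction.injective b e)), ← mul_assoc, ← mul_pow,
      ← mul_pow, ← mul_pow]
    have hMSP : ∀ m ∈ M, SP a ω m := fun m hm => hsp m (hES (hME hm)) (hMω m hm)
    have hMh : ∀ m ∈ M, hh c a ω m ^ K = 1 := fun m hm => hpair haE haa m (hME hm) (hMSP m hm)
    simp only [Finset.mem_insert, Finset.mem_singleton] at hyω
    obtain ⟨t, htS, htω, hyt⟩ : ∃ t ∈ S, (t • ω = ω ∨ t • ω = a • ω) ∧ (y = t ∨ y = b * t) := by
      rcases hyω with e | e | e | e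
      · exact ⟨y, hy, Or.inl e, Or.inl rfl⟩
      · exact ⟨y, hy, Or.inr e, Or.inl rfl⟩
      · exact ⟨b⁻¹ * y, S.mul_mem (S.inv_mem (hES hbE)) hy,
          Or.inl (by rw [mul_smul, e, inv_smul_smul]), Or.inr (mul_inv_cancel_left b y).symm⟩
      · exact ⟨b⁻¹ * y, S.mul_mem (S.inv_mem (hES hbE)) hy,
          Or.inr (by rw [mul_smul, e, inv_smul_smul]), Or.inr (mul_inv_cancel_left b y).symm⟩
    have hk : t⁻¹ * (b⁻¹ * t * b) ∈ M := by
      have h1 := hbu _ (S.inv_mem htS)
      have e2 : t⁻¹ * (b⁻¹ * t * b) = (b⁻¹ * (t⁻¹ * b * t⁻¹⁻¹))⁻¹ := by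
        group
      rw [e2]
      exact M.inv_mem h1
    exact gg_pow hc h2K hMSP hMh hbb (hsp t htS htω) hk hyt

end Main

/-- the transfer cocycle of `φ`. -/
noncomputable def tc {G : Type*} [Group G] {H : Subgroup G} {A : Type*} [CommGroup A] (φ : H →* A)
    (g : G) (ω : G ⧸ H) : A :=
  φ ⟨(g • ω).out⁻¹ * g * ω.out, by
    have h1 : ((g * ω.out : G) : G ⧸ H) = ((g • ω).out : G) := by
      rw [QuotientGroup.out_eq', ← smul_eq_mul, MulAction.Quotient.coe_smul_out]
    have := QuotientGroup.eq.mp h1.symm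
    rwa [mul_assoc]⟩

theorem tc_coc {G : Type*} [Group G] {H : Subgroup G} {A : Type*} [CommGroup A] (φ : H →* A) :
    IsCoc (tc φ) := by
  intro s t ω
  unfold tc
  rw [← map_mul]
  congr 1
  apply Subtype.ext
  simp only [Subgroup.coe_mul, mul_smul]
  group

/-- One step: the exponent of a `2`-power abelian quotient of `C(z)` can be halved. -/
theorem step {G : Type*} [Group G] [Finite G] {H E : Subgroup G} {z : G}
    (hres : Cfsg.pResidual 2 G = ⊤) (h : ES E z)
    (hH : ∀ x : G, x ∈ H ↔ Commute x z) (hHE : ∀ u ∈ H, ∀ x ∈ E, u * x * u⁻¹ ∈ E)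
    (hE2 : IsPGroup 2 E) (hcent : Subgroup.centralizer (E : Set G) ≤ E) (h8 : 8 < Nat.card E)
    {A : Type*} [CommGroup A] (φ : H →* A) (j : ℕ) (h2K : ∀ x : A, x ^ (2 * 2 ^ (j + 1)) = 1)
    (s : H) {i : ℕ} (hs : s ^ 2 ^ i = 1) : φ s ^ (2 ^ (j + 1)) = 1 := by
  classical
  haveI : Fintype (G ⧸ H) := Fintype.ofFinite _
  have hc := tc_coc φ
  let P : G →* A :=
    { toFun := fun g => ∏ ω, tc φ g ω
      map_one' := Finset.prod_eq_one fun ω _ => hc.one ω
      map_mul' := fun a b => by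
        simp only [hc a b, Finset.prod_mul_distrib]
        congr 1
        exact Equiv.prod_comp (MulAction.toPerm b) (fun ω => tc φ a ω) }
  have hP : ∀ g, P g = 1 := by
    have hle : Cfsg.pResidual 2 G ≤ P.ker := by
      refine (Subgroup.closure_le _).mpr fun g hg => ?_
      have h1 : orderOf (P g) ∣ 2 ^ (j + 2) := orderOf_dvd_of_pow_eq_one (by
        rw [pow_succ']; exact h2K _)
      exact orderOf_eq_one_iff.mp (Nat.eq_one_of_dvd_coprimes
        (Nat.Coprime.pow_right _ hg) (orderOf_map_dvd P g) h1)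
    intro g
    rw [hres] at hle
    exact hle (Subgroup.mem_top g)
  have hnorm : Subgroup.zpowers (s : G) ≤ Subgroup.normalizer (E : Set G) := by
    rw [Subgroup.zpowers_le, Subgroup.mem_normalizer_iff]
    intro x
    refine ⟨hHE s s.2 x, fun hx => ?_⟩
    have := hHE _ (H.inv_mem s.2) _ hx
    simpa [mul_assoc] using this
  have hsp : IsPGroup 2 (Subgroup.zpowers (s : G)) := by
    obtain ⟨k, -, hk⟩ := (Nat.dvd_prime_pow Nat.prime_two).mp (orderOf_dvd_of_pow_eq_one hs)
    exact IsPGroup.of_card (n := k) (by rw [Nat.card_zpowers, Subgroup.orderOf_coe, hk])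
  have hS : IsPGroup 2 (E ⊔ Subgroup.zpowers (s : G) : Subgroup G) :=
    hE2.to_sup_of_normal_left' hsp hnorm
  have hEH : E ≤ H := fun x hx => (hH x).mpr (h.comm x hx)
  have hSH : E ⊔ Subgroup.zpowers (s : G) ≤ H := sup_le hEH (Subgroup.zpowers_le.mpr s.2)
  have hbase : ∀ u ∈ E ⊔ Subgroup.zpowers (s : G), u • ((1 : G) : G ⧸ H) = ((1 : G) : G ⧸ H) := by
    intro u hu
    rw [MulAction.Quotient.smul_coe, smul_eq_mul, mul_one]
    exact QuotientGroup.eq.mpr (by simpa using H.inv_mem (hSH hu))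
  have hsum := sum_orbits (S := E ⊔ Subgroup.zpowers (s : G))
    (d := fun g ω => tc φ g ω ^ (2 ^ (j + 1))) ((1 : G) : G ⧸ H) (s : G) hbase ?_
  · rw [Finset.prod_pow] at hsum
    have h1 : ∏ ω, tc φ (s : G) ω = 1 := hP s
    rw [h1, one_pow] at hsum
    have hfix := hbase (s : G) (le_sup_right (a := E) (Subgroup.mem_zpowers _))
    have hr : ((1 : G) : G ⧸ H).out ∈ H := by
      have := QuotientGroup.eq.mp (QuotientGroup.out_eq' ((1 : G) : G ⧸ H)).symm
      simpa using this
    have e : tc φ (s : G) ((1 : G) : G ⧸ H) = φ s := by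
      unfold tc
      have : φ (⟨_, hr⟩⁻¹ * s * ⟨_, hr⟩) = φ s := by
        rw [map_mul, map_mul, map_inv, mul_comm, mul_inv_cancel_left]
      rw [← this]
      congr 1
      apply Subtype.ext
      simp only [hfix, Subgroup.coe_mul, Subgroup.coe_inv]
    rw [e] at hsum
    exact hsum.symm
  · intro ω hω
    rw [Finset.prod_pow]
    refine orbit_killed h h8 hS le_sup_left (fun u hu => (hH u).mp (hSH hu))
      (fun u hu => hHE u (hSH hu)) hc j h2K ω ?_ (le_sup_right (a := E) (Subgroup.mem_zpowers _))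
    by_contra hfix
    push Not at hfix
    apply hω
    induction ω using QuotientGroup.induction_on with
    | H x =>
      have hxz : x * z * x⁻¹ ∈ Subgroup.centralizer (E : Set G) := by
        rw [Subgroup.mem_centralizer_iff]
        intro e he
        have h1 := hfix e he
        rw [MulAction.Quotient.smul_coe, smul_eq_mul] at h1
        have h2 := (hH _).mp (QuotientGroup.eq.mp h1.symm)
        have h3 := h2.map (MulAut.conj x)
        simp [mul_assoc] at h3
        simpa [mul_assoc] using h3.eq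
      have hmem := hcent hxz
      rcases h.center _ hmem (fun p hp => Subgroup.mem_centralizer_iff.mp hxz p hp) with e | e
      · exact absurd (conj_eq_one_iff.mp e) h.ne
      · exact QuotientGroup.eq.mpr (by
          simpa using H.inv_mem ((hH x).mpr (mul_inv_eq_iff_eq_mul.mp e)))



/-- Let G be a finite group with no nontrivial 2-group quotient (O^2(G) = G), z an involution of G with H = C_G(z), and suppose E = O_2(H) is extraspecial with C_G(E) ≤ E. Then the Sylow 2-subgroups of H/[H, H] are elementary abelian: every element of 2-power order of the abelianization of H has order at most 2. -/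
theorem result {G : Type*} [Group G] [Finite G] (hres : Cfsg.pResidual 2 G = ⊤) (z : G) (hz : orderOf z = 2)
    (E : Subgroup G) (hE : E = (Cfsg.pCore 2 ↥(Subgroup.centralizer ({z} : Set G))).map (Subgroup.centralizer ({z} : Set G)).subtype)
    (hext : Cfsg.IsExtraspecial 2 ↥E) (hcent : Subgroup.centralizer (E : Set G) ≤ E) :
    ∀ q : Abelianization ↥(Subgroup.centralizer ({z} : Set G)), (∃ k : ℕ, orderOf q = 2 ^ k) → q ^ 2 = 1 := by
  classical
  obtain ⟨Q, hQ, hQz⟩ : ∃ Q : G → Subgroup G, IsQ Q ∧ Q z = E :=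
    ⟨fun x => (Cfsg.pCore 2 ↥(Subgroup.centralizer ({x} : Set G))).map
      (Subgroup.centralizer ({x} : Set G)).subtype, fun _ => rfl, hE.symm⟩
  have h : ES E z := hQz ▸ es_base hQ hz (hQz.symm ▸ hext)
  have hHE : ∀ u : G, Commute u z → ∀ x ∈ E, u * x * u⁻¹ ∈ E := by
    intro u hu x hx
    rw [← hQz] at hx ⊢
    exact hQ.normal hu hx
  obtain ⟨H, hHdef⟩ : ∃ H, H = Subgroup.centralizer ({z} : Set G) := ⟨_, rfl⟩
  rw [← hHdef]
  have hH : ∀ x : G, x ∈ H ↔ Commute x z := fun x => hHdef ▸ mem_centralizer_single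
  intro q hq
  obtain ⟨k, hk⟩ := hq
  obtain ⟨a, m, hm2, hcard⟩ :=
    Nat.exists_eq_two_pow_mul_odd (Nat.card_pos (α := Abelianization H)).ne'
  let φ : H →* Abelianization H := (powMonoidHom m).comp Abelianization.of
  have hφexp : ∀ x : H, φ x ^ (2 ^ a) = 1 := fun x => by
    show (Abelianization.of x ^ m) ^ (2 ^ a) = 1
    rw [← pow_mul, mul_comm, ← hcard, pow_card_eq_one']
  -- enough: `φ` has exponent two
  suffices hmain : ∀ x : H, φ x ^ 2 = 1 by
    obtain ⟨x, rfl⟩ := QuotientGroup.mk'_surjective _ q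
    have h1 : (Abelianization.of x ^ m) ^ 2 = 1 := hmain x
    rw [← pow_mul] at h1
    apply orderOf_dvd_iff_pow_eq_one.mp
    have h2 : orderOf (Abelianization.of x) ∣ m * 2 := orderOf_dvd_of_pow_eq_one h1
    have h3 : orderOf (Abelianization.of x) = 2 ^ k := hk
    show orderOf (Abelianization.of x) ∣ 2
    exact (Nat.Coprime.dvd_mul_left (by
      rw [h3]
      exact Nat.Coprime.pow_left k (Nat.coprime_two_left.mpr hm2))).mp h2
  -- reduction to elements of `2`-power order
  have hred : ∀ e : ℕ, 1 ≤ e → (∀ x : H, φ x ^ (2 * 2 ^ e) = 1) →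
      (∀ (s : H) (i : ℕ), s ^ 2 ^ i = 1 → φ s ^ (2 ^ e) = 1) → ∀ x : H, φ x ^ (2 ^ e) = 1 := by
    intro e _ hall h2 x
    obtain ⟨i, n, hn, hord⟩ := Nat.exists_eq_two_pow_mul_odd (orderOf_pos x).ne'
    have h1 : φ (x ^ n) ^ (2 ^ e) = 1 := h2 _ i (by
      rw [← pow_mul, mul_comm, ← hord, pow_orderOf_eq_one])
    rw [map_pow, ← pow_mul, mul_comm, pow_mul] at h1
    have hd2 : orderOf (φ x ^ 2 ^ e) ∣ 2 := orderOf_dvd_of_pow_eq_one (by
      rw [← pow_mul, mul_comm]; exact hall x)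
    exact orderOf_eq_one_iff.mp (Nat.eq_one_of_dvd_coprimes (Nat.coprime_two_left.mpr hn) hd2
      (orderOf_dvd_of_pow_eq_one h1))
  rcases Nat.lt_or_ge 8 (Nat.card E) with h8 | h8
  · -- transfer
    have hE2 : IsPGroup 2 E := hext.1.1
    suffices hall : ∀ e : ℕ, (∀ x : H, φ x ^ (2 ^ e) = 1) → ∀ x : H, φ x ^ 2 = 1 from hall a hφexp
    intro e
    induction e with
    | zero => intro he x; have h0 := he x; rw [pow_zero, pow_one] at h0; rw [h0, one_pow]
    | succ e ih =>
      intro he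
      rcases e with _ | j
      · simpa using he
      · refine ih ?_
        have hmul : ∀ x : H, φ x ^ (2 * 2 ^ (j + 1)) = 1 := fun x => by
          rw [← pow_succ']; exact he x
        refine hred (j + 1) (by omega) hmul fun s i hs => ?_
        have h2K : ∀ y : φ.range, y ^ (2 * 2 ^ (j + 1)) = 1 := by
          rintro ⟨y, x, rfl⟩
          exact Subtype.ext (hmul x)
        have := step hres h hH (fun u hu => hHE u ((hH u).mp hu)) hE2 hcent h8 φ.rangeRestrict j
          h2K s hs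
        exact congrArg Subtype.val this
  · -- `E` small
    obtain ⟨v, hv, hv1, hvz⟩ : ∃ v ∈ E, v ≠ 1 ∧ v ≠ z := by
      by_contra hno
      push Not at hno
      have hc : commutator E = ⊥ := by
        rw [commutator_def, Subgroup.commutator_eq_bot_iff_le_centralizer]
        intro x _
        rw [Subgroup.mem_centralizer_iff]
        intro y _
        apply Subtype.ext
        show (y : G) * x = x * y
        by_cases hy : (y : G) = 1
        · rw [hy]; simp
        · rw [hno _ y.2 hy]; exact ((h.comm _ x.2).eq).symm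
      have h2 := hext.2
      rw [← hext.1.2.2, hc, Subgroup.card_bot] at h2
      omega
    have hEH : ∀ x ∈ E, x ∈ H := fun x hx => (hH x).mpr (h.comm x hx)
    have hconj : ∀ (g : H) (x : G) (hx : x ∈ H) (y : G) (hy : y ∈ H),
        (g : G) * x * (g : G)⁻¹ = y → φ ⟨x, hx⟩ = φ ⟨y, hy⟩ := by
      intro g x hx y hy hxy
      have e : (⟨y, hy⟩ : H) = g * ⟨x, hx⟩ * g⁻¹ := Subtype.ext hxy.symm
      rw [e, map_mul, map_mul, map_inv, mul_comm, inv_mul_cancel_left]
    have hφz : φ ⟨z, hEH z h.mem⟩ = 1 := by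
      obtain ⟨w, hw, hwv⟩ := h.exists_conj_ne hv hv1 hvz
      have e := hconj ⟨w, hEH w hw⟩ v (hEH v hv) (v * z) (hEH _ (E.mul_mem hv h.mem)) hwv
      have e2 : (⟨v * z, hEH _ (E.mul_mem hv h.mem)⟩ : H) = ⟨v, hEH v hv⟩ * ⟨z, hEH z h.mem⟩ := rfl
      rw [e2, map_mul] at e
      exact left_eq_mul.mp e
    have hsq : ∀ (x : G) (hx : x ∈ E), φ ⟨x, hEH x hx⟩ ^ 2 = 1 := by
      intro x hx
      rw [sq, ← map_mul]
      rcases h.sq_cases hx with e | e
      · rw [show (⟨x, hEH x hx⟩ : H) * ⟨x, hEH x hx⟩ = 1 from Subtype.ext e, map_one]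
      · rw [show (⟨x, hEH x hx⟩ : H) * ⟨x, hEH x hx⟩ = ⟨z, hEH z h.mem⟩ from Subtype.ext e, hφz]
    intro x0
    obtain ⟨e0, he0⟩ : ∃ e : ℕ, ∀ x : H, φ x ^ (2 ^ e) = 1 := ⟨a, hφexp⟩
    suffices hS : ∀ (s : H) (i : ℕ), s ^ 2 ^ i = 1 → φ s ^ 2 = 1 by
      obtain ⟨i, n, hn, hord⟩ := Nat.exists_eq_two_pow_mul_odd (orderOf_pos x0).ne'
      have h1 : φ (x0 ^ n) ^ 2 = 1 := hS _ i (by
        rw [← pow_mul, mul_comm, ← hord, pow_orderOf_eq_one])
      rw [map_pow, ← pow_mul, mul_comm, pow_mul] at h1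
      have hd : orderOf (φ x0 ^ 2) ∣ 2 ^ e0 := orderOf_dvd_of_pow_eq_one (by
        rw [← pow_mul, mul_comm, pow_mul, he0, one_pow])
      exact orderOf_eq_one_iff.mp (Nat.eq_one_of_dvd_coprimes
        (Nat.Coprime.pow_left e0 (Nat.coprime_two_left.mpr hn)) hd (orderOf_dvd_of_pow_eq_one h1))
    intro s i hs
    have hsE : (s : G) * s ∈ E := sq_mem_small h h8 hcent ⟨v, hv, hv1, hvz⟩ ((hH _).mp s.2)
      (hHE _ ((hH _).mp s.2)) (i := i) (by
        have := congrArg Subtype.val hs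
        simpa using this)
    by_cases hall : ∀ g : H, (g : G) * g ∈ E
    · have hp : IsPGroup 2 ↥(Subgroup.centralizer ({z} : Set G)) := by
        rw [← hHdef]
        intro g
        obtain ⟨k, hk'⟩ := hext.1.1 ⟨_, hall g⟩
        refine ⟨k + 1, Subtype.ext ?_⟩
        have := congrArg Subtype.val hk'
        simpa [pow_succ', pow_mul, sq] using this
      have hsmem : (s : G) ∈ E := hQz ▸ hQ.eq_centralizer hp ((hH _).mp s.2)
      exact hsq s hsmem
    · push Not at hall
      obtain ⟨g, hg⟩ := hall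
      obtain ⟨hno, hnext⟩ := (small_dichotomy h h8 hcent ((hH _).mp g.2)
        (hHE _ ((hH _).mp g.2))).resolve_left hg
      have hkill : ∀ (x : G) (hx : x ∈ E), φ ⟨x, hEH x hx⟩ = 1 := by
        intro x hx
        by_cases hx1 : x = 1
        · rw [show (⟨x, hEH x hx⟩ : H) = 1 from Subtype.ext hx1, map_one]
        by_cases hxz : x = z
        · rw [show (⟨x, hEH x hx⟩ : H) = ⟨z, hEH z h.mem⟩ from Subtype.ext hxz, hφz]
        have hu := hHE _ ((hH _).mp g.2) x hx
        have hfu := hHE _ ((hH _).mp g.2) _ hu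
        have e1 := hconj g x (hEH x hx) _ (hEH _ hu) rfl
        have e2 := hconj g _ (hEH _ hu) _ (hEH _ hfu) rfl
        have e3 : φ ⟨(g : G) * x * (g : G)⁻¹, hEH _ hu⟩ * φ ⟨x, hEH x hx⟩ =
            φ ⟨(g : G) * ((g : G) * x * (g : G)⁻¹) * (g : G)⁻¹, hEH _ hfu⟩ := by
          rw [← map_mul]
          rcases hnext x hx hx1 hxz with e | e
          · exact congrArg φ (Subtype.ext e.symm)
          · rw [show (⟨(g : G) * ((g : G) * x * (g : G)⁻¹) * (g : G)⁻¹, hEH _ hfu⟩ : H) =
              ⟨(g : G) * x * (g : G)⁻¹, hEH _ hu⟩ * ⟨x, hEH x hx⟩ * ⟨z, hEH z h.mem⟩ from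
              Subtype.ext e, map_mul _ _ (⟨z, _⟩ : H), hφz, mul_one]
        rw [← e2] at e3
        exact mul_eq_left.mp e3
      rw [sq, ← map_mul]
      have := hkill _ hsE
      exact this

end Cfsg.Agent.S3301
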