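import Cfsg.Statements.S3305

set_option autoImplicit false
open Cfsg

namespace Cfsg.Agent.S3305

/-- If any two distinct Sylow 2-subgroups of the finite group G intersect in a cyclic group, then the same holds in every quotient group G/H, H a normal subgroup of G. -/
theorem result {G : Type*} [Group G] [Finite G]
    (hC : ∀ S T : Sylow 2 G, S ≠ T → IsCyclic ↥((S : Subgroup G) ⊓ (T : Subgroup G))) (H : Subgroup G) [H.Normal] :
    ∀ S T : Sylow 2 (G ⧸ H), S ≠ T → IsCyclic ↥((S : Subgroup (G ⧸ H)) ⊓ (T : Subgroup (G ⧸ H))) := by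
  intro S T hne
  have hπ : Function.Surjective (QuotientGroup.mk' H) := QuotientGroup.mk'_surjective H
  set π := QuotientGroup.mk' H
  obtain ⟨S₀, hS₀⟩ := Sylow.mapSurjective_surjective hπ 2 S
  obtain ⟨T₁, hT₁⟩ := Sylow.mapSurjective_surjective hπ 2 T
  have hS₀' : (S₀ : Subgroup G).map π = (S : Subgroup (G ⧸ H)) := by rw [← hS₀]; rfl
  have hT₁' : (T₁ : Subgroup G).map π = (T : Subgroup (G ⧸ H)) := by rw [← hT₁]; rfl
  set D₀ : Subgroup G := (S₀ : Subgroup G) ⊓ (T : Subgroup (G ⧸ H)).comap π with hD₀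
  have hD₀p : IsPGroup 2 ((D₀.subgroupOf ((T : Subgroup (G ⧸ H)).comap π))) :=
    IsPGroup.of_equiv (S₀.2.to_le inf_le_left)
      (Subgroup.subgroupOfEquivOfLe (inf_le_right : D₀ ≤ _)).symm
  obtain ⟨P, hP⟩ := hD₀p.exists_le_sylow
  set T' : Subgroup G := (P : Subgroup ↥((T : Subgroup (G ⧸ H)).comap π)).map (Subgroup.subtype _)
  have hT₁le : (T₁ : Subgroup G) ≤ (T : Subgroup (G ⧸ H)).comap π := Subgroup.map_le_iff_le_comap.1 hT₁'.le
  have hcard : Nat.card T' = Nat.card (T₁ : Subgroup G) := by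
    rw [Subgroup.card_map_of_injective (Subgroup.subtype_injective _)]
    let P₁ : Sylow 2 ↥((T : Subgroup (G ⧸ H)).comap π) := T₁.subtype hT₁le
    have h1 : Nat.card (P : Subgroup ↥((T : Subgroup (G ⧸ H)).comap π)) = Nat.card (P₁ : Subgroup ↥((T : Subgroup (G ⧸ H)).comap π)) := by
      rw [P.card_eq_multiplicity, P₁.card_eq_multiplicity]
    rw [h1]
    exact Nat.card_congr (Subgroup.subgroupOfEquivOfLe hT₁le).toEquiv
  let T₀ : Sylow 2 G := Sylow.ofCard T' (by rw [hcard, T₁.card_eq_multiplicity])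
  have hT₀le : (T₀ : Subgroup G).map π ≤ (T : Subgroup (G ⧸ H)) :=
    Subgroup.map_le_iff_le_comap.2 (Subgroup.map_subtype_le _)
  have hT₀eq : (T₀ : Subgroup G).map π = (T : Subgroup (G ⧸ H)) :=
    ((T₀.mapSurjective hπ).3 T.2 hT₀le).symm
  have hne0 : S₀ ≠ T₀ := by
    intro h
    exact hne (Sylow.ext (by rw [← hS₀', h, hT₀eq]))
  have hcyc := hC S₀ T₀ hne0
  have hD₀T : D₀ ≤ (T₀ : Subgroup G) := by
    intro d hd
    exact ⟨⟨d, hd.2⟩, hP (Subgroup.mem_subgroupOf.2 hd), rfl⟩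
  have hmap : (S : Subgroup (G ⧸ H)) ⊓ (T : Subgroup (G ⧸ H)) = ((S₀ : Subgroup G) ⊓ (T₀ : Subgroup G)).map π := by
    apply le_antisymm
    · rintro d ⟨hdS, hdT⟩
      rw [← hS₀'] at hdS
      obtain ⟨s, hs, rfl⟩ := hdS
      exact ⟨s, ⟨hs, hD₀T ⟨hs, hdT⟩⟩, rfl⟩
    · refine (Subgroup.map_inf_le _ _ _).trans ?_
      rw [hS₀', hT₀eq]
  rw [hmap]
  exact isCyclic_of_surjective (π.subgroupMap ((S₀ : Subgroup G) ⊓ (T₀ : Subgroup G)))
    (MonoidHom.subgroupMap_surjective _ _)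

end Cfsg.Agent.S3305
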