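import Cfsg.Statements.S3303
import Cfsg.Agent.Lib.SylowInter.Basic
import Cfsg.Agent.S3305

set_option autoImplicit false
open Cfsg

namespace Cfsg.Agent.S3303

/-- Let G be a finite solvable group in which the intersection of any two distinct Sylow 2-subgroups is cyclic. Then G/O(G) has a normal Sylow 2-subgroup, where O(G) is the largest normal subgroup of odd order. -/
theorem result {G : Type*} [Group G] [Finite G] (hs : Group.IsSolvable G)
    (hC : ∀ S T : Sylow 2 G, S ≠ T → IsCyclic ↥((S : Subgroup G) ⊓ (T : Subgroup G))) :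
    ∃ P : Sylow 2 (G ⧸ Cfsg.oddCore G), (P : Subgroup (G ⧸ Cfsg.oddCore G)).Normal := by
  haveI := hs
  haveI : Fact (Nat.Prime 2) := ⟨Nat.prime_two⟩
  obtain ⟨P⟩ : Nonempty (Sylow 2 (G ⧸ Cfsg.oddCore G)) := inferInstance
  by_cases hall : ∀ P' : Sylow 2 (G ⧸ Cfsg.oddCore G), P' = P
  · haveI : Subsingleton (Sylow 2 (G ⧸ Cfsg.oddCore G)) := ⟨fun a b => (hall a).trans (hall b).symm⟩
    exact ⟨P, inferInstance⟩
  · push_neg at hall
    obtain ⟨P', hP'⟩ := hall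
    have hcyc := S3305.result hC (Cfsg.oddCore G) P' P hP'
    set Q := Cfsg.pCore 2 (G ⧸ Cfsg.oddCore G) with hQdef
    have hQ : IsPGroup 2 ↥Q := Cfsg.Agent.Lib.Cores.pCore_isPGroup 2
    have hle : Q ≤ (P' : Subgroup (G ⧸ Cfsg.oddCore G)) ⊓ (P : Subgroup (G ⧸ Cfsg.oddCore G)) :=
      le_inf (Cfsg.Agent.Lib.Cores.pCore_le_sylow P') (Cfsg.Agent.Lib.Cores.pCore_le_sylow P)
    haveI : IsCyclic ↥Q :=
      isCyclic_of_injective (Subgroup.inclusion hle) (Subgroup.inclusion_injective hle)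
    have hcore : Cfsg.pPrimeCore 2 (G ⧸ Cfsg.oddCore G) = ⊥ :=
      Cfsg.Agent.Lib.Cores.pPrimeCore_quotient_pPrimeCore 2
    have hC' : IsPGroup 2 ↥(Subgroup.centralizer (Q : Set (G ⧸ Cfsg.oddCore G))) :=
      hQ.to_le (Cfsg.Agent.Lib.SylowInter.Basic.centralizer_pCore_le 2 hcore)
    have hG := Cfsg.Agent.Lib.SylowInter.Basic.isPGroup_of_aut Q hC'
      (Cfsg.Agent.Lib.SylowInter.Basic.isPGroup_mulAut_of_cyclic hQ)
    refine ⟨P, ?_⟩
    have : (P : Subgroup (G ⧸ Cfsg.oddCore G)) = ⊤ :=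
      (P.3 (hG.to_subgroup ⊤) le_top).symm
    rw [this]; infer_instance

end Cfsg.Agent.S3303
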