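import Cfsg.Statements.S3309
import Cfsg.Agent.S0076
import Cfsg.Agent.S0111

set_option autoImplicit false
open Cfsg

namespace Cfsg.Agent.S3309

set_option synthInstance.maxSize 2000
set_option synthInstance.maxHeartbeats 200000

abbrev M := Multiplicative (ZMod 2) × DihedralGroup 4

def cM : M := (Multiplicative.ofAdd 1, 1)
def zM : M := (1, DihedralGroup.r 2)

def NC (a : M) : Prop := ∃ b : M, a * b ≠ b * a

instance (a : M) : Decidable (NC a) := by unfold NC; infer_instance

/-- The homomorphisms to `ZMod 2` sending `cM` to `1`. -/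
def fZ (a b : ZMod 2) : M → ZMod 2
  | (e, DihedralGroup.r i) => Multiplicative.toAdd e + a * (i.val : ZMod 2)
  | (e, DihedralGroup.sr i) => Multiplicative.toAdd e + b + a * (i.val : ZMod 2)

theorem fZ_mul : ∀ a b : ZMod 2, ∀ u v : M, fZ a b (u * v) = fZ a b u + fZ a b v := by
  decide +kernel

theorem d_sq : ∀ a : M, a * a = 1 ∨ a * a = zM := by decide +kernel
theorem d_centre : ∀ a : M, ¬ NC a → a = 1 ∨ a = cM ∨ a = zM ∨ a = cM * zM := by decide +kernel
theorem d_comm : ∀ a b : M, a * b * a⁻¹ = b ∨ a * b * a⁻¹ = b * zM := by decide +kernel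
theorem d_nc : ∀ a : M, NC a → ∃ b : M, b * a * b⁻¹ = a * zM := by decide +kernel
theorem d_cent : ∀ x y : M, NC x → y * x = x * y →
    y = 1 ∨ y = cM ∨ y = zM ∨ y = cM * zM ∨ y = x ∨ y = x * zM ∨ y = x * cM ∨
      y = x * cM * zM := by decide +kernel
theorem d_card : ∀ x : M, NC x → Fintype.card {y : M // y * x = x * y} = 8 := by decide +kernel
theorem d_f : ∀ x y : M, x * x = 1 → y * y = 1 → NC x → NC y → (y = x ∨ x * y ≠ y * x) →
    ∃ a b : ZMod 2, fZ a b cM = 1 ∧ fZ a b x = 1 ∧ fZ a b y = 1 ∧ fZ a b (x * zM) = 1 ∧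
      fZ a b (y * zM) = 1 := by decide +kernel
theorem d_two : ∀ x y w : M, x * x = 1 → y * y = 1 → w * w = 1 → NC x → NC y → NC w →
    x * y ≠ y * x → w * x = x * w ∨ w * y = y * w := by decide +kernel

section

variable {G : Type*} [Group G] [Finite G] (ψ : M →* G) (hψ : Function.Injective ψ)
  (hcz : ¬ IsConj (ψ cM) (ψ zM)) (hcc : ¬ IsConj (ψ cM) (ψ (cM * zM)))
  (hzc : ¬ IsConj (ψ zM) (ψ (cM * zM)))

omit [Finite G] in
theorem four (hn : ∀ (g : G) (a : M), NC a → IsConj g (ψ a) → IsConj g (ψ (a * zM)))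
    (x y : M) (hx : NC x) (hyc : IsConj (ψ cM) (ψ y)) (hxc : IsConj (ψ cM) (ψ x))
    (hy : NC y) (hcomm : y * x = x * y) (hy1 : y ≠ x) (hy2 : y ≠ x * zM) :
    ∀ w : M, NC w → w * x = x * w → IsConj (ψ cM) (ψ w) := by
  intro w hw hwx
  have hxz : IsConj (ψ cM) (ψ (x * zM)) := hn _ x hx hxc
  have hyz : IsConj (ψ cM) (ψ (y * zM)) := hn _ y hy hyc
  have key : ∀ v : M, NC v → v * x = x * v → v = x ∨ v = x * zM ∨ v = x * cM ∨
      v = x * cM * zM := by
    intro v hv hvx
    rcases d_cent x v hx hvx with h | h | h | h | h | h | h | h <;>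
      first
        | (subst h; exact absurd hv (by decide +kernel))
        | tauto
  have hzz : zM * zM = 1 := by decide +kernel
  rcases key y hy hcomm with h | h | h | h
  · exact absurd h hy1
  · exact absurd h hy2
  · rw [h] at hyc hyz
    rcases key w hw hwx with e | e | e | e <;> rw [e] <;> assumption
  · rw [h] at hyc hyz
    rw [mul_assoc (x * cM) zM zM, hzz, mul_one] at hyz
    rcases key w hw hwx with e | e | e | e <;> rw [e] <;> assumption

include hψ hcz hcc hzc in
theorem comm_conj (S : Sylow 2 G) (hS : (S : Subgroup G) = ψ.range)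
    (x y : M) (hx : NC x) (hy : NC y) (hxc : IsConj (ψ cM) (ψ x)) (hyc : IsConj (ψ cM) (ψ y))
    (hcomm : y * x = x * y) : y = x ∨ y = x * zM := by
  by_contra hcon
  push Not at hcon
  have hn : ∀ (g : G) (a : M), NC a → IsConj g (ψ a) → IsConj g (ψ (a * zM)) := by
    intro g a ha hga
    obtain ⟨b, hb⟩ := d_nc a ha
    refine hga.trans (isConj_iff.2 ⟨ψ b, ?_⟩)
    rw [← map_inv, ← map_mul, ← map_mul, hb]
  have hall := four ψ hn x y hx hyc hxc hy hcomm hcon.1 hcon.2
  obtain ⟨h, hh⟩ := isConj_iff.1 hxc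
  let H : Subgroup G := Subgroup.centralizer {ψ x}
  have hxmem : ∀ v : G, v ∈ H ↔ v * ψ x = ψ x * v := by
    intro v
    exact Subgroup.mem_centralizer_singleton_iff
  -- the conjugate of `S` centralizing `ψ x`
  have hle : ((h • S : Sylow 2 G) : Subgroup G) ≤ H := by
    intro v hv
    rw [Sylow.coe_subgroup_smul, Subgroup.mem_pointwise_smul_iff_inv_smul_mem] at hv
    rw [hS] at hv
    obtain ⟨a, ha⟩ := hv
    have hca : a * cM = cM * a := (by decide +kernel : ∀ a : M, a * cM = cM * a) a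
    have hv' : v = h * ψ a * h⁻¹ := by
      rw [ha]
      simp [mul_assoc]
    rw [hxmem, hv', ← hh]
    calc h * ψ a * h⁻¹ * (h * ψ cM * h⁻¹) = h * (ψ a * ψ cM) * h⁻¹ := by group
      _ = h * (ψ cM * ψ a) * h⁻¹ := by rw [← map_mul, hca, map_mul]
      _ = _ := by group
  let E : Subgroup M := Subgroup.centralizer {x}
  have hEH : E.map ψ ≤ H := by
    rintro v ⟨e, he, rfl⟩
    rw [hxmem, ← map_mul, ← map_mul, Subgroup.mem_centralizer_singleton_iff.1 he]
  have hEp : IsPGroup 2 (E.map ψ) :=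
    S.isPGroup'.to_le (by rw [hS]; exact Subgroup.map_le_range ψ E)
  obtain ⟨Q, hQ⟩ := (hEp.comap_of_injective H.subtype H.subtype_injective).exists_le_sylow
  obtain ⟨k, hk⟩ := MulAction.exists_smul_eq H ((h • S : Sylow 2 G).subtype hle) Q
  let h' : G := (k : G) * h
  let θ : M →* G := (MulAut.conj h').toMonoidHom.comp ψ
  have hθ : ∀ a, θ a = h' * ψ a * h'⁻¹ := fun a => rfl
  have hθi : Function.Injective θ := (MulAut.conj h').injective.comp hψ
  have hEθ : E.map ψ ≤ θ.range := by
    intro v hv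
    have hvH := hEH hv
    have : (⟨v, hvH⟩ : H) ∈ Q := hQ hv
    rw [← hk] at this
    change _ ∈ ((k • (h • S : Sylow 2 G).subtype hle : Sylow 2 H) : Subgroup H) at this
    have h1 : (k⁻¹ * ⟨v, hvH⟩ * k : H) ∈ ((h • S : Sylow 2 G) : Subgroup G).subgroupOf H := by
      rw [Sylow.coe_subgroup_smul,
        Subgroup.mem_pointwise_smul_iff_inv_smul_mem] at this
      simpa [MulAut.conj_apply] using this
    have h2 : ((k⁻¹ * ⟨v, hvH⟩ * k : H) : G) ∈ ((h • S : Sylow 2 G) : Subgroup G) := h1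
    rw [Sylow.coe_subgroup_smul, Subgroup.mem_pointwise_smul_iff_inv_smul_mem, hS] at h2
    obtain ⟨a, ha⟩ := h2
    refine ⟨a, ?_⟩
    rw [hθ, ha]
    simp only [MulAut.smul_def, MulAut.conj_inv_apply, Subgroup.coe_mul, Subgroup.coe_inv, h']
    group
  have hcardE : Nat.card E = 8 := by
    rw [← d_card x hx, ← Nat.card_eq_fintype_card]
    exact Nat.card_congr (Equiv.subtypeEquivRight fun a =>
      Subgroup.mem_centralizer_singleton_iff)
  let K : Subgroup M := (E.map ψ).comap θ
  have hKmap : K.map θ = E.map ψ := Subgroup.map_comap_eq_self hEθ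
  have hcardK : Nat.card K = 8 := by
    rw [Nat.card_congr (K.equivMapOfInjective θ hθi).toEquiv, hKmap,
      ← Nat.card_congr (E.equivMapOfInjective ψ hψ).toEquiv, hcardE]
  have hKi : K.index = 2 := by
    have h16 := K.index_mul_card
    have hM : Nat.card M = 16 := by rw [Nat.card_eq_fintype_card]; decide +kernel
    rw [hcardK, hM] at h16
    omega
  have hzK : zM ∈ K := by
    have := Subgroup.sq_mem_of_index_two hKi ((1, DihedralGroup.r 1) : M)
    rwa [show ((1, DihedralGroup.r 1) : M) ^ 2 = zM from by decide +kernel] at this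
  have hcE : ψ cM ∈ E.map ψ := ⟨cM, Subgroup.mem_centralizer_singleton_iff.2
    ((by decide +kernel : ∀ a : M, cM * a = a * cM) x), rfl⟩
  obtain ⟨k0, hk0⟩ := hEθ hcE
  have hθc : θ cM = ψ x := by
    rw [hθ]
    have hkc : (k : G) * ψ x = ψ x * k := (hxmem _).1 k.2
    calc h' * ψ cM * h'⁻¹ = (k : G) * (h * ψ cM * h⁻¹) * (k : G)⁻¹ := by simp only [h']; group
      _ = ψ x := by rw [hh, hkc, mul_inv_cancel_right]
  have hθconj : ∀ a, IsConj (ψ a) (θ a) := fun a => isConj_iff.2 ⟨h', (hθ a).symm⟩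
  have hk0nc : NC k0 := by
    by_contra hk0nc
    rcases d_centre k0 hk0nc with e | e | e | e <;> rw [e] at hk0
    · rw [map_one, ← map_one ψ] at hk0
      exact absurd (hψ hk0) (by decide +kernel)
    · rw [hθc] at hk0
      exact absurd hx (by rw [hψ hk0]; decide +kernel)
    · exact hcz (IsConj.symm (hk0 ▸ hθconj zM))
    · exact hcc (IsConj.symm (hk0 ▸ hθconj (cM * zM)))
  obtain ⟨b, hb⟩ := d_nc k0 hk0nc
  obtain ⟨e, he, hez⟩ := (Subgroup.mem_comap.1 hzK : θ zM ∈ E.map ψ)
  have hzconj : IsConj (ψ zM) (ψ e) := hez ▸ hθconj zM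
  have hgc : θ b * ψ cM * (θ b)⁻¹ = ψ cM * ψ e := by
    rw [← hk0, ← map_inv, ← map_mul, ← map_mul, hb, map_mul, hez]
  by_cases henc : NC e
  · exact hcz ((hall e henc (Subgroup.mem_centralizer_singleton_iff.1 he)).trans hzconj.symm)
  rcases d_centre e henc with r | r | r | r <;> rw [r] at hzconj hgc
  · rw [map_one] at hzconj
    have h1 := isConj_one_left.1 hzconj
    rw [← map_one ψ] at h1
    exact absurd (hψ h1) (by decide +kernel)
  · exact hcz hzconj.symm
  · rw [← map_mul] at hgc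
    exact hcc (isConj_iff.2 ⟨_, hgc⟩)
  · exact hzc hzconj

end

/-- No non-abelian finite simple group has Sylow 2-subgroups isomorphic to Z2 × D8. -/
theorem result {G : Type*} [Group G] [Finite G] (S : Sylow 2 G)
    (hS : Nonempty (↥(S : Subgroup G) ≃* Multiplicative (ZMod 2) × DihedralGroup 4))
    [IsSimpleGroup G] (hG : ¬ IsMulCommutative G) : False := by
  obtain ⟨φ⟩ := hS
  let ψ : M →* G := (S : Subgroup G).subtype.comp φ.symm.toMonoidHom
  have hψ : Function.Injective ψ := Subtype.val_injective.comp φ.symm.injective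
  have hSr : (S : Subgroup G) = ψ.range := by
    ext v
    constructor
    · intro hv
      exact ⟨φ ⟨v, hv⟩, by simp [ψ]⟩
    · rintro ⟨a, rfl⟩
      exact (φ.symm a).2
  have hmemS : ∀ a, ψ a ∈ (S : Subgroup G) := fun a => (φ.symm a).2
  -- action of the normalizer
  have hN : ∀ n ∈ Subgroup.normalizer (S : Set G),
      n * ψ zM * n⁻¹ = ψ zM ∧ n * ψ cM * n⁻¹ = ψ cM := by
    have hstep : ∀ n ∈ Subgroup.normalizer (S : Set G), ∀ a, ∃ a', n * ψ a * n⁻¹ = ψ a' := by
      intro n hn a
      have : n * ψ a * n⁻¹ ∈ (S : Subgroup G) := (Subgroup.mem_normalizer_iff.1 hn (ψ a)).1 (hmemS a)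
      rw [hSr] at this
      obtain ⟨a', ha'⟩ := this
      exact ⟨a', ha'.symm⟩
    have hz : ∀ n ∈ Subgroup.normalizer (S : Set G), n * ψ zM * n⁻¹ = ψ zM := by
      intro n hn
      obtain ⟨a, ha⟩ := hstep n hn (1, DihedralGroup.r 1)
      have hsq : n * ψ zM * n⁻¹ = ψ (a * a) := by
        rw [map_mul, ← ha, show zM = ((1, DihedralGroup.r 1) : M) * (1, DihedralGroup.r 1)
          from by decide +kernel, map_mul]
        group
      rcases d_sq a with e | e <;> rw [e] at hsq
      · rw [map_one, conj_eq_one_iff, ← map_one ψ] at hsq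
        exact absurd (hψ hsq) (by decide +kernel)
      · exact hsq
    have hc : ∀ n ∈ Subgroup.normalizer (S : Set G),
        n * ψ cM * n⁻¹ = ψ cM ∨ n * ψ cM * n⁻¹ = ψ (cM * zM) := by
      intro n hn
      obtain ⟨a, ha⟩ := hstep n hn cM
      have hcen : ¬ NC a := by
        rintro ⟨b, hb⟩
        apply hb
        apply hψ
        obtain ⟨b', hb'⟩ := hstep n⁻¹ (inv_mem hn) b
        have hb'' : ψ b = n * ψ b' * n⁻¹ := by rw [← hb']; group
        rw [map_mul, map_mul, ← ha, hb'']
        have : ψ cM * ψ b' = ψ b' * ψ cM := by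
          rw [← map_mul, ← map_mul, (by decide +kernel : ∀ v : M, cM * v = v * cM) b']
        calc n * ψ cM * n⁻¹ * (n * ψ b' * n⁻¹) = n * (ψ cM * ψ b') * n⁻¹ := by group
          _ = n * (ψ b' * ψ cM) * n⁻¹ := by rw [this]
          _ = _ := by group
      rcases d_centre a hcen with e | e | e | e <;> rw [e] at ha
      · rw [map_one, conj_eq_one_iff, ← map_one ψ] at ha
        exact absurd (hψ ha) (by decide +kernel)
      · exact Or.inl ha
      · rw [← hz n hn] at ha
        have := hψ (mul_left_cancel (mul_right_cancel ha))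
        exact absurd this (by decide +kernel)
      · exact Or.inr ha
    intro n hn
    refine ⟨hz n hn, ?_⟩
    rcases hc n hn with h | h
    · exact h
    exfalso
    obtain ⟨e, m, hm, hem⟩ := Nat.exists_eq_pow_mul_and_not_dvd (orderOf_pos n).ne' 2 (by norm_num)
    have hp : IsPGroup 2 (Subgroup.zpowers (n ^ m)) := by
      refine IsPGroup.of_card (n := e) ?_
      rw [Nat.card_zpowers, orderOf_pow_of_dvd ?_ (Dvd.intro_left _ hem.symm), hem,
        Nat.mul_div_cancel _ (Nat.pos_of_ne_zero ?_)]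
      · rintro rfl; exact hm (dvd_zero 2)
      · rintro rfl; exact hm (dvd_zero 2)
    have hle : Subgroup.zpowers (n ^ m) ≤ Subgroup.normalizer (S : Set G) := by
      rw [Subgroup.zpowers_le]; exact pow_mem hn m
    have hsup := S.is_maximal' (IsPGroup.to_sup_of_normal_right' hp S.isPGroup' hle) le_sup_right
    have hmem : n ^ m ∈ (S : Subgroup G) := by
      rw [← hsup]; exact le_sup_left (a := Subgroup.zpowers (n ^ m)) (Subgroup.mem_zpowers _)
    rw [hSr] at hmem
    obtain ⟨a, ha⟩ := hmem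
    have hfix : n ^ m * ψ cM * (n ^ m)⁻¹ = ψ cM := by
      rw [← ha, ← map_inv, ← map_mul, ← map_mul]
      exact congrArg ψ ((by decide +kernel : ∀ v : M, v * cM * v⁻¹ = cM) a)
    have hnz := hz n hn
    have hcz' : n * ψ (cM * zM) * n⁻¹ = ψ cM := by
      calc n * ψ (cM * zM) * n⁻¹ = (n * ψ cM * n⁻¹) * (n * ψ zM * n⁻¹) := by
            rw [map_mul]; group
        _ = ψ (cM * zM * zM) := by rw [h, hnz, ← map_mul]
        _ = ψ cM := by rw [show cM * zM * zM = cM from by decide +kernel]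
    have hpar : ∀ j : ℕ, (n ^ (2 * j) * ψ cM * (n ^ (2 * j))⁻¹ = ψ cM) := by
      intro j
      induction j with
      | zero => simp
      | succ j ih =>
        calc n ^ (2 * (j + 1)) * ψ cM * (n ^ (2 * (j + 1)))⁻¹
            = n * (n * (n ^ (2 * j) * ψ cM * (n ^ (2 * j))⁻¹) * n⁻¹) * n⁻¹ := by
              rw [show 2 * (j + 1) = 2 * j + 1 + 1 from by ring, pow_succ', pow_succ']; group
          _ = ψ cM := by rw [ih, h, hcz']
    obtain ⟨j, rfl⟩ : ∃ j, m = 2 * j + 1 := ⟨m / 2, by omega⟩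
    rw [pow_succ'] at hfix
    have : n * (n ^ (2 * j) * ψ cM * (n ^ (2 * j))⁻¹) * n⁻¹ = ψ cM :=
      Eq.trans (by group) hfix
    rw [hpar, h] at this
    exact absurd (hψ this) (by decide +kernel)
  -- no fusion in the centre
  have hfus : ∀ a b : M, (∀ v, v * a * v⁻¹ = a) → (∀ v, v * b * v⁻¹ = b) →
      IsConj (ψ a) (ψ b) → ∃ n ∈ Subgroup.normalizer (S : Set G), n * ψ a * n⁻¹ = ψ b := by
    intro a b ha hb hab
    obtain ⟨g, hg⟩ := isConj_iff.1 hab
    have hinv : ∀ u : M, (∀ v, v * u * v⁻¹ = u) → ∀ s ∈ S,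
        (fun y => s * y * s⁻¹) '' ({ψ u} : Set G) = {ψ u} := by
      intro u hu s hs
      have hs' : s ∈ (S : Subgroup G) := hs
      rw [hSr] at hs'
      obtain ⟨v, rfl⟩ := hs'
      rw [Set.image_singleton, ← map_inv, ← map_mul, ← map_mul, hu v]
    obtain ⟨n, hn, he⟩ := Cfsg.Agent.S0076.result S {ψ a} {ψ b}
      (Set.singleton_subset_iff.2 (hmemS a)) (Set.singleton_subset_iff.2 (hmemS b))
      (hinv a ha) (hinv b hb) g (by rw [Set.image_singleton, hg])
    rw [Set.image_singleton, Set.singleton_eq_singleton_iff] at he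
    exact ⟨n, hn, he⟩
  have hdc : ∀ v : M, v * cM * v⁻¹ = cM := by decide +kernel
  have hdz : ∀ v : M, v * zM * v⁻¹ = zM := by decide +kernel
  have hdcz : ∀ v : M, v * (cM * zM) * v⁻¹ = cM * zM := by decide +kernel
  have hcz : ¬ IsConj (ψ cM) (ψ zM) := by
    intro h
    obtain ⟨n, hn, he⟩ := hfus _ _ hdc hdz h
    rw [(hN n hn).2] at he
    exact absurd (hψ he) (by decide +kernel)
  have hcc : ¬ IsConj (ψ cM) (ψ (cM * zM)) := by
    intro h
    obtain ⟨n, hn, he⟩ := hfus _ _ hdc hdcz h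
    rw [(hN n hn).2] at he
    exact absurd (hψ he) (by decide +kernel)
  have hzc : ¬ IsConj (ψ zM) (ψ (cM * zM)) := by
    intro h
    obtain ⟨n, hn, he⟩ := hfus _ _ hdz hdcz h
    rw [(hN n hn).1] at he
    exact absurd (hψ he) (by decide +kernel)
  have hsq : ∀ w : M, IsConj (ψ cM) (ψ w) → w * w = 1 := by
    intro w hw
    obtain ⟨g, hg⟩ := isConj_iff.1 hw
    apply hψ
    rw [map_mul, ← hg]
    calc g * ψ cM * g⁻¹ * (g * ψ cM * g⁻¹) = g * (ψ cM * ψ cM) * g⁻¹ := by group
      _ = _ := by rw [← map_mul, show cM * cM = 1 from by decide +kernel, map_one]; simp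
  have hcent : ∀ w : M, IsConj (ψ cM) (ψ w) → ¬ NC w → w = cM := by
    intro w hw hnc
    rcases d_centre w hnc with e | e | e | e <;> rw [e] at hw ⊢
    · rw [map_one, isConj_one_left, ← map_one ψ] at hw
      exact absurd (hψ hw) (by decide +kernel)
    · exact absurd hw hcz
    · exact absurd hw hcc
  -- a homomorphism equal to one on the conjugates of `c`
  obtain ⟨a, b, hfc, hfW⟩ : ∃ a b : ZMod 2, fZ a b cM = 1 ∧
      ∀ w : M, IsConj (ψ cM) (ψ w) → fZ a b w = 1 := by
    by_cases hW : ∃ x, NC x ∧ IsConj (ψ cM) (ψ x)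
    · obtain ⟨x, hx, hxc⟩ := hW
      have hcl := comm_conj ψ hψ hcz hcc hzc S hSr
      by_cases hY : ∃ y, NC y ∧ IsConj (ψ cM) (ψ y) ∧ x * y ≠ y * x
      · obtain ⟨y, hy, hyc, hxy⟩ := hY
        obtain ⟨a, b, h1, h2, h3, h4, h5⟩ := d_f x y (hsq x hxc) (hsq y hyc) hx hy (Or.inr hxy)
        refine ⟨a, b, h1, fun w hw => ?_⟩
        by_cases hwn : NC w
        · rcases d_two x y w (hsq x hxc) (hsq y hyc) (hsq w hw) hx hy hwn hxy with e | e
          · rcases hcl x w hx hwn hxc hw e with r | r <;> rw [r] <;> assumption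
          · rcases hcl y w hy hwn hyc hw e with r | r <;> rw [r] <;> assumption
        · rw [hcent w hw hwn]; exact h1
      · push Not at hY
        obtain ⟨a, b, h1, h2, h3, h4, h5⟩ := d_f x x (hsq x hxc) (hsq x hxc) hx hx (Or.inl rfl)
        refine ⟨a, b, h1, fun w hw => ?_⟩
        by_cases hwn : NC w
        · rcases hcl x w hx hwn hxc hw (hY w hwn hw).symm with r | r <;> rw [r] <;> assumption
        · rw [hcent w hw hwn]; exact h1
    · push Not at hW
      refine ⟨0, 0, by decide +kernel, fun w hw => ?_⟩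
      rw [hcent w hw (fun hn => hW w hn hw)]
      decide +kernel
  let f : M →* Multiplicative (ZMod 2) :=
    MonoidHom.mk' (fun v => Multiplicative.ofAdd (fZ a b v))
      (fun u v => by rw [fZ_mul, ofAdd_add])
  have hfker : ∀ v, v ∈ f.ker ↔ fZ a b v = 0 := fun v => by
    rw [MonoidHom.mem_ker]; exact ofAdd_eq_one
  have hki : f.ker.index = 2 := by
    rw [Subgroup.index_ker]
    have hsurj : f.range = ⊤ := by
      rw [MonoidHom.range_eq_top]
      intro t
      rcases (by decide +kernel : ∀ t : Multiplicative (ZMod 2),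
        t = 1 ∨ t = Multiplicative.ofAdd 1) t with e | e
      · exact ⟨1, by rw [map_one, e]⟩
      · exact ⟨cM, by rw [e]; exact congrArg Multiplicative.ofAdd hfc⟩
    rw [hsurj, Subgroup.card_top, Nat.card_eq_fintype_card]
    decide +kernel
  have hQi : (f.ker.map ψ).relIndex (S : Subgroup G) = 2 := by
    rw [hSr, MonoidHom.range_eq_map, Subgroup.relIndex_map_map_of_injective _ _ hψ,
      Subgroup.relIndex_top_right, hki]
  have hord : orderOf (ψ cM) = 2 := by
    rw [orderOf_injective ψ hψ]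
    exact orderOf_eq_prime (by decide +kernel) (by decide +kernel)
  have hnot : ψ cM ∉ f.ker.map ψ := by
    rintro ⟨v, hv, he⟩
    rw [hψ he] at hv
    have := (hfker _).1 hv
    rw [hfc] at this
    exact absurd this (by decide +kernel)
  rcases Cfsg.Agent.S0111.result S (f.ker.map ψ) (by rw [hSr]; exact Subgroup.map_le_range ψ _)
    hQi (ψ cM) hord (hmemS cM) hnot with ⟨Mn, hMn, hMi, -⟩ | ⟨g, v, hv, he⟩
  · rcases hMn.eq_bot_or_eq_top with e | e
    · subst e
      rw [Subgroup.index_bot] at hMi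
      have h16 : 16 ≤ Nat.card G := by
        have := Nat.card_le_card_of_injective ψ hψ
        rwa [show Nat.card M = 16 from by rw [Nat.card_eq_fintype_card]; decide +kernel] at this
      omega
    · subst e
      rw [Subgroup.index_top] at hMi
      omega
  · have := (hfker v).1 hv
    rw [hfW v (isConj_iff.2 ⟨g, he.symm⟩)] at this
    exact absurd this (by decide +kernel)

end Cfsg.Agent.S3309
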