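import Cfsg.Statements.S3312
import Mathlib
import Cfsg.Agent.Lib.ZStar.UniqueCase

set_option autoImplicit false
open Cfsg

namespace Cfsg.Agent.S3312

open Cfsg.Agent.Lib
open Cfsg.Agent.Lib.Involutions.Basic
open Cfsg.Agent.Lib.Characters.Basic

universe u

variable {G : Type u} [Group G] [Finite G]

/-- `O(C(x))`, inside `G`. -/
abbrev core (x : G) : Subgroup G := Cfsg.centralizerPPrimeCore 2 x

/-- `O_{2',2}(C(x))`, inside `G`. -/
abbrev core2 (x : G) : Subgroup G :=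
  (Cfsg.pPrimePCore 2 ↥(Subgroup.centralizer ({x} : Set G))).map
    (Subgroup.centralizer ({x} : Set G)).subtype

/-- The hypotheses: `W` is central in the Sylow subgroup `T` and weakly closed, and lies in
`O_{2',2}(C(x))` for all `x` in `X`. -/
structure Setup (T : Sylow 2 G) (W : Subgroup G) (t : G) : Prop where
  le : W ≤ (T : Subgroup G)
  central : ∀ w ∈ W, ∀ s ∈ (T : Subgroup G), w * s = s * w
  wc : ∀ g : G, W.map (MulAut.conj g).toMonoidHom ≤ (T : Subgroup G) →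
    W.map (MulAut.conj g).toMonoidHom = W
  ht : orderOf t = 2
  htT : t ∈ (T : Subgroup G)
  htW : t ∉ W
  cos : ∀ w ∈ W, orderOf (w * t) = 2 → W ≤ core2 (w * t)

omit [Finite G] in
theorem core_le_centralizer (x : G) : core x ≤ Subgroup.centralizer ({x} : Set G) :=
  Subgroup.map_subtype_le _

omit [Finite G] in
theorem mem_core_comm {x c : G} (hc : c ∈ core x) : c * x = x * c :=
  Subgroup.mem_centralizer_singleton_iff.1 (core_le_centralizer x hc)

theorem core_coprime (x : G) : (Nat.card (core x)).Coprime 2 := by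
  unfold core Cfsg.centralizerPPrimeCore
  rw [Subgroup.card_map_of_injective (Subgroup.subtype_injective _)]
  exact Cores.pPrimeCore_coprime 2

theorem core_odd (x : G) {c : G} (hc : c ∈ core x) : Odd (orderOf c) := by
  refine (Nat.coprime_two_right.1 ((core_coprime x).coprime_dvd_left ?_))
  rw [← Subgroup.orderOf_mk c hc]
  exact orderOf_dvd_natCard _

theorem eq_one_of_two_of_odd {w : G} {k : ℕ} (h : w ^ 2 ^ k = 1) (hodd : Odd (orderOf w)) : w = 1 :=
  orderOf_eq_one_iff.1 (Nat.eq_one_of_dvd_coprimes ((Nat.coprime_two_right.2 hodd).pow_right k)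
    dvd_rfl (orderOf_dvd_of_pow_eq_one h))

theorem core_conj {x n c : G} (hn : n * x = x * n) (hc : c ∈ core x) : n * c * n⁻¹ ∈ core x := by
  obtain ⟨c', hc', rfl⟩ := hc
  refine ⟨⟨n, Subgroup.mem_centralizer_singleton_iff.2 hn⟩ * c' * ⟨n, Subgroup.mem_centralizer_singleton_iff.2 hn⟩⁻¹,
    (inferInstance : (Cfsg.pPrimeCore 2 ↥(Subgroup.centralizer ({x} : Set G))).Normal).conj_mem c' hc' _, rfl⟩

theorem core_conj' {x n c : G} (hn : n * x = x * n) (hc : c ∈ core x) : n⁻¹ * c * n ∈ core x := by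
  simpa using core_conj (n := n⁻¹) ((Commute.inv_left hn : Commute n⁻¹ x)) hc

theorem mem_core_conj {x k c : G} (hc : c ∈ core x) : k * c * k⁻¹ ∈ core (k * x * k⁻¹) := by
  obtain ⟨c', hc', rfl⟩ := hc
  let C := Subgroup.centralizer ({x} : Set G)
  let C' := Subgroup.centralizer ({k * x * k⁻¹} : Set G)
  have hmem : ∀ a : G, a ∈ C ↔ k * a * k⁻¹ ∈ C' := fun a => by
    simp only [C, C', Subgroup.mem_centralizer_singleton_iff]
    constructor
    · intro h
      calc k * a * k⁻¹ * (k * x * k⁻¹) = k * (a * x) * k⁻¹ := by group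
        _ = k * x * k⁻¹ * (k * a * k⁻¹) := by rw [h]; group
    · intro h
      have := congrArg (fun r => k⁻¹ * r * k) h
      simpa [mul_assoc] using this
  let f : C →* C' :=
    MonoidHom.mk' (fun a => ⟨k * a * k⁻¹, (hmem a).1 a.2⟩) fun a b => Subtype.ext (by
      change k * ((a : G) * b) * k⁻¹ = k * a * k⁻¹ * (k * b * k⁻¹); group)
  have hf : Function.Surjective f := fun b => ⟨⟨k⁻¹ * b * k, (hmem _).2 (by
    have e : k * (k⁻¹ * b * k) * k⁻¹ = (b : G) := by group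
    rw [e]; exact b.2)⟩, Subtype.ext (by change k * (k⁻¹ * b * k) * k⁻¹ = _; group)⟩
  haveI hnorm : ((Cfsg.pPrimeCore 2 C).map f).Normal :=
    Subgroup.Normal.map (inferInstance : (Cfsg.pPrimeCore 2 C).Normal) f hf
  have hle : (Cfsg.pPrimeCore 2 C).map f ≤ Cfsg.pPrimeCore 2 C' :=
    Cores.le_pPrimeCore ((Cores.pPrimeCore_coprime (G := C) 2).coprime_dvd_left
      (Subgroup.card_map_dvd _ _))
  exact ⟨f c', hle ⟨c', hc', rfl⟩, rfl⟩

omit [Finite G] in
theorem core2_conj {x n c : G} (hn : n * x = x * n) (hc : c ∈ core2 x) : n * c * n⁻¹ ∈ core2 x := by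
  obtain ⟨c', hc', rfl⟩ := hc
  haveI : (Cfsg.pPrimePCore 2 ↥(Subgroup.centralizer ({x} : Set G))).Normal :=
    Subgroup.Normal.comap (inferInstance : (Cfsg.pCore 2 (↥(Subgroup.centralizer ({x} : Set G)) ⧸ Cfsg.pPrimeCore 2 ↥(Subgroup.centralizer ({x} : Set G)))).Normal) _
  exact ⟨⟨n, Subgroup.mem_centralizer_singleton_iff.2 hn⟩ * c' * ⟨n, Subgroup.mem_centralizer_singleton_iff.2 hn⟩⁻¹,
    this.conj_mem c' hc' _, rfl⟩

/-- An odd order element of `O_{2',2}(C(x))` lies in `O(C(x))`. -/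
theorem core_of_core2 {x y : G} (hy : y ∈ core2 x) (hodd : Odd (orderOf y)) : y ∈ core x := by
  obtain ⟨c, hc, rfl⟩ := hy
  refine ⟨c, ?_, rfl⟩
  rw [Subgroup.subtype_apply, Subgroup.orderOf_coe] at hodd
  let C := Subgroup.centralizer ({x} : Set G)
  have h2 : QuotientGroup.mk' (Cfsg.pPrimeCore 2 C) c ∈ Cfsg.pCore 2 (C ⧸ Cfsg.pPrimeCore 2 C) := hc
  obtain ⟨k, hk⟩ := (Cores.pCore_isPGroup (G := C ⧸ Cfsg.pPrimeCore 2 C) 2) ⟨_, h2⟩
  have hk' : QuotientGroup.mk' (Cfsg.pPrimeCore 2 C) c ^ 2 ^ k = 1 := congrArg Subtype.val hk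
  exact (QuotientGroup.eq_one_iff c).1
    (eq_one_of_two_of_odd hk' (hodd.of_dvd_nat (orderOf_map_dvd (QuotientGroup.mk' (Cfsg.pPrimeCore 2 C)) c)))

/-- Two 2-subgroups of `O_{2',2}(C(x))` have conjugates by `O(C(x))` in a common 2-subgroup. -/
theorem exists_common {x : G} {A B : Subgroup G} (hA : IsPGroup 2 A) (hB : IsPGroup 2 B)
    (hAP : A ≤ core2 x) (hBP : B ≤ core2 x) :
    ∃ k ∈ core x, ∃ R : Sylow 2 G,
      A.map (MulAut.conj k).toMonoidHom ≤ (R : Subgroup G) ∧ B ≤ (R : Subgroup G) := by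
  classical
  haveI : Fact (Nat.Prime 2) := ⟨Nat.prime_two⟩
  set P := core2 x with hP
  have hOP : core x ≤ P := by
    refine Subgroup.map_mono ?_
    intro c hc
    refine Subgroup.mem_comap.2 ?_
    rw [QuotientGroup.mk'_apply, (QuotientGroup.eq_one_iff (N := Cfsg.pPrimeCore 2 ↥(Subgroup.centralizer ({x} : Set G))) c).2 hc]
    exact one_mem _
  obtain ⟨Q, hQ⟩ := (hA.comap_subtype (K := P)).exists_le_sylow
  obtain ⟨Q', hQ'⟩ := (hB.comap_subtype (K := P)).exists_le_sylow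
  obtain ⟨p, hp⟩ := MulAction.exists_smul_eq P Q Q'
  set O := (core x).subgroupOf P with hO
  haveI hOn : O.Normal := ⟨fun c hc g => by
    rw [Subgroup.mem_subgroupOf] at hc ⊢
    have hgx : (g : G) * x = x * g := Subgroup.mem_centralizer_singleton_iff.1 (Subgroup.map_subtype_le _ g.2)
    simpa using core_conj hgx hc⟩
  have hsup : O ⊔ (Q : Subgroup P) = ⊤ := by
    apply Subgroup.eq_top_of_card_eq
    refine Nat.dvd_antisymm (Subgroup.card_subgroup_dvd_card _) ?_
    obtain ⟨m, hm⟩ := IsPGroup.iff_card.1 Q.2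
    -- every odd order element is in `O`, so the index of `O` is a power of two
    have hidx : ∀ r, r.Prime → r ∣ O.index → r = 2 := by
      intro r hr hdvd
      haveI := Fact.mk hr
      rw [Subgroup.index_eq_card] at hdvd
      obtain ⟨c, hc⟩ := exists_prime_orderOf_dvd_card' r hdvd
      obtain ⟨c, rfl⟩ := QuotientGroup.mk_surjective c
      by_contra hr2
      obtain ⟨e, m', hm', he⟩ := Nat.exists_eq_two_pow_mul_odd (orderOf_pos c).ne'
      have hodd : Odd (orderOf (c ^ 2 ^ e)) := by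
        rw [orderOf_pow_of_dvd (pow_ne_zero _ two_ne_zero) ⟨m', he⟩, he,
          Nat.mul_div_cancel_left _ (pow_pos two_pos _)]
        exact hm'
      have hmem : c ^ 2 ^ e ∈ O := Subgroup.mem_subgroupOf.2
        (core_of_core2 (c ^ 2 ^ e).2 (by rwa [Subgroup.orderOf_coe]))
      have : r ∣ 2 ^ e := by
        rw [← hc]
        refine orderOf_dvd_of_pow_eq_one ?_
        rw [← QuotientGroup.mk_pow, QuotientGroup.eq_one_iff]
        exact hmem
      exact hr2 ((Nat.prime_dvd_prime_iff_eq hr Nat.prime_two).1 (hr.dvd_of_dvd_pow this))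
    obtain ⟨j, hj⟩ : ∃ j, O.index = 2 ^ j :=
      ⟨_, Nat.eq_prime_pow_of_unique_prime_dvd Subgroup.index_ne_zero_of_finite fun {r} => hidx r⟩
    have hoc : (Nat.card O).Coprime 2 := by
      rw [hO, Nat.card_congr (Subgroup.subgroupOfEquivOfLe hOP).toEquiv]
      exact core_coprime x
    have hq : 2 ^ j ∣ Nat.card (Q : Subgroup P) :=
      Sylow.pow_dvd_card_of_pow_dvd_card Q (hj ▸ O.index_dvd_card)
    rw [← O.card_mul_index, hj]
    exact Nat.Coprime.mul_dvd_of_dvd_of_dvd (hoc.pow_right j)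
      (Subgroup.card_dvd_of_le le_sup_left) (hq.trans (Subgroup.card_dvd_of_le le_sup_right))
  have hpmem : p ∈ ((O ⊔ (Q : Subgroup P) : Subgroup P) : Set P) := by rw [hsup]; trivial
  rw [Subgroup.normal_mul] at hpmem
  obtain ⟨o, ho, q, hq, rfl⟩ := hpmem
  have hQ'eq : (Q' : Subgroup P) = (Q : Subgroup P).map (MulAut.conj o).toMonoidHom := by
    rw [← hp, mul_smul, Sylow.smul_eq_iff_mem_normalizer.2 (Subgroup.le_normalizer hq)]
    rfl
  obtain ⟨R, hR⟩ := (Q'.2.map P.subtype).exists_le_sylow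
  refine ⟨(o : G), Subgroup.mem_subgroupOf.1 ho, R, ?_, fun b hb => hR ⟨⟨b, hBP hb⟩, hQ' hb, rfl⟩⟩
  rintro _ ⟨a, ha, rfl⟩
  refine hR ⟨o * ⟨a, hAP ha⟩ * o⁻¹, ?_, rfl⟩
  rw [hQ'eq]
  exact ⟨⟨a, hAP ha⟩, hQ ha, rfl⟩

section Closed

variable {T : Sylow 2 G} {W : Subgroup G} {t : G}

/-- Two conjugates of `W` in one Sylow subgroup coincide. -/
theorem Setup.unique (h : Setup T W t) {R : Sylow 2 G} {a b : G}
    (ha : W.map (MulAut.conj a).toMonoidHom ≤ (R : Subgroup G))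
    (hb : W.map (MulAut.conj b).toMonoidHom ≤ (R : Subgroup G)) :
    W.map (MulAut.conj a).toMonoidHom = W.map (MulAut.conj b).toMonoidHom := by
  haveI : Fact (Nat.Prime 2) := ⟨Nat.prime_two⟩
  obtain ⟨c, hc⟩ := MulAction.exists_smul_eq G R T
  have key : ∀ a : G, W.map (MulAut.conj a).toMonoidHom ≤ (R : Subgroup G) →
      W.map (MulAut.conj (c * a)).toMonoidHom = W := by
    intro a ha
    refine h.wc _ ?_
    rintro _ ⟨w, hw, rfl⟩
    rw [← hc]
    refine ⟨MulAut.conj a w, ha ⟨w, hw, rfl⟩, ?_⟩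
    change c * (a * w * a⁻¹) * c⁻¹ = c * a * w * (c * a)⁻¹
    group
  have e := (key a ha).trans (key b hb).symm
  have hsplit : ∀ a : G, W.map (MulAut.conj (c * a)).toMonoidHom =
      (W.map (MulAut.conj a).toMonoidHom).map (MulAut.conj c).toMonoidHom := by
    intro a
    rw [Subgroup.map_map]
    congr 1
    ext w
    change c * a * w * (c * a)⁻¹ = c * (a * w * a⁻¹) * c⁻¹
    group
  rw [hsplit, hsplit] at e
  exact Subgroup.map_injective (MulAut.conj c).injective e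

/-- Every Sylow subgroup contains a conjugate of `W`, centrally. -/
theorem Setup.exists_conj (h : Setup T W t) (R : Sylow 2 G) :
    ∃ b : G, ∀ w ∈ W, b * w * b⁻¹ ∈ (R : Subgroup G) ∧
      ∀ s ∈ (R : Subgroup G), b * w * b⁻¹ * s = s * (b * w * b⁻¹) := by
  haveI : Fact (Nat.Prime 2) := ⟨Nat.prime_two⟩
  obtain ⟨b, rfl⟩ := MulAction.exists_smul_eq G T R
  refine ⟨b, fun w hw => ⟨⟨w, h.le hw, rfl⟩, ?_⟩⟩
  rintro _ ⟨s, hs, rfl⟩
  change b * w * b⁻¹ * (b * s * b⁻¹) = b * s * b⁻¹ * (b * w * b⁻¹)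
  calc b * w * b⁻¹ * (b * s * b⁻¹) = b * (w * s) * b⁻¹ := by group
    _ = _ := by rw [h.central w hw s hs]; group

/-- Strong closure of a weakly closed central subgroup. -/
theorem Setup.strong (h : Setup T W t) {R : Sylow 2 G} {b z a : G} (hz : z ∈ W)
    (hb : W.map (MulAut.conj b).toMonoidHom ≤ (R : Subgroup G))
    (hu : a * z * a⁻¹ ∈ (R : Subgroup G)) :
    a * z * a⁻¹ ∈ W.map (MulAut.conj b).toMonoidHom := by
  haveI : Fact (Nat.Prime 2) := ⟨Nat.prime_two⟩
  obtain ⟨b', hb'⟩ := h.exists_conj R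
  have hbb : W.map (MulAut.conj b).toMonoidHom = W.map (MulAut.conj b').toMonoidHom :=
    h.unique hb (by rintro _ ⟨w, hw, rfl⟩; exact (hb' w hw).1)
  set u := a * z * a⁻¹ with hu_def
  set C := Subgroup.centralizer ({u} : Set G) with hC
  have haT : ((a • T : Sylow 2 G) : Subgroup G) ≤ C := by
    rintro _ ⟨s, hs, rfl⟩
    refine Subgroup.mem_centralizer_singleton_iff.2 ?_
    change a * s * a⁻¹ * (a * z * a⁻¹) = a * z * a⁻¹ * (a * s * a⁻¹)
    calc a * s * a⁻¹ * (a * z * a⁻¹) = a * (s * z) * a⁻¹ := by group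
      _ = _ := by rw [← h.central z hz s hs]; group
  have hWC : W.map (MulAut.conj b).toMonoidHom ≤ C := by
    rw [hbb]
    rintro _ ⟨w, hw, rfl⟩
    exact Subgroup.mem_centralizer_singleton_iff.2 ((hb' w hw).2 u hu)
  have h2 : IsPGroup 2 (W.map (MulAut.conj b).toMonoidHom) := R.2.to_le hb
  obtain ⟨Q, hQ⟩ := (h2.comap_subtype (K := C)).exists_le_sylow
  obtain ⟨c, hc⟩ := MulAction.exists_smul_eq C Q ((a • T : Sylow 2 G).subtype haT)
  have hcW : W.map (MulAut.conj ((c : G) * b)).toMonoidHom ≤ ((a • T : Sylow 2 G) : Subgroup G) := by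
    rintro _ ⟨w, hw, rfl⟩
    have hbw : b * w * b⁻¹ ∈ W.map (MulAut.conj b).toMonoidHom := ⟨w, hw, rfl⟩
    have hm : c * ⟨b * w * b⁻¹, hWC hbw⟩ * c⁻¹ ∈
        (((a • T : Sylow 2 G).subtype haT : Sylow 2 C) : Subgroup C) := by
      rw [← hc]
      exact ⟨⟨b * w * b⁻¹, hWC hbw⟩, hQ hbw, rfl⟩
    have hm' : (c : G) * (b * w * b⁻¹) * (c : G)⁻¹ ∈ ((a • T : Sylow 2 G) : Subgroup G) := hm
    change (c : G) * b * w * ((c : G) * b)⁻¹ ∈ _
    rwa [show (c : G) * b * w * ((c : G) * b)⁻¹ = (c : G) * (b * w * b⁻¹) * (c : G)⁻¹ by group]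
  have e := h.unique hcW (by rintro _ ⟨w, hw, rfl⟩; exact ⟨w, h.le hw, rfl⟩ :
    W.map (MulAut.conj a).toMonoidHom ≤ ((a • T : Sylow 2 G) : Subgroup G))
  have hum : u ∈ W.map (MulAut.conj ((c : G) * b)).toMonoidHom := by
    rw [e]; exact ⟨z, hz, rfl⟩
  obtain ⟨w, hw, hwe⟩ := hum
  refine ⟨w, hw, ?_⟩
  change b * w * b⁻¹ = u
  have hcu : (c : G) * u = u * c := Subgroup.mem_centralizer_singleton_iff.1 c.2
  change (c : G) * b * w * ((c : G) * b)⁻¹ = u at hwe
  calc b * w * b⁻¹ = (c : G)⁻¹ * ((c : G) * b * w * ((c : G) * b)⁻¹) * c := by group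
    _ = (c : G)⁻¹ * (u * c) := by rw [hwe, mul_assoc]
    _ = u := by rw [← hcu, inv_mul_cancel_left]

variable {x z : G}

/-- The elements `w t` of order two. -/
def InX (W : Subgroup G) (t x : G) : Prop := ∃ w ∈ W, x = w * t ∧ orderOf x = 2

theorem Setup.inX_comm (h : Setup T W t) (hx : InX W t x) :
    x ∈ (T : Subgroup G) ∧ x ∉ W ∧ (∀ w ∈ W, w * x = x * w) ∧ W ≤ core2 x := by
  obtain ⟨w, hw, rfl, ho⟩ := hx
  have hT : w * t ∈ (T : Subgroup G) := mul_mem (h.le hw) h.htT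
  refine ⟨hT, fun hW => h.htW ?_, fun v hv => h.central v hv _ hT, h.cos w hw ho⟩
  simpa using mul_mem (inv_mem hw) hW

theorem Setup.mul_inX (h : Setup T W t) (hx : InX W t x) {w : G} (hw : w ∈ W) (hw2 : w * w = 1) :
    InX W t (x * w) := by
  obtain ⟨hxT, hxW, hc, -⟩ := h.inX_comm hx
  obtain ⟨v, hv, rfl, ho⟩ := hx
  refine ⟨v * w, mul_mem hv hw, ?_, invol_iff.2 ⟨?_, fun e => hxW ?_⟩⟩
  · rw [mul_assoc v, ← h.central w hw t h.htT, mul_assoc]
  · calc v * t * w * (v * t * w) = v * t * (w * (v * t)) * w := by simp only [mul_assoc]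
      _ = v * t * (v * t) * (w * w) := by rw [hc w hw]; simp only [mul_assoc]
      _ = 1 := by rw [invol_mul_self ho, hw2, one_mul]
  · rw [mul_eq_one_iff_eq_inv.1 e]; exact inv_mem hw

/-- A conjugate of an element of `W` commuting with `x` is conjugate to one by `O(C(x))`. -/
theorem Setup.exists_label (h : Setup T W t) (hx : InX W t x) (hz : z ∈ W) {a : G}
    (hc : Commute x (a * z * a⁻¹)) :
    ∃ k ∈ core x, ∃ z' ∈ W, a * z * a⁻¹ = k * z' * k⁻¹ := by
  classical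
  haveI : Fact (Nat.Prime 2) := ⟨Nat.prime_two⟩
  obtain ⟨hxT, hxW, hcW, hWP⟩ := h.inX_comm hx
  obtain ⟨w, -, -, ho⟩ := hx
  set u := a * z * a⁻¹ with hu_def
  -- a Sylow subgroup containing `x` and `u`
  obtain ⟨k₀, hk₀⟩ : ∃ k, (⟨u, (Subgroup.mem_centralizer_singleton_iff.2 hc.eq.symm)⟩ :
      Subgroup.centralizer ({x} : Set G)) ^ 2 ^ k = 1 := by
    obtain ⟨k, hk⟩ := T.2 ⟨z, h.le hz⟩
    refine ⟨k, Subtype.ext ?_⟩
    have : z ^ 2 ^ k = 1 := congrArg Subtype.val hk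
    change u ^ 2 ^ k = 1
    rw [hu_def, conj_pow, this]; simp
  have h2 : IsPGroup 2 ↥(Subgroup.zpowers x ⊔ Subgroup.zpowers u) := by
    refine IsPGroup.to_sup_of_normal_left' ?_ ?_ ?_
    · exact IsPGroup.of_card (n := 1) (by rw [Nat.card_zpowers, ho, pow_one])
    · obtain ⟨j, -, hj⟩ := (Nat.dvd_prime_pow Nat.prime_two).1
        (orderOf_dvd_of_pow_eq_one (congrArg Subtype.val hk₀ : u ^ 2 ^ k₀ = 1))
      exact IsPGroup.of_card (n := j) (by rw [Nat.card_zpowers, hj])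
    · rw [Subgroup.zpowers_le]
      intro y
      obtain ⟨n, rfl⟩ | hy := em (∃ n : ℤ, x ^ n = y)
      · refine ⟨fun _ => ⟨n, ?_⟩, fun _ => ⟨n, rfl⟩⟩
        change x ^ n = u * x ^ n * u⁻¹
        rw [← (hc.zpow_left n).eq, mul_inv_cancel_right]
      · refine ⟨fun e => absurd e hy, fun e => absurd ?_ hy⟩
        obtain ⟨n, hn⟩ := e
        refine ⟨n, ?_⟩
        have hn' : x ^ n = u * y * u⁻¹ := hn
        calc x ^ n = u⁻¹ * (x ^ n * u) := by rw [(hc.zpow_left n).eq, inv_mul_cancel_left]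
          _ = y := by rw [hn']; group
  obtain ⟨R, hR⟩ := h2.exists_le_sylow
  obtain ⟨b, hb⟩ := h.exists_conj R
  have hum := h.strong hz (R := R) (b := b) (by rintro _ ⟨v, hv, rfl⟩; exact (hb v hv).1)
    (hR (Subgroup.mem_sup_right (Subgroup.mem_zpowers u)))
  have hbC : W.map (MulAut.conj b).toMonoidHom ≤ Subgroup.centralizer ({x} : Set G) := by
    rintro _ ⟨v, hv, rfl⟩
    exact Subgroup.mem_centralizer_singleton_iff.2
      ((hb v hv).2 x (hR (Subgroup.mem_sup_left (Subgroup.mem_zpowers x))))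
  -- conjugate into a Sylow subgroup with `W` inside `C(x)`
  set C := Subgroup.centralizer ({x} : Set G) with hC
  have hWC : W ≤ C := fun v hv => Subgroup.mem_centralizer_singleton_iff.2 (hcW v hv)
  have hW2 : IsPGroup 2 W := T.2.to_le h.le
  have hb2 : IsPGroup 2 (W.map (MulAut.conj b).toMonoidHom) := hW2.map _
  obtain ⟨Q, hQ⟩ := (hW2.comap_subtype (K := C)).exists_le_sylow
  obtain ⟨Q', hQ'⟩ := (hb2.comap_subtype (K := C)).exists_le_sylow
  obtain ⟨c, hc'⟩ := MulAction.exists_smul_eq C Q Q'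
  obtain ⟨R', hR'⟩ := (Q'.2.map C.subtype).exists_le_sylow
  have e1 : W.map (MulAut.conj b).toMonoidHom = W.map (MulAut.conj (c : G)).toMonoidHom := by
    refine h.unique (R := R') ?_ ?_
    · rintro _ hv
      exact hR' ⟨⟨_, hbC hv⟩, hQ' hv, rfl⟩
    · rintro _ ⟨v, hv, rfl⟩
      refine hR' ⟨c * ⟨v, hWC hv⟩ * c⁻¹, ?_, rfl⟩
      rw [← hc']
      exact ⟨⟨v, hWC hv⟩, hQ hv, rfl⟩
  have hbP : W.map (MulAut.conj b).toMonoidHom ≤ core2 x := by
    rw [e1]
    rintro _ ⟨v, hv, rfl⟩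
    exact core2_conj (Subgroup.mem_centralizer_singleton_iff.1 c.2) (hWP hv)
  obtain ⟨k, hk, R'', hkR, hbR⟩ := exists_common hW2 hb2 hWP hbP
  rw [h.unique hbR hkR] at hum
  obtain ⟨z', hz', he⟩ := hum
  exact ⟨k, hk, z', hz', he.symm⟩

theorem Setup.not_conj (h : Setup T W t) (hx : InX W t x) (hz : z ∈ W) (a : G) :
    a * z * a⁻¹ ≠ x := by
  intro e
  obtain ⟨hxT, hxW, -, -⟩ := h.inX_comm hx
  have hm := h.strong hz (R := T) (b := 1)
    (by rintro _ ⟨w, hw, rfl⟩; simpa using h.le hw) (e.symm ▸ hxT)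
  obtain ⟨w, hw, hwe⟩ := hm
  apply hxW
  rw [← e]
  convert hw using 1
  rw [← hwe]
  simp

/-- `u` is labelled `z'` relative to `x`. -/
def Lab (x z' u : G) : Prop :=
  ∃ k ∈ core x, ∃ l ∈ core (x * z'), u = k * l * z' * (k * l)⁻¹

theorem lab_mul {x z' k l : G} (hzx : z' * x = x * z') (hz2 : z' * z' = 1) (hk : k ∈ core x)
    (hl : l ∈ core (x * z')) :
    x * (k * l * z' * (k * l)⁻¹) = k * (x * z') * k⁻¹ * (k * (z' * l * z' * l⁻¹) * k⁻¹) ∧
      z' * l * z' * l⁻¹ ∈ core (x * z') := by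
  constructor
  · calc x * (k * l * z' * (k * l)⁻¹) = k * x * (l * z' * l⁻¹) * k⁻¹ := by
          rw [← mul_assoc, ← mul_assoc, ← mul_assoc, ← mem_core_comm hk, mul_inv_rev]
          simp only [mul_assoc]
      _ = k * (x * (z' * z')) * (l * z' * l⁻¹) * k⁻¹ := by rw [hz2, mul_one]
      _ = _ := by simp only [mul_assoc, inv_mul_cancel_left]
  · have hn : z' * (x * z') = x * z' * z' := by rw [← mul_assoc, hzx]
    have h1 := core_conj hn hl
    rw [inv_eq_of_mul_eq_one_right hz2] at h1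
    exact mul_mem h1 (inv_mem hl)

theorem two_part_unique {v v' c c' : G} (hv : v * v = 1) (hv' : v' * v' = 1) (hc : Commute v c)
    (hc' : Commute v' c') (ho : Odd (orderOf c)) (ho' : Odd (orderOf c'))
    (e : v * c = v' * c') : v = v' := by
  obtain ⟨n, hn⟩ := ho.mul ho'
  have hp : ∀ v c : G, v * v = 1 → Commute v c → c ^ (orderOf c' * 0 + (2 * n + 1)) = 1 →
      (v * c) ^ (2 * n + 1) = v := by
    intro v c hv hc h1
    rw [hc.mul_pow, show orderOf c' * 0 + (2 * n + 1) = 2 * n + 1 by omega] at *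
    rw [h1, mul_one, pow_succ, pow_mul, pow_two, hv, one_pow, one_mul]
  have a := hp v c hv hc (orderOf_dvd_iff_pow_eq_one.1 ⟨orderOf c', by rw [← hn]; omega⟩)
  have b := hp v' c' hv' hc' (orderOf_dvd_iff_pow_eq_one.1 ⟨orderOf c, by rw [mul_comm _ (orderOf c), ← hn]; omega⟩)
  rw [← a, e, b]

theorem lab_vpart {x z' k l : G} (ho : orderOf (x * z') = 2) (hzx : z' * x = x * z')
    (hz2 : z' * z' = 1) (hk : k ∈ core x) (hl : l ∈ core (x * z')) :
    ∃ c, k * (x * z') * k⁻¹ * (k * (x * z') * k⁻¹) = 1 ∧ Commute (k * (x * z') * k⁻¹) c ∧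
      Odd (orderOf c) ∧ x * (k * l * z' * (k * l)⁻¹) = k * (x * z') * k⁻¹ * c := by
  obtain ⟨he, hm⟩ := lab_mul hzx hz2 hk hl
  refine ⟨_, invol_mul_self ((orderOf_conj_eq k _).trans ho), ?_, ?_, he⟩
  · exact ((mem_core_comm (mem_core_conj hm)).symm : _)
  · rw [orderOf_conj_eq]; exact core_odd _ hm

/-- The label is determined by `u`, as is the coset of `k`. -/
theorem Setup.lab_unique (h : Setup T W t) (hx : InX W t x) {z₁ z₂ k₁ k₂ l₁ l₂ : G}
    (hz1 : z₁ ∈ W) (hz2 : z₂ ∈ W) (h1 : z₁ * z₁ = 1) (h2 : z₂ * z₂ = 1)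
    (hk1 : k₁ ∈ core x) (hk2 : k₂ ∈ core x) (hl1 : l₁ ∈ core (x * z₁)) (hl2 : l₂ ∈ core (x * z₂))
    (e : k₁ * l₁ * z₁ * (k₁ * l₁)⁻¹ = k₂ * l₂ * z₂ * (k₂ * l₂)⁻¹) :
    z₁ = z₂ ∧ Commute (k₁⁻¹ * k₂) z₁ := by
  obtain ⟨-, -, hcW, -⟩ := h.inX_comm hx
  have ho : ∀ {w}, w ∈ W → w * w = 1 → orderOf (x * w) = 2 := fun hw hw2 => by
    obtain ⟨-, -, -, h'⟩ := h.mul_inX hx hw hw2
    exact h'
  obtain ⟨c₁, a1, b1, o1, e1⟩ := lab_vpart (ho hz1 h1) (hcW _ hz1) h1 hk1 hl1
  obtain ⟨c₂, a2, b2, o2, e2⟩ := lab_vpart (ho hz2 h2) (hcW _ hz2) h2 hk2 hl2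
  rw [e, e2] at e1
  have hv := two_part_unique a2 a1 b2 b1 o2 o1 e1
  set c := k₁⁻¹ * k₂ with hc
  have hcO : c ∈ core x := mul_mem (inv_mem hk1) hk2
  have hcx : c * x = x * c := mem_core_comm hcO
  have he : c * z₂ * c⁻¹ = z₁ := by
    apply mul_left_cancel (a := x)
    calc x * (c * z₂ * c⁻¹) = c * (x * z₂) * c⁻¹ := by
          rw [← mul_assoc, ← mul_assoc, ← hcx]; simp only [mul_assoc]
      _ = k₁⁻¹ * (k₂ * (x * z₂) * k₂⁻¹) * k₁ := by rw [hc]; group
      _ = x * z₁ := by rw [hv]; group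
  have hd : z₂⁻¹ * z₁ ∈ core x := by
    rw [← he, show z₂⁻¹ * (c * z₂ * c⁻¹) = z₂⁻¹ * c * z₂ * c⁻¹ by group]
    exact mul_mem (core_conj' (hcW _ hz2) hcO) (inv_mem hcO)
  obtain ⟨j, hj⟩ := (T.2.to_le h.le : IsPGroup 2 W) ⟨_, mul_mem (inv_mem hz2) hz1⟩
  have heq : z₁ = z₂ :=
    (inv_mul_eq_one.1 (eq_one_of_two_of_odd (congrArg Subtype.val hj) (core_odd _ hd))).symm
  refine ⟨heq, ?_⟩
  rw [← heq] at he
  exact mul_inv_eq_iff_eq_mul.1 he

/-- The key: every conjugate of `z` has a label, and the product with `x` has the value of `x z'`. -/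
theorem Setup.exists_lab (h : Setup T W t) (hz : z ∈ W) (hzo : orderOf z = 2) (hx : InX W t x)
    (a : G) :
    ∃ z' ∈ W, orderOf z' = 2 ∧ Lab x z' (a * z * a⁻¹) ∧
      ∀ (M : Ideal Cfsg.AlgInt), Cfsg.IsPModular 2 M → ∀ χ ∈ Cfsg.principalBlock M G,
        (χ : G → ℂ) (x * (a * z * a⁻¹)) = (χ : G → ℂ) (x * z') := by
  classical
  haveI : Fact (Nat.Prime 2) := ⟨Nat.prime_two⟩
  have ho : orderOf x = 2 := by obtain ⟨-, -, -, h'⟩ := hx; exact h'
  have hxx := invol_mul_self ho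
  set u := a * z * a⁻¹ with hu_def
  have huo : orderOf u = 2 := (orderOf_conj_eq a z).trans hzo
  have huu := invol_mul_self huo
  set r := x * u with hr
  obtain ⟨e, m, hm, hrm⟩ := Nat.exists_eq_two_pow_mul_odd (orderOf_pos r).ne'
  obtain ⟨n, hn⟩ := hm
  set u' := r ^ ((n : ℤ) + 1) * u * (r ^ ((n : ℤ) + 1))⁻¹ with hu'
  have hinvx : x * r * x = r⁻¹ := invert_mul hxx huu
  have hinvu : u * r * u = r⁻¹ := by
    rw [hr, mul_inv_rev, invol_inv ho, invol_inv huo]
    simp only [mul_assoc, huu, mul_one]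
  have hru : ∀ i : ℤ, u * r ^ i = r ^ (-i) * u := fun i => by rw [invert_comm huu hinvu (-i), neg_neg]
  have hu'o : orderOf u' = 2 := (orderOf_conj_eq _ _).trans huo
  have hxu' : x * u' = r ^ (-(m : ℤ)) := by
    calc x * u' = x * (r ^ ((n : ℤ) + 1) * (u * r ^ (-((n : ℤ) + 1)))) := by
          rw [hu', zpow_neg]; simp only [mul_assoc]
      _ = x * (r ^ (2 * ((n : ℤ) + 1)) * u) := by
          rw [hru, neg_neg, ← mul_assoc (r ^ ((n : ℤ) + 1)), ← zpow_add, two_mul]
      _ = r ^ (-(2 * ((n : ℤ) + 1))) * (x * u) := by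
          rw [← mul_assoc, show x * r ^ (2 * ((n : ℤ) + 1)) = r ^ (-(2 * ((n : ℤ) + 1))) * x by rw [invert_comm hxx hinvx, neg_neg], mul_assoc]
      _ = r ^ (-(m : ℤ)) := by
          rw [← hr, ← zpow_add_one, hn]; push_cast; ring_nf
  have hrm1 : orderOf (r ^ m) = 2 ^ e := by
    rw [orderOf_pow_of_dvd (by omega) ⟨2 ^ e, by rw [hrm, mul_comm]⟩, hrm,
      Nat.mul_div_cancel _ (by omega)]
  have hord : orderOf (x * u') = 2 ^ e := by
    rw [hxu', zpow_neg, orderOf_inv, zpow_natCast, hrm1]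
  -- a 2-group containing `x` and `u'`
  have hu'conj : u' = r ^ ((n : ℤ) + 1) * a * z * (r ^ ((n : ℤ) + 1) * a)⁻¹ := by
    rw [hu', hu_def]; group
  have h2 : IsPGroup 2 ↥(Subgroup.closure ({x, u'} : Set G)) :=
    IsPGroup.of_card (n := e + 1) (by rw [card_closure_pair ho hu'o, hord, pow_succ'])
  obtain ⟨R, hR⟩ := h2.exists_le_sylow
  obtain ⟨b, hb⟩ := h.exists_conj R
  have hum : u' ∈ W.map (MulAut.conj b).toMonoidHom := by
    rw [hu'conj]
    exact h.strong hz (R := R) (by rintro _ ⟨w, hw, rfl⟩; exact (hb w hw).1)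
      (hu'conj ▸ hR (Subgroup.subset_closure (by simp)))
  have hcomm : Commute x u' := by
    obtain ⟨w, hw, hwe⟩ := hum
    rw [← hwe]
    exact ((hb w hw).2 x (hR (Subgroup.subset_closure (by simp)))).symm
  obtain ⟨k, hk, z', hz', hkz⟩ := h.exists_label hx hz (a := r ^ ((n : ℤ) + 1) * a)
    (hu'conj ▸ hcomm)
  rw [← hu'conj] at hkz
  obtain ⟨-, -, hcW, -⟩ := h.inX_comm hx
  have hz'o : orderOf z' = 2 := by rw [← orderOf_conj_eq k z', ← hkz, hu'o]
  have hx' := h.mul_inX hx hz' (invol_mul_self hz'o)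
  obtain ⟨-, -, hcW', hWP'⟩ := h.inX_comm hx'
  have hx'o : orderOf (x * z') = 2 := by obtain ⟨-, -, -, h'⟩ := hx'; exact h'
  set v := x * u' with hv
  have hvk : v = k * (x * z') * k⁻¹ := by
    rw [hv, hkz]
    calc x * (k * z' * k⁻¹) = x * k * z' * k⁻¹ := by simp only [mul_assoc]
      _ = _ := by rw [← mem_core_comm hk]; simp only [mul_assoc]
  have hvo : orderOf v = 2 := by rw [hvk, orderOf_conj_eq, hx'o]
  have he1 : e = 1 := Nat.pow_right_injective le_rfl (show 2 ^ e = 2 ^ 1 by rw [← hord, hvo, pow_one])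
  subst he1
  rw [pow_one] at hrm
  have hr2m : r ^ (2 * (m : ℤ)) = 1 := by
    rw [show (2 * (m : ℤ)) = ((orderOf r : ℕ) : ℤ) by rw [hrm]; push_cast; rfl, zpow_natCast,
      pow_orderOf_eq_one]
  set y := r ^ ((m : ℤ) + 1) with hy
  have hvr : v = r ^ (-(m : ℤ)) := hxu'
  have hvy : v * y = r := by rw [hvr, hy, ← zpow_add]; simp
  have hym : y ^ m = 1 := by
    rw [hy, ← zpow_natCast, ← zpow_mul,
      show ((m : ℤ) + 1) * (m : ℤ) = 2 * (m : ℤ) * ((n : ℤ) + 1) by rw [hn]; push_cast; ring,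
      zpow_mul, hr2m, one_zpow]
  have hyodd : Odd (orderOf y) := Odd.of_dvd_nat ⟨n, hn⟩ (orderOf_dvd_of_pow_eq_one hym)
  set y₀ := k⁻¹ * y * k with hy0
  have hy0odd : Odd (orderOf y₀) := by
    rw [show orderOf y₀ = orderOf y by simpa [hy0] using orderOf_conj_eq k⁻¹ y]; exact hyodd
  have hvy' : v * y = y * v := by rw [hvr, hy, ← zpow_add, ← zpow_add, add_comm]
  have hy0C : y₀ * (x * z') = x * z' * y₀ := by
    have : x * z' = k⁻¹ * v * k := by rw [hvk]; group
    rw [this, hy0]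
    calc k⁻¹ * y * k * (k⁻¹ * v * k) = k⁻¹ * (y * v) * k := by group
      _ = _ := by rw [← hvy']; group
  have hu'inv : u' * y * u' = y⁻¹ := by
    have h1 : u' * r * u' = r⁻¹ := by
      have hxv : u' = x * v := by rw [hv, ← mul_assoc, hxx, one_mul]
      have hvx : Commute v x := ((Commute.refl x).mul_right hcomm).symm
      have hvr' : v * r * v = r := by
        rw [mul_assoc, show r * v = v * r by rw [hvr]; exact (Commute.self_zpow r _).eq,
          ← mul_assoc, invol_mul_self hvo, one_mul]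
      calc u' * r * u' = x * (v * r * v) * x := by
            rw [hxv]; nth_rw 2 [← hvx.eq]; simp only [mul_assoc]
        _ = r⁻¹ := by rw [hvr', hinvx]
    have := invert_zpow (invol_mul_self hu'o) h1 ((m : ℤ) + 1)
    rwa [zpow_neg] at this
  have hz'inv : z' * y₀ * z' = y₀⁻¹ := by
    have : z' = k⁻¹ * u' * k := by rw [hkz]; group
    rw [this, hy0]
    calc k⁻¹ * u' * k * (k⁻¹ * y * k) * (k⁻¹ * u' * k) = k⁻¹ * (u' * y * u') * k := by group
      _ = _ := by rw [hu'inv]; group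
  have hy0core : y₀ ∈ core (x * z') := by
    refine core_of_core2 (ZStar.Reduction.mem_of_sq_mem hy0odd ?_) hy0odd
    have hz'P := hWP' hz'
    have h1 : y₀ * z' * y₀⁻¹ * z' ∈ core2 (x * z') := mul_mem (core2_conj hy0C hz'P) hz'P
    rwa [mul_assoc _ y₀⁻¹, show y₀ * z' * (y₀⁻¹ * z') = y₀ * (z' * y₀⁻¹ * z') by
        simp only [mul_assoc],
      show z' * y₀⁻¹ * z' = y₀ by
        have := congrArg (·⁻¹) hz'inv
        simpa [mul_inv_rev, invol_inv hz'o, mul_assoc] using this,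
      ← pow_two] at h1
  refine ⟨z', hz', hz'o, ⟨k, hk, y₀ ^ (-((n : ℤ) + 1)), zpow_mem hy0core _, ?_⟩, ?_⟩
  · -- undo the conjugation
    have hyk : k * y₀ ^ (-((n : ℤ) + 1)) = y ^ (-((n : ℤ) + 1)) * k := by
      have hyy : y₀ = MulAut.conj k⁻¹ y := by simp [hy0]
      rw [hyy, ← map_zpow, MulAut.conj_apply, inv_inv]
      group
    rw [hyk, show y ^ (-((n : ℤ) + 1)) * k * z' * (y ^ (-((n : ℤ) + 1)) * k)⁻¹ =
      y ^ (-((n : ℤ) + 1)) * (k * z' * k⁻¹) * (y ^ (-((n : ℤ) + 1)))⁻¹ by group, ← hkz]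
    have hcv : Commute (v ^ (-((n : ℤ) + 1))) u' :=
      (hcomm.mul_left (Commute.refl u')).zpow_left _
    have hvyc : Commute v y := hvy'
    have hr' : (r : G) ^ (-((n : ℤ) + 1)) =
        y ^ (-((n : ℤ) + 1)) * v ^ (-((n : ℤ) + 1)) := by
      rw [← hvyc.symm.mul_zpow, ← hvy'.trans rfl, hvy]
    calc u = r ^ (-((n : ℤ) + 1)) * u' * (r ^ (-((n : ℤ) + 1)))⁻¹ := by rw [hu', zpow_neg]; group
      _ = y ^ (-((n : ℤ) + 1)) * (v ^ (-((n : ℤ) + 1)) * u' * (v ^ (-((n : ℤ) + 1)))⁻¹) *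
            (y ^ (-((n : ℤ) + 1)))⁻¹ := by rw [hr']; group
      _ = _ := by rw [hcv.eq, mul_inv_cancel_right]
  · intro M hM χ hχ
    rw [← hvy]
    have hyv : y ∈ Cfsg.centralizerPPrimeCore 2 v := by
      have := mem_core_conj (k := k) hy0core
      rwa [← hvk, show k * y₀ * k⁻¹ = y by rw [hy0]; group] at this
    rw [ZStar.UniqueCase.principalConst G M hM v y 1 (by rw [hvo, pow_one]) hyv χ hχ, hvk]
    exact (classFunction_apply_of_isConj (isClassFunction_irr χ)
      (isConj_iff.2 ⟨k, rfl⟩ : IsConj (x * z') (k * (x * z') * k⁻¹))).symm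

/-- The conjugating elements with a given label. -/
def labSet (z x z' : G) : Set G := {g | Lab x z' (g * z * g⁻¹)}

/-- The count of the conjugators is symmetrical. -/
theorem Setup.card_lab (h : Setup T W t) (hx : InX W t x) {z' a : G} (hz' : z' ∈ W)
    (h2 : z' * z' = 1) (ha : a * z * a⁻¹ = z') :
    Nat.card (labSet z x z') *
      (Nat.card ↥(core x ⊓ Subgroup.centralizer ({z'} : Set G)) *
        Nat.card ↥(core (x * z') ⊓ Subgroup.centralizer ({z'} : Set G))) =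
      Nat.card (core x) * (Nat.card (core (x * z')) *
        Nat.card (Subgroup.centralizer ({z} : Set G))) := by
  classical
  obtain ⟨-, -, hcW, -⟩ := h.inX_comm hx
  choose kf hkf lf hlf hef using fun g : labSet z x z' => g.2
  have hcD : ∀ c ∈ core x ⊓ Subgroup.centralizer ({z'} : Set G),
      c ∈ core x ∧ c * z' = z' * c ∧ c * (x * z') = x * z' * c := by
    intro c hc
    have h1 := mem_core_comm hc.1
    have h3 := Subgroup.mem_centralizer_singleton_iff.1 hc.2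
    exact ⟨hc.1, h3, ((Commute.mul_right (h1 : Commute c x) h3) : Commute c (x * z'))⟩
  let F : labSet z x z' × ↥(core x ⊓ Subgroup.centralizer ({z'} : Set G)) ×
      ↥(core (x * z') ⊓ Subgroup.centralizer ({z'} : Set G)) →
      core x × core (x * z') × Subgroup.centralizer ({z} : Set G) := fun p =>
    ⟨⟨kf p.1 * p.2.1, mul_mem (hkf p.1) p.2.1.2.1⟩,
      ⟨(p.2.1 : G)⁻¹ * lf p.1 * p.2.1 * p.2.2,
        mul_mem (core_conj' (hcD _ p.2.1.2).2.2 (hlf p.1)) p.2.2.2.1⟩,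
      ⟨a⁻¹ * (kf p.1 * p.2.1 * ((p.2.1 : G)⁻¹ * lf p.1 * p.2.1 * p.2.2))⁻¹ * p.1, by
        refine Subgroup.mem_centralizer_singleton_iff.2 ?_
        set K := kf p.1 * p.2.1 * ((p.2.1 : G)⁻¹ * lf p.1 * p.2.1 * p.2.2) with hK
        have hcz : Commute ((p.2.1 : G) * p.2.2) z' :=
          Commute.mul_left (hcD _ p.2.1.2).2.1 (Subgroup.mem_centralizer_singleton_iff.1 p.2.2.2.2)
        have e1 : (p.1 : G) * z * (p.1 : G)⁻¹ = K * z' * K⁻¹ := by
          rw [hef p.1, show K = kf p.1 * lf p.1 * ((p.2.1 : G) * p.2.2) by rw [hK]; group,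
            mul_assoc (kf p.1 * lf p.1) _ z', hcz.eq]
          group
        have e2 : z' = a * z * a⁻¹ := ha.symm
        calc a⁻¹ * K⁻¹ * p.1 * z = a⁻¹ * K⁻¹ * ((p.1 : G) * z * (p.1 : G)⁻¹) * p.1 := by group
          _ = a⁻¹ * (a * z * a⁻¹) * K⁻¹ * p.1 := by rw [ha, e1]; group
          _ = z * (a⁻¹ * K⁻¹ * p.1) := by group⟩⟩
  have hF : Function.Bijective F := by
    constructor
    · rintro ⟨g, c, d⟩ ⟨g', c', d'⟩ e
      simp only [F, Prod.mk.injEq, Subtype.mk.injEq] at e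
      obtain ⟨e1, e2, e3⟩ := e
      have hg : g = g' := Subtype.ext (by
        rw [e1, e2] at e3
        exact mul_left_cancel e3)
      subst hg
      have hc : c = c' := Subtype.ext (mul_left_cancel e1)
      subst hc
      have hd : d = d' := Subtype.ext (mul_left_cancel e2)
      subst hd
      rfl
    · rintro ⟨⟨k, hk⟩, ⟨l, hl⟩, ⟨s, hs⟩⟩
      have hsz : s * z = z * s := Subgroup.mem_centralizer_singleton_iff.1 hs
      have hgl : (k * l * a * s) * z * (k * l * a * s)⁻¹ = k * l * z' * (k * l)⁻¹ := by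
        rw [← ha]
        calc (k * l * a * s) * z * (k * l * a * s)⁻¹ = k * l * a * (s * z) * s⁻¹ * a⁻¹ * (k * l)⁻¹ := by
              group
          _ = _ := by rw [hsz]; group
      let g : labSet z x z' := ⟨k * l * a * s, k, hk, l, hl, hgl⟩
      have e0 : kf g * lf g * z' * (kf g * lf g)⁻¹ = k * l * z' * (k * l)⁻¹ :=
        (hef g).symm.trans hgl
      obtain ⟨-, hcz⟩ := h.lab_unique hx hz' hz' h2 h2 (hkf g) hk (hlf g) hl e0
      set c := (kf g)⁻¹ * k with hc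
      have hcx : c ∈ core x := mul_mem (inv_mem (hkf g)) hk
      have hcc : c ∈ core x ⊓ Subgroup.centralizer ({z'} : Set G) :=
        ⟨hcx, Subgroup.mem_centralizer_singleton_iff.2 hcz⟩
      set d := (c⁻¹ * lf g * c)⁻¹ * l with hd
      have hdc : d ∈ core (x * z') ⊓ Subgroup.centralizer ({z'} : Set G) := by
        refine Subgroup.mem_inf.2 ⟨mul_mem (inv_mem (core_conj' (hcD _ hcc).2.2 (hlf g))) hl,
          Subgroup.mem_centralizer_singleton_iff.2 ?_⟩
        have e1 : l * z' * l⁻¹ = c⁻¹ * (lf g * z' * (lf g)⁻¹) * c := by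
          calc l * z' * l⁻¹ = k⁻¹ * (k * l * z' * (k * l)⁻¹) * k := by group
            _ = k⁻¹ * (kf g * lf g * z' * (kf g * lf g)⁻¹) * k := by rw [e0]
            _ = _ := by rw [hc]; group
        have e2 : c * z' * c⁻¹ = z' := by rw [show c * z' = z' * c from hcz]; group
        calc d * z' = c⁻¹ * (lf g)⁻¹ * c * (l * z' * l⁻¹) * l := by rw [hd]; group
          _ = c⁻¹ * z' * c * d := by rw [e1, hd]; group
          _ = z' * d := by
            rw [show c⁻¹ * z' * c = z' by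
              rw [mul_assoc, ← show c * z' = z' * c from hcz, inv_mul_cancel_left]]
      refine ⟨⟨g, ⟨c, hcc⟩, ⟨d, hdc⟩⟩, ?_⟩
      have ek : kf g * c = k := by rw [hc]; group
      have el : c⁻¹ * lf g * c * d = l := by rw [hd]; group
      simp only [F, Prod.mk.injEq, Subtype.mk.injEq]
      refine ⟨ek, el, ?_⟩
      rw [ek, el]
      show a⁻¹ * (k * l)⁻¹ * (k * l * a * s) = s
      group
  have := Nat.card_congr (Equiv.ofBijective F hF)
  simpa only [Nat.card_prod] using this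

theorem Setup.card_symm (h : Setup T W t) (hx : InX W t x) {z' : G} (hz' : z' ∈ W)
    (h2 : z' * z' = 1) :
    Nat.card (labSet z x z') = Nat.card (labSet z (x * z') z') := by
  classical
  by_cases hex : ∃ a, a * z * a⁻¹ = z'
  · obtain ⟨a, ha⟩ := hex
    have hx' := h.mul_inX hx hz' h2
    have e1 := h.card_lab hx hz' h2 ha
    have e2 := h.card_lab hx' hz' h2 ha
    rw [mul_assoc, h2, mul_one] at e2
    have e3 := e1.trans (show _ = Nat.card (labSet z (x * z') z') *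
      (Nat.card ↥(core x ⊓ Subgroup.centralizer ({z'} : Set G)) *
        Nat.card ↥(core (x * z') ⊓ Subgroup.centralizer ({z'} : Set G))) by
      rw [mul_comm (Nat.card ↥(core x ⊓ Subgroup.centralizer ({z'} : Set G))), e2]; ring)
    exact Nat.eq_of_mul_eq_mul_right (Nat.mul_pos Nat.card_pos Nat.card_pos) e3
  · have hemp : ∀ x, IsEmpty (labSet z x z') := fun x => ⟨fun g => hex (by
      obtain ⟨k, -, l, -, e⟩ := g.2
      refine ⟨(k * l)⁻¹ * g, ?_⟩
      calc (k * l)⁻¹ * g * z * ((k * l)⁻¹ * g)⁻¹ = (k * l)⁻¹ * ((g : G) * z * (g : G)⁻¹) * (k * l) := by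
            group
        _ = z' := by rw [e]; group)⟩
    haveI := hemp x
    haveI := hemp (x * z')
    rw [Nat.card_of_isEmpty, Nat.card_of_isEmpty]

theorem not_simple (h : Setup T W t) (hW1 : W ≠ ⊥) : ¬ IsSimpleGroup G := by
  classical
  intro hsimple
  haveI : Fact (Nat.Prime 2) := ⟨Nat.prime_two⟩
  cases nonempty_fintype G
  obtain ⟨j, hj0, hj⟩ := (T.2.to_le h.le : IsPGroup 2 W).nontrivial_iff_card.1
    (Subgroup.nontrivial_iff_ne_bot _ |>.2 hW1)
  obtain ⟨⟨z, hz⟩, hzo⟩ := exists_prime_orderOf_dvd_card' 2 (hj ▸ dvd_pow_self 2 (by omega) : 2 ∣ Nat.card W)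
  rw [Subgroup.orderOf_mk] at hzo
  let E : Finset G := Finset.univ.filter fun w => w ∈ W ∧ w * w = 1
  have hE : ∀ {w}, w ∈ E ↔ w ∈ W ∧ w * w = 1 := by simp [E]
  have hX : ∀ {w}, w ∈ E → InX W t (w * t) := by
    intro w hw
    obtain ⟨hwW, hw2⟩ := hE.1 hw
    refine ⟨w, hwW, rfl, invol_iff.2 ⟨?_, fun e => h.htW ?_⟩⟩
    · calc w * t * (w * t) = w * (t * w) * t := by simp only [mul_assoc]
        _ = w * w * (t * t) := by rw [← h.central w hwW t h.htT]; simp only [mul_assoc]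
        _ = 1 := by rw [hw2, invol_mul_self h.ht, one_mul]
    · rw [inv_eq_of_mul_eq_one_right e |>.symm]; exact inv_mem hwW
  have hmulE : ∀ {w w'}, w ∈ E → w' ∈ E → w * w' ∈ E := by
    intro w w' hw hw'
    obtain ⟨hwW, hw2⟩ := hE.1 hw
    obtain ⟨hwW', hw2'⟩ := hE.1 hw'
    refine hE.2 ⟨mul_mem hwW hwW', ?_⟩
    calc w * w' * (w * w') = w * (w' * w) * w' := by simp only [mul_assoc]
      _ = w * w * (w' * w') := by
        rw [h.central w' hwW' w (h.le hwW)]; simp only [mul_assoc]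
      _ = 1 := by rw [hw2, hw2', one_mul]
  obtain ⟨M, hM⟩ := Blocks.exists_isPModular 2 Nat.prime_two
  have := hM.2.1
  -- the averaged identity
  have key : ∀ χ ∈ Cfsg.principalBlock M G,
      ((χ : G → ℂ) z / (χ : G → ℂ) 1 - 1) * ∑ w ∈ E, (χ : G → ℂ) (w * t) = 0 := by
    intro χ hχ
    let n : G → G → ℂ := fun w z' =>
      ((Finset.univ.filter fun g => g ∈ labSet z (w * t) z').card : ℂ)
    have hrow : ∀ w ∈ E, ((Nat.card G : ℂ) * (χ : G → ℂ) (w * t) * (χ : G → ℂ) z / (χ : G → ℂ) 1) =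
        ∑ z' ∈ E, n w z' * (χ : G → ℂ) (w * z' * t) ∧ ∑ z' ∈ E, n w z' = (Nat.card G : ℂ) := by
      intro w hw
      obtain ⟨hwW, -⟩ := hE.1 hw
      choose lab hlW hlo hlab hlχ using fun g => h.exists_lab hz hzo (hX hw) g
      have hfib : ∀ z' ∈ E, (Finset.univ.filter fun g => g ∈ labSet z (w * t) z') =
          Finset.univ.filter fun g => lab g = z' := by
        intro z' hz'
        obtain ⟨hz'W, hz'2⟩ := hE.1 hz'
        ext g
        simp only [Finset.mem_filter, Finset.mem_univ, true_and]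
        constructor
        · rintro ⟨k, hk, l, hl, e⟩
          obtain ⟨k', hk', l', hl', e'⟩ := hlab g
          exact (h.lab_unique (hX hw) (hlW g) hz'W (invol_mul_self (hlo g)) hz'2 hk' hk hl' hl
            (e'.symm.trans e)).1
        · rintro rfl
          exact hlab g
      have hmaps : ∀ g ∈ (Finset.univ : Finset G), lab g ∈ E := fun g _ =>
        hE.2 ⟨hlW g, invol_mul_self (hlo g)⟩
      refine ⟨?_, ?_⟩
      · have hsum := Blocks.sum_char_conj_mul χ (w * t) z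
        rw [show (Nat.card G : ℂ) * (χ : G → ℂ) (w * t) * (χ : G → ℂ) z / (χ : G → ℂ) 1 =
          (Nat.card G : ℂ) * (χ : G → ℂ) z / (χ : G → ℂ) 1 * (χ : G → ℂ) (w * t) by ring, ← hsum]
        rw [show (∑ g, (χ : G → ℂ) (g * z * g⁻¹ * (w * t))) =
          ∑ g, (χ : G → ℂ) (w * t * lab g) from Finset.sum_congr rfl fun g _ => by
            rw [← hlχ g M hM χ hχ]
            exact classFunction_apply_of_isConj (isClassFunction_irr χ)
              (isConj_iff.2 ⟨w * t, by group⟩)]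
        rw [← Finset.sum_fiberwise_of_maps_to hmaps]
        refine Finset.sum_congr rfl fun z' hz' => ?_
        simp only [n]
        rw [hfib z' hz', ← nsmul_eq_mul, ← Finset.sum_const]
        refine Finset.sum_congr rfl fun g hg => ?_
        rw [(Finset.mem_filter.1 hg).2, mul_assoc w t z', ← h.central z' (hE.1 hz').1 t h.htT,
          ← mul_assoc]
      · simp only [n]
        rw [Finset.sum_congr rfl fun z' hz' => by rw [hfib z' hz'], ← Nat.cast_sum,
          ← Finset.card_eq_sum_card_fiberwise hmaps, Finset.card_univ, Nat.card_eq_fintype_card]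
    have hsym : ∀ w ∈ E, ∀ z' ∈ E, n w z' = n (w * z') z' := by
      intro w hw z' hz'
      obtain ⟨hz'W, hz'2⟩ := hE.1 hz'
      simp only [n]
      congr 1
      rw [← Fintype.card_subtype, ← Fintype.card_subtype, ← Nat.card_eq_fintype_card,
        ← Nat.card_eq_fintype_card]
      have e := h.card_symm (z := z) (hX hw) hz'W hz'2
      rw [mul_assoc w t z', ← h.central z' hz'W t h.htT, ← mul_assoc] at e
      exact e
    have htot : (Nat.card G : ℂ) * (χ : G → ℂ) z / (χ : G → ℂ) 1 * ∑ w ∈ E, (χ : G → ℂ) (w * t) =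
        (Nat.card G : ℂ) * ∑ w ∈ E, (χ : G → ℂ) (w * t) := by
      calc (Nat.card G : ℂ) * (χ : G → ℂ) z / (χ : G → ℂ) 1 * ∑ w ∈ E, (χ : G → ℂ) (w * t)
          = ∑ w ∈ E, ∑ z' ∈ E, n w z' * (χ : G → ℂ) (w * z' * t) := by
            rw [Finset.mul_sum]
            refine Finset.sum_congr rfl fun w hw => ?_
            rw [← (hrow w hw).1]; ring
        _ = ∑ z' ∈ E, ∑ w ∈ E, n (w * z') z' * (χ : G → ℂ) (w * z' * t) := by
            rw [Finset.sum_comm]
            exact Finset.sum_congr rfl fun z' hz' => Finset.sum_congr rfl fun w hw => by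
              rw [hsym w hw z' hz']
        _ = ∑ z' ∈ E, ∑ w ∈ E, n w z' * (χ : G → ℂ) (w * t) := by
            refine Finset.sum_congr rfl fun z' hz' => ?_
            refine Finset.sum_nbij' (fun w => w * z') (fun w => w * z')
              (fun w hw => hmulE hw hz') (fun w hw => hmulE hw hz') ?_ ?_ (fun w _ => rfl)
            · intro w _; simp [mul_assoc, (hE.1 hz').2]
            · intro w _; simp [mul_assoc, (hE.1 hz').2]
        _ = _ := by
            rw [Finset.sum_comm, Finset.mul_sum]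
            refine Finset.sum_congr rfl fun w hw => ?_
            rw [← Finset.sum_mul, (hrow w hw).2]
    have hG0 : (Nat.card G : ℂ) ≠ 0 := Nat.cast_ne_zero.2 Nat.card_pos.ne'
    refine mul_left_cancel₀ hG0 ?_
    rw [mul_zero, ← sub_eq_zero.2 htot]
    ring
  have hnz : ∀ χ : Cfsg.IrrCharacter G, χ ≠ oneChar G → (χ : G → ℂ) z ≠ (χ : G → ℂ) 1 := by
    intro χ hne e
    have hall : ∀ g : G, (χ : G → ℂ) g = (χ : G → ℂ) 1 := by
      intro g
      by_contra hg
      have hk := Characters.Kernel.charKer_eq_bot_of_simple (isCharacter_irr χ) hg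
      have hzk : z ∈ Characters.Kernel.charKer (isCharacter_irr χ) :=
        (Characters.Kernel.mem_charKer _ _).2 e
      rw [hk, Subgroup.mem_bot] at hzk
      exact invol_ne_one hzo hzk
    have h0 := classInner_irr_of_ne hne
    simp only [Cfsg.classInner, oneChar_apply, map_one, mul_one, hall, Finset.sum_const,
      Finset.card_univ, nsmul_eq_mul, ← Nat.card_eq_fintype_card] at h0
    rw [← mul_assoc, inv_mul_cancel₀ (Nat.cast_ne_zero.2 Nat.card_pos.ne'), one_mul] at h0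
    exact apply_one_ne_zero χ h0
  have := Fintype.ofFinite (Cfsg.IrrCharacter G)
  set S := Finset.univ.filter (fun χ => χ ∈ Cfsg.principalBlock M G)
  have horth : ∀ w ∈ E, ∑ χ ∈ S, (χ : G → ℂ) 1 * starRingEnd ℂ ((χ : G → ℂ) (w * t)) = 0 := by
    intro w hw
    obtain ⟨-, -, -, ho⟩ := hX hw
    have hh := Blocks.weak_orthogonality hM (Blocks.isPBlock_principalBlock (G := G))
      (x := (1 : G)) (y := w * t) (by simp) (by rw [ho])
    rwa [finsum_mem_eq_sum_of_inter_support_eq (t := S) _ (by simp [S])] at hh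
  have h0 := Finset.sum_eq_zero horth
  rw [Finset.sum_comm, Finset.sum_eq_single (oneChar G)] at h0
  · simp only [oneChar_apply, map_one, one_mul, Finset.sum_const, nsmul_eq_mul, mul_one,
      Nat.cast_eq_zero, Finset.card_eq_zero] at h0
    exact Finset.notMem_empty (1 : G) (h0 ▸ hE.2 ⟨one_mem W, one_mul 1⟩)
  · intro χ hχ hne
    have hzero : ∑ w ∈ E, (χ : G → ℂ) (w * t) = 0 := by
      refine (mul_eq_zero.1 (key χ (Finset.mem_filter.1 hχ).2)).resolve_left fun e => hnz χ hne ?_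
      exact (div_eq_one_iff_eq (apply_one_ne_zero χ)).1 (sub_eq_zero.1 e)
    rw [← Finset.mul_sum, ← map_sum, hzero, map_zero, mul_zero]
  · intro hn
    exact absurd (Finset.mem_filter.2 ⟨Finset.mem_univ _, Blocks.oneChar_mem_principalBlock⟩) hn

end Closed

/-- A non-simplicity criterion by weak closure. Let T be a Sylow 2-subgroup of a finite group G, W a nontrivial subgroup of the centre of T that is weakly closed in T with respect to G, and t an involution of T outside W. Suppose that for every involution x in the coset Wt, W lies in O_{2',2}(C_G(x)), the preimage of O₂ of C_G(x)/O_{2'}(C_G(x)). Then G is not simple. -/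
theorem result {G : Type*} [Group G] [Finite G]
    (T : Sylow 2 G) (W : Subgroup G) (hW1 : W ≠ ⊥) (hWZ : W ≤ (T : Subgroup G) ⊓ Subgroup.centralizer ((T : Subgroup G) : Set G))
    (hwc : Cfsg.IsWeaklyClosed W (T : Subgroup G)) (t : G) (ht : orderOf t = 2) (htT : t ∈ (T : Subgroup G)) (htW : t ∉ W)
    (hcos : ∀ w ∈ W, orderOf (w * t) = 2 →
      W.subgroupOf (Subgroup.centralizer ({w * t} : Set G)) ≤ Cfsg.pPrimePCore 2 ↥(Subgroup.centralizer ({w * t} : Set G))) :
    ¬ IsSimpleGroup G := by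
  have hle : W ≤ (T : Subgroup G) := hWZ.trans inf_le_left
  refine not_simple (t := t) ⟨hle, fun w hw s hs => ?_, hwc.2, ht, htT, htW, fun w hw ho => ?_⟩ hW1
  · exact (Subgroup.mem_centralizer_iff.1 (hWZ hw).2 s hs).symm
  · intro v hv
    have hwT : w * t ∈ (T : Subgroup G) := mul_mem (hle hw) htT
    have hvC : v ∈ Subgroup.centralizer ({w * t} : Set G) :=
      Subgroup.mem_centralizer_singleton_iff.2
        ((Subgroup.mem_centralizer_iff.1 (hWZ hv).2 _ hwT).symm)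
    exact ⟨⟨v, hvC⟩, hcos w hw ho (Subgroup.mem_subgroupOf.2 hv), rfl⟩

end Cfsg.Agent.S3312
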