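import Cfsg.Statements.S3313
import Cfsg.Agent.Lib.HallJanko.OrderCount
import Cfsg.Agent.Lib.Components.GenFitting
import Cfsg.Agent.Lib.LargeExtra.TwoConjugate
import Cfsg.Agent.Lib.Cores.Basic
import Cfsg.Agent.Lib.FusionP3.GenExtra.Iso
-- import your own Cfsg.Agent.* helpers here

set_option autoImplicit false
open Cfsg

namespace Cfsg.Agent.S3313

/-- The order of a simple group with the involution pattern of the Hall–Janko group. Let G be a non-abelian finite simple group with exactly two conjugacy classes of involutions, represented by z and t, such that: F*(C_G(z)) is an extraspecial 2-group; Q = O₂(C_G(z)) has order 32 and C_G(z) is the semidirect product of Q by a subgroup isomorphic to A₅; every involution of Q is conjugate to z and every other involution of C_G(z) is conjugate to t; C_G(t) is an internal direct product V × B with V a four-group containing t and B ≅ A₅; every involution of B is conjugate to z and every other involution of C_G(t) is conjugate to t. Then |G| =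 604800. -/
theorem result {G : Type*} [Group G] [Finite G]
    [IsSimpleGroup G] (hna : ¬ IsMulCommutative G) (z t : G) (hz : orderOf z = 2) (ht : orderOf t = 2)
    (hzt : ¬ IsConj z t) (hcl : ∀ x : G, orderOf x = 2 → IsConj x z ∨ IsConj x t)
    (hex : Cfsg.IsExtraspecial 2 ↥(Cfsg.generalizedFittingSubgroup ↥(Subgroup.centralizer ({z} : Set G))))
    (hQ : Nat.card ↥(Cfsg.pCore 2 ↥(Subgroup.centralizer ({z} : Set G))) = 32)
    (K : Subgroup G) (hK : Nonempty (↥K ≃* alternatingGroup (Fin 5)))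
    (hKC : K ⊔ (Cfsg.pCore 2 ↥(Subgroup.centralizer ({z} : Set G))).map (Subgroup.centralizer ({z} : Set G)).subtype = Subgroup.centralizer ({z} : Set G))
    (hKQ : K ⊓ (Cfsg.pCore 2 ↥(Subgroup.centralizer ({z} : Set G))).map (Subgroup.centralizer ({z} : Set G)).subtype = ⊥)
    (hQz : ∀ x ∈ (Cfsg.pCore 2 ↥(Subgroup.centralizer ({z} : Set G))).map (Subgroup.centralizer ({z} : Set G)).subtype, orderOf x = 2 → IsConj x z)
    (hCz : ∀ x ∈ Subgroup.centralizer ({z} : Set G), orderOf x = 2 →
      x ∉ (Cfsg.pCore 2 ↥(Subgroup.centralizer ({z} : Set G))).map (Subgroup.centralizer ({z} : Set G)).subtype → IsConj x t)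
    (V B : Subgroup G) (hVB : Cfsg.IsInternalDirectProduct V B (Subgroup.centralizer ({t} : Set G)))
    (hV : Nat.card ↥V = 4) (hV2 : ∀ v ∈ V, v ^ 2 = 1) (htV : t ∈ V) (hB : Nonempty (↥B ≃* alternatingGroup (Fin 5)))
    (hBz : ∀ x ∈ B, orderOf x = 2 → IsConj x z)
    (hCt : ∀ x ∈ Subgroup.centralizer ({t} : Set G), orderOf x = 2 → x ∉ B → IsConj x t) :
    Nat.card G = 604800 := by
  classical
  haveI : Fact (Nat.Prime 2) := ⟨Nat.prime_two⟩
  set C := Subgroup.centralizer ({z} : Set G) with hC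
  set P := Cfsg.pCore 2 C with hP
  set Q := P.map C.subtype with hQdef
  -- `F*(C) = O₂(C)`
  have hF : Cfsg.generalizedFittingSubgroup C = P := by
    have hle : P ≤ Cfsg.generalizedFittingSubgroup C :=
      (Cfsg.Agent.Lib.Cores.pCore_le_fittingSubgroup 2).trans
        Cfsg.Agent.Lib.Components.GenFitting.fitting_le_generalizedFitting
    have hnorm : (Cfsg.generalizedFittingSubgroup C).Normal :=
      Cfsg.Agent.Lib.Components.GenFitting.generalizedFitting_normal
    exact le_antisymm (le_sSup ⟨hnorm, hex.1.1⟩) hle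
  rw [hF] at hex
  have hzC : z ∈ C := Subgroup.mem_centralizer_singleton_iff.2 rfl
  have hQC : Q ≤ C := Subgroup.map_subtype_le _
  have hself0 : Subgroup.centralizer (P : Set C) ≤ P := by
    have := Cfsg.Agent.Lib.Components.GenFitting.centralizer_le (G := C)
    rwa [hF] at this
  have hzP : (⟨z, hzC⟩ : C) ∈ P := hself0 (Subgroup.mem_centralizer_iff.2 fun q _ =>
    Subtype.ext (Subgroup.mem_centralizer_singleton_iff.1 q.2))
  have hEs : Cfsg.IsExtraspecial 2 Q :=
    Cfsg.Agent.Lib.FusionP3.GenExtra.isExtraspecial_congr (P.equivMapOfInjective _ C.subtype_injective) hex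
  have hcen : (Subgroup.center ↥Q).map Q.subtype = Subgroup.zpowers z := by
    refine (Subgroup.eq_of_le_of_card_ge (Subgroup.zpowers_le.2 ?_) ?_).symm
    · exact Cfsg.Agent.Lib.LargeExtra.Basic.mem_centerMap.2 ⟨⟨_, hzP, rfl⟩, fun y hy =>
        Subgroup.mem_centralizer_singleton_iff.1 (hQC hy)⟩
    · rw [Cfsg.Agent.Lib.LargeExtra.Basic.card_centerMap hEs, Nat.card_zpowers, hz]
  have hes := (Cfsg.Agent.Lib.LargeExtra.TwoConjugate.es_of hEs hcen).1
  haveI hPn : P.Normal := Cfsg.Agent.Lib.LargeExtraspecial.Basic.pCore_normal 2 C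
  have hQcard : Nat.card Q = 32 := by
    rw [hQdef, Subgroup.card_map_of_injective C.subtype_injective]; exact hQ
  have hnorm : ∀ c : G, Commute c z → ∀ q ∈ Q, c * q * c⁻¹ ∈ Q := by
    rintro c hc q ⟨q', hq', rfl⟩
    exact ⟨⟨c, Subgroup.mem_centralizer_singleton_iff.2 hc⟩ * q' *
      ⟨c, Subgroup.mem_centralizer_singleton_iff.2 hc⟩⁻¹, hPn.conj_mem q' hq' _, rfl⟩
  -- the order of `C(z)`
  obtain ⟨eK⟩ := hK
  obtain ⟨eB⟩ := hB
  have h60 : Nat.card (alternatingGroup (Fin 5)) = 60 := by
    rw [Nat.card_eq_fintype_card]; decide +kernel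
  have hKle : K ≤ C := hKC ▸ le_sup_left
  have hcentC : Nat.card C = 1920 := by
    have hbij : Function.Bijective (fun p : K × Q => (⟨p.1.1 * p.2.1, mul_mem (hKle p.1.2) (hQC p.2.2)⟩ : C)) := by
      constructor
      · rintro ⟨a, b⟩ ⟨a', b'⟩ h
        have h' : (a : G) * b = a' * b' := congrArg Subtype.val h
        have e : (a' : G)⁻¹ * a = b' * (b : G)⁻¹ := by
          rw [eq_mul_inv_iff_mul_eq, mul_assoc, h', inv_mul_cancel_left]
        have h1 : (a' : G)⁻¹ * a = 1 := Subgroup.mem_bot.1 (hKQ ▸ Subgroup.mem_inf.2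
          ⟨mul_mem (inv_mem a'.2) a.2, e ▸ mul_mem b'.2 (inv_mem b.2)⟩)
        have ha : (a' : G) = a := inv_mul_eq_one.1 h1
        rw [ha] at h'
        exact Prod.ext (Subtype.ext ha.symm) (Subtype.ext (mul_left_cancel h'))
      · rintro ⟨c, hc⟩
        have hc' : c ∈ ((K ⊔ Q : Subgroup G) : Set G) := hKC.symm ▸ hc
        rw [Subgroup.coe_mul_of_left_le_normalizer_right] at hc'
        · obtain ⟨a, ha, b, hb, rfl⟩ := hc'
          exact ⟨(⟨a, ha⟩, ⟨b, hb⟩), rfl⟩
        · intro k hk
          have hkz : Commute k z := Subgroup.mem_centralizer_singleton_iff.1 (hKle hk)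
          rw [Subgroup.mem_normalizer_iff]
          refine fun q => ⟨fun hq => hnorm k hkz q hq, fun hq => ?_⟩
          have := hnorm k⁻¹ hkz.inv_left _ hq
          simpa [mul_assoc] using this
    rw [← Nat.card_eq_of_bijective _ hbij, Nat.card_prod, hQcard, Nat.card_congr eK.toEquiv, h60]
  have hself : ∀ c : G, (∀ q ∈ Q, Commute c q) → c = 1 ∨ c = z := by
    intro c hc
    have hcC : c ∈ C := Subgroup.mem_centralizer_singleton_iff.2 (hc z ⟨_, hzP, rfl⟩).eq
    have h1 : (⟨c, hcC⟩ : C) ∈ P := hself0 (Subgroup.mem_centralizer_iff.2 fun q hq =>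
      Subtype.ext (hc q ⟨q, hq, rfl⟩).eq.symm)
    exact hes.center c ⟨_, h1, rfl⟩ fun p hp => (hc p hp).symm
  -- a non-central involution of `Q`
  have hinv : ∃ x ∈ Q, x * x = 1 ∧ x ≠ 1 ∧ x ≠ z := by
    obtain ⟨a, haQ, ha1, haz⟩ : ∃ a ∈ Q, a ≠ 1 ∧ a ≠ z := by
      by_contra hc
      push Not at hc
      have hsub : (Q : Set G) ⊆ {1, z} := fun a ha => by
        by_cases h1 : a = 1
        · exact Or.inl h1
        · exact Or.inr (hc a ha h1)
      have h2 := Set.ncard_le_ncard hsub (Set.toFinite _)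
      rw [Set.ncard_pair hes.ne.symm, ← Nat.card_coe_set_eq] at h2
      change Nat.card Q ≤ 2 at h2
      omega
    rcases hes.sq_cases haQ with ha2 | ha2
    · exact ⟨a, haQ, ha2, ha1, haz⟩
    set D := Q ⊓ Subgroup.centralizer ({a} : Set G) with hD
    have hD16 : 16 ≤ Nat.card D := by
      let φ : Q →* Multiplicative (ZMod 2) :=
        { toFun := fun q => Multiplicative.ofAdd (Cfsg.Agent.Lib.LargeExtraspecial.Basic.chi (q : G) a)
          map_one' := congrArg Multiplicative.ofAdd
            (Cfsg.Agent.Lib.LargeExtraspecial.Basic.chi_eq_zero.2 (Commute.one_left a))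
          map_mul' := fun q r => congrArg Multiplicative.ofAdd (hes.chi_mul_left q.2 r.2 haQ) }
      have hk : Nat.card φ.ker = Nat.card D := Nat.card_congr
        { toFun := fun x => ⟨x.1.1, x.1.2, Subgroup.mem_centralizer_singleton_iff.2
            (Cfsg.Agent.Lib.LargeExtraspecial.Basic.chi_eq_zero.1 (Multiplicative.ofAdd.injective x.2)).eq⟩
          invFun := fun x => ⟨⟨x.1, x.2.1⟩, congrArg Multiplicative.ofAdd
            (Cfsg.Agent.Lib.LargeExtraspecial.Basic.chi_eq_zero.2 (Subgroup.mem_centralizer_singleton_iff.1 x.2.2))⟩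
          left_inv := fun x => rfl
          right_inv := fun x => rfl }
      have h1 := Subgroup.card_mul_index φ.ker
      rw [Subgroup.index_ker, hk, hQcard] at h1
      have h2 : Nat.card φ.range ≤ 2 := by
        refine (Subgroup.card_le_card_group _).trans ?_
        simp [Nat.card_eq_fintype_card]
      have h3 := Nat.mul_le_mul_left (Nat.card D) h2
      omega
    obtain ⟨c, hc, hc1, hcz, hca, hcaz⟩ : ∃ c ∈ D, c ≠ 1 ∧ c ≠ z ∧ c ≠ a ∧ c ≠ a * z := by
      by_contra hc
      push Not at hc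
      have hsub : (D : Set G) ⊆ {1, z, a, a * z} := fun x hx => by
        by_cases h1 : x = 1
        · exact Or.inl h1
        by_cases h2 : x = z
        · exact Or.inr (Or.inl h2)
        by_cases h3 : x = a
        · exact Or.inr (Or.inr (Or.inl h3))
        · exact Or.inr (Or.inr (Or.inr (hc x hx h1 h2 h3)))
      have h2 := Set.ncard_le_ncard hsub (Set.toFinite _)
      have h3 : ({1, z, a, a * z} : Set G).ncard ≤ 4 := by
        refine (Set.ncard_insert_le _ _).trans (Nat.succ_le_succ ?_)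
        refine (Set.ncard_insert_le _ _).trans (Nat.succ_le_succ ?_)
        exact (Set.ncard_insert_le _ _).trans (Nat.succ_le_succ (Set.ncard_singleton _).le)
      rw [← Nat.card_coe_set_eq] at h2
      change Nat.card D ≤ _ at h2
      omega
    rcases hes.sq_cases hc.1 with hc2 | hc2
    · exact ⟨c, hc.1, hc2, hc1, hcz⟩
    · have hac : Commute a c := (Subgroup.mem_centralizer_singleton_iff.1 hc.2).symm
      refine ⟨a * c, mul_mem haQ hc.1, ?_, fun e => ?_, fun e => ?_⟩
      · rw [show a * c * (a * c) = a * (c * a) * c by group, ← hac.eq,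
          show a * (a * c) * c = a * a * (c * c) by group, ha2, hc2, hes.sq]
      · -- `c = a⁻¹ = a z`
        refine hcaz (mul_left_cancel (a := a) ?_)
        rw [e, ← mul_assoc, ha2, hes.sq]
      · refine hca (mul_left_cancel (a := a) ?_)
        rw [e, ha2]
  obtain ⟨x, hxQ, hx2, hx1, hxz⟩ := hinv
  have hfus : ∃ g : G, g * z * g⁻¹ ∈ Q ∧ g * z * g⁻¹ ≠ z := by
    have hxc := hQz x hxQ (Lib.Involutions.Basic.invol_iff.2 ⟨hx2, hx1⟩)
    obtain ⟨g, hg⟩ := isConj_iff.1 hxc.symm
    exact ⟨g, by rw [hg]; exact ⟨hxQ, hxz⟩⟩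
  obtain ⟨u, hu⟩ := (Lib.HallJanko.Base.exists_five
    (⟨hz, hes, hQcard, hcentC, hnorm, hself, hfus⟩ : Lib.HallJanko.Base z Q))
  -- an involution of `K`
  obtain ⟨k, hk⟩ := exists_prime_orderOf_dvd_card' (G := K) 2
    (by rw [Nat.card_congr eK.toEquiv, h60]; norm_num)
  rw [← Subgroup.orderOf_coe] at hk
  have hkQ : (k : G) ∉ Q := fun e => Lib.Involutions.Basic.invol_ne_one hk
    (Subgroup.mem_bot.1 (hKQ ▸ Subgroup.mem_inf.2 ⟨k.2, e⟩))
  obtain ⟨hVle, hBle, hVBc, hVB, hVBs⟩ := hVB
  have hCtcard : Nat.card (Subgroup.centralizer ({t} : Set G)) = 240 := by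
    have hbij : Function.Bijective (fun p : V × B =>
        (⟨p.1.1 * p.2.1, mul_mem (hVle p.1.2) (hBle p.2.2)⟩ : Subgroup.centralizer ({t} : Set G))) := by
      constructor
      · rintro ⟨a, b⟩ ⟨a', b'⟩ h
        have h' : (a : G) * b = a' * b' := congrArg Subtype.val h
        have e : (a' : G)⁻¹ * a = b' * (b : G)⁻¹ := by
          rw [eq_mul_inv_iff_mul_eq, mul_assoc, h', inv_mul_cancel_left]
        have h1 : (a' : G)⁻¹ * a = 1 := Subgroup.mem_bot.1 (hVB ▸ Subgroup.mem_inf.2
          ⟨mul_mem (inv_mem a'.2) a.2, e ▸ mul_mem b'.2 (inv_mem b.2)⟩)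
        have ha : (a' : G) = a := inv_mul_eq_one.1 h1
        rw [ha] at h'
        exact Prod.ext (Subtype.ext ha.symm) (Subtype.ext (mul_left_cancel h'))
      · rintro ⟨c, hc⟩
        have hc' : c ∈ ((V ⊔ B : Subgroup G) : Set G) := hVBs.symm ▸ hc
        rw [Subgroup.coe_mul_of_right_le_normalizer_left] at hc'
        · obtain ⟨a, ha, b, hb, rfl⟩ := hc'
          exact ⟨(⟨a, ha⟩, ⟨b, hb⟩), rfl⟩
        · intro b hb
          rw [Subgroup.mem_normalizer_iff]
          intro v
          constructor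
          · intro hv
            rw [← hVBc v hv b hb, mul_inv_cancel_right]; exact hv
          · intro hv
            have h1 := hVBc _ hv b hb
            have : v = b * v * b⁻¹ := by
              calc v = b⁻¹ * (b * v * b⁻¹ * b) := by group
                _ = b⁻¹ * (b * (b * v * b⁻¹)) := by rw [h1]
                _ = b * v * b⁻¹ := by group
            rw [this]; exact hv
    rw [← Nat.card_eq_of_bijective _ hbij, Nat.card_prod, hV, Nat.card_congr eB.toEquiv, h60]
  have hnz := Lib.HallJanko.OrderCount.count_z hu hzt ht (fun y hy ho => (hQz y hy ho).symm)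
    (fun y hy ho hn => (hCz y hy ho hn).symm) (hKle k.2) (Lib.Involutions.Basic.invol_mul_self hk) hkQ
  have hnt := Lib.HallJanko.OrderCount.count_t hz ht hzt V B hVle hBle hVBc hVB hVBs
    (fun v hv => by rw [← pow_two]; exact hV2 v hv) htV eB (fun y hy ho => (hBz y hy ho).symm)
    (fun y hy ho hn => (hCt y hy ho hn).symm)
  rw [Lib.Involutions.Thompson.order_formula z t hz ht hzt
    (fun y hy => (hcl y hy).imp IsConj.symm IsConj.symm), hnz, hnt, hcentC, hCtcard]

end Cfsg.Agent.S3313
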