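import Cfsg.Statements.S3315
import Cfsg.Agent.Lib.U3Sylow.Aut

set_option autoImplicit false
set_option linter.style.haveILetI false
open Cfsg

namespace Cfsg.Agent.S3315

open Cfsg.Agent.Lib.U3Sylow

/-- Let S be a Sylow 2-subgroup of SU₃(2ⁿ), n ≥ 2 (realised over the field with 4ⁿ elements). If a finite 2-group R contains a subgroup S' of index 2 isomorphic to S, then the centre of S' is contained in the centre of R. -/
theorem result {R : Type*} [Group R] [Finite R]
    (hR : IsPGroup 2 R) (n : ℕ) (hn : 2 ≤ n) {F : Type*} [Field F] [Fintype F] (hF : Fintype.card F = 4 ^ n)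
    (P : Sylow 2 ↥(Cfsg.SU 3 F (2 ^ n))) (S' : Subgroup R) (hS : Nonempty (↥S' ≃* ↥(P : Subgroup ↥(Cfsg.SU 3 F (2 ^ n)))))
    (hidx : S'.index = 2) :
    (Subgroup.center ↥S').map S'.subtype ≤ Subgroup.center R := by
  classical
  have hF' : Fintype.card F = (2 ^ n) ^ 2 := by rw [hF, ← pow_mul, mul_comm n 2, pow_mul]; norm_num
  obtain ⟨c₀⟩ := exists_coords_SU hF' P
  obtain ⟨e⟩ := hS
  let c := c₀.trans e
  haveI : S'.Normal := Subgroup.normal_of_index_eq_two hidx
  rintro _ ⟨z, hz, rfl⟩
  rw [Subgroup.mem_center_iff]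
  intro r
  by_cases hr : r ∈ S'
  · exact congrArg Subtype.val (Subgroup.mem_center_iff.1 hz ⟨r, hr⟩)
  let α : MulAut S' := MulAut.conjNormal r
  have hr2 : r ^ 2 ∈ S' := by
    have := Subgroup.sq_mem_of_index_two hidx r
    exact this
  have hα2 : ∀ s, c.a (α (α s)) = c.a s := by
    intro s
    have : α (α s) = (⟨r ^ 2, hr2⟩ : S') * s * (⟨r ^ 2, hr2⟩ : S')⁻¹ := Subtype.ext (by
      simp only [α, MulAut.conjNormal_apply, Subgroup.coe_mul, Subgroup.coe_inv]
      rw [pow_two]; group)
    rw [this, c.a_mul, c.a_mul, add_comm (c.a _) (c.a s), add_assoc, ← c.a_mul, mul_inv_cancel,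
      c.a_one, add_zero]
  obtain ⟨l, i, hi, hl⟩ := c.classify hF' α
  haveI := charP_two hF'
  have h2i : ∀ x : F, (l : F) * ((l : F) * x ^ 2 ^ i) ^ 2 ^ i = x := fun x => by
    obtain ⟨s, rfl⟩ := c.exists_a hF' x
    rw [← (hl s).1, ← (hl _).1, hα2]
  have hl1 : (l : F) * (l : F) ^ 2 ^ i = 1 := by simpa using h2i 1
  have hpow : ∀ x : F, x ^ 2 ^ (i + i) = x := fun x => by
    have h := h2i x
    rw [mul_pow, ← mul_assoc, hl1, one_mul, ← pow_mul, ← pow_add] at h
    exact h
  have hcase : i = 0 ∨ i = n := by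
    by_cases h : i + i < 2 * n
    · have := frob_unique hF' h (by omega : 0 < 2 * n) fun x => by rw [hpow, pow_zero, pow_one]
      omega
    · obtain ⟨d, hd⟩ := Nat.exists_eq_add_of_le (Nat.le_of_not_lt h)
      have hd' : ∀ x : F, x ^ 2 ^ d = x := fun x => by
        have h' := hpow x
        rwa [hd, pow_add, pow_mul, show 2 ^ (2 * n) = Fintype.card F by
          rw [hF, pow_mul]; norm_num, FiniteField.pow_card] at h'
      have := frob_unique hF' (i := d) (by omega) (by omega : 0 < 2 * n) fun x => by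
        rw [hd', pow_zero, pow_one]
      omega
  have hza := (c.mem_center_iff hF').1 hz
  have hfix : α z = z := by
    refine c.ext (by rw [(hl z).1, hza, zero_pow (pow_ne_zero _ two_ne_zero), mul_zero]) ?_
    rw [(hl z).2 hza]
    rcases hcase with rfl | rfl
    · have : (l : F) = 1 := CharTwo.sq_injective (by simpa [sq] using hl1)
      simp [this]
    · rw [hl1, one_mul, c.b_fixed hF' hza]
  have h : r * (z : R) * r⁻¹ = z := congrArg Subtype.val hfix
  exact mul_inv_eq_iff_eq_mul.1 h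

end Cfsg.Agent.S3315
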