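import Cfsg.Statements.S3317
import Cfsg.Agent.Lib.J4Six76.Setup
-- import your own Cfsg.Agent.* helpers here

set_option autoImplicit false
open Cfsg

namespace Cfsg.Agent.S3317

/-- Let G be a finite group of characteristic 2 type with an element x of order 3 whose centralizer is the perfect sixfold cover of M₂₂ (perfect, cyclic centre of order 6, central quotient isomorphic to M₂₂). Suppose G is not 3-normal: the centre of some Sylow 3-subgroup S has a conjugate lying in S other than itself. Then G is of Janko-four type: some involution z has centralizer H whose largest normal 2-subgroup E is extraspecial of order 2^13 containing its centralizer in H, with a normal subgroup N ≥ E of H, N/E of order 3, H/N the automorphism group of M₂₂, and a subgroup P ≤ N of order 3 with C_E(P) = ⟨z⟩, N_H(P) ≠ C_H(P) and P ≤ C_H(P)′. -/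
theorem result {G : Type*} [Group G] [Finite G] (h2 : Cfsg.IsCharacteristicTwoType G) (x : G) (hx : orderOf x = 3) (hperf : ⁅(⊤ : Subgroup ↥(Subgroup.centralizer ({x} : Set G))), (⊤ : Subgroup ↥(Subgroup.centralizer ({x} : Set G)))⁆ = ⊤) (hZ : IsCyclic ↥(Subgroup.center ↥(Subgroup.centralizer ({x} : Set G)))) (hZc : Nat.card ↥(Subgroup.center ↥(Subgroup.centralizer ({x} : Set G))) = 6) (e : ↥(Subgroup.centralizer ({x} : Set G)) ⧸ Subgroup.center ↥(Subgroup.centralizer ({x} : Set G)) ≃* ↥Cfsg.Spor.M22) (S : Sylow 3 G) (g : G) (hng : ((Subgroup.center ↥(S : Subgroup G)).map (S : Subgroup G).subtype).map (MulAut.conj g).toMonoidHom ≤ (S : Subgroup G)) (hne : ((Subgroup.center ↥(S : Subgroup G)).map (S : Subgroup G).subtype).map (MulAut.conj g).toMonoidHom ≠ ((Subgroup.center ↥(S : Subgroup G)).map (S : Subgroup G).subtype)) :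
    Cfsg.IsOfJankoFourType G := by
  obtain ⟨z, hz, hfin⟩ := Cfsg.Agent.Lib.J4Six76.janko_of_sixfold x hx hperf hZ hZc e S g hng hne
  refine ⟨z, hfin ?_⟩
  have hT : Subgroup.zpowers z ≠ ⊥ := fun hb => by
    rw [Subgroup.zpowers_eq_bot] at hb
    rw [hb, orderOf_one] at hz
    omega
  have h := h2.2 (Subgroup.zpowers z) (IsPGroup.of_card (n := 1) (by rw [Nat.card_zpowers, hz, pow_one])) hT
  have heq : Subgroup.normalizer ((Subgroup.zpowers z : Subgroup G) : Set G) =
      Subgroup.centralizer ({z} : Set G) := by
    refine le_antisymm (fun c hc => ?_) ?_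
    · rw [Subgroup.mem_centralizer_singleton_iff]
      have hm : c * z * c⁻¹ ∈ Subgroup.zpowers z :=
        (Subgroup.mem_normalizer_iff.mp hc z).mp (Subgroup.mem_zpowers z)
      obtain ⟨i, hi⟩ := Subgroup.mem_zpowers_iff.mp hm
      rw [← zpow_mod_orderOf, hz] at hi
      rcases Int.emod_two_eq i with e1 | e1
      · rw [show i % ((2 : ℕ) : ℤ) = 0 from e1, zpow_zero] at hi
        have : z = 1 := conj_eq_one_iff.mp hi.symm
        rw [this, orderOf_one] at hz
        omega
      · rw [show i % ((2 : ℕ) : ℤ) = 1 from e1, zpow_one] at hi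
        exact mul_inv_eq_iff_eq_mul.mp hi.symm
    · refine (Subgroup.centralizer_le_normalizer _).trans' ?_
      rw [Subgroup.zpowers_eq_closure, Subgroup.centralizer_closure]
  unfold Cfsg.IsOfCharacteristicTwo at h
  rw [heq] at h
  intro c hc
  exact h (Subgroup.mem_centralizer_iff.mpr fun q hq => (hc q hq).eq)

end Cfsg.Agent.S3317
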