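import Cfsg.Statements.S3348
import Cfsg.Agent.Lib.ThreeLocal66.Amalgam.Finish
import Cfsg.Agent.Lib.PSolvable.Basic
import Cfsg.Agent.Lib.Linear.FamilyHom
import Cfsg.Agent.Lib.Golay.Simple
import Cfsg.Agent.S2916
import Cfsg.Agent.S3286

set_option autoImplicit false
open Cfsg

namespace Cfsg.Agent.S3348

open Cfsg.Agent.Lib.ThreeLocal66 Cfsg.Agent.Lib.ThreeLocal66.Amalgam in
theorem side_of {G : Type*} [Group G] [Finite G] (A : Subgroup G)
    (eA : A ⧸ Cfsg.pCore 3 A ≃* GL (Fin 2) (ZMod 3))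
    (hOA : IsMulCommutative (Cfsg.pCore 3 A) ∧ (∀ x ∈ Cfsg.pCore 3 A, x ^ 3 = 1) ∧
      Nat.card (Cfsg.pCore 3 A) = 9 ∧
      Subgroup.centralizer ((Cfsg.pCore 3 A : Subgroup A) : Set A) = Cfsg.pCore 3 A) :
    Side A ((Cfsg.pCore 3 A).map A.subtype) := by
  obtain ⟨hc, h3, h9, hself⟩ := hOA
  haveI : Fact (Nat.Prime 3) := ⟨Nat.prime_three⟩
  refine ⟨?_, Subgroup.map_subtype_le _, ?_, ?_, ?_, ?_, ?_⟩
  · have h48 : Nat.card (GL (Fin 2) (ZMod 3)) = 48 := by
      rw [Matrix.card_GL_field]; simp [Fin.prod_univ_two]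
    rw [← Subgroup.card_mul_index (Cfsg.pCore 3 A), h9, Subgroup.index_eq_card,
      Nat.card_congr eA.toEquiv, h48]
  · rintro h hh _ ⟨x, hx, rfl⟩
    exact ⟨⟨h, hh⟩ * x * ⟨h, hh⟩⁻¹,
      (Cfsg.Agent.Lib.PSolvable.pCore_normal' (p := 3) (G := A)).conj_mem x hx _, rfl⟩
  · rw [Subgroup.card_map_of_injective A.subtype_injective, h9]
  · rintro _ ⟨x, hx, rfl⟩
    have := congrArg Subtype.val (h3 x hx)
    simpa [pow_succ, pow_two] using this
  · rintro _ ⟨x, hx, rfl⟩ _ ⟨y, hy, rfl⟩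
    exact congrArg (fun z : Cfsg.pCore 3 A => ((z : A) : G)) (hc.is_comm.comm ⟨x, hx⟩ ⟨y, hy⟩)
  · intro h hh hcomm
    refine ⟨⟨h, hh⟩, ?_, rfl⟩
    rw [SetLike.mem_coe, ← hself, Subgroup.mem_centralizer_iff]
    intro y hy
    exact Subtype.ext (hcomm _ ⟨y, hy, rfl⟩).symm

open Cfsg.Agent.Lib.ThreeLocal66 Cfsg.Agent.Lib.ThreeLocal66.Amalgam in
theorem le_of_sylow {G : Type*} [Group G] [Finite G] {A O S : Subgroup G} (hA : Side A O)
    (hS : S ≤ A) (h27 : Nat.card S = 27) : O ≤ S := by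
  haveI : Fact (Nat.Prime 3) := ⟨Nat.prime_three⟩
  have hO : IsPGroup 3 O := IsPGroup.of_card (n := 2) (by rw [hA.card_O]; norm_num)
  have hS3 : IsPGroup 3 S := IsPGroup.of_card (n := 3) (by rw [h27]; norm_num)
  have hn : S ≤ Subgroup.normalizer (O : Set G) := fun x hx => by
    refine Subgroup.mem_normalizer_iff.2 fun y => ⟨hA.norm x (hS hx) y, fun hy => ?_⟩
    have h := hA.norm x⁻¹ (A.inv_mem (hS hx)) _ hy
    rwa [show x⁻¹ * (x * y * x⁻¹) * x⁻¹⁻¹ = y by group] at h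
  have hp := IsPGroup.to_sup_of_normal_right' hS3 hO hn
  obtain ⟨k, hk⟩ := hp.exists_card_eq
  have hd : Nat.card (S ⊔ O : Subgroup G) ∣ 432 :=
    hA.card ▸ Subgroup.card_dvd_of_le (sup_le hS hA.le)
  rw [hk] at hd
  have hk3 : k ≤ 3 := by
    by_contra h
    have : 3 ^ 4 ∣ 432 := (Nat.pow_dvd_pow 3 (by omega : 4 ≤ k)).trans hd
    norm_num at this
  have heq : S = S ⊔ O := Subgroup.eq_of_le_of_card_ge le_sup_left (by
    rw [hk, h27]; exact (Nat.pow_le_pow_right (by norm_num) hk3).trans (by norm_num))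
  exact heq ▸ le_sup_right

open Cfsg.Agent.Lib.ThreeLocal66.Amalgam in
/-- Let G be a finite group generated by isomorphic subgroups A and B such that C = A ∩ B contains a Sylow 3-subgroup of each of A and B and no non-trivial subgroup of C is normalized by both A and B. Suppose A/O₃(A) and B/O₃(B) are isomorphic to GL(2,3), that O₃(A) and O₃(B) are elementary abelian of order 9 and self-centralizing in A and B respectively (natural modules), and that for a Sylow 3-subgroup S of C the normalizer N_G(Z(S)) lies in A ∩ B. Then G is isomorphic to the Mathieu group M₁₂ or to PSL(3,3). -/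
theorem result {G : Type*} [Group G] [Finite G]
    (A B : Subgroup G) (eAB : Nonempty (A ≃* B)) (hgen : A ⊔ B = ⊤)
    (hSylA : ¬ 3 ∣ ((A ⊓ B).subgroupOf A).index) (hSylB : ¬ 3 ∣ ((A ⊓ B).subgroupOf B).index)
    (hcore : ∀ N : Subgroup G, N ≤ A ⊓ B → (∀ a ∈ A, N.map (MulAut.conj a).toMonoidHom = N) →
      (∀ b ∈ B, N.map (MulAut.conj b).toMonoidHom = N) → N = ⊥)
    (eA : A ⧸ Cfsg.pCore 3 A ≃* GL (Fin 2) (ZMod 3)) (eB : B ⧸ Cfsg.pCore 3 B ≃* GL (Fin 2) (ZMod 3))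
    (hOA : IsMulCommutative (Cfsg.pCore 3 A) ∧ (∀ x ∈ Cfsg.pCore 3 A, x ^ 3 = 1) ∧ Nat.card (Cfsg.pCore 3 A) = 9 ∧
      Subgroup.centralizer ((Cfsg.pCore 3 A : Subgroup A) : Set A) = Cfsg.pCore 3 A)
    (hOB : IsMulCommutative (Cfsg.pCore 3 B) ∧ (∀ x ∈ Cfsg.pCore 3 B, x ^ 3 = 1) ∧ Nat.card (Cfsg.pCore 3 B) = 9 ∧
      Subgroup.centralizer ((Cfsg.pCore 3 B : Subgroup B) : Set B) = Cfsg.pCore 3 B)
    (S : Sylow 3 ↥(A ⊓ B)) (Z : Subgroup G)
    (hZ : Z = ((S : Subgroup ↥(A ⊓ B)) ⊓ Subgroup.centralizer ((S : Subgroup ↥(A ⊓ B)) : Set ↥(A ⊓ B))).map (A ⊓ B).subtype)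
    (hNZ : Subgroup.normalizer (Z : Set G) ≤ A ⊓ B) :
    Cfsg.Spor.IsoM12 G ∨ Nonempty (G ≃* Matrix.ProjectiveSpecialLinearGroup (Fin 3) (ZMod 3)) := by
  haveI : Fact (Nat.Prime 3) := ⟨Nat.prime_three⟩
  haveI : Fact (Nat.Prime 2) := ⟨Nat.prime_two⟩
  have sA := side_of A eA hOA
  have sB := side_of B eB hOB
  set OA := (Cfsg.pCore 3 A).map A.subtype
  set OB := (Cfsg.pCore 3 B).map B.subtype
  set S' := (S : Subgroup ↥(A ⊓ B)).map (A ⊓ B).subtype with hS'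
  have hSA : S' ≤ A := (Subgroup.map_subtype_le _).trans inf_le_left
  have hSB : S' ≤ B := (Subgroup.map_subtype_le _).trans inf_le_right
  have h27 : Nat.card S' = 27 := by
    rw [hS', Subgroup.card_map_of_injective (A ⊓ B).subtype_injective, S.card_eq_multiplicity]
    have h := Subgroup.card_mul_index ((A ⊓ B).subgroupOf A)
    rw [Nat.card_congr (Subgroup.subgroupOfEquivOfLe (inf_le_left : A ⊓ B ≤ A)).toEquiv, sA.card] at h
    have hi : ((A ⊓ B).subgroupOf A).index ≠ 0 := by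
      intro e; rw [e, mul_zero] at h; norm_num at h
    have h3 : (432 : ℕ).factorization 3 = 3 := by
      rw [show (432 : ℕ) = 16 * 27 from rfl, Nat.factorization_mul (by norm_num) (by norm_num),
        Finsupp.add_apply, Nat.factorization_eq_zero_of_not_dvd (by norm_num),
        show (27 : ℕ) = 3 ^ 3 from rfl, Nat.factorization_pow, Finsupp.smul_apply,
        Nat.prime_three.factorization_self]
      rfl
    rw [← h, Nat.factorization_mul Nat.card_pos.ne' hi, Finsupp.add_apply,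
      Nat.factorization_eq_zero_of_not_dvd hSylA, add_zero] at h3
    rw [h3]; norm_num
  have hOAS := le_of_sylow sA hSA h27
  have hOBS := le_of_sylow sB hSB h27
  have hne : OA ≠ OB := by
    intro e
    have hinv : ∀ {H O : Subgroup G}, Side H O → ∀ a ∈ H, O.map (MulAut.conj a).toMonoidHom = O := by
      intro H O hs a ha
      refine le_antisymm ?_ fun x hx => ⟨a⁻¹ * x * a, ?_, by simp; group⟩
      · rintro _ ⟨x, hx, rfl⟩
        exact hs.norm a ha x hx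
      · have := hs.norm a⁻¹ (H.inv_mem ha) x hx
        rwa [inv_inv] at this
    have hb := hcore OA (le_inf (hOAS.trans hSA) (hOAS.trans hSB)) (hinv sA)
      (fun b hb => by rw [e]; exact hinv sB b hb)
    have h9 := sA.card_O
    change Nat.card OA = 9 at h9
    rw [hb, Subgroup.card_bot] at h9
    norm_num at h9
  have T : Setting A B OA OB Z S' := by
    refine ⟨sA, sB, hgen, hne, h27, hSA, hSB, hOAS, hOBS, fun x => ?_, hNZ⟩
    rw [hZ]
    constructor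
    · rintro ⟨a, ⟨ha, hc⟩, rfl⟩
      refine ⟨⟨a, ha, rfl⟩, ?_⟩
      rintro _ ⟨b, hb, rfl⟩
      exact congrArg Subtype.val ((Subgroup.mem_centralizer_iff.1 hc) b hb).symm
    · rintro ⟨⟨a, ha, rfl⟩, hc⟩
      exact ⟨a, ⟨ha, Subgroup.mem_centralizer_iff.2 fun b hb =>
        Subtype.ext (hc _ ⟨b, hb, rfl⟩).symm⟩, rfl⟩
  obtain ⟨t, r, u, q, g, z, w, ⟨K⟩⟩ := exists_coords T
  haveI := K.simple T
  have ht : orderOf t = 2 := orderOf_eq_prime (by rw [pow_two]; exact K.tt) K.t_ne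
  rcases K.shape T with h | ⟨u₀, hu₀, ⟨φ⟩⟩
  · rcases Cfsg.Agent.S2916.result (K.residual T) t ht h with ⟨F, hF, hFin, hcard, ⟨ψ⟩⟩ | hM11
    · right
      obtain ⟨e⟩ := Cfsg.Agent.Lib.Linear.nonempty_pslCongr_zmod (ι := Fin 3) (F := F) 3 hcard
      exact ⟨ψ.trans e⟩
    · exfalso
      obtain ⟨ψ⟩ := hM11
      have h1 := Subgroup.card_subgroup_dvd_card S'
      rw [h27, Nat.card_congr ψ.toEquiv, Cfsg.Agent.Lib.Golay.card_spor_M11] at h1
      norm_num at h1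
  · exact Or.inl (Cfsg.Agent.S3286.result (K.not_comm) u₀ hu₀ t ht φ)

end Cfsg.Agent.S3348
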