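import Cfsg.Statements.S3349


set_option autoImplicit false
open Cfsg
open scoped commutatorElement

namespace Cfsg.Agent.S3349

/-- Let Q be a finite extraspecial p-group and α an automorphism of Q fixing every element of some maximal abelian subgroup of Q. Then the order of α is a power of p. -/
theorem result {Q : Type*} [Group Q] [Finite Q]
    (p : ℕ) [Fact p.Prime] (hQ : Cfsg.IsExtraspecial p Q) (α : MulAut Q)
    (A : Subgroup Q) (hA : IsMulCommutative A) (hmax : ∀ B : Subgroup Q, A ≤ B → IsMulCommutative B → B = A)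
    (hfix : ∀ a ∈ A, α a = a) :
    ∃ k : ℕ, orderOf α = p ^ k := by
  obtain ⟨⟨hP, -, hder⟩, -⟩ := hQ
  have hsub : Subgroup.centralizer (A : Set Q) ≤ A := by
    intro x hx
    have hB : IsMulCommutative (A ⊔ Subgroup.zpowers x : Subgroup Q) := by
      rw [Subgroup.sup_eq_closure]
      refine Subgroup.isMulCommutative_closure ?_
      intro a ha b hb
      rw [Subgroup.mem_centralizer_iff] at hx
      rcases ha with ha | ⟨i, rfl⟩ <;> rcases hb with hb | ⟨j, rfl⟩
      · exact congrArg Subtype.val (hA.is_comm.comm ⟨a, ha⟩ ⟨b, hb⟩)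
      · exact Commute.zpow_right (hx a ha) j
      · exact (Commute.zpow_right (hx b hb) i).symm
      · exact Commute.zpow_zpow_self x i j
    have := hmax _ le_sup_left hB
    exact this ▸ Subgroup.mem_sup_right (Subgroup.mem_zpowers x)
  have hcen : Subgroup.center Q ≤ A := (Subgroup.center_le_centralizer _).trans hsub
  have hnorm : ∀ x : Q, ∀ a ∈ A, x * a * x⁻¹ ∈ A := by
    intro x a ha
    have h : x * a * x⁻¹ * a⁻¹ ∈ A := hcen (hder ▸ (Subgroup.commutator_mem_commutator
      (Subgroup.mem_top x) (Subgroup.mem_top a) : ⁅x, a⁆ ∈ _root_.commutator Q))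
    simpa [mul_assoc] using A.mul_mem h ha
  have hc : ∀ x : Q, x⁻¹ * α x ∈ A := by
    intro x
    refine hsub (Subgroup.mem_centralizer_iff.2 fun a ha => ?_)
    have h1 : α x * a * (α x)⁻¹ = x * a * x⁻¹ := by
      have := hfix _ (hnorm x a ha)
      rwa [map_mul, map_mul, map_inv, hfix a ha] at this
    calc a * (x⁻¹ * α x) = x⁻¹ * (x * a * x⁻¹) * α x := by group
      _ = x⁻¹ * (α x * a * (α x)⁻¹) * α x := by rw [h1]
      _ = x⁻¹ * α x * a := by group
  have hpow : ∀ (k : ℕ) (x : Q), (α ^ k) x = x * (x⁻¹ * α x) ^ k := by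
    intro k
    induction k with
    | zero => intro x; simp
    | succ k ih =>
      intro x
      rw [pow_succ', MulAut.mul_apply, ih, map_mul, map_pow, hfix _ (hc x), pow_succ' (x⁻¹ * α x),
        ← mul_assoc x, mul_inv_cancel_left]
  obtain ⟨n, hn⟩ := (IsPGroup.iff_card.1 hP)
  have h1 : α ^ (p ^ n) = 1 := by
    ext x
    rw [hpow, ← hn, pow_card_eq_one', mul_one, MulAut.one_apply]
  obtain ⟨k, -, hk⟩ := (Nat.dvd_prime_pow (Fact.out : p.Prime)).1 (orderOf_dvd_of_pow_eq_one h1)
  exact ⟨k, hk⟩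

end Cfsg.Agent.S3349
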