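import Cfsg.Statements.S3356
import Cfsg.Agent.Lib.HalfTransAut.Basic
import Mathlib.GroupTheory.GroupAction.Basic

set_option autoImplicit false
open Cfsg

namespace Cfsg.Agent.S3356

/-- Let G be a finite 3/2-transitive permutation group: G acts faithfully and transitively on a finite set, the point stabilizers are non-trivial, and for each point a all orbits of G_a on the remaining points have the same size. Suppose G has a regular normal subgroup N and G is not a Frobenius group (some two-point stabilizer is non-trivial). Then N is an elementary abelian p-group for some prime p, and every non-trivial normal subgroup of G contains N (so N is the unique minimal normal subgroup). -/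
theorem result {G Ω : Type*} [Group G] [Finite G]
    [MulAction G Ω] [FaithfulSMul G Ω] [Finite Ω] (htrans : MulAction.IsPretransitive G Ω)
    (hne : ∀ a : Ω, MulAction.stabilizer G a ≠ ⊥)
    (hhalf : ∀ a b c : Ω, b ≠ a → c ≠ a →
      Nat.card (MulAction.orbit (MulAction.stabilizer G a) b) = Nat.card (MulAction.orbit (MulAction.stabilizer G a) c))
    (N : Subgroup G) [hN : N.Normal] (hNt : MulAction.IsPretransitive N Ω) (hNr : ∀ a : Ω, MulAction.stabilizer N a = ⊥)
    (hnotF : ∃ a b : Ω, a ≠ b ∧ MulAction.stabilizer G a ⊓ MulAction.stabilizer G b ≠ ⊥) :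
    (∃ p : ℕ, p.Prime ∧ IsMulCommutative N ∧ ∀ x ∈ N, x ^ p = 1) ∧
    (∀ M : Subgroup G, M.Normal → M ≠ ⊥ → N ≤ M) := by
  classical
  haveI := htrans
  haveI := hNt
  obtain ⟨a, b, hab, hst⟩ := hnotF
  set A := MulAction.stabilizer G a with hA
  let φ : ↥A →* MulAut ↥N := (MulAut.conjNormal : G →* MulAut ↥N).comp A.subtype
  letI : MulDistribMulAction ↥A ↥N := MulDistribMulAction.compHom ↥N φ
  have hsm : ∀ (s : ↥A) (n : ↥N), ((s • n : ↥N) : G) = (s : G) * n * (s : G)⁻¹ := fun s n => by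
    show ((MulAut.conjNormal (s : G) n : ↥N) : G) = _
    exact MulAut.conjNormal_apply _ _
  let f : ↥N → Ω := fun n => (n : G) • a
  have hf : Function.Bijective f := by
    constructor
    · intro n n' h
      have hmem : n'⁻¹ * n ∈ MulAction.stabilizer ↥N a := by
        have h' : (n : G) • a = (n' : G) • a := h
        show ((n'⁻¹ * n : ↥N) : G) • a = a
        rw [Subgroup.coe_mul, mul_smul, h', Subgroup.coe_inv, inv_smul_smul]
      rw [hNr a, Subgroup.mem_bot, inv_mul_eq_one] at hmem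
      exact hmem.symm
    · intro ω
      obtain ⟨n, hn⟩ := MulAction.exists_smul_eq ↥N a ω
      exact ⟨n, hn⟩
  have hfeq : ∀ (s : ↥A) (n : ↥N), f (s • n) = (s : G) • f n := fun s n => by
    show ((s • n : ↥N) : G) • a = (s : G) • (n : G) • a
    have hs : (s : G)⁻¹ • a = a := inv_smul_eq_iff.mpr (s.2 : (s : G) • a = a).symm
    rw [hsm, mul_smul, mul_smul, hs]
  have hf1 : f 1 = a := one_smul G a
  have horb : ∀ n : ↥N, Nat.card (MulAction.orbit ↥A n) = Nat.card (MulAction.orbit (MulAction.stabilizer G a) (f n)) := fun n => by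
    refine Nat.card_congr ((Equiv.ofBijective f hf).subtypeEquiv fun z => ?_)
    constructor
    · rintro ⟨s, rfl⟩
      exact ⟨s, (hfeq s n).symm⟩
    · rintro ⟨s, hs⟩
      exact ⟨s, hf.1 ((hfeq s n).trans hs)⟩
  have hne1 : ∀ n : ↥N, n ≠ 1 → f n ≠ a := fun n hn h => hn (hf.1 (h.trans hf1.symm))
  have hhalf' : ∀ x y : ↥N, x ≠ 1 → y ≠ 1 → Nat.card (MulAction.orbit ↥A x) = Nat.card (MulAction.orbit ↥A y) := fun x y hx hy => by
    rw [horb, horb]
    exact hhalf a (f x) (f y) (hne1 x hx) (hne1 y hy)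
  have hfaith' : ∀ s : ↥A, (∀ x : ↥N, s • x = x) → s = 1 := fun s hs => by
    refine Subtype.ext (eq_of_smul_eq_smul fun ω : Ω => ?_)
    obtain ⟨n, rfl⟩ := hf.2 ω
    rw [← hfeq, hs]
    exact (one_smul G _).symm
  have hfix' : ∃ s : ↥A, s ≠ 1 ∧ ∃ x : ↥N, x ≠ 1 ∧ s • x = x := by
    obtain ⟨g, hg, hg1⟩ := (Subgroup.bot_or_exists_ne_one _).resolve_left hst
    obtain ⟨hga, hgb⟩ := Subgroup.mem_inf.mp hg
    obtain ⟨n, hn⟩ := hf.2 b
    refine ⟨⟨g, hga⟩, fun h => hg1 (congrArg Subtype.val h), n, fun h => hab ?_, hf.1 ?_⟩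
    · rw [← hn, h, hf1]
    · rw [hfeq, hn]
      exact hgb
  obtain ⟨p, hp, hcomm, hexp⟩ := Cfsg.Agent.Lib.HalfTransAut.Basic.elementary hhalf' hfaith' hfix'
  refine ⟨⟨p, hp, hcomm, fun x hx => ?_⟩, fun M hMn hM1 => ?_⟩
  · exact congrArg Subtype.val (hexp ⟨x, hx⟩)
  · haveI := hMn
    rcases Cfsg.Agent.Lib.HalfTransAut.Basic.eq_bot_or_top hhalf' hfaith' hfix' (M.subgroupOf N)
      (fun s n hn => by
        rw [Subgroup.mem_subgroupOf, hsm]
        exact hMn.conj_mem _ hn _) with h | h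
    · exfalso
      have hdisj : ∀ n ∈ N, n ∈ M → n = 1 := fun n hn hm => by
        have h1 : (⟨n, hn⟩ : ↥N) ∈ M.subgroupOf N := hm
        rw [h, Subgroup.mem_bot] at h1
        exact congrArg Subtype.val h1
      have hcen : ∀ m ∈ M, ∀ n ∈ N, n * m = m * n := fun m hm n hn => by
        have h1 : n * m * n⁻¹ * m⁻¹ = 1 := by
          refine hdisj _ ?_ (mul_mem (hMn.conj_mem m hm n) (inv_mem hm))
          have h2 : n * m * n⁻¹ * m⁻¹ = n * (m * n⁻¹ * m⁻¹) := by group
          rw [h2]
          exact mul_mem hn (hN.conj_mem _ (inv_mem hn) m)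
        exact mul_inv_eq_iff_eq_mul.mp (mul_inv_eq_one.mp h1)
      obtain ⟨m, hm, hm1⟩ := (Subgroup.bot_or_exists_ne_one M).resolve_left hM1
      obtain ⟨n, hn⟩ := hf.2 (m • a)
      have hmn : m = (n : G) := by
        refine eq_of_smul_eq_smul fun ω : Ω => ?_
        obtain ⟨k, rfl⟩ := hf.2 ω
        show m • (k : G) • a = (n : G) • (k : G) • a
        have hn' : (n : G) • a = m • a := hn
        rw [← mul_smul, ← hcen m hm k k.2, mul_smul, ← hn', ← mul_smul, ← mul_smul]
        congr 1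
        exact congrArg Subtype.val (mul_comm' k n)
      exact hm1 (hdisj m (hmn ▸ n.2) hm)
    · exact Subgroup.subgroupOf_eq_top.mp h

end Cfsg.Agent.S3356
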