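import Cfsg.Statements.S4291
import Cfsg.Agent.Lib.LAEven57.FrobQuot.Main

set_option autoImplicit false
open Cfsg

namespace Cfsg.Agent.S4291

open Cfsg.Agent.Lib Cfsg.Agent.Lib.LAEven57.FrobQuot

/-- Let G be a finite group that occurs as a Frobenius complement. Then G has exactly one normal subgroup N such that every Sylow subgroup of N is cyclic and the quotient of G by N is trivial or isomorphic to one of the following five groups: the Klein four-group, the alternating group of degree 4, the symmetric group of degree 4, the alternating group of degree 5, the symmetric group of degree 5. (The quotient is described by a surjective homomorphism with kernel N; the Klein four-group is written as the dihedral group of order 4.) -/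
theorem result {G : Type*} [Group G] [Finite G]
    (hFC : (∃ (L : Type) (_ : Group L) (_ : Finite L) (H : Subgroup L), Cfsg.IsFrobeniusComplement H ∧ Nonempty (G ≃* H))) :
    ∃! N : Subgroup G, N.Normal ∧ (∀ (p : ℕ) [Fact p.Prime] (P : Sylow p N), IsCyclic P) ∧
      (N = ⊤ ∨
        (∃ f : G →* DihedralGroup 2, Function.Surjective f ∧ f.ker = N) ∨
        (∃ f : G →* alternatingGroup (Fin 4), Function.Surjective f ∧ f.ker = N) ∨
        (∃ f : G →* Equiv.Perm (Fin 4), Function.Surjective f ∧ f.ker = N) ∨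
        (∃ f : G →* alternatingGroup (Fin 5), Function.Surjective f ∧ f.ker = N) ∨
        (∃ f : G →* Equiv.Perm (Fin 5), Function.Surjective f ∧ f.ker = N)) := by
  classical
  obtain ⟨n, hn, ρ, hρ⟩ := FpfLinear.Linearize.of_complement hFC
  haveI : NeZero n := ⟨hn.ne'⟩
  have toGood : ∀ N : Subgroup G, N.Normal ∧ (∀ (p : ℕ) [Fact p.Prime] (P : Sylow p N), IsCyclic P) ∧
      (N = ⊤ ∨
        (∃ f : G →* DihedralGroup 2, Function.Surjective f ∧ f.ker = N) ∨
        (∃ f : G →* alternatingGroup (Fin 4), Function.Surjective f ∧ f.ker = N) ∨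
        (∃ f : G →* Equiv.Perm (Fin 4), Function.Surjective f ∧ f.ker = N) ∨
        (∃ f : G →* alternatingGroup (Fin 5), Function.Surjective f ∧ f.ker = N) ∨
        (∃ f : G →* Equiv.Perm (Fin 5), Function.Surjective f ∧ f.ker = N)) → Good N := by
    rintro N ⟨hNn, hNc, hN⟩
    refine ⟨hNn, zg_iff.2 hNc, ?_⟩
    rcases hN with h | ⟨f, hf, rfl⟩ | ⟨f, hf, rfl⟩ | ⟨f, hf, rfl⟩ | ⟨f, hf, rfl⟩ | ⟨f, hf, rfl⟩
    · exact Or.inl h
    · refine Or.inr (Or.inr ⟨?_, fun g => MonoidHom.mem_ker.2 (by rw [map_mul]; exact klein_sq _)⟩)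
      rw [Subgroup.index_ker, MonoidHom.range_eq_top.2 hf, Subgroup.card_top, DihedralGroup.nat_card]
    · exact Or.inr (Or.inl fun _ => thick_card
        (Or.inl ⟨QuotientGroup.quotientKerEquivOfSurjective f hf⟩))
    · exact Or.inr (Or.inl fun _ => thick_card
        (Or.inr (Or.inl ⟨QuotientGroup.quotientKerEquivOfSurjective f hf⟩)))
    · exact Or.inr (Or.inl fun _ => thick_card
        (Or.inr (Or.inr (Or.inl ⟨QuotientGroup.quotientKerEquivOfSurjective f hf⟩))))
    · exact Or.inr (Or.inl fun _ => thick_card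
        (Or.inr (Or.inr (Or.inr ⟨QuotientGroup.quotientKerEquivOfSurjective f hf⟩))))
  suffices hex : ∃ N : Subgroup G, N.Normal ∧ (∀ (p : ℕ) [Fact p.Prime] (P : Sylow p N), IsCyclic P) ∧
      (N = ⊤ ∨
        (∃ f : G →* DihedralGroup 2, Function.Surjective f ∧ f.ker = N) ∨
        (∃ f : G →* alternatingGroup (Fin 4), Function.Surjective f ∧ f.ker = N) ∨
        (∃ f : G →* Equiv.Perm (Fin 4), Function.Surjective f ∧ f.ker = N) ∨
        (∃ f : G →* alternatingGroup (Fin 5), Function.Surjective f ∧ f.ker = N) ∨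
        (∃ f : G →* Equiv.Perm (Fin 5), Function.Surjective f ∧ f.ker = N)) by
    obtain ⟨N, hN⟩ := hex
    exact ⟨N, hN, fun M hM => eq_of_good (sqSub_index_le hρ) (toGood M hM) (toGood N hN)⟩
  by_cases hz : ZG (⊤ : Subgroup G)
  · exact ⟨⊤, inferInstance, zg_iff.1 hz, Or.inl rfl⟩
  by_cases hs : Group.IsSolvable G
  · haveI := hs
    obtain ⟨N, hNn, hNz, h⟩ := exists_solvable hρ hz
    refine ⟨N, hNn, zg_iff.1 hNz, Or.inr ?_⟩
    rcases h with ⟨⟨e⟩⟩ | ⟨⟨e⟩⟩ | ⟨⟨e⟩⟩
    · exact Or.inl ⟨e.toMonoidHom.comp (QuotientGroup.mk' N),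
        e.surjective.comp (QuotientGroup.mk'_surjective N),
        (MonoidHom.ker_mulEquiv_comp _ e).trans (QuotientGroup.ker_mk' N)⟩
    · exact Or.inr (Or.inl ⟨e.toMonoidHom.comp (QuotientGroup.mk' N),
        e.surjective.comp (QuotientGroup.mk'_surjective N),
        (MonoidHom.ker_mulEquiv_comp _ e).trans (QuotientGroup.ker_mk' N)⟩)
    · exact Or.inr (Or.inr (Or.inl ⟨e.toMonoidHom.comp (QuotientGroup.mk' N),
        e.surjective.comp (QuotientGroup.mk'_surjective N),
        (MonoidHom.ker_mulEquiv_comp _ e).trans (QuotientGroup.ker_mk' N)⟩))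
  · obtain ⟨N, hNn, hNz, h⟩ := exists_nonsolvable hρ hs
    refine ⟨N, hNn, zg_iff.1 hNz, Or.inr (Or.inr (Or.inr (Or.inr ?_)))⟩
    rcases h with ⟨⟨e⟩⟩ | ⟨⟨e⟩⟩
    · exact Or.inl ⟨e.toMonoidHom.comp (QuotientGroup.mk' N),
        e.surjective.comp (QuotientGroup.mk'_surjective N),
        (MonoidHom.ker_mulEquiv_comp _ e).trans (QuotientGroup.ker_mk' N)⟩
    · exact Or.inr ⟨e.toMonoidHom.comp (QuotientGroup.mk' N),
        e.surjective.comp (QuotientGroup.mk'_surjective N),
        (MonoidHom.ker_mulEquiv_comp _ e).trans (QuotientGroup.ker_mk' N)⟩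

end Cfsg.Agent.S4291
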