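import Cfsg.Statements.S3358
import Cfsg.Agent.S4291
import Cfsg.Agent.Lib.Frobenius.Complement
import Cfsg.Agent.Lib.Induced.FrobeniusKernel
-- import your own Cfsg.Agent.* helpers here

set_option autoImplicit false
set_option linter.style.haveILetI false
open Cfsg
open scoped commutatorElement

namespace Cfsg.Agent.S3358

/-- Prime-order elements normalising one another's subgroups commute. -/
def PrimeComm (N : Type*) [Group N] : Prop :=
  ∀ (p q : ℕ) (u z : N), p.Prime → q.Prime → p ≠ q → orderOf u = p → orderOf z = q →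
    u * z * u⁻¹ ∈ Subgroup.zpowers z → Commute u z

theorem primeComm_of_hom {L : Type*} [Group L] [Finite L] {H : Subgroup L}
    (hH : Cfsg.IsFrobeniusComplement H) {N : Type*} [Group N] (f : N →* H)
    (hf : Function.Injective f) : PrimeComm N := by
  obtain ⟨K, hK, -, hc⟩ := Cfsg.Agent.Lib.Induced.FrobeniusKernel.exists_frobeniusKernel_subgroup hH
  intro p q u z hp hq hpq hu hz hconj
  have h1 : f u * f z * (f u)⁻¹ ∈ Subgroup.zpowers (f z) := by
    obtain ⟨i, hi⟩ := Subgroup.mem_zpowers_iff.mp hconj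
    exact Subgroup.mem_zpowers_iff.mpr ⟨i, by rw [← map_zpow, hi]; simp⟩
  have h2 : (Subgroup.zpowers (f z)).map (MulAut.conj (f u)).toMonoidHom = Subgroup.zpowers (f z) := by
    refine Subgroup.eq_of_le_of_card_ge ?_ ?_
    · rw [MonoidHom.map_zpowers]
      exact Subgroup.zpowers_le.mpr h1
    · rw [Subgroup.card_map_of_injective (MulAut.conj (f u)).injective]
  have h3 := Cfsg.Agent.Lib.Frobenius.commute_of_prime_normalizes hH hc hp hq hpq
    (z := f u) (y := f z) (by rw [orderOf_injective f hf, hu]) (by rw [orderOf_injective f hf, hz])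
    (Subgroup.mem_normalizer_iff_map_conj_eq.mpr h2)
  exact hf (by rw [map_mul, map_mul]; exact h3.eq)

theorem conj_pow_pow {N : Type*} [Group N] {x y : N} {r : ℕ} (h : x⁻¹ * y * x = y ^ r) :
    ∀ k : ℕ, (x ^ k)⁻¹ * y * x ^ k = y ^ (r ^ k) := by
  intro k
  induction k with
  | zero => simp
  | succ k ih =>
    calc (x ^ (k + 1))⁻¹ * y * x ^ (k + 1) = x⁻¹ * ((x ^ k)⁻¹ * y * x ^ k) * x⁻¹⁻¹ := by
          rw [pow_succ]; group
      _ = x⁻¹ * y ^ (r ^ k) * x⁻¹⁻¹ := by rw [ih]
      _ = (x⁻¹ * y * x⁻¹⁻¹) ^ (r ^ k) := conj_pow.symm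
      _ = _ := by rw [inv_inv, h, ← pow_mul, pow_succ' r k]

/-- A prime-order element centralises a coprime cyclic group it normalises. -/
theorem commute_of_prime {N : Type*} [Group N] [Finite N] (hP : PrimeComm N) {u y : N} {p s : ℕ}
    (hp : p.Prime) (hu : orderOf u = p) (hcop : p.Coprime (orderOf y))
    (hs : u⁻¹ * y * u = y ^ s) : Commute u y := by
  set m := orderOf y with hm
  have hpow : y ^ (s ^ p) = y := by
    rw [← conj_pow_pow hs p, ← hu, pow_orderOf_eq_one]; simp
  have hdvd : (m : ℤ) ∣ (s : ℤ) ^ p - 1 := by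
    have h1 : y ^ (((s : ℤ) ^ p - 1)) = 1 := by
      rw [zpow_sub, zpow_one, ← Nat.cast_pow, zpow_natCast, hpow, mul_inv_cancel]
    exact orderOf_dvd_iff_zpow_eq_one.mpr h1
  have hq : ∀ q : ℕ, q.Prime → q ∣ m → (q : ℤ) ∣ (s : ℤ) - 1 := by
    intro q hq hqm
    have hz : orderOf (y ^ (m / q)) = q := orderOf_pow_orderOf_div (orderOf_pos y).ne' hqm
    set z := y ^ (m / q) with hzdef
    have hne : p ≠ q := fun e => hp.ne_one
      (Nat.eq_one_of_dvd_coprimes hcop dvd_rfl (e ▸ hqm))
    have hzc : u⁻¹ * z * u = z ^ s := by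
      calc u⁻¹ * z * u = u⁻¹ * y ^ (m / q) * u⁻¹⁻¹ := by rw [hzdef, inv_inv]
        _ = (u⁻¹ * y * u⁻¹⁻¹) ^ (m / q) := conj_pow.symm
        _ = z ^ s := by rw [inv_inv, hs, hzdef, ← pow_mul, ← pow_mul, mul_comm]
    have hui : orderOf u⁻¹ = p := by rw [orderOf_inv, hu]
    have hc : Commute u⁻¹ z := hP p q u⁻¹ z hp hq hne hui hz
      (by rw [inv_inv, hzc]; exact pow_mem (Subgroup.mem_zpowers z) s)
    rw [hc.eq, inv_mul_cancel_right] at hzc
    have h1 : z ^ ((s : ℤ) - 1) = 1 := by
      rw [zpow_sub, zpow_one, zpow_natCast, ← hzc, mul_inv_cancel]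
    rw [← hz]
    exact orderOf_dvd_iff_zpow_eq_one.mpr h1
  have hsum : IsCoprime (m : ℤ) (∑ i ∈ Finset.range p, (s : ℤ) ^ i) := by
    rw [Int.isCoprime_iff_nat_coprime]
    refine Nat.coprime_of_dvd fun q hq' hqm hqs => ?_
    rw [Int.natAbs_natCast] at hqm
    have h1 : (q : ℤ) ∣ ∑ i ∈ Finset.range p, (s : ℤ) ^ i := Int.natCast_dvd.mpr hqs
    have h2 : (q : ℤ) ∣ ∑ i ∈ Finset.range p, ((s : ℤ) ^ i - 1) :=
      Finset.dvd_sum fun i _ => (hq q hq' hqm).trans (sub_one_dvd_pow_sub_one (s : ℤ) i)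
    rw [Finset.sum_sub_distrib] at h2
    have h3 := dvd_sub h1 h2
    simp only [sub_sub_cancel, Finset.sum_const, Finset.card_range, nsmul_eq_mul, mul_one] at h3
    exact hq'.ne_one (Nat.eq_one_of_dvd_coprimes hcop (Int.natCast_dvd_natCast.mp h3) hqm)
  rw [← geom_sum_mul] at hdvd
  have h4 : y ^ ((s : ℤ) - 1) = 1 :=
    orderOf_dvd_iff_zpow_eq_one.mp (hsum.dvd_of_dvd_mul_left hdvd)
  rw [zpow_sub, zpow_one, zpow_natCast, mul_inv_eq_one] at h4
  rw [h4] at hs
  calc u * y = u * (u⁻¹ * y * u) := by rw [hs]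
    _ = y * u := by group

/-- Every element of a two-generator metacyclic group has the form `a ^ i * b ^ j`. -/
theorem exists_form {P : Type*} [Group P] {a b : P} {n m r : ℕ} (hn : 0 < n) (hm : 0 < m)
    (ha : a ^ n = 1) (hb : b ^ m = 1) (hab : a⁻¹ * b * a = b ^ r)
    (hgen : Subgroup.closure ({a, b} : Set P) = ⊤) (g : P) :
    ∃ i < n, ∃ j < m, g = a ^ i * b ^ j := by
  have hsw : ∀ j k : ℕ, b ^ j * a ^ k = a ^ k * b ^ (j * r ^ k) := by
    intro j k
    calc b ^ j * a ^ k = a ^ k * ((a ^ k)⁻¹ * b ^ j * (a ^ k)⁻¹⁻¹) := by group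
      _ = a ^ k * ((a ^ k)⁻¹ * b * (a ^ k)⁻¹⁻¹) ^ j := by rw [conj_pow]
      _ = a ^ k * b ^ (j * r ^ k) := by
        rw [inv_inv, conj_pow_pow hab k, ← pow_mul, mul_comm j]
  have hinv : ∀ (c : P) (k i : ℕ), c ^ (k + 1) = 1 → (c ^ i)⁻¹ = c ^ (i * k) := by
    intro c k i hc
    refine inv_eq_of_mul_eq_one_right ?_
    rw [← pow_add, show i + i * k = (k + 1) * i by ring, pow_mul, hc, one_pow]
  let S : Subgroup P :=
    { carrier := {g | ∃ i j : ℕ, g = a ^ i * b ^ j}
      one_mem' := ⟨0, 0, by simp⟩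
      mul_mem' := by
        rintro _ _ ⟨i, j, rfl⟩ ⟨k, l, rfl⟩
        refine ⟨i + k, j * r ^ k + l, ?_⟩
        calc a ^ i * b ^ j * (a ^ k * b ^ l) = a ^ i * (b ^ j * a ^ k) * b ^ l := by group
          _ = _ := by rw [hsw, pow_add, pow_add]; simp only [mul_assoc]
      inv_mem' := by
        rintro _ ⟨i, j, rfl⟩
        refine ⟨i * (n - 1), j * (m - 1) * r ^ (i * (n - 1)), ?_⟩
        rw [mul_inv_rev, hinv a (n - 1) i (by rw [Nat.sub_add_cancel hn, ha]),
          hinv b (m - 1) j (by rw [Nat.sub_add_cancel hm, hb]), hsw] }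
  have hS : g ∈ S := by
    have : Subgroup.closure ({a, b} : Set P) ≤ S := by
      rw [Subgroup.closure_le]
      rintro _ (rfl | rfl)
      · exact ⟨1, 0, by simp⟩
      · exact ⟨0, 1, by simp⟩
    exact this (hgen ▸ Subgroup.mem_top g)
  obtain ⟨i, j, rfl⟩ := hS
  exact ⟨i % n, Nat.mod_lt _ hn, j % m, Nat.mod_lt _ hm,
    by rw [← pow_eq_pow_mod i ha, ← pow_eq_pow_mod j hb]⟩

/-- The presentation of a `Z`-group in which prime-order elements commute as above. -/
theorem zgroup_presentation {N : Type*} [Group N] [Finite N] [IsZGroup N] (hP : PrimeComm N) :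
    ∃ n m r : ℕ, 0 < n ∧ 0 < m ∧ Nat.Coprime (r - 1) m ∧ Nat.Coprime n m ∧ 1 ≤ r ∧
        r ^ (n / ∏ p ∈ n.primeFactors, p) % m = 1 % m ∧
        Nonempty (N ≃* PresentedGroup
          ({FreeGroup.of (0 : Fin 2) ^ n, FreeGroup.of (1 : Fin 2) ^ m,
            (FreeGroup.of (0 : Fin 2))⁻¹ * FreeGroup.of 1 * FreeGroup.of 0 * (FreeGroup.of (1 : Fin 2) ^ r)⁻¹} :
            Set (FreeGroup (Fin 2)))) := by
  classical
  have hcop0 := IsZGroup.coprime_commutator_index N
  obtain ⟨B, hB⟩ := Subgroup.exists_right_complement'_of_coprime hcop0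
  have hBc : IsCyclic B := by
    have e : Abelianization N ≃* B := hB.symm.QuotientMulEquiv
    exact isCyclic_of_surjective e.toMonoidHom e.surjective
  have hAc : IsCyclic (commutator N) := IsZGroup.isCyclic_commutator N
  obtain ⟨x, hx⟩ := (Subgroup.isCyclic_iff_exists_zpowers_eq_top B).mp hBc
  obtain ⟨y, hy⟩ := (Subgroup.isCyclic_iff_exists_zpowers_eq_top (commutator N)).mp hAc
  set n := orderOf x with hn
  set m := orderOf y with hm
  have hcard : n * m = Nat.card N := by
    rw [hn, hm, ← Nat.card_zpowers, ← Nat.card_zpowers, hx, hy, mul_comm]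
    exact hB.card_mul_card
  have hnm : n.Coprime m := by
    rw [hn, hm, ← Nat.card_zpowers, ← Nat.card_zpowers, hx, hy, ← hB.symm.index_eq_card]
    exact hcop0.symm
  have hgen : ∀ g : N, g ∈ Subgroup.closure ({x, y} : Set N) := by
    intro g
    have hsup : commutator N ⊔ B = ⊤ := hB.sup_eq_top
    have : commutator N ⊔ B ≤ Subgroup.closure ({x, y} : Set N) := by
      rw [← hx, ← hy, sup_le_iff, Subgroup.zpowers_le, Subgroup.zpowers_le]
      exact ⟨Subgroup.subset_closure (by simp), Subgroup.subset_closure (by simp)⟩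
    exact this (hsup ▸ Subgroup.mem_top g)
  have hcnj : ∀ z : N, z * y * z⁻¹ ∈ Subgroup.zpowers y := fun z => by
    rw [hy]
    exact (inferInstance : (commutator N).Normal).conj_mem y (hy ▸ Subgroup.mem_zpowers y) z
  have hyn : x⁻¹ * y * x ∈ Subgroup.zpowers y := by simpa using hcnj x⁻¹
  obtain ⟨r₀, hr₀⟩ := mem_powers_iff_mem_zpowers.mpr hyn
  replace hr₀ : y ^ r₀ = x⁻¹ * y * x := hr₀
  set r := r₀ + m with hr'
  have hr : x⁻¹ * y * x = y ^ r := by rw [hr', pow_add, hm, pow_orderOf_eq_one, mul_one, hr₀]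
  have hm0 : 0 < m := orderOf_pos y
  have hn0 : 0 < n := orderOf_pos x
  refine ⟨n, m, r, hn0, hm0, ?_, hnm, by omega, ?_, ?_⟩
  · -- `N' = ⟨y⟩` is generated by `y ^ (r - 1)`
    set d := Nat.gcd (r - 1) m with hd
    set K := Subgroup.zpowers (y ^ d) with hK
    haveI : K.Normal := by
      refine ⟨fun g hg z => ?_⟩
      obtain ⟨i, rfl⟩ := Subgroup.mem_zpowers_iff.mp hg
      obtain ⟨j, hj⟩ := Subgroup.mem_zpowers_iff.mp (hcnj z)
      refine Subgroup.mem_zpowers_iff.mpr ⟨j * i, ?_⟩
      rw [← conj_zpow, ← conj_pow, ← hj, ← zpow_natCast y d, ← zpow_natCast (y ^ j) d, ← zpow_mul,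
        ← zpow_mul, ← zpow_mul]
      ring_nf
    have hyK : y ∈ K := by
      have hle : commutator N ≤ K := by
        have hxy : Commute (QuotientGroup.mk' K x) (QuotientGroup.mk' K y) := by
          have hmem : x⁻¹ * y * x * y⁻¹ ∈ K := by
            rw [hr]
            obtain ⟨c, hc⟩ : d ∣ r - 1 := Nat.gcd_dvd_left _ _
            have : y ^ r * y⁻¹ = (y ^ d) ^ c := by
              rw [← pow_mul, ← hc, mul_inv_eq_iff_eq_mul, ← pow_succ]
              congr 1; omega
            rw [this]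
            exact pow_mem (Subgroup.mem_zpowers _) c
          have h1 : QuotientGroup.mk' K (x⁻¹ * y * x * y⁻¹) = 1 := (QuotientGroup.eq_one_iff _).mpr hmem
          rw [map_mul, map_mul, map_mul, map_inv, map_inv, mul_inv_eq_one, mul_assoc,
            inv_mul_eq_iff_eq_mul] at h1
          exact h1.symm
        have hall : ∀ a b : N, Commute (QuotientGroup.mk' K a) (QuotientGroup.mk' K b) := by
          have h1 : ∀ a : N, ∀ b ∈ ({x, y} : Set N),
              Commute (QuotientGroup.mk' K a) (QuotientGroup.mk' K b) := by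
            intro a
            refine Subgroup.closure_induction (p := fun a _ => ∀ b ∈ ({x, y} : Set N),
              Commute (QuotientGroup.mk' K a) (QuotientGroup.mk' K b)) ?_ ?_ ?_ ?_ (hgen a)
            · rintro a (rfl | rfl) b (rfl | rfl)
              · exact Commute.refl _
              · exact hxy
              · exact hxy.symm
              · exact Commute.refl _
            · intro b _; rw [map_one]; exact Commute.one_left _
            · intro a c _ _ ha hc b hb; rw [map_mul]; exact (ha b hb).mul_left (hc b hb)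
            · intro a _ ha b hb; rw [map_inv]; exact (ha b hb).inv_left
          intro a b
          refine Subgroup.closure_induction (p := fun b _ =>
            Commute (QuotientGroup.mk' K a) (QuotientGroup.mk' K b)) ?_ ?_ ?_ ?_ (hgen b)
          · exact h1 a
          · rw [map_one]; exact Commute.one_right _
          · intro c e _ _ hc he; rw [map_mul]; exact hc.mul_right he
          · intro c _ hc; rw [map_inv]; exact hc.inv_right
        rw [_root_.commutator_def, Subgroup.commutator_le]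
        intro a _ b _
        refine (QuotientGroup.eq_one_iff _).mp ?_
        show QuotientGroup.mk' K ⁅a, b⁆ = 1
        rw [map_commutatorElement]
        exact commutatorElement_eq_one_iff_commute.mpr (hall a b)
      exact hle (hy ▸ Subgroup.mem_zpowers y)
    have h2 : Nat.card (Subgroup.zpowers (y ^ d)) = m := by
      rw [hm, ← Nat.card_zpowers y]
      exact congrArg (fun S : Subgroup N => Nat.card S)
        (le_antisymm (Subgroup.zpowers_le.mpr (pow_mem (Subgroup.mem_zpowers y) d))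
          (Subgroup.zpowers_le.mpr hyK))
    rw [Nat.card_zpowers, orderOf_pow, ← hm, Nat.div_eq_self] at h2
    rcases h2 with h2 | h2
    · omega
    · rwa [Nat.gcd_eq_right (Nat.gcd_dvd_right _ _)] at h2
  · -- the prime-order powers of `x` centralise `y`
    set n' := ∏ p ∈ n.primeFactors, p with hn'
    have hdvd : n' ∣ n := Nat.prod_primeFactors_dvd n
    set w := x ^ (n / n') with hw
    have hall : ∀ p ∈ n.primeFactors, Commute (w ^ ((n' / p : ℕ) : ℤ)) y := by
      intro p hp
      have hp' := Nat.prime_of_mem_primeFactors hp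
      have hpn := Nat.dvd_of_mem_primeFactors hp
      have hpn' : p ∣ n' := Finset.dvd_prod_of_mem _ hp
      have e : w ^ (n' / p) = x ^ (n / p) := by
        rw [hw, ← pow_mul]
        congr 1
        rw [← Nat.mul_div_assoc _ hpn', Nat.div_mul_cancel hdvd]
      rw [zpow_natCast, e]
      exact commute_of_prime hP hp' (orderOf_pow_orderOf_div hn0.ne' hpn)
        (Nat.Coprime.coprime_dvd_left hpn hnm) (conj_pow_pow hr _)
    let C : AddSubgroup ℤ :=
      { carrier := {k | Commute (w ^ k) y}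
        add_mem' := fun {a b} ha hb => by
          show Commute (w ^ (a + b)) y
          rw [zpow_add]; exact Commute.mul_left ha hb
        zero_mem' := by show Commute (w ^ (0 : ℤ)) y; simp
        neg_mem' := fun {a} ha => by
          show Commute (w ^ (-a)) y
          rw [zpow_neg]; exact Commute.inv_left ha }
    have h1 : Commute w y := by
      by_cases hne : n.primeFactors = ∅
      · have h1n : n = 1 := by
          rcases Nat.primeFactors_eq_empty.mp hne with h | h <;> omega
        have hx1 : x = 1 := orderOf_eq_one_iff.mp (hn ▸ h1n)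
        rw [hw, hx1, one_pow]; exact Commute.one_left y
      obtain ⟨d, hd⟩ := Int.subgroup_cyclic C
      rw [← AddSubgroup.zmultiples_eq_closure] at hd
      have hd1 : ∀ p ∈ n.primeFactors, d.natAbs ∣ n' / p := by
        intro p hp
        have h0 : ((n' / p : ℕ) : ℤ) ∈ C := hall p hp
        rw [hd, Int.mem_zmultiples_iff] at h0
        have := Int.natAbs_dvd_natAbs.mpr h0
        rwa [Int.natAbs_natCast] at this
      have hd2 : d.natAbs = 1 := by
        by_contra hne1
        obtain ⟨q, hq, hqd⟩ := Nat.exists_prime_and_dvd hne1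
        obtain ⟨p, hp⟩ := Finset.nonempty_iff_ne_empty.mpr hne
        have hqn' : q ∣ n' := (hqd.trans (hd1 p hp)).trans (Nat.div_dvd_of_dvd (Finset.dvd_prod_of_mem _ hp))
        obtain ⟨p', hp', hqp'⟩ := (Prime.dvd_finsetProd_iff hq.prime _).mp hqn'
        obtain rfl := (Nat.prime_dvd_prime_iff_eq hq (Nat.prime_of_mem_primeFactors hp')).mp hqp'
        have h5 := hqd.trans (hd1 q hp')
        rw [hn', ← Finset.mul_prod_erase _ _ hp', Nat.mul_div_cancel_left _ hq.pos] at h5
        obtain ⟨s, hs, hqs⟩ := (Prime.dvd_finsetProd_iff hq.prime _).mp h5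
        obtain ⟨hne', hmem⟩ := Finset.mem_erase.mp hs
        exact hne' ((Nat.prime_dvd_prime_iff_eq hq (Nat.prime_of_mem_primeFactors hmem)).mp hqs).symm
      have h1C : (1 : ℤ) ∈ C := by
        rw [hd, Int.mem_zmultiples_iff]
        exact Int.natAbs_dvd_natAbs.mp (by rw [hd2]; simp)
      simpa using (show Commute (w ^ (1 : ℤ)) y from h1C)
    have h2 := conj_pow_pow hr (n / n')
    rw [← hw, mul_assoc, ← h1.eq, inv_mul_cancel_left] at h2
    have h3 : y ^ 1 = y ^ (r ^ (n / n')) := by rw [pow_one]; exact h2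
    exact (pow_eq_pow_iff_modEq.mp h3).symm
  · set rels := ({FreeGroup.of (0 : Fin 2) ^ n, FreeGroup.of (1 : Fin 2) ^ m,
      (FreeGroup.of (0 : Fin 2))⁻¹ * FreeGroup.of 1 * FreeGroup.of 0 * (FreeGroup.of (1 : Fin 2) ^ r)⁻¹} :
        Set (FreeGroup (Fin 2))) with hrels
    have hlift : ∀ w ∈ rels, FreeGroup.lift ![x, y] w = 1 := by
      rintro w (rfl | rfl | rfl)
      · simp [hn, pow_orderOf_eq_one]
      · simp [hm, pow_orderOf_eq_one]
      · simp [hr]
    let φ : PresentedGroup rels →* N := PresentedGroup.toGroup hlift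
    set a : PresentedGroup rels := PresentedGroup.of 0 with hadef
    set b : PresentedGroup rels := PresentedGroup.of 1 with hbdef
    have hφa : φ a = x := by simp [φ, a]
    have hφb : φ b = y := by simp [φ, b]
    have hsurj : Function.Surjective φ := by
      rw [← MonoidHom.range_eq_top, eq_top_iff]
      intro g _
      refine (Subgroup.closure_le _).mpr ?_ (hgen g)
      rintro _ (rfl | rfl)
      · exact ⟨a, hφa⟩
      · exact ⟨b, hφb⟩
    have hrel : ∀ w ∈ rels, PresentedGroup.mk rels w = 1 := fun w hw =>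
      PresentedGroup.one_of_mem hw
    have ha : a ^ n = 1 := by
      have := hrel (FreeGroup.of (0 : Fin 2) ^ n) (by simp [hrels])
      rwa [map_pow] at this
    have hb : b ^ m = 1 := by
      have := hrel (FreeGroup.of (1 : Fin 2) ^ m) (by simp [hrels])
      rwa [map_pow] at this
    have hab : a⁻¹ * b * a = b ^ r := by
      have := hrel ((FreeGroup.of (0 : Fin 2))⁻¹ * FreeGroup.of 1 * FreeGroup.of 0 *
        (FreeGroup.of (1 : Fin 2) ^ r)⁻¹) (by simp [hrels])
      rw [map_mul, map_mul, map_mul, map_inv, map_inv, map_pow, mul_inv_eq_one] at this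
      exact this
    have hgenP : Subgroup.closure ({a, b} : Set (PresentedGroup rels)) = ⊤ := by
      rw [← PresentedGroup.closure_range_of rels]
      congr 1
      ext z
      simp [Fin.exists_fin_two, a, b, eq_comm]
    let F : Fin n × Fin m → PresentedGroup rels := fun ij => a ^ (ij.1 : ℕ) * b ^ (ij.2 : ℕ)
    have hF : Function.Surjective F := fun g => by
      obtain ⟨i, hi, j, hj, e⟩ := exists_form hn0 hm0 ha hb hab hgenP g
      exact ⟨(⟨i, hi⟩, ⟨j, hj⟩), e.symm⟩
    haveI : Finite (PresentedGroup rels) := Finite.of_surjective F hF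
    have hle : Nat.card (PresentedGroup rels) ≤ Nat.card N := by
      rw [← hcard]
      have := Nat.card_le_card_of_surjective F hF
      simpa using this
    exact ⟨(MulEquiv.ofBijective φ ((Nat.bijective_iff_surjective_and_card φ).mpr
      ⟨hsurj, le_antisymm hle (Nat.card_le_card_of_surjective φ hsurj)⟩)).symm⟩

/-- Structure of solvable Frobenius complements. Let G be a finite solvable group that occurs as a Frobenius complement. Then G has a normal subgroup G₀ such that G/G₀ is isomorphic to a subgroup of Sym(4) (G₀ is the kernel of a homomorphism to Sym(4)), all Sylow subgroups of G₀ are cyclic, and G₀ has a presentation ⟨x, y | x^n = 1, y^m = 1, x⁻¹ y x = y^r⟩ with n, m ≥ 1, gcd(r − 1, m) = gcd(n, m) = 1 and r^(n/n′) ≡ 1 (mod m), where n′ is the product of the distinct primes dividing n. -/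
theorem result {G : Type*} [Group G] [Finite G] (hsol : Group.IsSolvable G)
    (hFC : ∃ (L : Type) (_ : Group L) (_ : Finite L) (H : Subgroup L), Cfsg.IsFrobeniusComplement H ∧ Nonempty (G ≃* H)) :
    ∃ G₀ : Subgroup G, G₀.Normal ∧
      (∃ f : G →* Equiv.Perm (Fin 4), f.ker = G₀) ∧
      (∀ (p : ℕ) [Fact p.Prime] (P : Sylow p G₀), IsCyclic P) ∧
      ∃ n m r : ℕ, 0 < n ∧ 0 < m ∧ Nat.Coprime (r - 1) m ∧ Nat.Coprime n m ∧ 1 ≤ r ∧
        r ^ (n / ∏ p ∈ n.primeFactors, p) % m = 1 % m ∧
        Nonempty (G₀ ≃* PresentedGroup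
          ({FreeGroup.of (0 : Fin 2) ^ n, FreeGroup.of (1 : Fin 2) ^ m,
            (FreeGroup.of (0 : Fin 2))⁻¹ * FreeGroup.of 1 * FreeGroup.of 0 * (FreeGroup.of (1 : Fin 2) ^ r)⁻¹} :
            Set (FreeGroup (Fin 2)))) := by
  obtain ⟨N, ⟨hNn, hNc, hQ⟩, -⟩ := Cfsg.Agent.S4291.result hFC
  obtain ⟨L, _, _, H, hH, ⟨e⟩⟩ := hFC
  have hP : PrimeComm N := primeComm_of_hom hH (e.toMonoidHom.comp N.subtype)
    (e.injective.comp N.subtype_injective)
  haveI : IsZGroup N := ⟨fun p hp P => by
    haveI := Fact.mk hp; exact hNc p P⟩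
  refine ⟨N, hNn, ?_, hNc, zgroup_presentation hP⟩
  have key : ∀ {Q : Type} [Group Q] (f : G →* Q) (ι : Q →* Equiv.Perm (Fin 4)),
      f.ker = N → Function.Injective ι → ∃ f : G →* Equiv.Perm (Fin 4), f.ker = N := by
    intro Q _ f ι hf hι
    exact ⟨ι.comp f, by rw [← hf]; ext g; simp [map_eq_one_iff ι hι]⟩
  haveI := hsol
  rcases hQ with h | ⟨f, -, hf⟩ | ⟨f, -, hf⟩ | ⟨f, -, hf⟩ | ⟨f, hs, -⟩ | ⟨f, hs, -⟩
  · exact ⟨1, by rw [MonoidHom.ker_one, h]⟩
  · let e4 : DihedralGroup 2 ≃ Fin 4 := Fintype.equivFinOfCardEq (by simp [DihedralGroup.card])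
    exact key f (e4.permCongrHom.toMonoidHom.comp (MulAction.toPermHom (DihedralGroup 2) (DihedralGroup 2)))
      hf (e4.permCongrHom.injective.comp MulAction.toPerm_injective)
  · exact key f (alternatingGroup (Fin 4)).subtype hf (alternatingGroup (Fin 4)).subtype_injective
  · exact ⟨f, hf⟩
  · exact absurd (Group.isSolvable_of_surjective hs) (fun h => Equiv.Perm.not_isSolvable_fin_5 (by
      haveI := h
      exact Group.isSolvable_of_ker_le_range (alternatingGroup (Fin 5)).subtype Equiv.Perm.sign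
        (by rw [Subgroup.range_subtype]; exact le_rfl)))
  · exact absurd (Group.isSolvable_of_surjective hs) Equiv.Perm.not_isSolvable_fin_5

end Cfsg.Agent.S3358
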