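import Cfsg.Statements.S3362
import Cfsg.Agent.Lib.Spectrum.M12Cert
set_option autoImplicit false
open Cfsg

namespace Cfsg.Agent.S3362

/-- An explicit construction of the Mathieu groups of degrees 11 and 12. On the points 0, …, 11 let s = (3 4 5)(6 7 8)(9 10 11), t = (3 6 9)(4 7 10)(5 8 11), u = (4 6 5 9)(7 8 11 10), v = (4 7 5 11)(6 10 9 8), w = (4 10 5 8)(6 11 9 7), x₁ = (0 3)(6 7)(8 10)(9 11), x₂ = (0 1)(6 9)(7 10)(8 11), x₃ = (1 2)(6 11)(7 9)(8 10) (each written as a product of transpositions). Then the group M₁₂ generated by all eight permutations is sharply 5-transitive on the 12 points and has order 95040, and the group M₁₁ generated by the first seven has order 7920 and is the stabilizer of the point 2 in M₁₂. -/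
theorem result
    (s t u v w x₁ x₂ x₃ : Equiv.Perm (Fin 12))
    (hs : s = Equiv.swap (3 : Fin 12) 5 * Equiv.swap (3 : Fin 12) 4 * Equiv.swap (6 : Fin 12) 8 * Equiv.swap (6 : Fin 12) 7 * Equiv.swap (9 : Fin 12) 11 * Equiv.swap (9 : Fin 12) 10) (ht : t = Equiv.swap (3 : Fin 12) 9 * Equiv.swap (3 : Fin 12) 6 * Equiv.swap (4 : Fin 12) 10 * Equiv.swap (4 : Fin 12) 7 * Equiv.swap (5 : Fin 12) 11 * Equiv.swap (5 : Fin 12) 8)
    (hu : u = Equiv.swap (4 : Fin 12) 9 * Equiv.swap (4 : Fin 12) 5 * Equiv.swap (4 : Fin 12) 6 * Equiv.swap (7 : Fin 12) 10 * Equiv.swap (7 : Fin 12) 11 * Equiv.swap (7 : Fin 12) 8) (hv : v = Equiv.swap (4 : Fin 12) 11 * Equiv.swap (4 : Fin 12) 5 * Equiv.swap (4 : Fin 12) 7 * Equiv.swap (6 : Fin 12) 8 * Equiv.swap (6 : Fin 12) 9 * Equiv.swap (6 : Fin 12) 10) (hw : w = Equiv.swap (4 : Fin 12) 8 * Equiv.swap (4 : Fin 12) 5 * Equiv.swap (4 : Fin 12) 10 * Equiv.swap (6 : Fin 12) 7 * Equiv.swap (6 : Fin 12) 9 * Equiv.swap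 (6 : Fin 12) 11)
    (hx₁ : x₁ = Equiv.swap (0 : Fin 12) 3 * Equiv.swap (6 : Fin 12) 7 * Equiv.swap (8 : Fin 12) 10 * Equiv.swap (9 : Fin 12) 11) (hx₂ : x₂ = Equiv.swap (0 : Fin 12) 1 * Equiv.swap (6 : Fin 12) 9 * Equiv.swap (7 : Fin 12) 10 * Equiv.swap (8 : Fin 12) 11)
    (hx₃ : x₃ = Equiv.swap (1 : Fin 12) 2 * Equiv.swap (6 : Fin 12) 11 * Equiv.swap (7 : Fin 12) 9 * Equiv.swap (8 : Fin 12) 10)
    (M₁₂ M₁₁ : Subgroup (Equiv.Perm (Fin 12))) (hM₁₂ : M₁₂ = Subgroup.closure {s, t, u, v, w, x₁, x₂, x₃})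
    (hM₁₁ : M₁₁ = Subgroup.closure {s, t, u, v, w, x₁, x₂}) :
    MulAction.IsMultiplyPretransitive M₁₂ (Fin 12) 5 ∧ (∀ y : Fin 5 ↪ Fin 12, MulAction.stabilizer M₁₂ y = ⊥) ∧
    Nat.card M₁₂ = 95040 ∧ Nat.card M₁₁ = 7920 ∧
    M₁₁ = M₁₂ ⊓ MulAction.stabilizer (Equiv.Perm (Fin 12)) (2 : Fin 12) := by
  classical
  open Lib.Computation Lib.Spectrum in
  have h12 := card_closure_perms (n := 12) (w := 4) (hw := by decide) [s, t, u, v, w, x₁, x₂, x₃]
    M12Cert.m12_gens (by subst hs ht hu hv hw hx₁ hx₂ hx₃; decide +kernel) M12Cert.m12_check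
  open Lib.Computation Lib.Spectrum in
  have h11 := card_closure_perms (n := 12) (w := 4) (hw := by decide) [s, t, u, v, w, x₁, x₂]
    M12Cert.m11_gens (by subst hs ht hu hv hw hx₁ hx₂; decide +kernel) M12Cert.m11_check
  open Lib.Computation Lib.Spectrum in
  have o12 : (permRep 12 4 (by decide)).order M12Cert.m12_chain = 95040 := by decide +kernel
  open Lib.Computation Lib.Spectrum in
  have o11 : (permRep 12 4 (by decide)).order M12Cert.m11_chain = 7920 := by decide +kernel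
  have e12 : M₁₂ = Subgroup.closure {σ | σ ∈ [s, t, u, v, w, x₁, x₂, x₃]} := by
    rw [hM₁₂]; congr 1; ext σ; simp
  have e11 : M₁₁ = Subgroup.closure {σ | σ ∈ [s, t, u, v, w, x₁, x₂]} := by
    rw [hM₁₁]; congr 1; ext σ; simp
  have c12 : Nat.card M₁₂ = 95040 := by rw [e12, h12, o12]
  have c11 : Nat.card M₁₁ = 7920 := by rw [e11, h11, o11]
  -- the stabiliser of the base
  open Lib.Computation Lib.Spectrum in
  have hstab : ∀ g ∈ M₁₂, g 0 = 0 → g 1 = 1 → g 2 = 2 → g 3 = 3 → g 4 = 4 → g = 1 := by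
    intro g hg h0 h1 h2 h3 h4
    let R := permRep 12 4 (by decide : 12 ≤ 2 ^ 4)
    have hgrp : g ∈ R.grp M12Cert.m12_chain := by
      rw [← R.closure_eq_grp M12Cert.m12_check]
      rw [e12] at hg
      refine Subgroup.closure_mono ?_ hg
      intro σ hσ
      have hmap : [s, t, u, v, w, x₁, x₂, x₃].map (encodeP 12 4) = M12Cert.m12_gens := by
        subst hs ht hu hv hw hx₁ hx₂ hx₃; decide +kernel
      exact ⟨encodeP 12 4 σ, hmap ▸ List.mem_map.2 ⟨σ, hσ, rfl⟩,
        (decodeP_encodeP (by decide) σ).2⟩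
    have hc : R.checkChain M12Cert.m12_chain = true := R.checkChain_of_checkClosure M12Cert.m12_check
    unfold M12Cert.m12_chain at hgrp hc
    have hc1 := R.checkChain_tail hc
    have hc2 := R.checkChain_tail hc1
    have hc3 := R.checkChain_tail hc2
    have hc4 := R.checkChain_tail hc3
    have g1 := (R.mem_grp_tail_iff hc).2 ⟨hgrp, h0⟩
    have g2 := (R.mem_grp_tail_iff hc1).2 ⟨g1, h1⟩
    have g3 := (R.mem_grp_tail_iff hc2).2 ⟨g2, h2⟩
    have g4 := (R.mem_grp_tail_iff hc3).2 ⟨g3, h3⟩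
    have g5 := (R.mem_grp_tail_iff hc4).2 ⟨g4, h4⟩
    rwa [R.grp_nil, Subgroup.mem_bot] at g5
  let y0 : Fin 5 ↪ Fin 12 := ⟨Fin.castLE (by norm_num), Fin.castLE_injective _⟩
  have hy0 : MulAction.stabilizer M₁₂ y0 = ⊥ := by
    refine (Subgroup.eq_bot_iff_forall _).2 fun g hg => Subtype.ext ?_
    have h : ∀ i : Fin 5, (g : Equiv.Perm (Fin 12)) (y0 i) = y0 i := fun i => by
      exact congrArg (fun f : Fin 5 ↪ Fin 12 => f i) hg
    exact hstab _ g.2 (h 0) (h 1) (h 2) (h 3) (h 4)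
  have horb : MulAction.orbit M₁₂ y0 = Set.univ := by
    refine Set.eq_univ_of_univ_subset ?_
    refine (Set.eq_of_subset_of_ncard_le (Set.subset_univ _) ?_ (Set.toFinite _)).ge
    have e : Nat.card ↥(MulAction.orbit M₁₂ y0) = 95040 := by
      refine (Nat.card_congr (MulAction.orbitEquivQuotientStabilizer M₁₂ y0)).trans ?_
      show (MulAction.stabilizer M₁₂ y0).index = 95040
      rw [hy0, Subgroup.index_bot, c12]
    rw [Set.ncard_univ, Nat.card_eq_fintype_card, Fintype.card_embedding_eq, Fintype.card_fin,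
      Fintype.card_fin]
    refine le_trans (le_of_eq ?_) (le_of_eq (e.symm.trans (Nat.card_coe_set_eq _)))
    decide
  have hpre : MulAction.IsMultiplyPretransitive M₁₂ (Fin 12) 5 :=
    ⟨fun a b => by
      obtain ⟨g, hg⟩ : a ∈ MulAction.orbit M₁₂ y0 := horb ▸ Set.mem_univ a
      obtain ⟨h, hh⟩ : b ∈ MulAction.orbit M₁₂ y0 := horb ▸ Set.mem_univ b
      exact ⟨h * g⁻¹, ((mul_smul h g⁻¹ a).trans (congrArg (h • ·) (inv_smul_eq_iff.mpr hg.symm))).trans hh⟩⟩
  refine ⟨hpre, fun y => ?_, c12, c11, ?_⟩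
  · obtain ⟨g, rfl⟩ : y ∈ MulAction.orbit M₁₂ y0 := horb ▸ Set.mem_univ y
    show MulAction.stabilizer M₁₂ (g • y0) = ⊥
    exact (MulAction.stabilizer_smul_eq_stabilizer_map_conj g y0).trans (by rw [hy0, Subgroup.map_bot])
  · refine Subgroup.eq_of_le_of_card_ge ?_ ?_
    · rw [hM₁₁, Subgroup.closure_le]
      intro σ hσ
      refine ⟨hM₁₂ ▸ Subgroup.subset_closure ?_, ?_⟩
      · simp only [Set.mem_insert_iff, Set.mem_singleton_iff] at hσ ⊢
        tauto
      · simp only [Set.mem_insert_iff, Set.mem_singleton_iff] at hσ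
        show σ 2 = 2
        rcases hσ with rfl | rfl | rfl | rfl | rfl | rfl | rfl <;> simp [hs, ht, hu, hv, hw, hx₁, hx₂] <;> decide
    · rw [c11]
      have htr : MulAction.IsPretransitive M₁₂ (Fin 12) := ⟨fun a b => by
        have h1 : MulAction.IsMultiplyPretransitive M₁₂ (Fin 12) 1 :=
          MulAction.isMultiplyPretransitive_of_le (m := 1) (n := 5) (by norm_num) (by simp)
        exact (MulAction.is_one_pretransitive_iff.mp h1).exists_smul_eq a b⟩
      have hidx : (MulAction.stabilizer M₁₂ (2 : Fin 12)).index = 12 := by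
        rw [MulAction.index_stabilizer_of_transitive]; simp
      have hcard := (MulAction.stabilizer M₁₂ (2 : Fin 12)).card_mul_index
      rw [hidx, c12] at hcard
      have he : Nat.card ↥(M₁₂ ⊓ MulAction.stabilizer (Equiv.Perm (Fin 12)) (2 : Fin 12)) =
          Nat.card (MulAction.stabilizer M₁₂ (2 : Fin 12)) :=
        Nat.card_congr
          { toFun := fun g => ⟨⟨g.1, g.2.1⟩, g.2.2⟩
            invFun := fun g => ⟨g.1.1, g.1.2, g.2⟩
            left_inv := fun _ => rfl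
            right_inv := fun _ => rfl }
      omega

end Cfsg.Agent.S3362
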