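import Cfsg.Statements.S3370
import Cfsg.Agent.Lib.Spectrum.HuppertRegular
import Cfsg.Agent.Lib.Spectrum.GLTwoThree
set_option autoImplicit false
open Cfsg

namespace Cfsg.Agent.S3370

/-- Let q be a prime, V a non-trivial finite vector space over the field with q elements, and G a non-trivial finite p-group (p prime) acting faithfully and linearly on V and transitively on the non-zero vectors. Then either q = 2 and G has prime order p = |V| − 1; or p = 2, V has q elements with q = 2^m + 1 and G is cyclic of order 2^m; or p = 2, q = 3, V has 9 elements and G is cyclic of order 8, quaternion of order 8, or semidihedral of order 16. -/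
theorem result (q : ℕ) [Fact q.Prime] {V : Type*} [AddCommGroup V] [Module (ZMod q) V] [Finite V] [Nontrivial V]
    {G : Type*} [Group G] [Finite G] [Nontrivial G] (p : ℕ) [Fact p.Prime] (hG : IsPGroup p G)
    (ρ : G →* (V ≃ₗ[ZMod q] V)) (hρ : Function.Injective ρ)
    (htrans : ∀ v w : V, v ≠ 0 → w ≠ 0 → ∃ g : G, ρ g v = w) :
    (q = 2 ∧ p = Nat.card V - 1 ∧ Nat.card G = p) ∨
    (p = 2 ∧ Nat.card V = q ∧ (∃ m : ℕ, q = 2 ^ m + 1 ∧ Nat.card G = 2 ^ m) ∧ IsCyclic G) ∨
    (p = 2 ∧ q = 3 ∧ Nat.card V = 9 ∧
      ((IsCyclic G ∧ Nat.card G = 8) ∨ Nonempty (G ≃* QuaternionGroup 2) ∨ (Cfsg.IsQuasiDihedral G ∧ Nat.card G = 16))) := by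
  classical
  haveI : Fintype V := Fintype.ofFinite V
  let act : MulAction G {v : V // v ≠ 0} :=
    { smul := fun g v => ⟨ρ g v, fun h => v.2 ((ρ g).map_eq_zero_iff.1 h)⟩
      one_smul := fun v => Subtype.ext (by show ρ 1 (v : V) = v; rw [map_one]; rfl)
      mul_smul := fun g h v => Subtype.ext (by show ρ (g * h) (v : V) = ρ g (ρ h v); rw [map_mul]; rfl) }
  obtain ⟨v₀, hv₀⟩ := exists_ne (0 : V)
  let x₀ : {v : V // v ≠ 0} := ⟨v₀, hv₀⟩
  have htr : MulAction.IsPretransitive G {v : V // v ≠ 0} := ⟨fun a b => by
    obtain ⟨g, hg⟩ := htrans a b a.2 b.2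
    exact ⟨g, Subtype.ext hg⟩⟩
  have hfaith : ∀ g : G, (∀ a : {v : V // v ≠ 0}, g • a = a) → g = 1 := by
    intro g hg
    refine hρ ?_
    rw [map_one]
    refine LinearEquiv.ext fun v => ?_
    by_cases hv : v = 0
    · subst hv; simp
    · exact congrArg Subtype.val (hg ⟨v, hv⟩)
  obtain ⟨a, ha⟩ := (IsPGroup.iff_card).mp hG
  have hX : Nat.card {v : V // v ≠ 0} = Nat.card V - 1 := by
    rw [Nat.card_eq_fintype_card, Fintype.card_subtype_compl, Fintype.card_subtype_eq,
      Nat.card_eq_fintype_card]
  have hidx := MulAction.index_stabilizer_of_transitive G x₀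
  obtain ⟨k, -, hk⟩ := (Nat.dvd_prime_pow (Fact.out : p.Prime)).1
    (ha ▸ hidx ▸ Subgroup.index_dvd_card _ : Nat.card {v : V // v ≠ 0} ∣ p ^ a)
  set n := Module.finrank (ZMod q) V with hndef
  have hVn : Nat.card V = q ^ n := by
    rw [Nat.card_eq_fintype_card, Module.card_eq_pow_finrank (K := ZMod q), ZMod.card]
  have hn0 : 0 < n := Module.finrank_pos
  rw [hX, hVn] at hk
  have hk0 : k ≠ 0 := by
    rintro rfl
    rw [pow_zero] at hk
    have h1 : Nat.card {v : V // v ≠ 0} = 1 := by rw [hX, hVn, hk]
    obtain ⟨hsub, -⟩ := Nat.card_eq_one_iff_unique.1 h1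
    obtain ⟨g, hg⟩ := exists_ne (1 : G)
    exact hg (hfaith g fun b => hsub.elim _ _)
  have hq := (Fact.out : q.Prime)
  have hp := (Fact.out : p.Prime)
  have hone : 1 ≤ q ^ n := Nat.one_le_pow _ _ hq.pos
  have hp2k : p ∣ p ^ k := dvd_pow_self p hk0
  rcases hp.eq_two_or_odd' with rfl | hpo
  · -- p = 2
    have hqodd : Odd q := by
      rcases hq.eq_two_or_odd' with rfl | h
      · exfalso
        have : 2 ∣ 2 ^ n := dvd_pow_self 2 (by omega)
        omega
      · exact h
    have hq3 : 3 ≤ q := by
      rcases hqodd with ⟨j, rfl⟩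
      rcases Nat.eq_zero_or_pos j with rfl | hj
      · simp at hq; exact absurd hq Nat.not_prime_one
      · omega
    rcases Nat.even_or_odd n with ⟨r, hr⟩ | hno
    · -- n even: q ^ r - 1 = 2
      rw [hr, pow_add] at hk
      have hprod : (q ^ r - 1) * (q ^ r + 1) = 2 ^ k := by
        rw [← hk, Nat.sub_mul, one_mul, Nat.mul_succ]; omega
      have hr0 : r ≠ 0 := by omega
      have h3r : 3 ≤ q ^ r := le_trans hq3 (Nat.le_self_pow hr0 q)
      obtain ⟨i, hi, hi'⟩ := (Nat.dvd_prime_pow Nat.prime_two).1 (Dvd.intro _ hprod)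
      obtain ⟨j, hj, hj'⟩ := (Nat.dvd_prime_pow Nat.prime_two).1 (Dvd.intro_left _ hprod)
      have hi1 : i = 1 := by
        rcases Nat.lt_trichotomy i 1 with h | h | h
        · interval_cases i; omega
        · exact h
        · exfalso
          have h4 : 4 ∣ 2 ^ i := (show 4 = 2 ^ 2 by norm_num) ▸ Nat.pow_dvd_pow 2 h
          have hj2 : 2 ≤ j := by
            by_contra hlt
            interval_cases j <;> omega
          have h4' : 4 ∣ 2 ^ j := (show 4 = 2 ^ 2 by norm_num) ▸ Nat.pow_dvd_pow 2 hj2
          omega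
      subst hi1
      have hqr : q ^ r = 3 := by omega
      have hr1 : r = 1 := by
        by_contra hne
        have : q ^ 2 ≤ q ^ r := Nat.pow_le_pow_right hq.pos (by omega)
        nlinarith
      subst hr1
      rw [pow_one] at hqr
      subst hqr
      have hV9 : Nat.card V = 9 := by rw [hVn, hr]; norm_num
      have hk3 : k = 3 := Nat.pow_right_injective (le_refl 2) (show 2 ^ k = 2 ^ 3 by rw [← hk]; norm_num)
      subst hk3
      refine Or.inr (Or.inr ⟨rfl, rfl, hV9, ?_⟩)
      obtain ⟨e⟩ : Nonempty (V ≃ₗ[ZMod 3] (Fin 2 → ZMod 3)) :=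
        ⟨LinearEquiv.ofFinrankEq _ _ (by rw [← hndef, hr, Module.finrank_pi]; simp)⟩
      let ψ : (V ≃ₗ[ZMod 3] V) →* ((Fin 2 → ZMod 3) ≃ₗ[ZMod 3] (Fin 2 → ZMod 3)) :=
        { toFun := fun f => e.symm.trans (f.trans e)
          map_one' := LinearEquiv.ext fun v => e.apply_symm_apply v
          map_mul' := fun f g => LinearEquiv.ext fun v => by simp }
      let τ : ((Fin 2 → ZMod 3) ≃ₗ[ZMod 3] (Fin 2 → ZMod 3)) ≃* GL (Fin 2) (ZMod 3) :=
        ((Matrix.GeneralLinearGroup.toLin).trans
          (LinearMap.GeneralLinearGroup.generalLinearEquiv (ZMod 3) (Fin 2 → ZMod 3))).symm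
      let φ : G →* GL (Fin 2) (ZMod 3) := τ.toMonoidHom.comp (ψ.comp ρ)
      have hφ : Function.Injective φ := by
        intro g h hgh
        refine hρ (LinearEquiv.ext fun v => e.injective ?_)
        have := LinearEquiv.congr_fun (τ.injective hgh) (e v)
        simpa [ψ] using this
      have hX8 : Nat.card {v : V // v ≠ 0} = 8 := by rw [hX, hV9]
      have hlo : 3 ≤ a := by
        have : 2 ^ 3 ∣ 2 ^ a := by
          have := Subgroup.index_dvd_card (MulAction.stabilizer G x₀)
          rw [hidx, hX8, ha] at this
          exact this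
        exact (Nat.pow_dvd_pow_iff_le_right (by norm_num)).1 this
      have hhi : a ≤ 4 := by
        have h48 : 2 ^ a ∣ 48 := by
          have := Subgroup.card_dvd_of_injective φ hφ
          rw [ha, Lib.Spectrum.GLTwoThree.card_gl] at this
          exact this
        by_contra hlt
        have : (2 : ℕ) ^ 5 ∣ 48 := (Nat.pow_dvd_pow 2 (by omega : 5 ≤ a)).trans h48
        norm_num at this
      interval_cases a
      · -- order eight: regular
        have hst : MulAction.stabilizer G x₀ = ⊥ := by
          refine Subgroup.card_eq_one.1 ?_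
          have := (MulAction.stabilizer G x₀).card_mul_index
          rw [hidx, hX8, ha] at this
          omega
        have hreg : ∀ (g : G) (v : V), v ≠ 0 → ρ g v = v → g = 1 := by
          intro g v hv hgv
          obtain ⟨h, hh⟩ := htr.exists_smul_eq x₀ ⟨v, hv⟩
          have hmem : h⁻¹ * g * h ∈ MulAction.stabilizer G x₀ := by
            rw [MulAction.mem_stabilizer_iff, mul_smul, mul_smul, hh, inv_smul_eq_iff, hh]
            exact Subtype.ext hgv
          rw [hst, Subgroup.mem_bot] at hmem
          have : g = h * (h⁻¹ * g * h) * h⁻¹ := by group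
          rw [this, hmem]; group
        have huniq : ∀ u w : G, u * u = 1 → u ≠ 1 → w * w = 1 → w ≠ 1 → u = w := by
          have hneg : ∀ u : G, u * u = 1 → u ≠ 1 → ∀ v : V, ρ u v = -v := by
            intro u hu hu1 v
            have hfix : ρ u (v + ρ u v) = v + ρ u v := by
              rw [map_add, show ρ u (ρ u v) = (ρ u * ρ u) v from rfl, ← map_mul, hu, map_one]
              exact add_comm _ _
            by_contra hne
            exact hu1 (hreg u _ (fun h => hne (eq_neg_of_add_eq_zero_right h)) hfix)
          intro u w hu hu1 hw hw1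
          exact hρ (LinearEquiv.ext fun v => by rw [hneg u hu hu1, hneg w hw hw1])
        by_cases hc : ∀ x y : G, x * y = y * x
        · refine Or.inl ⟨?_, by rw [ha]; norm_num⟩
          by_contra hcy
          have hexp : ∀ x : G, x ^ 4 = 1 := by
            intro x
            have hd : orderOf x ∣ 2 ^ 3 := (orderOf_dvd_natCard x).trans (dvd_of_eq ha)
            obtain ⟨i, hi, hix⟩ := (Nat.dvd_prime_pow Nat.prime_two).1 hd
            have : i ≠ 3 := fun h => hcy (isCyclic_of_orderOf_eq_card x (by rw [hix, h, ha]))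
            refine orderOf_dvd_iff_pow_eq_one.1 ?_
            rw [hix, show (4 : ℕ) = 2 ^ 2 by norm_num]
            exact Nat.pow_dvd_pow 2 (by omega)
          let sq : G →* G :=
            { toFun := fun x => x * x
              map_one' := one_mul 1
              map_mul' := fun x y => by
                rw [mul_assoc, ← mul_assoc y, hc y x, mul_assoc x y, ← mul_assoc] }
          have hker : Nat.card sq.ker ≤ 2 := by
            by_contra hlt
            push Not at hlt
            haveI : Fintype sq.ker := Fintype.ofFinite _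
            rw [Nat.card_eq_fintype_card, Fintype.two_lt_card_iff] at hlt
            obtain ⟨x, y, z, hxy, hxz, hyz⟩ := hlt
            have hh : ∀ t : sq.ker, (t : G) * t = 1 := fun t => t.2
            by_cases hx1 : (x : G) = 1
            · exact hyz (Subtype.ext (huniq _ _ (hh y) (fun h => hxy (Subtype.ext (hx1.trans h.symm))) (hh z)
                (fun h => hxz (Subtype.ext (hx1.trans h.symm)))))
            · by_cases hy1 : (y : G) = 1
              · exact hxz (Subtype.ext (huniq _ _ (hh x) hx1 (hh z)
                  (fun h => hyz (Subtype.ext (hy1.trans h.symm)))))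
              · exact hxy (Subtype.ext (huniq _ _ (hh x) hx1 (hh y) hy1))
          have hle : sq.range ≤ sq.ker := by
            rintro _ ⟨x, rfl⟩
            have := hexp x
            rw [show (4 : ℕ) = 2 + 2 by norm_num, pow_add, pow_two] at this
            exact this
          have h1 := Subgroup.card_mul_index sq.ker
          rw [Subgroup.index_ker, ha] at h1
          have h2 := Subgroup.card_le_of_le hle
          nlinarith
        · push Not at hc
          exact Or.inr (Or.inl (Lib.Spectrum.Huppert.quaternion_of_card_eight (by rw [ha]; norm_num) huniq hc))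
      · -- order sixteen
        refine Or.inr (Or.inr ⟨?_, by rw [ha]; norm_num⟩)
        have hcard : Nat.card φ.range = 16 := by
          rw [← Nat.card_congr (MonoidHom.ofInjective hφ).toEquiv, ha]; norm_num
        obtain ⟨m, hm, hc, x, y, hx, hy, hxy⟩ :=
          Lib.Spectrum.GLTwoThree.isQuasiDihedral_of_card φ.range hcard
        let E := (MonoidHom.ofInjective hφ).symm
        exact ⟨m, hm, by rw [Nat.card_congr (MonoidHom.ofInjective hφ).toEquiv, hc], E x, E y,
          by rw [MulEquiv.orderOf_eq, hx], by rw [MulEquiv.orderOf_eq, hy],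
          by rw [← map_inv, ← map_mul, ← map_mul, hxy, map_pow]⟩
    · -- n odd: n = 1
      have hn1 : n = 1 := by
        by_contra hne
        obtain ⟨q', rfl⟩ : ∃ q', q = q' + 1 := ⟨q - 1, by omega⟩
        have hg1 := geom_sum_mul_add q' n
        set S := ∑ j ∈ Finset.range n, (q' + 1) ^ j with hSval
        have hS : (q' + 1) ^ n - 1 = (q' + 1 - 1) * S := by
          rw [Nat.add_sub_cancel, mul_comm]; omega
        have hSdvd : S ∣ 2 ^ k := ⟨q' + 1 - 1, by rw [← hk, hS, mul_comm]⟩
        obtain ⟨i, -, hi⟩ := (Nat.dvd_prime_pow Nat.prime_two).1 hSdvd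
        have hSodd : Odd S := by
          rw [hSval]
          have : Odd (Finset.card {j ∈ Finset.range n | Odd ((q' + 1) ^ j)}) := by
            rw [Finset.filter_true_of_mem (fun j _ => hqodd.pow), Finset.card_range]
            exact hno
          rw [Finset.odd_sum_iff_odd_card_odd]
          convert this
        have hi0 : i = 0 := by
          by_contra hi0
          rw [hi] at hSodd
          exact (Nat.not_even_iff_odd.2 hSodd) (even_two.pow_of_ne_zero hi0)
        subst hi0
        rw [pow_zero] at hi
        rw [hi, mul_one] at hS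
        have : (q' + 1) ^ 2 ≤ (q' + 1) ^ n := Nat.pow_le_pow_right hq.pos (by omega)
        rw [Nat.add_sub_cancel] at hS
        nlinarith [Nat.sub_add_cancel hone]
      rw [hn1, pow_one] at hk hVn
      have hcyc : IsCyclic G := by
        refine isCyclic_of_subgroup_isDomain (R := ZMod q)
          ({ toFun := fun g => LinearMap.det ((ρ g).toLinearMap)
             map_one' := by simp
             map_mul' := fun g h => by
               rw [map_mul]
               exact LinearMap.det_comp _ _ } : G →* ZMod q) ?_
        intro g h hgh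
        refine hρ (LinearEquiv.ext fun v => ?_)
        obtain ⟨c, hc⟩ := (finrank_eq_one_iff_of_nonzero' v₀ hv₀).1 (hndef ▸ hn1) (ρ g v₀)
        obtain ⟨d, hd⟩ := (finrank_eq_one_iff_of_nonzero' v₀ hv₀).1 (hndef ▸ hn1) (ρ h v₀)
        have hsp : ∀ w : V, ∃ s : ZMod q, s • v₀ = w := (finrank_eq_one_iff_of_nonzero' v₀ hv₀).1 (hndef ▸ hn1)
        have hg' : (ρ g).toLinearMap = c • LinearMap.id := LinearMap.ext fun w => by
          obtain ⟨s, rfl⟩ := hsp w
          simp [← hc, smul_comm s c]
        have hh' : (ρ h).toLinearMap = d • LinearMap.id := LinearMap.ext fun w => by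
          obtain ⟨s, rfl⟩ := hsp w
          simp [← hd, smul_comm s d]
        have : c = d := by
          simp only [MonoidHom.coe_mk, OneHom.coe_mk] at hgh
          rw [hg', hh', LinearMap.det_smul, LinearMap.det_smul, LinearMap.det_id, ← hndef, hn1] at hgh
          simpa using hgh
        exact LinearMap.congr_fun (hg'.trans (this ▸ hh'.symm)) v
      refine Or.inr (Or.inl ⟨rfl, hVn, ⟨k, by omega, ?_⟩, hcyc⟩)
      have hst : MulAction.stabilizer G x₀ = ⊥ := by
        refine (Subgroup.eq_bot_iff_forall _).2 fun g hg => ?_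
        letI : CommGroup G := hcyc.commGroup
        refine hfaith g fun b => ?_
        obtain ⟨h, rfl⟩ := htr.exists_smul_eq x₀ b
        rw [← mul_smul, mul_comm, mul_smul, hg]
      have := (MulAction.stabilizer G x₀).index_eq_card
      rw [← hk, ← hVn, ← hX, ← hidx, hst, Subgroup.index_bot]
  · -- p odd
    have hq2 : q = 2 := by
      rcases hq.eq_two_or_odd' with rfl | h
      · rfl
      · exfalso
        have h1 : Odd (q ^ n) := h.pow
        have h2 : Odd (p ^ k) := hpo.pow
        rw [← hk] at h2
        obtain ⟨i, hi⟩ := h1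
        rw [hi, Nat.add_sub_cancel] at h2
        exact (Nat.not_even_iff_odd.2 h2) (even_two_mul i)
    subst hq2
    have hp3 : 3 ≤ p := by have h2 := hp.two_le; obtain ⟨j, hj⟩ := id hpo; omega
    have hn2 : 2 ≤ n := by
      by_contra hlt
      interval_cases n
      simp at hk
      exact absurd hk.symm (by
        have := Nat.one_lt_pow hk0 (show 1 < p by omega)
        omega)
    have h4 : 4 ∣ 2 ^ n := (show 4 = 2 ^ 2 by norm_num) ▸ Nat.pow_dvd_pow 2 hn2
    have hk1 : k = 1 := by
      rcases Nat.even_or_odd k with ⟨i, hi⟩ | hko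
      · exfalso
        have : p ^ k % 4 = 1 := by
          rw [hi, pow_add, Nat.mul_mod]
          obtain ⟨j, hj⟩ := hpo.pow (n := i)
          have hlt : p ^ i % 4 = 1 ∨ p ^ i % 4 = 3 := by omega
          rcases hlt with h | h <;> rw [h]
        omega
      · by_contra hne
        have hgeom : (p + 1) * (∑ j ∈ Finset.range k, (-(p : ℤ)) ^ j).natAbs = 2 ^ n := by
          have h1 := mul_geom_sum (-(p : ℤ)) k
          rw [hko.neg_pow] at h1
          have h2 : ((p : ℤ) + 1) * (∑ j ∈ Finset.range k, (-(p : ℤ)) ^ j) = ((2 ^ n : ℕ) : ℤ) := by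
            have h3 : ((p ^ k : ℕ) : ℤ) + 1 = ((2 ^ n : ℕ) : ℤ) := by
              rw [← hk, Nat.cast_sub hone]; push_cast; ring
            rw [← h3]; push_cast; linarith
          have := congrArg Int.natAbs h2
          rw [Int.natAbs_mul, Int.natAbs_natCast] at this
          rw [← this]
          congr 1
        set S := (∑ j ∈ Finset.range k, (-(p : ℤ)) ^ j).natAbs with hS
        have hSodd : Odd S := by
          rw [hS, Int.natAbs_odd]
          have hpar : ∀ m : ℕ, Even (∑ j ∈ Finset.range m, (-(p : ℤ)) ^ j) ↔ Even m := by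
            intro m
            induction m with
            | zero => simp
            | succ m ih =>
              rw [Finset.sum_range_succ, Int.even_add, ih, Nat.even_add_one]
              have : ¬ Even ((-(p : ℤ)) ^ m) :=
                Int.not_even_iff_odd.2 ((Int.odd_coe_nat p).2 hpo).neg.pow
              tauto
          rw [← Int.not_even_iff_odd, hpar]
          exact Nat.not_even_iff_odd.2 hko
        obtain ⟨i, -, hi⟩ := (Nat.dvd_prime_pow Nat.prime_two).1 (Dvd.intro_left _ hgeom)
        have hi0 : i = 0 := by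
          by_contra hi0
          rw [hi] at hSodd
          exact (Nat.not_even_iff_odd.2 hSodd) (even_two.pow_of_ne_zero hi0)
        subst hi0
        rw [pow_zero] at hi
        rw [hi, mul_one] at hgeom
        have : p ^ 2 ≤ p ^ k := Nat.pow_le_pow_right hp.pos (by rcases hko with ⟨j, rfl⟩; omega)
        nlinarith [Nat.sub_add_cancel hone]
    subst hk1
    rw [pow_one] at hk
    refine Or.inl ⟨rfl, by rw [hVn, hk], ?_⟩
    have hinj : Function.Injective (MulAction.toPermHom G {v : V // v ≠ 0}) := by
      intro g h hgh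
      refine inv_mul_eq_one.1 (hfaith (g⁻¹ * h) fun b => ?_)
      have := Equiv.congr_fun hgh b
      simp only [MulAction.toPermHom_apply, MulAction.toPerm_apply] at this
      rw [mul_smul, ← this, inv_smul_smul]
    have hdvd := Subgroup.card_dvd_of_injective _ hinj
    rw [Nat.card_perm, hX, hVn, hk, ha] at hdvd
    have ha1 : a ≤ 1 := by
      by_contra hlt
      have h2 : p * p ∣ p.factorial := by
        rw [← pow_two]; exact (Nat.pow_dvd_pow p (by omega : 2 ≤ a)).trans hdvd
      rw [← Nat.mul_factorial_pred hp.ne_zero] at h2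
      have := (Nat.Prime.dvd_factorial hp).1 (Nat.dvd_of_mul_dvd_mul_left hp.pos h2)
      omega
    have ha0 : a ≠ 0 := by
      rintro rfl
      rw [pow_zero, Nat.card_eq_one_iff_unique] at ha
      obtain ⟨g, hg⟩ := exists_ne (1 : G)
      exact hg (ha.1.elim _ _)
    rw [ha, show a = 1 by omega, pow_one]

end Cfsg.Agent.S3370
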