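import Cfsg.Statements.S3371
import Cfsg.Agent.Lib.HalfTransitive.MaxCase
-- import your own Cfsg.Agent.* helpers here

set_option autoImplicit false
open Cfsg Cfsg.Agent.Lib.HalfTransitive Cfsg.Agent.Lib.PGroups

namespace Cfsg.Agent.S3371

/-- Let q be a prime, V a non-trivial finite vector space over the field with q elements, and G a finite p-group (p prime) acting faithfully and linearly on V such that all G-orbits on the non-zero vectors have the same size. Then one of the following holds: G is cyclic or generalized quaternion and acts semiregularly on the non-zero vectors; or V has q² elements with q = 2^m − 1 and G is dihedral of order 2^(m+1) or semidihedral of order 2^(m+2); or V has q² elements with q = 2^m + 1 and, in suitable coordinates V = F_q², G is exactly the group of maps (x, y) ↦ (a x, ± a⁻¹ y) and (x, y) ↦ (± a⁻¹ y, a x) with a ≠ 0; or V has 81 elements (q = 3) and G is a 2-group. -/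
theorem result (q : ℕ) [Fact q.Prime] {V : Type*} [AddCommGroup V] [Module (ZMod q) V] [Finite V] [Nontrivial V]
    {G : Type*} [Group G] [Finite G] (p : ℕ) [Fact p.Prime] (hG : IsPGroup p G)
    (ρ : G →* (V ≃ₗ[ZMod q] V)) (hρ : Function.Injective ρ)
    (hhalf : ∀ v w : V, v ≠ 0 → w ≠ 0 → Nat.card {u : V | ∃ g : G, ρ g v = u} = Nat.card {u : V | ∃ g : G, ρ g w = u}) :
    ((IsCyclic G ∨ ∃ n : ℕ, Nonempty (G ≃* QuaternionGroup n)) ∧ ∀ v : V, v ≠ 0 → ∀ g : G, ρ g v = v → g = 1) ∨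
    (Nat.card V = q ^ 2 ∧ ∃ m : ℕ, q = 2 ^ m - 1 ∧
      (Nonempty (G ≃* DihedralGroup (2 ^ m)) ∨ (Cfsg.IsQuasiDihedral G ∧ Nat.card G = 2 ^ (m + 2)))) ∨
    (Nat.card V = q ^ 2 ∧ (∃ m : ℕ, q = 2 ^ m + 1) ∧
      ∃ e : V ≃ₗ[ZMod q] (Fin 2 → ZMod q), ∀ f : (Fin 2 → ZMod q) ≃ₗ[ZMod q] (Fin 2 → ZMod q),
        (∃ g : G, f = e.symm.trans ((ρ g).trans e)) ↔
        ∃ a s : ZMod q, a ≠ 0 ∧ (s = 1 ∨ s = -1) ∧
          ((∀ v, f v = ![a * v 0, s * a⁻¹ * v 1]) ∨ (∀ v, f v = ![s * a⁻¹ * v 1, a * v 0]))) ∨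
    (Nat.card V = 81 ∧ q = 3 ∧ p = 2) := by
  classical
  have hp : p.Prime := Fact.out
  haveI : Fintype V := Fintype.ofFinite V
  have hh : Half ρ := half_of_orbits ρ hhalf
  by_cases hqp : q = p
  · -- unipotent: `G` is trivial
    subst hqp
    let act : MulAction G V :=
      { smul := fun g u => ρ g u
        one_smul := rho_one ρ
        mul_smul := rho_mul ρ }
    have hV : q ∣ Nat.card V := by
      rw [Nat.card_eq_fintype_card, Module.card_eq_pow_finrank (K := ZMod q) (V := V), ZMod.card]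
      exact dvd_pow_self q (Module.finrank_pos (R := ZMod q) (M := V)).ne'
    have h0 : (0 : V) ∈ @MulAction.fixedPoints G V _ act := fun g => map_zero (ρ g)
    obtain ⟨b, hb, hb0⟩ :=
      @IsPGroup.exists_fixed_point_of_prime_dvd_card_of_fixed_point q G _ hG _ V act _ hV 0 h0
    have hall : ∀ v : V, ∀ g : G, ρ g v = v := by
      intro v g
      rcases eq_or_ne v 0 with rfl | hv
      · exact map_zero _
      have htop : St ρ b = ⊤ := eq_top_iff.2 fun g _ => hb g
      have h1 := hh b v (Ne.symm hb0) hv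
      rw [htop, Subgroup.card_top] at h1
      have h2 : St ρ v = ⊤ := Subgroup.eq_top_of_card_eq _ h1.symm
      have : g ∈ St ρ v := by rw [h2]; trivial
      exact this
    have h1 : ∀ g : G, g = 1 := fun g => hρ (LinearEquiv.ext fun v => by
      rw [hall v g, map_one]; rfl)
    exact Or.inl ⟨Or.inl ⟨⟨1, fun g => ⟨0, by simp [h1 g]⟩⟩⟩, fun v _ g _ => h1 g⟩
  by_cases hsr : ∀ v : V, v ≠ 0 → ∀ g : G, ρ g v = v → g = 1
  · exact Or.inl ⟨cyclic_or_quaternion_of_semiregular hG hqp ρ hsr, hsr⟩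
  push Not at hsr
  obtain ⟨v₀, hv₀, g₀, hfix, hg₀⟩ := hsr
  by_cases hE : ∃ E : Subgroup G, E.Normal ∧ Cfsg.IsElementaryAbelian p E ∧ Nat.card E = p ^ 2
  · obtain ⟨E, hEn, hEe, hEc⟩ := hE
    rcases monomial_of_normal hG hqp ρ hρ hh (fun a ha b hb => elemAb_comm hEe ha hb)
      (fun a ha => elemAb_pow hEe ha) hEc with h | h
    · exact Or.inr (Or.inr (Or.inl h))
    · exact Or.inr (Or.inr (Or.inr h))
  rcases eq_or_ne p 2 with rfl | hp2
  · exact Or.inr (Or.inl (dihedral_case hqp hG ρ hρ hh hE hv₀ hg₀ hfix))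
  exfalso
  have hcyc : IsCyclic G := by
    by_contra h
    exact hE (exists_normal_elemAb_sq hp2 hG h)
  obtain ⟨k, hk⟩ := IsPGroup.iff_card.1 (hG.to_subgroup (Subgroup.zpowers g₀))
  have hk1 : k ≠ 0 := by
    rintro rfl
    rw [pow_zero, Nat.card_zpowers, orderOf_eq_one_iff] at hk
    exact hg₀ hk
  obtain ⟨y, hy⟩ := exists_prime_orderOf_dvd_card' (G := Subgroup.zpowers g₀) p
    (hk ▸ dvd_pow_self p hk1)
  haveI : (Subgroup.zpowers (y : G)).Normal := by
    haveI : IsMulCommutative G := hcyc.isMulCommutative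
    infer_instance
  have hyo : orderOf (y : G) = p := by rw [Subgroup.orderOf_coe]; exact hy
  have hyv : ρ (y : G) v₀ = v₀ :=
    (Subgroup.zpowers_le (H := St ρ v₀)).2 (show g₀ ∈ St ρ v₀ from hfix) y.2
  refine hv₀ (eq_zero_of_fixed hρ hh (N := Subgroup.zpowers (y : G))
    (by rw [Nat.card_zpowers, hyo]; exact natCast_prime_ne_zero hp hqp) ?_ ?_)
  · exact Subgroup.zpowers_ne_bot.2 (fun h => by rw [h, orderOf_one] at hyo; exact hp.ne_one hyo.symm)
  · intro k hk
    exact (Subgroup.zpowers_le (H := St ρ v₀)).2 hyv hk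

end Cfsg.Agent.S3371
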