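import Cfsg.Statements.S3374
import Cfsg.Agent.Lib.Spectrum.SL25Action
set_option autoImplicit false
open Cfsg

namespace Cfsg.Agent.S3374

/-- SL(2,5) occurs as a Frobenius complement: there is a finite group L with a subgroup H isomorphic to SL(2,5) which is a non-trivial proper subgroup meeting each conjugate gHg⁻¹ with g outside H trivially. -/
theorem result :
    ∃ (L : Type) (_ : Group L) (_ : Finite L) (H : Subgroup L),
      Cfsg.IsFrobeniusComplement H ∧ Nonempty (H ≃* Matrix.SpecialLinearGroup (Fin 2) (ZMod 5)) := by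
  obtain ⟨ρ, hρ⟩ := Cfsg.Agent.Lib.Spectrum.TinyEnum.exists_fixedPointFree_sl25
  letI : DistribMulAction (Matrix.SpecialLinearGroup (Fin 2) (ZMod 5)) (Fin 2 → ZMod 11) :=
    { smul := fun g v => (ρ g).1.mulVec v
      one_smul := fun v => by
        show (ρ 1).1.mulVec v = v
        simp
      mul_smul := fun a b v => by
        show (ρ (a * b)).1.mulVec v = (ρ a).1.mulVec ((ρ b).1.mulVec v)
        rw [Matrix.mulVec_mulVec, map_mul, Matrix.SpecialLinearGroup.coe_mul]
      smul_zero := fun g => Matrix.mulVec_zero _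
      smul_add := fun g v w => Matrix.mulVec_add _ v w }
  haveI : Nontrivial (Matrix.SpecialLinearGroup (Fin 2) (ZMod 5)) :=
    ⟨1, ⟨!![0, 4; 1, 2], by decide⟩, fun h => by
      have h' := congrArg (fun m : Matrix.SpecialLinearGroup (Fin 2) (ZMod 5) => m.1 0 0) h
      revert h'; decide⟩
  haveI : Fact (Nat.Prime 11) := ⟨by norm_num⟩
  haveI : Nontrivial (Fin 2 → ZMod 11) := ⟨0, fun _ => 1, fun h => by
      exact zero_ne_one (congrFun h 0)⟩
  obtain ⟨L, i, j, C, hC, ⟨e⟩⟩ := Cfsg.Agent.Lib.FrobComplement.Build.of_fixedPointFree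
    (H := Matrix.SpecialLinearGroup (Fin 2) (ZMod 5)) (V := Fin 2 → ZMod 11)
    (fun g hg v hv => hρ g hg v hv)
  exact ⟨L, i, j, C, hC, ⟨e.symm⟩⟩

end Cfsg.Agent.S3374
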