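import Cfsg.Statements.S3375


set_option autoImplicit false
open Cfsg

namespace Cfsg.Agent.S3375

theorem fpf_inverts {K : Type*} [Group K] [Finite K] (φ : K →* K) (h2 : ∀ k, φ (φ k) = k)
    (hf : ∀ k, φ k = k → k = 1) : ∀ k, φ k = k⁻¹ := by
  have hinj : Function.Injective fun h : K => h⁻¹ * φ h := by
    intro a b h
    simp only at h
    have : φ (b * a⁻¹) = b * a⁻¹ := by
      rw [map_mul, map_inv]
      calc φ b * (φ a)⁻¹ = b * (b⁻¹ * φ b) * (a⁻¹ * φ a)⁻¹ * a⁻¹ := by group
        _ = b * a⁻¹ := by rw [h]; group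
    exact (mul_inv_eq_one.1 (hf _ this)).symm
  intro k
  obtain ⟨h, rfl⟩ := Finite.injective_iff_surjective.1 hinj k
  simp [h2]

theorem comm_of_inverts {K : Type*} [Group K] (φ : K →* K) (h : ∀ k, φ k = k⁻¹) :
    ∀ a b : K, a * b = b * a := by
  intro a b
  have := map_mul φ b⁻¹ a⁻¹
  simpa [h] using this

/-- Let γ be an automorphism of order 2 of a finite group H. (i) If γ fixes only the identity, then H is abelian and γ inverts every element. (ii) If γ has exactly two fixed points and H has a subgroup of index 2, then H has a γ-invariant abelian subgroup of index 2 on which γ acts by inversion. -/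
theorem result {H : Type*} [Group H] [Finite H] (γ : MulAut H) (hγ : orderOf γ = 2) :
    ((∀ h : H, γ h = h → h = 1) → (∀ a b : H, a * b = b * a) ∧ ∀ h : H, γ h = h⁻¹) ∧
    ((Nat.card {h : H // γ h = h} = 2 ∧ ∃ M : Subgroup H, M.index = 2) →
      ∃ A : Subgroup H, A.index = 2 ∧ IsMulCommutative A ∧ (∀ a ∈ A, γ a ∈ A) ∧ ∀ a ∈ A, γ a = a⁻¹) := by
  have h2 : ∀ h, γ (γ h) = h := fun h => by
    rw [← MulAut.mul_apply, ← pow_two, ← hγ, pow_orderOf_eq_one, MulAut.one_apply]
  refine ⟨fun hf => ?_, fun ⟨hfix, M, hM⟩ => ?_⟩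
  · have h := fpf_inverts γ.toMonoidHom h2 hf
    exact ⟨comm_of_inverts _ h, h⟩
  obtain ⟨A, hA, hinv⟩ : ∃ A : Subgroup H, A.index = 2 ∧ ∀ a ∈ A, γ a ∈ A := by
    by_cases hMi : ∀ a ∈ M, γ a ∈ M
    · exact ⟨M, hM, hMi⟩
    push Not at hMi
    obtain ⟨a, ha, haM⟩ := hMi
    let L : Subgroup H :=
      { carrier := {h | h ∈ M ↔ γ h ∈ M}
        one_mem' := by simp
        mul_mem' := by
          intro u v hu hv
          simp only [Set.mem_ofPred_eq, map_mul, Subgroup.mul_mem_iff_of_index_two hM] at hu hv ⊢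
          rw [hu, hv]
        inv_mem' := by simp }
    have hL : ∀ h, h ∈ L ↔ (h ∈ M ↔ γ h ∈ M) := fun h => Iff.rfl
    refine ⟨L, Subgroup.index_eq_two_iff.2 ⟨a, fun b => ?_⟩, fun b hb => ?_⟩
    · rw [hL, hL, map_mul, Subgroup.mul_mem_iff_of_index_two hM, Subgroup.mul_mem_iff_of_index_two hM]
      by_cases hb : b ∈ M <;> by_cases hb' : γ b ∈ M <;> simp [ha, haM, hb, hb', Xor']
    · rw [hL] at hb ⊢
      rw [h2]; exact hb.symm
  let φ : A →* A :=
    { toFun := fun a => ⟨γ a, hinv _ a.2⟩
      map_one' := Subtype.ext (map_one γ)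
      map_mul' := fun a b => Subtype.ext (map_mul γ _ _) }
  have hneg : ∀ a : A, φ a = a⁻¹ := by
    by_cases hz : ∀ a : A, φ a = a → a = 1
    · exact fpf_inverts φ (fun a => Subtype.ext (h2 _)) hz
    push Not at hz
    obtain ⟨z, hzf, hz1⟩ := hz
    have hzf' : γ z = z := congrArg Subtype.val hzf
    rw [Nat.card_eq_two_iff' (⟨1, map_one γ⟩ : {h : H // γ h = h})] at hfix
    have honly : ∀ h, γ h = h → h = 1 ∨ h = z := by
      intro h hh
      by_contra hc
      push Not at hc
      obtain ⟨y, -, hy⟩ := hfix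
      have e1 := hy ⟨h, hh⟩ (fun e => hc.1 (congrArg Subtype.val e))
      have e2 := hy ⟨z, hzf'⟩ (fun e => by have h := congrArg Subtype.val e; exact hz1 (Subtype.ext h))
      exact hc.2 (congrArg Subtype.val (e1.trans e2.symm))
    let f : H → A := fun h => ⟨h⁻¹ * γ h, by
      rw [Subgroup.mul_mem_iff_of_index_two hA, inv_mem_iff]
      exact ⟨fun hh => hinv _ hh, fun hh => by simpa [h2] using hinv _ hh⟩⟩
    have hsurj : Function.Surjective f := by
      by_contra hns
      classical
      have : Fintype H := Fintype.ofFinite H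
      have : Fintype A := Fintype.ofFinite A
      have hbound : ∀ v ∈ (Finset.univ : Finset H).image f,
          (Finset.univ.filter fun h => f h = v).card ≤ 2 := by
        intro v hv
        obtain ⟨h, -, rfl⟩ := Finset.mem_image.1 hv
        refine (Finset.card_le_card (t := {h, (z : H) * h}) ?_).trans Finset.card_le_two
        intro w hw
        simp only [Finset.mem_filter, Finset.mem_univ, true_and] at hw
        have e : w⁻¹ * γ w = h⁻¹ * γ h := congrArg Subtype.val hw
        have : γ (w * h⁻¹) = w * h⁻¹ := by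
          rw [map_mul, map_inv]
          calc γ w * (γ h)⁻¹ = w * (w⁻¹ * γ w) * (h⁻¹ * γ h)⁻¹ * h⁻¹ := by group
            _ = w * h⁻¹ := by rw [e]; group
        rcases honly _ this with h' | h'
        · simp [mul_inv_eq_one.1 h']
        · simp [← h']
      have hcard := Finset.card_le_mul_card_image (Finset.univ : Finset H) 2 hbound
      have hlt : ((Finset.univ : Finset H).image f).card < Fintype.card A := by
        refine (Finset.card_lt_univ_of_notMem (x := ?_) ?_)
        · exact Classical.choose (not_forall.1 hns)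
        · simpa using fun h => not_exists.1 (Classical.choose_spec (not_forall.1 hns)) h
      have hi := A.index_mul_card
      rw [hA, Nat.card_eq_fintype_card, Nat.card_eq_fintype_card] at hi
      rw [Finset.card_univ] at hcard
      omega
    intro a
    obtain ⟨h, rfl⟩ := hsurj a
    refine Subtype.ext ?_
    change γ (h⁻¹ * γ h) = (h⁻¹ * γ h)⁻¹
    simp [h2]
  exact ⟨A, hA, ⟨⟨comm_of_inverts φ hneg⟩⟩, hinv,
    fun a ha => congrArg Subtype.val (hneg ⟨a, ha⟩)⟩

end Cfsg.Agent.S3375
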