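import Cfsg.Statements.S3380
import Cfsg.Agent.S0519
import Cfsg.Agent.Lib.PGroups.UniqueInvolution
-- import your own Cfsg.Agent.* helpers here

set_option autoImplicit false
set_option linter.style.haveILetI false
open Cfsg

namespace Cfsg.Agent.S3380

open scoped commutatorElement
open Cfsg.Agent.Lib

/-- A `p`-group outside the exceptional list has a normal elementary abelian subgroup of
order `p ^ 2`. -/
theorem exists_normal_sq {G : Type*} [Group G] [Finite G] {p : ℕ} [Fact p.Prime]
    (hG : IsPGroup p G) (hnc : ¬ IsCyclic G) (hnq : ∀ n : ℕ, ¬ Nonempty (G ≃* QuaternionGroup n))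
    (hnd : ∀ n : ℕ, ¬ Nonempty (G ≃* DihedralGroup n)) (hnsd : ¬ Cfsg.IsQuasiDihedral G) :
    ∃ E : Subgroup G, E.Normal ∧ Cfsg.IsElementaryAbelian p E ∧ Nat.card E = p ^ 2 := by
  by_cases hall : ∀ A : Subgroup G, A.Normal → IsMulCommutative A → IsCyclic A
  · exfalso
    by_cases hB : ∃ B : Subgroup G, IsMulCommutative B ∧ ¬ IsCyclic B
    · rcases (Cfsg.Agent.S0519.result p hG hall hB).2 with ⟨n, hn⟩ | ⟨n, -, hn⟩ | h
      · exact hnq n hn
      · exact hnd n hn
      · exact hnsd h
    push Not at hB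
    haveI : Nontrivial G := by
      by_contra hn
      rw [not_nontrivial_iff_subsingleton] at hn
      exact hnc inferInstance
    obtain ⟨Z, -, hZc, hZn, hZcard⟩ := PGroups.exists_central_card_prime hG ⊤ top_ne_bot
    haveI := hZn
    have key : ∀ x : G, orderOf x = p → x ∈ Z := by
      intro x hx
      have hab : IsMulCommutative (Z ⊔ Subgroup.zpowers x : Subgroup G) := by
        refine PGroups.isMulCommutative_sup_zpowers ?_ ?_
        · exact IsMulCommutative.of_comm fun a b => Subtype.ext (Subgroup.mem_center_iff.1 (hZc b.2) a)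
        · exact Subgroup.mem_centralizer_iff.2 fun b hb =>
            (Subgroup.mem_center_iff.1 (hZc hb) x).symm
      haveI := hB _ hab
      obtain ⟨w, hw⟩ := (inferInstance : IsCyclic (Z ⊔ Subgroup.zpowers x : Subgroup G)).exists_generator
      by_contra hxZ
      have hpow : ∀ y : (Z ⊔ Subgroup.zpowers x : Subgroup G), y ^ p = 1 := by
        rintro ⟨y, hy⟩
        obtain ⟨a, ha, b, hb, rfl⟩ := Subgroup.mem_sup_of_normal_left.1
          (show y ∈ Z ⊔ Subgroup.zpowers x from hy)
        obtain ⟨i, rfl⟩ := Subgroup.mem_zpowers_iff.1 hb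
        apply Subtype.ext
        show (a * x ^ i) ^ p = 1
        rw [Commute.mul_pow (Subgroup.mem_center_iff.1 (hZc ha) _).symm,
          orderOf_dvd_iff_pow_eq_one.1 (hZcard ▸ Subgroup.orderOf_dvd_natCard Z ha), one_mul,
          ← zpow_natCast, ← zpow_mul, mul_comm, zpow_mul, zpow_natCast, ← hx, pow_orderOf_eq_one,
          one_zpow]
      have hle : Nat.card (Z ⊔ Subgroup.zpowers x : Subgroup G) ≤ Nat.card Z := by
        rw [← orderOf_eq_card_of_forall_mem_zpowers hw, hZcard]
        exact orderOf_le_of_pow_eq_one (Fact.out : p.Prime).pos (hpow w)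
      refine hxZ ?_
      rw [Subgroup.eq_of_le_of_card_ge le_sup_left hle]
      exact Subgroup.mem_sup_right (Subgroup.mem_zpowers x)
    rcases PGroups.isCyclic_or_quaternion hG (fun x y hx hy => by
      have : Subgroup.zpowers x = Z := Subgroup.eq_of_le_of_card_ge
        (Subgroup.zpowers_le.2 (key x hx)) (by rw [hZcard, Nat.card_zpowers, hx])
      rw [this]; exact key y hy) with h | ⟨-, n, -, hn⟩
    · exact hnc h
    · exact hnq _ hn
  push Not at hall
  obtain ⟨A, hAn, hAc, hAnc⟩ := hall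
  haveI := hAn
  haveI : (Cfsg.omegaOne p A).Normal := PGroups.omegaOne_normal
  obtain ⟨E, hEn, hEle, hEc⟩ := PGroups.exists_normal_le_card hG (k := 2) (Cfsg.omegaOne p A)
    (PGroups.sq_le_card_omegaOne hAc (hG.to_subgroup A) hAnc)
  exact ⟨E, hEn, PGroups.elemAb_mono (PGroups.elemAb_omegaOne hAc) hEle, hEc⟩

/-- Let a finite p-group G act faithfully and irreducibly on a non-trivial finite vector space V over the field with q elements (q prime), and suppose G is not cyclic, generalized quaternion, dihedral or semidihedral. Then G has a subgroup H of index p and V is the direct sum of p subspaces, each invariant under H, on none of which H acts faithfully, and which every element of G outside H permutes in a single p-cycle. -/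
theorem result
    (q : ℕ) [Fact q.Prime] {V : Type*} [AddCommGroup V] [Module (ZMod q) V] [Finite V] [Nontrivial V]
    {G : Type*} [Group G] [Finite G] (p : ℕ) [Fact p.Prime] (hG : IsPGroup p G)
    (ρ : G →* (V ≃ₗ[ZMod q] V)) (hρ : Function.Injective ρ)
    (hirr : ∀ W : Submodule (ZMod q) V, (∀ g : G, ∀ w ∈ W, ρ g w ∈ W) → W = ⊥ ∨ W = ⊤)
    (hnc : ¬ IsCyclic G) (hnq : ∀ n : ℕ, ¬ Nonempty (G ≃* QuaternionGroup n))
    (hnd : ∀ n : ℕ, ¬ Nonempty (G ≃* DihedralGroup n)) (hnsd : ¬ Cfsg.IsQuasiDihedral G) :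
    ∃ (H : Subgroup G) (W : Fin p → Submodule (ZMod q) V), H.index = p ∧
      iSup W = ⊤ ∧ iSupIndep W ∧
      (∀ h ∈ H, ∀ i, ∀ w ∈ W i, ρ h w ∈ W i) ∧
      (∀ i, ∃ h ∈ H, h ≠ 1 ∧ ∀ w ∈ W i, ρ h w = w) ∧
      ∀ g : G, g ∉ H → ∃ σ : Equiv.Perm (Fin p), orderOf σ = p ∧ ∀ i, (W i).map (ρ g : V →ₗ[ZMod q] V) = W (σ i) := by
  classical
  have hp : p.Prime := Fact.out
  haveI : NeZero p := ⟨hp.ne_zero⟩
  obtain ⟨E, hEn, hEe, hEc⟩ := exists_normal_sq hG hnc hnq hnd hnsd
  haveI := hEn
  have hEpow : ∀ a ∈ E, a ^ p = 1 := fun a ha => PGroups.elemAb_pow hEe ha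
  have hEab : ∀ a ∈ E, ∀ b ∈ E, a * b = b * a := fun a ha b hb => PGroups.elemAb_comm hEe ha hb
  have hEne : E ≠ ⊥ := fun h => by
    rw [h, Subgroup.card_bot] at hEc
    exact (Nat.one_lt_pow two_ne_zero hp.one_lt).ne hEc
  obtain ⟨Z, hZE, hZc, hZn, hZcard⟩ := PGroups.exists_central_card_prime hG E hEne
  haveI := hZn
  haveI : IsCyclic Z := isCyclic_of_prime_card hZcard
  obtain ⟨z, hZz⟩ := Z.isCyclic_iff_exists_zpowers_eq_top.1 inferInstance
  subst hZz
  have hzo : orderOf z = p := by rw [← hZcard, Nat.card_zpowers]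
  have hzc : z ∈ Subgroup.center G := hZc (Subgroup.mem_zpowers z)
  have happ : ∀ (a b : G) (v : V), ρ (a * b) v = ρ a (ρ b v) := fun a b v => by
    rw [map_mul]; rfl
  have hone : ∀ v : V, ρ 1 v = v := fun v => by rw [map_one]; rfl
  -- central elements are fixed point free
  have hfpf : ∀ c ∈ Subgroup.center G, c ≠ 1 → ∀ v : V, ρ c v = v → v = 0 := by
    intro c hc hc1
    let W : Submodule (ZMod q) V :=
      LinearMap.ker ((ρ c : V →ₗ[ZMod q] V) - LinearMap.id)
    have hW : ∀ v, v ∈ W ↔ ρ c v = v := fun v => by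
      simp [W, LinearMap.mem_ker, sub_eq_zero]
    rcases hirr W (fun g w hw => by
      rw [hW] at hw ⊢
      rw [← happ, ← Subgroup.mem_center_iff.1 hc g, happ, hw]) with h | h
    · intro v hv
      have := (hW v).2 hv
      rw [h] at this
      exact (Submodule.mem_bot _).1 this
    · exact absurd (hρ (LinearEquiv.ext fun v => by
        rw [hone]; exact (hW v).1 (h ▸ Submodule.mem_top))) hc1
  -- `p` is invertible on `V`
  have hpq : (p : ZMod q) ≠ 0 := by
    intro h0
    have hqp : q = p := (Nat.prime_dvd_prime_iff_eq Fact.out hp).1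
      ((ZMod.natCast_eq_zero_iff _ _).1 h0)
    letI : MulAction G V := MulAction.compHom V ρ
    have hdvd : p ∣ Nat.card V := by
      obtain ⟨v, hv⟩ := exists_ne (0 : V)
      have h1 : addOrderOf v = q := by
        refine addOrderOf_eq_prime ?_ hv
        rw [← Nat.cast_smul_eq_nsmul (ZMod q), ZMod.natCast_self, zero_smul]
      exact hqp ▸ h1 ▸ addOrderOf_dvd_natCard v
    obtain ⟨v, hv, hv0⟩ := hG.exists_fixed_point_of_prime_dvd_card_of_fixed_point V hdvd
      (a := 0) (fun g => map_zero (ρ g))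
    exact hv0 (hfpf z hzc (fun h => by rw [h, orderOf_one] at hzo; exact hp.ne_one hzo.symm) v
      (hv z)).symm
  -- an element outside the centre
  obtain ⟨x, hxE, hxZ⟩ : ∃ x ∈ E, x ∉ Subgroup.zpowers z := by
    refine SetLike.exists_of_lt (lt_of_le_of_ne hZE fun h => ?_)
    rw [← h, hZcard] at hEc
    exact absurd hEc (by
      have := hp.two_le
      nlinarith)
  have hxnc : x ∉ Subgroup.center G := by
    intro hxc
    -- otherwise a non-cyclic central subgroup acts fixed point freely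
    have hsum : ∀ c ∈ E, c ≠ 1 → ∀ v : V, ∑ j ∈ Finset.range p, ρ (c ^ j) v = 0 := by
      intro c hcE hc1 v
      have hcc : c ∈ Subgroup.center G := by
        have hsup : Subgroup.zpowers z ⊔ Subgroup.zpowers x = E := by
          refine Subgroup.eq_of_le_of_card_ge (sup_le hZE (Subgroup.zpowers_le.2 hxE)) ?_
          obtain ⟨i, hi, hi'⟩ := (Nat.dvd_prime_pow hp).1 (hEc ▸ Subgroup.card_dvd_of_le
            (sup_le hZE (Subgroup.zpowers_le.2 hxE) : Subgroup.zpowers z ⊔ Subgroup.zpowers x ≤ E))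
          rw [hi', hEc]
          refine Nat.pow_le_pow_right hp.pos ?_
          by_contra hlt
          have h2 : Nat.card (Subgroup.zpowers z ⊔ Subgroup.zpowers x : Subgroup G) ≤
              Nat.card (Subgroup.zpowers z) := by
            rw [hi', hZcard]; exact (Nat.pow_le_pow_right hp.pos (show i ≤ 1 by omega)).trans_eq (pow_one p)
          exact hxZ (Subgroup.eq_of_le_of_card_ge le_sup_left h2 ▸
            Subgroup.mem_sup_right (Subgroup.mem_zpowers x))
        exact (hsup.symm.le.trans (sup_le (Subgroup.zpowers_le.2 hzc) (Subgroup.zpowers_le.2 hxc))) hcE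
      refine hfpf c hcc hc1 _ ?_
      rw [map_sum]
      simp only [← happ, ← pow_succ']
      have h1 := Finset.sum_range_succ' (fun j => ρ (c ^ j) v) p
      rw [Finset.sum_range_succ] at h1
      simp only [hEpow c hcE, pow_zero] at h1
      exact (add_right_cancel h1).symm
    obtain ⟨v, hv⟩ := exists_ne (0 : V)
    have key : (∑ i ∈ Finset.range p, ∑ j ∈ Finset.range p, ρ ((x * z ^ i) ^ j) v) = p • v := by
      rw [Finset.sum_comm, Finset.sum_eq_single 0]
      · simp only [pow_zero, hone, Finset.sum_const, Finset.card_range]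
      · intro j hj hj0
        have hjp : ¬ p ∣ j := fun h => absurd (Nat.le_of_dvd (Nat.pos_of_ne_zero hj0) h)
          (not_le.2 (Finset.mem_range.1 hj))
        have hzj : z ^ j ≠ 1 := fun h => hjp (hzo ▸ orderOf_dvd_of_pow_eq_one h)
        calc (∑ i ∈ Finset.range p, ρ ((x * z ^ i) ^ j) v)
            = ∑ i ∈ Finset.range p, ρ (x ^ j) (ρ ((z ^ j) ^ i) v) := by
              refine Finset.sum_congr rfl fun i _ => ?_
              rw [Commute.mul_pow (hEab x hxE _ (E.pow_mem (hZE (Subgroup.mem_zpowers z)) i)),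
                happ, ← pow_mul, ← pow_mul, mul_comm i j]
          _ = 0 := by
              rw [← map_sum, hsum _ (E.pow_mem (hZE (Subgroup.mem_zpowers z)) j) hzj, map_zero]
      · intro h; exact absurd (Finset.mem_range.2 hp.pos) h
    rw [Finset.sum_eq_zero fun i _ => hsum _
      (E.mul_mem hxE (E.pow_mem (hZE (Subgroup.mem_zpowers z)) i)) (fun h => hxZ ?_) v] at key
    · have : (p : ZMod q) • v = 0 := by rw [Nat.cast_smul_eq_nsmul]; exact key.symm
      exact hv ((smul_eq_zero.1 this).resolve_left hpq)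
    · rw [eq_inv_of_mul_eq_one_left h]
      exact inv_mem (pow_mem (Subgroup.mem_zpowers z) i)
  -- the commutator homomorphism
  have hcomm : ∀ g : G, ⁅g, x⁆ ∈ Subgroup.zpowers z := by
    intro g
    set mk := QuotientGroup.mk' (Subgroup.zpowers z) with hmk
    have hsurj : Function.Surjective mk := QuotientGroup.mk'_surjective _
    haveI : (E.map mk).Normal := hEn.map mk hsurj
    have hcard : Nat.card (E.map mk) = p := by
      let f : E →* G ⧸ Subgroup.zpowers z := mk.comp E.subtype
      have h1 : f.range = E.map mk := by rw [MonoidHom.range_comp, Subgroup.range_subtype]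
      have h2 : f.ker = (Subgroup.zpowers z).subgroupOf E := by
        ext u
        show mk (u : G) = 1 ↔ _
        rw [hmk, QuotientGroup.mk'_apply, QuotientGroup.eq_one_iff, Subgroup.mem_subgroupOf]
      have h3 := f.ker.card_mul_index
      rw [Subgroup.index_ker, h1, h2, Nat.card_congr (Subgroup.subgroupOfEquivOfLe hZE).toEquiv,
        hZcard, hEc, sq] at h3
      exact Nat.eq_of_mul_eq_mul_left hp.pos h3
    have := PGroups.le_center_of_normal_card_prime (hG.to_quotient _) (E.map mk) hcard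
      (Subgroup.mem_map_of_mem mk hxE)
    refine (QuotientGroup.eq_one_iff _).1 ?_
    show mk ⁅g, x⁆ = 1
    rw [map_commutatorElement, commutatorElement_eq_one_iff_mul_comm]
    exact Subgroup.mem_center_iff.1 this _
  let f : G →* Subgroup.zpowers z := MonoidHom.mk' (fun g => ⟨⁅g, x⁆, hcomm g⟩) fun g g' => by
    apply Subtype.ext
    show ⁅g * g', x⁆ = ⁅g, x⁆ * ⁅g', x⁆
    have hc' := Subgroup.mem_center_iff.1 (hZc (hcomm g')) g
    rw [Subgroup.mem_center_iff.1 (hZc (hcomm g')) ⁅g, x⁆]
    have : ⁅g * g', x⁆ = g * ⁅g', x⁆ * g⁻¹ * ⁅g, x⁆ := by simp only [commutatorElement_def]; group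
    rw [this, hc', mul_inv_cancel_right]
  have hfker : ∀ g, g ∈ f.ker ↔ g * x = x * g := fun g => by
    rw [MonoidHom.mem_ker, ← commutatorElement_eq_one_iff_mul_comm]
    exact Subtype.ext_iff
  have hidx : f.ker.index = p := by
    rw [Subgroup.index_ker]
    refine ((Nat.dvd_prime hp).1 (hZcard ▸ Subgroup.card_subgroup_dvd_card f.range)).resolve_left
      fun h => hxnc ?_
    refine Subgroup.mem_center_iff.2 fun g => (hfker g).1 (MonoidHom.mem_ker.2 ?_)
    have : f g ∈ (⊥ : Subgroup _) := Subgroup.card_eq_one.1 h ▸ ⟨g, rfl⟩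
    exact Subgroup.mem_bot.1 this
  let W : Fin p → Submodule (ZMod q) V := fun i =>
    LinearMap.ker ((ρ (x * z ^ (i : ℕ)) : V →ₗ[ZMod q] V) - LinearMap.id)
  have hW : ∀ i v, v ∈ W i ↔ ρ (x * z ^ (i : ℕ)) v = v := fun i v => by
    simp [W, LinearMap.mem_ker, sub_eq_zero]
  have hxz : ∀ i : ℕ, x * z ^ i ∈ E := fun i =>
    E.mul_mem hxE (E.pow_mem (hZE (Subgroup.mem_zpowers z)) i)
  have hxz1 : ∀ i : ℕ, x * z ^ i ≠ 1 := fun i h => hxZ (by
    rw [eq_inv_of_mul_eq_one_left h]
    exact inv_mem (pow_mem (Subgroup.mem_zpowers z) i))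
  have hzp : z ^ p = 1 := hEpow z (hZE (Subgroup.mem_zpowers z))
  -- geometric sums
  have hshift : ∀ c ∈ E, ∀ v : V,
      ρ c (∑ j ∈ Finset.range p, ρ (c ^ j) v) = ∑ j ∈ Finset.range p, ρ (c ^ j) v := by
    intro c hc v
    rw [map_sum]
    simp only [← happ, ← pow_succ']
    have h1 := Finset.sum_range_succ' (fun j => ρ (c ^ j) v) p
    rw [Finset.sum_range_succ] at h1
    simp only [hEpow c hc, pow_zero] at h1
    exact (add_right_cancel h1).symm
  have hzsum : ∀ k : ℕ, ¬ p ∣ k → ∀ v : V, ∑ j ∈ Finset.range p, ρ ((z ^ k) ^ j) v = 0 :=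
    fun k hk v => hfpf (z ^ k) (pow_mem hzc k) (fun h => hk (hzo ▸ orderOf_dvd_of_pow_eq_one h)) _
      (hshift _ (E.pow_mem (hZE (Subgroup.mem_zpowers z)) k) v)
  refine ⟨f.ker, W, hidx, ?_, ?_, ?_, ?_, ?_⟩
  · rw [eq_top_iff]
    intro v _
    have key : (∑ i : Fin p, ∑ j ∈ Finset.range p, ρ ((x * z ^ (i : ℕ)) ^ j) v) = p • v := by
      rw [Finset.sum_comm, Finset.sum_eq_single 0]
      · simp only [pow_zero, hone, Finset.sum_const, Finset.card_univ, Fintype.card_fin]
      · intro j hj hj0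
        have hjp : ¬ p ∣ j := fun h => absurd (Nat.le_of_dvd (Nat.pos_of_ne_zero hj0) h)
          (not_le.2 (Finset.mem_range.1 hj))
        rw [Fin.sum_univ_eq_sum_range (fun i => ρ ((x * z ^ i) ^ j) v)]
        calc (∑ i ∈ Finset.range p, ρ ((x * z ^ i) ^ j) v)
            = ∑ i ∈ Finset.range p, ρ (x ^ j) (ρ ((z ^ j) ^ i) v) := by
              refine Finset.sum_congr rfl fun i _ => ?_
              rw [Commute.mul_pow (hEab x hxE _ (E.pow_mem (hZE (Subgroup.mem_zpowers z)) i)),
                happ, ← pow_mul, ← pow_mul, mul_comm i j]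
          _ = 0 := by rw [← map_sum, hzsum j hjp v, map_zero]
      · intro h; exact absurd (Finset.mem_range.2 hp.pos) h
    have hmem : p • v ∈ iSup W := by
      rw [← key]
      refine Submodule.sum_mem _ fun i _ => Submodule.mem_iSup_of_mem i ((hW i _).2 ?_)
      exact hshift _ (hxz i) v
    have : v = (p : ZMod q)⁻¹ • (p • v) := by
      rw [← Nat.cast_smul_eq_nsmul (ZMod q) p v, smul_smul, inv_mul_cancel₀ hpq, one_smul]
    rw [this]
    exact Submodule.smul_mem _ _ hmem
  · rw [iSupIndep_def]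
    intro i
    rw [Submodule.disjoint_def]
    intro v hvi hv
    -- the averaging map kills the other summands
    let N : V →ₗ[ZMod q] V :=
      ∑ j ∈ Finset.range p, (ρ ((x * z ^ (i : ℕ)) ^ j) : V →ₗ[ZMod q] V)
    have hN : ∀ w, N w = ∑ j ∈ Finset.range p, ρ ((x * z ^ (i : ℕ)) ^ j) w := fun w => by
      simp [N, LinearMap.sum_apply]
    have hker : (⨆ (j : Fin p) (_ : j ≠ i), W j) ≤ LinearMap.ker N := by
      refine iSup₂_le fun l hl w hw => ?_
      rw [LinearMap.mem_ker, hN]
      have hk : ¬ p ∣ ((i : ℕ) + (p - l)) := by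
        intro h
        apply hl
        apply Fin.ext
        have h1 := i.2
        have h2 := l.2
        obtain ⟨c, hc⟩ := h
        rcases Nat.lt_or_ge c 2 with hc2 | hc2
        · interval_cases c <;> omega
        · have : p * 2 ≤ p * c := Nat.mul_le_mul_left p hc2
          omega
      rw [← hzsum _ hk w]
      refine Finset.sum_congr rfl fun j hj => ?_
      clear hj
      have hsplit : x * z ^ (i : ℕ) = z ^ ((i : ℕ) + (p - l)) * (x * z ^ (l : ℕ)) := by
        rw [← (Subgroup.mem_center_iff.1 (pow_mem hzc ((i : ℕ) + (p - l))) (x * z ^ (l : ℕ))),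
          mul_assoc, ← pow_add]
        rw [show (l : ℕ) + ((i : ℕ) + (p - l)) = i + p by have := l.2; omega, pow_add,
          hzp, mul_one]
      rw [hsplit, Commute.mul_pow ((Subgroup.mem_center_iff.1 (pow_mem hzc _) _).symm), happ]
      congr 1
      induction j with
      | zero => rw [pow_zero, hone]
      | succ j ih => rw [pow_succ', happ, ih, (hW l w).1 hw]
    have h0 : N v = 0 := LinearMap.mem_ker.1 (hker hv)
    have h1 : N v = p • v := by
      rw [hN, Finset.sum_congr rfl (g := fun _ => v), Finset.sum_const, Finset.card_range]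
      intro j hj
      clear hj
      induction j with
      | zero => rw [pow_zero, hone]
      | succ j ih => rw [pow_succ', happ, ih, (hW i v).1 hvi]
    rw [h0, ← Nat.cast_smul_eq_nsmul (ZMod q)] at h1
    exact (smul_eq_zero.1 h1.symm).resolve_left hpq
  · intro h hh i w hw
    rw [hW] at hw ⊢
    have hc : Commute h (x * z ^ (i : ℕ)) := Commute.mul_right ((hfker h).1 hh)
      (Subgroup.mem_center_iff.1 (pow_mem hzc _) h)
    rw [← happ, ← hc.eq, happ, hw]
  · intro i
    refine ⟨x * z ^ (i : ℕ), (hfker _).2 ?_, hxz1 i, fun w hw => (hW i w).1 hw⟩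
    exact hEab _ (hxz i) _ hxE
  intro g hg
  obtain ⟨k, hk⟩ := (Subgroup.mem_zpowers_iff.1 (hcomm g))
  obtain ⟨k, hkp, hk⟩ : ∃ k : ℕ, k < p ∧ ⁅g, x⁆ = z ^ k := by
    refine ⟨(k % p).toNat, ?_, ?_⟩
    · have := Int.emod_lt_of_pos k (show (0 : ℤ) < p by exact_mod_cast hp.pos)
      have := Int.emod_nonneg k (show (p : ℤ) ≠ 0 by exact_mod_cast hp.ne_zero)
      omega
    · rw [← zpow_natCast, Int.toNat_of_nonneg (Int.emod_nonneg k (by exact_mod_cast hp.ne_zero)),
        ← hzo, zpow_mod_orderOf, hk]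
  have hk0 : k ≠ 0 := fun h => hg ((hfker g).2
    (commutatorElement_eq_one_iff_mul_comm.1 (by rw [hk, h, pow_zero])))
  have hgx : g * x * g⁻¹ = x * z ^ k := by
    rw [Subgroup.mem_center_iff.1 (pow_mem hzc k) x, ← hk, commutatorElement_def]
    group
  refine ⟨Equiv.addRight (⟨k, hkp⟩ : Fin p), ?_, fun i => ?_⟩
  · apply orderOf_eq_prime
    · ext i
      rw [Equiv.nsmul_addRight, Equiv.coe_addRight, Equiv.Perm.one_apply]
      have h0 : p • (⟨k, hkp⟩ : Fin p) = 0 := by
        have := card_nsmul_eq_zero' (G := Fin p) (x := (⟨k, hkp⟩ : Fin p))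
        rwa [Nat.card_eq_fintype_card, Fintype.card_fin] at this
      simp only [h0, add_zero]
    · intro h
      have := congrArg (fun σ : Equiv.Perm (Fin p) => ((σ 0 : Fin p) : ℕ)) h
      simp at this
      exact hk0 this
  · have hconj : ∀ i : Fin p, g * (x * z ^ (i : ℕ)) =
        (x * z ^ (((i + ⟨k, hkp⟩ : Fin p)) : ℕ)) * g := by
      intro i
      have hmod : z ^ (((i + ⟨k, hkp⟩ : Fin p)) : ℕ) = z ^ k * z ^ (i : ℕ) := by
        rw [← pow_add, Fin.val_add, ← pow_mod_orderOf z (k + i), hzo, add_comm k]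
      rw [hmod, ← mul_assoc x, ← hgx, mul_assoc (g * x * g⁻¹),
        ← Subgroup.mem_center_iff.1 (pow_mem hzc _) g]
      group
    show (W i).map (ρ g : V →ₗ[ZMod q] V) = W (i + ⟨k, hkp⟩)
    ext v
    rw [Submodule.mem_map, hW]
    constructor
    · rintro ⟨w, hw, rfl⟩
      rw [hW] at hw
      show ρ _ (ρ g w) = ρ g w
      rw [← happ, ← hconj, happ, hw]
    · intro hv
      refine ⟨ρ g⁻¹ v, (hW i _).2 ?_, ?_⟩
      · rw [← happ]
        have : x * z ^ (i : ℕ) * g⁻¹ = g⁻¹ * (x * z ^ (((i + ⟨k, hkp⟩ : Fin p)) : ℕ)) := by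
          rw [eq_inv_mul_iff_mul_eq, ← mul_assoc, hconj, mul_inv_cancel_right]
        rw [this, happ, hv]
      · show ρ g (ρ g⁻¹ v) = v
        rw [← happ, mul_inv_cancel, hone]

end Cfsg.Agent.S3380
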