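import Cfsg.Statements.S3381


set_option autoImplicit false
open Cfsg

namespace Cfsg.Agent.S3381

/-- Let G be a finite group acting faithfully and linearly on a non-trivial finite vector space V over the field with q elements (q prime) so that every non-zero vector has a stabilizer of order 2, and suppose G has a central involution. Then V has q^(2r) elements for some r and G contains exactly q^r + 1 non-central involutions. -/
theorem result
    (q : ℕ) [Fact q.Prime] {V : Type*} [AddCommGroup V] [Module (ZMod q) V] [Finite V] [Nontrivial V]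
    {G : Type*} [Group G] [Finite G] (ρ : G →* (V ≃ₗ[ZMod q] V)) (hρ : Function.Injective ρ)
    (hstab : ∀ v : V, v ≠ 0 → Nat.card {g : G // ρ g v = v} = 2)
    (z : G) (hz : orderOf z = 2) (hzc : z ∈ Subgroup.center G) :
    ∃ r : ℕ, Nat.card V = q ^ (2 * r) ∧
      Nat.card {g : G // orderOf g = 2 ∧ g ∉ Subgroup.center G} = q ^ r + 1 := by
  classical
  have hmul : ∀ g h : G, ∀ v, ρ (g * h) v = ρ g (ρ h v) := fun g h v => by rw [map_mul]; rfl
  have hone : ∀ v, ρ 1 v = v := fun v => by rw [map_one]; rfl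
  have uniq : ∀ v : V, v ≠ 0 → ∀ g h : G, g ≠ 1 → h ≠ 1 → ρ g v = v → ρ h v = v → g = h := by
    intro v hv g h hg hh hgv hhv
    by_contra hne
    have hc := hstab v hv
    have : ({1, g, h} : Set G) ⊆ {x : G | ρ x v = v} := by
      rintro x (rfl | rfl | rfl)
      exacts [hone v, hgv, hhv]
    have h3 := Set.ncard_le_ncard this (Set.toFinite _)
    rw [Set.ncard_insert_of_notMem (by simp [hg.symm, hh.symm]) (Set.toFinite _),
      Set.ncard_pair hne, ← Nat.card_coe_set_eq] at h3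
    exact absurd (h3.trans_eq hc) (by omega)
  have exi : ∀ v : V, v ≠ 0 → ∃ g : G, g ≠ 1 ∧ g * g = 1 ∧ ρ g v = v := by
    intro v hv
    have h2 := hstab v hv
    rw [Nat.card_eq_two_iff' (⟨1, hone v⟩ : {g : G // ρ g v = v})] at h2
    obtain ⟨⟨g, hg⟩, hg1, -⟩ := h2
    have hg1' : g ≠ 1 := fun e => hg1 (Subtype.ext e)
    refine ⟨g, hg1', ?_, hg⟩
    by_contra h
    have e := uniq v hv (g * g) g h hg1' (by rw [hmul, hg, hg]) hg
    exact hg1' (mul_eq_left.1 e)
  have hne1 : ∀ t : G, orderOf t = 2 → t ≠ 1 := by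
    intro t ht e; rw [e, orderOf_one] at ht; omega
  have hsq : ∀ t : G, orderOf t = 2 → ∀ v, ρ t (ρ t v) = v := fun t ht v => by
    rw [← hmul, ← pow_two, ← ht, pow_orderOf_eq_one, hone]
  have hfaith : ∀ g h : G, (∀ v, ρ g v = ρ h v) → g = h := fun g h e => hρ (LinearEquiv.ext e)
  have central : ∀ c ∈ Subgroup.center G, orderOf c = 2 → q ≠ 2 ∧ ∀ v, ρ c v = -v := by
    intro c hc hc2
    have key : ∀ v, ρ c v ≠ v → ρ c v = -v := by
      intro v hv
      by_contra hne
      have hv0 : v ≠ 0 := fun e => hv (by simp [e])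
      have hu : v + ρ c v ≠ 0 := fun e => hne (eq_neg_of_add_eq_zero_right e)
      obtain ⟨g, hg1, -, hgv⟩ := exi v hv0
      have h1 : ρ g (v + ρ c v) = v + ρ c v := by
        rw [map_add, hgv, ← hmul, Subgroup.mem_center_iff.1 hc g, hmul, hgv]
      have h2 : ρ c (v + ρ c v) = v + ρ c v := by rw [map_add, hsq c hc2, add_comm]
      have := uniq _ hu g c hg1 (hne1 c hc2) h1 h2
      exact hv (this ▸ hgv)
    obtain ⟨v₀, hv₀⟩ : ∃ v, ρ c v ≠ v := by
      by_contra h
      push Not at h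
      exact hne1 c hc2 (hfaith c 1 fun v => (h v).trans (hone v).symm)
    have hq : q ≠ 2 := by
      rintro rfl
      exact hv₀ ((key v₀ hv₀).trans (neg_eq_of_add_eq_zero_right (by
        rw [← two_smul (ZMod 2) v₀, show (2 : ZMod 2) = 0 from rfl, zero_smul])))
    refine ⟨hq, fun v => ?_⟩
    by_cases hv : ρ c v = v
    · have hvw : ρ c (v + v₀) ≠ v + v₀ := by simpa [map_add, hv] using hv₀
      have h := key _ hvw
      rw [map_add, hv, key v₀ hv₀, neg_add, add_left_inj] at h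
      rw [hv]; exact h
    · exact key v hv
  obtain ⟨hq2, hz1⟩ := central z hzc hz
  have h2 : (2 : ZMod q) ≠ 0 := by
    intro h
    have : ((2 : ℕ) : ZMod q) = 0 := by exact_mod_cast h
    rw [ZMod.natCast_eq_zero_iff] at this
    exact hq2 ((Nat.prime_dvd_prime_iff_eq Fact.out Nat.prime_two).1 this)
  have htor : ∀ v : V, v = -v → v = 0 := by
    intro v h
    have : (2 : ZMod q) • v = 0 := by rw [two_smul]; nth_rewrite 2 [h]; exact add_neg_cancel v
    exact (smul_eq_zero.1 this).resolve_left h2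
  let T := {g : G // orderOf g = 2 ∧ g ∉ Subgroup.center G}
  let P : G → Submodule (ZMod q) V := fun g => LinearMap.eqLocus (ρ g : V →ₗ[ZMod q] V) LinearMap.id
  have hP : ∀ g v, v ∈ P g ↔ ρ g v = v := fun g v => Iff.rfl
  have hinT : ∀ g : G, g ≠ 1 → g * g = 1 → g ≠ z → orderOf g = 2 ∧ g ∉ Subgroup.center G := by
    intro g hg hgg hgz
    have ho : orderOf g = 2 := orderOf_eq_prime (by rw [pow_two, hgg]) hg
    exact ⟨ho, fun hc => hgz (hfaith g z fun v => by rw [(central g hc ho).2, hz1])⟩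
  have hfixT : ∀ v : V, v ≠ 0 → ∃ t : T, ρ t.1 v = v := by
    intro v hv
    obtain ⟨g, hg1, hg2, hgv⟩ := exi v hv
    refine ⟨⟨g, hinT g hg1 hg2 ?_⟩, hgv⟩
    rintro rfl
    exact hv (htor v (hgv.symm.trans (hz1 v)))
  have hTz : ∀ t : T, orderOf (t.1 * z) = 2 ∧ t.1 * z ∉ Subgroup.center G := by
    intro t
    have hzz : z * z = 1 := by rw [← pow_two, ← hz, pow_orderOf_eq_one]
    have htt : t.1 * t.1 = 1 := by
      have := pow_orderOf_eq_one t.1
      rwa [t.2.1, pow_two] at this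
    refine hinT _ (fun e => t.2.2 ?_) ?_ (fun e => hne1 _ t.2.1 (mul_eq_right.1 e))
    · rw [mul_eq_one_iff_eq_inv.1 e]; exact Subgroup.inv_mem _ hzc
    · calc t.1 * z * (t.1 * z) = t.1 * (z * t.1) * z := by simp [mul_assoc]
        _ = t.1 * (t.1 * z) * z := by rw [Subgroup.mem_center_iff.1 hzc t.1]
        _ = 1 := by rw [← mul_assoc, htt, one_mul, hzz]
  let tz : T → T := fun t => ⟨t.1 * z, hTz t⟩
  have hPtz : ∀ (t : T) v, v ∈ P (tz t).1 ↔ ρ t.1 v = -v := by
    intro t v
    change ρ (t.1 * z) v = v ↔ _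
    rw [hmul, hz1, map_neg, neg_eq_iff_eq_neg]
  have hprod : ∀ t : T, Nat.card (P t.1) * Nat.card (P (tz t).1) = Nat.card V := by
    intro t
    rw [← Nat.card_prod]
    refine Nat.card_eq_of_bijective (fun p => (p.1 : V) + p.2) ⟨?_, ?_⟩
    · rintro ⟨⟨a, ha⟩, ⟨b, hb⟩⟩ ⟨⟨c, hc⟩, ⟨d, hd⟩⟩ h
      simp only at h
      rw [hP] at ha hc
      rw [hPtz] at hb hd
      have h' := congrArg (ρ t.1) h
      rw [map_add, map_add, ha, hb, hc, hd] at h'
      have : a = c := by
        have e : a - c = -(a - c) := by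
          calc a - c = (a + -b) - (c + -d) + (b - d) := by abel
            _ = b - d := by rw [h', sub_self, zero_add]
            _ = (a + b) - (c + d) - (a - c) := by abel
            _ = -(a - c) := by rw [h, sub_self, zero_sub]
        exact sub_eq_zero.1 (htor _ e)
      subst this
      obtain rfl := add_left_cancel h
      rfl
    · intro v
      refine ⟨(⟨(2 : ZMod q)⁻¹ • (v + ρ t.1 v), ?_⟩, ⟨(2 : ZMod q)⁻¹ • (v - ρ t.1 v), ?_⟩), ?_⟩
      · rw [hP, map_smul, map_add, hsq _ t.2.1, add_comm]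
      · rw [hPtz, map_smul, map_sub, hsq _ t.2.1, ← smul_neg, neg_sub]
      · change (2 : ZMod q)⁻¹ • (v + ρ t.1 v) + (2 : ZMod q)⁻¹ • (v - ρ t.1 v) = v
        rw [← smul_add, show v + ρ t.1 v + (v - ρ t.1 v) = (2 : ZMod q) • v by
          rw [two_smul]; abel, smul_smul, inv_mul_cancel₀ h2, one_smul]
  have hle : ∀ t t' : T, t ≠ t' → Nat.card (P t.1) * Nat.card (P t'.1) ≤ Nat.card V := by
    intro t t' hne
    rw [← Nat.card_prod]
    refine Nat.card_le_card_of_injective (fun p => (p.1 : V) + p.2) ?_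
    rintro ⟨a, b⟩ ⟨c, d⟩ h
    simp only at h
    have hac : (a : V) - c = d - b := by
      rw [sub_eq_sub_iff_add_eq_add, h, add_comm]
    have : (a : V) - c = 0 := by
      by_contra hne0
      refine hne (Subtype.ext (uniq _ hne0 _ _ (hne1 _ t.2.1) (hne1 _ t'.2.1) ?_ ?_))
      · exact (P t.1).sub_mem a.2 c.2
      · rw [hac]; exact (P t'.1).sub_mem d.2 b.2
    obtain rfl : a = c := Subtype.ext (sub_eq_zero.1 this)
    obtain rfl : b = d := Subtype.ext (add_left_cancel h)
    rfl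
  have hne0 : ∀ t : T, ∃ v ∈ P t.1, v ≠ 0 := by
    intro t
    by_contra h
    push Not at h
    apply t.2.2
    have : t.1 = z := hfaith _ _ fun v => by
      have := h (v + ρ t.1 v) (by rw [hP, map_add, hsq _ t.2.1, add_comm])
      rw [hz1, eq_neg_of_add_eq_zero_right this]
    exact this ▸ hzc
  have hpos : ∀ t : T, 0 < Nat.card (P t.1) := fun t => Nat.card_pos
  have hcomp : ∀ t t' : T, t' ≠ t → t' ≠ tz t →
      Nat.card (P t'.1) ≤ Nat.card (P (tz t).1) ∧ Nat.card (P t'.1) ≤ Nat.card (P t.1) := by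
    intro t t' h h'
    refine ⟨Nat.le_of_mul_le_mul_left ((hle t t' (Ne.symm h)).trans_eq (hprod t).symm) (hpos t), ?_⟩
    refine Nat.le_of_mul_le_mul_left ((hle (tz t) t' (Ne.symm h')).trans_eq ?_) (hpos (tz t))
    rw [← hprod t, mul_comm]
  have htzz : ∀ t : T, tz (tz t) = t := fun t => Subtype.ext (by
    change t.1 * z * z = t.1
    have h : z * z = 1 := by rw [← pow_two, ← hz, pow_orderOf_eq_one]
    rw [mul_assoc, h, mul_one])
  have hthird : ∀ t : T, ∃ t' : T, t' ≠ t ∧ t' ≠ tz t := by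
    intro t
    obtain ⟨a, ha, ha0⟩ := hne0 t
    obtain ⟨b, hb, hb0⟩ := hne0 (tz t)
    rw [hP] at ha
    rw [hPtz] at hb
    have hab : a + b ≠ 0 := by
      intro e
      obtain rfl := eq_neg_of_add_eq_zero_left e
      rw [map_neg, hb, neg_neg] at ha
      exact hb0 (htor b ha)
    obtain ⟨t', ht'⟩ := hfixT _ hab
    refine ⟨t', ?_, ?_⟩ <;> rintro rfl
    · rw [map_add, ha, hb, add_right_inj] at ht'
      exact hb0 (htor b ht'.symm)
    · rw [show (ρ (tz t).1 (a + b) = a + b) = (a + b ∈ P (tz t).1) from rfl, hPtz, map_add, ha, hb,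
        neg_add, add_left_inj] at ht'
      exact ha0 (htor a ht')
  have hsame : ∀ t : T, Nat.card (P t.1) = Nat.card (P (tz t).1) := by
    intro t
    obtain ⟨t', h, h'⟩ := hthird t
    have h'' : tz t' ≠ t := fun e => h' (by rw [← e, htzz])
    have := hcomp t t' h h'
    have := hcomp t' t (Ne.symm h) (Ne.symm h'')
    have := hprod t
    have := hprod t'
    apply le_antisymm
    · have h3 := hcomp t' t (Ne.symm h) (Ne.symm h'')
      exact h3.2.trans (hcomp t t' h h').1
    · have h4 : tz t' ≠ tz t := fun e => h (by rw [← htzz t', e, htzz])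
      have h5 : t' ≠ tz t := h'
      exact ((hcomp t' (tz t) (Ne.symm h5) (Ne.symm h4)).2).trans (hcomp t t' h h').2
  obtain ⟨v₀, hv₀⟩ := exists_ne (0 : V)
  obtain ⟨t₀, -⟩ := hfixT v₀ hv₀
  set a := Nat.card (P t₀.1) with ha
  have hall : ∀ t : T, Nat.card (P t.1) = a := by
    intro t
    have h1 := hprod t
    have h2 := hprod t₀
    rw [← hsame] at h1 h2
    exact Nat.mul_self_inj.1 (h1.trans h2.symm)
  have hV : a * a = Nat.card V := by rw [← hprod t₀, ← hsame]
  have ha1 : 1 < a := by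
    obtain ⟨v, hv, hv0⟩ := hne0 t₀
    have : Nontrivial (P t₀.1) := ⟨⟨v, hv⟩, 0, fun e => hv0 (congrArg Subtype.val e)⟩
    exact Finite.one_lt_card
  let e : (Σ t : T, {v : P t.1 // v ≠ 0}) → {v : V // v ≠ 0} :=
    fun p => ⟨p.2.1, fun h => p.2.2 (Subtype.ext h)⟩
  have he : Function.Bijective e := by
    refine ⟨?_, fun ⟨v, hv⟩ => ?_⟩
    · rintro ⟨t, ⟨v, hv⟩, hv0⟩ ⟨t', ⟨v', hv'⟩, hv0'⟩ h
      obtain rfl : v = v' := congrArg Subtype.val h
      obtain rfl : t = t' := Subtype.ext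
        (uniq v (fun e => hv0 (Subtype.ext e)) _ _ (hne1 _ t.2.1) (hne1 _ t'.2.1) hv hv')
      rfl
    · obtain ⟨t, ht⟩ := hfixT v hv
      exact ⟨⟨t, ⟨v, ht⟩, fun e => hv (congrArg Subtype.val e)⟩, rfl⟩
  have hcount := Nat.card_eq_of_bijective e he
  have : Fintype T := Fintype.ofFinite T
  have hsub : ∀ t : T, Nat.card {v : P t.1 // v ≠ 0} = a - 1 := by
    intro t
    have : Fintype (P t.1) := Fintype.ofFinite _
    rw [← hall t, Nat.card_eq_fintype_card, Nat.card_eq_fintype_card, Fintype.card_subtype_compl,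
      Fintype.card_subtype_eq]
  have hVsub : Nat.card {v : V // v ≠ 0} = a * a - 1 := by
    have : Fintype V := Fintype.ofFinite _
    rw [hV, Nat.card_eq_fintype_card, Nat.card_eq_fintype_card, Fintype.card_subtype_compl,
      Fintype.card_subtype_eq]
  rw [Nat.card_sigma, Finset.sum_const_nat (fun t _ => hsub t), Finset.card_univ,
    ← Nat.card_eq_fintype_card, hVsub] at hcount
  obtain ⟨r, hr⟩ : ∃ r, a = q ^ r := by
    refine ⟨Module.finrank (ZMod q) (P t₀.1), ?_⟩
    rw [ha, Module.natCard_eq_pow_finrank (K := ZMod q), Nat.card_zmod]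
  refine ⟨r, by rw [← hV, hr, two_mul, pow_add], ?_⟩
  rw [← hr]
  obtain ⟨b, hb⟩ : ∃ b, a = b + 1 := ⟨a - 1, by omega⟩
  change Nat.card T = a + 1
  rw [hb] at hcount ha1 ⊢
  rw [Nat.add_sub_cancel, show (b + 1) * (b + 1) - 1 = (b + 1 + 1) * b by
    rw [show (b + 1) * (b + 1) = (b + 1 + 1) * b + 1 by ring, Nat.add_sub_cancel]] at hcount
  exact Nat.eq_of_mul_eq_mul_right (by omega) hcount

end Cfsg.Agent.S3381
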