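import Cfsg.Statements.S3383
import Cfsg.Agent.Lib.Frobenius.Basic

set_option autoImplicit false
open Cfsg
open scoped Pointwise

namespace Cfsg.Agent.S3383

/-- Let H be a Frobenius complement in a finite group L and K the Frobenius kernel (as a subgroup). Then K is characteristic in L, and every normal subgroup of L either contains K or is contained in K. -/
theorem result {L : Type*} [Group L] [Finite L]
    (H : Subgroup L) (hH : Cfsg.IsFrobeniusComplement H)
    (K : Subgroup L) (hK : (K : Set L) = Cfsg.frobeniusKernel H) :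
    K.Characteristic ∧ ∀ N : Subgroup L, N.Normal → K ≤ N ∨ N ≤ K := by
  obtain ⟨hKn, hc⟩ := Cfsg.Agent.Lib.Frobenius.normal_and_isComplement'_of_coe_eq hH hK
  have hidx : K.index = Nat.card H := hc.symm.index_eq_card
  have hcard : Nat.card K = H.index := hc.index_eq_card.symm
  have hcop : (Nat.card K).Coprime K.index := by
    rw [hidx, hcard]; exact (Cfsg.Agent.Lib.Frobenius.coprime_card_index hH).symm
  refine ⟨Subgroup.characteristic_iff_map_le.2 fun φ => ?_, fun N hN => or_iff_not_imp_right.2 fun hNK => ?_⟩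
  · rintro _ ⟨x, hx, rfl⟩
    rw [← QuotientGroup.eq_one_iff, ← orderOf_eq_one_iff]
    refine Nat.eq_one_of_dvd_coprimes hcop ?_ ?_
    · refine (orderOf_map_dvd (QuotientGroup.mk' K) (φ x)).trans ?_
      rw [MulEquiv.orderOf_eq, ← Subgroup.orderOf_mk x hx]
      exact orderOf_dvd_natCard _
    · rw [Subgroup.index_eq_card]; exact orderOf_dvd_natCard _
  · obtain ⟨y, hyN, hyK⟩ := SetLike.not_le_iff_exists.1 hNK
    have hy : ¬ (y = 1 ∨ ∀ g : L, y ∉ MulAut.conj g • H) := fun h => hyK (by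
      rw [← SetLike.mem_coe, hK]; exact h)
    push Not at hy
    obtain ⟨hy1, g, hg⟩ := hy
    rw [Cfsg.Agent.Lib.Frobenius.mem_conj_smul] at hg
    set h := g⁻¹ * y * g with hh
    have hhN : h ∈ N := by simpa [hh] using hN.conj_mem y hyN g⁻¹
    have hh1 : h ≠ 1 := fun e => hy1 (by
      calc y = g * (g⁻¹ * y * g) * g⁻¹ := by group
        _ = 1 := by rw [← hh, e]; group)
    let f : K → K := fun k => ⟨h * k * h⁻¹ * (k : L)⁻¹, K.mul_mem (hKn.conj_mem k k.2 h) (K.inv_mem k.2)⟩
    have hf : Function.Injective f := by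
      intro a b e
      have e' : h * a * h⁻¹ * (a : L)⁻¹ = h * b * h⁻¹ * (b : L)⁻¹ := congrArg Subtype.val e
      have hcc : h * ((b : L)⁻¹ * a) = (b : L)⁻¹ * a * h := by
        have e3 : a * h⁻¹ * (a : L)⁻¹ = b * h⁻¹ * (b : L)⁻¹ := by
          simpa [mul_assoc] using e'
        have e4 : (b : L) * h * (b : L)⁻¹ = a * h * (a : L)⁻¹ := by
          have := (congrArg (·⁻¹) e3).symm
          simpa [mul_assoc] using this
        have e2 : h * (b : L)⁻¹ * a = (b : L)⁻¹ * a * h := by
          calc h * (b : L)⁻¹ * a = (b : L)⁻¹ * ((b : L) * h * (b : L)⁻¹) * a := by group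
            _ = (b : L)⁻¹ * ((a : L) * h * (a : L)⁻¹) * a := by rw [e4]
            _ = (b : L)⁻¹ * a * h := by group
        rw [← mul_assoc]; exact e2
      have hmem : (b : L)⁻¹ * a ∈ H := Cfsg.Agent.Lib.Frobenius.mem_of_commute hH hg hh1 hcc
      have h0 : (b : L)⁻¹ * a = 1 := Subgroup.disjoint_def.1 hc.disjoint (K.mul_mem (K.inv_mem b.2) a.2) hmem
      exact Subtype.ext (inv_mul_eq_one.1 h0).symm
    intro k hk
    obtain ⟨a, ha⟩ := (Finite.injective_iff_surjective.1 hf) ⟨k, hk⟩
    rw [show k = h * a * h⁻¹ * (a : L)⁻¹ from (congrArg Subtype.val ha).symm,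
      show h * a * h⁻¹ * (a : L)⁻¹ = h * (a * h⁻¹ * (a : L)⁻¹) by group]
    exact N.mul_mem hhN (hN.conj_mem _ (N.inv_mem hhN) a)

end Cfsg.Agent.S3383
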